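import Cfsg.Statements.S0254
import Cfsg.Agent.Lib.SmallSimple.Alternating
import Cfsg.Agent.Lib.LinearGroups.Basic
import Mathlib


set_option autoImplicit false
open Cfsg

namespace Cfsg.Agent.S0254

open Subgroup

abbrev K9 : Type := ℕ × ℕ

def m9 (x y : K9) : K9 :=
  ((x.1 * y.1 + x.2 * y.2) % 3, (x.1 * y.2 + x.2 * y.1 + x.2 * y.2) % 3)

def a9 (x y : K9) : K9 := ((x.1 + y.1) % 3, (x.2 + y.2) % 3)

def s9 (x y : K9) : K9 := ((x.1 + 2 * y.1) % 3, (x.2 + 2 * y.2) % 3)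

def ok9 (x : K9) : Prop := x.1 < 3 ∧ x.2 < 3

instance (x : K9) : Decidable (ok9 x) := inferInstanceAs (Decidable (_ ∧ _))

abbrev M9 : Type := K9 × K9 × K9 × K9

def mm : M9 → M9 → M9
  | (a, b, c, d), (e, f, g, h) =>
    (a9 (m9 a e) (m9 b g), a9 (m9 a f) (m9 b h), a9 (m9 c e) (m9 d g), a9 (m9 c f) (m9 d h))

def det9 : M9 → K9
  | (a, b, c, d) => s9 (m9 a d) (m9 b c)

def el (i j k l : ℕ) : M9 :=
  let e : ℕ → K9 := fun i => (i % 3, i / 3)
  (e i, e j, e k, e l)

def gens : List M9 := [el 1 1 0 1, el 1 0 4 1]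

def dec (n : ℕ) : M9 := el (n % 9) (n / 9 % 9) (n / 81 % 9) (n / 729 % 9)

def enc : M9 → ℕ
  | (a, b, c, d) => let e : K9 → ℕ := fun x => x.1 + 3 * x.2
    e a + 9 * e b + 81 * e c + 729 * e d

def codes : List ℕ := [730, 739, 1054, 748, 3979, 1067, 1378, 4717, 4001, 5032, 1077, 4226,
  1392, 4775, 4312, 4047, 599, 5091, 4884, 4239, 4469, 1400, 3741, 4749,
  5747, 4335, 2751, 594, 5216, 5063, 2337, 4935, 3831, 4291, 4521, 4559,
  3760, 4632, 537, 5697, 5990, 4352, 3039, 2694, 3156, 601, 5196, 6035,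
  2284, 312, 4905, 5502, 3851, 2590, 4495, 2901, 4612, 4073, 3806, 4680,
  534, 2400, 5686, 5952, 5324, 3076, 2472, 2718, 1803, 3086, 5461, 5260,
  2118, 5998, 5549, 2312, 306, 531, 6069, 3868, 2960, 2531, 5872, 2846,
  309, 4584, 4093, 2429, 4656, 2493, 2559, 1798, 5917, 5790, 5305, 464,
  3005, 5286, 3121, 2924, 5438, 5908, 2108, 2442, 5533, 5812, 2996, 1478,
  5836, 2878, 4104, 2374, 1784, 5771, 466, 1469, 2131, 5562, 1460, 459]

def elts : List M9 := codes.map dec

def succs : List (List ℕ) := [[1, 3, 5, 0, 8, 10, 12, 13, 15, 17, 2, 19, 21, 23, 25, 4, 27, 29, 31, 33,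
    34, 6, 36, 7, 39, 41, 43, 45, 46, 9, 48, 50, 52, 11, 54, 56, 58, 59, 60, 62,
    63, 14, 65, 67, 69, 16, 71, 73, 75, 76, 18, 70, 79, 81, 20, 83, 85, 86, 22, 88,
    77, 87, 24, 92, 94, 96, 89, 26, 91, 98, 100, 28, 102, 78, 104, 30, 84, 38, 47, 32,
    106, 90, 108, 109, 49, 35, 110, 111, 37, 103, 53, 112, 40, 113, 97, 114, 42, 64, 44, 80,
    51, 82, 116, 66, 117, 93, 99, 115, 101, 55, 57, 61, 68, 105, 119, 118, 72, 74, 107, 95],
  [2, 4, 6, 7, 9, 11, 0, 14, 16, 1, 18, 20, 22, 24, 3, 26, 28, 30, 32, 27,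
    5, 35, 37, 38, 40, 42, 44, 39, 8, 47, 49, 51, 10, 53, 55, 57, 45, 12, 61, 19,
    13, 64, 66, 68, 15, 70, 72, 74, 62, 17, 77, 78, 80, 65, 82, 84, 71, 21, 87, 89,
    90, 23, 91, 93, 95, 33, 25, 50, 97, 99, 36, 101, 103, 92, 29, 52, 59, 67, 31, 105,
    75, 107, 94, 100, 34, 60, 98, 106, 63, 76, 85, 48, 108, 88, 54, 41, 69, 43, 109, 96,
    115, 56, 112, 46, 111, 114, 58, 113, 73, 86, 117, 116, 118, 81, 79, 83, 104, 119, 102, 110]]

def parents : List (ℕ × ℕ) := [(0, 0), (0, 0), (1, 0), (0, 1), (1, 1), (0, 2), (1, 2), (1, 3), (0, 4), (1, 4),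
  (0, 5), (1, 5), (0, 6), (0, 7), (1, 7), (0, 8), (1, 8), (0, 9), (1, 10), (0, 11),
  (1, 11), (0, 12), (1, 12), (0, 13), (1, 13), (0, 14), (1, 15), (0, 16), (1, 16), (0, 17),
  (1, 17), (0, 18), (1, 18), (0, 19), (0, 20), (1, 21), (0, 22), (1, 22), (1, 23), (0, 24),
  (1, 24), (0, 25), (1, 25), (0, 26), (1, 26), (0, 27), (0, 28), (1, 29), (0, 30), (1, 30),
  (0, 31), (1, 31), (0, 32), (1, 33), (0, 34), (1, 34), (0, 35), (1, 35), (0, 36), (0, 37),
  (0, 38), (1, 38), (0, 39), (0, 40), (1, 41), (0, 42), (1, 42), (0, 43), (1, 43), (0, 44),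
  (1, 45), (0, 46), (1, 46), (0, 47), (1, 47), (0, 48), (0, 49), (1, 50), (1, 51), (0, 52),
  (1, 52), (0, 53), (1, 54), (0, 55), (1, 55), (0, 56), (0, 57), (1, 58), (0, 59), (1, 59),
  (1, 60), (1, 62), (0, 63), (1, 63), (0, 64), (1, 64), (0, 65), (1, 68), (0, 69), (1, 69),
  (0, 70), (1, 71), (0, 72), (1, 72), (0, 74), (1, 79), (0, 80), (1, 81), (0, 82), (0, 83),
  (0, 86), (0, 87), (0, 91), (0, 93), (0, 95), (1, 100), (0, 102), (0, 104), (1, 112), (0, 114)]

set_option maxRecDepth 100000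
set_option synthInstance.maxSize 2000

theorem elts_length : elts.length = 120 := by decide +kernel

theorem codes_nodup : codes.Nodup := by decide +kernel

theorem enc_dec : ∀ n ∈ codes, enc (dec n) = n := by decide +kernel

theorem elts_nodup : elts.Nodup :=
  List.Nodup.map_on (fun x hx y hy h => by rw [← enc_dec x hx, ← enc_dec y hy, h]) codes_nodup

theorem elts_zero : elts.getD 0 (el 0 0 0 0) = el 1 0 0 1 := by decide +kernel

theorem elts_succ : ∀ i ∈ List.range 120, ∀ k ∈ List.range 2,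
    (succs.getD k []).getD i 0 < 120 ∧
      mm (gens.getD k (el 0 0 0 0)) (elts.getD i (el 0 0 0 0)) =
        elts.getD ((succs.getD k []).getD i 0) (el 0 0 0 0) := by decide +kernel

theorem elts_closed : ∀ x ∈ elts, ∀ g ∈ gens, mm g x ∈ elts := by
  intro x hx g hg
  obtain ⟨i, hi, rfl⟩ := List.getElem_of_mem hx
  obtain ⟨k, hk, rfl⟩ := List.getElem_of_mem hg
  obtain ⟨h1, h2⟩ := elts_succ i (List.mem_range.2 (elts_length ▸ hi)) k (List.mem_range.2 hk)
  rw [List.getD_eq_getElem _ _ hi, List.getD_eq_getElem _ _ hk,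
    List.getD_eq_getElem _ _ (elts_length.symm ▸ h1)] at h2
  rw [h2]
  exact List.getElem_mem _

theorem elts_det : ∀ x ∈ elts, det9 x = (1, 0) := by decide +kernel

theorem gens_det : ∀ x ∈ gens, det9 x = (1, 0) := by decide +kernel

theorem elts_ok : ∀ x ∈ elts, ok9 x.1 ∧ ok9 x.2.1 ∧ ok9 x.2.2.1 ∧ ok9 x.2.2.2 := by decide +kernel

theorem elts_neg : el 2 0 0 2 ∈ elts := by
  refine List.mem_map.2 ⟨1460, ?_, ?_⟩ <;> decide +kernel

theorem elts_parents : ∀ i ∈ List.range 120, i ≠ 0 →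
    (parents.getD i (0, 0)).2 < i ∧ (parents.getD i (0, 0)).1 < 2 ∧
      elts.getD i (el 0 0 0 0) = mm (gens.getD (parents.getD i (0, 0)).1 (el 0 0 0 0))
        (elts.getD (parents.getD i (0, 0)).2 (el 0 0 0 0)) := by decide +kernel

theorem no_root : ∀ c : ZMod 3, c ^ 2 ≠ c + 1 := by decide

open Matrix in
theorem exists_subgroup_card {F : Type*} [Field F] [Fintype F] (hF : Fintype.card F = 9) :
    ∃ H : Subgroup (Matrix.SpecialLinearGroup (Fin 2) F),
      Nat.card H = 120 ∧ Subgroup.center (Matrix.SpecialLinearGroup (Fin 2) F) ≤ H := by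
  classical
  haveI : Fact (Nat.Prime 3) := ⟨Nat.prime_three⟩
  haveI : CharP F 3 := charP_of_card_eq_prime_pow (f := 2) (by simpa using hF)
  let ι : ZMod 3 →+* F := ZMod.castHom dvd_rfl F
  have h3 : (3 : F) = 0 := by exact_mod_cast CharP.cast_eq_zero F 3
  obtain ⟨γ, hγ⟩ : ∃ γ : F, γ ^ 2 = γ + 1 := by
    obtain ⟨r, hr⟩ := (FiniteField.isSquare_two_iff (F := F)).2 (by rw [hF]; decide)
    refine ⟨-(1 + r), ?_⟩
    linear_combination -hr + (r + 1) * h3
  let φ : K9 → F := fun x => (x.1 : F) + (x.2 : F) * γ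
  have hmod : ∀ n : ℕ, ((n % 3 : ℕ) : F) = (n : F) := fun n => by
    conv_rhs => rw [← Nat.mod_add_div n 3]
    rw [Nat.cast_add, Nat.cast_mul, Nat.cast_ofNat, h3, zero_mul, add_zero]
  have hadd : ∀ x y, φ (a9 x y) = φ x + φ y := fun x y => by
    simp only [φ, a9, hmod, Nat.cast_add]; ring
  have hsub : ∀ x y, φ (s9 x y) = φ x - φ y := fun x y => by
    simp only [φ, s9, hmod, Nat.cast_add, Nat.cast_mul, Nat.cast_ofNat]
    linear_combination ((y.1 : F) + (y.2 : F) * γ) * h3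
  have hmul : ∀ x y, φ (m9 x y) = φ x * φ y := fun x y => by
    simp only [φ, m9, hmod, Nat.cast_add, Nat.cast_mul]
    linear_combination -((x.2 : F) * (y.2 : F)) * hγ
  have hinj : ∀ x y, ok9 x → ok9 y → φ x = φ y → x = y := by
    intro x y hx hy h
    have hcast : ∀ m n : ℕ, m < 3 → n < 3 → ι (m : ZMod 3) = ι (n : ZMod 3) → m = n := fun m n hm hn h => by
      have := congrArg ZMod.val (ι.injective h)
      rwa [ZMod.val_natCast, ZMod.val_natCast, Nat.mod_eq_of_lt hm, Nat.mod_eq_of_lt hn] at this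
    have e : φ x = ι (x.1 : ZMod 3) + ι (x.2 : ZMod 3) * γ := by simp only [φ, map_natCast]
    have e' : φ y = ι (y.1 : ZMod 3) + ι (y.2 : ZMod 3) * γ := by simp only [φ, map_natCast]
    rw [e, e'] at h
    by_cases hb : (x.2 : ZMod 3) = (y.2 : ZMod 3)
    · rw [hb, add_left_inj] at h
      exact Prod.ext (hcast _ _ hx.1 hy.1 h) (hcast _ _ hx.2 hy.2 (congrArg ι hb))
    · exfalso
      have hι : ι ((x.2 : ZMod 3) - y.2) ≠ 0 := (map_ne_zero ι).2 (sub_ne_zero.2 hb)
      have hg : γ = ι (((y.1 : ZMod 3) - x.1) / ((x.2 : ZMod 3) - y.2)) := by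
        rw [map_div₀, eq_div_iff hι, map_sub, map_sub]
        linear_combination h
      rw [hg, ← map_pow, ← map_one ι, ← map_add] at hγ
      exact no_root _ (ι.injective hγ)
  have hone : φ (1, 0) = 1 := by simp [φ]
  let Φ : M9 → Matrix (Fin 2) (Fin 2) F := fun x => !![φ x.1, φ x.2.1; φ x.2.2.1, φ x.2.2.2]
  have hΦmul : ∀ x y, Φ (mm x y) = Φ x * Φ y := by
    rintro ⟨a, b, c, d⟩ ⟨e, f, g, h⟩
    simp only [Φ, mm, Matrix.mul_fin_two, hadd, hmul]
  have hΦinj : ∀ A ∈ elts, ∀ B ∈ elts, Φ A = Φ B → A = B := by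
    rintro ⟨a, b, c, d⟩ hA ⟨e, f, g, h⟩ hB heq
    obtain ⟨oa, ob, oc, od⟩ := elts_ok _ hA
    obtain ⟨oe, of', og, oh⟩ := elts_ok _ hB
    have e1 := congrFun (congrFun heq 0) 0
    have e2 := congrFun (congrFun heq 0) 1
    have e3 := congrFun (congrFun heq 1) 0
    have e4 := congrFun (congrFun heq 1) 1
    simp [Φ] at e1 e2 e3 e4
    exact Prod.ext (hinj _ _ oa oe e1) (Prod.ext (hinj _ _ ob of' e2) (Prod.ext (hinj _ _ oc og e3) (hinj _ _ od oh e4)))
  have hdet : ∀ x, det9 x = (1, 0) → (Φ x).det = 1 := by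
    rintro ⟨a, b, c, d⟩ h
    simp only [Φ, Matrix.det_fin_two_of, ← hmul, ← hsub]
    rw [show s9 (m9 a d) (m9 b c) = ((1, 0) : K9) from h, hone]
  let S : Set (Matrix.SpecialLinearGroup (Fin 2) F) := {x | ∃ g ∈ gens, x.1 = Φ g}
  have hΦI : Φ (el 1 0 0 1) = 1 := by
    ext i j
    fin_cases i <;> fin_cases j <;> simp [Φ, el, φ]
  have hle : ∀ x ∈ Subgroup.closure S, ∀ A ∈ elts, ∃ B ∈ elts, x.1 * Φ A = Φ B := by
    intro x hx
    have hx' : x ∈ Submonoid.closure S := by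
      rw [← Subgroup.closure_toSubmonoid_of_finite]; exact hx
    induction hx' using Submonoid.closure_induction with
    | mem y hy =>
      obtain ⟨g, hg, hyg⟩ := hy
      exact fun A hA => ⟨_, elts_closed A hA g hg, by rw [hyg, hΦmul]⟩
    | one => exact fun A hA => ⟨A, hA, by simp⟩
    | mul y z hy hz ihy ihz =>
      intro A hA
      obtain ⟨B, hB, hzB⟩ := ihz (by
        rw [← Subgroup.mem_toSubmonoid, Subgroup.closure_toSubmonoid_of_finite]; exact hz) A hA
      obtain ⟨C, hC, hyC⟩ := ihy (by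
        rw [← Subgroup.mem_toSubmonoid, Subgroup.closure_toSubmonoid_of_finite]; exact hy) B hB
      exact ⟨C, hC, by rw [Matrix.SpecialLinearGroup.coe_mul, mul_assoc, hzB, hyC]⟩
  have hI : el 1 0 0 1 ∈ elts := by
    rw [← elts_zero, List.getD_eq_getElem _ _ (by rw [elts_length]; norm_num)]
    exact List.getElem_mem _
  have hmem : ∀ i < 120, ∃ x ∈ Subgroup.closure S, x.1 = Φ (elts.getD i (el 0 0 0 0)) := by
    intro i
    induction i using Nat.strong_induction_on with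
    | _ i ih =>
      intro hi
      rcases eq_or_ne i 0 with rfl | hi0
      · exact ⟨1, one_mem _, by rw [elts_zero, hΦI]; rfl⟩
      obtain ⟨h1, h2, h3'⟩ := elts_parents i (List.mem_range.2 hi) hi0
      obtain ⟨x, hx, hxe⟩ := ih _ h1 (h1.trans hi)
      have hg : gens.getD (parents.getD i (0, 0)).1 (el 0 0 0 0) ∈ gens := by
        rw [List.getD_eq_getElem _ _ (by simpa [gens] using h2)]
        exact List.getElem_mem _
      let y : Matrix.SpecialLinearGroup (Fin 2) F := ⟨_, hdet _ (gens_det _ hg)⟩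
      refine ⟨y * x, mul_mem (Subgroup.subset_closure ⟨_, hg, rfl⟩) hx, ?_⟩
      rw [h3', hΦmul, Matrix.SpecialLinearGroup.coe_mul, hxe]
  let f : {A // A ∈ elts} → Subgroup.closure S := fun A => ⟨⟨Φ A.1, hdet _ (elts_det _ A.2)⟩, by
    obtain ⟨i, hi, hiA⟩ := List.getElem_of_mem A.2
    obtain ⟨x, hx, hxe⟩ := hmem i (elts_length ▸ hi)
    rw [List.getD_eq_getElem _ _ hi, hiA] at hxe
    have he : x = ⟨Φ A.1, hdet _ (elts_det _ A.2)⟩ := Subtype.ext hxe
    exact he ▸ hx⟩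
  have hf : Function.Bijective f := by
    refine ⟨fun A B h => Subtype.ext (hΦinj _ A.2 _ B.2 (congrArg (fun z : Subgroup.closure S => z.1.1) h)),
      fun x => ?_⟩
    obtain ⟨B, hB, hxB⟩ := hle x x.2 _ hI
    refine ⟨⟨B, hB⟩, Subtype.ext (Subtype.ext ?_)⟩
    rw [hΦI, mul_one] at hxB
    exact hxB.symm
  refine ⟨Subgroup.closure S, ?_, ?_⟩
  · rw [← Nat.card_congr (Equiv.ofBijective f hf), Nat.card_eq_fintype_card,
      Fintype.card_of_subtype elts.toFinset (fun x => List.mem_toFinset),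
      List.toFinset_card_of_nodup elts_nodup, elts_length]
  · intro z hz
    obtain ⟨r, hr, hzr⟩ := Matrix.SpecialLinearGroup.mem_center_iff.1 hz
    rw [Fintype.card_fin] at hr
    have hzI : z.1 = Φ (el 1 0 0 1) ∨ z.1 = Φ (el 2 0 0 2) := by
      rcases sq_eq_one_iff.1 hr with rfl | rfl
      · exact Or.inl (by rw [hΦI, ← hzr, map_one])
      · right
        rw [← hzr]
        have h21 : (2 : F) = -1 := by linear_combination h3
        ext i j
        fin_cases i <;> fin_cases j <;> simp [Φ, el, φ, h21]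
    rcases hzI with hh | hh
    · have : z = (f ⟨_, hI⟩).1 := Subtype.ext hh
      rw [this]; exact (f _).2
    · have : z = (f ⟨_, elts_neg⟩).1 := Subtype.ext hh
      rw [this]; exact (f _).2

/-- PSL_2(9) is isomorphic to A_6. -/
theorem result {F : Type*} [Field F] [Fintype F] (hF : Fintype.card F = 9) : Nonempty (Matrix.ProjectiveSpecialLinearGroup (Fin 2) F ≃* alternatingGroup (Fin 6)) := by
  haveI : IsSimpleGroup (Matrix.ProjectiveSpecialLinearGroup (Fin 2) F) :=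
    Matrix.ProjectiveSpecialLinearGroup.rank_two_simple (by rw [Nat.card_eq_fintype_card, hF]; norm_num)
  have hS : Nat.card (Matrix.SpecialLinearGroup (Fin 2) F) = 720 := by
    have h := LinGrp.natCard_SL_mul (F := F) 2 (by omega)
    rw [hF, Fin.prod_univ_two] at h
    norm_num at h
    omega
  have hP : Nat.card (Matrix.ProjectiveSpecialLinearGroup (Fin 2) F) = 360 := by
    have h := LinGrp.natCard_PSL_mul (n := Fin 2) (F := F)
    rw [hS, Fintype.card_fin, Nat.card_eq_fintype_card (α := F), hF] at h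
    norm_num at h
    omega
  obtain ⟨H, hH, hc⟩ := exists_subgroup_card hF
  set π := QuotientGroup.mk' (Subgroup.center (Matrix.SpecialLinearGroup (Fin 2) F))
  have hidx : H.index = 6 := by
    have h := H.card_mul_index
    rw [hH, hS] at h
    omega
  have htop : H.map π ≠ ⊤ := by
    intro h
    have hcm := congrArg (Subgroup.comap π) h
    rw [Subgroup.comap_map_eq, QuotientGroup.ker_mk', sup_eq_left.2 hc, Subgroup.comap_top] at hcm
    rw [hcm, index_top] at hidx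
    omega
  have hd : (H.map π).index ∣ 6 := hidx ▸ H.index_map_dvd (QuotientGroup.mk'_surjective _)
  have h6 : (H.map π).index = 6 := by
    have hf := SmallSimple.card_dvd_factorial_index htop
    rw [hP] at hf
    have key : ∀ n ∈ Nat.divisors 6, 360 ∣ n.factorial → n = 6 := by decide
    exact key _ (Nat.mem_divisors.2 ⟨hd, by norm_num⟩) hf
  exact SmallSimple.mulEquiv_alternating_of_injective (by norm_num) h6 _
    (SmallSimple.toPermHom_injective htop) (by rw [hP]; rfl)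

end Cfsg.Agent.S0254
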