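import Cfsg.Statements.S0447
import Mathlib
import Cfsg.Prelude.Def_SporadicB

set_option autoImplicit false
open Cfsg

namespace Cfsg.Agent.S0447

open Equiv

theorem pres_step {K : Type*} [Group K] [Finite K] (X : ℕ → K) (m : ℕ)
    (h3 : ∀ i, i < m + 1 → X i ^ 3 = 1)
    (h2 : ∀ i, i < m + 1 → ∀ j, j < m + 1 → i ≠ j → (X i * X j) ^ 2 = 1) :
    Nat.card (Subgroup.closure (X '' {i | i < m + 1})) ≤
      Nat.card (Subgroup.closure (X '' {i | i < m})) * (m + 3) := by
  set L := Subgroup.closure (X '' {i | i < m}) with hL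
  set y := X m with hy
  let t : Fin (m + 3) → K := fun k =>
    if (k : ℕ) = 0 then 1 else if (k : ℕ) = 1 then y else if (k : ℕ) = 2 then y * y
      else y * y * X ((k : ℕ) - 3)
  have cube : ∀ i, i < m + 1 → X i * (X i * X i) = 1 := fun i hi => by
    rw [← mul_assoc]; simpa [pow_succ, pow_two, mul_assoc] using h3 i hi
  have flip : ∀ i, i < m + 1 → ∀ j, j < m + 1 → i ≠ j →
      X i * X j = X j * X j * (X i * X i) := fun i hi j hj hij => by
    have h := h2 i hi j hj hij
    rw [pow_two] at h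
    have e1 : (X i)⁻¹ = X i * X i := inv_eq_of_mul_eq_one_right (cube i hi)
    have e2 : (X j)⁻¹ = X j * X j := inv_eq_of_mul_eq_one_right (cube j hj)
    calc X i * X j = (X i * X j)⁻¹ := (inv_eq_of_mul_eq_one_right h).symm
      _ = (X j)⁻¹ * (X i)⁻¹ := mul_inv_rev _ _
      _ = X j * X j * (X i * X i) := by rw [e1, e2]
  let S : Set K := {g | ∃ l ∈ L, ∃ k, g = l * t k}
  have hXL : ∀ i, i < m → X i ∈ L := fun i hi => Subgroup.subset_closure ⟨i, hi, rfl⟩
  have m0 : ∀ l ∈ L, l ∈ S := fun l hl => ⟨l, hl, ⟨0, by omega⟩, by simp [t]⟩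
  have m1 : ∀ l ∈ L, l * y ∈ S := fun l hl => ⟨l, hl, ⟨1, by omega⟩, by simp [t]⟩
  have m2 : ∀ l ∈ L, l * (y * y) ∈ S := fun l hl => ⟨l, hl, ⟨2, by omega⟩, by simp [t]⟩
  have m3 : ∀ l ∈ L, ∀ i, i < m → l * (y * y * X i) ∈ S := fun l hl i hi =>
    ⟨l, hl, ⟨i + 3, by omega⟩, by simp [t]⟩
  have hm : m < m + 1 := Nat.lt_succ_self m
  have step : ∀ g ∈ S, ∀ j, j < m + 1 → g * X j ∈ S := by
    rintro _ ⟨l, hl, ⟨k, hk⟩, rfl⟩ j hj
    by_cases hk0 : k = 0
    · subst hk0
      simp only [t, if_true, mul_one]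
      rcases Nat.lt_succ_iff_lt_or_eq.1 hj with hjm | rfl
      · exact m0 _ (mul_mem hl (hXL j hjm))
      · exact m1 l hl
    by_cases hk1 : k = 1
    · subst hk1
      simp only [t, if_true, one_ne_zero, if_false]
      rcases Nat.lt_succ_iff_lt_or_eq.1 hj with hjm | rfl
      · rw [mul_assoc, hy, flip m hm j hj (by omega), ← mul_assoc]
        exact m2 _ (mul_mem hl (mul_mem (hXL j hjm) (hXL j hjm)))
      · rw [mul_assoc]; exact m2 l hl
    by_cases hk2 : k = 2
    · subst hk2
      simp only [t, if_true, show (2 : ℕ) ≠ 0 by omega, show (2 : ℕ) ≠ 1 by omega, if_false]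
      rcases Nat.lt_succ_iff_lt_or_eq.1 hj with hjm | rfl
      · rw [mul_assoc]; exact m3 l hl j hjm
      · rw [mul_assoc, hy, mul_assoc (X j), cube j hj, mul_one]; exact m0 l hl
    simp only [t, hk0, hk1, hk2, if_false]
    obtain ⟨i, rfl⟩ : ∃ i, k = i + 3 := ⟨k - 3, by omega⟩
    rw [Nat.add_sub_cancel]
    have hi : i < m := by omega
    have hi' : i < m + 1 := by omega
    rcases Nat.lt_succ_iff_lt_or_eq.1 hj with hjm | rfl
    · by_cases hij : i = j
      · subst hij
        have e : y * y * (X i * X i) = X i * y := (flip i hi' m hm (by omega)).symm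
        rw [mul_assoc, mul_assoc (y * y) (X i), e, ← mul_assoc]
        exact m1 _ (mul_mem hl (hXL i hi))
      · have e : y * y * X i * X j = X j * (X i * X i) * (y * y * X i) := by
          calc y * y * X i * X j = y * y * (X j * X j * (X i * X i)) := by
                rw [mul_assoc (y * y), flip i hi' j hj hij]
            _ = y * y * (X j * X j) * (X i * X i) := by group
            _ = X j * y * (X i * X i) := by rw [← flip j hj m hm (by omega)]
            _ = X j * (y * X i) * X i := by group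
            _ = X j * (X i * X i * (y * y)) * X i := by rw [hy, flip m hm i hi' (by omega)]
            _ = _ := by group
        rw [mul_assoc, e, ← mul_assoc]
        exact m3 _ (mul_mem hl (mul_mem (hXL j hjm) (mul_mem (hXL i hi) (hXL i hi)))) i hi
    · have e : y * y * X i * y = X i * X i * (y * y * X i) := by
        calc y * y * X i * y = y * y * (y * y * (X i * X i)) := by
              rw [mul_assoc (y * y), hy, flip i hi' j hm (by omega)]
          _ = y * (y * (y * y)) * (X i * X i) := by group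
          _ = y * (X i * X i) := by rw [hy, cube j hm, mul_one]
          _ = (y * X i) * X i := by group
          _ = X i * X i * (y * y) * X i := by rw [hy, flip j hm i hi' (by omega)]
          _ = _ := by group
      rw [mul_assoc, ← hy, e, ← mul_assoc]
      exact m3 _ (mul_mem hl (mul_mem (hXL i hi) (hXL i hi))) i hi
  have hle : ∀ g ∈ Subgroup.closure (X '' {i | i < m + 1}), g ∈ S := by
    intro g hg
    induction hg using Subgroup.closure_induction_right with
    | one => exact m0 1 (one_mem _)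
    | mul_right x hx z hz hxS =>
      obtain ⟨i, hi, rfl⟩ := hz
      exact step _ hxS i hi
    | mul_inv_cancel x hx z hz hxS =>
      obtain ⟨i, hi, rfl⟩ := hz
      rw [inv_eq_of_mul_eq_one_right (cube i hi), ← mul_assoc]
      exact step _ (step _ hxS i hi) i hi
  let f : L × Fin (m + 3) → K := fun p => p.1 * t p.2
  calc Nat.card (Subgroup.closure (X '' {i | i < m + 1}))
      ≤ Nat.card (Set.range f) := Nat.card_mono (Set.toFinite _) fun g hg => by
        obtain ⟨l, hl, k, rfl⟩ := hle g hg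
        exact ⟨(⟨l, hl⟩, k), rfl⟩
    _ ≤ Nat.card (L × Fin (m + 3)) := Finite.card_range_le f
    _ = _ := by rw [Nat.card_prod, Nat.card_fin]

/-- the presentation of the alternating group by three-cycles -/
theorem pres_card {K : Type*} [Group K] [Finite K] (X : ℕ → K) : ∀ m, (∀ i, i < m → X i ^ 3 = 1) →
    (∀ i, i < m → ∀ j, j < m → i ≠ j → (X i * X j) ^ 2 = 1) →
    2 * Nat.card (Subgroup.closure (X '' {i | i < m})) ≤ Nat.factorial (m + 2) := by
  intro m
  induction m with
  | zero => intro _ _; simp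
  | succ m ih =>
    intro h3 h2
    have h := pres_step X m h3 h2
    have h' := ih (fun i hi => h3 i (by omega)) (fun i hi j hj => h2 i (by omega) j (by omega))
    rw [show m + 1 + 2 = (m + 2) + 1 by omega, Nat.factorial_succ]
    calc 2 * Nat.card (Subgroup.closure (X '' {i | i < m + 1}))
        ≤ 2 * (Nat.card (Subgroup.closure (X '' {i | i < m})) * (m + 3)) := Nat.mul_le_mul_left 2 h
      _ = 2 * Nat.card (Subgroup.closure (X '' {i | i < m})) * (m + 3) := by ring
      _ ≤ Nat.factorial (m + 2) * (m + 3) := Nat.mul_le_mul_right _ h'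
      _ = _ := by ring

/-- the three-cycle `(0 1 k+2)` -/
def cyc (m k : ℕ) : Perm (Fin (m + 2)) :=
  if h : k < m then swap 0 ⟨k + 2, by omega⟩ * swap 0 1 else 1

theorem cyc_props (m : ℕ) : (∀ i, i < m → cyc m i ^ 3 = 1 ∧ cyc m i ∈ alternatingGroup (Fin (m + 2))) ∧
    ∀ i, i < m → ∀ j, j < m → i ≠ j →
      (cyc m i * cyc m j) ^ 2 = 1 ∧ cyc m i * cyc m j ≠ 1 := by
  refine ⟨fun i hi => ?_, fun i hi j hj hij => ?_⟩
  · have h : (cyc m i).IsThreeCycle := by
      rw [cyc, dif_pos hi]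
      refine Perm.isThreeCycle_swap_mul_swap_same (Ne.symm ?_) (by simp) ?_ <;>
        simp [Fin.ext_iff, Fin.val_one]
    refine ⟨?_, Perm.mem_alternatingGroup.2 h.sign⟩
    rw [← h.orderOf]; exact pow_orderOf_eq_one _
  · set a : Fin (m + 2) := ⟨i + 2, by omega⟩ with ha
    set b : Fin (m + 2) := ⟨j + 2, by omega⟩ with hb
    have h01 : (0 : Fin (m + 2)) ≠ 1 := by simp [Fin.ext_iff]
    have hb0 : b ≠ 0 := by simp [b, Fin.ext_iff]
    have hb1 : b ≠ 1 := by simp [b, Fin.ext_iff]
    have hab : a ≠ b := by simp [a, b, Fin.ext_iff, hij]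
    have ha0 : a ≠ 0 := by simp [a, Fin.ext_iff]
    have ha1 : a ≠ 1 := by simp [a, Fin.ext_iff]
    have e : cyc m i * cyc m j = swap 0 a * swap 1 b := by
      rw [cyc, dif_pos hi, cyc, dif_pos hj, ← ha, ← hb, mul_assoc,
        show swap (0 : Fin (m + 2)) 1 * (swap 0 b * swap 0 1) = swap 1 b from by
          rw [← mul_assoc]
          conv_lhs => rw [show swap (0 : Fin (m + 2)) 1 * swap 0 b * swap 0 1 =
            swap 0 1 * swap 0 b * (swap 0 1)⁻¹ by rw [swap_inv]]
          rw [← swap_apply_apply, swap_apply_left, swap_apply_of_ne_of_ne hb0 hb1]]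
    have hd : Perm.Disjoint (swap (0 : Fin (m + 2)) a) (swap 1 b) := by
      intro x
      by_cases hx : x = 0 ∨ x = a
      · exact Or.inr (swap_apply_of_ne_of_ne (by rcases hx with rfl | rfl <;> assumption)
          (by rcases hx with rfl | rfl <;> first | exact hb0.symm | exact hab))
      · push Not at hx
        exact Or.inl (swap_apply_of_ne_of_ne hx.1 hx.2)
    rw [e]
    refine ⟨?_, fun h => ?_⟩
    · rw [hd.commute.mul_pow, pow_two, pow_two, swap_mul_self, swap_mul_self, one_mul]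
    · exact ha0 (by
        have := congrArg (fun f : Perm (Fin (m + 2)) => f 0) h
        rwa [Perm.mul_apply, swap_apply_of_ne_of_ne h01 hb0.symm, swap_apply_left, Perm.one_apply] at this)

theorem cyc_gen (m : ℕ) :
    alternatingGroup (Fin (m + 2)) ≤ Subgroup.closure (cyc m '' {i | i < m}) := by
  set M := Subgroup.closure (cyc m '' {i | i < m}) with hM
  set s : Perm (Fin (m + 2)) := swap 0 1 with hs
  have hss : s * s = 1 := swap_mul_self _ _
  have hsi : s⁻¹ = s := swap_inv _ _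
  have hnorm : ∀ g ∈ M, s * g * s ∈ M := by
    intro g hg
    induction hg using Subgroup.closure_induction with
    | mem x hx =>
      obtain ⟨i, hi, rfl⟩ := hx
      have : s * cyc m i * s = (cyc m i)⁻¹ := by
        rw [cyc, dif_pos (show i < m from hi), mul_inv_rev, swap_inv, ← hs, mul_assoc, mul_assoc, hss, mul_one,
          Equiv.swap_inv]
      rw [this]; exact inv_mem (Subgroup.subset_closure ⟨i, hi, rfl⟩)
    | one => rw [mul_one, hss]; exact one_mem M
    | mul x y _ _ hx hy =>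
      rw [show s * (x * y) * s = (s * x * s) * (s * y * s) by
        rw [show (s * x * s) * (s * y * s) = s * x * (s * s) * y * s by group, hss, mul_one]; group]
      exact mul_mem hx hy
    | inv x _ hx =>
      rw [show s * x⁻¹ * s = (s * x * s)⁻¹ by rw [mul_inv_rev, mul_inv_rev, hsi, mul_assoc]]
      exact inv_mem hx
  let P : Perm (Fin (m + 2)) → Prop := fun g => g ∈ M ∨ g * s ∈ M
  have h0 : ∀ a : Fin (m + 2), ∀ g, P g → P (swap 0 a * g) := by
    intro a g hg
    by_cases ha : a = 0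
    · subst ha; rwa [swap_self, ← Perm.one_def, one_mul]
    have ht : swap 0 a * s ∈ M := by
      by_cases ha1 : a = 1
      · subst ha1; rw [← hs, hss]; exact one_mem M
      · have h2 : 2 ≤ (a : ℕ) := by
          have h0' : (a : ℕ) ≠ 0 := fun h => ha (Fin.ext h)
          have h1' : (a : ℕ) ≠ 1 := fun h => ha1 (Fin.ext (by simpa using h))
          omega
        refine Subgroup.subset_closure ⟨(a : ℕ) - 2, show (a : ℕ) - 2 < m by omega, ?_⟩
        rw [cyc, dif_pos (by omega), hs]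
        congr 2
        exact Fin.ext (by simp; omega)
    rcases hg with hg | hg
    · refine Or.inr ?_
      have : swap 0 a * g * s = (swap 0 a * s) * (s * g * s) := by
        rw [show (swap 0 a * s) * (s * g * s) = swap 0 a * (s * s) * g * s by group, hss, mul_one]
      rw [this]; exact mul_mem ht (hnorm g hg)
    · refine Or.inl ?_
      have : swap 0 a * g = (swap 0 a * s) * (s * (g * s) * s) := by
        rw [show (swap 0 a * s) * (s * (g * s) * s) = swap 0 a * (s * s) * g * (s * s) by group,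
          hss, mul_one, mul_one]
      rw [this]; exact mul_mem ht (hnorm _ hg)
  have hall : ∀ g, P g := by
    intro g
    induction g using Perm.swap_induction_on with
    | one => exact Or.inl (one_mem M)
    | swap_mul f x y hxy ih =>
      by_cases hx : x = 0
      · subst hx; exact h0 y f ih
      by_cases hy : y = 0
      · subst hy; rw [swap_comm]; exact h0 x f ih
      have : swap x y = swap 0 x * (swap 0 y * swap 0 x) := by
        rw [← mul_assoc]
        conv_rhs => rw [show swap (0 : Fin (m + 2)) x * swap 0 y * swap 0 x =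
          swap 0 x * swap 0 y * (swap 0 x)⁻¹ by rw [swap_inv]]
        rw [← swap_apply_apply, swap_apply_left, swap_apply_of_ne_of_ne hy hxy.symm]
      rw [this, mul_assoc, mul_assoc]
      exact h0 _ _ (h0 _ _ (h0 _ _ ih))
  intro g hg
  refine (hall g).resolve_right fun h => ?_
  have hMA : M ≤ alternatingGroup (Fin (m + 2)) := by
    rw [hM, Subgroup.closure_le]
    rintro _ ⟨i, hi, rfl⟩
    exact ((cyc_props m).1 i hi).2
  have h1 := Perm.mem_alternatingGroup.1 (hMA h)
  rw [map_mul, Perm.mem_alternatingGroup.1 hg, hs, Perm.sign_swap (by simp [Fin.ext_iff]),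
    one_mul] at h1
  exact absurd h1 (by decide)

theorem card_alt (m : ℕ) : 2 * Nat.card (alternatingGroup (Fin (m + 2))) = Nat.factorial (m + 2) := by
  rw [two_mul_nat_card_alternatingGroup, Nat.card_perm, Nat.card_fin]

theorem conj_involutions {m : ℕ} (hm : m ≤ 5) (a b : alternatingGroup (Fin (m + 2)))
    (ha : orderOf a = 2) (hb : orderOf b = 2) :
    ∃ c : alternatingGroup (Fin (m + 2)), c * a * c⁻¹ = b := by
  haveI : Fact (Nat.Prime 2) := ⟨Nat.prime_two⟩
  have ct : ∀ u : alternatingGroup (Fin (m + 2)), orderOf u = 2 →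
      (u : Perm (Fin (m + 2))).cycleType = Multiset.replicate 2 2 := by
    intro u hu
    rw [← Subgroup.orderOf_coe] at hu
    obtain ⟨k, hk⟩ := Perm.cycleType_prime_order (hu.symm ▸ Nat.prime_two)
    rw [hu] at hk
    have hs : (u : Perm (Fin (m + 2))).support.card ≤ m + 2 := by
      simpa using Finset.card_le_univ (u : Perm (Fin (m + 2))).support
    rw [← Perm.sum_cycleType, hk, Multiset.sum_replicate, smul_eq_mul] at hs
    have hsign := Perm.mem_alternatingGroup.1 u.2
    rw [Perm.sign_of_cycleType, hk, Multiset.sum_replicate, Multiset.card_replicate, smul_eq_mul] at hsign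
    have he : Even ((k + 1) * 2 + (k + 1)) := (neg_one_pow_eq_one_iff_even (by decide)).1 hsign
    have : k = 1 := by
      rw [Nat.even_iff] at he; omega
    rw [hk, this]
  obtain ⟨c, hc⟩ := isConj_iff.1 (Perm.isConj_iff_cycleType_eq.2 ((ct a ha).trans (ct b hb).symm))
  rcases Int.units_eq_one_or (Perm.sign c) with h | h
  · exact ⟨⟨c, Perm.mem_alternatingGroup.2 h⟩, Subtype.ext hc⟩
  · obtain ⟨x, hx⟩ : ∃ x, (a : Perm (Fin (m + 2))) x ≠ x := by
      by_contra hh
      push Not at hh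
      have : a = 1 := Subtype.ext (Equiv.ext hh)
      rw [this, orderOf_one] at ha; omega
    set w := swap x ((a : Perm (Fin (m + 2))) x) with hw
    have ha2 : (a : Perm (Fin (m + 2))) * a = 1 := by
      have := pow_orderOf_eq_one a
      rw [ha, pow_two] at this
      exact congrArg Subtype.val this
    have hwa : w * a * w⁻¹ = (a : Perm (Fin (m + 2))) := by
      have h1 : (a : Perm (Fin (m + 2))) * w * (a : Perm (Fin (m + 2)))⁻¹ = w := by
        rw [hw, ← swap_apply_apply, ← Perm.mul_apply, ha2, Perm.one_apply, swap_comm]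
      have h2 : (a : Perm (Fin (m + 2))) * w = w * a := mul_inv_eq_iff_eq_mul.1 h1
      rw [← h2, mul_inv_cancel_right]
    refine ⟨⟨c * w, Perm.mem_alternatingGroup.2 (by
      rw [map_mul, h, hw, Perm.sign_swap (Ne.symm hx)]; decide)⟩, Subtype.ext ?_⟩
    show c * w * a * (c * w)⁻¹ = (b : Perm (Fin (m + 2)))
    rw [← hc]
    calc c * w * a * (c * w)⁻¹ = c * (w * a * w⁻¹) * c⁻¹ := by group
      _ = _ := by rw [hwa]

theorem unique_involution {n : ℕ} (hn : n ≤ 7) {H : Type} [Group H] [Finite H]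
    (hH : Cfsg.IsNonsplitDoubleCover H (alternatingGroup (Fin n))) (x : H) (hx : orderOf x = 2) :
    x ∈ Subgroup.center H := by
  classical
  obtain ⟨hc2, ⟨e⟩, hsplit⟩ := hH
  by_contra hxc
  set π : H →* alternatingGroup (Fin n) := e.toMonoidHom.comp (QuotientGroup.mk' (Subgroup.center H))
  have hker : ∀ h, π h = 1 ↔ h ∈ Subgroup.center H := fun h => by
    show e (QuotientGroup.mk' _ h) = 1 ↔ _
    rw [e.map_eq_one_iff]
    exact QuotientGroup.eq_one_iff h
  have hπ : Function.Surjective π := e.surjective.comp (QuotientGroup.mk'_surjective _)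
  have hx2 : x * x = 1 := by rw [← pow_two, ← hx]; exact pow_orderOf_eq_one x
  have hs2 : π x * π x = 1 := by rw [← map_mul, hx2, map_one]
  have hso : orderOf (π x) = 2 :=
    orderOf_eq_prime (by rw [pow_two]; exact hs2) fun h => hxc ((hker x).1 h)
  obtain ⟨m, rfl⟩ : ∃ m, n = m + 2 := by
    rcases n with _ | _ | n
    · exact absurd hso (by
        rw [show π x = 1 from Subtype.ext (Equiv.ext fun a => a.elim0), orderOf_one]; omega)
    · exact absurd hso (by
        rw [show π x = 1 from Subtype.ext (Equiv.ext fun a => Fin.ext (by omega)), orderOf_one]; omega)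
    · exact ⟨n, rfl⟩
  have hz2 : ∀ c ∈ Subgroup.center H, c * c = 1 := fun c hc => by
    have := pow_card_eq_one' (G := Subgroup.center H) (x := ⟨c, hc⟩)
    rw [hc2, pow_two] at this
    exact congrArg Subtype.val this
  have hlift : ∀ u : H, π u * π u = 1 → u * u = 1 := by
    intro u hu
    by_cases hu1 : π u = 1
    · exact hz2 u ((hker u).1 hu1)
    obtain ⟨c, hc⟩ := conj_involutions (by omega) (π x) (π u) hso
      (orderOf_eq_prime (by rw [pow_two]; exact hu) hu1)
    obtain ⟨c', rfl⟩ := hπ c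
    have hd : (c' * x * c'⁻¹)⁻¹ * u ∈ Subgroup.center H := (hker _).1 (by
      rw [map_mul, map_inv, map_mul, map_mul, map_inv, hc, inv_mul_cancel])
    have hd2 := hz2 _ hd
    have hdc := Subgroup.mem_center_iff.1 hd (c' * x * c'⁻¹)
    have hy2 : c' * x * c'⁻¹ * (c' * x * c'⁻¹) = 1 := by
      rw [show c' * x * c'⁻¹ * (c' * x * c'⁻¹) = c' * (x * x) * c'⁻¹ by group, hx2]; group
    set y := c' * x * c'⁻¹
    calc u * u = (y * (y⁻¹ * u)) * (y * (y⁻¹ * u)) := by group
      _ = y * ((y⁻¹ * u) * y) * (y⁻¹ * u) := by group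
      _ = y * (y * (y⁻¹ * u)) * (y⁻¹ * u) := by rw [hdc]
      _ = (y * y) * ((y⁻¹ * u) * (y⁻¹ * u)) := by group
      _ = 1 := by rw [hy2, hd2, one_mul]
  have hX : ∀ i, ∃ h : H, i < m → ((π h : alternatingGroup (Fin (m + 2))) : Perm (Fin (m + 2))) = cyc m i ∧ h ^ 3 = 1 := by
    intro i
    by_cases hi : i < m
    · obtain ⟨u, hu⟩ := hπ ⟨cyc m i, ((cyc_props m).1 i hi).2⟩
      have hu3 : u ^ 3 ∈ Subgroup.center H := (hker _).1 (Subtype.ext (by
        rw [map_pow, hu]; exact ((cyc_props m).1 i hi).1))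
      refine ⟨u * u ^ 3, fun _ => ⟨?_, ?_⟩⟩
      · rw [map_mul, (hker _).2 hu3, mul_one, hu]
      · have h2 := hz2 _ hu3
        calc (u * u ^ 3) ^ 3 = (u ^ 3 * u ^ 3) * (u ^ 3 * u ^ 3) := by
              rw [← pow_succ', ← pow_mul, ← pow_add, ← pow_add]
          _ = 1 := by rw [h2, one_mul]
    · exact ⟨1, fun h => absurd h hi⟩
  choose X hX using hX
  have h2X : ∀ i, i < m → ∀ j, j < m → i ≠ j → (X i * X j) ^ 2 = 1 := by
    intro i hi j hj hij
    rw [pow_two]
    refine hlift _ (Subtype.ext ?_)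
    rw [map_mul]
    show ((π (X i)).1 * (π (X j)).1) * ((π (X i)).1 * (π (X j)).1) = 1
    rw [(hX i hi).1, (hX j hj).1, ← pow_two]
    exact ((cyc_props m).2 i hi j hj hij).1
  set L := Subgroup.closure (X '' {i | i < m}) with hL
  have hle := pres_card X m (fun i hi => (hX i hi).2) h2X
  have himg : L.map π = ⊤ := by
    rw [eq_top_iff]
    intro g _
    have hg : (g : Perm (Fin (m + 2))) ∈ (L.map π).map (alternatingGroup (Fin (m + 2))).subtype := by
      refine (cyc_gen m).trans ?_ g.2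
      rw [Subgroup.closure_le]
      rintro _ ⟨i, hi, rfl⟩
      exact ⟨π (X i), ⟨X i, Subgroup.subset_closure ⟨i, hi, rfl⟩, rfl⟩, (hX i hi).1⟩
    obtain ⟨g', hg', he⟩ := hg
    rwa [← Subtype.ext (p := fun q => q ∈ alternatingGroup (Fin (m + 2))) he]
  have hsur : Function.Surjective (π.subgroupMap L) := π.subgroupMap_surjective L
  have hcardL : Nat.card L = Nat.card (L.map π) := by
    refine le_antisymm ?_ (Nat.card_le_card_of_surjective _ hsur)
    rw [himg, Subgroup.card_top]
    rw [← card_alt m] at hle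
    exact Nat.le_of_mul_le_mul_left hle two_pos
  have hinj : Function.Injective (π.subgroupMap L) :=
    ((Nat.bijective_iff_surjective_and_card _).2 ⟨hsur, hcardL⟩).1
  have hdisj : Disjoint (Subgroup.center H) L := by
    rw [Subgroup.disjoint_def]
    intro h hh hhL
    exact congrArg Subtype.val (hinj (a₁ := ⟨h, hhL⟩) (a₂ := 1) (Subtype.ext (by
      show π h = π 1
      rw [map_one, (hker h).2 hh])))
  refine hsplit L (Subgroup.isComplement'_of_card_mul_and_disjoint ?_ hdisj)
  rw [hcardL, himg, Subgroup.card_top, (Subgroup.center H).card_eq_card_quotient_mul_card_subgroup,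
    Nat.card_congr e.toEquiv, mul_comm]

abbrev M8 := Matrix (Fin 8) (Fin 8) (ZMod 3)

def mat0 : M8 :=
  !![1, 0, 0, 0, 2, 1, 0, 2;
    0, 1, 2, 2, 0, 0, 2, 0;
    0, 1, 1, 2, 0, 0, 1, 0;
    0, 1, 1, 1, 0, 0, 2, 0;
    1, 0, 0, 0, 1, 1, 0, 1;
    2, 0, 0, 0, 2, 1, 0, 1;
    0, 1, 2, 1, 0, 0, 1, 0;
    1, 0, 0, 0, 2, 2, 0, 1]

def mat1 : M8 :=
  !![1, 0, 0, 0, 2, 2, 0, 2;
    0, 1, 2, 2, 0, 0, 1, 0;
    0, 1, 1, 1, 0, 0, 1, 0;
    0, 1, 2, 1, 0, 0, 2, 0;
    1, 0, 0, 0, 1, 1, 0, 2;
    1, 0, 0, 0, 2, 1, 0, 1;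
    0, 2, 2, 1, 0, 0, 1, 0;
    1, 0, 0, 0, 1, 2, 0, 1]

def mat2 : M8 :=
  !![1, 0, 0, 1, 2, 0, 2, 0;
    0, 1, 2, 0, 0, 2, 0, 2;
    0, 1, 1, 0, 0, 1, 0, 2;
    2, 0, 0, 1, 1, 0, 2, 0;
    1, 0, 0, 2, 1, 0, 2, 0;
    0, 1, 2, 0, 0, 1, 0, 1;
    1, 0, 0, 1, 1, 0, 1, 0;
    0, 1, 1, 0, 0, 2, 0, 1]

def mat3 : M8 :=
  !![1, 0, 0, 2, 2, 0, 2, 0;
    0, 1, 2, 0, 0, 2, 0, 1;
    0, 1, 1, 0, 0, 2, 0, 2;
    1, 0, 0, 1, 1, 0, 2, 0;
    1, 0, 0, 2, 1, 0, 1, 0;
    0, 1, 1, 0, 0, 1, 0, 1;
    1, 0, 0, 1, 2, 0, 1, 0;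
    0, 2, 1, 0, 0, 2, 0, 1]

def mat4 : M8 :=
  !![1, 0, 1, 0, 0, 0, 2, 2;
    0, 1, 0, 2, 2, 2, 0, 0;
    2, 0, 1, 0, 0, 0, 1, 2;
    0, 1, 0, 1, 1, 2, 0, 0;
    0, 1, 0, 2, 1, 1, 0, 0;
    0, 1, 0, 1, 2, 1, 0, 0;
    1, 0, 2, 0, 0, 0, 1, 2;
    1, 0, 1, 0, 0, 0, 1, 1]

def mat5 : M8 :=
  !![1, 0, 2, 0, 0, 0, 2, 2;
    0, 1, 0, 2, 1, 2, 0, 0;
    1, 0, 1, 0, 0, 0, 1, 2;
    0, 1, 0, 1, 1, 1, 0, 0;
    0, 2, 0, 2, 1, 1, 0, 0;
    0, 1, 0, 2, 2, 1, 0, 0;
    1, 0, 2, 0, 0, 0, 1, 1;
    1, 0, 1, 0, 0, 0, 2, 1]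

/-- the spin matrices -/
def mat : Fin 6 → M8 := ![mat0, mat1, mat2, mat3, mat4, mat5]

def word : List (Fin 6) := [0, 1, 2, 3, 0, 1, 4, 5]

theorem mat_cube : ∀ i, mat i * (mat i * mat i) = 1 := by decide +kernel

theorem mat_rel : ∀ i j, i ≠ j → mat i * mat j * (mat i * mat j) = -1 := by decide +kernel

/-- the matrix as a unit -/
def unit (i : Fin 6) : M8ˣ :=
  ⟨mat i, mat i * mat i, mat_cube i, by rw [mul_assoc]; exact mat_cube i⟩

/-- the pair of a three-cycle and its spin matrix -/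
def gen (i : ℕ) : alternatingGroup (Fin 8) × M8ˣ :=
  if h : i < 6 then (⟨cyc 6 i, ((cyc_props 6).1 i h).2⟩, unit ⟨i, h⟩) else 1

/-- the double cover -/
def dbl : Subgroup (alternatingGroup (Fin 8) × M8ˣ) := Subgroup.closure (gen '' {i | i < 6})

/-- the central involution -/
def zz : alternatingGroup (Fin 8) × M8ˣ := (1, -1)

theorem zz_comm (g : alternatingGroup (Fin 8) × M8ˣ) : g * zz = zz * g := by
  refine Prod.ext ?_ ?_
  · show g.1 * 1 = 1 * g.1; rw [mul_one, one_mul]
  · show g.2 * -1 = -1 * g.2; exact Units.ext (by simp)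

theorem zz_sq : zz * zz = 1 := by
  refine Prod.ext (mul_one _) ?_
  show (-1 : M8ˣ) * -1 = 1
  simp

theorem zz_ne : zz ≠ 1 := fun h => by
  have h' : (((-1 : M8ˣ)) : M8) = 1 := congrArg (fun p : alternatingGroup (Fin 8) × M8ˣ => (p.2 : M8)) h
  exact absurd (congrFun (congrFun h' 0) 0) (by decide)

theorem gen_rel {i j : ℕ} (hi : i < 6) (hj : j < 6) (hij : i ≠ j) :
    gen i * gen j * (gen i * gen j) = zz := by
  rw [gen, dif_pos hi, gen, dif_pos hj]
  refine Prod.ext (Subtype.ext ?_) (Units.ext ?_)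
  · show cyc 6 i * cyc 6 j * (cyc 6 i * cyc 6 j) = 1
    rw [← pow_two]; exact ((cyc_props 6).2 i hi j hj hij).1
  · show mat ⟨i, hi⟩ * mat ⟨j, hj⟩ * (mat ⟨i, hi⟩ * mat ⟨j, hj⟩) = ((-1 : M8ˣ) : M8)
    rw [mat_rel _ _ (by simp [Fin.ext_iff, hij]), Units.val_neg, Units.val_one]

theorem gen_mem {i : ℕ} (hi : i < 6) : gen i ∈ dbl := Subgroup.subset_closure ⟨i, hi, rfl⟩

theorem zz_mem : zz ∈ dbl := by
  rw [← gen_rel (i := 0) (j := 1) (by omega) (by omega) (by omega)]
  exact mul_mem (mul_mem (gen_mem (by omega)) (gen_mem (by omega)))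
    (mul_mem (gen_mem (by omega)) (gen_mem (by omega)))

theorem fst_ker {g : alternatingGroup (Fin 8) × M8ˣ} (hg : g ∈ dbl) (h1 : g.1 = 1) :
    g = 1 ∨ g = zz := by
  classical
  let Zd : Subgroup dbl := Subgroup.zpowers ⟨zz, zz_mem⟩
  haveI : Zd.Normal := ⟨fun a ha c => by
    obtain ⟨k, rfl⟩ := ha
    refine ⟨k, ?_⟩
    have hc : Commute c (⟨zz, zz_mem⟩ : dbl) := Subtype.ext (zz_comm c.1)
    show (⟨zz, zz_mem⟩ : dbl) ^ k = c * (⟨zz, zz_mem⟩ : dbl) ^ k * c⁻¹
    rw [(hc.zpow_right k).eq, mul_inv_cancel_right]⟩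
  let f : dbl →* alternatingGroup (Fin 8) := (MonoidHom.fst _ _).comp dbl.subtype
  have hZ : Zd ≤ f.ker := by
    rw [Subgroup.zpowers_le]; rfl
  let fbar := QuotientGroup.lift Zd f hZ
  let Y : ℕ → dbl ⧸ Zd := fun i => if h : i < 6 then QuotientGroup.mk' Zd ⟨gen i, gen_mem h⟩ else 1
  have hY3 : ∀ i, i < 6 → Y i ^ 3 = 1 := fun i hi => by
    simp only [Y, dif_pos hi, ← map_pow]
    rw [show (⟨gen i, gen_mem hi⟩ : dbl) ^ 3 = 1 from Subtype.ext (by
      show gen i ^ 3 = 1
      rw [gen, dif_pos hi]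
      refine Prod.ext (Subtype.ext ?_) (Units.ext ?_)
      · exact ((cyc_props 6).1 i hi).1
      · show mat ⟨i, hi⟩ ^ 3 = 1
        rw [pow_succ', pow_two]; exact mat_cube _), map_one]
  have hY2 : ∀ i, i < 6 → ∀ j, j < 6 → i ≠ j → (Y i * Y j) ^ 2 = 1 := fun i hi j hj hij => by
    simp only [Y, dif_pos hi, dif_pos hj, ← map_mul, ← map_pow]
    refine (QuotientGroup.eq_one_iff _).2 ?_
    rw [show ((⟨gen i, gen_mem hi⟩ : dbl) * ⟨gen j, gen_mem hj⟩) ^ 2 = ⟨zz, zz_mem⟩ from
      Subtype.ext (by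
        show (gen i * gen j) ^ 2 = zz
        rw [pow_two]; exact gen_rel hi hj hij)]
    exact Subgroup.mem_zpowers _
  have htop : Subgroup.closure (Y '' {i | i < 6}) = ⊤ := by
    rw [eq_top_iff]
    intro q hq
    clear hq
    obtain ⟨⟨d, hd⟩, rfl⟩ := QuotientGroup.mk'_surjective Zd q
    induction hd using Subgroup.closure_induction with
    | mem x hx =>
      obtain ⟨i, hi, rfl⟩ := hx
      exact Subgroup.subset_closure ⟨i, hi, by simp only [Y]; rw [dif_pos (show i < 6 from hi)]⟩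
    | one => exact one_mem _
    | mul a b ha hb iha ihb =>
      rw [show (⟨a * b, mul_mem ha hb⟩ : dbl) = ⟨a, ha⟩ * ⟨b, hb⟩ from rfl, map_mul]
      exact mul_mem iha ihb
    | inv a ha iha =>
      rw [show (⟨a⁻¹, inv_mem ha⟩ : dbl) = ⟨a, ha⟩⁻¹ from rfl, map_inv]
      exact inv_mem iha
  have hcard := pres_card Y 6 hY3 hY2
  rw [htop, Subgroup.card_top, ← card_alt 6] at hcard
  have hsur : Function.Surjective fbar := by
    intro a
    have hle : alternatingGroup (Fin 8) ≤ fbar.range.map (alternatingGroup (Fin 8)).subtype := by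
      refine (cyc_gen 6).trans ?_
      rw [Subgroup.closure_le]
      rintro _ ⟨i, hi, rfl⟩
      refine ⟨(gen i).1, ⟨QuotientGroup.mk' Zd ⟨gen i, gen_mem hi⟩, rfl⟩, ?_⟩
      rw [gen, dif_pos (show i < 6 from hi)]; rfl
    obtain ⟨a', ⟨q, hq⟩, ha'⟩ := hle a.2
    exact ⟨q, hq.trans (Subtype.ext ha')⟩
  have hinj : Function.Injective fbar :=
    ((Nat.bijective_iff_surjective_and_card _).2 ⟨hsur, le_antisymm
      (Nat.le_of_mul_le_mul_left hcard two_pos) (Nat.card_le_card_of_surjective _ hsur)⟩).1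
  have h2 : (⟨g, hg⟩ : dbl) ∈ Zd := (QuotientGroup.eq_one_iff _).1
    (hinj (a₁ := QuotientGroup.mk' Zd ⟨g, hg⟩) (a₂ := 1) (by rw [map_one]; exact h1))
  obtain ⟨k, hk⟩ := h2
  have hk' : zz ^ k = g := (map_zpow dbl.subtype ⟨zz, zz_mem⟩ k).symm.trans (congrArg Subtype.val hk)
  have hzz : zz ^ (2 : ℤ) = 1 := by rw [zpow_two]; exact zz_sq
  rcases Int.even_or_odd k with ⟨r, rfl⟩ | ⟨r, rfl⟩
  · left; rw [← hk', ← two_mul, zpow_mul, hzz, one_zpow]
  · right; rw [← hk', zpow_add, zpow_mul, hzz, one_zpow, one_mul, zpow_one]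

theorem word_val : ((word.map (fun i => cyc 6 i)).prod ≠ 1) ∧
    ((word.map (fun i => cyc 6 i)).prod * (word.map (fun i => cyc 6 i)).prod = 1) ∧
    ((word.map mat).prod * (word.map mat).prod = 1) := by decide +kernel

theorem exists_cover : ∃ (H : Type) (_ : Group H) (_ : Finite H),
    Cfsg.IsNonsplitDoubleCover H (alternatingGroup (Fin 8)) ∧
      ∃ x y : H, x ≠ y ∧ orderOf x = 2 ∧ orderOf y = 2 := by
  classical
  let π : dbl →* alternatingGroup (Fin 8) := (MonoidHom.fst _ _).comp dbl.subtype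
  have hπ : Function.Surjective π := by
    intro a
    have hle : alternatingGroup (Fin 8) ≤ π.range.map (alternatingGroup (Fin 8)).subtype := by
      refine (cyc_gen 6).trans ?_
      rw [Subgroup.closure_le]
      rintro _ ⟨i, hi, rfl⟩
      refine ⟨(gen i).1, ⟨⟨gen i, gen_mem hi⟩, rfl⟩, ?_⟩
      rw [gen, dif_pos (show i < 6 from hi)]; rfl
    obtain ⟨a', ⟨q, hq⟩, ha'⟩ := hle a.2
    exact ⟨q, hq.trans (Subtype.ext ha')⟩
  let zd : dbl := ⟨zz, zz_mem⟩
  have hz1 : zd ≠ 1 := fun h => zz_ne (congrArg Subtype.val h)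
  have hz2 : zd * zd = 1 := Subtype.ext zz_sq
  have hker : ∀ d : dbl, π d = 1 ↔ d = 1 ∨ d = zd := fun d => by
    refine ⟨fun h => ?_, ?_⟩
    · rcases fst_ker d.2 h with e | e
      · exact Or.inl (Subtype.ext e)
      · exact Or.inr (Subtype.ext e)
    · rintro (rfl | rfl)
      · exact map_one π
      · rfl
  haveI hsimple : IsSimpleGroup (alternatingGroup (Fin 8)) :=
    alternatingGroup.isSimpleGroup (by simp)
  have hcenA : Subgroup.center (alternatingGroup (Fin 8)) = ⊥ := by
    rcases Subgroup.Normal.eq_bot_or_eq_top (H := Subgroup.center (alternatingGroup (Fin 8)))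
      inferInstance with h | h
    · exact h
    · exfalso
      have hmem : (⟨cyc 6 0, ((cyc_props 6).1 0 (by omega)).2⟩ : alternatingGroup (Fin 8)) ∈
          Subgroup.center _ := h.ge (Subgroup.mem_top _)
      have h' := congrArg Subtype.val
        ((Subgroup.mem_center_iff.1 hmem) ⟨cyc 6 1, ((cyc_props 6).1 1 (by omega)).2⟩)
      exact absurd h' (show ¬ cyc 6 1 * cyc 6 0 = cyc 6 0 * cyc 6 1 by decide)
  have hcen : Subgroup.center dbl = π.ker := by
    ext d
    rw [MonoidHom.mem_ker]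
    refine ⟨fun hd => ?_, fun hd => ?_⟩
    · rw [← Subgroup.mem_bot, ← hcenA, Subgroup.mem_center_iff]
      intro a
      obtain ⟨b, rfl⟩ := hπ a
      rw [← map_mul, ← map_mul, Subgroup.mem_center_iff.1 hd b]
    · rw [Subgroup.mem_center_iff]
      intro b
      rcases (hker d).1 hd with rfl | rfl
      · rw [mul_one, one_mul]
      · exact Subtype.ext (zz_comm b.1)
  have hc2 : Nat.card (Subgroup.center dbl) = 2 := by
    rw [hcen, Nat.card_eq_two_iff]
    refine ⟨⟨1, one_mem _⟩, ⟨zd, (hker zd).2 (Or.inr rfl)⟩, fun h => hz1 (congrArg Subtype.val h).symm, ?_⟩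
    refine Set.eq_univ_of_forall fun d => ?_
    rcases (hker d.1).1 d.2 with h | h
    · exact Or.inl (Subtype.ext h)
    · exact Or.inr (Subtype.ext h)
  refine ⟨dbl, inferInstance, inferInstance, ⟨hc2, ⟨?_⟩, ?_⟩, ?_⟩
  · exact (QuotientGroup.quotientMulEquivOfEq hcen).trans
      (QuotientGroup.quotientKerEquivOfSurjective π hπ)
  · intro L hL
    have hlift : ∀ d : dbl, ∃ l ∈ L, d = l ∨ d = zd * l := by
      intro d
      obtain ⟨⟨⟨c, hc⟩, ⟨l, hl⟩⟩, rfl⟩ := hL.2 d
      have hc' : π c = 1 := MonoidHom.mem_ker.1 (hcen ▸ hc)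
      refine ⟨l, hl, ?_⟩
      rcases (hker c).1 hc' with rfl | rfl
      · exact Or.inl (one_mul l)
      · exact Or.inr rfl
    set p : dbl := ⟨gen 0, gen_mem (by omega)⟩ * ⟨gen 1, gen_mem (by omega)⟩
    have hp : p * p = zd := Subtype.ext (gen_rel (by omega) (by omega) (by omega))
    have hzL : zd ∈ L := by
      obtain ⟨l, hl, h | h⟩ := hlift p
      · rw [← hp, h]; exact mul_mem hl hl
      · have hl2 : l * l = zd := by
          rw [← hp, h]
          calc l * l = (zd * zd) * (l * l) := by rw [hz2, one_mul]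
            _ = zd * (zd * l) * l := by group
            _ = zd * (l * zd) * l := by rw [show zd * l = l * zd from Subtype.ext (zz_comm l.1).symm]
            _ = zd * l * (zd * l) := by group
        rw [← hl2]; exact mul_mem hl hl
    have hzc : zd ∈ Subgroup.center dbl := by rw [hcen]; exact (hker zd).2 (Or.inr rfl)
    exact hz1 (Subgroup.disjoint_def.1 hL.disjoint hzc hzL)
  · let w : dbl := (word.map fun i : Fin 6 => (⟨gen i, gen_mem i.2⟩ : dbl)).prod
    have hw1 : ((π w : alternatingGroup (Fin 8)) : Perm (Fin 8)) = (word.map (fun i => cyc 6 i)).prod := by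
      simp only [w, map_list_prod, List.map_map, SubmonoidClass.coe_list_prod]
      congr 1
    have hw2 : (((w : alternatingGroup (Fin 8) × M8ˣ).2) : M8) = (word.map mat).prod := by
      show (Units.coeHom M8).comp ((MonoidHom.snd _ _).comp dbl.subtype) w = _
      simp only [w, map_list_prod, List.map_map]
      congr 1
    have hne : π w ≠ 1 := fun h => word_val.1 (by rw [← hw1, h]; rfl)
    have hw : w * w = 1 := by
      refine Subtype.ext (Prod.ext (Subtype.ext ?_) (Units.ext ?_))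
      · show ((π w : alternatingGroup (Fin 8)) : Perm (Fin 8)) * (π w : alternatingGroup (Fin 8)) = 1
        rw [hw1]; exact word_val.2.1
      · show (((w : alternatingGroup (Fin 8) × M8ˣ).2) : M8) * (((w : alternatingGroup (Fin 8) × M8ˣ).2) : M8) = 1
        rw [hw2]; exact word_val.2.2
    refine ⟨zd, w, fun h => hne ((hker w).2 (Or.inr h.symm)),
      orderOf_eq_prime (by rw [pow_two]; exact hz2) hz1,
      orderOf_eq_prime (by rw [pow_two]; exact hw) fun h => hne (by rw [h, map_one])⟩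


/-- Involutions in double covers of alternating groups: for n ≤ 7, a finite non-split double cover of the alternating group of degree n has exactly one element of order 2 (the central one); for degree 8 there is a non-split double cover with two distinct involutions. -/
theorem result : (∀ (n : ℕ) (H : Type) (_ : Group H) (_ : Finite H), n ≤ 7 → Cfsg.IsNonsplitDoubleCover H (alternatingGroup (Fin n)) → ∀ x y : H, orderOf x = 2 → orderOf y = 2 → x = y) ∧ ∃ (H : Type) (_ : Group H) (_ : Finite H), Cfsg.IsNonsplitDoubleCover H (alternatingGroup (Fin 8)) ∧ ∃ x y : H, x ≠ y ∧ orderOf x = 2 ∧ orderOf y = 2 := by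
  refine ⟨fun n H _ _ hn hH x y hx hy => ?_, exists_cover⟩
  have hxc := unique_involution hn hH x hx
  have hyc := unique_involution hn hH y hy
  haveI : Fintype (Subgroup.center H) := Fintype.ofFinite _
  by_contra hxy
  classical
  have h3 : ({1, ⟨x, hxc⟩, ⟨y, hyc⟩} : Finset (Subgroup.center H)).card = 3 := by
    rw [Finset.card_eq_three]
    refine ⟨_, _, _, ?_, ?_, ?_, rfl⟩
    · intro h; rw [show x = 1 from (congrArg Subtype.val h).symm, orderOf_one] at hx; omega
    · intro h; rw [show y = 1 from (congrArg Subtype.val h).symm, orderOf_one] at hy; omega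
    · exact fun h => hxy (congrArg Subtype.val h)
  have h4 := Finset.card_le_univ ({1, ⟨x, hxc⟩, ⟨y, hyc⟩} : Finset (Subgroup.center H))
  rw [h3, ← Nat.card_eq_fintype_card, hH.1] at h4
  omega

end Cfsg.Agent.S0447
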