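import Cfsg.Statements.S0320
import Cfsg.Agent.Lib.BN.Basic

set_option autoImplicit false
open Cfsg

namespace Cfsg.Agent.S0320

section
variable {G : Type*} [Group G] (P : Cfsg.BNPair G)

/-- The Coxeter matrix given by the orders of products of generators. -/
noncomputable def cox : CoxeterMatrix P.S where
  M := Matrix.of fun s t => orderOf (BN.g P s * BN.g P t)
  isSymm := by
    ext s t
    show orderOf (BN.g P t * BN.g P s) = orderOf (BN.g P s * BN.g P t)
    rw [← orderOf_inv (BN.g P t * BN.g P s)]
    simp
  diagonal s := by simp
  off_diagonal s t hst h := by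
    simp only [Matrix.of_apply, orderOf_eq_one_iff, mul_eq_one_iff_eq_inv, BN.g_inv] at h
    exact hst (BN.g_injective P h)

/-- Product of a word in the Coxeter group. -/
noncomputable def cp (l : List P.S) : (cox P).Group := (l.map (cox P).simple).prod

theorem simple_self (s : P.S) : (cox P).simple s * (cox P).simple s = 1 :=
  (cox P).toCoxeterSystem.simple_mul_simple_self s

/-- Alternating word. -/
def alt {α : Type*} : α → α → ℕ → List α
  | _, _, 0 => []
  | a, b, (j+1) => a :: alt b a j

theorem alt_length {α : Type*} (a b : α) : ∀ j, (alt a b j).length = j := by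
  intro j
  induction j generalizing a b with
  | zero => rfl
  | succ j ih => simp [alt, ih]

theorem alt_dropLast {α : Type*} : ∀ (j : ℕ) (a b : α), (alt a b (j+1)).eraseIdx j = alt a b j := by
  intro j
  induction j with
  | zero => intro a b; rfl
  | succ j ih =>
    intro a b
    show a :: (alt b a (j+1)).eraseIdx j = _
    rw [ih]; rfl

theorem alt_pow {Γ : Type*} [Group Γ] (f : P.S → Γ) (hf : ∀ s, f s * f s = 1) :
    ∀ (j : ℕ) (a b : P.S), ((alt a b j).map f).prod * (((alt b a j).map f).prod)⁻¹ = (f a * f b) ^ j := by
  intro j
  induction j with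
  | zero => intro a b; simp [alt]
  | succ j ih =>
    intro a b
    have hb : (f b)⁻¹ = f b := inv_eq_of_mul_eq_one_right (hf b)
    have ha : (f a)⁻¹ = f a := inv_eq_of_mul_eq_one_right (hf a)
    simp only [alt, List.map_cons, List.prod_cons, mul_inv_rev]
    have := ih b a
    calc f a * ((alt b a j).map f).prod * ((((alt a b j).map f).prod)⁻¹ * (f b)⁻¹)
        = f a * (((alt b a j).map f).prod * (((alt a b j).map f).prod)⁻¹) * (f b)⁻¹ := by group
      _ = f a * (f b * f a) ^ j * (f b)⁻¹ := by rw [this]
      _ = (f a * f b) ^ (j + 1) := by
          have hc : SemiconjBy (f a) (f b * f a) (f a * f b) := by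
            simp only [SemiconjBy, mul_assoc]
          rw [hb, (hc.pow_right j).eq, pow_succ, mul_assoc]

theorem erase_alt : ∀ (j : ℕ) (a b : P.S) (i : ℕ), 0 < i → i + 1 < j →
    ∃ l : List P.S, l.length + 3 = j ∧ BN.wp P ((alt a b j).eraseIdx i) = BN.wp P l := by
  intro j
  induction j with
  | zero => intro a b i _ h; omega
  | succ j ih =>
    intro a b i h0 h1
    match i, h0 with
    | 1, _ =>
      obtain ⟨k, rfl⟩ : ∃ k, j = k + 2 := ⟨j - 2, by omega⟩
      exact ⟨alt b a k, by rw [alt_length], by simp [alt]⟩
    | (i + 2), _ =>
      obtain ⟨l, hl, he⟩ := ih b a (i + 1) (by omega) (by omega)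
      exact ⟨a :: l, by simp; omega, by simp [alt, he]⟩

theorem main : ∀ k, ∀ l l' : List P.S, BN.Reduced P l → BN.Reduced P l' → l.length = k →
    BN.wp P l = BN.wp P l' → cp P l = cp P l' := by
  intro k
  induction k with
  | zero =>
    intro l l' hl hl' hk he
    have : l'.length = 0 := by rw [← hl', ← he, hl, hk]
    simp_all [List.length_eq_zero_iff]
  | succ k ih =>
    -- words with the same first letter
    have same : ∀ (a : P.S) (u v : List P.S), BN.Reduced P (a :: u) → BN.Reduced P (a :: v) →
        u.length = k → BN.wp P (a :: u) = BN.wp P (a :: v) → cp P (a :: u) = cp P (a :: v) := by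
      intro a u v hu hv hk he
      have := ih u v (BN.reduced_tail P hu) (BN.reduced_tail P hv) hk (by simpa using he)
      simp only [cp, List.map_cons, List.prod_cons] at this ⊢
      rw [this]
    have step : ∀ n, ∀ (r : List P.S), r.length = n → ∀ (a b : P.S), a ≠ b → ∀ (j : ℕ), 0 < j →
        BN.Reduced P (alt a b j ++ r) → j + r.length = k + 1 →
        ∀ v : List P.S, BN.Reduced P (b :: v) → BN.wp P (alt a b j ++ r) = BN.wp P (b :: v) →
        cp P (alt a b j ++ r) = cp P (b :: v) := by
      intro n
      induction n using Nat.strong_induction_on with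
      | _ n ihn =>
        intro r hr a b hab j hj hred hlen v hv he
        have hlv : v.length = k := by
          have h1 : BN.len P (BN.wp P (b :: v)) = v.length + 1 := hv
          rw [← he, hred] at h1
          simp [alt_length] at h1
          omega
        have hlt : BN.len P (BN.g P b * BN.wp P (alt a b j ++ r)) < BN.len P (BN.wp P (alt a b j ++ r)) := by
          rw [he, BN.wp_cons, BN.g_mul_cancel, ← BN.wp_cons, hv, BN.reduced_tail P hv]
          simp
        obtain ⟨i, hi, hie⟩ := BN.exchange P hlt
        simp [alt_length] at hi
        by_cases hij : i < j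
        · rw [List.eraseIdx_append_of_lt_length (by rw [alt_length]; exact hij), BN.wp_append,
            BN.wp_append, ← mul_assoc] at hie
          have hie' := mul_right_cancel hie
          have hlow : ∀ l : List P.S, BN.wp P (alt a b j) = BN.wp P l → j ≤ l.length := by
            intro l hl
            have h1 := BN.len_le P (l ++ r)
            rw [BN.wp_append, ← hl, ← BN.wp_append, hred] at h1
            simpa [alt_length] using h1
          have hwb : BN.wp P (alt a b j) = BN.g P b * BN.wp P ((alt a b j).eraseIdx i) := by
            rw [← hie', BN.g_mul_cancel]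
          have hlast : i + 1 = j := by
            by_contra hne
            rcases Nat.eq_zero_or_pos i with rfl | hpos
            · obtain ⟨j', rfl⟩ : ∃ j', j = j' + 2 := ⟨j - 2, by omega⟩
              have := hlow (alt a b j') (by rw [hwb]; simp [alt])
              simp [alt_length] at this
            · obtain ⟨l, hl, hle⟩ := erase_alt P j a b i hpos (by omega)
              have := hlow (b :: l) (by rw [hwb, hle]; simp)
              simp at this
              omega
          subst hlast
          rw [alt_dropLast, ← BN.wp_cons] at hwb
          have hab' : BN.wp P (alt a b (i+1)) = BN.wp P (alt b a (i+1)) := hwb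
          have hpow := alt_pow P (BN.g P) (BN.g_mul_self P) (i+1) a b
          have hone : (BN.g P a * BN.g P b) ^ (i+1) = 1 := by
            rw [← hpow]
            exact mul_inv_eq_one.2 hab'
          have hdvd : orderOf (BN.g P a * BN.g P b) ∣ (i+1) := orderOf_dvd_of_pow_eq_one hone
          have hc : ((cox P).simple a * (cox P).simple b) ^ (i+1) = 1 := by
            obtain ⟨c, hc⟩ := hdvd
            rw [hc, pow_mul]
            have := (cox P).toCoxeterSystem.simple_mul_simple_pow a b
            rw [show (cox P) a b = orderOf (BN.g P a * BN.g P b) from rfl] at this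
            rw [← CoxeterMatrix.toCoxeterSystem_simple, this, one_pow]
          have hcp : cp P (alt a b (i+1)) = cp P (alt b a (i+1)) := by
            have := alt_pow P (cox P).simple (simple_self P) (i+1) a b
            rw [hc, mul_inv_eq_one] at this
            exact this
          have hwp2 : BN.wp P (b :: (alt a b i ++ r)) = BN.wp P (b :: v) := by
            rw [← he, BN.wp_append, hwb]
            simp [mul_assoc]
          have hred2 : BN.Reduced P (b :: (alt a b i ++ r)) := by
            have h1 : BN.len P (BN.wp P (b :: v)) = v.length + 1 := hv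
            simp only [BN.Reduced]
            rw [hwp2, h1]
            simp [alt_length]; omega
          have := same b _ v hred2 hv (by simp [alt_length]; omega) hwp2
          rw [← this]
          have hh : cp P (alt a b (i+1) ++ r) = cp P (alt b a (i+1) ++ r) := by
            simp only [cp, List.map_append, List.prod_append] at hcp ⊢
            rw [hcp]
          exact hh
        · rw [List.eraseIdx_append_of_length_le (by rw [alt_length]; omega), alt_length] at hie
          set r' := r.eraseIdx (i - j) with hr'
          have hrlen : r'.length + 1 = r.length := by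
            rw [hr', List.length_eraseIdx]
            have : i - j < r.length := by omega
            simp [this]; omega
          have hwp2 : BN.wp P (alt b a (j+1) ++ r') = BN.wp P (alt a b j ++ r) := by
            show BN.wp P (b :: (alt a b j ++ r')) = _
            rw [BN.wp_cons, ← hie, BN.g_mul_cancel]
          have hred2 : BN.Reduced P (alt b a (j+1) ++ r') := by
            simp only [BN.Reduced]
            rw [hwp2, hred]
            simp [alt_length]; omega
          have h1 : cp P (b :: (alt a b j ++ r')) = cp P (b :: v) :=
            same b _ v hred2 hv (by simp [alt_length]; omega) (by rw [← he]; exact hwp2)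
          rw [← h1]
          obtain ⟨j', rfl⟩ : ∃ j', j = j' + 1 := ⟨j - 1, by omega⟩
          exact (ihn r'.length (by omega) r' rfl b a hab.symm (j'+1+1) (by omega) hred2 (by omega)
            (alt b a j' ++ r) hred hwp2).symm
    intro l l' hl hl' hk he
    have hk' : l'.length = k + 1 := by rw [← hl', ← he, hl, hk]
    match l, l', hk, hk' with
    | a :: u, b :: v, hk, hk' =>
      by_cases hab : a = b
      · subst hab
        exact same a u v hl hl' (by simpa using hk) he
      · exact step u.length u rfl a b hab 1 one_pos hl (by simpa [Nat.add_comm] using hk) v hl' he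

theorem cp_reduced (l : List P.S) :
    ∃ l', BN.Reduced P l' ∧ BN.wp P l' = BN.wp P l ∧ cp P l' = cp P l := by
  induction l with
  | nil => exact ⟨[], by simp [BN.Reduced, BN.len_one], rfl, rfl⟩
  | cons s l ih =>
    obtain ⟨u, hu, he, hc⟩ := ih
    by_cases h : BN.Reduced P (s :: u)
    · exact ⟨s :: u, h, by simp [he], by simp only [cp, List.map_cons, List.prod_cons] at hc ⊢; rw [hc]⟩
    · have hlt := BN.lt_of_not_reduced P hu h
      obtain ⟨u', hu'1, hu'2⟩ := BN.exists_reduced P (BN.g P s * BN.wp P u)
      have hsu : BN.Reduced P (s :: u') := by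
        have h1 : BN.len P (BN.wp P u) ≤ BN.len P (BN.g P s * BN.wp P u) + 1 := by
          have := BN.len_mul_le P (BN.g P s) (BN.g P s * BN.wp P u)
          rw [BN.g_mul_cancel, BN.len_g] at this
          omega
        simp [BN.Reduced, hu'1, hu'2]
        omega
      have := main P u.length u (s :: u') hu hsu rfl (by simp [hu'1])
      refine ⟨u', by simp [BN.Reduced, hu'1, hu'2], by simp [hu'1, he], ?_⟩
      simp only [cp, List.map_cons, List.prod_cons] at hc this ⊢
      rw [← hc, this, ← mul_assoc, simple_self, one_mul]

end

/-- The Weyl group `W = N / (B ⊓ N)` of a (B,N)-pair, with its distinguished involutions, is a Coxeter system. -/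
theorem result {G : Type*} [Group G] (P : Cfsg.BNPair G)
    [hN : ((P.B ⊓ P.N).subgroupOf P.N).Normal] :
    ∃ (M : CoxeterMatrix P.S) (cs : CoxeterSystem M (P.N ⧸ (P.B ⊓ P.N).subgroupOf P.N)),
      ∀ s : P.S, cs.simple s = QuotientGroup.mk (⟨(s : G), P.subset s.2⟩ : P.N) := by
  have hf : (cox P).IsLiftable (BN.g P) := fun s t => pow_orderOf_eq_one _
  let φ := (cox P).toCoxeterSystem.lift ⟨BN.g P, hf⟩
  have hφ : ∀ l, φ (cp P l) = BN.wp P l := by
    intro l
    rw [cp, map_list_prod, List.map_map]
    unfold BN.wp
    congr 1
    apply List.map_congr_left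
    intro s _
    exact (cox P).toCoxeterSystem.lift_apply_simple hf s
  have hsurj : Function.Surjective φ := fun w => by
    obtain ⟨l, rfl⟩ := BN.exists_word P w
    exact ⟨_, hφ l⟩
  have hinj : Function.Injective φ := by
    rw [injective_iff_map_eq_one]
    intro x hx
    obtain ⟨l, rfl⟩ : ∃ l, cp P l = x := by
      refine (cox P).toCoxeterSystem.simple_induction_left (p := fun y => ∃ l, cp P l = y) x ⟨[], rfl⟩ ?_
      rintro w i ⟨l, rfl⟩
      exact ⟨i :: l, by simp [cp]⟩
    obtain ⟨l', hl', he, hc⟩ := cp_reduced P l
    rw [hφ, ← he] at hx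
    rw [BN.Reduced, hx, BN.len_one, eq_comm, List.length_eq_zero_iff] at hl'
    subst hl'
    exact hc.symm
  refine ⟨cox P, ⟨(MulEquiv.ofBijective φ ⟨hinj, hsurj⟩).symm⟩, fun s => ?_⟩
  exact (cox P).toCoxeterSystem.lift_apply_simple hf s

end Cfsg.Agent.S0320
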