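import Cfsg.Statements.S0319
import Cfsg.Agent.Lib.BN.Basic

set_option autoImplicit false
open Cfsg

namespace Cfsg.Agent.S0319

/-- Simplicity criterion for groups with a (B,N)-pair: if the distinguished generators admit no
splitting into two non-empty mutually commuting parts, `B` is solvable, `G` is perfect and the intersection
of all conjugates of `B` is trivial, then `G` is simple. -/
theorem result {G : Type*} [Group G] [Nontrivial G]
    (P : Cfsg.BNPair G) (hirr : P.Irreducible) (hsolv : Group.IsSolvable P.B) (hperf : commutator G = ⊤)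
    (hcore : P.B.normalCore = ⊥) : IsSimpleGroup G := by
  refine { eq_bot_or_eq_top_of_normal := fun H hH => ?_ }
  by_cases hle : H ≤ P.B
  · left
    rw [← le_bot_iff, ← hcore]
    exact (Subgroup.normal_le_normalCore).2 hle
  right
  have hBM : P.B ≤ P.B ⊔ H := le_sup_left
  have hM := BN.eq_parabolic P hBM
  have hMS : P.S ⊆ ((P.B ⊔ H : Subgroup G) : Set G) := by
    by_contra hcon
    obtain ⟨t0, ht0, ht0'⟩ := Set.not_subset.1 hcon
    have hJ : (P.S ∩ ((P.B ⊔ H : Subgroup G) : Set G)).Nonempty := by
      by_contra h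
      rw [Set.not_nonempty_iff_eq_empty] at h
      rw [h] at hM
      apply hle
      calc H ≤ P.B ⊔ H := le_sup_right
        _ = P.parabolic ∅ := hM
        _ ≤ P.B := by simp [BNPair.parabolic]
    obtain ⟨s, ⟨hs, hsM⟩, t, ⟨ht, htM'⟩, hst⟩ :=
      hirr _ Set.inter_subset_left hJ ⟨t0, ht0, fun h => ht0' h.2⟩
    have htM : t ∉ P.B ⊔ H := fun h => htM' ⟨ht, h⟩
    apply hst
    have hsM' : s ∈ ((P.B ⊔ H : Subgroup G) : Set G) := hsM
    rw [Subgroup.mul_normal] at hsM'
    obtain ⟨b, hb, h, hh, e⟩ := hsM'
    let S' : P.S := ⟨s, hs⟩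
    let T' : P.S := ⟨t, ht⟩
    have hne : S' ≠ T' := fun e' => htM (by
      have : s = t := congrArg Subtype.val e'
      rw [← this]; exact hsM)
    have h1 : h ∈ BN.C P (BN.g P S') := by
      have : h = b⁻¹ * s := by rw [← e]; group
      rw [this]
      exact BN.mul_mem_C_left P (inv_mem hb) (BN.g_mem_C P S')
    have hlen : BN.len P (BN.g P T' * BN.g P S') ≠ 0 := by
      intro h0
      have := BN.eq_one_of_len_eq_zero P h0
      rw [mul_eq_one_iff_eq_inv, BN.g_inv] at this
      exact hne (BN.g_injective P this).symm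
    have hred : BN.Reduced P [T', S'] := by
      have h2 := BN.len_g_mul_ne P T' (BN.g P S')
      have h3 := BN.len_le P [T', S']
      simp [BN.Reduced, BN.len_g] at h2 h3 ⊢
      omega
    have h2 : t * h ∈ BN.C P (BN.g P T' * BN.g P S') := by
      refine BN.g_mul_C_of_le P ?_ (BN.g_mem_C P T') h1
      rw [BN.len_g]; omega
    have h3 : t⁻¹ ∈ BN.C P (BN.g P T') := by simpa using BN.inv_mem_C P (BN.g_mem_C P T')
    have hxM : t * h * t⁻¹ ∈ P.B ⊔ H := Subgroup.mem_sup_right (hH.conj_mem h hh t)
    rcases BN.C_mul_g P h2 h3 with h4 | h4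
    · obtain ⟨l, hsub, hl, hwp⟩ := BN.exists_sublist_reduced P [T', S', T']
      have h4' : t * h * t⁻¹ ∈ BN.C P (BN.wp P l) := by rw [hwp]; simpa [mul_assoc] using h4
      have hlet := BN.letters_mem P hBM hl h4' hxM
      have hall : ∀ a ∈ l, a = S' := by
        intro a ha
        have := hsub.subset ha
        simp only [List.mem_cons, List.not_mem_nil, or_false] at this
        have hT : a ≠ T' := fun e' => htM (by
          have e2 : (a : G) = t := congrArg Subtype.val e'
          rw [← e2]; exact hlet _ ha)
        tauto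
      have key : BN.g P T' * BN.g P S' * BN.g P T' = BN.g P S' := by
        match l with
        | [] =>
          exfalso
          simp at hwp
          apply BN.g_ne_one P S'
          have := congrArg (fun w => BN.g P T' * w * BN.g P T') hwp.symm
          simpa [mul_assoc] using this
        | [a] => rw [hall a (by simp)] at hwp; simpa [mul_assoc] using hwp.symm
        | a :: c :: r =>
          exfalso
          have ha := hall a (by simp)
          have hc := hall c (by simp)
          subst ha hc
          have := BN.len_le P r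
          simp [BN.Reduced] at hl
          omega
      have hcomm : BN.g P S' * BN.g P T' * (BN.g P S')⁻¹ * (BN.g P T')⁻¹ = 1 := by
        rw [BN.g_inv, BN.g_inv]
        calc BN.g P S' * BN.g P T' * BN.g P S' * BN.g P T'
            = BN.g P S' * (BN.g P T' * BN.g P S' * BN.g P T') := by group
          _ = 1 := by rw [key, BN.g_mul_self]
      let n1 : P.N := ⟨s, P.subset hs⟩
      let n2 : P.N := ⟨t, P.subset ht⟩
      exact (BN.cl_eq_one_iff P (n1 * n2 * n1⁻¹ * n2⁻¹)).1 hcomm
    · exact absurd (BN.letters_mem P hBM hred (by simpa using h4) hxM T' (by simp)) htM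
  have htop : P.B ⊔ H = ⊤ := by
    rw [hM, Set.inter_eq_left.2 hMS, BN.parabolic_univ]
  by_contra hne
  haveI : Nontrivial (G ⧸ H) := QuotientGroup.nontrivial_iff.2 hne
  have hsurj : Function.Surjective ((QuotientGroup.mk' H).comp P.B.subtype) := by
    intro x
    obtain ⟨x, rfl⟩ := QuotientGroup.mk_surjective x
    have hx : x ∈ ((P.B ⊔ H : Subgroup G) : Set G) := by rw [htop]; trivial
    rw [Subgroup.mul_normal] at hx
    obtain ⟨b, hb, h, hh, rfl⟩ := hx
    refine ⟨⟨b, hb⟩, ?_⟩
    show (b : G ⧸ H) = ((b * h : G) : G ⧸ H)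
    rw [QuotientGroup.eq]
    simpa using hh
  haveI : Group.IsSolvable (G ⧸ H) := solvable_of_surjective hsurj
  have hlt := Group.IsSolvable.commutator_lt_top_of_nontrivial (G ⧸ H)
  apply hlt.ne
  rw [← Subgroup.map_top_of_surjective (QuotientGroup.mk' H) (QuotientGroup.mk'_surjective H),
    ← hperf, commutator_def, commutator_def, Subgroup.map_commutator,
    Subgroup.map_top_of_surjective (QuotientGroup.mk' H) (QuotientGroup.mk'_surjective H)]

end Cfsg.Agent.S0319
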