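import Cfsg.Statements.S1062
import Cfsg.Agent.Lib.Chev.AllW
import Cfsg.Agent.Lib.Chev.Smith

set_option autoImplicit false
open Cfsg

namespace Cfsg.Agent.S1062
open Cfsg.Agent

/-- `|F₄(q)| = q²⁴ (q² - 1)(q⁶ - 1)(q⁸ - 1)(q¹² - 1)`. -/
theorem result {F : Type*} [Field F] [Fintype F] {q : ℕ} (hq : Fintype.card F = q) : Nat.card ↥(Cfsg.Lie.chevF4.group F) = q ^ 24 * (q ^ 2 - 1) * (q ^ 6 - 1) * (q ^ 8 - 1) * (q ^ 12 - 1) := by
  have hJ : ∀ i < Chev.F4.pk.rank, i ∈ ([3, 2, 1, 0] : List ℕ) := by decide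
  have := Chev.F4.ok.order_formula (F := F) Chev.ckComm_F4 hJ Chev.ckOrb_F4 Chev.poinP_F4 (by decide) Chev.smith_F4
  rw [hq, show Chev.F4.pk.nroots / 2 = 24 from by decide] at this
  simp only [show Chev.F4.pk.rank = 4 from rfl] at this
  simp [List.range_succ] at this
  try simp only [Nat.gcd_comm (q - 1), ← pow_two] at this
  linarith

end Cfsg.Agent.S1062
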