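import Cfsg.Statements.S0600
import Cfsg.Agent.Lib.Components.FFModule
import Cfsg.Agent.Lib.Basics.Cores

set_option autoImplicit false
open Cfsg

namespace Cfsg.Agent.S0600

open Subgroup Cfsg.Agent.Components
open scoped commutatorElement

/-- A normal elementary abelian p-subgroup generated by the fixed points of the Sylow p-subgroups admits no nontrivial normal p-subgroup of G modulo its centralizer. -/
theorem result {G : Type*} [Group G] [Finite G] {p : ℕ} [Fact p.Prime] (V : Subgroup G) [V.Normal] (hV : Cfsg.IsElementaryAbelian p V) (hgen : V = ⨆ S : Sylow p G, V ⊓ Subgroup.centralizer ((S : Subgroup G) : Set G)) : Cfsg.pCore p (G ⧸ Subgroup.centralizer (V : Set G)) = ⊥ := by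
  set C := centralizer (V : Set G)
  set q := QuotientGroup.mk' C
  rw [eq_bot_iff]
  intro y hy
  obtain ⟨d, rfl⟩ := QuotientGroup.mk'_surjective C y
  rw [mem_bot]
  refine (QuotientGroup.eq_one_iff d).mpr ?_
  have h : ∀ S : Sylow p G, V ⊓ centralizer ((S : Subgroup G) : Set G) ≤ centralizer {d} := by
    intro S v hv
    have hd : q d ∈ ((S : Subgroup G).map q : Subgroup (G ⧸ C)) :=
      Basics.pCore_le_sylow p (S.mapSurjective (QuotientGroup.mk'_surjective C)) hy
    obtain ⟨s, hs, hsd⟩ := hd
    have hc : s⁻¹ * d ∈ C := QuotientGroup.eq.mp hsd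
    have h1 : Commute v s := (hv.2 s hs).symm
    have h2 : Commute v (s⁻¹ * d) := hc v hv.1
    rw [mem_centralizer_singleton_iff]
    have := h1.mul_right h2
    rw [mul_inv_cancel_left] at this
    exact this.eq
  intro v hv
  have hV' : V ≤ centralizer {d} := hgen ▸ iSup_le h
  exact mem_centralizer_singleton_iff.mp (hV' hv)

end Cfsg.Agent.S0600
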