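import Cfsg.Statements.S0601
import Cfsg.Agent.Lib.Components.FFOmega
import Cfsg.Agent.Lib.LocalEvenA.Core
import Cfsg.Agent.S0600

set_option autoImplicit false
open Cfsg

namespace Cfsg.Agent.S0601

open Subgroup Cfsg.Agent.Components
open scoped commutatorElement

/-- When O_p(G) contains its centralizer, the normal closure of Ω₁(Z(S)) is elementary abelian and G has no nontrivial normal p-subgroup modulo its centralizer. -/
theorem result {G : Type*} [Group G] [Finite G] {p : ℕ} [Fact p.Prime] (hc : Subgroup.centralizer (Cfsg.pCore p G : Set G) ≤ Cfsg.pCore p G) : (⨆ S : Sylow p G, Cfsg.omegaOne p (((S : Subgroup G)) ⊓ Subgroup.centralizer ((S : Subgroup G) : Set G))).Normal ∧ Cfsg.IsElementaryAbelian p (⨆ S : Sylow p G, Cfsg.omegaOne p (((S : Subgroup G)) ⊓ Subgroup.centralizer ((S : Subgroup G) : Set G))) ∧ ∀ D : Subgroup G, D.Normal → Subgroup.centralizer ((⨆ S : Sylow p G, Cfsg.omegaOne p (((S : Subgroup G)) ⊓ Subgroup.centralizer ((S : Subgroup G) : Set G)) : Subgroup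 G) : Set G) ≤ D → (∃ k : ℕ, (Subgroup.centralizer ((⨆ S : Sylow p G, Cfsg.omegaOne p (((S : Subgroup G)) ⊓ Subgroup.centralizer ((S : Subgroup G) : Set G)) : Subgroup G) : Set G)).relIndex D = p ^ k) → D = Subgroup.centralizer ((⨆ S : Sylow p G, Cfsg.omegaOne p (((S : Subgroup G)) ⊓ Subgroup.centralizer ((S : Subgroup G) : Set G)) : Subgroup G) : Set G) := by
  haveI hn : (omegaJoin p G).Normal := omegaJoin_normal
  have hle : ∀ S : Sylow p G, omegaZ p (S : Subgroup G) ≤ pCore p G := fun S x hx =>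
    hc fun y hy => (omegaZ_le _ hx).2 y (Basics.pCore_le_sylow p S hy)
  have hcomm : ∀ x ∈ omegaJoin p G, ∀ y ∈ omegaJoin p G, Commute x y := by
    have h1 : ∀ S : Sylow p G, omegaJoin p G ≤ centralizer (omegaZ p (S : Subgroup G) : Set G) := by
      intro S
      refine iSup_le fun T x hx y hy => ?_
      exact ((omegaZ_le _ hy).2 x (Basics.pCore_le_sylow p S (hle T hx))).symm
    intro x hx y hy
    have h2 : omegaJoin p G ≤ centralizer {x} := iSup_le fun S z hz =>
      mem_centralizer_singleton_iff.mpr (h1 S hx z hz)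
    exact (mem_centralizer_singleton_iff.mp (h2 hy)).symm
  have hea : IsElementaryAbelian p (omegaJoin p G) := by
    refine ⟨⟨⟨fun x y => Subtype.ext (hcomm _ x.2 _ y.2).eq⟩⟩, fun x hx => ?_⟩
    let K : Subgroup G :=
      { carrier := {x | x ∈ omegaJoin p G ∧ x ^ p = 1}
        one_mem' := ⟨one_mem _, one_pow _⟩
        mul_mem' := fun ha hb => ⟨mul_mem ha.1 hb.1,
          by rw [(hcomm _ ha.1 _ hb.1).mul_pow, ha.2, hb.2, one_mul]⟩
        inv_mem' := fun ha => ⟨inv_mem ha.1, by rw [inv_pow, ha.2, inv_one]⟩ }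
    have : omegaJoin p G ≤ K := iSup_le fun S z hz =>
      ⟨le_iSup (fun S : Sylow p G => omegaZ p (S : Subgroup G)) S hz, (omegaZ_ea _).2 z hz⟩
    exact (this hx).2
  refine ⟨hn, hea, fun D hD hCD hk => ?_⟩
  have hgen : omegaJoin p G = ⨆ S : Sylow p G,
      omegaJoin p G ⊓ centralizer ((S : Subgroup G) : Set G) :=
    le_antisymm (iSup_le fun S => le_iSup_of_le S (le_inf
      (le_iSup (fun S : Sylow p G => omegaZ p (S : Subgroup G)) S)
      ((omegaZ_le _).trans inf_le_right))) (iSup_le fun S => inf_le_left)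
  have hbot := S0600.result (omegaJoin p G) hea hgen
  set C := centralizer (omegaJoin p G : Set G)
  obtain ⟨k, hk⟩ := hk
  have hp' : IsPGroup p ↥(D.map (QuotientGroup.mk' C)) := by
    refine IsPGroup.of_card (n := k) ?_
    rw [← hk, ← Subgroup.relIndex_ker, QuotientGroup.ker_mk']
  have hDn : (D.map (QuotientGroup.mk' C)).Normal := hD.map _ (QuotientGroup.mk'_surjective C)
  have h2 : D.map (QuotientGroup.mk' C) = ⊥ :=
    le_bot_iff.mp (hbot ▸ LocalEvenA.le_pCore_of_normal hDn hp')
  refine le_antisymm ?_ hCD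
  have h3 := (map_eq_bot_iff D).mp h2
  rwa [QuotientGroup.ker_mk'] at h3

end Cfsg.Agent.S0601
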