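import Cfsg.Statements.S0606
import Cfsg.Agent.Lib.Transfer.JSubgroup
import Cfsg.Agent.Lib.Basics.Tools

set_option autoImplicit false
open Cfsg

namespace Cfsg.Agent.S0606

open Subgroup Cfsg.Agent.Transfer
open scoped commutatorElement Pointwise


/-- Elementary abelian p-subgroups of maximal order are best offenders on any normal elementary abelian p-subgroup. -/
theorem result {G : Type*} [Group G] [Finite G] {p : ℕ} [Fact p.Prime] (V : Subgroup G) [V.Normal] (hV : Cfsg.IsElementaryAbelian p V) (A : Subgroup G) (hA : A ∈ Cfsg.maxElementaryAbelianSubgroups p G) : Cfsg.IsBestOffenderOn p V A := by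
  refine ⟨fun B hB => ?_, ?_, fun a ha => ?_⟩
  · have hW : IsElementaryAbelian p (V ⊓ centralizer (B : Set G) : Subgroup G) :=
      ea_mono hV inf_le_left
    have hB' : B ≤ centralizer ((V ⊓ centralizer (B : Set G) : Subgroup G) : Set G) :=
      fun b hb w hw => (hw.2 b hb).symm
    have hn : B ≤ normalizer ((V ⊓ centralizer (B : Set G) : Subgroup G) : Set G) := by
      intro b hb
      rw [mem_normalizer_iff]
      intro w
      constructor
      · intro hw
        rwa [← hB' hb w hw, mul_inv_cancel_right]
      · intro hw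
        have h := hB' hb _ hw
        rw [inv_mul_cancel_right] at h
        rwa [← mul_left_cancel h] at hw
    have h1 := hA.2 _ (ea_sup hW (ea_mono hA.1 hB) fun w hw b hb => hw.2 b hb)
    have h2 := Cfsg.Agent.Basics.card_mul_card_eq_card_sup_mul_card_inf hn
    rw [mul_comm, h2]
    refine Nat.mul_le_mul h1 (card_le_of_le ?_)
    exact fun w hw => ⟨hw.1.1, fun a ha => ea_commute hA.1 ha (hB hw.2)⟩
  · rw [commutator_le]
    intro a ha b hb
    rw [commutatorElement_eq_one_iff_commute.mpr (ea_commute hA.1 ha hb)]
    exact one_mem _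
  · rw [hA.1.2 a ha]; exact one_mem _

end Cfsg.Agent.S0606
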