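import Cfsg.Statements.S0604
import Cfsg.Agent.Lib.Transfer.JSubgroup

set_option autoImplicit false
open Cfsg

namespace Cfsg.Agent.S0604

open Subgroup Cfsg.Agent.Transfer
open scoped commutatorElement Pointwise


/-- The Thompson subgroup of G is the join of the Thompson subgroups of its Sylow p-subgroups. -/
theorem result {G : Type*} [Group G] [Finite G] {p : ℕ} [Fact p.Prime] : Cfsg.thompsonSubgroup p G = ⨆ S : Sylow p G, Cfsg.thompsonSubgroupOf p (S : Subgroup G) := by
  have key : ∀ A : Subgroup G, IsMaxElemIn p ⊤ A → ∀ S : Sylow p G, ∀ B : Subgroup G,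
      IsMaxElemIn p (S : Subgroup G) B → Nat.card A ≤ Nat.card B := by
    intro A hA S B hB
    obtain ⟨T, hT⟩ := (ea_isPGroup hA.2.1).exists_le_sylow
    obtain ⟨g, hg⟩ := MulAction.exists_smul_eq G T S
    have h := hB.2.2 (A.map (MulAut.conj g).toMonoidHom)
      (by rw [← hg, Sylow.coe_subgroup_smul]; exact map_mono hT) (ea_map hA.2.1 _)
    rwa [card_map_of_injective (MulAut.conj g).injective] at h
  rw [← thompsonSubgroupOf_top, thompsonSubgroupOf_eq]
  apply le_antisymm
  · refine sSup_le fun A hA => ?_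
    obtain ⟨S, hS⟩ := (ea_isPGroup hA.2.1).exists_le_sylow
    exact le_iSup_of_le S (le_thompsonSubgroupOf
      ⟨hS, hA.2.1, fun B _ hB => hA.2.2 B le_top hB⟩)
  · refine iSup_le fun S => ?_
    rw [thompsonSubgroupOf_eq]
    refine sSup_le fun A hA => le_sSup ⟨le_top, hA.2.1, fun B _ hB => ?_⟩
    obtain ⟨M, hM⟩ := exists_isMaxElemIn (p := p) (⊤ : Subgroup G)
    exact (hM.2.2 B le_top hB).trans (key M hM S A hA)

end Cfsg.Agent.S0604
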