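import Cfsg.Statements.S0608
import Cfsg.Agent.Lib.Components.FFOmega
import Cfsg.Agent.S0604

set_option autoImplicit false
open Cfsg

namespace Cfsg.Agent.S0608

open Subgroup Cfsg.Agent.Components Cfsg.Agent.Transfer
open scoped commutatorElement Pointwise

/-- With trivial p'-core, Thompson factorizability is equivalent to J(G) centralizing the subgroup generated by all Ω₁(Z(S)), S Sylow. -/
theorem result {G : Type*} [Group G] [Finite G] {p : ℕ} [Fact p.Prime] (hO : Cfsg.pPrimeCore p G = ⊥) : Cfsg.IsThompsonFactorizable p G ↔ Cfsg.thompsonSubgroup p G ≤ Subgroup.centralizer ((⨆ S : Sylow p G, Cfsg.omegaOne p (((S : Subgroup G)) ⊓ Subgroup.centralizer ((S : Subgroup G) : Set G)) : Subgroup G) : Set G) := by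
  haveI hn : (omegaJoin p G).Normal := omegaJoin_normal
  set C := centralizer (omegaJoin p G : Set G)
  haveI hCn : C.Normal := inferInstance
  have hJ : thompsonSubgroup p G = ⨆ S : Sylow p G, thompsonSubgroupOf p (S : Subgroup G) :=
    S0604.result
  constructor
  · intro hf
    rw [hJ]
    refine iSup_le fun S => ?_
    have key : ∀ T : Sylow p G, thompsonSubgroupOf p (S : Subgroup G) ≤
        centralizer (omegaZ p (T : Subgroup G) : Set G) := by
      intro T
      obtain ⟨g, rfl⟩ := MulAction.exists_smul_eq G S T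
      obtain ⟨x, hx, c, hc, n, hn', hg⟩ := hf S g⁻¹
      rw [hO, mem_bot] at hx
      subst hx
      rw [one_mul] at hg
      intro j hj y hy
      have hgS : ((g • S : Sylow p G) : Subgroup G) =
          (S : Subgroup G).map (MulAut.conj g).toMonoidHom := rfl
      rw [hgS, ← map_omegaZ _ _ (MulAut.conj g).injective.injOn] at hy
      obtain ⟨w, hw, rfl⟩ := hy
      have hj' : n * j * n⁻¹ ∈ thompsonSubgroupOf p (S : Subgroup G) :=
        (Basics.conj_mem_iff_of_mem_normalizer hn').mpr hj
      have h1 : Commute w (n * j * n⁻¹) :=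
        ((omegaZ_le _ hw).2 _ (thompsonSubgroupOf_le _ hj')).symm
      have h3 : Commute (n⁻¹ * w * n⁻¹⁻¹) (n⁻¹ * (n * j * n⁻¹) * n⁻¹⁻¹) :=
        h1.map (MulAut.conj n⁻¹).toMonoidHom
      rw [show n⁻¹ * (n * j * n⁻¹) * n⁻¹⁻¹ = j by group] at h3
      have e : (MulAut.conj g).toMonoidHom w = n⁻¹ * w * n⁻¹⁻¹ := by
        have h2 : c⁻¹ * w * c = w := by rw [mul_assoc, hc w hw, inv_mul_cancel_left]
        show g * w * g⁻¹ = _
        rw [inv_eq_iff_eq_inv.mp hg]
        calc (c * n)⁻¹ * w * (c * n)⁻¹⁻¹ = n⁻¹ * (c⁻¹ * w * c) * n⁻¹⁻¹ := by group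
          _ = _ := by rw [h2]
      rw [e]
      exact h3.eq
    intro j hj
    have h4 : omegaJoin p G ≤ centralizer {j} := iSup_le fun T y hy =>
      mem_centralizer_singleton_iff.mpr (key T hj y hy)
    exact fun y hy => mem_centralizer_singleton_iff.mp (h4 hy)
  · intro hle S g
    set N := normalizer (thompsonSubgroupOf p (S : Subgroup G) : Set G)
    obtain ⟨T, hT⟩ : ∃ T : Sylow p ↥C, (T : Subgroup C).map C.subtype = C ⊓ (S : Subgroup G) :=
      exists_sylow_inf_of_normal S C
    have hTS : (T : Subgroup C).map C.subtype ≤ (S : Subgroup G) := hT ▸ inf_le_right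
    have hJS : thompsonSubgroupOf p (S : Subgroup G) ≤ (T : Subgroup C).map C.subtype := by
      rw [hT]
      exact le_inf ((le_iSup (fun S : Sylow p G => thompsonSubgroupOf p (S : Subgroup G)) S).trans
        (hJ ▸ hle)) (thompsonSubgroupOf_le _)
    have hNle : normalizer (((T : Subgroup C).map C.subtype : Subgroup G) : Set G) ≤ N := by
      refine (normalizer_le_normalizer_thompson (p := p) _).trans ?_
      rw [thompsonSubgroupOf_eq_of_le hTS hJS]
    have htop : N ⊔ C = ⊤ := top_le_iff.mp
      ((Sylow.normalizer_sup_eq_top T).ge.trans (sup_le_sup_right hNle _))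
    have hg : g ∈ ((N ⊔ C : Subgroup G) : Set G) := by rw [htop]; trivial
    rw [mul_normal N C] at hg
    obtain ⟨n, hn', c, hc, rfl⟩ := hg
    refine ⟨1, one_mem _, n * c * n⁻¹, ?_, n, hn', by group⟩
    exact centralizer_le (le_iSup (fun S : Sylow p G => omegaZ p (S : Subgroup G)) S)
      (hCn.conj_mem c hc n)

end Cfsg.Agent.S0608
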