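import Cfsg.Statements.S0609
import Cfsg.Agent.Lib.Components.FFOmega
import Cfsg.Agent.Lib.Components.PLocal
import Cfsg.Agent.Lib.Components.PPrimeCore

set_option autoImplicit false
open Cfsg

namespace Cfsg.Agent.S0609

open Subgroup Cfsg.Agent.Components Cfsg.Agent.Transfer
open scoped commutatorElement

/-- Thompson factorizability passes to and from the quotient by the largest normal subgroup of order prime to p. -/
theorem result {G : Type*} [Group G] [Finite G] {p : ℕ} [Fact p.Prime] : Cfsg.IsThompsonFactorizable p G ↔ Cfsg.IsThompsonFactorizable p (G ⧸ Cfsg.pPrimeCore p G) := by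
  set N := pPrimeCore p G
  set q := QuotientGroup.mk' N
  have hq : Function.Surjective q := QuotientGroup.mk'_surjective N
  have hcop : (Nat.card N).Coprime p := pPrimeCore_coprime
  have hbot : pPrimeCore p (G ⧸ N) = ⊥ := pPrimeCore_quotient_eq_bot
  have hinj : ∀ S : Sylow p G, Set.InjOn q ((S : Subgroup G) : Set G) := by
    intro S x hx y hy h
    have h1 : x⁻¹ * y ∈ N ⊓ (S : Subgroup G) :=
      ⟨QuotientGroup.eq.mp h, Subgroup.mul_mem _ (Subgroup.inv_mem _ hx) hy⟩
    rw [inf_eq_bot_of_coprime_isPGroup hcop S.isPGroup', mem_bot] at h1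
    exact inv_mul_eq_one.mp h1
  have hO : ∀ S : Sylow p G, (omegaZ p (S : Subgroup G)).map q =
      omegaZ p ((S.mapSurjective hq : Sylow p (G ⧸ N)) : Subgroup (G ⧸ N)) := fun S =>
    map_omegaZ q _ (hinj S)
  have hJ : ∀ S : Sylow p G, (thompsonSubgroupOf p (S : Subgroup G)).map q =
      thompsonSubgroupOf p ((S.mapSurjective hq : Sylow p (G ⧸ N)) : Subgroup (G ⧸ N)) := fun S =>
    map_thompsonSubgroupOf _ q (hinj S)
  have hOp : ∀ S : Sylow p G, IsPGroup p ↥(omegaZ p (S : Subgroup G)) := fun S =>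
    ea_isPGroup (omegaZ_ea _)
  have hJp : ∀ S : Sylow p G, IsPGroup p ↥(thompsonSubgroupOf p (S : Subgroup G)) := fun S =>
    S.isPGroup'.to_le (thompsonSubgroupOf_le _)
  constructor
  · intro h T y
    obtain ⟨S, rfl⟩ := Sylow.mapSurjective_surjective hq p T
    obtain ⟨g, rfl⟩ := hq y
    obtain ⟨x, hx, c, hc, n, hn, rfl⟩ := h S g
    refine ⟨1, one_mem _, q c, ?_, q n, ?_, ?_⟩
    · show q c ∈ centralizer ((omegaZ p ((S.mapSurjective hq : Sylow p (G ⧸ N)) : Subgroup (G ⧸ N)) : Subgroup (G ⧸ N)) : Set (G ⧸ N))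
      rw [← hO, ← map_centralizer_of_coprime hcop (hOp S)]
      exact mem_map_of_mem q hc
    · rw [← hJ, ← map_normalizer_of_coprime hcop (hJp S)]
      exact mem_map_of_mem q hn
    · rw [map_mul, map_mul, show q x = 1 from (QuotientGroup.eq_one_iff x).mpr hx]
  · intro h S g
    obtain ⟨x, hx, y, hy, z, hz, hg⟩ := h (S.mapSurjective hq) (q g)
    rw [hbot, mem_bot] at hx
    subst hx
    rw [one_mul] at hg
    change y ∈ centralizer ((omegaZ p ((S.mapSurjective hq : Sylow p (G ⧸ N)) : Subgroup (G ⧸ N)) : Subgroup (G ⧸ N)) : Set (G ⧸ N)) at hy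
    rw [← hO, ← map_centralizer_of_coprime hcop (hOp S)] at hy
    rw [← hJ, ← map_normalizer_of_coprime hcop (hJp S)] at hz
    obtain ⟨c, hc, rfl⟩ := hy
    obtain ⟨n, hn, rfl⟩ := hz
    refine ⟨g * (c * n)⁻¹, ?_, c, hc, n, hn, by group⟩
    refine (QuotientGroup.eq_one_iff (N := N) _).mp ?_
    show q _ = 1
    rw [map_mul, map_inv, map_mul, hg, mul_inv_cancel]

end Cfsg.Agent.S0609
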