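import Cfsg.Statements.S0326


set_option autoImplicit false
open Cfsg

namespace Cfsg.Agent.S0326

/-- The Suzuki–Tits ovoid over a finite field with `q` elements has `q² + 1` points. -/
theorem result {F : Type*} [Field F] [Fintype F] (m : ℕ) :
    Nat.card (Cfsg.suzukiOvoid F m) = Fintype.card F ^ 2 + 1 := by
  classical
  have hv : ∀ x y : F, (![x * y + x ^ (2 ^ (m + 1) + 2) + y ^ (2 ^ (m + 1)), y, x, 1] : Fin 4 → F) ≠ 0 := by
    intro x y h
    simpa using congrFun h 3
  let f : Option (F × F) → Cfsg.suzukiOvoid F m := fun o => match o with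
    | none => ⟨Projectivization.mk F ![1, 0, 0, 0] (by simp), ![1, 0, 0, 0], by simp, rfl, Or.inl rfl⟩
    | some (x, y) => ⟨Projectivization.mk F _ (hv x y), _, hv x y, rfl, Or.inr ⟨x, y, rfl⟩⟩
  have hinj : Function.Injective f := by
    intro a b h
    have h' := congrArg Subtype.val h
    rcases a with _ | ⟨x, y⟩ <;> rcases b with _ | ⟨x', y'⟩
    · rfl
    · obtain ⟨c, hc⟩ := (Projectivization.mk_eq_mk_iff' F _ _ _ _).1 h'
      have h1 := congrFun hc 0
      have h3 := congrFun hc 3
      simp at h1 h3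
      simp [h3] at h1
    · obtain ⟨c, hc⟩ := (Projectivization.mk_eq_mk_iff' F _ _ _ _).1 h'
      have h3 := congrFun hc 3
      simp at h3
    · obtain ⟨c, hc⟩ := (Projectivization.mk_eq_mk_iff' F _ _ _ _).1 h'
      have h1 := congrFun hc 1
      have h2 := congrFun hc 2
      have h3 := congrFun hc 3
      simp at h1 h2 h3
      subst h3
      simp at h1 h2
      simp [h1, h2]
  have hsurj : Function.Surjective f := by
    rintro ⟨p, v, hv', rfl, rfl | ⟨x, y, rfl⟩⟩
    · exact ⟨none, rfl⟩
    · exact ⟨some (x, y), rfl⟩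
  rw [← Nat.card_congr (Equiv.ofBijective f ⟨hinj, hsurj⟩), Nat.card_eq_fintype_card,
    Fintype.card_option, Fintype.card_prod, pow_two]

end Cfsg.Agent.S0326
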