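import Cfsg.Statements.S0306
import Cfsg.Agent.Lib.Invol.Dihedral
import Mathlib


set_option autoImplicit false
open Cfsg

namespace Cfsg.Agent.S0306

open Subgroup

open Matrix

abbrev I0 := (Fin 0 ⊕ Fin 0) ⊕ Fin 2

variable {F : Type*} [Field F] (a b : F)

theorem mulVec_inr (M : Matrix I0 I0 F) (v : I0 → F) (i : Fin 2) :
    (M *ᵥ v) (.inr i) = M (.inr i) (.inr 0) * v (.inr 0) + M (.inr i) (.inr 1) * v (.inr 1) := by
  simp [Matrix.mulVec, dotProduct, Fintype.sum_sum_type, Fin.sum_univ_two]

/-- Multiplication by `u + w ω`. -/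
def mulMat (u w : F) : Matrix I0 I0 F :=
  Matrix.of fun i j => match i, j with
    | .inr i, .inr j => (!![u, -(b * w); w, u + a * w] : Matrix (Fin 2) (Fin 2) F) i j
    | _, _ => 0

theorem mulMat_apply (u w : F) (i j : Fin 2) :
    mulMat a b u w (.inr i) (.inr j) = (!![u, -(b * w); w, u + a * w] : Matrix (Fin 2) (Fin 2) F) i j :=
  rfl

theorem ext2 {M N : Matrix I0 I0 F} (h00 : M (.inr 0) (.inr 0) = N (.inr 0) (.inr 0))
    (h01 : M (.inr 0) (.inr 1) = N (.inr 0) (.inr 1)) (h10 : M (.inr 1) (.inr 0) = N (.inr 1) (.inr 0))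
    (h11 : M (.inr 1) (.inr 1) = N (.inr 1) (.inr 1)) : M = N := by
  ext i j
  rcases i with (i | i) | i
  · exact i.elim0
  · exact i.elim0
  rcases j with (j | j) | j
  · exact j.elim0
  · exact j.elim0
  fin_cases i <;> fin_cases j <;> assumption

theorem mulMat_mul (u w u' w' : F) :
    mulMat a b u w * mulMat a b u' w' = mulMat a b (u * u' - b * (w * w')) (u * w' + w * u' + a * (w * w')) := by
  apply ext2 <;> simp [Matrix.mul_apply, Fintype.sum_sum_type, Fin.sum_univ_two, mulMat_apply] <;> ring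

theorem mulMat_one : mulMat a b 1 0 = 1 := by
  apply ext2 <;> simp [mulMat_apply]

theorem quad_eq (v : I0 → F) :
    quadFormMinus 0 F a b v = v (.inr 0) ^ 2 + a * v (.inr 0) * v (.inr 1) + b * v (.inr 1) ^ 2 := by
  simp [quadFormMinus]

/-- The unit `u + w ω` of norm one. -/
def rot (u w : F) (h : u ^ 2 + a * u * w + b * w ^ 2 = 1) : GL I0 F where
  val := mulMat a b u w
  inv := mulMat a b (u + a * w) (-w)
  val_inv := by
    rw [mulMat_mul, ← mulMat_one a b]
    congr 1
    · linear_combination h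
    · ring
  inv_val := by
    rw [mulMat_mul, ← mulMat_one a b]
    congr 1
    · linear_combination h
    · ring

theorem rot_mem (u w : F) (h : u ^ 2 + a * u * w + b * w ^ 2 = 1) :
    rot a b u w h ∈ isometryGroup F (quadFormMinus 0 F a b) := by
  intro v _
  simp only [quad_eq, Units.coeHom_apply, mulVec_inr]
  simp [rot, mulMat_apply]
  linear_combination (v (.inr 0) ^ 2 + a * v (.inr 0) * v (.inr 1) + b * v (.inr 1) ^ 2) * h

/-- The norm-one rotations. -/
def rotGroup : Subgroup (isometryGroup F (quadFormMinus 0 F a b)) where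
  carrier := {g | ∃ u w, u ^ 2 + a * u * w + b * w ^ 2 = 1 ∧ g.1.1 = mulMat a b u w}
  one_mem' := ⟨1, 0, by ring, (mulMat_one a b).symm⟩
  mul_mem' := by
    rintro g g' ⟨u, w, h, hg⟩ ⟨u', w', h', hg'⟩
    refine ⟨u * u' - b * (w * w'), u * w' + w * u' + a * (w * w'), ?_, ?_⟩
    · linear_combination (u' ^ 2 + a * u' * w' + b * w' ^ 2) * h + h'
    · rw [Subgroup.coe_mul, Units.val_mul, hg, hg', mulMat_mul]
  inv_mem' := by
    rintro g ⟨u, w, h, hg⟩
    refine ⟨u + a * w, -w, by linear_combination h, ?_⟩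
    have he : g.1 = rot a b u w h := Units.ext hg
    rw [Subgroup.coe_inv, he]
    rfl

def reflect : GL I0 F :=
  let M : Matrix I0 I0 F := Matrix.of fun i j => match i, j with
    | .inr i, .inr j => (!![1, a; 0, -1] : Matrix (Fin 2) (Fin 2) F) i j
    | _, _ => 0
  ⟨M, M, by apply ext2 <;> simp [M, Matrix.mul_apply, Fintype.sum_sum_type, Fin.sum_univ_two],
    by apply ext2 <;> simp [M, Matrix.mul_apply, Fintype.sum_sum_type, Fin.sum_univ_two]⟩

theorem reflect_apply (i j : Fin 2) :
    (reflect a).1 (Sum.inr i) (Sum.inr j) = (!![1, a; 0, -1] : Matrix (Fin 2) (Fin 2) F) i j := rfl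

theorem reflect_mem : reflect a ∈ isometryGroup F (quadFormMinus 0 F a b) := by
  intro v _
  simp only [quad_eq, Units.coeHom_apply, mulVec_inr]
  simp [reflect_apply]
  ring

theorem exists_eq (hab : ∀ z₁ z₂ : F, z₁ ^ 2 + a * z₁ * z₂ + b * z₂ ^ 2 = 0 → z₁ = 0 ∧ z₂ = 0)
    [Fintype F] (g : isometryGroup F (quadFormMinus 0 F a b)) :
    ∃ r ∈ rotGroup a b, g = r ∨ g = r * ⟨reflect a, reflect_mem a b⟩ := by
  have hQ : ∀ v : I0 → F, quadFormMinus 0 F a b (g.1.1 *ᵥ v) = quadFormMinus 0 F a b v :=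
    fun v => g.2 v v
  set u := g.1.1 (.inr 0) (.inr 0)
  set w := g.1.1 (.inr 1) (.inr 0)
  have hN : u ^ 2 + a * u * w + b * w ^ 2 = 1 := by
    simpa [quad_eq, mulVec_inr] using hQ (Sum.elim 0 ![1, 0])
  set h : isometryGroup F (quadFormMinus 0 F a b) :=
    (⟨rot a b u w hN, rot_mem a b u w hN⟩)⁻¹ * g with hh
  have hr : (⟨rot a b u w hN, rot_mem a b u w hN⟩ : isometryGroup F (quadFormMinus 0 F a b)) ∈
      rotGroup a b := ⟨u, w, hN, rfl⟩
  have hh0 : h.1.1 (.inr 0) (.inr 0) = 1 ∧ h.1.1 (.inr 1) (.inr 0) = 0 := by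
    have : h.1.1 = mulMat a b (u + a * w) (-w) * g.1.1 := rfl
    simp only [this, Matrix.mul_apply, Fintype.sum_sum_type, Fin.sum_univ_two]
    simp [mulMat_apply, u, w]
    constructor
    · linear_combination hN
    · ring
  set r := h.1.1 (.inr 0) (.inr 1)
  set s := h.1.1 (.inr 1) (.inr 1)
  have hQh : ∀ v : I0 → F, quadFormMinus 0 F a b (h.1.1 *ᵥ v) = quadFormMinus 0 F a b v :=
    fun v => h.2 v v
  have e1 : r ^ 2 + a * r * s + b * s ^ 2 = b := by
    simpa [quad_eq, mulVec_inr] using hQh (Sum.elim 0 ![0, 1])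
  have e2 : 2 * r + a * s = a := by
    have := hQh (Sum.elim 0 ![1, 1])
    simp [quad_eq, mulVec_inr, hh0] at this
    linear_combination this - e1
  have hrs : (r = 0 ∧ s = 1) ∨ (r = a ∧ s = -1) := by
    by_cases h2 : (2 : F) = 0
    · have ha : a ≠ 0 := by
        rintro rfl
        haveI : CharP F 2 := CharTwo.of_one_ne_zero_of_two_eq_zero one_ne_zero h2
        obtain ⟨c, hc⟩ := FiniteField.isSquare_of_char_two (ringChar.eq F 2) (-b)
        exact one_ne_zero (hab c 1 (by linear_combination -hc)).2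
      have hs : s = 1 := by
        have : a * (s - 1) = 0 := by linear_combination e2 - r * h2
        exact sub_eq_zero.1 ((mul_eq_zero.1 this).resolve_left ha)
      have : r * (r + a) = 0 := by rw [hs] at e1; linear_combination e1
      rcases mul_eq_zero.1 this with h | h
      · exact Or.inl ⟨h, hs⟩
      · exact Or.inr ⟨by linear_combination h - a * h2, by linear_combination hs + h2⟩
    · have hD : a ^ 2 - 4 * b ≠ 0 := by
        intro hD
        have := (hab (-a) 2 (by linear_combination -hD)).2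
        exact h2 this
      have : (a ^ 2 - 4 * b) * (1 - s) * (1 + s) = 0 := by
        linear_combination 4 * e1 - (2 * r + a * (1 - s) + 2 * a * s) * e2
      rcases mul_eq_zero.1 this with h | h
      · have hs := (mul_eq_zero.1 h).resolve_left hD
        refine Or.inl ⟨(mul_eq_zero.1 (show (2 : F) * r = 0 by linear_combination e2 + a * hs)).resolve_left h2, by linear_combination -hs⟩
      · refine Or.inr ⟨?_, by linear_combination h⟩
        have : (2 : F) * (r - a) = 0 := by linear_combination e2 - a * h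
        exact sub_eq_zero.1 ((mul_eq_zero.1 this).resolve_left h2)
  refine ⟨_, hr, ?_⟩
  rcases hrs with ⟨hr0, hs⟩ | ⟨hr0, hs⟩
  · left
    have : h = 1 := Subtype.ext (Units.ext (ext2 (by simp [hh0]) (by simp [r] at hr0 ⊢; exact hr0)
      (by simp [hh0]) (by simp [s] at hs ⊢; exact hs)))
    exact (inv_mul_eq_one.1 this).symm
  · right
    have : h = ⟨reflect a, reflect_mem a b⟩ := Subtype.ext (Units.ext (ext2
      (by simp [hh0, reflect_apply]) (by simp [reflect_apply]; exact hr0)
      (by simp [hh0, reflect_apply]) (by simp [reflect_apply]; exact hs)))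
    rw [← this, hh, mul_inv_cancel_left]

/-- GO^-_2(q) is dihedral of order 2(q+1). -/
theorem result {F : Type*} [Field F] [Fintype F] {q : ℕ} (hF : Fintype.card F = q) (a b : F) (hab : ∀ z₁ z₂ : F, z₁ ^ 2 + a * z₁ * z₂ + b * z₂ ^ 2 = 0 → z₁ = 0 ∧ z₂ = 0) : Nonempty (Cfsg.isometryGroup F (Cfsg.quadFormMinus 0 F a b) ≃* DihedralGroup (q + 1)) := by
  classical
  let R := rotGroup a b
  have hb0 : b ≠ 0 := fun h => one_ne_zero (hab 0 1 (by rw [h]; ring)).2
  let K := AlgebraicClosure F
  let ι : F →+* K := algebraMap F K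
  obtain ⟨μ, hμ⟩ := IsAlgClosed.exists_root
    (Polynomial.C 1 * Polynomial.X ^ 2 + Polynomial.C (-ι a) * Polynomial.X + Polynomial.C (ι b) : Polynomial K)
    (by rw [Polynomial.degree_quadratic one_ne_zero]; decide)
  simp [Polynomial.IsRoot] at hμ
  have hμF : ∀ x : F, ι x ≠ μ := by
    rintro x rfl
    have : x ^ 2 - a * x + b = 0 := ι.injective (by simp only [map_add, map_sub, map_mul, map_pow, map_zero]; linear_combination hμ)
    exact one_ne_zero (hab (-x) 1 (by linear_combination this)).2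
  have hind : ∀ u w u' w' : F, ι u + ι w * μ = ι u' + ι w' * μ → u = u' ∧ w = w' := by
    intro u w u' w' h
    by_cases hw : w = w'
    · exact ⟨ι.injective (by rw [hw] at h; exact add_right_cancel h), hw⟩
    · refine absurd ?_ (hμF ((u' - u) / (w - w')))
      have hne : ι w - ι w' ≠ 0 := fun h0 => hw (ι.injective (sub_eq_zero.1 h0))
      rw [map_div₀, map_sub, map_sub, div_eq_iff hne]
      linear_combination -h
  -- the rotations are cyclic
  let f : R → K := fun g => ι (g.1.1.1 (.inr 0) (.inr 0)) + ι (g.1.1.1 (.inr 1) (.inr 0)) * μ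
  have hf : ∀ (g : R) (u w : F), g.1.1.1 = mulMat a b u w → f g = ι u + ι w * μ := fun g u w h => by
    simp [f, h, mulMat_apply]
  let φ : R →* K :=
    { toFun := f
      map_one' := by rw [hf 1 1 0 (mulMat_one a b).symm]; simp
      map_mul' := by
        rintro ⟨g, u, w, h, hg⟩ ⟨g', u', w', h', hg'⟩
        rw [hf ⟨g, u, w, h, hg⟩ u w hg, hf ⟨g', u', w', h', hg'⟩ u' w' hg', hf _ (u * u' - b * (w * w'))
          (u * w' + w * u' + a * (w * w')) (by
            show g.1.1 * g'.1.1 = _
            rw [hg, hg', mulMat_mul])]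
        simp only [map_add, map_sub, map_mul]
        linear_combination -(ι w * ι w') * hμ }
  have hφ : Function.Injective φ := by
    rintro ⟨g, u, w, h, hg⟩ ⟨g', u', w', h', hg'⟩ he
    have he' : ι u + ι w * μ = ι u' + ι w' * μ :=
      ((hf ⟨g, u, w, h, hg⟩ u w hg).symm.trans he).trans (hf ⟨g', u', w', h', hg'⟩ u' w' hg')
    obtain ⟨rfl, rfl⟩ := hind _ _ _ _ he'
    exact Subtype.ext (Subtype.ext (Units.ext (hg.trans hg'.symm)))
  haveI : Finite R := inferInstance
  haveI : IsCyclic R := isCyclic_of_subgroup_isDomain φ hφ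
  -- its order
  obtain ⟨p, hp⟩ := CharP.exists F
  haveI : Fact p.Prime := ⟨CharP.char_is_prime F p⟩
  haveI : CharP K p := charP_of_injective_ringHom ι.injective p
  obtain ⟨n, -, hn⟩ := FiniteField.card F p
  have hfrob : ∀ x : F, ι x ^ q = ι x := fun x => by rw [← map_pow, ← hF, FiniteField.pow_card]
  have hqadd : ∀ x y : K, (x + y) ^ q = x ^ q + y ^ q := fun x y => by
    rw [← hF, hn]; exact add_pow_char_pow x y p n
  have hq1 : 1 < q := hF ▸ Fintype.one_lt_card
  have hμq : μ ^ q + μ = ι a ∧ μ ^ q * μ = ι b := by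
    have hroot : (μ ^ q) ^ 2 - ι a * μ ^ q + ι b = 0 := by
      have h0 : (μ ^ 2 + -(ι a * μ) + ι b) ^ q = 0 := by rw [hμ, zero_pow (by omega)]
      rw [hqadd, hqadd, hfrob] at h0
      rw [show ((μ ^ 2) ^ q : K) = (μ ^ q) ^ 2 from by rw [← pow_mul, ← pow_mul, mul_comm],
        show (-(ι a * μ)) ^ q = ι (-a) * μ ^ q by rw [← neg_mul, ← map_neg, mul_pow, hfrob],
        map_neg] at h0
      linear_combination h0
    have hne : μ ^ q ≠ μ := by
      intro hfix
      have hsub : (Finset.univ.image ι) ⊆ (Polynomial.X ^ q - Polynomial.X : Polynomial K).roots.toFinset := by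
        intro y hy
        obtain ⟨x, -, rfl⟩ := Finset.mem_image.1 hy
        rw [Multiset.mem_toFinset, Polynomial.mem_roots (FiniteField.X_pow_card_sub_X_ne_zero K hq1)]
        simp [hfrob]
      have hcard : (Polynomial.X ^ q - Polynomial.X : Polynomial K).roots.toFinset.card ≤
          (Finset.univ.image ι).card := by
        refine (Multiset.toFinset_card_le _).trans ((Polynomial.card_roots' _).trans ?_)
        rw [FiniteField.X_pow_card_sub_X_natDegree_eq K hq1, Finset.card_image_of_injective _ ι.injective,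
          Finset.card_univ, hF]
      have hmem : μ ∈ (Polynomial.X ^ q - Polynomial.X : Polynomial K).roots.toFinset := by
        rw [Multiset.mem_toFinset, Polynomial.mem_roots (FiniteField.X_pow_card_sub_X_ne_zero K hq1)]
        simp [hfix]
      rw [← Finset.eq_of_subset_of_card_le hsub hcard] at hmem
      obtain ⟨x, -, hx⟩ := Finset.mem_image.1 hmem
      exact hμF x hx
    have hsum : μ ^ q + μ = ι a := by
      have h0 : (μ ^ q - μ) * (μ ^ q + μ - ι a) = 0 := by linear_combination hroot - hμ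
      exact sub_eq_zero.1 ((mul_eq_zero.1 h0).resolve_left (sub_ne_zero.2 hne))
    exact ⟨hsum, by linear_combination μ * hsum - hμ⟩
  have hexp : ∀ g : R, g ^ (q + 1) = 1 := by
    rintro ⟨g, u, w, h, hg⟩
    apply hφ
    rw [map_pow, map_one]
    show f ⟨g, u, w, h, hg⟩ ^ (q + 1) = 1
    rw [hf _ u w hg, pow_succ, hqadd, hfrob, mul_pow, hfrob, ← map_one ι, ← h]
    simp only [map_add, map_mul, map_pow]
    linear_combination ι u * ι w * hμq.1 + ι w ^ 2 * hμq.2
  -- lower bound via the norm map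
  have hlow : q + 1 ≤ Nat.card R := by
    let P : Type _ := {z : F × F // z ≠ 0}
    let N : P → {x : F // x ≠ 0} := fun z => ⟨z.1.1 ^ 2 + a * z.1.1 * z.1.2 + b * z.1.2 ^ 2,
      fun h => z.2 (Prod.ext (hab _ _ h).1 (hab _ _ h).2)⟩
    have hfib : ∀ x, Nat.card {z // N z = x} ≤ Nat.card R := by
      intro x
      rcases isEmpty_or_nonempty {z // N z = x} with he | ⟨⟨z₀, hz₀⟩⟩
      · simp
      -- divide by `z₀`
      let g : {z // N z = x} → R := fun z =>
        let u' : F := ((z.1.1.1 * (z₀.1.1 + a * z₀.1.2) + b * (z.1.1.2 * z₀.1.2))) / x.1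
        let w' : F := (z.1.1.2 * z₀.1.1 - z.1.1.1 * z₀.1.2) / x.1
        have h : u' ^ 2 + a * u' * w' + b * w' ^ 2 = 1 := by
          have h1 := congrArg Subtype.val z.2
          have h2 := congrArg Subtype.val hz₀
          simp only [N] at h1 h2
          have hx := x.2
          simp only [u', w']
          field_simp
          linear_combination (z₀.1.1 ^ 2 + a * z₀.1.1 * z₀.1.2 + b * z₀.1.2 ^ 2) * h1 + x.1 * h2
        ⟨⟨rot a b u' w' h, rot_mem a b u' w' h⟩, u', w', h, rfl⟩
      refine Nat.card_le_card_of_injective g fun z z' hzz => ?_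
      have h00 := congrArg (fun y : R => y.1.1.1 (.inr 0) (.inr 0)) hzz
      have h10 := congrArg (fun y : R => y.1.1.1 (.inr 1) (.inr 0)) hzz
      simp [g, rot, mulMat_apply, div_left_inj' x.2] at h00 h10
      have h2 := congrArg Subtype.val hz₀
      simp only [N] at h2
      have hx := x.2
      refine Subtype.ext (Subtype.ext (Prod.ext (mul_left_cancel₀ hx ?_) (mul_left_cancel₀ hx ?_)))
      · linear_combination z₀.1.1 * h00 - b * z₀.1.2 * h10 - (z.1.1.1 - z'.1.1.1) * h2
      · linear_combination z₀.1.2 * h00 + (z₀.1.1 + a * z₀.1.2) * h10 - (z.1.1.2 - z'.1.1.2) * h2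
    have hP : Nat.card P = q ^ 2 - 1 := by
      rw [Nat.card_eq_fintype_card, Fintype.card_subtype_compl, Fintype.card_subtype_eq,
        Fintype.card_prod, hF, pow_two]
    have hX : Nat.card {x : F // x ≠ 0} = q - 1 := by
      rw [Nat.card_eq_fintype_card, Fintype.card_subtype_compl, Fintype.card_subtype_eq, hF]
    have hle : q ^ 2 - 1 ≤ (q - 1) * Nat.card R := by
      rw [← hP, ← hX, ← Nat.card_congr (Equiv.sigmaFiberEquiv N), Nat.card_sigma,
        Nat.card_eq_fintype_card (α := {x : F // x ≠ 0}), ← smul_eq_mul, ← Finset.card_univ]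
      exact Finset.sum_le_card_nsmul _ _ _ (fun x _ => hfib x)
    obtain ⟨j, rfl⟩ : ∃ j, q = j + 1 := ⟨q - 1, by omega⟩
    have hj : (j + 1) ^ 2 - 1 = j * (j + 1 + 1) := by
      rw [Nat.sub_eq_iff_eq_add (by nlinarith)]; ring
    rw [hj, Nat.add_sub_cancel] at hle
    exact Nat.le_of_mul_le_mul_left hle (by omega)
  obtain ⟨d, hd⟩ := IsCyclic.exists_ofOrder_eq_natCard (α := R)
  have hcard : Nat.card R = q + 1 :=
    le_antisymm (Nat.le_of_dvd (by omega) (hd ▸ orderOf_dvd_of_pow_eq_one (hexp d))) hlow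
  set t : isometryGroup F (quadFormMinus 0 F a b) := ⟨reflect a, reflect_mem a b⟩ with ht
  have ht2 : t * t = 1 := by
    refine Subtype.ext (Units.ext ?_)
    apply ext2 <;> simp [ht, reflect, Matrix.mul_apply, Fintype.sum_sum_type, Fin.sum_univ_two]
  have hinv : t * (d : isometryGroup F (quadFormMinus 0 F a b)) * t⁻¹ =
      (d : isometryGroup F (quadFormMinus 0 F a b))⁻¹ := by
    obtain ⟨u, w, h, hg⟩ := d.2
    have he : (d : isometryGroup F (quadFormMinus 0 F a b)) =
        ⟨rot a b u w h, rot_mem a b u w h⟩ := Subtype.ext (Units.ext hg)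
    rw [he, mul_inv_eq_iff_eq_mul]
    refine Subtype.ext (Units.ext ?_)
    show (reflect a).1 * mulMat a b u w = mulMat a b (u + a * w) (-w) * (reflect a).1
    apply ext2 <;>
      simp [reflect_apply, mulMat_apply, Matrix.mul_apply, Fintype.sum_sum_type, Fin.sum_univ_two] <;>
      ring
  have hzR : Subgroup.zpowers (d : isometryGroup F (quadFormMinus 0 F a b)) = R := by
    refine Subgroup.eq_of_le_of_card_ge (Subgroup.zpowers_le.2 d.2) ?_
    rw [Nat.card_zpowers, Subgroup.orderOf_coe, hd]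
  have htR : t ∉ R := by
    rintro ⟨u, w, h, hg⟩
    have h00 := congrFun (congrFun hg (.inr 0)) (.inr 0)
    have h10 := congrFun (congrFun hg (.inr 1)) (.inr 0)
    have h11 := congrFun (congrFun hg (.inr 1)) (.inr 1)
    have h01 := congrFun (congrFun hg (.inr 0)) (.inr 1)
    simp [ht, reflect_apply, mulMat_apply] at h00 h10 h11 h01
    rw [← h10, mul_zero, add_zero, ← h00] at h11
    have h2 : (2 : F) = 0 := by linear_combination -h11
    rw [← h10, mul_zero, neg_zero] at h01
    haveI : CharP F 2 := CharTwo.of_one_ne_zero_of_two_eq_zero one_ne_zero h2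
    obtain ⟨c, hc⟩ := FiniteField.isSquare_of_char_two (ringChar.eq F 2) (-b)
    exact one_ne_zero (hab c 1 (by rw [h01]; linear_combination -hc)).2
  obtain ⟨e⟩ := Invol.nonempty_dihedralEquiv ht2 hinv (hzR.symm ▸ htR)
  rw [Subgroup.orderOf_coe, hd, hcard] at e
  have htop : Subgroup.closure ({t, (d : isometryGroup F (quadFormMinus 0 F a b))} :
      Set (isometryGroup F (quadFormMinus 0 F a b))) = ⊤ := by
    rw [eq_top_iff]
    intro g _
    obtain ⟨r, hr, hg⟩ := exists_eq a b hab g
    have hr' : r ∈ Subgroup.closure ({t, (d : isometryGroup F (quadFormMinus 0 F a b))} :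
        Set (isometryGroup F (quadFormMinus 0 F a b))) := by
      rw [← show Subgroup.zpowers (d : isometryGroup F (quadFormMinus 0 F a b)) = rotGroup a b from hzR] at hr
      exact Subgroup.zpowers_le.2 (Subgroup.subset_closure (by simp)) hr
    rcases hg with rfl | rfl
    · exact hr'
    · exact mul_mem hr' (Subgroup.subset_closure (by simp [ht]))
  exact ⟨(e.trans ((MulEquiv.subgroupCongr htop).trans Subgroup.topEquiv)).symm⟩

end Cfsg.Agent.S0306
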