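import Cfsg.Statements.S0288
import Cfsg.Agent.Lib.LinearGroups.OrthOrder
import Cfsg.Agent.S0306
import Mathlib


set_option autoImplicit false
open Cfsg

namespace Cfsg.Agent.S0288

open Subgroup

open QuadraticMap FormsLib OrthOrder in
/-- The binary form `z₁² + a z₁ z₂ + b z₂²`. -/
noncomputable def binForm {F : Type*} [Field F] (a b : F) : QuadraticForm F (Fin 2 → F) :=
  linMulLin (LinearMap.proj 0) (LinearMap.proj 0) +
    a • linMulLin (LinearMap.proj 0) (LinearMap.proj 1) +
    b • linMulLin (LinearMap.proj 1) (LinearMap.proj 1)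

open QuadraticMap FormsLib OrthOrder in
theorem binForm_apply {F : Type*} [Field F] (a b : F) (v : Fin 2 → F) :
    binForm a b v = v 0 ^ 2 + a * v 0 * v 1 + b * v 1 ^ 2 := by
  simp [binForm]; ring

open QuadraticMap FormsLib OrthOrder in
theorem binForm_nondeg {F : Type*} [Field F] [Fintype F] (a b : F)
    (hab : ∀ z₁ z₂ : F, z₁ ^ 2 + a * z₁ * z₂ + b * z₂ ^ 2 = 0 → z₁ = 0 ∧ z₂ = 0) :
    (polarBilin (binForm a b)).Nondegenerate := by
  have hD : a ^ 2 - 4 * b ≠ 0 := by
    intro hD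
    by_cases h2 : (2 : F) = 0
    · have ha : a = 0 := by
        have : a ^ 2 = 0 := by linear_combination hD + 2 * b * h2
        exact (pow_eq_zero_iff two_ne_zero).1 this
      haveI : CharP F 2 := CharTwo.of_one_ne_zero_of_two_eq_zero one_ne_zero h2
      obtain ⟨c, hc⟩ := FiniteField.isSquare_of_char_two (ringChar.eq F 2) (-b)
      exact one_ne_zero (hab c 1 (by rw [ha]; linear_combination -hc)).2
    · exact h2 (hab (-a) 2 (by linear_combination -hD)).2
  refine nondegenerate_iff.2 fun x hx => ?_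
  have h0 : 2 * x 0 + a * x 1 = 0 := by
    have := hx (Pi.single 0 1)
    simp [polar, binForm_apply, Pi.single_apply] at this
    linear_combination this
  have h1 : a * x 0 + 2 * b * x 1 = 0 := by
    have := hx (Pi.single 1 1)
    simp [polar, binForm_apply, Pi.single_apply] at this
    linear_combination this
  funext i
  fin_cases i
  · exact (mul_eq_zero.1 (show (a ^ 2 - 4 * b) * x 0 = 0 by
      linear_combination a * h1 - 2 * b * h0)).resolve_left hD
  · exact (mul_eq_zero.1 (show (a ^ 2 - 4 * b) * x 1 = 0 by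
      linear_combination a * h0 - 2 * h1)).resolve_left hD

open QuadraticMap FormsLib OrthOrder in
theorem card_count {F : Type*} [Field F] [Fintype F] (a b : F)
    (hab : ∀ z₁ z₂ : F, z₁ ^ 2 + a * z₁ * z₂ + b * z₂ ^ 2 = 0 → z₁ = 0 ∧ z₂ = 0) (m : ℕ) :
    Nat.card {v // qSum (m + 1) (binForm a b) v = 0} - 1 =
      (Fintype.card F ^ (m + 2) + 1) * (Fintype.card F ^ (m + 1) - 1) := by
  classical
  have hZ : Nat.card {v // qSum (m + 1) (binForm a b) v = 0} =
      Nat.card {v // Cfsg.quadFormMinus (m + 1) F a b v = 0} :=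
    Nat.card_congr (Equiv.subtypeEquiv (Equiv.sumArrowEquivProdArrow _ _ _)
      fun v => by simp [qSum_apply, binForm_apply, Cfsg.quadFormMinus, Cfsg.quadFormPlus]).symm
  have hc := FormCount.card_minus (m + 1) a b hab
  have hq : 1 ≤ Fintype.card F := Fintype.card_pos
  generalize Fintype.card F = q at *
  rw [hZ]
  generalize Nat.card {v // Cfsg.quadFormMinus (m + 1) F a b v = 0} = Z at *
  have hZ2 : Z = (q ^ (m + 2) + 1) * (q ^ (m + 1) - 1) + 1 := by
    have hp : 1 ≤ q ^ (m + 1) := Nat.one_le_pow _ _ hq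
    zify [hp]
    exact mul_left_cancel₀ (show (q : ℤ) ≠ 0 by omega) (by rw [hc]; ring)
  omega

open QuadraticMap FormsLib OrthOrder in
theorem card_minus_group {F : Type*} [Field F] [Fintype F] (a b : F)
    (hab : ∀ z₁ z₂ : F, z₁ ^ 2 + a * z₁ * z₂ + b * z₂ ^ 2 = 0 → z₁ = 0 ∧ z₂ = 0) (k : ℕ) :
    Nat.card (oGroup (qSum k (binForm a b))) =
      2 * Fintype.card F ^ ((k + 1) * k) * (Fintype.card F ^ (k + 1) + 1) *
        ∏ i ∈ Finset.range k, (Fintype.card F ^ (2 * (i + 1)) - 1) := by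
  induction k with
  | zero =>
    obtain ⟨e⟩ := S0306.result (F := F) rfl a b hab
    have h := Nat.card_congr e.toEquiv
    rw [card_isometryGroup (Cfsg.quadFormMinus 0 F a b) (qSum 0 (binForm a b))
      (LinearEquiv.sumArrowLequivProdArrow _ _ F F)
      (fun v => by simp [qSum_apply, binForm_apply, Cfsg.quadFormMinus, Cfsg.quadFormPlus]),
      DihedralGroup.nat_card] at h
    simp [h]
  | succ k ih =>
    rw [card_qSum_succ (binForm_nondeg a b hab), card_count a b hab, ih, Finset.prod_range_succ,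
      Nat.card_fun, Nat.card_fin, Nat.card_eq_fintype_card,
      ← sq_pow_sub_one, show (k + 1 + 1) * (k + 1) = (k + 1) * k + (2 * k + 2) by ring, pow_add,
      pow_add]
    ring

/-- |GO^-_{2m}(q)| = 2 q^(m(m-1)) (q^m + 1) prod_{i=1}^{m-1} (q^(2i) - 1), m at least 1, all q; the form is quadFormMinus (m-1) with an anisotropic binary part. -/
theorem result {F : Type*} [Field F] [Fintype F] {q : ℕ} (hF : Fintype.card F = q) (m : ℕ) (hm : 1 ≤ m) (a b : F) (hab : ∀ z₁ z₂ : F, z₁ ^ 2 + a * z₁ * z₂ + b * z₂ ^ 2 = 0 → z₁ = 0 ∧ z₂ = 0) : Nat.card (Cfsg.isometryGroup F (Cfsg.quadFormMinus (m - 1) F a b)) = 2 * q ^ (m * (m - 1)) * (q ^ m + 1) * ∏ i ∈ Finset.range (m - 1), (q ^ (2 * (i + 1)) - 1) := by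
  obtain ⟨k, rfl⟩ : ∃ k, m = k + 1 := ⟨m - 1, by omega⟩
  subst hF
  rw [Nat.add_sub_cancel, OrthOrder.card_isometryGroup (Cfsg.quadFormMinus k F a b)
    (OrthOrder.qSum k (binForm a b)) (LinearEquiv.sumArrowLequivProdArrow _ _ F F)
    (fun v => by
      simp [OrthOrder.qSum_apply, binForm_apply, Cfsg.quadFormMinus, Cfsg.quadFormPlus]),
    card_minus_group a b hab]

end Cfsg.Agent.S0288
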