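import Cfsg.Statements.S2395
import Cfsg.Agent.Lib.CurtisTits.PerfectData
import Cfsg.Agent.Lib.CurtisTits.Present

set_option autoImplicit false
open Cfsg
open Cfsg.Agent.Chev.CT

namespace Cfsg.Agent.S2395

/-- The group presented by Steinberg's generators x̄_r(t) subject only to (R1) (additivity) and (R2) (the commutator formula) is perfect, for each of the types G₂, B₂, D₄, F₄, E₆, E₇, E₈ over any field (for types B₂ and G₂ the field must have more than two elements — the cases where the Chevalley group is not simple are set aside). -/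
theorem result {K : Type*} [Field K] (D : Cfsg.Lie.ChevalleyDatum) (hD : D ∈ [Cfsg.Lie.chevG2, Cfsg.Lie.chevB2, Cfsg.Lie.chevD4, Cfsg.Lie.chevF4, Cfsg.Lie.chevE6, Cfsg.Lie.chevE7, Cfsg.Lie.chevE8]) (hK : D ∈ [Cfsg.Lie.chevB2, Cfsg.Lie.chevG2] → ∃ x : K, x ≠ 0 ∧ x ≠ 1) :
    commutator (D.SteinbergCover K) = ⊤ := by
  simp only [List.mem_cons, List.not_mem_nil, or_false] at hD
  rcases hD with rfl | rfl | rfl | rfl | rfl | rfl | rfl
  · exact perfect_of_check (cov_Sc ⟨Cfsg.Agent.Chev.G2.ok, Cfsg.Agent.Chev.ckComm_G2, UpG2.up_ok, UpG2.eta_sim⟩)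
      Perf.okG2 (fun _ => hK (by simp))
  · exact perfect_of_check (cov_Sc ⟨Cfsg.Agent.Chev.B2.ok, Cfsg.Agent.Chev.ckComm_B2, UpB2.up_ok, UpB2.eta_sim⟩)
      Perf.okB2 (fun _ => hK (by simp))
  · exact perfect_of_check (cov_Sc ⟨Cfsg.Agent.Chev.D4.ok, Cfsg.Agent.Chev.ckComm_D4, UpD4.up_ok, UpD4.eta_sim⟩)
      Perf.okD4 (fun h => absurd h (by simp))
  · exact perfect_of_check (cov_Sc ⟨Cfsg.Agent.Chev.F4.ok, Cfsg.Agent.Chev.ckComm_F4, UpF4.up_ok, UpF4.eta_sim⟩)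
      Perf.okF4 (fun h => absurd h (by simp))
  · exact perfect_of_check (cov_Sc ⟨Cfsg.Agent.Chev.E6.ok, Cfsg.Agent.Chev.ckComm_E6, UpE6.up_ok, UpE6.eta_sim⟩)
      Perf.okE6 (fun h => absurd h (by simp))
  · exact perfect_of_check (cov_Sc ⟨Cfsg.Agent.Chev.E7.ok, Cfsg.Agent.Chev.ckComm_E7, UpE7.up_ok, UpE7.eta_sim⟩)
      Perf.okE7 (fun h => absurd h (by simp))
  · exact perfect_of_check (cov_Sc ⟨Cfsg.Agent.Chev.E8.ok, Cfsg.Agent.Chev.ckComm_E8, UpE8.up_ok, UpE8.eta_sim⟩)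
      Perf.okE8 (fun h => absurd h (by simp))

end Cfsg.Agent.S2395
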