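import Cfsg.Statements.S2730
import Cfsg.Agent.Lib.AutPSp.Twisted

set_option autoImplicit false
open Cfsg Matrix

namespace Cfsg.Agent.S2730

open Cfsg.Agent.AutPSp Cfsg.Agent.FormsLib

variable {m : ℕ} {F : Type*} [Field F]

/-- A normal subgroup of `Sp` is central or contains the commutator subgroup. -/
lemma central_or_commutator [Finite F] (hm : 1 ≤ m)
    (R : Subgroup (Matrix.symplecticGroup (Fin m) F)) [R.Normal] :
    R ≤ Subgroup.center _ ∨ commutator (Matrix.symplecticGroup (Fin m) F) ≤ R := by
  have := spIso_isPreprimitive (m := m) (F := F)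
  let e := spEquiv m F
  let N : Subgroup (SpIso m F) := R.map e.toMonoidHom
  haveI : N.Normal := Subgroup.Normal.map inferInstance _ e.surjective
  by_cases hN : MulAction.fixedPoints N (Projectivization F (Fin m ⊕ Fin m → F)) = Set.univ
  · refine Or.inl fun s hs => mem_center_iff.2 (eq_pm_one_of_fix_points fun x hx => ?_)
    have h1 : Projectivization.mk F x hx ∈ MulAction.fixedPoints N _ := hN ▸ Set.mem_univ _
    have h2 : e s • Projectivization.mk F x hx = Projectivization.mk F x hx :=
      h1 ⟨e s, ⟨s, hs, rfl⟩⟩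
    rw [sp_smul_mk] at h2
    obtain ⟨a, ha⟩ := (Projectivization.mk_eq_mk_iff' F _ _ _ _).1 h2
    exact ⟨a, ha.symm⟩
  · refine Or.inr ?_
    have h := spIwasawa.commutator_le N hN
    have hc : (commutator (Matrix.symplecticGroup (Fin m) F)).map e.toMonoidHom ≤ N := by
      rw [commutator_def, Subgroup.map_commutator, Subgroup.map_top_of_surjective _ e.surjective]
      exact h
    exact (Subgroup.map_le_map_iff_of_injective e.injective).1 hc

/-- Transvections generate. -/
lemma closure_tr [Finite F] :
    Subgroup.closure {g : Matrix.symplecticGroup (Fin m) F | ∃ w c, g = tr w c} = ⊤ := by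
  rw [eq_top_iff]
  intro g _
  have h : spEquiv m F g ∈ Subgroup.map (spEquiv m F).toMonoidHom
      (Subgroup.closure {g : Matrix.symplecticGroup (Fin m) F | ∃ w c, g = tr w c}) := by
    rw [MonoidHom.map_closure]
    refine Subgroup.closure_mono ?_ ((closure_spTau (m := m) (F := F)).ge (Subgroup.mem_top _))
    rintro _ ⟨w, c, rfl⟩
    refine ⟨_, ⟨w, c, rfl⟩, Subtype.ext (LinearEquiv.ext fun v => ?_)⟩
    rw [MulEquiv.coe_toMonoidHom, spEquiv_apply, tr_apply, coe_spTau, tau_apply]
  obtain ⟨a, ha, e⟩ := h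
  rwa [← (spEquiv m F).injective e]

/-- The `r`-th power of every element lies in the commutator subgroup, `r` the characteristic. -/
lemma pow_char_mem_commutator [Finite F] (r : ℕ) [Fact r.Prime] [CharP F r]
    (s : Matrix.symplecticGroup (Fin m) F) :
    s ^ r ∈ commutator (Matrix.symplecticGroup (Fin m) F) := by
  have h := MonoidHom.eq_of_eqOn_dense (closure_tr (m := m) (F := F))
    (f := (powMonoidHom r).comp (Abelianization.of (G := Matrix.symplecticGroup (Fin m) F)))
    (g := 1) (by
      rintro _ ⟨w, c, rfl⟩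
      rw [MonoidHom.comp_apply, powMonoidHom_apply, ← map_pow, tr_pow_char r, map_one,
        MonoidHom.one_apply])
  have h' := DFunLike.congr_fun h s
  rw [MonoidHom.comp_apply, powMonoidHom_apply, ← map_pow, MonoidHom.one_apply] at h'
  exact (QuotientGroup.eq_one_iff _).1 h'

/-- An element of order `p` (cross characteristic) in the image in `PSp` exists. -/
lemma exists_noncentral_pow [Finite F] (hm : 1 ≤ m) (r : ℕ) [Fact r.Prime] [CharP F r]
    {p : ℕ} [Fact p.Prime] (hpr : p ≠ r)
    (hdvd : p ∣ Nat.card (Matrix.symplecticGroup (Fin m) F)) :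
    ∃ a : Matrix.symplecticGroup (Fin m) F,
      a ∉ Subgroup.center _ ∧ a ^ p ∈ Subgroup.center _ := by
  have hp : p.Prime := Fact.out
  by_cases h2 : p = 2
  · subst h2
    have two : (2 : F) ≠ 0 := Ring.two_ne_zero (by rw [ringChar.eq F r]; exact fun h => hpr h.symm)
    refine ⟨⟨Matrix.J (Fin m) F, SymplecticGroup.J_mem _ _⟩, ?_, ?_⟩
    · rw [AutPSp.mem_center_iff]
      rintro (h | h) <;>
      · have := congrFun (congrFun h (.inl ⟨0, hm⟩)) (.inl ⟨0, hm⟩)
        simp [Matrix.J] at this
    · rw [AutPSp.mem_center_iff]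
      right
      rw [pow_two, Submonoid.coe_mul]
      exact Matrix.J_squared (Fin m) F
  · obtain ⟨a, ha⟩ := exists_prime_orderOf_dvd_card' p hdvd
    refine ⟨a, fun hc => ?_, by rw [← ha, pow_orderOf_eq_one]; exact one_mem _⟩
    have hsq : a ^ 2 = 1 := by
      apply Subtype.ext
      rw [pow_two, Submonoid.coe_mul, OneMemClass.coe_one]
      rcases AutPSp.mem_center_iff.1 hc with h | h <;> simp [h]
    have := orderOf_dvd_of_pow_eq_one hsq
    rw [ha] at this
    exact h2 ((Nat.prime_dvd_prime_iff_eq hp Nat.prime_two).1 this)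

/-- The centre of `PSp` is trivial. -/
lemma center_psp (r : ℕ) [Fact r.Prime] [CharP F r] {z : Cfsg.PSp m F}
    (hz : ∀ y, z * y = y * z) : z = 1 := by
  obtain ⟨s, rfl⟩ := proj_surjective z
  rw [← map_one (proj m F)]
  refine (proj_eq_of_points fun x hx => ?_).symm
  have h : proj m F (s * tr x 1 * s⁻¹) = proj m F (tr x 1) := by
    rw [map_mul, map_mul, map_inv, hz, mul_inv_cancel_right]
  rw [tr_conj] at h
  obtain ⟨a, ha⟩ := proj_tr_eq r (x := x) hx one_ne_zero h.symm
  exact ⟨a, by rw [ha, OneMemClass.coe_one, Matrix.one_mulVec]⟩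

lemma conj_injective (r : ℕ) [Fact r.Prime] [CharP F r] :
    Function.Injective (MulAut.conj : Cfsg.PSp m F →* MulAut (Cfsg.PSp m F)) := by
  intro a b hab
  rw [← inv_mul_eq_one]
  refine center_psp r fun y => ?_
  have e := DFunLike.congr_fun hab y
  simp only [MulAut.conj_apply] at e
  calc a⁻¹ * b * y = a⁻¹ * (b * y * b⁻¹) * b := by group
    _ = a⁻¹ * (a * y * a⁻¹) * b := by rw [e]
    _ = _ := by group

lemma aut_conj (φ : MulAut (Cfsg.PSp m F)) (y : Cfsg.PSp m F) :
    φ * MulAut.conj y * φ⁻¹ = MulAut.conj (φ y) := MulEquiv.ext fun z => by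
  simp [MulAut.mul_apply, MulAut.conj_apply]

/-- Order of a field automorphism fixing the fixed field of `σ`. -/
lemma pow_eq_one_of_fix [Finite F] (σ τ : F ≃+* F) (hr : 0 < orderOf σ)
    (h : ∀ a, σ a = a → τ a = a) : τ ^ orderOf σ = 1 := by
  let F₀ := (σ : F →+* F).eqLocusField (RingHom.id F)
  haveI : Module.Finite F₀ F := Module.Finite.of_finite
  let ψ : Gal(F/F₀) := AlgEquiv.ofRingEquiv (f := τ) fun a => h a.1 a.2
  haveI : IsGalois F₀ F := GaloisField.instIsGaloisOfFinite
  have hcard : Nat.card Gal(F/F₀) = orderOf σ := by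
    rw [IsGalois.card_aut_eq_finrank]
    have h1 : Nat.card F = Nat.card F₀ ^ Module.finrank F₀ F := Module.natCard_eq_pow_finrank
    have h2 := AutPSL.card_eq_card_fixed_pow σ
    rw [h1] at h2
    exact Nat.pow_right_injective Finite.one_lt_card h2
  have e := pow_card_eq_one' (x := ψ)
  rw [hcard] at e
  ext a
  have hpow : ∀ i : ℕ, (ψ ^ i) a = (τ ^ i) a := by
    intro i
    induction i with
    | zero => rfl
    | succ i ih => rw [pow_succ', pow_succ', AlgEquiv.mul_apply, ih]; rfl
  rw [← hpow, e]
  rfl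

set_option maxHeartbeats 2000000 in
/-- Almost simple A with socle K = a projective symplectic group PSp_{2m}(F): for x ∈ A of prime order p ≠ char, not inner-diagonal, O_{p'}(C_A(x)) ≠ 1 iff x is a field automorphism and p ∤ #C_K(x). -/
theorem result {F : Type*} [Field F] [Fintype F] {r : ℕ} [Fact r.Prime] [CharP F r] {m : ℕ} (hm : 2 ≤ m) (hs : m = 2 → 3 ≤ Fintype.card F) (hK : IsSimpleGroup (Cfsg.PSp m F)) (A : Subgroup (MulAut (Cfsg.PSp m F))) (hinn : ∀ k : Cfsg.PSp m F, MulAut.conj k ∈ A) {p : ℕ} [Fact p.Prime] (hpr : p ≠ r) (x : MulAut (Cfsg.PSp m F)) (hxA : x ∈ A) (hord : orderOf x = p) (hnot : ¬ Cfsg.IsInnerDiagonalAutPSp x) :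
    Cfsg.pPrimeCore p ↥(A ⊓ Subgroup.centralizer {x}) ≠ ⊥ ↔ (Cfsg.IsFieldAutClassPSp x ∧ Nat.Coprime p (Nat.card ↥(MonoidHom.eqLocus x.toMonoidHom (MonoidHom.id (Cfsg.PSp m F))))) := by
  classical
  have hp : p.Prime := Fact.out
  have hm1 : 1 ≤ m := le_trans one_le_two hm
  -- `x` is a semilinear automorphism
  obtain ⟨g, σ, hxg⟩ : ∃ (g : Cfsg.GSp m F) (σ : F ≃+* F), x = stdA g σ := by
    by_cases h : m = 2 ∧ r = 2
    · obtain ⟨rfl, rfl⟩ := h
      obtain ⟨g, σ, e | e⟩ := exists_normal_form_four x
      · exact ⟨g, σ, e⟩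
      · exfalso
        let H : Subgroup (MulAut (Cfsg.PSp 2 F)) :=
          { carrier := {φ | ∃ (g : Cfsg.GSp 2 F) (σ : F ≃+* F), φ = stdA g σ}
            one_mem' := ⟨1, RingEquiv.refl F, by rw [stdA_eq_mul, map_one, map_one, one_mul]
                                                 exact descend_fld_one.symm⟩
            mul_mem' := by
              rintro _ _ ⟨a, s, rfl⟩ ⟨b, t, rfl⟩
              exact ⟨a * gF s b, t.trans s, by
                rw [stdA_eq_mul, stdA_eq_mul, stdA_eq_mul, map_mul, map_mul, mul_assoc,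
                  ← mul_assoc (stdF s), stdF_cj, mul_assoc, mul_assoc, stdF, stdF, stdF,
                  ← map_mul descend (fld s), fld_mul]⟩
            inv_mem' := by
              rintro _ ⟨a, s, rfl⟩
              exact exists_normal_form_of_tpres 2 le_rfl (tpres_stdA_symm a s) }
        have hgn : (graph : MulAut (Cfsg.PSp 2 F)) ∉ H := by
          rintro ⟨a, s, e'⟩
          refine not_tpres_graph (F := F) ?_
          rw [e']
          intro v c hv hc
          exact ⟨_, _, semilinear_ne_zero a s hv, by simp [hc], stdA_tr a s v c⟩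
        have hidx : H.index = 2 := Subgroup.index_eq_two_iff.2 ⟨graph, fun b => by
          obtain ⟨a, s, e' | e'⟩ := exists_normal_form_four b
          · refine Or.inr ⟨⟨a, s, e'⟩, fun hb => hgn ?_⟩
            have hH : b ∈ H := ⟨a, s, e'⟩
            have : b⁻¹ * (b * graph) ∈ H := mul_mem (inv_mem hH) hb
            rwa [inv_mul_cancel_left] at this
          · refine Or.inl ⟨?_, fun hb => hgn ?_⟩
            · -- `b * graph` is `graph⁻¹ (graph b) graph`
              have hconj : graph⁻¹ * stdA a s * graph ∈ H := by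
                have hT : TPres (graph⁻¹ * stdA a s * graph) := by
                  rcases tpres_or_graph (graph⁻¹ * stdA a s * graph) with h4 | h4
                  · exact h4
                  · exfalso
                    rw [← mul_assoc, ← mul_assoc, mul_inv_cancel, one_mul] at h4
                    refine not_tpres_graph (F := F) ?_
                    have h5 := (tpres_stdA_symm a s).mul h4
                    rwa [inv_mul_cancel_left] at h5
                exact exists_normal_form_of_tpres 2 le_rfl hT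
              rw [e']
              exact hconj
            · rw [e'] at hb
              have h5 : stdA a s * (graph⁻¹ * stdA a s)⁻¹ ∈ H := mul_mem ⟨a, s, rfl⟩ (inv_mem hb)
              rwa [_root_.mul_inv_rev, inv_inv, mul_inv_cancel_left] at h5⟩
        have hxH : x ∉ H := by
          intro hx
          apply hgn
          rw [e] at hx
          have h5 : stdA g σ * (graph⁻¹ * stdA g σ)⁻¹ ∈ H := mul_mem ⟨g, σ, rfl⟩ (inv_mem hx)
          rwa [_root_.mul_inv_rev, inv_inv, mul_inv_cancel_left] at h5
        haveI : H.Normal := Subgroup.normal_of_index_eq_two hidx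
        apply hxH
        have hx2 : x ^ 2 ∈ H := Subgroup.sq_mem_of_index_two hidx x
        have hxp : x ^ p = 1 := by rw [← hord]; exact pow_orderOf_eq_one x
        obtain ⟨i, hi⟩ := hp.odd_of_ne_two hpr
        rw [hi, pow_succ, pow_mul] at hxp
        rw [← inv_inv x, ← eq_inv_of_mul_eq_one_left hxp]
        exact inv_mem (pow_mem hx2 i)
    · exact exists_normal_form r hm (fun h2 h3 => h ⟨h2, h3⟩) x
  have hσ : σ ≠ RingEquiv.refl F := by
    rintro rfl
    exact hnot ((isInnerDiagonal_iff x).2 ⟨g, by rw [hxg, stdA, fld_one, mul_one]; rfl⟩)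
  have hσp : orderOf σ = p := by
    have hxp : x ^ p = 1 := by rw [← hord]; exact pow_orderOf_eq_one x
    rw [hxg, stdA_eq_mul, cyc_pow, stdF_pow, ← stdA_eq_mul] at hxp
    exact orderOf_eq_prime (stdA_eq_one r hm1 hxp).1 hσ
  have hr0 : 0 < orderOf σ := by rw [hσp]; exact hp.pos
  obtain ⟨k, hk⟩ := exists_conj_stdF r hm1 σ hr0 g (by
    rw [← stdA_eq_mul, ← hxg, hσp, ← hord]; exact pow_orderOf_eq_one x)
  rw [← stdA_eq_mul, ← hxg] at hk
  set c : MulAut (Cfsg.PSp m F) := descend (cj k)
  have hfield : Cfsg.IsFieldAutClassPSp x := by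
    refine ⟨c⁻¹, σ, hσ, ?_⟩
    rw [isStdField_iff]
    rw [hk, inv_inv]
    simp [mul_assoc, stdF]
  simp only [hfield, true_and]
  let F₀ := (σ : F →+* F).eqLocusField (RingHom.id F)
  let j : F₀ →+* F := F₀.subtype
  have hj : ∀ a, σ a = a ↔ a ∈ j.range :=
    fun a => ⟨fun h => ⟨⟨a, h⟩, rfl⟩, by rintro ⟨b, rfl⟩; exact b.2⟩
  haveI : Finite F₀ := inferInstance
  haveI : CharP F₀ r := (RingHom.charP_iff j j.injective r).2 inferInstance
  -- the subfield symplectic group inside
  let jm : Matrix.symplecticGroup (Fin m) F₀ →* Matrix.symplecticGroup (Fin m) F :=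
    { toFun := fun s => ⟨s.1.map j, by
        rw [SymplecticGroup.mem_iff]
        have := congrArg (fun M : Matrix (Fin m ⊕ Fin m) (Fin m ⊕ Fin m) F₀ => M.map j)
          (SymplecticGroup.mem_iff.1 s.2)
        have hJ : (Matrix.J (Fin m) F₀).map j = Matrix.J (Fin m) F := by
          ext a b; rcases a with a | a <;> rcases b with b | b <;>
            simp [Matrix.J, Matrix.one_apply, apply_ite j]
        simpa [Matrix.map_mul, Matrix.transpose_map, hJ] using this⟩
      map_one' := Subtype.ext (Matrix.map_one _ (map_zero j) (map_one j))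
      map_mul' := fun a b => Subtype.ext (Matrix.map_mul (f := j)) }
  let ι : Matrix.symplecticGroup (Fin m) F₀ →* MulAut (Cfsg.PSp m F) :=
    (MulAut.conj c).toMonoidHom.comp ((MulAut.conj.comp (proj m F)).comp jm)
  have hι : ∀ s, ι s = MulAut.conj (c (proj m F (jm s))) := fun s => aut_conj c _
  have hjfix : ∀ s, fld σ (jm s) = jm s := fun s => by
    apply Subtype.ext
    ext a b
    exact (s.1 a b).2
  have hιx : ∀ s, Commute (ι s) x := fun s => by
    have h1 : x (c (proj m F (jm s))) = c (proj m F (jm s)) := by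
      rw [hk, MulAut.mul_apply, MulAut.mul_apply, MulAut.inv_apply_self, stdF, descend_proj, hjfix]
    have h2 := aut_conj x (c (proj m F (jm s)))
    rw [h1, ← hι] at h2
    exact (mul_inv_eq_iff_eq_mul.1 h2).symm
  set C := A ⊓ Subgroup.centralizer {x} with hC
  have hCmem : ∀ {a}, a ∈ C ↔ a ∈ A ∧ Commute a x := fun {a} => by
    rw [hC, Subgroup.mem_inf, Subgroup.mem_centralizer_singleton_iff]; rfl
  let N : Subgroup C := (Cfsg.Inn (Cfsg.PSp m F)).subgroupOf C
  haveI : N.Normal := inferInstance
  have hNx : ∀ y, MulAut.conj y ∈ C ↔ x y = y := fun y => by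
    rw [hCmem]
    constructor
    · rintro ⟨-, h⟩
      refine conj_injective r ?_
      rw [← aut_conj, ← h.eq, mul_inv_cancel_right]
    · intro h
      refine ⟨hinn y, ?_⟩
      show _ = _
      rw [← mul_inv_eq_iff_eq_mul.1 (show x * MulAut.conj y * x⁻¹ = MulAut.conj y by rw [aut_conj, h])]
  have hcardN : Nat.card N =
      Nat.card ↥(MonoidHom.eqLocus x.toMonoidHom (MonoidHom.id (Cfsg.PSp m F))) := by
    symm
    refine Nat.card_congr (Equiv.ofBijective
      (fun y => ⟨⟨MulAut.conj y.1, (hNx _).2 y.2⟩, y.1, rfl⟩) ⟨?_, ?_⟩)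
    · intro a b h
      exact Subtype.ext (conj_injective r (congrArg (fun z => z.1.1) h))
    · rintro ⟨⟨a, ha⟩, hN⟩
      obtain ⟨y, hy⟩ := id hN
      exact ⟨⟨y, (hNx y).1 (by rw [show MulAut.conj y = a from hy]; exact ha)⟩,
        Subtype.ext (Subtype.ext hy)⟩
  have hιC : ∀ s, ι s ∈ C := fun s => hCmem.2 ⟨by rw [hι]; exact hinn _, hιx s⟩
  let ιC : Matrix.symplecticGroup (Fin m) F₀ →* C := ι.codRestrict C hιC
  have hιN : ∀ s, ιC s ∈ N := fun s => ⟨c (proj m F (jm s)), (hι s).symm⟩
  have hker : ∀ s, ιC s = 1 → s ∈ Subgroup.center _ := by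
    intro s h
    have h1 : MulAut.conj (c (proj m F (jm s))) = MulAut.conj 1 := by
      rw [← hι, map_one]; exact congrArg Subtype.val h
    have h2 := conj_injective r h1
    rw [← map_one c] at h2
    have h3 := c.injective h2
    rw [proj_eq_one_iff, AutPSp.mem_center_iff] at h3
    rw [AutPSp.mem_center_iff]
    have hinj : Function.Injective fun M : Matrix (Fin m ⊕ Fin m) (Fin m ⊕ Fin m) F₀ => M.map j :=
      Matrix.map_injective j.injective
    rcases h3 with h3 | h3
    · exact Or.inl (hinj (h3.trans (Matrix.map_one _ (map_zero j) (map_one j)).symm))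
    · refine Or.inr (hinj (h3.trans ?_))
      ext a b
      by_cases hab : a = b <;> simp [hab]
  constructor
  · -- core non-trivial ⇒ coprime
    intro hne
    by_contra hco
    apply hne
    rw [← hcardN] at hco
    have hpN : p ∣ Nat.card N := (Nat.Prime.coprime_iff_not_dvd hp).not_left.1 hco
    -- elements centralising the subfield group have order dividing `p`
    have hcent : ∀ a : C, (∀ s, Commute a (ιC s)) → a ^ p = 1 := by
      intro a ha
      set a' := c⁻¹ * a.1 * c with ha'
      have hfix : ∀ v : Fin m ⊕ Fin m → F₀,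
          a' (proj m F (jm (tr v 1))) = proj m F (jm (tr v 1)) := by
        intro v
        have h1 : a.1 * ι (tr v 1) * a.1⁻¹ = ι (tr v 1) := by
          rw [show a.1 * ι (tr v 1) = ι (tr v 1) * a.1 from congrArg Subtype.val (ha (tr v 1)).eq,
            mul_inv_cancel_right]
        rw [hι, aut_conj] at h1
        have h2 := conj_injective r h1
        rw [ha', MulAut.mul_apply, MulAut.mul_apply, h2, MulAut.inv_apply_self]
      have hjtr : ∀ v : Fin m ⊕ Fin m → F₀, jm (tr v 1) = tr (fun i => j (v i)) 1 := by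
        intro v
        apply Subtype.ext
        ext a b
        have e1 := congrArg j (congrFun (tr_apply v (1 : F₀) (Pi.single b 1)) a)
        have e2 := congrFun (tr_apply (fun i => j (v i)) (1 : F) (Pi.single b 1)) a
        have hB : spB m F (Pi.single b 1) (fun i => j (v i)) =
            j (spB m F₀ (Pi.single b 1) v) := by
          simp [spB_expand, map_sum, Pi.single_apply, apply_ite j]
        rw [Matrix.mulVec_single_one] at e1 e2
        show j ((tr v (1 : F₀)).1 a b) = (tr (fun i => j (v i)) (1 : F)).1 a b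
        simp only [Matrix.col_apply] at e1 e2
        rw [e1, e2, hB]
        simp [Pi.single_apply, apply_ite j]
      have hjz : ∀ v : Fin m ⊕ Fin m → F₀, v ≠ 0 → (fun i => j (v i)) ≠ 0 := fun v hv h0 =>
        hv (funext fun i => j.injective (by rw [Pi.zero_apply, map_zero]; exact congrFun h0 i))
      obtain ⟨g', τ, hg'⟩ : ∃ (g' : Cfsg.GSp m F) (τ : F ≃+* F), a' = stdA g' τ := by
        by_cases h : m = 2 ∧ r = 2
        · obtain ⟨rfl, rfl⟩ := h
          obtain ⟨g', τ, e | e⟩ := exists_normal_form_four a'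
          · exact ⟨g', τ, e⟩
          · exfalso
            have h0 := hfix (bv (.inl 0))
            have hb : (fun i => j ((bv (.inl 0) : Fin 2 ⊕ Fin 2 → F₀) i)) = bv (.inl 0) := by
              funext i; simp [bv, Pi.single_apply, apply_ite j]
            rw [hjtr, hb, e, MulAut.mul_apply, stdA_tr] at h0
            have h1 := congrArg graph h0
            rw [MulAut.apply_inv_self, graph_proj] at h1
            exact gam_tr_ne _ _ (proj_injective h1.symm)
        · exact exists_normal_form r hm (fun h2 h3 => h ⟨h2, h3⟩) a'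
      have hpt : ∀ v : Fin m ⊕ Fin m → F₀, v ≠ 0 →
          ∃ l : F, ((g' : GL (Fin m ⊕ Fin m) F) : Matrix (Fin m ⊕ Fin m) (Fin m ⊕ Fin m) F) *ᵥ
            vmap τ (fun i => j (v i)) = l • fun i => j (v i) := by
        intro v hv
        have e := hfix v
        rw [hjtr, hg', stdA_tr] at e
        exact proj_tr_eq r (hjz v hv) one_ne_zero e.symm
      have hbv : ∀ i, (fun k => j ((bv i : Fin m ⊕ Fin m → F₀) k)) = bv i := fun i => by
        funext k; simp [bv, Pi.single_apply, apply_ite j]
      have hbvτ : ∀ i, vmap τ (bv i : Fin m ⊕ Fin m → F) = bv i := fun i => funext fun k => by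
        simp [vmap, bv, Pi.single_apply, apply_ite τ]
      choose l hl using fun i => hpt (bv i) (bv_ne_zero i)
      simp only [hbv, hbvτ] at hl
      have hl0 : ∀ i, l i ≠ 0 := fun i e => bv_ne_zero i
        (gsp_mulVec_injective g' (a₁ := bv i) (a₂ := 0) (by simp [hl, e]))
      have key : ∀ i i', i ≠ i' → ∀ t : F₀, τ (j t) * l i' = j t * l i := by
        intro i i' hii t
        obtain ⟨d, hd⟩ := hpt _ (pairV_ne_zero hii one_ne_zero t)
        have e : (fun k => j ((pairV i i' 1 t : Fin m ⊕ Fin m → F₀) k)) = pairV i i' 1 (j t) := by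
          funext k
          simp [pairV, bv, Pi.single_apply, apply_ite j]
        have e' : vmap τ (pairV i i' 1 (j t)) = pairV i i' 1 (τ (j t)) := by
          funext k
          simp [vmap, pairV, bv, Pi.single_apply, apply_ite τ]
        rw [e, e'] at hd
        simp only [pairV, Matrix.mulVec_add, Matrix.mulVec_smul, hl] at hd
        have e1 := congrFun hd i
        have e2 := congrFun hd i'
        simp [bv, hii, Ne.symm hii] at e1 e2
        rw [e2, ← e1]; ring
      let i0 : Fin m ⊕ Fin m := .inl ⟨0, hm1⟩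
      let i1 : Fin m ⊕ Fin m := .inr ⟨0, hm1⟩
      have hconst : ∀ i, l i = l i0 := fun i => by
        by_cases hi : i = i0
        · rw [hi]
        · have := key i0 i (Ne.symm hi) 1
          simpa using this
      have hτ : ∀ b, σ b = b → τ b = b := by
        intro b hb
        have := key i0 i1 (by simp [i0, i1]) ⟨b, hb⟩
        rw [hconst i1] at this
        exact mul_right_cancel₀ (hl0 i0) this
      have hg's : (g' : GL (Fin m ⊕ Fin m) F) ∈ Cfsg.Geo.scalars (Fin m ⊕ Fin m) F := by
        rw [Cfsg.Geo.mem_scalars_iff]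
        refine ⟨Units.mk0 _ (hl0 i0), ?_⟩
        ext u v
        have e := congrFun (hl v) u
        simp [bv, hconst] at e
        simpa [Matrix.one_apply, Pi.single_apply] using e
      have ha1 : a' = stdF τ := by rw [hg', stdA_eq_mul, cj_scalar hg's, map_one, one_mul]
      have hap : a' ^ p = 1 := by
        rw [ha1, stdF_pow, ← hσp, pow_eq_one_of_fix σ τ hr0 hτ]
        exact (stdF_eq_one_iff r hm1 _).2 rfl
      apply Subtype.ext
      rw [SubmonoidClass.coe_pow, OneMemClass.coe_one,
        show a.1 = c * a' * c⁻¹ by rw [ha']; group, conj_pow, hap, mul_one, mul_inv_cancel]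
    have hpSp : p ∣ Nat.card (Matrix.symplecticGroup (Fin m) F₀) := by
      rw [← card_PGSp hm1]
      refine hpN.trans ?_
      obtain ⟨e⟩ := centralizer_equiv (m := m) σ j hj r hm1 hr0
      obtain ⟨e'⟩ := AutPSL.centralizer_conj (Cfsg.inndiagPSp m F) (x := stdF σ) (inndiag_mem r k)
      rw [← Nat.card_congr (e'.trans e).toEquiv, ← hk]
      let f : N →* ↥(Cfsg.inndiagPSp m F ⊓ Subgroup.centralizer {x}) :=
        (C.subtype.comp N.subtype).codRestrict _ fun a => ⟨by
          obtain ⟨y, hy⟩ := a.2
          obtain ⟨s, rfl⟩ := proj_surjective y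
          rw [inndiag_eq]
          exact ⟨spToG s, by rw [MonoidHom.comp_apply, cj_spToG, descend_conj]; exact hy⟩,
          Subgroup.mem_centralizer_singleton_iff.2 (hCmem.1 a.1.2).2.eq⟩
      refine Subgroup.card_dvd_of_injective f fun a b h => ?_
      exact Subtype.ext (Subtype.ext (congrArg (fun z => z.1) h))
    obtain ⟨e, he, hep⟩ := exists_noncentral_pow hm1 r hpr hpSp
    have hcentral : ∀ D : Subgroup C, D.Normal → (Nat.card D).Coprime p → D = ⊥ := by
      intro D hD hDp
      have hR0 : (D.comap ιC) ≤ Subgroup.center _ := by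
        rcases central_or_commutator hm1 (D.comap ιC) with h | h
        · exact h
        · exfalso
          have h1 : ιC (e ^ r) ∈ D := h (pow_char_mem_commutator r e)
          have h2 : (ιC (e ^ r)) ^ p = 1 := by
            rw [← map_pow, ← pow_mul, mul_comm, pow_mul, map_pow]
            have : ιC (e ^ p) = 1 := by
              apply Subtype.ext
              show ι (e ^ p) = 1
              rw [hι]
              have hc : jm (e ^ p) ∈ Subgroup.center _ := by
                rw [AutPSp.mem_center_iff]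
                rcases AutPSp.mem_center_iff.1 hep with h | h
                · left; show (e ^ p : Matrix.symplecticGroup (Fin m) F₀).1.map j = 1
                  rw [h]; exact Matrix.map_one _ (map_zero j) (map_one j)
                · right; show (e ^ p : Matrix.symplecticGroup (Fin m) F₀).1.map j = -1
                  rw [h]; ext a b; by_cases hab : a = b <;> simp [hab]
              rw [(proj_eq_one_iff _).2 hc, map_one, map_one]
            rw [this, one_pow]
          have h3 : ιC (e ^ r) = 1 := by
            have ho : orderOf (⟨_, h1⟩ : D) ∣ p :=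
              orderOf_dvd_of_pow_eq_one (Subtype.ext h2)
            have := Nat.eq_one_of_dvd_coprimes hDp (orderOf_dvd_natCard _) ho
            exact congrArg Subtype.val (orderOf_eq_one_iff.1 this)
          have h4 := hker _ h3
          apply he
          obtain ⟨u, v, huv⟩ : ∃ u v : ℤ, (r : ℤ) * u + (p : ℤ) * v = 1 := by
            have hco : Nat.Coprime r p :=
              (Nat.coprime_primes Fact.out hp).2 fun h => hpr h.symm
            exact ⟨_, _, by rw [← Nat.gcd_eq_gcd_ab, hco.gcd_eq_one, Nat.cast_one]⟩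
          rw [← zpow_one e, ← huv, _root_.zpow_add, _root_.zpow_mul, _root_.zpow_mul, zpow_natCast, zpow_natCast]
          exact mul_mem (zpow_mem h4 u) (zpow_mem hep v)
      have hDι : ∀ a : C, a ∈ D → a ∈ ιC.range → a = 1 := by
        rintro _ ha ⟨s, rfl⟩
        obtain ⟨a, b⟩ : s ∈ Subgroup.center _ ∧ True := ⟨hR0 ha, trivial⟩
        apply Subtype.ext
        show ι s = 1
        rw [hι]
        have hc : jm s ∈ Subgroup.center _ := by
          rw [AutPSp.mem_center_iff]
          rcases AutPSp.mem_center_iff.1 a with h | h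
          · left; show s.1.map j = 1; rw [h]; exact Matrix.map_one _ (map_zero j) (map_one j)
          · right; show s.1.map j = -1; rw [h]; ext a b; by_cases hab : a = b <;> simp [hab]
        rw [(proj_eq_one_iff _).2 hc, map_one, map_one]
      have htriv : ∀ a ∈ D, (∀ s, Commute a (ιC s)) → a = 1 := by
        intro a ha hc
        have ho : orderOf (⟨a, ha⟩ : D) ∣ p :=
          orderOf_dvd_of_pow_eq_one (Subtype.ext (hcent a hc))
        have := Nat.eq_one_of_dvd_coprimes hDp (orderOf_dvd_natCard _) ho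
        exact congrArg Subtype.val (orderOf_eq_one_iff.1 this)
      -- `N` normalises the subfield group
      have hnormal : ∀ a ∈ N, ∀ s, a * ιC s * a⁻¹ ∈ ιC.range := by
        rintro a ⟨y, hy⟩ s
        obtain ⟨s', hs'⟩ := proj_surjective (c⁻¹ y)
        have hxy : x y = y := (hNx y).1 (by rw [show MulAut.conj y = a.1 from hy]; exact a.2)
        have hcom : Commute (descend (cj (spToG s'))) (stdF σ) := by
          rw [cj_spToG, descend_conj, hs']
          have h1 : stdF σ (c⁻¹ y) = c⁻¹ y := by
            rw [show (stdF σ : MulAut (Cfsg.PSp m F)) = c⁻¹ * x * c by rw [hk]; group,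
              MulAut.mul_apply, MulAut.mul_apply, MulAut.apply_inv_self, hxy]
          have h2 := aut_conj (stdF σ) (c⁻¹ y)
          rw [h1] at h2
          exact (mul_inv_eq_iff_eq_mul.1 h2).symm
        obtain ⟨d, hd⟩ := (commute_stdF_iff r hm1 σ _).1 hcom
        obtain ⟨b, hb⟩ := exists_fixed r hm1 σ hr0 _ d hd
        obtain ⟨g₀, hg₀⟩ := exists_gMap_eq σ j hj hm1 _ hb
        refine ⟨cj g₀ s, Subtype.ext ?_⟩
        show ι (cj g₀ s) = a.1 * ι s * a.1⁻¹
        rw [← show MulAut.conj y = a.1 from hy, hι, hι, aut_conj, MulAut.conj_apply]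
        congr 1
        have e1 : jm (cj g₀ s) = cj (gMap j g₀) (jm s) := by
          apply Subtype.ext
          show (_ : Matrix (Fin m ⊕ Fin m) (Fin m ⊕ Fin m) F₀).map j = _
          rw [cj_coe, cj_coe, gMap_coe, Matrix.map_mul, Matrix.map_mul]
          congr 1
        rw [e1, hg₀, map_mul, MulAut.mul_apply,
          cj_scalar ((Cfsg.Geo.mem_scalars_iff _).2 ⟨b, scalG_coe b⟩), MulAut.one_apply, cj_spToG,
          MulAut.conj_apply, map_mul (proj m F), map_mul (proj m F), map_inv (proj m F), hs',
          map_mul c, map_mul c, map_inv c, MulAut.apply_inv_self]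
      have hR : ∀ a ∈ D, a ∈ N → a = 1 := by
        intro a ha haN
        refine htriv a ha fun s => ?_
        have h1 : a * ιC s * a⁻¹ * (ιC s)⁻¹ = 1 := by
          refine hDι _ ?_ (mul_mem (hnormal a haN s) (inv_mem ⟨s, rfl⟩))
          rw [mul_assoc a, mul_assoc a]
          exact mul_mem ha (hD.conj_mem _ (inv_mem ha) _)
        exact mul_inv_eq_iff_eq_mul.1 (mul_inv_eq_one.1 h1)
      refine (Subgroup.eq_bot_iff_forall _).2 fun a ha => htriv a ha fun s => ?_
      have h1 : a * ιC s * a⁻¹ * (ιC s)⁻¹ = 1 := by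
        refine hR _ ?_ (mul_mem (Subgroup.Normal.conj_mem inferInstance _ (hιN s) a)
          (inv_mem (hιN s)))
        rw [mul_assoc a, mul_assoc a]
        exact mul_mem ha (hD.conj_mem _ (inv_mem ha) _)
      exact mul_inv_eq_iff_eq_mul.1 (mul_inv_eq_one.1 h1)
    rw [Cfsg.pPrimeCore, eq_bot_iff]
    exact sSup_le fun D hD => le_of_eq (hcentral D hD.1 hD.2)
  · -- coprime ⇒ core non-trivial
    intro hco hbot
    rw [← hcardN] at hco
    have hle : N ≤ Cfsg.pPrimeCore p ↥C := le_sSup ⟨inferInstance, hco.symm⟩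
    rw [hbot] at hle
    have h1 : ιC (tr (bv (.inl ⟨0, hm1⟩)) 1) = 1 := (Subgroup.mem_bot.1 (hle (hιN _)))
    have h2 := hker _ h1
    obtain ⟨w, hw⟩ := exists_not_orth (bv_ne_zero (F := F₀) (.inl (⟨0, hm1⟩ : Fin m)))
    rcases AutPSp.mem_center_iff.1 h2 with h | h
    · exact tr_ne_one (bv_ne_zero _) one_ne_zero (Subtype.ext h)
    · have e := tr_apply (bv (.inl ⟨0, hm1⟩)) (1 : F₀) (bv (.inl ⟨0, hm1⟩))
      rw [h, B_self, mul_zero, zero_smul, add_zero, Matrix.neg_mulVec, Matrix.one_mulVec] at e
      have e' := congrFun e (.inl ⟨0, hm1⟩)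
      simp [bv] at e'
      have e2 : (1 : F₀) = -1 := e'.symm
      have h3 : (tr (bv (.inl ⟨0, hm1⟩)) (1 : F₀) : Matrix.symplecticGroup (Fin m) F₀) = 1 :=
        Subtype.ext (by rw [h]; ext a b; by_cases hab : a = b <;> simp [hab, ← e2])
      exact tr_ne_one (bv_ne_zero _) one_ne_zero h3

end Cfsg.Agent.S2730
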