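import Cfsg.Statements.S0294
import Cfsg.Agent.Lib.LinearGroups.OrthPOrder
import Cfsg.Agent.S0288
import Mathlib


set_option autoImplicit false
open Cfsg

namespace Cfsg.Agent.S0294

open Subgroup

/-- gcd(4, q^m + 1) |PΩ^-_{2m}(q)| = q^(m(m-1)) (q^m + 1) prod_{i=1}^{m-1} (q^(2i) - 1), m at least 4 (type ²D_m). -/
theorem result {F : Type*} [Field F] [Fintype F] {q : ℕ} (hF : Fintype.card F = q) (m : ℕ) (hm : 4 ≤ m) (a b : F) (hab : ∀ z₁ z₂ : F, z₁ ^ 2 + a * z₁ * z₂ + b * z₂ ^ 2 = 0 → z₁ = 0 ∧ z₂ = 0) : Nat.gcd 4 (q ^ m + 1) * Nat.card (Cfsg.POmega F (Cfsg.quadFormMinus (m - 1) F a b)) = q ^ (m * (m - 1)) * (q ^ m + 1) * ∏ i ∈ Finset.range (m - 1), (q ^ (2 * (i + 1)) - 1) := by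
  classical
  obtain ⟨Q, hQ, hn⟩ := OrthForms.exists_qMinus (m - 1) a b hab
  have S : QMax.QSetting Q := ⟨hn, by simp [Fintype.card_sum]; omega⟩
  have hO := S0288.result (F := F) hF m (by omega) a b hab
  rw [mul_assoc 2, mul_assoc 2] at hO
  by_cases h2 : (2 : F) = 0
  · have h := OrthPOrder.card_two S h2 hQ
    have hev : q % 2 = 0 := hF ▸ FiniteField.even_card_iff_char_two.1 (by
      by_contra hc
      exact Ring.two_ne_zero hc h2)
    have hodd : Odd (q ^ m + 1) := ((Nat.even_iff.2 hev).pow_of_ne_zero (by omega)).add_one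
    rw [OrthPOrder.coprime_four_of_odd hodd, one_mul]
    rw [hO] at h
    omega
  · have hodd := OrthSigns.odd_card h2
    have hm' : m = m - 1 + 1 := by omega
    have hν : ¬ IsSquare ((a / 2) ^ 2 - b) := OrthSigns.isSquare_of_minus h2 hab rfl
    have hν0 : (a / 2) ^ 2 - b ≠ 0 := fun e => hν (e ▸ IsSquare.zero)
    obtain ⟨L, hL⟩ := OrthSigns.exists_minusL h2 (m - 1) a b _ rfl hν0
    have hL' : ∀ v t, FormsLib.qOdd (m - 1 + 1) F (L (v, t)) = Q v + ((a / 2) ^ 2 - b) * (t * t) :=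
      fun v t => by rw [hL, hQ]
    have hX : Even (q ^ m + 1) := hF ▸ hodd.pow.add_odd odd_one
    have h := OrthPOrder.card_odd_char S h2 ⟨m, by simp [Fintype.card_sum]; omega⟩ hQ
      (show 3 ≤ m - 1 + 1 by omega) L _ hν0 hL' hX
      (fun hc => by rw [OrthSigns.chi_minus h2 (m - 1 + 1) (by omega) rfl hab hQ L hL' hc, hF, ← hm'])
    rw [hO] at h
    omega

end Cfsg.Agent.S0294
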