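import Cfsg.Statements.S0287
import Cfsg.Agent.Lib.LinearGroups.OrthOrder
import Mathlib


set_option autoImplicit false
open Cfsg

namespace Cfsg.Agent.S0287

open Subgroup

open QuadraticMap FormsLib OrthOrder in
theorem card_count {F : Type*} [Field F] [Fintype F] (m : ℕ) :
    Nat.card {v // qSum (m + 1) (0 : QuadraticForm F (Fin 0 → F)) v = 0} - 1 =
      (Fintype.card F ^ (m + 1) - 1) * (Fintype.card F ^ m + 1) := by
  classical
  have hZ : Nat.card {v // qSum (m + 1) (0 : QuadraticForm F (Fin 0 → F)) v = 0} =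
      Nat.card {v : Fin (m + 1) ⊕ Fin (m + 1) → F // Cfsg.quadFormPlus (m + 1) F v = 0} :=
    Nat.card_congr
      { toFun := fun v => ⟨v.1.1, by simpa [qSum_apply] using v.2⟩
        invFun := fun v => ⟨(v.1, 0), by simpa [qSum_apply] using v.2⟩
        left_inv := fun v => Subtype.ext (Prod.ext rfl (Subsingleton.elim _ _))
        right_inv := fun _ => rfl }
  have hc := FormCount.card_plus (F := F) (m + 1) 0
  rw [if_pos rfl] at hc
  have hq : 1 ≤ Fintype.card F := Fintype.card_pos
  generalize Fintype.card F = q at *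
  rw [hZ]
  generalize Nat.card {v : Fin (m + 1) ⊕ Fin (m + 1) → F // Cfsg.quadFormPlus (m + 1) F v = 0} = Z at *
  have hZ2 : Z = (q ^ (m + 1) - 1) * (q ^ m + 1) + 1 := by
    have hp : 1 ≤ q ^ (m + 1) := Nat.one_le_pow _ _ hq
    zify [hp]
    exact mul_left_cancel₀ (show (q : ℤ) ≠ 0 by omega) (by rw [hc]; ring)
  omega

open QuadraticMap FormsLib OrthOrder in
theorem card_plus_group {F : Type*} [Field F] [Fintype F] (k : ℕ) :
    Nat.card (oGroup (qSum (k + 1) (0 : QuadraticForm F (Fin 0 → F)))) =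
      2 * Fintype.card F ^ ((k + 1) * k) * (Fintype.card F ^ (k + 1) - 1) *
        ∏ i ∈ Finset.range k, (Fintype.card F ^ (2 * (i + 1)) - 1) := by
  classical
  have hn : (polarBilin (0 : QuadraticForm F (Fin 0 → F))).Nondegenerate :=
    nondegenerate_iff.2 fun x _ => Subsingleton.elim _ _
  induction k with
  | zero =>
    rw [card_qSum_succ hn, card_count, card_qSum_zero]
    haveI : Unique (oGroup (0 : QuadraticForm F (Fin 0 → F))) :=
      { default := 1, uniq := fun g => Subtype.ext (LinearEquiv.ext fun v => Subsingleton.elim _ _) }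
    simp [mul_comm]
  | succ k ih =>
    rw [card_qSum_succ hn, card_count, ih, Finset.prod_range_succ, Nat.card_fun, Nat.card_fin,
      ← sq_pow_sub_one, show (k + 1 + 1) * (k + 1) = (k + 1) * k + 2 * (k + 1) by ring, pow_add,
      pow_zero]
    ring

/-- |GO^+_{2m}(q)| = 2 q^(m(m-1)) (q^m - 1) prod_{i=1}^{m-1} (q^(2i) - 1), m at least 1, all q. -/
theorem result {F : Type*} [Field F] [Fintype F] {q : ℕ} (hF : Fintype.card F = q) (m : ℕ) (hm : 1 ≤ m) : Nat.card (Cfsg.isometryGroup F (Cfsg.quadFormPlus m F)) = 2 * q ^ (m * (m - 1)) * (q ^ m - 1) * ∏ i ∈ Finset.range (m - 1), (q ^ (2 * (i + 1)) - 1) := by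
  obtain ⟨k, rfl⟩ : ∃ k, m = k + 1 := ⟨m - 1, by omega⟩
  subst hF
  rw [OrthOrder.card_isometryGroup (Cfsg.quadFormPlus (k + 1) F)
    (OrthOrder.qSum (k + 1) (0 : QuadraticForm F (Fin 0 → F)))
    { toFun := fun v => (v, 0)
      map_add' := fun _ _ => Prod.ext rfl (Subsingleton.elim _ _)
      map_smul' := fun _ _ => Prod.ext rfl (Subsingleton.elim _ _)
      invFun := Prod.fst
      left_inv := fun _ => rfl
      right_inv := fun v => Prod.ext rfl (Subsingleton.elim _ _) }
    (fun v => by simp [OrthOrder.qSum_apply]), card_plus_group, Nat.add_sub_cancel]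

end Cfsg.Agent.S0287
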