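import Cfsg.Statements.S0293
import Cfsg.Agent.Lib.LinearGroups.OrthPOrder
import Cfsg.Agent.S0287
import Mathlib


set_option autoImplicit false
open Cfsg

namespace Cfsg.Agent.S0293

open Subgroup

/-- gcd(4, q^m - 1) |PΩ^+_{2m}(q)| = q^(m(m-1)) (q^m - 1) prod_{i=1}^{m-1} (q^(2i) - 1), m at least 4 (type D_m). -/
theorem result {F : Type*} [Field F] [Fintype F] {q : ℕ} (hF : Fintype.card F = q) (m : ℕ) (hm : 4 ≤ m) : Nat.gcd 4 (q ^ m - 1) * Nat.card (Cfsg.POmega F (Cfsg.quadFormPlus m F)) = q ^ (m * (m - 1)) * (q ^ m - 1) * ∏ i ∈ Finset.range (m - 1), (q ^ (2 * (i + 1)) - 1) := by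
  classical
  have S : QMax.QSetting (OrthOrder.qPlus m F) :=
    ⟨OrthForms.qPlus_nondeg m, by simp [Fintype.card_sum]; omega⟩
  have hf : ⇑(OrthOrder.qPlus m F) = Cfsg.quadFormPlus m F := funext (OrthOrder.qPlus_apply m)
  have hO := S0287.result (F := F) hF m (by omega)
  rw [mul_assoc 2, mul_assoc 2] at hO
  by_cases h2 : (2 : F) = 0
  · have h := OrthPOrder.card_two S h2 hf
    have hev : q % 2 = 0 := hF ▸ FiniteField.even_card_iff_char_two.1 (by
      by_contra hc
      exact Ring.two_ne_zero hc h2)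
    have hodd : Odd (q ^ m - 1) := Nat.Even.sub_odd (Nat.one_le_pow _ _ (hF ▸ Fintype.card_pos))
      ((Nat.even_iff.2 hev).pow_of_ne_zero (by omega)) odd_one
    rw [OrthPOrder.coprime_four_of_odd hodd, one_mul]
    rw [hO] at h
    omega
  · have hodd := OrthSigns.odd_card h2
    have hX : Even (q ^ m - 1) := hF ▸ Nat.Odd.sub_odd hodd.pow odd_one
    have h := OrthPOrder.card_odd_char S h2 ⟨m, by simp [Fintype.card_sum]⟩ hf (show 3 ≤ m by omega)
      (OrthSigns.plusL m) 1 one_ne_zero (OrthSigns.plusL_spec m) hX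
      (fun hc => by rw [OrthSigns.chi_plus h2 m (by omega) hc, hF])
    rw [hO] at h
    omega

end Cfsg.Agent.S0293
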