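import Cfsg.Statements.S0035
import Cfsg.Agent.Lib.CT.Frobenius

set_option autoImplicit false
open Cfsg

namespace Cfsg.Agent.S0035


/-- Frobenius' Theorem: if H is a Frobenius complement in a finite group, the identity together with the elements lying in no conjugate of H form a normal subgroup, which is a complement to H. -/
theorem result {G : Type*} [Group G] [Finite G] (H : Subgroup G) (hH : Cfsg.IsFrobeniusComplement H) :
    ∃ N : Subgroup G, (N : Set G) = Cfsg.frobeniusKernel H ∧ N.Normal ∧ Subgroup.IsComplement' N H := by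
  open scoped Pointwise in
  haveI := Fintype.ofFinite G
  obtain ⟨-, -, hH⟩ := hH
  have hTI : CT.IsTI H (H : Set G) := fun g hg s hs hgs => by
    have h : g * s * g⁻¹ ∈ H ⊓ (MulAut.conj g • H) :=
      ⟨hgs, Subgroup.mem_map.mpr ⟨s, hs, rfl⟩⟩
    rw [hH g hg, Subgroup.mem_bot] at h
    exact conj_eq_one_iff.mp h
  obtain ⟨K, hK, -, -, hc, hiff⟩ := CT.frobenius_kernel hTI
  refine ⟨K, Set.ext fun x => ?_, hK, hc⟩
  simp only [SetLike.mem_coe, hiff, Cfsg.frobeniusKernel, Set.mem_ofPred_eq]
  refine or_congr Iff.rfl (forall_congr' fun g => not_congr ?_)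
  constructor
  · intro h
    exact Subgroup.mem_map.mpr ⟨g⁻¹ * x * g, h, by simp [mul_assoc]⟩
  · intro h
    obtain ⟨y, hy, rfl⟩ := Subgroup.mem_map.mp h
    simpa [mul_assoc] using hy

end Cfsg.Agent.S0035
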