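import Cfsg.Statements.S0560
import Cfsg.Agent.Lib.Basics.Products

set_option autoImplicit false
open Pointwise
open Cfsg

namespace Cfsg.Agent.S0560

/-- Let the finite group G be the product HK of two subgroups and p a prime. Then there are Sylow p-subgroups P of H and Q of K and a Sylow p-subgroup R of G whose underlying set is the product set of P and Q. -/
theorem result {G : Type*} [Group G] [Finite G] (H K : Subgroup G) (hHK : ∀ g : G, ∃ h ∈ H, ∃ k ∈ K, g = h * k) (p : ℕ) [Fact p.Prime] : ∃ (P : Sylow p H) (Q : Sylow p K) (R : Sylow p G), ((R : Subgroup G) : Set G) = (((P : Subgroup H).map H.subtype : Subgroup G) : Set G) * (((Q : Subgroup K).map K.subtype : Subgroup G) : Set G) := by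
  classical
  let P0 : Sylow p H := default
  let Q0 : Sylow p K := default
  obtain ⟨R0, hR0⟩ := (P0.2.map H.subtype).exists_le_sylow
  obtain ⟨R', hR'⟩ := (Q0.2.map K.subtype).exists_le_sylow
  obtain ⟨g, rfl⟩ := MulAction.exists_smul_eq G R0 R'
  obtain ⟨k, hk, h, hh, rfl⟩ := Basics.product_swap hHK g
  set R1 : Sylow p G := h • R0 with hR1
  set P1 : Sylow p H := (⟨h, hh⟩ : H) • P0
  set Q1 : Sylow p K := (⟨k, hk⟩ : K)⁻¹ • Q0
  have hP : ((P1 : Subgroup H).map H.subtype) ≤ (R1 : Subgroup G) := by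
    rintro _ ⟨z, hz, rfl⟩
    rw [Sylow.coe_subgroup_smul] at hz
    obtain ⟨w, hw, rfl⟩ := hz
    rw [hR1, Sylow.coe_subgroup_smul]
    exact ⟨(w : G), hR0 ⟨w, hw, rfl⟩, rfl⟩
  have hQ : ((Q1 : Subgroup K).map K.subtype) ≤ (R1 : Subgroup G) := by
    rintro _ ⟨z, hz, rfl⟩
    rw [Sylow.coe_subgroup_smul] at hz
    obtain ⟨w, hw, rfl⟩ := hz
    have h1 := hR' ⟨w, hw, rfl⟩
    rw [mul_smul, ← hR1, Sylow.coe_subgroup_smul] at h1
    obtain ⟨r, hr, e⟩ := h1
    change k * r * k⁻¹ = (w : G) at e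
    refine (congrArg (· ∈ (R1 : Subgroup G)) ?_).mpr hr
    change k⁻¹ * (w : G) * k⁻¹⁻¹ = r
    rw [← e]; group
  refine ⟨P1, Q1, R1, ?_⟩
  set P := (P1 : Subgroup H).map H.subtype
  set Q := (Q1 : Subgroup K).map K.subtype
  refine (Set.eq_of_subset_of_ncard_le ?_ ?_ (Set.toFinite _)).symm
  · rintro _ ⟨a, ha, b, hb, rfl⟩
    exact mul_mem (hP ha) (hQ hb)
  · have hp := (Fact.out : p.Prime)
    have hcP : Nat.card P = p ^ (Nat.card H).factorization p := by
      rw [Subgroup.card_map_of_injective H.subtype_injective, P1.card_eq_multiplicity]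
    have hcQ : Nat.card Q = p ^ (Nat.card K).factorization p := by
      rw [Subgroup.card_map_of_injective K.subtype_injective, Q1.card_eq_multiplicity]
    have hle : P ⊓ Q ≤ H ⊓ K := inf_le_inf (Subgroup.map_subtype_le _) (Subgroup.map_subtype_le _)
    have hd := Subgroup.card_dvd_of_le hle
    obtain ⟨i, hi⟩ := ((P1.2.map H.subtype).to_le (inf_le_left : P ⊓ Q ≤ P)).exists_card_eq
    have hi' : i ≤ (Nat.card (H ⊓ K : Subgroup G)).factorization p :=
      (hp.pow_dvd_iff_le_factorization (Nat.card_pos).ne').mp (hi ▸ hd)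
    have e1 := congrArg (fun n => n.factorization p) (Basics.card_mul_card_of_product hHK)
    simp only [Nat.factorization_mul (Nat.card_pos).ne' (Nat.card_pos).ne', Finsupp.add_apply] at e1
    have e2 := Basics.ncard_mul_mul_card_inf P Q
    rw [hi, hcP, hcQ, ← pow_add, ← e1] at e2
    rw [← Nat.card_coe_set_eq]
    change Nat.card (R1 : Subgroup G) ≤ _
    rw [R1.card_eq_multiplicity]
    refine Nat.le_of_mul_le_mul_right ?_ (pow_pos hp.pos i)
    rw [e2, ← pow_add]
    exact Nat.pow_le_pow_right hp.pos (by omega)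

end Cfsg.Agent.S0560
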