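import Cfsg.Statements.S0541
import Cfsg.Agent.Lib.Basics.Cores

set_option autoImplicit false
open Pointwise
open Cfsg

namespace Cfsg.Agent.S0541

open scoped Pointwise

variable {G : Type*} [Group G]

def conjJoin (Z Y : Subgroup G) (g : G) : Subgroup G := ⨆ y ∈ Y, MulAut.conj (y * g) • Z

theorem conj_smul_iSup_le (b : G) {ι : Sort*} (f : ι → Subgroup G) {K : Subgroup G}
    (h : ∀ i, MulAut.conj b • f i ≤ K) : MulAut.conj b • (⨆ i, f i) ≤ K := by
  rw [Subgroup.pointwise_smul_subset_iff]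
  exact iSup_le fun i => Subgroup.pointwise_smul_subset_iff.mp (h i)

theorem mem_normalizer_of_le [Finite G] {b : G} {W : Subgroup G} (h : MulAut.conj b • W ≤ W) :
    b ∈ Subgroup.normalizer (W : Set G) :=
  Basics.conj_smul_eq_self_iff.mp (Subgroup.eq_of_le_of_card_ge h (Basics.card_conj_smul b W).ge)

theorem conjJoin_norm [Finite G] (Z Y : Subgroup G) (g : G) :
    Y ≤ Subgroup.normalizer (conjJoin Z Y g : Set G) := fun b hb =>
  mem_normalizer_of_le (conj_smul_iSup_le b _ fun y => conj_smul_iSup_le b _ fun hy => by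
    rw [← mul_smul, ← map_mul, ← mul_assoc]
    exact le_iSup₂_of_le (b * y) (mul_mem hb hy) le_rfl)

/-- Let Z and Y be subgroups of a finite group G and p a prime. Suppose that for every g in G the subgroup generated by the conjugates of g Z g⁻¹ under Y is a p-group. Then there is a Sylow p-subgroup P of G such that Y normalizes the subgroup generated by all conjugates of Z contained in P. -/
theorem result {G : Type*} [Group G] [Finite G] (p : ℕ) [Fact p.Prime] (Z Y : Subgroup G) (h : ∀ g : G, IsPGroup p ↥(⨆ y ∈ Y, MulAut.conj (y * g) • Z)) : ∃ P : Sylow p G, Y ≤ Subgroup.normalizer ((⨆ g ∈ {g : G | MulAut.conj g • Z ≤ (P : Subgroup G)}, MulAut.conj g • Z : Subgroup G) : Set G) := by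
  classical
  set wc : Subgroup G → Subgroup G := fun P => ⨆ g ∈ {g : G | MulAut.conj g • Z ≤ P}, MulAut.conj g • Z
  have wc_le : ∀ P, wc P ≤ P := fun P => iSup₂_le fun g hg => hg
  have wc_norm : ∀ P : Subgroup G, Subgroup.normalizer (P : Set G) ≤ Subgroup.normalizer (wc P : Set G) :=
    fun P b hb => mem_normalizer_of_le (conj_smul_iSup_le b _ fun g => conj_smul_iSup_le b _ fun hg => by
      rw [← mul_smul, ← map_mul]
      refine le_iSup₂_of_le (b * g) ?_ le_rfl
      show MulAut.conj (b * g) • Z ≤ P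
      rw [map_mul, mul_smul]
      exact (Subgroup.map_mono hg).trans (Basics.conj_smul_eq_self_iff.mpr hb).le)
  let Q : Subgroup G → Prop := fun W => IsPGroup p W ∧ Y ≤ Subgroup.normalizer (W : Set G) ∧ W = wc W
  have hbot : Q (wc ⊥) := by
    have h0 : wc ⊥ = ⊥ := le_bot_iff.mp (wc_le ⊥)
    refine ⟨h0.symm ▸ IsPGroup.of_bot, ?_, ?_⟩
    · rw [h0, Subgroup.normalizer_eq_top_iff.mpr inferInstance]; exact le_top
    · rw [h0, h0]
  obtain ⟨W, -, hW⟩ := (Set.toFinite {W | Q W}).exists_le_maximal hbot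
  obtain ⟨hWp, hYW, hWwc⟩ := hW.prop
  obtain ⟨P, hWP⟩ := hWp.exists_le_sylow
  refine ⟨P, ?_⟩
  have key : ∀ g : G, MulAut.conj g • Z ≤ Subgroup.normalizer (W : Set G) → MulAut.conj g • Z ≤ W := by
    intro g hg
    set V := conjJoin Z Y g
    have hVN : V ≤ Subgroup.normalizer (W : Set G) := iSup₂_le fun y hy => by
      rw [map_mul, mul_smul]
      refine (Subgroup.map_mono hg).trans (Basics.conj_smul_eq_self_iff.mpr ?_).le
      exact Subgroup.le_normalizer (hYW hy)
    have hQ : Q (W ⊔ V) := by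
      refine ⟨hWp.to_sup_of_normal_left' (h g) hVN, fun b hb => ?_, le_antisymm (sup_le ?_ ?_) (wc_le _)⟩
      · rw [← Basics.conj_smul_eq_self_iff, Subgroup.smul_sup, Basics.conj_smul_eq_self_iff.mpr (hYW hb),
          Basics.conj_smul_eq_self_iff.mpr (conjJoin_norm Z Y g hb)]
      · conv_lhs => rw [hWwc]
        exact iSup₂_le fun a ha => le_iSup₂_of_le a (show MulAut.conj a • Z ≤ W ⊔ V from le_trans (ha : MulAut.conj a • Z ≤ W) le_sup_left) le_rfl
      · refine iSup₂_le fun y hy => le_iSup₂_of_le (y * g) ?_ le_rfl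
        exact le_trans (le_iSup₂_of_le y hy le_rfl : MulAut.conj (y * g) • Z ≤ V) le_sup_right
    refine le_trans ?_ (hW.2 hQ le_sup_left)
    refine le_trans ?_ le_sup_right
    conv_lhs => rw [← one_mul g]
    exact le_iSup₂_of_le 1 Y.one_mem le_rfl
  set N := Subgroup.normalizer (W : Set G) ⊓ (P : Subgroup G)
  have hNwc : wc N ≤ W := iSup₂_le fun g hg => key g (le_trans hg inf_le_left)
  have hWN : W ≤ N := le_inf Subgroup.le_normalizer hWP
  have hNeq : wc N = W := le_antisymm hNwc (by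
    conv_lhs => rw [hWwc]
    exact iSup₂_le fun a ha => le_iSup₂_of_le a (show MulAut.conj a • Z ≤ N from le_trans (ha : MulAut.conj a • Z ≤ W) hWN) le_rfl)
  have hPN : (P : Subgroup G) ≤ Subgroup.normalizer (W : Set G) := by
    by_contra hne
    haveI := P.2.isNilpotent
    have hlt : N.subgroupOf (P : Subgroup G) < ⊤ := by
      rw [lt_top_iff_ne_top, Ne, Subgroup.subgroupOf_eq_top]
      exact fun h => hne (h.trans inf_le_left)
    obtain ⟨x, hx, hxn⟩ := SetLike.exists_of_lt (Group.normalizerCondition_of_isNilpotent (G := (P : Subgroup G)) _ hlt)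
    apply hxn
    refine ⟨?_, x.2⟩
    rw [← hNeq]
    apply wc_norm
    refine mem_normalizer_of_le ?_
    rintro _ ⟨z, hz, rfl⟩
    have hzP : z ∈ (P : Subgroup G) := hz.2
    exact (Subgroup.mem_normalizer_iff.mp hx ⟨z, hzP⟩).mp hz
  have : wc (P : Subgroup G) = W := le_antisymm (iSup₂_le fun g hg => key g (le_trans hg hPN)) (by
    conv_lhs => rw [hWwc]
    exact iSup₂_le fun a ha => le_iSup₂_of_le a (show MulAut.conj a • Z ≤ (P : Subgroup G) from le_trans (ha : MulAut.conj a • Z ≤ W) hWP) le_rfl)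
  show Y ≤ Subgroup.normalizer ((wc (P : Subgroup G) : Subgroup G) : Set G)
  rw [this]
  exact hYW

end Cfsg.Agent.S0541
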