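import Cfsg.Statements.S0561
import Cfsg.Agent.Lib.Basics.Products

set_option autoImplicit false
open Pointwise
open Cfsg

namespace Cfsg.Agent.S0561

/-- Let the finite solvable group G be the product HK of subgroups, and let A be normal in H and B normal in K, where A and B are Hall subgroups of G (order coprime to index). Then for all x, y the product set of xAx⁻¹ and yBy⁻¹ is a subgroup of G. -/
theorem result {G : Type*} [Group G] [Finite G] [Group.IsSolvable G] (H K A B : Subgroup G) (hHK : ∀ g : G, ∃ h ∈ H, ∃ k ∈ K, g = h * k) (hA : A ≤ H) (hAn : (A.subgroupOf H).Normal) (hB : B ≤ K) (hBn : (B.subgroupOf K).Normal) (hAh : (Nat.card A).Coprime A.index) (hBh : (Nat.card B).Coprime B.index) (x y : G) : ∃ S : Subgroup G, (S : Set G) = ((MulAut.conj x • A : Subgroup G) : Set G) * ((MulAut.conj y • B : Subgroup G) : Set G) := by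
  classical
  have hall : ∀ {A : Subgroup G}, (Nat.card A).Coprime A.index → ∀ p : ℕ, p.Prime → p ∣ Nat.card A →
      ∀ k, p ^ k ∣ Nat.card G → p ^ k ∣ Nat.card A := by
    intro A hA p hp hpA k hk
    refine Nat.Coprime.dvd_of_dvd_mul_right (Nat.Coprime.pow_left k ?_) (A.card_mul_index ▸ hk)
    exact hA.coprime_dvd_left hpA
  obtain ⟨W, hW, hWπ⟩ := Basics.exists_hall_pi (G := G) {p | p ∣ Nat.card A ∨ p ∣ Nat.card B}
  have hcW : ∀ C : Subgroup G, (∀ p, p.Prime → p ∣ Nat.card C → p ∈ {p | p ∣ Nat.card A ∨ p ∣ Nat.card B}) →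
      ∃ a : G, C ≤ MulAut.conj a • W := by
    intro C hC
    refine Basics.exists_le_conj_hall hW (Nat.coprime_of_dvd fun p hp hpC hpW => ?_)
    exact ((hWπ p hp (hpC.trans C.card_subgroup_dvd_card)).2.mp hpW) (hC p hp hpC)
  obtain ⟨a, ha⟩ := hcW A (fun p _ h => Or.inl h)
  obtain ⟨b, hb⟩ := hcW B (fun p _ h => Or.inr h)
  obtain ⟨k, hk, h, hh, e⟩ := Basics.product_swap hHK (b * a⁻¹)
  have hnA : ∀ z ∈ H, MulAut.conj z • A = A := fun z hz => Basics.conj_smul_eq_of_mem_normalizer
    ((Subgroup.normal_subgroupOf_iff_le_normalizer hA).mp hAn hz)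
  have hnB : ∀ z ∈ K, MulAut.conj z • B = B := fun z hz => Basics.conj_smul_eq_of_mem_normalizer
    ((Subgroup.normal_subgroupOf_iff_le_normalizer hB).mp hBn hz)
  set W1 := MulAut.conj (h * a) • W
  have hAW : A ≤ W1 := by
    conv_lhs => rw [← hnA h hh]
    show _ ≤ MulAut.conj (h * a) • W
    rw [map_mul, mul_smul]
    exact Subgroup.map_mono ha
  have hBW : B ≤ W1 := by
    conv_lhs => rw [← hnB k⁻¹ (K.inv_mem hk)]
    show _ ≤ MulAut.conj (h * a) • W
    rw [show h * a = k⁻¹ * b by rw [show b = k * h * a by rw [← e]; group]; group, map_mul, mul_smul]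
    exact Subgroup.map_mono hb
  have hsub : (A : Set G) * (B : Set G) ⊆ (W1 : Set G) := by
    rintro _ ⟨u, hu, v, hv, rfl⟩
    exact mul_mem (hAW hu) (hBW hv)
  have heq : (A : Set G) * (B : Set G) = (W1 : Set G) := by
    refine Set.eq_of_subset_of_ncard_le hsub ?_ (Set.toFinite _)
    rw [← Nat.card_coe_set_eq]
    change Nat.card W1 ≤ _
    rw [Basics.card_conj_smul]
    refine Nat.le_of_mul_le_mul_right (?_ : _ * Nat.card (A ⊓ B : Subgroup G) ≤ _) Nat.card_pos
    rw [Basics.ncard_mul_mul_card_inf]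
    refine Nat.le_of_dvd (Nat.mul_pos Nat.card_pos Nat.card_pos) ?_
    rw [← Nat.gcd_mul_lcm (Nat.card A) (Nat.card B), mul_comm (Nat.gcd _ _)]
    refine mul_dvd_mul ?_ (Nat.dvd_gcd (Subgroup.card_dvd_of_le inf_le_left) (Subgroup.card_dvd_of_le inf_le_right))
    refine Nat.dvd_iff_prime_pow_dvd_dvd _ _ |>.mpr fun p k hp hpk => ?_
    rcases Nat.eq_zero_or_pos k with rfl | hk0
    · simp
    have hpW : p ∣ Nat.card W := (dvd_pow_self p hk0.ne').trans hpk
    have hpG := hpk.trans W.card_subgroup_dvd_card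
    rcases (hWπ p hp (hpW.trans W.card_subgroup_dvd_card)).1.mp hpW with h' | h'
    · exact (hall hAh p hp h' k hpG).trans (Nat.dvd_lcm_left _ _)
    · exact (hall hBh p hp h' k hpG).trans (Nat.dvd_lcm_right _ _)
  obtain ⟨g, z, hz, z', hz', e1, e2⟩ := Basics.exists_common_conj hHK x y
  have eA : MulAut.conj x • A = MulAut.conj g • A := by rw [← e1, map_mul, mul_smul, hnA z hz]
  have eB : MulAut.conj y • B = MulAut.conj g • B := by rw [← e2, map_mul, mul_smul, hnB z' hz']
  refine ⟨MulAut.conj g • W1, ?_⟩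
  simp only [eA, eB, Subgroup.coe_pointwise_smul, ← heq]
  exact smul_mul' _ _ _

end Cfsg.Agent.S0561
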