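import Cfsg.Statements.S0942
import Cfsg.Agent.Lib.Blocks.Normal
import Cfsg.Agent.Lib.Basics.Cores
-- import your own Cfsg.Agent.* helpers here

set_option autoImplicit false
open Cfsg

namespace Cfsg.Agent.S0942

/-- Let u be a p-element of the finite group G, let v lie in the largest normal subgroup of C_G(u) of order prime to p, and let χ belong to the principal block (relative to a maximal ideal M of the algebraic integers containing p). Then χ (u * v) = χ u. -/
theorem result {G : Type*} [Group G] [Finite G] (p : ℕ) [Fact p.Prime] (M : Ideal Cfsg.AlgInt) (hM : Cfsg.IsPModular p M) (u : G) (hu : ∃ k : ℕ, orderOf u = p ^ k) (v : G) (hv : v ∈ Cfsg.centralizerPPrimeCore p u) (χ : Cfsg.IrrCharacter G) (hχ : χ ∈ Cfsg.principalBlock M G) : (χ : G → ℂ) (u * v) = (χ : G → ℂ) u := by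
  classical
  haveI := hM.2.1.isPrime
  set C := Subgroup.centralizer ({u} : Set G) with hC
  letI := Fintype.ofFinite C
  obtain ⟨k, hk⟩ := hu
  have hx : ∃ k : ℕ, u ^ p ^ k = 1 := ⟨k, by rw [← hk]; exact pow_orderOf_eq_one u⟩
  obtain ⟨v', hv', rfl⟩ := Subgroup.mem_map.mp hv
  set K := Cfsg.pPrimeCore p C
  have hK : ¬ p ∣ Nat.card K := Cfsg.Agent.Basics.not_dvd_card_pPrimeCore p
  have hB : Cfsg.blockOf M (χ : G → ℂ) = Cfsg.principalBlock M G :=
    (Cfsg.Agent.Blocks.block_eq_blockOf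
      (Cfsg.Agent.Blocks.isPBlock_blockOf (Cfsg.Agent.CT.trivIrr G)) hχ).symm
  set θ : C → ℂ := fun c => (χ : G → ℂ) (u * (c : G)) with hθdef
  have hθ : Cfsg.IsClassFunction C θ := Cfsg.Agent.Blocks.isClassFunction_translate χ u
  have key : ∀ y : C, ¬ p ∣ orderOf y → θ y = ∑ ψ : Cfsg.IrrCharacter C,
      if ψ ∈ Cfsg.principalBlock M C then Cfsg.classInner θ (ψ : C → ℂ) * (ψ : C → ℂ) y else 0 := by
    intro y hy
    have h0 : θ y = ∑ ψ : Cfsg.IrrCharacter C, Cfsg.classInner θ (ψ : C → ℂ) * (ψ : C → ℂ) y := by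
      conv_lhs => rw [Cfsg.Agent.CT.classFunction_eq_sum hθ]
      simp
    rw [h0, ← Finset.sum_fiberwise_of_maps_to
      (g := fun ψ : Cfsg.IrrCharacter C => Cfsg.blockOf M (ψ : C → ℂ))
      (t := Finset.univ.image fun ψ : Cfsg.IrrCharacter C => Cfsg.blockOf M (ψ : C → ℂ))
      (fun ψ _ => Finset.mem_image_of_mem _ (Finset.mem_univ ψ)),
      Finset.sum_eq_single (Cfsg.principalBlock M C)]
    · rw [Finset.sum_filter]
      refine Finset.sum_congr rfl fun ψ _ => ?_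
      by_cases hψ : ψ ∈ Cfsg.principalBlock M C
      · rw [if_pos hψ, if_pos (show Cfsg.blockOf M (ψ : C → ℂ) = Cfsg.principalBlock M C from (Cfsg.Agent.Blocks.block_eq_blockOf
          (Cfsg.Agent.Blocks.isPBlock_blockOf (Cfsg.Agent.CT.trivIrr C)) hψ).symm)]
      · rw [if_neg hψ, if_neg fun e =>
          hψ (by rw [← e]; exact Cfsg.Agent.Blocks.self_mem_blockOf ψ)]
    · intro b hb hne
      obtain ⟨ψ₀, -, rfl⟩ := Finset.mem_image.mp hb
      have hb' : Cfsg.IsPBlock M (Cfsg.blockOf M (ψ₀ : C → ℂ)) :=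
        Cfsg.Agent.Blocks.isPBlock_blockOf ψ₀
      have hnot : ¬ Cfsg.IsInducedBlock M C (Cfsg.blockOf M (ψ₀ : C → ℂ))
          (Cfsg.blockOf M (χ : G → ℂ)) := by
        rw [hB]
        intro h
        exact hne ((Cfsg.Agent.Blocks.third_main hM ⟨_, h⟩).mp h)
      have h1 := Cfsg.Agent.Blocks.second_main_blockPart hM hx hb' hnot hy
      rw [show Cfsg.blockPart (Cfsg.blockOf M (ψ₀ : C → ℂ)) θ y = ∑ᶠ η ∈ Cfsg.blockOf M (ψ₀ : C → ℂ),
        Cfsg.classInner θ (η : C → ℂ) * (η : C → ℂ) y by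
          convert rfl using 0; rfl,
        Cfsg.Agent.Blocks.finsum_mem_irr] at h1
      rw [Finset.sum_filter]
      refine Eq.trans (Finset.sum_congr rfl fun ψ _ => ?_) h1
      by_cases hψ : ψ ∈ Cfsg.blockOf M (ψ₀ : C → ℂ)
      · rw [if_pos hψ, if_pos (Cfsg.Agent.Blocks.block_eq_blockOf hb' hψ).symm]
      · rw [if_neg hψ, if_neg fun e =>
          hψ (by rw [← e]; exact Cfsg.Agent.Blocks.self_mem_blockOf ψ)]
    · intro hni
      refine absurd (Finset.mem_image.mpr ⟨Cfsg.Agent.CT.trivIrr C, Finset.mem_univ _, rfl⟩) hni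
  have hv1 : ¬ p ∣ orderOf v' := fun h =>
    hK (h.trans (Subgroup.orderOf_dvd_natCard K hv'))
  have h1 : ¬ p ∣ orderOf (1 : C) := by
    rw [orderOf_one]; exact (Fact.out : p.Prime).not_dvd_one
  have e : θ v' = θ 1 := by
    rw [key v' hv1, key 1 h1]
    refine Finset.sum_congr rfl fun ψ _ => ?_
    by_cases hψ : ψ ∈ Cfsg.principalBlock M C
    · rw [if_pos hψ, if_pos hψ, Cfsg.Agent.Blocks.apply_eq_one_of_mem_principalBlock hM hK hψ hv']
    · rw [if_neg hψ, if_neg hψ]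
  simpa [hθdef] using e

end Cfsg.Agent.S0942
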