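import Cfsg.Statements.S0925
import Cfsg.Agent.Lib.Blocks.Orthogonality
-- import your own Cfsg.Agent.* helpers here

set_option autoImplicit false
open Cfsg

namespace Cfsg.Agent.S0925

/-- (i) Let ϑ be a class function on the finite group G and x a p-element, and suppose ϑ vanishes at every element whose p-part is conjugate to x. Then for every block B (relative to a maximal ideal M of the algebraic integers containing p) the B-part of ϑ — the sum over χ ∈ B of the inner product of ϑ with χ, times χ — also vanishes at every such element. (ii) Block orthogonality, its corollary: if the p-parts of g and h are not conjugate, then the sum over χ ∈ B of χ g * χ h⁻¹ is zero for every block B. -/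
theorem result {G : Type*} [Group G] [Finite G] (p : ℕ) [Fact p.Prime] (M : Ideal Cfsg.AlgInt) (hM : Cfsg.IsPModular p M) : (∀ (ϑ : G → ℂ), Cfsg.IsClassFunction G ϑ → ∀ x : G, (∃ k : ℕ, orderOf x = p ^ k) → (∀ u z : G, Cfsg.IsPPart p u z → IsConj x z → ϑ u = 0) → ∀ B : Set (Cfsg.IrrCharacter G), Cfsg.IsPBlock M B → ∀ u z : G, Cfsg.IsPPart p u z → IsConj x z → Cfsg.blockPart B ϑ u = 0) ∧ (∀ g h x y : G, Cfsg.IsPPart p g x → Cfsg.IsPPart p h y → ¬ IsConj x y → ∀ B : Set (Cfsg.IrrCharacter G), Cfsg.IsPBlock M B → ∑ᶠ χ ∈ B, (χ : G → ℂ) g * (χ : G → ℂ) h⁻¹ = 0) := by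
  classical
  haveI := hM.2.1.isPrime
  haveI := Fintype.ofFinite G
  refine ⟨fun ϑ hϑ x hx hvan B hB u z hu hxz => ?_, fun g h x y hgx hhy hxy B hB => ?_⟩
  · have hA := Cfsg.Agent.Blocks.blockCoeff_mem_loc hB
    simp only [Cfsg.blockPart, Cfsg.classInner]
    rw [Cfsg.Agent.Blocks.finsum_mem_irr]
    simp only [Finset.mul_sum, Finset.sum_mul, Finset.ite_sum_zero]
    rw [Finset.sum_comm]
    refine Finset.sum_eq_zero fun v _ => ?_
    obtain ⟨w, hw, -⟩ := Cfsg.Agent.Blocks.exists_isPPart (p := p) v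
    by_cases hwz : IsConj x w
    · simp [hvan v w hw hwz]
    · have h := Cfsg.Agent.Blocks.block_orthogonality hM hA hu hw
        fun hc => hwz (hxz.trans hc)
      rw [Cfsg.Agent.Blocks.finsum_mem_irr] at h
      refine Eq.trans (Eq.trans ?_ (congrArg ((Nat.card G : ℂ)⁻¹ * ϑ v * ·) h)) (mul_zero _)
      simp only [Finset.mul_sum]
      refine Finset.sum_congr rfl fun χ _ => ?_
      split_ifs <;> ring
  · have h0 := Cfsg.Agent.Blocks.block_orthogonality hM
      (Cfsg.Agent.Blocks.blockCoeff_mem_loc hB) hgx hhy hxy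
    rw [← h0]
    exact finsum_congr fun χ => finsum_congr fun _ => by
      rw [Cfsg.Agent.CT.char_inv_eq_conj (Cfsg.Agent.CT.isCharacter_of_isIrr χ.2)]

end Cfsg.Agent.S0925
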