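import Cfsg.Statements.S0638
import Cfsg.Agent.Lib.Invol.OddPSmall
-- import your own Cfsg.Agent.* helpers here

set_option autoImplicit false
open Cfsg

namespace Cfsg.Agent.S0638

/-- For odd p, in a non-cyclic metacyclic p-group the elements of order dividing p generate an elementary abelian subgroup of order p². -/
theorem result {R : Type*} [Group R] [Finite R] {p : ℕ} [Fact p.Prime] (hp : p ≠ 2) (hR : IsPGroup p R) (hm : Cfsg.IsMetacyclic R) (hnc : ¬ IsCyclic R) : Cfsg.IsElementaryAbelian p (Cfsg.omegaOne p (⊤ : Subgroup R)) ∧ Nat.card ↥(Cfsg.omegaOne p (⊤ : Subgroup R)) = p ^ 2 := by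
  obtain ⟨N, hN, hNc, hQc⟩ := hm
  haveI := hN
  haveI := hNc
  haveI := hQc
  obtain ⟨E, hEn, hEc, hEab, hEp⟩ := Cfsg.Agent.PGroup23.exists_normal_elementary_sq hp hR hnc
  set π := QuotientGroup.mk' N with hπ
  -- the elements of order dividing `p` of the cyclic quotient form a subgroup of order at most `p`
  let Q : Subgroup (R ⧸ N) :=
    { carrier := {x | x ^ p = 1}
      one_mem' := one_pow _
      mul_mem' := fun {x y} hx hy => by
        show (x * y) ^ p = 1
        rw [(show Commute x y from (IsCyclic.commGroup (α := R ⧸ N)).mul_comm x y).mul_pow, hx, hy, one_mul]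
      inv_mem' := fun {x} hx => by
        show x⁻¹ ^ p = 1
        rw [inv_pow, hx, inv_one] }
  have hQle : Nat.card Q ≤ p := by
    haveI : Fintype (R ⧸ N) := Fintype.ofFinite _
    classical
    have hle : (Finset.univ.filter fun u : R ⧸ N => u ^ p = 1).card ≤ p :=
      IsCyclic.card_pow_eq_one_le (Fact.out : p.Prime).pos
    have e : Nat.card Q = (Finset.univ.filter fun u : R ⧸ N => u ^ p = 1).card := by
      rw [← Fintype.card_subtype, ← Nat.card_eq_fintype_card]
      rfl
    omega
  set K := Q.comap π with hK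
  have hNK : N ≤ K := fun n hn => by
    show π n ∈ Q
    rw [hπ, QuotientGroup.mk'_apply, (QuotientGroup.eq_one_iff n).2 hn]
    exact one_mem _
  have hmemK : ∀ x : R, x ^ p = 1 → x ∈ K := fun x hx => by
    show π x ^ p = 1
    rw [← map_pow, hx, map_one]
  have hEK : E ≤ K := fun e he => hmemK e (hEp e he)
  have hKnc : ¬ IsCyclic K := fun h => by
    haveI : IsCyclic E := isCyclic_of_injective (Subgroup.inclusion hEK) (Subgroup.inclusion_injective hEK)
    obtain ⟨g, hg⟩ := IsCyclic.exists_ofOrder_eq_natCard (α := E)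
    have := orderOf_dvd_of_pow_eq_one (show g ^ p = 1 from Subtype.ext (hEp g g.2))
    rw [hg, hEc] at this
    have := Nat.le_of_dvd (Fact.out : p.Prime).pos this
    nlinarith [(Fact.out : p.Prime).two_le]
  have hidx : (N.subgroupOf K).index = p := by
    have h1 : N.relIndex K = Nat.card Q := by
      have e : N.relIndex K = π.ker.relIndex K := by rw [hπ, QuotientGroup.ker_mk']
      rw [e, Subgroup.relIndex_ker, hK, Subgroup.map_comap_eq_self_of_surjective (QuotientGroup.mk'_surjective N)]
    obtain ⟨i, hi⟩ := IsPGroup.iff_card.1 ((hR.to_quotient N).to_subgroup Q)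
    show N.relIndex K = p
    rw [h1] 
    refine le_antisymm hQle ?_
    rw [hi]
    refine Nat.le_self_pow (fun h0 => hKnc ?_) p
    have hQb : Q = ⊥ := Subgroup.eq_bot_of_card_eq _ (by rw [hi, h0, pow_zero])
    have : K ≤ N := by
      intro x hx
      have : π x ∈ Q := hx
      rw [hQb, Subgroup.mem_bot] at this
      exact (QuotientGroup.eq_one_iff x).1 this
    exact isCyclic_of_injective (Subgroup.inclusion this) (Subgroup.inclusion_injective this)
  haveI : IsCyclic (N.subgroupOf K) := (Subgroup.subgroupOfEquivOfLe hNK).isCyclic.2 hNc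
  haveI : (N.subgroupOf K).Normal := inferInstance
  obtain ⟨F, hFab, hFc, hF⟩ := Cfsg.Agent.Invol.OddPSmall.cyclic_index_prime hp (hR.to_subgroup K) hKnc
    (N.subgroupOf K) hidx
  have e : Cfsg.omegaOne p (⊤ : Subgroup R) = F.map K.subtype := by
    apply le_antisymm
    · refine (Subgroup.closure_le _).2 fun x hx => ?_
      exact ⟨⟨x, hmemK x hx.2⟩, (hF _).1 (Subtype.ext hx.2), rfl⟩
    · rintro _ ⟨y, hy, rfl⟩
      exact Subgroup.subset_closure ⟨Subgroup.mem_top _, congrArg Subtype.val ((hF y).2 hy)⟩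
  refine ⟨⟨?_, ?_⟩, ?_⟩
  · rw [e]; exact Subgroup.map_isMulCommutative F K.subtype
  · rw [e]; rintro _ ⟨y, hy, rfl⟩; rw [← map_pow, (hF y).2 hy, map_one]
  · rw [e, Subgroup.card_map_of_injective (Subgroup.subtype_injective K), hFc]

end Cfsg.Agent.S0638
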