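import Cfsg.Statements.S0639
import Cfsg.Agent.Lib.OddLocal.RankTwoOmega
import Cfsg.Agent.Lib.Transfer.ClassTwo
import Cfsg.Agent.Lib.Basics.Frattini
-- import your own Cfsg.Agent.* helpers here

set_option autoImplicit false
open Cfsg

namespace Cfsg.Agent.S0639

open Subgroup Cfsg
open scoped commutatorElement

universe u

variable {R : Type u} [Group R] [Finite R] {p : ℕ} [hp : Fact p.Prime]

omit hp in
theorem eq_top_of_sup_frattini (S : Set R) (h : closure S ⊔ frattini R = ⊤) : closure S = ⊤ :=
  frattini_nongenerating h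

omit [Finite R] hp in
theorem normal_zpowers_of_gen {a b x : R} (hgen : closure ({a, b} : Set R) = ⊤) [Finite R]
    (ha : a * x * a⁻¹ ∈ zpowers x) (hb : b * x * b⁻¹ ∈ zpowers x) : (zpowers x).Normal := by
  refine normalizer_eq_top_iff.mp (top_le_iff.mp (hgen ▸ (closure_le _).mpr ?_))
  have key : ∀ g : R, g * x * g⁻¹ ∈ zpowers x → g ∈ normalizer (zpowers x : Set R) := fun g hg =>
    mem_normalizer_iff_map_conj_eq.mpr (eq_of_le_of_card_ge (by
      change (zpowers x).map (MulAut.conj g).toMonoidHom ≤ zpowers x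
      rw [MonoidHom.map_zpowers]
      exact zpowers_le.mpr hg) (card_map_of_injective (MulAut.conj g).injective).ge)
  rintro g (rfl | rfl)
  · exact key _ ha
  · exact key _ hb

/-- A group with a cyclic normal subgroup containing the derived group and one further generator. -/
theorem isMetacyclic_of_two {x y : R} (hc : _root_.commutator R ≤ zpowers x)
    (hgen : closure ({x, y} : Set R) = ⊤) : IsMetacyclic R := by
  haveI hn : (zpowers x).Normal := Normal.of_commutator_le _ hc
  refine ⟨zpowers x, hn, inferInstance, ⟨⟨(y : R ⧸ zpowers x), fun q => ?_⟩⟩⟩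
  induction q using QuotientGroup.induction_on with
  | H r =>
    have : closure ({x, y} : Set R) ≤ (zpowers (y : R ⧸ zpowers x)).comap (QuotientGroup.mk' _) := by
      refine (closure_le _).mpr ?_
      rintro g (rfl | rfl)
      · show QuotientGroup.mk' (zpowers g) g ∈ zpowers ((y : R ⧸ zpowers g))
        rw [QuotientGroup.mk'_apply, (QuotientGroup.eq_one_iff g).mpr (mem_zpowers g)]
        exact one_mem _
      · exact mem_zpowers _
    exact this (hgen ▸ mem_top r)

theorem metacyclic_of_smallExponent (hp3 : 3 < p) : ∀ (n : ℕ) (R : Type u) [Group R] [Finite R],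
    Nat.card R = n → IsPGroup p R → OddLocal.SmallExponent p R → IsMetacyclic R := by
  intro n
  induction n using Nat.strong_induction_on with
  | _ n ih =>
  intro R _ _ hn hR hs
  haveI := hR.isNilpotent
  -- the Frattini quotient
  haveI : (frattini R).Normal := inferInstance
  have hQ2 : Nat.card (R ⧸ frattini R) ≤ p ^ 2 := by
    rw [← card_top (G := R ⧸ frattini R)]
    refine OddLocal.smallExponent_quotient hp3 _ R rfl hR hs (frattini R) ⊤ fun v _ => ?_
    induction v using QuotientGroup.induction_on with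
    | H r => exact (QuotientGroup.eq_one_iff (r ^ p)).mpr (Basics.pow_mem_frattini hR r)
  have hone : ∀ x : R, x ∉ frattini R →
      (∀ g, closure ({x} : Set R) ⊔ frattini R ≠ ⊤ → g ∉ closure ({x} : Set R) ⊔ frattini R →
        closure ({x, g} : Set R) = ⊤) := by
    intro x hx g _ hg
    refine eq_top_of_sup_frattini _ ?_
    set π := QuotientGroup.mk' (frattini R)
    have hsurj := QuotientGroup.mk'_surjective (frattini R)
    set V := (closure ({x, g} : Set R) ⊔ frattini R).map π
    set W := (closure ({x} : Set R) ⊔ frattini R).map π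
    have hWV : W < V := by
      refine lt_of_le_of_ne (map_mono (sup_le_sup_right (Subgroup.closure_mono (by simp)) _)) fun e => hg ?_
      have h1 : π g ∈ W := e ▸ mem_map_of_mem π (mem_sup_left (subset_closure (by simp)))
      obtain ⟨w, hw, hwe⟩ := h1
      have h2 : w⁻¹ * g ∈ frattini R := QuotientGroup.eq.mp hwe
      have := mul_mem hw (mem_sup_right (S := closure ({x} : Set R)) h2)
      rwa [mul_inv_cancel_left] at this
    obtain ⟨i, hi⟩ := IsPGroup.iff_card.mp ((hR.to_quotient (frattini R)).to_subgroup W)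
    obtain ⟨j, hj⟩ := IsPGroup.iff_card.mp ((hR.to_quotient (frattini R)).to_subgroup V)
    have hi0 : i ≠ 0 := fun h0 => hx (by
      rw [h0, pow_zero, card_eq_one] at hi
      exact (QuotientGroup.eq_one_iff x).mp
        (mem_bot.mp (hi ▸ mem_map_of_mem π (mem_sup_left (subset_closure (by simp))) : π x ∈ (⊥ : Subgroup _))))
    have hij : i < j := (Nat.pow_lt_pow_iff_right hp.out.one_lt).mp (hi ▸ hj ▸ Basics.card_lt_of_lt hWV)
    have hV : V = ⊤ := eq_top_of_card_eq _ (le_antisymm (card_le_card_group V)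
      (hQ2.trans (hj ▸ Nat.pow_le_pow_right hp.out.pos (by omega))))
    rw [← comap_map_eq_self (le_sup_right.trans' (QuotientGroup.ker_mk' _).le :
      π.ker ≤ closure ({x, g} : Set R) ⊔ frattini R)]
    rw [show (closure ({x, g} : Set R) ⊔ frattini R).map π = ⊤ from hV, comap_top]
  have hpair : ∀ x : R, x ∉ frattini R → ∃ y, closure ({x, y} : Set R) = ⊤ := by
    intro x hx
    by_cases h : closure ({x} : Set R) ⊔ frattini R = ⊤
    · exact ⟨x, eq_top_of_sup_frattini _ (by simpa using h)⟩
    · obtain ⟨g, -, hg⟩ := SetLike.exists_of_lt (lt_top_iff_ne_top.mpr h)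
      exact ⟨g, hone x hx g h hg⟩
  by_cases hab : _root_.commutator R = ⊥
  · by_cases hfr : frattini R = ⊤
    · have : (⊥ : Subgroup R) = ⊤ := frattini_nongenerating (by rw [hfr, sup_top_eq])
      haveI : Subsingleton R := ⟨fun u v => by rw [mem_bot.mp (this.ge (mem_top u)), mem_bot.mp (this.ge (mem_top v))]⟩
      exact isMetacyclic_of_two (x := (1 : R)) (y := 1) (by rw [hab]; exact bot_le) (Subsingleton.elim _ _)
    · obtain ⟨x, -, hx⟩ := SetLike.exists_of_lt (lt_top_iff_ne_top.mpr hfr)
      obtain ⟨y, hy⟩ := hpair x hx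
      exact isMetacyclic_of_two (by rw [hab]; exact bot_le) hy
  -- a central subgroup of order `p` in the derived group
  obtain ⟨z, hzD, hzc, hz1⟩ := OddLocal.exists_mem_center_ne_one_of_normal hR (_root_.commutator R) hab
  obtain ⟨k₀, hk₀⟩ := IsPGroup.iff_orderOf.mp hR z
  set t := z ^ p ^ (k₀ - 1) with ht
  have hk0 : k₀ ≠ 0 := by rintro rfl; exact hz1 (orderOf_eq_one_iff.mp (by rw [hk₀, pow_zero]))
  have hto : orderOf t = p := by
    rw [ht, orderOf_pow' z (pow_ne_zero _ hp.out.ne_zero), hk₀,
      Nat.gcd_eq_right (Nat.pow_dvd_pow p (Nat.sub_le k₀ 1)), Nat.pow_div (Nat.sub_le k₀ 1) hp.out.pos,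
      show k₀ - (k₀ - 1) = 1 by omega, pow_one]
  have htD : t ∈ _root_.commutator R := pow_mem hzD _
  have htc : ∀ g : R, Commute g t := fun g => (mem_center_iff.mp (pow_mem hzc _) g)
  set T := zpowers t with hT
  haveI : T.Normal := ⟨fun v hv g => by
    obtain ⟨i, rfl⟩ := mem_zpowers_iff.mp hv
    rw [((htc g).zpow_right i).eq, mul_inv_cancel_right]; exact ⟨i, rfl⟩⟩
  have hTb : T ≠ ⊥ := fun h => hp.out.ne_one (by
    rw [← hto, orderOf_eq_one_iff]; exact mem_bot.mp (h ▸ mem_zpowers t))
  obtain ⟨N, hNn, hNc, hQc⟩ := ih _ (hn ▸ Basics.card_quotient_lt hTb) (R ⧸ T) rfl (hR.to_quotient T)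
    (OddLocal.smallExponent_quotient hp3 _ R rfl hR hs T)
  haveI := hNn
  obtain ⟨⟨abar, habar⟩, hgA⟩ := hNc.exists_generator
  obtain ⟨a, rfl⟩ := QuotientGroup.mk'_surjective T abar
  obtain ⟨bq, hgB⟩ := hQc.exists_generator
  obtain ⟨bbar, rfl⟩ := QuotientGroup.mk'_surjective N bq
  obtain ⟨b, rfl⟩ := QuotientGroup.mk'_surjective T bbar
  have hTP : T ≤ frattini R := zpowers_le.mpr (Basics.commutator_le_frattini htD)
  have hNdec : ∀ v : R, QuotientGroup.mk' T v ∈ N → ∃ i j : ℤ, v = a ^ i * t ^ j := by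
    intro v hv
    obtain ⟨i, hi⟩ := mem_zpowers_iff.mp (hgA ⟨_, hv⟩)
    have h1 : QuotientGroup.mk' T (a ^ i) = QuotientGroup.mk' T v := by
      rw [map_zpow]; exact congrArg Subtype.val hi
    obtain ⟨j, hj⟩ := mem_zpowers_iff.mp (QuotientGroup.eq.mp h1)
    exact ⟨i, j, by rw [hj, mul_inv_cancel_left]⟩
  have hgen : closure ({a, b} : Set R) = ⊤ := by
    refine eq_top_of_sup_frattini _ (eq_top_iff.mpr fun v _ => ?_)
    obtain ⟨l, hl⟩ := mem_zpowers_iff.mp (hgB (QuotientGroup.mk' N (QuotientGroup.mk' T v)))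
    rw [← map_zpow, ← map_zpow] at hl
    have h1 : QuotientGroup.mk' T ((b ^ l)⁻¹ * v) ∈ N := by
      rw [map_mul, map_inv]; exact QuotientGroup.eq.mp hl
    obtain ⟨i, j, hij⟩ := hNdec _ h1
    rw [inv_mul_eq_iff_eq_mul.mp hij]
    exact mul_mem (mem_sup_left (zpow_mem (subset_closure (by simp)) l))
      (mul_mem (mem_sup_left (zpow_mem (subset_closure (by simp)) i))
        (mem_sup_right (hTP (zpow_mem (mem_zpowers t) j))))
  set c := ⁅a, b⁆ with hc
  have hcN : QuotientGroup.mk' T c ∈ N := by
    rw [hc, map_commutatorElement, commutatorElement_def, mul_assoc _ _ _, mul_assoc]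
    exact mul_mem habar (by
      rw [← mul_assoc]; exact hNn.conj_mem _ (inv_mem habar) _)
  obtain ⟨k, j, hckj⟩ := hNdec c hcN
  have hac : a * c * a⁻¹ = c := by
    rw [mul_inv_eq_iff_eq_mul, hckj]
    exact (((Commute.refl a).zpow_right k).mul_right ((htc a).zpow_right j)).eq
  have hbc : b * c * b⁻¹ = c ^ (1 - k) := by
    have h1 : b * a * b⁻¹ = c⁻¹ * a := by rw [hc, commutatorElement_def]; group
    have hac' : Commute c⁻¹ a := (show Commute c a from (mul_inv_eq_iff_eq_mul.mp hac).symm).inv_left
    calc b * c * b⁻¹ = (b * a ^ k * b⁻¹) * (b * t ^ j * b⁻¹) := by rw [hckj]; group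
      _ = (c⁻¹ * a) ^ k * t ^ j := by
          rw [← conj_zpow, h1, ((htc b).zpow_right j).eq, mul_inv_cancel_right]
      _ = c⁻¹ ^ k * (a ^ k * t ^ j) := by rw [hac'.mul_zpow, mul_assoc]
      _ = c ^ (1 - k) := by
          rw [← hckj, inv_zpow', ← zpow_add_one, show -k + 1 = 1 - k by ring]
  haveI : (zpowers c).Normal := normal_zpowers_of_gen hgen (by rw [hac]; exact mem_zpowers c)
    (by rw [hbc]; exact zpow_mem (mem_zpowers c) _)
  have hDc : _root_.commutator R = zpowers c := by
    refine le_antisymm ?_ (zpowers_le.mpr (commutator_mem_commutator (mem_top a) (mem_top b)))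
    rw [_root_.commutator_def, commutator_le]
    intro g _ h _
    set π := QuotientGroup.mk' (zpowers c)
    have hab' : Commute (π a) (π b) := by
      rw [← commutatorElement_eq_one_iff_commute, ← map_commutatorElement, ← hc]
      exact (QuotientGroup.eq_one_iff c).mpr (mem_zpowers c)
    have hcomm : ∀ u v : R, Commute (π u) (π v) := by
      have h1 : ∀ u : R, u ∈ closure ({a, b} : Set R) → Commute (π u) (π a) ∧ Commute (π u) (π b) := by
        intro u hu
        induction hu using closure_induction with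
        | mem u hu =>
          rcases hu with rfl | rfl
          · exact ⟨Commute.refl _, hab'⟩
          · exact ⟨hab'.symm, Commute.refl _⟩
        | one => simp
        | mul u v _ _ hu hv => exact ⟨by rw [map_mul]; exact hu.1.mul_left hv.1, by rw [map_mul]; exact hu.2.mul_left hv.2⟩
        | inv u _ hu => exact ⟨by rw [map_inv]; exact hu.1.inv_left, by rw [map_inv]; exact hu.2.inv_left⟩
      intro u v
      have hv : v ∈ closure ({a, b} : Set R) := hgen ▸ mem_top v
      induction hv using closure_induction with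
      | mem v hv =>
        rcases hv with rfl | rfl
        · exact (h1 u (hgen ▸ mem_top u)).1
        · exact (h1 u (hgen ▸ mem_top u)).2
      | one => simp
      | mul v w _ _ hv hw => rw [map_mul]; exact hv.mul_right hw
      | inv v _ hv => rw [map_inv]; exact hv.inv_right
    apply (QuotientGroup.eq_one_iff _).mp
    show π ⁅g, h⁆ = 1
    rw [map_commutatorElement, commutatorElement_eq_one_iff_commute]
    exact hcomm g h
  by_cases hTa : T ≤ zpowers a
  · refine isMetacyclic_of_two (x := a) (y := b) ?_ hgen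
    rw [hDc, hckj]
    exact zpowers_le.mpr (mul_mem (zpow_mem (mem_zpowers a) k) (hTa (zpow_mem (mem_zpowers t) j)))
  -- the derived group is `T`
  obtain ⟨m, hm⟩ := mem_zpowers_iff.mp (hDc ▸ htD : t ∈ zpowers c)
  have hTD : _root_.commutator R ≤ T := by
    rw [hDc]
    refine zpowers_le.mpr ?_
    have hm' : a ^ (k * m) * t ^ (j * m) = t := by
      rw [zpow_mul, zpow_mul, ← ((htc (a ^ k)).zpow_right j).mul_zpow, ← hckj, hm]
    have hinT : a ^ (k * m) ∈ T := by
      rw [eq_mul_inv_of_mul_eq hm']
      exact mul_mem (mem_zpowers t) (inv_mem (zpow_mem (mem_zpowers t) _))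
    have htriv : ∀ v, v ∈ T → v ∈ zpowers a → v = 1 := by
      intro v hv hva
      by_contra hv1
      refine hTa ?_
      have : zpowers v = T := eq_of_le_of_card_ge (zpowers_le.mpr hv) (by
        rw [hT, Nat.card_zpowers, Nat.card_zpowers, hto]
        have hd : orderOf v ∣ p := by
          obtain ⟨l, rfl⟩ := mem_zpowers_iff.mp hv
          refine orderOf_dvd_of_pow_eq_one ?_
          rw [← zpow_natCast, ← zpow_mul, mul_comm, zpow_mul, zpow_natCast, ← hto, pow_orderOf_eq_one, one_zpow]
        rcases (Nat.dvd_prime hp.out).mp hd with h | h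
        · exact absurd (orderOf_eq_one_iff.mp h) hv1
        · rw [h])
      exact this ▸ zpowers_le.mpr hva
    have hkm : a ^ (k * m) = 1 := htriv _ hinT (zpow_mem (mem_zpowers a) _)
    have hpm : ¬ (p : ℤ) ∣ m := by
      intro hd
      rw [hkm, one_mul] at hm'
      have h1 : t ^ (j * m) = 1 := by
        rw [← orderOf_dvd_iff_zpow_eq_one, hto]; exact Dvd.dvd.mul_left hd j
      rw [h1] at hm'
      exact hp.out.ne_one (hto ▸ orderOf_eq_one_iff.mpr hm'.symm)
    obtain ⟨e, he⟩ := IsPGroup.iff_orderOf.mp hR (a ^ k)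
    have hak : a ^ k = 1 := by
      rw [← orderOf_eq_one_iff]
      have h1 : ((orderOf (a ^ k) : ℕ) : ℤ) ∣ m := orderOf_dvd_iff_zpow_eq_one.mpr (by rw [← zpow_mul, hkm])
      rcases Nat.eq_zero_or_pos e with h0 | h0
      · rw [he, h0, pow_zero]
      · exact absurd ((Int.natCast_dvd_natCast.mpr (he ▸ dvd_pow_self p h0.ne')).trans h1) hpm
    rw [hckj, hak, one_mul]
    exact zpow_mem (mem_zpowers t) j
  -- the power map
  have hcen : ∀ u v : R, ∀ w : R, Commute ⁅u, v⁆ w := fun u v w => by
    obtain ⟨i, hi⟩ := mem_zpowers_iff.mp (hTD (commutator_mem_commutator (mem_top u) (mem_top v)))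
    rw [← hi]; exact ((htc w).zpow_right i).symm
  let φ : R →* R := MonoidHom.mk' (fun v => v ^ p) fun u v => by
    show (u * v) ^ p = u ^ p * v ^ p
    rw [Transfer.mul_pow_of_commute (hcen _ _ _) (hcen _ _ _)]
    obtain ⟨i, hi⟩ := mem_zpowers_iff.mp (hTD (commutator_mem_commutator (mem_top v) (mem_top u)))
    have : ⁅v, u⁆ ^ p.choose 2 = 1 := by
      rw [← hi, ← zpow_natCast, ← zpow_mul, ← orderOf_dvd_iff_zpow_eq_one, hto]
      exact Dvd.dvd.mul_left (Int.natCast_dvd_natCast.mpr
        (hp.out.dvd_choose_self (by norm_num) (by omega))) i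
    rw [this, mul_one]
  have hker : Nat.card φ.ker ≤ p ^ 2 := hs _ fun v hv => hv
  have hΦle : φ.range ≤ frattini R := by rintro _ ⟨v, rfl⟩; exact Basics.pow_mem_frattini hR v
  have hΦ : φ.range = frattini R := by
    refine eq_of_le_of_card_ge hΦle ?_
    have hidx : p ^ 2 ≤ (frattini R).index := by
      obtain ⟨i, hi⟩ := IsPGroup.iff_card.mp (hR.to_quotient (frattini R))
      rw [index_eq_card, hi]
      refine Nat.pow_le_pow_right hp.out.pos ?_
      by_contra hlt
      apply hab
      haveI : IsCyclic (R ⧸ frattini R) := by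
        rcases Nat.lt_or_ge i 1 with h1 | h1
        · haveI : Subsingleton (R ⧸ frattini R) :=
            (Nat.card_eq_one_iff_unique.mp (by rw [hi, Nat.lt_one_iff.mp h1, pow_zero])).1
          infer_instance
        · exact isCyclic_of_prime_card (show Nat.card _ = p by rw [hi, show i = 1 by omega, pow_one])
      obtain ⟨q, hq⟩ := IsCyclic.exists_generator (α := R ⧸ frattini R)
      obtain ⟨g, rfl⟩ := QuotientGroup.mk'_surjective (frattini R) q
      have hg : closure ({g} : Set R) = ⊤ := eq_top_of_sup_frattini _ (eq_top_iff.mpr fun v _ => by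
        obtain ⟨l, hl⟩ := mem_zpowers_iff.mp (hq (QuotientGroup.mk' _ v))
        rw [← map_zpow] at hl
        have := mul_mem (mem_sup_left (T := frattini R) (zpow_mem (subset_closure (Set.mem_singleton g)) l))
          (mem_sup_right (S := closure ({g} : Set R)) (QuotientGroup.eq.mp hl))
        rwa [mul_inv_cancel_left] at this)
      rw [← zpowers_eq_closure] at hg
      rw [_root_.commutator_def, eq_bot_iff, commutator_le]
      intro u _ v _
      obtain ⟨l, rfl⟩ := mem_zpowers_iff.mp (hg ▸ mem_top u)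
      obtain ⟨l', rfl⟩ := mem_zpowers_iff.mp (hg ▸ mem_top v)
      exact mem_bot.mpr (commutatorElement_eq_one_iff_commute.mpr (Commute.zpow_zpow_self g l l'))
    have h1 := card_mul_index φ.ker
    rw [index_ker, ← (frattini R).card_mul_index] at h1
    have h2 : Nat.card (frattini R) * p ^ 2 ≤ Nat.card φ.range * p ^ 2 :=
      calc Nat.card (frattini R) * p ^ 2 ≤ Nat.card (frattini R) * (frattini R).index := Nat.mul_le_mul_left _ hidx
        _ = Nat.card φ.ker * Nat.card φ.range := h1.symm
        _ ≤ Nat.card φ.range * p ^ 2 := by rw [mul_comm]; exact Nat.mul_le_mul_left _ hker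
    exact Nat.le_of_mul_le_mul_right h2 (pow_pos hp.out.pos 2)
  obtain ⟨x, hx, hmax⟩ := Set.exists_max_image {v : R | t ∈ zpowers v} orderOf (Set.toFinite _) ⟨t, mem_zpowers t⟩
  have hxΦ : x ∉ frattini R := by
    intro h
    rw [← hΦ] at h
    obtain ⟨y, rfl⟩ := h
    have hty : t ∈ zpowers y := (zpowers_le.mpr (pow_mem (mem_zpowers y) p)) hx
    have hle := hmax y hty
    change orderOf y ≤ orderOf (y ^ p) at hle
    rw [orderOf_pow' y hp.out.ne_zero] at hle
    obtain ⟨e, he⟩ := IsPGroup.iff_orderOf.mp hR y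
    have he0 : e ≠ 0 := by
      rintro rfl
      rw [pow_zero, orderOf_eq_one_iff] at he
      rw [he, zpowers_one_eq_bot, mem_bot] at hty
      exact hp.out.ne_one (hto ▸ orderOf_eq_one_iff.mpr hty)
    have hgcd : Nat.gcd (orderOf y) p = p := Nat.gcd_eq_right (he ▸ dvd_pow_self p he0)
    rw [hgcd] at hle
    exact absurd hle (not_le.mpr (Nat.div_lt_self (orderOf_pos y) hp.out.one_lt))
  obtain ⟨y, hy⟩ := hpair x hxΦ
  exact isMetacyclic_of_two (hTD.trans (zpowers_le.mpr hx)) hy

/-- Huppert's criterion: for p greater than 3, a p-group whose elements of order dividing p generate a subgroup of order at most p² is metacyclic. -/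
theorem result {R : Type*} [Group R] [Finite R] {p : ℕ} [Fact p.Prime] (hp : 3 < p) (hR : IsPGroup p R) (hO : Nat.card ↥(Cfsg.omegaOne p (⊤ : Subgroup R)) ≤ p ^ 2) : Cfsg.IsMetacyclic R := by
  refine metacyclic_of_smallExponent hp _ R rfl hR fun Q hQ => le_trans (Subgroup.card_le_of_le ?_) hO
  exact fun v hv => Subgroup.subset_closure ⟨Subgroup.mem_top v, hQ v hv⟩

end Cfsg.Agent.S0639
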