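import Cfsg.Statements.S0939
import Cfsg.Agent.Lib.Blocks.Covering
import Cfsg.Agent.Lib.Basics.Cores
-- import your own Cfsg.Agent.* helpers here

set_option autoImplicit false
open Cfsg

namespace Cfsg.Agent.S0939

/-- Let G be a finite group with a normal p-complement (the largest normal subgroup O_p'(G) of order prime to p has p-power index). Then, relative to any maximal ideal M of the algebraic integers containing p, the principal block of G is the set of irreducible characters χ with χ n = χ 1 for every n ∈ O_p'(G). -/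
theorem result {G : Type*} [Group G] [Finite G] (p : ℕ) [Fact p.Prime] (M : Ideal Cfsg.AlgInt) (hM : Cfsg.IsPModular p M) (hnc : ∃ k : ℕ, (Cfsg.pPrimeCore p G).index = p ^ k) : Cfsg.principalBlock M G = {χ : Cfsg.IrrCharacter G | ∀ n ∈ Cfsg.pPrimeCore p G, (χ : G → ℂ) n = (χ : G → ℂ) 1} := by
  classical
  haveI := hM.2.1.isPrime
  letI := Fintype.ofFinite G
  letI := Fintype.ofFinite (Cfsg.pPrimeCore p G)
  have hK : ¬ p ∣ Nat.card (Cfsg.pPrimeCore p G) := Cfsg.Agent.Basics.not_dvd_card_pPrimeCore p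
  ext χ
  refine ⟨fun hχ n hn => Cfsg.Agent.Blocks.apply_eq_one_of_mem_principalBlock hM hK hχ hn,
    fun hχ => ?_⟩
  have hB : Cfsg.IsPBlock M (Cfsg.principalBlock M G) :=
    Cfsg.Agent.Blocks.isPBlock_blockOf (Cfsg.Agent.CT.trivIrr G)
  refine Cfsg.Agent.Blocks.mem_of_supported hB
    (fun u hu => Cfsg.Agent.Blocks.supported_of_pow_index hM hnc hB hu)
    (χ := Cfsg.Agent.CT.trivIrr G) (θ := Cfsg.Agent.CT.trivIrr _)
    (θ' := Cfsg.Agent.CT.trivIrr _) (Cfsg.Agent.Blocks.trivIrr_mem_principalBlock) ?_ ?_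
    (Cfsg.Agent.Blocks.sameBlock_refl _)
  · simp [Cfsg.classInner]
  · have hχ' : ∀ n : Cfsg.pPrimeCore p G, (χ : G → ℂ) n = (χ : G → ℂ) 1 := fun n => hχ n n.2
    simp [Cfsg.classInner, hχ', Cfsg.Agent.CT.irr_one_ne_zero χ.2]

end Cfsg.Agent.S0939
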