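import Cfsg.Statements.S0914
import Cfsg.Agent.Lib.Blocks.Orthogonality
-- import your own Cfsg.Agent.* helpers here

set_option autoImplicit false
open Cfsg

namespace Cfsg.Agent.S0914

/-- Let χ be an irreducible character of the finite group G, p a prime and M a maximal ideal of the algebraic integers containing p. Then p does not divide the integer (Nat.card G) / χ(1) if and only if the block of χ relative to M consists of χ alone. -/
theorem result {G : Type*} [Group G] [Finite G] (p : ℕ) [Fact p.Prime] (M : Ideal Cfsg.AlgInt) (hM : Cfsg.IsPModular p M) (χ : Cfsg.IrrCharacter G) : ¬ p ∣ Nat.card G / Cfsg.charDegree (χ : G → ℂ) ↔ Cfsg.blockOf M (χ : G → ℂ) = {χ} := by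
  classical
  haveI := hM.2.1.isPrime
  haveI := Fintype.ofFinite G
  have hχ := Cfsg.Agent.CT.isCharacter_of_isIrr χ.2
  have h1 : (χ : G → ℂ) 1 = (Cfsg.charDegree (χ : G → ℂ) : ℂ) := Cfsg.Agent.CT.deg_eq hχ
  have hd0 : 0 < Cfsg.charDegree (χ : G → ℂ) := Cfsg.Agent.CT.deg_pos χ.2
  obtain ⟨ρn, ρ, hρ, hρe⟩ := χ.2
  haveI := hρ
  have hdvd : Cfsg.charDegree (χ : G → ℂ) ∣ Nat.card G := by
    have h := Cfsg.Agent.CT.finrank_dvd_card ρ
    have e : (Cfsg.charDegree (χ : G → ℂ) : ℂ) = (Module.finrank ℂ (Fin ρn → ℂ) : ℂ) := by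
      rw [← h1, ← hρe, Representation.char_one]
    rwa [Nat.cast_inj.mp e]
  obtain ⟨q, hq⟩ := hdvd
  have hq0 : q ≠ 0 := by rintro rfl; simp at hq
  rw [hq, Nat.mul_div_cancel_left q hd0]
  have hdisj : ∀ g, Cfsg.blockCoeff ({χ} : Set (Cfsg.IrrCharacter G)) g =
      (q : ℂ)⁻¹ * starRingEnd ℂ ((χ : G → ℂ) g) := fun g => by
    rw [Cfsg.blockCoeff, finsum_mem_singleton, h1, hq]
    push_cast
    have : (Cfsg.charDegree (χ : G → ℂ) : ℂ) ≠ 0 := Nat.cast_ne_zero.mpr hd0.ne'
    field_simp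
  constructor
  · intro hpq
    refine Set.Subset.antisymm (Cfsg.Agent.Blocks.blockOf_subset_of_integral (fun g => ?_) rfl)
      (Set.singleton_subset_iff.mpr (Cfsg.Agent.Blocks.self_mem_blockOf χ))
    rw [hdisj]
    exact mul_mem (Cfsg.Agent.Blocks.inv_mem_loc (natCast_mem _ _)
      fun hI => hpq ((Cfsg.Agent.Blocks.memLocalIdeal_natCast hM q).mp hI))
      (Cfsg.Agent.Blocks.integral_mem_loc
        (Cfsg.Agent.CT.isIntegral_conj (Cfsg.Agent.Blocks.isIntegral_irr χ.2 g)))
  · intro hB hpq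
    have hvan : ∀ u, p ∣ orderOf u → (χ : G → ℂ) u = 0 := fun u hu => by
      have := Cfsg.Agent.Blocks.blockCoeff_block_eq_zero hM
        (Cfsg.Agent.Blocks.isPBlock_blockOf χ) hu
      rw [hB, hdisj] at this
      simpa [Nat.cast_ne_zero.mpr hq0] using this
    obtain ⟨n, hn, -⟩ := Cfsg.Agent.Blocks.exists_eq_pow_mul (G := G) (M := M) (Fact.out : p.Prime)
      (fun η => if η = χ then 1 else 0) (fun η => by split_ifs <;> simp) (fun u hu => by
        simp [hvan u hu])
    simp only [ite_mul, one_mul, zero_mul, Finset.sum_ite_eq', Finset.mem_univ, if_true, h1] at hn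
    have hn' : Cfsg.charDegree (χ : G → ℂ) = p ^ (Nat.card G).factorization p * n χ := by
      exact_mod_cast hn
    have hp : p.Prime := Fact.out
    have : p ^ ((Nat.card G).factorization p + 1) ∣ Nat.card G := by
      obtain ⟨q', rfl⟩ := hpq
      refine ⟨n χ * q', ?_⟩
      conv_lhs => rw [hq, hn']
      ring
    exact Nat.pow_succ_factorization_not_dvd Nat.card_pos.ne' hp this

end Cfsg.Agent.S0914
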