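import Cfsg.Statements.S0962
import Cfsg.Agent.Lib.Blocks.Defect
import Mathlib.LinearAlgebra.Dimension.Constructions
-- import your own Cfsg.Agent.* helpers here

set_option autoImplicit false
open Cfsg

namespace Cfsg.Agent.S0962

/-- Fix a maximal ideal M of the algebraic integers containing the prime p and a natural number d. The number of blocks of the finite group G of defect at least d is at most the number of conjugacy classes of p-regular elements of G of defect at least d, where the defect of a class is the exponent of p in the order of the centralizer of any of its elements. -/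
theorem result {G : Type*} [Group G] [Finite G] (p : ℕ) [Fact p.Prime] (M : Ideal Cfsg.AlgInt) (hM : Cfsg.IsPModular p M) (d : ℕ) : Nat.card {B : Set (Cfsg.IrrCharacter G) // Cfsg.IsPBlock M B ∧ d ≤ Cfsg.blockDefect p B} ≤ Nat.card {C : ConjClasses G // ∃ g : G, ConjClasses.mk g = C ∧ Cfsg.IsPRegular p g ∧ d ≤ (Nat.card (Subgroup.centralizer ({g} : Set G))).factorization p} := by
  classical
  haveI := hM.2.1.isPrime
  haveI : Finite (Cfsg.IrrCharacter G) := Finite.of_fintype _
  let k := Cfsg.Agent.Blocks.Res M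
  let S := {B : Set (Cfsg.IrrCharacter G) // Cfsg.IsPBlock M B ∧ d ≤ Cfsg.blockDefect p B}
  let T := {C : ConjClasses G // ∃ g : G, ConjClasses.mk g = C ∧ Cfsg.IsPRegular p g ∧
    d ≤ (Nat.card (Subgroup.centralizer ({g} : Set G))).factorization p}
  show Nat.card S ≤ Nat.card T
  haveI : Fintype S := Fintype.ofFinite _
  haveI : Fintype T := Fintype.ofFinite _
  choose χ hχ using fun B : S => Cfsg.Agent.Blocks.block_nonempty B.2.1
  let v : S → T → k := fun B C =>
    Cfsg.Agent.Blocks.red M (Cfsg.Agent.Blocks.centralCharL M (χ B) (Cfsg.Agent.Blocks.rep C.1))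
  let f : S → T → k := fun B C =>
    (Cfsg.Agent.Blocks.bBar M B.1 : MonoidAlgebra k G).coeff (Cfsg.Agent.Blocks.rep C.1)
  have key : ∀ B B' : S, ∑ C, f B C * v B' C = if B = B' then 1 else 0 := by
    intro B B'
    have h := Cfsg.Agent.Blocks.omegaBar_bBar (χ := χ B') (Cfsg.Agent.Blocks.blockCoeff_mem_loc B.2.1)
    rw [Cfsg.Agent.Blocks.omegaBar_apply] at h
    rw [show (if B = B' then (1 : k) else 0) = if χ B' ∈ B.1 then 1 else 0 by
      by_cases e : B = B'
      · subst e; rw [if_pos rfl, if_pos (hχ B)]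
      · rw [if_neg e, if_neg fun hm => e (Subtype.ext
          (Cfsg.Agent.Blocks.block_eq_of_mem B.2.1 B'.2.1 hm (hχ B')))], ← h]
    refine Eq.trans ?_ (Finset.sum_subset (Finset.subset_univ
      (Finset.univ.map (Function.Embedding.subtype _ : T ↪ ConjClasses G))) fun K _ hK => ?_)
    · rw [Finset.sum_map]; rfl
    by_contra hne
    have h1 := (Cfsg.Agent.Blocks.coeff_bBar_ne_zero_iff
      (Cfsg.Agent.Blocks.blockCoeff_mem_loc B.2.1) _).mp (left_ne_zero_of_mul hne)
    have h2 := (Cfsg.Agent.Blocks.red_centralCharL_ne_zero_iff (χ B') _).mp (right_ne_zero_of_mul hne)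
    obtain ⟨D, hD⟩ := Cfsg.Agent.Blocks.exists_defectGroup (p := p) B'.2.1
    obtain ⟨x, hx⟩ := Cfsg.Agent.Blocks.defect_conj_le_centralizer hM B'.2.1 hD (hχ B') h2
    have h3 := Subgroup.card_dvd_of_le hx
    rw [Cfsg.Agent.Blocks.card_map_conj, Cfsg.Agent.Blocks.card_defectGroup hM B'.2.1 hD] at h3
    exact hK (Finset.mem_map.mpr ⟨⟨K, _, Cfsg.Agent.Blocks.mk_rep K,
      Cfsg.Agent.Blocks.regular_of_red_blockCoeff hM B.2.1 h1,
      le_trans B'.2.2 ((hM.1.pow_dvd_iff_le_factorization Nat.card_pos.ne').mp h3)⟩,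
      Finset.mem_univ _, rfl⟩)
  have hli : LinearIndependent k v := by
    rw [Fintype.linearIndependent_iff]
    intro c hc B
    have h0 : ∀ C : T, ∑ B', c B' * v B' C = 0 := fun C => by
      have := congrFun hc C
      simpa only [Finset.sum_apply, Pi.smul_apply, smul_eq_mul, Pi.zero_apply] using this
    calc c B = ∑ B', c B' * (if B = B' then 1 else 0) := by
          rw [Finset.sum_eq_single B (fun x _ hx => by rw [if_neg (Ne.symm hx), mul_zero]) (by simp), if_pos rfl, mul_one]
      _ = ∑ B', ∑ C, f B C * (c B' * v B' C) := by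
        refine Finset.sum_congr rfl fun B' _ => ?_
        rw [← key, Finset.mul_sum]
        exact Finset.sum_congr rfl fun C _ => by ring
      _ = ∑ C, f B C * ∑ B', c B' * v B' C := by
        rw [Finset.sum_comm]
        exact Finset.sum_congr rfl fun C _ => (Finset.mul_sum _ _ _).symm
      _ = 0 := Finset.sum_eq_zero fun C _ => by rw [h0, mul_zero]
  have := hli.fintype_card_le_finrank
  rw [Module.finrank_pi] at this
  rwa [Nat.card_eq_fintype_card, Nat.card_eq_fintype_card]

end Cfsg.Agent.S0962
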