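import Cfsg.Statements.S4652
import Cfsg.Agent.Lib.Blocks.Defect

set_option autoImplicit false
open Cfsg

namespace Cfsg.Agent.S4652

/-- Fix a prime p and a maximal ideal M of the algebraic integers containing p. The defect groups of the principal p-block of a finite group G are exactly the Sylow p-subgroups of G: a subgroup D is a defect group of the principal block if and only if D is a Sylow p-subgroup. -/
theorem result {G : Type*} [Group G] [Fintype G] (p : ℕ) [Fact p.Prime] (M : Ideal Cfsg.AlgInt) (hM : Cfsg.IsPModular p M) (D : Subgroup G) : Cfsg.IsDefectGroup p M (Cfsg.principalBlock M G) D ↔ ∃ S : Sylow p G, (S : Subgroup G) = D := by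
  haveI := Blocks.isPrime_of_modular hM
  have hB := Blocks.isPBlock_principalBlock (M := M) (G := G)
  have hd : blockDefect p (principalBlock M G) = (Nat.card G).factorization p := by
    have h0 : sInf ((fun χ : IrrCharacter G => (charDegree (χ : G → ℂ)).factorization p) ''
        principalBlock M G) = 0 := by
      refine le_antisymm (Nat.sInf_le ⟨CT.trivIrr G, Blocks.trivIrr_mem_principalBlock, ?_⟩)
        (Nat.zero_le _)
      have h1 : charDegree ((CT.trivIrr G : IrrCharacter G) : G → ℂ) = 1 := by
        have := Blocks.charDegree_cast (CT.trivIrr G)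
        have h2 : ((CT.trivIrr G : IrrCharacter G) : G → ℂ) 1 = 1 := rfl
        rw [h2] at this
        exact_mod_cast this.symm
      simp [h1]
    rw [blockDefect, h0, Nat.sub_zero]
  have hcard : ∀ D : Subgroup G, IsDefectGroup p M (principalBlock M G) D →
      Nat.card D = p ^ (Nat.card G).factorization p := fun D hD => by
    rw [Blocks.card_defectGroup hM hB hD, hd]
  refine ⟨fun hD => ⟨Sylow.ofCard D (hcard D hD), rfl⟩, ?_⟩
  rintro ⟨S, rfl⟩
  obtain ⟨D, hD⟩ := Blocks.exists_defectGroup (p := p) hB
  obtain ⟨x, hx⟩ := MulAction.exists_smul_eq G (Sylow.ofCard D (hcard D hD)) S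
  rw [← hx]
  exact Blocks.isDefectGroup_conj hD x

end Cfsg.Agent.S4652
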