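import Cfsg.Statements.S4715
import Cfsg.Agent.Lib.Blocks.MajorBound
import Cfsg.Agent.Lib.Blocks.InertialFree

set_option autoImplicit false
open Cfsg

namespace Cfsg.Agent.S4715

open MonoidAlgebra
open Cfsg.Agent Cfsg.Agent.Blocks Cfsg.Agent.BPairs

universe u

variable {G : Type u} [Group G] [Finite G] {p : ℕ} {M : Ideal AlgInt} [M.IsPrime]
  {B : Set (IrrCharacter G)} {D : Subgroup G}

theorem transport_block {C₁ C₂ : Subgroup G} (h : C₁ = C₂) {b : Set (IrrCharacter C₁)}
    (hb : IsInducedBlock M C₁ b B) :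
    ∃ b' : Set (IrrCharacter C₂), IsInducedBlock M C₂ b' B ∧
      blockDefect p b' = blockDefect p b ∧ bel M C₂ b' = bel M C₁ b := by
  subst h
  exact ⟨b, hb, rfl, rfl⟩

theorem blockDefect_conjBlock (Q : Subgroup G) (x : G)
    (f : Set (IrrCharacter (Subgroup.centralizer (Q : Set G)))) :
    blockDefect p (conjBlock Q x f) = blockDefect p f := by
  rw [conjBlock_eq, BPairs.conjSet]
  have h : ∀ {H K : Type u} [Group H] [Group K] [Finite H] [Finite K] (e : H ≃* K)
      (b : Set (IrrCharacter K)), blockDefect p (pullSet e b) = blockDefect p b := by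
    intro H K _ _ _ _ e b
    rw [show pullSet e b = Glauberman.compIrr e '' b from Set.ext fun ξ =>
      ⟨fun hξ => ⟨_, hξ, (Glauberman.compIrrEquiv e).apply_symm_apply ξ⟩, by
        rintro ⟨χ, hχ, rfl⟩
        exact (compIrr_mem_pullSet e).mpr hχ⟩]
    exact blockDefect_image_compIrr e b
  exact h _ _

/-- The block of the centralizer of the defect group under a block of `D C(D)`. -/
theorem exists_pair_extended (hM : IsPModular p M) (hDp : IsPGroup p D) {H : Subgroup G}
    (hH : H = D ⊔ Subgroup.centralizer (D : Set G)) {b : Set (IrrCharacter H)}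
    (hind : IsInducedBlock M H b B) :
    ∃ e : Set (IrrCharacter (Subgroup.centralizer (D : Set G))),
      IsBrauerPairOf p M B D e ∧ bel M (Subgroup.centralizer (D : Set G)) e = bel M H b := by
  classical
  haveI := Fintype.ofFinite G
  haveI := Fact.mk hM.1
  haveI := charP_res hM
  obtain ⟨hb, hB, -⟩ := id hind
  have hDH : D ≤ H := hH ▸ le_sup_left
  have hCH : Subgroup.centralizer (D : Set G) ≤ H := hH ▸ le_sup_right
  have hHN : H ≤ Subgroup.normalizer (D : Set G) :=
    hH ▸ sup_le Subgroup.le_normalizer (Subgroup.centralizer_le_normalizer _)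
  haveI : (D.subgroupOf H).Normal := Subgroup.normal_subgroupOf_of_le_normalizer hHN
  have hsupp : ∀ u ∉ Subgroup.centralizer (D : Set G), (bel M H b).coeff u = 0 := by
    intro u hu
    by_cases huH : u ∈ H
    · rw [show u = ((⟨u, huH⟩ : H) : G) from rfl, coeff_bel]
      refine coeff_bBar_eq_zero_of_notMem (P := D.subgroupOf H) hDp.comap_subtype hb
        fun hmem => hu ?_
      rw [Subgroup.mem_centralizer_iff] at hmem ⊢
      intro q hq
      exact congrArg Subtype.val (hmem ⟨q, hDH hq⟩ hq)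
    · rw [bel, coeff_embH_of_notMem _ _ huH]
  have hi : Inv2 D (bel M H b) := ⟨isInv_mono hDH (isInv_bel H b), isInv_mono hCH (isInv_bel H b)⟩
  obtain ⟨f, hf, hne⟩ : ∃ f ∈ blocks M (Subgroup.centralizer (D : Set G)),
      bel M H b * bel M (Subgroup.centralizer (D : Set G)) f ≠ 0 := by
    by_contra hcon
    push Not at hcon
    have h1 : bel M H b * ∑ f ∈ blocks M (Subgroup.centralizer (D : Set G)),
        bel M (Subgroup.centralizer (D : Set G)) f = 0 := by
      rw [Finset.mul_sum]
      exact Finset.sum_eq_zero hcon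
    rw [sum_bel hM, mul_one] at h1
    exact bel_ne_zero H hb h1
  have hfb := mem_blocks.mp hf
  have hfix : ∀ h ∈ H, conjA h (bel M (Subgroup.centralizer (D : Set G)) f) =
      bel M (Subgroup.centralizer (D : Set G)) f := by
    intro h hh
    have hle : H ≤ ({ carrier := {x | conjA x (bel M (Subgroup.centralizer (D : Set G)) f) =
                        bel M (Subgroup.centralizer (D : Set G)) f}
                      one_mem' := conjA_one _
                      mul_mem' := fun {x y} hx hy => by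
                        simp only [Set.mem_ofPred_eq] at hx hy ⊢
                        rw [← conjA_conjA, hy, hx]
                      inv_mem' := fun {x} hx => by
                        simp only [Set.mem_ofPred_eq] at hx ⊢
                        conv_lhs => rw [← hx]
                        rw [conjA_conjA, inv_mul_cancel, conjA_one] } : Subgroup G) :=
      hH ▸ sup_le (fun q hq => conjA_bel_self D f hq)
        (fun c hc => isInv_iff_conjA.mp (isInv_bel _ f) c hc)
    exact hle hh
  obtain ⟨E, hE, hEbel, -⟩ := exists_local_block hM (H := H) (Q := D) (f := f)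
    ⟨⟨hDp, hfb⟩, hDH, hCH, hHN, hfix⟩
  have hEb : E = b := by
    by_contra hne'
    apply hne
    rw [← hEbel]
    exact bel_mul_of_ne hM H hb hE fun h => hne' h.symm
  subst hEb
  refine ⟨f, isBrauerPairOf_iff.mpr ⟨hDp, hfb, hB, fun ξ hξ => ?_⟩, hEbel.symm⟩
  let φ : ZG (Res M) H →+* Res M :=
    { toFun := fun a => val M D ξ (embH H (a : MonoidAlgebra (Res M) H))
      map_one' := by rw [OneMemClass.coe_one, map_one, val_one]
      map_mul' := fun a c => by
        rw [MulMemClass.coe_mul, map_mul, val_mul hM hDp ξ (isInv_embH hDH a.2) (isInv_embH hDH c.2)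
          (isInv_embH hCH a.2) (isInv_embH hCH c.2)]
      map_zero' := by simp [val]
      map_add' := fun a c => by rw [AddMemClass.coe_add, map_add, val_add] }
  obtain ⟨θ, hθ⟩ := exists_eq_omegaBar hM φ fun r => by
    show val M D ξ (embH _ (single (1 : H) r)) = r
    rw [embH_single, OneMemClass.coe_one, val_eq_omegaBar D ξ
      (BPairs.resH_mem_center_of_isInv (by
        rw [← OneMemClass.coe_one H, ← embH_single]
        exact isInv_embH hCH (scalarZ r).2))]
    refine Eq.trans (congrArg _ (Subtype.ext ?_)) (omegaBar_scalarZ ξ r)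
    show resH _ (single (1 : G) r) = single 1 r
    rw [← OneMemClass.coe_one (Subgroup.centralizer (D : Set G)), ← embH_single, resH_embH]
  have h1 : φ (bBar M E) = 1 := by
    show val M D ξ (bel M H E) = 1
    rw [hEbel, val_bel hfb, if_pos hξ]
  have hθb : θ ∈ E := by
    by_contra hn
    rw [hθ, omegaBar_bBar (blockCoeff_mem_loc hE), if_neg hn] at h1
    exact zero_ne_one h1
  obtain ⟨χ, hχ⟩ := block_nonempty hB
  have h2 := indBar_eq_of_isInducedBlock hind hθb hχ (bBar M B)
  rw [omegaBar_bBar_eq_one hB hχ, indBar_apply, ← hθ] at h2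
  rw [← h2]
  show val M D ξ _ = val M D ξ (embH H _)
  rw [coe_resZ]
  simp only [val]
  refine Finset.sum_congr rfl fun K _ => ?_
  rw [coeff_embH H _ ⟨_, hCH (rep K).2⟩, coeff_resH]

/-- A central element of the defect group with the pair below. -/
theorem exists_major (hM : IsPModular p M)
    {e : Set (IrrCharacter (Subgroup.centralizer (D : Set G)))}
    (hmax : IsMaximalBrauerPair p M B D e) {z : G} (hz : z ∈ D) (hzc : ∀ w ∈ D, w * z = z * w) :
    ∃ f : Set (IrrCharacter (cz z)), IsPBlock M f ∧ SubpairLE p M (Subgroup.zpowers z) f D e ∧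
      IsBrauerPairOf p M B (Subgroup.zpowers z) f ∧ D ≤ cz z ∧
      IsDefectGroup p M f (D.subgroupOf (cz z)) := by
  haveI := Fact.mk hM.1
  have hzD : Subgroup.zpowers z ≤ D := Subgroup.zpowers_le.mpr hz
  have hDz : D ≤ cz z := fun w hw => mem_cz.mpr (hzc w hw)
  obtain ⟨f, ⟨hf, hle⟩, -⟩ := existsUnique_below hM hmax.1.1 hzD
  have heq : D ⊓ Subgroup.centralizer (Subgroup.zpowers z : Set G) = D := inf_eq_left.mpr hDz
  refine ⟨f, hf, hle, (pairOf_iff_of_subpair hM hmax.1.2.1 ⟨_, f⟩ ⟨D, e⟩ hle).mp hmax.1, hDz, ?_⟩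
  have h1 := centralizer_defect_of_fullyCentralized hM hmax hle fun g _ => by
    rw [heq]; exact Subgroup.card_le_of_le inf_le_left
  rwa [heq] at h1

/-- Pairs of full defect over a common pair are conjugate in the centralizer. -/
theorem exists_pull_maximal (hM : IsPModular p M)
    {e : Set (IrrCharacter (Subgroup.centralizer (D : Set G)))} (he : IsBrauerPair p M D e) {z : G}
    {f : Set (IrrCharacter (cz z))} (hf : IsPBlock M f) (hDz : D ≤ cz z)
    (hle : SubpairLE p M (Subgroup.zpowers z) f D e) (hd : Nat.card D = p ^ blockDefect p f) :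
    ∃ a : BrauerPairIdx (cz z), IsMaximalBrauerPair p M f a.1 a.2 ∧
      IsPush M a (⟨D, e⟩ : BrauerPairIdx G) := by
  haveI := Fact.mk hM.1
  have hC : Subgroup.centralizer (D : Set G) ≤ cz z :=
    Subgroup.centralizer_le (subpair_le hle)
  obtain ⟨⟨D', e'⟩, hpush⟩ := exists_pull (⟨D, e⟩ : BrauerPairIdx G) he.2 hDz hC
  have hpush' := hpush
  obtain ⟨he', -, hsub, hbel⟩ := hpush
  dsimp only at he' hsub hbel
  have hD'p : IsPGroup p D' := (isPGroup_push hsub).mpr he.1
  have hpair : IsBrauerPairOf p M f D' e' := by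
    refine isBrauerPairOf_iff.mpr ⟨hD'p, he', hf, ?_⟩
    refine (occ_push hM hpush' hC hD'p (inv2_center D' (bBar M f).2) (by
      rw [← Subring.coe_mul, bBar_mul_self (blockCoeff_mem_loc hf)])).mp ?_
    exact (isNormalSubpair_iff.mp (rel_of_below hM he hle (subpair_le hle)
      (hDz.trans (Subgroup.centralizer_le_normalizer _)) Relation.ReflTransGen.refl)).2.2.2.2.2
  refine ⟨⟨D', e'⟩, ⟨hpair, fun R g hR hle' => ?_⟩, hpush'⟩
  obtain ⟨⟨R', g'⟩, hle'', hmax'⟩ := exists_maximal hM hR
  refine (Subgroup.eq_of_le_of_card_ge (subpair_le hle') ?_).symm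
  refine (Subgroup.card_le_of_le (subpair_le hle'')).trans ?_
  rw [card_defectGroup hM hf (isDefectGroup_of_maximal hM hmax'), ← hd, ← hsub,
    Subgroup.card_map_of_injective (cz z).subtype_injective]

open Classical in
theorem aux (hM : IsPModular p M) (hD : IsDefectGroup p M B D) (hB : IsPBlock M B) {H : Subgroup G}
    (hH : H = D ⊔ Subgroup.centralizer (D : Set G)) {b : Set (IrrCharacter H)}
    (hind : IsInducedBlock M H b B) {T : Subgroup G}
    (hT : ∀ g : G, g ∈ T ↔ (g ∈ Subgroup.normalizer (D : Set G) ∧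
      ∀ θ ∈ b, ∀ θ' : IrrCharacter H, (∀ h h' : H, (h' : G) = g * h * g⁻¹ →
        (θ' : H → ℂ) h' = (θ : H → ℂ) h) → θ' ∈ b))
    {χ : IrrCharacter G} (hχ : χ ∈ B) :
    Nat.card (Subgroup.center D) * p ^ blockHeight p B (χ : G → ℂ) ≤
      H.relIndex T * p ^ blockDefect p B := by
  haveI := Fact.mk hM.1
  letI := Fintype.ofFinite G
  have hDp := isPGroup_defectGroup hM hB hD
  obtain ⟨e, hpairD, hbe⟩ := exists_pair_extended hM hDp hH hind
  have hmax : IsMaximalBrauerPair p M B D e := by
    refine ⟨hpairD, fun R g hR hle => ?_⟩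
    obtain ⟨⟨R', g'⟩, hle', hmax'⟩ := exists_maximal hM hR
    have hcd := card_defect_eq hM hB (isDefectGroup_of_maximal hM hmax') hD
    exact (Subgroup.eq_of_le_of_card_ge (subpair_le hle)
      ((Subgroup.card_le_of_le (subpair_le hle')).trans hcd.le)).symm
  have hHN : H ≤ Subgroup.normalizer (D : Set G) :=
    hH ▸ sup_le Subgroup.le_normalizer (Subgroup.centralizer_le_normalizer _)
  have hNH : Subgroup.normalizer (D : Set G) ≤ Subgroup.normalizer (H : Set G) :=
    hH ▸ normalizer_le_normalizer_sup D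
  -- the stabilizer of the pair lies in `T`
  have hST : stabSub M D e ≤ T := by
    intro g hg
    refine (hT g).mpr ⟨hg.1, fun θ hθ θ' hθ' => ?_⟩
    have hgH := hNH hg.1
    have hconj : conjA g (bel M H b) = bel M H b := by rw [← hbe]; exact hg.2
    have hs := (conjA_bel_iff_stabilizes g H hind.1 hgH).mpr
    have hs' : StabilizesBlock H b g := (conjA_bel_iff_stabilizes g H hind.1 hgH).mpr hconj
    obtain ⟨χ', hχ', hcj⟩ := hs'.2 θ hθ
    have : θ' = χ' := Subtype.ext (funext fun h' => by
      have hm : g⁻¹ * (h' : G) * g ∈ H := (Subgroup.mem_normalizer_iff''.mp hgH _).mp h'.2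
      rw [hθ' ⟨_, hm⟩ h' (by group), hcj ⟨_, hm⟩ h' (by group)])
    exact this ▸ hχ'
  -- the subsections
  have hzmem : ∀ z : Subgroup.center D, ((z : D) : G) ∈ D ∧
      ∀ w ∈ D, w * ((z : D) : G) = ((z : D) : G) * w := fun z =>
    ⟨(z : D).2, fun w hw => congrArg Subtype.val (Subgroup.mem_center_iff.mp z.2 ⟨w, hw⟩)⟩
  choose f hf hle hpair hDz hdef using fun z : Subgroup.center D =>
    exists_major hM hmax (hzmem z).1 (hzmem z).2
  have hfd : ∀ z, Nat.card D = p ^ blockDefect p (f z) := fun z => by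
    rw [← card_defectGroup hM (hf z) (hdef z),
      Nat.card_congr (Subgroup.subgroupOfEquivOfLe (hDz z)).toEquiv]
  have hfB : ∀ z, blockDefect p (f z) = blockDefect p B := fun z =>
    Nat.pow_right_injective hM.1.two_le ((hfd z).symm.trans (card_defectGroup hM hB hD))
  let π : G × Subgroup.center D → G × MonoidAlgebra (Res M) G := fun k =>
    (k.1 * ((k.2 : D) : G) * k.1⁻¹, conjA k.1 (bel M (cz ((k.2 : D) : G)) (f k.2)))
  set S := Finset.univ.image π with hSdef
  have hS : ∀ k ∈ S, (∃ j : ℕ, k.1 ^ p ^ j = 1) ∧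
      ∃ b', IsInducedBlock M (Subgroup.centralizer ({k.1} : Set G)) b' B ∧
        blockDefect p b' = blockDefect p B ∧
        bel M (Subgroup.centralizer ({k.1} : Set G)) b' = k.2 := by
    intro k hk
    obtain ⟨⟨g, z⟩, -, rfl⟩ := Finset.mem_image.mp hk
    refine ⟨?_, ?_⟩
    · obtain ⟨j, hj⟩ := exists_pow_eq_one_of_isPGroup hDp (hzmem z).1
      exact ⟨j, by simp only [π]; rw [conj_pow, hj, mul_one, mul_inv_cancel]⟩
    · have hC : Subgroup.centralizer
          (((Subgroup.zpowers ((z : D) : G)).map (MulAut.conj g).toMonoidHom : Subgroup G) : Set G) =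
          Subgroup.centralizer ({g * ((z : D) : G) * g⁻¹} : Set G) := by
        rw [MonoidHom.map_zpowers]
        exact centralizer_zpowers_eq _
      obtain ⟨b', hb', hd', hbel'⟩ := transport_block (p := p) hC
        (isInducedBlock_of_brauerPair hM (isBrauerPairOf_conj hM (hpair z) g))
      refine ⟨b', hb', hd'.trans ((blockDefect_conjBlock _ g _).trans (hfB z)), hbel'.trans ?_⟩
      exact bel_conjBlock _ g (hf z)
  have hbound := major_weight_bound hM hB S hS hχ
  -- the fibres
  have hfib : ∀ k ∈ S, (Finset.univ.filter fun a => π a = k).card ≤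
      Nat.card (Subgroup.centralizer ({k.1} : Set G)) * H.relIndex T := by
    intro k hk
    obtain ⟨⟨g₀, z₀⟩, -, rfl⟩ := Finset.mem_image.mp hk
    have key : ∀ a : G × Subgroup.center D, π a = π (g₀, z₀) →
        (g₀⁻¹ * a.1) * ((a.2 : D) : G) * (g₀⁻¹ * a.1)⁻¹ = ((z₀ : D) : G) ∧
        ∃ t ∈ cz ((z₀ : D) : G), t * (g₀⁻¹ * a.1) ∈ T := by
      rintro ⟨g, z⟩ hgz
      simp only [π, Prod.mk.injEq] at hgz
      set x := g₀⁻¹ * g with hx
      have hxz : x * ((z : D) : G) * x⁻¹ = ((z₀ : D) : G) := by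
        calc x * ((z : D) : G) * x⁻¹ = g₀⁻¹ * (g * ((z : D) : G) * g⁻¹) * g₀ := by rw [hx]; group
          _ = ((z₀ : D) : G) := by rw [hgz.1]; group
      refine ⟨hxz, ?_⟩
      have hidx : conjIdx x (⟨Subgroup.zpowers ((z : D) : G), f z⟩ : BrauerPairIdx G) =
          ⟨Subgroup.zpowers ((z₀ : D) : G), f z₀⟩ := by
        refine idx_ext (isPBlock_conjBlock _ x (hf z)) (hf z₀) ?_ ?_
        · show (Subgroup.zpowers ((z : D) : G)).map (MulAut.conj x).toMonoidHom = _
          rw [MonoidHom.map_zpowers]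
          exact congrArg Subgroup.zpowers hxz
        · show bel M _ (conjBlock _ x (f z)) = _
          rw [bel_conjBlock _ x (hf z), hx, ← conjA_conjA, hgz.2, conjA_conjA, inv_mul_cancel,
            conjA_one]
      have hle₁ := subpair_conj hM (hle z) x
      rw [hidx] at hle₁
      have hDz₁ : D.map (MulAut.conj x).toMonoidHom ≤ cz ((z₀ : D) : G) := by
        rintro _ ⟨w, hw, rfl⟩
        refine mem_cz.mpr ?_
        rw [← hxz]
        show Commute _ _
        exact (show Commute w ((z : D) : G) from (hzmem z).2 w hw).map (MulAut.conj x).toMonoidHom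
      obtain ⟨a₁, ha₁, hpush₁⟩ := exists_pull_maximal hM
        (isBrauerPair_conj hmax.1.1 x) (hf z₀) hDz₁ hle₁
        (by rw [card_map_conj]; exact hfd z₀)
      obtain ⟨a₂, ha₂, hpush₂⟩ := exists_pull_maximal hM hmax.1.1 (hf z₀) (hDz z₀) (hle z₀) (hfd z₀)
      obtain ⟨t, ht⟩ := exists_conj_maximal hM ha₁ ha₂
      have hp1 := isPush_conj hpush₁ t
      rw [ht] at hp1
      have he' : IsPBlock M (conjIdx x (⟨D, e⟩ : BrauerPairIdx G)).2 :=
        isPBlock_conjBlock D x hmax.1.1.2
      have heq : conjIdx (t : G) (conjIdx x (⟨D, e⟩ : BrauerPairIdx G)) = ⟨D, e⟩ :=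
        idx_ext (isPBlock_conjBlock _ _ he') hmax.1.1.2
          (hp1.2.2.1.symm.trans hpush₂.2.2.1) (hp1.2.2.2.symm.trans hpush₂.2.2.2)
      rw [conjIdx_conjIdx (show IsPBlock M (⟨D, e⟩ : BrauerPairIdx G).2 from hmax.1.1.2)] at heq
      exact ⟨t, t.2, hST ((conjIdx_eq_self_iff
        (show IsPBlock M (⟨D, e⟩ : BrauerPairIdx G).2 from hmax.1.1.2)).mp heq)⟩
    have hHz : H ≤ cz ((z₀ : D) : G) :=
      hH ▸ sup_le (hDz z₀) (Subgroup.centralizer_le (Subgroup.zpowers_le.mpr (hzmem z₀).1))
    -- the first coordinates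
    let F : Subgroup.centralizer ({g₀ * ((z₀ : D) : G) * g₀⁻¹} : Set G) × (T ⧸ H.subgroupOf T) → G :=
      fun q => (q.1 : G) * g₀ * (((q.2.out : T) : G))⁻¹
    have hsub : (Finset.univ.filter fun a => π a = π (g₀, z₀)).image Prod.fst ⊆
        Finset.univ.image F := by
      intro g hg
      obtain ⟨a, ha, rfl⟩ := Finset.mem_image.mp hg
      obtain ⟨hxz, t, htc, htT⟩ := key a (Finset.mem_filter.mp ha).2
      set τ : T := ⟨(t * (g₀⁻¹ * a.1))⁻¹, inv_mem htT⟩
      obtain ⟨h, hh⟩ := QuotientGroup.mk_out_eq_mul (H.subgroupOf T) τ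
      have hh' : (((τ : T ⧸ H.subgroupOf T).out : T) : G) = (t * (g₀⁻¹ * a.1))⁻¹ * ((h : T) : G) :=
        congrArg Subtype.val hh
      have hc : t⁻¹ * (((h : T) : G)) ∈ cz ((z₀ : D) : G) :=
        mul_mem (inv_mem htc) (hHz (Subgroup.mem_subgroupOf.mp h.2))
      refine Finset.mem_image.mpr ⟨(⟨g₀ * (t⁻¹ * ((h : T) : G)) * g₀⁻¹,
        Subgroup.mem_centralizer_singleton_iff.mpr ?_⟩, (τ : T ⧸ H.subgroupOf T)), Finset.mem_univ _, ?_⟩
      · exact ((mem_cz.mp hc).map (MulAut.conj g₀).toMonoidHom).eq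
      · simp only [F]
        rw [hh']
        group
    have hinj : Set.InjOn Prod.fst ((Finset.univ.filter fun a => π a = π (g₀, z₀)) : Set (G × Subgroup.center D)) := by
      intro a ha c hc e'
      have h1 := congrArg Prod.fst ((Finset.mem_filter.mp ha).2.trans (Finset.mem_filter.mp hc).2.symm)
      simp only [π] at h1
      rw [e'] at h1
      exact Prod.ext e' (Subtype.ext (Subtype.ext (mul_left_cancel (mul_right_cancel h1))))
    rw [← Finset.card_image_of_injOn hinj]
    refine (Finset.card_le_card hsub).trans (Finset.card_image_le.trans (le_of_eq ?_))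
    rw [Finset.card_univ, ← Nat.card_eq_fintype_card, Nat.card_prod]
    rfl
  have hcount : Nat.card G * Nat.card (Subgroup.center D) ≤
      H.relIndex T * ∑ k ∈ S, Nat.card (Subgroup.centralizer ({k.1} : Set G)) := by
    calc Nat.card G * Nat.card (Subgroup.center D)
        = (Finset.univ : Finset (G × Subgroup.center D)).card := by
          rw [Finset.card_univ, ← Nat.card_eq_fintype_card, Nat.card_prod]
      _ = ∑ k ∈ S, (Finset.univ.filter fun a => π a = k).card :=
          Finset.card_eq_sum_card_image π _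
      _ ≤ ∑ k ∈ S, Nat.card (Subgroup.centralizer ({k.1} : Set G)) * H.relIndex T :=
          Finset.sum_le_sum hfib
      _ = _ := by rw [← Finset.sum_mul, mul_comm]
  refine Nat.le_of_mul_le_mul_left ?_ (Nat.card_pos : 0 < Nat.card G)
  calc Nat.card G * (Nat.card (Subgroup.center D) * p ^ blockHeight p B (χ : G → ℂ))
      ≤ H.relIndex T * ((∑ k ∈ S, Nat.card (Subgroup.centralizer ({k.1} : Set G))) *
          p ^ blockHeight p B (χ : G → ℂ)) := by
        rw [← mul_assoc, ← mul_assoc]
        exact Nat.mul_le_mul_right _ hcount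
    _ ≤ H.relIndex T * (Nat.card G * p ^ blockDefect p B) := Nat.mul_le_mul_left _ hbound
    _ = _ := by ring

/-- Let p be a prime, M a maximal ideal of the algebraic integers containing p, B a p-block of the finite group G with defect group D of order p^d, H = D·C_G(D), b a block of H inducing B, T the stabilizer of b in N_G(D) and e = [T : H] the inertial index of B; let n be the integer with p^n ≤ e < p^(n+1) and p^c the order of the centre of D. Then every irreducible character in B has height h with h + c ≤ n + d. -/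
theorem result {G : Type*} [Group G] [Finite G] (p : ℕ) [Fact p.Prime] (M : Ideal Cfsg.AlgInt) (hM : Cfsg.IsPModular p M) (B : Set (Cfsg.IrrCharacter G)) (hB : Cfsg.IsPBlock M B) (D : Subgroup G) (hBD : Cfsg.IsDefectGroup p M B D) (d : ℕ) (hDd : Nat.card D = p ^ d) (H : Subgroup G) (hH : H = D ⊔ Subgroup.centralizer (D : Set G)) (b : Set (Cfsg.IrrCharacter H)) (hind : Cfsg.IsInducedBlock M H b B) (T : Subgroup G) (hT : ∀ g : G, g ∈ T ↔ (g ∈ Subgroup.normalizer (D : Set G) ∧ ∀ θ ∈ b, ∀ θ' : Cfsg.IrrCharacter H, (∀ h h' : H, (h' : G) = g * h * g⁻¹ → (θ' : H → ℂ) h' = (θ : H → ℂ) h) → θ' ∈ b)) (e : ℕ) (he : H.relIndex T = e) (n : ℕ) (hn : p ^ n ≤ e ∧ e < p ^ (n + 1)) (c : ℕ) (hc : Nat.card (Subgroup.center D) = p ^ c) : ∀ χ ∈ B, Cfsg.blockHeight p B (χ : G → ℂ) + c ≤ n + d := by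
  intro χ hχ
  haveI := Cfsg.Agent.Blocks.isPrime_of_modular hM
  have h := aux hM hBD hB hH hind hT hχ
  have hd : blockDefect p B = d :=
    Nat.pow_right_injective hM.1.two_le ((card_defectGroup hM hB hBD).symm.trans hDd)
  rw [hc, he, hd, ← pow_add] at h
  have h2 : p ^ (c + blockHeight p B (χ : G → ℂ)) < p ^ (n + 1 + d) := by
    rw [pow_add p (n + 1)]
    exact lt_of_le_of_lt h (Nat.mul_lt_mul_of_pos_right hn.2 (pow_pos hM.1.pos d))
  have := (Nat.pow_lt_pow_iff_right hM.1.one_lt).mp h2
  omega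

end Cfsg.Agent.S4715
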