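import Cfsg.Statements.S0739
import Cfsg.Agent.Lib.PermGp.ZassenhausEven.Kernel
import Cfsg.Agent.Lib.Basics.FpfAbelian
import Mathlib.GroupTheory.SpecificGroups.ZGroup
import Mathlib.GroupTheory.Transfer
import Mathlib.Tactic

set_option autoImplicit false
open Cfsg

namespace Cfsg.Agent.S0739

/-- In a finite Zassenhaus group whose two-point stabiliser `H = G_{a,b}` has odd order `d`, and which has no normal `q`-complement for any prime `q ∣ d`, `H` is cyclic, `C_G(H) = H`, and every element swapping `a` and `b` inverts each element of `H`. -/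
theorem result {G Ω : Type*} [Group G] [Finite G] [MulAction G Ω] [Fintype Ω] (hZ : Cfsg.IsZassenhausGroup G Ω) {a b : Ω} (hab : a ≠ b) (hodd : Odd (Nat.card ↥(MulAction.stabilizer G a ⊓ MulAction.stabilizer G b))) (hnil : ∀ q : ℕ, q.Prime → q ∣ Nat.card ↥(MulAction.stabilizer G a ⊓ MulAction.stabilizer G b) → ¬ ∃ N : Subgroup G, N.Normal ∧ N.index = q ^ (Nat.card G).factorization q) : IsCyclic ↥(MulAction.stabilizer G a ⊓ MulAction.stabilizer G b) ∧ Subgroup.centralizer ((MulAction.stabilizer G a ⊓ MulAction.stabilizer G b : Subgroup G) : Set G) = MulAction.stabilizer G a ⊓ MulAction.stabilizer G b ∧ ∀ s : G, s • a = b → s • b = a → ∀ h ∈ MulAction.stabilizer G a ⊓ MulAction.stabilizer G b, s * h * s⁻¹ = h⁻¹ := by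
  classical
  have Z := PermGp.ZEven.zgrp_of_zassenhaus hZ
  haveI := Z.faith
  set H : Subgroup G := MulAction.stabilizer G a ⊓ MulAction.stabilizer G b with hH
  have hmem : ∀ {g : G}, g ∈ H ↔ g • a = a ∧ g • b = b := fun {g} => Iff.rfl
  have hd1 : 1 < Nat.card H := Z.stab_pos hab
  have hoddp : ∀ q : ℕ, q ∣ Nat.card H → q ≠ 2 := fun q hq h => by
    subst h; exact (Nat.not_even_iff_odd.mpr hodd) (even_iff_two_dvd.mpr hq)
  -- the two-point stabiliser is a Z-group
  haveI hzg : IsZGroup H := by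
    obtain ⟨F, hF⟩ := PermGp.ZEven.exists_zker Z hab
    set B := MulAction.stabilizer G a with hB
    haveI : (F.subgroupOf B).Normal := ⟨fun u hu g => hF.conj g g.2 u hu⟩
    have hFne : F.subgroupOf B ≠ ⊥ := by
      obtain ⟨c, hca, hcb⟩ := Z.exists_third a b
      obtain ⟨u, hu, huc⟩ := hF.exists_eq b c hab.symm hca
      intro h0
      have : (⟨u, hF.fix u hu⟩ : B) ∈ F.subgroupOf B := hu
      rw [h0, Subgroup.mem_bot] at this
      have hu1 : u = 1 := congrArg Subtype.val this
      exact hcb (by rw [← huc, hu1, one_smul])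
    have hfpf : ∀ h ∈ H.subgroupOf B, h ≠ 1 → F.subgroupOf B ⊓ Subgroup.centralizer {h} = ⊥ := by
      intro h hh h1
      rw [eq_bot_iff]
      rintro u ⟨hu, hc⟩
      by_contra hu1
      have e : (h : G) * u = u * h := congrArg Subtype.val (Subgroup.mem_centralizer_singleton_iff.mp hc).symm
      exact h1 (Subtype.ext (hF.fpf Z hab h.2 (hmem.mp hh).2 hu (fun e' => hu1 (Subtype.ext e'))
        (mul_inv_eq_iff_eq_mul.mpr e)))
    let e : H ≃* H.subgroupOf B := (Subgroup.subgroupOfEquivOfLe inf_le_left).symm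
    have : IsZGroup (H.subgroupOf B) := ⟨fun p hp P => by
      haveI := Fact.mk hp
      rcases Basics.fpf_sylow_cyclic_or_quaternion (F.subgroupOf B) (H.subgroupOf B) hFne hfpf p P with
        h | ⟨rfl, n, ⟨i⟩⟩
      · exact h
      · exfalso
        obtain ⟨m, hm⟩ := P.isPGroup'.exists_card_eq
        rcases m with _ | m
        · haveI : Subsingleton P := (Nat.card_eq_one_iff_unique.mp (by simpa using hm)).1
          exact absurd (i.symm.injective (Subsingleton.elim (i.symm (QuaternionGroup.xa 0)) (i.symm 1)))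
            (by rw [QuaternionGroup.one_def]; intro h; cases h)
        · refine hoddp 2 ?_ rfl
          rw [Nat.card_congr e.toEquiv]
          exact dvd_trans ⟨2 ^ m, by rw [← pow_succ']⟩ (hm ▸ Subgroup.card_subgroup_dvd_card _)⟩
    exact IsZGroup.of_injective (f := e.toMonoidHom) e.injective
  -- it is a Hall subgroup
  have hcop : ∀ q : ℕ, q.Prime → q ∣ Nat.card H → ¬ q ∣ H.index := by
    intro q hq hqd hqi
    haveI := Fact.mk hq
    obtain ⟨x, hx⟩ := exists_prime_orderOf_dvd_card' (G := H) q hqd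
    have hN : Nat.card Ω ≡ 2 [MOD q] := by
      have hP : IsPGroup q (Subgroup.zpowers (x : G)) := IsPGroup.of_card (n := 1) (by
        rw [Nat.card_zpowers, Subgroup.orderOf_coe, hx, pow_one])
      have h := hP.card_modEq_card_fixedPoints Ω
      have he : MulAction.fixedPoints (Subgroup.zpowers (x : G)) Ω = ({a, b} : Set Ω) := by
        ext z
        refine ⟨fun hz => ?_, fun hz => ?_⟩
        · by_contra hzn
          simp only [Set.mem_insert_iff, Set.mem_singleton_iff, not_or] at hzn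
          have h1 := Z.three (x : G) a b z hab (Ne.symm hzn.2) (Ne.symm hzn.1) (hmem.mp x.2).1 (hmem.mp x.2).2
            (hz ⟨_, Subgroup.mem_zpowers _⟩)
          rw [← Subgroup.orderOf_coe, h1, orderOf_one] at hx
          exact hq.one_lt.ne hx
        · intro y
          have hy : (y : G) ∈ H := Subgroup.zpowers_le.mpr x.2 y.2
          rcases hz with rfl | rfl
          · exact (hmem.mp hy).1
          · exact (hmem.mp hy).2
      rwa [he, Nat.card_coe_set_eq, Set.ncard_pair hab] at h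
    have hidx : H.index = Nat.card Ω * (Nat.card Ω - 1) := by
      have e1 : H = MulAction.stabilizer G (a, b) := by
        ext g; rw [hmem, MulAction.mem_stabilizer_iff, Prod.smul_mk, Prod.mk_inj]
      have e2 : MulAction.orbit G (a, b) = (↑(Finset.univ.offDiag : Finset (Ω × Ω)) : Set (Ω × Ω)) := by
        ext ⟨u, v⟩
        simp only [Finset.coe_offDiag, Set.mem_offDiag, Finset.coe_univ, Set.mem_univ, true_and]
        constructor
        · rintro ⟨g, hg⟩ e
          have hu : g • a = u := congrArg Prod.fst hg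
          have hv : g • b = v := congrArg Prod.snd hg
          exact hab (MulAction.injective g (hu.trans (e.trans hv.symm)))
        · intro huv
          obtain ⟨g, h1, h2⟩ := PermGp.two_trans_exists Z.two hab huv
          exact ⟨g, Prod.ext h1 h2⟩
      rw [e1, MulAction.index_stabilizer, e2, Set.ncard_coe_finset, Finset.offDiag_card, Finset.card_univ,
        Nat.card_eq_fintype_card, Nat.mul_sub_one]
    rw [hidx] at hqi
    have h2 := hoddp q hqd
    have hq3 : 3 ≤ q := by have := hq.two_le; omega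
    unfold Nat.ModEq at hN
    rw [Nat.mod_eq_of_lt (by omega : 2 < q)] at hN
    rcases hq.dvd_mul.mp hqi with h | h
    · rw [Nat.mod_eq_zero_of_dvd h] at hN; omega
    · have hdm := Nat.div_add_mod (Nat.card Ω) q
      obtain ⟨c, hc⟩ := h
      have h1 : Nat.card Ω % q = (q * c + 1) % q := by
        congr 1; omega
      rw [Nat.mul_add_mod, Nat.mod_eq_of_lt (by omega : 1 < q)] at h1
      omega
  -- a swapping element normalises
  have hswapH : ∀ s : G, s • a = b → s • b = a → ∀ h ∈ H, s * h * s⁻¹ ∈ H := by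
    intro s sa sb h hh
    obtain ⟨ha, hb⟩ := hmem.mp hh
    refine hmem.mpr ⟨?_, ?_⟩
    · rw [mul_smul, mul_smul, inv_smul_eq_iff.mpr sb.symm, hb, sb]
    · rw [mul_smul, mul_smul, inv_smul_eq_iff.mpr sa.symm, ha, sa]
  let A : Subgroup H := commutator H
  have hcomA : ∀ u v : H, u * v * u⁻¹ * v⁻¹ ∈ A := fun u v =>
    Subgroup.commutator_mem_commutator (Subgroup.mem_top u) (Subgroup.mem_top v)
  have hswapA : ∀ s : G, s • a = b → s • b = a → ∀ h : H, ∀ hsh : s * h * s⁻¹ ∈ H,
      h ∈ A → (⟨s * h * s⁻¹, hsh⟩ : H) ∈ A := by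
    intro s sa sb
    let c : H →* H :=
      { toFun := fun h => ⟨s * h * s⁻¹, hswapH s sa sb h h.2⟩
        map_one' := Subtype.ext (by simp)
        map_mul' := fun u v => Subtype.ext (by
          show s * ((u : G) * v) * s⁻¹ = s * u * s⁻¹ * (s * v * s⁻¹)
          group) }
    intro h hsh hh
    have : A.map c ≤ A := by
      show (commutator H).map c ≤ commutator H
      rw [commutator_def, Subgroup.map_commutator]
      exact Subgroup.commutator_mono le_top le_top
    exact this ⟨h, hh, rfl⟩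
  have hcopA := IsZGroup.coprime_commutator_index (G := H)
  -- every exchanging element inverts the abelianisation
  have hinv : ∀ s : G, s • a = b → s • b = a → ∀ h : H, ∀ hsh : s * h * s⁻¹ ∈ H,
      (⟨s * h * s⁻¹, hsh⟩ : H) * h ∈ A := by
    intro s sa sb
    let I : Subgroup H :=
      { carrier := {h | (⟨s * h * s⁻¹, hswapH s sa sb h h.2⟩ : H) * h ∈ A}
        one_mem' := by
          show (⟨s * ((1 : H) : G) * s⁻¹, _⟩ : H) * 1 ∈ A
          have e : (⟨s * ((1 : H) : G) * s⁻¹, hswapH s sa sb _ (1 : H).2⟩ : H) = 1 := Subtype.ext (by simp)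
          rw [e, mul_one]; exact A.one_mem
        mul_mem' := fun {u v} hu hv => by
          show (⟨s * ((u * v : H) : G) * s⁻¹, _⟩ : H) * (u * v) ∈ A
          set u' : H := ⟨s * u * s⁻¹, hswapH s sa sb u u.2⟩
          set v' : H := ⟨s * v * s⁻¹, hswapH s sa sb v v.2⟩
          have e : (⟨s * ((u * v : H) : G) * s⁻¹, hswapH s sa sb _ (u * v).2⟩ : H) = u' * v' :=
            Subtype.ext (by show s * ((u : G) * v) * s⁻¹ = s * u * s⁻¹ * (s * v * s⁻¹); group)
          rw [e, show u' * v' * (u * v) = (u' * v' * u'⁻¹ * v'⁻¹) * v' * ((u' * u) * v'⁻¹) * (v' * v) by group]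
          haveI : A.Normal := inferInstanceAs (commutator H).Normal
          refine A.mul_mem ?_ hv
          rw [show u' * v' * u'⁻¹ * v'⁻¹ * v' * (u' * u * v'⁻¹) =
            (u' * v' * u'⁻¹ * v'⁻¹) * (v' * (u' * u) * v'⁻¹) by group]
          exact A.mul_mem (hcomA _ _) ((inferInstance : A.Normal).conj_mem _ hu v')
        inv_mem' := fun {u} hu => by
          show (⟨s * ((u⁻¹ : H) : G) * s⁻¹, _⟩ : H) * u⁻¹ ∈ A
          set u' : H := ⟨s * u * s⁻¹, hswapH s sa sb u u.2⟩
          have e : (⟨s * ((u⁻¹ : H) : G) * s⁻¹, hswapH s sa sb _ (u⁻¹).2⟩ : H) = u'⁻¹ :=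
            Subtype.ext (by show s * ((u : G))⁻¹ * s⁻¹ = (s * u * s⁻¹)⁻¹; group)
          rw [e, show u'⁻¹ * u⁻¹ = (u'⁻¹ * u⁻¹ * u'⁻¹⁻¹ * u⁻¹⁻¹) * (u' * u)⁻¹ by group]
          exact A.mul_mem (hcomA _ _) (A.inv_mem hu) }
    suffices I = ⊤ by
      intro h hsh
      have := this ▸ Subgroup.mem_top h
      exact this
    haveI : A.Normal := inferInstanceAs (commutator H).Normal
    have hAI : A ≤ I := fun h hh => A.mul_mem (hswapA s sa sb h _ hh) hh
    apply Subgroup.eq_top_of_card_eq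
    refine Nat.dvd_antisymm (Subgroup.card_subgroup_dvd_card I) ((Nat.dvd_iff_prime_pow_dvd_dvd _ _).mpr
      fun q k hq hqk => ?_)
    rcases k.eq_zero_or_pos with rfl | hk
    · exact one_dvd _
    have hqd : q ∣ Nat.card H := (dvd_pow_self q hk.ne').trans hqk
    haveI := Fact.mk hq
    by_cases hqA : q ∣ Nat.card A
    · have hqk' : q ^ k ∣ Nat.card A * A.index := by rw [Subgroup.card_mul_index]; exact hqk
      exact ((Nat.Coprime.pow_left k (hcopA.coprime_dvd_left hqA)).dvd_of_dvd_mul_right hqk').trans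
        (Subgroup.card_dvd_of_le hAI)
    obtain ⟨Q₀⟩ : Nonempty (Sylow q H) := inferInstance
    have hQcard : Nat.card ((Q₀ : Subgroup H).map H.subtype) = q ^ (Nat.card G).factorization q := by
      rw [Subgroup.card_map_of_injective H.subtype_injective, Q₀.card_eq_multiplicity,
        ← H.card_mul_index, Nat.factorization_mul Nat.card_pos.ne' Subgroup.FiniteIndex.index_ne_zero,
        Finsupp.add_apply, Nat.factorization_eq_zero_of_not_dvd (hcop q hq hqd), add_zero]
    let P : Sylow q G := Sylow.ofCard ((Q₀ : Subgroup H).map H.subtype) hQcard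
    have hPQ : (P : Subgroup G) = (Q₀ : Subgroup H).map H.subtype := rfl
    have hPH : ∀ x ∈ (P : Subgroup G), x ∈ H := by
      rintro x ⟨y, -, rfl⟩; exact y.2
    haveI hPc : IsCyclic P := by
      haveI : IsCyclic Q₀ := inferInstance
      exact isCyclic_of_surjective ((Q₀ : Subgroup H).equivMapOfInjective H.subtype H.subtype_injective).toMonoidHom
        ((Q₀ : Subgroup H).equivMapOfInjective H.subtype H.subtype_injective).surjective
    have hnc : ¬ Subgroup.normalizer (P : Set G) ≤ Subgroup.centralizer (P : Set G) := fun hle => by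
      refine hnil q hq hqd ⟨(MonoidHom.transferSylow P hle).ker, inferInstance, ?_⟩
      rw [(MonoidHom.ker_transferSylow_isComplement' P hle).symm.index_eq_card]
      exact hQcard
    obtain ⟨g, hg, hgc⟩ := SetLike.not_le_iff_exists.mp hnc
    obtain ⟨x₀, hx₀, hne₀⟩ : ∃ x ∈ (P : Subgroup G), x * g ≠ g * x := by
      by_contra! hall
      exact hgc (Subgroup.mem_centralizer_iff.mpr hall)
    -- elements of `H` normalising `P` centralise it
    have hcent : ∀ u ∈ H, u ∈ Subgroup.normalizer (P : Set G) → ∀ x ∈ (P : Subgroup G), u * x * u⁻¹ = x := by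
      intro u hu hun x hx
      have hc : u * x * u⁻¹ * x⁻¹ ∈ (P : Subgroup G) :=
        P.mul_mem ((Subgroup.mem_normalizer_iff.mp hun x).mp hx) (P.inv_mem hx)
      obtain ⟨y, hy, hye⟩ := (hPQ ▸ hc : u * x * u⁻¹ * x⁻¹ ∈ (Q₀ : Subgroup H).map H.subtype)
      have hyA : y ∈ A := by
        have : y = (⟨u, hu⟩ : H) * ⟨x, hPH x hx⟩ * (⟨u, hu⟩ : H)⁻¹ * (⟨x, hPH x hx⟩ : H)⁻¹ := Subtype.ext hye
        rw [this]; exact hcomA _ _
      have hy1 : y = 1 := by
        have h1 : orderOf y ∣ Nat.card A := by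
          rw [show y = ((⟨y, hyA⟩ : A) : H) from rfl, Subgroup.orderOf_coe]; exact orderOf_dvd_natCard _
        obtain ⟨m, hm⟩ := Q₀.isPGroup'.exists_card_eq
        have h2 : orderOf y ∣ q ^ m := by
          rw [← hm, show y = ((⟨y, hy⟩ : Q₀) : H) from rfl, Subgroup.orderOf_coe]; exact orderOf_dvd_natCard _
        have h3 := Nat.dvd_gcd h1 h2
        rw [Nat.Coprime.gcd_eq_one (((Nat.Prime.coprime_iff_not_dvd hq).mpr hqA).symm.pow_right m), Nat.dvd_one,
          orderOf_eq_one_iff] at h3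
        exact h3
      rw [hy1] at hye
      exact mul_inv_eq_one.mp (hye.symm.trans (map_one H.subtype))
    have hxne : ∃ x ∈ (P : Subgroup G), x ≠ 1 := ⟨x₀, hx₀, fun e => hne₀ (by rw [e, one_mul, mul_one])⟩
    have hfix2 : ∀ z : Ω, (∀ x ∈ (P : Subgroup G), x • z = z) → z = a ∨ z = b := by
      intro z hz
      obtain ⟨x, hx, hx1⟩ := hxne
      by_contra! hzab
      obtain ⟨xa, xb⟩ := hmem.mp (hPH x hx)
      exact hx1 (Z.three x a b z hab hzab.2.symm hzab.1.symm xa xb (hz x hx))
    have hgfix : ∀ z : Ω, (∀ x ∈ (P : Subgroup G), x • z = z) → ∀ x ∈ (P : Subgroup G), x • g • z = g • z := by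
      intro z hz x hx
      have hm : g⁻¹ * x * g ∈ (P : Subgroup G) := by
        have := (Subgroup.mem_normalizer_iff.mp (inv_mem hg) x).mp hx
        rwa [inv_inv] at this
      have := hz _ hm
      rwa [mul_smul, mul_smul, inv_smul_eq_iff] at this
    have hga := hfix2 _ (hgfix a fun x hx => (hmem.mp (hPH x hx)).1)
    have hgb := hfix2 _ (hgfix b fun x hx => (hmem.mp (hPH x hx)).2)
    have hgab : g • a ≠ g • b := fun e => hab (MulAction.injective g e)
    have hgswap : g • a = b ∧ g • b = a := by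
      rcases hga with h1 | h1
      · exfalso
        have h2 : g • b = b := hgb.resolve_left fun e => hgab (h1.trans e.symm)
        exact hne₀ ((mul_inv_eq_iff_eq_mul.mp (hcent g (hmem.mpr ⟨h1, h2⟩) hg x₀ hx₀)).symm)
      · exact ⟨h1, hgb.resolve_right fun e => hgab (h1.trans e.symm)⟩
    have hsg : s * g ∈ H ∧ g⁻¹ * s ∈ H := by
      refine ⟨hmem.mpr ⟨?_, ?_⟩, hmem.mpr ⟨?_, ?_⟩⟩
      · rw [mul_smul, hgswap.1, sb]
      · rw [mul_smul, hgswap.2, sa]
      · rw [mul_smul, sa, inv_smul_eq_iff, hgswap.1]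
      · rw [mul_smul, sb, inv_smul_eq_iff, hgswap.2]
    -- `g` inverts `P`
    obtain ⟨w, hw⟩ := IsCyclic.exists_generator (α := P)
    have hgen : ∀ x ∈ (P : Subgroup G), ∃ i : ℤ, (w : G) ^ i = x := fun x hx => by
      obtain ⟨i, hi⟩ := Subgroup.mem_zpowers_iff.mp (hw ⟨x, hx⟩)
      exact ⟨i, congrArg Subtype.val hi⟩
    obtain ⟨r, hr⟩ := hgen _ ((Subgroup.mem_normalizer_iff.mp hg w).mp w.2)
    have hggH : g * g ∈ H := hmem.mpr ⟨by rw [mul_smul, hgswap.1, hgswap.2], by rw [mul_smul, hgswap.2, hgswap.1]⟩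
    have hrr : (w : G) ^ (r * r - 1) = 1 := by
      have h1 := hcent _ hggH (Subgroup.mul_mem _ hg hg) w w.2
      rw [mul_inv_rev, show g * g * (w : G) * (g⁻¹ * g⁻¹) = g * (g * w * g⁻¹) * g⁻¹ by group, ← hr,
        ← conj_zpow, ← hr, ← zpow_mul] at h1
      rw [zpow_sub, h1, zpow_one, mul_inv_cancel]
    rw [← orderOf_dvd_iff_zpow_eq_one] at hrr
    obtain ⟨m, hm⟩ : ∃ m, orderOf (w : G) = q ^ m := by
      obtain ⟨m, hm⟩ := P.isPGroup'.exists_card_eq
      obtain ⟨i, -, hi⟩ := (Nat.dvd_prime_pow hq).mp (show orderOf (w : G) ∣ q ^ m by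
        rw [← hm, Subgroup.orderOf_coe]; exact orderOf_dvd_natCard _)
      exact ⟨i, hi⟩
    have hr1 : ((orderOf (w : G) : ℤ)) ∣ r + 1 := by
      rw [hm] at hrr ⊢
      push_cast at hrr ⊢
      rw [show r * r - 1 = (r - 1) * (r + 1) by ring] at hrr
      refine (IsCoprime.dvd_of_dvd_mul_left ?_ hrr)
      refine IsCoprime.pow_left (Int.isCoprime_iff_gcd_eq_one.mpr ?_)
      have hq' : Prime (q : ℤ) := Nat.prime_iff_prime_int.mp hq
      by_contra hgcd
      have hdvd : (q : ℤ) ∣ r - 1 := by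
        by_contra hnd
        exact hgcd (Int.isCoprime_iff_gcd_eq_one.mp (hq'.coprime_iff_not_dvd.mpr hnd))
      have hcop1 : IsCoprime ((q : ℤ) ^ m) (r + 1) := IsCoprime.pow_left (hq'.coprime_iff_not_dvd.mpr fun h2 => by
        have h22 : (q : ℤ) ∣ 2 := by
          have := dvd_sub h2 hdvd
          rwa [show r + 1 - (r - 1) = 2 by ring] at this
        have h23 : q ∣ 2 := by exact_mod_cast h22
        exact hoddp q hqd ((Nat.prime_dvd_prime_iff_eq hq Nat.prime_two).mp h23))
      have h5 : (w : G) ^ (r - 1) = 1 := by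
        rw [← orderOf_dvd_iff_zpow_eq_one, hm]
        push_cast
        exact hcop1.dvd_of_dvd_mul_right hrr
      have h6 : g * (w : G) * g⁻¹ = w := by
        rw [← hr]
        rw [zpow_sub, zpow_one, mul_inv_eq_one] at h5
        exact h5
      obtain ⟨i, hi⟩ := hgen x₀ hx₀
      apply hne₀
      rw [← hi]
      exact (show Commute (w : G) g from (mul_inv_eq_iff_eq_mul.mp h6).symm).zpow_left i
    have hinvP : ∀ x ∈ (P : Subgroup G), g * x * g⁻¹ = x⁻¹ := by
      intro x hx
      obtain ⟨i, rfl⟩ := hgen x hx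
      rw [← conj_zpow, ← hr, ← zpow_mul, ← zpow_neg]
      have h1 := orderOf_dvd_iff_zpow_eq_one.mp (dvd_mul_of_dvd_left hr1 i)
      rw [show (r + 1) * i = r * i - -i by ring, zpow_sub, mul_inv_eq_one] at h1
      exact h1
    have hQI : (Q₀ : Subgroup H) ≤ I := by
      intro y hy
      show (⟨s * y * s⁻¹, _⟩ : H) * y ∈ A
      have hyP : (y : G) ∈ (P : Subgroup G) := ⟨y, hy, rfl⟩
      have hu : s * g⁻¹ ∈ H := hmem.mpr ⟨by rw [mul_smul, inv_smul_eq_iff.mpr hgswap.2.symm, sb],
        by rw [mul_smul, inv_smul_eq_iff.mpr hgswap.1.symm, sa]⟩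
      have e : (⟨s * y * s⁻¹, hswapH s sa sb y y.2⟩ : H) = ⟨_, hu⟩ * y⁻¹ * (⟨_, hu⟩ : H)⁻¹ := Subtype.ext (by
        show s * (y : G) * s⁻¹ = s * g⁻¹ * (y : G)⁻¹ * (s * g⁻¹)⁻¹
        rw [← hinvP _ hyP]; group)
      rw [e]
      have := hcomA ⟨_, hu⟩ y⁻¹
      rwa [inv_inv] at this
    have h1 : q ^ k ∣ Nat.card Q₀ := by
      rw [Q₀.card_eq_multiplicity]
      exact pow_dvd_pow q ((hq.pow_dvd_iff_le_factorization Nat.card_pos.ne').mp hqk)
    exact h1.trans (Subgroup.card_dvd_of_le hQI)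
  -- so the commutator subgroup is central
  obtain ⟨s, sa, sb⟩ : ∃ s : G, s • a = b ∧ s • b = a := PermGp.two_trans_exists Z.two hab hab.symm
  haveI : A.Normal := inferInstanceAs (commutator H).Normal
  haveI : IsCyclic A := IsZGroup.isCyclic_commutator (G := H)
  have hAc : A ≤ Subgroup.center H := by
    intro z hz
    rw [Subgroup.mem_center_iff]
    intro h
    suffices key : h * h * z = z * (h * h) by
      have hmem2 : h ∈ Subgroup.zpowers (h * h) := by
        rw [← pow_two]
        exact mem_zpowers_pow_iff.mpr (Nat.prime_two.coprime_iff_not_dvd.mpr fun hd =>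
          hoddp 2 (hd.trans (orderOf_dvd_natCard h)) rfl)
      obtain ⟨i, hi⟩ := Subgroup.mem_zpowers_iff.mp hmem2
      rw [← hi]
      exact (show Commute (h * h) z from key).zpow_left i
    obtain ⟨a₀, ha₀⟩ := IsCyclic.exists_generator (α := A)
    have hpw : ∀ y ∈ A, ∃ i : ℤ, (a₀ : H) ^ i = y := fun y hy => by
      obtain ⟨i, hi⟩ := Subgroup.mem_zpowers_iff.mp (ha₀ ⟨y, hy⟩)
      exact ⟨i, congrArg Subtype.val hi⟩
    let s' : H → H := fun y => ⟨s * y * s⁻¹, hswapH s sa sb y y.2⟩
    have hs'mul : ∀ u v, s' (u * v) = s' u * s' v := fun u v => Subtype.ext (by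
      show s * ((u : G) * v) * s⁻¹ = s * u * s⁻¹ * (s * v * s⁻¹); group)
    let sh : H →* H := MonoidHom.mk' s' hs'mul
    obtain ⟨j, hj⟩ := hpw _ ((inferInstance : A.Normal).conj_mem _ a₀.2 h)
    have hconjh : ∀ y ∈ A, h * y * h⁻¹ = y ^ j := fun y hy => by
      obtain ⟨i, rfl⟩ := hpw y hy
      rw [← conj_zpow, ← hj, ← zpow_mul, ← zpow_mul, mul_comm j i]
    have hsurj : ∀ y ∈ A, ∃ x ∈ A, s' x = y := by
      intro y hy
      have sia : s⁻¹ • a = b := inv_smul_eq_iff.mpr sb.symm
      have sib : s⁻¹ • b = a := inv_smul_eq_iff.mpr sa.symm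
      refine ⟨⟨s⁻¹ * y * s⁻¹⁻¹, hswapH _ sia sib y y.2⟩, hswapA _ sia sib y _ hy, Subtype.ext ?_⟩
      show s * (s⁻¹ * (y : G) * s⁻¹⁻¹) * s⁻¹ = y
      group
    have e1 : ∀ y ∈ A, s' h * y * (s' h)⁻¹ = y ^ j := by
      intro y hy
      obtain ⟨x, hx, rfl⟩ := hsurj y hy
      show sh h * sh x * (sh h)⁻¹ = sh x ^ j
      rw [← map_inv, ← map_mul, ← map_mul, ← map_zpow, hconjh x hx]
    have hAcomm : ∀ u ∈ A, ∀ v ∈ A, u * v = v * u := fun u hu v hv => by
      obtain ⟨i, rfl⟩ := hpw u hu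
      obtain ⟨l, rfl⟩ := hpw v hv
      rw [← zpow_add, ← zpow_add, add_comm]
    have e2 : h⁻¹ * z * h = h * z * h⁻¹ := by
      rw [hconjh z hz]
      have hu : s' h * h ∈ A := hinv s sa sb h _
      set u := s' h * h with hu'
      have h3 : s' h = u * h⁻¹ := by rw [hu']; group
      have h4 := e1 z hz
      rw [h3, show u * h⁻¹ * z * (u * h⁻¹)⁻¹ = u * (h⁻¹ * z * h) * u⁻¹ by group] at h4
      have h5 : h⁻¹ * z * h ∈ A := by
        simpa using (inferInstance : A.Normal).conj_mem z hz h⁻¹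
      rwa [hAcomm u hu _ h5, mul_inv_cancel_right] at h4
    calc h * h * z = h * (h * z * h⁻¹) * h := by group
      _ = h * (h⁻¹ * z * h) * h := by rw [e2]
      _ = z * (h * h) := by group
  have hcomm : ∀ x y : H, x * y = y * x :=
    commutative_of_cyclic_center_quotient (Abelianization.of (G := H)) (by
      rw [Abelianization.ker_of]; exact hAc)
  haveI : IsMulCommutative H := ⟨⟨hcomm⟩⟩
  have hA1 : A = ⊥ := by
    show commutator H = ⊥
    rw [commutator_def, Subgroup.commutator_eq_bot_iff_le_centralizer]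
    intro x _
    exact Subgroup.mem_centralizer_iff.mpr fun y _ => hcomm y x
  have hcyc : IsCyclic H := by
    haveI : Group.IsNilpotent H := by
      letI : CommGroup H := { (inferInstance : Group H) with mul_comm := hcomm }
      infer_instance
    infer_instance
  have hinvH : ∀ s : G, s • a = b → s • b = a → ∀ h ∈ H, s * h * s⁻¹ = h⁻¹ := by
    intro s sa sb h hh
    have := hinv s sa sb ⟨h, hh⟩ (hswapH s sa sb h hh)
    rw [hA1, Subgroup.mem_bot] at this
    exact eq_inv_of_mul_eq_one_left (congrArg Subtype.val this)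
  refine ⟨hcyc, le_antisymm ?_ ?_, hinvH⟩
  · intro c hc
    obtain ⟨⟨h0, hh0⟩, hne⟩ := Finite.one_lt_card_iff_nontrivial.mp hd1 |>.exists_pair_ne |> fun ⟨u, v, huv⟩ =>
      (show ∃ x : H, x ≠ 1 by
        by_cases hu : u = 1
        · exact ⟨v, fun e => huv (hu.trans e.symm)⟩
        · exact ⟨u, hu⟩)
    have hne' : h0 ≠ 1 := fun e => hne (Subtype.ext e)
    have hcom : h0 * c = c * h0 := Subgroup.mem_centralizer_iff.mp hc h0 hh0
    have hfix : ∀ z : Ω, h0 • z = z → z = a ∨ z = b := fun z hz => by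
      by_contra! hzab
      exact hne' (Z.three h0 a b z hab hzab.2.symm hzab.1.symm (hmem.mp hh0).1 (hmem.mp hh0).2 hz)
    have hca := hfix (c • a) (by rw [← mul_smul, hcom, mul_smul, (hmem.mp hh0).1])
    have hcb := hfix (c • b) (by rw [← mul_smul, hcom, mul_smul, (hmem.mp hh0).2])
    have hcab : c • a ≠ c • b := fun e => hab (MulAction.injective c e)
    rcases hca with h1 | h1
    · exact hmem.mpr ⟨h1, hcb.resolve_left fun e => hcab (h1.trans e.symm)⟩
    · exfalso
      have h2 := hcb.resolve_right fun e => hcab (h1.trans e.symm)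
      have h3 := hinvH c h1 h2 h0 hh0
      rw [← hcom, mul_inv_cancel_right] at h3
      have h4 : orderOf h0 ∣ 2 := orderOf_dvd_of_pow_eq_one (by rw [pow_two]; nth_rewrite 2 [h3]; exact mul_inv_cancel h0)
      have h5 : orderOf h0 ∣ Nat.card H := by
        rw [show h0 = ((⟨h0, hh0⟩ : H) : G) from rfl, Subgroup.orderOf_coe]; exact orderOf_dvd_natCard _
      rcases (Nat.dvd_prime Nat.prime_two).mp h4 with e | e
      · exact hne' (orderOf_eq_one_iff.mp e)
      · exact hoddp 2 (e ▸ h5) rfl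
  · intro h hh
    exact Subgroup.mem_centralizer_iff.mpr fun y hy =>
      congrArg Subtype.val (hcomm ⟨y, hy⟩ ⟨h, hh⟩)

end Cfsg.Agent.S0739
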