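import Cfsg.Statements.S0731
import Cfsg.Agent.Lib.ZassSharp.Odd.Main
import Cfsg.Agent.Lib.ZassSharp.Basic
import Cfsg.Agent.S0742

set_option autoImplicit false
open Cfsg

namespace Cfsg.Agent.S0731

/-- A finite Zassenhaus group whose point stabiliser has an abelian regular normal subgroup on the remaining points is sharply triply transitive or isomorphic to `PSL(2, F)` for a finite field `F` of odd characteristic. -/
theorem result {G Ω : Type*} [Group G] [Finite G] [MulAction G Ω] [Finite Ω] (hZ : Cfsg.IsZassenhausGroup G Ω) (x : Ω) (F : Subgroup G) (hFle : F ≤ MulAction.stabilizer G x) (hFn : (F.subgroupOf (MulAction.stabilizer G x)).Normal) (hFab : IsMulCommutative F) (hreg : ∀ y z : Ω, y ≠ x → z ≠ x → ∃! u : F, (u : G) • y = z) : (MulAction.IsMultiplyPretransitive G Ω 3 ∧ ∀ t : Fin 3 ↪ Ω, MulAction.stabilizer G t = ⊥) ∨ ∃ (K : Type) (_ : Field K) (_ : Fintype K), ringChar K ≠ 2 ∧ Nonempty (G ≃* Matrix.ProjectiveSpecialLinearGroup (Fin 2) K) := by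
  classical
  haveI := Fintype.ofFinite Ω
  have Z := Cfsg.Agent.PermGp.ZEven.zgrp_of_zassenhaus hZ
  obtain ⟨b, hbx, -⟩ := Z.exists_third x x
  have hab : x ≠ b := hbx.symm
  have hF := Cfsg.Agent.PermGp.ZEven.zker_of_regular hFle hFn hreg
  have hn := hF.card_add_one hab
  have hdvd := Cfsg.Agent.ZassSharp.card_dvd Z hab
  set d := Nat.card ↥(MulAction.stabilizer G x ⊓ MulAction.stabilizer G b) with hd
  have S : Cfsg.Agent.ZassSharp.Odd.Setting G Ω x b F :=
    { ker := hF, grp := Z, ne := hab,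
      comm := fun u hu v hv => congrArg Subtype.val (isMulCommutative_iff.mp hFab ⟨u, hu⟩ ⟨v, hv⟩) }
  have hd2 : 2 ≤ d := S.two_le
  have hbound : Fintype.card Ω - 2 ≤ 2 * d := by
    rcases Nat.even_or_odd d with he | ho
    · exact Cfsg.Agent.PermGp.card_sub_two_le_two_mul' Z.two Z.three hab he
    · have := (Cfsg.Agent.ZassSharp.Odd.bound_and_inversion _ rfl hZ S ho).1
      omega
  have hn3 := S.three_le
  by_cases hsharp : d = Fintype.card Ω - 2
  · exact Or.inl (Cfsg.Agent.ZassSharp.sharp Z hab hsharp)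
  obtain ⟨k, hk⟩ := hdvd
  have h2d : 2 * d = Fintype.card Ω - 2 := by
    rcases k with _ | _ | _ | k
    · omega
    · rw [show d * (0 + 1) = d by simp] at hk; exact absurd hk.symm hsharp
    · omega
    · rw [hk] at hbound
      have : d * (k + 1 + 1 + 1) = d * k + 3 * d := by ring
      omega
  refine Or.inr ?_
  have hodd_char : ∀ {K : Type} [Field K] [Fintype K] {p f : ℕ}, p.Prime → p ≠ 2 → Fintype.card K = p ^ f →
      ringChar K ≠ 2 := by
    intro K _ _ p f hp hp2 hK h2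
    have h1 := FiniteField.even_card_of_char_two h2
    rw [hK] at h1
    have h3 : ¬ (2 : ℕ) ∣ p ^ f := fun h =>
      hp2 ((Nat.prime_dvd_prime_iff_eq Nat.prime_two hp).mp (Nat.prime_two.dvd_of_dvd_pow h)).symm
    omega
  rcases Nat.even_or_odd d with he | ho
  · obtain ⟨p, f, K, iK, iF, hp, hp2, hK, -, hiso⟩ := Cfsg.Agent.S0742.result hZ hab he h2d.le
    exact ⟨K, iK, iF, hodd_char hp hp2 hK, hiso⟩
  · obtain ⟨p, f, K, iK, iF, φ, w, κ, hp, hp2, hK, hK', hκ, hκsq, C⟩ :=
      Cfsg.Agent.ZassSharp.Odd.exists_oddCoord hF Z hab ho h2d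
        (Cfsg.Agent.ZassSharp.Odd.bound_and_inversion _ rfl hZ S ho).2
    exact ⟨K, iK, iF, hodd_char hp hp2 hK,
      Cfsg.Agent.ZassSharp.Odd.iso_psl_odd hF Z hab hK' hκ hκsq C⟩

end Cfsg.Agent.S0731
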