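import Cfsg.Statements.S0727
import Cfsg.Agent.Lib.PermGp.SharplyThreePGL

set_option autoImplicit false
open Cfsg

namespace Cfsg.Agent.S0727

open MulAction in
theorem inverts_of_char_two {α : Type*} [Fintype α] [DecidableEq α] {G : Subgroup (Equiv.Perm α)}
    (S : PermGp.Sharp3 G) (hodd : Odd (Fintype.card α)) {i o e : α} (hio : i ≠ o)
    (hie : i ≠ e) (hoe : o ≠ e) {w : G} (hwi : w • i = o) (hwo : w • o = i) (hwe : w • e = e)
    {g : G} (gi : g • i = i) (go : g • o = o) : w * g * w = g⁻¹ := by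
  classical
  have hww : w * w = 1 := S.fix _ i o e hio hie hoe (by rw [mul_smul, hwi, hwo])
    (by rw [mul_smul, hwo, hwi]) (by rw [mul_smul, hwe, hwe])
  set P : Equiv.Perm α := (w : Equiv.Perm α) with hP
  have hPx : ∀ x, P x = w • x := fun _ => rfl
  have hfix : ∀ x : α, w • x = x → x = e := by
    intro x hx
    by_contra hne
    set F := P.supportᶜ with hF
    have h2 : F.card % 2 = 1 := by
      have h := Equiv.Perm.card_compl_support_modEq (p := 2) (n := 1) (σ := P) (by
        rw [pow_one, pow_two, hP, ← Subgroup.coe_mul, hww, Subgroup.coe_one])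
      obtain ⟨k, hk⟩ := hodd
      have h' : F.card % 2 = Fintype.card α % 2 := h
      omega
    have hsub : ({x, e} : Finset α) ⊆ F := by
      intro y hy
      rw [hF, Finset.mem_compl, Equiv.Perm.notMem_support, hPx]
      simp only [Finset.mem_insert, Finset.mem_singleton] at hy
      rcases hy with rfl | rfl <;> assumption
    have h3 : 2 < F.card := by
      have := Finset.card_le_card hsub
      rw [Finset.card_pair hne] at this
      omega
    obtain ⟨a, ha, b, hb, c, hc, hab, hac, hbc⟩ := Finset.two_lt_card.mp h3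
    simp only [hF, Finset.mem_compl, Equiv.Perm.notMem_support, hPx] at ha hb hc
    have := S.fix w a b c hab hac hbc ha hb hc
    rw [this, one_smul] at hwi
    exact hio hwi
  set H := stabilizer G i ⊓ stabilizer G o
  let c : H → H := fun k => ⟨(k : G)⁻¹ * (w * k * w), by
    obtain ⟨ki, ko⟩ := Subgroup.mem_inf.mp k.2
    refine H.mul_mem (H.inv_mem k.2) (Subgroup.mem_inf.mpr ⟨?_, ?_⟩) <;>
      rw [mem_stabilizer_iff, mul_smul, mul_smul]
    · rw [hwi, ko, hwo]
    · rw [hwo, ki, hwi]⟩
  have hinj : Function.Injective c := by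
    intro k l hkl
    have h : (k : G)⁻¹ * (w * k * w) = (l : G)⁻¹ * (w * l * w) := congrArg Subtype.val hkl
    set m := (l : G) * (k : G)⁻¹ with hm
    have hwm : w * m * w = m := by
      calc w * m * w = (w * l * w) * (w * k * w)⁻¹ * (w * w) := by rw [hm]; group
      _ = l * ((l : G)⁻¹ * (w * l * w)) * ((k : G)⁻¹ * (w * k * w))⁻¹ * (k : G)⁻¹ := by rw [hww]; group
      _ = m := by rw [← h, hm]; group
    have hmH : m ∈ H := H.mul_mem l.2 (H.inv_mem k.2)
    have hme : m • e = e := hfix _ (by
      nth_rewrite 2 [← hwm]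
      rw [mul_smul (w * m) w, hwe, mul_smul w])
    have := S.fix m i o e hio hie hoe (Subgroup.mem_inf.mp hmH).1 (Subgroup.mem_inf.mp hmH).2 hme
    exact Subtype.ext (mul_inv_eq_one.mp this).symm
  obtain ⟨k, hk⟩ := (Finite.injective_iff_surjective.mp hinj) ⟨g, Subgroup.mem_inf.mpr ⟨gi, go⟩⟩
  have hk' : (k : G)⁻¹ * (w * k * w) = g := congrArg Subtype.val hk
  have hwinv : w⁻¹ = w := inv_eq_of_mul_eq_one_right hww
  rw [← hk', mul_inv_rev, inv_inv, mul_inv_rev, mul_inv_rev, hwinv]
  calc w * ((k : G)⁻¹ * (w * k * w)) * w = w * (k : G)⁻¹ * w * (k : G) * (w * w) := by group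
  _ = _ := by rw [hww]; group

/-- A sharply triply transitive permutation group of degree `2^f + 1` is isomorphic to the projective general linear group of degree 2 over the field with `2^f` elements. -/
theorem result {α : Type*} [Fintype α] [DecidableEq α] {f : ℕ} (hf : 1 ≤ f) (hα : Fintype.card α = 2 ^ f + 1) (G : Subgroup (Equiv.Perm α)) (h3 : MulAction.IsMultiplyPretransitive G α 3) (hsharp : ∀ x : Fin 3 ↪ α, MulAction.stabilizer G x = ⊥) : ∃ (F : Type) (_ : Field F) (_ : Fintype F), Fintype.card F = 2 ^ f ∧ Nonempty (G ≃* Matrix.ProjGenLinGroup (Fin 2) F) := by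
  classical
  have S := PermGp.sharp3_of_sharp h3 hsharp
  have hpow : 2 ≤ 2 ^ f := le_trans (by norm_num) (Nat.pow_le_pow_right (by norm_num : 0 < 2) hf)
  obtain ⟨i, -, o, -, e, -, hio, hie, hoe⟩ := Finset.two_lt_card.mp
    (show 2 < (Finset.univ : Finset α).card by rw [Finset.card_univ, hα]; omega)
  obtain ⟨T, p, j, D⟩ := S.exists_translations (by omega) i
  obtain ⟨w, hwi, hwo, hwe⟩ := S.trans i o e o i e hio hie hoe hio.symm hoe hie
  have hodd : Odd (Fintype.card α) := by
    rw [hα, show f = f - 1 + 1 by omega, pow_succ]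
    exact ⟨2 ^ (f - 1), by ring⟩
  have hinv : ∀ g : G, g • i = i → g • o = o → w * g * w = g⁻¹ := fun g gi go =>
    inverts_of_char_two S hodd hio hie hoe hwi hwo hwe gi go
  have hww : w * w = 1 := S.fix _ i o e hio hie hoe (by rw [mul_smul, hwi, hwo])
    (by rw [mul_smul, hwo, hwi]) (by rw [mul_smul, hwe, hwe])
  have hcomm : ∀ g k : G, g • i = i → g • o = o → k • i = i → k • o = o → g * k = k * g := by
    intro g k gi go ki ko
    have h1 := hinv (g * k) (by rw [mul_smul, ki, gi]) (by rw [mul_smul, ko, go])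
    rw [show w * (g * k) * w = w * g * w * (w⁻¹ * k * w) by group,
      inv_eq_of_mul_eq_one_right hww, hinv g gi go, hinv k ki ko] at h1
    rw [← mul_inv_rev, inv_inj] at h1
    exact h1.symm
  obtain ⟨K, iK, iF, hK, ⟨C⟩⟩ := S.exists_coord D hio hie hoe hwi hwo hwe hcomm hinv
  refine ⟨K, iK, iF, ?_, S.iso_of_coord D C hio hwi hwo⟩
  have hc := D.card
  omega

end Cfsg.Agent.S0727
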