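import Cfsg.Statements.S4702
import Cfsg.Agent.S0727
import Cfsg.Agent.Lib.SL2.DicksonSub

set_option autoImplicit false
open Cfsg

namespace Cfsg.Agent.S4702

/-- Let G be a triply transitive permutation group on a finite set of odd size m ≥ 3 in which only the identity fixes three or more points. Then m = 2^a + 1 for some a ≥ 1 and G is isomorphic to SL(2, 2^a). -/
theorem result {α : Type*} [Fintype α] [DecidableEq α] (hm : 3 ≤ Fintype.card α) (hodd : Odd (Fintype.card α)) (G : Subgroup (Equiv.Perm α)) (h3 : MulAction.IsMultiplyPretransitive G α 3) (hfix : ∀ g : G, 3 ≤ Nat.card (MulAction.fixedBy α g) → g = 1) : ∃ a : ℕ, 1 ≤ a ∧ Fintype.card α = 2 ^ a + 1 ∧ ∃ (F : Type) (_ : Field F) (_ : Fintype F), Fintype.card F = 2 ^ a ∧ Nonempty (G ≃* Matrix.SpecialLinearGroup (Fin 2) F) := by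
  classical
  have hs : ∀ x : Fin 3 ↪ α, MulAction.stabilizer G x = ⊥ := by
    intro x
    rw [Subgroup.eq_bot_iff_forall]
    intro g hg
    apply hfix
    have hf : ∀ i, x i ∈ MulAction.fixedBy α g := fun i =>
      DFunLike.congr_fun (show g • x = x from hg) i
    let f : Fin 3 → MulAction.fixedBy α g := fun i => ⟨x i, hf i⟩
    calc 3 = Nat.card (Fin 3) := (Nat.card_fin 3).symm
      _ ≤ _ := Nat.card_le_card_of_injective f fun i j h => x.injective (congrArg Subtype.val h)
  obtain ⟨i⟩ : Nonempty α := Fintype.card_pos_iff.1 (by omega)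
  obtain ⟨T, p, j, D⟩ := (PermGp.sharp3_of_sharp h3 hs).exists_translations hm i
  have hp : p = 2 := by
    rcases D.prime.eq_two_or_odd' with h | h
    · exact h
    · obtain ⟨a, ha⟩ := hodd
      obtain ⟨b, hb⟩ := h.pow (n := j)
      have := D.card
      omega
  have hc : Fintype.card α = 2 ^ j + 1 := by rw [D.card, hp]
  refine ⟨j, D.pos, hc, ?_⟩
  obtain ⟨F, iF, tF, hF, ⟨e⟩⟩ := S0727.result D.pos hc G h3 hs
  refine ⟨F, iF, tF, hF, ?_⟩
  let f : Matrix.SpecialLinearGroup (Fin 2) F →* Matrix.ProjGenLinGroup (Fin 2) F :=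
    Matrix.ProjectiveSpecialLinearGroup.toPGL.comp SL2.π
  haveI : Finite (Matrix.ProjGenLinGroup (Fin 2) F) :=
    Finite.of_surjective _ Matrix.ProjGenLinGroup.mk_surjective
  have hd : Nat.gcd 2 (Fintype.card F - 1) = 1 := by
    refine (Nat.Prime.coprime_iff_not_dvd Nat.prime_two).2 ?_
    rw [hF, show j = j - 1 + 1 from (Nat.sub_add_cancel D.pos).symm, pow_succ]
    have : 0 < 2 ^ (j - 1) := Nat.two_pow_pos _
    omega
  have hker : Function.Injective (SL2.π : Matrix.SpecialLinearGroup (Fin 2) F →* _) := by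
    refine (injective_iff_map_eq_one _).2 fun s hs1 => ?_
    obtain ⟨h01, h10, h00⟩ := SL2.π_eq_one.1 hs1
    have hdet := s.det_coe
    rw [Matrix.det_fin_two, h01, h10, h00] at hdet
    haveI : CharP F 2 := by
      obtain ⟨n, hpr, hn⟩ := FiniteField.card F (ringChar F)
      have : ringChar F = 2 := (Nat.prime_dvd_prime_iff_eq hpr Nat.prime_two).1
        (hpr.dvd_of_dvd_pow (n := j) (hF ▸ hn ▸ dvd_pow_self _ n.ne_zero))
      exact this ▸ ringChar.charP F
    have h1 : (s : Matrix (Fin 2) (Fin 2) F) 1 1 = 1 := by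
      have h2 : (2 : F) = 0 := by exact_mod_cast CharP.cast_eq_zero F 2
      have : ((s : Matrix (Fin 2) (Fin 2) F) 1 1 - 1) * ((s : Matrix (Fin 2) (Fin 2) F) 1 1 - 1) = 0 := by
        linear_combination hdet - ((s : Matrix (Fin 2) (Fin 2) F) 1 1 - 1) * h2
      exact sub_eq_zero.1 (mul_self_eq_zero.1 this)
    apply SL2.ext4 <;> simp [h01, h10, h00, h1]
  have hinj : Function.Injective f :=
    Matrix.ProjectiveSpecialLinearGroup.toPGL_injective.comp hker
  have hcard : Nat.card (Matrix.ProjGenLinGroup (Fin 2) F) ≤ Nat.card (Matrix.SpecialLinearGroup (Fin 2) F) := by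
    rw [SL2.card_G, SL2.card_pgl]
  exact ⟨e.trans (MulEquiv.ofBijective f
    ⟨hinj, (hinj.bijective_of_nat_card_le hcard).2⟩).symm⟩

end Cfsg.Agent.S4702
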