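import Cfsg.Statements.S0917
import Cfsg.Agent.Lib.Blocks.Subgroup
-- import your own Cfsg.Agent.* helpers here

set_option autoImplicit false
open Cfsg

namespace Cfsg.Agent.S0917

/-- Let H be a subgroup of the finite group G, p a prime and M a maximal ideal of the algebraic integers containing p. If the block b of H induces the block B of G relative to M, then every defect group of b (a subgroup of H, viewed in G) is contained in some defect group of B. -/
theorem result {G : Type*} [Group G] [Finite G] (p : ℕ) [Fact p.Prime] (M : Ideal Cfsg.AlgInt) (hM : Cfsg.IsPModular p M) (H : Subgroup G) (b : Set (Cfsg.IrrCharacter H)) (hb : Cfsg.IsPBlock M b) (B : Set (Cfsg.IrrCharacter G)) (hB : Cfsg.IsPBlock M B) (hind : Cfsg.IsInducedBlock M H b B) (D : Subgroup H) (hD : Cfsg.IsDefectGroup p M b D) : ∃ E : Subgroup G, Cfsg.IsDefectGroup p M B E ∧ D.map H.subtype ≤ E := by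
  haveI := hM.2.1.isPrime
  haveI := Cfsg.Agent.Blocks.charP_res hM
  obtain ⟨E, hE⟩ := Cfsg.Agent.Blocks.exists_defectGroup (p := p) hB
  obtain ⟨g, hg, -, -, -⟩ := Cfsg.Agent.Blocks.defectGroup_spec hE
  obtain ⟨ξ, hξ⟩ := Cfsg.Agent.Blocks.block_nonempty hb
  obtain ⟨χ, hχ⟩ := Cfsg.Agent.Blocks.block_nonempty hB
  have h1 : Cfsg.Agent.Blocks.indBar M H ξ (Cfsg.Agent.Blocks.classSumZ (Cfsg.Agent.Blocks.Res M) g) ≠ 0 := by
    rw [Cfsg.Agent.Blocks.indBar_eq_of_isInducedBlock hind hξ hχ,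
      Cfsg.Agent.Blocks.omegaBar_classSumZ]
    exact (Cfsg.Agent.Blocks.red_centralCharL_ne_zero_iff χ g).mpr (hg.2.2 χ hχ)
  rw [Cfsg.Agent.Blocks.indBar_apply] at h1
  obtain ⟨h, hh0, hh⟩ := Cfsg.Agent.Blocks.exists_class_of_omegaBar_ne_zero ξ h1
  have hgh : IsConj g (h : G) := by
    by_contra hne
    exact hh0 (by simp [Cfsg.Agent.Blocks.classSum, Cfsg.Agent.Blocks.classInd_neg hne])
  obtain ⟨x, hx⟩ := Cfsg.Agent.Blocks.defect_conj_le_centralizer hM hb hD hξ hh
  have hle : (D.map H.subtype).map (MulAut.conj (x : G)).toMonoidHom ≤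
      Subgroup.centralizer ({(h : G)} : Set G) := by
    rintro _ ⟨_, ⟨d, hd, rfl⟩, rfl⟩
    have := hx (Subgroup.mem_map_of_mem (MulAut.conj x).toMonoidHom hd)
    rw [Subgroup.mem_centralizer_singleton_iff] at this ⊢
    simpa [MulAut.conj_apply] using congrArg Subtype.val this
  have hDp : IsPGroup p D := by
    obtain ⟨_, -, -, hp', -⟩ := Cfsg.Agent.Blocks.defectGroup_spec hD
    exact hp'
  have hu := hg.2.1
  rw [Cfsg.Agent.Blocks.blockCoeff_congr B hgh] at hu
  obtain ⟨y, hy⟩ := Cfsg.Agent.Blocks.conj_le_defect hM hB hE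
    (Cfsg.Agent.Blocks.isPGroup_map_conj (hDp.map _) (x : G)) hu hle
  rw [Cfsg.Agent.Blocks.map_conj_map_conj] at hy
  refine ⟨E.map (MulAut.conj (y * (x : G))⁻¹).toMonoidHom,
    Cfsg.Agent.Blocks.isDefectGroup_conj hE _, fun d hd => ?_⟩
  rw [Cfsg.Agent.Blocks.mem_map_conj]
  exact hy (Cfsg.Agent.Blocks.mem_map_conj.mpr (by simpa [mul_assoc] using hd))

end Cfsg.Agent.S0917
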