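import Cfsg.Statements.S1003
import Cfsg.Agent.Lib.SmallSimple.PrimeSylow
import Mathlib


set_option autoImplicit false
open Cfsg

namespace Cfsg.Agent.S1003

open Subgroup

/-- A simple group of order 168 has exactly 21 Sylow 2-subgroups, 28 Sylow 3-subgroups and 8 Sylow 7-subgroups. -/
theorem result {G : Type*} [Group G] [Finite G] [IsSimpleGroup G] (h : Nat.card G = 168) : Nat.card (Sylow 2 G) = 21 ∧ Nat.card (Sylow 3 G) = 28 ∧ Nat.card (Sylow 7 G) = 8 := by
  haveI : Fact (Nat.Prime 7) := ⟨by norm_num⟩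
  haveI : Fact (Nat.Prime 3) := ⟨by norm_num⟩
  haveI : Fact (Nat.Prime 2) := ⟨by norm_num⟩
  have hnc : ¬ IsMulCommutative G := SmallSimple.not_isMulCommutative (by rw [h]; norm_num)
  have hc : ∀ (q k m : ℕ) [Fact q.Prime], 168 = q ^ k * m → ¬ q ∣ m → ∀ S : Sylow q G,
      Nat.card S = q ^ k ∧ Nat.card (Sylow q G) ∣ m := by
    intro q k m _ hq hm S
    have h1 := SmallSimple.card_sylow_of_eq S (h.trans hq) hm
    refine ⟨h1, ?_⟩
    have h2 := Subgroup.card_mul_index (S : Subgroup G)
    rw [h1, h, hq] at h2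
    rw [← Nat.eq_of_mul_eq_mul_left (pow_pos (Fact.out : q.Prime).pos k) h2]
    exact S.card_dvd_index
  obtain ⟨P⟩ : Nonempty (Sylow 7 G) := inferInstance
  obtain ⟨hP, hPd⟩ := hc 7 1 24 (by norm_num) (by norm_num) P
  rw [pow_one] at hP
  have h7 : Nat.card (Sylow 7 G) = 8 := by
    have key : ∀ n ∈ Nat.divisors 24, n % 7 = 1 → n = 1 ∨ n = 8 := by decide
    exact (key _ (Nat.mem_divisors.2 ⟨hPd, by norm_num⟩) (card_sylow_modEq_one 7 G)).resolve_left
      (SmallSimple.card_sylow_ne_one hnc (by rw [h]; norm_num))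
  set N := normalizer ((P : Subgroup G) : Set G) with hNdef
  have hN : Nat.card N = 21 := by
    have h1 := SmallSimple.card_sylow_mul P
    rw [h7, h, ← hNdef] at h1
    omega
  obtain ⟨⟨x, hxN⟩, hx⟩ := exists_prime_orderOf_dvd_card' 3
    (show 3 ∣ Nat.card N by rw [hN]; norm_num)
  have hx3 : orderOf x = 3 := (Subgroup.orderOf_coe (⟨x, hxN⟩ : N)).trans hx
  have hxC : x ∉ centralizer ((P : Subgroup G) : Set G) := by
    intro hxC
    obtain ⟨e, he, he1, hec⟩ := SmallSimple.sylow_relIndex hnc P hP
    have h3 := Subgroup.orderOf_dvd_natCard _ hxC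
    rw [hx3] at h3
    rw [← hNdef, hN] at hec
    obtain ⟨c, hc'⟩ := h3
    rw [hc'] at hec
    have he7 : e ∣ 7 := ⟨c, by linarith⟩
    exact he1 (Nat.dvd_one.1 (show e ∣ Nat.gcd (7 - 1) 7 from Nat.dvd_gcd he he7))
  obtain ⟨S, hS⟩ := (IsPGroup.of_card (p := 3) (n := 1) (G := zpowers x)
    (by rw [Nat.card_zpowers, hx3, pow_one])).exists_le_sylow
  obtain ⟨hSc, hSd⟩ := hc 3 1 56 (by norm_num) (by norm_num) S
  rw [pow_one] at hSc
  have hS' : zpowers x = (S : Subgroup G) :=
    eq_of_le_of_card_ge hS (by rw [Nat.card_zpowers, hx3, hSc])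
  set M := normalizer ((S : Subgroup G) : Set G) with hMdef
  have h3 : Nat.card (Sylow 3 G) = 28 := by
    have key : ∀ n ∈ Nat.divisors 56, n % 3 = 1 → n = 1 ∨ n = 4 ∨ n = 7 ∨ n = 28 := by decide
    rcases key _ (Nat.mem_divisors.2 ⟨hSd, by norm_num⟩) (card_sylow_modEq_one 3 G) with
      h1 | h1 | h1 | h1
    · exact absurd h1 (SmallSimple.card_sylow_ne_one hnc (by rw [h]; norm_num))
    · have := SmallSimple.card_dvd_factorial_sylow hnc (p := 3) (by rw [h]; norm_num)
      rw [h1, h] at this
      exact absurd this (by decide)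
    · exfalso
      have hM : Nat.card M = 24 := by
        have h2 := SmallSimple.card_sylow_mul S
        rw [h1, h, ← hMdef] at h2
        omega
      have hfix := (SmallSimple.card_fixedBy_le_orbits P hP hxN hxC (α := G ⧸ N)).trans
        (SmallSimple.card_orbits_le_two P hP h7)
      have hx0 : x • ((1 : G) : G ⧸ N) = ((1 : G) : G ⧸ N) := by
        rw [MulAction.Quotient.smul_coe, QuotientGroup.eq, smul_eq_mul]
        simpa using inv_mem hxN
      have hmem : ∀ g ∈ M, x • ((g : G) : G ⧸ N) = ((g : G) : G ⧸ N) := by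
        intro g hg
        have h2 : g⁻¹ * x * g ∈ (S : Subgroup G) := by
          have h4 := (Subgroup.mem_normalizer_iff.1 (inv_mem hg) x).1 (hS' ▸ mem_zpowers x)
          simpa using h4
        rw [← hS'] at h2
        obtain ⟨k, hk⟩ := h2
        have hk' : (g⁻¹ * x * g) • ((1 : G) : G ⧸ N) = ((1 : G) : G ⧸ N) := by
          rw [← hk]
          exact (zpow_mem (show x ∈ MulAction.stabilizer G ((1 : G) : G ⧸ N) from hx0) k :)
        calc x • ((g : G) : G ⧸ N) = g • ((g⁻¹ * x * g) • ((1 : G) : G ⧸ N)) := by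
              rw [← mul_smul]
              simp [MulAction.Quotient.smul_coe, mul_assoc]
          _ = _ := by rw [hk', MulAction.Quotient.smul_coe, smul_eq_mul, mul_one]
      let f : M ⧸ (N.subgroupOf M) → MulAction.fixedBy (G ⧸ N) x :=
        Quotient.lift (fun g => ⟨((g : G) : G ⧸ N), hmem g g.2⟩) (fun a b hab => by
          refine Subtype.ext (QuotientGroup.eq.2 ?_)
          exact (QuotientGroup.leftRel_apply.1 hab : a⁻¹ * b ∈ N.subgroupOf M))
      have hf : Function.Injective f := by
        intro a b hab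
        induction a using QuotientGroup.induction_on with | H a =>
        induction b using QuotientGroup.induction_on with | H b =>
        exact QuotientGroup.eq.2 (QuotientGroup.eq.1 (congrArg Subtype.val hab) :)
      have hle := (Nat.card_le_card_of_injective f hf).trans hfix
      have hI := Subgroup.card_eq_card_quotient_mul_card_subgroup (N.subgroupOf M)
      rw [hM] at hI
      have hd1 : Nat.card (N.subgroupOf M) ∣ 21 := by
        rw [← hN]
        have := Subgroup.card_dvd_of_injective
          ((M.subtype.comp (N.subgroupOf M).subtype).codRestrict N (fun g => g.2)) (fun a b hab =>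
            Subtype.ext (Subtype.ext (congrArg (fun z : N => (z : G)) hab)))
        exact this
      have hd2 : Nat.card (N.subgroupOf M) ∣ 24 := hM ▸ Subgroup.card_subgroup_dvd_card _
      have := Nat.le_of_dvd (by norm_num) (Nat.dvd_gcd hd1 hd2)
      norm_num at this
      nlinarith
    · exact h1
  refine ⟨?_, h3, h7⟩
  obtain ⟨T⟩ : Nonempty (Sylow 2 G) := inferInstance
  obtain ⟨hT, hTd⟩ := hc 2 3 21 (by norm_num) (by norm_num) T
  have key : ∀ n ∈ Nat.divisors 21, n = 1 ∨ n = 3 ∨ n = 7 ∨ n = 21 := by decide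
  rcases key _ (Nat.mem_divisors.2 ⟨hTd, by norm_num⟩) with h1 | h1 | h1 | h1
  · exact absurd h1 (SmallSimple.card_sylow_ne_one hnc (by rw [h]; norm_num))
  · have := SmallSimple.card_dvd_factorial_sylow hnc (p := 2) (by rw [h]; norm_num)
    rw [h1, h] at this
    exact absurd this (by decide)
  · exfalso
    have hN2 : Nat.card (normalizer ((T : Subgroup G) : Set G)) = 24 := by
      have h2 := SmallSimple.card_sylow_mul T
      rw [h1, h] at h2
      omega
    obtain ⟨⟨y, hyN⟩, hy⟩ := exists_prime_orderOf_dvd_card' 3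
      (show 3 ∣ Nat.card (normalizer ((T : Subgroup G) : Set G)) by rw [hN2]; norm_num)
    have hy3 : orderOf y = 3 :=
      (Subgroup.orderOf_coe (⟨y, hyN⟩ : normalizer ((T : Subgroup G) : Set G))).trans hy
    obtain ⟨U, hU⟩ := (IsPGroup.of_card (p := 3) (n := 1) (G := zpowers y)
      (by rw [Nat.card_zpowers, hy3, pow_one])).exists_le_sylow
    have hUc : Nat.card U = 3 := by rw [(hc 3 1 56 (by norm_num) (by norm_num) U).1, pow_one]
    obtain ⟨e, he, he1, hec⟩ := SmallSimple.sylow_relIndex hnc U hUc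
    have hUN := SmallSimple.card_sylow_mul U
    rw [h3, h] at hUN
    have he2 : e = 2 := ((Nat.dvd_prime Nat.prime_two).1 he).resolve_left he1
    have hUC : Nat.card (centralizer ((U : Subgroup G) : Set G)) = 3 := by
      rw [he2] at hec
      omega
    classical
    haveI := Fintype.ofFinite ↥(T : Subgroup G)
    set φ := (T : Subgroup G).normalizerMonoidHom ⟨y, hyN⟩ with hφ
    let f : Equiv.Perm ↥(T : Subgroup G) := φ.toEquiv
    have hφ3 : φ ^ 3 = 1 := by
      rw [hφ, ← map_pow, ← hy, pow_orderOf_eq_one, map_one]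
    have hf3 : f ^ 3 = 1 := by
      ext t
      simpa [f, pow_succ] using congrArg (fun q : MulAut ↥(T : Subgroup G) => ((q t : T) : G)) hφ3
    have hfix : ∀ t, f t = t ↔ t = 1 := by
      refine fun t => ⟨fun ht => ?_, fun ht => ht ▸ map_one φ⟩
      have htc : y * (t : G) * y⁻¹ = t := congrArg Subtype.val ht
      have htC : (t : G) ∈ centralizer ((U : Subgroup G) : Set G) := by
        refine mem_centralizer_iff.2 fun u hu => ?_
        have hcy : Commute (t : G) y := (mul_inv_eq_iff_eq_mul.1 htc).symm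
        rw [← SmallSimple.zpowers_eq_of_prime hUc (hU (mem_zpowers y))
          (fun h0 => by rw [h0, orderOf_one] at hy3; norm_num at hy3)] at hu
        obtain ⟨k, rfl⟩ := hu
        exact (hcy.zpow_right k).eq.symm
      have h4 := Subgroup.orderOf_dvd_natCard _ htC
      have h5 := Subgroup.orderOf_dvd_natCard (T : Subgroup G) t.2
      rw [hUC] at h4
      rw [hT] at h5
      exact Subtype.ext (orderOf_eq_one_iff.1 (Nat.dvd_one.1 (Nat.dvd_gcd h4 h5)))
    have hsupp : f.support = Finset.univ.erase 1 := by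
      ext t
      simp [hfix]
    have hdiv : 3 ∣ f.support.card := by
      rw [← Equiv.Perm.sum_cycleType]
      refine Multiset.dvd_sum fun n hn => ?_
      have hd := (Equiv.Perm.dvd_of_mem_cycleType hn).trans (orderOf_dvd_of_pow_eq_one hf3)
      rcases (Nat.dvd_prime Nat.prime_three).1 hd with rfl | rfl
      · exact absurd (Equiv.Perm.two_le_of_mem_cycleType hn) (by norm_num)
      · rfl
    rw [hsupp, Finset.card_erase_of_mem (Finset.mem_univ _), Finset.card_univ,
      ← Nat.card_eq_fintype_card, hT] at hdiv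
    norm_num at hdiv
  · exact h1

end Cfsg.Agent.S1003
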