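import Cfsg.Statements.S0495
import Cfsg.Agent.Lib.SmallSimple.RecognizePrime
import Cfsg.Agent.S1003
import Mathlib


set_option autoImplicit false
open Cfsg

namespace Cfsg.Agent.S0495

open Subgroup

set_option maxRecDepth 8000
set_option synthInstance.maxSize 2000
set_option synthInstance.maxHeartbeats 200000

theorem check : RecognizePSL.Cover (ZMod 7) 2 3 3 ∧
    RecognizePSL.Check (ZMod 7) 2 3 3 (fun k => k != 1) := by
  unfold RecognizePSL.Cover RecognizePSL.Check
  decide +kernel

/-- A simple group of order 168 is isomorphic to the projective special linear group of dimension 2 over the field with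
7 elements. -/
theorem result {G : Type*} [Group G] [Finite G] [IsSimpleGroup G]
    (h : Nat.card G = 168) {F : Type*} [Field F] [Fintype F] (hF : Fintype.card F = 7) :
    Nonempty (G ≃* Matrix.ProjectiveSpecialLinearGroup (Fin 2) F) := by
  haveI : Fact (Nat.Prime 7) := ⟨by norm_num⟩
  have hnc : ¬ IsMulCommutative G := SmallSimple.not_isMulCommutative (by rw [h]; norm_num)
  obtain ⟨P⟩ : Nonempty (Sylow 7 G) := inferInstance
  have hdvd : Nat.card (Sylow 7 G) ∣ 168 := h ▸ Dvd.intro _ (SmallSimple.card_sylow_mul P)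
  have hn : Nat.card (Sylow 7 G) = 7 + 1 := by
    have key : ∀ n ∈ Nat.divisors 168, n % 7 = 1 → n = 1 ∨ n = 7 + 1 := by decide +kernel
    exact (key _ (Nat.mem_divisors.2 ⟨hdvd, by norm_num⟩) (card_sylow_modEq_one 7 G)).resolve_left
      (SmallSimple.card_sylow_ne_one hnc (by rw [h]; norm_num))
  refine RecognizePSL.mulEquiv_PSL_prime hnc hn (m := 3) rfl (by rw [h]) (2 : ZMod 7) 3
    (fun k => k != 1) check.1 check.2 ?_ hF
  intro P R hPR x w k hxP hxR hxo hwk hw1 hw2
  rw [bne_iff_ne]
  intro hk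
  haveI : Fact (Nat.Prime 3) := ⟨by norm_num⟩
  -- `w` centralises `x`
  have hx1 : x ^ k = x := by
    rw [← pow_mod_orderOf x k, hxo, hk, pow_one]
  rw [hx1] at hwk
  obtain ⟨T⟩ : Nonempty (Sylow 3 G) := inferInstance
  obtain ⟨S, hS⟩ := (IsPGroup.of_card (p := 3) (n := 1) (G := zpowers x)
    (by rw [Nat.card_zpowers, hxo, pow_one])).exists_le_sylow
  have hSc : Nat.card S = 3 := by
    rw [SmallSimple.card_sylow_of_eq (k := 1) (m := 56) S (by rw [h]; norm_num) (by norm_num), pow_one]
  have hSx : (S : Subgroup G) = zpowers x :=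
    (eq_of_le_of_card_ge hS (by rw [hSc, Nat.card_zpowers, hxo])).symm
  have hN := SmallSimple.card_sylow_mul S
  rw [(S1003.result h).2.1, h] at hN
  obtain ⟨e, -, he1, heC⟩ := SmallSimple.sylow_relIndex hnc S hSc
  have hxC : x ∈ centralizer ((S : Subgroup G) : Set G) := mem_centralizer_iff.2 fun y hy => by
    rw [hSx] at hy
    obtain ⟨i, rfl⟩ := hy
    exact (Commute.zpow_self x i).eq
  have hwC : w ∈ centralizer ((S : Subgroup G) : Set G) := mem_centralizer_iff.2 fun y hy => by
    rw [hSx] at hy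
    obtain ⟨i, rfl⟩ := hy
    have hc : Commute w x := mul_inv_eq_iff_eq_mul.1 hwk
    exact (hc.zpow_right i).eq.symm
  have h3 : 3 ∣ Nat.card (centralizer ((S : Subgroup G) : Set G)) := by
    have := orderOf_dvd_natCard _ hxC
    rwa [hxo] at this
  have hC3 : Nat.card (centralizer ((S : Subgroup G) : Set G)) = 3 := by
    obtain ⟨d, hd⟩ := h3
    rw [hd] at heC ⊢
    rcases d with _ | _ | d
    · rw [mul_zero, mul_zero] at heC; omega
    · rfl
    · exfalso
      rcases e with _ | _ | e
      · rw [zero_mul] at heC; omega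
      · exact he1 rfl
      · nlinarith
  have hw3 : w ^ 3 = 1 := orderOf_dvd_iff_pow_eq_one.1 (hC3 ▸ orderOf_dvd_natCard _ hwC)
  have : w • P = P := by
    have h4 : (w ^ 3) • P = R := by
      rw [pow_succ, pow_two, mul_smul, mul_smul, hw1, hw2, hw1]
    rw [hw3, one_smul] at h4
    exact absurd h4 hPR
  exact hPR (this.symm.trans hw1)

end Cfsg.Agent.S0495
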