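import Cfsg.Statements.S0992
import Cfsg.Agent.Lib.SmallSimple.Basic
import Mathlib


set_option autoImplicit false
open Cfsg

namespace Cfsg.Agent.S0992

open Subgroup

/-- Let G be a non-abelian finite simple group of even order not divisible by 8, and T a Sylow 2-subgroup. Then T is a Klein four-group and the centralizer of T has index 3 in the normalizer of T. -/
theorem result {G : Type*} [Group G] [Finite G] [IsSimpleGroup G] (hG : ¬ IsMulCommutative G) (h2 : Even (Nat.card G)) (h8 : ¬ 8 ∣ Nat.card G) (T : Sylow 2 G) : IsKleinFour ↥(T : Subgroup G) ∧ (Subgroup.centralizer ((T : Subgroup G) : Set G)).relIndex (Subgroup.normalizer ((T : Subgroup G) : Set G)) = 3 := by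
  haveI : Fact (Nat.Prime 2) := ⟨Nat.prime_two⟩
  set N := normalizer ((T : Subgroup G) : Set G)
  set C := centralizer ((T : Subgroup G) : Set G)
  obtain ⟨k, hk⟩ := IsPGroup.iff_card.1 T.isPGroup'
  have hkd : 2 ^ k ∣ Nat.card G := hk ▸ Subgroup.card_subgroup_dvd_card _
  have hk2 : k ≤ 2 := by
    by_contra hc
    exact h8 ((pow_dvd_pow 2 (show 3 ≤ k by omega)).trans hkd)
  have hk1 : k ≠ 0 := by
    rintro rfl
    exact T.ne_bot_of_dvd_card h2.two_dvd (Subgroup.eq_bot_of_card_le _ (by rw [hk]; norm_num))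
  have hab : IsMulCommutative ↥(T : Subgroup G) := by
    rcases (show k = 1 ∨ k = 2 by omega) with rfl | rfl
    · haveI := isCyclic_of_prime_card (p := 2) (hk.trans (pow_one 2))
      exact IsCyclic.isMulCommutative
    · exact IsPGroup.isMulCommutative_of_card_eq_prime_sq (p := 2) hk
  have hTC : (T : Subgroup G) ≤ C := fun g hg => mem_centralizer_iff.2 fun d hd =>
    congrArg Subtype.val (hab.is_comm.comm ⟨d, hd⟩ ⟨g, hg⟩)
  have hodd : ¬ 2 ∣ C.relIndex N := by
    intro hd
    have h1 : C.relIndex N ∣ (T : Subgroup G).index :=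
      ((Subgroup.relIndex_dvd_of_le_left N hTC).trans
        (Subgroup.relIndex_dvd_index_of_le le_normalizer))
    exact Sylow.not_dvd_index T (hd.trans h1)
  have hne : C.relIndex N ≠ 1 := fun h =>
    SmallSimple.not_normalizer_le_centralizer hG h2.two_dvd T (relIndex_eq_one.1 h)
  have haut := SmallSimple.relIndex_dvd_card_mulAut (T : Subgroup G)
  have hcyc : ¬ IsCyclic ↥(T : Subgroup G) := by
    intro hc
    rw [IsCyclic.card_mulAut, hk] at haut
    obtain ⟨j, rfl⟩ : ∃ j, k = j + 1 := ⟨k - 1, by omega⟩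
    rw [Nat.totient_prime_pow_succ Nat.prime_two, show 2 - 1 = 1 from rfl, mul_one] at haut
    obtain ⟨i, -, hi⟩ := (Nat.dvd_prime_pow Nat.prime_two).1 haut
    rcases i with _ | i
    · exact hne hi
    · exact hodd (hi ▸ dvd_pow_self 2 (Nat.succ_ne_zero i))
  have hk' : k = 2 := by
    by_contra hc
    exact hcyc (isCyclic_of_prime_card (p := 2) (by rw [hk, show k = 1 by omega, pow_one]))
  subst hk'
  have h4 : Nat.card ↥(T : Subgroup G) = 4 := by rw [hk]; norm_num
  refine ⟨⟨h4, ?_⟩, ?_⟩
  · -- exponent two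
    have hexp : Monoid.exponent ↥(T : Subgroup G) ∣ 4 := h4 ▸ Group.exponent_dvd_nat_card
    have hne4 : Monoid.exponent ↥(T : Subgroup G) ≠ 4 := fun he => hcyc (by
      letI : CommGroup ↥(T : Subgroup G) :=
        { (inferInstance : Group ↥(T : Subgroup G)) with mul_comm := hab.is_comm.comm }
      exact IsCyclic.iff_exponent_eq_card.2 (he.trans h4.symm))
    have hne1 : Monoid.exponent ↥(T : Subgroup G) ≠ 1 := fun he => by
      haveI := Monoid.exp_eq_one_iff.1 he
      rw [Nat.card_unique] at h4
      norm_num at h4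
    have hle := Nat.le_of_dvd (by norm_num) hexp
    interval_cases (Monoid.exponent ↥(T : Subgroup G)) <;> simp_all
  · have h24 : C.relIndex N ∣ 24 := by
      refine haut.trans ?_
      let f : MulAut ↥(T : Subgroup G) →* Equiv.Perm ↥(T : Subgroup G) :=
        { toFun := MulEquiv.toEquiv
          map_one' := rfl
          map_mul' := fun _ _ => rfl }
      have h5 := Subgroup.card_dvd_of_injective f (fun a b h => MulEquiv.ext fun x =>
        congrArg (fun e : Equiv.Perm ↥(T : Subgroup G) => e x) h)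
      rwa [Nat.card_perm, h4] at h5
    have key : ∀ n ∈ Nat.divisors 24, n ≠ 1 → ¬ 2 ∣ n → n = 3 := by decide
    exact key _ (Nat.mem_divisors.2 ⟨h24, by norm_num⟩) hne hodd

end Cfsg.Agent.S0992
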