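import Cfsg.Statements.S0957
import Cfsg.Agent.Lib.Blocks.Brauer
import Mathlib.Algebra.Ring.Int.Defs
-- import your own Cfsg.Agent.* helpers here

set_option autoImplicit false
open Cfsg

namespace Cfsg.Agent.S0957

/-- Let P be a Sylow p-subgroup of the finite group G, let g, h ∈ G and let p ^ d be the order of a Sylow p-subgroup of the centralizer of g. Then the number of pairs (y, z) with y conjugate to g, z conjugate to h and z * y⁻¹ ∈ P is divisible by the order of P divided by p ^ d. -/
theorem result {G : Type*} [Group G] [Finite G] (p : ℕ) [Fact p.Prime] (P : Sylow p G) (g h : G) (S : Sylow p (Subgroup.centralizer ({g} : Set G))) : Nat.card P / Nat.card S ∣ Nat.card {yz : G × G // IsConj g yz.1 ∧ IsConj h yz.2 ∧ yz.2 * yz.1⁻¹ ∈ (P : Subgroup G)} := by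
  classical
  haveI := Fintype.ofFinite G
  set a := (Nat.card G).factorization p with ha
  set d := (Nat.card (Subgroup.centralizer ({g} : Set G))).factorization p
  have hP : Nat.card P = p ^ a := P.card_eq_multiplicity
  have hS : Nat.card S = p ^ d := S.card_eq_multiplicity
  have hp : p.Prime := Fact.out
  have hd : d ≤ a := (Nat.factorization_le_iff_dvd Nat.card_pos.ne' Nat.card_pos.ne').mpr
    (Subgroup.card_subgroup_dvd_card _) p
  rw [hP, hS, Nat.pow_div hd hp.pos]
  let W := G × G
  let good : W → Prop := fun yz => IsConj g yz.1 ∧ IsConj h yz.2 ∧ yz.2 * yz.1⁻¹ ∈ (P : Subgroup G)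
  let H := (P : Subgroup G).map (ConjAct.toConjAct : G ≃* ConjAct G).toMonoidHom
  have hgood : ∀ (q : G) (_ : q ∈ (P : Subgroup G)) (x : W),
      good (q * x.1 * q⁻¹, q * x.2 * q⁻¹) ↔ good x := by
    intro q hq x
    have e : q * x.2 * q⁻¹ * (q * x.1 * q⁻¹)⁻¹ = q * (x.2 * x.1⁻¹) * q⁻¹ := by group
    have hc : ∀ y u : G, IsConj y (q * u * q⁻¹) ↔ IsConj y u := fun y u =>
      ⟨fun k => k.trans (isConj_iff.mpr ⟨q⁻¹, by group⟩), fun k => k.trans (isConj_iff.mpr ⟨q, rfl⟩)⟩
    show (_ ∧ _ ∧ _) ↔ (_ ∧ _ ∧ _)
    rw [hc, hc, e, Subgroup.mul_mem_cancel_right _ (Subgroup.inv_mem _ hq),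
      Subgroup.mul_mem_cancel_left _ hq]
  have key := Cfsg.Agent.Blocks.dvd_sum_of_orbits (R := ℤ) (H := H) (W := W)
    (fun x => if good x then 1 else 0) (by
      rintro ⟨_, q, hq, rfl⟩ x
      exact if_congr (hgood q hq x) rfl rfl) (p ^ (a - d)) (fun x => by
      by_cases hx : good x
      swap
      · left; rw [if_neg hx]; exact dvd_zero _
      right
      haveI := Fintype.ofFinite (MulAction.orbit H x)
      haveI := Fintype.ofFinite (MulAction.stabilizer H x)
      haveI := Fintype.ofFinite H
      have hos := MulAction.card_orbit_mul_card_stabilizer_eq_card_group H x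
      simp only [← Nat.card_eq_fintype_card] at hos
      have hH : Nat.card H = p ^ a := by
        rw [Subgroup.card_map_of_injective (ConjAct.toConjAct : G ≃* ConjAct G).injective, hP]
      have hHp : IsPGroup p H := P.isPGroup'.map _
      obtain ⟨t, ht⟩ := IsPGroup.iff_card.mp (hHp.to_subgroup (MulAction.stabilizer H x))
      have htd : t ≤ d := by
        let T := ((MulAction.stabilizer H x).map H.subtype).map
          (ConjAct.ofConjAct : ConjAct G ≃* G).toMonoidHom
        have hT : T ≤ Subgroup.centralizer ({x.1} : Set G) := by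
          rintro _ ⟨_, ⟨k, hk, rfl⟩, rfl⟩
          have := congrArg Prod.fst (MulAction.mem_stabilizer_iff.mp hk)
          rw [Subgroup.smul_def, Prod.smul_fst, ConjAct.smul_def] at this
          exact Subgroup.mem_centralizer_singleton_iff.mpr (mul_inv_eq_iff_eq_mul.mp this)
        have hTc : Nat.card T = p ^ t := by
          rw [Subgroup.card_map_of_injective (ConjAct.ofConjAct : ConjAct G ≃* G).injective,
            Subgroup.card_map_of_injective H.subtype_injective, ht]
        have hle := Cfsg.Agent.Blocks.card_le_of_isPGroup_le hT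
          (((hHp.to_subgroup _).map _).map _)
        rw [hTc] at hle
        obtain ⟨c, hc⟩ := isConj_iff.mp hx.1
        have hcc : Nat.card (Subgroup.centralizer ({x.1} : Set G)) =
            Nat.card (Subgroup.centralizer ({g} : Set G)) := by
          rw [← hc]
          refine (Nat.card_congr ((MulAut.conj c).toEquiv.subtypeEquiv fun y => ?_)).symm
          simp only [Subgroup.mem_centralizer_singleton_iff, MulEquiv.toEquiv_eq_coe,
            MulEquiv.coe_toEquiv, MulAut.conj_apply]
          constructor
          · intro e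
            calc c * y * c⁻¹ * (c * g * c⁻¹) = c * (y * g) * c⁻¹ := by group
              _ = c * (g * y) * c⁻¹ := by rw [e]
              _ = c * g * c⁻¹ * (c * y * c⁻¹) := by group
          · intro e
            calc y * g = c⁻¹ * (c * y * c⁻¹ * (c * g * c⁻¹)) * c := by group
              _ = c⁻¹ * (c * g * c⁻¹ * (c * y * c⁻¹)) * c := by rw [e]
              _ = g * y := by group
        rw [hcc] at hle
        exact (Nat.pow_le_pow_iff_right hp.one_lt).mp hle
      rw [ht, hH] at hos
      refine (Nat.dvd_of_mul_dvd_mul_right (pow_pos hp.pos t) ?_)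
      rw [hos, ← pow_add]
      exact pow_dvd_pow p (by omega))
  rw [Finset.sum_boole] at key
  rw [Nat.card_eq_fintype_card, Fintype.card_subtype]
  exact_mod_cast key

end Cfsg.Agent.S0957
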