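import Cfsg.Statements.S0971
import Cfsg.Agent.Lib.Blocks.Covering
-- import your own Cfsg.Agent.* helpers here

set_option autoImplicit false
open Cfsg

namespace Cfsg.Agent.S0971

/-- Let Q be a normal p-subgroup of the finite group G, let N = Q ⊔ C_G(Q) (a normal subgroup) and let b be a block of N relative to a maximal ideal M of the algebraic integers containing p. Then b induces some block of G, and every block B of G containing a character whose restriction to N has a constituent in b is induced by b. -/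
theorem result {G : Type*} [Group G] [Fintype G] (p : ℕ) [Fact p.Prime] (M : Ideal Cfsg.AlgInt) (hM : Cfsg.IsPModular p M) (Q : Subgroup G) [Q.Normal] (hQ : IsPGroup p Q) [Fintype ↥(Q ⊔ Subgroup.centralizer (Q : Set G))] (b : Set (Cfsg.IrrCharacter ↥(Q ⊔ Subgroup.centralizer (Q : Set G)))) (hb : Cfsg.IsPBlock M b) : Cfsg.InducedBlockDefined M (Q ⊔ Subgroup.centralizer (Q : Set G)) b ∧ ∀ B : Set (Cfsg.IrrCharacter G), Cfsg.IsPBlock M B → (∃ χ ∈ B, ∃ θ ∈ b, Cfsg.classInner (fun n : ↥(Q ⊔ Subgroup.centralizer (Q : Set G)) => (χ : G → ℂ) n) (θ : ↥(Q ⊔ Subgroup.centralizer (Q : Set G)) → ℂ) ≠ 0) → Cfsg.IsInducedBlock M (Q ⊔ Subgroup.centralizer (Q : Set G)) b B := by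
  haveI := hM.2.1.isPrime
  haveI := Cfsg.Agent.Blocks.charP_res hM
  have hQN : Q ≤ Q ⊔ Subgroup.centralizer (Q : Set G) := le_sup_left
  have hCN : Subgroup.centralizer (Q : Set G) ≤ Q ⊔ Subgroup.centralizer (Q : Set G) := le_sup_right
  have hNN : Q ⊔ Subgroup.centralizer (Q : Set G) ≤ Subgroup.normalizer (Q : Set G) :=
    sup_le Subgroup.le_normalizer (Subgroup.centralizer_le_normalizer _)
  refine ⟨Cfsg.Agent.Blocks.exists_inducedBlock hM hQ hQN hCN hNN hb,
    fun B hB ⟨χ, hχ, θ, hθ, hcon⟩ => ?_⟩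
  haveI : (Q ⊔ Subgroup.centralizer (Q : Set G)).Normal := inferInstance
  refine (Cfsg.Agent.Blocks.isInducedBlock_iff hb hB hθ hχ).mpr fun a =>
    Cfsg.Agent.Blocks.indBar_eq_of_classSum _ θ χ (fun g => ?_) a
  by_cases hg : g ∈ Q ⊔ Subgroup.centralizer (Q : Set G)
  · rw [Cfsg.Agent.Blocks.indBar_classSumZ, Cfsg.Agent.Blocks.omegaBar_classSumZ]
    exact congrArg _ (Subtype.ext
      (Cfsg.Agent.Blocks.centralChar_eq_inducedCentralChar χ hcon ⟨g, hg⟩).symm)
  · have hout : ∀ u, IsConj g u → u ∉ Q ⊔ Subgroup.centralizer (Q : Set G) := fun u hu hm => by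
      obtain ⟨c, hc⟩ := isConj_iff.mp hu.symm
      exact hg (hc ▸ (inferInstance : (Q ⊔ Subgroup.centralizer (Q : Set G)).Normal).conj_mem u hm c)
    rw [Cfsg.Agent.Blocks.omegaBar_eq_zero_of_br hM hQ χ (by
      rw [Cfsg.Agent.Blocks.br_apply, Cfsg.Agent.Blocks.trunc_eq_zero_iff]
      intro u hu
      simp only [Cfsg.Agent.Blocks.coe_classSumZ, Cfsg.Agent.Blocks.classSum,
        Cfsg.Agent.Blocks.coeff_ofFun]
      exact Cfsg.Agent.Blocks.classInd_neg fun h => hout u h (hCN hu)),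
      Cfsg.Agent.Blocks.indBar_apply]
    have e : Cfsg.Agent.Blocks.resZ (Q ⊔ Subgroup.centralizer (Q : Set G))
        (Cfsg.Agent.Blocks.classSumZ (Cfsg.Agent.Blocks.Res M) g) = 0 := by
      refine Subtype.ext ?_
      ext u
      simp [Cfsg.Agent.Blocks.classSum, Cfsg.Agent.Blocks.classInd_neg fun h => hout _ h u.2]
    rw [e, map_zero]

end Cfsg.Agent.S0971
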