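import Cfsg.Statements.S1020
import Cfsg.Agent.Lib.SmallSimple.RecognizePrime
import Mathlib


set_option autoImplicit false
open Cfsg

namespace Cfsg.Agent.S1020

set_option maxRecDepth 8000
set_option synthInstance.maxSize 2000
set_option synthInstance.maxHeartbeats 200000

theorem check : RecognizePSL.Cover (ZMod 17) 9 3 8 ∧
    RecognizePSL.Check (ZMod 17) 9 3 8 (fun _ => true) := by
  unfold RecognizePSL.Cover RecognizePSL.Check
  decide +kernel

open Subgroup

/-- A simple group of order 2448 is isomorphic to the projective special linear group of dimension 2 over the field with 17 elements. -/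
theorem result {G : Type*} [Group G] [Finite G] [IsSimpleGroup G] (h : Nat.card G = 2448) {F : Type*} [Field F] [Fintype F] (hF : Fintype.card F = 17) : Nonempty (G ≃* Matrix.ProjectiveSpecialLinearGroup (Fin 2) F) := by
  haveI : Fact (Nat.Prime 17) := ⟨by norm_num⟩
  have hnc : ¬ IsMulCommutative G := SmallSimple.not_isMulCommutative (by rw [h]; norm_num)
  obtain ⟨P⟩ : Nonempty (Sylow 17 G) := inferInstance
  have hPc : Nat.card P = 17 := by
    rw [SmallSimple.card_sylow_of_eq (k := 1) (m := 144) P (by rw [h]; norm_num) (by norm_num), pow_one]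
  have hdvd : Nat.card (Sylow 17 G) ∣ 144 := by
    have h1 := P.card_dvd_index
    have h2 := Subgroup.card_mul_index (P : Subgroup G)
    rw [hPc, h] at h2
    rwa [show (P : Subgroup G).index = 144 by omega] at h1
  have hn : Nat.card (Sylow 17 G) = 17 + 1 := by
    have key : ∀ n ∈ Nat.divisors 144, n % 17 = 1 → n = 1 ∨ n = 17 + 1 := by decide
    exact (key _ (Nat.mem_divisors.2 ⟨hdvd, by norm_num⟩) (card_sylow_modEq_one 17 G)).resolve_left
      (SmallSimple.card_sylow_ne_one hnc (by rw [h]; norm_num))
  exact RecognizePSL.mulEquiv_PSL_prime hnc hn (m := 8) rfl (by rw [h]) (9 : ZMod 17) 3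
    (fun _ => true) check.1 check.2 (fun _ _ _ _ _ _ _ _ _ _ _ _ => rfl) hF

end Cfsg.Agent.S1020
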