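import Cfsg.Statements.S0690
import Cfsg.Agent.Lib.Zassenhaus.Structure

set_option autoImplicit false
open Cfsg

namespace Cfsg.Agent.S0690

/-- Zassenhaus: a perfect non-trivial group of fixed-point-free automorphisms of a finite group is isomorphic to `SL(2,5)`. -/
theorem result {K : Type*} [Group K] [Finite K] (G : Subgroup (MulAut K)) (hfpf : ∀ φ ∈ G, φ ≠ 1 → ∀ k : K, φ k = k → k = 1) (hperf : commutator G = ⊤) (hne : G ≠ ⊥) : Nonempty (G ≃* Matrix.SpecialLinearGroup (Fin 2) (ZMod 5)) := by
  haveI : Nontrivial G := G.nontrivial_iff_ne_bot.mpr hne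
  haveI : Nontrivial K := by
    by_contra hK
    haveI := not_nontrivial_iff_subsingleton.mp hK
    obtain ⟨φ, hφ⟩ := exists_ne (1 : G)
    exact hφ (Subtype.ext (MulEquiv.ext fun k => Subsingleton.elim _ _))
  haveI : Finite (MulAut K) := Finite.of_injective (fun e => (e : K → K)) DFunLike.coe_injective
  have hFC : Zassenhaus.FC G := Zassenhaus.fc_of_action G.subtype
    (fun g hg k hk => hfpf g g.2 (fun e => hg (Subtype.ext e)) k hk)
  have hns : ¬ Group.IsSolvable G := fun h => by
    have := Group.IsSolvable.commutator_lt_top_of_nontrivial G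
    exact this.ne hperf
  obtain ⟨θ, M, hθ, hN, hM, hidx, hdis, hcomm, hZ, hcop⟩ := hFC.structure_of_nonsolvable hns
  haveI := hN
  haveI := hM
  haveI := hZ
  have key : ∀ A : Subgroup G, ∀ [A.Normal], Group.IsSolvable (G ⧸ A) → A = ⊤ := by
    intro A _ hA
    by_contra hne'
    haveI : Nontrivial (G ⧸ A) := QuotientGroup.nontrivial_iff.mpr hne'
    refine (Group.IsSolvable.commutator_lt_top_of_nontrivial (G ⧸ A)).ne ?_
    rw [commutator_def, ← Subgroup.map_top_of_surjective _ (QuotientGroup.mk'_surjective A),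
      ← Subgroup.map_commutator, ← commutator_def, hperf]
  have hG0 : θ.range ⊔ M = ⊤ :=
    key _ (Zassenhaus.quotient_solvable_of_index_le_two _ hidx)
  have htop : θ.range = ⊤ := by
    refine key _ (Group.isSolvable_of_surjective (f := (QuotientGroup.mk' θ.range).comp M.subtype) ?_)
    intro q
    obtain ⟨g, rfl⟩ := QuotientGroup.mk'_surjective θ.range q
    have hg : g ∈ θ.range ⊔ M := hG0 ▸ Subgroup.mem_top g
    obtain ⟨u, hu, v, hv, rfl⟩ := Subgroup.mem_sup_of_normal_left.mp hg
    exact ⟨⟨v, hv⟩, by simp [(QuotientGroup.eq_one_iff u).mpr hu]⟩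
  exact ⟨(((MonoidHom.ofInjective hθ).trans (MulEquiv.subgroupCongr htop)).trans Subgroup.topEquiv).symm⟩

end Cfsg.Agent.S0690
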