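import Cfsg.Statements.S0686
import Cfsg.Agent.Lib.PermGp.NearFieldLinear.Nonabelian
import Cfsg.Agent.S0690

set_option autoImplicit false
open Cfsg Cfsg.Agent.PermGp.NFLin

namespace Cfsg.Agent.S0686

/-- In a linear group over the prime field that is regular on non-zero vectors and has no irreducible cyclic normal subgroup, let `A` be a maximal normal abelian subgroup and `N` a normal subgroup centralising `A` that is minimal among non-abelian normal subgroups centralising `A`. Then `N` is quaternion of order 8 or isomorphic to `SL(2,5)`. -/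
theorem result {p : ℕ} [Fact p.Prime] {V : Type*} [AddCommGroup V] [Module (ZMod p) V] [Finite V] (H : Subgroup (V ≃ₗ[ZMod p] V)) (hreg : ∀ v w : V, v ≠ 0 → w ≠ 0 → ∃! h : H, (h : V ≃ₗ[ZMod p] V) v = w) (hI : ∀ A : Subgroup H, A.Normal → IsCyclic A → ∃ W : Submodule (ZMod p) V, W ≠ ⊥ ∧ W ≠ ⊤ ∧ ∀ a ∈ A, ∀ v ∈ W, ((a : H) : V ≃ₗ[ZMod p] V) v ∈ W) (A : Subgroup H) (hAn : A.Normal) (hAc : IsMulCommutative A) (hAmax : ∀ B : Subgroup H, B.Normal → IsMulCommutative B → A ≤ B → B = A) (N : Subgroup H) (hNn : N.Normal) (hNle : N ≤ Subgroup.centralizer (A : Set H)) (hNna : ¬ IsMulCommutative N) (hNmin : ∀ M : Subgroup H, M.Normal → M ≤ N → ¬ IsMulCommutative M → M = N) : Nonempty (N ≃* QuaternionGroup 2) ∨ Nonempty (N ≃* Matrix.SpecialLinearGroup (Fin 2) (ZMod 5)) := by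
  haveI := hAn
  haveI := hNn
  by_cases hperf : ⁅N, N⁆ = N
  · right
    let ψ : N →* MulAut (Multiplicative V) :=
      { toFun := fun n => AddEquiv.toMultiplicative ((n : H) : V ≃ₗ[ZMod p] V).toAddEquiv
        map_one' := MulEquiv.ext fun _ => rfl
        map_mul' := fun _ _ => MulEquiv.ext fun _ => rfl }
    have happ : ∀ (n : N) (v : V), ψ n (Multiplicative.ofAdd v) = Multiplicative.ofAdd (op (n : H) v) :=
      fun _ _ => rfl
    haveI := nontrivial_of_noncomm N hNna
    have hψ : Function.Injective ψ := fun a b h => by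
      obtain ⟨v, hv⟩ := exists_ne (0 : V)
      have := DFunLike.congr_fun h (Multiplicative.ofAdd v)
      rw [happ, happ] at this
      exact Subtype.ext (eq_of_apply_eq hreg hv (Multiplicative.ofAdd.injective this))
    have hcomm : commutator N = ⊤ := Subgroup.map_injective N.subtype_injective (by
      rw [Subgroup.map_subtype_commutator, hperf, ← MonoidHom.range_eq_map, N.range_subtype])
    suffices hs : Nonempty (ψ.range ≃* Matrix.SpecialLinearGroup (Fin 2) (ZMod 5)) from
      hs.map fun e => (MonoidHom.ofInjective hψ).trans e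
    refine Cfsg.Agent.S0690.result ψ.range ?_ ?_ ?_
    · rintro _ ⟨n, rfl⟩ hne v hv
      by_contra hv1
      refine hne ?_
      have h1 : op (n : H) (Multiplicative.toAdd v) = Multiplicative.toAdd v :=
        congrArg Multiplicative.toAdd hv
      rw [show n = 1 from Subtype.ext (eq_one_of_fixed hreg (fun e => hv1 (by
        rw [← ofAdd_toAdd v, e]; rfl)) h1), map_one]
    · rw [commutator_def, ← Subgroup.map_top_of_surjective _ ψ.rangeRestrict_surjective,
        ← Subgroup.map_commutator, ← commutator_def, hcomm]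
    · intro h
      refine hNna (isMulCommutative_iff.mpr fun a b => hψ ?_)
      have h1 : ∀ n : N, ψ n = 1 := fun n => by
        have : ψ n ∈ ψ.range := ⟨n, rfl⟩
        rwa [h, Subgroup.mem_bot] at this
      rw [h1, h1]
  · exact Or.inl (quaternion_of_not_perfect hreg A hAc hAmax N hNle hNna hNmin hperf)

end Cfsg.Agent.S0686
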