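import Cfsg.Statements.S0728
import Cfsg.Agent.Lib.PermGp.SharplyThree

set_option autoImplicit false
open Cfsg

namespace Cfsg.Agent.S0728

open MulAction in
theorem unique_order_three {α : Type*} [Fintype α] [DecidableEq α] {G : Subgroup (Equiv.Perm α)}
    (S : PermGp.Sharp3 G) (heven : Even (Fintype.card α)) {i o e : α} (hio : i ≠ o) (hie : i ≠ e)
    (hoe : o ≠ e) {a b : G} (ha : a * a * a = 1) (ha1 : a ≠ 1) (hai : a • i = i) (hao : a • o = o)
    (hb : b * b * b = 1) (hb1 : b ≠ 1) (hbi : b • i = i) (hbo : b • o = o) :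
    b ∈ Subgroup.zpowers a := by
  classical
  have h3card : 3 ≤ Fintype.card α := by
    have := Finset.card_le_univ ({i, o, e} : Finset α)
    rwa [Finset.card_eq_three.mpr ⟨i, o, e, hio, hie, hoe, rfl⟩] at this
  obtain ⟨T, p, j, D⟩ := S.exists_translations h3card i
  have hodd : p ≠ 2 := fun h => by
    have hc := D.card
    obtain ⟨k, hk⟩ := heven
    have := dvd_pow_self p (n := j) (by have := D.pos; omega)
    rw [h] at this
    obtain ⟨m, hm⟩ := this
    subst h
    omega
  obtain ⟨w, hwi, hwo, hwe⟩ := S.trans i o e o i e hio hie hoe hio.symm hoe hie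
  have hww : w * w = 1 := S.fix _ i o e hio hie hoe (by rw [mul_smul, hwi, hwo])
    (by rw [mul_smul, hwo, hwi]) (by rw [mul_smul, hwe, hwe])
  set H := stabilizer G i ⊓ stabilizer G o with hH
  have memH : ∀ {g : G}, g ∈ H ↔ g • i = i ∧ g • o = o := Iff.rfl
  have hσH : ∀ g ∈ H, w * g * w ∈ H := fun g hg => memH.mpr ⟨by
    rw [mul_smul, mul_smul, hwi, (memH.mp hg).2, hwo], by rw [mul_smul, mul_smul, hwo, (memH.mp hg).1, hwi]⟩
  set J := Finset.univ.filter (fun g : G => g ∈ H) |>.image fun g => g⁻¹ * (w * g * w)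
  have hJ : ∀ c : G, c * c * c = 1 → c ≠ 1 → c • i = i → c • o = o → ∀ x ∈ J, x * c = c * x := by
    intro c hc hc1 hci hco x hx
    obtain ⟨g, hg, rfl⟩ := Finset.mem_image.mp hx
    obtain ⟨hgi, hgo⟩ := memH.mp (Finset.mem_filter.mp hg).2
    have e1 := S.inverts_order_three D hodd hio hie hoe hwi hwo hwe hc hc1 hci hco
    have e2 := S.inverts_order_three D hodd hio hie hoe hwi hwo hwe (a := g * c * g⁻¹)
      (by rw [show g * c * g⁻¹ * (g * c * g⁻¹) * (g * c * g⁻¹) = g * (c * c * c) * g⁻¹ by group, hc]; group)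
      (fun h => hc1 (by
        have := congrArg (fun x => g⁻¹ * x * g) h
        simp only [mul_one, inv_mul_cancel] at this
        rwa [show g⁻¹ * (g * c * g⁻¹) * g = c by group] at this))
      (by rw [mul_smul, mul_smul, inv_smul_eq_iff.mpr hgi.symm, hci, hgi])
      (by rw [mul_smul, mul_smul, inv_smul_eq_iff.mpr hgo.symm, hco, hgo])
    have hwinv : w⁻¹ = w := inv_eq_of_mul_eq_one_right hww
    rw [show w * (g * c * g⁻¹) * w = (w * g * w) * (w⁻¹ * c * w) * (w * g * w)⁻¹ * (w * w) by group, hwinv, hww, mul_one, e1,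
      show (g * c * g⁻¹)⁻¹ = g * c⁻¹ * g⁻¹ by group] at e2
    have e3 : g⁻¹ * (w * g * w) * c⁻¹ = c⁻¹ * (g⁻¹ * (w * g * w)) := by
      calc g⁻¹ * (w * g * w) * c⁻¹ = g⁻¹ * ((w * g * w) * c⁻¹ * (w * g * w)⁻¹) * (w * g * w) := by group
      _ = g⁻¹ * (g * c⁻¹ * g⁻¹) * (w * g * w) := by rw [e2]
      _ = _ := by group
    exact (inv_inv c ▸ (Commute.inv_right (show Commute (g⁻¹ * (w * g * w)) c⁻¹ from e3)).eq)
  have hcard : Nat.card H ≤ 2 * J.card := by
    rw [Nat.card_eq_fintype_card, Fintype.card_subtype]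
    refine Finset.card_le_mul_card_image _ 2 fun x hx => ?_
    by_contra hlt
    obtain ⟨g₁, h1, g₂, h2, g₃, h3, n12, n13, n23⟩ := Finset.two_lt_card.mp (not_le.mp hlt)
    simp only [Finset.mem_filter, Finset.mem_univ, true_and] at h1 h2 h3
    have hfix : ∀ g ∈ H, ∀ k ∈ H, g⁻¹ * (w * g * w) = k⁻¹ * (w * k * w) →
        w • (k * g⁻¹) • e = (k * g⁻¹) • e := by
      intro g _ k _ hgk
      have hm : w * (k * g⁻¹) * w = k * g⁻¹ := by
        calc w * (k * g⁻¹) * w = (w * k * w) * (w * g * w)⁻¹ * (w * w) := by group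
        _ = k * (k⁻¹ * (w * k * w)) * (g⁻¹ * (w * g * w))⁻¹ * g⁻¹ := by rw [hww]; group
        _ = k * g⁻¹ := by rw [← hgk]; group
      nth_rewrite 2 [← hm]
      rw [mul_smul (w * (k * g⁻¹)) w, hwe, mul_smul w]
    have hne : ∀ g ∈ H, ∀ k ∈ H, g ≠ k → (g * g₁⁻¹) • e ≠ (k * g₁⁻¹) • e := by
      intro g hg k hk hgk heq
      apply hgk
      have hm : ((k * g₁⁻¹)⁻¹ * (g * g₁⁻¹)) = 1 := S.fix _ i o e hio hie hoe
        (memH.mp (H.mul_mem (H.inv_mem (H.mul_mem hk (H.inv_mem h1.1))) (H.mul_mem hg (H.inv_mem h1.1)))).1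
        (memH.mp (H.mul_mem (H.inv_mem (H.mul_mem hk (H.inv_mem h1.1))) (H.mul_mem hg (H.inv_mem h1.1)))).2
        (by rw [mul_smul, heq, inv_smul_smul])
      exact mul_right_cancel (inv_mul_eq_one.mp hm).symm
    have := S.fix w ((g₁ * g₁⁻¹) • e) ((g₂ * g₁⁻¹) • e) ((g₃ * g₁⁻¹) • e)
      (hne _ h1.1 _ h2.1 n12) (hne _ h1.1 _ h3.1 n13) (hne _ h2.1 _ h3.1 n23)
      (hfix _ h1.1 _ h1.1 rfl) (hfix _ h1.1 _ h2.1 (h1.2.trans h2.2.symm))
      (hfix _ h1.1 _ h3.1 (h1.2.trans h3.2.symm))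
    rw [this, one_smul] at hwi
    exact hio hwi
  -- the two elements commute
  have hcomm : a * b = b * a := by
    by_contra hne
    set Ca := H ⊓ Subgroup.centralizer ({a} : Set G) with hCa
    have hJsub : ∀ x ∈ J, x ∈ Ca := fun x hx => by
      refine Subgroup.mem_inf.mpr ⟨?_, Subgroup.mem_centralizer_singleton_iff.mpr (hJ a ha ha1 hai hao x hx)⟩
      obtain ⟨g, hg, rfl⟩ := Finset.mem_image.mp hx
      exact H.mul_mem (H.inv_mem (Finset.mem_filter.mp hg).2) (hσH g (Finset.mem_filter.mp hg).2)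
    have hlt : 2 * Nat.card Ca ≤ Nat.card H := by
      obtain ⟨m, hm⟩ := Subgroup.card_dvd_of_le (inf_le_left : Ca ≤ H)
      have hne' : Ca ≠ H := fun h => hne (by
        have hb' : b ∈ Ca := h ▸ memH.mpr ⟨hbi, hbo⟩
        exact (Subgroup.mem_centralizer_singleton_iff.mp (Subgroup.mem_inf.mp hb').2).symm)
      rcases m with _ | _ | m
      · simp [Nat.card_pos.ne'] at hm
      · exact absurd (Subgroup.eq_of_le_of_card_ge inf_le_left (by rw [hm]; simp)) hne'
      · rw [hm, mul_comm]; exact Nat.mul_le_mul_left _ (by omega)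
    have hJeq : J = Finset.univ.filter (fun g : G => g ∈ Ca) := by
      refine Finset.eq_of_subset_of_card_le (fun x hx => Finset.mem_filter.mpr ⟨Finset.mem_univ _, hJsub x hx⟩) ?_
      rw [← Fintype.card_subtype, ← Nat.card_eq_fintype_card]
      show Nat.card Ca ≤ J.card
      omega
    have : a ∈ J := hJeq ▸ Finset.mem_filter.mpr ⟨Finset.mem_univ _, Subgroup.mem_inf.mpr
      ⟨memH.mpr ⟨hai, hao⟩, Subgroup.mem_centralizer_singleton_iff.mpr rfl⟩⟩
    exact hne (hJ b hb hb1 hbi hbo a this)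
  by_contra hnot
  have hinvb : b⁻¹ = b * b := inv_eq_of_mul_eq_one_right (by rw [← mul_assoc]; exact hb)
  have hinva : a⁻¹ = a * a := inv_eq_of_mul_eq_one_right (by rw [← mul_assoc]; exact ha)
  have hab1 : a * b ≠ 1 := fun h => hnot (by
    rw [show b = a⁻¹ from eq_inv_of_mul_eq_one_right h]; exact Subgroup.inv_mem _ (Subgroup.mem_zpowers a))
  have hab2 : a * (b * b) ≠ 1 := fun h => hnot (by
    rw [← hinvb, mul_inv_eq_one] at h
    rw [← h]; exact Subgroup.mem_zpowers a)
  have cpow : ∀ x y : G, x * y = y * x → x * x * x = 1 → y * y * y = 1 → x * y * (x * y) * (x * y) = 1 := by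
    intro x y hc hx hy
    have hc' : Commute x y := hc
    have := hc'.mul_pow 3
    simp only [pow_succ, pow_zero, one_mul] at this
    rw [this, hx, hy, one_mul]
  have hbb3 : b * b * (b * b) * (b * b) = 1 := by
    rw [show b * b * (b * b) * (b * b) = b * b * b * (b * b * b) by group, hb, one_mul]
  have habb : a * (b * b) = b * b * a := (show Commute a b from hcomm).mul_right hcomm
  obtain ⟨t, ht, hte⟩ := D.exists_eq o e hio.symm hie.symm
  have o1 := D.order_three S hio.symm ha ha1 hai hao ht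
  have o3 := D.order_three S hio.symm (cpow a b hcomm ha hb) hab1
    (by rw [mul_smul, hbi, hai]) (by rw [mul_smul, hbo, hao]) ht
  have o4 := D.order_three S hio.symm (cpow a (b * b) habb ha hbb3) hab2
    (by rw [mul_smul, mul_smul, hbi, hbi, hai]) (by rw [mul_smul, mul_smul, hbo, hbo, hao]) ht
  have o2a := D.order_three S hio.symm hb hb1 hbi hbo (D.conj a hai t ht)
  have o2b := D.order_three S hio.symm hb hb1 hbi hbo (D.conj a hai _ (D.conj a hai t ht))
  let K : G → MulAut G := fun g => MulAut.conj g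
  set n10 := K a t with e10
  set n20 := K (a * a) t with e20
  set n11 := K (a * b) t with e11
  set n22 := K (a * a * (b * b)) t with e22
  set n12 := K (a * (b * b)) t with e12
  set n21 := K (a * a * b) t with e21
  have sq : ∀ x y : G, x * y = y * x → x * y * (x * y) = x * x * (y * y) := fun x y hc => by
    rw [mul_assoc, ← mul_assoc y, ← hc, mul_assoc x y, ← mul_assoc]
  have hb4 : b * b * (b * b) = b := by
    rw [show b * b * (b * b) = b * b * b * b by group, hb, one_mul]
  have p1 : t * n10 * n20 = 1 := by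
    rw [e10, e20]; simp only [K, MulAut.conj_apply]
    rw [show a * a * t * (a * a)⁻¹ = a * (a * t * a⁻¹) * a⁻¹ by group]; exact o1
  have p3 : t * n11 * n22 = 1 := by
    rw [e11, e22, ← sq a b hcomm]; simp only [K, MulAut.conj_apply]
    rw [show a * b * (a * b) * t * (a * b * (a * b))⁻¹ = a * b * (a * b * t * (a * b)⁻¹) * (a * b)⁻¹ by group]
    exact o3
  have p4 : t * n12 * n21 = 1 := by
    rw [e12, e21, show a * a * b = a * (b * b) * (a * (b * b)) by rw [sq a (b * b) habb, hb4]]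
    simp only [K, MulAut.conj_apply]
    rw [show a * (b * b) * (a * (b * b)) * t * (a * (b * b) * (a * (b * b)))⁻¹ =
      a * (b * b) * (a * (b * b) * t * (a * (b * b))⁻¹) * (a * (b * b))⁻¹ by group]
    exact o4
  have p2 : n10 * n11 * n12 = 1 := by
    rw [e10, e11, e12]; simp only [K, MulAut.conj_apply]
    rw [hcomm, habb, show b * a * t * (b * a)⁻¹ = b * (a * t * a⁻¹) * b⁻¹ by group,
      show b * b * a * t * (b * b * a)⁻¹ = b * (b * (a * t * a⁻¹) * b⁻¹) * b⁻¹ by group]
    exact o2a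
  have p5 : n20 * n21 * n22 = 1 := by
    rw [e20, e21, e22]; simp only [K, MulAut.conj_apply]
    have c1 : Commute (a * a) b := (show Commute a b from hcomm).mul_left hcomm
    rw [c1.eq, (c1.mul_right c1).eq, show a * a * t * (a * a)⁻¹ = a * (a * t * a⁻¹) * a⁻¹ by group,
      show b * (a * a) * t * (b * (a * a))⁻¹ = b * (a * (a * t * a⁻¹) * a⁻¹) * b⁻¹ by group,
      show b * b * (a * a) * t * (b * b * (a * a))⁻¹ = b * (b * (a * (a * t * a⁻¹) * a⁻¹) * b⁻¹) * b⁻¹ by group]
    exact o2b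
  have hT : ∀ g : G, g • i = i → K g t ∈ T := fun g hg => D.conj g hg t ht
  have m10 : n10 ∈ T := hT _ hai
  have m20 : n20 ∈ T := hT _ (by rw [mul_smul, hai, hai])
  have m11 : n11 ∈ T := hT _ (by rw [mul_smul, hbi, hai])
  have m12 : n12 ∈ T := hT _ (by rw [mul_smul, mul_smul, hbi, hbi, hai])
  have m21 : n21 ∈ T := hT _ (by rw [mul_smul, mul_smul, hbi, hai, hai])
  have m22 : n22 ∈ T := hT _ (by rw [mul_smul, mul_smul, mul_smul, hbi, hbi, hai, hai])
  let cg : CommGroup T := { (inferInstance : Group T) with mul_comm := fun x y => Subtype.ext (D.comm _ x.2 _ y.2) }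
  have key : ∀ t a b c d e f : T, t * a * b = 1 → t * c * d = 1 → t * e * f = 1 → a * c * e = 1 →
      b * f * d = 1 → t * t * t = 1 := by
    intro t a b c d e f h1 h2 h3 h4 h5
    calc t * t * t = (t * t * t) * ((a * c * e) * (b * f * d)) := by rw [h4, h5, mul_one, mul_one]
    _ = (t * a * b) * ((t * c * d) * (t * e * f)) := by simp only [mul_comm, mul_left_comm, mul_assoc]
    _ = 1 := by rw [h1, h2, h3, one_mul, one_mul]
  have h3t : (⟨t, ht⟩ : T) * ⟨t, ht⟩ * ⟨t, ht⟩ = 1 :=
    key ⟨t, ht⟩ ⟨n10, m10⟩ ⟨n20, m20⟩ ⟨n11, m11⟩ ⟨n22, m22⟩ ⟨n12, m12⟩ ⟨n21, m21⟩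
      (Subtype.ext p1) (Subtype.ext p3) (Subtype.ext p4) (Subtype.ext p2) (Subtype.ext p5)
  have ht3 : t ^ 3 = 1 := by
    have h := congrArg Subtype.val h3t
    simpa [pow_succ, pow_zero] using h
  have ht1 : t ≠ 1 := fun h => hoe (by rw [← hte, h, one_smul])
  have := Fact.mk D.prime
  have hp3 : p = 3 := by
    have h1 := orderOf_eq_prime (D.exp t ht) ht1
    have h2 : orderOf t ∣ 3 := orderOf_dvd_of_pow_eq_one ht3
    rw [h1] at h2
    exact (Nat.prime_dvd_prime_iff_eq D.prime Nat.prime_three).mp h2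
  have hao3 : 3 ∣ Nat.card H := by
    have : orderOf a = 3 := orderOf_eq_prime (by rw [pow_succ, pow_two]; exact ha) ha1
    rw [← this, ← Subgroup.orderOf_mk a (memH.mpr ⟨hai, hao⟩)]
    exact orderOf_dvd_natCard _
  have hbij : Nat.card H = Fintype.card α - 2 := by
    rw [show Fintype.card α - 2 = Fintype.card {x : α // x ≠ i ∧ x ≠ o} by
      rw [Fintype.card_subtype, show Finset.univ.filter (fun c => c ≠ i ∧ c ≠ o) = ({i, o} : Finset α)ᶜ by
        ext c; simp, Finset.card_compl, Finset.card_pair hio], ← Nat.card_eq_fintype_card]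
    refine Nat.card_eq_of_bijective (fun g => ⟨(g : G) • e, fun h => hie.symm (MulAction.injective (g : G)
      (h.trans (memH.mp g.2).1.symm)), fun h => hoe.symm (MulAction.injective (g : G)
      (h.trans (memH.mp g.2).2.symm))⟩) ⟨fun g k h => ?_, fun x => ?_⟩
    · have h' : (g : G) • e = (k : G) • e := congrArg Subtype.val h
      have hm := (H.mul_mem (H.inv_mem k.2) g.2)
      have := S.fix ((k : G)⁻¹ * g) i o e hio hie hoe (memH.mp hm).1 (memH.mp hm).2
        (by rw [mul_smul, h', inv_smul_smul])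
      exact Subtype.ext (inv_mul_eq_one.mp this).symm
    · obtain ⟨g, g1, g2, g3⟩ := S.trans i o e i o x hio hie hoe hio x.2.1.symm x.2.2.symm
      exact ⟨⟨g, g1, g2⟩, Subtype.ext g3⟩
  rw [hbij, D.card, hp3] at hao3
  have h1 : 3 ∣ 3 ^ j := dvd_pow_self 3 (by have := D.pos; omega)
  have h2 : 3 ^ j ≠ 0 := by simp
  generalize 3 ^ j = P at h1 h2 hao3
  omega

/-- In a sharply triply transitive group of even degree at least 6 (degree `q + 1`, `q` odd), a two-point stabiliser has at most one subgroup of order 3. -/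
theorem result {α : Type*} [Fintype α] [DecidableEq α] (heven : Even (Fintype.card α)) (h6 : 6 ≤ Fintype.card α) (G : Subgroup (Equiv.Perm α)) (h3 : MulAction.IsMultiplyPretransitive G α 3) (hsharp : ∀ x : Fin 3 ↪ α, MulAction.stabilizer G x = ⊥) {a b : α} (hab : a ≠ b) (A B : Subgroup G) (hA : A ≤ MulAction.stabilizer G a ⊓ MulAction.stabilizer G b) (hB : B ≤ MulAction.stabilizer G a ⊓ MulAction.stabilizer G b) (hA3 : Nat.card A = 3) (hB3 : Nat.card B = 3) : A = B := by
  classical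
  have S := PermGp.sharp3_of_sharp h3 hsharp
  obtain ⟨c, hc⟩ : ∃ c, c ∉ ({a, b} : Finset α) := by
    by_contra! hall
    have := Finset.card_le_univ ({a, b} : Finset α)
    have h := Finset.card_le_card (show (Finset.univ : Finset α) ⊆ {a, b} from fun x _ => hall x)
    rw [Finset.card_univ, Finset.card_pair hab] at h
    omega
  simp only [Finset.mem_insert, Finset.mem_singleton, not_or] at hc
  have : Fact (Nat.Prime 3) := ⟨Nat.prime_three⟩
  obtain ⟨x, hx⟩ := exists_prime_orderOf_dvd_card' (G := A) 3 (by rw [hA3])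
  have hx3 : (x : G) * x * x = 1 := by
    have := congrArg Subtype.val (hx ▸ pow_orderOf_eq_one x)
    simpa [pow_succ, pow_zero] using this
  have hx1 : (x : G) ≠ 1 := fun h => by
    rw [show x = 1 from Subtype.ext h, orderOf_one] at hx; omega
  have hsub : B ≤ Subgroup.zpowers (x : G) := by
    intro y hy
    by_cases hy1 : y = 1
    · rw [hy1]; exact one_mem _
    have hy3 : y * y * y = 1 := by
      have : (⟨y, hy⟩ : B) ^ 3 = 1 := hB3 ▸ pow_card_eq_one'
      simpa [pow_succ, pow_zero] using congrArg Subtype.val this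
    exact unique_order_three S heven hab (Ne.symm hc.1) (Ne.symm hc.2) hx3 hx1 (hA x.2).1 (hA x.2).2
      hy3 hy1 (hB hy).1 (hB hy).2
  have hzA : Subgroup.zpowers (x : G) = A := by
    refine Subgroup.eq_of_le_of_card_ge ?_ (by rw [Nat.card_zpowers, Subgroup.orderOf_coe, hx, hA3])
    rw [Subgroup.zpowers_le]; exact x.2
  exact (Subgroup.eq_of_le_of_card_ge (hzA ▸ hsub) (by rw [hA3, hB3])).symm

end Cfsg.Agent.S0728
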