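import Cfsg.Statements.S0730
import Cfsg.Agent.Lib.PermGp.SharplyThreeEven.Odd

set_option autoImplicit false
open Cfsg

namespace Cfsg.Agent.S0730

/-- A sharply triply transitive group of degree `p^f + 1`, `p` an odd prime and `f` odd, is isomorphic to the projective general linear group of degree 2 over the field with `p^f` elements (for even `f` there is a second, twisted, group). -/
theorem result {α : Type*} [Fintype α] [DecidableEq α] {p f : ℕ} (hp : p.Prime) (hp2 : p ≠ 2) (hfo : Odd f) (hα : Fintype.card α = p ^ f + 1) (G : Subgroup (Equiv.Perm α)) (h3 : MulAction.IsMultiplyPretransitive G α 3) (hsharp : ∀ x : Fin 3 ↪ α, MulAction.stabilizer G x = ⊥) : ∃ (F : Type) (_ : Field F) (_ : Fintype F), Fintype.card F = p ^ f ∧ Nonempty (G ≃* Matrix.ProjGenLinGroup (Fin 2) F) := by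
  classical
  have S := PermGp.sharp3_of_sharp h3 hsharp
  have hf : 1 ≤ f := hfo.pos
  have hpf : 3 ≤ p ^ f := le_trans (by have := hp.two_le; omega) (Nat.le_self_pow (by omega) p)
  obtain ⟨i, -, o, -, e, -, hio, hie, hoe⟩ := Finset.two_lt_card.mp
    (show 2 < (Finset.univ : Finset α).card by rw [Finset.card_univ, hα]; omega)
  obtain ⟨T, q, j, D⟩ := S.exists_translations (by omega) i
  have hc : q ^ j = p ^ f := by have := D.card; omega
  have hqp : q = p := (Nat.prime_dvd_prime_iff_eq D.prime hp).mp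
    (D.prime.dvd_of_dvd_pow (hc ▸ dvd_pow_self q (by have := D.pos; omega)))
  subst hqp
  obtain rfl : j = f := Nat.pow_right_injective hp.two_le hc
  obtain ⟨w, hwi, hwo, hwe⟩ := S.trans i o e o i e hio hie hoe hio.symm hoe hie
  obtain ⟨hcomm, hinv⟩ := PermGp.S3Even.stab_inverted S D hp2 hfo hio hie hoe hwi hwo hwe
  obtain ⟨K, iK, iF, hK, ⟨C⟩⟩ := S.exists_coord D hio hie hoe hwi hwo hwe hcomm hinv
  exact ⟨K, iK, iF, hK, S.iso_of_coord D C hio hwi hwo⟩

end Cfsg.Agent.S0730
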