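import Cfsg.Statements.S4700
import Cfsg.Agent.Lib.Blocks.FewSylow.SelfCent
-- import your own Cfsg.Agent.* helpers here

set_option autoImplicit false
open Cfsg

namespace Cfsg.Agent.S4700

/-- Let G be a finite perfect group and p a prime such that a Sylow p-subgroup of G has order p, and write the number of Sylow p-subgroups as 1 + np. Let H = O_p'(G). Then either p > 3 and G/H is isomorphic to PSL(2, p); or p = 2^m + 1 > 3 and G/H is isomorphic to SL(2, 2^m); or n = (hup + u^2 + u + h)/(u + 1) for some positive integers h and u. -/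
theorem result {G : Type*} [Group G] [Finite G] (hperf : commutator G = ⊤) (p : ℕ) [Fact p.Prime] (P : Sylow p G) (hP : Nat.card P = p) (n : ℕ) (hn : Nat.card (Sylow p G) = 1 + n * p) : (∃ (F : Type) (_ : Field F) (_ : Fintype F), Fintype.card F = p ∧ 3 < p ∧ Nonempty (G ⧸ Cfsg.pPrimeCore p G ≃* Matrix.ProjectiveSpecialLinearGroup (Fin 2) F)) ∨ (∃ (m : ℕ) (F : Type) (_ : Field F) (_ : Fintype F), Fintype.card F = 2 ^ m ∧ p = 2 ^ m + 1 ∧ 3 < p ∧ Nonempty (G ⧸ Cfsg.pPrimeCore p G ≃* Matrix.SpecialLinearGroup (Fin 2) F)) ∨ (∃ h u : ℕ, 0 < h ∧ 0 < u ∧ n * (u + 1) = h * u * p + u ^ 2 + u + h) := by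
  classical
  letI := Fintype.ofFinite G
  have hp : p.Prime := Fact.out
  by_cases hf : ∃ h u : ℕ, 0 < h ∧ 0 < u ∧ n * (u + 1) = h * u * p + u ^ 2 + u + h
  · exact Or.inr (Or.inr hf)
  set K := Cfsg.pPrimeCore p G
  letI : Fintype (G ⧸ K) := Fintype.ofFinite _
  have hKd : ¬ p ∣ Nat.card K := Components.pPrimeCore_not_dvd
  have hQp : commutator (G ⧸ K) = ⊤ := by
    rw [commutator_def,
      ← Subgroup.map_top_of_surjective (QuotientGroup.mk' K) (QuotientGroup.mk'_surjective K),
      ← Subgroup.map_commutator, ← commutator_def, hperf]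
  have hsq : ¬ p ^ 2 ∣ Nat.card G := by
    intro h
    rw [← Subgroup.card_mul_index (P : Subgroup G), show Nat.card ↥(P : Subgroup G) = p from hP,
      pow_two] at h
    exact P.not_dvd_index (Nat.dvd_of_mul_dvd_mul_left hp.pos h)
  have hdG : p ∣ Nat.card G := by
    have h := Subgroup.card_subgroup_dvd_card (P : Subgroup G)
    rwa [show Nat.card ↥(P : Subgroup G) = p from hP] at h
  have hGQ : Nat.card G = Nat.card (G ⧸ K) * Nat.card K := K.card_eq_card_quotient_mul_card_subgroup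
  have hQd : p ∣ Nat.card (G ⧸ K) := (hp.dvd_mul.mp (hGQ ▸ hdG)).resolve_right hKd
  have hQsq : ¬ p ^ 2 ∣ Nat.card (G ⧸ K) := fun h => hsq (hGQ ▸ h.mul_right _)
  let R : Sylow p (G ⧸ K) := P.mapSurjective (QuotientGroup.mk'_surjective K)
  have hRc : Nat.card R = p := by
    rw [R.card_eq_multiplicity, show (Nat.card (G ⧸ K)).factorization p = 1 from ?_, pow_one]
    have h1 := (hp.dvd_iff_one_le_factorization Nat.card_pos.ne').mp hQd
    by_contra hne
    exact hQsq ((hp.pow_dvd_iff_le_factorization Nat.card_pos.ne').mpr (by omega))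
  have hdvd : Nat.card (Sylow p (G ⧸ K)) ∣ Nat.card (Sylow p G) := by
    rw [R.card_eq_index_normalizer, P.card_eq_index_normalizer,
      ← Subgroup.index_comap_of_surjective _ (f := QuotientGroup.mk' K) (QuotientGroup.mk'_surjective K)]
    refine Subgroup.index_dvd_of_le (Subgroup.map_le_iff_le_comap.mp ?_)
    exact Subgroup.le_normalizer_map _
  obtain ⟨n', hn'⟩ : ∃ n', Nat.card (Sylow p (G ⧸ K)) = 1 + n' * p :=
    ⟨Nat.card (Sylow p (G ⧸ K)) / p, by
      have h1 := card_sylow_modEq_one p (G ⧸ K)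
      rw [Nat.ModEq, Nat.mod_eq_of_lt hp.one_lt] at h1
      have := Nat.div_add_mod' (Nat.card (Sylow p (G ⧸ K))) p
      omega⟩
  have hn0 : 0 < n' := by
    by_contra h
    rw [show n' = 0 by omega, zero_mul, add_zero] at hn'
    haveI : Subsingleton (Sylow p (G ⧸ K)) := (Nat.card_eq_one_iff_unique.mp hn').1
    exact Blocks.FewSylow.not_normal_of_perfect hQp hQd R hRc R.normal_of_subsingleton
  obtain ⟨m, hm⟩ := hdvd
  rw [hn, hn'] at hm
  have hm1 : m % p = 1 := by
    have h1 := congrArg (· % p) hm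
    simp only [Nat.mul_mod, Nat.add_mod, Nat.mul_mod_left, Nat.mod_eq_of_lt hp.one_lt, zero_add,
      add_zero, Nat.mod_mod, one_mul, mul_one] at h1
    simpa [Nat.mod_eq_of_lt hp.one_lt] using h1.symm
  obtain ⟨k, rfl⟩ : ∃ k, m = 1 + k * p := ⟨m / p, by
    have := Nat.div_add_mod' m p
    omega⟩
  have hnk : n = n' + k + k * n' * p := by
    apply Nat.eq_of_mul_eq_mul_right hp.pos
    linear_combination hm
  have hk : k = 0 := by
    by_contra hk
    refine hf ⟨k * (n' + 1), n', Nat.mul_pos (Nat.pos_of_ne_zero hk) (Nat.succ_pos _), hn0, ?_⟩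
    rw [hnk]; ring
  obtain rfl : n = n' := by simpa [hk] using hnk
  have hcore : ∀ L : Subgroup (G ⧸ K), L.Normal → ¬ p ∣ Nat.card L → L = ⊥ := fun L hL hd =>
    le_bot_iff.mp ((Components.pPrimeCore_quotient_eq_bot (p := p) (G := G)) ▸
      Components.le_pPrimeCore hL ((hp.coprime_iff_not_dvd.mpr hd).symm))
  have S := Blocks.FewSylow.setting_of_nform R hRc hQp hcore hn'
    (fun u h hu hh he => hf ⟨h, u, hh, hu, he⟩)
  rcases S.classify with h | h
  · exact Or.inl h
  · exact Or.inr (Or.inl h)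

end Cfsg.Agent.S4700
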