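import Cfsg.Statements.S4663
import Cfsg.Agent.Lib.BrauerPairs.Inclusion
import Cfsg.Agent.Lib.Blocks.Height
-- import your own Cfsg.Agent.* helpers here

set_option autoImplicit false
open Cfsg

namespace Cfsg.Agent.S4663

/-- Fix a prime p and a maximal ideal M of the algebraic integers containing p. Brauer's Third Main Theorem in the language of Brauer pairs: for the principal p-block B₀ of the finite group G and any p-subgroup Q, a p-block e of C_G(Q) makes (Q, e) a Brauer pair of B₀ if and only if e is the principal p-block of C_G(Q). Equivalently, modulo M the truncation to C_G(Q) of the idempotent of B₀ is the idempotent of the principal block of C_G(Q). -/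
theorem result {G : Type*} [Group G] [Fintype G] (p : ℕ) [Fact p.Prime] (M : Ideal Cfsg.AlgInt) (hM : Cfsg.IsPModular p M) (Q : Subgroup G) (hQ : IsPGroup p Q) (e : Set (Cfsg.IrrCharacter (Subgroup.centralizer (Q : Set G)))) (he : Cfsg.IsPBlock M e) : Cfsg.IsBrauerPairOf p M (Cfsg.principalBlock M G) Q e ↔ e = Cfsg.principalBlock M (Subgroup.centralizer (Q : Set G)) := by
  haveI := Blocks.isPrime_of_modular hM
  classical
  obtain ⟨ξ, hξ⟩ := Blocks.block_nonempty he
  -- the value at the truncation is the induced central character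
  have hval : ∀ a : Blocks.ZG (Blocks.Res M) G,
      BPairs.val M Q ξ (a : MonoidAlgebra (Blocks.Res M) G) =
        Blocks.indBar M (Subgroup.centralizer (Q : Set G)) ξ a := by
    intro a
    rw [Blocks.indBar_apply, BPairs.val_eq_omegaBar Q ξ
      (BPairs.resH_mem_center_of_isInv (BPairs.inv2_center Q a.2).2)]
    rfl
  -- the induced block is the block containing a character with that central character
  have hdef : Cfsg.InducedBlockDefined M (Subgroup.centralizer (Q : Set G)) e := by
    haveI := Blocks.charP_res hM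
    let H := Subgroup.centralizer (Q : Set G)
    have hCN : H ≤ Subgroup.normalizer (Q : Set G) := Subgroup.centralizer_le_normalizer _
    let l : Blocks.ZG (Blocks.Res M) G →+* Blocks.Res M :=
      (Blocks.omegaBar M ξ).comp (Blocks.brH Q H hQ le_rfl hCN)
    obtain ⟨χ, hχ⟩ := Blocks.exists_eq_omegaBar hM l (fun c => by
      show Blocks.omegaBar M ξ (Blocks.brH Q H hQ le_rfl hCN (Blocks.scalarZ c)) = c
      rw [Blocks.brH_scalarZ, Blocks.omegaBar_scalarZ])
    refine ⟨_, Blocks.isInducedBlock_blockOf (χ := χ) he hξ fun a => ?_⟩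
    rw [← hχ, Blocks.indBar_apply]
    show _ = Blocks.omegaBar M ξ _
    congr 1
    refine Subtype.ext (MonoidAlgebra.ext (Finsupp.ext fun u => ?_))
    rw [Blocks.coe_resZ, Blocks.coe_brH, Blocks.coeff_resH, Blocks.coeff_resH,
      Blocks.coeff_trunc_of_mem _ u.2]
  rw [← Blocks.third_main hM hdef, BPairs.isBrauerPairOf_iff]
  have hB0 : Cfsg.IsPBlock M (Cfsg.principalBlock M G) := Blocks.isPBlock_principalBlock
  obtain ⟨B, hB⟩ := hdef
  obtain ⟨χ, hχ⟩ := Blocks.block_nonempty hB.2.1
  constructor
  · rintro ⟨-, -, -, hocc⟩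
    have h1 := hocc ξ hξ
    rw [hval, Blocks.indBar_eq_of_isInducedBlock hB hξ hχ,
      Blocks.omegaBar_bBar (Blocks.blockCoeff_mem_loc hB0)] at h1
    split_ifs at h1 with e'
    · exact Blocks.block_eq_of_mem hB.2.1 hB0 hχ e' ▸ hB
    · exact absurd h1 zero_ne_one
  · intro h
    obtain ⟨χ0, hχ0⟩ := Blocks.block_nonempty hB0
    refine ⟨hQ, he, hB0, BPairs.occ_of_mem he hξ ?_⟩
    rw [hval, Blocks.indBar_eq_of_isInducedBlock h hξ hχ0,
      Blocks.omegaBar_bBar (Blocks.blockCoeff_mem_loc hB0), if_pos hχ0]

end Cfsg.Agent.S4663
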