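import Cfsg.Statements.S1496
import Cfsg.Agent.Lib.OddChar.Powers

set_option autoImplicit false
open Cfsg

namespace Cfsg.Agent.S1496

/-- Let H be a subgroup of the finite group G and g an element normalising H whose order is coprime to the order of H. Then for every h ∈ H there are x ∈ H and c ∈ H commuting with g such that x * (h * g) * x⁻¹ = c * g. -/
theorem result {G : Type*} [Group G] [Finite G] (H : Subgroup G) (g : G) (hg : g ∈ Subgroup.normalizer (H : Set G)) (hcop : Nat.Coprime (orderOf g) (Nat.card H)) (h : G) (hh : h ∈ H) : ∃ x ∈ H, ∃ c ∈ H, c * g = g * c ∧ x * (h * g) * x⁻¹ = c * g := by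
  classical
  obtain ⟨C, hC⟩ : ∃ C : Subgroup H, C = (Subgroup.centralizer ({g} : Set G)).subgroupOf H := ⟨_, rfl⟩
  have hmem : ∀ c : H, c ∈ C ↔ (c : G) * g = g * c := by
    intro c
    rw [hC, Subgroup.mem_subgroupOf, Subgroup.mem_centralizer_singleton_iff]
  have hg' := Subgroup.mem_normalizer_iff.mp hg
  have hfun : ∀ p : (H ⧸ C) × C,
      (p.1.out : G) * ((p.2 : H) * g) * (p.1.out : G)⁻¹ * g⁻¹ ∈ H := by
    intro p
    have hr : g * (p.1.out : G)⁻¹ * g⁻¹ ∈ H := (hg' _).mp (inv_mem p.1.out.2)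
    have := mul_mem (mul_mem p.1.out.2 (p.2 : H).2) hr
    convert this using 1
    group
  let Φ : (H ⧸ C) × C → H := fun p => ⟨_, hfun p⟩
  have hinj : Function.Injective Φ := by
    rintro ⟨q, c⟩ ⟨q', c'⟩ hp
    simp only [Φ, Subtype.mk.injEq, mul_left_inj] at hp
    obtain ⟨r, hr⟩ : ∃ r : H, r = q.out := ⟨_, rfl⟩
    obtain ⟨r', hr'⟩ : ∃ r' : H, r' = q'.out := ⟨_, rfl⟩
    rw [← hr, ← hr'] at hp
    have hc : Commute g ((c : H) : G) := ((hmem c).mp c.2).symm
    have hc' : Commute g ((c' : H) : G) := ((hmem c').mp c'.2).symm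
    have hz : ((r'⁻¹ * r : H) : G) * (g * (c : H)) * ((r'⁻¹ * r : H) : G)⁻¹ = g * (c' : H) := by
      rw [hc.eq, hc'.eq]
      push_cast
      calc (r' : G)⁻¹ * r * ((c : H) * g) * ((r' : G)⁻¹ * r)⁻¹
          = (r' : G)⁻¹ * (r * ((c : H) * g) * (r : G)⁻¹) * r' := by group
        _ = (c' : H) * g := by rw [hp]; group
    have hgz := OddChar.conj_left_eq hcop hc hc' dvd_rfl dvd_rfl
      (by rw [← Nat.card_zpowers]; exact Subgroup.card_dvd_of_le (by simp))
      (by rw [← Nat.card_zpowers]; exact Subgroup.card_dvd_of_le (by simp)) hz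
    have hzC : r'⁻¹ * r ∈ C := by
      rw [hmem]
      exact mul_inv_eq_iff_eq_mul.mp hgz
    have hqq : q = q' := by
      rw [← QuotientGroup.out_eq' q, ← QuotientGroup.out_eq' q', ← hr, ← hr', eq_comm,
        QuotientGroup.eq]
      exact hzC
    subst hqq
    rw [hr, hr'] at hp
    have : ((c : H) : G) * g = (c' : H) * g := by simpa using hp
    exact Prod.ext rfl (Subtype.ext (Subtype.ext (mul_right_cancel this)))
  have hbij : Function.Bijective Φ := by
    refine (Nat.bijective_iff_injective_and_card Φ).mpr ⟨hinj, ?_⟩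
    rw [Nat.card_prod, ← Subgroup.card_eq_card_quotient_mul_card_subgroup]
  obtain ⟨⟨q, c⟩, hqc⟩ := hbij.2 ⟨h, hh⟩
  simp only [Φ, Subtype.mk.injEq] at hqc
  refine ⟨(q.out : G)⁻¹, inv_mem q.out.2, (c : H), (c : H).2, (hmem c).mp c.2, ?_⟩
  rw [← hqc]
  group

end Cfsg.Agent.S1496
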