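import Cfsg.Statements.S4782
import Cfsg.Agent.Lib.CT.Integral
import Cfsg.Agent.Lib.CT.Degree
import Cfsg.Agent.Lib.CT.Clifford

set_option autoImplicit false
set_option linter.all false
open Cfsg

namespace Cfsg.Agent.S4782

open Cfsg.Agent.CT Module
open scoped ComplexConjugate

universe u

theorem center_top_of_coprime {G : Type u} [Group G] [Fintype G] [IsSimpleGroup G] {p : ℕ}
    (hp : p.Prime) {g : G} (hg : g ≠ 1)
    (hcop : ∀ χ : IrrCharacter G, ¬ p ∣ deg (χ : G → ℂ) →
      Nat.Coprime (deg (χ : G → ℂ)) (Subgroup.centralizer ({g} : Set G)).index) :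
    Subgroup.center G = ⊤ := by
  classical
  refine ((Subgroup.center G).normal_of_characteristic.eq_bot_or_eq_top).resolve_left fun hbot => ?_
  have hcen : g ∉ Subgroup.center G := by
    rw [hbot, Subgroup.mem_bot]; exact hg
  have key : ∀ χ : IrrCharacter G, χ ≠ trivIrr G → ¬ p ∣ deg (χ : G → ℂ) → (χ : G → ℂ) g = 0 := by
    intro χ hne hdvd
    have hc := hcop χ hdvd
    obtain ⟨n, ρ, hρ, hχ⟩ := χ.2
    rw [← hχ] at hc ⊢
    rw [deg_eq_finrank] at hc
    rcases zero_or_norm_of_coprime ρ g hc with h | h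
    · exact h
    exfalso
    have hs := scalar_of_norm_eq ρ h
    let f := ρ.asGroupHom
    rcases f.normal_ker.eq_bot_or_eq_top with hk | hk
    · apply hcen
      rw [Subgroup.mem_center_iff]
      intro x
      have hinj : Function.Injective f := f.ker_eq_bot_iff.mp hk
      apply hinj
      apply Units.ext
      simp only [map_mul, Units.val_mul, f, Representation.asGroupHom_apply]
      rw [hs]
      ext v
      simp
    · have hid : ∀ x, ρ x = 1 := fun x => by
        have : f x = 1 := MonoidHom.mem_ker.mp (hk ▸ Subgroup.mem_top x)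
        exact congrArg Units.val this
      have hV := (isIrreducible_iff ρ).mp hρ
      have h1 : finrank ℂ (Fin n → ℂ) = 1 := by
        obtain ⟨v, hv⟩ := @exists_ne _ hV.1 (0 : Fin n → ℂ)
        rcases hV.2 (Submodule.span ℂ {v}) (fun x w hw => by simpa [hid x] using hw) with e | e
        · simp [hv] at e
        · rw [← finrank_top ℂ, ← e, finrank_span_singleton hv]
      refine hne (Subtype.ext ?_)
      rw [← hχ]
      funext x
      simp only [Representation.character, hid x, LinearMap.trace_one, trivIrr_apply]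
      exact_mod_cast h1
  have horth := column_orthogonality g (1 : G)
  rw [if_neg (fun c => hg (isConj_one_left.mp c))] at horth
  rw [← Finset.add_sum_erase _ _ (Finset.mem_univ (trivIrr G))] at horth
  simp only [trivIrr_apply, map_one, mul_one] at horth
  have hint : IsIntegral ℤ ((1 : ℕ) / (p : ℂ)) := by
    have e : ((1 : ℕ) : ℂ) / (p : ℂ) = -∑ χ ∈ Finset.univ.erase (trivIrr G),
        (χ : G → ℂ) g * conj ((χ : G → ℂ) 1) / (p : ℂ) := by
      rw [← Finset.sum_div, ← neg_div, Nat.cast_one, eq_neg_of_add_eq_zero_left horth]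
    rw [e]
    refine IsIntegral.neg (IsIntegral.sum _ fun χ hχ => ?_)
    by_cases hd : p ∣ deg (χ : G → ℂ)
    · obtain ⟨r, hr⟩ := hd
      rw [deg_eq (isCharacter_of_isIrr χ.2), hr, map_natCast, Nat.cast_mul]
      have : (χ : G → ℂ) g * ((p : ℂ) * (r : ℂ)) / (p : ℂ) = (χ : G → ℂ) g * r := by
        have hp0 : (p : ℂ) ≠ 0 := Nat.cast_ne_zero.mpr hp.ne_zero
        field_simp
      rw [this]
      exact (isIntegral_isCharacter (isCharacter_of_isIrr χ.2) g).mul (CT.isIntegral_natCast r)
    · rw [key χ (Finset.mem_erase.mp hχ).1 hd, zero_mul, zero_div]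
      exact isIntegral_zero
  exact hp.one_lt.ne' (Nat.dvd_one.mp (dvd_of_isIntegral_div hp.ne_zero hint))

theorem solvable_of_degreePrimes {p q : ℕ} (hp : p.Prime) (hq : q.Prime) (N : ℕ) :
    ∀ (G : Type u) [Group G] [Finite G], Nat.card G = N →
      Cfsg.degreePrimes G ⊆ {p, q} → Group.IsSolvable G := by
  induction N using Nat.strong_induction_on with
  | _ N ih =>
    intro G _ _ hN hdeg
    classical
    haveI := Fintype.ofFinite G
    rcases subsingleton_or_nontrivial G with hG | hG
    · infer_instance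
    by_cases hsimp : IsSimpleGroup G
    · suffices Subgroup.center G = ⊤ from
        Group.isSolvable_of_comm fun a b => Subgroup.mem_center_iff.mp (this ▸ Subgroup.mem_top b) a
      haveI := Fact.mk hq
      obtain ⟨g, hg, hgq⟩ : ∃ g : G, g ≠ 1 ∧
          ¬ q ∣ (Subgroup.centralizer ({g} : Set G)).index := by
        by_cases hqG : q ∣ Nat.card G
        · obtain ⟨P⟩ : Nonempty (Sylow q G) := inferInstance
          haveI : Nontrivial (P : Subgroup G) := by
            rw [Subgroup.nontrivial_iff_ne_bot]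
            exact Sylow.ne_bot_of_dvd_card P hqG
          haveI := P.2.center_nontrivial
          obtain ⟨z, hz⟩ := exists_ne (1 : Subgroup.center (P : Subgroup G))
          refine ⟨((z : (P : Subgroup G)) : G), fun e => hz (Subtype.ext (Subtype.ext e)),
            fun h => P.not_dvd_index (h.trans (Subgroup.index_dvd_of_le ?_))⟩
          intro x hx
          rw [Subgroup.mem_centralizer_singleton_iff]
          exact congrArg Subtype.val (Subgroup.mem_center_iff.mp z.2 ⟨x, hx⟩)
        · obtain ⟨g, hg⟩ := exists_ne (1 : G)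
          exact ⟨g, hg, fun h => hqG (h.trans (Subgroup.index_dvd_card _))⟩
      refine center_top_of_coprime hp hg fun χ hχ => Nat.coprime_of_dvd fun r hr hrd hri => ?_
      rcases hdeg ⟨hr, _, ⟨χ, rfl⟩, hrd⟩ with rfl | rfl
      · exact hχ hrd
      · exact hgq hri
    · obtain ⟨H, hH, hH1, hH2⟩ : ∃ H : Subgroup G, H.Normal ∧ H ≠ ⊥ ∧ H ≠ ⊤ := by
        by_contra hh
        refine hsimp (@IsSimpleGroup.mk G _ hG fun H hH => ?_)
        by_contra h'
        push Not at h'
        exact hh ⟨H, hH, h'.1, h'.2⟩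
      haveI := hH
      haveI := Fintype.ofFinite H
      haveI : Nontrivial H := by rwa [Subgroup.nontrivial_iff_ne_bot]
      have h1 : Nat.card H < N := by
        rw [← hN]
        exact lt_of_le_of_ne (Subgroup.card_le_card_group H)
          fun e => hH2 (Subgroup.eq_top_of_card_eq H e)
      have h2 : Nat.card (G ⧸ H) < N := by
        rw [← hN, H.card_eq_card_quotient_mul_card_subgroup]
        exact lt_mul_of_one_lt_right Nat.card_pos Finite.one_lt_card
      haveI : Group.IsSolvable H := by
        refine ih _ h1 H rfl ?_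
        rintro r ⟨hr, d, ⟨θ, rfl⟩, hd⟩
        obtain ⟨χ, hχ⟩ := exists_irr_over H θ.2
        obtain ⟨k, hk, -⟩ := deg_ratio_dvd_index H χ.2 θ.2 hχ
        exact hdeg ⟨hr, _, ⟨χ, rfl⟩, hd.trans (Dvd.intro_left k hk.symm)⟩
      haveI : Group.IsSolvable (G ⧸ H) := by
        refine ih _ h2 (G ⧸ H) rfl ?_
        rintro r ⟨hr, d, ⟨ψ, rfl⟩, hd⟩
        exact hdeg ⟨hr, _, ⟨⟨_, isIrr_inflate H ψ.2 (fun g => rfl)⟩, rfl⟩, hd⟩
      exact Group.isSolvable_of_ker_le_range H.subtype (QuotientGroup.mk' H) (by simp)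

/-- If the finite group G is not solvable, then at least three distinct primes each divide some irreducible complex character degree of G. -/
theorem result {G : Type*} [Group G] [Finite G] (hG : ¬ Group.IsSolvable G) : ∃ p q r : ℕ, p ≠ q ∧ q ≠ r ∧ p ≠ r ∧ p ∈ Cfsg.degreePrimes G ∧ q ∈ Cfsg.degreePrimes G ∧ r ∈ Cfsg.degreePrimes G := by
  by_contra hc
  push Not at hc
  obtain ⟨p, hp, q, hq, hpq⟩ : ∃ p, p.Prime ∧ ∃ q, q.Prime ∧ Cfsg.degreePrimes G ⊆ {p, q} := by
    by_cases h1 : ∃ p, p ∈ Cfsg.degreePrimes G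
    · obtain ⟨p, hp⟩ := h1
      by_cases h2 : ∃ q, q ∈ Cfsg.degreePrimes G ∧ q ≠ p
      · obtain ⟨q, hq, hne⟩ := h2
        refine ⟨p, hp.1, q, hq.1, fun r hr => ?_⟩
        by_contra hr'
        simp only [Set.mem_insert_iff, Set.mem_singleton_iff, not_or] at hr'
        exact hc p q r (Ne.symm hne) (Ne.symm hr'.2) (Ne.symm hr'.1) hp hq hr
      · push Not at h2
        exact ⟨p, hp.1, p, hp.1, fun r hr => by simp [h2 r hr]⟩
    · push Not at h1
      exact ⟨2, Nat.prime_two, 2, Nat.prime_two, fun r hr => absurd hr (h1 r)⟩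
  exact hG (solvable_of_degreePrimes hp hq _ G rfl hpq)

end Cfsg.Agent.S4782
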