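import Cfsg.Statements.S4866
import Cfsg.Agent.Lib.CT.Tables
import Cfsg.Agent.Lib.Blocks.Covering

set_option autoImplicit false
set_option linter.all false
open Cfsg

namespace Cfsg.Agent.S4866

open Cfsg.Agent Cfsg.Agent.Blocks
open scoped ComplexConjugate

theorem fix_split {α : Type*} {a b : Equiv.Perm α} {m : ℕ} (hc : Commute a b) (hb : b * b = 1)
    (ha : a ^ m = 1) (hm : Odd m) {x : α} : (b * a) x = x ↔ a x = x ∧ b x = x := by
  refine ⟨fun h => ?_, fun h => by rw [Equiv.Perm.mul_apply, h.1, h.2]⟩
  have hbm : (b * a) ^ m = b := by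
    obtain ⟨k, rfl⟩ := hm
    rw [hc.symm.mul_pow, ha, mul_one, pow_succ, pow_mul, pow_two, hb, one_pow, one_mul]
  have hp : ∀ j : ℕ, ((b * a) ^ j) x = x := by
    intro j
    induction j with
    | zero => rfl
    | succ j ih => rw [pow_succ, Equiv.Perm.mul_apply, h, ih]
  have hbx : b x = x := by
    have := hp m
    rwa [hbm] at this
  refine ⟨?_, hbx⟩
  rw [Equiv.Perm.mul_apply] at h
  exact b.injective (h.trans hbx.symm)

theorem burnside {G X : Type*} [Group G] [Finite G] [Finite X] (ρ : G →* Equiv.Perm X)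
    (r : X → X → Prop) (hr : ∀ x y, r x y ↔ ∃ g, ρ g x = y) :
    ∑ᶠ g : G, Nat.card {x : X // ρ g x = x} = Nat.card (Quot r) * Nat.card G := by
  classical
  letI : MulAction G X := MulAction.compHom X ρ
  haveI := Fintype.ofFinite G
  haveI := Fintype.ofFinite X
  haveI : Fintype (Quotient (MulAction.orbitRel G X)) := Fintype.ofFinite _
  have h := MulAction.sum_card_fixedBy_eq_card_orbits_mul_card_group G X
  have e : Nat.card (Quot r) = Fintype.card (Quotient (MulAction.orbitRel G X)) := by
    rw [← Nat.card_eq_fintype_card]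
    refine Nat.card_congr (Quot.congrRight fun x y => ?_)
    rw [hr]
    constructor
    · rintro ⟨g, rfl⟩
      exact MulAction.orbitRel_apply.mpr ⟨g⁻¹, by
        show ρ g⁻¹ (ρ g x) = x
        rw [← Equiv.Perm.mul_apply, ← map_mul, inv_mul_cancel, map_one]; rfl⟩
    · intro hxy
      obtain ⟨g, hg⟩ := MulAction.orbitRel_apply.mp hxy
      refine ⟨g⁻¹, ?_⟩
      rw [← hg]
      show ρ g⁻¹ (ρ g y) = y
      rw [← Equiv.Perm.mul_apply, ← map_mul, inv_mul_cancel, map_one]; rfl
  rw [finsum_eq_sum_of_fintype, e, Nat.card_eq_fintype_card (α := G), ← h]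
  refine Finset.sum_congr rfl fun g _ => ?_
  rw [← Nat.card_eq_fintype_card]
  rfl

/-- The class of inverses. -/
def invCls {K : Type*} [Group K] : ConjClasses K → ConjClasses K :=
  Quotient.map (fun x => x⁻¹) fun a b h => by
    obtain ⟨c, rfl⟩ := isConj_iff.mp h
    exact isConj_iff.mpr ⟨c, by group⟩

theorem invCls_mk {K : Type*} [Group K] (x : K) :
    invCls (ConjClasses.mk x) = ConjClasses.mk x⁻¹ := rfl

/-- Let K be a normal subgroup of odd index in the finite group G. Then G has as many orbits on the real-valued irreducible complex characters of K (acting by conjugation) as it has orbits on the conjugacy classes of K that are real in K; equivalently, the number of G-orbits of real-valued irreducible characters of K equals the number of G-conjugacy classes of elements of K that are conjugate in K to their inverses. -/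
theorem result {G : Type*} [Group G] [Finite G] (K : Subgroup G) [K.Normal] (hodd : Odd K.index) : Nat.card (Quot (fun θ η : {θ : Cfsg.IrrCharacter ↥K // (∀ k : ↥K, ((θ : ↥K → ℂ) k).im = 0)} => ∃ g : G, ∀ k k' : ↥K, (k' : G) = g * (k : G) * g⁻¹ → (η.1 : ↥K → ℂ) k' = (θ.1 : ↥K → ℂ) k)) = Nat.card (Quot (fun x y : {x : ↥K // IsConj x x⁻¹} => ∃ g : G, (y.1 : G) = g * x.1 * g⁻¹)) := by
  classical
  haveI := Fintype.ofFinite G
  haveI := Fintype.ofFinite K
  have hodd' := hodd
  let cj : Equiv.Perm (IrrCharacter K) :=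
    Function.Involutive.toPerm (fun χ => ⟨fun k => conj ((χ : K → ℂ) k), CT.conj_irr χ.2⟩)
      (fun χ => Subtype.ext (funext fun k => Complex.conj_conj _))
  have hcj : ∀ χ : IrrCharacter K, cj χ = χ ↔ ∀ k, ((χ : K → ℂ) k).im = 0 := by
    intro χ
    constructor
    · intro h k
      exact Complex.conj_eq_iff_im.mp (congrFun (congrArg Subtype.val h) k)
    · intro h
      exact Subtype.ext (funext fun k => Complex.conj_eq_iff_im.mpr (h k))
  let ac : G →* Equiv.Perm (IrrCharacter K) :=
    { toFun := fun g =>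
        { toFun := conjIrr g⁻¹
          invFun := conjIrr g
          left_inv := fun θ => by rw [← conjIrr_mul, inv_mul_cancel, conjIrr_one]
          right_inv := fun θ => by rw [← conjIrr_mul, mul_inv_cancel, conjIrr_one] }
      map_one' := Equiv.ext fun θ => by simp [conjIrr_one]
      map_mul' := fun a c => Equiv.ext fun θ => by simp [conjIrr_mul] }
  let invP : Equiv.Perm (ConjClasses K) :=
    Function.Involutive.toPerm invCls (fun C => by
      obtain ⟨x, rfl⟩ := ConjClasses.mk_surjective C
      rw [invCls_mk, invCls_mk, inv_inv])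
  let cc : G →* Equiv.Perm (ConjClasses K) :=
    { toFun := fun g =>
        { toFun := ConjClasses.map (MulAut.conjNormal g).toMonoidHom
          invFun := ConjClasses.map (MulAut.conjNormal g⁻¹).toMonoidHom
          left_inv := fun C => by
            obtain ⟨x, rfl⟩ := ConjClasses.mk_surjective C
            exact congrArg ConjClasses.mk (Subtype.ext (by simp [mul_assoc]))
          right_inv := fun C => by
            obtain ⟨x, rfl⟩ := ConjClasses.mk_surjective C
            exact congrArg ConjClasses.mk (Subtype.ext (by simp [mul_assoc])) }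
      map_one' := Equiv.ext fun C => by
        obtain ⟨x, rfl⟩ := ConjClasses.mk_surjective C
        exact congrArg ConjClasses.mk (Subtype.ext (by simp))
      map_mul' := fun a c => Equiv.ext fun C => by
        obtain ⟨x, rfl⟩ := ConjClasses.mk_surjective C
        exact congrArg ConjClasses.mk (Subtype.ext (by simp [mul_assoc])) }
  have hcomc : ∀ g θ, ac g (cj θ) = cj (ac g θ) := fun g θ => rfl
  have hcomk : ∀ g C, cc g (invP C) = invP (cc g C) := fun g C => by
    obtain ⟨x, rfl⟩ := ConjClasses.mk_surjective C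
    exact congrArg ConjClasses.mk (map_inv (MulAut.conjNormal g) x)
  have hpowc : ∀ g, ac g ^ K.index = 1 := by
    intro g
    rw [← map_pow]
    refine Equiv.ext fun θ => Subtype.ext (funext fun n => ?_)
    show CT.conjFun K (g ^ K.index)⁻¹ (θ : K → ℂ) n = (θ : K → ℂ) n
    exact (CT.isClassFunction_of_isIrr θ.2 n
      ⟨(g ^ K.index)⁻¹, K.inv_mem (K.pow_index_mem g)⟩).symm.trans rfl |>.symm
  have hpowk : ∀ g, cc g ^ K.index = 1 := by
    intro g
    rw [← map_pow]
    refine Equiv.ext fun C => ?_
    obtain ⟨x, rfl⟩ := ConjClasses.mk_surjective C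
    exact ConjClasses.mk_eq_mk_iff_isConj.mpr (IsConj.symm (isConj_iff.mpr
      ⟨⟨g ^ K.index, K.pow_index_mem g⟩, Subtype.ext (by simp [← map_pow])⟩))
  let X := {θ : IrrCharacter K // ∀ k : K, ((θ : K → ℂ) k).im = 0}
  let Y := {C : ConjClasses K // invP C = C}
  let ρX : G →* Equiv.Perm X :=
    { toFun := fun g => (ac g).subtypePerm fun θ => by
        rw [← hcj, ← hcj, ← hcomc, Equiv.apply_eq_iff_eq]
      map_one' := Equiv.ext fun θ => Subtype.ext (by simp)
      map_mul' := fun a c => Equiv.ext fun θ => Subtype.ext (by simp) }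
  let ρY : G →* Equiv.Perm Y :=
    { toFun := fun g => (cc g).subtypePerm fun C => by
        rw [← hcomk, Equiv.apply_eq_iff_eq]
      map_one' := Equiv.ext fun θ => Subtype.ext (by simp)
      map_mul' := fun a c => Equiv.ext fun θ => Subtype.ext (by simp) }
  have hX := burnside ρX (fun θ η : X => ∃ g : G, ∀ k k' : K, (k' : G) = g * (k : G) * g⁻¹ →
      (η.1 : K → ℂ) k' = (θ.1 : K → ℂ) k) (by
    intro θ η
    refine exists_congr fun g => ⟨fun h => ?_, fun h k k' hk => ?_⟩
    · refine Subtype.ext (Subtype.ext (funext fun n => ?_))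
      show CT.conjFun K g⁻¹ (θ.1 : K → ℂ) n = _
      rw [CT.conjFun]
      exact (h _ n (by simp [mul_assoc])).symm
    · rw [← h]
      show CT.conjFun K g⁻¹ (θ.1 : K → ℂ) k' = _
      rw [CT.conjFun]
      refine congrArg _ (Subtype.ext ?_)
      show g⁻¹ * (k' : G) * g⁻¹⁻¹ = k
      rw [hk]; group)
  have hY := burnside ρY (fun C D : Y => ∃ g, ρY g C = D) (fun _ _ => Iff.rfl)
  have hfix : ∀ g, Nat.card {x : X // ρX g x = x} = Nat.card {x : Y // ρY g x = x} := by
    intro g
    let σ : Equiv.Perm (IrrCharacter K) := cj * ac g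
    let τ : Equiv.Perm (ConjClasses K) := invP * cc g
    have e1 : Nat.card {x : X // ρX g x = x} = Nat.card {θ : IrrCharacter K // σ θ = θ} := by
      refine Nat.card_congr ⟨fun x => ⟨x.1.1, ?_⟩, fun θ => ⟨⟨θ.1, ?_⟩, ?_⟩, fun x => rfl, fun θ => rfl⟩
      · refine (fix_split (Equiv.ext fun t => hcomc g t) ?_ (hpowc g) hodd).mpr ⟨?_, (hcj _).mpr x.1.2⟩
        · exact Equiv.ext fun t => cj.symm_apply_apply t
        · exact congrArg Subtype.val x.2
      · exact (hcj _).mp ((fix_split (Equiv.ext fun t => hcomc g t)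
          (Equiv.ext fun t => cj.symm_apply_apply t) (hpowc g) hodd).mp θ.2).2
      · exact Subtype.ext ((fix_split (Equiv.ext fun t => hcomc g t)
          (Equiv.ext fun t => cj.symm_apply_apply t) (hpowc g) hodd).mp θ.2).1
    have e2 : Nat.card {x : Y // ρY g x = x} = Nat.card {C : ConjClasses K // τ C = C} := by
      refine Nat.card_congr ⟨fun x => ⟨x.1.1, ?_⟩, fun θ => ⟨⟨θ.1, ?_⟩, ?_⟩, fun x => rfl, fun θ => rfl⟩
      · exact (fix_split (Equiv.ext fun t => hcomk g t) (Equiv.ext fun t => invP.symm_apply_apply t)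
          (hpowk g) hodd).mpr ⟨congrArg Subtype.val x.2, x.1.2⟩
      · exact ((fix_split (Equiv.ext fun t => hcomk g t)
          (Equiv.ext fun t => invP.symm_apply_apply t) (hpowk g) hodd).mp θ.2).2
      · exact Subtype.ext ((fix_split (Equiv.ext fun t => hcomk g t)
          (Equiv.ext fun t => invP.symm_apply_apply t) (hpowk g) hodd).mp θ.2).1
    rw [e1, e2]
    refine CT.brauer_permutation σ τ fun χ k k' hk => ?_
    have hσ := CT.isClassFunction_isConj (CT.isClassFunction_of_isIrr (σ χ).2)
      (ConjClasses.mk_eq_mk_iff_isConj.mp hk)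
    rw [hσ]
    show conj ((conjIrr g⁻¹ χ : K → ℂ) (MulAut.conjNormal g k)⁻¹) = (χ : K → ℂ) k
    rw [← CT.char_inv_eq_conj (CT.isCharacter_of_isIrr (conjIrr g⁻¹ χ).2), inv_inv, coe_conjIrr, CT.conjFun]
    exact congrArg _ (Subtype.ext (by simp [mul_assoc]))
  rw [finsum_congr hfix, hY] at hX
  refine (mul_right_cancel₀ Nat.card_pos.ne' hX).symm.trans ?_
  symm
  let F : {x : K // IsConj x x⁻¹} → Y := fun x =>
    ⟨ConjClasses.mk x.1, (ConjClasses.mk_eq_mk_iff_isConj.mpr x.2.symm : _)⟩
  refine Nat.card_eq_of_bijective (Quot.map F fun x y ⟨g, hg⟩ => ⟨g, ?_⟩) ⟨?_, ?_⟩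
  · exact Subtype.ext (congrArg ConjClasses.mk (Subtype.ext (by simp [hg])))
  · intro a c
    induction a using Quot.ind with
    | mk x =>
      induction c using Quot.ind with
      | mk y =>
        intro h
        have hrel : ∃ g, ρY g (F x) = F y := by
          have hequiv : Equivalence (fun C D : Y => ∃ g, ρY g C = D) :=
            { refl := fun C => ⟨1, by simp⟩
              symm := fun {C D} ⟨u, hu⟩ => ⟨u⁻¹, by
                rw [← hu, ← Equiv.Perm.mul_apply, ← map_mul, inv_mul_cancel, map_one]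
                rfl⟩
              trans := fun {C D E} ⟨u, hu⟩ ⟨v, hv⟩ => ⟨v * u, by
                rw [map_mul, Equiv.Perm.mul_apply, hu, hv]⟩ }
          exact hequiv.eqvGen_iff.mp (Quot.eqvGen_exact h)
        obtain ⟨g, hg⟩ := hrel
        obtain ⟨c, hc⟩ := isConj_iff.mp (ConjClasses.mk_eq_mk_iff_isConj.mp
          (congrArg Subtype.val hg))
        refine Quot.sound ⟨(c : G) * g, ?_⟩
        rw [← hc]
        simp [mul_assoc]
  · intro C
    induction C using Quot.ind with
    | mk C =>
      obtain ⟨x, hx⟩ := ConjClasses.mk_surjective C.1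
      have hreal : IsConj x x⁻¹ := by
        have h := C.2
        rw [← hx] at h
        exact (ConjClasses.mk_eq_mk_iff_isConj.mp h).symm
      exact ⟨Quot.mk _ ⟨x, hreal⟩, congrArg (Quot.mk _) (Subtype.ext hx)⟩

end Cfsg.Agent.S4866
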