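import Cfsg.Statements.S0953
import Cfsg.Agent.Lib.Blocks.FullDefect
-- import your own Cfsg.Agent.* helpers here

set_option autoImplicit false
open Cfsg

namespace Cfsg.Agent.S0953

/-- Let P be a Sylow p-subgroup of the finite group G with normalizer N, and fix a maximal ideal M of the algebraic integers containing p. The number of blocks of G having P as a defect group equals the number of conjugacy classes of N consisting of elements of order prime to p that centralize P. -/
theorem result {G : Type*} [Group G] [Finite G] (p : ℕ) [Fact p.Prime] (M : Ideal Cfsg.AlgInt) (hM : Cfsg.IsPModular p M) (P : Sylow p G) : Nat.card {B : Set (Cfsg.IrrCharacter G) // Cfsg.IsPBlock M B ∧ Cfsg.IsDefectGroup p M B (P : Subgroup G)} = Nat.card {C : ConjClasses (Subgroup.normalizer ((P : Subgroup G) : Set G)) // ∀ n : Subgroup.normalizer ((P : Subgroup G) : Set G), ConjClasses.mk n = C → ¬ p ∣ orderOf n ∧ (n : G) ∈ Subgroup.centralizer ((P : Subgroup G) : Set G)} := by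
  classical
  haveI := hM.2.1.isPrime
  haveI := Cfsg.Agent.Blocks.charP_res hM
  set N := Subgroup.normalizer ((P : Subgroup G) : Set G)
  have hPN : (P : Subgroup G) ≤ N := Subgroup.le_normalizer
  haveI : ((P : Subgroup G).subgroupOf N).Normal :=
    (Subgroup.normal_subgroupOf_iff_le_normalizer hPN).mpr le_rfl
  have hP' : IsPGroup p ((P : Subgroup G).subgroupOf N) :=
    P.isPGroup'.of_equiv (Subgroup.subgroupOfEquivOfLe hPN).symm
  have hidx : ¬ p ∣ ((P : Subgroup G).subgroupOf N).index := fun h =>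
    P.not_dvd_index (h.trans (Subgroup.relIndex_dvd_index_of_le hPN))
  have hdef : ∀ b : Set (Cfsg.IrrCharacter N), Cfsg.IsPBlock M b →
      Cfsg.IsDefectGroup p M b ((P : Subgroup G).subgroupOf N) := by
    intro b hb
    obtain ⟨D, hD⟩ := Cfsg.Agent.Blocks.exists_defectGroup (p := p) hb
    have hle := Cfsg.Agent.Blocks.normal_le_defect hM hb hP' hD
    obtain ⟨g, -, hDg, hDp, -⟩ := Cfsg.Agent.Blocks.defectGroup_spec hD
    have hge : D ≤ (P : Subgroup G).subgroupOf N := fun x hx => by
      obtain ⟨k, hk⟩ := IsPGroup.iff_orderOf.mp hDp ⟨x, hx⟩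
      exact Cfsg.Agent.Blocks.mem_of_pElement hidx ⟨k, by rwa [Subgroup.orderOf_mk] at hk⟩
    exact le_antisymm hge hle ▸ hD
  have hex := fun b : {b : Set (Cfsg.IrrCharacter N) // Cfsg.IsPBlock M b} =>
    Cfsg.Agent.Blocks.exists_inducedBlock hM P.isPGroup' hPN (Subgroup.centralizer_le_normalizer _) le_rfl b.2
  choose B hB using hex
  let F : {b : Set (Cfsg.IrrCharacter N) // Cfsg.IsPBlock M b} →
      {B : Set (Cfsg.IrrCharacter G) // Cfsg.IsPBlock M B ∧ Cfsg.IsDefectGroup p M B (P : Subgroup G)} :=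
    fun b => ⟨B b, (hB b).2.1,
      Cfsg.Agent.Blocks.defect_of_induced_from_normalizer hM P.isPGroup' (hdef b.1 b.2) (hB b)⟩
  have hF : Function.Bijective F := by
    constructor
    · intro b b' e
      have e' : B b = B b' := congrArg Subtype.val e
      exact Subtype.ext (Cfsg.Agent.Blocks.induced_normalizer_unique hM P.isPGroup' (hdef b.1 b.2)
        (hB b) (e'.symm ▸ hB b'))
    · rintro ⟨B', hB', hD'⟩
      obtain ⟨b, hb, -, hind⟩ := Cfsg.Agent.Blocks.exists_normalizer_block hM hB' hD'
      exact ⟨⟨b, hb⟩, Subtype.ext (Cfsg.Agent.Blocks.inducedBlock_unique (hB ⟨b, hb⟩) hind)⟩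
  rw [← Nat.card_congr (Equiv.ofBijective F hF),
    Cfsg.Agent.Blocks.card_blocks_of_normal_sylow hM hP' hidx]
  refine Nat.card_congr (Equiv.subtypeEquivRight fun C => forall_congr' fun n => imp_congr_right fun _ =>
    and_congr_right fun _ => Cfsg.Agent.Blocks.mem_centralizer_subgroupOf hPN)

end Cfsg.Agent.S0953
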