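import Cfsg.Statements.S1078
import Cfsg.Agent.Lib.CurtisTits.Present
-- import your own Cfsg.Agent.* helpers here

set_option autoImplicit false
open Cfsg

namespace Cfsg.Agent.S1078

open Cfsg.Agent.Chev

theorem g2_d : Chev.G2.cdet * Chev.G2.cdet = 1 := by decide +kernel

theorem g2_inv : ∀ i < Chev.G2.pk.rank, ∀ j < Chev.G2.pk.rank,
    ((List.range Chev.G2.pk.rank).map fun k =>
      Chev.G2.pk.A j (Chev.G2.pk.sim k) * (Chev.G2.cinv.getD k []).getD i 0).sum =
        if j = i then Chev.G2.cdet else 0 := by decide +kernel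

theorem f4_d : Chev.F4.cdet * Chev.F4.cdet = 1 := by decide +kernel

theorem f4_inv : ∀ i < Chev.F4.pk.rank, ∀ j < Chev.F4.pk.rank,
    ((List.range Chev.F4.pk.rank).map fun k =>
      Chev.F4.pk.A j (Chev.F4.pk.sim k) * (Chev.F4.cinv.getD k []).getD i 0).sum =
        if j = i then Chev.F4.cdet else 0 := by decide +kernel

theorem e8_d : Chev.E8.cdet * Chev.E8.cdet = 1 := by decide +kernel

theorem e8_inv : ∀ i < Chev.E8.pk.rank, ∀ j < Chev.E8.pk.rank,
    ((List.range Chev.E8.pk.rank).map fun k =>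
      Chev.E8.pk.A j (Chev.E8.pk.sim k) * (Chev.E8.cinv.getD k []).getD i 0).sum =
        if j = i then Chev.E8.cdet else 0 := by decide +kernel



/-- For G₂, F₄, E₈ the presented group has trivial centre (the universal and adjoint groups coincide). -/
theorem result {K : Type*} [Field K] (D : Cfsg.Lie.ChevalleyDatum) (hD : D ∈ [Cfsg.Lie.chevG2, Cfsg.Lie.chevF4, Cfsg.Lie.chevE8]) :
    Subgroup.center (D.SteinbergGroup K) = ⊥ := by
  simp only [List.mem_cons, List.not_mem_nil, or_false] at hD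
  rcases hD with rfl | rfl | rfl
  · exact CT.center_eq_bot ⟨Chev.G2.ok, ckComm_G2, CT.UpG2.up_ok, CT.UpG2.eta_sim⟩ g2_d Chev.G2.cinv g2_inv
  · exact CT.center_eq_bot ⟨Chev.F4.ok, ckComm_F4, CT.UpF4.up_ok, CT.UpF4.eta_sim⟩ f4_d Chev.F4.cinv f4_inv
  · exact CT.center_eq_bot ⟨Chev.E8.ok, ckComm_E8, CT.UpE8.up_ok, CT.UpE8.eta_sim⟩ e8_d Chev.E8.cinv e8_inv

end Cfsg.Agent.S1078
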