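import Cfsg.Statements.S1618
import Cfsg.Agent.S5560
import Cfsg.Agent.Lib.Basics.Cores

set_option autoImplicit false
open Cfsg

namespace Cfsg.Agent.S1618

/-- A group generated by a class of involutions whose pairwise products (of distinct members) have p-power order for a fixed odd prime p has nilpotent derived subgroup. -/
theorem result {G : Type*} [Group G] [Finite G] (p : ℕ) (hp : p.Prime) (hodd : p ≠ 2) {D : Set G} (hinv : ∀ d ∈ D, orderOf d = 2) (hconj : ∃ d ∈ D, D = conjugatesOf d) (hgen : Subgroup.closure D = ⊤) (hprod : ∀ x ∈ D, ∀ y ∈ D, x ≠ y → ∃ k : ℕ, orderOf (x * y) = p ^ k) : Group.IsNilpotent ↥(commutator G) := by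
  haveI := Fact.mk hp
  obtain ⟨d, hd, rfl⟩ := hconj
  have hall := S5560.result hp hodd d (hinv d hd) (fun a ha b hb => by
    by_cases hab : a = b
    · refine ⟨0, ?_⟩
      have h2 : b * b = 1 := by rw [← pow_two, ← hinv b hb, pow_orderOf_eq_one]
      rw [hab, h2, orderOf_one, pow_zero]
    · exact hprod a ha b hb hab)
  have hle : commutator G ≤ pCore p G := by
    rw [commutator_def, ← hgen, Subgroup.commutator_le]
    intro g hg h hh
    -- modulo the core every generator is the image of d, so everything commutes
    have key : ∀ u ∈ Subgroup.closure (conjugatesOf d),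
        QuotientGroup.mk' (pCore p G) u ∈ Subgroup.zpowers (QuotientGroup.mk' (pCore p G) d) := by
      intro u hu
      have : Subgroup.closure (conjugatesOf d) ≤
          (Subgroup.zpowers (QuotientGroup.mk' (pCore p G) d)).comap (QuotientGroup.mk' (pCore p G)) := by
        rw [Subgroup.closure_le]
        intro a ha
        have hm : a * d ∈ pCore p G := hall a ha d hd
        have h1 : QuotientGroup.mk' (pCore p G) a * QuotientGroup.mk' (pCore p G) d = 1 := by
          rw [← map_mul, ← MonoidHom.mem_ker, QuotientGroup.ker_mk']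
          exact hm
        rw [SetLike.mem_coe, Subgroup.mem_comap, mul_eq_one_iff_eq_inv.1 h1]
        exact Subgroup.inv_mem _ (Subgroup.mem_zpowers _)
      exact this hu
    rw [← QuotientGroup.ker_mk' (pCore p G), MonoidHom.mem_ker, map_commutatorElement,
      commutatorElement_eq_one_iff_commute]
    obtain ⟨m, hm⟩ := Subgroup.mem_zpowers_iff.1 (key g hg)
    obtain ⟨n, hn⟩ := Subgroup.mem_zpowers_iff.1 (key h hh)
    rw [← hm, ← hn]
    exact (Commute.refl _).zpow_zpow m n
  exact ((Cfsg.Agent.Basics.pCore_isPGroup p).to_le hle).isNilpotent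

end Cfsg.Agent.S1618
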