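import Cfsg.Statements.S2387
import Mathlib
import Cfsg.Agent.Lib.FormCentral.CharpolyConj

set_option autoImplicit false
open scoped MatrixGroups
open Cfsg

namespace Cfsg.Agent.S2387

open Polynomial

variable {F : Type*} [Field F] [Fintype F]

theorem pPrime_isSemisimple {p : ℕ} [Fact p.Prime] [CharP F p] {n : ℕ} (g : GL (Fin n) F)
    (hg : (orderOf g).Coprime p) : Module.End.IsSemisimple (Matrix.toLinAlgEquiv' g.1) := by
  refine Cfsg.Agent.FormCentral.isSemisimple_of_pow (k := orderOf g) ?_ ?_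
  · rw [Ne, CharP.cast_eq_zero_iff F p]
    exact fun h => (Fact.out : p.Prime).not_dvd_one
      (hg ▸ Nat.dvd_gcd h dvd_rfl)
  · rw [← map_pow, ← Units.val_pow_eq_pow_val, pow_orderOf_eq_one, Units.val_one, map_one]

theorem isConj_of_charpoly {p : ℕ} [Fact p.Prime] [CharP F p] {n : ℕ} (g h : GL (Fin n) F)
    (hg : (orderOf g).Coprime p) (hh : (orderOf h).Coprime p)
    (he : g.1.charpoly = h.1.charpoly) : IsConj g h := by
  classical
  obtain ⟨P, hP⟩ := Cfsg.Agent.FormCentral.exists_intertwine_of_charpoly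
    (Matrix.toLinAlgEquiv' g.1) (Matrix.toLinAlgEquiv' h.1)
    (pPrime_isSemisimple g hg) (pPrime_isSemisimple h hh)
    (by
      rw [← LinearMap.charpoly_toMatrix _ (Pi.basisFun F (Fin n)),
        ← LinearMap.charpoly_toMatrix _ (Pi.basisFun F (Fin n))]
      show (LinearMap.toMatrix' (Matrix.toLin' g.1)).charpoly = (LinearMap.toMatrix' (Matrix.toLin' h.1)).charpoly
      rwa [LinearMap.toMatrix'_toLin', LinearMap.toMatrix'_toLin'])
  let c : GL (Fin n) F := ⟨LinearMap.toMatrixAlgEquiv' P.toLinearMap,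
    LinearMap.toMatrixAlgEquiv' P.symm.toLinearMap,
    by rw [← map_mul, show P.toLinearMap * P.symm.toLinearMap = 1 from LinearMap.ext P.apply_symm_apply, map_one],
    by rw [← map_mul, show P.symm.toLinearMap * P.toLinearMap = 1 from LinearMap.ext P.symm_apply_apply, map_one]⟩
  refine isConj_iff.2 ⟨c, mul_inv_eq_iff_eq_mul.2 (Units.ext ?_)⟩
  show LinearMap.toMatrixAlgEquiv' P.toLinearMap * g.1 = h.1 * LinearMap.toMatrixAlgEquiv' P.toLinearMap
  apply (Matrix.toLinAlgEquiv' (R := F) (n := Fin n)).injective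
  rw [map_mul, map_mul, Matrix.toLinAlgEquiv'_toMatrixAlgEquiv']
  exact LinearMap.ext hP

theorem exists_charpoly {p : ℕ} [Fact p.Prime] [CharP F p] {n : ℕ} (f : F[X]) (hf : f.Monic)
    (hd : f.natDegree = n) (h0 : f.coeff 0 ≠ 0) :
    ∃ g : GL (Fin n) F, (orderOf g).Coprime p ∧ g.1.charpoly = f := by
  classical
  let pb := AdjoinRoot.powerBasis hf.ne_zero
  have hdim : pb.dim = n := by rw [AdjoinRoot.powerBasis_dim, hd]
  let M : Matrix (Fin n) (Fin n) F :=
    Matrix.reindex (finCongr hdim) (finCongr hdim) (Algebra.leftMulMatrix pb.basis pb.gen)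
  have hM : M.charpoly = f := by
    rw [Matrix.charpoly_reindex, charpoly_leftMulMatrix, AdjoinRoot.minpoly_powerBasis_gen_of_monic hf]
  have hu : IsUnit M := by
    rw [Matrix.isUnit_iff_isUnit_det, isUnit_iff_ne_zero, Matrix.det_eq_sign_charpoly_coeff, hM]
    exact mul_ne_zero (pow_ne_zero _ (neg_ne_zero.2 one_ne_zero)) h0
  let g : GL (Fin n) F := hu.unit
  obtain ⟨f', hpos, hF⟩ := FiniteField.card F p
  refine ⟨g ^ (Fintype.card F ^ orderOf g), ?_, ?_⟩
  · by_contra hc
    have hdvd : p ∣ orderOf (g ^ (Fintype.card F ^ orderOf g)) :=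
      ((Fact.out : p.Prime).coprime_iff_not_dvd.not_left.1 (fun h => hc h.symm))
    rw [orderOf_pow] at hdvd
    set o := orderOf g
    have ho : 0 < o := orderOf_pos g
    set d := o.gcd (Fintype.card F ^ o)
    have h1 : d * p ∣ o := by
      obtain ⟨c, hc⟩ := hdvd
      refine ⟨c, ?_⟩
      conv_lhs => rw [← Nat.mul_div_cancel' (Nat.gcd_dvd_left o (Fintype.card F ^ o))]
      rw [hc, mul_assoc]
    have h2 : d * p ∣ Fintype.card F ^ o := by
      obtain ⟨j, hj, hdj⟩ := (Nat.dvd_prime_pow (Fact.out : p.Prime)).1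
        (show d ∣ p ^ ((f' : ℕ) * o) by rw [pow_mul, ← hF]; exact Nat.gcd_dvd_right _ _)
      rw [hdj, ← pow_succ, hF, ← pow_mul]
      refine pow_dvd_pow _ ?_
      have hle : p ^ (j + 1) ≤ o := Nat.le_of_dvd ho (by rw [pow_succ, ← hdj]; exact h1)
      have hlt : j + 1 < p ^ (j + 1) := Nat.lt_pow_self (Fact.out : p.Prime).one_lt
      have : o ≤ (f' : ℕ) * o := Nat.le_mul_of_pos_left _ f'.pos
      omega
    have := Nat.le_of_dvd (Nat.gcd_pos_of_pos_left _ ho) (Nat.dvd_gcd h1 h2)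
    have h3 := (Fact.out : p.Prime).two_le
    have h4 : 0 < d := Nat.gcd_pos_of_pos_left _ ho
    nlinarith
  · have key : ∀ k, (M ^ (Fintype.card F ^ k)).charpoly = M.charpoly := by
      intro k
      induction k with
      | zero => simp
      | succ k ih => rw [pow_succ, pow_mul, FiniteField.Matrix.charpoly_pow_card, ih]
    rw [Units.val_pow_eq_pow_val]
    exact (key _).trans hM

/-- In `GL_n(q)` with `n ≥ 1`, `q` a power of the prime `p`, the number of conjugacy classes of elements of order prime to `p` (diagonalisable over the algebraic closure; determined by the characteristic polynomial) is `(q - 1) q^(n-1)`. -/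
theorem result {F : Type*} [Field F] [Fintype F] {q : ℕ} (hq : Fintype.card F = q) (p : ℕ) [Fact p.Prime] [CharP F p] (n : ℕ) (hn : 1 ≤ n) :
    Nat.card {c : ConjClasses (GL (Fin n) F) // ∃ g : GL (Fin n) F, ConjClasses.mk g = c ∧ (orderOf g).Coprime p} = (q - 1) * q ^ (n - 1) := by
  classical
  obtain ⟨m, rfl⟩ : ∃ m, n = m + 1 := ⟨n - 1, by omega⟩
  let P := {f : F[X] // (f.Monic ∧ f.natDegree = m + 1) ∧ f.coeff 0 ≠ 0}
  have hmem : ∀ g : GL (Fin (m + 1)) F, (g.1.charpoly.Monic ∧ g.1.charpoly.natDegree = m + 1) ∧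
      g.1.charpoly.coeff 0 ≠ 0 := fun g => by
    refine ⟨⟨g.1.charpoly_monic, by rw [Matrix.charpoly_natDegree_eq_dim, Fintype.card_fin]⟩, fun h => ?_⟩
    have := (Matrix.isUnit_iff_isUnit_det g.1).1 g.isUnit
    rw [Matrix.det_eq_sign_charpoly_coeff, h, mul_zero] at this
    exact not_isUnit_zero this
  choose rep hrep hcop using fun c : {c : ConjClasses (GL (Fin (m + 1)) F) //
    ∃ g : GL (Fin (m + 1)) F, ConjClasses.mk g = c ∧ (orderOf g).Coprime p} => c.2
  have hbij : Function.Bijective (fun c => (⟨(rep c).1.charpoly, hmem _⟩ : P)) := by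
    constructor
    · intro a b h
      have hc := isConj_of_charpoly _ _ (hcop a) (hcop b) (congrArg Subtype.val h)
      exact Subtype.ext (by rw [← hrep a, ← hrep b, ConjClasses.mk_eq_mk_iff_isConj]; exact hc)
    · rintro ⟨f, ⟨hf, hd⟩, h0⟩
      obtain ⟨g, hg, hgf⟩ := exists_charpoly (p := p) f hf hd h0
      refine ⟨⟨ConjClasses.mk g, g, rfl, hg⟩, Subtype.ext ?_⟩
      have hc := ConjClasses.mk_eq_mk_iff_isConj.1 (hrep ⟨ConjClasses.mk g, g, rfl, hg⟩)
      obtain ⟨c, hcc⟩ := isConj_iff.1 hc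
      refine Eq.trans ?_ hgf
      conv_rhs => rw [← hcc]
      rw [Units.val_mul, Units.val_mul, Matrix.coe_units_inv, Matrix.charpoly_units_conj]
  rw [Nat.card_congr (Equiv.ofBijective _ hbij)]
  let e : P ≃ {v : Fin (m + 1) → F // v 0 ≠ 0} :=
    (Equiv.subtypeSubtypeEquivSubtypeInter (fun f : F[X] => f.Monic ∧ f.natDegree = m + 1)
      (fun f : F[X] => f.coeff 0 ≠ 0)).symm.trans
    (((monicEquivDegreeLT (m + 1)).trans (degreeLTEquiv F (m + 1)).toEquiv).subtypeEquiv
      (fun f => by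
        show f.1.coeff 0 ≠ 0 ↔ (f.1.eraseLead.coeff ((0 : Fin (m + 1)) : ℕ)) ≠ 0
        rw [Fin.val_zero, eraseLead_coeff_of_ne 0 (by omega)]))
  let e' : {v : Fin (m + 1) → F // v 0 ≠ 0} ≃ {x : F // x ≠ 0} × (Fin m → F) :=
    { toFun := fun v => (⟨v.1 0, v.2⟩, Fin.tail v.1)
      invFun := fun x => ⟨Fin.cons x.1.1 x.2, by simpa using x.1.2⟩
      left_inv := fun v => Subtype.ext (Fin.cons_self_tail v.1)
      right_inv := fun x => Prod.ext (Subtype.ext (by simp)) (by simp) }
  rw [Nat.card_congr (e.trans e'), Nat.card_prod, Nat.card_fun, Nat.card_fin,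
    ← Nat.card_congr unitsEquivNeZero, Nat.card_units, Nat.card_eq_fintype_card, hq, Nat.add_sub_cancel]

end Cfsg.Agent.S2387
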