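import Cfsg.Statements.S2569
-- import your own Cfsg.Agent.* helpers here

set_option autoImplicit false
open Cfsg

namespace Cfsg.Agent.S2569

open Polynomial in
/-- A semisimple endomorphism commutes with automorphisms of every determinant. -/
theorem exists_commute_det {F V : Type*} [Field F] [Finite F] [AddCommGroup V] [Module F V] [FiniteDimensional F V]
    [Nontrivial V] (y : Module.End F V) (hy : y.IsSemisimple) (hinj : Function.Injective y) (d : F) (hd : d ≠ 0) :
    ∃ c : Module.End F V, Commute c y ∧ LinearMap.det c = d := by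
  classical
  obtain ⟨W, ⟨hWne, hWy⟩, hmin⟩ := wellFounded_lt.has_min
    {W : Submodule F V | W ≠ ⊥ ∧ W ≤ W.comap y} ⟨⊤, top_ne_bot, le_top⟩
  obtain ⟨W', hW'y, hcompl⟩ := Module.End.isSemisimple_iff.1 hy W hWy
  let z : Module.End F W := y.restrict hWy
  let A := Algebra.adjoin F {z}
  obtain ⟨v, hv, hv0⟩ := Submodule.exists_mem_ne_zero_of_ne_bot hWne
  have hAz : ∀ a : A, Commute (a : Module.End F W) z := fun a => by
    refine (Algebra.commute_of_mem_adjoin_of_forall_mem_commute a.2 ?_).symm
    intro b hb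
    rw [Set.mem_singleton_iff.1 hb]; exact Commute.refl _
  have hker : ∀ a : A, a ≠ 0 → LinearMap.ker (a : Module.End F W) = ⊥ := by
    intro a ha
    by_contra hk
    set K := (LinearMap.ker (a : Module.End F W)).map W.subtype
    have hK : K ∈ {W : Submodule F V | W ≠ ⊥ ∧ W ≤ W.comap y} := by
      refine ⟨fun h => hk (Submodule.map_injective_of_injective W.injective_subtype (h.trans (Submodule.map_bot _).symm)), ?_⟩
      rintro _ ⟨u, hu, rfl⟩
      refine ⟨z u, ?_, rfl⟩
      show (a : Module.End F W) (z u) = 0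
      rw [← Module.End.mul_apply, (hAz a).eq, Module.End.mul_apply, LinearMap.mem_ker.1 hu, map_zero]
    have hKW : K = W := (Submodule.map_subtype_le W _).eq_or_lt.resolve_right (hmin K hK)
    refine ha (Subtype.ext (LinearMap.ext fun u => ?_))
    obtain ⟨u', hu', he⟩ : (u : V) ∈ K := hKW.symm ▸ u.2
    rw [← show u' = u from Subtype.ext he]
    exact hu'
  haveI : NoZeroDivisors A := ⟨fun {a b} hab => by
    by_contra hne
    push Not at hne
    refine hne.2 (Subtype.ext (LinearMap.ext fun u => ?_))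
    have h1 : (a : Module.End F W) ((b : Module.End F W) u) = 0 :=
      LinearMap.congr_fun (congrArg Subtype.val hab) u
    exact LinearMap.ker_eq_bot'.1 (hker a hne.1) _ h1⟩
  haveI : Finite V := Module.finite_of_finite F
  haveI : Finite (Module.End F W) := Module.finite_of_finite F
  haveI : Nontrivial W := ⟨⟨v, hv⟩, 0, fun h => hv0 (congrArg Subtype.val h)⟩
  haveI : IsDomain A := NoZeroDivisors.to_isDomain A
  letI : CommRing A := Algebra.adjoinCommRingOfComm F (fun a ha b hb => by
    rw [Set.mem_singleton_iff.1 ha, Set.mem_singleton_iff.1 hb])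
  letI : Fintype A := Fintype.ofFinite A
  letI : Field A := Fintype.fieldOfDomain A
  let ev : A →ₗ[F] W := (LinearMap.applyₗ (⟨v, hv⟩ : W)).comp A.val.toLinearMap
  have hevi : Function.Injective ev := by
    refine LinearMap.ker_eq_bot.1 (LinearMap.ker_eq_bot'.2 fun a ha => ?_)
    by_contra ha0
    have : (⟨v, hv⟩ : W) = 0 := LinearMap.ker_eq_bot'.1 (hker a ha0) _ ha
    exact hv0 (congrArg Subtype.val this)
  have hevs : Function.Surjective ev := by
    set K := (LinearMap.range ev).map W.subtype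
    have hK : K ∈ {W : Submodule F V | W ≠ ⊥ ∧ W ≤ W.comap y} := by
      refine ⟨fun h => hv0 ?_, ?_⟩
      · have hm : v ∈ K := ⟨⟨v, hv⟩, ⟨1, rfl⟩, rfl⟩
        rw [h, Submodule.mem_bot] at hm
        exact hm
      · rintro _ ⟨_, ⟨a, rfl⟩, rfl⟩
        exact ⟨z (ev a), ⟨⟨z, Algebra.self_mem_adjoin_singleton F z⟩ * a, rfl⟩, rfl⟩
    have hKW : K = W := (Submodule.map_subtype_le W _).eq_or_lt.resolve_right (hmin K hK)
    intro u
    obtain ⟨u', hu', he⟩ : (u : V) ∈ K := hKW.symm ▸ u.2
    obtain ⟨a, ha⟩ := hu'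
    exact ⟨a, ha.trans (Subtype.ext he)⟩
  let e := LinearEquiv.ofBijective ev ⟨hevi, hevs⟩
  obtain ⟨lam, hlam⟩ := FiniteField.unitsMap_norm_surjective F A (Units.mk0 d hd)
  have hlam' : Algebra.norm F (lam : A) = d := congrArg Units.val hlam
  have hdetW : LinearMap.det ((lam : A) : Module.End F W) = d := by
    rw [← hlam', Algebra.norm_apply, ← LinearMap.det_conj (Algebra.lmul F A (lam : A)) e]
    congr 1
    refine LinearMap.ext fun u => ?_
    obtain ⟨a, rfl⟩ := e.surjective u
    simp only [LinearMap.comp_apply, LinearEquiv.coe_coe, LinearEquiv.symm_apply_apply]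
    rfl
  let Φ := W.prodEquivOfIsCompl W' hcompl
  refine ⟨(Φ : (W × W') →ₗ[F] V) ∘ₗ LinearMap.prodMap ((lam : A) : Module.End F W) LinearMap.id ∘ₗ
    (Φ.symm : V →ₗ[F] W × W'), ?_, ?_⟩
  · refine LinearMap.ext fun u => ?_
    obtain ⟨⟨w, w'⟩, rfl⟩ := Φ.surjective u
    have hyΦ : y (Φ (w, w')) = Φ (z w, ⟨y w', hW'y w'.2⟩) := by
      simp [Φ, z]
    simp only [Module.End.mul_apply, LinearMap.comp_apply, LinearEquiv.coe_coe, LinearEquiv.symm_apply_apply,
      LinearMap.prodMap_apply, LinearMap.id_apply, hyΦ]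
    rw [← Module.End.mul_apply, (hAz _).eq, Module.End.mul_apply]
    simp [Φ, z]
  · rw [LinearMap.det_conj, LinearMap.det_prodMap, hdetW, LinearMap.det_id, mul_one]


/-- In GL_n over a finite field of characteristic p, the conjugacy class of a semisimple element (an element of order prime to p) under the special linear group is its whole GL-conjugacy class: for every such x and every invertible g there is h of determinant one with h x h⁻¹ = g x g⁻¹. -/
theorem result {F : Type*} [Field F] [Fintype F] {p : ℕ} [Fact p.Prime] [CharP F p] {n : ℕ} (x g : GL (Fin n) F) (hx : (orderOf x).Coprime p) : ∃ h : GL (Fin n) F, (h : Matrix (Fin n) (Fin n) F).det = 1 ∧ h * x * h⁻¹ = g * x * g⁻¹ := by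
  classical
  rcases Nat.eq_zero_or_pos n with rfl | hn
  · exact ⟨g, Matrix.det_isEmpty, rfl⟩
  haveI : Nonempty (Fin n) := ⟨⟨0, hn⟩⟩
  set y : Module.End F (Fin n → F) := Matrix.toLinAlgEquiv' (x : Matrix (Fin n) (Fin n) F)
  have hss : y.IsSemisimple := by
    refine Module.End.isSemisimple_of_squarefree_aeval_eq_zero (p := Polynomial.X ^ orderOf x - 1) ?_ ?_
    · refine Polynomial.Separable.squarefree (Polynomial.separable_X_pow_sub_C (1 : F) ?_ one_ne_zero)
      rw [Ne, CharP.cast_eq_zero_iff F p]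
      exact fun h => (Fact.out : p.Prime).not_dvd_one (hx ▸ Nat.dvd_gcd h dvd_rfl)
    · rw [map_sub, map_pow, Polynomial.aeval_X, map_one, ← map_pow, ← Units.val_pow_eq_pow_val, pow_orderOf_eq_one,
        Units.val_one, map_one, sub_self]
  have hinj : Function.Injective y := fun a b hab =>
    Matrix.mulVec_injective_of_isUnit x.isUnit hab
  have hg : (g : Matrix (Fin n) (Fin n) F).det ≠ 0 :=
    ((Matrix.isUnit_iff_isUnit_det _).1 g.isUnit).ne_zero
  obtain ⟨c, hc, hdet⟩ := exists_commute_det y hss hinj ((g : Matrix (Fin n) (Fin n) F).det)⁻¹ (inv_ne_zero hg)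
  set C := Matrix.toLinAlgEquiv'.symm c with hC
  have hC' : Matrix.toLinAlgEquiv' C = c := AlgEquiv.apply_symm_apply _ _
  have hCdet : C.det = ((g : Matrix (Fin n) (Fin n) F).det)⁻¹ := by
    rw [← hdet, ← hC']
    exact (LinearMap.det_toLin' C).symm
  have hCu : IsUnit C.det := by rw [hCdet]; exact (inv_ne_zero hg).isUnit
  have hCx : C * (x : Matrix (Fin n) (Fin n) F) = (x : Matrix (Fin n) (Fin n) F) * C := by
    apply Matrix.toLinAlgEquiv'.injective
    rw [map_mul, map_mul, hC']
    exact hc.eq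
  let Cu : GL (Fin n) F := Matrix.GeneralLinearGroup.mk'' C hCu
  have hCu' : Cu * x = x * Cu := Units.ext hCx
  refine ⟨g * Cu, ?_, ?_⟩
  · show ((g : Matrix (Fin n) (Fin n) F) * C).det = 1
    rw [Matrix.det_mul, hCdet, mul_inv_cancel₀ hg]
  · rw [mul_inv_rev, mul_assoc g, hCu', ← mul_assoc g, mul_assoc (g * x), ← mul_assoc Cu, mul_inv_cancel, one_mul]

end Cfsg.Agent.S2569
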