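import Cfsg.Statements.S2384
import Cfsg.Agent.S2387
import Cfsg.Agent.S2569

set_option autoImplicit false
open Cfsg

namespace Cfsg.Agent.S2384

/-- In `SL_n(q)`, `q` a power of the prime `p`, the number of conjugacy classes of elements of order prime to `p` (the semisimple classes) is `q^(n-1)`. -/
theorem result {F : Type*} [Field F] [Fintype F] {q : ℕ} (hq : Fintype.card F = q) (p : ℕ) [Fact p.Prime] [CharP F p] (n : ℕ) (hn : 1 ≤ n) :
    Nat.card {c : ConjClasses (Matrix.SpecialLinearGroup (Fin n) F) //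
      ∃ g : Matrix.SpecialLinearGroup (Fin n) F, ConjClasses.mk g = c ∧ (orderOf g).Coprime p} = q ^ (n - 1) := by
  classical
  obtain ⟨m, rfl⟩ : ∃ m, n = m + 1 := ⟨n - 1, by omega⟩
  let ι := Matrix.SpecialLinearGroup.toGL (n := Fin (m + 1)) (R := F)
  have hι : Function.Injective ι := fun a b h => Subtype.ext (congrArg Units.val h)
  have hord : ∀ g, orderOf (ι g) = orderOf g := fun g => orderOf_injective ι hι g
  let P := {f : Polynomial F // (f.Monic ∧ f.natDegree = m + 1) ∧ f.coeff 0 = (-1) ^ (m + 1)}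
  have hsq : ((-1 : F) ^ (m + 1)) * ((-1 : F) ^ (m + 1)) = 1 := by rw [← mul_pow]; simp
  have hmem : ∀ g : Matrix.SpecialLinearGroup (Fin (m + 1)) F,
      (g.1.charpoly.Monic ∧ g.1.charpoly.natDegree = m + 1) ∧ g.1.charpoly.coeff 0 = (-1) ^ (m + 1) := fun g => by
    refine ⟨⟨g.1.charpoly_monic, by rw [Matrix.charpoly_natDegree_eq_dim, Fintype.card_fin]⟩, ?_⟩
    have h := Matrix.det_eq_sign_charpoly_coeff g.1
    rw [g.2, Fintype.card_fin] at h
    calc g.1.charpoly.coeff 0 = ((-1 : F) ^ (m + 1) * (-1) ^ (m + 1)) * g.1.charpoly.coeff 0 := by rw [hsq, one_mul]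
      _ = (-1) ^ (m + 1) := by rw [mul_assoc, ← h, mul_one]
  choose rep hrep hcop using fun c : {c : ConjClasses (Matrix.SpecialLinearGroup (Fin (m + 1)) F) //
    ∃ g : Matrix.SpecialLinearGroup (Fin (m + 1)) F, ConjClasses.mk g = c ∧ (orderOf g).Coprime p} => c.2
  have hconj : ∀ g h : Matrix.SpecialLinearGroup (Fin (m + 1)) F, (orderOf g).Coprime p → (orderOf h).Coprime p →
      g.1.charpoly = h.1.charpoly → IsConj g h := by
    intro g h hg hh he
    obtain ⟨c, hc⟩ := isConj_iff.1 (S2387.isConj_of_charpoly (ι g) (ι h) (by rwa [hord]) (by rwa [hord]) he)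
    obtain ⟨c', hdet, hc'⟩ := S2569.result (ι g) c (by rwa [hord])
    let h' : Matrix.SpecialLinearGroup (Fin (m + 1)) F := ⟨c'.1, hdet⟩
    refine isConj_iff.2 ⟨h', hι ?_⟩
    rw [map_mul, map_mul, map_inv, show ι h' = c' from Units.ext rfl, hc', hc]
  have hbij : Function.Bijective (fun c => (⟨(rep c).1.charpoly, hmem _⟩ : P)) := by
    constructor
    · intro a b h
      exact Subtype.ext (by
        rw [← hrep a, ← hrep b, ConjClasses.mk_eq_mk_iff_isConj]
        exact hconj _ _ (hcop a) (hcop b) (congrArg Subtype.val h))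
    · rintro ⟨f, ⟨hf, hd⟩, h0⟩
      obtain ⟨g, hg, hgf⟩ := S2387.exists_charpoly (p := p) f hf hd
        (by rw [h0]; exact pow_ne_zero _ (neg_ne_zero.2 one_ne_zero))
      have hdet : g.1.det = 1 := by
        rw [Matrix.det_eq_sign_charpoly_coeff, hgf, h0, Fintype.card_fin, hsq]
      let g' : Matrix.SpecialLinearGroup (Fin (m + 1)) F := ⟨g.1, hdet⟩
      have hg' : (orderOf g').Coprime p := by rw [← hord, show ι g' = g from Units.ext rfl]; exact hg
      refine ⟨⟨ConjClasses.mk g', g', rfl, hg'⟩, Subtype.ext ?_⟩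
      obtain ⟨c, hcc⟩ := isConj_iff.1 (ConjClasses.mk_eq_mk_iff_isConj.1 (hrep ⟨ConjClasses.mk g', g', rfl, hg'⟩))
      refine Eq.trans ?_ hgf
      have h' := congrArg ι hcc
      rw [map_mul, map_mul, map_inv] at h'
      rw [show g = ι g' from Units.ext rfl, ← h', Units.val_mul, Units.val_mul, Matrix.coe_units_inv,
        Matrix.charpoly_units_conj]
      rfl
  rw [Nat.card_congr (Equiv.ofBijective _ hbij)]
  let e : P ≃ {v : Fin (m + 1) → F // v 0 = (-1) ^ (m + 1)} :=
    (Equiv.subtypeSubtypeEquivSubtypeInter (fun f : Polynomial F => f.Monic ∧ f.natDegree = m + 1)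
      (fun f : Polynomial F => f.coeff 0 = (-1) ^ (m + 1))).symm.trans
    (((Polynomial.monicEquivDegreeLT (m + 1)).trans (Polynomial.degreeLTEquiv F (m + 1)).toEquiv).subtypeEquiv
      (fun f => by
        show f.1.coeff 0 = _ ↔ (f.1.eraseLead.coeff ((0 : Fin (m + 1)) : ℕ)) = _
        rw [Fin.val_zero, Polynomial.eraseLead_coeff_of_ne 0 (by rw [f.2.2]; omega)]))
  let e' : {v : Fin (m + 1) → F // v 0 = (-1) ^ (m + 1)} ≃ (Fin m → F) :=
    { toFun := fun v => Fin.tail v.1
      invFun := fun x => ⟨Fin.cons ((-1) ^ (m + 1)) x, rfl⟩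
      left_inv := fun v => Subtype.ext (by
        funext i
        refine Fin.cases ?_ (fun j => ?_) i
        · exact v.2.symm
        · simp [Fin.tail])
      right_inv := fun x => by simp }
  rw [Nat.card_congr (e.trans e'), Nat.card_fun, Nat.card_fin, Nat.card_eq_fintype_card, hq, Nat.add_sub_cancel]

end Cfsg.Agent.S2384
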