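import Cfsg.Statements.S2570
import Cfsg.Agent.Lib.GLUnipotent.JordanType

set_option autoImplicit false
open Cfsg

namespace Cfsg.Agent.S2570


open scoped Matrix
open Cfsg.Agent.JordanType

variable {F : Type*} [Field F]

theorem sub_one_pow_eq {p : ℕ} [Fact p.Prime] [CharP F p] {ι : Type*} [Fintype ι] [DecidableEq ι]
    (A : Matrix ι ι F) : (A - 1) ^ p = A ^ p - 1 := by
  have h : ((Polynomial.X : Polynomial F) - 1) ^ p = Polynomial.X ^ p - 1 := by
    rw [sub_pow_char, one_pow]
  simpa using congrArg (Polynomial.aeval A) h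

theorem shift_pow_zero {t : ℕ} (d : Fin t → ℕ) (m : ℕ) (h : ∀ k, d k ≤ m) : shift F d ^ m = 0 := by
  ext a b
  rw [shift_pow_apply, if_neg, Matrix.zero_apply]
  rintro ⟨-, e⟩
  have := h a.1
  have := a.2.2
  omega

theorem count_identity (M : Multiset ℕ) (i : ℕ) (hi : 1 ≤ i) :
    (M.map (· - (i - 1))).sum + (M.map (· - (i + 1))).sum = 2 * (M.map (· - i)).sum + M.count i := by
  induction M using Multiset.induction with
  | empty => simp
  | cons a s ih =>
    simp only [Multiset.map_cons, Multiset.sum_cons, Multiset.count_cons]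
    split_ifs with h <;> omega

theorem count_eq_card {t : ℕ} (d : Fin t → ℕ) (i : ℕ) :
    (Finset.univ.val.map d).count i = (Finset.univ.filter fun k => d k = i).card := by
  rw [Multiset.count_map, Finset.card_def, Finset.filter_val]
  simp only [eq_comm]

/-- Types with the same multiplicities give the same shift up to reindexing. -/
theorem exists_idx_equiv {t t' : ℕ} (d : Fin t → ℕ) (d' : Fin t' → ℕ)
    (h : ∀ i, 1 ≤ i → (Finset.univ.filter fun k => d k = i).card = (Finset.univ.filter fun k => d' k = i).card) :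
    ∃ τ : Idx d ≃ Idx d', ∀ a b, shift F d' (τ a) (τ b) = shift F d a b := by
  classical
  have hf : ∀ c : ℕ, Nonempty ({x : {k // d k ≠ 0} // d x.1 = c} ≃ {x : {k // d' k ≠ 0} // d' x.1 = c}) := by
    intro c
    rcases Nat.eq_zero_or_pos c with rfl | hc
    · haveI : IsEmpty {x : {k // d k ≠ 0} // d x.1 = 0} := ⟨fun x => x.1.2 x.2⟩
      haveI : IsEmpty {x : {k // d' k ≠ 0} // d' x.1 = 0} := ⟨fun x => x.1.2 x.2⟩
      exact ⟨Equiv.equivOfIsEmpty _ _⟩
    · refine ⟨(Equiv.subtypeSubtypeEquivSubtype (fun {k} (e : d k = c) => show d k ≠ 0 by omega)).trans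
        (Equiv.trans ?_ (Equiv.subtypeSubtypeEquivSubtype
          (fun {k} (e : d' k = c) => show d' k ≠ 0 by omega)).symm)⟩
      refine Fintype.equivOfCardEq ?_
      rw [Fintype.card_subtype, Fintype.card_subtype]
      exact h c hc
  let e : {k // d k ≠ 0} ≃ {k // d' k ≠ 0} :=
    Equiv.ofFiberEquiv (f := fun x => d x.1) (g := fun x => d' x.1) (fun c => (hf c).some)
  have he : ∀ x, d' (e x).1 = d x.1 := fun x => Equiv.ofFiberEquiv_map (f := fun x : {k // d k ≠ 0} => d x.1) (g := fun x : {k // d' k ≠ 0} => d' x.1) _ x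
  let τ₀ : Idx d → Idx d' := fun a =>
    ⟨(e ⟨a.1, by have := a.2.2; omega⟩).1, Fin.cast (he _).symm a.2⟩
  have hinj : Function.Injective τ₀ := by
    rintro ⟨k, i⟩ ⟨l, j⟩ hab
    have h1 : (e ⟨k, by have := i.2; omega⟩).1 = (e ⟨l, by have := j.2; omega⟩).1 := congrArg Sigma.fst hab
    have h2 : k = l := congrArg Subtype.val (e.injective (Subtype.ext h1))
    subst h2
    have h3 := (Sigma.mk.injEq ..).mp hab
    exact congrArg (Sigma.mk k) (Fin.ext (congrArg Fin.val (eq_of_heq h3.2) : _))
  have hsur : Function.Surjective τ₀ := by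
    rintro ⟨k, i⟩
    obtain ⟨⟨l, hl⟩, hlk⟩ := e.surjective ⟨k, by have := i.2; omega⟩
    have hk : (e ⟨l, hl⟩).1 = k := congrArg Subtype.val hlk
    subst hk
    exact ⟨⟨l, Fin.cast (he ⟨l, hl⟩) i⟩, congrArg (Sigma.mk _) (Fin.ext rfl)⟩
  refine ⟨Equiv.ofBijective τ₀ ⟨hinj, hsur⟩, fun a b => ?_⟩
  rw [shift_apply, shift_apply]
  refine if_congr (and_congr ⟨fun hh => ?_, fun hh => ?_⟩ Iff.rfl) rfl rfl
  · exact congrArg (fun x : {k // d k ≠ 0} => x.1) (e.injective (Subtype.ext hh))
  · exact congrArg (fun x => (e x).1) (Subtype.ext hh)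

variable {n : ℕ}

/-- Block sizes of a partition. -/
noncomputable abbrev dd (μ : Nat.Partition n) : Fin μ.parts.toList.length → ℕ := μ.parts.toList.get

theorem map_dd (μ : Nat.Partition n) : Finset.univ.val.map (dd μ) = μ.parts := by
  rw [Fin.univ_val_map, List.ofFn_get, Multiset.coe_toList]

theorem dd_mem (μ : Nat.Partition n) (k) : dd μ k ∈ μ.parts :=
  Multiset.mem_toList.1 (List.get_mem _ _)

theorem card_idx (μ : Nat.Partition n) : Fintype.card (Idx (dd μ)) = n := by
  rw [Fintype.card_sigma]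
  simp only [Fintype.card_fin]
  rw [Finset.sum_eq_multiset_sum, map_dd, μ.parts_sum]

/-- The representative matrix. -/
noncomputable def rep (F : Type*) [Field F] (μ : Nat.Partition n) : Matrix (Fin n) (Fin n) F :=
  Matrix.reindexAlgEquiv F F (Fintype.equivFinOfCardEq (card_idx μ)) (Cfsg.jordanTypeMatrix (dd μ) F)

theorem rep_sub_one (μ : Nat.Partition n) : rep F μ - 1 =
    Matrix.reindexAlgEquiv F F (Fintype.equivFinOfCardEq (card_idx μ)) (shift F (dd μ)) := by
  rw [shift, map_sub, map_one]; rfl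

theorem rank_rep (μ : Nat.Partition n) (j : ℕ) :
    ((rep F μ - 1) ^ j).rank = (μ.parts.map (· - j)).sum := by
  rw [rep_sub_one, ← map_pow, Matrix.coe_reindexAlgEquiv, Matrix.rank_reindex, rank_shift_pow,
    Finset.sum_eq_multiset_sum]
  have h := congrArg (fun M : Multiset ℕ => (M.map (· - j)).sum) (map_dd μ)
  rw [Multiset.map_map] at h
  exact h

theorem rep_pow {p : ℕ} [Fact p.Prime] [CharP F p] (μ : Nat.Partition n) (h : ∀ a ∈ μ.parts, a ≤ p) :
    rep F μ ^ p = 1 := by
  rw [← sub_eq_zero, ← sub_one_pow_eq, rep_sub_one, ← map_pow, shift_pow_zero _ _ fun k => h _ (dd_mem μ k),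
    map_zero]

theorem isConj_rank {g h : GL (Fin n) F} (hc : IsConj g h) (j : ℕ) :
    (((g : Matrix (Fin n) (Fin n) F) - 1) ^ j).rank = (((h : Matrix (Fin n) (Fin n) F) - 1) ^ j).rank := by
  obtain ⟨c, rfl⟩ := isConj_iff.1 hc
  have e : ((c * g * c⁻¹ : GL (Fin n) F) : Matrix (Fin n) (Fin n) F) - 1 =
      (c : Matrix (Fin n) (Fin n) F) * ((g : Matrix (Fin n) (Fin n) F) - 1) * (c⁻¹ : GL (Fin n) F) := by
    rw [Units.val_mul, Units.val_mul, mul_sub, mul_one, sub_mul, ← Units.val_mul c c⁻¹, mul_inv_cancel,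
      Units.val_one]
  rw [e, Units.conj_pow c,
    Matrix.rank_mul_eq_left_of_isUnit_det _ _ ((Matrix.isUnit_iff_isUnit_det _).1 (Units.isUnit _)),
    Matrix.rank_mul_eq_right_of_isUnit_det _ _ ((Matrix.isUnit_iff_isUnit_det _).1 (Units.isUnit _))]

/-- Number of conjugacy classes of elements of order p in GL_n over a finite field of characteristic p: they correspond to the Jordan types, that is, to the partitions of n with all parts at most p other than the partition into ones, so there are (number of partitions of n with parts ≤ p) − 1 of them. -/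
theorem result {F : Type*} [Field F] [Fintype F] {p : ℕ} [Fact p.Prime] [CharP F p] (n : ℕ) : Nat.card {C : ConjClasses (GL (Fin n) F) // ∃ g : GL (Fin n) F, ConjClasses.mk g = C ∧ orderOf g = p} = (Finset.univ.filter (fun μ : Nat.Partition n => ∀ a ∈ μ.parts, a ≤ p)).card - 1 := by
  classical
  have hp := (Fact.out : p.Prime)
  set S := Finset.univ.filter (fun μ : Nat.Partition n => ∀ a ∈ μ.parts, a ≤ p)
  let ones : Nat.Partition n := ⟨Multiset.replicate n 1, fun h => by
    rw [Multiset.eq_of_mem_replicate h]; exact one_pos, by simp⟩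
  have hones : ones ∈ S := by
    simp only [S, Finset.mem_filter, Finset.mem_univ, true_and]
    intro a ha
    rw [Multiset.eq_of_mem_replicate ha]; exact hp.one_le
  rw [← Finset.card_erase_of_mem hones, ← Nat.card_eq_finsetCard]
  have hS : ∀ μ : ↥(S.erase ones), ∀ a ∈ μ.1.parts, a ≤ p := fun μ =>
    (Finset.mem_filter.1 (Finset.mem_erase.1 μ.2).2).2
  let G : ↥(S.erase ones) → GL (Fin n) F := fun μ =>
    Units.ofPowEqOne (rep F μ.1) p (rep_pow μ.1 (hS μ)) hp.ne_zero
  have hG : ∀ μ, (G μ : Matrix (Fin n) (Fin n) F) = rep F μ.1 := fun μ => rfl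
  have hord : ∀ μ, orderOf (G μ) = p := by
    refine fun μ => orderOf_eq_prime (Units.pow_ofPowEqOne _ _) fun h1 => ?_
    have h2 : rep F μ.1 = 1 := congrArg Units.val h1
    have h3 := rank_rep (F := F) μ.1 1
    rw [h2, sub_self, pow_one, Matrix.rank_zero] at h3
    refine (Finset.mem_erase.1 μ.2).1 (Nat.Partition.ext ?_)
    have hall : ∀ a ∈ μ.1.parts, a = 1 := fun a ha => by
      have h4 : a - 1 ≤ (μ.1.parts.map (· - 1)).sum :=
        Multiset.le_sum_of_mem (Multiset.mem_map_of_mem (fun x => x - 1) ha)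
      have := μ.1.parts_pos ha
      omega
    have hc := Multiset.eq_replicate_card.2 hall
    have hsum := μ.1.parts_sum
    rw [hc, Multiset.sum_replicate, smul_eq_mul, mul_one] at hsum
    rw [hc, hsum]
  refine (Nat.card_eq_of_bijective
    (fun μ => (⟨ConjClasses.mk (G μ), G μ, rfl, hord μ⟩ :
      {C : ConjClasses (GL (Fin n) F) // ∃ g : GL (Fin n) F, ConjClasses.mk g = C ∧ orderOf g = p}))
    ⟨?_, ?_⟩).symm
  · intro μ ν h
    have hc := ConjClasses.mk_eq_mk_iff_isConj.1 (congrArg Subtype.val h)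
    refine Subtype.ext (Nat.Partition.ext (Multiset.ext.2 fun i => ?_))
    rcases Nat.eq_zero_or_pos i with rfl | hi
    · rw [Multiset.count_eq_zero_of_notMem fun h0 => absurd (μ.1.parts_pos h0) (lt_irrefl _),
        Multiset.count_eq_zero_of_notMem fun h0 => absurd (ν.1.parts_pos h0) (lt_irrefl _)]
    · have hr : ∀ j, (μ.1.parts.map (· - j)).sum = (ν.1.parts.map (· - j)).sum := fun j => by
        rw [← rank_rep (F := F), ← rank_rep (F := F), ← hG, ← hG, isConj_rank hc]
      have h1 := count_identity μ.1.parts i hi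
      have h2 := count_identity ν.1.parts i hi
      rw [hr, hr, hr] at h1
      omega
  · rintro ⟨C, g, rfl, hg⟩
    have hgp : ((g : Matrix (Fin n) (Fin n) F) - 1) ^ p = 0 := by
      rw [sub_one_pow_eq, ← Units.val_pow_eq_pow_val, ← hg, pow_orderOf_eq_one, Units.val_one, sub_self]
    obtain ⟨t, d, σ, P, hd, hAP⟩ := exists_normal_form (g : Matrix (Fin n) (Fin n) F) p hgp
    have hsum : (Finset.univ.val.map d).sum = n := by
      rw [← Finset.sum_eq_multiset_sum]
      have h0 := Fintype.card_congr σ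
      simpa using h0
    set μ := Nat.Partition.ofSums n (Finset.univ.val.map d) hsum with hμdef
    have hμ : μ ∈ S := by
      simp only [S, Finset.mem_filter, Finset.mem_univ, true_and, μ, Nat.Partition.ofSums]
      intro a ha
      obtain ⟨k, -, rfl⟩ := Multiset.mem_map.1 (Multiset.mem_filter.1 ha).1
      exact hd k
    have hcnt : ∀ i, 1 ≤ i → (Finset.univ.filter fun k => dd μ k = i).card =
        (Finset.univ.filter fun k => d k = i).card := fun i hi => by
      rw [← count_eq_card, ← count_eq_card, map_dd]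
      show (Multiset.filter _ (Finset.univ.val.map d)).count i = _
      exact Multiset.count_filter_of_pos (show i ≠ 0 by omega)
    obtain ⟨τ, hτ⟩ := exists_idx_equiv (F := F) (dd μ) d hcnt
    set s := Fintype.equivFinOfCardEq (card_idx μ)
    let π : Fin n ≃ Fin n := s.symm.trans (τ.trans σ)
    have hJ : ∀ x y, rep F μ x y =
        Matrix.reindex σ σ (Cfsg.jordanTypeMatrix d F) (π x) (π y) := by
      intro x y
      show Cfsg.jordanTypeMatrix (dd μ) F (s.symm x) (s.symm y) =
        Cfsg.jordanTypeMatrix d F (σ.symm (σ (τ (s.symm x)))) (σ.symm (σ (τ (s.symm y))))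
      rw [Equiv.symm_apply_apply, Equiv.symm_apply_apply]
      have h := hτ (s.symm x) (s.symm y)
      simp only [shift, Matrix.sub_apply, Matrix.one_apply, τ.injective.eq_iff] at h
      exact (sub_left_inj.1 h).symm
    let Q : GL (Fin n) F := ⟨π.toPEquiv.toMatrix, π.symm.toPEquiv.toMatrix,
      by rw [← PEquiv.toMatrix_trans, ← Equiv.toPEquiv_trans]; simp,
      by rw [← PEquiv.toMatrix_trans, ← Equiv.toPEquiv_trans]; simp⟩
    set B := Matrix.reindex σ σ (Cfsg.jordanTypeMatrix d F)
    have hrep : rep F μ * (Q : Matrix (Fin n) (Fin n) F) = (Q : Matrix (Fin n) (Fin n) F) * B := by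
      show rep F μ * π.toPEquiv.toMatrix = π.toPEquiv.toMatrix * B
      rw [PEquiv.mul_toMatrix_toPEquiv, PEquiv.toMatrix_toPEquiv_mul]
      ext x y
      simp [hJ]
    have hne : μ ≠ ones := by
      intro e
      have h1 : rep F μ = 1 := by
        rw [← sub_eq_zero, rep_sub_one, ← pow_one (shift F (dd μ)), shift_pow_zero, map_zero]
        intro k
        have h5 : dd μ k ∈ ones.parts := e ▸ dd_mem μ k
        exact (Multiset.eq_of_mem_replicate h5).le
      rw [h1, one_mul] at hrep
      have hB : B = 1 := Q.isUnit.mul_left_cancel (hrep.symm.trans (mul_one _).symm)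
      rw [hB, mul_one] at hAP
      have hg1 : g = 1 := mul_right_cancel (b := P) (Units.ext (hAP.trans (one_mul _).symm))
      rw [hg1, orderOf_one] at hg
      exact hp.ne_one hg.symm
    refine ⟨⟨μ, Finset.mem_erase.2 ⟨hne, hμ⟩⟩, Subtype.ext (ConjClasses.mk_eq_mk_iff_isConj.2 ?_)⟩
    refine isConj_iff.2 ⟨P * Q⁻¹, ?_⟩
    rw [mul_inv_rev, inv_inv, ← mul_assoc, mul_inv_eq_iff_eq_mul]
    refine Units.ext ?_
    simp only [Units.val_mul, hG]
    rw [hAP, mul_assoc (P : Matrix (Fin n) (Fin n) F) _ (rep F μ), mul_assoc]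
    congr 1
    rw [mul_assoc, hrep, ← mul_assoc, ← Units.val_mul, inv_mul_cancel, Units.val_one, one_mul]

end Cfsg.Agent.S2570
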