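import Cfsg.Statements.S0457
import Cfsg.Agent.Lib.ClassK.JankoWords
import Cfsg.Agent.Lib.Recog.JankoOneOrders

set_option autoImplicit false
open Cfsg

namespace Cfsg.Agent.S0457

open Cfsg.Agent.Recog Cfsg.Agent.Recog.JankoOne PackedEleven

local notation "GLJ" => GL (Fin 7) (ZMod 11)

/-- The element of a word. -/
def wd : List Bool → GLJ
  | [] => 1
  | b :: l => (bif b then Spor.jankoY else Spor.jankoX) * wd l

/-- The code of a word. -/
def wp : List Bool → ℕ
  | [] => JankoOne.one
  | b :: l => PackedEleven.mul (bif b then genY else genX) (wp l)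

theorem wp_spec : ∀ l, Small (wp l) ∧ toMat (wp l) = (wd l).val
  | [] => ⟨small_spread _, by rw [wp, one_val, wd, Units.val_one]⟩
  | true :: l => by
    obtain ⟨h1, h2⟩ := wp_spec l
    have hy : Small genY := small_spread _
    refine ⟨small_mul hy h1, ?_⟩
    show toMat (PackedEleven.mul genY (wp l)) = (Spor.jankoY * wd l : GLJ).val
    rw [toMat_mul hy h1, h2, genY_val, Units.val_mul]
  | false :: l => by
    obtain ⟨h1, h2⟩ := wp_spec l
    have hx : Small genX := small_spread _
    refine ⟨small_mul hx h1, ?_⟩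
    show toMat (PackedEleven.mul genX (wp l)) = (Spor.jankoX * wd l : GLJ).val
    rw [toMat_mul hx h1, h2, genX_val, Units.val_mul]

theorem wd_append : ∀ a b, wd (a ++ b) = wd a * wd b
  | [], b => by simp [wd]
  | c :: a, b => by
    show wd (c :: (a ++ b)) = wd (c :: a) * wd b
    simp only [wd]
    rw [wd_append a b, mul_assoc]

theorem wd_mem : ∀ l, wd l ∈ Spor.J1
  | [] => Subgroup.one_mem _
  | b :: l => Subgroup.mul_mem _ (by
      cases b
      · exact Subgroup.subset_closure (Set.mem_insert _ _)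
      · exact Subgroup.subset_closure (Set.mem_insert_of_mem _ rfl)) (wd_mem l)

theorem wd_eq {a b : List Bool} (h : Nat.beq (wp a) (wp b) = true) : wd a = wd b :=
  Units.ext (by rw [← (wp_spec a).2, ← (wp_spec b).2, beq_eq h])

theorem wd_ne {a b : List Bool} (h : toMat (wp a) ≠ toMat (wp b)) : wd a ≠ wd b := fun e =>
  h (by rw [(wp_spec a).2, (wp_spec b).2, e])

/-- Concatenation of copies. -/
def rep : ℕ → List Bool → List Bool
  | 0, _ => []
  | n + 1, l => l ++ rep n l

theorem wd_rep : ∀ n l, wd (rep n l) = wd l ^ n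
  | 0, l => by simp [rep, wd]
  | n + 1, l => by rw [rep, wd_append, wd_rep n l, pow_succ']

/-- Order check. -/
def ordOk (p : ℕ) (l : List Bool) : Bool :=
  Nat.beq (wp (rep p l)) (wp []) && !decide (toMat (wp l) = toMat (wp []))

/-- The elements of a group as a subgroup type. -/
def el (l : List Bool) : Spor.J1 := ⟨wd l, wd_mem l⟩

theorem ordOk_spec {p : ℕ} [Fact p.Prime] {l : List Bool} (h : ordOk p l = true) :
    el l ^ p = 1 ∧ orderOf (el l) = p := by
  simp only [ordOk, Bool.and_eq_true, Bool.not_eq_true', decide_eq_false_iff_not] at h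
  have h1 : el l ^ p = 1 := Subtype.ext (by
    rw [SubgroupClass.coe_pow]
    show wd l ^ p = 1
    rw [← wd_rep, wd_eq h.1]; rfl)
  exact ⟨h1, orderOf_eq_prime h1 fun e => wd_ne h.2 (congrArg Subtype.val e)⟩

theorem mem_normal_of_pow {G : Type*} [Group G] [Finite G] {N : Subgroup G} [N.Normal] {p : ℕ}
    (hp : p.Prime) (hi : ¬ p ∣ N.index) {a : G} (ha : a ^ p = 1) : a ∈ N := by
  rw [← QuotientGroup.eq_one_iff, ← orderOf_eq_one_iff]
  have h1 : orderOf (a : G ⧸ N) ∣ p := orderOf_dvd_of_pow_eq_one (by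
    rw [← QuotientGroup.mk_pow, ha, QuotientGroup.mk_one])
  have h2 : orderOf (a : G ⧸ N) ∣ N.index := orderOf_dvd_natCard _
  rcases hp.eq_one_or_self_of_dvd _ h1 with h | h
  · exact h
  · exact absurd (h ▸ h2) hi

theorem ord3 : ordOk 3 e3 = true := by decide +kernel
theorem ord5 : ordOk 5 e5 = true := by decide +kernel
theorem ord7 : ordOk 7 e7 = true := by decide +kernel
theorem ord11 : ordOk 11 e11 = true := by decide +kernel
theorem ord19 : ordOk 19 e19 = true := by decide +kernel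

theorem syl_ok : (sylW.length == 8) = true ∧
    (sylW.all fun a => sylW.all fun b => sylW.any fun c => Nat.beq (wp (a ++ b)) (wp c)) = true ∧
    ((List.range 8).all fun i => (List.range i).all fun j =>
      !decide (toMat (wp (sylW.getD i [])) = toMat (wp (sylW.getD j [])))) = true ∧
    (sylW.contains []) = true := by
  refine ⟨?_, ?_, ?_, ?_⟩ <;> decide +kernel

theorem cj_ok : ((List.range 7).all fun i => sylW.all fun s =>
    !decide (toMat (wp (cjW.getD i [] ++ sylW.getD (i + 1) [])) =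
      toMat (wp (s ++ cjW.getD i [])))) = true ∧ (sylW.getD 0 [] == []) = true := by
  refine ⟨?_, ?_⟩ <;> decide +kernel

theorem to19_ok : ((List.range 4).all fun i =>
    Nat.beq (wp ((to19W.getD i ([], [])).1 ++ (to19W.getD i ([], [])).2)) (wp []) &&
      ordOk 19 ([e3, e5, e7, e11].getD i [] ++ ((to19W.getD i ([], [])).1 ++
        ([e3, e5, e7, e11].getD i [] ++ (to19W.getD i ([], [])).2)))) = true := by
  decide +kernel

theorem uv_ok : ((List.range 2).all fun i =>
    ordOk 19 (uvW.getD i ([], [])).1 && ordOk 19 (uvW.getD i ([], [])).2 &&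
      Nat.beq (wp ((uvW.getD i ([], [])).1 ++ (uvW.getD i ([], [])).2))
        (wp [[false], [true]][i]!)) = true := by
  decide +kernel

theorem card_le : Nat.card Spor.J1 ≤ 175560 := by
  classical
  let f : Fin 1596 × Fin 110 → Matrix (Fin 7) (Fin 7) (ZMod 11) := fun q =>
    toMat (repMat q.1) * toMat (subMat q.2)
  let g : Spor.J1 → Set.range f := fun a =>
    ⟨(a : GLJ).val, by
      obtain ⟨i, hi, k, hk, h⟩ := exists_form a.2
      exact ⟨(⟨i, hi⟩, ⟨k, hk⟩), h.symm⟩⟩
  have hg : Function.Injective g := fun a b h =>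
    Subtype.ext (Units.ext (congrArg Subtype.val h))
  calc Nat.card Spor.J1 ≤ Nat.card (Set.range f) := Nat.card_le_card_of_injective g hg
    _ ≤ Nat.card (Fin 1596 × Fin 110) :=
      Nat.card_le_card_of_surjective (Set.rangeFactorization f) Set.rangeFactorization_surjective
    _ = 175560 := by rw [Nat.card_prod, Nat.card_fin, Nat.card_fin]

theorem exists_syl : ∃ S : Subgroup Spor.J1, Nat.card S = 8 ∧
    ∀ a ∈ S, a ≠ 1 → ∃ g : Spor.J1, g * a * g⁻¹ ∉ S := by
  classical
  obtain ⟨hlen, hcl, hnd, h1⟩ := syl_ok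
  simp only [List.all_eq_true, List.any_eq_true, List.contains_iff_mem, beq_iff_eq,
    List.mem_range, Bool.not_eq_true', decide_eq_false_iff_not] at hlen hcl hnd h1
  let f : Fin 8 → Spor.J1 := fun i => el (sylW.getD i [])
  have hmem : ∀ i : Fin 8, sylW.getD i [] ∈ sylW := fun i => by
    rw [List.getD_eq_getElem _ _ (by omega : (i : ℕ) < sylW.length)]
    exact List.getElem_mem _
  have hsur : ∀ w ∈ sylW, ∃ i : Fin 8, sylW.getD i [] = w := fun w hw => by
    obtain ⟨k, hk, rfl⟩ := List.mem_iff_getElem.1 hw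
    exact ⟨⟨k, by omega⟩, List.getD_eq_getElem _ _ hk⟩
  have hinj : Function.Injective f := by
    intro i j h
    have h' : wd (sylW.getD i []) = wd (sylW.getD j []) := congrArg Subtype.val h
    rcases lt_trichotomy (i : ℕ) j with hl | hl | hl
    · exact absurd h'.symm (wd_ne (hnd j j.isLt i hl))
    · exact Fin.ext hl
    · exact absurd h' (wd_ne (hnd i i.isLt j hl))
  let N : Submonoid Spor.J1 :=
    { carrier := Set.range f
      one_mem' := by
        obtain ⟨i, hi⟩ := hsur [] h1
        exact ⟨i, Subtype.ext (show wd (sylW.getD i []) = 1 by rw [hi]; rfl)⟩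
      mul_mem' := by
        rintro _ _ ⟨a, rfl⟩ ⟨b, rfl⟩
        obtain ⟨c, hc, he⟩ := hcl _ (hmem a) _ (hmem b)
        obtain ⟨i, rfl⟩ := hsur c hc
        exact ⟨i, Subtype.ext (show wd _ = wd _ * wd _ by rw [← wd_append, wd_eq he])⟩ }
  have : Finite Spor.J1 := inferInstance
  let S : Subgroup Spor.J1 := { N with
    inv_mem' := fun {x} hx => by
      have h : x * x ^ (orderOf x - 1) = 1 := by
        rw [← pow_succ', Nat.sub_add_cancel (orderOf_pos x), pow_orderOf_eq_one]
      rw [inv_eq_of_mul_eq_one_right h]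
      exact N.pow_mem hx _ }
  refine ⟨S, ?_, ?_⟩
  · show Nat.card (Set.range f) = 8
    rw [Nat.card_range_of_injective hinj, Nat.card_fin]
  · rintro a ⟨i, rfl⟩ hne
    obtain ⟨hc, h0⟩ := cj_ok
    simp only [List.all_eq_true, List.mem_range, Bool.not_eq_true', decide_eq_false_iff_not,
      beq_iff_eq] at hc h0
    have hi : (i : ℕ) ≠ 0 := fun h => hne (Subtype.ext (show wd (sylW.getD i []) = 1 by
      rw [h, h0]; rfl))
    refine ⟨el (cjW.getD ((i : ℕ) - 1) []), ?_⟩
    rintro ⟨j, hj⟩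
    have h := hc ((i : ℕ) - 1) (by omega) _ (hmem j)
    rw [Nat.sub_add_cancel (Nat.pos_of_ne_zero hi)] at h
    apply wd_ne h
    rw [wd_append, wd_append]
    exact congrArg Subtype.val (eq_mul_inv_iff_mul_eq.1 hj).symm

theorem card_J1 : Nat.card Spor.J1 = 175560 := by
  refine le_antisymm card_le (Nat.le_of_dvd Nat.card_pos ?_)
  obtain ⟨S, hS, -⟩ := exists_syl
  have h8 : 8 ∣ Nat.card Spor.J1 := hS ▸ Subgroup.card_subgroup_dvd_card S
  have hd : ∀ (p : ℕ) [Fact p.Prime] (l : List Bool), ordOk p l = true →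
      p ∣ Nat.card Spor.J1 := fun p _ l h => by
    have := orderOf_dvd_natCard (el l)
    rwa [(ordOk_spec h).2] at this
  have : Fact (Nat.Prime 3) := ⟨by norm_num⟩
  have : Fact (Nat.Prime 5) := ⟨by norm_num⟩
  have : Fact (Nat.Prime 7) := ⟨by norm_num⟩
  have : Fact (Nat.Prime 11) := ⟨by norm_num⟩
  have : Fact (Nat.Prime 19) := ⟨by norm_num⟩
  rw [show (175560 : ℕ) = 8 * 3 * 5 * 7 * 11 * 19 by norm_num]
  exact Nat.Coprime.mul_dvd_of_dvd_of_dvd (by norm_num) (Nat.Coprime.mul_dvd_of_dvd_of_dvd (by norm_num)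
    (Nat.Coprime.mul_dvd_of_dvd_of_dvd (by norm_num) (Nat.Coprime.mul_dvd_of_dvd_of_dvd (by norm_num)
    (Nat.Coprime.mul_dvd_of_dvd_of_dvd (by norm_num) h8 (hd 3 _ ord3)) (hd 5 _ ord5))
    (hd 7 _ ord7)) (hd 11 _ ord11)) (hd 19 _ ord19)

theorem simple_J1 : IsSimpleGroup Spor.J1 := by
  classical
  have : Fact (Nat.Prime 3) := ⟨by norm_num⟩
  have : Fact (Nat.Prime 5) := ⟨by norm_num⟩
  have : Fact (Nat.Prime 7) := ⟨by norm_num⟩
  have : Fact (Nat.Prime 11) := ⟨by norm_num⟩
  have : Fact (Nat.Prime 19) := ⟨by norm_num⟩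
  have hnt : Nontrivial Spor.J1 := Finite.one_lt_card_iff_nontrivial.1 (by rw [card_J1]; norm_num)
  refine { hnt with eq_bot_or_eq_top_of_normal := fun N hN => ?_ }
  have hmul := N.index_mul_card
  rw [card_J1] at hmul
  have hall : ∀ p, p.Prime → p ∣ Nat.card N → ¬ p * p ∣ 175560 → ∀ a : Spor.J1, a ^ p = 1 →
      a ∈ N := fun p hp hpN hp2 a ha =>
    mem_normal_of_pow hp (fun hi => hp2 (hmul ▸ mul_dvd_mul hi hpN)) ha
  have top : 19 ∣ Nat.card N → N = ⊤ := fun h19 => by
    have hu := uv_ok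
    simp only [List.all_eq_true, List.mem_range, Bool.and_eq_true] at hu
    have hin : ∀ i < 2, el ([[false], [true]][i]!) ∈ N := fun i hi => by
      obtain ⟨⟨hu1, hu2⟩, hu3⟩ := hu i hi
      have := N.mul_mem (hall 19 (by norm_num) h19 (by norm_num) _ (ordOk_spec hu1).1)
        (hall 19 (by norm_num) h19 (by norm_num) _ (ordOk_spec hu2).1)
      convert this using 1
      exact Subtype.ext (show wd _ = wd _ * wd _ by rw [← wd_append, wd_eq hu3])
    have hX : (⟨Spor.jankoX, jankoX_mem⟩ : Spor.J1) ∈ N := by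
      convert hin 0 (by norm_num) using 1
      exact Subtype.ext (show Spor.jankoX = wd [false] by simp [wd])
    have hY : (⟨Spor.jankoY, jankoY_mem⟩ : Spor.J1) ∈ N := by
      convert hin 1 (by norm_num) using 1
      exact Subtype.ext (show Spor.jankoY = wd [true] by simp [wd])
    rw [eq_top_iff]
    intro a _
    have key : Spor.J1 ≤ N.map Spor.J1.subtype := (Subgroup.closure_le _).2 (by
      rintro _ (rfl | rfl)
      · exact ⟨_, hX, rfl⟩
      · exact ⟨_, hY, rfl⟩)
    obtain ⟨b, hb, hba⟩ := key a.2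
    rwa [Subtype.ext (hba : (b : GLJ) = a)] at hb
  have small : ∀ i < 4, ∀ p, p.Prime → [3, 5, 7, 11].getD i 0 = p →
      ordOk p ([e3, e5, e7, e11].getD i []) = true → ¬ p * p ∣ 175560 → p ∣ Nat.card N → N = ⊤ := by
    intro i hi p hp _ hord hp2 hpN
    have : Fact p.Prime := ⟨hp⟩
    have he := hall p hp hpN hp2 _ (ordOk_spec hord).1
    have hw := to19_ok
    simp only [List.all_eq_true, List.mem_range, Bool.and_eq_true] at hw
    obtain ⟨hgi, h19⟩ := hw i hi
    set e := [e3, e5, e7, e11].getD i []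
    set g := (to19W.getD i ([], [])).1
    set gi := (to19W.getD i ([], [])).2
    have hinv : el gi = (el g)⁻¹ := eq_inv_of_mul_eq_one_right
      (Subtype.ext (show wd g * wd gi = 1 by rw [← wd_append, wd_eq hgi]; rfl))
    have hwN : el (e ++ (g ++ (e ++ gi))) ∈ N := by
      have : el (e ++ (g ++ (e ++ gi))) = el e * (el g * el e * (el g)⁻¹) := by
        rw [← hinv]
        exact Subtype.ext (show wd _ = wd _ * (wd _ * wd _ * wd _) by
          simp only [wd_append, mul_assoc])
      rw [this]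
      exact N.mul_mem he (hN.conj_mem _ he _)
    refine top ?_
    have h := orderOf_dvd_natCard (⟨_, hwN⟩ : N)
    rwa [Subgroup.orderOf_mk, (ordOk_spec h19).2] at h
  by_cases h3 : 3 ∣ Nat.card N
  · exact Or.inr (small 0 (by norm_num) 3 (by norm_num) rfl ord3 (by norm_num) h3)
  by_cases h5 : 5 ∣ Nat.card N
  · exact Or.inr (small 1 (by norm_num) 5 (by norm_num) rfl ord5 (by norm_num) h5)
  by_cases h7 : 7 ∣ Nat.card N
  · exact Or.inr (small 2 (by norm_num) 7 (by norm_num) rfl ord7 (by norm_num) h7)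
  by_cases h11 : 11 ∣ Nat.card N
  · exact Or.inr (small 3 (by norm_num) 11 (by norm_num) rfl ord11 (by norm_num) h11)
  by_cases h19 : 19 ∣ Nat.card N
  · exact Or.inr (top h19)
  left
  have hd8 : Nat.card N ∣ 8 := by
    have hd : Nat.card N ∣ 8 * 21945 := ⟨N.index, by rw [mul_comm (Nat.card N), hmul]⟩
    refine (Nat.Coprime.dvd_mul_right ?_).1 hd
    have c := fun (p : ℕ) (hp : p.Prime) (h : ¬ p ∣ Nat.card N) => ((hp.coprime_iff_not_dvd).2 h).symm
    rw [show (21945 : ℕ) = 3 * 5 * 7 * 11 * 19 by norm_num]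
    exact Nat.Coprime.mul_right (Nat.Coprime.mul_right (Nat.Coprime.mul_right (Nat.Coprime.mul_right
      (c 3 (by norm_num) h3) (c 5 (by norm_num) h5)) (c 7 (by norm_num) h7))
      (c 11 (by norm_num) h11)) (c 19 (by norm_num) h19)
  obtain ⟨S, hS, hfree⟩ := exists_syl
  have hNS : N ≤ S := by
    have hP : IsPGroup 2 S := IsPGroup.of_card (n := 3) (by rw [hS]; norm_num)
    have hNp : IsPGroup 2 N := by
      obtain ⟨k, -, hk⟩ := (Nat.dvd_prime_pow Nat.prime_two).1 (show Nat.card N ∣ 2 ^ 3 from hd8)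
      exact IsPGroup.of_card hk
    have hidx : ¬ 2 ∣ S.index := by
      have := S.index_mul_card
      rw [hS, card_J1] at this
      omega
    have hsup := IsPGroup.to_sup_of_normal_right hP hNp
    have hle : S = S ⊔ N := (hP.toSylow hidx).is_maximal' hsup le_sup_left |>.symm
    exact hle ▸ le_sup_right
  rw [Subgroup.eq_bot_iff_forall]
  intro a ha
  by_contra hne
  obtain ⟨g, hg⟩ := hfree a (hNS ha) hne
  exact hg (hNS (hN.conj_mem a ha g))

/-- The subgroup of GL(7, 11) generated by the two explicit Janko matrices is simple of order 175560. -/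
theorem result : ∃ x y : GL (Fin 7) (ZMod 11), (x : Matrix (Fin 7) (Fin 7) (ZMod 11)) = Cfsg.jankoMatrixX ∧ (y : Matrix (Fin 7) (Fin 7) (ZMod 11)) = Cfsg.jankoMatrixY ∧ Cfsg.IsJ1 (Subgroup.closure ({x, y} : Set (GL (Fin 7) (ZMod 11)))) := by
  exact ⟨Spor.jankoX, Spor.jankoY, rfl, rfl, simple_J1, card_J1⟩

end Cfsg.Agent.S0457
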