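import Cfsg.Statements.S1516
import Cfsg.Agent.Lib.OddChar.Coherence

set_option autoImplicit false
open Cfsg

namespace Cfsg.Agent.S1516

/-- Let (S, τ, R) be a coherence system from L to G with degrees φ 1 = d φ and squared norms ⟨φ, φ⟩ = n φ for φ ∈ S. Let S₁ ⊆ S be a finite subset closed under complex conjugation such that (S₁, L minus 1, τ) is coherent, let χ ∈ S with χ ∉ S₁ and conj χ ∉ S₁, and let χ₁ ∈ S₁ with d χ₁ dividing d χ and 2 d χ d χ₁ < Σ_{φ ∈ S₁} (d φ)² / n φ. Then S₁ together with χ and conj χ is coherent. -/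
theorem result {L : Type*} [Group L] [Fintype L] {G : Type*} [Group G] [Fintype G] (S : Set (L → ℂ)) (τ : (L → ℂ) → (G → ℂ)) (R : (L → ℂ) → Finset (G → ℂ)) (hS : Cfsg.IsCoherenceSystem S τ R) (d n : (L → ℂ) → ℕ) (hd : ∀ φ ∈ S, φ 1 = (d φ : ℂ)) (hn : ∀ φ ∈ S, Cfsg.classInner φ φ = (n φ : ℂ)) (S₁ : Finset (L → ℂ)) (hS₁ : ↑S₁ ⊆ S) (hS₁c : ∀ φ ∈ S₁, Cfsg.conjFun φ ∈ S₁) (hcoh : Cfsg.IsCoherent (↑S₁ : Set (L → ℂ)) {1}ᶜ τ) (χ : L → ℂ) (hχ : χ ∈ S) (hχ₁ : χ ∉ S₁) (hχ₂ : Cfsg.conjFun χ ∉ S₁) (χ₁ : L → ℂ) (hχ₁S : χ₁ ∈ S₁) (hdvd : d χ₁ ∣ d χ) (hineq : (2 * d χ * d χ₁ : ℝ) < ∑ φ ∈ S₁, ((d φ : ℝ) ^ 2 / (n φ : ℝ))) : Cfsg.IsCoherent (↑S₁ ∪ {χ, Cfsg.conjFun χ} : Set (L → ℂ)) {1}ᶜ τ := by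
  classical
  obtain ⟨⟨α₀, hα₀, hα₀ne⟩, τ₁, hτ₁, hag⟩ := hcoh
  have hχc := hS.conj_mem χ hχ
  have hne := hS.conj_ne χ hχ
  have horth := hS.orthogonal
  have hz1 : ∀ φ ∈ S₁, φ ∈ Cfsg.zspan (↑S₁ : Set (L → ℂ)) := fun φ hφ => OddChar.zspan_self hφ
  have hd0 : ∀ φ ∈ S, 0 < d φ := by
    intro φ hφ
    refine Nat.pos_of_ne_zero fun h0 => OddChar.cs_ne_zero hS hφ ?_
    obtain ⟨r, ρ, hρ⟩ := hS.isCharacter φ hφ
    have hr : r = 0 := by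
      have h := hd φ hφ
      rw [h0, ← hρ, Representation.char_one] at h
      simpa using h
    subst hr
    funext g
    rw [← hρ]
    simp [Representation.character, Subsingleton.elim (ρ g) 0]
  have hn0 : ∀ φ ∈ S, 0 < n φ := by
    intro φ hφ
    obtain ⟨k, hk, hk'⟩ := OddChar.cs_norm hS hφ
    rw [hn φ hφ] at hk'
    have : n φ = k := by exact_mod_cast hk'
    omega
  have hχ₁ne : ∀ φ ∈ S₁, φ ≠ χ ∧ φ ≠ Cfsg.conjFun χ := fun φ hφ =>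
    ⟨fun e => hχ₁ (e ▸ hφ), fun e => hχ₂ (e ▸ hφ)⟩
  obtain ⟨a, ha⟩ := hdvd
  have hχ₁' : χ₁ ∈ S := hS₁ hχ₁S
  have hd1 := hd0 χ₁ hχ₁'
  have hm1 : χ - (a : ℤ) • χ₁ ∈ Cfsg.zspanOn S {1}ᶜ :=
    OddChar.zspanOn_iff.mpr ⟨OddChar.zspan_sub (OddChar.zspan_self hχ)
      (OddChar.zspan_smul _ (OddChar.zspan_self hχ₁')), by simp [hd χ hχ, hd χ₁ hχ₁', ha, mul_comm]⟩
  obtain ⟨β, hβ⟩ : ∃ β, β = τ (χ - (a : ℤ) • χ₁) := ⟨_, rfl⟩
  have hβg : Cfsg.IsGeneralizedCharacter G β := hβ ▸ hS.isometry.2.2.2 _ hm1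
  have hR := OddChar.cs_conj_diff_mem hS hχ
  have hc1 := (hχ₁ne χ₁ hχ₁S)
  have o1 := horth χ hχ χ₁ hχ₁' hc1.1.symm
  have o1' := horth χ₁ hχ₁' χ hχ hc1.1
  have hβR : Cfsg.classInner β (τ (χ - Cfsg.conjFun χ)) = ((n χ : ℤ) : ℂ) := by
    rw [hβ, hS.isometry.2.2.1 _ hm1 _ hR]
    simp only [CT.classInner_sub_left, CT.classInner_sub_right, OddChar.classInner_zsmul_left,
      hn χ hχ, o1', horth χ hχ _ hχc hne.symm, horth χ₁ hχ₁' _ hχc hc1.2]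
    simp
  have hββ : Cfsg.classInner β β = (n χ : ℂ) + (a : ℂ) ^ 2 * (n χ₁ : ℂ) := by
    rw [hβ, hS.isometry.2.2.1 _ hm1 _ hm1]
    simp only [CT.classInner_sub_left, CT.classInner_sub_right, OddChar.classInner_zsmul_left,
      OddChar.classInner_zsmul_right, o1, o1', hn χ hχ, hn χ₁ hχ₁']
    push_cast
    ring
  obtain ⟨c, hc, -, hcle, -⟩ := OddChar.cs_projection hS hχ hβg hβR
  obtain ⟨X, hX⟩ : ∃ X, X = ∑ α ∈ R χ, (c α : ℂ) • α := ⟨_, rfl⟩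
  obtain ⟨hXX, hZZ, hZo⟩ := OddChar.cs_projection_norm hS hχ c hc
  rw [← hX] at hXX hZZ hZo
  have hperp : ∀ α ∈ R χ, ∀ φ ∈ S₁, Cfsg.classInner (τ₁ φ) α = 0 := fun α hα φ hφ =>
    OddChar.cs_coherent_image hS hS₁ hτ₁ hag hφ (hS₁c φ hφ) fun b hb =>
      hS.disjoint χ hχ φ (hS₁ hφ) (horth φ (hS₁ hφ) χ hχ (hχ₁ne φ hφ).1)
        (horth φ (hS₁ hφ) _ hχc (hχ₁ne φ hφ).2) b hb α hα
  have hXperp : ∀ φ ∈ S₁, Cfsg.classInner X (τ₁ φ) = 0 := by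
    intro φ hφ
    rw [hX, CT.classInner_sum_left]
    exact Finset.sum_eq_zero fun α hα => by
      rw [CT.classInner_smul_left, OddChar.isSigned_inner_symm_eq_zero (hperp α hα φ hφ), mul_zero]
  have hint : ∀ φ : L → ℂ, ∃ k : ℤ, φ ∈ S₁ → Cfsg.classInner β (τ₁ φ) = k := by
    intro φ
    by_cases h : φ ∈ S₁
    · obtain ⟨k, hk⟩ := OddChar.gen_inner_int hβg (hτ₁.2.2.2 φ (hz1 φ h))
      exact ⟨k, fun _ => hk⟩
    · exact ⟨0, fun h' => absurd h' h⟩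
  choose k hk using hint
  obtain ⟨e, he⟩ : ∃ e : ℤ, e = k χ₁ + (a : ℤ) * (n χ₁ : ℤ) := ⟨_, rfl⟩
  have hrel : ∀ φ ∈ S₁, (d χ₁ : ℝ) * (k φ : ℝ) = (d φ : ℝ) * (e : ℝ) -
      (if φ = χ₁ then (a : ℝ) * d χ₁ * n χ₁ else 0) := by
    intro φ hφ
    have hm := OddChar.deg_comb_mem (S₁ := (↑S₁ : Set (L → ℂ))) hφ hχ₁S (hd φ (hS₁ hφ)) (hd χ₁ hχ₁')
    have h : Cfsg.classInner β (τ₁ ((d χ₁ : ℤ) • φ - (d φ : ℤ) • χ₁)) =
        Cfsg.classInner (χ - (a : ℤ) • χ₁) ((d χ₁ : ℤ) • φ - (d φ : ℤ) • χ₁) := by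
      rw [hag _ hm, hβ, hS.isometry.2.2.1 _ hm1 _ (OddChar.zspanOn_mono hS₁ hm)]
    rw [OddChar.iso_zspan_sub hτ₁ (OddChar.zspan_smul _ (hz1 φ hφ))
      (OddChar.zspan_smul _ (hz1 χ₁ hχ₁S)), hτ₁.2.1 _ (hz1 φ hφ), hτ₁.2.1 _ (hz1 χ₁ hχ₁S)] at h
    simp only [CT.classInner_sub_left, CT.classInner_sub_right, OddChar.classInner_zsmul_left,
      OddChar.classInner_zsmul_right, hk φ hφ, hk χ₁ hχ₁S, o1,
      horth χ hχ φ (hS₁ hφ) (hχ₁ne φ hφ).1.symm, hn χ₁ hχ₁'] at h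
    by_cases hφ1 : φ = χ₁
    · subst hφ1
      rw [if_pos rfl, he]
      push_cast
      ring
    · rw [if_neg hφ1, he, sub_zero]
      rw [horth χ₁ hχ₁' φ (hS₁ hφ) (Ne.symm hφ1)] at h
      have h2 : ((((d χ₁ : ℤ) * k φ - (d φ : ℤ) * k χ₁ : ℤ)) : ℂ) =
          (((a : ℤ) * ((d φ : ℤ) * (n χ₁ : ℤ)) : ℤ) : ℂ) := by
        push_cast at h ⊢
        linear_combination h
      have h3 : (d χ₁ : ℤ) * k φ - (d φ : ℤ) * k χ₁ = (a : ℤ) * ((d φ : ℤ) * (n χ₁ : ℤ)) := by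
        exact_mod_cast h2
      have h4 : (d χ₁ : ℝ) * (k φ : ℝ) - (d φ : ℝ) * (k χ₁ : ℝ) = (a : ℝ) * ((d φ : ℝ) * (n χ₁ : ℝ)) := by
        exact_mod_cast h3
      push_cast
      linarith
  -- Bessel on the remainder
  have hbes := OddChar.bessel S₁ τ₁ (fun φ => (((k φ : ℝ) / (n φ : ℝ) : ℝ) : ℂ)) (β - X)
    (fun i hi j hj hij => by
      rw [hτ₁.2.2.1 i (hz1 i hi) j (hz1 j hj), horth i (hS₁ hi) j (hS₁ hj) hij])
    (fun i hi => by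
      rw [CT.classInner_sub_left, hk i hi, hXperp i hi, sub_zero, hτ₁.2.2.1 i (hz1 i hi) i (hz1 i hi),
        hn i (hS₁ hi)]
      have : (n i : ℂ) ≠ 0 := Nat.cast_ne_zero.mpr (hn0 i (hS₁ hi)).ne'
      push_cast
      field_simp)
  obtain ⟨hbn, -⟩ := hbes
  have hsum : (Cfsg.classInner (β - X - ∑ φ ∈ S₁, (((k φ : ℝ) / (n φ : ℝ) : ℝ) : ℂ) • τ₁ φ)
      (β - X - ∑ φ ∈ S₁, (((k φ : ℝ) / (n φ : ℝ) : ℝ) : ℂ) • τ₁ φ)).re =
      (n χ : ℝ) + (a : ℝ) ^ 2 * (n χ₁ : ℝ) - ((∑ α ∈ R χ, c α ^ 2 : ℤ) : ℝ) -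
        ∑ φ ∈ S₁, (k φ : ℝ) ^ 2 / (n φ : ℝ) := by
    rw [hbn, hZZ, hββ]
    have h1 : ∀ φ ∈ S₁, (((k φ : ℝ) / (n φ : ℝ) : ℝ) : ℂ) *
        (starRingEnd ℂ) (((k φ : ℝ) / (n φ : ℝ) : ℝ) : ℂ) * Cfsg.classInner (τ₁ φ) (τ₁ φ) =
        (((k φ : ℝ) ^ 2 / (n φ : ℝ) : ℝ) : ℂ) := by
      intro φ hφ
      rw [hτ₁.2.2.1 φ (hz1 φ hφ) φ (hz1 φ hφ), hn φ (hS₁ hφ), Complex.conj_ofReal,
        ← Complex.ofReal_natCast, ← Complex.ofReal_mul, ← Complex.ofReal_mul]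
      have : (n φ : ℝ) ≠ 0 := Nat.cast_ne_zero.mpr (hn0 φ (hS₁ hφ)).ne'
      congr 1
      field_simp
    rw [Finset.sum_congr rfl h1, ← Complex.ofReal_sum, ← Complex.ofReal_natCast, ← Complex.ofReal_natCast,
      ← Complex.ofReal_natCast, ← Complex.ofReal_intCast, ← Complex.ofReal_pow, ← Complex.ofReal_mul,
      ← Complex.ofReal_add, ← Complex.ofReal_sub, ← Complex.ofReal_sub, Complex.ofReal_re]
  have hnn := OddChar.classInner_self_re_nonneg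
    (β - X - ∑ φ ∈ S₁, (((k φ : ℝ) / (n φ : ℝ) : ℝ) : ℂ) • τ₁ φ)
  rw [hsum] at hnn
  have hcle' : (n χ : ℝ) ≤ ((∑ α ∈ R χ, c α ^ 2 : ℤ) : ℝ) := by
    have : ((n χ : ℤ) : ℝ) ≤ ((∑ α ∈ R χ, c α ^ 2 : ℤ) : ℝ) := Int.cast_le.mpr hcle
    simpa using this
  have hS2 : (d χ₁ : ℝ) ^ 2 * ∑ φ ∈ S₁, (k φ : ℝ) ^ 2 / (n φ : ℝ) =
      (e : ℝ) ^ 2 * (∑ φ ∈ S₁, (d φ : ℝ) ^ 2 / (n φ : ℝ)) - 2 * a * e * (d χ₁ : ℝ) ^ 2 +
        (a : ℝ) ^ 2 * (d χ₁ : ℝ) ^ 2 * n χ₁ := by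
    have hterm : ∀ φ ∈ S₁, (d χ₁ : ℝ) ^ 2 * ((k φ : ℝ) ^ 2 / (n φ : ℝ)) =
        (e : ℝ) ^ 2 * ((d φ : ℝ) ^ 2 / (n φ : ℝ)) +
          if φ = χ₁ then -(2 * a * e * (d χ₁ : ℝ) ^ 2) + (a : ℝ) ^ 2 * (d χ₁ : ℝ) ^ 2 * n χ₁ else 0 := by
      intro φ hφ
      have hnp : (n φ : ℝ) ≠ 0 := Nat.cast_ne_zero.mpr (hn0 φ (hS₁ hφ)).ne'
      rw [← mul_div_assoc, ← mul_pow, hrel φ hφ]
      by_cases h : φ = χ₁
      · subst h
        rw [if_pos rfl, if_pos rfl]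
        field_simp
        ring
      · rw [if_neg h, if_neg h]
        field_simp
        ring
    rw [Finset.mul_sum, Finset.sum_congr rfl hterm, Finset.sum_add_distrib, Finset.sum_ite_eq', if_pos hχ₁S,
      ← Finset.mul_sum]
    ring
  have hdχ : (d χ : ℝ) = (a : ℝ) * d χ₁ := by rw [ha]; push_cast; ring
  have he0 : e = 0 := by
    by_contra h
    have hpos : (e : ℝ) ≤ (e : ℝ) ^ 2 := by
      rcases le_or_gt e 0 with h' | h'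
      · have h'' : (e : ℝ) ≤ 0 := by exact_mod_cast h'
        nlinarith
      · have h'' : (1 : ℝ) ≤ e := by exact_mod_cast h'
        nlinarith
    have he2 : (0 : ℝ) < (e : ℝ) ^ 2 := by
      have : (e : ℝ) ≠ 0 := Int.cast_ne_zero.mpr h
      positivity
    have h1 := mul_le_mul_of_nonneg_left hnn (sq_nonneg (d χ₁ : ℝ))
    rw [mul_zero, mul_sub, hS2] at h1
    have h2 := mul_lt_mul_of_pos_left hineq he2
    rw [hdχ] at h2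
    have h3 : 2 * (a : ℝ) * (d χ₁ : ℝ) ^ 2 * e ≤ 2 * (a : ℝ) * (d χ₁ : ℝ) ^ 2 * (e : ℝ) ^ 2 :=
      mul_le_mul_of_nonneg_left hpos (by positivity)
    have h4 := mul_le_mul_of_nonneg_left hcle' (sq_nonneg (d χ₁ : ℝ))
    nlinarith
  have hkφ : ∀ φ ∈ S₁, k φ = if φ = χ₁ then -((a : ℤ) * (n χ₁ : ℤ)) else 0 := by
    intro φ hφ
    have h := hrel φ hφ
    rw [he0] at h
    have hp : (d χ₁ : ℝ) ≠ 0 := Nat.cast_ne_zero.mpr hd1.ne'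
    by_cases h' : φ = χ₁
    · subst h'
      rw [if_pos rfl]
      omega
    · rw [if_neg h'] at h ⊢
      simpa [hp] using h
  have hzero : β = X - (a : ℤ) • τ₁ χ₁ ∧ ((∑ α ∈ R χ, c α ^ 2 : ℤ) : ℝ) = n χ := by
    have hsum2 : ∑ φ ∈ S₁, (k φ : ℝ) ^ 2 / (n φ : ℝ) = (a : ℝ) ^ 2 * n χ₁ := by
      rw [Finset.sum_eq_single χ₁]
      · rw [hkφ χ₁ hχ₁S, if_pos rfl]
        have : (n χ₁ : ℝ) ≠ 0 := Nat.cast_ne_zero.mpr (hn0 χ₁ hχ₁').ne'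
        push_cast
        field_simp
      · intro φ hφ h
        rw [hkφ φ hφ, if_neg h]
        simp
      · exact fun h => absurd hχ₁S h
    rw [hsum2] at hsum hnn
    have hce : ((∑ α ∈ R χ, c α ^ 2 : ℤ) : ℝ) = n χ := by linarith
    refine ⟨?_, hce⟩
    have h0 := OddChar.eq_zero_of_norm_re (hsum.trans (by linarith))
    rw [Finset.sum_eq_single χ₁, hkφ χ₁ hχ₁S, if_pos rfl] at h0
    · have hc' : ((((-((a : ℤ) * (n χ₁ : ℤ)) : ℤ) : ℝ) / (n χ₁ : ℝ) : ℝ) : ℂ) = -((a : ℤ) : ℂ) := by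
        have : (n χ₁ : ℂ) ≠ 0 := Nat.cast_ne_zero.mpr (hn0 χ₁ hχ₁').ne'
        push_cast
        field_simp
      rw [hc', neg_smul, sub_neg_eq_add, Int.cast_smul_eq_zsmul] at h0
      calc β = (β - X + (a : ℤ) • τ₁ χ₁) + (X - (a : ℤ) • τ₁ χ₁) := by abel
        _ = _ := by rw [h0, zero_add]
    · intro φ hφ h
      rw [hkφ φ hφ, if_neg h]
      simp
    · exact fun h => absurd hχ₁S h
  obtain ⟨hβX, hce⟩ := hzero
  have hXn : Cfsg.classInner X X = (n χ : ℂ) := by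
    rw [hXX]
    exact_mod_cast hce
  have hXR : Cfsg.classInner X (τ (χ - Cfsg.conjFun χ)) = (n χ : ℂ) := by
    rw [hS.sum_eq χ hχ, CT.classInner_sum_right]
    have : ∀ α ∈ R χ, Cfsg.classInner X α = Cfsg.classInner β α := fun α hα => by
      have := hZo α hα
      rw [CT.classInner_sub_left, sub_eq_zero] at this
      exact this.symm
    rw [Finset.sum_congr rfl this, ← CT.classInner_sum_right, ← hS.sum_eq χ hχ, hβR]
    simp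
  have hXg : Cfsg.IsGeneralizedCharacter G X := by
    rw [hX]
    exact CT.isGen_sum _ fun α hα => CT.isGen_zsmul _ (hS.virtual χ hχ α hα)
  have hRperp : ∀ φ ∈ S₁, Cfsg.classInner (τ (χ - Cfsg.conjFun χ)) (τ₁ φ) = 0 := by
    intro φ hφ
    rw [hS.sum_eq χ hχ, CT.classInner_sum_left]
    exact Finset.sum_eq_zero fun α hα => OddChar.isSigned_inner_symm_eq_zero (hperp α hα φ hφ)
  obtain ⟨X', hX'⟩ : ∃ X', X' = X - τ (χ - Cfsg.conjFun χ) := ⟨_, rfl⟩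
  have hRX : Cfsg.classInner (τ (χ - Cfsg.conjFun χ)) X = (n χ : ℂ) := by
    rw [← CT.classInner_conj_symm, hXR, map_natCast]
  have hX'X' : Cfsg.classInner X' X' = (n χ : ℂ) := by
    rw [hX', CT.classInner_sub_left, CT.classInner_sub_right, CT.classInner_sub_right, hXn, hXR, hRX,
      hS.isometry.2.2.1 _ hR _ hR, OddChar.cs_R_norm hS hχ, hn χ hχ]
    ring
  have hXX' : Cfsg.classInner X X' = 0 := by rw [hX', CT.classInner_sub_right, hXn, hXR, sub_self]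
  let F : (L → ℂ) → (G → ℂ) := fun φ =>
    if φ = χ then X else if φ = Cfsg.conjFun χ then X' else τ₁ φ
  have hFχ : F χ = X := if_pos rfl
  have hFc : F (Cfsg.conjFun χ) = X' := by simp only [F, if_neg hne, if_pos]
  have hF1 : ∀ φ ∈ S₁, F φ = τ₁ φ := fun φ hφ => by
    simp only [F, if_neg (hχ₁ne φ hφ).1, if_neg (hχ₁ne φ hφ).2]
  obtain ⟨T, hT⟩ : ∃ T : Finset (L → ℂ), T = S₁ ∪ {χ, Cfsg.conjFun χ} := ⟨_, rfl⟩
  have hTS : ∀ φ ∈ T, φ ∈ S := by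
    intro φ hφ
    simp only [hT, Finset.mem_union, Finset.mem_insert, Finset.mem_singleton] at hφ
    rcases hφ with h | rfl | rfl
    exacts [hS₁ h, hχ, hχc]
  have hcases : ∀ φ ∈ T, φ ∈ S₁ ∨ φ = χ ∨ φ = Cfsg.conjFun χ := by
    intro φ hφ
    simp only [hT, Finset.mem_union, Finset.mem_insert, Finset.mem_singleton] at hφ
    exact hφ
  have hTo : ∀ φ ∈ T, ∀ ψ ∈ T, φ ≠ ψ → Cfsg.classInner φ ψ = 0 :=
    fun φ hφ ψ hψ => horth φ (hTS φ hφ) ψ (hTS ψ hψ)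
  refine OddChar.isCoherent_of_images F (T := T) (by rw [hT]; simp) hTo
    (fun φ hφ => OddChar.cs_ne_zero hS (hTS φ hφ)) ?_ ?_
    ⟨α₀, OddChar.zspanOn_mono (Set.subset_union_left) hα₀, hα₀ne⟩ ?_
  · intro φ hφ
    rcases hcases φ hφ with h | rfl | rfl
    · rw [hF1 φ h]; exact hτ₁.2.2.2 φ (hz1 φ h)
    · rw [hFχ]; exact hXg
    · rw [hFc, hX']; exact CT.isGen_sub hXg (hS.isometry.2.2.2 _ hR)
  · intro φ hφ ψ hψ
    have k1 : ∀ ψ ∈ S₁, Cfsg.classInner X' (τ₁ ψ) = 0 := fun ψ h => by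
      rw [hX', CT.classInner_sub_left, hXperp ψ h, hRperp ψ h, sub_zero]
    rcases hcases φ hφ with h | rfl | rfl <;> rcases hcases ψ hψ with h' | rfl | rfl
    · rw [hF1 φ h, hF1 ψ h', hτ₁.2.2.1 φ (hz1 φ h) ψ (hz1 ψ h')]
    · rw [hF1 φ h, hFχ, OddChar.isSigned_inner_symm_eq_zero (hXperp φ h),
        horth φ (hS₁ h) _ hχ (hχ₁ne φ h).1]
    · rw [hF1 φ h, hFc, OddChar.isSigned_inner_symm_eq_zero (k1 φ h),
        horth φ (hS₁ h) _ hχc (hχ₁ne φ h).2]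
    · rw [hF1 ψ h', hFχ, hXperp ψ h', horth _ hχ ψ (hS₁ h') (hχ₁ne ψ h').1.symm]
    · rw [hFχ, hXn, hn _ hχ]
    · rw [hFχ, hFc, hXX', horth _ hχ _ hχc hne.symm]
    · rw [hF1 ψ h', hFc, k1 ψ h', horth _ hχc ψ (hS₁ h') (hχ₁ne ψ h').2.symm]
    · rw [hFc, hFχ, OddChar.isSigned_inner_symm_eq_zero hXX', horth _ hχc _ hχ hne]
    · rw [hFc, hX'X', OddChar.cs_conj_norm hS hχ, hn _ hχ]
  · intro α hα
    have key : ∀ α ∈ Cfsg.zspan (↑S₁ ∪ {χ, Cfsg.conjFun χ} : Set (L → ℂ)),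
        ∃ (b : L → ℂ) (i j : ℤ), b ∈ Cfsg.zspan (↑S₁ : Set (L → ℂ)) ∧
          α = b + i • χ + j • Cfsg.conjFun χ ∧
          OddChar.extendMap T F α = τ₁ b + i • X + j • X' := by
      have hself : ∀ φ ∈ T, OddChar.extendMap T F φ = F φ := fun φ hφ =>
        OddChar.extendMap_self F hTo hφ (OddChar.cs_ne_zero hS (hTS φ hφ))
      have h0 : τ₁ 0 = 0 := OddChar.iso_zero hτ₁ (OddChar.zspan_zero _)
      refine OddChar.zspan_induction (fun φ hφ => ?_) ?_ ?_ ?_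
      · rcases hφ with h | h
        · refine ⟨φ, 0, 0, hz1 φ h, by simp, ?_⟩
          rw [hself φ (by rw [hT]; exact Finset.mem_union_left _ h), hF1 φ h]
          simp
        · rcases h with rfl | h
          · refine ⟨0, 1, 0, OddChar.zspan_zero _, by simp, ?_⟩
            rw [hself _ (by simp [hT]), hFχ, h0]
            simp
          · obtain rfl : φ = Cfsg.conjFun χ := h
            refine ⟨0, 0, 1, OddChar.zspan_zero _, by simp, ?_⟩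
            rw [hself _ (by simp [hT]), hFc, h0]
            simp
      · exact ⟨0, 0, 0, OddChar.zspan_zero _, by simp, by simp [OddChar.extendMap_zero, h0]⟩
      · rintro x - y - ⟨b, i, j, hb, hx, hxe⟩ ⟨b', i', j', hb', hy, hye⟩
        refine ⟨b + b', i + i', j + j', OddChar.zspan_add hb hb', ?_, ?_⟩
        · rw [hx, hy, add_smul, add_smul]; abel
        · rw [OddChar.extendMap_add, hxe, hye, hτ₁.1 b hb b' hb', add_smul, add_smul]; abel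
      · rintro m x - ⟨b, i, j, hb, hx, hxe⟩
        refine ⟨m • b, m * i, m * j, OddChar.zspan_smul m hb, ?_, ?_⟩
        · rw [hx, smul_add, smul_add, smul_smul, smul_smul]
        · rw [OddChar.extendMap_zsmul, hxe, hτ₁.2.1 b hb m, smul_add, smul_add, smul_smul, smul_smul]
    obtain ⟨b, i, j, hb, hαe, hext⟩ := key α hα.1
    obtain ⟨b', hb'⟩ : ∃ b', b' = b + ((i + j) * (a : ℤ)) • χ₁ := ⟨_, rfl⟩
    have hb'm : b' ∈ Cfsg.zspan (↑S₁ : Set (L → ℂ)) :=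
      hb' ▸ OddChar.zspan_add hb (OddChar.zspan_smul _ (hz1 χ₁ hχ₁S))
    have hαe2 : α = b' + ((i + j) • (χ - (a : ℤ) • χ₁) + (-j) • (χ - Cfsg.conjFun χ)) := by
      rw [hαe, hb', smul_sub, smul_sub, smul_smul, add_smul, neg_smul, neg_smul]
      abel
    have hb'0 : b' ∈ Cfsg.zspanOn (↑S₁ : Set (L → ℂ)) {1}ᶜ := by
      refine OddChar.zspanOn_iff.mpr ⟨hb'm, ?_⟩
      have e1 := congrFun hαe2 1
      simp only [Pi.add_apply, Pi.smul_apply, (OddChar.zspanOn_iff.mp hα).2,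
        (OddChar.zspanOn_iff.mp hm1).2, (OddChar.zspanOn_iff.mp hR).2, smul_zero, add_zero] at e1
      exact e1.symm
    have p1 := OddChar.zspanOn_smul (i + j) hm1
    have p2 := OddChar.zspanOn_smul (-j) hR
    rw [hext, hαe2, hS.isometry.1 _ (OddChar.zspanOn_mono hS₁ hb'0) _ (OddChar.zspanOn_add p1 p2),
      hS.isometry.1 _ p1 _ p2, hS.isometry.2.1 _ hm1, hS.isometry.2.1 _ hR, ← hag _ hb'0, hb',
      hτ₁.1 b hb _ (OddChar.zspan_smul _ (hz1 χ₁ hχ₁S)), hτ₁.2.1 _ (hz1 χ₁ hχ₁S), ← hβ, hβX, hX',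
      smul_sub, smul_sub, smul_smul, add_smul, neg_smul]
    abel

end Cfsg.Agent.S1516
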