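import Cfsg.Statements.S1517
import Cfsg.Agent.Lib.OddChar.Coherence

set_option autoImplicit false
open Cfsg

namespace Cfsg.Agent.S1517

/-- Let (S, τ, R) be a coherence system from L to G such that φ 1 = ψ 1 for all φ, ψ ∈ S. Then (S, L minus 1, τ) is coherent. -/
theorem result {L : Type*} [Group L] [Fintype L] {G : Type*} [Group G] [Fintype G] (S : Set (L → ℂ)) (τ : (L → ℂ) → (G → ℂ)) (R : (L → ℂ) → Finset (G → ℂ)) (hS : Cfsg.IsCoherenceSystem S τ R) (hdeg : ∀ φ ∈ S, ∀ ψ ∈ S, φ 1 = ψ 1) : Cfsg.IsCoherent S {1}ᶜ τ := by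
  classical
  obtain ⟨T, hT⟩ : ∃ T : Finset (L → ℂ), S = ↑T :=
    ⟨(OddChar.cs_finite hS).toFinset, (Set.Finite.coe_toFinset _).symm⟩
  have hmemT : ∀ φ, φ ∈ T ↔ φ ∈ S := fun φ => by rw [hT, Finset.mem_coe]
  obtain ⟨χ, hχ⟩ := hS.nonempty
  obtain ⟨n, hn0, hn⟩ := OddChar.cs_norm hS hχ
  have hχc := hS.conj_mem χ hχ
  have hd : ∀ φ ∈ S, χ - φ ∈ Cfsg.zspanOn S {1}ᶜ := fun φ hφ =>
    OddChar.cs_diff_mem hS hχ hφ (hdeg χ hχ φ hφ)
  have horth : ∀ φ ∈ S, ∀ ψ ∈ S, φ ≠ ψ → Cfsg.classInner φ ψ = 0 := hS.orthogonal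
  -- key: a virtual character with the right pairings
  obtain ⟨A, hAg, hAA, hA⟩ : ∃ A : G → ℂ, Cfsg.IsGeneralizedCharacter G A ∧
      Cfsg.classInner A A = n ∧ ∀ φ ∈ S, φ ≠ χ → Cfsg.classInner A (τ (χ - φ)) = n := by
    have hT2 : ∀ φ ∈ S, φ ≠ χ → Cfsg.classInner (τ (χ - φ)) (τ (χ - Cfsg.conjFun χ)) =
        (n : ℂ) + Cfsg.classInner φ (Cfsg.conjFun χ) := by
      intro φ hφ hne
      rw [hS.isometry.2.2.1 _ (hd φ hφ) _ (hd _ hχc)]
      simp [CT.classInner_sub_left, CT.classInner_sub_right, hn, horth φ hφ χ hχ hne,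
        horth χ hχ _ hχc (hS.conj_ne χ hχ).symm]
    have hpart : ∀ φ ∈ S, φ ≠ χ → φ ≠ Cfsg.conjFun χ →
        ∃ c : (G → ℂ) → ℤ, (∀ α ∈ R χ, Cfsg.classInner (τ (χ - φ)) α = c α) ∧
          ∑ α ∈ R χ, c α = n ∧ (∀ α ∈ R χ, c α = 0 ∨ c α = 1) ∧
          (∀ b : G → ℂ, (∀ α ∈ R χ, Cfsg.classInner α b = 0) → (∀ α ∈ R φ, Cfsg.classInner α b = 0) →
            Cfsg.classInner (τ (χ - φ)) b = 0) := by
      intro φ hφ h1 h2
      obtain ⟨m, hm0, hm⟩ := OddChar.cs_norm hS hφ
      have hφc := hS.conj_mem φ hφ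
      have hgen := hS.isometry.2.2.2 _ (hd φ hφ)
      obtain ⟨c, hc, hcs, hcle, hc01⟩ := OddChar.cs_projection hS hχ hgen (n := (n : ℤ))
        (by rw [hT2 φ hφ h1, horth φ hφ _ hχc h2]; simp)
      have hpair : Cfsg.classInner (-τ (χ - φ)) (τ (φ - Cfsg.conjFun φ)) = ((m : ℤ) : ℂ) := by
        have h3 : χ ≠ Cfsg.conjFun φ := fun e => h2 (by rw [e, OddChar.conjFun_conjFun])
        rw [CT.classInner_neg_left, hS.isometry.2.2.1 _ (hd φ hφ) _ (OddChar.cs_conj_diff_mem hS hφ)]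
        simp [CT.classInner_sub_left, CT.classInner_sub_right, horth χ hχ φ hφ (Ne.symm h1),
          horth χ hχ _ hφc h3, hm, horth φ hφ _ hφc (hS.conj_ne φ hφ).symm]
      obtain ⟨d, hd', -, hdle, -⟩ := OddChar.cs_projection hS hφ (CT.isGen_neg hgen) hpair
      obtain ⟨-, hb1, hb1o⟩ := OddChar.cs_projection_norm hS hχ c hc
      have hd2 : ∀ α ∈ R φ, Cfsg.classInner (τ (χ - φ) - ∑ β ∈ R χ, (c β : ℂ) • β) α =
          ((-d α : ℤ) : ℂ) := by
        intro α hα
        have h := hd' α hα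
        rw [CT.classInner_neg_left] at h
        rw [CT.classInner_sub_left, CT.classInner_sum_left, Finset.sum_eq_zero fun β hβ => ?_, sub_zero]
        · push_cast
          rw [← h, neg_neg]
        · rw [CT.classInner_smul_left, OddChar.isSigned_inner_symm_eq_zero
            (hS.disjoint χ hχ φ hφ (horth φ hφ χ hχ h1) (horth φ hφ _ hχc h2) α hα β hβ), mul_zero]
      obtain ⟨-, hb2, -⟩ := OddChar.cs_projection_norm hS hφ (fun α => -d α) hd2
      have hnn := OddChar.classInner_self_re_nonneg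
        (τ (χ - φ) - (∑ β ∈ R χ, (c β : ℂ) • β) - ∑ α ∈ R φ, ((-d α : ℤ) : ℂ) • α)
      rw [hb2, hb1] at hnn
      have hN : Cfsg.classInner (τ (χ - φ)) (τ (χ - φ)) = (n : ℂ) + m := by
        rw [hS.isometry.2.2.1 _ (hd φ hφ) _ (hd φ hφ)]
        simp [CT.classInner_sub_left, CT.classInner_sub_right, hn, hm, horth φ hφ χ hχ h1,
          horth χ hχ φ hφ (Ne.symm h1)]
      rw [hN] at hnn
      simp only [Complex.sub_re, Complex.add_re, Complex.natCast_re, Complex.intCast_re, neg_sq] at hnn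
      have e1 : ((n : ℤ) : ℝ) ≤ ((∑ α ∈ R χ, c α ^ 2 : ℤ) : ℝ) := Int.cast_le.mpr hcle
      have e2 : ((m : ℤ) : ℝ) ≤ ((∑ α ∈ R φ, d α ^ 2 : ℤ) : ℝ) := Int.cast_le.mpr hdle
      simp only [Int.cast_natCast] at e1 e2
      have e3 : ((∑ α ∈ R χ, c α ^ 2 : ℤ) : ℝ) ≤ ((n : ℤ) : ℝ) := by
        rw [Int.cast_natCast]; linarith
      refine ⟨c, hc, hcs, hc01 (Int.cast_le.mp e3), ?_⟩
      intro b hb hb'
      have hz : τ (χ - φ) - (∑ β ∈ R χ, (c β : ℂ) • β) - ∑ α ∈ R φ, ((-d α : ℤ) : ℂ) • α = 0 := by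
        apply OddChar.eq_zero_of_norm_re
        rw [hb2, hb1, hN]
        simp only [Complex.sub_re, Complex.add_re, Complex.natCast_re, Complex.intCast_re, neg_sq]
        linarith
      rw [sub_eq_zero, sub_eq_iff_eq_add] at hz
      rw [hz, CT.classInner_add_left, CT.classInner_sum_left, CT.classInner_sum_left,
        Finset.sum_eq_zero fun α hα => by rw [CT.classInner_smul_left, hb' α hα, mul_zero],
        Finset.sum_eq_zero fun α hα => by rw [CT.classInner_smul_left, hb α hα, mul_zero], add_zero]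
    have hmk : ∀ s : Finset (G → ℂ), s ⊆ R χ → s.card = n →
        Cfsg.IsGeneralizedCharacter G (∑ α ∈ s, α) ∧ Cfsg.classInner (∑ α ∈ s, α) (∑ α ∈ s, α) = n ∧
        Cfsg.classInner (∑ α ∈ s, α) (τ (χ - Cfsg.conjFun χ)) = n := by
      intro s hs hcard
      refine ⟨CT.isGen_sum s fun α hα => hS.virtual χ hχ α (hs hα), ?_, ?_⟩
      · rw [CT.classInner_sum_left, Finset.sum_congr rfl (g := fun _ => (1 : ℂ)) fun a ha => ?_]
        · simp [hcard]
        rw [CT.classInner_sum_right,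
          Finset.sum_congr rfl fun b hb => hS.orthonormal χ hχ a (hs ha) b (hs hb),
          Finset.sum_ite_eq, if_pos ha]
      · rw [hS.sum_eq χ hχ, CT.classInner_sum_left,
          Finset.sum_congr rfl (g := fun _ => (1 : ℂ)) fun a ha => ?_]
        · simp [hcard]
        rw [CT.classInner_sum_right,
          Finset.sum_congr rfl fun b hb => hS.orthonormal χ hχ a (hs ha) b hb,
          Finset.sum_ite_eq, if_pos (hs ha)]
    by_cases hex : ∃ φ ∈ S, φ ≠ χ ∧ φ ≠ Cfsg.conjFun χ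
    · obtain ⟨φ₀, hφ₀, h01, h02⟩ := hex
      obtain ⟨c₀, hc₀, hs₀, h01₀, -⟩ := hpart φ₀ hφ₀ h01 h02
      obtain ⟨s, hs⟩ : ∃ s, s = (R χ).filter fun α => c₀ α = 1 := ⟨_, rfl⟩
      have hscard : s.card = n := by
        have h : ∑ α ∈ R χ, c₀ α = ∑ α ∈ R χ, if c₀ α = 1 then (1 : ℤ) else 0 :=
          Finset.sum_congr rfl fun α hα => by rcases h01₀ α hα with h | h <;> simp [h]
        rw [Finset.sum_boole, hs₀] at h
        rw [hs]
        exact_mod_cast h.symm
      obtain ⟨g1, g2, g3⟩ := hmk s (hs ▸ Finset.filter_subset _ _) hscard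
      refine ⟨_, g1, g2, fun φ hφ h1 => ?_⟩
      by_cases h2 : φ = Cfsg.conjFun χ
      · rw [h2]; exact g3
      obtain ⟨c, hc, hcs, hc01, -⟩ := hpart φ hφ h1 h2
      -- all coefficient functions agree
      have hagree : ∀ α ∈ R χ, c α = c₀ α := by
        by_cases he : φ = φ₀
        · subst he
          exact fun α hα => by exact_mod_cast (hc α hα).symm.trans (hc₀ α hα)
        by_cases he2 : φ = Cfsg.conjFun φ₀
        · intro α hα
          have hsum : τ (χ - φ) - τ (χ - φ₀) = ∑ β ∈ R φ₀, β := by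
            rw [← OddChar.iso_zspanOn_sub hS.isometry (hd φ hφ) (hd φ₀ hφ₀), ← hS.sum_eq φ₀ hφ₀, he2]
            congr 1
            abel
          have := congrArg (fun t => Cfsg.classInner t α) hsum
          simp only [CT.classInner_sub_left, CT.classInner_sum_left, hc α hα, hc₀ α hα] at this
          rw [Finset.sum_eq_zero fun β hβ => hS.disjoint χ hχ φ₀ hφ₀ (horth φ₀ hφ₀ χ hχ h01)
            (horth φ₀ hφ₀ _ hχc h02) β hβ α hα, sub_eq_zero] at this
          exact_mod_cast this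
        · -- inner product of the two images
          have hgen := hS.isometry.2.2.2 _ (hd φ hφ)
          obtain ⟨c', hc', -, -, hperp⟩ := hpart φ hφ h1 h2
          obtain ⟨c₀', -, -, -, hperp0⟩ := hpart φ₀ hφ₀ h01 h02
          have hP : ∀ (ψ : L → ℂ) (e : (G → ℂ) → ℤ), (∀ α ∈ R χ, Cfsg.classInner (τ (χ - ψ)) α = e α) →
              ∀ α ∈ R χ, Cfsg.classInner (τ (χ - ψ) - ∑ β ∈ R χ, (e β : ℂ) • β) α = 0 :=
            fun ψ e he => (OddChar.cs_projection_norm hS hχ e he).2.2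
          have hz : Cfsg.classInner (τ (χ - φ) - ∑ β ∈ R χ, (c β : ℂ) • β)
              (τ (χ - φ₀) - ∑ β ∈ R χ, (c₀ β : ℂ) • β) = 0 := by
            have hstep : Cfsg.classInner (τ (χ - φ))
                (τ (χ - φ₀) - ∑ β ∈ R χ, (c₀ β : ℂ) • β) = 0 := by
              refine hperp _ (fun α hα => OddChar.isSigned_inner_symm_eq_zero (hP φ₀ c₀ hc₀ α hα))
                (fun α hα => ?_)
              rw [CT.classInner_sub_right]
              have : ∀ β ∈ R χ, Cfsg.classInner α β = 0 := fun β hβ =>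
                hS.disjoint χ hχ φ hφ (horth φ hφ χ hχ h1) (horth φ hφ _ hχc h2) α hα β hβ
              rw [CT.classInner_sum_right, Finset.sum_eq_zero fun β hβ => by
                rw [CT.classInner_smul_right, this β hβ, mul_zero], sub_zero]
              apply OddChar.isSigned_inner_symm_eq_zero
              refine hperp0 α (fun β hβ => OddChar.isSigned_inner_symm_eq_zero (this β hβ)) fun β hβ => ?_
              refine hS.disjoint φ hφ φ₀ hφ₀ (horth φ₀ hφ₀ φ hφ (Ne.symm he))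
                (horth φ₀ hφ₀ _ (hS.conj_mem φ hφ) fun e => he2 ?_) β hβ α hα
              rw [e, OddChar.conjFun_conjFun]
            rw [CT.classInner_sub_left, hstep, zero_sub, neg_eq_zero, CT.classInner_sum_left]
            exact Finset.sum_eq_zero fun β hβ => by
              rw [CT.classInner_smul_left, OddChar.isSigned_inner_symm_eq_zero (hP φ₀ c₀ hc₀ β hβ), mul_zero]
          have hTT : Cfsg.classInner (τ (χ - φ)) (τ (χ - φ₀)) = n := by
            rw [hS.isometry.2.2.1 _ (hd φ hφ) _ (hd φ₀ hφ₀)]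
            simp [CT.classInner_sub_left, CT.classInner_sub_right, hn, horth φ hφ χ hχ h1,
              horth χ hχ φ₀ hφ₀ (Ne.symm h01), horth φ hφ φ₀ hφ₀ he]
          have hprod : Cfsg.classInner (τ (χ - φ)) (∑ β ∈ R χ, (c₀ β : ℂ) • β) = n := by
            have : Cfsg.classInner (∑ β ∈ R χ, (c β : ℂ) • β)
                (τ (χ - φ₀) - ∑ β ∈ R χ, (c₀ β : ℂ) • β) = 0 := by
              rw [CT.classInner_sum_left]
              exact Finset.sum_eq_zero fun β hβ => by
                rw [CT.classInner_smul_left, OddChar.isSigned_inner_symm_eq_zero (hP φ₀ c₀ hc₀ β hβ), mul_zero]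
            rw [CT.classInner_sub_left, this, sub_zero, CT.classInner_sub_right, hTT, sub_eq_zero] at hz
            exact hz.symm
          rw [CT.classInner_sum_right, Finset.sum_congr rfl fun β hβ => by
            rw [CT.classInner_smul_right, hc β hβ, map_intCast, ← Int.cast_mul]] at hprod
          have hdot : ∑ β ∈ R χ, c₀ β * c β = (n : ℤ) := by exact_mod_cast hprod
          intro α hα
          have hle' : ∀ β ∈ R χ, c₀ β * c β ≤ c β ∧ c₀ β * c β ≤ c₀ β := by
            intro β hβ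
            rcases hc01 β hβ with h | h <;> rcases h01₀ β hβ with h' | h' <;> simp [h, h']
          have q1 := (Finset.sum_eq_sum_iff_of_le fun β hβ => (hle' β hβ).1).mp (hdot.trans hcs.symm) α hα
          have q2 := (Finset.sum_eq_sum_iff_of_le fun β hβ => (hle' β hβ).2).mp (hdot.trans hs₀.symm) α hα
          exact q1.symm.trans q2
      have hval : ∀ α ∈ s, Cfsg.classInner α (τ (χ - φ)) = 1 := by
        intro α hα
        rw [hs, Finset.mem_filter] at hα
        rw [← CT.classInner_conj_symm, hc α hα.1, hagree α hα.1, hα.2]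
        simp
      rw [CT.classInner_sum_left, Finset.sum_congr rfl hval]
      simp [hscard]
    · push Not at hex
      have hcard : (R χ).card = 2 * n := by
        have := OddChar.cs_sum_R_norm hS hχ
        rw [hS.isometry.2.2.1 _ (hd _ hχc) _ (hd _ hχc), OddChar.cs_R_norm hS hχ, hn] at this
        exact_mod_cast this.symm
      obtain ⟨s, hs1, hs2⟩ := Finset.exists_subset_card_eq (s := R χ) (n := n) (by omega)
      obtain ⟨g1, g2, g3⟩ := hmk s hs1 hs2
      exact ⟨_, g1, g2, fun φ hφ h1 => by rw [hex φ hφ h1]; exact g3⟩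
  -- the images
  have hTdiff : τ (χ - χ) = 0 := by
    rw [sub_self]
    exact OddChar.iso_zero hS.isometry (OddChar.zspanOn_zero S _)
  have hA' : ∀ φ ∈ S, Cfsg.classInner A (τ (χ - φ)) = (n : ℂ) - Cfsg.classInner χ φ := by
    intro φ hφ
    by_cases h : φ = χ
    · subst h; rw [hTdiff]; simp [hn]
    · rw [hA φ hφ h, horth χ hχ φ hφ (Ne.symm h), sub_zero]
  refine OddChar.isCoherent_of_images (fun φ => A - τ (χ - φ)) hT
    (fun φ hφ ψ hψ => horth φ ((hmemT φ).mp hφ) ψ ((hmemT ψ).mp hψ))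
    (fun φ hφ => OddChar.cs_ne_zero hS ((hmemT φ).mp hφ))
    (fun φ hφ => CT.isGen_sub hAg (hS.isometry.2.2.2 _ (hd φ ((hmemT φ).mp hφ))))
    ?_ ⟨χ - Cfsg.conjFun χ, hd _ hχc, sub_ne_zero.mpr (hS.conj_ne χ hχ).symm⟩ ?_
  · intro φ hφ ψ hψ
    rw [hmemT] at hφ hψ
    have e1 : Cfsg.classInner (τ (χ - φ)) A = (n : ℂ) - Cfsg.classInner φ χ := by
      rw [← CT.classInner_conj_symm, hA' φ hφ, map_sub, map_natCast, CT.classInner_conj_symm]
    simp only [CT.classInner_sub_left, CT.classInner_sub_right, hAA, hA' ψ hψ, e1]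
    rw [hS.isometry.2.2.1 _ (hd φ hφ) _ (hd ψ hψ)]
    simp only [CT.classInner_sub_left, CT.classInner_sub_right, hn]
    ring
  · intro α hα
    have key : ∀ α ∈ Cfsg.zspan S, ∃ k : ℤ, α 1 = (k : ℂ) * χ 1 ∧
        (k • χ - α ∈ Cfsg.zspanOn S {1}ᶜ) ∧
        OddChar.extendMap T (fun φ => A - τ (χ - φ)) α = (k : ℂ) • A - τ (k • χ - α) := by
      refine OddChar.zspan_induction (fun φ hφ => ?_) ?_ ?_ ?_
      · refine ⟨1, by rw [hdeg φ hφ χ hχ]; simp, by simpa using hd φ hφ, ?_⟩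
        rw [OddChar.extendMap_self _ (fun φ hφ ψ hψ => horth φ ((hmemT φ).mp hφ) ψ ((hmemT ψ).mp hψ))
          ((hmemT φ).mpr hφ) (OddChar.cs_ne_zero hS hφ)]
        simp
      · exact ⟨0, by simp, by simpa using OddChar.zspanOn_zero S _, by
          simp [OddChar.extendMap_zero, OddChar.iso_zero hS.isometry (OddChar.zspanOn_zero S _)]⟩
      · rintro a - b - ⟨k, hk, hkm, hka⟩ ⟨l, hl, hlm, hlb⟩
        have e : (k + l) • χ - (a + b) = (k • χ - a) + (l • χ - b) := by rw [add_smul]; abel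
        refine ⟨k + l, by simp [hk, hl]; ring, e ▸ OddChar.zspanOn_add hkm hlm, ?_⟩
        rw [OddChar.extendMap_add, hka, hlb, e, hS.isometry.1 _ hkm _ hlm, Int.cast_add, add_smul]
        abel
      · rintro m a - ⟨k, hk, hkm, hka⟩
        have e : (m * k) • χ - m • a = m • (k • χ - a) := by rw [smul_sub, smul_smul]
        refine ⟨m * k, by simp [hk]; ring, e ▸ OddChar.zspanOn_smul m hkm, ?_⟩
        rw [OddChar.extendMap_zsmul, hka, e, hS.isometry.2.1 _ hkm, smul_sub,
          ← Int.cast_smul_eq_zsmul ℂ m ((k : ℂ) • A), smul_smul, Int.cast_mul]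
    obtain ⟨k, hk, hkm, hkα⟩ := key α hα.1
    have hk0 : k = 0 := by
      rw [(OddChar.zspanOn_iff.mp hα).2] at hk
      obtain ⟨dd, hdd⟩ := CT.exists_degree (hS.isCharacter χ hχ)
      rcases mul_eq_zero.mp hk.symm with h | h
      · exact_mod_cast h
      · exfalso
        apply OddChar.cs_ne_zero hS hχ
        obtain ⟨r, ρ, hρ⟩ := hS.isCharacter χ hχ
        funext g
        have hr : r = 0 := by
          rw [← hρ, Representation.char_one] at h
          simpa using h
        subst hr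
        rw [← hρ]
        simp [Representation.character, Subsingleton.elim (ρ g) 0]
    subst hk0
    have hneg : ((0 : ℤ) • χ - α) = (-1 : ℤ) • α := by simp
    rw [hkα, hneg, hS.isometry.2.1 α hα]
    simp

end Cfsg.Agent.S1517
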