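import Cfsg.Statements.S1531
import Cfsg.Agent.Lib.OddChar.Coherence

set_option autoImplicit false
open Cfsg

namespace Cfsg.Agent.S1531

/-- Let N be a subgroup of the finite group G, S a set of irreducible characters of N, and α a linear isometry on the integer combinations of S vanishing at 1 with values virtual characters of G vanishing at 1. Let X, Y ⊆ S be disjoint, each with at least two members, and σ, τ linear isometries on ℤ[X], ℤ[Y] into virtual characters agreeing with α on the members vanishing at 1. Then ⟨σ χ, τ η⟩ = 0 for χ ∈ X, η ∈ Y; and if for some χ₀ ∈ X, η₀ ∈ Y with degrees c = χ₀ 1, e = η₀ 1 one has α (c • η₀ − e • χ₀) = c • τ η₀ − e • σ χ₀, then (X ∪ Y, N minus 1, α) is coherent. -/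
theorem result {G : Type*} [Group G] [Fintype G] (N : Subgroup G) [Fintype N] (S X Y : Set (N → ℂ)) (hirr : ∀ ξ ∈ S, Cfsg.IsIrrCharacter N ξ) (hXS : X ⊆ S) (hYS : Y ⊆ S) (hXY : Disjoint X Y) (hX2 : ∃ a ∈ X, ∃ b ∈ X, a ≠ b) (hY2 : ∃ a ∈ Y, ∃ b ∈ Y, a ≠ b) (α : (N → ℂ) → (G → ℂ)) (hα : Cfsg.IsLinearIsometryOn (Cfsg.zspanOn S {1}ᶜ) α) (hα1 : ∀ θ ∈ Cfsg.zspanOn S {1}ᶜ, α θ 1 = 0) (σ τ : (N → ℂ) → (G → ℂ)) (hσ : Cfsg.IsLinearIsometryOn (Cfsg.zspan X) σ) (hσα : ∀ θ ∈ Cfsg.zspanOn X {1}ᶜ, σ θ = α θ) (hτ : Cfsg.IsLinearIsometryOn (Cfsg.zspan Y) τ) (hτα : ∀ θ ∈ Cfsg.zspanOn Y {1}ᶜ, τ θ = α θ) : (∀ χ ∈ X, ∀ η ∈ Y, Cfsg.classInner (σ χ) (τ η) = 0) ∧ ((∃ χ₀ ∈ X, ∃ η₀ ∈ Y, α (χ₀ 1 • η₀ - η₀ 1 • χ₀) = χ₀ 1 • τ η₀ - η₀ 1 • σ χ₀) → Cfsg.IsCoherent (X ∪ Y) {1}ᶜ α) := by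
  classical
  have hXσ : ∀ χ ∈ X, OddChar.IsSigned (σ χ) := fun χ h => OddChar.isometry_signed hσ h (hirr χ (hXS h))
  have hYτ : ∀ η ∈ Y, OddChar.IsSigned (τ η) := fun η h => OddChar.isometry_signed hτ h (hirr η (hYS h))
  have hdne : ∀ χ ∈ X, ∀ η ∈ Y, χ ≠ η := fun χ h η h' e => Set.disjoint_left.mp hXY h (e ▸ h')
  have hdeg : ∀ ξ ∈ S, ∃ k : ℕ, 0 < k ∧ ξ 1 = k := fun ξ h =>
    ⟨CT.deg ξ, CT.deg_pos (hirr ξ h), CT.deg_eq (CT.isCharacter_of_isIrr (hirr ξ h))⟩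
  have horth : ∀ χ ∈ X, ∀ η ∈ Y, Cfsg.classInner (σ χ) (τ η) = 0 := by
    intro χ hχ η hη
    obtain ⟨χ', hχ', hne⟩ : ∃ χ' ∈ X, χ' ≠ χ := by
      obtain ⟨a, ha, b, hb, hab⟩ := hX2
      by_cases h : a = χ
      · exact ⟨b, hb, fun e => hab (h.trans e.symm)⟩
      · exact ⟨a, ha, h⟩
    obtain ⟨η', hη', hne'⟩ : ∃ η' ∈ Y, η' ≠ η := by
      obtain ⟨a, ha, b, hb, hab⟩ := hY2
      by_cases h : a = η
      · exact ⟨b, hb, fun e => hab (h.trans e.symm)⟩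
      · exact ⟨a, ha, h⟩
    obtain ⟨p, hp, hχp⟩ := hdeg χ (hXS hχ)
    obtain ⟨q, hq, hχq⟩ := hdeg χ' (hXS hχ')
    obtain ⟨u, hu, hηu⟩ := hdeg η (hYS hη)
    obtain ⟨v, hv, hηv⟩ := hdeg η' (hYS hη')
    have hm := OddChar.deg_comb_mem hχ hχ' hχp hχq
    have hm' := OddChar.deg_comb_mem hη hη' hηu hηv
    have e1 : σ ((q : ℤ) • χ - (p : ℤ) • χ') = ((q : ℝ) : ℂ) • σ χ - ((p : ℝ) : ℂ) • σ χ' := by
      rw [OddChar.iso_zspan_sub hσ (OddChar.zspan_smul _ (OddChar.zspan_self hχ))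
        (OddChar.zspan_smul _ (OddChar.zspan_self hχ')), hσ.2.1 _ (OddChar.zspan_self hχ),
        hσ.2.1 _ (OddChar.zspan_self hχ'), ← Int.cast_smul_eq_zsmul ℂ, ← Int.cast_smul_eq_zsmul ℂ]
      push_cast
      rfl
    have e2 : τ ((v : ℤ) • η - (u : ℤ) • η') = ((v : ℝ) : ℂ) • τ η - ((u : ℝ) : ℂ) • τ η' := by
      rw [OddChar.iso_zspan_sub hτ (OddChar.zspan_smul _ (OddChar.zspan_self hη))
        (OddChar.zspan_smul _ (OddChar.zspan_self hη')), hτ.2.1 _ (OddChar.zspan_self hη),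
        hτ.2.1 _ (OddChar.zspan_self hη'), ← Int.cast_smul_eq_zsmul ℂ, ← Int.cast_smul_eq_zsmul ℂ]
      push_cast
      rfl
    have o : ∀ a ∈ X, ∀ b ∈ Y, Cfsg.classInner a b = 0 := fun a ha b hb =>
      CT.irr_inner_of_ne (hirr a (hXS ha)) (hirr b (hYS hb)) (hdne a ha b hb)
    have hmix : Cfsg.classInner (((q : ℝ) : ℂ) • σ χ - ((p : ℝ) : ℂ) • σ χ')
        (((v : ℝ) : ℂ) • τ η - ((u : ℝ) : ℂ) • τ η') = 0 := by
      rw [← e1, ← e2, hσα _ hm, hτα _ hm', hα.2.2.1 _ (OddChar.zspanOn_mono hXS hm) _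
        (OddChar.zspanOn_mono hYS hm')]
      simp only [CT.classInner_sub_left, CT.classInner_sub_right, OddChar.classInner_zsmul_left,
        OddChar.classInner_zsmul_right, o χ hχ η hη, o χ hχ η' hη', o χ' hχ' η hη, o χ' hχ' η' hη',
        mul_zero, sub_zero]
    have z1 : ((q : ℝ) : ℂ) * σ χ 1 = ((p : ℝ) : ℂ) * σ χ' 1 := by
      have h := hα1 _ (OddChar.zspanOn_mono hXS hm)
      rw [← hσα _ hm, e1] at h
      simpa [sub_eq_zero] using h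
    have z2 : ((v : ℝ) : ℂ) * τ η 1 = ((u : ℝ) : ℂ) * τ η' 1 := by
      have h := hα1 _ (OddChar.zspanOn_mono hYS hm')
      rw [← hτα _ hm', e2] at h
      simpa [sub_eq_zero] using h
    refine OddChar.signed_pair_orth (hXσ χ hχ) (hXσ χ' hχ') (hYτ η hη) (hYτ η' hη')
      (Nat.cast_ne_zero.mpr hq.ne') (Nat.cast_ne_zero.mpr hp.ne') (Nat.cast_ne_zero.mpr hv.ne')
      (Nat.cast_ne_zero.mpr hu.ne') ?_ ?_ hmix z1 z2
    · rw [hσ.2.2.1 χ (OddChar.zspan_self hχ) χ' (OddChar.zspan_self hχ')]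
      exact CT.irr_inner_of_ne (hirr χ (hXS hχ)) (hirr χ' (hXS hχ')) hne.symm
    · rw [hτ.2.2.1 η (OddChar.zspan_self hη) η' (OddChar.zspan_self hη')]
      exact CT.irr_inner_of_ne (hirr η (hYS hη)) (hirr η' (hYS hη')) hne'.symm
  refine ⟨horth, ?_⟩
  rintro ⟨χ₀, hχ₀, η₀, hη₀, hlink⟩
  obtain ⟨x₀, hx₀p, hx₀⟩ := hdeg χ₀ (hXS hχ₀)
  obtain ⟨y₀, hy₀p, hy₀⟩ := hdeg η₀ (hYS hη₀)
  have hfin : (X ∪ Y).Finite := by
    have h : Set.Finite {ξ : N → ℂ | Cfsg.IsIrrCharacter N ξ} := by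
      haveI := CT.irr_finite N
      exact Set.finite_coe_iff.mp (inferInstanceAs (Finite (Cfsg.IrrCharacter N)))
    exact h.subset fun ξ hξ => hirr ξ (hξ.elim (fun h => hXS h) (fun h => hYS h))
  obtain ⟨T, hT⟩ : ∃ T : Finset (N → ℂ), X ∪ Y = ↑T := ⟨hfin.toFinset, hfin.coe_toFinset.symm⟩
  have hcases : ∀ φ ∈ T, φ ∈ X ∨ φ ∈ Y := fun φ h => by
    rw [← Finset.mem_coe, ← hT] at h; exact h
  have hTS : ∀ φ ∈ T, φ ∈ S := fun φ h => (hcases φ h).elim (fun h => hXS h) (fun h => hYS h)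
  let F : (N → ℂ) → (G → ℂ) := fun φ => if φ ∈ X then σ φ else τ φ
  have hFX : ∀ φ ∈ X, F φ = σ φ := fun φ h => if_pos h
  have hFY : ∀ φ ∈ Y, F φ = τ φ := fun φ h => if_neg fun h' => hdne φ h' φ h rfl
  have hTo : ∀ φ ∈ T, ∀ η ∈ T, φ ≠ η → Cfsg.classInner φ η = 0 := fun φ h η h' hn =>
    CT.irr_inner_of_ne (hirr φ (hTS φ h)) (hirr η (hTS η h')) hn
  have hT0 : ∀ φ ∈ T, φ ≠ 0 := fun φ h h0 => CT.irr_one_ne_zero (hirr φ (hTS φ h)) (congrFun h0 1)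
  have hsubU : X ∪ Y ⊆ S := Set.union_subset hXS hYS
  have hcomb : (x₀ : ℤ) • η₀ - (y₀ : ℤ) • χ₀ ∈ Cfsg.zspanOn (X ∪ Y) {1}ᶜ :=
    OddChar.deg_comb_mem (Set.mem_union_right X hη₀) (Set.mem_union_left Y hχ₀) hy₀ hx₀
  have hlink' : α ((x₀ : ℤ) • η₀ - (y₀ : ℤ) • χ₀) = (x₀ : ℤ) • τ η₀ - (y₀ : ℤ) • σ χ₀ := by
    rw [hx₀, hy₀] at hlink
    simpa only [← Int.cast_natCast (R := ℂ), Int.cast_smul_eq_zsmul] using hlink
  refine ⟨⟨(x₀ : ℤ) • η₀ - (y₀ : ℤ) • χ₀, hcomb, ?_⟩, OddChar.extendMap T F,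
    OddChar.extendMap_iso T hT F hTo hT0 ?_ ?_, ?_⟩
  · intro h0
    have := congrArg (fun f => Cfsg.classInner f η₀) h0
    simp only [CT.classInner_sub_left, OddChar.classInner_zsmul_left, CT.irr_inner_self (hirr η₀ (hYS hη₀)),
      CT.irr_inner_of_ne (hirr χ₀ (hXS hχ₀)) (hirr η₀ (hYS hη₀)) (hdne χ₀ hχ₀ η₀ hη₀),
      CT.classInner_zero_left, mul_zero, sub_zero, mul_one] at this
    have : (x₀ : ℤ) = 0 := by exact_mod_cast this
    omega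
  · intro φ hφ
    rcases hcases φ hφ with h | h
    · rw [hFX φ h]; exact hσ.2.2.2 φ (OddChar.zspan_self h)
    · rw [hFY φ h]; exact hτ.2.2.2 φ (OddChar.zspan_self h)
  · intro φ hφ η hη
    rcases hcases φ hφ with h | h <;> rcases hcases η hη with h' | h'
    · rw [hFX φ h, hFX η h', hσ.2.2.1 φ (OddChar.zspan_self h) η (OddChar.zspan_self h')]
    · rw [hFX φ h, hFY η h', horth φ h η h',
        CT.irr_inner_of_ne (hirr φ (hXS h)) (hirr η (hYS h')) (hdne φ h η h')]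
    · rw [hFY φ h, hFX η h', OddChar.isSigned_inner_symm_eq_zero (horth η h' φ h),
        CT.irr_inner_of_ne (hirr φ (hYS h)) (hirr η (hXS h')) (hdne η h' φ h).symm]
    · rw [hFY φ h, hFY η h', hτ.2.2.1 φ (OddChar.zspan_self h) η (OddChar.zspan_self h')]
  · intro β hβ
    have h0σ : σ 0 = 0 := OddChar.iso_zero hσ (OddChar.zspan_zero _)
    have h0τ : τ 0 = 0 := OddChar.iso_zero hτ (OddChar.zspan_zero _)
    have key : ∀ β ∈ Cfsg.zspan (X ∪ Y), ∃ (bx : N → ℂ) (by' : N → ℂ) (m : ℤ),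
        bx ∈ Cfsg.zspan X ∧ by' ∈ Cfsg.zspan Y ∧ β = bx + by' ∧ bx 1 = m ∧
          OddChar.extendMap T F β = σ bx + τ by' := by
      refine OddChar.zspan_induction (fun φ hφ => ?_) ?_ ?_ ?_
      · have hφT : φ ∈ T := by rw [← Finset.mem_coe, ← hT]; exact hφ
        have he : OddChar.extendMap T F φ = F φ := OddChar.extendMap_self F hTo hφT (hT0 φ hφT)
        rcases hφ with h | h
        · obtain ⟨k, -, hk⟩ := hdeg φ (hXS h)
          exact ⟨φ, 0, k, OddChar.zspan_self h, OddChar.zspan_zero _, by simp, by simp [hk],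
            by rw [he, hFX φ h, h0τ, add_zero]⟩
        · exact ⟨0, φ, 0, OddChar.zspan_zero _, OddChar.zspan_self h, by simp, by simp,
            by rw [he, hFY φ h, h0σ, zero_add]⟩
      · exact ⟨0, 0, 0, OddChar.zspan_zero _, OddChar.zspan_zero _, by simp, by simp,
          by simp [OddChar.extendMap_zero, h0σ, h0τ]⟩
      · rintro x - y - ⟨b, c, m, hb, hc, hx, hm, hxe⟩ ⟨b', c', m', hb', hc', hy, hm', hye⟩
        refine ⟨b + b', c + c', m + m', OddChar.zspan_add hb hb', OddChar.zspan_add hc hc', ?_, ?_, ?_⟩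
        · rw [hx, hy]; abel
        · simp [hm, hm']
        · rw [OddChar.extendMap_add, hxe, hye, hσ.1 b hb b' hb', hτ.1 c hc c' hc']; abel
      · rintro n x - ⟨b, c, m, hb, hc, hx, hm, hxe⟩
        refine ⟨n • b, n • c, n * m, OddChar.zspan_smul n hb, OddChar.zspan_smul n hc, ?_, ?_, ?_⟩
        · rw [hx, smul_add]
        · simp [hm]
        · rw [OddChar.extendMap_zsmul, hxe, hσ.2.1 b hb, hτ.2.1 c hc, smul_add]
    obtain ⟨bx, by', D, hbx, hby, hβe, hD, hext⟩ := key β hβ.1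
    have hby1 : by' 1 = -(D : ℂ) := by
      have := congrFun hβe 1
      rw [Pi.add_apply, hD, (OddChar.zspanOn_iff.mp hβ).2] at this
      linear_combination -this
    have p1 : (x₀ : ℤ) • bx - D • χ₀ ∈ Cfsg.zspanOn X {1}ᶜ :=
      OddChar.zspanOn_iff.mpr ⟨OddChar.zspan_sub (OddChar.zspan_smul _ hbx)
        (OddChar.zspan_smul _ (OddChar.zspan_self hχ₀)), by simp [hD, hx₀, mul_comm]⟩
    have p2 : (y₀ : ℤ) • by' + D • η₀ ∈ Cfsg.zspanOn Y {1}ᶜ :=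
      OddChar.zspanOn_iff.mpr ⟨OddChar.zspan_add (OddChar.zspan_smul _ hby)
        (OddChar.zspan_smul _ (OddChar.zspan_self hη₀)), by simp [hby1, hy₀, mul_comm]⟩
    have hdec : ((x₀ : ℤ) * (y₀ : ℤ)) • β = (y₀ : ℤ) • ((x₀ : ℤ) • bx - D • χ₀) +
        ((x₀ : ℤ) • ((y₀ : ℤ) • by' + D • η₀) + (-D) • ((x₀ : ℤ) • η₀ - (y₀ : ℤ) • χ₀)) := by
      rw [hβe]
      module
    have m1 := OddChar.zspanOn_smul (y₀ : ℤ) (OddChar.zspanOn_mono hXS p1)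
    have m2 := OddChar.zspanOn_smul (x₀ : ℤ) (OddChar.zspanOn_mono hYS p2)
    have m3 := OddChar.zspanOn_smul (-D) (OddChar.zspanOn_mono hsubU hcomb)
    have hscaled : ((x₀ : ℤ) * (y₀ : ℤ)) • α β = ((x₀ : ℤ) * (y₀ : ℤ)) • (σ bx + τ by') := by
      rw [← hα.2.1 _ (OddChar.zspanOn_mono hsubU hβ), hdec, hα.1 _ m1 _ (OddChar.zspanOn_add m2 m3),
        hα.1 _ m2 _ m3, hα.2.1 _ (OddChar.zspanOn_mono hXS p1), hα.2.1 _ (OddChar.zspanOn_mono hYS p2),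
        hα.2.1 _ (OddChar.zspanOn_mono hsubU hcomb), ← hσα _ p1, ← hτα _ p2, hlink',
        OddChar.iso_zspan_sub hσ (OddChar.zspan_smul _ hbx) (OddChar.zspan_smul _ (OddChar.zspan_self hχ₀)),
        hσ.2.1 _ hbx, hσ.2.1 _ (OddChar.zspan_self hχ₀),
        hτ.1 _ (OddChar.zspan_smul _ hby) _ (OddChar.zspan_smul _ (OddChar.zspan_self hη₀)),
        hτ.2.1 _ hby, hτ.2.1 _ (OddChar.zspan_self hη₀)]
      module
    rw [hext]
    exact (smul_right_injective (G → ℂ) (mul_ne_zero (by omega) (by omega)) hscaled).symm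

end Cfsg.Agent.S1531
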