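import Cfsg.Statements.S1342
import Cfsg.Agent.Lib.Components.PComponent

set_option autoImplicit false
open Cfsg

namespace Cfsg.Agent.S1342

open scoped commutatorElement
open Subgroup

/-- For a finite group X, L*_{2'}(X) is normal in X. -/
theorem result {X : Type*} [Group X] [Finite X] : (Cfsg.extendedTwoLayer X).Normal := by
  haveI : Fact (Nat.Prime 2) := ⟨Nat.prime_two⟩
  haveI hPP : (Cfsg.pPrimePCore 2 X).Normal := Subgroup.Normal.comap inferInstance _
  apply Components.normal_of_map_conj_eq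
  set M := Cfsg.pLayer 2 X ⊔ Cfsg.pPrimePCore 2 X with hM
  haveI hMn : M.Normal := by rw [hM]; infer_instance
  let c : Sylow 2 ↥M → Subgroup X := fun T =>
    (Cfsg.oddCore ↥(centralizer (((T : Subgroup ↥M).map M.subtype : Subgroup X) : Set X))).map
      (centralizer (((T : Subgroup ↥M).map M.subtype : Subgroup X) : Set X)).subtype
  have key : ∀ g : X, ∀ T : Sylow 2 ↥M, (c T).map (MulAut.conj g).toMonoidHom ≤ ⨆ T, c T := by
    intro g T
    let eM : ↥M ≃* ↥M := MulAut.conjNormal g
    obtain ⟨T', hT'⟩ : ∃ T' : Sylow 2 ↥M, (T' : Subgroup ↥M) = (T : Subgroup ↥M).map eM.toMonoidHom :=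
      ⟨T.mapSurjective (f := eM.toMonoidHom) eM.surjective, Sylow.coe_mapSurjective _ _⟩
    refine le_trans ?_ (le_iSup c T')
    set C := centralizer (((T : Subgroup ↥M).map M.subtype : Subgroup X) : Set X) with hC
    set C' := centralizer (((T' : Subgroup ↥M).map M.subtype : Subgroup X) : Set X) with hC'
    have hCC : C.map (MulAut.conj g).toMonoidHom = C' := by
      rw [hC, hC', hT']
      ext y
      simp only [mem_map, mem_centralizer_iff, SetLike.mem_coe, MulEquiv.coe_toMonoidHom,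
        MulAut.conj_apply]
      constructor
      · rintro ⟨z, hz, rfl⟩ _ ⟨_, ⟨t, ht, rfl⟩, rfl⟩
        have h1 := hz (t : X) ⟨t, ht, rfl⟩
        simp only [Subgroup.coe_subtype, eM, MulAut.conjNormal_apply]
        calc g * (t : X) * g⁻¹ * (g * z * g⁻¹) = g * ((t : X) * z) * g⁻¹ := by group
          _ = g * (z * (t : X)) * g⁻¹ := by rw [h1]
          _ = g * z * g⁻¹ * (g * (t : X) * g⁻¹) := by group
      · intro h
        refine ⟨g⁻¹ * y * g, ?_, by group⟩
        rintro _ ⟨t, ht, rfl⟩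
        have h1 := h (g * (t : X) * g⁻¹) ⟨eM t, ⟨t, ht, rfl⟩, by simp [eM]⟩
        simp only [Subgroup.coe_subtype]
        calc (t : X) * (g⁻¹ * y * g) = g⁻¹ * (g * (t : X) * g⁻¹ * y) * g := by group
          _ = g⁻¹ * (y * (g * (t : X) * g⁻¹)) * g := by rw [h1]
          _ = g⁻¹ * y * g * (t : X) := by group
    change ((Cfsg.oddCore ↥C).map C.subtype).map _ ≤ (Cfsg.oddCore ↥C').map C'.subtype
    rw [map_map]
    let eC : ↥C ≃* ↥C' := ((MulAut.conj g).subgroupMap C).trans (MulEquiv.subgroupCongr hCC)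
    rw [show Cfsg.oddCore ↥C' = (Cfsg.oddCore ↥C).map eC.toMonoidHom from
      (Components.map_pPrimeCore_equiv eC).symm, map_map]
    exact le_of_eq rfl
  have hle : ∀ g : X, (Cfsg.extendedTwoLayer X).map (MulAut.conj g).toMonoidHom
      ≤ Cfsg.extendedTwoLayer X := by
    intro g
    change (Cfsg.pLayer 2 X ⊔ Cfsg.oddCore X ⊔ ⨆ T, c T).map _ ≤
      Cfsg.pLayer 2 X ⊔ Cfsg.oddCore X ⊔ ⨆ T, c T
    rw [Subgroup.map_sup, Subgroup.map_sup, Subgroup.map_iSup,
      Components.map_conj_eq_of_mem_normalizer (le_normalizer_of_normal (mem_top g)),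
      Components.map_conj_eq_of_mem_normalizer (le_normalizer_of_normal (mem_top g))]
    exact sup_le_sup le_rfl (iSup_le (key g))
  intro g
  refine le_antisymm (hle g) fun y hy => ?_
  refine ⟨g⁻¹ * y * g, ?_, by simp [mul_assoc]⟩
  simpa [mul_assoc] using hle g⁻¹ (mem_map_of_mem _ hy)

end Cfsg.Agent.S1342
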