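import Cfsg.Statements.S5124
import Cfsg.Agent.Lib.Fusion.Hyperfocal

set_option autoImplicit false
open Cfsg

namespace Cfsg.Agent.S5124

/-- In a saturated fusion system over a finite p-group S the hyperfocal subgroup is strongly closed in the system. -/
theorem result {Ω : Type*} [Group Ω] {S : Subgroup Ω} [Finite S] (p : ℕ) [Fact p.Prime] (hS : IsPGroup p S) (F : Cfsg.FusionSystem S) (hF : F.IsSaturated p) : F.StronglyClosed (F.hyperfocalSubgroup p) := by
  set H := F.hyperfocalSubgroup p with hH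
  have key : ∀ {P : Subgroup Ω} {f : Ω → Ω}, Cfsg.Agent.Fusion.MapTo F P f →
      ∀ x ∈ P, (x ∈ H ↔ f x ∈ H) := by
    intro P f hf
    refine Cfsg.Agent.Fusion.alperin_prop hS hF (fun P f => ∀ x ∈ P, (x ∈ H ↔ f x ∈ H))
      (fun {P f g} _ h hg x hx => by rw [hg x hx]; exact h x hx) ?_ ?_ ?_ ?_ hf
    · intro P g hP hg x hx
      refine ⟨fun h => Cfsg.Agent.Fusion.hyperfocal_conj_mem hg h, fun h => ?_⟩
      have := Cfsg.Agent.Fusion.hyperfocal_conj_mem (S.inv_mem hg) h
      convert this using 1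
      simp only [Cfsg.Agent.Fusion.cj_apply]
      group
    · intro P Q f g _ _ hm h1 h2 x hx
      exact (h1 x hx).trans (h2 _ (hm x hx))
    · intro P f g hf' _ hgf h y hy
      obtain ⟨x, hx, rfl⟩ := (hf'.mem_img_iff le_rfl).mp hy
      rw [hgf x hx]
      exact (h x hx).symm
    · intro P hP α hα x hx
      have hPn := Cfsg.Agent.Fusion.isFullyNormalized_of_eq_top_or_essential hP
      obtain ⟨β, hβ, c, hc, rfl⟩ :=
        Cfsg.Agent.Fusion.exists_eq_mul_of_isFullyNormalized hS hF hPn hα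
      obtain ⟨s, hs, hsc⟩ := Cfsg.Agent.Fusion.mem_autInducedBy_iff_cj.mp hc
      rw [Cfsg.Agent.Fusion.autFun_mul _ _ hx]
      have h1 := Cfsg.Agent.Fusion.mem_hyperfocal hPn.1 hβ (Cfsg.Agent.Fusion.autFun_mem c hx)
      have h2 : x ∈ H ↔ Cfsg.Agent.Fusion.autFun c x ∈ H := by
        rw [hsc x hx, Cfsg.Agent.Fusion.cj_apply]
        refine ⟨fun h => Cfsg.Agent.Fusion.hyperfocal_conj_mem hs h, fun h => ?_⟩
        have := Cfsg.Agent.Fusion.hyperfocal_conj_mem (S.inv_mem hs) h
        convert this using 1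
        group
      refine h2.trans ⟨fun h => ?_, fun h => ?_⟩
      · have := H.mul_mem h h1
        rwa [mul_inv_cancel_left] at this
      · have := H.mul_mem h (H.inv_mem h1)
        rwa [mul_inv_rev, inv_inv, mul_inv_cancel_left] at this
  exact Cfsg.Agent.Fusion.stronglyClosed_iff.mpr
    ⟨Cfsg.Agent.Fusion.hyperfocal_le, fun R f hR hf x hx => (key hf x hx).mp (hR hx)⟩

end Cfsg.Agent.S5124
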