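import Cfsg.Statements.S5234
import Cfsg.Agent.Lib.Fusion.MetacyclicClosed
import Cfsg.Agent.S0638

set_option autoImplicit false
open Cfsg

namespace Cfsg.Agent.S5234

/-- Let p be an odd prime, F a saturated fusion system over a finite p-group S and P a metacyclic subgroup of S strongly closed in F. Then P is normal in F. -/
theorem result {Ω : Type*} [Group Ω] {S : Subgroup Ω} [Finite S] (p : ℕ) [Fact p.Prime] (hS : IsPGroup p S) (F : Cfsg.FusionSystem S) (hF : F.IsSaturated p) (P : Subgroup Ω) (hP : F.StronglyClosed P) (hp : p ≠ 2) (hm : Cfsg.IsMetacyclic ↥P) : F.IsNormal P := by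
  have := Fusion.finite_of_le hP.1
  by_cases hcyc : IsCyclic ↥P
  · let _ : CommGroup ↥P := hcyc.commGroup
    let E₀ : Subgroup ↥P := (powMonoidHom p : ↥P →* ↥P).ker
    refine Fusion.isNormal_of_omega_le_sq hS hF hp hP (E₀.map P.subtype) (fun x => ⟨?_, ?_⟩) ?_ ?_
    · rintro ⟨y, hy, rfl⟩
      exact ⟨y.2, by rw [Subgroup.coe_subtype, ← Subgroup.coe_pow, show y ^ p = 1 from hy,
        Subgroup.coe_one]⟩
    · rintro ⟨hx, hxp⟩
      exact ⟨⟨x, hx⟩, show (⟨x, hx⟩ : ↥P) ^ p = 1 from Subtype.ext hxp, rfl⟩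
    · rintro _ ⟨a, -, rfl⟩ _ ⟨b, -, rfl⟩
      rw [← map_mul, mul_comm, map_mul]
    · rw [Subgroup.card_map_of_injective P.subtype_injective, ← IsCyclic.exponent_eq_card]
      refine le_trans (Nat.le_of_dvd (Fact.out : p.Prime).pos
        (Monoid.exponent_dvd_of_forall_pow_eq_one fun y => Subtype.ext y.2)) ?_
      exact Nat.le_self_pow two_ne_zero p
  · obtain ⟨hE, hcard⟩ := Cfsg.Agent.S0638.result hp (hS.to_le hP.1) hm hcyc
    refine Fusion.isNormal_of_omega_le_sq hS hF hp hP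
      ((Cfsg.omegaOne p (⊤ : Subgroup ↥P)).map P.subtype) (fun x => ⟨?_, ?_⟩) ?_ ?_
    · rintro ⟨y, hy, rfl⟩
      exact ⟨y.2, by rw [Subgroup.coe_subtype, ← Subgroup.coe_pow, hE.2 y hy, Subgroup.coe_one]⟩
    · rintro ⟨hx, hxp⟩
      exact ⟨⟨x, hx⟩, Subgroup.subset_closure ⟨Subgroup.mem_top _, Subtype.ext hxp⟩, rfl⟩
    · rintro _ ⟨a, ha, rfl⟩ _ ⟨b, hb, rfl⟩
      rw [← map_mul, ← map_mul]
      exact congrArg _ (congrArg Subtype.val (hE.1.is_comm.comm ⟨a, ha⟩ ⟨b, hb⟩))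
    · rw [Subgroup.card_map_of_injective P.subtype_injective, hcard]

end Cfsg.Agent.S5234
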