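import Cfsg.Statements.S4139
import Cfsg.Agent.Lib.FGB.TwoClassSizes
import Cfsg.Agent.Lib.Basics.Tools

set_option autoImplicit false
open Cfsg

namespace Cfsg.Agent.S4139

open scoped Pointwise

variable {K : Type*} [Group K] [Finite K]

/-- The size of the class of `x`. -/
noncomputable def cs (x : K) : ℕ := (Subgroup.centralizer ({x} : Set K)).index

theorem cs_pos (x : K) : cs x ≠ 0 := Subgroup.index_ne_zero_of_finite

theorem cs_eq_carrier (x : K) : Nat.card (ConjClasses.mk x).carrier = cs x := by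
  rw [cs]
  change _ = (Subgroup.centralizer ({ConjAct.toConjAct x} : Set (ConjAct K))).index
  rw [← ConjAct.stabilizer_eq_centralizer, MulAction.index_stabilizer, ← Nat.card_coe_set_eq,
    ConjAct.orbit_eq_carrier_conjClasses]

theorem central_iff (x : K) : x ∈ Subgroup.center K ↔ cs x = 1 := by
  rw [cs, Subgroup.index_eq_one, FGB.centralizer_singleton_eq_top_iff]

/-- A Sylow subgroup is centralized by `x` up to conjugation when the class size is prime to `p`. -/
theorem exists_sylow_centralized {p : ℕ} [Fact p.Prime] {x : K} (hx : ¬ p ∣ cs x) :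
    ∃ Q : Sylow p K, ∀ u ∈ Q, Commute u x := by
  set B := Subgroup.centralizer ({x} : Set K) with hB
  obtain ⟨R0⟩ : Nonempty (Sylow p B) := inferInstance
  set R := (R0 : Subgroup B).map B.subtype with hR
  have hRidx : ¬ p ∣ R.index := by
    rw [hR, ← Subgroup.relIndex_mul_index (Subgroup.map_subtype_le (R0 : Subgroup B)),
      (Fact.out : p.Prime).dvd_mul]
    rintro (hd | hd)
    · rw [Subgroup.relIndex, Subgroup.subgroupOf, Subgroup.comap_map_eq_self_of_injective B.subtype_injective] at hd
      exact R0.not_dvd_index hd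
    · exact hx hd
  refine ⟨(R0.2.map B.subtype).toSylow hRidx, fun u hu => ?_⟩
  exact Subgroup.mem_centralizer_singleton_iff.mp (Subgroup.map_subtype_le (R0 : Subgroup B) hu)

theorem mem_of_centralized {p : ℕ} [Fact p.Prime] (Q : Sylow p K) {y : K} (hy : ∃ k : ℕ, y ^ p ^ k = 1)
    (hc : ∀ u ∈ Q, Commute u y) : y ∈ (Q : Subgroup K) := by
  have hp := (Fact.out : p.Prime)
  obtain ⟨k, hk⟩ := hy
  obtain ⟨i, -, hi⟩ := (Nat.dvd_prime_pow hp).mp (orderOf_dvd_of_pow_eq_one hk)
  have hpy : IsPGroup p (Subgroup.zpowers y) := IsPGroup.of_card (n := i) (by rw [Nat.card_zpowers, hi])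
  have hnorm : (Q : Subgroup K) ≤ Subgroup.normalizer (Subgroup.zpowers y : Set K) := fun u hu => by
    rw [Subgroup.mem_normalizer_iff]
    intro v
    constructor
    · rintro ⟨j, rfl⟩
      refine ⟨j, ?_⟩
      show y ^ j = u * y ^ j * u⁻¹
      rw [((hc u hu).zpow_right j).eq, mul_inv_cancel_right]
    · rintro ⟨j, hj⟩
      refine ⟨j, ?_⟩
      change y ^ j = u * v * u⁻¹ at hj
      calc y ^ j = u⁻¹ * (u * y ^ j) := by group
        _ = u⁻¹ * (y ^ j * u) := by rw [((hc u hu).zpow_right j).eq]
        _ = v := by rw [hj]; group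
  have h := hpy.to_sup_of_normal_left' Q.2 hnorm
  exact (Q.3 h le_sup_right).le (Subgroup.mem_sup_left (Subgroup.mem_zpowers y))

/-- Sylow centres are central. -/
def CentralSylowCentres (K : Type*) [Group K] : Prop :=
  ∀ (r : ℕ) [Fact r.Prime] (R : Sylow r K), ∀ z ∈ (R : Subgroup K), (∀ u ∈ R, Commute u z) → z ∈ Subgroup.center K

/-- The `q`-power class elements lie in `Q ⊔ Z`. -/
theorem mem_sup_of_qpow (hA : CentralSylowCentres K) {q : ℕ} [hq : Fact q.Prime] (x : K) (k : ℕ)
    (hx : cs x = q ^ k) :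
    ∃ y w : K, x = y * w ∧ (∀ Q : Sylow q K, y ∈ (Q : Subgroup K)) ∧ w ∈ Subgroup.center K := by
  obtain ⟨y, w, hy, hw, hxy, ⟨i, hi⟩, hwc, -⟩ := FGB.exists_parts x q
  have hmono : ∀ t ∈ Subgroup.zpowers x, cs t ∣ q ^ k := by
    intro t ht
    rw [← hx]
    refine Subgroup.index_dvd_of_le ?_
    obtain ⟨j, rfl⟩ := ht
    intro u hu
    rw [Subgroup.mem_centralizer_singleton_iff] at hu ⊢
    exact (show Commute u x from hu).zpow_right j
  refine ⟨y, w, hxy.symm, ?_, ?_⟩
  · -- `y` lies in every Sylow `q`-subgroup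
    obtain ⟨Q0, hQ0⟩ : ∃ Q : Sylow q K, Subgroup.zpowers y ≤ Q :=
      (IsPGroup.of_card (p := q) (n := i) (by rw [Nat.card_zpowers, hi])).exists_le_sylow
    set C := Subgroup.centralizer ({y} : Set K) with hC
    have hconj : ∀ g : K, g * y * g⁻¹ ∈ (Q0 : Subgroup K) := by
      intro g
      have hprod : ∃ u ∈ (Q0 : Subgroup K), ∃ c ∈ C, g = u * c := by
        have hcop : (C.index).Coprime (Q0 : Subgroup K).index := by
          obtain ⟨j, -, hj⟩ := (Nat.dvd_prime_pow hq.out).mp (hmono y hy)
          rw [show C.index = q ^ j from hj]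
          exact Nat.Coprime.pow_left j ((Nat.Prime.coprime_iff_not_dvd hq.out).mpr Q0.not_dvd_index)
        have h : ((Q0 : Subgroup K) ⊓ C).index = (Q0 : Subgroup K).index * C.index :=
          le_antisymm Subgroup.index_inf_le (Nat.le_of_dvd (Nat.pos_of_ne_zero Subgroup.index_ne_zero_of_finite)
            (hcop.symm.mul_dvd_of_dvd_of_dvd (Subgroup.index_dvd_of_le inf_le_left)
              (Subgroup.index_dvd_of_le inf_le_right)))
        -- `Q0 * C` is everything
        let f : ↥(Q0 : Subgroup K) ⧸ C.subgroupOf (Q0 : Subgroup K) → K ⧸ C :=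
          Quotient.map' (fun u => (u : K)) (fun a b hab => by
            rw [QuotientGroup.leftRel_apply] at hab ⊢
            exact hab)
        have hf : Function.Injective f := by
          intro a b hab
          induction a using QuotientGroup.induction_on with | H a => ?_
          induction b using QuotientGroup.induction_on with | H b => ?_
          exact QuotientGroup.eq.mpr (Subgroup.mem_subgroupOf.mpr (QuotientGroup.eq.mp hab))
        have hcard : Nat.card (↥(Q0 : Subgroup K) ⧸ C.subgroupOf (Q0 : Subgroup K)) = Nat.card (K ⧸ C) := by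
          rw [← Subgroup.index_eq_card, ← Subgroup.index_eq_card]
          change C.relIndex Q0 = C.index
          have h1 := Subgroup.relIndex_mul_index (inf_le_left : (Q0 : Subgroup K) ⊓ C ≤ Q0)
          rw [Subgroup.inf_relIndex_left, h, mul_comm] at h1
          exact Nat.eq_of_mul_eq_mul_left (Nat.pos_of_ne_zero Subgroup.index_ne_zero_of_finite) h1
        obtain ⟨a, ha⟩ := (hf.bijective_of_nat_card_le hcard.ge).2 (g : K ⧸ C)
        induction a using QuotientGroup.induction_on with | H a => ?_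
        exact ⟨a, a.2, (a : K)⁻¹ * g, QuotientGroup.eq.mp ha, by group⟩
      obtain ⟨u, hu, c, hc, rfl⟩ := hprod
      have hcy := Subgroup.mem_centralizer_singleton_iff.mp hc
      rw [show u * c * y * (u * c)⁻¹ = u * (c * y * c⁻¹) * u⁻¹ by group, hcy, mul_inv_cancel_right]
      exact mul_mem (mul_mem hu (hQ0 (Subgroup.mem_zpowers y))) (inv_mem hu)
    intro Q
    obtain ⟨g, rfl⟩ := MulAction.exists_smul_eq K Q0 Q
    rw [Sylow.coe_subgroup_smul, Subgroup.mem_pointwise_smul_iff_inv_smul_mem]
    simpa [MulAut.smul_def] using hconj g⁻¹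
  · -- the `q'`-part is central
    have hle : Subgroup.zpowers w ≤ Subgroup.center K := by
      by_contra hne
      set W := Subgroup.zpowers w with hW
      have hidx : ((Subgroup.center K).subgroupOf W).index ≠ 1 := fun h =>
        hne (Subgroup.subgroupOf_eq_top.mp (Subgroup.index_eq_one.mp h))
      obtain ⟨r, hr, hrdvd⟩ := Nat.exists_prime_and_dvd hidx
      haveI := Fact.mk hr
      obtain ⟨T⟩ : Nonempty (Sylow r W) := inferInstance
      have hTle : (T : Subgroup W) ≤ (Subgroup.center K).subgroupOf W := by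
        intro t ht
        by_cases hrq : r = q
        · have ht1 : t = 1 := by
            obtain ⟨j, hj⟩ := T.2 ⟨t, ht⟩
            have hj' : (t : K) ^ r ^ j = 1 := congrArg (fun v : (T : Subgroup W) => ((v : W) : K)) hj
            have h1 : orderOf (t : K) ∣ r ^ j := orderOf_dvd_of_pow_eq_one hj'
            have h2 : orderOf (t : K) ∣ orderOf w := by
              rw [← Nat.card_zpowers w]
              exact Subgroup.orderOf_dvd_natCard _ t.2
            have h3 : orderOf (t : K) = 1 := Nat.eq_one_of_dvd_coprimes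
              (Nat.Coprime.pow_left j (by rw [hrq]; exact hwc.symm)) h1 h2
            exact Subtype.ext (orderOf_eq_one_iff.mp h3)
          rw [ht1]
          exact one_mem _
        · have htx : (t : K) ∈ Subgroup.zpowers x := (Subgroup.zpowers_le.mpr hw) t.2
          obtain ⟨j, -, hj⟩ := (Nat.dvd_prime_pow hq.out).mp (hmono _ htx)
          have hnd : ¬ r ∣ cs (t : K) := by
            rw [hj]
            exact fun hd => hrq ((Nat.prime_dvd_prime_iff_eq hr hq.out).mp (hr.dvd_of_dvd_pow hd))
          obtain ⟨R, hR⟩ := exists_sylow_centralized hnd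
          obtain ⟨j', hj'⟩ := T.2 ⟨t, ht⟩
          exact hA r R t (mem_of_centralized R
            ⟨j', congrArg (fun v : (T : Subgroup W) => ((v : W) : K)) hj'⟩ hR) hR
      exact T.not_dvd_index (hrdvd.trans (Subgroup.index_dvd_of_le hTle))
    exact hle (Subgroup.mem_zpowers w)

/-- In a nilpotent group Sylow subgroups of different primes commute. -/
theorem commute_sylow (hK : Group.IsNilpotent K) {p r : ℕ} [hp : Fact p.Prime] [hr : Fact r.Prime] (hpr : p ≠ r)
    (P : Sylow p K) (R : Sylow r K) {u v : K} (hu : u ∈ (P : Subgroup K)) (hv : v ∈ (R : Subgroup K)) :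
    Commute u v := by
  have hn : ∀ (r : ℕ) (_ : Fact r.Prime) (R : Sylow r K), (R : Subgroup K).Normal :=
    ((Group.isNilpotent_of_finite_tfae (G := K)).out 0 3).mp hK
  exact Subgroup.commute_of_normal_of_disjoint _ _ (hn p hp P) (hn r hr R)
    (IsPGroup.disjoint_of_ne p r hpr _ _ P.2 R.2) u v hu hv

theorem sylow_eq (hK : Group.IsNilpotent K) {p : ℕ} [hp : Fact p.Prime] (P P' : Sylow p K) :
    (P' : Subgroup K) = P := by
  obtain ⟨g, rfl⟩ := MulAction.exists_smul_eq K P P'
  have hn' : ∀ (r : ℕ) (_ : Fact r.Prime) (R : Sylow r K), (R : Subgroup K).Normal :=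
    ((Group.isNilpotent_of_finite_tfae (G := K)).out 0 3).mp hK
  have hn := hn' p hp P
  rw [Sylow.coe_subgroup_smul]
  exact hn.conj_smul_eq_self g

theorem commute_all (hK : Group.IsNilpotent K) {p : ℕ} [hp : Fact p.Prime] (P : Sylow p K) (y : K)
    (hy : ∀ u ∈ P, Commute u y) (hyP : y ∈ (P : Subgroup K)) : y ∈ Subgroup.center K := by
  rw [← FGB.centralizer_singleton_eq_top_iff, ← Subgroup.index_eq_one]
  by_contra hne
  obtain ⟨r, hr, hrd⟩ := Nat.exists_prime_and_dvd hne
  haveI := Fact.mk hr
  obtain ⟨R⟩ : Nonempty (Sylow r K) := inferInstance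
  refine R.not_dvd_index (hrd.trans (Subgroup.index_dvd_of_le fun v hv => ?_))
  rw [Subgroup.mem_centralizer_singleton_iff]
  by_cases hrp : p = r
  · subst hrp
    rw [sylow_eq hK P R] at hv
    exact hy v hv
  · exact (commute_sylow hK hrp P R hyP hv).symm

theorem centralSylow_of_nilpotent (hK : Group.IsNilpotent K) : CentralSylowCentres K :=
  fun r _ R z hz hzc => commute_all hK R z hzc hz

theorem qpow_of_mem (hK : Group.IsNilpotent K) {q : ℕ} [hq : Fact q.Prime] (Q : Sylow q K) {y : K}
    (hy : y ∈ (Q : Subgroup K)) {w : K} (hw : w ∈ Subgroup.center K) : ∃ k, cs (y * w) = q ^ k := by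
  refine ⟨_, Nat.eq_prime_pow_of_unique_prime_dvd (cs_pos _) fun {r} hr hrd => ?_⟩
  by_contra hne
  haveI := Fact.mk hr
  obtain ⟨R⟩ : Nonempty (Sylow r K) := inferInstance
  refine R.not_dvd_index (hrd.trans (Subgroup.index_dvd_of_le fun v hv => ?_))
  rw [Subgroup.mem_centralizer_singleton_iff]
  exact (commute_sylow hK (Ne.symm hne) Q R hy hv).symm.mul_right (Subgroup.mem_center_iff.mp hw v)

theorem inf_center_card {p : ℕ} [hp : Fact p.Prime] (P : Sylow p K) :
    Nat.card ((P : Subgroup K) ⊓ Subgroup.center K : Subgroup K) = p ^ (Nat.card (Subgroup.center K)).factorization p := by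
  obtain ⟨T⟩ : Nonempty (Sylow p (Subgroup.center K)) := inferInstance
  rw [← T.card_eq_multiplicity, ← Subgroup.card_map_of_injective (Subgroup.center K).subtype_injective]
  congr 2
  refine le_antisymm ?_ ?_
  · intro z hz
    refine ⟨⟨z, hz.2⟩, ?_, rfl⟩
    obtain ⟨k, hk⟩ := P.2 ⟨z, hz.1⟩
    refine mem_of_centralized T ⟨k, Subtype.ext (congrArg (fun v : (P : Subgroup K) => (v : K)) hk)⟩ fun u _ => ?_
    exact Subtype.ext (Subgroup.mem_center_iff.mp hz.2 u)
  · rintro _ ⟨t, ht, rfl⟩
    refine ⟨?_, t.2⟩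
    obtain ⟨k, hk⟩ := T.2 ⟨t, ht⟩
    exact mem_of_centralized P ⟨k, congrArg (fun v : (T : Subgroup (Subgroup.center K)) => ((v : Subgroup.center K) : K)) hk⟩
      fun u _ => Subgroup.mem_center_iff.mp t.2 u

theorem card_sup_center {p : ℕ} [hp : Fact p.Prime] (P : Sylow p K) :
    Nat.card ((P : Subgroup K) ⊔ Subgroup.center K : Subgroup K) * p ^ (Nat.card (Subgroup.center K)).factorization p =
      p ^ (Nat.card K).factorization p * Nat.card (Subgroup.center K) := by
  rw [← inf_center_card P, ← P.card_eq_multiplicity]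
  have h := Basics.card_mul_card_eq_card_sup_mul_card_inf (N := Subgroup.center K) (H := (P : Subgroup K))
    Subgroup.le_normalizer_of_normal
  rw [sup_comm, inf_comm]
  exact h.symm.trans (mul_comm _ _)

/-- The count of elements with class size prime to `p` in a nilpotent group. -/
theorem count_pprime (hK : Group.IsNilpotent K) {p : ℕ} [hp : Fact p.Prime] (P : Sylow p K) :
    Nat.card {x : K // ¬ p ∣ cs x} * p ^ (Nat.card K).factorization p =
      p ^ (Nat.card (Subgroup.center K)).factorization p * Nat.card K := by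
  set C := Subgroup.centralizer ((P : Subgroup K) : Set K) with hC
  have hiff : ∀ x : K, (¬ p ∣ cs x) ↔ x ∈ C := by
    intro x
    constructor
    · intro hx
      obtain ⟨P', hP'⟩ := exists_sylow_centralized hx
      refine Subgroup.mem_centralizer_iff.mpr fun u hu => ?_
      have : u ∈ (P' : Subgroup K) := by rw [sylow_eq hK P P']; exact hu
      exact hP' u this
    · intro hx hd
      refine P.not_dvd_index (hd.trans (Subgroup.index_dvd_of_le fun v hv => ?_))
      exact Subgroup.mem_centralizer_singleton_iff.mpr (Subgroup.mem_centralizer_iff.mp hx v hv)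
  rw [Nat.card_congr (Equiv.subtypeEquivRight hiff), ← inf_center_card P, ← P.card_eq_multiplicity]
  have hn' : ∀ (r : ℕ) (_ : Fact r.Prime) (R : Sylow r K), (R : Subgroup K).Normal :=
    ((Group.isNilpotent_of_finite_tfae (G := K)).out 0 3).mp hK
  have hn := hn' p hp P
  have hinf : C ⊓ (P : Subgroup K) = (P : Subgroup K) ⊓ Subgroup.center K := by
    ext z
    constructor
    · rintro ⟨hz1, hz2⟩
      exact ⟨hz2, commute_all hK P z (fun u hu => Subgroup.mem_centralizer_iff.mp hz1 u hu) hz2⟩
    · rintro ⟨hz1, hz2⟩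
      exact ⟨Subgroup.mem_centralizer_iff.mpr fun u _ => Subgroup.mem_center_iff.mp hz2 u, hz1⟩
  have hsup : (P : Subgroup K) ⊔ C = ⊤ := by
    by_contra hne
    have hidx : ((P : Subgroup K) ⊔ C).index ≠ 1 := fun h => hne (Subgroup.index_eq_one.mp h)
    obtain ⟨r, hr, hrd⟩ := Nat.exists_prime_and_dvd hidx
    haveI := Fact.mk hr
    obtain ⟨R⟩ : Nonempty (Sylow r K) := inferInstance
    refine R.not_dvd_index (hrd.trans (Subgroup.index_dvd_of_le fun v hv => ?_))
    by_cases hpr : p = r
    · subst hpr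
      rw [sylow_eq hK P R] at hv
      exact Subgroup.mem_sup_left hv
    · exact Subgroup.mem_sup_right (Subgroup.mem_centralizer_iff.mpr fun u hu => commute_sylow hK hpr P R hu hv)
  haveI := hn
  have h := Basics.card_mul_card_eq_card_sup_mul_card_inf (N := (P : Subgroup K)) (H := C)
    Subgroup.le_normalizer_of_normal
  rw [hsup, Subgroup.card_top, inf_comm, hinf] at h
  change Nat.card C * _ = _
  rw [mul_comm, h, mul_comm]

/-- Elements with `q`-power class in a nilpotent group. -/
theorem qpow_eq_sup (hK : Group.IsNilpotent K) {q : ℕ} [hq : Fact q.Prime] (Q : Sylow q K) (x : K) :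
    (∃ k, cs x = q ^ k) ↔ x ∈ (Q : Subgroup K) ⊔ Subgroup.center K := by
  constructor
  · rintro ⟨k, hk⟩
    obtain ⟨y, w, rfl, hy, hw⟩ := mem_sup_of_qpow (centralSylow_of_nilpotent hK) x k hk
    exact Subgroup.mul_mem_sup (hy Q) hw
  · intro hx
    obtain ⟨y, hy, w, hw, rfl⟩ := Subgroup.mem_sup_of_normal_right.mp hx
    exact qpow_of_mem hK Q hy hw

/-- From the count, Sylow centres are central. -/
theorem central_of_count {p : ℕ} [hp : Fact p.Prime] (P : Sylow p K)
    (hcount : Nat.card {x : K // ¬ p ∣ cs x} * p ^ (Nat.card K).factorization p =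
      p ^ (Nat.card (Subgroup.center K)).factorization p * Nat.card K)
    (z : K) (hz : z ∈ (P : Subgroup K)) (hzc : ∀ u ∈ P, Commute u z) : z ∈ Subgroup.center K := by
  set Z0 := (P : Subgroup K) ⊓ Subgroup.center K with hZ0
  haveI : Z0.Normal := ⟨fun n hn g => by
    rw [Subgroup.mem_center_iff.mp hn.2 g, mul_inv_cancel_right]; exact hn⟩
  let U : Set K := {x | ¬ p ∣ cs x}
  have hUmul : ∀ x : K, ∀ c ∈ Z0, cs (x * c) = cs x := by
    intro x c hc
    rw [cs, cs]
    congr 1
    ext u
    rw [Subgroup.mem_centralizer_singleton_iff, Subgroup.mem_centralizer_singleton_iff]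
    have hu : Commute u c := Subgroup.mem_center_iff.mp hc.2 u
    exact ⟨fun h => by
      have := (show Commute u (x * c) from h).mul_right hu.inv_right
      rwa [mul_inv_cancel_right] at this, fun h => (show Commute u x from h).mul_right hu⟩
  let Ub : Set (K ⧸ Z0) := QuotientGroup.mk '' U
  have hpre : QuotientGroup.mk ⁻¹' Ub = U := by
    refine Set.Subset.antisymm ?_ (Set.subset_preimage_image _ _)
    rintro x ⟨u, hu, hux⟩
    have hm := QuotientGroup.eq.mp hux
    change ¬ p ∣ cs x
    rw [show x = u * (u⁻¹ * x) by group, hUmul u _ hm]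
    exact hu
  have hUcard : Nat.card U = Nat.card Z0 * Nat.card Ub := by
    rw [← Nat.card_prod, ← Nat.card_congr (QuotientGroup.preimageMkEquivSubgroupProdSet Z0 Ub)]
    rw [hpre]
  -- the number of cosets is prime to `p`
  have hUb : ¬ p ∣ Nat.card Ub := by
    intro hd
    rw [show Nat.card {x : K // ¬ p ∣ cs x} = Nat.card U from rfl, hUcard, inf_center_card P,
      mul_assoc] at hcount
    have h1 := Nat.eq_of_mul_eq_mul_left (pow_pos hp.out.pos _) hcount
    rw [← P.card_eq_multiplicity, ← Subgroup.card_mul_index (P : Subgroup K), mul_comm] at h1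
    exact P.not_dvd_index (Nat.eq_of_mul_eq_mul_left Nat.card_pos h1 ▸ hd)
  -- the action of `P`
  have hstab : ∀ g : K, ∀ q ∈ Ub, (g : K ⧸ Z0) * q * (g : K ⧸ Z0)⁻¹ ∈ Ub := by
    rintro g _ ⟨u, hu, rfl⟩
    refine ⟨g * u * g⁻¹, ?_, by simp⟩
    change ¬ p ∣ cs (g * u * g⁻¹)
    have : cs (g * u * g⁻¹) = cs u := by
      rw [← cs_eq_carrier, ← cs_eq_carrier, ConjClasses.mk_eq_mk_iff_isConj.mpr]
      exact (isConj_iff.mpr ⟨g, rfl⟩).symm
    rw [this]
    exact hu
  letI act : MulAction (P : Subgroup K) Ub :=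
    { smul := fun g q => ⟨(((g : K) : K ⧸ Z0)) * q * (((g : K) : K ⧸ Z0))⁻¹, hstab g q q.2⟩
      one_smul := fun q => Subtype.ext (by
        show ((((1 : (P : Subgroup K)) : K)) : K ⧸ Z0) * q * _ = q
        simp)
      mul_smul := fun g h q => Subtype.ext (by
        show ((((g * h : (P : Subgroup K)) : K)) : K ⧸ Z0) * q * _ = _ * (_ * _ * _) * _
        simp [mul_assoc]) }
  set C := Subgroup.centralizer ((P : Subgroup K) : Set K) with hC
  have hCU : ∀ c ∈ C, c ∈ U := fun c hc hd => P.not_dvd_index (hd.trans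
    (Subgroup.index_dvd_of_le fun v hv => Subgroup.mem_centralizer_singleton_iff.mpr
      (Subgroup.mem_centralizer_iff.mp hc v hv)))
  have hfix : ∀ q : Ub, q ∈ MulAction.fixedPoints (P : Subgroup K) Ub ↔
      (q : K ⧸ Z0) ∈ C.map (QuotientGroup.mk' Z0) := by
    intro q
    constructor
    · intro hq
      obtain ⟨u, hu, huq⟩ := q.2
      refine ⟨u, Subgroup.mem_centralizer_iff.mpr fun g hg => ?_, huq⟩
      -- the subgroup of elements moving `u` inside its coset
      let D : Subgroup K := (Subgroup.centralizer ({(u : K ⧸ Z0)} : Set (K ⧸ Z0))).comap (QuotientGroup.mk' Z0)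
      set Cu := Subgroup.centralizer ({u} : Set K) with hCu
      have hCuD : Cu ≤ D := fun v hv => Subgroup.mem_centralizer_singleton_iff.mpr (by
        change QuotientGroup.mk' Z0 v * QuotientGroup.mk' Z0 u = QuotientGroup.mk' Z0 u * QuotientGroup.mk' Z0 v
        rw [← map_mul, ← map_mul, Subgroup.mem_centralizer_singleton_iff.mp hv])
      have hD : ∀ v : D, u⁻¹ * ((v : K) * u * (v : K)⁻¹) ∈ Z0 := fun v => by
        have h1 := Subgroup.mem_centralizer_singleton_iff.mp v.2
        refine (QuotientGroup.eq_one_iff _).mp ?_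
        change QuotientGroup.mk' Z0 _ = 1
        rw [map_mul, map_mul, map_mul, map_inv, map_inv]
        change (u : K ⧸ Z0)⁻¹ * (QuotientGroup.mk' Z0 v * (u : K ⧸ Z0) * (QuotientGroup.mk' Z0 v)⁻¹) = 1
        rw [h1, mul_inv_cancel_right, inv_mul_cancel]
      let f : D →* Z0 := MonoidHom.mk' (fun v => ⟨_, hD v⟩) fun v w => Subtype.ext (by
        have hzw := Subgroup.mem_center_iff.mp (hD w).2 (v : K)
        show u⁻¹ * (((v * w : D) : K) * u * ((v * w : D) : K)⁻¹) =
          u⁻¹ * ((v : K) * u * (v : K)⁻¹) * (u⁻¹ * ((w : K) * u * (w : K)⁻¹))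
        calc u⁻¹ * (((v * w : D) : K) * u * ((v * w : D) : K)⁻¹)
            = u⁻¹ * ((v : K) * u * ((u⁻¹ * ((w : K) * u * (w : K)⁻¹)) * (v : K)⁻¹)) := by
              push_cast; group
          _ = u⁻¹ * ((v : K) * u * ((v : K)⁻¹ * (u⁻¹ * ((w : K) * u * (w : K)⁻¹)))) := by
              rw [show u⁻¹ * ((w : K) * u * (w : K)⁻¹) * (v : K)⁻¹ = (v : K)⁻¹ * (u⁻¹ * ((w : K) * u * (w : K)⁻¹)) from
                (Subgroup.mem_center_iff.mp (hD w).2 (v : K)⁻¹).symm]
          _ = _ := by group)
      have hker : f.ker = Cu.subgroupOf D := by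
        ext v
        rw [MonoidHom.mem_ker, Subgroup.mem_subgroupOf, Subgroup.mem_centralizer_singleton_iff]
        constructor
        · intro h
          have h' : u⁻¹ * ((v : K) * u * (v : K)⁻¹) = 1 := congrArg Subtype.val h
          rw [inv_mul_eq_one, eq_mul_inv_iff_mul_eq] at h'
          exact h'.symm
        · intro h
          refine Subtype.ext ?_
          show u⁻¹ * ((v : K) * u * (v : K)⁻¹) = 1
          rw [h, mul_inv_cancel_right, inv_mul_cancel]
      have hrel : Cu.relIndex D = 1 := by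
        have h1 : Cu.relIndex D = Nat.card f.range := by rw [← Subgroup.index_ker, hker]; rfl
        obtain ⟨j, hj⟩ := IsPGroup.iff_card.mp
          ((show IsPGroup p Z0 from P.2.to_le inf_le_left).to_subgroup f.range)
        rw [hj] at h1
        rcases Nat.eq_zero_or_pos j with rfl | hj0
        · rw [h1, pow_zero]
        · exfalso
          refine hu ?_
          change p ∣ Cu.index
          rw [← Subgroup.relIndex_mul_index hCuD, h1]
          exact Dvd.dvd.mul_right (dvd_pow_self p hj0.ne') _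
      have hgD : g ∈ D := Subgroup.mem_centralizer_singleton_iff.mpr (by
        have h1 := congrArg Subtype.val (hq ⟨g, hg⟩)
        change (g : K ⧸ Z0) * (q : K ⧸ Z0) * (g : K ⧸ Z0)⁻¹ = q at h1
        rw [← huq, mul_inv_eq_iff_eq_mul] at h1
        exact h1)
      exact Subgroup.mem_centralizer_singleton_iff.mp (Subgroup.relIndex_eq_one.mp hrel hgD)
    · rintro ⟨c, hc, hcq⟩ g
      refine Subtype.ext ?_
      change ((g : K) : K ⧸ Z0) * (q : K ⧸ Z0) * ((g : K) : K ⧸ Z0)⁻¹ = q
      rw [← hcq, mul_inv_eq_iff_eq_mul]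
      change QuotientGroup.mk' Z0 g * QuotientGroup.mk' Z0 c = QuotientGroup.mk' Z0 c * QuotientGroup.mk' Z0 g
      rw [← map_mul, ← map_mul, Subgroup.mem_centralizer_iff.mp hc g g.2]
  have hmod : Nat.card Ub ≡ Nat.card (MulAction.fixedPoints (P : Subgroup K) Ub) [MOD p] :=
    P.2.card_modEq_card_fixedPoints Ub
  have hfixcard : Nat.card (MulAction.fixedPoints (P : Subgroup K) Ub) = Nat.card (C.map (QuotientGroup.mk' Z0)) := by
    refine Nat.card_congr
      { toFun := fun q => ⟨((q : Ub) : K ⧸ Z0), (hfix q.1).mp q.2⟩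
        invFun := fun c => ⟨⟨(c : K ⧸ Z0), ?_⟩, (hfix _).mpr c.2⟩
        left_inv := fun q => rfl
        right_inv := fun c => rfl }
    obtain ⟨v, hv, hvc⟩ := c.2
    exact ⟨v, hCU v hv, hvc⟩
  have hnd : ¬ p ∣ Nat.card (C.map (QuotientGroup.mk' Z0)) := by
    intro hd
    apply hUb
    rw [hfixcard] at hmod
    exact (Nat.modEq_zero_iff_dvd).mp (hmod.trans (Nat.modEq_zero_iff_dvd.mpr hd))
  have hzC : z ∈ C := Subgroup.mem_centralizer_iff.mpr fun u hu => hzc u hu
  have hmem : (z : K ⧸ Z0) ∈ C.map (QuotientGroup.mk' Z0) := ⟨z, hzC, rfl⟩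
  obtain ⟨k, hk⟩ := P.2 ⟨z, hz⟩
  have hz1 : orderOf (z : K ⧸ Z0) ∣ p ^ k := by
    refine orderOf_dvd_of_pow_eq_one ?_
    rw [← QuotientGroup.mk_pow, show z ^ p ^ k = 1 from congrArg (fun v : (P : Subgroup K) => (v : K)) hk]
    rfl
  have hz2 := Subgroup.orderOf_dvd_natCard (C.map (QuotientGroup.mk' Z0)) hmem
  have hcop : (p ^ k).Coprime (Nat.card (C.map (QuotientGroup.mk' Z0))) :=
    Nat.Coprime.pow_left k ((Nat.Prime.coprime_iff_not_dvd hp.out).mpr hnd)
  have := orderOf_eq_one_iff.mp (Nat.eq_one_of_dvd_coprimes hcop hz1 hz2)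
  exact ((QuotientGroup.eq_one_iff z).mp this).2

theorem exists_size_equiv {G H : Type*} [Group G] [Finite G] [Group H] [Finite H]
    (h : ∀ k : ℕ, Nat.card {C : ConjClasses G // Nat.card C.carrier = k} =
      Nat.card {C : ConjClasses H // Nat.card C.carrier = k}) :
    ∃ e : G ≃ H, ∀ x, cs (e x) = cs x := by
  classical
  have e0 : ∀ k : ℕ, {C : ConjClasses G // Nat.card C.carrier = k} ≃ {C : ConjClasses H // Nat.card C.carrier = k} :=
    fun k => (Finite.equivFinOfCardEq (h k)).trans (Finite.equivFin _).symm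
  let ec : ConjClasses G ≃ ConjClasses H :=
    Equiv.ofFiberEquiv (f := fun C : ConjClasses G => Nat.card C.carrier)
      (g := fun C : ConjClasses H => Nat.card C.carrier) e0
  have hec : ∀ C, Nat.card (ec C).carrier = Nat.card C.carrier := fun C => Equiv.ofFiberEquiv_map e0 C
  have e1 : ∀ C : ConjClasses G, {x : G // ConjClasses.mk x = C} ≃ {y : H // ConjClasses.mk y = ec C} := fun C => by
    refine (Finite.equivFinOfCardEq (α := {x : G // ConjClasses.mk x = C}) ?_).trans (Finite.equivFin _).symm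
    have h1 : Nat.card {x : G // ConjClasses.mk x = C} = Nat.card C.carrier :=
      Nat.card_congr (Equiv.subtypeEquivRight fun x => ConjClasses.mem_carrier_iff_mk_eq.symm)
    have h2 : Nat.card {y : H // ConjClasses.mk y = ec C} = Nat.card (ec C).carrier :=
      Nat.card_congr (Equiv.subtypeEquivRight fun x => ConjClasses.mem_carrier_iff_mk_eq.symm)
    rw [h1, h2, hec]
  let e : G ≃ H := Equiv.ofFiberEquiv (f := fun x : G => ec (ConjClasses.mk x))
    (g := fun y : H => ConjClasses.mk y) (fun D => by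
      refine (Equiv.subtypeEquivRight fun x => ?_).trans ((e1 (ec.symm D)).trans (Equiv.subtypeEquivRight fun y => ?_))
      · exact ec.apply_eq_iff_eq_symm_apply
      · rw [ec.apply_symm_apply])
  refine ⟨e, fun x => ?_⟩
  rw [← cs_eq_carrier, ← cs_eq_carrier]
  have h1 : ConjClasses.mk (e x) = ec (ConjClasses.mk x) := Equiv.ofFiberEquiv_map _ x
  rw [h1, hec]

/-- Let G and H be finite groups such that for every natural number k, G and H have the same number of conjugacy classes of size k. If H is nilpotent then G is nilpotent. -/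
theorem result {G H : Type*} [Group G] [Finite G] [Group H] [Finite H]
    (hH : Group.IsNilpotent H)
    (h : ∀ k : ℕ, Nat.card {C : ConjClasses G // Nat.card C.carrier = k} = Nat.card {C : ConjClasses H // Nat.card C.carrier = k}) :
    Group.IsNilpotent G := by
  obtain ⟨e, he⟩ := exists_size_equiv h
  have hcard : Nat.card G = Nat.card H := Nat.card_congr e
  have hZ : Nat.card (Subgroup.center G) = Nat.card (Subgroup.center H) :=
    Nat.card_congr (e.subtypeEquiv fun x => by rw [central_iff, central_iff, he])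
  have hA : CentralSylowCentres G := by
    intro r _ R z hz hzc
    refine central_of_count R ?_ z hz hzc
    obtain ⟨RH⟩ : Nonempty (Sylow r H) := inferInstance
    rw [hcard, hZ, Nat.card_congr (e.subtypeEquiv (q := fun y => ¬ r ∣ cs y) fun x => by rw [he])]
    exact count_pprime hH RH
  refine ((Group.isNilpotent_of_finite_tfae (G := G)).out 0 3).mpr fun q hq Q => ?_
  haveI := hq
  obtain ⟨QH⟩ : Nonempty (Sylow q H) := inferInstance
  have hsub : ∀ x : G, (∃ k, cs x = q ^ k) → x ∈ (Q : Subgroup G) ⊔ Subgroup.center G := by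
    rintro x ⟨k, hk⟩
    obtain ⟨y, w, rfl, hy, hw⟩ := mem_sup_of_qpow hA x k hk
    exact Subgroup.mul_mem_sup (hy Q) hw
  have hS : Nat.card {x : G // ∃ k, cs x = q ^ k} = Nat.card ((Q : Subgroup G) ⊔ Subgroup.center G : Subgroup G) := by
    rw [Nat.card_congr (e.subtypeEquiv (q := fun y => ∃ k, cs y = q ^ k) fun x => by rw [he]),
      Nat.card_congr (Equiv.subtypeEquivRight fun y => qpow_eq_sup hH QH y)]
    refine Nat.eq_of_mul_eq_mul_right (pow_pos hq.out.pos ((Nat.card (Subgroup.center H)).factorization q)) ?_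
    refine (card_sup_center QH).trans ?_
    rw [← hcard, ← hZ]
    exact (card_sup_center Q).symm
  have hall : ∀ y ∈ (Q : Subgroup G), ∃ k, cs y = q ^ k := by
    intro y hy
    have hinj : Function.Injective (fun x : {x : G // ∃ k, cs x = q ^ k} =>
        (⟨x.1, hsub x.1 x.2⟩ : ((Q : Subgroup G) ⊔ Subgroup.center G : Subgroup G))) :=
      fun a b hab => Subtype.ext (congrArg Subtype.val hab :)
    obtain ⟨x, hx⟩ := (hinj.bijective_of_nat_card_le hS.ge).2 ⟨y, Subgroup.mem_sup_left hy⟩
    have : x.1 = y := congrArg Subtype.val hx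
    exact this ▸ x.2
  -- hence every element of `Q` lies in every Sylow subgroup
  refine ⟨fun y hy g => ?_⟩
  obtain ⟨k, hk⟩ := hall y hy
  obtain ⟨y', w, hyw, hy', hw⟩ := mem_sup_of_qpow hA y k hk
  have hwQ : w ∈ (Q : Subgroup G) := by
    have : w = y'⁻¹ * y := by rw [hyw, inv_mul_cancel_left]
    rw [this]
    exact mul_mem (inv_mem (hy' Q)) hy
  rw [hyw, show g * (y' * w) * g⁻¹ = (g * y' * g⁻¹) * (g * w * g⁻¹) by group,
    Subgroup.mem_center_iff.mp hw g, mul_inv_cancel_right]
  refine mul_mem ?_ hwQ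
  have h1 := hy' (g⁻¹ • Q)
  rw [Sylow.coe_subgroup_smul, Subgroup.mem_pointwise_smul_iff_inv_smul_mem] at h1
  simpa [MulAut.smul_def] using h1

end Cfsg.Agent.S4139
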