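import Cfsg.Statements.S4035
import Cfsg.Agent.Lib.FGB.Basic
import Cfsg.Agent.Lib.FGB.PRegularClasses
import Cfsg.Agent.Lib.Transfer.Residual
-- import your own Cfsg.Agent.* helpers here

set_option autoImplicit false
open Cfsg
open scoped Pointwise

namespace Cfsg.Agent.S4035

/-- Let G be a finite group and p a prime such that p divides the size of no conjugacy class of p-regular elements (elements of order prime to p). Then G is the internal direct product of a Sylow p-subgroup P and a normal subgroup H of order prime to p: P is normal, P ⊓ H = 1 and PH = G. -/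
theorem result {G : Type*} [Group G] [Finite G] {p : ℕ} [Fact p.Prime]
    (h : ∀ x : G, (orderOf x).Coprime p → ¬ p ∣ (ConjClasses.mk x).carrier.ncard) (P : Sylow p G) :
    (P : Subgroup G).Normal ∧ ∃ H : Subgroup G, H.Normal ∧ ¬ p ∣ Nat.card H ∧
      (P : Subgroup G) ⊓ H = ⊥ ∧ (P : Subgroup G) ⊔ H = ⊤ := by
  classical
  have hp : p.Prime := Fact.out
  set C := Subgroup.centralizer ((P : Subgroup G) : Set G) with hC
  have htop : (P : Subgroup G) ⊔ C = ⊤ := by
    refine FGB.eq_top_of_conj_cover fun g => ?_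
    obtain ⟨a, b, -, hb, hab, ⟨k, hak⟩, hbc⟩ := Transfer.exists_pPart_mul (p := p) g
    have hcomm : Commute b a := by
      have hab' : a = g * b⁻¹ := eq_mul_inv_of_mul_eq hab
      obtain ⟨j, rfl⟩ := hb
      rw [hab', ← zpow_neg]
      exact ((Commute.refl g).zpow_left j).mul_right (Commute.zpow_zpow_self g j (-j))
    set B := Subgroup.centralizer ({b} : Set G) with hB
    have hnd : ¬ p ∣ B.index := by
      rw [hB, ← FGB.ncard_carrier_eq_index_centralizer]
      exact h b hbc
    obtain ⟨R0, hR0⟩ := (IsPGroup.of_card_dvd_pow (p := p) (n := k) (G := Subgroup.zpowers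
      (⟨a, Subgroup.mem_centralizer_singleton_iff.mpr hcomm.eq.symm⟩ : B))
      (by rw [Nat.card_zpowers, Subgroup.orderOf_mk]; exact hak)).exists_le_sylow
    have haR : a ∈ (R0 : Subgroup B).map B.subtype := ⟨_, hR0 (Subgroup.mem_zpowers _), rfl⟩
    set R := (R0 : Subgroup B).map B.subtype with hR
    have hRidx : ¬ p ∣ R.index := by
      rw [hR, ← Subgroup.relIndex_mul_index (Subgroup.map_subtype_le (R0 : Subgroup B)), hp.dvd_mul]
      rintro (hd | hd)
      · rw [Subgroup.relIndex, Subgroup.subgroupOf, Subgroup.comap_map_eq_self_of_injective B.subtype_injective] at hd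
        exact R0.not_dvd_index hd
      · exact hnd hd
    have hRp : IsPGroup p R := R0.2.map B.subtype
    let RS : Sylow p G := hRp.toSylow hRidx
    obtain ⟨t, ht⟩ := MulAction.exists_smul_eq G RS P
    have hmem : ∀ r ∈ R, t * r * t⁻¹ ∈ (P : Subgroup G) := fun r hr => by
      rw [← ht, Sylow.coe_subgroup_smul]
      exact Subgroup.smul_mem_pointwise_smul r (MulAut.conj t) _ hr
    refine ⟨t, ?_⟩
    rw [← hab, show t * (a * b) * t⁻¹ = (t * a * t⁻¹) * (t * b * t⁻¹) by group]
    refine mul_mem (Subgroup.mem_sup_left (hmem a haR)) (Subgroup.mem_sup_right ?_)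
    rw [hC, Subgroup.mem_centralizer_iff]
    intro u hu
    have hu' : t⁻¹ * u * t ∈ B := by
      have h1 : u ∈ MulAut.conj t • R := by rw [← ht, Sylow.coe_subgroup_smul] at hu; exact hu
      obtain ⟨r, hr, rfl⟩ := h1
      have : t⁻¹ * (t * r * t⁻¹) * t = r := by group
      exact this.symm ▸ (Subgroup.map_subtype_le (R0 : Subgroup B) hr)
    rw [hB, Subgroup.mem_centralizer_singleton_iff] at hu'
    calc u * (t * b * t⁻¹) = t * ((t⁻¹ * u * t) * b) * t⁻¹ := by group
      _ = t * (b * (t⁻¹ * u * t)) * t⁻¹ := by rw [hu']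
      _ = _ := by group
  have hPn : (P : Subgroup G).Normal := by
    rw [← Subgroup.normalizer_eq_top_iff, eq_top_iff, ← htop]
    exact sup_le Subgroup.le_normalizer (Subgroup.centralizer_le_normalizer _)
  haveI := hPn
  haveI hCn : C.Normal := inferInstanceAs (Subgroup.centralizer ((P : Subgroup G) : Set G)).Normal
  obtain ⟨K, hK⟩ := Subgroup.exists_right_complement'_of_coprime P.card_coprime_index
  have hKC : ∀ k ∈ K, k ∈ C := fun k hk => by
    rw [← QuotientGroup.eq_one_iff, ← orderOf_eq_one_iff]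
    refine Nat.eq_one_of_dvd_coprimes P.card_coprime_index ((_root_.orderOf_dvd_natCard _).trans ?_)
      ((orderOf_map_dvd (QuotientGroup.mk' C) k).trans ?_)
    · rw [← Subgroup.index_eq_card, ← Subgroup.relIndex_top_right, ← htop, Subgroup.relIndex_sup_right]
      exact Subgroup.relIndex_dvd_card _ _
    · rw [hK.symm.index_eq_card, ← Subgroup.orderOf_mk k hk]
      exact _root_.orderOf_dvd_natCard _
  refine ⟨hPn, K, ⟨fun k hk g => ?_⟩, ?_, hK.disjoint.eq_bot, hK.sup_eq_top⟩
  · obtain ⟨⟨⟨u, hu⟩, ⟨v, hv⟩⟩, huv, -⟩ := hK.existsUnique g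
    rw [← huv]
    have h1 : v * k * v⁻¹ ∈ K := mul_mem (mul_mem hv hk) (inv_mem hv)
    show u * v * k * (u * v)⁻¹ ∈ K
    rw [show u * v * k * (u * v)⁻¹ = u * (v * k * v⁻¹) * u⁻¹ by group,
      Subgroup.mem_centralizer_iff.mp (hKC _ h1) u hu, mul_inv_cancel_right]
    exact h1
  · rw [← hK.symm.index_eq_card]
    exact P.not_dvd_index
end Cfsg.Agent.S4035
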