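import Cfsg.Statements.S4127
import Cfsg.Agent.S4035
import Cfsg.Agent.Lib.FGB.Basic
import Cfsg.Agent.Lib.FGB.PRegularClasses
-- import your own Cfsg.Agent.* helpers here

set_option autoImplicit false
open Cfsg

namespace Cfsg.Agent.S4127

/-- Let G be a finite group, p a prime and p^a the largest power of p dividing the size of any conjugacy class of G. If some element of p-power order has a conjugacy class of size exactly p^a, then G has a normal p-complement. -/
theorem result {G : Type*} [Group G] [Finite G] (p : ℕ) [Fact p.Prime]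
    (a : ℕ) (hmax : ∀ y : G, ¬ p ^ (a + 1) ∣ (Subgroup.centralizer ({y} : Set G)).index)
    (hx : ∃ x : G, (∃ k : ℕ, orderOf x = p ^ k) ∧ (Subgroup.centralizer ({x} : Set G)).index = p ^ a) :
    Cfsg.HasNormalPComplement p G := by
  classical
  have hp : p.Prime := Fact.out
  obtain ⟨x, ⟨k, hk⟩, hxi⟩ := hx
  set C := Subgroup.centralizer ({x} : Set G) with hC
  have hxC : x ∈ C := FGB.mem_centralizer_singleton_self x
  have hloc : ∀ y : C, (orderOf y).Coprime p → ¬ p ∣ (ConjClasses.mk y).carrier.ncard := by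
    intro y hy hd
    set B := Subgroup.centralizer ({(y : G)} : Set G) with hB
    have hrel : (Subgroup.centralizer ({y} : Set C)) = B.subgroupOf C := by
      ext z
      rw [Subgroup.mem_subgroupOf, hB, Subgroup.mem_centralizer_singleton_iff, Subgroup.mem_centralizer_singleton_iff]
      exact Subtype.ext_iff
    rw [FGB.ncard_carrier_eq_index_centralizer, hrel, ← Subgroup.relIndex] at hd
    have hxy : Commute x (y : G) := (Subgroup.mem_centralizer_singleton_iff.mp y.2).symm
    have hcop : (orderOf x).Coprime (orderOf (y : G)) := by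
      rw [hk, Subgroup.orderOf_coe]; exact Nat.Coprime.pow_left _ hy.symm
    apply hmax (x * (y : G))
    rw [FGB.centralizer_mul_of_coprime hxy hcop,
      ← Subgroup.relIndex_mul_index (inf_le_left : C ⊓ B ≤ C), Subgroup.inf_relIndex_left, hxi, pow_succ, mul_comm]
    exact Nat.mul_dvd_mul_right hd _
  obtain ⟨P0⟩ : Nonempty (Sylow p C) := inferInstance
  obtain ⟨hP0n, H0, hH0n, hH0p, hinf, hsup⟩ := S4035.result hloc P0
  haveI := hP0n
  haveI := hH0n
  have hcomm : ∀ u ∈ (P0 : Subgroup C), ∀ v ∈ H0, Commute u v := fun u hu v hv =>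
    Subgroup.commute_of_normal_of_disjoint _ _ hP0n hH0n (disjoint_iff.mpr hinf) u v hu hv
  set P0' := (P0 : Subgroup C).map C.subtype with hP0'
  set Hs := H0.map C.subtype with hHs
  have hPsub : ∀ U : Subgroup G, IsPGroup p U → U ≤ C → (U.subgroupOf C).Normal → U ≤ P0' := by
    intro U hU hUC hUn u hu
    haveI := hUn
    exact ⟨⟨u, hUC hu⟩, IsPGroup.le_sylow_of_normal (N := U.subgroupOf C) hU.comap_subtype P0 hu, rfl⟩
  have hx0 : x ∈ P0' := by
    refine hPsub (Subgroup.zpowers x) (IsPGroup.of_card (n := k) (by rw [Nat.card_zpowers, hk]))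
      (Subgroup.zpowers_le.mpr hxC) ⟨fun z hz c => ?_⟩ (Subgroup.mem_zpowers x)
    rw [Subgroup.mem_subgroupOf] at hz ⊢
    obtain ⟨i, hi⟩ := hz
    have hi' : x ^ i = (z : G) := hi
    have hc : Commute (c : G) x := Subgroup.mem_centralizer_singleton_iff.mp c.2
    refine ⟨i, ?_⟩
    show x ^ i = (c : G) * (z : G) * (c : G)⁻¹
    rw [← hi', (hc.zpow_right i).eq, mul_inv_cancel_right]
  obtain ⟨P, hP⟩ := (P0.2.map C.subtype).exists_le_sylow
  -- `G = P C`
  have hfac : ∀ g : G, ∃ u ∈ (P : Subgroup G), u⁻¹ * g ∈ C := by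
    intro g
    set D := C.subgroupOf (P : Subgroup G) with hD
    have hD1 : Nat.card D ≤ p ^ (Nat.card C).factorization p := by
      rw [hD, ← Subgroup.inf_subgroupOf_right, Basics.card_subgroupOf inf_le_right]
      exact FGB.card_le_pow_factorization (P.2.to_le inf_le_right) inf_le_left
    let f : (P : Subgroup G) ⧸ D → G ⧸ C := Quotient.map' (fun u : (P : Subgroup G) => (u : G)) fun u v huv => by
      rw [QuotientGroup.leftRel_apply] at huv ⊢
      exact huv
    have hf : Function.Injective f := by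
      intro u v huv
      induction u using QuotientGroup.induction_on with
      | H u =>
        induction v using QuotientGroup.induction_on with
        | H v => exact QuotientGroup.eq.mpr (show ((u⁻¹ * v : (P : Subgroup G)) : G) ∈ C from QuotientGroup.eq.mp huv)
    have hge : Nat.card (G ⧸ C) ≤ Nat.card ((P : Subgroup G) ⧸ D) := by
      rw [← Subgroup.index_eq_card, ← Subgroup.index_eq_card]
      have h1 := C.card_mul_index
      have h2 := D.card_mul_index
      rw [P.card_eq_multiplicity] at h2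
      have h3 : (Nat.card G).factorization p = (Nat.card C).factorization p + a := by
        rw [← h1, hxi, Nat.factorization_mul Nat.card_pos.ne' (pow_pos hp.pos a).ne', hp.factorization_pow]
        simp
      rw [h3, pow_add] at h2
      rw [hxi]
      refine (Nat.mul_le_mul_left_iff (pow_pos hp.pos ((Nat.card C).factorization p))).mp ?_
      rw [← h2]
      exact Nat.mul_le_mul_right _ hD1
    have hbij := hf.bijective_of_nat_card_le hge
    obtain ⟨q, hq⟩ := hbij.2 (g : G ⧸ C)
    induction q using QuotientGroup.induction_on with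
    | H u => exact ⟨u, u.2, QuotientGroup.eq.mp hq⟩
  set Q := Cfsg.pCore p G with hQ
  haveI hQn : Q.Normal := by rw [hQ]; infer_instance
  have hxQ : x ∈ Q := by
    have hle : Subgroup.normalClosure ({x} : Set G) ≤ (P : Subgroup G) := by
      refine (Subgroup.closure_le _).mpr fun z hz => ?_
      obtain ⟨y, hy, hyz⟩ := Group.mem_conjugatesOfSet_iff.mp hz
      rw [Set.mem_singleton_iff] at hy
      subst hy
      obtain ⟨g, rfl⟩ := isConj_iff.mp hyz
      obtain ⟨u, hu, huc⟩ := hfac g
      have hc := Subgroup.mem_centralizer_singleton_iff.mp huc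
      have e : g * y * g⁻¹ = u * y * u⁻¹ := by
        calc g * y * g⁻¹ = u * ((u⁻¹ * g) * y) * g⁻¹ := by group
          _ = u * (y * (u⁻¹ * g)) * g⁻¹ := by rw [hc]
          _ = u * y * u⁻¹ := by group
      rw [e]
      exact mul_mem (mul_mem hu (hP hx0)) (inv_mem hu)
    exact Basics.le_pCore (P.2.to_le hle) (Subgroup.subset_normalClosure rfl)
  have hQp : IsPGroup p Q := Basics.pCore_isPGroup p
  set D := Q ⊓ Subgroup.centralizer (Hs : Set G) with hD
  have hsmall : ∀ w ∈ Q, Commute w x → w ∈ D := by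
    intro w hwQ hwx
    have hwC : w ∈ C := Subgroup.mem_centralizer_singleton_iff.mpr hwx
    have h1 : w ∈ P0' := hPsub (Q ⊓ C) (hQp.to_le inf_le_left) inf_le_right
      (by rw [Subgroup.inf_subgroupOf_right]; exact hQn.subgroupOf C) ⟨hwQ, hwC⟩
    refine ⟨hwQ, Subgroup.mem_centralizer_iff.mpr ?_⟩
    rintro _ ⟨v, hv, rfl⟩
    obtain ⟨u, hu, rfl⟩ := h1
    exact congrArg Subtype.val (hcomm u hu v hv).eq.symm
  have hxD : x ∈ D := hsmall x hxQ (Commute.refl x)
  have hDQ : Q ≤ D := by
    by_contra hne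
    have hlt : D.subgroupOf Q < ⊤ := lt_top_iff_ne_top.mpr (by rwa [Ne, Subgroup.subgroupOf_eq_top])
    haveI : Group.IsNilpotent Q := hQp.isNilpotent
    obtain ⟨u, hu, huD⟩ := SetLike.exists_of_lt (Group.normalizerCondition_of_isNilpotent _ hlt)
    apply huD
    refine ⟨u.2, Subgroup.mem_centralizer_iff.mpr fun h hh => ?_⟩
    set w := h * (u : G) * h⁻¹ * (u : G)⁻¹ with hw
    have hwQ : w ∈ Q := mul_mem (hQn.conj_mem _ u.2 h) (inv_mem u.2)
    have hd : (u : G)⁻¹ * x * u ∈ D := by
      have h1 : (⟨x, hxQ⟩ : Q) ∈ D.subgroupOf Q := hxD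
      have h2 := (Subgroup.mem_normalizer_iff.mp (inv_mem hu) _).mp h1
      simpa [Subgroup.mem_subgroupOf] using h2
    have hwx : Commute w x := by
      have h1 : h * x = x * h := Subgroup.mem_centralizer_iff.mp hxD.2 h hh
      have h2 : h * ((u : G)⁻¹ * x * u) = ((u : G)⁻¹ * x * u) * h := Subgroup.mem_centralizer_iff.mp hd.2 h hh
      have h3 : h⁻¹ * x = x * h⁻¹ := (show Commute h x from h1).inv_left.eq
      show w * x = x * w
      calc w * x = h * u * h⁻¹ * (((u : G)⁻¹ * x * u) * (u : G)⁻¹) := by rw [hw]; group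
        _ = h * u * (h⁻¹ * ((u : G)⁻¹ * x * u)) * (u : G)⁻¹ := by group
        _ = h * u * (((u : G)⁻¹ * x * u) * h⁻¹) * (u : G)⁻¹ := by rw [(show Commute h _ from h2).inv_left.eq]
        _ = (h * x) * u * h⁻¹ * (u : G)⁻¹ := by group
        _ = x * w := by rw [h1, hw]; group
    have hwh : Commute h w := Subgroup.mem_centralizer_iff.mp (hsmall w hwQ hwx).2 h hh
    have hiter : ∀ i : ℕ, h ^ i * u * (h ^ i)⁻¹ = w ^ i * u := by
      intro i
      induction i with
      | zero => simp
      | succ i hi =>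
        calc h ^ (i + 1) * u * (h ^ (i + 1))⁻¹ = h * (h ^ i * u * (h ^ i)⁻¹) * h⁻¹ := by rw [pow_succ']; group
          _ = (h * w ^ i) * u * h⁻¹ := by rw [hi]; group
          _ = (w ^ i * h) * u * h⁻¹ := by rw [(hwh.pow_right i).eq]
          _ = w ^ i * w * u := by rw [hw]; group
          _ = w ^ (i + 1) * u := by rw [pow_succ]
    have h1 : w ^ orderOf h = 1 := by
      have := hiter (orderOf h)
      rw [pow_orderOf_eq_one, one_mul, inv_one, mul_one] at this
      exact (mul_eq_right.mp this.symm)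
    have hw1 : w = 1 := by
      obtain ⟨j, hj⟩ := IsPGroup.iff_orderOf.mp hQp ⟨w, hwQ⟩
      rw [Subgroup.orderOf_mk] at hj
      refine orderOf_eq_one_iff.mp (Nat.eq_one_of_dvd_coprimes ?_ (dvd_of_eq hj) (orderOf_dvd_of_pow_eq_one h1))
      refine Nat.Coprime.pow_left _ (hp.coprime_iff_not_dvd.mpr fun hd => hH0p (hd.trans ?_))
      obtain ⟨v, hv, rfl⟩ := hh
      show orderOf (v : G) ∣ Nat.card H0
      rw [Subgroup.orderOf_coe, ← Subgroup.orderOf_mk v hv]
      exact _root_.orderOf_dvd_natCard _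
    rw [hw] at hw1
    exact mul_inv_eq_iff_eq_mul.mp (mul_inv_eq_one.mp hw1)
  have hHn : Hs.Normal := by
    refine ⟨fun h hh g => ?_⟩
    have hK : g * h * g⁻¹ ∈ C := by
      rw [hC, Subgroup.mem_centralizer_singleton_iff]
      have h1 := Subgroup.mem_centralizer_iff.mp
        (hDQ (by simpa using hQn.conj_mem x hxQ g⁻¹ : g⁻¹ * x * g ∈ Q)).2 h hh
      calc g * h * g⁻¹ * x = g * (h * (g⁻¹ * x * g)) * g⁻¹ := by group
        _ = g * ((g⁻¹ * x * g) * h) * g⁻¹ := by rw [h1]
        _ = x * (g * h * g⁻¹) := by group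
    refine ⟨⟨_, hK⟩, ?_, rfl⟩
    rw [SetLike.mem_coe, ← QuotientGroup.eq_one_iff, ← orderOf_eq_one_iff]
    have hco : (Nat.card (P0 : Subgroup C)).Coprime (Nat.card H0) := by
      rw [P0.card_eq_multiplicity]; exact Nat.Coprime.pow_left _ (hp.coprime_iff_not_dvd.mpr hH0p)
    refine Nat.eq_one_of_dvd_coprimes hco ((_root_.orderOf_dvd_natCard _).trans ?_)
      ((orderOf_map_dvd (QuotientGroup.mk' H0) _).trans ?_)
    · rw [← Subgroup.index_eq_card, ← Subgroup.relIndex_top_right, ← hsup, Subgroup.relIndex_sup_right]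
      exact Subgroup.relIndex_dvd_card _ _
    · rw [Subgroup.orderOf_mk, show orderOf (g * h * g⁻¹) = orderOf h from
        orderOf_injective (MulAut.conj g).toMonoidHom (MulAut.conj g).injective h]
      obtain ⟨v, hv, rfl⟩ := hh
      show orderOf (v : G) ∣ Nat.card H0
      rw [Subgroup.orderOf_coe, ← Subgroup.orderOf_mk v hv]
      exact _root_.orderOf_dvd_natCard _
  refine ⟨P, Hs, hHn, Subgroup.isComplement'_of_coprime ?_ ?_⟩
  · have h1 := C.card_mul_index
    have hcompC : (P0 : Subgroup C).IsComplement' H0 :=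
      Subgroup.isComplement'_of_disjoint_and_mul_eq_univ (disjoint_iff.mpr hinf) (by
        rw [← Subgroup.normal_mul, hsup]; rfl)
    have h2 := hcompC.card_mul
    have h3 : (Nat.card G).factorization p = (Nat.card C).factorization p + a := by
      rw [← h1, hxi, Nat.factorization_mul Nat.card_pos.ne' (pow_pos hp.pos a).ne', hp.factorization_pow]
      simp
    rw [P.card_eq_multiplicity, h3, pow_add, ← P0.card_eq_multiplicity, hHs,
      Subgroup.card_map_of_injective C.subtype_injective]
    conv_rhs => rw [← h1, hxi, ← h2]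
    ring
  · rw [hHs, Subgroup.card_map_of_injective C.subtype_injective, P.card_eq_multiplicity]
    exact Nat.Coprime.pow_right _ (Nat.Coprime.symm (hp.coprime_iff_not_dvd.mpr hH0p))
end Cfsg.Agent.S4127
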