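import Cfsg.Statements.S4365
import Cfsg.Agent.Lib.Basics.CoprimeGen

set_option autoImplicit false
open Cfsg
open scoped Pointwise
set_option linter.all false

namespace Cfsg.Agent.S4365

open Subgroup
open scoped commutatorElement IsMulCommutative

theorem exists_central_pow_mem {G : Type*} [Group G] [Finite G] {p : ℕ} [Fact p.Prime]
    (hG : IsPGroup p G) (N : Subgroup G) [N.Normal] (hN : N ≠ ⊤) :
    ∃ h : G, h ∉ N ∧ h ^ p ∈ N ∧ ∀ g : G, ⁅g, h⁆ ∈ N := by
  haveI : Nontrivial (G ⧸ N) := QuotientGroup.nontrivial_iff.2 hN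
  have hQ := hG.to_quotient N
  haveI := hQ.center_nontrivial
  obtain ⟨n, hn0, hn⟩ := (hQ.to_subgroup (center (G ⧸ N))).nontrivial_iff_card.1 inferInstance
  obtain ⟨q, hq⟩ := exists_prime_orderOf_dvd_card' (G := center (G ⧸ N)) p
    (by rw [hn]; exact dvd_pow_self _ hn0.ne')
  obtain ⟨h, hh⟩ := QuotientGroup.mk_surjective (q : G ⧸ N)
  have hq1 : (q : G ⧸ N) ≠ 1 := by
    intro h1
    have := (Fact.out : p.Prime).ne_one
    rw [show q = 1 from Subtype.ext h1, orderOf_one] at hq
    exact this hq.symm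
  refine ⟨h, fun hm => hq1 ?_, ?_, fun g => ?_⟩
  · rw [← hh]; exact (QuotientGroup.eq_one_iff h).2 hm
  · rw [← QuotientGroup.eq_one_iff, QuotientGroup.mk_pow, hh, ← SubmonoidClass.coe_pow, ← hq,
      pow_orderOf_eq_one]; rfl
  · rw [← QuotientGroup.eq_one_iff]
    show QuotientGroup.mk' N ⁅g, h⁆ = 1
    rw [map_commutatorElement, commutatorElement_eq_one_iff_commute]
    show Commute (g : G ⧸ N) (h : G ⧸ N)
    rw [hh]
    exact mem_center_iff.1 q.2 _


/-- Let P be a finite p-group whose conjugacy class sizes are exactly 1 and pᵃ for some a ≥ 1. Then every element of P has its p-th power in the center of P (P/Z(P) has exponent p). -/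
theorem result {P : Type*} [Group P] [Finite P] (p : ℕ) [Fact p.Prime]
    (hP : IsPGroup p P) (a : ℕ) (ha : 1 ≤ a)
    (hcs : {k : ℕ | ∃ x : P, (Subgroup.centralizer ({x} : Set P)).index = k} = {1, p ^ a}) (x : P) :
    x ^ p ∈ Subgroup.center P := by
  classical
  by_contra hx
  have hp := (Fact.out : p.Prime)
  let C : P → Subgroup P := fun y => centralizer ({y} : Set P)
  have hmem : ∀ y z, z ∈ C y ↔ Commute y z := fun y z => by
    show z ∈ centralizer _ ↔ _
    rw [mem_centralizer_singleton_iff]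
    first | exact Iff.rfl | exact ⟨fun h => h.symm, fun h => h.symm⟩
  have hzc : ∀ y, y ∈ center P ↔ ∀ z, Commute y z := fun y => by
    rw [mem_center_iff]; exact ⟨fun h z => (h z).symm, fun h z => (h z).symm⟩
  have hidx : ∀ y, y ∉ center P → (C y).index = p ^ a := by
    intro y hy
    have h1 : (C y).index ∈ ({1, p ^ a} : Set ℕ) := hcs ▸ ⟨y, rfl⟩
    rcases h1 with h1 | h1
    · refine absurd ((hzc y).2 fun z => (hmem y z).1 ?_) hy
      rw [index_eq_one] at h1; rw [h1]; trivial
    · exact h1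
  have hCeq : ∀ y z, y ∉ center P → z ∉ center P → C y ≤ C z → C y = C z := by
    intro y z hy hz hle
    refine le_antisymm hle ?_
    rw [← relIndex_eq_one]
    have h1 := relIndex_mul_index hle
    rw [hidx y hy, hidx z hz] at h1
    exact (Nat.mul_eq_right (pow_ne_zero a hp.ne_zero)).1 h1
  have hCp : ∀ y, y ^ p ∉ center P → C y = C (y ^ p) := fun y hy =>
    hCeq y _ (fun h => hy (pow_mem h p)) hy fun z hz => (hmem _ z).2 ((( hmem y z).1 hz).pow_left p)
  obtain ⟨w, hw, hwp, hwc⟩ := exists_central_pow_mem hP (center P)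
    (fun h => hx (h ▸ mem_top _))
  have hwx : ∀ y, y ^ p ∉ center P → Commute y w := by
    intro y hy
    have hzw : ∀ n : ℕ, y * w ^ n * y⁻¹ = ⁅y, w⁆ ^ n * w ^ n := by
      intro n
      rw [← conj_pow, show y * w * y⁻¹ = ⁅y, w⁆ * w by rw [commutatorElement_def]; group,
        ((hzc _).1 (hwc y) w).mul_pow]
    have hz1 : ⁅y, w⁆ ^ p = 1 := by
      have h2 := hzw p
      rw [(( hzc _).1 hwp y).symm.eq, mul_inv_cancel_right] at h2
      exact mul_eq_right.1 h2.symm
    have hyn : ∀ n : ℕ, y ^ n * w * (y ^ n)⁻¹ = ⁅y, w⁆ ^ n * w := by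
      intro n
      induction n with
      | zero => simp
      | succ n ih =>
        have hz := (hzc _).1 (hwc y) y
        rw [pow_succ' y, show y * y ^ n * w * (y * y ^ n)⁻¹ = y * (y ^ n * w * (y ^ n)⁻¹) * y⁻¹ by group,
          ih, ← mul_assoc, ← (hz.pow_left n).eq,
          show ⁅y, w⁆ ^ n * y * w * y⁻¹ = ⁅y, w⁆ ^ n * (y * w * y⁻¹) by group,
          show y * w * y⁻¹ = ⁅y, w⁆ * w by rw [commutatorElement_def]; group, ← mul_assoc, ← pow_succ]
    have h3 : Commute (y ^ p) w := by
      have := hyn p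
      rw [hz1, one_mul, mul_inv_eq_iff_eq_mul] at this
      exact this
    have h4 : w ∈ C (y ^ p) := (hmem _ _).2 h3
    rw [← hCp y hy] at h4
    exact (hmem _ _).1 h4
  set A := C w with hA
  haveI hAn : A.Normal := by
    refine ⟨fun b hb g => (hmem _ _).2 ?_⟩
    have hb' := (hmem _ _).1 hb
    have h1 : Commute (g * w * g⁻¹) (g * b * g⁻¹) := by
      show g * w * g⁻¹ * (g * b * g⁻¹) = g * b * g⁻¹ * (g * w * g⁻¹)
      rw [show g * w * g⁻¹ * (g * b * g⁻¹) = g * (w * b) * g⁻¹ by group, hb'.eq]; group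
    rw [show g * w * g⁻¹ = ⁅g, w⁆ * w by rw [commutatorElement_def]; group] at h1
    have h2 := (((hzc _).1 (hwc g) (g * b * g⁻¹)).inv_left).mul_left h1
    rwa [inv_mul_cancel_left] at h2
  have hout : ∀ y, y ∉ A → y ^ p ∈ center P := fun y hy => by
    by_contra h
    exact hy ((hmem _ _).2 (hwx y h).symm)
  have hCA : ∀ y, y ^ p ∉ center P → C y = A := by
    intro y hy
    have hyA : y ∈ A := (hmem _ _).2 (hwx y hy).symm
    refine hCeq y w (fun h => hy (pow_mem h p)) hw fun z hz => ?_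
    by_contra hzA
    have hyz : y * z ∉ A := fun h => hzA ((mul_mem_cancel_left hyA).1 h)
    have h1 := hout _ hyz
    rw [((hmem _ _).1 hz).mul_pow] at h1
    exact hy ((mul_mem_cancel_right (hout z hzA)).1 h1)
  have hAab : ∀ b ∈ A, ∀ c ∈ A, Commute b c := by
    intro b hb c hc
    have hxc : Commute x c := by rw [← hmem, hCA x hx]; exact hc
    by_cases hbp : b ^ p ∈ center P
    · have hxb : Commute x b := by rw [← hmem, hCA x hx]; exact hb
      have hbx : (b * x) ^ p ∉ center P := fun h => by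
        rw [hxb.symm.mul_pow] at h
        exact hx ((mul_mem_cancel_left hbp).1 h)
      have h1 : Commute (b * x) c := by rw [← hmem, hCA _ hbx]; exact hc
      simpa using h1.mul_left hxc.inv_left
    · rw [← hmem, hCA b hbp]; exact hc
  have hCb : ∀ b ∈ A, b ∉ center P → ∀ g, Commute b g → g ∈ A := by
    intro b hb hbz g hg
    rw [hA, hCeq w b hw hbz fun z hz => (hmem _ _).2 (hAab b hb z hz)]
    exact (hmem _ _).2 hg
  have hA1 : A ≠ ⊤ := fun h => hw ((hzc w).2 fun z => (hmem w z).1 (h.symm ▸ mem_top z : z ∈ A))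
  obtain ⟨h, hhA, hhp, hhc⟩ := exists_central_pow_mem hP A hA1
  have hxA : x ∈ A := (hmem _ _).2 (hwx x hx).symm
  have hgen : ∀ g : P, ∃ j : ℕ, g * h ^ j ∈ A := by
    intro g
    by_contra hcon
    push Not at hcon
    have hgA : g ∉ A := by simpa using hcon 0
    haveI : IsMulCommutative A := ⟨⟨fun b c => Subtype.ext (hAab b b.2 c c.2)⟩⟩
    have hone : ∀ k ∈ A, MulAut.conjNormal (H := A) k = 1 := fun k hk => MulEquiv.ext fun v => by
      refine Subtype.ext ?_
      rw [MulAut.conjNormal_apply, MulAut.one_apply, (hAab k hk v v.2).eq, mul_inv_cancel_right]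
    have hcl : (center P) ≤ A := fun z hz => (hmem _ _).2 ((hzc z).1 hz w).symm
    have h1 : (⟨x, hxA⟩ : A) ^ p ∈ (center P).subgroupOf A := by
      refine Basics.pow_mem_of_commuting_auts p (MulAut.conjNormal (H := A) g)
        (MulAut.conjNormal (H := A) h) ?_ ?_ ?_ ((center P).subgroupOf A) ?_ _
      · refine commutatorElement_eq_one_iff_commute.1 ?_
        rw [← map_commutatorElement]
        exact hone _ (hhc g)
      · rw [← map_pow]; exact hone _ (hcl (hout g hgA))
      · rw [← map_pow]; exact hone _ hhp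
      · intro φ hφ v hv
        rw [mem_subgroupOf]
        by_contra hvc
        obtain ⟨γ, hγ, rfl⟩ : ∃ γ : P, γ ∉ A ∧ φ = MulAut.conjNormal (H := A) γ := by
          rcases hφ with ⟨j, rfl⟩ | rfl
          · exact ⟨g * h ^ j, hcon j, by rw [map_mul, map_pow]⟩
          · exact ⟨h, hhA, rfl⟩
        have h1 := congrArg Subtype.val hv
        rw [MulAut.conjNormal_apply, mul_inv_eq_iff_eq_mul] at h1
        exact hγ (hCb v v.2 hvc γ (Commute.symm h1))
    rw [mem_subgroupOf] at h1
    exact hx (by simpa using h1)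
  have hAi : A.index = p := by
    have h1 : ∀ q : P ⧸ A, q ∈ zpowers (h : P ⧸ A) := by
      intro q
      obtain ⟨g, rfl⟩ := QuotientGroup.mk_surjective q
      obtain ⟨j, hj⟩ := hgen g
      refine mem_zpowers_iff.2 ⟨-(j : ℤ), ?_⟩
      have h2 := (QuotientGroup.eq_one_iff (N := A) (g * h ^ j)).2 hj
      rw [QuotientGroup.mk_mul, QuotientGroup.mk_pow, mul_eq_one_iff_eq_inv] at h2
      rw [h2, zpow_neg, zpow_natCast]
    rw [A.index_eq_card, ← orderOf_eq_card_of_forall_mem_zpowers h1]
    refine orderOf_eq_prime ?_ fun h2 => hhA ((QuotientGroup.eq_one_iff _).1 h2)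
    rw [← QuotientGroup.mk_pow]; exact (QuotientGroup.eq_one_iff _).2 hhp
  have hhz : h ∉ center P := fun hz => hhA ((hmem _ _).2 ((hzc h).1 hz w).symm)
  have hZA : center P ≤ A := fun z hz => (hmem _ _).2 ((hzc z).1 hz w).symm
  have hZC : center P ≤ C h := fun z hz => (hmem _ _).2 ((hzc z).1 hz h).symm
  have hinf : A ⊓ C h = center P := by
    refine le_antisymm (fun b hb => ?_) (le_inf hZA hZC)
    by_contra hbz
    exact hhA (hCb b hb.1 hbz h ((hmem _ _).1 hb.2).symm)
  have e1 := relIndex_mul_index hZA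
  have e2 := relIndex_mul_index hZC
  rw [hA, hidx w hw] at e1
  rw [hidx h hhz, ← e1] at e2
  have e3 := Nat.eq_of_mul_eq_mul_right (pow_pos hp.pos a) e2
  rw [show (center P).relIndex (C h) = A.relIndex (C h) by
    rw [← hinf, inf_relIndex_right]] at e3
  have e4 : (center P).relIndex A ∣ p := by
    rw [hA, ← e3, ← hAi]
    exact relIndex_dvd_index_of_normal _ _
  obtain ⟨k, hk⟩ := e4
  have e5 : (⟨x, hxA⟩ : A) ^ ((center P).subgroupOf A).index ∈ (center P).subgroupOf A :=
    pow_index_mem _ _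
  rw [mem_subgroupOf, SubmonoidClass.coe_pow] at e5
  apply hx
  rw [hk, pow_mul]
  exact pow_mem e5 k

end Cfsg.Agent.S4365
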