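import Cfsg.Statements.S4134
import Mathlib
import Cfsg.Agent.Lib.FGB.TwoClassSizes
import Cfsg.Agent.S4365
-- import your own Cfsg.Agent.* helpers here

set_option autoImplicit false
open Cfsg

namespace Cfsg.Agent.S4134

/-- Let G be a finite group whose conjugacy classes have exactly two sizes, 1 and n > 1. Then n is a power of a prime p and G is the direct product of a p-group and an abelian group of order prime to p: its Sylow p-subgroup P is normal with an abelian normal complement centralizing it; moreover P has an abelian normal subgroup A with P/A of exponent dividing p. -/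
theorem result {G : Type*} [Group G] [Finite G] (n : ℕ) (hn : 1 < n)
    (h : ∀ x : G, (Subgroup.centralizer ({x} : Set G)).index = 1 ∨ (Subgroup.centralizer ({x} : Set G)).index = n) (hex : ∃ x : G, (Subgroup.centralizer ({x} : Set G)).index = n) :
    ∃ (p : ℕ) (_ : Fact p.Prime) (a : ℕ), n = p ^ a ∧ ∀ P : Sylow p G, (P : Subgroup G).Normal ∧
      (∃ N : Subgroup G, N.Normal ∧ N.IsComplement' (P : Subgroup G) ∧ IsMulCommutative N ∧
        ∀ x ∈ N, ∀ y ∈ (P : Subgroup G), x * y = y * x) ∧
      ∃ A : Subgroup (P : Subgroup G), A.Normal ∧ IsMulCommutative A ∧ ∀ y : (P : Subgroup G), y ^ p ∈ A := by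

  classical
  have hiff : ∀ x : G, (Subgroup.centralizer ({x} : Set G)).index = 1 ↔ x ∈ Subgroup.center G := fun x => by
    rw [Subgroup.index_eq_one, FGB.centralizer_singleton_eq_top_iff]
  have hT : FGB.TwoSizes G n := ⟨hn, fun x hx => (h x).resolve_left fun e => hx ((hiff x).mp e)⟩
  obtain ⟨x0, hx0⟩ := hex
  have hx0n : x0 ∉ Subgroup.center G := fun hc => by rw [(hiff x0).mpr hc] at hx0; omega
  have hZ1 : (Subgroup.center G).index ≠ 1 := fun e => hx0n (Subgroup.index_eq_one.mp e ▸ Subgroup.mem_top _)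
  have hnc : ∀ (r : ℕ) [Fact r.Prime] (R : Sylow r G), ¬ (R : Subgroup G) ≤ Subgroup.center G → FGB.NCPrime G r := by
    intro r _ R hR
    obtain ⟨u, hu, hun⟩ := SetLike.not_le_iff_exists.mp hR
    obtain ⟨k, hk⟩ := IsPGroup.iff_orderOf.mp R.2 ⟨u, hu⟩
    rw [Subgroup.orderOf_mk] at hk
    exact ⟨u, ⟨k, hk⟩, hun⟩
  obtain ⟨p, hp, hpd⟩ := Nat.exists_prime_and_dvd hZ1
  haveI := Fact.mk hp
  have hPZ : ∀ P : Sylow p G, ¬ (P : Subgroup G) ≤ Subgroup.center G := fun P hle =>
    P.not_dvd_index (hpd.trans (Subgroup.index_dvd_of_le hle))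
  obtain ⟨P1⟩ : Nonempty (Sylow p G) := inferInstance
  have hpn : FGB.NCPrime G p := hnc p P1 (hPZ P1)
  have hother : ∀ r : ℕ, r.Prime → r ∣ (Subgroup.center G).index → r = p := by
    intro r hr hrd
    haveI := Fact.mk hr
    obtain ⟨R⟩ : Nonempty (Sylow r G) := inferInstance
    exact hT.ncPrime_unique (hnc r R fun hle => R.not_dvd_index (hrd.trans (Subgroup.index_dvd_of_le hle))) hpn
  have hb := Nat.eq_prime_pow_of_unique_prime_dvd (n := (Subgroup.center G).index) Subgroup.index_ne_zero_of_finite (p := p) (fun {d} hd hd' => hother d hd hd')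
  set b := (Subgroup.center G).index.primeFactorsList.length
  have hna : n ∣ p ^ b := by
    rw [← hb, ← hx0]
    exact Subgroup.index_dvd_of_le (Subgroup.center_le_centralizer _)
  obtain ⟨a, -, ha⟩ := (Nat.dvd_prime_pow hp).mp hna
  refine ⟨p, inferInstance, a, ha, fun P => ?_⟩
  have hcop : ∀ m : ℕ, ¬ p ∣ m → (p ^ b).Coprime m := fun m hm => Nat.Coprime.pow_left _ (hp.coprime_iff_not_dvd.mpr hm)
  have hPn : (P : Subgroup G).Normal := by
    rw [← Subgroup.normalizer_eq_top_iff, ← Subgroup.index_eq_one]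
    have h1 : (Subgroup.normalizer ((P : Subgroup G) : Set G)).index ∣ p ^ b := by
      rw [← hb]
      refine Subgroup.index_dvd_of_le fun z hz => Subgroup.mem_normalizer_iff.mpr fun u => ?_
      have : z * u * z⁻¹ = u := by rw [← Subgroup.mem_center_iff.mp hz u, mul_inv_cancel_right]
      rw [this]
    have h2 : (Subgroup.normalizer ((P : Subgroup G) : Set G)).index ∣ (P : Subgroup G).index :=
      Subgroup.index_dvd_of_le Subgroup.le_normalizer
    exact Nat.eq_one_of_dvd_coprimes (hcop _ P.not_dvd_index) h1 h2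
  haveI := hPn
  let N : Subgroup G :=
    { carrier := {z | z ∈ Subgroup.center G ∧ (orderOf z).Coprime p}
      one_mem' := ⟨one_mem _, by rw [orderOf_one]; exact Nat.coprime_one_left p⟩
      mul_mem' := fun {u v} hu hv => ⟨mul_mem hu.1 hv.1, Nat.Coprime.coprime_dvd_left
        (show Commute u v from (Subgroup.mem_center_iff.mp hv.1 u)).orderOf_mul_dvd_mul_orderOf
        (Nat.Coprime.mul_left hu.2 hv.2)⟩
      inv_mem' := fun {u} hu => ⟨inv_mem hu.1, by rw [orderOf_inv]; exact hu.2⟩ }
  have hN : ∀ z, z ∈ N ↔ z ∈ Subgroup.center G ∧ (orderOf z).Coprime p := fun z => Iff.rfl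
  have hNP : ∀ g : G, ∃ z ∈ N, ∃ u ∈ (P : Subgroup G), z * u = g := by
    intro g
    obtain ⟨u, v, hu, hv, huv, ⟨k, hk⟩, hvp, hcomm⟩ := FGB.exists_parts g p
    refine ⟨v, ⟨?_, hvp⟩, u, ?_, hcomm.eq.symm.trans huv⟩
    · obtain ⟨e, he⟩ := exists_pow_eq_self_of_coprime (x := v) (n := p ^ b) (Nat.Coprime.pow_left _ hvp.symm)
      rw [← he, ← hb]
      exact pow_mem (Subgroup.pow_index_mem _ v) e
    · exact IsPGroup.le_sylow_of_normal (N := (P : Subgroup G)) P.2 P (by
        obtain ⟨P', hP'⟩ := (IsPGroup.of_card (p := p) (n := k) (G := Subgroup.zpowers u) (by rw [Nat.card_zpowers, hk])).exists_le_sylow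
        obtain ⟨g, hg⟩ := MulAction.exists_smul_eq G P P'
        rw [Sylow.smul_eq_of_normal] at hg
        exact hg ▸ hP' (Subgroup.mem_zpowers u))
  refine ⟨hPn, ⟨N, ⟨fun z hz g => ?_⟩, ?_, ⟨⟨fun u v => Subtype.ext (Subgroup.mem_center_iff.mp ((hN _).mp v.2).1 u)⟩⟩,
    fun u hu v _ => (Subgroup.mem_center_iff.mp ((hN _).mp hu).1 v).symm⟩, Subgroup.center _, inferInstance, inferInstance, fun y => ?_⟩
  · rw [Subgroup.mem_center_iff.mp ((hN z).mp hz).1 g, mul_inv_cancel_right]; exact hz
  · refine Subgroup.isComplement'_of_disjoint_and_mul_eq_univ ?_ (Set.eq_univ_of_forall fun g => ?_)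
    · rw [Subgroup.disjoint_def]
      intro z hz hzP
      obtain ⟨k, hk⟩ := IsPGroup.iff_orderOf.mp P.2 ⟨z, hzP⟩
      rw [Subgroup.orderOf_mk] at hk
      have h1 := ((hN z).mp hz).2
      rw [hk] at h1
      rcases Nat.eq_zero_or_pos k with h0 | h0
      · rw [h0, pow_zero] at hk; exact orderOf_eq_one_iff.mp hk
      · exact absurd h1 (by rw [Nat.coprime_pow_left_iff h0, Nat.coprime_self]; exact hp.ne_one)
    · obtain ⟨z, hz, u, hu, hg⟩ := hNP g
      exact Set.mem_mul.mpr ⟨z, hz, u, hu, hg⟩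
  -- class sizes in `P` are the class sizes in `G`
  have hrel : ∀ x : (P : Subgroup G), (Subgroup.centralizer ({x} : Set (P : Subgroup G))).index
      = (Subgroup.centralizer ({(x : G)} : Set G)).index := by
    intro x
    set C := Subgroup.centralizer ({(x : G)} : Set G) with hC
    have hCP : Subgroup.centralizer ({x} : Set (P : Subgroup G)) = C.subgroupOf (P : Subgroup G) := by
      ext u
      rw [Subgroup.mem_subgroupOf, hC, Subgroup.mem_centralizer_singleton_iff, Subgroup.mem_centralizer_singleton_iff,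
        Subtype.ext_iff, Subgroup.coe_mul, Subgroup.coe_mul]
    rw [hCP]
    change C.relIndex (P : Subgroup G) = C.index
    have h1 : C.relIndex (P : Subgroup G) * (P : Subgroup G).index = (P : Subgroup G).relIndex C * C.index := by
      rw [← Subgroup.inf_relIndex_right, Subgroup.relIndex_mul_index inf_le_right, ← Subgroup.inf_relIndex_right (P : Subgroup G) C,
        Subgroup.relIndex_mul_index inf_le_right, inf_comm]
    obtain ⟨c, hc⟩ := P.2.index (C.subgroupOf (P : Subgroup G))
    have hc' : C.relIndex (P : Subgroup G) = p ^ c := hc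
    have h2 : C.index ∣ p ^ b := hb ▸ Subgroup.index_dvd_of_le (Subgroup.center_le_centralizer _)
    have h3 : ¬ p ∣ (P : Subgroup G).relIndex C := fun hd =>
      P.not_dvd_index (hd.trans (Subgroup.relIndex_dvd_index_of_normal _ _))
    apply Nat.dvd_antisymm
    · refine Nat.Coprime.dvd_of_dvd_mul_left (k := C.relIndex (P : Subgroup G)) ?_ ⟨_, h1.symm⟩
      rw [hc']
      exact Nat.Coprime.pow_left _ (hp.coprime_iff_not_dvd.mpr h3)
    · refine Nat.Coprime.dvd_of_dvd_mul_right (m := C.relIndex (P : Subgroup G)) ?_ ⟨(P : Subgroup G).relIndex C, h1.trans (mul_comm _ _)⟩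
      exact Nat.Coprime.coprime_dvd_left h2 (hcop _ P.not_dvd_index)
  have ha1 : 1 ≤ a := Nat.one_le_iff_ne_zero.mpr fun h0 => by rw [h0, pow_zero] at ha; omega
  refine S4365.result p P.2 a ha1 ?_ y
  ext k
  constructor
  · rintro ⟨x, hx⟩
    rw [hrel] at hx
    rcases h (x : G) with e | e
    · exact Or.inl (by omega)
    · exact Or.inr (show k = p ^ a by omega)
  · rintro (rfl | rfl)
    · exact ⟨1, by rw [hrel, (hiff _).mpr]; exact one_mem _⟩
    · obtain ⟨u, hu, hun⟩ := SetLike.not_le_iff_exists.mp (hPZ P)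
      exact ⟨⟨u, hu⟩, by rw [hrel, hT.2 u hun, ha]⟩

end Cfsg.Agent.S4134
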