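import Cfsg.Statements.S0013
import Cfsg.Agent.Lib.Basics.Frattini

set_option autoImplicit false
open Cfsg

namespace Cfsg.Agent.S0013

/-- In a finite p-group the Frattini subgroup is the smallest normal subgroup with elementary abelian quotient: it lies below any normal subgroup containing all commutators and all p-th powers. -/
theorem result {G : Type*} [Group G] [Finite G] (p : ℕ) [Fact p.Prime]
    (hG : IsPGroup p G) (N : Subgroup G) [N.Normal] (hcomm : commutator G ≤ N) (hpow : ∀ x : G, x ^ p ∈ N) :
    frattini G ≤ N := by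
  intro x hx
  by_contra hxN
  obtain ⟨M, hNM, ⟨-, hxM⟩, hmax⟩ := Finite.exists_le_maximal
    (p := fun M : Subgroup G => N ≤ M ∧ x ∉ M) (a := N) ⟨le_rfl, hxN⟩
  have hM : IsCoatom M := by
    refine ⟨fun h => hxM (h ▸ Subgroup.mem_top x), fun K hK => ?_⟩
    have hxK : x ∈ K := by
      by_contra hxK
      exact hK.not_ge (hmax ⟨hNM.trans hK.le, hxK⟩ hK.le)
    have htop : M ⊔ Subgroup.zpowers x = ⊤ := by
      rw [eq_top_iff]
      intro y _
      by_cases hyM : y ∈ M
      · exact Subgroup.mem_sup_left hyM
      have hMn : M.Normal := Subgroup.Normal.of_commutator_le _ (hcomm.trans hNM)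
      have hxy : x ∈ M ⊔ Subgroup.zpowers y := by
        by_contra h
        exact hyM (hmax ⟨hNM.trans le_sup_left, h⟩ le_sup_left
          (Subgroup.mem_sup_right (Subgroup.mem_zpowers y)))
      obtain ⟨m, hm, z, hz, hxe⟩ :=
        (Basics.mem_sup_of_le_normalizer (N := M) Subgroup.le_normalizer_of_normal).mp hxy
      have hle : M ⊔ Subgroup.zpowers x ≤ M ⊔ Subgroup.zpowers y :=
        sup_le le_sup_left (Subgroup.zpowers_le.mpr hxy)
      have h1 := (Basics.card_sup_zpowers (p := p) (W := M) (t := x)
        (Subgroup.le_normalizer_of_normal (Subgroup.mem_top x)) (hNM (hpow x))).2 hxM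
      have h2 := (Basics.card_sup_zpowers (p := p) (W := M) (t := y)
        (Subgroup.le_normalizer_of_normal (Subgroup.mem_top y)) (hNM (hpow y))).2 hyM
      rw [Subgroup.eq_of_le_of_card_ge hle (h2.trans h1.symm).le]
      exact Subgroup.mem_sup_right (Subgroup.mem_zpowers y)
    rw [eq_top_iff, ← htop]
    exact sup_le hK.le (Subgroup.zpowers_le.mpr hxK)
  exact hxM (frattini_le_coatom hM hx)

end Cfsg.Agent.S0013
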