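import Cfsg.Statements.S5955
import Cfsg.Agent.Lib.Elusive.SymplecticWitness
import Cfsg.Agent.Lib.Elusive.SymplecticFreeIsotropic
import Cfsg.Agent.Lib.Elusive.SymplecticClassWitness
import Cfsg.Agent.Lib.Elusive.FormIsometry
-- import your own Cfsg.Agent.* helpers here

set_option autoImplicit false
open scoped MatrixGroups
open Cfsg

namespace Cfsg.Agent.S5955

open Cfsg.Agent Module Elusive.FormIso

section

variable {F : Type*} [Field F] {d : ℕ}

/-- A scalar in the symplectic group squares to one. -/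
theorem scalar_sq (hd : 0 < d) {x : ↥(Matrix.symplecticGroup (Fin d) F)} {z : F}
    (hz : (x : Matrix (Fin d ⊕ Fin d) (Fin d ⊕ Fin d) F) = z • 1) : z * z = 1 := by
  have h1 := (FormsLib.mem_symplectic_iff _).1 x.2 (Pi.single (Sum.inr ⟨0, hd⟩) 1) (Pi.single (Sum.inl ⟨0, hd⟩) 1)
  rw [hz] at h1
  simpa [FormsLib.spB_expand, Pi.single_apply, Matrix.one_apply] using h1

/-- A scalar of odd order in the symplectic group is one. -/
theorem scalar_eq_one (hd : 0 < d) {x : ↥(Matrix.symplecticGroup (Fin d) F)} {z : F} {r : ℕ} (hr : Odd r)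
    (hxr : (x : Matrix (Fin d ⊕ Fin d) (Fin d ⊕ Fin d) F) ^ r = 1)
    (hz : (x : Matrix (Fin d ⊕ Fin d) (Fin d ⊕ Fin d) F) = z • 1) : z = 1 := by
  have h1 := congrArg (fun M : Matrix (Fin d ⊕ Fin d) (Fin d ⊕ Fin d) F => M (Sum.inl ⟨0, hd⟩) (Sum.inl ⟨0, hd⟩)) hxr
  rw [hz] at h1
  simp [smul_pow] at h1
  obtain ⟨l, hl⟩ := hr
  rwa [hl, pow_succ, pow_mul, pow_two, scalar_sq hd hz, one_pow, one_mul] at h1

variable {V : Type*} [AddCommGroup V] [Module F V] [FiniteDimensional F V] {B : LinearMap.BilinForm F V}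
  {T : Module.End F V}

omit [FiniteDimensional F V] in
/-- The sum of orthogonal totally isotropic subspaces. -/
theorem orthTo_sup (hA : LinearMap.IsAlt B) {U W : Submodule F V} (hU : OrthTo B U U) (hW : OrthTo B W W)
    (hUW : OrthTo B U W) : OrthTo B (U ⊔ W) (U ⊔ W) := by
  refine OrthTo.sup ?_ ?_
  · exact ((OrthTo.sup hU (hUW.symm (refl_of_alt hA))).symm (refl_of_alt hA))
  · exact ((OrthTo.sup hUW hW).symm (refl_of_alt hA))

/-- Invariant totally isotropic subspaces for an involution. -/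
theorem exists_pm (h2 : (2 : F) ≠ 0) (hA : LinearMap.IsAlt B) (hiso : ∀ u v, B (T u) (T v) = B u v) (hT : T ^ 2 = 1)
    {X : Submodule F V} (hX : NdOn B X) (hXT : X.map T ≤ X) {m : ℕ} (hm : 2 * m ≤ finrank F X) :
    ∃ W : Submodule F V, W ≤ X ∧ W.map T ≤ W ∧ OrthTo B W W ∧ finrank F W = m := by
  obtain ⟨M, hMX, hMT, hfree, -, ho, hM, hK, hdim⟩ :=
    exists_split (r := 2) (refl_of_alt hA) hiso (by exact_mod_cast h2) hT hX hXT
  obtain ⟨k, hk⟩ := even_finrank hA hK
  obtain ⟨l, hl⟩ := even_finrank hA hM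
  obtain ⟨U, hU, hUi, hUd⟩ := Elusive.SpIso.exists_isotropic hA hK (m := min m k) (by omega)
  obtain ⟨W, hW, hWi, hWd⟩ := Elusive.SpIso.exists_isotropic hA hM (m := m - min m k) (by omega)
  have hneg : ∀ v ∈ M, T v = -v := fun v hv => by
    refine eq_neg_of_add_eq_zero_left (hfree _ (M.add_mem (hMT ⟨v, hv, rfl⟩) hv) ?_)
    rw [map_add, ← Module.End.mul_apply, ← pow_two, hT, Module.End.one_apply, add_comm]
  have hUT : U.map T ≤ U := by
    rintro _ ⟨v, hv, rfl⟩
    rwa [Elusive.mem_fixedSpace.1 (hU hv).2]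
  have hWT : W.map T ≤ W := by
    rintro _ ⟨v, hv, rfl⟩
    rw [hneg v (hW hv)]
    exact W.neg_mem hv
  refine ⟨U ⊔ W, sup_le (hU.trans inf_le_left) (hW.trans hMX), Elusive.invariant_sup hUT hWT,
    orthTo_sup hA hUi hWi fun u hu v hv => ho u (hU hu) v (hW hv), ?_⟩
  have hinf : U ⊓ W = ⊥ := by
    rw [Submodule.eq_bot_iff]
    rintro v ⟨h1, h2⟩
    exact hfree v (hW h2) (Elusive.mem_fixedSpace.1 (hU h1).2)
  have := Submodule.finrank_sup_add_finrank_inf_eq U W
  rw [hinf, finrank_bot, hUd, hWd] at this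
  omega

/-- Invariant totally isotropic subspaces of eigenvectors when `-1` is a square. -/
theorem exists_eigen (h2 : (2 : F) ≠ 0) (hiso : ∀ u v, B (T u) (T v) = B u v)
    (hT : ∀ v, T (T v) = -v) {ι : F} (hι : ι * ι = -1) (hV : NdOn B ⊤) {m : ℕ} (hm : 2 * m ≤ finrank F V) :
    ∃ W : Submodule F V, W.map T ≤ W ∧ OrthTo B W W ∧ finrank F W = m := by
  let E : F → Submodule F V := fun a => LinearMap.ker (T - a • (1 : Module.End F V))
  have hE : ∀ a v, v ∈ E a ↔ T v = a • v := fun a v => by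
    simp [E, sub_eq_zero]
  have hEi : ∀ a, a * a = -1 → 2 * finrank F (E a) ≤ finrank F V := fun a ha => by
    have := Elusive.SpIso.two_mul_finrank_le hV (le_top (a := E a)) fun u hu v hv => by
      have h := hiso u v
      rw [(hE a u).1 hu, (hE a v).1 hv] at h
      simp only [map_smul, LinearMap.smul_apply, smul_eq_mul] at h
      have h' : (2 : F) * B u v = 0 := by linear_combination -h + (B u v) * ha
      exact (mul_eq_zero.1 h').resolve_left h2
    rwa [finrank_top] at this
  have hsup : E ι ⊔ E (-ι) = ⊤ := by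
    rw [eq_top_iff]
    rintro v -
    refine Submodule.mem_sup.2 ⟨(2 : F)⁻¹ • (v - ι • T v), (hE _ _).2 ?_, (2 : F)⁻¹ • (v + ι • T v), (hE _ _).2 ?_, ?_⟩
    · simp only [map_smul, map_sub, hT, smul_sub, smul_neg, smul_smul]
      match_scalars
      · linear_combination (2 : F)⁻¹ * hι
      · ring
    · simp only [map_smul, map_add, hT, smul_add, smul_neg, smul_smul]
      match_scalars
      · linear_combination (2 : F)⁻¹ * hι
      · ring
    · match_scalars
      · field_simp
        ring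
      · ring
  have h1 := Submodule.finrank_add_le_finrank_add_finrank (E ι) (E (-ι))
  rw [hsup, finrank_top] at h1
  have h3 := hEi (-ι) (by rw [neg_mul_neg, hι])
  have hle : m ≤ finrank F (E ι) := by omega
  let b := finBasis F (E ι)
  let w : Fin m → V := fun i => (b (Fin.castLE hle i) : V)
  refine ⟨Submodule.span F (Set.range w), ?_, ?_, ?_⟩
  · rw [Submodule.map_span_le]
    rintro _ ⟨i, rfl⟩
    rw [(hE ι _).1 (b _).2]
    exact Submodule.smul_mem _ _ (Submodule.subset_span ⟨i, rfl⟩)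
  · have hle' : Submodule.span F (Set.range w) ≤ E ι := Submodule.span_le.2 (by rintro _ ⟨i, rfl⟩; exact (b _).2)
    intro u hu v hv
    have h := hiso u v
    rw [(hE ι u).1 (hle' hu), (hE ι v).1 (hle' hv)] at h
    simp only [map_smul, LinearMap.smul_apply, smul_eq_mul] at h
    have h' : (2 : F) * B u v = 0 := by linear_combination -h + (B u v) * hι
    exact (mul_eq_zero.1 h').resolve_left h2
  · rw [finrank_span_eq_card, Fintype.card_fin]
    exact (b.linearIndependent.comp _ (Fin.castLE_injective hle)).map' _ (E ι).ker_subtype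

/-- Invariant totally isotropic subspaces of even dimension for a square root of `-1`. -/
theorem exists_quad [Fintype F] (hodd : Fintype.card F % 2 = 1) (h2 : (2 : F) ≠ 0) (hA : LinearMap.IsAlt B)
    (hiso : ∀ u v, B (T u) (T v) = B u v) (hT : ∀ v, T (T v) = -v) :
    ∀ (l : ℕ) (X : Submodule F V), NdOn B X → X.map T ≤ X → 4 * l ≤ finrank F X →
      ∃ W : Submodule F V, W ≤ X ∧ W.map T ≤ W ∧ OrthTo B W W ∧ finrank F W = 2 * l := by
  have hT4 : T ^ 4 = 1 := LinearMap.ext fun v => by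
    simp [pow_succ, hT]
  have hrefl := refl_of_alt hA
  have hplane : ∀ X : Submodule F V, NdOn B X → X.map T ≤ X → X ≠ ⊥ → ∃ v ∈ X, B v (T v) ≠ 0 := by
    intro X hX hXT hne
    by_contra h
    push Not at h
    obtain ⟨v, hv, hv0⟩ := Submodule.exists_mem_ne_zero_of_ne_bot hne
    refine hv0 (hX v hv fun w hw => ?_)
    have hTw := hXT ⟨w, hw, rfl⟩
    have h4 := h (v + T w) (add_mem hv hTw)
    have h5 : B (T w) (T v) = -B v w := by rw [hiso, hA.neg]
    simp only [map_add, LinearMap.add_apply, hT, map_neg, h v hv, h5] at h4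
    have h7 : B (T w) w = 0 := by rw [← hA.neg, h w hw, neg_zero]
    rw [h7] at h4
    exact (mul_eq_zero.1 (show (2 : F) * B v w = 0 by linear_combination -h4)).resolve_left h2
  have hspan : ∀ v : V, (Submodule.span F {v, T v}).map T ≤ Submodule.span F {v, T v} := fun v => by
    rw [Submodule.map_span_le]
    rintro x (rfl | rfl)
    · exact Submodule.subset_span (by simp)
    · rw [hT]
      exact Submodule.neg_mem _ (Submodule.subset_span (by simp))
  have hle2 : ∀ {v : V} {X : Submodule F V}, v ∈ X → X.map T ≤ X → Submodule.span F {v, T v} ≤ X :=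
    fun {v X} hv hXT => Submodule.span_le.2 (by rintro x (rfl | rfl); exacts [hv, hXT ⟨_, hv, rfl⟩])
  intro l
  induction l with
  | zero =>
    intro X _ _ _
    exact ⟨⊥, bot_le, by rw [Submodule.map_bot], fun u hu v _ => by rw [(Submodule.mem_bot F).1 hu]; simp,
      finrank_bot F V⟩
  | succ l ih =>
    intro X hX hXT hdim
    have hne : X ≠ ⊥ := fun h => by
      rw [h, finrank_bot] at hdim
      omega
    obtain ⟨v₁, hv₁, ha⟩ := hplane X hX hXT hne
    obtain ⟨hnd₁, hd₁⟩ := Elusive.nd_span_pair hA ha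
    obtain ⟨X', hX'X, hX'T, hX', ho₁, -, -, hdim'⟩ := exists_compl hrefl hiso (show 4 ≠ 0 by omega) hT4 hX hXT hnd₁
      (hspan v₁) (hle2 hv₁ hXT)
    obtain ⟨v₂, hv₂, hb⟩ := hplane X' hX' hX'T fun h => by
      rw [h, finrank_bot] at hdim'
      omega
    obtain ⟨hnd₂, hd₂⟩ := Elusive.nd_span_pair hA hb
    obtain ⟨X'', hX''X, hX''T, hX'', ho₂, -, -, hdim''⟩ := exists_compl hrefl hiso (show 4 ≠ 0 by omega) hT4 hX' hX'T
      hnd₂ (hspan v₂) (hle2 hv₂ hX'T)
    obtain ⟨U, hUX, hUT, hU, hUd⟩ := ih X'' hX'' hX''T (by omega)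
    obtain ⟨s, t, hst⟩ := FiniteField.exists_root_sum_quadratic (R := F)
      (f := Polynomial.X ^ 2) (g := Polynomial.X ^ 2 + Polynomial.C (B v₂ (T v₂) / B v₁ (T v₁)))
      (Polynomial.degree_X_pow 2) (Polynomial.degree_X_pow_add_C two_pos _) hodd
    simp only [Polynomial.eval_pow, Polynomial.eval_X, Polynomial.eval_add, Polynomial.eval_C] at hst
    have hst' : B v₁ (T v₁) * (s ^ 2 + t ^ 2) + B v₂ (T v₂) = 0 := by
      field_simp at hst
      linear_combination hst
    set v := s • v₁ + t • T v₁ + v₂ with hv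
    have hTv : T v = s • T v₁ - t • v₁ + T v₂ := by
      rw [hv, map_add, map_add, map_smul, map_smul, hT, smul_neg, sub_eq_add_neg]
    have hm₁ : v₁ ∈ Submodule.span F {v₁, T v₁} := Submodule.subset_span (by simp)
    have hm₁' : T v₁ ∈ Submodule.span F {v₁, T v₁} := Submodule.subset_span (by simp)
    have hm₂ : v₂ ∈ Submodule.span F {v₂, T v₂} := Submodule.subset_span (by simp)
    have hm₂' : T v₂ ∈ Submodule.span F {v₂, T v₂} := Submodule.subset_span (by simp)
    have o11 := ho₁ _ hm₁ _ hv₂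
    have o12 := ho₁ _ hm₁ _ (hX'T ⟨v₂, hv₂, rfl⟩)
    have o21 := ho₁ _ hm₁' _ hv₂
    have o22 := ho₁ _ hm₁' _ (hX'T ⟨v₂, hv₂, rfl⟩)
    have hBv : B v (T v) = 0 := by
      rw [hTv, hv]
      simp only [map_add, map_sub, map_smul, LinearMap.add_apply, LinearMap.smul_apply, smul_eq_mul, o12, o22,
        hrefl _ _ o11, hrefl _ _ o21, hA v₁, hA (T v₁), (hA.neg v₁ (T v₁)).symm]
      linear_combination hst'
    have hW : OrthTo B (Submodule.span F {v, T v}) (Submodule.span F {v, T v}) := by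
      intro x hx y hy
      obtain ⟨a, b, rfl⟩ := Submodule.mem_span_pair.1 hx
      obtain ⟨a', b', rfl⟩ := Submodule.mem_span_pair.1 hy
      simp [hA v, hA (T v), hBv, (hA.neg v (T v)).symm]
    have hWd : finrank F ↥(Submodule.span F {v, T v}) = 2 := by
      have hproj : ∀ a b : F, a • v + b • T v = 0 → a = 0 ∧ b = 0 := fun a b hab => by
        rw [hTv, hv] at hab
        have h1 := congrArg (fun x => B x (T v₂)) hab
        have h2 := congrArg (fun x => B x v₂) hab
        simp only [map_add, map_sub, map_smul, map_zero, LinearMap.add_apply, LinearMap.sub_apply,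
          LinearMap.smul_apply, LinearMap.zero_apply, smul_eq_mul, o11, o12, o21, o22, hA v₂, hA (T v₂),
          (hA.neg v₂ (T v₂)).symm, mul_zero, add_zero, sub_zero, zero_add] at h1 h2
        constructor
        · exact (mul_eq_zero.1 h1).resolve_right hb
        · exact (mul_eq_zero.1 h2).resolve_right (neg_ne_zero.2 hb)
      have hli : LinearIndependent F ![v, T v] := LinearIndependent.pair_iff.2 hproj
      have := finrank_span_eq_card hli
      rwa [Fintype.card_fin, Matrix.range_cons_cons_empty] at this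
    have hP : Submodule.span F {v, T v} ≤ Submodule.span F {v₁, T v₁} ⊔ Submodule.span F {v₂, T v₂} := by
      refine hle2 ?_ (Elusive.invariant_sup (hspan v₁) (hspan v₂))
      exact Submodule.add_mem_sup (Submodule.add_mem _ (Submodule.smul_mem _ _ hm₁) (Submodule.smul_mem _ _ hm₁')) hm₂
    have hort : OrthTo B (Submodule.span F {v₁, T v₁} ⊔ Submodule.span F {v₂, T v₂}) X'' :=
      OrthTo.sup (fun u hu w hw => ho₁ u hu w (hX''X hw)) ho₂
    refine ⟨Submodule.span F {v, T v} ⊔ U, ?_, Elusive.invariant_sup (hspan v) hUT,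
      orthTo_sup hA hW hU fun u hu w hw => hort u (hP hu) w (hUX hw), ?_⟩
    · exact sup_le (hP.trans (sup_le (hle2 hv₁ hXT) ((hle2 hv₂ hX'T).trans hX'X))) (hUX.trans (hX''X.trans hX'X))
    · have hinf : Submodule.span F {v, T v} ⊓ U = ⊥ :=
        le_bot_iff.1 ((inf_le_inf hP hUX).trans (inf_comm _ X'' ▸ inf_eq_bot hX'' hort).le)
      have := Submodule.finrank_sup_add_finrank_inf_eq (Submodule.span F {v, T v}) U
      rw [hinf, finrank_bot, hWd, hUd] at this
      omega

end

/-- Elements of prime order of PSp_n(q) with no fixed totally isotropic `m`-space. Here `T = PSp_n(q)` with `n = 2d ≥ 4`, `(n, q) ≠ (4, 2)`, realised through the symplectic matrices over the field `F` with `q` elements (preserving the standard alternating form); an element of `T` of prime order `r` is such a matrix `x` with `x^r` scalar and `x` not scalar. For `r ≠ p` let `i` be the multiplicative order of `q` modulo `r`, `c = i` for `i` even and `c = 2i` for `i` odd, and write `k = n mod c`,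 `ℓ = m mod i`, `ℓ' = m mod c`, `n' = ⌊n/i⌋`, `m' = ⌊m/i⌋`, `t = (r−1)/i`. Let `1 ≤ m ≤ n/2` and let `r` be a prime dividing the number of totally isotropic `m`-spaces. Then every element of `T` of order `r` fixes a totally isotropic `m`-space if and only if either (i) `r = 2 ≠ p` and (`m` is even or `q ≡ 1 (mod 4)`); or (ii) `r ≠ p`, `r > 2`, `i ≤ m`, `k ≥ 2ℓ`, and (`i` is odd or `n' − 2m' ≥ t`). -/
theorem result {F : Type*} [Field F] [Fintype F] {p : ℕ} [Fact p.Prime] [CharP F p] {q : ℕ} (hq : Fintype.card F = q)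
    (d m : ℕ) (hd : 2 ≤ d) (hT : (d, q) ≠ (2, 2)) (hm : 1 ≤ m) (hmd : m ≤ d)
    (r : ℕ) [Fact r.Prime]
    (hrΩ : r ∣ Nat.card {W : Submodule F (Fin d ⊕ Fin d → F) // Module.finrank F ↥W = m ∧ (∀ u ∈ W, ∀ v ∈ W, Cfsg.sympForm d F u v = 0)})
    (i c : ℕ) (hi : i = orderOf (q : ZMod r)) (hc : c = if Even i then i else 2 * i) :
    (∀ x : ↥(Matrix.symplecticGroup (Fin d) F),
      (∃ z : F, ((x ^ r : ↥(Matrix.symplecticGroup (Fin d) F)) : Matrix (Fin d ⊕ Fin d) (Fin d ⊕ Fin d) F) = z • (1 : Matrix (Fin d ⊕ Fin d) (Fin d ⊕ Fin d) F)) →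
      (∀ z : F, (x : Matrix (Fin d ⊕ Fin d) (Fin d ⊕ Fin d) F) ≠ z • (1 : Matrix (Fin d ⊕ Fin d) (Fin d ⊕ Fin d) F)) →
      ∃ W : Submodule F (Fin d ⊕ Fin d → F), Module.finrank F ↥W = m ∧ (∀ u ∈ W, ∀ v ∈ W, Cfsg.sympForm d F u v = 0) ∧
        W.map (Matrix.toLin' (x : Matrix (Fin d ⊕ Fin d) (Fin d ⊕ Fin d) F)) ≤ W) ↔
    ((r = 2 ∧ p ≠ 2 ∧ (Even m ∨ q % 4 = 1)) ∨
     (r ≠ p ∧ 2 < r ∧ i ≤ m ∧ 2 * (m % i) ≤ (2 * d) % c ∧ (Odd i ∨ (r - 1) / i + 2 * (m / i) ≤ (2 * d) / i))) := by
  classical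
  subst hq
  subst hi
  have hrpr := (Fact.out : r.Prime)
  have hppr := (Fact.out : p.Prime)
  have hrp : r ≠ p := by
    rintro rfl
    exact Elusive.SpIso.not_dvd_card (F := F) (p := r) hmd hrΩ
  have hA : LinearMap.IsAlt (FormsLib.spB d F) := FormsLib.spB_alt
  have hrefl := refl_of_alt hA
  have htop : NdOn (FormsLib.spB d F) ⊤ := Elusive.SpDecomp.ndOn_top
  have hdimV : finrank F (Fin d ⊕ Fin d → F) = 2 * d := by
    rw [Module.finrank_pi, Fintype.card_sum, Fintype.card_fin, two_mul]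
  have pack : ∀ W : Submodule F (Fin d ⊕ Fin d → F), OrthTo (FormsLib.spB d F) W W →
      ∀ u ∈ W, ∀ v ∈ W, Cfsg.sympForm d F u v = 0 :=
    fun W hW u hu v hv => (Elusive.SpDecomp.sympForm_eq u v).trans (hW u hu v hv)
  have unpack : ∀ W : Submodule F (Fin d ⊕ Fin d → F),
      (∀ u ∈ W, ∀ v ∈ W, Cfsg.sympForm d F u v = 0) → OrthTo (FormsLib.spB d F) W W :=
    fun W hW u hu v hv => (Elusive.SpDecomp.sympForm_eq u v).symm.trans (hW u hu v hv)
  -- normalising the scalar
  have normal : ∀ x : ↥(Matrix.symplecticGroup (Fin d) F), ∀ z : F,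
      ((x ^ r : ↥(Matrix.symplecticGroup (Fin d) F)) : Matrix (Fin d ⊕ Fin d) (Fin d ⊕ Fin d) F) = z • 1 →
      z * z = 1 ∧ (Matrix.toLin' (x : Matrix (Fin d ⊕ Fin d) (Fin d ⊕ Fin d) F)) ^ r =
        z • (1 : Module.End F (Fin d ⊕ Fin d → F)) := by
    intro x z hz
    refine ⟨scalar_sq (by omega) hz, ?_⟩
    rw [← Matrix.toLin'_pow, ← SubmonoidClass.coe_pow, hz, map_smul, Matrix.toLin'_one]
    rfl
  by_cases hr2 : r = 2
  · subst hr2
    have hp2 : p ≠ 2 := fun h => hrp h.symm
    have h20 : (2 : F) ≠ 0 := fun h => hp2 ((Nat.prime_dvd_prime_iff_eq hppr Nat.prime_two).1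
      ((CharP.cast_eq_zero_iff F p 2).1 (by exact_mod_cast h)))
    have hodd : Fintype.card F % 2 = 1 := FiniteField.odd_card_of_char_ne_two fun h => h20 (by
      have h' := ringChar.Nat.cast_ringChar (R := F)
      rw [h] at h'
      exact_mod_cast h')
    constructor
    · intro hall
      refine Or.inl ⟨rfl, hp2, ?_⟩
      by_contra h
      push Not at h
      have hnsq : ¬ IsSquare (-1 : F) := by
        rw [FiniteField.isSquare_neg_one_iff]
        omega
      let x : ↥(Matrix.symplecticGroup (Fin d) F) := ⟨Matrix.J (Fin d) F, SymplecticGroup.J_mem (Fin d) F⟩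
      obtain ⟨W, hWd, -, hWT⟩ := hall x ⟨-1, by
        rw [SubmonoidClass.coe_pow, pow_two, Matrix.J_squared, neg_one_smul]⟩ fun z hz => by
          have h1 := congrArg (fun M : Matrix (Fin d ⊕ Fin d) (Fin d ⊕ Fin d) F =>
            M (Sum.inr ⟨0, by omega⟩) (Sum.inl ⟨0, by omega⟩)) hz
          simp [x, Matrix.J] at h1
      set T := Matrix.toLin' (x : Matrix (Fin d ⊕ Fin d) (Fin d ⊕ Fin d) F)
      have hTT : ∀ v, T (T v) = -v := fun v => by
        show Matrix.toLin' (Matrix.J (Fin d) F) (Matrix.toLin' (Matrix.J (Fin d) F) v) = -v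
        rw [← LinearMap.comp_apply, ← Matrix.toLin'_mul, Matrix.J_squared]
        simp
      let T' : Module.End F W := T.restrict fun v hv => hWT ⟨v, hv, rfl⟩
      have h1 : T' * T' = (-1 : F) • (1 : Module.End F W) := LinearMap.ext fun v => Subtype.ext (by
        simp [T', hTT])
      have h2 := congrArg LinearMap.det h1
      rw [map_mul, LinearMap.det_smul, map_one, mul_one, hWd, (Nat.not_even_iff_odd.1 h.1).neg_one_pow] at h2
      exact hnsq ⟨LinearMap.det T', h2.symm⟩
    · rintro (⟨-, -, hcond⟩ | ⟨-, h, -⟩) x ⟨z, hz⟩ -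
      swap; · omega
      obtain ⟨hz2, hA2⟩ := normal x z hz
      set T := Matrix.toLin' (x : Matrix (Fin d ⊕ Fin d) (Fin d ⊕ Fin d) F)
      have hiso : ∀ u v, FormsLib.spB d F (T u) (T v) = FormsLib.spB d F u v := (FormsLib.mem_symplectic_iff _).1 x.2
      rcases mul_self_eq_one_iff.1 hz2 with hz1 | hz1 <;> rw [hz1] at hA2
      · obtain ⟨W, -, hWT, hW, hWd⟩ := exists_pm h20 hA hiso (by rw [hA2, one_smul]) htop le_top (m := m)
          (by rw [finrank_top, hdimV]; omega)
        exact ⟨W, hWd, pack W hW, hWT⟩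
      have hTT : ∀ v, T (T v) = -v := fun v => by
        rw [← Module.End.mul_apply, ← pow_two, hA2]
        simp
      by_cases hsq : IsSquare (-1 : F)
      · obtain ⟨ι, hι⟩ := hsq
        obtain ⟨W, hWT, hW, hWd⟩ := exists_eigen h20 hiso hTT hι.symm htop (m := m) (by rw [hdimV]; omega)
        exact ⟨W, hWd, pack W hW, hWT⟩
      · rw [FiniteField.isSquare_neg_one_iff, not_not] at hsq
        obtain ⟨l, hl⟩ := hcond.resolve_right (by omega)
        obtain ⟨W, -, hWT, hW, hWd⟩ := exists_quad hodd h20 hA hiso hTT l ⊤ htop le_top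
          (by rw [finrank_top, hdimV]; omega)
        exact ⟨W, hWd.trans (by omega), pack W hW, hWT⟩
  -- elements of odd order
  have hodd : Odd r := hrpr.odd_of_ne_two hr2
  have hr3 : 2 < r := lt_of_le_of_ne hrpr.two_le (Ne.symm hr2)
  have hrF : (r : F) ≠ 0 := Elusive.natCast_prime_ne_zero (p := p) hrp
  have hrq : (Fintype.card F : ZMod r) ≠ 0 := Elusive.card_cast_ne_zero (F := F) (p := p) hrp
  obtain ⟨hcpos, -, -⟩ := Elusive.SpWitness.c_facts (F := F) (p := p) hr2 hrp hc
  obtain ⟨hkm, hcd⟩ := Elusive.SpIso.mod_lt_of_dvd (F := F) hc hmd hrΩ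
  set e := orderOf (Fintype.card F : ZMod r) with he
  have hepos : 0 < e := Elusive.orderOf_card_pos (F := F) (p := p) hrp
  obtain ⟨t, ht⟩ : e ∣ r - 1 := orderOf_dvd_of_pow_eq_one (ZMod.pow_card_sub_one_eq_one hrq)
  have htt : (r - 1) / e = t := by rw [ht, Nat.mul_div_cancel_left _ hepos]
  have ht1 : 1 ≤ t := Nat.one_le_iff_ne_zero.2 fun h => by
    rw [h, mul_zero] at ht
    omega
  rw [htt]
  have nonscalar : ∀ x : ↥(Matrix.symplecticGroup (Fin d) F),
      (x : Matrix (Fin d ⊕ Fin d) (Fin d ⊕ Fin d) F) ^ r = 1 →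
      finrank F ↥(Elusive.fixedSpace (Matrix.toLin' (x : Matrix (Fin d ⊕ Fin d) (Fin d ⊕ Fin d) F))) < 2 * d →
      ∀ z : F, (x : Matrix (Fin d ⊕ Fin d) (Fin d ⊕ Fin d) F) ≠ z • 1 := by
    intro x hxr hfix z hz
    rw [hz, scalar_eq_one (by omega) hodd hxr hz, one_smul, Matrix.toLin'_one,
      show Elusive.fixedSpace (LinearMap.id : Module.End F (Fin d ⊕ Fin d → F)) = ⊤ from
        eq_top_iff.2 fun v _ => Elusive.mem_fixedSpace.2 rfl, finrank_top, hdimV] at hfix
    omega
  constructor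
  · intro hall
    have hmain : 2 * (m % e) ≤ (2 * d) % c := by
      obtain ⟨x, hxr, hfix⟩ := Elusive.SpWitness.exists_element (F := F) (p := p) hr2 hrp hc
        (Nat.div_mul_le_self (2 * d) c)
      have hk : 2 * d - 2 * d / c * c = (2 * d) % c := by
        have h1 := Nat.div_add_mod (2 * d) c
        rw [mul_comm c] at h1
        omega
      rw [hk] at hfix
      obtain ⟨W, hWd, hW, hWT⟩ := hall x ⟨1, by rw [SubmonoidClass.coe_pow, hxr, one_smul]⟩
        (nonscalar x hxr (by have := Nat.mod_lt (2 * d) hcpos; omega))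
      set T := Matrix.toLin' (x : Matrix (Fin d ⊕ Fin d) (Fin d ⊕ Fin d) F)
      have hTr : T ^ r = 1 := by
        show (Matrix.toLin' (x : Matrix (Fin d ⊕ Fin d) (Fin d ⊕ Fin d) F)) ^ r = 1
        rw [← Matrix.toLin'_pow, hxr, Matrix.toLin'_one]
        rfl
      have hiso : ∀ u v, FormsLib.spB d F (T u) (T v) = FormsLib.spB d F u v := (FormsLib.mem_symplectic_iff _).1 x.2
      obtain ⟨M, -, -, -, -, -, -, hK, -⟩ := exists_split hrefl hiso hrF hTr htop le_top
      have h1 := Elusive.SpIso.two_mul_finrank_le hK (le_inf le_top inf_le_right : W ⊓ Elusive.fixedSpace T ≤ _)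
        fun u hu v hv => unpack W hW u hu.1 v hv.1
      rw [top_inf_eq, hfix] at h1
      have h2 := Elusive.finrank_mod_orderOf hTr hrF hWT
      rw [hWd, ← he] at h2
      have h3 := Nat.mod_le (finrank F ↥(W ⊓ Elusive.fixedSpace T)) e
      omega
    have hem : e ≤ m := by
      by_contra hlt
      rw [Nat.mod_eq_of_lt (not_le.1 hlt)] at hmain
      omega
    refine Or.inr ⟨hrp, hr3, hem, hmain, ?_⟩
    by_contra h
    push Not at h
    obtain ⟨hev, hlt⟩ := h
    have hev' := Nat.not_odd_iff_even.1 hev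
    rw [if_pos hev'] at hc
    rw [hc] at hmain hcd
    have hn := Nat.div_add_mod (2 * d) e
    have hm' := Nat.div_add_mod m e
    have hmm := Nat.mod_lt m hepos
    have hk := Nat.mod_lt (2 * d) hepos
    set n' := 2 * d / e
    set m' := m / e
    have hm'1 : 1 ≤ m' := (Nat.le_div_iff_mul_le hepos).2 (by omega)
    have hnm : 2 * m' ≤ n' := (Nat.le_div_iff_mul_le hepos).2 (by
      have : m' * e ≤ m := Nat.div_mul_le_self m e
      rw [mul_assoc]
      omega)
    set s := min (n' - 2 * m' + 1) (t - 1) with hs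
    have hsn : 2 * m' - 1 + s ≤ n' := by omega
    have hsn' : n' ≤ 2 * m' + s := by omega
    obtain ⟨x, hxr, hfix, hbad⟩ := Elusive.SpClass.exists_class_element (F := F) (p := p) hr2 hrp (d := d)
      (L := 2 * m' - 1) (s := s) (he ▸ hev') (by omega)
      (by rw [← he, ht, mul_comm e]; exact Nat.mul_le_mul_right e (by omega))
      (by rw [← he]; exact (Nat.mul_le_mul_right e hsn).trans (Nat.div_mul_le_self _ _))
    rw [← he] at hfix hbad
    obtain ⟨W, hWd, hW, hWT⟩ := hall x ⟨1, by rw [SubmonoidClass.coe_pow, hxr, one_smul]⟩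
      (nonscalar x hxr (by rw [hfix]; exact Nat.sub_lt (by omega) (Nat.mul_pos (by omega) hepos)))
    obtain ⟨a, ha, ha2, hfa⟩ := hbad W (unpack W hW) hWT
    rw [hWd] at ha hfa
    have h1 : (a + 1) * e ≤ m' * e := Nat.mul_le_mul_right e (by omega)
    have h2 : n' * e ≤ (2 * m' - 1 + s + 1) * e := Nat.mul_le_mul_right e (by omega)
    rw [add_mul, one_mul] at h1 h2
    rw [mul_comm e n'] at hn
    rw [mul_comm e m'] at hm'
    omega
  · rintro (⟨h, -⟩ | ⟨-, -, hem, hmain, hcond⟩) x ⟨z, hz⟩ -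
    · exact absurd h hr2
    obtain ⟨hz2, hAr⟩ := normal x z hz
    set A := Matrix.toLin' (x : Matrix (Fin d ⊕ Fin d) (Fin d ⊕ Fin d) F) with hAdef
    have hisoA : ∀ u v, FormsLib.spB d F (A u) (A v) = FormsLib.spB d F u v :=
      (FormsLib.mem_symplectic_iff _).1 x.2
    set T : Module.End F (Fin d ⊕ Fin d → F) := z • A with hTdef
    have hiso : ∀ u v, FormsLib.spB d F (T u) (T v) = FormsLib.spB d F u v := fun u v => by
      simp only [hTdef, LinearMap.smul_apply, map_smul, hisoA, smul_eq_mul, ← mul_assoc, hz2, one_mul]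
    have hTr : T ^ r = 1 := by
      obtain ⟨l, hl⟩ := hodd
      rw [hTdef, smul_pow, hAr, smul_smul, ← pow_succ, hl, show 2 * l + 1 + 1 = 2 * (l + 1) by ring, pow_mul,
        pow_two, hz2, one_pow, one_smul]
    have hblock := fun W hWT hfree hW hne => alt_block (p := p) hA hiso hr2 hrF hrq hTr hc W hWT hfree hW hne
    obtain ⟨M, -, hMT, hMfree, -, -, hM, -, hdim⟩ := exists_split hrefl hiso hrF hTr htop le_top
    obtain ⟨J, hJ⟩ := dvd_finrank hrefl hiso hrpr.ne_zero hTr hcpos hM hMT fun W hW hWT hWn hne =>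
      hblock W hWT (fun v hv => hMfree v (hW hv)) hWn hne
    rw [hJ, finrank_top, hdimV] at hdim
    have hkf : (2 * d) % c ≤ finrank F ↥((⊤ : Submodule F (Fin d ⊕ Fin d → F)) ⊓ Elusive.fixedSpace T) := by
      rw [← hdim, Nat.add_mul_mod_self_left]
      exact Nat.mod_le _ _
    set f := finrank F ↥((⊤ : Submodule F (Fin d ⊕ Fin d → F)) ⊓ Elusive.fixedSpace T) with hf
    have hm' := Nat.div_add_mod m e
    obtain ⟨a, ha1, ha2, ha3, ha4⟩ : ∃ a, a * e ≤ m ∧ 2 * (m - a * e) ≤ f ∧ f + 2 * (a * e) ≤ 2 * d ∧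
        (Even e → a = 0 ∨ f + 2 * (a * e) + (r - 1) ≤ 2 * d + e) := by
      rw [ht]
      set m' := m / e
      by_cases hev : Even e
      · rw [if_pos hev] at hc
        rw [hc] at hdim hmain hkf
        have hcond' := hcond.resolve_left (Nat.not_odd_iff_even.2 hev)
        have hn := Nat.div_add_mod (2 * d) e
        set n' := 2 * d / e
        refine ⟨min m' ((J + 1 - t) / 2), ?_, ?_, ?_, fun _ => ?_⟩
        · have : min m' ((J + 1 - t) / 2) * e ≤ m' * e := Nat.mul_le_mul_right e (min_le_left _ _)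
          rw [mul_comm m' e] at this
          omega
        · rcases min_cases m' ((J + 1 - t) / 2) with ⟨hmin, -⟩ | ⟨hmin, -⟩ <;> rw [hmin]
          · rw [mul_comm m' e]
            omega
          · set A0 := (J + 1 - t) / 2
            have h1 : J * e ≤ (2 * A0 + t) * e := Nat.mul_le_mul_right e (by omega)
            have h2 : (t + 2 * m') * e ≤ n' * e := Nat.mul_le_mul_right e hcond'
            rw [add_mul, mul_assoc] at h1 h2
            rw [mul_comm e n'] at hn
            rw [mul_comm e m'] at hm'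
            rw [mul_comm e J] at hdim
            omega
        · have h1 : 2 * min m' ((J + 1 - t) / 2) * e ≤ J * e := Nat.mul_le_mul_right e (by omega)
          rw [mul_assoc, mul_comm J e] at h1
          omega
        · rcases Nat.eq_zero_or_pos (min m' ((J + 1 - t) / 2)) with h0 | h0
          · exact Or.inl h0
          · have h1 : (2 * min m' ((J + 1 - t) / 2) + t) * e ≤ (J + 1) * e := Nat.mul_le_mul_right e (by omega)
            rw [add_mul, mul_assoc, add_mul, one_mul, mul_comm J e, mul_comm t e] at h1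
            exact Or.inr (by omega)
      · rw [if_neg hev] at hc
        rw [hc] at hdim hmain hkf
        refine ⟨min m' J, ?_, ?_, ?_, fun h => absurd h hev⟩
        · have : min m' J * e ≤ m' * e := Nat.mul_le_mul_right e (min_le_left _ _)
          rw [mul_comm m' e] at this
          omega
        · rcases min_cases m' J with ⟨hmin, -⟩ | ⟨hmin, -⟩ <;> rw [hmin]
          · rw [mul_comm m' e]
            omega
          · rw [mul_assoc, mul_comm e J] at hdim
            omega
        · have h1 : min m' J * e ≤ J * e := Nat.mul_le_mul_right e (min_le_right _ _)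
          rw [mul_assoc, mul_comm e J] at hdim
          omega
    obtain ⟨W, -, hWT, hW, hWd⟩ := Elusive.SpFree.exists_isotropic_invariant (p := p) hA hiso hr2 hrF hrq hTr htop
      le_top (m := m) (a := a) (he ▸ ha1) (he ▸ ha2) (by rw [finrank_top, hdimV]; exact he ▸ ha3)
      (by rw [finrank_top, hdimV]; exact he ▸ ha4)
    refine ⟨W, hWd, pack W hW, ?_⟩
    rintro _ ⟨v, hv, rfl⟩
    have h3 := W.smul_mem z (hWT ⟨v, hv, rfl⟩)
    rwa [hTdef, LinearMap.smul_apply, smul_smul, hz2, one_smul] at h3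

end Cfsg.Agent.S5955
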