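import Cfsg.Statements.S0286
import Cfsg.Agent.Lib.LinearGroups.OrthOrder
import Mathlib


set_option autoImplicit false
open Cfsg

namespace Cfsg.Agent.S0286

open Subgroup

open QuadraticMap FormsLib OrthOrder in
/-- The one-dimensional square form. -/
noncomputable def sqForm (F : Type*) [Field F] : QuadraticForm F (Unit → F) :=
  linMulLin (LinearMap.proj ()) (LinearMap.proj ())

open QuadraticMap FormsLib OrthOrder in
theorem sqForm_apply {F : Type*} [Field F] (v : Unit → F) : sqForm F v = v () ^ 2 := by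
  simp [sqForm, pow_two]

open QuadraticMap FormsLib OrthOrder in
theorem sqForm_nondeg {F : Type*} [Field F] (h2 : (2 : F) ≠ 0) :
    (polarBilin (sqForm F)).Nondegenerate := by
  refine nondegenerate_iff.2 fun x hx => funext fun _ => ?_
  have h := hx (fun _ => 1)
  simp [polar, sqForm_apply] at h
  exact (mul_eq_zero.1 (show (2 : F) * x () = 0 by linear_combination h)).resolve_left h2

open QuadraticMap FormsLib OrthOrder in
theorem card_sqForm {F : Type*} [Field F] (h2 : (2 : F) ≠ 0) :
    Nat.card (oGroup (sqForm F)) = 2 := by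
  classical
  have key : ∀ g : oGroup (sqForm F), ∀ v : Unit → F, g.1 v = g.1 (fun _ => 1) () • v := by
    intro g v
    have hv : v = v () • (fun _ => (1 : F)) := funext fun _ => by simp
    conv_lhs => rw [hv, map_smul]
    funext u
    simp [mul_comm]
  have hsq : ∀ g : oGroup (sqForm F), g.1 (fun _ => 1) () ^ 2 = 1 := fun g => by
    rw [← sqForm_apply, g.2, sqForm_apply, one_pow]
  have hn : (LinearEquiv.neg F : (Unit → F) ≃ₗ[F] (Unit → F)) ∈ oGroup (sqForm F) := fun v => by
    simp
  have hne : (⟨LinearEquiv.neg F, hn⟩ : oGroup (sqForm F)) ≠ 1 := by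
    intro h
    have := congrFun (congrArg (fun g : oGroup (sqForm F) => g.1 (fun _ => (1 : F))) h) ()
    simp at this
    exact h2 (by linear_combination -this)
  refine Nat.card_eq_two_iff.2 ⟨_, _, hne, Set.eq_univ_of_forall fun g => ?_⟩
  rcases sq_eq_one_iff.1 (hsq g) with h | h
  · right
    refine Subtype.ext (LinearEquiv.ext fun v => ?_)
    rw [key g v, h]
    simp
  · left
    refine Subtype.ext (LinearEquiv.ext fun v => ?_)
    rw [key g v, h]
    simp

open QuadraticMap FormsLib OrthOrder in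
theorem card_count {F : Type*} [Field F] [Fintype F] (m : ℕ) :
    Nat.card {v // qSum (m + 1) (sqForm F) v = 0} - 1 =
      Fintype.card F ^ (2 * (m + 1)) - 1 := by
  classical
  have hZ : Nat.card {v // qSum (m + 1) (sqForm F) v = 0} =
      Nat.card {v : Unit ⊕ (Fin (m + 1) ⊕ Fin (m + 1)) → F // Cfsg.quadFormOdd (m + 1) F v = 0} :=
    Nat.card_congr (Equiv.subtypeEquiv ((Equiv.sumArrowEquivProdArrow _ _ _).trans (Equiv.prodComm _ _))
      fun v => by simp [qSum_apply, sqForm_apply, Cfsg.quadFormOdd, Cfsg.quadFormPlus, add_comm]).symm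
  have hc := FormCount.card_odd (F := F) (m + 1)
  have hq : 1 ≤ Fintype.card F := Fintype.card_pos
  generalize Fintype.card F = q at *
  rw [hZ]
  generalize Nat.card {v : Unit ⊕ (Fin (m + 1) ⊕ Fin (m + 1)) → F //
    Cfsg.quadFormOdd (m + 1) F v = 0} = Z at *
  have hZ2 : Z = q ^ (2 * (m + 1)) := by
    zify
    exact mul_left_cancel₀ (show (q : ℤ) ≠ 0 by omega) (by rw [hc]; ring)
  rw [hZ2]

open QuadraticMap FormsLib OrthOrder in
theorem card_odd_group {F : Type*} [Field F] [Fintype F] (h2 : (2 : F) ≠ 0) (m : ℕ) :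
    Nat.card (oGroup (qSum m (sqForm F))) =
      2 * Fintype.card F ^ (m ^ 2) * ∏ i ∈ Finset.range m, (Fintype.card F ^ (2 * (i + 1)) - 1) := by
  induction m with
  | zero => rw [card_qSum_zero, card_sqForm h2]; simp
  | succ m ih =>
    rw [card_qSum_succ (sqForm_nondeg h2), card_count, ih, Finset.prod_range_succ, Nat.card_fun,
      Nat.card_unique (α := Unit), Nat.card_eq_fintype_card, show (m + 1) ^ 2 = m ^ 2 + (2 * m + 1) by ring, pow_add,
      pow_add, pow_one]
    ring

/-- |GO_{2m+1}(q)| = 2 q^(m^2) prod_{i=1}^{m} (q^(2i) - 1) for q odd. -/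
theorem result {F : Type*} [Field F] [Fintype F] {q : ℕ} (hF : Fintype.card F = q) (hodd : Odd q) (m : ℕ) : Nat.card (Cfsg.isometryGroup F (Cfsg.quadFormOdd m F)) = 2 * q ^ (m ^ 2) * ∏ i ∈ Finset.range m, (q ^ (2 * (i + 1)) - 1) := by
  subst hF
  have h2 : (2 : F) ≠ 0 := Ring.two_ne_zero fun h => by
    rw [Nat.odd_iff] at hodd
    have := FiniteField.even_card_of_char_two h
    omega
  rw [OrthOrder.card_isometryGroup (Cfsg.quadFormOdd m F) (OrthOrder.qSum m (sqForm F))
    ((LinearEquiv.sumArrowLequivProdArrow _ _ F F).trans (LinearEquiv.prodComm F _ _))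
    (fun v => by
      simp [OrthOrder.qSum_apply, sqForm_apply, Cfsg.quadFormOdd, Cfsg.quadFormPlus, add_comm]),
    card_odd_group h2]

end Cfsg.Agent.S0286
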