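import Cfsg.Statements.S0295
import Cfsg.Agent.Lib.LinearGroups.OrthSimple
import Cfsg.Agent.Lib.Forms.OddInvol
import Mathlib


set_option autoImplicit false
open Cfsg

namespace Cfsg.Agent.S0295

open Subgroup

/-- PΩ_{2m+1}(q) is simple for q odd and m at least 3. -/
theorem result {F : Type*} [Field F] [Fintype F] (hodd : Odd (Fintype.card F)) (m : ℕ) (hm : 3 ≤ m) : IsSimpleGroup (Cfsg.POmega F (Cfsg.quadFormOdd m F)) := by
  have h2 : ringChar F ≠ 2 := fun h => by
    have := (FiniteField.even_card_iff_char_two.1 h)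
    rw [Nat.odd_iff] at hodd
    omega
  have S : QMax.QSetting (FormsLib.qOdd m F) :=
    ⟨FormsLib.qOdd_nondeg (Ring.two_ne_zero h2), by simp [Fintype.card_sum]; omega⟩
  exact OrthSimple.isSimple_POmega S FormsLib.coe_qOdd

end Cfsg.Agent.S0295
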