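import Cfsg.Statements.S0283
import Cfsg.Agent.Lib.AutPSU.Pair
import Cfsg.Agent.Lib.AutPSU.Rigid
import Cfsg.Agent.Lib.Forms.UnitaryFin
import Mathlib


set_option autoImplicit false
open Cfsg

namespace Cfsg.Agent.S0283

open Subgroup

open AutPSU
open scoped Matrix commutatorElement

section

variable {F : Type*} [Field F] {q : ℕ} [QField F q] {n : ℕ}

local notation "V" => Fin n → F
set_option quotPrecheck false in
local notation "SUn" => ↥(Cfsg.SU n F q)
local notation "H" => Cfsg.hermForm n F q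
local notation "σ" => qb (F := F) q

/-- The root group at `x` is transitive on normalised partners of `x`. -/
theorem move_partner {x y y' : V} (hxx : H x x = 0) (hy : H y x = 1) (hy' : H y' x = 1)
    (hyy : H y y = 0) (hyy' : H y' y' = 0) : ∃ s : SUn, app s x = x ∧ app s y = y' := by
  have hax : H (y' - y) x = 0 := by rw [H_sub_left, hy, hy', sub_self]
  have hT : IsQ q x (y' - y) (H y (y' - y)) := by
    refine ⟨hxx, hax, ?_⟩
    rw [H_flip]
    simp only [H_sub_left, H_sub_right, hyy, hyy']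
    ring
  refine ⟨qE x _ _ hT, ?_, ?_⟩
  · rw [qE_apply]
    simp [hxx, H_eq_zero_comm.1 hax]
  · rw [qE_apply, hy]
    module

/-- Two isotropic points have a common non-orthogonal one. -/
theorem common_nonperp {x y : V} (hx : x ≠ 0) (hy : y ≠ 0) (hxx : H x x = 0) :
    ∃ z : V, H z z = 0 ∧ H z x ≠ 0 ∧ H z y ≠ 0 := by
  obtain ⟨f, hfx, hff⟩ := exists_partner (q := q) hx hxx
  by_cases hfy : H f y = 0
  swap
  · exact ⟨f, hff, by rw [hfx]; exact one_ne_zero, hfy⟩
  have hxf : H x f = 1 := by rw [← H_flip f x, hfx, map_one]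
  by_cases hxy : H x y = 0
  · obtain ⟨a, hax, hay⟩ : ∃ a : V, H a x = 0 ∧ H a y ≠ 0 := by
      by_contra hc
      push Not at hc
      obtain ⟨c, rfl⟩ := exists_smul_of_orth (q := q) hc
      rw [H_smul_right, hfx, mul_one, map_eq_zero] at hfy
      exact hy (by rw [hfy, zero_smul])
    obtain ⟨t, ht⟩ := exists_isQ (q := q) hxx hax
    refine ⟨app (qE x a t ht) f, by rw [app_H, hff], ?_, ?_⟩
    · rw [qE_apply]
      simp [hfx, hxx, hax]
    · rw [qE_apply]
      simp [hfx, hfy, hxy, hay]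
  · obtain ⟨k, hk0, hk⟩ := exists_skew (F := F) (q := q)
    refine ⟨f + k • x, ?_, by simp [hfx, hxx], by simp [hfy, hxy, hk0]⟩
    simp [hff, hxx, hfx, hxf]
    linear_combination hk

/-- Transitivity on isotropic points. -/
theorem exists_map_line {x y : V} (hx : x ≠ 0) (hy : y ≠ 0) (hxx : H x x = 0) (hyy : H y y = 0) :
    ∃ (s : SUn) (c : F), c ≠ 0 ∧ app s x = c • y := by
  obtain ⟨z, hzz, hzx, hzy⟩ := common_nonperp (q := q) hx hy hxx
  have hxz : H x z ≠ 0 := fun h => hzx (H_eq_zero_comm.1 h)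
  have hyz : H y z ≠ 0 := fun h => hzy (H_eq_zero_comm.1 h)
  obtain ⟨s, -, hs⟩ := move_partner (q := q) (x := z) (y := (H x z)⁻¹ • x) (y' := (H y z)⁻¹ • y) hzz
    (by simp [inv_mul_cancel₀ hxz]) (by simp [inv_mul_cancel₀ hyz]) (by simp [hxx]) (by simp [hyy])
  refine ⟨s, H x z * (H y z)⁻¹, mul_ne_zero hxz (inv_ne_zero hyz), ?_⟩
  rw [app_smul] at hs
  rw [← smul_smul, ← hs, smul_smul, mul_inv_cancel₀ hxz, one_smul]

/-- An anisotropic vector orthogonal to a pair. -/
theorem exists_aniso_inW (hn : 3 ≤ n) {e f : V} (hp : HPair q e f) :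
    ∃ w : V, InW q e f w ∧ H w w ≠ 0 := by
  rcases w_cases hn hp with ⟨u, hu, hu0, huu⟩ | ⟨-, w0, hw, hww, -⟩
  · obtain ⟨u', hu', hu'u, hu'u'⟩ := exists_partner_W hp hu hu0 huu
    obtain ⟨t, ht⟩ := exists_trace (F := F) (q := q) (c := 1) (map_one _)
    refine ⟨u + t • u', hu.add (hu'.smul t), ?_⟩
    have huu' : H u u' = 1 := by rw [← H_flip u' u, hu'u, map_one]
    simp only [H_add_left, H_add_right, H_smul_left, H_smul_right, huu, hu'u, hu'u', huu']
    intro h0
    exact one_ne_zero (α := F) (by linear_combination h0 - ht)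
  · exact ⟨w0, hw, hww⟩

/-- Transitivity on isotropic vectors. -/
theorem exists_map_vec (hn : 3 ≤ n) {x y : V} (hx : x ≠ 0) (hy : y ≠ 0) (hxx : H x x = 0)
    (hyy : H y y = 0) : ∃ s : SUn, app s x = y := by
  obtain ⟨s, c, hc, hs⟩ := exists_map_line (q := q) hx hy hxx hyy
  obtain ⟨f, hfy, hff⟩ := exists_partner (q := q) hy hyy
  have hp : HPair q y f := ⟨hyy, hff, by rw [← H_flip f y, hfy, map_one]⟩
  obtain ⟨w, hw, hww⟩ := exists_aniso_inW hn hp
  obtain ⟨d, hd, -⟩ := exists_dElt_refl hp hw hww (inv_ne_zero hc)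
  refine ⟨d * s, ?_⟩
  rw [app_mul, hs, app_smul, hd.1, smul_smul, mul_inv_cancel₀ hc, one_smul]

/-- A normal subgroup with one transvection has them all. -/
theorem tr_mem_of_tr_mem (hn : 3 ≤ n) {K : Subgroup SUn} [K.Normal] {x : V} {t : F}
    {h : IsT q x t} (hx : x ≠ 0) (ht : t ≠ 0) (hK : tr x t h ∈ K) {y : V} {s : F}
    (h' : IsT q y s) (hy : y ≠ 0) : tr y s h' ∈ K := by
  by_cases hs : s = 0
  · subst hs; rw [tr_zero]; exact one_mem K
  obtain ⟨a, ha⟩ := exists_norm (F := F) (q := q) (c := s / t) (by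
    rw [map_div₀, show σ s = -s by linear_combination h'.2, show σ t = -t by linear_combination h.2,
      neg_div_neg_eq])
  have ha0 : a ≠ 0 := fun h0 => div_ne_zero hs ht (by rw [← ha, h0, zero_mul])
  obtain ⟨g, hg⟩ := exists_map_vec (q := q) hn hx (smul_ne_zero ha0 hy) h.1 (by simp [h'.1])
  have hconj : g * tr x t h * g⁻¹ ∈ K := Subgroup.Normal.conj_mem inferInstance _ hK g
  rw [tr_conj] at hconj
  have e : tr (app g x) t (h.app g) = tr y s h' := by
    have h1 : IsT q (a • y) t := by rw [← hg]; exact h.app g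
    rw [tr_congr (h' := h1) hg rfl, tr_smul_point h1 (isT_of_smul h'.1 h1)]
    exact tr_congr rfl (by rw [ha, div_mul_cancel₀ _ ht])
  rwa [e] at hconj

theorem tr_comm {x : V} {t s : F} (h : IsT q x t) (h' : IsT q x s) :
    tr x t h * tr x s h' = tr x s h' * tr x t h := by
  simp only [tr, qE_mul]
  exact qE_congr rfl (by ring)

/-- Some non-trivial transvection is a commutator. -/
theorem exists_tr_mem_commutator (hn : 3 ≤ n) :
    ∃ (x : V) (t : F) (h : IsT q x t), x ≠ 0 ∧ t ≠ 0 ∧ tr x t h ∈ commutator SUn := by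
  obtain ⟨e, f, hee, hff, hef⟩ := exists_hyperbolic_pair (F := F) (q := q) (n := n) (by omega)
  have hp : HPair q e f := ⟨hee, hff, hef⟩
  obtain ⟨w, hw, hww⟩ := exists_aniso_inW hn hp
  obtain ⟨c, hc⟩ := qb_ne (F := F) (q := q)
  have hce : H (c • w) e = 0 := by simp [hw.1]
  obtain ⟨t₁, h₁⟩ := exists_isQ (q := q) hee hw.1
  obtain ⟨t₂, h₂⟩ := exists_isQ (q := q) hee hce
  have hT : IsT q e (H w (c • w) - H (c • w) w) := ⟨hee, by rw [map_sub, H_flip, H_flip]; ring⟩
  refine ⟨e, _, hT, hp.e_ne, ?_, ?_⟩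
  · rw [H_smul_left, H_smul_right, ← sub_mul]
    exact mul_ne_zero (sub_ne_zero.2 hc) hww
  · have e1 : qE e w t₁ h₁ * qE e (c • w) t₂ h₂ =
        tr e _ hT * (qE e (c • w) t₂ h₂ * qE e w t₁ h₁) := by
      simp only [tr, qE_mul]
      refine qE_congr (by rw [zero_add, add_comm]) ?_
      rw [H_zero_right]
      ring
    have e2 : tr e _ hT = ⁅qE e w t₁ h₁, qE e (c • w) t₂ h₂⁆ := by
      rw [commutatorElement_def, e1]; group
    rw [e2]
    exact Subgroup.commutator_mem_commutator (Subgroup.mem_top _) (Subgroup.mem_top _)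

/-- A non-central normal subgroup moves a point to a non-orthogonal one. -/
theorem exists_nonperp_move (hn : 3 ≤ n) {K : Subgroup SUn} [K.Normal]
    (hK : ¬ K ≤ center SUn) : ∃ x : V, H x x = 0 ∧ ∃ k ∈ K, H x (app k x) ≠ 0 := by
  obtain ⟨k, hk, hkc⟩ := SetLike.not_le_iff_exists.1 hK
  obtain ⟨x, hx, hxx, hkx⟩ : ∃ x : V, x ≠ 0 ∧ H x x = 0 ∧ ∀ a : F, app k x ≠ a • x := by
    by_contra hc
    push Not at hc
    obtain ⟨c, hc'⟩ := scalar_of_fix_iso (q := q) (n := n) (by omega)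
      ((k : Matrix.SpecialLinearGroup (Fin n) F) : Matrix (Fin n) (Fin n) F) hc
    exact hkc (mem_center_of_scalar hc')
  by_cases h0 : H x (app k x) = 0
  swap
  · exact ⟨x, hxx, k, hk, h0⟩
  have hy0 : H (app k x) (app k x) = 0 := by rw [app_H, hxx]
  obtain ⟨a, ha, hax⟩ : ∃ a : V, H a (app k x) = 0 ∧ H a x ≠ 0 := by
    by_contra hc
    push Not at hc
    obtain ⟨c, hc'⟩ := exists_smul_of_orth (q := q) hc
    have hc0 : c ≠ 0 := fun h => hx (by rw [hc', h, zero_smul])
    exact hkx c⁻¹ (by conv_rhs => rw [hc', smul_smul, inv_mul_cancel₀ hc0, one_smul])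
  have hxa : H x a ≠ 0 := fun h => hax (H_eq_zero_comm.1 h)
  obtain ⟨T, hT⟩ := exists_trace (F := F) (q := q) (c := - H a a) (by rw [map_neg, H_self_fixed])
  let y : V := a + (T / H x a) • x
  have hyx : H y x = H a x := by simp [y, hxx]
  have hyk : H y (app k x) = 0 := by simp [y, ha, h0]
  have hyy : H y y = 0 := by
    simp only [y, H_add_left, H_add_right, H_smul_left, H_smul_right, hxx, map_div₀, H_flip]
    field_simp
    linear_combination (H x a * H a x) * hT
  obtain ⟨t, ht, hIT⟩ := exists_isT (q := q) hxx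
  refine ⟨y, hyy, tr x t hIT * (k * (tr x t hIT)⁻¹ * k⁻¹), ?_, ?_⟩
  · have h1 : tr x t hIT * (k * (tr x t hIT)⁻¹ * k⁻¹) =
        tr x t hIT * k * (tr x t hIT)⁻¹ * k⁻¹ := by group
    rw [h1]
    exact mul_mem (Subgroup.Normal.conj_mem inferInstance k hk _) (inv_mem hk)
  · have hfix : app (k * (tr x t hIT)⁻¹ * k⁻¹) y = y := by
      have h1 : k * (tr x t hIT)⁻¹ * k⁻¹ = (tr (app k x) t (hIT.app k))⁻¹ := by
        rw [← tr_conj (h := hIT)]; group
      have h2 : app (tr (app k x) t (hIT.app k)) y = y := by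
        rw [tr_apply, hyk, mul_zero, zero_smul, add_zero]
      rw [h1]
      conv_lhs => rw [← h2]
      rw [app_inv]
    rw [app_mul, hfix, tr_apply, H_add_right, H_smul_right, hyy, zero_add, map_mul, hyx]
    exact mul_ne_zero (mul_ne_zero ((map_ne_zero σ).2 ht) ((map_ne_zero σ).2 hax)) hax

/-- A non-central normal subgroup is transitive on isotropic points. -/
theorem exists_mem_map_line (hn : 3 ≤ n) {K : Subgroup SUn} [K.Normal] (hK : ¬ K ≤ center SUn)
    {x y : V} (hx : x ≠ 0) (hy : y ≠ 0) (hxx : H x x = 0) (hyy : H y y = 0) :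
    ∃ k ∈ K, ∃ c : F, c ≠ 0 ∧ app k x = c • y := by
  obtain ⟨x₀, hx₀₀, k₀, hk₀, hmove⟩ := exists_nonperp_move (q := q) hn hK
  have hx₀ : x₀ ≠ 0 := fun h => hmove (by rw [h, H_zero_left])
  -- a step between non-orthogonal points
  have step : ∀ z w : V, H z z = 0 → H w w = 0 → H w z ≠ 0 →
      ∃ k ∈ K, ∃ c : F, c ≠ 0 ∧ app k z = c • w := by
    intro z w hzz hww hwz
    have hz : z ≠ 0 := fun h => hwz (by rw [h, H_zero_right])
    obtain ⟨g, hg⟩ := exists_map_vec (q := q) hn hx₀ hz hx₀₀ hzz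
    have hk₁ : g * k₀ * g⁻¹ ∈ K := Subgroup.Normal.conj_mem inferInstance _ hk₀ g
    set k₁ := g * k₀ * g⁻¹ with hk₁def
    have hgz : app g⁻¹ z = x₀ := by rw [← hg, app_inv]
    have hv : app k₁ z = app g (app k₀ x₀) := by rw [hk₁def, app_mul, app_mul, hgz]
    have hvz : H (app k₁ z) z ≠ 0 := by
      rw [hv]
      conv_lhs => rw [← hg]
      rw [app_H]
      exact fun h => hmove (H_eq_zero_comm.1 h)
    obtain ⟨s, hsz, hs⟩ := move_partner (q := q) (x := z) (y := (H (app k₁ z) z)⁻¹ • app k₁ z)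
      (y' := (H w z)⁻¹ • w) hzz (by simp [inv_mul_cancel₀ hvz]) (by simp [inv_mul_cancel₀ hwz])
      (by simp [app_H, hzz]) (by simp [hww])
    refine ⟨s * k₁ * s⁻¹, Subgroup.Normal.conj_mem inferInstance _ hk₁ s,
      H (app k₁ z) z * (H w z)⁻¹, mul_ne_zero hvz (inv_ne_zero hwz), ?_⟩
    have hsi : app s⁻¹ z = z := by conv_lhs => rw [← hsz]; rw [app_inv]
    rw [app_smul] at hs
    rw [app_mul, app_mul, hsi, ← smul_smul, ← hs, smul_smul, mul_inv_cancel₀ hvz, one_smul]
  obtain ⟨z, hzz, hzx, hzy⟩ := common_nonperp (q := q) hx hy hxx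
  obtain ⟨k₁, hk₁, c₁, hc₁, e₁⟩ := step x z hxx hzz hzx
  obtain ⟨k₂, hk₂, c₂, hc₂, e₂⟩ := step z y hzz hyy fun h => hzy (H_eq_zero_comm.1 h)
  exact ⟨k₂ * k₁, mul_mem hk₂ hk₁, c₁ * c₂, mul_ne_zero hc₁ hc₂,
    by rw [app_mul, e₁, app_smul, e₂, smul_smul]⟩

/-- Transvections generate. -/
theorem closure_tr (hF : Nat.card F = q ^ 2) (h32 : ¬ (n = 3 ∧ q = 2)) :
    Subgroup.closure {g : SUn | ∃ (x : V) (t : F) (h : IsT q x t), x ≠ 0 ∧ g = tr x t h} = ⊤ := by
  haveI := finite_field (F := F) (q := q)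
  letI := Fintype.ofFinite F
  rw [eq_top_iff, ← FormsLib.closure_unitaryTransvection (Nat.card_eq_fintype_card.symm.trans hF) n h32,
    Subgroup.closure_le]
  rintro A ⟨v, c, hvv, hA⟩
  have happ : ∀ u : V, app A u = u + (c * H u v) • v := fun u => by
    show _ *ᵥ u = _
    rw [hA, Cfsg.unitaryTransvection, Matrix.add_mulVec, Matrix.one_mulVec, Matrix.smul_mulVec,
      Matrix.vecMulVec_mulVec]
    ext i
    simp [Cfsg.hermForm, dotProduct, Finset.mul_sum, Finset.sum_mul, mul_comm, mul_left_comm]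
  rcases eq_or_ne v 0 with hv | hv
  · rw [show A = 1 from su_ext fun u => by
      show app A u = app 1 u
      rw [happ, app_one, hv, smul_zero, add_zero]]
    exact one_mem _
  obtain ⟨w, hw⟩ := exists_H_eq_one (q := q) hv
  have hvw : H v w = 1 := by rw [← H_flip w v, hw, map_one]
  have hc : IsT q v c := by
    refine ⟨hvv, ?_⟩
    have h1 := app_H A w w
    rw [happ, hw, mul_one] at h1
    simp [hvv, hw, hvw] at h1
    linear_combination h1
  refine Subgroup.subset_closure ⟨v, c, hc, hv, su_ext fun u => ?_⟩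
  show app A u = app (tr v c hc) u
  rw [happ, tr_apply]

theorem eq_top_of_normal (hF : Nat.card F = q ^ 2) (hn : 3 ≤ n) (h32 : ¬ (n = 3 ∧ q = 2))
    {K : Subgroup SUn} [K.Normal] (hK : ¬ K ≤ center SUn) : K = ⊤ := by
  obtain ⟨e, f, hee, hff, hef⟩ := exists_hyperbolic_pair (F := F) (q := q) (n := n) (by omega)
  have he : e ≠ 0 := (⟨hee, hff, hef⟩ : HPair q e f).e_ne
  let π := QuotientGroup.mk' K
  -- every transvection is a transvection at `e` modulo `K`
  let S : Set (SUn ⧸ K) := {z | ∃ (t : F) (h : IsT q e t), z = π (tr e t h)}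
  have hgen : Subgroup.closure S = ⊤ := by
    rw [eq_top_iff, ← Subgroup.map_top_of_surjective π (QuotientGroup.mk'_surjective K),
      ← closure_tr hF h32, MonoidHom.map_closure, Subgroup.closure_le]
    rintro _ ⟨_, ⟨x, t, h, hx, rfl⟩, rfl⟩
    obtain ⟨k, hk, c, hc, hkx⟩ := exists_mem_map_line hn hK hx he h.1 hee
    have h1 : IsT q (c • e) t := by rw [← hkx]; exact h.app k
    refine Subgroup.subset_closure ⟨c * σ c * t, isT_of_smul hee h1, ?_⟩
    have e1 : k * tr x t h * k⁻¹ = tr e (c * σ c * t) (isT_of_smul hee h1) := by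
      rw [tr_conj, tr_congr (h' := h1) hkx rfl, tr_smul_point h1]
    rw [← e1, map_mul, map_mul, map_inv, (QuotientGroup.eq_one_iff k).2 hk |> fun h => (show π k = 1 from h)]
    simp
  have hcomm : ∀ a b : SUn ⧸ K, a * b = b * a := by
    have hS : ∀ a ∈ S, ∀ b ∈ S, a * b = b * a := by
      rintro _ ⟨t, h, rfl⟩ _ ⟨s, h', rfl⟩
      rw [← map_mul, ← map_mul, tr_comm]
    have := Subgroup.isMulCommutative_closure hS
    rw [hgen] at this
    exact fun a b => congrArg Subtype.val (this.1.comm ⟨a, Subgroup.mem_top a⟩ ⟨b, Subgroup.mem_top b⟩)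
  obtain ⟨x, t, h, hx, ht, hm⟩ := exists_tr_mem_commutator (F := F) (q := q) hn
  have hle : commutator SUn ≤ K := by
    rw [_root_.commutator_def, Subgroup.commutator_le]
    intro a _ b _
    rw [← QuotientGroup.eq_one_iff, show (↑⁅a, b⁆ : SUn ⧸ K) = ⁅π a, π b⁆ from map_commutatorElement π a b,
      commutatorElement_eq_one_iff_mul_comm, hcomm]
  rw [eq_top_iff, ← closure_tr hF h32, Subgroup.closure_le]
  rintro _ ⟨y, s, h', hy, rfl⟩
  exact tr_mem_of_tr_mem hn hx ht (hle hm) h' hy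

theorem isSimple (hF : Nat.card F = q ^ 2) (hn : 3 ≤ n) (h32 : ¬ (n = 3 ∧ q = 2)) :
    IsSimpleGroup (Cfsg.PSU n F q) := by
  obtain ⟨x, hx, hxx⟩ := exists_isotropic (F := F) (q := q) (n := n) (by omega)
  obtain ⟨t, ht, hT⟩ := exists_isT (q := q) hxx
  haveI : Nontrivial (Cfsg.PSU n F q) := by
    refine ⟨⟨proj n F q (tr x t hT), 1, fun h => ?_⟩⟩
    obtain ⟨c, hc⟩ := scalar_of_mem_center (n := n) (by omega) ((proj_eq_one_iff _).1 h)
    have h1 := hc x
    rw [tr_apply, hxx, mul_zero, zero_smul, add_zero] at h1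
    have hc1 : c = 1 := by
      by_contra hne
      exact smul_ne_zero (sub_ne_zero.2 hne) hx (by rw [sub_smul, ← h1, one_smul, sub_self])
    refine tr_ne_one hx hT ht (su_ext fun v => ?_)
    show app _ v = app 1 v
    rw [hc, hc1, one_smul, app_one]
  refine ⟨fun N hN => ?_⟩
  have hsurj := proj_surjective (n := n) (F := F) (q := q)
  by_cases hK : N.comap (proj n F q) ≤ center SUn
  · refine Or.inl ((Subgroup.eq_bot_iff_forall _).2 fun z hz => ?_)
    obtain ⟨s, rfl⟩ := hsurj z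
    exact (proj_eq_one_iff s).2 (hK hz)
  · refine Or.inr (Subgroup.comap_injective hsurj ?_)
    rw [eq_top_of_normal hF hn h32 hK, Subgroup.comap_top]

end

/-- PSU_n(q) is simple for n at least 3 and (n, q) other than (3, 2). -/
theorem result {F : Type*} [Field F] [Fintype F] {q : ℕ} (hF : Fintype.card F = q ^ 2) (n : ℕ) (hn : 3 ≤ n) (h : ¬ (n = 3 ∧ q = 2)) : IsSimpleGroup (Cfsg.PSU n F q) := by
  haveI := AutPSU.QField.of_card hF
  exact isSimple (by rw [Nat.card_eq_fintype_card, hF]) hn h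

end Cfsg.Agent.S0283
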