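import Cfsg.Statements.S0944
import Cfsg.Agent.Lib.Blocks.CentralChar
-- import your own Cfsg.Agent.* helpers here

set_option autoImplicit false
open Cfsg

namespace Cfsg.Agent.S0944

/-- Let χ be an irreducible character of the finite group G and u an involution. Then χ u is a rational integer n with n ≡ χ 1 (mod 2). -/
theorem result {G : Type*} [Group G] [Finite G] (χ : Cfsg.IrrCharacter G) (u : G) (hu : orderOf u = 2) : ∃ n : ℤ, (χ : G → ℂ) u = (n : ℂ) ∧ (2 : ℤ) ∣ (Cfsg.charDegree (χ : G → ℂ) : ℤ) - n := by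
  classical
  letI := Fintype.ofFinite G
  obtain ⟨d, ρ, hρ⟩ := Cfsg.Agent.CT.isCharacter_of_isIrr χ.2
  obtain ⟨w, hw, he⟩ := Cfsg.Agent.CT.exists_eigenvalues_one ρ u
  rw [hu] at hw
  have hpm : ∀ i, ∃ z : ℤ, w i = (z : ℂ) ∧ (2 : ℤ) ∣ 1 - z := fun i => by
    rcases sq_eq_one_iff.mp (hw i) with h | h
    · exact ⟨1, by simp [h], by norm_num⟩
    · exact ⟨-1, by simp [h], by norm_num⟩
  choose z hz hz2 using hpm
  refine ⟨∑ i, z i, ?_, ?_⟩
  · rw [← hρ, he, Finset.sum_congr rfl fun i _ => hz i]; push_cast; rfl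
  · have h1 : (Cfsg.charDegree (χ : G → ℂ) : ℤ) = ∑ _i : Fin (Module.finrank ℂ (Fin d → ℂ)), (1 : ℤ) := by
      rw [Finset.sum_const, Finset.card_univ, Fintype.card_fin, nsmul_eq_mul, mul_one]
      norm_cast
      rw [Cfsg.charDegree, ← hρ, Representation.char_one]
      simp
    rw [h1, ← Finset.sum_sub_distrib]
    exact Finset.dvd_sum fun i _ => hz2 i

end Cfsg.Agent.S0944
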