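import Cfsg.Statements.S4142


set_option autoImplicit false
open Cfsg

open scoped Pointwise

namespace Cfsg.Agent.S4142

/-- Let G be a finite group and N a normal subgroup. Then the conjugacy class of every element g outside N is a union of cosets of N (gn is conjugate to g for all n ∈ N) if and only if for every g outside N the centralizer of g in G has the same order as the centralizer of gN in G/N. -/
theorem result {G : Type*} [Group G] [Finite G] (N : Subgroup G) [N.Normal] :
    (∀ g : G, g ∉ N → ∀ n ∈ N, ∃ x : G, x * g * x⁻¹ = g * n) ↔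
      ∀ g : G, g ∉ N → Nat.card (Subgroup.centralizer ({g} : Set G)) =
        Nat.card (Subgroup.centralizer ({(QuotientGroup.mk g : G ⧸ N)} : Set (G ⧸ N))) := by
  classical
  have key : ∀ g : G, Nat.card {x : G // (QuotientGroup.mk (x * g * x⁻¹) : G ⧸ N) = g} =
      Nat.card N * Nat.card (Subgroup.centralizer ({(QuotientGroup.mk g : G ⧸ N)} : Set (G ⧸ N))) := by
    intro g
    set C := Subgroup.centralizer ({(QuotientGroup.mk g : G ⧸ N)} : Set (G ⧸ N))
    rw [show Nat.card {x : G // (QuotientGroup.mk (x * g * x⁻¹) : G ⧸ N) = g} =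
        Nat.card (C.comap (QuotientGroup.mk' N)) from Nat.card_congr (Equiv.subtypeEquivRight fun x => by
          rw [Subgroup.mem_comap, Subgroup.mem_centralizer_singleton_iff, QuotientGroup.mk_mul,
            QuotientGroup.mk_mul, QuotientGroup.mk_inv, mul_inv_eq_iff_eq_mul]
          exact Iff.rfl)]
    have h1 := Subgroup.card_mul_index (C.comap (QuotientGroup.mk' N))
    rw [Subgroup.index_comap_of_surjective _ (QuotientGroup.mk'_surjective N)] at h1
    have h2 := Subgroup.card_mul_index C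
    have h3 := N.card_eq_card_quotient_mul_card_subgroup
    rw [← h2] at h3
    refine Nat.eq_of_mul_eq_mul_right (Nat.pos_of_ne_zero C.index_ne_zero_of_finite) ?_
    rw [h1, h3]; ring
  -- the map from conjugators to the coset
  have fib : ∀ g : G, ∀ n : N, (∃ x : G, x * g * x⁻¹ = g * n) →
      Nat.card {x : G // x * g * x⁻¹ = g * n} = Nat.card (Subgroup.centralizer ({g} : Set G)) := by
    rintro g n ⟨x₀, hx₀⟩
    refine Nat.card_congr ⟨fun x => ⟨x₀⁻¹ * x.1, Subgroup.mem_centralizer_singleton_iff.mpr ?_⟩,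
      fun c => ⟨x₀ * c.1, ?_⟩, fun x => by simp, fun c => by simp⟩
    · obtain ⟨x, h⟩ := x
      rw [← hx₀] at h
      have h' := congrArg (fun t => x₀⁻¹ * t * x) h
      simpa [mul_assoc] using h'
    · have hc := Subgroup.mem_centralizer_singleton_iff.mp c.2
      rw [← hx₀, mul_inv_rev]
      calc x₀ * c.1 * g * (c.1⁻¹ * x₀⁻¹) = x₀ * (c.1 * g) * c.1⁻¹ * x₀⁻¹ := by group
        _ = _ := by rw [hc]; group
  haveI := Fintype.ofFinite N
  have hsum : ∀ g : G, Nat.card {x : G // (QuotientGroup.mk (x * g * x⁻¹) : G ⧸ N) = g} =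
      ∑ n : N, Nat.card {x : G // x * g * x⁻¹ = g * n} := by
    intro g
    rw [← Nat.card_sigma]
    refine Nat.card_congr ⟨fun x => ⟨⟨g⁻¹ * (x.1 * g * x.1⁻¹), QuotientGroup.eq.mp x.2.symm⟩,
      ⟨x.1, by simp⟩⟩, fun y => ⟨y.2.1, ?_⟩, fun x => rfl, ?_⟩
    · rw [y.2.2, QuotientGroup.eq]
      simpa using y.1.2
    · rintro ⟨n, x, hx⟩
      exact Sigma.subtype_ext (Subtype.ext (by simp [hx])) rfl
  constructor
  · intro h g hg
    have h1 := (key g).symm.trans (hsum g)
    rw [Finset.sum_congr rfl fun n _ => fib g n (h g hg n n.2), Finset.sum_const, Finset.card_univ,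
      smul_eq_mul, ← Nat.card_eq_fintype_card] at h1
    exact (Nat.eq_of_mul_eq_mul_left Nat.card_pos h1).symm
  · intro h g hg n hn
    by_contra hcon
    have hle : ∀ m : N, Nat.card {x : G // x * g * x⁻¹ = g * m} ≤
        Nat.card (Subgroup.centralizer ({g} : Set G)) := by
      intro m
      by_cases hm : ∃ x : G, x * g * x⁻¹ = g * m
      · exact (fib g m hm).le
      · haveI : IsEmpty {x : G // x * g * x⁻¹ = g * m} := ⟨fun x => hm ⟨x.1, x.2⟩⟩
        simp
    have hlt : ∑ m : N, Nat.card {x : G // x * g * x⁻¹ = g * m} <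
        ∑ _m : N, Nat.card (Subgroup.centralizer ({g} : Set G)) := by
      refine Finset.sum_lt_sum (fun m _ => hle m) ⟨⟨n, hn⟩, Finset.mem_univ _, ?_⟩
      haveI : IsEmpty {x : G // x * g * x⁻¹ = g * n} := ⟨fun x => hcon ⟨x.1, x.2⟩⟩
      rw [Nat.card_of_isEmpty]
      exact Nat.card_pos
    rw [← hsum, key, h g hg, Finset.sum_const, Finset.card_univ, smul_eq_mul,
      ← Nat.card_eq_fintype_card] at hlt
    exact lt_irrefl _ hlt

end Cfsg.Agent.S4142
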