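import Cfsg.Statements.S0065
import Cfsg.Agent.Lib.Basics.CoprimeGen

set_option autoImplicit false
open Cfsg

namespace Cfsg.Agent.S0065

theorem meet {G : Type*} [Group G] [Group.IsNilpotent G] [Finite G] :
    ∀ N : Subgroup G, N.Normal → N ≠ ⊥ → N ⊓ Subgroup.center G ≠ ⊥ := by
  intro N
  induction N using WellFoundedLT.induction with
  | _ N ih =>
    intro hn hne h
    haveI := hn
    have hlt := Basics.commutator_top_lt_of_isNilpotent (N := N) hne
    by_cases h0 : ⁅N, (⊤ : Subgroup G)⁆ = ⊥
    · rw [Subgroup.commutator_top_right_eq_bot_iff_le_center] at h0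
      exact hne (by rwa [inf_eq_left.mpr h0] at h)
    · exact ih _ hlt inferInstance h0 (le_bot_iff.mp (h ▸ inf_le_inf_right _ hlt.le))

/-- A nontrivial normal subgroup of a nilpotent group intersects the centre nontrivially. -/
theorem result {G : Type*} [Group G] [Finite G] [Group.IsNilpotent G]
    (N : Subgroup G) [N.Normal] (hN : N ≠ ⊥) : N ⊓ Subgroup.center G ≠ ⊥ := by
  exact meet N inferInstance hN

end Cfsg.Agent.S0065
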