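import Cfsg.Statements.S1484
import Cfsg.Agent.Lib.OddLocal.CNFrobenius
-- import your own Cfsg.Agent.* helpers here

set_option autoImplicit false
open Cfsg

namespace Cfsg.Agent.S1484

/-- Let G be a minimal simple group of odd order in which every non-identity element has nilpotent centralizer, and M₁, …, M_k maximal subgroups, pairwise non-conjugate, such that every maximal subgroup is conjugate to some M_i. Let H_i be the largest normal nilpotent Hall subgroup of M_i. Then the orders of the H_i are pairwise coprime, their product is the order of G, and every element of G is conjugate to an element of some H_i. -/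
theorem result {G : Type*} [Group G] [Finite G] (hG : Cfsg.IsMinSimpleOddOrder G) (hCN : Cfsg.IsCNGroup G) (k : ℕ) (Mrep : Fin k → Subgroup G) (hmax : ∀ i, IsCoatom (Mrep i))
    (hnc : ∀ i j, i ≠ j → ∀ g : G, Mrep j ≠ (Mrep i).map (MulAut.conj g).toMonoidHom) (hall : ∀ M : Subgroup G, IsCoatom M → ∃ i, ∃ g : G, M = (Mrep i).map (MulAut.conj g).toMonoidHom) :
    (∀ i j, i ≠ j → (Nat.card (Cfsg.fittingHallOf (Mrep i))).Coprime (Nat.card (Cfsg.fittingHallOf (Mrep j)))) ∧
      ∏ i, Nat.card (Cfsg.fittingHallOf (Mrep i)) = Nat.card G ∧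
      ∀ x : G, ∃ i, ∃ g : G, g * x * g⁻¹ ∈ Cfsg.fittingHallOf (Mrep i) := by
  have hF : ∀ i, Cfsg.fittingHallOf (Mrep i) = Cfsg.fittingOf (Mrep i) := fun i =>
    OddLocal.fittingHallOf_eq hG hCN (hmax i)
  have hmaxn : ∀ i, OddLocal.IsMaxNilpotent (Cfsg.fittingHallOf (Mrep i)) := fun i => by
    rw [hF]; exact OddLocal.isMaxNilpotent_fitting hG hCN (hmax i)
  have hcop : ∀ i j, i ≠ j → (Nat.card (Cfsg.fittingHallOf (Mrep i))).Coprime (Nat.card (Cfsg.fittingHallOf (Mrep j))) := by
    intro i j hij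
    refine Nat.coprime_of_dvd fun p hp hi hj => ?_
    have : Fact p.Prime := ⟨hp⟩
    obtain ⟨g, hg⟩ := (hmaxn i).conj_of_common hCN (hmaxn j) hi hj
    rw [hF, hF] at hg
    exact hnc i j hij g (OddLocal.conj_of_fitting hG hCN (hmax i) (hmax j) hg)
  have hcover : ∀ x : G, ∃ i, ∃ g : G, g * x * g⁻¹ ∈ Cfsg.fittingHallOf (Mrep i) := by
    intro x
    have hn : Group.IsNilpotent (Subgroup.zpowers x) := by
      letI : CommGroup (Subgroup.zpowers x) := IsCyclic.commGroup
      infer_instance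
    obtain ⟨H, hH, hle⟩ := OddLocal.exists_maxNilpotent_ge hn
    obtain ⟨M, hM, rfl⟩ := OddLocal.exists_maximal_of_maxNilpotent hG hCN hH
    obtain ⟨i, g, hg⟩ := hall M hM
    have hxF : x ∈ Cfsg.fittingOf M := hle (Subgroup.mem_zpowers x)
    refine ⟨i, g⁻¹, ?_⟩
    have h1 := hmaxn i
    rw [hF] at h1 ⊢
    have h3 : OddLocal.IsMaxNilpotent (Cfsg.fittingOf M) := OddLocal.isMaxNilpotent_fitting hG hCN hM
    have hle' : (Cfsg.fittingOf (Mrep i)).map (MulAut.conj g).toMonoidHom ≤ Cfsg.fittingOf M := by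
      have h4 := h1.map_conj g
      have hM' : (Cfsg.fittingOf (Mrep i)).map (MulAut.conj g).toMonoidHom ≤ M :=
        hg ▸ Subgroup.map_mono (OddLocal.fittingOf_le _)
      have hn' : M ≤ Subgroup.normalizer (((Cfsg.fittingOf (Mrep i)).map (MulAut.conj g).toMonoidHom : Subgroup G) : Set G) := by
        rw [hg]
        exact (Subgroup.map_mono (OddLocal.le_normalizer_fittingOf (Mrep i))).trans
          (Subgroup.le_normalizer_map (MulAut.conj g).toMonoidHom)
      rw [← Subgroup.map_subgroupOf_eq_of_le hM']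
      have : (((Cfsg.fittingOf (Mrep i)).map (MulAut.conj g).toMonoidHom).subgroupOf M).Normal :=
        (Subgroup.normal_subgroupOf_iff_le_normalizer hM').mpr hn'
      refine Subgroup.map_mono (Basics.le_fittingSubgroup ?_)
      have := h4.1
      exact Group.nilpotent_of_mulEquiv (Subgroup.subgroupOfEquivOfLe hM').symm
    have e := (h1.map_conj g).2 _ h3.1 hle'
    obtain ⟨y, hy, hyx⟩ := e ▸ hxF
    have : g⁻¹ * x * g⁻¹⁻¹ = y := by rw [← hyx]; simp [mul_assoc]
    rw [this]
    exact hy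
  refine ⟨hcop, ?_, hcover⟩
  refine Nat.dvd_antisymm ?_ ?_
  · have : (∏ i, Nat.card (Cfsg.fittingHallOf (Mrep i))) ∣ Nat.card G :=
      Finset.prod_dvd_of_isRelPrime (fun i _ j _ hij => Nat.coprime_iff_isRelPrime.mp (hcop i j hij))
        fun i _ => Subgroup.card_subgroup_dvd_card _
    exact this
  · rw [Nat.dvd_iff_prime_pow_dvd_dvd]
    intro p k hp hpk
    rcases Nat.eq_zero_or_pos k with rfl | hk
    · simp
    have : Fact p.Prime := ⟨hp⟩
    obtain ⟨x, hx⟩ := exists_prime_orderOf_dvd_card' p ((dvd_pow_self p hk.ne').trans hpk)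
    obtain ⟨i, g, hg⟩ := hcover x
    have hpi : p ∣ Nat.card (Cfsg.fittingHallOf (Mrep i)) := by
      refine Dvd.dvd.trans (dvd_of_eq ?_) (Subgroup.orderOf_dvd_natCard _ hg)
      rw [show g * x * g⁻¹ = (MulAut.conj g).toMonoidHom x from rfl,
        orderOf_injective (MulAut.conj g).toMonoidHom (MulAut.conj g).injective, hx]
    obtain ⟨S, hS⟩ := (hmaxn i).exists_sylow hCN hpi
    refine ((pow_dvd_pow p ((hp.pow_dvd_iff_le_factorization Nat.card_pos.ne').mp hpk)).trans ?_).trans
      (Finset.dvd_prod_of_mem _ (Finset.mem_univ i))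
    rw [← S.card_eq_multiplicity]
    exact Subgroup.card_dvd_of_le hS


end Cfsg.Agent.S1484
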