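import Cfsg.Statements.S1514
import Cfsg.Agent.Lib.OddChar.Coherence

set_option autoImplicit false
open Cfsg

namespace Cfsg.Agent.S1514

/-- Let S be a nonempty set of irreducible characters of the finite group L, closed under complex conjugation and containing no real-valued member, and τ a linear isometry on the integer combinations of S vanishing at 1, with values virtual characters of G vanishing at 1. Then there is a choice R making (S, τ, R) a coherence system. -/
theorem result {L : Type*} [Group L] [Fintype L] {G : Type*} [Group G] [Fintype G] (S : Set (L → ℂ)) (hS : S.Nonempty) (hirr : ∀ χ ∈ S, Cfsg.IsIrrCharacter L χ) (hconj : ∀ χ ∈ S, Cfsg.conjFun χ ∈ S ∧ Cfsg.conjFun χ ≠ χ) (τ : (L → ℂ) → (G → ℂ)) (hτ : Cfsg.IsLinearIsometryOn (Cfsg.zspanOn S {1}ᶜ) τ) (hτ1 : ∀ α ∈ Cfsg.zspanOn S {1}ᶜ, τ α 1 = 0) : ∃ R : (L → ℂ) → Finset (G → ℂ), Cfsg.IsCoherenceSystem S τ R := by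
  classical
  have hne : ∀ χ ∈ S, Cfsg.classInner χ (Cfsg.conjFun χ) = 0 ∧ Cfsg.classInner (Cfsg.conjFun χ) χ = 0 :=
    fun χ hχ => ⟨CT.irr_inner_of_ne (hirr χ hχ) (hirr _ (hconj χ hχ).1) (hconj χ hχ).2.symm,
      CT.irr_inner_of_ne (hirr _ (hconj χ hχ).1) (hirr χ hχ) (hconj χ hχ).2⟩
  have hmem : ∀ χ ∈ S, χ - Cfsg.conjFun χ ∈ Cfsg.zspanOn S {1}ᶜ := fun χ hχ =>
    OddChar.zspanOn_iff.mpr ⟨OddChar.zspan_sub (OddChar.zspan_self hχ) (OddChar.zspan_self (hconj χ hχ).1),
      by simp [OddChar.conjFun_one_of_char (CT.isCharacter_of_isIrr (hirr χ hχ))]⟩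
  have hpair : ∀ χ ∈ S, ∃ x y : G → ℂ, OddChar.IsSigned x ∧ OddChar.IsSigned y ∧
      Cfsg.classInner x y = 0 ∧ τ (χ - Cfsg.conjFun χ) = x + y := by
    intro χ hχ
    refine OddChar.gen_norm_two (hτ.2.2.2 _ (hmem χ hχ)) ?_
    rw [hτ.2.2.1 _ (hmem χ hχ) _ (hmem χ hχ), CT.classInner_sub_left, CT.classInner_sub_right,
      CT.classInner_sub_right, (hne χ hχ).1, (hne χ hχ).2, CT.irr_inner_self (hirr χ hχ),
      CT.irr_inner_self (hirr _ (hconj χ hχ).1)]
    norm_num
  choose! x y hx hy hxy hτxy using hpair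
  refine ⟨fun χ => {x χ, y χ},
    { nonempty := hS
      isCharacter := fun χ hχ => CT.isCharacter_of_isIrr (hirr χ hχ)
      conj_mem := fun χ hχ => (hconj χ hχ).1
      conj_ne := fun χ hχ => (hconj χ hχ).2
      isometry := hτ
      map_one := hτ1
      orthogonal := fun χ hχ φ hφ h => CT.irr_inner_of_ne (hirr χ hχ) (hirr φ hφ) h
      orthonormal := ?_
      virtual := ?_
      sum_eq := ?_
      disjoint := ?_ }⟩
  · intro χ hχ a ha b hb
    have hyx := OddChar.isSigned_inner_symm_eq_zero (hxy χ hχ)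
    have h1 : x χ ≠ y χ := fun e => by
      have := hxy χ hχ
      rw [← e, OddChar.isSigned_norm (hx χ hχ)] at this
      exact one_ne_zero this
    simp only [Finset.mem_insert, Finset.mem_singleton] at ha hb
    rcases ha with rfl | rfl <;> rcases hb with rfl | rfl
    · rw [if_pos rfl]; exact OddChar.isSigned_norm (hx χ hχ)
    · rw [if_neg h1]; exact hxy χ hχ
    · rw [if_neg h1.symm]; exact hyx
    · rw [if_pos rfl]; exact OddChar.isSigned_norm (hy χ hχ)
  · intro χ hχ a ha
    simp only [Finset.mem_insert, Finset.mem_singleton] at ha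
    rcases ha with rfl | rfl
    · exact OddChar.isSigned_isGen (hx χ hχ)
    · exact OddChar.isSigned_isGen (hy χ hχ)
  · intro χ hχ
    have h1 : x χ ≠ y χ := fun e => by
      have := hxy χ hχ
      rw [← e, OddChar.isSigned_norm (hx χ hχ)] at this
      exact one_ne_zero this
    rw [Finset.sum_pair h1, hτxy χ hχ]
  · intro χ hχ φ hφ h1 h2 a ha b hb
    have hχφ : φ ≠ χ := fun e => by
      rw [e, CT.irr_inner_self (hirr χ hχ)] at h1
      exact one_ne_zero h1
    have h3 : Cfsg.classInner (Cfsg.conjFun φ) χ = 0 := by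
      refine CT.irr_inner_of_ne (hirr _ (hconj φ hφ).1) (hirr χ hχ) fun e => ?_
      have : φ = Cfsg.conjFun χ := by rw [← e, OddChar.conjFun_conjFun]
      rw [this, CT.irr_inner_self (hirr _ (hconj χ hχ).1)] at h2
      exact one_ne_zero h2
    have h4 : Cfsg.classInner (Cfsg.conjFun φ) (Cfsg.conjFun χ) = 0 := by
      rw [OddChar.classInner_conjFun_conjFun, h1, map_zero]
    have hz : Cfsg.classInner (τ (φ - Cfsg.conjFun φ)) (τ (χ - Cfsg.conjFun χ)) = 0 := by
      rw [hτ.2.2.1 _ (hmem φ hφ) _ (hmem χ hχ), CT.classInner_sub_left, CT.classInner_sub_right,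
        CT.classInner_sub_right, h1, h2, h3, h4]
      simp
    have e1 : x φ 1 + y φ 1 = 0 := by rw [← Pi.add_apply, ← hτxy φ hφ]; exact hτ1 _ (hmem φ hφ)
    have e2 : x χ 1 + y χ 1 = 0 := by rw [← Pi.add_apply, ← hτxy χ hχ]; exact hτ1 _ (hmem χ hχ)
    rw [hτxy φ hφ, hτxy χ hχ] at hz
    have hneg : ∀ c d : G → ℂ, Cfsg.classInner c d = 0 → Cfsg.classInner c (-d) = 0 := fun c d h => by
      rw [CT.classInner_neg_right, h, neg_zero]
    obtain ⟨o1, o2, o3, o4⟩ := OddChar.signed_pair_orth' (p := 1) (q := 1) (u := 1) (v := 1)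
      (hx φ hφ) (OddChar.isSigned_neg (hy φ hφ)) (hx χ hχ) (OddChar.isSigned_neg (hy χ hχ))
      one_ne_zero one_ne_zero one_ne_zero one_ne_zero
      (hneg _ _ (hxy φ hφ)) (hneg _ _ (hxy χ hχ)) (by simpa using hz)
      (by simpa using eq_neg_of_add_eq_zero_left e1) (by simpa using eq_neg_of_add_eq_zero_left e2)
    rw [CT.classInner_neg_right] at o2
    rw [CT.classInner_neg_left] at o3
    rw [CT.classInner_neg_left, CT.classInner_neg_right] at o4
    simp only [Finset.mem_insert, Finset.mem_singleton] at ha hb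
    rcases ha with rfl | rfl <;> rcases hb with rfl | rfl
    · exact o1
    · simpa using o2
    · simpa using o3
    · simpa using o4

end Cfsg.Agent.S1514
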