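import Cfsg.Statements.S1527
import Cfsg.Agent.Lib.OddChar.Powers

set_option autoImplicit false
open Cfsg

namespace Cfsg.Agent.S1527

/-- Let G be a finite group and H i (i in a finite index type) subgroups of pairwise coprime orders, each of whose underlying sets is a TI-subset of G, such that every non-identity element of G is conjugate to an element of some H i. Then Nat.card G − 1 = Σ_i [G : N_G(H i)] · (Nat.card (H i) − 1). -/
theorem result {G : Type*} [Group G] [Finite G] {ι : Type*} [Fintype ι] (H : ι → Subgroup G) (hcop : ∀ i j, i ≠ j → Nat.Coprime (Nat.card (H i)) (Nat.card (H j))) (hTI : ∀ i, Cfsg.IsTISubset (H i : Set G)) (hcover : ∀ g : G, g ≠ 1 → ∃ i, ∃ x : G, x * g * x⁻¹ ∈ H i) : Nat.card G - 1 = ∑ i, (Subgroup.normalizer (H i : Set G)).index * (Nat.card (H i) - 1) := by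
  classical
  haveI : Fintype G := Fintype.ofFinite G
  let N : ι → Subgroup G := fun i => Subgroup.normalizer (H i : Set G)
  have hNm : ∀ i g, g ∈ N i ↔ ∀ h : G, h ∈ H i ↔ g * h * g⁻¹ ∈ H i := by
    intro i g; exact Subgroup.mem_normalizer_iff
  let S := Σ i, (G ⧸ N i) × {h : H i // h ≠ 1}
  have hne : ∀ s : S, s.2.1.out * ((s.2.2.1 : H s.1) : G) * s.2.1.out⁻¹ ≠ 1 := by
    intro s h
    rw [conj_eq_one_iff] at h
    exact s.2.2.2 (Subtype.ext h)
  let Φ : S → {g : G // g ≠ 1} := fun s => ⟨_, hne s⟩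
  have hinj : Function.Injective Φ := by
    rintro ⟨i, q, h, hh⟩ ⟨j, q', h', hh'⟩ he
    simp only [Φ, Subtype.mk.injEq] at he
    have hij : i = j := by
      by_contra hij
      have ho : orderOf (h : G) = orderOf (h' : G) := by
        have h1 := (MulAut.conj q.out).orderOf_eq (h : G)
        have h2 := (MulAut.conj q'.out).orderOf_eq (h' : G)
        simp only [MulAut.conj_apply] at h1 h2
        rw [← h1, he, h2]
      have := Nat.eq_one_of_dvd_coprimes (hcop i j hij)
        (Subgroup.orderOf_dvd_natCard _ h.2) (ho ▸ Subgroup.orderOf_dvd_natCard _ h'.2)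
      exact hh (Subtype.ext (orderOf_eq_one_iff.mp this))
    subst hij
    have hz : (q'.out⁻¹ * q.out) * (h : G) * (q'.out⁻¹ * q.out)⁻¹ = (h' : G) := by
      calc (q'.out⁻¹ * q.out) * (h : G) * (q'.out⁻¹ * q.out)⁻¹
          = q'.out⁻¹ * (q.out * h * q.out⁻¹) * q'.out := by group
        _ = (h' : G) := by rw [he]; group
    have hmem : q'.out⁻¹ * q.out ∈ N i := by
      by_contra hn
      exact hh (Subtype.ext (hTI i _ hn _ h.2 (hz.symm ▸ h'.2)))
    have hqq : q = q' := by
      rw [← QuotientGroup.out_eq' q, ← QuotientGroup.out_eq' q', eq_comm, QuotientGroup.eq]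
      exact hmem
    subst hqq
    have : (h : G) = h' := by simpa using he
    have : h = h' := Subtype.ext this
    subst this
    rfl
  have hsur : Function.Surjective Φ := by
    rintro ⟨g, hg⟩
    obtain ⟨i, x, hx⟩ := hcover g hg
    obtain ⟨r, hr⟩ : ∃ r : G, r = (QuotientGroup.mk x⁻¹ : G ⧸ N i).out := ⟨_, rfl⟩
    have hrm : r⁻¹ * x⁻¹ ∈ N i := by
      rw [← QuotientGroup.eq, hr, QuotientGroup.out_eq']
    have hmem : r⁻¹ * g * r ∈ H i := by
      have := ((hNm i _).mp hrm _).mp hx
      convert this using 1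
      group
    refine ⟨⟨i, QuotientGroup.mk x⁻¹, ⟨⟨r⁻¹ * g * r, hmem⟩, ?_⟩⟩, ?_⟩
    · intro h
      have h' : r⁻¹ * g * r = 1 := congrArg Subtype.val h
      exact hg (by simpa [mul_assoc, inv_mul_eq_one] using h')
    · refine Subtype.ext ?_
      show (QuotientGroup.mk x⁻¹ : G ⧸ N i).out * (r⁻¹ * g * r) *
        (QuotientGroup.mk x⁻¹ : G ⧸ N i).out⁻¹ = g
      rw [← hr]
      group
  have h := Nat.card_congr (Equiv.ofBijective Φ ⟨hinj, hsur⟩)
  have hc : ∀ (α : Type _) [Finite α] (a : α), Nat.card {b : α // b ≠ a} = Nat.card α - 1 := by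
    intro α _ a
    haveI := Fintype.ofFinite α
    simp [Nat.card_eq_fintype_card, Fintype.card_subtype_compl]
  rw [Nat.card_sigma] at h
  rw [← hc G 1, ← h]
  refine Finset.sum_congr rfl fun i _ => ?_
  rw [Nat.card_prod]
  congr 1
  haveI := Fintype.ofFinite (H i)
  simp [Nat.card_eq_fintype_card, Fintype.card_subtype_compl]

end Cfsg.Agent.S1527
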