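import Cfsg.Statements.S1526
import Cfsg.Agent.Lib.OddChar.NoPartition

set_option autoImplicit false
open Cfsg

namespace Cfsg.Agent.S1526

/-- Let G be a finite group of odd order and (L i, H i), i in a finite index type with at least two elements, pairs of subgroups with H i a nontrivial proper normal subgroup of L i such that every non-identity element of H i has its centraliser within L i contained in H i (L i is a Frobenius group with kernel H i), the orders of the H i pairwise coprime, and the underlying set of each H i a TI-subset of G with normaliser L i. If every non-identity element of G is conjugate to an element of some H i, we reach a contradiction. -/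
theorem result {G : Type*} [Group G] [Finite G] (hodd : Odd (Nat.card G)) {ι : Type*} [Fintype ι] (hι : 2 ≤ Fintype.card ι) (L H : ι → Subgroup G) (hHL : ∀ i, H i < L i) (hH1 : ∀ i, H i ≠ ⊥) (hHn : ∀ i, ∀ x ∈ L i, ∀ h ∈ H i, x * h * x⁻¹ ∈ H i) (hfrob : ∀ i, ∀ h ∈ H i, h ≠ 1 → L i ⊓ Subgroup.centralizer ({h} : Set G) ≤ H i) (hcop : ∀ i j, i ≠ j → Nat.Coprime (Nat.card (H i)) (Nat.card (H j))) (hTI : ∀ i, Cfsg.IsTISubset (H i : Set G) ∧ Subgroup.normalizer (H i : Set G) = L i) (hcover : ∀ g : G, g ≠ 1 → ∃ i, ∃ x : G, x * g * x⁻¹ ∈ H i) : False := by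
  classical
  haveI := Fintype.ofFinite G
  choose B hA hh he using fun i => OddChar.exists_blk hodd (H i) (L i) (hHL i) (hH1 i) (hHn i) (hfrob i)
    (hTI i).1 (hTI i).2
  refine OddChar.no_blocks hodd B hι (fun i j hij => ?_) (fun i j hij => by rw [hh, hh]; exact hcop i j hij)
    (fun i => (hh i).symm ▸ Subgroup.card_subgroup_dvd_card (H i)) ?_
  · rw [hA, hA, Set.disjoint_left]
    rintro x ⟨hx1, y, hy⟩ ⟨-, w, hw⟩
    have h1 := (MulAut.conj y).orderOf_eq x
    have h2 := (MulAut.conj w).orderOf_eq x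
    simp only [MulAut.conj_apply] at h1 h2
    have d1 := h1 ▸ Subgroup.orderOf_dvd_natCard _ hy
    have d2 := h2 ▸ Subgroup.orderOf_dvd_natCard _ hw
    exact hx1 (orderOf_eq_one_iff.mp (Nat.eq_one_of_dvd_coprimes (hcop i j hij) d1 d2))
  · have hsum := Cfsg.Agent.S1527.result H hcop (fun i => (hTI i).1) hcover
    have hcast := congrArg (fun n : ℕ => (n : ℝ)) hsum
    simp only [Nat.cast_sum, Nat.cast_mul, Nat.cast_sub (Nat.card_pos : 0 < Nat.card G),
      Nat.cast_one] at hcast
    have hG : (Nat.card G : ℝ) ≠ 0 := Nat.cast_ne_zero.mpr Nat.card_pos.ne'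
    rw [show (1 : ℝ) - 1 / (Nat.card G : ℝ) = ((Nat.card G : ℝ) - 1) / (Nat.card G : ℝ) by field_simp,
      hcast, Finset.sum_div]
    refine Finset.sum_congr rfl fun i _ => ?_
    rw [hh, he, (hTI i).2]
    have hcard : (Nat.card G : ℝ) = (L i).index * ((H i).relIndex (L i) * Nat.card (H i)) := by
      rw [← (L i).index_mul_card, ← Subgroup.relIndex_bot_left (L i),
        ← Subgroup.relIndex_mul_relIndex ⊥ (H i) (L i) bot_le (hHL i).le, Subgroup.relIndex_bot_left]
      push_cast; ring
    have hidx : ((L i).index : ℝ) ≠ 0 := Nat.cast_ne_zero.mpr (L i).index_ne_zero_of_finite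
    have hrel : (((H i).relIndex (L i) : ℕ) : ℝ) ≠ 0 := Nat.cast_ne_zero.mpr (by
      unfold Subgroup.relIndex; exact Subgroup.index_ne_zero_of_finite)
    have hH : (Nat.card (H i) : ℝ) ≠ 0 := Nat.cast_ne_zero.mpr Nat.card_pos.ne'
    rw [Nat.cast_sub (Nat.card_pos : 0 < Nat.card (H i)), Nat.cast_one, hcard]
    field_simp

end Cfsg.Agent.S1526
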