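import Cfsg.Statements.S0662
import Cfsg.Agent.Lib.Basics.Frattini
import Cfsg.Agent.Lib.Basics.CoprimeGen
import Cfsg.Agent.Lib.Basics.Tools
-- import your own Cfsg.Agent.* helpers here

set_option autoImplicit false
open Cfsg

namespace Cfsg.Agent.S0662

open Subgroup in
open scoped commutatorElement in
theorem card_bounds {G : Type*} [Group G] [Finite G] {p : ℕ} [hp : Fact p.Prime] (hG : IsPGroup p G) (m : ℕ) :
    (⊤ : Subgroup G).lowerCentralSeries m ≠ ⊥ → ∀ i ≤ m,
      p ^ (m + 1 - i) ≤ Nat.card ((⊤ : Subgroup G).lowerCentralSeries i) := by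
  intro hne
  haveI := hG.isNilpotent
  suffices H : ∀ d i, i + d = m → p ^ (d + 1) ≤ Nat.card ((⊤ : Subgroup G).lowerCentralSeries i) from
    fun i hi => by rw [show m + 1 - i = (m - i) + 1 by omega]; exact H (m - i) i (by omega)
  intro d
  induction d with
  | zero =>
    intro i hi
    rw [show i = m by omega]
    obtain ⟨e, he⟩ := IsPGroup.iff_card.1 (hG.to_subgroup ((⊤ : Subgroup G).lowerCentralSeries m))
    rw [he]
    refine Nat.pow_le_pow_right hp.out.pos (Nat.pos_of_ne_zero fun h => hne ?_)
    exact Subgroup.eq_bot_of_card_eq _ (by rw [he, h, pow_zero])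
  | succ d ih =>
    intro i hi
    have h1 := ih (i + 1) (by omega)
    have hne' : (⊤ : Subgroup G).lowerCentralSeries i ≠ ⊥ := fun h => hne
      (eq_bot_iff.2 (h ▸ (⊤ : Subgroup G).lowerCentralSeries_antitone (show i ≤ m by omega)))
    have hlt : (⊤ : Subgroup G).lowerCentralSeries (i + 1) < (⊤ : Subgroup G).lowerCentralSeries i := by
      rw [Subgroup.lowerCentralSeries_succ]
      exact Cfsg.Agent.Basics.commutator_top_lt_of_isNilpotent hne'
    have h2 := Cfsg.Agent.Basics.card_lt_of_lt hlt
    obtain ⟨e, he⟩ := IsPGroup.iff_card.1 (hG.to_subgroup ((⊤ : Subgroup G).lowerCentralSeries (i + 1)))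
    obtain ⟨f, hf⟩ := IsPGroup.iff_card.1 (hG.to_subgroup ((⊤ : Subgroup G).lowerCentralSeries i))
    rw [he] at h1 h2; rw [hf] at h2 ⊢
    rw [Nat.pow_le_pow_iff_right hp.out.one_lt] at h1 ⊢
    rw [Nat.pow_lt_pow_iff_right hp.out.one_lt] at h2
    omega

open Subgroup in
open scoped commutatorElement in
theorem commutator_bot_of_cyclic {G : Type*} [Group G] [Finite G] [Group.IsNilpotent G]
    (h : IsCyclic (G ⧸ commutator G)) : commutator G = ⊥ := by
  obtain ⟨q, hq⟩ := h.exists_generator
  obtain ⟨g, rfl⟩ := QuotientGroup.mk_surjective q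
  have hsup : zpowers g ⊔ frattini G = ⊤ := by
    refine top_le_iff.1 fun x _ => ?_
    obtain ⟨i, hi⟩ := hq (QuotientGroup.mk x)
    have h1 : (g ^ i)⁻¹ * x ∈ commutator G := QuotientGroup.eq.1 (by simpa using hi)
    have := mul_mem (mem_sup_left (zpow_mem (mem_zpowers g) i) : g ^ i ∈ zpowers g ⊔ frattini G)
      (mem_sup_right (Cfsg.Agent.Basics.commutator_le_frattini h1))
    simpa using this
  have hgen := frattini_nongenerating hsup
  rw [commutator_def, eq_bot_iff, commutator_le]
  intro a _ b _
  obtain ⟨i, rfl⟩ := (hgen.symm ▸ mem_top a : a ∈ zpowers g)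
  obtain ⟨j, rfl⟩ := (hgen.symm ▸ mem_top b : b ∈ zpowers g)
  rw [mem_bot, commutatorElement_eq_one_iff_mul_comm]
  exact ((Commute.refl g).zpow_zpow i j).eq

open Subgroup in
open scoped commutatorElement in
theorem lcs_quot {Q : Type*} [Group Q] [Finite Q] {p : ℕ} [hp : Fact p.Prime] {r : ℕ} (hr : 2 ≤ r)
    (hQ : Nat.card Q = p ^ r) : (⊤ : Subgroup Q).lowerCentralSeries (r - 1) = ⊥ := by
  by_contra hne
  have hQp : IsPGroup p Q := IsPGroup.of_card hQ
  haveI := hQp.isNilpotent
  have h1 := card_bounds hQp (r - 1) hne 1 (by omega)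
  rw [Subgroup.top_lowerCentralSeries_one, show r - 1 + 1 - 1 = r - 1 by omega] at h1
  have h2 := (commutator Q).card_eq_card_quotient_mul_card_subgroup
  obtain ⟨e, he⟩ := IsPGroup.iff_card.1 (hQp.to_quotient (commutator Q))
  obtain ⟨f, hf⟩ := IsPGroup.iff_card.1 (hQp.to_subgroup (commutator Q))
  rw [hQ, he, hf, ← pow_add] at h2
  have := Nat.pow_right_injective hp.out.two_le h2
  rw [hf, Nat.pow_le_pow_iff_right hp.out.one_lt] at h1
  have hcyc : IsCyclic (Q ⧸ commutator Q) := by
    rcases Nat.eq_zero_or_pos e with rfl | he0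
    · haveI := (Nat.card_eq_one_iff_unique.1 (by simpa using he)).1
      exact isCyclic_of_subsingleton
    · exact isCyclic_of_prime_card (p := p) (by rw [he, show e = 1 by omega, pow_one])
  refine hne (eq_bot_iff.2 ?_)
  rw [← commutator_bot_of_cyclic hcyc, ← Subgroup.top_lowerCentralSeries_one]
  exact (⊤ : Subgroup Q).lowerCentralSeries_antitone (by omega)

open Subgroup in
open scoped commutatorElement in
theorem count {G : Type*} [Group G] [Finite G] {p : ℕ} [hp : Fact p.Prime]
    (hV : Nat.card (G ⧸ commutator G) = p ^ 2) (hexp : ∀ g : G, g ^ p ∈ commutator G) :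
    Nat.card {N : Subgroup G // N.Normal ∧ N.index = p} = p + 1 := by
  classical
  set π := QuotientGroup.mk' (commutator G) with hπ
  have hπs := QuotientGroup.mk'_surjective (commutator G)
  have hord : ∀ q : G ⧸ commutator G, q ≠ 1 → Nat.card (zpowers q) = p := by
    intro q hq
    rw [Nat.card_zpowers]
    refine orderOf_eq_prime ?_ hq
    obtain ⟨g, rfl⟩ := hπs q
    rw [← map_pow]
    exact (QuotientGroup.eq_one_iff _).2 (hexp g)
  have hidx : ∀ q : G ⧸ commutator G, q ≠ 1 → ((zpowers q).comap π).index = p := by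
    intro q hq
    rw [index_comap_of_surjective _ hπs]
    have := card_mul_index (zpowers q)
    rw [hord q hq, hV, sq] at this
    exact Nat.eq_of_mul_eq_mul_left hp.out.pos this
  have hnorm : ∀ q : G ⧸ commutator G, q ≠ 1 → ((zpowers q).comap π).Normal := fun q _ =>
    Subgroup.Normal.comap
      ⟨fun a ha x => by
        rw [show x * a * x⁻¹ = a by
          obtain ⟨u, rfl⟩ := hπs x
          obtain ⟨v, rfl⟩ := hπs a
          rw [← map_inv, ← map_mul, ← map_mul]
          refine (QuotientGroup.eq.2 ?_)
          have : (u * v * u⁻¹)⁻¹ * v = ⁅u, v⁻¹⁆ := by simp only [commutatorElement_def]; group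
          rw [this]
          exact commutator_mem_commutator (mem_top _) (mem_top _)]
        exact ha⟩ π
  have hcomm : ∀ N : Subgroup G, N.Normal → N.index = p → commutator G ≤ N := by
    intro N hN hNi
    haveI : IsCyclic (G ⧸ N) := isCyclic_of_prime_card (p := p) hNi
    rw [commutator_def, commutator_le]
    intro a _ b _
    rw [← QuotientGroup.eq_one_iff, ← QuotientGroup.mk'_apply, map_commutatorElement,
      commutatorElement_eq_one_iff_mul_comm]
    exact (IsCyclic.commGroup (α := G ⧸ N)).mul_comm _ _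
  let S := {N : Subgroup G // N.Normal ∧ N.index = p}
  let f : {q : G ⧸ commutator G // q ≠ 1} → S := fun q => ⟨_, hnorm q q.2, hidx q q.2⟩
  haveI : Fintype S := Fintype.ofFinite S
  have hfib : ∀ N : S, Nat.card {q // f q = N} = p - 1 := by
    intro N
    have hle : (commutator G) ≤ N.1 := hcomm N.1 N.2.1 N.2.2
    have hker : π.ker = commutator G := QuotientGroup.ker_mk' _
    have hMcard : Nat.card (N.1.map π) = p := by
      have h1 := index_map_eq N.1 hπs (hker.le.trans hle)
      rw [N.2.2] at h1
      have h2 := card_mul_index (N.1.map π)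
      rw [h1, hV, sq] at h2
      exact Nat.eq_of_mul_eq_mul_right hp.out.pos h2
    have hcm : (N.1.map π).comap π = N.1 := comap_map_eq_self (hker.le.trans hle)
    have hiff : ∀ q, f q = N ↔ (q : G ⧸ commutator G) ∈ N.1.map π := by
      intro q
      constructor
      · intro h
        rw [← h]
        show (q : G ⧸ commutator G) ∈ ((zpowers (q : G ⧸ commutator G)).comap π).map π
        rw [map_comap_eq_self_of_surjective hπs]
        exact mem_zpowers _
      · intro h
        refine Subtype.ext ?_
        show (zpowers (q : G ⧸ commutator G)).comap π = N.1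
        rw [eq_of_le_of_card_ge (zpowers_le.2 h) (by rw [hord q q.2, hMcard]), hcm]
    let e : {q // f q = N} ≃ {u : N.1.map π // u ≠ 1} :=
      { toFun := fun q => ⟨⟨q.1.1, (hiff q.1).1 q.2⟩, fun h => q.1.2 (congrArg Subtype.val h)⟩
        invFun := fun u => ⟨⟨u.1.1, fun h => u.2 (Subtype.ext h)⟩, (hiff _).2 u.1.2⟩
        left_inv := fun _ => rfl
        right_inv := fun _ => rfl }
    haveI : Fintype (N.1.map π) := Fintype.ofFinite _
    rw [Nat.card_congr e, Nat.card_eq_fintype_card, Fintype.card_subtype_compl, Fintype.card_subtype_eq,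
      ← Nat.card_eq_fintype_card, hMcard]
  have hsum : Nat.card {q : G ⧸ commutator G // q ≠ 1} = Nat.card S * (p - 1) := by
    rw [← Nat.card_congr (Equiv.sigmaFiberEquiv f), Nat.card_sigma, Finset.sum_congr rfl (fun N _ => hfib N),
      Finset.sum_const, Finset.card_univ, smul_eq_mul, Nat.card_eq_fintype_card]
  haveI : Fintype (G ⧸ commutator G) := Fintype.ofFinite _
  rw [Nat.card_eq_fintype_card, Fintype.card_subtype_compl, Fintype.card_subtype_eq, ← Nat.card_eq_fintype_card, hV] at hsum
  obtain ⟨k, hk⟩ : ∃ k, p = k + 2 := ⟨p - 2, by have := hp.out.two_le; omega⟩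
  subst hk
  have h3 : (k + 2) ^ 2 - 1 = (k + 3) * (k + 1) := by
    rw [Nat.sub_eq_iff_eq_add (Nat.one_le_pow _ _ (by omega))]; ring
  rw [h3, show k + 2 - 1 = k + 1 by omega] at hsum
  exact (Nat.eq_of_mul_eq_mul_right (by omega) hsum).symm

/-- In a p-group of maximal class of order at least p³ the normal subgroups of index at least p² are exactly the terms of the lower central series, and there are exactly p + 1 normal subgroups of index p. -/
theorem result {G : Type*} [Group G] [Finite G] {p : ℕ} [Fact p.Prime] (n : ℕ) (hG : Nat.card G = p ^ n) (hcl : Group.nilpotencyClass G = n - 1) (hn : 3 ≤ n) : (∀ (N : Subgroup G) [N.Normal] (r : ℕ), 2 ≤ r → N.index = p ^ r → N = (⊤ : Subgroup G).lowerCentralSeries (r - 1)) ∧ Nat.card {N : Subgroup G // N.Normal ∧ N.index = p} = p + 1 := by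
  have hp := (Fact.out : p.Prime)
  have hGp : IsPGroup p G := IsPGroup.of_card hG
  haveI := hGp.isNilpotent
  have hne : (⊤ : Subgroup G).lowerCentralSeries (n - 2) ≠ ⊥ := fun h => by
    have := _root_.lowerCentralSeries_eq_bot_iff_nilpotencyClass_le.1 h
    omega
  have hlow := fun i hi => card_bounds hGp (n - 2) hne i hi
  have hup : Nat.card (commutator G) ≤ p ^ (n - 2) := by
    obtain ⟨e, he⟩ := IsPGroup.iff_card.1 (hGp.to_subgroup (commutator G))
    rw [he]
    refine Nat.pow_le_pow_right hp.pos ?_
    have h2 := (commutator G).card_eq_card_quotient_mul_card_subgroup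
    obtain ⟨f, hf⟩ := IsPGroup.iff_card.1 (hGp.to_quotient (commutator G))
    rw [hG, he, hf, ← pow_add] at h2
    have h3 := Nat.pow_right_injective hp.two_le h2
    by_contra hlt
    have hcyc : IsCyclic (G ⧸ commutator G) := by
      rcases Nat.eq_zero_or_pos f with rfl | hf0
      · haveI := (Nat.card_eq_one_iff_unique.1 (by simpa using hf)).1
        exact isCyclic_of_subsingleton
      · exact isCyclic_of_prime_card (p := p) (by rw [hf, show f = 1 by omega, pow_one])
    refine hne (eq_bot_iff.2 ?_)
    rw [← commutator_bot_of_cyclic hcyc, ← Subgroup.top_lowerCentralSeries_one]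
    exact (⊤ : Subgroup G).lowerCentralSeries_antitone (by omega)
  have hcardlcs : ∀ i, 1 ≤ i → i ≤ n - 2 →
      Nat.card ((⊤ : Subgroup G).lowerCentralSeries i) = p ^ (n - 1 - i) := by
    intro i
    induction i with
    | zero => omega
    | succ i ih =>
      intro _ hi
      refine le_antisymm ?_ (le_trans (le_of_eq (by congr 1; omega)) (hlow (i + 1) hi))
      rcases Nat.eq_zero_or_pos i with rfl | hi0
      · show Nat.card ((⊤ : Subgroup G).lowerCentralSeries 1) ≤ _
        rw [Subgroup.top_lowerCentralSeries_one]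
        exact hup.trans (le_of_eq (by congr 1))
      · have h1 := ih hi0 (by omega)
        have hlt : (⊤ : Subgroup G).lowerCentralSeries (i + 1) < (⊤ : Subgroup G).lowerCentralSeries i := by
          rw [Subgroup.lowerCentralSeries_succ]
          refine Cfsg.Agent.Basics.commutator_top_lt_of_isNilpotent fun h => ?_
          rw [h, Subgroup.card_bot] at h1
          exact (Nat.one_lt_pow (by omega) hp.one_lt).ne h1
        have h2 := Cfsg.Agent.Basics.card_lt_of_lt hlt
        obtain ⟨e, he⟩ := IsPGroup.iff_card.1 (hGp.to_subgroup ((⊤ : Subgroup G).lowerCentralSeries (i + 1)))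
        rw [he] at h2 ⊢
        rw [h1, Nat.pow_lt_pow_iff_right hp.one_lt] at h2
        exact Nat.pow_le_pow_right hp.pos (by omega)
  refine ⟨?_, ?_⟩
  · intro N hN r hr hNi
    have hle : (⊤ : Subgroup G).lowerCentralSeries (r - 1) ≤ N := by
      have h := lcs_quot hr (show Nat.card (G ⧸ N) = p ^ r from hNi)
      intro x hx
      rw [← QuotientGroup.eq_one_iff, ← Subgroup.mem_bot, ← h]
      have := Subgroup.mem_map_of_mem (QuotientGroup.mk' N) hx
      rw [Subgroup.map_lowerCentralSeries, ← MonoidHom.range_eq_map, QuotientGroup.range_mk'] at this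
      exact this
    have h1 := N.card_mul_index
    rw [hNi, hG] at h1
    have hrn : r ≤ n := (Nat.pow_dvd_pow_iff_le_right hp.one_lt).1 (Dvd.intro_left _ h1)
    have hNc : Nat.card N = p ^ (n - r) := by
      refine Nat.eq_of_mul_eq_mul_right (pow_pos hp.pos r) ?_
      rw [h1, ← pow_add]; congr 1; omega
    rcases Nat.lt_or_ge r n with hlt | hge
    · refine (Subgroup.eq_of_le_of_card_ge hle ?_).symm
      rw [hNc, hcardlcs (r - 1) (by omega) (by omega)]
      exact Nat.pow_le_pow_right hp.pos (by omega)
    · have : N = ⊥ := Subgroup.eq_bot_of_card_eq _ (by rw [hNc, show n - r = 0 by omega, pow_zero])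
      rw [this] at hle ⊢
      exact (le_bot_iff.1 hle).symm
  · have hc1 := hcardlcs 1 le_rfl (by omega)
    rw [Subgroup.top_lowerCentralSeries_one] at hc1
    have hV : Nat.card (G ⧸ commutator G) = p ^ 2 := by
      have h2 := (commutator G).card_eq_card_quotient_mul_card_subgroup
      rw [hG, hc1] at h2
      refine (Nat.eq_of_mul_eq_mul_right (pow_pos hp.pos (n - 1 - 1)) ?_).symm
      rw [← h2, ← pow_add]; congr 1; omega
    refine count hV fun g => ?_
    by_contra hg
    -- then the quotient is cyclic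
    have hcyc : IsCyclic (G ⧸ commutator G) := by
      refine isCyclic_of_orderOf_eq_card (QuotientGroup.mk g) ?_
      have hd : orderOf (QuotientGroup.mk g : G ⧸ commutator G) ∣ p ^ 2 := hV ▸ orderOf_dvd_natCard _
      obtain ⟨i, hi, he⟩ := (Nat.dvd_prime_pow hp).1 hd
      have hnd : ¬ orderOf (QuotientGroup.mk g : G ⧸ commutator G) ∣ p := fun h => hg
        ((QuotientGroup.eq_one_iff _).1 (orderOf_dvd_iff_pow_eq_one.1 h))
      rw [hV, he, show i = 2 by
        rcases Nat.lt_or_ge i 2 with h | h
        · exact absurd (he ▸ (pow_dvd_pow p (show i ≤ 1 by omega)).trans (pow_one p).dvd) hnd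
        · omega]
    rw [commutator_bot_of_cyclic hcyc, Subgroup.card_bot] at hc1
    exact (Nat.one_lt_pow (by omega) hp.one_lt).ne hc1

end Cfsg.Agent.S0662
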