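import Cfsg.Statements.S0071
import Cfsg.Agent.Lib.Transfer.Fusion

set_option autoImplicit false
open Cfsg

namespace Cfsg.Agent.S0071

open Subgroup Cfsg.Agent.Transfer
open scoped commutatorElement Pointwise


/-- The Frobenius normal p-complement Theorem states that a Sylow p-subgroup has a normal complement exactly when, for each of its subgroups Q, every element of the normalizer of Q of order prime to p centralizes Q. -/
theorem result {G : Type*} [Group G] [Finite G] {p : ℕ} [Fact p.Prime] (P : Sylow p G) : (∃ N : Subgroup G, N.Normal ∧ N.IsComplement' (P : Subgroup G)) ↔ ∀ Q : Subgroup G, Q ≤ (P : Subgroup G) → ∀ g ∈ Subgroup.normalizer (Q : Set G), Nat.Coprime (orderOf g) p → g ∈ Subgroup.centralizer (Q : Set G) := by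
  constructor
  · intro h Q hQ g hg ho
    exact centralizes_of_hasNormalPComplement ((hasNormalPComplement_of_sylow P).mpr h) Q (P.2.to_le hQ) g hg ho
  · intro h
    refine (hasNormalPComplement_of_sylow P).mp (hasNormalPComplement_of_frobenius ?_)
    intro D hD g hg ho
    obtain ⟨R, hR⟩ := hD.exists_le_sylow
    obtain ⟨t, ht⟩ := MulAction.exists_smul_eq G R P
    let c : G ≃* G := MulAut.conj t
    have hDP : D.map c.toMonoidHom ≤ (P : Subgroup G) := by
      rw [← ht]; exact map_mono hR
    have h1 : c g ∈ centralizer ((D.map c.toMonoidHom : Subgroup G) : Set G) := by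
      refine h _ hDP _ ?_ ?_
      · exact le_normalizer_map c.toMonoidHom ⟨g, hg, rfl⟩
      · rwa [orderOf_injective c.toMonoidHom c.injective g |>.trans rfl |> fun e => (e : orderOf (c g) = orderOf g)]
    intro x hx
    apply c.injective
    rw [map_mul, map_mul]
    exact h1 _ ⟨x, hx, rfl⟩

end Cfsg.Agent.S0071
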