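import Cfsg.Statements.S0671
import Cfsg.Agent.Lib.PermGp.PermModule

set_option autoImplicit false
open Cfsg

namespace Cfsg.Agent.S0671

/-- If the heart of the permutation module in characteristic `p` of a transitive action of degree `p ^ f` has no trivial composition factor, the action is doubly transitive. The hypothesis is phrased without composition series: no invariant subspaces `W < W'` between the constants and the sum-zero functions with trivial action on the quotient. -/
theorem result {G : Type*} [Group G] [Finite G] {K : Type*} [Field K] {p f : ℕ} [Fact p.Prime] [CharP K p] {Ω : Type*} [Fintype Ω] [MulAction G Ω] [MulAction.IsPretransitive G Ω] (hf : 1 ≤ f) (hcard : Fintype.card Ω = p ^ f) (h : ∀ W W' : Subrepresentation (Cfsg.permRep K G Ω), (Cfsg.permConstants K G Ω).toSubmodule ≤ W.toSubmodule → W.toSubmodule < W'.toSubmodule → W'.toSubmodule ≤ (Cfsg.permSumZero K G Ω).toSubmodule → ∃ g : G, ∃ v ∈ W'.toSubmodule, Cfsg.permRep K G Ω g v - v ∉ W.toSubmodule) : MulAction.IsMultiplyPretransitive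 G Ω 2 := by
  classical
  have hne : Nonempty Ω := Fintype.card_pos_iff.mp (hcard ▸ pow_pos (Nat.Prime.pos Fact.out) f)
  refine MulAction.is_two_pretransitive_iff.mpr ?_
  by_contra hcon
  push Not at hcon
  obtain ⟨a₀, b₀, c₀, d₀, hab₀, hcd₀, hno⟩ := hcon
  -- a suborbit of the base point other than the point and the whole complement
  obtain ⟨g₁, hg₁⟩ := MulAction.exists_smul_eq G a₀ c₀
  obtain ⟨a, b, d, hba, hda, hnd⟩ : ∃ a b d : Ω, b ≠ a ∧ d ≠ a ∧ ∀ g : G, g • a = a → g • b ≠ d :=
    ⟨c₀, g₁ • b₀, d₀, fun e => hab₀ (MulAction.injective g₁ (hg₁.trans e.symm)), hcd₀.symm,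
      fun g h1 h2 => hno (g * g₁) (by rw [mul_smul, hg₁, h1]) (by rw [mul_smul, h2])⟩
  let R : Ω → Ω → Prop := fun x y => ∃ g : G, g • a = x ∧ g • b = y
  have hRmap : ∀ (g : G) (x y : Ω), R x y → R (g • x) (g • y) := by
    rintro g x y ⟨k, rfl, rfl⟩
    exact ⟨g * k, mul_smul _ _ _, mul_smul _ _ _⟩
  have hRiff : ∀ (g : G) (x y : Ω), R (g • x) y ↔ R x (g⁻¹ • y) := by
    intro g x y
    constructor
    · intro h; simpa using hRmap g⁻¹ _ _ h
    · intro h; simpa using hRmap g _ _ h
  let deg : K := ∑ y : Ω, if R a y then (1 : K) else 0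
  let v : Ω → Ω → K := fun x y => (if R x y then (1 : K) else 0) - deg * (if y = x then 1 else 0)
  let T : (Ω → K) →ₗ[K] (Ω → K) :=
    ∑ x : Ω, (LinearMap.proj x).smulRight (v x)
  have hTapp : ∀ (w : Ω → K) (y : Ω), T w y = ∑ x : Ω, w x * v x y := by
    intro w y; simp [T, Finset.sum_apply]
  have hveq : ∀ (g : G) (x y : Ω), v (g • x) y = v x (g⁻¹ • y) := by
    intro g x y
    show (if R (g • x) y then (1 : K) else 0) - deg * (if y = g • x then 1 else 0) = _
    rw [if_congr (hRiff g x y) rfl rfl, if_congr (show y = g • x ↔ g⁻¹ • y = x from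
      (inv_smul_eq_iff).symm) rfl rfl]
  have hTeq : ∀ (g : G) (w : Ω → K), T (Cfsg.permRep K G Ω g w) = Cfsg.permRep K G Ω g (T w) := by
    intro g w
    funext y
    rw [PermGp.permRep_apply, hTapp, hTapp]
    refine Fintype.sum_equiv (MulAction.toPerm g⁻¹) _ _ fun x => ?_
    rw [PermGp.permRep_apply, MulAction.toPerm_apply]
    have := hveq g (g⁻¹ • x) y
    rw [smul_inv_smul] at this
    rw [this]
  set C := (Cfsg.permConstants K G Ω).toSubmodule
  set U := (Cfsg.permSumZero K G Ω).toSubmodule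
  have hCU : C ≤ U := PermGp.constants_le_sumZero hf hcard
  have hCinv : ∀ g : G, ∀ u ∈ C, Cfsg.permRep K G Ω g u ∈ C := fun g u hu =>
    (Cfsg.permConstants K G Ω).apply_mem_toSubmodule g hu
  have hUinv : ∀ g : G, ∀ u ∈ U, Cfsg.permRep K G Ω g u ∈ U := fun g u hu =>
    (Cfsg.permSumZero K G Ω).apply_mem_toSubmodule g hu
  have hTU : ∀ w, T w ∈ U := by
    intro w
    rw [PermGp.mem_permSumZero]
    simp only [hTapp]
    rw [Finset.sum_comm]
    refine Finset.sum_eq_zero fun x _ => ?_
    rw [← Finset.mul_sum]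
    obtain ⟨g, rfl⟩ := MulAction.exists_smul_eq G a x
    have : ∑ y : Ω, v (g • a) y = ∑ y : Ω, v a y :=
      Fintype.sum_equiv (MulAction.toPerm g⁻¹) _ _ fun y => hveq g a y
    rw [this]
    simp [v, deg]
  have hTa : ∀ y, T (Pi.single a 1) y = v a y := by
    intro y
    rw [hTapp, Finset.sum_eq_single a]
    · simp
    · intro x _ hx; simp [Pi.single_eq_of_ne hx]
    · simp
  have hvC : T (Pi.single a 1) ∉ C := by
    intro hC
    obtain ⟨c, hc⟩ := PermGp.mem_permConstants.mp hC
    have h1 := hc b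
    have h2 := hc d
    rw [hTa] at h1 h2
    have hb' : R a b := ⟨1, one_smul G a, one_smul G b⟩
    have hd' : ¬ R a d := fun ⟨g, g1, g2⟩ => hnd g g1 g2
    simp only [v, if_pos hb', if_neg hd', if_neg hba, if_neg hda, mul_zero, sub_zero] at h1 h2
    exact one_ne_zero (h1.trans h2.symm)
  have hker : Submodule.comap T C ≤ U := by
    refine PermGp.le_sumZero hcard _ (fun g w hw => ?_) ?_
    · show T (Cfsg.permRep K G Ω g w) ∈ C
      rw [hTeq]; exact hCinv g _ hw
    · intro htop
      exact hvC (show Pi.single a 1 ∈ Submodule.comap T C by rw [htop]; trivial)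
  let W' : Subrepresentation (Cfsg.permRep K G Ω) :=
    { toSubmodule := LinearMap.range T ⊔ C
      apply_mem_toSubmodule := fun g u hu => by
        obtain ⟨x, ⟨w, rfl⟩, z, hz, rfl⟩ := Submodule.mem_sup.mp hu
        rw [map_add, ← hTeq]
        exact Submodule.add_mem_sup ⟨_, rfl⟩ (hCinv g z hz) }
  let W : Subrepresentation (Cfsg.permRep K G Ω) :=
    { toSubmodule := Submodule.map T U ⊔ C
      apply_mem_toSubmodule := fun g u hu => by
        obtain ⟨x, ⟨w, hw, rfl⟩, z, hz, rfl⟩ := Submodule.mem_sup.mp hu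
        rw [map_add, ← hTeq]
        exact Submodule.add_mem_sup ⟨_, hUinv g w hw, rfl⟩ (hCinv g z hz) }
  have hlt : W.toSubmodule < W'.toSubmodule := by
    refine lt_of_le_of_ne (sup_le_sup_right (LinearMap.map_le_range) _) ?_
    intro heq
    have hmem : T (Pi.single a 1) ∈ Submodule.map T U ⊔ C := by
      change T (Pi.single a 1) ∈ W.toSubmodule
      rw [heq]
      exact Submodule.mem_sup_left ⟨_, rfl⟩
    obtain ⟨x, ⟨u, hu, rfl⟩, z, hz, hxz⟩ := Submodule.mem_sup.mp hmem
    have h1 : Pi.single a 1 - u ∈ Submodule.comap T C := by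
      show T (Pi.single a 1 - u) ∈ C
      rw [map_sub, ← hxz, add_sub_cancel_left]
      exact hz
    have h2 : Pi.single a 1 ∈ U := by
      have := U.add_mem (hker h1) hu
      rwa [sub_add_cancel] at this
    rw [PermGp.mem_permSumZero] at h2
    simp at h2
  obtain ⟨g, u, hu, hgu⟩ := h W W' le_sup_right hlt
    (sup_le (by rintro _ ⟨w, rfl⟩; exact hTU w) hCU)
  apply hgu
  obtain ⟨x, ⟨w, rfl⟩, z, hz, rfl⟩ := Submodule.mem_sup.mp hu
  rw [map_add, ← hTeq, add_sub_add_comm, ← map_sub]
  refine Submodule.add_mem_sup ⟨_, ?_, rfl⟩ (C.sub_mem (hCinv g z hz) hz)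
  show ∑ x, (Cfsg.permRep K G Ω g w - w) x = 0
  simp only [Pi.sub_apply, Finset.sum_sub_distrib, PermGp.permRep_apply]
  rw [sub_eq_zero]
  exact Fintype.sum_equiv (MulAction.toPerm g⁻¹) _ _ fun x => rfl

end Cfsg.Agent.S0671
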