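import Cfsg.Statements.S4037
import Mathlib
import Cfsg.Agent.Lib.FGS.Kazarin
import Cfsg.Agent.Lib.Basics.Cores
import Cfsg.Agent.Lib.FGB.PRegularClasses

set_option autoImplicit false
open Cfsg
open scoped Pointwise
set_option linter.all false

namespace Cfsg.Agent.S4037

/-- If an element x of a finite group G has a conjugacy class of prime-power size, then the normal closure of x in G (the subgroup generated by the conjugacy class of x) is solvable. -/
theorem result {G : Type*} [Group G] [Finite G]
    (x : G) {p : ℕ} (hp : p.Prime) (k : ℕ) (hx : (ConjClasses.mk x).carrier.ncard = p ^ k) :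
    Group.IsSolvable ↥(Subgroup.normalClosure ({x} : Set G)) := by
  haveI := Fact.mk hp
  rw [FGB.ncard_carrier_eq_index_centralizer] at hx
  set π := QuotientGroup.mk' (Cfsg.pCore p G) with hπ
  have hO : Cfsg.pCore p (G ⧸ Cfsg.pCore p G) = ⊥ := Basics.pCore_quotient_eq_bot p
  have hle : (Subgroup.centralizer ({x} : Set G)).map π ≤
      Subgroup.centralizer ({π x} : Set _) := by
    rintro _ ⟨g, hg, rfl⟩
    rw [Subgroup.mem_centralizer_singleton_iff, ← map_mul, ← map_mul,
      Subgroup.mem_centralizer_singleton_iff.1 hg]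
  have h2 := (Subgroup.index_dvd_of_le hle).trans
    (Subgroup.index_map_dvd _ (QuotientGroup.mk'_surjective _))
  rw [hx] at h2
  obtain ⟨b, -, hb⟩ := (Nat.dvd_prime_pow hp).1 h2
  have hF : π x ∈ Cfsg.fittingSubgroup (G ⧸ Cfsg.pCore p G) :=
    FGS.Kazarin.mem_fitting _ _ rfl p hO _ ⟨b, hb⟩
  set X := (Cfsg.fittingSubgroup (G ⧸ Cfsg.pCore p G)).comap π with hX
  have hN : Subgroup.normalClosure ({x} : Set G) ≤ X :=
    Subgroup.normalClosure_le_normal (Set.singleton_subset_iff.2 hF)
  let f : X →* Cfsg.fittingSubgroup (G ⧸ Cfsg.pCore p G) :=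
    (π.comp X.subtype).codRestrict _ fun z => z.2
  have hker : f.ker = (Cfsg.pCore p G).subgroupOf X := by
    ext z
    rw [MonoidHom.mem_ker, Subgroup.mem_subgroupOf, Subtype.ext_iff]
    exact QuotientGroup.eq_one_iff (z : G)
  haveI := (Basics.pCore_isPGroup (G := G) p).isNilpotent
  haveI : Group.IsNilpotent ((Cfsg.pCore p G).subgroupOf X) :=
    Subgroup.isNilpotent_of_ker_le_center
      ((X.subtype.comp ((Cfsg.pCore p G).subgroupOf X).subtype).codRestrict (Cfsg.pCore p G)
        fun z => z.2) (fun z hz => by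
          have h1 : ((z : X) : G) = 1 := congrArg Subtype.val hz
          rw [show z = 1 from Subtype.ext (Subtype.ext h1)]
          exact one_mem _)
  haveI : Group.IsSolvable (Cfsg.fittingSubgroup (G ⧸ Cfsg.pCore p G)) := inferInstance
  haveI : Group.IsSolvable X :=
    Group.isSolvable_of_ker_le_range ((Cfsg.pCore p G).subgroupOf X).subtype f
      (by rw [hker, Subgroup.range_subtype])
  exact Group.isSolvable_of_isSolvable_injective (Subgroup.inclusion_injective hN)

end Cfsg.Agent.S4037
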