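import Cfsg.Statements.S4071
import Mathlib
-- import your own Cfsg.Agent.* helpers here

set_option autoImplicit false
open Cfsg
open scoped Pointwise commutatorElement

namespace Cfsg.Agent.S4071

open Subgroup

variable {G : Type*} [Group G] [Finite G]

theorem backward (x : G) (A : Subgroup G) [hAn : A.Normal] [hAc : IsMulCommutative A] (p : ℕ) (hp : p.Prime)
    {k : ℕ} (hk : orderOf x = p ^ k)
    (hcompl : (zpowers x).IsComplement' A) (hxp : x ^ p ∈ center G)
    (hfix : ∀ a ∈ A, x * a * x⁻¹ = a → a = 1) (H : Subgroup G) (hH : ¬ IsMulCommutative H) :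
    normalizer (H : Set G) = H := by
  have hac : ∀ a ∈ A, ∀ b ∈ A, a * b = b * a := fun a ha b hb =>
    congrArg Subtype.val (hAc.is_comm.comm ⟨a, ha⟩ ⟨b, hb⟩)
  have hdec : ∀ g : G, ∃ i : ℕ, ∃ a ∈ A, g = x ^ i * a := by
    intro g
    obtain ⟨⟨u, a⟩, hua⟩ := hcompl.2 g
    obtain ⟨i, hi⟩ := (Submonoid.mem_powers_iff _ _).mp ((mem_powers_iff_mem_zpowers).mpr u.2)
    exact ⟨i, a, a.2, by rw [hi]; exact hua.symm⟩
  have hcent : ∀ j : ℕ, ∀ g : G, Commute (x ^ (p * j)) g := fun j g => by
    rw [pow_mul]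
    have hc : Commute (x ^ p) g := (mem_center_iff.mp hxp g).symm
    exact hc.pow_left j
  -- H contains some x * a
  obtain ⟨i, a, ha, hia, hi⟩ : ∃ i : ℕ, ∃ a ∈ A, x ^ i * a ∈ H ∧ ¬ p ∣ i := by
    by_contra hc
    push_neg at hc
    apply hH
    refine ⟨⟨fun u v => Subtype.ext ?_⟩⟩
    obtain ⟨i, a, ha, hu⟩ := hdec (u : G)
    obtain ⟨j, b, hb, hv⟩ := hdec (v : G)
    obtain ⟨i', rfl⟩ := hc i a ha (hu ▸ u.2)
    obtain ⟨j', rfl⟩ := hc j b hb (hv ▸ v.2)
    show (u : G) * v = v * u
    rw [hu, hv]
    have h1 : Commute (x ^ (p * i') * a) (x ^ (p * j')) := (hcent j' _).symm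
    exact h1.mul_right ((hcent i' b).mul_left (hac a ha b hb))
  obtain ⟨a', ha', hxa⟩ : ∃ a' ∈ A, x * a' ∈ H := by
    have hcop : Nat.Coprime i (orderOf x) := by
      rw [hk]; exact Nat.Coprime.pow_right _ ((hp.coprime_iff_not_dvd).mpr hi).symm
    obtain ⟨m, hm⟩ := exists_pow_eq_self_of_coprime hcop
    refine ⟨x⁻¹ * (x ^ i * a) ^ m, ?_, by rw [mul_inv_cancel_left]; exact H.pow_mem hia m⟩
    rw [← QuotientGroup.eq_one_iff, QuotientGroup.mk_mul, QuotientGroup.mk_pow, QuotientGroup.mk_mul,
      (QuotientGroup.eq_one_iff a).mpr ha, mul_one, ← QuotientGroup.mk_pow, hm, QuotientGroup.mk_inv,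
      inv_mul_cancel]
  set y := x * a'
  have hconj : ∀ b ∈ A, y * b * y⁻¹ = x * b * x⁻¹ := by
    intro b hb
    show x * a' * b * (x * a')⁻¹ = _
    rw [mul_assoc x a' b, hac a' ha' b hb]; group
  refine le_antisymm ?_ le_normalizer
  intro n hn
  obtain ⟨j, b, hb, hnb⟩ := hdec (n : G)
  -- write n = y ^ j * b'
  set b' := (y ^ j)⁻¹ * n with hb'
  have hb'A : b' ∈ A := by
    have h1 : (QuotientGroup.mk y : G ⧸ A) = QuotientGroup.mk x := by
      show (QuotientGroup.mk (x * a') : G ⧸ A) = _
      rw [QuotientGroup.mk_mul, (QuotientGroup.eq_one_iff a').mpr ha', mul_one]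
    rw [← QuotientGroup.eq_one_iff, hb', hnb, QuotientGroup.mk_mul, QuotientGroup.mk_inv, QuotientGroup.mk_pow, h1,
      QuotientGroup.mk_mul, QuotientGroup.mk_pow, (QuotientGroup.eq_one_iff b).mpr hb, mul_one, inv_mul_cancel]
  have hb'N : b' ∈ normalizer (H : Set G) :=
    mul_mem (inv_mem (pow_mem (le_normalizer hxa) j)) hn
  -- the commutator map
  have hf : y * b' * y⁻¹ * b'⁻¹ ∈ H ⊓ A := by
    refine ⟨?_, A.mul_mem (hAn.conj_mem b' hb'A y) (A.inv_mem hb'A)⟩
    have := (mem_normalizer_iff.mp hb'N y⁻¹).mp (H.inv_mem hxa)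
    rw [show y * b' * y⁻¹ * b'⁻¹ = y * (b' * y⁻¹ * b'⁻¹) by group]
    exact H.mul_mem hxa this
  let f : (H ⊓ A : Subgroup G) → (H ⊓ A : Subgroup G) := fun b => ⟨y * b * y⁻¹ * (b : G)⁻¹,
    ⟨H.mul_mem (H.mul_mem (H.mul_mem hxa b.2.1) (H.inv_mem hxa)) (H.inv_mem b.2.1),
     A.mul_mem (hAn.conj_mem b b.2.2 y) (A.inv_mem b.2.2)⟩⟩
  have hinj0 : ∀ u ∈ A, ∀ v ∈ A, y * u * y⁻¹ * u⁻¹ = y * v * y⁻¹ * v⁻¹ → u = v := by
    intro u hu v hv huv
    rw [hconj u hu, hconj v hv] at huv
    refine mul_inv_eq_one.mp (hfix _ (A.mul_mem hu (A.inv_mem hv)) ?_)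
    have h1 : x * u * x⁻¹ = x * v * x⁻¹ * v⁻¹ * u := by rw [← huv]; group
    calc x * (u * v⁻¹) * x⁻¹ = (x * u * x⁻¹) * (x * v * x⁻¹)⁻¹ := by group
      _ = (x * v * x⁻¹) * (v⁻¹ * u) * (x * v * x⁻¹)⁻¹ := by rw [h1]; group
      _ = (v⁻¹ * u) := by
        rw [hac _ (hAn.conj_mem v hv x) _ (A.mul_mem (A.inv_mem hv) hu)]; group
      _ = u * v⁻¹ := hac _ (A.inv_mem hv) _ hu
  have hsur : Function.Surjective f := Finite.injective_iff_surjective.mp fun u v huv =>
    Subtype.ext (hinj0 u u.2.2 v v.2.2 (congrArg Subtype.val huv))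
  obtain ⟨u, hu⟩ := hsur ⟨_, hf⟩
  have := hinj0 u u.2.2 b' hb'A (congrArg Subtype.val hu)
  have hb'H : b' ∈ H := this ▸ u.2.1
  rw [show n = y ^ j * b' by rw [hb']; group]
  exact H.mul_mem (H.pow_mem hxa j) hb'H

theorem forward [Group.IsSolvable G] (hnn : ¬ Group.IsNilpotent G)
    (h : ∀ H : Subgroup G, ¬ IsMulCommutative H → normalizer (H : Set G) = H) :
    ∃ (x : G) (A : Subgroup G) (p : ℕ), p.Prime ∧ A.Normal ∧ IsMulCommutative A ∧ (∃ k : ℕ, orderOf x = p ^ k) ∧
      ¬ p ∣ Nat.card A ∧ (zpowers x).IsComplement' A ∧ x ^ p ∈ center G ∧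
      ∀ a : G, a ∈ A → a ≠ 1 → x * a * x⁻¹ ≠ a := by
  have hab : ∀ N : Subgroup G, N.Normal → N ≠ ⊤ → IsMulCommutative N := by
    intro N hN hne
    by_contra hc
    haveI := hN
    exact hne (((h N hc).symm.trans (normalizer_eq_top (H := N))))
  have hnt : Nontrivial G := by
    rcases subsingleton_or_nontrivial G with hG | hG
    · haveI := hG
      exact absurd (IsPGroup.isNilpotent (p := 2) (IsPGroup.of_card (n := 0) (by rw [pow_zero]; exact Nat.card_of_subsingleton 1))) hnn
    · exact hG
  obtain ⟨M, hM, hGM⟩ := (eq_top_or_exists_le_coatom (commutator G)).resolve_left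
    (ne_of_lt (Group.IsSolvable.commutator_lt_top_of_nontrivial G))
  have hnorm : ∀ K : Subgroup G, commutator G ≤ K → K.Normal := fun K hK => ⟨fun n hn g => by
    have := hK (commutator_mem_commutator (mem_top g) (mem_top n))
    have h2 := K.mul_mem this hn
    simpa [commutatorElement_def, mul_assoc] using h2⟩
  haveI hMn : M.Normal := hnorm M hGM
  haveI hMc : IsMulCommutative M := hab M hMn hM.1
  have hmc : ∀ a ∈ M, ∀ b ∈ M, a * b = b * a := fun a ha b hb =>
    congrArg Subtype.val (hMc.is_comm.comm ⟨a, ha⟩ ⟨b, hb⟩)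
  -- uniqueness of M
  have huniq : ∀ K : Subgroup G, IsCoatom K → commutator G ≤ K → K = M := by
    intro K hK hGK
    by_contra hne
    have hsup : K ⊔ M = ⊤ := hK.2 _ (lt_of_le_of_ne le_sup_left fun he => hne
      ((hM.le_iff_eq hK.1).mp (he ▸ le_sup_right)))
    haveI hKc : IsMulCommutative K := hab K (hnorm K hGK) hK.1
    have hZ : K ⊓ M ≤ center G := by
      rintro z ⟨hzK, hzM⟩
      rw [mem_center_iff]
      intro g
      have : g ∈ centralizer ({z} : Set G) := by
        have h1 : K ⊔ M ≤ centralizer ({z} : Set G) := sup_le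
          (fun u hu => mem_centralizer_singleton_iff.mpr (congrArg Subtype.val (hKc.is_comm.comm ⟨u, hu⟩ ⟨z, hzK⟩)))
          (fun u hu => mem_centralizer_singleton_iff.mpr (hmc u hu z hzM))
        exact h1 (hsup ▸ mem_top g)
      exact mem_centralizer_singleton_iff.mp this
    apply hnn
    haveI : Group.IsNilpotent (G ⧸ center G) := by
      letI : CommGroup (G ⧸ center G) := { (inferInstance : Group (G ⧸ center G)) with
        mul_comm := fun a b => by
          induction a using QuotientGroup.induction_on with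
          | _ u =>
            induction b using QuotientGroup.induction_on with
            | _ v =>
              rw [← QuotientGroup.mk_mul, ← QuotientGroup.mk_mul, QuotientGroup.eq]
              have hc := commutator_mem_commutator (mem_top v⁻¹) (mem_top u⁻¹)
              have := hZ ⟨hGK hc, hGM hc⟩
              simpa [commutatorElement_def, mul_assoc] using this }
      infer_instance
    exact Group.of_quotient_center_nilpotent inferInstance
  -- the index of M
  haveI : IsSimpleGroup (G ⧸ M) := by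
    haveI : Nontrivial (G ⧸ M) := QuotientGroup.nontrivial_iff.mpr hM.1
    refine ⟨fun N _ => ?_⟩
    have hle : M ≤ N.comap (QuotientGroup.mk' M) := fun u hu => by
      rw [mem_comap, QuotientGroup.mk'_apply, (QuotientGroup.eq_one_iff u).mpr hu]; exact one_mem N
    rcases hM.le_iff.mp hle with ht | he
    · right
      rw [← map_comap_eq_self_of_surjective (QuotientGroup.mk'_surjective M) N, ht,
        map_top_of_surjective _ (QuotientGroup.mk'_surjective M)]
    · left
      rw [← map_comap_eq_self_of_surjective (QuotientGroup.mk'_surjective M) N, he, QuotientGroup.map_mk'_self]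
  have hqc : ∀ a b : G ⧸ M, a * b = b * a := fun a b => by
    induction a using QuotientGroup.induction_on with
    | _ u =>
      induction b using QuotientGroup.induction_on with
      | _ v =>
        rw [← QuotientGroup.mk_mul, ← QuotientGroup.mk_mul, QuotientGroup.eq]
        simpa [commutatorElement_def, mul_assoc] using hGM (commutator_mem_commutator (mem_top v⁻¹) (mem_top u⁻¹))
  set p := M.index with hpdef
  have hp : p.Prime := by
    letI : CommGroup (G ⧸ M) := { (inferInstance : Group (G ⧸ M)) with mul_comm := hqc }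
    rw [hpdef, index_eq_card]
    exact IsSimpleGroup.prime_card
  haveI := Fact.mk hp
  -- the p'-part of M
  set e := (Nat.card M).factorization p
  set m := Nat.card M / p ^ e with hm
  have hem : p ^ e * m = Nat.card M := Nat.mul_div_cancel' (Nat.ordProj_dvd _ _)
  have hpm : ¬ p ∣ m := Nat.not_dvd_ordCompl hp Nat.card_pos.ne'
  let A : Subgroup G :=
    { carrier := {a | a ∈ M ∧ a ^ m = 1}
      mul_mem' := fun {a b} ha hb => ⟨M.mul_mem ha.1 hb.1, by
        rw [(show Commute a b from hmc a ha.1 b hb.1).mul_pow, ha.2, hb.2, one_mul]⟩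
      one_mem' := ⟨M.one_mem, one_pow _⟩
      inv_mem' := fun {a} ha => ⟨M.inv_mem ha.1, by rw [inv_pow, ha.2, inv_one]⟩ }
  have hAn : A.Normal := ⟨fun a ha g => ⟨hMn.conj_mem a ha.1 g, by rw [conj_pow, ha.2, mul_one, mul_inv_cancel]⟩⟩
  have hAc : IsMulCommutative A := ⟨⟨fun a b => Subtype.ext (hmc a a.2.1 b b.2.1)⟩⟩
  have hpA : ¬ p ∣ Nat.card A := by
    intro hd
    obtain ⟨a, ha⟩ := exists_prime_orderOf_dvd_card' p hd
    apply hpm
    rw [← ha, ← Subgroup.orderOf_coe]
    exact orderOf_dvd_of_pow_eq_one a.2.2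
  have hpow : ∀ g : G, g ^ p ^ (e + 1) ∈ A := by
    intro g
    have hgp : g ^ p ∈ M := M.pow_index_mem g
    rw [pow_succ', pow_mul]
    refine ⟨M.pow_mem hgp _, ?_⟩
    rw [← pow_mul (g ^ p), hem]
    exact congrArg Subtype.val (pow_card_eq_one' (x := (⟨g ^ p, hgp⟩ : M)))
  -- x
  obtain ⟨g, hg⟩ : ∃ g, g ∉ M := by
    by_contra hc; push_neg at hc; exact hM.1 ((eq_top_iff' M).mpr hc)
  set x := g ^ m with hx
  have hxM : x ∉ M := by
    intro hxm
    apply hg
    have hcop : Nat.gcd m p = 1 := ((hp.coprime_iff_not_dvd).mpr hpm).symm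
    have := Nat.gcd_eq_gcd_ab m p
    rw [hcop, Nat.cast_one] at this
    rw [← zpow_one g, this, zpow_add, zpow_mul, zpow_mul, zpow_natCast, zpow_natCast]
    exact M.mul_mem (zpow_mem hxm _) (zpow_mem (M.pow_index_mem g) _)
  obtain ⟨k, -, hk⟩ : ∃ k, k ≤ e + 1 ∧ orderOf x = p ^ k := (Nat.dvd_prime_pow hp).mp (orderOf_dvd_of_pow_eq_one (by
    rw [hx, ← pow_mul, mul_comm, pow_mul]; exact (hpow g).2))
  -- generation
  have hgen : zpowers x ⊔ A = ⊤ := by
    by_contra hne
    haveI := hAn
    have hQp : IsPGroup p (G ⧸ A) := fun u => by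
      induction u using QuotientGroup.induction_on with
      | _ u => exact ⟨e + 1, by rw [← QuotientGroup.mk_pow]; exact (QuotientGroup.eq_one_iff _).mpr (hpow u)⟩
    obtain ⟨K, hK, hle⟩ := (eq_top_or_exists_le_coatom (zpowers x ⊔ A)).resolve_left hne
    have hAK : A ≤ K := le_sup_right.trans hle
    haveI := hQp.isNilpotent
    have hKn : K.Normal := by
      have h1 : IsCoatom (K.map (QuotientGroup.mk' A)) := by
        refine ⟨fun ht => hK.1 ?_, fun L hL => ?_⟩
        · rw [← comap_map_eq_self (f := QuotientGroup.mk' A) (show (QuotientGroup.mk' A).ker ≤ K by rw [QuotientGroup.ker_mk']; exact hAK), ht, comap_top]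
        · have h2 : K < L.comap (QuotientGroup.mk' A) := by
            rw [← comap_map_eq_self (f := QuotientGroup.mk' A) (show (QuotientGroup.mk' A).ker ≤ K by rw [QuotientGroup.ker_mk']; exact hAK)]
            exact (comap_lt_comap_of_surjective (QuotientGroup.mk'_surjective A)).mpr hL
          rw [← map_comap_eq_self_of_surjective (QuotientGroup.mk'_surjective A) L, hK.2 _ h2,
            map_top_of_surjective _ (QuotientGroup.mk'_surjective A)]
      have h3 : (K.map (QuotientGroup.mk' A)).Normal :=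
        NormalizerCondition.normal_of_coatom _ normalizerCondition_of_isNilpotent h1
      have := h3.comap (QuotientGroup.mk' A)
      rwa [comap_map_eq_self (show (QuotientGroup.mk' A).ker ≤ K by rw [QuotientGroup.ker_mk']; exact hAK)] at this
    have hGK : commutator G ≤ K := by
      haveI := hKn
      haveI : IsMulCommutative K := hab K hKn hK.1
      by_contra hnle
      have htop : K ⊔ commutator G = ⊤ := hK.2 _ (left_lt_sup.mpr hnle)
      haveI : Nontrivial (G ⧸ K) := QuotientGroup.nontrivial_iff.mpr hK.1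
      haveI : Group.IsSolvable (G ⧸ K) := solvable_of_surjective (QuotientGroup.mk'_surjective K)
      apply ne_of_lt (Group.IsSolvable.commutator_lt_top_of_nontrivial (G ⧸ K))
      have : (commutator G).map (QuotientGroup.mk' K) = commutator (G ⧸ K) := by
        rw [_root_.commutator_def, map_commutator, map_top_of_surjective _ (QuotientGroup.mk'_surjective K)]; rfl
      rw [← this]
      apply le_antisymm le_top
      rw [← map_top_of_surjective _ (QuotientGroup.mk'_surjective K), ← htop, Subgroup.map_sup,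
        QuotientGroup.map_mk'_self, bot_sup_eq]
    exact hxM ((huniq K hK hGK) ▸ hle (le_sup_left (α := Subgroup G) (mem_zpowers x)))
  have hdis : Disjoint (zpowers x) A := disjoint_iff.mpr (inf_eq_bot_of_coprime (by
    rw [Nat.card_zpowers, hk]; exact Nat.Coprime.pow_left _ ((hp.coprime_iff_not_dvd).mpr hpA)))
  have hcompl : (zpowers x).IsComplement' A :=
    isComplement'_of_disjoint_and_mul_eq_univ hdis (by
      rw [← coe_mul_of_left_le_normalizer_right _ _ (by rw [normalizer_eq_top]; exact le_top), hgen, coe_top])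
  have hxp : x ^ p ∈ center G := by
    have hxpM : x ^ p ∈ M := M.pow_index_mem x
    rw [mem_center_iff]
    intro u
    have : u ∈ centralizer ({x ^ p} : Set G) := by
      have h1 : zpowers x ⊔ A ≤ centralizer ({x ^ p} : Set G) := sup_le
        (zpowers_le.mpr (mem_centralizer_singleton_iff.mpr ((Commute.self_pow x p).eq)))
        (fun u hu => mem_centralizer_singleton_iff.mpr (hmc u hu.1 _ hxpM))
      exact h1 (hgen ▸ mem_top u)
    exact mem_centralizer_singleton_iff.mp this
  refine ⟨x, A, p, hp, hAn, hAc, ⟨k, hk⟩, hpA, hcompl, hxp, fun a ha ha1 hfa => ?_⟩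
  -- the map a ↦ [x, a] is onto A
  haveI := hAn
  let f : A →* A :=
    { toFun := fun a => ⟨x * a * x⁻¹ * (a : G)⁻¹, A.mul_mem (hAn.conj_mem a a.2 x) (A.inv_mem a.2)⟩
      map_one' := Subtype.ext (by simp)
      map_mul' := fun a b => Subtype.ext (by
        show x * ((a : G) * b) * x⁻¹ * ((a : G) * b)⁻¹ = x * a * x⁻¹ * (a : G)⁻¹ * (x * b * x⁻¹ * (b : G)⁻¹)
        have := hmc ((a : G)⁻¹) (M.inv_mem a.2.1) (x * b * x⁻¹ * (b : G)⁻¹)
          (M.mul_mem (hMn.conj_mem _ b.2.1 x) (M.inv_mem b.2.1))
        rw [mul_assoc (x * a * x⁻¹) _ _, this]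
        group) }
  have hsurj : Function.Surjective f := by
    set I := f.range.map A.subtype with hI
    have hIA : I ≤ A := map_subtype_le _
    have hIn : I.Normal := by
      refine normalizer_eq_top_iff.mp (top_le_iff.mp ?_)
      rw [← hgen]
      refine sup_le (zpowers_le.mpr ?_) fun u hu => mem_normalizer_iff.mpr fun v => ?_
      · apply mem_normalizer_iff_map_conj_eq.mpr
        refine eq_of_le_of_card_ge ?_ (le_of_eq ((card_map_of_injective (MulAut.conj x).injective).symm))
        rintro _ ⟨_, ⟨_, ⟨b, rfl⟩, rfl⟩, rfl⟩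
        refine ⟨f ⟨x * b * x⁻¹, hAn.conj_mem b b.2 x⟩, ⟨_, rfl⟩, ?_⟩
        show x * (x * (b : G) * x⁻¹) * x⁻¹ * (x * (b : G) * x⁻¹)⁻¹ = x * (x * b * x⁻¹ * (b : G)⁻¹) * x⁻¹
        group
      · constructor
        · intro hv
          rw [hmc u hu.1 v (hIA hv).1, mul_inv_cancel_right]; exact hv
        · intro hv
          have h1 := hmc u⁻¹ (M.inv_mem hu.1) _ (hIA hv).1
          have h2 : v = u * v * u⁻¹ := by
            have : u⁻¹ * (u * v * u⁻¹) * u = v := by group
            rw [h1, mul_assoc, inv_mul_cancel, mul_one] at this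
            exact this.symm
          rwa [← h2] at hv
    haveI := hIn
    have hGI : commutator G ≤ I := by
      rw [← Subgroup.Normal.quotient_commutative_iff_commutator_le]
      have h1 : ∀ u : G, (QuotientGroup.mk u : G ⧸ I) ∈ center (G ⧸ I) := by
        have hxa : ∀ b ∈ A, Commute (QuotientGroup.mk x : G ⧸ I) (QuotientGroup.mk b) := fun b hb => by
          have h2 : (QuotientGroup.mk (x * b * x⁻¹ * b⁻¹) : G ⧸ I) = 1 :=
            (QuotientGroup.eq_one_iff _).mpr ⟨f ⟨b, hb⟩, ⟨_, rfl⟩, rfl⟩
          rw [QuotientGroup.mk_mul, QuotientGroup.mk_mul, QuotientGroup.mk_mul, QuotientGroup.mk_inv, QuotientGroup.mk_inv] at h2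
          exact commutatorElement_eq_one_iff_mul_comm.mp h2
        intro u
        have : zpowers x ⊔ A ≤ (center (G ⧸ I)).comap (QuotientGroup.mk' I) := by
          refine sup_le (zpowers_le.mpr ?_) fun b hb => ?_
          · rw [mem_comap, mem_center_iff]
            intro v
            induction v using QuotientGroup.induction_on with
            | _ v =>
              have : zpowers x ⊔ A ≤ (centralizer ({(QuotientGroup.mk x : G ⧸ I)} : Set (G ⧸ I))).comap (QuotientGroup.mk' I) :=
                sup_le (zpowers_le.mpr (mem_centralizer_singleton_iff.mpr rfl))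
                  (fun b hb => mem_centralizer_singleton_iff.mpr (hxa b hb).symm.eq)
              exact mem_centralizer_singleton_iff.mp (this (hgen ▸ mem_top v))
          · rw [mem_comap, mem_center_iff]
            intro v
            induction v using QuotientGroup.induction_on with
            | _ v =>
              have : zpowers x ⊔ A ≤ (centralizer ({(QuotientGroup.mk b : G ⧸ I)} : Set (G ⧸ I))).comap (QuotientGroup.mk' I) :=
                sup_le (zpowers_le.mpr (mem_centralizer_singleton_iff.mpr (hxa b hb).eq))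
                  (fun c hc => mem_centralizer_singleton_iff.mpr (by
                    show (QuotientGroup.mk c : G ⧸ I) * QuotientGroup.mk b = QuotientGroup.mk b * QuotientGroup.mk c
                    rw [← QuotientGroup.mk_mul, ← QuotientGroup.mk_mul, hmc c hc.1 b hb.1]))
              exact mem_centralizer_singleton_iff.mp (this (hgen ▸ mem_top v))
        exact this (hgen ▸ mem_top u)
      exact ⟨⟨fun u v => by
        induction u using QuotientGroup.induction_on with
        | _ u => exact (mem_center_iff.mp (h1 u) v).symm⟩⟩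
    have htop : zpowers x ⊔ I = ⊤ := by
      by_contra hne
      obtain ⟨K, hK, hle⟩ := (eq_top_or_exists_le_coatom (zpowers x ⊔ I)).resolve_left hne
      exact hxM ((huniq K hK (hGI.trans (le_sup_right.trans hle))) ▸ hle (le_sup_left (α := Subgroup G) (mem_zpowers x)))
    intro b
    have hb : (b : G) ∈ ((zpowers x : Set G) * (I : Set G)) := by
      rw [← coe_mul_of_left_le_normalizer_right _ _ (by rw [normalizer_eq_top]; exact le_top), htop]
      exact mem_top _
    obtain ⟨u, hu, i, hi, hui⟩ := hb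
    have hu1 : u = 1 := disjoint_def.mp hdis hu (by
      have : u = (b : G) * i⁻¹ := by rw [← hui]; simp
      rw [this]; exact A.mul_mem b.2 (A.inv_mem (hIA hi)))
    obtain ⟨c, ⟨d, rfl⟩, hc⟩ := hi
    refine ⟨d, Subtype.ext ?_⟩
    have h9 : (1 : G) * i = b := hu1 ▸ hui
    rw [← h9, one_mul]
    exact hc
  have := Finite.injective_iff_surjective.mpr hsurj
  have h1 : f ⟨a, ha⟩ = f 1 := by
    rw [map_one]
    exact Subtype.ext (by show x * a * x⁻¹ * a⁻¹ = 1; rw [hfa, mul_inv_cancel])
  exact ha1 (congrArg Subtype.val (this h1))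

/-- Let G be a finite solvable non-nilpotent group. Every non-abelian subgroup of G is self-normalizing if and only if G is a semidirect product ⟨x⟩ ⋉ A in which ⟨x⟩ is a p-group for some prime p, A is a normal abelian subgroup of order prime to p, x^p is central in G, and x acts fixed-point-freely on A (no non-identity element of A commutes with x). -/
theorem result {G : Type*} [Group G] [Finite G]
    [Group.IsSolvable G] (hnn : ¬ Group.IsNilpotent G) :
    (∀ H : Subgroup G, ¬ IsMulCommutative H → Subgroup.normalizer (H : Set G) = H) ↔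
    ∃ (x : G) (A : Subgroup G) (p : ℕ), p.Prime ∧ A.Normal ∧ IsMulCommutative A ∧ (∃ k : ℕ, orderOf x = p ^ k) ∧
      ¬ p ∣ Nat.card A ∧ (Subgroup.zpowers x).IsComplement' A ∧ x ^ p ∈ Subgroup.center G ∧
      ∀ a : G, a ∈ A → a ≠ 1 → x * a * x⁻¹ ≠ a := by

  constructor
  · intro h
    exact forward hnn h
  · rintro ⟨x, A, p, hp, hAn, hAc, ⟨k, hk⟩, hpA, hcompl, hxp, hfix⟩ H hH
    exact backward x A p hp hk hcompl hxp (fun a ha hfa => by
      by_contra ha1; exact hfix a ha ha1 hfa) H hH

end Cfsg.Agent.S4071
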