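import Cfsg.Statements.S4072
import Mathlib
import Cfsg.Agent.Lib.FGB.PGroupBasic
-- import your own Cfsg.Agent.* helpers here

set_option autoImplicit false
open Cfsg
open scoped Pointwise commutatorElement IsMulCommutative

namespace Cfsg.Agent.S4072

open Subgroup

variable {G : Type*} [Group G] [Finite G]

/-- commutators in a non-abelian p-group all of whose proper subgroups are abelian -/
theorem commutator_bound {p : ℕ} [Fact p.Prime] (hG : IsPGroup p G)
    (hna : ∃ a b : G, a * b ≠ b * a) (hab : ∀ H : Subgroup G, H ≠ ⊤ → IsMulCommutative H) :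
    ∃ c : G, c ^ p = 1 ∧ ∀ u v : G, ⁅u, v⁆ ∈ zpowers c := by
  obtain ⟨a, b, hne⟩ := hna
  set c := ⁅a, b⁆ with hc
  have hgen : closure ({a, b} : Set G) = ⊤ := by
    by_contra h
    haveI := hab _ h
    exact hne (congrArg Subtype.val (mul_comm'
      (⟨a, subset_closure (by simp)⟩ : closure ({a, b} : Set G)) ⟨b, subset_closure (by simp)⟩))
  have hcoat : ∀ y : G, ∃ A : Subgroup G, IsCoatom A ∧ y ∈ A := by
    intro y
    have : zpowers y ≠ ⊤ := by
      intro h
      apply hne
      obtain ⟨i, hi⟩ := mem_zpowers_iff.mp (h.symm ▸ mem_top a : a ∈ zpowers y)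
      obtain ⟨j, hj⟩ := mem_zpowers_iff.mp (h.symm ▸ mem_top b : b ∈ zpowers y)
      rw [← hi, ← hj]
      exact (Commute.zpow_zpow (Commute.refl y) i j).eq
    obtain ⟨A, hA, hle⟩ := (eq_top_or_exists_le_coatom (zpowers y)).resolve_left this
    exact ⟨A, hA, hle (mem_zpowers y)⟩
  obtain ⟨A, hA, haA⟩ := hcoat a
  obtain ⟨B, hB, hbB⟩ := hcoat b
  haveI := hab A hA.1
  haveI := hab B hB.1
  have hAc : ∀ u ∈ A, ∀ v ∈ A, u * v = v * u := fun u hu v hv =>
    congrArg Subtype.val (mul_comm' (⟨u, hu⟩ : A) ⟨v, hv⟩)
  have hBc : ∀ u ∈ B, ∀ v ∈ B, u * v = v * u := fun u hu v hv =>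
    congrArg Subtype.val (mul_comm' (⟨u, hu⟩ : B) ⟨v, hv⟩)
  have hcen : ∀ u, u ∈ A → u ∈ B → u ∈ center G := by
    intro u huA huB
    rw [mem_center_iff]
    intro g
    have : closure ({a, b} : Set G) ≤ centralizer ({u} : Set G) := by
      rw [closure_le]
      rintro t (rfl | rfl)
      · exact mem_centralizer_singleton_iff.mpr (hAc t haA u huA)
      · exact mem_centralizer_singleton_iff.mpr (hBc t hbB u huB)
    exact mem_centralizer_singleton_iff.mp (this (hgen ▸ mem_top g))
  have hfA : frattini G ≤ A := frattini_le_coatom hA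
  have hfB : frattini G ≤ B := frattini_le_coatom hB
  have hap : a ^ p ∈ center G := hcen _ (A.pow_mem haA p) (hfB (FGB.pow_mem_frattini hG a))
  have hcc : c ∈ center G := hcen _ (hfA (FGB.commutatorElement_mem_frattini hG a b))
    (hfB (FGB.commutatorElement_mem_frattini hG a b))
  refine ⟨c, ?_, ?_⟩
  · have h1 : b * a ^ p * b⁻¹ = a ^ p := by
      rw [mem_center_iff.mp hap b, mul_inv_cancel_right]
    have h2 : b * a * b⁻¹ = c⁻¹ * a := by rw [hc, commutatorElement_def]; group
    have h3 : (c⁻¹ * a) ^ p = a ^ p := by rw [← h2, conj_pow, h1]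
    have hcomm : Commute c⁻¹ a := (mem_center_iff.mp (inv_mem hcc) a).symm
    rw [hcomm.mul_pow, mul_eq_right, inv_pow, inv_eq_one] at h3
    exact h3
  · haveI hn : (zpowers c).Normal := ⟨fun n hn g => by
      obtain ⟨i, rfl⟩ := mem_zpowers_iff.mp hn
      rw [mem_center_iff.mp ((center G).zpow_mem hcc i) g, mul_inv_cancel_right]
      exact hn⟩
    have hker : ∀ g : G, (QuotientGroup.mk g : G ⧸ zpowers c) ∈ center (G ⧸ zpowers c) := by
      have hab' : Commute (QuotientGroup.mk a : G ⧸ zpowers c) (QuotientGroup.mk b) := by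
        have h2 : (QuotientGroup.mk (a * b * a⁻¹ * b⁻¹) : G ⧸ zpowers c) = 1 :=
          (QuotientGroup.eq_one_iff _).mpr (mem_zpowers c)
        rw [QuotientGroup.mk_mul, QuotientGroup.mk_mul, QuotientGroup.mk_mul,
          QuotientGroup.mk_inv, QuotientGroup.mk_inv] at h2
        exact commutatorElement_eq_one_iff_mul_comm.mp h2
      have hgenc : ∀ (t : G ⧸ zpowers c), Commute t (QuotientGroup.mk a) → Commute t (QuotientGroup.mk b) →
          t ∈ center (G ⧸ zpowers c) := by
        intro t h1 h2
        rw [mem_center_iff]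
        intro v
        induction v using QuotientGroup.induction_on with
        | _ v =>
          have : closure ({a, b} : Set G) ≤ (centralizer ({t} : Set (G ⧸ zpowers c))).comap (QuotientGroup.mk' _) := by
            rw [closure_le]
            rintro u (rfl | rfl)
            · exact mem_centralizer_singleton_iff.mpr h1.eq.symm
            · exact mem_centralizer_singleton_iff.mpr h2.eq.symm
          exact mem_centralizer_singleton_iff.mp (this (hgen ▸ mem_top v))
      intro g
      have : closure ({a, b} : Set G) ≤ (center (G ⧸ zpowers c)).comap (QuotientGroup.mk' _) := by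
        rw [closure_le]
        rintro u (rfl | rfl)
        · exact hgenc _ (Commute.refl _) hab'
        · exact hgenc _ hab'.symm (Commute.refl _)
      exact this (hgen ▸ mem_top g)
    intro u v
    rw [← QuotientGroup.eq_one_iff, commutatorElement_def, QuotientGroup.mk_mul, QuotientGroup.mk_mul,
      QuotientGroup.mk_mul, QuotientGroup.mk_inv, QuotientGroup.mk_inv]
    exact commutatorElement_eq_one_iff_mul_comm.mpr ((mem_center_iff.mp (hker v) _))

open scoped IsMulCommutative in
theorem main (hS : ∀ H : Subgroup G, ¬ IsMulCommutative H → normalizer (H : Set G) = H) :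
    Group.IsSolvable G ∨ IsSimpleGroup G := by
  by_cases hsol : Group.IsSolvable G
  · exact Or.inl hsol
  refine Or.inr ?_
  haveI : Nontrivial G := by
    rcases subsingleton_or_nontrivial G with h | h
    · exact absurd (Group.isSolvable_of_comm fun a b => Subsingleton.elim _ _) hsol
    · exact h
  have hab : ∀ N : Subgroup G, N.Normal → N ≠ ⊤ → IsMulCommutative N := by
    intro N hN hne
    by_contra hc
    haveI := hN
    exact hne ((hS N hc).symm.trans (normalizer_eq_top (H := N)))
  refine ⟨fun N0 hN0 => ?_⟩
  by_contra hcon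
  push_neg at hcon
  obtain ⟨hN01, hN02⟩ := hcon
  obtain ⟨N, ⟨hNn, hN0N, hNtop⟩, hNmax⟩ := Set.Finite.exists_maximal
    (s := {K : Subgroup G | K.Normal ∧ N0 ≤ K ∧ K ≠ ⊤}) (Set.toFinite _) ⟨N0, hN0, le_rfl, hN02⟩
  have hN1 : N ≠ ⊥ := fun h => hN01 (le_bot_iff.mp (h ▸ hN0N))
  haveI := hNn
  haveI hNc : IsMulCommutative N := hab N hNn hNtop
  haveI hNs : Group.IsSolvable N := Group.isSolvable_of_comm fun a b => hNc.is_comm.comm a b
  set S := G ⧸ N
  set f := QuotientGroup.mk' N with hf
  have hfs : Function.Surjective f := QuotientGroup.mk'_surjective N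
  have hSns : ¬ Group.IsSolvable S := fun h => hsol (by
    haveI := h
    exact solvable_of_ker_le_range N.subtype f (by rw [hf, QuotientGroup.ker_mk', range_subtype]))
  have hker : ∀ K : Subgroup S, N ≤ K.comap f := fun K u hu => by
    rw [mem_comap, hf, QuotientGroup.mk'_apply, (QuotientGroup.eq_one_iff u).mpr hu]; exact one_mem K
  have hSsimple : ∀ K : Subgroup S, K.Normal → K = ⊥ ∨ K = ⊤ := by
    intro K hK
    by_cases ht : K.comap f = ⊤
    · right
      rw [← map_comap_eq_self_of_surjective hfs K, ht, map_top_of_surjective _ hfs]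
    · left
      have hle := hNmax ⟨hK.comap f, hN0N.trans (hker K), ht⟩ (hker K)
      rw [← map_comap_eq_self_of_surjective hfs K, le_antisymm hle (hker K), hf, QuotientGroup.map_mk'_self]
  by_cases hcenN : N ≤ center G
  · -- central case
    have h1 : Nat.card N ≠ 1 := fun h => hN1 (card_eq_one.mp h)
    set p := (Nat.card N).minFac
    haveI : Fact p.Prime := ⟨Nat.minFac_prime h1⟩
    obtain ⟨z, hz⟩ := exists_prime_orderOf_dvd_card' p (Nat.minFac_dvd (Nat.card N))
    have hzc : (z : G) ∈ center G := hcenN z.2
    obtain ⟨P, hP⟩ := (IsPGroup.of_card (n := 1) (by rw [pow_one, Nat.card_zpowers, Subgroup.orderOf_coe, hz]) :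
      IsPGroup p (zpowers (z : G))).exists_le_sylow
    have hzP : (z : G) ∈ (P : Subgroup G) := hP (mem_zpowers _)
    -- G is perfect
    have hperf : commutator G = ⊤ := by
      by_contra hne
      apply hsol
      haveI := hab _ inferInstance hne
      haveI : Group.IsSolvable (commutator G) := Group.isSolvable_of_comm fun a b => mul_comm a b
      haveI : Group.IsSolvable (G ⧸ commutator G) :=
        Group.isSolvable_of_comm (G := Abelianization G) fun a b => mul_comm a b
      exact solvable_of_ker_le_range (commutator G).subtype (QuotientGroup.mk' (commutator G))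
        (by rw [QuotientGroup.ker_mk', range_subtype])
    have hzP' : (⟨z, hzP⟩ : (P : Subgroup G)) ∈ commutator (P : Subgroup G) := by
      let φ : (P : Subgroup G) →* Abelianization (P : Subgroup G) := Abelianization.of
      have htr : MonoidHom.transfer φ (z : G) = 1 := by
        have : commutator G ≤ (MonoidHom.transfer φ).ker := Abelianization.commutator_subset_ker _
        exact this (hperf ▸ mem_top _)
      rw [MonoidHom.transfer_eq_pow φ (z : G) (fun k g₀ _ => by
        rw [mul_assoc, ← mem_center_iff.mp ((center G).pow_mem hzc k) g₀, inv_mul_cancel_left])] at htr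
      have h2 : (⟨z, hzP⟩ : (P : Subgroup G)) ^ (P : Subgroup G).index ∈ commutator (P : Subgroup G) := by
        rw [← QuotientGroup.eq_one_iff]
        exact htr
      have hcop : Nat.Coprime (P : Subgroup G).index (orderOf (⟨z, hzP⟩ : (P : Subgroup G))) := by
        rw [Subgroup.orderOf_mk, Subgroup.orderOf_coe, hz, Nat.coprime_comm,
          (Fact.out : p.Prime).coprime_iff_not_dvd]
        exact P.not_dvd_index
      obtain ⟨m, hm⟩ := exists_pow_eq_self_of_coprime hcop
      rw [← hm]
      exact pow_mem h2 m
    have hPna : ∃ a b : (P : Subgroup G), a * b ≠ b * a := by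
      by_contra hc
      push_neg at hc
      have : commutator (P : Subgroup G) = ⊥ := by
        rw [eq_bot_iff, commutator_def, commutator_le]
        intro u _ v _
        rw [mem_bot]; exact commutatorElement_eq_one_iff_mul_comm.mpr (hc u v)
      rw [this, mem_bot] at hzP'
      have h9 : (z : G) = 1 := congrArg Subtype.val hzP'
      rw [← Subgroup.orderOf_coe, h9, orderOf_one] at hz
      exact (Fact.out : p.Prime).ne_one hz.symm
    have hPnc : ¬ IsMulCommutative (P : Subgroup G) := fun h => by
      obtain ⟨a, b, hab'⟩ := hPna; exact hab' (h.is_comm.comm a b)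
    have hNP : normalizer ((P : Subgroup G) : Set G) = P := hS _ hPnc
    have hPab : ∀ H : Subgroup (P : Subgroup G), H ≠ ⊤ → IsMulCommutative H := by
      intro H hH
      by_contra hc
      haveI := P.2.isNilpotent
      have hlt := Group.normalizerCondition_of_isNilpotent (G := (P : Subgroup G)) H (lt_top_iff_ne_top.mpr hH)
      obtain ⟨u, hu, hu'⟩ := SetLike.exists_of_lt hlt
      have hH' : ¬ IsMulCommutative (H.map (P : Subgroup G).subtype) := fun h => hc ⟨⟨fun a b => by
        have h7 := congrArg Subtype.val (h.is_comm.comm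
          (⟨_, mem_map_of_mem (P : Subgroup G).subtype a.2⟩ : H.map (P : Subgroup G).subtype) ⟨_, mem_map_of_mem _ b.2⟩)
        apply Subtype.ext; apply Subtype.ext
        exact h7⟩⟩
      have h2 := le_normalizer_map (H := H) (P : Subgroup G).subtype (mem_map_of_mem _ hu)
      rw [hS _ hH'] at h2
      obtain ⟨w, hw, hwu⟩ := h2
      exact hu' ((Subtype.ext hwu : w = u) ▸ hw)
    obtain ⟨c, hcp, hcm⟩ := commutator_bound P.2 hPna hPab
    have hPN : ∀ u v : (P : Subgroup G), ((⁅u, v⁆ : (P : Subgroup G)) : G) ∈ N := by
      have hle : commutator (P : Subgroup G) ≤ zpowers c := by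
        rw [_root_.commutator_def, commutator_le]
        exact fun u _ v _ => hcm u v
      have hzc' : (⟨z, hzP⟩ : (P : Subgroup G)) ∈ zpowers c := hle hzP'
      have hzo : orderOf (⟨z, hzP⟩ : (P : Subgroup G)) = p := by rw [Subgroup.orderOf_mk, Subgroup.orderOf_coe, hz]
      have heq : zpowers (⟨z, hzP⟩ : (P : Subgroup G)) = zpowers c :=
        eq_of_le_of_card_ge (zpowers_le.mpr hzc') (by
          rw [Nat.card_zpowers, Nat.card_zpowers, hzo]
          exact Nat.le_of_dvd (Fact.out : p.Prime).pos (orderOf_dvd_of_pow_eq_one hcp))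
      intro u v
      obtain ⟨i, hi⟩ := mem_zpowers_iff.mp (heq.symm ▸ hcm u v)
      rw [← hi]
      simpa using N.zpow_mem z.2 i
    have hNle : N ≤ (P : Subgroup G) := by
      rw [← hNP]
      intro n hn
      rw [mem_normalizer_iff]
      intro g
      rw [← mem_center_iff.mp (hcenN hn) g, mul_inv_cancel_right]
    set Pb : Sylow p S := P.mapSurjective hfs with hPb
    have hNorm : normalizer ((Pb : Subgroup S) : Set S) = (Pb : Subgroup S) := by
      apply comap_injective hfs
      rw [comap_normalizer_eq_of_surjective _ hfs]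
      have hcm' : ((Pb : Subgroup S)).comap f = (P : Subgroup G) := by
        show ((P : Subgroup G).map f).comap f = _
        exact comap_map_eq_self (by rw [hf, QuotientGroup.ker_mk']; exact hNle)
      rw [hcm', hNP]
    have hPbc : normalizer ((Pb : Subgroup S) : Set S) ≤ centralizer ((Pb : Subgroup S) : Set S) := by
      rw [hNorm]
      rintro _ ⟨u, hu, rfl⟩
      rw [mem_centralizer_iff]
      rintro _ ⟨v, hv, rfl⟩
      have h3 : ((⁅(⟨v, hv⟩ : (P : Subgroup G)), ⟨u, hu⟩⁆ : (P : Subgroup G)) : G) ∈ N := hPN _ _
      have h4 := (QuotientGroup.eq_one_iff (N := N) _).mpr h3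
      simp only [commutatorElement_def, Subgroup.coe_mul, Subgroup.coe_inv, QuotientGroup.mk_mul,
        QuotientGroup.mk_inv] at h4
      exact commutatorElement_eq_one_iff_mul_comm.mp h4
    have hKn := MonoidHom.ker_transferSylow_isComplement' Pb hPbc
    rcases hSsimple _ (MonoidHom.normal_ker (MonoidHom.transferSylow Pb hPbc)) with hK | hK
    · rw [hK] at hKn
      have htop : (Pb : Subgroup S) = ⊤ := by
        have := hKn.index_eq_card
        rw [card_bot, index_eq_one] at this
        exact this
      apply hSns
      have : IsPGroup p S := Pb.2.of_surjective (Pb : Subgroup S).subtype fun y => ⟨⟨y, htop ▸ mem_top y⟩, rfl⟩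
      haveI := this.isNilpotent
      infer_instance
    · rw [hK] at hKn
      have hd := (isComplement'_top_left.mp hKn)
      -- then the Sylow subgroup is trivial
      apply hPnc
      have hPleN : (P : Subgroup G) ≤ N := fun u hu => by
        have : f u ∈ (Pb : Subgroup S) := ⟨u, hu, rfl⟩
        rw [hd, mem_bot] at this
        exact (QuotientGroup.eq_one_iff u).mp this
      exact ⟨⟨fun a b => by
        have h8 := congrArg Subtype.val (hNc.is_comm.comm (⟨a, hPleN a.2⟩ : N) ⟨b, hPleN b.2⟩)
        exact Subtype.ext h8⟩⟩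
  · -- non-central case
    have hCN : centralizer (N : Set G) = N := by
      have hne : centralizer (N : Set G) ≠ ⊤ := fun h => hcenN (centralizer_eq_top_iff_subset.mp h)
      exact le_antisymm (hNmax ⟨inferInstance, hN0N.trans (le_centralizer N), hne⟩ (le_centralizer N)) (le_centralizer N)
    have hcard1 : Nat.card S ≠ 1 := fun h => hSns (by
      haveI := (Nat.card_eq_one_iff_unique.mp h).1
      exact Group.isSolvable_of_comm fun a b => Subsingleton.elim _ _)
    set p := (Nat.card S).minFac
    haveI : Fact p.Prime := ⟨Nat.minFac_prime hcard1⟩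
    obtain ⟨P⟩ := (inferInstance : Nonempty (Sylow p S))
    haveI : Nontrivial (P : Subgroup S) := (nontrivial_iff_ne_bot _).mpr (P.ne_bot_of_dvd_card (Nat.minFac_dvd _))
    haveI := P.2.center_nontrivial
    obtain ⟨z, hz⟩ := exists_prime_orderOf_dvd_card' (G := center (P : Subgroup S)) p
      (((P.2.to_subgroup _).card_eq_or_dvd).resolve_left Finite.one_lt_card.ne')
    set w : S := ((z : (P : Subgroup S)) : S) with hw
    have hwo : orderOf w = p := by rw [hw, Subgroup.orderOf_coe, Subgroup.orderOf_coe, hz]
    have hnab : ¬ IsMulCommutative ((zpowers w).comap f) := by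
      intro h
      obtain ⟨g, hg⟩ := hfs w
      have hgc : g ∈ centralizer (N : Set G) := by
        rw [mem_centralizer_iff]
        intro n hn
        exact congrArg Subtype.val (h.is_comm.comm ⟨n, hker _ hn⟩ ⟨g, by rw [mem_comap, hg]; exact mem_zpowers w⟩)
      rw [hCN] at hgc
      have : w = 1 := by rw [← hg]; exact (QuotientGroup.eq_one_iff g).mpr hgc
      rw [this, orderOf_one] at hwo
      exact (Fact.out : p.Prime).ne_one hwo.symm
    have hNw : normalizer ((zpowers w : Subgroup S) : Set S) = zpowers w := by
      apply comap_injective hfs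
      rw [comap_normalizer_eq_of_surjective _ hfs, hS _ hnab]
    have hPw : (P : Subgroup S) = zpowers w := by
      refine le_antisymm (fun u hu => ?_) (zpowers_le.mpr (z : (P : Subgroup S)).2)
      rw [← hNw, mem_normalizer_iff]
      intro v
      have hc0 : u * w = w * u := congrArg Subtype.val (mem_center_iff.mp z.2 ⟨u, hu⟩)
      have hcu : ∀ t ∈ zpowers w, Commute u t := fun t ht => by
        obtain ⟨i, rfl⟩ := mem_zpowers_iff.mp ht; exact Commute.zpow_right hc0 i
      constructor
      · intro hv; rw [(hcu v hv).eq, mul_inv_cancel_right]; exact hv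
      · intro hv
        have h5 := (hcu _ hv).eq
        have h6 : u * v * u⁻¹ = v := by
          calc u * v * u⁻¹ = u⁻¹ * (u * (u * v * u⁻¹)) := by group
            _ = u⁻¹ * ((u * v * u⁻¹) * u) := by rw [h5]
            _ = v := by group
        rwa [h6] at hv
    have hPc : normalizer ((P : Subgroup S) : Set S) ≤ centralizer ((P : Subgroup S) : Set S) := by
      rw [hPw, hNw]
      exact le_centralizer (zpowers w)
    have hKn := MonoidHom.ker_transferSylow_isComplement' P hPc
    rcases hSsimple _ (MonoidHom.normal_ker (MonoidHom.transferSylow P hPc)) with hK | hK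
    · rw [hK] at hKn
      have htop : (P : Subgroup S) = ⊤ := by
        have := hKn.index_eq_card
        rw [card_bot, index_eq_one] at this
        exact this
      apply hSns
      have : IsPGroup p S := P.2.of_surjective (P : Subgroup S).subtype fun y => ⟨⟨y, htop ▸ mem_top y⟩, rfl⟩
      haveI := this.isNilpotent
      infer_instance
    · rw [hK] at hKn
      exact P.ne_bot_of_dvd_card (Nat.minFac_dvd _) (isComplement'_top_left.mp hKn)

/-- A finite group in which every non-abelian subgroup is self-normalizing is solvable or simple. -/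
theorem result {G : Type*} [Group G] [Finite G] (hS : ∀ H : Subgroup G, ¬ IsMulCommutative H → Subgroup.normalizer (H : Set G) = H) :
    Group.IsSolvable G ∨ IsSimpleGroup G := by

  exact main hS

end Cfsg.Agent.S4072
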