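import Cfsg.Statements.S4075
import Cfsg.Agent.Lib.Transfer.Fusion
import Cfsg.Agent.Lib.Transfer.Hall
-- import your own Cfsg.Agent.* helpers here

set_option autoImplicit false
open Cfsg

namespace Cfsg.Agent.S4075

/-- Let G be a finite nilpotent group. Every non-abelian subgroup of G is self-normalizing if and only if G is abelian or G is a minimal non-abelian p-group for some prime p (non-abelian of prime-power order with every proper subgroup abelian). -/
theorem result {G : Type*} [Group G] [Finite G]
    [Group.IsNilpotent G] :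
    (∀ H : Subgroup G, ¬ IsMulCommutative H → Subgroup.normalizer (H : Set G) = H) ↔
    (IsMulCommutative G ∨ (IsPrimePow (Nat.card G) ∧ ¬ IsMulCommutative G ∧ ∀ H : Subgroup G, H ≠ ⊤ → IsMulCommutative H)) := by
  classical
  constructor
  · intro h
    have hprop : ∀ H : Subgroup G, H ≠ ⊤ → IsMulCommutative H := by
      intro H hH
      by_contra hc
      have := Group.normalizerCondition_of_isNilpotent H (lt_top_iff_ne_top.mpr hH)
      rw [h H hc] at this
      exact lt_irrefl _ this
    by_cases hG : IsMulCommutative G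
    · exact Or.inl hG
    refine Or.inr ⟨?_, hG, hprop⟩
    by_contra hnp
    apply hG
    suffices htop : Subgroup.center G = ⊤ from
      ⟨⟨fun a b => (Subgroup.mem_center_iff.mp (htop ▸ Subgroup.mem_top b) a)⟩⟩
    rw [← Subgroup.index_eq_one]
    by_contra hne
    obtain ⟨p, hp, hpd⟩ := Nat.exists_prime_and_dvd hne
    haveI := Fact.mk hp
    obtain ⟨P⟩ : Nonempty (Sylow p G) := inferInstance
    refine P.not_dvd_index (hpd.trans (Subgroup.index_dvd_of_le fun x hx => ?_))
    have hPne : (P : Subgroup G) ≠ ⊤ := by
      intro htop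
      obtain ⟨n, hn⟩ := P.2.exists_card_eq
      rw [htop, Subgroup.card_top] at hn
      refine hnp ((isPrimePow_nat_iff _).mpr ⟨p, n, hp, Nat.pos_of_ne_zero ?_, hn.symm⟩)
      rintro rfl
      haveI : Subsingleton G := (Nat.card_eq_one_iff_unique.mp (hn.trans (pow_zero p))).1
      exact hG ⟨⟨fun a b => Subsingleton.elim _ _⟩⟩
    haveI := hprop _ hPne
    rw [Subgroup.mem_center_iff]
    intro g
    obtain ⟨a, b, ha, hb, hab, hak, hbc⟩ := Cfsg.Agent.Transfer.exists_pPart_mul (p := p) g
    have haP : a ∈ (P : Subgroup G) := by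
      obtain ⟨k, hk⟩ := hak
      have hpa : IsPGroup p (Subgroup.zpowers a) :=
        IsPGroup.of_card_dvd_pow (n := k) (by rwa [Nat.card_zpowers])
      obtain ⟨R, hR⟩ := hpa.exists_le_sylow
      haveI := Sylow.unique_of_normal P
        (Sylow.normal_of_normalizerCondition Group.normalizerCondition_of_isNilpotent P)
      rw [Subsingleton.elim P R]
      exact hR (Subgroup.mem_zpowers a)
    have c1 : Commute x a := by
      have := (IsMulCommutative.is_comm (M := (P : Subgroup G))).comm ⟨x, hx⟩ ⟨a, haP⟩
      exact congrArg Subtype.val this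
    have c2 : Commute x b := by
      refine Cfsg.Agent.Transfer.commute_of_coprime_of_nilpotent ?_
      obtain ⟨k, hk⟩ := (IsPGroup.iff_orderOf.mp P.2) ⟨x, hx⟩
      rw [Subgroup.orderOf_mk] at hk
      rw [hk]
      exact Nat.Coprime.pow_left k hbc.symm
    rw [← hab]
    exact (c1.mul_right c2).symm.eq
  · rintro (hG | ⟨-, -, hprop⟩) H hH
    · exact absurd (⟨⟨fun a b => Subtype.ext (hG.is_comm.comm _ _)⟩⟩ : IsMulCommutative H) hH
    · have : H = ⊤ := by
        by_contra hne
        exact hH (hprop H hne)
      subst this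
      exact top_le_iff.mp (Subgroup.le_normalizer)

end Cfsg.Agent.S4075
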