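import Cfsg.Statements.S0307
import Cfsg.Agent.Lib.LinearGroups.Basic

set_option autoImplicit false
open Cfsg

namespace Cfsg.Agent.S0307

/-- PSL_n(q) is normal in PGL_n(q) with cyclic quotient of order gcd(n, q-1): the image of the natural map PSL_n → PGL_n is the kernel of a surjective homomorphism onto the cyclic group of that order. -/
theorem result {F : Type*} [Field F] [Fintype F] {q : ℕ} (hF : Fintype.card F = q) (n : ℕ) (hn : 1 ≤ n) : ∃ g : Matrix.ProjGenLinGroup (Fin n) F →* Multiplicative (ZMod (Nat.gcd n (q - 1))), Function.Surjective g ∧ g.ker = (Matrix.ProjectiveSpecialLinearGroup.toPGL : Matrix.ProjectiveSpecialLinearGroup (Fin n) F →* Matrix.ProjGenLinGroup (Fin n) F).range := by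
  haveI : Nonempty (Fin n) := ⟨⟨0, hn⟩⟩
  subst hF
  let N : Subgroup Fˣ := (powMonoidHom n : Fˣ →* Fˣ).range
  have hN : Nat.card (Fˣ ⧸ N) = Nat.gcd n (Fintype.card F - 1) := by
    rw [← Subgroup.index_eq_card, IsCyclic.index_powMonoidHom_range, Nat.card_units,
      Nat.card_eq_fintype_card, Nat.gcd_comm]
  haveI : IsCyclic (Fˣ ⧸ N) := isCyclic_of_surjective (QuotientGroup.mk' N)
    (QuotientGroup.mk'_surjective N)
  haveI : NeZero (Nat.gcd n (Fintype.card F - 1)) :=
    ⟨by rw [← hN]; exact Nat.card_pos.ne'⟩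
  let e : Fˣ ⧸ N ≃* Multiplicative (ZMod (Nat.gcd n (Fintype.card F - 1))) :=
    mulEquivOfCyclicCardEq (by simp [hN, Nat.card_zmod])
  let f0 : Matrix.GeneralLinearGroup (Fin n) F →* Fˣ ⧸ N :=
    (QuotientGroup.mk' N).comp Matrix.GeneralLinearGroup.det
  have hf0 : Subgroup.center (Matrix.GeneralLinearGroup (Fin n) F) ≤ f0.ker := by
    rw [Matrix.GeneralLinearGroup.center_eq_range_scalar]
    rintro _ ⟨u, rfl⟩
    rw [MonoidHom.mem_ker, MonoidHom.comp_apply, QuotientGroup.mk'_apply, QuotientGroup.eq_one_iff]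
    exact ⟨u, by ext; simp [Matrix.det_diagonal]⟩
  let f : Matrix.ProjGenLinGroup (Fin n) F →* Fˣ ⧸ N :=
    QuotientGroup.lift (Subgroup.center (Matrix.GeneralLinearGroup (Fin n) F)) f0 hf0
  have hfmk : ∀ g, f (Matrix.ProjGenLinGroup.mk g) = f0 g := fun g => rfl
  refine ⟨e.toMonoidHom.comp f, e.surjective.comp ?_, ?_⟩
  · intro y
    obtain ⟨u, rfl⟩ := QuotientGroup.mk'_surjective N y
    obtain ⟨g, rfl⟩ := LinGrp.det_surjective (n := Fin n) u
    exact ⟨Matrix.ProjGenLinGroup.mk g, rfl⟩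
  · ext x
    rw [MonoidHom.mem_ker, MonoidHom.comp_apply]
    show e (f x) = 1 ↔ _
    rw [e.map_eq_one_iff]
    cases x with | mk g => ?_
    rw [hfmk, MonoidHom.comp_apply, QuotientGroup.mk'_apply, QuotientGroup.eq_one_iff]
    constructor
    · rintro ⟨u, hu⟩
      have hu' : g * (Matrix.GeneralLinearGroup.scalar (Fin n) u)⁻¹ ∈
          (Matrix.GeneralLinearGroup.det : Matrix.GeneralLinearGroup (Fin n) F →* Fˣ).ker := by
        rw [MonoidHom.mem_ker, map_mul, map_inv, ← hu]
        simp only [powMonoidHom_apply]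
        have : Matrix.GeneralLinearGroup.det (Matrix.GeneralLinearGroup.scalar (Fin n) u) = u ^ n := by
          ext; simp [Matrix.det_diagonal]
        rw [this, mul_inv_cancel]
      rw [← LinGrp.range_toGL_eq_ker_det] at hu'
      obtain ⟨A, hA⟩ := hu'
      refine ⟨QuotientGroup.mk A, ?_⟩
      rw [Matrix.ProjectiveSpecialLinearGroup.toPGL_mk, hA]
      simp
    · rintro ⟨y, hy⟩
      obtain ⟨A, rfl⟩ := QuotientGroup.mk_surjective y
      rw [Matrix.ProjectiveSpecialLinearGroup.toPGL_mk, Matrix.ProjGenLinGroup.mk_eq_mk_iff] at hy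
      obtain ⟨u, rfl⟩ := hy
      exact ⟨u, by ext; simp [Matrix.det_diagonal]⟩

end Cfsg.Agent.S0307
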