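import Cfsg.Statements.S0261
import Cfsg.Agent.Lib.InvChar.OneSubgroup
import Cfsg.Agent.Lib.LinearGroups.GL2
import Mathlib


set_option autoImplicit false
open Cfsg

namespace Cfsg.Agent.S0261

open Subgroup

open Matrix in
theorem eq_neg_one_of_orderOf_two {F : Type*} [Field F] (h2 : (2 : F) ≠ 0)
    {x : Matrix.SpecialLinearGroup (Fin 2) F} (hx : orderOf x = 2) : x.1 = -1 := by
  have hsq : x * x = 1 := by
    rw [← pow_two]; exact orderOf_dvd_iff_pow_eq_one.1 (dvd_of_eq hx)
  have hinv : x = x⁻¹ := eq_inv_of_mul_eq_one_left hsq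
  have hadj := congrArg Subtype.val hinv
  rw [Matrix.SpecialLinearGroup.coe_inv, adjugate_fin_two] at hadj
  have h01 := congrFun (congrFun hadj 0) 1
  have h10 := congrFun (congrFun hadj 1) 0
  have h00 := congrFun (congrFun hadj 0) 0
  simp at h01 h10 h00
  have e01 : x.1 0 1 = 0 := by
    have : (2 : F) * x.1 0 1 = 0 := by linear_combination h01
    exact (mul_eq_zero.1 this).resolve_left h2
  have e10 : x.1 1 0 = 0 := by
    have : (2 : F) * x.1 1 0 = 0 := by linear_combination h10
    exact (mul_eq_zero.1 this).resolve_left h2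
  have hd := x.2
  rw [det_fin_two, e01, zero_mul, sub_zero, ← h00] at hd
  rcases mul_self_eq_one_iff.1 hd with h | h
  · exfalso
    have : x = 1 := by
      ext i j
      fin_cases i <;> fin_cases j <;> simp [e01, e10, h, ← h00]
    rw [this, orderOf_one] at hx
    norm_num at hx
  · ext i j
    fin_cases i <;> fin_cases j <;> simp [e01, e10, h, ← h00]

/-- For q odd, the Sylow 2-subgroups of SL_2(q) are generalised quaternion. -/
theorem result {F : Type*} [Field F] [Fintype F] (hF : Odd (Fintype.card F)) (P : Sylow 2 (Matrix.SpecialLinearGroup (Fin 2) F)) : ∃ k : ℕ, 1 ≤ k ∧ Nonempty ((P : Subgroup (Matrix.SpecialLinearGroup (Fin 2) F)) ≃* QuaternionGroup (2 ^ k)) := by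
  classical
  haveI : Fact (Nat.Prime 2) := ⟨Nat.prime_two⟩
  have h2F : (2 : F) ≠ 0 := by
    refine Ring.two_ne_zero fun hc => ?_
    have := FiniteField.even_card_of_char_two hc
    have := Nat.odd_iff.1 hF
    omega
  have key : ∀ x y : (P : Subgroup (Matrix.SpecialLinearGroup (Fin 2) F)),
      orderOf x = 2 → orderOf y = 2 → x = y := by
    intro x y hx hy
    refine Subtype.ext (Subtype.ext ?_)
    rw [eq_neg_one_of_orderOf_two h2F (by rw [Subgroup.orderOf_coe]; exact hx),
      eq_neg_one_of_orderOf_two h2F (by rw [Subgroup.orderOf_coe]; exact hy)]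
  -- a copy of `Q₈`
  obtain ⟨a, b, hab⟩ : ∃ a b : F, a ^ 2 + b ^ 2 = -1 := by
    obtain ⟨a, b, hab⟩ := FiniteField.exists_root_sum_quadratic (R := F)
      (f := Polynomial.X ^ 2) (g := Polynomial.X ^ 2 + 1) (Polynomial.degree_X_pow 2)
      (Polynomial.degree_X_pow_add_C (by norm_num) 1) (Nat.odd_iff.1 hF)
    refine ⟨a, b, ?_⟩
    simp at hab
    linear_combination hab
  let x : Matrix.SpecialLinearGroup (Fin 2) F := ⟨!![0, -1; 1, 0], by simp [Matrix.det_fin_two]⟩
  let y : Matrix.SpecialLinearGroup (Fin 2) F :=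
    ⟨!![a, b; b, -a], by rw [Matrix.det_fin_two_of]; linear_combination -hab⟩
  have hxv : x.1 = !![0, -1; 1, 0] := rfl
  have hyv : y.1 = !![a, b; b, -a] := rfl
  have hx4 : x ^ 4 = 1 := by
    apply Subtype.ext
    rw [Matrix.SpecialLinearGroup.coe_pow, hxv, Matrix.SpecialLinearGroup.coe_one, pow_succ,
      pow_succ, pow_succ, pow_one, Matrix.mul_fin_two, Matrix.mul_fin_two, Matrix.mul_fin_two,
      Matrix.one_fin_two]
    simp
  have hconj : y * x * y⁻¹ = x⁻¹ := by
    rw [mul_inv_eq_iff_eq_mul]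
    apply eq_inv_mul_of_mul_eq
    apply Subtype.ext
    simp only [Matrix.SpecialLinearGroup.coe_mul, hxv, hyv, Matrix.mul_fin_two]
    ext i j
    fin_cases i <;> fin_cases j <;> simp
  have hy2 : y ^ 2 = x ^ 2 := by
    apply Subtype.ext
    simp only [pow_two, Matrix.SpecialLinearGroup.coe_mul, hxv, hyv, Matrix.mul_fin_two]
    ext i j
    fin_cases i <;> fin_cases j <;> simp <;> first | linear_combination hab | ring
  have hncomm : x * y ≠ y * x := by
    intro h
    have h2 : x * x = 1 := by
      rw [mul_inv_eq_iff_eq_mul, ← h] at hconj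
      have := congrArg (fun z => x * z) hconj
      simp only [mul_inv_cancel, ← mul_assoc, one_mul] at this
      exact mul_right_cancel (b := y) (this.trans (one_mul y).symm)
    have := congrFun (congrFun (congrArg Subtype.val h2) 0) 0
    simp [hxv, Matrix.mul_apply, Fin.sum_univ_two] at this
    exact h2F (by linear_combination -this)
  have hp2 : IsPGroup 2 (closure ({x, y} : Set (Matrix.SpecialLinearGroup (Fin 2) F))) := by
    have hxg : IsPGroup 2 (zpowers x) := by
      obtain ⟨i, -, hi⟩ := (Nat.dvd_prime_pow Nat.prime_two).1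
        (show orderOf x ∣ 2 ^ 2 from orderOf_dvd_of_pow_eq_one hx4)
      exact IsPGroup.of_card (n := i) (by rw [Nat.card_zpowers, hi])
    have hyn : zpowers y ≤ normalizer ((zpowers x : Subgroup _) : Set (Matrix.SpecialLinearGroup (Fin 2) F)) := by
      rw [zpowers_le, mem_normalizer_iff]
      have hmap : (zpowers x).map (MulAut.conj y).toMonoidHom = zpowers x := by
        rw [MonoidHom.map_zpowers, ← zpowers_inv]
        simp [hconj]
      intro z
      conv_rhs => rw [← hmap, mem_map_equiv]
      simp [mul_assoc]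
    have hyg : IsPGroup 2 (zpowers y) := by
      obtain ⟨i, -, hi⟩ := (Nat.dvd_prime_pow Nat.prime_two).1
        (show orderOf y ∣ 2 ^ 2 from orderOf_dvd_of_pow_eq_one (by
          rw [show (2 : ℕ) ^ 2 = 2 * 2 from rfl, pow_mul, hy2, ← pow_mul]; exact hx4))
      exact IsPGroup.of_card (n := i) (by rw [Nat.card_zpowers, hi])
    refine (IsPGroup.to_sup_of_normal_right' hyg hxg hyn).to_le ?_
    rw [closure_le]
    rintro z (rfl | rfl)
    · exact mem_sup_right (mem_zpowers x)
    · exact mem_sup_left (mem_zpowers y)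
  obtain ⟨Q, hQ⟩ := hp2.exists_le_sylow
  have hnc : ¬ IsCyclic ↥(P : Subgroup (Matrix.SpecialLinearGroup (Fin 2) F)) := by
    intro hc
    haveI : IsCyclic ↥(Q : Subgroup (Matrix.SpecialLinearGroup (Fin 2) F)) :=
      isCyclic_of_surjective (Sylow.equiv P Q).toMonoidHom (Sylow.equiv P Q).surjective
    have := IsCyclic.isMulCommutative (α := ↥(Q : Subgroup (Matrix.SpecialLinearGroup (Fin 2) F)))
    exact hncomm (congrArg Subtype.val (this.is_comm.comm ⟨x, hQ (subset_closure (by simp))⟩
      ⟨y, hQ (subset_closure (by simp))⟩))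
  rcases InvChar.cyclic_or_quaternion P.isPGroup' (fun H K hH hK => by
      obtain ⟨u, hu⟩ := exists_prime_orderOf_dvd_card' (G := H) 2 (by rw [hH])
      obtain ⟨v, hv⟩ := exists_prime_orderOf_dvd_card' (G := K) 2 (by rw [hK])
      have hg : ∀ (H : Subgroup ↥(P : Subgroup (Matrix.SpecialLinearGroup (Fin 2) F))) (u : H),
          Nat.card H = 2 → orderOf u = 2 → zpowers u.1 = H := fun H u hH hu =>
        eq_of_le_of_card_ge (zpowers_le.2 u.2) (by rw [Nat.card_zpowers, Subgroup.orderOf_coe, hu, hH])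
      rw [← hg H u hH hu, ← hg K v hK hv]
      congr 1
      exact key _ _ (by rw [Subgroup.orderOf_coe]; exact hu) (by rw [Subgroup.orderOf_coe]; exact hv)) with
    hc | ⟨-, n, ⟨e⟩⟩
  · exact absurd hc hnc
  · rcases n with _ | n
    · refine absurd ?_ hnc
      haveI : IsCyclic (QuaternionGroup (2 ^ 0)) := QuaternionGroup.quaternionGroup_one_isCyclic
      exact isCyclic_of_surjective e.symm.toMonoidHom e.symm.surjective
    · exact ⟨n + 1, by omega, ⟨e⟩⟩

end Cfsg.Agent.S0261
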