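import Cfsg.Statements.S0282
import Cfsg.Agent.Lib.LinearGroups.UnitaryOrder
import Cfsg.Agent.Lib.SmallSimple.Basic
import Mathlib


set_option autoImplicit false
open Cfsg

namespace Cfsg.Agent.S0282

open Subgroup

def pairing : Fin 3 → Equiv.Perm (Fin 4)
  | 0 => Equiv.swap 0 1 * Equiv.swap 2 3
  | 1 => Equiv.swap 0 2 * Equiv.swap 1 3
  | 2 => Equiv.swap 0 3 * Equiv.swap 1 2

def pairFun (σ : Equiv.Perm (Fin 4)) (i : Fin 3) : Fin 3 :=
  if (σ * pairing i * σ⁻¹) 0 = 1 then 0 else if (σ * pairing i * σ⁻¹) 0 = 2 then 1 else 2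

theorem pairFun_inv : ∀ σ : Equiv.Perm (Fin 4), ∀ i, pairFun σ⁻¹ (pairFun σ i) = i := by
  decide +kernel

theorem pairFun_mul : ∀ σ τ : Equiv.Perm (Fin 4), ∀ i, pairFun (σ * τ) i = pairFun σ (pairFun τ i) := by
  decide +kernel

theorem pairFun_ker : ∀ σ τ : Equiv.Perm (Fin 4), (∀ i, pairFun σ i = i) → (∀ i, pairFun τ i = i) →
    σ * τ = τ * σ := by
  decide +kernel

theorem sign_ker : ∀ σ τ : Equiv.Perm (Fin 3), Equiv.Perm.sign σ = 1 → Equiv.Perm.sign τ = 1 →
    σ * τ = τ * σ := by
  decide +kernel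

theorem isSolvable_of_comm {G H : Type*} [Group G] [Group H] [Group.IsSolvable H] (f : G →* H)
    (h : ∀ a b, f a = 1 → f b = 1 → a * b = b * a) : Group.IsSolvable G := by
  letI : CommGroup f.ker :=
    { (inferInstance : Group f.ker) with mul_comm := fun a b => Subtype.ext (h a b a.2 b.2) }
  exact solvable_of_ker_le_range f.ker.subtype f (by rw [Subgroup.range_subtype])

theorem isSolvable_perm_three : Group.IsSolvable (Equiv.Perm (Fin 3)) :=
  isSolvable_of_comm Equiv.Perm.sign sign_ker

theorem isSolvable_perm_fin_four : Group.IsSolvable (Equiv.Perm (Fin 4)) := by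
  haveI := isSolvable_perm_three
  let φ : Equiv.Perm (Fin 4) →* Equiv.Perm (Fin 3) := MonoidHom.mk'
    (fun σ => ⟨pairFun σ, pairFun σ⁻¹, pairFun_inv σ, fun i => by
      simpa using pairFun_inv σ⁻¹ i⟩) (fun σ τ => Equiv.ext fun i => pairFun_mul σ τ i)
  exact isSolvable_of_comm φ fun a b ha hb =>
    pairFun_ker a b (fun i => Equiv.ext_iff.1 ha i) (fun i => Equiv.ext_iff.1 hb i)

theorem isSolvable_perm_four {α : Type*} [Finite α] (h : Nat.card α = 1 ∨ Nat.card α = 4) :
    Group.IsSolvable (Equiv.Perm α) := by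
  rcases h with h | h
  · haveI := (Nat.card_eq_one_iff_unique.1 h).1
    infer_instance
  · haveI := isSolvable_perm_fin_four
    exact solvable_of_solvable_injective
      (f := (Finite.equivFinOfCardEq h).permCongrHom.toMonoidHom) (Finite.equivFinOfCardEq h).permCongrHom.injective

theorem isSolvable_of_card_72 {G : Type*} [Group G] [Finite G] (h : Nat.card G = 72) :
    Group.IsSolvable G := by
  haveI : Fact (Nat.Prime 3) := ⟨Nat.prime_three⟩
  haveI : Fact (Nat.Prime 2) := ⟨Nat.prime_two⟩
  obtain ⟨P⟩ : Nonempty (Sylow 3 G) := inferInstance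
  have hP : Nat.card P = 3 ^ 2 :=
    SmallSimple.card_sylow_of_eq (k := 2) (m := 8) P (by rw [h]; norm_num) (by norm_num)
  set N := normalizer ((P : Subgroup G) : Set G) with hN
  have hdvd : Nat.card (Sylow 3 G) ∣ 8 := by
    have h1 := P.card_dvd_index
    have h2 := Subgroup.card_mul_index (P : Subgroup G)
    rw [hP, h] at h2
    rwa [show (P : Subgroup G).index = 8 by omega] at h1
  have key : ∀ n ∈ Nat.divisors 8, n % 3 = 1 → n = 1 ∨ n = 4 := by decide
  have hn := key _ (Nat.mem_divisors.2 ⟨hdvd, by norm_num⟩) (card_sylow_modEq_one 3 G)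
  have hNs : Group.IsSolvable N := by
    let P' : Subgroup N := (P : Subgroup G).subgroupOf N
    haveI : P'.Normal := Subgroup.normal_in_normalizer
    haveI : Group.IsSolvable P' := by
      haveI : Group.IsNilpotent P' :=
        (P.isPGroup'.comap_of_injective N.subtype N.subtype_injective).isNilpotent
      infer_instance
    haveI : Group.IsSolvable (N ⧸ P') := by
      have h1 := SmallSimple.card_sylow_mul P
      rw [← hN, Subgroup.card_eq_card_quotient_mul_card_subgroup P',
        Nat.card_congr (Subgroup.subgroupOfEquivOfLe le_normalizer).toEquiv, hP, h] at h1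
      obtain ⟨i, -, hi⟩ := (Nat.dvd_prime_pow Nat.prime_two).1
        (show Nat.card (N ⧸ P') ∣ 2 ^ 3 from ⟨Nat.card (Sylow 3 G), by linarith⟩)
      haveI := (IsPGroup.of_card hi).isNilpotent
      infer_instance
    exact solvable_of_ker_le_range P'.subtype (QuotientGroup.mk' P') (by
      rw [QuotientGroup.ker_mk', Subgroup.range_subtype])
  let f := MulAction.toPermHom G (Sylow 3 G)
  haveI : Group.IsSolvable (Equiv.Perm (Sylow 3 G)) :=
    isSolvable_perm_four hn
  haveI : Group.IsSolvable f.ker := by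
    have hle : f.ker ≤ N := fun g hg => (Sylow.smul_eq_iff_mem_normalizer).1 (Equiv.ext_iff.1 hg P)
    haveI := hNs
    exact solvable_of_solvable_injective (Subgroup.inclusion_injective hle)
  exact solvable_of_ker_le_range f.ker.subtype f (by rw [Subgroup.range_subtype])

/-- PSU_3(2) is a solvable group of order 72. -/
theorem result {F : Type*} [Field F] [Fintype F] (hF : Fintype.card F = 4) : Nat.card (Cfsg.PSU 3 F 2) = 72 ∧ Group.IsSolvable (Cfsg.PSU 3 F 2) := by
  have hF' : Fintype.card F = 2 ^ 2 := by rw [hF]; norm_num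
  have h := UnitaryOrder.card_PSU hF' 3 (by norm_num)
  rw [UnitaryOrder.card_GU hF' 3] at h
  norm_num [Finset.prod_range_succ, Nat.even_iff] at h
  haveI : Finite (PSU 3 F 2) := inferInstance
  have h72 : Nat.card (PSU 3 F 2) = 72 := by omega
  exact ⟨h72, isSolvable_of_card_72 h72⟩

end Cfsg.Agent.S0282
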