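import Cfsg.Statements.S0296
import Cfsg.Agent.Lib.LinearGroups.OrthSimple
import Cfsg.Agent.Lib.LinearGroups.OrthForms
import Mathlib


set_option autoImplicit false
open Cfsg

namespace Cfsg.Agent.S0296

open Subgroup

/-- PΩ^+_{2m}(q) is simple for m at least 4. -/
theorem result {F : Type*} [Field F] [Fintype F] (m : ℕ) (hm : 4 ≤ m) : IsSimpleGroup (Cfsg.POmega F (Cfsg.quadFormPlus m F)) := by
  have S : QMax.QSetting (OrthOrder.qPlus m F) :=
    ⟨OrthForms.qPlus_nondeg m, by simp [Fintype.card_sum]; omega⟩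
  exact OrthSimple.isSimple_POmega S (funext (OrthOrder.qPlus_apply m))

end Cfsg.Agent.S0296
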