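import Cfsg.Statements.S5148
import Cfsg.Agent.Lib.Fusion.InnerCriteria
import Cfsg.Agent.Lib.Fusion.SolvableSystem
import Cfsg.Agent.Lib.Fusion.Biset
import Cfsg.Agent.Lib.Fusion.Hyperfocal

set_option autoImplicit false
open Cfsg

namespace Cfsg.Agent.S5148

open Cfsg.Agent.Fusion

theorem conj_eq_self {Ω : Type*} [Group Ω] {S : Subgroup Ω} (hab : IsMulCommutative S) {g x : Ω}
    (hg : g ∈ S) (hx : x ∈ S) : g * x * g⁻¹ = x := by
  have h : g * x = x * g := congrArg Subtype.val (hab.is_comm.comm ⟨g, hg⟩ ⟨x, hx⟩)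
  rw [h, mul_inv_cancel_right]

theorem commutator_le_bot {Ω : Type*} [Group Ω] {S : Subgroup Ω} (hab : IsMulCommutative S) :
    ⁅S, S⁆ ≤ (⊥ : Subgroup Ω) := Subgroup.commutator_le.mpr fun x hx y hy => by
  rw [Subgroup.mem_bot, commutatorElement_def, conj_eq_self hab hx hy, mul_inv_cancel]

theorem autFun_eq_self_of_inner {Ω : Type*} [Group Ω] {S : Subgroup Ω} (hab : IsMulCommutative S)
    {P : Subgroup Ω} (hP : P ≤ S) {α : MulAut P} (hα : α ∈ (Cfsg.innerFusionSystem S).autGroup P)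
    {x : Ω} (hx : x ∈ P) : autFun α x = x := by
  obtain ⟨-, g, hg, h⟩ := mapTo_inner_iff.mp (mapTo_of_mem_autGroup hP hα)
  rw [h x hx, conj_eq_self hab hg (hP hx)]

/-- The inner system of an abelian group is normal in every saturated system over it. -/
theorem isNormalIn_inner {Ω : Type*} [Group Ω] {S : Subgroup Ω} [Finite S] {p : ℕ} [Fact p.Prime]
    (hS : IsPGroup p S) (hab : IsMulCommutative S) {E : Cfsg.FusionSystem S} (hE : E.IsSaturated p) :
    (Cfsg.innerFusionSystem S).IsNormalIn E p := by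
  have hsc : E.StronglyClosed S := ⟨le_rfl, fun R _ φ hφ x => (E.le_of_mem hφ).2 x⟩
  have hn := isNormal_of_abelian_stronglyClosed hS hE hsc (commutator_le_bot hab)
  refine ⟨⟨isSaturated_inner hS, hE, fun P φ hφ => inner_le E _ hφ, hsc, ?_, ?_⟩, ?_⟩
  · rintro P hPT φ ⟨-, g, hg, hφg⟩ α -
    refine ⟨((P.subgroupOf S).map (S.subtype.comp α.toMonoidHom)).subtype,
      ⟨?_, 1, one_mem _, fun x => by rw [one_mul, inv_one, mul_one]; rfl⟩, fun x hφx hαx => ?_⟩
    · rintro _ ⟨y, -, rfl⟩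
      exact (α y).2
    · have e : (⟨φ x, hφx⟩ : S) = ⟨x, hPT x.2⟩ :=
        Subtype.ext ((hφg x).trans (conj_eq_self hab hg (hPT x.2)))
      rw [e]
      rfl
  · intro P hP φ hφ
    obtain ⟨g, hg, hgf, hgS⟩ := (isNormal_iff.mp hn).2 P (ev φ) (mapTo_ev hφ)
    have hg' : MapTo E S g := hg.restrict le_sup_right
    refine ⟨autOf hg' hgS, autOf_mem hg' hgS, P.subtype, ⟨hP, 1, one_mem _, fun x => by simp⟩,
      fun x hx => ?_⟩
    rw [← autFun_apply (autOf hg' hgS) hx, autFun_autOf hg' hgS hx]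
    exact ((hgf x x.2).trans (ev_coe φ x)).symm
  · intro α hα
    refine ⟨1, one_mem _, fun x => ?_, fun c _ => ?_⟩
    · have := autFun_eq_self_of_inner hab le_rfl hα x.2
      rw [autFun_apply α x.2] at this
      exact this.symm
    · simp

/-- A quasisimple fusion system over a finite p-group S (saturated, equal to its p-residual subsystem, with simple — in particular nontrivial — factor system modulo its centre) has S nonabelian. -/
theorem result {Ω : Type*} [Group Ω] {S : Subgroup Ω} [Finite S] (p : ℕ) [Fact p.Prime] (hS : IsPGroup p S) (F : Cfsg.FusionSystem S) (hq : F.Quasisimple p) : ¬ IsMulCommutative S := by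
  intro hab
  obtain ⟨hF, hhyp, hsimple⟩ := hq
  set Z := F.center
  have hZc : F.IsCentral Z := isCentral_center F
  set θ := QuotientGroup.mk' (Z.subgroupOf S)
  have hker : kerIn θ = Z := by
    rw [kerIn, QuotientGroup.ker_mk', Subgroup.map_subgroupOf_eq_of_le hZc.1]
  have hsc : F.StronglyClosed (kerIn θ) := hker.symm ▸ IsNormal.stronglyClosed (IsCentral.isNormal hZc)
  have hr : θ.range = ⊤ := MonoidHom.range_eq_top.mpr (QuotientGroup.mk'_surjective _)
  set E := factorSys F θ hr hsc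
  have hfac : F.IsFactorSystem Z θ E := by
    have := isFactorSystem_factorSys F θ hr hsc
    rwa [hker] at this
  obtain ⟨hEsat, hne, hsub⟩ := hsimple E hfac
  haveI : Finite ↥(⊤ : Subgroup (↥S ⧸ Z.subgroupOf S)) := inferInstance
  have hSq : IsPGroup p ↥(⊤ : Subgroup (↥S ⧸ Z.subgroupOf S)) :=
    (hS.to_quotient (Z.subgroupOf S)).to_subgroup ⊤
  have habq : IsMulCommutative ↥(⊤ : Subgroup (↥S ⧸ Z.subgroupOf S)) := by
    refine ⟨⟨fun a b => Subtype.ext ?_⟩⟩
    obtain ⟨x, hx⟩ := QuotientGroup.mk'_surjective (Z.subgroupOf S) (a : ↥S ⧸ Z.subgroupOf S)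
    obtain ⟨y, hy⟩ := QuotientGroup.mk'_surjective (Z.subgroupOf S) (b : ↥S ⧸ Z.subgroupOf S)
    rw [Subgroup.coe_mul, Subgroup.coe_mul, ← hx, ← hy, ← map_mul, ← map_mul, hab.is_comm.comm x y]
  rcases hsub ⊤ _ (isNormalIn_inner hSq habq hEsat) with h | ⟨-, hEq⟩
  · exact hne h
  have htriv : ∀ α ∈ F.autGroup (kerIn θ), α = 1 := by
    intro α hα
    obtain ⟨g, -, hgf, hgQ⟩ := (isCentral_iff.mp hZc).2 _ _ (mapTo_of_mem_autGroup hsc.1 hα)
    refine autFun_ext fun x hx => ?_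
    rw [autFun_one hx, ← hgf x hx]
    exact hgQ x (hker ▸ hx)
  have hinner : F = Cfsg.innerFusionSystem S := eq_inner_of_quotient hS hF
    (IsFactorSystem.isSurjectiveMorphism hS hF (hker ▸ hsc) hfac)
    (hker.symm ▸ IsCentral.isNormal hZc) (fun a => ⟨0, by rw [pow_zero, pow_one]; exact Subtype.ext (htriv _ a.2)⟩)
    hSq (fun R g hg => by
      obtain ⟨φ, hφ, hφg⟩ := hg
      exact ⟨φ, (hEq R).symm ▸ hφ, hφg⟩)
  have hhb : F.hyperfocalSubgroup p ≤ ⊥ := by
    refine (Subgroup.closure_le _).mpr ?_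
    rintro y ⟨P, α, x, hP, -, rfl⟩
    have h1 := autFun_eq_self_of_inner hab hP (α := (α : MulAut P))
      (by rw [← hinner]; exact α.2) x.2
    rw [autFun_apply _ x.2] at h1
    rw [SetLike.mem_coe, Subgroup.mem_bot, h1, inv_mul_cancel]
  rw [hhyp] at hhb
  haveI : Subsingleton ↥S := ⟨fun a b => Subtype.ext
    ((Subgroup.mem_bot.mp (hhb a.2)).trans (Subgroup.mem_bot.mp (hhb b.2)).symm)⟩
  haveI : Subsingleton (↥S ⧸ Z.subgroupOf S) := (QuotientGroup.mk'_surjective _).subsingleton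
  exact hne (Subsingleton.elim _ _)

end Cfsg.Agent.S5148
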