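import Cfsg.Statements.S4279
import Cfsg.Agent.Lib.FGS.G2Involution

set_option autoImplicit false
open Cfsg

namespace Cfsg.Agent.S4279

/-- In the Chevalley group G of type G₂ over a finite field F of odd order q, the centralizer of an involution t has order q²(q² − 1)² and contains two elementwise commuting subgroups, each isomorphic to SL(2, F), which meet exactly in the subgroup generated by t and whose join has index 2 in the centralizer. -/
theorem result {F : Type*} [Field F] [Fintype F] (hF : Odd (Fintype.card F)) (t : ↥(Cfsg.Lie.chevG2.group F)) (ht : orderOf t = 2) : Nat.card (Subgroup.centralizer ({t} : Set ↥(Cfsg.Lie.chevG2.group F))) = Fintype.card F ^ 2 * (Fintype.card F ^ 2 - 1) ^ 2 ∧ ∃ L₁ L₂ : Subgroup ↥(Cfsg.Lie.chevG2.group F), Nonempty (L₁ ≃* Matrix.SpecialLinearGroup (Fin 2) F) ∧ Nonempty (L₂ ≃* Matrix.SpecialLinearGroup (Fin 2) F) ∧ (∀ x ∈ L₁, ∀ y ∈ L₂, x * y = y * x) ∧ L₁ ⊓ L₂ = Subgroup.zpowers t ∧ L₁ ⊔ L₂ ≤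 Subgroup.centralizer ({t} : Set ↥(Cfsg.Lie.chevG2.group F)) ∧ (L₁ ⊔ L₂).relIndex (Subgroup.centralizer ({t} : Set ↥(Cfsg.Lie.chevG2.group F))) = 2 := by
  obtain ⟨g, hg⟩ := isConj_iff.1 (Cfsg.Agent.FGS.G2I.isConj_tt hF t ht).symm
  set f := (MulAut.conj g).toMonoidHom with hf
  have hfi : Function.Injective f := (MulAut.conj g).injective
  have hft : f Cfsg.Agent.FGS.G2I.tt = t := hg
  obtain ⟨hc, hinf, hle, hrel⟩ := Cfsg.Agent.FGS.G2I.mA_mC_facts (F := F) hF
  have hC : (Subgroup.centralizer ({Cfsg.Agent.FGS.G2I.tt} : Set ↥(Cfsg.Lie.chevG2.group F))).map f =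
      Subgroup.centralizer ({t} : Set ↥(Cfsg.Lie.chevG2.group F)) := by
    ext x
    simp only [Subgroup.mem_map, Subgroup.mem_centralizer_singleton_iff]
    constructor
    · rintro ⟨a, ha, rfl⟩
      rw [← hft, ← map_mul, ← map_mul, ha]
    · intro hx
      have hfx : f (g⁻¹ * x * g) = x := by simp [hf]; group
      refine ⟨g⁻¹ * x * g, hfi ?_, hfx⟩
      rw [map_mul f (g⁻¹ * x * g), map_mul f _ (g⁻¹ * x * g), hfx, hft, hx]
  have key : ∀ φ : Matrix.SpecialLinearGroup (Fin 2) F →* ↥(Cfsg.Lie.chevG2.group F), Function.Injective φ →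
      Nonempty (↥(φ.range.map f) ≃* Matrix.SpecialLinearGroup (Fin 2) F) := fun φ hφ =>
    ⟨((Subgroup.equivMapOfInjective _ f hfi).symm.trans (MonoidHom.ofInjective hφ).symm)⟩
  refine ⟨?_, (Cfsg.Agent.FGS.G2I.mA (F := F)).range.map f, (Cfsg.Agent.FGS.G2I.mC (F := F)).range.map f,
    key _ ?_, key _ ?_, ?_, ?_, ?_, ?_⟩
  · rw [← hC, Subgroup.card_map_of_injective hfi, Cfsg.Agent.FGS.G2I.card_centralizer_tt hF]
  · exact fun x y e => Cfsg.Agent.FGS.G2I.phA_injective (congrArg Subtype.val e)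
  · exact fun x y e => Cfsg.Agent.FGS.G2I.phC_injective (congrArg Subtype.val e)
  · rintro _ ⟨a, ha, rfl⟩ _ ⟨b, hb, rfl⟩
    rw [← map_mul, ← map_mul, hc a ha b hb]
  · rw [← Subgroup.map_inf _ _ f hfi, hinf, MonoidHom.map_zpowers, hft]
  · rw [← Subgroup.map_sup, ← hC]; exact Subgroup.map_mono hle
  · rw [← Subgroup.map_sup, ← hC, Subgroup.relIndex_map_map_of_injective _ _ hfi, hrel]

end Cfsg.Agent.S4279
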