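import Cfsg.Statements.S2420
import Mathlib
import Cfsg.Agent.Lib.GLUnipotent.Counting

set_option autoImplicit false
open scoped MatrixGroups
open Cfsg

namespace Cfsg.Agent.S2420

open Matrix

theorem geom_sub (q : ℕ) (hq : 1 ≤ q) (m : ℕ) :
    q ^ m - 1 = (q - 1) * ∑ l ∈ Finset.range m, q ^ l := by
  obtain ⟨q, rfl⟩ : ∃ r, q = r + 1 := ⟨q - 1, by omega⟩
  induction m with
  | zero => simp
  | succ m ih =>
    rw [Finset.sum_range_succ, mul_add, ← ih, Nat.add_sub_cancel, pow_succ]
    have : 1 ≤ (q + 1) ^ m := Nat.one_le_pow _ _ (by omega)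
    nlinarith [Nat.sub_add_cancel this, Nat.sub_add_cancel (le_trans this (Nat.le_mul_of_pos_right _ (Nat.succ_pos q)))]

theorem prod_formula (q : ℕ) (hq : 1 ≤ q) (m : ℕ) :
    ∏ i : Fin m, (q ^ m - q ^ (i : ℕ)) =
      q ^ m.choose 2 * (q - 1) ^ m * ∏ j ∈ Finset.range m, ∑ l ∈ Finset.range (j + 1), q ^ l := by
  induction m with
  | zero => simp
  | succ m ih =>
    rw [Fin.prod_univ_succ, Finset.prod_range_succ]
    have hrest : ∏ i : Fin m, (q ^ (m + 1) - q ^ ((i.succ : Fin (m + 1)) : ℕ)) =
        q ^ m * ∏ i : Fin m, (q ^ m - q ^ (i : ℕ)) := by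
      conv_rhs => rw [show q ^ m = ∏ _i : Fin m, q by simp, ← Finset.prod_mul_distrib]
      refine Finset.prod_congr rfl fun i _ => ?_
      rw [Nat.mul_sub, Finset.prod_const, Finset.card_univ, Fintype.card_fin, ← pow_succ',
        ← pow_succ', Fin.val_succ]
    rw [hrest, ih, Fin.val_zero, pow_zero, geom_sub q hq, Nat.choose_succ_succ' m 1,
      Nat.choose_one_right, pow_add, pow_succ]
    ring

/-- Matrices with invertible determinant. -/
abbrev GLs (I : Type*) [Fintype I] [DecidableEq I] (F : Type*) [CommRing F] :=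
  {A : Matrix I I F // IsUnit A.det}

/-- Units as matrices with invertible determinant. -/
noncomputable def glEquiv (I : Type*) [Fintype I] [DecidableEq I] (F : Type*) [CommRing F] :
    GL I F ≃ GLs I F :=
  Equiv.ofBijective (fun g => ⟨g.1, (Matrix.isUnit_iff_isUnit_det g.1).1 g.isUnit⟩)
    ⟨fun _ _ h => Units.ext (congrArg Subtype.val h),
      fun A => ⟨((Matrix.isUnit_iff_isUnit_det A.1).2 A.2).unit, Subtype.ext rfl⟩⟩

variable {F : Type*} [Field F] [Fintype F]

theorem card_GLs (I : Type*) [Fintype I] [DecidableEq I] :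
    Nat.card (GLs I F) = ∏ i : Fin (Fintype.card I),
      (Fintype.card F ^ Fintype.card I - Fintype.card F ^ (i : ℕ)) := by
  rw [← Nat.card_congr (glEquiv I F), ← Matrix.card_GL_field]
  exact Nat.card_congr
    (Units.mapEquiv (Matrix.reindexAlgEquiv F F (Fintype.equivFin I)).toMulEquiv).toEquiv

variable {n : ℕ} (b : Fin n → Fin n)

/-- The invertible block triangular matrices. -/
abbrev Par (F : Type*) [Field F] := {M : GLs (Fin n) F // M.1.BlockTriangular b}

/-- The positions above the blocks. -/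
abbrev Above := {x : Fin n × Fin n // b x.1 < b x.2}

theorem card_par : Nat.card (Par b F) =
    (∏ k : Fin n, Nat.card (GLs {i : Fin n // b i = k} F)) *
      Fintype.card F ^ Nat.card (Above b) := by
  classical
  have blockOf : ∀ M : Par b F, ∀ k, IsUnit (M.1.1.toSquareBlock b k).det := fun M k => by
    have h := M.1.2
    rw [Matrix.BlockTriangular.det_fintype M.2, isUnit_iff_ne_zero, Finset.prod_ne_zero_iff] at h
    exact isUnit_iff_ne_zero.2 (h k (Finset.mem_univ k))
  let mk : (∀ k, GLs {i : Fin n // b i = k} F) × (Above b → F) → Matrix (Fin n) (Fin n) F :=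
    fun d i j => if h : b i < b j then d.2 ⟨(i, j), h⟩
      else if h' : b j = b i then (d.1 (b i)).1 ⟨i, rfl⟩ ⟨j, h'⟩ else 0
  have htri : ∀ d, (mk d).BlockTriangular b := fun d i j h => by
    simp only [mk, dif_neg (not_lt_of_gt h), dif_neg h.ne]
  have hblk : ∀ d k, (mk d).toSquareBlock b k = (d.1 k).1 := by
    intro d k
    ext ⟨i, rfl⟩ ⟨j, hj⟩
    show mk d i j = _
    simp only [mk, hj, lt_self_iff_false, dite_false, dite_true]
  have hdet : ∀ d, IsUnit (mk d).det := fun d => by
    rw [Matrix.BlockTriangular.det_fintype (htri d), isUnit_iff_ne_zero, Finset.prod_ne_zero_iff]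
    intro k _
    rw [hblk]
    exact isUnit_iff_ne_zero.1 (d.1 k).2
  let e : Par b F ≃ (∀ k, GLs {i : Fin n // b i = k} F) × (Above b → F) :=
    { toFun := fun M => (fun k => ⟨_, blockOf M k⟩, fun x => M.1.1 x.1.1 x.1.2)
      invFun := fun d => ⟨⟨mk d, hdet d⟩, htri d⟩
      left_inv := fun M => by
        apply Subtype.ext
        apply Subtype.ext
        ext i j
        simp only [mk]
        by_cases h : b i < b j
        · rw [dif_pos h]
        · rw [dif_neg h]
          by_cases h' : b j = b i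
          · rw [dif_pos h']; rfl
          · rw [dif_neg h']
            exact (M.2 (lt_of_le_of_ne (not_lt.1 h) h')).symm
      right_inv := fun d => by
        apply Prod.ext
        · funext k
          exact Subtype.ext (hblk d k)
        · funext x
          show mk d x.1.1 x.1.2 = _
          simp only [mk, dif_pos x.2] }
  rw [Nat.card_congr e, Nat.card_prod, Nat.card_pi, Nat.card_fun, Nat.card_eq_fintype_card (α := F)]

theorem card_above_add (c : Fin n → ℕ) (hc : ∀ k, Nat.card {i : Fin n // b i = k} = c k)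
    (hsum : ∑ k, c k = n) : Nat.card (Above b) + ∑ k, (c k).choose 2 = n.choose 2 := by
  classical
  have htot : Nat.card (Above b) + Nat.card {x : Fin n × Fin n // b x.1 = b x.2} +
      Nat.card {x : Fin n × Fin n // b x.2 < b x.1} = n * n := by
    simp only [Nat.card_eq_fintype_card, Fintype.card_subtype]
    rw [← Finset.card_union_of_disjoint, ← Finset.card_union_of_disjoint,
      show _ ∪ _ ∪ _ = (Finset.univ : Finset (Fin n × Fin n)) from ?_, Finset.card_univ,
      Fintype.card_prod, Fintype.card_fin]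
    · ext x
      simp only [Finset.mem_union, Finset.mem_filter, Finset.mem_univ, true_and, iff_true]
      rcases lt_trichotomy (b x.1) (b x.2) with h | h | h <;> simp [h]
    · rw [Finset.disjoint_union_left]
      constructor <;> rw [Finset.disjoint_filter] <;> intro x _ h1 h2
      · exact absurd h2 (not_lt_of_gt h1)
      · exact absurd h2 (by rw [h1]; exact lt_irrefl _)
    · rw [Finset.disjoint_filter]
      intro x _ h1 h2
      exact absurd h1 (by rw [h2]; exact lt_irrefl _)
  have hsw : Nat.card {x : Fin n × Fin n // b x.2 < b x.1} = Nat.card (Above b) :=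
    Nat.card_congr ((Equiv.prodComm _ _).subtypeEquiv fun _ => Iff.rfl)
  have heq : Nat.card {x : Fin n × Fin n // b x.1 = b x.2} = ∑ k, c k * c k := by
    let e : {x : Fin n × Fin n // b x.1 = b x.2} ≃
        Σ k : Fin n, {i : Fin n // b i = k} × {i : Fin n // b i = k} :=
      { toFun := fun x => ⟨b x.1.1, ⟨x.1.1, rfl⟩, ⟨x.1.2, x.2.symm⟩⟩
        invFun := fun y => ⟨(y.2.1.1, y.2.2.1), y.2.1.2.trans y.2.2.2.symm⟩
        left_inv := fun _ => rfl
        right_inv := fun y => by obtain ⟨k, ⟨i, rfl⟩, ⟨j, hj⟩⟩ := y; rfl }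
    rw [Nat.card_congr e, Nat.card_sigma]
    simp only [Nat.card_prod, hc]
  have h2 : ∀ m : ℕ, 2 * m.choose 2 + m = m * m := by
    intro m
    induction m with
    | zero => rfl
    | succ m ih => rw [Nat.choose_succ_succ' m 1, Nat.choose_one_right]; ring_nf; ring_nf at ih; omega
  have hs := Finset.sum_congr rfl (fun k (_ : k ∈ Finset.univ) => h2 (c k))
  rw [Finset.sum_add_distrib, ← Finset.mul_sum, hsum] at hs
  have hn := h2 n
  omega

/-- The number of partial flags of a given type: for a composition `μ` of `n` (with `n` parts, zeros allowed) and a field with `q` elements, the index of the standard parabolic subgroup `P_μ` in `GL_n(q)` times `∏_i {μ_i}` equals `{n}`, where `{r}` denotes the product over `k = 1, …, r` of the q-integers `1 + q + ⋯ + q^(k−1)`. -/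
theorem result {F : Type*} [Field F] [Fintype F] {q : ℕ} (hq : Fintype.card F = q) {n : ℕ} (μ : Fin n → ℕ) (hμ : ∑ i, μ i = n) :
    Nat.card (GL (Fin n) F ⧸ Cfsg.parabolicGL n F μ) * ∏ i : Fin n, ∏ j ∈ Finset.range (μ i), ∑ l ∈ Finset.range (j + 1), q ^ l =
      ∏ j ∈ Finset.range n, ∑ l ∈ Finset.range (j + 1), q ^ l := by
  classical
  have hq1 : 1 < q := hq ▸ Fintype.one_lt_card
  set b := Cfsg.Agent.GLUnipotent.blk μ hμ with hb
  have hc : ∀ k, Nat.card {i : Fin n // b i = k} = μ k := Cfsg.Agent.GLUnipotent.card_fiber_blk μ hμ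
  have hpar : Nat.card (Cfsg.parabolicGL n F μ) = Nat.card (Par b F) := by
    refine Nat.card_congr ((glEquiv (Fin n) F).subtypeEquiv fun g => ?_)
    show (g.1.BlockTriangular (Cfsg.compLabel μ)) ↔ g.1.BlockTriangular b
    exact ⟨fun h i j hij => h (by exact hij), fun h i j hij => h (by exact hij)⟩
  have hP : Nat.card (Cfsg.parabolicGL n F μ) = q ^ n.choose 2 * (q - 1) ^ n *
      ∏ i : Fin n, ∏ j ∈ Finset.range (μ i), ∑ l ∈ Finset.range (j + 1), q ^ l := by
    rw [hpar, card_par, hq, ← card_above_add b μ hc hμ]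
    have : ∀ k, Nat.card (GLs {i : Fin n // b i = k} F) = q ^ (μ k).choose 2 * (q - 1) ^ μ k *
        ∏ j ∈ Finset.range (μ k), ∑ l ∈ Finset.range (j + 1), q ^ l := fun k => by
      rw [card_GLs, hq, prod_formula q hq1.le, show Fintype.card {i : Fin n // b i = k} = μ k by
        rw [← Nat.card_eq_fintype_card, hc]]
    simp only [this, Finset.prod_mul_distrib, Finset.prod_pow_eq_pow_sum, hμ, pow_add]
    ring
  have h := (Cfsg.parabolicGL n F μ).index_mul_card
  rw [hP, Matrix.card_GL_field, hq, prod_formula q hq1.le] at h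
  have hpos : 0 < q ^ n.choose 2 * (q - 1) ^ n :=
    Nat.mul_pos (pow_pos (by omega) _) (pow_pos (by omega) _)
  refine Nat.eq_of_mul_eq_mul_left hpos ?_
  rw [← h]
  show _ * (Subgroup.index _ * _) = _
  ring

end Cfsg.Agent.S2420
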