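import Cfsg.Statements.S1565
import Cfsg.Agent.Lib.Golay.MaxData
import Cfsg.Agent.Lib.Golay.StepsA

set_option autoImplicit false
open scoped Pointwise
open Cfsg

namespace Cfsg.Agent.S1565

open scoped Pointwise
open Cfsg.Agent.Golay24

attribute [local irreducible] weightList codeList combTo

/-- The stabiliser of an octad is a maximal proper subgroup of the group of the length-24 code. -/
theorem result (o : Finset Cfsg.GolayPt) (ho : o ∈ Cfsg.octads) : IsCoatom (MulAction.stabilizer Cfsg.M24 o) := by
  obtain ⟨σ, hσ⟩ := carries_octad ho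
  refine isCoatom_stabilizer_of_grow hσ ?_ fun g hg hne => ?_
  · refine ⟨toPerm octGrow0.g, toPerm_mem_M24 (by decide +kernel), fun e => ?_⟩
    rw [smul_setOf (by decide +kernel)] at e
    exact absurd (setOf_inj (by decide +kernel) (by decide +kernel) e) (by decide +kernel)
  have h0 : Golay24.setOf m24Octad ∈ octads := setOf_mem_octads (by decide +kernel)
  have hgo := smul_mem_octads hg h0
  have h1 : Carries 1 [m24Octad] [Golay24.setOf m24Octad] := ⟨M24.one_mem, by simp⟩
  have hmem : ∀ k, (Golay24.setOf m24Octad ∩ g • Golay24.setOf m24Octad).card = k →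
      maskOf (g • Golay24.setOf m24Octad) ∈ cutList (weightList 8) ([m24Octad].zip [k]) := fun k hk => by
    have := (mem_cutList_carries (x := g • Golay24.setOf m24Octad) (ks := [k]) h1 (by rfl)).2
      ⟨(inv_smul_mem_octads_iff M24.one_mem _).2 hgo, by simp [hk]⟩
    simpa using this
  rcases card_octad_inter_cases h0 hgo with h | h | h | h
  · exact ⟨octOct0, octGrow0, _, by decide +kernel, by decide +kernel, hmem 0 h⟩
  · exact ⟨octOct2, octGrow2, _, by decide +kernel, by decide +kernel, hmem 2 h⟩
  · exact ⟨octOct4, octGrow4, _, by decide +kernel, by decide +kernel, hmem 4 h⟩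
  · exact absurd h.symm hne

end Cfsg.Agent.S1565
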