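import Cfsg.Statements.S0672
import Cfsg.Agent.Lib.PermGp.Burnside
import Cfsg.Agent.Lib.PermGp.MultiTrans

set_option autoImplicit false
open Cfsg

namespace Cfsg.Agent.S0672

open scoped Pointwise


/-- Let a finite group act faithfully and doubly transitively with point stabilisers of even order, and let `K` have characteristic `p` dividing the degree. If the heart of the permutation module admits no non-zero equivariant map to the permutation module on unordered pairs (phrased: every intertwining map from the sum-zero functions vanishing on the constants is zero), the action is triply transitive. -/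
theorem result {G : Type*} [Group G] [Finite G] {K : Type*} [Field K] {p : ℕ} [Fact p.Prime] [CharP K p] {Ω : Type*} [Fintype Ω] [DecidableEq Ω] [MulAction G Ω] [FaithfulSMul G Ω] (h2 : MulAction.IsMultiplyPretransitive G Ω 2) (hp : p ∣ Fintype.card Ω) (heven : ∀ a : Ω, Even (Nat.card (MulAction.stabilizer G a))) (h : ∀ f : Representation.IntertwiningMap (Cfsg.permSumZero K G Ω).toRepresentation (Cfsg.permRep K G (Set.powersetCard Ω 2)), (∀ v : (Cfsg.permSumZero K G Ω).toSubmodule, (v : Ω → K) ∈ (Cfsg.permConstants K G Ω).toSubmodule → f v = 0) → f = 0) : MulAction.IsMultiplyPretransitive G Ω 3 := by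
  classical
  have : MulAction.IsPretransitive G Ω := MulAction.isPretransitive_of_is_two_pretransitive
  -- every invariant zero-sum function of a pair stabiliser is constant
  have hphi : ∀ (a b : Ω), a ≠ b → ∀ φ : Ω → K,
      (∀ g : G, ({g • a, g • b} : Finset Ω) = {a, b} → ∀ z, φ (g • z) = φ z) → ∑ z, φ z = 0 →
      ∀ z, φ z = φ a := by
    intro a b hab φ hφ hsum z
    by_contra hz
    have htr : ∀ T : Set.powersetCard Ω 2, ∃ g : G, (T : Finset Ω) = {g • a, g • b} := by
      intro T
      obtain ⟨c, d, hcd, hT⟩ := Finset.card_eq_two.mp T.2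
      obtain ⟨g, g1, g2⟩ := PermGp.two_trans_exists h2 hab hcd
      exact ⟨g, by rw [g1, g2]; exact hT⟩
    choose τ hτ using htr
    have hwd : ∀ (g g' : G), ({g • a, g • b} : Finset Ω) = {g' • a, g' • b} →
        ∀ x, φ (g⁻¹ • x) = φ (g'⁻¹ • x) := by
      intro g g' hgg x
      have himg : ({(g⁻¹ * g') • a, (g⁻¹ * g') • b} : Finset Ω) = {a, b} := by
        have h1 := congrArg (fun s : Finset Ω => s.image (fun w => g⁻¹ • w)) hgg
        simp only [Finset.image_insert, Finset.image_singleton, inv_smul_smul] at h1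
        simp only [mul_smul]
        exact h1.symm
      have := hφ (g⁻¹ * g') himg (g'⁻¹ • x)
      rw [mul_smul, smul_inv_smul] at this
      exact this
    let Φ : (Ω → K) →ₗ[K] (Set.powersetCard Ω 2 → K) :=
      LinearMap.pi fun T => ∑ x : Ω, φ ((τ T)⁻¹ • x) • LinearMap.proj x
    have hΦ : ∀ (v : Ω → K) T, Φ v T = ∑ x, φ ((τ T)⁻¹ • x) * v x := fun v T => by
      simp [Φ]
    have hcoe : ∀ (g : G) (T : Set.powersetCard Ω 2) (c d : Ω), (T : Finset Ω) = {c, d} →
        ((g • T : Set.powersetCard Ω 2) : Finset Ω) = {g • c, g • d} := by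
      intro g T c d hT
      rw [Set.powersetCard.coe_smul, hT, Finset.smul_finset_def, Finset.image_insert, Finset.image_singleton]
    let F : Representation.IntertwiningMap (Cfsg.permSumZero K G Ω).toRepresentation
        (Cfsg.permRep K G (Set.powersetCard Ω 2)) :=
      { toLinearMap := Φ.comp (Cfsg.permSumZero K G Ω).toSubmodule.subtype
        isIntertwining' := fun g => by
          refine LinearMap.ext fun v => funext fun T => ?_
          show Φ (Cfsg.permRep K G Ω g (v : Ω → K)) T = Φ (v : Ω → K) (g⁻¹ • T)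
          rw [hΦ, hΦ]
          refine Fintype.sum_equiv (MulAction.toPerm g⁻¹) _ _ fun x => ?_
          rw [MulAction.toPerm_apply, PermGp.permRep_apply]
          congr 1
          have hset : ({τ (g⁻¹ • T) • a, τ (g⁻¹ • T) • b} : Finset Ω) =
              {(g⁻¹ * τ T) • a, (g⁻¹ * τ T) • b} := by
            rw [← hτ, hcoe g⁻¹ T _ _ (hτ T), mul_smul, mul_smul]
          rw [hwd _ _ hset, mul_inv_rev, inv_inv, mul_smul, smul_inv_smul] }
    have hF : F = 0 := h F fun v hv => by
      obtain ⟨c, hc⟩ := PermGp.mem_permConstants.mp hv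
      funext T
      show Φ (v : Ω → K) T = 0
      rw [hΦ]
      simp only [hc, ← Finset.sum_mul]
      rw [show ∑ x, φ ((τ T)⁻¹ • x) = ∑ x, φ x from
        Fintype.sum_equiv (MulAction.toPerm (τ T)⁻¹) _ _ fun x => rfl, hsum, zero_mul]
    let u : Ω → K := Pi.single z 1 - Pi.single a 1
    have hu : u ∈ (Cfsg.permSumZero K G Ω).toSubmodule := by
      rw [PermGp.mem_permSumZero]
      simp [u]
    let T₀ : Set.powersetCard Ω 2 := ⟨{a, b}, Finset.card_pair hab⟩
    have hval : Φ u T₀ = 0 := by
      have := congrFun (congrArg (fun F' : Representation.IntertwiningMap _ _ => F'.toLinearMap ⟨u, hu⟩) hF) T₀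
      exact this
    rw [hΦ] at hval
    have hone : ∀ x, φ ((τ T₀)⁻¹ • x) = φ x := fun x => by
      have := hwd (τ T₀) 1 (by rw [one_smul, one_smul, ← hτ]) x
      rwa [inv_one, one_smul] at this
    simp only [hone, u, Pi.sub_apply, mul_sub, Finset.sum_sub_distrib, Pi.single_apply, mul_ite, mul_one,
      mul_zero, Finset.sum_ite_eq', Finset.mem_univ, if_true] at hval
    exact hz (sub_eq_zero.mp hval)
  -- so a pair stabiliser is transitive outside the pair
  have htrans : ∀ a b x y : Ω, a ≠ b → x ≠ a → x ≠ b → y ≠ a → y ≠ b →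
      ∃ g : G, ({g • a, g • b} : Finset Ω) = {a, b} ∧ g • x = y := by
    intro a b x y hab hxa hxb hya hyb
    by_contra hcon
    push Not at hcon
    let O : Finset Ω := Finset.univ.filter fun w => ∃ g : G, ({g • a, g • b} : Finset Ω) = {a, b} ∧ g • x = w
    have hxO : x ∈ O := by
      simp only [O, Finset.mem_filter, Finset.mem_univ, true_and]
      exact ⟨1, by simp, one_smul _ _⟩
    have hyO : y ∉ O := by
      simp only [O, Finset.mem_filter, Finset.mem_univ, true_and, not_exists, not_and]
      exact fun g hg => hcon g hg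
    have hstab : ∀ g : G, ({g • a, g • b} : Finset Ω) = {a, b} →
        ∀ w, (g • w ∈ ({a, b} : Finset Ω) ↔ w ∈ ({a, b} : Finset Ω)) := by
      intro g hg w
      conv_lhs => rw [← hg]
      simp [smul_left_cancel_iff]
    have haO : a ∉ O ∧ b ∉ O := by
      constructor <;>
      · simp only [O, Finset.mem_filter, Finset.mem_univ, true_and, not_exists, not_and]
        intro g hg hgx
        have := (hstab g hg x).mp (by rw [hgx]; simp)
        simp only [Finset.mem_insert, Finset.mem_singleton] at this
        exact this.elim hxa hxb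
    have hOinv : ∀ g : G, ({g • a, g • b} : Finset Ω) = {a, b} → ∀ w, (g • w ∈ O ↔ w ∈ O) := by
      have hcomp : ∀ g k : G, ({g • a, g • b} : Finset Ω) = {a, b} →
          ({k • a, k • b} : Finset Ω) = {a, b} → ({(g * k) • a, (g * k) • b} : Finset Ω) = {a, b} := by
        intro g k hg hk
        have e := congrArg (fun s : Finset Ω => s.image (fun w => g • w)) hk
        simp only [Finset.image_insert, Finset.image_singleton] at e
        rw [mul_smul, mul_smul, e, hg]
      intro g hg w
      simp only [O, Finset.mem_filter, Finset.mem_univ, true_and]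
      have hg' : ({g⁻¹ • a, g⁻¹ • b} : Finset Ω) = {a, b} := by
        have h1 := congrArg (fun s : Finset Ω => s.image (fun w => g⁻¹ • w)) hg
        simp only [Finset.image_insert, Finset.image_singleton, inv_smul_smul] at h1
        exact h1.symm
      constructor
      · rintro ⟨k, hk, hkx⟩
        exact ⟨g⁻¹ * k, hcomp _ _ hg' hk, by rw [mul_smul, hkx, inv_smul_smul]⟩
      · rintro ⟨k, hk, hkx⟩
        exact ⟨g * k, hcomp _ _ hg hk, by rw [mul_smul, hkx]⟩
    obtain ⟨φ, hinv, hsum, hne⟩ : ∃ φ : Ω → K,
        (∀ g : G, ({g • a, g • b} : Finset Ω) = {a, b} → ∀ w, φ (g • w) = φ w) ∧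
          ∑ w, φ w = 0 ∧ ∃ w, φ w ≠ φ a := by
      have hp1 : ∑ w : Ω, (if w ∈ ({a, b} : Finset Ω) then (1 : K) else 0) = 2 := by
        rw [Finset.sum_ite_mem, Finset.univ_inter, Finset.sum_pair hab, one_add_one_eq_two]
      have hp2 : ∑ w : Ω, (if w ∈ O then (1 : K) else 0) = O.card := by
        rw [Finset.sum_ite_mem, Finset.univ_inter, Finset.sum_const, nsmul_eq_mul, mul_one]
      by_cases h20 : (2 : K) = 0
      · refine ⟨fun w => if w ∈ ({a, b} : Finset Ω) then 1 else 0,
          fun g hg w => by simp only [hstab g hg w], ?_, ⟨x, ?_⟩⟩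
        · exact hp1.trans h20
        · simp [hxa, hxb]
      · refine ⟨fun w => (O.card : K) * (if w ∈ ({a, b} : Finset Ω) then 1 else 0) -
            2 * (if w ∈ O then 1 else 0), fun g hg w => by simp only [hstab g hg w, hOinv g hg w], ?_, ?_⟩
        · rw [Finset.sum_sub_distrib, ← Finset.mul_sum, ← Finset.mul_sum, hp1, hp2, mul_comm, sub_self]
        · by_cases hO : (O.card : K) = 0
          · exact ⟨x, by simp [hO, hxO, haO.1, h20]⟩
          · exact ⟨y, by simp [hya, hyb, hyO, haO.1, Ne.symm hO]⟩
    obtain ⟨w, hw⟩ := hne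
    exact hw (hphi a b hab φ hinv hsum w)
  -- an involution fixing a point exchanges a pair, so the two-point stabiliser is transitive
  refine PermGp.mt_of_fix fun s hs x y hx hy => ?_
  interval_cases hc : s.card
  · obtain ⟨g, hg⟩ := MulAction.exists_smul_eq G x y
    exact ⟨g, fun z hz => by simp [Finset.card_eq_zero.mp hc] at hz, hg⟩
  · obtain ⟨a, rfl⟩ := Finset.card_eq_one.mp hc
    simp only [Finset.mem_singleton] at hx hy
    obtain ⟨g, g1, g2⟩ := PermGp.two_trans_exists h2 (Ne.symm hx) (Ne.symm hy)
    exact ⟨g, fun z hz => by rw [Finset.mem_singleton.mp hz, g1], g2⟩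
  · obtain ⟨a, b, hab, rfl⟩ := Finset.card_eq_two.mp hc
    simp only [Finset.mem_insert, Finset.mem_singleton, not_or] at hx hy
    haveI := Fact.mk Nat.prime_two
    obtain ⟨⟨t, htz⟩, ht⟩ := exists_prime_orderOf_dvd_card' (G := MulAction.stabilizer G a) 2 (heven a).two_dvd
    have ht' : orderOf t = 2 := by rw [← Subgroup.orderOf_mk t htz]; exact ht
    obtain ⟨c, htc⟩ : ∃ c : Ω, t • c ≠ c := by
      by_contra! hall
      have : t = 1 := FaithfulSMul.eq_of_smul_eq_smul (α := Ω) fun w => by rw [hall w, one_smul]
      simp [this] at ht'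
    have htt : t • t • c = c := by rw [← mul_smul, ← pow_two, ← ht', pow_orderOf_eq_one, one_smul]
    have hta : t • a = a := htz
    obtain ⟨q, q1, q2⟩ := PermGp.two_trans_exists h2 (Ne.symm htc) hab
    -- the conjugate involution exchanges the pair and fixes `z`
    set z := q • a
    have hz : z ≠ a ∧ z ≠ b := by
      refine ⟨fun h => ?_, fun h => ?_⟩
      · rw [← q1] at h
        exact htc (by rw [← MulAction.injective q h, hta])
      · rw [← q2] at h
        have h1 := MulAction.injective q h
        have h2' := congrArg (fun w => t • w) h1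
        simp only [hta, htt] at h2'
        exact htc (by rw [← h2', hta])
    have st : (q * t * q⁻¹) • a = b ∧ (q * t * q⁻¹) • b = a ∧ (q * t * q⁻¹) • z = z := by
      refine ⟨?_, ?_, ?_⟩
      · nth_rewrite 1 [← q1]; rw [mul_smul, mul_smul, inv_smul_smul, q2]
      · nth_rewrite 1 [← q2]; rw [mul_smul, mul_smul, inv_smul_smul, htt, q1]
      · rw [mul_smul, mul_smul, inv_smul_smul, hta]
    have hzto : ∀ w, w ≠ a → w ≠ b → ∃ g : G, g • a = a ∧ g • b = b ∧ g • z = w := by
      intro w hwa hwb
      obtain ⟨g, hg, hgz⟩ := htrans a b z w hab hz.1 hz.2 hwa hwb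
      have hga : g • a = a ∨ g • a = b := by
        have : g • a ∈ ({a, b} : Finset Ω) := hg ▸ Finset.mem_insert_self _ _
        simpa using this
      have hgb : g • b = a ∨ g • b = b := by
        have : g • b ∈ ({a, b} : Finset Ω) :=
          hg ▸ Finset.mem_insert_of_mem (Finset.mem_singleton_self _)
        simpa using this
      rcases hga with hga | hga
      · exact ⟨g, hga, hgb.resolve_left fun h => hab (MulAction.injective g (hga.trans h.symm)), hgz⟩
      · refine ⟨g * (q * t * q⁻¹), ?_, ?_, ?_⟩
        · rw [mul_smul, st.1]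
          exact hgb.resolve_right fun h => hab (MulAction.injective g (hga.trans h.symm))
        · rw [mul_smul, st.2.1, hga]
        · rw [mul_smul, st.2.2, hgz]
    obtain ⟨g, g1, g2, g3⟩ := hzto x hx.1 hx.2
    obtain ⟨k, k1, k2, k3⟩ := hzto y hy.1 hy.2
    refine ⟨k * g⁻¹, fun w hw => ?_, by rw [mul_smul, ← g3, inv_smul_smul, k3]⟩
    simp only [Finset.mem_insert, Finset.mem_singleton] at hw
    rcases hw with rfl | rfl
    · rw [mul_smul, inv_smul_eq_iff.mpr g1.symm, k1]
    · rw [mul_smul, inv_smul_eq_iff.mpr g2.symm, k2]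

end Cfsg.Agent.S0672
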