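import Cfsg.Statements.S0676
import Cfsg.Agent.Lib.PermGp.Burnside
import Cfsg.Agent.S0672

set_option autoImplicit false
open Cfsg

namespace Cfsg.Agent.S0676

open scoped Pointwise


/-- A non-solvable transitive permutation group of prime degree `p` whose Sylow `p`-normaliser has even order is triply transitive. -/
theorem result {α : Type*} [Fintype α] [DecidableEq α] {p : ℕ} [Fact p.Prime] (hα : Fintype.card α = p) (G : Subgroup (Equiv.Perm α)) [MulAction.IsPretransitive G α] (hG : ¬ Group.IsSolvable G) (P : Sylow p G) (heven : Even (Nat.card (Subgroup.normalizer ((P : Subgroup G) : Set G)))) : MulAction.IsMultiplyPretransitive G α 3 := by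
  classical
  have hp5 := PermGp.five_le_of_not_solvable hα G hG
  have h2 := PermGp.two_transitive_of_not_solvable hα G hG
  obtain ⟨x, e, hP, hx⟩ := PermGp.exists_frame hα G P
  -- an involution of the normaliser negates the coordinate
  haveI := Fact.mk Nat.prime_two
  obtain ⟨⟨t, htN⟩, ht⟩ := exists_prime_orderOf_dvd_card'
    (G := Subgroup.normalizer ((P : Subgroup G) : Set G)) 2 heven.two_dvd
  have ht' : orderOf t = 2 := by rw [← Subgroup.orderOf_mk t htN]; exact ht
  obtain ⟨k, b, hk0, htk⟩ := PermGp.normalizer_affine hα G hP hx htN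
  have htt : t * t = 1 := by rw [← pow_two, ← ht', pow_orderOf_eq_one]
  have hkk : ∀ i, k * (k * i + b) + b = i := by
    intro i
    apply e.injective
    rw [← htk, ← htk, ← mul_smul, htt, one_smul]
  have hk : k = -1 := by
    have h0 := hkk 0
    have h1 := hkk 1
    have hk2 : (k - 1) * (k + 1) = 0 := by linear_combination h1 - h0
    rcases mul_eq_zero.mp hk2 with h | h
    · exfalso
      have hk1 : k = 1 := sub_eq_zero.mp h
      subst hk1
      have hb : (2 : ZMod p) * b = 0 := by linear_combination h0
      have h2ne : (2 : ZMod p) ≠ 0 := by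
        intro h2'
        have h2'' : ((2 : ℕ) : ZMod p) = 0 := by exact_mod_cast h2'
        rw [ZMod.natCast_eq_zero_iff] at h2''
        have := Nat.le_of_dvd (by norm_num) h2''
        omega
      have hb0 : b = 0 := (mul_eq_zero.mp hb).resolve_left h2ne
      have : t = 1 := PermGp.perm_ext fun y => by
        obtain ⟨i, rfl⟩ := e.surjective y
        rw [one_smul, htk, hb0, one_mul, add_zero]
      simp [this] at ht'
    · exact eq_neg_of_add_eq_zero_left h
  have heven' : ∀ a : α, Even (Nat.card (MulAction.stabilizer G a)) := by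
    intro a
    have h1 := PermGp.card_mul_card_stabilizer (G := G) a
    rw [Nat.card_eq_fintype_card (α := α), hα] at h1
    have h2 : 2 ∣ p * Nat.card (MulAction.stabilizer G a) := by
      rw [h1]; exact heven.two_dvd.trans (Subgroup.card_subgroup_dvd_card _)
    exact even_iff_two_dvd.mpr (((Nat.coprime_primes Nat.prime_two Fact.out).mpr (by omega)).dvd_of_dvd_mul_left h2)
  refine Cfsg.Agent.S0672.result (K := ZMod p) (p := p) h2 (by rw [hα]) heven' ?_
  set U := Cfsg.permSumZero (ZMod p) G α with hU
  set C := Cfsg.permConstants (ZMod p) G α with hCdef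
  intro f hfC
  have hCU : C.toSubmodule ≤ U.toSubmodule := PermGp.constants_le_sumZero (f := 1) le_rfl (by rw [pow_one]; exact hα)
  have hfeq : ∀ (g : G) (v : U.toSubmodule),
      f ⟨Cfsg.permRep (ZMod p) G α g v, U.apply_mem_toSubmodule g v.2⟩ =
        Cfsg.permRep (ZMod p) G (Set.powersetCard α 2) g (f v) := fun g v =>
    LinearMap.congr_fun (f.isIntertwining' g) v
  let W : Subrepresentation (Cfsg.permRep (ZMod p) G α) :=
    { toSubmodule := Submodule.map U.toSubmodule.subtype (LinearMap.ker f.toLinearMap)
      apply_mem_toSubmodule := by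
        rintro g _ ⟨v, hv, rfl⟩
        refine ⟨⟨Cfsg.permRep (ZMod p) G α g v, U.apply_mem_toSubmodule g v.2⟩, ?_, rfl⟩
        have hv' : f v = 0 := hv
        show f _ = 0
        rw [hfeq g v, hv', map_zero] }
  have hWU : W.toSubmodule ≤ U.toSubmodule := by
    rintro _ ⟨v, _, rfl⟩; exact v.2
  have hCW : C.toSubmodule ≤ W.toSubmodule := fun v hv =>
    ⟨⟨v, hCU hv⟩, hfC ⟨v, hCU hv⟩ hv, rfl⟩
  rcases PermGp.heart_irreducible hα G hG W hCW hWU with hW | hW
  · exfalso
    -- the coordinate function maps to a function fixed by the translation and negated by `t`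
    let v : α → ZMod p := fun y => e.symm y
    have hv : v ∈ U.toSubmodule := by
      rw [PermGp.mem_permSumZero, show ∑ y, v y = ∑ i : ZMod p, i ^ 1 from
        Fintype.sum_equiv e.symm _ _ fun y => (pow_one _).symm]
      exact FiniteField.sum_pow_lt_card_sub_one (K := ZMod p) 1 (by rw [ZMod.card]; omega)
    have hx' : ∀ i, x⁻¹ • e i = e (i - 1) := fun i => by
      rw [inv_smul_eq_iff, hx, sub_add_cancel]
    have hfx : Cfsg.permRep (ZMod p) G (Set.powersetCard α 2) x (f ⟨v, hv⟩) = f ⟨v, hv⟩ := by
      rw [← hfeq x ⟨v, hv⟩, ← sub_eq_zero, ← map_sub]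
      refine hfC _ (PermGp.mem_permConstants.mpr ⟨-1, fun y => ?_⟩)
      obtain ⟨i, rfl⟩ := e.surjective y
      show v (x⁻¹ • e i) - v (e i) = -1
      rw [hx']
      simp [v]
    have hft : Cfsg.permRep (ZMod p) G (Set.powersetCard α 2) t (f ⟨v, hv⟩) = - f ⟨v, hv⟩ := by
      rw [← hfeq t ⟨v, hv⟩, ← add_eq_zero_iff_eq_neg, ← map_add]
      refine hfC _ (PermGp.mem_permConstants.mpr ⟨b, fun y => ?_⟩)
      obtain ⟨i, rfl⟩ := e.surjective y
      show v (t⁻¹ • e i) + v (e i) = b
      rw [show t⁻¹ = t from inv_eq_of_mul_eq_one_right htt, htk, hk]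
      simp [v]
    have hfv : f ⟨v, hv⟩ = 0 := by
      funext T
      have hcoe : ∀ (g : G), ((g • T : Set.powersetCard α 2) : Finset α) =
          (T : Finset α).image (fun w => g • w) := fun g => rfl
      obtain ⟨c, d, hcd, hT⟩ := Finset.card_eq_two.mp T.2
      obtain ⟨i, rfl⟩ := e.surjective c
      obtain ⟨j, rfl⟩ := e.surjective d
      -- the translation moving the pair as `t` does
      set n := (b - i - j).val
      have hpow : x ^ n • T = t • T := by
        apply Subtype.ext
        rw [hcoe, hcoe, hT]
        simp only [Finset.image_insert, Finset.image_singleton]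
        rw [htk, htk, hk, ← zpow_natCast, PermGp.frame_pow G hx, PermGp.frame_pow G hx,
          Int.cast_natCast, ZMod.natCast_zmod_val, Finset.pair_comm]
        congr 1 <;> [skip; congr 1] <;> congr 1 <;> ring
      have e1 : ∀ (m : ℕ) (T' : Set.powersetCard α 2), f ⟨v, hv⟩ (x ^ m • T') = f ⟨v, hv⟩ T' := by
        intro m
        induction m with
        | zero => intro T'; rw [pow_zero, one_smul]
        | succ m ih =>
          intro T'
          have := congrFun hfx (x • (x ^ m • T'))
          rw [PermGp.permRep_apply, inv_smul_smul] at this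
          rw [pow_succ', mul_smul, ← this, ih]
      have e2 := congrFun hft (t • T)
      rw [PermGp.permRep_apply, inv_smul_smul, Pi.neg_apply, ← hpow, e1] at e2
      have h2 : (2 : ZMod p) * f ⟨v, hv⟩ T = 0 := by linear_combination e2
      refine (mul_eq_zero.mp h2).resolve_left fun h2' => ?_
      have h2'' : ((2 : ℕ) : ZMod p) = 0 := by exact_mod_cast h2'
      rw [ZMod.natCast_eq_zero_iff] at h2''
      have := Nat.le_of_dvd (by norm_num) h2''
      omega
    have hvW : v ∈ W.toSubmodule := ⟨⟨v, hv⟩, hfv, rfl⟩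
    rw [hW] at hvW
    obtain ⟨c, hc⟩ := PermGp.mem_permConstants.mp hvW
    have := (hc (e 1)).trans (hc (e 0)).symm
    simp [v] at this
  · apply Representation.IntertwiningMap.ext
    apply LinearMap.ext
    intro v
    have hv : (v : α → ZMod p) ∈ W.toSubmodule := by rw [hW]; exact v.2
    obtain ⟨w, hw, hwv⟩ := hv
    rw [← (Subtype.ext hwv : w = v)]
    exact hw

end Cfsg.Agent.S0676
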