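import Cfsg.Statements.S0678
import Cfsg.Agent.Lib.PermGp.AltIndex
import Cfsg.Agent.Lib.CT.Integral
import Cfsg.Agent.S0676

set_option autoImplicit false
open Cfsg

namespace Cfsg.Agent.S0678

/-- The order is 168 for every such group. -/
theorem card_eq {α : Type*} [Fintype α] [DecidableEq α] (hα : Fintype.card α = 7)
    (G : Subgroup (Equiv.Perm α)) [MulAction.IsPretransitive G α] (hG : ¬ Group.IsSolvable G)
    (hA : ¬ alternatingGroup α ≤ G) : Nat.card G = 168 := by
  haveI : Fact (Nat.Prime 7) := ⟨by norm_num⟩
  obtain ⟨P⟩ : Nonempty (Sylow 7 G) := inferInstance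
  -- the even part is small and again non-solvable and transitive
  have hA' : G ⊓ alternatingGroup α ≠ alternatingGroup α := fun h => hA (inf_eq_right.mp h)
  have hsmall := PermGp.card_le_of_le_alternating (by omega) inf_le_right hA'
  obtain ⟨hhalf, hns⟩ := PermGp.card_le_two_mul_inf_alternating G
  rw [hα] at hsmall
  have h7 : Nat.factorial 7 = 5040 := rfl
  rw [h7] at hsmall
  have hle : Nat.card G ≤ 720 := by omega
  -- the arithmetic constraints from double and triple transitivity
  have h1t : MulAction.IsPretransitive G α := inferInstance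
  have key : ∀ (H : Subgroup (Equiv.Perm α)) [MulAction.IsPretransitive H α], ¬ Group.IsSolvable H →
      ∀ Q : Sylow 7 H, 42 ∣ Nat.card H ∧
      (Even (Nat.card (Subgroup.normalizer ((Q : Subgroup H) : Set H))) → 210 ∣ Nat.card H) := by
    intro H _ hH Q
    have hemb : ∀ k, MulAction.IsMultiplyPretransitive H α k → k ≤ 7 →
        Nat.descFactorial 7 k ∣ Nat.card H := by
      intro k hk hk7
      obtain ⟨x⟩ : Nonempty (Fin k ↪ α) :=
        Function.Embedding.nonempty_iff_card_le.mpr (by simpa [hα] using hk7)
      refine ⟨Nat.card (MulAction.stabilizer H x), ?_⟩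
      rw [← @PermGp.card_mul_card_stabilizer H _ (Fin k ↪ α) _ hk x, Nat.card_eq_fintype_card (α := Fin k ↪ α),
        Fintype.card_embedding_eq, hα, Fintype.card_fin]
    refine ⟨?_, fun he => ?_⟩
    · exact hemb 2 (PermGp.two_transitive_of_not_solvable hα H hH) (by norm_num)
    · exact hemb 3 (Cfsg.Agent.S0676.result hα H hH Q he) (by norm_num)
  obtain ⟨h42, h210⟩ := key G hG P
  obtain ⟨d, hd, hN⟩ := PermGp.card_normalizer hα G P
  have hn := Sylow.card_eq_index_normalizer P
  have hmul : 7 * d * Nat.card (Sylow 7 G) = Nat.card G := by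
    rw [hn, ← hN]
    exact Subgroup.card_mul_index _
  have hmod : Nat.card (Sylow 7 G) % 7 = 1 := card_sylow_modEq_one 7 G
  have hdvd : Nat.card G ∣ 5040 := h7 ▸ PermGp.card_dvd_factorial hα G
  by_cases hev : 210 ∣ Nat.card G
  · -- a small three-transitive group is excluded
    exfalso
    -- transitivity of the even part
    have hcop : Nat.card (P : Subgroup G) = 7 := PermGp.card_sylow hα G P
    have hPA : ∀ x ∈ (P : Subgroup G), (x : Equiv.Perm α) ∈ alternatingGroup α := by
      intro x hx
      rw [Equiv.Perm.mem_alternatingGroup]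
      have h1 : x ^ 7 = 1 := by
        rw [← hcop]
        exact congrArg Subtype.val (pow_card_eq_one' (x := (⟨x, hx⟩ : (P : Subgroup G))))
      have h2 : Equiv.Perm.sign (x : Equiv.Perm α) ^ 7 = 1 := by
        rw [← map_pow, ← Subgroup.coe_pow, h1, Subgroup.coe_one, map_one]
      rcases Int.units_eq_one_or (Equiv.Perm.sign (x : Equiv.Perm α)) with h | h
      · exact h
      · rw [h] at h2; exact absurd h2 (by decide)
    obtain ⟨x, e, hP, hx⟩ := PermGp.exists_frame hα G P
    have hxmem : ((x : Equiv.Perm α)) ∈ G ⊓ alternatingGroup α :=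
      ⟨x.2, hPA x (by rw [hP]; exact Subgroup.mem_zpowers x)⟩
    have : MulAction.IsPretransitive ↥(G ⊓ alternatingGroup α) α :=
      (MulAction.isPretransitive_iff_base (e 0)).mpr fun y => by
        obtain ⟨i, rfl⟩ := e.surjective y
        refine ⟨⟨(x : Equiv.Perm α) ^ (i.val : ℤ), Subgroup.zpow_mem _ hxmem _⟩, ?_⟩
        have := PermGp.frame_pow G hx (i.val : ℤ) 0
        rw [Int.cast_natCast, ZMod.natCast_zmod_val, zero_add] at this
        exact this
    obtain ⟨Q⟩ : Nonempty (Sylow 7 ↥(G ⊓ alternatingGroup α)) := inferInstance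
    obtain ⟨h42', -⟩ := key _ (hns hG) Q
    have hsub : Nat.card ↥(G ⊓ alternatingGroup α) ∣ Nat.card G := Subgroup.card_dvd_of_le inf_le_left
    -- so the order is 210, a squarefree number
    have hcases : Nat.card G = 210 := by
      obtain ⟨m, hm⟩ := hev
      obtain ⟨m', hm'⟩ := h42'
      have h1 : 1 ≤ m := by
        have := Nat.card_pos (α := G)
        omega
      have h2 : m ≤ 3 := by omega
      rw [hm, hm'] at hsub
      rw [hm, hm'] at hhalf
      rw [hm] at hdvd
      rw [hm'] at hsmall
      interval_cases m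
      · omega
      · exfalso
        have := Nat.mod_eq_zero_of_dvd hdvd
        rw [hm] at hmul
        have hd6 : d ≤ 6 := Nat.le_of_dvd (by norm_num) hd
        interval_cases d <;> omega
      · exfalso
        have h' : m' ≤ 8 := by omega
        interval_cases m' <;> omega
    apply hG
    have hsf : Squarefree (Nat.card G) := by
      rw [hcases, Nat.squarefree_iff_nodup_primeFactorsList (by norm_num)]
      simp
    have := IsZGroup.of_squarefree hsf
    infer_instance
  · -- otherwise the normaliser has odd order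
    have hodd : ¬ 2 ∣ d := fun h2 => hev (h210 (even_iff_two_dvd.mpr (hN ▸ h2.mul_left 7)))
    have hd6 : d ≤ 6 := Nat.le_of_dvd (by norm_num) hd
    have hn1 : Nat.card (Sylow 7 G) ≤ 102 := by
      rcases Nat.eq_zero_or_pos d with rfl | hpos
      · simp at hd
      · have h1 : 7 * 1 * Nat.card (Sylow 7 G) ≤ 7 * d * Nat.card (Sylow 7 G) :=
          Nat.mul_le_mul_right _ (Nat.mul_le_mul_left _ hpos)
        omega
    have h1 : d = 1 ∨ d = 3 := by
      interval_cases d <;> simp_all <;> omega
    rcases h1 with rfl | rfl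
    · -- Burnside's transfer gives a normal complement
      exfalso
      have hNP : Nat.card (Subgroup.normalizer ((P : Subgroup G) : Set G)) ≤ Nat.card (P : Subgroup G) := by
        rw [hN, PermGp.card_sylow hα G P]
      have hPeq := Subgroup.eq_of_le_of_card_ge (Subgroup.le_normalizer (H := (P : Subgroup G))) hNP
      have hcyc : IsCyclic (P : Subgroup G) :=
        isCyclic_of_prime_card (p := 7) (PermGp.card_sylow hα G P)
      have hcen : Subgroup.normalizer ((P : Subgroup G) : Set G) ≤ Subgroup.centralizer ((P : Subgroup G) : Set G) := by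
        rw [← hPeq]
        intro u hu
        rw [Subgroup.mem_centralizer_iff]
        intro v hv
        have := hcyc.isMulCommutative
        exact congrArg Subtype.val (this.is_comm.comm ⟨v, hv⟩ ⟨u, hu⟩)
      have hK := MonoidHom.not_dvd_card_ker_transferSylow P hcen
      have hKc := MonoidHom.ker_transferSylow_isComplement' P hcen
      set K := (MonoidHom.transferSylow P hcen).ker
      have hKbot : K = ⊥ := by
        by_contra hne
        have : MulAction.IsPreprimitive G α :=
          MulAction.IsPreprimitive.of_prime_card (by rw [Nat.card_eq_fintype_card, hα]; norm_num)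
        have := PermGp.normal_transitive (α := α) K hne
        obtain ⟨a⟩ : Nonempty α := Fintype.card_pos_iff.mp (by omega)
        exact hK ⟨Nat.card (MulAction.stabilizer K a), by
          rw [← PermGp.card_mul_card_stabilizer (G := K) a, Nat.card_eq_fintype_card (α := α), hα]⟩
      have := hKc.card_mul
      rw [hKbot, Subgroup.card_bot, PermGp.card_sylow hα G P] at this
      omega
    · have h1' : 42 ∣ 21 * Nat.card (Sylow 7 G) := by rw [show 21 * Nat.card (Sylow 7 G) = Nat.card G by omega]; exact h42
      have h2' : 21 * Nat.card (Sylow 7 G) ∣ 5040 := by rw [show 21 * Nat.card (Sylow 7 G) = Nat.card G by omega]; exact hdvd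
      have h3' : Nat.card (Sylow 7 G) ≤ 34 := by omega
      generalize hnn : Nat.card (Sylow 7 G) = n at *
      interval_cases n <;> omega


/-- A non-solvable transitive permutation group on 7 points that does not contain the alternating group is a simple group of order 168. -/
theorem result {α : Type*} [Fintype α] [DecidableEq α] (hα : Fintype.card α = 7) (G : Subgroup (Equiv.Perm α)) [MulAction.IsPretransitive G α] (hG : ¬ Group.IsSolvable G) (hA : ¬ alternatingGroup α ≤ G) : Nat.card G = 168 ∧ IsSimpleGroup G := by
  have h168 := card_eq hα G hG hA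
  refine ⟨h168, ?_⟩
  have hnt : Nontrivial G := by
    rw [← Finite.one_lt_card_iff_nontrivial, h168]; norm_num
  refine ⟨fun K hK => ?_⟩
  by_cases hbot : K = ⊥
  · exact Or.inl hbot
  right
  haveI : Fact (Nat.Prime 7) := ⟨by norm_num⟩
  have : MulAction.IsPreprimitive G α :=
    MulAction.IsPreprimitive.of_prime_card (by rw [Nat.card_eq_fintype_card, hα]; norm_num)
  have hKt := PermGp.normal_transitive (α := α) K hbot
  obtain ⟨a⟩ : Nonempty α := Fintype.card_pos_iff.mp (by omega)
  have h7 : 7 ∣ Nat.card K := ⟨Nat.card (MulAction.stabilizer K a), by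
    rw [← PermGp.card_mul_card_stabilizer (G := K) a, Nat.card_eq_fintype_card (α := α), hα]⟩
  have hidx := Subgroup.card_mul_index K
  rw [h168] at hidx
  -- the quotient has order dividing 24, so it is solvable
  have hq : Group.IsSolvable (G ⧸ K) := by
    obtain ⟨m, hm⟩ := h7
    have h24 : K.index ∣ 2 ^ 3 * 3 ^ 1 := ⟨m, by
      rw [hm, Nat.mul_assoc] at hidx
      have := Nat.eq_of_mul_eq_mul_left (show 0 < 7 by norm_num) (hidx.trans (show 168 = 7 * (2 ^ 3 * 3 ^ 1) by norm_num))
      linarith⟩
    obtain ⟨u, v, hu, hv, huv⟩ := Nat.dvd_mul.mp h24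
    obtain ⟨u', -, rfl⟩ := (Nat.dvd_prime_pow Nat.prime_two).mp hu
    obtain ⟨v', -, rfl⟩ := (Nat.dvd_prime_pow Nat.prime_three).mp hv
    exact CT.isSolvable_of_card_two_primes Nat.prime_two Nat.prime_three _ (G ⧸ K) u' v' rfl huv.symm
  have hKs : ¬ Group.IsSolvable K := fun h =>
    hG (Group.isSolvable_of_ker_le_range K.subtype (QuotientGroup.mk' K)
      (by rw [Subgroup.range_subtype, QuotientGroup.ker_mk']))
  set K' := K.map G.subtype
  have heK : ↥K ≃* ↥K' := Subgroup.equivMapOfInjective _ _ G.subtype_injective
  have : MulAction.IsPretransitive K' α := ⟨fun x y => by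
    obtain ⟨k, hk⟩ := MulAction.exists_smul_eq K x y
    exact ⟨⟨((k : G) : Equiv.Perm α), Subgroup.mem_map.mpr ⟨k, k.2, rfl⟩⟩, hk⟩⟩
  have hK's : ¬ Group.IsSolvable K' := fun h =>
    hKs (Group.isSolvable_of_isSolvable_injective (f := heK.toMonoidHom) heK.injective)
  have := card_eq hα K' hK's fun h => hA (h.trans (Subgroup.map_subtype_le K))
  rw [← Nat.card_congr heK.toEquiv] at this
  exact Subgroup.eq_top_of_card_eq K (by rw [this, h168])

end Cfsg.Agent.S0678
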