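import Cfsg.Statements.S1248
import Cfsg.Agent.Lib.InvChar.SU3Coords

set_option autoImplicit false
open Cfsg

namespace Cfsg.Agent.S1248

open Cfsg.Agent
open scoped commutatorElement

/-- The unitary coordinates of a Sylow 2-subgroup determine its basic invariants. -/
theorem hermCoords_structure {F : Type*} [Field F] {q : ℕ} [AutPSU.QField F q] [CharP F 2]
    {G : Type*} [Group G] (C : InvChar.HermCoords G F q) :
    Nat.card (Subgroup.center G) = q ∧
      (∀ z : Subgroup.center G, z ^ 2 = 1) ∧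
      Subgroup.center G = Subgroup.closure {x : G | orderOf x = 2} ∧
      Subgroup.center G = commutator G ∧
      (Subgroup.center G).index = q ^ 2 ∧
      (∀ x : G ⧸ Subgroup.center G, x ^ 2 = 1) := by
  have hcen : ∀ u, u ∈ Subgroup.center G ↔ C.A u = 0 := C.mem_center_iff
  have hsq : ∀ u, C.A (u * u) = 0 ∧ C.T (u * u) = C.A u * AutPSU.qb q (C.A u) := fun u =>
    ⟨by rw [C.A_mul, CharTwo.add_self_eq_zero],
      by rw [C.T_mul, CharTwo.add_self_eq_zero, zero_add]⟩
  refine ⟨?_, ?_, ?_, ?_, ?_, ?_⟩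
  · refine (Nat.card_congr (Equiv.ofBijective
      (fun z : Subgroup.center G => (⟨C.T z.1, CharTwo.add_eq_zero.mpr
        (C.T_fixed ((hcen _).mp z.2)).symm⟩ : {k : F // k + AutPSU.qb q k = 0})) ⟨?_, ?_⟩)).trans
      (InvChar.card_trace_ker (F := F) (q := q))
    · intro z w h
      exact Subtype.ext (C.inj _ _ (((hcen _).mp z.2).trans ((hcen _).mp w.2).symm)
        (congrArg Subtype.val h))
    · rintro ⟨k, hk⟩
      obtain ⟨u, hu, hut⟩ := C.exists_central (CharTwo.add_eq_zero.mp hk).symm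
      exact ⟨⟨u, (hcen u).mpr hu⟩, Subtype.ext hut⟩
  · intro z
    exact Subtype.ext (by rw [SubgroupClass.coe_pow, pow_two]; exact C.central_sq ((hcen _).mp z.2))
  · refine le_antisymm (fun z hz => ?_) ((Subgroup.closure_le _).mpr fun x hx => ?_)
    · by_cases h1 : z = 1
      · rw [h1]; exact Subgroup.one_mem _
      · exact Subgroup.subset_closure (orderOf_eq_prime
          (by rw [pow_two]; exact C.central_sq ((hcen _).mp hz)) h1)
    · have h2 : x * x = 1 := by
        rw [← pow_two, ← hx]; exact pow_orderOf_eq_one x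
      have h3 := (hsq x).2
      rw [h2, C.T_one, eq_comm, mul_eq_zero] at h3
      exact (hcen x).mpr (h3.elim id fun h => (map_eq_zero_iff _ (RingEquiv.injective _)).mp h)
  · refine le_antisymm (fun z hz => ?_) ?_
    · obtain ⟨b, hb⟩ := AutPSU.exists_trace (F := F) (q := q) (C.T_fixed ((hcen _).mp hz))
      obtain ⟨u, hu⟩ := C.exists_lift 1
      obtain ⟨v, hv⟩ := C.exists_lift b
      have hA0 : C.A ⁅u, v⁆ = 0 := by
        rw [commutatorElement_def, C.A_mul, C.A_mul, C.A_mul, C.A_inv, C.A_inv]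
        linear_combination CharTwo.add_self_eq_zero (C.A u) + CharTwo.add_self_eq_zero (C.A v)
      have h1 : ⁅u, v⁆ * (v * u) = u * v := by rw [commutatorElement_def]; group
      have hAc : C.A (v * u) = b + 1 := by rw [C.A_mul, hu, hv]
      have h2 := congrArg C.T h1
      rw [C.T_mul, C.T_mul, C.T_mul, hA0, map_zero, mul_zero, add_zero, hu, hv, map_one, mul_one,
        one_mul] at h2
      have hz' : z = ⁅u, v⁆ := C.inj _ _ (((hcen _).mp hz).trans hA0.symm) (by
        linear_combination -h2 - hb + CharTwo.add_self_eq_zero (AutPSU.qb q b))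
      rw [hz', commutator_def]
      exact Subgroup.commutator_mem_commutator (Subgroup.mem_top u) (Subgroup.mem_top v)
    · rw [commutator_def, Subgroup.commutator_le]
      intro u _ v _
      rw [hcen, commutatorElement_def, C.A_mul, C.A_mul, C.A_mul, C.A_inv, C.A_inv]
      linear_combination CharTwo.add_self_eq_zero (C.A u) + CharTwo.add_self_eq_zero (C.A v)
  · let f : G →* Multiplicative F := MonoidHom.mk'
      (fun u => Multiplicative.ofAdd (C.A u)) fun u v => by
        show Multiplicative.ofAdd (C.A (u * v)) = _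
        rw [C.A_mul]; rfl
    have hk : f.ker = Subgroup.center G := by
      ext u
      rw [MonoidHom.mem_ker, hcen]
      exact Iff.rfl
    rw [← hk, Subgroup.index_ker, MonoidHom.range_eq_top.mpr fun a => ?_, Subgroup.card_top,
      Nat.card_congr Multiplicative.toAdd, AutPSU.QField.card (F := F) (q := q)]
    obtain ⟨u, hu⟩ := C.exists_lift a.toAdd
    exact ⟨u, by show Multiplicative.ofAdd (C.A u) = a; rw [hu, ofAdd_toAdd]⟩
  · intro x
    obtain ⟨u, rfl⟩ := QuotientGroup.mk_surjective x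
    rw [← QuotientGroup.mk_pow, QuotientGroup.eq_one_iff, pow_two, hcen]
    exact (hsq u).1

/-- Let F be a field with 16 elements and S a Sylow 2-subgroup of PSU(3) over F (the unitary group U₃(4)). Then |S| = 64; the centre Z(S) is a Klein four-group and coincides with the subgroup generated by the involutions of S and with the derived subgroup; and every element of S ⧸ Z(S) squares to the identity, S ⧸ Z(S) having order 16. -/
theorem result {F : Type*} [Field F] [Fintype F] (hF : Fintype.card F = 16) (S : Sylow 2 (Cfsg.PSU 3 F 4)) : Nat.card S = 64 ∧ IsKleinFour (Subgroup.center (S : Subgroup (Cfsg.PSU 3 F 4))) ∧ Subgroup.center (S : Subgroup (Cfsg.PSU 3 F 4)) = Subgroup.closure {x : (S : Subgroup (Cfsg.PSU 3 F 4)) | orderOf x = 2} ∧ Subgroup.center (S : Subgroup (Cfsg.PSU 3 F 4)) = commutator (S : Subgroup (Cfsg.PSU 3 F 4)) ∧ Nat.card ((S : Subgroup (Cfsg.PSU 3 F 4)) ⧸ Subgroup.center (S : Subgroup (Cfsg.PSU 3 F 4))) = 16 ∧ ∀ x : (S : Subgroup (Cfsg.PSU 3 F 4)) ⧸ Subgroup.center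 (S : Subgroup (Cfsg.PSU 3 F 4)), x ^ 2 = 1 := by
  classical
  haveI : Fact (Nat.Prime 2) := ⟨Nat.prime_two⟩
  have hq2 : Fintype.card F = 4 ^ 2 := by rw [hF]; norm_num
  haveI : AutPSU.QField F 4 := AutPSU.QField.of_card hq2
  haveI : CharP F 2 := charP_of_card_eq_prime_pow (f := 4) (by rw [hF]; norm_num)
  set π := QuotientGroup.mk' (Subgroup.center (Cfsg.SU 3 F 4)) with hπ
  have hπs : Function.Surjective π := QuotientGroup.mk'_surjective _
  have hZ : Subgroup.center (Cfsg.SU 3 F 4) = ⊥ := Subgroup.eq_bot_of_card_eq _ (by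
    rw [UnitaryOrder.card_center_SU hq2 3 (by norm_num)]; norm_num)
  have hπi : Function.Injective π := by
    rw [← MonoidHom.ker_eq_bot_iff, hπ, QuotientGroup.ker_mk', hZ]
  obtain ⟨P⟩ : Nonempty (Sylow 2 (Cfsg.SU 3 F 4)) := inferInstance
  let e' : ↥(S : Subgroup (Cfsg.PSU 3 F 4)) ≃* ↥(P : Subgroup (Cfsg.SU 3 F 4)) :=
    (Sylow.equiv S (P.mapSurjective hπs)).trans
      ((MulEquiv.subgroupCongr (Sylow.coe_mapSurjective hπs P)).trans
        ((P : Subgroup (Cfsg.SU 3 F 4)).equivMapOfInjective π hπi).symm)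
  obtain ⟨C⟩ := InvChar.hermCoords_of_equiv (F := F) (q := 4) (m := 2) rfl P inferInstance e'
  obtain ⟨h1, h2, h3, h4, h5, h6⟩ := hermCoords_structure C
  refine ⟨?_, ?_, h3, h4, h5.trans (by norm_num), h6⟩
  · have := Subgroup.card_mul_index (Subgroup.center ↥(S : Subgroup (Cfsg.PSU 3 F 4)))
    rw [h1, h5] at this
    exact this.symm.trans (by norm_num)
  · refine ⟨h1, ?_⟩
    have hd : Monoid.exponent ↥(Subgroup.center ↥(S : Subgroup (Cfsg.PSU 3 F 4))) ∣ 2 :=
      Monoid.exponent_dvd_of_forall_pow_eq_one h2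
    refine ((Nat.dvd_prime Nat.prime_two).mp hd).resolve_left fun h => ?_
    haveI := Monoid.exp_eq_one_iff.mp h
    rw [Nat.card_of_subsingleton (1 : ↥(Subgroup.center ↥(S : Subgroup (Cfsg.PSU 3 F 4))))] at h1
    omega

end Cfsg.Agent.S1248
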