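import Cfsg.Statements.S1241
import Cfsg.Agent.Lib.Invol.TransferPow
-- import your own Cfsg.Agent.* helpers here

set_option autoImplicit false
open Cfsg

namespace Cfsg.Agent.S1241

/-- Let G be a finite group, p a prime, H a subgroup of index prime to p, K a subgroup of H normal in H with H/K commutative, and g ∈ H ∖ K an element of p-power order such that for all integers m and all a ∈ G with a g^m a⁻¹ ∈ H one has a g^m a⁻¹ ∈ g^m K. Then g ∉ G'. -/
theorem result {G : Type*} [Group G] [Finite G] {p : ℕ} [Fact p.Prime] (H K : Subgroup G) (hHK : K ≤ H) (hKn : (K.subgroupOf H).Normal) (hab : ∀ x ∈ H, ∀ y ∈ H, x * y * x⁻¹ * y⁻¹ ∈ K) (hidx : Nat.Coprime p H.index) (g : G) (hgH : g ∈ H) (hgK : g ∉ K) (hgp : ∃ k : ℕ, orderOf g = p ^ k) (hctrl : ∀ (m : ℤ) (a : G), a * g ^ m * a⁻¹ ∈ H → (a * g ^ m * a⁻¹) * (g ^ m)⁻¹ ∈ K) : g ∉ commutator G := by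
  intro hgc
  haveI := hKn
  haveI hcomm : IsMulCommutative (H ⧸ K.subgroupOf H) := by
    refine Subgroup.Normal.quotient_commutative_iff_commutator_le.mpr ?_
    rw [commutator_def, Subgroup.commutator_le]
    intro x _ y _
    exact hab x x.2 y y.2
  open scoped IsMulCommutative in
  let φ : H →* H ⧸ K.subgroupOf H := QuotientGroup.mk' _
  open scoped IsMulCommutative in
  have hτ : MonoidHom.transfer φ g = φ ⟨g, hgH⟩ ^ H.index := by
    refine Invol.transfer_eq_pow_of_powers φ ⟨g, hgH⟩ fun c k hc => ?_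
    show φ ⟨c⁻¹ * g ^ k * c, hc⟩ = φ (⟨g, hgH⟩ ^ k)
    rw [← mul_inv_eq_one, ← map_inv, ← map_mul]
    refine (QuotientGroup.eq_one_iff _).2 ?_
    have h := hctrl (k : ℤ) c⁻¹ (by rw [inv_inv, zpow_natCast]; exact hc)
    rw [inv_inv, zpow_natCast] at h
    exact h
  open scoped IsMulCommutative in
  have h1 : φ ⟨g, hgH⟩ ^ H.index = 1 := by
    rw [← hτ]; exact MonoidHom.mem_ker.1 (Abelianization.commutator_subset_ker _ hgc)
  obtain ⟨k, hk⟩ := hgp
  have h2 : orderOf (φ ⟨g, hgH⟩) ∣ p ^ k := by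
    rw [← hk, ← Subgroup.orderOf_mk g hgH]; exact orderOf_map_dvd φ _
  exact hgK ((QuotientGroup.eq_one_iff (⟨g, hgH⟩ : H)).1 (orderOf_eq_one_iff.1
    (Nat.eq_one_of_dvd_coprimes (Nat.Coprime.pow_left k hidx) h2 (orderOf_dvd_of_pow_eq_one h1))))

end Cfsg.Agent.S1241
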