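import Cfsg.Statements.S5344
import Cfsg.Agent.Lib.ClassK.ThreeTransp
-- import your own Cfsg.Agent.* helpers here

set_option autoImplicit false
open Cfsg

namespace Cfsg.Agent.S5344

/-- The 24 products `u * v * w` with `u ∈ {1, a}`, `v ∈ {1, b, b a}`, `w ∈ {1, c, c b, c b a}`. -/
def word {H : Type*} [Group H] (a b c : H) (t : Fin 2 × Fin 3 × Fin 4) : H :=
  ![1, a] t.1 * ![1, b, b * a] t.2.1 * ![1, c, c * b, c * (b * a)] t.2.2

theorem word_closed {H : Type*} [Group H] (a b c : H) (ha : a * a = 1) (hb : b * b = 1) (hc : c * c = 1)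
    (hca : c * a = a * c) (hab : b * a * b = a * b * a) (hbc : c * b * c = b * c * b) :
    ∀ x ∈ Set.range (word a b c), x * a ∈ Set.range (word a b c) ∧ x * b ∈ Set.range (word a b c) ∧
      x * c ∈ Set.range (word a b c) := by
  have two_a : ∀ (u : Fin 2), ∃ u' : Fin 2, ![1, a] u * a = ![1, a] u' := by
    intro u
    fin_cases u
    · exact ⟨1, by simp⟩
    · exact ⟨0, by simpa using ha⟩
  have six_a : ∀ u v, ∃ u' v', ![1, a] u * ![1, b, b * a] v * a = ![1, a] u' * ![1, b, b * a] v' := by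
    intro u v
    fin_cases v
    · obtain ⟨u', hu⟩ := two_a u
      exact ⟨u', 0, by simpa using hu⟩
    · exact ⟨u, 2, by simp [mul_assoc]⟩
    · exact ⟨u, 1, by simp [mul_assoc, ha]⟩
  have six_b : ∀ u v, ∃ u' v', ![1, a] u * ![1, b, b * a] v * b = ![1, a] u' * ![1, b, b * a] v' := by
    intro u v
    fin_cases v
    · exact ⟨u, 1, by simp⟩
    · exact ⟨u, 0, by simp [mul_assoc, hb]⟩
    · obtain ⟨u', hu⟩ := two_a u
      refine ⟨u', 2, ?_⟩
      show ![1, a] u * (b * a) * b = ![1, a] u' * (b * a)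
      rw [← hu, mul_assoc, hab]
      group
  rintro _ ⟨⟨u, v, w⟩, rfl⟩
  obtain ⟨ua, va, hA⟩ := six_a u v
  obtain ⟨ub, vb, hB⟩ := six_b u v
  refine ⟨?_, ?_, ?_⟩
  · fin_cases w
    · exact ⟨(ua, va, 0), by simp [word, hA]⟩
    · refine ⟨(ua, va, 1), ?_⟩
      show _ * _ * c = _ * _ * c * a
      rw [← hA, mul_assoc _ c a, hca, mul_assoc _ a c]
    · exact ⟨(u, v, 3), by simp [word, mul_assoc]⟩
    · exact ⟨(u, v, 2), by simp [word, mul_assoc, ha]⟩
  · fin_cases w
    · exact ⟨(ub, vb, 0), by simp [word, hB]⟩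
    · exact ⟨(u, v, 2), by simp [word, mul_assoc]⟩
    · exact ⟨(u, v, 1), by simp [word, mul_assoc, hb]⟩
    · refine ⟨(ua, va, 3), ?_⟩
      show _ * _ * (c * (b * a)) = _ * _ * (c * (b * a)) * b
      rw [← hA, mul_assoc _ (c * (b * a)) b, show c * (b * a) * b = c * (b * a * b) by group, hab,
        show c * (a * b * a) = c * a * (b * a) by group, hca]
      group
  · fin_cases w
    · exact ⟨(u, v, 1), by simp [word]⟩
    · exact ⟨(u, v, 0), by simp [word, mul_assoc, hc]⟩
    · refine ⟨(ub, vb, 2), ?_⟩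
      show _ * _ * (c * b) = _ * _ * (c * b) * c
      rw [← hB, mul_assoc _ (c * b) c, hbc]
      group
    · refine ⟨(ub, vb, 3), ?_⟩
      show _ * _ * (c * (b * a)) = _ * _ * (c * (b * a)) * c
      rw [← hB, mul_assoc _ (c * (b * a)) c, show c * (b * a) * c = c * b * (a * c) by group, ← hca,
        show c * b * (c * a) = c * b * c * a by group, hbc]
      group

theorem swap_gen : ∀ σ : Equiv.Perm (Fin 4), σ ∈ Set.range (word (Equiv.swap (0 : Fin 4) 1) (Equiv.swap 1 2) (Equiv.swap 2 3)) := by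
  simp only [Set.mem_range, word]
  decide +kernel

theorem normal_contains : ∀ σ : Equiv.Perm (Fin 4), σ ≠ 1 → ∃ τ τ' : Equiv.Perm (Fin 4),
    τ * σ * τ⁻¹ * (τ' * σ * τ'⁻¹) = Equiv.swap 0 1 * Equiv.swap 2 3 := by
  decide +kernel

/-- In a set of 3-transpositions, let a, b, c be members with a and c different and commuting, while neither a nor c commutes with b (a 3-string). Then there is an injective homomorphism from the symmetric group of degree 4 into the ambient group sending the transpositions (0 1), (1 2), (2 3) to a, b, c; so a, b, c generate a copy of the symmetric group of degree 4 in which they are transpositions. -/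
theorem result {G : Type*} [Group G] {D : Set G} (hD : Cfsg.IsThreeTranspositionSet D) {a b c : G} (ha : a ∈ D) (hb : b ∈ D) (hc : c ∈ D) (hac : a ≠ c) (hac' : Commute a c) (hab : ¬ Commute a b) (hbc : ¬ Commute b c) : ∃ φ : Equiv.Perm (Fin 4) →* G, Function.Injective φ ∧ φ (Equiv.swap 0 1) = a ∧ φ (Equiv.swap 1 2) = b ∧ φ (Equiv.swap 2 3) = c := by
  classical
  have ma := Cfsg.Agent.ClassK.tt_mul_self hD ha
  have mb := Cfsg.Agent.ClassK.tt_mul_self hD hb
  have mc := Cfsg.Agent.ClassK.tt_mul_self hD hc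
  have braid : ∀ x ∈ D, ∀ y ∈ D, ¬ Commute x y → y * x * y = x * y * x := by
    intro x hx y hy hxy
    have h3 : (x * y) ^ 3 = 1 := (hD.2 x hx y hy).resolve_left fun h => hxy ((Cfsg.Agent.ClassK.tt_commute_iff hD hx hy).2 h)
    have h4 : (x * y * x) * (y * x * y) = 1 := by rw [← h3, pow_three]; group
    have h5 := eq_inv_of_mul_eq_one_right h4
    rw [h5, mul_inv_rev, mul_inv_rev, Cfsg.Agent.ClassK.tt_inv hD hx, Cfsg.Agent.ClassK.tt_inv hD hy, ← mul_assoc]
  let A : Equiv.Perm (Fin 4) × G := (Equiv.swap 0 1, a)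
  let B : Equiv.Perm (Fin 4) × G := (Equiv.swap 1 2, b)
  let C : Equiv.Perm (Fin 4) × G := (Equiv.swap 2 3, c)
  have hA : A * A = 1 := Prod.ext (Equiv.swap_mul_self _ _) ma
  have hB : B * B = 1 := Prod.ext (Equiv.swap_mul_self _ _) mb
  have hC : C * C = 1 := Prod.ext (Equiv.swap_mul_self _ _) mc
  have hCA : C * A = A * C := Prod.ext (show Equiv.swap (2 : Fin 4) 3 * Equiv.swap 0 1 = Equiv.swap 0 1 * Equiv.swap 2 3 by decide) hac'.symm.eq
  have hBA : B * A * B = A * B * A := Prod.ext (show Equiv.swap (1 : Fin 4) 2 * Equiv.swap 0 1 * Equiv.swap 1 2 = Equiv.swap 0 1 * Equiv.swap 1 2 * Equiv.swap 0 1 by decide) (braid a ha b hb hab)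
  have hBC : C * B * C = B * C * B := Prod.ext (show Equiv.swap (2 : Fin 4) 3 * Equiv.swap 1 2 * Equiv.swap 2 3 = Equiv.swap 1 2 * Equiv.swap 2 3 * Equiv.swap 1 2 by decide) (braid b hb c hc hbc)
  have hcl := word_closed A B C hA hB hC hCA hBA hBC
  have hone : (1 : Equiv.Perm (Fin 4) × G) ∈ Set.range (word A B C) := ⟨(0, 0, 0), by simp [word]⟩
  let K : Subgroup (Equiv.Perm (Fin 4) × G) := Subgroup.closure {A, B, C}
  have hK : (K : Set (Equiv.Perm (Fin 4) × G)) ⊆ Set.range (word A B C) := by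
    intro x hx
    induction hx using Subgroup.closure_induction_right with
    | one => exact hone
    | mul_right u hu v hv ih =>
      rcases hv with rfl | rfl | rfl
      · exact (hcl u ih).1
      · exact (hcl u ih).2.1
      · exact (hcl u ih).2.2
    | mul_inv_cancel u hu v hv ih =>
      rcases hv with rfl | rfl | rfl
      · rw [inv_eq_of_mul_eq_one_right hA]; exact (hcl u ih).1
      · rw [inv_eq_of_mul_eq_one_right hB]; exact (hcl u ih).2.1
      · rw [inv_eq_of_mul_eq_one_right hC]; exact (hcl u ih).2.2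
  have hAK : A ∈ K := Subgroup.subset_closure (by simp)
  have hBK : B ∈ K := Subgroup.subset_closure (by simp)
  have hCK : C ∈ K := Subgroup.subset_closure (by simp)
  have hwK : ∀ t, word A B C t ∈ K := by
    rintro ⟨u, v, w⟩
    refine mul_mem (mul_mem ?_ ?_) ?_
    · fin_cases u <;> simp [hAK, one_mem]
    · fin_cases v <;> simp [hBK, one_mem, mul_mem hBK hAK]
    · fin_cases w <;> simp [hCK, one_mem, mul_mem hCK hBK, mul_mem hCK (mul_mem hBK hAK)]
  have hfst : ∀ t, (word A B C t).1 = word (Equiv.swap (0 : Fin 4) 1) (Equiv.swap 1 2) (Equiv.swap 2 3) t := by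
    rintro ⟨u, v, w⟩
    fin_cases u <;> fin_cases v <;> fin_cases w <;> rfl
  have hbij : Function.Bijective (word (Equiv.swap (0 : Fin 4) 1) (Equiv.swap 1 2) (Equiv.swap 2 3)) :=
    (Fintype.bijective_iff_surjective_and_card _).2 ⟨swap_gen, by simp [Fintype.card_perm, Nat.factorial]⟩
  let π : K →* Equiv.Perm (Fin 4) := (MonoidHom.fst _ _).comp K.subtype
  have hπ : Function.Bijective π := by
    refine ⟨fun x y hxy => ?_, fun σ => ?_⟩
    · obtain ⟨s, hs⟩ := hK x.2
      obtain ⟨t, ht⟩ := hK y.2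
      have hst : s = t := hbij.1 (by rw [← hfst, ← hfst, hs, ht]; exact hxy)
      exact Subtype.ext (by rw [← hs, ← ht, hst])
    · obtain ⟨t, ht⟩ := swap_gen σ
      exact ⟨⟨_, hwK t⟩, by rw [← ht]; exact hfst t⟩
  let e := MulEquiv.ofBijective π hπ
  let φ : Equiv.Perm (Fin 4) →* G := ((MonoidHom.snd _ _).comp K.subtype).comp e.symm.toMonoidHom
  have hφ : ∀ x : K, φ x.1.1 = x.1.2 := by
    intro x
    show ((e.symm (π x) : K) : Equiv.Perm (Fin 4) × G).2 = x.1.2
    rw [show π x = e x from rfl, e.symm_apply_apply]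
  have hφa : φ (Equiv.swap 0 1) = a := hφ ⟨A, hAK⟩
  have hφb : φ (Equiv.swap 1 2) = b := hφ ⟨B, hBK⟩
  have hφc : φ (Equiv.swap 2 3) = c := hφ ⟨C, hCK⟩
  refine ⟨φ, ?_, hφa, hφb, hφc⟩
  rw [injective_iff_map_eq_one]
  intro σ hσ
  by_contra hne
  obtain ⟨τ, τ', h⟩ := normal_contains σ hne
  have h' := congrArg φ h
  simp only [map_mul, map_inv, hσ, hφa, hφc, mul_one, mul_inv_cancel] at h'
  exact hac (by rw [← mul_one a, ← mc, ← mul_assoc, ← h', one_mul])

end Cfsg.Agent.S5344
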