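import Cfsg.Statements.S3761
import Cfsg.Agent.Lib.Invol.MaxClassTwo
-- import your own Cfsg.Agent.* helpers here

set_option autoImplicit false
open Cfsg

namespace Cfsg.Agent.S3761

open Subgroup
open scoped commutatorElement

theorem mul_pow_of_comm {G : Type*} [Group G] {A y w : G} (hA : Commute w A) (hy : Commute w y)
    (h : y * A = w * A * y) :
    ∀ k : ℕ, (A * y) ^ k = A ^ k * w ^ k.choose 2 * y ^ k ∧ y ^ k * A = w ^ k * A * y ^ k := by
  intro k
  induction k with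
  | zero => simp
  | succ k ih =>
    obtain ⟨h1, h2⟩ := ih
    refine ⟨?_, ?_⟩
    · rw [pow_succ, h1, show (k + 1).choose 2 = k.choose 2 + k by
        rw [Nat.choose_succ_succ, Nat.choose_one_right, add_comm]]
      calc A ^ k * w ^ k.choose 2 * y ^ k * (A * y)
          = A ^ k * (w ^ k.choose 2 * (y ^ k * A)) * y := by simp only [mul_assoc]
        _ = A ^ k * (w ^ k.choose 2 * w ^ k * A) * (y ^ k * y) := by rw [h2]; simp only [mul_assoc]
        _ = A ^ (k + 1) * w ^ (k.choose 2 + k) * y ^ (k + 1) := by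
            rw [← pow_add, (hA.pow_left _).eq, ← mul_assoc (A ^ k), ← pow_succ, ← pow_succ]
    · calc y ^ (k + 1) * A = y * (y ^ k * A) := by rw [pow_succ', mul_assoc]
        _ = y * w ^ k * A * y ^ k := by rw [h2]; simp only [mul_assoc]
        _ = w ^ k * (y * A) * y ^ k := by rw [← (hy.pow_left k).eq]; simp only [mul_assoc]
        _ = w ^ (k + 1) * A * y ^ (k + 1) := by rw [h, pow_succ, pow_succ' y]; simp only [mul_assoc]

/-- Data: a self-centralizing cyclic normal subgroup `⟨a⟩`. -/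
theorem mc_case {G : Type*} [Group G] [Finite G] (hG : IsPGroup 2 G) (hna : ¬ IsMulCommutative G)
    {a y : G} {n : ℕ} (hn : 2 ≤ n) (ha : orderOf a = 2 ^ n) (hi : (zpowers a).index = 2)
    (hy : y ∉ zpowers a) {r : ℤ} (hr : y * a * y⁻¹ = a ^ r) (h2r : (2 : ℤ) ∣ r - 1)
    (h4r : ¬ (4 : ℤ) ∣ r - 1) :
    Nat.card G = 2 ^ (n + 1) ∧ ((∃ m : ℕ, Nonempty (G ≃* DihedralGroup m)) ∨
      (∃ m : ℕ, Nonempty (G ≃* QuaternionGroup m)) ∨ Cfsg.IsQuasiDihedral G) := by
  have hcard : Nat.card G = 2 ^ (n + 1) := by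
    rw [← card_mul_index (zpowers a), Nat.card_zpowers, ha, hi, pow_succ]
  refine ⟨hcard, ?_⟩
  have hg : y * a * y⁻¹ * a⁻¹ = a ^ (r - 1) := by rw [hr, zpow_sub_one]
  have hgg : y * a ^ (r - 1) * y⁻¹ ∈ zpowers (a ^ (r - 1)) := by
    refine ⟨r, ?_⟩
    show (a ^ (r - 1)) ^ r = y * a ^ (r - 1) * y⁻¹
    rw [← conj_zpow, hr, ← zpow_mul, ← zpow_mul, mul_comm]
  have hD := Invol.MaxClassTwo.commutator_le_zpowers (zpowers a) hi hy le_sup_left hg hgg
    ((Commute.refl a).zpow_left _)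
  have hgD : a ^ (r - 1) ∈ commutator G := hg ▸ commutator_mem_commutator (mem_top y) (mem_top a)
  have hDeq : commutator G = zpowers (a ^ 2) := by
    rw [le_antisymm hD (zpowers_le.2 hgD)]
    obtain ⟨s, hs⟩ := h2r
    have hodd : ¬ (2 : ℤ) ∣ s := fun ⟨k, hk⟩ => h4r ⟨k, by rw [hs, hk]; ring⟩
    apply le_antisymm
    · rw [zpowers_le]
      exact ⟨s, by show (a ^ 2) ^ s = _; rw [hs, zpow_mul, zpow_ofNat]⟩
    · rw [zpowers_le]
      obtain ⟨α, β, hab⟩ : IsCoprime s ((2 : ℤ) ^ (n - 1)) :=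
        ((Int.prime_two.coprime_iff_not_dvd.2 hodd).symm).pow_right
      refine ⟨α, ?_⟩
      show (a ^ (r - 1)) ^ α = a ^ 2
      rw [← zpow_mul, hs, ← zpow_natCast a 2, ← orderOf_dvd_sub_iff_zpow_eq_zpow, ha]
      refine ⟨-β, ?_⟩
      have hn2 : ((2 ^ n : ℕ) : ℤ) = 2 * 2 ^ (n - 1) := by
        push_cast; rw [← pow_succ']; congr 1; omega
      rw [hn2]; push_cast; linear_combination 2 * hab
  have hidx : (commutator G).index = 4 := by
    have h1 := card_mul_index (commutator G)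
    rw [hDeq, Nat.card_zpowers, orderOf_pow, ha, hcard, Nat.gcd_eq_right (dvd_pow_self 2 (by omega)),
      ← hDeq] at h1
    have h2 : 2 ^ n / 2 = 2 ^ (n - 1) := by
      rw [Nat.div_eq_iff_eq_mul_left two_pos (dvd_pow_self 2 (by omega)), ← pow_succ]
      congr 1; omega
    rw [h2, show 2 ^ (n + 1) = 2 ^ (n - 1) * 4 by
      rw [show n + 1 = n - 1 + 2 by omega, pow_add]; norm_num] at h1
    exact Nat.eq_of_mul_eq_mul_left (by positivity) h1
  obtain ⟨D⟩ := Invol.MaxClassTwo.exists_mcData hG hna hidx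
  rcases Invol.MaxClassTwo.iso_cases D with h | h | h
  · exact Or.inl ⟨_, h⟩
  · exact Or.inr (Or.inl ⟨_, h⟩)
  · exact Or.inr (Or.inr h)

section
variable {G : Type*} [Group G] [Finite G] {a : G}

/-- Commutator with `a`. -/
def cm (a x : G) : G := x * a * x⁻¹ * a⁻¹

theorem main_case {p : ℕ} [hp : Fact p.Prime] (hN : (zpowers a).Normal) {n : ℕ} (hn : 2 ≤ n)
    (ha : orderOf a = p ^ n) (hC : ∀ g : G, g * a = a * g ↔ g ∈ zpowers a)
    (hp2 : ¬ (p = 2 ∧ n = 2)) (M : Subgroup G)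
    (hM : ∀ g, g ∈ M ↔ cm a g ^ p = 1) (hMU : ∃ x ∈ M, x ∉ zpowers a) :
    (zpowers a).relIndex M = p ∧ ∃ E : Subgroup G, omegaOne p M = E ∧ IsElementaryAbelian p E ∧
      Nat.card E = p ^ 2 ∧ (M.Normal → E.Characteristic) := by
  classical
  have hcU : ∀ x, cm a x ∈ zpowers a := fun x =>
    mul_mem (hN.conj_mem a (mem_zpowers a) x) (inv_mem (mem_zpowers a))
  have hpz : ∀ j : ℤ, a ^ j = 1 ↔ (p : ℤ) ^ n ∣ j := by
    intro j; rw [← orderOf_dvd_iff_zpow_eq_one, ha]; push_cast; rfl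
  obtain ⟨z0, hz0def⟩ : ∃ z0, z0 = a ^ ((p : ℤ) ^ (n - 1)) := ⟨_, rfl⟩
  have hpn : (p : ℤ) ^ n = p * p ^ (n - 1) := by rw [← pow_succ']; congr 1; omega
  have hp0 : (p : ℤ) ≠ 0 := Int.natCast_ne_zero.2 hp.out.ne_zero
  have htor : ∀ u ∈ zpowers a, u ^ p = 1 → u ∈ zpowers z0 := by
    rintro _ ⟨i, rfl⟩ hi
    change (a ^ i) ^ p = 1 at hi
    rw [← zpow_natCast, ← zpow_mul, hpz, hpn, mul_comm i] at hi
    obtain ⟨k, hk⟩ := Int.dvd_of_mul_dvd_mul_left hp0 hi
    exact ⟨k, by show z0 ^ k = a ^ i; rw [hz0def, hk, zpow_mul]⟩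
  have hz0p : z0 ^ p = 1 := by
    rw [hz0def, ← zpow_natCast, ← zpow_mul, hpz, hpn, mul_comm]
  have hz0M : ∀ x ∈ M, Commute x z0 := by
    intro x hx
    have h1 : x * a ^ p * x⁻¹ = a ^ p := by
      have hcomm : Commute (cm a x) a := by
        obtain ⟨i, hi⟩ := hcU x
        rw [← show a ^ i = cm a x from hi]
        exact (Commute.refl a).zpow_left i
      rw [← conj_pow, show x * a * x⁻¹ = cm a x * a by simp [cm], hcomm.mul_pow, (hM x).1 hx, one_mul]
    have h2 : Commute x (a ^ p) := mul_inv_eq_iff_eq_mul.1 h1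
    rw [hz0def, show (p : ℤ) ^ (n - 1) = (p : ℤ) * p ^ (n - 2) by rw [← pow_succ']; congr 1; omega,
      zpow_mul, zpow_natCast]
    exact h2.zpow_right _
  have hcmul : ∀ x ∈ M, ∀ x' ∈ M, cm a (x * x') = cm a x * cm a x' := by
    intro x hx x' hx'
    obtain ⟨k, hk⟩ := htor _ (hcU x') ((hM x').1 hx')
    have hk' : z0 ^ k = cm a x' := hk
    have h1 : x * cm a x' * x⁻¹ = cm a x' := by
      rw [← hk', ((hz0M x hx).zpow_right k).eq, mul_inv_cancel_right]
    obtain ⟨i, hi⟩ := hcU x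
    obtain ⟨j, hj⟩ := hcU x'
    calc cm a (x * x') = (x * cm a x' * x⁻¹) * cm a x := by simp only [cm]; group
      _ = cm a x' * cm a x := by rw [h1]
      _ = cm a x * cm a x' := by
        rw [← show a ^ i = cm a x from hi, ← show a ^ j = cm a x' from hj]
        exact ((Commute.refl a).zpow_zpow j i).eq
  have hc1 : ∀ x, cm a x = 1 ↔ x ∈ zpowers a := by
    intro x
    rw [← hC x, cm, mul_inv_eq_one, mul_inv_eq_iff_eq_mul]
  have hUM : zpowers a ≤ M := fun u hu => (hM u).2 (by rw [(hc1 u).2 hu, one_pow])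
  obtain ⟨y, hyM, hyU⟩ := hMU
  obtain ⟨z, hzdef⟩ : ∃ z, z = cm a y := ⟨_, rfl⟩
  have hzp : z ^ p = 1 := hzdef ▸ (hM y).1 hyM
  have hz1 : z ≠ 1 := fun h => hyU ((hc1 y).1 (hzdef ▸ h))
  have hzord : orderOf z = p := orderOf_eq_prime hzp hz1
  have hz0eq : zpowers z = zpowers z0 := by
    refine eq_of_le_of_card_ge (zpowers_le.2 (htor z (hzdef ▸ hcU y) hzp)) ?_
    rw [Nat.card_zpowers, Nat.card_zpowers, hzord]
    exact Nat.le_of_dvd hp.out.pos (orderOf_dvd_of_pow_eq_one hz0p)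
  have htor' : ∀ u ∈ zpowers a, u ^ p = 1 → u ∈ zpowers z := fun u hu h => hz0eq ▸ htor u hu h
  have hzM : ∀ x ∈ M, Commute x z := by
    intro x hx
    obtain ⟨k, hk⟩ : z ∈ zpowers z0 := hz0eq ▸ mem_zpowers z
    rw [← show z0 ^ k = z from hk]
    exact (hz0M x hx).zpow_right k
  have hzU : z ∈ zpowers a := hzdef ▸ hcU y
  -- the homomorphism `x ↦ [x, a]` on `M`
  let f : M →* G := MonoidHom.mk' (fun x => cm a (x : G)) (fun x x' => hcmul _ x.2 _ x'.2)
  have hfker : f.ker = (zpowers a).subgroupOf M := by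
    ext x; rw [MonoidHom.mem_ker, mem_subgroupOf, ← hc1]; rfl
  have hfr : f.range = zpowers z := by
    refine le_antisymm ?_ (zpowers_le.2 ⟨⟨y, hyM⟩, hzdef.symm⟩)
    rintro _ ⟨x, rfl⟩
    exact htor' _ (hcU _) ((hM _).1 x.2)
  refine ⟨by rw [relIndex, ← hfker, index_ker, hfr, Nat.card_zpowers, hzord], ?_⟩
  -- the power formula
  obtain ⟨t, ht⟩ : z ∈ zpowers z0 := hz0eq ▸ mem_zpowers z
  have ht' : z0 ^ t = z := ht
  obtain ⟨w, hw⟩ : ∃ w : ℤ, ((p.choose 2 : ℕ) : ℤ) * (p : ℤ) ^ (n - 2) = p * w := by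
    by_cases h : p = 2
    · refine ⟨(p.choose 2 : ℕ) * (p : ℤ) ^ (n - 3), ?_⟩
      rw [mul_left_comm, ← pow_succ']
      congr 2
      omega
    · have h2 : 2 < p := by have := hp.out.two_le; omega
      obtain ⟨v, hv⟩ := hp.out.dvd_choose_self (k := 2) two_ne_zero h2
      exact ⟨v * (p : ℤ) ^ (n - 2), by rw [hv]; push_cast; ring⟩
  have hcoset : ∀ y' : G, cm a y' = z → ∀ (i : ℤ), Commute y' z →
      (a ^ i * y') ^ p = a ^ ((p : ℤ) * i * (1 + p * (w * t))) * y' ^ p := by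
    intro y' hcy i hyz
    have hcz : Commute z a := by
      obtain ⟨k, hk⟩ := hzU
      rw [← show a ^ k = z from hk]
      exact (Commute.refl a).zpow_left k
    have h : y' * a ^ i = z ^ i * a ^ i * y' := by
      rw [← hcz.mul_zpow, show z * a = y' * a * y'⁻¹ by rw [← hcy]; simp [cm], conj_zpow,
        inv_mul_cancel_right]
    rw [(mul_pow_of_comm ((hcz.zpow_right i).zpow_left i) (hyz.symm.zpow_left i) h p).1, ← ht', hz0def]
    simp only [← zpow_natCast, ← zpow_mul, ← zpow_add]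
    congr 2
    rw [show (p : ℤ) ^ (n - 1) = p * p ^ (n - 2) by rw [← pow_succ']; congr 1; omega]
    linear_combination ((p : ℤ) * t * i) * hw
  obtain ⟨α, β, hab⟩ : IsCoprime (1 + (p : ℤ) * (w * t)) ((p : ℤ) ^ (n - 1)) :=
    IsCoprime.pow_right ⟨1, -(w * t), by ring⟩
  obtain ⟨y1, hy1M, hy1p, hy1c⟩ : ∃ y1, y1 ∈ M ∧ y1 ^ p = 1 ∧ cm a y1 = z := by
    have hypU : y ^ p ∈ zpowers a := by
      rw [← hc1]
      have := map_pow f ⟨y, hyM⟩ p
      change cm a (y ^ p) = cm a y ^ p at this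
      rw [this, ← hzdef, hzp]
    obtain ⟨j, hj⟩ := hypU
    have hj' : a ^ j = y ^ p := hj
    have hjp : (p : ℤ) ∣ j := by
      have hcz : Commute z a := by
        obtain ⟨k, hk⟩ := hzU
        rw [← show a ^ k = z from hk]
        exact (Commute.refl a).zpow_left k
      have h1 : (z * a) ^ j = a ^ j := by
        rw [show z * a = y * a * y⁻¹ by rw [hzdef]; simp [cm], conj_zpow, hj']
        group
      rw [hcz.mul_zpow, mul_eq_right] at h1
      rwa [← orderOf_dvd_iff_zpow_eq_one, hzord] at h1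
    obtain ⟨j', rfl⟩ := hjp
    refine ⟨a ^ (-j' * α) * y, mul_mem (zpow_mem (hUM (mem_zpowers a)) _) hyM, ?_, ?_⟩
    · rw [hcoset y hzdef.symm _ (hzM y hyM), ← hj', ← zpow_add, hpz, hpn]
      exact ⟨j' * β, by linear_combination -((p : ℤ) * j') * hab⟩
    · rw [hcmul _ (zpow_mem (hUM (mem_zpowers a)) _) _ hyM, (hc1 _).2 (zpow_mem (mem_zpowers a) _),
        one_mul, hzdef]
  have hy1U : y1 ∉ zpowers a := fun h => hz1 (hy1c ▸ (hc1 y1).2 h)
  have hy1z : Commute z y1 := (hzM y1 hy1M).symm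
  let g : zpowers z × zpowers y1 →* G := MonoidHom.noncommCoprod (zpowers z).subtype (zpowers y1).subtype
    (by
      rintro ⟨_, i, rfl⟩ ⟨_, j, rfl⟩
      exact (hy1z.zpow_left i).zpow_right j)
  have hgapp : ∀ i j : ℤ, g (⟨z ^ i, i, rfl⟩, ⟨y1 ^ j, j, rfl⟩) = z ^ i * y1 ^ j := fun i j => rfl
  have hord1 : orderOf y1 = p := orderOf_eq_prime hy1p (fun h => hy1U (h ▸ one_mem _))
  have hginj : Function.Injective g := by
    rw [injective_iff_map_eq_one]
    rintro ⟨⟨_, i, rfl⟩, ⟨_, j, rfl⟩⟩ h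
    have h' : z ^ i * y1 ^ j = 1 := h
    have hj : y1 ^ j = 1 := by
      by_contra hne
      apply hy1U
      have hj1 : y1 ^ j ∈ zpowers a := by
        rw [eq_inv_of_mul_eq_one_right h']; exact inv_mem (zpow_mem hzU _)
      have hnd : ¬ (p : ℤ) ∣ j := fun hd => hne (by rwa [← orderOf_dvd_iff_zpow_eq_one, hord1])
      obtain ⟨γ, δ, hgd⟩ : IsCoprime j (p : ℤ) :=
        ((Nat.prime_iff_prime_int.1 hp.out).coprime_iff_not_dvd.2 hnd).symm
      have : y1 = (y1 ^ j) ^ γ := by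
        rw [← zpow_mul]
        conv_lhs => rw [← zpow_one y1]
        rw [← orderOf_dvd_sub_iff_zpow_eq_zpow, hord1]
        exact ⟨δ, by linear_combination -hgd⟩
      rw [this]; exact zpow_mem hj1 _
    rw [hj, mul_one] at h'
    exact Prod.ext (Subtype.ext h') (Subtype.ext hj)
  have hEM : g.range ≤ M := by
    rintro _ ⟨⟨⟨_, i, rfl⟩, ⟨_, j, rfl⟩⟩, rfl⟩
    exact mul_mem (zpow_mem (hUM hzU) i) (zpow_mem hy1M j)
  have hEexp : ∀ x ∈ g.range, x ^ p = 1 := by
    rintro _ ⟨⟨⟨_, i, rfl⟩, ⟨_, j, rfl⟩⟩, rfl⟩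
    show (z ^ i * y1 ^ j) ^ p = 1
    rw [((hy1z.zpow_left i).zpow_right j).mul_pow, ← zpow_natCast (z ^ i), ← zpow_natCast (y1 ^ j),
      zpow_comm z, zpow_comm y1, zpow_natCast, zpow_natCast, hzp, hy1p, one_zpow, one_zpow, one_mul]
  have hmemE : ∀ x ∈ M, x ^ p = 1 → x ∈ g.range := by
    intro x hx hxp
    have hzr : zpowers z ≤ g.range := zpowers_le.2 ⟨(⟨z, mem_zpowers z⟩, 1), by simp [g]⟩
    have hyr : y1 ∈ g.range := ⟨(1, ⟨y1, mem_zpowers y1⟩), by simp [g]⟩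
    by_cases hxU : x ∈ zpowers a
    · exact hzr (htor' x hxU hxp)
    obtain ⟨k, hk⟩ := htor' _ (hcU x) ((hM x).1 hx)
    have hk' : z ^ k = cm a x := hk
    have hnd : ¬ (p : ℤ) ∣ k := fun hd => hxU ((hc1 x).1 (by
      rw [← hk', ← orderOf_dvd_iff_zpow_eq_one, hzord]; exact hd))
    obtain ⟨γ, δ, hgd⟩ : IsCoprime k (p : ℤ) :=
      ((Nat.prime_iff_prime_int.1 hp.out).coprime_iff_not_dvd.2 hnd).symm
    have hxg : cm a (x ^ γ) = z := by
      have := map_zpow f ⟨x, hx⟩ γ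
      change cm a (x ^ γ) = cm a x ^ γ at this
      rw [this, ← hk', ← zpow_mul]
      conv_rhs => rw [← zpow_one z]
      rw [← orderOf_dvd_sub_iff_zpow_eq_zpow, hzord]
      exact ⟨-δ, by linear_combination hgd⟩
    have hu : x ^ γ * y1⁻¹ ∈ zpowers a := by
      rw [← hc1, hcmul _ (zpow_mem hx γ) _ (inv_mem hy1M), hxg]
      have := map_inv f ⟨y1, hy1M⟩
      change cm a y1⁻¹ = (cm a y1)⁻¹ at this
      rw [this, hy1c, mul_inv_cancel]
    obtain ⟨m, hm⟩ := hu
    have hm' : a ^ m * y1 = x ^ γ := by rw [show a ^ m = x ^ γ * y1⁻¹ from hm, inv_mul_cancel_right]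
    have hpow : (a ^ m * y1) ^ p = 1 := by
      rw [hm', ← zpow_natCast, zpow_comm, zpow_natCast, hxp, one_zpow]
    rw [hcoset y1 hy1c m hy1z.symm, hy1p, mul_one, hpz, hpn, mul_assoc] at hpow
    have hm1 : (p : ℤ) ^ (n - 1) ∣ m := by
      obtain ⟨q, hq⟩ := Int.dvd_of_mul_dvd_mul_left hp0 hpow
      exact ⟨α * q + β * m, by linear_combination α * hq - m * hab⟩
    have ham : a ^ m ∈ g.range := hzr (htor' _ (zpow_mem (mem_zpowers a) _) (by
      rw [← zpow_natCast, ← zpow_mul, hpz, hpn, mul_comm m]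
      exact mul_dvd_mul_left _ hm1))
    have hxg' : x ^ γ ∈ g.range := hm' ▸ mul_mem ham hyr
    have hxx : x = (x ^ γ) ^ k := by
      rw [← zpow_mul]
      conv_lhs => rw [← zpow_one x]
      rw [← orderOf_dvd_sub_iff_zpow_eq_zpow]
      refine dvd_trans (Int.natCast_dvd_natCast.2 (orderOf_dvd_of_pow_eq_one hxp)) ⟨δ, ?_⟩
      linear_combination -hgd
    rw [hxx]; exact zpow_mem hxg' _
  refine ⟨g.range, ?_, ⟨⟨⟨?_⟩⟩, hEexp⟩, ?_, ?_⟩
  · exact le_antisymm (closure_le _ |>.2 fun x hx => hmemE x hx.1 hx.2)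
      (fun x hx => subset_closure ⟨hEM hx, hEexp x hx⟩)
  · rintro ⟨_, u, rfl⟩ ⟨_, v, rfl⟩
    apply Subtype.ext
    show g u * g v = g v * g u
    rw [← map_mul, ← map_mul]
    congr 1
    exact Prod.ext (mul_comm' _ _) (mul_comm' _ _)
  · rw [← Nat.card_congr (MonoidHom.ofInjective hginj).toEquiv, Nat.card_prod, Nat.card_zpowers,
      Nat.card_zpowers, hzord, hord1, pow_two]
  · intro hMn
    have hEn : g.range.Normal := by
      refine ⟨fun x hx h => hmemE _ (hMn.conj_mem x (hEM hx) h) ?_⟩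
      rw [conj_pow, hEexp x hx, mul_one, mul_inv_cancel]
    rw [characteristic_iff_map_le]
    rintro φ _ ⟨e, he, rfl⟩
    refine hmemE _ ?_ (by show (φ e) ^ p = 1; rw [← map_pow, hEexp e he, map_one])
    rw [hM]
    have hmem : φ.symm (cm a (φ e)) ∈ g.range := by
      have : φ.symm (cm a (φ e)) = e * (φ.symm a * e⁻¹ * (φ.symm a)⁻¹) := by
        simp only [cm, map_mul, map_inv, MulEquiv.symm_apply_apply]; group
      rw [this]
      exact mul_mem he (hEn.conj_mem _ (inv_mem he) _)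
    have h1 := hEexp _ hmem
    rw [← map_pow] at h1
    exact φ.symm.injective (h1.trans (map_one _).symm)
where
  mul_comm' {c : G} (u v : zpowers c) : u * v = v * u := by
    obtain ⟨_, i, rfl⟩ := u
    obtain ⟨_, j, rfl⟩ := v
    exact Subtype.ext ((Commute.refl c).zpow_zpow i j).eq

end

theorem exists_pow_step {G : Type*} [Group G] {p : ℕ} (hG : IsPGroup p G) (U : Subgroup G) {g : G}
    (hg : g ∉ U) : ∃ k : ℕ, g ^ (p ^ k) ∉ U ∧ g ^ (p ^ (k + 1)) ∈ U := by
  classical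
  obtain ⟨K, hK⟩ := hG g
  have hex : ∃ k, g ^ (p ^ k) ∈ U := ⟨K, hK ▸ one_mem U⟩
  have h0 : Nat.find hex ≠ 0 := by
    intro h
    have := Nat.find_spec hex
    rw [h, pow_zero, pow_one] at this
    exact hg this
  refine ⟨Nat.find hex - 1, Nat.find_min hex (by omega), ?_⟩
  rw [show Nat.find hex - 1 + 1 = Nat.find hex by omega]
  exact Nat.find_spec hex

/-- Let G be a finite non-abelian p-group with a cyclic normal subgroup U of order p^n such that C_G(U) = U. Then either p = 2 and G is dihedral, generalized quaternion or semidihedral of order 2^(n+1); or, writing U₁ for the subgroup generated by the p-th powers of elements of U and M = C_G(U₁), the subgroup U has index p in M and the subgroup Ω₁(M) generated by the elements of M of order dividing p is elementary abelian of order p² and characteristic in G. -/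
theorem result {G : Type*} [Group G] [Finite G] {p : ℕ} [Fact p.Prime] (hG : IsPGroup p G) (hna : ¬ IsMulCommutative G) (U : Subgroup G) [U.Normal] (hU : IsCyclic U) (n : ℕ) (hUn : Nat.card U = p ^ n) (hC : Subgroup.centralizer (U : Set G) = U) : (p = 2 ∧ Nat.card G = 2 ^ (n + 1) ∧ ((∃ m : ℕ, Nonempty (G ≃* DihedralGroup m)) ∨ (∃ m : ℕ, Nonempty (G ≃* QuaternionGroup m)) ∨ Cfsg.IsQuasiDihedral G)) ∨ (U.relIndex (Subgroup.centralizer (Cfsg.powerClosure p 1 U : Set G)) = p ∧ Cfsg.IsElementaryAbelian p (Cfsg.omegaOne p (Subgroup.centralizer (Cfsg.powerClosure p 1 U : Set G))) ∧ Nat.card ↥(Cfsg.omegaOne p (Subgroup.centralizer (Cfsg.powerClosure p 1 U : Set G))) = p ^ 2 ∧ (Cfsg.omegaOne p (Subgroup.centralizer (Cfsg.powerClosure p 1 U : Set G))).Characteristic) := by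
  classical
  have hp : p.Prime := Fact.out
  obtain ⟨a, ha⟩ := Subgroup.isCyclic_iff_exists_zpowers_eq_top U |>.1 hU
  subst ha
  have hord : orderOf a = p ^ n := by rw [← Nat.card_zpowers, hUn]
  have hC' : ∀ g : G, g * a = a * g ↔ g ∈ zpowers a := by
    intro g
    conv_rhs => rw [← hC, mem_centralizer_iff]
    constructor
    · rintro h _ ⟨i, rfl⟩
      exact ((show Commute g a from h).zpow_right i).eq.symm
    · intro h; exact (h a (mem_zpowers a)).symm
  have hN : (zpowers a).Normal := inferInstance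
  choose r hr using fun g : G => mem_zpowers_iff.1 (hN.conj_mem a (mem_zpowers a) g)
  have hpz : ∀ i j : ℤ, a ^ i = a ^ j ↔ (p : ℤ) ^ n ∣ i - j := by
    intro i j; rw [← orderOf_dvd_sub_iff_zpow_eq_zpow, hord]; push_cast; rfl
  have hrpow : ∀ (g : G) (k : ℕ), g ^ k * a * (g ^ k)⁻¹ = a ^ (r g ^ k) := by
    intro g k
    induction k with
    | zero => simp
    | succ k ih =>
      calc g ^ (k + 1) * a * (g ^ (k + 1))⁻¹ = g * (g ^ k * a * (g ^ k)⁻¹) * g⁻¹ := by
            rw [pow_succ']; group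
        _ = a ^ (r g ^ (k + 1)) := by rw [ih, ← conj_zpow, ← hr g, ← zpow_mul, pow_succ']
  have hrU : ∀ g : G, (p : ℤ) ^ n ∣ r g - 1 → g ∈ zpowers a := by
    intro g h
    rw [← hC', ← mul_inv_eq_iff_eq_mul, ← hr g]
    conv_rhs => rw [← zpow_one a]
    exact (hpz _ _).2 h
  have hn : 2 ≤ n := by
    by_contra hlt
    have hcen : zpowers a ≤ center G := by
      obtain rfl | rfl : n = 0 ∨ n = 1 := by omega
      · rw [zpowers_le]
        rw [pow_zero, orderOf_eq_one_iff] at hord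
        rw [hord]; exact one_mem _
      · intro x hx
        rw [mem_center_iff]
        intro g
        by_contra hne
        have hgU : g ∉ zpowers a := by
          intro hg
          obtain ⟨i, rfl⟩ := hg
          obtain ⟨j, rfl⟩ := hx
          exact hne ((Commute.refl a).zpow_zpow i j).eq
        obtain ⟨k, hk, hk1⟩ := exists_pow_step hG _ hgU
        set h := g ^ (p ^ k) with hh
        have hhp : h ^ p ∈ zpowers a := by rw [hh, ← pow_mul, ← pow_succ]; exact hk1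
        have h1 : (p : ℤ) ^ 1 ∣ r h ^ p - 1 := by
          refine (hpz _ _).1 ?_
          rw [← hrpow, zpow_one]
          exact mul_inv_eq_iff_eq_mul.2 ((hC' _).2 hhp)
        refine hk (hrU h ?_)
        rw [pow_one, ← ZMod.intCast_zmod_eq_zero_iff_dvd] at h1 ⊢
        push_cast at h1 ⊢
        rwa [ZMod.pow_card] at h1
    refine hna ⟨⟨fun x y => ?_⟩⟩
    have hall : ∀ g : G, g ∈ zpowers a := fun g =>
      (hC' g).1 (mem_center_iff.1 (hcen (mem_zpowers a)) g)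
    exact (mem_center_iff.1 (hcen (hall y)) x)
  set M := centralizer (powerClosure p 1 (zpowers a) : Set G) with hMdef
  have hpc : powerClosure p 1 (zpowers a) = zpowers (a ^ p) := by
    rw [powerClosure, pow_one]
    refine le_antisymm ((closure_le _).2 ?_) (zpowers_le.2 (subset_closure ⟨a, mem_zpowers a, rfl⟩))
    rintro _ ⟨_, ⟨i, rfl⟩, rfl⟩
    exact ⟨i, by show (a ^ p) ^ i = (a ^ i) ^ p; rw [← zpow_natCast, ← zpow_natCast, zpow_comm]⟩
  have hMc : ∀ g, g ∈ M ↔ g * a ^ p * g⁻¹ = a ^ p := by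
    intro g
    rw [hMdef, hpc, mem_centralizer_iff, mul_inv_eq_iff_eq_mul]
    constructor
    · intro h; exact (h _ (mem_zpowers _)).symm
    · rintro h _ ⟨i, rfl⟩
      exact ((show Commute g (a ^ p) from h).zpow_right i).eq.symm
  have hM : ∀ g, g ∈ M ↔ cm a g ^ p = 1 := by
    intro g
    rw [hMc]
    have hcomm : Commute (cm a g) a := by
      rw [cm, ← hr g, ← zpow_sub_one]
      exact (Commute.refl a).zpow_left _
    rw [← conj_pow, show g * a * g⁻¹ = cm a g * a by simp [cm], hcomm.mul_pow, mul_eq_right]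
  have hMr : ∀ g, g ∈ M ↔ (p : ℤ) ^ n ∣ p * (r g - 1) := by
    intro g
    rw [hM, cm, ← hr g, ← zpow_sub_one, ← zpow_natCast, ← zpow_mul,
      ← orderOf_dvd_iff_zpow_eq_one, hord, mul_comm (p : ℤ)]
    push_cast; rfl
  have hMn : M.Normal := by
    refine ⟨fun m hm g => ?_⟩
    rw [hMc] at hm ⊢
    obtain ⟨i, hi⟩ : g⁻¹ * a ^ p * g ∈ zpowers (a ^ p) := by
      refine ⟨r g⁻¹, ?_⟩
      show (a ^ p) ^ r g⁻¹ = _
      rw [← zpow_natCast a p, zpow_comm, hr g⁻¹, conj_zpow, inv_inv]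
    have hi' : (a ^ p) ^ i = g⁻¹ * a ^ p * g := hi
    calc g * m * g⁻¹ * a ^ p * (g * m * g⁻¹)⁻¹ = g * (m * (g⁻¹ * a ^ p * g) * m⁻¹) * g⁻¹ := by group
      _ = g * (g⁻¹ * a ^ p * g) * g⁻¹ := by rw [← hi', ← conj_zpow, hm]
      _ = a ^ p := by group
  by_cases hp2 : p = 2 ∧ n = 2
  · obtain ⟨rfl, rfl⟩ := hp2
    left
    have hodd : ∀ g, (2 : ℤ) ∣ r g - 1 := by
      intro g
      by_contra h
      have h2 : (2 : ℤ) ∣ r g := by omega
      obtain ⟨q, hq⟩ := h2
      have := hr g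
      have h1 : (g * a * g⁻¹) ^ 2 = 1 := by
        rw [← this, ← zpow_natCast, ← zpow_mul, ← orderOf_dvd_iff_zpow_eq_one, hord, hq]
        exact ⟨q, by push_cast; ring⟩
      rw [conj_pow, conj_eq_one_iff] at h1
      have := orderOf_dvd_of_pow_eq_one h1
      rw [hord] at this
      norm_num at this
    have h4 : ∀ g, g ∉ zpowers a → ¬ (4 : ℤ) ∣ r g - 1 := fun g hg h => hg (hrU g (by norm_num; exact h))
    obtain ⟨y, hy⟩ : ∃ y, y ∉ zpowers a := by
      by_contra h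
      push Not at h
      exact hna ⟨⟨fun u v => by
        obtain ⟨i, rfl⟩ := h u
        obtain ⟨j, rfl⟩ := h v
        exact ((Commute.refl a).zpow_zpow i j).eq⟩⟩
    have hidx : (zpowers a).index = 2 := by
      rw [index_eq_two_iff]
      refine ⟨y, fun b => ?_⟩
      by_cases hb : b ∈ zpowers a
      · refine Or.inr ⟨hb, fun hby => hy ?_⟩
        simpa using mul_mem (inv_mem hb) hby
      · refine Or.inl ⟨hrU _ ?_, hb⟩
        have heq : a ^ r (b * y) = a ^ (r b * r y) := by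
          rw [hr (b * y), show b * y * a * (b * y)⁻¹ = b * (y * a * y⁻¹) * b⁻¹ by group, ← hr y,
            ← conj_zpow, ← hr b, ← zpow_mul]
        have h1 := (hpz _ _).1 heq
        norm_num at h1 ⊢
        obtain ⟨s, hs⟩ : ∃ s, r b = 4 * s + 3 := ⟨r b / 4, by
          have := hodd b; have := h4 b hb; omega⟩
        obtain ⟨t, ht⟩ : ∃ t, r y = 4 * t + 3 := ⟨r y / 4, by
          have := hodd y; have := h4 y hy; omega⟩
        obtain ⟨q, hq⟩ := h1
        exact ⟨q + (4 * s * t + 3 * s + 3 * t + 2), by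
          linear_combination hq + (r y) * hs + (4 * s + 3) * ht⟩
    exact ⟨rfl, mc_case hG hna le_rfl hord hidx hy (hr y).symm (hodd y) (h4 y hy)⟩
  by_cases hMU : ∃ x ∈ M, x ∉ zpowers a
  · right
    obtain ⟨h1, E, hE, h2, h3, h4⟩ := main_case hN hn hord hC' hp2 M hM hMU
    rw [hE]
    exact ⟨h1, h2, h3, h4 hMn⟩
  left
  push Not at hMU
  have hpdiv : ∀ g : G, g ^ p ∈ zpowers a → (p : ℤ) ^ n ∣ r g ^ p - 1 := by
    intro g hg
    refine (hpz _ _).1 ?_
    rw [← hrpow, zpow_one]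
    exact mul_inv_eq_iff_eq_mul.2 ((hC' _).2 hg)
  obtain ⟨y0, hy0⟩ : ∃ y, y ∉ zpowers a := by
    by_contra h
    push Not at h
    exact hna ⟨⟨fun u v => by
      obtain ⟨i, rfl⟩ := h u
      obtain ⟨j, rfl⟩ := h v
      exact ((Commute.refl a).zpow_zpow i j).eq⟩⟩
  have hpn : (p : ℤ) ^ n = p * p ^ (n - 1) := by rw [← pow_succ']; congr 1; omega
  have hpeq : p = 2 := by
    by_contra hne
    obtain ⟨k, hk, hk1⟩ := exists_pow_step hG _ hy0
    set h := y0 ^ (p ^ k) with hh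
    refine hk (hMU h ((hMr h).2 ?_))
    have hd := hpdiv h (by rw [hh, ← pow_mul, ← pow_succ]; exact hk1)
    rw [hpn]
    refine mul_dvd_mul_left _ ?_
    have hp1 : (p : ℤ) ∣ r h - 1 := by
      have h1 : (p : ℤ) ∣ r h ^ p - 1 := dvd_trans (dvd_pow_self _ (by omega)) hd
      rw [← ZMod.intCast_zmod_eq_zero_iff_dvd] at h1 ⊢
      push_cast at h1 ⊢
      rwa [ZMod.pow_card] at h1
    have hnr : ¬ (p : ℤ) ∣ r h := fun hd' => (Nat.prime_iff_prime_int.1 hp).not_dvd_one (by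
      have := dvd_sub hd' hp1
      simpa using this)
    have hL := Int.emultiplicity_pow_sub_pow hp (hp.odd_of_ne_two hne) (x := r h) (y := 1) hp1 hnr p
    rw [one_pow] at hL
    rw [pow_dvd_iff_le_emultiplicity] at hd ⊢
    rw [hL, Nat.Prime.emultiplicity_self hp, show (n : ℕ∞) = ((n - 1 : ℕ) : ℕ∞) + 1 by
      norm_cast; omega] at hd
    exact (ENat.add_le_add_iff_right (by simp)).1 hd
  subst hpeq
  have hn3 : 3 ≤ n := by
    by_contra h
    exact hp2 ⟨rfl, by omega⟩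
  have hodd : ∀ g, (2 : ℤ) ∣ r g - 1 := by
    intro g
    by_contra h
    have h2 : (2 : ℤ) ∣ r g := by omega
    obtain ⟨q, hq⟩ := h2
    have h1 : (g * a * g⁻¹) ^ 2 ^ (n - 1) = 1 := by
      rw [← hr g, ← zpow_natCast, ← zpow_mul, ← orderOf_dvd_iff_zpow_eq_one, hord, hq]
      refine ⟨q, ?_⟩
      push_cast
      rw [show (2 : ℤ) ^ n = 2 * 2 ^ (n - 1) by rw [← pow_succ']; congr 1; omega]
      ring
    rw [conj_pow, conj_eq_one_iff] at h1
    have := orderOf_dvd_of_pow_eq_one h1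
    rw [hord, Nat.pow_dvd_pow_iff_le_right (by norm_num)] at this
    omega
  have hkey : ∀ g, g ∉ zpowers a → g ^ 2 ∈ zpowers a → ¬ (4 : ℤ) ∣ r g - 1 := by
    intro g hg hg2 h4
    refine hg (hMU g ((hMr g).2 ?_))
    have hd := hpdiv g hg2
    rw [hpn] at hd
    rw [hpn]
    push_cast at hd ⊢
    refine mul_dvd_mul_left _ ?_
    obtain ⟨q, hq⟩ := h4
    have hd2 : (2 : ℤ) * 2 ^ (n - 1) ∣ 2 * ((r g - 1) * (2 * q + 1)) := by
      rw [show 2 * ((r g - 1) * (2 * q + 1)) = r g ^ 2 - 1 by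
        linear_combination -(r g - 1) * hq]
      exact hd
    have hcop : IsCoprime ((2 : ℤ) ^ (n - 1)) (2 * q + 1) := IsCoprime.pow_left ⟨-q, 1, by ring⟩
    exact hcop.dvd_of_dvd_mul_right (Int.dvd_of_mul_dvd_mul_left two_ne_zero hd2)
  have hsq : ∀ g : G, g ^ 2 ∈ zpowers a := by
    intro g
    by_contra h
    obtain ⟨k, hk, hk1⟩ := exists_pow_step hG _ h
    set u := g ^ 2 ^ k with hu
    have hsq1 : (g ^ 2) ^ 2 ^ k = u ^ 2 := by rw [hu, ← pow_mul, ← pow_mul, mul_comm]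
    rw [hsq1] at hk
    refine hkey (u ^ 2) hk ?_ ?_
    · rw [← hsq1, ← pow_mul, ← pow_succ]; exact hk1
    · have heq : a ^ r (u ^ 2) = a ^ (r u ^ 2) := by rw [hr, hrpow]
      have h1 := dvd_trans (show (4 : ℤ) ∣ (2 : ℤ) ^ n from ⟨2 ^ (n - 2), by
        rw [show (4 : ℤ) = 2 ^ 2 by norm_num, ← pow_add]; congr 1; omega⟩) ((hpz _ _).1 heq)
      obtain ⟨q, hq⟩ := hodd u
      obtain ⟨q', hq'⟩ := h1
      exact ⟨q' + q * q + q, by linear_combination hq' + (r u + 1 + 2 * q) * hq⟩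
  have h4 : ∀ g, g ∉ zpowers a → ¬ (4 : ℤ) ∣ r g - 1 := fun g hg => hkey g hg (hsq g)
  have hidx : (zpowers a).index = 2 := by
    rw [index_eq_two_iff]
    refine ⟨y0, fun b => ?_⟩
    by_cases hb : b ∈ zpowers a
    · refine Or.inr ⟨hb, fun hby => hy0 ?_⟩
      simpa using mul_mem (inv_mem hb) hby
    · refine Or.inl ⟨?_, hb⟩
      by_contra hby
      refine h4 _ hby ?_
      have heq : a ^ r (b * y0) = a ^ (r b * r y0) := by
        rw [hr (b * y0), show b * y0 * a * (b * y0)⁻¹ = b * (y0 * a * y0⁻¹) * b⁻¹ by group, ← hr y0,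
          ← conj_zpow, ← hr b, ← zpow_mul]
      have h1 := dvd_trans (show (4 : ℤ) ∣ (2 : ℤ) ^ n from ⟨2 ^ (n - 2), by
        rw [show (4 : ℤ) = 2 ^ 2 by norm_num, ← pow_add]; congr 1; omega⟩) ((hpz _ _).1 heq)
      obtain ⟨s, hs⟩ : ∃ s, r b = 4 * s + 3 := ⟨r b / 4, by
        have := hodd b; have := h4 b hb; omega⟩
      obtain ⟨t, ht⟩ : ∃ t, r y0 = 4 * t + 3 := ⟨r y0 / 4, by
        have := hodd y0; have := h4 y0 hy0; omega⟩
      obtain ⟨q, hq⟩ := h1
      exact ⟨q + (4 * s * t + 3 * s + 3 * t + 2), by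
        linear_combination hq + (r y0) * hs + (4 * s + 3) * ht⟩
  exact ⟨rfl, mc_case hG hna hn hord hidx hy0 (hr y0).symm (hodd y0) (h4 y0 hy0)⟩

end Cfsg.Agent.S3761
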