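import Cfsg.Statements.S1569
import Cfsg.Agent.Lib.Leech.Orbits
import Cfsg.Agent.Lib.Leech.Stab

set_option autoImplicit false
open scoped Pointwise
open Cfsg

namespace Cfsg.Agent.S1569

open Cfsg.Agent.Leech

theorem single_eq (i : GolayPt) : (Pi.single i (8 : ℤ) : GolayPt → ℤ) = e8 i := funext fun j => by
  simp [e8, Pi.single_apply]

theorem single_eq_neg (i : GolayPt) : (Pi.single i (-8 : ℤ) : GolayPt → ℤ) = -e8 i := by
  rw [← single_eq, Pi.single_neg]


/-- The cross through a lattice vector of customary norm 8 has exactly 48 members. -/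
theorem result (x : Cfsg.GolayPt → ℤ) (hx : x ∈ Cfsg.leechLattice) (hxn : Cfsg.sqNorm x = 64) : (Cfsg.cross x).ncard = 48 := by
  classical
  obtain ⟨g, hg⟩ := coEq_cross hx hxn
  have hstd : cross (e8 none) = stdCross := Set.ext fun y => by
    constructor
    · rintro ⟨hy, hn, hc⟩
      obtain ⟨i, h | h⟩ := cross_std hy (hn.trans (e8_norm none)) (Cong.symm hc)
      exacts [⟨i, 8, Or.inl rfl, h.trans (single_eq i).symm⟩, ⟨i, -8, Or.inr rfl, h.trans (single_eq_neg i).symm⟩]
    · rintro ⟨i, s, rfl | rfl, rfl⟩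
      · rw [single_eq]; exact ⟨e8_mem i, (e8_norm i).trans (e8_norm none).symm, cong_e8 none i⟩
      · rw [single_eq_neg]
        exact ⟨neg_mem (e8_mem i), (sqNorm_neg _).trans ((e8_norm i).trans (e8_norm none).symm),
          (cong_e8 none i).trans (cong_neg (e8_mem i))⟩
  have himg : ap g '' cross x = cross (e8 none) := Set.ext fun y => by
    constructor
    · rintro ⟨w, ⟨hw, hn, hc⟩, rfl⟩
      exact ⟨ap_mem g hw, by rw [ap_norm g hw, hn, ← ap_norm g hx, hg], hg ▸ ap_cong g hx hw hc⟩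
    · rintro ⟨hy, hn, hc⟩
      refine ⟨ap g⁻¹ y, ⟨ap_mem _ hy, ?_, ?_⟩, by simpa using ap_inv_ap g⁻¹ hy⟩
      · rw [ap_norm _ hy, hn, e8_norm, hxn]
      · have h := ap_cong g⁻¹ (e8_mem none) hy hc
        rw [← hg, ap_inv_ap g hx] at h
        exact h
  have hinj : Set.InjOn (ap g) (cross x) := fun a ha b hb h => ap_inj g ha.1 hb.1 h
  rw [← hinj.ncard_image, himg, hstd,
    show stdCross = Set.range (fun p : GolayPt × Bool => (Pi.single p.1 (if p.2 then (8 : ℤ) else -8) : GolayPt → ℤ)) from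
      Set.ext fun y => by
        constructor
        · rintro ⟨i, s, rfl | rfl, rfl⟩
          exacts [⟨(i, true), rfl⟩, ⟨(i, false), rfl⟩]
        · rintro ⟨⟨i, b⟩, rfl⟩
          cases b
          exacts [⟨i, -8, Or.inr rfl, rfl⟩, ⟨i, 8, Or.inl rfl, rfl⟩]]
  rw [Set.ncard_range_of_injective]
  · simp [Fintype.card_option, ZMod.card]
  · rintro ⟨i, b⟩ ⟨j, c⟩ h
    have e := congrFun h i
    simp only [Pi.single_apply] at e
    by_cases hij : i = j
    · subst hij; cases b <;> cases c <;> simp at e ⊢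
    · cases b <;> cases c <;> simp [hij] at e

end Cfsg.Agent.S1569
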