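import Cfsg.Statements.S1064
import Cfsg.Agent.Lib.Chev.AllW7
import Cfsg.Agent.Lib.Chev.Smith

set_option autoImplicit false
open Cfsg

namespace Cfsg.Agent.S1064
open Cfsg.Agent

/-- `gcd(2, q-1) · |E₇(q)| = q⁶³ ∏_{d ∈ {2,6,8,10,12,14,18}} (q^d - 1)`. -/
theorem result {F : Type*} [Field F] [Fintype F] {q : ℕ} (hq : Fintype.card F = q) : Nat.gcd 2 (q - 1) * Nat.card ↥(Cfsg.Lie.chevE7.group F) = q ^ 63 * (q ^ 2 - 1) * (q ^ 6 - 1) * (q ^ 8 - 1) * (q ^ 10 - 1) * (q ^ 12 - 1) * (q ^ 14 - 1) * (q ^ 18 - 1) := by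
  have hJ : ∀ i < Chev.E7.pk.rank, i ∈ ([6, 5, 4, 3, 2, 1, 0] : List ℕ) := by decide
  have := Chev.E7.ok.order_formula (F := F) Chev.ckComm_E7 hJ Chev.ckOrb_E7 Chev.poinP_E7 (by decide) Chev.smith_E7
  rw [hq, show Chev.E7.pk.nroots / 2 = 63 from by decide] at this
  simp only [show Chev.E7.pk.rank = 7 from rfl] at this
  simp [List.range_succ] at this
  try simp only [Nat.gcd_comm (q - 1), ← pow_two] at this
  linarith

end Cfsg.Agent.S1064
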