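import Cfsg.Statements.S0497
import Cfsg.Agent.Lib.SmallSimple.Order360
import Cfsg.Agent.S0254
import Mathlib


set_option autoImplicit false
open Cfsg

namespace Cfsg.Agent.S0497

open Subgroup

/-- A simple group of order 360 is isomorphic to the alternating group of degree 6. -/
theorem result {G : Type*} [Group G] [Finite G] [IsSimpleGroup G]
    (h : Nat.card G = 360) : Nonempty (G ≃* alternatingGroup (Fin 6)) := by
  haveI : Fact (Nat.Prime 3) := ⟨Nat.prime_three⟩
  haveI : Fintype (GaloisField 3 2) := Fintype.ofFinite _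
  have hF : Fintype.card (GaloisField 3 2) = 9 := by
    rw [← Nat.card_eq_fintype_card, GaloisField.card 3 2 two_ne_zero]
    norm_num
  obtain ⟨e⟩ := Order360.mulEquiv_PSL_nine (G := G) h (SmallSimple.not_isMulCommutative (by rw [h]; norm_num)) hF
  obtain ⟨e'⟩ := S0254.result hF
  exact ⟨e.trans e'⟩

end Cfsg.Agent.S0497
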