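import Cfsg.Statements.S4482
import Cfsg.Agent.Lib.Blocks.DihedralOrder

set_option autoImplicit false
open Cfsg

namespace Cfsg.Agent.S4482


/-- An order formula for groups with dihedral Sylow 2-subgroups and one class of involutions. Let G be a finite group whose Sylow 2-subgroup P = ⟨σ, τ⟩ is dihedral of order 2^n ≥ 8 (σ of order 2^(n−1), τ an involution inverting σ), let J be the central involution σ^(2^(n−2)), and suppose J, τ and στ are conjugate in G. Fix M over 2 and let χ₁ be an irreducible character in the principal 2-block taking one constant value δ₁ = ±1 at every non-identity power of σ, with χ₁ ≠ 1. Then, with x₁ = χ₁(1) and c(·) denoting orders of centralizers, x₁ ≠ δ₁ and #G · (x₁ − δ₁)² = 2·x₁(x₁ + δ₁)·c(J)³·(1/c(J, τ) + 1/c(J, στ))², where c(J, y) is the order of the joint centralizer of J and y. -/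
theorem result {G : Type*} [Group G] [Finite G] (M : Ideal Cfsg.AlgInt) (hM : Cfsg.IsPModular 2 M) (n : ℕ) (hn : 3 ≤ n) (P : Sylow 2 G) (σ τ : G) (hσ : σ ∈ (P : Subgroup G)) (hτ : τ ∈ (P : Subgroup G)) (hσo : orderOf σ = 2 ^ (n - 1)) (hτo : orderOf τ = 2) (hrel : τ * σ * τ⁻¹ = σ⁻¹) (hgen : Subgroup.closure ({σ, τ} : Set G) = (P : Subgroup G)) (hconj : IsConj (σ ^ (2 ^ (n - 2))) τ ∧ IsConj (σ ^ (2 ^ (n - 2))) (σ * τ)) (χ₁ : Cfsg.IrrCharacter G) (hχ₁ : χ₁ ∈ Cfsg.principalBlock M G) (h1 : (χ₁ : G → ℂ) ≠ (fun _ => 1)) (δ₁ : ℤ) (hδ₁ : δ₁ = 1 ∨ δ₁ = -1) (hval : ∀ l : ℕ, 0 < l → l < 2 ^ (n - 1) → (χ₁ : G → ℂ) (σ ^ l) = δ₁) : (Cfsg.charDegree (χ₁ : G → ℂ) : ℤ) ≠ δ₁ ∧ (Nat.card G : ℚ) * ((Cfsg.charDegree (χ₁ : G → ℂ) : ℚ) - δ₁) ^ 2 = 2 * (Cfsg.charDegree (χ₁ : G → ℂ) : ℚ) * ((Cfsg.charDegree (χ₁ : G → ℂ) : ℚ) + δ₁) * (Nat.card (Subgroup.centralizer ({σ ^ (2 ^ (n - 2))} : Set G)) : ℚ) ^ 3 * (1 / (Nat.card (Subgroup.centralizer ({σ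 ^ (2 ^ (n - 2)), τ} : Set G)) : ℚ) + 1 / (Nat.card (Subgroup.centralizer ({σ ^ (2 ^ (n - 2)), σ * τ} : Set G)) : ℚ)) ^ 2 := by
    haveI := hM.2.1.isPrime
    have h4 : 4 ≤ 2 ^ (n - 1) :=
      le_trans (by norm_num) (Nat.pow_le_pow_right (by norm_num : 0 < 2) (show 2 ≤ n - 1 by omega))
    have hττ : τ * τ = 1 := by rw [← sq, ← hτo, pow_orderOf_eq_one]
    have hnm : τ ∉ Subgroup.zpowers σ := fun hm => by
      obtain ⟨r, hr⟩ := Subgroup.mem_zpowers_iff.mp hm
      rw [← hr, ((Commute.refl σ).zpow_left r).eq, mul_inv_cancel_right] at hrel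
      have h2 := Nat.le_of_dvd (by norm_num)
        (orderOf_dvd_of_pow_eq_one (show σ ^ 2 = 1 by rw [sq]; exact mul_eq_one_iff_eq_inv.mpr hrel))
      omega
    obtain ⟨e⟩ := Cfsg.Agent.Invol.nonempty_dihedralEquiv hττ hrel hnm
    rw [hσo] at e
    let e' : (P : Subgroup G) ≃* DihedralGroup (2 ^ (n - 1)) :=
      (MulEquiv.subgroupCongr (hgen.symm.trans (by rw [Set.pair_comm]))).trans e.symm
    let S : Cfsg.Agent.Blocks.DihSyl P := ⟨n, hn, e', σ, hσ, hσo⟩
    have hζ : IsPrimitiveRoot (Complex.exp (2 * Real.pi * Complex.I / (S.m : ℕ))) S.m :=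
      Complex.isPrimitiveRoot_exp _ (show 2 ^ (n - 1) ≠ 0 by positivity)
    obtain ⟨D⟩ := S.exists_blockData hζ hM
    have hh := S.two_h
    have h2h := S.two_le_h
    have hd : ∀ a : ℤ, (a = 1 ∨ a = -1) → (a : ℂ) = δ₁ → a = δ₁ := fun a _ h => by exact_mod_cast h
    have hS : ∀ l, 0 < l → l < S.m → (χ₁ : G → ℂ) (S.σ ^ l) = δ₁ := fun l a b => hval l a b
    have e1 := hS 1 (by norm_num) (by omega)
    have eh := hS S.h (by omega) (by omega)
    have e2 := hS 2 (by norm_num) (by omega)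
    obtain ⟨a1, a2, a3, -⟩ := D.val 1 (by norm_num) (by omega)
    obtain ⟨b1, b2, b3, -⟩ := D.val 2 (by norm_num) (by omega)
    obtain ⟨-, -, -, c4⟩ := D.val S.h (by omega) (by omega)
    have hkey : χ₁ = D.χ₁ := by
      rcases (D.block χ₁).mp hχ₁ with h | h | h | h | ⟨j, hj, hjh, h⟩
      · exact absurd h h1
      · exact h
      · exfalso
        rw [h] at e1 e2
        rw [a2] at e1
        rw [b2] at e2
        rcases D.hδ₂ with hs | hs <;> rcases hδ₁ with ht | ht <;> first | (norm_num [hs, ht] at e1; done) | (norm_num [hs, ht] at e2; done)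
      · exfalso
        rw [h] at e1 e2
        rw [a3] at e1
        rw [b3] at e2
        rcases D.hδ₃ with hs | hs <;> rcases hδ₁ with ht | ht <;> first | (norm_num [hs, ht] at e1; done) | (norm_num [hs, ht] at e2; done)
      · exfalso
        rw [h, c4 j hj hjh, mul_comm j, pow_mul, S.zeta_half hζ] at eh
        rcases D.hδ₁ with hs | hs <;> rcases hδ₁ with ht | ht <;>
          rcases neg_one_pow_eq_or ℂ j with hp | hp <;> rw [hs, ht, hp] at eh <;> norm_num at eh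
    have hδeq : δ₁ = D.δ₁ := by
      rw [hkey, a1] at e1
      exact_mod_cast e1.symm
    have hmain := S.order_formula hτ hrel hconj.1 hconj.2 hζ hM D
    rw [← hkey, ← hδeq] at hmain
    exact hmain

end Cfsg.Agent.S4482
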