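import Cfsg.Statements.S3012
import Cfsg.Agent.Lib.LocalEvenB.Basic

set_option autoImplicit false
open Cfsg

namespace Cfsg.Agent.S3012

open Cfsg.Agent.LocalEvenB

/-- Let G be a finite group, V a nontrivial elementary abelian 2-subgroup of G satisfying the Sidki pair condition (every odd-order element inverted by an element of V commutes with a nontrivial element of V), and K a normal subgroup of G with V ∩ K = 1. Then the image of V in G/K satisfies the Sidki pair condition in G/K. -/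
theorem result {G : Type*} [Group G] [Finite G] (V K : Subgroup G) [K.Normal] (hV : Cfsg.IsElementaryAbelian 2 V) (hV1 : V ≠ ⊥) (hS : Cfsg.IsSidkiPair V) (hVK : V ⊓ K = ⊥) : Cfsg.IsSidkiPair (V.map (QuotientGroup.mk' K)) := by
  intro hb vb hvb hodd hinv
  obtain ⟨v, hv, rfl⟩ := hvb
  obtain ⟨h, rfl⟩ := QuotientGroup.mk'_surjective K hb
  set f := QuotientGroup.mk' K
  have hv2 : v * v = 1 := by have := hV.2 v hv; rwa [pow_two] at this
  have hvi : v⁻¹ = v := inv_eq_of_mul_eq_one_right hv2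
  -- `z = v (h v h⁻¹)` is inverted by `v` and maps to `(f h)⁻²`
  set z : G := v * (h * v * h⁻¹) with hz
  have hu2 : (h * v * h⁻¹) * (h * v * h⁻¹) = 1 := by
    rw [show (h * v * h⁻¹) * (h * v * h⁻¹) = h * (v * v) * h⁻¹ by group, hv2, mul_one, mul_inv_cancel]
  have hzinv : v * z * v⁻¹ = z⁻¹ := by
    have h1 : v * z * v⁻¹ = (h * v * h⁻¹) * v⁻¹ := by
      rw [hz, ← mul_assoc, ← mul_assoc, hv2, one_mul]
    rw [h1, hz, mul_inv_rev, inv_eq_of_mul_eq_one_right hu2]
  have hfv : f v * f h * (f v)⁻¹ = (f h)⁻¹ := hinv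
  have hfz : f z = (f h)⁻¹ * (f h)⁻¹ := by
    have h2 : f v * f v = 1 := by rw [← map_mul, hv2, map_one]
    have h3 : (f v)⁻¹ = f v := inv_eq_of_mul_eq_one_right h2
    rw [h3] at hfv
    rw [hz, map_mul, map_mul, map_mul, map_inv, ← mul_assoc, ← mul_assoc, hfv]
  -- the odd part of `z`
  set b := (orderOf z).factorization 2
  set z₁ : G := z ^ (2 ^ b) with hz₁
  have hz₁odd : Odd (orderOf z₁) := by
    rw [hz₁, orderOf_pow' _ (by positivity), Nat.gcd_eq_right (Nat.ordProj_dvd _ _)]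
    rw [← Nat.not_even_iff_odd, even_iff_two_dvd]
    exact Nat.not_dvd_ordCompl Nat.prime_two (orderOf_pos z).ne'
  have hz₁inv : v * z₁ * v⁻¹ = z₁⁻¹ := by
    rw [hz₁, ← conj_pow, hzinv, inv_pow]
  obtain ⟨w, hw, hw1, hwz⟩ := hS z₁ v hv hz₁odd hz₁inv
  refine ⟨f w, ⟨w, hw, rfl⟩, fun hc => ?_, ?_⟩
  · exact hw1 (by
      have : w ∈ V ⊓ K := ⟨hw, (QuotientGroup.eq_one_iff w).1 hc⟩
      rwa [hVK] at this)
  · have hcop : Nat.Coprime (2 * 2 ^ b) (orderOf (f h)) := by
      rw [← pow_succ']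
      exact (Nat.coprime_two_left.2 hodd).pow_left _
    obtain ⟨m, hm⟩ := exists_pow_eq_self_of_coprime hcop
    have hfz₁ : f z₁ = ((f h) ^ (2 * 2 ^ b))⁻¹ := by
      rw [hz₁, map_pow, hfz, ← mul_inv_rev, inv_pow, pow_mul, pow_two]
    have hcomm : Commute (f w) (f z₁) := by
      show f w * f z₁ = f z₁ * f w
      rw [← map_mul, ← map_mul, hwz]
    rw [hfz₁, Commute.inv_right_iff] at hcomm
    have := hcomm.pow_right m
    rw [hm] at this
    exact this.eq

end Cfsg.Agent.S3012
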