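import Cfsg.Statements.S0132
import Cfsg.Agent.Lib.Transfer.Fusion

set_option autoImplicit false
open Cfsg

namespace Cfsg.Agent.S0132

open Subgroup Cfsg.Agent.Transfer
open scoped commutatorElement Pointwise


/-- A minimal non-p-nilpotent finite group is a minimal non-nilpotent group with a normal Sylow p-subgroup. -/
theorem result {G : Type*} [Group G] [Finite G] {p : ℕ} [Fact p.Prime] (h1 : ¬ Cfsg.HasNormalPComplement p G) (h2 : ∀ H : Subgroup G, H ≠ ⊤ → Cfsg.HasNormalPComplement p H) : (∀ H : Subgroup G, H ≠ ⊤ → Group.IsNilpotent H) ∧ ¬ Group.IsNilpotent G ∧ ∀ P : Sylow p G, (P : Subgroup G).Normal := by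
  by_contra hgoal
  have hF : ¬ ∀ D : Subgroup G, IsPGroup p D → ∀ g ∈ normalizer (D : Set G), (orderOf g).Coprime p → g ∈ centralizer (D : Set G) := fun h => h1 (hasNormalPComplement_of_frobenius h)
  push_neg at hF
  obtain ⟨D, hD, g, hg, hgo, hgc⟩ := hF
  have htop : D ⊔ zpowers g = ⊤ := by
    by_contra hne
    set X := D ⊔ zpowers g with hX
    have hgX : g ∈ X := mem_sup_right (mem_zpowers g)
    have := centralizes_of_hasNormalPComplement (h2 X hne) (D.subgroupOf X) hD.comap_subtype ⟨g, hgX⟩
      (mem_normalizer_iff.mpr fun y => mem_normalizer_iff.mp hg y) (by rwa [← Subgroup.orderOf_coe])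
    exact hgc fun y hy => congrArg Subtype.val (this ⟨y, mem_sup_left hy⟩ hy)
  haveI hDn : D.Normal := normalizer_eq_top_iff.mp (top_le_iff.mp (htop ▸ sup_le le_normalizer (zpowers_le.mpr hg)))
  have hcard : Nat.card (G ⧸ D) ∣ orderOf g := by
    have hs : Function.Surjective ((QuotientGroup.mk' D).comp (zpowers g).subtype) := by
      intro y
      obtain ⟨x, rfl⟩ := QuotientGroup.mk'_surjective D y
      have hx : x ∈ (D : Set G) * (zpowers g : Set G) := by rw [← normal_mul, htop]; trivial
      obtain ⟨d, hd, c, hc, rfl⟩ := Set.mem_mul.mp hx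
      refine ⟨⟨c, hc⟩, ?_⟩
      show QuotientGroup.mk' D c = _
      rw [map_mul, show QuotientGroup.mk' D d = 1 from (QuotientGroup.eq_one_iff d).mpr hd, one_mul]
    rw [← Nat.card_zpowers]
    exact Subgroup.card_dvd_of_surjective _ hs
  have hidx : ¬ p ∣ D.index := fun hd => by
    have h3 : p ∣ orderOf g := hd.trans (Subgroup.index_eq_card D ▸ hcard)
    exact (Fact.out : p.Prime).one_lt.ne' (Nat.eq_one_of_dvd_coprimes hgo h3 dvd_rfl)
  let DS : Sylow p G := hD.toSylow hidx
  have hsyl : ∀ P : Sylow p G, (P : Subgroup G).Normal := fun P => by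
    obtain ⟨t, ht⟩ := MulAction.exists_smul_eq G DS P
    haveI : (DS : Subgroup G).Normal := hDn
    rw [← ht, Sylow.smul_eq_of_normal]; exact hDn
  refine hgoal ⟨fun X hX => ?_, ?_, hsyl⟩
  · haveI : IsPGroup p (X ⧸ Cfsg.pResidual p X) := isPGroup_quotient_pResidual
    haveI hA : Group.IsNilpotent (X ⧸ Cfsg.pResidual p X) := this.isNilpotent
    haveI : IsMulCommutative (G ⧸ D) := by
      haveI : IsCyclic (G ⧸ D) := by
        refine isCyclic_of_surjective ((QuotientGroup.mk' D).comp (zpowers g).subtype) ?_
        intro y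
        obtain ⟨x, rfl⟩ := QuotientGroup.mk'_surjective D y
        have hx : x ∈ (D : Set G) * (zpowers g : Set G) := by rw [← normal_mul, htop]; trivial
        obtain ⟨d, hd, c, hc, rfl⟩ := Set.mem_mul.mp hx
        refine ⟨⟨c, hc⟩, ?_⟩
        show QuotientGroup.mk' D c = _
        rw [map_mul, show QuotientGroup.mk' D d = 1 from (QuotientGroup.eq_one_iff d).mpr hd, one_mul]
      exact IsCyclic.isMulCommutative
    open scoped IsMulCommutative in
    haveI hB : Group.IsNilpotent (G ⧸ D) := CommGroup.isNilpotent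
    let f : X →* (X ⧸ Cfsg.pResidual p X) × (G ⧸ D) := (QuotientGroup.mk' _).prod ((QuotientGroup.mk' D).comp X.subtype)
    have hf : Function.Injective f := by
      refine (MonoidHom.ker_eq_bot_iff f).mp (le_bot_iff.mp fun x hx => ?_)
      rw [MonoidHom.mem_ker, Prod.ext_iff] at hx
      have e1 : x ∈ Cfsg.pResidual p X := (QuotientGroup.eq_one_iff x).mp hx.1
      have e2 : (x : G) ∈ D := (QuotientGroup.eq_one_iff (x : G)).mp hx.2
      refine mem_bot.mpr (eq_one_of_pow_of_coprime (p := p) ?_ ?_)
      · rw [← Subgroup.orderOf_coe]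
        obtain ⟨j, hj⟩ := isPGroup_iff_orderOf_dvd_pow.mp hD ⟨x, e2⟩
        exact ⟨j, by rwa [← Subgroup.orderOf_coe] at hj⟩
      · refine Nat.Coprime.coprime_dvd_left ?_ ((Fact.out : p.Prime).coprime_iff_not_dvd.mpr (hasNormalPComplement_iff.mp (h2 X hX))).symm
        rw [← Subgroup.orderOf_mk x e1]; exact orderOf_dvd_natCard _
    haveI : Group.IsNilpotent f.range := inferInstance
    exact nilpotent_of_mulEquiv (MonoidHom.ofInjective hf).symm
  · intro hnil
    haveI := hnil
    obtain ⟨n, hn⟩ := Subgroup.nilpotent_iff_lowerCentralSeries.mp hnil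
    have key : ∀ m, ∀ x ∈ D, ⁅x, g⁆ ∈ Subgroup.lowerCentralSeries (⊤ : Subgroup G) m := by
      intro m
      induction m with
      | zero => intro x _; trivial
      | succ m ih =>
        intro x hx
        let L := Subgroup.lowerCentralSeries (⊤ : Subgroup G) (m + 1)
        let π : G →* G ⧸ L := QuotientGroup.mk' L
        have hz : ∀ z : G ⧸ L, Commute (π ⁅x, g⁆) z := fun z => by
          obtain ⟨z, rfl⟩ := QuotientGroup.mk'_surjective L z
          have h4 : ⁅⁅x, g⁆, z⁆ ∈ L := by
            show _ ∈ Subgroup.lowerCentralSeries _ _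
            rw [Subgroup.lowerCentralSeries_succ]
            exact commutator_mem_commutator (ih x hx) (mem_top z)
          have h5 := (QuotientGroup.eq_one_iff _).mpr h4
          rw [← QuotientGroup.mk'_apply, map_commutatorElement] at h5
          exact commutatorElement_eq_one_iff_commute.mp h5
        set c := π ⁅x, g⁆ with hc
        have e : π x * π g * (π x)⁻¹ = c * π g := by
          rw [hc, map_commutatorElement, commutatorElement_def]; group
        have hco : orderOf c ∣ orderOf g := by
          apply orderOf_dvd_of_pow_eq_one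
          have : (π x * π g * (π x)⁻¹) ^ orderOf g = 1 := by
            rw [conj_pow, ← map_pow, pow_orderOf_eq_one, map_one, mul_one, mul_inv_cancel]
          rwa [e, (hz _).mul_pow, ← map_pow π g, pow_orderOf_eq_one, map_one, mul_one] at this
        have e2 : π g * π x * (π g)⁻¹ = c⁻¹ * π x := by
          rw [hc, map_commutatorElement, commutatorElement_def]; group
        have hcx : orderOf c ∣ orderOf x := by
          rw [← orderOf_inv c]
          apply orderOf_dvd_of_pow_eq_one
          have : (π g * π x * (π g)⁻¹) ^ orderOf x = 1 := by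
            rw [conj_pow, ← map_pow, pow_orderOf_eq_one, map_one, mul_one, mul_inv_cancel]
          rwa [e2, (hz _).inv_left.mul_pow, ← map_pow π x, pow_orderOf_eq_one, map_one, mul_one] at this
        obtain ⟨j, hj⟩ := isPGroup_iff_orderOf_dvd_pow.mp hD ⟨x, hx⟩
        rw [← Subgroup.orderOf_coe] at hj
        have h1 : c = 1 := eq_one_of_pow_of_coprime (p := p) ⟨j, hcx.trans hj⟩ (Nat.Coprime.coprime_dvd_left hco hgo)
        exact (QuotientGroup.eq_one_iff _).mp h1
    refine hgc fun x hx => ?_
    have h3 := key n x hx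
    rw [hn, mem_bot] at h3
    exact commutatorElement_eq_one_iff_mul_comm.mp h3

end Cfsg.Agent.S0132
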