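import Cfsg.Statements.S0246
-- import your own Cfsg.Agent.* helpers here
import Cfsg.Agent.Lib.Forms.SpSimple


set_option autoImplicit false
open Cfsg

namespace Cfsg.Agent.S0246

/-- The centre of Sp_{2m}(q), m at least 1, is {1, -1}: it has order gcd(2, q-1). -/
theorem result {F : Type*} [Field F] [Fintype F] {q : ℕ} (hF : Fintype.card F = q) (m : ℕ) (hm : 1 ≤ m) : Nat.card (Subgroup.center (Matrix.symplecticGroup (Fin m) F)) = Nat.gcd 2 (q - 1) := by
  classical
  have hmap : Nat.card (Subgroup.center (Matrix.symplecticGroup (Fin m) F)) =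
      Nat.card (Subgroup.center (FormsLib.SpIso m F)) :=
    Nat.card_congr (Subgroup.centerCongr (FormsLib.spEquiv m F)).toEquiv
  rw [hmap, FormsLib.center_spIso, Nat.card_zpowers]
  have hsq : (FormsLib.spNeg (m := m) (F := F)) ^ 2 = 1 := by
    refine Subtype.ext (LinearEquiv.ext fun v => ?_)
    simp [FormsLib.spNeg, pow_two]
  have hone : FormsLib.spNeg (m := m) (F := F) = 1 ↔ (2 : F) = 0 := by
    constructor
    · intro h
      have h1 := congrFun (congrArg (fun g : FormsLib.SpIso m F =>
        g.1 (Pi.single (.inl ⟨0, by omega⟩) 1)) h) (Sum.inl ⟨0, by omega⟩)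
      simp [FormsLib.spNeg] at h1
      linear_combination -h1
    · intro h
      refine Subtype.ext (LinearEquiv.ext fun v => funext fun i => ?_)
      simp [FormsLib.spNeg]
      linear_combination -(v i) * h
  by_cases h2 : (2 : F) = 0
  · rw [hone.2 h2, orderOf_one]
    have : CharP F 2 := (CharP.charP_iff_prime_eq_zero Nat.prime_two).2 (by exact_mod_cast h2)
    have heven : Fintype.card F % 2 = 0 :=
      FiniteField.even_card_of_char_two (ringChar.eq F 2)
    subst hF
    have : 1 < Fintype.card F := Fintype.one_lt_card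
    rw [eq_comm, ← Nat.coprime_iff_gcd_eq_one]
    exact Nat.coprime_two_left.2 (Nat.odd_iff.2 (by omega))
  · rw [orderOf_eq_prime hsq (mt hone.1 h2)]
    have hodd : Fintype.card F % 2 = 1 := FiniteField.odd_card_of_char_ne_two (fun hc => h2 (by
      have : ((2 : ℕ) : F) = 0 := by rw [← hc]; exact ringChar.Nat.cast_ringChar
      exact_mod_cast this))
    subst hF
    exact (Nat.gcd_eq_left (by omega : 2 ∣ Fintype.card F - 1)).symm

end Cfsg.Agent.S0246
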