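import Cfsg.Statements.S0765
-- import your own Cfsg.Agent.* helpers here
import Cfsg.Agent.Lib.Forms.Sp


set_option autoImplicit false
open Cfsg
open scoped Matrix

namespace Cfsg.Agent.S0765

/-- Generation of the symplectic group by symplectic transvections: the subgroup of Sp_2m(F) generated by all matrices of maps x ↦ x + c f(x, w) w is the whole group. -/
theorem result {F : Type*} [Field F] (m : ℕ) : Subgroup.closure {A : Matrix.symplecticGroup (Fin m) F | ∃ (w : Fin m ⊕ Fin m → F) (c : F), (A : Matrix (Fin m ⊕ Fin m) (Fin m ⊕ Fin m) F) = Cfsg.sympTransvection m w c} = ⊤ := by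
  have h := congrArg (Subgroup.map (FormsLib.spEquiv m F).symm.toMonoidHom)
    (FormsLib.closure_spTau (m := m) (F := F))
  rw [MonoidHom.map_closure, Subgroup.map_top_of_surjective _ (FormsLib.spEquiv m F).symm.surjective]
    at h
  rw [eq_top_iff, ← h, Subgroup.closure_le]
  rintro A ⟨_, ⟨w, c, rfl⟩, rfl⟩
  refine Subgroup.subset_closure ⟨w, c, Matrix.ext_iff_mulVec.2 fun x => ?_⟩
  rw [Cfsg.sympTransvection, FormsLib.sympTransvection_mulVec]
  exact FormsLib.spEquiv_symm_mulVec _ x

end Cfsg.Agent.S0765
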