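import Cfsg.Statements.S1450
import Cfsg.Agent.Lib.OddLocal.RankTwo
import Cfsg.Agent.Lib.Transfer.Residual
import Cfsg.Agent.Lib.Components.PConstrained
-- import your own Cfsg.Agent.* helpers here

set_option autoImplicit false
open Cfsg

namespace Cfsg.Agent.S1450

/-- Let G be a solvable group of odd order, p a prime dividing its order with G having no elementary abelian subgroup of order p ^ 3. Then every prime dividing the index of O_{p'}(G) is at most p; if p = 3 or p is the smallest prime divisor of #G then G has a normal p-complement; the derived subgroup G' has a normal p-complement; every subgroup of G' of order coprime to p lies in O_{p'}(G'); and G/O_{p',p}(G) is abelian of order coprime to p. -/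
theorem result {G : Type*} [Group G] [Finite G] [Group.IsSolvable G] (hodd : Odd (Nat.card G)) (p : ℕ) [Fact p.Prime] (hpG : p ∣ Nat.card G) (hr : Cfsg.PRankLE p 2 G) :
    (∀ q : ℕ, q.Prime → q ∣ (Cfsg.pPrimeCore p G).index → q ≤ p) ∧
      ((p = 3 ∨ ∀ q : ℕ, q.Prime → q ∣ Nat.card G → p ≤ q) → Cfsg.HasNormalPComplement p G) ∧
      Cfsg.HasNormalPComplement p ↥(commutator G) ∧
      (∀ L : Subgroup ↥(commutator G), (Nat.card L).Coprime p → L ≤ Cfsg.pPrimeCore p ↥(commutator G)) ∧
      commutator G ≤ Cfsg.pPrimePCore p G ∧ ((Cfsg.pPrimePCore p G).index).Coprime p := by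
  have hp2 : p ≠ 2 := OddLocal.pPrimeCore_ne_two hodd hpG
  set O := Cfsg.pPrimeCore p G with hO
  obtain ⟨hO', hS⟩ := OddLocal.quotient_structure hodd hp2 hr
  obtain ⟨S⟩ : Nonempty (Sylow p (G ⧸ O)) := inferInstance
  have hsol : Group.IsSolvable (G ⧸ O) := inferInstance
  obtain ⟨hqp, hder⟩ := OddLocal.structure_of_reduced (hodd.of_dvd_nat (Subgroup.card_quotient_dvd_card _)) hp2
    hO' (fun X hX hea => OddLocal.rank_quotient hr S X ((hS S).symm ▸ hX) hea)
  have hidx : O.index = Nat.card (G ⧸ O) := Subgroup.index_eq_card O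
  have hOp : ¬ p ∣ Nat.card O := fun h =>
    ((Fact.out : p.Prime).coprime_iff_not_dvd.mp (Basics.pPrimeCore_coprime (G := G) p).symm) h
  have hle : commutator G ≤ Cfsg.pPrimePCore p G := by
    intro y hy
    refine hder ?_
    have h : (commutator G).map (QuotientGroup.mk' O) ≤ commutator (G ⧸ O) := by
      rw [commutator, Subgroup.map_commutator]
      exact Subgroup.commutator_mono le_top le_top
    exact h ⟨y, hy, rfl⟩
  have hquo : IsPGroup p (↥(commutator G) ⧸ O.subgroupOf (commutator G)) := by
    intro z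
    induction z using QuotientGroup.induction_on with
    | H z =>
      obtain ⟨k, hk⟩ := Basics.pCore_isPGroup p (⟨QuotientGroup.mk' O z, hle z.2⟩ : Cfsg.pCore p (G ⧸ O))
      refine ⟨k, ?_⟩
      rw [← QuotientGroup.mk_pow, QuotientGroup.eq_one_iff]
      have h := congrArg Subtype.val hk
      rw [Subgroup.coe_pow, Subgroup.coe_one, ← map_pow] at h
      exact (QuotientGroup.eq_one_iff (N := O) _).mp h
  have hc : (Nat.card (O.subgroupOf (commutator G))).Coprime p := by
    refine Nat.Coprime.coprime_dvd_left ?_ (Basics.pPrimeCore_coprime (G := G) p)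
    rw [← Subgroup.card_map_of_injective (commutator G).subtype_injective, Subgroup.subgroupOf_map_subtype]
    exact Subgroup.card_dvd_of_le inf_le_left
  refine ⟨fun q hq hqd => hqp q hq (hidx ▸ hqd), ?_, ?_, ?_, hle, ?_⟩
  · intro hcase
    refine Transfer.hasNormalPComplement_of_normal O hOp ?_
    have hall : ∀ q : ℕ, q.Prime → q ∣ Nat.card (G ⧸ O) → q = p := by
      intro q hq hqd
      have hqG : q ∣ Nat.card G := hqd.trans (Subgroup.card_quotient_dvd_card _)
      rcases hcase with h | h
      · have h1 := hqp q hq hqd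
        have h2 : q ≠ 2 := OddLocal.pPrimeCore_ne_two (hp := ⟨hq⟩) hodd hqG
        have := hq.two_le
        omega
      · exact le_antisymm (hqp q hq hqd) (h q hq hqG)
    obtain ⟨k, hk⟩ : ∃ k, Nat.card (G ⧸ O) = p ^ k :=
      ⟨_, Nat.eq_prime_pow_of_unique_prime_dvd Nat.card_pos.ne' fun {d} hd hdd => hall d hd hdd⟩
    exact IsPGroup.of_card hk
  · exact Transfer.hasNormalPComplement_of_normal (O.subgroupOf (commutator G))
      ((Fact.out : p.Prime).coprime_iff_not_dvd.mp hc.symm) hquo
  · intro L hL
    refine le_trans ?_ (Basics.le_pPrimeCore (N := O.subgroupOf (commutator G)) hc)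
    intro l hl
    rw [← QuotientGroup.eq_one_iff (N := O.subgroupOf (commutator G))]
    obtain ⟨k, hk⟩ := hquo (l : ↥(commutator G) ⧸ O.subgroupOf (commutator G))
    exact orderOf_eq_one_iff.mp (Nat.eq_one_of_dvd_coprimes (hL.pow_right k)
      ((orderOf_map_dvd (QuotientGroup.mk' (O.subgroupOf (commutator G))) l).trans
        (Subgroup.orderOf_dvd_natCard _ hl)) (orderOf_dvd_of_pow_eq_one hk))
  · refine ((Fact.out : p.Prime).coprime_iff_not_dvd.mpr ?_).symm
    have h : (Cfsg.pPrimePCore p G).index = (S : Subgroup (G ⧸ O)).index := by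
      rw [hS S]
      exact Subgroup.index_comap_of_surjective _ (QuotientGroup.mk'_surjective O)
    rw [h]
    exact S.not_dvd_index

end Cfsg.Agent.S1450
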