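import Cfsg.Statements.S1412
import Cfsg.Agent.Lib.OddLocal.SylowFusion
import Cfsg.Agent.Lib.OddLocal.BlackburnStructure
-- import your own Cfsg.Agent.* helpers here

set_option autoImplicit false
open Cfsg

namespace Cfsg.Agent.S1412

/-- Let G be a minimal simple group of odd order, p a prime and P a Sylow p-subgroup of G with no elementary abelian subgroup of order p ^ 3. Then either P is abelian, or P is generated by two elementwise-commuting subgroups P₁, P₂ with P₁ nonabelian of order p ^ 3 and exponent p, P₂ cyclic, and the elements of P₂ of order dividing p generating exactly the centre of P₁. -/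
theorem result {G : Type*} [Group G] [Finite G] (hG : Cfsg.IsMinSimpleOddOrder G) (p : ℕ) [Fact p.Prime] (P : Sylow p G) (hr : Cfsg.PRankLE p 2 (P : Subgroup G)) :
    IsMulCommutative (P : Subgroup G) ∨ ∃ P₁ P₂ : Subgroup G, P₁ ⊔ P₂ = (P : Subgroup G) ∧ (∀ a ∈ P₁, ∀ b ∈ P₂, a * b = b * a) ∧
        ¬ IsMulCommutative P₁ ∧ Nat.card P₁ = p ^ 3 ∧ Monoid.exponent P₁ = p ∧ IsCyclic P₂ ∧
        Subgroup.closure {x : G | x ∈ P₂ ∧ x ^ p = 1} = P₁ ⊓ Subgroup.centralizer (P₁ : Set G) := by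
  by_cases hP : (P : Subgroup G) = ⊥
  · left
    refine ⟨⟨fun a b => Subtype.ext ?_⟩⟩
    have e : ∀ v : (P : Subgroup G), (v : G) = 1 := fun v => Subgroup.mem_bot.mp (hP ▸ v.2)
    simp [e a, e b]
  set N := Subgroup.normalizer ((P : Subgroup G) : Set G) with hN
  have hPN : (P : Subgroup G) ≤ N := Subgroup.le_normalizer
  haveI : ((P : Subgroup G).subgroupOf N).Normal :=
    (Subgroup.normal_subgroupOf_iff_le_normalizer hPN).mpr le_rfl
  have hcop : (Nat.card ((P : Subgroup G).subgroupOf N)).Coprime ((P : Subgroup G).subgroupOf N).index := by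
    rw [Basics.card_subgroupOf hPN]
    exact Nat.Coprime.coprime_dvd_right (Subgroup.relIndex_dvd_index_of_le hPN) P.card_coprime_index
  obtain ⟨K, hK⟩ := Subgroup.exists_right_complement'_of_coprime hcop
  set V := K.map N.subtype with hV
  have hdec : ∀ m ∈ N, ∃ a ∈ (P : Subgroup G), ∃ b ∈ V, m = a * b := by
    intro m hm
    obtain ⟨⟨a, b⟩, h⟩ := (hK.existsUnique ⟨m, hm⟩).exists
    exact ⟨_, a.2, _, ⟨b, b.2, rfl⟩, (congrArg Subtype.val h).symm⟩
  have hdisj : (P : Subgroup G) ⊓ V = ⊥ := by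
    rw [eq_bot_iff]
    rintro _ ⟨hv, b, hb, rfl⟩
    have h := hK.disjoint.le_bot (⟨hv, hb⟩ : b ∈ (P : Subgroup G).subgroupOf N ⊓ K)
    rw [Subgroup.mem_bot] at h
    simp [h]
  have hVc : (Nat.card V).Coprime p := by
    rw [hV, Subgroup.card_map_of_injective N.subtype_injective, ← hK.symm.index_eq_card]
    exact ((Nat.Prime.coprime_iff_not_dvd Fact.out).mpr fun h => P.not_dvd_index
      (h.trans (Subgroup.relIndex_dvd_index_of_le hPN))).symm
  have hp2 : p ≠ 2 := by
    rintro rfl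
    rcases P.2.card_eq_or_dvd with e | e
    · exact hP (Subgroup.card_eq_one.mp e)
    · exact (Nat.not_even_iff_odd.mpr hG.1) (even_iff_two_dvd.mpr (e.trans (Subgroup.card_subgroup_dvd_card _)))
  have h := OddLocal.sylow_eq_commutator hG P (V := V)
    ⟨hPN, Subgroup.map_subtype_le K, hdisj, hdec⟩
  obtain ⟨-, hab | ⟨R₁, R₂, h1, h2, h4, h5, h6, h7, h8, h9⟩⟩ := OddLocal.blackburn hp2 P.2 hP hr
    (Subgroup.map_subtype_le K) hVc (hG.1.of_dvd_nat (Subgroup.card_subgroup_dvd_card _)) h.symm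
  · exact Or.inl hab
  · exact Or.inr ⟨R₁, R₂, h1, h2, h4, h5, h6, h7, h8.trans h9⟩

end Cfsg.Agent.S1412
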