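import Cfsg.Statements.S1421
import Cfsg.Agent.Lib.OddLocal.TauTwoFreeC

set_option autoImplicit false
set_option linter.style.haveILetI false
open Cfsg
open Cfsg.Agent.OddLocal
open Cfsg.Agent.Basics
open scoped commutatorElement Pointwise

namespace Cfsg.Agent.S1421

/-- Let G be a minimal simple group of odd order, M a maximal subgroup and E a complement to M_σ in M. Suppose that every non-identity element e of E all of whose order's prime divisors lie in τ₁(M) ∪ τ₃(M) has M_σ ∩ C_G(e) = 1. Then E has an abelian normal subgroup A₀ with E ∩ C_G(x) ≤ A₀ for every non-identity x ∈ M_σ, and E has a subgroup E₀ of the same exponent as E such that no non-identity element of E₀ centralizes a non-identity element of M_σ. -/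
theorem result {G : Type*} [Group G] [Finite G] (hG : Cfsg.IsMinSimpleOddOrder G)
    (M : Subgroup G) (hM : IsCoatom M) (E : Subgroup G) (hE : Cfsg.IsComplIn E (Cfsg.sigmaCore M) M)
    (h : ∀ e ∈ E, e ≠ 1 → (∀ p : ℕ, p.Prime → p ∣ orderOf e → p ∈ Cfsg.tau1 M ∪ Cfsg.tau3 M) →
      Cfsg.sigmaCore M ⊓ Subgroup.centralizer ({e} : Set G) = ⊥) :
    (∃ A₀ : Subgroup G, A₀ ≤ E ∧ E ≤ Subgroup.normalizer (A₀ : Set G) ∧ IsMulCommutative A₀ ∧
        ∀ x ∈ Cfsg.sigmaCore M, x ≠ 1 → E ⊓ Subgroup.centralizer ({x} : Set G) ≤ A₀) ∧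
      ∃ E₀ : Subgroup G, E₀ ≤ E ∧ Monoid.exponent E₀ = Monoid.exponent E ∧
        ∀ e ∈ E₀, e ≠ 1 → Cfsg.sigmaCore M ⊓ Subgroup.centralizer ({e} : Set G) = ⊥ := by
  have hfix : ∀ x ∈ E, ∀ y : G, y ∈ Cfsg.sigmaCore M → y ≠ 1 → x * y = y * x →
      ∀ r : ℕ, r.Prime → r ∣ orderOf x → r ∈ Cfsg.tau2 M := by
    intro x hx y hy hy1 hxy r hr hd
    haveI := Fact.mk hr
    have hrs : r ∉ Cfsg.sigma M := compl_primes hG hM hE hr (hd.trans (Subgroup.orderOf_dvd_natCard E hx))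
    refine ⟨hr, hrs, pRankLE_two_of_not_mem_sigma hG hM hrs, fun h1 => ?_⟩
    have ho : orderOf (x ^ (orderOf x / r)) = r := orderOf_pow_orderOf_div (orderOf_pos x).ne' hd
    have h0 := h _ (pow_mem hx _) (fun e => hr.one_lt.ne' (ho ▸ orderOf_eq_one_iff.mpr e)) fun q hq hqd => by
      rw [ho] at hqd
      obtain rfl := (Nat.prime_dvd_prime_iff_eq hq hr).mp hqd
      have hdM : q ∣ Nat.card M := hd.trans (Subgroup.orderOf_dvd_natCard M (hE.1 hx))
      by_cases hder : q ∣ Nat.card ↥⁅M, M⁆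
      · exact Or.inr ⟨hr, hrs, hder, h1⟩
      · exact Or.inl ⟨hr, hrs, hdM, hder, h1⟩
    exact hy1 (Subgroup.mem_bot.mp (h0 ▸ ⟨hy, Subgroup.mem_centralizer_singleton_iff.mpr
      (Commute.pow_left hxy _).eq.symm⟩))
  constructor
  · obtain ⟨A₀, hA₀E, hn, hc, hmem⟩ := exists_tau2_core hG hM hE
    refine ⟨A₀, hA₀E, hn, hc, fun y hy hy1 x hx => ?_⟩
    obtain ⟨hxE, hxC⟩ := hx
    have hxy : x * y = y * x := Subgroup.mem_centralizer_singleton_iff.mp hxC
    by_cases hx1 : x = 1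
    · exact hx1 ▸ one_mem A₀
    · exact hmem x hxE hx1 (hfix x hxE y hy hy1 hxy) ⟨hE.1 hxE, y, hy, hy1, hxy⟩
  · refine exists_free_subgroup hG hM hE le_rfl (fun r hr => ?_) fun x hx hp hτ => ?_
    · haveI := Fact.mk hr.1
      obtain ⟨R, hR⟩ := exists_sylowIn (q := r) E
      exact ⟨R, hR, hR.1⟩
    · by_contra hne
      obtain ⟨y, hy, hy1⟩ := (Subgroup.bot_or_exists_ne_one _).resolve_left hne
      exact hτ (hfix x hx y hy.1 hy1 (Subgroup.mem_centralizer_singleton_iff.mp hy.2).symm _ hp dvd_rfl)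

end Cfsg.Agent.S1421
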