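import Cfsg.Statements.S1424
import Cfsg.Agent.Lib.OddLocal.NonAbUnique

set_option autoImplicit false
set_option linter.style.haveILetI false
open Cfsg
open Cfsg.Agent.OddLocal
open Cfsg.Agent.Basics
open scoped commutatorElement Pointwise

namespace Cfsg.Agent.S1424

/-- Let G be a minimal simple group of odd order, M a maximal subgroup, q ∈ σ(M), X a nontrivial q-subgroup of M, M* a maximal subgroup different from M with N_G(X) ≤ M*, and S a Sylow q-subgroup of M ∩ M* containing X. Then M* is not conjugate to M in G, N_G(S) ≤ M, and q does not divide the index of S in M*. -/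
theorem result {G : Type*} [Group G] [Finite G] (hG : Cfsg.IsMinSimpleOddOrder G)
    (M : Subgroup G) (hM : IsCoatom M) (q : ℕ) [Fact q.Prime] (hq : q ∈ Cfsg.sigma M) (X : Subgroup G) (hXq : IsPGroup q X) (hX1 : X ≠ ⊥) (hXM : X ≤ M)
    (Mstar : Subgroup G) (hMs : IsCoatom Mstar) (hne : Mstar ≠ M) (hNX : Subgroup.normalizer (X : Set G) ≤ Mstar)
    (S : Sylow q ↥(M ⊓ Mstar)) (hXS : X ≤ (S : Subgroup ↥(M ⊓ Mstar)).map (M ⊓ Mstar).subtype) :
    (∀ g : G, Mstar ≠ M.map (MulAut.conj g).toMonoidHom) ∧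
      Subgroup.normalizer (((S : Subgroup ↥(M ⊓ Mstar)).map (M ⊓ Mstar).subtype : Subgroup G) : Set G) ≤ M ∧
      ¬ q ∣ ((S : Subgroup ↥(M ⊓ Mstar)).map (M ⊓ Mstar).subtype).relIndex Mstar := by
  set SG := (S : Subgroup ↥(M ⊓ Mstar)).map (M ⊓ Mstar).subtype with hSG
  have hSp : IsPGroup q SG := S.2.map _
  have hSM : SG ≤ M ⊓ Mstar := Subgroup.map_subtype_le _
  have hmax : ∀ U : Subgroup G, IsPGroup q U → SG ≤ U → U ≤ M ⊓ Mstar → U = SG := by
    intro U hU hle hUD
    have h1 : U.subgroupOf (M ⊓ Mstar) = (S : Subgroup ↥(M ⊓ Mstar)) :=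
      S.3 (hU.comap_subtype) (fun s hs => hle ⟨s, hs, rfl⟩)
    rw [hSG, ← h1, Subgroup.map_subgroupOf_eq_of_le hUD]
  have hNXS : ∀ T : Subgroup G, IsPGroup q T → SG ≤ T → T ⊓ Subgroup.normalizer (SG : Set G) ≤ M ⊓ Mstar → T = SG := by
    intro T hT hle hin
    by_contra hne
    have hlt := lt_inf_normalizer_of_lt hT (lt_of_le_of_ne hle (Ne.symm hne))
    exact hlt.ne' (hmax _ (hT.to_le inf_le_left) hlt.le hin)
  have hN : Subgroup.normalizer (SG : Set G) ≤ M := by
    by_cases hc : IsCyclic SG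
    swap
    · exact normalizer_le_of_noncyclic hG hM hq hSp (hSM.trans inf_le_left) hc
    have hNS : Subgroup.normalizer (SG : Set G) ≤ Subgroup.normalizer (X : Set G) := fun n hn =>
      Subgroup.mem_normalizer_iff_map_conj_eq.mpr (eq_of_le_cyclic hc
        ((Subgroup.map_mono hXS).trans (Subgroup.mem_normalizer_iff_map_conj_eq.mp hn).le) hXS
        (Subgroup.card_map_of_injective (MulAut.conj n).injective))
    obtain ⟨P, hP, hSP⟩ := exists_sylowIn_ge hSp (hSM.trans inf_le_left)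
    have hPS : P = SG := hNXS P hP.isPGroup hSP
      (le_inf (inf_le_left.trans hP.1) ((inf_le_right.trans hNS).trans hNX))
    obtain ⟨P₀, hP₀⟩ := hP.exists_sylow
    rw [← hPS, ← hP₀]
    exact sigma_normalizer_le hG hM hq P₀
  refine ⟨fun g hg => hne ?_, hN, ?_⟩
  · exact conj_eq_of_centralizer_le hG hM hq hXq hX1 hXM hg (Subgroup.le_normalizer.trans hNX)
      ((Subgroup.centralizer_le_normalizer _).trans hNX)
  obtain ⟨T, hT, hST⟩ := exists_sylowIn_ge hSp (hSM.trans inf_le_right)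
  have hTS : T = SG := hNXS T hT.isPGroup hST (le_inf (inf_le_right.trans hN) (inf_le_left.trans hT.1))
  obtain ⟨T₀, hT₀⟩ := hT.exists_sylow
  rw [← hTS, ← hT₀, Subgroup.relIndex, Subgroup.subgroupOf, Subgroup.comap_map_eq_self_of_injective Mstar.subtype_injective]
  exact T₀.not_dvd_index

end Cfsg.Agent.S1424
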