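import Cfsg.Statements.S1429
import Cfsg.Agent.Lib.OddLocal.TauTwoCore
import Cfsg.Agent.Lib.OddLocal.Tau2Abelian
import Cfsg.Agent.Lib.OddLocal.ExceptionalB

set_option autoImplicit false
set_option linter.style.haveILetI false
open Cfsg
open Cfsg.Agent.OddLocal
open Cfsg.Agent.Basics
open scoped commutatorElement Pointwise

namespace Cfsg.Agent.S1429

/-- Let G be a minimal simple group of odd order and M a maximal subgroup such that κ(M) is not the whole of the primes of M outside σ(M) (M is not of type P₁). Let p divide the order of M with p ∉ σ(M) ∪ κ(M), S a Sylow p-subgroup of M, and A the subgroup generated by the elements of S of order dividing p. Then A has order at most p ^ 2, M_σ ∩ C_G(A) = 1, and M_σ is nilpotent. -/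
theorem result {G : Type*} [Group G] [Finite G] (hG : Cfsg.IsMinSimpleOddOrder G)
    (M : Subgroup G) (hM : IsCoatom M) (hP1 : ¬ (∀ q : ℕ, q.Prime → q ∣ Nat.card M → q ∉ Cfsg.sigma M → q ∈ Cfsg.kappa M))
    (p : ℕ) [Fact p.Prime] (hpM : p ∣ Nat.card M) (hp : p ∉ Cfsg.sigma M ∪ Cfsg.kappa M) (S : Sylow p M) :
    Nat.card ↥(Subgroup.closure {x : G | x ∈ (S : Subgroup M).map M.subtype ∧ x ^ p = 1}) ≤ p ^ 2 ∧
      Cfsg.sigmaCore M ⊓ Subgroup.centralizer ((Subgroup.closure {x : G | x ∈ (S : Subgroup M).map M.subtype ∧ x ^ p = 1} : Subgroup G) : Set G) = ⊥ ∧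
      Group.IsNilpotent (Cfsg.sigmaCore M) := by
  have hps : p ∉ Cfsg.sigma M := fun h => hp (Or.inl h)
  have hpk : p ∉ Cfsg.kappa M := fun h => hp (Or.inr h)
  have hP : IsSylowIn p M ((S : Subgroup M).map M.subtype) := Basics.isSylowIn_map S
  set P := (S : Subgroup M).map M.subtype with hPdef
  have hp2 : p ≠ 2 := prime_ne_two hG (hpM.trans (Subgroup.card_subgroup_dvd_card M))
  by_cases h1 : PRankLE p 1 M
  · have hPc : IsCyclic P := isCyclic_of_pRankLE_one hp2 h1 hP.1 hP.isPGroup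
    have hpP : p ∣ Nat.card P := by
      rw [hP.2]
      exact dvd_pow_self p ((Fact.out : p.Prime).factorization_pos_of_dvd Nat.card_pos.ne' hpM).ne'
    obtain ⟨z, hz⟩ := exists_prime_orderOf_dvd_card' p hpP
    rw [← Subgroup.orderOf_coe] at hz
    have hzc : Nat.card (Subgroup.zpowers (z : G)) = p := by rw [Nat.card_zpowers, hz]
    have hA : Subgroup.closure {x : G | x ∈ P ∧ x ^ p = 1} = Subgroup.zpowers (z : G) := by
      refine le_antisymm ((Subgroup.closure_le _).mpr ?_)
        (Subgroup.zpowers_le.mpr (Subgroup.subset_closure ⟨z.2, hz ▸ pow_orderOf_eq_one _⟩))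
      rintro x ⟨hxP, hxp⟩
      rcases eq_or_ne x 1 with rfl | hx1
      · exact one_mem _
      · have hxo : orderOf x = p := orderOf_eq_prime hxp hx1
        have := eq_of_le_cyclic hPc (Subgroup.zpowers_le.mpr hxP) (Subgroup.zpowers_le.mpr z.2)
          (by rw [hzc, Nat.card_zpowers, hxo])
        exact this ▸ Subgroup.mem_zpowers x
    rw [hA]
    have hbot : Cfsg.sigmaCore M ⊓ Subgroup.centralizer ((Subgroup.zpowers (z : G) : Subgroup G) : Set G) = ⊥ := by
      by_contra hne
      obtain ⟨y, hy, hy1⟩ := (Subgroup.bot_or_exists_ne_one _).resolve_left hne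
      exact hpk (mem_kappa_of_fixed hG Fact.out hps h1 (hP.1 z.2) hz
        ⟨hP.1 z.2, y, hy.1, hy1, Subgroup.mem_centralizer_iff.mp hy.2 _ (Subgroup.mem_zpowers _)⟩)
    refine ⟨hzc.trans_le (Nat.le_self_pow two_ne_zero p), hbot, ?_⟩
    have hXN : Subgroup.zpowers (z : G) ≤ Subgroup.normalizer (Cfsg.sigmaCore M : Set G) :=
      (Subgroup.zpowers_le.mpr (hP.1 z.2)).trans (le_normalizer_sigmaCore M)
    refine Basics.isNilpotent_of_fpf_prime (A := Subgroup.zpowers (z : G)) (p := p)
      hzc ((Cfsg.sigmaCore M).normalizerMonoidHom.comp (Subgroup.inclusion hXN))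
      fun x hx => ?_
    have h2 : (x : G) ∈ Cfsg.sigmaCore M ⊓ Subgroup.centralizer ((Subgroup.zpowers (z : G) : Subgroup G) : Set G) := by
      refine ⟨x.2, Subgroup.mem_centralizer_iff.mpr fun a ha => ?_⟩
      exact mul_inv_eq_iff_eq_mul.mp (congrArg Subtype.val (hx ⟨a, ha⟩))
    rw [hbot, Subgroup.mem_bot] at h2
    exact Subtype.ext h2
  · obtain ⟨B, hBM, hB, hBc⟩ := exists_ea_of_not_pRankLE_one h1
    have hB2 := ea_card_eq_sq (pRankLE_two_of_not_mem_sigma hG hM hps) hB hBM hBc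
    obtain ⟨R, hR, hBR⟩ := exists_sylowIn_ge (isPGroup_of_exponent hB.2) hBM
    obtain ⟨k, hk, ek⟩ := hR.exists_conj hP
    have hAP : MulAut.conj k • B ≤ P := ek ▸ Subgroup.pointwise_smul_le_pointwise_smul_iff.mpr hBR
    have hAe : IsElementaryAbelian p (MulAut.conj k • B : Subgroup G) := ea_map hB _
    have hA2 : Nat.card (MulAut.conj k • B : Subgroup G) = p ^ 2 := by rw [Basics.card_conj_smul, hB2]
    obtain ⟨X, hX⟩ := exists_exc hG hM hps (hAP.trans hP.1) hAe hA2
    have hA : Subgroup.closure {x : G | x ∈ P ∧ x ^ p = 1} = MulAut.conj k • B :=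
      le_antisymm ((Subgroup.closure_le _).mpr fun x hx => hX.omega_sylow hG hP hAP hx.1 hx.2)
        fun a ha => Subgroup.subset_closure ⟨hAP ha, hAe.2 a ha⟩
    rw [hA]
    exact ⟨hA2.le, hX.centralizer_eq_bot hG, hX.isNilpotent hG⟩

end Cfsg.Agent.S1429
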