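import Cfsg.Statements.S1365
import Cfsg.Agent.Lib.OddLocal.SigmaDecomp

set_option autoImplicit false
set_option linter.style.haveILetI false
open Cfsg
open Cfsg.Agent.OddLocal
open Cfsg.Agent.Basics
open scoped commutatorElement Pointwise

namespace Cfsg.Agent.S1365

/-- Let G be a minimal simple group of odd order and M a maximal subgroup with standard factorisation M = K U M_σ and K ≠ 1. Then the derived subgroup of M is generated by U and M_σ, and M_σ ∩ C_G(K) is contained in the second derived subgroup of M. -/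
theorem result {G : Type*} [Group G] [Finite G] (hG : Cfsg.IsMinSimpleOddOrder G)
    (M : Subgroup G) (hM : IsCoatom M) (K U : Subgroup G) (hKU : Cfsg.IsSigmaDecomposition M K U) (hK1 : K ≠ ⊥) :
    ⁅M, M⁆ = U ⊔ Cfsg.sigmaCore M ∧ (Cfsg.sigmaCore M ⊓ Subgroup.centralizer (K : Set G)) ≤ ⁅⁅M, M⁆, ⁅M, M⁆⁆ := by
  obtain ⟨U₀, hUc, hreg, hKU₀, hU₀M, -, -, hN, hM1, -, hcmp⟩ := decomp_compare hG hM hKU.hall hK1
  haveI := hUc
  haveI := hKU.cyclic
  have hW : ⁅M, M⁆ = Cfsg.sigmaCore M ⊔ U₀ := by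
    refine le_antisymm ?_ (sup_le (sigmaCore_le_derived hG hM) fun u hu => ?_)
    · conv_lhs => rw [← hM1]
      exact commutator_sup_le (hKU.hall.1.trans hN)
    · obtain ⟨k, hk, hk1⟩ := (Subgroup.bot_or_exists_ne_one K).resolve_left hK1
      let f : U₀ → U₀ := fun a => ⟨k * a * k⁻¹ * (a : G)⁻¹,
        mul_mem ((Subgroup.mem_normalizer_iff.mp (hKU₀ hk) a).mp a.2) (inv_mem a.2)⟩
      have hinj : Function.Injective f := fun a b e => by
        have e' : k * a * k⁻¹ * (a : G)⁻¹ = k * b * k⁻¹ * (b : G)⁻¹ := congrArg Subtype.val e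
        have hc : (b : G)⁻¹ * (a : G) = (a : G) * (b : G)⁻¹ := congrArg Subtype.val (mul_comm' (b⁻¹ : U₀) a)
        have h2 : k * ((b : G)⁻¹ * a) * k⁻¹ = (b : G)⁻¹ * a := by
          calc k * ((b : G)⁻¹ * a) * k⁻¹ = (k * b * k⁻¹)⁻¹ * (k * a * k⁻¹ * (a : G)⁻¹) * a := by group
            _ = (b : G)⁻¹ * a := by rw [e']; group
        have h3 : (b : G)⁻¹ * a ∈ U₀ ⊓ Subgroup.centralizer ({k} : Set G) := Subgroup.mem_inf.mpr
          ⟨mul_mem (inv_mem b.2) a.2, Subgroup.mem_centralizer_singleton_iff.mpr (mul_inv_eq_iff_eq_mul.mp h2).symm⟩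
        rw [hreg k hk hk1, Subgroup.mem_bot, inv_mul_eq_one] at h3
        exact Subtype.ext h3.symm
      obtain ⟨a, ha⟩ := Finite.surjective_of_injective hinj ⟨u, hu⟩
      rw [← show k * a * k⁻¹ * (a : G)⁻¹ = u from congrArg Subtype.val ha, ← commutatorElement_def]
      exact Subgroup.commutator_mem_commutator (hKU.hall.1 hk) (hU₀M a.2)
  refine ⟨by rw [sup_comm, hcmp U hKU]; exact hW, fun x hx => ?_⟩
  have hxM : x ∈ ⁅M, M⁆ := hW ▸ Subgroup.mem_sup_left hx.1
  obtain ⟨k, hk⟩ := isCyclic_iff_exists_zpowers_eq_top.mp hKU.cyclic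
  set D := ⁅commutator M, commutator M⁆ with hD
  haveI : D.Normal := by rw [hD]; infer_instance
  set π := QuotientGroup.mk' D with hπ
  have hmap : (commutator M).map π = commutator (↥M ⧸ D) := by
    rw [commutator_def, commutator_def, Subgroup.map_commutator,
      Subgroup.map_top_of_surjective _ (QuotientGroup.mk'_surjective D)]
  have hK' : Subgroup.zpowers (k : G) = K := by
    have h := congrArg (Subgroup.map K.subtype) hk
    rw [MonoidHom.map_zpowers, ← MonoidHom.range_eq_map, Subgroup.range_subtype] at h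
    exact h
  have htopM : commutator M ⊔ Subgroup.zpowers (⟨k, hKU.hall.1 k.2⟩ : M) = ⊤ := by
    apply Subgroup.map_injective M.subtype_injective
    rw [Subgroup.map_sup, Subgroup.map_subtype_commutator, MonoidHom.map_zpowers, ← MonoidHom.range_eq_map,
      Subgroup.range_subtype]
    show ⁅M, M⁆ ⊔ Subgroup.zpowers (k : G) = M
    rw [hK', hW, hM1]
  have hx1 : π ⟨x, inf_le_left.trans (sigmaCore_le M) hx⟩ = 1 := by
    refine fixed_eq_one_of_derived_abelian ?_ (π ⟨k, hKU.hall.1 k.2⟩) ?_ ?_ ?_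
    · rw [← Subgroup.le_centralizer_iff_isMulCommutative, ← Subgroup.commutator_eq_bot_iff_le_centralizer,
        ← hmap, ← Subgroup.map_commutator, ← hD, hπ, QuotientGroup.map_mk'_self]
    · rw [← hmap, ← MonoidHom.map_zpowers, ← Subgroup.map_sup, htopM,
        Subgroup.map_top_of_surjective _ (QuotientGroup.mk'_surjective D)]
    · rw [← hmap]
      refine Subgroup.mem_map_of_mem π ?_
      rw [← Subgroup.map_subtype_commutator] at hxM
      obtain ⟨y, hy, hye⟩ := hxM
      subst hye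
      exact hy
    · rw [← map_mul, ← map_mul]
      exact congrArg π (Subtype.ext (Subgroup.mem_centralizer_iff.mp hx.2 k k.2).symm)
  have hxD := (QuotientGroup.eq_one_iff _).mp hx1
  have h2 := Subgroup.mem_map_of_mem M.subtype hxD
  rw [hD, Subgroup.map_commutator, Subgroup.map_subtype_commutator] at h2
  exact h2

end Cfsg.Agent.S1365
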