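import Cfsg.Statements.S1446
import Cfsg.Agent.Lib.OddLocal.FrobeniusAction

set_option autoImplicit false
open Cfsg

namespace Cfsg.Agent.S1446

/-- Let X be a finite group with subgroups K, R, M such that: K and R are nontrivial, K ∩ R = 1, R normalizes K, no non-identity element of R centralizes a non-identity element of K, K ⊔ R is solvable of odd order; M is nilpotent and nontrivial, normalized by K and by R, with order coprime to that of K ⊔ R, M ∩ C(K) = 1, and M ∩ C(x) = M ∩ C(R) for all non-identity x ∈ R. Then R has prime order p, #M = #(M ∩ C(R)) ^ p, and if M ∩ C(R) is cyclic then [K, K] centralizes M. -/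
theorem result {X : Type*} [Group X] [Finite X] (K R M : Subgroup X) (hK1 : K ≠ ⊥) (hR1 : R ≠ ⊥) (hKR : K ⊓ R = ⊥)
    (hRK : R ≤ Subgroup.normalizer (K : Set X)) (hfrob : ∀ r ∈ R, r ≠ 1 → K ⊓ Subgroup.centralizer ({r} : Set X) = ⊥)
    (hsolv : Group.IsSolvable ↥(K ⊔ R)) (hodd : Odd (Nat.card ↥(K ⊔ R)))
    (hM1 : M ≠ ⊥) (hMn : Group.IsNilpotent M) (hKM : K ≤ Subgroup.normalizer (M : Set X)) (hRM : R ≤ Subgroup.normalizer (M : Set X))
    (hcop : (Nat.card ↥(K ⊔ R)).Coprime (Nat.card M)) (hCK : M ⊓ Subgroup.centralizer (K : Set X) = ⊥)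
    (hpr : ∀ x ∈ R, x ≠ 1 → M ⊓ Subgroup.centralizer ({x} : Set X) = M ⊓ Subgroup.centralizer (R : Set X)) :
    (Nat.card R).Prime ∧ Nat.card M = Nat.card ↥(M ⊓ Subgroup.centralizer (R : Set X)) ^ Nat.card R ∧
      (IsCyclic ↥(M ⊓ Subgroup.centralizer (R : Set X)) → ⁅K, K⁆ ≤ Subgroup.centralizer (M : Set X)) := by
  have hKs : Group.IsSolvable K := Agent.Basics.isSolvable_of_le le_sup_left hsolv
  have hMs : Group.IsSolvable M := inferInstance
  have hf : ∀ x ∈ R, x ≠ 1 → ∀ k ∈ K, x * k = k * x → k = 1 := by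
    intro x hx hx1 k hk h
    have h1 : k ∈ K ⊓ Subgroup.centralizer ({x} : Set X) :=
      Subgroup.mem_inf.mpr ⟨hk, Subgroup.mem_centralizer_singleton_iff.mpr h.symm⟩
    rwa [hfrob x hx hx1, Subgroup.mem_bot] at h1
  have hK : (Nat.card K).Coprime (Nat.card M) := hcop.coprime_dvd_left (Subgroup.card_dvd_of_le le_sup_left)
  have hR : (Nat.card R).Coprime (Nat.card M) := hcop.coprime_dvd_left (Subgroup.card_dvd_of_le le_sup_right)
  obtain ⟨hcard, hcyc⟩ := OddLocal.frobenius_card_fixed _ K R M rfl hKs hMs hRK hf hK hR hKM hRM hCK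
  obtain ⟨q, hq, hqR⟩ := Nat.exists_prime_and_dvd (fun h => hR1 (Subgroup.card_eq_one.mp h) : Nat.card R ≠ 1)
  haveI := Fact.mk hq
  obtain ⟨x, hx⟩ := exists_prime_orderOf_dvd_card' (G := R) q hqR
  rw [← Subgroup.orderOf_coe] at hx
  have hx1 : (x : X) ≠ 1 := fun h => hq.one_lt.ne (by rw [← hx, h, orderOf_one])
  have hle : Subgroup.zpowers (x : X) ≤ R := Subgroup.zpowers_le.mpr x.2
  obtain ⟨hcard0, -⟩ := OddLocal.frobenius_card_fixed _ K (Subgroup.zpowers (x : X)) M rfl hKs hMs (hle.trans hRK)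
    (fun y hy => hf y (hle hy)) hK (hR.coprime_dvd_left (Subgroup.card_dvd_of_le hle)) hKM (hle.trans hRM) hCK
  rw [Nat.card_zpowers, hx, Subgroup.zpowers_eq_closure, Subgroup.centralizer_closure, hpr x x.2 hx1] at hcard0
  have hc : 1 < Nat.card ↥(M ⊓ Subgroup.centralizer (R : Set X)) := by
    rcases Nat.lt_or_ge 1 (Nat.card ↥(M ⊓ Subgroup.centralizer (R : Set X))) with h | h
    · exact h
    · refine absurd (Subgroup.card_eq_one.mp ?_) hM1
      rw [hcard0, le_antisymm h Nat.card_pos, one_pow]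
  have hRq : Nat.card R = q := Nat.pow_right_injective hc (hcard.symm.trans hcard0)
  refine ⟨hRq ▸ hq, hcard, hcyc q hRq fun hd => ?_⟩
  -- `R` has no nontrivial fixed point on `K`
  have hRp : IsPGroup q R := IsPGroup.of_card (n := 1) (by rw [hRq, pow_one])
  obtain ⟨k, hk⟩ : ∃ k ∈ K, k ≠ 1 ∧ k ∈ Subgroup.centralizer (R : Set X) := by
    letI act : MulAction R K := MulAction.compHom K (K.normalizerMonoidHom.comp (Subgroup.inclusion hRK))
    obtain ⟨b, hb, hb1⟩ := hRp.exists_fixed_point_of_prime_dvd_card_of_fixed_point K hd (a := 1)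
      (fun y => map_one ((K.normalizerMonoidHom.comp (Subgroup.inclusion hRK)) y))
    refine ⟨b, b.2, fun h => hb1 (Subtype.ext h).symm, Subgroup.mem_centralizer_iff.mpr fun y hy => ?_⟩
    have h := congrArg Subtype.val (hb ⟨y, hy⟩)
    exact mul_inv_eq_iff_eq_mul.mp h
  exact hk.2.1 (hf x x.2 hx1 k hk.1 (Subgroup.mem_centralizer_iff.mp hk.2.2 x x.2))

end Cfsg.Agent.S1446
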