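import Cfsg.Statements.S1414
import Cfsg.Agent.Lib.OddLocal.BetaCore
-- import your own Cfsg.Agent.* helpers here

set_option autoImplicit false
open Cfsg

namespace Cfsg.Agent.S1414

/-- Let G be a minimal simple group of odd order, M a maximal subgroup, β(M) the set of ideal primes in α(M), and M_β = O_{β(M)}(M). Then M_β is a Hall β(M)-subgroup of M and of G; M' and M_σ each have a nilpotent Hall β(M)'-subgroup; and for each prime p dividing the order of M with p ∉ β(M), both M' and M_σ have normal p-complements and every prime dividing the index of O_{p'}(M) in M is at most p. -/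
theorem result {G : Type*} [Group G] [Finite G] (hG : Cfsg.IsMinSimpleOddOrder G)
    (M : Subgroup G) (hM : IsCoatom M) :
    Cfsg.IsPiHallOf (Cfsg.beta M) (Cfsg.piCoreOf (Cfsg.beta M) M) M ∧ Cfsg.IsPiHall (Cfsg.beta M) (Cfsg.piCoreOf (Cfsg.beta M) M) ∧
      (∃ H : Subgroup G, Cfsg.IsPiHallOf {q | q.Prime ∧ q ∉ Cfsg.beta M} H ⁅M, M⁆ ∧ Group.IsNilpotent H) ∧
      (∃ H : Subgroup G, Cfsg.IsPiHallOf {q | q.Prime ∧ q ∉ Cfsg.beta M} H (Cfsg.sigmaCore M) ∧ Group.IsNilpotent H) ∧
      ∀ p : ℕ, p.Prime → p ∣ Nat.card M → p ∉ Cfsg.beta M →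
        Cfsg.HasNormalPComplement p ↥⁅M, M⁆ ∧ Cfsg.HasNormalPComplement p ↥(Cfsg.sigmaCore M) ∧
        ∀ q : ℕ, q.Prime → q ∣ (Cfsg.pPrimeCore p ↥M).index → q ≤ p := by
  obtain ⟨hidx, hnil⟩ := OddLocal.betaCore_facts hG hM
  obtain ⟨h1, h2⟩ := OddLocal.piHall_of_piCore (fun p hpb hp => hidx p hpb hp)
    (fun p hpb hp => @OddLocal.sigma_not_dvd_index _ _ _ hG M hM p ⟨hp⟩ (OddLocal.alpha_subset_sigma hG hM hpb.1))
  refine ⟨h1, h2, ?_, ?_, fun p hp hpM hb => ?_⟩
  · obtain ⟨H, ⟨hHV, hH1, hH2⟩, hHn⟩ := hnil (commutator ↥M) le_rfl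
    refine ⟨H.map M.subtype, ⟨?_, fun r hr hd => hH1 r hr ?_, fun r hr hrπ hd => hH2 r hr hrπ ?_⟩,
      Group.nilpotent_of_surjective (h := hHn) (H.equivMapOfInjective M.subtype M.subtype_injective).toMonoidHom (MulEquiv.surjective _)⟩
    · rw [← M.map_subtype_commutator]; exact Subgroup.map_mono hHV
    · rwa [Subgroup.card_map_of_injective M.subtype_injective] at hd
    · rwa [← M.map_subtype_commutator, Subgroup.relIndex_map_map_of_injective _ _ M.subtype_injective] at hd
  · have hle := OddLocal.sigmaCore_le_commutator hG hM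
    obtain ⟨H, ⟨hHV, hH1, hH2⟩, hHn⟩ := hnil _ hle
    refine ⟨H.map M.subtype, ⟨Subgroup.map_mono hHV, fun r hr hd => hH1 r hr ?_, fun r hr hrπ hd => hH2 r hr hrπ ?_⟩,
      Group.nilpotent_of_surjective (h := hHn) (H.equivMapOfInjective M.subtype M.subtype_injective).toMonoidHom (MulEquiv.surjective _)⟩
    · rwa [Subgroup.card_map_of_injective M.subtype_injective] at hd
    · rwa [Cfsg.sigmaCore, Subgroup.relIndex_map_map_of_injective _ _ M.subtype_injective] at hd
  · haveI := Fact.mk hp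
    obtain ⟨hq, hW⟩ := OddLocal.facts_of_not_beta hG hM hpM hb
    exact ⟨hW.hasNormalPComplement, (hW.mono (V := Cfsg.sigmaCore M) (M.map_subtype_commutator ▸ Subgroup.map_mono (OddLocal.sigmaCore_le_commutator hG hM))).hasNormalPComplement, hq⟩

end Cfsg.Agent.S1414
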