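import Cfsg.Statements.S1355
import Cfsg.Agent.Lib.OddLocal.KappaNonNil

set_option autoImplicit false
set_option linter.style.haveILetI false
open Cfsg
open Cfsg.Agent.OddLocal
open Cfsg.Agent.Basics
open scoped commutatorElement Pointwise

namespace Cfsg.Agent.S1355

/-- Let G be a minimal simple group of odd order and M a maximal subgroup. Then the largest normal nilpotent Hall subgroup M_F of M is nontrivial and contained in M_σ, M_σ is contained in the derived subgroup M', M' is proper in M, and the image of M' in M/M_F is nilpotent. -/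
theorem result {G : Type*} [Group G] [Finite G] (hG : Cfsg.IsMinSimpleOddOrder G)
    (M : Subgroup G) (hM : IsCoatom M) :
    Cfsg.fittingHallOf M ≠ ⊥ ∧ Cfsg.fittingHallOf M ≤ Cfsg.sigmaCore M ∧ Cfsg.sigmaCore M ≤ ⁅M, M⁆ ∧ ⁅M, M⁆ < M ∧
      Group.IsNilpotent ↥((commutator ↥M).map (QuotientGroup.mk' (Cfsg.fittingHall ↥M))) := by
  haveI : Group.IsSolvable M := isSolvable_of_ne_top hG hM.1
  have hSn : ((Cfsg.sigmaCore M).subgroupOf M).Normal :=
    (Subgroup.normal_subgroupOf_iff_le_normalizer (sigmaCore_le M)).mpr (le_normalizer_sigmaCore M)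
  have hlt : ⁅M, M⁆ < M := by
    have hne : M ≠ ⊥ := fun e => sigmaCore_ne_bot hG hM (le_bot_iff.mp (e ▸ sigmaCore_le M))
    haveI : Nontrivial M := (Subgroup.nontrivial_iff_ne_bot M).mpr hne
    refine lt_of_le_of_ne (Subgroup.commutator_le_self M) fun e => ?_
    refine (Group.IsSolvable.commutator_lt_top_of_nontrivial ↥M).ne (Subgroup.map_injective M.subtype_injective ?_)
    rw [M.map_subtype_commutator, e, ← MonoidHom.range_eq_map, Subgroup.range_subtype]
  refine ⟨?_, fittingHallOf_le_sigmaCore hG hM, sigmaCore_le_derived hG hM, hlt, ?_⟩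
  · intro e
    by_cases hn : Group.IsNilpotent (Cfsg.sigmaCore M)
    · exact sigmaCore_ne_bot hG hM (fittingHallOf_eq_sigmaCore hG hM hn ▸ e)
    · obtain ⟨hP, K, hK, hK1⟩ := p1_of_not_nilpotent hG hM hn
      obtain ⟨q, hq, hAc, Q, -, hQ, hQn, hAQ, -⟩ := p1_structure hG hM hK hK1 hP
      haveI := Fact.mk hq
      exact kappa_fixed_ne_bot hG hM hK hK1 (le_bot_iff.mp ((hAQ.trans (sylow_le_fittingHallOf hQ hQn)).trans e.le))
  by_cases hn : Group.IsNilpotent (Cfsg.sigmaCore M)
  · have e : Cfsg.fittingHall ↥M = (Cfsg.sigmaCore M).subgroupOf M := by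
      rw [← fittingHallOf_eq_sigmaCore hG hM hn]
      exact (Subgroup.comap_map_eq_self_of_injective M.subtype_injective _).symm
    obtain ⟨hc, -⟩ := derived_two_le_core hG hM
    have key : ∀ (F : Subgroup ↥M) [F.Normal], F = (Cfsg.sigmaCore M).subgroupOf M →
        IsMulCommutative ↥((commutator ↥M).map (QuotientGroup.mk' F)) := fun F _ h => by
      subst h; exact hc
    haveI := key _ e
    exact nilpotent_of_commutative
  · obtain ⟨hP, K, hK, hK1⟩ := p1_of_not_nilpotent hG hM hn
    obtain ⟨q, hq, -, Q, D, hQ, hQn, -, hDS, -, -, hW, hMeq, hDn, -⟩ := p1_structure hG hM hK hK1 hP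
    haveI := Fact.mk hq
    haveI := kappa_cyclic hG hM hK
    have hDM : D ≤ M := hDS.trans (sigmaCore_le M)
    have hder : ⁅M, M⁆ ≤ Q ⊔ D := by
      conv_lhs => rw [hMeq, ← hW]
      exact (commutator_sup_le (hK.1.trans (le_normalizer_sigmaCore M))).trans hW.le
    haveI : Group.IsNilpotent ↥(D.subgroupOf M) :=
      Group.nilpotent_of_mulEquiv (Subgroup.subgroupOfEquivOfLe hDM).symm
    set π := QuotientGroup.mk' (Cfsg.fittingHall ↥M) with hπ
    haveI : Group.IsNilpotent ↥((D.subgroupOf M).map π) :=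
      Group.nilpotent_of_surjective _ (π.subgroupMap_surjective _)
    have hle : (commutator ↥M).map π ≤ (D.subgroupOf M).map π := by
      have h1 : commutator ↥M ≤ Q.subgroupOf M ⊔ D.subgroupOf M := by
        rw [← Subgroup.subgroupOf_sup hQ.1 hDM]
        exact fun a ha => hder (M.map_subtype_commutator ▸ ⟨a, ha, rfl⟩)
      refine (Subgroup.map_mono h1).trans ?_
      have h2 : Q.subgroupOf M ≤ Cfsg.fittingHall ↥M := fun a ha => by
        obtain ⟨b, hb, e⟩ := sylow_le_fittingHallOf hQ hQn ha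
        exact Subtype.ext e ▸ hb
      rw [Subgroup.map_sup, (Subgroup.map_eq_bot_iff _).mpr (h2.trans (QuotientGroup.ker_mk' _).ge), bot_sup_eq]
    exact Group.nilpotent_of_mulEquiv (Subgroup.subgroupOfEquivOfLe hle)

end Cfsg.Agent.S1355
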