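import Cfsg.Statements.S1364
import Cfsg.Agent.Lib.OddLocal.KappaFittingHall
import Cfsg.Agent.Lib.OddLocal.SigmaNeighbor

set_option autoImplicit false
set_option linter.style.haveILetI false
open Cfsg
open Cfsg.Agent.OddLocal
open Cfsg.Agent.Basics
open scoped commutatorElement Pointwise

namespace Cfsg.Agent.S1364

/-- Let G be a minimal simple group of odd order, M a maximal subgroup with standard factorisation M = K U M_σ and K ≠ 1, and put K* = M_σ ∩ C_G(K). Then K* is cyclic, nontrivial and contained in M_F, while M_F itself is not cyclic. -/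
theorem result {G : Type*} [Group G] [Finite G] (hG : Cfsg.IsMinSimpleOddOrder G)
    (M : Subgroup G) (hM : IsCoatom M) (K U : Subgroup G) (hKU : Cfsg.IsSigmaDecomposition M K U) (hK1 : K ≠ ⊥) :
    IsCyclic ↥(Cfsg.sigmaCore M ⊓ Subgroup.centralizer (K : Set G)) ∧ (Cfsg.sigmaCore M ⊓ Subgroup.centralizer (K : Set G)) ≠ ⊥ ∧ (Cfsg.sigmaCore M ⊓ Subgroup.centralizer (K : Set G)) ≤ Cfsg.fittingHallOf M ∧ ¬ IsCyclic (Cfsg.fittingHallOf M) := by
  obtain ⟨L, hL, -, hKL, hs, -⟩ := exists_dual hG hM hKU.hall hK1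
  have h : DualPair M K L := ⟨hM, hL, hKU.hall, hK1, hKL, hs⟩
  set A := Cfsg.sigmaCore M ⊓ Subgroup.centralizer (K : Set G) with hA
  have hA1 : A ≠ ⊥ := kappa_fixed_ne_bot hG hM hKU.hall hK1
  haveI := (h.facts hG).2.2
  refine ⟨Subgroup.isCyclic_of_le (H := A) (H' := K ⊔ (Cfsg.sigmaCore M ⊓ Subgroup.centralizer (K : Set G)))
    le_sup_right, hA1, ?_⟩
  have hnc : ∀ (p : ℕ) [Fact p.Prime] (S : Subgroup G), p ∣ Nat.card A → IsSylowIn p M S →
      IsCyclic (Cfsg.fittingHallOf M) → S ≤ Cfsg.fittingHallOf M → False := by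
    intro p _ S hd hS hc hle
    haveI := hc
    haveI : IsCyclic S := Subgroup.isCyclic_of_le (H := S) (H' := Cfsg.fittingHallOf M) hle
    exact h.sylow_not_abelian hG hd hS IsCyclic.isMulCommutative fun V hV hVe => (card_le_of_cyclic_ea hVe
      (Subgroup.isCyclic_of_le (H := V) (H' := S) hV)).trans (Nat.le_self_pow two_ne_zero p)
  by_cases hP : ∀ q : ℕ, q.Prime → q ∣ Nat.card M → q ∉ Cfsg.sigma M → q ∈ Cfsg.kappa M
  · obtain ⟨q, hq, hAc, Q, hQ, -, hQn, hAQ⟩ := exists_normal_sylow hG hM hKU.hall hK1 hP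
    haveI := Fact.mk hq
    have hQF := sylow_le_fittingHallOf hQ hQn
    exact ⟨hAQ.trans hQF, fun hc => hnc q Q hAc.symm.dvd hQ hc hQF⟩
  · push Not at hP
    obtain ⟨s, h1, h2, h3, h4⟩ := hP
    obtain ⟨-, hnil, -⟩ := compl_prime hG hM hKU.hall hK1 h1 h2 h3 h4
    have e := fittingHallOf_eq_sigmaCore hG hM hnil
    refine ⟨inf_le_left.trans e.ge, fun hc => ?_⟩
    obtain ⟨p, hp, hpd⟩ := Nat.exists_prime_and_dvd fun e => hA1 (Subgroup.card_eq_one.mp e)
    haveI := Fact.mk hp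
    have hpσ : p ∈ Cfsg.sigma M := piCoreOf_primes _ M hp (hpd.trans (Subgroup.card_dvd_of_le inf_le_left))
    obtain ⟨S, hS⟩ := exists_sylowIn (q := p) M
    exact hnc p S hpd hS hc ((pGroup_le_sigmaCore hG hM hpσ hS.isPGroup hS.1).trans e.ge)

end Cfsg.Agent.S1364
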