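import Cfsg.Statements.S1356
import Cfsg.Agent.S1421
import Cfsg.Agent.S1364
import Cfsg.Agent.S1365
import Cfsg.Agent.Lib.OddLocal.KappaNonNil
import Cfsg.Agent.Lib.OddLocal.SigmaMixed
import Cfsg.Agent.Lib.OddLocal.FittingSplit

set_option autoImplicit false
set_option linter.style.haveILetI false
open Cfsg
open Cfsg.Agent.OddLocal
open Cfsg.Agent.Basics
open scoped commutatorElement Pointwise

namespace Cfsg.Agent.S1356

/-- Let G be a minimal simple group of odd order and M a maximal subgroup. Then the second derived subgroup M'' lies in the Fitting subgroup F(M), F(M) is generated by M_F together with C_M(M_F), and if κ(M) is nonempty then F(M) ≤ M'. -/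
theorem result {G : Type*} [Group G] [Finite G] (hG : Cfsg.IsMinSimpleOddOrder G)
    (M : Subgroup G) (hM : IsCoatom M) :
    ⁅⁅M, M⁆, ⁅M, M⁆⁆ ≤ Cfsg.fittingOf M ∧
      Cfsg.fittingOf M = (M ⊓ Subgroup.centralizer (Cfsg.fittingHallOf M : Set G)) ⊔ Cfsg.fittingHallOf M ∧
      ((Cfsg.kappa M).Nonempty → Cfsg.fittingOf M ≤ ⁅M, M⁆) := by
  haveI : Group.IsSolvable M := isSolvable_of_ne_top hG hM.1
  have hSn : ((Cfsg.sigmaCore M).subgroupOf M).Normal :=
    (Subgroup.normal_subgroupOf_iff_le_normalizer (sigmaCore_le M)).mpr (le_normalizer_sigmaCore M)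
  set MF := Cfsg.fittingHallOf M with hMF
  have hMFM : MF ≤ M := Subgroup.map_subtype_le _
  have hMFn : M ≤ Subgroup.normalizer (MF : Set G) := le_normalizer_map_subtype _
  have hCn : M ≤ Subgroup.normalizer ((M ⊓ Subgroup.centralizer (MF : Set G) : Subgroup G) : Set G) :=
    (le_inf Subgroup.le_normalizer (le_normalizer_centralizer hMFn)).trans le_normalizer_inf'
  have key : ⁅⁅M, M⁆, ⁅M, M⁆⁆ ≤ Cfsg.fittingOf M ∧ Group.IsNilpotent ↥(M ⊓ Subgroup.centralizer (MF : Set G)) ∧
      Group.IsNilpotent MF := by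
    by_cases hn : Group.IsNilpotent (Cfsg.sigmaCore M)
    · have eF : MF = Cfsg.sigmaCore M := fittingHallOf_eq_sigmaCore hG hM hn
      refine ⟨(derived_two_le_core hG hM).2.trans (sigmaCore_le_fittingOf hn), ?_, eF ▸ hn⟩
      rw [eF]
      set C := M ⊓ Subgroup.centralizer (Cfsg.sigmaCore M : Set G) with hC
      obtain ⟨y, hy, hy1⟩ := (Subgroup.bot_or_exists_ne_one _).resolve_left (sigmaCore_ne_bot hG hM)
      obtain ⟨K, hK⟩ := exists_kappa_hall hG hM
      obtain ⟨A₀, hA₀M, hA₀c, hk⟩ : ∃ A₀ : Subgroup G, A₀ ≤ M ∧ IsMulCommutative A₀ ∧ ∀ k ∈ C, k ≠ 1 →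
          (∀ q : ℕ, q.Prime → q ∣ orderOf k → q ∉ Cfsg.sigma M) → k ∈ Cfsg.sigmaCore M ⊔ A₀ := by
        rcases eq_or_ne K ⊥ with hK1 | hK1
        · have hκ : ∀ r : ℕ, r ∉ Cfsg.kappa M := fun r hr => by
            refine hK.2.2 r hr.1 hr ?_
            rw [hK1, Subgroup.relIndex_bot_left]
            exact hr.2.1
          obtain ⟨E, hE⟩ := exists_compl hG hM
          obtain ⟨⟨A₀, hA₀E, hA₀n, hA₀c, hA₀⟩, -⟩ := S1421.result hG M hM E hE fun e he he1 hτ => by
            by_contra hne
            obtain ⟨z, hz, hz1⟩ := (Subgroup.bot_or_exists_ne_one _).resolve_left hne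
            obtain ⟨r, hr, hrd⟩ := Nat.exists_prime_and_dvd fun h => he1 (orderOf_eq_one_iff.mp h)
            rcases fixed_dichotomy hG hM hz.1 hz1 (hE.1 he)
              (Subgroup.mem_centralizer_singleton_iff.mp hz.2).symm he1 (fun s hs hd => compl_primes hG hM hE hs
                (hd.trans (Subgroup.orderOf_dvd_natCard _ he))) with ⟨h, -⟩ | ⟨h, -⟩
            · exact hκ r (h r hr hrd)
            · rcases hτ r hr hrd with h' | h'
              · exact (h r hr hrd).2.2.2 h'.2.2.2.2
              · exact (h r hr hrd).2.2.2 h'.2.2.2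
          refine ⟨A₀, hA₀E.trans hE.1, hA₀c, fun k hkC hk1 hkσ => ?_⟩
          obtain ⟨m, hm, hmE⟩ := exists_conj_le_compl hG hM hE (Subgroup.zpowers_le.mpr hkC.1)
            fun q hq hd => hkσ q hq (by rwa [Nat.card_zpowers] at hd)
          have hk' : m * k * m⁻¹ ∈ E := hmE (Basics.conj_mem_conj_smul (Subgroup.mem_zpowers k))
          have hkC' : m * k * m⁻¹ ∈ C := (Subgroup.mem_normalizer_iff.mp
            ((le_inf Subgroup.le_normalizer (le_normalizer_centralizer (le_normalizer_sigmaCore M))).trans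
              le_normalizer_inf' hm) k).mp hkC
          have hkA : m * k * m⁻¹ ∈ A₀ := hA₀ y hy hy1 (Subgroup.mem_inf.mpr ⟨hk',
            Subgroup.mem_centralizer_singleton_iff.mpr (Subgroup.mem_centralizer_iff.mp hkC'.2 y hy).symm⟩)
          have hn' : M ≤ Subgroup.normalizer ((Cfsg.sigmaCore M ⊔ A₀ : Subgroup G) : Set G) := by
            intro a ha
            obtain ⟨e, he, b, hb, rfl⟩ := hE.2.2.2 a ha
            refine mul_mem ?_ (Subgroup.le_normalizer (Subgroup.mem_sup_left hb))
            rw [Subgroup.mem_normalizer_iff_map_conj_eq, Subgroup.map_sup,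
              Subgroup.mem_normalizer_iff_map_conj_eq.mp (le_normalizer_sigmaCore M (hE.1 he)),
              Subgroup.mem_normalizer_iff_map_conj_eq.mp (hA₀n he)]
          exact (Subgroup.mem_normalizer_iff.mp (hn' hm) k).mpr (Subgroup.mem_sup_right hkA)
        · obtain ⟨V, hV⟩ := exists_decomp hG hM hK
          obtain ⟨U₀, hU₀c, -, -, hU₀M, -, -, -, -, -, hcmp⟩ := decomp_compare hG hM hK hK1
          refine ⟨U₀, hU₀M, hU₀c, fun k hkC hk1 hkσ => ?_⟩
          have hkM : k ∈ M := hkC.1
          rw [← hcmp V hV]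
          refine le_decomp hG hM hV (Subgroup.zpowers_le.mpr hkM) (fun r hr hd hrk => ?_) (Subgroup.mem_zpowers k)
          rw [Nat.card_zpowers] at hd
          set t := k ^ (orderOf k / r) with ht
          have hto : orderOf t = r := orderOf_pow_orderOf_div (orderOf_pos k).ne' hd
          obtain ⟨m, hm, hmK⟩ := exists_conj_le_kappa hG hM hK (Subgroup.zpowers_le.mpr (pow_mem hkM _))
            fun s hs hd' => by
              rw [Nat.card_zpowers, hto] at hd'
              rwa [(Nat.prime_dvd_prime_iff_eq hs hr).mp hd']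
          have htK : m * t * m⁻¹ ∈ K := hmK (Basics.conj_mem_conj_smul (Subgroup.mem_zpowers t))
          have ht1 : m * t * m⁻¹ ≠ 1 := fun e => by
            rw [conj_eq_one_iff.mp e, orderOf_one] at hto; exact hr.one_lt.ne hto
          have htC : m * t * m⁻¹ ∈ C := (Subgroup.mem_normalizer_iff.mp
            ((le_inf Subgroup.le_normalizer (le_normalizer_centralizer (le_normalizer_sigmaCore M))).trans
              le_normalizer_inf' hm) t).mp (pow_mem hkC _)
          obtain ⟨hAc, -, -, hnc⟩ := S1364.result hG M hM K V hV hK1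
          refine hnc ?_
          rw [← hMF, eF]
          have hle : Cfsg.sigmaCore M ≤ Cfsg.sigmaCore M ⊓ Subgroup.centralizer (K : Set G) := by
            rw [← kappa_semiprime hG hM hK htK ht1]
            exact le_inf le_rfl fun a ha => Subgroup.mem_centralizer_singleton_iff.mpr
              (Subgroup.mem_centralizer_iff.mp htC.2 a ha)
          haveI := hAc
          exact Subgroup.isCyclic_of_le hle
      haveI := hA₀c
      haveI : Group.IsNilpotent A₀ := nilpotent_of_commutative
      refine nilpotent_of_central_core (sigmaCore_le M) (le_normalizer_sigmaCore M) inf_le_left hA₀M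
        inferInstance inf_le_right fun c hc => ?_
      obtain ⟨s, k, e, -, hsz, hkz, hsσ, hkσ⟩ := exists_split hG c (Cfsg.sigma M)
      have hsS : s ∈ Cfsg.sigmaCore M := sigma_le_core hG hM
        (Subgroup.zpowers_le.mpr (Subgroup.zpowers_le.mpr (show c ∈ M from hc.1) hsz))
        (fun q hq hd => hsσ q hq (by rwa [Nat.card_zpowers] at hd)) (Subgroup.mem_zpowers s)
      rw [e]
      refine mul_mem (Subgroup.mem_sup_left hsS) ?_
      rcases eq_or_ne k 1 with rfl | hk1
      · exact one_mem _
      · exact hk k (Subgroup.zpowers_le.mpr hc hkz) hk1 hkσ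
    · obtain ⟨hP, K, hK, hK1⟩ := p1_of_not_nilpotent hG hM hn
      obtain ⟨q, hq, hAc, Q, D, hQ, hQn, hAQ, hDS, hKD, -, hW, hMeq, hDn, hDC⟩ := p1_structure hG hM hK hK1 hP
      haveI := Fact.mk hq
      haveI := kappa_cyclic hG hM hK
      have hDM : D ≤ M := hDS.trans (sigmaCore_le M)
      have hQF : Q ≤ MF := sylow_le_fittingHallOf hQ hQn
      refine ⟨?_, ?_, ?_⟩
      · have h1 : ⁅M, M⁆ ≤ Cfsg.sigmaCore M := by
          conv_lhs => rw [hMeq, ← hW]
          exact commutator_sup_le (hK.1.trans (le_normalizer_sigmaCore M))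
        have hD'M : ⁅D, D⁆ ≤ M := (Subgroup.commutator_le_self D).trans hDM
        have h2 : ⁅Cfsg.sigmaCore M, Cfsg.sigmaCore M⁆ ≤ Q ⊔ ⁅D, D⁆ := by
          haveI : (Q.subgroupOf M).Normal := (Subgroup.normal_subgroupOf_iff_le_normalizer hQ.1).mpr hQn
          set π := QuotientGroup.mk' (Q.subgroupOf M) with hπ
          have hsub : (Cfsg.sigmaCore M).subgroupOf M = Q.subgroupOf M ⊔ D.subgroupOf M := by
            rw [hW, Subgroup.subgroupOf_sup hQ.1 hDM]
          have e1 : ((Cfsg.sigmaCore M).subgroupOf M).map π = (D.subgroupOf M).map π := by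
            rw [hsub, Subgroup.map_sup, (Subgroup.map_eq_bot_iff _).mpr (QuotientGroup.ker_mk' _).ge, bot_sup_eq]
          have e2 : (⁅(Cfsg.sigmaCore M).subgroupOf M, (Cfsg.sigmaCore M).subgroupOf M⁆).map π =
              (⁅D.subgroupOf M, D.subgroupOf M⁆).map π := by
            rw [Subgroup.map_commutator, Subgroup.map_commutator, e1]
          have e3 := Subgroup.map_le_iff_le_comap.mp e2.le
          rw [Subgroup.comap_map_eq, QuotientGroup.ker_mk', sup_comm] at e3
          have e4 := Subgroup.map_mono (f := M.subtype) e3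
          rwa [Subgroup.map_sup, Subgroup.map_commutator, Subgroup.map_commutator,
            Subgroup.map_subgroupOf_eq_of_le (sigmaCore_le M), Subgroup.map_subgroupOf_eq_of_le hQ.1,
            Subgroup.map_subgroupOf_eq_of_le hDM] at e4
        refine ((Subgroup.commutator_mono h1 h1).trans h2).trans
          (le_fittingOf_of_normal (sup_le hQ.1 hD'M) ?_
            (nilpotent_sup_of_commute hQ.isPGroup.isNilpotent
              (Group.nilpotent_of_mulEquiv (Subgroup.subgroupOfEquivOfLe (Subgroup.commutator_le_self D)) :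
                Group.IsNilpotent ↥⁅D, D⁆) (Subgroup.le_centralizer_iff.mp hDC)))
        rw [hMeq]
        refine sup_le (sup_le (le_sup_left.trans Subgroup.le_normalizer) fun d hd => ?_) fun k hk => ?_
        · rw [Subgroup.mem_normalizer_iff_map_conj_eq, Subgroup.map_sup, Subgroup.map_commutator,
            Subgroup.mem_normalizer_iff_map_conj_eq.mp (hQn (hDM hd)),
            Subgroup.mem_normalizer_iff_map_conj_eq.mp (Subgroup.le_normalizer hd)]
        · rw [Subgroup.mem_normalizer_iff_map_conj_eq, Subgroup.map_sup, Subgroup.map_commutator,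
            Subgroup.mem_normalizer_iff_map_conj_eq.mp (hQn (hK.1 hk)),
            Subgroup.mem_normalizer_iff_map_conj_eq.mp (hKD hk)]
      · refine nilpotent_of_central_core hQ.1 hQn inf_le_left hDM hDn
          (inf_le_right.trans (Subgroup.centralizer_le hQF)) fun c hc => ?_
        rw [← hW]
        refine sigma_le_core hG hM (Subgroup.zpowers_le.mpr hc.1) (fun r hr hd => ?_) (Subgroup.mem_zpowers c)
        by_contra hrσ
        have hrk := hP r hr (hd.trans (Subgroup.card_dvd_of_le (Subgroup.zpowers_le.mpr hc.1))) hrσ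
        rw [Nat.card_zpowers] at hd
        set t := c ^ (orderOf c / r) with ht
        have hto : orderOf t = r := orderOf_pow_orderOf_div (orderOf_pos c).ne' hd
        obtain ⟨m, hm, hmK⟩ := exists_conj_le_kappa hG hM hK (Subgroup.zpowers_le.mpr (pow_mem hc.1 _))
          fun s hs hd' => by
            rw [Nat.card_zpowers, hto] at hd'
            rwa [(Nat.prime_dvd_prime_iff_eq hs hr).mp hd']
        have htK : m * t * m⁻¹ ∈ K := hmK (Basics.conj_mem_conj_smul (Subgroup.mem_zpowers t))
        have ht1 : m * t * m⁻¹ ≠ 1 := fun e => by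
          rw [conj_eq_one_iff.mp e, orderOf_one] at hto; exact hr.one_lt.ne hto
        have htC := (Subgroup.mem_normalizer_iff.mp (hCn hm) t).mp (pow_mem hc _)
        have hle : Q ≤ Cfsg.sigmaCore M ⊓ Subgroup.centralizer (K : Set G) := by
          rw [← kappa_semiprime hG hM hK htK ht1]
          exact le_inf (le_sup_left.trans hW.ge) fun a ha => Subgroup.mem_centralizer_singleton_iff.mpr
            (Subgroup.mem_centralizer_iff.mp htC.2 a (hQF ha))
        haveI : IsCyclic ↥(Cfsg.sigmaCore M ⊓ Subgroup.centralizer (K : Set G)) :=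
          haveI := Fact.mk hq
          isCyclic_of_prime_card hAc
        haveI : IsCyclic Q := Subgroup.isCyclic_of_le hle
        obtain ⟨L, hL, -, hKL, hs, -⟩ := exists_dual hG hM hK hK1
        exact DualPair.sylow_not_abelian (⟨hM, hL, hK, hK1, hKL, hs⟩ : DualPair M K L) hG hAc.symm.dvd hQ
          IsCyclic.isMulCommutative fun V hV hVe => (card_le_of_cyclic_ea hVe
            (Subgroup.isCyclic_of_le hV)).trans (Nat.le_self_pow two_ne_zero q)
      · have hF : MF ≤ Cfsg.fittingOf M := Subgroup.map_mono (sSup_le fun N hN => by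
          haveI := hN.1
          exact Basics.le_fittingSubgroup hN.2.1)
        haveI := isNilpotent_fittingOf M
        exact Group.nilpotent_of_mulEquiv (Subgroup.subgroupOfEquivOfLe hF)
  obtain ⟨h2, hCnil, hFnil⟩ := key
  have hMFF : MF ≤ Cfsg.fittingOf M := le_fittingOf_of_normal hMFM hMFn hFnil
  refine ⟨h2, le_antisymm (fun x hx => ?_) (sup_le (le_fittingOf_of_normal inf_le_left hCn hCnil) hMFF), fun hκ => ?_⟩
  · obtain ⟨s, k, e, -, hsz, hkz, hsπ, hkπ⟩ := exists_split hG x {q | q ∣ Nat.card MF}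
    have hsF : s ∈ Cfsg.fittingOf M := Subgroup.zpowers_le.mpr hx hsz
    have hkF : k ∈ Cfsg.fittingOf M := Subgroup.zpowers_le.mpr hx hkz
    rw [e]
    refine mul_mem (Subgroup.mem_sup_right ?_) (Subgroup.mem_sup_left (Subgroup.mem_inf.mpr
      ⟨fittingOf_le M hkF, Subgroup.mem_centralizer_iff.mpr fun a ha => ?_⟩))
    · have hidx : ∀ q : ℕ, q.Prime → q ∣ Nat.card MF → ¬ q ∣ MF.relIndex M := by
        exact fun q hq hd hd' => Nat.not_coprime_of_dvd_of_dvd hq.one_lt hd hd' (fittingHallOf_hall M)
      exact le_of_coprime_index hMFM hMFn hidx (Subgroup.zpowers_le.mpr (fittingOf_le M hsF))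
        (fun q hq hd => hsπ q hq (by rwa [Nat.card_zpowers] at hd)) (Subgroup.mem_zpowers s)
    · exact (Basics.commute_of_coprime_le (isNilpotent_fittingOf M) (hMFF ha) hkF
        (Nat.coprime_of_dvd fun q hq h1 h2 => hkπ q hq h2 (h1.trans (Subgroup.orderOf_dvd_natCard _ ha)))).eq
  · obtain ⟨K, hK⟩ := exists_kappa_hall hG hM
    obtain ⟨r, hrk⟩ := hκ
    have hK1 : K ≠ ⊥ := fun e => hK.2.2 r hrk.1 hrk (by rw [e, Subgroup.relIndex_bot_left]; exact hrk.2.1)
    obtain ⟨V, hV⟩ := exists_decomp hG hM hK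
    obtain ⟨hW, -⟩ := S1365.result hG M hM K V hV hK1
    obtain ⟨-, hτ, hsplit⟩ := fitting_split hG hM
    rw [hsplit]
    refine sup_le ((fittingOf_le _).trans (sigmaCore_le_derived hG hM)) ?_
    rw [hW, sup_comm]
    exact le_decomp hG hM hV ((piCoreOf_le _ _).trans (fittingOf_le M)) fun q hq hd hqk => by
      haveI := Fact.mk hq
      exact (hτ q hq hd).2.2.2 (kappa_rank_one hqk)

end Cfsg.Agent.S1356
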