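import Cfsg.Statements.S1451
import Cfsg.Agent.Lib.OddLocal.RankTwo
import Cfsg.Agent.Lib.Basics.Schmidt
-- import your own Cfsg.Agent.* helpers here

set_option autoImplicit false
open Cfsg
open scoped commutatorElement

namespace Cfsg.Agent.S1451

/-- Let G be a solvable group of odd order such that G, or its Fitting subgroup, has no elementary abelian subgroup of order q ^ 3 for any prime q. Then G' is nilpotent; for every Sylow subgroup S of G, every characteristic subgroup T of S with T ≤ [S, S] is normal in G; and for every prime p, G has a characteristic subgroup that is a Hall subgroup for the set of primes greater than p. -/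
theorem result {G : Type*} [Group G] [Finite G] [Group.IsSolvable G] (hodd : Odd (Nat.card G)) (hr : Cfsg.RankLE 2 G ∨ Cfsg.RankLE 2 (Cfsg.fittingSubgroup G)) :
    Group.IsNilpotent ↥(commutator G) ∧
      (∀ (q : ℕ) [Fact q.Prime] (S : Sylow q G) (T : Subgroup ↥(S : Subgroup G)), T.Characteristic → T.map (S : Subgroup G).subtype ≤ ⁅(S : Subgroup G), (S : Subgroup G)⁆ →
        (T.map (S : Subgroup G).subtype).Normal) ∧
      ∀ p : ℕ, ∃ N : Subgroup G, N.Characteristic ∧ Cfsg.IsPiHall {q | q.Prime ∧ p < q} N := by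
  have hrF : ∀ r : ℕ, r.Prime → ∀ X : Subgroup G, X ≤ Cfsg.pCore r G → Cfsg.IsElementaryAbelian r X →
      Nat.card X ≤ r ^ 2 := by
    intro r hr' X hX hea
    rcases hr with h | h
    · exact h r hr' X hea.1 hea.2
    · have : Fact r.Prime := ⟨hr'⟩
      exact OddLocal.pRankLE_iff_le.mp (h r hr') X (hX.trans (Basics.pCore_le_fittingSubgroup r)) hea
  have hder := OddLocal.commutator_le_fittingSubgroup hodd hrF
  have hFn : (Cfsg.fittingSubgroup G).Normal := Components.fitting_normal
  refine ⟨?_, ?_, fun p => OddLocal.exists_hall_large hodd hrF p⟩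
  · exact Group.nilpotent_of_mulEquiv (Subgroup.subgroupOfEquivOfLe hder)
  · intro q _ S T hT hTS
    set T' := T.map (S : Subgroup G).subtype with hT'
    set F := Cfsg.fittingSubgroup G with hF
    set M := (S : Subgroup G) ⊔ F with hM
    have hMn : M.Normal := by
      refine ⟨fun n hn g => ?_⟩
      have h1 : ⁅g, n⁆ ∈ M := Subgroup.mem_sup_right
        (hder (Subgroup.commutator_mem_commutator (Subgroup.mem_top g) (Subgroup.mem_top n)))
      have h2 : g * n * g⁻¹ = ⁅g, n⁆ * n := by simp [commutatorElement_def]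
      exact h2 ▸ mul_mem h1 hn
    have hN : Subgroup.normalizer ((S : Subgroup G) : Set G) ≤ Subgroup.normalizer (T' : Set G) :=
      OddLocal.normalizer_le_normalizer_map_characteristic (hK := hT) T
    have hTq : ∀ t ∈ T', ∃ j, t ^ q ^ j = 1 := fun t ht => by
      obtain ⟨j, hj⟩ := S.2 ⟨t, Subgroup.map_subtype_le T ht⟩
      exact ⟨j, congrArg Subtype.val hj⟩
    have hTF : T' ≤ F := hTS.trans ((Subgroup.commutator_mono le_top le_top).trans hder)
    have hFT : F ≤ Subgroup.normalizer (T' : Set G) := by
      intro f hf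
      set n := Nat.factorization (Nat.card G) q
      set m := Nat.card G / q ^ n
      have hcopm : (q ^ n).Coprime m := ((Fact.out : q.Prime).coprime_iff_not_dvd.mpr
        (Nat.not_dvd_ordCompl (Fact.out : q.Prime) Nat.card_pos.ne')).pow_left n
      have hcard : (f ^ q ^ n) ^ m = 1 := by
        rw [← pow_mul, Nat.mul_div_cancel' (Nat.ordProj_dvd _ _), pow_card_eq_one']
      have ha : f ^ q ^ n ∈ Subgroup.normalizer (T' : Set G) := by
        refine Subgroup.centralizer_le_normalizer (T' : Set G) ?_
        rw [Subgroup.mem_centralizer_iff]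
        intro t ht
        obtain ⟨j, hj⟩ := hTq t ht
        refine (Basics.commute_of_coprime_le (H := Cfsg.fittingSubgroup G) Components.fitting_isNilpotent (hTF ht) (pow_mem hf _) ?_).eq
        exact ((((Fact.out : q.Prime).coprime_iff_not_dvd.mpr
          (Nat.not_dvd_ordCompl (Fact.out : q.Prime) Nat.card_pos.ne')).pow_left j).coprime_dvd_left
          (orderOf_dvd_of_pow_eq_one hj)).coprime_dvd_right (orderOf_dvd_of_pow_eq_one hcard)
      have hb : f ^ m ∈ Subgroup.normalizer (T' : Set G) := by
        refine hN (Subgroup.le_normalizer ?_)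
        have h1 : f ^ m ∈ Cfsg.pCore q G := OddLocal.mem_pCore_of_mem_fitting (pow_mem hf _)
          ⟨n, by rw [← pow_mul, mul_comm, Nat.mul_div_cancel' (Nat.ordProj_dvd _ _), pow_card_eq_one']⟩
        exact (Basics.pCore_isPGroup q).le_sylow_of_normal S h1
      have h3 : f = (f ^ q ^ n) ^ (Nat.gcdA (q ^ n) m) * (f ^ m) ^ (Nat.gcdB (q ^ n) m) := by
        rw [← zpow_natCast, ← zpow_natCast, ← zpow_mul, ← zpow_mul, ← zpow_add, ← Nat.gcd_eq_gcd_ab,
          hcopm.gcd_eq_one, Nat.cast_one, zpow_one]
      rw [h3]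
      exact mul_mem (zpow_mem ha _) (zpow_mem hb _)
    have htop := Sylow.normalizer_sup_eq_top' S (N := M) le_sup_left
    rw [← Subgroup.normalizer_eq_top_iff, eq_top_iff, ← htop]
    exact sup_le hN (sup_le (Subgroup.le_normalizer.trans hN) hFT)

end Cfsg.Agent.S1451
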