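import Cfsg.Statements.S1417
import Cfsg.Agent.Lib.OddLocal.TwoElem

set_option autoImplicit false
open Cfsg

namespace Cfsg.Agent.S1417

/-- Let G be a minimal simple group of odd order, M a maximal subgroup, p ∈ τ₂(M) and A ≤ M elementary abelian of order p ^ 2. Then (a) M_σ is nilpotent; (b) every Sylow p-subgroup P of M is abelian, and if A ≤ P then the elements of P of order dividing p are exactly those of A and N_G(P) is not contained in M; (c) M normalizes M_σA; (d) M_σ ∩ C_G(A) = 1; (e) M_σ ∩ M* = 1 for every maximal subgroup M* ≠ M containing A; (f) M_σ ∩ C_G(A₁) = 1 for some subgroup A₁ ≤ A of order p. -/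
theorem result {G : Type*} [Group G] [Finite G] (hG : Cfsg.IsMinSimpleOddOrder G)
    (M : Subgroup G) (hM : IsCoatom M) (p : ℕ) [Fact p.Prime] (hp : p ∈ Cfsg.tau2 M) (A : Subgroup G) (hA : (A ≤ M ∧ Cfsg.IsElementaryAbelian p A ∧ Nat.card A = p ^ 2)) :
    Group.IsNilpotent (Cfsg.sigmaCore M) ∧
      (∀ P : Sylow p M, IsMulCommutative (P : Subgroup M) ∧
        (A ≤ (P : Subgroup M).map M.subtype →
          (∀ x ∈ (P : Subgroup M).map M.subtype, x ^ p = 1 ↔ x ∈ A) ∧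
          ¬ Subgroup.normalizer ((((P : Subgroup M).map M.subtype : Subgroup G)) : Set G) ≤ M)) ∧
      M ≤ Subgroup.normalizer ((Cfsg.sigmaCore M ⊔ A : Subgroup G) : Set G) ∧
      Cfsg.sigmaCore M ⊓ Subgroup.centralizer (A : Set G) = ⊥ ∧
      (∀ Mstar : Subgroup G, IsCoatom Mstar → Mstar ≠ M → A ≤ Mstar → Cfsg.sigmaCore M ⊓ Mstar = ⊥) ∧
      ∃ A₁ : Subgroup G, A₁ ≤ A ∧ Nat.card A₁ = p ∧ Cfsg.sigmaCore M ⊓ Subgroup.centralizer (A₁ : Set G) = ⊥ := by
  obtain ⟨hAM, hAe, hA2⟩ := hA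
  obtain ⟨X, h⟩ := OddLocal.exists_exc hG hM hp.2.1 hAM hAe hA2
  obtain ⟨n, hn, hnM⟩ := h.exists_notMem hG
  obtain ⟨hle, hc, -, hf⟩ := h.conj_line hG hn hnM
  refine ⟨h.isNilpotent hG, fun P => ⟨?_, fun hAP => ⟨fun x hx => ⟨fun hxp => ?_, fun hxA => hAe.2 x hxA⟩, ?_⟩⟩,
    h.le_normalizer_sup hG, h.centralizer_eq_bot hG, fun H hH hne hAH => h.inf_maximal hG hH hne hAH, _, hle, hc, hf⟩
  · obtain ⟨P₀, hP₀, hAP₀⟩ := OddLocal.exists_sylowIn_ge h.isPGroup hAM
    obtain ⟨S, hS⟩ := hP₀.exists_sylow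
    haveI := h.sylow_abelian hG hP₀ hAP₀
    haveI hS' : IsMulCommutative ((S : Subgroup M).map M.subtype) := hS ▸ h.sylow_abelian hG hP₀ hAP₀
    let e := (P.equiv S).trans ((S : Subgroup M).equivMapOfInjective M.subtype M.subtype_injective)
    exact ⟨⟨fun a b => e.injective (by rw [map_mul, map_mul]; exact hS'.is_comm.comm _ _)⟩⟩
  · exact h.omega_sylow hG (Basics.isSylowIn_map P) hAP hx hxp
  · exact OddLocal.not_normalizer_le hp.2.1 h.dvd_card P

end Cfsg.Agent.S1417
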