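import Cfsg.Statements.S1357
import Cfsg.Agent.Lib.OddLocal.KappaP1
import Cfsg.Agent.Lib.OddLocal.FittingSplit
import Cfsg.Agent.S1423

set_option autoImplicit false
set_option linter.style.haveILetI false
open Cfsg
open Cfsg.Agent.OddLocal
open Cfsg.Agent.Basics
open scoped commutatorElement Pointwise

namespace Cfsg.Agent.S1357

/-- Let G be a minimal simple group of odd order and M a maximal subgroup with standard factorisation M = K U M_σ. If M_F ≠ M_σ then U = 1, the Fitting subgroup F(M) meets its conjugates by elements outside its normalizer trivially, and K has prime order. -/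
theorem result {G : Type*} [Group G] [Finite G] (hG : Cfsg.IsMinSimpleOddOrder G)
    (M : Subgroup G) (hM : IsCoatom M) (K U : Subgroup G) (hKU : Cfsg.IsSigmaDecomposition M K U) (hne : Cfsg.fittingHallOf M ≠ Cfsg.sigmaCore M) :
    U = ⊥ ∧ Cfsg.IsTISubset (Cfsg.fittingOf M : Set G) ∧ (Nat.card K).Prime := by
  have hn : ¬ Group.IsNilpotent (Cfsg.sigmaCore M) := fun h => hne (fittingHallOf_eq_sigmaCore hG hM h)
  obtain ⟨q, hq, hAc, hβ, hK1, hKp, hP, Q, D, hQ, hQn, hQW, hAQ, -⟩ := p1_full hG hM hKU.hall hn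
  haveI := Fact.mk hq
  have hU1 : U = ⊥ := Subgroup.card_eq_one.mp (Nat.eq_one_iff_not_exists_prime_dvd.mpr fun p hp hd => by
    obtain ⟨-, hpk, hps⟩ := (decomp_hall hG hM hKU).2.1 p hp hd
    exact hpk (hP p hp (hd.trans (Subgroup.card_dvd_of_le hKU.compl.1)) hps))
  refine ⟨hU1, ?_, hKp⟩
  obtain ⟨L, hL, -, hKL, hs, -⟩ := exists_dual hG hM hKU.hall hK1
  have hd : DualPair M K L := ⟨hM, hL, hKU.hall, hK1, hKL, hs⟩
  obtain ⟨-, hY, hF⟩ := fitting_split hG hM
  have hY1 : Cfsg.piCoreOf {q | q.Prime ∧ q ∉ Cfsg.sigma M} (Cfsg.fittingOf M) = ⊥ := by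
    refine Subgroup.card_eq_one.mp (Nat.eq_one_iff_not_exists_prime_dvd.mpr fun p hp hd => ?_)
    obtain ⟨-, hpσ, -, h1⟩ := hY p hp hd
    haveI := Fact.mk hp
    exact h1 (kappa_rank_one (hP p hp (hd.trans (Subgroup.card_dvd_of_le
      ((piCoreOf_le _ _).trans (fittingOf_le M)))) hpσ))
  have hFσ : Cfsg.fittingOf M ≤ Cfsg.sigmaCore M := by
    rw [hF, hY1, sup_bot_eq]
    exact fittingOf_le _
  have hQF : Q ≤ Cfsg.fittingOf M := le_fittingOf_of_normal hQ.1 hQn hQ.isPGroup.isNilpotent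
  have hC : ∀ t ∈ Cfsg.fittingOf M, (orderOf t).Prime → Subgroup.centralizer ({t} : Set G) ≤ M := by
    intro t ht htp
    haveI := Fact.mk htp
    have htσ : orderOf t ∈ Cfsg.sigma M := orderOf_core (hFσ ht) _ htp dvd_rfl
    by_cases htq : orderOf t = q
    · obtain ⟨h, -⟩ := S1423.result hG M hM (orderOf t) htσ (Subgroup.zpowers t)
        (Subgroup.zpowers_le.mpr (fittingOf_le M ht)) (Nat.card_zpowers t) default (Or.inl (htq.symm ▸ hβ))
      rw [centralizer_eq_of_zpowers] at h; exact h.1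
    by_contra hC
    have ht1 : t ≠ 1 := fun e => htp.one_lt.ne (by rw [e, orderOf_one])
    obtain ⟨N, hN, hCN, -, hconj, -, -, hcompl, -, -, -⟩ := exists_neighbor hG hM (hFσ ht) ht1 hC
    have hQt : Q ≤ Subgroup.centralizer ({t} : Set G) := fun v hv => Subgroup.mem_centralizer_singleton_iff.mpr (by
      haveI : Group.IsNilpotent (Cfsg.fittingOf M) := isNilpotent_fittingOf M
      obtain ⟨j, hj⟩ := IsPGroup.iff_card.mp hQ.isPGroup
      exact (commute_of_coprime_le (inferInstance : Group.IsNilpotent (Cfsg.fittingOf M)) (hQF hv) ht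
        ((((Nat.coprime_primes hq htp).mpr (Ne.symm htq)).pow_left j).coprime_dvd_left
          (hj ▸ Subgroup.orderOf_dvd_natCard _ hv))).eq)
    have hQN : Q ≤ N := hQt.trans hCN
    have hqM : q ∈ Cfsg.sigma M := piCoreOf_primes _ M hq (hAc.symm.dvd.trans (Subgroup.card_dvd_of_le inf_le_left))
    have hqN : q ∉ Cfsg.sigma N := fun h => by
      obtain ⟨g, hg⟩ := sigma_disjoint hG hM hN hqM h
      exact hconj g hg
    refine hd.sylow_not_abelian hG hAc.symm.dvd hQ (pGroup_commutative hG hN hQ.isPGroup hQN hqN) fun V hV hVe => ?_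
    have h := pRankLE_two_of_not_mem_sigma hG hN hqN (V.subgroupOf N) ⟨⟨fun a b => Subtype.ext (Subtype.ext
      (congrArg (fun z : V => (z : G)) (hVe.1.is_comm.comm ⟨_, a.2⟩ ⟨_, b.2⟩) :))⟩⟩
      fun a ha => Subtype.ext (hVe.2 _ ha)
    rwa [Basics.card_subgroupOf (hV.trans hQN)] at h
  intro g hg x hx hgx
  by_contra hx1
  obtain ⟨p, hp, hpd⟩ := Nat.exists_prime_and_dvd fun e => hx1 (orderOf_eq_one_iff.mp e)
  haveI := Fact.mk hp
  set t := x ^ (orderOf x / p) with htdef
  have hto : orderOf t = p := orderOf_pow_orderOf_div (orderOf_pos x).ne' hpd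
  have ht : t ∈ Cfsg.fittingOf M := pow_mem hx _
  have ht' : g * t * g⁻¹ ∈ Cfsg.fittingOf M := by rw [htdef, ← conj_pow]; exact pow_mem hgx _
  have hX : Nat.card (Subgroup.zpowers t) = p := by rw [Nat.card_zpowers, hto]
  have hpσ : p ∈ Cfsg.sigma M := orderOf_core (hFσ ht) p hp hto.symm.dvd
  obtain ⟨m, hm, c, hc, e⟩ := sigma_fusion hG hM hpσ (IsPGroup.of_card (n := 1) (hX.trans (pow_one p).symm))
    (fun e => by rw [e, Subgroup.card_bot] at hX; exact hp.one_lt.ne hX)
    (Subgroup.zpowers_le.mpr (fittingOf_le M ht)) (g := g) (by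
      rw [MonoidHom.map_zpowers]
      exact Subgroup.zpowers_le.mpr (fittingOf_le M ht'))
  have hgM : g ∈ M := e ▸ mul_mem hm (hC t ht (hto.symm ▸ hp) (by rwa [← centralizer_eq_of_zpowers]))
  exact hg (Subgroup.mem_set_normalizer_iff.mpr fun y =>
    Subgroup.mem_normalizer_iff.mp (le_normalizer_fittingOf M hgM) y)

end Cfsg.Agent.S1357
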