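import Cfsg.Statements.S1393
import Cfsg.Agent.Lib.OddLocal.TransitivityPi
-- import your own Cfsg.Agent.* helpers here

set_option autoImplicit false
open Cfsg

namespace Cfsg.Agent.S1393

/-- Let G be a minimal simple group of odd order, A a subgroup satisfying the transitivity hypothesis whose centre has rank at least 3, K = O_{π(A)'}(C_G(A)), and q a prime not dividing the order of A. Then any two maximal A-invariant q-subgroups of G are conjugate by an element of K. -/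
theorem result {G : Type*} [Group G] [Finite G] (hG : Cfsg.IsMinSimpleOddOrder G)
    (A : Subgroup G) (hA : Cfsg.TransitivityHypothesis A) (hZ : ¬ Cfsg.RankLE 2 ↥(A ⊓ Subgroup.centralizer (A : Set G)))
    (q : ℕ) (hq : q.Prime) (hqA : ¬ q ∣ Nat.card A) :
    ∀ Q₁ ∈ Cfsg.maxInvSubgroups ⊤ A {q}, ∀ Q₂ ∈ Cfsg.maxInvSubgroups ⊤ A {q}, ∃ k ∈ Cfsg.piCoreOf (Cfsg.primesNotDvd (Nat.card A)) (Subgroup.centralizer (A : Set G)), Q₂ = Q₁.map (MulAut.conj k).toMonoidHom := by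
  classical
  have : Fact q.Prime := ⟨hq⟩
  set Z := A ⊓ Subgroup.centralizer (A : Set G) with hZdef
  simp only [Cfsg.RankLE, Cfsg.PRankLE, not_forall, not_le] at hZ
  obtain ⟨p, hp, B', hB'c, hB'p, hB'3⟩ := hZ
  have : Fact p.Prime := ⟨hp⟩
  set B := B'.map Z.subtype with hBdef
  have hBZ : B ≤ Z := Subgroup.map_subtype_le _
  have hBc : ∀ a ∈ B, ∀ b ∈ B, Commute a b := by
    rintro _ ⟨a, ha, rfl⟩ _ ⟨b, hb, rfl⟩
    exact congrArg (fun z : B' => ((z : Z) : G)) (hB'c.is_comm.comm ⟨a, ha⟩ ⟨b, hb⟩)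
  have hBp : ∀ a ∈ B, a ^ p = 1 := by
    rintro _ ⟨a, ha, rfl⟩
    rw [← map_pow, hB'p a ha, map_one]
  have hBcard : p ^ 3 ≤ Nat.card B := by
    rw [hBdef, Subgroup.card_map_of_injective Z.subtype_injective]
    have hP : IsPGroup p B' := fun x => ⟨1, by rw [pow_one]; exact Subtype.ext (hB'p x x.2)⟩
    obtain ⟨n, hn⟩ := IsPGroup.iff_card.mp hP
    rw [hn] at hB'3 ⊢
    exact Nat.pow_le_pow_right hp.pos ((Nat.pow_lt_pow_iff_right hp.one_lt).mp hB'3)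
  intro Q₁ h₁ Q₂ h₂
  obtain ⟨hQ₁q, hQ₁A⟩ := Cfsg.Agent.OddLocal.mem_invSubgroups_singleton.mp h₁.1
  obtain ⟨hQ₂q, hQ₂A⟩ := Cfsg.Agent.OddLocal.mem_invSubgroups_singleton.mp h₂.1
  by_cases he : Q₁ = Q₂
  · refine ⟨1, one_mem _, ?_⟩
    rw [map_one, ← he]
    exact (Subgroup.map_id Q₁).symm
  have hne₁ : Q₁ ≠ ⊥ := fun e => he (h₁.2 Q₂ h₂.1 (e ▸ bot_le)).symm
  have hne₂ : Q₂ ≠ ⊥ := fun e => he (h₂.2 Q₁ h₁.1 (e ▸ bot_le))
  have hqp : q ≠ p := by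
    rintro rfl
    obtain ⟨n, hn⟩ := IsPGroup.iff_card.mp (show IsPGroup q B from fun x => ⟨1, by rw [pow_one]; exact Subtype.ext (hBp x x.2)⟩)
    have hn0 : n ≠ 0 := by
      intro h
      have : 1 < q ^ 3 := Nat.one_lt_pow (by norm_num) hq.one_lt
      rw [hn, h, pow_zero] at hBcard
      omega
    exact hqA ((hn ▸ dvd_pow_self q hn0).trans (Subgroup.card_dvd_of_le (hBZ.trans inf_le_left)))
  have hBn : ∀ b ∈ B, ∀ V : Subgroup G, A ≤ Subgroup.normalizer (V : Set G) → b ∈ Subgroup.normalizer (V : Set G) :=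
    fun b hb V hV => hV (hBZ hb).1
  obtain ⟨x, hx, y, hy, hy1, hxy, -⟩ := Cfsg.Agent.OddLocal.exists_pair_avoiding hBc hBp hBcard (one_mem B)
  obtain ⟨b₁, hb₁def, hb₁Q⟩ := Cfsg.Agent.OddLocal.exists_centralized_of_rank_two hqp hQ₁q hne₁ (hBc x hx y hy)
    (hBp x hx) (hBp y hy) (hBn x hx _ hQ₁A) (hBn y hy _ hQ₁A)
  have hb₁ : b₁ ∈ B ∧ b₁ ≠ 1 := by
    rcases hb₁def with rfl | ⟨j, -, rfl⟩
    · exact ⟨hy, hy1⟩
    · refine ⟨B.mul_mem hx (pow_mem hy j), fun h => ?_⟩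
      exact hxy (eq_inv_of_mul_eq_one_left h ▸ inv_mem (pow_mem (Subgroup.mem_zpowers y) j))
  set W := Q₁ ⊓ Subgroup.centralizer ({b₁} : Set G) with hW
  obtain ⟨c, hc, d, hd, hd1, hcd, hav⟩ := Cfsg.Agent.OddLocal.exists_pair_avoiding hBc hBp hBcard hb₁.1
  have hWn : ∀ e ∈ B, e ∈ Subgroup.normalizer (W : Set G) := by
    intro e he'
    rw [Subgroup.mem_normalizer_iff]
    intro n
    exact Subgroup.mem_inf.trans ((and_congr (Subgroup.mem_normalizer_iff.mp (hBn e he' _ hQ₁A) n)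
      (Subgroup.mem_normalizer_iff.mp (Subgroup.le_normalizer
        (Subgroup.mem_centralizer_singleton_iff.mpr (hBc e he' b₁ hb₁.1).eq)) n)).trans Subgroup.mem_inf.symm)
  obtain ⟨b₂, hb₂def, hb₂W⟩ := Cfsg.Agent.OddLocal.exists_centralized_of_rank_two hqp (hQ₁q.to_le inf_le_left) hb₁Q
    (hBc c hc d hd) (hBp c hc) (hBp d hd) (hWn c hc) (hWn d hd)
  have hb₂ : b₂ ∈ B ∧ b₂ ≠ 1 ∧ b₂ ∈ Subgroup.zpowers c ⊔ Subgroup.zpowers d := by
    rcases hb₂def with rfl | ⟨j, -, rfl⟩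
    · exact ⟨hd, hd1, Subgroup.mem_sup_right (Subgroup.mem_zpowers _)⟩
    · refine ⟨B.mul_mem hc (pow_mem hd j), fun h => ?_, mul_mem (Subgroup.mem_sup_left (Subgroup.mem_zpowers _))
        (Subgroup.mem_sup_right (pow_mem (Subgroup.mem_zpowers _) j))⟩
      exact hcd (eq_inv_of_mul_eq_one_left h ▸ inv_mem (pow_mem (Subgroup.mem_zpowers d) j))
  obtain ⟨b, hbdef, hbQ⟩ := Cfsg.Agent.OddLocal.exists_centralized_of_rank_two hqp hQ₂q hne₂
    (hBc b₁ hb₁.1 b₂ hb₂.1) (hBp b₁ hb₁.1) (hBp b₂ hb₂.1) (hBn b₁ hb₁.1 _ hQ₂A) (hBn b₂ hb₂.1 _ hQ₂A)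
  obtain ⟨v, hv, hv1⟩ := (Subgroup.bot_or_exists_ne_one _).resolve_left hb₂W
  have hvb₁ : Commute b₁ v := (Subgroup.mem_centralizer_singleton_iff.mp hv.1.2).symm
  have hvb₂ : Commute b₂ v := (Subgroup.mem_centralizer_singleton_iff.mp hv.2).symm
  have hb : b ∈ B ∧ b ≠ 1 ∧ Commute b v := by
    rcases hbdef with rfl | ⟨j, -, rfl⟩
    · exact ⟨hb₂.1, hb₂.2.1, hvb₂⟩
    · refine ⟨B.mul_mem hb₁.1 (pow_mem hb₂.1 j), fun h => ?_, hvb₁.mul_left (hvb₂.pow_left j)⟩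
      exact hav hb₁.2 (eq_inv_of_mul_eq_one_left h ▸ inv_mem (pow_mem hb₂.2.2 j))
  obtain ⟨hbB, hb1, hbv⟩ := hb
  refine Cfsg.Agent.OddLocal.conj_of_common hG hA hqA h₁ h₂ (H := Subgroup.centralizer ({b} : Set G))
    (Cfsg.Agent.OddLocal.centralizer_ne_top hG rfl hb1) (fun a ha => ?_) (fun e => hv1 ?_) ?_
  · exact Subgroup.mem_centralizer_singleton_iff.mpr (Subgroup.mem_centralizer_iff.mp (hBZ hbB).2 a ha)
  · rw [← Subgroup.mem_bot, ← e]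
    exact ⟨Subgroup.mem_centralizer_singleton_iff.mpr hbv.symm.eq, hv.1.1⟩
  · rw [inf_comm]; exact hbQ

end Cfsg.Agent.S1393
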