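import Cfsg.Statements.S1460
import Cfsg.Agent.Lib.Basics.CoprimeAction
import Mathlib.GroupTheory.Abelianization.Defs

set_option autoImplicit false
open Cfsg
open scoped Pointwise

namespace Cfsg.Agent.S1460

/-- Let G be a finite solvable group, K a normal subgroup and U a subgroup with G = KU, and H ≤ U a subgroup whose order is coprime to that of K. Then H ∩ G' = H ∩ U'; N_G(H) is generated by K ∩ C_G(H) and U ∩ N_G(H); and if gHg⁻¹ ≤ U for some g ∈ G then g = u c with u ∈ U and c ∈ K ∩ C_G(H). -/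
theorem result {G : Type*} [Group G] [Finite G] [Group.IsSolvable G] (K U H : Subgroup G) [K.Normal] (hKU : K ⊔ U = ⊤) (hH : H ≤ U) (hcop : (Nat.card H).Coprime (Nat.card K)) :
    H ⊓ commutator G = H ⊓ ⁅U, U⁆ ∧
      Subgroup.normalizer (H : Set G) = (K ⊓ Subgroup.centralizer (H : Set G)) ⊔ (U ⊓ Subgroup.normalizer (H : Set G)) ∧
      ∀ g : G, H.map (MulAut.conj g).toMonoidHom ≤ U → ∃ u ∈ U, ∃ c ∈ K ⊓ Subgroup.centralizer (H : Set G), g = u * c := by
  have hUK : U ≤ Subgroup.normalizer (K : Set G) := by rw [Subgroup.normalizer_eq_top]; exact le_top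
  have hdec : ∀ g : G, ∃ u ∈ U, ∃ k ∈ K, g = u * k := fun g =>
    (Cfsg.Agent.Basics.mem_sup_of_le_normalizer' hUK).mp (hKU ▸ Subgroup.mem_top g)
  have hHK : H ≤ Subgroup.normalizer (K : Set G) := hH.trans hUK
  have third : ∀ g : G, H.map (MulAut.conj g).toMonoidHom ≤ U →
      ∃ u ∈ U, ∃ c ∈ K ⊓ Subgroup.centralizer (H : Set G), g = u * c := by
    intro g hg
    obtain ⟨u, hu, k, hk, rfl⟩ := hdec g
    set H1 := MulAut.conj k • H with hH1
    have hH1U : H1 ≤ U := by
      intro y hy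
      rw [hH1, Cfsg.Agent.Basics.mem_conj_smul] at hy
      have h2 : u * y * u⁻¹ ∈ U := hg ⟨k⁻¹ * y * k, hy, by simp [mul_assoc]⟩
      have : u⁻¹ * (u * y * u⁻¹) * u ∈ U := U.mul_mem (U.mul_mem (U.inv_mem hu) h2) hu
      simpa [mul_assoc] using this
    have hle : H1 ≤ (K ⊓ U) ⊔ H := by
      intro y hy
      have hyU := hH1U hy
      rw [hH1, Cfsg.Agent.Basics.mem_conj_smul] at hy
      have hm : k * (k⁻¹ * y * k) * k⁻¹ ∈ K ⊔ H :=
        mul_mem (mul_mem (Subgroup.mem_sup_left hk) (Subgroup.mem_sup_right hy)) (Subgroup.mem_sup_left (inv_mem hk))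
      have e : k * (k⁻¹ * y * k) * k⁻¹ = y := by group
      rw [e] at hm
      obtain ⟨h, hh, n, hn, rfl⟩ := (Cfsg.Agent.Basics.mem_sup_of_le_normalizer' hHK).mp hm
      have hnU : n ∈ U := by simpa using U.mul_mem (U.inv_mem (hH hh)) hyU
      exact mul_mem (Subgroup.mem_sup_right hh) (Subgroup.mem_sup_left ⟨hn, hnU⟩)
    have hnorm : H ≤ Subgroup.normalizer ((K ⊓ U : Subgroup G) : Set G) := by
      intro h hh
      rw [Subgroup.mem_normalizer_iff]
      intro m
      exact Subgroup.mem_inf.trans ((and_congr (Subgroup.mem_normalizer_iff.mp (hHK hh) m)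
        (Subgroup.mem_normalizer_iff.mp (Subgroup.le_normalizer (hH hh)) m)).trans Subgroup.mem_inf.symm)
    obtain ⟨n, hn, hnH⟩ := Cfsg.Agent.Basics.exists_conj_eq_of_coprime (K ⊓ U) H H1 hnorm
      (hcop.symm.coprime_dvd_left (Subgroup.card_dvd_of_le inf_le_left)) hle (Cfsg.Agent.Basics.card_conj_smul k H)
      (Or.inl inferInstance)
    have hc : n⁻¹ * k ∈ Subgroup.centralizer (H : Set G) := by
      refine Cfsg.Agent.Basics.mem_centralizer_of_mem_normalizer' hHK hcop (K.mul_mem (K.inv_mem hn.1) hk) ?_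
      rw [← Cfsg.Agent.Basics.conj_smul_eq_self_iff, ← Cfsg.Agent.Basics.conj_smul_conj_smul]
      exact Cfsg.Agent.Basics.conj_smul_inv_eq hnH
    exact ⟨u * n, U.mul_mem hu hn.2, n⁻¹ * k, ⟨K.mul_mem (K.inv_mem hn.1) hk, hc⟩, by group⟩
  refine ⟨le_antisymm ?_ (inf_le_inf_left H ?_), le_antisymm ?_ (sup_le ?_ inf_le_right), third⟩
  · intro h hh
    refine ⟨hh.1, ?_⟩
    have hG : commutator G ≤ K ⊔ ⁅U, U⁆ := by
      intro x hx
      have htop : U.map (QuotientGroup.mk' K) = ⊤ := by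
        rw [← Subgroup.map_top_of_surjective _ (QuotientGroup.mk'_surjective K), ← hKU, Subgroup.map_sup,
          QuotientGroup.map_mk'_self, bot_sup_eq]
      have hmem : QuotientGroup.mk' K x ∈ (⁅U, U⁆).map (QuotientGroup.mk' K) := by
        rw [Subgroup.map_commutator, htop, ← Subgroup.map_top_of_surjective _ (QuotientGroup.mk'_surjective K),
          ← Subgroup.map_commutator]
        exact ⟨x, hx, rfl⟩
      rw [← Subgroup.mem_comap, Subgroup.comap_map_eq, QuotientGroup.ker_mk', sup_comm] at hmem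
      exact hmem
    have hU' : ⁅U, U⁆ ≤ U := Subgroup.commutator_le_self U
    obtain ⟨v, hv, k, hk, hvk⟩ :=
      (Cfsg.Agent.Basics.mem_sup_of_le_normalizer' (hU'.trans hUK)).mp (hG hh.2)
    have hkU : k ∈ U := by
      have : k = v⁻¹ * h := by rw [hvk]; group
      rw [this]; exact U.mul_mem (U.inv_mem (hU' hv)) (hH hh.1)
    set ab := Abelianization.of (G := U)
    have hvab : ab ⟨v, hU' hv⟩ = 1 := by
      rw [← MonoidHom.mem_ker, Abelianization.ker_of]
      have hmap : (commutator U).map U.subtype = ⁅U, U⁆ := U.map_subtype_commutator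
      rw [← hmap] at hv
      obtain ⟨w, hw, hwv⟩ := hv
      have : w = ⟨v, hU' (hmap ▸ ⟨w, hw, hwv⟩)⟩ := Subtype.ext hwv
      exact this ▸ hw
    have heq : ab ⟨h, hH hh.1⟩ = ab ⟨k, hkU⟩ := by
      rw [show (⟨h, hH hh.1⟩ : U) = ⟨v, hU' hv⟩ * ⟨k, hkU⟩ from Subtype.ext hvk, map_mul, hvab, one_mul]
    have h1 : ab ⟨h, hH hh.1⟩ ^ Nat.card H = 1 := by
      rw [← map_pow, show (⟨h, hH hh.1⟩ : U) ^ Nat.card H = 1 from
        Subtype.ext (show h ^ Nat.card H = 1 from congrArg Subtype.val (pow_card_eq_one' (G := H) (x := ⟨h, hh.1⟩))), map_one]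
    have h2 : ab ⟨h, hH hh.1⟩ ^ Nat.card K = 1 := by
      rw [heq, ← map_pow, show (⟨k, hkU⟩ : U) ^ Nat.card K = 1 from
        Subtype.ext (show k ^ Nat.card K = 1 from congrArg Subtype.val (pow_card_eq_one' (G := K) (x := ⟨k, hk⟩))), map_one]
    have h3 := pow_gcd_eq_one.mpr ⟨h1, h2⟩
    rw [hcop.gcd_eq_one, pow_one, ← MonoidHom.mem_ker, Abelianization.ker_of] at h3
    rw [← U.map_subtype_commutator]
    exact ⟨_, h3, rfl⟩
  · rw [commutator_def]; exact Subgroup.commutator_mono le_top le_top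
  · intro g hg
    obtain ⟨u, hu, c, hc, rfl⟩ := third g
      ((Subgroup.mem_normalizer_iff_map_conj_eq.mp hg).le.trans hH)
    have hu' : u ∈ Subgroup.normalizer (H : Set G) :=
      ((Subgroup.normalizer (H : Set G)).mul_mem_cancel_right (Subgroup.centralizer_le_normalizer (H : Set G) hc.2)).mp hg
    exact mul_mem (Subgroup.mem_sup_right ⟨hu, hu'⟩) (Subgroup.mem_sup_left hc)
  · exact inf_le_right.trans (Subgroup.centralizer_le_normalizer (H : Set G))

end Cfsg.Agent.S1460
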