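import Cfsg.Statements.S1395
import Cfsg.Agent.Lib.OddLocal.TransitivityPi
import Cfsg.Agent.S1460
-- import your own Cfsg.Agent.* helpers here

set_option autoImplicit false
open Cfsg
open scoped Pointwise

namespace Cfsg.Agent.S1395

/-- Let G be a minimal simple group of odd order, A a subgroup satisfying the transitivity hypothesis with K = O_{π(A)'}(C_G(A)), q a prime not dividing the order of A, and P a proper subgroup all of whose prime divisors divide the order of A, containing A as a subnormal subgroup, such that any two maximal A-invariant q-subgroups are conjugate under K. Then (a) K ∩ C_G(P) = O_{π(A)'}(C_G(P)); (b) any two maximal P-invariant q-subgroups are conjugate under O_{π(A)'}(C_G(P)); (c) every maximal P-invariant q-subgroup is a maximal A-invariant q-subgroup; (d) for every maximal P-invariant q-subgroup Q, P ∩ N_G(P)' ≤ N_G(Q)' and N_G(P) is generated by O_{π(A)'}(C_G(P)) and N_G(P) ∩ N_G(Q). -/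
theorem result {G : Type*} [Group G] [Finite G] (hG : Cfsg.IsMinSimpleOddOrder G)
    (A : Subgroup G) (hA : Cfsg.TransitivityHypothesis A) (q : ℕ) (hq : q.Prime) (hqA : ¬ q ∣ Nat.card A)
    (P : Subgroup G) (hP : P ≠ ⊤) (hPπ : (∀ r : ℕ, r.Prime → r ∣ Nat.card P → r ∣ Nat.card A)) (hAP : A ≤ P) (hsn : (A.subgroupOf P).IsSubnormal)
    (htr : ∀ Q₁ ∈ Cfsg.maxInvSubgroups ⊤ A {q}, ∀ Q₂ ∈ Cfsg.maxInvSubgroups ⊤ A {q}, ∃ k ∈ Cfsg.piCoreOf (Cfsg.primesNotDvd (Nat.card A)) (Subgroup.centralizer (A : Set G)), Q₂ = Q₁.map (MulAut.conj k).toMonoidHom) :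
    Cfsg.piCoreOf (Cfsg.primesNotDvd (Nat.card A)) (Subgroup.centralizer (A : Set G)) ⊓ Subgroup.centralizer (P : Set G) = Cfsg.piCoreOf (Cfsg.primesNotDvd (Nat.card A)) (Subgroup.centralizer (P : Set G)) ∧
      (∀ Q₁ ∈ Cfsg.maxInvSubgroups ⊤ P {q}, ∀ Q₂ ∈ Cfsg.maxInvSubgroups ⊤ P {q}, ∃ k ∈ Cfsg.piCoreOf (Cfsg.primesNotDvd (Nat.card A)) (Subgroup.centralizer (P : Set G)), Q₂ = Q₁.map (MulAut.conj k).toMonoidHom) ∧
      Cfsg.maxInvSubgroups ⊤ P {q} ⊆ Cfsg.maxInvSubgroups ⊤ A {q} ∧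
      ∀ Q ∈ Cfsg.maxInvSubgroups ⊤ P {q},
        P ⊓ ⁅Subgroup.normalizer (P : Set G), Subgroup.normalizer (P : Set G)⁆ ≤ ⁅Subgroup.normalizer (Q : Set G), Subgroup.normalizer (Q : Set G)⁆ ∧
        Subgroup.normalizer (P : Set G) = Cfsg.piCoreOf (Cfsg.primesNotDvd (Nat.card A)) (Subgroup.centralizer (P : Set G)) ⊔ (Subgroup.normalizer (P : Set G) ⊓ Subgroup.normalizer (Q : Set G)) := by
  have : Fact q.Prime := ⟨hq⟩
  set π' := Cfsg.primesNotDvd (Nat.card A) with hπ'
  set K := Cfsg.piCoreOf π' (Subgroup.centralizer (A : Set G)) with hK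
  have hAC : ∀ {B : Subgroup G}, A ≤ B → Subgroup.centralizer (B : Set G) ≤ Subgroup.centralizer (A : Set G) :=
    fun h => Subgroup.centralizer_le h
  have hPn : A ≤ P := hAP
  have hKB : ∀ B : Subgroup G, A ≤ B → K ⊓ Subgroup.centralizer (B : Set G) = Cfsg.piCoreOf π' (Subgroup.centralizer (B : Set G)) := by
    intro B hAB
    refine le_antisymm ?_ (le_inf ?_ (Cfsg.Agent.OddLocal.piCoreOf_le _ _))
    · refine Cfsg.Agent.OddLocal.le_piCoreOf inf_le_right (fun g hg => ?_)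
        (fun r hr hd => Cfsg.Agent.OddLocal.piCoreOf_primes π' _ hr (hd.trans (Subgroup.card_dvd_of_le inf_le_left)))
      rw [Subgroup.mem_normalizer_iff]
      intro n
      exact Subgroup.mem_inf.trans ((and_congr
        (Subgroup.mem_normalizer_iff.mp (Cfsg.Agent.OddLocal.le_normalizer_piCoreOf_self π' _ (hAC hAB hg)) n)
        (Subgroup.mem_normalizer_iff.mp (Subgroup.le_normalizer hg) n)).trans Subgroup.mem_inf.symm)
    · exact Cfsg.Agent.OddLocal.le_core_centralizer hG hA ((Cfsg.Agent.OddLocal.piCoreOf_le _ _).trans (hAC hAB))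
        (fun r hr hd => Cfsg.Agent.OddLocal.piCoreOf_primes π' _ hr hd)
  let Tr : Subgroup G → Prop := fun B => ∀ Q₁ ∈ Cfsg.maxInvSubgroups ⊤ B {q}, ∀ Q₂ ∈ Cfsg.maxInvSubgroups ⊤ B {q},
    ∃ k ∈ Cfsg.piCoreOf π' (Subgroup.centralizer (B : Set G)), Q₂ = Q₁.map (MulAut.conj k).toMonoidHom
  -- one step of the subnormal series
  have hstep : ∀ B C : Subgroup G, A ≤ B → B ≤ C → C ≤ P → C ≤ Subgroup.normalizer (B : Set G) → Tr B →
      Cfsg.maxInvSubgroups ⊤ C {q} ⊆ Cfsg.maxInvSubgroups ⊤ B {q} ∧ Tr C := by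
    intro B C hAB hBC hCP hCn hTr
    set X := Cfsg.maxInvSubgroups ⊤ B {q} with hX
    set KB := Cfsg.piCoreOf π' (Subgroup.centralizer (B : Set G)) with hKBdef
    have hCK : C ≤ Subgroup.normalizer (KB : Set G) := by
      refine le_trans (fun g hg => ?_) (Cfsg.Agent.OddLocal.normalizer_le_normalizer_piCoreOf π' _)
      rw [Subgroup.mem_normalizer_iff]
      intro n
      have hgB := Subgroup.mem_normalizer_iff.mp (hCn hg)
      constructor
      · intro hn
        rw [Subgroup.mem_centralizer_iff]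
        intro b hb
        have hb' : g⁻¹ * b * g ∈ B := (hgB _).mpr (by simpa [mul_assoc] using hb)
        have := Subgroup.mem_centralizer_iff.mp hn _ hb'
        calc b * (g * n * g⁻¹) = g * (g⁻¹ * b * g * n) * g⁻¹ := by group
          _ = g * (n * (g⁻¹ * b * g)) * g⁻¹ := by rw [this]
          _ = g * n * g⁻¹ * b := by group
      · intro hn
        rw [Subgroup.mem_centralizer_iff]
        intro b hb
        have := Subgroup.mem_centralizer_iff.mp hn _ ((hgB b).mp hb)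
        calc b * n = g⁻¹ * (g * b * g⁻¹ * (g * n * g⁻¹)) * g := by group
          _ = g⁻¹ * (g * n * g⁻¹ * (g * b * g⁻¹)) * g := by rw [this]
          _ = n * b := by group
    have hCπ : ∀ r : ℕ, r.Prime → r ∣ Nat.card C → r ∣ Nat.card A :=
      fun r hr hd => hPπ r hr (hd.trans (Subgroup.card_dvd_of_le hCP))
    have hcop : (Nat.card C).Coprime (Nat.card KB) :=
      Cfsg.Agent.OddLocal.coprime_of_primesNotDvd (fun r hr hd => Cfsg.Agent.OddLocal.piCoreOf_primes π' _ hr hd) hCπ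
    have hsolC : Group.IsSolvable C :=
      Cfsg.Agent.OddLocal.isSolvable_of_ne_top hG fun e => hP (top_le_iff.mp (e ▸ hCP))
    have hAX : ∀ c ∈ C, ∀ S ∈ X, MulAut.conj c • S ∈ X := by
      intro c hc S hS
      have hcB : B.map (MulAut.conj c).toMonoidHom = B := Subgroup.mem_normalizer_iff_map_conj_eq.mp (hCn hc)
      have hcB' : B.map (MulAut.conj c⁻¹).toMonoidHom = B :=
        Subgroup.mem_normalizer_iff_map_conj_eq.mp (inv_mem (hCn hc))
      obtain ⟨hSq, hSB⟩ := Cfsg.Agent.OddLocal.mem_invSubgroups_singleton.mp hS.1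
      change S.map (MulAut.conj c).toMonoidHom ∈ X
      refine ⟨Cfsg.Agent.OddLocal.mem_invSubgroups_singleton.mpr ⟨hSq.map _, ?_⟩, fun R hR hle => ?_⟩
      · exact (hcB.ge.trans (Subgroup.map_mono hSB)).trans (Subgroup.le_normalizer_map _)
      obtain ⟨hRq, hRB⟩ := Cfsg.Agent.OddLocal.mem_invSubgroups_singleton.mp hR
      have h := hS.2 (R.map (MulAut.conj c⁻¹).toMonoidHom) (Cfsg.Agent.OddLocal.mem_invSubgroups_singleton.mpr
        ⟨hRq.map _, (hcB'.ge.trans (Subgroup.map_mono hRB)).trans (Subgroup.le_normalizer_map _)⟩) (by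
          refine le_trans (le_of_eq ?_) (Subgroup.map_mono (f := (MulAut.conj c⁻¹).toMonoidHom) hle)
          rw [Cfsg.Agent.OddLocal.map_conj_map_conj, inv_mul_cancel, map_one]
          exact (Subgroup.map_id S).symm)
      rw [← h, Cfsg.Agent.OddLocal.map_conj_map_conj, mul_inv_cancel, map_one]
      exact (Subgroup.map_id R).symm
    have hKX : ∀ k ∈ KB, ∀ S ∈ X, MulAut.conj k • S ∈ X := fun k hk S hS =>
      Cfsg.Agent.OddLocal.map_conj_mem_maxInvSubgroups hS (Cfsg.Agent.OddLocal.piCoreOf_le _ _ hk)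
    obtain ⟨S₀, hS₀, -⟩ := Cfsg.Agent.OddLocal.exists_maxInv_ge (A := B) (q := q) (Y := ⊥) IsPGroup.of_bot
      (by rw [Subgroup.normalizer_eq_top]; exact le_top)
    obtain ⟨⟨S, hS, hCS⟩, hfix⟩ := Cfsg.Agent.Basics.glauberman_conj C KB hCK hcop (Or.inl hsolC) X ⟨S₀, hS₀⟩
      hAX hKX (fun S hS T hT => by
        obtain ⟨k, hk, e⟩ := hTr S hS T hT
        exact ⟨k, hk, e.symm⟩)
    have hsub : Cfsg.maxInvSubgroups ⊤ C {q} ⊆ X := by
      intro R hR
      obtain ⟨hRq, hRC⟩ := Cfsg.Agent.OddLocal.mem_invSubgroups_singleton.mp hR.1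
      by_cases hR1 : R = ⊥
      · have := hR.2 S (Cfsg.Agent.OddLocal.mem_invSubgroups_singleton.mpr
          ⟨(Cfsg.Agent.OddLocal.mem_invSubgroups_singleton.mp hS.1).1, hCS⟩) (hR1 ▸ bot_le)
        exact this ▸ hS
      obtain ⟨Q, hQ, hRQ⟩ := Cfsg.Agent.OddLocal.exists_maxInv_ge hRq (hBC.trans hRC)
      suffices R = Q from this ▸ hQ
      by_contra hne
      set H := Subgroup.normalizer (R : Set G) with hH
      set L := Cfsg.piCoreOf π' H with hL
      have hHne : H ≠ ⊤ := Cfsg.Agent.OddLocal.normalizer_ne_top hG hR1 (Cfsg.Agent.OddLocal.pGroup_ne_top hG hRq)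
      obtain ⟨hQq, hQB⟩ := Cfsg.Agent.OddLocal.mem_invSubgroups_singleton.mp hQ.1
      have hAH : A ≤ H := (hAB.trans hBC).trans hRC
      have hRL : R ≤ L := Cfsg.Agent.OddLocal.le_piCoreOf Subgroup.le_normalizer le_rfl
        (fun r hr hd => Cfsg.Agent.OddLocal.primes_of_isPGroup hqA hRq hr hd)
      have hQL : H ⊓ Q ≤ L := by
        refine Cfsg.Agent.OddLocal.inv_le_piCoreOf hA hHne hAH inf_le_left
          (fun r hr hd => Cfsg.Agent.OddLocal.primes_of_isPGroup hqA (hQq.to_le inf_le_right) hr hd) fun a ha => ?_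
        rw [Subgroup.mem_normalizer_iff]
        intro n
        exact Subgroup.mem_inf.trans ((and_congr (Subgroup.mem_normalizer_iff.mp
          (Subgroup.le_normalizer (hAH ha)) n) (Subgroup.mem_normalizer_iff.mp (hQB (hAB ha)) n)).trans
            Subgroup.mem_inf.symm)
      obtain ⟨S', hS', hRS', hCS'⟩ := Cfsg.Agent.Basics.exists_invariant_isSylowIn_ge C L
        (hRC.trans (Cfsg.Agent.OddLocal.le_normalizer_piCoreOf_self π' H))
        (Cfsg.Agent.OddLocal.coprime_of_primesNotDvd (fun r hr hd => Cfsg.Agent.OddLocal.piCoreOf_primes π' _ hr hd) hCπ)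
        (Or.inl hsolC) q R hRL hRq hRC
      have hSR : S' = R := hR.2 S' (Cfsg.Agent.OddLocal.mem_invSubgroups_singleton.mpr ⟨hS'.isPGroup, hCS'⟩) hRS'
      have hlt := Cfsg.Agent.OddLocal.lt_inf_normalizer_of_lt hQq (lt_of_le_of_ne hRQ hne)
      rw [inf_comm, ← hH] at hlt
      obtain ⟨m, hm⟩ := IsPGroup.iff_card.mp (hQq.to_le (inf_le_right : H ⊓ Q ≤ Q))
      have hle : m ≤ (Nat.card L).factorization q :=
        (hq.pow_dvd_iff_le_factorization Nat.card_pos.ne').mp (hm ▸ Subgroup.card_dvd_of_le hQL)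
      have := Cfsg.Agent.Basics.card_lt_of_lt hlt
      rw [← hSR, hS'.2, hm] at this
      exact absurd this (not_lt.mpr (Nat.pow_le_pow_right hq.pos hle))
    refine ⟨hsub, fun Q₁ h₁ Q₂ h₂ => ?_⟩
    obtain ⟨c, hc, e⟩ := hfix Q₁ (hsub h₁) Q₂ (hsub h₂) (Cfsg.Agent.OddLocal.mem_invSubgroups_singleton.mp h₁.1).2
      (Cfsg.Agent.OddLocal.mem_invSubgroups_singleton.mp h₂.1).2
    refine ⟨c, ?_, e.symm⟩
    rw [← hKB C (hAB.trans hBC)]
    exact ⟨(inf_le_left : K ⊓ Subgroup.centralizer (B : Set G) ≤ K) ((hKB B hAB).symm ▸ hc.1), hc.2⟩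
  have key : ∀ H : Subgroup P, H.IsSubnormal → A ≤ H.map P.subtype → Tr (H.map P.subtype) →
      Cfsg.maxInvSubgroups ⊤ P {q} ⊆ Cfsg.maxInvSubgroups ⊤ (H.map P.subtype) {q} ∧ Tr P := by
    intro H hH
    induction hH with
    | top =>
      rw [← MonoidHom.range_eq_map, Subgroup.range_subtype]
      exact fun _ h => ⟨subset_rfl, h⟩
    | step H L hle hsub hN ih =>
      intro hAH hTr
      have hLn : L.map P.subtype ≤ Subgroup.normalizer (H.map P.subtype : Set G) :=
        (Subgroup.map_mono ((Subgroup.normal_subgroupOf_iff_le_normalizer hle).mp hN)).trans (Subgroup.le_normalizer_map _)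
      obtain ⟨h1, h2⟩ := hstep _ _ hAH (Subgroup.map_mono hle) (Subgroup.map_subtype_le _) hLn hTr
      obtain ⟨h3, h4⟩ := ih (hAH.trans (Subgroup.map_mono hle)) h2
      exact ⟨h3.trans h1, h4⟩
  have hmapA : (A.subgroupOf P).map P.subtype = A := Subgroup.map_subgroupOf_eq_of_le hAP
  obtain ⟨hsubP, hTrP⟩ := key _ hsn (le_of_eq hmapA.symm) (hmapA.symm ▸ htr)
  rw [hmapA] at hsubP
  refine ⟨hKB P hAP, hTrP, hsubP, fun Q hQ => ?_⟩
  set W := Cfsg.piCoreOf π' (Subgroup.centralizer (P : Set G)) with hW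
  set N := Subgroup.normalizer (P : Set G) with hN
  obtain ⟨hQq, hQP⟩ := Cfsg.Agent.OddLocal.mem_invSubgroups_singleton.mp hQ.1
  have hWC : W ≤ Subgroup.centralizer (P : Set G) := Cfsg.Agent.OddLocal.piCoreOf_le _ _
  have hWN : W ≤ N := hWC.trans (Subgroup.centralizer_le_normalizer (P : Set G))
  have hNW : N ≤ Subgroup.normalizer (W : Set G) := by
    refine le_trans (fun g hg => ?_) (Cfsg.Agent.OddLocal.normalizer_le_normalizer_piCoreOf π' _)
    have hgP := Subgroup.mem_normalizer_iff.mp hg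
    rw [Subgroup.mem_normalizer_iff]
    intro n
    rw [Subgroup.mem_centralizer_iff, Subgroup.mem_centralizer_iff]
    constructor
    · intro h b hb
      have := h _ ((hgP (g⁻¹ * b * g)).mpr (by simpa [mul_assoc] using hb))
      calc b * (g * n * g⁻¹) = g * (g⁻¹ * b * g * n) * g⁻¹ := by group
        _ = g * (n * (g⁻¹ * b * g)) * g⁻¹ := by rw [this]
        _ = g * n * g⁻¹ * b := by group
    · intro h b hb
      have := h _ ((hgP b).mp hb)
      calc b * n = g⁻¹ * (g * b * g⁻¹ * (g * n * g⁻¹)) * g := by group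
        _ = g⁻¹ * (g * n * g⁻¹ * (g * b * g⁻¹)) * g := by rw [this]
        _ = n * b := by group
  have hsupeq : N = W ⊔ (N ⊓ Subgroup.normalizer (Q : Set G)) := by
    refine le_antisymm (fun g hg => ?_) (sup_le hWN inf_le_left)
    have hgP : P.map (MulAut.conj g).toMonoidHom = P := Subgroup.mem_normalizer_iff_map_conj_eq.mp hg
    have hgP' : P.map (MulAut.conj g⁻¹).toMonoidHom = P := Subgroup.mem_normalizer_iff_map_conj_eq.mp (inv_mem hg)
    have hmem : Q.map (MulAut.conj g).toMonoidHom ∈ Cfsg.maxInvSubgroups ⊤ P {q} := by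
      refine ⟨Cfsg.Agent.OddLocal.mem_invSubgroups_singleton.mpr ⟨hQq.map _, ?_⟩, fun R hR hle => ?_⟩
      · exact (hgP.ge.trans (Subgroup.map_mono hQP)).trans (Subgroup.le_normalizer_map _)
      obtain ⟨hRq, hRB⟩ := Cfsg.Agent.OddLocal.mem_invSubgroups_singleton.mp hR
      have h := hQ.2 (R.map (MulAut.conj g⁻¹).toMonoidHom) (Cfsg.Agent.OddLocal.mem_invSubgroups_singleton.mpr
        ⟨hRq.map _, (hgP'.ge.trans (Subgroup.map_mono hRB)).trans (Subgroup.le_normalizer_map _)⟩) (by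
          refine le_trans (le_of_eq ?_) (Subgroup.map_mono (f := (MulAut.conj g⁻¹).toMonoidHom) hle)
          rw [Cfsg.Agent.OddLocal.map_conj_map_conj, inv_mul_cancel, map_one]
          exact (Subgroup.map_id Q).symm)
      rw [← h, Cfsg.Agent.OddLocal.map_conj_map_conj, mul_inv_cancel, map_one]
      exact (Subgroup.map_id R).symm
    obtain ⟨k, hk, e⟩ := hTrP Q hQ _ hmem
    have h2 : k⁻¹ * g ∈ N ⊓ Subgroup.normalizer (Q : Set G) := by
      refine ⟨N.mul_mem (N.inv_mem (hWN hk)) hg, ?_⟩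
      change k⁻¹ * g ∈ Subgroup.normalizer (Q : Set G)
      rw [Subgroup.mem_normalizer_iff_map_conj_eq]
      change Q.map (MulAut.conj (k⁻¹ * g)).toMonoidHom = Q
      rw [← Cfsg.Agent.OddLocal.map_conj_map_conj, e, Cfsg.Agent.OddLocal.map_conj_map_conj, inv_mul_cancel, map_one]
      exact Subgroup.map_id Q
    have : g = k * (k⁻¹ * g) := by group
    rw [this]
    exact mul_mem (Subgroup.mem_sup_left hk) (Subgroup.mem_sup_right h2)
  refine ⟨?_, hsupeq⟩
  -- focal part, inside the solvable group `N`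
  set U := N ⊓ Subgroup.normalizer (Q : Set G) with hU
  have hPU : P ≤ U := le_inf Subgroup.le_normalizer hQP
  have hP1 : P ≠ ⊥ := fun e => hA.1 (le_bot_iff.mp (e ▸ hAP))
  have hNsol : Group.IsSolvable N :=
    Cfsg.Agent.OddLocal.isSolvable_of_ne_top hG (Cfsg.Agent.OddLocal.normalizer_ne_top hG hP1 hP)
  have : (W.subgroupOf N).Normal := (Subgroup.normal_subgroupOf_iff_le_normalizer hWN).mpr hNW
  have hfoc := (Cfsg.Agent.S1460.result (G := N) (W.subgroupOf N) (U.subgroupOf N) (P.subgroupOf N)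
    (by rw [← Subgroup.subgroupOf_sup hWN inf_le_left, ← hsupeq, Subgroup.subgroupOf_self])
    (Subgroup.comap_mono hPU) (by
      rw [Nat.card_congr (Subgroup.subgroupOfEquivOfLe (Subgroup.le_normalizer (H := P))).toEquiv,
        Nat.card_congr (Subgroup.subgroupOfEquivOfLe hWN).toEquiv]
      exact Cfsg.Agent.OddLocal.coprime_of_primesNotDvd
        (fun r hr hd => Cfsg.Agent.OddLocal.piCoreOf_primes π' _ hr hd) hPπ)).1
  intro x hx
  have hx2 : x ∈ (commutator N).map N.subtype := by rw [Subgroup.map_subtype_commutator]; exact hx.2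
  obtain ⟨y, hy, rfl⟩ := hx2
  have hy' : y ∈ P.subgroupOf N ⊓ commutator N := ⟨hx.1, hy⟩
  rw [hfoc] at hy'
  have hy2 : N.subtype y ∈ ⁅(U.subgroupOf N).map N.subtype, (U.subgroupOf N).map N.subtype⁆ := by
    rw [← Subgroup.map_commutator]; exact ⟨y, hy'.2, rfl⟩
  rw [Subgroup.map_subgroupOf_eq_of_le (inf_le_left : U ≤ N)] at hy2
  exact Subgroup.commutator_mono inf_le_right inf_le_right hy2

end Cfsg.Agent.S1395
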