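import Cfsg.Statements.S1312
import Cfsg.Agent.Lib.Components.Unbalanced
import Cfsg.Agent.Lib.Transfer.Hall
import Cfsg.Agent.Lib.OddLocal.FitFacts
import Cfsg.Agent.Lib.LocalEvenA.Core

set_option autoImplicit false
open Cfsg

namespace Cfsg.Agent.S1312

open Subgroup
open scoped commutatorElement

variable {G : Type*} [Group G] [Finite G]

/-- The image of a normal subgroup of `M` is normalized by `M`. -/
theorem le_normalizer_map' (M : Subgroup G) (N : Subgroup ↥M) [N.Normal] :
    M ≤ normalizer (N.map M.subtype : Set G) := fun g hg =>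
  le_normalizer_map M.subtype ⟨⟨g, hg⟩, le_normalizer_of_normal (mem_top _), rfl⟩

/-- A maximal subgroup is the normalizer of any nontrivial normal subgroup of it. -/
theorem normalizer_le_of_coatom [IsSimpleGroup G] {M X : Subgroup G} (hM : IsCoatom M) (hXM : X ≤ M)
    (hn : M ≤ normalizer (X : Set G)) (hX : X ≠ ⊥) : normalizer (X : Set G) ≤ M := by
  rcases eq_or_lt_of_le hn with h | h
  · exact h.ge
  · exfalso
    have htop := hM.2 _ h
    haveI : X.Normal := normalizer_eq_top_iff.mp htop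
    rcases Subgroup.Normal.eq_bot_or_eq_top (inferInstance : X.Normal) with h' | h'
    · exact hX h'
    · exact hM.1 (top_le_iff.mp (h' ▸ hXM))

theorem layer_le_of_cross {M N : Subgroup G}
    (h1 : (Cfsg.generalizedFittingSubgroup ↥M).map M.subtype ≤ N)
    (h2 : (Cfsg.generalizedFittingSubgroup ↥N).map N.subtype ≤ M) :
    (Cfsg.layer ↥M).map M.subtype ≤ (Cfsg.layer ↥N).map N.subtype := by
  rw [map_le_iff_le_comap, Components.layer_le_iff]
  intro L hL
  rw [← map_le_iff_le_comap]
  set La := L.map M.subtype with hLa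
  have hLN : La ≤ N := le_trans (Subgroup.map_mono ((Components.component_le_layer hL).trans
    (by rw [Cfsg.generalizedFittingSubgroup]; exact le_sup_left))) h1
  have hq : Cfsg.IsQuasisimple ↥La := (Components.isQuasisimple_map_injective M.subtype M.subtype_injective).mpr hL.2
  have hLF : ⁅La, (Cfsg.fittingSubgroup ↥N).map N.subtype⁆ = ⊥ := by
    set F := (Cfsg.fittingSubgroup ↥N).map N.subtype with hF
    have hFM : F ≤ M := le_trans (Subgroup.map_mono
      (by rw [Cfsg.generalizedFittingSubgroup]; exact le_sup_right)) h2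
    have hLn : La ≤ normalizer (F : Set G) := hLN.trans (le_normalizer_map' N _)
    haveI := Components.map_nilpotent (Components.fitting_isNilpotent (G := ↥N)) N.subtype
    haveI : Group.IsNilpotent ↥(F.subgroupOf M) :=
      Group.nilpotent_of_surjective (Subgroup.subgroupOfEquivOfLe hFM).symm.toMonoidHom (Subgroup.subgroupOfEquivOfLe hFM).symm.surjective
    have h := Components.component_commute_solvable hL (H := F.subgroupOf M) inferInstance (fun x hx => by
      rw [subgroupOf, ← Subgroup.comap_normalizer_eq_of_le_range (f := M.subtype) (H := F) (by rwa [range_subtype])]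
      exact hLn (mem_map_of_mem _ hx))
    rw [hLa, ← map_subgroupOf_eq_of_le hFM, ← map_commutator, h, Subgroup.map_bot]
  by_cases hK : ∃ K : Subgroup ↥N, Cfsg.IsComponent K ∧ K.map N.subtype = La
  · obtain ⟨K, hKc, hKe⟩ := hK
    rw [← hKe]
    exact Subgroup.map_mono (Components.component_le_layer hKc)
  exfalso
  push Not at hK
  set L' := La.subgroupOf N with hL'
  have hmapL : L'.map N.subtype = La := map_subgroupOf_eq_of_le hLN
  have hcent : L' ≤ centralizer (Cfsg.generalizedFittingSubgroup ↥N : Set ↥N) := by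
    rw [le_centralizer_iff, Cfsg.generalizedFittingSubgroup]
    refine sup_le ?_ ?_
    · rw [Components.layer_le_iff]
      intro K hKc
      set Ka := K.map N.subtype with hKa
      have hKM : Ka ≤ M := le_trans (Subgroup.map_mono ((Components.component_le_layer hKc).trans
        (by rw [Cfsg.generalizedFittingSubgroup]; exact le_sup_left))) h2
      set H := M ⊓ N with hH
      have hLH : La ≤ H := le_inf (map_subtype_le _) hLN
      have hKH : Ka ≤ H := le_inf hKM (map_subtype_le _)
      have tr : ∀ (P : Subgroup G) (hHP : H ≤ P) (J : Subgroup ↥P), Cfsg.IsComponent J →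
          J.map P.subtype ≤ H → Cfsg.IsComponent ((J.map P.subtype).subgroupOf H) := by
        intro P hHP J hJ hle
        refine ⟨?_, Components.qs_of_equiv
          ((Components.isQuasisimple_map_injective P.subtype P.subtype_injective).mpr hJ.2)
          (subgroupOfEquivOfLe hle).symm⟩
        have e : (J.map P.subtype).subgroupOf H = J.comap (inclusion hHP) := by
          ext x
          rw [mem_subgroupOf, mem_comap]
          constructor
          · rintro ⟨j, hj, hje⟩
            exact (show inclusion hHP x = j from Subtype.ext hje.symm) ▸ hj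
          · intro hx
            exact ⟨_, hx, rfl⟩
        rw [e]
        exact hJ.1.comap _
      rcases Components.component_eq_or_commute (tr M inf_le_left L hL hLH)
          (tr N inf_le_right K hKc hKH) with h | h
      · exact absurd (by
          have := congrArg (Subgroup.map H.subtype) h
          rwa [map_subgroupOf_eq_of_le hLH, map_subgroupOf_eq_of_le hKH, eq_comm] at this) (hK K hKc)
      · have h' : ⁅La, Ka⁆ = ⊥ := by
          rw [← map_subgroupOf_eq_of_le hLH, ← map_subgroupOf_eq_of_le hKH, ← map_commutator, h, Subgroup.map_bot]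
        rw [← hmapL, hKa, ← map_commutator, Subgroup.map_eq_bot_iff_of_injective _ N.subtype_injective,
          commutator_eq_bot_iff_le_centralizer, le_centralizer_iff] at h'
        exact h'
    · rw [← hmapL, ← map_commutator, Subgroup.map_eq_bot_iff_of_injective _ N.subtype_injective,
        commutator_eq_bot_iff_le_centralizer, le_centralizer_iff] at hLF
      exact hLF
  have h3 : ⁅L', L'⁆ = ⊥ := eq_bot_iff.mpr ((commutator_mono le_rfl (hcent.trans Components.centralizer_fStar_le)).trans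
    (commutator_eq_bot_iff_le_centralizer.mpr hcent).le)
  refine Components.isQuasisimple_ne_bot hq ?_
  rw [← Components.isQuasisimple_commutator_eq_self hq, ← hmapL, ← map_commutator, h3, Subgroup.map_bot]

theorem layer_eq_bot_of_cross [IsSimpleGroup G] {M N : Subgroup G} (hM : IsCoatom M)
    (hN : IsCoatom N) (hMN : M ≠ N)
    (h1 : (Cfsg.generalizedFittingSubgroup ↥M).map M.subtype ≤ N)
    (h2 : (Cfsg.generalizedFittingSubgroup ↥N).map N.subtype ≤ M) :
    Cfsg.layer ↥M = ⊥ := by
  set X := (Cfsg.layer ↥M).map M.subtype with hX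
  have he : X = (Cfsg.layer ↥N).map N.subtype :=
    le_antisymm (layer_le_of_cross h1 h2) (layer_le_of_cross h2 h1)
  by_contra hne
  have hne' : X ≠ ⊥ := fun h => hne ((Subgroup.map_eq_bot_iff_of_injective _ M.subtype_injective).mp h)
  have h3 := normalizer_le_of_coatom hM (map_subtype_le _) (le_normalizer_map' M _) hne'
  have hNn : N ≤ normalizer (X : Set G) := he ▸ le_normalizer_map' N _
  exact hMN (((hN.le_iff.mp (hNn.trans h3)).resolve_left hM.1))

/-- Data attached to a maximal subgroup. -/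
theorem fitting_split (r : ℕ) [Fact r.Prime] (M : Subgroup G) {x : G}
    (hx : x ∈ (Cfsg.fittingSubgroup ↥M).map M.subtype) :
    ∃ a ∈ (Cfsg.pCore r ↥M).map M.subtype, ∃ b ∈ (Cfsg.fittingSubgroup ↥M).map M.subtype,
      (orderOf b).Coprime r ∧ a * b = x ∧ Commute a b := by
  obtain ⟨y, hy, rfl⟩ := hx
  obtain ⟨a, b, hab, ⟨k, hk⟩, hb, ha', hb'⟩ := LocalEvenA.exists_pPart (p := r) (isOfFinOrder_of_finite y)
  have haF := (zpowers_le.mpr hy) ha'
  have hbF := (zpowers_le.mpr hy) hb'
  have hc : Commute a b := by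
    obtain ⟨i, rfl⟩ := mem_zpowers_iff.mp ha'
    obtain ⟨j, rfl⟩ := mem_zpowers_iff.mp hb'
    exact Commute.zpow_zpow (Commute.refl y) i j
  refine ⟨a, mem_map_of_mem _ ?_, b, mem_map_of_mem _ hbF, by rwa [orderOf_coe], ?_, hc.map M.subtype⟩
  · set F := Cfsg.fittingSubgroup ↥M
    haveI : Group.IsNilpotent ↥F := Components.fitting_isNilpotent
    set S := (zpowers (⟨a, haF⟩ : ↥F)).map F.subtype with hS
    have hsn : S.IsSubnormal := (Components.isSubnormal_map_subtype_iff
      (Components.isSubnormal_of_normal F) _).mpr (OddLocal.isSubnormal_of_isNilpotent _)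
    have hp : IsPGroup r S := by
      refine IsPGroup.map ?_ _
      intro z
      obtain ⟨i, hi⟩ := mem_zpowers_iff.mp z.2
      refine ⟨k, Subtype.ext (Subtype.ext ?_)⟩
      rw [SubmonoidClass.coe_pow, ← hi, SubmonoidClass.coe_pow, SubgroupClass.coe_zpow, ← zpow_natCast,
        ← zpow_mul, mul_comm, zpow_mul, zpow_natCast, hk, one_zpow]
      rfl
    exact LocalEvenA.subnormal_le_pCore hsn hp ⟨_, mem_zpowers _, rfl⟩
  · exact congrArg Subtype.val hab

theorem fitting_commute {r : ℕ} [Fact r.Prime] {M : Subgroup G} {a b : G}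
    (ha : a ∈ (Cfsg.pCore r ↥M).map M.subtype) (hb : b ∈ (Cfsg.fittingSubgroup ↥M).map M.subtype)
    (hbo : (orderOf b).Coprime r) : Commute a b := by
  obtain ⟨a, ha', rfl⟩ := ha
  obtain ⟨b, hb', rfl⟩ := hb
  haveI : Group.IsNilpotent ↥(Cfsg.fittingSubgroup ↥M) := Components.fitting_isNilpotent
  obtain ⟨k, hk⟩ := Basics.pCore_isPGroup r ⟨a, ha'⟩
  have hk' : a ^ r ^ k = 1 := congrArg Subtype.val hk
  have h : Commute (⟨a, Components.pCore_le_fitting ha'⟩ : ↥(Cfsg.fittingSubgroup ↥M)) ⟨b, hb'⟩ := by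
    refine Transfer.commute_of_coprime_of_nilpotent ?_
    rw [← orderOf_coe, ← orderOf_coe ⟨b, hb'⟩]
    refine Nat.Coprime.coprime_dvd_left (orderOf_dvd_of_pow_eq_one hk') ?_
    rw [coe_subtype, orderOf_coe] at hbo
    exact (Nat.Coprime.pow_right k hbo).symm
  exact (h.map (Cfsg.fittingSubgroup ↥M).subtype).map M.subtype

theorem rElt_mem_pCore {r : ℕ} [Fact r.Prime] {M : Subgroup G} {a : G}
    (ha : a ∈ (Cfsg.fittingSubgroup ↥M).map M.subtype) {k : ℕ} (hk : a ^ r ^ k = 1) :
    a ∈ (Cfsg.pCore r ↥M).map M.subtype := by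
  obtain ⟨x, hx, y, hy, hyo, hxy, hc⟩ := fitting_split r M ha
  obtain ⟨x', hx', rfl⟩ := hx
  obtain ⟨j, hj⟩ := Basics.pCore_isPGroup r ⟨x', hx'⟩
  have hj' : (M.subtype x') ^ r ^ j = 1 := by
    rw [← map_pow, show x' ^ r ^ j = 1 from congrArg Subtype.val hj, map_one]
  have hy1 : y ^ r ^ (k + j) = 1 := by
    have := congrArg (· ^ r ^ (k + j)) hxy
    simp only [hc.mul_pow] at this
    rw [pow_add, pow_mul a, hk, one_pow, mul_comm (r ^ k), pow_mul (M.subtype x'), hj', one_pow,
      one_mul] at this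
    rwa [pow_add, mul_comm]
  have : y = 1 := Components.eq_one_of_pow_prime_pow_of_coprime hyo hy1 (pow_orderOf_eq_one y)
  rw [← hxy, this, mul_one]
  exact mem_map_of_mem _ hx'

/-- Elements of `O_r(M)` and elements of order prime to `r` of `F(N)` commute. -/
theorem cross_commute {r : ℕ} [Fact r.Prime] {M N : Subgroup G}
    (hMN : (Cfsg.fittingSubgroup ↥M).map M.subtype ≤ N) (hNM : (Cfsg.fittingSubgroup ↥N).map N.subtype ≤ M)
    {f w : G} (hf : f ∈ (Cfsg.pCore r ↥M).map M.subtype)
    (hw : w ∈ (Cfsg.fittingSubgroup ↥N).map N.subtype) (hwo : (orderOf w).Coprime r) : Commute f w := by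
  set R := (Cfsg.pCore r ↥M).map M.subtype with hR
  set F := (Cfsg.fittingSubgroup ↥N).map N.subtype with hF
  have hfN : f ∈ N := hMN (Subgroup.map_mono Components.pCore_le_fitting hf)
  set c := ⁅f, w⁆ with hc
  have hcR : c ∈ R := by
    have h1 := (mem_normalizer_iff.mp (le_normalizer_map' M (Cfsg.pCore r ↥M) (hNM hw)) _).mp (R.inv_mem hf)
    have := R.mul_mem hf h1
    simpa [hc, commutatorElement_def, mul_assoc] using this
  have hcF : c ∈ F := by
    have h1 := (mem_normalizer_iff.mp (le_normalizer_map' N (Cfsg.fittingSubgroup ↥N) hfN) _).mp hw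
    have := F.mul_mem h1 (F.inv_mem hw)
    simpa [hc, commutatorElement_def, mul_assoc] using this
  obtain ⟨c', hc', hce⟩ := id hcR
  obtain ⟨j, hj⟩ := Basics.pCore_isPGroup r ⟨c', hc'⟩
  have hcj : c ^ r ^ j = 1 := by
    rw [← hce, ← map_pow, show c' ^ r ^ j = 1 from congrArg Subtype.val hj, map_one]
  have hcw : Commute c w := fitting_commute (rElt_mem_pCore hcF hcj) hw hwo
  have h2 : c * w = f * w * f⁻¹ := by rw [hc, commutatorElement_def]; group
  have h3 : c ^ orderOf w = 1 := by
    have := congrArg (· ^ orderOf w) h2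
    simp only [hcw.mul_pow, conj_pow, pow_orderOf_eq_one, mul_one, mul_inv_cancel] at this
    exact this
  exact commutatorElement_eq_one_iff_commute.mp
    (Components.eq_one_of_pow_prime_pow_of_coprime hwo hcj h3)

theorem r'_centralizer_eq [IsSimpleGroup G] {r : ℕ} [Fact r.Prime] {M N : Subgroup G}
    (hN : IsCoatom N) (hEN : Cfsg.layer ↥N = ⊥)
    (hMN : (Cfsg.fittingSubgroup ↥M).map M.subtype ≤ N) (hNM : (Cfsg.fittingSubgroup ↥N).map N.subtype ≤ M)
    (hRN : (Cfsg.pCore r ↥N).map N.subtype ≠ ⊥) {y : G} (hyo : (orderOf y).Coprime r)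
    (hy : y ∈ centralizer ((Cfsg.pCore r ↥N).map N.subtype : Set G)) :
    y ∈ centralizer ((Cfsg.pCore r ↥M).map M.subtype : Set G) := by
  set R := (Cfsg.pCore r ↥N).map N.subtype with hR
  have hNn := normalizer_le_of_coatom hN (map_subtype_le _) (le_normalizer_map' N (Cfsg.pCore r ↥N)) hRN
  have hyN : y ∈ N := hNn (centralizer_le_normalizer _ hy)
  rw [mem_centralizer_iff]
  intro x hx
  set W := (Cfsg.fittingSubgroup ↥N).map N.subtype with hW
  have hxN : x ∈ N := hMN (Subgroup.map_mono Components.pCore_le_fitting hx)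
  set c := x * y * x⁻¹ * y⁻¹ with hc
  have hxW : ∀ w ∈ W, (orderOf w).Coprime r → Commute x w := fun w hw hwo => cross_commute hMN hNM hx hw hwo
  have hcR : c ∈ centralizer (R : Set G) := by
    have h1 : x * y * x⁻¹ ∈ centralizer (R : Set G) :=
      (mem_normalizer_iff.mp (normalizer_le_normalizer_centralizer_aux R
        (le_normalizer_map' N (Cfsg.pCore r ↥N) hxN)) y).mp hy
    exact (centralizer (R : Set G)).mul_mem h1 ((centralizer (R : Set G)).inv_mem hy)
  have hcW : ∀ w ∈ W, Commute w c := by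
    intro w hw
    obtain ⟨a, ha, b, hb, hbo, rfl, hab⟩ := fitting_split r N hw
    refine Commute.mul_left (mem_centralizer_iff.mp hcR a ha) ?_
    set b' := y⁻¹ * b * y with hb'
    have hb'W : b' ∈ W := by
      have := (mem_normalizer_iff.mp (le_normalizer_map' N (Cfsg.fittingSubgroup ↥N) (N.inv_mem hyN)) _).mp hb
      rw [hb', show y⁻¹ * b * y = y⁻¹ * b * (y⁻¹)⁻¹ by group]
      exact this
    have hb'o : (orderOf b').Coprime r := by
      rw [hb', show y⁻¹ * b * y = MulAut.conj y⁻¹ b by simp, MulEquiv.orderOf_eq]; exact hbo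
    have e1 : x * b' = b' * x := (hxW b' hb'W hb'o).eq
    have e2 : x * b = b * x := (hxW b hb hbo).eq
    have e3 : y * x⁻¹ * y⁻¹ * b = b * (y * x⁻¹ * y⁻¹) := by
      calc y * x⁻¹ * y⁻¹ * b = y * x⁻¹ * (b' * x) * x⁻¹ * y⁻¹ := by rw [hb']; group
        _ = y * x⁻¹ * (x * b') * x⁻¹ * y⁻¹ := by rw [e1]
        _ = b * (y * x⁻¹ * y⁻¹) := by rw [hb']; group
    show b * c = c * b
    calc b * c = (b * x) * (y * x⁻¹ * y⁻¹) := by rw [hc]; group
      _ = x * (b * (y * x⁻¹ * y⁻¹)) := by rw [← e2]; group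
      _ = x * (y * x⁻¹ * y⁻¹ * b) := by rw [e3]
      _ = c * b := by rw [hc]; group
  have hcN : c ∈ N := mul_mem (mul_mem (mul_mem hxN hyN) (inv_mem hxN)) (inv_mem hyN)
  have hcF : c ∈ W := by
    refine ⟨⟨c, hcN⟩, ?_, rfl⟩
    have h := Components.centralizer_fStar_le (G := ↥N) (show (⟨c, hcN⟩ : ↥N) ∈ centralizer
      (Cfsg.generalizedFittingSubgroup ↥N : Set ↥N) from mem_centralizer_iff.mpr fun w hw => by
        rw [SetLike.mem_coe, Cfsg.generalizedFittingSubgroup, hEN, bot_sup_eq] at hw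
        exact Subtype.ext (hcW _ (mem_map_of_mem N.subtype hw)).eq)
    rwa [Cfsg.generalizedFittingSubgroup, hEN, bot_sup_eq] at h
  obtain ⟨z, hz, w, hw, hwo, hzw, hzwc⟩ := fitting_split r N hcF
  have hxw : Commute x w := hxW w hw hwo
  -- the `r'`-part is trivial
  obtain ⟨x', hx', hxe⟩ := id hx
  obtain ⟨jx, hjx'⟩ := Basics.pCore_isPGroup r ⟨x', hx'⟩
  have hjx : x ^ r ^ jx = 1 := by
    rw [← hxe, ← map_pow, show x' ^ r ^ jx = 1 from congrArg Subtype.val hjx', map_one]
  have hyx : y * x * y⁻¹ = w⁻¹ * (z⁻¹ * x) := by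
    rw [← mul_assoc, ← mul_inv_rev, hzw, hc]; group
  have hWp : IsPGroup r ↥((Cfsg.pCore r ↥M).map M.subtype ⊔ R) := by
    refine IsPGroup.to_sup_of_normal_right' ((Basics.pCore_isPGroup r).map _) ((Basics.pCore_isPGroup r).map _) ?_
    exact ((Subgroup.map_mono Components.pCore_le_fitting).trans hMN).trans (le_normalizer_map' N (Cfsg.pCore r ↥N))
  obtain ⟨j, hj⟩ := hWp ⟨z⁻¹ * x, mul_mem (mem_sup_right (inv_mem hz)) (mem_sup_left hx)⟩
  have hzx : (z⁻¹ * x) ^ r ^ j = 1 := congrArg Subtype.val hj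
  have hw1 : w = 1 := by
    have hwzx : Commute w⁻¹ (z⁻¹ * x) := (hzwc.symm.inv_inv.mul_right hxw.symm.inv_left)
    have := congrArg (· ^ r ^ (jx + j)) hyx
    simp only [conj_pow, hwzx.mul_pow] at this
    rw [pow_add, pow_mul x, hjx, one_pow, mul_one, mul_inv_cancel, mul_comm (r ^ jx),
      pow_mul (z⁻¹ * x), hzx, one_pow, mul_one, inv_pow, eq_comm, inv_eq_one] at this
    exact Components.eq_one_of_pow_prime_pow_of_coprime hwo (k := jx + j)
      (by rw [pow_add, mul_comm]; exact this) (pow_orderOf_eq_one w)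
  rw [hw1, mul_one] at hzw
  have hyz : y * z⁻¹ = z⁻¹ * y := ((show Commute z y from mem_centralizer_iff.mp hy z hz).inv_left.eq).symm
  have hn : ∀ i : ℕ, y ^ i * x * (y ^ i)⁻¹ = z⁻¹ ^ i * x := by
    intro i
    induction i with
    | zero => simp
    | succ i ih =>
      have hpz : y * z⁻¹ ^ i = z⁻¹ ^ i * y := (Commute.pow_right hyz i).eq
      calc y ^ (i + 1) * x * (y ^ (i + 1))⁻¹ = y * (y ^ i * x * (y ^ i)⁻¹) * y⁻¹ := by
            rw [pow_succ']; group
        _ = y * z⁻¹ ^ i * x * y⁻¹ := by rw [ih]; group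
        _ = z⁻¹ ^ i * (y * x * y⁻¹) := by rw [hpz]; group
        _ = z⁻¹ ^ (i + 1) * x := by rw [hyx, hw1, inv_one, one_mul, pow_succ]; group
  have hzn := hn (orderOf y)
  rw [pow_orderOf_eq_one, one_mul, inv_one, mul_one] at hzn
  have hzn' : z⁻¹ ^ orderOf y = 1 := by
    have := congrArg (· * x⁻¹) hzn
    simp only [mul_inv_cancel, mul_inv_cancel_right] at this
    exact this.symm
  obtain ⟨z', hz', hze⟩ := hz
  obtain ⟨jz, hjz⟩ := Basics.pCore_isPGroup r ⟨z', hz'⟩
  have hz1 : z⁻¹ = 1 := Components.eq_one_of_pow_prime_pow_of_coprime hyo (k := jz) (by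
    rw [inv_pow, ← hze, ← map_pow, show z' ^ r ^ jz = 1 from congrArg Subtype.val hjz, map_one, inv_one]) hzn'
  rw [inv_eq_one] at hz1
  have : x * y * x⁻¹ * y⁻¹ = 1 := by rw [← hc, ← hzw, hz1]
  rw [mul_inv_eq_one, mul_inv_eq_iff_eq_mul] at this
  exact this
where
  normalizer_le_normalizer_centralizer_aux (S : Subgroup G) :
      normalizer (S : Set G) ≤ normalizer (centralizer (S : Set G) : Set G) :=
    Components.normalizer_le_normalizer_centralizer S

/-- Let G be a non-abelian finite simple group and M ≠ N maximal subgroups of G with F*(M) ≤ N and F*(N) ≤ M. Then there is a prime p such that F*(M) and F*(N) are both p-groups. -/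
theorem result {G : Type*} [Group G] [Finite G] [IsSimpleGroup G] (hna : ¬ IsMulCommutative G) (M N : Subgroup G) (hM : IsCoatom M) (hN : IsCoatom N) (hMN : M ≠ N) (h1 : (Cfsg.generalizedFittingSubgroup ↥M).map M.subtype ≤ N) (h2 : (Cfsg.generalizedFittingSubgroup ↥N).map N.subtype ≤ M) : ∃ p : ℕ, p.Prime ∧ IsPGroup p ↥(Cfsg.generalizedFittingSubgroup ↥M) ∧ IsPGroup p ↥(Cfsg.generalizedFittingSubgroup ↥N) := by
  have hE1 := layer_eq_bot_of_cross hM hN hMN h1 h2
  have hE2 := layer_eq_bot_of_cross hN hM (Ne.symm hMN) h2 h1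
  simp only [Cfsg.generalizedFittingSubgroup, hE1, hE2, bot_sup_eq] at h1 h2 ⊢
  set FM := (Cfsg.fittingSubgroup ↥M).map M.subtype with hFM
  set FN := (Cfsg.fittingSubgroup ↥N).map N.subtype with hFN
  -- every prime occurring is the only one
  have key : ∀ r : ℕ, r.Prime → ∀ a ∈ FM, a ≠ 1 → (∃ k, a ^ r ^ k = 1) →
      (∀ b ∈ FM, ∃ k, b ^ r ^ k = 1) ∧ (∀ b ∈ FN, ∃ k, b ^ r ^ k = 1) := by
    intro r hr a ha ha1 ⟨k, hk⟩
    haveI : Fact r.Prime := ⟨hr⟩
    set RM := (Cfsg.pCore r ↥M).map M.subtype with hRM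
    set RN := (Cfsg.pCore r ↥N).map N.subtype with hRN
    have hRM1 : RM ≠ ⊥ := fun h => ha1 (mem_bot.mp (h ▸ rElt_mem_pCore ha hk))
    have hRN1 : RN ≠ ⊥ := by
      intro h
      -- then `O_r(M)` centralizes `F(N)`
      have haR := rElt_mem_pCore ha hk
      have haN : a ∈ N := h1 ha
      have hcen : (⟨a, haN⟩ : ↥N) ∈ centralizer (Cfsg.generalizedFittingSubgroup ↥N : Set ↥N) := by
        refine mem_centralizer_iff.mpr fun w hw => ?_
        rw [SetLike.mem_coe, Cfsg.generalizedFittingSubgroup, hE2, bot_sup_eq] at hw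
        obtain ⟨u, hu, v, hv, hvo, huv, -⟩ := fitting_split r N (mem_map_of_mem N.subtype hw)
        have hu1 : u = 1 := mem_bot.mp (h ▸ hu)
        rw [hu1, one_mul] at huv
        refine Subtype.ext ?_
        have := (cross_commute h1 h2 haR hv hvo).eq.symm
        rw [huv] at this
        exact this
      have h3 := Components.centralizer_fStar_le hcen
      rw [Cfsg.generalizedFittingSubgroup, hE2, bot_sup_eq] at h3
      have h4 := rElt_mem_pCore (r := r) (M := N) ⟨_, h3, rfl⟩ (k := k) hk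
      exact ha1 (mem_bot.mp (h ▸ h4))
    let Y := closure {y : G | y ∈ centralizer (RN : Set G) ∧ (orderOf y).Coprime r}
    have hset : ∀ y : G, (orderOf y).Coprime r →
        (y ∈ centralizer (RN : Set G) ↔ y ∈ centralizer (RM : Set G)) := fun y hy =>
      ⟨r'_centralizer_eq hN hE2 h1 h2 hRN1 hy, r'_centralizer_eq hM hE1 h2 h1 hRM1 hy⟩
    have hYn : M ⊔ N ≤ normalizer (Y : Set G) := by
      have aux : ∀ (P S : Subgroup G), P ≤ normalizer (centralizer (S : Set G) : Set G) →
          (∀ y : G, (orderOf y).Coprime r → (y ∈ centralizer (S : Set G) ↔ y ∈ centralizer (RN : Set G))) →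
          P ≤ normalizer (Y : Set G) := by
        intro P S hP hS g hg
        refine Components.mem_normalizer_of_conj_le ?_
        rw [map_le_iff_le_comap, closure_le]
        rintro y ⟨hy, hyo⟩
        refine subset_closure ⟨?_, by rw [MulEquiv.coe_toMonoidHom, MulEquiv.orderOf_eq]; exact hyo⟩
        refine (hS _ (by rw [MulEquiv.coe_toMonoidHom, MulEquiv.orderOf_eq]; exact hyo)).mp ?_
        exact (mem_normalizer_iff.mp (hP hg) y).mp ((hS y hyo).mpr hy)
      exact sup_le
        (aux M RM ((le_normalizer_map' M _).trans (Components.normalizer_le_normalizer_centralizer _))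
          fun y hy => (hset y hy).symm)
        (aux N RN ((le_normalizer_map' N _).trans (Components.normalizer_le_normalizer_centralizer _))
          fun y _ => Iff.rfl)
    have htop : M ⊔ N = ⊤ := by
      refine hM.2 _ (lt_of_le_of_ne le_sup_left fun h => hMN ?_)
      exact ((hN.le_iff.mp (sup_eq_left.mp h.symm)).resolve_left hM.1)
    have hYbot : Y = ⊥ := by
      haveI : Y.Normal := normalizer_eq_top_iff.mp (top_le_iff.mp (htop ▸ hYn))
      refine (Subgroup.Normal.eq_bot_or_eq_top (inferInstance : Y.Normal)).resolve_right fun h => hna ?_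
      have hle : (⊤ : Subgroup G) ≤ centralizer (RN : Set G) := h ▸ (closure_le _).mpr fun y hy => hy.1
      have hcent : RN ≤ center G := fun z hz =>
        mem_center_iff.mpr fun g => (mem_centralizer_iff.mp (hle (mem_top g)) z hz).symm
      rcases (center G).normal_of_characteristic.eq_bot_or_eq_top with hc | hc
      · exact absurd (le_bot_iff.mp (hc ▸ hcent)) hRN1
      · exact ⟨⟨fun u v => mem_center_iff.mp (hc ▸ mem_top v) u⟩⟩
    have honly : ∀ (P : Subgroup G) (RP : Subgroup G), RP = (Cfsg.pCore r ↥P).map P.subtype →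
        (∀ y : G, (orderOf y).Coprime r → y ∈ centralizer (RP : Set G) → y ∈ centralizer (RN : Set G)) →
        ∀ b ∈ (Cfsg.fittingSubgroup ↥P).map P.subtype, ∃ k, b ^ r ^ k = 1 := by
      intro P RP hRP hP b hb
      obtain ⟨u, hu, v, hv, hvo, rfl, -⟩ := fitting_split r P hb
      have hv1 : v = 1 := by
        refine mem_bot.mp (hYbot ▸ subset_closure ⟨hP v hvo ?_, hvo⟩)
        exact mem_centralizer_iff.mpr fun u hu => (fitting_commute (hRP ▸ hu) hv hvo).eq
      obtain ⟨u', hu', rfl⟩ := hu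
      obtain ⟨j, hj⟩ := Basics.pCore_isPGroup r ⟨u', hu'⟩
      exact ⟨j, by rw [hv1, mul_one, ← map_pow, show u' ^ r ^ j = 1 from congrArg Subtype.val hj, map_one]⟩
    exact ⟨honly M RM rfl fun y hy => (hset y hy).mpr, honly N RN rfl fun y _ => id⟩
  obtain ⟨a, ha, ha1⟩ : ∃ a ∈ FM, a ≠ 1 := by
    by_contra h
    push Not at h
    have hF : Cfsg.fittingSubgroup ↥M = ⊥ := by
      rw [eq_bot_iff]
      intro m hm
      exact mem_bot.mpr (Subtype.ext (h _ (mem_map_of_mem _ hm)))
    have hMbot : M = ⊥ := by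
      have h3 := Components.centralizer_fStar_le (G := ↥M)
      rw [Cfsg.generalizedFittingSubgroup, hE1, bot_sup_eq, hF] at h3
      refine eq_bot_iff.mpr fun m hm => mem_bot.mpr (congrArg Subtype.val (mem_bot.mp (h3
        (show (⟨m, hm⟩ : ↥M) ∈ centralizer ((⊥ : Subgroup ↥M) : Set ↥M) from
          mem_centralizer_iff.mpr fun w hw => by rw [show w = 1 from hw, one_mul, mul_one]))))
    exact hN.1 (hM.2 N (lt_of_le_of_ne (hMbot ▸ bot_le) hMN))
  obtain ⟨q, hq, hqd⟩ := Nat.exists_prime_and_dvd (fun h => ha1 (orderOf_eq_one_iff.mp h))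
  set a' := a ^ (orderOf a / q) with ha'
  have hao : orderOf a' = q := orderOf_pow_orderOf_div (isOfFinOrder_of_finite a).orderOf_pos.ne' hqd
  obtain ⟨hA, hB⟩ := key q hq a' (pow_mem ha _)
    (fun h => hq.ne_one (by rw [← hao, h, orderOf_one]))
    ⟨1, by rw [pow_one, ← hao]; exact pow_orderOf_eq_one a'⟩
  refine ⟨q, hq, fun m => ?_, fun m => ?_⟩
  · obtain ⟨k, hk⟩ := hA _ (mem_map_of_mem M.subtype ((sup_le (hE1.le.trans bot_le) le_rfl : Cfsg.layer ↥M ⊔ Cfsg.fittingSubgroup ↥M ≤ _) m.2))
    refine ⟨k, Subtype.ext (Subtype.ext ?_)⟩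
    push_cast
    exact hk
  · obtain ⟨k, hk⟩ := hB _ (mem_map_of_mem N.subtype ((sup_le (hE2.le.trans bot_le) le_rfl : Cfsg.layer ↥N ⊔ Cfsg.fittingSubgroup ↥N ≤ _) m.2))
    refine ⟨k, Subtype.ext (Subtype.ext ?_)⟩
    push_cast
    exact hk

end Cfsg.Agent.S1312
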