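import Cfsg.Statements.S2568
import Mathlib
import Cfsg.Agent.S2387

set_option autoImplicit false
open Cfsg

namespace Cfsg.Agent.S2568

open Polynomial

variable {F : Type*} [Field F] [Fintype F]

omit [Fintype F] in
theorem dvd_X_pow_sub_one {n r : ℕ} {M : Matrix (Fin n) (Fin n) F} (hM : M ^ r = 1) {Q : F[X]}
    (hQ : Irreducible Q) (hd : Q ∣ M.charpoly) : Q ∣ X ^ r - 1 := by
  classical
  have := Fact.mk hQ
  let K := AdjoinRoot Q
  let φ := algebraMap F K
  let α : K := AdjoinRoot.root Q
  have hroot : (M.map φ).charpoly.eval α = 0 := by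
    rw [Matrix.charpoly_map, eval_map, ← aeval_def]
    obtain ⟨c, hc⟩ := hd
    rw [hc, map_mul, AdjoinRoot.aeval_eq, AdjoinRoot.mk_self, zero_mul]
  rw [Matrix.eval_charpoly] at hroot
  obtain ⟨v, hv0, hv⟩ := Matrix.exists_mulVec_eq_zero_iff.2 hroot
  rw [Matrix.sub_mulVec, sub_eq_zero] at hv
  have hv' : (M.map φ).mulVec v = α • v := by
    rw [← hv]; ext j; simp [Matrix.mulVec_diagonal]
  have hpow : ∀ k, ((M.map φ) ^ k).mulVec v = α ^ k • v := by
    intro k
    induction k with
    | zero => simp
    | succ k ih =>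
      rw [pow_succ', ← Matrix.mulVec_mulVec, ih, Matrix.mulVec_smul, hv', smul_smul, ← pow_succ]
  have h1 := hpow r
  rw [← Matrix.map_pow, hM, Matrix.map_one φ (map_zero φ) (map_one φ), Matrix.one_mulVec] at h1
  have hα : α ^ r = 1 := by
    by_contra hne
    apply hv0
    ext j
    have := congrFun h1 j
    simp only [Pi.smul_apply, smul_eq_mul] at this
    exact (mul_eq_zero.1 (show (α ^ r - 1) * v j = 0 by linear_combination -this)).resolve_left
      (sub_ne_zero.2 hne)
  refine AdjoinRoot.mk_eq_zero.1 ?_
  rw [map_sub, map_pow, AdjoinRoot.mk_X, map_one]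
  exact sub_eq_zero.2 hα

/-- Functions with bounded sum are stars and bars. -/
theorem card_bounded_sum (T : Type*) [Fintype T] [DecidableEq T] (N : ℕ) :
    Nat.card {a : T → ℕ // ∑ x, a x ≤ N} = (N + Fintype.card T).choose (Fintype.card T) := by
  let e : {a : T → ℕ // ∑ x, a x ≤ N} ≃ {P : Option T → ℕ // ∑ i, P i = N} :=
    { toFun := fun a => ⟨fun o => o.elim (N - ∑ x, a.1 x) a.1, by
        rw [Fintype.sum_option]; exact Nat.sub_add_cancel a.2⟩
      invFun := fun P => ⟨fun x => P.1 (some x), by
        have := P.2; rw [Fintype.sum_option] at this; exact le_of_le_of_eq (Nat.le_add_left _ _) this⟩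
      left_inv := fun a => rfl
      right_inv := fun P => by
        refine Subtype.ext (funext fun o => ?_)
        cases o with
        | none =>
          have := P.2; rw [Fintype.sum_option] at this
          show N - ∑ x, P.1 (some x) = _; omega
        | some x => rfl }
  rw [Nat.card_congr (e.trans (Sym.equivNatSumOfFintype (Option T) N).symm), Nat.card_eq_fintype_card,
    Sym.card_sym_eq_choose, Fintype.card_option,
    show Fintype.card T + 1 + N - 1 = N + Fintype.card T by omega]
  exact Nat.choose_symm_add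

/-- Monic products of linear and given factors, by multiplicities. -/
noncomputable def polyOf (T : Finset F[X]) (i n : ℕ) (a : T → ℕ) : F[X] :=
  (X - C 1) ^ (n - i * ∑ x, a x) * ∏ x : T, (x : F[X]) ^ a x

open Classical in
theorem polyOf_count {T : Finset F[X]} (hirr : ∀ P ∈ T, Irreducible P) (hmon : ∀ P ∈ T, P.Monic)
    (hne : (X - C 1 : F[X]) ∉ T) {i n : ℕ} (a : T → ℕ) (y : T) :
    Multiset.count (y : F[X]) (UniqueFactorizationMonoid.normalizedFactors (polyOf T i n a)) = a y := by
  classical
  have hX : Irreducible (X - C 1 : F[X]) := irreducible_X_sub_C _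
  have hf : polyOf T i n a = (Multiset.replicate (n - i * ∑ x, a x) (X - C 1 : F[X]) +
      ∑ x : T, Multiset.replicate (a x) (x : F[X])).prod := by
    rw [Multiset.prod_add, Multiset.prod_replicate, Multiset.prod_sum, polyOf]
    simp [Multiset.prod_replicate]
  set m := Multiset.replicate (n - i * ∑ x, a x) (X - C 1 : F[X]) +
    ∑ x : T, Multiset.replicate (a x) (x : F[X]) with hm
  have hmem : ∀ p ∈ m, Irreducible p ∧ p.Monic := by
    intro p hp
    rcases Multiset.mem_add.1 hp with h | h
    · rw [Multiset.eq_of_mem_replicate h]; exact ⟨hX, monic_X_sub_C _⟩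
    · obtain ⟨x, -, hx⟩ := Multiset.mem_sum.1 h
      rw [Multiset.eq_of_mem_replicate hx]; exact ⟨hirr _ x.2, hmon _ x.2⟩
  rw [hf, UniqueFactorizationMonoid.normalizedFactors_prod_eq m fun p hp => (hmem p hp).1,
    Multiset.map_congr rfl fun p hp => (hmem p hp).2.normalize_eq_self, Multiset.map_id', hm]
  rw [Multiset.count_add, Multiset.count_replicate,
    if_neg (fun h => hne (by rw [h]; exact y.2)), zero_add, Multiset.count_sum']
  simp only [Multiset.count_replicate]
  rw [Finset.sum_eq_single y]
  · simp
  · intro x _ hx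
    rw [if_neg (fun h => hx (Subtype.ext h))]
  · simp

theorem polyOf_props {T : Finset F[X]} (hmon : ∀ P ∈ T, P.Monic) {i n : ℕ}
    (hdeg : ∀ P ∈ T, P.natDegree = i) {R : F[X]} (hX : (X - C 1) ∣ R) (hdiv : ∀ P ∈ T, P ∣ R)
    (a : T → ℕ) (ha : i * ∑ x, a x ≤ n) :
    (polyOf T i n a).Monic ∧ (polyOf T i n a).natDegree = n ∧
      ∃ N, polyOf T i n a ∣ R ^ N := by
  classical
  have hm1 : ((X - C 1 : F[X]) ^ (n - i * ∑ x, a x)).Monic := (monic_X_sub_C _).pow _
  have hm2 : ∀ x ∈ (Finset.univ : Finset T), ((x : F[X]) ^ a x).Monic :=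
    fun x _ => (hmon _ x.2).pow _
  refine ⟨hm1.mul (monic_prod_of_monic _ _ hm2), ?_,
    (n - i * ∑ x, a x) + ∑ x, a x, ?_⟩
  · rw [polyOf, hm1.natDegree_mul (monic_prod_of_monic _ _ hm2),
      natDegree_prod_of_monic _ _ hm2, natDegree_pow, natDegree_X_sub_C]
    simp only [natDegree_pow]
    rw [show ∑ x : T, a x * (x : F[X]).natDegree = i * ∑ x, a x by
      rw [Finset.mul_sum]; exact Finset.sum_congr rfl fun x _ => by rw [hdeg _ x.2, mul_comm]]
    omega
  · rw [polyOf, pow_add, ← Finset.prod_pow_eq_pow_sum]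
    exact mul_dvd_mul (pow_dvd_pow_of_dvd hX _)
      (Finset.prod_dvd_prod_of_dvd _ _ fun x _ => pow_dvd_pow_of_dvd (hdiv _ x.2) _)

/-- Number of conjugacy classes of elements of a given prime order r, coprime to the characteristic, in GL_n(q): if i is the multiplicative order of q modulo r and t = (r − 1)/i, the classes correspond to the non-zero t-tuples of natural numbers (a_1, …, a_t) with i(a_1 + ⋯ + a_t) ≤ n (a_j is the multiplicity of the j-th Frobenius orbit of nontrivial r-th roots of unity among the eigenvalues), so there are exactly C(⌊n/i⌋ + t, t) − 1 of them. -/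
theorem result {F : Type*} [Field F] [Fintype F] {p q : ℕ} [Fact p.Prime] [CharP F p] (hF : Fintype.card F = q) (n r i t : ℕ) (hr : r.Prime) (hrp : r ≠ p) (hi : i = orderOf (q : ZMod r)) (ht : t * i = r - 1) : Nat.card {C : ConjClasses (GL (Fin n) F) // ∃ g : GL (Fin n) F, ConjClasses.mk g = C ∧ orderOf g = r} = Nat.choose (n / i + t) t - 1 := by
  classical
  have := Fact.mk hr
  obtain ⟨f, -, hcard⟩ := FiniteField.card F p
  have hco : p.Coprime r := (Nat.coprime_primes Fact.out hr).2 (Ne.symm hrp)
  have hi0 : 0 < i := by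
    rw [hi, orderOf_pos_iff, isOfFinOrder_iff_pow_eq_one]
    have hq0 : (q : ZMod r) ≠ 0 := by
      rw [← hF, hcard, Nat.cast_pow]
      exact pow_ne_zero _ (by
        rw [Ne, ZMod.natCast_eq_zero_iff, Nat.prime_dvd_prime_iff_eq hr Fact.out]; exact hrp)
    exact ⟨r - 1, by have := hr.two_le; omega, ZMod.pow_card_sub_one_eq_one hq0⟩
  let Φ : F[X] := cyclotomic r F
  let R : F[X] := X ^ r - 1
  have hR : R = Φ * (X - C 1) := by rw [map_one]; exact (cyclotomic_prime_mul_X_sub_one F r).symm
  have hr0 : (r : F) ≠ 0 := by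
    rw [Ne, CharP.cast_eq_zero_iff F p, Nat.prime_dvd_prime_iff_eq Fact.out hr]
    exact fun h => hrp h.symm
  have hRsq : Squarefree R := by
    have := (separable_X_pow_sub_C (1 : F) hr0 one_ne_zero).squarefree
    rwa [map_one] at this
  have hΦ0 : Φ ≠ 0 := cyclotomic_ne_zero r F
  let T : Finset F[X] := (UniqueFactorizationMonoid.normalizedFactors Φ).toFinset
  have hT : ∀ P ∈ T, Irreducible P ∧ P.Monic ∧ P ∣ Φ := fun P hP => by
    have hP' := Multiset.mem_toFinset.1 hP
    have hirr := UniqueFactorizationMonoid.irreducible_of_normalized_factor P hP'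
    refine ⟨hirr, ?_, UniqueFactorizationMonoid.dvd_of_mem_normalizedFactors hP'⟩
    rw [← UniqueFactorizationMonoid.normalize_normalized_factor P hP']
    exact monic_normalize hirr.ne_zero
  have hdeg : ∀ P ∈ T, P.natDegree = i := fun P hP => by
    have h := natDegree_of_dvd_cyclotomic_of_irreducible (K := F) (f := (f : ℕ)) hcard hco
      (hT P hP).2.2 (hT P hP).1
    rw [h, ← orderOf_units, ZMod.coe_unitOfCoprime, ← hcard, hF, hi]
  have hX : (X - C 1 : F[X]) ∉ T := fun h => by
    have := (hT _ h).2.2
    rw [dvd_iff_isRoot, IsRoot, eval_one_cyclotomic_prime] at this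
    exact hr0 this
  have hTcard : T.card = t := by
    have hsq : Squarefree Φ := hRsq.squarefree_of_dvd ⟨_, hR⟩
    have hnd := (UniqueFactorizationMonoid.squarefree_iff_nodup_normalizedFactors hΦ0).1 hsq
    have hprod := UniqueFactorizationMonoid.prod_normalizedFactors_eq hΦ0
    rw [(cyclotomic.monic r F).normalize_eq_self] at hprod
    have h1 : Φ.natDegree = T.card * i := by
      have e : (∏ P ∈ T, P) = Φ := by
        conv_rhs => rw [show Φ = cyclotomic r F from rfl, ← hprod]
        rw [Finset.prod_eq_multiset_prod, Multiset.toFinset_val, hnd.dedup, Multiset.map_id']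
      rw [← e, natDegree_prod_of_monic _ _ fun P hP => (hT P hP).2.1,
        Finset.sum_congr rfl hdeg, Finset.sum_const, smul_eq_mul]
    rw [natDegree_cyclotomic, Nat.totient_prime hr] at h1
    exact Nat.eq_of_mul_eq_mul_right hi0 (h1.symm.trans ht.symm)
  have hXR : (X - C 1) ∣ R := ⟨Φ, by rw [hR, mul_comm]⟩
  have hTR : ∀ P ∈ T, P ∣ R := fun P hP => (hT P hP).2.2.trans ⟨_, hR⟩
  let A := {a : T → ℕ // ∑ x, a x ≤ n / i}
  let A' := {a : A // a.1 ≠ 0}
  have hAle : ∀ a : A, i * ∑ x, a.1 x ≤ n := fun a =>
    le_trans (Nat.mul_le_mul_left i a.2) (Nat.mul_div_le n i)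
  have hR0 : R.coeff 0 ≠ 0 := by
    show (X ^ r - 1 : F[X]).coeff 0 ≠ 0
    simp [hr.ne_zero.symm]
  have props : ∀ a : A, (polyOf T i n a.1).Monic ∧ (polyOf T i n a.1).natDegree = n ∧
      ∃ N, polyOf T i n a.1 ∣ R ^ N := fun a =>
    polyOf_props (fun P hP => (hT P hP).2.1) hdeg hXR hTR a.1 (hAle a)
  have hc0 : ∀ a : A, (polyOf T i n a.1).coeff 0 ≠ 0 := fun a h => by
    obtain ⟨N, c, hc⟩ := (props a).2.2
    have := congrArg (fun Q : F[X] => Q.coeff 0) hc
    simp only [coeff_zero_eq_eval_zero, eval_pow, eval_mul] at this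
    rw [← coeff_zero_eq_eval_zero (polyOf T i n a.1), h, zero_mul, ← coeff_zero_eq_eval_zero] at this
    exact pow_ne_zero _ hR0 this
  choose g hg hgf using fun a : A =>
    Cfsg.Agent.S2387.exists_charpoly (p := p) (polyOf T i n a.1) (props a).1 (props a).2.1 (hc0 a)
  have hone : (1 : GL (Fin n) F).1.charpoly = (X - C 1) ^ n := by
    rw [Units.val_one, Matrix.charpoly_one, Fintype.card_fin, map_one]
  have hcount : ∀ (a : T → ℕ) (y : T), Multiset.count (y : F[X])
      (UniqueFactorizationMonoid.normalizedFactors (polyOf T i n a)) = a y :=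
    fun a y => polyOf_count (fun P hP => (hT P hP).1) (fun P hP => (hT P hP).2.1) hX a y
  have hzero : polyOf T i n 0 = (X - C 1) ^ n := by simp [polyOf]
  have hord : ∀ a : A', orderOf (g a.1) = r := fun a => by
    refine orderOf_eq_prime ?_ ?_
    · have hss := Cfsg.Agent.S2387.pPrime_isSemisimple (g a.1) (hg a.1)
      have hsq := hss.minpoly_squarefree
      obtain ⟨N, hN⟩ := (props a.1).2.2
      rw [← hgf a.1] at hN
      have hd : minpoly F (Matrix.toLinAlgEquiv' (g a.1).1) ∣ R ^ (N + 1) := by
        rw [minpoly.algEquiv_eq]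
        exact (Matrix.minpoly_dvd_charpoly _).trans (hN.trans (pow_dvd_pow _ (Nat.le_succ N)))
      have h2 := (hsq.dvd_pow_iff_dvd (Nat.succ_ne_zero N)).1 hd
      obtain ⟨c, hc⟩ := h2
      have := congrArg (aeval (Matrix.toLinAlgEquiv' (g a.1).1)) hc
      rw [map_mul, minpoly.aeval, zero_mul] at this
      simp only [R, map_sub, map_pow, aeval_X, map_one, sub_eq_zero] at this
      rw [← map_pow, ← map_one (Matrix.toLinAlgEquiv' (R := F) (n := Fin n))] at this
      apply Units.ext
      rw [Units.val_pow_eq_pow_val, Units.val_one]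
      exact (Matrix.toLinAlgEquiv' (R := F) (n := Fin n)).injective this
    · intro h1
      apply a.2
      funext y
      have := hgf a.1
      rw [h1, hone, ← hzero] at this
      rw [← hcount a.1.1 y, ← this, hcount]
  let Φmap : A' → {C : ConjClasses (GL (Fin n) F) //
      ∃ g : GL (Fin n) F, ConjClasses.mk g = C ∧ orderOf g = r} :=
    fun a => ⟨ConjClasses.mk (g a.1), g a.1, rfl, hord a⟩
  have hchar : ∀ x y : GL (Fin n) F, IsConj x y → x.1.charpoly = y.1.charpoly := fun x y h => by
    obtain ⟨c, hc⟩ := isConj_iff.1 h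
    rw [← hc, Units.val_mul, Units.val_mul, Matrix.coe_units_inv, Matrix.charpoly_units_conj]
  have hbij : Function.Bijective Φmap := by
    constructor
    · intro a b h
      have h' := hchar _ _ (ConjClasses.mk_eq_mk_iff_isConj.1 (congrArg Subtype.val h))
      rw [hgf, hgf] at h'
      refine Subtype.ext (Subtype.ext (funext fun y => ?_))
      rw [← hcount a.1.1 y, h', hcount]
    · rintro ⟨C, x, rfl, hx⟩
      have hxr : x.1 ^ r = 1 := by
        rw [← Units.val_pow_eq_pow_val, ← hx, pow_orderOf_eq_one]; rfl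
      have hxco : (orderOf x).Coprime p := by rw [hx]; exact hco.symm
      set P := x.1.charpoly with hP
      have hPm : P.Monic := x.1.charpoly_monic
      have hfac : ∀ Q ∈ UniqueFactorizationMonoid.normalizedFactors P, Q = X - C 1 ∨ Q ∈ T := by
        intro Q hQ
        have hirr := UniqueFactorizationMonoid.irreducible_of_normalized_factor Q hQ
        have hQm : Q.Monic := by
          rw [← UniqueFactorizationMonoid.normalize_normalized_factor Q hQ]
          exact monic_normalize hirr.ne_zero
        have hQP := UniqueFactorizationMonoid.dvd_of_mem_normalizedFactors hQ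
        have hQR : Q ∣ R := dvd_X_pow_sub_one hxr hirr hQP
        rw [hR] at hQR
        rcases hirr.prime.dvd_or_dvd hQR with h | h
        · right
          obtain ⟨Q', hQ', hass⟩ :=
            UniqueFactorizationMonoid.exists_mem_normalizedFactors_of_dvd hΦ0 hirr h
          have : Q = Q' := eq_of_monic_of_associated hQm
            (hT Q' (Multiset.mem_toFinset.2 hQ')).2.1 hass
          rw [this]; exact Multiset.mem_toFinset.2 hQ'
        · left
          exact eq_of_monic_of_associated hQm (monic_X_sub_C _)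
            ((hirr.associated_of_dvd (irreducible_X_sub_C _)) h)
      set s := UniqueFactorizationMonoid.normalizedFactors P with hs
      let a : T → ℕ := fun y => s.count (y : F[X])
      have hsplit : s = Multiset.replicate (s.count (X - C 1)) (X - C 1) +
          ∑ y : T, Multiset.replicate (a y) (y : F[X]) := by
        ext Q
        rw [Multiset.count_add, Multiset.count_replicate, Multiset.count_sum']
        simp only [Multiset.count_replicate, a]
        by_cases hQ : Q ∈ T
        · rw [if_neg (fun h => hX (by rw [h]; exact hQ)), zero_add, Finset.sum_eq_single ⟨Q, hQ⟩]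
          · simp
          · intro z _ hz; rw [if_neg (fun h => hz (Subtype.ext h))]
          · simp
        · rw [Finset.sum_eq_zero (fun z _ => if_neg (fun h => hQ (by rw [← h]; exact z.2))), add_zero]
          split_ifs with h
          · rw [h]
          · rw [Multiset.count_eq_zero]
            exact fun hm => (hfac Q hm).elim (fun e => h e.symm) hQ
      have hprod : P = (X - C 1) ^ s.count (X - C 1) * ∏ y : T, (y : F[X]) ^ a y := by
        conv_lhs => rw [← hPm.normalize_eq_self,
          ← UniqueFactorizationMonoid.prod_normalizedFactors_eq hPm.ne_zero, ← hs, hsplit]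
        rw [Multiset.prod_add, Multiset.prod_replicate, Multiset.prod_sum]
        simp [Multiset.prod_replicate]
      have hdegP : n = s.count (X - C 1) + i * ∑ y, a y := by
        have h := congrArg natDegree hprod
        rw [Matrix.charpoly_natDegree_eq_dim, Fintype.card_fin,
          ((monic_X_sub_C (1 : F)).pow _).natDegree_mul
            (monic_prod_of_monic _ _ fun y _ => ((hT _ y.2).2.1).pow _),
          natDegree_prod_of_monic _ _ (fun y _ => ((hT _ y.2).2.1).pow _), natDegree_pow,
          natDegree_X_sub_C, mul_one] at h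
        simp only [natDegree_pow] at h
        rw [show ∑ y : T, a y * (y : F[X]).natDegree = i * ∑ y, a y by
          rw [Finset.mul_sum]; exact Finset.sum_congr rfl fun y _ => by rw [hdeg _ y.2, mul_comm]] at h
        exact h
      have haA : ∑ y, a y ≤ n / i := by
        rw [Nat.le_div_iff_mul_le hi0, mul_comm]; omega
      have hpoly : polyOf T i n a = P := by
        rw [hprod, polyOf, show n - i * ∑ y, a y = s.count (X - C 1) by omega]
      have ha0 : (⟨a, haA⟩ : A).1 ≠ 0 := fun h0 => by
        have h1 : IsConj x 1 := Cfsg.Agent.S2387.isConj_of_charpoly (p := p) x 1 hxco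
          (by simp) (by rw [hone, ← hP, ← hpoly, show a = 0 from h0, hzero])
        rw [isConj_one_left.1 h1, orderOf_one] at hx
        exact hr.one_lt.ne hx
      refine ⟨⟨⟨a, haA⟩, ha0⟩, Subtype.ext (ConjClasses.mk_eq_mk_iff_isConj.2 ?_)⟩
      refine Cfsg.Agent.S2387.isConj_of_charpoly (p := p) _ x (hg _) hxco ?_
      rw [hgf]
      exact hpoly
  rw [← Nat.card_congr (Equiv.ofBijective Φmap hbij)]
  have hAcard : Nat.card A = (n / i + t).choose t := by
    rw [card_bounded_sum, Fintype.card_coe, hTcard]
  have : Finite A := Nat.finite_of_card_ne_zero (by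
    rw [hAcard]; exact (Nat.choose_pos (Nat.le_add_left t (n / i))).ne')
  have : Fintype A := Fintype.ofFinite A
  rw [← hAcard, Nat.card_eq_fintype_card, Nat.card_eq_fintype_card]
  let a0 : A := ⟨0, by simp⟩
  have e : Fintype.card A' = Fintype.card {a : A // ¬ a = a0} :=
    Fintype.card_congr (Equiv.subtypeEquivRight fun a => not_congr (show a.1 = 0 ↔ a = a0 from ⟨fun h => Subtype.ext h, fun h => by rw [h]⟩))
  rw [e, Fintype.card_subtype_compl, Fintype.card_subtype_eq]

end Cfsg.Agent.S2568
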