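import Cfsg.Statements.S0302
import Cfsg.Agent.Lib.LinearGroups.OrthSmall
import Cfsg.Agent.Lib.LinearGroups.PSL
import Cfsg.Agent.Lib.SmallSimple.Basic
import Cfsg.Agent.S0287
import Mathlib


set_option autoImplicit false
open Cfsg

namespace Cfsg.Agent.S0302

open Subgroup

open Matrix FormsLib OrthOrder

abbrev I6 := Fin 3 ⊕ Fin 3

variable {F : Type*} [Field F]

/-- Coordinates as alternating matrices. -/
def toX : (I6 → F) →ₗ[F] Matrix (Fin 4) (Fin 4) F where
  toFun v := !![0, v (.inl 0), v (.inl 1), v (.inl 2);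
    -v (.inl 0), 0, v (.inr 2), -v (.inr 1);
    -v (.inl 1), -v (.inr 2), 0, v (.inr 0);
    -v (.inl 2), v (.inr 1), -v (.inr 0), 0]
  map_add' u v := by ext i j; fin_cases i <;> fin_cases j <;> simp <;> ring
  map_smul' c v := by ext i j; fin_cases i <;> fin_cases j <;> simp

/-- Coordinates of a matrix. -/
def ofX : Matrix (Fin 4) (Fin 4) F →ₗ[F] (I6 → F) where
  toFun X := Sum.elim ![X 0 1, X 0 2, X 0 3] ![X 2 3, -X 1 3, X 1 2]
  map_add' X Y := by funext i; rcases i with i | i <;> fin_cases i <;> simp [add_comm]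
  map_smul' c X := by funext i; rcases i with i | i <;> fin_cases i <;> simp

theorem ofX_toX (v : I6 → F) : ofX (toX v) = v := by
  funext i; rcases i with i | i <;> fin_cases i <;> simp [ofX, toX]

theorem toX_conj (A : Matrix (Fin 4) (Fin 4) F) (v : I6 → F) :
    toX (ofX (A * toX v * Aᵀ)) = A * toX v * Aᵀ := by
  ext i j
  fin_cases i <;> fin_cases j <;> simp [ofX, toX, Matrix.mul_apply, Fin.sum_univ_four] <;> ring

theorem pf_conj (A : Matrix (Fin 4) (Fin 4) F) (v : I6 → F) :
    qPlus 3 F (ofX (A * toX v * Aᵀ)) = A.det * qPlus 3 F v := by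
  rw [qPlus_apply, qPlus_apply]
  simp [Cfsg.quadFormPlus, Fin.sum_univ_three, ofX, toX, Matrix.mul_apply, Fin.sum_univ_four,
    Matrix.det_succ_row_zero, Fin.sum_univ_succ, Fin.succAbove]
  ring

/-- The dual bivector. -/
def swapLin : (I6 → F) →ₗ[F] (I6 → F) := LinearMap.funLeft F F Sum.swap

theorem swapLin_swapLin (v : I6 → F) : swapLin (swapLin v) = v := by
  funext i; rcases i with i | i <;> simp [swapLin, LinearMap.funLeft]

theorem dual_conj (A : Matrix (Fin 4) (Fin 4) F) (v : I6 → F) :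
    Aᵀ * toX (swapLin (ofX (A * toX v * Aᵀ))) * A = A.det • toX (swapLin v) := by
  ext i j
  fin_cases i <;> fin_cases j <;>
    simp [swapLin, LinearMap.funLeft, ofX, toX, Matrix.mul_apply, Fin.sum_univ_four,
      Matrix.det_succ_row_zero, Fin.sum_univ_succ, Fin.succAbove] <;> ring

/-- Pairs of a matrix and a multiplier. -/
def H0 (F : Type*) [Field F] : Subgroup (GL (Fin 4) F × Fˣ) :=
  ((powMonoidHom 2).comp (MonoidHom.snd (GL (Fin 4) F) Fˣ) *
    Matrix.GeneralLinearGroup.det.comp (MonoidHom.fst (GL (Fin 4) F) Fˣ) :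
    GL (Fin 4) F × Fˣ →* Fˣ).ker

theorem mem_H0 {g : GL (Fin 4) F × Fˣ} : g ∈ H0 F ↔ (g.2 : F) ^ 2 * g.1.1.det = 1 := by
  rw [H0, MonoidHom.mem_ker, Units.ext_iff]
  rfl

/-- `X ↦ μ A X Aᵀ` on coordinates. -/
def actLin (A : Matrix (Fin 4) (Fin 4) F) (μ : F) : (I6 → F) →ₗ[F] (I6 → F) where
  toFun v := μ • ofX (A * toX v * Aᵀ)
  map_add' u v := by rw [map_add, Matrix.mul_add, Matrix.add_mul, map_add, smul_add]
  map_smul' c v := by rw [map_smul, Matrix.mul_smul, Matrix.smul_mul, map_smul, smul_comm]; rfl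

theorem toX_actLin (A : Matrix (Fin 4) (Fin 4) F) (μ : F) (v : I6 → F) :
    toX (actLin A μ v) = μ • (A * toX v * Aᵀ) := by
  show toX (μ • _) = _
  rw [map_smul, toX_conj]

theorem actLin_mul (A B : Matrix (Fin 4) (Fin 4) F) (μ ν : F) (v : I6 → F) :
    actLin (A * B) (μ * ν) v = actLin A μ (actLin B ν v) := by
  show (μ * ν) • ofX (A * B * toX v * (A * B)ᵀ) = μ • ofX (A * toX (actLin B ν v) * Aᵀ)
  rw [toX_actLin, Matrix.mul_smul, Matrix.smul_mul, map_smul, smul_smul, Matrix.transpose_mul]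
  simp only [Matrix.mul_assoc]

theorem actLin_one (v : I6 → F) : actLin 1 1 v = v := by
  show (1 : F) • ofX _ = v
  rw [Matrix.transpose_one, Matrix.one_mul, Matrix.mul_one, ofX_toX, one_smul]

/-- The action as isometries. -/
def actIso : H0 F →* oGroup (qPlus 3 F) where
  toFun g := ⟨LinearEquiv.ofLinearMap (actLin g.1.1.1 g.1.2) (actLin (g.1.1⁻¹).1 (g.1.2⁻¹ : Fˣ))
      (LinearMap.ext fun v => by
        show actLin g.1.1.1 g.1.2 (actLin (g.1.1⁻¹).1 (g.1.2⁻¹ : Fˣ) v) = v
        rw [← actLin_mul, Units.mul_inv, Units.mul_inv, actLin_one])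
      (LinearMap.ext fun v => by
        show actLin (g.1.1⁻¹).1 (g.1.2⁻¹ : Fˣ) (actLin g.1.1.1 g.1.2 v) = v
        rw [← actLin_mul, Units.inv_mul, Units.inv_mul, actLin_one]), fun v => by
    show qPlus 3 F ((g.1.2 : F) • ofX _) = _
    rw [QuadraticMap.map_smul, pf_conj, smul_eq_mul, ← mul_assoc, ← sq, (mem_H0).1 g.2, one_mul]⟩
  map_one' := Subtype.ext (LinearEquiv.ext fun v => by
    simp only [Subgroup.coe_one, LinearEquiv.coe_one, id_eq, LinearEquiv.coe_ofLinearMap, Prod.fst_one,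
      Prod.snd_one, Units.val_one, actLin_one])
  map_mul' g h := Subtype.ext (LinearEquiv.ext fun v => by
    simp only [Subgroup.coe_mul, LinearEquiv.mul_apply, LinearEquiv.coe_ofLinearMap, Prod.fst_mul,
      Prod.snd_mul, Units.val_mul, actLin_mul])

theorem actIso_apply (g : H0 F) (v : I6 → F) : (actIso g).1 v = actLin g.1.1.1 g.1.2 v := rfl

/-- Duality as an isometry. -/
def swapIso : oGroup (qPlus 3 F) :=
  ⟨LinearEquiv.ofLinearMap swapLin swapLin (LinearMap.ext swapLin_swapLin)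
    (LinearMap.ext swapLin_swapLin), fun v => by
      show qPlus 3 F (swapLin v) = _
      rw [qPlus_apply, qPlus_apply]
      simp [Cfsg.quadFormPlus, swapLin, LinearMap.funLeft, mul_comm]⟩

theorem swapIso_apply (v : I6 → F) : (swapIso : oGroup (qPlus 3 F)).1 v = swapLin v := rfl

theorem swapIso_mul_self : (swapIso : oGroup (qPlus 3 F)) * swapIso = 1 :=
  Subtype.ext (LinearEquiv.ext swapLin_swapLin)

/-- A row annihilating the image of a basis bivector comes from one annihilating it. -/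
theorem annih {g : H0 F} {v w : I6 → F} (h : (actIso g).1 v = w) {u : Fin 4 → F}
    (hu : u ᵥ* toX w = 0) : (u ᵥ* g.1.1.1) ᵥ* toX v = 0 := by
  rw [← h, actIso_apply, toX_actLin, Matrix.vecMul_smul] at hu
  have h1 := (smul_eq_zero.1 hu).resolve_left g.1.2.ne_zero
  rw [← Matrix.vecMul_vecMul, ← Matrix.vecMul_vecMul] at h1
  have h2 := congrArg (fun z => z ᵥ* ((g.1.1⁻¹).1)ᵀ) h1
  simp only [Matrix.vecMul_vecMul, Matrix.zero_vecMul, ← Matrix.transpose_mul, Units.inv_mul,
    Matrix.transpose_one, Matrix.vecMul_one] at h2 ⊢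
  rw [Matrix.mul_assoc, ← Matrix.transpose_mul, Units.inv_mul, Matrix.transpose_one, Matrix.mul_one] at h2
  exact h2

theorem act_trivial {g : H0 F} (h : actIso g = 1) :
    ∃ a : F, g.1.1.1 = Matrix.scalar (Fin 4) a ∧ (g.1.2 : F) * (a * a) = 1 := by
  have e : ∀ v, (actIso g).1 v = v := fun v => by rw [h]; rfl
  have hoff : ∀ (k : Fin 4) (i : I6), (Pi.single k 1 : Fin 4 → F) ᵥ* toX (Pi.single i 1) = 0 →
      ((Pi.single k 1 : Fin 4 → F) ᵥ* g.1.1.1) ᵥ* toX (Pi.single i 1) = 0 := fun k i hu => annih (e _) hu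
  set A := g.1.1.1
  have a01 := congrFun (hoff 0 (.inr 2) (by ext j; fin_cases j <;> simp [toX])) 2
  have a02 := congrFun (hoff 0 (.inr 2) (by ext j; fin_cases j <;> simp [toX])) 1
  have a03 := congrFun (hoff 0 (.inr 1) (by ext j; fin_cases j <;> simp [toX])) 1
  have a10 := congrFun (hoff 1 (.inl 1) (by ext j; fin_cases j <;> simp [toX])) 2
  have a12 := congrFun (hoff 1 (.inl 1) (by ext j; fin_cases j <;> simp [toX])) 0
  have a13 := congrFun (hoff 1 (.inl 2) (by ext j; fin_cases j <;> simp [toX])) 0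
  have a20 := congrFun (hoff 2 (.inl 0) (by ext j; fin_cases j <;> simp [toX])) 1
  have a21 := congrFun (hoff 2 (.inl 0) (by ext j; fin_cases j <;> simp [toX])) 0
  have a23 := congrFun (hoff 2 (.inl 2) (by ext j; fin_cases j <;> simp [toX])) 0
  have a30 := congrFun (hoff 3 (.inl 0) (by ext j; fin_cases j <;> simp [toX])) 1
  have a31 := congrFun (hoff 3 (.inl 0) (by ext j; fin_cases j <;> simp [toX])) 0
  have a32 := congrFun (hoff 3 (.inl 1) (by ext j; fin_cases j <;> simp [toX])) 0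
  simp [toX, Matrix.vecMul, dotProduct, Fin.sum_univ_four] at a01 a02 a03 a10 a12 a13 a20 a21 a23 a30 a31 a32
  have d : ∀ i : I6, toX (Pi.single i 1) = (g.1.2 : F) • (A * toX (Pi.single i 1) * Aᵀ) := fun i => by
    rw [← toX_actLin]; exact congrArg toX (e _).symm
  have d01 := congrFun (congrFun (d (.inl 0)) 0) 1
  have d02 := congrFun (congrFun (d (.inl 1)) 0) 2
  have d03 := congrFun (congrFun (d (.inl 2)) 0) 3
  have d12 := congrFun (congrFun (d (.inr 2)) 1) 2
  have d13 := congrFun (congrFun (d (.inr 1)) 1) 3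
  simp [toX, Matrix.mul_apply, Fin.sum_univ_four, a01, a02, a03, a10, a12, a13, a20, a21, a23, a30, a31, a32]
    at d01 d02 d03 d12 d13
  have e12 : A 1 1 = A 2 2 := by linear_combination A 1 1 * d02 - A 2 2 * d01
  have e01 : A 0 0 = A 1 1 := by linear_combination A 0 0 * d12 - A 1 1 * d02
  have e13 : A 1 1 = A 3 3 := by linear_combination A 1 1 * d03 - A 3 3 * d01
  refine ⟨A 0 0, ?_, ?_⟩
  · ext i j
    fin_cases i <;> fin_cases j <;>
      simp [a01, a02, a03, a10, a12, a13, a20, a21, a23, a30, a31, a32, e01, ← e12, ← e13]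
  · rw [← e01] at d01
    linear_combination -d01

theorem swap_notMem (g : H0 F) : actIso g ≠ swapIso := by
  intro h
  have e : ∀ v, (actIso g).1 v = swapLin v := fun v => by rw [h]; rfl
  have h0 := annih (e (Pi.single (.inl 0) 1)) (u := Pi.single 0 1)
    (by ext j; fin_cases j <;> simp [swapLin, LinearMap.funLeft, toX, Pi.single_apply])
  have h1 := annih (e (Pi.single (.inl 1) 1)) (u := Pi.single 0 1)
    (by ext j; fin_cases j <;> simp [swapLin, LinearMap.funLeft, toX, Pi.single_apply])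
  have h2 := annih (e (Pi.single (.inl 2) 1)) (u := Pi.single 0 1)
    (by ext j; fin_cases j <;> simp [swapLin, LinearMap.funLeft, toX, Pi.single_apply])
  have b0 := congrFun h0 1
  have b1 := congrFun h0 0
  have b2 := congrFun h1 0
  have b3 := congrFun h2 0
  simp [toX, Matrix.vecMul, dotProduct, Fin.sum_univ_four] at b0 b1 b2 b3
  exact (Matrix.isUnits_det_units g.1.1).ne_zero
    (Matrix.det_eq_zero_of_row_eq_zero 0 fun j => by fin_cases j <;> simp [b0, b1, b2, b3])

theorem card_H0 [Fintype F] :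
    Nat.card (Matrix.SpecialLinearGroup (Fin 4) F) * Nat.card Fˣ ≤ Nat.card (H0 F) := by
  rw [← Nat.card_prod]
  let D : Fˣ → GL (Fin 4) F := fun c =>
    Matrix.GeneralLinearGroup.mkOfDetNeZero (Matrix.diagonal ![(c : F) ^ 2, 1, 1, 1])
      (by simp [Matrix.det_diagonal, Fin.prod_univ_four])
  have hD : ∀ c, (D c).1.det = (c : F) ^ 2 := fun c => by
    show (Matrix.diagonal ![(c : F) ^ 2, 1, 1, 1]).det = _
    simp [Matrix.det_diagonal, Fin.prod_univ_four]
  refine Nat.card_le_card_of_injective (fun p : Matrix.SpecialLinearGroup (Fin 4) F × Fˣ =>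
    (⟨(D p.2 * Matrix.SpecialLinearGroup.toGL p.1, p.2⁻¹), (mem_H0).2 ?_⟩ : H0 F)) ?_
  · show ((p.2⁻¹ : Fˣ) : F) ^ 2 * (_ * p.1.1).det = 1
    rw [Matrix.det_mul, p.1.2, mul_one, hD, ← mul_pow, Units.inv_mul, one_pow]
  · rintro ⟨s, c⟩ ⟨t, d⟩ h
    have h1 : c = d := inv_injective (congrArg (fun z : H0 F => z.1.2) h)
    subst h1
    have h2 := mul_left_cancel (congrArg (fun z : H0 F => z.1.1) h)
    exact Prod.ext (Matrix.SpecialLinearGroup.ext _ _ fun a b =>
      congrFun (congrFun (congrArg (fun z : GL (Fin 4) F => z.1) h2) a) b) rfl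

theorem card_ker [Fintype F] : Nat.card (actIso : H0 F →* oGroup (qPlus 3 F)).ker ≤ Nat.card Fˣ := by
  choose a ha using fun g : (actIso : H0 F →* oGroup (qPlus 3 F)).ker =>
    act_trivial (MonoidHom.mem_ker.1 g.2)
  refine Nat.card_le_card_of_injective (fun g => Units.mk0 (a g) fun h0 => by
    have := (ha g).2
    rw [h0, mul_zero, mul_zero] at this
    exact zero_ne_one this) fun g g' h => ?_
  have h' : a g = a g' := congrArg Units.val h
  have e1 : g.1.1.1 = g'.1.1.1 := Units.ext (by rw [(ha g).1, (ha g').1, h'])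
  have e2 : g.1.1.2 = g'.1.1.2 := Units.ext (by
    have h0 := left_ne_zero_of_mul_eq_one (mul_comm _ _ |>.trans (ha g).2)
    exact mul_right_cancel₀ h0 (by rw [(ha g).2, h', (ha g').2]))
  exact Subtype.ext (Subtype.ext (Prod.ext e1 e2))

/-- `SL_4` inside `H0`. -/
def slIn : Matrix.SpecialLinearGroup (Fin 4) F →* H0 F :=
  (Matrix.SpecialLinearGroup.toGL.prod 1).codRestrict (H0 F) fun s => (mem_H0).2 (by
    show ((1 : Fˣ) : F) ^ 2 * s.1.det = 1
    rw [s.2, Units.val_one, one_pow, one_mul])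

theorem act_mem_range {h : H0 F} (c : Fˣ) (hμ : (h.1.2 : F) = (c : F) ^ 2) :
    actIso h ∈ (actIso.comp (slIn : _ →* H0 F)).range := by
  have hd := (mem_H0).1 h.2
  rw [hμ] at hd
  let k : H0 F := ⟨(Matrix.GeneralLinearGroup.scalar (Fin 4) c, c⁻¹ ^ 2), (mem_H0).2 (by
    show ((c⁻¹ ^ 2 : Fˣ) : F) ^ 2 * (Matrix.diagonal fun _ => (c : F)).det = 1
    rw [Matrix.det_diagonal, Fin.prod_univ_four, Units.val_pow_eq_pow_val, Units.val_inv_eq_inv_val]
    field_simp)⟩
  have hk : actIso k = 1 := Subtype.ext (LinearEquiv.ext fun v => by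
    rw [actIso_apply]
    show ((c⁻¹ ^ 2 : Fˣ) : F) • ofX ((Matrix.diagonal fun _ => (c : F)) * toX v * (Matrix.diagonal fun _ => (c : F))ᵀ) = v
    rw [Matrix.diagonal_transpose, show (Matrix.diagonal fun _ => (c : F)) = (c : F) • (1 : Matrix (Fin 4) (Fin 4) F) from
      (Matrix.smul_one_eq_diagonal _).symm, Matrix.smul_mul, Matrix.one_mul, Matrix.mul_smul, Matrix.mul_one,
      smul_smul, map_smul, ofX_toX, smul_smul, Units.val_pow_eq_pow_val, Units.val_inv_eq_inv_val]
    rw [show ((c : F))⁻¹ ^ 2 * ((c : F) * c) = 1 by field_simp, one_smul])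
  have hdet : (h * k).1.1.1.det = 1 := by
    show (h.1.1.1 * Matrix.diagonal fun _ => (c : F)).det = 1
    rw [Matrix.det_mul, Matrix.det_diagonal, Fin.prod_univ_four]
    linear_combination hd
  have hs : slIn (⟨(h * k).1.1.1, hdet⟩ : Matrix.SpecialLinearGroup (Fin 4) F) = h * k :=
    Subtype.ext (Prod.ext (Units.ext rfl) (Units.ext (by
      show (1 : F) = (h.1.2 : F) * ((c⁻¹ ^ 2 : Fˣ) : F)
      rw [hμ, Units.val_pow_eq_pow_val, ← mul_pow, Units.mul_inv, one_pow])))
  refine ⟨(⟨(h * k).1.1.1, hdet⟩ : Matrix.SpecialLinearGroup (Fin 4) F), ?_⟩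
  show actIso (slIn _) = actIso h
  rw [hs, map_mul, hk, mul_one]

/-- PΩ^+_6(q) is isomorphic to PSL_4(q). -/
theorem result {F : Type*} [Field F] [Fintype F] : Nonempty (Cfsg.POmega F (Cfsg.quadFormPlus 3 F) ≃* Matrix.ProjectiveSpecialLinearGroup (Fin 4) F) := by
  classical
  let G := Cfsg.isometryGroup F (Cfsg.quadFormPlus 3 F)
  have hQ : (⇑(qPlus 3 F) : (I6 → F) → F) = Cfsg.quadFormPlus 3 F := funext (qPlus_apply 3)
  let e : oGroup (qPlus 3 F) ≃* G :=
    (oEquiv (qPlus 3 F)).symm.trans (MulEquiv.subgroupCongr (congrArg (Cfsg.isometryGroup F) hQ))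
  let f : H0 F →* G := e.toMonoidHom.comp actIso
  let τ : G := e swapIso
  have hfker : f.ker = (actIso : H0 F →* oGroup (qPlus 3 F)).ker := by
    ext g
    simp [f, MonoidHom.mem_ker]
  have hidx : f.range.index ≤ 2 := by
    have hO := S0287.result (F := F) rfl 3 (by norm_num)
    have hSL := LinGrp.natCard_SL_mul (F := F) 4 (by norm_num)
    have h := card_eq_card_quotient_mul_card_subgroup f.ker
    rw [Nat.card_congr (QuotientGroup.quotientKerEquivRange f).toEquiv, hfker] at h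
    have h1 := card_H0 (F := F)
    rw [h] at h1
    have hr : Nat.card (Matrix.SpecialLinearGroup (Fin 4) F) ≤ Nat.card f.range :=
      Nat.le_of_mul_le_mul_right (h1.trans (Nat.mul_le_mul_left _ card_ker)) Nat.card_pos
    have hi' : Nat.card f.range * f.range.index = Nat.card G := f.range.card_mul_index
    rw [show Nat.card G = _ from hO] at hi'
    have hq : 1 < Fintype.card F := Fintype.one_lt_card
    generalize Fintype.card F = q at *
    simp only [Nat.reduceSub, Finset.prod_range_succ, Finset.prod_range_zero, Fin.prod_univ_four,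
      Fin.val_zero, Fin.val_one, Fin.val_two, Fin.isValue, pow_zero, pow_one, zero_add, one_mul,
      Nat.reduceMul, Nat.reduceAdd] at hi' hSL
    rw [show ((3 : Fin 4) : ℕ) = 3 from rfl, show q ^ 4 - q = q * (q ^ 3 - 1) by
        rw [Nat.mul_sub, mul_one, ← pow_succ'],
      show q ^ 4 - q ^ 2 = q ^ 2 * (q ^ 2 - 1) by rw [Nat.mul_sub, mul_one, ← pow_add],
      show q ^ 4 - q ^ 3 = q ^ 3 * (q - 1) by rw [Nat.mul_sub, mul_one, ← pow_succ]] at hSL
    have hS : Nat.card (Matrix.SpecialLinearGroup (Fin 4) F) = q ^ 6 * (q ^ 4 - 1) * (q ^ 3 - 1) * (q ^ 2 - 1) :=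
      Nat.eq_of_mul_eq_mul_left (show 0 < q - 1 by omega) (by rw [hSL]; ring)
    refine Nat.le_of_mul_le_mul_left ?_ (Nat.card_pos (α := Matrix.SpecialLinearGroup (Fin 4) F))
    refine le_trans (Nat.mul_le_mul_right _ hr) (le_of_eq ?_)
    rw [hi', hS]
    ring
  have hτ : τ ∉ f.range := by
    rintro ⟨g, hg⟩
    exact swap_notMem g (e.injective hg)
  have hi2 : f.range.index = 2 := by
    refine le_antisymm hidx ?_
    by_contra hc
    have h1 : f.range.index = 1 := by
      have := f.range.index_ne_zero_of_finite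
      omega
    exact hτ (index_eq_one.1 h1 ▸ mem_top τ)
  let ψ := f.comp (slIn : Matrix.SpecialLinearGroup (Fin 4) F →* H0 F)
  have hmem : ∀ h : H0 F, (∃ c : Fˣ, (h.1.2 : F) = (c : F) ^ 2) → f h ∈ ψ.range := by
    rintro h ⟨c, hc⟩
    obtain ⟨p, hp⟩ := act_mem_range c hc
    exact ⟨p, congrArg e hp⟩
  have hsq : ∀ x : G, x * x ∈ ψ.range := by
    intro x
    by_cases hx : x ∈ f.range
    · obtain ⟨h, rfl⟩ := hx
      rw [← map_mul]
      exact hmem _ ⟨h.1.2, by
        show ((h.1.2 * h.1.2 : Fˣ) : F) = _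
        rw [Units.val_mul, pow_two]⟩
    · obtain ⟨h, hh⟩ := (mul_mem_iff_of_index_two hi2 (a := τ) (b := x)).2 (iff_of_false hτ hx)
      have hx' : x = τ * f h := by rw [hh, ← mul_assoc, ← map_mul, swapIso_mul_self, map_one, one_mul]
      let tI : GL (Fin 4) F := Matrix.GeneralLinearGroup.mkOfDetNeZero (((h.1.1)⁻¹).1)ᵀ (by
        rw [Matrix.det_transpose]; exact (Matrix.isUnits_det_units _).ne_zero)
      have htd : tI.1.det = (h.1.2 : F) ^ 2 := by
        show ((((h.1.1)⁻¹).1)ᵀ).det = _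
        rw [Matrix.det_transpose]
        have h1 := (mem_H0).1 h.2
        have h2 : h.1.1.1.det * ((h.1.1)⁻¹).1.det = 1 := by
          rw [← Matrix.det_mul, Units.mul_inv, Matrix.det_one]
        linear_combination (h.1.2 : F) ^ 2 * h2 - ((h.1.1)⁻¹).1.det * h1
      let h' : H0 F := ⟨(tI, h.1.2⁻¹), (mem_H0).2 (by
        rw [htd, ← mul_pow, Units.inv_mul, one_pow])⟩
      have hconj : swapIso * actIso h * swapIso = actIso h' := by
        refine Subtype.ext (LinearEquiv.ext fun v => ?_)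
        simp only [Subgroup.coe_mul, LinearEquiv.mul_apply, swapIso_apply, actIso_apply]
        show swapLin ((h.1.2 : F) • ofX (h.1.1.1 * toX (swapLin v) * h.1.1.1ᵀ)) =
          ((h.1.2⁻¹ : Fˣ) : F) • ofX (((h.1.1)⁻¹.1)ᵀ * toX v * (((h.1.1)⁻¹.1)ᵀ)ᵀ)
        have h1 := dual_conj h.1.1.1 (swapLin v)
        rw [swapLin_swapLin] at h1
        have h2 : toX (swapLin (ofX (h.1.1.1 * toX (swapLin v) * h.1.1.1ᵀ))) =
            h.1.1.1.det • (((h.1.1)⁻¹.1)ᵀ * toX v * (h.1.1)⁻¹.1) := by
          set T := toX (swapLin (ofX (h.1.1.1 * toX (swapLin v) * h.1.1.1ᵀ)))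
          rw [← Matrix.smul_mul, ← Matrix.mul_smul, ← h1]
          simp only [← Matrix.mul_assoc]
          rw [← Matrix.transpose_mul, Units.mul_inv, Matrix.transpose_one, Matrix.one_mul,
            Matrix.mul_assoc, Units.mul_inv, Matrix.mul_one]
        have h3 := congrArg ofX h2
        rw [ofX_toX, map_smul] at h3
        rw [map_smul, h3, smul_smul, Matrix.transpose_transpose]
        congr 1
        have h4 := (mem_H0).1 h.2
        rw [Units.val_inv_eq_inv_val]
        field_simp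
        linear_combination h4
      have hxx : x * x = f (h' * h) := by
        rw [hx', map_mul f h' h]
        show e swapIso * e (actIso h) * (e swapIso * e (actIso h)) = e (actIso h') * e (actIso h)
        rw [← hconj, map_mul, map_mul]
        simp only [mul_assoc]
      rw [hxx]
      refine hmem _ ⟨1, ?_⟩
      show ((h.1.2⁻¹ * h.1.2 : Fˣ) : F) = _
      rw [inv_mul_cancel, Units.val_one, one_pow]
  have hperf : commutator (Matrix.SpecialLinearGroup (Fin 4) F) = ⊤ :=
    LinGrp.commutator_SL_eq_top (by simp)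
  have hr : commutator G = ψ.range := by
    refine le_antisymm (OrthSmall.commutator_le_of_sq _ hsq) ?_
    rw [MonoidHom.range_eq_map, ← hperf, _root_.commutator_def, _root_.commutator_def, map_commutator]
    exact commutator_mono le_top le_top
  have hψk : ψ.ker ≤ center (Matrix.SpecialLinearGroup (Fin 4) F) := by
    intro s hs
    have h1 : slIn s ∈ f.ker := hs
    rw [hfker, MonoidHom.mem_ker] at h1
    obtain ⟨a, ha, -⟩ := act_trivial h1
    have ha' : s.1 = Matrix.scalar (Fin 4) a := ha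
    refine mem_center_iff.2 fun t => Matrix.SpecialLinearGroup.ext _ _ fun i j => ?_
    have h2 : t.1 * s.1 = s.1 * t.1 := by
      rw [ha', (Matrix.scalar_commute a (mul_comm a) t.1).eq]
    exact congrFun (congrFun h2 i) j
  have hc : center (Matrix.SpecialLinearGroup (Fin 4) F ⧸ center (Matrix.SpecialLinearGroup (Fin 4) F)) = ⊥ := by
    haveI := LinGrp.isSimpleGroup_PSL (n := Fin 4) (F := F) (by simp)
    refine SmallSimple.center_eq_bot (G := Matrix.ProjectiveSpecialLinearGroup (Fin 4) F) fun hcm => ?_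
    have h1 := LinGrp.commutator_PSL_eq_top (n := Fin 4) (F := F) (by simp)
    refine top_ne_bot (α := Subgroup (Matrix.ProjectiveSpecialLinearGroup (Fin 4) F)) ?_
    rw [← h1, _root_.commutator_def, Subgroup.commutator_eq_bot_iff_le_centralizer]
    exact fun x _ => mem_centralizer_iff.2 fun y _ => hcm.is_comm.comm y x
  exact OrthSmall.derived_modulo_center_le ψ hr hψk hc

end Cfsg.Agent.S0302
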