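import Cfsg.Statements.S0301
import Cfsg.Agent.S0302
import Cfsg.Agent.S0286
import Cfsg.Agent.S0269
import Cfsg.Agent.S0270
import Cfsg.Agent.Lib.Forms.SpOrder
import Mathlib


set_option autoImplicit false
open Cfsg

namespace Cfsg.Agent.S0301

open Subgroup

open Matrix FormsLib OrthOrder S0302

abbrev J4 := Fin 2 ⊕ Fin 2
abbrev I5 := Unit ⊕ J4

variable {F : Type*} [Field F]

/-- The order of symplectic coordinates. -/
def idx : J4 ≃ Fin 4 where
  toFun := Sum.elim ![0, 1] ![2, 3]
  invFun := ![.inl 0, .inl 1, .inr 0, .inr 1]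
  left_inv i := by rcases i with i | i <;> fin_cases i <;> rfl
  right_inv i := by fin_cases i <;> rfl

/-- Symplectic matrices as invertible four by four matrices. -/
noncomputable def spGL (F : Type*) [Field F] : Matrix.symplecticGroup (Fin 2) F →* GL (Fin 4) F :=
  (Units.map (Matrix.reindexAlgEquiv F F idx).toMonoidHom).comp
    (Matrix.symplecticGroup (Fin 2) F).subtype.toHomUnits

theorem spGL_val (s : Matrix.symplecticGroup (Fin 2) F) :
    (spGL F s).1 = Matrix.reindexAlgEquiv F F idx s.1 := rfl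

/-- The vector of the symplectic form. -/
def om (F : Type*) [Field F] : I6 → F := Sum.elim ![0, -1, 0] ![0, 1, 0]

theorem toX_om : toX (om F) = Matrix.reindexAlgEquiv F F idx (Matrix.J (Fin 2) F) := by
  ext i j
  fin_cases i <;> fin_cases j <;> simp [toX, om, idx, Matrix.J, Matrix.fromBlocks]

theorem spGL_fix (s : Matrix.symplecticGroup (Fin 2) F) :
    (spGL F s).1 * toX (om F) * (spGL F s).1ᵀ = toX (om F) := by
  rw [toX_om, spGL_val]
  have h := SymplecticGroup.mem_iff.1 s.2
  have e : (Matrix.reindexAlgEquiv F F idx s.1)ᵀ = Matrix.reindexAlgEquiv F F idx s.1ᵀ := by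
    ext i j; simp [Matrix.reindexAlgEquiv_apply]
  rw [e, ← map_mul, ← map_mul, h]

theorem qPlus_om : qPlus 3 F (om F) = -1 := by
  rw [qPlus_apply]; simp [Cfsg.quadFormPlus, om, Fin.sum_univ_three]

theorem spGL_det (s : Matrix.symplecticGroup (Fin 2) F) : (spGL F s).1.det = 1 := by
  have h := pf_conj (spGL F s).1 (om F)
  rw [spGL_fix, ofX_toX, qPlus_om] at h
  linear_combination h

/-- `Sp_4` inside `H0`. -/
noncomputable def spIn : Matrix.symplecticGroup (Fin 2) F →* H0 F :=
  ((spGL F).prod 1).codRestrict (H0 F) fun s => (mem_H0).2 (by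
    show ((1 : Fˣ) : F) ^ 2 * (spGL F s).1.det = 1
    rw [spGL_det, Units.val_one, one_pow, one_mul])

/-- Elements fixing the symplectic form. -/
def Hom5 (F : Type*) [Field F] : Subgroup (H0 F) where
  carrier := {g | (actIso g).1 (om F) = om F}
  one_mem' := by simp
  mul_mem' {a b} ha hb := by
    show (actIso (a * b)).1 (om F) = om F
    rw [map_mul, Subgroup.coe_mul, LinearEquiv.mul_apply, hb, ha]
  inv_mem' {a} ha := by
    show (actIso a⁻¹).1 (om F) = om F
    conv_lhs => rw [← ha]
    rw [map_inv, Subgroup.coe_inv]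
    exact (actIso a).1.symm_apply_apply _

theorem spIn_mem (s : Matrix.symplecticGroup (Fin 2) F) : spIn s ∈ Hom5 F := by
  show (actIso (spIn s)).1 (om F) = om F
  rw [actIso_apply]
  show ((1 : Fˣ) : F) • ofX ((spGL F s).1 * toX (om F) * (spGL F s).1ᵀ) = om F
  rw [spGL_fix, ofX_toX, Units.val_one, one_smul]

/-- The orthogonal of the form. -/
def emb : (I5 → F) →ₗ[F] (I6 → F) where
  toFun v := Sum.elim ![v (.inr (.inl 0)), v (.inl ()), v (.inr (.inl 1))]
    ![v (.inr (.inr 0)), v (.inl ()), v (.inr (.inr 1))]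
  map_add' u v := by funext i; rcases i with i | i <;> fin_cases i <;> simp
  map_smul' c v := by funext i; rcases i with i | i <;> fin_cases i <;> simp

/-- Coordinates on the orthogonal. -/
def prj : (I6 → F) →ₗ[F] (I5 → F) where
  toFun v := Sum.elim (fun _ => v (.inl 1)) (Sum.elim ![v (.inl 0), v (.inl 2)] ![v (.inr 0), v (.inr 2)])
  map_add' u v := by funext i; rcases i with i | i | i <;> [rfl; fin_cases i; fin_cases i] <;> simp
  map_smul' c v := by funext i; rcases i with i | i | i <;> [rfl; fin_cases i; fin_cases i] <;> simp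

theorem prj_emb (v : I5 → F) : prj (emb v) = v := by
  funext i; rcases i with i | i | i <;> [rfl; fin_cases i; fin_cases i] <;> simp [prj, emb]

theorem q_emb (v : I5 → F) : qPlus 3 F (emb v) = qOdd 2 F v := by
  rw [qPlus_apply, qOdd_apply]
  simp [Cfsg.quadFormPlus, emb, Fin.sum_univ_three, Fin.sum_univ_two]
  ring

theorem polar_om (v : I6 → F) :
    QuadraticMap.polar (qPlus 3 F) v (om F) = v (.inl 1) - v (.inr 1) := by
  simp [QuadraticMap.polar, qPlus_apply, Cfsg.quadFormPlus, om, Fin.sum_univ_three]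
  ring

theorem emb_prj {v : I6 → F} (h : QuadraticMap.polar (qPlus 3 F) v (om F) = 0) : emb (prj v) = v := by
  rw [polar_om, sub_eq_zero] at h
  funext i; rcases i with i | i <;> fin_cases i <;> simp [prj, emb, h]

theorem emb_prj_act (g : Hom5 F) (v : I5 → F) :
    emb (prj ((actIso g.1).1 (emb v))) = (actIso g.1).1 (emb v) := by
  refine emb_prj ?_
  have h := FormsLib.polar_of_mem (actIso g.1).2 (emb v) (om F)
  rw [show (actIso g.1).1 (om F) = om F from g.2] at h
  rw [h, polar_om]
  simp [emb]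

/-- The restricted action. -/
noncomputable def resIso : Hom5 F →* oGroup (qOdd 2 F) where
  toFun g := ⟨LinearEquiv.ofLinearMap (prj.comp ((actIso g.1).1.toLinearMap.comp emb))
      (prj.comp ((actIso (g⁻¹ : Hom5 F).1).1.toLinearMap.comp emb))
      (LinearMap.ext fun v => by
        show prj ((actIso g.1).1 (emb (prj ((actIso (g⁻¹ : Hom5 F).1).1 (emb v))))) = v
        rw [emb_prj_act, Subgroup.coe_inv, map_inv, Subgroup.coe_inv,
          show ((actIso g.1).1 ((actIso g.1).1⁻¹ (emb v))) = emb v from (actIso g.1).1.apply_symm_apply _,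
          prj_emb])
      (LinearMap.ext fun v => by
        show prj ((actIso (g⁻¹ : Hom5 F).1).1 (emb (prj ((actIso g.1).1 (emb v))))) = v
        rw [emb_prj_act, Subgroup.coe_inv, map_inv, Subgroup.coe_inv,
          show ((actIso g.1).1⁻¹ ((actIso g.1).1 (emb v))) = emb v from (actIso g.1).1.symm_apply_apply _,
          prj_emb]), fun v => by
    show qOdd 2 F (prj ((actIso g.1).1 (emb v))) = _
    rw [← q_emb, emb_prj_act, (actIso g.1).2, q_emb]⟩
  map_one' := Subtype.ext (LinearEquiv.ext fun v => by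
    show prj ((actIso (1 : H0 F)).1 (emb v)) = v
    rw [map_one]
    exact prj_emb v)
  map_mul' g h := Subtype.ext (LinearEquiv.ext fun v => by
    show prj ((actIso (g.1 * h.1)).1 (emb v)) =
      prj ((actIso g.1).1 (emb (prj ((actIso h.1).1 (emb v)))))
    rw [emb_prj_act, map_mul]
    rfl)

theorem resIso_emb (g : Hom5 F) (v : I5 → F) :
    emb ((resIso g).1 v) = (actIso g.1).1 (emb v) := emb_prj_act g v

theorem res_eq_one (h2 : (2 : F) ≠ 0) {g : Hom5 F} (h : resIso g = 1) : actIso g.1 = 1 := by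
  refine Subtype.ext (LinearEquiv.ext fun v => ?_)
  obtain ⟨t, hv⟩ : ∃ t : F, QuadraticMap.polar (qPlus 3 F) (v - t • om F) (om F) = 0 :=
    ⟨-(v (.inl 1) - v (.inr 1)) / 2, by
      rw [polar_om]
      simp [om]
      field_simp
      ring⟩
  have e1 : (actIso g.1).1 (v - t • om F) = v - t • om F := by
    rw [← emb_prj hv, ← resIso_emb, h]
    rfl
  show (actIso g.1).1 v = v
  have e2 : (actIso g.1).1 (v - t • om F + t • om F) = v - t • om F + t • om F := by
    rw [map_add, map_smul, e1, show (actIso g.1).1 (om F) = om F from g.2]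
  rwa [sub_add_cancel] at e2

theorem res_ne_neg (h2 : (2 : F) ≠ 0) (g : Hom5 F) : ¬ ∀ v, (resIso g).1 v = -v := by
  intro h
  have e : ∀ v, (actIso g.1).1 (emb v) = -emb v := fun v => by
    rw [← resIso_emb, h, map_neg]
  set A := g.1.1.1.1
  have kill : ∀ (k : Fin 4) (v : I5 → F), (Pi.single k 1 : Fin 4 → F) ᵥ* toX (emb v) = 0 →
      ((Pi.single k 1 : Fin 4 → F) ᵥ* A) ᵥ* toX (emb v) = 0 := fun k v hu => by
    refine annih (e v) ?_
    rw [map_neg, Matrix.vecMul_neg, hu, neg_zero]
  let p0 : I5 → F := Pi.single (.inr (.inl 0)) 1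
  let p1 : I5 → F := Pi.single (.inr (.inl 1)) 1
  let q0 : I5 → F := Pi.single (.inr (.inr 0)) 1
  let q1 : I5 → F := Pi.single (.inr (.inr 1)) 1
  have a01 := congrFun (kill 0 q1 (by ext j; fin_cases j <;> simp [toX, emb, q1])) 2
  have a02 := congrFun (kill 0 q1 (by ext j; fin_cases j <;> simp [toX, emb, q1])) 1
  have a03 := congrFun (kill 0 q0 (by ext j; fin_cases j <;> simp [toX, emb, q0])) 2
  have a10 := congrFun (kill 1 p1 (by ext j; fin_cases j <;> simp [toX, emb, p1])) 3
  have a13 := congrFun (kill 1 p1 (by ext j; fin_cases j <;> simp [toX, emb, p1])) 0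
  have a12 := congrFun (kill 1 q0 (by ext j; fin_cases j <;> simp [toX, emb, q0])) 3
  have a20 := congrFun (kill 2 p0 (by ext j; fin_cases j <;> simp [toX, emb, p0])) 1
  have a21 := congrFun (kill 2 p0 (by ext j; fin_cases j <;> simp [toX, emb, p0])) 0
  have a23 := congrFun (kill 2 p1 (by ext j; fin_cases j <;> simp [toX, emb, p1])) 0
  have a30 := congrFun (kill 3 p0 (by ext j; fin_cases j <;> simp [toX, emb, p0])) 1
  have a31 := congrFun (kill 3 p0 (by ext j; fin_cases j <;> simp [toX, emb, p0])) 0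
  have a32 := congrFun (kill 3 q1 (by ext j; fin_cases j <;> simp [toX, emb, q1])) 1
  simp [toX, emb, p0, p1, q0, q1, Matrix.vecMul, dotProduct, Fin.sum_univ_four]
    at a01 a02 a03 a10 a12 a13 a20 a21 a23 a30 a31 a32
  have d : ∀ v : I5 → F, -toX (emb v) = (g.1.1.2 : F) • (A * toX (emb v) * Aᵀ) := fun v => by
    rw [← map_neg, ← e v, actIso_apply, toX_actLin]
  have d01 := congrFun (congrFun (d p0) 0) 1
  have d03 := congrFun (congrFun (d p1) 0) 3
  have d12 := congrFun (congrFun (d q1) 1) 2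
  have d00 := congrFun (congrFun (d (Pi.single (.inl ()) 1)) 0) 2
  have dom : toX (om F) = (g.1.1.2 : F) • (A * toX (om F) * Aᵀ) := by
    conv_lhs => rw [← show (actIso g.1).1 (om F) = om F from g.2, actIso_apply, toX_actLin]
  have dom' := congrFun (congrFun dom 0) 2
  simp [toX, emb, om, p0, p1, q0, q1, Matrix.mul_apply, Fin.sum_univ_four,
    a01, a02, a03, a10, a12, a13, a20, a21, a23, a30, a31, a32] at d01 d03 d12 d00 dom'
  refine h2 ?_
  linear_combination dom' - d00

theorem card_H5 [Fintype F] :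
    Nat.card (Matrix.symplecticGroup (Fin 2) F) * Nat.card Fˣ ≤ Nat.card (Hom5 F) := by
  rw [← Nat.card_prod]
  let D : Fˣ → GL (Fin 4) F := fun c =>
    Matrix.GeneralLinearGroup.mkOfDetNeZero (Matrix.diagonal ![(c : F), c, 1, 1])
      (by simp [Matrix.det_diagonal, Fin.prod_univ_four])
  have hD : ∀ c, (D c).1.det = (c : F) * c := fun c => by
    show (Matrix.diagonal ![(c : F), c, 1, 1]).det = _
    simp [Matrix.det_diagonal, Fin.prod_univ_four]
  have hmem : ∀ p : Matrix.symplecticGroup (Fin 2) F × Fˣ, (D p.2 * spGL F p.1, p.2⁻¹) ∈ H0 F := fun p =>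
    (mem_H0).2 (by
      show ((p.2⁻¹ : Fˣ) : F) ^ 2 * (_ * (spGL F p.1).1).det = 1
      rw [Matrix.det_mul, spGL_det, mul_one, hD, ← sq, ← mul_pow, Units.inv_mul, one_pow])
  refine Nat.card_le_card_of_injective (fun p => (⟨⟨_, hmem p⟩, ?_⟩ : Hom5 F)) ?_
  · show (actIso ⟨_, hmem p⟩).1 (om F) = om F
    rw [actIso_apply]
    show ((p.2⁻¹ : Fˣ) : F) • ofX ((D p.2).1 * (spGL F p.1).1 * toX (om F) * ((D p.2).1 * (spGL F p.1).1)ᵀ) = om F
    rw [Matrix.transpose_mul, Matrix.mul_assoc (D p.2).1, Matrix.mul_assoc (D p.2).1,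
      ← Matrix.mul_assoc ((spGL F p.1).1 * _), spGL_fix]
    show ((p.2⁻¹ : Fˣ) : F) • ofX ((Matrix.diagonal ![(p.2 : F), p.2, 1, 1]) *
      (toX (om F) * (Matrix.diagonal ![(p.2 : F), p.2, 1, 1])ᵀ)) = om F
    funext i
    rcases i with i | i <;> fin_cases i <;>
      simp [ofX, toX, om, Matrix.mul_apply, Matrix.vecMul, dotProduct, Fin.sum_univ_four]
  · rintro ⟨s, c⟩ ⟨t, d⟩ h
    have h1 : c = d := inv_injective (congrArg (fun z : Hom5 F => z.1.1.2) h)
    subst h1
    have h2 := mul_left_cancel (congrArg (fun z : Hom5 F => z.1.1.1) h)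
    have h3 : Matrix.reindexAlgEquiv F F idx s.1 = Matrix.reindexAlgEquiv F F idx t.1 :=
      congrArg (fun z : GL (Fin 4) F => z.1) h2
    exact Prod.ext (Subtype.ext ((Matrix.reindexAlgEquiv F F idx).injective h3)) rfl

/-- A scalar-adjusted element lies in the image of `Sp_4`. -/
theorem res_mem_range {h : Hom5 F} (c : Fˣ) (hμ : (h.1.1.2 : F) = (c : F) ^ 2) :
    ∃ s, resIso h = resIso ⟨spIn s, spIn_mem s⟩ := by
  set A := h.1.1.1.1
  have hfix : (h.1.1.2 : F) • (A * toX (om F) * Aᵀ) = toX (om F) := by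
    rw [← toX_actLin, ← actIso_apply, show (actIso h.1).1 (om F) = om F from h.2]
  rw [hμ] at hfix
  let B : Matrix J4 J4 F := (Matrix.reindexAlgEquiv F F idx).symm ((c : F) • A)
  have hB : Matrix.reindexAlgEquiv F F idx B = (c : F) • A := AlgEquiv.apply_symm_apply _ _
  have hBs : B ∈ Matrix.symplecticGroup (Fin 2) F := by
    rw [SymplecticGroup.mem_iff]
    apply (Matrix.reindexAlgEquiv F F idx).injective
    have e : Matrix.reindexAlgEquiv F F idx Bᵀ = (Matrix.reindexAlgEquiv F F idx B)ᵀ := by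
      ext i j; simp [Matrix.reindexAlgEquiv_apply]
    rw [map_mul, map_mul, e, hB, ← toX_om, Matrix.transpose_smul, Matrix.smul_mul, Matrix.smul_mul,
      Matrix.mul_smul, smul_smul, ← sq, hfix]
  refine ⟨⟨B, hBs⟩, Subtype.ext (LinearEquiv.ext fun v => ?_)⟩
  show prj ((actIso h.1).1 (emb v)) = prj ((actIso (spIn ⟨B, hBs⟩)).1 (emb v))
  congr 1
  rw [actIso_apply, actIso_apply]
  show (h.1.1.2 : F) • ofX (A * toX (emb v) * Aᵀ) = ((1 : Fˣ) : F) •
    ofX (Matrix.reindexAlgEquiv F F idx B * toX (emb v) * (Matrix.reindexAlgEquiv F F idx B)ᵀ)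
  rw [hB, Matrix.transpose_smul, Matrix.smul_mul, Matrix.smul_mul, Matrix.mul_smul, smul_smul, map_smul,
    Units.val_one, one_smul, hμ, sq]

/-- PΩ_5(q) is isomorphic to PSp_4(q) for q odd. -/
theorem result {F : Type*} [Field F] [Fintype F] (hodd : Odd (Fintype.card F)) : Nonempty (Cfsg.POmega F (Cfsg.quadFormOdd 2 F) ≃* Cfsg.PSp 2 F) := by
  classical
  have h2 : (2 : F) ≠ 0 := Ring.two_ne_zero fun hc => by
    have := FiniteField.even_card_of_char_two hc
    rw [Nat.odd_iff] at hodd
    omega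
  let G := Cfsg.isometryGroup F (Cfsg.quadFormOdd 2 F)
  let e : oGroup (qOdd 2 F) ≃* G :=
    (oEquiv (qOdd 2 F)).symm.trans (MulEquiv.subgroupCongr (congrArg (Cfsg.isometryGroup F) coe_qOdd))
  let f : Hom5 F →* G := e.toMonoidHom.comp resIso
  let negO : oGroup (qOdd 2 F) := ⟨LinearEquiv.neg F, fun v => by simp⟩
  let τ : G := e negO
  have hq : 3 ≤ Fintype.card F := by
    have := Fintype.one_lt_card (α := F)
    rw [Nat.odd_iff] at hodd
    omega
  have hkerle : Nat.card f.ker ≤ Nat.card (actIso : H0 F →* oGroup (qPlus 3 F)).ker := by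
    refine Nat.card_le_card_of_injective (fun g : f.ker => (⟨g.1.1, ?_⟩ : (actIso : H0 F →* oGroup (qPlus 3 F)).ker))
      fun a b hab => Subtype.ext (Subtype.ext (congrArg Subtype.val hab :))
    exact res_eq_one h2 (e.injective ((show e (resIso g.1) = 1 from g.2).trans (map_one e).symm))
  have hidx : f.range.index ≤ 2 := by
    have hO := S0286.result (F := F) rfl hodd 2
    have h := card_eq_card_quotient_mul_card_subgroup f.ker
    rw [Nat.card_congr (QuotientGroup.quotientKerEquivRange f).toEquiv] at h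
    have h1 := card_H5 (F := F)
    rw [h] at h1
    have hr : Nat.card (Matrix.symplecticGroup (Fin 2) F) ≤ Nat.card f.range :=
      Nat.le_of_mul_le_mul_right (h1.trans (Nat.mul_le_mul_left _ (hkerle.trans card_ker))) Nat.card_pos
    have hi' : Nat.card f.range * f.range.index = Nat.card G := f.range.card_mul_index
    rw [show Nat.card G = _ from hO, mul_assoc 2, ← FormsLib.card_symplecticGroup, mul_comm 2] at hi'
    refine Nat.le_of_mul_le_mul_left ?_ (Nat.card_pos (α := Matrix.symplecticGroup (Fin 2) F))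
    exact (Nat.mul_le_mul_right _ hr).trans hi'.le
  have hτ : τ ∉ f.range := by
    rintro ⟨g, hg⟩
    have hg' : resIso g = negO := e.injective hg
    exact res_ne_neg h2 g fun v => by rw [hg']; simp [negO]
  have hi2 : f.range.index = 2 := by
    refine le_antisymm hidx ?_
    by_contra hc
    have h1 : f.range.index = 1 := by
      have := f.range.index_ne_zero_of_finite
      omega
    exact hτ (index_eq_one.1 h1 ▸ mem_top τ)
  let ψ := f.comp ((spIn : Matrix.symplecticGroup (Fin 2) F →* H0 F).codRestrict (Hom5 F) spIn_mem)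
  have hmem : ∀ h : Hom5 F, (∃ c : Fˣ, (h.1.1.2 : F) = (c : F) ^ 2) → f h ∈ ψ.range := by
    rintro h ⟨c, hc⟩
    obtain ⟨s, hs⟩ := res_mem_range c hc
    exact ⟨s, (congrArg e hs).symm⟩
  have hττ : τ * τ = 1 := by
    rw [← map_mul, show negO * negO = 1 from Subtype.ext (LinearEquiv.ext fun v => by simp [negO]), map_one]
  have hcen : ∀ x : G, τ * x = x * τ := fun x => by
    obtain ⟨x, rfl⟩ := e.surjective x
    rw [← map_mul, ← map_mul]
    exact congrArg e (Subtype.ext (LinearEquiv.ext fun v => by simp [negO]))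
  have hsq : ∀ x : G, x * x ∈ ψ.range := by
    have key : ∀ h : Hom5 F, f h * f h ∈ ψ.range := fun h => by
      rw [← map_mul]
      exact hmem _ ⟨h.1.1.2, by
        show ((h.1.1.2 * h.1.1.2 : Fˣ) : F) = _
        rw [Units.val_mul, pow_two]⟩
    intro x
    by_cases hx : x ∈ f.range
    · obtain ⟨h, rfl⟩ := hx
      exact key h
    · obtain ⟨h, hh⟩ := (mul_mem_iff_of_index_two hi2 (a := τ) (b := x)).2 (iff_of_false hτ hx)
      have : x * x = f h * f h := by
        rw [hh, mul_assoc, ← mul_assoc x τ x, ← hcen x, mul_assoc τ x x, ← mul_assoc τ τ, hττ, one_mul]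
      rw [this]
      exact key h
  have hperf : commutator (Matrix.symplecticGroup (Fin 2) F) = ⊤ := S0269.result 2 (Or.inr (Or.inl ⟨rfl, hq⟩))
  have hr : commutator G = ψ.range := by
    refine le_antisymm (OrthSmall.commutator_le_of_sq _ hsq) ?_
    rw [MonoidHom.range_eq_map, ← hperf, _root_.commutator_def, _root_.commutator_def, map_commutator]
    exact commutator_mono le_top le_top
  have hψk : ψ.ker ≤ center (Matrix.symplecticGroup (Fin 2) F) := by
    intro s hs
    have h1 : resIso (⟨spIn s, spIn_mem s⟩ : Hom5 F) = 1 :=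
      e.injective ((show e (resIso ⟨spIn s, spIn_mem s⟩) = 1 from hs).trans (map_one e).symm)
    obtain ⟨a, ha, -⟩ := act_trivial (res_eq_one h2 h1)
    have ha' : Matrix.reindexAlgEquiv F F idx s.1 = Matrix.scalar (Fin 4) a := ha
    refine mem_center_iff.2 fun t => Subtype.ext ((Matrix.reindexAlgEquiv F F idx).injective ?_)
    show Matrix.reindexAlgEquiv F F idx (t.1 * s.1) = Matrix.reindexAlgEquiv F F idx (s.1 * t.1)
    rw [map_mul, map_mul, ha', (Matrix.scalar_commute a (mul_comm a) _).eq]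
  have hc : center (Matrix.symplecticGroup (Fin 2) F ⧸ center (Matrix.symplecticGroup (Fin 2) F)) = ⊥ := by
    haveI := S0270.result (F := F) 2 le_rfl fun _ => hq
    refine SmallSimple.center_eq_bot (G := Cfsg.PSp 2 F) fun hcm => ?_
    haveI : Group.IsPerfect (Matrix.symplecticGroup (Fin 2) F) := ⟨hperf⟩
    have h1 : commutator (Cfsg.PSp 2 F) = ⊤ := by
      have : Group.IsPerfect (Cfsg.PSp 2 F) := inferInstance
      exact this.commutator_eq_top
    refine top_ne_bot (α := Subgroup (Cfsg.PSp 2 F)) ?_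
    rw [← h1, _root_.commutator_def, Subgroup.commutator_eq_bot_iff_le_centralizer]
    exact fun x _ => mem_centralizer_iff.2 fun y _ => hcm.is_comm.comm y x
  exact OrthSmall.derived_modulo_center_le ψ hr hψk hc

end Cfsg.Agent.S0301
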