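import Cfsg.Statements.S0708
import Mathlib.GroupTheory.Perm.Cycle.Type
import Mathlib.Tactic

set_option autoImplicit false
open Cfsg

namespace Cfsg.Agent.S0708

open MulAction in
theorem bound {G : Type*} [Group G] {Ω : Type*} [MulAction G Ω]
    (htrans : ∀ a b c d a' b' c' d' : Ω, [a, b, c, d].Nodup → [a', b', c', d'].Nodup →
      ∃ g : G, g • a = a' ∧ g • b = b' ∧ g • c = c' ∧ g • d = d')
    (hfix : ∀ (g : G) (a b c d : Ω), [a, b, c, d].Nodup →
      g • a = a → g • b = b → g • c = c → g • d = d → g = 1)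
    {p q r s : Ω} (hd : [p, q, r, s].Nodup) :
    Finite Ω ∧ Nat.card Ω ≤ 11 ∧ (Even (Nat.card Ω) → Nat.card Ω ≤ 6) := by
  classical
  have hd' := hd
  simp only [List.nodup_cons, List.mem_cons, List.not_mem_nil, or_false, not_or, List.nodup_nil,
    and_true, not_false_iff] at hd'
  obtain ⟨⟨hpq, hpr, hps⟩, ⟨hqr, hqs⟩, hrs⟩ := hd'
  obtain ⟨u, hup, huq, hur, hus⟩ := htrans p q r s q p r s hd (by simp; tauto)
  have huu : u * u = 1 := hfix _ p q r s hd (by rw [mul_smul, hup, huq]) (by rw [mul_smul, huq, hup])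
    (by rw [mul_smul, hur, hur]) (by rw [mul_smul, hus, hus])
  have huinv : ∀ x : Ω, u • u • x = x := fun x => by rw [← mul_smul, huu, one_smul]
  have hu1 : u ≠ 1 := fun h => hpq (by rw [h, one_smul] at hup; exact hup)
  -- a set with four fixed points forces the identity
  have hfour : ∀ (g : G) (S : Finset Ω), 4 ≤ S.card → (∀ x ∈ S, g • x = x) → g = 1 := by
    intro g S hS hg
    obtain ⟨l, hl, hnd, hlen⟩ : ∃ l : List Ω, (∀ x ∈ l, x ∈ S) ∧ l.Nodup ∧ 4 ≤ l.length :=
      ⟨S.toList, fun x hx => Finset.mem_toList.mp hx, S.nodup_toList, by rwa [Finset.length_toList]⟩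
    match l, hl, hnd, hlen with
    | a :: b :: c :: d :: t, hl, hnd, _ =>
      refine hfix g a b c d (hnd.sublist ?_) (hg a (hl a (by simp))) (hg b (hl b (by simp)))
        (hg c (hl c (by simp))) (hg d (hl d (by simp)))
      simp
  -- the fixed points of `u`
  have hFfin : {x : Ω | u • x = x}.Finite := by
    by_contra hinf
    obtain ⟨S, hS, hcard⟩ := Set.Infinite.exists_subset_card_eq hinf 4
    exact hu1 (hfour u S hcard.ge fun x hx => hS (Finset.mem_coe.mpr hx))
  set F := hFfin.toFinset with hF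
  have memF : ∀ {x}, x ∈ F ↔ u • x = x := by simp [hF]
  have hF3 : F.card ≤ 3 := by
    by_contra h
    exact hu1 (hfour u F (by omega) fun x hx => memF.mp hx)
  have hF2 : 2 ≤ F.card := by
    rw [← Finset.card_pair hrs]
    exact Finset.card_le_card fun x hx => by
      simp only [Finset.mem_insert, Finset.mem_singleton] at hx
      rcases hx with rfl | rfl <;> exact memF.mpr (by assumption)
  -- the moved points
  let P : Set Ω := {x | u • x ≠ x ∧ x ≠ p ∧ x ≠ q}
  have hPu : ∀ x ∈ P, u • x ∈ P ∧ [p, q, x, u • x].Nodup := by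
    rintro x ⟨hx, hxp, hxq⟩
    have h1 : u • x ≠ p := fun h => hxq (by rw [← huinv x, h, hup])
    have h2 : u • x ≠ q := fun h => hxp (by rw [← huinv x, h, huq])
    refine ⟨⟨fun h => hx (by rw [huinv] at h; exact h.symm), h1, h2⟩, ?_⟩
    simp only [List.nodup_cons, List.mem_cons, List.not_mem_nil, or_false, not_or, List.nodup_nil,
      and_true, not_false_iff]
    exact ⟨⟨hpq, Ne.symm hxp, h1.symm⟩, ⟨Ne.symm hxq, h2.symm⟩, Ne.symm hx⟩
  have hex : ∀ x : P, ∃ g : G, g • p = p ∧ g • q = q ∧ g • (x : Ω) = u • x ∧ g • u • (x : Ω) = x := fun x => by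
    obtain ⟨-, hnd⟩ := hPu x x.2
    refine htrans p q x (u • x) p q (u • x) x hnd ?_
    simp only [List.nodup_cons, List.mem_cons, List.not_mem_nil, or_false, not_or, List.nodup_nil,
      and_true, not_false_iff] at hnd ⊢
    tauto
  choose γ hγp hγq hγx hγux using hex
  have hγsq : ∀ x, γ x * γ x = 1 := fun x => hfix _ p q x (u • x) (hPu x x.2).2
    (by rw [mul_smul, hγp, hγp]) (by rw [mul_smul, hγq, hγq]) (by rw [mul_smul, hγx, hγux])
    (by rw [mul_smul, hγux, hγx])
  have hγu : ∀ x, γ x * u = u * γ x := fun x => by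
    refine (inv_mul_eq_one.mp (hfix ((γ x * u)⁻¹ * (u * γ x)) p q x (u • x) (hPu x x.2).2 ?_ ?_ ?_ ?_))
    all_goals rw [mul_smul, inv_smul_eq_iff, mul_smul, mul_smul]
    · rw [hγp, hup, hγq]
    · rw [hγq, huq, hγp]
    · rw [hγx, huinv, hγux]
    · rw [hγux, huinv, hγx]
  have hγne : ∀ x, γ x ≠ 1 := fun x h => x.2.1 (by
    have := hγx x
    rw [h, one_smul] at this
    exact this.symm)
  -- each involution serves at most one pair
  have hfibre : ∀ (g : G) (S : Finset P), (∀ x ∈ S, γ x = g) → S.card ≤ 2 := by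
    intro g S hS
    by_contra h
    obtain ⟨x, hx, y, hy, z, hz, hxy, hxz, hyz⟩ := Finset.two_lt_card.mp (not_le.mp h)
    have hfx : ∀ w ∈ S, (g * u) • (w : Ω) = w ∧ (g * u) • u • (w : Ω) = u • w := fun w hw => by
      refine ⟨?_, ?_⟩
      · rw [mul_smul, ← hS w hw, hγux]
      · rw [mul_smul, huinv, ← hS w hw, hγx]
    have hgu : g * u ≠ 1 := fun h => hpq (by
      have := congrArg (fun k : G => k • p) h
      simp only [mul_smul, hup, one_smul] at this
      rw [← hS x hx, hγq] at this
      exact this.symm)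
    let T : Finset Ω := {(x : Ω), u • (x : Ω), (y : Ω), u • (y : Ω), (z : Ω)}
    refine hgu (hfour _ T ?_ ?_)
    · by_cases hyx : (y : Ω) = u • (x : Ω)
      · have hzx : (z : Ω) ≠ u • (x : Ω) := fun e => hyz (Subtype.ext (hyx.trans e.symm))
        have : ({(x : Ω), u • (x : Ω), (z : Ω), u • (z : Ω)} : Finset Ω).card = 4 := by
          have h1 : (x : Ω) ≠ u • (x : Ω) := Ne.symm x.2.1
          have h2 : (x : Ω) ≠ z := fun e => hxz (Subtype.ext e)
          have h3 : (x : Ω) ≠ u • (z : Ω) := fun e => hzx (by rw [e, huinv])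
          have h4 : u • (x : Ω) ≠ u • (z : Ω) := fun e => h2 (MulAction.injective u e)
          have h5 : (z : Ω) ≠ u • (z : Ω) := Ne.symm z.2.1
          simp [h1, h2, h3, h4, h5, Ne.symm hzx]
        exfalso
        refine hgu (hfour _ _ this.ge ?_)
        intro w hw
        simp only [Finset.mem_insert, Finset.mem_singleton] at hw
        rcases hw with rfl | rfl | rfl | rfl
        exacts [(hfx x hx).1, (hfx x hx).2, (hfx z hz).1, (hfx z hz).2]
      · have h1 : (x : Ω) ≠ u • (x : Ω) := Ne.symm x.2.1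
        have h2 : (x : Ω) ≠ y := fun e => hxy (Subtype.ext e)
        have h3 : (x : Ω) ≠ u • (y : Ω) := fun e => hyx (by rw [e, huinv])
        have h4 : u • (x : Ω) ≠ u • (y : Ω) := fun e => h2 (MulAction.injective u e)
        have h5 : (y : Ω) ≠ u • (y : Ω) := Ne.symm y.2.1
        have : ({(x : Ω), u • (x : Ω), (y : Ω), u • (y : Ω)} : Finset Ω).card = 4 := by
          simp [h1, h2, h3, h4, h5, Ne.symm hyx]
        refine this.ge.trans (Finset.card_le_card fun w hw => ?_)
        simp only [T, Finset.mem_insert, Finset.mem_singleton] at hw ⊢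
        tauto
    · intro w hw
      simp only [T, Finset.mem_insert, Finset.mem_singleton] at hw
      rcases hw with rfl | rfl | rfl | rfl | rfl
      exacts [(hfx x hx).1, (hfx x hx).2, (hfx y hy).1, (hfx y hy).2, (hfx z hz).1]
  -- the involutions act faithfully on the fixed points
  have hγF : ∀ (x : P), ∀ y ∈ F, γ x • y ∈ F := fun x y hy => memF.mpr (by
    rw [← mul_smul, ← hγu, mul_smul, memF.mp hy])
  let π : P → Equiv.Perm F := fun x =>
    { toFun := fun y => ⟨γ x • (y : Ω), hγF x y y.2⟩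
      invFun := fun y => ⟨γ x • (y : Ω), hγF x y y.2⟩
      left_inv := fun y => Subtype.ext (show γ x • γ x • (y : Ω) = y by rw [← mul_smul, hγsq, one_smul])
      right_inv := fun y => Subtype.ext (show γ x • γ x • (y : Ω) = y by rw [← mul_smul, hγsq, one_smul]) }
  have hπ : ∀ x y, π x = π y → γ x = γ y := fun x y h => by
    refine (inv_mul_eq_one.mp (hfix ((γ x)⁻¹ * γ y) p q r s hd ?_ ?_ ?_ ?_))
    all_goals rw [mul_smul, inv_smul_eq_iff]
    · rw [hγp, hγp]
    · rw [hγq, hγq]
    · exact (congrArg Subtype.val (Equiv.congr_fun h ⟨r, memF.mpr hur⟩)).symm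
    · exact (congrArg Subtype.val (Equiv.congr_fun h ⟨s, memF.mpr hus⟩)).symm
  have hπinv : ∀ x, π x * π x = 1 ∧ π x ≠ 1 := fun x => by
    refine ⟨Equiv.ext fun y => (π x).left_inv y, fun h => hγne x ?_⟩
    refine hfix _ p q r s hd (hγp x) (hγq x) ?_ ?_
    · exact congrArg Subtype.val (Equiv.congr_fun h ⟨r, memF.mpr hur⟩)
    · exact congrArg Subtype.val (Equiv.congr_fun h ⟨s, memF.mpr hus⟩)
  let I := (Finset.univ : Finset (Equiv.Perm F)).filter fun σ => σ * σ = 1 ∧ σ ≠ 1
  have hI : I.card ≤ if F.card = 2 then 1 else 3 := by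
    have hI' : ∀ (n : ℕ) (e : F ≃ Fin n),
        I.card ≤ ((Finset.univ : Finset (Equiv.Perm (Fin n))).filter fun σ => σ * σ = 1 ∧ σ ≠ 1).card := by
      intro n e
      refine Finset.card_le_card_of_injOn (fun σ => e.permCongr σ) ?_ (fun a _ b _ h => e.permCongr.injective h)
      intro σ hσ
      simp only [I, Finset.coe_filter, Finset.mem_univ, true_and, Set.mem_setOf_eq] at hσ ⊢
      refine ⟨by rw [← Equiv.permCongr_mul, hσ.1]; exact Equiv.ext fun y => by simp, fun h => hσ.2 ?_⟩
      exact e.permCongr.injective (h.trans (Equiv.ext fun y => by simp))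
    by_cases h2 : F.card = 2
    · rw [if_pos h2]
      refine (hI' 2 (Fintype.equivFinOfCardEq (by rw [Fintype.card_coe, h2]))).trans ?_
      decide
    · rw [if_neg h2]
      refine (hI' 3 (Fintype.equivFinOfCardEq (by rw [Fintype.card_coe]; omega))).trans ?_
      decide
  have hPfin : ∀ S : Finset P, S.card ≤ 2 * I.card := fun S => by
    refine (Finset.card_le_mul_card_image (f := π) S 2 fun σ hσ => ?_).trans
      (Nat.mul_le_mul_left 2 (Finset.card_le_card fun σ hσ => ?_))
    · obtain ⟨x, -, rfl⟩ := Finset.mem_image.mp hσ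
      exact hfibre (γ x) _ fun y hy => hπ y x (Finset.mem_filter.mp hy).2
    · obtain ⟨x, -, rfl⟩ := Finset.mem_image.mp hσ
      exact Finset.mem_filter.mpr ⟨Finset.mem_univ _, hπinv x⟩
  haveI : Finite P := by
    by_contra hinf
    rw [not_finite_iff_infinite] at hinf
    obtain ⟨S, hS⟩ := Infinite.exists_subset_card_eq P (2 * I.card + 1)
    have := hPfin S
    omega
  have hPf : P.Finite := Set.toFinite P
  have huniv : (Set.univ : Set Ω) ⊆ ↑(F ∪ {p, q} ∪ hPf.toFinset) := fun x _ => by
    simp only [Finset.coe_union, Finset.coe_insert, Finset.coe_singleton, Set.mem_union,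
      Set.mem_insert_iff, Set.mem_singleton_iff, Finset.mem_coe, Set.Finite.mem_toFinset, memF, P,
      Set.mem_setOf_eq]
    tauto
  haveI : Finite Ω := Set.finite_univ_iff.mp ((Finset.finite_toSet _).subset huniv)
  haveI := Fintype.ofFinite Ω
  have huni : F ∪ {p, q} ∪ hPf.toFinset = Finset.univ := Finset.eq_univ_iff_forall.mpr fun x =>
    Finset.mem_coe.mp (huniv (Set.mem_univ x))
  have hcard : Fintype.card Ω = F.card + 2 + Fintype.card P := by
    rw [← Finset.card_univ, ← huni, Finset.card_union_of_disjoint, Finset.card_union_of_disjoint,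
      Finset.card_pair hpq]
    · congr 1
      rw [Set.Finite.card_toFinset hPf]
    · rw [Finset.disjoint_left]
      intro x hx hx'
      simp only [Finset.mem_insert, Finset.mem_singleton] at hx'
      rcases hx' with rfl | rfl
      · exact hpq ((memF.mp hx).symm.trans hup)
      · exact hpq ((memF.mp hx).symm.trans huq).symm
    · rw [Finset.disjoint_left]
      intro x hx hx'
      rw [Set.Finite.mem_toFinset] at hx'
      simp only [Finset.mem_union, Finset.mem_insert, Finset.mem_singleton] at hx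
      rcases hx with hx | hx | hx
      · exact hx'.1 (memF.mp hx)
      · exact hx'.2.1 hx
      · exact hx'.2.2 hx
  have hP := hPfin Finset.univ
  rw [Finset.card_univ] at hP
  refine ⟨inferInstance, ?_, fun hev => ?_⟩ <;> rw [Nat.card_eq_fintype_card] at *
  · split_ifs at hI <;> omega
  · have hpar : F.card % 2 = Fintype.card Ω % 2 := by
      let σ : Equiv.Perm Ω := MulAction.toPerm u
      have hσ : σ ^ 2 ^ 1 = 1 := Equiv.ext fun x => by
        rw [pow_one, pow_two]; exact huinv x
      have := Equiv.Perm.card_compl_support_modEq (p := 2) hσ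
      have e : σ.supportᶜ = F := by
        ext x
        rw [Finset.mem_compl, Equiv.Perm.notMem_support, memF]
        rfl
      rw [e] at this
      exact this
    obtain ⟨k, hk⟩ := hev
    rw [if_pos (by omega)] at hI
    omega

/-- Tits' argument: a sharply 4-transitive group (no finiteness assumed) has finite degree at most 11, and at most 6 when the degree is even. -/
theorem result {G : Type*} [Group G] {Ω : Type*} [MulAction G Ω] (h4 : MulAction.IsMultiplyPretransitive G Ω 4) (hsharp : ∀ x : Fin 4 ↪ Ω, MulAction.stabilizer G x = ⊥) (hne : Nonempty (Fin 4 ↪ Ω)) : Finite Ω ∧ Nat.card Ω ≤ 11 ∧ (Even (Nat.card Ω) → Nat.card Ω ≤ 6) := by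
  classical
  obtain ⟨x⟩ := hne
  have hl : [x 0, x 1, x 2, x 3].Nodup := by
    simp only [List.nodup_cons, List.mem_cons, List.not_mem_nil, or_false, not_or, List.nodup_nil,
      and_true, not_false_iff, x.injective.eq_iff]
    decide
  have mk : ∀ a b c d : Ω, [a, b, c, d].Nodup → ∃ y : Fin 4 ↪ Ω, y 0 = a ∧ y 1 = b ∧ y 2 = c ∧ y 3 = d :=
    fun a b c d h => ⟨⟨[a, b, c, d].get, List.nodup_iff_injective_get.mp h⟩, rfl, rfl, rfl, rfl⟩
  refine bound (G := G) (fun a b c d a' b' c' d' h h' => ?_) (fun g a b c d h ha hb hc hd => ?_) hl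
  · obtain ⟨y, rfl, rfl, rfl, rfl⟩ := mk a b c d h
    obtain ⟨y', rfl, rfl, rfl, rfl⟩ := mk a' b' c' d' h'
    obtain ⟨g, hg⟩ := h4.exists_smul_eq y y'
    exact ⟨g, DFunLike.congr_fun hg 0, DFunLike.congr_fun hg 1, DFunLike.congr_fun hg 2, DFunLike.congr_fun hg 3⟩
  · obtain ⟨y, rfl, rfl, rfl, rfl⟩ := mk a b c d h
    have hg : g ∈ MulAction.stabilizer G y := by
      rw [MulAction.mem_stabilizer_iff]
      ext i
      fin_cases i <;> assumption
    rwa [hsharp, Subgroup.mem_bot] at hg

end Cfsg.Agent.S0708
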