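import Cfsg.Statements.S0743
import Cfsg.Agent.Lib.PermGp.MultiTrans

set_option autoImplicit false
open Cfsg

namespace Cfsg.Agent.S0743

/-- Gleason's Lemma: let `p` be a prime and `1 ≤ k < n`; if every `k`-subset of the `n` points is exactly the fixed-point set of some `p`-subgroup of `G`, then `G` is `k`-transitive. -/
theorem result {α : Type*} [Fintype α] [DecidableEq α] (G : Subgroup (Equiv.Perm α)) {p k : ℕ} (hp : p.Prime) (hk : 1 ≤ k) (hkn : k < Fintype.card α) (h : ∀ s : Finset α, s.card = k → ∃ P : Subgroup G, IsPGroup p P ∧ MulAction.fixedPoints P α = (s : Set α)) : MulAction.IsMultiplyPretransitive G α k := by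
  classical
  haveI := Fact.mk hp
  refine PermGp.mt_of_fix_card hkn fun s hs x y hx hy => ?_
  by_contra hcon
  push Not at hcon
  set S : Subgroup G := fixingSubgroup G (s : Set α)
  have key : ∀ z : α, z ∉ s → ∀ w : α, w ∉ s →
      (p ∣ Nat.card (MulAction.orbit S w) ↔ z ∉ MulAction.orbit S w) := by
    intro z hz w hw
    obtain ⟨P, hP, hfix⟩ := h (insert z s) (by rw [Finset.card_insert_of_notMem hz]; omega)
    have hfix' : ∀ a : α, (∀ g : P, g • a = a) ↔ a ∈ insert z s := fun a => by
      rw [← Finset.mem_coe, ← hfix]; exact Iff.rfl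
    have hPS : P ≤ S := fun g hg =>
      PermGp.mem_fixingSubgroup_finset.mpr fun a ha => (hfix' a).mpr (Finset.mem_insert_of_mem ha) ⟨g, hg⟩
    let act : MulAction P (MulAction.orbit S w) :=
      { smul := fun g a => ⟨g • (a : α), MulAction.mem_orbit_of_mem_orbit (⟨g, hPS g.2⟩ : S) a.2⟩
        one_smul := fun a => Subtype.ext (one_smul _ (a : α))
        mul_smul := fun g g' a => Subtype.ext (mul_smul g g' (a : α)) }
    have hmod := hP.card_modEq_card_fixedPoints (MulAction.orbit S w)
    have hf : ∀ a : MulAction.orbit S w, a ∈ MulAction.fixedPoints P (MulAction.orbit S w) ↔ (a : α) = z := by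
      intro a
      have h1 : a ∈ MulAction.fixedPoints P (MulAction.orbit S w) ↔ (a : α) ∈ insert z s := by
        rw [← hfix']
        exact ⟨fun h g => congrArg Subtype.val (h g), fun h g => Subtype.ext (h g)⟩
      rw [h1, Finset.mem_insert, or_iff_left]
      intro ha
      apply hw
      obtain ⟨g, hg⟩ := a.2
      have hg' : g • w = a := hg
      have : g • (a : α) = a := PermGp.mem_fixingSubgroup_finset.mp g.2 _ ha
      rw [← hg'] at this
      have := MulAction.injective g this
      rw [hg'] at this
      exact this ▸ ha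
    by_cases hzo : z ∈ MulAction.orbit S w
    · have hu : Nat.card (MulAction.fixedPoints P (MulAction.orbit S w)) = 1 := by
        rw [Nat.card_eq_one_iff_unique]
        exact ⟨⟨fun a b => Subtype.ext (Subtype.ext (((hf _).mp a.2).trans ((hf _).mp b.2).symm))⟩,
          ⟨⟨⟨z, hzo⟩, (hf _).mpr rfl⟩⟩⟩
      rw [hu] at hmod
      simp only [hzo, not_true_eq_false, iff_false]
      intro hd
      have := (Nat.modEq_zero_iff_dvd.mpr hd).symm.trans hmod
      rw [Nat.ModEq, Nat.zero_mod, Nat.mod_eq_of_lt hp.one_lt] at this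
      exact zero_ne_one this
    · have hu : Nat.card (MulAction.fixedPoints P (MulAction.orbit S w)) = 0 := by
        have : IsEmpty (MulAction.fixedPoints P (MulAction.orbit S w)) :=
          ⟨fun a => hzo ((hf _).mp a.2 ▸ a.1.2)⟩
        exact Nat.card_of_isEmpty
      rw [hu] at hmod
      exact iff_of_true (Nat.modEq_zero_iff_dvd.mp hmod) hzo
  have h1 := key x hx x hx
  have h2 := key y hy x hx
  have hyo : y ∉ MulAction.orbit S x := by
    rintro ⟨g, hg⟩
    exact hcon g (PermGp.mem_fixingSubgroup_finset.mp g.2) hg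
  exact (h1.mp (h2.mpr hyo)) (MulAction.mem_orbit_self x)

end Cfsg.Agent.S0743
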