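import Cfsg.Statements.S0265
import Cfsg.Agent.Lib.LinearGroups.Basic

set_option autoImplicit false
open Cfsg

namespace Cfsg.Agent.S0265

/-- |PGL_n(q)| = |SL_n(q)|: GL_n modulo its centre (the q-1 non-zero scalars) has the same order as the kernel of det. -/
theorem result {F : Type*} [Field F] [Fintype F] (n : ℕ) : Nat.card (Matrix.ProjGenLinGroup (Fin n) F) = Nat.card (Matrix.SpecialLinearGroup (Fin n) F) := by
  rcases Nat.eq_zero_or_pos n with rfl | hn
  · haveI : Subsingleton (Matrix.GeneralLinearGroup (Fin 0) F) :=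
      ⟨fun A B => Units.ext (Subsingleton.elim _ _)⟩
    haveI : Subsingleton (Matrix.ProjGenLinGroup (Fin 0) F) :=
      Matrix.ProjGenLinGroup.mk_surjective.subsingleton
    rw [Nat.card_of_subsingleton (1 : Matrix.ProjGenLinGroup (Fin 0) F),
      Nat.card_of_subsingleton (1 : Matrix.SpecialLinearGroup (Fin 0) F)]
  haveI : Nonempty (Fin n) := ⟨⟨0, hn⟩⟩
  have hc : Nat.card (Subgroup.center (Matrix.GeneralLinearGroup (Fin n) F)) = Nat.card F - 1 := by
    rw [Matrix.GeneralLinearGroup.center_eq_range_scalar, ← Nat.card_units]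
    refine Nat.card_congr (Equiv.symm (Equiv.ofInjective _ ?_))
    intro a b hab
    have := congrArg (fun g : Matrix.GeneralLinearGroup (Fin n) F => g.1 ⟨0, hn⟩ ⟨0, hn⟩) hab
    exact Units.ext (by simpa using this)
  have h := Subgroup.card_eq_card_quotient_mul_card_subgroup
    (Subgroup.center (Matrix.GeneralLinearGroup (Fin n) F))
  rw [LinGrp.natCard_GL_eq, hc, mul_comm] at h
  have : 1 < Nat.card F := Finite.one_lt_card
  exact (Nat.eq_of_mul_eq_mul_right (by omega) h).symm

end Cfsg.Agent.S0265
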