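import Cfsg.Statements.S0719
import Cfsg.Agent.Lib.PermGp.WielandtType
import Mathlib.Combinatorics.Enumerative.DoubleCounting

set_option autoImplicit false
open Cfsg Cfsg.Agent

namespace Cfsg.Agent.S0719

open MulAction in
private theorem orbit_card_ne_one {G Ω : Type*} [Group G] [MulAction G Ω] [Fintype Ω]
    (hprim : IsPreprimitive G Ω) (a b : Ω) (hab : b ≠ a)
    (hn : 4 ≤ Fintype.card Ω) (hrank : Nat.card (orbitRel.Quotient (stabilizer G a) Ω) = 3) :
    Nat.card (orbit (stabilizer G a) b) ≠ 1 := by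
  classical
  intro h1
  have hsub : Subsingleton (orbit (stabilizer G a) b) := (Nat.card_eq_one_iff_unique.mp h1).1
  have hfixb : ∀ g : G, g • a = a → g • b = b := fun g hg =>
    congrArg Subtype.val (hsub.elim ⟨g • b, ⟨⟨g, hg⟩, rfl⟩⟩ ⟨b, mem_orbit_self b⟩)
  have := hprim
  have : Nontrivial Ω := ⟨⟨a, b, hab.symm⟩⟩
  have hco : IsCoatom (stabilizer G a) := (isCoatom_stabilizer_iff_preprimitive (G := G) a).mpr hprim
  obtain ⟨g, hg⟩ := exists_smul_eq G a b
  -- the stabiliser fixes every point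
  have hle : stabilizer G a = stabilizer G b := by
    rcases eq_or_lt_of_le (show stabilizer G a ≤ stabilizer G b from fun x hx => hfixb x hx) with h | h
    · exact h
    · have htop := hco.2 _ h
      obtain ⟨k, hk⟩ := exists_smul_eq G b a
      exact absurd ((show k • b = b from (htop ▸ Subgroup.mem_top k : k ∈ stabilizer G b)).symm.trans hk) hab
  have hnorm : g ∈ Subgroup.normalizer ((stabilizer G a : Subgroup G) : Set G) := by
    rw [Subgroup.mem_normalizer_iff]
    intro x
    conv_rhs => rw [hle]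
    simp only [mem_stabilizer_iff, mul_smul]
    rw [← hg, inv_smul_smul, smul_left_cancel_iff]
  have htop : Subgroup.normalizer ((stabilizer G a : Subgroup G) : Set G) = ⊤ := by
    refine hco.2 _ (lt_of_le_of_ne Subgroup.le_normalizer fun e => hab ?_)
    rw [← e, mem_stabilizer_iff, hg] at hnorm
    exact hnorm
  have hall : ∀ x : G, x • a = a → ∀ y : Ω, x • y = y := by
    intro x hx y
    obtain ⟨k, rfl⟩ := exists_smul_eq G a y
    have hk : k⁻¹ ∈ Subgroup.normalizer ((stabilizer G a : Subgroup G) : Set G) := htop ▸ Subgroup.mem_top _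
    have := (Subgroup.mem_normalizer_iff.mp hk x).mp hx
    rw [mem_stabilizer_iff, inv_inv, mul_smul, mul_smul, inv_smul_eq_iff] at this
    exact this
  have hle3 : Fintype.card Ω ≤ 3 := by
    rw [← hrank, ← Nat.card_eq_fintype_card]
    refine Nat.card_le_card_of_injective (fun y => (Quotient.mk'' y : orbitRel.Quotient (stabilizer G a) Ω)) ?_
    intro y y' h
    obtain ⟨⟨x, hx⟩, hxy⟩ : y ∈ orbit (stabilizer G a) y' := Quotient.exact' h
    exact hxy.symm.trans (hall x hx y')
  omega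

/-- Groups of Wielandt type: if a primitive group of degree `2m` has rank 3 and permutation character `1 + χ₁ + χ₂` with irreducible `χ₁, χ₂` of degrees `m - 1` and `m`, then `m = 2a² + 2a + 1` for some positive integer `a` and the two non-trivial subdegrees are `a(2a+1)` and `(a+1)(2a+1)`. -/
theorem result {G : Type*} [Group G] [Fintype G] {Ω : Type*} [Fintype Ω] [MulAction G Ω] (hprim : MulAction.IsPreprimitive G Ω) {m : ℕ} (hm : Fintype.card Ω = 2 * m) (a₀ : Ω) (hrank : Nat.card (MulAction.orbitRel.Quotient (MulAction.stabilizer G a₀) Ω) = 3) (χ₁ χ₂ : G → ℂ) (h₁ : Cfsg.IsIrrCharacter G χ₁) (h₂ : Cfsg.IsIrrCharacter G χ₂) (hπ : (fun g : G => (Nat.card (MulAction.fixedBy Ω g) : ℂ)) = fun g => 1 + χ₁ g + χ₂ g) (hd₁ : χ₁ 1 = (m : ℂ) - 1) (hd₂ : χ₂ 1 = m) : ∃ a : ℕ, 0 < a ∧ m = 2 * a ^ 2 + 2 * a + 1 ∧ ∀ b : Ω, b ≠ a₀ → Nat.card (MulAction.orbit (MulAction.stabilizer G a₀) b) = a * (2 * a + 1) ∨ Nat.card (MulAction.orbit (MulAction.stabilizer G a₀) b) = (a + 1) * (2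 * a + 1) := by
  classical
  have := hprim
  have hne : χ₁ ≠ χ₂ := fun e => by
    rw [e, hd₂] at hd₁
    exact one_ne_zero (by linear_combination hd₁ : (1 : ℂ) = 0)
  have hm2 : 2 ≤ m := by
    have h := CT.deg_pos h₁
    have h' := CT.deg_eq (CT.isCharacter_of_isIrr h₁)
    rw [hd₁] at h'
    have : (m : ℂ) = ((CT.deg χ₁ + 1 : ℕ) : ℂ) := by push_cast; linear_combination h'
    have := Nat.cast_injective this
    omega
  have hπ : PermGp.permChar G Ω = (fun _ : G => (1 : ℂ)) + χ₁ + χ₂ := hπ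
  have : Nonempty Ω := ⟨a₀⟩
  have hone : χ₁ ≠ (fun _ => 1) ∧ χ₂ ≠ fun _ => 1 := by
    have h := PermGp.classInner_permChar_one (G := G) (Ω := Ω)
    rw [hπ, CT.classInner_add_left, CT.classInner_add_left, CT.irr_inner_self CT.isIrrCharacter_one,
      CT.irr_inner h₁ CT.isIrrCharacter_one, CT.irr_inner h₂ CT.isIrrCharacter_one] at h
    constructor <;> intro e <;> subst e <;> simp at h <;> split_ifs at h <;> norm_num at h
  have hmult : classInner (PermGp.permChar G Ω) χ₁ = 1 := by
    rw [hπ, CT.classInner_add_left, CT.classInner_add_left, CT.irr_inner_self h₁,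
      CT.irr_inner_of_ne CT.isIrrCharacter_one h₁ hone.1.symm, CT.irr_inner_of_ne h₂ h₁ hne.symm]
    ring
  obtain ⟨E, hEinv, hEE, htr, hErow⟩ := PermGp.exists_idempotent h₁ hone.1 hmult
  rw [hd₁] at htr
  -- the three suborbits
  let cls : Ω → MulAction.orbitRel.Quotient (MulAction.stabilizer G a₀) Ω := fun y => Quotient.mk'' y
  have hcls : ∀ y y', cls y = cls y' ↔ y ∈ MulAction.orbit (MulAction.stabilizer G a₀) y' :=
    fun y y' => Quotient.eq''
  have hclsa : ∀ y, cls y = cls a₀ → y = a₀ := fun y h => by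
    obtain ⟨⟨g, hg⟩, rfl⟩ := (hcls y a₀).mp h
    exact hg
  have : Finite (MulAction.orbitRel.Quotient (MulAction.stabilizer G a₀) Ω) := inferInstance
  have := Fintype.ofFinite (MulAction.orbitRel.Quotient (MulAction.stabilizer G a₀) Ω)
  have herase : (Finset.univ.erase (cls a₀)).card = 2 := by
    rw [Finset.card_erase_of_mem (Finset.mem_univ _), Finset.card_univ, ← Nat.card_eq_fintype_card, hrank]
  obtain ⟨q₁, q₂, hq, hqs⟩ := Finset.card_eq_two.mp herase
  obtain ⟨b, rfl⟩ : ∃ b, cls b = q₁ := Quotient.mk''_surjective q₁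
  obtain ⟨c, rfl⟩ : ∃ c, cls c = q₂ := Quotient.mk''_surjective q₂
  have hb : b ≠ a₀ := fun e => by
    have : cls b ∈ Finset.univ.erase (cls a₀) := by rw [hqs]; simp
    exact Finset.ne_of_mem_erase this (by rw [e])
  have hc : c ≠ a₀ := fun e => by
    have : cls c ∈ Finset.univ.erase (cls a₀) := by rw [hqs]; simp
    exact Finset.ne_of_mem_erase this (by rw [e])
  set O : Ω → Set Ω := fun y => MulAction.orbit (MulAction.stabilizer G a₀) y
  have hbc : c ∉ O b := fun h => hq ((hcls c b).mpr h).symm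
  have hcb : b ∉ O c := fun h => hq ((hcls b c).mpr h)
  have hcov : ∀ y, y = a₀ ∨ y ∈ O b ∨ y ∈ O c := fun y => by
    by_cases h : cls y = cls a₀
    · exact Or.inl (hclsa y h)
    · have : cls y ∈ Finset.univ.erase (cls a₀) := Finset.mem_erase.mpr ⟨h, Finset.mem_univ _⟩
      rw [hqs] at this
      simp only [Finset.mem_insert, Finset.mem_singleton] at this
      exact Or.inr (this.imp (fun h => (hcls y b).mp h) (fun h => (hcls y c).mp h))
  have hsum : Nat.card (O b) + Nat.card (O c) + 1 = 2 * m := by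
    rw [← hm, Nat.card_eq_fintype_card, Nat.card_eq_fintype_card, ← Set.toFinset_card, ← Set.toFinset_card,
      ← Finset.card_union_of_disjoint, ← Finset.card_univ (α := Ω), ← Finset.card_erase_add_one (Finset.mem_univ a₀)]
    · congr 2
      ext y
      simp only [Finset.mem_union, Set.mem_toFinset, Finset.mem_erase, Finset.mem_univ, and_true]
      refine ⟨fun h e => ?_, fun h => (hcov y).resolve_left h⟩
      rcases h with ⟨⟨g, hg⟩, hgy⟩ | ⟨⟨g, hg⟩, hgy⟩
      · exact hb (MulAction.injective g ((hgy.trans e).trans (Eq.symm hg)))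
      · exact hc (MulAction.injective g ((hgy.trans e).trans (Eq.symm hg)))
    · rw [Finset.disjoint_left]
      intro y h1 h2
      rw [Set.mem_toFinset] at h1 h2
      exact hq (((hcls y b).mpr h1).symm.trans ((hcls y c).mpr h2))
  have hpaired : ∀ b c : Ω, b ≠ a₀ → c ≠ a₀ → c ∉ O b → (∀ y, y = a₀ ∨ y ∈ O b ∨ y ∈ O c) →
      Nat.card (O b) + Nat.card (O c) + 1 = 2 * m → ∃ g : G, g • a₀ = b ∧ g • b = a₀ := by
    intro b c hb hc hbc hcov hsum
    by_contra hno
    obtain ⟨g, hg⟩ := MulAction.exists_smul_eq G b a₀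
    have hga : g • a₀ ∈ O c := by
      rcases hcov (g • a₀) with h | ⟨⟨k, hk⟩, hkb⟩ | h
      · exact absurd (MulAction.injective g (hg.trans h.symm)) hb
      · have hk' : k • a₀ = a₀ := hk
        refine absurd ⟨k⁻¹ * g, ?_, ?_⟩ hno
        · rw [mul_smul, inv_smul_eq_iff]; exact hkb.symm
        · rw [mul_smul, hg, inv_smul_eq_iff, hk']
      · exact h
    -- the transpose of the first orbital is the second
    have heq : {y : Ω | ∃ k : G, k • a₀ = y ∧ k • b = a₀} = O c := by
      ext y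
      constructor
      · rintro ⟨k, rfl, hk⟩
        obtain ⟨⟨u, hu⟩, huc⟩ := hga
        exact ⟨⟨k * g⁻¹ * u, by rw [MulAction.mem_stabilizer_iff, mul_smul, mul_smul, hu,
          inv_smul_eq_iff.mpr hg.symm, hk]⟩, by
          show (k * g⁻¹ * u) • c = _
          rw [mul_smul, mul_smul, show u • c = g • a₀ from huc, inv_smul_smul]⟩
      · intro hy
        obtain ⟨⟨u, hu⟩, huc⟩ := hga
        obtain ⟨⟨v, hv⟩, hvy⟩ := hy
        refine ⟨v * u⁻¹ * g, ?_, ?_⟩
        · rw [mul_smul, mul_smul, ← show u • c = g • a₀ from huc, inv_smul_smul]; exact hvy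
        · rw [mul_smul, mul_smul, hg, inv_smul_eq_iff.mpr (Eq.symm hu), hv]
    let R : Ω → Ω → Prop := fun x y => ∃ k : G, k • a₀ = x ∧ k • b = y
    have hRinv : ∀ (k : G) x y, R (k • x) (k • y) ↔ R x y := fun k x y => by
      constructor
      · rintro ⟨u, h1, h2⟩
        exact ⟨k⁻¹ * u, by rw [mul_smul, h1, inv_smul_smul], by rw [mul_smul, h2, inv_smul_smul]⟩
      · rintro ⟨u, h1, h2⟩
        exact ⟨k * u, by rw [mul_smul, h1], by rw [mul_smul, h2]⟩
    have hr : ∀ x, (Finset.univ.filter fun y => R x y).card = Nat.card (O b) := fun x => by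
      obtain ⟨k, rfl⟩ := MulAction.exists_smul_eq G a₀ x
      rw [← Fintype.card_subtype, ← Nat.card_eq_fintype_card]
      refine (Nat.card_congr ((MulAction.toPerm k).subtypeEquiv fun y => ?_)).symm
      show y ∈ O b ↔ R (k • a₀) (k • y)
      rw [hRinv]
      exact ⟨fun ⟨⟨u, hu⟩, h⟩ => ⟨u, hu, h⟩, fun ⟨u, hu, h⟩ => ⟨⟨u, hu⟩, h⟩⟩
    have hc' : ∀ y, (Finset.univ.filter fun x => R x y).card = Nat.card (O c) := fun y => by
      obtain ⟨k, rfl⟩ := MulAction.exists_smul_eq G a₀ y
      rw [← Fintype.card_subtype, ← Nat.card_eq_fintype_card]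
      refine (Nat.card_congr ((MulAction.toPerm k).subtypeEquiv fun x => ?_)).symm
      show x ∈ O c ↔ R (k • x) (k • a₀)
      rw [hRinv, ← heq]
      rfl
    have hdouble := Finset.sum_card_bipartiteAbove_eq_sum_card_bipartiteBelow (s := (Finset.univ : Finset Ω))
      (t := (Finset.univ : Finset Ω)) R
    simp only [Finset.bipartiteAbove, Finset.bipartiteBelow, hr, hc', Finset.sum_const, smul_eq_mul,
      Finset.card_univ, hm] at hdouble
    have := Nat.eq_of_mul_eq_mul_left (by omega) hdouble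
    omega
  have hmain : ∀ b c : Ω, b ≠ a₀ → c ≠ a₀ → c ∉ O b → (∀ y, y = a₀ ∨ y ∈ O b ∨ y ∈ O c) →
      Nat.card (O b) + Nat.card (O c) + 1 = 2 * m → Nat.card (O b) ≤ Nat.card (O c) →
      ∃ a : ℕ, 0 < a ∧ m = 2 * a ^ 2 + 2 * a + 1 ∧ Nat.card (O b) = a * (2 * a + 1) ∧
        Nat.card (O c) = (a + 1) * (2 * a + 1) := by
    intro b c hb hc hbc hcov hsum hle
    obtain ⟨e, μ, r1, r2⟩ := PermGp.rank_three_relations hb hc hbc hcov (hpaired b c hb hc hbc hcov hsum)
      hEinv hEE hErow hm2 hm htr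
    have hk1 : Nat.card (O b) ≠ 1 := orbit_card_ne_one hprim a₀ b hb (by omega) hrank
    have hk0 : 0 < Nat.card (O b) := by
      rw [Nat.card_pos_iff]
      exact ⟨⟨⟨b, MulAction.mem_orbit_self b⟩⟩, inferInstance⟩
    obtain ⟨a, ha, hma, hka⟩ := PermGp.wielandt_arith hm2 (show 2 ≤ Nat.card (O b) by omega) (by omega) r1 r2
    refine ⟨a, ha, hma, hka, ?_⟩
    rw [hka, hma] at hsum
    nlinarith
  rcases le_total (Nat.card (O b)) (Nat.card (O c)) with hle | hle
  · obtain ⟨a, ha, hma, hkb, hkc⟩ := hmain b c hb hc hbc hcov hsum hle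
    refine ⟨a, ha, hma, fun y hy => ?_⟩
    rcases (hcov y).resolve_left hy with h | h
    · left; rw [MulAction.orbit_eq_iff.mpr h]; exact hkb
    · right; rw [MulAction.orbit_eq_iff.mpr h]; exact hkc
  · obtain ⟨a, ha, hma, hkc, hkb⟩ := hmain c b hc hb hcb (fun y => (hcov y).imp_right Or.symm)
      (by omega) hle
    refine ⟨a, ha, hma, fun y hy => ?_⟩
    rcases (hcov y).resolve_left hy with h | h
    · right; rw [MulAction.orbit_eq_iff.mpr h]; exact hkb
    · left; rw [MulAction.orbit_eq_iff.mpr h]; exact hkc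

end Cfsg.Agent.S0719
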