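import Cfsg.Statements.S0717
import Cfsg.Agent.Lib.PermGp.PermChar

set_option autoImplicit false
open Cfsg

namespace Cfsg.Agent.S0717

/-- All suborbits of a transitive group are self-paired (every pair of points is interchanged by some group element) if and only if the permutation character is multiplicity-free and each of its irreducible constituents is real-valued. -/
theorem result {G : Type*} [Group G] [Fintype G] {Ω : Type*} [Fintype Ω] [MulAction G Ω] [MulAction.IsPretransitive G Ω] : (∀ a b : Ω, ∃ g : G, g • a = b ∧ g • b = a) ↔ ∀ χ : G → ℂ, Cfsg.IsIrrCharacter G χ → Cfsg.classInner (fun g : G => (Nat.card (MulAction.fixedBy Ω g) : ℂ)) χ ≠ 0 → Cfsg.classInner (fun g : G => (Nat.card (MulAction.fixedBy Ω g) : ℂ)) χ = 1 ∧ ∀ g : G, (starRingEnd ℂ) (χ g) = χ g := by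
  classical
  rw [Cfsg.Agent.PermGp.self_paired_iff_symmetric]
  constructor
  · intro h
    obtain ⟨hmf, hreal⟩ := Cfsg.Agent.PermGp.mf_and_real_of_symmetric h
    intro χ hχ hne
    refine ⟨?_, hreal χ hχ hne⟩
    have := hmf χ hχ
    rw [Cfsg.Agent.PermGp.character_permRep] at this
    exact this.resolve_left hne
  · intro h M hM
    refine Cfsg.Agent.PermGp.symmetric_of_mf_real (fun χ hχ => ?_) (fun χ hχ hne => (h χ hχ hne).2) M hM
    rw [Cfsg.Agent.PermGp.character_permRep]
    exact (Classical.em _).imp id fun hne => (h χ hχ hne).1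

end Cfsg.Agent.S0717
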