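import Cfsg.Statements.S5032
-- import your own Cfsg.Agent.* helpers here
import Cfsg.Agent.Lib.Root.SetsMore


set_option autoImplicit false
open Cfsg

namespace Cfsg.Agent.S5032

/-- Let S be a set of abstract root subgroups of G with more than one member. Then the graph of rank one pairs on S is connected if and only if S is a single conjugacy class of G and some member of S has a rank one partner in S. -/
theorem result {G : Type*} [Group G] {S : Set (Subgroup G)} (hS : Cfsg.IsRootSubgroupSet S) (h2 : ∃ A ∈ S, ∃ B ∈ S, A ≠ B) :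
    Cfsg.IsConnectedFamily (Cfsg.FAdj S) S ↔
      (Cfsg.IsConjClassOfSubgroups S ∧ ∃ A ∈ S, ¬ Cfsg.IsIsolatedIn (Cfsg.FAdj S) S A) := by
  obtain ⟨A₀, hA₀, B₀, hB₀, hne₀⟩ := h2
  constructor
  · intro hc
    refine ⟨⟨⟨A₀, hA₀⟩, fun A hA B hB => ?_⟩, A₀, hA₀, fun hiso => ?_⟩
    · have h := hc A hA B hB
      clear hB
      induction h with
      | refl => exact ⟨1, (RootLib.conjBy_one A).symm⟩
      | tail _ h ih =>
        obtain ⟨g, rfl⟩ := ih
        obtain ⟨x, -, hx⟩ := RootLib.exists_conjBy_eq h.2.2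
        exact ⟨x * g, by rw [← RootLib.conjBy_conjBy, hx]⟩
    · obtain ⟨F, hF, hAF⟩ := RootLib.nonisolated_of_reach (hc A₀ hA₀ B₀ hB₀) hne₀
      exact (hiso.2 F).1 ⟨hA₀, hF, hAF⟩
  · rintro ⟨⟨-, hconj⟩, A₁, hA₁, hA₁i⟩
    obtain ⟨F₁, hF₁, hAF₁⟩ := RootLib.not_isolated_exists hA₁i hA₁
    have hall : ∀ A ∈ S, ∃ F ∈ S, IsRankOnePair A F := by
      intro A hA
      obtain ⟨g, rfl⟩ := hconj A₁ hA₁ A hA
      exact ⟨conjBy F₁ g, hS.conj_mem F₁ hF₁ g, RootLib.isRankOnePair_conj hAF₁ g⟩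
    intro A hA B hB
    obtain ⟨g, rfl⟩ := hconj A hA B hB
    exact RootLib.reach_conj hS hall g A hA

end Cfsg.Agent.S5032
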