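import Cfsg.Statements.S5031
-- import your own Cfsg.Agent.* helpers here
import Cfsg.Agent.Lib.Root.SetsMore


set_option autoImplicit false
open Cfsg

namespace Cfsg.Agent.S5031

/-- Let S be a set of abstract root subgroups of G and let A, B ∈ S lie in different connected components of the graph of rank one pairs on S, each component having more than one member. Then B is not a line partner of A. -/
theorem result {G : Type*} [Group G] {S : Set (Subgroup G)} (hS : Cfsg.IsRootSubgroupSet S)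
    {A B : Subgroup G} (hA : A ∈ S) (hB : B ∈ S)
    (hne : Cfsg.componentOf (Cfsg.FAdj S) S A ≠ Cfsg.componentOf (Cfsg.FAdj S) S B)
    (hA2 : ∃ A' ∈ Cfsg.componentOf (Cfsg.FAdj S) S A, A' ≠ A) (hB2 : ∃ B' ∈ Cfsg.componentOf (Cfsg.FAdj S) S B, B' ≠ B) :
    B ∉ Cfsg.linePartners S A := by
  rintro ⟨⟨hBS, hBA, hcomm⟩, -, hcov, -⟩
  obtain ⟨A', hA', hA'ne⟩ := hA2
  obtain ⟨B', hB', hB'ne⟩ := hB2
  obtain ⟨FA, hFA, hAF⟩ := RootLib.nonisolated_of_reach hA'.2 hA'ne.symm
  obtain ⟨FB, hFB, hBF⟩ := RootLib.nonisolated_of_reach hB'.2 hB'ne.symm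
  obtain ⟨a, ha, ha1⟩ := RootLib.exists_ne_one_of_mem hS hA
  obtain ⟨b, hb, hb1⟩ := RootLib.exists_ne_one_of_mem hS hB
  have hab1 : a * b ≠ 1 := fun e => hBA (RootLib.eq_of_inter hS hA hB hFA hAF ha
    (eq_inv_of_mul_eq_one_left e ▸ inv_mem hb) ha1)
  obtain ⟨D, hD, hd⟩ := hcov (a * b)
    (mul_mem (Subgroup.mem_sup_left ha) (Subgroup.mem_sup_right hb)) hab1
  refine hne (RootLib.componentOf_eq (RootLib.reach_of_product hS hA hB hD.1 hFA hFB hAF hBF hcomm
    hBA.symm ha ha1 hb hb1 hd ?_ ?_))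
  · rintro rfl
    exact hBA (RootLib.eq_of_inter hS hA hB hFA hAF
      (by simpa using D.mul_mem (D.inv_mem ha) hd : b ∈ D) hb hb1)
  · rintro rfl
    exact hBA (RootLib.eq_of_inter hS hA hB hFA hAF ha
      (by simpa using D.mul_mem hd (D.inv_mem hb) : a ∈ D) ha1)

end Cfsg.Agent.S5031
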