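import Cfsg.Statements.S1126
import Cfsg.Agent.Lib.RankOne.Basic
import Cfsg.Agent.Lib.Basics.CoprimeGen
import Cfsg.Agent.Lib.Basics.Cores

set_option autoImplicit false
open Cfsg

namespace Cfsg.Agent.S1126

/-- In the rank-one set-up (`G` finite and doubly transitive on `Ω`, `t` an involution moving `a`, `Q` normal in `G_a` with `G_a = Q D`, `Q ⊓ D = 1` for the two-point stabiliser `D = G_a ⊓ G_{t • a}`, `|Q|` even, `|D|` odd), a subset `X ⊆ D` fixing at least three points of `Ω` is conjugate by an element of `D` into `V = C_D(t)`. -/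
theorem result {G Ω : Type*} [Group G] [Finite G] [MulAction G Ω] {a : Ω} {t : G} {Q : Subgroup G}
    (hS : Cfsg.IsRankOneSetup G Ω a t Q)
    (X : Set G) (hX : X ⊆ ((MulAction.stabilizer G a ⊓ MulAction.stabilizer G (t • a)) : Set G))
    (h3 : ∃ b c d : Ω, b ≠ c ∧ b ≠ d ∧ c ≠ d ∧ ∀ x ∈ X, x • b = b ∧ x • c = c ∧ x • d = d) :
    ∃ k ∈ (MulAction.stabilizer G a ⊓ MulAction.stabilizer G (t • a)), ∀ x ∈ X, (k * x * k⁻¹) * t = t * (k * x * k⁻¹) := by
  obtain ⟨c, hca, hcb, hcX⟩ : ∃ c : Ω, c ≠ a ∧ c ≠ t • a ∧ ∀ e ∈ X, e • c = c := by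
    obtain ⟨b, c, d, hbc, hbd, hcd, hf⟩ := h3
    by_cases h1 : b ≠ a ∧ b ≠ t • a
    · exact ⟨b, h1.1, h1.2, fun e he => (hf e he).1⟩
    by_cases h2 : c ≠ a ∧ c ≠ t • a
    · exact ⟨c, h2.1, h2.2, fun e he => (hf e he).2.1⟩
    refine ⟨d, ?_, ?_, fun e he => (hf e he).2.2⟩
    · rintro rfl
      simp only [not_and_or, not_not] at h1 h2
      exact hbc ((h1.resolve_left hbd).trans (h2.resolve_left hcd).symm)
    · rintro rfl
      simp only [not_and_or, not_not] at h1 h2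
      exact hbc ((h1.resolve_right hbd).trans (h2.resolve_right hcd).symm)
  obtain ⟨w, hw, hwX⟩ := RankOne.exists_swap_commuting hS hX hca hcb hcX
  obtain ⟨l, hl, rfl⟩ := RankOne.swap_eq_conj hS hw
  refine ⟨l, hl.1, fun e he => ?_⟩
  calc l * e * l⁻¹ * t = l * (e * (l⁻¹ * t * l)) * l⁻¹ := by group
    _ = l * (l⁻¹ * t * l * e) * l⁻¹ := by rw [hwX e he]
    _ = _ := by group

end Cfsg.Agent.S1126
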