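import Cfsg.Statements.S5365
import Cfsg.Agent.Lib.Fischer3S5.Local

set_option autoImplicit false
open Cfsg

namespace Cfsg.Agent.S5365

open ClassK Fischer3S5

universe u

variable {G : Type u} [Group G] [Finite G] {D : Set G}

theorem square_case (h : Loc D) {d a : G} (hd : d ∈ D) (ha : a ∈ perp D d)
    (hno : ∀ x ∈ D, Commute d x ∨ Commute a x) :
    Nonempty (↥(Subgroup.closure D) ≃* Equiv.Perm (Fin 3) × Equiv.Perm (Fin 3)) := by
  have hall : ∀ b ∈ perp D d, ∀ y ∈ perp D a, Commute b y := by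
    intro b hb y hy
    by_cases hba : b = a
    · exact hba ▸ hy.2.2
    · have hsub : ∀ z ∈ perp D b, z ∈ perp D a := by
        intro z hz
        by_cases hzd : z = d
        · exact hzd ▸ perp_symm hd ha
        rcases hno z hz.1 with hc | hc
        · have hz' : z ∈ perp D d := ⟨hz.1, hzd, hc⟩
          exact absurd hz.2.2 (h.noncomm hd hb hz' hz.2.1.symm)
        · refine ⟨hz.1, fun hza => ?_, hc⟩
          subst hza
          exact absurd hz.2.2 (h.noncomm hd hb ha hba)
      obtain ⟨p, hp, q, hq, hpq⟩ := h.two hb.1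
      have heq := h.perp_eq hb.1 ha.1 hp hq (hsub p hp) (hsub q hq) hpq
      exact (heq.symm ▸ hy : y ∈ perp D b).2.2
  set A := Subgroup.closure (perp D d)
  set B := Subgroup.closure (perp D a)
  have hcomm : ∀ (x : ↥A) (y : ↥B), Commute (A.subtype x) (B.subtype y) := by
    intro x y
    have h1 : A ≤ Subgroup.centralizer (perp D a) := (Subgroup.closure_le _).2 fun b hb =>
      Subgroup.mem_centralizer_iff.2 fun y hy => (hall b hb y hy).symm.eq
    have h2 : B ≤ Subgroup.centralizer (A : Set G) := (Subgroup.closure_le _).2 fun y hy =>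
      Subgroup.mem_centralizer_iff.2 fun z hz =>
        (Subgroup.mem_centralizer_iff.1 (h1 hz) y hy).symm
    exact Subgroup.mem_centralizer_iff.1 (h2 y.2) x x.2
  let F : ↥A × ↥B →* G := MonoidHom.noncommCoprod A.subtype B.subtype hcomm
  obtain ⟨φ⟩ := h.sym d hd
  obtain ⟨ψ⟩ := h.sym a ha.1
  have hinj : Function.Injective F := by
    rw [injective_iff_map_eq_one]
    rintro ⟨x, y⟩ hxy
    have hxy' : (x : G) * y = 1 := hxy
    have hxc : ∀ z : ↥A, z * x = x * z := fun z => Subtype.ext (by
      have : (x : G) = ((y : G))⁻¹ := eq_inv_of_mul_eq_one_left hxy'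
      show (z : G) * x = x * z
      rw [this]
      exact ((hcomm z y).inv_right).eq)
    have key : ∀ σ : Equiv.Perm (Fin 3), (∀ τ, τ * σ = σ * τ) → σ = 1 := by decide
    have hx1 : x = 1 := φ.injective ((key _ fun τ => by
      have := congrArg φ (hxc (φ.symm τ))
      simpa using this).trans (map_one φ).symm)
    subst hx1
    rw [OneMemClass.coe_one, one_mul] at hxy'
    exact Prod.ext rfl (Subtype.ext hxy')
  have hrange : F.range = Subgroup.closure D := by
    apply le_antisymm
    · rintro _ ⟨⟨x, y⟩, rfl⟩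
      exact mul_mem (Subgroup.closure_mono (fun z hz => hz.1) x.2)
        (Subgroup.closure_mono (fun z hz => hz.1) y.2)
    · refine (Subgroup.closure_le _).2 fun x hx => ?_
      have hA : ∀ z, ∀ hz : z ∈ perp D d, z ∈ F.range := fun z hz =>
        ⟨(⟨z, Subgroup.subset_closure hz⟩, 1), by simp [F]⟩
      have hB : ∀ z, ∀ hz : z ∈ perp D a, z ∈ F.range := fun z hz =>
        ⟨(1, ⟨z, Subgroup.subset_closure hz⟩), by simp [F]⟩
      by_cases hxd : x = d
      · exact hB x (hxd ▸ perp_symm hd ha)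
      by_cases hxa : x = a
      · exact hA x (hxa ▸ ha)
      rcases hno x hx with hc | hc
      exacts [hA x ⟨hx, hxd, hc⟩, hB x ⟨hx, hxa, hc⟩]
  exact ⟨(MulEquiv.subgroupCongr hrange.symm).trans
    ((MonoidHom.ofInjective hinj).symm.trans (φ.prodCongr ψ))⟩

theorem five_case (h : Loc D) (hne : D.Nonempty)
    (hQ : ∀ d ∈ D, ∀ a ∈ perp D d, ∃ x ∈ D, ¬ Commute d x ∧ ¬ Commute a x) :
    Nonempty (↥(Subgroup.closure D) ≃* Equiv.Perm (Fin 5)) := by
  obtain ⟨d, hd⟩ := hne
  obtain ⟨a, ha, g, hg, hag⟩ := h.two hd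
  have hdg : d ∈ perp D g := perp_symm hd hg
  obtain ⟨e, heg, hed⟩ : ∃ e ∈ perp D g, e ≠ d := by
    obtain ⟨p, hp, q, hq, hpq⟩ := h.two hg.1
    by_cases hpd : p = d
    · exact ⟨q, hq, hpd ▸ hpq.symm⟩
    · exact ⟨p, hp, hpd⟩
  have hde : ¬ Commute d e := h.noncomm hg.1 hdg heg hed.symm
  have hea : ¬ Commute e a := fun hc => hed ((h.perp_inj hQ hd heg.1
    (h.perp_eq hd heg.1 ha hg
      ⟨ha.1, fun he => hde (he ▸ ha.2.2), hc⟩ (perp_symm hg.1 heg) hag))).symm
  have hag' : ¬ Commute a g := h.noncomm hd ha hg hag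
  have hrel : AdjRel d e a g :=
    ⟨tt_mul_self h.tt hd, tt_mul_self h.tt heg.1, tt_mul_self h.tt ha.1, tt_mul_self h.tt hg.1,
      tt_braid h.tt hd heg.1 hde, tt_braid h.tt heg.1 ha.1 hea, tt_braid h.tt ha.1 hg.1 hag',
      ha.2.2.eq, hg.2.2.eq, heg.2.2.symm.eq⟩
  obtain ⟨ψ, h1, h2, h3, h4⟩ := exists_hom hrel
  have hinj : Function.Injective ψ := injective_of_ne ψ (by rw [h1, h2]; exact hed.symm)
  have mD : d ∈ ψ.range := ⟨_, h1⟩
  have mE : e ∈ ψ.range := ⟨_, h2⟩
  have mA : a ∈ ψ.range := ⟨_, h3⟩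
  have mG : g ∈ ψ.range := ⟨_, h4⟩
  have hperpd : ∀ p ∈ perp D d, p ∈ ψ.range := by
    intro p hp
    rcases h.cases hd ha hg hag hp with rfl | rfl | rfl
    exacts [mA, mG, mul_mem (mul_mem mA mG) mA]
  have hpg : ∀ p ∈ perp D g, p ∈ ψ.range := by
    intro p hp
    rcases h.cases hg.1 hdg heg hed.symm hp with rfl | rfl | rfl
    exacts [mD, mE, mul_mem (mul_mem mD mE) mD]
  -- conjugation by a member of the range fixing `d`
  have hmove : ∀ w ∈ ψ.range, w * d * w⁻¹ = d → ∀ y ∈ perp D (w * g * w⁻¹), y ∈ ψ.range := by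
    intro w hw hwd y hy
    have hy' : w⁻¹ * y * w ∈ perp D g := by
      refine ⟨by simpa using h.inv w⁻¹ y hy.1, fun he => hy.2.1 ?_, ?_⟩
      · rw [← he]; group
      · have := Fischer3.commute_conj w⁻¹ hy.2.2
        simpa [mul_assoc] using this
    rw [show y = w * (w⁻¹ * y * w) * w⁻¹ by group]
    exact mul_mem (mul_mem hw (hpg _ hy')) (inv_mem hw)
  have hperp2 : ∀ p ∈ perp D d, ∀ y ∈ perp D p, y ∈ ψ.range := by
    intro p hp y hy
    have hfix : ∀ z ∈ perp D d, z * d * z⁻¹ = d := fun z hz =>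
      Fischer3.conj_eq_of_commute hz.2.2.symm
    have haga := h.third_mem hd ha hg
    rcases h.cases hd ha hg hag hp with rfl | rfl | rfl
    · refine hmove (p * g * p) (hperpd _ haga) (hfix _ haga) y ?_
      have hb := tt_braid h.tt ha.1 hg.1 hag'
      rwa [tt_inv h.tt haga.1, show p * g * p * g * (p * g * p) = p by
        have hgg := tt_mul_self h.tt hg.1
        have hpp := tt_mul_self h.tt ha.1
        calc p * g * p * g * (p * g * p) = p * (g * p * g) * (p * g * p) := by simp only [mul_assoc]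
          _ = p * (p * g * p) * (p * g * p) := by rw [hb]
          _ = (p * p) * g * (p * p) * g * p := by simp only [mul_assoc]
          _ = p := by rw [hpp, one_mul, mul_one, hgg, one_mul]]
    · exact hpg y hy
    · refine hmove a mA (hfix a ha) y ?_
      rwa [tt_inv h.tt ha.1]
  have hrange : ψ.range = Subgroup.closure D := by
    apply le_antisymm
    · rw [MonoidHom.range_eq_map, ← closure_swaps, MonoidHom.map_closure, Subgroup.closure_le]
      rintro _ ⟨s, hs, rfl⟩
      rcases hs with rfl | rfl | rfl | rfl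
      · rw [h1]; exact Subgroup.subset_closure hd
      · rw [h2]; exact Subgroup.subset_closure heg.1
      · rw [h3]; exact Subgroup.subset_closure ha.1
      · rw [h4]; exact Subgroup.subset_closure hg.1
    · refine (Subgroup.closure_le _).2 fun y hy => ?_
      by_cases hyd : y = d
      · exact hyd ▸ mD
      by_cases hc : Commute d y
      · exact hperpd y ⟨hy, hyd, hc⟩
      · obtain ⟨p, hp, hpy⟩ := h.common hQ hd hy hc
        exact hperp2 p hp y hpy
  exact ⟨((MonoidHom.ofInjective hinj).trans (MulEquiv.subgroupCongr hrange)).symm⟩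

/-- Let D be a non-empty conjugation-invariant set of involutions of a finite group G satisfying the 3-transposition order conditions, and suppose that for every d in D the members of D other than d commuting with d generate a subgroup isomorphic to the symmetric group of degree 3, and the largest normal 3-subgroup of the centralizer of d has order 3. Then the subgroup generated by D is isomorphic to the symmetric group of degree 5 or to the direct product of two symmetric groups of degree 3. -/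
theorem result {G : Type*} [Group G] [Finite G] {D : Set G} (hD : Cfsg.IsThreeTranspositionSet D) (hconj : ∀ g : G, ∀ d ∈ D, g * d * g⁻¹ ∈ D) (hne : D.Nonempty) (hloc : ∀ d ∈ D, Nonempty (↥(Subgroup.closure {y : G | y ∈ D ∧ y ≠ d ∧ Commute d y}) ≃* Equiv.Perm (Fin 3)) ∧ Nat.card (Cfsg.pCore 3 ↥(Subgroup.centralizer ({d} : Set G))) = 3) : Nonempty (↥(Subgroup.closure D) ≃* Equiv.Perm (Fin 5)) ∨ Nonempty (↥(Subgroup.closure D) ≃* Equiv.Perm (Fin 3) × Equiv.Perm (Fin 3)) := by
  have h : Loc D := ⟨hD, hconj, fun d hd => (hloc d hd).1, fun d hd => (hloc d hd).2⟩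
  by_cases hQ : ∀ d ∈ D, ∀ a ∈ perp D d, ∃ x ∈ D, ¬ Commute d x ∧ ¬ Commute a x
  · exact Or.inl (five_case h hne hQ)
  · push Not at hQ
    obtain ⟨d, hd, a, ha, hno⟩ := hQ
    exact Or.inr (square_case h hd ha fun x hx => (em (Commute d x)).imp_right (hno x hx))

end Cfsg.Agent.S5365
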