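import Cfsg.Statements.S0334
import Cfsg.Agent.Lib.Suzuki.Simple

set_option autoImplicit false
open Cfsg

namespace Cfsg.Agent.S0334

/-- Every element of the Suzuki group preserves the alternating form with antidiagonal matrix:
`gᵀ J g = J`. Hence the Suzuki group is a subgroup of a 4-dimensional symplectic group. -/
theorem result {F : Type*} [Field F] [Fintype F] {m : ℕ} (hm : 1 ≤ m)
    (hF : Fintype.card F = 2 ^ (2 * m + 1)) {g : Matrix.SpecialLinearGroup (Fin 4) F}
    (hg : g ∈ Cfsg.Sz F m) :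
    (g : Matrix (Fin 4) (Fin 4) F).transpose * Cfsg.suzukiForm F * (g : Matrix (Fin 4) (Fin 4) F) =
      Cfsg.suzukiForm F := by
  obtain ⟨D⟩ := Cfsg.Agent.Suzuki.exists_dat hm hF
  haveI := D.char2
  let J := Cfsg.suzukiForm F
  let P : Matrix.SpecialLinearGroup (Fin 4) F → Prop := fun g => (g.1).transpose * J * g.1 = J
  have hmul : ∀ a b, P a → P b → P (a * b) := fun a b ha hb => by
    show (a * b).1.transpose * J * (a * b).1 = J
    rw [Matrix.SpecialLinearGroup.coe_mul, Matrix.transpose_mul, show b.1.transpose * a.1.transpose * J * (a.1 * b.1) =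
      b.1.transpose * (a.1.transpose * J * a.1) * b.1 by simp only [Matrix.mul_assoc], ha, hb]
  have hT : ∀ a b, P (Cfsg.Agent.Suzuki.T D.θ a b) := fun a b => by
    show _ * J * _ = J
    ext i j
    simp only [J, Cfsg.Agent.Suzuki.T_val, Cfsg.Agent.Suzuki.tMat, Cfsg.Agent.Suzuki.ov, Cfsg.suzukiForm]
    fin_cases i <;> fin_cases j <;> simp [Matrix.mul_apply, Fin.sum_univ_four] <;> grind [D.two]
  have hH : ∀ u, P (Cfsg.Agent.Suzuki.H D.θ u) := fun u => by
    show _ * J * _ = J
    have h : D.θ (u : F) ≠ 0 := (map_ne_zero D.θ).2 u.ne_zero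
    ext i j
    simp only [J, Cfsg.Agent.Suzuki.H_val, Cfsg.Agent.Suzuki.hVec, Cfsg.suzukiForm]
    fin_cases i <;> fin_cases j <;> simp [Matrix.mul_apply, Fin.sum_univ_four, Matrix.diagonal] <;> field_simp
  have hw : P (Cfsg.Agent.Suzuki.w F) := by
    show _ * J * _ = J
    ext i j
    simp only [J, Cfsg.Agent.Suzuki.w_val, Cfsg.suzukiForm]
    fin_cases i <;> fin_cases j <;> simp [Matrix.mul_apply, Fin.sum_univ_four]
  rcases Cfsg.Agent.Suzuki.normal_form D hF hg with ⟨a, b, u, rfl⟩ | ⟨a, b, c, d, u, rfl⟩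
  · exact hmul _ _ (hT a b) (hH u)
  · exact hmul _ _ (hmul _ _ (hT a b) hw) (hmul _ _ (hT c d) (hH u))


end Cfsg.Agent.S0334
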