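import Cfsg.Statements.S0740
import Cfsg.Agent.Lib.PermGp.Basic

set_option autoImplicit false
open Cfsg

namespace Cfsg.Agent.S0740

open scoped Pointwise


/-- In a finite Zassenhaus group any two points `a ≠ b` are swapped by an involution; every such involution has exactly one fixed point when the degree is odd and 0 or 2 fixed points when the degree is even; and if the two-point stabiliser has even order, some such involution has exactly 2 fixed points. -/
theorem result {G Ω : Type*} [Group G] [Finite G] [MulAction G Ω] [Fintype Ω] (hZ : Cfsg.IsZassenhausGroup G Ω) {a b : Ω} (hab : a ≠ b) : (∃ s : G, orderOf s = 2 ∧ s • a = b ∧ s • b = a) ∧ (∀ s : G, orderOf s = 2 → s • a = b → s • b = a → (Odd (Fintype.card Ω) → Nat.card (MulAction.fixedBy Ω s) = 1) ∧ (Even (Fintype.card Ω) → Nat.card (MulAction.fixedBy Ω s) = 0 ∨ Nat.card (MulAction.fixedBy Ω s) = 2)) ∧ (Even (Fintype.card Ω) → Even (Nat.card ↥(MulAction.stabilizer G a ⊓ MulAction.stabilizer G b)) → ∃ s : G, orderOf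 s = 2 ∧ s • a = b ∧ s • b = a ∧ Nat.card (MulAction.fixedBy Ω s) = 2) := by
  classical
  obtain ⟨hfaith, h2, h3, hne, -⟩ := hZ
  haveI := hfaith
  haveI := Fact.mk Nat.prime_two
  have hsq : ∀ t : G, orderOf t = 2 → ∀ x : Ω, t • t • x = x := fun t ht x => by
    rw [← mul_smul, ← pow_two, ← ht, pow_orderOf_eq_one, one_smul]
  -- a conjugate of any involution interchanges `a` and `b`
  have hconj : ∀ t : G, orderOf t = 2 → ∃ q : G, orderOf (q * t * q⁻¹) = 2 ∧ (q * t * q⁻¹) • a = b ∧
      (q * t * q⁻¹) • b = a := by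
    intro t ht
    obtain ⟨c, hc⟩ : ∃ c : Ω, t • c ≠ c := by
      by_contra! hall
      have : t = 1 := FaithfulSMul.eq_of_smul_eq_smul (α := Ω) fun x => by rw [hall x, one_smul]
      simp [this] at ht
    obtain ⟨q, q1, q2⟩ := PermGp.two_trans_exists h2 hc.symm hab
    refine ⟨q, ?_, ?_, ?_⟩
    · rw [← ht]
      exact orderOf_eq_orderOf_iff.mpr fun n => by rw [conj_pow, mul_inv_eq_one, mul_eq_left]
    · nth_rewrite 1 [← q1]; rw [mul_smul, mul_smul, inv_smul_smul, q2]
    · nth_rewrite 1 [← q2]; rw [mul_smul, mul_smul, inv_smul_smul, hsq t ht, q1]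
  have hle : ∀ t : G, t ≠ 1 → Fintype.card (MulAction.fixedBy Ω t) ≤ 2 := by
    intro t ht
    by_contra hgt
    obtain ⟨x, y, z, hxy, hxz, hyz⟩ := Fintype.two_lt_card_iff.mp (by omega : 2 < Fintype.card (MulAction.fixedBy Ω t))
    exact ht (h3 t x y z (fun e => hxy (Subtype.ext e)) (fun e => hyz (Subtype.ext e))
      (fun e => hxz (Subtype.ext e)) x.2 y.2 z.2)
  have hpar : ∀ t : G, orderOf t = 2 → Fintype.card (MulAction.fixedBy Ω t) % 2 = Fintype.card Ω % 2 := by
    intro t ht
    have hP : IsPGroup 2 (Subgroup.zpowers t) := IsPGroup.of_card (n := 1) (by rw [Nat.card_zpowers, ht, pow_one])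
    have hm := hP.card_modEq_card_fixedPoints Ω
    have he : MulAction.fixedPoints (Subgroup.zpowers t) Ω = MulAction.fixedBy Ω t := by
      ext x
      refine ⟨fun h => h ⟨t, Subgroup.mem_zpowers t⟩, fun h => ?_⟩
      rintro ⟨u, hu⟩
      obtain ⟨n, rfl⟩ := Subgroup.mem_zpowers_iff.mp hu
      exact MulAction.mem_stabilizer_iff.mp
        (Subgroup.zpow_mem (MulAction.stabilizer G x) (MulAction.mem_stabilizer_iff.mpr h) n)
    rw [he, Nat.card_eq_fintype_card, Nat.card_eq_fintype_card] at hm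
    exact hm.symm
  refine ⟨?_, ?_, ?_⟩
  · obtain ⟨t, ht⟩ : ∃ t : G, orderOf t = 2 := by
      refine exists_prime_orderOf_dvd_card' 2 ?_
      obtain ⟨g, g1, g2⟩ := PermGp.two_trans_exists h2 hab hab.symm
      have hg2 : (g ^ 2) • a = a := by rw [pow_two, mul_smul, g1, g2]
      refine dvd_trans ?_ (orderOf_dvd_natCard g)
      by_contra hodd
      have hmem : g ∈ Subgroup.zpowers (g ^ 2) :=
        mem_zpowers_pow_iff.mpr ((Nat.prime_two.coprime_iff_not_dvd.mpr hodd))
      have hfixa : g ∈ MulAction.stabilizer G a := Subgroup.zpowers_le.mpr (MulAction.mem_stabilizer_iff.mpr hg2) hmem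
      exact hab (hfixa.symm.trans g1)
    obtain ⟨q, h1, h2', h3'⟩ := hconj t ht
    exact ⟨_, h1, h2', h3'⟩
  · intro s hs _ _
    have h1 := hle s (fun h => by simp [h] at hs)
    have h2 := hpar s hs
    rw [Nat.card_eq_fintype_card]
    refine ⟨fun ho => ?_, fun he => ?_⟩
    · rw [Nat.odd_iff] at ho; omega
    · rw [Nat.even_iff] at he; omega
  · intro he hH
    obtain ⟨⟨t, ht1, ht2⟩, ht⟩ :=
      exists_prime_orderOf_dvd_card' (G := ↥(MulAction.stabilizer G a ⊓ MulAction.stabilizer G b)) 2 hH.two_dvd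
    have ht' : orderOf t = 2 := by
      rw [← Subgroup.orderOf_mk (H := MulAction.stabilizer G a ⊓ MulAction.stabilizer G b) t ⟨ht1, ht2⟩]; exact ht
    obtain ⟨q, h1, h2', h3'⟩ := hconj t ht'
    refine ⟨_, h1, h2', h3', ?_⟩
    have hlo : 2 ≤ Fintype.card (MulAction.fixedBy Ω t) :=
      Fintype.one_lt_card_iff.mpr ⟨⟨a, ht1⟩, ⟨b, ht2⟩, fun e => hab (congrArg Subtype.val e)⟩
    have hhi := hle t (fun h => by simp [h] at ht')
    rw [← MulAction.smul_fixedBy, Nat.card_coe_set_eq]
    have hi : (q • MulAction.fixedBy Ω t) = (fun x => q • x) '' MulAction.fixedBy Ω t := rfl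
    rw [hi, Set.ncard_image_of_injective _ (MulAction.injective q), ← Nat.card_coe_set_eq,
      Nat.card_eq_fintype_card]
    omega

end Cfsg.Agent.S0740
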