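import Cfsg.Statements.S0338
import Cfsg.Agent.Lib.ZassNormal.Basic
import Cfsg.Agent.S0740

set_option autoImplicit false
open Cfsg

namespace Cfsg.Agent.S0338

/-- A Zassenhaus group of odd degree is a simple group. -/
theorem result {G Ω : Type*} [Group G] [MulAction G Ω] [Fintype Ω]
    (hZ : Cfsg.IsZassenhausGroup G Ω) (hodd : Odd (Fintype.card Ω)) : IsSimpleGroup G := by
  classical
  have Z := Cfsg.Agent.PermGp.ZEven.zgrp_of_zassenhaus hZ
  haveI := Z.faith
  haveI := Cfsg.Agent.ZassNormal.finite_of_faith (G := G) (Ω := Ω) hZ.1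
  haveI : Nontrivial G := by
    obtain ⟨g, hg, -⟩ := Z.nontriv
    exact ⟨⟨g, 1, hg⟩⟩
  refine ⟨fun N hN => or_iff_not_imp_left.2 fun hb => ?_⟩
  haveI := hN
  have hNZ := Cfsg.Agent.ZassNormal.normal_zassenhaus hZ N hb
  obtain ⟨g₀, hg₀, a, b, hab, hga, hgb⟩ := Z.nontriv
  obtain ⟨F, hF⟩ := Cfsg.Agent.PermGp.ZEven.exists_zker Z hab
  have hFN : F ≤ N := by
    refine ((Cfsg.Agent.ZassNormal.le_or_le hF Z (N ⊓ MulAction.stabilizer G a)
      (fun x hx => MulAction.mem_stabilizer_iff.1 hx.2) ?_).resolve_left ?_).trans inf_le_left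
    · rintro g hg x ⟨hxN, hxa⟩
      refine ⟨hN.conj_mem x hxN g, MulAction.mem_stabilizer_iff.2 ?_⟩
      rw [mul_smul, mul_smul, inv_smul_eq_iff.2 hg.symm, MulAction.mem_stabilizer_iff.1 hxa, hg]
    · intro hle
      obtain ⟨⟨x, hx⟩, hx1, c, d, hcd, hc, hd⟩ := hNZ.2.2.2.1
      change x • c = c at hc
      change x • d = d at hd
      obtain ⟨k, k1, k2⟩ := MulAction.is_two_pretransitive_iff.1 Z.two hcd hab
      have hka : (k * x * k⁻¹) • a = a := by rw [← k1, mul_smul, inv_smul_smul, mul_smul, hc]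
      have hkb : (k * x * k⁻¹) • b = b := by rw [← k2, mul_smul, inv_smul_smul, mul_smul, hd]
      exact hx1 (Subtype.ext (conj_eq_one_iff.1
        (hF.semi _ (hle ⟨hN.conj_mem x hx k, hka⟩) b hab.symm hkb)))
  have hinv : ∀ t : G, t * t = 1 → t ≠ 1 → ∃ c : Ω, t • c = c ∧ ∀ d : Ω, t • d = d → d = c := by
    intro t htt ht1
    have hinvol : Function.Involutive (fun x : Ω => t • x) := fun x => by
      show t • t • x = x
      rw [smul_smul, htt, one_smul]
    obtain ⟨c, hc⟩ : ∃ c : Ω, t • c = c := by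
      by_contra hall
      push_neg at hall
      have h2 : (2 : ℕ) ∣ Fintype.card Ω := by
        have h := (IsPGroup.of_card (G := Subgroup.zpowers t) (p := 2) (n := 1) (by
          rw [Nat.card_zpowers, pow_one, orderOf_eq_prime (by rw [pow_two, htt]) ht1])).card_modEq_card_fixedPoints Ω
        haveI : IsEmpty (MulAction.fixedPoints (Subgroup.zpowers t) Ω) :=
          ⟨fun x => hall x.1 (x.2 ⟨t, Subgroup.mem_zpowers t⟩)⟩
        rw [Nat.card_eq_fintype_card (α := Ω), Nat.card_of_isEmpty] at h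
        exact Nat.modEq_zero_iff_dvd.1 h
      exact (Nat.not_even_iff_odd.2 hodd) (even_iff_two_dvd.2 h2)
    refine ⟨c, hc, fun d hd => ?_⟩
    by_contra hdc
    obtain ⟨e, he, hec, hed⟩ : ∃ e : Ω, t • e = e ∧ e ≠ c ∧ e ≠ d := by
      by_contra hall
      push_neg at hall
      have h := (IsPGroup.of_card (G := Subgroup.zpowers t) (p := 2) (n := 1) (by
        rw [Nat.card_zpowers, pow_one, orderOf_eq_prime (by rw [pow_two, htt]) ht1])).card_modEq_card_fixedPoints Ω
      have hfix : MulAction.fixedPoints (Subgroup.zpowers t) Ω = ({c, d} : Set Ω) := by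
        ext x
        refine ⟨fun hx => ?_, fun hx => ?_⟩
        · by_cases hxc : x = c
          · exact Or.inl hxc
          · exact Or.inr (hall x (hx ⟨t, Subgroup.mem_zpowers t⟩) hxc)
        · rintro ⟨y, hy⟩
          have hty : t ∈ MulAction.stabilizer G x := by
            rcases hx with rfl | rfl
            exacts [hc, hd]
          exact (Subgroup.zpowers_le.2 hty hy : y ∈ MulAction.stabilizer G x)
      rw [hfix, Nat.card_coe_set_eq, Set.ncard_pair (Ne.symm hdc), Nat.card_eq_fintype_card] at h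
      obtain ⟨j, hj⟩ := hodd
      simp only [Nat.ModEq, hj] at h
      omega
    exact ht1 (Z.three t c d e (Ne.symm hdc) hed.symm hec.symm hc hd he)
  have hNall : ∀ t : G, t * t = 1 → t ≠ 1 → t ∈ N := by
    intro t htt ht1
    obtain ⟨c, hc, huniq⟩ := hinv t htt ht1
    haveI : MulAction.IsPretransitive N Ω := by
      haveI := hNZ.2.1
      exact MulAction.isPretransitive_of_is_two_pretransitive
    obtain ⟨⟨n, hn⟩, hna⟩ := MulAction.exists_smul_eq N c a
    change n • c = a at hna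
    have hta : (n * t * n⁻¹) • a = a := by rw [← hna, mul_smul, inv_smul_smul, mul_smul, hc]
    have hmem : n * t * n⁻¹ ∈ F := by
      by_contra hnot
      obtain ⟨d, hda, hd⟩ := Cfsg.Agent.ZassNormal.exists_ne_fixed hF Z hta hnot
      refine hda ?_
      have h1 := huniq (n⁻¹ • d) (by
        rw [mul_smul, mul_smul] at hd
        exact eq_inv_smul_iff.2 hd)
      rw [← hna, ← h1, smul_inv_smul]
    have := N.mul_mem (N.mul_mem (N.inv_mem hn) (hFN hmem)) hn
    rwa [show n⁻¹ * (n * t * n⁻¹) * n = t by group] at this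
  set H := MulAction.stabilizer G a ⊓ MulAction.stabilizer G b with hH
  obtain ⟨v, hv, hva, hvb⟩ := (S0740.result hZ hab).1
  have hvv : v * v = 1 := by rw [← pow_two, ← hv, pow_orderOf_eq_one]
  have hv1 : v ≠ 1 := fun e => by rw [e, orderOf_one] at hv; exact absurd hv (by decide)
  obtain ⟨c, hc, huniq⟩ := hinv v hvv hv1
  have hca : c ≠ a := fun e => hab (by rw [← hva, ← e, hc])
  have hcb : c ≠ b := fun e => hab (by rw [← hvb, ← e, hc])
  have hmemH : ∀ {g : G}, g ∈ H ↔ g • a = a ∧ g • b = b := fun {g} => Iff.rfl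
  have hnorm : ∀ x ∈ H, v * x * v ∈ H := by
    intro x hx
    obtain ⟨xa, xb⟩ := hmemH.1 hx
    exact hmemH.2 ⟨by rw [mul_smul, mul_smul, hva, xb, hvb], by rw [mul_smul, mul_smul, hvb, xa, hva]⟩
  have hinvert : ∀ h ∈ H, v * h * v = h⁻¹ := by
    let φ : H → H := fun x => ⟨(x : G)⁻¹ * (v * x * v), H.mul_mem (H.inv_mem x.2) (hnorm x x.2)⟩
    have hφ : Function.Injective φ := by
      intro x y e
      have e' : (x : G)⁻¹ * (v * x * v) = (y : G)⁻¹ * (v * y * v) := congrArg Subtype.val e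
      have hfix : v * ((y : G) * (x : G)⁻¹) * v = (y : G) * (x : G)⁻¹ := by
        calc v * ((y : G) * (x : G)⁻¹) * v = v * ((y : G) * (x : G)⁻¹) * v⁻¹ := by
              rw [inv_eq_of_mul_eq_one_right hvv]
          _ = y * ((y : G)⁻¹ * (v * y * v)) * (v * x * v)⁻¹ := by group
          _ = y * ((x : G)⁻¹ * (v * x * v)) * (v * x * v)⁻¹ := by rw [e']
          _ = (y : G) * (x : G)⁻¹ := by group
      have hm := hmemH.1 (H.mul_mem y.2 (H.inv_mem x.2))
      have hcom : v * ((y : G) * (x : G)⁻¹) = (y : G) * (x : G)⁻¹ * v := by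
        calc v * ((y : G) * (x : G)⁻¹) = v * ((y : G) * (x : G)⁻¹) * v * v := by
              rw [mul_assoc _ v v, hvv, mul_one]
          _ = (y : G) * (x : G)⁻¹ * v := by rw [hfix]
      have hc' : ((y : G) * (x : G)⁻¹) • c = c := huniq _ (by rw [← mul_smul, hcom, mul_smul, hc])
      exact Subtype.ext (mul_inv_eq_one.1 (Z.three _ a b c hab hcb.symm hca.symm hm.1 hm.2 hc')).symm
    intro h hh
    obtain ⟨x, hx⟩ := Finite.injective_iff_surjective.1 hφ ⟨h, hh⟩
    have hx' : (x : G)⁻¹ * (v * x * v) = h := congrArg Subtype.val hx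
    rw [← hx', mul_inv_rev, inv_inv]
    have hvi : v⁻¹ = v := inv_eq_of_mul_eq_one_right hvv
    calc v * ((x : G)⁻¹ * (v * x * v)) * v = v * (x : G)⁻¹ * v * x * (v * v) := by group
      _ = v * (x : G)⁻¹ * v * x := by rw [hvv, mul_one]
      _ = (v * x * v)⁻¹ * x := by rw [mul_inv_rev, mul_inv_rev, hvi]; group
  have hHN : H ≤ N := by
    intro h hh
    have hoh : Odd (orderOf h) := by
      rw [← Nat.not_even_iff_odd]
      rintro ⟨j, hj⟩
      have hpos := orderOf_pos h
      have ht2 : h ^ j * h ^ j = 1 := by rw [← pow_add, ← hj, pow_orderOf_eq_one]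
      have ht1 : h ^ j ≠ 1 := fun e => by
        have := Nat.le_of_dvd (by omega) (orderOf_dvd_of_pow_eq_one e)
        omega
      obtain ⟨d, -, hu⟩ := hinv _ ht2 ht1
      have hm := hmemH.1 (H.pow_mem hh j)
      exact hab ((hu a hm.1).trans (hu b hm.2).symm)
    have hvN := hNall v hvv hv1
    have hvi : v⁻¹ = v := inv_eq_of_mul_eq_one_right hvv
    have h2 : h ^ 2 ∈ N := by
      have hm : h * v * h⁻¹ * v ∈ N := N.mul_mem (hN.conj_mem v hvN h) hvN
      rwa [show h * v * h⁻¹ * v = h * (v * h * v)⁻¹ by rw [mul_inv_rev, mul_inv_rev, hvi]; group,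
        hinvert h hh, inv_inv, ← pow_two] at hm
    obtain ⟨j, hj⟩ := hoh
    have e : h = (h ^ 2) ^ (j + 1) := by
      rw [← pow_mul, show 2 * (j + 1) = orderOf h + 1 by omega, pow_succ, pow_orderOf_eq_one, one_mul]
    rw [e]; exact N.pow_mem h2 _
  rw [eq_top_iff]
  intro g _
  obtain ⟨n, n1, n2⟩ := MulAction.is_two_pretransitive_iff.1 hNZ.2.1 hab
    (show g • a ≠ g • b from fun e => hab (MulAction.injective g e))
  change (n : G) • a = g • a at n1
  change (n : G) • b = g • b at n2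
  have hm : (n : G)⁻¹ * g ∈ H := hmemH.2 ⟨by rw [mul_smul, ← n1, inv_smul_smul],
    by rw [mul_smul, ← n2, inv_smul_smul]⟩
  have := N.mul_mem n.2 (hHN hm)
  rwa [mul_inv_cancel_left] at this

end Cfsg.Agent.S0338
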