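import Cfsg.Statements.S0729
import Cfsg.Agent.Lib.PermGp.SharplyThreeEven.Bridge

set_option autoImplicit false
open Cfsg

namespace Cfsg.Agent.S0729

/-- In a sharply triply transitive group of even degree at least 6, the two-point stabiliser `H = G_{a,b}` has a normal subgroup of index 2 that is normalised by the element `s` interchanging `a, b` and fixing a third point `c`. -/
theorem result {α : Type*} [Fintype α] [DecidableEq α] (heven : Even (Fintype.card α)) (h6 : 6 ≤ Fintype.card α) (G : Subgroup (Equiv.Perm α)) (h3 : MulAction.IsMultiplyPretransitive G α 3) (hsharp : ∀ x : Fin 3 ↪ α, MulAction.stabilizer G x = ⊥) {a b c : α} (hab : a ≠ b) (hac : a ≠ c) (hbc : b ≠ c) (s : G) (hsa : s • a = b) (hsb : s • b = a) (hsc : s • c = c) : ∃ N : Subgroup G, N ≤ MulAction.stabilizer G a ⊓ MulAction.stabilizer G b ∧ (N.subgroupOf (MulAction.stabilizer G a ⊓ MulAction.stabilizer G b)).Normal ∧ N.relIndex (MulAction.stabilizer G a ⊓ MulAction.stabilizer G b) = 2 ∧ ∀ n ∈ N, s * n * s⁻¹ ∈ N := by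
  classical
  have S := PermGp.sharp3_of_sharp h3 hsharp
  set H := MulAction.stabilizer G a ⊓ MulAction.stabilizer G b with hH
  have memH : ∀ {g : G}, g ∈ H → g • a = a ∧ g • b = b := fun hg => Subgroup.mem_inf.mp hg
  have hss : s * s = 1 := S.fix _ a b c hab hac hbc (by rw [mul_smul, hsa, hsb])
    (by rw [mul_smul, hsb, hsa]) (by rw [mul_smul, hsc, hsc])
  have hsinv : s⁻¹ = s := inv_eq_of_mul_eq_one_right hss
  have hsH : ∀ g : G, g ∈ H → s * g * s⁻¹ ∈ H := fun g hg => Subgroup.mem_inf.mpr
    ⟨by rw [MulAction.mem_stabilizer_iff, hsinv, mul_smul, mul_smul, hsa, (memH hg).2, hsb],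
     by rw [MulAction.mem_stabilizer_iff, hsinv, mul_smul, mul_smul, hsb, (memH hg).1, hsa]⟩
  let σ : MulAut H :=
    { toFun := fun g => ⟨s * g * s⁻¹, hsH g g.2⟩
      invFun := fun g => ⟨s * g * s⁻¹, hsH g g.2⟩
      left_inv := fun g => Subtype.ext (by
        show s * (s * (g : G) * s⁻¹) * s⁻¹ = g
        rw [hsinv, show s * (s * (g : G) * s) * s = (s * s) * g * (s * s) by group, hss, one_mul, mul_one])
      right_inv := fun g => Subtype.ext (by
        show s * (s * (g : G) * s⁻¹) * s⁻¹ = g
        rw [hsinv, show s * (s * (g : G) * s) * s = (s * s) * g * (s * s) by group, hss, one_mul, mul_one])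
      map_mul' := fun g k => Subtype.ext (by
        show s * ((g : G) * k) * s⁻¹ = s * g * s⁻¹ * (s * k * s⁻¹)
        group) }
  obtain ⟨K, hK, hKσ⟩ := PermGp.S3Even.exists_invariant_index_two σ σ.left_inv
    (PermGp.S3Even.exists_index_two_stab S heven hab hac hbc)
  haveI := Subgroup.normal_of_index_eq_two hK
  have hsub : (K.map H.subtype).subgroupOf H = K := Subgroup.comap_map_eq_self_of_injective H.subtype_injective K
  refine ⟨K.map H.subtype, Subgroup.map_subtype_le K, by rw [hsub]; infer_instance, ?_, ?_⟩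
  · show ((K.map H.subtype).subgroupOf H).index = 2
    rw [hsub, hK]
  · rintro _ ⟨n, hn, rfl⟩
    exact ⟨σ n, hKσ n hn, rfl⟩

end Cfsg.Agent.S0729
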