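import Cfsg.Statements.S0344
import Cfsg.Agent.Lib.ZassSharp.NotSimple
import Cfsg.Agent.S0742

set_option autoImplicit false
open Cfsg

namespace Cfsg.Agent.S0344

/-- A finite simple Zassenhaus group with a two-point stabiliser of even order is isomorphic to `PSL₂(F)` for a finite
field `F` with more than three elements. -/
theorem result {G Ω : Type*} [Group G] [Finite G] [MulAction G Ω] [Finite Ω]
    (hZ : Cfsg.IsZassenhausGroup G Ω) [IsSimpleGroup G]
    {a b : Ω} (hab : a ≠ b) (heven : Even (Nat.card ↥(MulAction.stabilizer G a ⊓ MulAction.stabilizer G b))) :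
    ∃ (F : Type) (_ : Field F) (_ : Fintype F), 3 < Fintype.card F ∧ Nonempty (G ≃* Matrix.ProjectiveSpecialLinearGroup (Fin 2) F) := by
  classical
  haveI : Fintype Ω := Fintype.ofFinite Ω
  have Z := PermGp.ZEven.zgrp_of_zassenhaus hZ
  have hle := PermGp.card_sub_two_le_two_mul hZ hab heven
  have hpos := Z.stab_pos hab
  obtain ⟨m, hm⟩ := ZassSharp.card_dvd Z hab
  set d := Nat.card ↥(MulAction.stabilizer G a ⊓ MulAction.stabilizer G b) with hd
  have hm2 : m ≤ 2 := by
    by_contra hne
    have : d * 3 ≤ d * m := Nat.mul_le_mul_left d (by omega)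
    omega
  have hm0 : m ≠ 0 := by
    rintro rfl
    obtain ⟨c, hca, hcb⟩ := Z.exists_third a b
    have h3 : 3 ≤ Fintype.card Ω := by
      have := Finset.card_le_univ ({c, a, b} : Finset Ω)
      rwa [Finset.card_eq_three.mpr ⟨c, a, b, hca, hcb, hab, rfl⟩] at this
    omega
  rcases (show m = 1 ∨ m = 2 by omega) with rfl | rfl
  · exact (ZassSharp.not_simple_sharp Z hab heven (by omega)).elim
  · obtain ⟨p, f, K, iK, iF, -, -, hK, hΩ, ⟨e⟩⟩ := S0742.result hZ hab heven (by omega)
    exact ⟨K, iK, iF, by omega, ⟨e⟩⟩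

end Cfsg.Agent.S0344
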