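import Cfsg.Statements.S5036
import Cfsg.Agent.Lib.Root.SetsMore

set_option autoImplicit false
open Cfsg

namespace Cfsg.Agent.S5036

open RootLib in
/-- Let S be a set of abstract root subgroups of G, A, B ∈ S with C = ⁅A, B⁆ ∈ S, and D ∈ S with ⁅D, C⁆ = A. Put X = ⟨B, D⟩ and N = AC. Then B, D form a rank one pair; the conjugates of A under X are the conjugates of C under X, namely the conjugates of A by elements of B together with C, equally the conjugates of C by elements of D together with A, and they partition N; and the centralizer of N in X is central in X. -/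
theorem result {G : Type*} [Group G] {S : Set (Subgroup G)} (hS : Cfsg.IsRootSubgroupSet S)
    {A B D : Subgroup G} (hA : A ∈ S) (hB : B ∈ S) (hC : ⁅A, B⁆ ∈ S) (hD : D ∈ S) (hDC : ⁅D, ⁅A, B⁆⁆ = A) :
    Cfsg.IsRankOnePair B D ∧
    {E | ∃ x ∈ B ⊔ D, E = Cfsg.conjBy A x} = {E | ∃ x ∈ B ⊔ D, E = Cfsg.conjBy ⁅A, B⁆ x} ∧
    {E | ∃ x ∈ B ⊔ D, E = Cfsg.conjBy A x} = (fun b : G => Cfsg.conjBy A b) '' (B : Set G) ∪ {⁅A, B⁆} ∧
    {E | ∃ x ∈ B ⊔ D, E = Cfsg.conjBy A x} = (fun d : G => Cfsg.conjBy ⁅A, B⁆ d) '' (D : Set G) ∪ {A} ∧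
    Cfsg.IsSubgroupPartition (A ⊔ ⁅A, B⁆) {E | ∃ x ∈ B ⊔ D, E = Cfsg.conjBy A x} ∧
    ∀ x ∈ (B ⊔ D) ⊓ Subgroup.centralizer ((A ⊔ ⁅A, B⁆ : Subgroup G) : Set G), ∀ y ∈ B ⊔ D, x * y = y * x := by
  obtain ⟨C, hCdef⟩ : ∃ C, C = ⁅A, B⁆ := ⟨_, rfl⟩
  rw [← hCdef] at hC hDC ⊢
  have hAB : RootCommutatorCase S A B := commutatorCase_of_mem hS hA hB (hCdef ▸ hC)
  have hDCc : RootCommutatorCase S D C := commutatorCase_of_mem hS hD hC (hDC.symm ▸ hA)
  have cC : ∀ c ∈ C, ∀ b ∈ B, c * b = b * c := fun c hc b hb =>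
    hAB.2.1 c (hCdef ▸ hc) b (Subgroup.mem_sup_right hb)
  have cCA : ∀ c ∈ C, ∀ a ∈ A, c * a = a * c := fun c hc a ha =>
    hAB.2.1 c (hCdef ▸ hc) a (Subgroup.mem_sup_left ha)
  have cA : ∀ a ∈ A, ∀ d ∈ D, a * d = d * a := fun a ha d hd =>
    hDCc.2.1 a (hDC.symm ▸ ha) d (Subgroup.mem_sup_left hd)
  have hAC1 : ∀ x ∈ A, x ∈ C → x = 1 := fun x hxA hxC => by
    by_contra hx
    exact hS.ne_bot _ hC (hCdef ▸ bracket_eq_bot_of_commute_left hS hA hB hxA hx (cC x hxC))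
  have hAne : A ≠ C := fun e => by
    obtain ⟨x, hx, hx1⟩ := exists_ne_one_of_mem hS hA
    exact hx1 (hAC1 x hx (e ▸ hx))
  have hβ : ∀ a ∈ A, ∀ b ∈ B, ∃ c ∈ C, b * a * b⁻¹ = c * a := fun a ha b hb =>
    ⟨b * a * b⁻¹ * a⁻¹, by rw [hCdef, Subgroup.commutator_comm]; exact commutator_mem hb ha, by group⟩
  have hδ : ∀ c ∈ C, ∀ d ∈ D, ∃ a ∈ A, d * c * d⁻¹ = a * c := fun c hc d hd =>
    ⟨d * c * d⁻¹ * c⁻¹, hDC ▸ commutator_mem hd hc, by group⟩
  have hδs : ∀ d ∈ D, d ≠ 1 → ∀ a ∈ A, ∃ c ∈ C, d * c * d⁻¹ = a * c := fun d hd hd1 a ha => by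
    obtain ⟨c, hc, hca⟩ := commutator_surj (commutatorCase_symm hDCc) hd hd1
      (show a⁻¹ ∈ ⁅C, D⁆ by rw [Subgroup.commutator_comm, hDC]; exact inv_mem ha)
    refine ⟨c, hc, ?_⟩
    have e : d * c * d⁻¹ * c⁻¹ = a := by
      rw [← inv_inv a, ← hca]; group
    rw [← e]; group
  have hβs : ∀ b ∈ B, b ≠ 1 → ∀ c ∈ C, ∃ a ∈ A, b * a * b⁻¹ = c * a := fun b hb hb1 c hc => by
    obtain ⟨a, ha, hca⟩ := commutator_surj hAB hb hb1 (inv_mem (hCdef ▸ hc : c ∈ ⁅A, B⁆))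
    refine ⟨a, ha, ?_⟩
    have e : b * a * b⁻¹ * a⁻¹ = c := by
      rw [← inv_inv c, ← hca]; group
    rw [← e]; group
  -- `B` and `D` form a rank one pair
  have hBD : IsRankOnePair B D := by
    rcases hS.pair B hB D hD with h | h | h
    · exfalso
      obtain ⟨b, hb, hb1⟩ := exists_ne_one_of_mem hS hB
      obtain ⟨d, hd, hd1⟩ := exists_ne_one_of_mem hS hD
      have hbd : ∀ x ∈ B, ∀ y ∈ D, x * y = y * x := bracket_eq_bot_iff.1 h
      obtain ⟨y, hy, hy1⟩ := exists_ne_one_of_mem hS hA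
      obtain ⟨c, hc, hdc⟩ := hδs d hd hd1 y hy
      obtain ⟨a, ha, hba⟩ := hβs b hb hb1 c hc
      have h1 : d * (b * a * b⁻¹) * d⁻¹ = b * (d * a * d⁻¹) * b⁻¹ := by
        rw [show d * (b * a * b⁻¹) * d⁻¹ = d * b * a * (d * b)⁻¹ by group, ← hbd b hb d hd]; group
      rw [hba, show d * (c * a) * d⁻¹ = (d * c * d⁻¹) * (d * a * d⁻¹) by group, hdc,
        show d * a * d⁻¹ = a by rw [← cA a ha d hd, mul_inv_cancel_right], hba, mul_assoc] at h1
      exact hy1 (mul_eq_right.1 h1)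
    · exact h
    · exfalso
      obtain ⟨b, hb, hb1⟩ := exists_ne_one_of_mem hS hB
      obtain ⟨d, hd, hd1⟩ := exists_ne_one_of_mem hS hD
      have hbb : Commute b (d * b * d⁻¹) := by
        have h1 : Commute (b * d * b⁻¹ * d⁻¹) b :=
          h.2.1 _ (commutator_mem hb hd) b (Subgroup.mem_sup_left hb)
        have h2 : d * b * d⁻¹ = (b * d * b⁻¹ * d⁻¹)⁻¹ * b := by group
        rw [h2]
        exact h1.symm.inv_right.mul_right (Commute.refl b)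
      obtain ⟨y, hy, hy1⟩ := exists_ne_one_of_mem hS hA
      obtain ⟨c₂, hc₂, hdc₂⟩ := hδs d hd hd1 y hy
      obtain ⟨a₁, ha₁, hba₁⟩ := hβs b hb hb1 c₂ hc₂
      obtain ⟨c₁, hc₁, hdc₁⟩ := hδs d hd hd1 a₁ ha₁
      obtain ⟨a, ha, hba⟩ := hβs b hb hb1 c₁ hc₁
      have fB : ∀ x ∈ C, b * x * b⁻¹ = x := fun x hx => by rw [← cC x hx b hb, mul_inv_cancel_right]
      have fD : ∀ x ∈ A, d * x * d⁻¹ = x := fun x hx => by rw [← cA x hx d hd, mul_inv_cancel_right]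
      have hconj : ∀ {g u v : G}, g * (u * v) * g⁻¹ = (g * u * g⁻¹) * (g * v * g⁻¹) := by
        intro g u v; group
      obtain ⟨b', hb'⟩ : ∃ b', b' = d * b * d⁻¹ := ⟨_, rfl⟩
      have e1 : b' * a * b'⁻¹ = a₁ * c₁ * a := by
        rw [hb', show d * b * d⁻¹ * a * (d * b * d⁻¹)⁻¹ = d * (b * (d⁻¹ * a * d) * b⁻¹) * d⁻¹ by group,
          mul_assoc d⁻¹ a d, cA a ha d hd, inv_mul_cancel_left, hba, hconj, hdc₁, fD a ha]
      have e2 : b * (b' * a * b'⁻¹) * b⁻¹ = c₂ * a₁ * c₁ * (c₁ * a) := by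
        rw [e1, hconj, hconj, hba₁, fB c₁ hc₁, hba]
      have e3 : b' * c₁ * b'⁻¹ = c₁ * (y * c₂)⁻¹ := by
        have h1 : d⁻¹ * c₁ * d = c₁ * a₁⁻¹ := by
          have : d * (c₁ * a₁⁻¹) * d⁻¹ = c₁ := by
            rw [hconj, hdc₁, fD _ (inv_mem ha₁), ← cCA c₁ hc₁ a₁ ha₁, mul_inv_cancel_right]
          conv_lhs => rw [← this]
          group
        have h2 : b * (c₁ * a₁⁻¹) * b⁻¹ = c₁ * (c₂ * a₁)⁻¹ := by
          rw [hconj, fB c₁ hc₁, ← hba₁]; group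
        rw [hb', show d * b * d⁻¹ * c₁ * (d * b * d⁻¹)⁻¹ = d * (b * (d⁻¹ * c₁ * d) * b⁻¹) * d⁻¹ by group,
          h1, h2, hconj, hdc₁, show d * (c₂ * a₁)⁻¹ * d⁻¹ = (d * (c₂ * a₁) * d⁻¹)⁻¹ by group, hconj,
          hdc₂, fD a₁ ha₁, mul_inv_rev, ← mul_assoc, ← cCA c₁ hc₁ a₁ ha₁, mul_inv_cancel_right]
      have e4 : b' * (b * a * b⁻¹) * b'⁻¹ = c₁ * (y * c₂)⁻¹ * (a₁ * c₁ * a) := by
        rw [hba, hconj, e3, e1]
      have e5 : b * (b' * a * b'⁻¹) * b⁻¹ = b' * (b * a * b⁻¹) * b'⁻¹ := by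
        rw [← hb'] at hbb
        rw [show ∀ u : G, b * (u * a * u⁻¹) * b⁻¹ = b * u * a * (b * u)⁻¹ from fun u => by group, hbb.eq]
        group
      rw [e2, e4] at e5
      have hcc : Commute c₁ c₂ := root_comm hS hC hc₁ hc₂
      have e6 : y = (c₂ * c₂)⁻¹ := by
        have h1 : c₂ * a₁ * c₁ * (c₁ * a) = (c₁ * c₂) * (a₁ * c₁ * a) := by
          rw [hcc.eq, mul_assoc c₂ c₁, ← mul_assoc c₁ (a₁ * c₁) a, ← mul_assoc c₁ a₁,
            cCA c₁ hc₁ a₁ ha₁]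
          group
        rw [h1] at e5
        have := mul_left_cancel (mul_right_cancel e5)
        rw [mul_inv_rev] at this
        calc y = (c₂ * (c₂⁻¹ * y⁻¹))⁻¹ := by group
          _ = _ := by rw [← this]
      exact hy1 (hAC1 y hy (e6 ▸ inv_mem (mul_mem hc₂ hc₂)))
  have hDB := RankOnePair_symm hBD
  -- fixed points on `N`
  have hfixA : ∀ c ∈ C, ∀ d ∈ D, d ≠ 1 → d * c = c * d → c = 1 := fun c hc d hd hd1 e =>
    commutator_inj hS hC hD hB hDB (commutatorCase_symm hDCc) hc hd hd1 e.symm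
  have hfixC : ∀ a ∈ A, ∀ b ∈ B, b ≠ 1 → a * b = b * a → a = 1 := fun a ha b hb hb1 e =>
    commutator_inj hS hA hB hD hBD hAB ha hb hb1 e
  obtain ⟨N, hN⟩ : ∃ N, N = A ⊔ C := ⟨_, rfl⟩
  rw [← hN]
  have hNmem : ∀ {x}, x ∈ N → ∃ a ∈ A, ∃ c ∈ C, x = a * c := by
    intro x hx
    have hn : A ≤ Subgroup.normalizer (C : Set G) := fun a ha =>
      conjBy_eq_iff_mem_normalizer.1 (conjBy_eq_of_commute fun c hc => (cCA c hc a ha).symm)
    rw [hN, ← SetLike.mem_coe, Subgroup.coe_mul_of_left_le_normalizer_right A C hn] at hx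
    obtain ⟨a, ha, c, hc, rfl⟩ := hx
    exact ⟨a, ha, c, hc, rfl⟩
  have hAN : A ≤ N := hN ▸ le_sup_left
  have hCN : C ≤ N := hN ▸ le_sup_right
  have hfix : ∀ u ∈ N, ((∀ d ∈ D, d * u = u * d) ↔ u ∈ A) ∧ ((∀ b ∈ B, b * u = u * b) ↔ u ∈ C) := by
    intro u hu
    obtain ⟨a, ha, c, hc, rfl⟩ := hNmem hu
    refine ⟨⟨fun h => ?_, fun h d hd => (cA _ h d hd).symm⟩, ⟨fun h => ?_, fun h b hb => (cC _ h b hb).symm⟩⟩
    · obtain ⟨d, hd, hd1⟩ := exists_ne_one_of_mem hS hD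
      have : c = 1 := hfixA c hc d hd hd1 (by
        have h1 := h d hd
        rw [← mul_assoc, ← cA a ha d hd, mul_assoc, mul_assoc] at h1
        exact mul_left_cancel h1)
      rw [this, mul_one]; exact ha
    · obtain ⟨b, hb, hb1⟩ := exists_ne_one_of_mem hS hB
      have : a = 1 := hfixC a ha b hb hb1 (by
        have h1 := h b hb
        rw [mul_assoc a c b, cC c hc b hb, ← mul_assoc, ← mul_assoc] at h1
        exact (mul_right_cancel h1).symm)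
      rw [this, one_mul]; exact hc
  have hnorm : ∀ x ∈ B ⊔ D, conjBy N x = N := by
    have hle : B ⊔ D ≤ Subgroup.normalizer (N : Set G) := by
      have key : ∀ g : G, (∀ a ∈ A, g * a * g⁻¹ ∈ N) → (∀ c ∈ C, g * c * g⁻¹ ∈ N) → ∀ u ∈ N, g * u * g⁻¹ ∈ N := by
        intro g h1 h2 u hu
        obtain ⟨a, ha, c, hc, rfl⟩ := hNmem hu
        rw [show g * (a * c) * g⁻¹ = (g * a * g⁻¹) * (g * c * g⁻¹) by group]
        exact mul_mem (h1 a ha) (h2 c hc)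
      have kB : ∀ b ∈ B, ∀ u ∈ N, b * u * b⁻¹ ∈ N := fun b hb => key b
        (fun a ha => by obtain ⟨c, hc, e⟩ := hβ a ha b hb; rw [e]; exact mul_mem (hCN hc) (hAN ha))
        (fun c hc => by rw [← cC c hc b hb, mul_inv_cancel_right]; exact hCN hc)
      have kD : ∀ d ∈ D, ∀ u ∈ N, d * u * d⁻¹ ∈ N := fun d hd => key d
        (fun a ha => by rw [← cA a ha d hd, mul_inv_cancel_right]; exact hAN ha)
        (fun c hc => by obtain ⟨a, ha, e⟩ := hδ c hc d hd; rw [e]; exact mul_mem (hAN ha) (hCN hc))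
      refine sup_le (fun g hg => ?_) (fun g hg => ?_) <;> rw [Subgroup.mem_normalizer_iff] <;>
        refine fun u => ⟨fun hu => ?_, fun hu => ?_⟩
      · exact kB g hg u hu
      · simpa [mul_assoc] using kB g⁻¹ (inv_mem hg) _ hu
      · exact kD g hg u hu
      · simpa [mul_assoc] using kD g⁻¹ (inv_mem hg) _ hu
    exact fun x hx => conjBy_eq_iff_mem_normalizer.2 (hle hx)
  -- transport of fixed points
  have trans : ∀ {P Q U V : Subgroup G}, (∀ u ∈ N, (∀ p ∈ P, p * u = u * p) ↔ u ∈ U) → U ≤ N →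
      (∀ u ∈ N, (∀ q ∈ Q, q * u = u * q) ↔ u ∈ V) → V ≤ N →
      ∀ x ∈ B ⊔ D, conjBy P x = Q → conjBy U x = V := by
    intro P Q U V hP hUN hQ hVN x hx he
    ext v
    rw [mem_conjBy]
    have hiff : v ∈ N ↔ x⁻¹ * v * x ∈ N := by
      rw [← mem_conjBy, hnorm x hx]
    constructor
    · intro h
      have hvN := hiff.2 (hUN h)
      refine (hQ v hvN).1 fun q hq => ?_
      rw [← he, mem_conjBy] at hq
      have := (hP _ (hiff.1 hvN)).2 h _ hq
      simpa [mul_assoc] using congrArg (fun z => x * z * x⁻¹) this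
    · intro h
      refine (hP _ (hiff.1 (hVN h))).1 fun q hq => ?_
      have := (hQ v (hVN h)).2 h _ (he ▸ conjBy_mem_conjBy hq)
      simpa [mul_assoc] using congrArg (fun z => x⁻¹ * z * x) this
  have pA : ∀ u ∈ N, (∀ d ∈ D, d * u = u * d) ↔ u ∈ A := fun u hu => (hfix u hu).1
  have pC : ∀ u ∈ N, (∀ b ∈ B, b * u = u * b) ↔ u ∈ C := fun u hu => (hfix u hu).2
  obtain ⟨w, hw, hwe⟩ := exists_conjBy_eq hBD
  have hwC : conjBy C w = A := trans pC hCN pA hAN w hw hwe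
  have hNb : ∀ b ∈ B, conjBy A b ≤ N := fun b hb u hu => by
    rw [← hnorm b (Subgroup.mem_sup_left hb)]
    exact Subgroup.map_mono hAN hu
  have hNd : ∀ d ∈ D, conjBy C d ≤ N := fun d hd u hu => by
    rw [← hnorm d (Subgroup.mem_sup_right hd)]
    exact Subgroup.map_mono hCN hu
  have orbA : ∀ x ∈ B ⊔ D, conjBy A x = C ∨ ∃ b ∈ B, conjBy A x = conjBy A b := by
    intro x hx
    rcases mem_unipotent_cases hBD (unipotent_conj (unipotent_mem_B hBD) hx) with e | ⟨b, hb, e⟩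
    · exact Or.inl (trans pA hAN pC hCN x hx e)
    · refine Or.inr ⟨b, hb, ?_⟩
      have hb' : b⁻¹ * x ∈ B ⊔ D := mul_mem (inv_mem (Subgroup.mem_sup_left hb)) hx
      have := trans pA hAN pA hAN (b⁻¹ * x) hb' (by rw [← conjBy_conjBy, e, conjBy_inv_cancel])
      rw [← conjBy_conjBy] at this
      rw [eq_inv_conjBy this, inv_inv]
  have orbC : ∀ x ∈ B ⊔ D, conjBy C x = A ∨ ∃ d ∈ D, conjBy C x = conjBy C d := by
    intro x hx
    rcases mem_unipotent_cases hDB (unipotent_conj (unipotent_mem_B hDB) (sup_comm B D ▸ hx)) with e | ⟨d, hd, e⟩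
    · exact Or.inl (trans pC hCN pA hAN x hx e)
    · refine Or.inr ⟨d, hd, ?_⟩
      have hd' : d⁻¹ * x ∈ B ⊔ D := mul_mem (inv_mem (Subgroup.mem_sup_right hd)) hx
      have := trans pC hCN pC hCN (d⁻¹ * x) hd' (by rw [← conjBy_conjBy, e, conjBy_inv_cancel])
      rw [← conjBy_conjBy] at this
      rw [eq_inv_conjBy this, inv_inv]
  have hAw : conjBy A w⁻¹ = C := by rw [← hwC, conjBy_inv_cancel]
  have horb : {E | ∃ x ∈ B ⊔ D, E = conjBy A x} = (fun b : G => conjBy A b) '' (B : Set G) ∪ {C} := by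
    ext E
    constructor
    · rintro ⟨x, hx, rfl⟩
      rcases orbA x hx with e | ⟨b, hb, e⟩
      · exact Or.inr e
      · exact Or.inl ⟨b, hb, e.symm⟩
    · rintro (⟨b, hb, rfl⟩ | rfl)
      · exact ⟨b, Subgroup.mem_sup_left hb, rfl⟩
      · exact ⟨w⁻¹, inv_mem hw, hAw.symm⟩
  have hbC : ∀ b ∈ B, ∀ u ∈ conjBy A b, u ∈ C → u = 1 := by
    intro b hb u hu huC
    have h1 := mem_conjBy.1 hu
    rw [mul_assoc, cC u huC b hb, ← mul_assoc, inv_mul_cancel, one_mul] at h1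
    exact hAC1 u h1 huC
  have hbb : ∀ b ∈ B, ∀ b' ∈ B, b ≠ b' → conjBy A b ⊓ conjBy A b' = ⊥ := by
    intro b hb b' hb' hne
    rw [Subgroup.eq_bot_iff_forall]
    rintro u ⟨hu, hu'⟩
    have h1 := mem_conjBy.1 hu
    have h2 := mem_conjBy.1 hu'
    obtain ⟨g, hg⟩ : ∃ g, g = b'⁻¹ * b := ⟨_, rfl⟩
    have hgB : g ∈ B := hg ▸ mul_mem (inv_mem hb') hb
    obtain ⟨a, ha⟩ : ∃ a, a = b⁻¹ * u * b := ⟨_, rfl⟩
    rw [← ha] at h1
    obtain ⟨c, hc, e⟩ := hβ a h1 g hgB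
    have h3 : c * a ∈ A := by
      rw [← e, hg, ha]; simpa [mul_assoc] using h2
    have hc1 : c = 1 := hAC1 c (by simpa using mul_mem h3 (inv_mem h1)) hc
    rw [hc1, one_mul, mul_inv_eq_iff_eq_mul] at e
    have ha1 : a = 1 := hfixC a h1 g hgB (fun e' => hne (inv_mul_eq_one.1 (hg ▸ e')).symm) e.symm
    rw [ha] at ha1
    simpa [mul_assoc] using congrArg (fun z => b * z * b⁻¹) ha1
  refine ⟨hBD, ?_, horb, ?_, ⟨?_, ?_, ?_⟩, ?_⟩
  · ext E
    constructor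
    · rintro ⟨x, hx, rfl⟩
      exact ⟨x * w, mul_mem hx hw, by rw [← conjBy_conjBy, hwC]⟩
    · rintro ⟨x, hx, rfl⟩
      exact ⟨x * w⁻¹, mul_mem hx (inv_mem hw), by rw [← conjBy_conjBy, hAw]⟩
  · ext E
    constructor
    · rintro ⟨x, hx, rfl⟩
      rw [← hwC, conjBy_conjBy]
      rcases orbC (x * w) (mul_mem hx hw) with e | ⟨d, hd, e⟩
      · exact Or.inr (by rw [e, hwC]; rfl)
      · exact Or.inl ⟨d, hd, e.symm⟩
    · rintro (⟨d, hd, rfl⟩ | rfl)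
      · exact ⟨d * w⁻¹, mul_mem (Subgroup.mem_sup_right hd) (inv_mem hw), by rw [← conjBy_conjBy, hAw]⟩
      · exact ⟨1, one_mem _, (conjBy_one _).symm⟩
  · intro E hE
    rw [horb] at hE
    rcases hE with ⟨b, hb, rfl⟩ | rfl
    exacts [hNb b hb, hCN]
  · intro u hu hu1
    rw [horb]
    obtain ⟨a, ha, c, hc, rfl⟩ := hNmem hu
    by_cases ha1 : a = 1
    · exact ⟨C, Or.inr rfl, by rw [ha1, one_mul]; exact hc⟩
    obtain ⟨b, hb, hba⟩ := commutator_surj (commutatorCase_symm hAB) ha ha1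
      (show c ∈ ⁅B, A⁆ by rw [Subgroup.commutator_comm, ← hCdef]; exact hc)
    refine ⟨conjBy A b, Or.inl ⟨b, hb, rfl⟩, mem_conjBy.2 ?_⟩
    rw [← cCA c hc a ha, ← hba]
    simpa [mul_assoc] using ha
  · intro E hE F hF hne
    rw [horb] at hE hF
    rcases hE with ⟨b, hb, rfl⟩ | rfl <;> rcases hF with ⟨b', hb', rfl⟩ | rfl
    · exact hbb b hb b' hb' fun e => hne (by rw [e])
    · rw [Subgroup.eq_bot_iff_forall]; exact fun u hu => hbC b hb u hu.1 hu.2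
    · rw [Subgroup.eq_bot_iff_forall]; exact fun u hu => hbC b' hb' u hu.2 hu.1
    · exact absurd rfl hne
  · rintro x ⟨hx, hxc⟩ y hy
    refine commute_of_fix_all hBD ?_ y hy
    rintro _ ⟨z, hz, rfl⟩
    have hx' : z⁻¹ * x * z ∈ B ⊔ D := mul_mem (mul_mem (inv_mem hz) hx) hz
    have hcN : conjBy C (z⁻¹ * x * z) = C := by
      refine conjBy_eq_of_commute fun c hc => ?_
      have hm : z * c * z⁻¹ ∈ N := hnorm z hz ▸ conjBy_mem_conjBy (hCN hc)
      have := Subgroup.mem_centralizer_iff.1 hxc _ hm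
      simpa [mul_assoc] using congrArg (fun v => z⁻¹ * v * z) this.symm
    have hB' : conjBy B (z⁻¹ * x * z) = B := by
      rcases mem_unipotent_cases hBD (unipotent_conj unipotent_mem_A hx') with e | ⟨b, hb, e⟩
      · exact e
      · exfalso
        have hb' : b⁻¹ * (z⁻¹ * x * z) ∈ B ⊔ D := mul_mem (inv_mem (Subgroup.mem_sup_left hb)) hx'
        have := trans pC hCN pA hAN _ hb' (by rw [← conjBy_conjBy, e, conjBy_inv_cancel])
        rw [← conjBy_conjBy, hcN, conjBy_eq_of_commute fun c hc => (cC c hc b⁻¹ (inv_mem hb)).symm] at this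
        exact hAne this.symm
    calc conjBy (conjBy B z) x = conjBy (conjBy B (z⁻¹ * x * z)) z := by
          rw [conjBy_conjBy, conjBy_conjBy]; congr 1; group
      _ = conjBy B z := by rw [hB']

end Cfsg.Agent.S5036
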