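import Cfsg.Statements.S5038
import Cfsg.Agent.Lib.Root.Lines
import Cfsg.Agent.Lib.Root.Chain

set_option autoImplicit false
open Cfsg

namespace Cfsg.Agent.S5038

open RootLib in
/-- Let S be a set of abstract root subgroups of G in which every member has a rank one partner, A ∈ S and B a line partner of A. Then the subgroup generated by the members of S normalizing AB permutes the members of S inside AB doubly transitively by conjugation. -/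
theorem result {G : Type*} [Group G] {S : Set (Subgroup G)} (hS : Cfsg.IsRootSubgroupSet S)
    (hF : ∀ A ∈ S, ¬ Cfsg.IsIsolatedIn (Cfsg.FAdj S) S A) {A B : Subgroup G} (hA : A ∈ S) (hB : B ∈ Cfsg.linePartners S A) :
    ∀ C₁ ∈ Cfsg.membersIn S (A ⊔ B), ∀ C₂ ∈ Cfsg.membersIn S (A ⊔ B), ∀ D₁ ∈ Cfsg.membersIn S (A ⊔ B),
      ∀ D₂ ∈ Cfsg.membersIn S (A ⊔ B), C₁ ≠ C₂ → D₁ ≠ D₂ →
        ∃ x ∈ ⨆ E ∈ Cfsg.normalizingMembers S (A ⊔ B), E, Cfsg.conjBy C₁ x = D₁ ∧ Cfsg.conjBy C₂ x = D₂ := by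
  obtain ⟨⟨hBS, hne, hAB0⟩, hpart⟩ := hB
  obtain ⟨U, hU⟩ : ∃ U, U = A ⊔ B := ⟨_, rfl⟩
  rw [← hU] at hpart ⊢
  have hAU : A ≤ U := hU ▸ le_sup_left
  have hBU : B ≤ U := hU ▸ le_sup_right
  have hcU : ∀ x ∈ U, ∀ y ∈ U, x * y = y * x := by
    have hle : U ≤ Subgroup.centralizer (U : Set G) := by
      rw [hU, ← Subgroup.commutator_eq_bot_iff_le_centralizer, eq_bot_iff]
      have hn : ∀ P : Subgroup G, P ≤ Subgroup.normalizer ((⊥ : Subgroup G) : Set G) := fun P p _ =>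
        conjBy_eq_iff_mem_normalizer.1 (Subgroup.map_bot _)
      refine comm_sup_le (hn _) (hn _) ?_ ?_ <;> rw [Subgroup.commutator_comm] <;>
        refine comm_sup_le (hn _) (hn _) ?_ ?_ <;> rw [le_bot_iff]
      · exact bracket_eq_bot_iff.2 fun p hp q hq => root_comm hS hA hp hq
      · exact bracket_eq_bot_symm hAB0
      · exact hAB0
      · exact bracket_eq_bot_iff.2 fun p hp q hq => root_comm hS hBS hp hq
    exact fun x hx y hy => Subgroup.mem_centralizer_iff.1 (hle hy) x hx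
  obtain ⟨Γ, hΓ⟩ : ∃ Γ, Γ = ⨆ E ∈ normalizingMembers S U, E := ⟨_, rfl⟩
  rw [← hΓ]
  have hΓN : ∀ g ∈ Γ, conjBy U g = U := fun g hg => by
    refine conjBy_eq_iff_mem_normalizer.2 ((?_ : Γ ≤ Subgroup.normalizer (U : Set G)) hg)
    rw [hΓ]; exact iSup₂_le fun E hE => hE.2
  have hmap : ∀ g ∈ Γ, ∀ R ∈ membersIn S U, conjBy R g ∈ membersIn S U := fun g hg R hR =>
    ⟨hS.conj_mem R hR.1 g, hΓN g hg ▸ Subgroup.map_mono hR.2⟩
  have step : ∀ {C}, C ∈ membersIn S U → (∃ C' ∈ membersIn S U, C' ≠ C ∧ U = C ⊔ C') →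
      ∃ P ∈ membersIn S U, P ≠ C ∧ U = C ⊔ P ∧
        ∀ R ∈ membersIn S U, R ≠ P → ∃ g ∈ Γ, conjBy P g = P ∧ R = conjBy C g := by
    intro C hC hgen
    obtain ⟨FC, hFC, hCFC⟩ := not_isolated_exists (hF C hC.1) hC.1
    obtain ⟨P, hP, hPC, hUP, -, -, D, hD, -, hfix, htr⟩ := line_transitive hS hF hcU hpart hC hgen hFC hCFC
    refine ⟨P, hP, hPC, hUP, fun R hR hRP => ?_⟩
    obtain ⟨d, hd, e⟩ := htr R hR hRP
    exact ⟨d, hΓ ▸ le_iSup₂ (f := fun E (_ : E ∈ normalizingMembers S U) => E) D hD hd, hfix d hd, e⟩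
  obtain ⟨P, hP, hPA, hUP, htr⟩ := step ⟨hA, hAU⟩ ⟨B, ⟨hBS, hBU⟩, hne, hU⟩
  obtain ⟨Q, hQ, hQP, hUQ, htr'⟩ := step hP ⟨A, ⟨hA, hAU⟩, hPA.symm, hUP.trans (sup_comm _ _)⟩
  -- any point can be moved to `P`
  have toP : ∀ R ∈ membersIn S U, ∃ g ∈ Γ, conjBy R g = P := by
    intro R hR
    by_cases hRQ : R = Q
    · subst hRQ
      obtain ⟨g₁, hg₁, hfx, e₁⟩ := htr R hR hQP
      obtain ⟨Q', hQ', hQ'A, -, htr''⟩ := step hR ⟨P, hP, hQP.symm, hUQ.trans (sup_comm _ _)⟩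
      by_cases hQ'P : Q' = P
      · -- move `A` to `P` first
        have hAQ : A ≠ R ∨ A = R := em' _
        rcases hAQ with hAQ | hAQ
        · obtain ⟨g₂, hg₂, -, e₂⟩ := htr' A ⟨hA, hAU⟩ hAQ
          refine ⟨(g₁ * g₂)⁻¹, inv_mem (mul_mem hg₁ hg₂), ?_⟩
          rw [e₁, e₂, conjBy_conjBy P g₁ g₂, conjBy_inv_cancel]
        · obtain ⟨S₀, hS₀, hne₀P, hne₀R⟩ : ∃ R₀ ∈ membersIn S U, R₀ ≠ P ∧ R₀ ≠ R := by
            obtain ⟨a, ha, ha1⟩ := exists_ne_one_of_mem hS hA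
            obtain ⟨p, hp, hp1⟩ := exists_ne_one_of_mem hS hP.1
            obtain ⟨FA, hFA, hAFA⟩ := not_isolated_exists (hF A hA) hA
            have hap : a * p ≠ 1 := fun e => hPA (eq_of_inter hS hA hP.1 hFA hAFA ha
              (by rw [eq_inv_of_mul_eq_one_left e]; exact inv_mem hp) ha1)
            obtain ⟨R₀, hR₀, hm⟩ := hpart.2.1 _ (mul_mem (hAU ha) (hP.2 hp)) hap
            obtain ⟨FP, hFP, hPFP⟩ := not_isolated_exists (hF P hP.1) hP.1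
            refine ⟨R₀, hR₀, fun e => ?_, fun e => ?_⟩
            · rw [e] at hm
              have : a ∈ P := by simpa using mul_mem hm (inv_mem hp)
              exact hPA (eq_of_inter hS hA hP.1 hFA hAFA ha this ha1)
            · rw [e, ← hAQ] at hm
              have : p ∈ A := by simpa using mul_mem (inv_mem ha) hm
              exact hPA (eq_of_inter hS hA hP.1 hFA hAFA this hp hp1)
          obtain ⟨g₂, hg₂, -, e₂⟩ := htr' S₀ hS₀ hne₀R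
          obtain ⟨g₃, hg₃, -, e₃⟩ := htr S₀ hS₀ hne₀P
          refine ⟨g₂⁻¹ * g₃, mul_mem (inv_mem hg₂) hg₃, ?_⟩
          rw [← conjBy_conjBy, ← hAQ, ← e₃, e₂, conjBy_inv_cancel]
      · obtain ⟨g, hg, -, e⟩ := htr'' P hP (Ne.symm hQ'P)
        exact ⟨g, hg, e.symm⟩
    · obtain ⟨g, hg, -, e⟩ := htr' R hR hRQ
      exact ⟨g⁻¹, inv_mem hg, by rw [e, conjBy_inv_cancel]⟩
  intro C₁ h1 C₂ h2 D₁ h3 D₂ h4 hC hD
  obtain ⟨g, hg, eg⟩ := toP C₁ h1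
  obtain ⟨h, hh, eh⟩ := toP D₁ h3
  have hC2 : conjBy C₂ g ≠ P := eg ▸ conjBy_ne hC.symm g
  have hD2 : conjBy D₂ h ≠ P := eh ▸ conjBy_ne hD.symm h
  obtain ⟨u, hu, huP, eu⟩ := htr _ (hmap g hg C₂ h2) hC2
  obtain ⟨v, hv, hvP, ev⟩ := htr _ (hmap h hh D₂ h4) hD2
  refine ⟨h⁻¹ * v * u⁻¹ * g, mul_mem (mul_mem (mul_mem (inv_mem hh) hv) (inv_mem hu)) hg, ?_, ?_⟩
  · rw [← conjBy_conjBy, eg, ← conjBy_conjBy, ← (eq_inv_conjBy huP), ← conjBy_conjBy, hvP, ← eh,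
      conjBy_inv_cancel]
  · rw [← conjBy_conjBy, eu, ← conjBy_conjBy, conjBy_inv_cancel, ← conjBy_conjBy, ← ev, conjBy_inv_cancel]

end Cfsg.Agent.S5038
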