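import Cfsg.Statements.S5029
-- import your own Cfsg.Agent.* helpers here
import Cfsg.Agent.Lib.Root.SetsMore


set_option autoImplicit false
open Cfsg

namespace Cfsg.Agent.S5029

/-- Let S be a set of abstract root subgroups of G, A ∈ S having a rank one partner in S, and B ∈ S with C = ⁅A, B⁆ ∈ S. Then the members of S contained in AC are the conjugates of A by elements of B together with C, they partition AC, the members of S inside AC partition AC so that A is a line partner of C, and for every non-identity a ∈ A the map b ↦ a⁻¹ b⁻¹ a b is an isomorphism from B onto C. -/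
theorem result {G : Type*} [Group G] {S : Set (Subgroup G)} (hS : Cfsg.IsRootSubgroupSet S)
    {A B : Subgroup G} (hA : ¬ Cfsg.IsIsolatedIn (Cfsg.FAdj S) S A) (hAS : A ∈ S) (hB : B ∈ S) (hC : ⁅A, B⁆ ∈ S) :
    Cfsg.membersIn S (A ⊔ ⁅A, B⁆) = (fun b : G => Cfsg.conjBy A b) '' (B : Set G) ∪ {⁅A, B⁆} ∧
    Cfsg.IsSubgroupPartition (A ⊔ ⁅A, B⁆) (Cfsg.membersIn S (A ⊔ ⁅A, B⁆)) ∧
    A ∈ Cfsg.linePartners S ⁅A, B⁆ ∧
    ∀ a ∈ A, a ≠ 1 → ∃ φ : ↥B ≃* ↥⁅A, B⁆, ∀ b : ↥B, (φ b : G) = a⁻¹ * (b : G)⁻¹ * a * b := by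
  obtain ⟨F, hF, hAF⟩ := RootLib.not_isolated_exists hA hAS
  have h := RootLib.commutatorCase_of_mem hS hAS hB hC
  have h' := RootLib.commutatorCase_symm h
  set C := ⁅A, B⁆ with hCdef
  have hCBA : ⁅B, A⁆ = C := Subgroup.commutator_comm B A
  have hcen : ∀ c ∈ C, ∀ a ∈ A, c * a = a * c := fun c hc a ha => h.2.1 c hc a (Subgroup.mem_sup_left ha)
  have hCA : C ≠ A := fun e => hS.ne_bot _ hC (RootLib.bracket_eq_bot_iff.2 fun a ha b hb =>
    h.2.1 a (show a ∈ C from e.symm ▸ ha) b (Subgroup.mem_sup_right hb))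
  have hsurj : ∀ a ∈ A, a ≠ 1 → ∀ k ∈ C, ∃ b ∈ B, b * a * b⁻¹ * a⁻¹ = k := fun a ha ha1 k hk =>
    RootLib.commutator_surj h' ha ha1 (hCBA.symm ▸ hk)
  have hle : ∀ b ∈ B, conjBy A b ≤ A ⊔ C := by
    intro b hb y hy
    have hy' := RootLib.mem_conjBy.1 hy
    have : y = (b * (b⁻¹ * y * b) * b⁻¹ * (b⁻¹ * y * b)⁻¹) * (b⁻¹ * y * b) := by group
    rw [this]
    exact mul_mem (Subgroup.mem_sup_right (hCBA ▸ RootLib.commutator_mem hb hy'))
      (Subgroup.mem_sup_left hy')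
  have hmeet : ∀ b ∈ B, ∀ x, x ∈ conjBy A b → x ∈ C → x = 1 := by
    intro b hb x hx hxC
    by_contra hx1
    have e := RootLib.eq_of_inter hS (hS.conj_mem A hAS b) hC (hS.conj_mem F hF b)
      (RootLib.isRankOnePair_conj hAF b) hx hxC hx1
    refine hCA ?_
    rw [RootLib.eq_inv_conjBy e.symm]
    exact (RootLib.conjBy_eq_of_commute fun c hc =>
      (h.2.1 c hc _ (Subgroup.mem_sup_right (inv_mem hb))).symm).symm
  have hcover : ∀ x ∈ A ⊔ C, x ≠ 1 → (∃ b ∈ B, x ∈ conjBy A b) ∨ x ∈ C := by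
    intro x hx hx1
    rw [← SetLike.mem_coe, Subgroup.coe_mul_of_left_le_normalizer_right A C (fun a ha =>
      Subgroup.mem_normalizer_iff.2 fun c =>
        ⟨fun hc => by rwa [← hcen c hc a ha, mul_inv_cancel_right], fun hc => by
          have h1 := hcen _ hc a ha
          rw [inv_mul_cancel_right] at h1
          rwa [← mul_left_cancel h1] at hc⟩)] at hx
    obtain ⟨a, ha, c, hc, rfl⟩ := Set.mem_mul.1 hx
    by_cases ha1 : a = 1
    · exact Or.inr (by rw [ha1, one_mul]; exact hc)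
    obtain ⟨b, hb, hbc⟩ := hsurj a ha ha1 c hc
    refine Or.inl ⟨b, hb, ?_⟩
    rw [← hcen c hc a ha, ← hbc, inv_mul_cancel_right]
    exact RootLib.conjBy_mem_conjBy ha
  have hmem : membersIn S (A ⊔ C) = (fun b : G => conjBy A b) '' (B : Set G) ∪ {C} := by
    ext D
    constructor
    · rintro ⟨hD, hDle⟩
      by_cases hex : ∃ b ∈ B, ∃ d ∈ D, d ≠ 1 ∧ d ∈ conjBy A b
      · obtain ⟨b, hb, d, hd, hd1, hdb⟩ := hex
        exact Or.inl ⟨b, hb, (RootLib.eq_of_inter hS (hS.conj_mem A hAS b) hD (hS.conj_mem F hF b)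
          (RootLib.isRankOnePair_conj hAF b) hdb hd hd1).symm⟩
      refine Or.inr ?_
      have hDC : D ≤ C := by
        intro d hd
        by_cases hd1 : d = 1
        · rw [hd1]; exact one_mem _
        exact (hcover d (hDle hd) hd1).resolve_left fun ⟨b, hb, hdb⟩ => hex ⟨b, hb, d, hd, hd1, hdb⟩
      obtain ⟨d, hd, hd1⟩ := RootLib.exists_ne_one_of_mem hS hD
      obtain ⟨a, ha, ha1⟩ := RootLib.exists_ne_one_of_mem hS hAS
      obtain ⟨f, hf, hf1⟩ := RootLib.exists_ne_one_of_mem hS hF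
      rw [Set.mem_singleton_iff]
      rcases hS.pair C hC F hF with hcf | hcf | hcf
      · exfalso
        obtain ⟨b, hb, hbc⟩ := hsurj a ha ha1 d (hDC hd)
        exact hd1 (RootLib.eq_of_product_mem hS (hS.conj_mem A hAS b) hAS hF hAF (z := d) ha ha1
          (hcen d (hDC hd)) (RootLib.bracket_eq_bot_iff.1 hcf d (hDC hd))
          (by rw [← hbc, inv_mul_cancel_right]; exact RootLib.conjBy_mem_conjBy ha)).2
      · exact RootLib.eq_of_inter hS hC hD hF hcf (hDC hd) hd hd1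
      · rcases hS.pair D hD F hF with hdf | hdf | hdf
        · exact absurd (RootLib.commutator_inj hS hC hF hAS (RankOnePair_symm hAF) hcf (hDC hd) hf hf1
            (RootLib.bracket_eq_bot_iff.1 hdf d hd f hf)) hd1
        · exact (RootLib.eq_of_inter hS hD hC hF hdf hd (hDC hd) hd1).symm
        · refine le_antisymm hDC fun c hc => ?_
          have hKK : ⁅C, F⁆ = ⁅D, F⁆ := by rw [← hcf.2.2.1 d (hDC hd) hd1, ← hdf.2.2.1 d hd hd1]
          obtain ⟨d', hd', hdc⟩ := RootLib.commutator_surj hdf hf hf1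
            (hKK ▸ RootLib.commutator_mem hc hf)
          have h1 := RootLib.commutator_mul hcf (inv_mem (hDC hd')) hc hf
          rw [← hdc, ← RootLib.commutator_mul hcf (inv_mem (hDC hd')) (hDC hd') hf, inv_mul_cancel] at h1
          have h2 : (d'⁻¹ * c) * f * (d'⁻¹ * c)⁻¹ * f⁻¹ = 1 := by rw [h1]; group
          have h3 := RootLib.commutator_inj hS hC hF hAS (RankOnePair_symm hAF) hcf
            (mul_mem (inv_mem (hDC hd')) hc) hf hf1 (commutatorElement_eq_one_iff_mul_comm.1 h2)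
          exact inv_mul_eq_one.1 h3 ▸ hd'
    · rintro (⟨b, hb, rfl⟩ | rfl)
      · exact ⟨hS.conj_mem A hAS b, hle b hb⟩
      · exact ⟨hC, le_sup_right⟩
  have hpart : IsSubgroupPartition (A ⊔ C) (membersIn S (A ⊔ C)) := by
    refine ⟨fun D hD => hD.2, fun x hx hx1 => ?_, ?_⟩
    · rw [hmem]
      rcases hcover x hx hx1 with ⟨b, hb, hxb⟩ | hxC
      · exact ⟨_, Or.inl ⟨b, hb, rfl⟩, hxb⟩
      · exact ⟨C, Or.inr rfl, hxC⟩
    · rw [hmem]
      intro D hD E hE hne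
      rw [Subgroup.eq_bot_iff_forall]
      intro x hx
      obtain ⟨hxD, hxE⟩ := Subgroup.mem_inf.1 hx
      by_contra hx1
      rcases hD with ⟨b, hb, rfl⟩ | rfl <;> rcases hE with ⟨b', hb', rfl⟩ | rfl
      · exact hne (RootLib.eq_of_inter hS (hS.conj_mem A hAS b) (hS.conj_mem A hAS b')
          (hS.conj_mem F hF b) (RootLib.isRankOnePair_conj hAF b) hxD hxE hx1).symm
      · exact hx1 (hmeet b hb x hxD hxE)
      · exact hx1 (hmeet b' hb' x hxE hxD)
      · exact hne rfl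
  refine ⟨hmem, hpart, ⟨⟨hAS, hCA.symm, RootLib.bracket_eq_bot_iff.2 hcen⟩, ?_⟩, fun a ha ha1 => ?_⟩
  · rw [sup_comm]; exact hpart
  have he : ∀ b ∈ B, a⁻¹ * b⁻¹ * a * b = b⁻¹ * a * (b⁻¹)⁻¹ * a⁻¹ := by
    intro b hb
    have h1 := hcen _ (hCBA ▸ RootLib.commutator_mem (inv_mem hb) ha) a ha
    calc a⁻¹ * b⁻¹ * a * b = a⁻¹ * (b⁻¹ * a * (b⁻¹)⁻¹ * a⁻¹ * a) := by group
      _ = a⁻¹ * (a * (b⁻¹ * a * (b⁻¹)⁻¹ * a⁻¹)) := by rw [h1]
      _ = _ := inv_mul_cancel_left _ _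
  let φ : ↥B →* ↥C := MonoidHom.mk'
    (fun b => ⟨a⁻¹ * (b : G)⁻¹ * a * b, by
      rw [he b b.2]; exact hCBA ▸ RootLib.commutator_mem (inv_mem b.2) ha⟩)
    (fun x y => Subtype.ext (by
      show a⁻¹ * ((x : G) * y)⁻¹ * a * (x * y) = (a⁻¹ * (x : G)⁻¹ * a * x) * (a⁻¹ * (y : G)⁻¹ * a * y)
      rw [he _ (mul_mem x.2 y.2), he x x.2, he y y.2, mul_inv_rev,
        RootLib.commutator_mul h' (inv_mem y.2) (inv_mem x.2) ha]
      exact h'.2.1 _ (RootLib.commutator_mem (inv_mem y.2) ha) _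
        (mul_mem (mul_mem (mul_mem (Subgroup.mem_sup_left (inv_mem x.2)) (Subgroup.mem_sup_right ha))
          (inv_mem (Subgroup.mem_sup_left (inv_mem x.2)))) (inv_mem (Subgroup.mem_sup_right ha)))))
  refine ⟨MulEquiv.ofBijective φ ⟨?_, ?_⟩, fun b => rfl⟩
  · rw [injective_iff_map_eq_one]
    intro b hb
    have h1 := congrArg Subtype.val hb
    change a⁻¹ * (b : G)⁻¹ * a * b = 1 at h1
    rw [he b b.2] at h1
    have h2 := RootLib.commutator_inj hS hB hAS hF hAF h' (inv_mem b.2) ha ha1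
      (commutatorElement_eq_one_iff_mul_comm.1 h1)
    exact Subtype.ext (inv_eq_one.1 h2)
  · rintro ⟨k, hk⟩
    obtain ⟨b, hb, hbk⟩ := hsurj a ha ha1 k hk
    refine ⟨⟨b⁻¹, inv_mem hb⟩, Subtype.ext ?_⟩
    show a⁻¹ * (b⁻¹)⁻¹ * a * b⁻¹ = k
    rw [he _ (inv_mem hb), inv_inv, hbk]

end Cfsg.Agent.S5029
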