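import Cfsg.Statements.S1093
import Cfsg.Agent.Lib.Chev.AllW
import Cfsg.Agent.Lib.Chev.AllW7
import Cfsg.Agent.Lib.Chev.AllW8
import Cfsg.Agent.Lib.Chev.AllX

set_option autoImplicit false
open Cfsg

namespace Cfsg.Agent.S1093
open Cfsg.Agent

/-- `|W(E₆)| = 51840`, `|W(E₇)| = 2903040`, `|W(E₈)| = 696729600` for Mathlib's presented Coxeter groups. -/
theorem result (p : (Σ n : ℕ, CoxeterMatrix (Fin n)) × ℕ)
    (hp : p ∈ [(⟨6, CoxeterMatrix.E₆⟩, 51840), (⟨7, CoxeterMatrix.E₇⟩, 2903040), (⟨8, CoxeterMatrix.E₈⟩, 696729600)]) :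
    Nat.card p.1.2.Group = p.2 := by
  simp only [List.mem_cons, List.not_mem_nil, or_false] at hp
  rcases hp with rfl | rfl | rfl
  · rw [Chev.E6.ok.card_coxeter Chev.ckComm_E6 Chev.ckCox_E6 (J := [5, 4, 3, 2, 1, 0]) (by decide) Chev.ckOrb_E6 Chev.poinP_E6]
    rfl
  · rw [Chev.E7.ok.card_coxeter Chev.ckComm_E7 Chev.ckCox_E7 (J := [6, 5, 4, 3, 2, 1, 0]) (by decide) Chev.ckOrb_E7 Chev.poinP_E7]
    rfl
  · rw [Chev.E8.ok.card_coxeter Chev.ckComm_E8 Chev.ckCox_E8 (J := [7, 6, 5, 4, 3, 2, 1, 0]) (by decide) Chev.ckOrb_E8 Chev.poinP_E8]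
    rfl

end Cfsg.Agent.S1093
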