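import Cfsg.Statements.S4496
import Cfsg.Agent.Lib.Basics.Cores

set_option autoImplicit false
open Cfsg

namespace Cfsg.Agent.S4496

open Subgroup
open scoped commutatorElement

/-- Let the finite group G contain an element x of prime order p with C_G(x) = ⟨x⟩. Then: (a) every normal subgroup of order divisible by p contains the commutator subgroup; (b) every normal subgroup S of order prime to p has order dividing the number of subgroups of order p of G and congruent to 1 modulo p, and in G/S the image of x again has prime order p and commutes only with its own powers. -/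
theorem result {G : Type*} [Group G] [Finite G] (p : ℕ) (hp : p.Prime) (x : G) (hx : orderOf x = p) (hC : Subgroup.centralizer ({x} : Set G) = Subgroup.zpowers x) (S : Subgroup G) [S.Normal] : (p ∣ Nat.card S → commutator G ≤ S) ∧ (¬ p ∣ Nat.card S → Nat.card S ∣ Nat.card {H : Subgroup G // Nat.card H = p} ∧ Nat.card S % p = 1 ∧ orderOf (QuotientGroup.mk x : G ⧸ S) = p ∧ Subgroup.centralizer ({(QuotientGroup.mk x : G ⧸ S)} : Set (G ⧸ S)) = Subgroup.zpowers (QuotientGroup.mk x : G ⧸ S)) := by
  haveI := Fact.mk hp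
  have hcard : Nat.card (zpowers x) = p := by rw [Nat.card_zpowers, hx]
  have hxp : IsPGroup p (zpowers x) := IsPGroup.of_card (n := 1) (by rw [hcard, pow_one])
  obtain ⟨P, hP⟩ := hxp.exists_le_sylow
  have hPeq : (P : Subgroup G) = zpowers x := by
    refine le_antisymm ?_ hP
    haveI : Nontrivial ↥(P : Subgroup G) :=
      (nontrivial_iff_ne_bot _).mpr fun e => by
        have := hP (mem_zpowers x)
        rw [e, mem_bot] at this
        exact hp.ne_one (by rw [← hx, this, orderOf_one])
    haveI : Nontrivial (center ↥(P : Subgroup G)) := P.2.center_nontrivial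
    obtain ⟨z, hz⟩ := exists_ne (1 : center ↥(P : Subgroup G))
    set z' : G := ((z : ↥(P : Subgroup G)) : G)
    have hz1 : z' ≠ 1 := fun e => hz (Subtype.ext (Subtype.ext e))
    have hzC : z' ∈ zpowers x := by
      rw [← hC, mem_centralizer_singleton_iff]
      exact (congrArg Subtype.val (mem_center_iff.mp z.2 ⟨x, hP (mem_zpowers x)⟩) :).symm
    have hgen : zpowers z' = zpowers x := by
      refine eq_of_le_of_card_ge (Subgroup.zpowers_le.mpr hzC) (le_of_eq ?_)
      rw [hcard]
      refine ((hp.eq_one_or_self_of_dvd _ (hcard ▸ card_dvd_of_le (Subgroup.zpowers_le.mpr hzC)))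
        |>.resolve_left ?_).symm
      rw [Nat.card_zpowers, orderOf_eq_one_iff]
      exact hz1
    intro g hg
    rw [← hC, mem_centralizer_singleton_iff]
    have hxz : x ∈ zpowers z' := hgen ▸ mem_zpowers x
    obtain ⟨i, hi⟩ := mem_zpowers_iff.mp hxz
    have h1 : Commute g z' := (congrArg Subtype.val (mem_center_iff.mp z.2 ⟨g, hg⟩) :)
    rw [← hi]
    exact (h1.zpow_right i).eq
  constructor
  · intro hS
    obtain ⟨y, hy⟩ := exists_prime_orderOf_dvd_card' p hS
    have hyp : IsPGroup p (zpowers (y : G)) :=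
      IsPGroup.of_card (n := 1) (by rw [Nat.card_zpowers, orderOf_coe, hy, pow_one])
    obtain ⟨P', hP'⟩ := hyp.exists_le_sylow
    obtain ⟨g, hg⟩ := MulAction.exists_smul_eq G P' P
    have hxS : x ∈ S := by
      have h1 : g * y * g⁻¹ ∈ zpowers x := by
        rw [← hPeq, ← hg]
        exact ⟨y, hP' (mem_zpowers _), rfl⟩
      have hne : g * (y : G) * g⁻¹ ≠ 1 := fun e => hp.ne_one (by
        rw [← hy, ← orderOf_coe, conj_eq_one_iff.mp e, orderOf_one])
      have h2 : zpowers (g * (y : G) * g⁻¹) = zpowers x := by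
        refine eq_of_le_of_card_ge (Subgroup.zpowers_le.mpr h1) (le_of_eq ?_)
        rw [hcard]
        exact ((hp.eq_one_or_self_of_dvd _ (hcard ▸ card_dvd_of_le (Subgroup.zpowers_le.mpr h1)))
          |>.resolve_left (by rw [Nat.card_zpowers, orderOf_eq_one_iff]; exact hne)).symm
      exact (Subgroup.zpowers_le.mpr ((inferInstance : S.Normal).conj_mem _ y.2 g)) (h2 ▸ mem_zpowers x)
    have hN : ∀ g : G, ∃ n : G, n ∈ normalizer (zpowers x : Set G) ∧ n⁻¹ * g ∈ S := by
      intro g
      have hle : (P : Subgroup G) ≤ S := hPeq ▸ Subgroup.zpowers_le.mpr hxS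
      have h := Sylow.normalizer_sup_eq_top' P hle
      obtain ⟨n, hn', s, hs, rfl⟩ := mem_sup_of_normal_right.mp ((le_of_eq h.symm) (mem_top g))
      have hn : n ∈ normalizer ((P : Subgroup G) : Set G) := hn' 
      exact ⟨n, by rwa [hPeq] at hn, by rwa [inv_mul_cancel_left]⟩
    rw [_root_.commutator_def, commutator_le]
    intro a _ b _
    obtain ⟨n, hn, hna⟩ := hN a
    obtain ⟨m, hm, hmb⟩ := hN b
    obtain ⟨i, hi⟩ := mem_zpowers_iff.mp ((mem_normalizer_iff.mp hn x).mp (mem_zpowers x))
    obtain ⟨j, hj⟩ := mem_zpowers_iff.mp ((mem_normalizer_iff.mp hm x).mp (mem_zpowers x))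
    have hi' : ∀ k : ℤ, n * x ^ k * n⁻¹ = x ^ (i * k) := fun k => by rw [← conj_zpow, ← hi, zpow_mul]
    have hj' : ∀ k : ℤ, m * x ^ k * m⁻¹ = x ^ (j * k) := fun k => by rw [← conj_zpow, ← hj, zpow_mul]
    have hnm : (m * n)⁻¹ * (n * m) ∈ centralizer ({x} : Set G) := by
      rw [mem_centralizer_singleton_iff]
      have e1 : n * m * x * (n * m)⁻¹ = x ^ (i * j) := by
        rw [← hi', hj]; group
      have e2 : m * n * x * (m * n)⁻¹ = x ^ (i * j) := by
        rw [mul_comm i j, ← hj', hi]; group
      calc (m * n)⁻¹ * (n * m) * x = (m * n)⁻¹ * (n * m * x * (n * m)⁻¹) * (n * m) := by group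
        _ = (m * n)⁻¹ * (m * n * x * (m * n)⁻¹) * (n * m) := by rw [e1, e2]
        _ = x * ((m * n)⁻¹ * (n * m)) := by group
    rw [hC] at hnm
    have hnmS : (m * n)⁻¹ * (n * m) ∈ S := Subgroup.zpowers_le.mpr hxS hnm
    rw [← QuotientGroup.eq_one_iff]
    have ea : (n : G ⧸ S) = (a : G ⧸ S) := QuotientGroup.eq.mpr hna
    have eb : (m : G ⧸ S) = (b : G ⧸ S) := QuotientGroup.eq.mpr hmb
    have ec : (m : G ⧸ S) * n = (n : G ⧸ S) * m := QuotientGroup.eq.mpr hnmS
    show ((⁅a, b⁆ : G) : G ⧸ S) = 1
    rw [commutatorElement_def, QuotientGroup.mk_mul, QuotientGroup.mk_mul, QuotientGroup.mk_mul,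
      QuotientGroup.mk_inv, QuotientGroup.mk_inv, ← ea, ← eb, ← ec]
    group
  · intro hS
    have hdisj : S ⊓ zpowers x = ⊥ := inf_eq_bot_of_coprime
      (by rw [hcard]; exact (hp.coprime_iff_not_dvd.mpr hS).symm)
    have hNS : S ⊓ normalizer (zpowers x : Set G) = ⊥ := by
      rw [eq_bot_iff]
      rintro s ⟨hs, hsn⟩
      have h1 : s * x * s⁻¹ * x⁻¹ ∈ S ⊓ zpowers x := by
        refine mem_inf.mpr ⟨?_, mul_mem ((mem_normalizer_iff.mp hsn x).mp (mem_zpowers x)) (inv_mem (mem_zpowers x))⟩
        rw [mul_assoc, mul_assoc, ← mul_assoc x]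
        exact mul_mem hs ((inferInstance : S.Normal).conj_mem _ (inv_mem hs) x)
      rw [hdisj, mem_bot, mul_inv_eq_one, mul_inv_eq_iff_eq_mul] at h1
      have h2 : s ∈ zpowers x := by rw [← hC, mem_centralizer_singleton_iff]; exact h1
      exact hdisj.le ⟨hs, h2⟩
    have horder : orderOf (QuotientGroup.mk x : G ⧸ S) = p := by
      refine orderOf_eq_prime ?_ ?_
      · rw [← QuotientGroup.mk_pow, ← hx, pow_orderOf_eq_one]; rfl
      · intro e
        have h1 : x ∈ (⊥ : Subgroup G) := hdisj ▸ ⟨(QuotientGroup.eq_one_iff x).mp e, mem_zpowers x⟩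
        exact hp.ne_one (by rw [← hx, mem_bot.mp h1, orderOf_one])
    refine ⟨?_, ?_, horder, ?_⟩
    · have hnum : Nat.card {H : Subgroup G // Nat.card H = p} =
          (normalizer (zpowers x : Set G)).index := by
        rw [← hPeq]
        refine Eq.trans ?_ P.card_eq_index_normalizer
        refine Nat.card_congr (Equiv.ofBijective (fun Q : {H : Subgroup G // Nat.card H = p} =>
          (IsPGroup.of_card (n := 1) (by rw [Q.2, pow_one])).toSylow ?_) ⟨?_, ?_⟩)
        · intro h
          refine P.not_dvd_index (h.trans (dvd_of_eq ?_))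
          have e1 := card_mul_index Q.1
          have e2 := card_mul_index (P : Subgroup G)
          rw [hPeq] at e2 ⊢
          rw [hcard] at e2
          rw [Q.2] at e1
          exact Nat.eq_of_mul_eq_mul_left hp.pos (e1.trans e2.symm)
        · intro Q Q' e
          exact Subtype.ext (by simpa using congrArg Sylow.toSubgroup e)
        · intro Q
          refine ⟨⟨(Q : Subgroup G), ?_⟩, Sylow.ext (by simp)⟩
          rw [Nat.card_congr (P.equiv Q).toEquiv.symm, hPeq, hcard]
      rw [hnum]
      set N := normalizer (zpowers x : Set G)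
      have e1 := Basics.card_mul_card_eq_card_sup_mul_card_inf (N := S) (H := N)
        (fun _ _ => by rw [normalizer_eq_top]; trivial)
      rw [hNS, card_bot, mul_one] at e1
      have e2 : Nat.card S * Nat.card N ∣ Nat.card N * N.index := by
        rw [e1, card_mul_index N]
        exact card_subgroup_dvd_card _
      rw [mul_comm (Nat.card N)] at e2
      exact Nat.dvd_of_mul_dvd_mul_right Nat.card_pos e2
    · letI : MulAction (zpowers x) S := MulAction.compHom S
        ((MulAut.conjNormal : G →* MulAut S).comp (zpowers x).subtype)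
      have hmod := hxp.card_modEq_card_fixedPoints S
      have hfix : Nat.card (MulAction.fixedPoints (zpowers x) S) = 1 := by
        rw [Nat.card_eq_one_iff_unique]
        refine ⟨⟨fun a b => ?_⟩, ⟨⟨1, fun g => show MulAut.conjNormal (g : G) (1 : S) = 1 from map_one _⟩⟩⟩
        have key : ∀ a : MulAction.fixedPoints (zpowers x) S, a.1 = 1 := by
          intro a
          have h1 : MulAut.conjNormal x a.1 = a.1 := a.2 ⟨x, mem_zpowers x⟩
          have h2 : x * (a.1 : G) * x⁻¹ = a.1 := by rw [← MulAut.conjNormal_apply, h1]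
          have h3 : (a.1 : G) ∈ zpowers x := by
            exact (SetLike.ext_iff.mp hC _).mp
              (mem_centralizer_singleton_iff.mpr (mul_inv_eq_iff_eq_mul.mp h2).symm)
          exact Subtype.ext (mem_bot.mp (hdisj.le ⟨a.1.2, h3⟩))
        exact Subtype.ext ((key a).trans (key b).symm)
      rw [hfix] at hmod
      exact Nat.mod_eq_of_modEq hmod hp.one_lt
    · refine le_antisymm ?_ (Subgroup.zpowers_le.mpr (mem_centralizer_singleton_iff.mpr rfl))
      intro y hy
      induction y using QuotientGroup.induction_on with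
      | _ g =>
      have h1 : x⁻¹ * (g * x * g⁻¹) ∈ S := by
        refine QuotientGroup.eq.mp ?_
        rw [QuotientGroup.mk_mul, QuotientGroup.mk_mul, QuotientGroup.mk_inv,
          mem_centralizer_singleton_iff.mp hy, mul_inv_cancel_right]
      have hinj : Function.Injective fun s : S => (⟨x⁻¹ * ((s : G) * x * (s : G)⁻¹), by
          rw [← mul_assoc, ← mul_assoc]
          refine mul_mem ?_ (inv_mem s.2)
          simpa using (inferInstance : S.Normal).conj_mem _ s.2 x⁻¹⟩ : S) := by
        intro s t e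
        have e1 : (s : G) * x * (s : G)⁻¹ = t * x * (t : G)⁻¹ := mul_left_cancel (congrArg Subtype.val e :)
        have h2 : (t : G)⁻¹ * s ∈ centralizer ({x} : Set G) := by
          rw [mem_centralizer_singleton_iff]
          calc (t : G)⁻¹ * s * x = (t : G)⁻¹ * ((s : G) * x * (s : G)⁻¹) * s := by group
            _ = x * ((t : G)⁻¹ * s) := by rw [e1]; group
        rw [hC] at h2
        exact Subtype.ext (inv_mul_eq_one.mp (mem_bot.mp (hdisj.le ⟨S.mul_mem (S.inv_mem t.2) s.2, h2⟩))).symm
      obtain ⟨s, hs⟩ := (Finite.injective_iff_surjective.mp hinj) ⟨_, h1⟩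
      have e2 : (s : G) * x * (s : G)⁻¹ = g * x * g⁻¹ := mul_left_cancel (congrArg Subtype.val hs :)
      have h3 : (s : G)⁻¹ * g ∈ centralizer ({x} : Set G) := by
        rw [mem_centralizer_singleton_iff]
        calc (s : G)⁻¹ * g * x = (s : G)⁻¹ * (g * x * g⁻¹) * g := by group
          _ = x * ((s : G)⁻¹ * g) := by rw [← e2]; group
      rw [hC] at h3
      obtain ⟨i, hi⟩ := mem_zpowers_iff.mp h3
      refine mem_zpowers_iff.mpr ⟨i, ?_⟩
      rw [← QuotientGroup.mk_zpow, hi, QuotientGroup.mk_mul, QuotientGroup.mk_inv,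
        (QuotientGroup.eq_one_iff (s : G)).mpr s.2, inv_one, one_mul]

end Cfsg.Agent.S4496
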