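import Cfsg.Statements.S1012
import Cfsg.Agent.Lib.SmallSimple.SylowFive
import Mathlib


set_option autoImplicit false
open Cfsg Subgroup

namespace Cfsg.Agent.S1012

/-- A group of order 24 containing no element of order 6 is isomorphic to the symmetric group of degree 4. -/
theorem result {G : Type*} [Group G] [Finite G] (h : Nat.card G = 24) (h6 : ∀ g : G, orderOf g ≠ 6) : Nonempty (G ≃* Equiv.Perm (Fin 4)) := by
  haveI : Fact (Nat.Prime 3) := ⟨by norm_num⟩
  haveI : Fact (Nat.Prime 2) := ⟨by norm_num⟩
  obtain ⟨P⟩ : Nonempty (Sylow 3 G) := inferInstance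
  have hP : Nat.card P = 3 :=
    SmallSimple.card_sylow_of_eq (k := 1) (m := 8) P (by rw [h]; norm_num) (by norm_num)
  -- no involution centralises an element of order 3
  have key : ∀ u z : G, orderOf u = 2 → orderOf z = 3 → u * z ≠ z * u := fun u z hu hz hc =>
    h6 (u * z) (by
      rw [(show Commute u z from hc).orderOf_mul_eq_mul_orderOf_of_coprime
        (by rw [hu, hz]; norm_num), hu, hz])
  obtain ⟨x, hx⟩ := exists_prime_orderOf_dvd_card' (G := P) 3 (by rw [hP])
  have hxG : orderOf (x : G) = 3 := (orderOf_coe x).trans hx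
  have hN := SmallSimple.card_sylow_mul P
  have hCN := SmallSimple.card_normalizer_eq (P : Subgroup G)
  have hrel := SmallSimple.relIndex_dvd_of_card_prime (P : Subgroup G) hP
  have hC2 : ¬ 2 ∣ Nat.card (centralizer ((P : Subgroup G) : Set G)) := by
    intro hd
    obtain ⟨⟨u, hu'⟩, hu⟩ := exists_prime_orderOf_dvd_card' 2 hd
    exact key u x ((orderOf_coe _).trans hu) hxG (mem_centralizer_iff.1 hu' x x.2).symm
  rw [h] at hN
  have hn : Nat.card (Sylow 3 G) = 4 := by
    have hd : Nat.card (Sylow 3 G) ∣ 24 := Dvd.intro _ hN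
    have hm : Nat.card (Sylow 3 G) % 3 = 1 := card_sylow_modEq_one 3 G
    have key' : ∀ n ∈ (24 : ℕ).divisors, n % 3 = 1 → n = 1 ∨ n = 4 := by decide
    rcases key' _ (Nat.mem_divisors.2 ⟨hd, by norm_num⟩) hm with h1 | h1
    · exfalso
      rw [h1, one_mul] at hN
      rw [hN] at hCN
      rcases (Nat.dvd_prime (by norm_num : Nat.Prime 2)).1 hrel with h2 | h2 <;> rw [h2] at hCN <;>
        exact hC2 (by omega)
    · exact h1
  have hN6 : ∀ R : Sylow 3 G, Nat.card (normalizer ((R : Subgroup G) : Set G)) = 6 := fun R => by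
    have := SmallSimple.card_sylow_mul R
    rw [hn, h] at this; omega
  let f := MulAction.toPermHom G (Sylow 3 G)
  have hinj : Function.Injective f := by
    rw [← MonoidHom.ker_eq_bot_iff]
    have hle : ∀ R : Sylow 3 G, f.ker ≤ normalizer ((R : Subgroup G) : Set G) := fun R g hg =>
      (SylowFive.smul_sylow_eq R).1 (congrArg (fun σ : Equiv.Perm (Sylow 3 G) => σ R) hg)
    have h3 : ¬ 3 ∣ Nat.card f.ker := by
      intro hd
      obtain ⟨z, hz⟩ := exists_prime_orderOf_dvd_card' 3 hd
      have hzR : ∀ R : Sylow 3 G, (R : Subgroup G) = zpowers (z : G) := by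
        intro R
        have hmem : (z : G) ∈ (R : Subgroup G) := SylowFive.sylow_le_of_mem_normalizer R
          (hle R z.2) 1 (by
            have := pow_orderOf_eq_one (z : G)
            rw [orderOf_coe, hz] at this; simpa using this)
        refine (eq_of_le_of_card_ge (zpowers_le.2 hmem) ?_).symm
        rw [Nat.card_zpowers, orderOf_coe, hz, SmallSimple.card_sylow_of_eq (k := 1) (m := 8) R
          (by rw [h]; norm_num) (by norm_num)]
        norm_num
      have : Nat.card (Sylow 3 G) ≤ 1 := by
        rw [Finite.card_le_one_iff_subsingleton]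
        exact ⟨fun a b => Sylow.ext ((hzR a).trans (hzR b).symm)⟩
      omega
    have hd6 : Nat.card f.ker ∣ 6 := hN6 P ▸ card_dvd_of_le (hle P)
    have key' : ∀ n ∈ (6 : ℕ).divisors, ¬ 3 ∣ n → n = 1 ∨ n = 2 := by decide
    rcases key' _ (Nat.mem_divisors.2 ⟨hd6, by norm_num⟩) h3 with h1 | h1
    · exact card_eq_one.1 h1
    · exfalso
      obtain ⟨u, hu⟩ := exists_prime_orderOf_dvd_card' (G := f.ker) 2 (by rw [h1])
      refine key u x ((orderOf_coe u).trans hu) hxG ?_
      have hconj : (x : G) * u * (x : G)⁻¹ ∈ f.ker :=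
        (MonoidHom.normal_ker f).conj_mem _ u.2 _
      have huniq : ∀ w : f.ker, w ≠ 1 → w = u := fun w hw => by
        have hu1 : u ≠ 1 := fun h0 => by rw [h0, orderOf_one] at hu; omega
        obtain ⟨a, b, hab, hset⟩ := Nat.card_eq_two_iff.1 h1
        have e : ∀ y : f.ker, y = a ∨ y = b := fun y => by
          have : y ∈ ({a, b} : Set f.ker) := by rw [hset]; trivial
          simpa using this
        rcases e 1 with h0 | h0 <;> rcases e u with h2 | h2 <;> rcases e w with h4 | h4 <;>
          first | (subst h4; exact h2.symm) | exact absurd (h4.trans h0.symm) hw |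
            exact absurd (h2.trans h0.symm) hu1
      have := congrArg Subtype.val (huniq ⟨_, hconj⟩ (fun h0 => by
        have : (x : G) * u * (x : G)⁻¹ = 1 := congrArg Subtype.val h0
        rw [mul_inv_eq_one, mul_eq_left] at this
        rw [Subtype.ext (show (u : G) = ((1 : f.ker) : G) from this), orderOf_one] at hu
        omega))
      exact (mul_inv_eq_iff_eq_mul.1 this).symm
  have hbij : Function.Bijective f := by
    refine (Nat.bijective_iff_injective_and_card f).2 ⟨hinj, ?_⟩
    rw [h, Nat.card_perm, hn]; rfl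
  let e : Sylow 3 G ≃ Fin 4 := Classical.choice (Finite.card_eq.1 (by rw [hn, Nat.card_fin]))
  exact ⟨(MulEquiv.ofBijective f hbij).trans e.permCongrHom⟩

end Cfsg.Agent.S1012
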