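import Cfsg.Statements.S0985
import Cfsg.Agent.Lib.SmallSimple.SylowFive


set_option autoImplicit false
open Cfsg

namespace Cfsg.Agent.S0985

/-- If the number of Sylow p-subgroups of a finite group is not congruent to 1 modulo p^k, then there are two distinct Sylow p-subgroups P and R such that the index of P ∩ R in P is at most p^(k-1). -/
theorem result {G : Type*} [Group G] [Finite G] (p k : ℕ) [Fact p.Prime] (h : ¬ Nat.card (Sylow p G) ≡ 1 [MOD p ^ k]) : ∃ P R : Sylow p G, P ≠ R ∧ ((R : Subgroup G).subgroupOf (P : Subgroup G)).index ≤ p ^ (k - 1) := by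
  classical
  obtain ⟨P⟩ : Nonempty (Sylow p G) := inferInstance
  by_contra hall
  simp only [not_exists, not_and, not_le] at hall
  apply h
  haveI := Fintype.ofFinite (MulAction.orbitRel.Quotient (P : Subgroup G) (Sylow p G))
  have hc := Nat.card_congr
    (MulAction.selfEquivSigmaOrbits (P : Subgroup G) (Sylow p G))
  rw [Nat.card_sigma] at hc
  set q₀ : MulAction.orbitRel.Quotient (P : Subgroup G) (Sylow p G) := Quotient.mk'' P with hq₀
  rw [← Finset.sum_erase_add _ _ (Finset.mem_univ q₀)] at hc
  have h1 : Nat.card (MulAction.orbit (P : Subgroup G) q₀.out) = 1 := by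
    have ho : q₀.out = P := by
      have := Quotient.out_eq' q₀
      rw [hq₀, Quotient.eq''] at this
      obtain ⟨z, hz⟩ := this
      exact hz.symm.trans (SylowFive.smul_eq_of_mem P z.2)
    rw [ho, Nat.card_eq_one_iff_exists]
    refine ⟨⟨P, MulAction.mem_orbit_self P⟩, ?_⟩
    rintro ⟨_, z, rfl⟩
    exact Subtype.ext (SylowFive.smul_eq_of_mem P z.2)
  have h2 : ∀ q ∈ (Finset.univ : Finset _).erase q₀,
      p ^ k ∣ Nat.card (MulAction.orbit (P : Subgroup G) (q : MulAction.orbitRel.Quotient _ _).out) := by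
    intro q hq
    have hne : P ≠ q.out := fun he => (Finset.mem_erase.1 hq).1
      ((Quotient.out_eq' q).symm.trans (congrArg Quotient.mk'' he.symm))
    obtain ⟨m, hm⟩ := P.2.card_orbit q.out
    have hidx := hall P q.out hne
    have hst : MulAction.stabilizer (P : Subgroup G) q.out =
        ((q.out : Sylow p G) : Subgroup G).subgroupOf (P : Subgroup G) := by
      ext z
      rw [MulAction.mem_stabilizer_iff, Subgroup.mem_subgroupOf]
      refine ⟨fun hz => ?_, fun hz => SylowFive.smul_eq_of_mem _ hz⟩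
      have hp : IsPGroup p (Subgroup.zpowers (z : G)) := P.2.to_le (Subgroup.zpowers_le.2 z.2)
      refine SylowFive.le_of_fixes hp _ ?_ (Subgroup.mem_zpowers _)
      rintro _ ⟨j, rfl⟩
      exact MulAction.mem_stabilizer_iff.1
        (zpow_mem (MulAction.mem_stabilizer_iff.2 (show (z : G) • q.out = q.out from hz)) j)
    have hi := MulAction.index_stabilizer (P : Subgroup G) q.out
    rw [hst, ← Nat.card_coe_set_eq, hm] at hi
    rw [hi] at hidx
    rw [hm]
    refine pow_dvd_pow p ?_
    have := (Nat.pow_lt_pow_iff_right (Fact.out : p.Prime).one_lt).1 hidx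
    omega
  rw [hc, h1]
  have hd : p ^ k ∣ ∑ q ∈ (Finset.univ : Finset _).erase q₀,
      Nat.card (MulAction.orbit (P : Subgroup G) (q : MulAction.orbitRel.Quotient _ _).out) :=
    Finset.dvd_sum h2
  obtain ⟨c, hc'⟩ := hd
  rw [hc']
  exact Nat.ModEq.symm ((Nat.modEq_iff_dvd' (by omega)).2 ⟨c, by omega⟩)

end Cfsg.Agent.S0985
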