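import Cfsg.Statements.S2566
import Mathlib
import Cfsg.Agent.S0287

set_option autoImplicit false
open Cfsg

namespace Cfsg.Agent.S2566

open scoped Matrix

/-- The index set. -/
abbrev I4 := Fin 2 ⊕ Fin 2

/-- Position in a 2 x 2 matrix of a coordinate. -/
def posn : I4 → Fin 2 × Fin 2
  | .inl i => (0, i)
  | .inr i => if i = 0 then (1, 1) else (1, 0)

/-- The nonzero vectors of the plane. -/
def pnt : Fin 3 → Fin 2 → ZMod 2 := ![![1, 0], ![0, 1], ![1, 1]]

/-- The matrix of a permutation of the nonzero vectors. -/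
def mperm (σ : Equiv.Perm (Fin 3)) : Matrix (Fin 2) (Fin 2) (ZMod 2) :=
  fun i j => pnt (σ (if j = 0 then 0 else 1)) i

/-- Left multiplication. -/
def lmat (σ : Equiv.Perm (Fin 3)) : Matrix I4 I4 (ZMod 2) :=
  fun a b => if (posn a).2 = (posn b).2 then mperm σ (posn a).1 (posn b).1 else 0

/-- Right multiplication. -/
def rmat (σ : Equiv.Perm (Fin 3)) : Matrix I4 I4 (ZMod 2) :=
  fun a b => if (posn a).1 = (posn b).1 then mperm σ (posn a).2 (posn b).2 else 0

/-- The interchange. -/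
def tmat : Matrix I4 I4 (ZMod 2) :=
  fun a b => if (posn a).1 = (posn b).2 ∧ (posn a).2 = (posn b).1 then 1 else 0

theorem lmat_mul : ∀ σ τ, lmat (σ * τ) = lmat σ * lmat τ := by decide +kernel
theorem rmat_mul : ∀ σ τ, rmat (σ * τ) = rmat σ * rmat τ := by decide +kernel
theorem lmat_one : lmat 1 = 1 := by decide +kernel
theorem rmat_one : rmat 1 = 1 := by decide +kernel
theorem lr_comm : ∀ σ τ, lmat σ * rmat τ = rmat τ * lmat σ := by decide +kernel
theorem lr_eq : ∀ σ τ, lmat σ = rmat τ → σ = 1 ∧ τ = 1 := by decide +kernel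
theorem lmat_inj : ∀ σ τ, lmat σ = lmat τ → σ = τ := by decide +kernel
theorem rmat_inj : ∀ σ τ, rmat σ = rmat τ → σ = τ := by decide +kernel
theorem tmat_sq : tmat * tmat = 1 := by decide +kernel
theorem t_conj : ∀ σ, tmat * lmat σ = rmat σ * tmat := by decide +kernel
theorem lmat_iso : ∀ σ (v : I4 → ZMod 2), quadFormPlus 2 (ZMod 2) (lmat σ *ᵥ v) =
    quadFormPlus 2 (ZMod 2) v := by decide +kernel
theorem rmat_iso : ∀ σ (v : I4 → ZMod 2), quadFormPlus 2 (ZMod 2) (rmat σ *ᵥ v) =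
    quadFormPlus 2 (ZMod 2) v := by decide +kernel
theorem tmat_iso : ∀ (v : I4 → ZMod 2), quadFormPlus 2 (ZMod 2) (tmat *ᵥ v) =
    quadFormPlus 2 (ZMod 2) v := by decide +kernel

/-- The orthogonal group. -/
abbrev OO := isometryGroup (ZMod 2) (quadFormPlus 2 (ZMod 2))

/-- A hom to the isometry group from a hom to matrices. -/
def liftHom (m : Equiv.Perm (Fin 3) → Matrix I4 I4 (ZMod 2))
    (hm : ∀ σ τ, m (σ * τ) = m σ * m τ) (h1 : m 1 = 1)
    (hi : ∀ σ (v : I4 → ZMod 2), quadFormPlus 2 (ZMod 2) (m σ *ᵥ v) =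
      quadFormPlus 2 (ZMod 2) v) : Equiv.Perm (Fin 3) →* OO where
  toFun σ := ⟨⟨m σ, m σ⁻¹, by rw [← hm, mul_inv_cancel, h1], by rw [← hm, inv_mul_cancel, h1]⟩,
    fun u _ => hi σ u⟩
  map_one' := Subtype.ext (Units.ext h1)
  map_mul' σ τ := Subtype.ext (Units.ext (hm σ τ))

/-- The left factor. -/
def lhom : Equiv.Perm (Fin 3) →* OO := liftHom lmat lmat_mul lmat_one lmat_iso

/-- The right factor. -/
def rhom : Equiv.Perm (Fin 3) →* OO := liftHom rmat rmat_mul rmat_one rmat_iso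

theorem lhom_val (σ : Equiv.Perm (Fin 3)) : ((lhom σ : OO) : GL I4 (ZMod 2)).1 = lmat σ := rfl

theorem rhom_val (σ : Equiv.Perm (Fin 3)) : ((rhom σ : OO) : GL I4 (ZMod 2)).1 = rmat σ := rfl

theorem lhom_inj : Function.Injective lhom := fun σ τ h => lmat_inj σ τ (by rw [← lhom_val, h]; rfl)

theorem rhom_inj : Function.Injective rhom := fun σ τ h => rmat_inj σ τ (by rw [← rhom_val, h]; rfl)

theorem lr_commute (σ τ : Equiv.Perm (Fin 3)) : Commute (lhom σ) (rhom τ) :=
  Subtype.ext (Units.ext (lr_comm σ τ))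

/-- The full orthogonal group of the plus-type form x₁y₁ + x₂y₂ in dimension 4 over the field of two elements has order 72 and is isomorphic to the wreath product of the symmetric group of degree 3 by a group of order 2: it has a normal subgroup isomorphic to the direct product of two symmetric groups of degree 3, of index 2, whose two direct factors are interchanged by conjugation by some element. -/
theorem result :
    Nat.card ↥(Cfsg.isometryGroup (ZMod 2) (Cfsg.quadFormPlus 2 (ZMod 2))) = 72 ∧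
    ∃ (A B : Subgroup ↥(Cfsg.isometryGroup (ZMod 2) (Cfsg.quadFormPlus 2 (ZMod 2)))),
      Nonempty (↥A ≃* Equiv.Perm (Fin 3)) ∧ Nonempty (↥B ≃* Equiv.Perm (Fin 3)) ∧ A ⊓ B = ⊥ ∧ (∀ a ∈ A, ∀ b ∈ B, a * b = b * a) ∧
      (A ⊔ B).index = 2 ∧ ∃ g : ↥(Cfsg.isometryGroup (ZMod 2) (Cfsg.quadFormPlus 2 (ZMod 2))), A.map (MulAut.conj g).toMonoidHom = B := by
  have hcard : Nat.card OO = 72 :=
    (Cfsg.Agent.S0287.result (F := ZMod 2) (q := 2) (by simp) 2 (by norm_num)).trans
      (by norm_num [Finset.prod_range_succ])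
  refine ⟨hcard, lhom.range, rhom.range, ⟨(MonoidHom.ofInjective lhom_inj).symm⟩,
    ⟨(MonoidHom.ofInjective rhom_inj).symm⟩, ?_, ?_, ?_, ?_⟩
  · rw [Subgroup.eq_bot_iff_forall]
    rintro _ ⟨⟨σ, rfl⟩, ⟨τ, hτ⟩⟩
    have h : lmat σ = rmat τ := by rw [← lhom_val, ← rhom_val, hτ]
    rw [(lr_eq σ τ h).1, map_one]
  · rintro _ ⟨σ, rfl⟩ _ ⟨τ, rfl⟩
    exact lr_commute σ τ
  · have hinj : Function.Injective (lhom.noncommCoprod rhom lr_commute) := by
      rw [MonoidHom.noncommCoprod_injective]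
      refine ⟨lhom_inj, rhom_inj, disjoint_iff.2 ((Subgroup.eq_bot_iff_forall _).2 ?_)⟩
      rintro _ ⟨⟨σ, rfl⟩, ⟨τ, hτ⟩⟩
      have h : lmat σ = rmat τ := by rw [← lhom_val, ← rhom_val, hτ]
      rw [(lr_eq σ τ h).1, map_one]
    have h36 : Nat.card ↥(lhom.range ⊔ rhom.range) = 36 := by
      rw [← MonoidHom.noncommCoprod_range lhom rhom lr_commute,
        ← Nat.card_congr (MonoidHom.ofInjective hinj).toEquiv, Nat.card_prod, Nat.card_perm,
        Nat.card_fin]
      rfl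
    have := (lhom.range ⊔ rhom.range).index_mul_card
    rw [h36, hcard] at this
    omega
  · refine ⟨⟨⟨tmat, tmat, tmat_sq, tmat_sq⟩, fun u _ => tmat_iso u⟩, ?_⟩
    rw [MonoidHom.map_range]
    congr 1
    ext σ : 1
    refine Subtype.ext (Units.ext ?_)
    show tmat * lmat σ * tmat = rmat σ
    rw [t_conj, mul_assoc, tmat_sq, mul_one]

end Cfsg.Agent.S2566
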