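import Cfsg.Statements.S3056
import Cfsg.Agent.Lib.LocalEvenB.ClassicalSPE

set_option autoImplicit false
open Cfsg

namespace Cfsg.Agent.S3056

open Cfsg.Agent.LocalEvenB

private def Adj {G : Type*} [Group G] {p : ℕ} (A B : Sylow p G) : Prop :=
  (A : Subgroup G) ⊓ (B : Subgroup G) ≠ ⊥

private def Reach {G : Type*} [Group G] {p : ℕ} (A B : Sylow p G) : Prop :=
  Relation.ReflTransGen Adj A B

private theorem reach_symm {G : Type*} [Group G] {p : ℕ} {A B : Sylow p G} (h : Reach A B) :
    Reach B A := by
  induction h with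
  | refl => exact Relation.ReflTransGen.refl
  | tail _ hbc ih => exact Relation.ReflTransGen.head (by rw [Adj, inf_comm]; exact hbc) ih

private theorem mem_smul {G : Type*} [Group G] {p : ℕ} {g y : G} {A : Sylow p G} :
    y ∈ ((g • A : Sylow p G) : Subgroup G) ↔ g⁻¹ * y * g ∈ (A : Subgroup G) := by
  rw [Sylow.coe_subgroup_smul]
  constructor
  · rintro ⟨h, hh, rfl⟩
    have e : g⁻¹ * (g * h * g⁻¹) * g = h := by group
    show g⁻¹ * (g * h * g⁻¹) * g ∈ (A : Subgroup G)
    rw [e]; exact hh
  · intro h
    exact ⟨_, h, by simp [MulAut.conj_apply, mul_assoc]⟩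

private theorem reach_smul {G : Type*} [Group G] {p : ℕ} (g : G) {A B : Sylow p G} (h : Reach A B) :
    Reach (g • A) (g • B) := by
  induction h with
  | refl => exact Relation.ReflTransGen.refl
  | tail _ hbc ih =>
    refine Relation.ReflTransGen.tail ih ?_
    intro he
    refine hbc ((Subgroup.eq_bot_iff_forall _).2 fun z hz => ?_)
    have h' : g * z * g⁻¹ ∈ (⊥ : Subgroup G) :=
      he ▸ (⟨mem_smul.2 (by rw [show g⁻¹ * (g * z * g⁻¹) * g = z by group]; exact hz.1),
        mem_smul.2 (by rw [show g⁻¹ * (g * z * g⁻¹) * g = z by group]; exact hz.2)⟩ :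
        _ ∧ _)
    exact conj_eq_one_iff.1 (Subgroup.mem_bot.1 h')

private theorem chain_of_reach {G : Type*} [Group G] {p : ℕ} {A B : Sylow p G} (h : Reach A B) :
    ∃ (n : ℕ) (c : Fin (n + 1) → Sylow p G), c 0 = A ∧ c (Fin.last n) = B ∧
    ∀ i : Fin n, c i.castSucc ≠ c i.succ ∧ (c i.castSucc : Subgroup G) ⊓ (c i.succ : Subgroup G) ≠ ⊥ := by
  induction h with
  | refl => exact ⟨0, fun _ => A, rfl, rfl, fun i => i.elim0⟩
  | @tail b c' _ hbc ih =>
    obtain ⟨n, c, h0, hl, hs⟩ := ih
    rcases eq_or_ne b c' with rfl | hne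
    · exact ⟨n, c, h0, hl, hs⟩
    refine ⟨n + 1, Fin.snoc c c', ?_, ?_, ?_⟩
    · rw [show (0 : Fin (n + 2)) = (0 : Fin (n + 1)).castSucc from rfl, Fin.snoc_castSucc]; exact h0
    · rw [Fin.snoc_last]
    · intro i
      induction i using Fin.lastCases with
      | last => rw [Fin.snoc_castSucc, Fin.succ_last, Fin.snoc_last, hl]; exact ⟨hne, hbc⟩
      | cast j => rw [Fin.snoc_castSucc, Fin.succ_castSucc, Fin.snoc_castSucc]; exact hs j

/-- Let G be a finite group and p a prime. Join two Sylow p-subgroups when they are distinct and meet nontrivially. This graph on the Sylow p-subgroups is disconnected (the Sylow p-subgroups are not chain-connected through nontrivial intersections) if and only if G has a strongly p-embedded subgroup in the classical sense: a proper subgroup H of order divisible by p such that H ∩ gHg⁻¹ has order prime to p for every g outside H. -/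
theorem result {G : Type*} [Group G] [Finite G]
    (p : ℕ) [Fact p.Prime] :
    ¬ Cfsg.IsSylowChainConnected p G ↔
      ∃ H : Subgroup G, H ≠ ⊤ ∧ p ∣ Nat.card H ∧
        ∀ g : G, g ∉ H → ¬ p ∣ Nat.card ↥(H ⊓ H.map (MulAut.conj g).toMonoidHom) := by
  constructor
  · intro hnot
    have hnt : ∀ S : Sylow p G, (S : Subgroup G) ≠ ⊥ := by
      intro S hS
      refine hnot fun A B => ?_
      have hbot : ∀ A : Sylow p G, A = S := by
        intro A
        obtain ⟨g, hg⟩ := MulAction.exists_smul_eq G S A
        rw [← hg]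
        apply Sylow.ext
        rw [Sylow.coe_subgroup_smul, hS, Subgroup.smul_bot]
      refine ⟨0, fun _ => A, rfl, (hbot A).trans (hbot B).symm, fun i => inf_le_left, fun i => i.elim0⟩
    obtain ⟨S⟩ : Nonempty (Sylow p G) := inferInstance
    let H : Subgroup G :=
      { carrier := {g | Reach S (g • S)}
        one_mem' := by simp only [Set.mem_ofPred_eq, one_smul]; exact Relation.ReflTransGen.refl
        mul_mem' := by
          intro a b ha hb
          simp only [Set.mem_ofPred_eq] at ha hb ⊢
          rw [mul_smul]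
          exact ha.trans (reach_smul a hb)
        inv_mem' := by
          intro a ha
          simp only [Set.mem_ofPred_eq] at ha ⊢
          have := reach_smul a⁻¹ ha
          rw [inv_smul_smul] at this
          exact reach_symm this }
    have hmemH : ∀ g, g ∈ H ↔ Reach S (g • S) := fun g => Iff.rfl
    have hSH : (S : Subgroup G) ≤ H := by
      intro s hs
      rw [hmemH, show s • S = S from Sylow.smul_eq_iff_mem_normalizer.2 (Subgroup.le_normalizer hs)]
      exact Relation.ReflTransGen.refl
    have hreach : ∀ x ∈ H, (∃ k, orderOf x = p ^ k) → ∃ A : Sylow p G, Reach S A ∧ x ∈ (A : Subgroup G) := by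
      intro x hx hxp
      obtain ⟨T, hT⟩ := ((isPGroup_zpowers hxp).of_equiv (Subgroup.subgroupOfEquivOfLe
        (Subgroup.zpowers_le.2 hx : Subgroup.zpowers x ≤ H)).symm).exists_le_sylow
      obtain ⟨h, hh⟩ := MulAction.exists_smul_eq H (S.subtype hSH) T
      refine ⟨(h : G) • S, h.2, ?_⟩
      have h1 : (⟨x, hx⟩ : H) ∈ (T : Subgroup H) := hT (Subgroup.mem_subgroupOf.2 (Subgroup.mem_zpowers x))
      rw [← hh, Sylow.smul_subtype hSH, Sylow.coe_subtype, Subgroup.mem_subgroupOf] at h1
      exact h1
    refine ⟨H, ?_, pSubgroup_dvd S.isPGroup' (hnt S) hSH, ?_⟩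
    · intro htop
      apply hnot
      intro A B
      rcases eq_or_ne A B with rfl | hne
      · exact ⟨0, fun _ => A, rfl, rfl, fun i => inf_le_left, fun i => i.elim0⟩
      by_cases hmeet : (A : Subgroup G) ⊓ (B : Subgroup G) = ⊥
      · have hall : ∀ A : Sylow p G, Reach S A := by
          intro A
          obtain ⟨g, hg⟩ := MulAction.exists_smul_eq G S A
          rw [← hg, ← hmemH, htop]
          exact Subgroup.mem_top g
        obtain ⟨n, c, h0, hl, hs⟩ := chain_of_reach ((reach_symm (hall A)).trans (hall B))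
        exact ⟨n, c, h0, hl, fun i => by rw [hmeet]; exact bot_le, hs⟩
      · refine ⟨1, ![A, B], rfl, rfl, fun i => ?_, fun i => ?_⟩
        · fin_cases i
          · exact inf_le_left
          · exact inf_le_right
        · fin_cases i
          exact ⟨hne, hmeet⟩
    · intro g hg hdvd
      obtain ⟨y, hy⟩ := exists_prime_orderOf_dvd_card' p hdvd
      obtain ⟨h1, h2⟩ := Subgroup.mem_inf.1 y.2
      have hy' : orderOf (y : G) = p := by rw [Subgroup.orderOf_coe, hy]
      obtain ⟨A, hA, hyA⟩ := hreach _ h1 ⟨1, by rw [hy', pow_one]⟩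
      obtain ⟨B, hB, hyB⟩ := hreach _ (mem_conjMap.1 h2) ⟨1, by
        rw [pow_one, show g⁻¹ * (y : G) * g = MulAut.conj g⁻¹ (y : G) from by simp,
          (MulEquiv.orderOf_eq (MulAut.conj g⁻¹) (y : G)), hy']⟩
      have hadj : Adj A (g • B) := by
        intro he
        have : (y : G) ∈ (⊥ : Subgroup G) := he ▸ (⟨hyA, mem_smul.2 hyB⟩ : _ ∧ _)
        rw [Subgroup.mem_bot.1 this, orderOf_one] at hy'
        exact (Fact.out : p.Prime).one_lt.ne hy'
      exact hg ((hmemH g).2 ((hA.tail hadj).trans (reach_symm (reach_smul g hB))))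
  · rintro ⟨H, hH, hpH, hse⟩ hconn
    obtain ⟨S, hSH, hSne⟩ := cse_exists_sylow_le hse hpH
    have hall : ∀ T : Sylow p G, (T : Subgroup G) ≤ H := by
      intro T
      obtain ⟨n, c, h0, hl, -, hs⟩ := hconn S T
      have : ∀ i : Fin (n + 1), (c i : Subgroup G) ≤ H := by
        intro i
        induction i using Fin.induction with
        | zero => rw [h0]; exact hSH
        | succ j ih =>
          refine cse_sylow_le hse _ fun he => (hs j).2 (le_bot_iff.1 ?_)
          rw [← he]
          exact le_inf inf_le_right (inf_le_left.trans ih)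
      exact hl ▸ this (Fin.last n)
    refine hH ((Subgroup.eq_top_iff' H).2 fun g => cse_mem_of_sylow_conj hse S.isPGroup' hSne hSH (g := g) ?_)
    have := hall (g • S)
    rw [Sylow.coe_subgroup_smul] at this
    exact this

end Cfsg.Agent.S3056
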