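import Cfsg.Statements.S0878

set_option autoImplicit false
open Cfsg

namespace Cfsg.Agent.S0878


/-- Let G be a Zassenhaus group on the finite set Ω, a a point, and let H be the subgroup of the stabilizer of a consisting of the identity and the elements fixing no point other than a (given here as a subgroup of the stabilizer of order one less than the number of points whose non-identity elements fix only a; it is the Frobenius kernel of the stabilizer). Then an element outside the stabilizer of a conjugates no non-identity element of H into H, and the normalizer of H is exactly the stabilizer of a. -/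
theorem result {G Ω : Type*} [Group G] [Finite G] [MulAction G Ω] [Fintype Ω] (hZ : Cfsg.IsZassenhausGroup G Ω) (a : Ω) (H : Subgroup G) (hHa : H ≤ MulAction.stabilizer G a) (hHcard : Nat.card H + 1 = Fintype.card Ω) (hHfix : ∀ u ∈ H, u ≠ 1 → ∀ c : Ω, u • c = c → c = a) : (∀ g : G, g ∉ MulAction.stabilizer G a → ∀ u ∈ H, g * u * g⁻¹ ∈ H → u = 1) ∧ Subgroup.normalizer (H : Set G) = MulAction.stabilizer G a := by
  classical
  obtain ⟨hfaith, h2, h3, ⟨g₀, hg₀, a₀, b₀, hab₀, hga, hgb⟩, -⟩ := hZ
  haveI := hfaith
  haveI := h2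
  have htr : ∀ {p q r s : Ω}, p ≠ q → r ≠ s → ∃ t : G, t • p = r ∧ t • q = s := MulAction.is_two_pretransitive_iff.mp h2
  have hn : 3 ≤ Fintype.card Ω := by
    by_contra hlt
    refine hg₀ (FaithfulSMul.eq_of_smul_eq_smul (α := Ω) fun c => ?_)
    rw [one_smul]
    rcases eq_or_ne c a₀ with rfl | hca
    · exact hga
    rcases eq_or_ne c b₀ with rfl | hcb
    · exact hgb
    have := Finset.card_le_univ ({a₀, b₀, c} : Finset Ω)
    rw [Finset.card_insert_of_notMem (by simp [hab₀, hca.symm]), Finset.card_pair hcb.symm] at this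
    omega
  have hne : ∃ u ∈ H, u ≠ 1 := by
    by_contra hcon
    push Not at hcon
    have : Nat.card H = 1 := Subgroup.card_eq_one.mpr ((Subgroup.eq_bot_iff_forall H).mpr hcon)
    omega
  refine ⟨fun g hg u hu hgu => ?_, le_antisymm (fun g hg => ?_) (fun g hg => ?_)⟩
  · by_contra hu1
    have hga' : g • a ≠ a := fun h => hg h
    refine hga' (hHfix _ hgu (fun h => hu1 (by simpa using h)) (g • a) ?_)
    rw [mul_smul, mul_smul, inv_smul_smul, show u • a = a from hHa hu]
  · by_contra hga'
    obtain ⟨u, hu, hu1⟩ := hne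
    have hgu : g * u * g⁻¹ ∈ H := (Subgroup.mem_normalizer_iff.mp hg u).mp hu
    have hga'' : g • a ≠ a := fun h => hga' h
    refine hga'' (hHfix _ hgu (fun h => hu1 (by simpa using h)) (g • a) ?_)
    rw [mul_smul, mul_smul, inv_smul_smul, show u • a = a from hHa hu]
  set S := MulAction.stabilizer G a
  haveI := Fintype.ofFinite G
  -- elements of the stabilizer moving every other point
  set K : Finset G := Finset.univ.filter fun u => u • a = a ∧ (u = 1 ∨ ∀ c : Ω, c ≠ a → u • c ≠ c)
    with hK
  set M : Ω → Finset G := fun c => Finset.univ.filter fun u => u • a = a ∧ u • c = c ∧ u ≠ 1 with hM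
  have hHK : (H : Set G).toFinset ⊆ K := fun u hu => by
    rw [Set.mem_toFinset, SetLike.mem_coe] at hu
    simp only [hK, Finset.mem_filter, Finset.mem_univ, true_and]
    exact ⟨hHa hu, or_iff_not_imp_left.mpr fun hu1 c hc he => hc (hHfix u hu hu1 c he)⟩
  have hdisj : ((Finset.univ.erase a : Finset Ω) : Set Ω).PairwiseDisjoint M := by
    intro c hc d hd hcd
    simp only [Finset.coe_erase, Finset.coe_univ, Set.mem_sdiff, Set.mem_univ, Set.mem_singleton_iff, true_and] at hc hd
    rw [Function.onFun, Finset.disjoint_left]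
    intro u hu hu'
    simp only [hM, Finset.mem_filter, Finset.mem_univ, true_and] at hu hu'
    exact hu.2.2 (h3 u a c d (Ne.symm hc) hcd (Ne.symm hd) hu.1 hu.2.1 hu'.2.1)
  have hsplit : (Finset.univ.filter fun u : G => u • a = a) = K ∪ (Finset.univ.erase a).biUnion M := by
    ext u
    simp only [hK, hM, Finset.mem_filter, Finset.mem_univ, true_and, Finset.mem_union,
      Finset.mem_biUnion, Finset.mem_erase, and_true]
    constructor
    · intro hu
      by_cases h : u = 1 ∨ ∀ c : Ω, c ≠ a → u • c ≠ c
      · exact Or.inl ⟨hu, h⟩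
      · push Not at h
        obtain ⟨c, hc, hcu⟩ := h.2
        exact Or.inr ⟨c, hc, hu, hcu, h.1⟩
    · rintro (h | ⟨c, -, h⟩)
      · exact h.1
      · exact h.1
  have hdK : Disjoint K ((Finset.univ.erase a).biUnion M) := by
    rw [Finset.disjoint_left]
    intro u hu hu'
    simp only [hK, hM, Finset.mem_filter, Finset.mem_univ, true_and, Finset.mem_biUnion,
      Finset.mem_erase, and_true] at hu hu'
    obtain ⟨c, hc, -, hcu, hu1⟩ := hu'
    exact (hu.2.resolve_left hu1) c hc hcu
  obtain ⟨b, hb⟩ : ∃ b : Ω, b ≠ a := Fintype.exists_ne_of_one_lt_card (by omega) a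
  set d := (Finset.univ.filter fun u : G => u • a = a ∧ u • b = b).card with hd
  have hcnt : ∀ c : Ω, c ≠ a → (Finset.univ.filter fun u : G => u • a = a ∧ u • c = c).card = d ∧
      (Finset.univ.filter fun u : G => u • a = a ∧ u • b = c).card = d := by
    intro c hc
    obtain ⟨t, hta, htb⟩ := htr hb.symm hc.symm
    constructor
    · refine Finset.card_nbij' (fun u => t⁻¹ * u * t) (fun u => t * u * t⁻¹) ?_ ?_ ?_ ?_
      · intro u hu
        simp only [Finset.coe_filter, Set.mem_setOf_eq, Finset.mem_univ, true_and] at hu ⊢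
        exact ⟨by rw [mul_smul, mul_smul, hta, hu.1, inv_smul_eq_iff, hta],
          by rw [mul_smul, mul_smul, htb, hu.2, inv_smul_eq_iff, htb]⟩
      · intro u hu
        simp only [Finset.coe_filter, Set.mem_setOf_eq, Finset.mem_univ, true_and] at hu ⊢
        exact ⟨by rw [mul_smul, mul_smul, inv_smul_eq_iff.mpr hta.symm, hu.1, hta],
          by rw [mul_smul, mul_smul, inv_smul_eq_iff.mpr htb.symm, hu.2, htb]⟩
      · intro u _; group
      · intro u _; group
    · refine Finset.card_nbij' (fun u => t⁻¹ * u) (fun u => t * u) ?_ ?_ ?_ ?_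
      · intro u hu
        simp only [Finset.coe_filter, Set.mem_setOf_eq, Finset.mem_univ, true_and] at hu ⊢
        exact ⟨by rw [mul_smul, hu.1, inv_smul_eq_iff, hta], by rw [mul_smul, hu.2, inv_smul_eq_iff, htb]⟩
      · intro u hu
        simp only [Finset.coe_filter, Set.mem_setOf_eq, Finset.mem_univ, true_and] at hu ⊢
        exact ⟨by rw [mul_smul, hu.1, hta], by rw [mul_smul, hu.2, htb]⟩
      · intro u _; group
      · intro u _; group
  have hMcard : ∀ c ∈ (Finset.univ.erase a : Finset Ω), (M c).card + 1 = d := by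
    intro c hc
    rw [← (hcnt c (Finset.ne_of_mem_erase hc)).1]
    rw [show M c = (Finset.univ.filter fun u : G => u • a = a ∧ u • c = c).erase 1 from by
      ext u; simp [hM, Finset.mem_erase]; tauto]
    rw [Finset.card_erase_add_one]
    simp
  have hstab : (Finset.univ.filter fun u : G => u • a = a).card = (Finset.univ.erase a : Finset Ω).card * d := by
    rw [Finset.card_eq_sum_card_fiberwise (f := fun u => u • b) (t := Finset.univ.erase a) (fun u hu => by
      simp only [Finset.coe_filter, Set.mem_setOf_eq, Finset.mem_univ, true_and] at hu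
      simp only [Finset.coe_erase, Finset.coe_univ, Set.mem_sdiff, Set.mem_univ, Set.mem_singleton_iff, true_and]
      exact fun h => hb (smul_left_cancel u (h.trans hu.symm)))]
    refine (Finset.sum_congr rfl fun c hc => ?_).trans (Finset.sum_const_nat fun c _ => rfl)
    rw [Finset.filter_filter]
    exact (hcnt c (Finset.ne_of_mem_erase hc)).2
  have hsum : ((Finset.univ.erase a : Finset Ω).biUnion M).card + (Finset.univ.erase a : Finset Ω).card =
      (Finset.univ.erase a : Finset Ω).card * d := by
    rw [Finset.card_biUnion hdisj, Finset.card_eq_sum_ones, ← Finset.sum_add_distrib,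
      Finset.sum_congr rfl hMcard, ← Finset.card_eq_sum_ones]
    exact Finset.sum_const_nat fun c _ => rfl
  have hKcard : K.card = (H : Set G).toFinset.card := by
    have h := hstab
    rw [hsplit, Finset.card_union_of_disjoint hdK, ← hsum] at h
    rw [Set.toFinset_card, ← Nat.card_eq_fintype_card]
    show K.card = Nat.card H
    rw [Finset.card_erase_of_mem (Finset.mem_univ a), Finset.card_univ] at h
    omega
  have hKH : (H : Set G).toFinset = K := Finset.eq_of_subset_of_card_le hHK hKcard.le
  have hmemH : ∀ u, u ∈ H ↔ u ∈ K := fun u => by rw [← hKH, Set.mem_toFinset, SetLike.mem_coe]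
  have hconj : ∀ t : G, t • a = a → ∀ u ∈ H, t * u * t⁻¹ ∈ H := by
    intro t ht u hu
    rw [hmemH] at hu ⊢
    simp only [hK, Finset.mem_filter, Finset.mem_univ, true_and] at hu ⊢
    refine ⟨by rw [mul_smul, mul_smul, inv_smul_eq_iff.mpr ht.symm, hu.1, ht], ?_⟩
    rcases hu.2 with rfl | hfix
    · exact Or.inl (by group)
    · refine Or.inr fun c hc he => hfix (t⁻¹ • c) (fun h => hc ?_) ?_
      · rw [inv_smul_eq_iff, ht] at h; exact h
      · rw [mul_smul, mul_smul] at he
        rw [eq_inv_smul_iff]; exact he
  rw [Subgroup.mem_normalizer_iff]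
  refine fun u => ⟨hconj g hg u, fun hu => ?_⟩
  have := hconj g⁻¹ (by rw [inv_smul_eq_iff]; exact (hg : g • a = a).symm) _ hu
  simpa [mul_assoc] using this

end Cfsg.Agent.S0878
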