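import Cfsg.Statements.S0345
import Cfsg.Agent.Lib.ZassSharp.NotSimple
import Cfsg.Agent.S0742
import Cfsg.Agent.S0739
import Cfsg.Agent.S0740

set_option autoImplicit false
open Cfsg

namespace Cfsg.Agent.S0345

/-- In a finite simple Zassenhaus group the stabiliser `H` of two points `a ≠ b` is cyclic, and some involution
interchanging `a` and `b` inverts every element of `H`. -/
theorem result {G Ω : Type*} [Group G] [Finite G] [MulAction G Ω] [Finite Ω]
    (hZ : Cfsg.IsZassenhausGroup G Ω) [IsSimpleGroup G]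
    {a b : Ω} (hab : a ≠ b) :
    IsCyclic ↥(MulAction.stabilizer G a ⊓ MulAction.stabilizer G b) ∧
      ∃ v : G, orderOf v = 2 ∧ v • a = b ∧ v • b = a ∧ ∀ h ∈ MulAction.stabilizer G a ⊓ MulAction.stabilizer G b, v * h * v⁻¹ = h⁻¹ := by
  classical
  haveI : Fintype Ω := Fintype.ofFinite Ω
  set H := MulAction.stabilizer G a ⊓ MulAction.stabilizer G b with hH
  obtain ⟨v, hv, hva, hvb⟩ := (Cfsg.Agent.S0740.result hZ hab).1
  rcases Nat.even_or_odd (Nat.card H) with heven | hodd
  · have Z := Cfsg.Agent.PermGp.ZEven.zgrp_of_zassenhaus hZ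
    obtain ⟨F, hF⟩ := Cfsg.Agent.PermGp.ZEven.exists_zker Z hab
    have hle' : Fintype.card Ω - 2 ≤ 2 * Nat.card H := Cfsg.Agent.PermGp.card_sub_two_le_two_mul' Z.two Z.three hab heven
    obtain ⟨m, hm⟩ := Cfsg.Agent.ZassSharp.card_dvd Z hab
    rw [← hH] at hm
    have hpos : 1 < Nat.card H := Z.stab_pos hab
    have hn := hF.card_add_one hab
    have hne : Fintype.card Ω - 2 ≠ Nat.card H := fun h =>
      Cfsg.Agent.ZassSharp.not_simple_sharp Z hab heven h.symm
    have hlo : 2 * Nat.card H ≤ Fintype.card Ω - 2 := by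
      rcases m with _ | _ | m
      · obtain ⟨c, hca, hcb⟩ := Z.exists_third a b
        have h3 : 3 ≤ Fintype.card Ω := by
          have := Finset.card_le_univ ({c, a, b} : Finset Ω)
          rwa [Finset.card_eq_three.mpr ⟨c, a, b, hca, hcb, hab, rfl⟩] at this
        omega
      · rw [show Nat.card H * (0 + 1) = Nat.card H by simp] at hm
        exact absurd hm hne
      · rw [hm, Nat.mul_comm 2]
        exact Nat.mul_le_mul_left _ (by omega)
    refine ⟨?_, v, hv, hva, hvb, fun h hh => ?_⟩
    · obtain ⟨p, f, K, iK, iF, φ, w, -, -, -, -, -, C⟩ := Cfsg.Agent.PermGp.ZEven.exists_coord hF Z hab heven hlo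
      have hc : ∀ g : H, ∃ c : K, c ≠ 0 ∧ ∀ x, (g : G) • φ x = φ (c * x) := fun g => by
        obtain ⟨c, hc0, -, hc⟩ := C.dilate g (MulAction.mem_stabilizer_iff.mp (Subgroup.mem_inf.mp g.2).1)
          (MulAction.mem_stabilizer_iff.mp (Subgroup.mem_inf.mp g.2).2)
        exact ⟨c, hc0, hc⟩
      choose c hc0 hcx using hc
      let χ : H →* K :=
        { toFun := c
          map_one' := C.inj (by
            have h1 := hcx 1 1
            rw [Subgroup.coe_one, one_smul, mul_one] at h1
            exact h1.symm)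
          map_mul' := fun g k => C.inj (by
            rw [← mul_one (c (g * k)), ← hcx, Subgroup.coe_mul, mul_smul, hcx k, hcx g, mul_one]) }
      refine isCyclic_of_subgroup_isDomain χ fun g k e => ?_
      have e' : c g = c k := e
      haveI := Z.faith
      refine Subtype.ext (FaithfulSMul.eq_of_smul_eq_smul (α := Ω) fun y => ?_)
      by_cases hy : y = a
      · subst hy
        rw [MulAction.mem_stabilizer_iff.mp (Subgroup.mem_inf.mp g.2).1,
          MulAction.mem_stabilizer_iff.mp (Subgroup.mem_inf.mp k.2).1]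
      · obtain ⟨x, rfl⟩ := C.surj y hy
        rw [hcx, hcx, e']
    · have h1 := Cfsg.Agent.PermGp.ZEven.swap_involution Z hab heven hlo
      have h2 : v * v = 1 := h1 v hva hvb
      have h3 : (v * h) * (v * h) = 1 := h1 _
        (by rw [mul_smul, MulAction.mem_stabilizer_iff.mp (Subgroup.mem_inf.mp hh).1, hva])
        (by rw [mul_smul, MulAction.mem_stabilizer_iff.mp (Subgroup.mem_inf.mp hh).2, hvb])
      rw [inv_eq_of_mul_eq_one_right h2]
      calc v * h * v = v * h * (v * h) * h⁻¹ := by group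
        _ = h⁻¹ := by rw [h3, one_mul]
  · have hnil : ∀ q : ℕ, q.Prime → q ∣ Nat.card H →
        ¬ ∃ N : Subgroup G, N.Normal ∧ N.index = q ^ (Nat.card G).factorization q := by
      rintro q hq hqd ⟨N, hN, hidx⟩
      haveI := Fact.mk hq
      have hqG : q ∣ Nat.card G := hqd.trans H.card_subgroup_dvd_card
      have hv0 : (Nat.card G).factorization q ≠ 0 :=
        (hq.factorization_pos_of_dvd Nat.card_pos.ne' hqG).ne'
      rcases Subgroup.Normal.eq_bot_or_eq_top hN with rfl | rfl
      · rw [Subgroup.index_bot] at hidx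
        haveI : Nontrivial G := IsSimpleGroup.toNontrivial
        have h2 : (2 : ℕ) ∣ Nat.card G := hv ▸ orderOf_dvd_natCard v
        rw [hidx] at h2
        have h2q : 2 = q := (Nat.prime_dvd_prime_iff_eq Nat.prime_two hq).mp (Nat.prime_two.dvd_of_dvd_pow h2)
        subst h2q
        obtain ⟨j, hj⟩ := hodd
        rw [hj] at hqd
        omega
      · rw [Subgroup.index_top] at hidx
        obtain rfl : q = 1 := (pow_eq_one_iff.mp hidx.symm).resolve_right hv0
        exact hq.one_lt.ne rfl
    obtain ⟨hcyc, -, hinv⟩ := Cfsg.Agent.S0739.result hZ hab hodd hnil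
    exact ⟨hcyc, v, hv, hva, hvb, hinv v hva hvb⟩

end Cfsg.Agent.S0345
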