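import Cfsg.Statements.S1138
import Cfsg.Agent.Lib.RankOne.HigmanOrder

set_option autoImplicit false
open Cfsg

namespace Cfsg.Agent.S1138

/-- Let `P` be a Suzuki 2-group with `|Z(P)| = q`. Then every square lies in `Z(P)` and `P/Z(P)` is abelian (so elementary abelian), `|P| = q²` or `|P| = q³`, and `P` has exponent 4. -/
theorem result {P : Type*} [Group P] (hP : Cfsg.IsSuzukiTwoGroup P) :
    (∀ x : P, x * x ∈ Subgroup.center P) ∧ (∀ x y : P, x⁻¹ * y⁻¹ * x * y ∈ Subgroup.center P) ∧
      (Nat.card P = Nat.card (Subgroup.center P) ^ 2 ∨ Nat.card P = Nat.card (Subgroup.center P) ^ 3) ∧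
      Monoid.exponent P = 4 := by
  obtain ⟨K, hK⟩ := RankOne.Higman.exists_suzData hP
  refine ⟨RankOne.Higman.sq_central hK, RankOne.Higman.comm_central hK, RankOne.Higman.order_eq hK, ?_⟩
  have h4 : ∀ x : P, x ^ (2 * 2) = 1 := fun x => by
    rw [pow_mul, sq, sq]
    exact RankOne.Higman.center_sq hK (RankOne.Higman.sq_central hK x)
  have hdvd : Monoid.exponent P ∣ 2 ^ 2 := Monoid.exponent_dvd_of_forall_pow_eq_one fun x => by
    simpa using h4 x
  obtain ⟨i, hi, he⟩ := (Nat.dvd_prime_pow Nat.prime_two).mp hdvd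
  rcases (by omega : i ≤ 1 ∨ i = 2) with h1 | rfl
  · exfalso
    obtain ⟨x, y, hxy⟩ := hK.nonabelian
    have h2 : ∀ z : P, z * z = 1 := fun z => by
      have := Monoid.pow_exponent_eq_one z
      rw [he] at this
      interval_cases i
      · rw [pow_zero, pow_one] at this; rw [this, one_mul]
      · rwa [pow_one, sq] at this
    exact hxy (Subgroup.mem_center_iff.mp (RankOne.Higman.inv_central hK (h2 y)) x)
  · rw [he]; norm_num

end Cfsg.Agent.S1138
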