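import Cfsg.Statements.S0006
import Cfsg.Agent.Lib.Basics.Solvability
import Cfsg.Agent.Lib.CT.Integral

set_option autoImplicit false
open Cfsg

namespace Cfsg.Agent.S0006

theorem converse_hall_aux.{v} : ∀ (k : ℕ) (G : Type v) [Group G] [Finite G], Nat.card G ≤ k →
    (∀ p : ℕ, p.Prime → ∃ H : Subgroup G, H.index = p ^ (Nat.card G).factorization p) →
    Group.IsSolvable G := by
  intro k
  induction k with
  | zero =>
    intro G _ _ hk
    exact absurd hk (Nat.not_le.mpr Nat.card_pos)
  | succ k ih =>
    intro G _ _ hk h
    have hsub : ∀ p, p.Prime → p ∣ Nat.card G → ∀ H : Subgroup G,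
        H.index = p ^ (Nat.card G).factorization p → Group.IsSolvable H := by
      intro p hp hd H hH
      have hv := hp.factorization_pos_of_dvd Nat.card_pos.ne' hd
      have hne : H ≠ ⊤ := fun he => by
        rw [he, Subgroup.index_top] at hH
        exact absurd hH.symm (Nat.one_lt_pow hv.ne' hp.one_lt).ne'
      refine ih H (Nat.lt_succ_iff.mp ((Basics.card_lt_card_of_ne_top hne).trans_le hk))
        fun q hq => ?_
      have hfac : ∀ r, (Nat.card G).factorization r = (Nat.card H).factorization r +
          (p ^ (Nat.card G).factorization p).factorization r := by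
        intro r
        conv_lhs => rw [← H.card_mul_index, Nat.factorization_mul Nat.card_pos.ne'
          Subgroup.index_ne_zero_of_finite, hH]
        rw [Finsupp.add_apply]
      by_cases hqp : q = p
      · subst hqp
        refine ⟨⊤, ?_⟩
        have h0 := hfac q
        rw [hp.factorization_pow, Finsupp.single_eq_same] at h0
        rw [Subgroup.index_top, show (Nat.card H).factorization q = 0 by omega, pow_zero]
      · obtain ⟨K, hK⟩ := h q hq
        refine ⟨K.subgroupOf H, ?_⟩
        have hc : H.index.Coprime K.index := by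
          rw [hH, hK]
          exact Nat.Coprime.pow _ _ ((Nat.coprime_primes hp hq).mpr (Ne.symm hqp))
        have h0 := hfac q
        rw [hp.factorization_pow, Finsupp.single_apply, if_neg (Ne.symm hqp), add_zero] at h0
        rw [← h0, ← hK]
        have h1 := Basics.index_inf_of_coprime hc
        rw [inf_comm, ← Subgroup.relIndex_mul_index (inf_le_right : K ⊓ H ≤ H),
          Subgroup.inf_relIndex_right, mul_comm H.index] at h1
        exact Nat.eq_of_mul_eq_mul_right (Nat.pos_of_ne_zero Subgroup.index_ne_zero_of_finite) h1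
    by_cases h3 : ∃ p q r : ℕ, p ∈ (Nat.card G).primeFactors ∧ q ∈ (Nat.card G).primeFactors ∧
        r ∈ (Nat.card G).primeFactors ∧ p ≠ q ∧ p ≠ r ∧ q ≠ r
    · obtain ⟨p, q, r, hp, hq, hr, hpq, hpr, hqr⟩ := h3
      rw [Nat.mem_primeFactors] at hp hq hr
      obtain ⟨A, hA⟩ := h p hp.1
      obtain ⟨B, hB⟩ := h q hq.1
      obtain ⟨C, hC⟩ := h r hr.1
      have hcop : ∀ {a b : ℕ}, a.Prime → b.Prime → a ≠ b → ∀ i j, (a ^ i).Coprime (b ^ j) :=
        fun ha hb hab i j => Nat.Coprime.pow i j ((Nat.coprime_primes ha hb).mpr hab)
      exact Basics.isSolvable_of_three A B C (hsub p hp.1 hp.2.1 A hA) (hsub q hq.1 hq.2.1 B hB)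
        (hsub r hr.1 hr.2.1 C hC)
        (Basics.exists_mul_of_coprime_index (by rw [hA, hB]; exact hcop hp.1 hq.1 hpq _ _))
        (Basics.exists_mul_of_coprime_index (by rw [hA, hC]; exact hcop hp.1 hr.1 hpr _ _))
        (by rw [hB, hC]; exact hcop hq.1 hr.1 hqr _ _)
    · obtain ⟨p, q, hp, hq, hsubset⟩ : ∃ p q : ℕ, p.Prime ∧ q.Prime ∧
          (Nat.card G).primeFactors ⊆ {p, q} := by
        rcases (Nat.card G).primeFactors.eq_empty_or_nonempty with he | ⟨p, hp⟩
        · exact ⟨2, 3, Nat.prime_two, Nat.prime_three, by simp [he]⟩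
        · by_cases h2 : ∃ q ∈ (Nat.card G).primeFactors, q ≠ p
          · obtain ⟨q, hq, hqp⟩ := h2
            refine ⟨p, q, Nat.prime_of_mem_primeFactors hp, Nat.prime_of_mem_primeFactors hq,
              fun r hr => ?_⟩
            by_contra hc
            simp only [Finset.mem_insert, Finset.mem_singleton, not_or] at hc
            exact h3 ⟨p, q, r, hp, hq, hr, hqp.symm, Ne.symm hc.1, Ne.symm hc.2⟩
          · push Not at h2
            exact ⟨p, p, Nat.prime_of_mem_primeFactors hp, Nat.prime_of_mem_primeFactors hp,
              fun r hr => by simp [h2 r hr]⟩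
      have hG : Nat.card G = ∏ r ∈ (Nat.card G).primeFactors, r ^ (Nat.card G).factorization r :=
        (Nat.prod_factorization_pow_eq_self Nat.card_pos.ne').symm
      rw [Finset.prod_subset hsubset (fun r _ hr => by
        rw [← Nat.support_factorization, Finsupp.notMem_support_iff] at hr
        rw [hr, pow_zero])] at hG
      by_cases hpq : p = q
      · subst hpq
        rw [Finset.insert_eq_of_mem (Finset.mem_singleton_self p), Finset.prod_singleton] at hG
        exact CT.isSolvable_of_card_two_primes hp hp _ G ((Nat.card G).factorization p) 0 rfl (by rw [pow_zero, mul_one]; exact hG)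
      · rw [Finset.prod_pair hpq] at hG
        exact CT.isSolvable_of_card_two_primes hp hq _ G _ _ rfl hG

/-- Converse of Hall's Theorem: if for every prime p a finite group has a subgroup of index equal to the p-part of the group order (a Hall p-complement), then the group is solvable. -/
theorem result {G : Type*} [Group G] [Finite G]
    (h : ∀ p : ℕ, p.Prime → ∃ H : Subgroup G, H.index = p ^ (Nat.card G).factorization p) :
    Group.IsSolvable G := by
  exact converse_hall_aux _ G le_rfl h

end Cfsg.Agent.S0006
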