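import Cfsg.Statements.S0014
import Cfsg.Agent.Lib.Basics.Frattini

set_option autoImplicit false
open Cfsg

namespace Cfsg.Agent.S0014

/-- Burnside's basis Theorem: in a finite p-group whose Frattini quotient has order p ^ n, every generating set contains n elements that already generate, and no set with fewer than n elements generates. -/
theorem result {G : Type*} [Group G] [Finite G] (p n : ℕ) [Fact p.Prime]
    (hG : IsPGroup p G) (hn : (frattini G).index = p ^ n) :
    (∀ S : Finset G, Subgroup.closure (S : Set G) = ⊤ → ∃ T : Finset G, T ⊆ S ∧ T.card = n ∧ Subgroup.closure (T : Set G) = ⊤) ∧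
    (∀ T : Finset G, Subgroup.closure (T : Set G) = ⊤ → n ≤ T.card) := by
  classical
  have := hG.isNilpotent
  have key : ∀ U : Finset G, Nat.card (Subgroup.closure (U : Set G) ⊔ frattini G : Subgroup G) ≤
      p ^ U.card * Nat.card (frattini G) ∧
      ((∀ t ∈ U, t ∉ Subgroup.closure ((U.erase t : Finset G) : Set G) ⊔ frattini G) →
        Nat.card (Subgroup.closure (U : Set G) ⊔ frattini G : Subgroup G) =
          p ^ U.card * Nat.card (frattini G)) := by
    intro U
    induction U using Finset.induction_on with
    | empty => simp
    | @insert t U ht ih =>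
      set W := Subgroup.closure (U : Set G) ⊔ frattini G with hW
      haveI : W.Normal := Subgroup.Normal.of_commutator_le _
        (Basics.commutator_le_frattini.trans le_sup_right)
      have he : Subgroup.closure ((insert t U : Finset G) : Set G) ⊔ frattini G =
          W ⊔ Subgroup.zpowers t := by
        rw [Finset.coe_insert, Set.insert_eq, Subgroup.closure_union, ← Subgroup.zpowers_eq_closure,
          hW, sup_comm (Subgroup.zpowers t), sup_right_comm]
      have h2 := Basics.card_sup_zpowers (p := p) (W := W) (t := t)
        (Subgroup.le_normalizer_of_normal (Subgroup.mem_top t))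
        (Subgroup.mem_sup_right (Basics.pow_mem_frattini hG t))
      rw [he, Finset.card_insert_of_notMem ht]
      constructor
      · calc Nat.card (W ⊔ Subgroup.zpowers t : Subgroup G) ≤ p * Nat.card W := h2.1
          _ ≤ p * (p ^ U.card * Nat.card (frattini G)) := Nat.mul_le_mul_left _ ih.1
          _ = _ := by ring
      · intro hind
        have htW : t ∉ W := by
          have h := hind t (Finset.mem_insert_self t U)
          rwa [Finset.erase_insert ht] at h
        have hU : Nat.card W = p ^ U.card * Nat.card (frattini G) := by
          refine ih.2 fun s hs h => hind s (Finset.mem_insert_of_mem hs) ?_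
          have hsub : ((U.erase s : Finset G) : Set G) ⊆ (((insert t U).erase s : Finset G) : Set G) :=
            Finset.coe_subset.mpr (Finset.erase_subset_erase s (Finset.subset_insert t U))
          exact (sup_le_sup_right (Subgroup.closure_mono hsub) (frattini G)) h
        rw [h2.2 htW, hU]; ring
  have hGc : Nat.card G = p ^ n * Nat.card (frattini G) := by
    rw [← (frattini G).card_mul_index, hn, mul_comm]
  constructor
  · intro S hS
    obtain ⟨T, hTS, ⟨-, hT⟩, hmin⟩ := Finite.exists_le_minimal
      (p := fun T : Finset G => T ⊆ S ∧ Subgroup.closure (T : Set G) = ⊤) (a := S) ⟨subset_rfl, hS⟩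
    refine ⟨T, hTS, ?_, hT⟩
    have h := (key T).2 fun t ht h => by
      have h1 : Subgroup.closure ((T.erase t : Finset G) : Set G) ⊔ frattini G = ⊤ := by
        rw [eq_top_iff, ← hT, Subgroup.closure_le]
        intro s hs
        rcases eq_or_ne s t with rfl | hst
        · exact h
        · exact Subgroup.mem_sup_left
            (Subgroup.subset_closure (Finset.mem_coe.mpr (Finset.mem_erase.mpr ⟨hst, hs⟩)))
      have h2 := hmin (y := T.erase t) ⟨(Finset.erase_subset t T).trans hTS, frattini_nongenerating h1⟩
        (Finset.erase_subset t T) ht
      exact Finset.notMem_erase t T h2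
    rw [hT, top_sup_eq, Subgroup.card_top, hGc] at h
    exact (Nat.pow_right_injective (Fact.out : p.Prime).two_le
      (Nat.eq_of_mul_eq_mul_right Nat.card_pos h)).symm
  · intro T hT
    have h := (key T).1
    rw [hT, top_sup_eq, Subgroup.card_top, hGc] at h
    exact (Nat.pow_le_pow_iff_right (Fact.out : p.Prime).one_lt).mp
      (Nat.le_of_mul_le_mul_right h Nat.card_pos)

end Cfsg.Agent.S0014
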