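import Cfsg.Statements.S0015
import Cfsg.Agent.Lib.Basics.CoprimeGen

set_option autoImplicit false
open Cfsg

namespace Cfsg.Agent.S0015

theorem step {G : Type*} [Group G] [Group.IsNilpotent G] [Finite G] :
    ∀ C N : Subgroup G, C.Normal → N.Normal → ¬ C ≤ N →
      ∃ x ∈ C, x ∉ N ∧ ∀ g : G, g * x * g⁻¹ * x⁻¹ ∈ N := by
  intro C
  induction C using WellFoundedLT.induction with
  | _ C ih =>
    intro N hC hN hle
    haveI := hC
    have hne : C ≠ ⊥ := fun h => hle (h ▸ bot_le)
    have hlt := Basics.commutator_top_lt_of_isNilpotent (N := C) hne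
    by_cases h0 : ⁅C, (⊤ : Subgroup G)⁆ ≤ N
    · obtain ⟨x, hx, hxN⟩ := SetLike.not_le_iff_exists.mp hle
      refine ⟨x, hx, hxN, fun g => ?_⟩
      rw [Subgroup.commutator_comm] at h0
      exact h0 (Subgroup.commutator_mem_commutator (Subgroup.mem_top g) hx)
    · obtain ⟨x, hx, h⟩ := ih _ hlt N inferInstance hN h0
      exact ⟨x, hlt.le hx, h⟩

/-- In a finite nilpotent group, an abelian normal subgroup that is maximal among abelian normal subgroups equals its own centralizer. -/
theorem result {G : Type*} [Group G] [Finite G] [Group.IsNilpotent G]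
    (N : Subgroup G) [N.Normal] [IsMulCommutative N]
    (hmax : ∀ M : Subgroup G, M.Normal → IsMulCommutative M → N ≤ M → M = N) :
    Subgroup.centralizer (N : Set G) = N := by
  refine le_antisymm ?_ fun n hn => Subgroup.mem_centralizer_iff.mpr fun m hm =>
    congrArg Subtype.val (IsMulCommutative.is_comm.comm (⟨m, hm⟩ : N) ⟨n, hn⟩)
  by_contra hne
  obtain ⟨x, hx, hxN, hconj⟩ := step _ N Subgroup.normal_centralizer inferInstance hne
  set M := N ⊔ Subgroup.zpowers x with hM
  have hMn : M.Normal := by
    rw [← Subgroup.normalizer_eq_top_iff, eq_top_iff]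
    intro g _
    rw [← Basics.conj_smul_eq_self_iff]
    refine Subgroup.eq_of_le_of_card_ge ?_ (Basics.card_conj_smul g M).ge
    rw [hM, Subgroup.smul_sup, Subgroup.Normal.conj_smul_eq_self g N]
    refine sup_le le_sup_left ?_
    intro y hy
    rw [Basics.mem_conj_smul] at hy
    obtain ⟨i, hi⟩ := Subgroup.mem_zpowers_iff.mp hy
    have hgx : g * x * g⁻¹ ∈ N ⊔ Subgroup.zpowers x := by
      have := mul_mem (Subgroup.mem_sup_left (T := Subgroup.zpowers x) (hconj g))
        (Subgroup.mem_sup_right (S := N) (Subgroup.mem_zpowers x))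
      simpa using this
    have hy' : y = (g * x * g⁻¹) ^ i := by
      rw [conj_zpow, hi]; group
    rw [hy']
    exact Subgroup.zpow_mem _ hgx i
  have hMa : IsMulCommutative M := by
    rw [← Subgroup.commutator_self_eq_bot_iff, Subgroup.commutator_eq_bot_iff_le_centralizer]
    have hNN : N ≤ Subgroup.centralizer (N : Set G) :=
      Subgroup.commutator_eq_bot_iff_le_centralizer.mp (Subgroup.commutator_self_eq_bot_iff.mpr inferInstance)
    have h1 : M ≤ Subgroup.centralizer (N : Set G) := sup_le hNN (Subgroup.zpowers_le.mpr hx)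
    refine Subgroup.le_centralizer_iff.mp (sup_le ?_ (Subgroup.zpowers_le.mpr ?_))
    · exact Subgroup.le_centralizer_iff.mp h1
    · rw [Subgroup.mem_centralizer_iff]
      intro m hm
      obtain ⟨n, hn, z, hz, rfl⟩ :=
        (Basics.mem_sup_of_le_normalizer Subgroup.le_normalizer_of_normal).mp hm
      obtain ⟨i, rfl⟩ := Subgroup.mem_zpowers_iff.mp hz
      have hnx : n * x = x * n := Subgroup.mem_centralizer_iff.mp hx n hn
      rw [mul_assoc, (Commute.zpow_self x i).eq, ← mul_assoc, hnx, mul_assoc]
  have := hmax M hMn hMa le_sup_left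
  exact hxN (this ▸ Subgroup.mem_sup_right (Subgroup.mem_zpowers x))

end Cfsg.Agent.S0015
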