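import Cfsg.Statements.S0018
import Cfsg.Agent.Lib.Basics.Cores

set_option autoImplicit false
open Cfsg

namespace Cfsg.Agent.S0018

/-- A finite solvable group whose Sylow p-subgroups are abelian has p-length one: a Sylow p-subgroup together with the largest normal subgroup of order prime to p generates a normal subgroup. -/
theorem result {G : Type*} [Group G] [Finite G] [Group.IsSolvable G]
    (p : ℕ) [Fact p.Prime] (P : Sylow p G) (hP : IsMulCommutative P) :
    ((P : Subgroup G) ⊔ Cfsg.pPrimeCore p G).Normal := by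
  set N := Cfsg.pPrimeCore p G with hN
  let π := QuotientGroup.mk' N
  let Q : Sylow p (G ⧸ N) := P.mapSurjective (QuotientGroup.mk'_surjective N)
  have hQ : (Q : Subgroup (G ⧸ N)) = (P : Subgroup G).map π := rfl
  have hle := Cfsg.Agent.Basics.pCore_le_sylow p Q
  have heq : (Q : Subgroup (G ⧸ N)) = Cfsg.pCore p (G ⧸ N) := by
    refine le_antisymm (fun x hx => ?_) hle
    refine Cfsg.Agent.Basics.centralizer_pCore_le (Cfsg.Agent.Basics.pPrimeCore_quotient_eq_bot p) ?_
    rw [Subgroup.mem_centralizer_iff]
    intro y hy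
    have hy' := hle hy
    rw [hQ] at hx hy'
    obtain ⟨a, ha, rfl⟩ := hx
    obtain ⟨b, hb, rfl⟩ := hy'
    rw [← map_mul, ← map_mul]
    exact congrArg π (congrArg Subtype.val (hP.is_comm.comm ⟨b, hb⟩ ⟨a, ha⟩))
  haveI : (Cfsg.pCore p (G ⧸ N)).Normal := inferInstance
  have h : (((P : Subgroup G).map π).comap π).Normal := by
    rw [← hQ, heq]; exact Subgroup.Normal.comap inferInstance _
  rwa [Subgroup.comap_map_eq, QuotientGroup.ker_mk'] at h

end Cfsg.Agent.S0018
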