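import Cfsg.Statements.S0021
import Cfsg.Agent.Lib.Basics.Systems
import Cfsg.Agent.S0006

set_option autoImplicit false
open Pointwise
open Cfsg

namespace Cfsg.Agent.S0021

theorem union_card.{w} {G : Type w} [Group G] [Finite G] (S : (p : Nat.Primes) → Sylow (p : ℕ) G)
    (hS : ∀ p q : Nat.Primes, (S p : Set G) * (S q : Set G) = (S q : Set G) * (S p : Set G))
    (s : Finset Nat.Primes) : ∃ M : Subgroup G,
      Nat.card M = ∏ q ∈ s, (q : ℕ) ^ (Nat.card G).factorization q ∧
      ∀ q : Nat.Primes, (M : Set G) * (S q : Set G) = (S q : Set G) * (M : Set G) := by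
  classical
  induction s using Finset.induction_on with
  | empty => exact ⟨⊥, by simp, fun q => by simp⟩
  | @insert a s ha ih =>
    obtain ⟨M, hM, hMc⟩ := ih
    haveI : Fact (a : ℕ).Prime := ⟨a.2⟩
    have hcoe := Basics.coe_sup_of_mul_comm (H := M) (M := (S a : Subgroup G)) (hMc a)
    refine ⟨M ⊔ (S a : Subgroup G), ?_, fun q => ?_⟩
    · rw [Finset.prod_insert ha, mul_comm, ← hM]
      have hd : Disjoint M (S a : Subgroup G) := by
        apply Subgroup.disjoint_of_coprime_natCard
        rw [hM, (S a).card_eq_multiplicity]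
        exact Nat.Coprime.prod_left fun q hq => Basics.prime_pow_coprime (fun e => ha (by rw [← e]; exact hq)) _ _
      have h1 := Basics.card_mul_of_disjoint hd
      rw [← hcoe] at h1
      rw [← (S a).card_eq_multiplicity]
      exact h1
    · rw [hcoe]
      show (M : Set G) * (S a : Set G) * (S q : Set G) = (S q : Set G) * ((M : Set G) * (S a : Set G))
      rw [mul_assoc, hS a q, ← mul_assoc, hMc q, mul_assoc]

/-- A finite group with a family of pairwise permuting Sylow subgroups, one for each prime, is solvable (this direction rests on Burnside's two-prime Theorem). -/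
theorem result {G : Type*} [Group G] [Finite G]
    (S : (p : Nat.Primes) → Sylow (p : ℕ) G)
    (hS : ∀ p q : Nat.Primes, (S p : Set G) * (S q : Set G) = (S q : Set G) * (S p : Set G)) :
    Group.IsSolvable G := by
  classical
  refine S0006.result fun p hp => ?_
  set P : Nat.Primes := ⟨p, hp⟩
  obtain ⟨M, hM, -⟩ := union_card S hS ((Basics.primesOf G).erase P)
  refine ⟨M, ?_⟩
  have h := M.card_mul_index
  rw [hM] at h
  apply Nat.eq_of_mul_eq_mul_left (Finset.prod_pos (s := (Basics.primesOf G).erase P)
    fun q _ => pow_pos q.2.pos ((Nat.card G).factorization q))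
  rw [h]
  by_cases hmem : P ∈ Basics.primesOf G
  · conv_lhs => rw [← Basics.prod_card_eq (G := G)]
    exact (Finset.prod_erase_mul _ (fun q : Nat.Primes => (q : ℕ) ^ (Nat.card G).factorization q) hmem).symm
  · rw [Finset.erase_eq_of_notMem hmem, Basics.prod_card_eq]
    rw [Basics.mem_primesOf] at hmem
    rw [Nat.factorization_eq_zero_of_not_dvd hmem, pow_zero, mul_one]

end Cfsg.Agent.S0021
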