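import Cfsg.Statements.S0029
import Cfsg.Agent.Lib.Basics.CoprimeAction

set_option autoImplicit false
open Cfsg

namespace Cfsg.Agent.S0029

/-- An action that is trivial on the Frattini quotient and coprime on the Frattini subgroup is trivial: if A normalises K, the orders of A and of the Frattini subgroup of K are coprime, and every commutator of an element of A with an element of K lies in the Frattini subgroup of K, then A centralises K. -/
theorem result {G : Type*} [Group G] [Finite G] (A K : Subgroup G)
    (hAK : A ≤ Subgroup.normalizer (K : Set G))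
    (hcop : (Nat.card A).Coprime (Nat.card (frattini K)))
    (htriv : ∀ a ∈ A, ∀ k ∈ K, a * k * a⁻¹ * k⁻¹ ∈ (frattini K).map K.subtype) :
    A ≤ Subgroup.centralizer (K : Set G) := by
  intro a ha
  have hK : K ⊓ Subgroup.centralizer ((Subgroup.zpowers a : Subgroup G) : Set G) = K := by
    refine le_antisymm inf_le_left fun k hk => ?_
    set C := (K ⊓ Subgroup.centralizer ((Subgroup.zpowers a : Subgroup G) : Set G)).subgroupOf K
    suffices h : C ⊔ frattini K = ⊤ by
      have h2 := frattini_nongenerating h
      have : (⟨k, hk⟩ : K) ∈ C := by rw [h2]; trivial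
      exact this
    rw [eq_top_iff]
    rintro ⟨k, hk⟩ -
    set N := (frattini K).map K.subtype
    have hN : K ≤ Subgroup.normalizer (N : Set G) := by
      rw [← Subgroup.normal_subgroupOf_iff_le_normalizer (Subgroup.map_subtype_le _)]
      simp only [N, Subgroup.subgroupOf, Subgroup.comap_map_eq_self_of_injective K.subtype_injective]
      infer_instance
    have hA : ∀ b ∈ A, b ∈ Subgroup.normalizer (N : Set G) := by
      intro b hb
      refine Basics.conj_smul_eq_self_iff.mp (Subgroup.eq_of_le_of_card_ge ?_ (Basics.card_conj_smul b N).ge)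
      intro x hx
      rw [Basics.mem_conj_smul] at hx
      obtain ⟨y, hy, hyx⟩ := hx
      have hN' : x * (b⁻¹ * x * b)⁻¹ ∈ N := by
        convert htriv b hb (y : G) y.2 using 1
        simp only [Subgroup.subtype_apply] at hyx
        rw [hyx]
        group
      have hy' : b⁻¹ * x * b ∈ N := ⟨y, hy, hyx⟩
      simpa only [inv_mul_cancel_right] using mul_mem hN' hy'
    have hN1 : Nat.card N = Nat.card (frattini K) :=
      Subgroup.card_map_of_injective K.subtype_injective
    obtain ⟨c, hc, hcN⟩ := Basics.exists_centralizer_mem_coset (Subgroup.zpowers a) N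
      (Subgroup.zpowers_le.mpr (hA a ha))
      (by rw [hN1]; exact hcop.coprime_dvd_left (Subgroup.card_dvd_of_le (Subgroup.zpowers_le.mpr ha)))
      (Or.inl (Group.isSolvable_of_comm IsMulCommutative.is_comm.comm)) k (hN hk) (fun b hb => htriv b (Subgroup.zpowers_le.mpr ha hb) k hk)
    have hcK : c ∈ K := by simpa using mul_mem hk (Subgroup.map_subtype_le _ hcN)
    have hN2 : (⟨k, hk⟩ : K)⁻¹ * ⟨c, hcK⟩ ∈ frattini K :=
      (Subgroup.mem_map_iff_mem K.subtype_injective).mp hcN
    have h1 : (⟨c, hcK⟩ : K) ∈ C := ⟨hcK, hc⟩
    have := mul_mem (Subgroup.mem_sup_left (T := frattini K) h1)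
      (Subgroup.mem_sup_right (inv_mem hN2))
    simpa using this
  rw [Subgroup.mem_centralizer_iff]
  intro k hk
  rw [← hK] at hk
  exact (Subgroup.mem_centralizer_iff.mp hk.2 a (Subgroup.mem_zpowers a)).symm

end Cfsg.Agent.S0029
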