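import Cfsg.Statements.S0030
import Cfsg.Agent.Lib.Basics.CoprimeAction

set_option autoImplicit false
open Cfsg

namespace Cfsg.Agent.S0030

/-- Under coprime action fixed points of a product of two invariant subgroups factor: if K = X Y with X and Y normalised by A then every A-fixed element of K is a product of an A-fixed element of X and an A-fixed element of Y. -/
theorem result {G : Type*} [Group G] [Finite G] (A K : Subgroup G) (hAK : A ≤ Subgroup.normalizer (K : Set G))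
    (hcop : (Nat.card A).Coprime (Nat.card K)) (hsolv : Group.IsSolvable A ∨ Group.IsSolvable K)
    (X Y : Subgroup G) (hX : X ≤ K) (hY : Y ≤ K) (hXA : A ≤ Subgroup.normalizer (X : Set G)) (hYA : A ≤ Subgroup.normalizer (Y : Set G))
    (hXY : ∀ k ∈ K, ∃ x ∈ X, ∃ y ∈ Y, k = x * y) (k : G) (hk : k ∈ K ⊓ Subgroup.centralizer (A : Set G)) :
    ∃ x ∈ X ⊓ Subgroup.centralizer (A : Set G), ∃ y ∈ Y ⊓ Subgroup.centralizer (A : Set G), k = x * y := by
  obtain ⟨x, hx, y, hy, rfl⟩ := hXY k hk.1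
  have hfix : ∀ a ∈ A, x⁻¹ * a * x * a⁻¹ ∈ X ⊓ Y := by
    intro a ha
    have h1 : a * (x * y) = x * y * a := Subgroup.mem_centralizer_iff.mp hk.2 a ha
    rw [Subgroup.mem_inf]
    refine ⟨?_, ?_⟩
    · convert mul_mem (inv_mem hx) ((Basics.conj_mem_iff_of_mem_normalizer (hXA ha)).mpr hx) using 1
      group
    · convert mul_mem hy ((Basics.conj_mem_iff_of_mem_normalizer (hYA ha)).mpr (inv_mem hy)) using 1
      calc x⁻¹ * a * x * a⁻¹ = x⁻¹ * (a * (x * y)) * y⁻¹ * a⁻¹ := by group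
      _ = x⁻¹ * (x * y * a) * y⁻¹ * a⁻¹ := by rw [h1]
      _ = y * (a * y⁻¹ * a⁻¹) := by group
  have hAD : A ≤ Subgroup.normalizer ((X ⊓ Y : Subgroup G) : Set G) := by
    intro a ha
    rw [← Basics.conj_smul_eq_self_iff, Subgroup.smul_inf,
      Basics.conj_smul_eq_self_iff.mpr (hXA ha), Basics.conj_smul_eq_self_iff.mpr (hYA ha)]
  obtain ⟨c, hc, hcD⟩ := Basics.exists_centralizer_mem_leftCoset A (X ⊓ Y) hAD
    (hcop.coprime_dvd_right (Subgroup.card_dvd_of_le (inf_le_left.trans hX)))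
    (hsolv.imp_right (Basics.isSolvable_of_le (inf_le_left.trans hX))) x hfix
  rw [Subgroup.mem_inf] at hcD
  refine ⟨c, ⟨by simpa using mul_mem hx hcD.1, hc⟩, c⁻¹ * (x * y),
    Subgroup.mem_inf.mpr ⟨?_, mul_mem (inv_mem hc) (Subgroup.mem_inf.mp hk).2⟩, by group⟩
  convert mul_mem (inv_mem hcD.2) hy using 1
  group

end Cfsg.Agent.S0030
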