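import Cfsg.Statements.S0031
import Cfsg.Agent.Lib.Basics.Tools

set_option autoImplicit false
open scoped Pointwise
open Cfsg

namespace Cfsg.Agent.S0031

/-- A fixed-point-free automorphism of a finite group maps some Sylow p-subgroup to itself. -/
theorem result {G : Type*} [Group G] [Finite G] (φ : G ≃* G)
    (hφ : MonoidHom.FixedPointFree (φ : G →* G)) (p : ℕ) [Fact p.Prime] :
    ∃ P : Sylow p G, (P : Subgroup G).map (φ : G →* G) = P := by
  obtain ⟨P⟩ : Nonempty (Sylow p G) := inferInstance
  have hcard : Nat.card ((P : Subgroup G).map (φ : G →* G) : Subgroup G) = p ^ (Nat.card G).factorization p := by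
    rw [Subgroup.card_map_of_injective (f := (φ : G →* G)) φ.injective, P.card_eq_multiplicity]
  obtain ⟨g, hg⟩ := MulAction.exists_smul_eq G P (Sylow.ofCard _ hcard)
  have hg' : MulAut.conj g • (P : Subgroup G) = (P : Subgroup G).map (φ : G →* G) := by
    have h := congrArg (fun S : Sylow p G => (S : Subgroup G)) hg
    rw [Sylow.coe_subgroup_smul, Sylow.coe_ofCard] at h
    exact h
  obtain ⟨y, hy⟩ := hφ.commutatorMap_surjective g⁻¹
  refine ⟨y⁻¹ • P, ?_⟩
  rw [Sylow.coe_subgroup_smul, Basics.map_conj_smul, ← hg', Basics.conj_smul_conj_smul]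
  congr 2
  simp only [MonoidHom.commutatorMap_apply, MonoidHom.coe_coe, div_eq_mul_inv] at hy ⊢
  rw [← inv_inv g, ← hy, map_inv]
  group

end Cfsg.Agent.S0031
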