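import Cfsg.Statements.S0032


set_option autoImplicit false
open Cfsg

namespace Cfsg.Agent.S0032

/-- If an automorphism of a finite group fixes only the identity and maps a normal subgroup N into itself, then the only cosets of N it fixes are those in N: a fixed coset xN forces x ∈ N. -/
theorem result {G : Type*} [Group G] [Finite G] (φ : G ≃* G)
    (hφ : MonoidHom.FixedPointFree (φ : G →* G)) (N : Subgroup G) [N.Normal] (hN : ∀ n ∈ N, φ n ∈ N)
    (x : G) (hx : (φ x)⁻¹ * x ∈ N) : x ∈ N := by
  let ψ : ↥N →* ↥N := ((φ : G →* G).domRestrict N).codRestrict N (fun n => hN n n.2)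
  have hψ : MonoidHom.FixedPointFree ψ := by
    intro n hn
    exact Subtype.ext (hφ _ (congrArg Subtype.val hn))
  obtain ⟨n, hn⟩ := hψ.commutatorMap_surjective ⟨x * (φ x)⁻¹, by
    have h1 := (inferInstance : N.Normal).conj_mem _ hx x
    simpa [mul_assoc] using h1⟩
  have hn' : (n : G) * (φ n)⁻¹ = x * (φ x)⁻¹ := by
    have h := congrArg Subtype.val hn
    simp only [MonoidHom.commutatorMap_apply, div_eq_mul_inv] at h
    exact h
  have h2 : (n : G) = x := by
    refine hφ.commutatorMap_injective ?_
    simp only [MonoidHom.commutatorMap_apply, MonoidHom.coe_coe, div_eq_mul_inv]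
    exact hn'
  exact h2 ▸ n.2

end Cfsg.Agent.S0032
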