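import Cfsg.Statements.S0039
import Cfsg.Agent.Lib.Basics.FrobeniusBasic

set_option autoImplicit false
open scoped Pointwise
open Cfsg

namespace Cfsg.Agent.S0039

/-- In a finite group that is a semidirect product of a normal subgroup K by a nontrivial subgroup H, H is a Frobenius complement exactly when each nonidentity element of H acts without nonidentity fixed points on K by conjugation. -/
theorem result {G : Type*} [Group G] [Finite G] (K H : Subgroup G) [K.Normal]
    (hc : Subgroup.IsComplement' K H) (hK : K ≠ ⊥) (hH : H ≠ ⊥) :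
    Cfsg.IsFrobeniusComplement H ↔ ∀ h ∈ H, h ≠ 1 → K ⊓ Subgroup.centralizer {h} = ⊥ := by
  have hdec : ∀ g : G, ∃ k ∈ K, ∃ h ∈ H, g = k * h := fun g =>
    (Basics.mem_sup_of_le_normalizer Subgroup.le_normalizer_of_normal).mp (hc.sup_eq_top ▸ Subgroup.mem_top g)
  constructor
  · intro hF h hh h1
    rw [eq_bot_iff]
    rintro k ⟨hk, hkc⟩
    have hkh : k * h = h * k := Subgroup.mem_centralizer_singleton_iff.mp hkc
    refine hc.disjoint.le_bot ⟨hk, ?_⟩
    by_contra hkH
    refine h1 ((Subgroup.eq_bot_iff_forall _).mp (hF.2.2 k hkH) h ⟨hh, ?_⟩)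
    show h ∈ MulAut.conj k • H
    rw [Basics.mem_conj_smul, mul_assoc, ← hkh, inv_mul_cancel_left]
    exact hh
  · intro hfpf
    refine ⟨hH, fun ht => hK ?_, fun g hg => ?_⟩
    · rwa [ht, Subgroup.isComplement'_top_right] at hc
    obtain ⟨k, hk, u, hu, rfl⟩ := hdec g
    rw [← Basics.conj_smul_conj_smul, Subgroup.conj_smul_eq_self_of_mem hu, eq_bot_iff]
    rintro x ⟨hx, hxk⟩
    replace hxk : k⁻¹ * x * k ∈ H := Basics.mem_conj_smul.mp hxk
    rw [Subgroup.mem_bot]
    by_contra hx1
    have hmem : x⁻¹ * (k⁻¹ * x * k) ∈ K := by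
      have := mul_mem ((inferInstance : K.Normal).conj_mem _ (inv_mem hk) x⁻¹) hk
      simpa [mul_assoc] using this
    have heq : x⁻¹ * (k⁻¹ * x * k) = 1 := by
      have hx' : x ∈ H := hx
      have := hc.disjoint.le_bot (x := x⁻¹ * (k⁻¹ * x * k)) (Subgroup.mem_inf.mpr ⟨hmem, mul_mem (inv_mem hx') hxk⟩)
      exact this
    have hkc : k ∈ K ⊓ Subgroup.centralizer {x} := ⟨hk, Subgroup.mem_centralizer_singleton_iff.mpr (by
      rw [inv_mul_eq_one] at heq
      calc k * x = k * (k⁻¹ * x * k) := by rw [← heq]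
      _ = x * k := by group)⟩
    rw [hfpf x hx hx1, Subgroup.mem_bot] at hkc
    subst hkc
    rw [one_mul] at hg
    exact hg hu

end Cfsg.Agent.S0039
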