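import Cfsg.Statements.S0042
import Cfsg.Agent.Lib.Basics.FrobeniusBasic
import Cfsg.Agent.Lib.Basics.ThompsonFpf

set_option autoImplicit false
open Cfsg
open scoped Pointwise

namespace Cfsg.Agent.S0042

/-- In a finite Frobenius group, the Frobenius kernel is (the carrier of) a normal subgroup which is nilpotent. -/
theorem result {G : Type*} [Group G] [Finite G] (H : Subgroup G) (hH : Cfsg.IsFrobeniusComplement H) :
    ∃ N : Subgroup G, (N : Set G) = Cfsg.frobeniusKernel H ∧ N.Normal ∧ Group.IsNilpotent N := by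
  obtain ⟨N, hN, hn, hc, -⟩ := Cfsg.Agent.Basics.frobenius_kernel_exists hH
  refine ⟨N, hN, hn, ?_⟩
  haveI := hn
  have h1 : Nat.card H ≠ 1 := fun h => hH.1 (H.eq_bot_of_card_eq h)
  obtain ⟨p, hp, hpd⟩ := Nat.exists_prime_and_dvd h1
  haveI := Fact.mk hp
  obtain ⟨x, hx⟩ := exists_prime_orderOf_dvd_card' (G := H) p hpd
  refine Cfsg.Agent.Basics.isNilpotent_of_conj_fpf N (x := (x : G)) (p := p)
    (by rw [Subgroup.orderOf_coe]; exact hx) fun n hn' hcomm => ?_
  have hd : N ⊓ H = ⊥ := disjoint_iff.mp hc.disjoint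
  by_contra hne
  have hnH : n ∉ H := fun h => hne (Subgroup.mem_bot.mp (hd ▸ Subgroup.mem_inf.mpr ⟨hn', h⟩))
  have hx1 : (x : G) ∈ H ⊓ MulAut.conj n • H := by
    refine Subgroup.mem_inf.mpr ⟨x.2, ?_⟩
    have h2 := Cfsg.Agent.Basics.conj_mem_conj_smul (g := n) x.2
    rwa [← hcomm, mul_inv_cancel_right] at h2
  rw [hH.2.2 n hnH, Subgroup.mem_bot, OneMemClass.coe_eq_one] at hx1
  rw [hx1, orderOf_one] at hx
  exact hp.one_lt.ne hx

end Cfsg.Agent.S0042
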