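import Cfsg.Statements.S0048
import Cfsg.Agent.Lib.Basics.Tools
import Cfsg.Agent.Lib.Basics.Frattini

set_option autoImplicit false
open Cfsg

namespace Cfsg.Agent.S0048

open Subgroup

universe u

theorem aux : ∀ (n : ℕ) (G : Type u) [Group G] [Finite G] [Group.IsSolvable G], Nat.card G = n →
    ∀ M : Subgroup G, IsCoatom M → IsPrimePow M.index := by
  intro n
  induction n using Nat.strong_induction_on with
  | _ n ih =>
  intro G _ _ _ hn M hM
  haveI : Nontrivial G := by
    by_contra h
    haveI := not_nontrivial_iff_subsingleton.mp h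
    exact hM.1 (Subsingleton.elim _ _)
  obtain ⟨N, hNn, -, hNne, hmin⟩ := Basics.exists_minimal_normal (N := (⊤ : Subgroup G)) top_ne_bot
  haveI := hNn
  obtain ⟨hNab, p, hp, -, hNp⟩ := Basics.minimal_normal_solvable hNne inferInstance hmin
  haveI := Fact.mk hp
  by_cases hNM : N ≤ M
  · have hsur := QuotientGroup.mk'_surjective N
    have hback : (M.map (QuotientGroup.mk' N)).comap (QuotientGroup.mk' N) = M :=
      Subgroup.comap_map_eq_self (by rw [QuotientGroup.ker_mk']; exact hNM)
    have hco : IsCoatom (M.map (QuotientGroup.mk' N)) := by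
      refine ⟨fun e => hM.1 (by rw [← hback, e, Subgroup.comap_top]), fun X hX => ?_⟩
      have h2 := hM.2 (X.comap _) (hback ▸ (Subgroup.comap_lt_comap_of_surjective hsur).mpr hX)
      rw [← Subgroup.map_comap_eq_self_of_surjective hsur X, h2, Subgroup.map_top_of_surjective _ hsur]
    have := ih _ (hn ▸ Basics.card_quotient_lt hNne) (G ⧸ N) rfl _ hco
    rwa [← Subgroup.index_comap_of_surjective _ hsur, hback] at this
  · have hsup := Basics.le_of_not_le_sup_eq_top hM hNM
    haveI : (N ⊓ M).Normal := by
      rw [← normalizer_eq_top_iff, eq_top_iff, ← hsup, sup_le_iff]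
      refine ⟨fun m hm => ?_, fun x hx => Subgroup.centralizer_le_normalizer _ (mem_centralizer_iff.mpr fun y hy => ?_)⟩
      · refine mem_normalizer_iff.mpr fun y => ?_
        have hmN : m ∈ normalizer (N : Set G) := le_normalizer_of_normal (mem_top m)
        have e : m * y * m⁻¹ ∈ M ↔ y ∈ M :=
          ⟨fun h => by simpa [mul_assoc] using M.mul_mem (M.mul_mem (M.inv_mem hm) h) hm,
            fun h => M.mul_mem (M.mul_mem hm h) (M.inv_mem hm)⟩
        simp only [mem_inf]
        rw [← mem_normalizer_iff.mp hmN y, e]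
      · exact congrArg Subtype.val (hNab.is_comm.comm ⟨y, hy.1⟩ ⟨x, hx⟩)
    have hinf : N ⊓ M = ⊥ := (hmin _ inferInstance inf_le_left).resolve_right fun e => hNM (inf_eq_left.mp e)
    have hcomp : Subgroup.IsComplement' N M := Subgroup.isComplement'_of_disjoint_and_mul_eq_univ
      (disjoint_iff.mpr hinf) (by rw [← Subgroup.normal_mul, sup_comm, hsup]; rfl)
    rw [hcomp.index_eq_card, isPrimePow_nat_iff]
    obtain ⟨j, hj0, hj⟩ := hNp.nontrivial_iff_card.mp (N.nontrivial_iff_ne_bot.mpr hNne)
    exact ⟨p, j, hp, hj0, hj.symm⟩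

/-- In a finite solvable group every maximal subgroup has index a prime power. -/
theorem result {G : Type*} [Group G] [Finite G] [Group.IsSolvable G]
    (M : Subgroup G) (hM : IsCoatom M) : IsPrimePow M.index := by
  exact aux _ G rfl M hM

end Cfsg.Agent.S0048
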