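import Cfsg.Statements.S0049
import Cfsg.Agent.Lib.Basics.Frattini

set_option autoImplicit false
open Cfsg

namespace Cfsg.Agent.S0049

/-- A prime divisor of the order of a finite group also divides the index of the Frattini subgroup. -/
theorem result {G : Type*} [Group G] [Finite G] (p : ℕ) (hp : p.Prime) (hdvd : p ∣ Nat.card G) :
    p ∣ (frattini G).index := by
  haveI : Fact p.Prime := ⟨hp⟩
  by_contra hd
  haveI := frattini_nilpotent (G := G)
  let P : Sylow p (frattini G) := default
  haveI : ((P : Subgroup (frattini G)).map (frattini G).subtype).Normal := by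
    haveI := P.characteristic_of_normal (inferInstance : (P : Subgroup (frattini G)).Normal)
    exact ConjAct.normal_of_characteristic_of_normal
  set Q := (P : Subgroup (frattini G)).map (frattini G).subtype
  have hQle : Q ≤ frattini G := Subgroup.map_subtype_le _
  have hc : Nat.card Q = p ^ (Nat.card (frattini G)).factorization p := by
    rw [Subgroup.card_map_of_injective (frattini G).subtype_injective, P.card_eq_multiplicity]
  have hv : (Nat.card G).factorization p = (Nat.card (frattini G)).factorization p := by
    rw [← (frattini G).card_mul_index, Nat.factorization_mul Nat.card_pos.ne'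
      Subgroup.index_ne_zero_of_finite, Finsupp.add_apply,
      Nat.factorization_eq_zero_of_not_dvd hd, add_zero]
  have hidx : ¬ p ∣ Q.index := by
    intro h
    have h1 : p ^ ((Nat.card G).factorization p + 1) ∣ Nat.card G := by
      rw [pow_succ, hv, ← hc]
      exact (Nat.mul_dvd_mul_left _ h).trans Q.card_mul_index.dvd
    exact Nat.not_succ_le_self _ ((Nat.Prime.pow_dvd_iff_le_factorization hp Nat.card_pos.ne').mp h1)
  obtain ⟨H, hH⟩ := Subgroup.exists_right_complement'_of_coprime (N := Q)
    (by rw [hc]; exact (hp.coprime_iff_not_dvd.mpr hidx).pow_left _)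
  have hHt : H = ⊤ := frattini_nongenerating (by
    rw [eq_top_iff, ← hH.sup_eq_top]
    exact sup_le (hQle.trans le_sup_right) le_sup_left)
  rw [hHt, Subgroup.isComplement'_top_right] at hH
  rw [hH, Subgroup.card_bot] at hc
  have := (pow_eq_one_iff_right hp.ne_one).mp hc.symm
  exact ((hp.factorization_pos_of_dvd Nat.card_pos.ne' hdvd).ne') (hv.trans this)

end Cfsg.Agent.S0049
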