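import Cfsg.Statements.S0052
import Cfsg.Agent.Lib.FGS.Gaschutz

set_option autoImplicit false
open Pointwise
open Cfsg
open scoped Pointwise
set_option linter.all false

namespace Cfsg.Agent.S0052

open Subgroup
open scoped IsMulCommutative

theorem proj_spec {G : Type*} [Group G] (K H : Subgroup G) [K.Normal] [IsMulCommutative K]
    (h : IsComplement' K H) :
    ∃ f : G → K, FGS.Gaschutz.IsCross K f ∧ ∀ g, (f g : G)⁻¹ * g ∈ H := by
  have hdec : ∀ g : G, ∃ k : K, (k : G)⁻¹ * g ∈ H := fun g => by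
    obtain ⟨⟨⟨k, hk⟩, ⟨a, ha⟩⟩, hka, -⟩ := h.existsUnique g
    refine ⟨⟨k, hk⟩, ?_⟩
    rw [← hka]
    simpa using ha
  choose f hf using hdec
  refine ⟨f, fun a b => ?_, hf⟩
  have h1 : ((f (a * b) : K) : G)⁻¹ * ((f a * MulAut.conjNormal a (f b) : K) : G) ∈ H := by
    have e : MulAut.conjNormal a (f b) = MulAut.conjNormal ((f a : G)⁻¹ * a) (f b) := by
      rw [map_mul, MulAut.mul_apply, ← Subgroup.coe_inv, FGS.Gaschutz.conjNormal_self]
    rw [e]
    have := mul_mem (hf (a * b)) (inv_mem (mul_mem (hf a) (hf b)))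
    convert this using 1
    simp only [Subgroup.coe_mul, MulAut.conjNormal_apply]
    group
  have h2 : ((f (a * b) : K) : G)⁻¹ * ((f a * MulAut.conjNormal a (f b) : K) : G) ∈ K ⊓ H :=
    mem_inf.2 ⟨mul_mem (inv_mem (f (a * b)).2) (f a * MulAut.conjNormal a (f b)).2, h1⟩
  rw [h.disjoint.eq_bot, mem_bot, inv_mul_eq_one] at h2
  exact Subtype.ext h2


/-- Gaschütz's Theorem, conjugacy: for an abelian normal subgroup K ≤ U with the order of K coprime to the index of U, two complements of K in G having the same intersection with U are conjugate. -/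
theorem result {G : Type*} [Group G] [Finite G] (K U : Subgroup G) [K.Normal] [IsMulCommutative K]
    (hKU : K ≤ U) (hcop : (Nat.card K).Coprime U.index)
    (H₀ H₁ : Subgroup G) (h₀ : Subgroup.IsComplement' K H₀) (h₁ : Subgroup.IsComplement' K H₁) (hU : H₀ ⊓ U = H₁ ⊓ U) :
    ∃ g : G, MulAut.conj g • H₀ = H₁ := by
  classical
  haveI := Fintype.ofFinite (G ⧸ U)
  obtain ⟨f₀, hf₀, hm₀⟩ := proj_spec K H₀ h₀
  obtain ⟨f₁, hf₁, hm₁⟩ := proj_spec K H₁ h₁
  let δ : G → K := fun g => f₁ g * (f₀ g)⁻¹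
  have hδ : ∀ g h, δ (g * h) = δ g * MulAut.conjNormal g (δ h) := fun g h => by
    show f₁ (g * h) * (f₀ (g * h))⁻¹ = f₁ g * (f₀ g)⁻¹ * MulAut.conjNormal g (f₁ h * (f₀ h)⁻¹)
    rw [hf₁, hf₀, map_mul, map_inv, mul_inv, mul_mul_mul_comm]
  have hmemH : ∀ (H : Subgroup G) (f : G → K), Subgroup.IsComplement' K H →
      (∀ g, (f g : G)⁻¹ * g ∈ H) → ∀ g ∈ H, f g = 1 := by
    intro H f hH hm g hg
    have h2 : (f g : G) ∈ K ⊓ H := Subgroup.mem_inf.2 ⟨(f g).2, by
      simpa using mul_mem hg (inv_mem (hm g))⟩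
    rw [hH.disjoint.eq_bot, Subgroup.mem_bot] at h2
    exact Subtype.ext h2
  have hδU : ∀ u ∈ U, δ u = 1 := by
    intro u hu
    have hw : (f₀ u : G)⁻¹ * u ∈ H₀ ⊓ U := Subgroup.mem_inf.2 ⟨hm₀ u, mul_mem (inv_mem (hKU (f₀ u).2)) hu⟩
    rw [hU] at hw
    have h2 : ((f₁ u : G)⁻¹ * u) * ((f₀ u : G)⁻¹ * u)⁻¹ ∈ K ⊓ H₁ := by
      refine Subgroup.mem_inf.2 ⟨?_, mul_mem (hm₁ u) (inv_mem hw.1)⟩
      rw [show (f₁ u : G)⁻¹ * u * ((f₀ u : G)⁻¹ * u)⁻¹ = (f₁ u : G)⁻¹ * (f₀ u : G) by group]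
      exact mul_mem (inv_mem (f₁ u).2) (f₀ u).2
    rw [h₁.disjoint.eq_bot, Subgroup.mem_bot,
      show (f₁ u : G)⁻¹ * u * ((f₀ u : G)⁻¹ * u)⁻¹ = (f₁ u : G)⁻¹ * (f₀ u : G) by group,
      inv_mul_eq_one] at h2
    show f₁ u * (f₀ u)⁻¹ = 1
    rw [Subtype.ext h2, mul_inv_cancel]
  have hconst : ∀ g g' : G, (g : G ⧸ U) = g' → δ g = δ g' := by
    intro g g' h
    have h' : g⁻¹ * g' ∈ U := QuotientGroup.eq.1 h
    rw [show g' = g * (g⁻¹ * g') by group, hδ, hδU _ h', map_one, mul_one]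
  set e := ∏ c : G ⧸ U, δ c.out with he
  have hkey : ∀ g : G, e = δ g ^ U.index * MulAut.conjNormal g e := by
    intro g
    rw [he, map_prod, Subgroup.index_eq_card, Nat.card_eq_fintype_card, ← Finset.card_univ,
      ← Finset.prod_const, ← Finset.prod_mul_distrib]
    symm
    refine (Finset.prod_congr rfl fun c _ => ?_).trans
      (Equiv.prod_comp (MulAction.toPerm g) fun c : G ⧸ U => δ c.out)
    rw [← hδ]
    refine hconst _ _ ?_
    rw [MulAction.toPerm_apply, QuotientGroup.out_eq']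
    conv_rhs => rw [← QuotientGroup.out_eq' c]
    rfl
  obtain ⟨k, hk⟩ := (powCoprime hcop).surjective e
  have hk' : k ^ U.index = e := hk
  refine ⟨(k : G)⁻¹, ?_⟩
  refine Subgroup.eq_of_le_of_card_ge ?_ ?_
  · intro x hx
    obtain ⟨h, hh, rfl⟩ := (Subgroup.mem_smul_pointwise_iff_exists x _ _).1 hx
    have h1 : δ h * MulAut.conjNormal h k = k := (powCoprime hcop).injective (by
      show (δ h * MulAut.conjNormal h k) ^ U.index = k ^ U.index
      rw [mul_pow, ← map_pow, hk', ← hkey])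
    have h2 : δ h = f₁ h := by
      show f₁ h * (f₀ h)⁻¹ = f₁ h
      rw [hmemH H₀ f₀ h₀ hm₀ h hh, inv_one, mul_one]
    rw [h2] at h1
    have h3 : (f₁ h : G)⁻¹ = h * k * h⁻¹ * (k : G)⁻¹ := by
      have := congrArg Subtype.val (eq_mul_inv_of_mul_eq h1)
      rw [Subgroup.coe_mul, Subgroup.coe_inv, MulAut.conjNormal_apply] at this
      rw [this]; group
    have h4 := hm₁ h
    rw [h3] at h4
    have hswap : h * k * h⁻¹ * (k : G)⁻¹ = (k : G)⁻¹ * (h * k * h⁻¹) := by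
      have := congrArg Subtype.val (mul_comm (MulAut.conjNormal h k) k⁻¹)
      simpa [MulAut.conjNormal_apply] using this
    rw [hswap] at h4
    rw [MulAut.smul_def, MulAut.conj_apply, inv_inv]
    convert h4 using 1
    group
  · have hc : Nat.card (MulAut.conj (k : G)⁻¹ • H₀ : Subgroup G) = Nat.card H₀ :=
      Nat.card_congr (Subgroup.equivSMul _ H₀).toEquiv.symm
    rw [hc]
    have e0 := h₀.card_mul_card
    have e1 := h₁.card_mul_card
    exact le_of_eq (Nat.eq_of_mul_eq_mul_left (Nat.card_pos (α := K)) (e1.trans e0.symm))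

end Cfsg.Agent.S0052
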