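import Cfsg.Statements.S0053
import Cfsg.Agent.Lib.Basics.Frattini

set_option autoImplicit false
open Cfsg

namespace Cfsg.Agent.S0053

/-- An abelian minimal normal subgroup N of a finite group is complemented exactly when N is not inside the Frattini subgroup. -/
theorem result {G : Type*} [Group G] [Finite G]
    (N : Subgroup G) [N.Normal] [IsMulCommutative N] (hN : N ≠ ⊥)
    (hmin : ∀ M : Subgroup G, M.Normal → M ≤ N → M = ⊥ ∨ M = N) :
    (∃ H : Subgroup G, Subgroup.IsComplement' N H) ↔ ¬ N ≤ frattini G := by
  constructor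
  · rintro ⟨H, hH⟩ hle
    have hHt : H = ⊤ := frattini_nongenerating (by
      rw [eq_top_iff, ← hH.sup_eq_top]
      exact sup_le (hle.trans le_sup_right) le_sup_left)
    rw [hHt, Subgroup.isComplement'_top_right] at hH
    exact hN hH
  · intro hne
    obtain ⟨M, hM, hNM⟩ : ∃ M, IsCoatom M ∧ ¬ N ≤ M := by
      by_contra h
      push Not at h
      exact hne (le_iInf₂ fun M hM => h M hM)
    have hsup := Basics.le_of_not_le_sup_eq_top hM hNM
    have hn : (N ⊓ M).Normal := by
      rw [← Subgroup.normalizer_eq_top_iff, eq_top_iff, ← hsup]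
      refine sup_le (fun h hh => ?_) (fun a ha => ?_)
      · rw [← Basics.conj_smul_eq_self_iff, Subgroup.smul_inf, Subgroup.Normal.conj_smul_eq_self,
          Subgroup.conj_smul_eq_self_of_mem hh]
      · rw [Subgroup.mem_normalizer_iff]
        intro x
        constructor
        · intro hx
          have : a * x = x * a :=
            congrArg Subtype.val (IsMulCommutative.is_comm.comm (⟨a, ha⟩ : N) ⟨x, hx.1⟩)
          rwa [this, mul_inv_cancel_right]
        · intro hx
          have hc : a * (a * x * a⁻¹) = (a * x * a⁻¹) * a :=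
            congrArg Subtype.val (IsMulCommutative.is_comm.comm (⟨a, ha⟩ : N) ⟨_, hx.1⟩)
          rw [inv_mul_cancel_right] at hc
          rwa [← mul_left_cancel hc]
    refine ⟨M, Subgroup.isComplement'_of_disjoint_and_mul_eq_univ ?_ ?_⟩
    · rw [disjoint_iff]
      exact (hmin _ hn inf_le_left).resolve_right fun h => hNM (h ▸ inf_le_right)
    · rw [← Subgroup.normal_mul N M, sup_comm, hsup, Subgroup.coe_top]

end Cfsg.Agent.S0053
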