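import Cfsg.Statements.S0054
import Cfsg.Agent.Lib.Basics.Tools

set_option autoImplicit false
open Cfsg

namespace Cfsg.Agent.S0054

open Subgroup

/-- A regular normal subgroup of a finite 2-transitive group is elementary abelian: it is commutative and all its elements have order dividing one prime. -/
theorem result {G : Type*} [Group G] [Finite G]
    {X : Type*} [Nonempty X] [MulAction G X] (h2 : MulAction.IsMultiplyPretransitive G X 2)
    (N : Subgroup G) [N.Normal] (htrans : MulAction.IsPretransitive N X) (hreg : ∀ x : X, MulAction.stabilizer N x = ⊥) :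
    IsMulCommutative N ∧ ∃ p : ℕ, p.Prime ∧ ∀ n ∈ N, n ^ p = 1 := by
  classical
  obtain ⟨x0⟩ := (inferInstance : Nonempty X)
  haveI := htrans
  have hbij : Function.Bijective (fun n : N => n • x0) := by
    refine ⟨fun a b e => ?_, fun y => MulAction.exists_smul_eq N x0 y⟩
    have h1 : b⁻¹ * a ∈ MulAction.stabilizer N x0 := by
      rw [MulAction.mem_stabilizer_iff, mul_smul]
      exact inv_smul_eq_iff.mpr e
    rw [hreg, mem_bot, inv_mul_eq_one] at h1
    exact h1.symm
  haveI := h2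
  rcases subsingleton_or_nontrivial N with hs | hnt
  · exact ⟨⟨⟨fun a b => Subsingleton.elim _ _⟩⟩, 2, Nat.prime_two, fun n hn => by
      rw [show n = 1 from congrArg Subtype.val (Subsingleton.elim (⟨n, hn⟩ : N) 1), one_pow]⟩
  -- conjugation is transitive on the nonidentity elements
  have hconj : ∀ a b : N, a ≠ 1 → b ≠ 1 → ∃ g : G, g * (a : G) * g⁻¹ = b := by
    intro a b ha hb
    have hne : ∀ n : N, n ≠ 1 → (n : G) • x0 ≠ x0 := fun n hn e =>
      hn (hbij.1 (show n • x0 = (1 : N) • x0 by rw [one_smul]; exact e))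
    obtain ⟨g, hg0, hga⟩ := (MulAction.is_two_pretransitive_iff.mp h2)
      (hne a ha).symm (hne b hb).symm
    refine ⟨g, congrArg Subtype.val (hbij.1 (a₁ := (⟨g * a * g⁻¹, (inferInstance : N.Normal).conj_mem _ a.2 g⟩ : N)) (a₂ := b) ?_)⟩
    show (g * (a : G) * g⁻¹) • x0 = (b : G) • x0
    have hg0' : g⁻¹ • x0 = x0 := inv_smul_eq_iff.mpr hg0.symm
    rw [mul_smul, mul_smul, hg0', hga]
  obtain ⟨p, hp, hpd⟩ := Nat.exists_prime_and_dvd (Finite.one_lt_card (α := N)).ne'
  haveI := Fact.mk hp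
  obtain ⟨z, hz⟩ := exists_prime_orderOf_dvd_card' (G := N) p hpd
  have hz1 : z ≠ 1 := fun e => hp.one_lt.ne (by rw [← hz, e, orderOf_one])
  have hexp : ∀ n : N, n ^ p = 1 := by
    intro n
    rcases eq_or_ne n 1 with rfl | hn
    · exact one_pow p
    obtain ⟨g, hg⟩ := hconj z n hz1 hn
    refine Subtype.ext ?_
    rw [Subgroup.coe_pow, ← hg, conj_pow, ← Subgroup.coe_pow, ← hz, pow_orderOf_eq_one,
      Subgroup.coe_one, mul_one, mul_inv_cancel]
  refine ⟨?_, p, hp, fun n hn => congrArg Subtype.val (hexp ⟨n, hn⟩)⟩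
  have hpg : IsPGroup p N := fun n => ⟨1, by rw [pow_one]; exact hexp n⟩
  haveI := hpg.center_nontrivial
  obtain ⟨⟨w, hw⟩, hw1⟩ := exists_ne (1 : center N)
  refine ⟨⟨fun a b => ?_⟩⟩
  rcases eq_or_ne a 1 with rfl | ha
  · rw [one_mul, mul_one]
  obtain ⟨g, hg⟩ := hconj w a (fun e => hw1 (Subtype.ext e)) ha
  have hb' : g⁻¹ * (b : G) * g ∈ N := by
    have := (inferInstance : N.Normal).conj_mem _ b.2 g⁻¹
    rwa [inv_inv] at this
  have h := congrArg Subtype.val (mem_center_iff.mp hw ⟨_, hb'⟩)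
  simp only [Subgroup.coe_mul] at h
  refine Subtype.ext ?_
  simp only [Subgroup.coe_mul]
  calc (a : G) * b = g * ((w : G) * (g⁻¹ * b * g)) * g⁻¹ := by rw [← hg]; group
    _ = g * ((g⁻¹ * b * g) * (w : G)) * g⁻¹ := by rw [h]
    _ = b * a := by rw [← hg]; group

end Cfsg.Agent.S0054
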