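import Cfsg.Statements.S0056
import Cfsg.Agent.Lib.Basics.CoprimeAction

set_option autoImplicit false
open Cfsg

namespace Cfsg.Agent.S0056

/-- A coprime action on an abelian group that fixes all elements of prime order is trivial. -/
theorem result {G : Type*} [Group G] [Finite G] (A V : Subgroup G) [IsMulCommutative V]
    (hAV : A ≤ Subgroup.normalizer (V : Set G)) (hcop : (Nat.card A).Coprime (Nat.card V))
    (hΩ : ∀ v ∈ V, (orderOf v).Prime → ∀ a ∈ A, a * v = v * a) : A ≤ Subgroup.centralizer (V : Set G) := by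
  have h : ⁅V, A⁆ = ⊥ := by
    by_contra hne
    obtain ⟨p, hp, hd⟩ := Nat.exists_prime_and_dvd (mt Subgroup.card_eq_one.mp hne)
    have : Fact p.Prime := ⟨hp⟩
    obtain ⟨v, hv⟩ := exists_prime_orderOf_dvd_card' p hd
    have hle : ⁅V, A⁆ ≤ V := Subgroup.le_normalizer_iff_commutator_le_left.mp hAV
    have hv' : orderOf (v : G) = p := by rw [Subgroup.orderOf_coe, hv]
    have hC : (v : G) ∈ Subgroup.centralizer (A : Set G) :=
      Subgroup.mem_centralizer_iff.mpr fun a ha => hΩ v (hle v.2) (hv' ▸ hp) a ha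
    have h1 : (v : G) ∈ (⊥ : Subgroup G) := by
      rw [← Basics.inf_centralizer_inf_commutator_eq_bot A V hAV hcop]
      exact ⟨⟨hle v.2, hC⟩, v.2⟩
    rw [Subgroup.mem_bot] at h1
    rw [h1, orderOf_one] at hv'
    exact hp.ne_one hv'.symm
  rw [Subgroup.commutator_comm] at h
  exact Subgroup.commutator_eq_bot_iff_le_centralizer.mp h

end Cfsg.Agent.S0056
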