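import Cfsg.Statements.S0057
import Cfsg.Agent.Lib.Basics.CoprimeAction
import Mathlib

set_option autoImplicit false
open Cfsg
open scoped commutatorElement

namespace Cfsg.Agent.S0057

open Subgroup

/-- Under coprime action, if the centraliser of A in K has prime index p in K then the commutator subgroup [K, A] has order exactly p. -/
theorem result {G : Type*} [Group G] [Finite G] (A K : Subgroup G) (hAK : A ≤ Subgroup.normalizer (K : Set G))
    (hcop : (Nat.card A).Coprime (Nat.card K)) (hsolv : Group.IsSolvable A ∨ Group.IsSolvable K)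
    (p : ℕ) (hp : p.Prime) (hidx : (K ⊓ Subgroup.centralizer (A : Set G)).relIndex K = p) :
    Nat.card (⁅K, A⁆ : Subgroup G) = p := by
  haveI := Fact.mk hp
  set C := K ⊓ Subgroup.centralizer (A : Set G) with hC
  have hCK : C ≤ K := inf_le_left
  have hcardK : Nat.card C * p = Nat.card K := by
    rw [← hidx, ← Basics.card_subgroupOf hCK]
    exact Subgroup.card_mul_index _
  obtain ⟨P, hP, hAP⟩ := Basics.exists_invariant_isSylowIn A K hAK hcop hsolv p
  have hPp : IsPGroup p P := hP.isPGroup
  -- relative indices inside `p`-subgroups of `K`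
  have hstep : ∀ X : Subgroup G, X ≤ K → IsPGroup p X → ¬ X ≤ C → C.relIndex X = p := by
    intro X hX hXp hne
    obtain ⟨j, hj⟩ := hXp.exists_card_eq
    obtain ⟨i, -, hi⟩ := (Nat.dvd_prime_pow hp).mp (hj ▸ Subgroup.relIndex_dvd_card C X)
    have hle : C.relIndex X ≤ p := hidx ▸ Subgroup.relIndex_le_of_le_right hX (hidx ▸ hp.ne_zero)
    have hne1 : C.relIndex X ≠ 1 := fun e => hne (Subgroup.relIndex_eq_one.mp e)
    rw [hi] at hle hne1 ⊢
    rcases i with _ | _ | i
    · simp at hne1
    · simp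
    · exfalso
      have : p ^ 2 ≤ p ^ (i + 2) := Nat.pow_le_pow_right hp.pos (by omega)
      have := hp.two_le
      nlinarith
  have hPC : ¬ P ≤ C := fun hle => by
    have h1 : p ^ (Nat.card K).factorization p ∣ Nat.card C := hP.2 ▸ Subgroup.card_dvd_of_le hle
    have h2 := (Nat.Prime.pow_dvd_iff_le_factorization hp Nat.card_pos.ne').mp h1
    rw [← hcardK, Nat.factorization_mul Nat.card_pos.ne' hp.ne_zero, Finsupp.add_apply,
      hp.factorization_self] at h2
    omega
  have hdec : ∀ k ∈ K, ∃ x ∈ P, ∃ c ∈ C, k = x * c := by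
    intro k hk
    have hbij : Function.Bijective (Subgroup.quotientSubgroupOfEmbeddingOfLE C hP.1) := by
      rw [Nat.bijective_iff_injective_and_card]
      exact ⟨(Subgroup.quotientSubgroupOfEmbeddingOfLE C hP.1).injective,
        (hstep P hP.1 hPp hPC).trans hidx.symm⟩
    obtain ⟨x', hx⟩ := hbij.2 (QuotientGroup.mk (⟨k, hk⟩ : K))
    induction x' using QuotientGroup.induction_on with
    | H x =>
      rw [Subgroup.quotientSubgroupOfEmbeddingOfLE_apply_mk] at hx
      have h3 := (QuotientGroup.eq (s := C.subgroupOf K)).mp hx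
      exact ⟨x, x.2, (x : G)⁻¹ * k, h3, by group⟩
  have hKP : ⁅K, A⁆ = ⁅P, A⁆ := by
    refine le_antisymm (Subgroup.commutator_le.mpr fun k hk a ha => ?_) (Subgroup.commutator_mono hP.1 le_rfl)
    obtain ⟨x, hx, c, hc, rfl⟩ := hdec k hk
    have hca : a * c = c * a := Subgroup.mem_centralizer_iff.mp hc.2 a ha
    have : ⁅x * c, a⁆ = ⁅x, a⁆ := by
      simp only [commutatorElement_def, mul_inv_rev]
      calc x * c * a * (c⁻¹ * x⁻¹) * a⁻¹ = x * (c * a) * c⁻¹ * x⁻¹ * a⁻¹ := by group
      _ = x * (a * c) * c⁻¹ * x⁻¹ * a⁻¹ := by rw [hca]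
      _ = x * a * x⁻¹ * a⁻¹ := by group
    rw [this]
    exact Subgroup.commutator_mem_commutator hx ha
  set D := ⁅K, A⁆ with hD
  have hDP : D ≤ P := hKP ▸ Subgroup.le_normalizer_iff_commutator_le_left.mp hAP
  have hDA : A ≤ normalizer (D : Set G) := Subgroup.normalizer_commutator_ge_right _ _
  have hcopD : (Nat.card A).Coprime (Nat.card D) :=
    hcop.coprime_dvd_right (Subgroup.card_dvd_of_le (hDP.trans hP.1))
  have hDD : ⁅D, A⁆ = D := Basics.commutator_commutator_eq A K hAK hcop hsolv
  set CD := D ⊓ C with hCD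
  have hne : ¬ D ≤ C := fun hle => by
    have h0 : ⁅D, A⁆ = ⊥ := Subgroup.commutator_eq_bot_iff_le_centralizer.mpr (hle.trans inf_le_right)
    rw [hDD] at h0
    have h1 : K ≤ Subgroup.centralizer (A : Set G) := Subgroup.commutator_eq_bot_iff_le_centralizer.mp h0
    have h2 : C.relIndex K = 1 := Subgroup.relIndex_eq_one.mpr (le_inf le_rfl h1)
    exact hp.one_lt.ne (h2.symm.trans hidx)
  have hDp : IsPGroup p D := hPp.to_le hDP
  have hCDidx : CD.relIndex D = p := by
    rw [hCD, inf_comm, Subgroup.inf_relIndex_right]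
    exact hstep D (hDP.trans hP.1) hDp hne
  haveI hCDn : (CD.subgroupOf D).Normal := by
    refine Subgroup.normal_of_index_eq_minFac_card ?_
    show CD.relIndex D = _
    obtain ⟨j, hj⟩ := hDp.exists_card_eq
    have hj0 : j ≠ 0 := fun e => by
      have := Subgroup.relIndex_dvd_card CD D
      rw [hCDidx, hj, e, pow_zero] at this
      exact hp.not_dvd_one this
    rw [hCDidx, hj, hp.pow_minFac hj0]
  have hcentral : ⁅D, CD⁆ = ⊥ := by
    have hA0 : ⁅A, CD⁆ = ⊥ := by
      rw [Subgroup.commutator_comm]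
      exact Subgroup.commutator_eq_bot_iff_le_centralizer.mpr (inf_le_right.trans inf_le_right)
    have h1 : ⁅⁅A, CD⁆, D⁆ = ⊥ := by rw [hA0, Subgroup.commutator_bot_left]
    have h2 : ⁅⁅CD, D⁆, A⁆ = ⊥ := by
      have hle : ⁅CD, D⁆ ≤ CD := Subgroup.le_normalizer_iff_commutator_le_left.mp
        (Subgroup.le_normalizer_of_normal_subgroupOf inf_le_left)
      exact Subgroup.commutator_eq_bot_iff_le_centralizer.mpr (hle.trans (inf_le_right.trans inf_le_right))
    have h3 := Subgroup.commutator_commutator_eq_bot_of_rotate h1 h2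
    rwa [hDD] at h3
  haveI : IsCyclic (D ⧸ CD.subgroupOf D) := by
    refine isCyclic_of_prime_card (p := p) ?_
    rw [← Subgroup.index_eq_card]; exact hCDidx
  have hker : (QuotientGroup.mk' (CD.subgroupOf D)).ker ≤ center D := by
    intro x hx
    rw [QuotientGroup.ker_mk'] at hx
    refine mem_center_iff.mpr fun y => Subtype.ext ?_
    have h1 : ⁅(y : G), (x : G)⁆ ∈ ⁅D, CD⁆ := Subgroup.commutator_mem_commutator y.2 hx
    rw [hcentral, mem_bot, commutatorElement_eq_one_iff_mul_comm] at h1
    exact h1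
  haveI : IsMulCommutative D :=
    ⟨⟨fun a b => commutative_of_cyclic_center_quotient (QuotientGroup.mk' (CD.subgroupOf D)) hker a b⟩⟩
  have hinf := Basics.inf_centralizer_inf_commutator_eq_bot A D hDA hcopD
  rw [hDD] at hinf
  have hCD0 : CD = ⊥ := by
    rw [eq_bot_iff, ← hinf]
    exact le_inf (le_inf inf_le_left (inf_le_right.trans inf_le_right)) inf_le_left
  rw [hCD0, Subgroup.relIndex_bot_left] at hCDidx
  exact hCDidx

end Cfsg.Agent.S0057
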