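import Cfsg.Statements.S0060
import Cfsg.Agent.Lib.Basics.Cores

set_option autoImplicit false
open Pointwise
open Cfsg

namespace Cfsg.Agent.S0060

theorem card_inf_conj {G : Type*} [Group G] [Finite G] {p : ℕ} [Fact p.Prime] (S : Sylow p G) (a : G) (R : Sylow p G) :
    ∃ g : G, Nat.card ((R : Subgroup G) ⊓ MulAut.conj a • (S : Subgroup G) : Subgroup G) =
      Nat.card ((S : Subgroup G) ⊓ MulAut.conj g • (S : Subgroup G) : Subgroup G) := by
  obtain ⟨r, rfl⟩ := MulAction.exists_smul_eq G S R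
  refine ⟨r⁻¹ * a, ?_⟩
  rw [Sylow.coe_subgroup_smul, ← Basics.card_conj_smul r⁻¹, Subgroup.smul_inf, ← mul_smul, ← mul_smul,
    ← map_mul, ← map_mul, inv_mul_cancel, map_one, one_smul]

/-- Brodkey's Theorem: in a finite group with abelian Sylow p-subgroups and no nontrivial normal p-subgroup, some conjugate of a Sylow p-subgroup meets it trivially. -/
theorem result {G : Type*} [Group G] [Finite G] (p : ℕ) [Fact p.Prime]
    (S : Sylow p G) (hS : IsMulCommutative S) (hOp : Cfsg.pCore p G = ⊥) :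
    ∃ g : G, (S : Subgroup G) ⊓ MulAut.conj g • (S : Subgroup G) = ⊥ := by
  classical
  set f := fun g : G => Nat.card ((S : Subgroup G) ⊓ MulAut.conj g • (S : Subgroup G) : Subgroup G)
  obtain ⟨g, hg⟩ := Finite.exists_min f
  refine ⟨g, ?_⟩
  set T := MulAut.conj g • (S : Subgroup G) with hT
  set D := (S : Subgroup G) ⊓ T with hD
  rw [eq_bot_iff, ← hOp, Basics.pCore_eq_iInf_sylow]
  refine le_iInf fun R => ?_
  set C := Subgroup.centralizer (D : Set G)
  have hSC : (S : Subgroup G) ≤ C := fun s hs => Subgroup.mem_centralizer_iff.mpr fun d hd =>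
    congrArg Subtype.val (hS.is_comm.comm (⟨d, hd.1⟩ : (S : Subgroup G)) ⟨s, hs⟩)
  have hTC : T ≤ C := by
    rintro _ ⟨s, hs, rfl⟩
    refine Subgroup.mem_centralizer_iff.mpr fun d hd => ?_
    obtain ⟨d', hd', rfl⟩ := hd.2
    show g * d' * g⁻¹ * (g * s * g⁻¹) = g * s * g⁻¹ * (g * d' * g⁻¹)
    have e : d' * s = s * d' := congrArg Subtype.val (hS.is_comm.comm (⟨d', hd'⟩ : (S : Subgroup G)) ⟨s, hs⟩)
    rw [show g * d' * g⁻¹ * (g * s * g⁻¹) = g * (d' * s) * g⁻¹ by group, e]; group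
  -- move `R ⊓ C` into `S`
  have hRp : IsPGroup p ((R : Subgroup G).subgroupOf C) := R.2.comap_of_injective C.subtype C.subtype_injective
  obtain ⟨Q, hQ⟩ := hRp.exists_le_sylow
  obtain ⟨c, hc⟩ := MulAction.exists_smul_eq C Q (S.subtype hSC)
  have hkey : ∀ y ∈ (R : Subgroup G), y ∈ C → (c : G) * y * (c : G)⁻¹ ∈ (S : Subgroup G) := by
    intro y hy hyC
    have h1 : (⟨y, hyC⟩ : C) ∈ (Q : Subgroup C) := hQ hy
    have h2 : c * ⟨y, hyC⟩ * c⁻¹ ∈ ((S.subtype hSC : Sylow p C) : Subgroup C) := by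
      rw [← hc, Sylow.coe_subgroup_smul]
      exact ⟨_, h1, rfl⟩
    exact h2
  set R' : Sylow p G := (c : G) • R
  have hle : (R' : Subgroup G) ⊓ T ≤ D := by
    rintro z ⟨hz, hzT⟩
    refine ⟨?_, hzT⟩
    rw [SetLike.mem_coe, Sylow.coe_subgroup_smul] at hz
    obtain ⟨y, hy, rfl⟩ := hz
    refine hkey y hy ?_
    have hzC : (c : G) * y * (c : G)⁻¹ ∈ C := hTC hzT
    simpa [mul_assoc] using C.mul_mem (C.mul_mem (C.inv_mem c.2) hzC) c.2
  obtain ⟨g', hg'⟩ := card_inf_conj S g R'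
  have heq : (R' : Subgroup G) ⊓ T = D :=
    Subgroup.eq_of_le_of_card_ge hle (le_of_le_of_eq (hg g') hg'.symm)
  intro d hd
  have hdR : d ∈ (R' : Subgroup G) := (heq.ge hd).1
  rw [Sylow.coe_subgroup_smul] at hdR
  obtain ⟨y, hy, e⟩ := hdR
  change (c : G) * y * (c : G)⁻¹ = d at e
  have hcd := Subgroup.mem_centralizer_iff.mp c.2 d hd
  have : y = d := by
    rw [show y = (c : G)⁻¹ * ((c : G) * y * (c : G)⁻¹) * c by group, e, mul_assoc, hcd]; group
  exact this ▸ hy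

end Cfsg.Agent.S0060
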