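import Cfsg.Statements.S0063
import Cfsg.Agent.Lib.Basics.Tools

set_option autoImplicit false
open Cfsg

namespace Cfsg.Agent.S0063

theorem cls.{v} (p : ℕ) (hp : p.Prime) : ∀ (m : ℕ) (G : Type v) [Group G] [Finite G],
    Nat.card G = p ^ m → Group.nilpotencyClass G ≤ max 1 (m - 1) := by
  intro m
  induction m using Nat.strong_induction_on with
  | _ m ih =>
    intro G _ _ hG
    haveI : Fact p.Prime := ⟨hp⟩
    haveI : Group.IsNilpotent G := (IsPGroup.of_card hG).isNilpotent
    by_cases hcomm : Subgroup.center G = ⊤
    · have : Subsingleton (G ⧸ Subgroup.center G) := by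
        rw [hcomm]; exact QuotientGroup.subsingleton_quotient_top
      rcases subsingleton_or_nontrivial G with hs | hn
      · rw [nilpotencyClass_zero_iff_subsingleton.mpr hs]; exact Nat.zero_le _
      · rw [nilpotencyClass_eq_quotient_center_plus_one, nilpotencyClass_zero_iff_subsingleton.mpr this]
        exact le_max_left _ _
    · haveI : Nontrivial G := by
        by_contra h
        rw [not_nontrivial_iff_subsingleton] at h
        exact hcomm (Subsingleton.elim _ _)
      obtain ⟨j, hj⟩ := IsPGroup.iff_card.mp ((IsPGroup.of_card hG).to_quotient (Subgroup.center G))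
      have hlt : p ^ j < p ^ m := by
        rw [← hj, ← hG]
        exact Basics.card_quotient_lt (Group.IsNilpotent.center_ne_bot _)
      have hjm := (Nat.pow_lt_pow_iff_right hp.one_lt).mp hlt
      have hj0 : j ≠ 0 := by
        rintro rfl
        rw [pow_zero, ← Subgroup.index_eq_card, Subgroup.index_eq_one] at hj
        exact hcomm hj
      have hj1 : j ≠ 1 := by
        rintro rfl
        rw [pow_one] at hj
        have := isCyclic_of_prime_card hj
        apply hcomm
        rw [← commutator_eq_bot_iff_center_eq_top, commutator_eq_bot_iff]
        exact (QuotientGroup.mk' (Subgroup.center G)).isMulCommutative_of_isCyclic_of_ker_le_center (by rw [QuotientGroup.ker_mk'])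
      have h := ih j hjm (G ⧸ Subgroup.center G) hj
      rw [nilpotencyClass_eq_quotient_center_plus_one]
      omega

/-- A finite group of prime-power order p ^ m with m > 1 is nilpotent of class at most m - 1. -/
theorem result {G : Type*} [Group G] [Finite G] (p m : ℕ) [Fact p.Prime]
    (hG : Nat.card G = p ^ m) (hm : 1 < m) : Group.nilpotencyClass G ≤ m - 1 := by
  have h := cls p (Fact.out : p.Prime) m G hG
  omega

end Cfsg.Agent.S0063
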