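import Cfsg.Statements.S0064
import Cfsg.Agent.Lib.Basics.Frattini

set_option autoImplicit false
open Cfsg

namespace Cfsg.Agent.S0064

/-- A finite group is nilpotent exactly when each of its subgroups is subnormal. -/
theorem result {G : Type*} [Group G] [Finite G] :
    Group.IsNilpotent G ↔ ∀ H : Subgroup G, H.IsSubnormal := by
  constructor
  · intro h H
    have key := Group.normalizerCondition_of_isNilpotent (h := h)
    induction H using WellFoundedGT.induction with
    | _ H ih =>
      rcases eq_or_ne H ⊤ with rfl | hne
      · exact Subgroup.IsSubnormal.top
      · exact Subgroup.IsSubnormal.step H _ Subgroup.le_normalizer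
          (ih _ (key H hne.lt_top)) Subgroup.normal_in_normalizer
  · intro h
    refine ((Group.isNilpotent_of_finite_tfae (G := G)).out 0 2 :).mpr ?_
    suffices key : ∀ M : Subgroup G, M.IsSubnormal → IsCoatom M → M.Normal from
      fun M hM => key M (h M) hM
    intro M hsn
    induction hsn with
    | top => exact fun hM => absurd rfl hM.1
    | step H K hle hK hn ih =>
      intro hM
      rcases eq_or_lt_of_le hle with he | hlt
      · subst he
        exact ih hM
      · rw [hM.2 K hlt, Subgroup.normal_subgroupOf_iff_le_normalizer le_top, top_le_iff,
          Subgroup.normalizer_eq_top_iff] at hn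
        exact hn

end Cfsg.Agent.S0064
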