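import Cfsg.Statements.S0067
import Cfsg.Agent.Lib.FGS.Subnormal
import Cfsg.Agent.Lib.OddLocal.FitFacts
import Cfsg.Agent.Lib.Components.Fitting

set_option autoImplicit false
open Pointwise
open Cfsg
open scoped Pointwise
set_option linter.all false

namespace Cfsg.Agent.S0067

/-- If the join of a subgroup A with each of its conjugates is nilpotent, then A is subnormal in the finite group and contained in the Fitting subgroup. -/
theorem result {G : Type*} [Group G] [Finite G] (A : Subgroup G)
    (h : ∀ g : G, Group.IsNilpotent (A ⊔ MulAut.conj g • A : Subgroup G)) : A.IsSubnormal ∧ A ≤ Cfsg.fittingSubgroup G := by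
  have hsn : A.IsSubnormal := FGS.Subn.sn_top.1 (FGS.Subn.sn_of_conj_conj A (fun a _ g => by
    haveI := h (g⁻¹ * a * g)
    exact ⟨le_sup_left, OddLocal.isSubnormal_of_isNilpotent _⟩) ⊤ le_top)
  have hA : Group.IsNilpotent A := by
    have h1 := h 1
    haveI := h1
    exact Group.nilpotent_of_mulEquiv (Subgroup.subgroupOfEquivOfLe (le_sup_left : A ≤ A ⊔ MulAut.conj (1 : G) • A))
  exact ⟨hsn, Components.nilpotent_subnormal_le_fitting hsn hA⟩

end Cfsg.Agent.S0067
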