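import Cfsg.Statements.S0068
import Cfsg.Agent.Lib.Basics.FpfAbelian

set_option autoImplicit false
open Cfsg

namespace Cfsg.Agent.S0068

/-- Frobenius complements of even order: if H complements a nontrivial normal subgroup K, each nonidentity element of H has trivial centraliser in K, and H has even order, then H contains a unique involution s, K is abelian, and s inverts every element of K. -/
theorem result {G : Type*} [Group G] [Finite G] (K H : Subgroup G) [K.Normal]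
    (hc : Subgroup.IsComplement' K H) (hK : K ≠ ⊥) (hfpf : ∀ h ∈ H, h ≠ 1 → K ⊓ Subgroup.centralizer {h} = ⊥)
    (heven : 2 ∣ Nat.card H) :
    (∃ s ∈ H, orderOf s = 2 ∧ (∀ t ∈ H, orderOf t = 2 → t = s) ∧ ∀ k ∈ K, s * k * s⁻¹ = k⁻¹) ∧ IsMulCommutative K := by
  have inj : ∀ s ∈ H, s ≠ 1 → s * s = 1 → ∀ k ∈ K, s * k * s⁻¹ = k⁻¹ := by
    intro s hs hs1 hss k hk
    let f : K → K := fun x => ⟨(x : G)⁻¹ * (s * x * s⁻¹),
      mul_mem (inv_mem x.2) ((inferInstance : K.Normal).conj_mem _ x.2 s)⟩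
    have hf : Function.Injective f := by
      intro x y hxy
      have h : (x : G)⁻¹ * (s * x * s⁻¹) = (y : G)⁻¹ * (s * y * s⁻¹) := congrArg Subtype.val hxy
      have hm : (y : G) * (x : G)⁻¹ ∈ K ⊓ Subgroup.centralizer {s} := by
        refine Subgroup.mem_inf.mpr
          ⟨mul_mem y.2 (inv_mem x.2), Subgroup.mem_centralizer_singleton_iff.mpr ?_⟩
        calc (y : G) * (x : G)⁻¹ * s
            = (y : G) * ((x : G)⁻¹ * (s * x * s⁻¹)) * (s * (x : G)⁻¹) := by group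
          _ = (y : G) * ((y : G)⁻¹ * (s * y * s⁻¹)) * (s * (x : G)⁻¹) := by rw [h]
          _ = s * ((y : G) * (x : G)⁻¹) := by group
      rw [hfpf s hs hs1, Subgroup.mem_bot, mul_inv_eq_one] at hm
      exact Subtype.ext hm.symm
    obtain ⟨⟨x, hx⟩, hfx⟩ := (Finite.injective_iff_surjective.mp hf) ⟨k, hk⟩
    have h : x⁻¹ * (s * x * s⁻¹) = k := congrArg Subtype.val hfx
    have hsi : s⁻¹ = s := inv_eq_of_mul_eq_one_left hss
    rw [hsi] at h ⊢
    rw [← h]
    calc s * (x⁻¹ * (s * x * s)) * s = (s * x⁻¹ * s) * x * (s * s) := by group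
      _ = (s⁻¹ * x⁻¹ * s⁻¹) * x := by rw [hss, hsi, mul_one]
      _ = (x⁻¹ * (s * x * s))⁻¹ := by group
  have : Fact (Nat.Prime 2) := ⟨Nat.prime_two⟩
  obtain ⟨s, hs⟩ := exists_prime_orderOf_dvd_card' (G := H) 2 heven
  rw [← Subgroup.orderOf_coe] at hs
  have basic : ∀ t : G, orderOf t = 2 → t ≠ 1 ∧ t * t = 1 := fun t ht =>
    ⟨fun h => by rw [h, orderOf_one] at ht; omega,
      by rw [← sq, ← ht]; exact pow_orderOf_eq_one t⟩
  obtain ⟨hs1, hss⟩ := basic _ hs
  have hinv := inj _ s.2 hs1 hss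
  refine ⟨⟨s, s.2, hs, fun t ht ho => ?_, hinv⟩, ⟨⟨fun a b => Subtype.ext ?_⟩⟩⟩
  · obtain ⟨ht1, htt⟩ := basic _ ho
    by_contra hne
    obtain ⟨k, hk, hk1⟩ := (Subgroup.bot_or_exists_ne_one K).resolve_left hK
    refine hk1 ?_
    have hne' : (s : G)⁻¹ * t ≠ 1 := fun h => hne (inv_mul_eq_one.mp h).symm
    have hm : k ∈ K ⊓ Subgroup.centralizer {(s : G)⁻¹ * t} := by
      refine Subgroup.mem_inf.mpr ⟨hk, Subgroup.mem_centralizer_singleton_iff.mpr ?_⟩
      have h1 : t * k * t⁻¹ = (s : G) * k * (s : G)⁻¹ := by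
        rw [inj t ht ht1 htt k hk, hinv k hk]
      calc k * ((s : G)⁻¹ * t) = (s : G)⁻¹ * ((s : G) * k * (s : G)⁻¹) * t := by group
        _ = (s : G)⁻¹ * (t * k * t⁻¹) * t := by rw [h1]
        _ = (s : G)⁻¹ * t * k := by group
    rwa [hfpf _ (mul_mem (inv_mem s.2) ht) hne', Subgroup.mem_bot] at hm
  · show (a : G) * b = b * a
    have h := hinv _ (mul_mem a.2 b.2)
    rw [mul_inv_rev, ← hinv _ b.2, ← hinv _ a.2] at h
    have h2 : (s : G) * ((a : G) * b) * (s : G)⁻¹ = (s : G) * ((b : G) * a) * (s : G)⁻¹ := by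
      rw [h]; group
    exact mul_left_cancel (mul_right_cancel h2)

end Cfsg.Agent.S0068
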