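import Cfsg.Statements.S0069
import Cfsg.Agent.Lib.Basics.FpfAbelian
import Cfsg.Agent.S0068

set_option autoImplicit false
open Cfsg

namespace Cfsg.Agent.S0069

/-- A Frobenius complement has nontrivial centre: if H ≠ 1 complements a nontrivial normal subgroup K and every nonidentity element of H has trivial centraliser in K, then the centre of H is nontrivial. -/
theorem result {G : Type*} [Group G] [Finite G] (K H : Subgroup G) [K.Normal]
    (hc : Subgroup.IsComplement' K H) (hK : K ≠ ⊥) (hH : H ≠ ⊥) (hfpf : ∀ h ∈ H, h ≠ 1 → K ⊓ Subgroup.centralizer {h} = ⊥) :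
    Subgroup.center H ≠ ⊥ := by
  intro hcenter
  by_cases heven : 2 ∣ Nat.card H
  · obtain ⟨⟨s, hs, hso, huniq, -⟩, -⟩ := S0068.result K H hc hK hfpf heven
    have : (⟨s, hs⟩ : H) ∈ Subgroup.center H := Subgroup.mem_center_iff.mpr fun h => by
      have h2 : (h : G) * s * (h : G)⁻¹ = s := huniq _ (mul_mem (mul_mem h.2 hs) (inv_mem h.2)) (by
        rw [← hso]
        exact orderOf_injective (MulAut.conj (h : G)).toMonoidHom (MulEquiv.injective _) s)
      exact Subtype.ext (mul_inv_eq_iff_eq_mul.mp h2)
    rw [hcenter, Subgroup.mem_bot] at this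
    rw [show s = 1 from congrArg Subtype.val this, orderOf_one] at hso
    omega
  obtain ⟨V, -, hV, hVc, hVn, hVf⟩ := Cfsg.Agent.Basics.exists_abelian_fpf K H hK hH hfpf
  have hodd : ∀ q : ℕ, q.Prime → q ∣ Nat.card H → q ≠ 2 := fun q _ h e => heven (e ▸ h)
  have hcyc : ∀ (q : ℕ) (_ : Fact q.Prime) (Q : Sylow q H), IsCyclic Q := by
    intro q _ Q
    rcases Cfsg.Agent.Basics.fpf_sylow_cyclic_or_quaternion K H hK hfpf q Q with h | ⟨hq2, -⟩
    · exact h
    · subst hq2
      have : Subsingleton (Q : Subgroup H) := by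
        refine Finite.card_le_one_iff_subsingleton.mp ?_
        rw [Q.card_eq_multiplicity, Nat.factorization_eq_zero_of_not_dvd heven, pow_zero]
      exact isCyclic_of_subsingleton
  have hH1 : Nat.card H ≠ 1 := fun h => hH (H.eq_bot_of_card_eq h)
  set p := (Nat.card H).minFac with hp
  have hpp : p.Prime := Nat.minFac_prime hH1
  haveI := Fact.mk hpp
  let P : Sylow p H := default
  haveI := hcyc p inferInstance P
  have hcompl := IsCyclic.isComplement' hp.symm (P := P) (hcyc p inferInstance P)
  set N := (MonoidHom.transferSylow P (IsCyclic.normalizer_le_centralizer hp.symm (hcyc p inferInstance P))).ker with hN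
  have hPN : ¬ p ∣ Nat.card N := by
    rw [← hcompl.index_eq_card]
    exact P.not_dvd_index
  obtain ⟨x, hx⟩ := exists_prime_orderOf_dvd_card' (G := (P : Subgroup H)) p
    (P.dvd_card_of_dvd_card (Nat.minFac_dvd _))
  rw [← Subgroup.orderOf_coe] at hx
  set A : Subgroup H := Subgroup.zpowers (x : H) with hA
  have hcA : Nat.card A = p := by rw [hA, Nat.card_zpowers, hx]
  have hAN : A ≤ Subgroup.normalizer (N : Set H) := Subgroup.le_normalizer_of_normal
  have hcop : (Nat.card A).Coprime (Nat.card N) := by
    rw [hcA]; exact hpp.coprime_iff_not_dvd.mpr hPN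
  haveI : IsCyclic A := isCyclic_of_prime_card hcA
  letI : CommGroup A := IsCyclic.commGroup
  have hdvd : Nat.card H ∣ Nat.card (Subgroup.centralizer {(x : H)} : Subgroup H) := by
    have hPle : (P : Subgroup H) ≤ Subgroup.centralizer {(x : H)} := fun y hy =>
      Subgroup.mem_centralizer_singleton_iff.mpr (by
        have h0 := (IsCyclic.commGroup (α := (P : Subgroup H))).mul_comm ⟨y, hy⟩ x
        exact congrArg Subtype.val h0)
    rw [← hcompl.card_mul_card]
    refine Nat.Coprime.mul_dvd_of_dvd_of_dvd ?_ ?_ (Subgroup.card_dvd_of_le hPle)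
    · rw [P.card_eq_multiplicity]
      exact (hpp.coprime_iff_not_dvd.mpr hPN).symm.pow_right _
    rw [Nat.dvd_iff_prime_pow_dvd_dvd]
    intro q k hq hqk
    haveI := Fact.mk hq
    rcases Nat.eq_zero_or_pos k with rfl | hk
    · simp
    obtain ⟨S, hS, hAS⟩ := Cfsg.Agent.Basics.exists_invariant_isSylowIn A N hAN hcop
      (Or.inl inferInstance) q
    refine dvd_trans ?_ (Subgroup.card_dvd_of_le (H := S) ?_)
    · rw [hS.2, Nat.pow_dvd_pow_iff_le_right hq.one_lt]
      exact (hq.pow_dvd_iff_le_factorization Nat.card_pos.ne').mp hqk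
    obtain ⟨R, hR⟩ := hS.isPGroup.exists_le_sylow
    haveI := hcyc q inferInstance R
    haveI hScyc : IsCyclic S :=
      isCyclic_of_injective (Subgroup.inclusion hR) (Subgroup.inclusion_injective hR)
    letI : CommGroup S := IsCyclic.commGroup
    haveI : IsMulCommutative S := ⟨⟨mul_comm⟩⟩
    have hcop' : (Nat.card A).Coprime (Nat.card S) :=
      hcop.coprime_dvd_right (Subgroup.card_dvd_of_le hS.1)
    have hcomm : ∀ y ∈ S, y ^ q = 1 → y * (x : H) = x * y := by
      intro y hy hyq
      by_cases hy1 : y = 1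
      · simp [hy1]
      have hoy : orderOf y = q := orderOf_eq_prime hyq hy1
      set Y := Subgroup.zpowers y with hY
      have hcY : Nat.card Y = q := by rw [hY, Nat.card_zpowers, hoy]
      have hAy : A ≤ Subgroup.normalizer (Y : Set H) := by
        have key : ∀ a ∈ A, ∀ z ∈ Y, a * z * a⁻¹ ∈ Y := by
          intro a ha z hz
          have hzS : a * z * a⁻¹ ∈ S := (Cfsg.Agent.Basics.conj_mem_iff_of_mem_normalizer
            (hAS ha)).mpr ((Subgroup.zpowers_le.mpr hy) hz)
          by_cases hz1 : z = 1
          · simp [hz1]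
          have hoz : orderOf (a * z * a⁻¹) = q := by
            rw [show a * z * a⁻¹ = (MulAut.conj a).toMonoidHom z from rfl,
              orderOf_injective (MulAut.conj a).toMonoidHom (MulEquiv.injective _)]
            rcases (Nat.dvd_prime hq).mp (hcY ▸ Subgroup.orderOf_dvd_natCard Y hz) with h | h
            · exact absurd (orderOf_eq_one_iff.mp h) hz1
            · exact h
          have h1 : (Subgroup.zpowers (a * z * a⁻¹)).subgroupOf S = Y.subgroupOf S := by
            refine Cfsg.Agent.Basics.cyclic_subgroup_eq_of_card_eq ?_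
            rw [Cfsg.Agent.Basics.card_subgroupOf (Subgroup.zpowers_le.mpr hzS),
              Cfsg.Agent.Basics.card_subgroupOf (Subgroup.zpowers_le.mpr hy), Nat.card_zpowers,
              hoz, hcY]
          have h2 : (⟨a * z * a⁻¹, hzS⟩ : S) ∈ Y.subgroupOf S := by
            rw [← h1, Subgroup.mem_subgroupOf]; exact Subgroup.mem_zpowers _
          rwa [Subgroup.mem_subgroupOf] at h2
        intro a ha
        rw [Subgroup.mem_normalizer_iff]
        refine fun z => ⟨key a ha z, fun hz => ?_⟩
        have := key a⁻¹ (inv_mem ha) _ hz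
        simpa [mul_assoc] using this
      have hpq : p ≠ q := fun e => by
        apply hPN
        rw [e]
        exact (dvd_pow_self q hk.ne').trans hqk
      have hcM : Nat.card (Y ⊔ A : Subgroup H) = q * p := by
        rw [Cfsg.Agent.Basics.card_sup_of_coprime hAy (by
          rw [hcY, hcA]; exact (Nat.coprime_primes hq hpp).mpr hpq.symm), hcY, hcA]
      set M : Subgroup G := (Y ⊔ A).map H.subtype with hM
      have hcM' : Nat.card M = q * p := by
        rw [hM, Subgroup.card_map_of_injective H.subtype_injective, hcM]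
      have hMc : IsMulCommutative M := Cfsg.Agent.Basics.fpf_pq_commutative M V hV
        Subgroup.le_normalizer_of_normal
        (fun m hm => hVf m ((Subgroup.map_subtype_le (K := Y ⊔ A)) hm)) hq hpp hcM'
      have h3 := hMc.is_comm.comm
        ⟨(y : G), y, Subgroup.mem_sup_left (Subgroup.mem_zpowers y), rfl⟩
        ⟨((x : H) : G), (x : H), Subgroup.mem_sup_right (Subgroup.mem_zpowers (x : H)), rfl⟩
      exact Subtype.ext (congrArg Subtype.val h3 :)
    have hbot : ⁅S, A⁆ = ⊥ := by
      by_contra hne
      have hle : ⁅S, A⁆ ≤ S := Subgroup.le_normalizer_iff_commutator_le_left.mp hAS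
      have h1 : Nat.card (⁅S, A⁆ : Subgroup H) ≠ 1 := fun h => hne (Subgroup.eq_bot_of_card_eq _ h)
      obtain ⟨w, hw⟩ := exists_prime_orderOf_dvd_card' (G := (⁅S, A⁆ : Subgroup H)) q
        (((hS.isPGroup.to_le hle).card_eq_or_dvd).resolve_left h1)
      rw [← Subgroup.orderOf_coe] at hw
      have hwS := hle w.2
      have hwc : (w : H) ∈ (S ⊓ Subgroup.centralizer (A : Set H)) ⊓ ⁅S, A⁆ := by
        refine Subgroup.mem_inf.mpr ⟨Subgroup.mem_inf.mpr ⟨hwS,
          Subgroup.mem_centralizer_iff.mpr fun a ha => ?_⟩, w.2⟩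
        obtain ⟨i, rfl⟩ := Subgroup.mem_zpowers_iff.mp ha
        have hc' : Commute (x : H) w := (hcomm _ hwS (by rw [← hw]; exact pow_orderOf_eq_one _)).symm
        exact (hc'.zpow_left i).eq
      rw [Cfsg.Agent.Basics.inf_centralizer_inf_commutator_eq_bot A S hAS hcop',
        Subgroup.mem_bot] at hwc
      rw [hwc, orderOf_one] at hw
      exact hq.one_lt.ne hw
    intro y hy
    rw [Subgroup.mem_centralizer_singleton_iff]
    exact (Subgroup.mem_centralizer_iff.mp
      (Subgroup.commutator_eq_bot_iff_le_centralizer.mp hbot hy) (x : H)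
      (Subgroup.mem_zpowers (x : H))).symm
  have hxc : (x : H) ∈ Subgroup.center H := Subgroup.mem_center_iff.mpr fun g => by
    have h := Subgroup.eq_top_of_card_eq _
      (Nat.dvd_antisymm (Subgroup.card_subgroup_dvd_card _) hdvd)
    exact Subgroup.mem_centralizer_singleton_iff.mp
      (h ▸ Subgroup.mem_top g : g ∈ Subgroup.centralizer {(x : H)})
  rw [hcenter, Subgroup.mem_bot] at hxc
  rw [hxc, orderOf_one] at hx
  exact hpp.one_lt.ne hx

end Cfsg.Agent.S0069
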