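import Cfsg.Statements.S0070
import Cfsg.Agent.Lib.Basics.Frattini

set_option autoImplicit false
open Cfsg

namespace Cfsg.Agent.S0070

/-- The Fitting subgroup commutes with passing to the Frattini quotient: the Fitting subgroup of G modulo its Frattini subgroup is the image of the Fitting subgroup of G. -/
theorem result {G : Type*} [Group G] [Finite G] :
    Cfsg.fittingSubgroup (G ⧸ frattini G) = (Cfsg.fittingSubgroup G).map (QuotientGroup.mk' (frattini G)) := by
  set π := QuotientGroup.mk' (frattini G)
  refine le_antisymm ?_ (Basics.le_fittingSubgroup (hN := Subgroup.Normal.map inferInstance π (QuotientGroup.mk'_surjective _))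
    (Group.nilpotent_of_surjective (π.subgroupMap _) (π.subgroupMap_surjective _)))
  rw [← Subgroup.map_comap_eq_self_of_surjective (QuotientGroup.mk'_surjective (frattini G))
    (Cfsg.fittingSubgroup (G ⧸ frattini G))]
  refine Subgroup.map_mono (Basics.le_fittingSubgroup ?_)
  refine Basics.isNilpotent_of_map_quotient _ (frattini G) le_rfl ?_
  rw [Subgroup.map_comap_eq_self_of_surjective (QuotientGroup.mk'_surjective (frattini G))]
  exact Basics.fittingSubgroup_isNilpotent

end Cfsg.Agent.S0070
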