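import Cfsg.Statements.S0072
import Cfsg.Agent.Lib.Transfer.Fusion

set_option autoImplicit false
open Cfsg

namespace Cfsg.Agent.S0072

open Subgroup Cfsg.Agent.Transfer
open scoped commutatorElement Pointwise


/-- A finite group has a normal p-complement if and only if every p-local subgroup (normalizer of a nontrivial p-subgroup) has one. -/
theorem result {G : Type*} [Group G] [Finite G] (p : ℕ) [Fact p.Prime] : Cfsg.HasNormalPComplement p G ↔ ∀ Q : Subgroup G, IsPGroup p Q → Q ≠ ⊥ → Cfsg.HasNormalPComplement p (Subgroup.normalizer (Q : Set G)) := by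
  constructor
  · intro h Q _ _
    exact hasNormalPComplement_subgroup _ h
  · intro h
    refine hasNormalPComplement_of_frobenius fun D hD g hg ho => ?_
    by_cases hD1 : D = ⊥
    · subst hD1
      intro x hx
      obtain rfl : x = 1 := by simpa using hx
      simp
    have h2 := centralizes_of_hasNormalPComplement (h D hD hD1) (D.subgroupOf (normalizer (D : Set G)))
      hD.comap_subtype ⟨g, hg⟩ (mem_normalizer_iff.mpr fun y => mem_normalizer_iff.mp hg y) (by rwa [← Subgroup.orderOf_coe])
    intro x hx
    exact congrArg Subtype.val (h2 ⟨x, le_normalizer hx⟩ hx)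

end Cfsg.Agent.S0072
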