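import Cfsg.Statements.S0073
import Cfsg.Agent.Lib.Transfer.Abelian

set_option autoImplicit false
open Cfsg

namespace Cfsg.Agent.S0073

open Subgroup Cfsg.Agent.Transfer
open scoped commutatorElement Pointwise


/-- For a finite non-abelian simple group, either the cube of the least prime divisor of the order divides the order, or 12 does. -/
theorem result {G : Type*} [Group G] [Finite G] [IsSimpleGroup G] (hG : ∃ x y : G, x * y ≠ y * x) : (Nat.card G).minFac ^ 3 ∣ Nat.card G ∨ 12 ∣ Nat.card G := by
  obtain ⟨x0, y0, hxy⟩ := hG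
  set p := (Nat.card G).minFac with hpdef
  haveI hp : Fact p.Prime := Fact.mk (Nat.minFac_prime (Finite.one_lt_card).ne')
  have hnc : ¬ Cfsg.HasNormalPComplement p G := by
    intro h
    rw [hasNormalPComplement_iff] at h
    rcases Subgroup.Normal.eq_bot_or_eq_top (inferInstance : (Cfsg.pResidual p G).Normal) with hb | ht
    · have hpG : IsPGroup p G := by
        have h2 : IsPGroup p (G ⧸ Cfsg.pResidual p G) := isPGroup_quotient_pResidual
        refine h2.of_injective (QuotientGroup.mk' _) ((MonoidHom.ker_eq_bot_iff _).mp ?_)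
        rw [QuotientGroup.ker_mk', hb]
      haveI : Nontrivial G := inferInstance
      haveI := hpG.center_nontrivial
      rcases Subgroup.Normal.eq_bot_or_eq_top (inferInstance : (center G).Normal) with hz | hz
      · exact (nontrivial_iff_ne_bot _).mp this hz
      · have hx : x0 ∈ center G := by rw [hz]; trivial
        exact hxy ((mem_center_iff.mp hx y0).symm)
    · rw [ht, card_top] at h
      exact h (Nat.minFac_dvd _)
  let P : Sylow p G := default
  obtain ⟨k, hk⟩ := P.2.exists_card_eq
  have hdvd : p ^ k ∣ Nat.card G := hk ▸ card_subgroup_dvd_card _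
  rcases lt_trichotomy k 2 with hlt | rfl | hgt
  · exfalso
    apply hnc
    have hcyc : IsCyclic (P : Subgroup G) := by
      interval_cases k
      · haveI : Subsingleton (P : Subgroup G) := (Nat.card_eq_one_iff_unique.mp (by simpa using hk)).1
        infer_instance
      · exact isCyclic_of_prime_card (p := p) (by simpa using hk)
    exact ⟨P, _, MonoidHom.normal_ker _, IsCyclic.isComplement' hpdef.symm hcyc⟩
  · right
    by_contra h12
    apply hnc
    haveI : IsMulCommutative (P : Subgroup G) := IsPGroup.isMulCommutative_of_card_eq_prime_sq hk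
    refine hasNormalPComplement_of_abelian P fun q hq hqG hqp F hF hmod => h12 ?_
    have hpq : p < q := lt_of_le_of_ne (Nat.minFac_le_of_dvd hq.two_le hqG) hqp.symm
    obtain ⟨i, hi, hFc⟩ := (Nat.dvd_prime_pow hp.out).mp (hk ▸ card_subgroup_dvd_card F)
    have hi2 : i ≠ 2 := fun e => hF (eq_top_of_card_eq F (by rw [hFc, hk, e]))
    rw [hk, hFc] at hmod
    have hle : p ^ i ≤ p ^ 2 := Nat.pow_le_pow_right hp.out.pos hi
    have hdq : q ∣ p ^ 2 - p ^ i := (Nat.modEq_iff_dvd' hle).mp hmod.symm
    have hp2 := hp.out.two_le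
    have hsq : p + 1 ∣ p ^ 2 - 1 := ⟨p - 1, by rw [← Nat.sq_sub_sq]; ⟩
    have hcase : q ∣ p - 1 ∨ q ∣ p + 1 := by
      interval_cases i
      · rw [pow_zero, show p ^ 2 - 1 = (p + 1) * (p - 1) by rw [← Nat.sq_sub_sq]; ] at hdq
        exact (hq.dvd_mul.mp hdq).symm
      · rw [show p ^ 2 - p ^ 1 = p * (p - 1) by rw [Nat.mul_sub, mul_one, pow_two, pow_one]] at hdq
        refine Or.inl ((hq.dvd_mul.mp hdq).resolve_left fun h => ?_)
        have := Nat.le_of_dvd hp.out.pos h
        omega
      · exact absurd rfl hi2
    rcases hcase with h | h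
    · have := Nat.le_of_dvd (by omega) h; omega
    · have hqe : q = p + 1 := by have := Nat.le_of_dvd (by omega) h; omega
      have hp2' : p = 2 := by
        rcases hp.out.eq_two_or_odd' with h2 | h2
        · exact h2
        · exfalso
          have : Even q := hqe ▸ h2.add_one
          have := (Nat.Prime.even_iff hq).mp this
          omega
      subst hqe
      rw [hp2'] at hqG hdvd
      exact Nat.Coprime.mul_dvd_of_dvd_of_dvd (by norm_num) hdvd hqG
  · left
    exact (pow_dvd_pow p hgt).trans hdvd

end Cfsg.Agent.S0073
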