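import Cfsg.Statements.S0075
import Cfsg.Agent.Lib.Transfer.Control

set_option autoImplicit false
open Cfsg

namespace Cfsg.Agent.S0075

open Subgroup Cfsg.Agent.Transfer
open scoped commutatorElement Pointwise


/-- For an abelian Sylow p-subgroup T, its intersection with the subgroup generated by the elements of order prime to p is the commutator of T with its normalizer. -/
theorem result {G : Type*} [Group G] [Finite G] {p : ℕ} [Fact p.Prime] (T : Sylow p G) (hT : IsMulCommutative T) : (T : Subgroup G) ⊓ Cfsg.pResidual p G = ⁅(T : Subgroup G), Subgroup.normalizer (T : Set G)⁆ := by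
  haveI := hT
  have hle : ⁅(T : Subgroup G), normalizer (T : Set G)⁆ ≤ (T : Subgroup G) ⊓ Cfsg.pResidual p G := by
    refine commutator_le.mpr fun t ht n hn => mem_inf.mpr ⟨?_, ?_⟩
    · have := mul_mem ht ((mem_normalizer_iff.mp hn _).mp (inv_mem ht))
      simpa [commutatorElement_def, mul_assoc] using this
    · obtain ⟨a, b, ha, -, hab, ⟨k, hk⟩, hb⟩ := exists_pPart_mul (p := p) n
      have haT : a ∈ (T : Subgroup G) := by
        have hpa : IsPGroup p (zpowers a) :=
          IsPGroup.of_card_dvd_pow (n := k) (by rwa [Nat.card_zpowers])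
        have h1 : zpowers a ≤ zpowers a ⊓ T := by
          rw [← hpa.inf_normalizer_sylow T]
          exact le_inf le_rfl (zpowers_le.mpr (zpowers_le.mpr hn ha))
        exact (h1 (mem_zpowers a)).2
      have hc : a * t = t * a := congrArg Subtype.val (mul_comm' (⟨a, haT⟩ : (T : Subgroup G)) ⟨t, ht⟩)
      have hbR := mem_pResidual_of_coprime hb
      have e : ⁅t, n⁆ = a * (t * b * t⁻¹ * b⁻¹) * a⁻¹ := by
        rw [← hab, commutatorElement_def, ← mul_assoc t, ← hc]; group
      rw [e]
      exact Subgroup.Normal.conj_mem inferInstance _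
        (mul_mem (Subgroup.Normal.conj_mem inferInstance b hbR t) (inv_mem hbR)) a
  refine le_antisymm (inf_pResidual_le_of_fusion T _ hle ?_ ?_) hle
  · exact normalizer_commutator_ge_left (T : Subgroup G) _
  · intro x hx g _ hy
    obtain ⟨n, hn, he⟩ := T.conj_eq_normalizer_conj_of_mem x g hx.1 hy.1
    refine mem_sup_left ?_
    have h := commutator_mem_commutator (inv_mem hx.1 : x⁻¹ ∈ (T : Subgroup G)) (inv_mem hn)
    rw [he]
    simpa [commutatorElement_def, mul_assoc] using h

end Cfsg.Agent.S0075
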