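import Cfsg.Statements.S0076
import Cfsg.Agent.Lib.Transfer.Residual

set_option autoImplicit false
open Cfsg

namespace Cfsg.Agent.S0076

open Subgroup Cfsg.Agent.Transfer
open scoped commutatorElement Pointwise


/-- Two P-invariant subsets of a Sylow p-subgroup P that are conjugate in G are conjugate under the normalizer of P. -/
theorem result {G : Type*} [Group G] [Finite G] {p : ℕ} [Fact p.Prime] (P : Sylow p G) (X Y : Set G) (hXP : X ⊆ P) (hYP : Y ⊆ P) (hX : ∀ x ∈ P, (fun y => x * y * x⁻¹) '' X = X) (hY : ∀ x ∈ P, (fun y => x * y * x⁻¹) '' Y = Y) (g : G) (hg : (fun y => g * y * g⁻¹) '' X = Y) : ∃ n ∈ Subgroup.normalizer (P : Set G), (fun y => n * y * n⁻¹) '' X = Y := by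
  let N : Subgroup G := normalizer Y
  have hYN : ∀ a, (fun y => a * y * a⁻¹) '' Y = Y → a ∈ N := fun a ha => by
    refine mem_normalizer_iff_conj_image_eq.mpr ?_
    exact ha
  have hNY : ∀ a ∈ N, (fun y => a * y * a⁻¹) '' Y = Y := fun a ha => by
    exact mem_normalizer_iff_conj_image_eq.mp ha
  have hPN : (P : Subgroup G) ≤ N := fun a ha => hYN a (hY a ha)
  have hcomp : ∀ (a b : G) (S : Set G), (fun y => a * y * a⁻¹) '' ((fun y => b * y * b⁻¹) '' S) = (fun y => (a * b) * y * (a * b)⁻¹) '' S := by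
    intro a b S
    rw [Set.image_image]
    congr 1
    funext y
    group
  have hgPN : ((g • P : Sylow p G) : Subgroup G) ≤ N := by
    rintro _ ⟨a, ha, rfl⟩
    refine hYN _ ?_
    show (fun y => g * a * g⁻¹ * y * (g * a * g⁻¹)⁻¹) '' Y = Y
    rw [← hg, hcomp, show g * a * g⁻¹ * g = g * a by group, ← hcomp g a, hX a ha]
  obtain ⟨c, hc⟩ := MulAction.exists_smul_eq N ((g • P).subtype hgPN) (P.subtype hPN)
  rw [Sylow.smul_subtype] at hc
  have hc2 := Sylow.subtype_injective hc
  refine ⟨(c : G) * g, ?_, ?_⟩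
  · rw [← Sylow.smul_eq_iff_mem_normalizer, mul_smul]
    exact hc2
  · rw [← hcomp, hg, hNY _ c.2]

end Cfsg.Agent.S0076
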