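import Cfsg.Statements.S0077
import Cfsg.Agent.Lib.Transfer.Control

set_option autoImplicit false
open Cfsg

namespace Cfsg.Agent.S0077

open Subgroup Cfsg.Agent.Transfer
open scoped commutatorElement Pointwise


/-- If a subgroup Z of the centre of a Sylow p-subgroup P is weakly closed in P, then P meets the derived subgroup of G exactly where it meets the derived subgroup of the normalizer of Z. -/
theorem result {G : Type*} [Group G] [Finite G] {p : ℕ} [Fact p.Prime] (P : Sylow p G) (Z : Subgroup G) (hZ : Z ≤ Subgroup.centralizer (P : Set G)) (hW : Cfsg.IsWeaklyClosed Z P) : commutator G ⊓ (P : Subgroup G) = ⁅Subgroup.normalizer (Z : Set G), Subgroup.normalizer (Z : Set G)⁆ ⊓ (P : Subgroup G) := by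
  refine commutator_inf_eq_of_control P _ ?_ (fun x hx g hg => control_of_weaklyClosed P Z hZ hW x hx g hg)
  intro x hx
  refine mem_normalizer_iff.mpr fun z => ⟨fun hz => ?_, fun hz => ?_⟩
  · rwa [hZ hz x hx, mul_inv_cancel_right]
  · have := hZ hz x hx
    have e : z = x * z * x⁻¹ := by
      have h2 := congrArg (fun w => x⁻¹ * w) this
      have h3 : x * (z * x⁻¹) = z := by simpa [mul_assoc] using h2
      rw [mul_assoc, h3]
    rwa [e]

end Cfsg.Agent.S0077
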