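import Cfsg.Statements.S0078
import Cfsg.Agent.Lib.Transfer.Control

set_option autoImplicit false
open Cfsg

namespace Cfsg.Agent.S0078

open Subgroup Cfsg.Agent.Transfer
open scoped commutatorElement Pointwise


/-- In a p-normal group, a Sylow p-subgroup P meets O^p(G) exactly where it meets O^p(V), for any subgroup V containing the normalizer of the centre of P. -/
theorem result {G : Type*} [Group G] [Finite G] {p : ℕ} [Fact p.Prime] (P : Sylow p G) (hn : ∀ Q : Sylow p G, (P : Subgroup G) ⊓ Subgroup.centralizer (P : Set G) ≤ (Q : Subgroup G) → (Q : Subgroup G) ⊓ Subgroup.centralizer (Q : Set G) = (P : Subgroup G) ⊓ Subgroup.centralizer (P : Set G)) (V : Subgroup G) (hV : Subgroup.normalizer (((P : Subgroup G) ⊓ Subgroup.centralizer (P : Set G) : Subgroup G) : Set G) ≤ V) : (P : Subgroup G) ⊓ Cfsg.pResidual p G = (P : Subgroup G) ⊓ (Cfsg.pResidual p V).map V.subtype := by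
  let Z : Subgroup G := (P : Subgroup G) ⊓ centralizer (P : Set G)
  have hW : Cfsg.IsWeaklyClosed Z (P : Subgroup G) := by
    refine ⟨inf_le_left, fun g hg => ?_⟩
    have h1 : Z ≤ ((g⁻¹ • P : Sylow p G) : Subgroup G) := by
      intro z hz
      refine ⟨g * z * g⁻¹, hg ⟨z, hz, rfl⟩, ?_⟩
      show g⁻¹ * (g * z * g⁻¹) * g⁻¹⁻¹ = z
      group
    have h2 := hn (g⁻¹ • P) h1
    show Z.map _ = Z
    have h3 : ∀ w, w ∈ Z ↔ g * w * g⁻¹ ∈ Z := by
      intro w
      have hm : ∀ v, v ∈ ((g⁻¹ • P : Sylow p G) : Subgroup G) ↔ g * v * g⁻¹ ∈ (P : Subgroup G) := by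
        intro v
        rw [Sylow.coe_subgroup_smul, mem_pointwise_smul_iff_inv_smul_mem]
        simp
      constructor
      · intro hw
        rw [show Z = _ from h2.symm] at hw
        refine ⟨(hm w).mp hw.1, fun y hy => ?_⟩
        have h4 := hw.2 (g⁻¹ * y * g) ((hm _).mpr (by rw [show g * (g⁻¹ * y * g) * g⁻¹ = y by group]; exact hy))
        calc y * (g * w * g⁻¹) = g * (g⁻¹ * y * g * w) * g⁻¹ := by group
          _ = g * (w * (g⁻¹ * y * g)) * g⁻¹ := by rw [h4]
          _ = g * w * g⁻¹ * y := by group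
      · intro hw
        rw [show Z = _ from h2.symm]
        refine ⟨(hm w).mpr hw.1, fun y hy => ?_⟩
        have h4 := hw.2 (g * y * g⁻¹) ((hm _).mp hy)
        have h5 := congrArg (fun u => g⁻¹ * u * g) h4
        simpa [mul_assoc] using h5
    exact mem_normalizer_iff_map_conj_eq.mp (mem_normalizer_iff.mpr h3)
  refine inf_pResidual_eq_of_control P V ?_ fun x hx g hg => ?_
  · intro x hx
    refine hV (mem_normalizer_iff.mpr fun z => ⟨fun hz => ?_, fun hz => ?_⟩)
    · rwa [(mem_inf.mp hz).2 x hx, mul_inv_cancel_right]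
    · have h2 := congrArg (fun w => x⁻¹ * w) ((mem_inf.mp hz).2 x hx)
      have e : z = x * z * x⁻¹ := by
        have h3 : x * (z * x⁻¹) = z := by simpa [mul_assoc] using h2
        rw [mul_assoc, h3]
      rwa [e]
  · obtain ⟨v, hv, he⟩ := control_of_weaklyClosed P Z inf_le_right hW x hx g hg
    exact ⟨v, hV hv, he⟩

end Cfsg.Agent.S0078
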