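import Cfsg.Statements.S0079
import Cfsg.Agent.Lib.Transfer.Hall

set_option autoImplicit false
open Cfsg

namespace Cfsg.Agent.S0079

open Subgroup Cfsg.Agent.Transfer
open scoped commutatorElement Pointwise


/-- A nilpotent Hall subgroup has a normal complement exactly when elements of it that are conjugate in the whole group are already conjugate inside it. -/
theorem result {G : Type*} [Group G] [Finite G] (H : Subgroup G) (hH : Group.IsNilpotent H) (hHall : Nat.Coprime (Nat.card H) H.index) : (∃ N : Subgroup G, N.Normal ∧ N.IsComplement' H) ↔ ∀ x ∈ H, ∀ y ∈ H, (∃ g : G, g * x * g⁻¹ = y) → ∃ h ∈ H, h * x * h⁻¹ = y := by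
  haveI := hH
  constructor
  · rintro ⟨N, hN, hc⟩ x hx y hy ⟨g, hg⟩
    haveI := hN
    have hgm : g ∈ ((N : Set G) * (H : Set G)) := by rw [← normal_mul, hc.sup_eq_top]; trivial
    obtain ⟨n, hn, a, ha, rfl⟩ := Set.mem_mul.mp hgm
    refine ⟨a, ha, ?_⟩
    have hw : a * x * a⁻¹ ∈ H := mul_mem (mul_mem ha hx) (inv_mem ha)
    have e : y = n * (a * x * a⁻¹) * n⁻¹ := by rw [← hg]; group
    have h2 : (a * x * a⁻¹)⁻¹ * y ∈ N ⊓ H := by
      refine mem_inf.mpr ⟨?_, mul_mem (inv_mem hw) hy⟩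
      rw [e, ← mul_assoc, ← mul_assoc]
      refine mul_mem ?_ (inv_mem hn)
      simpa using Subgroup.Normal.conj_mem hN n hn (a * x * a⁻¹)⁻¹
    rw [disjoint_iff.mp hc.disjoint, mem_bot, inv_mul_eq_one] at h2
    exact h2
  · intro hfus
    refine exists_normal_complement_of_forall H hHall fun p hp hpd => ?_
    haveI := Fact.mk hp
    obtain ⟨Q⟩ : Nonempty (Sylow p H) := inferInstance
    obtain ⟨P, hP⟩ := sylow_le_hall hHall hpd Q
    have hPH : (P : Subgroup G) ≤ H := hP.le.trans (map_subtype_le _)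
    refine hasNormalPComplement_of_fusion P fun x hx g hg => ?_
    obtain ⟨a, ha, hax⟩ := hfus x (hPH hx) _ (hPH hg) ⟨g⁻¹, by simp⟩
    obtain ⟨u, v, hu, hv, huv, ⟨k, hk⟩, hvc⟩ := exists_pPart_mul (p := p) (⟨a, ha⟩ : H)
    have hcx : Commute v ⟨x, hPH hx⟩ := by
      refine commute_of_coprime_of_nilpotent ?_
      obtain ⟨j, hj⟩ := isPGroup_iff_orderOf_dvd_pow.mp P.2 ⟨x, hx⟩
      rw [← Subgroup.orderOf_coe] at hj
      rw [← Subgroup.orderOf_coe (⟨x, hPH hx⟩ : H)]
      exact Nat.Coprime.coprime_dvd_right hj (hvc.pow_right j)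
    have huP : (u : G) ∈ (P : Subgroup G) := by
      haveI hQn : (Q : Subgroup H).Normal :=
        Sylow.normal_of_normalizerCondition Group.normalizerCondition_of_isNilpotent Q
      have h9 := mem_sylow_of_mem_normalizer Q (a := u) (by rw [← Sylow.coe_coe, normalizer_eq_top]; trivial) ⟨k, hk⟩
      rw [hP]; exact ⟨u, h9, rfl⟩
    refine ⟨(u : G)⁻¹, inv_mem huP, ?_⟩
    have hv' : (v : G) * x = x * v := congrArg Subtype.val hcx.eq
    have ha' : (u : G) * v = a := congrArg Subtype.val huv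
    rw [← hax, ← ha', inv_inv]
    calc (u : G) * x * (u : G)⁻¹ = (u : G) * (x * v) * (v : G)⁻¹ * (u : G)⁻¹ := by group
      _ = (u : G) * v * x * ((u : G) * v)⁻¹ := by rw [← hv']; group

end Cfsg.Agent.S0079
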