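import Cfsg.Statements.S0080
import Cfsg.Agent.Lib.Transfer.Fusion

set_option autoImplicit false
open Cfsg

namespace Cfsg.Agent.S0080

open Subgroup Cfsg.Agent.Transfer
open scoped commutatorElement Pointwise


/-- When the index of H is prime to the order of H/H', the focal subgroup of H is G' ∩ H, and H/(G' ∩ H) has a normal complement. -/
theorem result {G : Type*} [Group G] [Finite G] (H : Subgroup G) (h : Nat.Coprime H.index (⁅H, H⁆.relIndex H)) : Subgroup.focalSubgroup H = commutator G ⊓ H ∧ ∃ N : Subgroup G, N.Normal ∧ N ⊓ H = commutator G ⊓ H ∧ N ⊔ H = ⊤ := by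
  let τ : G →* H ⧸ H.focalSubgroupOf := Subgroup.transferFocal H
  have hpow : ∀ x : H, τ (x : G) = (x : H ⧸ H.focalSubgroupOf) ^ H.index := Subgroup.transferFocal_eq_pow H
  have hcop : (Nat.card (H ⧸ H.focalSubgroupOf)).Coprime H.index := by
    refine Nat.Coprime.coprime_dvd_left ?_ h.symm
    rw [← Subgroup.index_eq_card]
    show H.focalSubgroup.relIndex H ∣ _
    exact relIndex_dvd_of_le_left _ (Subgroup.commutator_le_focalSubgroup H)
  open scoped IsMulCommutative in
  let e := powCoprime hcop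
  have hker : ∀ x : G, x ∈ τ.ker ⊓ H → x ∈ H.focalSubgroup := by
    rintro x hx
    obtain ⟨hx1, hx2⟩ := mem_inf.mp hx
    have h1 : e ((⟨x, hx2⟩ : H) : H ⧸ H.focalSubgroupOf) = e 1 := by
      show _ ^ H.index = (1 : H ⧸ H.focalSubgroupOf) ^ H.index
      rw [← hpow, one_pow]
      exact hx1
    exact (QuotientGroup.eq_one_iff (⟨x, hx2⟩ : H)).mp (e.injective h1)
  have hG' : commutator G ≤ τ.ker := by
    open scoped IsMulCommutative in
    exact Abelianization.commutator_subset_ker τ
  have heq : Subgroup.focalSubgroup H = commutator G ⊓ H :=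
    le_antisymm (le_inf H.focalSubgroup_le_commutator H.focalSubgroup_le)
      fun x hx => hker x ⟨hG' hx.1, hx.2⟩
  refine ⟨heq, τ.ker, MonoidHom.normal_ker _, le_antisymm ?_ (inf_le_inf_right _ hG'), ?_⟩
  · intro x hx
    rw [← heq]
    exact hker x hx
  · refine top_le_iff.mp fun g _ => ?_
    obtain ⟨y, hy⟩ := e.surjective (τ g)
    obtain ⟨y, rfl⟩ := QuotientGroup.mk'_surjective _ y
    have h2 : τ (y : G) = τ g := (hpow y).trans hy
    have hk : g * (y : G)⁻¹ ∈ τ.ker := by
      rw [MonoidHom.mem_ker, map_mul, map_inv, h2, mul_inv_cancel]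
    simpa using mul_mem_sup hk y.2

end Cfsg.Agent.S0080
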