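import Cfsg.Statements.S0082
import Cfsg.Agent.Lib.Transfer.Abelian
import Cfsg.Agent.S0075
import Mathlib.NumberTheory.Basic
import Mathlib.RingTheory.Coprime.Lemmas
import Mathlib.Tactic.LinearCombination
import Mathlib.RingTheory.Int.Basic

set_option autoImplicit false
open Cfsg

namespace Cfsg.Agent.S0082

open Subgroup Cfsg.Agent.Transfer
open scoped commutatorElement Pointwise


/-- With a cyclic Sylow p-subgroup, either there is a normal p-complement or the elements of order prime to p generate the whole group. -/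
theorem result {G : Type*} [Group G] [Finite G] {p : ℕ} [Fact p.Prime] (P : Sylow p G) (hP : IsCyclic P) : Cfsg.HasNormalPComplement p G ∨ Cfsg.pResidual p G = ⊤ := by
  by_cases hN : normalizer (P : Set G) ≤ centralizer (P : Set G)
  · exact Or.inl (hasNormalPComplement_of_normalizer_le P hN)
  right
  haveI := hP
  have hT := Cfsg.Agent.S0075.result P (IsCyclic.isMulCommutative)
  suffices hle : (P : Subgroup G) ≤ Cfsg.pResidual p G by
    rw [← top_le_iff, ← pResidual_sup_sylow P]; exact sup_le le_rfl hle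
  obtain ⟨n, hn, hnc⟩ := SetLike.not_le_iff_exists.mp hN
  obtain ⟨a, b, ha, hb, hab, hak, hbc⟩ := exists_pPart_mul (p := p) n
  have haP := mem_sylow_of_mem_normalizer P (zpowers_le.mpr hn ha) hak
  have hbN : b ∈ normalizer (P : Set G) := zpowers_le.mpr hn hb
  have hbnc : b ∉ centralizer (P : Set G) := fun h1 => hnc (by
    haveI : IsMulCommutative (P : Subgroup G) := IsCyclic.isMulCommutative
    rw [← hab]; exact mul_mem (le_centralizer (P : Subgroup G) haP) h1)
  obtain ⟨⟨t, htP⟩, ht⟩ := hP.exists_generator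
  have hconj : b * t * b⁻¹ ∈ (P : Subgroup G) := (mem_normalizer_iff.mp hbN t).mp htP
  obtain ⟨r, hr⟩ := mem_zpowers_iff.mp (ht ⟨_, hconj⟩)
  have hr' : b * t * b⁻¹ = t ^ r := by simpa using congrArg Subtype.val hr.symm
  have hiter : ∀ m : ℕ, b ^ m * t * (b ^ m)⁻¹ = t ^ (r ^ m) := by
    intro m
    induction m with
    | zero => simp
    | succ m ih =>
      have e : b ^ (m+1) * t * (b ^ (m+1))⁻¹ = b ^ m * (b * t * b⁻¹) * (b ^ m)⁻¹ := by group
      rw [e, hr', ← MulAut.conj_apply, map_zpow, MulAut.conj_apply, ih, ← zpow_mul, pow_succ]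
  obtain ⟨k, hk⟩ := P.2.exists_card_eq
  have hto : orderOf t ∣ p ^ k := by
    rw [← hk, ← Subgroup.orderOf_mk t htP]; exact orderOf_dvd_natCard _
  have hnd : ¬ (p : ℤ) ∣ 1 - r := by
    intro hd
    have h2 : ((p ^ (k + 1) : ℕ) : ℤ) ∣ 1 ^ p ^ k - r ^ p ^ k := by
      push_cast; exact dvd_sub_pow_of_dvd_sub hd k
    have h3 : t ^ (r ^ p ^ k) = t := by
      conv_rhs => rw [← zpow_one t]
      rw [zpow_eq_zpow_iff_modEq, Int.modEq_iff_dvd]
      rw [one_pow] at h2
      exact dvd_trans (Int.natCast_dvd_natCast.mpr (hto.trans (pow_dvd_pow p (Nat.le_succ k)))) h2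
    have h4 : b ^ p ^ k * t = t * b ^ p ^ k := by
      have := hiter (p ^ k)
      rw [h3, mul_inv_eq_iff_eq_mul] at this
      exact this
    apply hbnc
    obtain ⟨m, hm⟩ := exists_pow_eq_self_of_coprime (x := b) (n := p ^ k) (Nat.Coprime.pow_left k hbc.symm)
    have h6 : Commute b t := hm ▸ (Commute.pow_left h4 m : Commute ((b ^ p ^ k) ^ m) t)
    intro x hx
    obtain ⟨i, hi⟩ := mem_zpowers_iff.mp (ht ⟨x, hx⟩)
    have hi' : t ^ i = x := by simpa using congrArg Subtype.val hi
    rw [← hi']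
    exact ((h6.zpow_right i).eq).symm
  intro x hx
  obtain ⟨i, hi⟩ := mem_zpowers_iff.mp (ht ⟨x, hx⟩)
  have hi' : t ^ i = x := by simpa using congrArg Subtype.val hi
  rw [← hi']
  refine zpow_mem ?_ i
  have h1 : ⁅t, b⁆ ∈ Cfsg.pResidual p G := (hT.ge (commutator_mem_commutator htP hbN)).2
  have e : ⁅t, b⁆ = t ^ (1 - r) := by
    have h5 : b * t⁻¹ * b⁻¹ = (t ^ r)⁻¹ := by rw [← hr']; group
    rw [commutatorElement_def, zpow_sub, zpow_one, mul_assoc t, mul_assoc t, h5]
  rw [e] at h1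
  have hcop : IsCoprime (1 - r) ((p ^ k : ℕ) : ℤ) := by
    push_cast
    exact IsCoprime.pow_right ((Prime.coprime_iff_not_dvd (Nat.prime_iff_prime_int.mp Fact.out)).mpr hnd).symm
  obtain ⟨u, v, huv⟩ := hcop
  have : t = (t ^ (1 - r)) ^ u := by
    rw [← zpow_mul]
    conv_lhs => rw [← zpow_one t]
    rw [zpow_eq_zpow_iff_modEq, Int.modEq_iff_dvd]
    refine dvd_trans (Int.natCast_dvd_natCast.mpr hto) ⟨-v, ?_⟩
    linear_combination huv
  rw [this]
  exact zpow_mem h1 u

end Cfsg.Agent.S0082
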