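import Cfsg.Statements.S0083
import Cfsg.Agent.Lib.Transfer.Abelian

set_option autoImplicit false
open Cfsg

namespace Cfsg.Agent.S0083

open Subgroup Cfsg.Agent.Transfer
open scoped commutatorElement Pointwise


/-- For an abelian Sylow p-subgroup P, a normal p-complement exists exactly when the normalizer of P is an internal direct product of P with some subgroup. -/
theorem result {G : Type*} [Group G] [Finite G] {p : ℕ} [Fact p.Prime] (P : Sylow p G) (hP : IsMulCommutative P) : Cfsg.HasNormalPComplement p G ↔ ∃ Q : Subgroup G, Q ≤ Subgroup.centralizer (P : Set G) ∧ Q ⊓ (P : Subgroup G) = ⊥ ∧ Q ⊔ (P : Subgroup G) = Subgroup.normalizer (P : Set G) := by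
  haveI := hP
  constructor
  · intro h
    have hle := normalizer_le_centralizer_of_hasNormalPComplement P h
    let N : Subgroup G := normalizer (P : Set G)
    have hN : Cfsg.HasNormalPComplement p N := hasNormalPComplement_subgroup N h
    have hc := isComplement'_pResidual (hasNormalPComplement_iff.mp hN) (P.subtype le_normalizer)
    refine ⟨(Cfsg.pResidual p N).map N.subtype, (map_subtype_le _).trans hle, ?_, ?_⟩
    · refine le_bot_iff.mp ?_
      rintro _ ⟨⟨x, hx, rfl⟩, hxP⟩
      have := disjoint_iff.mp hc.disjoint ▸ (mem_inf.mpr ⟨hx, hxP⟩ : x ∈ Cfsg.pResidual p N ⊓ ((P.subtype le_normalizer : Sylow p N) : Subgroup N))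
      simp [mem_bot.mp this]
    · have h2 := congrArg (Subgroup.map N.subtype) hc.sup_eq_top
      rw [Subgroup.map_sup, Sylow.coe_subtype, subgroupOf_map_subtype, ← MonoidHom.range_eq_map, range_subtype] at h2
      have h3 : (P : Subgroup G) ⊓ N = P := inf_of_le_left le_normalizer
      exact (congrArg _ h3).symm.trans h2
  · rintro ⟨Q, hQ, -, hQP⟩
    refine hasNormalPComplement_of_normalizer_le P ?_
    rw [← hQP]
    exact sup_le hQ (le_centralizer (P : Subgroup G))

end Cfsg.Agent.S0083
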