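import Cfsg.Statements.S0084
import Cfsg.Agent.Lib.Transfer.Abelian

set_option autoImplicit false
open Cfsg

namespace Cfsg.Agent.S0084

open Subgroup Cfsg.Agent.Transfer
open scoped commutatorElement Pointwise


/-- A group whose Sylow 2-subgroups are Klein four-groups and whose order is prime to 3 has a normal 2-complement. -/
theorem result {G : Type*} [Group G] [Finite G] (T : Sylow 2 G) (hT : IsKleinFour T) (h3 : ¬ 3 ∣ Nat.card G) : Cfsg.HasNormalPComplement 2 G := by
  haveI := hT
  haveI : IsMulCommutative (T : Subgroup G) := IsKleinFour.isMulCommutative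
  refine hasNormalPComplement_of_abelian T fun q hq hqG hq2 F hF hmod => ?_
  have hc : Nat.card (T : Subgroup G) = 4 := IsKleinFour.card_four
  rw [hc] at hmod
  have hd : Nat.card F ∣ 4 := hc ▸ card_subgroup_dvd_card F
  have hne : Nat.card F ≠ 4 := fun e => hF (eq_top_of_card_eq F (by rw [e, hc]))
  have hle : Nat.card F ≤ 4 := Nat.le_of_dvd (by norm_num) hd
  have hpos : 0 < Nat.card F := Nat.card_pos
  have hdq : q ∣ 4 - Nat.card F := (Nat.modEq_iff_dvd' hle).mp hmod.symm
  interval_cases hF4 : Nat.card F <;> revert hd hne <;> norm_num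
  · exact h3 (((Nat.prime_dvd_prime_iff_eq hq Nat.prime_three).mp (show q ∣ 3 from hdq)) ▸ hqG)
  · exact hq2 ((Nat.prime_dvd_prime_iff_eq hq Nat.prime_two).mp (show q ∣ 2 from hdq))

end Cfsg.Agent.S0084
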