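import Cfsg.Statements.S0085
import Cfsg.Agent.Lib.Transfer.Abelian

set_option autoImplicit false
open Cfsg

namespace Cfsg.Agent.S0085

open Subgroup Cfsg.Agent.Transfer
open scoped commutatorElement Pointwise


/-- A group whose Sylow 2-subgroups are elementary abelian of order 8 and whose order is prime to 3 and to 7 has a normal 2-complement. -/
theorem result {G : Type*} [Group G] [Finite G] (T : Sylow 2 G) (h8 : Nat.card T = 8) (he : ∀ x : T, x * x = 1) (h3 : ¬ 3 ∣ Nat.card G) (h7 : ¬ 7 ∣ Nat.card G) : Cfsg.HasNormalPComplement 2 G := by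
  haveI : IsMulCommutative (T : Subgroup G) := ⟨⟨fun a b => by
    have ha : ∀ x : T, x⁻¹ = x := fun x => inv_eq_of_mul_eq_one_right (he x)
    calc a * b = (a * b)⁻¹ := (ha _).symm
      _ = b⁻¹ * a⁻¹ := mul_inv_rev a b
      _ = b * a := by rw [ha, ha]⟩⟩
  refine hasNormalPComplement_of_abelian T fun q hq hqG hq2 F hF hmod => ?_
  have hc : Nat.card (T : Subgroup G) = 8 := h8
  rw [hc] at hmod
  have hd : Nat.card F ∣ 8 := hc ▸ card_subgroup_dvd_card F
  have hne : Nat.card F ≠ 8 := fun e => hF (eq_top_of_card_eq F (by rw [e, hc]))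
  have hle : Nat.card F ≤ 8 := Nat.le_of_dvd (by norm_num) hd
  have hpos : 0 < Nat.card F := Nat.card_pos
  have hdq : q ∣ 8 - Nat.card F := (Nat.modEq_iff_dvd' hle).mp hmod.symm
  interval_cases hF4 : Nat.card F <;> revert hd hne <;> norm_num
  · exact h7 (((Nat.prime_dvd_prime_iff_eq hq (by decide : Nat.Prime 7)).mp (show q ∣ 7 from hdq)) ▸ hqG)
  · have h23 : q ∣ 2 * 3 := hdq
    rcases hq.dvd_mul.mp h23 with h | h
    · exact hq2 ((Nat.prime_dvd_prime_iff_eq hq Nat.prime_two).mp h)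
    · exact h3 (((Nat.prime_dvd_prime_iff_eq hq Nat.prime_three).mp h) ▸ hqG)
  · have h22 : q ∣ 2 * 2 := hdq
    rcases hq.dvd_mul.mp h22 with h | h <;> exact hq2 ((Nat.prime_dvd_prime_iff_eq hq Nat.prime_two).mp h)

end Cfsg.Agent.S0085
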