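import Cfsg.Statements.S0089
import Cfsg.Agent.Lib.Transfer.Abelian

set_option autoImplicit false
open Cfsg

namespace Cfsg.Agent.S0089

open Subgroup Cfsg.Agent.Transfer
open scoped commutatorElement Pointwise


/-- When all Sylow subgroups are abelian, the derived subgroup meets the centre trivially. -/
theorem result {G : Type*} [Group G] [Finite G] (h : ∀ p : ℕ, p.Prime → ∀ P : Sylow p G, IsMulCommutative P) : commutator G ⊓ Subgroup.center G = ⊥ := by
  refine le_bot_iff.mp fun z hz => mem_bot.mpr (orderOf_eq_one_iff.mp ?_)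
  by_contra hne
  obtain ⟨q, hq, hqd⟩ := Nat.exists_prime_and_dvd hne
  haveI := Fact.mk hq
  obtain ⟨k, m, hm, hzm⟩ := Nat.exists_eq_pow_mul_and_not_dvd (orderOf_pos z).ne' q hq.ne_one
  let P : Sylow q G := default
  haveI := h q hq P
  have ha : orderOf (z ^ m) = q ^ k := by
    rw [orderOf_pow_of_dvd (fun e => hm (by simp [e])) ⟨q ^ k, by rw [hzm]; ring⟩, hzm, Nat.mul_div_cancel _ (Nat.pos_of_ne_zero fun e => hm (by simp [e]))]
  have haZ : z ^ m ∈ center G := pow_mem hz.2 _
  have haP : z ^ m ∈ (P : Subgroup G) :=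
    mem_sylow_of_mem_normalizer P (center_le_normalizer _ haZ) ⟨k, ha ▸ dvd_rfl⟩
  have hbot := inf_commutator_center_eq_bot (P : Subgroup G) (sylow_card_coprime_index P)
  have h1 : z ^ m ∈ (P : Subgroup G) ⊓ commutator G ⊓ center G :=
    mem_inf.mpr ⟨mem_inf.mpr ⟨haP, pow_mem hz.1 _⟩, haZ⟩
  rw [hbot, mem_bot] at h1
  rw [h1, orderOf_one] at ha
  rw [hzm, ← ha, one_mul] at hqd
  exact hm hqd

end Cfsg.Agent.S0089
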