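import Cfsg.Statements.S0090
import Cfsg.Agent.Lib.Basics.CoprimeAction
import Cfsg.Agent.Lib.Transfer.Residual

set_option autoImplicit false
open Cfsg

namespace Cfsg.Agent.S0090

open Subgroup Cfsg.Agent.Transfer
open scoped commutatorElement Pointwise IsMulCommutative


/-- An abelian normal Hall subgroup A splits as the internal direct product of G' ∩ A and Z(G) ∩ A, and [A, G] = G' ∩ A. -/
theorem result {G : Type*} [Group G] [Finite G] (A : Subgroup G) [A.Normal] (hc : IsMulCommutative A) (hHall : Nat.Coprime (Nat.card A) A.index) : ⁅A, (⊤ : Subgroup G)⁆ = commutator G ⊓ A ∧ (commutator G ⊓ A) ⊓ (Subgroup.center G ⊓ A) = ⊥ ∧ (commutator G ⊓ A) ⊔ (Subgroup.center G ⊓ A) = A := by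
  haveI := hc
  obtain ⟨H, hH⟩ := Subgroup.exists_right_complement'_of_coprime (N := A) hHall
  have hHn : H ≤ normalizer (A : Set G) := by rw [normalizer_eq_top]; exact le_top
  have hcop : (Nat.card H).Coprime (Nat.card A) := by
    rw [← hH.symm.index_eq_card]; exact hHall.symm
  have hsplit := Cfsg.Agent.Basics.commutator_sup_inf_centralizer H A hHn hcop
    (Or.inr inferInstance)
  have hZ : A ⊓ centralizer (H : Set G) ≤ center G ⊓ A := by
    intro a ha
    refine ⟨mem_center_iff.mpr fun g => ?_, ha.1⟩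
    obtain ⟨⟨x, y⟩, hxy⟩ := hH.2 g
    have h1 : Commute (x : G) a := congrArg Subtype.val (mul_comm' x (⟨a, ha.1⟩ : A))
    have h2 : Commute (y : G) a := ha.2 y y.2
    rw [← hxy]
    exact (h1.mul_left h2).eq
  have hAG : ⁅A, (⊤ : Subgroup G)⁆ ≤ commutator G ⊓ A :=
    le_inf (commutator_mono le_top le_rfl) (commutator_le_left A ⊤)
  have hbot : (commutator G ⊓ A) ⊓ (center G ⊓ A) = ⊥ := by
    rw [eq_bot_iff]
    rintro z ⟨⟨hz, hzA⟩, hzc, -⟩
    haveI : A.FiniteIndex := inferInstance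
    let φ : A →* A := MonoidHom.id A
    have h1 : MonoidHom.transfer φ z = 1 :=
      (Abelianization.commutator_subset_ker _) hz
    have key : ∀ (k : ℕ) (g₀ : G), g₀⁻¹ * z ^ k * g₀ ∈ A → g₀⁻¹ * z ^ k * g₀ = z ^ k := by
      intro k g₀ _
      rw [mul_assoc, ← (Commute.pow_right (mem_center_iff.mp hzc g₀) k).eq, inv_mul_cancel_left]
    rw [MonoidHom.transfer_eq_pow φ z key] at h1
    have h2 : z ^ A.index = 1 := congrArg Subtype.val h1
    have h3 : orderOf z ∣ A.index := orderOf_dvd_of_pow_eq_one h2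
    have h4 : orderOf z ∣ Nat.card A := orderOf_dvd_natCard A hzA
    exact mem_bot.mpr (orderOf_eq_one_iff.mp (Nat.eq_one_of_dvd_coprimes hHall h4 h3))
  have hsup : ⁅A, (⊤ : Subgroup G)⁆ ⊔ (center G ⊓ A) = A := by
    refine le_antisymm (sup_le (commutator_le_left A ⊤) inf_le_right) ?_
    exact le_of_eq_of_le hsplit.symm (sup_le_sup (commutator_mono le_rfl le_top) hZ)
  refine ⟨le_antisymm hAG ?_, hbot, ?_⟩
  · intro x hx
    have h1 : x ∈ ⁅A, (⊤ : Subgroup G)⁆ ⊔ (center G ⊓ A) := hsup.symm ▸ hx.2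
    rw [← SetLike.mem_coe, normal_mul] at h1
    obtain ⟨a, ha, z, hz, rfl⟩ := h1
    have hz' : z ∈ commutator G ⊓ A := by
      have := mul_mem (inv_mem (hAG ha)) hx
      rwa [inv_mul_cancel_left] at this
    have : z ∈ (⊥ : Subgroup G) := hbot ▸ (⟨hz', hz⟩ : z ∈ (commutator G ⊓ A) ⊓ (center G ⊓ A))
    show a * z ∈ _
    rw [mem_bot.mp this, mul_one]
    exact ha
  · refine le_antisymm (sup_le inf_le_right inf_le_right) ?_
    exact hsup.ge.trans (sup_le_sup_right hAG _)

end Cfsg.Agent.S0090
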