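import Cfsg.Statements.S0091
import Cfsg.Agent.Lib.Transfer.Fusion

set_option autoImplicit false
open Cfsg

namespace Cfsg.Agent.S0091

open Subgroup Cfsg.Agent.Transfer
open scoped commutatorElement Pointwise


/-- If a nontrivial Sylow p-subgroup controls its own fusion then it is not contained in the derived subgroup. -/
theorem result {G : Type*} [Group G] [Finite G] {p : ℕ} [Fact p.Prime] (P : Sylow p G) (hp : p ∣ Nat.card G) (h : ∀ x ∈ P, ∀ y ∈ P, (∃ g : G, g * x * g⁻¹ = y) → ∃ z ∈ P, z * x * z⁻¹ = y) : ¬ (P : Subgroup G) ≤ commutator G := by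
  intro hle
  have hc := hasNormalPComplement_of_fusion P fun x hx g hg => by
    obtain ⟨z, hz, he⟩ := h x hx _ hg ⟨g⁻¹, by simp⟩
    exact ⟨z⁻¹, inv_mem hz, by rw [inv_inv]; exact he⟩
  have hbot := (hasNormalPComplement_iff_inf_eq_bot P).mp hc
  let e : G →* G ⧸ Cfsg.pResidual p G := QuotientGroup.mk' _
  haveI : Group.IsNilpotent (G ⧸ Cfsg.pResidual p G) := isPGroup_quotient_pResidual.isNilpotent
  have hne : (P : Subgroup G) ≠ ⊥ := P.ne_bot_of_dvd_card hp
  have htop : commutator (G ⧸ Cfsg.pResidual p G) = ⊤ := by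
    refine top_le_iff.mp ?_
    have h1 : (commutator G).map e ≤ commutator _ := by
      rw [commutator_def, map_commutator]; exact commutator_mono le_top le_top
    refine le_trans ?_ h1
    refine le_trans ?_ (map_mono hle)
    rw [← MonoidHom.range_eq_top.mpr (QuotientGroup.mk'_surjective (Cfsg.pResidual p G)),
      MonoidHom.range_eq_map, ← pResidual_sup_sylow P, Subgroup.map_sup, QuotientGroup.map_mk'_self,
      bot_sup_eq]
  obtain ⟨n, hn⟩ := Subgroup.nilpotent_iff_lowerCentralSeries.mp ‹Group.IsNilpotent (G ⧸ Cfsg.pResidual p G)›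
  have hall : ∀ m, Subgroup.lowerCentralSeries (⊤ : Subgroup (G ⧸ Cfsg.pResidual p G)) m = ⊤ := by
    intro m
    induction m with
    | zero => rfl
    | succ m ih => rw [Subgroup.lowerCentralSeries_succ, ih, ← commutator_def, htop]
  refine hne (le_bot_iff.mp fun x hx => ?_)
  rw [← hbot]
  refine ⟨hx, (QuotientGroup.eq_one_iff x).mp ?_⟩
  rw [← mem_bot, ← hn, hall]
  trivial

end Cfsg.Agent.S0091
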