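import Cfsg.Statements.S0092
import Cfsg.Agent.Lib.Transfer.Abelian
import Cfsg.Agent.Lib.Transfer.Residual
import Cfsg.Agent.Lib.Basics.SchurZassenhaus
-- import your own Cfsg.Agent.* helpers here

set_option autoImplicit false
open Cfsg

namespace Cfsg.Agent.S0092

open Subgroup
open scoped Pointwise

universe u

/-- In a group with no nontrivial `p`-quotient an abelian Sylow subgroup has no element central in its normalizer. -/
theorem eq_one_of_central {X : Type u} [Group X] [Finite X] {p : ℕ} [Fact p.Prime]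
    (hX : ∀ (Y : Type u) [Group Y] (f : X →* Y), IsPGroup p Y → ∀ x, f x = 1)
    (Q : Sylow p X) [IsMulCommutative (Q : Subgroup X)] (x : X) (hx : x ∈ (Q : Subgroup X))
    (hc : ∀ n ∈ normalizer ((Q : Subgroup X) : Set X), n * x = x * n) : x = 1 := by
  open scoped IsMulCommutative in
  have key : ∀ (k : ℕ) (g : X), g⁻¹ * x ^ k * g ∈ (Q : Subgroup X) → g⁻¹ * x ^ k * g = x ^ k := by
    intro k g hg
    obtain ⟨n, hn, he⟩ := Q.conj_eq_normalizer_conj_of_mem (x ^ k) g (pow_mem hx k) hg
    rw [he, mul_assoc, ← (Commute.pow_right (hc n hn : Commute n x) k).eq, inv_mul_cancel_left]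
  open scoped IsMulCommutative in
  have h1 := MonoidHom.transfer_eq_pow (MonoidHom.id (Q : Subgroup X)) x key
  open scoped IsMulCommutative in
  rw [hX _ (MonoidHom.transfer (MonoidHom.id (Q : Subgroup X))) Q.2 x] at h1
  have h2 : x ^ (Q : Subgroup X).index = 1 := (congrArg Subtype.val h1).symm
  refine orderOf_eq_one_iff.mp (Nat.eq_one_of_dvd_coprimes Q.card_coprime_index ?_
    (orderOf_dvd_of_pow_eq_one h2))
  rw [← Subgroup.orderOf_mk x hx]
  exact _root_.orderOf_dvd_natCard _

/-- If the Sylow p-subgroups of O^p(G) are abelian then G splits over O^p(G). -/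
theorem result {G : Type*} [Group G] [Finite G] {p : ℕ} [Fact p.Prime] (h : ∀ Q : Sylow p (Cfsg.pResidual p G), IsMulCommutative Q) : ∃ K : Subgroup G, K.IsComplement' (Cfsg.pResidual p G) := by
  set N := Cfsg.pResidual p G with hN
  haveI : N.Characteristic := Transfer.pResidual_characteristic G p
  obtain ⟨Q⟩ : Nonempty (Sylow p N) := inferInstance
  haveI := h Q
  set Q₀ := (Q : Subgroup N).map N.subtype with hQ₀
  set M := normalizer (Q₀ : Set G) with hM
  have hfr : M ⊔ N = ⊤ := Sylow.normalizer_sup_eq_top Q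
  set H := N ⊓ M with hH
  have hQN : Q₀ ≤ N := map_subtype_le _
  have hQH : Q₀ ≤ H := le_inf hQN le_normalizer
  haveI : (Q₀.subgroupOf H).Normal :=
    (normal_subgroupOf_iff_le_normalizer hQH).mpr inf_le_right
  have hcop : (Nat.card (Q₀.subgroupOf H)).Coprime (Q₀.subgroupOf H).index := by
    rw [Nat.card_congr (subgroupOfEquivOfLe hQH).toEquiv, hQ₀,
      card_map_of_injective N.subtype_injective]
    refine Q.card_coprime_index.coprime_dvd_right ?_
    have e : Q₀.relIndex N = (Q : Subgroup N).index := by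
      rw [relIndex, hQ₀, subgroupOf, comap_map_eq_self_of_injective N.subtype_injective]
    rw [← e, ← relIndex_mul_relIndex Q₀ H N hQH inf_le_left]
    exact dvd_mul_right _ _
  obtain ⟨K, hK⟩ := exists_right_complement'_of_coprime hcop
  set K₀ := K.map H.subtype with hK₀
  have hKH : K₀ ≤ H := map_subtype_le _
  have hsup : Q₀ ⊔ K₀ = H := by
    rw [← map_subgroupOf_eq_of_le hQH, hK₀, ← Subgroup.map_sup, hK.sup_eq_top, ← MonoidHom.range_eq_map,
      range_subtype]
  have hdisj : ∀ y, y ∈ Q₀ → y ∈ K₀ → y = 1 := by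
    rintro y hy ⟨k, hk, rfl⟩
    exact congrArg Subtype.val (mem_bot.mp (hK.disjoint.eq_bot.le ⟨mem_subgroupOf.mpr hy, hk⟩))
  have hcopK : (Nat.card Q₀).Coprime (Nat.card K₀) := by
    rwa [← Nat.card_congr (subgroupOfEquivOfLe hQH).toEquiv, hK₀,
      card_map_of_injective H.subtype_injective, ← hK.symm.index_eq_card]
  have hQab : IsMulCommutative Q₀ := inferInstance
  set R := M ⊓ normalizer (K₀ : Set G) with hR
  have hMR : M ≤ Q₀ ⊔ R := by
    intro m hm
    have hle : MulAut.conj m • K₀ ≤ Q₀ ⊔ K₀ := by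
      rw [hsup]
      rintro _ ⟨k, hk, rfl⟩
      exact ⟨(inferInstance : N.Normal).conj_mem k (hKH hk).1 m,
        M.mul_mem (M.mul_mem hm (hKH hk).2) (M.inv_mem hm)⟩
    obtain ⟨n, hn, hnK⟩ := Basics.exists_conj_eq_of_coprime Q₀ K₀ (MulAut.conj m • K₀)
      (hKH.trans inf_le_right) hcopK hle (Basics.card_conj_smul m K₀) (Or.inl (Group.isSolvable_of_comm fun a b => hQab.is_comm.comm a b))
    rw [show m = n * (n⁻¹ * m) by group]
    refine mul_mem (mem_sup_left hn) (mem_sup_right (mem_inf.mpr ⟨M.mul_mem (M.inv_mem (le_normalizer hn)) hm, ?_⟩))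
    rw [← Basics.conj_smul_eq_self_iff, ← Basics.conj_smul_conj_smul, ← hnK, Basics.conj_smul_conj_smul,
      inv_mul_cancel, Basics.conj_smul_one]
  have hfix : ∀ q ∈ Q₀, (∀ k ∈ K₀, q * k = k * q) → q = 1 := by
    rintro _ ⟨q, hq, rfl⟩ hqk
    have : q = 1 := eq_one_of_central (fun Y _ f hY => Transfer.hom_pResidual_eq_one f hY) Q q hq
      fun n hn => by
        have hnM : (n : G) ∈ H := ⟨n.2, by
          refine mem_normalizer_iff_map_conj_eq.mpr (eq_of_le_of_card_ge ?_ ?_)
          · rintro _ ⟨_, ⟨t, ht, rfl⟩, rfl⟩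
            exact ⟨n * t * n⁻¹, (mem_normalizer_iff.mp hn t).mp ht, rfl⟩
          · exact (card_map_of_injective (MulAut.conj (n : G)).injective).ge⟩
        rw [← hsup] at hnM
        obtain ⟨a, ha, k, hk, e⟩ := (Basics.mem_sup_of_le_normalizer (hKH.trans inf_le_right)).mp hnM
        apply Subtype.ext
        rw [Subgroup.coe_mul, Subgroup.coe_mul, e, mul_assoc]
        have h1 : (q : G) * a = a * q :=
          congrArg Subtype.val (hQab.is_comm.comm ⟨(q : G), ⟨q, hq, rfl⟩⟩ ⟨a, ha⟩)
        have h2 : (q : G) * k = k * q := hqk k hk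
        rw [← h2, ← mul_assoc, ← mul_assoc, h1]
    rw [this, map_one]
  have hRN : R ⊓ N ≤ K₀ := by
    intro y hy
    have hyH : y ∈ Q₀ ⊔ K₀ := hsup.ge ⟨hy.2, hy.1.1⟩
    obtain ⟨a, ha, k, hk, rfl⟩ := (Basics.mem_sup_of_le_normalizer (hKH.trans inf_le_right)).mp hyH
    have haN : a ∈ normalizer (K₀ : Set G) := by
      have := (normalizer (K₀ : Set G)).mul_mem hy.1.2 ((normalizer (K₀ : Set G)).inv_mem (le_normalizer hk))
      rwa [mul_inv_cancel_right] at this
    have : a = 1 := hfix a ha fun c hc => by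
      have h1 : a * c * a⁻¹ * c⁻¹ = 1 := hdisj _ (by
          rw [show a * c * a⁻¹ * c⁻¹ = a * (c * a⁻¹ * c⁻¹) by group]
          exact mul_mem ha ((mem_normalizer_iff.mp (hKH hc).2 _).mp (inv_mem ha)))
        (mul_mem ((mem_normalizer_iff.mp haN c).mp hc) (inv_mem hc))
      rwa [mul_inv_eq_one, mul_inv_eq_iff_eq_mul] at h1
    rw [this, one_mul]; exact hk
  obtain ⟨L⟩ : Nonempty (Sylow p R) := inferInstance
  set L₀ := (L : Subgroup R).map R.subtype with hL₀
  have hLR : L₀ ≤ R := map_subtype_le _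
  refine ⟨L₀, isComplement'_of_disjoint_and_mul_eq_univ ?_ ?_⟩
  · rw [disjoint_iff, eq_bot_iff]
    intro y hy
    refine mem_bot.mpr (orderOf_eq_one_iff.mp ?_)
    have hcopL : (Nat.card L₀).Coprime (Nat.card K₀) := ?_
    · refine Nat.eq_one_of_dvd_coprimes hcopL ?_ ?_
      · rw [← Subgroup.orderOf_mk y hy.1]; exact _root_.orderOf_dvd_natCard _
      · rw [← Subgroup.orderOf_mk y (hRN ⟨hLR hy.1, hy.2⟩)]; exact _root_.orderOf_dvd_natCard _
    obtain ⟨i, hi⟩ := IsPGroup.iff_card.mp L.2
    rw [hL₀, card_map_of_injective R.subtype_injective, hi]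
    refine Nat.Coprime.pow_left i ((Fact.out : p.Prime).coprime_iff_not_dvd.mpr ?_)
    rw [hK₀, card_map_of_injective H.subtype_injective, ← hK.symm.index_eq_card]
    intro hd
    have e : Q₀.relIndex N = (Q : Subgroup N).index := by
      rw [relIndex, hQ₀, subgroupOf, comap_map_eq_self_of_injective N.subtype_injective]
    exact Q.not_dvd_index (e ▸ hd.trans (relIndex_mul_relIndex Q₀ H N hQH inf_le_left ▸ dvd_mul_right _ _))
  · haveI : N.Normal := inferInstance
    rw [← mul_normal, eq_comm, ← coe_top, SetLike.coe_set_eq, eq_comm, eq_top_iff]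
    let f : R →* G ⧸ N := (QuotientGroup.mk' N).comp R.subtype
    have hf : Function.Surjective f := by
      intro z
      obtain ⟨g, rfl⟩ := QuotientGroup.mk'_surjective N z
      have h2 : g ∈ R ⊔ N := by
        have h3 : M ⊔ N ≤ R ⊔ N :=
          sup_le (hMR.trans (sup_le (hQN.trans le_sup_right) le_sup_left)) le_sup_right
        exact h3 (hfr.ge (mem_top g))
      obtain ⟨r, hr, n, hn, rfl⟩ := mem_sup_of_normal_right.mp h2
      exact ⟨⟨r, hr⟩, by
        show (QuotientGroup.mk' N) r = _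
        rw [map_mul, show QuotientGroup.mk' N n = 1 from (QuotientGroup.eq_one_iff n).mpr hn, mul_one]⟩
    have htop : (L.mapSurjective hf : Subgroup (G ⧸ N)) = ⊤ :=
      ((L.mapSurjective hf).3 (((Transfer.isPGroup_quotient_pResidual (G := G) (p := p))).to_subgroup ⊤)
        le_top).symm
    rw [Sylow.coe_mapSurjective, ← Subgroup.map_map, ← hL₀] at htop
    rw [← comap_map_eq_self (le_sup_right.trans' (QuotientGroup.ker_mk' N).le : (QuotientGroup.mk' N).ker ≤ L₀ ⊔ N),
      Subgroup.map_sup, htop, top_sup_eq, comap_top]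

end Cfsg.Agent.S0092
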