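import Cfsg.Statements.S0094
import Cfsg.Agent.Lib.Transfer.ClassTwo
import Cfsg.Agent.Lib.FGB.PGroupBasic

set_option autoImplicit false
open Cfsg

namespace Cfsg.Agent.S0094

open Subgroup Cfsg.Agent.Transfer
open scoped commutatorElement Pointwise


/-- In a special p-group every central element has order dividing p. -/
theorem result {P : Type*} [Group P] [Finite P] {p : ℕ} [Fact p.Prime] (h : Cfsg.IsSpecial p P) (z : P) (hz : z ∈ Subgroup.center P) : z ^ p = 1 := by
  obtain ⟨hP, hΦ, hcomm⟩ := h
  have key : ∀ z ∈ commutator P, z ^ p = 1 := by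
    intro z hz
    rw [_root_.commutator_eq_closure] at hz
    induction hz using Subgroup.closure_induction with
    | mem g hg =>
      obtain ⟨x, y, rfl⟩ := hg
      have hc : ⁅x, y⁆ ∈ center P := hcomm ▸ commutator_mem_commutator (mem_top x) (mem_top y)
      rw [← commutator_pow_left (mem_center_iff.mp hc x) p, commutatorElement_eq_one_iff_commute]
      exact (mem_center_iff.mp (hΦ ▸ Cfsg.Agent.FGB.pow_mem_frattini hP x) y).symm
    | one => exact one_pow _
    | mul g g' hg hg' ih ih' =>
      have hc : Commute g g' := by
        have h1 : g' ∈ center P := hcomm ▸ (_root_.commutator_eq_closure P ▸ hg')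
        exact mem_center_iff.mp h1 g
      rw [hc.mul_pow, ih, ih', one_mul]
    | inv g hg ih => rw [inv_pow, ih, inv_one]
  exact key z (hcomm ▸ hz)

end Cfsg.Agent.S0094
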