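import Cfsg.Statements.S0095
import Cfsg.Agent.Lib.Transfer.Extraspecial
import Cfsg.Agent.Lib.FGB.PGroupBasic

set_option autoImplicit false
open Cfsg

namespace Cfsg.Agent.S0095

open Subgroup Cfsg.Agent.Transfer
open scoped commutatorElement Pointwise IsMulCommutative


/-- The order of an extraspecial p-group is an odd power p^(2n+1) of p with n ≥ 1. -/
theorem result {P : Type*} [Group P] [Finite P] {p : ℕ} [Fact p.Prime] (h : Cfsg.IsExtraspecial p P) : ∃ n : ℕ, 1 ≤ n ∧ Nat.card P = p ^ (2 * n + 1) := by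
  obtain ⟨⟨hP, hΦ, hcomm⟩, hZ⟩ := h
  obtain ⟨n, hn⟩ := card_eq_pow_odd_aux (p := p) _ rfl hP hZ
    (fun x y => hcomm ▸ commutator_mem_commutator (mem_top x) (mem_top y))
    (fun x => hΦ ▸ Cfsg.Agent.FGB.pow_mem_frattini hP x)
  refine ⟨n, Nat.one_le_iff_ne_zero.mpr fun h0 => ?_, hn⟩
  subst h0
  rw [mul_zero, zero_add, pow_one] at hn
  have htop : center P = ⊤ := eq_top_of_le_card _ (by rw [hn, hZ])
  have hb : commutator P = ⊥ := by
    rw [_root_.commutator_eq_closure, closure_eq_bot_iff]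
    rintro _ ⟨x, y, rfl⟩
    exact commutatorElement_eq_one_iff_commute.mpr
      (mem_center_iff.mp (htop ▸ mem_top y) x)
  rw [hcomm, htop] at hb
  have h1 : Nat.card P = 1 := by rw [← card_top (G := P), hb, card_bot]
  exact absurd (h1.symm.trans hn) (Fact.out : p.Prime).one_lt.ne

end Cfsg.Agent.S0095
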