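import Cfsg.Statements.S0096
import Cfsg.Agent.Lib.Transfer.ClassTwo

set_option autoImplicit false
open Cfsg

namespace Cfsg.Agent.S0096

open Subgroup Cfsg.Agent.Transfer
open scoped commutatorElement Pointwise


/-- For odd p, in a p-group of class at most two the elements of order dividing p generate a subgroup of exponent dividing p. -/
theorem result {P : Type*} [Group P] [Finite P] {p : ℕ} [Fact p.Prime] (hp : p ≠ 2) (hP : IsPGroup p P) (h2 : ⁅commutator P, (⊤ : Subgroup P)⁆ = ⊥) (g : P) (hg : g ∈ Subgroup.closure {x : P | x ^ p = 1}) : g ^ p = 1 := by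
  have hcen : ∀ x y : P, ∀ z : P, Commute ⁅x, y⁆ z := by
    intro x y z
    have h : ⁅⁅x, y⁆, z⁆ ∈ (⊥ : Subgroup P) := h2 ▸ commutator_mem_commutator
      (commutator_mem_commutator (mem_top x) (mem_top y)) (mem_top z)
    exact commutatorElement_eq_one_iff_commute.mp (mem_bot.mp h)
  induction hg using Subgroup.closure_induction with
  | mem x hx => exact hx
  | one => exact one_pow _
  | mul x y _ _ ihx ihy =>
    rw [mul_pow_of_commute (hcen y x x) (hcen y x y), ihx, ihy, one_mul, one_mul]
    have h3 : ⁅y, x⁆ ^ p = 1 := by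
      rw [← commutator_pow_left (hcen y x y).symm p, ihy, commutatorElement_one_left]
    obtain ⟨m, hm⟩ : p ∣ p.choose 2 :=
      Nat.Prime.dvd_choose_self (Fact.out : p.Prime) two_ne_zero
        (lt_of_le_of_ne (Fact.out : p.Prime).two_le (Ne.symm hp))
    rw [hm, pow_mul, h3, one_pow]
  | inv x _ ih => rw [inv_pow, ih, inv_one]

end Cfsg.Agent.S0096
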