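import Cfsg.Statements.S0097
import Cfsg.Agent.Lib.Transfer.ClassTwo
import Cfsg.Agent.Lib.FGB.PGroupBasic

set_option autoImplicit false
open Cfsg

namespace Cfsg.Agent.S0097

open Subgroup Cfsg.Agent.Transfer
open scoped commutatorElement Pointwise


/-- For odd p and E extraspecial, the subgroup generated by the elements of order dividing p has exponent dividing p and index at most p. -/
theorem result {E : Type*} [Group E] [Finite E] {p : ℕ} [Fact p.Prime] (hp : p ≠ 2) (h : Cfsg.IsExtraspecial p E) : (Subgroup.closure {x : E | x ^ p = 1}).index ≤ p ∧ ∀ g ∈ Subgroup.closure {x : E | x ^ p = 1}, g ^ p = 1 := by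
  obtain ⟨⟨hP, hΦ, hcomm⟩, hZ⟩ := h
  have hcen : ∀ x y : E, ∀ z : E, Commute ⁅x, y⁆ z := by
    intro x y z
    have h : ⁅x, y⁆ ∈ center E := hcomm ▸ commutator_mem_commutator (mem_top x) (mem_top y)
    exact (mem_center_iff.mp h z).symm
  have hpc : p ∣ p.choose 2 := Nat.Prime.dvd_choose_self (Fact.out : p.Prime) two_ne_zero
    (lt_of_le_of_ne (Fact.out : p.Prime).two_le (Ne.symm hp))
  have hmul : ∀ x y : E, (x * y) ^ p = x ^ p * y ^ p := by
    intro x y
    obtain ⟨m, hm⟩ := hpc
    have hc : ⁅y, x⁆ ∈ center E := hcomm ▸ commutator_mem_commutator (mem_top y) (mem_top x)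
    have h1 : (⟨⁅y, x⁆, hc⟩ : center E) ^ p = 1 := by rw [← hZ]; exact pow_card_eq_one'
    have h2 : ⁅y, x⁆ ^ p = 1 := congrArg Subtype.val h1
    rw [mul_pow_of_commute (hcen y x x) (hcen y x y), hm, pow_mul, h2, one_pow, mul_one]
  let φ : E →* center E :=
    { toFun := fun x => ⟨x ^ p, hΦ ▸ Cfsg.Agent.FGB.pow_mem_frattini hP x⟩
      map_one' := Subtype.ext (one_pow p)
      map_mul' := fun x y => Subtype.ext (hmul x y) }
  have hker : ∀ g ∈ Subgroup.closure {x : E | x ^ p = 1}, g ^ p = 1 := by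
    intro g hg
    have h1 : Subgroup.closure {x : E | x ^ p = 1} ≤ φ.ker :=
      (closure_le _).mpr fun x hx => Subtype.ext hx
    exact congrArg Subtype.val (MonoidHom.mem_ker.mp (h1 hg))
  refine ⟨?_, hker⟩
  have h2 : φ.ker ≤ Subgroup.closure {x : E | x ^ p = 1} :=
    fun x hx => subset_closure (congrArg Subtype.val (MonoidHom.mem_ker.mp hx))
  refine (Nat.le_of_dvd (Nat.pos_of_ne_zero index_ne_zero_of_finite) (index_dvd_of_le h2)).trans ?_
  rw [index_ker, ← hZ]
  exact card_le_card_group _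

end Cfsg.Agent.S0097
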