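import Cfsg.Statements.S0099
import Cfsg.Agent.Lib.Invol.ExtraspecialClass
-- import your own Cfsg.Agent.* helpers here

set_option autoImplicit false
open Cfsg

namespace Cfsg.Agent.S0099

/-- Among three extraspecial 2-groups of equal order, some two are isomorphic. -/
theorem result {E₁ : Type*} {E₂ : Type*} {E₃ : Type*} [Group E₁] [Group E₂] [Group E₃] [Finite E₁] [Finite E₂] [Finite E₃] (h₁ : Cfsg.IsExtraspecial 2 E₁) (h₂ : Cfsg.IsExtraspecial 2 E₂) (h₃ : Cfsg.IsExtraspecial 2 E₃) (h12 : Nat.card E₁ = Nat.card E₂) (h23 : Nat.card E₂ = Nat.card E₃) : Nonempty (E₁ ≃* E₂) ∨ Nonempty (E₂ ≃* E₃) ∨ Nonempty (E₁ ≃* E₃) := by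
  obtain ⟨m₁, -, c₁, r₁⟩ := Invol.ExtraspecialClass.rank_cases h₁
  obtain ⟨m₂, -, c₂, r₂⟩ := Invol.ExtraspecialClass.rank_cases h₂
  obtain ⟨m₃, -, c₃, r₃⟩ := Invol.ExtraspecialClass.rank_cases h₃
  have e12 : m₁ = m₂ := by
    have := Nat.pow_right_injective le_rfl (c₁.symm.trans (h12.trans c₂)); omega
  have e23 : m₂ = m₃ := by
    have := Nat.pow_right_injective le_rfl (c₂.symm.trans (h23.trans c₃)); omega
  subst e12 e23
  rcases r₁ with ⟨a₁, -⟩ | ⟨a₁, -⟩ <;> rcases r₂ with ⟨a₂, -⟩ | ⟨a₂, -⟩ <;>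
    rcases r₃ with ⟨a₃, -⟩ | ⟨a₃, -⟩ <;>
    first
    | exact Or.inl (Invol.ExtraspecialClass.iso_two h₁ h₂ h12 (by omega))
    | exact Or.inr (Or.inl (Invol.ExtraspecialClass.iso_two h₂ h₃ h23 (by omega)))
    | exact Or.inr (Or.inr (Invol.ExtraspecialClass.iso_two h₁ h₃ (h12.trans h23) (by omega)))

end Cfsg.Agent.S0099
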