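import Cfsg.Statements.S0100
import Cfsg.Agent.Lib.Invol.OddPSmall
-- import your own Cfsg.Agent.* helpers here

set_option autoImplicit false
open Cfsg

namespace Cfsg.Agent.S0100

/-- For odd p, a p-group without normal elementary abelian subgroups of order p^3 has p-rank at most 2. -/
theorem result {P : Type*} [Group P] [Finite P] {p : ℕ} [Fact p.Prime] (hp : p ≠ 2) (hP : IsPGroup p P) (h : ∀ A : Subgroup P, A.Normal → IsMulCommutative A → (∀ a ∈ A, a ^ p = 1) → Nat.card A ≠ p ^ 3) (E : Subgroup P) (hE : IsMulCommutative E) (hEe : ∀ e ∈ E, e ^ p = 1) : Nat.card E ≤ p ^ 2 := by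
  by_contra hlt
  obtain ⟨A, hAn, hA, hAc⟩ := Cfsg.Agent.OddLocal.exists_normal_ea_three hp hP ⟨hE, hEe⟩ (not_le.1 hlt)
  obtain ⟨n, hn⟩ := IsPGroup.iff_card.1 (hP.to_subgroup A)
  rw [hn, Nat.pow_lt_pow_iff_right (Fact.out : p.Prime).one_lt] at hAc
  obtain ⟨B, hBn, hBA, hBc⟩ := Cfsg.Agent.Invol.OddPSmall.exists_normal_card_pow hP n 3 A hAn hn hAc
  refine h B hBn ?_ (fun b hb => hA.2 b (hBA hb)) hBc
  exact Subgroup.le_centralizer_iff_isMulCommutative.1 (hBA.trans
    ((Subgroup.le_centralizer_iff_isMulCommutative.2 hA.1).trans (Subgroup.centralizer_le hBA)))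

end Cfsg.Agent.S0100
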