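import Cfsg.Statements.S0101
import Cfsg.Agent.Lib.Transfer.Abelian

set_option autoImplicit false
open Cfsg

namespace Cfsg.Agent.S0101

open Subgroup Cfsg.Agent.Transfer
open scoped commutatorElement Pointwise


/-- In a perfect central extension, the kernel meets each Sylow p-subgroup P inside the Frattini subgroup of P. -/
theorem result {H : Type*} {G : Type*} [Group H] [Group G] [Finite H] (σ : H →* G) (hσ : Function.Surjective σ) (hc : σ.ker ≤ Subgroup.center H) (hH : commutator H = ⊤) {p : ℕ} [Fact p.Prime] (P : Sylow p H) : σ.ker ⊓ (P : Subgroup H) ≤ (frattini P).map (P : Subgroup H).subtype := by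
  intro z hz
  obtain ⟨hzk, hzP⟩ := mem_inf.mp hz
  refine ⟨⟨z, hzP⟩, ?_, rfl⟩
  simp only [SetLike.mem_coe, frattini, Order.radical, Subgroup.mem_iInf]
  intro M hM
  haveI : M.Normal := NormalizerCondition.normal_of_coatom M (Group.normalizerCondition_of_isNilpotent (h := P.2.isNilpotent)) hM
  haveI hcom : IsMulCommutative ((P : Subgroup H) ⧸ M) := by
    obtain ⟨k, hk⟩ := (IsPGroup.iff_card).mp (P.2.to_quotient M)
    have hne : k ≠ 0 := by
      rintro rfl
      exact hM.1 (index_eq_one.mp (by simpa [index_eq_card] using hk))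
    obtain ⟨x, hx⟩ : ∃ x : (P : Subgroup H) ⧸ M, orderOf x = p := exists_prime_orderOf_dvd_card' p (hk ▸ dvd_pow_self p hne)
    obtain ⟨y, rfl⟩ := QuotientGroup.mk'_surjective M x
    have htop : (zpowers (QuotientGroup.mk' M y)).comap (QuotientGroup.mk' M) = ⊤ := by
      refine hM.2 _ (lt_of_le_of_ne (fun w hw => ?_) fun e => ?_)
      · have : QuotientGroup.mk' M w = 1 := (QuotientGroup.eq_one_iff w).mpr hw
        rw [mem_comap, this]; exact one_mem _
      · have hy : y ∈ M := by rw [e]; exact mem_zpowers _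
        rw [show QuotientGroup.mk' M y = 1 from (QuotientGroup.eq_one_iff y).mpr hy, orderOf_one] at hx
        exact (Fact.out : p.Prime).one_lt.ne hx
    haveI : IsCyclic ((P : Subgroup H) ⧸ M) := ⟨⟨QuotientGroup.mk' M y, fun w => by
      obtain ⟨v, rfl⟩ := QuotientGroup.mk'_surjective M w
      have : v ∈ (zpowers (QuotientGroup.mk' M y)).comap (QuotientGroup.mk' M) := by rw [htop]; trivial
      exact this⟩⟩
    exact IsCyclic.isMulCommutative
  open scoped IsMulCommutative in
  have h1 : (QuotientGroup.mk' M) ⟨z ^ (P : Subgroup H).index, pow_mem hzP _⟩ = 1 := by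
    have key : ∀ (k : ℕ) (g : H), g⁻¹ * z ^ k * g ∈ (P : Subgroup H) → g⁻¹ * z ^ k * g = z ^ k := fun k g _ => by
      have := mem_center_iff.mp (pow_mem (hc hzk) k) g
      rw [mul_assoc, ← this, inv_mul_cancel_left]
    rw [← MonoidHom.transfer_eq_pow (QuotientGroup.mk' M) z key]
    exact Abelianization.commutator_subset_ker _ (by rw [hH]; trivial)
  refine (QuotientGroup.eq_one_iff _).mp (eq_one_of_pow_of_coprime (p := p) (isPGroup_iff_orderOf_dvd_pow.mp (P.2.to_quotient M) _) ?_)
  refine Nat.Coprime.coprime_dvd_left (orderOf_dvd_of_pow_eq_one ?_) ((Fact.out : p.Prime).coprime_iff_not_dvd.mpr P.not_dvd_index).symm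
  rw [← QuotientGroup.mk'_apply, ← map_pow]
  exact h1

end Cfsg.Agent.S0101
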