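import Cfsg.Statements.S0102
import Cfsg.Agent.Lib.Transfer.Abelian

set_option autoImplicit false
open Cfsg

namespace Cfsg.Agent.S0102

open Subgroup Cfsg.Agent.Transfer
open scoped commutatorElement Pointwise


/-- A finite perfect group with cyclic Sylow p-subgroups has no perfect central extension whose kernel has order divisible by p. -/
theorem result {G : Type*} {H : Type*} [Group G] [Group H] [Finite G] [Finite H] (hG : commutator G = ⊤) {p : ℕ} [Fact p.Prime] (hcyc : ∀ P : Sylow p G, IsCyclic P) (σ : H →* G) (hσ : Function.Surjective σ) (hz : σ.ker ≤ Subgroup.center H) (hH : commutator H = ⊤) : ¬ p ∣ Nat.card σ.ker := by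
  intro hd
  have hzker := hz
  clear hz
  obtain ⟨z, hz⟩ := exists_prime_orderOf_dvd_card' p hd
  have hzord : orderOf (z : H) = p := by rw [Subgroup.orderOf_coe, hz]
  let P : Sylow p H := default
  let PG : Sylow p G := P.mapSurjective hσ
  haveI := hcyc PG
  have hmem : ∀ y : (P : Subgroup H), σ y ∈ (PG : Subgroup G) := fun y => ⟨y, y.2, rfl⟩
  let f : (P : Subgroup H) →* (PG : Subgroup G) := (σ.domRestrict (P : Subgroup H)).codRestrict _ hmem
  haveI : IsMulCommutative (P : Subgroup H) := by
    refine ⟨⟨fun a b => commutative_of_cyclic_center_quotient f ?_ a b⟩⟩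
    intro y hy
    rw [MonoidHom.mem_ker] at hy
    have h1 : (y : H) ∈ σ.ker := congrArg Subtype.val hy
    exact mem_center_iff.mpr fun b => Subtype.ext (mem_center_iff.mp (hzker h1) b)
  have hzZ := hzker z.2
  have hzP : (z : H) ∈ (P : Subgroup H) :=
    mem_sylow_of_mem_normalizer P (center_le_normalizer _ hzZ) ⟨1, by rw [hzord, pow_one]⟩
  have hbot := inf_commutator_center_eq_bot (P : Subgroup H) (sylow_card_coprime_index P)
  have h1 : (z : H) ∈ (P : Subgroup H) ⊓ commutator H ⊓ center H :=
    mem_inf.mpr ⟨mem_inf.mpr ⟨hzP, by rw [hH]; trivial⟩, hzZ⟩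
  rw [hbot, mem_bot] at h1
  rw [h1, orderOf_one] at hzord
  exact (Fact.out : p.Prime).one_lt.ne hzord

end Cfsg.Agent.S0102
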