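import Cfsg.Statements.S0104
import Cfsg.Agent.Lib.Transfer.Residual

set_option autoImplicit false
open Cfsg

namespace Cfsg.Agent.S0104

open Subgroup Cfsg.Agent.Transfer
open scoped commutatorElement Pointwise


/-- A subgroup Z of a Sylow p-subgroup P that is normalized by N_G(P) is weakly closed in P exactly when it is normal in every Sylow p-subgroup containing it. -/
theorem result {G : Type*} [Group G] [Finite G] {p : ℕ} [Fact p.Prime] (P : Sylow p G) (Z : Subgroup G) (hZP : Z ≤ (P : Subgroup G)) (hZN : Subgroup.normalizer (P : Set G) ≤ Subgroup.normalizer (Z : Set G)) : Cfsg.IsWeaklyClosed Z P ↔ ∀ R : Sylow p G, Z ≤ (R : Subgroup G) → (R : Subgroup G) ≤ Subgroup.normalizer (Z : Set G) := by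
  constructor
  · intro hW R hR
    obtain ⟨t, rfl⟩ := MulAction.exists_smul_eq G P R
    have hm : Z.map (MulAut.conj t⁻¹).toMonoidHom ≤ (P : Subgroup G) := by
      rintro _ ⟨z, hz, rfl⟩
      have := hR hz
      rw [Sylow.coe_subgroup_smul, mem_pointwise_smul_iff_inv_smul_mem] at this
      simpa using this
    have htN : t⁻¹ ∈ normalizer (Z : Set G) := mem_normalizer_iff_map_conj_eq.mpr (hW.2 _ hm)
    intro x hx
    rw [Sylow.coe_subgroup_smul] at hx
    obtain ⟨y, hy, rfl⟩ := hx
    have := mul_mem (mul_mem (inv_mem htN) (hZN (le_normalizer hy))) htN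
    simpa using this
  · intro h
    refine ⟨hZP, fun g hg => mem_normalizer_iff_map_conj_eq.mp ?_⟩
    have hR : Z ≤ ((g⁻¹ • P : Sylow p G) : Subgroup G) := by
      intro z hz
      refine ⟨g * z * g⁻¹, hg ⟨z, hz, rfl⟩, ?_⟩
      show g⁻¹ * (g * z * g⁻¹) * g⁻¹⁻¹ = z
      group
    have hN := h _ hR
    obtain ⟨c, hc⟩ := MulAction.exists_smul_eq (normalizer (Z : Set G)) (P.subtype (le_normalizer.trans hZN)) ((g⁻¹ • P).subtype hN)
    rw [Sylow.smul_subtype] at hc
    have hc2 := Sylow.subtype_injective hc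
    have : g * (c : G) ∈ normalizer (P : Set G) := by
      rw [← Sylow.smul_eq_iff_mem_normalizer, mul_smul]
      rw [show (c : G) • P = g⁻¹ • P from hc2, smul_inv_smul]
    have h2 := mul_mem (hZN this) (inv_mem c.2)
    rwa [mul_inv_cancel_right] at h2

end Cfsg.Agent.S0104
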