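import Cfsg.Statements.S0105
import Cfsg.Agent.Lib.Transfer.Abelian

set_option autoImplicit false
open Cfsg

namespace Cfsg.Agent.S0105

open Subgroup Cfsg.Agent.Transfer
open scoped commutatorElement Pointwise


/-- With an abelian Sylow p-subgroup P, some quotient of G is isomorphic to the part of P central in N_G(P). -/
theorem result {G : Type*} [Group G] [Finite G] {p : ℕ} [Fact p.Prime] (P : Sylow p G) (hP : IsMulCommutative P) : ∃ (N : Subgroup G) (hN : N.Normal), Nonempty (G ⧸ N ≃* ((P : Subgroup G) ⊓ Subgroup.centralizer (Subgroup.normalizer (P : Set G) : Set G) : Subgroup G)) := by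
  haveI := hP
  open scoped IsMulCommutative in
  classical
  set Z : Subgroup G := (P : Subgroup G) ⊓ centralizer (normalizer (P : Set G) : Set G) with hZ
  set f := normalizerMonoidHom (P : Subgroup G) with hf
  haveI : Fintype f.range := Fintype.ofFinite _
  open scoped IsMulCommutative in
  let av : (P : Subgroup G) →* (P : Subgroup G) :=
    { toFun := fun x => ∏ σ : f.range, (σ : MulAut (P : Subgroup G)) x
      map_one' := Finset.prod_eq_one fun σ _ => map_one _
      map_mul' := fun a b => by simp [Finset.prod_mul_distrib] }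
  have hinv : ∀ (σ : f.range) (x : (P : Subgroup G)), (σ : MulAut (P : Subgroup G)) (av x) = av x := by
    intro σ x
    open scoped IsMulCommutative in
    show (σ : MulAut (P : Subgroup G)) (∏ τ : f.range, (τ : MulAut (P : Subgroup G)) x) = ∏ τ : f.range, (τ : MulAut (P : Subgroup G)) x
    open scoped IsMulCommutative in
    rw [map_prod]
    open scoped IsMulCommutative in
    exact Fintype.prod_equiv (Equiv.mulLeft σ) _ _ fun τ => rfl
  have havZ : ∀ x, ((av x : (P : Subgroup G)) : G) ∈ Z := by
    intro x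
    refine mem_inf.mpr ⟨(av x).2, fun n hn => ?_⟩
    have h1 := congrArg Subtype.val (hinv ⟨f ⟨n, hn⟩, ⟨_, rfl⟩⟩ x)
    have h2 : n * ((av x : (P : Subgroup G)) : G) * n⁻¹ = av x := h1
    exact mul_inv_eq_iff_eq_mul.mp h2
  have hfix : ∀ (z : (P : Subgroup G)), (z : G) ∈ Z → av z = z ^ Nat.card f.range := by
    intro z hz
    open scoped IsMulCommutative in
    show (∏ σ : f.range, (σ : MulAut (P : Subgroup G)) z) = _
    rw [Nat.card_eq_fintype_card, ← Finset.card_univ, ← Finset.prod_const]
    refine Finset.prod_congr rfl ?_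
    rintro ⟨_, ⟨n, hn⟩, rfl⟩ -
    refine Subtype.ext ?_
    show n * (z : G) * n⁻¹ = z
    rw [(mem_inf.mp hz).2 n hn, mul_inv_cancel_right]
  open scoped IsMulCommutative in
  let τ : G →* (P : Subgroup G) := MonoidHom.transfer (MonoidHom.id _)
  let φ : G →* Z := ((P : Subgroup G).subtype.comp (av.comp τ)).codRestrict Z fun g => havZ (τ g)
  have hcop : (Nat.card Z).Coprime ((P : Subgroup G).index * Nat.card f.range) := by
    refine Nat.Coprime.coprime_dvd_left (card_dvd_of_le inf_le_left) ?_
    refine Nat.Coprime.mul_right P.card_coprime_index ?_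
    refine Nat.Coprime.coprime_dvd_right ?_ P.card_coprime_index
    rw [← index_ker, hf, normalizerMonoidHom_ker]
    refine (index_dvd_of_le (H := (P : Subgroup G).subgroupOf _) fun y hy => ?_).trans (relIndex_dvd_index_of_le le_normalizer)
    exact (le_centralizer (P : Subgroup G)) hy
  have hsurj : Function.Surjective φ := by
    intro z
    obtain ⟨w, hw⟩ := (powCoprime hcop).surjective z
    refine ⟨(w : G), ?_⟩
    rw [← hw]
    apply Subtype.ext
    show ((av (τ (w : G)) : (P : Subgroup G)) : G) = ((w ^ ((P : Subgroup G).index * Nat.card f.range) : Z) : G)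
    have hwP : (w : G) ∈ (P : Subgroup G) := (mem_inf.mp w.2).1
    have key : ∀ (k : ℕ) (g : G), g⁻¹ * (w : G) ^ k * g ∈ (P : Subgroup G) → g⁻¹ * (w : G) ^ k * g = (w : G) ^ k := by
      intro k g hg
      obtain ⟨n, hn, he⟩ := P.conj_eq_normalizer_conj_of_mem _ g (pow_mem hwP k) hg
      rw [he, mul_assoc, ← (mem_inf.mp (pow_mem w.2 k)).2 n hn, inv_mul_cancel_left]
    open scoped IsMulCommutative in
    have h1 : τ (w : G) = ⟨(w : G) ^ (P : Subgroup G).index, pow_mem hwP _⟩ := MonoidHom.transfer_eq_pow (MonoidHom.id _) (w : G) key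
    rw [h1, hfix _ (pow_mem w.2 _), SubmonoidClass.coe_pow, SubmonoidClass.coe_pow, pow_mul]
  exact ⟨φ.ker, MonoidHom.normal_ker _, ⟨QuotientGroup.quotientKerEquivOfSurjective φ hsurj⟩⟩

end Cfsg.Agent.S0105
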