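import Cfsg.Statements.S0106
import Cfsg.Agent.Lib.Transfer.Fusion
import Cfsg.Agent.Lib.Basics.Tools
import Cfsg.Agent.Lib.Invol.Quaternion
import Cfsg.Agent.Lib.ConjFunctor.Basic
import Cfsg.Agent.Lib.LocalEvenA.SL23Recog

set_option autoImplicit false
open Cfsg

namespace Cfsg.Agent.S0106

open Subgroup
open Cfsg.Agent.ConjFunctor (cj)

variable {G : Type*} [Group G] [Finite G]

/-- An element of odd order normalizing a cyclic `2`-group centralizes it. -/
theorem commute_of_normalizes_cyclic {c g : G} {j : ℕ} (hc : orderOf c = 2 ^ j)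
    (hg : (orderOf g).Coprime 2) (h : g * c * g⁻¹ ∈ zpowers c) : Commute g c := by
  obtain ⟨k, hk⟩ := (Submonoid.mem_powers_iff _ _).mp (mem_powers_iff_mem_zpowers.mpr h)
  have hiter : ∀ i : ℕ, g ^ i * c * (g ^ i)⁻¹ = c ^ k ^ i := by
    intro i
    induction i with
    | zero => simp
    | succ i ih =>
      calc g ^ (i + 1) * c * (g ^ (i + 1))⁻¹ = g * (g ^ i * c * (g ^ i)⁻¹) * g⁻¹ := by
            rw [pow_succ']; group
        _ = (g * c * g⁻¹) ^ k ^ i := by rw [ih, conj_pow]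
        _ = c ^ k ^ (i + 1) := by rw [← hk, ← pow_mul, pow_succ']
  rcases Nat.eq_zero_or_pos j with rfl | hj
  · rw [pow_zero, orderOf_eq_one_iff] at hc
    rw [hc]; exact Commute.one_right g
  have hkodd : k.Coprime (2 ^ j) := by
    refine Nat.Coprime.pow_right j ((Nat.coprime_comm).mp (Nat.prime_two.coprime_iff_not_dvd.mpr ?_))
    rintro ⟨m, rfl⟩
    have h1 : orderOf (g * c * g⁻¹) = 2 ^ j := by
      rw [← hc]; exact orderOf_injective (MulAut.conj g).toMonoidHom (MulAut.conj g).injective c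
    obtain ⟨i, rfl⟩ : ∃ i, j = i + 1 := ⟨j - 1, by omega⟩
    have h2 : (g * c * g⁻¹) ^ 2 ^ i = 1 := by
      rw [← hk, ← pow_mul, ← orderOf_dvd_iff_pow_eq_one, hc, pow_succ]
      exact ⟨m, by ring⟩
    have h3 := orderOf_dvd_of_pow_eq_one h2
    rw [h1] at h3
    have := Nat.le_of_dvd (pow_pos (by norm_num) i) h3
    rw [pow_succ] at this
    have := pow_pos (show 0 < 2 by norm_num) i
    omega
  have hfix : g ^ Nat.totient (2 ^ j) * c * (g ^ Nat.totient (2 ^ j))⁻¹ = c := by
    rw [hiter]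
    conv_rhs => rw [← pow_one c]
    rw [pow_eq_pow_iff_modEq, hc]
    exact Nat.ModEq.pow_totient hkodd
  have hco : (orderOf g).Coprime (Nat.totient (2 ^ j)) := by
    rw [Nat.totient_prime_pow Nat.prime_two hj, show (2 - 1 : ℕ) = 1 from rfl, mul_one]
    exact hg.pow_right _
  obtain ⟨m, hm⟩ := exists_pow_eq_self_of_coprime hco.symm
  rw [← hm]
  exact Commute.pow_left (show Commute _ _ from mul_inv_eq_iff_eq_mul.mp hfix) m

theorem commute_of_sq {g c : G} {i : ℕ} (hg : (orderOf g).Coprime 2) (h : Commute (g ^ (2 * i)) c) :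
    Commute (g ^ i) c := by
  have hco : (orderOf (g ^ i)).Coprime 2 := hg.coprime_dvd_left (orderOf_pow_dvd i)
  obtain ⟨m, hm⟩ := exists_pow_eq_self_of_coprime (x := g ^ i) (n := 2) hco.symm
  rw [← hm, ← pow_mul g, mul_comm i 2]
  exact h.pow_left m

/-- The section in the presence of a quaternion group acted on with order three. -/
theorem section_of_action {D : Subgroup G} (e : QuaternionGroup 2 ≃* D) {g : G}
    (hg : g ∈ normalizer (D : Set G)) (hgo : (orderOf g).Coprime 2)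
    (hgc : ¬ ∀ x ∈ D, Commute g x) (hg3 : ∀ x ∈ D, Commute (g ^ 3) x) :
    ∃ (H K : Subgroup G) (_ : (K.subgroupOf H).Normal),
      Nonempty ((H ⧸ K.subgroupOf H) ≃* Matrix.SpecialLinearGroup (Fin 2) (ZMod 3)) := by
  set H := D ⊔ zpowers g with hH
  set K := zpowers (g ^ 3) with hK
  have hcardD : Nat.card D = 8 := (Invol.q8_facts e.symm).1
  have hKH : K ≤ H := zpowers_le.mpr (H.pow_mem (mem_sup_right (mem_zpowers g)) 3)
  have hHN : H ≤ normalizer (K : Set G) := by
    have hgen : H ≤ centralizer ({g ^ 3} : Set G) := by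
      refine sup_le (fun x hx y hy => ?_) (zpowers_le.mpr fun y hy => ?_)
      · rw [Set.mem_singleton_iff.mp hy]; exact (hg3 x hx).eq
      · rw [Set.mem_singleton_iff.mp hy]; exact ((Commute.refl g).pow_left 3).eq
    intro x hx
    refine ConjFunctor.cj_eq_iff.mp ?_
    rw [ConjFunctor.cj, MonoidHom.map_zpowers]
    congr 1
    show x * g ^ 3 * x⁻¹ = g ^ 3
    rw [← hgen hx _ rfl, mul_inv_cancel_right]
  haveI hKn : (K.subgroupOf H).Normal := (normal_subgroupOf_iff_le_normalizer hKH).mpr hHN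
  refine ⟨H, K, hKn, ?_⟩
  have h3 : 3 ∣ orderOf g := by
    by_contra h3
    obtain ⟨m, hm⟩ := exists_pow_eq_self_of_coprime (x := g) (n := 3)
      (Nat.prime_three.coprime_iff_not_dvd.mpr h3)
    exact hgc fun x hx => hm ▸ (hg3 x hx).pow_left m
  have hord3 : orderOf (g ^ 3) * 3 = orderOf g := by
    rw [orderOf_pow' g (by norm_num), Nat.gcd_eq_right h3, Nat.div_mul_cancel h3]
  have hcop : (Nat.card D).Coprime (Nat.card (zpowers g)) := by
    rw [hcardD, Nat.card_zpowers, show (8 : ℕ) = 2 ^ 3 from rfl]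
    exact Nat.Coprime.pow_left 3 hgo.symm
  have hcardH : Nat.card H = 8 * orderOf g := by
    rw [hH, Basics.card_sup_of_coprime (zpowers_le.mpr hg) hcop, hcardD, Nat.card_zpowers]
  set q := QuotientGroup.mk' (K.subgroupOf H)
  have hcardQ : Nat.card (H ⧸ K.subgroupOf H) = 24 := by
    have h1 := (K.subgroupOf H).card_eq_card_quotient_mul_card_subgroup
    rw [hcardH, Nat.card_congr (subgroupOfEquivOfLe hKH).toEquiv, hK, Nat.card_zpowers, ← hord3] at h1
    have h2 : orderOf (g ^ 3) * 24 = orderOf (g ^ 3) * Nat.card (H ⧸ K.subgroupOf H) := by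
      linarith
    exact (Nat.eq_of_mul_eq_mul_left (orderOf_pos _) h2).symm
  let ι : D →* H ⧸ K.subgroupOf H := q.comp (inclusion le_sup_left)
  have hdisj : ∀ x ∈ D, x ∈ zpowers g → x = 1 := fun x hx hx' =>
    mem_bot.mp ((disjoint_iff.mp (disjoint_of_coprime_natCard hcop)).le ⟨hx, hx'⟩)
  have hι : Function.Injective ι := by
    rw [injective_iff_map_eq_one]
    intro x hx
    have h1 : (x : G) ∈ K := mem_subgroupOf.mp
      ((QuotientGroup.eq_one_iff (N := K.subgroupOf H) (inclusion le_sup_left x)).mp hx)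
    exact Subtype.ext (hdisj x x.2 ((zpowers_le.mpr (pow_mem (mem_zpowers g) 3)) h1))
  haveI hPn : ι.range.Normal := by
    have h1 : (D.subgroupOf H).Normal := (normal_subgroupOf_iff_le_normalizer le_sup_left).mpr
      (sup_le le_normalizer (zpowers_le.mpr hg))
    have h2 : ι.range = (D.subgroupOf H).map q := by
      rw [MonoidHom.range_comp]
      congr 1
      ext x
      exact ⟨fun ⟨d, hd⟩ => hd ▸ d.2, fun hx => ⟨⟨x, hx⟩, Subtype.ext rfl⟩⟩
    rw [h2]
    exact h1.map q (QuotientGroup.mk'_surjective _)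
  set a := q ⟨g, mem_sup_right (mem_zpowers g)⟩ with ha
  obtain ⟨x, hx, hxg⟩ : ∃ x ∈ D, ¬ Commute g x := by
    by_contra h
    push Not at h
    exact hgc h
  have hmoved : a * ι ⟨x, hx⟩ * a⁻¹ ≠ ι ⟨x, hx⟩ := by
    intro h
    have hgx : g * x * g⁻¹ ∈ D := (mem_normalizer_iff.mp hg x).mp hx
    have h' : ι ⟨g * x * g⁻¹, hgx⟩ = ι ⟨x, hx⟩ := by
      rw [← h, ha]
      simp only [ι, MonoidHom.comp_apply, ← map_inv, ← map_mul]
      rfl
    exact hxg (mul_inv_eq_iff_eq_mul.mp (congrArg Subtype.val (hι h')))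
  have hordA : orderOf a = 3 := by
    haveI := Fact.mk Nat.prime_three
    refine orderOf_eq_prime ?_ fun h => hmoved (by rw [h, one_mul, inv_one, mul_one])
    rw [ha, ← map_pow]
    exact (QuotientGroup.eq_one_iff _).mpr (mem_subgroupOf.mpr (mem_zpowers _))
  exact LocalEvenA.sl23_of_q8 hcardQ ι.range
    ((MonoidHom.ofInjective hι).symm.trans e.symm) a hordA ⟨_, ⟨⟨x, hx⟩, rfl⟩, hmoved⟩


/-- A finite group with generalized quaternion Sylow 2-subgroups either has a normal 2-complement or has a section isomorphic to SL(2,3). -/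
theorem result {G : Type*} [Group G] [Finite G] (T : Sylow 2 G) (n : ℕ) (hn : 1 ≤ n) (hT : Nonempty ((T : Subgroup G) ≃* QuaternionGroup (2 ^ n))) : Cfsg.HasNormalPComplement 2 G ∨ ∃ (H K : Subgroup G) (hK : (K.subgroupOf H).Normal), Nonempty ((H ⧸ K.subgroupOf H) ≃* Matrix.SpecialLinearGroup (Fin 2) (ZMod 3)) := by
  haveI : Fact (Nat.Prime 2) := ⟨Nat.prime_two⟩
  obtain ⟨f⟩ := hT
  refine or_iff_not_imp_left.mpr fun hno => ?_
  obtain ⟨D₀, hD₀, g₀, hg₀, hgo₀, hgc₀⟩ : ∃ D : Subgroup G, IsPGroup 2 D ∧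
      ∃ g ∈ normalizer (D : Set G), (orderOf g).Coprime 2 ∧ g ∉ centralizer (D : Set G) := by
    by_contra h
    push Not at h
    exact hno (Transfer.hasNormalPComplement_of_frobenius h)
  obtain ⟨b, -, hb⟩ := ConjFunctor.exists_conj_le_of_isSylIn (ConjFunctor.isSylIn_top T)
    (le_top : D₀ ≤ ⊤) hD₀
  set D := cj b D₀ with hD
  set g := b * g₀ * b⁻¹ with hgdef
  have hg : g ∈ normalizer (D : Set G) := by
    rw [hD, ← ConjFunctor.cj_normalizer]; exact ⟨g₀, hg₀, rfl⟩
  have hgo : (orderOf g).Coprime 2 := by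
    rwa [show orderOf g = orderOf g₀ from
      orderOf_injective (MulAut.conj b).toMonoidHom (MulAut.conj b).injective g₀]
  have hgc : ¬ ∀ x ∈ D, Commute g x := fun h => hgc₀ fun x hx => by
    have := (h _ ⟨x, hx, rfl⟩).map (MulAut.conj b⁻¹).toMonoidHom
    simp [hgdef, mul_assoc] at this
    exact this.eq.symm
  have hgi : ∀ i : ℕ, ∀ x ∈ D, g ^ i * x * (g ^ i)⁻¹ ∈ D := fun i x hx =>
    (mem_normalizer_iff.mp (pow_mem hg i) x).mp hx
  -- the structure of `T`
  set m := 2 ^ n with hm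
  haveI : NeZero m := ⟨by positivity⟩
  let F : QuaternionGroup m →* G := (T : Subgroup G).subtype.comp f.symm.toMonoidHom
  have hF : Function.Injective F := Subtype.val_injective.comp f.symm.injective
  set d := F (QuaternionGroup.a 1) with hd
  have hdord : orderOf d = 2 * m := by rw [hd, orderOf_injective F hF, QuaternionGroup.orderOf_a_one]
  have hTmem : ∀ t ∈ (T : Subgroup G), t ∈ zpowers d ∨ (t * t = d ^ m ∧ t * d * t⁻¹ = d⁻¹) := by
    intro t ht
    obtain ⟨u, hu⟩ : ∃ u, F u = t := ⟨f ⟨t, ht⟩, by simp [F]⟩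
    rcases u with i | i
    · left
      rw [← hu, ← ZMod.natCast_zmod_val i, ← QuaternionGroup.a_one_pow, map_pow]
      exact npow_mem_zpowers d _
    · right
      have hx : (QuaternionGroup.xa i : QuaternionGroup m) * QuaternionGroup.a 1 *
          (QuaternionGroup.xa i)⁻¹ = (QuaternionGroup.a 1)⁻¹ := by
        rw [mul_inv_eq_iff_eq_mul, QuaternionGroup.xa_mul_a, show
          (QuaternionGroup.a (1 : ZMod (2 * m)))⁻¹ = QuaternionGroup.a (-1) from rfl,
          QuaternionGroup.a_mul_xa]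
        congr 1; ring
      have hx2 : (QuaternionGroup.xa i : QuaternionGroup m) * QuaternionGroup.xa i =
          QuaternionGroup.a 1 ^ m := by
        rw [QuaternionGroup.xa_mul_xa, QuaternionGroup.a_one_pow]
        congr 1; ring
      refine ⟨?_, ?_⟩
      · rw [← hu, ← map_mul, hx2, map_pow]
      · rw [← hu, hd, ← map_inv, ← map_mul, ← map_mul, hx, map_inv]
  have h2ord : ∀ x ∈ D, ∃ j, orderOf x = 2 ^ j := fun x hx => by
    obtain ⟨j, hj⟩ := IsPGroup.iff_orderOf.mp T.2 ⟨x, hb hx⟩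
    exact ⟨j, by rw [← hj, Subgroup.orderOf_mk]⟩
  have hfix : ∀ (i : ℕ) (x : G), x ∈ D → g ^ i * x * (g ^ i)⁻¹ ∈ zpowers x →
      Commute (g ^ i) x := fun i x hx h => by
    obtain ⟨j, hj⟩ := h2ord x hx
    exact commute_of_normalizes_cyclic hj (hgo.coprime_dvd_left (orderOf_pow_dvd i)) h
  -- `D` is not cyclic
  have hncyc : ∀ y ∈ D, ¬ D ≤ zpowers y := fun y hy h => hgc fun x hx => by
    have h1 := hfix 1 y hy (by simpa using h (hgi 1 y hy))
    rw [pow_one] at h1
    obtain ⟨k, rfl⟩ := mem_zpowers_iff.mp (h hx)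
    exact h1.zpow_right k
  obtain ⟨y, hy, hyd⟩ : ∃ y ∈ D, y ∉ zpowers d := by
    by_contra h
    push Not at h
    obtain ⟨c, hc⟩ := (Subgroup.isCyclic_iff_exists_zpowers_eq_top _).mp
      (Subgroup.isCyclic_of_le (show D ≤ zpowers d from h))
    exact hncyc c (hc ▸ mem_zpowers c) (by rw [hc])
  obtain ⟨hyy, hyinv⟩ := (hTmem y (hb hy)).resolve_left hyd
  obtain ⟨c, hc⟩ := (Subgroup.isCyclic_iff_exists_zpowers_eq_top _).mp
    (Subgroup.isCyclic_of_le (show D ⊓ zpowers d ≤ zpowers d from inf_le_right))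
  have hcD : c ∈ D ∧ c ∈ zpowers d := mem_inf.mp (hc ▸ mem_zpowers c)
  have hyc : y * c * y⁻¹ = c⁻¹ := by
    obtain ⟨k, hk⟩ := mem_zpowers_iff.mp hcD.2
    rw [← hk, ← conj_zpow, hyinv, inv_zpow]
  have hz : d ^ m ∈ zpowers y := ⟨2, by show y ^ (2 : ℤ) = _; rw [← hyy, zpow_two]⟩
  have hDdec : ∀ x ∈ D, x ∈ zpowers c ∨ ∃ k : ℤ, x = y * c ^ k := by
    intro x hx
    by_cases hxd : x ∈ zpowers d
    · exact Or.inl (hc.ge (mem_inf.mpr ⟨hx, hxd⟩))
    obtain ⟨hxx, hxinv⟩ := (hTmem x (hb hx)).resolve_left hxd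
    right
    -- both invert `d`, so the quotient commutes with `d`
    have h1 : (y⁻¹ * x) * d * (y⁻¹ * x)⁻¹ = d := by
      calc (y⁻¹ * x) * d * (y⁻¹ * x)⁻¹ = y⁻¹ * (x * d * x⁻¹) * y := by group
        _ = y⁻¹ * (y * d * y⁻¹) * y := by rw [hxinv, hyinv]
        _ = d := by group
    have h2 : y⁻¹ * x ∈ zpowers d := by
      rcases hTmem _ (mul_mem (inv_mem (hb hy)) (hb hx)) with h | ⟨-, h⟩
      · exact h
      · exfalso
        rw [h1] at h
        have h3 : d ^ 2 = 1 := by rw [sq]; nth_rw 2 [h]; exact mul_inv_cancel d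
        have h4 := orderOf_dvd_of_pow_eq_one h3
        rw [hdord] at h4
        have h5 := Nat.le_of_dvd (by norm_num) h4
        have : 2 ≤ m := Nat.le_self_pow (by omega) 2
        omega
    obtain ⟨k, hk⟩ := mem_zpowers_iff.mp (hc.ge (mem_inf.mpr ⟨mul_mem (inv_mem hy) hx, h2⟩))
    exact ⟨k, by rw [hk, mul_inv_cancel_left]⟩
  have hout : ∀ x ∈ D, x ∉ zpowers c → x ^ 4 = 1 := fun x hx hxc => by
    have hxd : x ∉ zpowers d := fun h => hxc (hc.ge (mem_inf.mpr ⟨hx, h⟩))
    rw [show (4 : ℕ) = 2 * 2 from rfl, pow_mul, sq x, ((hTmem x (hb hx)).resolve_left hxd).1,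
      ← pow_mul, ← orderOf_dvd_iff_pow_eq_one, hdord, mul_comm m 2]
  have hc2 : c ^ 2 = d ^ m ∧ orderOf c = 4 := by
    obtain ⟨k, hk⟩ := (Submonoid.mem_powers_iff _ _).mp (mem_powers_iff_mem_zpowers.mpr hcD.2)
    by_cases h4 : c ^ 4 = 1
    swap
    · exfalso
      -- `⟨c⟩` is fixed
      have h1 : g * c * g⁻¹ ∈ zpowers c := by
        by_contra h
        exact h4 (by
          have h' := hout _ (by simpa using hgi 1 c hcD.1) h
          rwa [conj_pow, conj_eq_one_iff] at h')
      have hgcc : Commute g c := by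
        have := hfix 1 c hcD.1 (by simpa using h1)
        rwa [pow_one] at this
      obtain ⟨i, hi⟩ : ∃ i : ℤ, g * y * g⁻¹ = y * c ^ i := by
        refine (hDdec _ (by simpa using hgi 1 y hy)).resolve_left fun h => hyd ?_
        obtain ⟨k, hk⟩ := mem_zpowers_iff.mp h
        have : y = c ^ k := by
          calc y = g⁻¹ * (g * y * g⁻¹) * g := by group
            _ = g⁻¹ * c ^ k * g := by rw [hk]
            _ = c ^ k := by rw [mul_assoc, ← (hgcc.zpow_right k).eq, inv_mul_cancel_left]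
        exact this ▸ zpow_mem hcD.2 k
      have hiter : ∀ r : ℕ, g ^ r * y * (g ^ r)⁻¹ = y * (c ^ i) ^ r := by
        intro r
        induction r with
        | zero => simp
        | succ r ih =>
          calc g ^ (r + 1) * y * (g ^ (r + 1))⁻¹ = g * (g ^ r * y * (g ^ r)⁻¹) * g⁻¹ := by
                rw [pow_succ']; group
            _ = (g * y * g⁻¹) * (g * (c ^ i) ^ r * g⁻¹) := by rw [ih]; group
            _ = _ := by
                rw [hi, ((hgcc.zpow_right i).pow_right r).eq, mul_inv_cancel_right, mul_assoc,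
                  pow_succ']
      have h2 := hiter (orderOf g)
      rw [pow_orderOf_eq_one, one_mul, inv_one, mul_one, eq_comm, mul_eq_left] at h2
      have h3 : c ^ i = 1 := by
        obtain ⟨j, hj⟩ := h2ord _ (zpow_mem hcD.1 i)
        exact orderOf_eq_one_iff.mp (Nat.eq_one_of_dvd_coprimes (hgo.pow_right j)
          (orderOf_dvd_of_pow_eq_one h2) hj.dvd)
      rw [h3, mul_one] at hi
      exact hgc fun x hx => by
        rcases hDdec x hx with h | ⟨k, rfl⟩
        · obtain ⟨k, rfl⟩ := mem_zpowers_iff.mp h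
          exact hgcc.zpow_right k
        · exact (show Commute g y from mul_inv_eq_iff_eq_mul.mp hi).mul_right (hgcc.zpow_right k)
    by_cases h2 : c ^ 2 = 1
    · exfalso
      have hcz : c ∈ zpowers y := by
        have h5 : 2 * m ∣ k * 2 := by
          rw [← hdord]; exact orderOf_dvd_of_pow_eq_one (by rw [pow_mul, hk, h2])
        obtain ⟨w, hw⟩ := (Nat.dvd_of_mul_dvd_mul_right (by norm_num) (mul_comm 2 m ▸ h5) : m ∣ k)
        rw [← hk, hw, pow_mul]
        exact pow_mem hz w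
      refine hncyc y hy fun x hx => ?_
      rcases hDdec x hx with h | ⟨k', rfl⟩
      · exact zpowers_le.mpr hcz h
      · exact mul_mem (mem_zpowers y) (zpow_mem hcz k')
    have hord4 : orderOf c = 4 := by
      rw [show (4 : ℕ) = 2 ^ (1 + 1) from rfl]
      exact orderOf_eq_prime_pow (by rwa [pow_one]) h4
    refine ⟨?_, hord4⟩
    have h5 : 2 * m ∣ k * 4 := by
      rw [← hdord]; exact orderOf_dvd_of_pow_eq_one (by rw [pow_mul, hk, h4])
    obtain ⟨w, hw⟩ : m ∣ k * 2 := by
      have : 2 * m ∣ 2 * (k * 2) := by rwa [show 2 * (k * 2) = k * 4 by ring]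
      exact Nat.dvd_of_mul_dvd_mul_left (by norm_num) this
    rw [← hk, ← pow_mul, hw, pow_eq_pow_iff_modEq, hdord]
    rcases Nat.even_or_odd' w with ⟨v, rfl | rfl⟩
    · exfalso
      apply h2
      rw [← hk, ← pow_mul, hw, ← orderOf_dvd_iff_pow_eq_one, hdord]
      exact ⟨v, by ring⟩
    · rw [Nat.modEq_iff_dvd]
      exact ⟨-(v : ℤ), by push_cast; ring⟩
  obtain ⟨hc2, hcord⟩ := hc2
  have hcm : y ∉ zpowers c := fun h => hyd (zpowers_le.mpr hcD.2 h)
  have hgen : closure ({y, c} : Set G) = D := by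
    refine le_antisymm ((closure_le _).mpr ?_) fun x hx => ?_
    · rintro x (rfl | rfl)
      · exact hy
      · exact hcD.1
    rcases hDdec x hx with h | ⟨k, rfl⟩
    · exact zpowers_le.mpr (subset_closure (by simp)) h
    · exact mul_mem (subset_closure (by simp)) (zpow_mem (subset_closure (by simp)) k)
  obtain ⟨e⟩ := Invol.nonempty_quaternionEquiv hyc 2 (by rw [hcord]) (by rw [hyy, hc2]) hcm
  -- three cyclic subgroups of order four
  have hz' : c ^ 2 ∈ zpowers y := hc2 ▸ hz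
  have hcls : ∀ x ∈ D, x ∈ zpowers c ∨ x ∈ zpowers y ∨ x ∈ zpowers (y * c) := by
    intro x hx
    rcases hDdec x hx with h | ⟨k, rfl⟩
    · exact Or.inl h
    right
    rcases Int.even_or_odd' k with ⟨v, rfl | rfl⟩
    · left
      rw [zpow_mul, zpow_two, ← sq]
      exact mul_mem (mem_zpowers y) (zpow_mem hz' v)
    · right
      have hsq : (y * c) ^ 2 = c ^ 2 := by
        calc (y * c) ^ 2 = y * c * y⁻¹ * (y * y) * c := by rw [sq]; group
          _ = c⁻¹ * c ^ 2 * c := by rw [hyc, hyy, hc2]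
          _ = c ^ 2 := by group
      rw [zpow_add, zpow_mul, zpow_one, zpow_two, ← sq,
        ← ((Commute.refl c).pow_left 2 |>.zpow_left v).symm.eq, ← mul_assoc, ← hsq]
      exact mul_mem (mem_zpowers _) (zpow_mem (pow_mem (mem_zpowers _) 2) v)
  have h6 : ∀ w ∈ D, w ^ 2 ≠ 1 → Commute (g ^ 3) w := by
    intro w hw hw2
    have hgen : ∀ x ∈ D, x ^ 2 ≠ 1 → ∀ u, orderOf u = 4 → x ∈ zpowers u → zpowers x = zpowers u := by
      intro x _ hx2 u hu hxu
      refine eq_of_le_of_card_ge (zpowers_le.mpr hxu) ?_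
      rw [Nat.card_zpowers, Nat.card_zpowers, hu]
      have hx4 : x ^ 4 = 1 := by
        obtain ⟨i, rfl⟩ := mem_zpowers_iff.mp hxu
        rw [← zpow_natCast, ← zpow_mul, mul_comm, zpow_mul, zpow_natCast, ← hu, pow_orderOf_eq_one,
          one_zpow]
      rw [show orderOf x = 2 ^ (1 + 1) from orderOf_eq_prime_pow (by rwa [pow_one]) hx4]
      norm_num
    have hyord : orderOf y = 4 := by
      rw [show (4 : ℕ) = 2 ^ (1 + 1) from rfl]
      refine orderOf_eq_prime_pow ?_ (hout y hy hcm)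
      rw [pow_one, sq, hyy, ← hc2]
      exact fun h => by
        have := orderOf_dvd_of_pow_eq_one h
        rw [hcord] at this; omega
    have hycD : y * c ∈ D := mul_mem hy hcD.1
    have hycm : y * c ∉ zpowers c := fun h => hcm (by
      simpa using mul_mem h (inv_mem (mem_zpowers c)))
    have hycord : orderOf (y * c) = 4 := by
      rw [show (4 : ℕ) = 2 ^ (1 + 1) from rfl]
      refine orderOf_eq_prime_pow ?_ (hout _ hycD hycm)
      have hyc2 := ((hTmem _ (hb hycD)).resolve_left fun h => hycm (hc.ge (mem_inf.mpr ⟨hycD, h⟩))).1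
      rw [pow_one, sq, hyc2, ← hc2]
      exact fun h => by
        have := orderOf_dvd_of_pow_eq_one h
        rw [hcord] at this; omega
    have hcl : ∀ i : Fin 4, ∃ k : Fin 3, zpowers (g ^ (i : ℕ) * w * (g ^ (i : ℕ))⁻¹) =
        ![zpowers c, zpowers y, zpowers (y * c)] k := by
      intro i
      have h2' : (g ^ (i : ℕ) * w * (g ^ (i : ℕ))⁻¹) ^ 2 ≠ 1 := by
        rwa [conj_pow, ne_eq, conj_eq_one_iff]
      rcases hcls _ (hgi i w hw) with h | h | h
      · exact ⟨0, hgen _ (hgi i w hw) h2' c hcord h⟩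
      · exact ⟨1, hgen _ (hgi i w hw) h2' y hyord h⟩
      · exact ⟨2, hgen _ (hgi i w hw) h2' (y * c) hycord h⟩
    choose k hk using hcl
    obtain ⟨i, j, hij, hkij⟩ := Fintype.exists_ne_map_eq_of_card_lt k (by simp)
    wlog hlt : i < j generalizing i j
    · exact this j i hij.symm hkij.symm (lt_of_le_of_ne (not_lt.mp hlt) hij.symm)
    have hlt' : (i : ℕ) < (j : ℕ) := hlt
    have hj4 := j.2
    have heq := (hk j).trans ((congrArg _ hkij.symm).trans (hk i).symm)
    set r := (j : ℕ) - (i : ℕ) with hr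
    have hji : (j : ℕ) = i + r := by omega
    have h7 : g ^ r * w * (g ^ r)⁻¹ ∈ zpowers w := by
      have h8 : g ^ (j : ℕ) * w * (g ^ (j : ℕ))⁻¹ ∈
          zpowers (g ^ (i : ℕ) * w * (g ^ (i : ℕ))⁻¹) := heq ▸ mem_zpowers _
      obtain ⟨v, hv⟩ := mem_zpowers_iff.mp h8
      rw [conj_zpow, hji, pow_add] at hv
      refine ⟨v, mul_left_cancel (a := g ^ (i : ℕ)) (mul_right_cancel (b := (g ^ (i : ℕ))⁻¹) ?_)⟩
      show g ^ (i : ℕ) * w ^ v * (g ^ (i : ℕ))⁻¹ = _
      rw [hv]; group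
    have h9 := hfix r w hw h7
    have h10 : Commute (g ^ 6) w := by
      have hdiv : r ∣ 6 := by
        have : r = 1 ∨ r = 2 ∨ r = 3 := by omega
        rcases this with e | e | e <;> rw [e] <;> norm_num
      obtain ⟨v, hv⟩ := hdiv
      rw [hv, pow_mul]
      exact h9.pow_left v
    exact commute_of_sq hgo (by simpa using h10)
  refine section_of_action (e.trans (MulEquiv.subgroupCongr hgen)) hg hgo hgc fun x hx => ?_
  rcases hDdec x hx with h | ⟨k, rfl⟩
  · obtain ⟨k, rfl⟩ := mem_zpowers_iff.mp h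
    exact (h6 c hcD.1 fun h => by
      have := orderOf_dvd_of_pow_eq_one h
      rw [hcord] at this; omega).zpow_right k
  · refine (h6 y hy fun h => ?_).mul_right ((h6 c hcD.1 fun h => ?_).zpow_right k)
    · rw [sq, hyy, ← hc2] at h
      have := orderOf_dvd_of_pow_eq_one h
      rw [hcord] at this; omega
    · have := orderOf_dvd_of_pow_eq_one h
      rw [hcord] at this; omega

end Cfsg.Agent.S0106
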