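import Cfsg.Statements.S0107
import Cfsg.Agent.Lib.Invol.DihStatements
-- import your own Cfsg.Agent.* helpers here

set_option autoImplicit false
open Cfsg

namespace Cfsg.Agent.S0107

/-- A finite group with no nontrivial 2-group quotient and dihedral Sylow 2-subgroups of order at least 8 has a single class of involutions. -/
theorem result {G : Type*} [Group G] [Finite G] (T : Sylow 2 G) (n : ℕ) (hn : 2 ≤ n) (hT : Nonempty ((T : Subgroup G) ≃* DihedralGroup (2 ^ n))) (hO : Cfsg.pResidual 2 G = ⊤) (x y : G) (hx : orderOf x = 2) (hy : orderOf y = 2) : ∃ g : G, g * x * g⁻¹ = y := by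
  haveI : Fact (Nat.Prime 2) := ⟨Nat.prime_two⟩
  obtain ⟨eS⟩ := hT
  have h2 : 2 ^ 2 ≤ 2 ^ n := Nat.pow_le_pow_right (by norm_num) hn
  obtain ⟨D⟩ := Invol.dih_exists (m := 2 ^ n) (by omega) eS (fun h4 => by
    have h := Nat.card_congr eS.toEquiv
    rw [h4, DihedralGroup.nat_card] at h
    omega)
  have hG : ∀ H : Subgroup G, H.index ≠ 2 := by
    intro H hH
    haveI := Subgroup.normal_of_index_eq_two hH
    have h := Transfer.pResidual_le_of_index_eq_pow (p := 2) H (k := 1) (by rw [hH, pow_one])
    rw [hO, top_le_iff] at h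
    rw [h, Subgroup.index_top] at hH
    omega
  have key : ∀ t : G, orderOf t = 2 → IsConj t D.gz := fun t ht => by
    rcases D.involution_class ht with h | h | h
    · exact h
    · exact h.trans (D.fused_of_no_index_two hG 0).symm
    · exact h.trans (D.fused_of_no_index_two hG 1).symm
  exact isConj_iff.1 ((key x hx).trans (key y hy).symm)

end Cfsg.Agent.S0107
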