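import Cfsg.Statements.S0109
import Cfsg.Agent.Lib.Components.FFThompson

set_option autoImplicit false
open Cfsg

namespace Cfsg.Agent.S0109

open Subgroup Cfsg.Agent.Components
open scoped commutatorElement MatrixGroups

/-- The Thompson factorization Theorem for solvable groups states that, with p odd (and abelian Sylow 2-subgroups when p = 3) and no nontrivial normal subgroup of order prime to p, every element of G is a product of an element normalizing J(P) and an element centralizing the elements of order dividing p in the centre of P. -/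
theorem result {G : Type*} [Group G] [Finite G] {p : ℕ} [Fact p.Prime] (hp : p ≠ 2) (hs : Group.IsSolvable G) (h3 : p = 3 → ∀ T : Sylow 2 G, IsMulCommutative T) (hF : ∀ N : Subgroup G, N.Normal → Nat.Coprime (Nat.card N) p → N = ⊥) (P : Sylow p G) (g : G) : ∃ a ∈ Subgroup.normalizer (Cfsg.thompsonSubgroupOf p (P : Subgroup G) : Set G), ∃ c ∈ Subgroup.centralizer {x : G | x ∈ (P : Subgroup G) ∧ (∀ y ∈ (P : Subgroup G), x * y = y * x) ∧ x ^ p = 1}, g = a * c := by
  have hO : pPrimeCore p G = ⊥ := hF _ inferInstance pPrimeCore_coprime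
  have hfac : IsThompsonFactorizable p G := by
    by_contra hnf
    obtain ⟨hp23, E, -, -, -, hn, ⟨e⟩⟩ := exists_sl2_of_not_factorizable
      (isPSolvable_of_isSolvable (p := p) (Nat.card G) G le_rfl hs) hO hnf
    haveI := hn
    obtain rfl := hp23.resolve_left hp
    obtain ⟨f, hf⟩ := Transfer.exists_surjective_of_section e
    obtain ⟨T⟩ : Nonempty (Sylow 2 G) := inferInstance
    exact Transfer.not_isMulCommutative_sylow_two hp f hf T (h3 rfl T)
  obtain ⟨x, hx, c, hc, n, hn, hg⟩ := hfac P g⁻¹
  rw [hO, mem_bot] at hx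
  subst hx
  refine ⟨n⁻¹, inv_mem hn, c⁻¹, inv_mem ?_, ?_⟩
  · refine centralizer_le ?_ hc
    rintro y ⟨hyP, hyc, hyp⟩
    exact subset_closure ⟨⟨hyP, fun z hz => (hyc z hz).symm⟩, hyp⟩
  · rw [one_mul] at hg
    rw [← inv_inv g, hg, _root_.mul_inv_rev]

end Cfsg.Agent.S0109
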