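import Cfsg.Statements.S0110
import Cfsg.Agent.Lib.Transfer.Extraspecial

set_option autoImplicit false
open Cfsg

namespace Cfsg.Agent.S0110

open Subgroup Cfsg.Agent.Transfer
open scoped commutatorElement Pointwise IsMulCommutative


/-- In a p-group G, an extraspecial subgroup E with [G, E] ≤ Z(E) satisfies G = E C_G(E). -/
theorem result {G : Type*} [Group G] [Finite G] {p : ℕ} [Fact p.Prime] (hG : IsPGroup p G) (E : Subgroup G) (hE : Cfsg.IsExtraspecial p E) (h : ⁅(⊤ : Subgroup G), E⁆ ≤ E ⊓ Subgroup.centralizer (E : Set G)) : E ⊔ Subgroup.centralizer (E : Set G) = ⊤ := by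
  obtain ⟨⟨hEp, hΦ, hcomm⟩, hZE⟩ := hE
  set Z := (center E).map E.subtype with hZ
  have hZmem : ∀ g : G, g ∈ Z ↔ g ∈ E ⊓ centralizer (E : Set G) := by
    intro g
    constructor
    · rintro ⟨z, hz, rfl⟩
      exact ⟨z.2, fun e he => congrArg Subtype.val (mem_center_iff.mp hz ⟨e, he⟩)⟩
    · rintro ⟨hg, hgc⟩
      exact ⟨⟨g, hg⟩, mem_center_iff.mpr fun e => Subtype.ext (hgc e e.2), rfl⟩
  have hDc : ∀ d ∈ E, ∀ g : G, ⁅g, d⁆ ∈ Z := fun d hd g =>
    (hZmem _).mpr (h (commutator_mem_commutator (mem_top g) hd))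
  have hZc : Z ≤ center G := by
    rw [hZ, ← hcomm, _root_.commutator_eq_closure, MonoidHom.map_closure, closure_le]
    rintro _ ⟨_, ⟨⟨x, hx⟩, ⟨y, hy⟩, rfl⟩, rfl⟩
    refine mem_center_iff.mpr fun g => ?_
    have hx' := (hZmem _).mp (hDc x hx g)
    have hy' := (hZmem _).mp (hDc y hy g)
    set c := ⁅g, x⁆ with hcdef
    set d := ⁅g, y⁆ with hddef
    have ex : g * x * g⁻¹ = c * x := by rw [hcdef, commutatorElement_def]; group
    have ey : g * y * g⁻¹ = d * y := by rw [hddef, commutatorElement_def]; group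
    have hcx : Commute c x := (hx'.2 x hx).symm
    have hcy : Commute c y := (hx'.2 y hy).symm
    have hdx : Commute d x := (hy'.2 x hx).symm
    have hdy : Commute d y := (hy'.2 y hy).symm
    have hcd : Commute c d := (hx'.2 d hy'.1).symm
    have key : g * ⁅x, y⁆ * g⁻¹ = ⁅x, y⁆ := by
      calc g * ⁅x, y⁆ * g⁻¹ = (g * x * g⁻¹) * (g * y * g⁻¹) * (g * x * g⁻¹)⁻¹ * (g * y * g⁻¹)⁻¹ := by
            rw [commutatorElement_def]; group
        _ = (c * x) * (d * y) * (x⁻¹ * c⁻¹) * (y⁻¹ * d⁻¹) := by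
            rw [ex, ey, mul_inv_rev, mul_inv_rev]
        _ = c * (x * d) * (y * x⁻¹) * (c⁻¹ * y⁻¹) * d⁻¹ := by group
        _ = c * (d * x) * (y * x⁻¹) * (y⁻¹ * c⁻¹) * d⁻¹ := by rw [hdx.eq, hcy.inv_inv.eq]
        _ = c * d * ⁅x, y⁆ * c⁻¹ * d⁻¹ := by rw [commutatorElement_def]; group
        _ = ⁅x, y⁆ := by
            have h1 : Commute c ⁅x, y⁆ := by
              rw [commutatorElement_def]
              exact ((hcx.mul_right hcy).mul_right hcx.inv_right).mul_right hcy.inv_right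
            have h2 : Commute d ⁅x, y⁆ := by
              rw [commutatorElement_def]
              exact ((hdx.mul_right hdy).mul_right hdx.inv_right).mul_right hdy.inv_right
            have h3 := (h1.mul_left h2)
            rw [h3.eq, mul_assoc ⁅x, y⁆, mul_assoc ⁅x, y⁆, ← hcd.eq.symm]
            have h4 : d * c * c⁻¹ * d⁻¹ = 1 := by group
            rw [h4, mul_one]
    simpa [commutatorElement_def] using (mul_inv_eq_iff_eq_mul.mp key)
  exact (sup_centralizer_eq_top hZc (by rw [hZ, card_map_of_injective E.subtype_injective, hZE]) E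
    (map_subtype_le _) hEp hDc (fun g hg => (hZmem g).mpr hg)).1

end Cfsg.Agent.S0110
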