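import Cfsg.Statements.S0111
import Cfsg.Agent.Lib.Transfer.Residual
import Mathlib.GroupTheory.IndexNormal

set_option autoImplicit false
open Cfsg

namespace Cfsg.Agent.S0111

open Subgroup Cfsg.Agent.Transfer
open scoped commutatorElement Pointwise


/-- The Thompson transfer lemma states that an involution of a Sylow 2-subgroup P lying outside a subgroup Q of index 2 in P either lies outside some normal subgroup of index 2 in G or is conjugate to an element of Q. -/
theorem result {G : Type*} [Group G] [Finite G] (P : Sylow 2 G) (Q : Subgroup G) (hQP : Q ≤ (P : Subgroup G)) (hQi : Q.relIndex (P : Subgroup G) = 2) (u : G) (hu : orderOf u = 2) (huP : u ∈ (P : Subgroup G)) (huQ : u ∉ Q) : (∃ M : Subgroup G, M.Normal ∧ M.index = 2 ∧ u ∉ M) ∨ ∃ g : G, g * u * g⁻¹ ∈ Q := by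
  by_cases hg : ∃ g : G, g * u * g⁻¹ ∈ Q
  · exact Or.inr hg
  left
  push_neg at hg
  let K : Subgroup (P : Subgroup G) := Q.subgroupOf (P : Subgroup G)
  have hK : K.index = 2 := hQi
  haveI : K.Normal := Subgroup.normal_of_index_eq_two hK
  haveI : IsMulCommutative ((P : Subgroup G) ⧸ K) := by
    have : IsCyclic ((P : Subgroup G) ⧸ K) := isCyclic_of_prime_card (p := 2) (by rw [← Subgroup.index_eq_card, hK])
    exact IsCyclic.isMulCommutative
  open scoped IsMulCommutative in
  let τ := MonoidHom.transfer (QuotientGroup.mk' K)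
  have hcard : Nat.card ((P : Subgroup G) ⧸ K) = 2 := by rw [← Subgroup.index_eq_card, hK]
  obtain ⟨w, hw⟩ : ∃ w : (P : Subgroup G) ⧸ K, w = QuotientGroup.mk' K ⟨u, huP⟩ := ⟨_, rfl⟩
  have hw1 : w ≠ 1 := by
    rw [hw]
    intro e
    exact huQ ((QuotientGroup.eq_one_iff (⟨u, huP⟩ : (P : Subgroup G))).mp e)
  have huu : u ^ 2 = 1 := by rw [← hu]; exact pow_orderOf_eq_one u
  have hall : ∀ z : (P : Subgroup G) ⧸ K, z ≠ 1 → z = w := by
    obtain ⟨a, b, hab, huniv⟩ := Nat.card_eq_two_iff.mp hcard
    have key : ∀ z, z = a ∨ z = b := fun z => by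
      have : z ∈ ({a, b} : Set _) := by rw [huniv]; trivial
      simpa using this
    intro z hz
    clear hw
    rcases key z with h1 | h1 <;> rcases key w with h2 | h2 <;> rcases key 1 with h3 | h3 <;>
      first | exact h1.trans h2.symm | exact absurd (h1.trans h3.symm) hz | exact absurd (h2.trans h3.symm) hw1
  classical
  have hperiod : ∀ q : G ⧸ (P : Subgroup G), Function.minimalPeriod (u • ·) q = 1 ∨ Function.minimalPeriod (u • ·) q = 2 := by
    intro q
    have hp : Function.IsPeriodicPt (u • ·) 2 q := by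
      show (u • ·)^[2] q = q
      rw [smul_iterate]
      show u ^ 2 • q = q
      rw [huu, one_smul]
    exact (Nat.dvd_prime Nat.prime_two).mp hp.minimalPeriod_dvd
  have hs2 : w ^ 2 = 1 := by
    have := pow_card_eq_one' (x := w)
    rwa [hcard] at this
  haveI : Fintype (Quotient (MulAction.orbitRel (zpowers u) (G ⧸ (P : Subgroup G)))) := Fintype.ofFinite _
  have hτu : τ u = w ^ (P : Subgroup G).index := by
    rw [show τ u = _ from MonoidHom.transfer_eq_prod_quotient_orbitRel_zpowers_quot _ u,
      index_eq_sum_minimalPeriod (P : Subgroup G) u, ← Finset.prod_pow_eq_pow_sum]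
    refine Finset.prod_congr rfl fun q _ => ?_
    have hterm : ∀ (m : ℕ) (hm : q.out.out⁻¹ * u ^ m * q.out.out ∈ (P : Subgroup G)), m = 1 ∨ m = 2 →
        QuotientGroup.mk' K ⟨_, hm⟩ = w ^ m := by
      rintro m hm (rfl | rfl)
      · rw [pow_one w]
        refine hall _ fun e => hg q.out.out⁻¹ ?_
        have h3 : q.out.out⁻¹ * u ^ 1 * q.out.out ∈ Q := (QuotientGroup.eq_one_iff (⟨_, hm⟩ : (P : Subgroup G))).mp e
        rw [inv_inv]
        simpa using h3
      · rw [hs2]
        refine (QuotientGroup.eq_one_iff _).mpr ?_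
        show q.out.out⁻¹ * u ^ 2 * q.out.out ∈ Q
        rw [huu, mul_one, inv_mul_cancel]
        exact one_mem _
    exact hterm _ _ (hperiod q.out)
  have hodd : Odd (P : Subgroup G).index := by
    rw [← Nat.not_even_iff_odd, even_iff_two_dvd]; exact P.not_dvd_index
  have hτw : τ u = w := by
    obtain ⟨j, hj⟩ := hodd
    rw [hτu, hj, pow_succ, pow_mul, hs2, one_pow, one_mul]
  refine ⟨τ.ker, MonoidHom.normal_ker _, ?_, fun e => hw1 (hτw ▸ e)⟩
  have hne : Function.Surjective τ := fun z => by
    by_cases hz : z = 1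
    · exact ⟨1, by rw [map_one, hz]⟩
    · exact ⟨u, by rw [hτw, hall z hz]⟩
  rw [index_ker, MonoidHom.range_eq_top.mpr hne, card_top, hcard]

end Cfsg.Agent.S0111
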