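import Cfsg.Statements.S0113
import Cfsg.Agent.Lib.Invol.MaxClassSeries
-- import your own Cfsg.Agent.* helpers here

set_option autoImplicit false
open Cfsg

namespace Cfsg.Agent.S0113

open Subgroup

/-- Maximal class gives `|X : X'| = 4`. -/
theorem index_four {X : Type*} [Group X] [Finite X] (n : ℕ) (hn : 3 ≤ n) (hX : Nat.card X = 2 ^ n)
    (hc : Group.nilpotencyClass X = n - 1) : ¬ IsMulCommutative X ∧ (commutator X).index = 4 := by
  haveI : Fact (Nat.Prime 2) := ⟨Nat.prime_two⟩
  haveI := (IsPGroup.of_card hX).isNilpotent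
  have hna : ¬ IsMulCommutative X := by
    intro h
    have : Group.nilpotencyClass X ≤ 1 := by
      rw [← Subgroup.lowerCentralSeries_eq_bot_iff_nilpotencyClass_le, Subgroup.top_lowerCentralSeries_one]
      rw [_root_.commutator_def, eq_bot_iff, Subgroup.commutator_le]
      intro a _ b _
      rw [mem_bot, commutatorElement_eq_one_iff_mul_comm]
      exact h.is_comm.comm a b
    omega
  refine ⟨hna, Invol.MaxClassTwo.index_four_of_series hna n hX fun h => ?_⟩
  rw [Subgroup.lowerCentralSeries_eq_bot_iff_nilpotencyClass_le] at h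
  omega

/-- A 2-group of maximal class contains a cyclic subgroup of index 2. -/
theorem result {X : Type*} [Group X] [Finite X] (n : ℕ) (hn : 3 ≤ n) (hX : Nat.card X = 2 ^ n) (hc : Group.nilpotencyClass X = n - 1) : ∃ C : Subgroup X, IsCyclic C ∧ C.index = 2 := by
  haveI : Fact (Nat.Prime 2) := ⟨Nat.prime_two⟩
  obtain ⟨hna, h4⟩ := index_four n hn hX hc
  obtain ⟨a, ha⟩ := Invol.MaxClassTwo.exists_cyclic_index_two (IsPGroup.of_card hX) hna h4
  exact ⟨zpowers a, inferInstance, Invol.MaxClassTwo.index_zpowers ha⟩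

end Cfsg.Agent.S0113
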