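import Cfsg.Statements.S0114
import Cfsg.Agent.Lib.Invol.MaxClassSeries
import Cfsg.Agent.S0113
-- import your own Cfsg.Agent.* helpers here

set_option autoImplicit false
open Cfsg

namespace Cfsg.Agent.S0114

open Subgroup

/-- The central quotient of a 2-group of maximal class is dihedral. -/
theorem result {X : Type*} [Group X] [Finite X] (n : ℕ) (hn : 3 ≤ n) (hX : Nat.card X = 2 ^ n) (hc : Group.nilpotencyClass X = n - 1) : Nonempty (X ⧸ Subgroup.center X ≃* DihedralGroup (2 ^ (n - 2))) := by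
  haveI : Fact (Nat.Prime 2) := ⟨Nat.prime_two⟩
  obtain ⟨hna, h4⟩ := S0113.index_four n hn hX hc
  obtain ⟨D⟩ := Invol.MaxClassTwo.exists_mcData (IsPGroup.of_card hX) hna h4
  have hm := D.two_le
  have hnm : n = D.m + 1 := Nat.pow_right_injective (le_refl 2) (hX.symm.trans D.card)
  let q : X →* X ⧸ center X := QuotientGroup.mk' (center X)
  have hq1 : ∀ g, q g = 1 ↔ g ∈ zpowers (D.a ^ 2 ^ (D.m - 1)) := fun g => by
    rw [← D.center_eq]; exact QuotientGroup.eq_one_iff g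
  have hord : orderOf (q D.a) = 2 ^ (D.m - 1) := by
    have hcast : ((2 ^ D.m : ℕ) : ℤ) = (2 ^ (D.m - 1) : ℕ) * 2 := by
      push_cast; rw [← pow_succ]; congr 1; omega
    refine Nat.dvd_antisymm (orderOf_dvd_of_pow_eq_one (by rw [← map_pow, hq1]; exact mem_zpowers _)) ?_
    obtain ⟨k, hk⟩ := (hq1 (D.a ^ orderOf (q D.a))).1 (by rw [map_pow, pow_orderOf_eq_one])
    have hk' : (D.a ^ 2 ^ (D.m - 1)) ^ k = D.a ^ orderOf (q D.a) := hk
    rw [← zpow_natCast, ← zpow_mul, ← zpow_natCast D.a (orderOf _), ← orderOf_dvd_sub_iff_zpow_eq_zpow,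
      D.orda, hcast] at hk'
    obtain ⟨e, he⟩ := hk'
    exact Int.natCast_dvd_natCast.1 ⟨k - 2 * e, by linear_combination -he⟩
  have hy : q D.y ∉ zpowers (q D.a) := by
    rintro ⟨k, hk⟩
    have h1 : q (D.a ^ (-k) * D.y) = 1 := by
      rw [map_mul, map_zpow, ← show q D.a ^ k = q D.y from hk, zpow_neg, inv_mul_cancel]
    have h2 : D.a ^ (-k) * D.y ∈ zpowers D.a :=
      zpowers_le.2 (pow_mem (mem_zpowers D.a) _) ((hq1 _).1 h1)
    exact D.hy (by simpa using mul_mem (zpow_mem (mem_zpowers D.a) k) h2)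
  have ht : q D.y * q D.y = 1 := by
    rw [← map_mul, hq1]
    rcases D.sq_cases D.hy with h | ⟨h, -⟩ <;> rw [h]
    exacts [one_mem _, mem_zpowers _]
  have hinv : q D.y * q D.a * (q D.y)⁻¹ = (q D.a)⁻¹ := by
    rw [← map_inv, ← map_mul, ← map_mul, eq_inv_iff_mul_eq_one, ← map_mul, hq1]
    rcases D.shape with ⟨-, h⟩ | ⟨-, h⟩ | ⟨h3, -, h⟩ <;> rw [h]
    · rw [inv_mul_cancel]; exact one_mem _
    · rw [inv_mul_cancel]; exact one_mem _
    · rw [← pow_succ, Nat.sub_add_cancel Nat.one_le_two_pow]; exact mem_zpowers _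
  obtain ⟨e⟩ := Invol.nonempty_dihedralEquiv ht hinv hy
  have htop : closure ({q D.y, q D.a} : Set (X ⧸ center X)) = ⊤ := by
    rw [eq_top_iff]
    intro u _
    obtain ⟨g, rfl⟩ := QuotientGroup.mk'_surjective _ u
    have ha : q D.a ∈ closure ({q D.y, q D.a} : Set (X ⧸ center X)) := subset_closure (by simp)
    by_cases hg : g ∈ zpowers D.a
    · obtain ⟨k, rfl⟩ := hg
      show q (D.a ^ k) ∈ _
      rw [map_zpow]; exact zpow_mem ha k
    · obtain ⟨k, rfl⟩ := D.exists_repr hg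
      show q (D.a ^ k * D.y) ∈ _
      rw [map_mul, map_zpow]; exact mul_mem (zpow_mem ha k) (subset_closure (by simp))
  rw [show n - 2 = D.m - 1 by omega, ← hord]
  exact ⟨((e.trans (MulEquiv.subgroupCongr htop)).trans topEquiv).symm⟩

end Cfsg.Agent.S0114
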