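import Cfsg.Statements.S0115
import Cfsg.Agent.Lib.Invol.MaxClassSeries
import Cfsg.Agent.S0113
-- import your own Cfsg.Agent.* helpers here

set_option autoImplicit false
open Cfsg

namespace Cfsg.Agent.S0115

open Subgroup

/-- A 2-group of order 2^n, n ≥ 3, is of maximal class exactly when its commutator quotient is a Klein four-group. -/
theorem result {X : Type*} [Group X] [Finite X] (n : ℕ) (hn : 3 ≤ n) (hX : Nat.card X = 2 ^ n) : Group.nilpotencyClass X = n - 1 ↔ IsKleinFour (X ⧸ commutator X) := by
  haveI : Fact (Nat.Prime 2) := ⟨Nat.prime_two⟩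
  have hP : IsPGroup 2 X := IsPGroup.of_card hX
  constructor
  · intro hc
    obtain ⟨hna, h4⟩ := S0113.index_four n hn hX hc
    obtain ⟨D⟩ := Invol.MaxClassTwo.exists_mcData hP hna h4
    refine ⟨by rw [← index_eq_card, h4], ?_⟩
    haveI : Nontrivial (X ⧸ commutator X) := Finite.one_lt_card_iff_nontrivial.1 (by rw [← index_eq_card, h4]; norm_num)
    refine Nat.Prime.eq_one_or_self_of_dvd Nat.prime_two _ ?_ |>.resolve_left ?_
    · refine Monoid.exponent_dvd_of_forall_pow_eq_one fun q => ?_
      induction q using QuotientGroup.induction_on with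
      | _ g =>
        rw [pow_two, ← QuotientGroup.mk_mul, QuotientGroup.eq_one_iff]
        exact D.sq_mem_commutator g
    · intro h
      rw [Monoid.exp_eq_one_iff] at h
      exact not_subsingleton _ h
  · intro hK
    have h4 : (commutator X).index = 4 := by rw [index_eq_card]; exact hK.card_four
    have hna : ¬ IsMulCommutative X := by
      intro h
      have h1 : commutator X = ⊥ := by
        rw [_root_.commutator_def, eq_bot_iff, Subgroup.commutator_le]
        intro a _ b _
        rw [mem_bot, commutatorElement_eq_one_iff_mul_comm]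
        exact h.is_comm.comm a b
      rw [h1, index_bot, hX] at h4
      have : 2 ^ 3 ≤ 2 ^ n := Nat.pow_le_pow_right two_pos hn
      omega
    obtain ⟨D⟩ := Invol.MaxClassTwo.exists_mcData hP hna h4
    rw [D.nilpotencyClass_eq]
    have := Nat.pow_right_injective (le_refl 2) (hX.symm.trans D.card)
    omega

end Cfsg.Agent.S0115
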