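import Cfsg.Statements.S0119
import Cfsg.Agent.Lib.Basics.Frattini
import Cfsg.Agent.Lib.Transfer.ClassTwo
import Cfsg.Agent.Lib.Invol.ExtraPairs
-- import your own Cfsg.Agent.* helpers here

set_option autoImplicit false
open Cfsg

namespace Cfsg.Agent.S0119

open Subgroup in
open scoped commutatorElement in
theorem commute_commutator {G : Type*} [Group G] {x : G} (h : ∀ g, ⁅x, g⁆ ∈ center G) :
    ∀ c ∈ commutator G, Commute x c := by
  let f : G →* center G :=
    { toFun := fun g => ⟨⁅x, g⁆, h g⟩
      map_one' := Subtype.ext (by simp [commutatorElement_def])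
      map_mul' := fun a b => Subtype.ext (by
        show ⁅x, a * b⁆ = ⁅x, a⁆ * ⁅x, b⁆
        have e : ⁅x, a * b⁆ = ⁅x, a⁆ * (a * ⁅x, b⁆ * a⁻¹) := by simp only [commutatorElement_def]; group
        rw [e, mem_center_iff.1 (h b) a, mul_inv_cancel_right]) }
  intro c hc
  have hle : commutator G ≤ f.ker := by
    rw [commutator_def, commutator_le]
    intro a _ b _
    rw [MonoidHom.mem_ker, map_commutatorElement, commutatorElement_eq_one_iff_mul_comm]
    exact Subtype.ext (mem_center_iff.1 (f b).2 _)
  exact commutatorElement_eq_one_iff_mul_comm.1 (congrArg Subtype.val (MonoidHom.mem_ker.1 (hle hc)))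

open Subgroup in
open scoped commutatorElement in
theorem main {G : Type*} [Group G] [Finite G] {p : ℕ} [hp : Fact p.Prime] (hG : IsPGroup p G)
    (A : Subgroup (MulAut G)) (hA : Nat.Coprime (Nat.card A) p)
    (hGA : Subgroup.closure {x : G | ∃ g : G, ∃ a ∈ A, x = g⁻¹ * a g} = ⊤)
    (hchar : ∀ H : Subgroup G, H.Characteristic → IsMulCommutative H → ∀ a ∈ A, ∀ h ∈ H, a h = h) :
    Cfsg.IsSpecial p G ∧ (∀ g : G, (g ∈ Subgroup.center G ↔ ∀ a ∈ A, a g = g)) := by
  haveI := hG.isNilpotent
  -- characteristic abelian subgroups are central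
  have hcent : ∀ H : Subgroup G, H.Characteristic → IsMulCommutative H → H ≤ center G := by
    intro H hH hHc h hh
    haveI := hH
    have hn : H.Normal := inferInstance
    have hle : closure {x : G | ∃ g : G, ∃ a ∈ A, x = g⁻¹ * a g} ≤ centralizer {h} := by
      rw [closure_le]
      rintro _ ⟨g, a, ha, rfl⟩
      rw [SetLike.mem_coe, mem_centralizer_singleton_iff]
      have hfix := hchar H hH hHc a ha (g * h * g⁻¹) (hn.conj_mem h hh g)
      rw [map_mul, map_mul, map_inv, hchar H hH hHc a ha h hh] at hfix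
      calc g⁻¹ * a g * h = g⁻¹ * (a g * h * (a g)⁻¹) * a g := by group
        _ = g⁻¹ * (g * h * g⁻¹) * a g := by rw [hfix]
        _ = h * (g⁻¹ * a g) := by group
    rw [hGA, top_le_iff] at hle
    exact mem_center_iff.2 fun g => mem_centralizer_singleton_iff.1 (hle ▸ mem_top g : g ∈ centralizer {h})
  have hcomm : ∀ {H : Subgroup G}, (∀ u ∈ H, ∀ v ∈ H, Commute u v) → IsMulCommutative H :=
    fun h => ⟨⟨fun u v => Subtype.ext (h u u.2 v v.2)⟩⟩
  -- the derived subgroup is central
  have hcl : commutator G ≤ center G := by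
    classical
    have hex : ∃ n, (⊤ : Subgroup G).lowerCentralSeries n ≤ center G :=
      ⟨Group.nilpotencyClass G, by rw [_root_.lowerCentralSeries_nilpotencyClass]; exact bot_le⟩
    by_contra hnot
    have hm := Nat.find_spec hex
    have hm2 : 2 ≤ Nat.find hex := by
      by_contra h
      refine hnot (le_trans ?_ hm)
      rw [← Subgroup.top_lowerCentralSeries_one]
      exact (⊤ : Subgroup G).lowerCentralSeries_antitone (by omega)
    obtain ⟨k, hk⟩ : ∃ k, Nat.find hex = k + 1 := ⟨Nat.find hex - 1, by omega⟩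
    refine Nat.find_min hex (show k < Nat.find hex by omega) (hcent _ inferInstance (hcomm ?_))
    intro u hu v hv
    refine commute_commutator (fun g => hm ?_) v ?_
    · rw [hk, Subgroup.lowerCentralSeries_succ]
      exact commutator_mem_commutator hu (mem_top g)
    · rw [← Subgroup.top_lowerCentralSeries_one]
      exact (⊤ : Subgroup G).lowerCentralSeries_antitone (show 1 ≤ k by omega) hv
  have hwc : ∀ x y : G, ⁅x, y⁆ ∈ center G := fun x y =>
    hcl (commutator_mem_commutator (mem_top x) (mem_top y))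
  have hpl : ∀ (n : ℕ) (x y : G), ⁅x ^ n, y⁆ = ⁅x, y⁆ ^ n := fun n x y =>
    Cfsg.Agent.Transfer.commutator_pow_left (mem_center_iff.1 (hwc x y) x) n
  have hZfix : ∀ g ∈ center G, ∀ a ∈ A, a g = g := fun g hg a ha =>
    hchar (center G) inferInstance (hcomm fun u hu v _ => (mem_center_iff.1 hu v).symm) a ha g hg
  -- fixed points lie in the derived subgroup
  have hfixD : ∀ g : G, (∀ a ∈ A, a g = g) → g ∈ commutator G := by
    intro g hg
    haveI : Finite (MulAut G) := Finite.of_injective (fun φ : MulAut G => (φ : G → G)) DFunLike.coe_injective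
    classical
    haveI : Fintype A := Fintype.ofFinite A
    let π : G →* Abelianization G := Abelianization.of
    let θ : G →* Abelianization G :=
      { toFun := fun x => ∏ a : A, π ((a : MulAut G) x)
        map_one' := by simp
        map_mul' := fun x y => by simp [Finset.prod_mul_distrib] }
    have hker : closure {x : G | ∃ g : G, ∃ a ∈ A, x = g⁻¹ * a g} ≤ θ.ker := by
      rw [closure_le]
      rintro _ ⟨x, b, hb, rfl⟩
      rw [SetLike.mem_coe, MonoidHom.mem_ker, map_mul, map_inv, inv_mul_eq_one]
      show ∏ a : A, π ((a : MulAut G) x) = ∏ a : A, π ((a : MulAut G) (b x))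
      exact (Fintype.prod_equiv (Equiv.mulRight (⟨b, hb⟩ : A)) _ _ fun a => rfl).symm
    rw [hGA] at hker
    have h1 : π (g ^ Nat.card A) = 1 := by
      have h2 : ∏ a : A, π ((a : MulAut G) g) = 1 := hker (mem_top g)
      rw [Finset.prod_congr rfl (fun (a : A) _ => by rw [hg a a.2]), Finset.prod_const, Finset.card_univ,
        ← Nat.card_eq_fintype_card] at h2
      rw [map_pow, h2]
    have h3 : g ^ Nat.card A ∈ commutator G := by
      rwa [← Abelianization.ker_of G, MonoidHom.mem_ker]
    obtain ⟨k, hk⟩ := IsPGroup.iff_orderOf.1 hG g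
    have hco : Nat.Coprime (orderOf g) (Nat.card A) := by rw [hk]; exact hA.symm.pow_left k
    obtain ⟨j, hj⟩ := exists_pow_eq_self_of_coprime (x := g) hco.symm
    exact hj ▸ pow_mem h3 j
  have heq : commutator G = center G := le_antisymm hcl fun g hg => hfixD g (hZfix g hg)
  -- `p`-th powers are central
  have hpc : ∀ (m : ℕ), (∀ x y : G, ⁅x, y⁆ ^ p ^ m = 1) → ∀ x y : G, ⁅x, y⁆ ^ p = 1 := by
    intro m
    induction m with
    | zero => intro h x y; have := h x y; rw [pow_zero, pow_one] at this; rw [this, one_pow]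
    | succ m ih =>
      intro h
      rcases Nat.eq_zero_or_pos m with rfl | hm
      · intro x y; simpa using h x y
      refine ih ?_
      let H : Subgroup G := closure {z | ∃ x : G, z = x ^ p ^ m}
      have hgen : ∀ x y : G, Commute (x ^ p ^ m) (y ^ p ^ m) := by
        intro x y
        refine commutatorElement_eq_one_iff_mul_comm.1 ?_
        rw [hpl, ← commutatorElement_inv (y ^ p ^ m) x, hpl, inv_pow, ← pow_mul, ← pow_add,
          show m + m = (m + 1) + (m - 1) by omega, pow_add, pow_mul, h, one_pow, inv_one]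
      haveI hH : H.Characteristic := characteristic_iff_map_le.2 fun φ => by
        rw [MonoidHom.map_closure]
        exact closure_mono (by rintro _ ⟨_, ⟨x, rfl⟩, rfl⟩; exact ⟨φ x, map_pow φ x _⟩)
      have hHc : IsMulCommutative H := isMulCommutative_closure
        (by rintro _ ⟨x, rfl⟩ _ ⟨y, rfl⟩; exact (hgen x y).eq)
      intro x y
      have h1 := hcent H hH hHc (subset_closure ⟨x, rfl⟩)
      rw [← hpl, commutatorElement_eq_one_iff_mul_comm]
      exact (mem_center_iff.1 h1 y).symm
  obtain ⟨N, hN⟩ := IsPGroup.iff_card.1 hG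
  have hcp := hpc N fun x y => by rw [← hN]; exact pow_card_eq_one'
  have hpow : ∀ x : G, x ^ p ∈ center G := fun x => mem_center_iff.2 fun y => by
    exact (commutatorElement_eq_one_iff_mul_comm.1 (by rw [hpl, hcp] : ⁅x ^ p, y⁆ = 1)).symm
  refine ⟨⟨hG, le_antisymm ?_ (heq ▸ Cfsg.Agent.Basics.commutator_le_frattini), heq⟩,
    fun g => ⟨hZfix g, fun h => hcl (hfixD g h)⟩⟩
  refine (LocalEvenA.frattini_le_commutator_sup_pow (p := p) (Q := G)).trans (sup_le hcl ?_)
  rw [closure_le]
  rintro _ ⟨g, rfl⟩
  exact hpow g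

/-- If a p'-group A of automorphisms of a p-group G satisfies G = [G, A] and acts trivially on every characteristic abelian subgroup, then G is special with centre equal to the fixed points of A. -/
theorem result {G : Type*} [Group G] [Finite G] {p : ℕ} [Fact p.Prime] (hG : IsPGroup p G) (A : Subgroup (MulAut G)) (hA : Nat.Coprime (Nat.card A) p) (hGA : Subgroup.closure {x : G | ∃ g : G, ∃ a ∈ A, x = g⁻¹ * a g} = ⊤) (hchar : ∀ H : Subgroup G, H.Characteristic → IsMulCommutative H → ∀ a ∈ A, ∀ h ∈ H, a h = h) : Cfsg.IsSpecial p G ∧ (∀ g : G, (g ∈ Subgroup.center G ↔ ∀ a ∈ A, a g = g)) := by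
  exact main hG A hA hGA hchar

end Cfsg.Agent.S0119
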