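import Cfsg.Statements.S0121
import Cfsg.Agent.Lib.Transfer.Residual

set_option autoImplicit false
open Cfsg

namespace Cfsg.Agent.S0121

open Subgroup Cfsg.Agent.Transfer
open scoped commutatorElement Pointwise


/-- A p'-automorphism of a p-group acting trivially on a critical subgroup is trivial. -/
theorem result {G : Type*} [Group G] [Finite G] {p : ℕ} [Fact p.Prime] (hG : IsPGroup p G) (H : Subgroup G) (hH : H.Characteristic) (h1 : (frattini H).map H.subtype ≤ Subgroup.centralizer (H : Set G)) (h2 : ⁅H, (⊤ : Subgroup G)⁆ ≤ H ⊓ Subgroup.centralizer (H : Set G)) (h3 : Subgroup.centralizer (H : Set G) ≤ H) (a : MulAut G) (ha : Nat.Coprime (orderOf a) p) (h : ∀ x ∈ H, a x = x) : a = 1 := by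
  haveI : H.Normal := inferInstance
  refine MulEquiv.ext fun x => ?_
  set c := x⁻¹ * a x with hc
  have hcH : c ∈ H := by
    refine h3 fun y hy => ?_
    have hy' : x * y * x⁻¹ ∈ H := Subgroup.Normal.conj_mem inferInstance y hy x
    have e1 := h _ hy'
    rw [map_mul, map_mul, map_inv, h y hy] at e1
    have e2 : x⁻¹ * (a x * y * (a x)⁻¹) * a x = x⁻¹ * (x * y * x⁻¹) * a x := by rw [e1]
    rw [hc]
    simpa [mul_assoc] using e2.symm
  have hac : a c = c := h c hcH
  have hpow : ∀ n : ℕ, (a ^ n) x = x * c ^ n := by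
    intro n
    induction n with
    | zero => simp
    | succ n ih =>
      rw [pow_succ', MulAut.mul_apply, ih, map_mul, map_pow, hac, pow_succ', ← mul_assoc]
      congr 1
      rw [hc, mul_inv_cancel_left]
  have h4 := hpow (orderOf a)
  rw [pow_orderOf_eq_one, MulAut.one_apply, left_eq_mul] at h4
  obtain ⟨k, hk⟩ := hG c
  have h5 : c = 1 := eq_one_of_pow_of_coprime ⟨k, orderOf_dvd_of_pow_eq_one hk⟩
    (ha.coprime_dvd_left (orderOf_dvd_of_pow_eq_one h4))
  rw [hc, inv_mul_eq_one] at h5
  simpa using h5.symm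

end Cfsg.Agent.S0121
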