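import Cfsg.Statements.S0125
import Cfsg.Agent.Lib.Transfer.Abelian

set_option autoImplicit false
open Cfsg

namespace Cfsg.Agent.S0125

open Subgroup Cfsg.Agent.Transfer
open scoped commutatorElement Pointwise


/-- The centralizer of a self-centralizing normal subgroup A of a Sylow p-subgroup is the direct product of A with a normal p'-subgroup. -/
theorem result {G : Type*} [Group G] [Finite G] {p : ℕ} [Fact p.Prime] (R : Sylow p G) (A : Subgroup G) (hAR : A ≤ (R : Subgroup G)) (hAn : (R : Subgroup G) ≤ Subgroup.normalizer (A : Set G)) (hC : (R : Subgroup G) ⊓ Subgroup.centralizer (A : Set G) = A) : ∃ H : Subgroup G, H ≤ Subgroup.centralizer (A : Set G) ∧ Nat.Coprime (Nat.card H) p ∧ Subgroup.centralizer (A : Set G) ≤ Subgroup.normalizer (H : Set G) ∧ H ⊓ A = ⊥ ∧ H ⊔ A = Subgroup.centralizer (A : Set G) := by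
  set N : Subgroup G := normalizer (A : Set G) with hNdef
  set C : Subgroup G := centralizer (A : Set G) with hCdef
  have hCN : C ≤ N := fun c hc => mem_normalizer_iff.mpr fun y =>
    ⟨fun hy => by rwa [← hc y hy, mul_inv_cancel_right], fun hy => by
      have h3 : (c * y * c⁻¹) * c = c * (c * y * c⁻¹) := hc _ hy
      rw [inv_mul_cancel_right] at h3
      have h4 := mul_left_cancel h3
      rwa [h4]⟩
  haveI : (C.subgroupOf N).Normal := by
    rw [hCdef, hNdef, ← normalizerMonoidHom_ker]
    exact MonoidHom.normal_ker _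
  obtain ⟨Q, hQ⟩ := exists_sylow_eq_subgroupOf (R.subtype hAn) (C.subgroupOf N)
  let e := subgroupOfEquivOfLe hCN
  have hRC : ∀ y ∈ (R : Subgroup G), y ∈ C → y ∈ A := fun y h1 h2 => hC.le ⟨h1, h2⟩
  have hQc : normalizer (Q : Set (C.subgroupOf N)) ≤ centralizer (Q : Set (C.subgroupOf N)) := by
    intro c _ q hq
    have hqR : (q : N).1 ∈ (R : Subgroup G) := by
      have h2 : q ∈ (Q : Subgroup (C.subgroupOf N)) := hq
      rw [hQ] at h2; exact h2
    have hqA := hRC _ hqR q.2
    have := c.2 (q : N).1 hqA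
    exact Subtype.ext (Subtype.ext this)
  have hcomp : Cfsg.HasNormalPComplement p C :=
    hasNormalPComplement_of_surjective e.toMonoidHom e.surjective (hasNormalPComplement_of_normalizer_le Q hQc)
  have hH : ¬ p ∣ Nat.card ((Cfsg.pResidual p C).map C.subtype) := by
    rw [card_map_of_injective C.subtype_injective]
    exact hasNormalPComplement_iff.mp hcomp
  refine ⟨(Cfsg.pResidual p C).map C.subtype, map_subtype_le _,
    ((Fact.out : p.Prime).coprime_iff_not_dvd.mpr hH).symm, ?_, ?_, ?_⟩
  · intro c hc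
    have hn : (⟨c, hc⟩ : C) ∈ normalizer ((Cfsg.pResidual p C : Subgroup C) : Set C) := by
      rw [normalizer_eq_top]; trivial
    exact le_normalizer_map C.subtype ⟨_, hn, rfl⟩
  · refine le_bot_iff.mp ?_
    rw [← sylow_disjoint_of_coprime R _ hH]
    exact inf_le_inf_left _ hAR
  · have hAC : A ≤ C := fun a ha => by
      have h5 : a ∈ (R : Subgroup G) ⊓ C := hC.ge ha
      exact h5.2
    refine le_antisymm (sup_le (map_subtype_le _) hAC) ?_
    let QC : Sylow p C := default
    have h1 := congrArg (Subgroup.map C.subtype) (pResidual_sup_sylow QC)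
    rw [Subgroup.map_sup, ← MonoidHom.range_eq_map, range_subtype] at h1
    refine h1.symm.le.trans (sup_le le_sup_left ?_)
    have hAc : IsPGroup p (A.subgroupOf C) := (R.2.to_le hAR).comap_subtype
    obtain ⟨Q2, hQ2⟩ := hAc.exists_le_sylow
    have hsub : (Q2 : Subgroup C) ≤ A.subgroupOf C := by
      have hidx : ¬ p ∣ A.relIndex C := by
        have h3 := not_dvd_relIndex_normal (R.subtype hAn) (C.subgroupOf N)
        rw [Sylow.coe_subtype, inf_relIndex_right, relIndex_subgroupOf hCN] at h3
        rwa [← hC, inf_relIndex_right]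
      obtain ⟨k, hk⟩ := hAc.exists_card_eq
      obtain ⟨j, hj⟩ := Q2.2.exists_card_eq
      refine le_of_eq (eq_of_le_of_card_ge hQ2 ?_).symm
      rw [hk, hj]
      refine Nat.pow_le_pow_right (Fact.out : p.Prime).pos ?_
      by_contra hlt
      apply hidx
      have h4 : p ^ j ∣ p ^ k * A.relIndex C := by
        rw [← hj, ← hk]
        show _ ∣ _ * (A.subgroupOf C).index
        rw [card_mul_index]
        exact card_subgroup_dvd_card _
      have h5 : p ^ (k + 1) ∣ p ^ k * A.relIndex C := (pow_dvd_pow p (by omega)).trans h4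
      rw [pow_succ] at h5
      exact Nat.dvd_of_mul_dvd_mul_left (pow_pos (Fact.out : p.Prime).pos k) h5
    obtain ⟨t, ht⟩ := MulAction.exists_smul_eq C Q2 QC
    rintro _ ⟨x, hx, rfl⟩
    rw [← ht] at hx
    obtain ⟨y, hy, rfl⟩ := hx
    refine mem_sup_right ?_
    have hyA : (y : G) ∈ A := hsub hy
    have := t.2 (y : G) hyA
    simpa [← this] using hyA

end Cfsg.Agent.S0125
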