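import Cfsg.Statements.S0127
import Cfsg.Agent.Lib.Invol.OddPSmall
-- import your own Cfsg.Agent.* helpers here

set_option autoImplicit false
open Cfsg

namespace Cfsg.Agent.S0127

/-- For odd p, in a non-cyclic p-group with a cyclic subgroup of index p, the elements of order dividing p generate an elementary abelian subgroup of order p^2. -/
theorem result {R : Type*} [Group R] [Finite R] {p : ℕ} [Fact p.Prime] (hp : p ≠ 2) (hR : IsPGroup p R) (hnc : ¬ IsCyclic R) (C : Subgroup R) (hC : IsCyclic C) (hCi : C.index = p) : Cfsg.IsElementaryAbelian p (Subgroup.closure {x : R | x ^ p = 1}) ∧ Nat.card (Subgroup.closure {x : R | x ^ p = 1}) = p ^ 2 := by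
  haveI := hC
  haveI : C.Normal := Subgroup.normal_of_index_eq_minFac_card (by
    obtain ⟨n, hn⟩ := IsPGroup.iff_card.1 hR
    have hn0 : n ≠ 0 := fun h => hnc (by
      rw [h, pow_zero] at hn
      haveI := (Nat.card_eq_one_iff_unique.1 hn).1
      exact isCyclic_of_subsingleton)
    rw [hCi, hn, (Fact.out : p.Prime).pow_minFac hn0])
  obtain ⟨E, hab, hc, hE⟩ := Cfsg.Agent.Invol.OddPSmall.cyclic_index_prime hp hR hnc C hCi
  have e : Subgroup.closure {x : R | x ^ p = 1} = E := by
    rw [show {x : R | x ^ p = 1} = (E : Set R) from Set.ext hE, Subgroup.closure_eq]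
  exact ⟨⟨e ▸ hab, fun a ha => (hE a).2 (e ▸ ha)⟩, e ▸ hc⟩

end Cfsg.Agent.S0127
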