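import Cfsg.Statements.S0129
import Cfsg.Agent.Lib.Invol.OddPSmall
-- import your own Cfsg.Agent.* helpers here

set_option autoImplicit false
open Cfsg

namespace Cfsg.Agent.S0129

/-- The order of a p-group is bounded by p^(a(a+1)/2) when it has a maximal normal abelian subgroup of order p^a. -/
theorem result {G : Type*} [Group G] [Finite G] {p : ℕ} [Fact p.Prime] (hG : IsPGroup p G) (A : Subgroup G) [A.Normal] (hA : IsMulCommutative A) (hmax : ∀ B : Subgroup G, B.Normal → IsMulCommutative B → A ≤ B → B = A) (a : ℕ) (ha : Nat.card A = p ^ a) : Nat.card G ≤ p ^ (a * (a + 1) / 2) := by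
  obtain ⟨B, hAB, hBn, hBc, hBs⟩ := Cfsg.Agent.OddLocal.exists_scn_ge hG (E := A) hA
  obtain rfl := hmax B hBn hBc hAB
  have h1 := Cfsg.Agent.Invol.OddPSmall.index_centralizer_le_pow hG a B inferInstance ha
  rw [hBs] at h1
  rw [← B.card_mul_index, ha]
  calc p ^ a * B.index ≤ p ^ a * p ^ (a * (a - 1) / 2) := Nat.mul_le_mul_left _ h1
    _ = p ^ (a * (a + 1) / 2) := by
      rw [← pow_add]; congr 1
      have : a * (a + 1) = a * (a - 1) + 2 * a := by
        rcases a with _ | b <;> simp <;> ring
      omega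

end Cfsg.Agent.S0129
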