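import Cfsg.Statements.S0130
import Cfsg.Agent.Lib.Transfer.ClassTwo
-- import your own Cfsg.Agent.* helpers here

set_option autoImplicit false
open Cfsg

namespace Cfsg.Agent.S0130

open Subgroup in
open scoped commutatorElement in
/-- If `x` (with `x ^ p` in `A` and `x ^ N = 1`) and `c` centralize `A`, the product `c * x` has exponent `N`,
and `⁅x, c⁆ ∈ A`, then `c ^ N = 1` and `c ^ p ∈ A`. -/
theorem step {G : Type*} [Group G] {A : Subgroup G} {p N : ℕ} (hdiv : p ∣ N.choose 2) {x z : G}
    (hx : x ∈ centralizer (A : Set G)) (hz : z ∈ centralizer (A : Set G)) (hw : ⁅x⁻¹, z⁆ ∈ A)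
    (hxp : x ^ p ∈ A) (hzp : z ^ p ∈ A) (hxN : x ^ N = 1) (hzN : z ^ N = 1) :
    (z * x⁻¹) ^ N = 1 ∧ (z * x⁻¹) ^ p ∈ A := by
  have cz : Commute ⁅x⁻¹, z⁆ z := mem_centralizer_iff.1 hz _ hw
  have cx : Commute ⁅x⁻¹, z⁆ x⁻¹ := mem_centralizer_iff.1 (inv_mem hx) _ hw
  refine ⟨?_, ?_⟩
  · rw [Cfsg.Agent.Transfer.mul_pow_of_commute cz cx]
    have hwp : ⁅x⁻¹, z⁆ ^ p = 1 := by
      rw [← Cfsg.Agent.Transfer.commutator_pow_left cx.symm, commutatorElement_eq_one_iff_commute, inv_pow]
      exact Commute.inv_left (mem_centralizer_iff.1 hz _ hxp)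
    obtain ⟨k, hk⟩ := hdiv
    rw [hk, pow_mul, hwp, one_pow, mul_one, hzN, inv_pow, hxN, inv_one, one_mul]
  · rw [Cfsg.Agent.Transfer.mul_pow_of_commute cz cx, inv_pow]
    exact mul_mem (mul_mem hzp (inv_mem hxp)) (pow_mem hw _)

theorem dvd_choose_two {p n : ℕ} (hp : p.Prime) (hn : p ^ n ≠ 2) (h0 : n ≠ 0) : p ∣ (p ^ n).choose 2 := by
  obtain ⟨m, rfl⟩ : ∃ m, n = m + 1 := ⟨n - 1, by omega⟩
  rw [Nat.choose_two_right]
  rcases hp.eq_two_or_odd' with rfl | hodd
  · obtain ⟨k, rfl⟩ : ∃ k, m = k + 1 := ⟨m - 1, by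
      rcases Nat.eq_zero_or_pos m with rfl | h
      · exact absurd rfl hn
      · omega⟩
    rw [show 2 ^ (k + 1 + 1) * (2 ^ (k + 1 + 1) - 1) = 2 * (2 * (2 ^ k * (2 ^ (k + 1 + 1) - 1))) by ring,
      Nat.mul_div_cancel_left _ (by norm_num)]
    exact dvd_mul_right _ _
  · have he : 2 ∣ p ^ (m + 1) - 1 := by
      have hodd' : Odd (p ^ (m + 1)) := hodd.pow
      obtain ⟨r, hr⟩ := hodd'
      exact ⟨r, by omega⟩
    rw [Nat.mul_div_assoc _ he, pow_succ']
    exact Dvd.dvd.mul_right (dvd_mul_right _ _) _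

/-- If A is maximal among the normal abelian subgroups of exponent dividing p^n of a p-group (p^n ≠ 2), then A contains every element of order dividing p^n in its centralizer. -/
theorem result {G : Type*} [Group G] [Finite G] {p : ℕ} [Fact p.Prime] (hG : IsPGroup p G) (n : ℕ) (hn : p ^ n ≠ 2) (A : Subgroup G) [A.Normal] (hA : IsMulCommutative A) (hAe : ∀ a ∈ A, a ^ p ^ n = 1) (hmax : ∀ B : Subgroup G, B.Normal → IsMulCommutative B → (∀ b ∈ B, b ^ p ^ n = 1) → A ≤ B → B = A) (x : G) (hx : x ∈ Subgroup.centralizer (A : Set G)) (hxn : x ^ p ^ n = 1) : x ∈ A := by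
  open Subgroup in
  open scoped commutatorElement in
  rcases Nat.eq_zero_or_pos n with rfl | hn0
  · rw [pow_zero, pow_one] at hxn
    rw [hxn]; exact one_mem A
  have hp : p.Prime := Fact.out
  have hdiv := dvd_choose_two hp hn hn0.ne'
  set π := QuotientGroup.mk' A with hπ
  haveI : Group.IsNilpotent (G ⧸ A) := (hG.to_quotient A).isNilpotent
  obtain ⟨cl, hcl⟩ := Group.IsNilpotent.nilpotent (G ⧸ A)
  set C := Subgroup.centralizer (A : Set G) with hC
  haveI : C.Normal := inferInstance
  -- `L i`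
  have hzero : ∀ c : G, π c ∈ Subgroup.upperCentralSeries (G ⧸ A) 0 → c ∈ A := by
    intro c hc
    rw [Subgroup.upperCentralSeries_zero, Subgroup.mem_bot] at hc
    exact (QuotientGroup.eq_one_iff c).1 hc
  have hsucc : ∀ (i : ℕ) (c g : G), π c ∈ Subgroup.upperCentralSeries (G ⧸ A) (i + 1) →
      π ⁅c, g⁆ ∈ Subgroup.upperCentralSeries (G ⧸ A) i := by
    intro i c g hc
    rw [map_commutatorElement, commutatorElement_def]
    exact Subgroup.mem_upperCentralSeries_succ_iff.1 hc (π g)
  have hcommC : ∀ c g : G, c ∈ C → ⁅c, g⁆ ∈ C := fun c g hc => by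
    rw [commutatorElement_def, mul_assoc c g, mul_assoc c]
    exact mul_mem hc ((inferInstance : C.Normal).conj_mem _ (inv_mem hc) g)
  -- the main induction
  have main : ∀ i, ∀ c ∈ C, π c ∈ Subgroup.upperCentralSeries (G ⧸ A) i → c ^ p ∈ A → c ^ p ^ n = 1 →
      c ∈ A := by
    intro i
    induction i with
    | zero => intro c _ hc _ _; exact hzero c hc
    | succ i ih =>
      intro c hcC hc hcp hcn
      have claim : ∀ j, ∀ y ∈ C, π y ∈ Subgroup.upperCentralSeries (G ⧸ A) j → ⁅c, y⁆ ∈ A := by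
        intro j
        induction j with
        | zero =>
          intro y _ hy
          rw [commutatorElement_eq_one_iff_commute.2 (show Commute c y from (mem_centralizer_iff.1 hcC y (hzero y hy)).symm)]
          exact one_mem A
        | succ j jh =>
          intro y hyC hy
          set z := y * c * y⁻¹ with hz
          have hzC : z ∈ C := (inferInstance : C.Normal).conj_mem c hcC y
          have hd : π ⁅y, c⁆ ∈ Subgroup.upperCentralSeries (G ⧸ A) j := hsucc j y c hy
          have hdC := hcommC y c hyC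
          have h1 : ⁅c, ⁅y, c⁆⁆ ∈ A := jh _ hdC hd
          have hw : ⁅c⁻¹, z⁆ ∈ A := by
            have e : ⁅c⁻¹, z⁆ = c⁻¹ * ⁅c, ⁅y, c⁆⁆⁻¹ * c := by
              rw [hz]; simp only [commutatorElement_def]; group
            rw [e]
            simpa using (inferInstance : A.Normal).conj_mem _ (inv_mem h1) c⁻¹
          obtain ⟨e1, e2⟩ := step hdiv hcC hzC hw hcp
            (by rw [hz, conj_pow]; exact (inferInstance : A.Normal).conj_mem _ hcp y) hcn
            (by rw [hz, conj_pow, hcn, mul_one, mul_inv_cancel])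
          have e3 : z * c⁻¹ = ⁅y, c⁆ := by rw [hz, commutatorElement_def]
          rw [e3] at e1 e2
          have h4 : π ⁅y, c⁆ ∈ Subgroup.upperCentralSeries (G ⧸ A) i := by
            rw [← commutatorElement_inv c y, map_inv]
            exact inv_mem (hsucc i c y hc)
          have h5 := ih _ hdC h4 e2 e1
          rw [← commutatorElement_inv y c]
          exact inv_mem h5
      have hcomm : ∀ g : G, ⁅g, c⁆ ∈ A := by
        intro g
        set z := g * c * g⁻¹ with hz
        have hzC : z ∈ C := (inferInstance : C.Normal).conj_mem c hcC g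
        have hzmem : π z ∈ Subgroup.upperCentralSeries (G ⧸ A) cl := by rw [hcl]; exact Subgroup.mem_top _
        have hw : ⁅c⁻¹, z⁆ ∈ A := by
          have h := claim cl z hzC hzmem
          have e : ⁅c⁻¹, z⁆ = c⁻¹ * ⁅c, z⁆⁻¹ * c := by simp only [commutatorElement_def]; group
          rw [e]
          simpa using (inferInstance : A.Normal).conj_mem _ (inv_mem h) c⁻¹
        obtain ⟨e1, e2⟩ := step hdiv hcC hzC hw hcp
          (by rw [hz, conj_pow]; exact (inferInstance : A.Normal).conj_mem _ hcp g) hcn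
          (by rw [hz, conj_pow, hcn, mul_one, mul_inv_cancel])
        have e3 : z * c⁻¹ = ⁅g, c⁆ := by rw [hz, commutatorElement_def]
        rw [e3] at e1 e2
        have h4 : π ⁅g, c⁆ ∈ Subgroup.upperCentralSeries (G ⧸ A) i := by
          rw [← commutatorElement_inv c g, map_inv]
          exact inv_mem (hsucc i c g hc)
        refine ih _ ?_ h4 e2 e1
        rw [← commutatorElement_inv c g]
        exact inv_mem (hcommC c g hcC)
      set B := A ⊔ Subgroup.zpowers c with hB
      have hcB : c ∈ B := Subgroup.mem_sup_right (Subgroup.mem_zpowers c)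
      have hBn : B.Normal := by
        rw [← Subgroup.normalizer_eq_top_iff, eq_top_iff]
        refine fun g _ => Subgroup.mem_normalizer_iff.2 fun b => ?_
        have key : ∀ g : G, ∀ b ∈ B, g * b * g⁻¹ ∈ B := by
          intro g b hb
          have hsub : B ≤ B.comap (MulAut.conj g).toMonoidHom := by
            rw [hB]
            refine sup_le (fun a ha => ?_) (Subgroup.zpowers_le.2 ?_)
            · exact Subgroup.mem_sup_left ((inferInstance : A.Normal).conj_mem a ha g)
            · show g * c * g⁻¹ ∈ A ⊔ Subgroup.zpowers c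
              rw [show g * c * g⁻¹ = ⁅g, c⁆ * c by simp [commutatorElement_def]]
              exact mul_mem (Subgroup.mem_sup_left (hcomm g)) (Subgroup.mem_sup_right (Subgroup.mem_zpowers c))
          exact hsub hb
        exact ⟨key g b, fun h => by simpa [mul_assoc] using key g⁻¹ _ h⟩
      have hac : ∀ a ∈ A, Commute c a := fun a ha => (mem_centralizer_iff.1 hcC a ha).symm
      have hmem : ∀ b ∈ B, ∃ a ∈ A, ∃ k : ℤ, b = a * c ^ k := by
        intro b hb
        rw [hB, Subgroup.mem_sup_of_normal_left] at hb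
        obtain ⟨a, ha, d, ⟨k, rfl⟩, rfl⟩ := hb
        exact ⟨a, ha, k, rfl⟩
      have hBc : IsMulCommutative B := ⟨⟨fun u v => Subtype.ext (by
        obtain ⟨a, ha, k, hu⟩ := hmem u u.2
        obtain ⟨a', ha', l, hv⟩ := hmem v v.2
        show (u : G) * v = v * u
        rw [hu, hv]
        have haa : Commute a a' := congrArg Subtype.val (hA.is_comm.comm ⟨a, ha⟩ ⟨a', ha'⟩)
        exact ((haa.mul_left ((hac a' ha').zpow_left k)).mul_right
          (((hac a ha).symm.zpow_right l).mul_left ((Commute.refl c).zpow_zpow k l))).eq)⟩⟩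
      have hBe : ∀ b ∈ B, b ^ p ^ n = 1 := by
        intro b hb
        obtain ⟨a, ha, k, rfl⟩ := hmem b hb
        rw [((hac a ha).symm.zpow_right k).mul_pow, hAe a ha, one_mul, ← zpow_natCast, ← zpow_mul, mul_comm,
          zpow_mul, zpow_natCast, hcn, one_zpow]
      exact hmax B hBn hBc hBe le_sup_left ▸ hcB
  have main' : ∀ c ∈ C, c ^ p ∈ A → c ^ p ^ n = 1 → c ∈ A := fun c hc h1 h2 =>
    main cl c hc (by rw [hcl]; exact Subgroup.mem_top _) h1 h2
  have down : ∀ d, d ≤ n → x ^ p ^ (n - d) ∈ A := by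
    intro d
    induction d with
    | zero => intro _; rw [Nat.sub_zero, hxn]; exact one_mem A
    | succ d ih =>
      intro hd
      refine main' _ (pow_mem hx _) ?_ ?_
      · rw [← pow_mul, ← pow_succ, show n - (d + 1) + 1 = n - d by omega]
        exact ih (by omega)
      · rw [← pow_mul, mul_comm, pow_mul, hxn, one_pow]
  have h := down n le_rfl
  rwa [Nat.sub_self, pow_zero, pow_one] at h

end Cfsg.Agent.S0130
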