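import Cfsg.Statements.S0131
import Cfsg.Agent.Lib.Transfer.Control

set_option autoImplicit false
open Cfsg

namespace Cfsg.Agent.S0131

open Subgroup Cfsg.Agent.Transfer
open scoped commutatorElement Pointwise


/-- P/P' has a normal complement in G exactly when the focal subgroup G' ∩ P is as small as possible, namely P'. -/
theorem result {G : Type*} [Group G] [Finite G] {p : ℕ} [Fact p.Prime] (P : Sylow p G) : (∃ N : Subgroup G, N.Normal ∧ N ⊓ (P : Subgroup G) = ⁅(P : Subgroup G), (P : Subgroup G)⁆ ∧ N ⊔ (P : Subgroup G) = ⊤) ↔ commutator G ⊓ (P : Subgroup G) = ⁅(P : Subgroup G), (P : Subgroup G)⁆ := by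
  constructor
  · rintro ⟨N, hn, hNP, hsup⟩
    refine le_antisymm ?_ (le_inf ?_ ((commutator_le_sup _ _).trans (sup_le le_rfl le_rfl)))
    · rw [← hNP]
      refine inf_le_inf_right _ ?_
      haveI := hn
      rw [commutator_def, commutator_le]
      intro a _ b _
      have hmem : ∀ x : G, x ∈ (N : Set G) * ((P : Subgroup G) : Set G) := fun x => by
        rw [← normal_mul, hsup]; trivial
      obtain ⟨n1, hn1, p1, hp1, rfl⟩ := Set.mem_mul.mp (hmem a)
      obtain ⟨n2, hn2, p2, hp2, rfl⟩ := Set.mem_mul.mp (hmem b)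
      have hpp : ⁅p1, p2⁆ ∈ N := (hNP.ge (commutator_mem_commutator hp1 hp2)).1
      rw [← QuotientGroup.eq_one_iff] at hpp ⊢
      rw [← QuotientGroup.mk'_apply, map_commutatorElement] at hpp ⊢
      rw [map_mul, map_mul, show QuotientGroup.mk' N n1 = 1 from (QuotientGroup.eq_one_iff n1).mpr hn1,
        show QuotientGroup.mk' N n2 = 1 from (QuotientGroup.eq_one_iff n2).mpr hn2, one_mul, one_mul]
      exact hpp
    · rw [commutator_def]; exact commutator_mono le_top le_top
  · intro h
    have hf := commutator_inf_eq_focalSubgroup P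
    refine ⟨(Subgroup.transferFocal (P : Subgroup G)).ker, MonoidHom.normal_ker _, ?_, ?_⟩
    · rw [ker_transferFocal_inf_eq_focalSubgroup, ← hf, h]
    · refine top_le_iff.mp fun g _ => ?_
      obtain ⟨y, hy⟩ := focalSubgroupOf.pow_index_surjective P (Subgroup.transferFocal (P : Subgroup G) g)
      obtain ⟨y, rfl⟩ := QuotientGroup.mk'_surjective _ y
      have h2 : Subgroup.transferFocal (P : Subgroup G) (y : G) = Subgroup.transferFocal (P : Subgroup G) g :=
        (Subgroup.transferFocal_eq_pow (P : Subgroup G) y).trans hy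
      have hk : g * (y : G)⁻¹ ∈ (Subgroup.transferFocal (P : Subgroup G)).ker := by
        rw [MonoidHom.mem_ker, map_mul, map_inv, h2, mul_inv_cancel]
      simpa using mul_mem_sup hk y.2

end Cfsg.Agent.S0131
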