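import Cfsg.Statements.S0156
import Cfsg.Agent.Lib.CT.Orthogonality

set_option autoImplicit false
open Cfsg

namespace Cfsg.Agent.S0156


/-- The character of the left regular representation is the sum over the irreducible characters χ of χ 1 • χ. -/
theorem result {G : Type*} [Group G] [Fintype G] : (Representation.leftRegular ℂ G).character = ∑ᶠ χ : Cfsg.IrrCharacter G, (χ : G → ℂ) 1 • (χ : G → ℂ) := by
  classical
  funext g
  rw [finsum_eq_sum_of_fintype, Finset.sum_apply]
  simp only [Pi.smul_apply, smul_eq_mul]
  rw [CT.regular_eq_sum g]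
  show LinearMap.trace ℂ _ (Representation.leftRegular ℂ G g) = _
  rw [LinearMap.trace_eq_matrix_trace ℂ (MonoidAlgebra.basis G ℂ), Matrix.trace]
  split_ifs with h
  · subst h
    simp [Matrix.diag, LinearMap.toMatrix_apply, MonoidAlgebra.basis]
  · refine Finset.sum_eq_zero fun x _ => ?_
    simp [Matrix.diag, LinearMap.toMatrix_apply, Representation.ofMulAction_single, MonoidAlgebra.basis, h]

end Cfsg.Agent.S0156
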