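import Cfsg.Statements.S0157
import Cfsg.Agent.Lib.CT.Tables
import Cfsg.Agent.Lib.CT.Quasielementary
import Cfsg.Agent.Lib.CT.Clifford
import Mathlib.GroupTheory.GroupAction.MultipleTransitivity

set_option autoImplicit false
open Cfsg

namespace Cfsg.Agent.S0157

universe u v

theorem perm_irr_iff {G : Type u} [Group G] [Fintype G] (X : Type v) [MulAction G X] [Finite X]
    [MulAction.IsPretransitive G X] (hX : 2 ≤ Nat.card X) :
    Cfsg.IsIrrCharacter G (fun g => (Nat.card (MulAction.fixedBy X g) : ℂ) - 1) ↔
      MulAction.IsMultiplyPretransitive G X 2 := by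
  classical
  haveI := Fintype.ofFinite X
  rw [MulAction.is_two_pretransitive_iff]
  set π : G → ℂ := fun g => (Nat.card (MulAction.fixedBy X g) : ℂ) with hπ
  have hπc : Cfsg.IsCharacter G π := CT.isCharacter_perm X
  obtain ⟨x₀⟩ : Nonempty X := (Nat.card_pos_iff.mp (by omega)).1
  have hπ1 : Cfsg.classInner π (fun _ : G => (1 : ℂ)) = 1 := by
    have hπeq : π = Cfsg.indFun (MulAction.stabilizer G x₀) (fun _ => 1) :=
      funext fun g => (CT.indFun_one_eq_fixedBy X x₀ g).symm
    rw [hπeq, CT.frobenius_reciprocity _ _ (CT.isClassFunction_of_isIrr CT.isIrrCharacter_one)]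
    exact CT.irr_inner_self CT.isIrrCharacter_one
  have hmult : CT.mult π (fun _ : G => (1 : ℂ)) = 1 := by
    have h := CT.mult_spec hπc CT.isCharacter_one
    rw [hπ1] at h
    exact_mod_cast h.symm
  have hθc : Cfsg.IsCharacter G (fun g => π g - 1) := by
    have := CT.isCharacter_sub_constituent hπc CT.isIrrCharacter_one (k := 1) (le_of_eq hmult.symm)
    convert this using 1
    funext g
    simp
  have hnorm : Cfsg.classInner (fun g => π g - 1) (fun g => π g - 1) =
      Cfsg.classInner π π - 1 := by
    have h1π : Cfsg.classInner (fun _ : G => (1 : ℂ)) π = 1 := by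
      rw [← CT.classInner_conj_symm, hπ1, map_one]
    rw [show (fun g => π g - 1) = π - fun _ => 1 from rfl, CT.classInner_sub_left,
      CT.classInner_sub_right, CT.classInner_sub_right, hπ1, h1π,
      CT.irr_inner_self CT.isIrrCharacter_one]
    ring
  obtain ⟨s, hs⟩ := CT.fixedBy_eq_sum_orbits (G := G) (X × X)
  have hpp : Cfsg.classInner π π = (Nat.card (MulAction.orbitRel.Quotient G (X × X)) : ℂ) := by
    have h1 : ∀ g, (Nat.card (MulAction.fixedBy (X × X) g) : ℂ) = π g * π g := by
      intro g
      simp only [hπ]
      rw [← Nat.cast_mul, ← Nat.card_prod]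
      congr 1
      exact Nat.card_congr
        { toFun := fun p => (⟨p.1.1, congrArg Prod.fst p.2⟩, ⟨p.1.2, congrArg Prod.snd p.2⟩)
          invFun := fun p => ⟨(p.1.1, p.2.1), Prod.ext p.1.2 p.2.2⟩
          left_inv := fun p => rfl
          right_inv := fun p => rfl }
    have h2 := MulAction.sum_card_fixedBy_eq_card_orbits_mul_card_group (G := G) (X := X × X)
    rw [Cfsg.classInner, inv_mul_eq_iff_eq_mul₀ CT.card_ne_zero]
    simp only [hπ, map_natCast]
    simp only [Fintype.card_eq_nat_card] at h2
    have h3 := congrArg (Nat.cast (R := ℂ)) h2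
    push_cast at h3
    simp only [h1] at h3
    rw [h3, mul_comm]
  have h2t : (∀ {a b c d : X}, a ≠ b → c ≠ d → ∃ g : G, g • a = c ∧ g • b = d) ↔
      Nat.card (MulAction.orbitRel.Quotient G (X × X)) = 2 := by
    constructor
    · intro h
      have ⟨a, b, hab⟩ := Fintype.exists_pair_of_one_lt_card
        (α := X) (by rw [← Nat.card_eq_fintype_card]; omega)
      rw [Nat.card_eq_two_iff]
      refine ⟨Quotient.mk'' (a, a), Quotient.mk'' (a, b), fun e => ?_, ?_⟩
      · obtain ⟨g, hg⟩ := (MulAction.orbitRel_apply (G := G)).mp (Quotient.exact e)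
        have e1 : g • a = a := congrArg Prod.fst hg
        have e2 : g • b = a := congrArg Prod.snd hg
        exact hab (smul_left_cancel g (e1.trans e2.symm))
      · rw [Set.eq_univ_iff_forall]
        intro q
        induction q using Quotient.inductionOn' with
        | _ p =>
          obtain ⟨c, d⟩ := p
          rcases eq_or_ne c d with rfl | hcd
          · obtain ⟨g, hg⟩ := MulAction.exists_smul_eq G a c
            exact Or.inl (Quotient.sound' ((MulAction.orbitRel_apply (G := G)).mpr
              ⟨g, Prod.ext hg hg⟩))
          · obtain ⟨g, h1, h2⟩ := h hab hcd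
            exact Or.inr (Quotient.sound' ((MulAction.orbitRel_apply (G := G)).mpr
              ⟨g, Prod.ext h1 h2⟩))
    · intro h a b c d hab hcd
      have hne : ∀ u v w : X, v ≠ w → (Quotient.mk'' (u, u) : MulAction.orbitRel.Quotient G (X × X)) ≠
          Quotient.mk'' (v, w) := by
        intro u v w hvw e
        obtain ⟨g, hg⟩ := (MulAction.orbitRel_apply (G := G)).mp (Quotient.exact e)
        have e1 : g • v = u := congrArg Prod.fst hg
        have e2 : g • w = u := congrArg Prod.snd hg
        exact hvw (smul_left_cancel g (e1.trans e2.symm))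
      obtain ⟨p, q, hpq, huniv⟩ := Nat.card_eq_two_iff.mp h
      have hall := Set.eq_univ_iff_forall.mp huniv
      have e : (Quotient.mk'' (c, d) : MulAction.orbitRel.Quotient G (X × X)) = Quotient.mk'' (a, b) := by
        have n1 := hne a a b hab
        have n2 := hne a c d hcd
        simp only [Set.mem_insert_iff, Set.mem_singleton_iff] at hall
        rcases hall (Quotient.mk'' (a, a)) with h1 | h1 <;>
          rcases hall (Quotient.mk'' (a, b)) with h2 | h2 <;>
            rcases hall (Quotient.mk'' (c, d)) with h3 | h3 <;>
              first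
              | exact absurd (h1.trans h2.symm) n1
              | exact absurd (h1.trans h3.symm) n2
              | exact h3.trans h2.symm
      obtain ⟨g, hg⟩ := (MulAction.orbitRel_apply (G := G)).mp (Quotient.exact e)
      exact ⟨g, congrArg Prod.fst hg, congrArg Prod.snd hg⟩
  rw [h2t]
  constructor
  · intro h
    have := CT.irr_inner_self h
    rw [hnorm, hpp, sub_eq_iff_eq_add] at this
    have h2 : (Nat.card (MulAction.orbitRel.Quotient G (X × X)) : ℂ) = ((2 : ℕ) : ℂ) := by
      rw [this]; norm_num
    exact Nat.cast_injective h2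
  · intro h
    refine CT.isIrr_of_inner_self hθc ?_
    rw [hnorm, hpp, h]
    norm_num


/-- For a transitive action of a finite group on a finite set with at least two points: the action is 2-transitive if and only if the function sending g to (number of fixed points of g) − 1 is an irreducible character. -/
theorem result {G : Type*} [Group G] [Finite G] (X : Type*) [MulAction G X] [Finite X] [MulAction.IsPretransitive G X] (hX : 2 ≤ Nat.card X) : Cfsg.IsIrrCharacter G (fun g => (Nat.card (MulAction.fixedBy X g) : ℂ) - 1) ↔ MulAction.IsMultiplyPretransitive G X 2 := by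
  haveI := Fintype.ofFinite G
  classical
  exact perm_irr_iff X hX

end Cfsg.Agent.S0157
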