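import Cfsg.Statements.S0166
import Cfsg.Agent.Lib.CT.CyclotomicModel
-- import your own Cfsg.Agent.* helpers here

set_option autoImplicit false
open Cfsg

namespace Cfsg.Agent.S0166

/-- Brauer's splitting field Theorem: a complex representation of a finite group of exponent m is equivalent to a representation by matrices with entries in ℚ adjoined exp(2πi/m). -/
theorem result {G : Type*} [Group G] [Finite G] (n : ℕ) (ρ : Representation ℂ G (Fin n → ℂ)) : ∃ σ : Representation ℂ G (Fin n → ℂ), Nonempty (ρ.Equiv σ) ∧ ∀ g : G, ∀ i j : Fin n, LinearMap.toMatrix' (σ g) i j ∈ Algebra.adjoin ℚ ({Complex.exp (2 * Real.pi * Complex.I / (Monoid.exponent G : ℂ))} : Set ℂ) := by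
  classical
  letI := Fintype.ofFinite G
  set m := Monoid.exponent G with hm
  have hm0 : m ≠ 0 := Monoid.exponent_ne_zero_of_finite
  set ζ : ℂ := Complex.exp (2 * Real.pi * Complex.I / (m : ℂ)) with hζdef
  have hζ : IsPrimitiveRoot ζ m := Complex.isPrimitiveRoot_exp m hm0
  have halg : IsAlgebraic ℚ ζ := ((IsIntegral.of_pow (Nat.pos_of_ne_zero hm0)
    (hζ.pow_eq_one ▸ isIntegral_one) : IsIntegral ℚ ζ)).isAlgebraic
  set K : Subfield ℂ := (IntermediateField.adjoin ℚ ({ζ} : Set ℂ)).toSubfield with hKdef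
  have hK : ∀ z : ℂ, z ^ m = 1 → z ∈ K := by
    intro z hz
    haveI : NeZero m := ⟨hm0⟩
    obtain ⟨i, -, rfl⟩ := hζ.eq_pow_of_pow_eq_one hz
    exact pow_mem (IntermediateField.mem_adjoin_simple_self ℚ ζ) i
  have hKadj : ∀ z : ℂ, z ∈ K → z ∈ Algebra.adjoin ℚ ({ζ} : Set ℂ) := fun z hz => by
    rw [← IntermediateField.adjoin_simple_toSubalgebra_of_isAlgebraic halg]
    exact hz
  obtain ⟨k, τ, hτ⟩ := CT.CyclotomicModel.realizable K hK (CT.isCharacter_character ρ)
  have hk : k = n := by
    have h1 := congrFun hτ 1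
    simp only [CT.CyclotomicModel.cchar, Representation.char_one, Module.finrank_fin_fun] at h1
    exact_mod_cast h1
  subst hk
  refine ⟨CT.CyclotomicModel.extRep K τ,
    CT.equiv_of_character_eq ρ _ (by rw [CT.CyclotomicModel.extRep_character, hτ]),
    fun g i j => hKadj _ (CT.CyclotomicModel.extRep_entries K τ g i j)⟩

end Cfsg.Agent.S0166
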