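import Cfsg.Statements.S0173
import Cfsg.Agent.Lib.CT.Tables

set_option autoImplicit false
open Cfsg

namespace Cfsg.Agent.S0173

theorem comp_irr {G : Type*} [Group G] (α : G ≃* G) (χ : Cfsg.IrrCharacter G) :
    Cfsg.IsIrrCharacter G ((χ : G → ℂ) ∘ α.symm) :=
  CT.isIrrCharacter_comp α.symm.toMonoidHom α.symm.surjective χ.2


/-- Brauer's permutation lemma for a single automorphism: the number of conjugacy classes mapped to themselves equals the number of irreducible complex characters χ with χ ∘ α = χ. -/
theorem result {G : Type*} [Group G] [Finite G] (α : G ≃* G) : Nat.card {C : ConjClasses G // ConjClasses.map α.toMonoidHom C = C} = Nat.card {χ : Cfsg.IrrCharacter G // (χ : G → ℂ) ∘ α = (χ : G → ℂ)} := by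
  haveI := Fintype.ofFinite G
  have hinj : Function.Injective fun χ : Cfsg.IrrCharacter G =>
      (⟨_, comp_irr α χ⟩ : Cfsg.IrrCharacter G) := fun a b e => Subtype.ext (funext fun x => by
    simpa using congrFun (congrArg Subtype.val e) (α x))
  have h := CT.brauer_permutation (Equiv.ofBijective _ (Finite.injective_iff_bijective.mp hinj))
    (ConjClasses.map α.toMonoidHom) fun χ g g' e => by
      show (χ : G → ℂ) (α.symm g') = (χ : G → ℂ) g
      rw [show ConjClasses.map α.toMonoidHom (ConjClasses.mk g) = ConjClasses.mk (α g) from rfl] at e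
      obtain ⟨c, hc⟩ := isConj_iff.mp (ConjClasses.mk_eq_mk_iff_isConj.mp e)
      refine (CT.isClassFunction_isConj (CT.isClassFunction_of_isIrr χ.2) ?_)
      refine isConj_iff.mpr ⟨α.symm c, ?_⟩
      apply α.injective
      simp [← hc]
  rw [← h]
  refine Nat.card_congr (Equiv.subtypeEquivRight fun χ => ?_)
  rw [Subtype.ext_iff]
  show (χ : G → ℂ) ∘ α.symm = (χ : G → ℂ) ↔ _
  constructor <;> intro e <;> funext x
  · simpa using (congrFun e (α x)).symm
  · simpa using (congrFun e (α.symm x)).symm

end Cfsg.Agent.S0173
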