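import Cfsg.Statements.S0184
import Cfsg.Agent.Lib.CT.Kernel
import Cfsg.Agent.Lib.CT.Integral

set_option autoImplicit false
open Cfsg

namespace Cfsg.Agent.S0184

theorem isCyclic_center {G : Type*} [Group G] [Fintype G] {n : ℕ}
    (ρ : Representation ℂ G (Fin n → ℂ)) [ρ.IsIrreducible] (hf : Function.Injective ρ) :
    IsCyclic (Subgroup.center G) := by
  haveI := ((CT.isIrreducible_iff ρ).mp ‹_›).1
  choose ω hω _ using fun z : Subgroup.center G => CT.central_scalar ρ z.2
  have hinj : ∀ a b : ℂ, a • (LinearMap.id : (Fin n → ℂ) →ₗ[ℂ] Fin n → ℂ) = b • LinearMap.id → a = b := by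
    intro a b h
    obtain ⟨v, hv⟩ := exists_ne (0 : Fin n → ℂ)
    exact smul_left_injective ℂ hv (LinearMap.congr_fun h v)
  let f : Subgroup.center G →* ℂ :=
    { toFun := ω
      map_one' := hinj _ _ (by rw [← hω 1]; simp [Module.End.one_eq_id])
      map_mul' := fun a b => hinj _ _ (by
        rw [← hω (a * b), Subgroup.coe_mul, map_mul, hω a, hω b]
        ext v
        simp [smul_smul, mul_comm]) }
  exact isCyclic_of_subgroup_isDomain f fun a b h => Subtype.ext (hf (by
    rw [hω a, hω b, show ω a = ω b from h]))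

theorem exists_mem_center {G : Type*} [Group G] [Finite G] {p : ℕ} [Fact p.Prime] (hG : IsPGroup p G)
    (N : Subgroup G) [N.Normal] (hN : N ≠ ⊥) : ∃ z ∈ N, z ∈ Subgroup.center G ∧ orderOf z = p := by
  have hnc : N ⊓ Subgroup.center G ≠ ⊥ := by
    have hd : p ∣ Nat.card N := by
      obtain ⟨k, hk⟩ := IsPGroup.iff_card.mp (hG.to_subgroup N)
      rw [hk]
      refine dvd_pow_self p fun h0 => hN (Subgroup.eq_bot_of_card_eq N (by rw [hk, h0, pow_zero]))
    have hmem : (1 : N) ∈ MulAction.fixedPoints (ConjAct G) N := fun g => Subtype.ext (by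
      simp [ConjAct.Subgroup.val_conj_smul, ConjAct.smul_def])
    have hGc : IsPGroup p (ConjAct G) := hG.of_equiv ConjAct.toConjAct
    obtain ⟨b, hb, hb1⟩ := hGc.exists_fixed_point_of_prime_dvd_card_of_fixed_point N hd hmem
    intro hbot
    refine hb1 (Subtype.ext ?_)
    refine ((Subgroup.eq_bot_iff_forall _).mp hbot (b : G) ⟨b.2, Subgroup.mem_center_iff.mpr fun g => ?_⟩).symm
    have := congrArg Subtype.val (hb (ConjAct.toConjAct g))
    simp [ConjAct.Subgroup.val_conj_smul, ConjAct.smul_def] at this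
    exact mul_inv_eq_iff_eq_mul.mp this
  have hd : p ∣ Nat.card (N ⊓ Subgroup.center G : Subgroup G) := by
    obtain ⟨k, hk⟩ := IsPGroup.iff_card.mp (hG.to_subgroup (N ⊓ Subgroup.center G))
    rw [hk]
    refine dvd_pow_self p fun h0 => hnc (Subgroup.eq_bot_of_card_eq _ (by rw [hk, h0, pow_zero]))
  obtain ⟨⟨z, hz⟩, hzo⟩ := exists_prime_orderOf_dvd_card' p hd
  exact ⟨z, hz.1, hz.2, by rwa [← Subgroup.orderOf_coe] at hzo⟩


/-- A finite p-group admits a faithful irreducible complex representation if and only if its centre is cyclic. -/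
theorem result {G : Type*} [Group G] [Finite G] (p : ℕ) [Fact p.Prime] (hG : IsPGroup p G) : (∃ (n : ℕ) (ρ : Representation ℂ G (Fin n → ℂ)), ρ.IsIrreducible ∧ Function.Injective ρ) ↔ IsCyclic (Subgroup.center G) := by
  haveI := Fintype.ofFinite G
  constructor
  · rintro ⟨n, ρ, hρ, hinj⟩
    haveI := hρ
    exact isCyclic_center ρ hinj
  intro hcyc
  classical
  rcases subsingleton_or_nontrivial G with hs | hs
  · obtain ⟨n, ρ, hρ, -⟩ := CT.isIrrCharacter_one (G := G)
    exact ⟨n, ρ, hρ, fun a b _ => Subsingleton.elim a b⟩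
  obtain ⟨z, -, hzc, hzo⟩ := exists_mem_center hG (⊤ : Subgroup G) top_ne_bot
  have hp := (Fact.out : p.Prime)
  obtain ⟨χ, hχ⟩ : ∃ χ : Cfsg.IrrCharacter G, (χ : G → ℂ) z ≠ (χ : G → ℂ) 1 := by
    by_contra hcon
    push Not at hcon
    rw [show z = 1 from isConj_one_left.mp (CT.isConj_iff_forall_irr.mpr hcon)] at hzo
    exact hp.one_lt.ne (orderOf_one.symm.trans hzo)
  obtain ⟨n, ρ, hρ, hρe⟩ := χ.2
  refine ⟨n, ρ, hρ, ?_⟩
  have key : ρ.ker = ⊥ := by
    by_contra hk
    obtain ⟨w, hwk, hwc, hwo⟩ := exists_mem_center hG ρ.ker hk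
    have hmem : (⟨z, hzc⟩ : Subgroup.center G) ∈ Subgroup.zpowers (⟨w, hwc⟩ : Subgroup.center G) := by
      haveI := Fintype.ofFinite (Subgroup.center G)
      have hw' : orderOf (⟨w, hwc⟩ : Subgroup.center G) = p := by rw [Subgroup.orderOf_mk]; exact hwo
      have hsub : ((Subgroup.zpowers (⟨w, hwc⟩ : Subgroup.center G) : Set (Subgroup.center G)).toFinset) ⊆
          Finset.univ.filter fun x => x ^ p = 1 := by
        intro x hx
        rw [Set.mem_toFinset, SetLike.mem_coe] at hx
        simp only [Finset.mem_filter, Finset.mem_univ, true_and]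
        exact orderOf_dvd_iff_pow_eq_one.mp (hw' ▸ orderOf_dvd_of_mem_zpowers hx)
      have heq := Finset.eq_of_subset_of_card_le hsub ((IsCyclic.card_pow_eq_one_le hp.pos).trans (le_of_eq (by
        rw [Set.toFinset_card, ← Nat.card_eq_fintype_card]
        exact hw'.symm.trans (Nat.card_zpowers _).symm)))
      have hz' : (⟨z, hzc⟩ : Subgroup.center G) ∈ Finset.univ.filter fun x => x ^ p = 1 := by
        simp only [Finset.mem_filter, Finset.mem_univ, true_and]
        exact Subtype.ext (by rw [Subgroup.coe_pow, ← hzo, pow_orderOf_eq_one]; rfl)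
      rw [← heq, Set.mem_toFinset] at hz'
      exact hz'
    obtain ⟨k, hk'⟩ := Subgroup.mem_zpowers_iff.mp hmem
    have hzk : z ∈ ρ.ker := by
      rw [show z = w ^ k from (congrArg Subtype.val hk').symm.trans (by simp)]
      exact ρ.ker.zpow_mem hwk k
    apply hχ
    rw [← hρe]
    simp only [Representation.character]
    rw [MonoidHom.mem_ker.mp hzk, map_one ρ]
  exact (injective_iff_map_eq_one ρ).mpr fun g hg => Subgroup.mem_bot.mp (key ▸ MonoidHom.mem_ker.mpr hg)

end Cfsg.Agent.S0184
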