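import Cfsg.Statements.S0185
import Cfsg.Agent.Lib.CT.Kernel
import Cfsg.Agent.Lib.CT.Integral

set_option autoImplicit false
open Cfsg

namespace Cfsg.Agent.S0185

theorem deg_one_of_small {G : Type*} [Group G] [Fintype G] {d : ℕ}
    (h : ∀ p : ℕ, p.Prime → p ∣ Nat.card G → d < p) {χ : G → ℂ} (hχ : Cfsg.IsIrrCharacter G χ)
    (hle : CT.deg χ ≤ d) : CT.deg χ = 1 := by
  by_contra hne
  obtain ⟨q, hq, hqd⟩ := Nat.exists_prime_and_dvd hne
  obtain ⟨n, ρ, hρ, rfl⟩ := hχ
  haveI := hρ
  have hdiv : q ∣ Nat.card G := by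
    refine hqd.trans ?_
    rw [CT.deg_eq_finrank]
    exact CT.finrank_dvd_card ρ
  have h1 := Nat.le_of_dvd (CT.deg_pos ⟨n, ρ, hρ, rfl⟩) hqd
  have h2 := h q hq hdiv
  omega


/-- If a finite group has a faithful complex representation of degree less than the smallest prime dividing its order, the group is abelian. -/
theorem result {G : Type*} [Group G] [Finite G] {V : Type*} [AddCommGroup V] [Module ℂ V] [FiniteDimensional ℂ V] (ρ : Representation ℂ G V) (hfaithful : Function.Injective ρ) (hdeg : ∀ p : ℕ, p.Prime → p ∣ Nat.card G → Module.finrank ℂ V < p) (a b : G) : a * b = b * a := by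
  haveI := Fintype.ofFinite G
  classical
  have hc := CT.isCharacter_character ρ
  have hexp := CT.classFunction_eq_sum (CT.isClassFunction_of_isCharacter hc)
  have hm : ∀ χ : Cfsg.IrrCharacter G, classInner ρ.character (χ : G → ℂ) = (CT.mult ρ.character χ : ℂ) :=
    fun χ => CT.mult_spec hc (CT.isCharacter_of_isIrr χ.2)
  simp only [hm] at hexp
  have hval : ∀ x : G, ρ.character x = ∑ χ : Cfsg.IrrCharacter G, (CT.mult ρ.character χ : ℂ) * (χ : G → ℂ) x := fun x => by
    conv_lhs => rw [hexp]
    simp [Finset.sum_apply]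
  have hd : Module.finrank ℂ V = ∑ χ : Cfsg.IrrCharacter G, CT.mult ρ.character χ * CT.deg (χ : G → ℂ) := by
    have h := hval 1
    rw [Representation.char_one, Finset.sum_congr rfl fun χ _ => by
      rw [CT.deg_eq (CT.isCharacter_of_isIrr χ.2)]] at h
    exact_mod_cast h
  set x := a * b * a⁻¹ * b⁻¹ with hx
  have hmem : x ∈ commutator G := by
    rw [commutator_def, hx, ← commutatorElement_def]
    exact Subgroup.commutator_mem_commutator (Subgroup.mem_top a) (Subgroup.mem_top b)
  have hone : ρ.character x = (Module.finrank ℂ V : ℂ) := by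
    rw [← (Representation.char_one ρ), hval x, hval 1]
    refine Finset.sum_congr rfl fun χ _ => ?_
    rcases Nat.eq_zero_or_pos (CT.mult ρ.character χ) with h0 | hpos
    · simp [h0]
    · have hle : CT.deg (χ : G → ℂ) ≤ Module.finrank ℂ V := by
        rw [hd]
        refine le_trans ?_ (Finset.single_le_sum (fun χ _ => Nat.zero_le _) (Finset.mem_univ χ))
        exact Nat.le_mul_of_pos_left _ hpos
      rw [CT.linear_trivial_on_commutator (CT.isCharacter_of_isIrr χ.2) (by
        rw [CT.deg_eq (CT.isCharacter_of_isIrr χ.2), deg_one_of_small hdeg χ.2 hle, Nat.cast_one]) x hmem]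
  have h1 : x = 1 := hfaithful (((CT.char_eq_degree_iff ρ x).mp hone).trans (map_one ρ).symm)
  rw [hx, mul_inv_eq_one, mul_inv_eq_iff_eq_mul] at h1
  exact h1

end Cfsg.Agent.S0185
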