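import Cfsg.Statements.S0189
import Cfsg.Agent.Lib.CT.Induced

set_option autoImplicit false
open Cfsg

namespace Cfsg.Agent.S0189


/-- If a complex character of a finite group vanishes at every non-identity element of a Sylow p-subgroup P, then |P| divides its degree. -/
theorem result {G : Type*} [Group G] [Finite G] (p : ℕ) [Fact p.Prime] (P : Sylow p G) (χ : G → ℂ) (hχ : Cfsg.IsCharacter G χ) (hvan : ∀ g : G, g ∈ P → g ≠ 1 → χ g = 0) : ∃ k : ℕ, χ 1 = (Nat.card P : ℂ) * k := by
  haveI := Fintype.ofFinite G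
  classical
  have hres := CT.isCharacter_restrict (P : Subgroup G) hχ
  obtain ⟨k, hk⟩ := CT.classInner_character_nat hres (CT.isCharacter_one (G := (P : Subgroup G)))
  refine ⟨k, ?_⟩
  rw [← hk, classInner, Finset.sum_eq_single (1 : (P : Subgroup G))]
  · have hP : (Nat.card (P : Subgroup G) : ℂ) ≠ 0 := Nat.cast_ne_zero.mpr Nat.card_pos.ne'
    simp only [map_one, mul_one, OneMemClass.coe_one]
    rw [← mul_assoc]
    exact (by rw [mul_inv_cancel₀ hP, one_mul])
  · intro b _ hb
    rw [hvan b b.2 (fun e => hb (Subtype.ext e)), zero_mul]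
  · simp

end Cfsg.Agent.S0189
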