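import Cfsg.Statements.S0191
import Cfsg.Agent.Lib.ClassSum.GaloisMean
import Cfsg.Agent.Lib.CT.Orthogonality

set_option autoImplicit false
open Cfsg

namespace Cfsg.Agent.S0191

/-- An irreducible complex representation of a finite group of degree greater than 1 has a character that vanishes somewhere. -/
theorem result {G : Type*} [Group G] [Finite G] {V : Type*} [AddCommGroup V] [Module ℂ V] [FiniteDimensional ℂ V] (ρ : Representation ℂ G V) [ρ.IsIrreducible] (hdeg : 1 < Module.finrank ℂ V) : ∃ g : G, ρ.character g = 0 := by
  classical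
  haveI := Fintype.ofFinite G
  by_contra hcon
  push Not at hcon
  have hirr := CT.isIrrCharacter_character ρ
  have hc := CT.isCharacter_of_isIrr hirr
  let S : Finset G := Finset.univ.erase 1
  have hS : ∀ x ∈ S, ∀ k : ℕ, k.Coprime (Nat.card G) → x ^ k ∈ S := by
    intro x hx k hk
    refine Finset.mem_erase.mpr ⟨fun h => Finset.ne_of_mem_erase hx ?_, Finset.mem_univ _⟩
    exact (powCoprime (Nat.Coprime.symm hk)).injective
      (show x ^ k = (1 : G) ^ k by rw [one_pow, h])
  have hge := ClassSum.card_le_sum_norm_sq hc S hS fun x _ => hcon x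
  have htot : ∑ g : G, ‖ρ.character g‖ ^ 2 = (Nat.card G : ℝ) := by
    have h := CT.irr_inner_self hirr
    rw [CT.classInner_self, ← Complex.ofReal_one, Complex.ofReal_inj] at h
    field_simp at h
    exact h
  rw [← Finset.add_sum_erase _ _ (Finset.mem_univ (1 : G)), Representation.char_one,
    Complex.norm_natCast] at htot
  have hScard : (S.card : ℝ) + 1 = (Nat.card G : ℝ) := by
    have h1 : 0 < Fintype.card G := Fintype.card_pos
    rw [Nat.card_eq_fintype_card]
    simp only [S, Finset.card_erase_of_mem (Finset.mem_univ _), Finset.card_univ]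
    rw [Nat.cast_sub h1]; simp
  have h2 : (2 : ℝ) ≤ Module.finrank ℂ V := by exact_mod_cast hdeg
  nlinarith

end Cfsg.Agent.S0191
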