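import Cfsg.Statements.S0192
import Cfsg.Agent.Lib.CT.Integral
import Cfsg.Agent.Lib.CT.Induced
import Cfsg.Agent.Lib.CT.Clifford

set_option autoImplicit false
open Cfsg

namespace Cfsg.Agent.S0192

universe u

theorem generation_aux {G : Type u} [Group G] [Fintype G] [IsSimpleGroup G] (H₁ H₂ : Subgroup G)
    [Fintype H₁] [Fintype H₂] [Fintype ↥(H₁ ⊓ H₂)] (χ : G → ℂ) (hχ : Cfsg.IsIrrCharacter G χ)
    (hχ1 : χ ≠ fun _ => 1)
    (hlt : (Cfsg.classInner (fun x : ↥(H₁ ⊓ H₂) => χ x) (fun _ => 1)).re <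
      (Cfsg.classInner (fun x : H₁ => χ x) (fun _ => 1)).re +
        (Cfsg.classInner (fun x : H₂ => χ x) (fun _ => 1)).re) : H₁ ⊔ H₂ ≠ ⊤ := by
  classical
  obtain ⟨n, ρ, hρ, rfl⟩ := hχ
  let F : Subgroup G → Submodule ℂ (Fin n → ℂ) := fun H =>
    { carrier := {v | ∀ h ∈ H, ρ h v = v}
      zero_mem' := fun h _ => map_zero _
      add_mem' := fun {a b} ha hb h hh => by rw [map_add, ha h hh, hb h hh]
      smul_mem' := fun c {a} ha h hh => by rw [map_smul, ha h hh] }
  have hdim : ∀ (H : Subgroup G) [Fintype H],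
      (Cfsg.classInner (fun x : H => ρ.character x) (fun _ => 1)).re = Module.finrank ℂ (F H) := by
    intro H _
    have hc : (Nat.card H : ℂ) ≠ 0 := Nat.cast_ne_zero.mpr Nat.card_pos.ne'
    letI := invertibleOfNonzero hc
    let σ : Representation ℂ H (Fin n → ℂ) := ρ.comp H.subtype
    have e : σ.invariants = F H := by
      ext v
      exact ⟨fun h x hx => h ⟨x, hx⟩, fun h x => h x x.2⟩
    have h := σ.card_inv_mul_sum_char_eq_finrank
    rw [e] at h
    rw [Cfsg.classInner]
    simp only [map_one, mul_one]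
    rw [show (∑ x : H, ρ.character (x : G)) = ∑ x : H, σ.character x from rfl, h]
    simp
  intro htop
  have hle : F H₁ ⊔ F H₂ ≤ F (H₁ ⊓ H₂) :=
    sup_le (fun v hv h hh => hv h hh.1) (fun v hv h hh => hv h hh.2)
  have hbot : F H₁ ⊓ F H₂ = ⊥ := by
    rw [eq_bot_iff]
    intro v hv
    let S : Subgroup G :=
      { carrier := {g | ρ g v = v}
        one_mem' := by simp
        mul_mem' := fun {a b} (ha : ρ a v = v) (hb : ρ b v = v) => by
          show ρ (a * b) v = v
          rw [map_mul, Module.End.mul_apply, hb, ha]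
        inv_mem' := fun {a} (ha : ρ a v = v) => by
          show ρ a⁻¹ v = v
          conv_lhs => rw [← ha]
          rw [← Module.End.mul_apply, ← map_mul, inv_mul_cancel, map_one, Module.End.one_apply] }
    have hST : (⊤ : Subgroup G) ≤ S := htop ▸ sup_le (fun g hg => hv.1 g hg) (fun g hg => hv.2 g hg)
    have hV := (CT.isIrreducible_iff ρ).mp hρ
    rw [Submodule.mem_bot]
    by_contra hv0
    have hfixv : ∀ g, ρ g v = v := fun g => hST (Subgroup.mem_top g)
    rcases hV.2 (Submodule.span ℂ {v}) (fun g w hw => by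
      obtain ⟨c, rfl⟩ := Submodule.mem_span_singleton.mp hw
      rw [map_smul, hfixv g]; exact hw) with e | e
    · simp [hv0] at e
    · apply hχ1
      have hid : ∀ g, ρ g = 1 := fun g => by
        refine LinearMap.ext fun w => ?_
        obtain ⟨c, rfl⟩ := Submodule.mem_span_singleton.mp (e ▸ Submodule.mem_top : w ∈ _)
        rw [map_smul, hfixv g]; rfl
      have h1 : Module.finrank ℂ (Fin n → ℂ) = 1 := by
        rw [← finrank_top ℂ, ← e, finrank_span_singleton hv0]
      funext g
      simp only [Representation.character, hid g, LinearMap.trace_one]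
      exact_mod_cast h1
  have h1 := Submodule.finrank_sup_add_finrank_inf_eq (F H₁) (F H₂)
  rw [hbot, finrank_bot, add_zero] at h1
  have h2 := Submodule.finrank_mono hle
  rw [hdim, hdim, hdim] at hlt
  have h3 : Module.finrank ℂ (F (H₁ ⊓ H₂)) < Module.finrank ℂ (F H₁) + Module.finrank ℂ (F H₂) := by
    exact_mod_cast hlt
  omega


/-- Brauer's generation criterion. Let G be a finite simple group, H₁ and H₂ subgroups, and χ a non-principal irreducible character. If the multiplicity of the principal character in χ restricted to H₁ ⊓ H₂ is less than the sum of the corresponding multiplicities for H₁ and H₂, then H₁ and H₂ do not generate G. -/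
theorem result {G : Type*} [Group G] [Fintype G] [IsSimpleGroup G] (H₁ H₂ : Subgroup G) [Fintype H₁] [Fintype H₂] [Fintype ↥(H₁ ⊓ H₂)] (χ : G → ℂ) (hχ : Cfsg.IsIrrCharacter G χ) (hχ1 : χ ≠ fun _ => 1) (hlt : (Cfsg.classInner (fun x : ↥(H₁ ⊓ H₂) => χ x) (fun _ => 1)).re < (Cfsg.classInner (fun x : H₁ => χ x) (fun _ => 1)).re + (Cfsg.classInner (fun x : H₂ => χ x) (fun _ => 1)).re) : H₁ ⊔ H₂ ≠ ⊤ := by
  exact generation_aux H₁ H₂ χ hχ hχ1 hlt

end Cfsg.Agent.S0192
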