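import Cfsg.Statements.S0194
import Cfsg.Agent.Lib.CT.FrobeniusGroup

set_option autoImplicit false
open scoped ComplexConjugate
open Cfsg

namespace Cfsg.Agent.S0194


/-- Let G have odd order, H be a normal subgroup and θ a non-principal irreducible character of H. Then the function induced from θ is orthogonal to its complex conjugate. -/
theorem result {G : Type*} [Group G] [Fintype G] (hodd : Odd (Nat.card G)) (H : Subgroup G) [H.Normal] (θ : H → ℂ) (hθ : Cfsg.IsIrrCharacter H θ) (hθ1 : θ ≠ fun _ => 1) : Cfsg.classInner (fun g => conj (Cfsg.indFun H θ g)) (Cfsg.indFun H θ) = 0 := by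
  haveI := Fintype.ofFinite H
  rw [Cfsg.Agent.CT.frobenius_reciprocity' H (χ := fun g => conj (Cfsg.indFun H θ g))
    (fun g x => congrArg _ (CT.isClassFunction_indFun H θ g x))]
  have e : (fun h : H => conj (Cfsg.indFun H θ h)) =
      ((Nat.card H : ℂ)⁻¹) • ∑ g : G, (fun h : H => conj (CT.conjFun H g θ h)) := by
    funext h
    simp [CT.indFun_apply_normal, Finset.sum_apply]
  rw [e, CT.classInner_smul_left, CT.classInner_sum_left, Finset.sum_eq_zero, mul_zero]
  intro g _
  refine CT.irr_inner_of_ne (CT.conj_irr (CT.isIrrCharacter_conjFun H g hθ)) hθ fun he => hθ1 ?_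
  have hg : CT.conjFun H g θ = fun h => conj (θ h) := funext fun h => by
    have := congrFun he h
    skip
    rw [← this, Complex.conj_conj]
  have hg2 : CT.conjFun H (g ^ 2) θ = θ := by
    rw [pow_two, CT.conjFun_mul, hg]
    funext h
    exact congrFun he h
  obtain ⟨r, hr⟩ : Odd (orderOf g) := hodd.of_dvd_nat (orderOf_dvd_natCard g)
  have hmem : g ∈ CT.inertia H θ := by
    have h3 : g = (g ^ 2) ^ (r + 1) := by
      rw [← pow_mul, show 2 * (r + 1) = orderOf g + 1 by omega, pow_succ, pow_orderOf_eq_one, one_mul]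
    rw [h3]
    exact Subgroup.pow_mem _ hg2 _
  have hreal : ∀ h, ((θ : H → ℂ) h).im = 0 := fun h => by
    rw [← Complex.conj_eq_iff_im]
    have h1 := congrFun hg h
    have h2 := congrFun hmem h
    rw [h2] at h1
    exact h1.symm
  exact congrArg Subtype.val (CT.real_irr_eq_one_of_odd (χ := ⟨θ, hθ⟩)
    (hodd.of_dvd_nat H.card_subgroup_dvd_card) hreal)

end Cfsg.Agent.S0194
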