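import Cfsg.Statements.S0196
import Mathlib.GroupTheory.GroupAction.Quotient

set_option autoImplicit false
open Cfsg

namespace Cfsg.Agent.S0196

universe u

theorem index_dvd_aux {G : Type u} [Group G] [Finite G] (A : Subgroup G)
    (hA : ∀ x ∈ A, x ≠ 1 → Subgroup.centralizer ({x} : Set G) = A) :
    (A.subgroupOf (Subgroup.normalizer (A : Set G))).index ∣ Nat.card A - 1 := by
  classical
  set N := Subgroup.normalizer (A : Set G)
  haveI := Fintype.ofFinite A
  let X := {x : A // x ≠ 1}
  letI act : MulAction N X :=
    { smul := fun g x => ⟨⟨(g : G) * (x.1 : G) * (g : G)⁻¹,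
        (Subgroup.mem_normalizer_iff.mp g.2 _).mp x.1.2⟩, fun e => x.2 (Subtype.ext
          (conj_eq_one_iff.mp (congrArg Subtype.val e)))⟩
      one_smul := fun x => Subtype.ext (Subtype.ext (by
        show ((1 : N) : G) * (x.1 : G) * ((1 : N) : G)⁻¹ = (x.1 : G)
        simp))
      mul_smul := fun g h x => Subtype.ext (Subtype.ext (by
        show ((g * h : N) : G) * (x.1 : G) * ((g * h : N) : G)⁻¹ =
          (g : G) * ((h : G) * (x.1 : G) * (h : G)⁻¹) * (g : G)⁻¹
        simp [mul_assoc])) }
  have hst : ∀ x : X, MulAction.stabilizer N x = A.subgroupOf N := by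
    intro x
    have hC := hA x.1 x.1.2 (fun e => x.2 (Subtype.ext e))
    ext g
    rw [MulAction.mem_stabilizer_iff, Subgroup.mem_subgroupOf, ← hC,
      Subgroup.mem_centralizer_singleton_iff]
    constructor
    · intro e
      have h : (g : G) * (x.1 : G) * (g : G)⁻¹ = x.1 := congrArg (fun y : X => ((y.1 : A) : G)) e
      exact mul_inv_eq_iff_eq_mul.mp h
    · intro e
      refine Subtype.ext (Subtype.ext ?_)
      show (g : G) * (x.1 : G) * (g : G)⁻¹ = x.1
      rw [e, mul_inv_cancel_right]
  have horb : ∀ x : X, Nat.card (MulAction.orbit N x) = (A.subgroupOf N).index := fun x => by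
    rw [Nat.card_coe_set_eq, ← hst x, MulAction.index_stabilizer]
  have hcard : Nat.card X =
      Nat.card (MulAction.orbitRel.Quotient N X) * (A.subgroupOf N).index := by
    haveI := Fintype.ofFinite (MulAction.orbitRel.Quotient N X)
    rw [Nat.card_congr (MulAction.selfEquivSigmaOrbits N X), Nat.card_sigma,
      Finset.sum_congr rfl fun ω _ => horb _, Finset.sum_const, Finset.card_univ,
      Nat.card_eq_fintype_card (α := MulAction.orbitRel.Quotient N X), smul_eq_mul]
  refine ⟨Nat.card (MulAction.orbitRel.Quotient N X), ?_⟩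
  rw [mul_comm, ← hcard]
  show _ = Nat.card {x : A // x ≠ 1}
  rw [Nat.card_eq_fintype_card (α := {x : A // x ≠ 1}), Fintype.card_subtype_compl,
    Fintype.card_subtype_eq, Nat.card_eq_fintype_card]


/-- Let A be a subgroup of a finite group G that equals the centralizer of each of its non-identity elements, and let N be its normalizer. Then the index of A in N divides |A| − 1 (N/A permutes the non-identity elements of A in orbits of full length). -/
theorem result {G : Type*} [Group G] [Finite G] (A : Subgroup G) (hA : ∀ x ∈ A, x ≠ 1 → Subgroup.centralizer ({x} : Set G) = A) : (A.subgroupOf (Subgroup.normalizer (A : Set G))).index ∣ Nat.card A - 1 := by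
  exact index_dvd_aux A hA

end Cfsg.Agent.S0196
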