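import Cfsg.Statements.S0199
import Cfsg.Agent.Lib.Invol.BaerSuzuki
import Cfsg.Agent.Lib.Components.Fitting
-- import your own Cfsg.Agent.* helpers here

set_option autoImplicit false
open Cfsg

namespace Cfsg.Agent.S0199

/-- Baer–Suzuki Theorem: a p-subgroup X of a finite group such that X and any of its conjugates generate a p-group is contained in a normal p-subgroup. -/
theorem result {G : Type*} [Group G] [Finite G] {p : ℕ} [Fact p.Prime] (X : Subgroup G) (hX : IsPGroup p X) (h : ∀ g : G, IsPGroup p ↥(X ⊔ X.map (MulAut.conj g).toMonoidHom)) : ∃ N : Subgroup G, N.Normal ∧ IsPGroup p N ∧ X ≤ N := by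
  refine ⟨Cfsg.pCore p G, inferInstance, Components.sSup_isPGroup_of_normal, fun x hx => ?_⟩
  obtain ⟨N, hN, hNp, hxN⟩ := Invol.baerSuzuki_element (p := p) (x := x) fun g => (h g).to_le (by
    rw [Subgroup.closure_le, Set.pair_subset_iff]
    exact ⟨Subgroup.mem_sup_left hx, Subgroup.mem_sup_right ⟨x, hx, rfl⟩⟩)
  exact Components.le_pCore hN hNp hxN

end Cfsg.Agent.S0199
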