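import Cfsg.Statements.S0200
import Cfsg.Agent.Lib.Invol.BaerSuzuki
import Cfsg.Agent.Lib.Invol.Dihedral
-- import your own Cfsg.Agent.* helpers here

set_option autoImplicit false
open Cfsg

namespace Cfsg.Agent.S0200

/-- An involution lying in no normal 2-subgroup of a finite group inverts a nontrivial element of odd order (a consequence of the Baer–Suzuki Theorem). -/
theorem result {G : Type*} [Group G] [Finite G] (t : G) (ht : orderOf t = 2) (hO : ∀ N : Subgroup G, N.Normal → IsPGroup 2 N → t ∉ N) : ∃ h : G, h ≠ 1 ∧ Odd (orderOf h) ∧ t * h * t⁻¹ = h⁻¹ := by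
  haveI : Fact (Nat.Prime 2) := ⟨Nat.prime_two⟩
  by_contra hno
  push_neg at hno
  obtain ⟨N, hN, hN2, htN⟩ := Invol.baerSuzuki_element (p := 2) (x := t) fun g => by
    have hu : orderOf (g * t * g⁻¹) = 2 := by rw [Invol.orderOf_conj, ht]
    set u := g * t * g⁻¹
    have ht2 := Invol.mul_self_of_orderOf_two ht
    have hu2 := Invol.mul_self_of_orderOf_two hu
    obtain ⟨i, m, hm, hnm⟩ :=
      Nat.exists_eq_pow_mul_and_not_dvd (orderOf_pos (t * u)).ne' 2 (by norm_num)
    have hord : orderOf ((t * u) ^ 2 ^ i) = m := by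
      rw [orderOf_pow, hnm, Nat.gcd_eq_right (Dvd.intro m rfl),
        Nat.mul_div_cancel_left _ (by positivity)]
    have hm1 : m = 1 := by
      by_contra hne
      refine hno ((t * u) ^ 2 ^ i) ?_ ?_ ?_
      · intro h1; rw [h1, orderOf_one] at hord; exact hne hord.symm
      · rw [hord]; exact Nat.not_even_iff_odd.1 fun he => hm (even_iff_two_dvd.1 he)
      · exact Invol.inverts_of_mem_zpowers (Invol.conj_mul_eq_inv ht2 hu2)
          (Subgroup.pow_mem _ (Subgroup.mem_zpowers _) _)
    obtain ⟨e⟩ := Invol.nonempty_dihedralEquiv_pair ht hu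
    refine IsPGroup.of_card (n := i + 1) ?_
    rw [← Nat.card_congr e.toEquiv, DihedralGroup.nat_card, hnm, hm1, mul_one, pow_succ]; ring
  exact hO N hN hN2 htN

end Cfsg.Agent.S0200
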