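import Cfsg.Statements.S0210
import Cfsg.Agent.Lib.Invol.Basic
-- import your own Cfsg.Agent.* helpers here

set_option autoImplicit false
open Cfsg

namespace Cfsg.Agent.S0210

/-- If x, y are involutions whose product has even order, no element of the subgroup generated by x and y conjugates x to y. -/
theorem result {G : Type*} [Group G] [Finite G] (x y : G) (hx : orderOf x = 2) (hy : orderOf y = 2) (heven : Even (orderOf (x * y))) (d : G) (hd : d ∈ Subgroup.closure ({x, y} : Set G)) : d * x * d⁻¹ ≠ y := by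
  intro h
  have hx' := Invol.mul_self_of_orderOf_two hx
  have hy' := Invol.mul_self_of_orderOf_two hy
  obtain ⟨k, hk⟩ := (Invol.conj_mem_pair_iff hx' hy').1 ⟨d, hd, h⟩
  have h1 : x * y = (x * y) ^ (2 * k) := by
    conv_lhs => arg 2; rw [hk]
    rw [← mul_assoc, hx', one_mul]
  have hdvd : (orderOf (x * y) : ℤ) ∣ 2 * k - 1 := by
    rw [orderOf_dvd_sub_iff_zpow_eq_zpow, zpow_one]; exact h1.symm
  obtain ⟨m, hm⟩ := heven
  rw [hm, Nat.cast_add] at hdvd
  obtain ⟨c, hc⟩ := hdvd
  have : (2 : ℤ) ∣ 1 := ⟨k - m * c, by linarith⟩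
  omega

end Cfsg.Agent.S0210
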