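import Cfsg.Statements.S0212
import Cfsg.Agent.Lib.ClassSum.BoundedCentralizer
-- import your own Cfsg.Agent.* helpers here

set_option autoImplicit false
open Cfsg

namespace Cfsg.Agent.S0212

/-- The Brauer–Fowler bound: if G is a finite simple group and t an involution of G whose centralizer has order n, then |G| ≤ (2n^2)!. -/
theorem result {G : Type*} [Group G] [Finite G] [IsSimpleGroup G] (t : G) (ht : orderOf t = 2) : Nat.card G ≤ Nat.factorial (2 * (Nat.card (Subgroup.centralizer ({t} : Set G))) ^ 2) := by
  classical
  set n := Nat.card (Subgroup.centralizer ({t} : Set G))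
  have hn : 0 < n := Nat.card_pos
  have h2 : 2 * n ≤ Nat.factorial (2 * n ^ 2) :=
    le_trans (by nlinarith) (Nat.self_le_factorial _)
  rcases BoundedCent.exists_small_class (Invol.mul_self_of_orderOf_two ht) n le_rfl with h | ⟨x, hx, hk⟩
  · exact h.trans h2
  let act : G →* Equiv.Perm {g : G // IsConj x g} :=
    { toFun := fun g => (MulAut.conj g).toEquiv.subtypeEquiv fun y =>
        ⟨fun h => h.trans (isConj_iff.mpr ⟨g, rfl⟩), fun h => h.trans (isConj_iff.mpr ⟨g, rfl⟩).symm⟩
      map_one' := Equiv.ext fun y => Subtype.ext (by simp)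
      map_mul' := fun g g' => Equiv.ext fun y => Subtype.ext (by simp [mul_assoc]) }
  rcases Subgroup.Normal.eq_bot_or_eq_top (MonoidHom.normal_ker act) with hker | hker
  · refine le_trans (Nat.card_le_card_of_injective act ((MonoidHom.ker_eq_bot_iff act).mp hker)) ?_
    rw [Nat.card_perm]
    exact Nat.factorial_le hk
  · -- x is central, so G is commutative of prime order
    have hxc : x ∈ Subgroup.center G := Subgroup.mem_center_iff.mpr fun g => by
      have h := congrArg Subtype.val (Equiv.ext_iff.mp
        ((MonoidHom.mem_ker (f := act)).mp (hker ▸ Subgroup.mem_top g : g ∈ act.ker)) ⟨x, IsConj.refl x⟩)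
      simpa [act, mul_inv_eq_iff_eq_mul] using h
    rcases Subgroup.Normal.eq_bot_or_eq_top (inferInstance : (Subgroup.center G).Normal) with h | h
    · rw [h] at hxc
      exact absurd (Subgroup.mem_bot.mp hxc) hx
    · letI : CommGroup G := { ‹Group G› with
        mul_comm := fun a b => (Subgroup.mem_center_iff.mp (h ▸ Subgroup.mem_top a) b).symm }
      have hp : (Nat.card G).Prime := IsSimpleGroup.prime_card
      have := (Nat.prime_dvd_prime_iff_eq Nat.prime_two hp).mp (ht ▸ orderOf_dvd_natCard t)
      omega

end Cfsg.Agent.S0212
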