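import Cfsg.Statements.S0213
import Cfsg.Agent.Lib.Invol.Count
-- import your own Cfsg.Agent.* helpers here

set_option autoImplicit false
open Cfsg

namespace Cfsg.Agent.S0213

/-- Thompson Order Formula, two-class case: if every involution of the finite group G is conjugate to exactly one of the non-conjugate involutions x₁, x₂, and nᵢ is the number of pairs (u, v) with u conjugate to x₁, v conjugate to x₂ and xᵢ in the cyclic group generated by uv, then |G| = |C(x₂)| n₁ + |C(x₁)| n₂. -/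
theorem result {G : Type*} [Group G] [Finite G] (x₁ x₂ : G) (h₁ : orderOf x₁ = 2) (h₂ : orderOf x₂ = 2) (hnc : ¬ IsConj x₁ x₂) (hall : ∀ t : G, orderOf t = 2 → IsConj x₁ t ∨ IsConj x₂ t) : Nat.card G = Nat.card (Subgroup.centralizer ({x₂} : Set G)) * Nat.card {p : G × G // IsConj x₁ p.1 ∧ IsConj x₂ p.2 ∧ x₁ ∈ Subgroup.zpowers (p.1 * p.2)} + Nat.card (Subgroup.centralizer ({x₁} : Set G)) * Nat.card {p : G × G // IsConj x₁ p.1 ∧ IsConj x₂ p.2 ∧ x₂ ∈ Subgroup.zpowers (p.1 * p.2)} := by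
  classical
  haveI := Fintype.ofFinite G
  have hconj₁ := fun t (h : IsConj x₁ t) => Invol.orderOf_two_of_isConj h h₁
  have hconj₂ := fun t (h : IsConj x₂ t) => Invol.orderOf_two_of_isConj h h₂
  let P := {p : G × G // IsConj x₁ p.1 ∧ IsConj x₂ p.2}
  have heven : ∀ p : P, Even (orderOf (p.1.1 * p.1.2)) := fun p =>
    Invol.even_of_not_isConj (Invol.mul_self_of_orderOf_two (hconj₁ _ p.2.1))
      (Invol.mul_self_of_orderOf_two (hconj₂ _ p.2.2))
      (fun h => hnc (p.2.1.trans (h.trans p.2.2.symm)))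
  let w : P → G := fun p => (p.1.1 * p.1.2) ^ (orderOf (p.1.1 * p.1.2) / 2)
  have hw : ∀ p, orderOf (w p) = 2 := fun p =>
    Invol.orderOf_pow_half (heven p) (orderOf_pos _).ne'
  -- the involution of a cyclic group is unique
  have huniq : ∀ (p : P) (t : G), orderOf t = 2 →
      (t ∈ Subgroup.zpowers (p.1.1 * p.1.2) ↔ w p = t) := by
    intro p t ht
    refine ⟨fun hmem => ?_, fun h => h ▸ Subgroup.pow_mem _ (Subgroup.mem_zpowers _) _⟩
    obtain ⟨k, hk⟩ := Subgroup.mem_zpowers_iff.1 hmem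
    rw [← hk]
    symm
    rw [Invol.zpow_eq_half_iff (heven p)]
    have h2 : (orderOf (p.1.1 * p.1.2) : ℤ) ∣ k + k := by
      rw [orderOf_dvd_iff_zpow_eq_one, zpow_add, hk, Invol.mul_self_of_orderOf_two ht]
    have h1 : ¬ (orderOf (p.1.1 * p.1.2) : ℤ) ∣ k := by
      rw [orderOf_dvd_iff_zpow_eq_one, hk]
      exact Invol.ne_one_of_orderOf_two ht
    obtain ⟨m, hm⟩ := heven p
    rw [hm] at h1 h2 ⊢
    rw [show (m + m) / 2 = m by omega]
    obtain ⟨c, hc⟩ := h2
    push_cast at hc h1 ⊢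
    rcases Int.even_or_odd c with ⟨e, rfl⟩ | ⟨e, rfl⟩
    · exact absurd ⟨e, by linarith⟩ h1
    · exact ⟨e, by linarith⟩
  have hfib : ∀ (x : G), orderOf x = 2 → ∀ y, IsConj x y →
      Fintype.card {p : P // w p = y} = Nat.card {p : G × G //
        IsConj x₁ p.1 ∧ IsConj x₂ p.2 ∧ x ∈ Subgroup.zpowers (p.1 * p.2)} := by
    intro x hx y hy
    rw [← Nat.card_eq_fintype_card]
    obtain ⟨c, rfl⟩ := isConj_iff.1 hy
    have hmem : ∀ (u v : G), c * x * c⁻¹ ∈ Subgroup.zpowers (u * v) ↔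
        x ∈ Subgroup.zpowers ((c⁻¹ * u * c) * (c⁻¹ * v * c)) := by
      intro u v
      have e : (c⁻¹ * u * c) * (c⁻¹ * v * c) = (MulAut.conj c⁻¹) (u * v) := by simp [mul_assoc]
      rw [e]
      simp only [Subgroup.mem_zpowers_iff]
      constructor
      · rintro ⟨k, hk⟩
        exact ⟨k, by rw [← map_zpow, hk]; simp [mul_assoc]⟩
      · rintro ⟨k, hk⟩
        refine ⟨k, ?_⟩
        rw [← map_zpow] at hk
        rw [← hk]; simp [mul_assoc]
    have hcl : ∀ z u : G, IsConj z (c⁻¹ * u * c) ↔ IsConj z u := fun z u =>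
      ⟨fun h => h.trans (isConj_iff.2 ⟨c, by group⟩),
        fun h => h.trans (isConj_iff.2 ⟨c⁻¹, by group⟩)⟩
    have ho : orderOf (c * x * c⁻¹) = 2 := by rw [Invol.orderOf_conj, hx]
    refine Nat.card_congr
      { toFun := fun p => ⟨(c⁻¹ * p.1.1.1 * c, c⁻¹ * p.1.1.2 * c), (hcl _ _).2 p.1.2.1,
          (hcl _ _).2 p.1.2.2, (hmem _ _).1 ((huniq _ _ ho).2 p.2)⟩
        invFun := fun p => ⟨⟨(c * p.1.1 * c⁻¹, c * p.1.2 * c⁻¹),
          p.2.1.trans (isConj_iff.2 ⟨c, rfl⟩), p.2.2.1.trans (isConj_iff.2 ⟨c, rfl⟩)⟩,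
          (huniq _ _ ho).1 ((hmem _ _).2 (by simpa [mul_assoc] using p.2.2.2))⟩
        left_inv := fun p => by ext <;> simp [mul_assoc]
        right_inv := fun p => by ext <;> simp [mul_assoc] }
  let X₁ := Finset.univ.filter fun t : G => IsConj x₁ t
  let X₂ := Finset.univ.filter fun t : G => IsConj x₂ t
  have hd : Disjoint X₁ X₂ := Finset.disjoint_filter.2 fun t _ a b => hnc (a.trans b.symm)
  have hmap : ∀ p ∈ (Finset.univ : Finset P), w p ∈ X₁ ∪ X₂ := by
    intro p _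
    simp only [X₁, X₂, Finset.mem_union, Finset.mem_filter, Finset.mem_univ, true_and]
    exact hall _ (hw p)
  have hsum := Finset.card_eq_sum_card_fiberwise hmap
  set n₁ := Nat.card {p : G × G //
    IsConj x₁ p.1 ∧ IsConj x₂ p.2 ∧ x₁ ∈ Subgroup.zpowers (p.1 * p.2)} with hn₁
  set n₂ := Nat.card {p : G × G //
    IsConj x₁ p.1 ∧ IsConj x₂ p.2 ∧ x₂ ∈ Subgroup.zpowers (p.1 * p.2)} with hn₂
  have s₁ : ∀ y ∈ X₁, (Finset.univ.filter fun p : P => w p = y).card = n₁ := fun y hy => by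
    rw [← Fintype.card_subtype]; exact hfib x₁ h₁ y (Finset.mem_filter.1 hy).2
  have s₂ : ∀ y ∈ X₂, (Finset.univ.filter fun p : P => w p = y).card = n₂ := fun y hy => by
    rw [← Fintype.card_subtype]; exact hfib x₂ h₂ y (Finset.mem_filter.1 hy).2
  rw [Finset.sum_union hd, Finset.sum_const_nat s₁, Finset.sum_const_nat s₂] at hsum
  have hP : (Finset.univ : Finset P).card = X₁.card * X₂.card := by
    rw [← Finset.card_product, Finset.card_univ]
    exact Fintype.card_of_subtype (X₁ ×ˢ X₂) (fun p => by simp [X₁, X₂])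
  rw [hP] at hsum
  have e₁ := Invol.card_class_mul_card_centralizer x₁
  have e₂ := Invol.card_class_mul_card_centralizer x₂
  rw [show Nat.card {y : G // IsConj x₁ y} = X₁.card by
    rw [Nat.card_eq_fintype_card, Fintype.card_subtype]] at e₁
  rw [show Nat.card {y : G // IsConj x₂ y} = X₂.card by
    rw [Nat.card_eq_fintype_card, Fintype.card_subtype]] at e₂
  refine Nat.eq_of_mul_eq_mul_left (Nat.card_pos (α := G)) ?_
  rw [show Nat.card G * Nat.card G = (X₁.card * Nat.card (Subgroup.centralizer ({x₁} : Set G))) *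
    (X₂.card * Nat.card (Subgroup.centralizer ({x₂} : Set G))) by rw [e₁, e₂]]
  rw [show ∀ a b c d : ℕ, a * b * (c * d) = (a * c) * (b * d) from fun a b c d => by ring, hsum,
    add_mul, mul_add]
  congr 1
  · rw [← e₁]; ring
  · rw [← e₂]; ring

end Cfsg.Agent.S0213
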