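import Cfsg.Statements.S0214
import Cfsg.Agent.Lib.Invol.StronglyEmbedded
-- import your own Cfsg.Agent.* helpers here

set_option autoImplicit false
open Cfsg

namespace Cfsg.Agent.S0214

/-- Let H be a proper subgroup of the finite group G and P a nontrivial Sylow 2-subgroup of H. Then H is strongly embedded in G if and only if N_G(X) ≤ H for every nontrivial subgroup X of P. -/
theorem result {G : Type*} [Group G] [Finite G] (H : Subgroup G) (hH : H ≠ ⊤) (P : Sylow 2 ↥H) (hP : (P : Subgroup ↥H) ≠ ⊥) : Cfsg.IsStronglyEmbedded H ↔ (∀ X : Subgroup ↥H, X ≤ (P : Subgroup ↥H) → X ≠ ⊥ → Subgroup.normalizer ((X.map H.subtype : Subgroup G) : Set G) ≤ H) := by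
  haveI : Fact (Nat.Prime 2) := ⟨Nat.prime_two⟩
  have heven : Even (Nat.card H) := by
    rw [even_iff_two_dvd]
    obtain ⟨n, hn⟩ := IsPGroup.iff_card.1 P.2
    rcases n with _ | n
    · rw [pow_zero] at hn
      exact absurd (Subgroup.card_eq_one.1 hn) hP
    · exact Dvd.dvd.trans ⟨2 ^ n, by rw [hn, pow_succ']⟩ (Subgroup.card_subgroup_dvd_card _)
  constructor
  · intro hSE X hXP hX g hg
    obtain ⟨k, hk⟩ := IsPGroup.iff_card.1 (P.2.to_le hXP)
    rcases k with _ | k
    · rw [pow_zero] at hk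
      exact absurd (Subgroup.card_eq_one.1 hk) hX
    obtain ⟨t, ht⟩ := exists_prime_orderOf_dvd_card' (G := X) 2 ⟨2 ^ k, by rw [hk, pow_succ']⟩
    rw [← Subgroup.orderOf_coe, ← Subgroup.orderOf_coe] at ht
    have hmem : g * ((t : H) : G) * g⁻¹ ∈ X.map H.subtype :=
      (Subgroup.mem_normalizer_iff.1 hg _).1 ⟨t, t.2, rfl⟩
    have hH' : g * ((t : H) : G) * g⁻¹ ∈ H := Subgroup.map_subtype_le X hmem
    have := Invol.SE_mem_of_conj hSE (g := g⁻¹) ht (t : H).2 (by rwa [inv_inv])
    exact inv_inv g ▸ inv_mem this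
  · intro hN
    -- normalisers of nontrivial 2-subgroups of `H` lie in `H`
    have hN' : ∀ X : Subgroup G, X ≤ H → IsPGroup 2 X → X ≠ ⊥ →
        Subgroup.normalizer (X : Set G) ≤ H := by
      intro X hXH hX2 hX
      obtain ⟨Q, hQ⟩ := (hX2.comap_subtype (K := H)).exists_le_sylow
      obtain ⟨c, hc⟩ := MulAction.exists_smul_eq H Q P
      have h1 : (X.map (MulAut.conj (c : G)).toMonoidHom).subgroupOf H ≤ (P : Subgroup H) := by
        rintro y ⟨x, hx, hxy⟩
        rw [← hc]
        exact ⟨⟨x, hXH hx⟩, hQ (show (⟨x, hXH hx⟩ : H) ∈ X.subgroupOf H from hx),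
          Subtype.ext hxy⟩
      have hXcH : X.map (MulAut.conj (c : G)).toMonoidHom ≤ H := by
        rintro _ ⟨x, hx, rfl⟩
        exact mul_mem (mul_mem c.2 (hXH hx)) (inv_mem c.2)
      have h2 := hN _ h1 (fun hb => hX (by
        rw [Subgroup.subgroupOf_eq_bot, disjoint_iff, inf_eq_left.2 hXcH,
          Subgroup.map_eq_bot_iff_of_injective _ (MulAut.conj (c : G)).injective] at hb
        exact hb))
      rw [Subgroup.map_subgroupOf_eq_of_le hXcH] at h2
      intro g hg
      have : (c : G) * g * (c : G)⁻¹ ∈ H := h2 (by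
        rw [Subgroup.mem_normalizer_iff_map_conj_eq] at hg ⊢
        conv_rhs => rw [← hg]
        rw [Subgroup.map_map, Subgroup.map_map]
        congr 1; ext; simp [mul_assoc])
      simpa [mul_assoc] using mul_mem (mul_mem (inv_mem c.2) this) c.2
    refine Invol.SE_of_mem_of_conj hH heven fun t ht ht2 g hg => ?_
    let K := H ⊓ H.map (MulAut.conj g).toMonoidHom
    have htK : t ∈ K := ⟨ht, (Invol.mem_conj_iff g t H).2 hg⟩
    obtain ⟨D, hD⟩ := ((IsPGroup.of_card (p := 2) (n := 1)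
      (show Nat.card (Subgroup.zpowers t) = 2 ^ 1 by
        rw [Nat.card_zpowers, ht2, pow_one])).comap_subtype (K := K)).exists_le_sylow
    set D' := (D : Subgroup K).map K.subtype with hD'
    have hD'K : D' ≤ K := Subgroup.map_subtype_le _
    have hD2 : IsPGroup 2 D' := D.2.map _
    have hD1 : D' ≠ ⊥ := fun hb => Invol.ne_one_of_orderOf_two ht2 ((Subgroup.mem_bot).1
      (hb ▸ ⟨⟨t, htK⟩, hD (Subgroup.mem_zpowers t), rfl⟩))
    have hND : Subgroup.normalizer (D' : Set G) ≤ K := by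
      refine le_inf (hN' D' (hD'K.trans inf_le_left) hD2 hD1) ?_
      intro n hn
      rw [Invol.mem_conj_iff]
      have hle : D'.map (MulAut.conj g⁻¹).toMonoidHom ≤ H := by
        rintro _ ⟨d, hd, rfl⟩
        simpa using (Invol.mem_conj_iff g d H).1 (hD'K hd).2
      refine hN' _ hle (hD2.map _) (fun hb => hD1 ?_) ?_
      · rwa [Subgroup.map_eq_bot_iff_of_injective _ (MulAut.conj g⁻¹).injective] at hb
      · clear_value D'
        rw [Subgroup.mem_normalizer_iff_map_conj_eq] at hn ⊢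
        conv_rhs => rw [← hn]
        rw [Subgroup.map_map, Subgroup.map_map]
        congr 1; ext; simp [mul_assoc]
    -- hence `D'` is a Sylow 2-subgroup of `G`
    obtain ⟨R, hR⟩ := hD2.exists_le_sylow
    have hDR : D' = (R : Subgroup G) := by
      by_contra hne
      have hlt : D'.subgroupOf (R : Subgroup G) < ⊤ := by
        rw [lt_top_iff_ne_top, Ne, Subgroup.subgroupOf_eq_top]
        exact fun h => hne (le_antisymm hR h)
      have hnil : Group.IsNilpotent (R : Subgroup G) := IsPGroup.isNilpotent R.2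
      obtain ⟨n, hnN, hnS⟩ :=
        SetLike.exists_of_lt (Group.normalizerCondition_of_isNilpotent _ hlt)
      rw [Subgroup.mem_normalizer_iff] at hnN
      have hnD : (n : G) ∈ Subgroup.normalizer (D' : Set G) := by
        rw [Subgroup.mem_normalizer_iff]
        intro x
        constructor
        · intro hx
          exact (hnN ⟨x, hR hx⟩).1 hx
        · intro hx
          have hxR : x ∈ (R : Subgroup G) := by
            simpa [mul_assoc] using mul_mem (mul_mem (inv_mem n.2) (hR hx)) n.2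
          exact (hnN ⟨x, hxR⟩).2 hx
      have hDle : (D : Subgroup K) ≤ (R : Subgroup G).subgroupOf K := fun d hd => hR ⟨d, hd, rfl⟩
      have heq := D.3 (R.2.comap_subtype (K := K)) hDle
      exact hnS ⟨⟨(n : G), hND hnD⟩,
        heq ▸ (show (⟨(n : G), hND hnD⟩ : K) ∈ (R : Subgroup G).subgroupOf K from n.2), rfl⟩
    have hRH : (R : Subgroup G) ≤ H := hDR ▸ hD'K.trans inf_le_left
    have hR'H : ((g⁻¹ • R : Sylow 2 G) : Subgroup G) ≤ H := by
      rintro _ ⟨r, hr, rfl⟩
      have hrK : r ∈ K := hD'K (hDR ▸ hr)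
      simpa using (Invol.mem_conj_iff g r H).1 hrK.2
    obtain ⟨c, hc⟩ := MulAction.exists_smul_eq H ((g⁻¹ • R).subtype hR'H) (R.subtype hRH)
    have hconj : ∀ r ∈ (R : Subgroup G),
        (c : G) * g⁻¹ * r * ((c : G) * g⁻¹)⁻¹ ∈ (R : Subgroup G) := by
      intro r hr
      have hm : g⁻¹ * r * g⁻¹⁻¹ ∈ ((g⁻¹ • R : Sylow 2 G) : Subgroup G) := ⟨r, hr, rfl⟩
      have h' : c * ⟨_, hR'H hm⟩ * c⁻¹ ∈ ((R.subtype hRH : Sylow 2 H) : Subgroup H) := by
        rw [← hc]; exact ⟨⟨_, hR'H hm⟩, hm, rfl⟩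
      have e : (c : G) * g⁻¹ * r * ((c : G) * g⁻¹)⁻¹ = (c : G) * (g⁻¹ * r * g⁻¹⁻¹) * (c : G)⁻¹ := by
        group
      rw [e]
      exact h'
    have hmemN : (c : G) * g⁻¹ ∈ Subgroup.normalizer ((R : Subgroup G) : Set G) := by
      rw [Subgroup.mem_normalizer_iff_map_conj_eq]
      refine Subgroup.eq_of_le_of_card_ge (by rintro _ ⟨r, hr, rfl⟩; exact hconj r hr) ?_
      exact (Nat.card_congr ((R : Subgroup G).equivMapOfInjective _
        (MulAut.conj ((c : G) * g⁻¹)).injective).toEquiv).le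
    have hR1 : (R : Subgroup G) ≠ ⊥ := hDR ▸ hD1
    have hcg := hN' R hRH R.2 hR1 hmemN
    have := inv_mem (mul_mem (inv_mem c.2) hcg)
    rwa [inv_mul_cancel_left, inv_inv] at this

end Cfsg.Agent.S0214
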