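import Cfsg.Statements.S0216
import Cfsg.Agent.Lib.Invol.Isolated
-- import your own Cfsg.Agent.* helpers here

set_option autoImplicit false
open Cfsg

namespace Cfsg.Agent.S0216

/-- For an involution u in a Sylow 2-subgroup P of a finite group G, the following are equivalent: no G-conjugate of u other than u lies in P; every commutator of u with an element of G has odd order. -/
theorem result {G : Type*} [Group G] [Finite G] (P : Sylow 2 G) (u : G) (hu : orderOf u = 2) (huP : u ∈ P) : (∀ g : G, g * u * g⁻¹ ∈ P → g * u * g⁻¹ = u) ↔ (∀ g : G, Odd (orderOf (u * g * u⁻¹ * g⁻¹))) := by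
  have e : ∀ g : G, u * g * u⁻¹ * g⁻¹ = u * (g * u * g⁻¹) := by
    intro g; rw [Invol.inv_of_orderOf_two hu]; group
  simp only [e]
  rw [← Invol.isolated_iff_sylow P hu huP]
  constructor
  · exact fun h g => Invol.isolated_odd_mul h (isConj_iff.2 ⟨g, rfl⟩)
  · intro h
    refine ⟨hu, fun g hc => ?_⟩
    have hv : orderOf (g * u * g⁻¹) = 2 := by rw [Invol.orderOf_conj, hu]
    have h2 : (u * (g * u * g⁻¹)) * (u * (g * u * g⁻¹)) = 1 := by
      rw [mul_assoc, ← mul_assoc (g * u * g⁻¹), ← hc.eq, mul_assoc u (g * u * g⁻¹),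
        Invol.mul_self_of_orderOf_two hv, mul_one, Invol.mul_self_of_orderOf_two hu]
    have h1 := Invol.eq_of_mul_self_eq (h g) (f := (1 : G)) (by simp) (by rw [h2, one_mul])
    rw [← inv_eq_of_mul_eq_one_right h1, Invol.inv_of_orderOf_two hu]

end Cfsg.Agent.S0216
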