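import Cfsg.Statements.S0218
import Cfsg.Agent.Lib.Invol.Basic
-- import your own Cfsg.Agent.* helpers here

set_option autoImplicit false
open Cfsg

namespace Cfsg.Agent.S0218

/-- The generalized quaternion group of order 2^(n+3) contains exactly one element of order 2. -/
theorem result (n : ℕ) : Nat.card {x : QuaternionGroup (2 ^ (n + 1)) // orderOf x = 2} = 1 := by
  rw [Nat.card_eq_one_iff_unique]
  have hN : NeZero (2 ^ (n + 1)) := ⟨by positivity⟩
  have key : ∀ x : QuaternionGroup (2 ^ (n + 1)), orderOf x = 2 →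
      x = QuaternionGroup.a ((2 ^ (n + 1) : ℕ) : ZMod (2 * 2 ^ (n + 1))) := by
    rintro (i | i) hi
    · have h0 : QuaternionGroup.a i * QuaternionGroup.a i = 1 := Invol.mul_self_of_orderOf_two hi
      rw [QuaternionGroup.a_mul_a, QuaternionGroup.one_def, QuaternionGroup.a.injEq] at h0
      have hne : i ≠ 0 := by rintro rfl; rw [← QuaternionGroup.one_def] at hi; simp at hi
      congr 1
      rw [← ZMod.natCast_zmod_val i] at h0 hne ⊢
      rw [← Nat.cast_add, ZMod.natCast_eq_zero_iff] at h0
      rw [Ne, ZMod.natCast_eq_zero_iff] at hne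
      have hlt := ZMod.val_lt i
      obtain ⟨c, hc⟩ := h0
      have hvpos : 0 < i.val := Nat.pos_of_ne_zero fun h => hne (h ▸ dvd_zero _)
      have hc1 : c = 1 := by
        have : 0 < c := by
          rcases Nat.eq_zero_or_pos c with rfl | h
          · omega
          · exact h
        nlinarith
      subst hc1
      congr 1
      omega
    · rw [QuaternionGroup.orderOf_xa] at hi; omega
  refine ⟨⟨fun a b => Subtype.ext ((key _ a.2).trans (key _ b.2).symm)⟩, ?_⟩
  refine ⟨⟨QuaternionGroup.a ((2 ^ (n + 1) : ℕ) : ZMod (2 * 2 ^ (n + 1))),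
    Invol.orderOf_two_of_mul_self ?_ ?_⟩⟩
  · rw [QuaternionGroup.a_mul_a, QuaternionGroup.one_def]
    congr 1
    rw [← Nat.cast_add, ← two_mul, ZMod.natCast_self]
  · rw [QuaternionGroup.one_def, Ne, QuaternionGroup.a.injEq, ZMod.natCast_eq_zero_iff]
    intro h
    have := Nat.le_of_dvd (by positivity) h
    have : 0 < 2 ^ (n + 1) := by positivity
    omega

end Cfsg.Agent.S0218
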