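import Cfsg.Statements.S0220
import Cfsg.Agent.Lib.Invol.IndexTwo
-- import your own Cfsg.Agent.* helpers here

set_option autoImplicit false
open Cfsg

namespace Cfsg.Agent.S0220

/-- If x is an involution of a finite group G and a Sylow 2-subgroup of the centralizer of x is cyclic, then G has a subgroup of index 2; in particular G is not simple unless it has order 2. -/
theorem result {G : Type*} [Group G] [Finite G] (x : G) (hx : orderOf x = 2) (S : Sylow 2 ↥(Subgroup.centralizer ({x} : Set G))) (hS : IsCyclic (S : Subgroup ↥(Subgroup.centralizer ({x} : Set G)))) : ∃ H : Subgroup G, H.index = 2 := by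
  haveI : Fact (Nat.Prime 2) := ⟨Nat.prime_two⟩
  have heven : Even (Nat.card G) := by
    rw [even_iff_two_dvd, ← hx]; exact orderOf_dvd_natCard x
  let SG : Subgroup G := (S : Subgroup (Subgroup.centralizer ({x} : Set G))).map (Subgroup.centralizer ({x} : Set G)).subtype
  have hSG : IsPGroup 2 SG := S.2.map _
  obtain ⟨P, hP⟩ := hSG.exists_le_sylow
  -- the cyclic group `SG` contains `x` as its only involution
  have hxC : x ∈ (Subgroup.centralizer ({x} : Set G)) := Subgroup.mem_centralizer_singleton_iff.2 rfl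
  have hzp : IsPGroup 2 ↥(Subgroup.zpowers (⟨x, hxC⟩ : (Subgroup.centralizer ({x} : Set G)))) := by
    refine IsPGroup.of_card (n := 1) ?_
    rw [Nat.card_zpowers, ← Subgroup.orderOf_coe, pow_one]; exact hx
  have hxS : (⟨x, hxC⟩ : (Subgroup.centralizer ({x} : Set G))) ∈ (S : Subgroup (Subgroup.centralizer ({x} : Set G))) := by
    have hn : (S : Subgroup (Subgroup.centralizer ({x} : Set G))) ≤
        Subgroup.normalizer ((Subgroup.zpowers (⟨x, hxC⟩ : (Subgroup.centralizer ({x} : Set G))) : Subgroup (Subgroup.centralizer ({x} : Set G))) : Set (Subgroup.centralizer ({x} : Set G))) := by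
      intro s _
      rw [Subgroup.mem_normalizer_iff]
      intro y
      have hcen : ∀ y ∈ Subgroup.zpowers (⟨x, hxC⟩ : (Subgroup.centralizer ({x} : Set G))), s * y * s⁻¹ = y := by
        intro y hy
        have hc : Commute s (⟨x, hxC⟩ : (Subgroup.centralizer ({x} : Set G))) :=
          Subtype.ext (Subgroup.mem_centralizer_singleton_iff.1 s.2)
        obtain ⟨k, rfl⟩ := Subgroup.mem_zpowers_iff.1 hy
        rw [(hc.zpow_right k).eq, mul_inv_cancel_right]
      constructor
      · intro hy; rwa [hcen y hy]
      · intro hy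
        have := hcen _ hy
        rwa [mul_left_cancel (mul_right_cancel this)] at hy
    have := S.3 (S.2.to_sup_of_normal_right' hzp hn) le_sup_left
    exact this ▸ le_sup_right (a := (S : Subgroup (Subgroup.centralizer ({x} : Set G)))) (Subgroup.mem_zpowers _)
  have hxSG : x ∈ SG := ⟨_, hxS, rfl⟩
  haveI hcyc : IsCyclic SG := isCyclic_of_surjective
    ((S : Subgroup (Subgroup.centralizer ({x} : Set G))).equivMapOfInjective (Subgroup.centralizer ({x} : Set G)).subtype (Subgroup.centralizer ({x} : Set G)).subtype_injective).toMonoidHom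
    (MulEquiv.surjective _)
  have huniq : ∀ y ∈ SG, orderOf y = 2 → y = x := by
    intro y hy hy2
    classical
    haveI := Fintype.ofFinite SG
    have h2 := IsCyclic.card_orderOf_eq_totient (α := SG) (d := 2) (by
      rw [← Nat.card_eq_fintype_card, ← hx]; exact Subgroup.orderOf_dvd_natCard _ hxSG)
    rw [Nat.totient_two, Finset.card_eq_one] at h2
    obtain ⟨w, hw⟩ := h2
    have e1 : (⟨y, hy⟩ : SG) ∈ ({w} : Finset SG) := by
      rw [← hw]; exact Finset.mem_filter.2 ⟨Finset.mem_univ _, by rw [← Subgroup.orderOf_coe]; exact hy2⟩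
    have e2 : (⟨x, hxSG⟩ : SG) ∈ ({w} : Finset SG) := by
      rw [← hw]; exact Finset.mem_filter.2 ⟨Finset.mem_univ _, by rw [← Subgroup.orderOf_coe]; exact hx⟩
    rw [Finset.mem_singleton] at e1 e2
    exact congrArg Subtype.val (e1.trans e2.symm)
  -- hence its normalizer in `P` lies in `(Subgroup.centralizer ({x} : Set G))`
  have hSGP : SG = (P : Subgroup G) := by
    by_contra hne
    have hlt : SG.subgroupOf (P : Subgroup G) < ⊤ := by
      rw [lt_top_iff_ne_top, Ne, Subgroup.subgroupOf_eq_top]
      exact fun h => hne (le_antisymm hP h)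
    have hnil : Group.IsNilpotent (P : Subgroup G) := IsPGroup.isNilpotent P.2
    obtain ⟨n, hnN, hnS⟩ := SetLike.exists_of_lt (Group.normalizerCondition_of_isNilpotent _ hlt)
    rw [Subgroup.mem_normalizer_iff] at hnN
    have hnx : (n : G) * x * (n : G)⁻¹ = x := by
      refine huniq _ ((hnN ⟨x, hP hxSG⟩).1 hxSG) ?_
      rw [Invol.orderOf_conj, hx]
    have hnC : (n : G) ∈ (Subgroup.centralizer ({x} : Set G)) := Subgroup.mem_centralizer_singleton_iff.2 (mul_inv_eq_iff_eq_mul.1 hnx)
    have hle : (S : Subgroup (Subgroup.centralizer ({x} : Set G))) ≤ (P : Subgroup G).subgroupOf (Subgroup.centralizer ({x} : Set G)) := fun s hs => hP ⟨s, hs, rfl⟩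
    have heq := S.3 (P.2.comap_of_injective (Subgroup.centralizer ({x} : Set G)).subtype (Subgroup.centralizer ({x} : Set G)).subtype_injective) hle
    exact hnS ⟨⟨(n : G), hnC⟩, heq ▸ (show (⟨(n : G), hnC⟩ : (Subgroup.centralizer ({x} : Set G))) ∈ (P : Subgroup G).subgroupOf (Subgroup.centralizer ({x} : Set G))
      from n.2), rfl⟩
  haveI : IsCyclic (P : Subgroup G) := hSGP ▸ hcyc
  exact Invol.exists_index_two_of_cyclic_sylow heven P this

end Cfsg.Agent.S0220
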