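import Cfsg.Statements.S0221
import Cfsg.Agent.Lib.Invol.NormalFour
import Cfsg.Agent.Lib.Invol.ThompsonX
-- import your own Cfsg.Agent.* helpers here

set_option autoImplicit false
open Cfsg

namespace Cfsg.Agent.S0221

open Invol in
theorem extend_four {G : Type*} [Group G] [Finite G] {U : Subgroup G} (hU4 : Nat.card U = 4)
    (hU2 : ∀ x ∈ U, x * x = 1) {c : G} (hc : c * c = 1) (hcU : c ∉ U)
    (hcc : ∀ x ∈ U, x * c = c * x) :
    ∃ E : Subgroup G, Nat.card E = 8 ∧ (∀ e ∈ E, e * e = 1) ∧ c ∈ E ∧ U ≤ E := by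
  have hinv : ∀ x ∈ U, x⁻¹ = x := fun x hx => inv_eq_self_of_mul_self (hU2 x hx)
  have hUc : ∀ a ∈ U, ∀ b ∈ U, a * b = b * a := fun a ha b hb => by
    calc a * b = (a * b)⁻¹ := (hinv _ (mul_mem ha hb)).symm
      _ = b * a := by rw [mul_inv_rev, hinv a ha, hinv b hb]
  have hcomm : ∀ (x : U) (y : Subgroup.zpowers c), Commute (U.subtype x)
      ((Subgroup.zpowers c).subtype y) := fun x y => by
    obtain ⟨k, hk⟩ := Subgroup.mem_zpowers_iff.1 y.2
    show Commute (x : G) (y : G)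
    rw [← hk]
    exact (show Commute (x : G) c from hcc x x.2).zpow_right k
  set φ := MonoidHom.noncommCoprod U.subtype (Subgroup.zpowers c).subtype hcomm
  have hc1 : c ≠ 1 := fun e => hcU (e ▸ U.one_mem)
  have hz : ∀ y ∈ Subgroup.zpowers c, y = 1 ∨ y = c := fun y hy => by
    obtain ⟨k, rfl⟩ := Subgroup.mem_zpowers_iff.1 hy
    rcases Int.even_or_odd k with ⟨j, rfl⟩ | ⟨j, rfl⟩
    · left; rw [← two_mul, zpow_mul, zpow_two, hc, one_zpow]
    · right; rw [zpow_add, zpow_mul, zpow_two, hc, one_zpow, one_mul, zpow_one]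
  have hφ : Function.Injective φ := by
    rw [injective_iff_map_eq_one]
    rintro ⟨x, y⟩ h
    have h' : (x : G) * (y : G) = 1 := h
    rcases hz _ y.2 with e | e
    · rw [e, mul_one] at h'
      exact Prod.ext (Subtype.ext h') (Subtype.ext e)
    · rw [e] at h'
      exact absurd (inv_eq_of_mul_eq_one_right h' ▸ inv_mem x.2) hcU
  refine ⟨φ.range, ?_, ?_, ⟨(1, ⟨c, Subgroup.mem_zpowers c⟩), one_mul c⟩,
    fun x hx => ⟨(⟨x, hx⟩, 1), mul_one x⟩⟩
  · rw [← Nat.card_congr (MonoidHom.ofInjective hφ).toEquiv, Nat.card_prod, hU4, Nat.card_zpowers,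
      orderOf_two_of_mul_self hc hc1]
  · rintro _ ⟨⟨x, y⟩, rfl⟩
    show ((x : G) * (y : G)) * ((x : G) * (y : G)) = 1
    rw [(show Commute (x : G) (y : G) from hcomm x y).symm.mul_mul_mul_comm, hU2 x x.2]
    rcases hz _ y.2 with e | e <;> rw [e]
    · simp
    · rw [hc, one_mul]

/-- Let G be a finite group with no subgroup of index 2 whose 2-rank is at least 3 (it contains an elementary abelian subgroup of order 8). Then the centralizer of every involution of G also contains an elementary abelian subgroup of order 8. -/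
theorem result {G : Type*} [Group G] [Finite G] (hno : ∀ H : Subgroup G, H.index ≠ 2) (hrank : ∃ E : Subgroup G, Nat.card E = 8 ∧ ∀ e ∈ E, e ^ 2 = 1) (x : G) (hx : orderOf x = 2) : ∃ E : Subgroup G, E ≤ Subgroup.centralizer ({x} : Set G) ∧ Nat.card E = 8 ∧ ∀ e ∈ E, e ^ 2 = 1 := by
  classical
  haveI : Fact (Nat.Prime 2) := ⟨Nat.prime_two⟩
  obtain ⟨E₀, hE₀c, hE₀2⟩ := hrank
  have hE₀p : IsPGroup 2 E₀ := IsPGroup.of_card (n := 3) (by rw [hE₀c]; norm_num)
  obtain ⟨S, hES⟩ := hE₀p.exists_le_sylow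
  obtain ⟨U₀, hU₀n, hU₀c, hU₀2⟩ := Invol.NormalFour.exists_normal_four (Nat.card (S : Subgroup G))
    (S : Subgroup G) le_rfl S.2 (E₀.subgroupOf (S : Subgroup G))
    (by rw [Nat.card_congr (Subgroup.subgroupOfEquivOfLe hES).toEquiv, hE₀c])
    (fun e he => Subtype.ext (by
      show (e : G) * (e : G) = 1
      rw [← sq]
      exact hE₀2 _ (Subgroup.mem_subgroupOf.1 he)))
  set U := U₀.map (S : Subgroup G).subtype with hUdef
  have hUS : U ≤ (S : Subgroup G) := Subgroup.map_subtype_le _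
  have hU2 : ∀ y ∈ U, y * y = 1 := by
    rintro _ ⟨y, hy, rfl⟩
    exact congrArg Subtype.val (hU₀2 y hy)
  have hU4 : Nat.card U = 4 := by
    rw [hUdef, Subgroup.card_map_of_injective (Subgroup.subtype_injective _), hU₀c]
  have hUn : ∀ s ∈ (S : Subgroup G), ∀ y ∈ U, s * y * s⁻¹ ∈ U := by
    rintro s hs _ ⟨y, hy, rfl⟩
    exact ⟨⟨s, hs⟩ * y * ⟨s, hs⟩⁻¹, hU₀n.conj_mem y hy _, rfl⟩
  have hUc : ∀ a ∈ U, ∀ b ∈ U, a * b = b * a := fun a ha b hb => by
    have hi : ∀ y ∈ U, y⁻¹ = y := fun y hy => Invol.inv_eq_self_of_mul_self (hU2 y hy)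
    calc a * b = (a * b)⁻¹ := (hi _ (mul_mem ha hb)).symm
      _ = b * a := by rw [mul_inv_rev, hi a ha, hi b hb]
  set C := (S : Subgroup G) ⊓ Subgroup.centralizer (U : Set G) with hC
  have hUC : U ≤ C := le_inf hUS fun y hy => Subgroup.mem_centralizer_iff.2 fun w hw => hUc w hw y hy
  -- two elements outside `C` differ by an element of `C`
  have hpair : ∀ a ∈ (S : Subgroup G), a ∉ C → ∀ b ∈ (S : Subgroup G), b ∉ C → a⁻¹ * b ∈ C := by
    intro a ha haC b hb hbC
    refine ⟨(S : Subgroup G).mul_mem ((S : Subgroup G).inv_mem ha) hb, ?_⟩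
    obtain ⟨z, hzU, hz1, hzc⟩ : ∃ z ∈ U, z ≠ 1 ∧ ∀ s ∈ (S : Subgroup G), s * z * s⁻¹ = z := by
      letI act : MulAction (S : Subgroup G) U₀ :=
        MulAction.compHom U₀ (MulAut.conjNormal (H := U₀))
      obtain ⟨w, hw, hw1⟩ := (S.2).exists_fixed_point_of_prime_dvd_card_of_fixed_point (α := U₀)
        (by rw [hU₀c]; norm_num) (show (1 : U₀) ∈ MulAction.fixedPoints (S : Subgroup G) U₀ from
          fun g => map_one (MulAut.conjNormal g))
      refine ⟨((w : (S : Subgroup G)) : G), ⟨w, w.2, rfl⟩, fun e => hw1 (Subtype.ext (Subtype.ext e)).symm,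
        fun s hs => congrArg (fun q : U₀ => ((q : (S : Subgroup G)) : G)) (hw ⟨s, hs⟩)⟩
    haveI := Fintype.ofFinite U
    have hsplit : ∀ s ∈ (S : Subgroup G), s ∉ C → ∀ y ∈ U, y ≠ 1 → y ≠ z → s * y * s⁻¹ = z * y := by
      intro s hs hsC y hy hy1 hyz
      have hzy : z * y ∈ U := mul_mem hzU hy
      have hall : ∀ w ∈ U, w = 1 ∨ w = z ∨ w = y ∨ w = z * y := by
        have hcz : Commute z y := hUc z hzU y hy
        have hle : Invol.NormalFour.fourOf z y (hU2 z hzU) (hU2 y hy) hcz ≤ U := by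
          intro w hw
          rcases hw with rfl | rfl | rfl | rfl
          · exact U.one_mem
          · exact hzU
          · exact hy
          · exact hzy
        have h4 := Subgroup.eq_of_le_of_card_ge hle
          (by rw [Invol.NormalFour.fourOf_card hz1 hy1 hyz, hU4])
        intro w hw
        rw [← h4] at hw
        exact hw
      rcases hall _ (hUn s hs y hy) with h | h | h | h
      · exact absurd (conj_eq_one_iff.1 h) hy1
      · exact absurd (mul_left_cancel (mul_right_cancel (h.trans (hzc s hs).symm))) hyz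
      · refine absurd ⟨hs, Subgroup.mem_centralizer_iff.2 fun w hw => ?_⟩ hsC
        have hz' := mul_inv_eq_iff_eq_mul.1 (hzc s hs)
        have hy' := mul_inv_eq_iff_eq_mul.1 h
        rcases hall w hw with rfl | rfl | rfl | rfl
        · rw [one_mul, mul_one]
        · exact hz'.symm
        · exact hy'.symm
        · exact (Commute.mul_right (hz' : Commute s z) (hy' : Commute s y)).symm
      · exact h
    refine Subgroup.mem_centralizer_iff.2 fun w hw => ?_
    have key : a * w * a⁻¹ = b * w * b⁻¹ := by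
      by_cases h1 : w = 1
      · simp [h1]
      by_cases h2 : w = z
      · rw [h2, hzc a ha, hzc b hb]
      rw [hsplit a ha haC w hw h1 h2, hsplit b hb hbC w hw h1 h2]
    calc w * (a⁻¹ * b) = a⁻¹ * (a * w * a⁻¹) * b := by group
      _ = a⁻¹ * b * w := by rw [key]; group
  -- involutions of `C` outside `U`
  obtain ⟨c', hc'C, hc'2, hc'U⟩ : ∃ c' ∈ C, c' * c' = 1 ∧ c' ∉ U := by
    by_contra h
    push Not at h
    have hle : ∀ e ∈ E₀, e ∈ C → e ∈ U := fun e he hec => h e hec (by rw [← sq]; exact hE₀2 e he)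
    by_cases hall : ∀ e ∈ E₀, e ∈ C
    · have := Subgroup.card_le_of_le (K := U) (H := E₀) fun e he => hle e he (hall e he)
      omega
    push Not at hall
    obtain ⟨e₀, he₀, he₀C⟩ := hall
    -- the part inside `U` has order at least four, so it is `U`
    have hhalf : Nat.card E₀ ≤ 2 * Nat.card (E₀ ⊓ U : Subgroup G) := by
      let f : E₀ → Bool × (E₀ ⊓ U : Subgroup G) := fun e => if he : (e : G) ∈ C then
          (true, ⟨e, e.2, hle e e.2 he⟩) else
          (false, ⟨e₀⁻¹ * (e : G), E₀.mul_mem (E₀.inv_mem he₀) e.2, hle _ (mul_mem (inv_mem he₀) e.2)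
            (hpair e₀ (hES he₀) he₀C e (hES e.2) he)⟩)
      have hf : Function.Injective f := by
        intro a b hab
        by_cases ha : (a : G) ∈ C <;> by_cases hb : (b : G) ∈ C <;>
          simp only [f, dif_pos, dif_neg, ha, hb, not_false_eq_true, Prod.mk.injEq,
            Subtype.mk.injEq, Bool.true_eq_false, Bool.false_eq_true, false_and, true_and,
            mul_left_cancel_iff] at hab
        · exact Subtype.ext (congrArg Subtype.val hab :)
        · exact Subtype.ext (mul_left_cancel (congrArg Subtype.val hab :))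
      have := Nat.card_le_card_of_injective f hf
      rwa [Nat.card_prod, Nat.card_eq_fintype_card (α := Bool), Fintype.card_bool] at this
    have heq : E₀ ⊓ U = U := Subgroup.eq_of_le_of_card_ge inf_le_right (by omega)
    refine he₀C ⟨hES he₀, Subgroup.mem_centralizer_iff.2 fun w hw => ?_⟩
    have hw' : w ∈ E₀ := (heq.symm ▸ hw : w ∈ E₀ ⊓ U).1
    have hi : ∀ y ∈ E₀, y⁻¹ = y := fun y hy =>
      Invol.inv_eq_self_of_mul_self (by rw [← sq]; exact hE₀2 y hy)
    calc w * e₀ = (w * e₀)⁻¹ := (hi _ (mul_mem hw' he₀)).symm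
      _ = e₀ * w := by rw [mul_inv_rev, hi w hw', hi e₀ he₀]
  -- every involution is conjugate into `C`
  obtain ⟨g, hg⟩ : ∃ g : G, g⁻¹ * x * g ∈ C := by
    by_cases hCS : C = (S : Subgroup G)
    · have hp : IsPGroup 2 ↥(Subgroup.zpowers x) :=
        IsPGroup.of_card (n := 1) (by rw [Nat.card_zpowers, hx, pow_one])
      obtain ⟨T, hT⟩ := hp.exists_le_sylow
      obtain ⟨g, hg⟩ := MulAction.exists_smul_eq G S T
      refine ⟨g, hCS.symm ▸ ?_⟩
      have hxT : x ∈ (T : Subgroup G) := hT (Subgroup.mem_zpowers x)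
      rw [← hg] at hxT
      obtain ⟨y, hy, hyx⟩ := hxT
      rw [← hyx]
      have hy' : y ∈ (S : Subgroup G) := hy
      convert hy' using 1
      simp [mul_assoc]
    by_contra hno'
    push Not at hno'
    obtain ⟨a, ha, haC⟩ := SetLike.exists_of_lt (lt_of_le_of_ne (inf_le_left : C ≤ _) hCS)
    have hrel : C.relIndex (S : Subgroup G) = 2 := by
      refine Subgroup.index_eq_two_iff.2 ⟨⟨a, ha⟩⁻¹, fun b => ?_⟩
      simp only [Subgroup.mem_subgroupOf, Subgroup.coe_mul, InvMemClass.coe_inv]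
      by_cases hb : (b : G) ∈ C
      · refine Or.inr ⟨hb, fun h => haC ?_⟩
        have := (C.mul_mem_cancel_left hb).1 h
        exact inv_mem_iff.1 this
      · refine Or.inl ⟨?_, hb⟩
        have h1 := hpair (b : G)⁻¹ (inv_mem b.2) (fun h => hb (inv_mem_iff.1 h)) a⁻¹ (inv_mem ha)
          (fun h => haC (inv_mem_iff.1 h))
        simpa using h1
    obtain ⟨K, -, hK, -⟩ := Invol.exists_index_two_notMem S C inf_le_left hrel 1
      (fun y _ hyC => by
        have h1 : orderOf y ≠ 1 := fun h => hyC (orderOf_eq_one_iff.1 h ▸ C.one_mem)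
        have := orderOf_pos y
        omega) x (by rw [hx, pow_one]) hno'
    exact hno K hK
  set c := g⁻¹ * x * g with hcdef
  have hc2 : c * c = 1 := Invol.mul_self_of_orderOf_two (by
    rw [hcdef, show g⁻¹ * x * g = g⁻¹ * x * g⁻¹⁻¹ by group, Invol.orderOf_conj, hx])
  obtain ⟨E, hE8, hE2, hcE⟩ : ∃ E : Subgroup G, Nat.card E = 8 ∧ (∀ e ∈ E, e * e = 1) ∧ c ∈ E := by
    have hcom : ∀ w ∈ C, ∀ y ∈ U, y * w = w * y := fun w hw y hy =>
      Subgroup.mem_centralizer_iff.1 hw.2 y hy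
    by_cases hcU : c ∈ U
    · obtain ⟨E, h1, h2, -, h4⟩ := extend_four hU4 hU2 hc'2 hc'U (hcom c' hc'C)
      exact ⟨E, h1, h2, h4 hcU⟩
    · obtain ⟨E, h1, h2, h3, -⟩ := extend_four hU4 hU2 hc2 hcU (hcom c hg)
      exact ⟨E, h1, h2, h3⟩
  refine ⟨E.map (MulAut.conj g).toMonoidHom, ?_,
    by rw [Subgroup.card_map_of_injective (MulAut.conj g).injective, hE8], ?_⟩
  · rintro _ ⟨e, he, rfl⟩
    refine Subgroup.mem_centralizer_singleton_iff.2 ?_
    have hi : ∀ y ∈ E, y⁻¹ = y := fun y hy => Invol.inv_eq_self_of_mul_self (hE2 y hy)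
    have hec : e * c = c * e := by
      calc e * c = (e * c)⁻¹ := (hi _ (mul_mem he hcE)).symm
        _ = c * e := by rw [mul_inv_rev, hi e he, hi c hcE]
    show g * e * g⁻¹ * x = x * (g * e * g⁻¹)
    calc g * e * g⁻¹ * x = g * (e * c) * g⁻¹ := by rw [hcdef]; group
      _ = x * (g * e * g⁻¹) := by rw [hec, hcdef]; group
  · rintro _ ⟨e, he, rfl⟩
    rw [← map_pow, sq, hE2 e he, map_one]

end Cfsg.Agent.S0221
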