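import Cfsg.Statements.S0223
import Cfsg.Agent.Lib.Invol.StronglyEmbedded
-- import your own Cfsg.Agent.* helpers here

set_option autoImplicit false
open Cfsg

namespace Cfsg.Agent.S0223

/-- Let H be a proper subgroup of even order of the finite group G. Then H is strongly embedded if and only if (i) C_G(t) ≤ H for every involution t of H and (ii) H controls fusion of its involutions: involutions of H conjugate in G are conjugate in H. -/
theorem result {G : Type*} [Group G] [Finite G] (H : Subgroup G) (hH : H ≠ ⊤) (heven : Even (Nat.card H)) : Cfsg.IsStronglyEmbedded H ↔ ((∀ t ∈ H, orderOf t = 2 → Subgroup.centralizer ({t} : Set G) ≤ H) ∧ (∀ t ∈ H, ∀ s ∈ H, orderOf t = 2 → orderOf s = 2 → IsConj t s → ∃ h ∈ H, h * t * h⁻¹ = s)) := by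
  constructor
  · intro hSE
    refine ⟨fun t ht ht2 => Invol.SE_centralizer_le hSE ht2 ht, ?_⟩
    intro t ht s hs ht2 hs2 hc
    obtain ⟨g, rfl⟩ := isConj_iff.1 hc
    refine ⟨g, ?_, rfl⟩
    have := Invol.SE_mem_of_conj hSE (g := g⁻¹) ht2 ht (by simpa using hs)
    simpa using inv_mem this
  · rintro ⟨h1, h2⟩
    refine Invol.SE_of_mem_of_conj hH heven fun t ht ht2 g hg => ?_
    have ho : orderOf (g⁻¹ * t * g) = 2 := by
      simpa using (Invol.orderOf_conj g⁻¹ t).trans ht2
    obtain ⟨k, hk, hkt⟩ := h2 t ht _ hg ht2 ho (isConj_iff.2 ⟨g⁻¹, by simp⟩)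
    have hgk : g * k ∈ H := h1 t ht ht2 (Subgroup.mem_centralizer_singleton_iff.2 (by
      calc g * k * t = g * (k * t * k⁻¹) * k := by group
        _ = t * (g * k) := by rw [hkt]; group))
    simpa using mul_mem hgk (inv_mem hk)

end Cfsg.Agent.S0223
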