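import Cfsg.Statements.S0224
import Cfsg.Agent.Lib.Invol.StronglyEmbedded
-- import your own Cfsg.Agent.* helpers here

set_option autoImplicit false
open Cfsg

namespace Cfsg.Agent.S0224

/-- Let H be a proper subgroup of even order of the finite group G. Then H is strongly embedded if and only if each involution of H fixes exactly one point (namely the coset H) in the action of G on the cosets of H. -/
theorem result {G : Type*} [Group G] [Finite G] (H : Subgroup G) (hH : H ≠ ⊤) (heven : Even (Nat.card H)) : Cfsg.IsStronglyEmbedded H ↔ ∀ t ∈ H, orderOf t = 2 → Nat.card {c : G ⧸ H // t • c = c} = 1 := by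
  rw [Invol.SE_iff_fixed_unique hH heven]
  have hbase : ∀ t ∈ H, t • (QuotientGroup.mk 1 : G ⧸ H) = QuotientGroup.mk 1 := fun t ht => by
    rw [MulAction.Quotient.smul_mk, smul_eq_mul, mul_one, QuotientGroup.eq, mul_one]
    exact inv_mem ht
  constructor
  · intro h t ht ht2
    rw [Nat.card_eq_one_iff_unique]
    exact ⟨⟨fun a b => Subtype.ext ((h t ht ht2 _ a.2).trans (h t ht ht2 _ b.2).symm)⟩,
      ⟨⟨_, hbase t ht⟩⟩⟩
  · intro h t ht ht2 c hc
    obtain ⟨hs, -⟩ := Nat.card_eq_one_iff_unique.1 (h t ht ht2)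
    exact congrArg Subtype.val
      (@Subsingleton.elim _ hs ⟨c, hc⟩ ⟨QuotientGroup.mk 1, hbase t ht⟩)

end Cfsg.Agent.S0224
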