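import Cfsg.Statements.S0226
import Cfsg.Agent.Lib.Invol.Basic
-- import your own Cfsg.Agent.* helpers here

set_option autoImplicit false
open Cfsg

namespace Cfsg.Agent.S0226

/-- A finite group of even order has an odd number of involutions. -/
theorem result {G : Type*} [Group G] [Finite G] (heven : Even (Nat.card G)) : Odd (Nat.card {t : G // orderOf t = 2}) := by
  classical
  haveI := Fintype.ofFinite G
  have h1 : ((Finset.univ.filter fun g : G => ¬ g * g = 1).card : ZMod 2) = 0 := by
    rw [Finset.card_eq_sum_ones, Nat.cast_sum]
    refine Finset.sum_involution (fun g _ => g⁻¹) (fun g _ => by decide) ?_ ?_ (fun g _ => inv_inv g)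
    · intro g hg _ he
      exact (Finset.mem_filter.1 hg).2 (inv_eq_iff_mul_eq_one.1 he)
    · intro g hg
      simp only [Finset.mem_filter, Finset.mem_univ, true_and] at hg ⊢
      exact fun he => hg (inv_eq_one.1 (by rw [mul_inv_rev]; exact he))
  have h2 : (Finset.univ.filter fun g : G => g * g = 1) =
      insert 1 (Finset.univ.filter fun g : G => orderOf g = 2) := by
    ext g
    simp only [Finset.mem_filter, Finset.mem_univ, true_and, Finset.mem_insert]
    constructor
    · intro h
      by_cases hg : g = 1
      · exact Or.inl hg
      · exact Or.inr (Invol.orderOf_two_of_mul_self h hg)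
    · rintro (rfl | h)
      · exact one_mul 1
      · exact Invol.mul_self_of_orderOf_two h
  have h3 := Finset.card_filter_add_card_filter_not (s := (Finset.univ : Finset G))
    (fun g : G => g * g = 1)
  rw [h2, Finset.card_insert_of_notMem (by simp), Finset.card_univ] at h3
  rw [← Nat.card_eq_fintype_card] at h3
  rw [ZMod.natCast_eq_zero_iff_even] at h1
  rw [Nat.card_eq_fintype_card, Fintype.card_subtype]
  obtain ⟨a, ha⟩ := heven
  obtain ⟨b, hb⟩ := h1
  exact ⟨a - b - 1, by omega⟩

end Cfsg.Agent.S0226
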