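import Cfsg.Statements.S0228
import Cfsg.Agent.Lib.Invol.Basic
-- import your own Cfsg.Agent.* helpers here

set_option autoImplicit false
open Cfsg

namespace Cfsg.Agent.S0228

/-- A group of order 12 in which no involution is central is isomorphic to the alternating group on four letters. -/
theorem result {G : Type*} [Group G] [Finite G] (hG : Nat.card G = 12) (hz : ∀ z : G, orderOf z = 2 → z ∉ Subgroup.center G) : Nonempty (G ≃* alternatingGroup (Fin 4)) := by
  classical
  haveI : Fact (Nat.Prime 3) := ⟨Nat.prime_three⟩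
  haveI : Fact (Nat.Prime 2) := ⟨Nat.prime_two⟩
  obtain ⟨P⟩ : Nonempty (Sylow 3 G) := inferInstance
  have hP : Nat.card P = 3 := by
    rw [P.card_eq_multiplicity, hG]
    rw [show (12 : ℕ).factorization 3 = 1 by
      rw [show (12 : ℕ) = 3 * 4 from rfl, Nat.factorization_mul (by norm_num) (by norm_num),
        Finsupp.add_apply, Nat.prime_three.factorization_self,
        Nat.factorization_eq_zero_of_not_dvd (by norm_num : ¬ 3 ∣ 4)]]
    norm_num
  have hn : Nat.card (Sylow 3 G) ∣ 4 := by
    have h1 := P.card_dvd_index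
    have h2 := (P : Subgroup G).card_mul_index
    have h3 : Nat.card (P : Subgroup G) = 3 := hP
    rw [h3, hG] at h2
    rwa [show (P : Subgroup G).index = 4 by omega] at h1
  have hmod := card_sylow_modEq_one 3 G
  have hle := Nat.le_of_dvd (by norm_num) hn
  have hcases : Nat.card (Sylow 3 G) = 1 ∨ Nat.card (Sylow 3 G) = 4 := by
    unfold Nat.ModEq at hmod
    omega
  rcases hcases with h1 | h4
  · -- a normal Sylow 3-subgroup gives a central involution
    exfalso
    haveI : Subsingleton (Sylow 3 G) := (Nat.card_eq_one_iff_unique.1 h1).1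
    haveI hPn : (P : Subgroup G).Normal := P.normal_of_subsingleton
    obtain ⟨S⟩ : Nonempty (Sylow 2 G) := inferInstance
    have hS : Nat.card S = 4 := by
      rw [S.card_eq_multiplicity, hG]
      rw [show (12 : ℕ).factorization 2 = 2 by
        rw [show (12 : ℕ) = 2 ^ 2 * 3 from rfl, Nat.factorization_mul (by norm_num) (by norm_num),
          Finsupp.add_apply, Nat.factorization_pow, Finsupp.smul_apply,
          Nat.prime_two.factorization_self,
          Nat.factorization_eq_zero_of_not_dvd (by norm_num : ¬ 2 ∣ 3)]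
        norm_num]
      norm_num
    have hScomm : ∀ a ∈ (S : Subgroup G), ∀ b ∈ (S : Subgroup G), a * b = b * a := by
      intro a ha b hb
      haveI := IsPGroup.isMulCommutative_of_card_eq_prime_sq (p := 2) (G := (S : Subgroup G))
        (by rw [hS]; norm_num)
      exact congrArg Subtype.val
        (IsMulCommutative.is_comm.comm (⟨a, ha⟩ : (S : Subgroup G)) ⟨b, hb⟩)
    haveI : IsCyclic (P : Subgroup G) := isCyclic_of_prime_card (p := 3) hP
    -- the conjugation action on `P`
    obtain ⟨g, hg⟩ := IsCyclic.exists_generator (α := (P : Subgroup G))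
    have hgP := g.2
    have hg3 : orderOf (g : G) = 3 := by
      rw [Subgroup.orderOf_coe, orderOf_eq_card_of_forall_mem_zpowers hg]; exact hP
    have htwo : ∀ s : G, s * g * s⁻¹ = g ∨ s * g * s⁻¹ = (g : G)⁻¹ := by
      intro s
      obtain ⟨k, hk⟩ := Subgroup.mem_zpowers_iff.1 (hg ⟨_, hPn.conj_mem _ hgP s⟩)
      have hk' : (g : G) ^ k = s * g * s⁻¹ := by simpa using congrArg Subtype.val hk
      have hne : s * (g : G) * s⁻¹ ≠ 1 := fun h => by
        rw [conj_eq_one_iff.1 h, orderOf_one] at hg3; omega
      rw [← zpow_mod_orderOf, hg3] at hk'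
      have h0 := Int.emod_nonneg k (show ((3 : ℕ) : ℤ) ≠ 0 by norm_num)
      have h3 := Int.emod_lt_of_pos k (show (0 : ℤ) < ((3 : ℕ) : ℤ) by norm_num)
      obtain h | h | h : k % ((3 : ℕ) : ℤ) = 0 ∨ k % ((3 : ℕ) : ℤ) = 1 ∨ k % ((3 : ℕ) : ℤ) = 2 := by
        omega
      · rw [h, zpow_zero] at hk'; exact absurd hk'.symm hne
      · rw [h, zpow_one] at hk'; exact Or.inl hk'.symm
      · refine Or.inr ?_
        rw [← hk', h]
        have e := pow_orderOf_eq_one (g : G)
        rw [hg3] at e
        apply eq_inv_of_mul_eq_one_left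
        rw [zpow_two, ← e]; simp [pow_succ, mul_assoc]
    -- a nontrivial element of `S` centralising `P`
    have hex : ∃ s ∈ (S : Subgroup G), s ≠ 1 ∧ s * g * s⁻¹ = g := by
      haveI : Nontrivial (S : Subgroup G) := by
        rw [← Finite.one_lt_card_iff_nontrivial, hS]; norm_num
      by_contra hno
      push_neg at hno
      obtain ⟨a, ha⟩ := exists_ne (1 : (S : Subgroup G))
      have hb : ∃ b : (S : Subgroup G), b ≠ 1 ∧ b ≠ a := by
        by_contra hnb
        push_neg at hnb
        haveI := Fintype.ofFinite (S : Subgroup G)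
        have hsub : (Finset.univ : Finset (S : Subgroup G)) ⊆ {1, a} := fun b _ => by
          by_cases h : b = 1
          · simp [h]
          · simp [hnb b h]
        have h1 := (Finset.card_le_card hsub).trans Finset.card_le_two
        rw [Finset.card_univ, ← Nat.card_eq_fintype_card, hS] at h1
        omega
      obtain ⟨b, hb1, hba⟩ := hb
      have ea := (htwo (a : G)).resolve_left (hno _ a.2 (fun h => ha (Subtype.ext h)))
      have eb := (htwo (b : G)).resolve_left (hno _ b.2 (fun h => hb1 (Subtype.ext h)))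
      refine hno ((a : G)⁻¹ * b) (mul_mem (inv_mem a.2) b.2) (fun h => hba (Subtype.ext ?_)) ?_
      · exact (inv_mul_eq_one.1 h).symm
      · calc (a : G)⁻¹ * b * g * ((a : G)⁻¹ * b)⁻¹ = (a : G)⁻¹ * ((b : G) * g * (b : G)⁻¹) * a := by
              group
          _ = (g : G) := by rw [eb, ← ea]; group
    obtain ⟨s, hs, hs1, hsg⟩ := hex
    -- replace it by an involution
    have hexp : ∃ u ∈ (S : Subgroup G), orderOf u = 2 ∧ u * g * u⁻¹ = g := by
      by_cases h2 : s * s = 1
      · exact ⟨s, hs, Invol.orderOf_two_of_mul_self h2 hs1, hsg⟩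
      · refine ⟨s * s, mul_mem hs hs, Invol.orderOf_two_of_mul_self ?_ h2, ?_⟩
        · have h4 := congrArg Subtype.val (pow_card_eq_one' (x := (⟨s, hs⟩ : (S : Subgroup G))))
          simp only [SubmonoidClass.coe_pow, OneMemClass.coe_one] at h4
          rw [show Nat.card (S : Subgroup G) = 4 from hS] at h4
          rw [← h4]; simp [pow_succ, mul_assoc]
        · calc s * s * g * (s * s)⁻¹ = s * (s * g * s⁻¹) * s⁻¹ := by group
            _ = _ := by rw [hsg, hsg]
    obtain ⟨u, hu, hu2, hug⟩ := hexp
    refine hz u hu2 ?_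
    have htop : (P : Subgroup G) ⊔ (S : Subgroup G) = ⊤ := by
      apply Subgroup.eq_top_of_le_card
      have h3 : 3 ∣ Nat.card ↥((P : Subgroup G) ⊔ (S : Subgroup G)) :=
        hP.symm.dvd.trans (Subgroup.card_dvd_of_le le_sup_left)
      have h4 : 4 ∣ Nat.card ↥((P : Subgroup G) ⊔ (S : Subgroup G)) :=
        hS.symm.dvd.trans (Subgroup.card_dvd_of_le le_sup_right)
      rw [hG]
      exact Nat.le_of_dvd Nat.card_pos (by omega)
    rw [Subgroup.mem_center_iff]
    have hle : (P : Subgroup G) ⊔ (S : Subgroup G) ≤ Subgroup.centralizer ({u} : Set G) := by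
      refine sup_le (fun x hx => ?_) (fun x hx => ?_)
      · obtain ⟨k, hk⟩ := Subgroup.mem_zpowers_iff.1 (hg ⟨x, hx⟩)
        have hk' : (g : G) ^ k = x := by simpa using congrArg Subtype.val hk
        rw [Subgroup.mem_centralizer_singleton_iff, ← hk']
        exact (((show Commute u (g : G) from mul_inv_eq_iff_eq_mul.1 hug).zpow_right k).symm).eq
      · rw [Subgroup.mem_centralizer_singleton_iff]
        exact hScomm x hx u hu
    intro c
    exact Subgroup.mem_centralizer_singleton_iff.1 (hle (by rw [htop]; exact Subgroup.mem_top c))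
  · -- four Sylow 3-subgroups: an embedding in `S₄`
    have hidx := P.card_eq_index_normalizer
    have hNP : Subgroup.normalizer ((P : Subgroup G) : Set G) = P := by
      refine (Subgroup.eq_of_le_of_card_ge Subgroup.le_normalizer ?_).symm
      have h := (Subgroup.normalizer ((P : Subgroup G) : Set G)).card_mul_index
      rw [hG, show (Subgroup.normalizer ((P : Subgroup G) : Set G)).index = 4 from hidx.symm.trans h4] at h
      rw [show Nat.card (P : Subgroup G) = 3 from hP]
      omega
    let φ := MulAction.toPermHom G (Sylow 3 G)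
    have hfix : ∀ k ∈ φ.ker, ∀ Q : Sylow 3 G, k • Q = Q := fun k hk Q =>
      congrArg (fun f : Equiv.Perm (Sylow 3 G) => f Q) (MonoidHom.mem_ker.1 hk)
    have hker : φ.ker ≤ (P : Subgroup G) := by
      intro k hk
      rw [← hNP]
      exact Sylow.smul_eq_iff_mem_normalizer.1 (hfix k hk P)
    have hinj : Function.Injective φ := by
      rw [← MonoidHom.ker_eq_bot_iff]
      rcases (Nat.dvd_prime Nat.prime_three).1 (hP ▸ Subgroup.card_dvd_of_le hker) with h | h
      · exact Subgroup.card_eq_one.1 h
      · exfalso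
        have heq := Subgroup.eq_of_le_of_card_ge hker (hP.trans h.symm).le
        haveI : (P : Subgroup G).Normal := heq ▸ MonoidHom.normal_ker φ
        haveI : Subsingleton (Sylow 3 G) := ⟨fun A B => by
          obtain ⟨a, rfl⟩ := MulAction.exists_smul_eq G P A
          obtain ⟨b, rfl⟩ := MulAction.exists_smul_eq G P B
          rw [Sylow.smul_eq_of_normal, Sylow.smul_eq_of_normal]⟩
        haveI : Nonempty (Sylow 3 G) := ⟨P⟩
        rw [Nat.card_unique] at h4
        omega
    let e : Sylow 3 G ≃ Fin 4 := Finite.equivFinOfCardEq h4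
    let ψ : G →* Equiv.Perm (Fin 4) := e.permCongrHom.toMonoidHom.comp φ
    have hψ : Function.Injective ψ := e.permCongrHom.injective.comp hinj
    have hA : ψ.range = alternatingGroup (Fin 4) := by
      apply Equiv.Perm.eq_alternatingGroup_of_index_eq_two
      have h := ψ.range.card_mul_index
      rw [← Nat.card_congr (MonoidHom.ofInjective hψ).toEquiv, hG, Nat.card_perm, Nat.card_fin,
        show Nat.factorial 4 = 24 from rfl] at h
      omega
    exact ⟨(MonoidHom.ofInjective hψ).trans (MulEquiv.subgroupCongr hA)⟩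

end Cfsg.Agent.S0228
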