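import Cfsg.Statements.S0229
import Cfsg.Agent.Lib.Invol.Isolated
-- import your own Cfsg.Agent.* helpers here

set_option autoImplicit false
open Cfsg

namespace Cfsg.Agent.S0229

/-- Let t be an involution of a Sylow 2-subgroup S of a finite group G, conjugate in G to no other element of S, and let s be an involution of G not conjugate to t. Then the order of st is twice an odd number. -/
theorem result {G : Type*} [Group G] [Finite G] (S : Sylow 2 G) (t : G) (ht : orderOf t = 2) (htS : t ∈ S) (hiso : ∀ g : G, g * t * g⁻¹ ∈ S → g * t * g⁻¹ = t) (s : G) (hs : orderOf s = 2) (hns : ¬ IsConj s t) : orderOf (s * t) % 4 = 2 := by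
  have hI := Invol.isolated_of_sylow S ht htS hiso
  have ht' := Invol.mul_self_of_orderOf_two ht
  have hs' := Invol.mul_self_of_orderOf_two hs
  have heven := Invol.even_of_not_isConj hs' ht' hns
  have h4 : ¬ 4 ∣ orderOf (s * t) := by
    intro h4
    have e : orderOf (t * s) = orderOf (s * t) := by
      rw [← orderOf_inv, mul_inv_rev, Invol.inv_of_orderOf_two hs, Invol.inv_of_orderOf_two ht]
    rw [← e] at h4 heven
    obtain ⟨d, -, hd⟩ := (Invol.conj_pair_half_iff ht' hs' heven).2 h4
    have hw := Invol.orderOf_pow_half heven (orderOf_pos _).ne'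
    have hcw := Invol.commute_pow_half (Invol.conj_mul_eq_inv ht' hs') heven
    have := Invol.isolated_eq_of_commute hI (isConj_iff.2 ⟨d, hd⟩)
      (Commute.mul_right (Commute.refl t) hcw.symm)
    exact Invol.ne_one_of_orderOf_two hw (mul_eq_left.1 this)
  obtain ⟨k, hk⟩ := heven
  omega

end Cfsg.Agent.S0229
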