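import Cfsg.Statements.S0230
import Cfsg.Agent.Lib.Invol.Count
-- import your own Cfsg.Agent.* helpers here

set_option autoImplicit false
open Cfsg

namespace Cfsg.Agent.S0230

/-- Let G be a finite group with two non-conjugate involutions, and let t be an involution whose centralizer has maximal order among centralizers of involutions. Then |G| < |C_G(t)|^3. -/
theorem result {G : Type*} [Group G] [Finite G] (s t : G) (hs : orderOf s = 2) (ht : orderOf t = 2) (hnc : ¬ IsConj s t) (hmax : ∀ u : G, orderOf u = 2 → Nat.card (Subgroup.centralizer ({u} : Set G)) ≤ Nat.card (Subgroup.centralizer ({t} : Set G))) : Nat.card G < Nat.card (Subgroup.centralizer ({t} : Set G)) ^ 3 := by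
  classical
  haveI := Fintype.ofFinite G
  set c := Nat.card (Subgroup.centralizer ({t} : Set G)) with hc
  let I := Finset.univ.filter fun w : G => orderOf w = 2 ∧ Commute w s
  let D := Finset.univ.filter fun v : G => IsConj t v
  have hD : D ⊆ I.biUnion fun w => Finset.univ.filter fun v : G => Commute v w := by
    intro v hv
    simp only [D, Finset.mem_filter, Finset.mem_univ, true_and] at hv
    obtain ⟨w, -, hw, hws, hwv⟩ := Invol.exists_commuting_involution_of_not_isConj
      (Invol.mul_self_of_orderOf_two hs)
      (Invol.mul_self_of_orderOf_two (Invol.orderOf_two_of_isConj hv ht))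
      (fun h => hnc (h.trans hv.symm))
    simp only [Finset.mem_biUnion, Finset.mem_filter, Finset.mem_univ, true_and, I]
    exact ⟨w, ⟨hw, hws⟩, hwv.symm⟩
  have hle : D.card ≤ I.card * c := by
    refine (Finset.card_le_card hD).trans (Finset.card_biUnion_le_card_mul _ _ _ fun w hw => ?_)
    simp only [I, Finset.mem_filter, Finset.mem_univ, true_and] at hw
    refine le_trans ?_ (hmax w hw.1)
    rw [Nat.card_eq_fintype_card, ← Fintype.card_subtype]
    exact (Fintype.card_congr (Equiv.subtypeEquivRight fun v =>
      Subgroup.mem_centralizer_singleton_iff.symm)).le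
  have hI : I.card < c := by
    refine lt_of_lt_of_le ?_ (hmax s hs)
    rw [Nat.card_eq_fintype_card, Fintype.card_subtype]
    refine Finset.card_lt_card ((Finset.ssubset_iff_of_subset ?_).2 ⟨1, ?_, ?_⟩)
    · intro w hw
      simp only [I, Finset.mem_filter, Finset.mem_univ, true_and] at hw ⊢
      exact Subgroup.mem_centralizer_singleton_iff.2 hw.2.eq
    · simp [one_mem]
    · simp [I]
  have hcl := Invol.card_class_mul_card_centralizer t
  rw [show Nat.card {y : G // IsConj t y} = D.card by
    rw [Nat.card_eq_fintype_card, Fintype.card_subtype], ← hc] at hcl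
  have hc0 : 0 < c := Nat.card_pos
  rw [← hcl]
  calc D.card * c ≤ I.card * c * c := Nat.mul_le_mul_right _ hle
    _ < c * c * c := Nat.mul_lt_mul_of_pos_right (Nat.mul_lt_mul_of_pos_right hI hc0) hc0
    _ = c ^ 3 := by ring

end Cfsg.Agent.S0230
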