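import Cfsg.Statements.S0231
import Cfsg.Agent.Lib.Invol.Basic
-- import your own Cfsg.Agent.* helpers here

set_option autoImplicit false
open scoped Pointwise
open Cfsg

namespace Cfsg.Agent.S0231

/-- Let T be a Sylow 2-subgroup of the finite group G which is not normal and which intersects every other Sylow 2-subgroup trivially. Then G has a single conjugacy class of involutions. -/
theorem result {G : Type*} [Group G] [Finite G] (T : Sylow 2 G) (hnn : ¬ (T : Subgroup G).Normal) (hTI : ∀ g : G, MulAut.conj g • (T : Subgroup G) ≠ T → MulAut.conj g • (T : Subgroup G) ⊓ T = ⊥) (s t : G) (hs : orderOf s = 2) (ht : orderOf t = 2) : IsConj s t := by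
  haveI : Fact (Nat.Prime 2) := ⟨Nat.prime_two⟩
  by_contra hnc
  -- every Sylow 2-subgroup is a TI subgroup
  have hTIall : ∀ R : Sylow 2 G, ∀ g : G, MulAut.conj g • (R : Subgroup G) ≠ R →
      MulAut.conj g • (R : Subgroup G) ⊓ R = ⊥ := by
    intro R g hg
    obtain ⟨c, hc⟩ := MulAction.exists_smul_eq G T R
    have e : (R : Subgroup G) = MulAut.conj c • (T : Subgroup G) := by rw [← hc]; rfl
    have e2 : MulAut.conj g • (R : Subgroup G) =
        MulAut.conj c • (MulAut.conj (c⁻¹ * g * c) • (T : Subgroup G)) := by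
      rw [e, smul_smul, smul_smul, ← map_mul, ← map_mul]
      congr 2; group
    have h := hTI (c⁻¹ * g * c) (fun h => hg (by rw [e2, h, ← e]))
    rw [e2, e, ← Subgroup.smul_inf, h, Subgroup.smul_bot]
  -- an element commuting with a nontrivial element of `R` normalises `R`
  have hmem : ∀ (R : Sylow 2 G) (z u : G), z ∈ R → orderOf z = 2 → orderOf u = 2 →
      Commute z u → u ∈ R := by
    intro R z u hzR hz hu hzu
    have hN : MulAut.conj u • (R : Subgroup G) = R := by
      by_contra h
      have hz' : z ∈ MulAut.conj u • (R : Subgroup G) ⊓ R := by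
        refine ⟨?_, hzR⟩
        have := Subgroup.smul_mem_pointwise_smul z (MulAut.conj u) _ hzR
        rwa [MulAut.smul_def, MulAut.conj_apply, ← hzu.eq, mul_inv_cancel_right] at this
      rw [hTIall R u h, Subgroup.mem_bot] at hz'
      exact Invol.ne_one_of_orderOf_two hz hz'
    have hu' : u ∈ Subgroup.normalizer ((R : Subgroup G) : Set G) := by
      rw [Subgroup.mem_normalizer_iff]
      intro n
      conv_rhs => rw [← hN, ← MulAut.conj_apply, ← MulAut.smul_def,
        Subgroup.smul_mem_pointwise_smul_iff]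
    have hzp : IsPGroup 2 ↥(Subgroup.zpowers u) :=
      IsPGroup.of_card (n := 1) (by rw [Nat.card_zpowers, hu, pow_one])
    have hP : IsPGroup 2 ↥((R : Subgroup G) ⊔ Subgroup.zpowers u) :=
      R.2.to_sup_of_normal_left' hzp (Subgroup.zpowers_le.2 hu')
    have hle : Subgroup.zpowers u ≤ (R : Subgroup G) := le_sup_right.trans (R.3 hP le_sup_left).le
    exact hle (Subgroup.mem_zpowers u)
  obtain ⟨R, hR⟩ := (IsPGroup.of_card (p := 2) (n := 1)
    (show Nat.card (Subgroup.zpowers s) = 2 ^ 1 by rw [Nat.card_zpowers, hs, pow_one])).exists_le_sylow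
  have hsR : s ∈ R := hR (Subgroup.mem_zpowers s)
  -- every conjugate of `t` lies in `R`
  have hall : ∀ g : G, g * t * g⁻¹ ∈ R := by
    intro g
    have hv : orderOf (g * t * g⁻¹) = 2 := by rw [Invol.orderOf_conj, ht]
    obtain ⟨w, -, hw, hws, hwv⟩ := Invol.exists_commuting_involution_of_not_isConj
      (Invol.mul_self_of_orderOf_two hs) (Invol.mul_self_of_orderOf_two hv)
      (fun h => hnc (h.trans (isConj_iff.2 ⟨g, rfl⟩).symm))
    exact hmem R w _ (hmem R s w hsR hs hw hws.symm) hw hv hwv
  refine hnn ?_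
  have hRn : (R : Subgroup G).Normal := by
    refine ⟨fun n hn g => ?_⟩
    have hg : MulAut.conj g • (R : Subgroup G) = R := by
      by_contra h
      have h1 : g * (1 * t * 1⁻¹) * g⁻¹ ∈ MulAut.conj g • (R : Subgroup G) := by
        have := Subgroup.smul_mem_pointwise_smul _ (MulAut.conj g) _ (hall 1)
        rwa [MulAut.smul_def, MulAut.conj_apply] at this
      have h2 : g * (1 * t * 1⁻¹) * g⁻¹ ∈ MulAut.conj g • (R : Subgroup G) ⊓ R :=
        ⟨h1, by simpa using hall g⟩
      rw [hTIall R g h, Subgroup.mem_bot] at h2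
      exact Invol.ne_one_of_orderOf_two ht (by simpa using h2)
    rw [← hg, ← MulAut.conj_apply, ← MulAut.smul_def]
    exact Subgroup.smul_mem_pointwise_smul n (MulAut.conj g) _ hn
  obtain ⟨c, hc⟩ := MulAction.exists_smul_eq G R T
  haveI := hRn
  rw [← hc, Sylow.smul_eq_of_normal]
  exact hRn

end Cfsg.Agent.S0231
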