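import Cfsg.Statements.S0232
import Cfsg.Agent.Lib.Invol.BrauerFowler
-- import your own Cfsg.Agent.* helpers here

set_option autoImplicit false
open Cfsg

namespace Cfsg.Agent.S0232


universe u

theorem aux : ∀ (g : ℕ) (G : Type u) [Group G] [Finite G], Nat.card G = g → Even g → 2 < g →
    ∃ H : Subgroup G, H ≠ ⊤ ∧ g < (Nat.card H) ^ 3 := by
  intro g
  induction g using Nat.strong_induction_on with
  | _ g ih =>
  intro G _ _ hg heven hgt
  have hidx2 : ∀ H : Subgroup G, H.index = 2 → g < (Nat.card H) ^ 3 := by
    intro H h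
    have e := H.index_mul_card
    rw [h, hg] at e
    have hk : 2 ≤ Nat.card H := by omega
    have hk2 : 4 ≤ Nat.card H * Nat.card H := Nat.mul_le_mul hk hk
    nlinarith
  haveI : Fact (Nat.Prime 2) := ⟨Nat.prime_two⟩
  by_cases hZ : Odd (Nat.card (Subgroup.center G))
  · obtain ⟨H, hH, h⟩ := Invol.BrauerFowler.index_bound (hg ▸ heven) hZ
    rcases h with h | h
    · exact ⟨H, hH, hidx2 H h⟩
    set n := Nat.card {t : G // orderOf t = 2} with hn
    obtain ⟨t, ht⟩ := exists_prime_orderOf_dvd_card' (G := G) 2 (hg ▸ even_iff_two_dvd.mp heven)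
    set C := Subgroup.centralizer ({t} : Set G)
    have hC : C ≠ ⊤ := fun e => by
      have hc : t ∈ Subgroup.center G := Subgroup.mem_center_iff.mpr fun x =>
        Subgroup.mem_centralizer_singleton_iff.mp (e ▸ Subgroup.mem_top x : x ∈ C)
      have h := Subgroup.orderOf_dvd_natCard _ hc
      rw [ht] at h
      exact absurd (even_iff_two_dvd.mpr h) (Nat.not_even_iff_odd.mpr hZ)
    by_cases hbig : g < (Nat.card C) ^ 3
    · exact ⟨C, hC, hbig⟩
    push Not at hbig
    have hnc : g ≤ n * Nat.card C := by
      rw [← hg, ← C.index_mul_card]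
      refine Nat.mul_le_mul_right _ ?_
      refine Nat.card_le_card_of_injective
        (fun q : G ⧸ C => ⟨q.out * t * q.out⁻¹, by rw [Invol.orderOf_conj, ht]⟩) fun a b e => ?_
      have e' : a.out * t * a.out⁻¹ = b.out * t * b.out⁻¹ := congrArg Subtype.val e
      rw [← a.out_eq', ← b.out_eq', QuotientGroup.eq]
      refine Subgroup.mem_centralizer_singleton_iff.mpr ?_
      calc a.out⁻¹ * b.out * t = a.out⁻¹ * (b.out * t * b.out⁻¹) * b.out := by group
        _ = a.out⁻¹ * (a.out * t * a.out⁻¹) * b.out := by rw [e']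
        _ = t * (a.out⁻¹ * b.out) := by group
    have hng : n ≤ g := hg ▸ Nat.card_le_card_of_injective _ Subtype.val_injective
    refine ⟨H, hH, ?_⟩
    rw [hg] at h
    set c := Nat.card C
    set k := Nat.card H
    set i := H.index
    have hik : i * k = g := hg ▸ H.index_mul_card
    have hlt : i < c ^ 2 := by
      by_contra hle
      push Not at hle
      have h1 : g * (g + n) * c ^ 2 ≤ 2 * i * n ^ 2 * c ^ 2 := by
        calc g * (g + n) * c ^ 2 ≤ g * (g + g) * c ^ 2 :=
              Nat.mul_le_mul_right _ (Nat.mul_le_mul_left _ (by omega))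
          _ = 2 * (g * g) * c ^ 2 := by ring
          _ ≤ 2 * ((n * c) * (n * c)) * i :=
              Nat.mul_le_mul (Nat.mul_le_mul_left _ (Nat.mul_le_mul hnc hnc)) hle
          _ = _ := by ring
      have hc0 : 0 < c ^ 2 := pow_pos Nat.card_pos 2
      have := Nat.le_of_mul_le_mul_right h1 hc0
      omega
    have hk0 : 0 < k := Nat.card_pos
    have h2 : g < c ^ 2 * k := hik ▸ Nat.mul_lt_mul_of_pos_right hlt hk0
    have h3 : g * g * g < g * g * k ^ 3 := by
      calc g * g * g = g ^ 3 := by ring
        _ < (c ^ 2 * k) ^ 3 := Nat.pow_lt_pow_left h2 (by norm_num)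
        _ = (c ^ 3) * (c ^ 3) * k ^ 3 := by ring
        _ ≤ g * g * k ^ 3 := Nat.mul_le_mul_right _ (Nat.mul_le_mul hbig hbig)
    exact Nat.lt_of_mul_lt_mul_left h3
  · obtain ⟨z, hz⟩ := exists_prime_orderOf_dvd_card' (G := Subgroup.center G) 2
      (even_iff_two_dvd.mp (Nat.not_odd_iff_even.mp hZ))
    set N : Subgroup G := (Subgroup.zpowers z).map (Subgroup.center G).subtype with hN
    haveI : N.Normal := ⟨fun x hx y => by
      have hxc : x ∈ Subgroup.center G := by
        obtain ⟨w, -, rfl⟩ := hx
        exact w.2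
      rw [Subgroup.mem_center_iff.mp hxc y, mul_inv_cancel_right]
      exact hx⟩
    have hNcard : Nat.card N = 2 := by
      rw [hN, Subgroup.card_map_of_injective (Subgroup.center G).subtype_injective, Nat.card_zpowers,
        hz]
    obtain ⟨m, hm⟩ : ∃ m, Nat.card (G ⧸ N) = m := ⟨_, rfl⟩
    have hgm : g = m * 2 := by
      rw [← hg, Subgroup.card_eq_card_quotient_mul_card_subgroup N, hNcard, hm]
    rcases Nat.even_or_odd m with hme | hmo
    · by_cases hm2 : m = 2
      · refine ⟨N, fun e => ?_, ?_⟩
        · rw [e, Subgroup.card_top, hg] at hNcard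
          omega
        · rw [hNcard]
          omega
      · obtain ⟨K, hK, hlt⟩ := ih m (by omega) (G ⧸ N) hm hme (by
          rcases hme with ⟨j, rfl⟩
          omega)
        refine ⟨K.comap (QuotientGroup.mk' N), fun e => hK ?_, ?_⟩
        · exact Subgroup.comap_injective (QuotientGroup.mk'_surjective N)
            (e.trans (Subgroup.comap_top _).symm)
        · have hc : Nat.card (K.comap (QuotientGroup.mk' N)) = 2 * Nat.card K := by
            rw [← hNcard]
            have h1 := (K.comap (QuotientGroup.mk' N)).index_mul_card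
            rw [Subgroup.index_comap_of_surjective _ (QuotientGroup.mk'_surjective N), hg, hgm,
              ← hm, ← K.index_mul_card, ← hNcard] at h1
            have h2 : 0 < K.index := Nat.pos_of_ne_zero Subgroup.index_ne_zero_of_finite
            nlinarith
          rw [hc, hgm, mul_pow]
          omega
    · obtain ⟨K, hK⟩ := Subgroup.exists_left_complement'_of_coprime (N := N) (by
        rw [hNcard, Subgroup.index_eq_card, hm]
        exact Nat.coprime_two_left.mpr hmo)
      have hKi : K.index = 2 := by
        rw [← hNcard]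
        exact (Subgroup.IsComplement'.symm hK).index_eq_card
      exact ⟨K, fun e => by simp [e] at hKi, hidx2 K hKi⟩

/-- A finite group G of even order greater than 2 has a proper subgroup H with |G| < |H|^3. -/
theorem result {G : Type*} [Group G] [Finite G] (heven : Even (Nat.card G)) (hgt : 2 < Nat.card G) : ∃ H : Subgroup G, H ≠ ⊤ ∧ Nat.card G < (Nat.card H) ^ 3 := by
  exact aux _ G rfl heven hgt

end Cfsg.Agent.S0232
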