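import Cfsg.Statements.S0234
import Cfsg.Agent.Lib.Invol.BrauerFowler
import Mathlib.GroupTheory.SpecificGroups.Alternating
-- import your own Cfsg.Agent.* helpers here

set_option autoImplicit false
open Cfsg

namespace Cfsg.Agent.S0234


theorem count_a5 :
    Fintype.card {σ : alternatingGroup (Fin 5) // σ * σ = 1 ∧ σ ≠ 1} = 15 := by
  decide +kernel

universe u

theorem index_five {G : Type u} [Group G] [Finite G] [IsSimpleGroup G] (heven : Even (Nat.card G))
    (hgt : 2 < Nat.card G) {H : Subgroup G} (hH : H.index = 5) :
    3 * Nat.card {t : G // orderOf t = 2} < Nat.card G := by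
  classical
  have hne : H ≠ ⊤ := fun e => by rw [e, Subgroup.index_top] at hH; omega
  haveI := Fintype.ofFinite (G ⧸ H)
  have hq : Fintype.card (G ⧸ H) = 5 := by rw [← Nat.card_eq_fintype_card, ← hH]; rfl
  let e : G ⧸ H ≃ Fin 5 := Fintype.equivFinOfCardEq hq
  let f : G →* Equiv.Perm (Fin 5) :=
    e.permCongrHom.toMonoidHom.comp (MulAction.toPermHom G (G ⧸ H))
  have hf : Function.Injective f :=
    e.permCongrHom.injective.comp (Invol.BrauerFowler.toPermHom_injective hne)
  have hmem : ∀ x, f x ∈ alternatingGroup (Fin 5) := by
    intro x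
    have hk : (Equiv.Perm.sign.comp f).ker = ⊤ := by
      rcases Subgroup.Normal.eq_bot_or_eq_top (MonoidHom.normal_ker (Equiv.Perm.sign.comp f)) with h | h
      · exfalso
        have h1 := Nat.card_le_card_of_injective _ (MonoidHom.ker_eq_bot_iff _ |>.mp h)
        rw [Nat.card_eq_fintype_card (α := ℤˣ), Fintype.card_units_int] at h1
        omega
      · exact h
    exact MonoidHom.mem_ker.mp (hk ▸ Subgroup.mem_top x : x ∈ (Equiv.Perm.sign.comp f).ker)
  let φ : G →* alternatingGroup (Fin 5) := f.codRestrict _ hmem
  have hφ : Function.Injective φ := fun a b h => hf (congrArg Subtype.val h)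
  have hA : Nat.card (alternatingGroup (Fin 5)) = 60 := by
    rw [nat_card_alternatingGroup]
    simp [Nat.factorial]
  have hd : Nat.card G * φ.range.index = 60 := by
    rw [← hA, ← φ.range.index_mul_card, mul_comm,
      Nat.card_congr (MonoidHom.ofInjective hφ).toEquiv]
  have h5 : 5 ∣ Nat.card G := hH ▸ H.index_dvd_card
  have hrange : φ.range = ⊤ := by
    by_contra hr
    haveI : IsSimpleGroup (alternatingGroup (Fin 5)) := alternatingGroup.isSimpleGroup_five
    have hdvd := Invol.BrauerFowler.card_dvd_factorial_index hr
    rw [hA] at hdvd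
    have hcases : φ.range.index = 2 ∨ φ.range.index = 3 ∨ φ.range.index = 6 := by
      obtain ⟨a, ha⟩ := h5
      obtain ⟨b, hb⟩ := heven
      have h1 : φ.range.index ≠ 1 := fun h => hr (Subgroup.index_eq_one.mp h)
      have h2 : φ.range.index ∣ 6 := by
        have : 10 ∣ Nat.card G := by omega
        obtain ⟨c, hc⟩ := this
        exact ⟨c, by rw [hc] at hd; linarith⟩
      have := Nat.le_of_dvd (by norm_num) h2
      interval_cases h : φ.range.index <;> omega
    rcases hcases with h | h | h
    · rw [h] at hdvd; norm_num at hdvd
    · rw [h] at hdvd; norm_num [Nat.factorial] at hdvd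
    · rw [h] at hd
      haveI : Fact (Nat.Prime 5) := ⟨by norm_num⟩
      obtain ⟨y, hy⟩ := exists_prime_orderOf_dvd_card' (G := G) 5 h5
      have hi : (Subgroup.zpowers y).index = 2 := by
        have := (Subgroup.zpowers y).index_mul_card
        rw [Nat.card_zpowers, hy] at this
        omega
      haveI := Subgroup.normal_of_index_eq_two hi
      rcases Subgroup.Normal.eq_bot_or_eq_top (‹(Subgroup.zpowers y).Normal›) with hb | hb
      · rw [hb, Subgroup.index_bot] at hi
        omega
      · rw [hb, Subgroup.index_top] at hi
        omega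
  have hsurj : Function.Surjective φ := MonoidHom.range_eq_top.mp hrange
  let ψ : G ≃* alternatingGroup (Fin 5) := MulEquiv.ofBijective φ ⟨hφ, hsurj⟩
  rw [Nat.card_congr ψ.toEquiv, hA]
  have : Nat.card {t : G // orderOf t = 2} = 15 := by
    rw [← count_a5, ← Nat.card_eq_fintype_card]
    refine Nat.card_congr (ψ.toEquiv.subtypeEquiv fun t => ?_)
    show orderOf t = 2 ↔ ψ t * ψ t = 1 ∧ ψ t ≠ 1
    rw [← ψ.orderOf_eq t]
    exact ⟨fun h => ⟨Invol.mul_self_of_orderOf_two h, fun e => by rw [e, orderOf_one] at h; omega⟩,
      fun h => Invol.orderOf_two_of_mul_self h.1 h.2⟩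
  omega

/-- In a finite simple group G of even order greater than 2, the number n of involutions satisfies 3n < |G|. -/
theorem result {G : Type*} [Group G] [Finite G] [IsSimpleGroup G] (heven : Even (Nat.card G)) (hgt : 2 < Nat.card G) : 3 * Nat.card {t : G // orderOf t = 2} < Nat.card G := by
  by_contra hcon
  push Not at hcon
  have hZ : Subgroup.center G = ⊥ := by
    rcases Subgroup.Normal.eq_bot_or_eq_top (inferInstance : (Subgroup.center G).Normal) with h | h
    · exact h
    · exfalso
      letI : CommGroup G := { ‹Group G› with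
        mul_comm := fun a b => (Subgroup.mem_center_iff.mp (h ▸ Subgroup.mem_top a) b).symm }
      have hp : (Nat.card G).Prime := IsSimpleGroup.prime_card
      have := (Nat.prime_dvd_prime_iff_eq Nat.prime_two hp).mp (even_iff_two_dvd.mp heven)
      omega
  obtain ⟨H, hH, h⟩ := Invol.BrauerFowler.index_bound heven (by rw [hZ, Subgroup.card_bot]; exact odd_one)
  have hdvd := Invol.BrauerFowler.card_dvd_factorial_index hH
  set n := Nat.card {t : G // orderOf t = 2}
  set g := Nat.card G
  have hg4 : H.index ≤ 4 → False := by
    intro hle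
    have hg24 : g ∣ 24 := hdvd.trans (by
      have := Nat.factorial_dvd_factorial hle
      simpa [Nat.factorial] using this)
    interval_cases hi : H.index
    · exact Subgroup.index_ne_zero_of_finite hi
    · exact hH (Subgroup.index_eq_one.mp hi)
    · simp only [Nat.factorial] at hdvd
      have := Nat.le_of_dvd (by norm_num) hdvd
      omega
    · haveI : Fact (Nat.Prime 3) := ⟨Nat.prime_three⟩
      simp only [Nat.factorial] at hdvd
      norm_num at hdvd
      have h3 : 3 ∣ g := hi ▸ H.index_dvd_card
      have hg6 : g = 6 := by
        have := Nat.le_of_dvd (by norm_num) hdvd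
        obtain ⟨b, hb⟩ := heven
        omega
      obtain ⟨y, hy⟩ := exists_prime_orderOf_dvd_card' (G := G) 3 h3
      have hi2 : (Subgroup.zpowers y).index = 2 := by
        have := (Subgroup.zpowers y).index_mul_card
        rw [Nat.card_zpowers, hy, show Nat.card G = 6 from hg6] at this
        omega
      haveI := Subgroup.normal_of_index_eq_two hi2
      rcases Subgroup.Normal.eq_bot_or_eq_top (‹(Subgroup.zpowers y).Normal›) with hb | hb
      · rw [hb, Subgroup.index_bot, show Nat.card G = 6 from hg6] at hi2
        omega
      · rw [hb, Subgroup.index_top] at hi2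
        omega
    · have h4 : 4 ∣ g := hi ▸ H.index_dvd_card
      have hH' : (Nat.card H) ∣ 6 := by
        have e := H.index_mul_card
        rw [hi] at e
        obtain ⟨c, hc⟩ := hg24
        exact ⟨c, by change 4 * Nat.card H = g at e; rw [← e] at hc; linarith⟩
      have e := H.index_mul_card
      rw [hi] at e
      change 4 * Nat.card H = g at e
      by_cases h3 : 3 ∣ Nat.card H
      · -- order 12 or 24: the Sylow 2-subgroup has index 3
        haveI : Fact (Nat.Prime 2) := ⟨Nat.prime_two⟩
        obtain ⟨P⟩ : Nonempty (Sylow 2 G) := inferInstance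
        have hPi : (P : Subgroup G).index = 3 := by
          have h1 := (P : Subgroup G).index_mul_card
          have h2 : ¬ 2 ∣ (P : Subgroup G).index := P.not_dvd_index
          have h5 : (P : Subgroup G).index ∣ 24 := (Subgroup.index_dvd_card _).trans hg24
          have h6 : Nat.card (P : Subgroup G) ∣ 24 := (Subgroup.card_subgroup_dvd_card _).trans hg24
          obtain ⟨k, hk⟩ := IsPGroup.iff_card.mp P.isPGroup'
          have h7 : 3 ∣ (P : Subgroup G).index := by
            refine (Nat.Coprime.dvd_of_dvd_mul_right ?_ (by rw [h1]; show 3 ∣ g; rw [← e]; exact h3.mul_left 4))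
            rw [hk]
            exact (Nat.coprime_primes Nat.prime_three Nat.prime_two).mpr (by norm_num) |>.pow_right k
          have := Nat.le_of_dvd (by norm_num) h5
          interval_cases hP : (P : Subgroup G).index <;> omega
        have hne3 : (P : Subgroup G) ≠ ⊤ := fun h' => by rw [h', Subgroup.index_top] at hPi; omega
        have h8 := Invol.BrauerFowler.card_dvd_factorial_index hne3
        rw [hPi] at h8
        simp only [Nat.factorial] at h8
        norm_num at h8
        have := Nat.le_of_dvd (by norm_num) h8
        have := Nat.le_of_dvd Nat.card_pos h3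
        omega
      · -- order 4 or 8: a 2-group with trivial center
        have hg : g = 4 ∨ g = 8 := by
          have := Nat.le_of_dvd (by norm_num) hH'
          interval_cases hc : Nat.card H <;> omega
        haveI : Fact (Nat.Prime 2) := ⟨Nat.prime_two⟩
        haveI : Nontrivial G := IsSimpleGroup.toNontrivial
        have hp : IsPGroup 2 G := by
          rcases hg with hg | hg
          · exact IsPGroup.of_card (show Nat.card G = 2 ^ 2 by simpa using hg)
          · exact IsPGroup.of_card (show Nat.card G = 2 ^ 3 by simpa using hg)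
        have := hp.center_nontrivial
        rw [hZ] at this
        exact not_subsingleton _ (inferInstance : Subsingleton (⊥ : Subgroup G))
  have h5 : H.index ≠ 5 := fun h5 => absurd hcon (not_le.mpr (index_five heven hgt h5))
  rcases h with h | h
  · exact hg4 (by omega)
  · refine hg4 ?_
    by_contra hle
    have h6 : 6 ≤ H.index := by omega
    have hn0 : g * (g + n) ≤ 3 * n * (4 * n) := Nat.mul_le_mul hcon (by omega)
    have h1 : 2 * 6 * n ^ 2 ≤ 2 * H.index * n ^ 2 := Nat.mul_le_mul_right _ (Nat.mul_le_mul_left _ h6)
    nlinarith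

end Cfsg.Agent.S0234
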