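import Cfsg.Statements.S0236
import Cfsg.Agent.Lib.Invol.Basic
-- import your own Cfsg.Agent.* helpers here

set_option autoImplicit false
open Cfsg

namespace Cfsg.Agent.S0236

/-- If x is an involution, the number of ordered pairs (u, v) of involutions with uv = x, plus one, equals the number of involutions in the centralizer of x. -/
theorem result {G : Type*} [Group G] [Finite G] (x : G) (hx : orderOf x = 2) : Nat.card {p : G × G // orderOf p.1 = 2 ∧ orderOf p.2 = 2 ∧ p.1 * p.2 = x} + 1 = Nat.card {t : G // orderOf t = 2 ∧ Commute t x} := by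
  classical
  have hx2 := Invol.mul_self_of_orderOf_two hx
  have e : {p : G × G // orderOf p.1 = 2 ∧ orderOf p.2 = 2 ∧ p.1 * p.2 = x} ≃
      ↥({t : G | orderOf t = 2 ∧ Commute t x} \ {x}) :=
    { toFun := fun p => ⟨p.1.1, ⟨p.2.1, by
          obtain ⟨⟨u, v⟩, hu, hv, huv⟩ := p
          have := Invol.conj_mul_eq_inv (Invol.mul_self_of_orderOf_two hu)
            (Invol.mul_self_of_orderOf_two hv)
          rw [huv, Invol.inv_of_orderOf_two hx] at this
          exact mul_inv_eq_iff_eq_mul.1 this⟩, fun h => by
          obtain ⟨⟨u, v⟩, hu, hv, huv⟩ := p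
          simp only [Set.mem_singleton_iff] at h
          subst h
          exact Invol.ne_one_of_orderOf_two hv (mul_eq_left.1 huv)⟩
      invFun := fun t => ⟨(t.1, t.1 * x), t.2.1.1, Invol.orderOf_two_of_mul_self (by
          rw [mul_assoc, ← mul_assoc x, ← t.2.1.2.eq, mul_assoc t.1 x x, hx2, mul_one,
            Invol.mul_self_of_orderOf_two t.2.1.1]) (fun h => t.2.2 (by
          rw [Set.mem_singleton_iff, eq_inv_of_mul_eq_one_left h, Invol.inv_of_orderOf_two hx])), by
        show t.1 * (t.1 * x) = x
        rw [← mul_assoc, Invol.mul_self_of_orderOf_two t.2.1.1, one_mul]⟩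
      left_inv := fun p => Subtype.ext (Prod.ext rfl (by
        obtain ⟨⟨u, v⟩, hu, hv, huv⟩ := p
        show u * x = v
        have huv' : u * v = x := huv
        rw [← huv', ← mul_assoc, Invol.mul_self_of_orderOf_two hu, one_mul]))
      right_inv := fun t => rfl }
  rw [Nat.card_congr e, Nat.card_coe_set_eq,
    Set.ncard_diff_singleton_add_one (show x ∈ {t : G | orderOf t = 2 ∧ Commute t x} from
      ⟨hx, Commute.refl x⟩) (Set.toFinite _), ← Nat.card_coe_set_eq]
  rfl

end Cfsg.Agent.S0236
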