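import Cfsg.Statements.S0237
import Cfsg.Agent.Lib.Invol.Basic
-- import your own Cfsg.Agent.* helpers here

set_option autoImplicit false
open Cfsg

namespace Cfsg.Agent.S0237

/-- If x is real (conjugate to x⁻¹) in a finite group G, the number of g with g x g⁻¹ = x⁻¹ equals |C_G(x)|. -/
theorem result {G : Type*} [Group G] [Finite G] (x : G) (hreal : IsConj x x⁻¹) : Nat.card {g : G // g * x * g⁻¹ = x⁻¹} = Nat.card (Subgroup.centralizer ({x} : Set G)) := by
  obtain ⟨c, hc⟩ := isConj_iff.1 hreal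
  apply Nat.card_congr
  refine
    { toFun := fun g => ⟨c⁻¹ * g.1, ?_⟩
      invFun := fun k => ⟨c * k.1, ?_⟩
      left_inv := fun g => by simp
      right_inv := fun k => by simp }
  · rw [Subgroup.mem_centralizer_singleton_iff]
    have h1 : g.1 * x = x⁻¹ * g.1 := mul_inv_eq_iff_eq_mul.1 g.2
    have h2 : c⁻¹ * x⁻¹ = x * c⁻¹ := by rw [← hc]; group
    rw [mul_assoc, h1, ← mul_assoc, h2, mul_assoc]
  · have hk : k.1 * x * (k.1)⁻¹ = x :=
      mul_inv_eq_iff_eq_mul.2 (Subgroup.mem_centralizer_singleton_iff.1 k.2)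
    calc c * k.1 * x * (c * k.1)⁻¹ = c * (k.1 * x * (k.1)⁻¹) * c⁻¹ := by group
      _ = _ := by rw [hk, hc]

end Cfsg.Agent.S0237
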