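import Cfsg.Statements.S0238
import Cfsg.Agent.Lib.Invol.Basic
-- import your own Cfsg.Agent.* helpers here

set_option autoImplicit false
open Cfsg

namespace Cfsg.Agent.S0238

/-- For every x in a finite group G, the number c of ordered pairs (u, v) of involutions with uv = x is at most |C_G(x)|; c = 0 when x is not conjugate to x⁻¹; and c + 2 ≤ |C_G(x)| when x is an involution. -/
theorem result {G : Type*} [Group G] [Finite G] (x : G) : Nat.card {p : G × G // orderOf p.1 = 2 ∧ orderOf p.2 = 2 ∧ p.1 * p.2 = x} ≤ Nat.card (Subgroup.centralizer ({x} : Set G)) ∧ (¬ IsConj x x⁻¹ → Nat.card {p : G × G // orderOf p.1 = 2 ∧ orderOf p.2 = 2 ∧ p.1 * p.2 = x} = 0) ∧ (orderOf x = 2 → Nat.card {p : G × G // orderOf p.1 = 2 ∧ orderOf p.2 = 2 ∧ p.1 * p.2 = x} + 2 ≤ Nat.card (Subgroup.centralizer ({x} : Set G))) := by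
  classical
  let f : {p : G × G // orderOf p.1 = 2 ∧ orderOf p.2 = 2 ∧ p.1 * p.2 = x} → G := fun p => p.1.1
  have hinj : Function.Injective f := by
    rintro ⟨⟨u, v⟩, hu, hv, huv⟩ ⟨⟨u', v'⟩, hu', hv', huv'⟩ h
    have h' : u = u' := h
    subst h'
    have : v = v' := mul_left_cancel (huv.trans huv'.symm)
    subst this
    rfl
  have hf : ∀ p, f p * x * (f p)⁻¹ = x⁻¹ := by
    rintro ⟨⟨u, v⟩, hu, hv, rfl⟩
    exact Invol.conj_mul_eq_inv (Invol.mul_self_of_orderOf_two hu)
      (Invol.mul_self_of_orderOf_two hv)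
  -- the elements inverting `x` form at most one coset of its centralizer
  have hle : Nat.card {g : G // g * x * g⁻¹ = x⁻¹} ≤
      Nat.card (Subgroup.centralizer ({x} : Set G)) := by
    by_cases hne : Nonempty {g : G // g * x * g⁻¹ = x⁻¹}
    · obtain ⟨c, hc⟩ := hne
      refine Nat.card_le_card_of_injective (fun g => ⟨c⁻¹ * g.1, ?_⟩) ?_
      · rw [Subgroup.mem_centralizer_singleton_iff]
        have h1 : g.1 * x = x⁻¹ * g.1 := mul_inv_eq_iff_eq_mul.1 g.2
        have h2 : c⁻¹ * x⁻¹ = x * c⁻¹ := by rw [← hc]; group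
        rw [mul_assoc, h1, ← mul_assoc, h2, mul_assoc]
      · intro a b h
        exact Subtype.ext (mul_left_cancel (congrArg Subtype.val h))
    · haveI : IsEmpty {g : G // g * x * g⁻¹ = x⁻¹} := not_nonempty_iff.1 hne
      simp
  refine ⟨(Nat.card_le_card_of_injective (fun p => (⟨f p, hf p⟩ : {g : G // g * x * g⁻¹ = x⁻¹}))
    fun a b h => hinj (congrArg Subtype.val h)).trans hle, ?_, ?_⟩
  · intro hnr
    rw [Nat.card_eq_zero]
    exact Or.inl ⟨fun p => hnr (isConj_iff.2 ⟨_, hf p⟩)⟩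
  · intro hx
    have hxinv := Invol.inv_of_orderOf_two hx
    have hx1 := Invol.ne_one_of_orderOf_two hx
    refine le_trans ?_ hle
    let A : Set G := {g | g * x * g⁻¹ = x⁻¹}
    have hsub : Set.range f ⊆ A \ {1, x} := by
      rintro _ ⟨p, rfl⟩
      refine ⟨hf p, ?_⟩
      rintro (h | h)
      · exact Invol.ne_one_of_orderOf_two p.2.1 h
      · rw [Set.mem_singleton_iff] at h
        obtain ⟨⟨u, v⟩, hu, hv, huv⟩ := p
        have h' : u = x := h
        exact Invol.ne_one_of_orderOf_two hv (mul_eq_left.1 (huv.trans h'.symm))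
    have h12 : ({1, x} : Set G) ⊆ A := by
      rintro g (rfl | hg)
      · simp [A, hxinv]
      · rw [Set.mem_singleton_iff] at hg
        subst hg
        simp [A, hxinv, Invol.mul_self_of_orderOf_two hx]
    have h1 := Set.ncard_le_ncard hsub (Set.toFinite _)
    have h2 := Set.ncard_diff_add_ncard_of_subset h12 (Set.toFinite A)
    rw [Set.ncard_pair (Ne.symm hx1)] at h2
    rw [← Nat.card_coe_set_eq, Nat.card_range_of_injective hinj] at h1
    rw [show Nat.card {g : G // g * x * g⁻¹ = x⁻¹} = A.ncard from Nat.card_coe_set_eq A]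
    omega

end Cfsg.Agent.S0238
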