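import Cfsg.Statements.S0239
import Cfsg.Agent.Lib.Invol.Basic
-- import your own Cfsg.Agent.* helpers here

set_option autoImplicit false
open Cfsg

namespace Cfsg.Agent.S0239

/-- If some nontrivial element x of a finite group G is conjugate to x⁻¹, then |G| is even. -/
theorem result {G : Type*} [Group G] [Finite G] (x : G) (hx : x ≠ 1) (hreal : IsConj x x⁻¹) : Even (Nat.card G) := by
  obtain ⟨g, hg⟩ := isConj_iff.1 hreal
  by_contra hodd
  rw [Nat.not_even_iff_odd] at hodd
  have key : ∀ k : ℕ, g ^ (2 * k) * x * (g ^ (2 * k))⁻¹ = x := by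
    intro k
    induction k with
    | zero => simp
    | succ k ih =>
      have h2 : g * x⁻¹ * g⁻¹ = x := by rw [← conj_inv, hg, inv_inv]
      calc g ^ (2 * (k + 1)) * x * (g ^ (2 * (k + 1)))⁻¹
          = g * (g * (g ^ (2 * k) * x * (g ^ (2 * k))⁻¹) * g⁻¹) * g⁻¹ := by
            rw [show 2 * (k + 1) = 1 + (1 + 2 * k) by ring, pow_add, pow_add, pow_one]; group
        _ = x := by rw [ih, hg, h2]
  obtain ⟨m, hm⟩ := hodd.of_dvd_nat (orderOf_dvd_natCard g)
  have h3 := key (m + 1)
  rw [show 2 * (m + 1) = orderOf g + 1 by omega, pow_succ, pow_orderOf_eq_one, one_mul, hg] at h3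
  have hx2 : x * x = 1 := inv_eq_iff_mul_eq_one.1 h3
  exact (hodd.of_dvd_nat (orderOf_dvd_natCard x)).not_two_dvd_nat
    (Invol.orderOf_two_of_mul_self hx2 hx ▸ dvd_rfl)

end Cfsg.Agent.S0239
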