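import Cfsg.Statements.S0240
import Cfsg.Agent.Lib.Invol.Basic
-- import your own Cfsg.Agent.* helpers here

set_option autoImplicit false
open Cfsg

namespace Cfsg.Agent.S0240

/-- Let G be a finite group with n involutions and H a subgroup with |H|·(n+1) > |G|. Then some nontrivial h ∈ H is strongly real in G: an involution t of G satisfies t h t⁻¹ = h⁻¹. -/
theorem result {G : Type*} [Group G] [Finite G] (H : Subgroup G) (hH : Nat.card G < Nat.card H * (Nat.card {t : G // orderOf t = 2} + 1)) : ∃ h : G, h ∈ H ∧ h ≠ 1 ∧ ∃ t : G, orderOf t = 2 ∧ t * h * t⁻¹ = h⁻¹ := by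
  classical
  let A : Set G := {t : G | t * t = 1}
  have hA : A = insert 1 {t : G | orderOf t = 2} := by
    ext t
    simp only [A, Set.mem_setOf_eq, Set.mem_insert_iff]
    constructor
    · intro h
      by_cases h1 : t = 1
      · exact Or.inl h1
      · exact Or.inr (Invol.orderOf_two_of_mul_self h h1)
    · rintro (rfl | h)
      · exact one_mul 1
      · exact Invol.mul_self_of_orderOf_two h
  have hcard : Nat.card A = Nat.card {t : G // orderOf t = 2} + 1 := by
    rw [Nat.card_coe_set_eq, hA, Set.ncard_insert_of_notMem (by simp) (Set.toFinite _),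
      ← Nat.card_coe_set_eq]
    rfl
  have hlt : Nat.card (G ⧸ H) < Nat.card A := by
    rw [hcard]
    by_contra hle
    push_neg at hle
    have := Nat.mul_le_mul_left (Nat.card H) hle
    rw [mul_comm _ (Nat.card (G ⧸ H)), ← Subgroup.card_eq_card_quotient_mul_card_subgroup] at this
    omega
  have hni : ¬ Function.Injective (fun a : A => (QuotientGroup.mk a.1 : G ⧸ H)) :=
    fun h => absurd (Nat.card_le_card_of_injective _ h) (not_le.2 hlt)
  simp only [Function.Injective, not_forall] at hni
  obtain ⟨⟨u, hu⟩, ⟨v, hv⟩, heq, hne⟩ := hni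
  have hne' : u ≠ v := fun h => hne (Subtype.ext h)
  simp only [A, Set.mem_setOf_eq] at hu hv
  rw [QuotientGroup.eq, Invol.inv_eq_self_of_mul_self hu] at heq
  have huv : u * v ≠ 1 := fun h => hne' ((Invol.inv_eq_self_of_mul_self hu).symm.trans
    (inv_eq_of_mul_eq_one_right h))
  by_cases hu1 : u = 1
  · subst hu1
    rw [one_mul] at heq huv
    exact ⟨v, heq, huv, v, Invol.orderOf_two_of_mul_self hv huv, by
      rw [mul_inv_cancel_right, Invol.inv_eq_self_of_mul_self hv]⟩
  · exact ⟨u * v, heq, huv, u, Invol.orderOf_two_of_mul_self hu hu1,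
      Invol.conj_mul_eq_inv hu hv⟩

end Cfsg.Agent.S0240
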