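import Cfsg.Statements.S0241
import Cfsg.Agent.Lib.Invol.Basic
-- import your own Cfsg.Agent.* helpers here

set_option autoImplicit false
open Cfsg

namespace Cfsg.Agent.S0241

/-- If x ≠ 1 is conjugate to x⁻¹ in a finite group G and |C_G(x)| is odd, then some involution t satisfies t x t⁻¹ = x⁻¹. -/
theorem result {G : Type*} [Group G] [Finite G] (x : G) (hx : x ≠ 1) (hreal : IsConj x x⁻¹) (hodd : Odd (Nat.card (Subgroup.centralizer ({x} : Set G)))) : ∃ t : G, orderOf t = 2 ∧ t * x * t⁻¹ = x⁻¹ := by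
  obtain ⟨g, hg⟩ := isConj_iff.1 hreal
  have h2 : g * x⁻¹ * g⁻¹ = x := by rw [← conj_inv, hg, inv_inv]
  have hgg : g * g ∈ Subgroup.centralizer ({x} : Set G) := by
    rw [Subgroup.mem_centralizer_singleton_iff]
    calc g * g * x = g * (g * x * g⁻¹) * g⁻¹ * (g * g) := by group
      _ = x * (g * g) := by rw [hg, h2]
  obtain ⟨m, hm⟩ := hodd.of_dvd_nat (Subgroup.orderOf_dvd_natCard _ hgg)
  have hinv : g ^ (2 * m + 1) * x * (g ^ (2 * m + 1))⁻¹ = x⁻¹ := by
    have hc : (g * g) ^ m ∈ Subgroup.centralizer ({x} : Set G) := Subgroup.pow_mem _ hgg m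
    rw [Subgroup.mem_centralizer_singleton_iff, ← sq, ← pow_mul] at hc
    calc g ^ (2 * m + 1) * x * (g ^ (2 * m + 1))⁻¹
        = g * (g ^ (2 * m) * x * (g ^ (2 * m))⁻¹) * g⁻¹ := by rw [pow_succ']; group
      _ = x⁻¹ := by rw [hc, mul_inv_cancel_right, hg]
  refine ⟨g ^ (2 * m + 1), Invol.orderOf_two_of_mul_self ?_ ?_, hinv⟩
  · rw [← pow_add, ← two_mul, pow_mul, sq, ← hm, pow_orderOf_eq_one]
  · intro h
    rw [h, one_mul, inv_one, mul_one] at hinv
    have hx2 : x * x = 1 := eq_inv_iff_mul_eq_one.1 hinv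
    have hxC : x ∈ Subgroup.centralizer ({x} : Set G) :=
      Subgroup.mem_centralizer_singleton_iff.2 rfl
    exact (hodd.of_dvd_nat (Subgroup.orderOf_dvd_natCard _ hxC)).not_two_dvd_nat
      (Invol.orderOf_two_of_mul_self hx2 hx ▸ dvd_rfl)

end Cfsg.Agent.S0241
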