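import Cfsg.Statements.S0247
import Cfsg.Agent.Lib.Forms.SpOrder
import Mathlib


set_option autoImplicit false
open Cfsg

namespace Cfsg.Agent.S0247

open Subgroup

open Matrix

/-- Four vectors of even weight on six points forming a symplectic basis. -/
def iota : Matrix (Fin 6) (Fin 2 ⊕ Fin 2) (ZMod 2) :=
  Matrix.of fun i s => match s with
    | .inl k => if i = ![0, 3] k ∨ i = ![1, 4] k then 1 else 0
    | .inr k => if i = ![1, 4] k ∨ i = ![2, 5] k then 1 else 0

/-- The projection to the heart of the permutation module. -/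
def proj : Matrix (Fin 2 ⊕ Fin 2) (Fin 6) (ZMod 2) := Matrix.J (Fin 2) (ZMod 2) * iotaᵀ

def allOne : Fin 6 → ZMod 2 := fun _ => 1

def blockA : Fin 6 → ZMod 2 := ![1, 1, 1, 0, 0, 0]

def blockB : Fin 6 → ZMod 2 := ![0, 0, 0, 1, 1, 1]

theorem iota_proj : iota * proj = 1 + vecMulVec allOne blockA + vecMulVec blockB allOne := by
  decide +kernel

theorem projT_J_proj :
    projᵀ * Matrix.J (Fin 2) (ZMod 2) * proj = 1 + vecMulVec allOne blockA + vecMulVec blockB allOne := by
  decide +kernel

theorem iotaT_iota : iotaᵀ * iota = Matrix.J (Fin 2) (ZMod 2) := by decide +kernel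

theorem proj_iota : proj * iota = 1 := by decide +kernel

theorem proj_allOne : proj *ᵥ allOne = 0 := by decide +kernel

theorem allOne_iota : allOne ᵥ* iota = 0 := by decide +kernel

/-- Permutation matrices. -/
def P (σ : Equiv.Perm (Fin 6)) : Matrix (Fin 6) (Fin 6) (ZMod 2) :=
  Matrix.of fun i j => if i = σ j then 1 else 0

theorem P_mul (σ τ : Equiv.Perm (Fin 6)) : P (σ * τ) = P σ * P τ := by
  ext i j
  simp [P, Matrix.mul_apply] <;> congr

theorem P_one : P 1 = 1 := by
  ext i j
  simp [P, Matrix.one_apply] <;> congr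

theorem P_allOne (σ : Equiv.Perm (Fin 6)) : P σ *ᵥ allOne = allOne := by
  funext i
  simp [P, Matrix.mulVec, dotProduct, allOne, ← Equiv.symm_apply_eq]

theorem allOne_P (σ : Equiv.Perm (Fin 6)) : allOne ᵥ* P σ = allOne := by
  funext i
  simp [P, Matrix.vecMul, dotProduct, allOne]

theorem PT_P (σ : Equiv.Perm (Fin 6)) : (P σ)ᵀ * P σ = 1 := by
  ext i j
  simp [P, Matrix.mul_apply, Matrix.one_apply, eq_comm]

/-- The action on the heart. -/
def M (σ : Equiv.Perm (Fin 6)) : Matrix (Fin 2 ⊕ Fin 2) (Fin 2 ⊕ Fin 2) (ZMod 2) :=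
  proj * P σ * iota

theorem M_one : M 1 = 1 := by rw [M, P_one, Matrix.mul_one, proj_iota]

theorem M_mul (σ τ : Equiv.Perm (Fin 6)) : M (σ * τ) = M σ * M τ := by
  symm
  calc M σ * M τ = proj * P σ * (iota * proj) * (P τ * iota) := by
        simp only [M, Matrix.mul_assoc]
    _ = M (σ * τ) := by
      rw [iota_proj, Matrix.mul_add, Matrix.mul_add, Matrix.add_mul, Matrix.add_mul,
        Matrix.mul_one, Matrix.mul_vecMulVec, Matrix.mul_vecMulVec, Matrix.vecMulVec_mul,
        Matrix.vecMulVec_mul, ← Matrix.mulVec_mulVec, P_allOne, proj_allOne, ← Matrix.vecMul_vecMul allOne,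
        allOne_P, allOne_iota, Matrix.zero_vecMulVec, Matrix.vecMulVec_zero, add_zero, add_zero,
        M, P_mul]
      simp only [Matrix.mul_assoc]

theorem M_mem (σ : Equiv.Perm (Fin 6)) : M σ ∈ symplecticGroup (Fin 2) (ZMod 2) := by
  rw [SymplecticGroup.mem_iff']
  calc (M σ)ᵀ * Matrix.J (Fin 2) (ZMod 2) * M σ =
      iotaᵀ * (P σ)ᵀ * (projᵀ * Matrix.J (Fin 2) (ZMod 2) * proj) * (P σ * iota) := by
        simp only [M, Matrix.transpose_mul, Matrix.mul_assoc]
    _ = Matrix.J (Fin 2) (ZMod 2) := by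
      rw [projT_J_proj, Matrix.mul_add, Matrix.mul_add, Matrix.add_mul, Matrix.add_mul,
        Matrix.mul_one, Matrix.mul_vecMulVec, Matrix.mul_vecMulVec, Matrix.vecMulVec_mul,
        Matrix.vecMulVec_mul, ← Matrix.transpose_mul, Matrix.mulVec_transpose,
        ← Matrix.vecMul_vecMul allOne, allOne_P, allOne_iota,
        Matrix.zero_vecMulVec, Matrix.vecMulVec_zero, add_zero, add_zero, Matrix.transpose_mul,
        Matrix.mul_assoc iotaᵀ, ← Matrix.mul_assoc (P σ)ᵀ, PT_P, Matrix.one_mul, iotaT_iota]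

theorem pair_eq : ∀ a b x y : Fin 6, a ≠ b → x ≠ y → ∀ t : ZMod 2,
    (∀ i : Fin 6, ((if i = x then 1 else 0) + if i = y then 1 else 0 : ZMod 2) =
      (if i = a then 1 else 0) + (if i = b then 1 else 0) + t) →
    (x = a ∧ y = b) ∨ (x = b ∧ y = a) := by decide +kernel

theorem M_injective (σ : Equiv.Perm (Fin 6)) (h : M σ = 1) : σ = 1 := by
  have h1 : iota * M σ = P σ * iota + vecMulVec allOne (blockA ᵥ* (P σ * iota)) := by
    calc iota * M σ = iota * proj * (P σ * iota) := by simp only [M, Matrix.mul_assoc]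
      _ = _ := by
        rw [iota_proj, Matrix.add_mul, Matrix.add_mul, Matrix.one_mul, Matrix.vecMulVec_mul,
          Matrix.vecMulVec_mul, ← Matrix.vecMul_vecMul allOne, allOne_P, allOne_iota]
        ext i j; simp [Matrix.vecMulVec_apply]
  rw [h, Matrix.mul_one] at h1
  have key : ∀ (s : Fin 2 ⊕ Fin 2) (a b : Fin 6), a ≠ b →
      (∀ i, iota i s = (if i = a then 1 else 0) + if i = b then 1 else 0) →
      (σ a = a ∧ σ b = b) ∨ (σ a = b ∧ σ b = a) := by
    intro s a b hab hs
    refine pair_eq a b (σ a) (σ b) hab (σ.injective.ne hab) ((blockA ᵥ* (P σ * iota)) s) fun i => ?_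
    have h2 := congrFun (congrFun h1 i) s
    rw [Matrix.add_apply, Matrix.mul_apply, Matrix.vecMulVec_apply, allOne, one_mul] at h2
    generalize (blockA ᵥ* (P σ * iota)) s = c at h2 ⊢
    simp only [hs, mul_add, Finset.sum_add_distrib, mul_ite, mul_one, mul_zero, Finset.sum_ite_eq',
      Finset.mem_univ, if_true, P, Matrix.of_apply] at h2
    rw [h2, add_assoc, CharTwo.add_self_eq_zero, add_zero]
  have k0 := key (.inl 0) 0 1 (by decide) (by decide +kernel)
  have k1 := key (.inr 0) 1 2 (by decide) (by decide +kernel)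
  have k2 := key (.inl 1) 3 4 (by decide) (by decide +kernel)
  have k3 := key (.inr 1) 4 5 (by decide) (by decide +kernel)
  refine Equiv.ext fun i => ?_
  show σ i = i
  fin_cases i <;> grind

/-- Sp_4(2) is isomorphic to the symmetric group S_6. -/
theorem result {F : Type*} [Field F] [Fintype F] (hF : Fintype.card F = 2) : Nonempty (Matrix.symplecticGroup (Fin 2) F ≃* Equiv.Perm (Fin 6)) := by
  classical
  haveI : Fact (Nat.Prime 2) := ⟨Nat.prime_two⟩
  let e := (ZMod.ringEquivOfPrime F Nat.prime_two hF)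
  let φ : Equiv.Perm (Fin 6) →* Matrix.symplecticGroup (Fin 2) F :=
    { toFun := fun σ => ⟨(M σ).map e, SymplecticGroup.map_mem (M_mem σ) e⟩
      map_one' := Subtype.ext (by
        show (M 1).map e = 1
        rw [M_one, Matrix.map_one e (map_zero e) (map_one e)])
      map_mul' := fun σ τ => Subtype.ext (by
        show (M (σ * τ)).map e = (M σ).map e * (M τ).map e
        rw [M_mul, Matrix.map_mul]) }
  have hinj : Function.Injective φ := by
    refine (injective_iff_map_eq_one φ).2 fun σ hσ => M_injective σ ?_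
    refine Matrix.map_injective e.injective ?_
    show (M σ).map e = (1 : Matrix _ _ (ZMod 2)).map e
    rw [Matrix.map_one e (map_zero e) (map_one e)]
    exact congrArg Subtype.val hσ
  refine ⟨(MulEquiv.ofBijective φ ((Nat.bijective_iff_injective_and_card φ).2 ⟨hinj, ?_⟩)).symm⟩
  rw [FormsLib.card_symplecticGroup, hF, Nat.card_perm, Nat.card_fin]
  decide

end Cfsg.Agent.S0247
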