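import Cfsg.Statements.S0250
import Cfsg.Agent.Lib.LinearGroups.Basic
import Cfsg.Agent.Lib.SmallSimple.Basic


set_option autoImplicit false
open Cfsg

namespace Cfsg.Agent.S0250

/-- SL_2(2) is isomorphic to S_3. -/
theorem result {F : Type*} [Field F] [Fintype F] (hF : Fintype.card F = 2) : Nonempty (Matrix.SpecialLinearGroup (Fin 2) F ≃* Equiv.Perm (Fin 3)) := by
  have hc : Nat.card (Subgroup.center (Matrix.SpecialLinearGroup (Fin 2) F)) = 1 := by
    rw [LinGrp.natCard_center_SL, Nat.card_eq_fintype_card, hF]; rfl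
  have hs : Nat.card (Matrix.SpecialLinearGroup (Fin 2) F) = 6 := by
    have h := LinGrp.natCard_SL_mul (F := F) 2 (by norm_num)
    rw [hF] at h
    simpa [Fin.prod_univ_two] using h
  have hP : Nat.card (Projectivization F (Fin 2 → F)) = 3 := by
    rw [Projectivization.card_of_finrank_two F (Fin 2 → F) (by simp), Nat.card_eq_fintype_card, hF]
  let f := MulAction.toPermHom (Matrix.SpecialLinearGroup (Fin 2) F) (Projectivization F (Fin 2 → F))
  have hinj : Function.Injective f := by
    rw [← MonoidHom.ker_eq_bot_iff, Projectivization.SL_mulAction_ker, ← Subgroup.card_eq_one]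
    exact hc
  have hbij : Function.Bijective f := by
    refine (Nat.bijective_iff_injective_and_card f).2 ⟨hinj, ?_⟩
    rw [hs, Nat.card_perm, hP]; rfl
  let e : Projectivization F (Fin 2 → F) ≃ Fin 3 := Classical.choice (Finite.card_eq.1 (by rw [hP, Nat.card_fin]))
  exact ⟨(MulEquiv.ofBijective f hbij).trans e.permCongrHom⟩

end Cfsg.Agent.S0250
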