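import Cfsg.Statements.S0252
import Cfsg.Agent.Lib.LinearGroups.Basic
import Cfsg.Agent.Lib.SmallSimple.Alternating


set_option autoImplicit false
open Cfsg

namespace Cfsg.Agent.S0252

/-- PSL_2(4) is isomorphic to A_5. -/
theorem result {F : Type*} [Field F] [Fintype F] (hF : Fintype.card F = 4) : Nonempty (Matrix.ProjectiveSpecialLinearGroup (Fin 2) F ≃* alternatingGroup (Fin 5)) := by
  have hs : Nat.card (Matrix.SpecialLinearGroup (Fin 2) F) = 60 := by
    have h := LinGrp.natCard_SL_mul (F := F) 2 (by norm_num)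
    rw [hF] at h
    simp [Fin.prod_univ_two] at h
    omega
  have hp : Nat.card (Matrix.ProjectiveSpecialLinearGroup (Fin 2) F) = 60 := by
    have h := LinGrp.natCard_PSL_mul (n := Fin 2) (F := F)
    rw [hs, Nat.card_eq_fintype_card (α := F), hF, Fintype.card_fin, show Nat.gcd 2 (4 - 1) = 1 by rfl] at h
    omega
  exact SmallSimple.mulEquiv_alternating_of_injective (by norm_num)
    (by rw [Projectivization.card_of_finrank_two F (Fin 2 → F) (by simp), Nat.card_eq_fintype_card, hF])
    _ (Matrix.ProjectiveSpecialLinearGroup.toPermHom_injective) (by rw [hp]; rfl)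

end Cfsg.Agent.S0252
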