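import Cfsg.Statements.S0255
import Cfsg.Agent.Lib.SmallSimple.RecognizePrime
import Cfsg.Agent.Lib.LinearGroups.PSL
import Cfsg.Agent.S1003
import Mathlib


set_option autoImplicit false
open Cfsg

namespace Cfsg.Agent.S0255

open Subgroup

set_option maxRecDepth 8000
set_option synthInstance.maxSize 2000
set_option synthInstance.maxHeartbeats 200000

theorem check : RecognizePSL.Cover (ZMod 7) 2 3 3 ∧
    RecognizePSL.Check (ZMod 7) 2 3 3 (fun k => k != 1) := by
  unfold RecognizePSL.Cover RecognizePSL.Check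
  decide +kernel

theorem mulEquiv_PSL_seven {G : Type*} [Group G] [Finite G] [IsSimpleGroup G]
    (h : Nat.card G = 168) (h7 : Nat.card (Sylow 7 G) = 8) (h3 : Nat.card (Sylow 3 G) = 28)
    {F : Type*} [Field F] [Fintype F] (hF : Fintype.card F = 7) :
    Nonempty (G ≃* Matrix.ProjectiveSpecialLinearGroup (Fin 2) F) := by
  haveI : Fact (Nat.Prime 7) := ⟨by norm_num⟩
  haveI : Fact (Nat.Prime 3) := ⟨by norm_num⟩
  have hnc : ¬ IsMulCommutative G := SmallSimple.not_isMulCommutative (by rw [h]; norm_num)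
  refine RecognizePSL.mulEquiv_PSL_prime hnc h7 (m := 3) rfl (by rw [h]) (2 : ZMod 7) 3
    (fun k => k != 1) check.1 check.2 ?_ hF
  intro P R hne x w k hxP hxR hx hw hwP hwR
  rw [bne_iff_ne]
  intro hk
  -- otherwise `w` centralises a self-centralising subgroup of order three
  have hxk : x ^ k = x := by
    conv_rhs => rw [← pow_one x]
    rw [← pow_mod_orderOf, hx, hk]
  rw [hxk] at hw
  obtain ⟨S, hS⟩ := (IsPGroup.of_card (p := 3) (n := 1) (G := zpowers x)
    (by rw [Nat.card_zpowers, hx, pow_one])).exists_le_sylow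
  have hSc : Nat.card S = 3 := by
    rw [SmallSimple.card_sylow_of_eq (k := 1) (m := 56) S (by rw [h]; norm_num) (by norm_num), pow_one]
  obtain ⟨e, he, he1, hec⟩ := SmallSimple.sylow_relIndex hnc S hSc
  have hN := SmallSimple.card_sylow_mul S
  rw [h3, h] at hN
  have he2 : e = 2 := ((Nat.dvd_prime Nat.prime_two).1 he).resolve_left he1
  have hC : Nat.card (centralizer ((S : Subgroup G) : Set G)) = 3 := by
    rw [he2] at hec
    omega
  have hxS : x ∈ (S : Subgroup G) := hS (mem_zpowers x)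
  have hx1 : x ≠ 1 := fun h1 => by rw [h1, orderOf_one] at hx; norm_num at hx
  have hSz := SmallSimple.zpowers_eq_of_prime hSc hxS hx1
  have hwC : w ∈ centralizer ((S : Subgroup G) : Set G) := by
    refine mem_centralizer_iff.2 fun y hy => ?_
    rw [← hSz] at hy
    obtain ⟨i, rfl⟩ := hy
    have hc : Commute w x := mul_inv_eq_iff_eq_mul.1 hw
    exact (hc.zpow_right i).eq.symm
  have hCS : (S : Subgroup G) = centralizer ((S : Subgroup G) : Set G) := by
    refine eq_of_le_of_card_ge (fun a ha => mem_centralizer_iff.2 fun b hb => ?_) (by rw [hC, hSc])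
    rw [← hSz] at ha
    obtain ⟨i, rfl⟩ := ha
    obtain ⟨j, rfl⟩ : b ∈ zpowers x := hSz.symm ▸ hb
    exact ((Commute.refl x).zpow_zpow j i).eq
  rw [← hCS, ← hSz] at hwC
  obtain ⟨i, rfl⟩ := hwC
  exact hne ((zpow_mem (show x ∈ MulAction.stabilizer G P from hxP) i :).symm.trans hwP)


/-- PSL_2(7) is isomorphic to PSL_3(2). -/
theorem result {F K : Type*} [Field F] [Fintype F] [Field K] [Fintype K] (hF : Fintype.card F = 7) (hK : Fintype.card K = 2) : Nonempty (Matrix.ProjectiveSpecialLinearGroup (Fin 2) F ≃* Matrix.ProjectiveSpecialLinearGroup (Fin 3) K) := by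
  have hcard : Nat.card (Matrix.ProjectiveSpecialLinearGroup (Fin 3) K) = 168 := by
    have h1 := LinGrp.natCard_PSL_mul (n := Fin 3) (F := K)
    have h2 := LinGrp.natCard_SL_mul (F := K) 3 (by omega)
    rw [hK, Fin.prod_univ_three] at h2
    rw [Fintype.card_fin, Nat.card_eq_fintype_card (α := K), hK] at h1
    norm_num at h1 h2
    omega
  haveI : IsSimpleGroup (Matrix.ProjectiveSpecialLinearGroup (Fin 3) K) :=
    LinGrp.isSimpleGroup_PSL (F := K) (n := Fin 3) (by simp)
  obtain ⟨-, h3, h7⟩ := Cfsg.Agent.S1003.result hcard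
  obtain ⟨e⟩ := mulEquiv_PSL_seven hcard h7 h3 hF
  exact ⟨e.symm⟩

end Cfsg.Agent.S0255
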