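import Cfsg.Statements.S0256
import Cfsg.Agent.Lib.LinearGroups.Basic
import Cfsg.Agent.Lib.LinearGroups.PSL
import Mathlib


set_option autoImplicit false
set_option maxHeartbeats 400000
open Cfsg

namespace Cfsg.Agent.S0256

open Subgroup

open Matrix

/-- Six weight-four vectors giving Plücker coordinates on the heart of the permutation module. -/
def iota : Matrix (Fin 8) (Fin 6) (ZMod 2) := !![1, 1, 1, 1, 1, 1; 1, 1, 0, 0, 0, 0; 1, 0, 1, 1, 0, 0; 1, 0, 0, 0, 1, 0; 0, 1, 1, 1, 1, 0; 0, 1, 0, 0, 1, 1; 0, 0, 1, 0, 0, 1; 0, 0, 0, 1, 0, 1]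

/-- The Gram matrix. -/
def gram : Matrix (Fin 6) (Fin 6) (ZMod 2) := Matrix.of fun i j => if (i : ℕ) + j = 5 then 1 else 0

/-- The projection to the heart. -/
def proj : Matrix (Fin 6) (Fin 8) (ZMod 2) := gram * iotaᵀ

def allOne : Fin 8 → ZMod 2 := fun _ => 1

def vecA : Fin 8 → ZMod 2 := ![1, 0, 1, 0, 0, 1, 0, 0]

def vecB : Fin 8 → ZMod 2 := ![0, 1, 0, 1, 1, 0, 1, 1]

theorem iota_proj : iota * proj = 1 + vecMulVec allOne vecA + vecMulVec vecB allOne := by
  decide +kernel

theorem proj_iota : proj * iota = 1 := by decide +kernel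

theorem proj_allOne : proj *ᵥ allOne = 0 := by decide +kernel

theorem allOne_iota : allOne ᵥ* iota = 0 := by decide +kernel

/-- Permutation matrices. -/
def P (σ : Equiv.Perm (Fin 8)) : Matrix (Fin 8) (Fin 8) (ZMod 2) :=
  Matrix.of fun i j => if i = σ j then 1 else 0

theorem P_mul (σ τ : Equiv.Perm (Fin 8)) : P (σ * τ) = P σ * P τ := by
  ext i j
  simp [P, Matrix.mul_apply] <;> congr

theorem P_one : P 1 = 1 := by
  ext i j
  simp [P, Matrix.one_apply] <;> congr

theorem P_allOne (σ : Equiv.Perm (Fin 8)) : P σ *ᵥ allOne = allOne := by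
  funext i
  simp [P, Matrix.mulVec, dotProduct, allOne, ← Equiv.symm_apply_eq]

theorem allOne_P (σ : Equiv.Perm (Fin 8)) : allOne ᵥ* P σ = allOne := by
  funext i
  simp [P, Matrix.vecMul, dotProduct, allOne]

/-- The action on the heart. -/
def M (σ : Equiv.Perm (Fin 8)) : Matrix (Fin 6) (Fin 6) (ZMod 2) :=
  proj * P σ * iota

theorem M_one : M 1 = 1 := by rw [M, P_one, Matrix.mul_one, proj_iota]

theorem M_mul (σ τ : Equiv.Perm (Fin 8)) : M (σ * τ) = M σ * M τ := by
  symm
  calc M σ * M τ = proj * P σ * (iota * proj) * (P τ * iota) := by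
        simp only [M, Matrix.mul_assoc]
    _ = M (σ * τ) := by
      rw [iota_proj, Matrix.mul_add, Matrix.mul_add, Matrix.add_mul, Matrix.add_mul,
        Matrix.mul_one, Matrix.mul_vecMulVec, Matrix.mul_vecMulVec, Matrix.vecMulVec_mul,
        Matrix.vecMulVec_mul, ← Matrix.mulVec_mulVec, P_allOne, proj_allOne, ← Matrix.vecMul_vecMul allOne,
        allOne_P, allOne_iota, Matrix.zero_vecMulVec, Matrix.vecMulVec_zero, add_zero, add_zero,
        M, P_mul]
      simp only [Matrix.mul_assoc]

def pFst : Fin 6 → Fin 4 := ![0, 0, 0, 1, 1, 2]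

def pSnd : Fin 6 → Fin 4 := ![1, 2, 3, 2, 3, 3]

variable {R : Type*} [CommRing R]

/-- A two by two minor. -/
def minor (A : Matrix (Fin 4) (Fin 4) R) (a b c d : Fin 4) : R := A a c * A b d - A a d * A b c

/-- The second compound matrix. -/
def compound (A : Matrix (Fin 4) (Fin 4) R) : Matrix (Fin 6) (Fin 6) R :=
  Matrix.of fun i k => minor A (pFst i) (pSnd i) (pFst k) (pSnd k)

theorem compound_mul (A B : Matrix (Fin 4) (Fin 4) R) :
    compound (A * B) = compound A * compound B := by
  have key : ∀ a b c d, minor (A * B) a b c d =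
      ∑ l : Fin 6, minor A a b (pFst l) (pSnd l) * minor B (pFst l) (pSnd l) c d := by
    intro a b c d
    simp [minor, Matrix.mul_apply, Fin.sum_univ_six, Fin.sum_univ_four, pFst, pSnd]
    ring
  ext i k
  simp only [compound, Matrix.of_apply, key, Matrix.mul_apply]

theorem compound_one : compound (1 : Matrix (Fin 4) (Fin 4) (ZMod 2)) = 1 := by decide +kernel

/-- Second exterior power of `SL_4(2)`. -/
def ext2 : Matrix.SpecialLinearGroup (Fin 4) (ZMod 2) →* Matrix (Fin 6) (Fin 6) (ZMod 2) where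
  toFun A := compound A.1
  map_one' := compound_one
  map_mul' A B := compound_mul A.1 B.1

/-- The heart representation of the alternating group. -/
def heart : alternatingGroup (Fin 8) →* Matrix (Fin 6) (Fin 6) (ZMod 2) where
  toFun σ := M σ.1
  map_one' := M_one
  map_mul' σ τ := M_mul σ.1 τ.1

theorem gen {i j : Fin 4} {h : i ≠ j} (σ : Equiv.Perm (Fin 8)) (hs : Equiv.Perm.sign σ = 1)
    (he : M σ = compound (1 + Matrix.single i j 1)) :
    ext2.toHomUnits (Matrix.SpecialLinearGroup.transvection h (1 : ZMod 2)) ∈ heart.toHomUnits.range := by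
  refine ⟨⟨σ, hs⟩, Units.ext ?_⟩
  show M σ = compound (Matrix.SpecialLinearGroup.transvection h (1 : ZMod 2)).1
  rw [he, Matrix.SpecialLinearGroup.transvection_coe]

theorem range_le : ext2.toHomUnits.range ≤ heart.toHomUnits.range := by
  rw [MonoidHom.range_eq_map, ← LinGrp.closure_transvectionSet, MonoidHom.map_closure,
    Subgroup.closure_le]
  rintro _ ⟨_, ⟨i, j, hij, a, rfl⟩, rfl⟩
  have ha : a = 0 ∨ a = 1 := by revert a; decide
  rcases ha with rfl | rfl
  · have : Matrix.SpecialLinearGroup.transvection hij (0 : ZMod 2) = 1 := by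
      apply Matrix.SpecialLinearGroup.ext
      intro x y
      simp [Matrix.SpecialLinearGroup.transvection_coe, Matrix.SpecialLinearGroup.coe_one]
    rw [this, map_one]
    exact one_mem _
  fin_cases i <;> fin_cases j
  all_goals first | exact absurd rfl hij | skip
  · exact gen (Equiv.swap 0 4 * Equiv.swap 1 5 * Equiv.swap 2 6 * Equiv.swap 3 7) (by decide +kernel) (by decide +kernel)
  · exact gen (Equiv.swap 0 2 * Equiv.swap 1 3 * Equiv.swap 4 6 * Equiv.swap 5 7) (by decide +kernel) (by decide +kernel)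
  · exact gen (Equiv.swap 0 1 * Equiv.swap 2 3 * Equiv.swap 4 5 * Equiv.swap 6 7) (by decide +kernel) (by decide +kernel)
  · exact gen (Equiv.swap 0 4 * Equiv.swap 1 6 * Equiv.swap 2 7 * Equiv.swap 3 5) (by decide +kernel) (by decide +kernel)
  · exact gen (Equiv.swap 0 3 * Equiv.swap 1 2 * Equiv.swap 4 5 * Equiv.swap 6 7) (by decide +kernel) (by decide +kernel)
  · exact gen (Equiv.swap 0 2 * Equiv.swap 1 3 * Equiv.swap 4 7 * Equiv.swap 5 6) (by decide +kernel) (by decide +kernel)
  · exact gen (Equiv.swap 0 7 * Equiv.swap 1 3 * Equiv.swap 2 4 * Equiv.swap 5 6) (by decide +kernel) (by decide +kernel)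
  · exact gen (Equiv.swap 0 5 * Equiv.swap 1 4 * Equiv.swap 2 3 * Equiv.swap 6 7) (by decide +kernel) (by decide +kernel)
  · exact gen (Equiv.swap 0 4 * Equiv.swap 1 5 * Equiv.swap 2 7 * Equiv.swap 3 6) (by decide +kernel) (by decide +kernel)
  · exact gen (Equiv.swap 0 5 * Equiv.swap 1 2 * Equiv.swap 3 4 * Equiv.swap 6 7) (by decide +kernel) (by decide +kernel)
  · exact gen (Equiv.swap 0 6 * Equiv.swap 1 3 * Equiv.swap 2 4 * Equiv.swap 5 7) (by decide +kernel) (by decide +kernel)
  · exact gen (Equiv.swap 0 4 * Equiv.swap 1 7 * Equiv.swap 2 6 * Equiv.swap 3 5) (by decide +kernel) (by decide +kernel)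

theorem compound_transvection_ne :
    compound (1 + Matrix.single 0 1 1 : Matrix (Fin 4) (Fin 4) (ZMod 2)) ≠ 1 := by decide +kernel

theorem M_three_ne : M (Equiv.swap 0 1 * Equiv.swap 1 2) ≠ 1 := by decide +kernel

theorem three_even :
    Equiv.Perm.sign (Equiv.swap (0 : Fin 8) 1 * Equiv.swap 1 2) = 1 := by decide +kernel

/-- PSL_4(2) is isomorphic to A_8. -/
theorem result {F : Type*} [Field F] [Fintype F] (hF : Fintype.card F = 2) : Nonempty (Matrix.ProjectiveSpecialLinearGroup (Fin 4) F ≃* alternatingGroup (Fin 8)) := by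
  let e := (ZMod.ringEquivOfPrime F Nat.prime_two hF)
  haveI : Fact (Nat.Prime 2) := ⟨Nat.prime_two⟩
  have hcard : Nat.card (Matrix.SpecialLinearGroup (Fin 4) (ZMod 2)) = 20160 := by
    have h := LinGrp.natCard_SL_mul (F := ZMod 2) 4 (by norm_num)
    rw [ZMod.card, Fin.prod_univ_four] at h
    norm_num [-Nat.card_eq_fintype_card] at h
    exact h
  have hcen : Subgroup.center (Matrix.SpecialLinearGroup (Fin 4) F) = ⊥ := by
    rw [← Subgroup.card_eq_one, LinGrp.natCard_center_SL, Nat.card_eq_fintype_card, hF, Fintype.card_fin]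
    decide
  let q : Matrix.ProjectiveSpecialLinearGroup (Fin 4) F ≃* Matrix.SpecialLinearGroup (Fin 4) F :=
    (QuotientGroup.quotientMulEquivOfEq hcen).trans QuotientGroup.quotientBot
  let f : Matrix.SpecialLinearGroup (Fin 4) F ≃* Matrix.SpecialLinearGroup (Fin 4) (ZMod 2) :=
    { Matrix.SpecialLinearGroup.map e.symm.toRingHom with
      invFun := Matrix.SpecialLinearGroup.map e.toRingHom
      left_inv := fun A => Matrix.SpecialLinearGroup.ext _ _ fun i j => e.apply_symm_apply _
      right_inv := fun A => Matrix.SpecialLinearGroup.ext _ _ fun i j => e.symm_apply_apply _ }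
  haveI : IsSimpleGroup (Matrix.ProjectiveSpecialLinearGroup (Fin 4) F) :=
    LinGrp.isSimpleGroup_PSL (by simp)
  haveI : IsSimpleGroup (Matrix.SpecialLinearGroup (Fin 4) (ZMod 2)) := (q.trans f).isSimpleGroup_congr.1 ‹_›
  haveI : IsSimpleGroup (alternatingGroup (Fin 8)) := alternatingGroup.isSimpleGroup (by simp)
  have h1 : Function.Injective ext2.toHomUnits := by
    rw [← MonoidHom.ker_eq_bot_iff]
    refine ((MonoidHom.normal_ker _).eq_bot_or_eq_top).resolve_right fun h => ?_
    have hm : Matrix.SpecialLinearGroup.transvection (show (0 : Fin 4) ≠ 1 by decide) (1 : ZMod 2) ∈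
      ext2.toHomUnits.ker := h ▸ Subgroup.mem_top _
    have h' : compound (Matrix.SpecialLinearGroup.transvection (show (0 : Fin 4) ≠ 1 by decide) (1 : ZMod 2)).1 = 1 :=
      congrArg Units.val hm
    rw [Matrix.SpecialLinearGroup.transvection_coe] at h'
    exact compound_transvection_ne h'
  have h2 : Function.Injective heart.toHomUnits := by
    rw [← MonoidHom.ker_eq_bot_iff]
    refine ((MonoidHom.normal_ker _).eq_bot_or_eq_top).resolve_right fun h => ?_
    have hm : (⟨Equiv.swap 0 1 * Equiv.swap 1 2, Equiv.Perm.mem_alternatingGroup.2 three_even⟩ : alternatingGroup (Fin 8)) ∈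
      heart.toHomUnits.ker := h ▸ Subgroup.mem_top _
    have h' : M (Equiv.swap 0 1 * Equiv.swap 1 2) = 1 := congrArg Units.val hm
    exact M_three_ne h'
  have heq : ext2.toHomUnits.range = heart.toHomUnits.range := by
    refine Subgroup.eq_of_le_of_card_ge range_le ?_
    rw [Nat.card_congr (MonoidHom.ofInjective h2).toEquiv.symm,
      Nat.card_congr (MonoidHom.ofInjective h1).toEquiv.symm, hcard, nat_card_alternatingGroup,
      Nat.card_fin]
    decide
  exact ⟨(q.trans f).trans ((MonoidHom.ofInjective h1).trans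
    ((MulEquiv.subgroupCongr heq).trans (MonoidHom.ofInjective h2).symm))⟩

end Cfsg.Agent.S0256
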