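import Cfsg.Statements.S0257
import Cfsg.Agent.Lib.LinearGroups.GL2
import Mathlib


set_option autoImplicit false
open Cfsg

namespace Cfsg.Agent.S0257

noncomputable section

local notation "S3" => Matrix.SpecialLinearGroup (Fin 2) (ZMod 3)

def qI : S3 := ⟨!![0, -1; 1, 0], by decide +kernel⟩

def qJ : S3 := ⟨!![1, 1; 1, -1], by decide +kernel⟩

def qMap : QuaternionGroup 2 → S3
  | QuaternionGroup.a k => qI ^ k.val
  | QuaternionGroup.xa k => qJ * qI ^ k.val

theorem qMap_mul (x y : QuaternionGroup 2) : qMap (x * y) = qMap x * qMap y := by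
  revert x y; decide +kernel

theorem qMap_injective : Function.Injective qMap := by
  intro x y; revert x y; decide +kernel

theorem qMap_normal (a : ZMod 3) (x : QuaternionGroup 2) :
    (∃ y, LinGrp.uSL a * qMap x = qMap y * LinGrp.uSL a) ∧
      (∃ y, LinGrp.lSL a * qMap x = qMap y * LinGrp.lSL a) := by
  revert a x; decide +kernel

theorem exists_quaternion_hom {F : Type*} [Field F] [Fintype F] (hF : Fintype.card F = 3) :
    ∃ f : QuaternionGroup 2 →* Matrix.SpecialLinearGroup (Fin 2) F,
      Function.Injective f ∧ f.range.Normal := by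
  haveI : Fact (Nat.Prime 3) := ⟨Nat.prime_three⟩
  let e : F ≃+* ZMod 3 := (ZMod.ringEquivOfPrime F Nat.prime_three hF).symm
  let E : Matrix.SpecialLinearGroup (Fin 2) F →* S3 :=
    Matrix.SpecialLinearGroup.map e.toRingHom
  have hEinj : Function.Injective E := fun A B h => Subtype.ext (Matrix.ext fun i j =>
    e.injective (congrArg (fun M : S3 => M.1 i j) h))
  let E' : S3 →* Matrix.SpecialLinearGroup (Fin 2) F :=
    Matrix.SpecialLinearGroup.map e.symm.toRingHom
  have hE' : ∀ A, E (E' A) = A := fun A => Subtype.ext (Matrix.ext fun i j =>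
    e.apply_symm_apply (A.1 i j))
  let f : QuaternionGroup 2 →* Matrix.SpecialLinearGroup (Fin 2) F :=
    E'.comp (MonoidHom.mk' qMap qMap_mul)
  have hf : ∀ x, E (f x) = qMap x := fun x => hE' _
  refine ⟨f, fun x y h => qMap_injective (by rw [← hf, ← hf, h]), ⟨fun n hn g => ?_⟩⟩
  haveI : Finite f.range := inferInstance
  suffices h : g ∈ Subgroup.normalizer (f.range : Set (Matrix.SpecialLinearGroup (Fin 2) F)) from
    (Subgroup.mem_normalizer_iff.1 h n).1 hn
  have hle : LinGrp.transvectionSet ⊆
      (Subgroup.normalizer (f.range : Set (Matrix.SpecialLinearGroup (Fin 2) F)) :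
        Set (Matrix.SpecialLinearGroup (Fin 2) F)) := by
    rintro t ⟨i, j, hij, a, rfl⟩
    set t := Matrix.SpecialLinearGroup.transvection hij a with ht
    have hET : E t = LinGrp.uSL (e a) ∨ E t = LinGrp.lSL (e a) := by
      fin_cases i <;> fin_cases j <;> first | (exact absurd rfl hij) | skip
      · left
        ext x y
        fin_cases x <;> fin_cases y <;>
          simp [E, ht, LinGrp.uSL_val, Matrix.SpecialLinearGroup.transvection_coe, Matrix.single]
      · right
        ext x y
        fin_cases x <;> fin_cases y <;>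
          simp [E, ht, LinGrp.lSL_val, Matrix.SpecialLinearGroup.transvection_coe, Matrix.single]
    have himg : ∀ x, ∃ y, t * f x * t⁻¹ = f y := by
      intro x
      obtain ⟨h1, h2⟩ := qMap_normal (e a) x
      rcases hET with h | h
      · obtain ⟨y, hy⟩ := h1
        refine ⟨y, mul_inv_eq_iff_eq_mul.2 (hEinj ?_)⟩
        rw [map_mul, map_mul, hf, hf, h, hy]
      · obtain ⟨y, hy⟩ := h2
        refine ⟨y, mul_inv_eq_iff_eq_mul.2 (hEinj ?_)⟩
        rw [map_mul, map_mul, hf, hf, h, hy]
    have hsub : f.range.map (MulAut.conj t).toMonoidHom ≤ f.range := by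
      rintro _ ⟨_, ⟨x, rfl⟩, rfl⟩
      obtain ⟨y, hy⟩ := himg x
      exact ⟨y, hy.symm⟩
    have heq : f.range.map (MulAut.conj t).toMonoidHom = f.range :=
      Subgroup.eq_of_le_of_card_ge hsub
        (Subgroup.card_map_of_injective (MulAut.conj t).injective).ge
    refine Subgroup.mem_normalizer_iff.2 fun z => ⟨fun hz => hsub ⟨z, hz, rfl⟩, fun hz => ?_⟩
    rw [← heq] at hz
    obtain ⟨w, hw, hwz⟩ := hz
    exact (MulAut.conj t).injective hwz ▸ hw
  have htop := (Subgroup.closure_le _).2 hle
  rw [LinGrp.closure_transvectionSet] at htop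
  exact htop (Subgroup.mem_top g)

end

/-- SL_2(3) has a normal subgroup of index 3 isomorphic to the quaternion group of order 8, and its centre has order 2. -/
theorem result {F : Type*} [Field F] [Fintype F] (hF : Fintype.card F = 3) : (∃ Q : Subgroup (Matrix.SpecialLinearGroup (Fin 2) F), Q.Normal ∧ Q.index = 3 ∧ Nonempty (Q ≃* QuaternionGroup 2)) ∧ Nat.card (Subgroup.center (Matrix.SpecialLinearGroup (Fin 2) F)) = 2 := by
  have hS : Nat.card (Matrix.SpecialLinearGroup (Fin 2) F) = 24 := by
    have h := LinGrp.natCard_SL_mul (F := F) 2 (by omega)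
    rw [hF, Fin.prod_univ_two] at h
    simp at h
    omega
  refine ⟨?_, ?_⟩
  · obtain ⟨f, hinj, hn⟩ := exists_quaternion_hom hF
    refine ⟨f.range, hn, ?_, ⟨(MonoidHom.ofInjective hinj).symm⟩⟩
    have h := f.range.card_mul_index
    rw [← Nat.card_congr (MonoidHom.ofInjective hinj).toEquiv, Nat.card_eq_fintype_card,
      QuaternionGroup.card, hS] at h
    omega
  · rw [LinGrp.natCard_center_SL, Fintype.card_fin, Nat.card_eq_fintype_card, hF]
    rfl

end Cfsg.Agent.S0257
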