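import Cfsg.Statements.S0262
import Cfsg.Agent.Lib.LinearGroups.Basic
import Mathlib


set_option autoImplicit false
open Cfsg

namespace Cfsg.Agent.S0262

open Subgroup

open Matrix in
theorem exists_comb {F : Type*} [Field F] (A X : Matrix (Fin 2) (Fin 2) F)
    (hA : A 0 1 ≠ 0 ∨ A 1 0 ≠ 0 ∨ A 0 0 ≠ A 1 1) (h : X * A = A * X) :
    ∃ a b : F, X = a • (1 : Matrix (Fin 2) (Fin 2) F) + b • A := by
  have e00 := congrFun (congrFun h 0) 0
  have e01 := congrFun (congrFun h 0) 1
  have e10 := congrFun (congrFun h 1) 0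
  simp [Matrix.mul_apply, Fin.sum_univ_two] at e00 e01 e10
  suffices H : ∃ b, X 0 1 = b * A 0 1 ∧ X 1 0 = b * A 1 0 ∧ X 0 0 - X 1 1 = b * (A 0 0 - A 1 1) by
    obtain ⟨b, h1, h2, h3⟩ := H
    refine ⟨X 0 0 - b * A 0 0, b, ?_⟩
    ext i j
    fin_cases i <;> fin_cases j <;> simp [h1, h2]
    linear_combination -h3
  rcases hA with hA | hA | hA
  · refine ⟨X 0 1 / A 0 1, by field_simp, ?_, ?_⟩
    · field_simp; linear_combination -e00
    · field_simp; linear_combination e01
  · refine ⟨X 1 0 / A 1 0, ?_, by field_simp, ?_⟩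
    · field_simp; linear_combination e00
    · field_simp; linear_combination -e10
  · have hd : A 0 0 - A 1 1 ≠ 0 := sub_ne_zero.2 hA
    refine ⟨(X 0 0 - X 1 1) / (A 0 0 - A 1 1), ?_, ?_, by field_simp⟩
    · field_simp; linear_combination -e01
    · field_simp; linear_combination e10

/-- For an odd prime r different from the characteristic, the Sylow r-subgroups of SL_2(q) are cyclic. -/
theorem result {F : Type*} [Field F] [Fintype F] (p : ℕ) [Fact p.Prime] [CharP F p] (r : ℕ) [Fact r.Prime] (hr : r ≠ 2) (hrp : r ≠ p) (R : Sylow r (Matrix.SpecialLinearGroup (Fin 2) F)) : IsCyclic (R : Subgroup (Matrix.SpecialLinearGroup (Fin 2) F)) := by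
  classical
  rcases subsingleton_or_nontrivial ↥(R : Subgroup (Matrix.SpecialLinearGroup (Fin 2) F)) with hs | hs
  · exact isCyclic_of_subsingleton
  haveI := R.isPGroup'.center_nontrivial
  haveI : Nontrivial (center ↥(R : Subgroup (Matrix.SpecialLinearGroup (Fin 2) F))) :=
    R.isPGroup'.center_nontrivial
  obtain ⟨⟨z, hzc⟩, hz1⟩ := exists_ne (1 : center ↥(R : Subgroup (Matrix.SpecialLinearGroup (Fin 2) F)))
  set A := (z : Matrix.SpecialLinearGroup (Fin 2) F).1 with hA
  -- `z` is not scalar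
  have hns : A 0 1 ≠ 0 ∨ A 1 0 ≠ 0 ∨ A 0 0 ≠ A 1 1 := by
    by_contra hc
    simp only [not_or, not_not] at hc
    obtain ⟨h01, h10, h00⟩ := hc
    have hd := (z : Matrix.SpecialLinearGroup (Fin 2) F).2
    rw [← hA, Matrix.det_fin_two, h01, h10, mul_zero, sub_zero, ← h00] at hd
    have hsq : z ^ 2 = 1 := by
      refine Subtype.ext (Subtype.ext ?_)
      ext i j
      fin_cases i <;> fin_cases j <;>
        simp [pow_two, Matrix.mul_apply, Fin.sum_univ_two, ← hA, h01, h10, ← h00, hd]
    obtain ⟨k, hk⟩ := R.isPGroup' z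
    have h1 : orderOf z ∣ Nat.gcd 2 (r ^ k) :=
      Nat.dvd_gcd (orderOf_dvd_of_pow_eq_one hsq) (orderOf_dvd_of_pow_eq_one hk)
    have hco : Nat.Coprime 2 (r ^ k) :=
      Nat.Coprime.pow_right _ ((Nat.coprime_primes Nat.prime_two Fact.out).2 hr.symm)
    rw [hco.gcd_eq_one, Nat.dvd_one, orderOf_eq_one_iff] at h1
    exact hz1 (Subtype.ext h1)
  -- a common eigenvector over the algebraic closure
  let K := AlgebraicClosure F
  let ι : F →+* K := algebraMap F K
  haveI : CharP K p := charP_of_injective_ringHom ι.injective p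
  obtain ⟨μ, hμ⟩ := IsAlgClosed.exists_root
    (Polynomial.X ^ 2 - Polynomial.C (ι (A 0 0 + A 1 1)) * Polynomial.X + 1 : Polynomial K)
    (by
      rw [show (Polynomial.X ^ 2 - Polynomial.C (ι (A 0 0 + A 1 1)) * Polynomial.X + 1 : Polynomial K)
        = Polynomial.C 1 * Polynomial.X ^ 2 + Polynomial.C (-ι (A 0 0 + A 1 1)) * Polynomial.X +
          Polynomial.C 1 by simp; ring, Polynomial.degree_quadratic one_ne_zero]
      decide)
  simp [Polynomial.IsRoot] at hμ
  obtain ⟨v, hv0, hv⟩ : ∃ v : Fin 2 → K, v ≠ 0 ∧ (A.map ι).mulVec v = μ • v := by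
    have hdet : (A.map ι - μ • (1 : Matrix (Fin 2) (Fin 2) K)).det = 0 := by
      have hd : ι (A.det) = 1 := by rw [hA, (z : Matrix.SpecialLinearGroup (Fin 2) F).2, map_one]
      rw [Matrix.det_fin_two] at hd ⊢
      simp at hd ⊢
      linear_combination hμ + hd
    obtain ⟨v, hv0, hv⟩ := Matrix.exists_mulVec_eq_zero_iff.2 hdet
    exact ⟨v, hv0, by simpa [Matrix.sub_mulVec, Matrix.smul_mulVec, sub_eq_zero] using hv⟩
  have heig : ∀ x : ↥(R : Subgroup (Matrix.SpecialLinearGroup (Fin 2) F)),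
      ∃ c : K, ((x : Matrix.SpecialLinearGroup (Fin 2) F).1.map ι).mulVec v = c • v := by
    intro x
    obtain ⟨a, b, hab⟩ := exists_comb A (x : Matrix.SpecialLinearGroup (Fin 2) F).1 hns
      (congrArg (fun y : ↥(R : Subgroup (Matrix.SpecialLinearGroup (Fin 2) F)) => y.1.1)
        (mem_center_iff.1 hzc x))
    refine ⟨ι a + ι b * μ, ?_⟩
    have h2 : (x : Matrix.SpecialLinearGroup (Fin 2) F).1.map ι =
        ι a • (1 : Matrix (Fin 2) (Fin 2) K) + ι b • A.map ι := by
      rw [hab]
      ext i j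
      fin_cases i <;> fin_cases j <;> simp
    rw [h2, Matrix.add_mulVec, Matrix.smul_mulVec, Matrix.smul_mulVec, hv, Matrix.one_mulVec,
      smul_smul, add_smul]
  choose c hc using heig
  have hinjv : ∀ a b : K, a • v = b • v → a = b := fun a b h => by
    by_contra hne
    rw [← sub_eq_zero, ← sub_smul, smul_eq_zero] at h
    exact h.elim (fun h => hne (sub_eq_zero.1 h)) hv0
  have hone : c 1 = 1 := hinjv _ _ (by rw [← hc]; simp)
  have hmulc : ∀ x y, c (x * y) = c x * c y := fun x y => hinjv _ _ (by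
    rw [← hc, Subgroup.coe_mul, Matrix.SpecialLinearGroup.coe_mul, Matrix.map_mul,
      ← Matrix.mulVec_mulVec, hc, Matrix.mulVec_smul, hc, smul_smul, mul_comm])
  let φ : ↥(R : Subgroup (Matrix.SpecialLinearGroup (Fin 2) F)) →* K :=
    { toFun := c, map_one' := hone, map_mul' := hmulc }
  refine isCyclic_of_subgroup_isDomain φ ((injective_iff_map_eq_one φ).2 fun x hx => ?_)
  -- the kernel is unipotent
  set B := (x : Matrix.SpecialLinearGroup (Fin 2) F).1.map ι with hB
  have hBv : B.mulVec v = v := by rw [hB, hc, show c x = 1 from hx, one_smul]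
  have hdetB : B.det = 1 := by
    rw [hB, ← RingHom.mapMatrix_apply, ← RingHom.map_det, (x : Matrix.SpecialLinearGroup (Fin 2) F).2,
      map_one]
  have hN0 : (B - 1).det = 0 :=
    Matrix.exists_mulVec_eq_zero_iff.1 ⟨v, hv0, by rw [Matrix.sub_mulVec, hBv, Matrix.one_mulVec, sub_self]⟩
  have hN2 : (B - 1) * (B - 1) = 0 := by
    rw [Matrix.det_fin_two] at hN0 hdetB
    simp at hN0
    have htr : B 0 0 + B 1 1 = 2 := by linear_combination hdetB - hN0
    ext i j
    fin_cases i <;> fin_cases j <;> simp [Matrix.mul_apply, Fin.sum_univ_two] <;>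
      first
      | linear_combination (B 0 0 - 1) * htr - hN0
      | linear_combination (B 1 1 - 1) * htr - hN0
      | linear_combination (B 0 1) * htr
      | linear_combination (B 1 0) * htr
  have hBp : B ^ p = 1 := by
    have hcomm : Commute (1 : Matrix (Fin 2) (Fin 2) K) (B - 1) := Commute.one_left _
    have : B = 1 + (B - 1) := by abel
    rw [this, add_pow_char_of_commute p hcomm, one_pow]
    obtain ⟨j, hj⟩ := Nat.exists_eq_add_of_le (Fact.out : p.Prime).two_le
    rw [hj, pow_add, pow_two, hN2, zero_mul, add_zero]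
  have hxp : x ^ p = 1 := by
    refine Subtype.ext (Subtype.ext (Matrix.map_injective ι.injective ?_))
    rw [Subgroup.coe_pow, Matrix.SpecialLinearGroup.coe_pow]
    show ι.mapMatrix _ = ι.mapMatrix _
    rw [map_pow, RingHom.mapMatrix_apply, ← hB, hBp]
    exact (map_one ι.mapMatrix).symm
  obtain ⟨k, hk⟩ := R.isPGroup' x
  have h1 : orderOf x ∣ Nat.gcd p (r ^ k) :=
    Nat.dvd_gcd (orderOf_dvd_of_pow_eq_one hxp) (orderOf_dvd_of_pow_eq_one hk)
  have hco : Nat.Coprime p (r ^ k) :=
    Nat.Coprime.pow_right _ ((Nat.coprime_primes Fact.out Fact.out).2 hrp.symm)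
  rwa [hco.gcd_eq_one, Nat.dvd_one, orderOf_eq_one_iff] at h1

end Cfsg.Agent.S0262
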