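import Cfsg.Statements.S0268
import Mathlib


set_option autoImplicit false
open Cfsg

namespace Cfsg.Agent.S0268

/-- For q odd, -1 is the unique involution of SL_2(q). -/
theorem result {F : Type*} [Field F] [Fintype F] (hF : Odd (Fintype.card F)) (g : Matrix.SpecialLinearGroup (Fin 2) F) (h1 : g ≠ 1) (h2 : g * g = 1) : (g : Matrix (Fin 2) (Fin 2) F) = -1 := by
  have hinv := h2
  clear h2
  have h2 : (2 : F) ≠ 0 := Ring.two_ne_zero (by
    intro hc
    have := FiniteField.even_card_iff_char_two.1 hc
    rw [Nat.odd_iff] at hF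
    omega)
  have hd : g 0 0 * g 1 1 - g 0 1 * g 1 0 = 1 := by
    have := g.det_coe
    rwa [Matrix.det_fin_two] at this
  have hm : (g : Matrix (Fin 2) (Fin 2) F) * (g : Matrix (Fin 2) (Fin 2) F) = 1 :=
    congrArg Subtype.val hinv
  have e00 : g 0 0 * g 0 0 + g 0 1 * g 1 0 = 1 := by
    have := congrFun (congrFun hm 0) 0; simpa [Matrix.mul_apply, Fin.sum_univ_two] using this
  have e01 : g 0 0 * g 0 1 + g 0 1 * g 1 1 = 0 := by
    have := congrFun (congrFun hm 0) 1; simpa [Matrix.mul_apply, Fin.sum_univ_two] using this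
  have e10 : g 1 0 * g 0 0 + g 1 1 * g 1 0 = 0 := by
    have := congrFun (congrFun hm 1) 0; simpa [Matrix.mul_apply, Fin.sum_univ_two] using this
  have hT : g 0 0 + g 1 1 ≠ 0 := fun h => h2 (by linear_combination -hd - e00 + g 0 0 * h)
  have hb : g 0 1 = 0 := by
    have : g 0 1 * (g 0 0 + g 1 1) = 0 := by linear_combination e01
    exact (mul_eq_zero.1 this).resolve_right hT
  have hc : g 1 0 = 0 := by
    have : g 1 0 * (g 0 0 + g 1 1) = 0 := by linear_combination e10
    exact (mul_eq_zero.1 this).resolve_right hT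
  have ha : g 0 0 = 1 ∨ g 0 0 = -1 := mul_self_eq_one_iff.1 (by rw [hb] at e00; linear_combination e00)
  have he : g 1 1 = g 0 0 := by
    rcases ha with h | h <;> rw [h, hb] at hd <;> rw [h] <;> first | linear_combination hd | linear_combination -hd
  rcases ha with h | h
  · exfalso
    apply h1
    ext i j
    fin_cases i <;> fin_cases j <;> simp [h, hb, hc, he]
  · ext i j
    fin_cases i <;> fin_cases j <;> simp [h, hb, hc, he]

end Cfsg.Agent.S0268
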