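import Cfsg.Statements.S0275
import Cfsg.Agent.S0261
import Cfsg.Agent.S0274
import Mathlib


set_option autoImplicit false
open Cfsg

namespace Cfsg.Agent.S0275

open Subgroup

/-- If p is odd and H is a subgroup of SL_2(q), q a power of p, with more than one Sylow p-subgroup, then the Sylow 2-subgroups of H are generalised quaternion. -/
theorem result {F : Type*} [Field F] [Fintype F] (p : ℕ) [Fact p.Prime] [CharP F p] (hp : p ≠ 2) (H : Subgroup (Matrix.SpecialLinearGroup (Fin 2) F)) (hH : 1 < Nat.card (Sylow p H)) (S : Sylow 2 H) : ∃ k : ℕ, 1 ≤ k ∧ Nonempty ((S : Subgroup H) ≃* QuaternionGroup (2 ^ k)) := by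
  classical
  haveI : Fact (Nat.Prime 2) := ⟨Nat.prime_two⟩
  have hpp : p.Prime := Fact.out
  have h2F : (2 : F) ≠ 0 := by
    intro h
    have := (CharP.cast_eq_zero_iff F p 2).1 (by exact_mod_cast h)
    exact hp ((Nat.prime_dvd_prime_iff_eq hpp Nat.prime_two).1 this)
  obtain ⟨K, hKH, ⟨e⟩⟩ := S0274.result p hp H hH
  obtain ⟨Q⟩ : Nonempty (Sylow 2 (Matrix.SpecialLinearGroup (Fin 2) (ZMod p))) := inferInstance
  obtain ⟨k, hk, ⟨eQ⟩⟩ := S0261.result (F := ZMod p)
    (by rw [ZMod.card]; exact hpp.odd_of_ne_two hp) Q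
  have hnc : ¬ IsCyclic ↥(S : Subgroup H) := by
    intro hc
    let f : Matrix.SpecialLinearGroup (Fin 2) (ZMod p) →* H :=
      (inclusion hKH).comp e.symm.toMonoidHom
    have hf : Function.Injective f := (inclusion_injective hKH).comp e.symm.injective
    obtain ⟨T, hT⟩ := (Q.isPGroup'.map f).exists_le_sylow
    haveI : IsCyclic ↥(T : Subgroup H) :=
      isCyclic_of_surjective (Sylow.equiv S T).toMonoidHom (Sylow.equiv S T).surjective
    let g : ↥(Q : Subgroup (Matrix.SpecialLinearGroup (Fin 2) (ZMod p))) →* ↥(T : Subgroup H) :=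
      (f.comp (Q : Subgroup (Matrix.SpecialLinearGroup (Fin 2) (ZMod p))).subtype).codRestrict _
        fun a => hT ⟨a, a.2, rfl⟩
    haveI : IsCyclic ↥(Q : Subgroup (Matrix.SpecialLinearGroup (Fin 2) (ZMod p))) :=
      isCyclic_of_injective g fun a b hab => Subtype.ext (hf (congrArg Subtype.val hab))
    haveI : IsCyclic (QuaternionGroup (2 ^ k)) :=
      isCyclic_of_surjective eQ.toMonoidHom eQ.surjective
    haveI : NeZero (2 ^ k) := ⟨pow_ne_zero k two_ne_zero⟩
    have hcomm := (IsCyclic.isMulCommutative (α := QuaternionGroup (2 ^ k))).is_comm.comm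
      (QuaternionGroup.a 1) (QuaternionGroup.xa 0)
    rw [QuaternionGroup.a_mul_xa, QuaternionGroup.xa_mul_a, QuaternionGroup.xa.injEq] at hcomm
    have h2 : ((2 : ℕ) : ZMod (2 * 2 ^ k)) = 0 := by
      push_cast
      linear_combination -hcomm
    have := Nat.le_of_dvd two_pos ((ZMod.natCast_eq_zero_iff _ _).1 h2)
    have : 2 ^ 1 ≤ 2 ^ k := Nat.pow_le_pow_right two_pos hk
    omega
  have key : ∀ x y : (S : Subgroup H), orderOf x = 2 → orderOf y = 2 → x = y := by
    intro x y hx hy
    refine Subtype.ext (Subtype.ext (Subtype.ext ?_))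
    rw [S0261.eq_neg_one_of_orderOf_two h2F (by rw [Subgroup.orderOf_coe, Subgroup.orderOf_coe]; exact hx),
      S0261.eq_neg_one_of_orderOf_two h2F (by rw [Subgroup.orderOf_coe, Subgroup.orderOf_coe]; exact hy)]
  rcases InvChar.cyclic_or_quaternion S.isPGroup' (fun A B hA hB => by
      obtain ⟨u, hu⟩ := exists_prime_orderOf_dvd_card' (G := A) 2 (by rw [hA])
      obtain ⟨v, hv⟩ := exists_prime_orderOf_dvd_card' (G := B) 2 (by rw [hB])
      have hg : ∀ (A : Subgroup ↥(S : Subgroup H)) (u : A),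
          Nat.card A = 2 → orderOf u = 2 → zpowers u.1 = A := fun A u hA hu =>
        eq_of_le_of_card_ge (zpowers_le.2 u.2) (by rw [Nat.card_zpowers, Subgroup.orderOf_coe, hu, hA])
      rw [← hg A u hA hu, ← hg B v hB hv]
      congr 1
      exact key _ _ (by rw [Subgroup.orderOf_coe]; exact hu) (by rw [Subgroup.orderOf_coe]; exact hv)) with
    hc | ⟨-, n, ⟨e'⟩⟩
  · exact absurd hc hnc
  · rcases n with _ | n
    · refine absurd ?_ hnc
      haveI : IsCyclic (QuaternionGroup (2 ^ 0)) := QuaternionGroup.quaternionGroup_one_isCyclic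
      exact isCyclic_of_surjective e'.symm.toMonoidHom e'.symm.surjective
    · exact ⟨n + 1, by omega, ⟨e'⟩⟩

end Cfsg.Agent.S0275
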