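import Cfsg.Statements.S0276
import Cfsg.Agent.Lib.LinearGroups.Basic
import Cfsg.Agent.Lib.SmallSimple.Basic


set_option autoImplicit false
open Cfsg

namespace Cfsg.Agent.S0276

/-- For q = 3 or 5 mod 8 the Sylow 2-subgroups of PSL_2(q) are elementary abelian of order 4. -/
theorem result {F : Type*} [Field F] [Fintype F] {q : ℕ} (hF : Fintype.card F = q) (hq : q % 8 = 3 ∨ q % 8 = 5) (P : Sylow 2 (Matrix.ProjectiveSpecialLinearGroup (Fin 2) F)) : IsKleinFour (P : Subgroup (Matrix.ProjectiveSpecialLinearGroup (Fin 2) F)) := by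
  haveI : Fact (Nat.Prime 2) := ⟨by norm_num⟩
  have hq2 : Nat.card F % 2 = 1 := by rw [Nat.card_eq_fintype_card, hF]; omega
  have h2F : ¬ IsSquare (2 : F) := by
    rw [FiniteField.isSquare_two_iff, hF]; omega
  have hchar : (2 : F) ≠ 0 := fun h => h2F (h ▸ ⟨0, (mul_zero 0).symm⟩)
  have hcard : Nat.card P = 2 ^ 2 := by
    have h1 := LinGrp.natCard_PSL_mul (n := Fin 2) (F := F)
    have h2 := LinGrp.natCard_SL_mul (F := F) 2 (by norm_num)
    rw [hF] at h2
    rw [Fintype.card_fin, Nat.card_eq_fintype_card (α := F), hF] at h1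
    have hg : Nat.gcd 2 (q - 1) = 2 := Nat.gcd_eq_left (by omega)
    rw [hg] at h1
    rw [← h1] at h2
    simp only [Fin.prod_univ_two, Fin.val_zero, Fin.val_one, pow_zero, pow_one] at h2
    obtain ⟨a, ha⟩ : ∃ a, q = 2 * a + 1 := ⟨q / 2, by omega⟩
    have hm : Nat.card (Matrix.ProjectiveSpecialLinearGroup (Fin 2) F) = q * (2 * (a * (a + 1))) := by
      have : (q - 1) * (2 * Nat.card (Matrix.ProjectiveSpecialLinearGroup (Fin 2) F)) =
          (q - 1) * (2 * (q * (2 * (a * (a + 1))))) := by
        have e1 : q ^ 2 - 1 = 4 * (a * (a + 1)) := by subst ha; ring_nf; omega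
        have e2 : q ^ 2 - q = q * (q - 1) := by rw [Nat.mul_sub, sq, mul_one]
        rw [h2, e1, e2]; ring
      exact Nat.eq_of_mul_eq_mul_left (by norm_num) (Nat.eq_of_mul_eq_mul_left (by omega) this)
    obtain ⟨b, hb, hbo⟩ : ∃ b, 2 * (a * (a + 1)) = 4 * b ∧ b % 2 = 1 := by
      obtain ⟨c, hc⟩ : ∃ c, a = 4 * c + 1 ∨ a = 4 * c + 2 := ⟨a / 4, by omega⟩
      rcases hc with rfl | rfl
      · exact ⟨(4 * c + 1) * (2 * c + 1), by ring, by simp [Nat.mul_mod, Nat.add_mod]⟩
      · exact ⟨(2 * c + 1) * (4 * c + 3), by ring, by simp [Nat.mul_mod, Nat.add_mod]⟩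
    refine SmallSimple.card_sylow_of_eq (k := 2) (m := q * b) P (by rw [hm, hb]; ring) ?_
    rw [Nat.dvd_iff_mod_eq_zero, Nat.mul_mod, hbo, show q % 2 = 1 by omega]
    norm_num
  have hexp : ∀ x : (P : Subgroup (Matrix.ProjectiveSpecialLinearGroup (Fin 2) F)), x ^ 2 = 1 := by
    intro x
    have h4 : x ^ 4 = 1 := by
      have h := pow_card_eq_one' (x := x)
      rwa [hcard] at h
    apply Subtype.ext
    obtain ⟨g, hg⟩ := QuotientGroup.mk_surjective (x : Matrix.ProjectiveSpecialLinearGroup (Fin 2) F)
    have h4' : g ^ 4 ∈ Subgroup.center (Matrix.SpecialLinearGroup (Fin 2) F) := by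
      rw [← QuotientGroup.eq_one_iff, QuotientGroup.mk_pow, hg]
      exact congrArg Subtype.val h4
    push_cast
    rw [← hg, ← QuotientGroup.mk_pow, QuotientGroup.eq_one_iff]
    rw [Matrix.SpecialLinearGroup.mem_center_iff] at h4' ⊢
    obtain ⟨c, hc, hcs⟩ := h4'
    rw [Fintype.card_fin] at hc ⊢
    set M := (g : Matrix (Fin 2) (Fin 2) F) with hM
    have hdet : M 0 0 * M 1 1 - M 0 1 * M 1 0 = 1 := by
      have := g.det_coe; rwa [Matrix.det_fin_two] at this
    set t := M 0 0 + M 1 1 with ht
    have hCH : M * M = t • M - 1 := by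
      ext i j
      fin_cases i <;> fin_cases j <;>
        simp [ht, Matrix.mul_apply, Fin.sum_univ_two, Matrix.smul_apply] <;>
        first | linear_combination (-1 : F) * hdet | ring1
    set s := t * t - 2 with hs
    have h4M : (M * M) * (M * M) = s • (M * M) - 1 := by
      have hM3 : M * M * M = t • (M * M) - M := by
        rw [hCH, sub_mul, Matrix.smul_mul, one_mul, hCH]
      calc M * M * (M * M) = (M * M * M) * M := by noncomm_ring
        _ = t • (M * M * M) - M * M := by rw [hM3, sub_mul, Matrix.smul_mul, ← hM3]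
        _ = t • (t • (M * M) - M) - M * M := by rw [hM3]
        _ = s • (M * M) - (t • M - M * M) := by rw [hs]; module
        _ = s • (M * M) - 1 := by rw [hCH]; abel
    have hsc : s • (M * M) = Matrix.scalar (Fin 2) c + 1 := by
      rw [hcs, Matrix.SpecialLinearGroup.coe_pow,
        show M ^ 4 = M * M * (M * M) by noncomm_ring, h4M]
      abel
    rcases mul_self_eq_one_iff.1 (show c * c = 1 by rw [← sq]; exact hc) with rfl | rfl
    · have hs0 : s ≠ 0 := by
        intro h0
        rw [h0, zero_smul, map_one] at hsc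
        have := congrFun (congrFun hsc 0) 0
        simp at this
        exact hchar (by linear_combination -this)
      refine ⟨2 / s, ?_, ?_⟩
      · have := congrArg Matrix.det hsc
        rw [Matrix.det_smul, Fintype.card_fin, Matrix.det_mul, hM, g.det_coe, map_one,
          ← map_one (Matrix.scalar (Fin 2) (α := F)), ← map_add] at this
        simp [Matrix.det_fin_two] at this
        field_simp
        linear_combination -this
      · rw [sq]
        show Matrix.scalar (Fin 2) (2 / s) = M * M
        have h2' : M * M = s⁻¹ • (s • (M * M)) := by rw [smul_smul, inv_mul_cancel₀ hs0, one_smul]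
        rw [h2', hsc, map_one]
        ext i j
        fin_cases i <;> fin_cases j <;> simp [Matrix.add_apply, mul_add, div_eq_inv_mul, two_mul] <;> ring
    · exfalso
      have hs0 : s = 0 := by
        by_contra hs0
        have := congrArg Matrix.det hsc
        rw [Matrix.det_smul, Fintype.card_fin, Matrix.det_mul, hM, g.det_coe, map_neg, map_one,
          neg_add_cancel, Matrix.det_zero] at this
        simp [hs0] at this
      exact h2F ⟨t, by linear_combination -hs0⟩
  haveI : Nontrivial (P : Subgroup (Matrix.ProjectiveSpecialLinearGroup (Fin 2) F)) :=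
    Finite.one_lt_card_iff_nontrivial.1 (by rw [hcard]; norm_num)
  exact ⟨by rw [hcard]; rfl, by
    apply Monoid.exponent_eq_prime_iff (Fact.out : Nat.Prime 2) |>.2
    intro g hg
    exact orderOf_eq_prime (hexp g) hg⟩

end Cfsg.Agent.S0276
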