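import Cfsg.Statements.S0281
import Cfsg.Agent.Lib.LinearGroups.Basic
import Mathlib


set_option autoImplicit false
open Cfsg

namespace Cfsg.Agent.S0281

open Subgroup

open Matrix

theorem finrank_eq (p : ℕ) [Fact p.Prime] (L : Type*) [Field L] [Fintype L] [Algebra (ZMod p) L]
    (m : ℕ) (hm : Fintype.card L = p ^ m) : Module.finrank (ZMod p) L = m := by
  have h := Module.card_eq_pow_finrank (K := ZMod p) (V := L)
  rw [hm, ZMod.card] at h
  exact (Nat.pow_right_injective (Fact.out : p.Prime).two_le h).symm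

/-- SU_2(q) is isomorphic to SL_2(q). -/
theorem result {F K : Type*} [Field F] [Fintype F] [Field K] [Fintype K] {q : ℕ} (hF : Fintype.card F = q ^ 2) (hK : Fintype.card K = q) : Nonempty (Cfsg.SU 2 F q ≃* Matrix.SpecialLinearGroup (Fin 2) K) := by
  classical
  obtain ⟨p, hp⟩ := CharP.exists F
  haveI : Fact p.Prime := ⟨CharP.char_is_prime F p⟩
  obtain ⟨n, -, hn⟩ := FiniteField.card F p
  have hq1 : 1 < q := hK ▸ Fintype.one_lt_card
  -- `K` embeds in `F`
  obtain ⟨j, hj⟩ : ∃ j, q = p ^ j := by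
    obtain ⟨j, -, hj⟩ := (Nat.dvd_prime_pow (Fact.out : p.Prime)).1
      (show q ∣ p ^ (n : ℕ) by rw [← hn, hF, pow_two]; exact dvd_mul_right q q)
    exact ⟨j, hj⟩
  have hj0 : j ≠ 0 := fun h => by rw [h, pow_zero] at hj; omega
  haveI : CharP K p := charP_of_card_eq_prime_pow (f := j) (by rw [← hj, hK])
  letI := ZMod.algebra F p
  letI := ZMod.algebra K p
  obtain ⟨ι₀⟩ := FiniteField.nonempty_algHom_of_finrank_dvd (F := ZMod p) (K := K) (L := F) (by
    rw [finrank_eq p K j (by rw [hK, hj]), finrank_eq p F (2 * j) (by rw [hF, hj, ← pow_mul, mul_comm])]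
    exact dvd_mul_left j 2)
  let ι : K →+* F := ι₀.toRingHom
  have hιq : ∀ x, ι x ^ q = ι x := fun x => by rw [← map_pow, ← hK, FiniteField.pow_card]
  have hfix : ∀ y : F, y ^ q = y → ∃ x, ι x = y := by
    intro y hy
    have hsub : (Finset.univ.image ι) ⊆ (Polynomial.X ^ q - Polynomial.X : Polynomial F).roots.toFinset := by
      intro z hz
      obtain ⟨x, -, rfl⟩ := Finset.mem_image.1 hz
      rw [Multiset.mem_toFinset, Polynomial.mem_roots (FiniteField.X_pow_card_sub_X_ne_zero F hq1)]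
      simp [hιq]
    have hcard : (Polynomial.X ^ q - Polynomial.X : Polynomial F).roots.toFinset.card ≤
        (Finset.univ.image ι).card := by
      refine (Multiset.toFinset_card_le _).trans ((Polynomial.card_roots' _).trans ?_)
      rw [FiniteField.X_pow_card_sub_X_natDegree_eq F hq1, Finset.card_image_of_injective _ ι.injective,
        Finset.card_univ, hK]
    have hmem : y ∈ (Polynomial.X ^ q - Polynomial.X : Polynomial F).roots.toFinset := by
      rw [Multiset.mem_toFinset, Polynomial.mem_roots (FiniteField.X_pow_card_sub_X_ne_zero F hq1)]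
      simp [hy]
    rw [← Finset.eq_of_subset_of_card_le hsub hcard] at hmem
    obtain ⟨x, -, hx⟩ := Finset.mem_image.1 hmem
    exact ⟨x, hx⟩
  have hadd : ∀ x y : F, (x + y) ^ q = x ^ q + y ^ q := fun x y => by
    rw [hj]; exact add_pow_char_pow x y p j
  have hsub : ∀ x y : F, (x - y) ^ q = x ^ q - y ^ q := fun x y => by
    rw [eq_sub_iff_add_eq, ← hadd, sub_add_cancel]
  have hqq : ∀ x : F, (x ^ q) ^ q = x := fun x => by
    rw [← pow_mul, ← pow_two, ← hF, FiniteField.pow_card]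
  have hm1 : (-1 : F) ^ q = -1 := by
    have h := hsub 0 1
    rwa [zero_sub, zero_pow (by omega), one_pow, zero_sub] at h
  -- roots of norm equations
  obtain ⟨g, hg⟩ := IsCyclic.exists_ofOrder_eq_natCard (α := Fˣ)
  rw [Nat.card_units, Nat.card_eq_fintype_card, hF] at hg
  obtain ⟨k, hk⟩ : ∃ k, q = k + 1 := ⟨q - 1, by omega⟩
  have hqk : q ^ 2 - 1 = (k + 2) * k := by
    rw [hk, Nat.sub_eq_iff_eq_add (by nlinarith)]; ring
  have hroot : ∀ (m : ℕ) (y : Fˣ) (d : ℕ), d * m = q ^ 2 - 1 → y ^ d = 1 → ∃ x : Fˣ, x ^ m = y := by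
    intro m y d hdm hy
    obtain ⟨i, rfl⟩ : y ∈ Submonoid.powers g := mem_powers_iff_mem_zpowers.2 (by
      rw [Subgroup.eq_top_of_card_eq (Subgroup.zpowers g) (by
        rw [Nat.card_zpowers, hg, Nat.card_units, Nat.card_eq_fintype_card, hF])]
      exact Subgroup.mem_top _)
    have hd : d ≠ 0 := by
      rintro rfl
      rw [zero_mul] at hdm
      have : 4 ≤ q ^ 2 := by nlinarith
      omega
    rw [← pow_mul, ← orderOf_dvd_iff_pow_eq_one, hg, ← hdm, mul_comm d m] at hy
    obtain ⟨i', rfl⟩ := Nat.dvd_of_mul_dvd_mul_right (Nat.pos_of_ne_zero hd) hy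
    exact ⟨g ^ i', by rw [← pow_mul, mul_comm]⟩
  have hneg : ∀ d, (d = k ∨ d = k + 2) → (-1 : Fˣ) ^ d = 1 := by
    intro d hd
    by_cases h2 : (-1 : F) = 1
    · have : (-1 : Fˣ) = 1 := Units.ext h2
      rw [this, one_pow]
    · have heven : Even k := by
        by_contra hodd
        have hev : Even q := by rw [hk]; exact (Nat.not_even_iff_odd.1 hodd).add_one
        exact h2 (by rw [← hm1, hev.neg_one_pow])
      rcases hd with rfl | rfl
      · exact heven.neg_one_pow
      · exact (heven.add (by decide : Even 2)).neg_one_pow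
  obtain ⟨e, he⟩ := hroot (q + 1) (-1) k (by rw [hqk, hk]; ring) (hneg k (Or.inl rfl))
  obtain ⟨δ, hδ⟩ := hroot k (-1) (k + 2) (by rw [hqk]) (hneg _ (Or.inr rfl))
  have hζ : ∃ ζ : Fˣ, ζ ^ (q + 1) = 1 ∧ ζ ≠ 1 := by
    refine ⟨g ^ k, ?_, fun h => ?_⟩
    · rw [← pow_mul, ← orderOf_dvd_iff_pow_eq_one, hg, hqk, hk]
      exact dvd_of_eq (by ring)
    · rw [← orderOf_dvd_iff_pow_eq_one, hg, hqk] at h
      have hk0 : 0 < k := by omega
      have := Nat.le_of_dvd hk0 h
      nlinarith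
  obtain ⟨ζ, hζ1, hζ2⟩ := hζ
  have he' : (e : F) ^ q * e = -1 := by
    have := congrArg Units.val he
    rwa [pow_succ, Units.val_mul, Units.val_pow_eq_pow_val, Units.val_neg, Units.val_one] at this
  have hζ' : (ζ : F) ^ q * ζ = 1 := by
    have := congrArg Units.val hζ1
    rwa [pow_succ, Units.val_mul, Units.val_pow_eq_pow_val, Units.val_one] at this
  have hδ' : (δ : F) ^ q = -δ := by
    have := congrArg Units.val hδ
    rw [Units.val_pow_eq_pow_val, Units.val_neg, Units.val_one] at this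
    rw [hk, pow_succ, this]
    ring
  set t : F := 1 - (ζ : F) ^ q with ht
  have ht0 : t ≠ 0 := by
    intro h
    rw [ht, sub_eq_zero] at h
    rw [← h, one_mul] at hζ'
    exact hζ2 (Units.ext hζ')
  set c : F := ((δ : F) / t) ^ q with hc
  have hct : c ^ q * t = δ := by rw [hc, hqq, div_mul_cancel₀ _ ht0]
  have hct' : c * t ^ q = -δ := by rw [hc, ← mul_pow, div_mul_cancel₀ _ ht0, hδ']
  set e2 : F := e * ζ with he2
  have he22 : e2 ^ q * e2 = -1 := by
    rw [he2, mul_pow]
    linear_combination (ζ : F) ^ q * ζ * he' - hζ'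
  -- the isotropic basis
  let P : Matrix (Fin 2) (Fin 2) F := !![1, c; e, c * e2]
  have hP : ∀ u v : Fin 2 → F, hermForm 2 F q (P *ᵥ u) (P *ᵥ v) =
      δ * (u 0 * v 1 ^ q - u 1 * v 0 ^ q) := by
    intro u v
    have h12 : (1 : F) + e * e2 ^ q = t := by
      rw [he2, mul_pow, ht]
      linear_combination (ζ : F) ^ q * he'
    have h21 : (1 : F) + e2 * (e : F) ^ q = t ^ q := by
      rw [← h12, hadd, one_pow, mul_pow, hqq]; ring
    have hPu : ∀ w : Fin 2 → F, (P *ᵥ w) 0 = w 0 + c * w 1 ∧ (P *ᵥ w) 1 = e * w 0 + c * e2 * w 1 := by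
      intro w; simp [P, Matrix.mulVec, dotProduct, Fin.sum_univ_two]
    simp only [hermForm, Fin.sum_univ_two, (hPu u).1, (hPu u).2, (hPu v).1, (hPu v).2, hadd, mul_pow]
    linear_combination (u 0 * v 0 ^ q) * he' + (c * c ^ q * u 1 * v 1 ^ q) * he22 +
      (u 0 * v 1 ^ q * c ^ q) * h12 + (c * u 1 * v 0 ^ q) * h21 + (u 0 * v 1 ^ q) * hct +
      (u 1 * v 0 ^ q) * hct'
  have hPdet : P.det ≠ 0 := by
    have hP' : P.det = c * e * (ζ - 1) := by simp [P, Matrix.det_fin_two, he2]; ring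
    rw [hP']
    refine mul_ne_zero (mul_ne_zero ?_ e.ne_zero) (sub_ne_zero.2 fun h => hζ2 (Units.ext h))
    intro h
    rw [h, zero_mul] at hct'
    exact δ.ne_zero (neg_eq_zero.1 hct'.symm)
  have hPu : IsUnit P.det := hPdet.isUnit
  let Ψ : Matrix.SpecialLinearGroup (Fin 2) K →* Matrix.SpecialLinearGroup (Fin 2) F :=
    { toFun := fun A => ⟨P * (A.1.map ι) * P⁻¹, by
        rw [det_mul, det_mul, Matrix.det_nonsing_inv, Ring.inverse_eq_inv',
          show (A.1.map ι).det = 1 by rw [← RingHom.mapMatrix_apply, ← RingHom.map_det, A.2, map_one],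
          mul_one, mul_inv_cancel₀ hPdet]⟩
      map_one' := Subtype.ext (by simp [Matrix.mul_nonsing_inv P hPu])
      map_mul' := fun A B => Subtype.ext (by
        show P * ((A.1 * B.1).map ι) * P⁻¹ = (P * A.1.map ι * P⁻¹) * (P * B.1.map ι * P⁻¹)
        rw [Matrix.map_mul]
        simp [Matrix.mul_assoc, Matrix.nonsing_inv_mul_cancel_left P _ hPu]) }
  have hinj : Function.Injective Ψ := by
    intro A B h
    have h1 : P * A.1.map ι * P⁻¹ = P * B.1.map ι * P⁻¹ := congrArg Subtype.val h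
    have h2 := congrArg (fun M => P⁻¹ * M * P) h1
    simp only [Matrix.mul_assoc, Matrix.nonsing_inv_mul_cancel_left P _ hPu,
      Matrix.nonsing_inv_mul P hPu, Matrix.mul_one] at h2
    exact Subtype.ext (Matrix.map_injective ι.injective h2)
  have hrange : Ψ.range = Cfsg.SU 2 F q := by
    ext X
    constructor
    · rintro ⟨A, rfl⟩ u v
      show hermForm 2 F q ((P * A.1.map ι * P⁻¹) *ᵥ u) ((P * A.1.map ι * P⁻¹) *ᵥ v) = _
      have hu : ∀ w : Fin 2 → F, P *ᵥ (P⁻¹ *ᵥ w) = w := fun w => by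
        rw [Matrix.mulVec_mulVec, Matrix.mul_nonsing_inv P hPu, Matrix.one_mulVec]
      rw [← Matrix.mulVec_mulVec, ← Matrix.mulVec_mulVec, ← Matrix.mulVec_mulVec,
        ← Matrix.mulVec_mulVec, hP]
      conv_rhs => rw [← hu u, ← hu v, hP]
      generalize P⁻¹ *ᵥ u = x
      generalize P⁻¹ *ᵥ v = y
      have hd := congrArg ι A.2
      rw [Matrix.det_fin_two, map_one, map_sub, map_mul, map_mul] at hd
      simp only [Matrix.mulVec, dotProduct, Fin.sum_univ_two, Matrix.map_apply, hadd, mul_pow, hιq]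
      linear_combination (δ : F) * (x 0 * y 1 ^ q - x 1 * y 0 ^ q) * hd
    · intro hX
      set B := P⁻¹ * X.1 * P with hB
      have hBd : B.det = 1 := by
        rw [hB, det_mul, det_mul, Matrix.det_nonsing_inv, Ring.inverse_eq_inv', X.2, mul_one,
          inv_mul_cancel₀ hPdet]
      have hBu : ∀ w : Fin 2 → F, P *ᵥ (B *ᵥ w) = X.1 *ᵥ (P *ᵥ w) := fun w => by
        rw [Matrix.mulVec_mulVec, Matrix.mulVec_mulVec, hB, ← Matrix.mul_assoc, ← Matrix.mul_assoc,
          Matrix.mul_nonsing_inv P hPu, Matrix.one_mul]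
      have hform : ∀ u v : Fin 2 → F,
          (B *ᵥ u) 0 * (B *ᵥ v) 1 ^ q - (B *ᵥ u) 1 * (B *ᵥ v) 0 ^ q = u 0 * v 1 ^ q - u 1 * v 0 ^ q := by
        intro u v
        refine mul_left_cancel₀ δ.ne_zero ?_
        rw [← hP, ← hP, hBu, hBu]
        exact hX (P *ᵥ u) (P *ᵥ v)
      have hq0 : (0 : F) ^ q = 0 := zero_pow (by omega)
      have e00 := hform ![1, 0] ![1, 0]
      have e01 := hform ![1, 0] ![0, 1]
      have e10 := hform ![0, 1] ![1, 0]
      have e11 := hform ![0, 1] ![0, 1]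
      simp [Matrix.mulVec, dotProduct, Fin.sum_univ_two, hq0] at e00 e01 e10 e11
      rw [Matrix.det_fin_two] at hBd
      have fix : ∀ i j, B i j ^ q = B i j := by
        intro i j
        fin_cases i <;> fin_cases j
        · show B 0 0 ^ q = B 0 0
          linear_combination (-(B 0 0 ^ q)) * hBd + B 0 1 * e00 - B 0 0 * e10
        · show B 0 1 ^ q = B 0 1
          linear_combination (-(B 0 1 ^ q)) * hBd + B 0 1 * e01 - B 0 0 * e11
        · show B 1 0 ^ q = B 1 0
          linear_combination (-(B 1 0 ^ q)) * hBd + B 1 1 * e00 - B 1 0 * e10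
        · show B 1 1 ^ q = B 1 1
          linear_combination (-(B 1 1 ^ q)) * hBd + B 1 1 * e01 - B 1 0 * e11
      choose a ha using fun i j => hfix _ (fix i j)
      have hmap : (Matrix.of a).map ι = B := Matrix.ext fun i j => ha i j
      refine ⟨⟨Matrix.of a, ι.injective ?_⟩, Subtype.ext ?_⟩
      · rw [RingHom.map_det, RingHom.mapMatrix_apply, hmap, map_one, Matrix.det_fin_two, hBd]
      · show P * (Matrix.of a).map ι * P⁻¹ = X.1
        rw [hmap, hB]
        simp [Matrix.mul_assoc, Matrix.mul_nonsing_inv P hPu,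
          Matrix.mul_nonsing_inv_cancel_left P _ hPu]
  exact ⟨((MonoidHom.ofInjective hinj).trans (MulEquiv.subgroupCongr hrange)).symm⟩

end Cfsg.Agent.S0281
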