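import Cfsg.Statements.S0284
import Cfsg.Agent.Lib.LinearGroups.FormCount
import Mathlib


set_option autoImplicit false
open Cfsg

namespace Cfsg.Agent.S0284

open Subgroup

/-- The standard Hermitian form on F^n, |F| = q^2, has exactly q^(n-1) (q^n - (-1)^n) vectors of norm 1. -/
theorem result {F : Type*} [Field F] [Fintype F] {q : ℕ} (hF : Fintype.card F = q ^ 2) (n : ℕ) : Nat.card {v : Fin n → F // Cfsg.hermForm n F q v v = 1} = (if Even n then q ^ (n - 1) * (q ^ n - 1) else q ^ (n - 1) * (q ^ n + 1)) := by
  classical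
  have h := FormCount.card_herm hF n 1 (one_pow q)
  rw [if_neg one_ne_zero] at h
  have hq := FormCount.two_le_q hF
  cases n with
  | zero =>
    rw [if_pos (by decide)]
    simp at h ⊢
    exact h.resolve_left (by omega)
  | succ j =>
    rw [Nat.add_sub_cancel]
    refine Int.ofNat_inj.1 (mul_left_cancel₀ (show (q : ℤ) ≠ 0 by exact_mod_cast (by omega : q ≠ 0)) (h.trans ?_))
    split_ifs with he
    · have h1 : 1 ≤ q ^ (j + 1) := Nat.one_le_pow _ _ (by omega)
      rw [Int.natCast_mul, Nat.cast_sub h1, he.neg_one_pow]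
      push_cast; ring
    · rw [(Nat.not_even_iff_odd.1 he).neg_one_pow]
      push_cast; ring

end Cfsg.Agent.S0284
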