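import Cfsg.Statements.S0289
import Cfsg.Agent.Lib.LinearGroups.FormCount
import Mathlib


set_option autoImplicit false
open Cfsg

namespace Cfsg.Agent.S0289

open Subgroup

/-- The hyperbolic quadratic form on F^(2m), m at least 1, has q^(2m-1) + q^m - q^(m-1) zeros (that is, (q^m - 1)(q^(m-1) + 1) non-zero isotropic vectors). -/
theorem result {F : Type*} [Field F] [Fintype F] {q : ℕ} (hF : Fintype.card F = q) (m : ℕ) (hm : 1 ≤ m) : Nat.card {v : Fin m ⊕ Fin m → F // Cfsg.quadFormPlus m F v = 0} = q ^ (2 * m - 1) + q ^ m - q ^ (m - 1) := by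
  classical
  have h := FormCount.card_plus (F := F) m 0
  rw [hF, if_pos rfl] at h
  obtain ⟨j, rfl⟩ : ∃ j, m = j + 1 := ⟨m - 1, by omega⟩
  have hq : 0 < q := hF ▸ Fintype.card_pos
  have hle : q ^ j ≤ q ^ (2 * (j + 1) - 1) + q ^ (j + 1) :=
    le_add_left (Nat.pow_le_pow_right hq (by omega))
  rw [show 2 * (j + 1) - 1 = 2 * j + 1 by omega] at hle ⊢
  rw [Nat.add_sub_cancel] at *
  zify [hle]
  refine mul_left_cancel₀ (show (q : ℤ) ≠ 0 by exact_mod_cast hq.ne') (h.trans ?_)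
  ring

end Cfsg.Agent.S0289
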