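import Cfsg.Statements.S0298
import Cfsg.Agent.Lib.LinearGroups.OrthSmall
import Cfsg.Agent.S0286
import Mathlib


set_option autoImplicit false
open Cfsg

namespace Cfsg.Agent.S0298

open Subgroup

open Matrix FormsLib

variable {F : Type*} [Field F]

abbrev I3 := Unit ⊕ (Fin 1 ⊕ Fin 1)

/-- Vectors as trace-zero matrices. -/
def toX (v : I3 → F) : Matrix (Fin 2) (Fin 2) F :=
  !![v (.inl ()), v (.inr (.inl 0)); v (.inr (.inr 0)), -v (.inl ())]

/-- Coordinates of a trace-zero matrix. -/
def ofX (X : Matrix (Fin 2) (Fin 2) F) : I3 → F :=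
  Sum.elim (fun _ => X 0 0) (Sum.elim (fun _ => X 0 1) (fun _ => X 1 0))

theorem ofX_toX (v : I3 → F) : ofX (toX v) = v := by
  funext i
  rcases i with ⟨⟩ | i | i <;> simp [ofX, toX, Fin.eq_zero]

theorem toX_ofX {X : Matrix (Fin 2) (Fin 2) F} (h : X.trace = 0) : toX (ofX X) = X := by
  rw [Matrix.trace_fin_two] at h
  ext i j
  fin_cases i <;> fin_cases j <;> simp [ofX, toX]
  linear_combination -h

theorem q_eq_neg_det (v : I3 → F) : qOdd 1 F v = -(toX v).det := by
  rw [qOdd_apply, toX, Matrix.det_fin_two_of]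
  simp
  ring

theorem toX_conj (g : GL (Fin 2) F) (v : I3 → F) :
    toX (ofX (g.1 * toX v * (g⁻¹).1)) = g.1 * toX v * (g⁻¹).1 := by
  refine toX_ofX ?_
  rw [Matrix.trace_mul_cycle, Units.inv_mul, Matrix.one_mul, Matrix.trace_fin_two]
  simp [toX]

/-- Conjugation on trace-zero matrices. -/
def conjLin (g : GL (Fin 2) F) : (I3 → F) →ₗ[F] (I3 → F) where
  toFun v := ofX (g.1 * toX v * (g⁻¹).1)
  map_add' u v := by
    have : toX (u + v) = toX u + toX v := by
      ext i j; fin_cases i <;> fin_cases j <;> simp [toX, add_comm]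
    rw [this, Matrix.mul_add, Matrix.add_mul]
    funext i
    rcases i with ⟨⟩ | i | i <;> simp [ofX]
  map_smul' c v := by
    have : toX (c • v) = c • toX v := by
      ext i j; fin_cases i <;> fin_cases j <;> simp [toX]
    rw [this, Matrix.mul_smul, Matrix.smul_mul]
    funext i
    rcases i with ⟨⟩ | i | i <;> simp [ofX]

theorem conjLin_mul (g h : GL (Fin 2) F) (v : I3 → F) :
    conjLin (g * h) v = conjLin g (conjLin h v) := by
  show ofX _ = ofX (g.1 * toX (ofX _) * (g⁻¹).1)
  rw [toX_conj, _root_.mul_inv_rev, Units.val_mul, Units.val_mul]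
  simp only [Matrix.mul_assoc]

theorem conjLin_one (v : I3 → F) : conjLin 1 v = v := by
  show ofX _ = v
  simp [ofX_toX]

/-- Conjugation as an isometry. -/
def conjIso : GL (Fin 2) F →* oGroup (qOdd 1 F) where
  toFun g := ⟨LinearEquiv.ofLinearMap (conjLin g) (conjLin g⁻¹)
      (LinearMap.ext fun v => by
        show conjLin g (conjLin g⁻¹ v) = v
        rw [← conjLin_mul, mul_inv_cancel, conjLin_one])
      (LinearMap.ext fun v => by
        show conjLin g⁻¹ (conjLin g v) = v
        rw [← conjLin_mul, inv_mul_cancel, conjLin_one]), fun v => by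
    show qOdd 1 F (ofX _) = _
    rw [q_eq_neg_det, q_eq_neg_det, toX_conj, Matrix.det_mul, Matrix.det_mul, mul_right_comm,
      ← Matrix.det_mul, Units.mul_inv, Matrix.det_one, one_mul]⟩
  map_one' := Subtype.ext (LinearEquiv.ext fun v => by
    simp only [Subgroup.coe_one, LinearEquiv.coe_one, id_eq, LinearEquiv.coe_ofLinearMap, conjLin_one])
  map_mul' g h := Subtype.ext (LinearEquiv.ext fun v => by
    simp only [Subgroup.coe_mul, LinearEquiv.mul_apply, LinearEquiv.coe_ofLinearMap, conjLin_mul])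

theorem mulVec_eq (g : GL (Fin 2) F) {v : I3 → F} {w : I3 → F} (h : (conjIso g).1 v = w) :
    g.1 * toX v = toX w * g.1 := by
  have h' : toX (ofX (g.1 * toX v * (g⁻¹).1)) = toX w := congrArg toX h
  rw [toX_conj] at h'
  rw [← h', Matrix.mul_assoc _ (g⁻¹).1, Units.inv_mul, Matrix.mul_one]

theorem conjIso_eq_one_iff (g : GL (Fin 2) F) :
    conjIso g = 1 ↔ g.1 0 1 = 0 ∧ g.1 1 0 = 0 ∧ g.1 0 0 = g.1 1 1 := by
  constructor
  · intro h
    have e : ∀ v, g.1 * toX v = toX v * g.1 := fun v => mulVec_eq g (by rw [h]; rfl)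
    have e1 := e (Sum.elim 0 (Sum.elim 1 0))
    have e2 := e (Sum.elim 0 (Sum.elim 0 1))
    rw [Matrix.eta_fin_two g.1] at e1 e2
    simp only [toX, Matrix.mul_fin_two] at e1 e2
    have a00 := congrFun (congrFun e1 0) 0
    have a01 := congrFun (congrFun e1 0) 1
    have b00 := congrFun (congrFun e2 0) 0
    simp at a00 a01 b00
    exact ⟨b00, a00.symm, a01⟩
  · rintro ⟨h01, h10, hd⟩
    refine Subtype.ext (LinearEquiv.ext fun v => ?_)
    show ofX (g.1 * toX v * (g⁻¹).1) = v
    have hc : g.1 * toX v = toX v * g.1 := by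
      ext i j
      fin_cases i <;> fin_cases j <;>
        simp [toX, Matrix.mul_apply, Fin.sum_univ_two, h01, h10, hd, mul_comm]
    rw [hc, Matrix.mul_assoc, Units.mul_inv, Matrix.mul_one, ofX_toX]

theorem neg_notMem (h2 : (2 : F) ≠ 0) (g : GL (Fin 2) F) :
    (conjIso g).1 ≠ LinearEquiv.neg F := by
  intro h
  have e : ∀ v, g.1 * toX v = toX (-v) * g.1 := fun v => mulVec_eq g (by rw [h]; rfl)
  have e1 := e (Sum.elim 0 (Sum.elim 1 0))
  have e2 := e (Sum.elim 0 (Sum.elim 0 1))
  have e3 := e (Sum.elim 1 0)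
  rw [Matrix.eta_fin_two g.1] at e1 e2 e3
  simp only [toX, Matrix.mul_fin_two] at e1 e2 e3
  have a00 := congrFun (congrFun e1 0) 0
  have b00 := congrFun (congrFun e2 0) 0
  have c00 := congrFun (congrFun e3 0) 0
  simp at a00 b00 c00
  have hd := (Matrix.isUnits_det_units g).ne_zero
  have hz : g.1 0 0 = 0 :=
    (mul_eq_zero.1 (show (2 : F) * g.1 0 0 = 0 by linear_combination c00)).resolve_left h2
  refine hd ?_
  rw [Matrix.det_fin_two, hz, b00]
  ring

theorem card_ker_conjIso [Fintype F] :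
    Nat.card (conjIso : GL (Fin 2) F →* oGroup (qOdd 1 F)).ker = Fintype.card F - 1 := by
  let s : Fˣ →* GL (Fin 2) F := Matrix.GeneralLinearGroup.scalar (Fin 2)
  have hs : ∀ u : Fˣ, (s u).1 = Matrix.diagonal fun _ => (u : F) := fun u => rfl
  have hinj : Function.Injective s := fun u v huv => Units.ext (by
    have := congrFun (congrFun (congrArg (fun a : GL (Fin 2) F => a.1) huv) 0) 0
    simpa [hs] using this)
  have hk : (conjIso : GL (Fin 2) F →* oGroup (qOdd 1 F)).ker = s.range := by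
    ext g
    rw [MonoidHom.mem_ker, conjIso_eq_one_iff]
    constructor
    · rintro ⟨h01, h10, hd⟩
      have h0 : g.1 0 0 ≠ 0 := fun h0 => (Matrix.isUnits_det_units g).ne_zero (by
        rw [Matrix.det_fin_two, h0, h01]; ring)
      refine ⟨Units.mk0 _ h0, Units.ext ?_⟩
      rw [hs]
      ext i j
      fin_cases i <;> fin_cases j <;> simp [h01, h10, hd]
    · rintro ⟨u, rfl⟩
      simp [hs]
  rw [hk, Nat.card_congr (MonoidHom.ofInjective hinj).toEquiv.symm, Nat.card_units,
    Nat.card_eq_fintype_card]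

/-- PΩ_3(q) is isomorphic to PSL_2(q) for q odd. -/
theorem result {F : Type*} [Field F] [Fintype F] (hodd : Odd (Fintype.card F)) : Nonempty (Cfsg.POmega F (Cfsg.quadFormOdd 1 F) ≃* Matrix.ProjectiveSpecialLinearGroup (Fin 2) F) := by
  classical
  have h2 : (2 : F) ≠ 0 := Ring.two_ne_zero fun hc => by
    have := FiniteField.even_card_of_char_two hc
    have := Nat.odd_iff.1 hodd
    omega
  let G := Cfsg.isometryGroup F (Cfsg.quadFormOdd 1 F)
  let e : oGroup (qOdd 1 F) ≃* G :=
    (oEquiv (qOdd 1 F)).symm.trans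
      (MulEquiv.subgroupCongr (congrArg (Cfsg.isometryGroup F) coe_qOdd))
  let f : GL (Fin 2) F →* G := e.toMonoidHom.comp conjIso
  have hn : (LinearEquiv.neg F : (I3 → F) ≃ₗ[F] (I3 → F)) ∈ oGroup (qOdd 1 F) := fun v => by simp
  set zn : oGroup (qOdd 1 F) := ⟨LinearEquiv.neg F, hn⟩ with hzn
  set z : G := e zn with hz
  have hzc : z ∈ center G := mem_center_iff.2 fun a => by
    obtain ⟨a, rfl⟩ := e.surjective a
    rw [hz, ← map_mul, ← map_mul]
    refine congrArg e (Subtype.ext (LinearEquiv.ext fun v => ?_))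
    show a.1 (-v) = -a.1 v
    exact map_neg a.1 v
  have hfker : f.ker = (conjIso : GL (Fin 2) F →* oGroup (qOdd 1 F)).ker := by
    ext g
    simp [f, MonoidHom.mem_ker]
  -- orders
  obtain ⟨k, hk⟩ : ∃ k, Fintype.card F = k + 1 := ⟨_, (Nat.sub_add_cancel Fintype.card_pos).symm⟩
  have hk0 : 0 < k := by have := Fintype.one_lt_card (α := F); omega
  have hidx : f.range.index ≤ 2 := by
    have hO := S0286.result (F := F) rfl hodd 1
    rw [Finset.prod_range_one, one_pow, pow_one] at hO
    have hGL := LinGrp.natCard_GL_eq (F := F) (n := Fin 2)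
    have hSL := LinGrp.natCard_SL_mul (F := F) 2 (by norm_num)
    have hr : Nat.card f.range * k = Nat.card (GL (Fin 2) F) := by
      have h := card_eq_card_quotient_mul_card_subgroup f.ker
      rw [Nat.card_congr (QuotientGroup.quotientKerEquivRange f).toEquiv, hfker, card_ker_conjIso,
        hk, Nat.add_sub_cancel] at h
      exact h.symm
    have hi := f.range.card_mul_index
    have hi' : Nat.card f.range * f.range.index = Nat.card G := hi
    rw [show Nat.card G = 2 * Fintype.card F * (Fintype.card F ^ (2 * (0 + 1)) - 1) from hO] at hi'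
    rw [Nat.card_eq_fintype_card (α := F)] at hGL
    rw [hk, Fin.prod_univ_two] at hSL
    rw [hk] at hi' hGL
    simp only [Nat.add_sub_cancel, Fin.val_zero, Fin.val_one, pow_zero, pow_one, zero_add, mul_one] at hSL hGL hi'
    have e2 : (k + 1) ^ 2 - (k + 1) = (k + 1) * k := by
      rw [Nat.sub_eq_iff_eq_add (by nlinarith)]; ring
    rw [e2] at hSL
    have hr' : Nat.card f.range * k = ((k + 1) ^ 2 - 1) * (k + 1) * k := by
      rw [hr, hGL, hSL]; ring
    have hrr := Nat.eq_of_mul_eq_mul_right hk0 hr'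
    rw [hrr] at hi'
    have hpos : 0 < ((k + 1) ^ 2 - 1) * (k + 1) := hrr ▸ Nat.card_pos
    exact le_of_eq (Nat.eq_of_mul_eq_mul_left hpos (hi'.trans (by ring)))
  have hzn' : z ∉ f.range := by
    rintro ⟨g, hg⟩
    exact neg_notMem h2 g (congrArg Subtype.val (e.injective hg))
  have hi2 : f.range.index = 2 := by
    refine le_antisymm hidx ?_
    by_contra hc
    have h1 : f.range.index = 1 := by
      have := f.range.index_ne_zero_of_finite
      omega
    exact hzn' (index_eq_one.1 h1 ▸ mem_top z)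
  have hcov : ∀ x, ∃ g, x = f g ∨ x = z * f g := by
    intro x
    by_cases hx : x ∈ f.range
    · obtain ⟨g, rfl⟩ := hx
      exact ⟨g, Or.inl rfl⟩
    · obtain ⟨g, hg⟩ := (mul_mem_iff_of_index_two hi2 (a := z⁻¹) (b := x)).2
        (iff_of_false (fun h => hzn' (inv_mem_iff.1 h)) hx)
      exact ⟨g, Or.inr (by rw [hg, mul_inv_cancel_left])⟩
  have hGL : commutator (GL (Fin 2) F) =
      (Matrix.SpecialLinearGroup.toGL : Matrix.SpecialLinearGroup (Fin 2) F →* GL (Fin 2) F).range := by
    rw [LinGrp.range_toGL_eq_ker_det, LinGrp.commutator_GL_eq fun _ => ⟨2, h2, ?_⟩]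
    intro h
    exact one_ne_zero (show (1 : F) = 0 by linear_combination h)
  let ψ := f.comp (Matrix.SpecialLinearGroup.toGL : Matrix.SpecialLinearGroup (Fin 2) F →* GL (Fin 2) F)
  refine OrthSmall.derived_modulo_center ψ ?_ ?_ (OrthSmall.center_PSL2 h2)
  · rw [OrthSmall.commutator_eq_map f z hzc hcov, hGL, MonoidHom.map_range]
  · ext g
    show f (Matrix.SpecialLinearGroup.toGL g) = 1 ↔ _
    rw [← MonoidHom.mem_ker, hfker, MonoidHom.mem_ker, conjIso_eq_one_iff]
    exact ⟨fun ⟨a, b, c⟩ => OrthSmall.mem_center_SL2 a b c, OrthSmall.eq_zero_of_mem_center⟩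

end Cfsg.Agent.S0298
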