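import Cfsg.Statements.S0299
import Cfsg.Agent.Lib.LinearGroups.OrthSmall
import Cfsg.Agent.S0287
import Mathlib


set_option autoImplicit false
open Cfsg

namespace Cfsg.Agent.S0299

open Subgroup

open Matrix FormsLib OrthOrder

variable {F : Type*} [Field F]

abbrev I4 := Fin 2 ⊕ Fin 2

/-- Vectors as two by two matrices. -/
def toX (v : I4 → F) : Matrix (Fin 2) (Fin 2) F :=
  !![v (.inl 0), v (.inl 1); -v (.inr 1), v (.inr 0)]

/-- Coordinates of a matrix. -/
def ofX (X : Matrix (Fin 2) (Fin 2) F) : I4 → F :=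
  Sum.elim ![X 0 0, X 0 1] ![X 1 1, -X 1 0]

theorem toX_ofX (X : Matrix (Fin 2) (Fin 2) F) : toX (ofX X) = X := by
  ext i j
  fin_cases i <;> fin_cases j <;> simp [ofX, toX]

theorem ofX_toX (v : I4 → F) : ofX (toX v) = v := by
  funext i
  rcases i with i | i <;> fin_cases i <;> simp [ofX, toX]

theorem q_eq_det (v : I4 → F) : qPlus 2 F v = (toX v).det := by
  rw [qPlus_apply, toX, Matrix.det_fin_two_of]
  simp [Cfsg.quadFormPlus, Fin.sum_univ_two]

theorem toX_add (u v : I4 → F) : toX (u + v) = toX u + toX v := by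
  ext i j; fin_cases i <;> fin_cases j <;> simp [toX, add_comm]

theorem toX_smul (c : F) (v : I4 → F) : toX (c • v) = c • toX v := by
  ext i j; fin_cases i <;> fin_cases j <;> simp [toX]

theorem ofX_add (X Y : Matrix (Fin 2) (Fin 2) F) : ofX (X + Y) = ofX X + ofX Y := by
  funext i; rcases i with i | i <;> fin_cases i <;> simp [ofX, add_comm]

theorem ofX_smul (c : F) (X : Matrix (Fin 2) (Fin 2) F) : ofX (c • X) = c • ofX X := by
  funext i; rcases i with i | i <;> fin_cases i <;> simp [ofX]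

/-- Pairs of matrices with equal determinant. -/
def H0 (F : Type*) [Field F] : Subgroup (GL (Fin 2) F × GL (Fin 2) F) :=
  MonoidHom.eqLocus (Matrix.GeneralLinearGroup.det.comp (MonoidHom.fst _ _))
    (Matrix.GeneralLinearGroup.det.comp (MonoidHom.snd _ _))

theorem det_eq (g : H0 F) : g.1.1.1.det = g.1.2.1.det := congrArg Units.val g.2

/-- `X ↦ A X B⁻¹`. -/
def sideLin (g : GL (Fin 2) F × GL (Fin 2) F) : (I4 → F) →ₗ[F] (I4 → F) where
  toFun v := ofX (g.1.1 * toX v * (g.2⁻¹).1)
  map_add' u v := by rw [toX_add, Matrix.mul_add, Matrix.add_mul, ofX_add]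
  map_smul' c v := by rw [toX_smul, Matrix.mul_smul, Matrix.smul_mul, ofX_smul]; rfl

theorem sideLin_mul (g h : GL (Fin 2) F × GL (Fin 2) F) (v : I4 → F) :
    sideLin (g * h) v = sideLin g (sideLin h v) := by
  show ofX _ = ofX (g.1.1 * toX (ofX _) * (g.2⁻¹).1)
  rw [toX_ofX, Prod.fst_mul, Prod.snd_mul, _root_.mul_inv_rev, Units.val_mul, Units.val_mul]
  simp only [Matrix.mul_assoc]

theorem sideLin_one (v : I4 → F) : sideLin 1 v = v := by
  show ofX _ = v
  simp [ofX_toX]

/-- The two-sided action as isometries. -/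
def sideIso : H0 F →* oGroup (qPlus 2 F) where
  toFun g := ⟨LinearEquiv.ofLinearMap (sideLin g.1) (sideLin g.1⁻¹)
      (LinearMap.ext fun v => by
        show sideLin g.1 (sideLin g.1⁻¹ v) = v
        rw [← sideLin_mul, mul_inv_cancel, sideLin_one])
      (LinearMap.ext fun v => by
        show sideLin g.1⁻¹ (sideLin g.1 v) = v
        rw [← sideLin_mul, inv_mul_cancel, sideLin_one]), fun v => by
    show qPlus 2 F (ofX _) = _
    rw [q_eq_det, q_eq_det, toX_ofX, Matrix.det_mul, Matrix.det_mul, det_eq, mul_right_comm,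
      ← Matrix.det_mul, Units.mul_inv, Matrix.det_one, one_mul]⟩
  map_one' := Subtype.ext (LinearEquiv.ext fun v => by
    simp only [Subgroup.coe_one, LinearEquiv.coe_one, id_eq, LinearEquiv.coe_ofLinearMap, sideLin_one])
  map_mul' g h := Subtype.ext (LinearEquiv.ext fun v => by
    simp only [Subgroup.coe_mul, LinearEquiv.mul_apply, LinearEquiv.coe_ofLinearMap, sideLin_mul])

theorem sideIso_apply (g : H0 F) (v : I4 → F) :
    (sideIso g).1 v = ofX (g.1.1.1 * toX v * (g.1.2⁻¹).1) := rfl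

theorem side_rel {g : H0 F} {X Y : Matrix (Fin 2) (Fin 2) F} (h : (sideIso g).1 (ofX X) = ofX Y) :
    g.1.1.1 * X = Y * g.1.2.1 := by
  have h' := congrArg toX h
  rw [sideIso_apply, toX_ofX, toX_ofX, toX_ofX] at h'
  rw [← h', Matrix.mul_assoc _ (g.1.2⁻¹).1, Units.inv_mul, Matrix.mul_one]

theorem side_eq_one_iff (g : H0 F) :
    sideIso g = 1 ↔ g.1.1 = g.1.2 ∧ g.1.1.1 0 1 = 0 ∧ g.1.1.1 1 0 = 0 ∧ g.1.1.1 0 0 = g.1.1.1 1 1 := by
  constructor
  · intro h
    have e : ∀ X, g.1.1.1 * X = X * g.1.2.1 := fun X => side_rel (by rw [h]; rfl)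
    have hAB : g.1.1 = g.1.2 := Units.ext (by simpa using e 1)
    refine ⟨hAB, ?_⟩
    have e1 := e !![0, 1; 0, 0]
    have e2 := e !![0, 0; 1, 0]
    rw [← hAB, Matrix.eta_fin_two g.1.1.1] at e1 e2
    simp only [Matrix.mul_fin_two] at e1 e2
    have a00 := congrFun (congrFun e1 0) 0
    have a01 := congrFun (congrFun e1 0) 1
    have b00 := congrFun (congrFun e2 0) 0
    simp at a00 a01 b00
    exact ⟨b00, a00.symm, a01⟩
  · rintro ⟨hAB, h01, h10, hd⟩
    refine Subtype.ext (LinearEquiv.ext fun v => ?_)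
    rw [sideIso_apply]
    show ofX _ = v
    have hc : g.1.1.1 * toX v = toX v * g.1.1.1 := by
      ext i j
      fin_cases i <;> fin_cases j <;>
        simp [toX, Matrix.mul_apply, Fin.sum_univ_two, h01, h10, hd, mul_comm]
    rw [hc, ← hAB, Matrix.mul_assoc, Units.mul_inv, Matrix.mul_one, ofX_toX]

/-- Transposition. -/
def transLin : (I4 → F) →ₗ[F] (I4 → F) where
  toFun v := ofX (toX v)ᵀ
  map_add' u v := by rw [toX_add, Matrix.transpose_add, ofX_add]
  map_smul' c v := by rw [toX_smul, Matrix.transpose_smul, ofX_smul]; rfl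

theorem transLin_transLin (v : I4 → F) : transLin (transLin v) = v := by
  show ofX (toX (ofX _))ᵀ = v
  rw [toX_ofX, Matrix.transpose_transpose, ofX_toX]

/-- Transposition as an isometry. -/
def transIso : oGroup (qPlus 2 F) :=
  ⟨LinearEquiv.ofLinearMap transLin transLin (LinearMap.ext transLin_transLin)
    (LinearMap.ext transLin_transLin), fun v => by
      show qPlus 2 F (ofX _) = _
      rw [q_eq_det, q_eq_det, toX_ofX, Matrix.det_transpose]⟩

theorem transIso_apply (v : I4 → F) : (transIso : oGroup (qPlus 2 F)).1 v = ofX (toX v)ᵀ := rfl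

theorem transIso_mul_self : (transIso : oGroup (qPlus 2 F)) * transIso = 1 :=
  Subtype.ext (LinearEquiv.ext transLin_transLin)

theorem trans_notMem (g : H0 F) : sideIso g ≠ transIso := by
  intro h
  have e : ∀ X, g.1.1.1 * X = Xᵀ * g.1.2.1 := fun X => side_rel (by
    rw [h, transIso_apply, toX_ofX])
  have hAB : g.1.1 = g.1.2 := Units.ext (by simpa using e 1)
  have e1 := e !![0, 1; 0, 0]
  have e2 := e !![1, 0; 0, 0]
  rw [← hAB] at e1 e2
  have hd := (Matrix.isUnits_det_units g.1.1).ne_zero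
  have t1 : (!![0, 1; 0, 0] : Matrix (Fin 2) (Fin 2) F)ᵀ = !![0, 0; 1, 0] := by
    ext i j; fin_cases i <;> fin_cases j <;> simp
  have t2 : (!![1, 0; 0, 0] : Matrix (Fin 2) (Fin 2) F)ᵀ = !![1, 0; 0, 0] := by
    ext i j; fin_cases i <;> fin_cases j <;> simp
  rw [t1, Matrix.eta_fin_two g.1.1.1] at e1
  rw [t2, Matrix.eta_fin_two g.1.1.1] at e2
  simp only [Matrix.mul_fin_two] at e1 e2
  have a01 := congrFun (congrFun e1 0) 1
  have b01 := congrFun (congrFun e2 0) 1
  simp at a01 b01
  refine hd ?_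
  rw [Matrix.det_fin_two, a01, ← b01]
  ring

theorem card_H0 [Fintype F] :
    Nat.card (H0 F) = Nat.card (GL (Fin 2) F) * Nat.card (Matrix.SpecialLinearGroup (Fin 2) F) := by
  rw [← Nat.card_prod]
  refine (Nat.card_congr (Equiv.ofBijective (fun p : GL (Fin 2) F × Matrix.SpecialLinearGroup (Fin 2) F =>
    (⟨(p.1, p.1 * Matrix.SpecialLinearGroup.toGL p.2), ?_⟩ : H0 F)) ⟨?_, ?_⟩)).symm
  · show Matrix.GeneralLinearGroup.det p.1 = Matrix.GeneralLinearGroup.det (p.1 * _)
    rw [map_mul, MonoidHom.mem_ker.1 (LinGrp.range_toGL_eq_ker_det (F := F) (n := Fin 2) ▸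
      ⟨p.2, rfl⟩ : Matrix.SpecialLinearGroup.toGL p.2 ∈ (Matrix.GeneralLinearGroup.det : GL (Fin 2) F →* Fˣ).ker), mul_one]
  · intro p p' hp
    have h1 : p.1 = p'.1 := congrArg (fun z : H0 F => z.1.1) hp
    have h2 : p.1 * _ = p'.1 * _ := congrArg (fun z : H0 F => z.1.2) hp
    rw [h1, mul_left_cancel_iff] at h2
    exact Prod.ext h1 (Matrix.SpecialLinearGroup.ext _ _ fun i j =>
      congrFun (congrFun (congrArg (fun a : GL (Fin 2) F => a.1) h2) i) j)
  · rintro ⟨⟨A, B⟩, hAB⟩
    obtain ⟨s, hs⟩ : A⁻¹ * B ∈ (Matrix.SpecialLinearGroup.toGL :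
        Matrix.SpecialLinearGroup (Fin 2) F →* GL (Fin 2) F).range := by
      rw [LinGrp.range_toGL_eq_ker_det, MonoidHom.mem_ker, map_mul, map_inv,
        show Matrix.GeneralLinearGroup.det A = Matrix.GeneralLinearGroup.det B from hAB, inv_mul_cancel]
    exact ⟨(A, s), Subtype.ext (Prod.ext rfl (by
      show A * Matrix.SpecialLinearGroup.toGL s = B
      rw [hs, mul_inv_cancel_left]))⟩

theorem card_ker_side [Fintype F] :
    Nat.card (sideIso : H0 F →* oGroup (qPlus 2 F)).ker = Fintype.card F - 1 := by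
  let s : Fˣ →* GL (Fin 2) F := Matrix.GeneralLinearGroup.scalar (Fin 2)
  have hs : ∀ u : Fˣ, (s u).1 = Matrix.diagonal fun _ => (u : F) := fun u => rfl
  let t : Fˣ →* H0 F := (s.prod s).codRestrict (H0 F) fun u => rfl
  have hst : ∀ u, (t u).1 = (s u, s u) := fun u => rfl
  have hinj : Function.Injective t := fun u v huv => Units.ext (by
    have := congrFun (congrFun (congrArg (fun a : H0 F => a.1.1.1) huv) 0) 0
    simpa [hst, hs, -MonoidHom.coe_mk] using this)
  have hk : (sideIso : H0 F →* oGroup (qPlus 2 F)).ker = t.range := by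
    ext g
    rw [MonoidHom.mem_ker, side_eq_one_iff]
    constructor
    · rintro ⟨hAB, h01, h10, hd⟩
      have h0 : g.1.1.1 0 0 ≠ 0 := fun h0 => (Matrix.isUnits_det_units g.1.1).ne_zero (by
        rw [Matrix.det_fin_two, h0, h01]; ring)
      have he : s (Units.mk0 _ h0) = g.1.1 := Units.ext (by
        rw [hs]
        ext i j
        fin_cases i <;> fin_cases j <;> simp [h01, h10, hd])
      exact ⟨Units.mk0 _ h0, Subtype.ext (Prod.ext he (he.trans hAB))⟩
    · rintro ⟨u, rfl⟩
      simp [hst, hs]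
  rw [hk, Nat.card_congr (MonoidHom.ofInjective hinj).toEquiv.symm, Nat.card_units,
    Nat.card_eq_fintype_card]

/-- `SL × SL` inside `H0`. -/
def slPair : Matrix.SpecialLinearGroup (Fin 2) F × Matrix.SpecialLinearGroup (Fin 2) F →* H0 F :=
  (MonoidHom.prodMap Matrix.SpecialLinearGroup.toGL Matrix.SpecialLinearGroup.toGL).codRestrict (H0 F)
    fun p => Units.ext (p.1.2.trans p.2.2.symm)

theorem mem_range_slPair {h : H0 F} (h1 : h.1.1.1.det = 1) : h ∈ (slPair : _ →* H0 F).range := by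
  refine ⟨(⟨h.1.1.1, h1⟩, ⟨h.1.2.1, (det_eq h).symm.trans h1⟩), Subtype.ext (Prod.ext ?_ ?_)⟩ <;>
    exact Units.ext rfl

/-- A pair is, up to the kernel, a pair of determinant one when the determinant is a square. -/
theorem side_mem_range {h : H0 F} (d : F) (hd : h.1.1.1.det = d ^ 2) :
    sideIso h ∈ (sideIso.comp (slPair : _ →* H0 F)).range := by
  have hd0 : d ≠ 0 := fun h0 => (Matrix.isUnits_det_units h.1.1).ne_zero (by rw [hd, h0]; ring)
  let s : Fˣ →* GL (Fin 2) F := Matrix.GeneralLinearGroup.scalar (Fin 2)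
  let c : H0 F := ⟨(s (Units.mk0 d hd0)⁻¹, s (Units.mk0 d hd0)⁻¹), rfl⟩
  have hc : sideIso c = 1 := by
    rw [side_eq_one_iff]
    simp [c, s, Matrix.GeneralLinearGroup.scalar]
  have hdet : (h * c).1.1.1.det = 1 := by
    show (h.1.1.1 * Matrix.diagonal fun _ => d⁻¹).det = 1
    rw [Matrix.det_mul, hd, Matrix.det_diagonal, Fin.prod_univ_two]
    field_simp
  obtain ⟨p, hp⟩ := mem_range_slPair hdet
  exact ⟨p, by rw [MonoidHom.comp_apply, hp, map_mul, hc, mul_one]⟩

/-- PΩ^+_4(q) is isomorphic to PSL_2(q) x PSL_2(q) for q at least 3. -/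
theorem result {F : Type*} [Field F] [Fintype F] (hF : 3 ≤ Fintype.card F) : Nonempty (Cfsg.POmega F (Cfsg.quadFormPlus 2 F) ≃* Matrix.ProjectiveSpecialLinearGroup (Fin 2) F × Matrix.ProjectiveSpecialLinearGroup (Fin 2) F) := by
  classical
  let G := Cfsg.isometryGroup F (Cfsg.quadFormPlus 2 F)
  have hq : (⇑(qPlus 2 F) : (I4 → F) → F) = Cfsg.quadFormPlus 2 F := funext (qPlus_apply 2)
  let e : oGroup (qPlus 2 F) ≃* G :=
    (oEquiv (qPlus 2 F)).symm.trans
      (MulEquiv.subgroupCongr (congrArg (Cfsg.isometryGroup F) hq))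
  let f : H0 F →* G := e.toMonoidHom.comp sideIso
  let τ : G := e transIso
  -- orders
  obtain ⟨k, hk⟩ : ∃ k, Fintype.card F = k + 1 := ⟨_, (Nat.sub_add_cancel Fintype.card_pos).symm⟩
  have hk0 : 0 < k := by omega
  have hfker : f.ker = (sideIso : H0 F →* oGroup (qPlus 2 F)).ker := by
    ext g
    simp [f, MonoidHom.mem_ker]
  have hidx : f.range.index ≤ 2 := by
    have hO := S0287.result (F := F) rfl 2 (by norm_num)
    have hGL := LinGrp.natCard_GL_eq (F := F) (n := Fin 2)
    have hSL := LinGrp.natCard_SL_mul (F := F) 2 (by norm_num)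
    have hr : Nat.card f.range * k = Nat.card (H0 F) := by
      have h := card_eq_card_quotient_mul_card_subgroup f.ker
      rw [Nat.card_congr (QuotientGroup.quotientKerEquivRange f).toEquiv, hfker, card_ker_side,
        hk, Nat.add_sub_cancel] at h
      exact h.symm
    have hi' : Nat.card f.range * f.range.index = Nat.card G := f.range.card_mul_index
    rw [show Nat.card G = _ from hO] at hi'
    rw [Nat.card_eq_fintype_card (α := F)] at hGL
    rw [hk, Fin.prod_univ_two] at hSL
    rw [card_H0, hGL] at hr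
    rw [hk] at hi' hr
    simp only [Nat.reduceAdd, Nat.reduceSub, Finset.prod_range_one, Nat.add_sub_cancel, Fin.val_zero,
      Fin.val_one, pow_zero, pow_one, zero_add, mul_one, Nat.reduceMul] at hSL hr hi'
    have e2 : (k + 1) ^ 2 - (k + 1) = (k + 1) * k := by
      rw [Nat.sub_eq_iff_eq_add (by nlinarith)]; ring
    rw [e2] at hSL
    have hSL' : Nat.card (Matrix.SpecialLinearGroup (Fin 2) F) = ((k + 1) ^ 2 - 1) * (k + 1) :=
      Nat.eq_of_mul_eq_mul_left hk0 (by rw [hSL]; ring)
    have hrr := Nat.eq_of_mul_eq_mul_right hk0 (hr.trans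
      (show k * Nat.card (Matrix.SpecialLinearGroup (Fin 2) F) * Nat.card (Matrix.SpecialLinearGroup (Fin 2) F) =
        (Nat.card (Matrix.SpecialLinearGroup (Fin 2) F) * Nat.card (Matrix.SpecialLinearGroup (Fin 2) F)) * k by ring))
    rw [hrr, hSL'] at hi'
    have hpos : 0 < ((k + 1) ^ 2 - 1) * (k + 1) * (((k + 1) ^ 2 - 1) * (k + 1)) :=
      hSL' ▸ hrr ▸ Nat.card_pos
    exact le_of_eq (Nat.eq_of_mul_eq_mul_left hpos (hi'.trans (by ring)))
  have hτ : τ ∉ f.range := by
    rintro ⟨g, hg⟩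
    exact trans_notMem g (e.injective hg)
  have hi2 : f.range.index = 2 := by
    refine le_antisymm hidx ?_
    by_contra hc
    have h1 : f.range.index = 1 := by
      have := f.range.index_ne_zero_of_finite
      omega
    exact hτ (index_eq_one.1 h1 ▸ mem_top τ)
  let ψ := f.comp (slPair : Matrix.SpecialLinearGroup (Fin 2) F × Matrix.SpecialLinearGroup (Fin 2) F →* H0 F)
  have hmem : ∀ h : H0 F, (∃ d, h.1.1.1.det = d ^ 2) → f h ∈ ψ.range := by
    rintro h ⟨d, hd⟩
    obtain ⟨p, hp⟩ := side_mem_range d hd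
    exact ⟨p, congrArg e hp⟩
  have hsq : ∀ x : G, x * x ∈ ψ.range := by
    intro x
    by_cases hx : x ∈ f.range
    · obtain ⟨h, rfl⟩ := hx
      rw [← map_mul]
      exact hmem _ ⟨h.1.1.1.det, by
        show (h.1.1.1 * h.1.1.1).det = _
        rw [Matrix.det_mul, pow_two]⟩
    · obtain ⟨h, hh⟩ := (mul_mem_iff_of_index_two hi2 (a := τ) (b := x)).2 (iff_of_false hτ hx)
      have ht : τ⁻¹ = τ := inv_eq_of_mul_eq_one_right (by rw [← map_mul, transIso_mul_self, map_one])
      have hx' : x = τ * f h := by rw [hh, ← mul_assoc, ← map_mul, transIso_mul_self, map_one, one_mul]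
      -- the conjugate pair
      let tI : GL (Fin 2) F → GL (Fin 2) F := fun a =>
        Matrix.GeneralLinearGroup.mkOfDetNeZero ((a⁻¹).1)ᵀ (by
          rw [Matrix.det_transpose]; exact (Matrix.isUnits_det_units _).ne_zero)
      have htI : ∀ a : GL (Fin 2) F, (tI a).1 = ((a⁻¹).1)ᵀ := fun a => rfl
      let h' : H0 F := ⟨(tI h.1.2, tI h.1.1), Units.ext (by
        show (tI h.1.2).1.det = (tI h.1.1).1.det
        rw [htI, htI, Matrix.det_transpose, Matrix.det_transpose, Matrix.coe_units_inv,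
          Matrix.coe_units_inv, Matrix.det_nonsing_inv, Matrix.det_nonsing_inv, det_eq])⟩
      have hconj : transIso * sideIso h * transIso = sideIso h' := by
        refine Subtype.ext (LinearEquiv.ext fun v => ?_)
        simp only [Subgroup.coe_mul, LinearEquiv.mul_apply, transIso_apply, sideIso_apply, toX_ofX,
          Matrix.transpose_mul, Matrix.transpose_transpose]
        have hinv : ((tI h.1.1)⁻¹).1 = (h.1.1.1)ᵀ := by
          rw [Matrix.coe_units_inv, htI, ← Matrix.transpose_nonsing_inv, ← Matrix.coe_units_inv, inv_inv]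
        show _ = ofX ((tI h.1.2).1 * toX v * ((tI h.1.1)⁻¹).1)
        rw [htI, hinv, Matrix.mul_assoc]
      have hxx : x * x = f (h' * h) := by
        rw [hx', map_mul f h' h]
        show e transIso * e (sideIso h) * (e transIso * e (sideIso h)) = e (sideIso h') * e (sideIso h)
        rw [← hconj, map_mul, map_mul]
        simp only [mul_assoc]
      rw [hxx]
      refine hmem _ ⟨1, ?_⟩
      show ((tI h.1.2).1 * h.1.1.1).det = _
      rw [Matrix.det_mul, htI, Matrix.det_transpose, det_eq, ← Matrix.det_mul, Units.inv_mul,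
        Matrix.det_one, one_pow]
  have hGL : commutator (GL (Fin 2) F) =
      (Matrix.SpecialLinearGroup.toGL : Matrix.SpecialLinearGroup (Fin 2) F →* GL (Fin 2) F).range := by
    rw [LinGrp.range_toGL_eq_ker_det, LinGrp.commutator_GL_eq fun _ => ?_]
    obtain ⟨a, ha⟩ : ∃ a, a ∉ ({0, 1} : Finset F) := Finset.exists_mem_notMem_of_card_lt_card
      (s := ({0, 1} : Finset F)) (t := Finset.univ) (by
        have := Finset.card_le_two (a := (0 : F)) (b := 1)
        rw [Finset.card_univ]; omega) |> fun ⟨a, _, ha⟩ => ⟨a, ha⟩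
    simp at ha
    exact ⟨a, ha.1, ha.2⟩
  let diagU : Fˣ →* GL (Fin 2) F :=
    { toFun := fun u => Matrix.GeneralLinearGroup.mkOfDetNeZero !![(u : F), 0; 0, 1] (by simp [Matrix.det_fin_two])
      map_one' := by
        apply Units.ext
        show !![((1 : Fˣ) : F), 0; 0, 1] = (1 : Matrix (Fin 2) (Fin 2) F)
        rw [Units.val_one, Matrix.one_fin_two]
      map_mul' := fun u v => by
        apply Units.ext
        show !![((u * v : Fˣ) : F), 0; 0, 1] = !![(u : F), 0; 0, 1] * !![(v : F), 0; 0, 1]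
        rw [Matrix.mul_fin_two]; simp }
  let dd := diagU.comp (Matrix.GeneralLinearGroup.det : GL (Fin 2) F →* Fˣ)
  have hdd : ∀ a, Matrix.GeneralLinearGroup.det (dd a) = Matrix.GeneralLinearGroup.det a := fun a => by
    apply Units.ext
    show (!![((Matrix.GeneralLinearGroup.det a : Fˣ) : F), 0; 0, 1] : Matrix (Fin 2) (Fin 2) F).det = _
    simp [Matrix.det_fin_two]
  have hdd1 : ∀ s : Matrix.SpecialLinearGroup (Fin 2) F, dd (Matrix.SpecialLinearGroup.toGL s) = 1 := fun s => by
    show diagU _ = 1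
    rw [show Matrix.GeneralLinearGroup.det (Matrix.SpecialLinearGroup.toGL s) = 1 from Units.ext s.2,
      map_one]
  let j₁ : GL (Fin 2) F →* H0 F := ((MonoidHom.id _).prod dd).codRestrict (H0 F) fun a => (hdd a).symm
  let j₂ : GL (Fin 2) F →* H0 F := (dd.prod (MonoidHom.id _)).codRestrict (H0 F) fun a => hdd a
  have hsub : ∀ (j : GL (Fin 2) F →* H0 F) (s : Matrix.SpecialLinearGroup (Fin 2) F),
      f (j (Matrix.SpecialLinearGroup.toGL s)) ∈ commutator G := by
    intro j s
    have hs : Matrix.SpecialLinearGroup.toGL s ∈ commutator (GL (Fin 2) F) := hGL ▸ ⟨s, rfl⟩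
    have hm : (commutator (GL (Fin 2) F)).map (f.comp j) ≤ commutator G := by
      rw [_root_.commutator_def, map_commutator]
      exact commutator_mono le_top le_top
    exact hm ⟨_, hs, rfl⟩
  have hr : commutator G = ψ.range := by
    refine le_antisymm (OrthSmall.commutator_le_of_sq _ hsq) ?_
    rintro _ ⟨⟨s, t⟩, rfl⟩
    have hst : slPair (s, t) = j₁ (Matrix.SpecialLinearGroup.toGL s) * j₂ (Matrix.SpecialLinearGroup.toGL t) :=
      Subtype.ext (Prod.ext
        (by show _ = Matrix.SpecialLinearGroup.toGL s * dd (Matrix.SpecialLinearGroup.toGL t)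
            rw [hdd1, mul_one]; rfl)
        (by show _ = dd (Matrix.SpecialLinearGroup.toGL s) * Matrix.SpecialLinearGroup.toGL t
            rw [hdd1, one_mul]; rfl))
    show f (slPair (s, t)) ∈ _
    rw [hst, map_mul]
    exact mul_mem (hsub j₁ s) (hsub j₂ t)
  let π : Matrix.SpecialLinearGroup (Fin 2) F × Matrix.SpecialLinearGroup (Fin 2) F →*
      Matrix.ProjectiveSpecialLinearGroup (Fin 2) F × Matrix.ProjectiveSpecialLinearGroup (Fin 2) F :=
    MonoidHom.prodMap (QuotientGroup.mk' _) (QuotientGroup.mk' _)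
  have hπs : Function.Surjective π :=
    fun p => ⟨(p.1.out, p.2.out), Prod.ext (QuotientGroup.out_eq' p.1) (QuotientGroup.out_eq' p.2)⟩
  have hπk : π.ker = center (Matrix.SpecialLinearGroup (Fin 2) F × Matrix.SpecialLinearGroup (Fin 2) F) := by
    ext ⟨s, t⟩
    simp only [π, MonoidHom.mem_ker, MonoidHom.coe_prodMap, Prod.map_apply, QuotientGroup.mk'_apply,
      Prod.mk_eq_one, QuotientGroup.eq_one_iff, mem_center_iff]
    exact ⟨fun ⟨a, b⟩ p => Prod.ext (a p.1) (b p.2), fun hp =>
      ⟨fun a => congrArg Prod.fst (hp (a, 1)), fun b => congrArg Prod.snd (hp (1, b))⟩⟩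
  let eπ := (QuotientGroup.quotientMulEquivOfEq hπk).symm.trans
    (QuotientGroup.quotientKerEquivOfSurjective π hπs)
  have hc : center ((Matrix.SpecialLinearGroup (Fin 2) F × Matrix.SpecialLinearGroup (Fin 2) F) ⧸
      center (Matrix.SpecialLinearGroup (Fin 2) F × Matrix.SpecialLinearGroup (Fin 2) F)) = ⊥ := by
    rw [eq_bot_iff]
    intro a ha
    rw [mem_bot]
    refine eπ.injective ?_
    rw [map_one]
    have h : ∀ b, b * eπ a = eπ a * b := fun b => by
      obtain ⟨b, rfl⟩ := eπ.surjective b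
      rw [← map_mul, ← map_mul, mem_center_iff.1 ha b]
    have hbot := OrthSmall.center_PSL2_any (F := F)
    refine Prod.ext ?_ ?_
    · rw [Prod.fst_one, ← mem_bot, ← hbot, mem_center_iff]
      exact fun b => congrArg Prod.fst (h (b, 1))
    · rw [Prod.snd_one, ← mem_bot, ← hbot, mem_center_iff]
      exact fun b => congrArg Prod.snd (h (1, b))
  have hψk : ψ.ker ≤ center (Matrix.SpecialLinearGroup (Fin 2) F × Matrix.SpecialLinearGroup (Fin 2) F) := by
    rintro ⟨s, t⟩ hst
    have h1 : slPair (s, t) ∈ f.ker := hst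
    rw [hfker, MonoidHom.mem_ker, side_eq_one_iff] at h1
    obtain ⟨hAB, h01, h10, hd⟩ := h1
    have hst' : s = t := Matrix.SpecialLinearGroup.ext _ _ fun i j =>
      congrFun (congrFun (congrArg (fun a : GL (Fin 2) F => a.1) hAB) i) j
    subst hst'
    have hs := OrthSmall.mem_center_SL2 (g := s) h01 h10 hd
    exact mem_center_iff.2 fun p => Prod.ext (mem_center_iff.1 hs p.1) (mem_center_iff.1 hs p.2)
  obtain ⟨E⟩ := OrthSmall.derived_modulo_center_le ψ hr hψk hc
  exact ⟨E.trans eπ⟩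

end Cfsg.Agent.S0299
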