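import Cfsg.Statements.S0300
import Cfsg.Agent.Lib.LinearGroups.OrthSmall
import Cfsg.Agent.S0288
import Mathlib


set_option autoImplicit false
open Cfsg

namespace Cfsg.Agent.S0300

open Subgroup

open Matrix FormsLib OrthOrder

abbrev I := (Fin 1 ⊕ Fin 1) ⊕ Fin 2

/-- The data of a quadratic extension `K / F` with root `μ` of `X² - a X + b`. -/
structure QuadData (F K : Type*) [Field F] [Field K] [Algebra F K] where
  a : F
  b : F
  μ : K
  σ : K →ₐ[F] K
  sum_eq : μ + σ μ = algebraMap F K a
  prod_eq : μ * σ μ = algebraMap F K b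
  invol : ∀ x, σ (σ x) = x
  ne : σ μ ≠ μ
  coord : (F × F) ≃ₗ[F] K
  coord_apply : ∀ z, coord z = algebraMap F K z.1 + z.2 • μ

variable {F K : Type*} [Field F] [Field K] [Algebra F K] (D : QuadData F K)

/-- The quadratic form as a `QuadraticForm`. -/
noncomputable def qM (a b : F) : QuadraticForm F (I → F) :=
  QuadraticMap.linMulLin (LinearMap.proj (.inl (.inl 0))) (LinearMap.proj (.inl (.inr 0))) +
    (QuadraticMap.linMulLin (LinearMap.proj (.inr 0)) (LinearMap.proj (.inr 0)) +
    a • QuadraticMap.linMulLin (LinearMap.proj (.inr 0)) (LinearMap.proj (.inr 1)) +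
    b • QuadraticMap.linMulLin (LinearMap.proj (.inr 1)) (LinearMap.proj (.inr 1)))

theorem qM_apply (a b : F) (v : I → F) : qM a b v = Cfsg.quadFormMinus 1 F a b v := by
  simp [qM, Cfsg.quadFormMinus, sq, mul_assoc]

/-- Vectors as Hermitian matrices. -/
noncomputable def toX : (I → F) →ₗ[F] Matrix (Fin 2) (Fin 2) K where
  toFun v := !![algebraMap F K (v (.inl (.inl 0))), D.coord (v (.inr 0), v (.inr 1));
    D.σ (D.coord (v (.inr 0), v (.inr 1))), -algebraMap F K (v (.inl (.inr 0)))]
  map_add' u v := by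
    simp only [Pi.add_apply, ← Prod.mk_add_mk, map_add]
    ext i j; fin_cases i <;> fin_cases j <;> simp [add_comm]
  map_smul' c v := by
    simp only [Pi.smul_apply, ← Prod.smul_mk, map_smul]
    ext i j; fin_cases i <;> fin_cases j <;> simp [Algebra.smul_def]

/-- Coordinates of a matrix. -/
noncomputable def ofX : Matrix (Fin 2) (Fin 2) K →ₗ[F] (I → F) where
  toFun X := Sum.elim (Sum.elim ![(D.coord.symm (X 0 0)).1] ![-(D.coord.symm (X 1 1)).1])
    ![(D.coord.symm (X 0 1)).1, (D.coord.symm (X 0 1)).2]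
  map_add' X Y := by
    funext i; rcases i with (i | i) | i <;> fin_cases i <;> simp [add_comm]
  map_smul' c X := by
    funext i; rcases i with (i | i) | i <;> fin_cases i <;> simp

theorem coord_symm_algebraMap (x : F) : D.coord.symm (algebraMap F K x) = (x, 0) := by
  rw [LinearEquiv.symm_apply_eq, D.coord_apply]; simp

theorem ofX_toX (v : I → F) : ofX D (toX D v) = v := by
  funext i; rcases i with (i | i) | i <;> fin_cases i <;> simp [ofX, toX, coord_symm_algebraMap]

/-- Conjugate transposition. -/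
def twist (A : Matrix (Fin 2) (Fin 2) K) : Matrix (Fin 2) (Fin 2) K := (A.map D.σ)ᵀ

theorem twist_mul (A B : Matrix (Fin 2) (Fin 2) K) : twist D (A * B) = twist D B * twist D A := by
  rw [twist, twist, twist, Matrix.map_mul, Matrix.transpose_mul]

theorem twist_twist (A : Matrix (Fin 2) (Fin 2) K) : twist D (twist D A) = A := by
  ext i j; simp [twist, D.invol]

theorem twist_one : twist D (1 : Matrix (Fin 2) (Fin 2) K) = 1 := by
  rw [twist, Matrix.map_one _ (map_zero _) (map_one _), Matrix.transpose_one]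

theorem det_twist (A : Matrix (Fin 2) (Fin 2) K) : (twist D A).det = D.σ A.det := by
  rw [twist, Matrix.det_transpose, Matrix.det_fin_two, Matrix.det_fin_two]
  simp

theorem twist_toX (v : I → F) : twist D (toX D v) = toX D v := by
  ext i j
  fin_cases i <;> fin_cases j <;> simp [twist, toX, D.invol]

theorem fixed_eq {x : K} (h : D.σ x = x) : ∃ c, x = algebraMap F K c := by
  obtain ⟨z, rfl⟩ := D.coord.surjective x
  refine ⟨z.1, ?_⟩
  rw [D.coord_apply, map_add, map_smul, AlgHom.commutes, add_right_inj] at h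
  rw [D.coord_apply]
  by_cases h0 : z.2 = 0
  · simp [h0]
  · exact absurd (smul_right_injective K h0 h) D.ne

theorem toX_ofX {X : Matrix (Fin 2) (Fin 2) K} (h : twist D X = X) : toX D (ofX D X) = X := by
  have h00 : D.σ (X 0 0) = X 0 0 := by simpa [twist] using congrFun (congrFun h 0) 0
  have h11 : D.σ (X 1 1) = X 1 1 := by simpa [twist] using congrFun (congrFun h 1) 1
  have h10 : D.σ (X 0 1) = X 1 0 := by simpa [twist] using congrFun (congrFun h 1) 0
  obtain ⟨c, hc⟩ := fixed_eq D h00
  obtain ⟨d, hd⟩ := fixed_eq D h11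
  ext i j
  fin_cases i <;> fin_cases j <;>
    simp [toX, ofX, hc, hd, ← h10, coord_symm_algebraMap]

theorem norm_coord (z : F × F) : D.coord z * D.σ (D.coord z) =
    algebraMap F K (z.1 ^ 2 + D.a * z.1 * z.2 + D.b * z.2 ^ 2) := by
  rw [D.coord_apply, Algebra.smul_def, map_add, map_mul, AlgHom.commutes, AlgHom.commutes]
  simp only [map_add, map_mul, map_pow]
  linear_combination algebraMap F K z.1 * algebraMap F K z.2 * D.sum_eq +
    algebraMap F K z.2 ^ 2 * D.prod_eq

theorem det_toX (v : I → F) : (toX D v).det = -algebraMap F K (qM D.a D.b v) := by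
  rw [Matrix.det_fin_two, qM_apply]
  simp [toX, Cfsg.quadFormMinus]
  have h := norm_coord D (v (.inr 0), v (.inr 1))
  simp only [map_add, map_mul, map_pow] at h
  linear_combination -h

/-- Matrices whose determinant has norm one. -/
def H0 : Subgroup (GL (Fin 2) K) :=
  (((MonoidHom.id Kˣ) * (Units.map (D.σ : K →* K))).comp Matrix.GeneralLinearGroup.det).ker

theorem mem_H0 {A : GL (Fin 2) K} : A ∈ H0 D ↔ A.1.det * D.σ A.1.det = 1 := by
  rw [H0, MonoidHom.mem_ker, Units.ext_iff]
  rfl

/-- `X ↦ A X A*` on coordinates. -/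
noncomputable def actLin (A : Matrix (Fin 2) (Fin 2) K) : (I → F) →ₗ[F] (I → F) where
  toFun v := ofX D (A * toX D v * twist D A)
  map_add' u v := by rw [map_add, Matrix.mul_add, Matrix.add_mul, map_add]
  map_smul' c v := by rw [map_smul, Matrix.mul_smul, Matrix.smul_mul, map_smul]; rfl

theorem toX_actLin (A : Matrix (Fin 2) (Fin 2) K) (v : I → F) :
    toX D (actLin D A v) = A * toX D v * twist D A :=
  toX_ofX D (by rw [twist_mul, twist_mul, twist_twist, twist_toX, Matrix.mul_assoc])

theorem actLin_mul (A B : Matrix (Fin 2) (Fin 2) K) (v : I → F) :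
    actLin D (A * B) v = actLin D A (actLin D B v) := by
  show ofX D _ = ofX D (A * toX D (actLin D B v) * twist D A)
  rw [toX_actLin, twist_mul]
  simp only [Matrix.mul_assoc]

theorem actLin_one (v : I → F) : actLin D 1 v = v := by
  show ofX D _ = v
  rw [twist_one, Matrix.one_mul, Matrix.mul_one, ofX_toX]

/-- The action as isometries. -/
noncomputable def actIso : H0 D →* oGroup (qM D.a D.b) where
  toFun g := ⟨LinearEquiv.ofLinearMap (actLin D g.1.1) (actLin D (g.1⁻¹).1)
      (LinearMap.ext fun v => by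
        show actLin D g.1.1 (actLin D (g.1⁻¹).1 v) = v
        rw [← actLin_mul, Units.mul_inv, actLin_one])
      (LinearMap.ext fun v => by
        show actLin D (g.1⁻¹).1 (actLin D g.1.1 v) = v
        rw [← actLin_mul, Units.inv_mul, actLin_one]), fun v => by
    show qM D.a D.b (actLin D g.1.1 v) = _
    refine (algebraMap F K).injective (neg_injective ?_)
    rw [← det_toX, ← det_toX, toX_actLin, Matrix.det_mul, Matrix.det_mul, det_twist, mul_right_comm,
      (mem_H0 D).1 g.2, one_mul]⟩
  map_one' := Subtype.ext (LinearEquiv.ext fun v => by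
    simp only [Subgroup.coe_one, LinearEquiv.coe_one, id_eq, LinearEquiv.coe_ofLinearMap, Units.val_one, actLin_one])
  map_mul' g h := Subtype.ext (LinearEquiv.ext fun v => by
    simp only [Subgroup.coe_mul, LinearEquiv.mul_apply, LinearEquiv.coe_ofLinearMap, Units.val_mul, actLin_mul])

theorem actIso_apply (g : H0 D) (v : I → F) : (actIso D g).1 v = actLin D g.1.1 v := rfl

/-- The vectors of `diag(1,0)`, `diag(0,-1)` and the antidiagonal. -/
def probe : Fin 3 → (I → F) :=
  ![Pi.single (.inl (.inl 0)) 1, Pi.single (.inl (.inr 0)) 1, Pi.single (.inr 0) 1]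

theorem scalar_of_probe (g : H0 D) (h : ∀ i, (actIso D g).1 (probe i) = probe i) :
    g.1.1 0 1 = 0 ∧ g.1.1 1 0 = 0 ∧ g.1.1 0 0 = g.1.1 1 1 ∧ g.1.1 0 0 * D.σ (g.1.1 0 0) = 1 := by
  have e : ∀ i, g.1.1 * toX D (probe i) * twist D g.1.1 = toX D (probe (F := F) i) := fun i => by
    rw [← toX_actLin, ← actIso_apply, h]
  have p0 : toX D (probe 0) = !![1, 0; 0, 0] := by
    ext i j; fin_cases i <;> fin_cases j <;> simp [toX, probe, D.coord_apply]
  have p1 : toX D (probe 1) = !![0, 0; 0, -1] := by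
    ext i j; fin_cases i <;> fin_cases j <;> simp [toX, probe, D.coord_apply]
  have p2 : toX D (probe 2) = !![0, 1; 1, 0] := by
    ext i j; fin_cases i <;> fin_cases j <;> simp [toX, probe, D.coord_apply]
  have e0 := e 0; have e1 := e 1; have e2 := e 2
  rw [p0] at e0; rw [p1] at e1; rw [p2] at e2
  have a00 := congrFun (congrFun e0 0) 0
  have a11 := congrFun (congrFun e0 1) 1
  have b00 := congrFun (congrFun e1 0) 0
  have c01 := congrFun (congrFun e2 0) 1
  simp [Matrix.mul_apply, Fin.sum_univ_two, twist] at a00 a11 b00 c01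
  have h10 : g.1.1 1 0 = 0 := a11
  have h01 : g.1.1 0 1 = 0 := b00
  rw [h01, h10] at c01
  simp at c01
  refine ⟨h01, h10, ?_, a00⟩
  have h3 : D.σ (g.1.1 1 1) = D.σ (g.1.1 0 0) :=
    mul_left_cancel₀ (left_ne_zero_of_mul_eq_one a00) (c01.trans a00.symm)
  exact ((congrArg D.σ h3).symm.trans (D.invol _) |>.symm.trans (D.invol _)).symm

theorem actIso_eq_one (g : H0 D) (h01 : g.1.1 0 1 = 0) (h10 : g.1.1 1 0 = 0)
    (hd : g.1.1 0 0 = g.1.1 1 1) (hn : g.1.1 0 0 * D.σ (g.1.1 0 0) = 1) : actIso D g = 1 := by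
  refine Subtype.ext (LinearEquiv.ext fun v => ?_)
  show ofX D _ = v
  suffices g.1.1 * toX D v * twist D g.1.1 = toX D v by rw [this, ofX_toX]
  ext i j
  fin_cases i <;> fin_cases j <;>
    simp [Matrix.mul_apply, Fin.sum_univ_two, twist, h01, h10, ← hd] <;>
    linear_combination (toX D v _ _) * hn

theorem probe_iff (g : H0 D) : (∀ i, (actIso D g).1 (probe i) = probe i) → actIso D g = 1 := fun h =>
  have ⟨h01, h10, hd, hn⟩ := scalar_of_probe D g h
  actIso_eq_one D g h01 h10 hd hn

/-- Transposition. -/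
noncomputable def transLin : (I → F) →ₗ[F] (I → F) where
  toFun v := ofX D (toX D v)ᵀ
  map_add' u v := by rw [map_add, Matrix.transpose_add, map_add]
  map_smul' c v := by rw [map_smul, Matrix.transpose_smul, map_smul]; rfl

theorem toX_transLin (v : I → F) : toX D (transLin D v) = (toX D v)ᵀ :=
  toX_ofX D (by
    conv_rhs => rw [← twist_toX D v]
    rw [twist, twist, Matrix.transpose_transpose, ← Matrix.transpose_map, Matrix.transpose_transpose])

theorem transLin_transLin (v : I → F) : transLin D (transLin D v) = v := by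
  show ofX D (toX D (transLin D v))ᵀ = v
  rw [toX_transLin, Matrix.transpose_transpose, ofX_toX]

/-- Transposition as an isometry. -/
noncomputable def transIso : oGroup (qM D.a D.b) :=
  ⟨LinearEquiv.ofLinearMap (transLin D) (transLin D) (LinearMap.ext (transLin_transLin D))
    (LinearMap.ext (transLin_transLin D)), fun v => by
      show qM D.a D.b (transLin D v) = _
      refine (algebraMap F K).injective (neg_injective ?_)
      rw [← det_toX, ← det_toX, toX_transLin, Matrix.det_transpose]⟩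

theorem transIso_apply (v : I → F) : (transIso D).1 v = transLin D v := rfl

theorem transIso_mul_self : transIso D * transIso D = 1 :=
  Subtype.ext (LinearEquiv.ext (transLin_transLin D))

theorem trans_notMem (g : H0 D) : actIso D g ≠ transIso D := by
  intro h
  have hp : ∀ i, transLin D (probe (F := F) i) = probe i := by
    intro i
    show ofX D _ = _
    suffices (toX D (probe (F := F) i))ᵀ = toX D (probe i) by rw [this, ofX_toX]
    fin_cases i <;> (ext j k; fin_cases j <;> fin_cases k <;> simp [toX, probe, D.coord_apply])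
  have h1 := probe_iff D g fun i => by rw [h, transIso_apply, hp]
  rw [h] at h1
  have h2 : transLin D (Pi.single (.inr 1) 1) = Pi.single (.inr 1) 1 := by
    rw [← transIso_apply, h1]; rfl
  have h3 := congrArg (toX D) h2
  rw [toX_transLin] at h3
  have h4 := congrFun (congrFun h3 1) 0
  simp [toX, D.coord_apply] at h4
  exact D.ne h4.symm

theorem card_lower [Fintype F] [Fintype K] {q : ℕ} (hK : Fintype.card K = q ^ 2) (hq : 1 < q)
    (hσ : ∀ x, D.σ x = x ^ q) :
    Nat.card (Matrix.SpecialLinearGroup (Fin 2) K) * (q + 1) ≤ Nat.card (H0 D) := by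
  classical
  obtain ⟨g, hg⟩ := IsCyclic.exists_ofOrder_eq_natCard (α := Kˣ)
  have hgo : orderOf g = (q + 1) * (q - 1) := by
    rw [hg, Nat.card_units, Nat.card_eq_fintype_card, hK, ← Nat.sq_sub_sq, one_pow]
  have huo : orderOf (g ^ (q - 1)) = q + 1 := by
    rw [orderOf_pow_of_dvd (by omega) (hgo ▸ dvd_mul_left _ _), hgo, Nat.mul_div_cancel _ (by omega)]
  have hu : ((g ^ (q - 1) : Kˣ) : K) ^ (q + 1) = 1 := by
    rw [← Units.val_pow_eq_pow_val, ← huo, pow_orderOf_eq_one, Units.val_one]
  let d : Fin (q + 1) → GL (Fin 2) K := fun i =>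
    Matrix.GeneralLinearGroup.mkOfDetNeZero !![((g ^ (q - 1) : Kˣ) : K) ^ (i : ℕ), 0; 0, 1]
      (by simp [Matrix.det_fin_two])
  have hdet : ∀ i, (d i).1.det = ((g ^ (q - 1) : Kˣ) : K) ^ (i : ℕ) := fun i => by
    show Matrix.det !![_, 0; 0, 1] = _
    simp [Matrix.det_fin_two]
  rw [← Nat.card_fin (q + 1), ← Nat.card_prod]
  refine Nat.card_le_card_of_injective (fun p : Matrix.SpecialLinearGroup (Fin 2) K × Fin (q + 1) =>
    (⟨d p.2 * Matrix.SpecialLinearGroup.toGL p.1, (mem_H0 D).2 ?_⟩ : H0 D)) ?_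
  · show (_ * p.1.1).det * D.σ (_ * p.1.1).det = 1
    rw [Matrix.det_mul, p.1.2, mul_one, hdet, hσ, ← pow_succ', ← pow_mul, mul_comm, pow_mul, hu, one_pow]
  · rintro ⟨s, i⟩ ⟨t, j⟩ h
    have h1 := congrArg (fun z : H0 D => z.1.1.det) h
    simp only [Units.val_mul, Matrix.det_mul, hdet] at h1
    rw [show (Matrix.SpecialLinearGroup.toGL s).1.det = 1 from s.2,
      show (Matrix.SpecialLinearGroup.toGL t).1.det = 1 from t.2, mul_one, mul_one,
      ← Units.val_pow_eq_pow_val, ← Units.val_pow_eq_pow_val] at h1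
    have h2 := pow_injOn_Iio_orderOf (x := g ^ (q - 1)) (by rw [huo]; exact i.2) (by rw [huo]; exact j.2)
      (Units.ext h1)
    obtain rfl := Fin.ext h2
    have h3 := mul_left_cancel (congrArg Subtype.val h)
    exact Prod.ext (Matrix.SpecialLinearGroup.ext _ _ fun a b =>
      congrFun (congrFun (congrArg (fun z : GL (Fin 2) K => z.1) h3) a) b) rfl

theorem card_ker [Fintype F] [Fintype K] {q : ℕ} (hσ : ∀ x, D.σ x = x ^ q) :
    Nat.card (actIso D).ker ≤ q + 1 := by
  classical
  let S : Finset K := (Polynomial.nthRoots (q + 1) (1 : K)).toFinset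
  have hS : S.card ≤ q + 1 :=
    (Multiset.toFinset_card_le _).trans (Polynomial.card_nthRoots _ _)
  refine le_trans ?_ hS
  rw [← Nat.card_eq_finsetCard]
  have hsc : ∀ g : (actIso D).ker, g.1.1.1 0 1 = 0 ∧ g.1.1.1 1 0 = 0 ∧ g.1.1.1 0 0 = g.1.1.1 1 1 ∧
      g.1.1.1 0 0 * D.σ (g.1.1.1 0 0) = 1 := fun g =>
    scalar_of_probe D g.1 fun i => by rw [MonoidHom.mem_ker.1 g.2]; rfl
  refine Nat.card_le_card_of_injective (fun g => (⟨g.1.1.1 0 0, ?_⟩ : S)) ?_
  · rw [Multiset.mem_toFinset, Polynomial.mem_nthRoots (by omega), pow_succ', ← hσ]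
    exact (hsc g).2.2.2
  · intro g g' h
    obtain ⟨a1, a2, a3, -⟩ := hsc g
    obtain ⟨b1, b2, b3, -⟩ := hsc g'
    have h' : g.1.1.1 0 0 = g'.1.1.1 0 0 := congrArg Subtype.val h
    refine Subtype.ext (Subtype.ext (Units.ext ?_))
    ext i j
    fin_cases i <;> fin_cases j <;> simp [a1, a2, b1, b2, h', ← a3, ← b3]

/-- `SL_2(K)` inside `H0`. -/
def slIn : Matrix.SpecialLinearGroup (Fin 2) K →* H0 D :=
  Matrix.SpecialLinearGroup.toGL.codRestrict (H0 D) fun s => (mem_H0 D).2 (by
    show s.1.det * D.σ s.1.det = 1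
    rw [s.2, map_one, mul_one])

theorem act_mem_range {h : H0 D} (d : K) (hn : d * D.σ d = 1) (hd : h.1.1.det = d ^ 2) :
    actIso D h ∈ ((actIso D).comp (slIn D)).range := by
  have hd0 : d ≠ 0 := left_ne_zero_of_mul_eq_one hn
  have hn' : d⁻¹ * D.σ d⁻¹ = 1 := by rw [map_inv₀, ← mul_inv, hn, inv_one]
  let c : H0 D := ⟨Matrix.GeneralLinearGroup.scalar (Fin 2) (Units.mk0 d hd0)⁻¹, (mem_H0 D).2 (by
    show (Matrix.diagonal fun _ => d⁻¹).det * D.σ (Matrix.diagonal fun _ => d⁻¹).det = 1
    rw [Matrix.det_diagonal, Fin.prod_univ_two, map_mul]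
    linear_combination (d⁻¹ * D.σ d⁻¹ + 1) * hn')⟩
  have hc : actIso D c = 1 := by
    refine actIso_eq_one D c ?_ ?_ ?_ ?_ <;>
      simp [c, Matrix.GeneralLinearGroup.scalar]
    simpa using hn'
  have hdet : (h * c).1.1.det = 1 := by
    show (h.1.1 * Matrix.diagonal fun _ => d⁻¹).det = 1
    rw [Matrix.det_mul, hd, Matrix.det_diagonal, Fin.prod_univ_two]
    field_simp
  refine ⟨⟨(h * c).1.1, hdet⟩, ?_⟩
  show actIso D (slIn D (⟨(h * c).1.1, hdet⟩ : Matrix.SpecialLinearGroup (Fin 2) K)) = actIso D h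
  have he : slIn D (⟨(h * c).1.1, hdet⟩ : Matrix.SpecialLinearGroup (Fin 2) K) = h * c :=
    Subtype.ext (Units.ext rfl)
  rw [he, map_mul, hc, mul_one]

theorem iso_of_data [Fintype F] [Fintype K] {q : ℕ} (hF : Fintype.card F = q) (hK : Fintype.card K = q ^ 2)
    (hσ : ∀ x, D.σ x = x ^ q)
    (hab : ∀ z₁ z₂ : F, z₁ ^ 2 + D.a * z₁ * z₂ + D.b * z₂ ^ 2 = 0 → z₁ = 0 ∧ z₂ = 0) :
    Nonempty (Cfsg.POmega F (Cfsg.quadFormMinus 1 F D.a D.b) ≃* Matrix.ProjectiveSpecialLinearGroup (Fin 2) K) := by
  classical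
  have hq : 1 < q := hF ▸ Fintype.one_lt_card
  let G := Cfsg.isometryGroup F (Cfsg.quadFormMinus 1 F D.a D.b)
  have hQ : (⇑(qM D.a D.b) : (I → F) → F) = Cfsg.quadFormMinus 1 F D.a D.b := funext (qM_apply _ _)
  let e : oGroup (qM D.a D.b) ≃* G :=
    (oEquiv (qM D.a D.b)).symm.trans (MulEquiv.subgroupCongr (congrArg (Cfsg.isometryGroup F) hQ))
  let f : H0 D →* G := e.toMonoidHom.comp (actIso D)
  let τ : G := e (transIso D)
  have hfker : f.ker = (actIso D).ker := by
    ext g
    simp [f, MonoidHom.mem_ker]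
  have hidx : f.range.index ≤ 2 := by
    have hO := S0288.result (F := F) hF 2 (by norm_num) D.a D.b hab
    have hSL := LinGrp.natCard_SL_mul (F := K) 2 (by norm_num)
    have h := card_eq_card_quotient_mul_card_subgroup f.ker
    rw [Nat.card_congr (QuotientGroup.quotientKerEquivRange f).toEquiv, hfker] at h
    have h1 := card_lower D hK hq hσ
    rw [h] at h1
    have hr : Nat.card (Matrix.SpecialLinearGroup (Fin 2) K) ≤ Nat.card f.range :=
      Nat.le_of_mul_le_mul_right (h1.trans (Nat.mul_le_mul_left _ (card_ker D hσ))) (by omega)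
    have hi' : Nat.card f.range * f.range.index = Nat.card G := f.range.card_mul_index
    rw [show Nat.card G = _ from hO] at hi'
    rw [hK, Fin.prod_univ_two] at hSL
    simp only [Nat.reduceAdd, Nat.reduceSub, Finset.prod_range_one, Fin.val_zero,
      Fin.val_one, pow_zero, pow_one, zero_add, mul_one, Nat.reduceMul] at hSL hi'
    have hq2 : 1 < q ^ 2 := Nat.one_lt_pow two_ne_zero hq
    rw [show (q ^ 2) ^ 2 - q ^ 2 = q ^ 2 * (q ^ 2 - 1) by rw [Nat.mul_sub, ← sq, mul_one]] at hSL
    have hS : Nat.card (Matrix.SpecialLinearGroup (Fin 2) K) = ((q ^ 2) ^ 2 - 1) * q ^ 2 :=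
      Nat.eq_of_mul_eq_mul_left (show 0 < q ^ 2 - 1 by omega) (by rw [hSL]; ring)
    have hpos : 0 < Nat.card (Matrix.SpecialLinearGroup (Fin 2) K) := Nat.card_pos
    refine Nat.le_of_mul_le_mul_left ?_ hpos
    refine le_trans (Nat.mul_le_mul_right _ hr) (le_of_eq ?_)
    rw [hi', hS, show (q ^ 2) ^ 2 - 1 = (q ^ 2 + 1) * (q ^ 2 - 1) from by
      rw [← Nat.sq_sub_sq, one_pow]]
    ring
  have hτ : τ ∉ f.range := by
    rintro ⟨g, hg⟩
    exact trans_notMem D g (e.injective hg)
  have hi2 : f.range.index = 2 := by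
    refine le_antisymm hidx ?_
    by_contra hc
    have h1 : f.range.index = 1 := by
      have := f.range.index_ne_zero_of_finite
      omega
    exact hτ (index_eq_one.1 h1 ▸ mem_top τ)
  let ψ := f.comp (slIn D)
  have hmem : ∀ h : H0 D, (∃ d, d * D.σ d = 1 ∧ h.1.1.det = d ^ 2) → f h ∈ ψ.range := by
    rintro h ⟨d, hn, hd⟩
    obtain ⟨p, hp⟩ := act_mem_range D d hn hd
    exact ⟨p, congrArg e hp⟩
  have hsq : ∀ x : G, x * x ∈ ψ.range := by
    intro x
    by_cases hx : x ∈ f.range
    · obtain ⟨h, rfl⟩ := hx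
      rw [← map_mul]
      exact hmem _ ⟨h.1.1.det, (mem_H0 D).1 h.2, by
        show (h.1.1 * h.1.1).det = _
        rw [Matrix.det_mul, pow_two]⟩
    · obtain ⟨h, hh⟩ := (mul_mem_iff_of_index_two hi2 (a := τ) (b := x)).2 (iff_of_false hτ hx)
      have hx' : x = τ * f h := by rw [hh, ← mul_assoc, ← map_mul, transIso_mul_self, map_one, one_mul]
      let h' : H0 D := ⟨Matrix.GeneralLinearGroup.map (D.σ : K →+* K) h.1, (mem_H0 D).2 (by
        have h1 := (mem_H0 D).1 h.2
        show (h.1.1.map D.σ).det * D.σ (h.1.1.map D.σ).det = 1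
        rw [show (h.1.1.map D.σ).det = D.σ h.1.1.det from (RingHom.map_det (D.σ : K →+* K) _).symm,
          D.invol, mul_comm, h1])⟩
      have hconj : transIso D * actIso D h * transIso D = actIso D h' := by
        refine Subtype.ext (LinearEquiv.ext fun v => ?_)
        simp only [Subgroup.coe_mul, LinearEquiv.mul_apply, transIso_apply, actIso_apply]
        show ofX D (toX D (actLin D h.1.1 (transLin D v)))ᵀ =
          ofX D (h.1.1.map D.σ * toX D v * twist D (h.1.1.map D.σ))
        rw [toX_actLin, toX_transLin, Matrix.transpose_mul, Matrix.transpose_mul,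
          Matrix.transpose_transpose, Matrix.mul_assoc]
        congr 2
        congr 1
        ext i j
        simp [twist, D.invol]
      have hxx : x * x = f (h' * h) := by
        rw [hx', map_mul f h' h]
        show e (transIso D) * e (actIso D h) * (e (transIso D) * e (actIso D h)) = e (actIso D h') * e (actIso D h)
        rw [← hconj, map_mul, map_mul]
        simp only [mul_assoc]
      rw [hxx]
      refine hmem _ ⟨1, by simp, ?_⟩
      show (h.1.1.map D.σ * h.1.1).det = _
      rw [Matrix.det_mul, show (h.1.1.map D.σ).det = D.σ h.1.1.det from (RingHom.map_det (D.σ : K →+* K) _).symm,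
        mul_comm, (mem_H0 D).1 h.2, one_pow]
  have hperf : commutator (Matrix.SpecialLinearGroup (Fin 2) K) = ⊤ := by
    obtain ⟨a, -, ha⟩ := Finset.exists_mem_notMem_of_card_lt_card
      (s := ({0, 1, -1} : Finset K)) (t := Finset.univ) (by
        have h1 := Finset.card_le_three (a := (0 : K)) (b := 1) (c := -1)
        rw [Finset.card_univ, hK]
        have h4 : 2 ^ 2 ≤ q ^ 2 := Nat.pow_le_pow_left hq 2
        omega)
    simp at ha
    exact SL2.commutator_eq_top ha.1 fun h => (sq_eq_one_iff.1 h).elim ha.2.1 ha.2.2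
  have hr : commutator G = ψ.range := by
    refine le_antisymm (OrthSmall.commutator_le_of_sq _ hsq) ?_
    rw [MonoidHom.range_eq_map, ← hperf, _root_.commutator_def, _root_.commutator_def, map_commutator]
    exact commutator_mono le_top le_top
  have hψk : ψ.ker ≤ center (Matrix.SpecialLinearGroup (Fin 2) K) := by
    intro s hs
    have h1 : slIn D s ∈ f.ker := hs
    rw [hfker, MonoidHom.mem_ker] at h1
    obtain ⟨h01, h10, hd, -⟩ := scalar_of_probe D (slIn D s) fun i => by rw [h1]; rfl
    exact OrthSmall.mem_center_SL2 h01 h10 hd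
  exact OrthSmall.derived_modulo_center_le ψ hr hψk OrthSmall.center_PSL2_any

open Polynomial in
theorem exists_data {F K : Type*} [Field F] [Fintype F] [Field K] [Fintype K] {q : ℕ} (hF : Fintype.card F = q)
    (hK : Fintype.card K = q ^ 2) (a b : F)
    (hab : ∀ z₁ z₂ : F, z₁ ^ 2 + a * z₁ * z₂ + b * z₂ ^ 2 = 0 → z₁ = 0 ∧ z₂ = 0) :
    ∃ (_ : Algebra F K) (D : QuadData F K), D.a = a ∧ D.b = b ∧ ∀ x, D.σ x = x ^ q := by
  classical
  let p : F[X] := X ^ 2 - C a * X + C b
  have hpd : p.natDegree = 2 := by simp only [p]; compute_degree!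
  have hpm : p.Monic := by simp only [p]; monicity!
  have hroot : ∀ x : F, ¬ p.IsRoot x := fun x hx => by
    simp [p] at hx
    exact one_ne_zero (hab (-x) 1 (by linear_combination hx)).2
  have hirr : Irreducible p := by
    rw [hpm.irreducible_iff_roots_eq_zero_of_degree_le_three (by omega) (by omega),
      Multiset.eq_zero_iff_forall_notMem]
    exact fun x hx => hroot x (mem_roots'.1 hx).2
  haveI := Fact.mk hirr
  let pb := AdjoinRoot.powerBasis hirr.ne_zero
  haveI : Module.Finite F (AdjoinRoot p) := pb.finite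
  haveI : Finite (AdjoinRoot p) := Module.finite_of_finite F
  letI := Fintype.ofFinite (AdjoinRoot p)
  have hc : Fintype.card (AdjoinRoot p) = Fintype.card K := by
    rw [Module.card_eq_pow_finrank (K := F), pb.finrank, AdjoinRoot.powerBasis_dim, hpd, hF, hK]
  let e := FiniteField.ringEquivOfCardEq hc
  letI alg : Algebra F K := ((e : AdjoinRoot p →+* K).comp (algebraMap F _)).toAlgebra
  have halg : ∀ x, algebraMap F K x = e (algebraMap F _ x) := fun x => rfl
  let μ : K := e (AdjoinRoot.root p)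
  have hμ : μ ^ 2 - algebraMap F K a * μ + algebraMap F K b = 0 := by
    have h := AdjoinRoot.eval₂_root p
    simp [p] at h
    rw [halg, halg, ← map_pow, ← map_mul, ← map_sub, ← map_add]
    exact (congrArg e h).trans (map_zero e)
  have hμF : ∀ x : F, algebraMap F K x ≠ μ := fun x hx =>
    hroot x (by
      simp [p]
      refine (algebraMap F K).injective ?_
      simp only [map_add, map_sub, map_mul, map_pow, map_zero, hx]
      linear_combination hμ)
  let σ : K →ₐ[F] K := FiniteField.frobeniusAlgHom F K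
  have hσ : ∀ x, σ x = x ^ q := fun x => hF ▸ rfl
  let L : (F × F) →ₗ[F] K :=
    (Algebra.linearMap F K).coprod ((LinearMap.id (R := F) (M := F)).smulRight μ)
  have hL : ∀ z, L z = algebraMap F K z.1 + z.2 • μ := fun z => rfl
  have hbij : Function.Bijective L := by
    refine (Fintype.bijective_iff_injective_and_card L).2 ⟨?_, by rw [Fintype.card_prod, hF, hK, sq]⟩
    rw [← LinearMap.ker_eq_bot, eq_bot_iff]
    rintro ⟨u, w⟩ h
    rw [LinearMap.mem_ker, hL, Algebra.smul_def] at h
    rw [Submodule.mem_bot]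
    by_cases hw : w = 0
    · subst hw
      simpa using h
    · refine absurd ?_ (hμF (-u / w))
      have hne : algebraMap F K w ≠ 0 := fun h0 => hw ((algebraMap F K).injective (h0.trans (map_zero _).symm))
      rw [map_div₀, map_neg, div_eq_iff hne]
      linear_combination -h
  have hinv : ∀ x, σ (σ x) = x := fun x => by
    rw [hσ, hσ, ← pow_mul, ← sq, ← hK, FiniteField.pow_card]
  have hne : σ μ ≠ μ := by
    intro hfix
    -- then `σ` would fix all of `K`
    have hall : ∀ x : K, x ^ q = x := fun x => by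
      obtain ⟨z, rfl⟩ := hbij.2 x
      rw [← hσ, hL, map_add, map_smul, AlgHom.commutes, hfix]
    have hq1 : 1 < q := hF ▸ Fintype.one_lt_card
    have hsub : (Finset.univ : Finset K) ⊆ (X ^ q - X : K[X]).roots.toFinset := fun x _ => by
      rw [Multiset.mem_toFinset, mem_roots (FiniteField.X_pow_card_sub_X_ne_zero K hq1)]
      simp [hall x]
    have h1 := (Finset.card_le_card hsub).trans ((Multiset.toFinset_card_le _).trans (card_roots' _))
    rw [FiniteField.X_pow_card_sub_X_natDegree_eq K hq1, Finset.card_univ, hK] at h1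
    nlinarith
  have hsum : μ + σ μ = algebraMap F K a := by
    have h2 := congrArg σ hμ
    simp only [map_add, map_sub, map_mul, map_pow, map_zero, AlgHom.commutes] at h2
    have h0 : (σ μ - μ) * (μ + σ μ - algebraMap F K a) = 0 := by linear_combination h2 - hμ
    exact sub_eq_zero.1 ((mul_eq_zero.1 h0).resolve_left (sub_ne_zero.2 hne))
  exact ⟨alg, ⟨a, b, μ, σ, hsum, by linear_combination μ * hsum - hμ, hinv, hne,
    LinearEquiv.ofBijective L hbij, fun z => hL z⟩, rfl, rfl, hσ⟩

/-- PΩ^-_4(q) is isomorphic to PSL_2(q^2). -/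
theorem result {F K : Type*} [Field F] [Fintype F] [Field K] [Fintype K] {q : ℕ} (hF : Fintype.card F = q) (hK : Fintype.card K = q ^ 2) (a b : F) (hab : ∀ z₁ z₂ : F, z₁ ^ 2 + a * z₁ * z₂ + b * z₂ ^ 2 = 0 → z₁ = 0 ∧ z₂ = 0) : Nonempty (Cfsg.POmega F (Cfsg.quadFormMinus 1 F a b) ≃* Matrix.ProjectiveSpecialLinearGroup (Fin 2) K) := by
  obtain ⟨_, D, rfl, rfl, hσ⟩ := exists_data hF hK a b hab
  exact iso_of_data D hF hK hσ hab

end Cfsg.Agent.S0300
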