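import Cfsg.Statements.S0303
import Cfsg.Agent.S0300
import Cfsg.Agent.S0302
import Cfsg.Agent.S0288
import Cfsg.Agent.S0283
import Cfsg.Agent.Lib.AutPSU.Twisted
import Cfsg.Agent.Lib.LinearGroups.UnitaryOrder
import Cfsg.Agent.Lib.SmallSimple.Basic
import Mathlib

set_option autoImplicit false
open Cfsg

namespace Cfsg.Agent.S0303

open Subgroup

open Matrix FormsLib OrthOrder S0302
open S0300 (QuadData norm_coord exists_data)

abbrev I6m := (Fin 2 ⊕ Fin 2) ⊕ Fin 2

variable {F K : Type*} [Field F] [Field K] [Algebra F K]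

/-- The form as a `QuadraticForm`. -/
noncomputable def qm (a b : F) : QuadraticForm F (I6m → F) :=
  (qSum 2 (S0288.binForm a b)).comp (LinearEquiv.sumArrowLequivProdArrow _ _ F F).toLinearMap

theorem qm_apply (a b : F) (v : I6m → F) : qm a b v = Cfsg.quadFormMinus 2 F a b v := by
  simp [qm, qSum_apply, S0288.binForm_apply, Cfsg.quadFormMinus, Cfsg.quadFormPlus]

variable (D : QuadData F K)

/-- Nondegenerate data and a norm `-1` element. -/
structure Adm where
  disc : 4 * D.b - D.a ^ 2 ≠ 0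
  c : K
  hc : c * D.σ c = -1

variable (P : Adm D)

theorem c_ne : P.c ≠ 0 := fun h => by
  have := P.hc
  rw [h, zero_mul] at this
  exact one_ne_zero (neg_eq_zero.1 this.symm)

/-- The second binary coordinates. -/
noncomputable def wc : (I6m → F) →ₗ[F] F × F where
  toFun v :=
    ((4 * D.b - D.a ^ 2)⁻¹ * (2 * D.b * (v (.inl (.inr 0)) - v (.inl (.inl 0)) - D.a * v (.inl (.inl 1))) -
        D.a * (v (.inl (.inr 1)) - D.b * v (.inl (.inl 1)))),
      (4 * D.b - D.a ^ 2)⁻¹ * (2 * (v (.inl (.inr 1)) - D.b * v (.inl (.inl 1))) -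
        D.a * (v (.inl (.inr 0)) - v (.inl (.inl 0)) - D.a * v (.inl (.inl 1)))))
  map_add' u v := by simp only [Pi.add_apply, Prod.mk_add_mk, Prod.mk.injEq]; constructor <;> ring
  map_smul' k v := by
    simp only [Pi.smul_apply, smul_eq_mul, RingHom.id_apply, Prod.smul_mk, Prod.mk.injEq]; constructor <;> ring

include P in
theorem wc_spec (v : I6m → F) :
    2 * (wc D v).1 + D.a * (wc D v).2 = v (.inl (.inr 0)) - v (.inl (.inl 0)) - D.a * v (.inl (.inl 1)) ∧
      D.a * (wc D v).1 + 2 * D.b * (wc D v).2 = v (.inl (.inr 1)) - D.b * v (.inl (.inl 1)) := by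
  have h := mul_inv_cancel₀ P.disc
  constructor
  · show 2 * (_ * _) + D.a * (_ * _) = _
    linear_combination (v (.inl (.inr 0)) - v (.inl (.inl 0)) - D.a * v (.inl (.inl 1))) * h
  · show D.a * (_ * _) + 2 * D.b * (_ * _) = _
    linear_combination (v (.inl (.inr 1)) - D.b * v (.inl (.inl 1))) * h

include P in
theorem wc_unique {v : I6m → F} {w : F × F}
    (h1 : 2 * w.1 + D.a * w.2 = v (.inl (.inr 0)) - v (.inl (.inl 0)) - D.a * v (.inl (.inl 1)))
    (h2 : D.a * w.1 + 2 * D.b * w.2 = v (.inl (.inr 1)) - D.b * v (.inl (.inl 1))) : wc D v = w := by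
  obtain ⟨e1, e2⟩ := wc_spec D P v
  refine Prod.ext ?_ ?_
  · exact mul_left_cancel₀ P.disc (by linear_combination 2 * D.b * (e1 - h1) - D.a * (e2 - h2))
  · exact mul_left_cancel₀ P.disc (by linear_combination 2 * (e2 - h2) - D.a * (e1 - h1))

/-- Three elements of `K` from coordinates. -/
noncomputable def xvec : (I6m → F) →ₗ[F] (Fin 3 → K) :=
  LinearMap.pi ![D.coord.toLinearMap.comp (wc D + (LinearMap.proj (.inl (.inl 0))).prod (LinearMap.proj (.inl (.inl 1)))),
    (LinearMap.mulLeft F P.c).comp (D.coord.toLinearMap.comp (wc D)),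
    D.coord.toLinearMap.comp ((LinearMap.proj (.inr 0)).prod (LinearMap.proj (.inr 1)))]

theorem xvec_apply (v : I6m → F) : xvec D P v =
    ![D.coord (wc D v + (v (.inl (.inl 0)), v (.inl (.inl 1)))), P.c * D.coord (wc D v),
      D.coord (v (.inr 0), v (.inr 1))] := by
  funext i; fin_cases i <;> rfl

/-- The fixed vectors of the semilinear duality. -/
noncomputable def emb : (I6m → F) →ₗ[F] (I6 → K) where
  toFun v := Sum.elim (xvec D P v) fun i => D.σ (xvec D P v i)
  map_add' u v := by funext i; rcases i with i | i <;> simp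
  map_smul' k v := by funext i; rcases i with i | i <;> simp

/-- Coordinates of a fixed vector. -/
noncomputable def prj : (I6 → K) →ₗ[F] (I6m → F) where
  toFun v :=
    let u := D.coord.symm (v (.inl 0))
    let w := D.coord.symm (P.c⁻¹ * v (.inl 1))
    let z := D.coord.symm (v (.inl 2))
    Sum.elim (Sum.elim ![u.1 - w.1, u.2 - w.2]
      ![u.1 + w.1 + D.a * u.2, D.b * (u.2 + w.2) + D.a * w.1]) ![z.1, z.2]
  map_add' u v := by
    funext i; rcases i with (i | i) | i <;> fin_cases i <;> simp [mul_add, map_add] <;> ring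
  map_smul' k v := by
    funext i; rcases i with (i | i) | i <;> fin_cases i <;> simp [mul_smul_comm, map_smul] <;> ring

theorem prj_emb (v : I6m → F) : prj D P (emb D P v) = v := by
  obtain ⟨e1, e2⟩ := wc_spec D P v
  funext i
  rcases i with (i | i) | i <;> fin_cases i <;>
    simp [prj, emb, xvec_apply, c_ne D P] <;> first | linear_combination e1 | linear_combination e2

theorem q_emb (v : I6m → F) : qPlus 3 K (emb D P v) = algebraMap F K (qm D.a D.b v) := by
  obtain ⟨e1, e2⟩ := wc_spec D P v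
  rw [qPlus_apply, qm_apply]
  simp only [Cfsg.quadFormPlus, Fin.sum_univ_three]
  simp [emb, xvec_apply, -map_add, -Prod.mk_add_mk]
  rw [norm_coord, mul_mul_mul_comm, P.hc, norm_coord, neg_one_mul, norm_coord, ← map_neg, ← map_add, ← map_add]
  congr 1
  simp [Cfsg.quadFormMinus, Fin.sum_univ_two]
  linear_combination v (.inl (.inl 0)) * e1 + v (.inl (.inl 1)) * e2

theorem swap_emb (v : I6m → F) : swapLin (emb D P v) = fun i => D.σ (emb D P v i) := by
  funext i; rcases i with i | i <;> simp [swapLin, LinearMap.funLeft, emb, D.invol]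

theorem emb_prj {v : I6 → K} (h : swapLin v = fun i => D.σ (v i)) : emb D P (prj D P v) = v := by
  have hwc : wc D (prj D P v) = D.coord.symm (P.c⁻¹ * v (.inl 1)) :=
    wc_unique D P (by simp [prj]; ring) (by simp [prj]; ring)
  have hx : ∀ i, xvec D P (prj D P v) i = v (.inl i) := by
    intro i
    rw [xvec_apply, hwc]
    fin_cases i
    · refine (Eq.trans ?_ (D.coord.apply_symm_apply (v (.inl 0))))
      simp only [Fin.zero_eta, Fin.isValue, Matrix.cons_val_zero]
      congr 1
      ext <;> simp [prj]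
    · show P.c * D.coord (D.coord.symm _) = _
      rw [LinearEquiv.apply_symm_apply, mul_inv_cancel_left₀ (c_ne D P)]
      rfl
    · simp [prj]
  funext i
  rcases i with i | i
  · exact hx i
  · show D.σ (xvec D P (prj D P v) i) = _
    rw [hx]
    exact (congrFun h (.inl i)).symm

theorem swapLin_map (v : I6 → K) :
    swapLin (fun i => D.σ (v i)) = fun i => D.σ (swapLin v i) := rfl

include P in
/-- The fixed vectors span. -/
theorem exists_span (v : I6 → K) : ∃ e₁ e₂, v = emb D P e₁ + D.μ • emb D P e₂ := by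
  have hne : D.μ - D.σ D.μ ≠ 0 := sub_ne_zero.2 (Ne.symm D.ne)
  let e : I6 → K := fun i => (v i - D.σ (swapLin v i)) / (D.μ - D.σ D.μ)
  have he : swapLin e = fun i => D.σ (e i) := by
    funext i
    show (v (Sum.swap i) - D.σ (v (Sum.swap (Sum.swap i)))) / _ = D.σ ((v i - D.σ (v (Sum.swap i))) / _)
    rw [Sum.swap_swap, map_div₀, map_sub, map_sub, D.invol, D.invol, ← neg_div_neg_eq, neg_sub, neg_sub]
  refine ⟨prj D P (v - D.μ • e), prj D P e, ?_⟩
  rw [emb_prj D P he, emb_prj D P, sub_add_cancel]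
  funext i
  have hi : D.σ (swapLin e i) = e i := by rw [he]; exact D.invol _
  have hi' : swapLin e i = D.σ (e i) := congrFun he i
  show swapLin v i - D.μ * swapLin e i = D.σ (v i - D.μ * e i)
  rw [hi', map_sub, map_mul]
  have key : D.σ (e i) * (D.μ - D.σ D.μ) = swapLin v i - D.σ (v i) := by
    rw [← hi']
    show (v (Sum.swap i) - D.σ (v (Sum.swap (Sum.swap i)))) / _ * _ = _
    rw [div_mul_cancel₀ _ hne, Sum.swap_swap]
    rfl
  linear_combination -key

include P in
theorem ext_emb {f g : (I6 → K) →ₗ[K] (I6 → K)} (h : ∀ v, f (emb D P v) = g (emb D P v)) : f = g :=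
  LinearMap.ext fun v => by
    obtain ⟨e₁, e₂, rfl⟩ := exists_span D P v
    rw [map_add, map_add, map_smul, map_smul, h, h]

/-- Unitary pairs. -/
def Hu : Subgroup (H0 K) where
  carrier := {g | g.1.1.1ᵀ * g.1.1.1.map D.σ = 1 ∧ (g.1.2 : K) * D.σ (g.1.2 : K) = 1}
  one_mem' := by simp
  mul_mem' {g h} hg hh := by
    refine ⟨?_, ?_⟩
    · show (g.1.1.1 * h.1.1.1)ᵀ * (g.1.1.1 * h.1.1.1).map D.σ = 1
      rw [Matrix.transpose_mul, Matrix.map_mul, Matrix.mul_assoc, ← Matrix.mul_assoc g.1.1.1ᵀ, hg.1,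
        Matrix.one_mul, hh.1]
    · show (g.1.2 : K) * h.1.2 * D.σ (g.1.2 * h.1.2) = 1
      rw [map_mul, mul_mul_mul_comm, hg.2, hh.2, one_mul]
  inv_mem' {g} hg := by
    refine ⟨?_, ?_⟩
    · show ((g.1.1⁻¹).1)ᵀ * (g.1.1⁻¹).1.map D.σ = 1
      calc ((g.1.1⁻¹).1)ᵀ * (g.1.1⁻¹).1.map D.σ
          = ((g.1.1⁻¹).1)ᵀ * ((g.1.1⁻¹).1.map D.σ * (g.1.1.1.map D.σ * g.1.1.1ᵀ)) := by
            rw [mul_eq_one_comm.1 hg.1, Matrix.mul_one]
        _ = ((g.1.1⁻¹).1)ᵀ * g.1.1.1ᵀ := by
            rw [← Matrix.mul_assoc _ (g.1.1.1.map D.σ), ← Matrix.map_mul, Units.inv_mul,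
              Matrix.map_one _ (map_zero _) (map_one _), Matrix.one_mul]
        _ = 1 := by rw [← Matrix.transpose_mul, Units.mul_inv, Matrix.transpose_one]
    · show ((g.1.2⁻¹ : Kˣ) : K) * D.σ ((g.1.2⁻¹ : Kˣ) : K) = 1
      rw [Units.val_inv_eq_inv_val, map_inv₀, ← mul_inv, hg.2, inv_one]

theorem toX_map (v : I6 → K) : toX (fun i => D.σ (v i)) = (toX v).map D.σ := by
  ext i j; fin_cases i <;> fin_cases j <;> simp [toX]

theorem ofX_map (X : Matrix (Fin 4) (Fin 4) K) : ofX (X.map D.σ) = fun i => D.σ (ofX X i) := by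
  funext i; rcases i with i | i <;> fin_cases i <;> simp [ofX]

theorem act_fixed (g : Hu D) {v : I6 → K} (hv : swapLin v = fun i => D.σ (v i)) :
    swapLin ((actIso g.1).1 v) = fun i => D.σ ((actIso g.1).1 v i) := by
  obtain ⟨hA, hm⟩ := g.2
  set A := g.1.1.1.1
  set m := (g.1.1.2 : K)
  have hdet : m * A.det = D.σ m := by
    have h0 := (mem_H0).1 g.1.2
    exact mul_left_cancel₀ (left_ne_zero_of_mul_eq_one hm)
      (show m * (m * A.det) = m * D.σ m by rw [hm]; linear_combination h0)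
  have hA2 : A * (A.map D.σ)ᵀ = 1 := by
    have := congrArg Matrix.transpose hA
    rw [Matrix.transpose_mul, Matrix.transpose_transpose, Matrix.transpose_one] at this
    exact mul_eq_one_comm.1 this
  have hA3 : A.map D.σ * Aᵀ = 1 := mul_eq_one_comm.1 hA
  have h := dual_conj A v
  rw [hv, toX_map] at h
  have h1 : toX (swapLin (ofX (A * toX v * Aᵀ))) =
      A.det • (A.map D.σ * (toX v).map D.σ * (A.map D.σ)ᵀ) := by
    set T := toX (swapLin (ofX (A * toX v * Aᵀ)))
    calc T = A.map D.σ * (Aᵀ * T * A) * (A.map D.σ)ᵀ := by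
          simp only [← Matrix.mul_assoc, hA3, Matrix.one_mul]
          rw [Matrix.mul_assoc, hA2, Matrix.mul_one]
      _ = _ := by rw [h, Matrix.mul_smul, Matrix.smul_mul]
  have h2 := congrArg ofX h1
  rw [ofX_toX, map_smul, ← Matrix.transpose_map, ← Matrix.map_mul, ← Matrix.map_mul, ofX_map] at h2
  funext i
  rw [actIso_apply]
  show swapLin (m • ofX (A * toX v * Aᵀ)) i = D.σ (m * ofX (A * toX v * Aᵀ) i)
  rw [map_smul, h2, Pi.smul_apply, Pi.smul_apply, smul_eq_mul, smul_eq_mul, ← mul_assoc, hdet, ← map_mul D.σ]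

theorem emb_prj_act (g : Hu D) (v : I6m → F) :
    emb D P (prj D P ((actIso g.1).1 (emb D P v))) = (actIso g.1).1 (emb D P v) :=
  emb_prj D P (act_fixed D g (swap_emb D P v))

/-- The restricted action. -/
noncomputable def resIso : Hu D →* oGroup (qm D.a D.b) where
  toFun g := ⟨LinearEquiv.ofLinearMap ((prj D P).comp (((actIso g.1).1.toLinearMap.restrictScalars F).comp (emb D P)))
      ((prj D P).comp (((actIso (g⁻¹ : Hu D).1).1.toLinearMap.restrictScalars F).comp (emb D P)))
      (LinearMap.ext fun v => by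
        show prj D P ((actIso g.1).1 (emb D P (prj D P ((actIso (g⁻¹ : Hu D).1).1 (emb D P v))))) = v
        rw [emb_prj_act, Subgroup.coe_inv, map_inv, Subgroup.coe_inv,
          show ((actIso g.1).1 ((actIso g.1).1⁻¹ (emb D P v))) = emb D P v from (actIso g.1).1.apply_symm_apply _,
          prj_emb])
      (LinearMap.ext fun v => by
        show prj D P ((actIso (g⁻¹ : Hu D).1).1 (emb D P (prj D P ((actIso g.1).1 (emb D P v))))) = v
        rw [emb_prj_act, Subgroup.coe_inv, map_inv, Subgroup.coe_inv,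
          show ((actIso g.1).1⁻¹ ((actIso g.1).1 (emb D P v))) = emb D P v from (actIso g.1).1.symm_apply_apply _,
          prj_emb]), fun v => by
    show qm D.a D.b (prj D P ((actIso g.1).1 (emb D P v))) = _
    refine (algebraMap F K).injective ?_
    rw [← q_emb D P, ← q_emb D P, emb_prj_act, (actIso g.1).2]⟩
  map_one' := Subtype.ext (LinearEquiv.ext fun v => by
    show prj D P ((actIso (1 : H0 K)).1 (emb D P v)) = v
    rw [map_one]
    exact prj_emb D P v)
  map_mul' g h := Subtype.ext (LinearEquiv.ext fun v => by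
    show prj D P ((actIso (g.1 * h.1)).1 (emb D P v)) =
      prj D P ((actIso g.1).1 (emb D P (prj D P ((actIso h.1).1 (emb D P v)))))
    rw [emb_prj_act, map_mul]
    rfl)

theorem resIso_emb (g : Hu D) (v : I6m → F) :
    emb D P ((resIso D P g).1 v) = (actIso g.1).1 (emb D P v) := emb_prj_act D P g v

theorem res_eq_one {g : Hu D} (h : resIso D P g = 1) : actIso g.1 = 1 := by
  have h' := ext_emb D P (f := (actIso g.1).1.toLinearMap) (g := LinearMap.id) fun v => by
    show (actIso g.1).1 (emb D P v) = emb D P v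
    rw [← resIso_emb, h]
    rfl
  exact Subtype.ext (LinearEquiv.toLinearMap_injective h')

/-- Duality on the fixed vectors. -/
noncomputable def swapRes : oGroup (qm D.a D.b) :=
  have hfix : ∀ v, emb D P (prj D P (swapLin (emb D P v))) = swapLin (emb D P v) := fun v =>
    emb_prj D P (by rw [swap_emb, swapLin_map, swap_emb])
  ⟨LinearEquiv.ofLinearMap ((prj D P).comp ((swapLin.restrictScalars F).comp (emb D P)))
    ((prj D P).comp ((swapLin.restrictScalars F).comp (emb D P)))
    (LinearMap.ext fun v => by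
      show prj D P (swapLin (emb D P (prj D P (swapLin (emb D P v))))) = v
      rw [hfix, swapLin_swapLin, prj_emb])
    (LinearMap.ext fun v => by
      show prj D P (swapLin (emb D P (prj D P (swapLin (emb D P v))))) = v
      rw [hfix, swapLin_swapLin, prj_emb]), fun v => by
    show qm D.a D.b (prj D P (swapLin (emb D P v))) = _
    refine (algebraMap F K).injective ?_
    rw [← q_emb D P, ← q_emb D P, hfix]
    exact (swapIso (F := K)).2 _⟩

theorem swapRes_emb (v : I6m → F) : emb D P ((swapRes D P).1 v) = swapLin (emb D P v) :=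
  by
  show emb D P (prj D P (swapLin (emb D P v))) = _
  exact emb_prj D P (by rw [swap_emb, swapLin_map, swap_emb])

theorem swapRes_mul_self : swapRes D P * swapRes D P = 1 :=
  Subtype.ext (LinearEquiv.ext fun v => by
    show prj D P (swapLin (emb D P ((swapRes D P).1 v))) = v
    rw [swapRes_emb, swapLin_swapLin, prj_emb])

theorem swapRes_notMem (g : Hu D) : resIso D P g ≠ swapRes D P := by
  intro h
  refine swap_notMem g.1 (Subtype.ext (LinearEquiv.toLinearMap_injective
    (ext_emb D P fun v => ?_)))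
  show (actIso g.1).1 (emb D P v) = swapLin (emb D P v)
  rw [← resIso_emb, h, swapRes_emb]

/-- The field automorphism on unitary pairs. -/
noncomputable def twistH (h : Hu D) : Hu D :=
  ⟨⟨(Matrix.GeneralLinearGroup.map (D.σ : K →+* K) h.1.1.1, Units.map (D.σ : K →* K) h.1.1.2), (mem_H0).2 (by
    show D.σ (h.1.1.2 : K) ^ 2 * (h.1.1.1.1.map D.σ).det = 1
    rw [show (h.1.1.1.1.map D.σ).det = D.σ h.1.1.1.1.det from (RingHom.map_det (D.σ : K →+* K) _).symm,
      ← map_pow, ← map_mul, (mem_H0).1 h.1.2, map_one])⟩, by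
    obtain ⟨h1, h2⟩ := h.2
    refine ⟨?_, ?_⟩
    · show (h.1.1.1.1.map D.σ)ᵀ * (h.1.1.1.1.map D.σ).map D.σ = 1
      rw [← Matrix.transpose_map, ← Matrix.map_mul, h1, Matrix.map_one _ (map_zero _) (map_one _)]
    · show D.σ (h.1.1.2 : K) * D.σ (D.σ (h.1.1.2 : K)) = 1
      rw [← map_mul, h2, map_one]⟩

theorem swap_conj (h : Hu D) :
    swapRes D P * resIso D P h * swapRes D P = resIso D P (twistH D h) := by
  refine Subtype.ext (LinearEquiv.ext fun v => (Function.LeftInverse.injective (prj_emb D P)) ?_)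
  simp only [Subgroup.coe_mul, LinearEquiv.mul_apply]
  rw [swapRes_emb, resIso_emb, resIso_emb, act_fixed D h (swap_emb D P _), swapRes_emb, swap_emb]
  funext i
  rw [actIso_apply, actIso_apply]
  show D.σ ((h.1.1.2 : K) * ofX (h.1.1.1.1 * toX (fun i => D.σ (emb D P v i)) * h.1.1.1.1ᵀ) i) =
    D.σ (h.1.1.2 : K) * ofX (h.1.1.1.1.map D.σ * toX (emb D P v) * (h.1.1.1.1.map D.σ)ᵀ) i
  rw [map_mul, toX_map]
  congr 1
  rw [← congrFun (ofX_map D _) i, Matrix.map_mul, Matrix.map_mul, Matrix.transpose_map]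
  have hinv : ∀ X : Matrix (Fin 4) (Fin 4) K, (X.map D.σ).map D.σ = X := fun X =>
    Matrix.ext fun a b => D.invol _
  rw [hinv]

theorem iso_of_data [Fintype F] [Fintype K] {q : ℕ} (hF : Fintype.card F = q) (hK : Fintype.card K = q ^ 2)
    (hσ : ∀ x, D.σ x = x ^ q)
    (hab : ∀ z₁ z₂ : F, z₁ ^ 2 + D.a * z₁ * z₂ + D.b * z₂ ^ 2 = 0 → z₁ = 0 ∧ z₂ = 0) :
    Nonempty (Cfsg.POmega F (Cfsg.quadFormMinus 2 F D.a D.b) ≃* Cfsg.PSU 4 K q) := by
  classical
  haveI := AutPSU.QField.of_card hK
  have hqb : (⇑(AutPSU.qb (F := K) q) : K → K) = D.σ :=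
    funext fun x => by rw [AutPSU.qb_apply, hσ]
  have hdisc : 4 * D.b - D.a ^ 2 ≠ 0 := by
    intro h0
    have hdg := (QuadraticMap.polarBilin (S0288.binForm D.a D.b)).Nondegenerate
    by_cases h2 : (2 : F) = 0
    · have ha : D.a = 0 := (pow_eq_zero_iff two_ne_zero).1 (by linear_combination -h0 + 2 * D.b * h2)
      haveI : CharP F 2 := CharTwo.of_one_ne_zero_of_two_eq_zero one_ne_zero h2
      obtain ⟨c, hc⟩ := FiniteField.isSquare_of_char_two (ringChar.eq F 2) (-D.b)
      exact one_ne_zero (hab c 1 (by rw [ha]; linear_combination -hc)).2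
    · exact h2 (hab (-D.a) 2 (by linear_combination h0)).2
  obtain ⟨c, hc⟩ := AutPSU.exists_norm (F := K) (q := q) (c := -1) (by simp)
  rw [hqb] at hc
  let P : Adm D := ⟨hdisc, c, hc⟩
  let G := Cfsg.isometryGroup F (Cfsg.quadFormMinus 2 F D.a D.b)
  have hQ : (⇑(qm D.a D.b) : (I6m → F) → F) = Cfsg.quadFormMinus 2 F D.a D.b := funext (qm_apply _ _)
  let e : oGroup (qm D.a D.b) ≃* G :=
    (oEquiv (qm D.a D.b)).symm.trans (MulEquiv.subgroupCongr (congrArg (Cfsg.isometryGroup F) hQ))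
  let f : Hu D →* G := e.toMonoidHom.comp (resIso D P)
  let τ : G := e (swapRes D P)
  let N := (powMonoidHom (q + 1) : Kˣ →* Kˣ).ker
  have hN : Nat.card N = q + 1 := UnitaryOrder.card_norm_one_units hK
  have hN1 : ∀ u : Kˣ, u ∈ N ↔ (u : K) * D.σ u = 1 := fun u => by
    rw [MonoidHom.mem_ker, Units.ext_iff, hσ, ← pow_succ']
    simp
  have hsu : ∀ s : Cfsg.SU 4 K q, s.1.1ᵀ * s.1.1.map D.σ = 1 := fun s => by
    have h := (AutPSU.mem_GU_iff_mat (g := Matrix.SpecialLinearGroup.toGL s.1)).1 s.2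
    rw [hqb] at h
    exact h
  let suIn : Cfsg.SU 4 K q →* Hu D :=
    ((slIn (F := K)).comp (Cfsg.SU 4 K q).subtype).codRestrict (Hu D) fun s => ⟨hsu s, by
      show ((1 : Kˣ) : K) * D.σ ((1 : Kˣ) : K) = 1
      simp⟩
  have hidx : f.range.index ≤ 2 := by
    have hO := S0288.result (F := F) hF 3 (by norm_num) D.a D.b hab
    have hSU := UnitaryOrder.card_SU hK 4 (by norm_num)
    rw [UnitaryOrder.card_GU hK 4] at hSU
    have h := card_eq_card_quotient_mul_card_subgroup f.ker
    rw [Nat.card_congr (QuotientGroup.quotientKerEquivRange f).toEquiv] at h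
    have h1 : Nat.card (Cfsg.SU 4 K q) * (q + 1) ≤ Nat.card (Hu D) := by
      rw [← hN, ← Nat.card_prod]
      let d : N → GL (Fin 4) K := fun u =>
        Matrix.GeneralLinearGroup.mkOfDetNeZero (Matrix.diagonal ![((u.1 : Kˣ) : K) ^ 2, 1, 1, 1])
          (by simp [Matrix.det_diagonal, Fin.prod_univ_four])
      refine Nat.card_le_card_of_injective (fun p : Cfsg.SU 4 K q × N =>
        (⟨⟨(d p.2 * Matrix.SpecialLinearGroup.toGL p.1.1, (p.2.1)⁻¹), (mem_H0).2 ?_⟩, ?_, ?_⟩ : Hu D)) ?_
      · show (((p.2.1)⁻¹ : Kˣ) : K) ^ 2 * ((Matrix.diagonal ![((p.2.1 : Kˣ) : K) ^ 2, 1, 1, 1]) * p.1.1.1).det = 1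
        rw [Matrix.det_mul, p.1.1.2, mul_one, Matrix.det_diagonal, Fin.prod_univ_four]
        simp [← mul_pow]
      · show ((Matrix.diagonal ![((p.2.1 : Kˣ) : K) ^ 2, 1, 1, 1]) * p.1.1.1)ᵀ *
          ((Matrix.diagonal ![((p.2.1 : Kˣ) : K) ^ 2, 1, 1, 1]) * p.1.1.1).map D.σ = 1
        have hd : Matrix.diagonal ![((p.2.1 : Kˣ) : K) ^ 2, 1, 1, 1] *
            (Matrix.diagonal ![((p.2.1 : Kˣ) : K) ^ 2, 1, 1, 1]).map D.σ = 1 := by
          rw [Matrix.diagonal_map (map_zero _), Matrix.diagonal_mul_diagonal, ← Matrix.diagonal_one]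
          congr 1
          funext i
          fin_cases i <;> simp [← mul_pow, (hN1 _).1 p.2.2]
        rw [Matrix.map_mul, Matrix.transpose_mul, Matrix.diagonal_transpose, Matrix.mul_assoc,
          ← Matrix.mul_assoc (Matrix.diagonal _), hd, Matrix.one_mul, hsu]
      · show (((p.2.1)⁻¹ : Kˣ) : K) * D.σ (((p.2.1)⁻¹ : Kˣ) : K) = 1
        exact (hN1 _).1 (inv_mem p.2.2)
      · rintro ⟨s, u⟩ ⟨t, w⟩ hp
        have h1 : u = w := Subtype.ext (inv_injective (congrArg (fun z : Hu D => z.1.1.2) hp))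
        subst h1
        have h2 := mul_left_cancel (congrArg (fun z : Hu D => z.1.1.1) hp)
        exact Prod.ext (Subtype.ext (Matrix.SpecialLinearGroup.ext _ _ fun a b =>
          congrFun (congrFun (congrArg (fun z : GL (Fin 4) K => z.1) h2) a) b)) rfl
    have hk : Nat.card f.ker ≤ q + 1 := by
      rw [← hN]
      have hsc : ∀ g : f.ker, ∃ u : N, g.1.1.1.1.1 = Matrix.scalar (Fin 4) ((u.1 : Kˣ) : K) ∧
          (g.1.1.1.2 : K) * (((u.1 : Kˣ) : K) * (u.1 : Kˣ)) = 1 := by
        intro g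
        obtain ⟨a, ha, ha'⟩ := act_trivial (res_eq_one D P
          (e.injective ((show e (resIso D P g.1) = 1 from g.2).trans (map_one e).symm)))
        have h0 := congrFun (congrFun g.1.2.1 0) 0
        rw [ha] at h0
        simp [Matrix.mul_apply, Fin.sum_univ_four] at h0
        exact ⟨⟨Units.mk0 a (left_ne_zero_of_mul_eq_one h0), (hN1 _).2 h0⟩, ha, ha'⟩
      choose u hu hu' using hsc
      refine Nat.card_le_card_of_injective u fun g g' hg => Subtype.ext (Subtype.ext (Subtype.ext (Prod.ext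
        (Units.ext (by rw [hu, hu, hg])) (Units.ext ?_))))
      have h0 := left_ne_zero_of_mul_eq_one (mul_comm _ _ |>.trans (hu' g))
      exact mul_right_cancel₀ h0 (by rw [hu', hg, hu'])
    rw [h] at h1
    have hr : Nat.card (Cfsg.SU 4 K q) ≤ Nat.card f.range :=
      Nat.le_of_mul_le_mul_right (h1.trans (Nat.mul_le_mul_left _ hk)) (by omega)
    have hi' : Nat.card f.range * f.range.index = Nat.card G := f.range.card_mul_index
    rw [show Nat.card G = _ from hO] at hi'
    refine Nat.le_of_mul_le_mul_left ?_ (Nat.card_pos (α := Cfsg.SU 4 K q))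
    refine le_trans (Nat.mul_le_mul_right _ hr) (le_of_eq (Nat.eq_of_mul_eq_mul_left (show 0 < q + 1 by omega) ?_))
    rw [hi', ← mul_assoc (q + 1) (Nat.card (Cfsg.SU 4 K q)) 2, hSU]
    simp only [Finset.prod_range_succ, Finset.prod_range_zero, Nat.reduceSub, Nat.reduceMul, Nat.reduceDiv]
    simp [Nat.even_add_one]
    ring
  have hτ : τ ∉ f.range := by
    rintro ⟨g, hg⟩
    exact swapRes_notMem D P g (e.injective hg)
  have hi2 : f.range.index = 2 := by
    refine le_antisymm hidx ?_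
    by_contra hc
    have h1 : f.range.index = 1 := by
      have := f.range.index_ne_zero_of_finite
      omega
    exact hτ (index_eq_one.1 h1 ▸ mem_top τ)
  let ψ := f.comp suIn
  have hmem : ∀ h : Hu D, (∃ u : K, u * D.σ u = 1 ∧ (h.1.1.2 : K) = u ^ 2) → f h ∈ ψ.range := by
    rintro h ⟨u, hn, hu⟩
    have hdet : (u • h.1.1.1.1).det = 1 := by
      rw [Matrix.det_smul, Fintype.card_fin]
      have h0 := (mem_H0).1 h.1.2
      rw [hu, ← pow_mul] at h0
      exact h0
    have hun : (u • h.1.1.1.1)ᵀ * (u • h.1.1.1.1).map D.σ = 1 := by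
      rw [Matrix.transpose_smul, Matrix.map_smul' (⇑D.σ) u _ (map_mul D.σ), Matrix.smul_mul,
        Matrix.mul_smul, h.2.1, smul_smul, hn, one_smul]
    let s : Cfsg.SU 4 K q := ⟨⟨u • h.1.1.1.1, hdet⟩, (AutPSU.mem_GU_iff_mat
      (g := Matrix.SpecialLinearGroup.toGL ⟨u • h.1.1.1.1, hdet⟩)).2 (by rw [hqb]; exact hun)⟩
    refine ⟨s, congrArg e (Subtype.ext (LinearEquiv.ext fun v => ?_))⟩
    show prj D P ((actIso (suIn s).1).1 (emb D P v)) = prj D P ((actIso h.1).1 (emb D P v))
    congr 1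
    rw [actIso_apply, actIso_apply]
    show ((1 : Kˣ) : K) • ofX ((u • h.1.1.1.1) * toX (emb D P v) * (u • h.1.1.1.1)ᵀ) =
      (h.1.1.2 : K) • ofX (h.1.1.1.1 * toX (emb D P v) * h.1.1.1.1ᵀ)
    rw [Matrix.transpose_smul, Matrix.smul_mul, Matrix.smul_mul, Matrix.mul_smul, smul_smul, map_smul,
      Units.val_one, one_smul, hu, sq]
  have hsq : ∀ x : G, x * x ∈ ψ.range := by
    intro x
    by_cases hx : x ∈ f.range
    · obtain ⟨h, rfl⟩ := hx
      rw [← map_mul]
      exact hmem _ ⟨h.1.1.2, h.2.2, by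
        show ((h.1.1.2 * h.1.1.2 : Kˣ) : K) = _
        rw [Units.val_mul, pow_two]⟩
    · obtain ⟨h, hh⟩ := (mul_mem_iff_of_index_two hi2 (a := τ) (b := x)).2 (iff_of_false hτ hx)
      have hx' : x = τ * f h := by rw [hh, ← mul_assoc, ← map_mul, swapRes_mul_self, map_one, one_mul]
      have hxx : x * x = f (twistH D h * h) := by
        rw [hx', map_mul f (twistH D h) h]
        show e (swapRes D P) * e (resIso D P h) * (e (swapRes D P) * e (resIso D P h)) =
          e (resIso D P (twistH D h)) * e (resIso D P h)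
        rw [← swap_conj D P h, map_mul, map_mul]
        simp only [mul_assoc]
      rw [hxx]
      refine hmem _ ⟨1, by simp, ?_⟩
      show D.σ (h.1.1.2 : K) * (h.1.1.2 : K) = 1 ^ 2
      rw [mul_comm, h.2.2, one_pow]
  have hperf : commutator (Cfsg.SU 4 K q) = ⊤ := by
    refine S0283.eq_top_of_normal (by rw [Nat.card_eq_fintype_card, hK]) (by norm_num) (by norm_num) fun hle => ?_
    obtain ⟨x, t, hT, hx, ht, hm⟩ := S0283.exists_tr_mem_commutator (F := K) (q := q) (n := 4) (by norm_num)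
    obtain ⟨c, hc⟩ := AutPSU.scalar_of_mem_center (q := q) (n := 4) (by norm_num) (hle hm)
    have h1 := hc x
    rw [AutPSU.tr_apply, hT.1, mul_zero, zero_smul, add_zero] at h1
    have hc1 : c = 1 := by
      by_contra hne
      exact smul_ne_zero (sub_ne_zero.2 hne) hx (by rw [sub_smul, ← h1, one_smul, sub_self])
    refine AutPSU.tr_ne_one hx hT ht (AutPSU.su_ext fun v => ?_)
    show AutPSU.app _ v = AutPSU.app 1 v
    rw [hc, hc1, one_smul, AutPSU.app_one]
  have hr : commutator G = ψ.range := by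
    refine le_antisymm (OrthSmall.commutator_le_of_sq _ hsq) ?_
    rw [MonoidHom.range_eq_map, ← hperf, _root_.commutator_def, _root_.commutator_def, map_commutator]
    exact commutator_mono le_top le_top
  have hψk : ψ.ker ≤ center (Cfsg.SU 4 K q) := by
    intro s hs
    obtain ⟨a, ha, -⟩ := act_trivial (res_eq_one D P
      (e.injective ((show e (resIso D P (suIn s)) = 1 from hs).trans (map_one e).symm)))
    have ha' : s.1.1 = Matrix.scalar (Fin 4) a := ha
    refine mem_center_iff.2 fun t => Subtype.ext (Matrix.SpecialLinearGroup.ext _ _ fun i j => ?_)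
    have h2 : t.1.1 * s.1.1 = s.1.1 * t.1.1 := by
      rw [ha', (Matrix.scalar_commute a (mul_comm a) t.1.1).eq]
    exact congrFun (congrFun h2 i) j
  have hc : center (Cfsg.SU 4 K q ⧸ center (Cfsg.SU 4 K q)) = ⊥ := by
    haveI := S0283.isSimple (F := K) (q := q) (n := 4) (by rw [Nat.card_eq_fintype_card, hK]) (by norm_num)
      (by norm_num)
    refine SmallSimple.center_eq_bot (G := Cfsg.PSU 4 K q) fun hcm => ?_
    haveI : Group.IsPerfect (Cfsg.SU 4 K q) := ⟨hperf⟩
    have h1 : commutator (Cfsg.PSU 4 K q) = ⊤ := by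
      have : Group.IsPerfect (Cfsg.PSU 4 K q) := inferInstance
      exact this.commutator_eq_top
    refine top_ne_bot (α := Subgroup (Cfsg.PSU 4 K q)) ?_
    rw [← h1, _root_.commutator_def, Subgroup.commutator_eq_bot_iff_le_centralizer]
    exact fun x _ => mem_centralizer_iff.2 fun y _ => hcm.is_comm.comm y x
  exact OrthSmall.derived_modulo_center_le ψ hr hψk hc

/-- PΩ^-_6(q) is isomorphic to PSU_4(q). -/
theorem result {F K : Type*} [Field F] [Fintype F] [Field K] [Fintype K] {q : ℕ} (hF : Fintype.card F = q) (hK : Fintype.card K = q ^ 2) (a b : F) (hab : ∀ z₁ z₂ : F, z₁ ^ 2 + a * z₁ * z₂ + b * z₂ ^ 2 = 0 → z₁ = 0 ∧ z₂ = 0) : Nonempty (Cfsg.POmega F (Cfsg.quadFormMinus 2 F a b) ≃* Cfsg.PSU 4 K q) := by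
  obtain ⟨_, D, rfl, rfl, hσ⟩ := exists_data hF hK a b hab
  exact iso_of_data D hF hK hσ hab

end Cfsg.Agent.S0303
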