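import Cfsg.Statements.S0304
import Cfsg.Agent.Lib.LinearGroups.OrthOrder
import Cfsg.Agent.Lib.Forms.OddInvol
import Mathlib


set_option autoImplicit false
open Cfsg

namespace Cfsg.Agent.S0304

open Subgroup

open Matrix QuadraticMap FormsLib OrthOrder

variable {F : Type*} [Field F] {m : ℕ}

theorem polar_qPlus [CharP F 2] (u v : Fin m ⊕ Fin m → F) :
    polar (qPlus m F) u v = u ⬝ᵥ (Matrix.J (Fin m) F *ᵥ v) := by
  simp [polar, qPlus_apply, Cfsg.quadFormPlus, Matrix.J, Matrix.fromBlocks_mulVec, dotProduct,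
    Fintype.sum_sum_type, add_mul, mul_add, Finset.sum_add_distrib, CharTwo.neg_eq, Matrix.one_mulVec,
    Matrix.neg_mulVec]
  simp only [mul_comm (v (Sum.inl _))]
  abel

theorem qOdd_elim (x : F) (w : Fin m ⊕ Fin m → F) :
    qOdd m F (Sum.elim (fun _ => x) w) = x ^ 2 + qPlus m F w := by
  rw [qPlus_apply, coe_qOdd]
  simp [Cfsg.quadFormOdd, Cfsg.quadFormPlus]

theorem qOdd_split (v : Unit ⊕ (Fin m ⊕ Fin m) → F) :
    qOdd m F v = v (.inl ()) ^ 2 + qPlus m F (v ∘ Sum.inr) := by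
  rw [qPlus_apply, coe_qOdd]
  simp [Cfsg.quadFormOdd, Cfsg.quadFormPlus]

theorem sum_single (w : Fin m ⊕ Fin m → F) : ∑ i, w i • (Pi.single i 1 : Fin m ⊕ Fin m → F) = w := by
  funext j
  simp [Finset.sum_apply, Pi.single_apply, Finset.sum_ite_eq]

theorem qPlus_single (i : Fin m ⊕ Fin m) : qPlus m F (Pi.single i 1) = 0 := by
  rcases i with i | i <;> simp [qPlus_apply, Cfsg.quadFormPlus, Pi.single_apply]

theorem eq_zero_of_polar {V : Type*} [AddCommGroup V] [Module F V] (Q : QuadraticForm F V)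
    {α : Type*} (s : Finset α) (e : α → V) (hp : ∀ x y, polar Q x y = 0) (he : ∀ a, Q (e a) = 0)
    (w : α → F) : Q (∑ a ∈ s, w a • e a) = 0 := by
  classical
  induction s using Finset.induction_on with
  | empty => simp
  | insert a s ha ih =>
    rw [Finset.sum_insert ha, quad_add, hp, ih, QuadraticMap.map_smul, he]
    simp

theorem symm_mem_aux [CharP F 2] {A : Matrix (Fin m ⊕ Fin m) (Fin m ⊕ Fin m) F}
    (hA : A ∈ symplecticGroup (Fin m) F) (u v : Fin m ⊕ Fin m → F) :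
    polar (qPlus m F) (A *ᵥ u) (A *ᵥ v) = polar (qPlus m F) u v := by
  have h := SymplecticGroup.mem_iff'.1 hA
  rw [polar_qPlus, polar_qPlus]
  conv_rhs => rw [← h]
  rw [← Matrix.mulVec_mulVec, ← Matrix.mulVec_mulVec, Matrix.dotProduct_mulVec u Aᵀ,
    Matrix.vecMul_transpose]

/-- In characteristic 2, O_{2m+1}(q) is isomorphic to Sp_{2m}(q). -/
theorem result {F : Type*} [Field F] [Fintype F] [CharP F 2] (m : ℕ) : Nonempty (Cfsg.isometryGroup F (Cfsg.quadFormOdd m F) ≃* Matrix.symplecticGroup (Fin m) F) := by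
  classical
  have hpolar : ∀ u v : Unit ⊕ (Fin m ⊕ Fin m) → F,
      polar (qOdd m F) u v = polar (qPlus m F) (u ∘ Sum.inr) (v ∘ Sum.inr) := by
    intro u v
    simp only [polar, qOdd_split, Pi.add_apply, CharTwo.add_sq]
    rw [show (u + v) ∘ (Sum.inr : Fin m ⊕ Fin m → _) = u ∘ Sum.inr + v ∘ Sum.inr from rfl]
    ring
  let e0 : Unit ⊕ (Fin m ⊕ Fin m) → F := Sum.elim (fun _ => 1) 0
  have hQ : ∀ (g : Cfsg.isometryGroup F (Cfsg.quadFormOdd m F)) v,
      qOdd m F (g.1.1 *ᵥ v) = qOdd m F v := fun g v => by rw [coe_qOdd]; exact g.2 v v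
  have hpol : ∀ (g : Cfsg.isometryGroup F (Cfsg.quadFormOdd m F)) u v,
      polar (qOdd m F) (g.1.1 *ᵥ u) (g.1.1 *ᵥ v) = polar (qOdd m F) u v := fun g u v => by
    simp only [polar, ← Matrix.mulVec_add, hQ]
  have hblock : ∀ g : Cfsg.isometryGroup F (Cfsg.quadFormOdd m F),
      ∀ i, g.1.1 (.inr i) (.inl ()) = 0 := by
    intro g
    have hn : (polarBilin (qPlus m F)).Nondegenerate := by
      refine nondegenerate_iff.2 fun x hx => funext fun i => ?_
      have := hx (Matrix.J (Fin m) F *ᵥ Pi.single i 1)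
      rw [polar_qPlus, Matrix.mulVec_mulVec, Matrix.J_squared, Matrix.neg_mulVec, Matrix.one_mulVec,
        dotProduct_neg, neg_eq_zero, dotProduct_single, mul_one] at this
      exact this
    have h0 : (g.1.1 *ᵥ e0) ∘ Sum.inr = 0 := by
      refine nondegenerate_iff.1 hn _ fun w => ?_
      have hsurj : g.1.1 *ᵥ ((g.1⁻¹).1 *ᵥ Sum.elim (0 : Unit → F) w) = Sum.elim (0 : Unit → F) w := by
        rw [Matrix.mulVec_mulVec, Units.mul_inv, Matrix.one_mulVec]
      have h := hpol g e0 ((g.1⁻¹).1 *ᵥ Sum.elim (0 : Unit → F) w)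
      rw [hsurj, hpolar, hpolar] at h
      rw [show (Sum.elim (0 : Unit → F) w) ∘ Sum.inr = w from rfl,
        show e0 ∘ Sum.inr = (0 : Fin m ⊕ Fin m → F) from rfl] at h
      rw [h]
      exact polar_zero_left' _
    intro i
    simpa [e0, Matrix.mulVec, dotProduct, Fintype.sum_sum_type] using congrFun h0 i
  have hbot : ∀ (g : Cfsg.isometryGroup F (Cfsg.quadFormOdd m F)) v,
      (g.1.1 *ᵥ v) ∘ Sum.inr = g.1.1.toBlocks₂₂ *ᵥ (v ∘ Sum.inr) := fun g v => funext fun i => by
    simp [Matrix.mulVec, dotProduct, Fintype.sum_sum_type, hblock g, Matrix.toBlocks₂₂]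
  have hmem : ∀ g : Cfsg.isometryGroup F (Cfsg.quadFormOdd m F),
      g.1.1.toBlocks₂₂ ∈ symplecticGroup (Fin m) F := by
    intro g
    rw [SymplecticGroup.mem_iff']
    refine Matrix.ext_iff_mulVec.2 fun v => dotProduct_eq _ _ fun u => ?_
    rw [dotProduct_comm, dotProduct_comm (Matrix.J _ F *ᵥ v), ← polar_qPlus, ← Matrix.mulVec_mulVec,
      ← Matrix.mulVec_mulVec, Matrix.dotProduct_mulVec, Matrix.vecMul_transpose, ← polar_qPlus]
    have h := hpol g (Sum.elim 0 u) (Sum.elim 0 v)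
    rw [hpolar, hpolar, hbot, hbot] at h
    exact h
  let φ : Cfsg.isometryGroup F (Cfsg.quadFormOdd m F) →* Matrix.symplecticGroup (Fin m) F :=
    { toFun := fun g => ⟨g.1.1.toBlocks₂₂, hmem g⟩
      map_one' := Subtype.ext (by ext i j; simp [Matrix.toBlocks₂₂, Matrix.one_apply])
      map_mul' := fun g h => Subtype.ext (by
        show (g.1.1 * h.1.1).toBlocks₂₂ = g.1.1.toBlocks₂₂ * h.1.1.toBlocks₂₂
        ext i j
        simp [Matrix.toBlocks₂₂, Matrix.mul_apply, Fintype.sum_sum_type, hblock g]) }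
  refine ⟨MulEquiv.ofBijective φ ⟨?_, ?_⟩⟩
  · intro g h hgh
    have hA : g.1.1.toBlocks₂₂ = h.1.1.toBlocks₂₂ := congrArg Subtype.val hgh
    have htop : ∀ v, (g.1.1 *ᵥ v) (.inl ()) ^ 2 = (h.1.1 *ᵥ v) (.inl ()) ^ 2 := by
      intro v
      have h1 := (hQ g v).trans (hQ h v).symm
      rw [qOdd_split, qOdd_split (h.1.1 *ᵥ v), hbot, hbot, hA] at h1
      exact add_right_cancel h1
    refine Subtype.ext (Units.ext (Matrix.ext fun i j => ?_))
    rcases i with ⟨⟩ | i
    · have := CharTwo.sq_inj.1 (htop (Pi.single j 1))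
      simpa using this
    · rcases j with ⟨⟩ | j
      · rw [hblock g, hblock h]
      · exact congrFun (congrFun hA i) j
  · rintro ⟨A, hA⟩
    have hsq : ∀ a : F, ∃ r, r ^ 2 = a := fun a => by
      obtain ⟨r, hr⟩ := FiniteField.isSquare_of_char_two (ringChar.eq F 2) a
      exact ⟨r, by rw [hr, pow_two]⟩
    choose r hr using fun i : Fin m ⊕ Fin m => hsq (qPlus m F (A *ᵥ Pi.single i 1))
    let M : Matrix (Unit ⊕ (Fin m ⊕ Fin m)) (Unit ⊕ (Fin m ⊕ Fin m)) F :=
      Matrix.fromBlocks 1 (Matrix.of fun _ i => r i) 0 A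
    have hdet : M.det ≠ 0 := by
      rw [Matrix.det_fromBlocks_zero₂₁, Matrix.det_one, one_mul]
      exact (SymplecticGroup.symplectic_det hA).ne_zero
    let u := Matrix.GeneralLinearGroup.mkOfDetNeZero M hdet
    have hu : u.1 = M := rfl
    have hM : ∀ v, qOdd m F (M *ᵥ v) = qOdd m F v := by
      intro v
      let L : (Fin m ⊕ Fin m → F) →ₗ[F] F :=
        (LinearMap.proj ()).comp (Matrix.toLin' (Matrix.of fun (_ : Unit) i => r i))
      let H : QuadraticForm F (Fin m ⊕ Fin m → F) :=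
        linMulLin L L + (qPlus m F).comp (Matrix.toLin' A) + qPlus m F
      have hH : ∀ w, H w = L w ^ 2 + qPlus m F (A *ᵥ w) + qPlus m F w := fun w => by
        simp [H, pow_two]
      have h0 : H (v ∘ Sum.inr) = 0 := by
        rw [← sum_single (v ∘ Sum.inr)]
        refine eq_zero_of_polar H _ _ (fun x y => ?_) (fun i => ?_) _
        · simp only [polar, hH, map_add, Matrix.mulVec_add, CharTwo.add_sq]
          have h1 := symm_mem_aux hA x y
          simp only [polar] at h1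
          linear_combination h1 + CharTwo.add_self_eq_zero (qPlus m F (x + y) - qPlus m F x - qPlus m F y)
        · rw [hH, qPlus_single, add_zero, ← hr i,
            show L (Pi.single i 1) = r i by simp [L], CharTwo.add_self_eq_zero]
      rw [hH] at h0
      have h1 : (M *ᵥ v) (.inl ()) = v (.inl ()) + L (v ∘ Sum.inr) := by
        simp [M, L, Matrix.fromBlocks_mulVec, Matrix.one_mulVec]
      have h2 : (M *ᵥ v) ∘ Sum.inr = A *ᵥ (v ∘ Sum.inr) := by
        funext i
        simp [M, Matrix.fromBlocks_mulVec]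
      rw [qOdd_split, qOdd_split v, h1, h2, CharTwo.add_sq]
      linear_combination h0 - CharTwo.add_self_eq_zero (qPlus m F (v ∘ Sum.inr))
    refine ⟨⟨u, fun v _ => ?_⟩, Subtype.ext ?_⟩
    · show Cfsg.quadFormOdd m F (u.1 *ᵥ v) = Cfsg.quadFormOdd m F v
      rw [hu, ← coe_qOdd]
      exact hM v
    · show u.1.toBlocks₂₂ = A
      rw [hu]
      exact Matrix.toBlocks_fromBlocks₂₂ _ _ _ _

end Cfsg.Agent.S0304
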