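import Cfsg.Statements.S0305
import Cfsg.Agent.Lib.Invol.Dihedral
import Mathlib


set_option autoImplicit false
open Cfsg

namespace Cfsg.Agent.S0305

open Subgroup

open Matrix

abbrev I2 := Fin 1 ⊕ Fin 1

theorem mulVec_inl {F : Type*} [Field F] (M : Matrix I2 I2 F) (v : I2 → F) (i : I2) :
    (M *ᵥ v) i = M i (.inl 0) * v (.inl 0) + M i (.inr 0) * v (.inr 0) := by
  simp [Matrix.mulVec, dotProduct, Fintype.sum_sum_type]

theorem mem_iff {F : Type*} [Field F] (g : GL I2 F) :
    g ∈ isometryGroup F (quadFormPlus 1 F) ↔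
      g.1 (.inl 0) (.inl 0) * g.1 (.inr 0) (.inl 0) = 0 ∧
      g.1 (.inl 0) (.inr 0) * g.1 (.inr 0) (.inr 0) = 0 ∧
      g.1 (.inl 0) (.inl 0) * g.1 (.inr 0) (.inr 0) + g.1 (.inl 0) (.inr 0) * g.1 (.inr 0) (.inl 0) = 1 := by
  constructor
  · intro h
    have h1 := h (Sum.elim (fun _ => 1) (fun _ => 0)) 0
    have h2 := h (Sum.elim (fun _ => 0) (fun _ => 1)) 0
    have h3 := h (Sum.elim (fun _ => 1) (fun _ => 1)) 0
    simp [quadFormPlus, mulVec_inl] at h1 h2 h3
    exact ⟨mul_eq_zero.2 h1, mul_eq_zero.2 h2, by linear_combination h3 - mul_eq_zero.2 h1 - mul_eq_zero.2 h2⟩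
  · rintro ⟨h1, h2, h3⟩ u v
    simp [quadFormPlus, mulVec_inl]
    linear_combination (u (.inl 0)) ^ 2 * h1 + (u (.inr 0)) ^ 2 * h2 + u (.inl 0) * u (.inr 0) * h3

def torus {F : Type*} [Field F] : Fˣ →* GL I2 F :=
  Units.map ((Matrix.diagonalRingHom I2 F).toMonoidHom) |>.comp
    (MulEquiv.piUnits.symm.toMonoidHom.comp
      { toFun := fun c => Sum.elim (fun _ => c) (fun _ => c⁻¹)
        map_one' := by ext (i | i) <;> simp
        map_mul' := fun a b => by ext (i | i) <;> simp [mul_comm] })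

theorem torus_val {F : Type*} [Field F] (c : Fˣ) :
    (torus c).1 = Matrix.diagonal (Sum.elim (fun _ => (c : F)) (fun _ => ((c⁻¹ : Fˣ) : F))) := by
  ext (i | i) (j | j) <;> simp [torus, Matrix.diagonal, MulEquiv.piUnits]

/-- GO^+_2(q) is dihedral of order 2(q-1). -/
theorem result {F : Type*} [Field F] [Fintype F] {q : ℕ} (hF : Fintype.card F = q) : Nonempty (Cfsg.isometryGroup F (Cfsg.quadFormPlus 1 F) ≃* DihedralGroup (q - 1)) := by
  classical
  haveI : Finite Fˣ := inferInstance
  obtain ⟨c, hc⟩ := IsCyclic.exists_ofOrder_eq_natCard (α := Fˣ)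
  rw [Nat.card_units, Nat.card_eq_fintype_card, hF] at hc
  have hd : ∀ a : Fˣ, torus a ∈ isometryGroup F (quadFormPlus 1 F) := fun a => by
    simp [mem_iff, torus_val]
  let T : Fˣ →* isometryGroup F (quadFormPlus 1 F) := torus.codRestrict _ hd
  have hT : Function.Injective T := fun a b h => by
    have := congrArg (fun x : isometryGroup F (quadFormPlus 1 F) => x.1.1 (.inl 0) (.inl 0)) h
    simpa [T, torus_val, Units.ext_iff] using this
  let w : GL I2 F :=
    ⟨Matrix.of fun i j => if i = j then 0 else 1, Matrix.of fun i j => if i = j then 0 else 1, by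
      ext (i | i) (j | j) <;> fin_cases i <;> fin_cases j <;> simp [Matrix.mul_apply, Fintype.sum_sum_type, Fin.eq_zero], by
      ext (i | i) (j | j) <;> fin_cases i <;> fin_cases j <;> simp [Matrix.mul_apply, Fintype.sum_sum_type, Fin.eq_zero]⟩
  have hw : w ∈ isometryGroup F (quadFormPlus 1 F) := by simp [mem_iff, w]
  set t : isometryGroup F (quadFormPlus 1 F) := ⟨w, hw⟩ with ht
  have ht2 : t * t = 1 := by
    refine Subtype.ext (Units.ext ?_)
    ext (i | i) (j | j) <;> fin_cases i <;> fin_cases j <;> simp [ht, w, Matrix.mul_apply, Fintype.sum_sum_type, Fin.eq_zero]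
  have htc : ∀ a, t * T a * t⁻¹ = (T a)⁻¹ := by
    intro a
    rw [mul_inv_eq_iff_eq_mul, ← map_inv]
    refine Subtype.ext (Units.ext ?_)
    ext (i | i) (j | j) <;> fin_cases i <;> fin_cases j <;>
      simp [-map_inv, ht, T, w, torus_val, Matrix.mul_apply, Fintype.sum_sum_type, Fin.eq_zero]
  have hnm : t ∉ Subgroup.zpowers (T c) := by
    rintro ⟨k, hk⟩
    have := congrArg (fun x : isometryGroup F (quadFormPlus 1 F) => x.1.1 (.inl 0) (.inr 0)) hk
    simp only [← map_zpow] at this
    simp [-map_zpow, T, ht, w, torus_val] at this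
  obtain ⟨e⟩ := Invol.nonempty_dihedralEquiv ht2 (htc c) hnm
  rw [orderOf_injective T hT, hc] at e
  have htop : Subgroup.closure ({t, T c} : Set (isometryGroup F (quadFormPlus 1 F))) = ⊤ := by
    rw [eq_top_iff]
    rintro ⟨g, hg⟩ -
    obtain ⟨h1, h2, h3⟩ := (mem_iff g).1 hg
    have hgen : ∀ a, T a ∈ Subgroup.closure ({t, T c} : Set (isometryGroup F (quadFormPlus 1 F))) := by
      intro a
      obtain ⟨k, rfl⟩ : a ∈ Subgroup.zpowers c := by
        have : Subgroup.zpowers c = ⊤ := Subgroup.eq_top_of_card_eq _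
          (by rw [Nat.card_zpowers, hc, Nat.card_units, Nat.card_eq_fintype_card, hF])
        exact this ▸ Subgroup.mem_top a
      simp only [map_zpow]
      exact zpow_mem (Subgroup.subset_closure (by simp)) k
    by_cases h0 : g.1 (.inl 0) (.inl 0) = 0
    · rw [h0, zero_mul, zero_add] at h3
      have h22 : g.1 (.inr 0) (.inr 0) = 0 :=
        (mul_eq_zero.1 h2).resolve_left (left_ne_zero_of_mul (h3.trans_ne one_ne_zero))
      have he : (⟨g, hg⟩ : isometryGroup F (quadFormPlus 1 F)) =
          t * T (Units.mk0 _ (right_ne_zero_of_mul (h3.trans_ne one_ne_zero))) := by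
        refine Subtype.ext (Units.ext ?_)
        ext (i | i) (j | j) <;> fin_cases i <;> fin_cases j <;>
          simp [ht, T, w, torus_val, Matrix.mul_apply, Fintype.sum_sum_type, h0, h22,
            eq_inv_of_mul_eq_one_left h3]
      rw [he]
      exact mul_mem (Subgroup.subset_closure (by simp)) (hgen _)
    · have h21 : g.1 (.inr 0) (.inl 0) = 0 := (mul_eq_zero.1 h1).resolve_left h0
      rw [h21, mul_zero, add_zero] at h3
      have h12 : g.1 (.inl 0) (.inr 0) = 0 :=
        (mul_eq_zero.1 h2).resolve_right (right_ne_zero_of_mul (h3.trans_ne one_ne_zero))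
      have he : (⟨g, hg⟩ : isometryGroup F (quadFormPlus 1 F)) = T (Units.mk0 _ h0) := by
        refine Subtype.ext (Units.ext ?_)
        ext (i | i) (j | j) <;> fin_cases i <;> fin_cases j <;>
          simp [T, torus_val, h21, h12, eq_inv_of_mul_eq_one_right h3]
      rw [he]
      exact hgen _
  exact ⟨(e.trans ((MulEquiv.subgroupCongr htop).trans Subgroup.topEquiv)).symm⟩

end Cfsg.Agent.S0305
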