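import Cfsg.Statements.S0312
import Cfsg.Agent.Lib.BN.Basic

set_option autoImplicit false
open Cfsg

namespace Cfsg.Agent.S0312

/-- Every standard parabolic subgroup of a group with a (B,N)-pair equals its own normaliser. -/
theorem result {G : Type*} [Group G] (P : Cfsg.BNPair G) {J : Set G}
    (hJ : J ⊆ P.S) : Subgroup.normalizer (P.parabolic J : Set G) = P.parabolic J := by
  refine le_antisymm (fun g hg => ?_) Subgroup.le_normalizer
  obtain ⟨w, hw⟩ := BN.exists_mem_C P g
  obtain ⟨l, rfl, hl⟩ := BN.exists_reduced P w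
  obtain ⟨n, hn, b, hb, b', hb', rfl⟩ := hw
  have hB := BN.B_le_parabolic P J
  have hN : ∀ x ∈ P.B, x ∈ Subgroup.normalizer (P.parabolic J : Set G) :=
    fun x hx => Subgroup.le_normalizer (hB hx)
  have hnN : (n : G) ∈ Subgroup.normalizer (P.parabolic J : Set G) := by
    have := mul_mem (mul_mem (inv_mem (hN b hb)) hg) (inv_mem (hN b' hb'))
    simpa [mul_assoc] using this
  have hnM := (BN.letters_mem_of_conj P hB l n hl.symm hn
    fun x hx => ((Subgroup.mem_normalizer_iff.1 hnN) x).1 (hB hx)).2
  exact mul_mem (mul_mem (hB hb) hnM) (hB hb')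

end Cfsg.Agent.S0312
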