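import Cfsg.Statements.S0313
import Cfsg.Agent.Lib.BN.Basic

set_option autoImplicit false
open Cfsg

namespace Cfsg.Agent.S0313

/-- Two standard parabolic subgroups of a group with a (B,N)-pair which are conjugate in `G` coincide. -/
theorem result {G : Type*} [Group G] (P : Cfsg.BNPair G) {J K : Set G}
    (hJ : J ⊆ P.S) (hK : K ⊆ P.S) (g : G)
    (h : (P.parabolic J).map (MulAut.conj g).toMonoidHom = P.parabolic K) :
    P.parabolic J = P.parabolic K := by
  have hBJ := BN.B_le_parabolic P J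
  have hBK := BN.B_le_parabolic P K
  obtain ⟨w, hw⟩ := BN.exists_mem_C P g
  obtain ⟨l, rfl, hl⟩ := BN.exists_reduced P w
  obtain ⟨n, hn, b, hb, b', hb', rfl⟩ := hw
  have hmem : ∀ x, x ∈ P.parabolic J ↔ (n : G) * x * (n : G)⁻¹ ∈ P.parabolic K := by
    intro x
    constructor
    · intro hx
      have h1 : (b * n * b') * (b'⁻¹ * x * b') * (b * n * b')⁻¹ ∈ P.parabolic K :=
        h ▸ ⟨b'⁻¹ * x * b', mul_mem (mul_mem (inv_mem (hBJ hb')) hx) (hBJ hb'), rfl⟩
      have h2 := mul_mem (mul_mem (inv_mem (hBK hb)) h1) (hBK hb)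
      simpa [mul_assoc] using h2
    · intro hx
      have h1 : b * ((n : G) * x * (n : G)⁻¹) * b⁻¹ ∈ P.parabolic K :=
        mul_mem (mul_mem (hBK hb) hx) (inv_mem (hBK hb))
      rw [← h] at h1
      obtain ⟨y, hy, hxy⟩ := h1
      have hyx : x = b' * y * b'⁻¹ := by
        have hxy' : (b * n * b') * y * (b * n * b')⁻¹ = b * ((n : G) * x * (n : G)⁻¹) * b⁻¹ := hxy
        calc x = (n : G)⁻¹ * b⁻¹ * (b * ((n : G) * x * (n : G)⁻¹) * b⁻¹) * b * n := by group
          _ = _ := by rw [← hxy']; group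
      rw [hyx]
      exact mul_mem (mul_mem (hBJ hb') hy) (inv_mem (hBJ hb'))
  have hnK := (BN.letters_mem_of_conj P hBK l n hl.symm hn
    fun x hx => (hmem x).1 (hBJ hx)).2
  ext x
  rw [hmem x]
  constructor
  · intro hx
    have := mul_mem (mul_mem (inv_mem hnK) hx) hnK
    simpa [mul_assoc] using this
  · intro hx
    exact mul_mem (mul_mem hnK hx) (inv_mem hnK)

end Cfsg.Agent.S0313
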