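import Cfsg.Statements.S0316
import Cfsg.Agent.Lib.BN.Basic

set_option autoImplicit false
open Cfsg

namespace Cfsg.Agent.S0316

/-- The map `J ↦ P_J` is a lattice isomorphism from the power set of the set of distinguished generators onto the
subgroups containing `B`. -/
theorem result {G : Type*} [Group G] (P : Cfsg.BNPair G) :
    ∃ e : Set P.S ≃o {M : Subgroup G // P.B ≤ M},
      ∀ J : Set P.S, ((e J : {M : Subgroup G // P.B ≤ M}) : Subgroup G) = P.parabolic (Subtype.val '' J) := by
  have hsub : ∀ J : Set P.S, Subtype.val '' J ⊆ P.S := by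
    rintro J _ ⟨s, _, rfl⟩
    exact s.2
  refine ⟨{ toFun := fun J => ⟨P.parabolic (Subtype.val '' J), le_sup_left⟩
            invFun := fun M => {s : P.S | (s : G) ∈ (M : Subgroup G)}
            left_inv := ?_
            right_inv := ?_
            map_rel_iff' := ?_ }, fun J => rfl⟩
  · intro J
    ext s
    constructor
    · intro h
      obtain ⟨t, ht, hts⟩ := BN.mem_of_mem_parabolic P (hsub J) s h
      exact Subtype.ext hts ▸ ht
    · intro h
      exact BN.self_mem_parabolic P _ ⟨s, h, rfl⟩
  · rintro ⟨M, hM⟩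
    apply Subtype.ext
    show P.parabolic _ = M
    conv_rhs => rw [BN.eq_parabolic P hM]
    congr 1
    ext x
    constructor
    · rintro ⟨s, hs, rfl⟩
      exact ⟨s.2, hs⟩
    · rintro ⟨hxS, hxM⟩
      exact ⟨⟨x, hxS⟩, hxM, rfl⟩
  · intro J K
    show P.parabolic (Subtype.val '' J) ≤ P.parabolic (Subtype.val '' K) ↔ J ⊆ K
    constructor
    · intro h s hs
      obtain ⟨t, ht, hts⟩ := BN.mem_of_mem_parabolic P (hsub K) s
        (h (BN.self_mem_parabolic P _ ⟨s, hs, rfl⟩))
      exact Subtype.ext hts ▸ ht
    · intro h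
      exact sup_le_sup_left (Subgroup.closure_mono (Set.image_mono h)) _

end Cfsg.Agent.S0316
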