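import Cfsg.Statements.S0318
import Cfsg.Agent.Lib.BN.Basic

set_option autoImplicit false
open Cfsg

namespace Cfsg.Agent.S0318

/-- For `n ∈ N`, the subgroup generated by `B` and `n` coincides with the subgroup generated by `B` and the
conjugate `n B n⁻¹`. -/
theorem result {G : Type*} [Group G] (P : Cfsg.BNPair G) {n : G}
    (hn : n ∈ P.N) :
    P.B ⊔ Subgroup.closure {n} = P.B ⊔ P.B.map (MulAut.conj n).toMonoidHom := by
  apply le_antisymm
  · refine sup_le le_sup_left ((Subgroup.closure_le _).2 (Set.singleton_subset_iff.2 ?_))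
    obtain ⟨l, hl, hlen⟩ := BN.exists_reduced P (BN.cl P ⟨n, hn⟩)
    refine (BN.letters_mem_of_conj P le_sup_left l ⟨n, hn⟩ (by rw [BN.Reduced, hl]; exact hlen.symm) hl.symm ?_).2
    intro b hb
    exact Subgroup.mem_sup_right ⟨b, hb, rfl⟩
  · refine sup_le le_sup_left ?_
    rintro _ ⟨b, hb, rfl⟩
    have hnM : n ∈ P.B ⊔ Subgroup.closure ({n} : Set G) :=
      Subgroup.mem_sup_right (Subgroup.subset_closure (Set.mem_singleton n))
    show n * b * n⁻¹ ∈ P.B ⊔ Subgroup.closure ({n} : Set G)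
    exact BN.conj_mem_of_mem P le_sup_left hnM b hb

end Cfsg.Agent.S0318
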