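import Cfsg.Statements.S0321
import Cfsg.Agent.Lib.BN.Basic

set_option autoImplicit false
open Cfsg

namespace Cfsg.Agent.S0321

/-- For `n ∈ N` not in `B`, the union `B ∪ B n B` is (the underlying set of) a subgroup exactly when `n` agrees
modulo `B ⊓ N` with one of the distinguished representatives; thus the distinguished involutions are
determined by `B` and `N`. -/
theorem result {G : Type*} [Group G] (P : Cfsg.BNPair G) {n : G}
    (hn : n ∈ P.N) (hnB : n ∉ P.B) :
    (∃ H : Subgroup G, (H : Set G) = (P.B : Set G) ∪ DoubleCoset.doubleCoset n (P.B : Set G) P.B) ↔ ∃ s ∈ P.S, s⁻¹ * n ∈ P.B := by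
  constructor
  · rintro ⟨H, hH⟩
    have hB : P.B ≤ H := fun x hx => by
      show x ∈ (H : Set G); rw [hH]; exact Or.inl hx
    have hnH : n ∈ H := by
      show n ∈ (H : Set G); rw [hH]; exact Or.inr (DoubleCoset.mem_doubleCoset_self _ _ _)
    obtain ⟨l, hl, hlen⟩ := BN.exists_reduced P (BN.cl P ⟨n, hn⟩)
    cases l with
    | nil => exact absurd ((BN.cl_eq_one_iff P ⟨n, hn⟩).1 hl.symm) hnB
    | cons s l =>
      have hsH : (s : G) ∈ H := BN.letters_mem P hB (by rw [BN.Reduced, hl]; exact hlen.symm : BN.Reduced P (s :: l))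
        (hl ▸ BN.mem_C_coe P ⟨n, hn⟩) hnH s (by simp)
      refine ⟨s, s.2, (BN.cl_eq_iff P ⟨s, P.subset s.2⟩ ⟨n, hn⟩).1 ?_⟩
      have hs' : (s : G) ∈ (H : Set G) := hsH
      rw [hH] at hs'
      rcases hs' with h | h
      · exact absurd h (BN.s_not_mem P s)
      · exact BN.C_inj P (BN.g_mem_C P s) ((BN.C_eq_doubleCoset P ⟨n, hn⟩).symm ▸ h)
  · rintro ⟨s, hs, hsn⟩
    refine ⟨P.parabolic {s}, ?_⟩
    have hJ : ({s} : Set G) ⊆ P.S := by simpa using hs
    have e : BN.C P (BN.g P ⟨s, hs⟩) = DoubleCoset.doubleCoset n (P.B : Set G) P.B := by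
      rw [← BN.C_eq_doubleCoset P ⟨n, hn⟩]
      exact congrArg (BN.C P) ((BN.cl_eq_iff P ⟨s, P.subset hs⟩ ⟨n, hn⟩).2 hsn)
    rw [← e, BN.parabolic_eq P hJ]
    ext x
    constructor
    · rintro ⟨l, hl, hx⟩
      obtain ⟨l', hsub, hred, he⟩ := BN.exists_sublist_reduced P l
      have hall : ∀ t ∈ l', t = ⟨s, hs⟩ := fun t ht => Subtype.ext (hl t (hsub.subset ht))
      rw [← he] at hx
      match l' with
      | [] => left; rwa [BN.wp_nil, BN.mem_C_one_iff] at hx
      | [t] => right; rw [hall t (by simp)] at hx; simpa using hx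
      | t :: u :: r =>
        exfalso
        have ht := hall t (by simp)
        have hu := hall u (by simp)
        subst ht hu
        have := BN.len_le P r
        simp [BN.Reduced] at hred
        omega
    · rintro (hx | hx)
      · exact ⟨[], by simp, by rwa [BN.wp_nil, BN.mem_C_one_iff]⟩
      · exact ⟨[⟨s, hs⟩], by simp, by simpa using hx⟩

end Cfsg.Agent.S0321
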