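import Cfsg.Statements.S0322
import Cfsg.Agent.Lib.BN.Basic

set_option autoImplicit false
open Cfsg

namespace Cfsg.Agent.S0322

/-- A group with a (B,N)-pair of rank one acts doubly transitively on the left cosets of `B`. -/
theorem result {G : Type*} [Group G] (P : Cfsg.BNPair G) (h : P.rank = 1) : MulAction.IsMultiplyPretransitive G (G ⧸ P.B) 2 := by
  obtain ⟨hsub, ⟨s⟩⟩ := Nat.card_eq_one_iff_unique.1 h
  rw [MulAction.is_two_pretransitive_iff]
  have key : ∀ a b : G ⧸ P.B, a ≠ b → ∃ x : G,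
      x • ((1 : G) : G ⧸ P.B) = a ∧ x • (((s : G)) : G ⧸ P.B) = b := by
    intro a b hab
    obtain ⟨x, rfl⟩ := QuotientGroup.mk_surjective a
    obtain ⟨y, rfl⟩ := QuotientGroup.mk_surjective b
    have hxy : x⁻¹ * y ∉ P.B := fun hh => hab (QuotientGroup.eq.2 hh)
    obtain ⟨w, hw⟩ := BN.exists_mem_C P (x⁻¹ * y)
    obtain ⟨l, rfl, hl⟩ := BN.exists_reduced P w
    match l with
    | [] => rw [BN.wp_nil, BN.mem_C_one_iff] at hw; exact absurd hw hxy
    | t :: u :: r =>
      exfalso
      have : t = u := hsub.elim t u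
      subst this
      have := BN.len_le P r
      simp at hl
      omega
    | [t] =>
      obtain rfl : t = s := hsub.elim t s
      rw [BN.wp_cons, BN.wp_nil, mul_one] at hw
      have e : BN.C P (BN.g P t) = DoubleCoset.doubleCoset (t : G) (P.B : Set G) P.B :=
        BN.C_eq_doubleCoset P ⟨t, P.subset t.2⟩
      rw [e, DoubleCoset.mem_doubleCoset] at hw
      obtain ⟨b, hb, b', hb', he⟩ := hw
      refine ⟨x * b, ?_, ?_⟩
      · rw [MulAction.Quotient.smul_coe, smul_eq_mul]
        exact QuotientGroup.eq.2 (by simpa using hb)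
      · rw [MulAction.Quotient.smul_coe, smul_eq_mul]
        refine QuotientGroup.eq.2 ?_
        have e2 : (x * b * (t : G))⁻¹ * y = b' := by
          calc (x * b * (t : G))⁻¹ * y = (b * (t : G))⁻¹ * (x⁻¹ * y) := by group
            _ = b' := by rw [he]; group
        rw [e2]
        exact hb'
  intro a b c d hab hcd
  obtain ⟨x, hx1, hx2⟩ := key a b hab
  obtain ⟨y, hy1, hy2⟩ := key c d hcd
  exact ⟨y * x⁻¹, by rw [mul_smul, ← hx1, inv_smul_smul, hy1],
    by rw [mul_smul, ← hx2, inv_smul_smul, hy2]⟩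

end Cfsg.Agent.S0322
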