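import Cfsg.Statements.S0323


set_option autoImplicit false
open scoped Pointwise
open Cfsg

namespace Cfsg.Agent.S0323

/-- A doubly transitive action on a set with at least three points yields a (B,N)-pair of rank one:
`B` is the stabiliser of a point `x`, `N` the setwise stabiliser of a pair `{x, y}`. -/
theorem result {G Ω : Type*} [Group G] [MulAction G Ω]
    (h2 : MulAction.IsMultiplyPretransitive G Ω 2) {x y z : Ω} (hxy : x ≠ y) (hyz : y ≠ z) (hxz : x ≠ z) :
    ∃ P : Cfsg.BNPair G, P.B = MulAction.stabilizer G x ∧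
      P.N = MulAction.stabilizer G ({x, y} : Set Ω) ∧ P.rank = 1 := by
  rw [MulAction.is_two_pretransitive_iff] at h2
  obtain ⟨s, hsx, hsy⟩ := h2 hxy hxy.symm
  have hsN : s ∈ MulAction.stabilizer G ({x, y} : Set Ω) := by
    rw [MulAction.mem_stabilizer_iff, Set.smul_set_insert, Set.smul_set_singleton, hsx, hsy, Set.pair_comm]
  have hN : ∀ n ∈ MulAction.stabilizer G ({x, y} : Set Ω),
      (n • x = x ∧ n • y = y) ∨ (n • x = y ∧ n • y = x) := by
    intro n hn
    rw [MulAction.mem_stabilizer_iff, Set.smul_set_insert, Set.smul_set_singleton, Set.pair_eq_pair_iff] at hn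
    exact hn
  have hss : s * s ∈ MulAction.stabilizer G x := by
    rw [MulAction.mem_stabilizer_iff, mul_smul, hsx, hsy]
  have hdec : ∀ n : G, (∃ b ∈ MulAction.stabilizer G x, n = b) ∨
      ∃ b ∈ MulAction.stabilizer G x, ∃ b' ∈ MulAction.stabilizer G x, n = b * s * b' := by
    intro g
    by_cases hg : g • x = x
    · exact Or.inl ⟨g, hg, rfl⟩
    · obtain ⟨b, hb1, hb2⟩ := h2 hxy (Ne.symm hg)
      refine Or.inr ⟨b, hb1, s⁻¹ * b⁻¹ * g, ?_, by group⟩
      rw [MulAction.mem_stabilizer_iff, mul_smul, mul_smul, eq_comm]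
      rw [← hb2, inv_smul_smul, ← hsx, inv_smul_smul]
  have hclos : Subgroup.closure {s} ⊔
      (MulAction.stabilizer G x ⊓ MulAction.stabilizer G ({x, y} : Set Ω)) =
      MulAction.stabilizer G ({x, y} : Set Ω) := by
    refine le_antisymm (sup_le ((Subgroup.closure_le _).2 (Set.singleton_subset_iff.2 hsN))
      inf_le_right) (fun n hn => ?_)
    rcases hN n hn with ⟨h1, _⟩ | ⟨h1, h1'⟩
    · exact Subgroup.mem_sup_right ⟨h1, hn⟩
    · have : n = s * (s⁻¹ * n) := by group
      rw [this]
      refine mul_mem (Subgroup.mem_sup_left (Subgroup.subset_closure rfl))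
        (Subgroup.mem_sup_right (Subgroup.mem_inf.2 ⟨?_, Subgroup.mul_mem _ (Subgroup.inv_mem _ hsN) hn⟩))
      show (s⁻¹ * n) • x = x
      rw [mul_smul, h1, ← hsx, inv_smul_smul]
  refine ⟨{ B := MulAction.stabilizer G x
            N := MulAction.stabilizer G ({x, y} : Set Ω)
            S := {s}
            sup_eq_top := ?_
            conj_mem := ?_
            subset := Set.singleton_subset_iff.2 hsN
            sq_mem := ?_
            inj := ?_
            closure_sup := hclos
            mul_mem_union := ?_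
            conj_ne := ?_ }, rfl, rfl, ?_⟩
  · refine eq_top_iff.2 fun g _ => ?_
    rcases hdec g with ⟨b, hb, rfl⟩ | ⟨b, hb, b', hb', rfl⟩
    · exact Subgroup.mem_sup_left hb
    · exact mul_mem (mul_mem (Subgroup.mem_sup_left hb) (Subgroup.mem_sup_right hsN))
        (Subgroup.mem_sup_left hb')
  · rintro n hn t ⟨ht, htN⟩
    have htxy : t • x = x ∧ t • y = y := by
      rcases hN t htN with h | ⟨h, _⟩
      · exact h
      · exact absurd (ht.symm.trans h) hxy
    rw [MulAction.mem_stabilizer_iff, mul_smul, mul_smul]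
    rcases hN n⁻¹ (inv_mem hn) with ⟨e, _⟩ | ⟨e, _⟩
    · rw [e, htxy.1]; exact inv_smul_eq_iff.1 e |>.symm
    · rw [e, htxy.2]; exact inv_smul_eq_iff.1 e |>.symm
  · rintro t rfl
    exact hss
  · rintro t rfl t' rfl _
    rfl
  · rintro t rfl n hn b hb
    rcases hN n hn with ⟨h1, _⟩ | ⟨h1, h1'⟩
    · left
      rw [DoubleCoset.mem_doubleCoset]
      refine ⟨1, one_mem _, n⁻¹ * b * n, ?_, by group⟩
      exact mul_mem (mul_mem (inv_mem h1) hb) h1
    · rcases hdec (t * b * n) with ⟨c, hc, he⟩ | ⟨c, hc, c', hc', he⟩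
      · left
        rw [DoubleCoset.mem_doubleCoset, he]
        have htn : t * n ∈ MulAction.stabilizer G x := by
          rw [MulAction.mem_stabilizer_iff, mul_smul, h1, hsy]
        exact ⟨c * (t * n)⁻¹, mul_mem hc (inv_mem htn), 1, one_mem _, by group⟩
      · right
        rw [DoubleCoset.mem_doubleCoset, he]
        have hnt : n⁻¹ * t ∈ MulAction.stabilizer G x := by
          rw [MulAction.mem_stabilizer_iff, mul_smul, hsx, inv_smul_eq_iff, h1]
        exact ⟨c, hc, n⁻¹ * t * c', mul_mem hnt hc', by group⟩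
  · rintro t rfl heq
    obtain ⟨b, hb1, hb2⟩ := h2 hxy hxz
    have hmem : b ∈ (fun c : G => t * c * t) '' (MulAction.stabilizer G x : Set G) := by
      rw [heq]; exact hb1
    obtain ⟨c, hc, he⟩ := hmem
    have hty : (fun c : G => t * c * t) c • y = y := by
      show (t * c * t) • y = y
      rw [mul_smul, mul_smul, hsy, (hc : c • x = x), hsx]
    rw [he, hb2] at hty
    exact hyz hty.symm
  · show Nat.card ({s} : Set G) = 1
    simp

end Cfsg.Agent.S0323
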