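import Cfsg.Statements.S0328
import Cfsg.Agent.Lib.Suzuki.Simple

set_option autoImplicit false
open Cfsg

namespace Cfsg.Agent.S0328

/-- The stabiliser in the Suzuki group of the two ovoid points spanned by `(1,0,0,0)` and `(0,0,0,1)` is
isomorphic to the multiplicative group of the field (cyclic of order `q - 1`). -/
theorem result {F : Type*} [Field F] [Fintype F] {m : ℕ} (hm : 1 ≤ m)
    (hF : Fintype.card F = 2 ^ (2 * m + 1)) :
    Nonempty (↥(MulAction.stabilizer (Cfsg.Sz F m) (Cfsg.suzukiPointInfinity F) ⊓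
        MulAction.stabilizer (Cfsg.Sz F m) (Cfsg.suzukiPointZero F)) ≃* Fˣ) := by
  obtain ⟨D⟩ := Cfsg.Agent.Suzuki.exists_dat hm hF
  let f : Fˣ →* Cfsg.Sz F m :=
    { toFun := Cfsg.Agent.Suzuki.gH D
      map_one' := Cfsg.Agent.Suzuki.gH_one D
      map_mul' := fun u v => (Cfsg.Agent.Suzuki.gH_mul D u v).symm }
  have hf : Function.Injective f := fun u v h => by
    have := congrArg (fun g : Cfsg.Sz F m => g.1.1 1 1) h
    simp [f, Cfsg.Agent.Suzuki.gH, Cfsg.Agent.Suzuki.H_val, Cfsg.Agent.Suzuki.hVec] at this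
    exact Units.ext (D.θ.injective this)
  refine ⟨((MonoidHom.ofInjective hf).trans (MulEquiv.subgroupCongr ?_)).symm⟩
  ext g
  rw [MonoidHom.mem_range, Subgroup.mem_inf, MulAction.mem_stabilizer_iff, MulAction.mem_stabilizer_iff,
    Cfsg.Agent.Suzuki.pointZero_eq D]
  constructor
  · rintro ⟨u, rfl⟩
    refine ⟨congrArg Subtype.val (Cfsg.Agent.Suzuki.gH_oI D u), ?_⟩
    have := congrArg Subtype.val (Cfsg.Agent.Suzuki.gH_oP D u 0 0)
    simp only [mul_zero] at this
    exact this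
  · rintro ⟨h1, h2⟩
    obtain ⟨u, hu⟩ := Cfsg.Agent.Suzuki.fix_two D hF g.2 h1 h2
    exact ⟨u, Subtype.ext hu.symm⟩


end Cfsg.Agent.S0328
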