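import Cfsg.Statements.S0330
import Cfsg.Agent.Lib.Suzuki.Sylow

set_option autoImplicit false
open Cfsg

namespace Cfsg.Agent.S0330

/-- A Sylow 2-subgroup `P` of the Suzuki group (field with `q = 2^(2m+1)` elements, `m ≥ 1`) has order `q²` and
exponent `4`; its centre coincides with its commutator subgroup and has order `q`. -/
theorem result {F : Type*} [Field F] [Fintype F] {m : ℕ} (hm : 1 ≤ m)
    (hF : Fintype.card F = 2 ^ (2 * m + 1)) (P : Sylow 2 (Cfsg.Sz F m)) :
    Nat.card P = (2 ^ (2 * m + 1)) ^ 2 ∧ Monoid.exponent P = 4 ∧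
      Subgroup.center P = commutator P ∧ Nat.card (Subgroup.center P) = 2 ^ (2 * m + 1) := by
  obtain ⟨D⟩ := Cfsg.Agent.Suzuki.exists_dat hm hF
  obtain ⟨e⟩ := Cfsg.Agent.Suzuki.sylow_equiv D hF P
  have hc : Subgroup.center P = (Subgroup.center (Cfsg.Agent.Suzuki.Q D)).map e.toMonoidHom := by
    ext x
    obtain ⟨y, rfl⟩ := e.surjective x
    rw [Subgroup.mem_center_iff, show e y = e.toMonoidHom y from rfl,
      Subgroup.mem_map_iff_mem e.injective, Subgroup.mem_center_iff]
    refine ⟨fun h z => e.injective ?_, fun h z => ?_⟩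
    · simpa using h (e z)
    · obtain ⟨w, rfl⟩ := e.surjective z
      simp only [MulEquiv.toMonoidHom_eq_coe, MonoidHom.coe_coe, ← map_mul, h w]
  refine ⟨?_, ?_, ?_, ?_⟩
  · rw [← Nat.card_congr e.toEquiv, Cfsg.Agent.Suzuki.card_Q D, hF]
  · rw [← Monoid.exponent_eq_of_mulEquiv e, Cfsg.Agent.Suzuki.exponent_Q D]
  · rw [hc, ← Cfsg.Agent.Suzuki.commutator_Q D hF, commutator_def, commutator_def, Subgroup.map_commutator,
      Subgroup.map_top_of_surjective _ e.surjective]
  · rw [hc, Subgroup.card_map_of_injective e.injective, Cfsg.Agent.Suzuki.card_center_Q D hF, hF]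

end Cfsg.Agent.S0330
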