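import Cfsg.Statements.S0335
import Cfsg.Agent.Lib.Suzuki.Simple

set_option autoImplicit false
open Cfsg

namespace Cfsg.Agent.S0335

open scoped Matrix
/-- The Suzuki–Tits point set is an ovoid: any three distinct points of it are projectively independent
(no line of projective 3-space meets it in more than two points). -/
theorem result {F : Type*} [Field F] [Fintype F] {m : ℕ} (hm : 1 ≤ m)
    (hF : Fintype.card F = 2 ^ (2 * m + 1)) (p : Fin 3 ↪ Cfsg.suzukiOvoid F m) :
    Projectivization.Independent (fun i => (p i : Projectivization F (Fin 4 → F))) := by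
  obtain ⟨D⟩ := Cfsg.Agent.Suzuki.exists_dat hm hF
  have hne : ∀ i j, i ≠ j → p i ≠ p j := fun i j h e => h (p.injective e)
  obtain ⟨g, g0, g1⟩ := MulAction.is_two_pretransitive_iff.1 (Cfsg.Agent.Suzuki.two_transitive D)
    (hne 0 1 (by decide))
    (show Cfsg.Agent.Suzuki.oI D ≠ Cfsg.Agent.Suzuki.oP D 0 0 from
      fun e => Cfsg.Agent.Suzuki.pP_ne_inf D 0 0 (congrArg Subtype.val e).symm)
  obtain ⟨x, y, g2⟩ := (Cfsg.Agent.Suzuki.o_cases D (g • p 2)).resolve_left fun e =>
    hne 0 2 (by decide) (MulAction.injective g (g0.trans e.symm))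
  have hxy : x ≠ 0 ∨ y ≠ 0 := by
    by_contra hh
    push_neg at hh
    obtain ⟨rfl, rfl⟩ := hh
    exact hne 1 2 (by decide) (MulAction.injective g (g1.trans g2.symm))
  rw [Projectivization.independent_iff]
  let v : Fin 3 → (Fin 4 → F) := fun i => ((p i : Projectivization F (Fin 4 → F))).rep
  show LinearIndependent F v
  refine LinearIndependent.of_comp (Matrix.mulVecLin g.1.1) ?_
  have key : ∀ i (w : Fin 4 → F) (hw : w ≠ 0),
      ((g • p i : Cfsg.suzukiOvoid F m) : Projectivization F (Fin 4 → F)) = Projectivization.mk F w hw →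
      ∃ c : Fˣ, g.1.1 *ᵥ v i = c • w := by
    intro i w hw h
    rw [Cfsg.Agent.Suzuki.coe_smul_o D, ← Projectivization.mk_rep (p i : Projectivization F (Fin 4 → F)),
      Cfsg.Agent.Suzuki.act_mk _ _ (Cfsg.Agent.Suzuki.mulVec_ne _ (Projectivization.rep_nonzero _)),
      Projectivization.mk_eq_mk_iff] at h
    obtain ⟨c, hc⟩ := h
    exact ⟨c, hc.symm⟩
  obtain ⟨c0, h0⟩ := key 0 _ _ (congrArg Subtype.val g0)
  obtain ⟨c1, h1⟩ := key 1 _ _ (congrArg Subtype.val g1)
  obtain ⟨c2, h2⟩ := key 2 _ _ (congrArg Subtype.val g2)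
  rw [Fintype.linearIndependent_iff]
  intro k hk
  simp only [Fin.sum_univ_three, Function.comp_apply, Matrix.mulVecLin_apply, h0, h1, h2] at hk
  have e0 := congrFun hk 0
  have e1 := congrFun hk 1
  have e2 := congrFun hk 2
  have e3 := congrFun hk 3
  simp [Cfsg.Agent.Suzuki.vP, Cfsg.Agent.Suzuki.ov, Units.smul_def] at e0 e1 e2 e3
  have k2 : k 2 = 0 := by
    rcases hxy with h | h
    · simpa [c2.ne_zero, h] using e2
    · simpa [c2.ne_zero, h] using e1
  simp [k2, c1.ne_zero] at e3
  simp [k2, e3, c0.ne_zero] at e0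
  intro i
  fin_cases i <;> assumption


end Cfsg.Agent.S0335
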