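import Cfsg.Statements.S0341
import Cfsg.Agent.Lib.CT.Frobenius
import Cfsg.Agent.Lib.OddLocal.FrobeniusAction

set_option autoImplicit false
open Cfsg

namespace Cfsg.Agent.S0341

open MulAction Subgroup
open scoped commutatorElement

/-- If a finite group acts faithfully and doubly transitively, no non-identity element fixes three points, some
non-identity element fixes two points, and some normal subgroup acts regularly, then the number of points
is `2^p` with `p` prime. -/
theorem result {G Ω : Type*} [Group G]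
    [MulAction G Ω] [Fintype Ω] [FaithfulSMul G Ω] (h2 : MulAction.IsMultiplyPretransitive G Ω 2)
    (h3 : ∀ g : G, ∀ a b c : Ω, a ≠ b → b ≠ c → a ≠ c → g • a = a → g • b = b → g • c = c → g = 1)
    (hfix : ∃ g : G, g ≠ 1 ∧ ∃ a b : Ω, a ≠ b ∧ g • a = a ∧ g • b = b)
    (N : Subgroup G) [N.Normal] (hNt : MulAction.IsPretransitive N Ω)
    (hNr : ∀ a : Ω, MulAction.stabilizer N a = ⊥) :
    ∃ p : ℕ, p.Prime ∧ Fintype.card Ω = 2 ^ p := by
  classical
  haveI : Finite G := Finite.of_injective (MulAction.toPerm : G → Equiv.Perm Ω)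
    MulAction.toPerm_injective
  obtain ⟨g₀, hg₀, a, b, hab, hga, hgb⟩ := hfix
  obtain ⟨q, hq, hqd⟩ := Nat.exists_prime_and_dvd (fun h => hg₀ (orderOf_eq_one_iff.mp h))
  haveI := Fact.mk hq
  set h := g₀ ^ (orderOf g₀ / q) with hh
  have hord : orderOf h = q := orderOf_pow_orderOf_div (orderOf_pos g₀).ne' hqd
  have hha : h • a = a := pow_mem (show g₀ ∈ stabilizer G a from hga) _
  have hhb : h • b = b := pow_mem (show g₀ ∈ stabilizer G b from hgb) _
  have hh1 : h ≠ 1 := fun e => hq.ne_one (by rw [← hord, e, orderOf_one])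
  -- the bijection between `N` and the points
  have hinj : Function.Injective fun n : N => (n : G) • a := fun x y hxy => by
    have h1 : x⁻¹ * y ∈ stabilizer N a := by
      show (x⁻¹ * y : N) • a = a
      rw [mul_smul, inv_smul_eq_iff]
      exact hxy.symm
    rw [hNr a, mem_bot, inv_mul_eq_one] at h1
    exact h1
  have hsurj : Function.Surjective fun n : N => (n : G) • a := fun c => by
    obtain ⟨n, hn⟩ := hNt.exists_smul_eq a c
    exact ⟨n, hn⟩
  have hcardN : Nat.card N = Fintype.card Ω := by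
    rw [Nat.card_eq_of_bijective _ ⟨hinj, hsurj⟩, Nat.card_eq_fintype_card]
  have hH : ∀ (g : G), g • a = a → ∀ n : N, ((g : G) * n * g⁻¹) • a = g • (n : G) • a := by
    intro g hg n
    rw [mul_smul, mul_smul, show g⁻¹ • a = a from inv_smul_eq_iff.mpr hg.symm]
  have hcomm_iff : ∀ (g : G), g • a = a → ∀ n : N,
      g • (n : G) • a = (n : G) • a ↔ g * n = n * g := by
    intro g hg n
    rw [← hH g hg n]
    constructor
    · intro e
      have := @hinj ⟨g * n * g⁻¹, Normal.conj_mem inferInstance _ n.2 g⟩ n e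
      exact mul_inv_eq_iff_eq_mul.mp (congrArg Subtype.val this)
    · intro e
      rw [e, mul_inv_cancel_right]
  obtain ⟨x, hx⟩ := hsurj b
  change (x : G) • a = b at hx
  have hx1 : x ≠ 1 := fun e => hab (by rw [← hx, e, OneMemClass.coe_one, one_smul])
  -- `h` centralises exactly `1` and `x` in `N`
  have hCN : ∀ n : N, h * n = n * h ↔ n = 1 ∨ n = x := by
    intro n
    rw [← hcomm_iff h hha n]
    refine ⟨fun e => ?_, ?_⟩
    · by_contra hn
      push Not at hn
      have h1 : (n : G) • a ≠ a := fun e' => hn.1 (hinj (by simpa using e'))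
      have h2 : (n : G) • a ≠ b := fun e' => hn.2 (hinj (e'.trans hx.symm))
      exact hh1 (h3 h a b _ hab h2.symm h1.symm hha hhb e)
    · rintro (rfl | rfl)
      · simpa using hha
      · rw [hx, hhb]
  have hC2 : Nat.card ↥(N ⊓ centralizer ((zpowers h : Subgroup G) : Set G)) = 2 := by
    have e : ((N ⊓ centralizer ((zpowers h : Subgroup G) : Set G) : Subgroup G) : Set G) =
        {1, (x : G)} := by
      ext g
      rw [SetLike.mem_coe, Subgroup.mem_inf]
      have hzc : g ∈ centralizer ((zpowers h : Subgroup G) : Set G) ↔ h * g = g * h := by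
        refine ⟨fun hc => mem_centralizer_iff.mp hc h (mem_zpowers h), fun hc => mem_centralizer_iff.mpr ?_⟩
        rintro _ ⟨i, rfl⟩
        exact ((show Commute h g from hc).zpow_left i).eq
      rw [hzc]
      constructor
      · rintro ⟨hg, hc⟩
        rcases (hCN ⟨g, hg⟩).mp hc with e | e
        · exact Or.inl (congrArg Subtype.val e)
        · exact Or.inr (congrArg Subtype.val e)
      · rintro (rfl | rfl)
        · exact ⟨one_mem _, by simp⟩
        · exact ⟨x.2, (hCN x).mpr (Or.inr rfl)⟩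
    rw [← SetLike.coe_sort_coe, e, Nat.card_coe_set_eq, Set.ncard_pair]
    exact fun e' => hx1 (Subtype.ext e'.symm)
  -- conjugacy of the nontrivial elements of `N`
  have htrans : ∀ c d : Ω, c ≠ a → d ≠ a → ∃ g : G, g • a = a ∧ g • c = d := fun c d hc hd => by
    obtain ⟨g, hg1, hg2⟩ := (is_two_pretransitive_iff.mp h2) hc.symm hd.symm
    exact ⟨g, hg1, hg2⟩
  have hxh : h * x = x * h := (hCN x).mpr (Or.inr rfl)
  have hxx : x * x = 1 := by
    have h1 : h * (x⁻¹ : N) = (x⁻¹ : N) * h := by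
      rw [Subgroup.coe_inv]
      exact (Commute.inv_right (show Commute h x from hxh)).eq
    rcases (hCN x⁻¹).mp h1 with e | e
    · exact absurd (inv_eq_one.mp e) hx1
    · conv_lhs => arg 1; rw [← e]
      exact inv_mul_cancel x
  have hsq : ∀ n : N, n * n = 1 := fun n => by
    by_cases hn : n = 1
    · rw [hn, one_mul]
    have h1 : (n : G) • a ≠ a := fun e' => hn (hinj (by simpa using e'))
    obtain ⟨g, hg1, hg2⟩ := htrans b ((n : G) • a) hab.symm h1
    have e : n = ⟨g * x * g⁻¹, Normal.conj_mem inferInstance _ x.2 g⟩ := hinj (by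
      show (n : G) • a = (g * x * g⁻¹) • a
      rw [hH g hg1, hx, hg2])
    rw [e]
    refine Subtype.ext ?_
    show g * x * g⁻¹ * (g * x * g⁻¹) = 1
    have hxx' : (x : G) * x = 1 := congrArg Subtype.val hxx
    calc g * x * g⁻¹ * (g * x * g⁻¹) = g * ((x : G) * x) * g⁻¹ := by group
      _ = 1 := by rw [hxx', mul_one, mul_inv_cancel]
  have hinv : ∀ n : N, n⁻¹ = n := fun n => inv_eq_of_mul_eq_one_right (hsq n)
  have hab' : ∀ m n : N, m * n = n * m := fun m n => by
    conv_lhs => rw [← hinv (m * n), mul_inv_rev, hinv, hinv]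
  have hEA : IsElementaryAbelian 2 N := ⟨⟨⟨hab'⟩⟩, fun n hn => by
    rw [pow_two]; exact congrArg Subtype.val (hsq ⟨n, hn⟩)⟩
  by_cases hq2 : q = 2
  · -- an involution with two fixed points
    have hh2 : h * h = 1 := by rw [← pow_two, ← hq2, ← hord, pow_orderOf_eq_one]
    let φ : N →* N :=
      { toFun := fun n => ⟨h * n * h⁻¹, Normal.conj_mem inferInstance _ n.2 h⟩ * n⁻¹
        map_one' := by ext; simp
        map_mul' := fun m n => by
          rw [mul_inv_rev, hab' n⁻¹,
            show (⟨h * ((m * n : N) : G) * h⁻¹, Normal.conj_mem inferInstance _ (m * n).2 h⟩ : N) =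
              ⟨h * m * h⁻¹, Normal.conj_mem inferInstance _ m.2 h⟩ *
              ⟨h * n * h⁻¹, Normal.conj_mem inferInstance _ n.2 h⟩ from Subtype.ext (by
                show h * ((m : G) * n) * h⁻¹ = _ * _
                group)]
          generalize (⟨h * m * h⁻¹, _⟩ : N) = u
          generalize (⟨h * n * h⁻¹, _⟩ : N) = v
          rw [mul_assoc u v, ← mul_assoc v, hab' v m⁻¹, mul_assoc m⁻¹, ← mul_assoc u] }
    have hker : ∀ n, φ n = 1 → n = 1 ∨ n = x := fun n hn => (hCN n).mp (by
      have h1 : (⟨h * n * h⁻¹, Normal.conj_mem inferInstance _ n.2 h⟩ : N) = n :=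
        mul_inv_eq_one.mp hn
      exact mul_inv_eq_iff_eq_mul.mp (congrArg Subtype.val h1))
    have hrange : ∀ n, φ n = 1 ∨ φ n = x := fun n => (hCN _).mp (by
      have hhi : h⁻¹ = h := inv_eq_of_mul_eq_one_right hh2
      have h1 : ((φ n : N) : G)⁻¹ = φ n := congrArg Subtype.val (hinv (φ n))
      have h2' : ((φ n : N) : G) = h * n * h⁻¹ * (n : G)⁻¹ := rfl
      have h3' : h * (φ n : G) * h⁻¹ = ((φ n : N) : G)⁻¹ := by
        rw [h2']
        calc h * (h * n * h⁻¹ * (n : G)⁻¹) * h⁻¹ = (h * h) * n * h⁻¹ * (n : G)⁻¹ * h⁻¹ := by group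
          _ = (n : G) * h * (n : G)⁻¹ * h⁻¹ := by rw [hh2, hhi, one_mul]
          _ = (h * n * h⁻¹ * (n : G)⁻¹)⁻¹ := by group
      rw [h1] at h3'
      exact mul_inv_eq_iff_eq_mul.mp h3')
    have h1 : Nat.card φ.ker ≤ 2 := by
      rw [← Set.ncard_pair (Ne.symm hx1), ← Nat.card_coe_set_eq, ← SetLike.coe_sort_coe]
      exact Nat.card_mono (Set.toFinite _) fun n hn => hker n (MonoidHom.mem_ker.mp hn)
    have h4 : Nat.card φ.range ≤ 2 := by
      rw [← Set.ncard_pair (Ne.symm hx1), ← Nat.card_coe_set_eq, ← SetLike.coe_sort_coe]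
      exact Nat.card_mono (Set.toFinite _) fun n ⟨m, hm⟩ => hm ▸ hrange m
    have h5 : Nat.card N ≤ 4 := by
      rw [← φ.ker.card_mul_index, Subgroup.index_ker]
      exact Nat.mul_le_mul h1 h4
    have h6 : 3 ≤ Nat.card N := by
      by_contra hlt
      have hN2 : ∀ n : N, n = 1 ∨ n = x := by
        have hu : ({1, x} : Set N) = Set.univ := Set.eq_of_subset_of_ncard_le (Set.subset_univ _)
          (by rw [Set.ncard_univ, Set.ncard_pair (Ne.symm hx1)]; omega)
        intro n
        exact (Set.ext_iff.mp hu n).mpr (Set.mem_univ n)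
      refine hh1 (eq_of_smul_eq_smul (α := Ω) fun c => ?_)
      rw [one_smul]
      obtain ⟨n, rfl⟩ := hsurj c
      exact (hcomm_iff h hha n).mpr ((hCN n).mpr (hN2 n))
    have h7 : 2 ∣ Nat.card N := by
      have := orderOf_dvd_natCard x
      rwa [orderOf_eq_prime (by rw [pow_two, hxx]) hx1] at this
    exact ⟨2, Nat.prime_two, by omega⟩
  refine ⟨q, hq, ?_⟩
  -- the stabiliser of a point is a Frobenius group on the other points
  letI := Fintype.ofFinite G
  set Hs := stabilizer G a with hHs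
  set B := (stabilizer G b).subgroupOf Hs with hB
  have hTI : CT.IsTI B (B : Set Hs) := by
    intro g hg s hs hgs
    refine Subtype.ext ?_
    have hgab : (g : G)⁻¹ • b ≠ b := fun e => hg (show (g : G) • b = b by
      conv_lhs => rw [← e, smul_inv_smul])
    have hgaa : (g : G)⁻¹ • b ≠ a := fun e => hab (by
      rw [← show (g : G) • a = a from g.2, ← e, smul_inv_smul])
    refine h3 s a b _ hab hgab.symm hgaa.symm s.2 hs ?_
    have h1 : ((g : G) * s * (g : G)⁻¹) • b = b := hgs
    rw [mul_smul, mul_smul] at h1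
    exact smul_left_cancel (g : G) (h1.trans (smul_inv_smul _ _).symm)
  obtain ⟨K, hKn, hKcard, hKB, -, -⟩ := CT.frobenius_kernel hTI
  haveI := hKn
  have hKfix : ∀ k : Hs, k ∈ K → ∀ c : Ω, c ≠ a → (k : G) • c = c → k = 1 := by
    intro k hk c hc hkc
    obtain ⟨g, hg1, hg2⟩ := htrans b c hab.symm hc
    have h1 : (⟨g, hg1⟩ : Hs)⁻¹ * k * ⟨g, hg1⟩ ∈ K ⊓ B := by
      refine ⟨by simpa using hKn.conj_mem k hk (⟨g, hg1⟩ : Hs)⁻¹, ?_⟩
      show (g⁻¹ * (k : G) * g) • b = b
      rw [mul_smul, mul_smul, hg2, hkc, inv_smul_eq_iff]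
      exact hg2.symm
    rw [hKB, mem_bot] at h1
    calc k = (⟨g, hg1⟩ : Hs) * ((⟨g, hg1⟩ : Hs)⁻¹ * k * ⟨g, hg1⟩) * (⟨g, hg1⟩ : Hs)⁻¹ := by group
      _ = 1 := by rw [h1]; group
  have hqK : ¬ q ∣ Nat.card K := by
    intro hd
    obtain ⟨k, hk⟩ := exists_prime_orderOf_dvd_card' (G := K) q hd
    rw [← Subgroup.orderOf_coe, ← Subgroup.orderOf_coe] at hk
    -- a fixed point of `k` by counting modulo `q`
    have hkP : IsPGroup q (zpowers ((k : Hs) : G)) :=
      IsPGroup.of_card (n := 1) (by rw [Nat.card_zpowers, hk, pow_one])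
    have hka : ((k : Hs) : G) • a = a := (k : Hs).2
    have hqn : q ∣ Nat.card Ω - 1 := by
      have h1 : B.index = Nat.card Ω - 1 := by
        rw [hB, Subgroup.subgroupOf]
        have e : (stabilizer G b).comap Hs.subtype = stabilizer Hs b := rfl
        rw [e, index_stabilizer]
        have : orbit Hs b = {c | c ≠ a} := by
          ext c
          refine ⟨?_, fun hc => ?_⟩
          · rintro ⟨g, rfl⟩ e'
            exact hab ((smul_left_cancel (g : G) (e'.trans g.2.symm)).symm)
          · obtain ⟨g, hg1, hg2⟩ := htrans b c hab.symm hc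
            exact ⟨⟨g, hg1⟩, hg2⟩
        rw [this]
        simp [Set.ncard_eq_toFinset_card', Finset.filter_ne', Nat.card_eq_fintype_card]
      rw [← h1, ← hKcard]; exact hd
    have h2 := hkP.card_modEq_card_fixedPoints Ω
    have h3' : fixedPoints (zpowers ((k : Hs) : G)) Ω = {a} := by
      ext c
      refine ⟨fun hc => by_contra fun hca => ?_, ?_⟩
      · have := hKfix k k.2 c hca (hc ⟨_, mem_zpowers _⟩)
        rw [this, OneMemClass.coe_one, orderOf_one] at hk
        exact hq.ne_one hk.symm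
      · rintro rfl g
        obtain ⟨i, hi⟩ := mem_zpowers_iff.mp g.2
        show (g : G) • c = c
        rw [← hi]; exact zpow_mem (show ((k : Hs) : G) ∈ stabilizer G c from hka) i
    rw [h3'] at h2
    have h4 : Nat.card ({a} : Set Ω) = 1 := by simp
    rw [h4] at h2
    -- `q` divides `|Ω| - 1`; so the fixed points of `h` contradict `q ≠ 2`
    have hhP : IsPGroup q (zpowers h) := IsPGroup.of_card (n := 1) (by rw [Nat.card_zpowers, hord, pow_one])
    have h5 := hhP.card_modEq_card_fixedPoints Ω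
    have h6 : fixedPoints (zpowers h) Ω = {a, b} := by
      ext c
      refine ⟨fun hc => by_contra fun hcab => ?_, fun hc g => ?_⟩
      · simp only [Set.mem_insert_iff, Set.mem_singleton_iff, not_or] at hcab
        exact hh1 (h3 h a b c hab (Ne.symm hcab.2) (Ne.symm hcab.1) hha hhb (hc ⟨_, mem_zpowers _⟩))
      · obtain ⟨i, hi⟩ := mem_zpowers_iff.mp g.2
        show (g : G) • c = c
        rw [← hi]
        rcases hc with rfl | hc
        · exact zpow_mem (show h ∈ stabilizer G c from hha) i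
        · rw [Set.mem_singleton_iff] at hc; subst hc
          exact zpow_mem (show h ∈ stabilizer G c from hhb) i
    rw [h6, Nat.card_coe_set_eq, Set.ncard_pair hab] at h5
    have h7 := h5.symm.trans h2
    exact hq.one_lt.ne' (Nat.eq_one_of_dvd_one ((Nat.modEq_iff_dvd' one_le_two).mp h7.symm))
  have hn3 : 3 ≤ Fintype.card Ω := by
    by_contra hlt
    refine hh1 (eq_of_smul_eq_smul (α := Ω) fun c => ?_)
    rw [one_smul]
    by_contra hc
    have h1 : c ≠ a := fun e => hc (e ▸ hha)
    have h2 : c ≠ b := fun e => hc (e ▸ hhb)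
    exact hlt (Fintype.two_lt_card_iff.mpr ⟨a, b, c, hab, h1.symm, h2.symm⟩)
  have hK1 : Nat.card K ≠ 1 := by
    intro hK1
    rw [hKcard, index_eq_one] at hK1
    obtain ⟨c, hca, hcb⟩ : ∃ c, c ≠ a ∧ c ≠ b := by
      by_contra hcon
      push Not at hcon
      have : (Finset.univ : Finset Ω) ⊆ {a, b} := fun c _ => by
        by_cases hc : c = a
        · simp [hc]
        · simp [hcon c hc]
      have := (Finset.card_le_card this).trans Finset.card_le_two
      rw [Finset.card_univ] at this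
      omega
    obtain ⟨g, hg1, hg2⟩ := htrans b c hab.symm hca
    have : (⟨g, hg1⟩ : Hs) ∈ B := hK1 ▸ mem_top _
    exact hcb (hg2.symm.trans this)
  obtain ⟨r, hr, hrK⟩ := Nat.exists_prime_and_dvd hK1
  haveI := Fact.mk hr
  let R₀ : Sylow r K := default
  set R₁ := (R₀ : Subgroup K).map K.subtype with hR₁
  have hfr : normalizer (R₁ : Set Hs) ⊔ K = ⊤ := Sylow.normalizer_sup_eq_top R₀
  -- a conjugate of `h` normalises `R₁`
  let hs : Hs := ⟨h, hha⟩
  obtain ⟨g, hgR⟩ : ∃ g : Hs, g⁻¹ * hs * g ∈ normalizer (R₁ : Set Hs) := by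
    set M := normalizer (R₁ : Set Hs)
    let Q : Sylow q M := default
    have hMd : ¬ q ∣ M.index := fun hd => hqK (hd.trans (by
      have h1 := relIndex_mul_index (inf_le_left : M ⊓ K ≤ M)
      rw [← relIndex_mul_index (inf_le_right : M ⊓ K ≤ K), inf_relIndex_left, inf_relIndex_right,
        ← relIndex_sup_right, hfr, relIndex_top_right, mul_comm (M.relIndex K)] at h1
      rw [Nat.eq_of_mul_eq_mul_left (Nat.pos_of_ne_zero index_ne_zero_of_finite) h1]
      exact relIndex_dvd_card M K))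
    obtain ⟨Qs, hQs⟩ := Sylow.exists_comap_subtype_eq Q
    have hQle : (Qs : Subgroup Hs) ≤ M := by
      have h1 : ¬ q ∣ (Qs : Subgroup Hs).relIndex M * M.index := by
        rw [hq.dvd_mul, not_or]
        refine ⟨?_, hMd⟩
        rw [Subgroup.relIndex, show (Qs : Subgroup Hs).subgroupOf M = (Q : Subgroup M) from hQs]
        exact Q.not_dvd_index
      have h2 : (Qs : Subgroup Hs) ⊓ M = (Qs : Subgroup Hs) := by
        refine eq_of_le_of_card_ge inf_le_left ?_
        obtain ⟨i, hi⟩ := IsPGroup.iff_card.mp (Qs.isPGroup'.to_le (inf_le_left : (Qs : Subgroup Hs) ⊓ M ≤ Qs))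
        have h3 : ¬ q ∣ ((Qs : Subgroup Hs) ⊓ M).index := by
          rw [← relIndex_mul_index (inf_le_right : (Qs : Subgroup Hs) ⊓ M ≤ M), inf_relIndex_right]
          exact h1
        rw [Qs.card_eq_multiplicity, hi]
        refine Nat.pow_le_pow_right hq.pos ?_
        have h4 : (Nat.card Hs).factorization q = i := by
          rw [← ((Qs : Subgroup Hs) ⊓ M).card_mul_index, hi,
            Nat.factorization_mul (pow_ne_zero _ hq.ne_zero) index_ne_zero_of_finite]
          simp [Nat.Prime.factorization_pow hq, Nat.factorization_eq_zero_of_not_dvd h3]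
        rw [h4]
      exact h2 ▸ inf_le_right
    have hsP : IsPGroup q (zpowers hs) := IsPGroup.of_card (n := 1) (by
      rw [Nat.card_zpowers, ← Subgroup.orderOf_coe, hord, pow_one])
    obtain ⟨S, hS⟩ := hsP.exists_le_sylow
    obtain ⟨g, hg⟩ := MulAction.exists_smul_eq Hs Qs S
    refine ⟨g, hQle ?_⟩
    have h1 : hs ∈ (S : Subgroup Hs) := hS (mem_zpowers hs)
    rw [← hg, Sylow.smul_def, Sylow.pointwise_smul_def, Subgroup.mem_pointwise_smul_iff_inv_smul_mem] at h1
    simpa [MulAut.conj_apply] using h1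
  -- the abelian subgroup
  set R₂ := (R₁.map (MulAut.conj g).toMonoidHom).map Hs.subtype with hR₂
  set A₀ := R₂ ⊓ centralizer (R₂ : Set G) with hA₀
  have hR₂K : ∀ y ∈ R₂, ∃ k : Hs, k ∈ K ∧ (k : G) = y := by
    rintro _ ⟨_, ⟨y, ⟨z, hz, rfl⟩, rfl⟩, rfl⟩
    exact ⟨_, hKn.conj_mem _ z.2 g, rfl⟩
  have hA₀fix : ∀ y ∈ A₀, y ≠ 1 → ∀ c : Ω, c ≠ a → y • c ≠ c := by
    intro y hy hy1 c hc hyc
    obtain ⟨k, hk, rfl⟩ := hR₂K y hy.1
    exact hy1 (by rw [hKfix k hk c hc hyc, OneMemClass.coe_one])
  have hhR₂ : h ∈ normalizer (R₂ : Set G) := by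
    have h1 : hs ∈ normalizer ((R₁.map (MulAut.conj g).toMonoidHom : Subgroup Hs) : Set Hs) := by
      have := le_normalizer_map (MulAut.conj g).toMonoidHom ⟨_, hgR, rfl⟩
      simpa [mul_assoc] using this
    exact le_normalizer_map Hs.subtype ⟨hs, h1, rfl⟩
  have hRA : zpowers h ≤ normalizer (A₀ : Set G) := zpowers_le.mpr
    (OddLocal.normalizer_le_normalizer_inf_centralizer ⟨hhR₂, hhR₂⟩)
  have hA₀K : Nat.card A₀ ∣ Nat.card K := (card_dvd_of_le (inf_le_left : A₀ ≤ R₂)).trans (by
    rw [hR₂, card_map_of_injective Hs.subtype_injective,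
      card_map_of_injective (MulAut.conj g).injective, hR₁, card_map_of_injective K.subtype_injective]
    exact card_subgroup_dvd_card _)
  have hA₀ne : A₀ ≠ ⊥ := by
    have hP : IsPGroup r R₂ := ((R₀.isPGroup'.map K.subtype).map _).map Hs.subtype
    haveI : Nontrivial R₂ := (nontrivial_iff_ne_bot _).mpr fun e => by
      rw [hR₂, map_eq_bot_iff_of_injective _ Hs.subtype_injective,
        map_eq_bot_iff_of_injective _ (MulAut.conj g).injective, hR₁,
        map_eq_bot_iff_of_injective _ K.subtype_injective] at e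
      exact R₀.ne_bot_of_dvd_card hrK e
    haveI := hP.center_nontrivial
    obtain ⟨z, hz⟩ := exists_ne (1 : center R₂)
    refine fun e => hz (Subtype.ext (Subtype.ext (mem_bot.mp (e.le ⟨(z : R₂).2, ?_⟩))))
    exact mem_centralizer_iff.mpr fun y hy => congrArg Subtype.val (mem_center_iff.mp z.2 ⟨y, hy⟩)
  have hCH : ∀ y : G, y • a = a → y ∈ centralizer (N : Set G) → y = 1 := fun y hya hy =>
    eq_of_smul_eq_smul (α := Ω) fun c => by
      obtain ⟨n, rfl⟩ := hsurj c
      rw [one_smul]
      exact (hcomm_iff y hya n).mpr (mem_centralizer_iff.mp hy _ n.2).symm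
  have hA₀a : ∀ y ∈ A₀, y • a = a := fun y hy => by
    obtain ⟨k, -, rfl⟩ := hR₂K y hy.1
    exact k.2
  have hpA : ¬ 2 ∣ Nat.card A₀ := by
    intro hd
    obtain ⟨y, hy⟩ := exists_prime_orderOf_dvd_card' (G := A₀) 2 hd
    rw [← Subgroup.orderOf_coe] at hy
    have hy1 : (y : G) ≠ 1 := fun e => by rw [e, orderOf_one] at hy; omega
    have hP : IsPGroup 2 (zpowers (y : G)) :=
      IsPGroup.of_card (n := 1) (by rw [Nat.card_zpowers, hy, pow_one])
    have h5 := hP.card_modEq_card_fixedPoints Ω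
    have h6 : fixedPoints (zpowers (y : G)) Ω = {a} := by
      ext c
      refine ⟨fun hc => by_contra fun hca => hA₀fix y y.2 hy1 c hca (hc ⟨_, mem_zpowers _⟩), ?_⟩
      rintro rfl g'
      obtain ⟨i, hi⟩ := mem_zpowers_iff.mp g'.2
      show (g' : G) • c = c
      rw [← hi]; exact zpow_mem (show (y : G) ∈ stabilizer G c from hA₀a y y.2) i
    have h4 : Nat.card ({a} : Set Ω) = 1 := by simp
    rw [h6, h4, Nat.card_eq_fintype_card, ← hcardN] at h5
    have h7 : 2 ∣ Nat.card N := by
      have := orderOf_dvd_natCard x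
      rwa [orderOf_eq_prime (by rw [pow_two, hxx]) hx1] at this
    rw [Nat.ModEq, Nat.mod_eq_zero_of_dvd h7] at h5
    exact zero_ne_one h5
  have key := (OddLocal.ea_abelian_case (p := 2) (A₀ := A₀) (R := zpowers h) hEA
    (by rw [normalizer_eq_top_iff.mpr (inferInstance : N.Normal)]; exact le_top)
    (by rw [normalizer_eq_top_iff.mpr (inferInstance : N.Normal)]; exact le_top)
    hRA ?_ ?_ ?_ hpA ?_).1
  · rw [hC2, Nat.card_zpowers, hord] at key
    rw [← hcardN, key]
  · refine commutator_le.mpr fun u hu v hv => ?_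
    rw [commutatorElement_eq_one_iff_mul_comm.mpr (mem_centralizer_iff.mp hv.2 u hu.1)]
    exact one_mem _
  · intro u hu hu1 y hy hc
    have hua : u • a = a := by
      obtain ⟨i, rfl⟩ := mem_zpowers_iff.mp hu
      exact zpow_mem (show h ∈ stabilizer G a from hha) i
    have hcy : u * y = y * u := commutatorElement_eq_one_iff_mul_comm.mp (hCH _ (by
      have h1 : ⁅u, y⁆ ∈ Hs := by
        rw [commutatorElement_def]
        exact mul_mem (mul_mem (mul_mem hua (hA₀a y hy)) (inv_mem (show u ∈ Hs from hua)))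
          (inv_mem (show y ∈ Hs from hA₀a y hy))
      exact h1) hc)
    have hpow : h ∈ zpowers u := by
      have : zpowers u = zpowers h := by
        refine eq_of_le_of_card_ge (zpowers_le.mpr hu) ?_
        rw [Nat.card_zpowers, Nat.card_zpowers, hord]
        have : orderOf u ∣ q := by
          rw [← hord, ← Nat.card_zpowers h]
          exact Subgroup.orderOf_dvd_natCard _ hu
        rcases (Nat.dvd_prime hq).mp this with e | e
        · exact absurd (orderOf_eq_one_iff.mp e) hu1
        · exact e.ge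
      exact this ▸ mem_zpowers h
    obtain ⟨i, hi⟩ := mem_zpowers_iff.mp hpow
    have hcy' : h * y = y * h := hi ▸ ((show Commute u y from hcy).zpow_left i).eq
    by_contra hy'
    have hy1 : y ≠ 1 := fun e => hy' (e ▸ one_mem _)
    have h1 : h • y • b = y • b := by rw [← mul_smul, hcy', mul_smul, hhb]
    have hne : y • b ≠ a := fun e => hab (smul_left_cancel y ((hA₀a y hy).trans e.symm))
    by_cases e : y • b = b
    · exact hA₀fix y hy hy1 b hab.symm e
    · exact hh1 (h3 h a b _ hab (Ne.symm e) hne.symm hha hhb h1)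
  · rw [eq_bot_iff]
    rintro n ⟨hn, hc⟩
    obtain ⟨y, hy, hy1⟩ : ∃ y ∈ A₀, y ≠ 1 := (bot_or_exists_ne_one A₀).resolve_left hA₀ne
    by_contra hn1
    refine hA₀fix y hy hy1 (n • a) (fun e => hn1 ?_) ?_
    · exact mem_bot.mpr (congrArg Subtype.val (@hinj ⟨n, hn⟩ 1 (by simpa using e)))
    · exact (hcomm_iff y (hA₀a y hy) ⟨n, hn⟩).mpr (mem_centralizer_iff.mp hc y hy)
  · rw [Nat.card_zpowers, hord]
    exact fun hd => hq2 ((Nat.prime_dvd_prime_iff_eq Nat.prime_two hq).mp hd).symm

end Cfsg.Agent.S0341
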