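import Cfsg.Statements.S0346
import Cfsg.Agent.Lib.ZassOddCount.Feit
import Cfsg.Agent.Lib.ZassOddCount.PrimePow
import Cfsg.Agent.Lib.PermGp.ZassenhausInvolutions
-- import your own Cfsg.Agent.* helpers here

set_option autoImplicit false
open Cfsg

namespace Cfsg.Agent.S0346

/-- The number of points of a finite simple Zassenhaus group is `p^k + 1` for some prime power `p^k` (the regular normal
subgroup of a point stabiliser is a `p`-group). -/
theorem result {G Ω : Type*} [Group G] [Finite G] [MulAction G Ω] [Fintype Ω]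
    (hZ : Cfsg.IsZassenhausGroup G Ω) [IsSimpleGroup G] :
    IsPrimePow (Fintype.card Ω - 1) := by
  classical
  have Z := PermGp.ZEven.zgrp_of_zassenhaus hZ
  obtain ⟨-, -, a, b, hab, -, -⟩ := Z.nontriv
  obtain ⟨F, hF⟩ := PermGp.ZEven.exists_zker Z hab
  have hn := hF.card_add_one hab
  obtain ⟨c, hca, hcb⟩ := Z.exists_third a b
  have h3 : 3 ≤ Fintype.card Ω := by
    have := Finset.card_le_univ ({c, a, b} : Finset Ω)
    rwa [Finset.card_eq_three.mpr ⟨c, a, b, hca, hcb, hab, rfl⟩] at this
  rw [show Fintype.card Ω - 1 = Nat.card F by omega]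
  set d := Nat.card ↥(MulAction.stabilizer G a ⊓ MulAction.stabilizer G b) with hd
  rcases Nat.lt_or_ge (2 * d) (Nat.card F - 1) with hbig | hsmall
  · rcases Nat.even_or_odd d with heven | hodd
    · have := PermGp.card_sub_two_le_two_mul hZ hab heven
      omega
    · obtain ⟨h2, -, -⟩ := ZassOdd.FeitBound.main _ rfl hZ hab hF hodd (by omega)
      obtain ⟨k, hk⟩ := h2.exists_card_eq
      refine (isPrimePow_nat_iff _).mpr ⟨2, k, Nat.prime_two, Nat.pos_of_ne_zero fun h0 => ?_, hk.symm⟩
      rw [h0, pow_zero] at hk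
      omega
  · exact ZassOdd.prime_pow_of_small Z hF hab (by omega) (by omega)

end Cfsg.Agent.S0346
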