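import Cfsg.Statements.S0353
import Cfsg.Agent.Lib.Steiner.Counting
import Mathlib.Combinatorics.SimpleGraph.StronglyRegular

set_option autoImplicit false
open Cfsg

namespace Cfsg.Agent.S0353

open Cfsg.Agent.Steiner


/-- In an S(5, 8, 24), the symmetric difference of two blocks meeting in four points is a block. -/
theorem result {α : Type*} [Fintype α] [DecidableEq α] (hα : Fintype.card α = 24) {B : Set (Finset α)} (hB : Cfsg.IsSteinerSystem 5 8 B) {b c : Finset α} (hb : b ∈ B) (hc : c ∈ B) (h4 : (b ∩ c).card = 4) : symmDiff b c ∈ B := by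
  classical
  refine mem_of_even hB hα ?_ fun x hx => even_inter_symmDiff (even_inter24 hB hα hx hb) (even_inter24 hB hα hx hc)
  have := card_symmDiff' b c
  rw [hB.1 b hb, hB.1 c hc, h4] at this
  omega

end Cfsg.Agent.S0353
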