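import Cfsg.Statements.S0357
import Cfsg.Agent.Lib.Steiner.Counting
import Mathlib.Combinatorics.SimpleGraph.StronglyRegular

set_option autoImplicit false
open Cfsg

namespace Cfsg.Agent.S0357

open Cfsg.Agent.Steiner


/-- In a Steiner system S(5, 6, 12), the complement of every block is again a block. -/
theorem result {α : Type*} [Fintype α] [DecidableEq α] (hα : Fintype.card α = 12) {B : Set (Finset α)} (hB : Cfsg.IsSteinerSystem 5 6 B) {b : Finset α} (hb : b ∈ B) : bᶜ ∈ B := by
  classical
  have h : meet B b ∅ = 1 := meet12 hB hα hb ∅ (Finset.empty_subset _)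
  obtain ⟨c, hc⟩ := Finset.card_eq_one.1 h
  have hmem : c ∈ (blocks B).filter fun x => x ≠ b ∧ b ∩ x = ∅ := hc ▸ Finset.mem_singleton_self c
  simp only [Finset.mem_filter, mem_blocks] at hmem
  obtain ⟨hcB, -, hd⟩ := hmem
  have hsub : c ⊆ bᶜ := fun x hx => Finset.mem_compl.2 fun hxb => by
    have : x ∈ b ∩ c := Finset.mem_inter.2 ⟨hxb, hx⟩
    rw [hd] at this; exact Finset.notMem_empty x this
  rwa [← Finset.eq_of_subset_of_card_le hsub (by rw [Finset.card_compl, hα, hB.1 b hb, hB.1 c hcB])]

end Cfsg.Agent.S0357
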