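import Cfsg.Statements.S0375
import Cfsg.Agent.Lib.Steiner.CodeUnique

set_option autoImplicit false
open Cfsg

namespace Cfsg.Agent.S0375

open Cfsg.Agent.Steiner Cfsg.Agent.Golay24

theorem basis_octad : ∀ i : Fin 12, pop24 (basisMasks.getD i 0) = 8 ∧ basisMasks.getD i 0 < 2 ^ 24 := by
  decide +kernel

/-- A doubly even self-dual binary code of length 24 with no words of weight 4 is equivalent to the length-24 code built from the squares modulo 23. -/
theorem result (C : Submodule (ZMod 2) (Fin 24 → ZMod 2)) (hdim : Module.finrank (ZMod 2) C = 12) (horth : ∀ v ∈ C, ∀ w ∈ C, ∑ i, v i * w i = 0) (h4 : ∀ w ∈ C, 4 ∣ hammingNorm w) (hno4 : ∀ w ∈ C, hammingNorm w ≠ 4) : ∃ e : Fin 24 ≃ Cfsg.GolayPt, ∀ w : Cfsg.GolayPt → ZMod 2, w ∈ Cfsg.golayCode ↔ (fun i => w (e i)) ∈ C := by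
  classical
  obtain ⟨e, he⟩ := exists_octad_iso (steiner_of_code (Fintype.card_fin 24) C hdim h4 hno4)
    (Fintype.card_fin 24)
  refine ⟨e, ?_⟩
  let L : (Fin 24 → ZMod 2) ≃ₗ[ZMod 2] (GolayPt → ZMod 2) := LinearEquiv.funCongrLeft (ZMod 2) (ZMod 2) e.symm
  have hbasis : ∀ i, L.symm (basisWord i) ∈ C := by
    intro i
    have hoct : support₂ (basisWord i) ∈ octads := by
      refine ⟨⟨_, basisWord_mem i, rfl⟩, ?_⟩
      rw [card_eq_pop24, show support₂ (basisWord i) = Golay24.setOf (basisMasks.getD i 0) from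
        support₂_wordOf _, maskOf_setOf (basis_octad i).2]
      exact (basis_octad i).1
    rw [← he] at hoct
    obtain ⟨b, hb, hbe⟩ := hoct
    have : L.symm (basisWord i) = word₂ b := by
      funext a
      have h := congrArg (fun w : GolayPt → ZMod 2 => w (e a)) (word₂_support₂ (basisWord i))
      show basisWord i (e a) = _
      rw [← h, ← hbe]
      simp [word₂]
    rw [this]
    exact (mem_words_iff.1 hb).1
  have hle : C.map L.toLinearMap ≤ golayCode := by
    rintro _ ⟨w, hw, rfl⟩
    refine mem_golayCode_iff_dot.2 fun i => ?_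
    show ∑ x, basisWord i x * w (e.symm x) = 0
    rw [← e.sum_comp]
    simp only [Equiv.symm_apply_apply]
    exact horth _ (hbasis i) w hw
  have heq : C.map L.toLinearMap = golayCode := Submodule.eq_of_le_of_finrank_eq hle (by
    rw [golayCode_finrank, LinearEquiv.finrank_map_eq, hdim])
  intro w
  rw [← heq, Submodule.mem_map_equiv]
  rfl

end Cfsg.Agent.S0375
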