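import Cfsg.Statements.S0384
import Cfsg.Agent.Lib.Golay.Sharp
import Cfsg.Agent.Lib.Golay.Conj

set_option autoImplicit false
open scoped Pointwise
open Cfsg

namespace Cfsg.Agent.S0384

/-- A dodecad stabiliser is sharply 5-transitive on the dodecad. -/
theorem result (d : Finset Cfsg.GolayPt) (hd : d ∈ Cfsg.dodecads) (x y : Fin 5 ↪ Cfsg.GolayPt) (hx : ∀ i, x i ∈ d) (hy : ∀ i, y i ∈ d) : ∃! g : MulAction.stabilizer Cfsg.M24 d, ∀ i, ((g : Cfsg.M24) : Equiv.Perm Cfsg.GolayPt) (x i) = y i := by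
  obtain ⟨σ, hσ, h⟩ := Golay24.exists_sqDod_map hd
  have hin : ∀ p, p ∈ d → σ⁻¹ p ∈ Golay24.setOf Golay24.sqDod := by
    intro p hp
    rw [← h, Finset.mem_smul_finset] at hp
    obtain ⟨y, hy, rfl⟩ := hp
    simpa [Equiv.Perm.smul_def] using hy
  let x' : Fin 5 ↪ GolayPt := x.trans (Equiv.toEmbedding σ⁻¹)
  let y' : Fin 5 ↪ GolayPt := y.trans (Equiv.toEmbedding σ⁻¹)
  obtain ⟨u, hu, huniq⟩ := Golay24.M12_sharp (x := x') (y := y')
    (fun i => hin _ (hx i)) (fun i => hin _ (hy i))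
  have hud : Golay24.setOf Golay24.sqDod = (u : Equiv.Perm GolayPt) • Golay24.setOf Golay24.sqDod := by
    rw [Golay24.setOf_sqDod]; exact u.2.2.symm
  refine ⟨⟨⟨σ * u * σ⁻¹, M24.mul_mem (M24.mul_mem hσ u.2.1) (M24.inv_mem hσ)⟩, ?_⟩,
    fun i => ?_, fun g hg => ?_⟩
  · show (σ * (u : Equiv.Perm GolayPt) * σ⁻¹) • d = d
    rw [← h, mul_smul, mul_smul, inv_smul_smul, ← hud]
  · show (σ * (u : Equiv.Perm GolayPt) * σ⁻¹) (x i) = y i
    rw [Equiv.Perm.mul_apply, Equiv.Perm.mul_apply, show (u : Equiv.Perm GolayPt) (σ⁻¹ (x i)) =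
      σ⁻¹ (y i) from hu i]
    simp
  · have hg2 : ((g : M24) : Equiv.Perm GolayPt) • d = d := g.2
    have hmem : σ⁻¹ * ((g : M24) : Equiv.Perm GolayPt) * σ ∈ Spor.M12 := by
      refine ⟨M24.mul_mem (M24.mul_mem (M24.inv_mem hσ) g.1.2) hσ, ?_⟩
      show (σ⁻¹ * ((g : M24) : Equiv.Perm GolayPt) * σ) • Spor.squareDodecad = Spor.squareDodecad
      rw [← Golay24.setOf_sqDod, mul_smul, mul_smul, h, hg2, ← h, inv_smul_smul]
    have e := huniq ⟨_, hmem⟩ fun i => by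
      show (σ⁻¹ * ((g : M24) : Equiv.Perm GolayPt) * σ) (σ⁻¹ (x i)) = σ⁻¹ (y i)
      simp [hg i]
    apply Subtype.ext; apply Subtype.ext
    show ((g : M24) : Equiv.Perm GolayPt) = σ * (u : Equiv.Perm GolayPt) * σ⁻¹
    rw [← congrArg Subtype.val e]
    group

end Cfsg.Agent.S0384
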