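import Cfsg.Statements.S0385
import Cfsg.Agent.Lib.Golay.Carry

set_option autoImplicit false
open Cfsg

namespace Cfsg.Agent.S0385

open scoped Pointwise
open Cfsg.Agent.Golay24

attribute [local irreducible] weightList codeList combTo

/-- The 6-point intersections of octads with a fixed dodecad form a Steiner system S(5, 6, 12) on the dodecad. -/
theorem result (d : Finset Cfsg.GolayPt) (hd : d ∈ Cfsg.dodecads) : Cfsg.IsSteinerSystem 5 6 {h : Finset {p : Cfsg.GolayPt // p ∈ d} | ∃ o ∈ Cfsg.octads, (o ∩ d).card = 6 ∧ h = Finset.subtype (fun p => p ∈ d) o} := by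
  classical
  have hcard : ∀ o : Finset GolayPt, (Finset.subtype (fun p => p ∈ d) o).card = (o ∩ d).card := by
    intro o
    rw [Finset.card_subtype, ← Finset.filter_mem_eq_inter]
  refine ⟨?_, fun s hs => ?_⟩
  · rintro _ ⟨o, -, h6, rfl⟩
    rw [hcard, h6]
  set t := s.map (Function.Embedding.subtype _) with ht
  have htc : t.card = 5 := by rw [ht, Finset.card_map, hs]
  have htd : t ⊆ d := by
    intro z hz
    obtain ⟨a, -, rfl⟩ := Finset.mem_map.1 hz
    exact a.2
  obtain ⟨o, ho, hto⟩ := exists_octad_through htc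
  have h5 : 5 ≤ (o ∩ d).card := htc ▸ Finset.card_le_card (Finset.subset_inter hto htd)
  have h6 : (o ∩ d).card = 6 := by
    have := card_octad_inter_dodecad ho hd
    omega
  refine ⟨_, ⟨⟨o, ho, h6, rfl⟩, fun a ha => Finset.mem_subtype.2
    (hto (Finset.mem_map_of_mem _ ha))⟩, ?_⟩
  rintro _ ⟨⟨o', ho', -, rfl⟩, hsub⟩
  have : t ⊆ o' := by
    intro z hz
    obtain ⟨a, ha, rfl⟩ := Finset.mem_map.1 hz
    exact Finset.mem_subtype.1 (hsub ha)
  rw [octad_unique ho' ho (htc ▸ Finset.card_le_card (Finset.subset_inter this hto))]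

end Cfsg.Agent.S0385
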