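import Cfsg.Statements.S0386
import Cfsg.Agent.Lib.Golay.Carry

set_option autoImplicit false
open Cfsg

namespace Cfsg.Agent.S0386

open scoped Pointwise
open Cfsg.Agent.Golay24

attribute [local irreducible] weightList codeList combTo

/-- For a fixed dodecad, 132 octads meet it in 6 points, 132 in 2 points and 495 in 4 points. -/
theorem result (d : Finset Cfsg.GolayPt) (hd : d ∈ Cfsg.dodecads) : {o : Finset Cfsg.GolayPt | o ∈ Cfsg.octads ∧ (o ∩ d).card = 6}.ncard = 132 ∧ {o : Finset Cfsg.GolayPt | o ∈ Cfsg.octads ∧ (o ∩ d).card = 2}.ncard = 132 ∧ {o : Finset Cfsg.GolayPt | o ∈ Cfsg.octads ∧ (o ∩ d).card = 4}.ncard = 495 := by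
  obtain ⟨σ, hσ⟩ := carries_dodecad hd
  have key : ∀ k n : ℕ, (cutList (weightList 8) ([sqDod].zip [k])).length = n →
      {o : Finset GolayPt | o ∈ octads ∧ (o ∩ d).card = k}.ncard = n := by
    intro k n hn
    rw [ncard_of_pullback (σ := σ) (cutList (weightList 8) ([sqDod].zip [k]))
      (cutList_nodup (weightList_nodup 8) _) (cutList_lt (fun _ => weightList_lt) _), hn]
    intro s
    rw [mem_cutList_carries hσ (by rfl), inv_smul_mem_octads_iff hσ.1, Finset.inter_comm s d]
    simp
  exact ⟨key 6 132 (by decide +kernel), key 2 132 (by decide +kernel), key 4 495 (by decide +kernel)⟩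

end Cfsg.Agent.S0386
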