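import Cfsg.Statements.S0389
import Cfsg.Agent.Lib.Golay.Carry

set_option autoImplicit false
open scoped Pointwise
open Cfsg

namespace Cfsg.Agent.S0389

open scoped Pointwise
open Cfsg.Agent.Golay24

attribute [local irreducible] weightList codeList combTo

/-- The stabiliser of a dodecad and a point on it is 3-transitive on the complementary dodecad. -/
theorem result (d : Finset Cfsg.GolayPt) (hd : d ∈ Cfsg.dodecads) (p : Cfsg.GolayPt) (hp : p ∈ d) (x y : Fin 3 ↪ Cfsg.GolayPt) (hx : ∀ i, x i ∉ d) (hy : ∀ i, y i ∉ d) : ∃ g ∈ MulAction.stabilizer Cfsg.M24 d ⊓ MulAction.stabilizer Cfsg.M24 p, ∀ i, (g : Equiv.Perm Cfsg.GolayPt) (x i) = y i := by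
  obtain ⟨σ, hσ, h, h0⟩ := exists_sqDod_point_map d hd p hp
  have hc : (m11cCert.ok && coverOk 16436384 [] (m11cCert.chain.take 3) &&
      m11cCert.gens.all (fun g => img g sqDod == sqDod && app g 0 == 0) &&
      (Nat.xor sqDod 16436384 == 16777215) && Nat.ble 3 m11cCert.chain.length) = true := by
    decide +kernel
  simp only [Bool.and_eq_true, List.all_eq_true, beq_iff_eq, Nat.ble_eq] at hc
  obtain ⟨⟨⟨⟨hok, hcov⟩, hgens⟩, hx'⟩, hlen⟩ := hc
  have hgrp : m11cCert.grp ≤ Spor.M11 := by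
    rw [GenCert.grp, Subgroup.closure_le]
    rintro _ ⟨g, hg, rfl⟩
    have hv := m11cCert.gen_valid hok hg
    refine ⟨⟨m11cCert.grp_le_M24 hok (m11cCert.gen_mem hg), ?_⟩,
      toPerm_mem_stabilizer (b := 0) (by norm_num) hv (hgens g hg).2⟩
    show toPerm g • Spor.squareDodecad = Spor.squareDodecad
    rw [← setOf_sqDod, smul_setOf hv, (hgens g hg).1]
  have hout : ∀ z, z ∉ d → σ⁻¹ z ∈ Golay24.setOf 16436384 := by
    intro z hz
    have hin : σ⁻¹ z ∉ Golay24.setOf sqDod := fun hm => hz (by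
      rw [← h, ← Finset.inv_smul_mem_iff]; exact hm)
    have hb := congrArg (fun m => Nat.testBit m (idx (σ⁻¹ z))) hx'
    have hf : ∀ i : Fin 24, (16777215 : ℕ).testBit i = true := by decide
    simp only [show Nat.xor sqDod 16436384 = sqDod ^^^ 16436384 from rfl, Nat.testBit_xor, hf] at hb
    rw [mem_setOf] at hin ⊢
    rw [Bool.eq_false_iff.2 hin] at hb
    simpa using hb
  obtain ⟨τ, hτ, -, he⟩ := m11cCert.exists_map_one hok hgrp hcov hlen le_rfl
    (x.trans σ⁻¹.toEmbedding) (y.trans σ⁻¹.toEmbedding) (fun i => hout _ (hx i)) (fun i => hout _ (hy i))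
  have hgM : σ * τ * σ⁻¹ ∈ M24 := M24.mul_mem (M24.mul_mem hσ hτ.1.1) (M24.inv_mem hσ)
  refine ⟨⟨σ * τ * σ⁻¹, hgM⟩, ⟨?_, ?_⟩, fun i => ?_⟩
  · show (σ * τ * σ⁻¹) • d = d
    rw [← h, mul_smul, mul_smul, inv_smul_smul]
    exact congrArg (σ • ·) (setOf_sqDod ▸ hτ.1.2)
  · show (σ * τ * σ⁻¹) p = p
    have h2 : τ (some 0) = some 0 := hτ.2
    rw [← h0]
    simp [h2]
  · show (σ * τ * σ⁻¹) (x i) = y i
    have := he i
    simp only [Function.Embedding.trans_apply, Equiv.coe_toEmbedding] at this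
    rw [Equiv.Perm.mul_apply, Equiv.Perm.mul_apply, this]
    simp

end Cfsg.Agent.S0389
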