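import Cfsg.Statements.S0393
import Cfsg.Agent.Lib.Leech.Singular
-- import your own Cfsg.Agent.* helpers here

set_option autoImplicit false
open Cfsg

namespace Cfsg.Agent.S0393

open Cfsg.Agent.Leech

/-- The lattice has index 2^36 in ℤ^24 (unimodular at scale 1/8). -/
theorem result : Cfsg.leechLattice.index = 2 ^ 36 := by
  classical
  let ψ : Vec →+ ZMod 2 × (ZMod 23 → ZMod 4) :=
    { toFun := fun x => ((x none : ZMod 2), fun i => ((x (some i) - x none : ℤ) : ZMod 4))
      map_zero' := by simp; rfl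
      map_add' := fun x y => by
        refine Prod.ext ?_ (funext fun i => ?_)
        · simp
        · simp; ring }
  have hψ : Function.Surjective ψ := by
    rintro ⟨a, f⟩
    let x : Vec := fun o => match o with
      | none => (a.val : ℤ)
      | some i => (a.val : ℤ) + ((f i).val : ℤ)
    refine ⟨x, Prod.ext ?_ (funext fun i => ?_)⟩
    · show (((a.val : ℕ) : ℤ) : ZMod 2) = a
      simp
    · show ((((a.val : ℕ) : ℤ) + ((f i).val : ℤ) - ((a.val : ℕ) : ℤ) : ℤ) : ZMod 4) = f i
      simp
  have hker : ∀ x, x ∈ ψ.ker ↔ (2 : ℤ) ∣ x none ∧ ∀ i, (4 : ℤ) ∣ x i - x none := by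
    intro x
    rw [AddMonoidHom.mem_ker]
    constructor
    · intro h
      refine ⟨(zmod2_cast_eq_zero _).1 (congrArg Prod.fst h), fun i => ?_⟩
      cases i with
      | none => simp
      | some j => exact (ZMod.intCast_zmod_eq_zero_iff_dvd _ 4).1 (congrFun (congrArg Prod.snd h) j)
    · rintro ⟨h1, h2⟩
      exact Prod.ext ((zmod2_cast_eq_zero _).2 h1)
        (funext fun j => (ZMod.intCast_zmod_eq_zero_iff_dvd _ 4).2 (h2 (some j)))
  have hK : ψ.ker.index = 2 * 4 ^ 23 := by
    rw [AddSubgroup.index_ker, AddMonoidHom.range_eq_top.2 hψ]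
    simp [Nat.card_eq_fintype_card]
  have hle : fourSub ≤ ψ.ker := fun x hx => (hker x).2 (mem_fourSub.1 hx).2
  have hrel : fourSub.relIndex ψ.ker = 2 := by
    rw [AddSubgroup.relIndex, AddSubgroup.index_eq_two_iff]
    let a : Vec := fun o => if o = none then 4 else 0
    have ha : a ∈ ψ.ker := (hker a).2 ⟨by simp [a], fun i => by
      by_cases hi : i = none <;> simp [a, hi]⟩
    refine ⟨⟨a, ha⟩, fun b => ?_⟩
    obtain ⟨h1, h2⟩ := (hker _).1 b.2
    choose c hc using h2
    have hb : ∀ i, (b : Vec) i = (b : Vec) none + 4 * c i := fun i => by have := hc i; omega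
    have mem : ∀ y : Vec, (∀ i, (4 : ℤ) ∣ y i - y none) → (2 : ℤ) ∣ y none →
        (y ∈ fourSub ↔ (8 : ℤ) ∣ ∑ i, y i) := by
      intro y h4 h2
      constructor
      · intro hy
        obtain ⟨m, hm⟩ := (mem_leech_iff _).1 (mem_fourSub.1 hy).1
        have := hm.1 none
        have := hm.2.1
        omega
      · intro h8
        refine mem_fourSub.2 ⟨?_, h2, h4⟩
        have : LatM (y none) y := by
          refine ⟨fun i => by have := h4 i; omega, by omega, ?_⟩
          have : pat (y none) y = ∅ := by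
            ext i; simp [mem_pat, h4 i]
          rw [this]; exact InC_empty
        exact (mem_leech_iff _).2 ⟨_, this⟩
    have hsum : (4 : ℤ) ∣ ∑ i, (b : Vec) i := by
      rw [Finset.sum_congr rfl fun i _ => hb i, Finset.sum_add_distrib, Finset.sum_const,
        Finset.card_univ, card_pt, ← Finset.mul_sum, nsmul_eq_mul]
      norm_num
      omega
    have hb' := mem (b : Vec) (fun i => ⟨c i, by have := hb i; omega⟩) h1
    have hab' := mem ((b : Vec) + a) (fun i => by
      by_cases hi : i = none
      · subst hi; simp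
      · have := hb i; simp [a, hi]; omega) (by simp [a]; omega)
    have hs : ∑ i, ((b : Vec) + a) i = (∑ i, (b : Vec) i) + 4 := by
      simp [Finset.sum_add_distrib, a]
    rw [AddSubgroup.mem_addSubgroupOf, AddSubgroup.mem_addSubgroupOf, AddSubgroup.coe_add, hb',
      hab', hs]
    by_cases h8 : (8 : ℤ) ∣ ∑ i, (b : Vec) i
    · exact Or.inr ⟨h8, by omega⟩
    · exact Or.inl ⟨by omega, h8⟩
  have h1 := AddSubgroup.relIndex_mul_index hle
  have h2 := AddSubgroup.relIndex_mul_index fourSub_le
  have h3 : fourSub.relIndex Cfsg.leechLattice = 2 ^ 12 := fourSub_index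
  rw [hrel, hK] at h1
  rw [h3] at h2
  have : (2 : ℕ) ^ 12 * Cfsg.leechLattice.index = 2 * (2 * 4 ^ 23) := by omega
  norm_num at this ⊢
  omega

end Cfsg.Agent.S0393
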