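import Cfsg.Statements.S0398
import Cfsg.Agent.Lib.Leech.Stab

set_option autoImplicit false
open Cfsg

namespace Cfsg.Agent.S0398

open Cfsg.Agent.Leech

/-- The centre of the lattice's automorphism group has order 2. -/
theorem result : Nat.card (Subgroup.center Cfsg.Co0) = 2 := by
  have h : ((Subgroup.center Co0 : Subgroup Co0) : Set ↥Co0) = {1, negOne} := Set.ext fun g => center_eq
  rw [← SetLike.coe_sort_coe, Nat.card_coe_set_eq, h, Set.ncard_pair negOne_ne_one.symm]

end Cfsg.Agent.S0398
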