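import Cfsg.Statements.S0405
import Cfsg.Agent.Lib.LeechCount.HSGroup
import Cfsg.Agent.Lib.Leech.UStab
-- import your own Cfsg.Agent.* helpers here

set_option autoImplicit false
open Cfsg

namespace Cfsg.Agent.S0405

/-- Joint stabiliser of two vectors of sum of squares 48 with coordinate dot product −32 is simple of order 44352000. -/
theorem result (v w : Cfsg.leechLattice) (hv : Cfsg.sqNorm (v : Cfsg.GolayPt → ℤ) = 48) (hw : Cfsg.sqNorm (w : Cfsg.GolayPt → ℤ) = 48) (hvw : Cfsg.dotInt (v : Cfsg.GolayPt → ℤ) (w : Cfsg.GolayPt → ℤ) = -32) : Cfsg.IsHS ↥(MulAction.stabilizer Cfsg.Co0 v ⊓ MulAction.stabilizer Cfsg.Co0 w) := by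
  have e : MulAction.stabilizer Cfsg.Co0 v ⊓ MulAction.stabilizer Cfsg.Co0 w =
      MulAction.stabilizer Cfsg.Co0 v ⊓ MulAction.stabilizer Cfsg.Co0 (-(v + w)) := by
    ext g
    simp only [Subgroup.mem_inf, MulAction.mem_stabilizer_iff, Leech.co0_smul_neg, Leech.co0_smul_add, neg_inj]
    constructor
    · rintro ⟨h1, h2⟩
      exact ⟨h1, by rw [h1, h2]⟩
    · rintro ⟨h1, h2⟩
      rw [h1] at h2
      exact ⟨h1, add_left_cancel h2⟩
  rw [e]
  refine LeechCount.isHS_stab hv ?_ ?_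
  · rw [AddSubgroup.coe_neg, AddSubgroup.coe_add, Leech.sqNorm_neg, Leech.sqNorm_add, hv, hw, hvw]; norm_num
  · rw [AddSubgroup.coe_neg, AddSubgroup.coe_add, Leech.dot_neg_left, Leech.dot_add_left,
      Leech.dot_comm (w : Cfsg.GolayPt → ℤ), hvw, LeechCount.dot_self, hv]
    norm_num

end Cfsg.Agent.S0405
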