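import Cfsg.Statements.S0406
import Cfsg.Agent.Lib.LeechChar.Frame
-- import your own Cfsg.Agent.* helpers here

set_option autoImplicit false
open Matrix
open Cfsg

namespace Cfsg.Agent.S0406

/-- A rank-24 even lattice with no roots and the stated numbers of vectors of norms 4, 6, 8 is isomorphic to the Leech lattice. -/
theorem result (B : Matrix (Fin 24) (Fin 24) ℤ) (hsymm : B.IsSymm) (hpos : ∀ x : Fin 24 → ℤ, x ≠ 0 → 0 < x ⬝ᵥ (B *ᵥ x)) (heven : ∀ x : Fin 24 → ℤ, (2 : ℤ) ∣ x ⬝ᵥ (B *ᵥ x)) (h2 : ∀ x : Fin 24 → ℤ, x ⬝ᵥ (B *ᵥ x) ≠ 2) (h4 : {x : Fin 24 → ℤ | x ⬝ᵥ (B *ᵥ x) = 4}.ncard = 196560) (h6 : {x : Fin 24 → ℤ | x ⬝ᵥ (B *ᵥ x) = 6}.ncard = 16773120) (h8 : {x : Fin 24 → ℤ | x ⬝ᵥ (B *ᵥ x) = 8}.ncard = 398034000) : ∃ f : (Fin 24 → ℤ) ≃+ Cfsg.leechLattice, ∀ x : Fin 24 → ℤ, Cfsg.sqNorm ((f x : Cfsg.leechLattice) : Cfsg.GolayPt → ℤ) = 8 * (x ⬝ᵥ (B *ᵥ x))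 := by
  have hp : ∀ x, x ≠ 0 → 0 < Agent.LeechCount.bil B x x := hpos
  obtain ⟨x0, hx0⟩ : {x : Fin 24 → ℤ | x ⬝ᵥ (B *ᵥ x) = 8}.Nonempty :=
    Set.nonempty_of_ncard_ne_zero (by rw [h8]; norm_num)
  obtain ⟨f, hn, ho, hc⟩ := Agent.LeechChar.exists_frame B hsymm hp heven h2 x0
    (Agent.S1588.result B hsymm hpos heven h2 h4 h6 h8 x0 hx0)
  obtain ⟨hinj, H⟩ := Agent.LeechChar.coords_coordLat hsymm hp heven h2 h4 hn ho hc
  obtain ⟨e, s, hs, hM⟩ := H.exists_mono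
  let g := (Agent.LeechChar.mono e s).comp (Agent.LeechChar.coords B f)
  have hg : Function.Injective g := (Agent.LeechChar.mono_injective hs).comp hinj
  have hr : g.range = Cfsg.leechLattice := by
    rw [← hM]; exact (AddMonoidHom.map_range _ _).symm
  refine ⟨(AddMonoidHom.ofInjective hg).trans (AddEquiv.addSubgroupCongr hr), fun x => ?_⟩
  show Cfsg.sqNorm (g x) = _
  rw [AddMonoidHom.comp_apply, Agent.LeechChar.mono_norm hs, Agent.LeechChar.coords_norm hsymm hp hn ho]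
  rfl

end Cfsg.Agent.S0406
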