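import Cfsg.Statements.S0409
import Cfsg.Agent.Lib.Steiner.Extend23

set_option autoImplicit false
open Cfsg

namespace Cfsg.Agent.S0409

open Cfsg.Agent.Steiner

/-- Uniqueness of the Steiner system S(4, 7, 23) up to isomorphism. -/
theorem result {α β : Type*} [Fintype α] [DecidableEq α] [Fintype β] [DecidableEq β] (hα : Fintype.card α = 23) (hβ : Fintype.card β = 23) {B : Set (Finset α)} {B' : Set (Finset β)} (hB : Cfsg.IsSteinerSystem 4 7 B) (hB' : Cfsg.IsSteinerSystem 4 7 B') : Cfsg.SetSystemIso B B' := by
  obtain ⟨e, e0, he⟩ := exists_extend23_iso hB hα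
  obtain ⟨f, f0, hf⟩ := exists_extend23_iso hB' hβ
  refine ⟨_, image_of_extend23 (e.trans f.symm) (by simp [e0, ← f0]) ?_⟩
  rw [← hf] at he
  have h := congrArg (Set.image fun c : Finset GolayPt => c.image f.symm) he
  rw [Set.image_image, Set.image_image] at h
  simp only [Finset.image_image, Equiv.symm_comp_self, Finset.image_id, Set.image_id'] at h
  exact h

end Cfsg.Agent.S0409
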