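import Cfsg.Statements.S0412
import Cfsg.Agent.Lib.Steiner.Unique24
import Cfsg.Agent.Lib.Steiner.Transport
import Cfsg.Agent.Lib.Golay.Gens
import Cfsg.Agent.Lib.Golay.Mathieu

set_option autoImplicit false
open Cfsg

namespace Cfsg.Agent.S0412

open Cfsg.Agent.Steiner


/-- Aut of an S(5, 8, 24) is simple of order 244823040 and 5-transitive on points. -/
theorem result {α : Type*} [Fintype α] [DecidableEq α] (hα : Fintype.card α = 24) {B : Set (Finset α)} (hB : Cfsg.IsSteinerSystem 5 8 B) : Cfsg.IsM24 (Cfsg.setSystemAut B) ∧ MulAction.IsMultiplyPretransitive (Cfsg.setSystemAut B) α 5 := by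
  obtain ⟨e, he⟩ := exists_octad_iso hB hα
  let E : setSystemAut B ≃* M24 := (autCongr e he).trans (MulEquiv.subgroupCongr Golay24.M24_eq_octadAut.symm)
  refine ⟨⟨?_, ?_⟩, pretransitive_congr e he (Golay24.M24_eq_octadAut ▸ Golay24.M24_five_pretransitive)⟩
  · haveI : IsSimpleGroup M24 := Golay24.M24_simple
    haveI : Nontrivial (setSystemAut B) := E.toEquiv.nontrivial
    exact IsSimpleGroup.isSimpleGroup_of_surjective E.symm.toMonoidHom E.symm.surjective
  · rw [Nat.card_congr E.toEquiv, Golay24.card_M24]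

end Cfsg.Agent.S0412
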