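import Cfsg.Statements.S0413
import Cfsg.Agent.Lib.Steiner.Extend23
import Cfsg.Agent.Lib.Golay.Trans

set_option autoImplicit false
open Cfsg

namespace Cfsg.Agent.S0413

open Cfsg.Agent.Steiner
open scoped Pointwise

theorem mem_aut {α : Type*} [DecidableEq α] (σ : Equiv.Perm α) (B : Set (Finset α)) :
    σ ∈ setSystemAut B ↔ (fun b => b.image σ) '' B = B := by
  rw [MulAction.mem_stabilizer_iff, ← Set.image_smul]
  simp only [Finset.smul_finset_def, Equiv.Perm.smul_def]

/-- Aut of an S(4, 7, 23) is simple of order 10200960 and 4-transitive on points. -/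
theorem result {α : Type*} [Fintype α] [DecidableEq α] (hα : Fintype.card α = 23) {B : Set (Finset α)} (hB : Cfsg.IsSteinerSystem 4 7 B) : Cfsg.IsM23 (Cfsg.setSystemAut B) ∧ MulAction.IsMultiplyPretransitive (Cfsg.setSystemAut B) α 4 := by
  obtain ⟨e, e0, he⟩ := exists_extend23_iso hB hα
  have hmem : ∀ σ : setSystemAut B, e.permCongr (Equiv.optionCongr σ.1) ∈ M24 := fun σ => by
    rw [Golay24.M24_eq_octadAut, conj_mem_aut e he, mem_aut]
    exact extend23_image σ.1 ((mem_aut _ _).1 σ.2)
  let F : setSystemAut B →* MulAction.stabilizer M24 (none : GolayPt) :=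
    { toFun := fun σ => ⟨⟨e.permCongr (Equiv.optionCongr σ.1), hmem σ⟩, by
        show e.permCongr (Equiv.optionCongr σ.1) none = none
        simp [Equiv.permCongr_apply, Equiv.symm_apply_eq e |>.2 e0.symm, e0]⟩
      map_one' := Subtype.ext (Subtype.ext (Equiv.ext fun x => by simp [Equiv.permCongr_apply]))
      map_mul' := fun σ τ => Subtype.ext (Subtype.ext (Equiv.ext fun x => by
        simp [Equiv.permCongr_apply, Function.comp_def, Option.map_map])) }
  have hF : Function.Bijective F := by
    constructor
    · intro σ τ h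
      refine Subtype.ext (Equiv.optionCongr_injective (Equiv.ext fun x => e.injective ?_))
      have := congrArg (fun g : MulAction.stabilizer M24 (none : GolayPt) => g.1.1 (e x)) h
      simpa [F, Equiv.permCongr_apply] using this
    · rintro ⟨⟨τ, hτ⟩, hτ0⟩
      have hτ' : τ none = none := hτ0
      rw [Golay24.M24_eq_octadAut] at hτ
      let g : Option α ≃ Option α := e.symm.permCongr τ
      have hge : e.permCongr g = τ := Equiv.ext fun x => by simp [g, Equiv.permCongr_apply]
      have hg0 : g none = none := by
        apply e.injective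
        show e (e.symm (τ (e none))) = e none
        rw [Equiv.apply_symm_apply, e0, hτ']
      have hga : (fun x : Finset (Option α) => x.image g) '' extend23 B = extend23 B := by
        rw [← mem_aut, ← conj_mem_aut e he, hge]
        exact hτ
      refine ⟨⟨Equiv.removeNone g, (mem_aut _ _).2 (image_of_extend23 g hg0 hga)⟩, ?_⟩
      refine Subtype.ext (Subtype.ext ?_)
      show e.permCongr (Equiv.optionCongr (Equiv.removeNone g)) = τ
      rw [← hge]
      congr 1
      refine Equiv.ext fun x => ?_
      rcases x with _ | a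
      · simp [hg0]
      · rw [Equiv.optionCongr_apply, Option.map_some, Equiv.removeNone_some]
        rcases hgs : g (some a) with _ | y
        · exact absurd (g.injective (hgs.trans hg0.symm)) (by simp)
        · exact ⟨y, rfl⟩
  obtain ⟨u⟩ := Golay24.stab_one_equiv none
  let E : setSystemAut B ≃* Spor.M23 := (MulEquiv.ofBijective F hF).trans u
  refine ⟨⟨?_, ?_⟩, ?_⟩
  · haveI : IsSimpleGroup Spor.M23 := Golay24.M23_simple
    haveI : Nontrivial (setSystemAut B) := E.toEquiv.nontrivial
    exact IsSimpleGroup.isSimpleGroup_of_surjective E.symm.toMonoidHom E.symm.surjective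
  · rw [Nat.card_congr E.toEquiv, Golay24.card_M23]
  · rw [MulAction.isMultiplyPretransitive_iff]
    intro x y
    let lift : (Fin 4 ↪ α) → (Fin 5 ↪ GolayPt) := fun z => ⟨Fin.cons none (fun i => e (some (z i))),
      Fin.cons_injective_iff.2 ⟨by
        rintro ⟨i, hi⟩
        exact absurd (e.injective (hi.trans e0.symm)) (by simp),
        e.injective.comp ((Option.some_injective α).comp z.injective)⟩⟩
    obtain ⟨τ, hτ, h⟩ := Golay24.exists_five_map (lift x) (lift y)
    have h0 : τ none = none := h 0
    obtain ⟨σ, hσ⟩ := hF.2 ⟨⟨τ, hτ⟩, h0⟩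
    refine ⟨σ, Function.Embedding.ext fun i => ?_⟩
    have h1 : τ (e (some (x i))) = e (some (y i)) := h i.succ
    have h2 : e.permCongr (Equiv.optionCongr σ.1) = τ := congrArg (fun g => g.1.1) hσ
    rw [← h2] at h1
    show σ.1 (x i) = y i
    simpa [Equiv.permCongr_apply] using h1

end Cfsg.Agent.S0413
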