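import Cfsg.Statements.S0414
import Cfsg.Agent.Lib.Steiner.Aut22

set_option autoImplicit false
open Cfsg

namespace Cfsg.Agent.S0414

open Cfsg.Agent.Steiner Cfsg.Agent.Steiner.Search Cfsg.Agent.Steiner.Search22

/-- Aut of an S(3, 6, 22) has order 887040, is 3-transitive, and has a simple subgroup of index 2. -/
theorem result {α : Type*} [Fintype α] [DecidableEq α] (hα : Fintype.card α = 22) {B : Set (Finset α)} (hB : Cfsg.IsSteinerSystem 3 6 B) : Nat.card (Cfsg.setSystemAut B) = 887040 ∧ MulAction.IsMultiplyPretransitive (Cfsg.setSystemAut B) α 3 ∧ ∃ H : Subgroup (Cfsg.setSystemAut B), H.index = 2 ∧ Cfsg.IsM22 H := by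
  obtain ⟨e, he⟩ := exists_std22_iso hB hα
  obtain ⟨φ, hφ, hφv⟩ := pairStab_spec
  obtain ⟨hP, hne, huniv, -⟩ := P22_spec
  let E : setSystemAut B ≃* pairStab := (autCongr e he).trans (MulEquiv.ofBijective φ hφ).symm
  have hcard : Nat.card (setSystemAut B) = 887040 := by rw [Nat.card_congr E.toEquiv, card_pairStab]
  refine ⟨hcard, pretransitive_congr e he ?_, ?_⟩
  · rw [MulAction.isMultiplyPretransitive_iff]
    intro x y
    have hout : ∀ i, P22 i ∉ ({ptA, ptB} : Finset GolayPt) := fun i hi => by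
      have := huniv ▸ Finset.mem_image_of_mem P22 (Finset.mem_univ i)
      exact (Finset.mem_sdiff.1 this).2 hi
    let up : (Fin 3 ↪ Fin 22) → (Fin 5 ↪ GolayPt) := fun z => ⟨Fin.cons ptA (Fin.cons ptB fun i => P22 (z i)),
      Fin.cons_injective_iff.2 ⟨by
        rintro ⟨i, hi⟩
        revert hi
        refine Fin.cases ?_ (fun j => ?_) i
        · exact fun h => hne h.symm
        · exact fun h => hout (z j) (by simp at h; simp [h]),
        Fin.cons_injective_iff.2 ⟨by
          rintro ⟨i, hi⟩
          exact hout (z i) (by simp at hi; simp [hi]), hP.comp z.injective⟩⟩⟩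
    obtain ⟨σ, hσ, h⟩ := Golay24.exists_five_map (up x) (up y)
    have hA : σ ptA = ptA := h 0
    have hB' : σ ptB = ptB := h 1
    refine ⟨φ ⟨σ, hσ, ?_⟩, Function.Embedding.ext fun i => hP ?_⟩
    · show (({ptA, ptB} : Finset GolayPt).image σ) = _
      simp [hA, hB']
    · show P22 ((φ _).1 (x i)) = P22 (y i)
      rw [hφv]
      exact h i.succ.succ
  · let H0 : Subgroup pairStab := MulAction.stabilizer pairStab ptA
    have hmem : ∀ g : Equiv.Perm GolayPt, g ∈ M24 → g ptA = ptA → g ptB = ptB → g ∈ pairStab := fun g hg h1 h2 =>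
      ⟨hg, by show (({ptA, ptB} : Finset GolayPt).image g) = _; simp [h1, h2]⟩
    have hfixB : ∀ g : H0, g.1.1 ptB = ptB := fun g => by
      have h1 : g.1.1 ptA = ptA := g.2
      rcases Finset.mem_insert.1 (pairStab_cases g.1.2).2 with h | h
      · exact absurd (g.1.1.injective (h.trans h1.symm)) hne.symm
      · exact Finset.mem_singleton.1 h
    let u : H0 ≃* ↥(MulAction.stabilizer M24 ptA ⊓ MulAction.stabilizer M24 ptB) :=
      { toFun := fun g => ⟨⟨g.1.1, g.1.2.1⟩, g.2, hfixB g⟩
        invFun := fun g => ⟨⟨g.1.1, hmem _ g.1.2 g.2.1 g.2.2⟩, g.2.1⟩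
        left_inv := fun _ => rfl
        right_inv := fun _ => rfl
        map_mul' := fun _ _ => rfl }
    obtain ⟨w⟩ := Golay24.stab_two_equiv ptA ptB hne
    let H : Subgroup (setSystemAut B) := H0.map E.symm.toMonoidHom
    let U : H ≃* Spor.M22 := ((H0.equivMapOfInjective _ E.symm.injective).symm.trans u).trans w
    have hH : Nat.card H = 443520 := by rw [Nat.card_congr U.toEquiv, Golay24.card_M22]
    refine ⟨H, ?_, ?_, hH⟩
    · have := H.card_mul_index
      rw [hH, hcard] at this
      omega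
    · haveI : IsSimpleGroup Spor.M22 := Golay24.M22_simple
      haveI : Nontrivial H := U.toEquiv.nontrivial
      exact IsSimpleGroup.isSimpleGroup_of_surjective U.symm.toMonoidHom U.symm.surjective

end Cfsg.Agent.S0414
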