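import Cfsg.Statements.S0420
import Cfsg.Agent.Lib.FGB.M11Cliques
import Cfsg.Agent.Lib.Steiner.Small
import Cfsg.Agent.Lib.Steiner.SmallAut
import Cfsg.Agent.Lib.Steiner.Transport
import Cfsg.Agent.Lib.Golay.Conj

set_option autoImplicit false
open scoped Pointwise
open Cfsg

namespace Cfsg.Agent.S0420

/-- Simple groups of order 7920 are all isomorphic to the concrete smallest Mathieu group. -/
theorem result {G : Type*} [Group G] [Finite G] (hG : Cfsg.IsM11 G) (d : Finset Cfsg.GolayPt) (hd : d ∈ Cfsg.dodecads) (p : Cfsg.GolayPt) (hp : p ∈ d) : Nonempty (G ≃* ↥(MulAction.stabilizer Cfsg.M24 d ⊓ MulAction.stabilizer Cfsg.M24 p)) := by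
  classical
  haveI := hG.1
  obtain ⟨α, iA, iF, S⟩ := Cfsg.Agent.FGB.M11.Tri.exists_sharp (G := G) hG.2
  have hinj : Function.Injective (MulAction.toPermHom G α) := (injective_iff_map_eq_one _).2 fun g hg => by
    refine S.free g (fun i => (Fintype.equivFinOfCardEq S.card).symm (Fin.castLE (by norm_num) i))
      ((Fintype.equivFinOfCardEq S.card).symm.injective.comp (Fin.castLE_injective (by norm_num))) fun i => ?_
    exact DFunLike.congr_fun hg _
  obtain ⟨e, he⟩ := Cfsg.Agent.Steiner.Search.exists_std11_iso S.card S.steiner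
  obtain ⟨⟨u⟩, -, -⟩ := Cfsg.Agent.Steiner.Search.aut11
  let E := (Cfsg.Agent.Steiner.autCongr e he).trans u
  obtain ⟨ψ⟩ := S.equiv_aut hinj (by rw [Nat.card_congr E.toEquiv, Cfsg.Agent.Golay24.card_M11, hG.2])
  obtain ⟨φ⟩ := Cfsg.Agent.Golay24.stab_dodecad_point_equiv d hd p hp
  exact ⟨(ψ.trans E).trans φ.symm⟩

end Cfsg.Agent.S0420
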