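import Cfsg.Statements.S0423
import Cfsg.Agent.Lib.Icosian.Index100

set_option autoImplicit false
open Cfsg

namespace Cfsg.Agent.S0423

/-- Existence of a simple group of order 604800. -/
theorem result : ∃ G : Subgroup (Equiv.Perm (Fin 100)), Cfsg.IsJ2 G := by
  classical
  haveI := Cfsg.Agent.Icosian.range_simple
  haveI hs : IsSimpleGroup Cfsg.Spor.J2 := Cfsg.Agent.Icosian.j2Equiv.isSimpleGroup
  let H := Cfsg.Agent.Icosian.Sub100.subJ
  have hidx : H.index = 100 := Cfsg.Agent.Icosian.Sub100.index_subJ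
  haveI : Finite (Cfsg.Spor.J2 ⧸ H) := Nat.finite_of_card_ne_zero (by
    rw [← Subgroup.index_eq_card, hidx]; norm_num)
  let e : (Cfsg.Spor.J2 ⧸ H) ≃ Fin 100 :=
    Finite.equivFinOfCardEq (by rw [← Subgroup.index_eq_card, hidx])
  let f : Cfsg.Spor.J2 →* Equiv.Perm (Fin 100) :=
    e.permCongrHom.toMonoidHom.comp (MulAction.toPermHom Cfsg.Spor.J2 (Cfsg.Spor.J2 ⧸ H))
  have hf : Function.Injective f := by
    rw [← MonoidHom.ker_eq_bot_iff]
    rcases (MonoidHom.normal_ker f).eq_bot_or_eq_top with h | h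
    · exact h
    · exfalso
      have : H = ⊤ := by
        refine eq_top_iff.2 fun g _ => ?_
        have hg : f g = 1 := MonoidHom.mem_ker.1 (h ▸ Subgroup.mem_top g)
        have h1 : MulAction.toPermHom Cfsg.Spor.J2 (Cfsg.Spor.J2 ⧸ H) g = 1 := by
          exact e.permCongrHom.injective (hg.trans (map_one _).symm)
        have h2 := congrArg (fun p : Equiv.Perm (Cfsg.Spor.J2 ⧸ H) => p (QuotientGroup.mk 1)) h1
        simp only [MulAction.toPermHom_apply, MulAction.toPerm_apply, Equiv.Perm.one_apply,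
          MulAction.Quotient.smul_mk, smul_eq_mul, mul_one] at h2
        rw [QuotientGroup.eq, mul_one] at h2
        simpa using H.inv_mem h2
      rw [this, Subgroup.index_top] at hidx
      norm_num at hidx
  refine ⟨f.range, ?_, ?_⟩
  · exact (MonoidHom.ofInjective hf).symm.isSimpleGroup
  · rw [Nat.card_congr (MonoidHom.ofInjective hf).symm.toEquiv,
      Nat.card_congr Cfsg.Agent.Icosian.j2Equiv.toEquiv]
    exact Cfsg.Agent.Icosian.card_range_rho

end Cfsg.Agent.S0423
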