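import Cfsg.Statements.S0426
import Cfsg.Agent.Lib.Steiner.SmallAut

set_option autoImplicit false
open Cfsg

namespace Cfsg.Agent.S0426

open Cfsg.Agent.Steiner Cfsg.Agent.Steiner.Search

/-- Aut of an S(4, 5, 11) is simple of order 7920 and sharply 4-transitive on points. -/
theorem result {α : Type*} [Fintype α] [DecidableEq α] (hα : Fintype.card α = 11) {B : Set (Finset α)} (hB : Cfsg.IsSteinerSystem 4 5 B) : Cfsg.IsM11 (Cfsg.setSystemAut B) ∧ MulAction.IsMultiplyPretransitive (Cfsg.setSystemAut B) α 4 ∧ ∀ x : Fin 4 ↪ α, MulAction.stabilizer (Cfsg.setSystemAut B) x = ⊥ := by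
  obtain ⟨e, he⟩ := exists_std11_iso hα hB
  obtain ⟨⟨u⟩, ht, hfree⟩ := aut11
  let E : setSystemAut B ≃* Spor.M11 := (autCongr e he).trans u
  refine ⟨⟨?_, ?_⟩, pretransitive_congr e he ht, fun x => ?_⟩
  · haveI : IsSimpleGroup Spor.M11 := Golay24.M11_simple
    haveI : Nontrivial (setSystemAut B) := E.toEquiv.nontrivial
    exact IsSimpleGroup.isSimpleGroup_of_surjective E.symm.toMonoidHom E.symm.surjective
  · rw [Nat.card_congr E.toEquiv, Golay24.card_M11]
  · rw [eq_bot_iff]
    intro σ hσ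
    have h1 : autCongr e he σ ∈ MulAction.stabilizer (setSystemAut (sysOf 11 std11)) (x.trans e.toEmbedding) :=
      Function.Embedding.ext fun i => (autCongr_apply e he σ (x i)).trans
        (congrArg e (congrArg (fun f : Fin _ ↪ α => f i) hσ))
    rw [hfree, Subgroup.mem_bot, EmbeddingLike.map_eq_one_iff] at h1
    exact h1

end Cfsg.Agent.S0426
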