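import Cfsg.Statements.S0427
import Cfsg.Agent.Lib.Steiner.Graphs

set_option autoImplicit false
open Cfsg

namespace Cfsg.Agent.S0427

open Cfsg.Agent.Steiner

theorem Fintype.card_subtype_compl_aux {α : Type*} [Fintype α] (B : Set (Finset α)) [Fintype B] :
    Fintype.card B = (blocks B).card := by
  classical
  rw [← Set.toFinset_card]
  congr 1
  ext x; simp


/-- The block graph (adjacent = disjoint) of an S(3, 6, 22) is strongly regular with parameters (77, 16, 0, 4). -/
theorem result {α : Type*} [Fintype α] (hα : Fintype.card α = 22) {B : Set (Finset α)} (hB : Cfsg.IsSteinerSystem 3 6 B) [Fintype B] [DecidableRel (Cfsg.blockGraph B).Adj] : (Cfsg.blockGraph B).IsSRGWith 77 16 0 4 := by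
  classical
  have hadj : ∀ v w : B, (blockGraph B).Adj v w ↔ Disjoint (v : Finset α) (w : Finset α) := by
    intro v w
    rw [blockGraph, SimpleGraph.fromRel_adj]
    refine ⟨fun h => h.2.elim id fun h' => h'.symm, fun h => ⟨?_, Or.inl h⟩⟩
    rintro rfl
    have := hB.1 v.1 v.2
    simp [disjoint_self.1 h] at this
  have htrans : ∀ (P : Finset α → Prop) [DecidablePred P], (Finset.univ.filter fun w : B => P w).card = ((blocks B).filter P).card := by
    intro P _
    refine Finset.card_bij (fun w _ => (w : Finset α)) (fun w hw => ?_) (fun a _ b _ h => Subtype.ext h)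
      (fun x hx => ?_)
    · exact Finset.mem_filter.2 ⟨mem_blocks.2 w.2, (Finset.mem_filter.1 hw).2⟩
    · obtain ⟨h1, h2⟩ := Finset.mem_filter.1 hx
      exact ⟨⟨x, mem_blocks.1 h1⟩, Finset.mem_filter.2 ⟨Finset.mem_univ _, h2⟩, rfl⟩
  have hcn : ∀ v w : B, v ≠ w → Fintype.card ((blockGraph B).commonNeighbors v w) =
      if Disjoint (v : Finset α) (w : Finset α) then 0 else 4 := by
    intro v w hne
    rw [← common_disj22 hB hα v.2 w.2 fun h => hne (Subtype.ext h), ← htrans (fun x => Disjoint (v : Finset α) x ∧ Disjoint (w : Finset α) x), ← Set.toFinset_card]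
    congr 1
    ext x
    simp [SimpleGraph.mem_commonNeighbors, hadj]
  refine ⟨?_, fun v => ?_, fun v w h => ?_, fun v w hne h => ?_⟩
  · rw [← card_blocks22 hB hα, Fintype.card_subtype_compl_aux B]
  · rw [← disj_count22 hB hα v.2, ← htrans (fun x => Disjoint (v : Finset α) x), ← SimpleGraph.card_neighborSet_eq_degree, ← Set.toFinset_card]
    congr 1
    ext x
    simp [hadj]
  · rw [hcn v w h.ne, if_pos ((hadj v w).1 h)]
  · rw [hcn v w hne, if_neg fun hd => h ((hadj v w).2 hd)]

end Cfsg.Agent.S0427
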