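import Cfsg.Statements.S0428
import Cfsg.Agent.Lib.Steiner.Graphs

set_option autoImplicit false
open Cfsg

namespace Cfsg.Agent.S0428

open Cfsg.Agent.Steiner


/-- The point-block graph of an S(3, 6, 22) is strongly regular with parameters (100, 22, 0, 6). -/
theorem result {α : Type*} [Fintype α] (hα : Fintype.card α = 22) {B : Set (Finset α)} (hB : Cfsg.IsSteinerSystem 3 6 B) [Fintype B] [DecidableRel (Cfsg.pointBlockGraph B).Adj] : (Cfsg.pointBlockGraph B).IsSRGWith 100 22 0 6 := by
  classical
  let q : Option (α ⊕ B) → Option (α ⊕ B) → Prop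
    | none, none => False
    | none, some (Sum.inl _) => True
    | none, some (Sum.inr _) => False
    | some (Sum.inl _), none => True
    | some (Sum.inr _), none => False
    | some (Sum.inl _), some (Sum.inl _) => False
    | some (Sum.inl a), some (Sum.inr b) => a ∈ (b : Finset α)
    | some (Sum.inr b), some (Sum.inl a) => a ∈ (b : Finset α)
    | some (Sum.inr b), some (Sum.inr c) => Disjoint (b : Finset α) (c : Finset α)
  have hne : ∀ b : B, ¬ Disjoint (b : Finset α) (b : Finset α) := fun b h => by
    have := hB.1 b.1 b.2; simp [disjoint_self.1 h] at this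
  have hadj : ∀ u v, (pointBlockGraph B).Adj u v ↔ q u v := by
    intro u v
    rw [pointBlockGraph, SimpleGraph.fromRel_adj]
    rcases u with _ | (a | b) <;> rcases v with _ | (a' | c) <;> simp [q, pointBlockRel]
    exact ⟨fun h => h.2.elim id fun h' => h'.symm, fun h => ⟨by rintro rfl; exact hne _ h, Or.inl h⟩⟩
  have hB' : Fintype.card B = 77 := by
    rw [← card_blocks22 hB hα, ← Set.toFinset_card]
    congr 1
    ext x; simp
  have hsplit : ∀ (P : Option (α ⊕ B) → Prop) [DecidablePred P], (Finset.univ.filter P).card =
      (if P none then 1 else 0) + ((Finset.univ.filter fun a => P (some (Sum.inl a))).card +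
        (Finset.univ.filter fun b : B => P (some (Sum.inr b))).card) := by
    intro P _
    rw [Finset.card_filter, Fintype.sum_option, Fintype.sum_sum_type, ← Finset.card_filter, ← Finset.card_filter]
  have htr : ∀ (P : Finset α → Prop) [DecidablePred P], (Finset.univ.filter fun w : B => P w).card = ((blocks B).filter P).card := by
    intro P _
    refine Finset.card_bij (fun w _ => (w : Finset α)) (fun w hw => ?_) (fun a _ b _ h => Subtype.ext h)
      (fun x hx => ?_)
    · exact Finset.mem_filter.2 ⟨mem_blocks.2 w.2, (Finset.mem_filter.1 hw).2⟩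
    · obtain ⟨h1, h2⟩ := Finset.mem_filter.1 hx
      exact ⟨⟨x, mem_blocks.1 h1⟩, Finset.mem_filter.2 ⟨Finset.mem_univ _, h2⟩, rfl⟩
  have hmem : ∀ (b : Finset α) (P : α → Prop) [DecidablePred P], (∀ a, P a ↔ a ∈ b) → (Finset.univ.filter P).card = b.card := by
    intro b P _ h
    congr 1; ext a; simp [h]
  have hcn : ∀ u v, Fintype.card ((pointBlockGraph B).commonNeighbors u v) = (Finset.univ.filter fun x => q u x ∧ q v x).card := by
    intro u v
    rw [← Set.toFinset_card]
    congr 1
    ext x
    simp [SimpleGraph.mem_commonNeighbors, hadj]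
  have hcom : ∀ u v, u ≠ v → (Finset.univ.filter fun x => q u x ∧ q v x).card = if q u v then 0 else 6 := by
    intro u v huv
    rw [hsplit]
    rcases u with _ | (a | b) <;> rcases v with _ | (a' | c)
    · exact absurd rfl huv
    · simp [q]
    · simp only [q, true_and, false_and, and_false, if_false, Finset.filter_false, Finset.card_empty]
      rw [hmem c.1 _ (fun a => Iff.rfl), hB.1 c.1 c.2]
    · simp [q]
    · simp only [q, false_and, and_false, true_and, and_true, if_true, if_false, Finset.filter_false, Finset.card_empty]
      rw [htr fun x => a ∈ x ∧ a' ∈ x, common_points22 hB hα fun h => huv (by rw [h])]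
    · simp only [q, false_and, and_false, if_false, Finset.filter_false, Finset.card_empty]
      rw [htr fun x => a ∈ x ∧ Disjoint (c : Finset α) x, point_disj22 hB hα c.2]
      simp
    · simp only [q, true_and, and_true, false_and, and_false, if_false, Finset.filter_false, Finset.card_empty]
      rw [hmem b.1 _ (fun a => Iff.rfl), hB.1 b.1 b.2]
    · simp only [q, false_and, and_false, if_false, Finset.filter_false, Finset.card_empty]
      rw [htr fun x => Disjoint (b : Finset α) x ∧ a' ∈ x,
        show (blocks B).filter (fun x => Disjoint (b : Finset α) x ∧ a' ∈ x) =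
          (blocks B).filter (fun x => a' ∈ x ∧ Disjoint (b : Finset α) x) from Finset.filter_congr fun x _ => and_comm,
        point_disj22 hB hα b.2]
      simp
    · have hbc : (b : Finset α) ≠ c := fun h => huv (by rw [Subtype.ext h])
      simp only [q, false_and, if_false]
      rw [hmem ((b : Finset α) ∩ c) _ (fun a => Finset.mem_inter.symm),
        htr fun x => Disjoint (b : Finset α) x ∧ Disjoint (c : Finset α) x,
        common_disj22 hB hα b.2 c.2 hbc]
      by_cases h : Disjoint (b : Finset α) c
      · simp [h, Finset.disjoint_iff_inter_eq_empty.1 h]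
      · rcases inter22 hB hα b.2 c.2 hbc with h0 | h0
        · exact absurd (Finset.disjoint_iff_inter_eq_empty.2 (Finset.card_eq_zero.1 h0)) h
        · simp [h, h0]
  refine ⟨?_, fun v => ?_, fun v w h => ?_, fun v w hne' h => ?_⟩
  · simp [hα, hB']
  · rw [← SimpleGraph.card_neighborSet_eq_degree, ← Set.toFinset_card,
      show ((pointBlockGraph B).neighborSet v).toFinset = Finset.univ.filter (q v) by ext x; simp [hadj], hsplit]
    rcases v with _ | (a | b)
    · simp [q, hα]
    · simp only [q, if_true, Finset.filter_false, Finset.card_empty]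
      rw [htr fun x => a ∈ x, point_blocks22 hB hα]
    · simp only [q, if_false]
      rw [hmem b.1 _ (fun a => Iff.rfl), hB.1 b.1 b.2, htr fun x => Disjoint (b : Finset α) x,
        disj_count22 hB hα b.2]
  · rw [hcn, hcom v w h.ne, if_pos ((hadj v w).1 h)]
  · rw [hcn, hcom v w hne', if_neg fun hq => h ((hadj v w).2 hq)]

end Cfsg.Agent.S0428
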