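import Mathlib
import Cfsg.Statements.S0439

set_option autoImplicit false
open Cfsg

namespace Cfsg.Agent.S0439

/-- In the symmetric group of degree n ≥ 2, the set of transpositions is a conjugacy class of 3-transpositions which generates the group. -/
theorem result (n : ℕ) (hn : 2 ≤ n) : Cfsg.IsThreeTranspositionClass {σ : Equiv.Perm (Fin n) | σ.IsSwap} := by
  have ord : ∀ d : Equiv.Perm (Fin n), d.IsSwap → orderOf d = 2 := fun d hd => hd.orderOf
  have hclass : ∀ x y : Fin n, x ≠ y → {σ : Equiv.Perm (Fin n) | σ.IsSwap} = conjugatesOf (Equiv.swap x y) := by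
    intro x y hxy
    ext σ
    constructor
    · rintro ⟨z, w, hzw, rfl⟩
      exact Equiv.Perm.isConj_swap hxy hzw
    · intro hσ
      obtain ⟨c, rfl⟩ := isConj_iff.mp hσ
      refine ⟨c x, c y, c.injective.ne hxy, ?_⟩
      ext i
      simp [Equiv.Perm.mul_apply, Equiv.swap_apply_def, Equiv.eq_symm_apply, Equiv.Perm.inv_def, apply_ite c, Equiv.symm_apply_eq]
  refine ⟨⟨ord, ?_⟩, ⟨Equiv.swap ⟨0, by omega⟩ ⟨1, by omega⟩, ⟨_, _, by simp, rfl⟩, hclass _ _ (by simp)⟩,
    Equiv.Perm.closure_isSwap⟩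
  rintro _ ⟨a, b, hab, rfl⟩ _ ⟨c, d, hcd, rfl⟩
  have three : ∀ p q r : Fin n, p ≠ q → p ≠ r →
      (Equiv.swap p q * Equiv.swap p r) ^ 2 = 1 ∨ (Equiv.swap p q * Equiv.swap p r) ^ 3 = 1 := by
    intro p q r h1 h2
    by_cases h3 : q = r
    · left; subst h3; simp
    · right; rw [← (Equiv.Perm.isThreeCycle_swap_mul_swap_same h1 h2 h3).orderOf]; exact pow_orderOf_eq_one _
  by_cases hac : a = c
  · subst hac; exact three a b d hab hcd
  by_cases had : a = d
  · subst had; rw [Equiv.swap_comm c a]; exact three a b c hab hcd.symm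
  by_cases hbc : b = c
  · subst hbc; rw [Equiv.swap_comm a b]; exact three b a d hab.symm hcd
  by_cases hbd : b = d
  · subst hbd; rw [Equiv.swap_comm a b, Equiv.swap_comm c b]; exact three b a c hab.symm hcd.symm
  left
  have hc : Commute (Equiv.swap a b) (Equiv.swap c d) := by
    refine Equiv.Perm.Disjoint.commute fun i => ?_
    simp only [Equiv.swap_apply_def]
    split_ifs <;> simp_all
  rw [hc.mul_pow]; simp [sq]

end Cfsg.Agent.S0439
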