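import Cfsg.Statements.S0440
import Cfsg.Agent.Lib.Forms.Sp

set_option autoImplicit false
set_option maxHeartbeats 1000000
open Cfsg

namespace Cfsg.Agent.S0440

open Cfsg.Agent.FormsLib

open Matrix

variable {n : ℕ}

abbrev V2 (n : ℕ) := Fin n ⊕ Fin n → ZMod 2

theorem two_cases : ∀ x : ZMod 2, x = 0 ∨ x = 1 := by decide

theorem tau_ne_one {w : V2 n} (hw : w ≠ 0) :
    tau (spB_alt (m := n) (F := ZMod 2)) w 1 ≠ 1 := by
  intro h
  apply hw
  refine (spB_nondeg (m := n) (F := ZMod 2)).2 w fun v => ?_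
  have := congrArg (fun e : V2 n ≃ₗ[ZMod 2] V2 n => e v) h
  simp only [tau_apply, one_mul, LinearEquiv.coe_one, id_eq, add_eq_left] at this
  rcases two_cases (spB n (ZMod 2) v w) with e | e
  · exact e
  · rw [e, one_smul] at this
    exact absurd this hw

theorem exists_partner {w : V2 n} (hw : w ≠ 0) : ∃ v, spB n (ZMod 2) v w = 1 := by
  by_contra hh
  push Not at hh
  exact hw ((spB_nondeg (m := n) (F := ZMod 2)).2 w fun v => (two_cases _).resolve_right (hh v))

theorem mem_iff (g : Matrix.symplecticGroup (Fin n) (ZMod 2)) :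
    ((g : Matrix (Fin n ⊕ Fin n) (Fin n ⊕ Fin n) (ZMod 2)) - 1).rank = 1 ↔
      ∃ w : V2 n, w ≠ 0 ∧ (spEquiv n (ZMod 2) g).1 = tau spB_alt w 1 := by
  set L := ((g : Matrix (Fin n ⊕ Fin n) (Fin n ⊕ Fin n) (ZMod 2)) - 1).mulVecLin with hL
  have hLa : ∀ x, L x = (spEquiv n (ZMod 2) g).1 x - x := fun x => by
    rw [hL, Matrix.mulVecLin_apply, Matrix.sub_mulVec, Matrix.one_mulVec, spEquiv_apply]
  show Module.finrank (ZMod 2) (LinearMap.range L) = 1 ↔ _
  constructor
  · intro h
    obtain ⟨⟨w, hw⟩, hw0, hspan⟩ := finrank_eq_one_iff'.1 h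
    have hw1 : w ≠ 0 := fun e => hw0 (Subtype.ext e)
    refine ⟨w, hw1, LinearEquiv.ext fun x => ?_⟩
    have hex : ∀ y, ∃ a : ZMod 2, (spEquiv n (ZMod 2) g).1 y = y + a • w := fun y => by
      obtain ⟨a, ha⟩ := hspan ⟨L y, LinearMap.mem_range_self L y⟩
      have ha' : a • w = L y := congrArg Subtype.val ha
      exact ⟨a, by rw [ha', hLa, add_sub_cancel]⟩
    have hiso : ∀ u v, spB n (ZMod 2) ((spEquiv n (ZMod 2) g).1 u) ((spEquiv n (ZMod 2) g).1 v) =
        spB n (ZMod 2) u v := (spEquiv n (ZMod 2) g).2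
    have hkey : ∀ y a z b, (spEquiv n (ZMod 2) g).1 y = y + a • w →
        (spEquiv n (ZMod 2) g).1 z = z + b • w →
        a * spB n (ZMod 2) w z + b * spB n (ZMod 2) y w = 0 := by
      intro y a z b h1 h2
      have h3 := hiso y z
      rw [h1, h2] at h3
      simp only [map_add, map_smul, LinearMap.add_apply, LinearMap.smul_apply, smul_eq_mul,
        spB_alt w, mul_zero, add_zero] at h3
      linear_combination h3
    obtain ⟨y0, hy0⟩ := exists_partner hw1
    have hy0' : spB n (ZMod 2) w y0 = -1 := by rw [alt_swap spB_alt y0 w, hy0]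
    obtain ⟨c, hc⟩ := hex y0
    have hall : ∀ y, (spEquiv n (ZMod 2) g).1 y = y + (c * spB n (ZMod 2) y w) • w := fun y => by
      obtain ⟨a, ha⟩ := hex y
      have h1 := hkey y a y0 c ha hc
      rw [hy0'] at h1
      rw [ha, show c * spB n (ZMod 2) y w = a by linear_combination h1]
    rcases two_cases c with e | e
    · exfalso
      obtain ⟨u, hu⟩ := LinearMap.mem_range.1 hw
      rw [hLa, hall u, e, zero_mul, zero_smul, add_zero, sub_self] at hu
      exact hw1 hu.symm
    · rw [hall x, e, tau_apply]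
  · rintro ⟨w, hw, he⟩
    have hr : LinearMap.range L = Submodule.span (ZMod 2) {w} := by
      refine le_antisymm ?_ ?_
      · rintro _ ⟨x, rfl⟩
        rw [hLa, he, tau_apply, add_sub_cancel_left]
        exact Submodule.smul_mem _ _ (Submodule.mem_span_singleton_self w)
      · rw [Submodule.span_singleton_le_iff_mem]
        obtain ⟨v, hv⟩ := exists_partner hw
        exact ⟨v, by rw [hLa, he, tau_apply, hv, mul_one, one_smul, add_sub_cancel_left]⟩
    rw [hr, finrank_span_singleton hw]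


/-- In the symplectic group in dimension 2n ≥ 2 over the field with two elements, the elements g for which g - 1 has rank one (the symplectic transvections) form a conjugacy class of 3-transpositions generating the group. -/
theorem result (n : ℕ) (hn : 1 ≤ n) : Cfsg.IsThreeTranspositionClass {g : Matrix.symplecticGroup (Fin n) (ZMod 2) | ((g : Matrix (Fin n ⊕ Fin n) (Fin n ⊕ Fin n) (ZMod 2)) - 1).rank = 1} := by
  set D : Set (Matrix.symplecticGroup (Fin n) (ZMod 2)) := {g |
    ((g : Matrix (Fin n ⊕ Fin n) (Fin n ⊕ Fin n) (ZMod 2)) - 1).rank = 1} with hD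
  set Φ := spEquiv n (ZMod 2) with hΦ
  have hmem : ∀ g, g ∈ D ↔ ∃ w : V2 n, w ≠ 0 ∧ (Φ g).1 = tau spB_alt w 1 := fun g => mem_iff g
  have h11 : (1 : ZMod 2) + 1 = 0 := rfl
  have hinj : ∀ g h : Matrix.symplecticGroup (Fin n) (ZMod 2), (Φ g).1 = (Φ h).1 → g = h :=
    fun g h e => Φ.injective (Subtype.ext e)
  have hcoe : ∀ g h, (Φ (g * h)).1 = (Φ g).1 * (Φ h).1 := fun g h => by rw [map_mul]; rfl
  have hsq : ∀ g ∈ D, g * g = 1 := fun g hg => by
    obtain ⟨w, hw, he⟩ := (hmem g).1 hg
    refine hinj _ _ ?_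
    rw [hcoe, he, tau_mul, h11, tau_zero, map_one]; rfl
  have hinv : ∀ g ∈ D, g⁻¹ = g := fun g hg => inv_eq_of_mul_eq_one_right (hsq g hg)
  have hconj : ∀ c g : Matrix.symplecticGroup (Fin n) (ZMod 2), ∀ w : V2 n,
      (Φ g).1 = tau spB_alt w 1 → (Φ (c * g * c⁻¹)).1 = tau spB_alt ((Φ c).1 w) 1 := fun c g w he => by
    rw [hcoe, hcoe, he, map_inv]
    exact tau_conj spB_alt (Φ c).2 w 1
  refine ⟨⟨fun g hg => ?_, fun g hg h hh => ?_⟩, ?_, ?_⟩
  · obtain ⟨w, hw, he⟩ := (hmem g).1 hg
    refine orderOf_eq_prime (by rw [pow_two]; exact hsq g hg) fun e1 => ?_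
    apply tau_ne_one hw
    rw [← he, e1, map_one]; rfl
  · obtain ⟨v, hv, hev⟩ := (hmem g).1 hg
    obtain ⟨w, hw, hew⟩ := (hmem h).1 hh
    rcases two_cases (spB n (ZMod 2) w v) with e | e
    · left
      have hc : g * h * g⁻¹ = h := hinj _ _ (by
        rw [hconj g h w hew, hev, tau_apply, e, mul_zero, zero_smul, add_zero, hew])
      calc (g * h) ^ 2 = (g * h * g⁻¹) * (g * g) * h := by rw [pow_two]; group
        _ = 1 := by rw [hc, hsq g hg, mul_one, hsq h hh]
    · right
      have e' : spB n (ZMod 2) v w = 1 := by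
        rw [alt_swap spB_alt w v, e]; rfl
      have hc : g * h * g⁻¹ = h * g * h⁻¹ := hinj _ _ (by
        rw [hconj g h w hew, hconj h g v hev, hev, hew, tau_apply, tau_apply, e, e', mul_one, one_smul, one_smul,
          add_comm])
      rw [hinv g hg, hinv h hh] at hc
      calc (g * h) ^ 3 = (g * h * g) * (h * g * h) := by
            rw [pow_succ, pow_two]; group
        _ = (g * h * g) * (g * h * g) := by rw [hc]
        _ = g * h * (g * g) * h * g := by group
        _ = g * (h * h) * g := by rw [hsq g hg, mul_one]; group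
        _ = 1 := by rw [hsq h hh, mul_one, hsq g hg]
  · let i0 : Fin n ⊕ Fin n := Sum.inl ⟨0, hn⟩
    have hw0 : (Pi.single i0 1 : V2 n) ≠ 0 := fun e => by
      have := congrFun e i0
      rw [Pi.single_eq_same] at this
      exact one_ne_zero this
    set d := Φ.symm (spTau (Pi.single i0 1 : V2 n) 1) with hd
    have hde : (Φ d).1 = tau spB_alt (Pi.single i0 1 : V2 n) 1 := by
      rw [hd, MulEquiv.apply_symm_apply, coe_spTau]
    refine ⟨d, (hmem d).2 ⟨_, hw0, hde⟩, Set.ext fun g => ⟨fun hg => ?_, fun hg => ?_⟩⟩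
    · obtain ⟨w, hw, he⟩ := (hmem g).1 hg
      obtain ⟨k, hk, hkw⟩ := exists_map_vec (spB_alt (m := n) (F := ZMod 2)) spB_nondeg hw0 hw
      let c := Φ.symm ⟨k, tauGroup_le _ hk⟩
      refine isConj_iff.2 ⟨c, hinj _ _ ?_⟩
      rw [hconj c d _ hde, he, MulEquiv.apply_symm_apply]
      show tau spB_alt (k (Pi.single i0 1)) 1 = _
      rw [hkw]
    · obtain ⟨c, rfl⟩ := isConj_iff.1 hg
      refine (hmem _).2 ⟨_, fun e => hw0 ((Φ c).1.injective (e.trans (map_zero _).symm)),
        hconj c d _ hde⟩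
  · have h : Subgroup.closure {g : SpIso n (ZMod 2) | ∃ w c, g = spTau w c} ≤
        (Subgroup.closure D).map Φ.toMonoidHom := by
      rw [Subgroup.closure_le]
      rintro _ ⟨w, c, rfl⟩
      rcases two_cases c with rfl | rfl
      · rw [show spTau w (0 : ZMod 2) = 1 from Subtype.ext (tau_zero spB_alt w)]
        exact one_mem _
      · by_cases hw : w = 0
        · subst hw
          rw [show spTau (0 : V2 n) (1 : ZMod 2) = 1 from Subtype.ext (LinearEquiv.ext fun v => by
            simp)]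
          exact one_mem _
        · refine ⟨Φ.symm (spTau w 1), Subgroup.subset_closure ((hmem _).2 ⟨w, hw, ?_⟩), ?_⟩
          · rw [MulEquiv.apply_symm_apply, coe_spTau]
          · exact MulEquiv.apply_symm_apply _ _
    rw [closure_spTau] at h
    rw [eq_top_iff]
    intro g _
    obtain ⟨x, hx, hxg⟩ := h (Subgroup.mem_top (Φ g))
    rwa [← Φ.injective hxg]

end Cfsg.Agent.S0440
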