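import Cfsg.Statements.S0441
import Cfsg.Agent.Lib.ClassK.FischerRankThree

set_option autoImplicit false
open Cfsg

namespace Cfsg.Agent.S0441

/-- Fischer's rank-three property. Let a finite group be generated by a conjugacy class D of 3-transpositions, with non-abelian simple commutator subgroup. Then for a in D there are members of D other than a commuting with a and members not commuting with a, and the centraliser of a acts transitively on each of these two sets. -/
theorem result {G : Type*} [Group G] [Finite G] {D : Set G} (hD : Cfsg.IsThreeTranspositionClass D) (hsimple : IsSimpleGroup (commutator G)) (hnonab : ∃ x y : commutator G, x * y ≠ y * x) {a : G} (ha : a ∈ D) : (∃ b ∈ D, b ≠ a ∧ Commute a b) ∧ (∃ c ∈ D, ¬ Commute a c) ∧ (∀ b ∈ D, ∀ b' ∈ D, b ≠ a → b' ≠ a → Commute a b → Commute a b' → ∃ g : G, Commute g a ∧ g * b * g⁻¹ = b') ∧ (∀ c ∈ D, ∀ c' ∈ D, ¬ Commute a c → ¬ Commute a c' → ∃ g : G, Commute g a ∧ g * c * g⁻¹ = c') := by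
  have h : Cfsg.Agent.ClassK.Fischer.Setup D := ⟨hD, hsimple, hnonab⟩
  obtain ⟨h3, h4⟩ := Cfsg.Agent.ClassK.Fischer.rank_three h ha
  refine ⟨Cfsg.Agent.ClassK.Fischer.exists_commute h ha, ?_, h3, h4⟩
  obtain ⟨x, hx, y, hy, hxy⟩ := Cfsg.Agent.ClassK.Fischer.exists_not_commute h
  obtain ⟨g, hg⟩ := Cfsg.Agent.ClassK.Fischer.exists_conj h hx ha
  refine ⟨g * y * g⁻¹, Cfsg.Agent.ClassK.Fischer.conj_mem h g hy, fun e => hxy ?_⟩
  rw [← hg] at e
  exact (Cfsg.Agent.ClassK.Fischer.commute_conj_iff g x y).1 e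

end Cfsg.Agent.S0441
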