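import Mathlib
import Cfsg.Statements.S0442

set_option autoImplicit false
open Cfsg

namespace Cfsg.Agent.S0442

/-- A standard trick for producing elements of an involution centraliser: for an involution a and an element g, let b be the conjugate g⁻¹ * a * g. If a * b has odd order 2m + 1 then g * (a * b) ^ m commutes with a; if a * b has even order 2m then (a * b) ^ m and (a * (g * a * g⁻¹)) ^ m commute with a. -/
theorem result {G : Type*} [Group G] (a g : G) (ha : orderOf a = 2) : (∀ m : ℕ, orderOf (a * (g⁻¹ * a * g)) = 2 * m + 1 → Commute (g * (a * (g⁻¹ * a * g)) ^ m) a) ∧ (∀ m : ℕ, orderOf (a * (g⁻¹ * a * g)) = 2 * m → Commute ((a * (g⁻¹ * a * g)) ^ m) a ∧ Commute ((a * (g * a * g⁻¹)) ^ m) a) := by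
  have ha2 : a * a = 1 := by rw [← sq, ← ha]; exact pow_orderOf_eq_one a
  have hai : a⁻¹ = a := inv_eq_of_mul_eq_one_right ha2
  set b := g⁻¹ * a * g with hb
  set x := a * b with hx
  have hb2 : b * b = 1 := by
    calc b * b = g⁻¹ * (a * a) * g := by rw [hb]; group
      _ = 1 := by rw [ha2]; group
  have hbi : b⁻¹ = b := inv_eq_of_mul_eq_one_right hb2
  have hax : a * x * a⁻¹ = x⁻¹ := by rw [hx, mul_inv_rev, hai, hbi, ← mul_assoc a a, ha2, one_mul]
  have hpow : ∀ n : ℕ, a * x ^ n = (x ^ n)⁻¹ * a := by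
    intro n
    have := conj_pow (i := n) (a := a) (b := x)
    rw [hax, inv_pow] at this
    rw [this]; group
  refine ⟨fun m hm => ?_, fun m hm => ?_⟩
  · have h1 : x ^ (m + 1) * x ^ m = 1 := by rw [← pow_add, show m + 1 + m = 2 * m + 1 by ring, ← hm, pow_orderOf_eq_one]
    have h2 : (x ^ m)⁻¹ = x ^ (m + 1) := inv_eq_of_mul_eq_one_left h1
    have h3 : a * g = g * b := by rw [hb]; group
    have h4 : b = a * x := by rw [hx, ← mul_assoc, ha2, one_mul]
    show g * x ^ m * a = a * (g * x ^ m)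
    rw [← mul_assoc, h3, h4, mul_assoc g (a * x), mul_assoc a x, ← pow_succ', hpow, ← h2, inv_inv, mul_assoc]
  · have key : ∀ y : G, a * y * a⁻¹ = y⁻¹ → y ^ (2 * m) = 1 → Commute (y ^ m) a := by
      intro y hy hy2
      have := conj_pow (i := m) (a := a) (b := y)
      rw [hy, inv_pow] at this
      have h1 : (y ^ m)⁻¹ = y ^ m := inv_eq_of_mul_eq_one_right (by rw [← pow_add, ← two_mul, hy2])
      rw [h1] at this
      show y ^ m * a = a * y ^ m
      nth_rewrite 1 [this]; group
    refine ⟨key x hax (by rw [← hm, pow_orderOf_eq_one]), ?_⟩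
    have h5 : a * (g * a * g⁻¹) = (g * x * g⁻¹)⁻¹ := by
      rw [hx, hb, ← mul_inv_eq_one]; group; simp [mul_assoc, sq, zpow_ofNat, ha2]
    refine key _ ?_ ?_
    · rw [mul_inv_rev, mul_inv_rev, mul_inv_rev, inv_inv, hai, ← mul_assoc a a, ha2]; simp [mul_assoc]
    · rw [h5, inv_pow, conj_pow, ← hm, pow_orderOf_eq_one]; simp

end Cfsg.Agent.S0442
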