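import Cfsg.Statements.S0445
import Mathlib

set_option autoImplicit false
open Cfsg

namespace Cfsg.Agent.S0445

open Matrix

abbrev M5 := Matrix (Fin 5) (Fin 5) (ZMod 2)
abbrev M3 := Matrix (Fin 3) (Fin 3) (ZMod 2)
abbrev Par := ZMod 2 × (Fin 3 → ZMod 2) × (Fin 3 → ZMod 2) × {A : M3 // A.det = 1}

/-- a matrix commuting with the transvection -/
def mk5 (a : ZMod 2) (x y : Fin 3 → ZMod 2) (A : M3) : M5 :=
  !![1, a, x 0, x 1, x 2;
     0, 1, 0, 0, 0;
     0, y 0, A 0 0, A 0 1, A 0 2;
     0, y 1, A 1 0, A 1 1, A 1 2;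
     0, y 2, A 2 0, A 2 1, A 2 2]

theorem det_mk5 (a : ZMod 2) (x y : Fin 3 → ZMod 2) (A : M3) : (mk5 a x y A).det = A.det := by
  rw [Matrix.det_succ_column_zero]
  simp [mk5, Fin.sum_univ_succ, Matrix.det_succ_row_zero (n := 3), Matrix.det_fin_three,
    Fin.succAbove]

theorem mk5_comm (a : ZMod 2) (x y : Fin 3 → ZMod 2) (A : M3) :
    Matrix.transvection 0 1 1 * mk5 a x y A = mk5 a x y A * Matrix.transvection 0 1 1 := by
  rw [Matrix.transvection, mul_add, add_mul, mul_one, one_mul]
  congr 1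
  ext i j
  fin_cases i <;> fin_cases j <;>
    simp [Matrix.mul_apply, Fin.sum_univ_succ, Matrix.single, mk5]

theorem card_det_one : Nat.card {A : M3 // A.det = 1} = 168 := by
  rw [Nat.card_eq_fintype_card]
  decide +kernel


/-- In the special linear group of dimension 5 over the field with two elements, the centraliser of a transvection has order 21504 = 2 ^ 7 · 168 (it is an extension of an extraspecial group of order 2 ^ 7 by the simple group of order 168). -/
theorem result (s : Matrix.SpecialLinearGroup (Fin 5) (ZMod 2)) (hs : (s : Matrix (Fin 5) (Fin 5) (ZMod 2)) = Matrix.transvection 0 1 1) : Nat.card (Subgroup.centralizer ({s} : Set (Matrix.SpecialLinearGroup (Fin 5) (ZMod 2)))) = 21504 := by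
  let C := Subgroup.centralizer ({s} : Set (Matrix.SpecialLinearGroup (Fin 5) (ZMod 2)))
  let f : Par → C := fun q =>
    ⟨⟨mk5 q.1 q.2.1 q.2.2.1 q.2.2.2.1, by rw [det_mk5]; exact q.2.2.2.2⟩,
      Subgroup.mem_centralizer_iff.2 (by
        rintro h (rfl : h = s)
        apply Subtype.ext
        show (h : M5) * mk5 q.1 q.2.1 q.2.2.1 q.2.2.2.1 = mk5 q.1 q.2.1 q.2.2.1 q.2.2.2.1 * (h : M5)
        rw [hs]
        exact mk5_comm _ _ _ _)⟩
  have hf : Function.Bijective f := by
    constructor
    · rintro ⟨a, x, y, A, hA⟩ ⟨b, u, v, B, hB⟩ h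
      have h' : mk5 a x y A = mk5 b u v B := congrArg (fun c : C => ((c : _) : M5)) h
      have e : ∀ i j, mk5 a x y A i j = mk5 b u v B i j := fun i j => by rw [h']
      refine Prod.ext (e 0 1) (Prod.ext ?_ (Prod.ext ?_ (Subtype.ext ?_)))
      · funext k; fin_cases k; exacts [e 0 2, e 0 3, e 0 4]
      · funext k; fin_cases k; exacts [e 2 1, e 3 1, e 4 1]
      · ext k l; fin_cases k <;> fin_cases l
        exacts [e 2 2, e 2 3, e 2 4, e 3 2, e 3 3, e 3 4, e 4 2, e 4 3, e 4 4]
    · rintro ⟨⟨g, hg⟩, hgC⟩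
      have hc : Matrix.transvection 0 1 1 * g = g * Matrix.transvection 0 1 1 := by
        rw [← hs]
        exact congrArg Subtype.val ((Subgroup.mem_centralizer_iff.1 hgC) s rfl)
      rw [Matrix.transvection, mul_add, add_mul, mul_one, one_mul] at hc
      have hc' := add_left_cancel hc
      have hcol : ∀ k, k ≠ 0 → g k 0 = 0 := fun k hk => by
        have := congrFun (congrFun hc' k) 1
        rw [Matrix.mul_single_apply_same, mul_one, Matrix.single_mul_apply_of_ne _ _ _ _ _ hk] at this
        exact this.symm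
      have hrow : ∀ l, l ≠ 1 → g 1 l = 0 := fun l hl => by
        have := congrFun (congrFun hc' 0) l
        rwa [Matrix.single_mul_apply_same, one_mul, Matrix.mul_single_apply_of_ne _ _ _ _ _ hl] at this
      have hdiag : g 1 1 = g 0 0 := by
        have := congrFun (congrFun hc' 0) 1
        rwa [Matrix.single_mul_apply_same, one_mul, Matrix.mul_single_apply_same, mul_one] at this
      have h00 : g 0 0 = 1 := by
        have h01 : ∀ x : ZMod 2, x = 0 ∨ x = 1 := by decide
        refine (h01 _).resolve_left fun h => ?_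
        rw [Matrix.det_eq_zero_of_column_eq_zero 0 (fun k => by
          by_cases hk : k = 0
          · rw [hk, h]
          · exact hcol k hk)] at hg
        exact zero_ne_one hg
      let A : M3 := !![g 2 2, g 2 3, g 2 4; g 3 2, g 3 3, g 3 4; g 4 2, g 4 3, g 4 4]
      have he : mk5 (g 0 1) ![g 0 2, g 0 3, g 0 4] ![g 2 1, g 3 1, g 4 1] A = g := by
        ext i j
        fin_cases i <;> fin_cases j <;>
          simp [mk5, A, h00, hdiag, hcol, hrow]
      refine ⟨(g 0 1, ![g 0 2, g 0 3, g 0 4], ![g 2 1, g 3 1, g 4 1],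
        ⟨A, by rw [← det_mk5 (g 0 1) ![g 0 2, g 0 3, g 0 4] ![g 2 1, g 3 1, g 4 1] A, he]; exact hg⟩), ?_⟩
      exact Subtype.ext (Subtype.ext he)
  show Nat.card C = 21504
  rw [← Nat.card_eq_of_bijective f hf, Nat.card_prod, Nat.card_prod, Nat.card_prod, card_det_one]
  simp

end Cfsg.Agent.S0445
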