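import Cfsg.Statements.S0458
import Cfsg.Agent.Lib.JankoThree.SubMax
import Mathlib.FieldTheory.Finite.GaloisField

set_option autoImplicit false
open Cfsg

namespace Cfsg.Agent.S0458

/-- Janko's third group exists as a transitive permutation group of degree 6156 with point stabiliser of order 8160: a simple group of order 50232960. -/
theorem result : ∃ H : Subgroup (Equiv.Perm (Fin 6156)), Cfsg.IsJ3 H ∧ MulAction.IsPretransitive H (Fin 6156) ∧ Nat.card (MulAction.stabilizer H (0 : Fin 6156)) = 8160 := by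
  classical
  haveI : Fact (Nat.Prime 2) := ⟨Nat.prime_two⟩
  let F := GaloisField 2 2
  letI : Fintype F := Fintype.ofFinite F
  have hF : Fintype.card F = 4 := by
    rw [← Nat.card_eq_fintype_card, GaloisField.card 2 2 (by norm_num)]
    norm_num
  obtain ⟨ω, hω⟩ : ∃ ω : F, ω ^ 2 + ω + 1 = 0 := by
    obtain ⟨x, hx0, hx1⟩ : ∃ x : F, x ≠ 0 ∧ x ≠ 1 := by
      obtain ⟨x, hx⟩ := Finset.card_pos.1 (show 0 < ((Finset.univ.erase (0 : F)).erase 1).card by
        rw [Finset.card_erase_of_mem (by simp), Finset.card_erase_of_mem (by simp), Finset.card_univ, hF]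
        norm_num)
      simp only [Finset.mem_erase, Finset.mem_univ, and_true] at hx
      exact ⟨x, hx.2, hx.1⟩
    have h3 : x ^ 3 = 1 := by
      have := FiniteField.pow_card_sub_one_eq_one x hx0
      rwa [hF] at this
    refine ⟨x, (mul_eq_zero.1 ?_).resolve_left (sub_ne_zero.2 hx1)⟩
    linear_combination h3
  have hy : JankoThree.Hyp F ω := ⟨hF, hω⟩
  haveI := JankoThree.isSimpleGroup_J3 hy
  obtain ⟨K, hK⟩ := JankoThree.exists_index_6156 hy
  obtain ⟨e, he⟩ : ∃ e : Cfsg.Spor.J3 F ω ⧸ K ≃ Fin 6156, e ((1 : Cfsg.Spor.J3 F ω) : Cfsg.Spor.J3 F ω ⧸ K) = 0 := by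
    let e0 : Cfsg.Spor.J3 F ω ⧸ K ≃ Fin 6156 := Finite.equivFinOfCardEq hK
    exact ⟨e0.trans (Equiv.swap (e0 ((1 : Cfsg.Spor.J3 F ω) : Cfsg.Spor.J3 F ω ⧸ K)) 0), by simp⟩
  let φ : Cfsg.Spor.J3 F ω →* Equiv.Perm (Fin 6156) :=
    e.permCongrHom.toMonoidHom.comp (MulAction.toPermHom (Cfsg.Spor.J3 F ω) (Cfsg.Spor.J3 F ω ⧸ K))
  have hφ : ∀ (g : Cfsg.Spor.J3 F ω) (x : Cfsg.Spor.J3 F ω ⧸ K), φ g (e x) = e (g • x) := by
    intro g x
    simp [φ, Equiv.permCongr_apply]
  have hinj : Function.Injective φ := by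
    rw [← MonoidHom.ker_eq_bot_iff]
    refine ((IsSimpleGroup.eq_bot_or_eq_top_of_normal φ.ker inferInstance)).resolve_right fun htop => ?_
    have hKtop : K = ⊤ := eq_top_iff.2 fun g _ => by
      have h1 : φ g = 1 := MonoidHom.mem_ker.1 (htop ▸ Subgroup.mem_top g)
      have h2 := hφ g ((1 : Cfsg.Spor.J3 F ω) : Cfsg.Spor.J3 F ω ⧸ K)
      rw [h1, Equiv.Perm.one_apply] at h2
      have h3 := e.injective h2
      rw [MulAction.Quotient.smul_mk, smul_eq_mul, mul_one, QuotientGroup.eq, inv_one, one_mul] at h3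
      exact h3
    rw [hKtop, Subgroup.index_top] at hK
    omega
  let q := MonoidHom.ofInjective hinj
  haveI hpre : MulAction.IsPretransitive φ.range (Fin 6156) := by
    refine ⟨fun a b => ?_⟩
    obtain ⟨g, hg⟩ := MulAction.exists_smul_eq (Cfsg.Spor.J3 F ω) (e.symm a) (e.symm b)
    refine ⟨⟨φ g, g, rfl⟩, ?_⟩
    have := hφ g (e.symm a)
    rw [hg, e.apply_symm_apply, e.apply_symm_apply] at this
    exact this
  have hcard : Nat.card φ.range = 50232960 := by
    rw [← Nat.card_congr q.toEquiv]; exact JankoThree.card_J3 hy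
  refine ⟨φ.range, ⟨q.symm.isSimpleGroup, hcard⟩, hpre, ?_⟩
  have hidx := MulAction.index_stabilizer_of_transitive φ.range (0 : Fin 6156)
  rw [Nat.card_fin] at hidx
  have h := Subgroup.card_mul_index (MulAction.stabilizer φ.range (0 : Fin 6156))
  rw [hidx, hcard] at h
  omega

end Cfsg.Agent.S0458
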