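import Cfsg.Statements.S0459
import Cfsg.Agent.Lib.RudPerm.Top
-- import your own Cfsg.Agent.* helpers here

set_option autoImplicit false
open Cfsg

namespace Cfsg.Agent.S0459

/-- The Rudvalis group exists as a transitive permutation group of degree 4060: simple of order 145926144000, with point stabiliser of order 35942400 containing a simple subgroup of order 17971200 (the order of the Tits group). -/
theorem result : ∃ H : Subgroup (Equiv.Perm (Fin 4060)), Cfsg.IsRu H ∧ MulAction.IsPretransitive H (Fin 4060) ∧ Nat.card (MulAction.stabilizer H (0 : Fin 4060)) = 35942400 ∧ ∃ T : Subgroup (MulAction.stabilizer H (0 : Fin 4060)), Cfsg.IsTits T := by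
  refine ⟨RudPerm.HG, ⟨RudPerm.simple_hg, RudPerm.card_h⟩, ?_, ?_⟩
  · have key : ∀ x : RudPerm.Pt, ∃ g ∈ RudPerm.HG, g (Fin.ofNat 4060 RudPerm.Certs.cH.a) = x := by
      intro x
      have hall : Enum.allRange (fun x => !Nat.beq (RudPerm.Certs.cH.F.posn x) 0) 32 0 4060 = true := by
        decide +kernel
      have h1 := Enum.allRange_spec 32 0 4060 hall x.val (Nat.zero_le _) (by omega)
      have h2 : x ∈ RudPerm.Certs.cH.F.set := by
        simp only [Bool.not_eq_true'] at h1
        exact Nat.ne_of_beq_eq_false h1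
      rw [RudPerm.specH.orbit] at h2
      exact h2
    refine ⟨fun x y => ?_⟩
    obtain ⟨g, hg, hgx⟩ := key x
    obtain ⟨g', hg', hgy⟩ := key y
    refine ⟨⟨g' * g⁻¹, mul_mem hg' (inv_mem hg)⟩, ?_⟩
    show (g' * g⁻¹) x = y
    rw [← hgx, ← hgy]
    simp
  · have h0 : (Fin.ofNat 4060 RudPerm.Certs.cH.a : RudPerm.Pt) = 0 := by decide +kernel
    have e : MulAction.stabilizer RudPerm.HG (0 : Fin 4060) = RudPerm.KG.subgroupOf RudPerm.HG := by
      ext g
      rw [MulAction.mem_stabilizer_iff, Subgroup.mem_subgroupOf, ← RudPerm.kg_eq, ← h0]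
      exact RudPerm.specH.stab g g.2
    have hKH : RudPerm.KG ≤ RudPerm.HG := RudPerm.kg_eq ▸ RudPerm.specH.le
    refine ⟨?_, ?_⟩
    · rw [e, Nat.card_congr (Subgroup.subgroupOfEquivOfLe hKH).toEquiv, RudPerm.card_k]
    · rw [e]
      have hTH : RudPerm.TG ≤ RudPerm.HG := le_trans RudPerm.tk hKH
      have hle : RudPerm.TG.subgroupOf RudPerm.HG ≤ RudPerm.KG.subgroupOf RudPerm.HG :=
        fun x hx => RudPerm.tk hx
      let U : Subgroup (RudPerm.KG.subgroupOf RudPerm.HG) :=
        (RudPerm.TG.subgroupOf RudPerm.HG).subgroupOf (RudPerm.KG.subgroupOf RudPerm.HG)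
      let φ : U ≃* RudPerm.TG :=
        (Subgroup.subgroupOfEquivOfLe hle).trans (Subgroup.subgroupOfEquivOfLe hTH)
      exact ⟨U, (MulEquiv.isSimpleGroup_congr φ).2 RudPerm.simple_tg,
        (Nat.card_congr φ.toEquiv).trans RudPerm.card_t⟩

end Cfsg.Agent.S0459
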