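import Cfsg.Statements.S0478
import Cfsg.Agent.Lib.JankoThree.Unitary
import Mathlib.FieldTheory.Finite.GaloisField

set_option autoImplicit false
open Cfsg

namespace Cfsg.Agent.S0478

/-- A triple cover of Janko's third group inside a unitary group: for a field F with four elements, the special unitary group of dimension 9 (with respect to the form with q = 2) has a subgroup whose centre has order 3 and whose quotient by its centre is simple of order 50232960. -/
theorem result : ∃ (F : Type) (_ : Field F) (_ : Fintype F), Fintype.card F = 4 ∧ ∃ H : Subgroup (Cfsg.SU 9 F 2), Nat.card (Subgroup.center H) = 3 ∧ Cfsg.IsJ3 (H ⧸ Subgroup.center H) := by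
  classical
  haveI : Fact (Nat.Prime 2) := ⟨Nat.prime_two⟩
  let F := GaloisField 2 2
  letI : Fintype F := Fintype.ofFinite F
  have hF : Fintype.card F = 4 := by
    rw [← Nat.card_eq_fintype_card, GaloisField.card 2 2 (by norm_num)]
    norm_num
  obtain ⟨ω, hω⟩ : ∃ ω : F, ω ^ 2 + ω + 1 = 0 := by
    obtain ⟨x, hx0, hx1⟩ : ∃ x : F, x ≠ 0 ∧ x ≠ 1 := by
      obtain ⟨x, hx⟩ := Finset.card_pos.1 (show 0 < ((Finset.univ.erase (0 : F)).erase 1).card by
        rw [Finset.card_erase_of_mem (by simp), Finset.card_erase_of_mem (by simp), Finset.card_univ, hF]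
        norm_num)
      simp only [Finset.mem_erase, Finset.mem_univ, and_true] at hx
      exact ⟨x, hx.2, hx.1⟩
    have h3 : x ^ 3 = 1 := by
      have := FiniteField.pow_card_sub_one_eq_one x hx0
      rwa [hF] at this
    refine ⟨x, (mul_eq_zero.1 ?_).resolve_left (sub_ne_zero.2 hx1)⟩
    linear_combination h3
  have hy : JankoThree.Hyp F ω := ⟨hF, hω⟩
  refine ⟨F, inferInstance, inferInstance, hF, (JankoThree.toSU hy).range, ?_⟩
  let e := MonoidHom.ofInjective (JankoThree.toSU_injective hy)
  have hc : (Subgroup.center (Cfsg.Spor.threeJ3 F ω)).map e.toMonoidHom =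
      Subgroup.center (JankoThree.toSU hy).range := by
    refine le_antisymm ?_ fun y hy' => ?_
    · rintro _ ⟨x, hx, rfl⟩
      refine Subgroup.mem_center_iff.2 fun y => ?_
      obtain ⟨y, rfl⟩ := e.surjective y
      show e y * e x = e x * e y
      rw [← map_mul, ← map_mul, Subgroup.mem_center_iff.1 hx y]
    · obtain ⟨x, rfl⟩ := e.surjective y
      refine ⟨x, Subgroup.mem_center_iff.2 fun z => e.injective ?_, rfl⟩
      rw [map_mul, map_mul]
      exact Subgroup.mem_center_iff.1 hy' (e z)
  have q := QuotientGroup.congr (Subgroup.center (Cfsg.Spor.threeJ3 F ω))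
    (Subgroup.center (JankoThree.toSU hy).range) e hc
  refine ⟨?_, ?_, ?_⟩
  · rw [← hc]
    exact (Subgroup.card_map_of_injective e.injective).trans (JankoThree.card_center hy)
  · haveI := JankoThree.isSimpleGroup_J3 hy
    exact q.symm.isSimpleGroup
  · rw [← Nat.card_congr q.toEquiv]
    exact JankoThree.card_J3 hy

end Cfsg.Agent.S0478
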