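import Mathlib
import Cfsg.Statements.S0481

set_option autoImplicit false
open Cfsg

namespace Cfsg.Agent.S0481

/-- Large extraspecial subgroups: let z be an involution of a finite group G whose centraliser C contains a normal 2-subgroup Q with centre of order 2 and all squares central, such that every element of G centralising Q lies in Q. Then C contains a Sylow 2-subgroup of G, and any involution of G whose centraliser contains a Sylow 2-subgroup of G is conjugate to z. -/
theorem result {G : Type*} [Group G] [Finite G] (z : G) (hz : orderOf z = 2) (Q : Subgroup G) (hQC : Q ≤ Subgroup.centralizer ({z} : Set G)) (hQn : ∀ g ∈ Subgroup.centralizer ({z} : Set G), ∀ q ∈ Q, g * q * g⁻¹ ∈ Q) (hQ2 : IsPGroup 2 Q) (hZ : Nat.card (Subgroup.center Q) = 2) (hsq : ∀ x : Q, x ^ 2 ∈ Subgroup.center Q) (hlarge : Subgroup.centralizer (Q : Set G) ≤ Q) : (∃ P : Sylow 2 G, (P : Subgroup G) ≤ Subgroup.centralizer ({z} : Set G)) ∧ ∀ u : G, orderOf u = 2 → (∃ P : Sylow 2 G, (P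 : Subgroup G) ≤ Subgroup.centralizer ({u} : Set G)) → IsConj z u := by
  haveI : Fact (Nat.Prime 2) := ⟨Nat.prime_two⟩
  haveI : Finite (Sylow 2 G) := inferInstance
  obtain ⟨S, hS⟩ := IsPGroup.exists_le_sylow hQ2
  -- an involution centralizing a Sylow 2-subgroup above `Q` equals `z`
  have key : ∀ P : Sylow 2 G, Q ≤ (P : Subgroup G) → ∀ w : G, orderOf w = 2 →
      (∀ x ∈ P, x * w = w * x) → w = z := by
    intro P hP w hw hc
    have hwQ : w ∈ Q := hlarge (Subgroup.mem_centralizer_iff.mpr fun x hx => hc x (hP hx))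
    have hzQ : z ∈ Q := hlarge (Subgroup.mem_centralizer_iff.mpr fun x hx =>
      Subgroup.mem_centralizer_singleton_iff.mp (hQC hx))
    have hwZ : (⟨w, hwQ⟩ : Q) ∈ Subgroup.center Q :=
      Subgroup.mem_center_iff.mpr fun x => Subtype.ext (hc x (hP x.2))
    have hzZ : (⟨z, hzQ⟩ : Q) ∈ Subgroup.center Q :=
      Subgroup.mem_center_iff.mpr fun x => Subtype.ext (Subgroup.mem_centralizer_singleton_iff.mp (hQC x.2))
    obtain ⟨u, v, -, huv⟩ := Nat.card_eq_two_iff.mp hZ
    have h1 : ∀ c : Subgroup.center Q, c = u ∨ c = v := fun c => by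
      have : c ∈ ({u, v} : Set (Subgroup.center Q)) := huv ▸ Set.mem_univ c
      simpa using this
    have hne : ∀ q : G, orderOf q = 2 → q ≠ 1 := fun q hq h => by simp [h] at hq
    have hw1 : (⟨⟨w, hwQ⟩, hwZ⟩ : Subgroup.center Q) ≠ 1 := fun h =>
      hne w hw (congrArg (fun c : Subgroup.center Q => ((c : Q) : G)) h)
    have hz1 : (⟨⟨z, hzQ⟩, hzZ⟩ : Subgroup.center Q) ≠ 1 := fun h =>
      hne z hz (congrArg (fun c : Subgroup.center Q => ((c : Q) : G)) h)
    rcases h1 1 with ho | ho <;> rcases h1 ⟨⟨w, hwQ⟩, hwZ⟩ with hu | hu <;> rcases h1 ⟨⟨z, hzQ⟩, hzZ⟩ with hv | hv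
    all_goals first
      | exact absurd (hu.trans ho.symm) hw1
      | exact absurd (hv.trans ho.symm) hz1
      | exact congrArg (fun c : Subgroup.center Q => ((c : Q) : G)) (hu.trans hv.symm)
  have hSne : (S : Subgroup G) ≠ ⊥ := S.ne_bot_of_dvd_card (hz ▸ orderOf_dvd_natCard z)
  haveI : Nontrivial (S : Subgroup G) := (Subgroup.nontrivial_iff_ne_bot _).mpr hSne
  haveI := S.isPGroup'.center_nontrivial
  obtain ⟨n, hn⟩ := IsPGroup.iff_card.mp (S.isPGroup'.to_subgroup (Subgroup.center S))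
  have hd : 2 ∣ Nat.card (Subgroup.center (S : Subgroup G)) := by
    rcases Nat.eq_zero_or_pos n with rfl | hpos
    · have h1 := Finite.one_lt_card (α := Subgroup.center (S : Subgroup G)); rw [hn, pow_zero] at h1; omega
    · rw [hn]; exact dvd_pow_self 2 hpos.ne'
  obtain ⟨w, hw⟩ := exists_prime_orderOf_dvd_card' 2 hd
  have hwS : ∀ x ∈ S, x * ((w : (S : Subgroup G)) : G) = ((w : (S : Subgroup G)) : G) * x := fun x hx =>
    congrArg Subtype.val (Subgroup.mem_center_iff.mp w.2 ⟨x, hx⟩)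
  have hwz : ((w : (S : Subgroup G)) : G) = z := key S hS _ (by rw [Subgroup.orderOf_coe, Subgroup.orderOf_coe, hw]) hwS
  refine ⟨⟨S, fun x hx => Subgroup.mem_centralizer_singleton_iff.mpr (hwz ▸ hwS x hx)⟩, fun u hu => ?_⟩
  rintro ⟨P, hP⟩
  obtain ⟨g, hg⟩ := MulAction.exists_smul_eq G P S
  refine (isConj_iff.mpr ⟨g, key S hS (g * u * g⁻¹) ?_ ?_⟩).symm
  · rw [show g * u * g⁻¹ = MulAut.conj g u from rfl, MulEquiv.orderOf_eq, hu]
  · intro x hx
    rw [← hg, Sylow.smul_def] at hx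
    obtain ⟨y, hy, rfl⟩ := hx
    have := Subgroup.mem_centralizer_singleton_iff.mp (hP hy)
    simp [mul_assoc]
    rw [← mul_assoc y u, this, mul_assoc]

end Cfsg.Agent.S0481
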