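import Cfsg.Statements.S0987
import Cfsg.Agent.Lib.SmallSimple.SylowFive
import Mathlib


set_option autoImplicit false
open Cfsg Subgroup

namespace Cfsg.Agent.S0987

/-- If a finite group has order pqr for primes p < q < r, then its Sylow r-subgroups are normal. -/
theorem result {G : Type*} [Group G] [Finite G] (p q r : ℕ) (hp : p.Prime) (hq : q.Prime) [Fact r.Prime] (hpq : p < q) (hqr : q < r) (hG : Nat.card G = p * q * r) (R : Sylow r G) : (R : Subgroup G).Normal := by
  haveI : Fact p.Prime := ⟨hp⟩
  haveI : Fact q.Prime := ⟨hq⟩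
  have hr : r.Prime := Fact.out
  have hp2 := hp.two_le
  have hcq : Nat.Coprime q (p * r) := Nat.Coprime.mul_right
    ((Nat.coprime_primes hq hp).2 hpq.ne') ((Nat.coprime_primes hq hr).2 hqr.ne)
  have hcr : Nat.Coprime r (p * q) := Nat.Coprime.mul_right
    ((Nat.coprime_primes hr hp).2 (hpq.trans hqr).ne') ((Nat.coprime_primes hr hq).2 hqr.ne')
  have hRc : ∀ R : Sylow r G, Nat.card R = r := fun R => by
    rw [SmallSimple.card_sylow_of_eq (k := 1) (m := p * q) R (by rw [hG]; ring)
      ((Nat.Prime.coprime_iff_not_dvd hr).1 hcr), pow_one]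
  have hQc : ∀ Q : Sylow q G, Nat.card Q = q := fun Q => by
    rw [SmallSimple.card_sylow_of_eq (k := 1) (m := p * r) Q (by rw [hG]; ring)
      ((Nat.Prime.coprime_iff_not_dvd hq).1 hcq), pow_one]
  by_contra hn
  have hn1 : ∀ {s : ℕ} [Fact s.Prime] (S : Sylow s G), ¬ (S : Subgroup G).Normal →
      Nat.card (Sylow s G) ≠ 1 := fun S hS h1 => by
    haveI := (Nat.card_eq_one_iff_unique.1 h1).1
    exact hS (Sylow.normal_of_subsingleton S)
  have hdvd : ∀ {s : ℕ} [Fact s.Prime] (S : Sylow s G) (m : ℕ), Nat.card S = s →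
      s * m = p * q * r → Nat.card (Sylow s G) ∣ m := by
    intro s _ S m hS hm
    have h := S.card_dvd_index
    have h2 := Subgroup.card_mul_index (S : Subgroup G)
    rw [hS, hG, ← hm] at h2
    rwa [Nat.eq_of_mul_eq_mul_left (Fact.out : s.Prime).pos h2] at h
  -- all Sylow `r`-subgroups: `n_r = p q`
  have hr1 : Nat.card (Sylow r G) = p * q := by
    obtain ⟨a, b, ha, hb, hab⟩ := Nat.dvd_mul.1 (hdvd R (p * q) (hRc R) (by ring))
    have hne := hn1 R hn
    have hmod : Nat.card (Sylow r G) % r = 1 := by
      have h := card_sylow_modEq_one r G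
      rwa [Nat.ModEq, Nat.mod_eq_of_lt hr.one_lt] at h
    rcases (Nat.dvd_prime hp).1 ha with rfl | rfl <;> rcases (Nat.dvd_prime hq).1 hb with rfl | rfl <;>
      rw [← hab] at hne hmod ⊢
    · simp at hne
    · rw [one_mul] at hmod
      rw [Nat.mod_eq_of_lt hqr] at hmod
      have := hq.two_le; omega
    · rw [mul_one] at hmod
      rw [Nat.mod_eq_of_lt (by omega)] at hmod
      omega
  obtain ⟨Q⟩ : Nonempty (Sylow q G) := inferInstance
  by_cases hQn : (Q : Subgroup G).Normal
  · haveI := hQn
    -- `G / Q` has a normal Sylow `r`-subgroup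
    let R' : Sylow r (G ⧸ (Q : Subgroup G)) := R.mapSurjective (QuotientGroup.mk'_surjective _)
    have hcard : Nat.card (G ⧸ (Q : Subgroup G)) = p * r := by
      have h := Subgroup.card_eq_card_quotient_mul_card_subgroup (Q : Subgroup G)
      rw [hQc Q, hG] at h
      exact Nat.eq_of_mul_eq_mul_right hq.pos (by linarith)
    have hn' : Nat.card (Sylow r (G ⧸ (Q : Subgroup G))) = 1 := by
      have h := R'.card_dvd_index
      have h2 := Subgroup.card_mul_index (R' : Subgroup (G ⧸ (Q : Subgroup G)))
      have hR'c : Nat.card R' = r := by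
        rw [SmallSimple.card_sylow_of_eq (k := 1) (m := p) R' (by rw [hcard]; ring)
          (fun h => by have := Nat.le_of_dvd hp.pos h; omega), pow_one]
      rw [hR'c, hcard, mul_comm p] at h2
      rw [Nat.eq_of_mul_eq_mul_left hr.pos h2] at h
      have hmod : Nat.card (Sylow r (G ⧸ (Q : Subgroup G))) % r = 1 := by
        have h := card_sylow_modEq_one r (G ⧸ (Q : Subgroup G))
        rwa [Nat.ModEq, Nat.mod_eq_of_lt hr.one_lt] at h
      rcases (Nat.dvd_prime hp).1 h with h1 | h1
      · exact h1
      · rw [h1, Nat.mod_eq_of_lt (by omega)] at hmod; omega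
    haveI := (Nat.card_eq_one_iff_unique.1 hn').1
    have hR'n : (R' : Subgroup (G ⧸ (Q : Subgroup G))).Normal := Sylow.normal_of_subsingleton R'
    set M := (R' : Subgroup (G ⧸ (Q : Subgroup G))).comap (QuotientGroup.mk' (Q : Subgroup G))
    haveI : M.Normal := hR'n.comap _
    have hRM : (R : Subgroup G) ≤ M := fun x hx => ⟨x, hx, rfl⟩
    have hM := SylowFive.card_sylow_of_normal R M hRM
    rw [hr1] at hM
    have hMc : Nat.card M ∣ q * r := by
      have h1 : M = (R : Subgroup G) ⊔ (Q : Subgroup G) := by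
        show Subgroup.comap _ _ = _
        rw [Sylow.coe_mapSurjective, Subgroup.comap_map_eq, QuotientGroup.ker_mk']
      have hp' : Nat.card M * M.index = p * q * r := by rw [← hG]; exact M.card_mul_index
      have hidx : M.index = p := by
        have : M.index = (R' : Subgroup (G ⧸ (Q : Subgroup G))).index :=
          Subgroup.index_comap_of_surjective _ (QuotientGroup.mk'_surjective _)
        rw [this]
        have h2 := Subgroup.card_mul_index (R' : Subgroup (G ⧸ (Q : Subgroup G)))
        rw [SmallSimple.card_sylow_of_eq (k := 1) (m := p) R' (by rw [hcard]; ring)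
          (fun h => by have := Nat.le_of_dvd hp.pos h; omega), pow_one, hcard, mul_comm p] at h2
        exact Nat.eq_of_mul_eq_mul_left hr.pos h2
      rw [hidx] at hp'
      exact ⟨1, by rw [mul_one]; exact (Nat.eq_of_mul_eq_mul_right hp.pos (by linarith)).symm⟩
    obtain ⟨RM⟩ : Nonempty (Sylow r M) := inferInstance
    have hd : Nat.card (Sylow r M) ∣ q * r :=
      ((RM.card_dvd_index).trans (Subgroup.index_dvd_card _)).trans hMc
    rw [hM] at hd
    have := (Nat.Coprime.dvd_mul_left
      ((Nat.coprime_primes hp hq).2 hpq.ne)).1 ((dvd_mul_right p q).trans hd)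
    have := (Nat.prime_dvd_prime_iff_eq hp hr).1 this
    omega
  · -- too many elements
    have hq1 : r ≤ Nat.card (Sylow q G) := by
      obtain ⟨a, b, ha, hb, hab⟩ := Nat.dvd_mul.1 (hdvd Q (p * r) (hQc Q) (by ring))
      have hne := hn1 Q hQn
      have hmod : Nat.card (Sylow q G) % q = 1 := by
        have h := card_sylow_modEq_one q G
        rwa [Nat.ModEq, Nat.mod_eq_of_lt hq.one_lt] at h
      rcases (Nat.dvd_prime hp).1 ha with rfl | rfl <;> rcases (Nat.dvd_prime hr).1 hb with rfl | rfl <;>
        rw [← hab] at hne hmod ⊢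
      · simp at hne
      · simp
      · rw [mul_one, Nat.mod_eq_of_lt hpq] at hmod
        omega
      · exact Nat.le_mul_of_pos_left _ hp.pos
    have hcount : ∀ {s : ℕ} [Fact s.Prime], (∀ S : Sylow s G, Nat.card S = s) →
        Nat.card (Sylow s G) * (s - 1) ≤ Nat.card {g : G // orderOf g = s} := by
      intro s _ hS
      haveI := Fintype.ofFinite (Sylow s G)
      have e1 : Nat.card (Σ S : Sylow s G, {x : (S : Subgroup G) // x ≠ 1}) =
          Nat.card (Sylow s G) * (s - 1) := by
        have hone : ∀ S : Sylow s G, Nat.card {x : (S : Subgroup G) // x ≠ 1} = s - 1 := fun S => by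
          classical
          haveI := Fintype.ofFinite (S : Subgroup G)
          rw [Nat.card_eq_fintype_card, Fintype.card_subtype_compl, Fintype.card_subtype_eq,
            ← Nat.card_eq_fintype_card, hS S]
        rw [Nat.card_sigma]
        simp only [hone, Finset.sum_const, Finset.card_univ, ← Nat.card_eq_fintype_card, smul_eq_mul]
      have ho : ∀ (S : Sylow s G) (x : (S : Subgroup G)), x ≠ 1 → orderOf (x : G) = s := by
        intro S x hx
        have hd : orderOf (x : G) ∣ s := by
          have h := Subgroup.orderOf_dvd_natCard (S : Subgroup G) x.2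
          rwa [hS S] at h
        rcases (Nat.dvd_prime (Fact.out : s.Prime)).1 hd with h | h
        · exact absurd (Subtype.ext (orderOf_eq_one_iff.1 h)) hx
        · exact h
      rw [← e1]
      refine Nat.card_le_card_of_injective (fun a => ⟨(a.2.1 : G), ho a.1 a.2.1 a.2.2⟩) ?_
      rintro ⟨S, x, hx⟩ ⟨S', x', hx'⟩ h
      have hxx : (x : G) = x' := congrArg Subtype.val h
      have h1 : Subgroup.zpowers (x : G) = S := Subgroup.eq_of_le_of_card_ge
        (Subgroup.zpowers_le.2 x.2) (by rw [Nat.card_zpowers, ho S x hx, hS S])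
      have h2 : Subgroup.zpowers (x : G) = S' := Subgroup.eq_of_le_of_card_ge
        (Subgroup.zpowers_le.2 (hxx ▸ x'.2)) (by rw [Nat.card_zpowers, ho S x hx, hS S'])
      have : S = S' := Sylow.ext (h1.symm.trans h2)
      subst this
      have : x = x' := Subtype.ext hxx
      subst this
      rfl
    have hr' := hcount hRc
    have hq' := hcount hQc
    rw [hr1] at hr'
    have hsum : Nat.card {g : G // orderOf g = r} + Nat.card {g : G // orderOf g = q} ≤ p * q * r := by
      rw [← hG, ← Nat.card_sum]
      refine Nat.card_le_card_of_injective (Sum.elim Subtype.val Subtype.val) ?_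
      rintro (⟨a, ha⟩ | ⟨a, ha⟩) (⟨b, hb⟩ | ⟨b, hb⟩) h <;> simp at h <;> subst h <;>
        first | rfl | omega
    have h1 : r * (q - 1) ≤ Nat.card (Sylow q G) * (q - 1) := Nat.mul_le_mul_right _ hq1
    obtain ⟨r', rfl⟩ : ∃ r', r = r' + 1 := ⟨r - 1, by omega⟩
    obtain ⟨q', rfl⟩ : ∃ q', q = q' + 1 := ⟨q - 1, by omega⟩
    simp only [Nat.add_sub_cancel] at hr' hq' h1
    have h3 : p * (q' + 1) * r' + (r' + 1) * q' ≤ p * (q' + 1) * (r' + 1) := by omega
    nlinarith

end Cfsg.Agent.S0987
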