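import Cfsg.Statements.S0493
import Cfsg.Agent.Lib.SmallSimple.Basic
import Cfsg.Agent.S0144
import Cfsg.Agent.S0987
import Cfsg.Agent.S0992
import Mathlib


set_option autoImplicit false
open Cfsg

namespace Cfsg.Agent.S0493

open Subgroup

/-- A finite simple group of order at most 100 that is not cyclic has order 60. -/
theorem result {G : Type*} [Group G] [Finite G] [IsSimpleGroup G]
    (hG : ¬ IsCyclic G) (h : Nat.card G ≤ 100) : Nat.card G = 60 := by
  have hnp : ¬ (Nat.card G).Prime := fun hp => by
    haveI := Fact.mk hp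
    exact hG (isCyclic_of_prime_card rfl)
  have hna := SmallSimple.not_isMulCommutative (G := G) hnp
  have two : ∀ p q a b : ℕ, p.Prime → q.Prime → Nat.card G ≠ p ^ a * q ^ b := by
    intro p q a b hp hq he
    haveI := S0144.result p q a b hp hq he
    exact hna ⟨⟨fun x y => IsSimpleGroup.comm_iff_isSolvable.2 this x y⟩⟩
  -- at least three prime divisors
  have hpos : 0 < Nat.card G := Nat.card_pos
  have h3 : 3 ≤ (Nat.card G).primeFactors.card := by
    by_contra hc
    have hprod := Nat.prod_factorization_pow_eq_self hpos.ne'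
    rw [Finsupp.prod, Nat.support_factorization] at hprod
    rcases (show (Nat.card G).primeFactors.card = 0 ∨ (Nat.card G).primeFactors.card = 1 ∨
      (Nat.card G).primeFactors.card = 2 by omega) with h | h | h
    · rw [Finset.card_eq_zero.1 h, Finset.prod_empty] at hprod
      exact two 2 3 0 0 Nat.prime_two Nat.prime_three (by rw [← hprod]; norm_num)
    · obtain ⟨p, hp⟩ := Finset.card_eq_one.1 h
      rw [hp, Finset.prod_singleton] at hprod
      have hpP := Nat.prime_of_mem_primeFactors (hp ▸ Finset.mem_singleton_self p : p ∈ (Nat.card G).primeFactors)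
      exact two p p ((Nat.card G).factorization p) 0 hpP hpP (by rw [pow_zero, mul_one]; exact hprod.symm)
    · obtain ⟨p, q, hpq, hp⟩ := Finset.card_eq_two.1 h
      rw [hp, Finset.prod_pair hpq] at hprod
      exact two p q _ _ (Nat.prime_of_mem_primeFactors (hp ▸ Finset.mem_insert_self p {q} : p ∈ (Nat.card G).primeFactors))
        (Nat.prime_of_mem_primeFactors (hp ▸ Finset.mem_insert_of_mem (Finset.mem_singleton_self q) : q ∈ (Nat.card G).primeFactors))
        hprod.symm
  have pqr : ∀ p q r : ℕ, p.Prime → q.Prime → r.Prime → p < q → q < r → Nat.card G ≠ p * q * r := by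
    intro p q r hp hq hr hpq hqr he
    haveI := Fact.mk hr
    obtain ⟨R⟩ : Nonempty (Sylow r G) := inferInstance
    exact SmallSimple.sylow_not_normal hna (he ▸ dvd_mul_left r _) R (S0987.result p q r hp hq hpq hqr he R)
  have even2 : Nat.card G % 8 ≠ 0 → Even (Nat.card G) → 4 ∣ Nat.card G := by
    intro h8 he
    haveI := Fact.mk Nat.prime_two
    obtain ⟨T⟩ : Nonempty (Sylow 2 G) := inferInstance
    have hT := (S0992.result hna he (fun h => h8 (Nat.mod_eq_zero_of_dvd h)) T).1.card_four
    rw [← hT]
    exact card_subgroup_dvd_card _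
  have h84 : Nat.card G ≠ 84 := by
    intro he
    haveI : Fact (Nat.Prime 7) := ⟨by norm_num⟩
    obtain ⟨P⟩ : Nonempty (Sylow 7 G) := inferInstance
    have hd := P.card_dvd_index
    have hne := SmallSimple.card_sylow_ne_one hna (p := 7) (by rw [he]; norm_num)
    have hP : Nat.card P = 7 := by
      rw [SmallSimple.card_sylow_of_eq (k := 1) (m := 12) P (by rw [he]; norm_num) (by norm_num), pow_one]
    have h2 := card_mul_index (P : Subgroup G)
    rw [hP, he] at h2
    rw [show (P : Subgroup G).index = 12 by omega] at hd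
    have hmod := card_sylow_modEq_one 7 G
    rw [Nat.ModEq] at hmod
    have hle := Nat.le_of_dvd (by norm_num) hd
    interval_cases hn : Nat.card (Sylow 7 G) <;> omega
  have key : ∀ n ∈ Finset.range 101, 3 ≤ n.primeFactors.card →
      n = 30 ∨ n = 42 ∨ n = 60 ∨ n = 66 ∨ n = 70 ∨ n = 78 ∨ n = 84 ∨ n = 90 := by
    decide +kernel
  rcases key _ (Finset.mem_range.2 (by omega)) h3 with he | he | he | he | he | he | he | he
  · exact absurd he (pqr 2 3 5 (by norm_num) (by norm_num) (by norm_num) (by norm_num) (by norm_num))
  · exact absurd he (pqr 2 3 7 (by norm_num) (by norm_num) (by norm_num) (by norm_num) (by norm_num))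
  · exact he
  · exact absurd he (pqr 2 3 11 (by norm_num) (by norm_num) (by norm_num) (by norm_num) (by norm_num))
  · exact absurd he (pqr 2 5 7 (by norm_num) (by norm_num) (by norm_num) (by norm_num) (by norm_num))
  · exact absurd he (pqr 2 3 13 (by norm_num) (by norm_num) (by norm_num) (by norm_num) (by norm_num))
  · exact absurd he h84
  · have := even2 (by omega) ⟨45, by omega⟩
    omega

end Cfsg.Agent.S0493
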