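import Cfsg.Statements.S0498
import Cfsg.Agent.Lib.SmallSimple.RecognizePrime
import Mathlib


set_option autoImplicit false
open Cfsg

namespace Cfsg.Agent.S0498

open Subgroup

set_option maxRecDepth 8000
set_option synthInstance.maxSize 2000
set_option synthInstance.maxHeartbeats 200000

theorem check11 : RecognizePSL.Cover (ZMod 11) 4 2 5 ∧
    RecognizePSL.Check (ZMod 11) 4 2 5 (fun _ => true) := by
  unfold RecognizePSL.Cover RecognizePSL.Check
  decide +kernel

theorem check13 : RecognizePSL.Cover (ZMod 13) 4 2 6 ∧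
    RecognizePSL.Check (ZMod 13) 4 2 6 (fun _ => true) := by
  unfold RecognizePSL.Cover RecognizePSL.Check
  decide +kernel

theorem recog {G : Type*} [Group G] [Finite G] [IsSimpleGroup G] {p : ℕ} [Fact p.Prime] {m : ℕ}
    (hm : p = 2 * m + 1) (hcard : Nat.card G = (p + 1) * (p * m))
    (hkey : ∀ n ∈ Nat.divisors ((p + 1) * (p * m)), n % p = 1 → n = 1 ∨ n = p + 1) (s g : ZMod p)
    (hc : RecognizePSL.Cover (ZMod p) s g m ∧ RecognizePSL.Check (ZMod p) s g m (fun _ => true))
    (hne : ¬ ((p + 1) * (p * m)).Prime)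
    {F : Type*} [Field F] [Fintype F] (hF : Fintype.card F = p) :
    Nonempty (G ≃* Matrix.ProjectiveSpecialLinearGroup (Fin 2) F) := by
  have hp : p.Prime := Fact.out
  have hpd : p ∣ Nat.card G := hcard ▸ (dvd_mul_right p m).mul_left _
  have hnc : ¬ IsMulCommutative G := SmallSimple.not_isMulCommutative (by rwa [hcard])
  obtain ⟨P⟩ : Nonempty (Sylow p G) := inferInstance
  have hdvd : Nat.card (Sylow p G) ∣ (p + 1) * (p * m) := hcard ▸ Dvd.intro _ (SmallSimple.card_sylow_mul P)
  have hmod : Nat.card (Sylow p G) % p = 1 := by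
    have h := card_sylow_modEq_one p G
    rwa [Nat.ModEq, Nat.mod_eq_of_lt hp.one_lt] at h
  have hn : Nat.card (Sylow p G) = p + 1 :=
    (hkey _ (Nat.mem_divisors.2 ⟨hdvd, hcard ▸ Nat.card_pos.ne'⟩) hmod).resolve_left
      (SmallSimple.card_sylow_ne_one hnc hpd)
  exact RecognizePSL.mulEquiv_PSL_prime hnc hn hm hcard s g
    (fun _ => true) hc.1 hc.2 (fun _ _ _ _ _ _ _ _ _ _ _ _ => rfl) hF

/-- A simple group of order 660, respectively 1092, is isomorphic to the projective special linear group of dimension 2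
over the field with 11, respectively 13, elements. -/
theorem result {G : Type*} [Group G] [Finite G] [IsSimpleGroup G] (p : ℕ)
    (hp : p = 11 ∨ p = 13) (h : 2 * Nat.card G = p * (p ^ 2 - 1)) {F : Type*} [Field F] [Fintype F]
    (hF : Fintype.card F = p) : Nonempty (G ≃* Matrix.ProjectiveSpecialLinearGroup (Fin 2) F) := by
  rcases hp with rfl | rfl
  · haveI : Fact (Nat.Prime 11) := ⟨by norm_num⟩
    exact recog (m := 5) rfl (by omega) (by decide +kernel) 4 2 check11 (by norm_num) hF
  · haveI : Fact (Nat.Prime 13) := ⟨by norm_num⟩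
    exact recog (m := 6) rfl (by omega) (by decide +kernel) 4 2 check13 (by norm_num) hF

end Cfsg.Agent.S0498
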