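import Cfsg.Statements.S0499
import Cfsg.Agent.Lib.SmallSimple.Basic
import Cfsg.Agent.Lib.Transfer.Fusion
import Mathlib


set_option autoImplicit false
open Cfsg

namespace Cfsg.Agent.S0499

open Subgroup

theorem no_odd_action {G : Type*} [Group G] [Finite G] (h12 : ¬ 12 ∣ Nat.card G)
    (h16 : ¬ 16 ∣ Nat.card G) (h56 : ¬ 56 ∣ Nat.card G) (D : Subgroup G) (hD : IsPGroup 2 D)
    {g : G} (hg : g ∈ normalizer (D : Set G)) (hc : (orderOf g).Coprime 2) :
    g ∈ centralizer (D : Set G) := by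
  classical
  haveI : Fact (Nat.Prime 2) := ⟨Nat.prime_two⟩
  by_contra hgc
  set f : MulAut D := D.normalizerMonoidHom ⟨g, hg⟩ with hf
  have hf1 : orderOf f ≠ 1 := fun h => hgc (by
    have : (⟨g, hg⟩ : normalizer (D : Set G)) ∈ D.normalizerMonoidHom.ker := orderOf_eq_one_iff.1 h
    rwa [normalizerMonoidHom_ker, mem_subgroupOf] at this)
  obtain ⟨q, hq, hqf⟩ := Nat.exists_prime_and_dvd hf1
  haveI : Fact q.Prime := ⟨hq⟩
  have hfg : orderOf f ∣ orderOf g := by
    have := orderOf_map_dvd D.normalizerMonoidHom (⟨g, hg⟩ : normalizer (D : Set G))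
    rwa [← orderOf_coe ⟨g, hg⟩] at this
  have hqG : q ∣ Nat.card G := hqf.trans (hfg.trans (_root_.orderOf_dvd_natCard g))
  have hq2 : q ≠ 2 := by
    rintro rfl
    exact Nat.not_coprime_of_dvd_of_dvd (by norm_num) (hqf.trans hfg) dvd_rfl hc
  set f' : MulAut D := f ^ (orderOf f / q)
  have hf' : orderOf f' = q := orderOf_pow_orderOf_div (orderOf_pos f).ne' hqf
  have hz : IsPGroup q (zpowers f') := IsPGroup.of_card (n := 1) (by rw [Nat.card_zpowers, hf', pow_one])
  let Fx : Subgroup D := MonoidHom.eqLocus f'.toMonoidHom (MonoidHom.id D)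
  have hfix : MulAction.fixedPoints (zpowers f') D = (Fx : Set D) := by
    ext x
    constructor
    · intro h
      exact h ⟨f', mem_zpowers f'⟩
    · rintro h ⟨y, k, rfl⟩
      show (f' ^ k) • x = x
      have hx : f' ∈ MulAction.stabilizer (MulAut D) x := h
      exact zpow_mem hx k
  have hmod : Nat.card D ≡ Nat.card Fx [MOD q] := by
    have h := hz.card_modEq_card_fixedPoints D
    rw [hfix] at h
    exact h
  obtain ⟨j, hj⟩ := IsPGroup.iff_card.1 hD
  have hjG : 2 ^ j ∣ Nat.card G := hj ▸ card_subgroup_dvd_card _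
  have hj3 : j ≤ 3 := by
    by_contra hc
    exact h16 ((pow_dvd_pow 2 (show 4 ≤ j by omega)).trans hjG)
  obtain ⟨i, hi, hFx⟩ := (Nat.dvd_prime_pow Nat.prime_two).1 (hj ▸ card_subgroup_dvd_card Fx)
  have hij : i < j := by
    refine lt_of_le_of_ne hi fun h => ?_
    subst h
    have htop : Fx = ⊤ := eq_top_of_card_eq Fx (by rw [hFx, hj])
    have h1 : f' = 1 := MulEquiv.ext fun x => (show x ∈ Fx from htop ▸ mem_top x)
    rw [h1, orderOf_one] at hf'
    exact hq.one_lt.ne hf'
  rw [hj, hFx] at hmod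
  have hdvd : q ∣ 2 ^ j - 2 ^ i :=
    (Nat.modEq_iff_dvd' (Nat.pow_le_pow_right (by norm_num) hij.le)).1 hmod.symm
  have two : ∀ {n : ℕ}, q ∣ 2 ^ n → False := fun h =>
    hq2 ((Nat.prime_dvd_prime_iff_eq hq Nat.prime_two).1 (hq.dvd_of_dvd_pow h))
  have h3 : 4 ∣ Nat.card G → q = 3 → False := fun h4 h => by
    subst h
    exact h12 (Nat.Coprime.mul_dvd_of_dvd_of_dvd (by norm_num : Nat.Coprime 4 3) h4 hqG)
  interval_cases j <;> interval_cases i
  · exact hq.one_lt.ne' (Nat.dvd_one.1 hdvd)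
  · exact h3 (by simpa using hjG) ((Nat.prime_dvd_prime_iff_eq hq Nat.prime_three).1 (by simpa using hdvd))
  · exact two (n := 1) (by simpa using hdvd)
  · have : q = 7 := (Nat.prime_dvd_prime_iff_eq hq (by norm_num)).1 (by simpa using hdvd)
    subst this
    exact h56 (Nat.Coprime.mul_dvd_of_dvd_of_dvd (by norm_num : Nat.Coprime 8 7) (by simpa using hjG) hqG)
  · rcases (Nat.Prime.dvd_mul hq).1 (show q ∣ 2 ^ 1 * 3 by simpa using hdvd) with h | h
    · exact two h
    · exact h3 (Nat.dvd_trans (by norm_num) hjG) ((Nat.prime_dvd_prime_iff_eq hq Nat.prime_three).1 h)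
  · exact two (n := 2) (by simpa using hdvd)

/-- A non-abelian finite simple group of even order has order divisible by 12, 16 or 56. -/
theorem result {G : Type*} [Group G] [Finite G] [IsSimpleGroup G]
    (hG : ¬ IsMulCommutative G) (h2 : Even (Nat.card G)) :
    12 ∣ Nat.card G ∨ 16 ∣ Nat.card G ∨ 56 ∣ Nat.card G := by
  haveI : Fact (Nat.Prime 2) := ⟨Nat.prime_two⟩
  by_contra hc
  push_neg at hc
  obtain ⟨P, N, hn, hN⟩ := Transfer.hasNormalPComplement_of_frobenius (p := 2) (G := G)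
    fun D hD g hg hco => no_odd_action hc.1 hc.2.1 hc.2.2 D hD hg hco
  rcases hn.eq_bot_or_eq_top with h | h
  · rw [h] at hN
    exact SmallSimple.sylow_ne_top hG P (isComplement'_bot_left.1 hN)
  · rw [h] at hN
    exact P.ne_bot_of_dvd_card h2.two_dvd (isComplement'_top_left.1 hN)

end Cfsg.Agent.S0499
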