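import Cfsg.Statements.S0502
import Mathlib
import Cfsg.Prelude.Def_CaseTheorems
import Cfsg.Agent.Lib.Invol.NormalFour

set_option autoImplicit false
open Cfsg

namespace Cfsg.Agent.S0502

/-- If a finite 2-group has a normal elementary abelian subgroup of order at least 8, then any two of its Klein
four-subgroups are joined by a chain of Klein four-subgroups with consecutive members commuting elementwise. -/
theorem result {P : Type*} [Group P] [Finite P] (hP : IsPGroup 2 P)
    (E : Subgroup P) [E.Normal] (hE : IsMulCommutative E) (hE2 : ∀ e ∈ E, e ^ 2 = 1) (hE8 : 8 ≤ Nat.card E) :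
    Cfsg.IsFourConnected P := by
  classical
  intro U V hU hV
  have hcomm : ∀ a ∈ E, ∀ b ∈ E, a * b = b * a := fun a ha b hb =>
    congrArg Subtype.val (hE.is_comm.comm ⟨a, ha⟩ ⟨b, hb⟩)
  have mkFour : ∀ z u : P, z * z = 1 → u * u = 1 → z ≠ 1 → u ≠ 1 → u ≠ z → z * u = u * z →
      ∃ W : Subgroup P, IsKleinFour W ∧ z ∈ W ∧ u ∈ W ∧
        ∀ w ∈ W, w = 1 ∨ w = z ∨ w = u ∨ w = z * u := by
    intro z u hz hu hz1 hu1 hne hc
    refine ⟨Invol.NormalFour.fourOf z u hz hu hc, ⟨Invol.NormalFour.fourOf_card hz1 hu1 hne, ?_⟩, Or.inr (Or.inl rfl),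
      Or.inr (Or.inr (Or.inl rfl)), fun w hw => hw⟩
    refine Nat.dvd_antisymm (Monoid.exponent_dvd_of_forall_pow_eq_one fun w => Subtype.ext ?_) ?_
    · have hzu : (z * u) * (z * u) = 1 := by
        rw [mul_assoc, ← mul_assoc u, ← hc, mul_assoc z u u, hu, mul_one, hz]
      rcases w.2 with h | h | h | h <;> simp [h, pow_two, hz, hu, hzu]
    · haveI : Nontrivial (Invol.NormalFour.fourOf z u hz hu hc) :=
        ⟨⟨⟨z, Or.inr (Or.inl rfl)⟩, 1, fun h => hz1 (congrArg Subtype.val h)⟩⟩
      obtain ⟨k, hk⟩ := (hP.to_subgroup (Invol.NormalFour.fourOf z u hz hu hc)).exists_card_eq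
      have h2 : (2 : ℕ) ∣ Nat.card (Invol.NormalFour.fourOf z u hz hu hc) := by
        have h4 := Invol.NormalFour.fourOf_card (hz := hz) (hy := hu) (hc := hc) hz1 hu1 hne
        exact h4.symm ▸ (by norm_num : 2 ∣ 4)
      obtain ⟨q, hq⟩ := exists_prime_orderOf_dvd_card' (G := Invol.NormalFour.fourOf z u hz hu hc) 2 h2
      exact hq ▸ Monoid.order_dvd_exponent q
  -- each four-subgroup is joined to one inside `E`
  have key : ∀ U : Subgroup P, IsKleinFour U → ∃ W : Subgroup P, IsKleinFour W ∧ W ≤ E ∧
      Relation.ReflTransGen (fun A B : Subgroup P => IsKleinFour A ∧ IsKleinFour B ∧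
        ∀ a ∈ A, ∀ b ∈ B, a * b = b * a) U W ∧
      Relation.ReflTransGen (fun A B : Subgroup P => IsKleinFour A ∧ IsKleinFour B ∧
        ∀ a ∈ A, ∀ b ∈ B, a * b = b * a) W U := by
    intro U hU
    haveI := hU
    have hUcomm : ∀ a ∈ U, ∀ b ∈ U, a * b = b * a := fun a ha b hb =>
      congrArg Subtype.val ((IsKleinFour.isMulCommutative (G := U)).is_comm.comm ⟨a, ha⟩ ⟨b, hb⟩)
    have hU2 : ∀ a ∈ U, a * a = 1 := fun a ha => by
      have h := Monoid.pow_exponent_eq_one (⟨a, ha⟩ : U)
      rw [hU.exponent_two, pow_two] at h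
      exact congrArg Subtype.val h
    -- large fixed space of an element
    have fix : ∀ u ∈ U, ∀ A : Subgroup P, A ≤ E → (∀ a ∈ A, u * a * u⁻¹ ∈ A) →
        Nat.card A ≤ (Nat.card (A ⊓ Subgroup.centralizer ({u} : Set P) : Subgroup P)) ^ 2 := by
      intro u hu A hAE hAu
      set C := A ⊓ Subgroup.centralizer ({u} : Set P) with hC
      have hu' : u⁻¹ = u := inv_eq_of_mul_eq_one_right (hU2 u hu)
      let f : A →* P :=
        { toFun := fun a => (a : P)⁻¹ * (u * a * u⁻¹)
          map_one' := by simp
          map_mul' := fun a b => by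
            have h := hcomm _ (hAE (hAu a a.2)) _ (E.inv_mem (hAE b.2))
            show ((a : P) * b)⁻¹ * (u * ((a : P) * b) * u⁻¹) =
              (a : P)⁻¹ * (u * a * u⁻¹) * ((b : P)⁻¹ * (u * b * u⁻¹))
            calc ((a : P) * b)⁻¹ * (u * ((a : P) * b) * u⁻¹)
                = (b : P)⁻¹ * (a : P)⁻¹ * (u * a * u⁻¹) * (u * b * u⁻¹) := by group
              _ = (a : P)⁻¹ * ((b : P)⁻¹ * (u * a * u⁻¹)) * (u * b * u⁻¹) := by
                  rw [hcomm _ (E.inv_mem (hAE b.2)) _ (E.inv_mem (hAE a.2))]; group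
              _ = _ := by rw [← h]; group }
      have hker : f.ker.map A.subtype = C := by
        ext a
        simp only [hC, Subgroup.mem_map, MonoidHom.mem_ker, Subgroup.mem_inf,
          Subgroup.mem_centralizer_singleton_iff]
        constructor
        · rintro ⟨b, hb, rfl⟩
          refine ⟨b.2, ?_⟩
          have hb' : (b : P) = u * b * u⁻¹ := inv_mul_eq_one.mp hb
          show (b : P) * u = u * b
          calc (b : P) * u = u * b * u⁻¹ * u := by rw [← hb']
            _ = u * b := by group
        · rintro ⟨ha, hc⟩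
          refine ⟨⟨a, ha⟩, ?_, rfl⟩
          show a⁻¹ * (u * a * u⁻¹) = 1
          rw [← hc]; group
      have hrange : f.range ≤ C := by
        rintro _ ⟨a, rfl⟩
        refine ⟨A.mul_mem (A.inv_mem a.2) (hAu a a.2), Subgroup.mem_centralizer_singleton_iff.mpr ?_⟩
        show (a : P)⁻¹ * (u * a * u⁻¹) * u = u * ((a : P)⁻¹ * (u * a * u⁻¹))
        rw [hu']
        have h2 : ((a : P))⁻¹ = a := inv_eq_of_mul_eq_one_right (by
          have := hE2 a (hAE a.2); rwa [pow_two] at this)
        rw [h2]
        have h := hcomm _ (hAE a.2) _ (hAE (hAu a a.2))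
        rw [hu'] at h
        calc (a : P) * (u * a * u) * u = (u * a * u) * a * u := by rw [h]
          _ = u * (a * (u * a * u)) := by group
      have h1 : Nat.card f.ker = Nat.card C := by
        rw [← hker, Subgroup.card_map_of_injective A.subtype_injective]
      have h3 := Subgroup.card_le_of_le hrange
      rw [← Subgroup.index_mul_card f.ker, Subgroup.index_ker, h1, pow_two]
      exact Nat.mul_le_mul_right _ h3
    obtain ⟨u, hu, hu1⟩ : ∃ u ∈ U, u ≠ 1 := by
      by_contra h
      push Not at h
      have := hU.card_four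
      rw [(Subgroup.eq_bot_iff_forall U).mpr h] at this
      simp at this
    obtain ⟨v, hv, hv1, hvu⟩ : ∃ v ∈ U, v ≠ 1 ∧ v ≠ u := by
      by_contra h
      push Not at h
      have hle : Nat.card U ≤ 2 := by
        let F : U → Bool := fun x => decide ((x : P) = 1)
        have hF : Function.Injective F := by
          intro x y hxy
          simp only [F, decide_eq_decide] at hxy
          refine Subtype.ext ?_
          by_cases hx : (x : P) = 1
          · rw [hx, hxy.mp hx]
          · rw [h x x.2 hx, h y y.2 (fun hy => hx (hxy.mpr hy))]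
        have := Nat.card_le_card_of_injective F hF
        simpa using this
      rw [hU.card_four] at hle
      omega
    set C₁ := E ⊓ Subgroup.centralizer ({u} : Set P) with hC₁
    have hfix1 := fix u hu E le_rfl fun a ha => (inferInstance : E.Normal).conj_mem a ha u
    have hfix2 := fix v hv C₁ inf_le_left fun a ha => ⟨(inferInstance : E.Normal).conj_mem a ha.1 v, by
      refine Subgroup.mem_centralizer_singleton_iff.mpr ?_
      have h1 := Subgroup.mem_centralizer_singleton_iff.mp ha.2
      have h2 := hUcomm u hu v hv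
      have hvv : v⁻¹ = v := inv_eq_of_mul_eq_one_right (hU2 v hv)
      rw [hvv]
      calc v * a * v * u = v * (a * u) * v := by rw [mul_assoc _ v u, ← h2]; group
        _ = v * u * a * v := by rw [h1]; group
        _ = u * (v * a * v) := by rw [← h2]; group⟩
    rw [← hC₁] at hfix1
    have hC1 : 3 ≤ Nat.card C₁ := by
      by_contra h
      have : Nat.card C₁ ^ 2 ≤ 2 ^ 2 := Nat.pow_le_pow_left (by omega) 2
      omega
    obtain ⟨z, hz, hz1⟩ : ∃ z ∈ C₁ ⊓ Subgroup.centralizer ({v} : Set P), z ≠ 1 := by
      by_contra h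
      push Not at h
      rw [(Subgroup.eq_bot_iff_forall _).mpr h] at hfix2
      simp at hfix2
      omega
    have hz2 : z * z = 1 := by have := hE2 z hz.1.1; rwa [pow_two] at this
    have hzu : z * u = u * z := Subgroup.mem_centralizer_singleton_iff.mp hz.1.2
    have hzv : z * v = v * z := Subgroup.mem_centralizer_singleton_iff.mp hz.2
    have hzU : ∀ a ∈ U, z * a = a * z := by
      obtain ⟨U', hU', hu'', hv', hall⟩ := mkFour u v (hU2 u hu) (hU2 v hv) hu1 hv1 hvu (hUcomm u hu v hv)
      have hle : U' ≤ U := fun a ha => by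
        rcases hall a ha with rfl | rfl | rfl | rfl
        exacts [one_mem _, hu, hv, mul_mem hu hv]
      have heq : U' = U := Subgroup.eq_of_le_of_card_ge hle (by rw [hU'.card_four, hU.card_four])
      intro a ha
      rw [← heq] at ha
      rcases hall a ha with rfl | rfl | rfl | rfl
      · simp
      · exact hzu
      · exact hzv
      · rw [← mul_assoc, hzu, mul_assoc, hzv, ← mul_assoc]
    obtain ⟨w, hw, hw1, hwz⟩ : ∃ w ∈ U, w ≠ 1 ∧ w ≠ z := by
      by_cases h : u = z
      · exact ⟨v, hv, hv1, h ▸ hvu⟩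
      · exact ⟨u, hu, hu1, h⟩
    obtain ⟨W₀, hW₀, hzW₀, hwW₀, hall₀⟩ := mkFour z w hz2 (hU2 w hw) hz1 hw1 hwz (hzU w hw)
    -- `C_E(w)` has order at least four
    have hfix3 := fix w hw E le_rfl fun a ha => (inferInstance : E.Normal).conj_mem a ha w
    obtain ⟨e, he, he1, hez⟩ : ∃ e ∈ E ⊓ Subgroup.centralizer ({w} : Set P), e ≠ 1 ∧ e ≠ z := by
      by_contra h
      push Not at h
      have hle : Nat.card (E ⊓ Subgroup.centralizer ({w} : Set P) : Subgroup P) ≤ 2 := by
        let F : (E ⊓ Subgroup.centralizer ({w} : Set P) : Subgroup P) → Bool := fun x => decide ((x : P) = 1)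
        have hF : Function.Injective F := by
          intro x y hxy
          simp only [F, decide_eq_decide] at hxy
          refine Subtype.ext ?_
          by_cases hx : (x : P) = 1
          · rw [hx, hxy.mp hx]
          · rw [h x x.2 hx, h y y.2 (fun hy => hx (hxy.mpr hy))]
        simpa using Nat.card_le_card_of_injective F hF
      have : Nat.card (E ⊓ Subgroup.centralizer ({w} : Set P) : Subgroup P) ^ 2 ≤ 2 ^ 2 :=
        Nat.pow_le_pow_left hle 2
      omega
    have he2 : e * e = 1 := by have := hE2 e he.1; rwa [pow_two] at this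
    obtain ⟨W, hW, -, -, hallW⟩ := mkFour z e hz2 he2 hz1 he1 hez (hcomm z hz.1.1 e he.1)
    have hWE : W ≤ E := fun a ha => by
      rcases hallW a ha with rfl | rfl | rfl | rfl
      exacts [one_mem _, hz.1.1, he.1, mul_mem hz.1.1 he.1]
    have hzc : z ∈ Subgroup.centralizer (U : Set P) :=
      Subgroup.mem_centralizer_iff.mpr fun a ha => (hzU a ha).symm
    have h01 : ∀ a ∈ U, ∀ b ∈ W₀, a * b = b * a := fun a ha b hb => by
      rcases hall₀ b hb with rfl | rfl | rfl | rfl
      · simp
      · exact (hzU a ha).symm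
      · exact hUcomm a ha _ hw
      · exact (Commute.mul_right (show Commute a z from (hzU a ha).symm)
          (show Commute a w from hUcomm a ha w hw)).eq
    have hew : e * w = w * e := Subgroup.mem_centralizer_singleton_iff.mp he.2
    have h12 : ∀ a ∈ W₀, ∀ b ∈ W, a * b = b * a := fun a ha b hb => by
      have h1 : Commute w b := by
        rcases hallW b hb with rfl | rfl | rfl | rfl
        · exact Commute.one_right w
        · exact (hzU w hw).symm
        · exact hew.symm
        · exact Commute.mul_right (hzU w hw).symm hew.symm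
      have h2 : Commute z b := hcomm z hz.1.1 b (hWE hb)
      rcases hall₀ a ha with rfl | rfl | rfl | rfl
      · simp
      · exact h2.eq
      · exact h1.eq
      · exact (h2.mul_left h1).eq
    exact ⟨W, hW, hWE,
      (Relation.ReflTransGen.single ⟨hU, hW₀, h01⟩).tail ⟨hW₀, hW, h12⟩,
      (Relation.ReflTransGen.single ⟨hW, hW₀, fun a ha b hb => (h12 b hb a ha).symm⟩).tail
        ⟨hW₀, hU, fun a ha b hb => (h01 b hb a ha).symm⟩⟩
  obtain ⟨W, hW, hWE, h1, -⟩ := key U hU
  obtain ⟨W', hW', hWE', -, h2⟩ := key V hV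
  exact h1.trans ((Relation.ReflTransGen.single
    ⟨hW, hW', fun a ha b hb => hcomm a (hWE ha) b (hWE' hb)⟩).trans h2)

end Cfsg.Agent.S0502
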