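import Cfsg.Statements.S0520
import Mathlib
import Cfsg.Prelude.Def_CaseTheorems
import Cfsg.Agent.Lib.Invol.NormalFour

set_option autoImplicit false
open Cfsg

namespace Cfsg.Agent.S0520

/-- `Q` contains a Klein four-subgroup -/
def HasFour {G : Type*} [Group G] (Q : Subgroup G) : Prop :=
  ∃ W : Subgroup G, IsKleinFour W ∧ W ≤ Q

theorem isKleinFour_of {H : Type*} [Group H] [Finite H] {W : Subgroup H}
    (h4 : Nat.card W = 4) (h2 : ∀ w ∈ W, w * w = 1) : IsKleinFour W := by
  haveI : Fact (Nat.Prime 2) := ⟨Nat.prime_two⟩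
  refine ⟨h4, Nat.dvd_antisymm (Monoid.exponent_dvd_of_forall_pow_eq_one fun w => Subtype.ext ?_) ?_⟩
  · simp [pow_two, h2 _ w.2]
  · obtain ⟨q, hq⟩ := exists_prime_orderOf_dvd_card' (G := W) 2 (h4.symm ▸ (by norm_num : 2 ∣ 4))
    exact hq ▸ Monoid.order_dvd_exponent q

theorem sq_of_kleinFour {H : Type*} [Group H] {W : Subgroup H} (hW : IsKleinFour W) {w : H}
    (hw : w ∈ W) : w * w = 1 := by
  have h := Monoid.pow_exponent_eq_one (⟨w, hw⟩ : W)
  rw [hW.exponent_two, pow_two] at h
  exact congrArg Subtype.val h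

theorem comm_of_kleinFour {H : Type*} [Group H] {W : Subgroup H} (hW : IsKleinFour W) {a b : H}
    (ha : a ∈ W) (hb : b ∈ W) : a * b = b * a :=
  congrArg Subtype.val ((IsKleinFour.isMulCommutative (G := W)).is_comm.comm ⟨a, ha⟩ ⟨b, hb⟩)

theorem kleinFour_map {H K : Type*} [Group H] [Group K] [Finite K] {W : Subgroup H}
    (f : H →* K) (hf : Function.Injective f) (hW : IsKleinFour W) : IsKleinFour (W.map f) := by
  refine isKleinFour_of ((Subgroup.card_map_of_injective hf).trans hW.card_four) ?_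
  rintro _ ⟨w, hw, rfl⟩
  rw [← map_mul, sq_of_kleinFour hW hw, map_one]

theorem not_pRankLE_iff {G : Type*} [Group G] [Finite G] (Q : Subgroup G) :
    ¬ Cfsg.PRankLE 2 1 Q ↔ HasFour Q := by
  constructor
  · intro h
    simp only [Cfsg.PRankLE, not_forall, not_le] at h
    obtain ⟨A, hA, hA2, hc⟩ := h
    obtain ⟨a, ha, ha1⟩ : ∃ a ∈ A, a ≠ 1 := by
      by_contra h
      push Not at h
      rw [(Subgroup.eq_bot_iff_forall A).mpr h] at hc
      simp at hc
    obtain ⟨b, hb, hb1, hba⟩ : ∃ b ∈ A, b ≠ 1 ∧ b ≠ a := by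
      by_contra h
      push Not at h
      have : (A : Set Q) ⊆ {1, a} := fun x hx => by
        by_cases hx1 : x = 1
        · exact Or.inl hx1
        · exact Or.inr (h x hx hx1)
      have h2 := Set.ncard_le_ncard this (Set.toFinite _)
      rw [← Nat.card_coe_set_eq] at h2
      have h3 : ({1, a} : Set Q).ncard ≤ 2 := (Set.ncard_insert_le _ _).trans (by simp)
      simp only [SetLike.coe_sort_coe] at h2
      omega
    have h2 : ∀ x ∈ A, x * x = 1 := fun x hx => by rw [← pow_two]; exact hA2 x hx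
    have hab : a * b = b * a := congrArg Subtype.val (hA.is_comm.comm ⟨a, ha⟩ ⟨b, hb⟩)
    let W := Invol.NormalFour.fourOf a b (h2 a ha) (h2 b hb) hab
    have hWA : W ≤ A := fun x hx => by
      rcases hx with rfl | rfl | rfl | rfl
      exacts [one_mem _, ha, hb, mul_mem ha hb]
    have hW : IsKleinFour W :=
      isKleinFour_of (Invol.NormalFour.fourOf_card ha1 hb1 hba) fun x hx => h2 x (hWA hx)
    exact ⟨W.map Q.subtype, kleinFour_map _ Q.subtype_injective hW, Subgroup.map_subtype_le W⟩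
  · rintro ⟨W, hW, hWQ⟩ h
    haveI := hW
    have hc := h (W.subgroupOf Q)
      ⟨⟨fun x y => Subtype.ext (Subtype.ext (comm_of_kleinFour hW x.2 y.2))⟩⟩
      (fun x hx => by rw [pow_two]; exact Subtype.ext (sq_of_kleinFour hW hx))
    rw [Nat.card_congr (Subgroup.subgroupOfEquivOfLe hWQ).toEquiv, hW.card_four] at hc
    norm_num at hc

variable {G : Type*} [Group G] [Finite G]

/-- conjugate subgroup -/
abbrev cj (g : G) (W : Subgroup G) : Subgroup G := W.map (MulAut.conj g).toMonoidHom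

theorem cj_mul (a b : G) (W : Subgroup G) : cj (a * b) W = cj a (cj b W) := by
  rw [cj, cj, cj, Subgroup.map_map]
  congr 1
  ext x
  simp [mul_assoc]

theorem cj_one (W : Subgroup G) : cj 1 W = W := by
  rw [cj, show ((MulAut.conj (1 : G)).toMonoidHom) = MonoidHom.id G by ext x; simp, Subgroup.map_id]

theorem cj_inv_cj (a : G) (W : Subgroup G) : cj a⁻¹ (cj a W) = W := by
  rw [← cj_mul, inv_mul_cancel, cj_one]

theorem cj_cj_inv (a : G) (W : Subgroup G) : cj a (cj a⁻¹ W) = W := by
  rw [← cj_mul, mul_inv_cancel, cj_one]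

theorem cj_card (a : G) (W : Subgroup G) : Nat.card (cj a W) = Nat.card W :=
  Subgroup.card_map_of_injective (MulAut.conj a).injective

theorem cj_mono (a : G) {V W : Subgroup G} (h : V ≤ W) : cj a V ≤ cj a W := Subgroup.map_mono h

theorem kleinFour_cj (a : G) {W : Subgroup G} (hW : IsKleinFour W) : IsKleinFour (cj a W) :=
  kleinFour_map _ (MulAut.conj a).injective hW

theorem cj_eq_of_normalizer {n : G} {A : Subgroup G} (hn : n ∈ Subgroup.normalizer (A : Set G)) :
    cj n A = A := by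
  ext x
  constructor
  · rintro ⟨y, hy, rfl⟩
    exact (Subgroup.mem_normalizer_iff.1 hn y).1 hy
  · intro hx
    refine ⟨n⁻¹ * x * n, (Subgroup.mem_normalizer_iff.1 hn _).2 (by
      rwa [show n * (n⁻¹ * x * n) * n⁻¹ = x by group]), ?_⟩
    simp [mul_assoc]

theorem normalizer_cj_le (a : G) (A : Subgroup G) :
    cj a (Subgroup.normalizer (A : Set G)) ≤ Subgroup.normalizer ((cj a A : Subgroup G) : Set G) :=
  Subgroup.le_normalizer_map _

theorem hasFour_cj (a : G) {A : Subgroup G} (h : HasFour A) : HasFour (cj a A) := by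
  obtain ⟨W, hW, hle⟩ := h
  exact ⟨_, kleinFour_cj a hW, cj_mono a hle⟩

theorem hasFour_mono {A B : Subgroup G} (hle : A ≤ B) (h : HasFour A) : HasFour B := by
  obtain ⟨W, hW, h'⟩ := h
  exact ⟨W, hW, h'.trans hle⟩

theorem exists_cj_le (S : Sylow 2 G) {T : Subgroup G} (hT : IsPGroup 2 T) :
    ∃ g : G, cj g T ≤ (S : Subgroup G) := by
  haveI : Fact (Nat.Prime 2) := ⟨Nat.prime_two⟩
  obtain ⟨R, hR⟩ := hT.exists_le_sylow
  obtain ⟨g, hg⟩ := MulAction.exists_smul_eq G R S
  refine ⟨g, ?_⟩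
  rw [← hg]
  exact cj_mono g hR

/-- a `2`-subgroup `P` of `N(A)` which is maximal and contains `N_S(A)` -/
theorem exists_max (S : Sylow 2 G) {A : Subgroup G} (hA : A ≤ (S : Subgroup G))
    (hne : A ≠ (S : Subgroup G)) :
    ∃ P : Subgroup G, IsPGroup 2 P ∧ P ≤ Subgroup.normalizer (A : Set G) ∧ A < P ∧
      ∃ P₁ : Subgroup G, P₁ ≤ (S : Subgroup G) ∧ P₁ ≤ P ∧ A < P₁ ∧
        ∀ P' : Subgroup G, IsPGroup 2 P' → P' ≤ Subgroup.normalizer (A : Set G) →
          ∃ n ∈ Subgroup.normalizer (A : Set G), cj n P' ≤ P := by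
  haveI : Fact (Nat.Prime 2) := ⟨Nat.prime_two⟩
  set N := Subgroup.normalizer (A : Set G) with hN
  set P₁ := N ⊓ (S : Subgroup G) with hP₁
  have hlt : A < P₁ := by
    refine lt_of_le_of_ne (le_inf Subgroup.le_normalizer hA) ?_
    intro heq
    have hlt' : A.subgroupOf (S : Subgroup G) < ⊤ :=
      lt_top_iff_ne_top.2 fun h => hne (le_antisymm hA (Subgroup.subgroupOf_eq_top.1 h))
    haveI : Group.IsNilpotent (S : Subgroup G) := S.isPGroup'.isNilpotent
    obtain ⟨m, hm, hm'⟩ :=
      SetLike.exists_of_lt (Group.normalizerCondition_of_isNilpotent _ hlt')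
    apply hm'
    show (m : G) ∈ A
    rw [heq]
    refine ⟨?_, m.2⟩
    show (m : G) ∈ N
    rw [hN, Subgroup.mem_normalizer_iff]
    intro h
    constructor
    · intro hh
      exact (Subgroup.mem_normalizer_iff.1 hm ⟨h, hA hh⟩).1 hh
    · intro hh
      have hS' : h ∈ (S : Subgroup G) := by
        have := mul_mem (mul_mem (inv_mem m.2) (hA hh)) m.2
        simpa [mul_assoc] using this
      exact (Subgroup.mem_normalizer_iff.1 hm ⟨h, hS'⟩).2 hh
  have hP₁p : IsPGroup 2 (P₁.subgroupOf N) :=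
    (S.isPGroup'.to_le inf_le_right).comap_of_injective N.subtype N.subtype_injective
  obtain ⟨R, hR⟩ := hP₁p.exists_le_sylow
  have hle : P₁ ≤ (R : Subgroup N).map N.subtype := fun x hx =>
    ⟨⟨x, hx.1⟩, hR hx, rfl⟩
  refine ⟨(R : Subgroup N).map N.subtype, R.isPGroup'.map _, Subgroup.map_subtype_le _,
    lt_of_lt_of_le hlt hle, P₁, inf_le_right, hle, hlt, ?_⟩
  intro P' hP' hP'N
  obtain ⟨R', hR'⟩ := (hP'.comap_of_injective N.subtype N.subtype_injective).exists_le_sylow
  obtain ⟨n, hn⟩ := MulAction.exists_smul_eq N R' R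
  refine ⟨n, n.2, ?_⟩
  rintro _ ⟨x, hx, rfl⟩
  refine ⟨n * ⟨x, hP'N hx⟩ * n⁻¹, ?_, rfl⟩
  rw [← hn]
  exact ⟨⟨x, hP'N hx⟩, hR' hx, rfl⟩

/-- fusion of subgroups with a four-group is controlled by `M` -/
theorem fusion (S : Sylow 2 G) (M : Subgroup G)
    (hM : ∀ Q : Subgroup G, Q ≤ (S : Subgroup G) → HasFour Q →
      Subgroup.normalizer (Q : Set G) ≤ M) :
    ∀ (k : ℕ) (A : Subgroup G) (g : G), Nat.card (S : Subgroup G) - Nat.card A ≤ k →
      A ≤ (S : Subgroup G) → HasFour A → cj g A ≤ (S : Subgroup G) → g ∈ M := by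
  intro k
  induction k using Nat.strong_induction_on with
  | _ k ih =>
  intro A g hk hA hF hgA
  by_cases hne : A = (S : Subgroup G)
  · have heq : cj g (S : Subgroup G) = (S : Subgroup G) := by
      refine Subgroup.eq_of_le_of_card_ge ?_ (le_of_eq (cj_card g _).symm)
      rwa [hne] at hgA
    refine hM _ le_rfl (hne ▸ hF) (Subgroup.mem_normalizer_iff.2 fun h => ⟨fun hh => ?_, fun hh => ?_⟩)
    · rw [← heq]; exact ⟨h, hh, rfl⟩
    · obtain ⟨y, hy, hy'⟩ := heq.symm ▸ hh
      have : y = h := by simpa using hy'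
      exact this ▸ hy
  -- the step: a strictly bigger subgroup below `S` moved into `S`
  have step : ∀ (X : Subgroup G) (x : G), A < X ∨ Nat.card A < Nat.card X →
      X ≤ (S : Subgroup G) → HasFour X → cj x X ≤ (S : Subgroup G) → x ∈ M := by
    intro X x hlt hX hFX hxX
    have hc : Nat.card A < Nat.card X := by
      rcases hlt with h | h
      · by_contra hh
        exact h.ne (Subgroup.eq_of_le_of_card_ge h.le (not_lt.1 hh))
      · exact h
    have h2 : Nat.card X ≤ Nat.card (S : Subgroup G) := Subgroup.card_le_of_le hX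
    exact ih _ (by omega) X x le_rfl hX hFX hxX
  have hneB : cj g A ≠ (S : Subgroup G) := fun h => hne
    (Subgroup.eq_of_le_of_card_ge hA (le_of_eq (by rw [← h, cj_card])))
  obtain ⟨P, hP, hPN, hAP, P₁, hP₁S, hP₁P, hAP₁, -⟩ := exists_max S hA hne
  obtain ⟨P', hP', hP'N, -, P₁', hP₁'S, hP₁'P', hBP₁', hmax⟩ := exists_max S hgA hneB
  obtain ⟨h, hh⟩ := exists_cj_le S hP
  have hhM : h ∈ M := step P₁ h (Or.inl hAP₁) hP₁S (hasFour_mono hAP₁.le hF)
    ((cj_mono h hP₁P).trans hh)
  obtain ⟨k', hk'⟩ := exists_cj_le S hP'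
  have hcB : Nat.card A < Nat.card P₁' := by
    rw [← cj_card g A]
    by_contra hh'
    exact hBP₁'.ne (Subgroup.eq_of_le_of_card_ge hBP₁'.le (not_lt.1 hh'))
  have hkM : k' ∈ M := step P₁' k' (Or.inr hcB) hP₁'S
    (hasFour_mono hBP₁'.le (hasFour_cj g hF)) ((cj_mono k' hP₁'P').trans hk')
  obtain ⟨n, hn, hnP⟩ := hmax (cj g P) (hP.map _) ((cj_mono g hPN).trans (normalizer_cj_le g A))
  have hnM : n ∈ M := hM _ hgA (hasFour_cj g hF) hn
  have hcP : Nat.card A < Nat.card (cj h P) := by
    rw [cj_card]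
    by_contra hh'
    exact hAP.ne (Subgroup.eq_of_le_of_card_ge hAP.le (not_lt.1 hh'))
  have hxM : k' * n * g * h⁻¹ ∈ M := step (cj h P) (k' * n * g * h⁻¹) (Or.inr hcP) hh
    (hasFour_cj h (hasFour_mono hAP.le hF)) (by
      rw [cj_mul, cj_inv_cj, cj_mul, cj_mul]
      exact (cj_mono k' hnP).trans hk')
  have : n⁻¹ * k'⁻¹ * (k' * n * g * h⁻¹) * h ∈ M :=
    mul_mem (mul_mem (mul_mem (inv_mem hnM) (inv_mem hkM)) hxM) hhM
  simpa [mul_assoc] using this


/-- Let G be a finite group of 2-rank at least 2 and S a Sylow 2-subgroup whose commuting graph of Klein four-subgroups is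
connected. Then the commuting graph of Klein four-subgroups of G is disconnected if and only if the 2-generated core — the
subgroup generated by the normalizers N_G(Q) of the subgroups Q of S that contain a Klein four-group — is a proper
subgroup of G. -/
theorem result {G : Type*} [Group G] [Finite G] (h2 : ¬ Cfsg.PRankLE 2 1 G)
    (S : Sylow 2 G) (hS : Cfsg.IsFourConnected (S : Subgroup G)) :
    ¬ Cfsg.IsFourConnected G ↔
      (⨆ Q : {Q : Subgroup G // Q ≤ (S : Subgroup G) ∧ ¬ Cfsg.PRankLE 2 1 Q},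
          Subgroup.normalizer ((Q : Subgroup G) : Set G)) ≠ ⊤ := by
  haveI : Fact (Nat.Prime 2) := ⟨Nat.prime_two⟩
  set M : Subgroup G := ⨆ Q : {Q : Subgroup G // Q ≤ (S : Subgroup G) ∧ ¬ Cfsg.PRankLE 2 1 Q},
      Subgroup.normalizer ((Q : Subgroup G) : Set G) with hMdef
  have hMQ : ∀ Q : Subgroup G, Q ≤ (S : Subgroup G) → HasFour Q →
      Subgroup.normalizer (Q : Set G) ≤ M := fun Q hQ hF =>
    le_iSup_of_le (⟨Q, hQ, (not_pRankLE_iff Q).2 hF⟩ :
      {Q : Subgroup G // Q ≤ (S : Subgroup G) ∧ ¬ Cfsg.PRankLE 2 1 Q}) le_rfl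
  -- a four-group is a 2-group
  have four2 : ∀ W : Subgroup G, IsKleinFour W → IsPGroup 2 W := fun W hW =>
    IsPGroup.of_card (n := 2) (by rw [hW.card_four]; norm_num)
  -- G has a four-group
  obtain ⟨U₀, hU₀, hU₀S⟩ : HasFour (S : Subgroup G) := by
    have h2' : ¬ Cfsg.PRankLE 2 1 (⊤ : Subgroup G) := by
      intro h
      apply h2
      intro A hA hA2
      have := h (A.comap (⊤ : Subgroup G).subtype)
        ⟨⟨fun x y => Subtype.ext (Subtype.ext (by
          have h := congrArg Subtype.val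
            (hA.is_comm.comm (⟨((x : (⊤ : Subgroup G)) : G), x.2⟩ : A) ⟨((y : (⊤ : Subgroup G)) : G), y.2⟩)
          exact h))⟩⟩
        (fun x hx => Subtype.ext (hA2 _ hx))
      rwa [show A.comap (⊤ : Subgroup G).subtype = A.subgroupOf ⊤ from rfl,
        Nat.card_congr (Subgroup.subgroupOfEquivOfLe (le_top : A ≤ ⊤)).toEquiv] at this
    obtain ⟨W, hW, -⟩ := (not_pRankLE_iff _).1 h2'
    obtain ⟨g, hg⟩ := exists_cj_le S (four2 W hW)
    exact ⟨_, kleinFour_cj g hW, hg⟩
  let R : Subgroup G → Subgroup G → Prop := fun A B =>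
    IsKleinFour A ∧ IsKleinFour B ∧ ∀ a ∈ A, ∀ b ∈ B, a * b = b * a
  have hsymm : ∀ A B, R A B → R B A := fun A B h =>
    ⟨h.2.1, h.1, fun b hb a ha => (h.2.2 a ha b hb).symm⟩
  have hrsymm : ∀ A B, Relation.ReflTransGen R A B → Relation.ReflTransGen R B A := by
    intro A B h
    induction h with
    | refl => exact .refl
    | tail _ h2 ih => exact Relation.ReflTransGen.head (hsymm _ _ h2) ih
  constructor
  · intro hdis hM
    apply hdis
    -- all four-groups of `S` are connected in `G`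
    have inS : ∀ U V : Subgroup G, IsKleinFour U → IsKleinFour V → U ≤ (S : Subgroup G) →
        V ≤ (S : Subgroup G) → Relation.ReflTransGen R U V := by
      intro U V hU hV hUS hVS
      have hsub : ∀ W : Subgroup G, IsKleinFour W → W ≤ (S : Subgroup G) →
          IsKleinFour (W.subgroupOf (S : Subgroup G)) := fun W hW hWS =>
        isKleinFour_of ((Nat.card_congr (Subgroup.subgroupOfEquivOfLe hWS).toEquiv).trans
          hW.card_four) fun w hw => Subtype.ext (sq_of_kleinFour hW hw)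
      have := hS _ _ (hsub U hU hUS) (hsub V hV hVS)
      have h' : Relation.ReflTransGen R ((U.subgroupOf (S : Subgroup G)).map (S : Subgroup G).subtype)
          ((V.subgroupOf (S : Subgroup G)).map (S : Subgroup G).subtype) := this.lift (p := R) (fun W => W.map (S : Subgroup G).subtype) (fun A B h =>
        ⟨kleinFour_map _ (S : Subgroup G).subtype_injective h.1,
          kleinFour_map _ (S : Subgroup G).subtype_injective h.2.1, by
            rintro _ ⟨a, ha, rfl⟩ _ ⟨b, hb, rfl⟩
            exact congrArg Subtype.val (h.2.2 a ha b hb)⟩)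
      rwa [Subgroup.subgroupOf_map_subtype, Subgroup.subgroupOf_map_subtype,
        inf_of_le_left hUS, inf_of_le_left hVS] at h'
    have hconjR : ∀ (g : G) (A B : Subgroup G), Relation.ReflTransGen R A B →
        Relation.ReflTransGen R (cj g A) (cj g B) := fun g A B h =>
      h.lift (cj g) fun A B h => ⟨kleinFour_cj g h.1, kleinFour_cj g h.2.1, by
        rintro _ ⟨a, ha, rfl⟩ _ ⟨b, hb, rfl⟩
        rw [← map_mul, ← map_mul, h.2.2 a ha b hb]⟩
    let K : Subgroup G :=
      { carrier := {g | Relation.ReflTransGen R U₀ (cj g U₀)}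
        one_mem' := by show Relation.ReflTransGen R U₀ (cj 1 U₀); rw [cj_one]
        mul_mem' := fun {a b} ha hb => by
          show Relation.ReflTransGen R U₀ (cj (a * b) U₀)
          rw [cj_mul]
          exact Relation.ReflTransGen.trans ha (hconjR a _ _ hb)
        inv_mem' := fun {a} ha => by
          have h := hrsymm _ _ (hconjR a⁻¹ _ _ ha)
          rw [cj_inv_cj] at h
          exact h }
    have hle : M ≤ K := by
      refine iSup_le fun Q g hg => ?_
      show Relation.ReflTransGen R U₀ (cj g U₀)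
      obtain ⟨W, hW, hWQ⟩ := (not_pRankLE_iff Q.1).1 Q.2.2
      have hW' : cj g W ≤ Q.1 := (cj_mono g hWQ).trans (le_of_eq (cj_eq_of_normalizer hg))
      exact ((inS U₀ _ hU₀ (kleinFour_cj g hW) hU₀S (hW'.trans Q.2.1))).trans
        (hconjR g _ _ (inS W U₀ hW hU₀ (hWQ.trans Q.2.1) hU₀S))
    intro U V hU hV
    have hall : ∀ U : Subgroup G, IsKleinFour U → Relation.ReflTransGen R U₀ U := by
      intro U hU
      obtain ⟨g, hg⟩ := exists_cj_le S (four2 U hU)
      have hgK : g⁻¹ ∈ K := hle (hM ▸ Subgroup.mem_top _)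
      have h1 := hconjR g⁻¹ _ _ (inS U₀ _ hU₀ (kleinFour_cj g hU) hU₀S hg)
      rw [cj_inv_cj] at h1
      exact Relation.ReflTransGen.trans hgK h1
    exact (hrsymm _ _ (hall U hU)).trans (hall V hV)
  · intro hM hconn
    apply hM
    rw [eq_top_iff]
    intro x _
    have hfus : ∀ (A : Subgroup G) (g : G), A ≤ (S : Subgroup G) → HasFour A →
        cj g A ≤ (S : Subgroup G) → g ∈ M := fun A g => fusion S M hMQ _ A g le_rfl
    have hchain : ∀ W : Subgroup G, Relation.ReflTransGen R U₀ W →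
        ∀ g : G, cj g W ≤ (S : Subgroup G) → g ∈ M := by
      intro W h
      induction h with
      | refl => exact fun g hg => hfus U₀ g hU₀S ⟨U₀, hU₀, le_rfl⟩ hg
      | @tail A B _ hAB ih =>
        intro g hg
        -- `A` and `B` lie in a common 2-subgroup
        have hnorm : B ≤ Subgroup.normalizer (A : Set G) := by
          intro b hb
          rw [Subgroup.mem_normalizer_iff]
          intro a
          constructor
          · intro ha
            rw [← hAB.2.2 a ha b hb, mul_inv_cancel_right]; exact ha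
          · intro ha
            have := hAB.2.2 _ ha b hb
            have h' : a = b * a * b⁻¹ := by
              calc a = b⁻¹ * (b * a * b⁻¹ * b) := by group
                _ = b⁻¹ * (b * (b * a * b⁻¹)) := by rw [this]
                _ = b * a * b⁻¹ := by group
            rw [h']; exact ha
        have hT : IsPGroup 2 (A ⊔ B : Subgroup G) :=
          IsPGroup.to_sup_of_normal_left' (four2 A hAB.1) (four2 B hAB.2.1) hnorm
        obtain ⟨g', hg'⟩ := exists_cj_le S hT
        have h1 : g' ∈ M := ih g' ((cj_mono g' le_sup_left).trans hg')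
        have h3 : g * g'⁻¹ ∈ M := hfus (cj g' B) _ ((cj_mono g' le_sup_right).trans hg')
          ⟨_, kleinFour_cj g' hAB.2.1, le_rfl⟩ (by rw [cj_mul, cj_inv_cj]; exact hg)
        simpa [mul_assoc] using mul_mem h3 h1
    exact (inv_mem_iff (H := M)).1 (hchain _ (hconn U₀ (cj x U₀) hU₀ (kleinFour_cj x hU₀)) x⁻¹
      (by rw [cj_inv_cj]; exact hU₀S))

end Cfsg.Agent.S0520
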