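import Cfsg.Statements.S0521
import Cfsg.Agent.Lib.OddLocal.Stability
import Cfsg.Agent.Lib.Transfer.StableCore
import Cfsg.Agent.Lib.Basics.Frattini

set_option autoImplicit false
open Cfsg

namespace Cfsg.Agent.S0521

open scoped commutatorElement

theorem key {Y : Type*} [Group Y] [Finite Y] [Group.IsSolvable Y] (hY : Odd (Nat.card Y))
    {p : ℕ} [hp : Fact p.Prime] (hp2 : p ≠ 2) (hO : Cfsg.pPrimeCore p Y = ⊥) (S : Sylow p Y)
    (hS : IsCyclic (commutator (S : Subgroup Y))) : (S : Subgroup Y) ≤ Cfsg.pCore p Y := by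
  set R := Cfsg.pCore p Y with hR
  have hRp : IsPGroup p R := Basics.pCore_isPGroup p
  have hRS : R ≤ (S : Subgroup Y) := Basics.pCore_le_sylow p S
  have hsk := Transfer.sectionKernel_frattini_eq (p := p) (Basics.centralizer_pCore_le (G := Y) hO)
  set N := (frattini ↥R).map R.subtype with hN
  haveI : N.Normal := inferInstance
  set π := QuotientGroup.mk' N with hπ
  intro b hb
  set C := Subgroup.centralizer ((R.map π : Subgroup (Y ⧸ N)) : Set (Y ⧸ N)) with hC
  haveI : (R.map π).Normal := Subgroup.Normal.map inferInstance _ (QuotientGroup.mk'_surjective N)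
  haveI : C.Normal := Subgroup.normal_centralizer
  have hq : ∀ v ∈ R.map π, Commute (π b) (π b * v * (π b)⁻¹ * v⁻¹) := by
    rintro _ ⟨v, hv, rfl⟩
    set c := b * v * b⁻¹ * v⁻¹ with hc
    have hcR : c ∈ R := mul_mem ((inferInstance : R.Normal).conj_mem v hv b) (inv_mem hv)
    have hbc : b * c * b⁻¹ * c⁻¹ ∈ N := by
      by_cases hc1 : c = 1
      · rw [hc1]; simp
      let D := commutator (S : Subgroup Y)
      let b' : (S : Subgroup Y) := ⟨b, hb⟩
      let v' : (S : Subgroup Y) := ⟨v, hRS hv⟩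
      have hcD : b' * v' * b'⁻¹ * v'⁻¹ ∈ D := by
        have h := Subgroup.commutator_mem_commutator (Subgroup.mem_top b') (Subgroup.mem_top v')
        rwa [commutatorElement_def] at h
      set c' : D := ⟨_, hcD⟩ with hc'
      obtain ⟨d, hd⟩ := hS.exists_generator
      obtain ⟨i, hi⟩ := hd c'
      let ψ : D →* D :=
        { toFun := fun x => ⟨b' * x * b'⁻¹, (inferInstance : D.Normal).conj_mem _ x.2 b'⟩
          map_one' := Subtype.ext (by simp)
          map_mul' := fun x y => Subtype.ext (by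
            show b' * ((x : (S : Subgroup Y)) * y) * b'⁻¹ =
              b' * (x : (S : Subgroup Y)) * b'⁻¹ * (b' * (y : (S : Subgroup Y)) * b'⁻¹)
            group) }
      obtain ⟨k, hk⟩ := hd (ψ d)
      have hk' : b * c * b⁻¹ = c ^ k := by
        have h : ψ c' = c' ^ k := by
          rw [← hi, map_zpow]
          have hk2 : ψ d = d ^ k := hk.symm
          rw [hk2, ← zpow_mul, ← zpow_mul, mul_comm]
        exact congrArg Subtype.val (congrArg Subtype.val h)
      have hcp : ∃ m, orderOf c = p ^ (m + 1) := by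
        obtain ⟨m, hm⟩ := IsPGroup.iff_orderOf.mp hRp ⟨c, hcR⟩
        rw [Subgroup.orderOf_mk] at hm
        rcases m with - | m
        · exact absurd (orderOf_eq_one_iff.mp (by rw [hm, pow_zero])) hc1
        · exact ⟨m, hm⟩
      obtain ⟨m, hm⟩ := hcp
      obtain ⟨j, hj⟩ := IsPGroup.iff_orderOf.mp S.isPGroup' ⟨b, hb⟩
      rw [Subgroup.orderOf_mk] at hj
      have hpow : ∀ n : ℕ, b ^ n * c * (b ^ n)⁻¹ = c ^ (k ^ n) := by
        intro n
        induction n with
        | zero => simp
        | succ n ih =>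
          calc b ^ (n + 1) * c * (b ^ (n + 1))⁻¹ = b * (b ^ n * c * (b ^ n)⁻¹) * b⁻¹ := by
                rw [pow_succ' b n]; group
            _ = b * c ^ (k ^ n) * b⁻¹ := by rw [ih]
            _ = (b * c * b⁻¹) ^ (k ^ n) := conj_zpow.symm
            _ = c ^ (k ^ (n + 1)) := by rw [hk', ← zpow_mul, pow_succ' k n]
      have h1 : c ^ (k ^ (p ^ j) - 1) = 1 := by
        rw [zpow_sub, zpow_one, ← hpow, ← hj, pow_orderOf_eq_one]
        group
      have h2 : ((p : ℤ)) ∣ k ^ (p ^ j) - 1 := by
        refine dvd_trans ?_ (orderOf_dvd_iff_zpow_eq_one.mpr h1)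
        rw [hm]; push_cast; exact dvd_pow_self _ m.succ_ne_zero
      have h3 : ((p : ℤ)) ∣ k - 1 := by
        rw [← ZMod.intCast_zmod_eq_zero_iff_dvd] at h2 ⊢
        push_cast at h2 ⊢
        rwa [ZMod.pow_card_pow] at h2
      obtain ⟨t, ht⟩ := h3
      have : b * c * b⁻¹ * c⁻¹ = (c ^ p) ^ t := by
        rw [hk', ← zpow_natCast, ← zpow_mul, ← ht, zpow_sub, zpow_one]
      rw [this]
      exact N.zpow_mem ⟨⟨c, hcR⟩ ^ p, Basics.pow_mem_frattini hRp _, by simp⟩ t
    have h1 : π (b * c * b⁻¹ * c⁻¹) = 1 := (QuotientGroup.eq_one_iff _).mpr hbc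
    rw [map_mul, map_mul, map_mul, map_inv, map_inv] at h1
    have e : π b * π v * (π b)⁻¹ * (π v)⁻¹ = π c := by rw [hc]; simp [map_mul, map_inv]
    rw [e]
    exact mul_inv_eq_iff_eq_mul.mp (mul_inv_eq_one.mp h1)
  have hmem := OddLocal.quadratic_mem_pCore (G := Y ⧸ N)
    (Odd.of_dvd_nat hY (Subgroup.card_quotient_dvd_card _)) hp2 (R.map π) (hRp.map π) C rfl (π b) hq
  set ρ := (QuotientGroup.mk' C).comp π with hρ
  have hker : ρ.ker = R := by
    rw [hρ, ← MonoidHom.comap_ker, QuotientGroup.ker_mk']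
    exact hsk
  have hp' : IsPGroup p ((Cfsg.pCore p ((Y ⧸ N) ⧸ C)).comap ρ) :=
    (Basics.pCore_isPGroup p).comap_of_ker_isPGroup _ (by rw [hker]; exact hRp)
  exact Basics.le_pCore hp' hmem


/-- Let X be a finite solvable group of odd order, p a prime and S a Sylow p-subgroup of X whose commutator subgroup is
cyclic. Then the product of the largest normal subgroup of X of order prime to p with S is a normal subgroup of X. -/
theorem result {X : Type*} [Group X] [Finite X] [Group.IsSolvable X]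
    (hX : Odd (Nat.card X)) (p : ℕ) [Fact p.Prime] (S : Sylow p X) (hS : IsCyclic (commutator (S : Subgroup X))) :
    (Cfsg.pPrimeCore p X ⊔ (S : Subgroup X)).Normal := by
  rcases eq_or_ne p 2 with rfl | hp2
  · rw [OddLocal.eq_bot_of_two hX S.isPGroup', sup_bot_eq]
    infer_instance
  set K := Cfsg.pPrimeCore p X with hK
  haveI : K.Normal := inferInstance
  set π := QuotientGroup.mk' K with hπ
  let T : Sylow p (X ⧸ K) := S.mapSurjective (QuotientGroup.mk'_surjective K)
  have hTS : (T : Subgroup (X ⧸ K)) = (S : Subgroup X).map π := rfl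
  have hT : IsCyclic (commutator (T : Subgroup (X ⧸ K))) := by
    let f : (S : Subgroup X) →* (T : Subgroup (X ⧸ K)) :=
      { toFun := fun x => ⟨π x, ⟨x, x.2, rfl⟩⟩
        map_one' := Subtype.ext (map_one π)
        map_mul' := fun x y => Subtype.ext (map_mul π _ _) }
    have hf : Function.Surjective f := by
      rintro ⟨_, x, hx, rfl⟩
      exact ⟨⟨x, hx⟩, rfl⟩
    haveI := hS
    have h : (commutator (S : Subgroup X)).map f = commutator (T : Subgroup (X ⧸ K)) := by
      rw [commutator_def, commutator_def, Subgroup.map_commutator,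
        Subgroup.map_top_of_surjective f hf]
    rw [← h]
    exact isCyclic_of_surjective _ (f.subgroupMap_surjective _)
  have hle := key (Odd.of_dvd_nat hX (Subgroup.card_quotient_dvd_card _)) hp2
    (Basics.pPrimeCore_quotient_eq_bot p) T hT
  have heq : (T : Subgroup (X ⧸ K)) = Cfsg.pCore p (X ⧸ K) :=
    le_antisymm hle (Basics.pCore_le_sylow p T)
  have : K ⊔ (S : Subgroup X) = (Cfsg.pCore p (X ⧸ K)).comap π := by
    rw [← heq, hTS, Subgroup.comap_map_eq, QuotientGroup.ker_mk', sup_comm]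
  rw [this]
  exact Subgroup.Normal.comap inferInstance π

end Cfsg.Agent.S0521
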