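import Cfsg.Statements.S0522
import Cfsg.Agent.Lib.OddLocal.TransHyp

set_option autoImplicit false
open Cfsg

namespace Cfsg.Agent.S0522

/-- Transitivity Theorem (odd-order setting). Let X be a finite group of odd order in which the normalizer of every
nontrivial p-subgroup is solvable, P a Sylow p-subgroup, and B an abelian subgroup of P, normalized by P, with
C_P(B) = B and containing an elementary abelian subgroup of order p^3. Then for every prime q ≠ p, any two q-subgroups
that are maximal among the q-subgroups normalized by B are conjugate by an element of the centralizer of B. -/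
theorem result {X : Type*} [Group X] [Finite X] (hX : Odd (Nat.card X)) (p : ℕ)
    [Fact p.Prime] (hloc : ∀ T : Subgroup X, IsPGroup p T → T ≠ ⊥ → Group.IsSolvable (Subgroup.normalizer (T : Set X)))
    (P : Sylow p X) (B : Subgroup X) (hBP : B ≤ (P : Subgroup X))
    (hBn : ∀ x ∈ (P : Subgroup X), ∀ b ∈ B, x * b * x⁻¹ ∈ B) (hBa : IsMulCommutative B)
    (hBc : (P : Subgroup X) ⊓ Subgroup.centralizer (B : Set X) = B)
    (hB3 : ∃ E : Subgroup X, E ≤ B ∧ (∀ e ∈ E, e ^ p = 1) ∧ p ^ 3 ≤ Nat.card E)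
    (q : ℕ) [Fact q.Prime] (hqp : q ≠ p) (Q₁ Q₂ : Subgroup X)
    (h₁ : IsPGroup q Q₁ ∧ B ≤ Subgroup.normalizer (Q₁ : Set X) ∧
      ∀ R : Subgroup X, IsPGroup q R → B ≤ Subgroup.normalizer (R : Set X) → Q₁ ≤ R → R = Q₁)
    (h₂ : IsPGroup q Q₂ ∧ B ≤ Subgroup.normalizer (Q₂ : Set X) ∧
      ∀ R : Subgroup X, IsPGroup q R → B ≤ Subgroup.normalizer (R : Set X) → Q₂ ≤ R → R = Q₂) :
    ∃ c ∈ Subgroup.centralizer (B : Set X), Q₂ = Q₁.map (MulAut.conj c).toMonoidHom := by
  obtain ⟨A, hAB, hAp, hA3⟩ := hB3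
  have hp : p.Prime := Fact.out
  have hA1 : A ≠ ⊥ := fun h => by
    rw [h, Subgroup.card_bot] at hA3
    have := Nat.one_lt_pow (n := 3) (by norm_num) hp.one_lt
    omega
  have hp2 : p ≠ 2 := by
    intro h
    obtain ⟨a, ha, ha1⟩ := (Subgroup.bot_or_exists_ne_one A).resolve_left hA1
    have hd : p ∣ Nat.card X := (orderOf_eq_prime (hAp a ha) ha1) ▸ orderOf_dvd_natCard a
    exact Nat.not_even_iff_odd.mpr hX (even_iff_two_dvd.mpr (h ▸ hd))
  have hSCN : Cfsg.IsSCN (P : Subgroup X) B :=
    ⟨hBP, fun x hx => Subgroup.mem_normalizer_iff.mpr fun b => ⟨fun hb => hBn x hx b hb, fun hb => by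
      have := hBn x⁻¹ ((P : Subgroup X).inv_mem hx) _ hb
      simpa [mul_assoc] using this⟩, hBc⟩
  have hBpg : IsPGroup p B := P.isPGroup'.to_le hBP
  let K : X → Subgroup X := fun b =>
    (Cfsg.pPrimeCore p ↥(Subgroup.centralizer ({b} : Set X))).map
      (Subgroup.centralizer ({b} : Set X)).subtype
  have hm : ∀ Q : Subgroup X, (IsPGroup q Q ∧ B ≤ Subgroup.normalizer (Q : Set X) ∧
      ∀ R : Subgroup X, IsPGroup q R → B ≤ Subgroup.normalizer (R : Set X) → Q ≤ R → R = Q) →
      Q ∈ Cfsg.maxInvSubgroups ⊤ B {q} := fun Q h =>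
    ⟨OddLocal.mem_invSubgroups_singleton.mpr ⟨h.1, h.2.1⟩, fun R hR hle =>
      h.2.2 R (OddLocal.mem_invSubgroups_singleton.mp hR).1 (OddLocal.mem_invSubgroups_singleton.mp hR).2 hle⟩
  have hcent : ∀ b ∈ A, B ≤ Subgroup.centralizer ({b} : Set X) := fun b hb a ha =>
    Subgroup.mem_centralizer_singleton_iff.mpr
      (congrArg Subtype.val (hBa.is_comm.comm ⟨a, ha⟩ ⟨b, hAB hb⟩))
  obtain ⟨k, hk, he⟩ := OddLocal.transitivity (p := p) (q := q) hqp hAB hcent hAp hA3 K
    (fun b _ _ => Subgroup.map_subtype_le _)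
    (fun b _ _ => by
      have h := Subgroup.le_normalizer_map (H := Cfsg.pPrimeCore p ↥(Subgroup.centralizer ({b} : Set X)))
        (Subgroup.centralizer ({b} : Set X)).subtype
      have hn := LocalEvenA.pPrimeCore_normal' p ↥(Subgroup.centralizer ({b} : Set X))
      rw [Subgroup.normalizer_eq_top, ← MonoidHom.range_eq_map, Subgroup.range_subtype] at h
      exact h)
    (fun b _ _ hd => by
      rw [Subgroup.card_map_of_injective (Subgroup.subtype_injective _)] at hd
      exact hp.coprime_iff_not_dvd.mp (LocalEvenA.pPrimeCore_coprime p).symm hd)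
    hBpg
    (fun b hb hb1 Y hYC hY hBY => by
      have hsol : Group.IsSolvable ↥(Subgroup.centralizer ({b} : Set X)) := by
        have h := hloc (Subgroup.zpowers b) (IsPGroup.of_card_dvd_pow (n := 1)
          (by rw [pow_one, Nat.card_zpowers]; exact orderOf_dvd_of_pow_eq_one (hAp b hb)))
          (Subgroup.zpowers_ne_bot.mpr hb1)
        have hle : Subgroup.centralizer ({b} : Set X) ≤ Subgroup.normalizer (Subgroup.zpowers b : Set X) := by
          intro c hc
          have hcb : Commute c b := Subgroup.mem_centralizer_singleton_iff.mp hc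
          rw [Subgroup.mem_normalizer_iff]
          intro n
          constructor
          · rintro ⟨i, rfl⟩
            exact ⟨i, by show b ^ i = c * b ^ i * c⁻¹; rw [(hcb.zpow_right i).eq, mul_inv_cancel_right]⟩
          · rintro ⟨i, hi⟩
            refine ⟨i, ?_⟩
            show b ^ i = n
            have hi' : b ^ i = c * n * c⁻¹ := hi
            calc b ^ i = c⁻¹ * (b ^ i * c) := by rw [← (hcb.zpow_right i).eq, inv_mul_cancel_left]
              _ = n := by rw [hi']; group
        exact Group.isSolvable_of_isSolvable_injective (Subgroup.inclusion_injective hle)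
      refine OddLocal.invariant_le_pPrimeCore_of_solvable hp2 hsol (hcent b hb) hBpg
        (fun x hx hxo => OddLocal.mem_of_isSCN P hSCN hx
          (IsPGroup.of_card (n := 1) (by rw [Nat.card_zpowers, hxo, pow_one]))) hYC ?_ hBY
      obtain ⟨n, hn⟩ := IsPGroup.iff_card.mp hY
      rw [hn]
      exact fun h => hqp.symm ((Nat.prime_dvd_prime_iff_eq hp Fact.out).mp (hp.dvd_of_dvd_pow h)))
    Q₁ (hm Q₁ h₁) Q₂ (hm Q₂ h₂)
  exact ⟨k, Subgroup.map_subtype_le _ hk, he⟩

end Cfsg.Agent.S0522
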