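import Cfsg.Statements.S0534
import Cfsg.Agent.Lib.Basics.Hall
import Cfsg.Agent.Lib.Basics.Cores

set_option autoImplicit false
open Cfsg

namespace Cfsg.Agent.S0534

universe u

theorem abelian_order (n : ℕ) : ∀ (A : Type u) [CommGroup A] [Finite A], Nat.card A = n →
    ∀ d, d ∣ Nat.card A → ∃ H : Subgroup A, Nat.card H = d := by
  induction n using Nat.strong_induction_on with
  | _ n ih =>
  intro A _ _ hn d hd
  rcases eq_or_ne d 1 with rfl | hd1
  · exact ⟨⊥, Subgroup.card_bot⟩
  obtain ⟨p, hp, hpd⟩ := Nat.exists_prime_and_dvd hd1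
  haveI := Fact.mk hp
  obtain ⟨x, hx⟩ := exists_prime_orderOf_dvd_card' p (hpd.trans hd)
  set C := Subgroup.zpowers x
  have hC : Nat.card C = p := by rw [Nat.card_zpowers, hx]
  have hne : C ≠ ⊥ := fun e => hp.ne_one (by rw [← hC, e, Subgroup.card_bot])
  obtain ⟨e, rfl⟩ := hpd
  have he : e ∣ Nat.card (A ⧸ C) := by
    rw [Subgroup.card_eq_card_quotient_mul_card_subgroup C, hC, mul_comm p e] at hd
    exact Nat.dvd_of_mul_dvd_mul_right hp.pos hd
  obtain ⟨Hb, hHb⟩ := ih _ (hn ▸ Basics.card_quotient_lt hne) (A ⧸ C) rfl e he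
  exact ⟨Hb.comap (QuotientGroup.mk' C), by rw [Basics.card_comap_mk', hHb, hC]⟩

/-- Let G be a finite solvable group and A a finite abelian group such that every prime dividing the order of A divides the order of G and, for each prime p dividing the order of G, the exponent of p in the order of A is one less than its exponent in the order of G. Then G × A has a subgroup of every order dividing its order. -/
theorem result {G A : Type*} [Group G] [CommGroup A] [Finite G] [Finite A] [Group.IsSolvable G] (hA : ∀ p : ℕ, p.Prime → p ∣ Nat.card A → p ∣ Nat.card G) (hexp : ∀ p : ℕ, p.Prime → p ∣ Nat.card G → (Nat.card A).factorization p + 1 = (Nat.card G).factorization p) : Cfsg.HasSubgroupOfEveryOrder (G × A) := by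
  classical
  intro d hd
  have hd0 : d ≠ 0 := ne_zero_of_dvd_ne_zero (Nat.card_pos (α := G × A)).ne' hd
  obtain ⟨W, hW, hWπ⟩ := Basics.exists_hall_pi (G := G) {p | (Nat.card G).factorization p ≤ d.factorization p}
  have hG0 : Nat.card G ≠ 0 := Nat.card_pos.ne'
  have hA0 : Nat.card A ≠ 0 := Nat.card_pos.ne'
  have hW0 : Nat.card W ≠ 0 := Nat.card_pos.ne'
  rw [Nat.card_prod] at hd
  have hle := (Nat.factorization_le_iff_dvd hd0 (Nat.mul_ne_zero hG0 hA0)).mpr hd
  have hv : ∀ p : ℕ, p.Prime →
      ((Nat.card G).factorization p ≤ d.factorization p → (Nat.card W).factorization p = (Nat.card G).factorization p) ∧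
      (¬ (Nat.card G).factorization p ≤ d.factorization p → (Nat.card W).factorization p = 0) := by
    intro p hp
    by_cases hpG : p ∣ Nat.card G
    · obtain ⟨h1, h2⟩ := hWπ p hp hpG
      refine ⟨fun hπ => ?_, fun hπ => Nat.factorization_eq_zero_of_not_dvd fun hd => hπ (h1.mp hd)⟩
      conv_rhs => rw [← W.card_mul_index, Nat.factorization_mul hW0 W.index_ne_zero_of_finite, Finsupp.add_apply,
        Nat.factorization_eq_zero_of_not_dvd (fun hd => h2.mp hd hπ), add_zero]
    · have h1 := Nat.factorization_eq_zero_of_not_dvd hpG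
      have h2 := Nat.factorization_eq_zero_of_not_dvd (fun hd => hpG (hd.trans W.card_subgroup_dvd_card))
      exact ⟨fun _ => h2.trans h1.symm, fun _ => h2⟩
  have hWd : Nat.card W ∣ d := by
    refine (Nat.factorization_le_iff_dvd hW0 hd0).mp fun p => ?_
    by_cases hp : p.Prime
    · by_cases hπ : (Nat.card G).factorization p ≤ d.factorization p
      · rw [(hv p hp).1 hπ]; exact hπ
      · rw [(hv p hp).2 hπ]; exact Nat.zero_le _
    · simp [Nat.factorization_eq_zero_of_not_prime _ hp]
  obtain ⟨r, rfl⟩ := hWd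
  have hr0 : r ≠ 0 := right_ne_zero_of_mul hd0
  have hr : r ∣ Nat.card A := by
    refine (Nat.factorization_le_iff_dvd hr0 hA0).mp fun p => ?_
    by_cases hp : p.Prime
    · have e := hle p
      simp only [Nat.factorization_mul hG0 hA0, Nat.factorization_mul hW0 hr0, Finsupp.add_apply] at e hv
      obtain ⟨h1, h2⟩ := hv p hp
      by_cases hpG : p ∣ Nat.card G
      · have := hexp p hp hpG
        omega
      · have := Nat.factorization_eq_zero_of_not_dvd hpG
        have := Nat.factorization_eq_zero_of_not_dvd fun h => hpG (hA p hp h)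
        omega
    · simp [Nat.factorization_eq_zero_of_not_prime _ hp]
  obtain ⟨B, hB⟩ := abelian_order _ A rfl r hr
  exact ⟨W.prod B, by rw [Nat.card_congr (W.prodEquiv B).toEquiv, Nat.card_prod, hB]⟩

end Cfsg.Agent.S0534
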