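import Cfsg.Statements.S0535
import Cfsg.Agent.Lib.Basics.Solvability
import Cfsg.Agent.Lib.CT.Integral
import Cfsg.Agent.Lib.Basics.Tools

set_option autoImplicit false
open Cfsg

namespace Cfsg.Agent.S0535

open Subgroup

universe u

theorem aux : ∀ (n : ℕ) (G : Type u) [Group G] [Finite G], Nat.card G = n →
    (∀ H : Subgroup G, H ≠ ⊥ → ∀ p : ℕ, p.Prime → p ∣ Nat.card H →
      ∃ K : Subgroup H, K ≠ ⊤ ∧ ∃ k : ℕ, K.index = p ^ k) → Group.IsSolvable G := by
  intro n
  induction n using Nat.strong_induction_on with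
  | _ n ih =>
  intro G _ _ hn h
  rcases subsingleton_or_nontrivial G with hs | hs
  · infer_instance
  have hsub : ∀ H : Subgroup G, H ≠ ⊤ → Group.IsSolvable H := by
    intro H hH
    refine ih _ (hn ▸ Basics.card_lt_card_of_ne_top hH) H rfl fun L hL p hp hpd => ?_
    let e := L.equivMapOfInjective _ H.subtype_injective
    obtain ⟨K, hK, k, hk⟩ := h (L.map H.subtype)
      (fun e' => hL (by rwa [Subgroup.map_eq_bot_iff_of_injective L H.subtype_injective] at e')) p hp
      (by rwa [← Nat.card_congr e.toEquiv])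
    refine ⟨K.comap e.toMonoidHom, fun e' => hK ?_, k, ?_⟩
    · rw [← Subgroup.map_comap_eq_self_of_surjective (f := e.toMonoidHom) e.surjective K]
      exact (congrArg (Subgroup.map _) e').trans (Subgroup.map_top_of_surjective _ e.surjective)
    · rw [← hk]; exact Subgroup.index_comap_of_surjective _ e.surjective
  have htop : ∀ p : ℕ, p.Prime → p ∣ Nat.card G → ∃ K : Subgroup G, K ≠ ⊤ ∧ ∃ k : ℕ, K.index = p ^ k := by
    intro p hp hpd
    obtain ⟨K, hK, k, hk⟩ := h ⊤ top_ne_bot p hp (by rwa [Subgroup.card_top])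
    let e : G ≃* (⊤ : Subgroup G) := Subgroup.topEquiv.symm
    refine ⟨K.comap e.toMonoidHom, fun e' => hK ?_, k, ?_⟩
    · rw [← Subgroup.map_comap_eq_self_of_surjective (f := e.toMonoidHom) e.surjective K]
      exact (congrArg (Subgroup.map _) e').trans (Subgroup.map_top_of_surjective _ e.surjective)
    · rw [← hk]; exact Subgroup.index_comap_of_surjective _ e.surjective
  rcases Nat.lt_or_ge (Nat.card G).primeFactors.card 3 with h3 | h3
  · rcases (show (Nat.card G).primeFactors.card = 1 ∨ (Nat.card G).primeFactors.card = 2 by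
      have : 0 < (Nat.card G).primeFactors.card :=
        Finset.card_pos.mpr (Nat.nonempty_primeFactors.mpr Finite.one_lt_card)
      omega) with h1 | h2
    · obtain ⟨p, hp⟩ := Finset.card_eq_one.mp h1
      have hpp : p.Prime := Nat.prime_of_mem_primeFactors (hp ▸ Finset.mem_singleton_self p)
      refine CT.isSolvable_of_card_two_primes hpp hpp _ G ((Nat.card G).factorization p) 0 rfl ?_
      conv_lhs => rw [← Nat.prod_factorization_pow_eq_self (Nat.card_pos (α := G)).ne']
      rw [Nat.prod_factorization_eq_prod_primeFactors, hp, Finset.prod_singleton, pow_zero, mul_one]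
    · obtain ⟨p, q, hpq, hp⟩ := Finset.card_eq_two.mp h2
      refine CT.isSolvable_of_card_two_primes
        (Nat.prime_of_mem_primeFactors (hp ▸ Finset.mem_insert_self p {q}))
        (Nat.prime_of_mem_primeFactors (hp ▸ Finset.mem_insert_of_mem (Finset.mem_singleton_self q)))
        _ G ((Nat.card G).factorization p) ((Nat.card G).factorization q) rfl ?_
      conv_lhs => rw [← Nat.prod_factorization_pow_eq_self (Nat.card_pos (α := G)).ne']
      rw [Nat.prod_factorization_eq_prod_primeFactors, hp, Finset.prod_pair hpq]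
  · obtain ⟨p, q, r, hp, hq, hr, hpq, hpr, hqr⟩ := Finset.two_lt_card_iff.mp h3
    have hP := fun x (hx : x ∈ (Nat.card G).primeFactors) => Nat.prime_of_mem_primeFactors hx
    obtain ⟨K1, hK1, a, ha⟩ := htop p (hP p hp) (Nat.dvd_of_mem_primeFactors hp)
    obtain ⟨K2, hK2, b, hb⟩ := htop q (hP q hq) (Nat.dvd_of_mem_primeFactors hq)
    obtain ⟨K3, hK3, c, hc⟩ := htop r (hP r hr) (Nat.dvd_of_mem_primeFactors hr)
    have hco : ∀ x y : ℕ, x.Prime → y.Prime → x ≠ y → ∀ i j : ℕ, (x ^ i).Coprime (y ^ j) :=
      fun x y hx hy hne i j => Nat.Coprime.pow i j ((Nat.coprime_primes hx hy).mpr hne)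
    exact Basics.isSolvable_of_three K1 K2 K3 (hsub _ hK1) (hsub _ hK2) (hsub _ hK3)
      (Basics.exists_mul_of_coprime_index (by rw [ha, hb]; exact hco _ _ (hP p hp) (hP q hq) hpq a b))
      (Basics.exists_mul_of_coprime_index (by rw [ha, hc]; exact hco _ _ (hP p hp) (hP r hr) hpr a c))
      (by rw [hb, hc]; exact hco _ _ (hP q hq) (hP r hr) hqr b c)

/-- Suppose that for every nontrivial subgroup H of a finite group and every prime p dividing the order of H there is a proper subgroup of H whose index in H is a power of p. Then the group is solvable. -/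
theorem result {G : Type*} [Group G] [Finite G] (h : ∀ H : Subgroup G, H ≠ ⊥ → ∀ p : ℕ, p.Prime → p ∣ Nat.card H → ∃ K : Subgroup H, K ≠ ⊤ ∧ ∃ k : ℕ, K.index = p ^ k) : Group.IsSolvable G := by
  exact aux _ G rfl h

end Cfsg.Agent.S0535
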