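import Cfsg.Statements.S0537
import Cfsg.Agent.Lib.Basics.Schmidt
import Cfsg.Agent.Lib.Basics.CoprimeAction

set_option autoImplicit false
open Cfsg

namespace Cfsg.Agent.S0537

/-- A finite non-abelian group in which every proper subgroup is abelian is either of prime-power order, or is generated by a cyclic Sylow p-subgroup and a normal Sylow q-subgroup that is elementary abelian, for distinct primes p and q. -/
theorem result {G : Type*} [Group G] [Finite G] (hna : ¬ IsMulCommutative G) (h : ∀ H : Subgroup G, H ≠ ⊤ → IsMulCommutative H) : (∃ p : ℕ, p.Prime ∧ IsPGroup p G) ∨ ∃ p q : ℕ, p.Prime ∧ q.Prime ∧ p ≠ q ∧ ∃ (P : Sylow p G) (Q : Sylow q G), IsCyclic P ∧ (Q : Subgroup G).Normal ∧ Cfsg.IsElementaryAbelian q (Q : Subgroup G) ∧ (P : Subgroup G) ⊔ Q = ⊤ := by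
  have hnil : ∀ H : Subgroup G, H ≠ ⊤ → Group.IsNilpotent H := fun H hH => by
    haveI := h H hH
    letI : CommGroup H := { (inferInstance : Group H) with mul_comm := IsMulCommutative.is_comm.comm }
    infer_instance
  by_cases hG : Group.IsNilpotent G
  · left
    by_contra hno
    push Not at hno
    have hS : ∀ (p : ℕ) (_ : Fact p.Prime) (P : Sylow p G), IsMulCommutative (P : Subgroup G) := by
      intro p hp P
      refine h _ fun e => hno p hp.out ?_
      intro g
      obtain ⟨k, hk⟩ := P.2 ⟨g, by rw [e]; exact Subgroup.mem_top g⟩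
      exact ⟨k, congrArg Subtype.val hk⟩
    obtain ⟨e⟩ := (Group.isNilpotent_of_finite_tfae (G := G)).out 0 4 rfl rfl |>.mp hG
    refine hna ⟨⟨fun a b => e.symm.injective ?_⟩⟩
    rw [map_mul, map_mul]
    funext p P
    exact (hS p ⟨Nat.prime_of_mem_primeFactors p.2⟩ P).is_comm.comm _ _
  right
  obtain ⟨p, q, hp, hq, hpq, P, Q, h1, h2, hPn, h3⟩ :=
    Cfsg.Agent.Basics.minimalNonNilpotent_structure ⟨hG, hnil⟩
  haveI := Fact.mk hp
  haveI := Fact.mk hq
  haveI := h2
  have hQne : (Q : Subgroup G) ≠ ⊤ := fun e => hG (by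
    have hq' : IsPGroup q G := fun g => by
      obtain ⟨k, hk⟩ := Q.2 ⟨g, by rw [e]; exact Subgroup.mem_top g⟩
      exact ⟨k, congrArg Subtype.val hk⟩
    exact hq'.isNilpotent)
  have hQc := h _ hQne
  refine ⟨p, q, hp, hq, hpq, P, Q, h1, h2, ⟨hQc, fun x hx => ?_⟩, h3⟩
  by_contra hxq
  have hQc' : ∀ u ∈ (Q : Subgroup G), ∀ v ∈ (Q : Subgroup G), Commute u v := fun u hu v hv =>
    congrArg Subtype.val (hQc.is_comm.comm ⟨u, hu⟩ ⟨v, hv⟩)
  let W : Subgroup G :=
    { carrier := {u | u ∈ (Q : Subgroup G) ∧ u ^ q = 1}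
      one_mem' := ⟨one_mem _, one_pow q⟩
      mul_mem' := fun {u v} hu hv => ⟨mul_mem hu.1 hv.1, by
        rw [(hQc' u hu.1 v hv.1).mul_pow, hu.2, hv.2, one_mul]⟩
      inv_mem' := fun {u} hu => ⟨inv_mem hu.1, by rw [inv_pow, hu.2, inv_one]⟩ }
  haveI hWn : W.Normal := ⟨fun u hu g => ⟨h2.conj_mem u hu.1 g, by
    rw [conj_pow, hu.2, mul_one, mul_inv_cancel]⟩⟩
  have hcop : (Nat.card (P : Subgroup G)).Coprime (Nat.card (Q : Subgroup G)) := by
    rw [P.card_eq_multiplicity, Q.card_eq_multiplicity]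
    exact ((Nat.coprime_primes hp hq).mpr hpq).pow _ _
  have hPW : (P : Subgroup G) ⊔ W ≠ ⊤ := by
    intro e
    have hWQ : W ≤ (Q : Subgroup G) := fun u hu => hu.1
    have c1 := Cfsg.Agent.Basics.card_sup_of_coprime (N := (Q : Subgroup G))
      (H := (P : Subgroup G)) Subgroup.le_normalizer_of_normal hcop.symm
    have c2 := Cfsg.Agent.Basics.card_sup_of_coprime (N := W) (H := (P : Subgroup G))
      Subgroup.le_normalizer_of_normal (hcop.symm.coprime_dvd_left (Subgroup.card_dvd_of_le hWQ))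
    rw [sup_comm, h3] at c1
    rw [sup_comm, e, c1] at c2
    have hW : W = (Q : Subgroup G) :=
      Subgroup.eq_of_le_of_card_ge hWQ (Nat.eq_of_mul_eq_mul_right Nat.card_pos c2).le
    exact hxq (hW.symm ▸ hx : x ∈ W).2
  have hWc := h _ hPW
  have hbot : ⁅(Q : Subgroup G), (P : Subgroup G)⁆ = ⊥ := by
    by_contra hne
    have hle : ⁅(Q : Subgroup G), (P : Subgroup G)⁆ ≤ Q := Subgroup.commutator_le_left _ _
    obtain ⟨w, hw⟩ := exists_prime_orderOf_dvd_card'
      (G := (⁅(Q : Subgroup G), (P : Subgroup G)⁆ : Subgroup G)) q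
      (((Q.2.to_le hle).card_eq_or_dvd).resolve_left fun e => hne (Subgroup.eq_bot_of_card_eq _ e))
    rw [← Subgroup.orderOf_coe] at hw
    have hwW : (w : G) ∈ W := ⟨hle w.2, (congrArg (fun n : ℕ => (w : G) ^ n) hw).symm.trans (pow_orderOf_eq_one _)⟩
    have hwm : (w : G) ∈ ((Q : Subgroup G) ⊓ Subgroup.centralizer ((P : Subgroup G) : Set G)) ⊓
        ⁅(Q : Subgroup G), (P : Subgroup G)⁆ :=
      Subgroup.mem_inf.mpr ⟨Subgroup.mem_inf.mpr ⟨hle w.2, Subgroup.mem_centralizer_iff.mpr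
        fun u hu => congrArg Subtype.val (hWc.is_comm.comm
          ⟨u, Subgroup.mem_sup_left hu⟩ ⟨w, Subgroup.mem_sup_right hwW⟩)⟩, w.2⟩
    haveI := hQc
    rw [Cfsg.Agent.Basics.inf_centralizer_inf_commutator_eq_bot (P : Subgroup G) (Q : Subgroup G)
      Subgroup.le_normalizer_of_normal hcop, Subgroup.mem_bot] at hwm
    rw [hwm, orderOf_one] at hw
    exact hq.one_lt.ne hw
  refine hPn (Subgroup.normalizer_eq_top_iff.mp (eq_top_iff.mpr ?_))
  rw [← h3]
  exact sup_le Subgroup.le_normalizer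
    ((Subgroup.commutator_eq_bot_iff_le_centralizer.mp hbot).trans
      (Subgroup.centralizer_le_normalizer _))

end Cfsg.Agent.S0537
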