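import Cfsg.Statements.S0539
import Cfsg.Agent.Lib.FGS.Subnormal

set_option autoImplicit false
open Pointwise
open Cfsg
open scoped Pointwise
set_option linter.all false

namespace Cfsg.Agent.S0539

/-- Let S be a family of subnormal subgroups of a finite group that is closed under conjugation, and S₀ a proper subfamily. Then some member of S not in S₀ normalizes the join of S₀. -/
theorem result {G : Type*} [Group G] [Finite G] (S S₀ : Set (Subgroup G)) (hS : ∀ U ∈ S, U.IsSubnormal) (hconj : ∀ U ∈ S, ∀ g : G, MulAut.conj g • U ∈ S) (h₀ : S₀ ⊂ S) : ∃ X ∈ S, X ∉ S₀ ∧ X ≤ Subgroup.normalizer ((sSup S₀ : Subgroup G) : Set G) := by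
  classical
  obtain ⟨hsub, hne⟩ := h₀
  obtain ⟨X₀, hX₀, hX₀'⟩ := Set.not_subset.1 hne
  set J := sSup S₀ with hJ
  have hJsn : FGS.Subn.SN J ⊤ := FGS.Subn.sn_sSup S₀ fun U hU => FGS.Subn.sn_top.2 (hS U (hsub hU))
  by_cases hn : (⊤ : Subgroup G) ≤ Subgroup.normalizer (J : Set G)
  · exact ⟨X₀, hX₀, hX₀', le_trans le_top hn⟩
  obtain ⟨g, -, hgne, hgn⟩ := FGS.Subn.exists_conj_normalizing ⊤ J hJsn hn
  obtain ⟨U, hU, hU'⟩ : ∃ U ∈ S₀, MulAut.conj g • U ∉ S₀ := by
    by_contra hcon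
    push Not at hcon
    apply hgne
    refine Subgroup.eq_of_le_of_card_ge ?_ (Nat.card_congr (Subgroup.equivSMul (MulAut.conj g) J).toEquiv).le
    rw [Subgroup.pointwise_smul_subset_iff]
    refine sSup_le fun U hU => ?_
    rw [← Subgroup.pointwise_smul_subset_iff]
    exact le_sSup (hcon U hU)
  exact ⟨_, hconj U (hsub hU) g, hU',
    le_trans (Subgroup.pointwise_smul_le_pointwise_smul_iff.2 (le_sSup hU)) hgn⟩

end Cfsg.Agent.S0539
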