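import Cfsg.Statements.S0540
import Cfsg.Agent.Lib.FGS.Subnormal
import Cfsg.Agent.Lib.Basics.Tools

set_option autoImplicit false
open Pointwise
open Cfsg

namespace Cfsg.Agent.S0540

open scoped Pointwise

/-- A uniqueness lemma of zipper type. Let A be a subgroup of a finite group G and U a nonempty family of subgroups. For V in U write S(V) for the set of conjugates of A that lie in V and are subnormal in V. Assume: A belongs to S(V) for every V in U; a member of some S(W) that lies in V belongs to S(V); and for all V, W in U the normalizer of the join of S(V) ∩ S(W) lies in some member of U. Then U has a greatest element. -/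
theorem result {G : Type*} [Group G] [Finite G] (A : Subgroup G) (U : Set (Subgroup G)) (hU : U.Nonempty) (S : Subgroup G → Set (Subgroup G)) (hS : ∀ V B : Subgroup G, B ∈ S V ↔ (∃ g : G, B = MulAut.conj g • A) ∧ B ≤ V ∧ (B.subgroupOf V).IsSubnormal) (h1 : ∀ V ∈ U, A ∈ S V) (h2 : ∀ V ∈ U, ∀ W ∈ U, ∀ B ∈ S W, B ≤ V → B ∈ S V) (h3 : ∀ V ∈ U, ∀ W ∈ U, ∃ X ∈ U, Subgroup.normalizer ((sSup (S V ∩ S W) : Subgroup G) : Set G) ≤ X) : ∃ M ∈ U, ∀ V ∈ U, V ≤ M := by
  classical
  have hconj : ∀ V : Subgroup G, ∀ b ∈ V, ∀ B ∈ S V, MulAut.conj b • B ∈ S V := by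
    intro V b hb B hB
    obtain ⟨⟨g, rfl⟩, hle, hsn⟩ := (hS V B).mp hB
    refine (hS V _).mpr ⟨⟨b * g, by rw [map_mul, mul_smul]⟩, ?_⟩
    have := FGS.Subn.sn_smul (MulAut.conj b) (⟨hle, hsn⟩ : FGS.Subn.SN (MulAut.conj g • A) V)
    rw [Basics.conj_smul_eq_self_iff.mpr (Subgroup.le_normalizer hb)] at this
    exact this
  have hsub : ∀ V, ∀ B ∈ S V, B ≤ V := fun V B hB => ((hS V B).mp hB).2.1
  -- members of `S V` outside the intersection normalising it
  have main : ∀ V ∈ U, ∀ W ∈ U, ¬ S V ⊆ S W → ∃ B ∈ S V, B ∉ S W ∧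
      B ≤ Subgroup.normalizer ((sSup (S V ∩ S W) : Subgroup G) : Set G) := by
    intro V hV W hW hne
    set J := sSup (S V ∩ S W)
    have hJV : J ≤ V := sSup_le fun B hB => hsub V B hB.1
    have hJW : J ≤ W := sSup_le fun B hB => hsub W B hB.2
    have hJ : FGS.Subn.SN J V := FGS.Subn.sn_sSup _ fun B hB =>
      ⟨hsub V B hB.1, ((hS V B).mp hB.1).2.2⟩
    obtain ⟨B0, hB0, hB0'⟩ := Set.not_subset.mp hne
    have step : ∀ K : Subgroup G, K ≤ V → FGS.Subn.SN J K → (∃ B ∈ S V, B ∉ S W ∧ B ≤ K) →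
        ∃ B ∈ S V, B ∉ S W ∧ B ≤ Subgroup.normalizer (J : Set G) := by
      intro K
      induction K using WellFoundedLT.induction with
      | _ K ih =>
      intro hKV hJK hB
      obtain ⟨B, hB, hB', hBK⟩ := hB
      have hJne : J ≠ K := fun e => hB' (h2 W hW V hV B hB (e ▸ hBK |>.trans hJW))
      obtain ⟨N, hJN, hNK, hKN⟩ := FGS.Subn.exists_normal_between hJK hJne
      by_cases hex : ∃ B ∈ S V, B ∉ S W ∧ B ≤ N
      · exact ih N hNK (hNK.le.trans hKV) (FGS.Subn.sn_restrict hJK hJN hNK.le) hex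
      · push Not at hex
        refine ⟨B, hB, hB', fun b hb => ?_⟩
        refine Basics.conj_smul_eq_self_iff.mp (Subgroup.eq_of_le_of_card_ge ?_ (Basics.card_conj_smul b J).ge)
        rw [Subgroup.pointwise_smul_subset_iff]
        refine sSup_le fun C hC => ?_
        rw [← Subgroup.pointwise_smul_subset_iff]
        have hCV := hconj V b (hKV (hBK hb)) C hC.1
        refine le_sSup ⟨hCV, ?_⟩
        by_contra hCW
        refine hex _ hCV hCW ?_
        rw [← Basics.conj_smul_eq_self_iff.mpr (hKN (hBK hb))]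
        exact Subgroup.map_mono ((le_sSup hC).trans hJN)
    exact step V le_rfl hJ ⟨B0, hB0, hB0', hsub V B0 hB0⟩
  have hnorm : ∀ V ∈ U, ∀ W ∈ U, S V ⊆ S W → V ≤ Subgroup.normalizer ((sSup (S V ∩ S W) : Subgroup G) : Set G) := by
    intro V hV W hW hle b hb
    rw [Set.inter_eq_left.mpr hle]
    refine Basics.conj_smul_eq_self_iff.mp (Subgroup.eq_of_le_of_card_ge ?_ (Basics.card_conj_smul b _).ge)
    rw [Subgroup.pointwise_smul_subset_iff]
    refine sSup_le fun C hC => ?_
    rw [← Subgroup.pointwise_smul_subset_iff]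
    exact le_sSup (hconj V b hb C hC)
  -- any two maximal members coincide
  have huniq : ∀ V W, Maximal (· ∈ U) V → Maximal (· ∈ U) W → V = W := by
    suffices ∀ n, ∀ V W, Maximal (· ∈ U) V → Maximal (· ∈ U) W →
        Nat.card (Subgroup G) - (S V ∩ S W).ncard = n → V = W from fun V W hV hW => this _ V W hV hW rfl
    intro n
    induction n using Nat.strong_induction_on with
    | _ n ih =>
    intro V W hV hW hn
    by_contra hne
    obtain ⟨X, hX, hNX⟩ := h3 V hV.prop W hW.prop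
    obtain ⟨M, hXM, hM⟩ := (Set.toFinite U).exists_le_maximal hX
    have hNM := hNX.trans hXM
    have hfwd : ∀ V' W', V' ∈ U → W' ∈ U → S V' ∩ S W' = S V ∩ S W → ¬ S V' ⊆ S W' →
        ∃ B, B ∉ S V ∩ S W ∧ B ∈ S V' ∩ S M := by
      intro V' W' hV' hW' he hns
      obtain ⟨B, hB, hB', hBN⟩ := main V' hV' W' hW' hns
      rw [he] at hBN
      exact ⟨B, fun h => hB' (he.ge h).2, hB, h2 M hM.prop V' hV' B hB (hBN.trans hNM)⟩
    have hD : ∀ B ∈ S V ∩ S W, B ∈ S M := fun B hB => h2 M hM.prop V hV.prop B hB.1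
      ((le_sSup hB).trans (Subgroup.le_normalizer.trans hNM))
    have hgrow : ∀ V', S V ∩ S W ⊆ S V' → (∃ B, B ∉ S V ∩ S W ∧ B ∈ S V' ∩ S M) → Maximal (· ∈ U) V' → V' = M := by
      intro V' hsub' ⟨B, hB, hB'⟩ hV'
      refine ih _ ?_ V' M hV' hM rfl
      have hlt : (S V ∩ S W).ncard < (S V' ∩ S M).ncard := Set.ncard_lt_ncard
        ((Set.ssubset_iff_of_subset (show S V ∩ S W ⊆ S V' ∩ S M from fun C hC => ⟨hsub' hC, hD C hC⟩)).mpr ⟨B, hB', hB⟩) (Set.toFinite _)
      have hle : (S V' ∩ S M).ncard ≤ Nat.card (Subgroup G) :=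
        (Set.ncard_le_ncard (Set.subset_univ _) (Set.toFinite _)).trans (Set.ncard_univ _).le
      omega
    by_cases c1 : S V ⊆ S W
    · have hVM : V = M := le_antisymm ((hnorm V hV.prop W hW.prop c1).trans hNM)
        (hV.2 hM.prop ((hnorm V hV.prop W hW.prop c1).trans hNM))
      by_cases c2 : S W ⊆ S V
      · have := (hnorm W hW.prop V hV.prop c2)
        rw [Set.inter_comm] at this
        have hWM := this.trans hNM
        exact hne (hVM.trans (le_antisymm hWM (hW.2 hM.prop hWM)).symm)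
      · exact hne (hVM.trans (hgrow W Set.inter_subset_right
          (hfwd W V hW.prop hV.prop (Set.inter_comm _ _) c2) hW).symm)
    · have hVM : V = M := hgrow V Set.inter_subset_left (hfwd V W hV.prop hW.prop rfl c1) hV
      by_cases c2 : S W ⊆ S V
      · have := (hnorm W hW.prop V hV.prop c2)
        rw [Set.inter_comm] at this
        have hWM := this.trans hNM
        exact hne (hVM.trans (le_antisymm hWM (hW.2 hM.prop hWM)).symm)
      · exact hne (hVM.trans (hgrow W Set.inter_subset_right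
          (hfwd W V hW.prop hV.prop (Set.inter_comm _ _) c2) hW).symm)
  obtain ⟨V0, hV0⟩ := hU
  obtain ⟨M, -, hM⟩ := (Set.toFinite U).exists_le_maximal hV0
  refine ⟨M, hM.prop, fun V hV => ?_⟩
  obtain ⟨V', hVV', hV'⟩ := (Set.toFinite U).exists_le_maximal hV
  exact huniq V' M hV' hM ▸ hVV'

end Cfsg.Agent.S0540
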