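import Cfsg.Statements.S0542
import Cfsg.Agent.Lib.Basics.CoreFree

set_option autoImplicit false
open Cfsg

namespace Cfsg.Agent.S0542

/-- A Sylow p-subgroup of a finite group meets every subnormal subgroup H in a Sylow p-subgroup of H. -/
theorem result {G : Type*} [Group G] [Finite G] (p : ℕ) [Fact p.Prime] (H : Subgroup G) (hH : H.IsSubnormal) (S : Sylow p G) : ∃ Q : Sylow p H, (Q : Subgroup H) = (S : Subgroup G).subgroupOf H := by
  have cmr : ∀ {M : Type _} [Group M] {A B : Subgroup M}, A ≤ B → Nat.card A * A.relIndex B = Nat.card B := by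
    intro M _ A B h
    rw [← Subgroup.relIndex_bot_left A, ← Subgroup.relIndex_bot_left B]
    exact Subgroup.relIndex_mul_relIndex _ _ _ bot_le h
  have key : ∀ K : Subgroup G, K.IsSubnormal → ¬ p ∣ ((S : Subgroup G).subgroupOf K).index := by
    intro K hK
    induction hK with
    | top =>
      have := S.not_dvd_index
      rwa [← Subgroup.relIndex, Subgroup.relIndex_top_right]
    | step X Y hle _ hN ih =>
      intro hd
      set Q := (S : Subgroup G).subgroupOf Y
      set X' := X.subgroupOf Y
      haveI : X'.Normal := hN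
      have e1 := Basics.card_mul_card_eq_card_sup_mul_card_inf (N := X') (H := Q) Subgroup.le_normalizer_of_normal
      have e2 : ((S : Subgroup G).subgroupOf X).index = Q.relIndex X' := by
        rw [Subgroup.relIndex_subgroupOf hle]; rfl
      have e3 : (Q ⊓ X').relIndex X' * Nat.card ↥(Q ⊓ X') = Nat.card X' := by
        rw [mul_comm]
        exact cmr inf_le_right
      rw [Subgroup.inf_relIndex_right] at e3
      have e4 := cmr (le_sup_right : Q ≤ X' ⊔ Q)
      have e5 : Q.relIndex X' = Q.relIndex (X' ⊔ Q) := by
        rw [inf_comm] at e1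
        refine Nat.eq_of_mul_eq_mul_left (Nat.mul_pos (Nat.card_pos (α := Q)) (Nat.card_pos (α := ↥(Q ⊓ X')))) ?_
        calc Nat.card Q * Nat.card ↥(Q ⊓ X') * Q.relIndex X'
            = Nat.card Q * Nat.card X' := by rw [← e3]; ring
          _ = Nat.card ↥(X' ⊔ Q) * Nat.card ↥(Q ⊓ X') := by rw [← e1]; ring
          _ = _ := by rw [← e4]; ring
      rw [e2, e5] at hd
      exact ih (hd.trans (Subgroup.relIndex_dvd_index_of_le le_sup_right))
  exact ⟨IsPGroup.toSylow ((S.2).comap_of_injective H.subtype H.subtype_injective) (key H hH), rfl⟩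

end Cfsg.Agent.S0542
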