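import Cfsg.Statements.S0546
import Cfsg.Agent.Lib.Basics.Systems

set_option autoImplicit false
open Cfsg

namespace Cfsg.Agent.S0546

/-- The normal closure of a system normalizer of a finite solvable group is the whole group. -/
theorem result {G : Type*} [Group G] [Finite G] [Group.IsSolvable G] (K : Nat.Primes → Subgroup G) (hK : Cfsg.IsComplementSystem K) : Subgroup.normalClosure ((Cfsg.systemNormalizer K : Subgroup G) : Set G) = ⊤ := by
  by_contra hne
  set N := Subgroup.normalClosure ((Cfsg.systemNormalizer K : Subgroup G) : Set G) with hN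
  haveI : N.Normal := Subgroup.normalClosure_normal
  have : Nontrivial (G ⧸ N) := QuotientGroup.nontrivial_iff.mpr hne
  set π := QuotientGroup.mk' N
  have hlt := Group.IsSolvable.commutator_lt_top_of_nontrivial (G ⧸ N)
  set M := (commutator (G ⧸ N)).comap π with hM
  have hMn : M.Normal := Subgroup.Normal.comap inferInstance π
  have hcomm : ∀ a b : G ⧸ M, a * b = b * a := by
    intro a b
    obtain ⟨a, rfl⟩ := QuotientGroup.mk_surjective a
    obtain ⟨b, rfl⟩ := QuotientGroup.mk_surjective b
    rw [← QuotientGroup.mk_mul, ← QuotientGroup.mk_mul, QuotientGroup.eq, hM, Subgroup.mem_comap]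
    have h := Subgroup.commutator_mem_commutator (Subgroup.mem_top ((π b)⁻¹)) (Subgroup.mem_top ((π a)⁻¹))
    rw [← commutator_def] at h
    convert h using 1
    simp [commutatorElement_def, mul_assoc]
  have htop : (Cfsg.systemNormalizer K).map (QuotientGroup.mk' M) = ⊤ := by
    rw [← Basics.systemNormalizer_map M hK, eq_top_iff]
    intro x _
    rw [Cfsg.systemNormalizer, Subgroup.mem_iInf]
    intro p
    rw [Subgroup.mem_normalizer_iff]
    intro y
    rw [hcomm x y, mul_inv_cancel_right]
  have hle : (Cfsg.systemNormalizer K) ≤ M := by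
    intro d hd
    have h1 : d ∈ N := Subgroup.subset_normalClosure hd
    rw [hM, Subgroup.mem_comap]
    simp [π, (QuotientGroup.eq_one_iff d).mpr h1, one_mem]
  have hbot : (Cfsg.systemNormalizer K).map (QuotientGroup.mk' M) = ⊥ :=
    le_bot_iff.mp ((Subgroup.map_mono hle).trans (QuotientGroup.map_mk'_self M).le)
  rw [hbot] at htop
  apply hlt.ne
  have hMt : M = ⊤ := by
    rw [eq_top_iff]
    intro g _
    have h1 : (QuotientGroup.mk' M g) ∈ (⊥ : Subgroup (G ⧸ M)) := by rw [htop]; trivial
    exact (QuotientGroup.eq_one_iff g).mp (Subgroup.mem_bot.mp h1)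
  rw [← Subgroup.map_comap_eq_self_of_surjective (f := π) (QuotientGroup.mk'_surjective N) (commutator (G ⧸ N)), ← hM, hMt,
    Subgroup.map_top_of_surjective π (QuotientGroup.mk'_surjective N)]

end Cfsg.Agent.S0546
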