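import Cfsg.Statements.S0548
import Cfsg.Agent.Lib.Basics.CoreFree

set_option autoImplicit false
open Cfsg

namespace Cfsg.Agent.S0548

theorem stab_facts {G : Type*} [Group G] [Finite G] {Ω : Type*} [MulAction G Ω] [FaithfulSMul G Ω]
    (hprim : MulAction.IsPreprimitive G Ω) {M : Subgroup G} (hM : M ≠ ⊥) (ω : Ω) :
    IsCoatom (MulAction.stabilizer G ω) ∧ (MulAction.stabilizer G ω).normalCore = ⊥ := by
  haveI := hprim
  haveI : Nontrivial Ω := by
    by_contra h
    rw [not_nontrivial_iff_subsingleton] at h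
    refine hM ((Subgroup.eq_bot_iff_forall M).mpr fun x _ => ?_)
    exact FaithfulSMul.eq_of_smul_eq_smul (α := Ω) fun a => Subsingleton.elim _ _
  refine ⟨(MulAction.isCoatom_stabilizer_iff_preprimitive G ω).mpr hprim, ?_⟩
  refine (Subgroup.eq_bot_iff_forall _).mpr fun x hx =>
    FaithfulSMul.eq_of_smul_eq_smul (α := Ω) fun a => ?_
  obtain ⟨g, rfl⟩ := MulAction.exists_smul_eq G ω a
  have h := Subgroup.normalCore_le _ ((Subgroup.normalCore_normal _).conj_mem x hx g⁻¹)
  rw [inv_inv, MulAction.mem_stabilizer_iff, mul_smul, mul_smul, inv_smul_eq_iff] at h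
  rw [h, one_smul]

/-- Let a finite solvable group G act faithfully and primitively on a set, let M be a minimal normal subgroup and H the stabilizer of a point. Then H is a complement to M, no non-identity element of H centralizes M, and the only subgroups of M normalized by H are the trivial subgroup and M. -/
theorem result {G : Type*} [Group G] [Finite G] [Group.IsSolvable G] {Ω : Type*} [MulAction G Ω] [FaithfulSMul G Ω] (hprim : MulAction.IsPreprimitive G Ω) (M : Subgroup G) [M.Normal] (hM : M ≠ ⊥) (hmin : ∀ K : Subgroup G, K.Normal → K ≤ M → K = ⊥ ∨ K = M) (ω : Ω) : Subgroup.IsComplement' M (MulAction.stabilizer G ω) ∧ MulAction.stabilizer G ω ⊓ Subgroup.centralizer (M : Set G) = ⊥ ∧ ∀ K : Subgroup G, K ≤ M → MulAction.stabilizer G ω ≤ Subgroup.normalizer (K : Set G) → K = ⊥ ∨ K = M := by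
  obtain ⟨hco, hcore⟩ := stab_facts hprim hM ω
  obtain ⟨hab, hcompl, hC⟩ := Basics.solvable_minimal hco hcore hM hmin
  refine ⟨hcompl, ?_, fun K hK hnorm => ?_⟩
  · rw [hC, inf_comm]; exact hcompl.disjoint.eq_bot
  · refine hmin K ?_ hK
    rw [← Subgroup.normalizer_eq_top_iff, eq_top_iff, ← hcompl.sup_eq_top, sup_le_iff]
    refine ⟨fun m hm => Subgroup.centralizer_le_normalizer _ (Subgroup.mem_centralizer_iff.mpr fun k hk => ?_), hnorm⟩
    haveI := hab
    exact Subgroup.mem_centralizer_iff.mp (Subgroup.le_centralizer M hm) k (hK hk)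

end Cfsg.Agent.S0548
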