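import Cfsg.Statements.S0547
import Cfsg.Agent.S0548
import Cfsg.Agent.Lib.Basics.CoreFree

set_option autoImplicit false
open Cfsg

namespace Cfsg.Agent.S0547

/-- Let a finite solvable group G act faithfully and primitively on a set, and let M be a minimal normal subgroup of G. Then M is transitive with trivial point stabilizers, and the number of points equals the order of M, which is a prime power p ^ d with d ≥ 1. -/
theorem result {G : Type*} [Group G] [Finite G] [Group.IsSolvable G] {Ω : Type*} [Nonempty Ω] [MulAction G Ω] [FaithfulSMul G Ω] (hprim : MulAction.IsPreprimitive G Ω) (M : Subgroup G) [M.Normal] (hM : M ≠ ⊥) (hmin : ∀ K : Subgroup G, K.Normal → K ≤ M → K = ⊥ ∨ K = M) : MulAction.IsPretransitive M Ω ∧ (∀ ω : Ω, MulAction.stabilizer M ω = ⊥) ∧ ∃ p d : ℕ, p.Prime ∧ 0 < d ∧ Nat.card Ω = p ^ d ∧ Nat.card M = p ^ d := by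
  haveI := hprim
  obtain ⟨ω₀⟩ := ‹Nonempty Ω›
  have hst : ∀ ω : Ω, Subgroup.IsComplement' M (MulAction.stabilizer G ω) ∧ IsMulCommutative M := fun ω => by
    obtain ⟨hco, hcore⟩ := S0548.stab_facts hprim hM ω
    obtain ⟨hab, hcompl, -⟩ := Basics.solvable_minimal hco hcore hM hmin
    exact ⟨hcompl, hab⟩
  refine ⟨⟨fun a b => ?_⟩, fun ω => ?_, ?_⟩
  · obtain ⟨g, rfl⟩ := MulAction.exists_smul_eq G a b
    obtain ⟨⟨m, u⟩, e⟩ := (hst a).1.2 g
    change (m : G) * u = g at e
    refine ⟨m, ?_⟩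
    rw [← e, mul_smul, MulAction.mem_stabilizer_iff.mp u.2]
    rfl
  · refine (Subgroup.eq_bot_iff_forall _).mpr fun m hm => ?_
    have h : (m : G) ∈ M ⊓ MulAction.stabilizer G ω := ⟨m.2, hm⟩
    rw [(hst ω).1.disjoint.eq_bot, Subgroup.mem_bot] at h
    exact Subtype.ext h
  · obtain ⟨-, p, hp, -, hMp⟩ := Basics.minimal_normal_solvable hM inferInstance hmin
    haveI := Fact.mk hp
    obtain ⟨d, hd⟩ := hMp.exists_card_eq
    refine ⟨p, d, hp, ?_, ?_, hd⟩
    · by_contra h0
      rw [show d = 0 by omega, pow_zero, Subgroup.card_eq_one] at hd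
      exact hM hd
    · rw [← MulAction.index_stabilizer_of_transitive G ω₀, Subgroup.IsComplement'.index_eq_card (hst ω₀).1, hd]

end Cfsg.Agent.S0547
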