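import Cfsg.Statements.S0550
import Cfsg.Agent.Lib.Basics.CoreFree

set_option autoImplicit false
open Cfsg

namespace Cfsg.Agent.S0550

/-- Let U be a maximal subgroup with trivial normal core in a finite group G, and A ≠ B two minimal normal subgroups. Then A is the centralizer of B and B that of A, U complements each of them, A and B are non-abelian, and A, B and (A ⊔ B) ∩ U are pairwise isomorphic. -/
theorem result {G : Type*} [Group G] [Finite G] (U : Subgroup G) (hU : IsCoatom U) (hcore : U.normalCore = ⊥) (A B : Subgroup G) [A.Normal] [B.Normal] (hA : A ≠ ⊥) (hB : B ≠ ⊥) (hAmin : ∀ K : Subgroup G, K.Normal → K ≤ A → K = ⊥ ∨ K = A) (hBmin : ∀ K : Subgroup G, K.Normal → K ≤ B → K = ⊥ ∨ K = B) (hAB : A ≠ B) : Subgroup.centralizer (B : Set G) = A ∧ Subgroup.centralizer (A : Set G) = B ∧ Subgroup.IsComplement' A U ∧ Subgroup.IsComplement' B U ∧ ¬ IsMulCommutative A ∧ Nonempty (A ≃* B) ∧ Nonempty (A ≃* ↥((A ⊔ B) ⊓ U)) := by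
  have hinf : A ⊓ B = ⊥ := by
    rcases hAmin (A ⊓ B) inferInstance inf_le_left with h | h
    · exact h
    · rcases hBmin A inferInstance (inf_eq_left.mp h) with h' | h'
      · exact absurd h' hA
      · exact absurd h' hAB
  obtain ⟨hCB, hcA, ⟨eB⟩⟩ := Basics.two_minimal hU hcore hA hB hinf
  obtain ⟨hCA, hcB, ⟨eA⟩⟩ := Basics.two_minimal hU hcore hB hA (by rw [inf_comm]; exact hinf)
  rw [sup_comm] at eA
  refine ⟨hCB, hCA, hcA, hcB, fun hab => ?_, ⟨eA.trans eB.symm⟩, ⟨eA⟩⟩
  have := Subgroup.le_centralizer A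
  rw [hCA] at this
  exact hA (by rw [eq_bot_iff, ← hinf]; exact le_inf le_rfl this)

end Cfsg.Agent.S0550
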