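import Cfsg.Statements.S0552
import Cfsg.Agent.Lib.Basics.Cores

set_option autoImplicit false
open Cfsg

namespace Cfsg.Agent.S0552

/-- Let σ be an automorphism of a finite solvable group G fixing every element of the Fitting subgroup. If σ is not the identity then the order of σ and the order of G have a common prime factor. -/
theorem result {G : Type*} [Group G] [Finite G] [Group.IsSolvable G] (σ : G ≃* G) (hσ : ∀ x ∈ Cfsg.fittingSubgroup G, σ x = x) (hne : σ ≠ MulEquiv.refl G) : ¬ (orderOf σ).Coprime (Nat.card G) := by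
  intro hcop
  refine hne (MulEquiv.ext fun x => ?_)
  set F := Cfsg.fittingSubgroup G
  haveI : F.Normal := Basics.fittingSubgroup_normal
  set z := x⁻¹ * σ x with hz
  have hzF : z ∈ F := Basics.centralizer_fittingSubgroup_le (Subgroup.mem_centralizer_iff.mpr fun f hf => by
    have h1 := hσ _ (Subgroup.Normal.conj_mem inferInstance f hf x)
    rw [map_mul, map_mul, map_inv, hσ f hf] at h1
    calc f * z = x⁻¹ * (x * f * x⁻¹) * σ x := by rw [hz]; group
      _ = x⁻¹ * (σ x * f * (σ x)⁻¹) * σ x := by rw [h1]
      _ = z * f := by rw [hz]; group)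
  have hpow : ∀ n : ℕ, (σ ^ n) x = x * z ^ n := by
    intro n
    induction n with
    | zero => simp
    | succ n ih =>
      rw [pow_succ']
      show σ ((σ ^ n) x) = _
      rw [ih, map_mul, hσ _ (pow_mem hzF n), pow_succ', ← mul_assoc, hz]
      group
  have h1 := hpow (orderOf σ)
  rw [pow_orderOf_eq_one] at h1
  have hz1 : z ^ orderOf σ = 1 := by simpa using h1.symm
  have : orderOf z = 1 := Nat.eq_one_of_dvd_coprimes hcop (orderOf_dvd_of_pow_eq_one hz1) (orderOf_dvd_natCard z)
  rw [orderOf_eq_one_iff, hz, inv_mul_eq_one] at this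
  exact this.symm

end Cfsg.Agent.S0552
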