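import Cfsg.Statements.S0553
import Cfsg.Agent.Lib.Basics.CoreFree

set_option autoImplicit false
open Cfsg

namespace Cfsg.Agent.S0553

universe u

theorem aux (n : ℕ) : ∀ (G : Type u) [Group G] [Finite G] [Group.IsSolvable G] [Nontrivial G],
    Nat.card G = n → (∀ M : Subgroup G, IsCoatom M → (Nat.card M).Coprime M.index) →
    ∃ p : ℕ, p.Prime ∧ p ∣ Nat.card G ∧ ∀ P : Sylow p G, (P : Subgroup G).Normal := by
  induction n using Nat.strong_induction_on with
  | _ n ih =>
  intro G _ _ _ _ hn h
  obtain ⟨N, hNn, -, hN, hmin⟩ := Basics.exists_minimal_normal (N := (⊤ : Subgroup G)) top_ne_bot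
  haveI := hNn
  obtain ⟨hab, p, hp, -, hNp⟩ := Basics.minimal_normal_solvable hN inferInstance hmin
  haveI := Fact.mk hp
  haveI := hab
  have hpN : p ∣ Nat.card N := by
    haveI := N.nontrivial_iff_ne_bot.mpr hN
    obtain ⟨k, hk⟩ := hNp.exists_card_eq
    rcases Nat.eq_zero_or_pos k with rfl | hk0
    · exact absurd (hk.trans (pow_zero p)) (Finite.one_lt_card (α := N)).ne'
    · exact hk ▸ dvd_pow_self p hk0.ne'
  by_cases hc : ∃ M : Subgroup G, IsCoatom M ∧ ¬ N ≤ M
  · obtain ⟨M, hM, hNM⟩ := hc
    have htop : N ⊔ M = ⊤ := by rw [sup_comm]; exact Basics.le_of_not_le_sup_eq_top hM hNM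
    have hinf : N ⊓ M = ⊥ := by
      have hn' : (N ⊓ M).Normal := by
        rw [← Subgroup.normalizer_eq_top_iff, eq_top_iff, ← htop, sup_le_iff]
        refine ⟨fun x hx => Subgroup.centralizer_le_normalizer _ (Subgroup.mem_centralizer_iff.mpr
          fun y hy => Subgroup.mem_centralizer_iff.mp (Subgroup.le_centralizer N hx) y hy.1), fun u hu => ?_⟩
        rw [← Basics.conj_smul_eq_self_iff, Subgroup.smul_inf,
          Basics.conj_smul_eq_self_iff.mpr (Subgroup.le_normalizer_of_normal (Subgroup.mem_top u)),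
          Basics.conj_smul_eq_self_iff.mpr (Subgroup.le_normalizer hu)]
      exact (hmin _ hn' inf_le_left).resolve_right fun e => hNM (inf_eq_left.mp e)
    have hcompl : Subgroup.IsComplement' N M := Subgroup.isComplement'_of_disjoint_and_mul_eq_univ
      (disjoint_iff.mpr hinf) (by rw [← Subgroup.normal_mul, htop]; rfl)
    have hcop := h M hM
    rw [hcompl.index_eq_card] at hcop
    refine ⟨p, hp, hpN.trans N.card_subgroup_dvd_card, fun P => ?_⟩
    have hle : N ≤ (P : Subgroup G) :=
      (Basics.le_pCore hNp).trans (Basics.pCore_le_sylow p P)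
    have hNM2 : Nat.card N * Nat.card M = Nat.card G := hcompl.card_mul
    obtain ⟨k, hk⟩ := P.2.exists_card_eq
    have hd : Nat.card (P : Subgroup G) ∣ Nat.card N := by
      refine Nat.Coprime.dvd_of_dvd_mul_right ?_ (hNM2 ▸ (P : Subgroup G).card_subgroup_dvd_card)
      rw [hk]
      exact ((hp.coprime_iff_not_dvd.mpr fun hd => hp.ne_one
        (Nat.eq_one_of_dvd_coprimes hcop hd hpN)).pow_left k)
    rw [← Subgroup.eq_of_le_of_card_ge hle (Nat.le_of_dvd Nat.card_pos hd)]
    exact hNn
  · push Not at hc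
    have hNΦ : N ≤ frattini G := le_iInf₂ fun M hM => hc M hM
    haveI : Nontrivial (G ⧸ N) := QuotientGroup.nontrivial_iff.mpr fun e => top_ne_bot (α := Subgroup G)
      (absurd (Order.radical_nongenerating (α := Subgroup G) (a := ⊥) (top_le_iff.mp (le_sup_of_le_right (e ▸ hNΦ)))) (bot_ne_top))
    obtain ⟨q, hq, hqd, hqn⟩ := ih _ (hn ▸ Basics.card_quotient_lt hN) (G ⧸ N) rfl (fun M hM => by
      have hco : IsCoatom (M.comap (QuotientGroup.mk' N)) :=
        Subgroup.isCoatom_comap_of_surjective (QuotientGroup.mk'_surjective N) hM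
      have := h _ hco
      rw [Subgroup.index_comap_of_surjective _ (QuotientGroup.mk'_surjective N), Basics.card_comap_mk'] at this
      exact this.coprime_dvd_left (dvd_mul_left _ _))
    haveI := Fact.mk hq
    refine ⟨q, hq, hqd.trans (Subgroup.card_quotient_dvd_card N), fun P => ?_⟩
    set K := (P : Subgroup G) ⊔ N
    haveI : K.Normal := by
      have h1 := hqn (P.mapSurjective (QuotientGroup.mk'_surjective N))
      rw [Sylow.coe_mapSurjective] at h1
      have h2 := h1.comap (QuotientGroup.mk' N)
      rwa [Subgroup.comap_map_eq, QuotientGroup.ker_mk'] at h2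
    have h3 := Sylow.normalizer_sup_eq_top' (N := K) P le_sup_left
    have h4 : Subgroup.normalizer ((P : Subgroup G) : Set G) ⊔ frattini G = ⊤ := by
      rw [eq_top_iff, ← h3]
      exact sup_le le_sup_left (sup_le (le_sup_of_le_left Subgroup.le_normalizer) (le_sup_of_le_right hNΦ))
    exact Subgroup.normalizer_eq_top_iff.mp (frattini_nongenerating h4)

/-- Let G be a nontrivial finite solvable group in which every maximal subgroup has order coprime to its index. Then for some prime p dividing the order of G the Sylow p-subgroups of G are normal. -/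
theorem result {G : Type*} [Group G] [Finite G] [Group.IsSolvable G] [Nontrivial G] (h : ∀ M : Subgroup G, IsCoatom M → (Nat.card M).Coprime M.index) : ∃ p : ℕ, p.Prime ∧ p ∣ Nat.card G ∧ ∀ P : Sylow p G, (P : Subgroup G).Normal := by
  exact aux _ G rfl h

end Cfsg.Agent.S0553
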