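import Cfsg.Statements.S0554
import Cfsg.Agent.Lib.Basics.Tools
import Cfsg.Agent.Lib.Basics.Cores

set_option autoImplicit false
open Cfsg

namespace Cfsg.Agent.S0554

theorem prod_split.{w} {H : Type w} [Group H] {N : Subgroup H} [N.Normal] :
    ∀ {t : ℕ} (S : Fin t → Subgroup H) (i : Fin t), N ≤ S i → ∀ (s : Fin t → H),
      (∀ j, s j ∈ S j) → ∀ n ∈ N, ∃ s' : Fin t → H, (∀ j, s' j ∈ S j) ∧
        (List.ofFn s).prod * n = (List.ofFn s').prod := by
  intro t
  induction t with
  | zero => exact fun S i => i.elim0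
  | succ t ih =>
    intro S i hi s hs n hn
    rcases Fin.eq_zero_or_eq_succ i with rfl | ⟨j, rfl⟩
    · set P := (List.ofFn fun k : Fin t => s k.succ).prod
      refine ⟨Fin.cons (s 0 * (P * n * P⁻¹)) fun k => s k.succ, fun k => ?_, ?_⟩
      · cases k using Fin.cases with
        | zero => simpa using mul_mem (hs 0) (hi ((inferInstance : N.Normal).conj_mem n hn P))
        | succ k => simpa using hs k.succ
      · simp only [List.ofFn_succ, List.prod_cons, Fin.cons_zero, Fin.cons_succ]
        simp only [P]
        group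
    · obtain ⟨s', hs', he⟩ := ih (fun k => S k.succ) j hi (fun k => s k.succ) (fun k => hs k.succ) n hn
      refine ⟨Fin.cons (s 0) s', Fin.cases (by simpa using hs 0) (fun k => by simpa using hs' k), ?_⟩
      simp only [List.ofFn_succ, List.prod_cons, Fin.cons_zero, Fin.cons_succ]
      rw [mul_assoc, he]

theorem product_aux.{w} : ∀ (k : ℕ) (G : Type w) [Group G] [Finite G] [Group.IsSolvable G],
    Nat.card G ≤ k → ∀ (t : ℕ) (p : Fin t → ℕ) (_ : ∀ i, (p i).Prime)
    (_ : ∀ q : ℕ, q.Prime → q ∣ Nat.card G → ∃ i, p i = q) (S : (i : Fin t) → Sylow (p i) G),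
    ∀ g : G, ∃ s : (i : Fin t) → G, (∀ i, s i ∈ (S i : Subgroup G)) ∧ g = (List.ofFn s).prod := by
  intro k
  induction k with
  | zero =>
    intro G _ _ _ hk
    exact absurd hk (Nat.not_le.mpr Nat.card_pos)
  | succ k ih =>
    intro G _ _ _ hk t p hp hall S g
    rcases subsingleton_or_nontrivial G with hs | hn
    · exact ⟨fun _ => 1, fun i => one_mem _, Subsingleton.elim _ _⟩
    obtain ⟨q, N, hq, hNn, hN, hNp⟩ := Basics.exists_normal_pGroup (G := G)
    haveI := hNn
    haveI := fun i => Fact.mk (hp i)
    obtain ⟨i, hi⟩ := hall q hq (by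
      have : Fact q.Prime := ⟨hq⟩
      exact ((hNp.card_eq_or_dvd).resolve_left (by rwa [Subgroup.card_eq_one])).trans
        (Subgroup.card_subgroup_dvd_card N))
    subst hi
    have hle : N ≤ (S i : Subgroup G) := hNp.le_sylow_of_normal (S i)
    obtain ⟨s, hs, he⟩ := ih (G ⧸ N) (Nat.lt_succ_iff.mp ((Basics.card_quotient_lt hN).trans_le hk))
      t p hp (fun r hr hd => hall r hr (hd.trans (Subgroup.card_quotient_dvd_card N)))
      (fun j => (S j).mapSurjective (QuotientGroup.mk'_surjective N)) (QuotientGroup.mk' N g)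
    have hlift : ∀ j, ∃ x ∈ (S j : Subgroup G), QuotientGroup.mk' N x = s j := fun j => by
      have := hs j
      rw [Sylow.coe_mapSurjective] at this
      exact Subgroup.mem_map.mp this
    choose x hx hxs using hlift
    have hn : (List.ofFn x).prod⁻¹ * g ∈ N := by
      rw [← QuotientGroup.eq_one_iff, ← QuotientGroup.mk'_apply, map_mul, map_inv, map_list_prod,
        List.map_ofFn, he, inv_mul_eq_one]
      congr 2
      funext j
      exact hxs j
    obtain ⟨s', hs', he'⟩ := prod_split (fun j => (S j : Subgroup G)) i hle x hx _ hn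
    exact ⟨s', hs', by rw [← he', mul_inv_cancel_left]⟩

/-- Let G be a finite solvable group and let S assign to each of t distinct primes, including every prime divisor of the order of G, a Sylow subgroup of G. Then every element of G is a product s_0 s_1 ⋯ s_(t-1) with s_i in S i, the factors taken in the given order. -/
theorem result {G : Type*} [Group G] [Finite G] [Group.IsSolvable G] (t : ℕ) (p : Fin t → ℕ) (hp : ∀ i, (p i).Prime) (hinj : Function.Injective p) (hall : ∀ q : ℕ, q.Prime → q ∣ Nat.card G → ∃ i, p i = q) (S : (i : Fin t) → Sylow (p i) G) : ∀ g : G, ∃ s : (i : Fin t) → G, (∀ i, s i ∈ (S i : Subgroup G)) ∧ g = (List.ofFn s).prod := by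
  exact product_aux _ G le_rfl t p hp hall S

end Cfsg.Agent.S0554
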