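import Cfsg.Statements.S0555
import Cfsg.Agent.Lib.Basics.Tools

set_option autoImplicit false
open Cfsg

namespace Cfsg.Agent.S0555

open scoped commutatorElement

/-- Let i ≥ 1. If in the derived series of a group the quotient of the i-th term by the (i+1)-st and the quotient of the (i+1)-st by the (i+2)-nd are both cyclic, then the (i+1)-st and (i+2)-nd terms coincide. -/
theorem result {G : Type*} [Group G] (i : ℕ) (hi : 1 ≤ i) (h₁ : IsCyclic (↥(derivedSeries G i) ⧸ (derivedSeries G (i + 1)).subgroupOf (derivedSeries G i))) (h₂ : IsCyclic (↥(derivedSeries G (i + 1)) ⧸ (derivedSeries G (i + 2)).subgroupOf (derivedSeries G (i + 1)))) : derivedSeries G (i + 1) = derivedSeries G (i + 2) := by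
  set X := derivedSeries G i
  set Y := derivedSeries G (i + 1)
  set T := derivedSeries G (i + 2)
  have hYX : Y ≤ X := derivedSeries_antitone G (Nat.le_succ i)
  have hTY : T ≤ Y := derivedSeries_antitone G (Nat.le_succ (i + 1))
  refine le_antisymm ?_ hTY
  have hTn : T.Normal := derivedSeries_normal G (i + 2)
  haveI := hTn
  set π := QuotientGroup.mk' T
  have gen : ∀ {A B : Subgroup G}, B ≤ A → ∀ [(B.subgroupOf A).Normal],
      ∀ a : A, (∀ z : A ⧸ B.subgroupOf A, ∃ s : ℤ, (QuotientGroup.mk a : A ⧸ B.subgroupOf A) ^ s = z) →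
      ∀ x ∈ A, ∃ s : ℤ, ∃ y ∈ B, x = (a : G) ^ s * y := by
    intro A B _ hn a ha x hx
    obtain ⟨s, hs⟩ := ha (QuotientGroup.mk ⟨x, hx⟩)
    rw [← QuotientGroup.mk_zpow, QuotientGroup.eq, Subgroup.mem_subgroupOf] at hs
    exact ⟨s, _, hs, by simp⟩
  haveI hXn : X.Normal := derivedSeries_normal G i
  haveI hYn : Y.Normal := derivedSeries_normal G (i + 1)
  obtain ⟨a, ha⟩ := h₁.exists_generator
  obtain ⟨a, rfl⟩ := QuotientGroup.mk_surjective a
  obtain ⟨b, hb⟩ := h₂.exists_generator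
  obtain ⟨b, rfl⟩ := QuotientGroup.mk_surjective b
  have hX := gen hYX a (fun z => Subgroup.mem_zpowers_iff.mp (ha z))
  have hY := gen hTY b (fun z => Subgroup.mem_zpowers_iff.mp (hb z))
  have hkerY : ∀ y ∈ Y, ∃ t : ℤ, π y = π (b : G) ^ t := fun y hy => by
    obtain ⟨t, w, hw, rfl⟩ := hY y hy
    exact ⟨t, by rw [map_mul, map_zpow, (show π w = 1 from (QuotientGroup.eq_one_iff w).mpr hw), mul_one]⟩
  let C := (Subgroup.centralizer ({π (b : G)} : Set (G ⧸ T))).comap π
  have hC : _root_.commutator G ≤ C := by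
    refine Subgroup.commutator_le.mpr fun g _ h _ => ?_
    have conjb : ∀ g : G, ∃ m : ℤ, π g * π (b : G) * (π g)⁻¹ = π (b : G) ^ m := fun g => by
      obtain ⟨m, hm⟩ := hkerY _ (hYn.conj_mem b b.2 g)
      exact ⟨m, by rw [← hm, map_mul, map_mul, map_inv]⟩
    obtain ⟨m, hm⟩ := conjb g
    obtain ⟨n, hn⟩ := conjb h
    show π ⁅g, h⁆ ∈ Subgroup.centralizer _
    rw [Subgroup.mem_centralizer_singleton_iff]
    set B := π (b : G)
    have e1 : π g * π h * B * (π g * π h)⁻¹ = B ^ (m * n) := by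
      rw [show π g * π h * B * (π g * π h)⁻¹ = π g * (π h * B * (π h)⁻¹) * (π g)⁻¹ by group, hn,
        ← conj_zpow, hm, zpow_mul]
    have e2 : π h * π g * B * (π h * π g)⁻¹ = B ^ (m * n) := by
      rw [show π h * π g * B * (π h * π g)⁻¹ = π h * (π g * B * (π g)⁻¹) * (π h)⁻¹ by group, hm,
        ← conj_zpow, hn, ← zpow_mul, mul_comm n m]
    have e3 := e1.trans e2.symm
    rw [commutatorElement_def, map_mul, map_mul, map_mul, map_inv, map_inv]
    obtain ⟨r, hr⟩ := conjb (h * g)⁻¹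
    rw [map_inv, map_mul, inv_inv] at hr
    have e5 : π g * π h * B ^ r * (π g * π h)⁻¹ = π h * π g * B ^ r * (π h * π g)⁻¹ := by
      rw [← conj_zpow, ← conj_zpow, e3]
    calc π g * π h * (π g)⁻¹ * (π h)⁻¹ * B
        = π g * π h * ((π h * π g)⁻¹ * B * (π h * π g)) * (π g * π h)⁻¹ * (π g * π h * (π g)⁻¹ * (π h)⁻¹) := by group
      _ = π h * π g * B ^ r * (π h * π g)⁻¹ * (π g * π h * (π g)⁻¹ * (π h)⁻¹) := by rw [hr, e5]
      _ = B * (π g * π h * (π g)⁻¹ * (π h)⁻¹) := by rw [← hr]; group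
  have hXC : X ≤ C := (derivedSeries_antitone G hi).trans ((derivedSeries_one G).le.trans hC)
  have hab : Commute (π (a : G)) (π (b : G)) :=
    Subgroup.mem_centralizer_singleton_iff.mp (hXC a.2)
  show derivedSeries G (i + 1) ≤ T
  rw [derivedSeries_succ]
  refine Subgroup.commutator_le.mpr fun x hx y hy => ?_
  rw [← QuotientGroup.eq_one_iff, ← QuotientGroup.mk'_apply, map_commutatorElement, commutatorElement_eq_one_iff_commute]
  obtain ⟨s, u, hu, rfl⟩ := hX x hx
  obtain ⟨s', u', hu', rfl⟩ := hX y hy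
  obtain ⟨t, ht⟩ := hkerY u hu
  obtain ⟨t', ht'⟩ := hkerY u' hu'
  simp only [map_mul, map_zpow]
  rw [ht, ht']
  exact (((Commute.refl _).zpow_zpow s s').mul_right (hab.zpow_zpow s t')).mul_left
    ((hab.symm.zpow_zpow t s').mul_right ((Commute.refl _).zpow_zpow t t'))

end Cfsg.Agent.S0555
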