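import Cfsg.Statements.S0556
import Cfsg.Agent.Lib.Basics.FrobeniusBasic
import Cfsg.Agent.Lib.Basics.ThompsonFpf
import Cfsg.Agent.Lib.Basics.CoreFree

set_option autoImplicit false
open Cfsg

namespace Cfsg.Agent.S0556

open scoped Pointwise

/-- If a finite group has a maximal subgroup that is abelian, then the third term of its derived series is trivial (so the group is solvable of derived length at most three). -/
theorem result {G : Type*} [Group G] [Finite G] (A : Subgroup G) (hA : IsCoatom A) [IsMulCommutative A] : derivedSeries G 3 = ⊥ := by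
  by_cases hAn : A.Normal
  · haveI := hAn
    haveI : Nontrivial (G ⧸ A) := QuotientGroup.nontrivial_iff.mpr hA.1
    obtain ⟨x, hx⟩ := exists_ne (1 : G ⧸ A)
    have htop : Subgroup.zpowers x = ⊤ := by
      by_contra hne
      have hco : A ≤ (Subgroup.zpowers x).comap (QuotientGroup.mk' A) := fun a ha => by
        rw [Subgroup.mem_comap, (show QuotientGroup.mk' A a = 1 from (QuotientGroup.eq_one_iff a).mpr ha)]
        exact one_mem _
      rcases hA.le_iff.mp hco with h | h
      · exact hne (Subgroup.comap_injective (QuotientGroup.mk'_surjective A) (by rw [h, Subgroup.comap_top]))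
      · apply hx
        obtain ⟨g, rfl⟩ := QuotientGroup.mk'_surjective A x
        exact (QuotientGroup.eq_one_iff g).mpr (h.le (Subgroup.mem_zpowers _))
    haveI : IsCyclic (G ⧸ A) := (isCyclic_iff_exists_zpowers_eq_top).mpr ⟨x, htop⟩
    have h1 : derivedSeries G 1 ≤ A := by
      rw [derivedSeries_one]
      exact Subgroup.Normal.quotient_commutative_iff_commutator_le.mp inferInstance
    rw [eq_bot_iff]
    refine (derivedSeries_antitone G (by norm_num : 2 ≤ 3)).trans ?_
    rw [derivedSeries_succ]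
    exact (Subgroup.commutator_mono h1 h1).trans (Subgroup.commutator_self_eq_bot_iff.mpr inferInstance).le
  have hN : Subgroup.normalizer (A : Set G) = A := (hA.le_iff.mp Subgroup.le_normalizer).resolve_left
    fun h => hAn (Subgroup.normalizer_eq_top_iff.mp h)
  set Z := Subgroup.center G
  have hZA : Z ≤ A := ((Subgroup.center_le_centralizer (A : Set G)).trans (Subgroup.centralizer_le_normalizer _)).trans hN.le
  set π := QuotientGroup.mk' Z
  have hsurj : Function.Surjective π := QuotientGroup.mk'_surjective Z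
  set B := A.map π
  have hBA : B.comap π = A := by
    rw [Subgroup.comap_map_eq, QuotientGroup.ker_mk', sup_eq_left.mpr hZA]
  have hcent : ∀ g, g ∉ A → A ⊓ MulAut.conj g • A ≤ Z := by
    intro g hg x hx
    rw [Subgroup.mem_center_iff]
    intro y
    have hne : ¬ (MulAut.conj g • A : Subgroup G) ≤ A := fun h => hg (hN.le
      (Basics.conj_smul_eq_self_iff.mp (Subgroup.eq_of_le_of_card_ge h (Basics.card_conj_smul g A).ge)))
    have htop : A ⊔ MulAut.conj g • A ≤ Subgroup.centralizer {x} := by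
      refine sup_le (fun a ha => Subgroup.mem_centralizer_singleton_iff.mpr ?_) ?_
      · exact congrArg Subtype.val (mul_comm' (⟨a, ha⟩ : A) ⟨x, hx.1⟩)
      · rintro _ ⟨a, ha, rfl⟩
        obtain ⟨b, hb, rfl⟩ := hx.2
        refine Subgroup.mem_centralizer_singleton_iff.mpr ?_
        show (g * a * g⁻¹) * (g * b * g⁻¹) = (g * b * g⁻¹) * (g * a * g⁻¹)
        have e : a * b = b * a := congrArg Subtype.val (mul_comm' (⟨a, ha⟩ : A) ⟨b, hb⟩)
        rw [show (g * a * g⁻¹) * (g * b * g⁻¹) = g * (a * b) * g⁻¹ by group, e]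
        group
    rw [Basics.le_of_not_le_sup_eq_top hA hne] at htop
    exact Subgroup.mem_centralizer_singleton_iff.mp (htop (Subgroup.mem_top y))
  have hB1 : B ≠ ⊥ := by
    intro h
    rw [Subgroup.map_eq_bot_iff, QuotientGroup.ker_mk'] at h
    apply hAn
    rw [le_antisymm h hZA]
    infer_instance
  have hBtop : B ≠ ⊤ := fun h => hA.1 (by rw [← hBA, h, Subgroup.comap_top])
  have hBco : IsCoatom B := by
    refine ⟨hBtop, fun C hC => ?_⟩
    have : A < C.comap π := by
      rw [← hBA]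
      exact lt_of_le_of_ne (Subgroup.comap_mono hC.le) fun e => hC.ne (Subgroup.comap_injective hsurj e)
    apply Subgroup.comap_injective hsurj
    rw [hA.2 _ this, Subgroup.comap_top]
  have hF : Cfsg.IsFrobeniusComplement B := by
    refine ⟨hB1, hBtop, fun gb hgb => ?_⟩
    obtain ⟨g, rfl⟩ := hsurj gb
    have hg : g ∉ A := fun h => hgb (Subgroup.mem_map_of_mem π h)
    rw [eq_bot_iff]
    rintro _ ⟨⟨a, ha, rfl⟩, hy⟩
    obtain ⟨_, ⟨b, hb, rfl⟩, e⟩ := hy
    change π g * π b * (π g)⁻¹ = π a at e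
    rw [← map_inv, ← map_mul, ← map_mul, QuotientGroup.mk'_apply, QuotientGroup.mk'_apply, QuotientGroup.eq] at e
    rw [Subgroup.mem_bot]
    refine (QuotientGroup.eq_one_iff a).mpr (hcent g hg ⟨ha, ?_⟩)
    refine ⟨b * ((g * b * g⁻¹)⁻¹ * a), mul_mem hb (hZA e), ?_⟩
    change g * (b * ((g * b * g⁻¹)⁻¹ * a)) * g⁻¹ = a
    set c := (g * b * g⁻¹)⁻¹ * a with hc
    calc g * (b * c) * g⁻¹ = g * b * (c * g⁻¹) := by group
      _ = g * b * (g⁻¹ * c) := by rw [Subgroup.mem_center_iff.mp e g⁻¹]
      _ = a := by rw [hc]; group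
  obtain ⟨N, -, hNn, hNB, -⟩ := Basics.frobenius_kernel_exists hF
  haveI := hNn
  have hne : Nat.card B ≠ 1 := by rwa [Ne, Subgroup.card_eq_one]
  obtain ⟨p, hp, hpB⟩ := Nat.exists_prime_and_dvd hne
  haveI := Fact.mk hp
  obtain ⟨x, hx⟩ := exists_prime_orderOf_dvd_card' p hpB
  rw [← Subgroup.orderOf_coe] at hx
  have hNnil : Group.IsNilpotent N := Basics.isNilpotent_of_conj_fpf N hx fun n hn hcomm => by
    by_contra hn1
    have hnB : n ∉ B := fun h => hn1 (Subgroup.mem_bot.mp (hNB.disjoint.eq_bot ▸ (⟨hn, h⟩ : n ∈ N ⊓ B)))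
    have : (x : G ⧸ Z) ∈ B ⊓ MulAut.conj n • B := ⟨x.2, (x : G ⧸ Z), x.2, by
      change n * x * n⁻¹ = x
      rw [← hcomm]; group⟩
    rw [hF.2.2 n hnB, Subgroup.mem_bot] at this
    rw [this, orderOf_one] at hx
    exact hp.ne_one hx.symm
  have hNab : ⁅N, N⁆ = ⊥ := by
    have hle : ⁅N, N⁆ ≤ N := N.commutator_le_self
    rcases hBco.le_iff.mp (le_sup_right : B ≤ ⁅N, N⁆ ⊔ B) with h | h
    · by_contra hne
      have e := Basics.eq_of_le_of_sup_eq_top hle h (hNB.disjoint.eq_bot)
      haveI : Nontrivial N := N.nontrivial_iff_ne_bot.mpr (fun h0 => hne (by rw [h0]; simp))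
      apply (Group.IsSolvable.commutator_lt_top_of_nontrivial N).ne
      apply Subgroup.map_injective N.subtype_injective
      rw [Subgroup.map_subtype_commutator, e, ← MonoidHom.range_eq_map, Subgroup.range_subtype]
    · rw [eq_bot_iff, ← hNB.disjoint.eq_bot]
      exact le_inf hle (le_sup_left.trans h.le)
  have hcomm : _root_.commutator (G ⧸ Z) ≤ N := by
    rw [← Subgroup.Normal.quotient_commutative_iff_commutator_le]
    refine ⟨⟨fun a b => ?_⟩⟩
    have surjB : ∀ q : (G ⧸ Z) ⧸ N, ∃ y ∈ B, QuotientGroup.mk' N y = q := by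
      intro q
      obtain ⟨g, rfl⟩ := QuotientGroup.mk'_surjective N q
      obtain ⟨⟨n, y⟩, rfl⟩ := hNB.2 g
      refine ⟨y, y.2, ?_⟩
      show _ = QuotientGroup.mk' N ((n : G ⧸ Z) * y)
      rw [map_mul, (show QuotientGroup.mk' N (n : G ⧸ Z) = 1 from (QuotientGroup.eq_one_iff _).mpr n.2), one_mul]
    obtain ⟨_, ⟨a', ha, rfl⟩, rfl⟩ := surjB a
    obtain ⟨_, ⟨b', hb, rfl⟩, rfl⟩ := surjB b
    have e : a' * b' = b' * a' := congrArg Subtype.val (mul_comm' (⟨a', ha⟩ : A) ⟨b', hb⟩)
    rw [← map_mul, ← map_mul, ← map_mul, ← map_mul, e]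
  have h2 : derivedSeries G 2 ≤ Z := by
    rw [← QuotientGroup.ker_mk' Z, ← Subgroup.map_eq_bot_iff, eq_bot_iff,
      map_derivedSeries_eq hsurj, ← hNab, derivedSeries_succ, derivedSeries_one]
    exact Subgroup.commutator_mono hcomm hcomm
  rw [derivedSeries_succ, Subgroup.commutator_eq_bot_iff_le_centralizer]
  exact h2.trans (Subgroup.center_le_centralizer _)

end Cfsg.Agent.S0556
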