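import Cfsg.Statements.S0558
import Cfsg.Agent.Lib.Basics.FocalHall

set_option autoImplicit false
open Cfsg

namespace Cfsg.Agent.S0558

/-- Let H be a subgroup of a finite group G that is not a Sylow subgroup of G for any prime, and suppose that for every prime p dividing the order of H and every Sylow p-subgroup P of H the normalizer of P in G is exactly H. Then some normal subgroup of G is a complement to H. -/
theorem result {G : Type*} [Group G] [Finite G] (H : Subgroup G) (hnot : ∀ p : ℕ, p.Prime → ∀ P : Sylow p G, (P : Subgroup G) ≠ H) (hnorm : ∀ p : ℕ, p.Prime → p ∣ Nat.card H → ∀ P : Sylow p H, Subgroup.normalizer (((P : Subgroup H).map H.subtype : Subgroup G) : Set G) = H) : ∃ N : Subgroup G, N.Normal ∧ Subgroup.IsComplement' N H := by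
  have hsyl : ∀ p : ℕ, p.Prime → p ∣ Nat.card H → ∃ S : Sylow p G,
      (S : Subgroup G) ≤ H ∧ Subgroup.normalizer ((S : Subgroup G) : Set G) = H := by
    intro p hp hpH
    haveI := Fact.mk hp
    let P : Sylow p H := default
    set P' := (P : Subgroup H).map H.subtype with hP'
    obtain ⟨S, hS⟩ := (P.2.map H.subtype).exists_le_sylow
    have hN := hnorm p hp hpH P
    have heq : (S : Subgroup G) = P' := by
      by_contra hne
      haveI := S.2.isNilpotent
      have hlt : P'.subgroupOf S < ⊤ := by
        rw [lt_top_iff_ne_top, Ne, Subgroup.subgroupOf_eq_top]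
        exact fun h => hne (le_antisymm h hS)
      have hgrow := normalizerCondition_of_isNilpotent (G := (S : Subgroup G)) _ hlt
      obtain ⟨x, hx, hxn⟩ := SetLike.exists_of_lt hgrow
      have hxH : (x : G) ∈ H := by
        rw [← hN]
        refine Subgroup.mem_normalizer_iff.mpr fun y => ⟨fun hy => ?_, fun hy => ?_⟩
        · exact (Subgroup.mem_normalizer_iff.mp hx ⟨y, hS hy⟩).mp hy
        · have hyS : x.1⁻¹ * (x * y * (x : G)⁻¹) * x ∈ (S : Subgroup G) :=
            mul_mem (mul_mem ((S : Subgroup G).inv_mem x.2) (hS hy)) x.2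
          have e : y = x.1⁻¹ * (x * y * (x : G)⁻¹) * x := by group
          rw [← e] at hyS
          exact (Subgroup.mem_normalizer_iff.mp hx ⟨y, hyS⟩).mpr hy
      have hle : (P : Subgroup H) ≤ (S : Subgroup G).subgroupOf H := fun y hy =>
        hS ⟨y, hy, rfl⟩
      have := P.3 (S.2.comap_of_injective H.subtype H.subtype_injective) hle
      exact hxn ⟨⟨x, hxH⟩, this.le x.2, rfl⟩
    exact ⟨S, heq ▸ Subgroup.map_subtype_le _, by rw [heq]; exact hN⟩
  have hH : (Nat.card H).Coprime H.index := Nat.coprime_of_dvd fun p hp hpH hpi => by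
    haveI := Fact.mk hp
    obtain ⟨S, hS, -⟩ := hsyl p hp hpH
    exact S.not_dvd_index (hpi.trans (Subgroup.index_dvd_of_le hS))
  have hnil : Group.IsNilpotent H := by
    refine (Group.isNilpotent_of_finite_tfae (G := H)).out 0 3 rfl rfl |>.mpr fun p hp P => ?_
    by_cases hpH : p ∣ Nat.card H
    · have hN := hnorm p hp.out hpH P
      rw [← Subgroup.normalizer_eq_top_iff, eq_top_iff]
      intro h _
      refine Subgroup.mem_normalizer_iff.mpr fun y => ?_
      have := Subgroup.mem_normalizer_iff.mp (hN.ge h.2) (y : G)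
      refine ⟨fun hy => ?_, fun hy => ?_⟩
      · obtain ⟨z, hz, e⟩ := this.mp ⟨y, hy, rfl⟩
        have e' : h * y * h⁻¹ = z := Subtype.ext e.symm
        exact e'.symm ▸ hz
      · obtain ⟨z, hz, e⟩ := this.mpr ⟨_, hy, rfl⟩
        have e' : z = y := Subtype.ext e
        exact e' ▸ hz
    · haveI := hp
      have : (P : Subgroup H) = ⊥ := by
        rw [← Subgroup.card_eq_one, P.card_eq_multiplicity, Nat.factorization_eq_zero_of_not_dvd hpH, pow_zero]
      rw [this]
      infer_instance
  obtain ⟨c, hc⟩ := H.isNilpotent_iff_lowerCentralSeries.mp hnil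
  refine Basics.exists_normal_complement_of_focal_iter c G H hH ?_
  have hle : ∀ i, (fun K : Subgroup G => K.focalSubgroup)^[i] H ≤ H.lowerCentralSeries i := by
    intro i
    induction i with
    | zero => exact le_rfl
    | succ i hi =>
      rw [Function.iterate_succ_apply']
      refine (Basics.focal_mono hi).trans (Basics.focal_le_commutator hnot hsyl
        (H.lowerCentralSeries_antitone (Nat.zero_le i)) ?_)
      exact H.self_le_normalizer_lowerCentralSeries (i + 1)
  exact eq_bot_iff.mpr ((hle c).trans hc.le)

end Cfsg.Agent.S0558
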