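import Cfsg.Statements.S0559
import Cfsg.Agent.Lib.Basics.Products

set_option autoImplicit false
open Pointwise
open Cfsg

namespace Cfsg.Agent.S0559

/-- Let G = HK be a finite group (every element a product of an element of H and an element of K), and let A and B be conjugates of H and K. Then every element is a product of an element of A and one of B, and there is g with A = gHg⁻¹ and B = gKg⁻¹ simultaneously. -/
theorem result {G : Type*} [Group G] [Finite G] (H K A B : Subgroup G) (hHK : ∀ g : G, ∃ h ∈ H, ∃ k ∈ K, g = h * k) (hA : ∃ x : G, A = MulAut.conj x • H) (hB : ∃ y : G, B = MulAut.conj y • K) : (∀ g : G, ∃ a ∈ A, ∃ b ∈ B, g = a * b) ∧ ∃ g : G, A = MulAut.conj g • H ∧ B = MulAut.conj g • K := by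
  obtain ⟨x, rfl⟩ := hA
  obtain ⟨y, rfl⟩ := hB
  obtain ⟨g, h, hh, k, hk, e1, e2⟩ := Basics.exists_common_conj hHK x y
  have hA : MulAut.conj x • H = MulAut.conj g • H := by
    rw [← e1, map_mul, mul_smul, Basics.conj_smul_eq_of_mem_normalizer (Subgroup.le_normalizer hh)]
  have hB : MulAut.conj y • K = MulAut.conj g • K := by
    rw [← e2, map_mul, mul_smul, Basics.conj_smul_eq_of_mem_normalizer (Subgroup.le_normalizer hk)]
  refine ⟨fun z => ?_, g, hA, hB⟩
  obtain ⟨a, ha, b, hb, e⟩ := hHK (g⁻¹ * z * g)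
  refine ⟨g * a * g⁻¹, hA ▸ Basics.conj_mem_conj_smul ha, g * b * g⁻¹, hB ▸ Basics.conj_mem_conj_smul hb, ?_⟩
  rw [show g * a * g⁻¹ * (g * b * g⁻¹) = g * (a * b) * g⁻¹ by group, ← e]
  group

end Cfsg.Agent.S0559
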