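import Cfsg.Statements.S0562
import Cfsg.Agent.Lib.Basics.Products

set_option autoImplicit false
open Cfsg

namespace Cfsg.Agent.S0562

open scoped Pointwise

/-- Let the finite group G be the product HK of subgroups, A normal in H, B normal in K, and L the normalizer of the subgroup generated by A and B. Then every element of L is a product of an element of L ∩ H and an element of L ∩ K. -/
theorem result {G : Type*} [Group G] [Finite G] (H K A B : Subgroup G) (hHK : ∀ g : G, ∃ h ∈ H, ∃ k ∈ K, g = h * k) (hA : A ≤ H) (hAn : (A.subgroupOf H).Normal) (hB : B ≤ K) (hBn : (B.subgroupOf K).Normal) : ∀ g ∈ Subgroup.normalizer ((A ⊔ B : Subgroup G) : Set G), ∃ h ∈ Subgroup.normalizer ((A ⊔ B : Subgroup G) : Set G) ⊓ H, ∃ k ∈ Subgroup.normalizer ((A ⊔ B : Subgroup G) : Set G) ⊓ K, g = h * k := by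
  intro g hg
  obtain ⟨h, hh, k, hk, rfl⟩ := hHK g
  set J := A ⊔ B
  have hhA : h ∈ Subgroup.normalizer (A : Set G) :=
    (Subgroup.normal_subgroupOf_iff_le_normalizer hA).mp hAn hh
  have hkB : k ∈ Subgroup.normalizer (B : Set G) :=
    (Subgroup.normal_subgroupOf_iff_le_normalizer hB).mp hBn hk
  have e : MulAut.conj h⁻¹ • J = MulAut.conj k • J := by
    have h1 := Basics.conj_smul_eq_of_mem_normalizer hg
    rw [map_mul, mul_smul] at h1
    conv_lhs => rw [← h1]
    rw [← mul_smul, ← map_mul, inv_mul_cancel, map_one, one_smul]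
  have hJ : MulAut.conj k • J = J := by
    refine (Subgroup.eq_of_le_of_card_ge ?_ (Basics.card_conj_smul k J).le).symm
    refine sup_le ?_ ?_
    · rw [← e, ← Basics.conj_smul_eq_of_mem_normalizer (Subgroup.inv_mem _ hhA)]
      exact Subgroup.map_mono le_sup_left
    · conv_lhs => rw [← Basics.conj_smul_eq_of_mem_normalizer hkB]
      exact Subgroup.map_mono le_sup_right
  have hkL := Basics.conj_smul_eq_self_iff.mp hJ
  refine ⟨h, ⟨?_, hh⟩, k, ⟨hkL, hk⟩, rfl⟩
  simpa using Subgroup.mul_mem _ hg (Subgroup.inv_mem _ hkL)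

end Cfsg.Agent.S0562
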