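import Cfsg.Statements.S0563
import Cfsg.Agent.Lib.Basics.KegelWielandt
import Cfsg.Agent.S0561

set_option autoImplicit false
open Pointwise
open Cfsg

namespace Cfsg.Agent.S0563

/-- If a finite group G is the product AB of two nilpotent subgroups of coprime orders, then G is solvable, and for every Sylow p-subgroup P of A and Sylow q-subgroup Q of B the product set PQ is a subgroup. -/
theorem result {G : Type*} [Group G] [Finite G] (A B : Subgroup G) (hA : Group.IsNilpotent A) (hB : Group.IsNilpotent B) (hcop : (Nat.card A).Coprime (Nat.card B)) (hAB : ∀ g : G, ∃ a ∈ A, ∃ b ∈ B, g = a * b) : Group.IsSolvable G ∧ ∀ (p q : ℕ) [Fact p.Prime] [Fact q.Prime] (P : Sylow p A) (Q : Sylow q B), ∃ S : Subgroup G, (S : Set G) = (((P : Subgroup A).map A.subtype : Subgroup G) : Set G) * (((Q : Subgroup B).map B.subtype : Subgroup G) : Set G) := by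
  haveI := Basics.KW.isSolvable_of_product A B hA hB hAB
  refine ⟨inferInstance, ?_⟩
  intro p q _ _ P Q
  have hd : A ⊓ B = ⊥ := disjoint_iff.mp (Subgroup.disjoint_of_coprime_natCard hcop)
  have hG : Nat.card G = Nat.card A * Nat.card B := by
    rw [← Subgroup.card_top (G := G)]
    exact Basics.KW.card_prod le_top le_top (fun g _ => hAB g) hd
  have key : ∀ {r : ℕ} [Fact r.Prime] {A B : Subgroup G}, Group.IsNilpotent A →
      (Nat.card A).Coprime (Nat.card B) → Nat.card G = Nat.card A * Nat.card B → ∀ P : Sylow r A,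
      (((P : Subgroup A).map A.subtype).subgroupOf A).Normal ∧
      (Nat.card ((P : Subgroup A).map A.subtype : Subgroup G)).Coprime ((P : Subgroup A).map A.subtype).index := by
    intro r hr A B hA hc hG P
    constructor
    · rw [Subgroup.subgroupOf, Subgroup.comap_map_eq_self_of_injective A.subtype_injective]
      exact (((Group.isNilpotent_of_finite_tfae (G := A)).out 0 3 rfl rfl).mp hA) r inferInstance P
    · rw [Subgroup.index_map_subtype, Subgroup.card_map_of_injective A.subtype_injective]
      have hi : A.index = Nat.card B :=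
        Nat.eq_of_mul_eq_mul_left (Nat.card_pos (α := A)) (by rw [A.card_mul_index, hG])
      rw [hi]
      refine Nat.Coprime.mul_right ?_ (hc.coprime_dvd_left (Subgroup.card_subgroup_dvd_card _))
      obtain ⟨k, hk⟩ := P.2.exists_card_eq
      rw [hk]
      exact ((hr.out.coprime_iff_not_dvd).mpr P.not_dvd_index).pow_left k
  obtain ⟨hP, hPh⟩ := key hA hcop hG P
  obtain ⟨hQ, hQh⟩ := key hB hcop.symm (hG.trans (mul_comm _ _)) Q
  obtain ⟨S, hS⟩ := S0561.result A B _ _ hAB (Subgroup.map_subtype_le _) hP (Subgroup.map_subtype_le _) hQ hPh hQh 1 1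
  refine ⟨S, ?_⟩
  rw [map_one, one_smul, one_smul] at hS
  exact hS

end Cfsg.Agent.S0563
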