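import Cfsg.Statements.S0566
import Cfsg.Agent.Lib.Basics.Permute

set_option autoImplicit false
open Pointwise
open Cfsg

namespace Cfsg.Agent.S0566

/-- Let A and B be nontrivial subgroups of a finite group G such that for every x the product set of A and xBx⁻¹ is a proper subgroup of G. Then there is a proper normal subgroup of G containing A or containing B. -/
theorem result {G : Type*} [Group G] [Finite G] (A B : Subgroup G) (hA : A ≠ ⊥) (hB : B ≠ ⊥) (h : ∀ x : G, ∃ S : Subgroup G, S ≠ ⊤ ∧ (S : Set G) = (A : Set G) * ((MulAut.conj x • B : Subgroup G) : Set G)) : ∃ N : Subgroup G, N.Normal ∧ N ≠ ⊤ ∧ (A ≤ N ∨ B ≤ N) := by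
  let P : Subgroup G → Prop := fun C => B ≤ C ∧ ∀ y : G,
    Basics.Perm (MulAut.conj y • A) C ∧ MulAut.conj y • A ⊔ C ≠ ⊤
  have hB0 : P B := by
    refine ⟨le_rfl, fun y => ?_⟩
    obtain ⟨S, hS, hSeq⟩ := h y⁻¹
    have hp := Basics.Perm.of_eq hSeq
    have hp' := hp.conj y
    rw [← mul_smul, ← map_mul, mul_inv_cancel, map_one, one_smul] at hp'
    refine ⟨hp', fun e => hS ?_⟩
    have e' := congrArg (MulAut.conj y⁻¹ • ·) e
    simp only [Subgroup.smul_sup] at e'
    rw [← mul_smul, ← map_mul, inv_mul_cancel, map_one, one_smul] at e'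
    apply SetLike.coe_injective
    rw [hSeq, ← hp.coe_sup, e']
    exact congrArg _ (by rw [Basics.conj_smul_eq_self_iff, Subgroup.normalizer_eq_top_iff.mpr inferInstance]; trivial)
  obtain ⟨C, -, hC⟩ := (Set.toFinite {C | P C}).exists_le_maximal hB0
  obtain ⟨hBC, hperm⟩ := hC.prop
  by_cases hn : Subgroup.normalClosure (A : Set G) ≤ Subgroup.normalizer (C : Set G)
  · rcases eq_or_ne (Subgroup.normalClosure (A : Set G)) ⊤ with htop | htop
    · refine ⟨C, Subgroup.normalizer_eq_top_iff.mp (top_le_iff.mp (htop ▸ hn)), fun hCt => ?_, Or.inr hBC⟩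
      exact (hperm 1).2 (by rw [hCt, sup_top_eq])
    · exact ⟨_, inferInstance, htop, Or.inl Subgroup.le_normalClosure⟩
  exfalso
  apply hn
  rw [Subgroup.normalClosure, Subgroup.closure_le]
  intro z hz
  obtain ⟨a, ha, haz⟩ := Group.mem_conjugatesOfSet_iff.mp hz
  obtain ⟨x, hx⟩ := isConj_iff.mp haz
  set X := MulAut.conj x • A with hX
  have hzX : z ∈ X := hx ▸ Basics.conj_mem_conj_smul ha
  set C' := ⨆ w : X, MulAut.conj (w : G) • C with hC'
  have hCC' : C ≤ C' := le_iSup_of_le (1 : X) (by rw [OneMemClass.coe_one, map_one, one_smul])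
  have hC'le : C' ≤ X ⊔ C := iSup_le fun w => by
    rintro _ ⟨c, hc, rfl⟩
    exact mul_mem (mul_mem (Subgroup.mem_sup_left w.2) (Subgroup.mem_sup_right hc))
      (inv_mem (Subgroup.mem_sup_left w.2))
  have hP : P C' := by
    refine ⟨hBC.trans hCC', fun y => ?_⟩
    have hpy : Basics.Perm (MulAut.conj y • A) C' := Basics.Perm.iSup fun w => by
      have := (hperm ((w : G)⁻¹ * y)).1.conj (w : G)
      rwa [← mul_smul, ← map_mul, mul_inv_cancel_left] at this
    refine ⟨hpy, fun e => (hperm x).2 (top_le_iff.mp ?_)⟩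
    have e2 := Basics.sup_eq_top_of_conj hpy e (x * y⁻¹)
    rw [← mul_smul, ← map_mul, inv_mul_cancel_right] at e2
    rw [← e2]
    exact sup_le le_sup_left hC'le
  have hle : C' ≤ C := hC.2 hP hCC'
  refine (Basics.conj_smul_eq_self_iff.mp ?_)
  have h1 : MulAut.conj z • C ≤ C := (le_iSup (fun w : X => MulAut.conj (w : G) • C) ⟨z, hzX⟩).trans hle
  exact Subgroup.eq_of_le_of_card_ge h1 (Basics.card_conj_smul z C).ge

end Cfsg.Agent.S0566
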