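import Cfsg.Statements.S0567
import Cfsg.Agent.Lib.Basics.CoreFree

set_option autoImplicit false
open Cfsg

namespace Cfsg.Agent.S0567

open scoped commutatorElement

theorem normalizer_commutator {G : Type*} [Group G] {K H : Subgroup G}
    (hH : H ≤ Subgroup.normalizer (K : Set G)) :
    ∀ g ∈ K ⊔ H, ∀ x ∈ ⁅K, H⁆, g * x * g⁻¹ ∈ ⁅K, H⁆ := by
  intro g hg
  suffices h : ∀ x ∈ (⁅K, H⁆ : Subgroup G), g * x * g⁻¹ ∈ ⁅K, H⁆ ∧ g⁻¹ * x * g ∈ ⁅K, H⁆ from fun x hx => (h x hx).1
  rw [Subgroup.sup_eq_closure] at hg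
  refine Subgroup.closure_induction (p := fun g _ => ∀ x ∈ (⁅K, H⁆ : Subgroup G), g * x * g⁻¹ ∈ ⁅K, H⁆ ∧ g⁻¹ * x * g ∈ ⁅K, H⁆) ?_ ?_ ?_ ?_ hg
  · have key : ∀ g ∈ (K : Set G) ∪ H, ∀ x ∈ ⁅K, H⁆, g * x * g⁻¹ ∈ ⁅K, H⁆ := by
      intro g hg x hx
      have : ⁅K, H⁆ ≤ ⁅K, H⁆.comap (MulAut.conj g).toMonoidHom := by
        refine Subgroup.commutator_le.mpr fun k hk y hy => ?_
        show g * ⁅k, y⁆ * g⁻¹ ∈ (⁅K, H⁆ : Subgroup G)
        rcases hg with hg | hg
        · rw [show g * ⁅k, y⁆ * g⁻¹ = ⁅g * k, y⁆ * ⁅g, y⁆⁻¹ by simp only [commutatorElement_def]; group]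
          exact mul_mem (Subgroup.commutator_mem_commutator (mul_mem hg hk) hy)
            (inv_mem (Subgroup.commutator_mem_commutator hg hy))
        · rw [show g * ⁅k, y⁆ * g⁻¹ = ⁅g * k * g⁻¹, g * y * g⁻¹⁆ by simp only [commutatorElement_def]; group]
          exact Subgroup.commutator_mem_commutator ((Subgroup.mem_normalizer_iff.mp (hH hg) k).mp hk)
            (H.mul_mem (H.mul_mem hg hy) (H.inv_mem hg))
      exact this hx
    intro g hg x hx
    refine ⟨key g hg x hx, ?_⟩
    have := key g⁻¹ (hg.imp (fun h => K.inv_mem h) (fun h => H.inv_mem h)) x hx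
    rwa [inv_inv] at this
  · intro x hx; simpa using hx
  · intro a b _ _ ha hb x hx
    refine ⟨?_, ?_⟩
    · rw [show a * b * x * (a * b)⁻¹ = a * (b * x * b⁻¹) * a⁻¹ by group]
      exact (ha _ (hb x hx).1).1
    · rw [show (a * b)⁻¹ * x * (a * b) = b⁻¹ * (a⁻¹ * x * a) * b by group]
      exact (hb _ (ha x hx).2).2
  · intro a _ ha x hx
    rw [inv_inv]
    exact ⟨(ha x hx).2, (ha x hx).1⟩

/-- A subgroup H of a group G is subnormal exactly when, for some m, the subgroup obtained from G by taking the commutator with H m times in succession is contained in H. -/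
theorem result {G : Type*} [Group G] (H : Subgroup G) : H.IsSubnormal ↔ ∃ m : ℕ, (fun K : Subgroup G => ⁅K, H⁆)^[m] ⊤ ≤ H := by
  set f := fun K : Subgroup G => ⁅K, H⁆
  constructor
  · intro hH
    suffices ∀ L : Subgroup G, L.IsSubnormal → H ≤ L → ∃ m, f^[m] ⊤ ≤ L from this H hH le_rfl
    intro L hL
    induction hL with
    | top => exact fun _ => ⟨0, le_top⟩
    | step X Y hle _ hN ih =>
      intro hHX
      obtain ⟨m, hm⟩ := ih (hHX.trans hle)
      refine ⟨m + 1, ?_⟩
      rw [Function.iterate_succ_apply']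
      refine Subgroup.commutator_le.mpr fun k hk y hy => ?_
      have hyY : y ∈ Y := hle (hHX hy)
      have := hN.conj_mem ⟨y, hyY⟩ (hHX hy) ⟨k, hm hk⟩
      exact X.mul_mem (show k * y * k⁻¹ ∈ X from this) (X.inv_mem (hHX hy))
  · rintro ⟨m, hm⟩
    have hnorm : ∀ i, H ≤ Subgroup.normalizer ((f^[i] ⊤ : Subgroup G) : Set G) := by
      intro i
      induction i with
      | zero => intro x _; rw [Function.iterate_zero_apply]; exact Subgroup.le_normalizer_of_normal (Subgroup.mem_top x)
      | succ i ih =>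
        rw [Function.iterate_succ_apply']
        intro g hg
        refine Subgroup.mem_normalizer_iff.mpr fun y => ⟨fun hy => normalizer_commutator ih g
          (Subgroup.mem_sup_right hg) y hy, fun hy => ?_⟩
        have := normalizer_commutator ih g⁻¹ (Subgroup.mem_sup_right (H.inv_mem hg)) _ hy
        simpa [mul_assoc] using this
    have hsub : ∀ i, (f^[i] ⊤ ⊔ H).IsSubnormal := by
      intro i
      induction i with
      | zero => simp
      | succ i ih =>
        have hle : f^[i+1] ⊤ ⊔ H ≤ f^[i] ⊤ ⊔ H := by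
          refine sup_le ?_ le_sup_right
          rw [Function.iterate_succ_apply']
          exact Subgroup.commutator_le.mpr fun k hk y hy => by
            rw [commutatorElement_def]
            exact mul_mem (mul_mem (mul_mem (Subgroup.mem_sup_left hk) (Subgroup.mem_sup_right hy))
              (Subgroup.mem_sup_left ((f^[i] ⊤).inv_mem hk))) (Subgroup.mem_sup_right (H.inv_mem hy))
        refine Subgroup.IsSubnormal.step _ _ hle ih ?_
        rw [Subgroup.normal_subgroupOf_iff_le_normalizer hle, sup_le_iff]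
        rw [Function.iterate_succ_apply']
        set K := f^[i] ⊤ with hK
        constructor
        · intro g hg
          have hc : ∀ g ∈ K, ∀ y ∈ ⁅K, H⁆ ⊔ H, g * y * g⁻¹ ∈ ⁅K, H⁆ ⊔ H := by
            intro g hg y hy
            have : ⁅K, H⁆ ⊔ H ≤ (⁅K, H⁆ ⊔ H).comap (MulAut.conj g).toMonoidHom := by
              refine sup_le (fun z hz => Subgroup.mem_sup_left
                (normalizer_commutator (hnorm i) g (Subgroup.mem_sup_left hg) z hz)) fun z hz => ?_
              show g * z * g⁻¹ ∈ (⁅K, H⁆ ⊔ H : Subgroup G)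
              rw [show g * z * g⁻¹ = ⁅g, z⁆ * z by simp [commutatorElement_def]]
              exact mul_mem (Subgroup.mem_sup_left (Subgroup.commutator_mem_commutator hg hz))
                (Subgroup.mem_sup_right hz)
            exact this hy
          refine Subgroup.mem_normalizer_iff.mpr fun y => ⟨hc g hg y, fun hy => ?_⟩
          simpa [mul_assoc] using hc g⁻¹ (K.inv_mem hg) _ hy
        · exact le_sup_right.trans Subgroup.le_normalizer
    have := hsub m
    rwa [sup_eq_right.mpr hm] at this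

end Cfsg.Agent.S0567
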