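import Cfsg.Statements.S0568
import Cfsg.Agent.Lib.Basics.CarterSystems

set_option autoImplicit false
open Cfsg

namespace Cfsg.Agent.S0568

/-- Let D be the system normalizer of a Hall complement system of a finite solvable group G, and let A < B be normal subgroups with no normal subgroup of G strictly between them (a chief factor). If G centralizes B modulo A then B ≤ A ⊔ D (D covers the factor); otherwise B ∩ D ≤ A (D avoids it). -/
theorem result {G : Type*} [Group G] [Finite G] [Group.IsSolvable G] (K : Nat.Primes → Subgroup G) (hK : Cfsg.IsComplementSystem K) (A B : Subgroup G) [A.Normal] [B.Normal] (hAB : A < B) (hchief : ∀ N : Subgroup G, N.Normal → A ≤ N → N ≤ B → N = A ∨ N = B) : (⁅B, (⊤ : Subgroup G)⁆ ≤ A → B ≤ A ⊔ Cfsg.systemNormalizer K) ∧ (¬ ⁅B, (⊤ : Subgroup G)⁆ ≤ A → B ⊓ Cfsg.systemNormalizer K ≤ A) := by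
  set π := QuotientGroup.mk' A
  have hs : Function.Surjective π := QuotientGroup.mk'_surjective A
  set Bb := B.map π
  haveI hBn : Bb.Normal := Subgroup.Normal.map inferInstance π hs
  have hcB : Bb.comap π = B := by
    rw [Subgroup.comap_map_eq, QuotientGroup.ker_mk', sup_eq_left.mpr hAB.le]
  have hKb := Basics.isComplementSystem_map A hK
  have hiff : ⁅B, (⊤ : Subgroup G)⁆ ≤ A ↔ Bb ≤ Subgroup.center (G ⧸ A) := by
    have h1 : ⁅B, (⊤ : Subgroup G)⁆ ≤ A ↔ ⁅Bb, (⊤ : Subgroup (G ⧸ A))⁆ = ⊥ := by
      rw [← Subgroup.map_top_of_surjective π hs, ← Subgroup.map_commutator, Subgroup.map_eq_bot_iff,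
        QuotientGroup.ker_mk']
    rw [h1, Subgroup.commutator_eq_bot_iff_le_centralizer, Subgroup.coe_top, Subgroup.centralizer_univ]
  constructor
  · intro h
    have hle : Bb ≤ (Cfsg.systemNormalizer K).map π := by
      rw [← Basics.systemNormalizer_map A hK]
      refine (hiff.mp h).trans (le_iInf fun p => ?_)
      exact (Subgroup.center_le_centralizer _).trans (Subgroup.centralizer_le_normalizer _)
    have := Subgroup.comap_mono (f := π) hle
    rwa [hcB, Subgroup.comap_map_eq, QuotientGroup.ker_mk', sup_comm] at this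
  · intro h
    have hne : Bb ≠ ⊥ := fun e => not_le_of_gt hAB (by
      rw [← hcB, e, MonoidHom.comap_bot, QuotientGroup.ker_mk'])
    have hmin : ∀ X : Subgroup (G ⧸ A), X.Normal → X ≤ Bb → X = ⊥ ∨ X = Bb := fun X hX hle => by
      rcases hchief (X.comap π) (hX.comap π) (fun x hx => by
        rw [Subgroup.mem_comap, (show π x = 1 from (QuotientGroup.eq_one_iff x).mpr hx)]
        exact one_mem _) (hcB ▸ Subgroup.comap_mono hle) with e | e
      · left
        apply Subgroup.comap_injective hs
        rw [e, MonoidHom.comap_bot, QuotientGroup.ker_mk']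
      · right
        apply Subgroup.comap_injective hs
        rw [e, hcB]
    have hav := Basics.Carter.system_avoid hKb hne hmin (fun e => h (hiff.mpr e))
    intro x hx
    have : π x ∈ Bb ⊓ Cfsg.systemNormalizer (fun p => (K p).map π) :=
      ⟨Subgroup.mem_map_of_mem π hx.1, Basics.map_systemNormalizer_le A (Subgroup.mem_map_of_mem π hx.2)⟩
    rw [hav, Subgroup.mem_bot] at this
    exact (QuotientGroup.eq_one_iff x).mp this

end Cfsg.Agent.S0568
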