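import Cfsg.Statements.S0571
import Cfsg.Agent.Lib.Supersolv.Orders

set_option autoImplicit false
open Cfsg

namespace Cfsg.Agent.S0571

universe u

theorem aux : ∀ (n : ℕ) (G : Type u) [Group G] [Finite G], Nat.card G = n → ∀ A B : Subgroup G,
    IsCyclic A → IsCyclic B → (∀ g : G, ∃ a ∈ A, ∃ b ∈ B, g = a * b) → Cfsg.IsSupersolvable G := by
  intro n
  induction n using Nat.strong_induction_on with
  | _ n ih =>
  intro G _ _ hn A B hA hB hAB
  haveI := hA
  haveI := hB
  rcases subsingleton_or_nontrivial G with hs | hs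
  · exact Supersolv.of_subsingleton
  obtain ⟨D, hD, hne, hDc⟩ : ∃ D : Subgroup G, D.Normal ∧ D ≠ ⊥ ∧ IsCyclic D := by
    rcases le_total (Nat.card B) (Nat.card A) with h | h
    · exact Supersolv.exists_cyclic_normal_of_prod A B h hAB
    · exact Supersolv.exists_cyclic_normal_of_prod B A h (fun g => by
        obtain ⟨a, ha, b, hb, h⟩ := hAB g⁻¹
        exact ⟨b⁻¹, inv_mem hb, a⁻¹, inv_mem ha, by rw [← mul_inv_rev, ← h, inv_inv]⟩)
  haveI := hD
  haveI := hDc
  refine Supersolv.of_cyclic_quotient D (ih _ (hn ▸ Basics.card_quotient_lt hne) _ rfl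
    (A.map (QuotientGroup.mk' D)) (B.map (QuotientGroup.mk' D))
    (isCyclic_of_surjective _ ((QuotientGroup.mk' D).subgroupMap_surjective A))
    (isCyclic_of_surjective _ ((QuotientGroup.mk' D).subgroupMap_surjective B)) fun q => ?_)
  obtain ⟨g, rfl⟩ := QuotientGroup.mk'_surjective D q
  obtain ⟨a, ha, b, hb, rfl⟩ := hAB g
  exact ⟨_, Subgroup.mem_map_of_mem _ ha, _, Subgroup.mem_map_of_mem _ hb, map_mul _ _ _⟩

/-- If a finite group G is the product AB of two cyclic subgroups (every element is a product ab), then G is supersolvable. -/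
theorem result {G : Type*} [Group G] [Finite G] (A B : Subgroup G) [IsCyclic A] [IsCyclic B] (hAB : ∀ g : G, ∃ a ∈ A, ∃ b ∈ B, g = a * b) : Cfsg.IsSupersolvable G := by
  exact aux _ G rfl A B inferInstance inferInstance hAB

end Cfsg.Agent.S0571
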