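import Cfsg.Statements.S0573
import Cfsg.Agent.Lib.Basics.Ito
import Cfsg.Agent.Lib.Basics.Hall
import Cfsg.Agent.Lib.Basics.Tools

set_option autoImplicit false
open Cfsg

namespace Cfsg.Agent.S0573

open scoped commutatorElement Pointwise

variable {G : Type*} [Group G]

/-- elements of `K` killed by `n` -/
def powKer (K : Subgroup G) [IsMulCommutative K] (n : ℕ) : Subgroup G where
  carrier := {k | k ∈ K ∧ k ^ n = 1}
  one_mem' := ⟨one_mem _, one_pow n⟩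
  mul_mem' := fun {u v} hu hv => ⟨mul_mem hu.1 hv.1, by
    rw [(Cfsg.Agent.Basics.comm_of_mem hu.1 hv.1).mul_pow, hu.2, hv.2, one_mul]⟩
  inv_mem' := fun {u} hu => ⟨inv_mem hu.1, by rw [inv_pow, hu.2, inv_one]⟩

theorem powKer_normal (K : Subgroup G) [hK : K.Normal] [IsMulCommutative K] (n : ℕ) :
    (powKer K n).Normal :=
  ⟨fun u hu g => ⟨hK.conj_mem u hu.1 g, by rw [conj_pow, hu.2, mul_one, mul_inv_cancel]⟩⟩

theorem fixed_of_pPower [Finite G] {p : ℕ} [Fact p.Prime] (S W : Subgroup G) (hW : IsPGroup p W)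
    (hW1 : W ≠ ⊥) (hSW : S ≤ Subgroup.normalizer (W : Set G))
    (h : ∀ s ∈ S, ∃ k : ℕ, ∀ w ∈ W, s ^ p ^ k * w = w * s ^ p ^ k) :
    ∃ w ∈ W, w ≠ 1 ∧ ∀ s ∈ S, s * w = w * s := by
  let φ : S →* MulAut W := W.normalizerMonoidHom.comp (Subgroup.inclusion hSW)
  have hφ : ∀ (s : S) (w : W), ((φ s w : W) : G) = (s : G) * w * (s : G)⁻¹ := fun s w => rfl
  have hR : IsPGroup p φ.range := by
    rintro ⟨_, s, rfl⟩
    obtain ⟨k, hk⟩ := h s s.2
    refine ⟨k, Subtype.ext ?_⟩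
    show φ s ^ p ^ k = 1
    rw [← map_pow]
    refine MulEquiv.ext fun w => Subtype.ext ?_
    rw [hφ, SubgroupClass.coe_pow, hk w w.2, mul_inv_cancel_right]
    rfl
  letI : MulAction φ.range W :=
    { smul := fun r w => (r : MulAut W) w
      one_smul := fun w => rfl
      mul_smul := fun r t w => rfl }
  haveI : Nontrivial W := W.nontrivial_iff_ne_bot.mpr hW1
  obtain ⟨k, hk, hcard⟩ := hW.nontrivial_iff_card.mp inferInstance
  obtain ⟨w, hw, hw1⟩ := hR.exists_fixed_point_of_prime_dvd_card_of_fixed_point W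
    (hcard ▸ dvd_pow_self p hk.ne') (a := 1) (fun r => map_one (r : MulAut W))
  refine ⟨w, w.2, fun e => hw1 (Subtype.ext e.symm), fun s hs => ?_⟩
  have h1 : φ ⟨s, hs⟩ w = w := hw ⟨_, ⟨⟨s, hs⟩, rfl⟩⟩
  exact mul_inv_eq_iff_eq_mul.mp ((hφ ⟨s, hs⟩ w).symm.trans (congrArg Subtype.val h1))

/-- the elements of `A0` of order prime to `p` centralise `Kp` -/
theorem centralize [Finite G] [Group.IsSolvable G] {p : ℕ} [hp : Fact p.Prime]
    (A0 B0 X Kp Kq : Subgroup G) [IsMulCommutative A0] [IsMulCommutative B0] [Kp.Normal] [Kq.Normal]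
    (hA0 : A0 ≤ X) (hB0 : B0 ≤ X) (hKq : Kq ≤ X) (hprod : ∀ x ∈ X, ∃ a ∈ A0, ∃ b ∈ B0, x = a * b)
    (hsup : X ≤ B0 ⊔ Kq ⊔ Kp) (hKp : Kp ≤ X) (hp' : IsPGroup p Kp) (hd : Kp ⊓ Kq = ⊥)
    {x : G} (hx : x ∈ A0) (hxo : (orderOf x).Coprime p) {u : G} (hu : u ∈ Kp) : x * u = u * x := by
  set T := B0 ⊔ Kq with hT
  have hTX : T ≤ X := sup_le hB0 hKq
  have hTsup : Kp ⊔ T = X := le_antisymm (sup_le hKp hTX) (by rw [sup_comm]; exact hsup)
  have hrel : ∃ k : ℕ, T.relIndex X ∣ p ^ k := by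
    obtain ⟨k, hk⟩ := hp'.exists_card_eq
    refine ⟨k, ?_⟩
    have h1 := Cfsg.Agent.Basics.card_mul_card_eq_card_sup_mul_card_inf (N := Kp) (H := T)
      Subgroup.le_normalizer_of_normal
    rw [hTsup] at h1
    have h2 : Nat.card T * T.relIndex X = Nat.card X := by
      rw [← Subgroup.relIndex_bot_left, ← Subgroup.relIndex_bot_left (H := X),
        Subgroup.relIndex_mul_relIndex _ _ _ bot_le hTX]
    rw [← h2, mul_assoc, mul_comm (Nat.card Kp)] at h1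
    exact ⟨_, hk.symm.trans (Nat.eq_of_mul_eq_mul_left Nat.card_pos h1)⟩
  obtain ⟨H, -, hH⟩ := Cfsg.Agent.Basics.exists_hall_pi (G := T) {r | r ≠ p}
  obtain ⟨k, hk⟩ := hrel
  set H' := (H.map T.subtype).subgroupOf X with hH'
  have hle : H.map T.subtype ≤ X := (Subgroup.map_subtype_le _).trans hTX
  have hidx : ∀ r : ℕ, r.Prime → r ∣ H'.index → r = p := by
    intro r hr hrd
    have h1 : H'.index = H.index * T.relIndex X := by
      rw [← Subgroup.relIndex, ← Subgroup.relIndex_mul_relIndex _ T X (Subgroup.map_subtype_le _) hTX]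
      congr 1
      rw [Subgroup.relIndex, Subgroup.subgroupOf, Subgroup.comap_map_eq_self_of_injective T.subtype_injective]
    rw [h1] at hrd
    rcases hr.dvd_mul.mp hrd with h | h
    · by_contra hne
      exact ((hH r hr (h.trans (Subgroup.index_dvd_card H))).2.mp h) hne
    · exact (Nat.prime_dvd_prime_iff_eq hr hp.out).mp (hr.dvd_of_dvd_pow (h.trans hk))
  have hcardH : ¬ p ∣ Nat.card H' := by
    rw [hH', Cfsg.Agent.Basics.card_subgroupOf hle,
      Subgroup.card_map_of_injective T.subtype_injective]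
    exact fun h => ((hH p hp.out (h.trans (Subgroup.card_subgroup_dvd_card H))).1.mp h) rfl
  have hcop : (Nat.card H').Coprime H'.index := by
    refine Nat.coprime_of_dvd fun r hr h1 h2 => ?_
    exact hcardH (hidx r hr h2 ▸ h1)
  have hxcop : (Nat.card (Subgroup.zpowers (⟨x, hA0 hx⟩ : X))).Coprime H'.index := by
    refine Nat.coprime_of_dvd fun r hr h1 h2 => ?_
    rw [Nat.card_zpowers, ← Subgroup.orderOf_coe] at h1
    rw [hidx r hr h2] at h1 hr
    exact hr.one_lt.ne' (Nat.dvd_one.mp (hxo ▸ Nat.dvd_gcd h1 dvd_rfl))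
  obtain ⟨⟨g, hg⟩, hgle⟩ := Cfsg.Agent.Basics.exists_le_conj_hall hcop hxcop
  obtain ⟨a, ha, b, hb, rfl⟩ := hprod g hg
  have h1 := Cfsg.Agent.Basics.mem_conj_smul.mp (hgle (Subgroup.mem_zpowers _))
  have h2 : (a * b)⁻¹ * x * (a * b) ∈ T := by
    have h3 := Subgroup.mem_subgroupOf.mp h1
    exact (Subgroup.map_subtype_le _) h3
  have hbT : b ∈ T := Subgroup.mem_sup_left hb
  have hxT : x ∈ T := by
    have e : x = b * ((a * b)⁻¹ * x * (a * b)) * b⁻¹ := by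
      have hax : x * a = a * x := (Cfsg.Agent.Basics.comm_of_mem hx ha).eq
      calc x = a⁻¹ * (a * x) := by group
        _ = a⁻¹ * (x * a) := by rw [hax]
        _ = _ := by group
    rw [e]
    exact mul_mem (mul_mem hbT h2) (inv_mem hbT)
  rw [hT, sup_comm] at hxT
  obtain ⟨k', hk', b1, hb1, hxe⟩ :=
    (Cfsg.Agent.Basics.mem_sup_of_le_normalizer (N := Kq) (H := B0) Subgroup.le_normalizer_of_normal).mp hxT
  let π := QuotientGroup.mk' Kq
  have hπx : π x = π b1 := by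
    rw [hxe, map_mul, show π k' = 1 from (QuotientGroup.eq_one_iff _).mpr hk', one_mul]
  obtain ⟨a', ha', b', hb', hue⟩ := hprod u (hKp hu)
  have hmem : ⁅x, u⁆ ∈ Kp ⊓ Kq := by
    refine Subgroup.mem_inf.mpr ⟨?_, ?_⟩
    · exact mul_mem ((inferInstance : Kp.Normal).conj_mem u hu x) (inv_mem hu)
    · rw [← QuotientGroup.eq_one_iff]
      show π ⁅x, u⁆ = 1
      rw [map_commutatorElement, commutatorElement_eq_one_iff_mul_comm, hue, map_mul, ← mul_assoc,
        ← map_mul π x a', (Cfsg.Agent.Basics.comm_of_mem hx ha').eq, map_mul, mul_assoc, mul_assoc,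
        hπx, ← map_mul π b1 b', (Cfsg.Agent.Basics.comm_of_mem hb1 hb').eq, map_mul]
  rw [hd, Subgroup.mem_bot, commutatorElement_eq_one_iff_mul_comm] at hmem
  exact hmem

theorem exists_normal_in_left [Finite G] (A B K : Subgroup G) [IsMulCommutative A]
    [IsMulCommutative B] [K.Normal] (hK : ∀ x y : G, ⁅x, y⁆ ∈ K)
    (hAB : ∀ g : G, ∃ a ∈ A, ∃ b ∈ B, g = a * b)
    (hcent : ∀ c ∈ B, c ∈ Subgroup.center G → c = 1)
    {a : G} (ha : a ∈ A) (ha1 : a ≠ 1) (hac : ∀ k ∈ K, a * k = k * a) :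
    ∃ N : Subgroup G, N.Normal ∧ N ≠ ⊥ ∧ N ≤ A := by
  have hn : (A ⊔ K).Normal := Subgroup.Normal.of_commutator_le _
    ((Subgroup.commutator_le.mpr fun x _ y _ => hK x y).trans le_sup_right)
  haveI := hn
  have hmem : a ∈ (A ⊔ K) ⊓ Subgroup.centralizer ((A ⊔ K : Subgroup G) : Set G) := by
    refine Subgroup.mem_inf.mpr ⟨Subgroup.mem_sup_left ha, Subgroup.mem_centralizer_iff.mpr ?_⟩
    intro z hz
    obtain ⟨k, hk, a', ha', rfl⟩ := (Cfsg.Agent.Basics.mem_sup_of_le_normalizer (N := K) (H := A)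
      Subgroup.le_normalizer_of_normal).mp (by rw [sup_comm]; exact hz)
    rw [mul_assoc, (Cfsg.Agent.Basics.comm_of_mem ha' ha).eq, ← mul_assoc, ← hac k hk, mul_assoc]
  refine ⟨(A ⊔ K) ⊓ Subgroup.centralizer ((A ⊔ K : Subgroup G) : Set G), inferInstance,
    fun e => ha1 (Subgroup.mem_bot.mp (e ▸ hmem)), fun z hz => ?_⟩
  obtain ⟨a1, ha1', b1, hb1, rfl⟩ := hAB z
  have hb : b1 ∈ Subgroup.center G := Subgroup.mem_center_iff.mpr fun g => by
    obtain ⟨a2, ha2, b2, hb2, rfl⟩ := hAB g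
    have h1 : a2 * (a1 * b1) = a1 * b1 * a2 :=
      Subgroup.mem_centralizer_iff.mp (Subgroup.mem_inf.mp hz).2 a2 (Subgroup.mem_sup_left ha2)
    have h2 : a2 * b1 = b1 * a2 := by
      rw [← mul_assoc, (Cfsg.Agent.Basics.comm_of_mem ha2 ha1').eq, mul_assoc, mul_assoc] at h1
      exact mul_left_cancel h1
    rw [mul_assoc, (Cfsg.Agent.Basics.comm_of_mem hb2 hb1).eq, ← mul_assoc, h2, mul_assoc]
  rw [hcent b1 hb1 hb, mul_one]
  exact ha1'

/-- If a nontrivial finite group G is the product AB of abelian subgroups A and B, then some nontrivial normal subgroup of G is contained in A or in B. -/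
theorem result {G : Type*} [Group G] [Finite G] [Nontrivial G] (A B : Subgroup G) [IsMulCommutative A] [IsMulCommutative B] (hAB : ∀ g : G, ∃ a ∈ A, ∃ b ∈ B, g = a * b) : ∃ N : Subgroup G, N.Normal ∧ N ≠ ⊥ ∧ (N ≤ A ∨ N ≤ B) := by
  by_cases hcA : ∃ c ∈ A, c ∈ Subgroup.center G ∧ c ≠ 1
  · obtain ⟨c, hcA, hc, hc1⟩ := hcA
    exact ⟨Subgroup.zpowers c, ⟨fun z hz g => by
      have : z ∈ Subgroup.center G := Subgroup.zpowers_le.mpr hc hz
      rwa [Subgroup.mem_center_iff.mp this g, mul_inv_cancel_right]⟩,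
      by rwa [Ne, Subgroup.zpowers_eq_bot], Or.inl (Subgroup.zpowers_le.mpr hcA)⟩
  by_cases hcB : ∃ c ∈ B, c ∈ Subgroup.center G ∧ c ≠ 1
  · obtain ⟨c, hcB, hc, hc1⟩ := hcB
    exact ⟨Subgroup.zpowers c, ⟨fun z hz g => by
      have : z ∈ Subgroup.center G := Subgroup.zpowers_le.mpr hc hz
      rwa [Subgroup.mem_center_iff.mp this g, mul_inv_cancel_right]⟩,
      by rwa [Ne, Subgroup.zpowers_eq_bot], Or.inr (Subgroup.zpowers_le.mpr hcB)⟩
  push Not at hcA hcB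
  obtain ⟨K, hKn, hKc, hK⟩ := Cfsg.Agent.Basics.ito_core hAB
  haveI := hKn
  haveI := hKc
  have hsol : Group.IsSolvable G := Group.isSolvable_def G |>.mpr ⟨2, Cfsg.Agent.Basics.ito hAB⟩
  have hK1 : K ≠ ⊥ := by
    intro e
    obtain ⟨g, hg⟩ := exists_ne (1 : G)
    have hall : ∀ x : G, x ∈ Subgroup.center G := fun x => Subgroup.mem_center_iff.mpr fun y =>
      commutatorElement_eq_one_iff_mul_comm.mp (Subgroup.mem_bot.mp (e ▸ hK y x))
    obtain ⟨a, ha, b, hb, rfl⟩ := hAB g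
    rw [hcA a ha (hall a), hcB b hb (hall b), one_mul] at hg
    exact hg rfl
  set X := (A ⊔ K) ⊓ (B ⊔ K) with hX
  set A0 := A ⊓ (B ⊔ K) with hA0
  set B0 := B ⊓ (A ⊔ K) with hB0
  haveI : IsMulCommutative A0 := ⟨⟨fun u v => Subtype.ext
    (Cfsg.Agent.Basics.comm_of_mem (Subgroup.mem_inf.mp u.2).1 (Subgroup.mem_inf.mp v.2).1).eq⟩⟩
  haveI : IsMulCommutative B0 := ⟨⟨fun u v => Subtype.ext
    (Cfsg.Agent.Basics.comm_of_mem (Subgroup.mem_inf.mp u.2).1 (Subgroup.mem_inf.mp v.2).1).eq⟩⟩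
  have hA0X : A0 ≤ X := le_inf (inf_le_left.trans le_sup_left) inf_le_right
  have hB0X : B0 ≤ X := le_inf inf_le_right (inf_le_left.trans le_sup_left)
  have hKX : K ≤ X := le_inf le_sup_right le_sup_right
  have hprod : ∀ x ∈ X, ∃ a ∈ A0, ∃ b ∈ B0, x = a * b := by
    intro x hx
    obtain ⟨hx1, hx2⟩ := Subgroup.mem_inf.mp hx
    obtain ⟨a, ha, b, hb, rfl⟩ := hAB x
    refine ⟨a, Subgroup.mem_inf.mpr ⟨ha, ?_⟩, b, Subgroup.mem_inf.mpr ⟨hb, ?_⟩, rfl⟩
    · simpa using mul_mem hx2 (inv_mem (Subgroup.mem_sup_left hb : b ∈ B ⊔ K))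
    · simpa [← mul_assoc] using mul_mem (inv_mem (Subgroup.mem_sup_left ha : a ∈ A ⊔ K)) hx1
  have hprod' : ∀ x ∈ X, ∃ b ∈ B0, ∃ a ∈ A0, x = b * a := by
    intro x hx
    obtain ⟨a, ha, b, hb, h⟩ := hprod x⁻¹ (inv_mem hx)
    exact ⟨b⁻¹, inv_mem hb, a⁻¹, inv_mem ha, by rw [← mul_inv_rev, ← h, inv_inv]⟩
  have hXA : X ≤ A0 ⊔ K := by
    intro x hx
    obtain ⟨hx1, hx2⟩ := Subgroup.mem_inf.mp hx
    obtain ⟨k, hk, a, ha, rfl⟩ := (Cfsg.Agent.Basics.mem_sup_of_le_normalizer (N := K) (H := A)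
      Subgroup.le_normalizer_of_normal).mp (by rw [sup_comm]; exact hx1)
    refine mul_mem (Subgroup.mem_sup_right hk) (Subgroup.mem_sup_left (Subgroup.mem_inf.mpr ⟨ha, ?_⟩))
    simpa using mul_mem (inv_mem (Subgroup.mem_sup_right hk : k ∈ B ⊔ K)) hx2
  have hXB : X ≤ B0 ⊔ K := by
    intro x hx
    obtain ⟨hx1, hx2⟩ := Subgroup.mem_inf.mp hx
    obtain ⟨k, hk, b, hb, rfl⟩ := (Cfsg.Agent.Basics.mem_sup_of_le_normalizer (N := K) (H := B)
      Subgroup.le_normalizer_of_normal).mp (by rw [sup_comm]; exact hx2)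
    refine mul_mem (Subgroup.mem_sup_right hk) (Subgroup.mem_sup_left (Subgroup.mem_inf.mpr ⟨hb, ?_⟩))
    simpa using mul_mem (inv_mem (Subgroup.mem_sup_right hk : k ∈ A ⊔ K)) hx1
  obtain ⟨p, hp, hpd⟩ := Nat.exists_prime_and_dvd
    (fun e : Nat.card K = 1 => hK1 (K.eq_bot_of_card_eq e))
  haveI := Fact.mk hp
  set e := (Nat.card K).factorization p with he
  set m := Nat.card K / p ^ e with hm
  set Kp := powKer K (p ^ e) with hKp
  set Kq := powKer K m with hKq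
  haveI : Kp.Normal := powKer_normal K _
  haveI : Kq.Normal := powKer_normal K _
  have hcop : (p ^ e).Coprime m := (Nat.coprime_ordCompl hp Nat.card_pos.ne').pow_left e
  have hd : Kp ⊓ Kq = ⊥ := (Subgroup.eq_bot_iff_forall _).mpr fun z hz => by
    obtain ⟨h1, h2⟩ := Subgroup.mem_inf.mp hz
    exact orderOf_eq_one_iff.mp (Nat.eq_one_of_dvd_coprimes hcop
      (orderOf_dvd_of_pow_eq_one h1.2) (orderOf_dvd_of_pow_eq_one h2.2))
  have hKsup : K ≤ Kq ⊔ Kp := by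
    intro k hk
    have hcard : k ^ (p ^ e * m) = 1 := by
      rw [Nat.ordProj_mul_ordCompl_eq_self, ← orderOf_dvd_iff_pow_eq_one]
      exact Subgroup.orderOf_dvd_natCard K hk
    have hb := Nat.gcd_eq_gcd_ab (p ^ e) m
    rw [hcop.gcd_eq_one] at hb
    have : k = (k ^ (p ^ e)) ^ (Nat.gcdA (p ^ e) m) * (k ^ m) ^ (Nat.gcdB (p ^ e) m) := by
      rw [← zpow_natCast, ← zpow_natCast, ← zpow_mul, ← zpow_mul, ← zpow_add, ← hb, Nat.cast_one,
        zpow_one]
    rw [this]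
    have h1 : k ^ p ^ e ∈ Kq := ⟨pow_mem hk _, by rw [← pow_mul, hcard]⟩
    have h2 : k ^ m ∈ Kp := ⟨pow_mem hk _, by rw [← pow_mul, mul_comm, hcard]⟩
    exact mul_mem (zpow_mem (Subgroup.mem_sup_left h1) _) (zpow_mem (Subgroup.mem_sup_right h2) _)
  have hKpK : Kp ≤ K := fun z hz => hz.1
  have hKqK : Kq ≤ K := fun z hz => hz.1
  have hpg : IsPGroup p Kp := fun z => ⟨e, Subtype.ext z.2.2⟩
  have hKp1 : Kp ≠ ⊥ := by
    obtain ⟨z, hz⟩ := exists_prime_orderOf_dvd_card' (G := K) p hpd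
    intro h
    have h1 : (z : G) ∈ Kp := by
      refine ⟨z.2, orderOf_dvd_iff_pow_eq_one.mp ?_⟩
      rw [Subgroup.orderOf_coe, hz]
      exact dvd_pow_self p (hp.factorization_pos_of_dvd Nat.card_pos.ne' hpd).ne'
    rw [h, Subgroup.mem_bot, OneMemClass.coe_eq_one] at h1
    rw [h1, orderOf_one] at hz
    exact hp.one_lt.ne hz
  have hKpc : ∀ u ∈ Kp, ∀ k ∈ K, Commute u k := fun u hu k hk =>
    Cfsg.Agent.Basics.comm_of_mem (hKpK hu) hk
  have hcA0 : ∀ s ∈ A0, ∃ k : ℕ, ∀ w ∈ Kp, s ^ p ^ k * w = w * s ^ p ^ k := by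
    intro s hs
    refine ⟨(orderOf s).factorization p, fun w hw => ?_⟩
    refine centralize (p := p) A0 B0 X Kp Kq hA0X hB0X (hKqK.trans hKX) hprod ?_ (hKpK.trans hKX)
      hpg hd (pow_mem hs _) ?_ hw
    · exact hXB.trans (sup_le (le_sup_left.trans le_sup_left)
        (hKsup.trans (sup_le (le_sup_right.trans le_sup_left) le_sup_right)))
    · rw [orderOf_pow_of_dvd (pow_ne_zero _ hp.ne_zero) (Nat.ordProj_dvd _ _)]
      exact (Nat.coprime_ordCompl hp (orderOf_pos s).ne').symm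
  have hcB0 : ∀ s ∈ B0, ∃ k : ℕ, ∀ w ∈ Kp, s ^ p ^ k * w = w * s ^ p ^ k := by
    intro s hs
    refine ⟨(orderOf s).factorization p, fun w hw => ?_⟩
    refine centralize (p := p) B0 A0 X Kp Kq hB0X hA0X (hKqK.trans hKX) hprod' ?_ (hKpK.trans hKX)
      hpg hd (pow_mem hs _) ?_ hw
    · exact hXA.trans (sup_le (le_sup_left.trans le_sup_left)
        (hKsup.trans (sup_le (le_sup_right.trans le_sup_left) le_sup_right)))
    · rw [orderOf_pow_of_dvd (pow_ne_zero _ hp.ne_zero) (Nat.ordProj_dvd _ _)]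
      exact (Nat.coprime_ordCompl hp (orderOf_pos s).ne').symm
  obtain ⟨w0, hw0, hw01, hw0c⟩ := fixed_of_pPower A0 Kp hpg hKp1 Subgroup.le_normalizer_of_normal hcA0
  set W := Kp ⊓ Subgroup.centralizer (A0 : Set G) with hW
  have hW1 : W ≠ ⊥ := fun h => hw01 (Subgroup.mem_bot.mp (h ▸ Subgroup.mem_inf.mpr
    ⟨hw0, Subgroup.mem_centralizer_iff.mpr fun s hs => hw0c s hs⟩))
  have hBW : B0 ≤ Subgroup.normalizer (W : Set G) := by
    have key : ∀ b : G, ∀ w ∈ W, b * w * b⁻¹ ∈ W := by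
      intro b w hw
      obtain ⟨hw1, hw2⟩ := Subgroup.mem_inf.mp hw
      have hcp : b * w * b⁻¹ ∈ Kp := (inferInstance : Kp.Normal).conj_mem w hw1 b
      refine Subgroup.mem_inf.mpr ⟨hcp, Subgroup.mem_centralizer_iff.mpr fun a ha => ?_⟩
      have haw : a * w = w * a := Subgroup.mem_centralizer_iff.mp hw2 a ha
      calc a * (b * w * b⁻¹) = ⁅a, b⁆ * (b * (a * w) * b⁻¹) := by
            simp only [commutatorElement_def]; group
        _ = ⁅a, b⁆ * (b * (w * a) * b⁻¹) := by rw [haw]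
        _ = ⁅a, b⁆ * (b * w * b⁻¹) * (b * a * b⁻¹) := by group
        _ = (b * w * b⁻¹) * ⁅a, b⁆ * (b * a * b⁻¹) := by rw [(hKpc _ hcp _ (hK a b)).symm.eq]
        _ = b * w * b⁻¹ * a := by simp only [commutatorElement_def]; group
    intro b _
    rw [Subgroup.mem_normalizer_iff]
    exact fun w => ⟨key b w, fun h => by simpa [mul_assoc] using key b⁻¹ _ h⟩
  obtain ⟨u, hu, hu1, huB⟩ := fixed_of_pPower B0 W (hpg.to_le inf_le_left) hW1 hBW
    (fun s hs => (hcB0 s hs).imp fun k h w hw => h w (Subgroup.mem_inf.mp hw).1)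
  have huA : ∀ s ∈ A0, s * u = u * s := fun s hs =>
    Subgroup.mem_centralizer_iff.mp (Subgroup.mem_inf.mp hu).2 s hs
  have huK : u ∈ K := hKpK (Subgroup.mem_inf.mp hu).1
  obtain ⟨a, ha, b, hb, hab⟩ := hprod u (hKX huK)
  have hbA : ∀ s ∈ A0, s * b = b * s := fun s hs => by
    have h1 := huA s hs
    rw [hab, ← mul_assoc, (Cfsg.Agent.Basics.comm_of_mem hs ha).eq, mul_assoc, mul_assoc] at h1
    exact mul_left_cancel h1
  have hbX : ∀ x ∈ X, x * b = b * x := fun x hx => by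
    obtain ⟨a', ha', b', hb', rfl⟩ := hprod x hx
    rw [mul_assoc, (Cfsg.Agent.Basics.comm_of_mem hb' hb).eq, ← mul_assoc, hbA a' ha', mul_assoc]
  by_cases hb1 : b = 1
  · rw [hb1, mul_one] at hab
    obtain ⟨N, h1, h2, h3⟩ := exists_normal_in_left A B K hK hAB hcB (a := a)
      (Subgroup.mem_inf.mp ha).1 (by rw [← hab]; exact hu1)
      (fun k hk => by rw [← hab]; exact (Cfsg.Agent.Basics.comm_of_mem huK hk).eq)
    exact ⟨N, h1, h2, Or.inl h3⟩
  · have hBA : ∀ g : G, ∃ b ∈ B, ∃ a ∈ A, g = b * a := Cfsg.Agent.Basics.prod_symm A B hAB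
    obtain ⟨N, h1, h2, h3⟩ := exists_normal_in_left B A K hK hBA hcA (a := b)
      (Subgroup.mem_inf.mp hb).1 hb1 (fun k hk => (hbX k (hKX hk)).symm)
    exact ⟨N, h1, h2, Or.inr h3⟩

end Cfsg.Agent.S0573
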