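import Cfsg.Statements.S0576
import Cfsg.Agent.Lib.Basics.Frattini

set_option autoImplicit false
open Cfsg

namespace Cfsg.Agent.S0576

/-- Let H be a normal subgroup of a finite group G with H contained in the Frattini subgroup of G. Then the group of inner automorphisms of H is contained in the Frattini subgroup of the automorphism group of H. -/
theorem result {G : Type*} [Group G] [Finite G] (H : Subgroup G) [H.Normal] (hH : H ≤ frattini G) : (MulAut.conj : ↥H →* MulAut ↥H).range ≤ frattini (MulAut ↥H) := by
  let c : G →* MulAut H := MulAut.conjNormal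
  have hc : (MulAut.conj : ↥H →* MulAut ↥H).range = H.map c := by
    ext σ
    constructor
    · rintro ⟨h, rfl⟩
      exact ⟨h, h.2, MulAut.conjNormal_val⟩
    · rintro ⟨h, hh, rfl⟩
      exact ⟨⟨h, hh⟩, (MulAut.conjNormal_val (h := (⟨h, hh⟩ : H))).symm⟩
  have hinn : ((MulAut.conj : ↥H →* MulAut ↥H).range).Normal := by
    constructor
    rintro _ ⟨h, rfl⟩ σ
    exact ⟨σ h, by ext x; simp⟩
  refine le_iInf₂ fun L hL => ?_
  by_contra hne
  have hsup := Basics.le_of_not_le_sup_eq_top hL hne
  have h1 : L.comap c ⊔ frattini G = ⊤ := by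
    rw [eq_top_iff]
    intro g _
    have hg : c g ∈ L ⊔ (MulAut.conj : ↥H →* MulAut ↥H).range := by rw [hsup]; trivial
    rw [sup_comm, Basics.mem_sup_of_le_normalizer' Subgroup.le_normalizer_of_normal] at hg
    obtain ⟨l, hl, i, hi, hgl⟩ := hg
    rw [hc] at hi
    obtain ⟨h, hh, rfl⟩ := hi
    have hg2 : g * h⁻¹ ∈ L.comap c := by
      rw [Subgroup.mem_comap, map_mul, map_inv, hgl, mul_inv_cancel_right]
      exact hl
    simpa using mul_mem (Subgroup.mem_sup_left (T := frattini G) hg2) (Subgroup.mem_sup_right (hH hh))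
  have h2 := frattini_nongenerating h1
  apply hne
  rw [hc, Subgroup.map_le_iff_le_comap, h2]
  exact le_top

end Cfsg.Agent.S0576
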