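import Cfsg.Statements.S0577
import Cfsg.Agent.Lib.Basics.Schmidt
import Cfsg.Agent.Lib.Basics.CoprimeAction
import Cfsg.Agent.Lib.Basics.Frattini

set_option autoImplicit false
open Cfsg
open scoped commutatorElement

namespace Cfsg.Agent.S0577

/-- Let G be a finite minimal non-nilpotent group and Q a normal Sylow q-subgroup of G, and let D be the commutator subgroup of Q regarded in G (a normal subgroup). Then G modulo D is non-abelian and all its proper subgroups are abelian. -/
theorem result {G : Type*} [Group G] [Finite G] (hG : Cfsg.IsMinimalNonNilpotent G) (q : ℕ) [Fact q.Prime] (hq : q ∣ Nat.card G) (Q : Sylow q G) (hQ : (Q : Subgroup G).Normal) (D : Subgroup G) [D.Normal] (hD : D = (commutator ↥(Q : Subgroup G)).map (Q : Subgroup G).subtype) : ¬ IsMulCommutative (G ⧸ D) ∧ ∀ K : Subgroup (G ⧸ D), K ≠ ⊤ → IsMulCommutative K := by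
  obtain ⟨p, q', hp, hq', hpq, P, Q', h1, h2, hPn, h3⟩ :=
    Cfsg.Agent.Basics.minimalNonNilpotent_structure hG
  haveI := Fact.mk hp
  haveI := Fact.mk hq'
  haveI := hQ
  have hcard : Nat.card G = Nat.card (Q' : Subgroup G) * Nat.card (P : Subgroup G) := by
    haveI := h2
    have c1 := Cfsg.Agent.Basics.card_sup_of_coprime (N := (Q' : Subgroup G))
      (H := (P : Subgroup G)) Subgroup.le_normalizer_of_normal (by
        rw [P.card_eq_multiplicity, Q'.card_eq_multiplicity]
        exact ((Nat.coprime_primes hq' hp).mpr hpq.symm).pow _ _)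
    rwa [sup_comm, h3, Subgroup.card_top] at c1
  have hqq : q' = q := by
    by_contra hne
    have hqp : q = p := by
      rw [hcard, P.card_eq_multiplicity, Q'.card_eq_multiplicity] at hq
      rcases (Nat.Prime.dvd_mul Fact.out).mp hq with h | h
      · exact absurd ((Nat.prime_dvd_prime_iff_eq Fact.out hq').mp
          ((Fact.out : q.Prime).dvd_of_dvd_pow h)).symm hne
      · exact (Nat.prime_dvd_prime_iff_eq Fact.out hp).mp ((Fact.out : q.Prime).dvd_of_dvd_pow h)
    subst hqp
    haveI := Sylow.unique_of_normal Q hQ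
    exact hPn (by rwa [Subsingleton.elim P Q])
  subst hqq
  haveI := Sylow.unique_of_normal Q hQ
  have hQQ : Q' = Q := Subsingleton.elim _ _
  subst hQQ
  haveI hQnil : Group.IsNilpotent (Q' : Subgroup G) := Q'.2.isNilpotent
  have hcop : (Nat.card (P : Subgroup G)).Coprime (Nat.card (Q' : Subgroup G)) := by
    rw [P.card_eq_multiplicity, Q'.card_eq_multiplicity]
    exact ((Nat.coprime_primes hp hq').mpr hpq).pow _ _
  have hsolv : Group.IsSolvable (P : Subgroup G) ∨ Group.IsSolvable (Q' : Subgroup G) :=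
    Or.inr inferInstance
  have hDQ : D ≤ (Q' : Subgroup G) := hD ▸ Subgroup.map_subtype_le _
  let π := QuotientGroup.mk' D
  have hQD : ∀ u ∈ (Q' : Subgroup G), ∀ v ∈ (Q' : Subgroup G), π u * π v = π v * π u := by
    intro u hu v hv
    rw [← commutatorElement_eq_one_iff_mul_comm, ← map_commutatorElement]
    refine (QuotientGroup.eq_one_iff _).mpr ?_
    rw [hD]
    exact ⟨⁅⟨u, hu⟩, ⟨v, hv⟩⁆, Subgroup.commutator_mem_commutator (Subgroup.mem_top _)
      (Subgroup.mem_top _), rfl⟩
  constructor
  · intro hcomm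
    refine hPn (Subgroup.normalizer_eq_top_iff.mp (eq_top_iff.mpr ?_))
    rw [← h3]
    refine sup_le Subgroup.le_normalizer
      (le_trans ?_ (Subgroup.centralizer_le_normalizer _))
    have hle : ⁅(Q' : Subgroup G), (P : Subgroup G)⁆ ≤ D := by
      rw [Subgroup.commutator_le]
      intro u _ v _
      rw [← QuotientGroup.eq_one_iff]
      show π ⁅u, v⁆ = 1
      rw [map_commutatorElement, commutatorElement_eq_one_iff_mul_comm]
      exact hcomm.is_comm.comm _ _
    set C := (Q' : Subgroup G) ⊓ Subgroup.centralizer ((P : Subgroup G) : Set G) with hC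
    have h4 := Cfsg.Agent.Basics.commutator_sup_inf_centralizer (P : Subgroup G) (Q' : Subgroup G)
      Subgroup.le_normalizer_of_normal hcop hsolv
    have htop : C.subgroupOf (Q' : Subgroup G) ⊔ frattini (Q' : Subgroup G) = ⊤ := by
      rw [eq_top_iff]
      rintro ⟨x, hx⟩ -
      rw [← h4] at hx
      have hDn : (Q' : Subgroup G) ⊓ Subgroup.centralizer ((P : Subgroup G) : Set G) ≤
          Subgroup.normalizer (D : Set G) := Subgroup.le_normalizer_of_normal
      obtain ⟨d, hd, c, hc, rfl⟩ := (Cfsg.Agent.Basics.mem_sup_of_le_normalizer hDn).mp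
        ((sup_le_sup_right hle _) hx)
      have hdQ := hDQ hd
      have hd' : (⟨d, hdQ⟩ : (Q' : Subgroup G)) ∈ frattini (Q' : Subgroup G) := by
        refine Cfsg.Agent.Basics.commutator_le_frattini ?_
        rw [hD] at hd
        obtain ⟨z, hz, rfl⟩ := hd
        exact hz
      exact mul_mem (Subgroup.mem_sup_right hd' : (⟨d, hdQ⟩ : (Q' : Subgroup G)) ∈ _)
        (Subgroup.mem_sup_left (Subgroup.mem_subgroupOf.mpr hc) :
          (⟨c, hc.1⟩ : (Q' : Subgroup G)) ∈ _)
    have h5 := frattini_nongenerating htop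
    rw [Subgroup.subgroupOf_eq_top] at h5
    exact h5.trans inf_le_right
  · intro K hK
    have hsurj := QuotientGroup.mk'_surjective D
    set H := K.comap π with hH
    have hH1 : H ≠ ⊤ := fun e => hK (by
      rw [← Subgroup.map_comap_eq_self_of_surjective hsurj K]
      show H.map π = ⊤
      rw [e, Subgroup.map_top_of_surjective _ hsurj])
    haveI := hG.2 H hH1
    obtain ⟨R⟩ := (inferInstance : Nonempty (Sylow p H))
    have hRp : IsPGroup p ((R : Subgroup H).map H.subtype) := R.2.map H.subtype
    obtain ⟨P', hP'⟩ := hRp.exists_le_sylow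
    haveI : IsCyclic (P' : Subgroup G) :=
      isCyclic_of_surjective (Sylow.equiv P P') (MulEquiv.surjective _)
    letI : CommGroup (P' : Subgroup G) := IsCyclic.commGroup
    have hgen : (H ⊓ (Q' : Subgroup G)) ⊔ (R : Subgroup H).map H.subtype = H := by
      set J := (H ⊓ (Q' : Subgroup G)) ⊔ (R : Subgroup H).map H.subtype with hJ
      have hJH : J ≤ H := sup_le inf_le_left (Subgroup.map_subtype_le _)
      have h6 : J.subgroupOf H = ⊤ := by
        refine Cfsg.Agent.Basics.eq_top_of_sylow_le _ fun r hr hrd => ?_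
        have hrG : r ∣ Nat.card G := hrd.trans (Subgroup.card_subgroup_dvd_card H)
        rw [hcard, P.card_eq_multiplicity, Q'.card_eq_multiplicity] at hrG
        rcases (Nat.Prime.dvd_mul hr.out).mp hrG with h | h
        · have hr' := (Nat.prime_dvd_prime_iff_eq hr.out hq').mp (hr.out.dvd_of_dvd_pow h)
          subst hr'
          obtain ⟨S⟩ := (inferInstance : Nonempty (Sylow r H))
          refine ⟨S, fun x hx => Subgroup.mem_subgroupOf.mpr (Subgroup.mem_sup_left
            (Subgroup.mem_inf.mpr ⟨x.2, ?_⟩))⟩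
          obtain ⟨S', hS'⟩ := (S.2.map H.subtype).exists_le_sylow
          have hSQ : S' = Q' := Subsingleton.elim _ _
          exact hSQ ▸ hS' ⟨x, hx, rfl⟩
        · have hr' := (Nat.prime_dvd_prime_iff_eq hr.out hp).mp (hr.out.dvd_of_dvd_pow h)
          subst hr'
          exact ⟨R, fun x hx =>
            Subgroup.mem_subgroupOf.mpr (Subgroup.mem_sup_right ⟨x, hx, rfl⟩)⟩
      exact le_antisymm hJH (Subgroup.subgroupOf_eq_top.mp h6)
    rw [← Subgroup.closure_eq (H ⊓ (Q' : Subgroup G)),
      ← Subgroup.closure_eq ((R : Subgroup H).map H.subtype), ← Subgroup.closure_union] at hgen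
    have hK' : K = Subgroup.closure (π '' (((H ⊓ (Q' : Subgroup G) : Subgroup G) : Set G) ∪
        ((R : Subgroup H).map H.subtype : Subgroup G))) := by
      rw [← MonoidHom.map_closure, hgen]
      exact (Subgroup.map_comap_eq_self_of_surjective hsurj K).symm
    rw [hK']
    refine Subgroup.isMulCommutative_closure ?_
    rintro _ ⟨x, hx, rfl⟩ _ ⟨y, hy, rfl⟩
    have cq : ∀ a ∈ (H ⊓ (Q' : Subgroup G) : Subgroup G),
        ∀ b ∈ (R : Subgroup H).map H.subtype, π a * π b = π b * π a := by
      intro a ha b hb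
      have hc : Commute a b := Cfsg.Agent.Basics.commute_of_coprime_le ‹Group.IsNilpotent H› ha.1
        (Subgroup.map_subtype_le _ hb) (((hcop.symm).coprime_dvd_left
          (Subgroup.orderOf_dvd_natCard _ ha.2)).coprime_dvd_right (by
            refine (Subgroup.orderOf_dvd_natCard _ (hP' hb)).trans ?_
            rw [Nat.card_congr (Sylow.equiv P P').toEquiv]))
      rw [← map_mul, ← map_mul, hc.eq]
    rcases hx with hx | hx <;> rcases hy with hy | hy
    · exact hQD x hx.2 y hy.2
    · exact cq x hx y hy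
    · exact (cq y hy x hx).symm
    · rw [← map_mul, ← map_mul]
      exact congrArg π (congrArg Subtype.val (mul_comm (⟨x, hP' hx⟩ : (P' : Subgroup G)) ⟨y, hP' hy⟩))

end Cfsg.Agent.S0577
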