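import Cfsg.Statements.S0578
import Cfsg.Agent.Lib.Basics.CoreFree

set_option autoImplicit false
open Cfsg

namespace Cfsg.Agent.S0578

/-- If in a finite group the normalizer of each abelian subgroup coincides with its centralizer, then the group is abelian. -/
theorem result {G : Type*} [Group G] [Finite G] (h : ∀ A : Subgroup G, IsMulCommutative A → Subgroup.normalizer (A : Set G) = Subgroup.centralizer (A : Set G)) : IsMulCommutative G := by
  have hab : ∀ (p : ℕ) [Fact p.Prime] (P : Sylow p G), IsMulCommutative (P : Subgroup G) := by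
    intro p _ P
    haveI := P.2.isNilpotent
    by_contra hnc
    set Z := Subgroup.center (P : Subgroup G)
    have hZ : Z ≠ ⊤ := fun e => hnc ⟨⟨fun a b =>
      (Subgroup.mem_center_iff.mp (e ▸ Subgroup.mem_top b : b ∈ Z) a)⟩⟩
    haveI : Nontrivial ((P : Subgroup G) ⧸ Z) := QuotientGroup.nontrivial_iff.mpr hZ
    haveI := (P.2.to_quotient Z).center_nontrivial
    obtain ⟨xb, hxb⟩ := exists_ne (1 : Subgroup.center ((P : Subgroup G) ⧸ Z))
    obtain ⟨x, hx⟩ := QuotientGroup.mk'_surjective Z (xb : (P : Subgroup G) ⧸ Z)
    set A0 := Subgroup.zpowers x ⊔ Z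
    have hA0 : IsMulCommutative A0 := by
      rw [Subgroup.le_centralizer_iff_isMulCommutative.symm]
      have h1 : Subgroup.zpowers x ≤ Subgroup.centralizer (A0 : Set (P : Subgroup G)) := by
        rw [Subgroup.zpowers_le, ← SetLike.mem_coe]
        refine Subgroup.mem_centralizer_iff.mpr fun y hy => ?_
        have : A0 ≤ Subgroup.centralizer {x} := sup_le
          (Subgroup.zpowers_le.mpr (Subgroup.mem_centralizer_singleton_iff.mpr rfl))
          fun z hz => Subgroup.mem_centralizer_singleton_iff.mpr ((Subgroup.mem_center_iff.mp hz x).symm)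
        exact Subgroup.mem_centralizer_singleton_iff.mp (this hy)
      exact sup_le h1 (Subgroup.center_le_centralizer _)
    set A := A0.map (P : Subgroup G).subtype
    haveI hA : IsMulCommutative A := by
      haveI := hA0
      infer_instance
    have hN : (P : Subgroup G) ≤ Subgroup.normalizer (A : Set G) := by
      have hn : A0.Normal := by
        refine ⟨fun a ha g => ?_⟩
        have hle : A0 ≤ A0.comap (MulAut.conj g).toMonoidHom := by
          refine sup_le (Subgroup.zpowers_le.mpr ?_) fun z hz => ?_
          · have hc : g * x * g⁻¹ * x⁻¹ ∈ Z := by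
              rw [← QuotientGroup.eq_one_iff, ← QuotientGroup.mk'_apply, map_mul, map_mul, map_mul,
                hx, Subgroup.mem_center_iff.mp xb.2 (QuotientGroup.mk' Z g), map_inv, map_inv, hx]
              group
            change g * x * g⁻¹ ∈ A0
            have := mul_mem (Subgroup.mem_sup_right (S := Subgroup.zpowers x) hc)
              (Subgroup.mem_sup_left (T := Z) (Subgroup.mem_zpowers x))
            simpa using this
          · exact Subgroup.mem_sup_right (Subgroup.Normal.conj_mem inferInstance z hz g)
        exact hle ha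
      intro y hy
      refine Subgroup.mem_normalizer_iff.mpr fun w => ⟨?_, ?_⟩
      · rintro ⟨a, ha, rfl⟩
        exact ⟨⟨y, hy⟩ * a * ⟨y, hy⟩⁻¹, hn.conj_mem a ha _, rfl⟩
      · rintro ⟨a, ha, e⟩
        refine ⟨⟨y, hy⟩⁻¹ * a * ⟨y, hy⟩, by simpa using hn.conj_mem a ha (⟨y, hy⟩ : (P : Subgroup G))⁻¹, ?_⟩
        change y⁻¹ * (P : Subgroup G).subtype a * y = w
        rw [e]; group
    rw [h A hA] at hN
    apply hxb
    have hxZ : x ∈ Z := Subgroup.mem_center_iff.mpr fun g => Subtype.ext
      ((Subgroup.mem_centralizer_iff.mp (hN g.2) (x : G)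
        ⟨x, Subgroup.mem_sup_left (Subgroup.mem_zpowers x), rfl⟩).symm)
    refine Subtype.ext ?_
    rw [← hx]
    exact (QuotientGroup.eq_one_iff x).mpr hxZ
  have hcop : ∀ p : ℕ, p.Prime → ¬ p ∣ Nat.card (commutator G) := by
    intro p hp hd
    haveI := Fact.mk hp
    let P : Sylow p G := default
    haveI := hab p P
    have hP : Subgroup.normalizer ((P : Subgroup G) : Set G) ≤ Subgroup.centralizer ((P : Subgroup G) : Set G) :=
      (h _ (hab p P)).le
    letI : CommGroup (P : Subgroup G) := { (inferInstance : Group (P : Subgroup G)) with mul_comm := fun a b => mul_comm' a b }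
    exact MonoidHom.not_dvd_card_ker_transferSylow P hP
      (hd.trans (Subgroup.card_dvd_of_le (Abelianization.commutator_subset_ker _)))
  have h1 : Nat.card (commutator G) = 1 := by
    by_contra hne
    exact hcop _ (Nat.minFac_prime hne) (Nat.minFac_dvd _)
  rw [Subgroup.card_eq_one, commutator_eq_bot_iff_center_eq_top] at h1
  exact ⟨⟨fun a b => Subgroup.mem_center_iff.mp (h1 ▸ Subgroup.mem_top b : b ∈ Subgroup.center G) a⟩⟩

end Cfsg.Agent.S0578
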