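import Cfsg.Statements.S0581
import Cfsg.Agent.Lib.FGS.WielandtHall

set_option autoImplicit false
open Pointwise
open Cfsg
open scoped Pointwise
set_option linter.all false

namespace Cfsg.Agent.S0581

/-- Let H be a nilpotent subgroup of a finite group G whose order is coprime to its index, and K a subgroup every prime divisor of whose order divides the order of H. Then K lies in some conjugate of H. -/
theorem result {G : Type*} [Group G] [Finite G] (H K : Subgroup G) (hH : Group.IsNilpotent H) (hHall : (Nat.card H).Coprime H.index) (hK : ∀ p : ℕ, p.Prime → p ∣ Nat.card K → p ∣ Nat.card H) : ∃ x : G, K ≤ MulAut.conj x • H := by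
  have hν : ∀ p : ℕ, p.Prime → p ∣ Nat.card K → FGS.ThreeSizes.nu p H = FGS.ThreeSizes.nu p (⊤ : Subgroup G) := by
    intro p hp hpK
    rw [FGS.ThreeSizes.nu_top, ← FGS.ThreeSizes.nu_add_index (p := p) H,
      Nat.factorization_eq_zero_of_not_dvd fun hd => hp.not_dvd_one
        (hHall ▸ Nat.dvd_gcd (hK p hp hpK) hd), add_zero]
  obtain ⟨x, -, hx⟩ := FGS.WielandtHall.exists_conj_le _ ⊤ H K rfl le_top le_top hH hν
  exact ⟨x⁻¹, by rwa [map_inv, Subgroup.subset_pointwise_smul_iff, inv_inv]⟩

end Cfsg.Agent.S0581
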