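import Cfsg.Statements.S0582
import Cfsg.Agent.Lib.Supersolv.Orders
import Cfsg.Agent.Lib.Basics.Cores

set_option autoImplicit false
open Pointwise
open Cfsg

namespace Cfsg.Agent.S0582

open Subgroup
open scoped Pointwise

universe u

theorem exists_sylow_of_le {G : Type u} [Group G] [Finite G] {H : Subgroup G} {p : ℕ} [Fact p.Prime]
    (hHall : (Nat.card H).Coprime H.index) (hp : p ∣ Nat.card H) (hH : Cfsg.IsSupersolvable H)
    (hmax : ∀ r : ℕ, r.Prime → r ∣ Nat.card H → r ≤ p) :
    ∃ P : Sylow p G, (P : Subgroup G) ≤ H ∧ H ≤ normalizer ((P : Subgroup G) : Set G) := by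
  obtain ⟨P⟩ := (inferInstance : Nonempty (Sylow p H))
  haveI := FGB.sylow_normal_of_isSupersolvable hH p hmax P
  have hp0 : (Nat.card G).factorization p = (Nat.card H).factorization p := by
    rw [← H.card_mul_index, Nat.factorization_mul Nat.card_pos.ne' Subgroup.index_ne_zero_of_finite,
      Finsupp.add_apply, Nat.factorization_eq_zero_of_not_dvd (fun h => (Fact.out : p.Prime).one_lt.ne'
        (Nat.eq_one_of_dvd_coprimes hHall hp h)), add_zero]
  let Q : Sylow p G := Sylow.ofCard ((P : Subgroup H).map H.subtype) (by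
    rw [Subgroup.card_map_of_injective H.subtype_injective, hp0]; exact P.card_eq_multiplicity)
  refine ⟨Q, ?_, ?_⟩
  · rw [show (Q : Subgroup G) = (P : Subgroup H).map H.subtype from rfl]
    exact Subgroup.map_subtype_le _
  · rw [show (Q : Subgroup G) = (P : Subgroup H).map H.subtype from rfl]
    have : ((P : Subgroup H).map H.subtype).subgroupOf H = (P : Subgroup H) :=
      Subgroup.comap_map_eq_self_of_injective H.subtype_injective _
    haveI : (((P : Subgroup H).map H.subtype).subgroupOf H).Normal := by rw [this]; infer_instance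
    exact Subgroup.le_normalizer_of_normal_subgroupOf (Subgroup.map_subtype_le _)

theorem aux : ∀ (n : ℕ) (G : Type u) [Group G] [Finite G], Nat.card G = n → ∀ H K : Subgroup G,
    Cfsg.IsSupersolvable H → Cfsg.IsSupersolvable K → Nat.card H = Nat.card K →
    (Nat.card H).Coprime H.index → ∃ x : G, MulAut.conj x • H = K := by
  intro n
  induction n using Nat.strong_induction_on with
  | _ n ih =>
  intro G _ _ hn H K hH hK hcard hHall
  rcases eq_or_ne (Nat.card H) 1 with h1 | h1
  · rw [Subgroup.eq_bot_of_card_eq H h1, Subgroup.eq_bot_of_card_eq K (hcard ▸ h1)]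
    exact ⟨1, by simp⟩
  have hKidx : K.index = H.index := by
    have e := H.card_mul_index.trans K.card_mul_index.symm
    rw [hcard] at e
    exact (Nat.eq_of_mul_eq_mul_left Nat.card_pos e).symm
  have hKHall : (Nat.card K).Coprime K.index := by rw [hKidx, ← hcard]; exact hHall
  have hne : (Nat.card H).primeFactors.Nonempty :=
    Nat.nonempty_primeFactors.mpr (Nat.lt_of_le_of_ne Nat.card_pos h1.symm)
  set p := (Nat.card H).primeFactors.max' hne
  have hpm := (Nat.card H).primeFactors.max'_mem hne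
  haveI := Fact.mk (Nat.prime_of_mem_primeFactors hpm)
  have hmax : ∀ r : ℕ, r.Prime → r ∣ Nat.card H → r ≤ p := fun r hr hd =>
    Finset.le_max' _ r (Nat.mem_primeFactors.mpr ⟨hr, hd, Nat.card_pos.ne'⟩)
  have hpd : p ∣ Nat.card H := Nat.dvd_of_mem_primeFactors hpm
  obtain ⟨P, hPH, hHP⟩ := exists_sylow_of_le hHall hpd hH hmax
  obtain ⟨Q, hQK, hKQ⟩ := exists_sylow_of_le hKHall (hcard ▸ hpd) hK (hcard ▸ hmax)
  obtain ⟨x, hx⟩ := MulAction.exists_smul_eq G P Q
  have hxQ : MulAut.conj x • (P : Subgroup G) = Q := congrArg Sylow.toSubgroup hx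
  set L := normalizer ((Q : Subgroup G) : Set G)
  set H' := MulAut.conj x • H with hH'
  have hQH' : (Q : Subgroup G) ≤ H' := hxQ ▸ Subgroup.pointwise_smul_le_pointwise_smul_iff.mpr hPH
  have hH'L : H' ≤ L := by
    have e : MulAut.conj x • normalizer ((P : Subgroup G) : Set G) =
        normalizer ((MulAut.conj x • (P : Subgroup G) : Subgroup G) : Set G) :=
      (Basics.normalizer_conj_smul x _).symm
    show H' ≤ normalizer ((Q : Subgroup G) : Set G)
    rw [← hxQ, ← e]
    exact Subgroup.pointwise_smul_le_pointwise_smul_iff.mpr hHP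
  have hQL : (Q : Subgroup G) ≤ L := le_normalizer
  haveI : ((Q : Subgroup G).subgroupOf L).Normal := Subgroup.normal_in_normalizer
  set N := (Q : Subgroup G).subgroupOf L
  let π := QuotientGroup.mk' N
  have hQne : (Q : Subgroup G) ≠ ⊥ := fun e => by
    have := Q.dvd_card_of_dvd_card (hpd.trans (Subgroup.card_subgroup_dvd_card H))
    rw [e, Subgroup.card_bot] at this
    exact (Fact.out : p.Prime).not_dvd_one this
  have hlt : Nat.card (L ⧸ N) < n := by
    refine lt_of_lt_of_le (Basics.card_quotient_lt fun e => hQne ?_) (hn ▸ Subgroup.card_le_card_group L)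
    exact Subgroup.eq_bot_of_card_eq _ (by rw [← Basics.card_subgroupOf hQL]; show Nat.card N = 1; rw [e, Subgroup.card_bot])
  have hss : ∀ U : Subgroup G, U ≤ L → Cfsg.IsSupersolvable U → Cfsg.IsSupersolvable ((U.subgroupOf L).map π) :=
    fun U hU hs => FGB.isSupersolvable_of_surjective _ (π.subgroupMap_surjective _)
      (Supersolv.congr (Subgroup.subgroupOfEquivOfLe hU).symm hs)
  have hNker : N = π.ker := (QuotientGroup.ker_mk' N).symm
  have hback : ∀ U : Subgroup G, (Q : Subgroup G) ≤ U →
      ((U.subgroupOf L).map π).comap π = U.subgroupOf L := fun U hU =>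
    Subgroup.comap_map_eq_self (hNker ▸ Subgroup.comap_mono hU)
  have hc : ∀ U : Subgroup G, (Q : Subgroup G) ≤ U → U ≤ L →
      Nat.card N * Nat.card ((U.subgroupOf L).map π) = Nat.card U := fun U hU hUL => by
    rw [← Basics.card_comap_mk', hback U hU, Basics.card_subgroupOf hUL]
  have hc1 : Nat.card H' = Nat.card H := Basics.card_conj_smul x H
  have hcardeq : Nat.card ((H'.subgroupOf L).map π) = Nat.card ((K.subgroupOf L).map π) :=
    Nat.eq_of_mul_eq_mul_left Nat.card_pos (by rw [hc H' hQH' hH'L, hc K hQK hKQ, hc1, hcard])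
  have hH'idx : H'.index = H.index := by
    have e := H'.card_mul_index.trans H.card_mul_index.symm
    rw [hc1] at e
    exact Nat.eq_of_mul_eq_mul_left Nat.card_pos e
  have hco : (Nat.card ((H'.subgroupOf L).map π)).Coprime ((H'.subgroupOf L).map π).index := by
    rw [← Subgroup.index_comap_of_surjective _ (QuotientGroup.mk'_surjective N), hback H' hQH']
    have h2 : (H'.subgroupOf L).index ∣ H.index := hH'idx ▸ (Subgroup.relIndex_mul_index hH'L ▸ dvd_mul_right _ _)
    exact Nat.Coprime.coprime_dvd_left (⟨Nat.card N, by rw [mul_comm, hc H' hQH' hH'L, hc1]⟩)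
      (hHall.coprime_dvd_right h2)
  obtain ⟨yb, hy⟩ := ih _ hlt (L ⧸ N) rfl _ _ (hss H' hH'L (Supersolv.congr (Subgroup.equivSMul _ H) hH))
    (hss K hKQ hK) hcardeq hco
  obtain ⟨y, rfl⟩ := QuotientGroup.mk'_surjective N yb
  refine ⟨(y : G) * x, ?_⟩
  rw [← Basics.conj_smul_conj_smul, ← hH']
  refine Subgroup.eq_of_le_of_card_ge ?_ (by rw [Basics.card_conj_smul, hc1, hcard])
  intro g hg
  obtain ⟨h, hh, rfl⟩ := hg
  show (y : G) * h * (y : G)⁻¹ ∈ K
  have h1 : π (y * ⟨h, hH'L hh⟩ * y⁻¹) ∈ (K.subgroupOf L).map π := by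
    rw [← hy, map_mul, map_mul, map_inv]
    exact Basics.conj_mem_conj_smul (Subgroup.mem_map_of_mem π (show (⟨h, hH'L hh⟩ : L) ∈ H'.subgroupOf L from hh))
  have h2 : y * ⟨h, hH'L hh⟩ * y⁻¹ ∈ K.subgroupOf L := hback K hQK ▸ h1
  exact h2

/-- Let H and K be supersolvable subgroups of a finite group G of the same order, that order being coprime to their index. Then H and K are conjugate in G. -/
theorem result {G : Type*} [Group G] [Finite G] (H K : Subgroup G) (hH : Cfsg.IsSupersolvable H) (hK : Cfsg.IsSupersolvable K) (hcard : Nat.card H = Nat.card K) (hHall : (Nat.card H).Coprime H.index) : ∃ x : G, MulAut.conj x • H = K := by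
  exact aux _ G rfl H K hH hK hcard hHall

end Cfsg.Agent.S0582
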