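import Cfsg.Statements.S0583
import Cfsg.Agent.Lib.Basics.Frattini

set_option autoImplicit false
open Cfsg

namespace Cfsg.Agent.S0583

/-- In a finite group the Fitting subgroup is contained in the centralizer of each minimal normal subgroup. -/
theorem result {G : Type*} [Group G] [Finite G] (M : Subgroup G) [M.Normal] (hM : M ≠ ⊥) (hmin : ∀ K : Subgroup G, K.Normal → K ≤ M → K = ⊥ ∨ K = M) : Cfsg.fittingSubgroup G ≤ Subgroup.centralizer (M : Set G) := by
  set F := Cfsg.fittingSubgroup G
  rcases hmin (M ⊓ F) inferInstance inf_le_left with h | h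
  · rw [← Subgroup.commutator_eq_bot_iff_le_centralizer, Subgroup.commutator_comm, eq_bot_iff, ← h]
    exact Subgroup.commutator_le_inf M F
  · have hMF : M ≤ F := h ▸ inf_le_right
    rw [← Subgroup.commutator_eq_bot_iff_le_centralizer, Subgroup.commutator_comm]
    rcases hmin ⁅M, F⁆ inferInstance (Subgroup.commutator_le_left _ _) with h' | h'
    · exact h'
    · exfalso
      obtain ⟨n, hn⟩ := (Subgroup.isNilpotent_iff_lowerCentralSeries F).mp Basics.fittingSubgroup_isNilpotent
      have : ∀ k, M ≤ F.lowerCentralSeries k := by
        intro k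
        induction k with
        | zero => exact hMF
        | succ k ih =>
          rw [← h', Subgroup.lowerCentralSeries_succ]
          exact Subgroup.commutator_mono ih le_rfl
      exact hM (le_bot_iff.mp (hn ▸ this n))

end Cfsg.Agent.S0583
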