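import Cfsg.Statements.S0584
import Cfsg.Agent.Lib.Basics.Frattini

set_option autoImplicit false
open Cfsg

namespace Cfsg.Agent.S0584

/-- Let B ≤ A be normal subgroups of a finite group G with B contained in the Frattini subgroup of G. If A modulo B is nilpotent then A is nilpotent. -/
theorem result {G : Type*} [Group G] [Finite G] (A B : Subgroup G) [A.Normal] [B.Normal] (hBA : B ≤ A) (hB : B ≤ frattini G) (h : Group.IsNilpotent (↥A ⧸ B.subgroupOf A)) : Group.IsNilpotent A := by
  refine Basics.isNilpotent_of_map_quotient A B hB ?_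
  have := h
  let f := (QuotientGroup.mk' B).subgroupMap A
  have hker : B.subgroupOf A ≤ f.ker := by
    intro x hx
    rw [MonoidHom.mem_ker]
    exact Subtype.ext ((QuotientGroup.eq_one_iff (x : G)).mpr hx)
  refine Group.nilpotent_of_surjective (QuotientGroup.lift (B.subgroupOf A) f hker) ?_
  intro y
  obtain ⟨x, hx⟩ := (QuotientGroup.mk' B).subgroupMap_surjective A y
  exact ⟨QuotientGroup.mk x, hx⟩

end Cfsg.Agent.S0584
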