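import Cfsg.Statements.S0585
import Cfsg.Agent.Lib.Basics.Frattini

set_option autoImplicit false
open Cfsg

namespace Cfsg.Agent.S0585

/-- If the Frattini subgroup of a finite group G is trivial, then every abelian normal subgroup of G has a complement in G. -/
theorem result {G : Type*} [Group G] [Finite G] (hΦ : frattini G = ⊥) (A : Subgroup G) [A.Normal] [IsMulCommutative A] : ∃ H : Subgroup G, Subgroup.IsComplement' A H := by
  obtain ⟨H, -, hH, hmin⟩ := Finite.exists_le_minimal
    (p := fun H : Subgroup G => H ⊔ A = ⊤) (a := ⊤) (top_sup_eq A)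
  have hn : (A ⊓ H).Normal := by
    rw [← Subgroup.normalizer_eq_top_iff, eq_top_iff, ← hH]
    refine sup_le (fun h hh => ?_) (fun a ha => ?_)
    · rw [← Basics.conj_smul_eq_self_iff, Subgroup.smul_inf, Subgroup.Normal.conj_smul_eq_self,
        Subgroup.conj_smul_eq_self_of_mem hh]
    · rw [Subgroup.mem_normalizer_iff]
      intro x
      constructor
      · intro hx
        have : a * x = x * a :=
          congrArg Subtype.val (IsMulCommutative.is_comm.comm (⟨a, ha⟩ : A) ⟨x, hx.1⟩)
        rwa [this, mul_inv_cancel_right]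
      · intro hx
        have hc : a * (a * x * a⁻¹) = (a * x * a⁻¹) * a :=
          congrArg Subtype.val (IsMulCommutative.is_comm.comm (⟨a, ha⟩ : A) ⟨_, hx.1⟩)
        rw [inv_mul_cancel_right] at hc
        rwa [← mul_left_cancel hc]
  have hle : A ⊓ H ≤ frattini G := by
    refine Basics.le_frattini_of_le_frattini_subgroup (K := H) inf_le_right ?_
    refine le_iInf₂ fun M hM => ?_
    by_contra hne
    have hsup := Basics.le_of_not_le_sup_eq_top hM hne
    have h1 : H ≤ (M.map H.subtype) ⊔ A := by
      intro x hx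
      have h2 : (⟨x, hx⟩ : H) ∈ M ⊔ (A ⊓ H).subgroupOf H := by rw [hsup]; trivial
      have h3 := Subgroup.mem_map_of_mem H.subtype h2
      rw [Subgroup.map_sup, Subgroup.map_subgroupOf_eq_of_le inf_le_right] at h3
      exact (sup_le_sup le_rfl inf_le_left : M.map H.subtype ⊔ A ⊓ H ≤ M.map H.subtype ⊔ A) h3
    have h5 : M.map H.subtype ⊔ A = ⊤ := by rw [eq_top_iff, ← hH]; exact sup_le h1 le_sup_right
    have h4 := hmin (y := M.map H.subtype) h5
      (Subgroup.map_subtype_le _)
    exact hM.1 (eq_top_iff.mpr fun x _ =>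
      (Subgroup.mem_map_iff_mem H.subtype_injective).mp (h4 x.2))
  refine ⟨H, Subgroup.isComplement'_of_disjoint_and_mul_eq_univ ?_ ?_⟩
  · rw [disjoint_iff, eq_bot_iff, ← hΦ]
    exact hle
  · rw [← Subgroup.normal_mul A H, sup_comm, hH, Subgroup.coe_top]

end Cfsg.Agent.S0585
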