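import Cfsg.Statements.S0586
import Cfsg.Agent.Lib.Basics.CoreFree

set_option autoImplicit false
open Cfsg

namespace Cfsg.Agent.S0586

/-- If the Frattini subgroup of a finite group G is trivial, then the Fitting subgroup of G equals the join of all abelian minimal normal subgroups of G. -/
theorem result {G : Type*} [Group G] [Finite G] (hΦ : frattini G = ⊥) : Cfsg.fittingSubgroup G = sSup {N : Subgroup G | N.Normal ∧ N ≠ ⊥ ∧ IsMulCommutative N ∧ ∀ K : Subgroup G, K.Normal → K ≤ N → K = ⊥ ∨ K = N} := by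
  set F := Cfsg.fittingSubgroup G
  set T := {N : Subgroup G | N.Normal ∧ N ≠ ⊥ ∧ IsMulCommutative N ∧ ∀ K : Subgroup G, K.Normal → K ≤ N → K = ⊥ ∨ K = N}
  set S := sSup T with hS
  have hFn : F.Normal := Basics.fittingSubgroup_normal
  haveI := hFn
  haveI : Group.IsNilpotent F := Basics.fittingSubgroup_isNilpotent
  have hFab : IsMulCommutative F := by
    rw [← Subgroup.commutator_self_eq_bot_iff, ← Subgroup.map_subtype_commutator, eq_bot_iff, ← hΦ]
    exact (Subgroup.map_mono Basics.commutator_le_frattini).trans (Basics.map_frattini_le F)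
  have hSF : S ≤ F := sSup_le fun N hN => by
    haveI := hN.1
    haveI := hN.2.2.1
    refine Basics.le_fittingSubgroup ?_
    letI : CommGroup N := { (inferInstance : Group N) with mul_comm := fun a b => mul_comm' a b }
    infer_instance
  haveI hSn : S.Normal := by
    refine ⟨fun x hx g => ?_⟩
    have : S ≤ S.comap (MulAut.conj g).toMonoidHom := sSup_le fun N hN y hy =>
      (le_sSup hN : N ≤ S) (hN.1.conj_mem y hy g)
    exact this hx
  have hcent : ∀ W : Subgroup G, W ≤ F → S ≤ Subgroup.normalizer (W : Set G) := fun W hW s hs => by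
    haveI := hFab
    refine Subgroup.centralizer_le_normalizer _ (Subgroup.mem_centralizer_iff.mpr fun w hw => ?_)
    exact Subgroup.mem_centralizer_iff.mp (Subgroup.le_centralizer F (hSF hs)) w (hW hw)
  obtain ⟨H, hH, hHmin⟩ := WellFounded.has_min (wellFounded_lt (α := Subgroup G))
    {H : Subgroup G | S ⊔ H = ⊤} ⟨⊤, sup_top_eq S⟩
  have hnorm : ∀ W : Subgroup G, W.Normal → W ≤ F → (W ⊓ H).Normal := fun W hW hWF => by
    rw [← Subgroup.normalizer_eq_top_iff, eq_top_iff, ← hH, sup_le_iff]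
    refine ⟨hcent _ (inf_le_left.trans hWF), fun u hu => ?_⟩
    refine Subgroup.mem_normalizer_iff.mpr fun y => ?_
    have hmN : u ∈ Subgroup.normalizer (W : Set G) := Subgroup.le_normalizer_of_normal (Subgroup.mem_top u)
    have e : u * y * u⁻¹ ∈ H ↔ y ∈ H :=
      ⟨fun h => by simpa [mul_assoc] using H.mul_mem (H.mul_mem (H.inv_mem hu) h) hu,
        fun h => H.mul_mem (H.mul_mem hu h) (H.inv_mem hu)⟩
    simp only [Subgroup.mem_inf]
    rw [← Subgroup.mem_normalizer_iff.mp hmN y, e]
  have hinf : S ⊓ H = ⊥ := by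
    haveI := hnorm S hSn hSF
    rw [eq_bot_iff, ← hΦ]
    refine le_iInf₂ fun M hM => ?_
    by_contra hne
    have hsup := Basics.le_of_not_le_sup_eq_top hM hne
    rw [sup_comm] at hsup
    have hle : H ≤ S ⊔ (M ⊓ H) := fun x hx => by
      obtain ⟨d, hd, m, hm, rfl⟩ := Subgroup.mem_sup_of_normal_left.mp (hsup ▸ Subgroup.mem_top x : x ∈ (S ⊓ H) ⊔ M)
      exact mul_mem (Subgroup.mem_sup_left hd.1)
        (Subgroup.mem_sup_right ⟨hm, (H.mul_mem_cancel_left hd.2).mp hx⟩)
    have htop : S ⊔ (M ⊓ H) = ⊤ := by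
      rw [eq_top_iff, ← hH]
      exact sup_le le_sup_left hle
    have : M ⊓ H = H := (lt_or_eq_of_le inf_le_right).resolve_left (hHmin _ htop)
    exact hne (inf_le_right.trans (inf_eq_right.mp this))
  have hFH : F ⊓ H = ⊥ := by
    haveI := hnorm F hFn le_rfl
    by_contra hne
    obtain ⟨N, hNn, hNle, hN, hNmin⟩ := Basics.exists_minimal_normal hne
    have hNab : IsMulCommutative N := ⟨⟨fun a b => Subtype.ext <| by
      haveI := hFab
      have hc : (a : G) * b = b * a :=
        congrArg Subtype.val (mul_comm' (⟨a, (hNle a.2).1⟩ : F) ⟨b, (hNle b.2).1⟩)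
      exact hc⟩⟩
    have : N ≤ S ⊓ H := le_inf (le_sSup ⟨hNn, hN, hNab, hNmin⟩) (hNle.trans inf_le_right)
    rw [hinf] at this
    exact hN (eq_bot_iff.mpr this)
  exact (Basics.eq_of_le_of_sup_eq_top hSF hH hFH).symm

end Cfsg.Agent.S0586
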