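import Cfsg.Statements.S0587
import Cfsg.Agent.Lib.Basics.CoreFree

set_option autoImplicit false
open Cfsg

namespace Cfsg.Agent.S0587

/-- Let G be a finite group whose largest normal p-subgroup L is nontrivial, and M a maximal subgroup of G with trivial normal core. Then L is elementary abelian, M is a complement to L, L is a minimal normal subgroup of G, the centralizer of L is L, and for every prime q such that the largest normal q-subgroup of M is nontrivial, the order of L is congruent to 1 modulo q and q ≠ p. -/
theorem result {G : Type*} [Group G] [Finite G] (p : ℕ) [Fact p.Prime] (hL : Cfsg.pCore p G ≠ ⊥) (M : Subgroup G) (hM : IsCoatom M) (hcore : M.normalCore = ⊥) : Cfsg.IsElementaryAbelian p (Cfsg.pCore p G) ∧ Subgroup.IsComplement' (Cfsg.pCore p G) M ∧ (∀ K : Subgroup G, K.Normal → K ≤ Cfsg.pCore p G → K = ⊥ ∨ K = Cfsg.pCore p G) ∧ Subgroup.centralizer ((Cfsg.pCore p G : Subgroup G) : Set G) = Cfsg.pCore p G ∧ ∀ (q : ℕ) [Fact q.Prime], Cfsg.pCore q ↥M ≠ ⊥ → Nat.card (Cfsg.pCore p G) % q = 1 % q ∧ q ≠ p := by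
  set L := Cfsg.pCore p G with hLdef
  haveI : L.Normal := Basics.pCore_normal p
  have hLp : IsPGroup p L := Basics.pCore_isPGroup p
  haveI := hLp.isNilpotent
  have htop := Basics.sup_eq_top_of_corefree hM hcore hL
  have hfr : frattini L = ⊥ := by
    rw [← Subgroup.map_eq_bot_iff_of_injective _ L.subtype_injective, eq_bot_iff, ← hcore]
    haveI : ((frattini L).map L.subtype).Normal := ConjAct.normal_of_characteristic_of_normal
    exact Subgroup.normal_le_normalCore.mpr ((Basics.map_frattini_le L).trans (iInf₂_le M hM))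
  have hab : IsMulCommutative L := by
    rw [← Subgroup.commutator_self_eq_bot_iff, ← Subgroup.map_subtype_commutator,
      Subgroup.map_eq_bot_iff_of_injective _ L.subtype_injective, eq_bot_iff, ← hfr]
    exact Basics.commutator_le_frattini
  have hLC : L ≤ Subgroup.centralizer (L : Set G) := by
    haveI := hab
    exact Subgroup.le_centralizer L
  have hCM := Basics.centralizer_inf_eq_bot hM hcore L hL
  have hC : Subgroup.centralizer (L : Set G) = L := (Basics.eq_of_le_of_sup_eq_top hLC htop hCM).symm
  have hLM : L ⊓ M = ⊥ := by rw [← hC]; exact hCM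
  refine ⟨⟨hab, fun a ha => ?_⟩, Subgroup.isComplement'_of_disjoint_and_mul_eq_univ (disjoint_iff.mpr hLM)
    (by rw [← Subgroup.normal_mul, htop]; rfl), fun K hK hKL => ?_, hC, fun q _ hq => ?_⟩
  · have h := Basics.pow_mem_frattini hLp (⟨a, ha⟩ : L)
    rw [hfr, Subgroup.mem_bot] at h
    exact congrArg Subtype.val h
  · rcases eq_or_ne K ⊥ with h | h
    · exact Or.inl h
    · exact Or.inr (Basics.eq_of_le_of_sup_eq_top hKL (Basics.sup_eq_top_of_corefree hM hcore h) hLM)
  · set Q0 := Cfsg.pCore q M
    haveI : Q0.Normal := Basics.pCore_normal q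
    set Q := Q0.map M.subtype with hQdef
    have hQM : Q ≤ M := Subgroup.map_subtype_le _
    have hQ0 : Q ≠ ⊥ := fun e => hq ((Subgroup.map_eq_bot_iff_of_injective _ M.subtype_injective).mp e)
    have hQp : IsPGroup q Q := (Basics.pCore_isPGroup q).map _
    have hMQ : M ≤ Subgroup.normalizer (Q : Set G) := fun m hm => by
      refine Subgroup.mem_normalizer_iff.mpr fun y => ⟨?_, fun h => ?_⟩
      · rintro ⟨w, hw, rfl⟩
        exact ⟨⟨m, hm⟩ * w * ⟨m, hm⟩⁻¹, Subgroup.Normal.conj_mem inferInstance w hw _, rfl⟩
      · obtain ⟨w, hw, e⟩ := h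
        refine ⟨⟨m, hm⟩⁻¹ * w * ⟨m, hm⟩, ?_, ?_⟩
        · simpa using Subgroup.Normal.conj_mem inferInstance w hw (⟨m, hm⟩ : M)⁻¹
        · change m⁻¹ * M.subtype w * m = y
          rw [e]; group
    have hQC : ¬ Q ≤ Subgroup.centralizer (L : Set G) := fun h => hQ0 (by
      rw [eq_bot_iff, ← hCM]; exact le_inf h hQM)
    refine ⟨?_, ?_⟩
    · haveI : (L ⊓ Subgroup.centralizer (Q : Set G)).Normal := by
        rw [← Subgroup.normalizer_eq_top_iff, eq_top_iff, ← htop, sup_le_iff]
        constructor
        · intro l hl
          refine Subgroup.centralizer_le_normalizer _ (Subgroup.mem_centralizer_iff.mpr fun y hy => ?_)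
          exact (Subgroup.mem_centralizer_iff.mp (hLC hy.1) l hl).symm
        · intro u hu
          refine Subgroup.mem_normalizer_iff.mpr fun y => ?_
          have hmN : u ∈ Subgroup.normalizer (L : Set G) := Subgroup.le_normalizer_of_normal (Subgroup.mem_top u)
          have hmQ : u ∈ Subgroup.normalizer ((Subgroup.centralizer (Q : Set G) : Subgroup G) : Set G) := by
            refine Subgroup.mem_normalizer_iff.mpr fun y => ?_
            simp only [Subgroup.mem_centralizer_iff]
            constructor
            · intro h z hz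
              have hz' : u⁻¹ * z * u ∈ Q := by
                simpa using (Subgroup.mem_normalizer_iff.mp (Subgroup.inv_mem _ (hMQ hu)) z).mp hz
              have e := h _ hz'
              calc z * (u * y * u⁻¹) = u * ((u⁻¹ * z * u) * y) * u⁻¹ := by group
                _ = u * (y * (u⁻¹ * z * u)) * u⁻¹ := by rw [e]
                _ = u * y * u⁻¹ * z := by group
            · intro h z hz
              have hz' : u * z * u⁻¹ ∈ Q := (Subgroup.mem_normalizer_iff.mp (hMQ hu) z).mp hz
              have e := h _ hz'
              calc z * y = u⁻¹ * ((u * z * u⁻¹) * (u * y * u⁻¹)) * u := by group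
                _ = u⁻¹ * (u * y * u⁻¹ * (u * z * u⁻¹)) * u := by rw [e]
                _ = y * z := by group
          simp only [Subgroup.mem_inf]
          rw [← Subgroup.mem_normalizer_iff.mp hmN y, ← Subgroup.mem_normalizer_iff.mp hmQ y]
      have hfix : L ⊓ Subgroup.centralizer (Q : Set G) = ⊥ := by
        by_contra hne
        have h1 : L ⊓ Subgroup.centralizer (Q : Set G) = L :=
          Basics.eq_of_le_of_sup_eq_top inf_le_left (Basics.sup_eq_top_of_corefree hM hcore hne) hLM
        refine hQC fun z hz => Subgroup.mem_centralizer_iff.mpr fun l hl => ?_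
        exact (Subgroup.mem_centralizer_iff.mp (h1.ge hl).2 z hz).symm
      letI : MulAction Q0 L := MulAction.compHom L
        ((MulAut.conjNormal (H := L)).comp (M.subtype.comp Q0.subtype))
      have h1 := (Basics.pCore_isPGroup q (G := M)).card_modEq_card_fixedPoints L
      have h2 : MulAction.fixedPoints Q0 L = {1} := by
        ext l
        simp only [MulAction.mem_fixedPoints, Set.mem_singleton_iff]
        constructor
        · intro h
          refine Subtype.ext (Subgroup.mem_bot.mp (hfix ▸ (⟨l.2, Subgroup.mem_centralizer_iff.mpr ?_⟩ :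
            (l : G) ∈ L ⊓ Subgroup.centralizer (Q : Set G))))
          rintro _ ⟨w, hw, rfl⟩
          have e := congrArg Subtype.val (h ⟨w, hw⟩)
          exact mul_inv_eq_iff_eq_mul.mp e
        · rintro rfl w
          exact map_one (MulAut.conjNormal (H := L) _)
      rw [h2, Nat.card_coe_set_eq, Set.ncard_singleton] at h1
      exact h1
    · rintro rfl
      haveI : (L ⊔ Q).Normal := by
        rw [← Subgroup.normalizer_eq_top_iff, eq_top_iff, ← htop, sup_le_iff]
        refine ⟨(le_sup_left.trans Subgroup.le_normalizer), fun u hu => ?_⟩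
        have h1 : u ∈ Subgroup.normalizer (L : Set G) := Subgroup.le_normalizer_of_normal (Subgroup.mem_top u)
        rw [← Basics.conj_smul_eq_self_iff, Subgroup.smul_sup, Basics.conj_smul_eq_self_iff.mpr h1,
          Basics.conj_smul_eq_self_iff.mpr (hMQ hu)]
      have hQL : Q ≤ L := le_sup_right.trans (Basics.le_pCore (hLp.to_sup_of_normal_left hQp))
      exact hQ0 (eq_bot_iff.mpr (hLM ▸ le_inf hQL hQM))

end Cfsg.Agent.S0587
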