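import Cfsg.Statements.S0590
import Cfsg.Agent.Lib.Transfer.ClassTwo
import Cfsg.Agent.Lib.Transfer.JSubgroup

set_option autoImplicit false
open Cfsg

namespace Cfsg.Agent.S0590

open Subgroup Cfsg.Agent.Transfer
open scoped commutatorElement Pointwise


/-- Quadratic action on an elementary abelian p-group forces the acting group modulo the kernel of the action to be elementary abelian. -/
theorem result {G : Type*} [Group G] [Finite G] {p : ℕ} [Fact p.Prime] (V H : Subgroup G) (hV : Cfsg.IsElementaryAbelian p V) (hHV : H ≤ Subgroup.normalizer (V : Set G)) (hq : ⁅⁅V, H⁆, H⁆ = ⊥) : ⁅H, H⁆ ≤ Subgroup.centralizer (V : Set G) ∧ ∀ a ∈ H, a ^ p ∈ Subgroup.centralizer (V : Set G) := by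
  have hq' : ⁅⁅H, V⁆, H⁆ = ⊥ := by rwa [Subgroup.commutator_comm H V]
  have h1 : ⁅⁅H, H⁆, V⁆ = ⊥ := commutator_commutator_eq_bot_of_rotate hq' hq
  refine ⟨commutator_eq_bot_iff_le_centralizer.mp h1, fun a ha v hv => ?_⟩
  have hc : ⁅a, v⁆ ∈ V := by
    rw [commutatorElement_def]
    exact mul_mem ((mem_normalizer_iff.mp (hHV ha) v).mp hv) (inv_mem hv)
  have hca : Commute a ⁅a, v⁆ := by
    have h2 : ⁅⁅a, v⁆, a⁆ ∈ (⊥ : Subgroup G) := hq' ▸
      commutator_mem_commutator (commutator_mem_commutator ha hv) ha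
    exact (commutatorElement_eq_one_iff_commute.mp (mem_bot.mp h2)).symm
  have h3 := commutator_pow_left hca p
  rw [hV.2 _ hc, commutatorElement_eq_one_iff_commute] at h3
  exact h3.symm.eq

end Cfsg.Agent.S0590
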