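import Cfsg.Statements.S0591
import Cfsg.Agent.Lib.Transfer.ClassTwo
import Cfsg.Agent.Lib.Transfer.JSubgroup

set_option autoImplicit false
open Cfsg

namespace Cfsg.Agent.S0591

open Subgroup Cfsg.Agent.Transfer
open scoped commutatorElement Pointwise


/-- For a quadratically acting element a on an elementary abelian p-group V, the fixed points C_V(a) have order at least the square root of the order of V. -/
theorem result {G : Type*} [Group G] [Finite G] {p : ℕ} [Fact p.Prime] (V : Subgroup G) (hV : Cfsg.IsElementaryAbelian p V) (a : G) (ha : a ∈ Subgroup.normalizer (V : Set G)) (hq : ⁅⁅V, Subgroup.zpowers a⁆, Subgroup.zpowers a⁆ = ⊥) : Nat.card V ≤ Nat.card ↥(V ⊓ Subgroup.centralizer (Subgroup.zpowers a : Set G)) ^ 2 := by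
  haveI := hV.1
  have hcl : ∀ v : V, a * (v : G) * a⁻¹ * (v : G)⁻¹ ∈ V := fun v =>
    mul_mem ((mem_normalizer_iff.mp ha v).mp v.2) (inv_mem v.2)
  let φ : V →* V :=
    { toFun := fun v => ⟨_, hcl v⟩
      map_one' := Subtype.ext (by simp)
      map_mul' := fun v w => Subtype.ext (by
        have h : Commute (a * (w : G) * a⁻¹) (v : G)⁻¹ :=
          ea_commute hV ((mem_normalizer_iff.mp ha w).mp w.2) (inv_mem v.2)
        simp only [coe_mul, mul_inv_rev]
        calc a * ((v : G) * w) * a⁻¹ * ((w : G)⁻¹ * (v : G)⁻¹)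
            = a * v * a⁻¹ * (a * w * a⁻¹) * ((w : G)⁻¹ * (v : G)⁻¹) := by group
          _ = a * v * a⁻¹ * (a * w * a⁻¹) * ((v : G)⁻¹ * (w : G)⁻¹) := by
            rw [ea_commute hV (inv_mem w.2) (inv_mem v.2)]
          _ = a * v * a⁻¹ * (v : G)⁻¹ * (a * w * a⁻¹ * (w : G)⁻¹) := by
            rw [← mul_assoc, mul_assoc (a * (v : G) * a⁻¹), h.eq]; group) }
  set C := (V ⊓ centralizer (zpowers a : Set G)) with hC
  have hcomm : ∀ v : G, Commute a v → v ∈ centralizer (zpowers a : Set G) := by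
    intro v h z hz
    obtain ⟨i, rfl⟩ := mem_zpowers_iff.mp hz
    exact (h.zpow_left i).eq
  have hk : φ.ker ≤ C.subgroupOf V := fun v hv => by
    have h : a * (v : G) * a⁻¹ * (v : G)⁻¹ = 1 := congrArg Subtype.val (MonoidHom.mem_ker.mp hv)
    exact ⟨v.2, hcomm _ (mul_inv_eq_iff_eq_mul.mp (mul_inv_eq_one.mp h))⟩
  have hr : φ.range ≤ C.subgroupOf V := by
    rintro _ ⟨v, rfl⟩
    refine ⟨hcl v, hcomm _ ?_⟩
    have h1 : ⁅(v : G), a⁆ ∈ ⁅V, zpowers a⁆ := commutator_mem_commutator v.2 (mem_zpowers a)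
    have h2 : ⁅⁅(v : G), a⁆, a⁆ ∈ (⊥ : Subgroup G) := hq ▸
      commutator_mem_commutator h1 (mem_zpowers a)
    have h3 : Commute ⁅(v : G), a⁆ a := commutatorElement_eq_one_iff_commute.mp (mem_bot.mp h2)
    have e : a * (v : G) * a⁻¹ * (v : G)⁻¹ = ⁅(v : G), a⁆⁻¹ := by
      rw [commutatorElement_def]; group
    show Commute a (a * (v : G) * a⁻¹ * (v : G)⁻¹)
    rw [e]
    exact h3.symm.inv_right
  have h := card_mul_index φ.ker
  rw [index_ker] at h
  have hCc : Nat.card (C.subgroupOf V) = Nat.card C :=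
    Nat.card_congr (subgroupOfEquivOfLe inf_le_left).toEquiv
  rw [← h, sq, ← hCc]
  exact Nat.mul_le_mul (card_le_of_le hk) (card_le_of_le hr)

end Cfsg.Agent.S0591
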