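import Cfsg.Statements.S0592
import Cfsg.Agent.Lib.SL2Dickson.LinearPair

set_option autoImplicit false
open Cfsg

namespace Cfsg.Agent.S0592

/-- Two quadratically acting generators of a linear group that is not a p-group, with the p'-part of the order of their product dividing q - 1, give a homomorphism onto a subgroup of SL(2, q) that is not a p-group. -/
theorem result {K : Type*} [Field K] [Fintype K] {p : ℕ} [Fact p.Prime] [CharP K p] {W : Type*} [AddCommGroup W] [Module K W] [FiniteDimensional K W] [Finite W] [Nontrivial W] (H : Subgroup (W ≃ₗ[K] W)) (a b : W ≃ₗ[K] W) (hH : H = Subgroup.closure {a, b}) (ha : ∀ w : W, a (a w - w) = a w - w) (hb : ∀ w : W, b (b w - w) = b w - w) (hnp : ¬ IsPGroup p H) (hk : ∃ e k : ℕ, orderOf (a * b) = p ^ e * k ∧ k ∣ Fintype.card K - 1) : ∃ φ : H →* Matrix.SpecialLinearGroup (Fin 2) K, ¬ IsPGroup p φ.range := by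
  haveI : Finite (W ≃ₗ[K] W) := Finite.of_injective (fun f => (f : W → W)) fun f g h => LinearEquiv.ext (congrFun h)
  let ρ₀ : (W ≃ₗ[K] W) →* Module.End K W :=
    { toFun := fun f => f.toLinearMap, map_one' := rfl, map_mul' := fun f g => rfl }
  let ρ : ↥H →* Module.End K W := ρ₀.comp H.subtype
  have haH : a ∈ H := hH ▸ Subgroup.subset_closure (Set.mem_insert a _)
  have hbH : b ∈ H := hH ▸ Subgroup.subset_closure (Set.mem_insert_of_mem a (Set.mem_singleton b))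
  set a₀ : ↥H := ⟨a, haH⟩
  set b₀ : ↥H := ⟨b, hbH⟩
  have hgen : Subgroup.closure ({a₀, b₀} : Set ↥H) = ⊤ := by
    apply Subgroup.map_injective H.subtype_injective
    rw [MonoidHom.map_closure, Set.image_pair, ← MonoidHom.range_eq_map, Subgroup.range_subtype]
    exact hH.symm
  have hsq : ∀ c : W ≃ₗ[K] W, (∀ w : W, c (c w - w) = c w - w) →
      (ρ₀ c - 1) * (ρ₀ c - 1) = 0 := fun c hc => LinearMap.ext fun w => by
    show c (c w - w) - (c w - w) = 0
    rw [hc, sub_self]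
  have hchar : (p : Module.End K W) = 0 := by
    rw [← map_natCast (algebraMap K (Module.End K W)), CharP.cast_eq_zero, map_zero]
  have hnil : ¬ IsNilpotent ((ρ a₀ - 1) * (ρ b₀ - 1)) := fun hn => hnp fun h => by
    obtain ⟨k, hk⟩ := Cfsg.Agent.SL2Dickson.isPGroup_of_nilpotent hchar ρ a₀ b₀ (hsq a ha)
      (hsq b hb) hn h (by rw [hgen]; trivial)
    refine ⟨k, Subtype.ext (LinearEquiv.ext fun w => ?_)⟩
    rw [← map_pow] at hk
    exact LinearMap.congr_fun hk w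
  obtain ⟨e, k, hord, hkq⟩ := hk
  have hT : ρ (a₀ * b₀) = (1 + (ρ a₀ - 1)) * (1 + (ρ b₀ - 1)) := by
    rw [map_mul, add_sub_cancel, add_sub_cancel]
  have hinv : ∀ c : ↥H, (ρ c - 1) * (ρ c - 1) = 0 → ρ c⁻¹ = 1 - (ρ c - 1) := fun c hc => by
    have h1 : ρ c * (1 - (ρ c - 1)) = 1 := by
      calc ρ c * (1 - (ρ c - 1)) = 1 - (ρ c - 1) * (ρ c - 1) := by noncomm_ring
        _ = 1 := by rw [hc, sub_zero]
    calc ρ c⁻¹ = ρ c⁻¹ * (ρ c * (1 - (ρ c - 1))) := by rw [h1, mul_one]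
      _ = _ := by rw [← mul_assoc, ← map_mul, inv_mul_cancel, map_one, one_mul]
  have hT' : ρ (a₀ * b₀)⁻¹ = (1 - (ρ b₀ - 1)) * (1 - (ρ a₀ - 1)) := by
    rw [mul_inv_rev, map_mul, hinv a₀ (hsq a ha), hinv b₀ (hsq b hb)]
  have hpow : ρ (a₀ * b₀) ^ (p ^ e * k) = 1 := by
    show (ρ₀ (a * b)) ^ (p ^ e * k) = 1
    rw [← map_pow, ← hord, pow_orderOf_eq_one, map_one]
  obtain ⟨d, hd, w, hw0, hw⟩ := Cfsg.Agent.SL2Dickson.exists_plane (p := p) (hsq a ha) (hsq b hb)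
    hT hT' hpow hkq hnil
  obtain ⟨φ, hφa, hφb⟩ := Cfsg.Agent.SL2Dickson.exists_hom_of_plane ρ a₀ b₀ hgen (hsq a ha)
    (hsq b hb) hd hw0 hw
  exact ⟨φ, Cfsg.Agent.SL2Dickson.not_pGroup_range φ hd hφa hφb⟩

end Cfsg.Agent.S0592
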