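import Cfsg.Statements.S0594
import Cfsg.Agent.Lib.SL2Dickson.Pairs

set_option autoImplicit false
open Cfsg

namespace Cfsg.Agent.S0594

/-- For odd p, two quadratic generators of a faithful group that is not a p-group, one of which acts nontrivially on a normal subgroup of order prime to p, force p = 3 and a section isomorphic to SL(2,3). -/
theorem result {G : Type*} [Group G] [Finite G] {p : ℕ} [Fact p.Prime] (hp : p ≠ 2) (V H : Subgroup G) (hV : Cfsg.IsElementaryAbelian p V) (hHV : H ≤ Subgroup.normalizer (V : Set G)) (hf : H ⊓ Subgroup.centralizer (V : Set G) = ⊥) (a b : G) (hab : H = Subgroup.closure {a, b}) (ha : ⁅⁅V, Subgroup.zpowers a⁆, Subgroup.zpowers a⁆ = ⊥) (hb : ⁅⁅V, Subgroup.zpowers b⁆, Subgroup.zpowers b⁆ = ⊥) (hnp : ¬ IsPGroup p H) (Q : Subgroup G) (hQH : Q ≤ H) (hQn : H ≤ Subgroup.normalizer (Q : Set G)) (hQ : (Nat.card Q).Coprime p) (hQa : ⁅Q, Subgroup.zpowers a⁆ ≠ ⊥) : p = 3 ∧ ∃ (K L : Subgroup G) (hL : (L.subgroupOf K).Normal),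 K ≤ H ∧ Nonempty ((K ⧸ L.subgroupOf K) ≃* Matrix.SpecialLinearGroup (Fin 2) (ZMod 3)) := by
  have haH : a ∈ H := hab ▸ Subgroup.subset_closure (Set.mem_insert a _)
  have hbH : b ∈ H := hab ▸ Subgroup.subset_closure (Set.mem_insert_of_mem a (Set.mem_singleton b))
  have hp3 : p = 3 := by
    by_contra h
    exact hQa (Cfsg.Agent.SL2Dickson.centralizes_of_ge_five hp h hV hHV hf haH ha hQH (hQn haH) hQ)
  subst hp3
  obtain ⟨S, π, hS, hπ⟩ := Cfsg.Agent.SL2Dickson.exists_sl2_of_not_pGroup hp hV hHV hf haH hbH ha hb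
    (hab ▸ hnp)
  have h1 : (π.ker.map S.subtype).subgroupOf S = π.ker :=
    Subgroup.comap_map_eq_self_of_injective S.subtype_injective _
  haveI hn : ((π.ker.map S.subtype).subgroupOf S).Normal := h1.symm ▸ (inferInstance : π.ker.Normal)
  exact ⟨rfl, S, _, hn, hab ▸ hS,
    ⟨(QuotientGroup.quotientMulEquivOfEq h1).trans (QuotientGroup.quotientKerEquivOfSurjective π hπ)⟩⟩

end Cfsg.Agent.S0594
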