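import Cfsg.Statements.S0596
import Cfsg.Agent.Lib.Transfer.SL2Props

set_option autoImplicit false
open Cfsg

namespace Cfsg.Agent.S0596

open Subgroup Cfsg.Agent.Transfer
open scoped commutatorElement Pointwise IsMulCommutative


/-- For odd p, a p-separable group with a faithful action on an elementary abelian p-group that is not p-stable has p = 3 and involves SL(2,3). -/
theorem result {G : Type*} [Group G] [Finite G] {p : ℕ} [Fact p.Prime] (hp : p ≠ 2) (V H : Subgroup G) (hV : Cfsg.IsElementaryAbelian p V) (hHV : H ≤ Subgroup.normalizer (V : Set G)) (hf : H ⊓ Subgroup.centralizer (V : Set G) = ⊥) (hsep : Cfsg.IsPSolvable p H) (a : G) (haH : a ∈ H) (hq : ⁅⁅V, Subgroup.zpowers a⁆, Subgroup.zpowers a⁆ = ⊥) (hna : a ∉ (Cfsg.pCore p H).map H.subtype) : p = 3 ∧ ∃ (K L : Subgroup G) (hL : (L.subgroupOf K).Normal), K ≤ H ∧ Nonempty ((K ⧸ L.subgroupOf K) ≃* Matrix.SpecialLinearGroup (Fin 2) (ZMod 3)) := by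
  haveI := hV.1
  have hn : ¬ OpMod p H (centralizer (V : Set G)) a := by
    rintro ⟨N, hNH, hHN, hxN, hpow⟩
    have hNp : IsPGroup p (N.subgroupOf H) := by
      rintro ⟨n, hn⟩
      obtain ⟨k, hk⟩ := hpow (n : G) hn
      have h1 : (n : G) ^ p ^ k ∈ H ⊓ centralizer (V : Set G) := ⟨pow_mem n.2 _, hk⟩
      rw [hf, mem_bot] at h1
      exact ⟨k, Subtype.ext (Subtype.ext (by simpa using h1))⟩
    haveI : (N.subgroupOf H).Normal := normal_subgroupOf_iff_le_normalizer hNH |>.mpr hHN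
    exact hna ⟨⟨a, haH⟩, Cfsg.Agent.Basics.le_pCore hNp hxN, rfl⟩
  obtain ⟨u, hu, v, hv, e₁, -, e₂, -, h⟩ :=
    exists_natPair_of_ea hp hV hHV haH ((quad_iff V a).mp hq) hn
  obtain ⟨ψ, hψ, -⟩ := h.exists_hom
  have hle : closure {u, v} ≤ H := (closure_le H).mpr (by rintro z (rfl | rfl) <;> assumption)
  have hp3 : p = 3 := by
    by_contra h3
    have hp5 : 5 ≤ p := by
      have h2 := (Fact.out : p.Prime).two_le
      have h4 : p ≠ 4 := fun e => by subst e; exact absurd (Fact.out : Nat.Prime 4) (by norm_num)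
      omega
    exact not_isPSolvable_of_surjective hp5 (ψ.comp (subgroupOfEquivOfLe hle).toMonoidHom)
      (hψ.comp (subgroupOfEquivOfLe hle).surjective) hsep
  obtain ⟨L, hL, hiso⟩ := h.exists_section
  subst hp3
  exact ⟨rfl, closure {u, v}, L, hL, hle, hiso⟩

end Cfsg.Agent.S0596
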