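import Cfsg.Statements.S0597
import Cfsg.Agent.Lib.Components.FFModule
import Cfsg.Agent.Lib.FGS.Subnormal
import Cfsg.Agent.Lib.LocalEvenA.Core

set_option autoImplicit false
open Cfsg

namespace Cfsg.Agent.S0597

open Subgroup Cfsg.Agent.Components
open scoped commutatorElement

/-- If two subnormal subgroups of a faithful group on an elementary abelian p-group satisfy [V, E₁, E₂] = 1, then their commutator lies in the largest normal p-subgroup. -/
theorem result {G : Type*} [Group G] [Finite G] {p : ℕ} [Fact p.Prime] (V H : Subgroup G) (hV : Cfsg.IsElementaryAbelian p V) (hHV : H ≤ Subgroup.normalizer (V : Set G)) (hf : H ⊓ Subgroup.centralizer (V : Set G) = ⊥) (E₁ E₂ : Subgroup G) (h₁ : E₁ ≤ H) (h₂ : E₂ ≤ H) (hs₁ : (E₁.subgroupOf H).IsSubnormal) (hs₂ : (E₂.subgroupOf H).IsSubnormal) (hc : ⁅⁅V, E₁⁆, E₂⁆ = ⊥) : ⁅E₁, E₂⁆ ≤ (Cfsg.pCore p H).map H.subtype := by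
  have hE1 : E₁ ≤ normalizer (V : Set G) := h₁.trans hHV
  have hE2 : E₂ ≤ normalizer (V : Set G) := h₂.trans hHV
  set W := ⁅V, E₁⁆
  have hW : W ≤ V := le_normalizer_iff_commutator_le_left.mp hE1
  have hW2 : E₂ ≤ centralizer (W : Set G) :=
    commutator_eq_bot_iff_le_centralizer.mp (by rw [commutator_comm]; exact hc)
  have hN : ⁅E₁, E₂⁆ ≤ centralizer (W : Set G) := by
    rw [commutator_le]
    intro x hx y hy
    have hxW : x ∈ normalizer (W : Set G) := normalizer_commutator_ge_right V E₁ hx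
    have h1 : x * y * x⁻¹ ∈ centralizer (W : Set G) := by
      intro w hw
      have h := hW2 hy _ ((Basics.conj_mem_iff_of_mem_normalizer (inv_mem hxW)).mpr hw)
      calc w * (x * y * x⁻¹) = x * ((x⁻¹ * w * x⁻¹⁻¹) * y) * x⁻¹ := by group
        _ = x * (y * (x⁻¹ * w * x⁻¹⁻¹)) * x⁻¹ := by rw [h]
        _ = x * y * x⁻¹ * w := by group
    rw [commutatorElement_def]
    exact mul_mem h1 (inv_mem (hW2 hy))
  have hNV : ∀ g ∈ ⁅E₁, E₂⁆, ∀ v ∈ V, ⁅v, g⁆ ∈ W := by
    intro g hg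
    induction hg using closure_induction with
    | mem g hg =>
      obtain ⟨x, hx, y, hy, rfl⟩ := hg
      intro v hv
      have hx' : x⁻¹ ∈ E₁ := inv_mem hx
      have hy'' : y ∈ normalizer (W : Set G) := by
        rw [mem_normalizer_iff]
        intro w
        refine ⟨fun hw => ?_, fun hw => ?_⟩
        · rwa [← hW2 hy w hw, mul_inv_cancel_right]
        · have h := hW2 hy _ hw
          rw [inv_mul_cancel_right] at h
          exact (mul_left_cancel h).symm ▸ hw
      rw [commutatorElement_def x y, show x * y * x⁻¹ * y⁻¹ = x * (y * x⁻¹ * y⁻¹) by group,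
        commutatorElement_mul_right']
      refine mul_mem (commutator_mem_commutator hv hx) ((Basics.conj_mem_iff_of_mem_normalizer
        (normalizer_commutator_ge_right V E₁ hx)).mpr ?_)
      have e : ⁅v, y * x⁻¹ * y⁻¹⁆ = y * ⁅y⁻¹ * v * y⁻¹⁻¹, x⁻¹⁆ * y⁻¹ := by
        simp only [commutatorElement_def]; group
      rw [e]
      exact (Basics.conj_mem_iff_of_mem_normalizer hy'').mpr (commutator_mem_commutator
        ((Basics.conj_mem_iff_of_mem_normalizer (inv_mem (hE2 hy))).mpr hv) hx')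
    | one => intro v _; rw [commutatorElement_one_right]; exact one_mem _
    | mul a b ha hb ha' hb' =>
      intro v hv
      rw [commutatorElement_mul_right']
      have e : a * ⁅v, b⁆ * a⁻¹ = ⁅v, b⁆ :=
        mul_inv_eq_iff_eq_mul.mpr (hN ha _ (hb' v hv)).symm
      rw [e]
      exact mul_mem (ha' v hv) (hb' v hv)
    | inv a ha ha' =>
      intro v hv
      have h := ha' v hv
      have e : ⁅v, a⁻¹⁆ = a⁻¹ * ⁅v, a⁆⁻¹ * a⁻¹⁻¹ := by
        simp only [commutatorElement_def]; group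
      rw [e, mul_inv_eq_iff_eq_mul.mpr (hN (inv_mem ha) _ (inv_mem h)).symm]
      exact inv_mem h
  have hle : ⁅E₁, E₂⁆ ≤ H := commutator_le.mpr fun x hx y hy =>
    mul_mem (mul_mem (mul_mem (h₁ hx) (h₂ hy)) (inv_mem (h₁ hx))) (inv_mem (h₂ hy))
  have hp : IsPGroup p ↥⁅E₁, E₂⁆ := fun g => ⟨1, Subtype.ext (by
    rw [pow_one, SubmonoidClass.coe_pow, OneMemClass.coe_one, ← mem_bot, ← hf]
    refine ⟨pow_mem (hle g.2) p, pow_mem_centralizer_of_chain hV (hHV (hle g.2)) fun v hv => ?_⟩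
    have h : ⁅(g : G), v⁆ ∈ W := by
      rw [← commutatorElement_inv]; exact inv_mem (hNV g g.2 v hv)
    exact (hN g.2 _ h).symm)⟩
  have hsup : FGS.Subn.SN (E₁ ⊔ E₂) H := FGS.Subn.sn_sup H E₁ E₂ ⟨h₁, hs₁⟩ ⟨h₂, hs₂⟩
  have hcle : ⁅E₁, E₂⁆ ≤ E₁ ⊔ E₂ := commutator_le.mpr fun x hx y hy =>
    mul_mem (mul_mem (mul_mem (mem_sup_left hx) (mem_sup_right hy)) (inv_mem (mem_sup_left hx)))
      (inv_mem (mem_sup_right hy))
  have hsn : FGS.Subn.SN ⁅E₁, E₂⁆ H := FGS.Subn.sn_trans (FGS.Subn.sn_normal hcle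
    (sup_le (normalizer_commutator_ge_left E₁ E₂) (normalizer_commutator_ge_right E₁ E₂))) hsup
  rw [← map_subgroupOf_eq_of_le hle]
  exact map_mono (LocalEvenA.subnormal_le_pCore hsn.2
    (hp.of_equiv (subgroupOfEquivOfLe hle).symm))

end Cfsg.Agent.S0597
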