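import Cfsg.Statements.S0602
import Cfsg.Agent.Lib.Transfer.JSubgroup

set_option autoImplicit false
open Cfsg

namespace Cfsg.Agent.S0602

open Subgroup Cfsg.Agent.Transfer
open scoped commutatorElement Pointwise


/-- The Thompson subgroup is characteristic, and nontrivial as soon as p divides the group order. -/
theorem result {G : Type*} [Group G] [Finite G] {p : ℕ} [Fact p.Prime] : (Cfsg.thompsonSubgroup p G).Characteristic ∧ (p ∣ Nat.card G → Cfsg.thompsonSubgroup p G ≠ ⊥) := by
  refine ⟨thompsonSubgroup_characteristic, fun hdvd => ?_⟩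
  obtain ⟨x, hx⟩ := exists_prime_orderOf_dvd_card' (G := G) p hdvd
  intro hb
  obtain ⟨A, hA⟩ := exists_isMaxElemIn (p := p) (⊤ : Subgroup G)
  have h1 := le_thompsonSubgroupOf hA
  rw [thompsonSubgroupOf_top, hb, le_bot_iff] at h1
  have h2 := hA.2.2 (zpowers x) le_top (ea_zpowers (hx ▸ pow_orderOf_eq_one x))
  rw [Nat.card_zpowers, hx, h1, card_bot] at h2
  exact absurd h2 (not_le.mpr (Fact.out : p.Prime).one_lt)

end Cfsg.Agent.S0602
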