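import Cfsg.Statements.S0605
import Cfsg.Agent.Lib.Transfer.JSubgroup

set_option autoImplicit false
open Cfsg

namespace Cfsg.Agent.S0605

open Subgroup Cfsg.Agent.Transfer
open scoped commutatorElement Pointwise


/-- Elements of order p in the centralizer of the Thompson subgroup belong to the Thompson subgroup (so to its centre). -/
theorem result {G : Type*} [Group G] [Finite G] {p : ℕ} [Fact p.Prime] (x : G) (hx : x ∈ Subgroup.centralizer (Cfsg.thompsonSubgroup p G : Set G)) (ho : orderOf x = p) : x ∈ Cfsg.thompsonSubgroup p G := by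
  obtain ⟨A, hA⟩ := exists_isMaxElemIn (p := p) (⊤ : Subgroup G)
  have hAJ : A ≤ thompsonSubgroup p G := thompsonSubgroupOf_top (p := p) (G := G) ▸
    le_thompsonSubgroupOf hA
  have hxc : A ≤ centralizer (zpowers x : Set G) := by
    intro a ha z hz
    obtain ⟨i, rfl⟩ := mem_zpowers_iff.mp hz
    exact ((show Commute x a from (hx a (hAJ ha)).symm).zpow_left i).eq
  have h := hA.2.2 (A ⊔ zpowers x) le_top
    (ea_sup hA.2.1 (ea_zpowers (ho ▸ pow_orderOf_eq_one x)) hxc)
  exact hAJ ((eq_of_le_of_card_ge le_sup_left h).ge (mem_sup_right (mem_zpowers x)))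

end Cfsg.Agent.S0605
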