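import Cfsg.Statements.S0607
import Cfsg.Agent.Lib.Components.FFModule
import Cfsg.Agent.S0606

set_option autoImplicit false
open Cfsg

namespace Cfsg.Agent.S0607

open Subgroup Cfsg.Agent.Components Cfsg.Agent.Transfer
open scoped commutatorElement

/-- The replacement Theorem for the Thompson subgroup: from A of maximal order among elementary abelian p-subgroups one obtains A₀ = [V, A] C_A([V, A]) of the same kind, quadratic on V and nontrivial on V when A is. -/
theorem result {G : Type*} [Group G] [Finite G] {p : ℕ} [Fact p.Prime] (V : Subgroup G) [V.Normal] (hV : Cfsg.IsElementaryAbelian p V) (A : Subgroup G) (hA : A ∈ Cfsg.maxElementaryAbelianSubgroups p G) : (⁅V, A⁆ ⊔ (A ⊓ Subgroup.centralizer ((⁅V, A⁆ : Subgroup G) : Set G))) ∈ Cfsg.maxElementaryAbelianSubgroups p G ∧ ⁅⁅V, ⁅V, A⁆ ⊔ (A ⊓ Subgroup.centralizer ((⁅V, A⁆ : Subgroup G) : Set G))⁆, ⁅V, A⁆ ⊔ (A ⊓ Subgroup.centralizer ((⁅V, A⁆ : Subgroup G) : Set G))⁆ = ⊥ ∧ (⁅V, A⁆ ≠ ⊥ → ⁅V, ⁅V, A⁆ ⊔ (A ⊓ Subgroup.centralizer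 ((⁅V, A⁆ : Subgroup G) : Set G))⁆ ≠ ⊥) := by
  have hAV : A ≤ normalizer (V : Set G) := fun a _ => by rw [normalizer_eq_top]; trivial
  have hbest := S0606.result V hV A hA
  obtain ⟨-, h1, hne⟩ := timmesfeld_replacement hV hAV hbest (le_refl V)
  have h2 := (replacement hV hAV hbest.2.1 (offMeasure_le_of_isBestOffenderOn hbest) (le_refl V)).2
  set X := ⁅V, A⁆
  set B := A ⊓ centralizer (X : Set G)
  have hX : X ≤ V := le_normalizer_iff_commutator_le_left.mp hAV
  have hC : V ⊓ centralizer (A : Set G) = V ⊓ A := by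
    refine le_antisymm (le_inf inf_le_left ?_) fun x hx => ⟨hx.1, fun a ha => ea_commute hA.1 ha hx.2⟩
    have h : IsElementaryAbelian p (A ⊔ (V ⊓ centralizer (A : Set G)) : Subgroup G) :=
      ea_sup hA.1 (ea_mono hV inf_le_left) fun a ha w hw => (hw.2 a ha).symm
    exact le_sup_right.trans (eq_of_le_of_card_ge le_sup_left (hA.2 _ h)).ge
  rw [hC] at h1
  have hBX : B ≤ normalizer (X : Set G) := inf_le_left.trans (normalizer_commutator_ge_right V A)
  have hea : IsElementaryAbelian p (X ⊔ B : Subgroup G) :=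
    ea_sup (ea_mono hV hX) (ea_mono hA.1 inf_le_left) fun x hx b hb => (hb.2 x hx).symm
  have hinf : X ⊓ B = X ⊓ A := le_antisymm (inf_le_inf_left _ inf_le_left) fun x hx =>
    ⟨hx.1, hx.2, fun y hy => ea_commute hV (hX hy) (hX hx.1)⟩
  have hcard : Nat.card ↥(X ⊔ B) = Nat.card A := by
    have hn : (V ⊓ A : Subgroup G) ≤ normalizer (X : Set G) :=
      inf_le_left.trans (ea_le_normalizer hV hX)
    have e1 := Basics.card_mul_card_eq_card_sup_mul_card_inf hBX
    have e2 := Basics.card_mul_card_eq_card_sup_mul_card_inf hn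
    rw [show X ⊓ (V ⊓ A) = X ⊓ A by rw [← inf_assoc, inf_eq_left.mpr hX]] at e2
    rw [hinf] at e1
    have h3 : Nat.card B * Nat.card ↥(X ⊔ (V ⊓ A) : Subgroup G) =
        Nat.card A * Nat.card ↥(V ⊓ A : Subgroup G) := by
      have h4 : offMeasure V B = offMeasure V A := h2
      rwa [offMeasure, offMeasure, h1, hC] at h4
    refine Nat.eq_of_mul_eq_mul_right (card_pos' (X ⊓ A)) ?_
    rw [← e1]
    refine Nat.eq_of_mul_eq_mul_right (card_pos' (V ⊓ A)) ?_
    calc Nat.card X * Nat.card B * Nat.card ↥(V ⊓ A)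
        = Nat.card B * (Nat.card X * Nat.card ↥(V ⊓ A)) := by ring
      _ = Nat.card B * Nat.card ↥(X ⊔ (V ⊓ A) : Subgroup G) * Nat.card ↥(X ⊓ A) := by
          rw [e2]; ring
      _ = _ := by rw [h3]; ring
  have hA0 : ⁅V, X ⊔ B⁆ ≤ X := by
    rw [commutator_le]
    intro v hv x hx
    obtain ⟨y, hy, b, hb, rfl⟩ := (Basics.mem_sup_of_le_normalizer hBX).mp hx
    have hb' : ⁅v, b⁆ ∈ X := commutator_mem_commutator hv hb.1
    rw [commutatorElement_mul_right', commutatorElement_eq_one_iff_commute.mpr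
      (show Commute v y from ea_commute hV hv (hX hy)), one_mul,
      ea_commute hV (hX hy) (hX hb'), mul_inv_cancel_right]
    exact hb'
  refine ⟨⟨hea, fun D hD => hcard ▸ hA.2 D hD⟩, ?_, fun h => ?_⟩
  · rw [commutator_comm, commutator_eq_bot_iff_le_centralizer]
    refine le_trans ?_ (centralizer_le hA0)
    exact sup_le (fun x hx y hy => ea_commute hV (hX hy) (hX hx)) inf_le_right
  · intro h'
    refine hne h (le_bot_iff.mp ?_)
    rw [← h']
    exact commutator_mono le_rfl le_sup_right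

end Cfsg.Agent.S0607
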