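import Cfsg.Statements.S0612
import Cfsg.Agent.Lib.Components.FFPair

set_option autoImplicit false
open Cfsg

namespace Cfsg.Agent.S0612

open Subgroup Cfsg.Agent.Components
open scoped commutatorElement

/-- In such a faithful group every nontrivial best offender decomposes as a direct product of minimal nontrivially-acting best offenders. -/
theorem result {G : Type*} [Group G] [Finite G] {p : ℕ} [Fact p.Prime] (V H : Subgroup G) (hV : Cfsg.IsElementaryAbelian p V) (hHV : H ≤ Subgroup.normalizer (V : Set G)) (hf : H ⊓ Subgroup.centralizer (V : Set G) = ⊥) (hS1 : Subgroup.centralizer (Cfsg.pPrimeCore p ↥H : Set ↥H) ≤ Cfsg.pPrimeCore p ↥H) (hS3 : H = ⨆ A : {A : Subgroup G // A ≤ H ∧ Cfsg.IsBestOffenderOn p V A}, (A : Subgroup G)) (hH1 : H ≠ ⊥) (A : Subgroup G) (hAH : A ≤ H) (hA : Cfsg.IsBestOffenderOn p V A) (hA1 : A ≠ ⊥) : ∃ (k : ℕ) (B : Fin k → Subgroup G), (∀ i, B i ≤ A ∧ Cfsg.IsBestOffenderOn p V (B i) ∧ ⁅V, B i⁆ ≠ ⊥ ∧ ∀ C : Subgroup G, C ≤ B i → Cfsg.IsBestOffenderOn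 p V C → ⁅V, C⁆ ≠ ⊥ → C = B i) ∧ iSupIndep B ∧ ⨆ i, B i = A := by
  classical
  have h := FFSetup.of_hyp hV hHV hf hS1
  set T : Finset (Subgroup G) := (Set.toFinite
    {P : Subgroup G | P ≤ A ∧ Nat.card P = p ∧ offMeasure V P = Nat.card V}).toFinset
  obtain ⟨s, hs, hmin⟩ : ∃ s ∈ T.powerset.filter (fun s : Finset (Subgroup G) => A ≤ s.sup id),
      ∀ s' ∈ T.powerset.filter (fun s : Finset (Subgroup G) => A ≤ s.sup id), s.card ≤ s'.card :=
    Finset.exists_min_image _ _ ⟨T, Finset.mem_filter.mpr ⟨Finset.mem_powerset_self T,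
      (h.le_iSup_order_p A hAH hA).trans (sSup_le fun P hP =>
        Finset.le_sup (f := id) ((Set.Finite.mem_toFinset _).mpr hP))⟩⟩
  obtain ⟨hsT, hAs⟩ := Finset.mem_filter.mp hs
  have hmem : ∀ P ∈ s, P ≤ A ∧ Nat.card P = p ∧ offMeasure V P = Nat.card V := fun P hP =>
    by simpa [T] using Finset.mem_powerset.mp hsT hP
  let B : Fin s.card → Subgroup G := fun i => (s.equivFin.symm i : Subgroup G)
  refine ⟨s.card, B, fun i => ?_, ?_, ?_⟩
  · obtain ⟨h1, h2, h3⟩ := hmem _ (s.equivFin.symm i).2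
    have hbo := h.isBestOffenderOn_of_eq_card (h1.trans hAH)
      (Transfer.ea_mono (h.ea_of_isBestOffenderOn hAH hA) h1) h3
    refine ⟨h1, hbo, h.commutator_ne_bot (h1.trans hAH) fun e => ?_, fun C hC _ hCV => ?_⟩
    · replace h2 : Nat.card (B i) = p := h2
      rw [e, card_bot] at h2
      exact (Fact.out : p.Prime).one_lt.ne h2
    · have hC1 : C ≠ ⊥ := fun e => hCV (by rw [e, commutator_bot_right])
      refine eq_of_le_of_card_ge hC ?_
      have hd : Nat.card C ∣ p := h2 ▸ card_dvd_of_le hC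
      rcases (Nat.dvd_prime (Fact.out : p.Prime)).mp hd with h4 | h4
      · exact absurd (eq_bot_of_card_eq C h4) hC1
      · exact (h2.trans h4.symm).le
  · intro i
    rw [disjoint_iff]
    by_contra hne
    set P := B i
    obtain ⟨h1, h2, h3⟩ := hmem P (s.equivFin.symm i).2
    have hle : P ≤ ⨆ (j) (_ : j ≠ i), B j := by
      have hd : Nat.card ↥(P ⊓ ⨆ (j) (_ : j ≠ i), B j) ∣ p := h2 ▸ card_dvd_of_le inf_le_left
      rcases (Nat.dvd_prime (Fact.out : p.Prime)).mp hd with h4 | h4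
      · exact absurd (eq_bot_of_card_eq _ h4) hne
      · exact inf_eq_left.mp (eq_of_le_of_card_ge inf_le_left (h2.trans h4.symm).le)
    have hle' : P ≤ (s.erase P).sup id := hle.trans (iSup₂_le fun j hj =>
      Finset.le_sup (f := id) (Finset.mem_erase.mpr
        ⟨fun e => hj (s.equivFin.symm.injective (Subtype.ext e)), (s.equivFin.symm j).2⟩))
    have h5 := hmin (s.erase P) (Finset.mem_filter.mpr ⟨Finset.mem_powerset.mpr
      ((Finset.erase_subset _ _).trans (Finset.mem_powerset.mp hsT)),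
      hAs.trans (Finset.sup_le fun X hX => by
        rcases eq_or_ne X P with rfl | hXP
        · exact hle'
        · exact Finset.le_sup (f := id) (Finset.mem_erase.mpr ⟨hXP, hX⟩))⟩)
    exact absurd h5 (not_le.mpr (Finset.card_erase_lt_of_mem (s.equivFin.symm i).2))
  · refine le_antisymm (iSup_le fun i => (hmem _ (s.equivFin.symm i).2).1)
      (hAs.trans (Finset.sup_le fun X hX => le_iSup_of_le (s.equivFin ⟨X, hX⟩) ?_))
    simp [B]

end Cfsg.Agent.S0612
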