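import Cfsg.Statements.S0614
import Cfsg.Agent.Lib.Components.FFPlane2

set_option autoImplicit false
open Cfsg

namespace Cfsg.Agent.S0614

open Subgroup Cfsg.Agent.Components
open scoped commutatorElement MatrixGroups

/-- The commutator of the p'-core with a minimal nontrivially-acting best offender is a 3-group (when p = 2) or a non-abelian 2-group (when p = 3). -/
theorem result {G : Type*} [Group G] [Finite G] {p : ℕ} [Fact p.Prime] (V H : Subgroup G) (hV : Cfsg.IsElementaryAbelian p V) (hHV : H ≤ Subgroup.normalizer (V : Set G)) (hf : H ⊓ Subgroup.centralizer (V : Set G) = ⊥) (hS1 : Subgroup.centralizer (Cfsg.pPrimeCore p ↥H : Set ↥H) ≤ Cfsg.pPrimeCore p ↥H) (hS3 : H = ⨆ A : {A : Subgroup G // A ≤ H ∧ Cfsg.IsBestOffenderOn p V A}, (A : Subgroup G)) (hH1 : H ≠ ⊥) (A : Subgroup G) (hAH : A ≤ H) (hA : Cfsg.IsBestOffenderOn p V A) (hAV : ⁅V, A⁆ ≠ ⊥) (hmin : ∀ B : Subgroup G, B ≤ A → Cfsg.IsBestOffenderOn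 p V B → ⁅V, B⁆ ≠ ⊥ → B = A) : (p = 2 ∧ IsPGroup 3 ↥(⁅((Cfsg.pPrimeCore p ↥H).map H.subtype), A⁆)) ∨ (p = 3 ∧ IsPGroup 2 ↥(⁅((Cfsg.pPrimeCore p ↥H).map H.subtype), A⁆) ∧ ¬ IsMulCommutative ↥(⁅((Cfsg.pPrimeCore p ↥H).map H.subtype), A⁆)) := by
  haveI : Fact (Nat.Prime 2) := ⟨Nat.prime_two⟩
  haveI : Fact (Nat.Prime 3) := ⟨Nat.prime_three⟩
  have h := FFSetup.of_hyp hV hHV hf hS1
  obtain ⟨a, rfl, ha⟩ := FFT.of_minimal h hAH hA hAV hmin
  obtain ⟨e₁, e₂, P, hD⟩ := ha.exists_plane h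
  set D := ⁅(pPrimeCore p ↥H).map H.subtype, Subgroup.zpowers a⁆ with hDdef
  set L := D ⊔ Subgroup.zpowers a with hLdef
  rcases P.small with hp2 | hp3
  · refine Or.inl ⟨hp2, IsPGroup.of_card (n := 1) ?_⟩
    subst hp2; rw [hD]; norm_num
  · subst hp3
    refine Or.inr ⟨rfl, IsPGroup.of_card (n := 3) (by rw [hD]; norm_num), fun hcomm => ?_⟩
    obtain ⟨ψ, hψ, -⟩ := P.hom
    haveI := hcomm
    have hidx : ¬ 2 ∣ (D.subgroupOf L).index := by
      have h1 := card_mul_index (D.subgroupOf L)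
      rw [Basics.card_subgroupOf (le_sup_left : D ≤ L), hD,
        Nat.card_congr (Equiv.ofBijective ψ hψ), card_sl2_zmod] at h1
      omega
    let T : Sylow 2 ↥L := IsPGroup.toSylow (P := D.subgroupOf L)
      ((IsPGroup.of_card (n := 3) (by rw [hD]; norm_num) : IsPGroup 2 ↥D).comap_of_injective
        L.subtype L.subtype_injective) hidx
    refine Transfer.not_isMulCommutative_sylow_two (p := 3) (K := (⊤ : Subgroup ↥L)) (by norm_num)
      (ψ.comp (Subgroup.topEquiv : (⊤ : Subgroup ↥L) ≃* ↥L).toMonoidHom) (fun M => let ⟨g, hg⟩ := hψ.2 M; ⟨⟨g, Subgroup.mem_top g⟩, hg⟩) T ?_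
    refine ⟨⟨fun u v => Subtype.ext (Subtype.ext ?_)⟩⟩
    simp only [Subgroup.coe_mul]
    exact congrArg Subtype.val (mul_comm' (⟨_, u.2⟩ : D) ⟨_, v.2⟩)

end Cfsg.Agent.S0614
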