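import Cfsg.Statements.S0615
import Cfsg.Agent.Lib.Components.FFSubPair

set_option autoImplicit false
open Cfsg

namespace Cfsg.Agent.S0615

open Subgroup Cfsg.Agent.Components
open scoped commutatorElement

/-- Two subnormal subgroups acting irreducibly on their incomparable commutator modules, in a faithful group with trivial largest normal p-subgroup, generate their direct product, and the commutator module splits accordingly. -/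
theorem result {G : Type*} [Group G] [Finite G] {p : ℕ} [Fact p.Prime] (V E E₁ E₂ : Subgroup G) (hV : Cfsg.IsElementaryAbelian p V) (hEV : E ≤ Subgroup.normalizer (V : Set G)) (hf : E ⊓ Subgroup.centralizer (V : Set G) = ⊥) (hgen : E = E₁ ⊔ E₂) (hs₁ : (E₁.subgroupOf E).IsSubnormal) (hs₂ : (E₂.subgroupOf E).IsSubnormal) (hOp : Cfsg.pCore p ↥E = ⊥) (hirr₁ : (∀ U : Subgroup G, U ≤ ⁅V, E₁⁆ → E₁ ≤ Subgroup.normalizer (U : Set G) → U = ⊥ ∨ U = ⁅V, E₁⁆)) (hirr₂ : (∀ U : Subgroup G, U ≤ ⁅V, E₂⁆ → E₂ ≤ Subgroup.normalizer (U : Set G) → U = ⊥ ∨ U = ⁅V, E₂⁆)) (h12 : ¬ ⁅V, E₁⁆ ≤ ⁅V, E₂⁆) (h21 : ¬ ⁅V, E₂⁆ ≤ ⁅V, E₁⁆) (hc₁ : 2 < Nat.card E₁) (hc₂ : 2 < Nat.card E₂) : ⁅E₁, E₂⁆ = ⊥ ∧ E₁ ⊓ E₂ = ⊥ ∧ ⁅V, E₁⁆ ⊓ ⁅V, E₂⁆ = ⊥ ∧ ⁅V, E⁆ = ⁅V, E₁⁆ ⊔ ⁅V, E₂⁆ := by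
  have hl1 : E₁ ≤ E := hgen ▸ le_sup_left
  have hl2 : E₂ ≤ E := hgen ▸ le_sup_right
  obtain ⟨hcom, hinf⟩ := SubPair.split hV E E₁ E₂ hEV hf hOp
    ⟨hgen, ⟨hl1, hs₁⟩, ⟨hl2, hs₂⟩, hirr₁, hirr₂, h12, h21, hc₁, hc₂⟩
  have hW1 : ⁅V, E₁⁆ ≤ V := le_normalizer_iff_commutator_le_left.mp (hl1.trans hEV)
  have hW2 : ⁅V, E₂⁆ ≤ V := le_normalizer_iff_commutator_le_left.mp (hl2.trans hEV)
  refine ⟨hcom, le_bot_iff.mp fun x hx => ?_, hinf, le_antisymm ?_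
    (sup_le (commutator_mono le_rfl hl1) (commutator_mono le_rfl hl2))⟩
  · rw [← hf]
    refine ⟨hl1 hx.1, fun v hv => ?_⟩
    have h : ⁅v, x⁆ ∈ ⁅V, E₁⁆ ⊓ ⁅V, E₂⁆ :=
      ⟨commutator_mem_commutator hv hx.1, commutator_mem_commutator hv hx.2⟩
    rw [hinf, mem_bot, commutatorElement_eq_one_iff_commute] at h
    exact h.eq
  · have hst : E ≤ chainStab V (⁅V, E₁⁆ ⊔ ⁅V, E₂⁆) := by
      rw [hgen]
      refine sup_le (fun y hy => ⟨mem_normalizer_of_commutator_mem fun w hw => ?_, fun v hv => ?_⟩)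
        (fun y hy => ⟨mem_normalizer_of_commutator_mem fun w hw => ?_, fun v hv => ?_⟩)
      · exact mem_sup_left (commutator_mem_commutator (sup_le hW1 hW2 hw) hy)
      · exact mem_sup_left (commutator_mem_commutator hv hy)
      · exact mem_sup_right (commutator_mem_commutator (sup_le hW1 hW2 hw) hy)
      · exact mem_sup_right (commutator_mem_commutator hv hy)
    rw [Subgroup.commutator_le]
    exact fun v hv g hg => (hst hg).2 v hv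

end Cfsg.Agent.S0615
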