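import Cfsg.Statements.S0617
import Cfsg.Agent.Lib.Components.FFStructure

set_option autoImplicit false
open Cfsg

namespace Cfsg.Agent.S0617

open Subgroup Cfsg.Agent.Components Cfsg.Agent.Transfer
open scoped commutatorElement MatrixGroups

section
variable {G : Type*} [Group G] [Finite G] {p : ℕ} [Fact p.Prime] {V H Q : Subgroup G}

theorem split_factor (h : FFSetup p V H Q)
    (hgen : H = ⨆ A : {A : Subgroup G // A ≤ H ∧ IsBestOffenderOn p V A}, (A : Subgroup G))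
    (E : {E : Subgroup G // IsFactor p V H Q E}) :
    ∃ K C0 : Subgroup G, (E : Subgroup G) ⊓ K = ⊥ ∧ ⁅V, (E : Subgroup G)⁆ ⊓ C0 = ⊥ ∧
      V ⊓ centralizer (H : Set G) ≤ C0 ∧
      ∀ F : {E : Subgroup G // IsFactor p V H Q E}, F ≠ E →
        (F : Subgroup G) ≤ K ∧ ⁅V, (F : Subgroup G)⁆ ≤ C0 := by
  obtain ⟨A, hAH, hA, hAV, hmin, hE⟩ := E.2
  obtain ⟨a, rfl, ha⟩ := FFT.of_minimal h hAH hA hAV hmin
  obtain ⟨e₁, e₂, P, hD, -, -, -, hVK, -⟩ := ha.exists_factor h hgen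
  set K := H ⊓ centralizer ((zpowers e₁ ⊔ zpowers e₂ : Subgroup G) : Set G)
  refine ⟨K, V ⊓ centralizer ((FFT.factor Q a : Subgroup G) : Set G), ?_, ?_,
    fixed_anti P.leH, fun F hF => ?_⟩
  · rw [hE]; exact le_bot_iff.mp (P.faithful_W ▸ inf_le_inf_left _ inf_le_right)
  · rw [hE, P.comm, P.inf_bot]
  · obtain ⟨B, hBH, hB, hBV, hminB, hF'⟩ := F.2
    obtain ⟨b, rfl, hb⟩ := FFT.of_minimal h hBH hB hBV hminB
    have hle : (F : Subgroup G) ≤ K := by
      rw [hF']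
      exact factor_le_centralizer h hgen ha hb P hD
        fun e => hF (Subtype.ext (hF'.trans (e.trans hE.symm)))
    exact ⟨hle, (commutator_mono le_rfl hle).trans hVK⟩

theorem structure_theorem (h : FFSetup p V H Q)
    (hgen : H = ⨆ A : {A : Subgroup G // A ≤ H ∧ IsBestOffenderOn p V A}, (A : Subgroup G))
    (hH1 : H ≠ ⊥) :
    (p = 2 ∨ p = 3) ∧
    (∀ E : {E : Subgroup G // IsFactor p V H Q E}, H ≤ normalizer ((E : Subgroup G) : Set G) ∧
      Nonempty (↥(E : Subgroup G) ≃* SL(2, ZMod p)) ∧ Nat.card ↥(⁅V, (E : Subgroup G)⁆) = p ^ 2) ∧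
    iSupIndep (fun E : {E : Subgroup G // IsFactor p V H Q E} => (E : Subgroup G)) ∧
    (⨆ E : {E : Subgroup G // IsFactor p V H Q E}, (E : Subgroup G)) = H ∧
    iSupIndep (fun o : Option {E : Subgroup G // IsFactor p V H Q E} =>
      o.elim (V ⊓ centralizer (H : Set G)) (fun E => ⁅V, (E : Subgroup G)⁆)) ∧
    (V ⊓ centralizer (H : Set G)) ⊔
      (⨆ E : {E : Subgroup G // IsFactor p V H Q E}, ⁅V, (E : Subgroup G)⁆) = V := by
  have facts : ∀ E : {E : Subgroup G // IsFactor p V H Q E},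
      ∃ (a e₁ e₂ : G), FFT p V H a ∧ (E : Subgroup G) = FFT.factor Q a ∧
        SLPlane p V H Q a (FFT.factor Q a) e₁ e₂ ∧
        Nat.card ↥⁅Q, zpowers a⁆ = p * p - 1 ∧ H ≤ normalizer ((E : Subgroup G) : Set G) := by
    intro E
    obtain ⟨A, hAH, hA, hAV, hmin, hE⟩ := E.2
    obtain ⟨a, rfl, ha⟩ := FFT.of_minimal h hAH hA hAV hmin
    obtain ⟨e₁, e₂, P, hD, -, -, -, -, hn⟩ := ha.exists_factor h hgen
    exact ⟨a, e₁, e₂, ha, hE, P, hD, hE ▸ hn⟩
  have hleH : ∀ E : {E : Subgroup G // IsFactor p V H Q E}, (E : Subgroup G) ≤ H := fun E => by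
    obtain ⟨a, e₁, e₂, -, hE, P, -⟩ := facts E
    exact hE ▸ P.leH
  have hall : (⨆ E : {E : Subgroup G // IsFactor p V H Q E}, (E : Subgroup G)) = H := by
    refine le_antisymm (iSup_le hleH) ((h.le_closure_transv hgen).trans ((closure_le _).mpr ?_))
    intro b hb
    exact le_iSup (fun E : {E : Subgroup G // IsFactor p V H Q E} => (E : Subgroup G))
      ⟨_, FFT.isFactor h hb⟩ (mem_sup_right (mem_zpowers b))
  have hex : ∃ b, FFT p V H b := by
    by_contra hno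
    push Not at hno
    refine hH1 (le_bot_iff.mp ((h.le_closure_transv hgen).trans ((closure_le _).mpr ?_)))
    exact fun b hb => absurd hb (hno b)
  obtain ⟨b, hb⟩ := hex
  obtain ⟨e₁, e₂, Pb, -⟩ := hb.exists_plane h
  refine ⟨Pb.small, fun E => ?_, fun E => ?_, hall, ?_, ?_⟩
  · obtain ⟨a, f₁, f₂, ha, hE, P, -, hn⟩ := facts E
    obtain ⟨ψ, hψ, -⟩ := P.hom
    refine ⟨hn, hE ▸ ⟨MulEquiv.ofBijective ψ hψ⟩, ?_⟩
    rw [hE, P.comm, P.card_W]
  · obtain ⟨K, C0, hK, -, -, hoth⟩ := split_factor h hgen E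
    rw [disjoint_iff]
    exact le_bot_iff.mp (hK ▸ inf_le_inf_left _ (iSup₂_le fun F hF => (hoth F hF).1))
  all_goals
    set Ds := ⨆ E : {E : Subgroup G // IsFactor p V H Q E}, ⁅Q, (E : Subgroup G)⁆ with hDs
    have hF : Ds ≤ Q := iSup_le fun E =>
      le_normalizer_iff_commutator_le_left.mp ((hleH E).trans h.Qnorm)
    have hFV : Ds ≤ normalizer (V : Set G) := hF.trans (h.Qle.trans h.le)
    obtain ⟨k, hk⟩ := (ea_isPGroup h.ea).exists_card_eq
    have hcop : (Nat.card Ds).Coprime (Nat.card V) :=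
      hk ▸ (h.Qcop.coprime_dvd_left (card_dvd_of_le hF)).pow_right k
    haveI := h.ea.1
    have hWD : ∀ E : {E : Subgroup G // IsFactor p V H Q E},
        ⁅V, (E : Subgroup G)⁆ ≤ ⁅V, Ds⁆ ∧ V ⊓ centralizer (Ds : Set G) ≤
          centralizer ((E : Subgroup G) : Set G) := by
      intro E
      obtain ⟨a, f₁, f₂, ha, hE, P, hD, -⟩ := facts E
      obtain ⟨-, -, -, hVD, hfix⟩ := ha.D_facts h P hD
      have hle : ⁅Q, zpowers a⁆ ≤ Ds := le_trans
        (commutator_mono le_rfl (hE ▸ le_sup_right))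
        (le_iSup (fun E : {E : Subgroup G // IsFactor p V H Q E} => ⁅Q, (E : Subgroup G)⁆) E)
      refine ⟨?_, ?_⟩
      · rw [hE, P.comm, ← hVD]; exact commutator_mono le_rfl hle
      · rw [hE]; exact ((fixed_anti hle).trans hfix.le).trans inf_le_right
  · intro o
    rw [disjoint_iff]
    cases o with
    | none =>
      refine le_bot_iff.mp ?_
      rw [← Basics.inf_centralizer_inf_commutator_eq_bot Ds V hFV hcop]
      refine inf_le_inf (fixed_anti (hF.trans h.Qle)) (iSup₂_le fun o ho => ?_)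
      cases o with
      | none => exact absurd rfl ho
      | some E => exact (hWD E).1
    | some E =>
      obtain ⟨K, C0, -, hC, hH, hoth⟩ := split_factor h hgen E
      refine le_bot_iff.mp (hC ▸ inf_le_inf_left _ (iSup₂_le fun o ho => ?_))
      cases o with
      | none => exact hH
      | some F => exact (hoth F fun e => ho (by rw [e])).2
  · refine le_antisymm (sup_le inf_le_left (iSup_le fun E =>
      le_normalizer_iff_commutator_le_left.mp ((hleH E).trans h.le))) ?_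
    conv_lhs => rw [← Basics.commutator_sup_inf_centralizer Ds V hFV hcop
      (Or.inr (Group.isSolvable_of_comm fun x y => mul_comm' x y))]
    refine sup_le (le_sup_of_le_right ?_) (le_sup_of_le_left (le_inf inf_le_left ?_))
    · set Ws := ⨆ E : {E : Subgroup G // IsFactor p V H Q E}, ⁅V, (E : Subgroup G)⁆ with hWs
      have hWsV : Ws ≤ V := iSup_le fun E =>
        le_normalizer_iff_commutator_le_left.mp ((hleH E).trans h.le)
      have hst : H ≤ chainStab V Ws := by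
        conv_lhs => rw [← hall]
        refine iSup_le fun E y hy => mem_chainStab.mpr
          ⟨mem_normalizer_of_commutator_mem fun w hw => ?_, fun v hv => ?_⟩
        · exact le_iSup (fun E : {E : Subgroup G // IsFactor p V H Q E} => ⁅V, (E : Subgroup G)⁆) E
            (commutator_mem_commutator (hWsV hw) hy)
        · exact le_iSup (fun E : {E : Subgroup G // IsFactor p V H Q E} => ⁅V, (E : Subgroup G)⁆) E
            (commutator_mem_commutator hv hy)
      exact Subgroup.commutator_le.mpr fun v hv g hg => (hst (h.Qle (hF hg))).2 v hv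
    · intro v hv
      have hle : H ≤ centralizer {v} := by
        conv_lhs => rw [← hall]
        refine iSup_le fun E x hx => ?_
        rw [mem_centralizer_singleton_iff]
        exact (hWD E).2 hv x hx
      exact fun x hx => mem_centralizer_singleton_iff.mp (hle hx)

end

/-- Structure Theorem for failure of factorization: a faithful group generated by best offenders, with self-centralizing p'-core, is a direct product of copies of SL(2, p) (p = 2 or 3), each acting on its own plane in V, which is the direct product of these planes and C_V(H). -/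
theorem result {G : Type*} [Group G] [Finite G] {p : ℕ} [Fact p.Prime] (V H : Subgroup G) (hV : Cfsg.IsElementaryAbelian p V) (hHV : H ≤ Subgroup.normalizer (V : Set G)) (hf : H ⊓ Subgroup.centralizer (V : Set G) = ⊥) (hS1 : Subgroup.centralizer (Cfsg.pPrimeCore p ↥H : Set ↥H) ≤ Cfsg.pPrimeCore p ↥H) (hS3 : H = ⨆ A : {A : Subgroup G // A ≤ H ∧ Cfsg.IsBestOffenderOn p V A}, (A : Subgroup G)) (hH1 : H ≠ ⊥) : (p = 2 ∨ p = 3) ∧ (∀ E : {E : Subgroup G // ∃ A : Subgroup G, A ≤ H ∧ Cfsg.IsBestOffenderOn p V A ∧ ⁅V, A⁆ ≠ ⊥ ∧ (∀ B : Subgroup G, B ≤ A → Cfsg.IsBestOffenderOn p V B → ⁅V, B⁆ ≠ ⊥ → B = A) ∧ E = ⁅((Cfsg.pPrimeCore p ↥H).map H.subtype), A⁆ ⊔ A}, H ≤ Subgroup.normalizer ((E : Subgroup G) : Set G) ∧ Nonempty (↥(E : Subgroup G) ≃* Matrix.SpecialLinearGroup (Fin 2) (ZMod p)) ∧ Nat.card ↥(⁅V, (E : Subgroup G)⁆) = p ^ 2) ∧ iSupIndep (fun E : {E : Subgroup G // ∃ A : Subgroup G, A ≤ H ∧ Cfsg.IsBestOffenderOn p V A ∧ ⁅V,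 A⁆ ≠ ⊥ ∧ (∀ B : Subgroup G, B ≤ A → Cfsg.IsBestOffenderOn p V B → ⁅V, B⁆ ≠ ⊥ → B = A) ∧ E = ⁅((Cfsg.pPrimeCore p ↥H).map H.subtype), A⁆ ⊔ A} => (E : Subgroup G)) ∧ (⨆ E : {E : Subgroup G // ∃ A : Subgroup G, A ≤ H ∧ Cfsg.IsBestOffenderOn p V A ∧ ⁅V, A⁆ ≠ ⊥ ∧ (∀ B : Subgroup G, B ≤ A → Cfsg.IsBestOffenderOn p V B → ⁅V, B⁆ ≠ ⊥ → B = A) ∧ E = ⁅((Cfsg.pPrimeCore p ↥H).map H.subtype), A⁆ ⊔ A}, (E : Subgroup G)) = H ∧ iSupIndep (fun o : Option {E : Subgroup G // ∃ A : Subgroup G, A ≤ H ∧ Cfsg.IsBestOffenderOn p V A ∧ ⁅V, A⁆ ≠ ⊥ ∧ (∀ B : Subgroup G, B ≤ A → Cfsg.IsBestOffenderOn p V B → ⁅V, B⁆ ≠ ⊥ → B = A) ∧ E = ⁅((Cfsg.pPrimeCore p ↥H).map H.subtype), A⁆ ⊔ A} => o.elim (V ⊓ Subgroup.centralizer (H : Set G)) (fun E => ⁅V, (E : Subgroup G)⁆)) ∧ (V ⊓ Subgroup.centralizer (H : Set G)) ⊔ (⨆ E : {E : Subgroup G // ∃ A : Subgroup G, A ≤ H ∧ Cfsg.IsBestOffenderOn p V A ∧ ⁅V, A⁆ ≠ ⊥ ∧ (∀ B : Subgroup G, B ≤ A → Cfsg.IsBestOffenderOn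 p V B → ⁅V, B⁆ ≠ ⊥ → B = A) ∧ E = ⁅((Cfsg.pPrimeCore p ↥H).map H.subtype), A⁆ ⊔ A}, ⁅V, (E : Subgroup G)⁆) = V := by
  exact structure_theorem (FFSetup.of_hyp hV hHV hf hS1) hS3 hH1

end Cfsg.Agent.S0617
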