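import Cfsg.Statements.S0618
import Cfsg.Agent.Lib.Components.FFThompson

set_option autoImplicit false
open Cfsg

namespace Cfsg.Agent.S0618

open Subgroup Cfsg.Agent.Components
open scoped commutatorElement MatrixGroups

/-- A p-separable group with trivial p'-core in which the Thompson factorization fails has p = 2 or 3, and J(G) induces on the normal closure of Ω₁(Z(S)) a group containing a normal SL(2, p). -/
theorem result {G : Type*} [Group G] [Finite G] {p : ℕ} [Fact p.Prime] (hsep : Cfsg.IsPSolvable p G) (hO : Cfsg.pPrimeCore p G = ⊥) (hnf : ¬ Cfsg.IsThompsonFactorizable p G) : (p = 2 ∨ p = 3) ∧ ∃ E : Subgroup G, Subgroup.centralizer ((⨆ S : Sylow p G, Cfsg.omegaOne p ((S : Subgroup G) ⊓ Subgroup.centralizer ((S : Subgroup G) : Set G))) : Set G) ≤ E ∧ E ≤ Cfsg.thompsonSubgroup p G ⊔ Subgroup.centralizer ((⨆ S : Sylow p G, Cfsg.omegaOne p ((S : Subgroup G) ⊓ Subgroup.centralizer ((S : Subgroup G) : Set G))) : Set G) ∧ Cfsg.thompsonSubgroup p G ⊔ Subgroup.centralizer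 ((⨆ S : Sylow p G, Cfsg.omegaOne p ((S : Subgroup G) ⊓ Subgroup.centralizer ((S : Subgroup G) : Set G))) : Set G) ≤ Subgroup.normalizer (E : Set G) ∧ ∃ hn : ((Subgroup.centralizer ((⨆ S : Sylow p G, Cfsg.omegaOne p ((S : Subgroup G) ⊓ Subgroup.centralizer ((S : Subgroup G) : Set G))) : Set G)).subgroupOf E).Normal, Nonempty ((↥E ⧸ (Subgroup.centralizer ((⨆ S : Sylow p G, Cfsg.omegaOne p ((S : Subgroup G) ⊓ Subgroup.centralizer ((S : Subgroup G) : Set G))) : Set G)).subgroupOf E) ≃* Matrix.SpecialLinearGroup (Fin 2) (ZMod p)) := by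
  have e : Subgroup.centralizer (⨆ S : Sylow p G, (omegaOne p ((S : Subgroup G) ⊓
      Subgroup.centralizer ((S : Subgroup G) : Set G)) : Set G)) =
      Subgroup.centralizer (omegaJoin p G : Set G) := by
    show Subgroup.centralizer (⋃ S : Sylow p G, ((omegaZ p (S : Subgroup G) : Subgroup G) : Set G)) = _
    rw [omegaJoin, Subgroup.iSup_eq_closure, Subgroup.centralizer_closure]
  obtain ⟨h1, E, a, b, c, hn, ⟨iso⟩⟩ := exists_sl2_of_not_factorizable hsep hO hnf
  haveI := hn
  haveI hn' : ((Subgroup.centralizer (⨆ S : Sylow p G, (omegaOne p ((S : Subgroup G) ⊓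
      Subgroup.centralizer ((S : Subgroup G) : Set G)) : Set G))).subgroupOf E).Normal := by
    rw [e]; exact hn
  exact ⟨h1, E, e.le.trans a, b.trans (sup_le_sup_left e.ge _),
    (sup_le_sup_left e.le _).trans c, hn', ⟨(QuotientGroup.quotientMulEquivOfEq
      (congrArg (fun S : Subgroup G => S.subgroupOf E) e)).trans iso⟩⟩

end Cfsg.Agent.S0618
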