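import Cfsg.Statements.S0619
import Cfsg.Agent.Lib.Components.FFModel
import Cfsg.Agent.Lib.Transfer.JSubgroup
import Cfsg.Agent.S0605

set_option autoImplicit false
open Cfsg

namespace Cfsg.Agent.S0619

open Subgroup Cfsg.Agent.Components Cfsg.Agent.Transfer
open scoped commutatorElement

/-- The elements `a` with `[a, z]` in the normal subgroup `V`. -/
def chainStabOne {G : Type*} [Group G] (V : Subgroup G) [hV : V.Normal] (z : G) : Subgroup G where
  carrier := {a | ⁅a, z⁆ ∈ V}
  one_mem' := by
    show ⁅(1 : G), z⁆ ∈ V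
    rw [commutatorElement_one_left]; exact one_mem V
  mul_mem' := fun {a b} ha hb => by
    show ⁅a * b, z⁆ ∈ V
    rw [commutatorElement_mul_left']
    exact V.mul_mem (hV.conj_mem _ hb a) ha
  inv_mem' := fun {a} ha => by
    show ⁅a⁻¹, z⁆ ∈ V
    have e : ⁅a⁻¹, z⁆ = a⁻¹ * ⁅a, z⁆⁻¹ * a⁻¹⁻¹ := by simp only [commutatorElement_def]; group
    rw [e]
    exact hV.conj_mem _ (V.inv_mem ha) a⁻¹

/-- For a p-separable group and a normal elementary abelian p-subgroup V with no nontrivial normal p-subgroup modulo its centralizer C, the Thompson subgroup J(G) moves Ω₁(Z(J(C))) only inside V. -/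
theorem result {G : Type*} [Group G] [Finite G] {p : ℕ} [Fact p.Prime] (hsep : Cfsg.IsPSolvable p G) (V : Subgroup G) [V.Normal] (hV : Cfsg.IsElementaryAbelian p V) (hO : Cfsg.pCore p (G ⧸ Subgroup.centralizer (V : Set G)) = ⊥) : ⁅Cfsg.omegaOne p (Cfsg.centerThompsonOf p (Subgroup.centralizer (V : Set G))), Cfsg.thompsonSubgroup p G⁆ ≤ V := by
  set C := centralizer (V : Set G)
  set Z0 := omegaOne p (centerThompsonOf p C) with hZ0
  have hZle : Z0 ≤ thompsonSubgroupOf p C ⊓ centralizer (thompsonSubgroupOf p C : Set G) :=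
    (closure_le _).mpr fun _ hx => hx.1
  have hZp : ∀ z ∈ Z0, z ^ p = 1 := by
    intro z hz
    induction hz using closure_induction with
    | mem x hx => exact hx.2
    | one => rw [one_pow]
    | mul x y hx hy hx' hy' =>
      have hc : Commute x y := ((hZle hy).2 x (hZle hx).1)
      rw [hc.mul_pow, hx', hy', one_mul]
    | inv x hx hx' => rw [inv_pow, hx', inv_one]
  rw [thompsonSubgroup, Subgroup.commutator_comm, Subgroup.commutator_le]
  intro j hj z hz
  have key : ∀ A ∈ maxElementaryAbelianSubgroups p G, ∀ a ∈ A, ⁅a, z⁆ ∈ V := by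
    intro A hA a ha
    have hm := offMeasure_max_eq hsep V hV hO hA
    have hfix : V ⊓ centralizer (A : Set G) = V ⊓ A := by
      refine le_antisymm (le_inf inf_le_left ?_) fun x hx => ⟨hx.1, fun a ha => ea_commute hA.1 ha hx.2⟩
      have h : IsElementaryAbelian p (A ⊔ (V ⊓ centralizer (A : Set G)) : Subgroup G) :=
        ea_sup hA.1 (ea_mono hV inf_le_left) fun a ha w hw => (hw.2 a ha).symm
      exact le_sup_right.trans (eq_of_le_of_card_ge le_sup_left (hA.2 _ h)).ge
    set A0 := V ⊔ (C ⊓ A)
    have hn : C ⊓ A ≤ normalizer (V : Set G) := fun x _ => by rw [normalizer_eq_top]; trivial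
    have hA0e : IsElementaryAbelian p A0 :=
      ea_sup hV (ea_mono hA.1 inf_le_right) fun v hv x hx => (hx.1 v hv).symm
    have hcard : Nat.card A0 = Nat.card A := by
      have h1 := Basics.card_mul_card_eq_card_sup_mul_card_inf hn
      have h2 : V ⊓ (C ⊓ A) = V ⊓ A := by
        rw [← inf_assoc, inf_eq_left.mpr (le_centralizer_self_of_ea hV)]
      rw [h2, mul_comm] at h1
      rw [offMeasure, hfix, h1] at hm
      exact (Nat.eq_of_mul_eq_mul_right (card_pos' _) hm).symm
    have hA0C : A0 ≤ C := sup_le (le_centralizer_self_of_ea hV) inf_le_left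
    have hmax : IsMaxElemIn p C A0 :=
      ⟨hA0C, hA0e, fun B _ hB => hcard ▸ hA.2 B hB⟩
    have hzA : z ∈ A0 := by
      have h1 : IsElementaryAbelian p (A0 ⊔ Subgroup.zpowers z : Subgroup G) := by
        refine ea_sup hA0e (ea_zpowers (hZp z hz)) fun x hx y hy => ?_
        obtain ⟨i, rfl⟩ := mem_zpowers_iff.mp hy
        exact ((show Commute z x from ((hZle hz).2 x (le_thompsonSubgroupOf hmax hx)).symm).zpow_left i).eq
      exact (eq_of_le_of_card_ge le_sup_left (hcard ▸ hA.2 _ h1)).ge
        (mem_sup_right (Subgroup.mem_zpowers z))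
    obtain ⟨v, hv, x, hx, rfl⟩ := (Basics.mem_sup_of_le_normalizer hn).mp hzA
    rw [commutatorElement_mul_right', commutatorElement_eq_one_iff_commute.mpr
      (show Commute a x from ea_commute hA.1 ha hx.2), mul_one, mul_inv_cancel, mul_one,
      commutatorElement_def]
    exact mul_mem (Normal.conj_mem inferInstance v hv a) (inv_mem hv)
  have hle : sSup (maxElementaryAbelianSubgroups p G) ≤ chainStabOne V z := sSup_le fun A hA a ha =>
    key A hA a ha
  exact hle hj

end Cfsg.Agent.S0619
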