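import Cfsg.Statements.S0620
import Cfsg.Agent.Lib.Components.FFCoprime

set_option autoImplicit false
open Cfsg Subgroup

namespace Cfsg.Agent.S0620

/-- Under coprime action of an elementary abelian q-group X on a p-separable group K with trivial p'-core, K is generated by the normalizer of J(S), the centralizer of Ω₁(Z(S)) and the fixed points of X. -/
theorem result {G : Type*} [Group G] [Finite G] {p : ℕ} [Fact p.Prime] {q : ℕ} [Fact q.Prime] (K X : Subgroup G) (hXK : X ≤ Subgroup.normalizer (K : Set G)) (hX : Cfsg.IsElementaryAbelian q X) (hq : ¬ q ∣ Nat.card K) (hsep : Cfsg.IsPSolvable p ↥K) (hO : Cfsg.pPrimeCore p ↥K = ⊥) (S : Sylow p ↥K) : (Subgroup.normalizer (Cfsg.thompsonSubgroupOf p (S : Subgroup ↥K) : Set ↥K) ⊔ Subgroup.centralizer (Cfsg.omegaOne p ((S : Subgroup ↥K) ⊓ Subgroup.centralizer ((S : Subgroup ↥K) : Set ↥K)) : Set ↥K) ⊔ (Subgroup.centralizer (X : Set G)).subgroupOf K) = ⊤ := by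
  classical
  obtain ⟨hset, hS3, -⟩ := Components.ffSetup_model (G := ↥K) hsep hO
  let π : ↥K →* Components.FFAmb p ↥K := (Components.ffOp p ↥K).comp MulAut.conj
  set J := thompsonSubgroup p ↥K with hJdef
  haveI hJn : J.Normal := by
    haveI := Transfer.thompsonSubgroup_characteristic (p := p) (G := ↥K)
    infer_instance
  set M := normalizer (thompsonSubgroupOf p (S : Subgroup ↥K) : Set ↥K) ⊔
    centralizer (Components.omegaZ p (S : Subgroup ↥K) : Set ↥K) ⊔
      (centralizer (X : Set G)).subgroupOf K with hMdef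
  show M = ⊤
  have hSM : (S : Subgroup ↥K) ≤ M :=
    ((le_normalizer.trans (Transfer.normalizer_le_normalizer_thompson _)).trans le_sup_left).trans
      le_sup_left
  have hkerM : π.ker ≤ M := by
    intro k hk
    refine mem_sup_left (mem_sup_right fun w hw => ?_)
    exact (Components.ffOp_conj_eq_one_iff (p := p)).mp hk w
      (le_iSup (fun T : Sylow p ↥K => Components.omegaZ p (T : Subgroup ↥K)) S hw)
  -- every transvection of the model is the image of an element of `M`
  have hbM : ∀ b, Components.FFT p (Components.ffV p ↥K) (Components.ffH p ↥K) b → b ∈ M.map π := by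
    intro b hb
    obtain ⟨-, W, D, -, hD, -, -, -, -, hfac⟩ :=
      Components.exists_fixed_lift K X hXK hX hq hsep hO hb
    obtain ⟨e₁, e₂, P, -, -, -, -, -, hLn⟩ := hb.exists_factor hset hS3
    set L := Components.FFT.factor (Components.ffQ p ↥K) b with hL
    set E := L.comap π ⊓ J with hE
    haveI hEn : (E.subgroupOf J).Normal := by
      refine normal_subgroupOf_of_le_normalizer fun j hj => ?_
      refine mem_normalizer_iff.mpr fun x => ?_
      have h1 : π j ∈ normalizer (L : Set (Components.FFAmb p ↥K)) := hLn ⟨j, hj, rfl⟩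
      simp only [hE, mem_inf, mem_comap, map_mul, map_inv]
      exact and_congr (mem_normalizer_iff.mp h1 _)
        (mem_normalizer_iff.mp (le_normalizer hj) x)
    obtain ⟨T, hT⟩ := Components.exists_sylow_inf_of_normal S J
    obtain ⟨TE, hTE⟩ := Components.exists_sylow_inf_of_normal T (E.subgroupOf J)
    let f : ↥(E.subgroupOf J) →* ↥L :=
      { toFun := fun e => ⟨π ((e : ↥J) : ↥K), (mem_subgroupOf.mp e.2).1⟩
        map_one' := Subtype.ext (map_one π)
        map_mul' := fun x y => Subtype.ext (map_mul π ((x : ↥J) : ↥K) ((y : ↥J) : ↥K)) }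
    have hfs : Function.Surjective f := by
      rintro ⟨l, hl⟩
      obtain ⟨j, hj, e⟩ := P.leH hl
      exact ⟨⟨⟨j, hj⟩, ⟨show π j ∈ L by rw [show π j = l from e]; exact hl, hj⟩⟩, Subtype.ext e⟩
    have hbL : b ∈ L := mem_sup_right (mem_zpowers b)
    obtain ⟨Q', hQ'⟩ := (IsPGroup.of_card (n := 1) (show Nat.card (zpowers (⟨b, hbL⟩ : L)) = p ^ 1 by
      rw [Nat.card_zpowers, Subgroup.orderOf_mk, hb.order_eq, pow_one])).exists_le_sylow
    obtain ⟨g, hg⟩ := MulAction.exists_smul_eq L (TE.mapSurjective hfs) Q'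
    have h2 := hQ' (mem_zpowers _)
    rw [← hg, ← SetLike.mem_coe] at h2
    obtain ⟨z, hz, ez⟩ := h2
    obtain ⟨e, he, rfl⟩ := hz
    have heS : ((e : ↥J) : ↥K) ∈ (S : Subgroup ↥K) := by
      have h3 : (e : ↥J) ∈ (T : Subgroup ↥J) := (hTE.le ⟨e, he, rfl⟩).2
      exact (hT.le ⟨_, h3, rfl⟩).2
    obtain ⟨d, hd, c, hc, hdc⟩ := hfac g g.2
    change π d = (g : Components.FFAmb p ↥K) * c at hdc
    have h4 : (g : Components.FFAmb p ↥K) * π ((e : ↥J) : ↥K) * (g : Components.FFAmb p ↥K)⁻¹ = b :=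
      congrArg Subtype.val ez
    refine ⟨d * ((e : ↥J) : ↥K) * d⁻¹, ?_, ?_⟩
    · have hdM : d ∈ M := mem_sup_right (show (d : G) ∈ centralizer (X : Set G) from (hD hd).2)
      exact M.mul_mem (M.mul_mem hdM (hSM heS)) (M.inv_mem hdM)
    · have h5 : π ((e : ↥J) : ↥K) * c = c * π ((e : ↥J) : ↥K) :=
        hc _ (mem_subgroupOf.mp e.2).1
      rw [map_mul, map_mul, map_inv, hdc, ← h4]
      calc (g : Components.FFAmb p ↥K) * c * π ((e : ↥J) : ↥K) * ((g : Components.FFAmb p ↥K) * c)⁻¹
          = g * (c * π ((e : ↥J) : ↥K)) * c⁻¹ * (g : Components.FFAmb p ↥K)⁻¹ := by group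
        _ = _ := by rw [← h5]; group
  have hJM : J ≤ M := by
    have h1 : J.map π ≤ M.map π := (hset.le_closure_transv hS3).trans ((closure_le _).mpr hbM)
    intro j hj
    obtain ⟨m, hm, e⟩ := h1 ⟨j, hj, rfl⟩
    have h2 : m⁻¹ * j ∈ π.ker := by rw [MonoidHom.mem_ker, map_mul, map_inv, e, inv_mul_cancel]
    simpa using M.mul_mem hm (hkerM h2)
  obtain ⟨T, hT⟩ := Components.exists_sylow_inf_of_normal S J
  have hJS : thompsonSubgroupOf p (S : Subgroup ↥K) ≤ J ⊓ (S : Subgroup ↥K) := by
    refine le_inf ?_ (Transfer.thompsonSubgroupOf_le _)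
    rw [Transfer.thompsonSubgroupOf_eq]
    refine sSup_le fun A hA => le_sSup ⟨hA.2.1, fun B hB => ?_⟩
    obtain ⟨R, hR⟩ := (Transfer.ea_isPGroup hB).exists_le_sylow
    obtain ⟨x, hx⟩ := MulAction.exists_smul_eq ↥K R S
    have h1 : B.map (MulAut.conj x).toMonoidHom ≤ (S : Subgroup ↥K) := by
      rw [← hx]; exact map_mono hR
    rw [← card_map_of_injective (f := (MulAut.conj x).toMonoidHom) (MulAut.conj x).injective
      (K := B)]
    exact hA.2.2 _ h1 (Transfer.ea_map hB _)
  have hfr := T.normalizer_sup_eq_top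
  rw [hT] at hfr
  refine top_le_iff.mp (hfr.ge.trans (sup_le ?_ hJM))
  refine ((Transfer.normalizer_le_normalizer_thompson (p := p) _).trans ?_)
  rw [Transfer.thompsonSubgroupOf_eq_of_le inf_le_right hJS]
  exact le_sup_left.trans le_sup_left

end Cfsg.Agent.S0620
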