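import Cfsg.Statements.S0625
import Cfsg.Agent.Lib.Transfer.SL2Props

set_option autoImplicit false
open Cfsg

namespace Cfsg.Agent.S0625

open Subgroup Cfsg.Agent.Transfer
open scoped commutatorElement Pointwise IsMulCommutative


/-- A p-separable group with p at least 5 is p-stable in the action sense. -/
theorem result {G : Type*} [Group G] [Finite G] {p : ℕ} [Fact p.Prime] (hp : 5 ≤ p) (hsep : Cfsg.IsPSolvable p G) : Cfsg.IsActionPStable p G := by
  refine isActionPStable_of_free (by omega) ?_
  rintro ⟨K, L, hL, ⟨e⟩⟩
  obtain ⟨f, hf⟩ := exists_surjective_of_section e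
  exact not_isPSolvable_of_surjective hp f hf hsep

end Cfsg.Agent.S0625
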