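import Cfsg.Statements.S0627
import Cfsg.Agent.Lib.Transfer.SL2Props
import Cfsg.Agent.Lib.Transfer.Constrained
import Cfsg.Agent.Lib.Coprime23.PSolv

set_option autoImplicit false
open Cfsg

namespace Cfsg.Agent.S0627

open Subgroup Cfsg.Agent.Transfer
open scoped commutatorElement Pointwise IsMulCommutative


/-- In a p-separable group with p at least 5, the normalizer of W(S) supplements the largest normal subgroup of order prime to p. -/
theorem result {G : Type*} [Group G] [Finite G] {p : ℕ} [Fact p.Prime] (hp : 5 ≤ p) (hsep : Cfsg.IsPSolvable p G) (S : Sylow p G) : Cfsg.pPrimeCore p G ⊔ Subgroup.normalizer (((Cfsg.stableNormalClosure p ↥(S : Subgroup G)).map (S : Subgroup G).subtype) : Set G) = ⊤ := by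
  set N := Cfsg.pPrimeCore p G
  set π := QuotientGroup.mk' N
  have hfree : ¬ ∃ (K L : Subgroup (G ⧸ N)) (_ : (L.subgroupOf K).Normal),
      Nonempty ((K ⧸ L.subgroupOf K) ≃* Matrix.SpecialLinearGroup (Fin 2) (ZMod p)) := by
    intro h
    obtain ⟨K, L, hL, ⟨e⟩⟩ := exists_section_of_quotient h
    obtain ⟨f, hf⟩ := exists_surjective_of_section e
    exact not_isPSolvable_of_surjective hp f hf hsep
  have hc : centralizer (Cfsg.pCore p (G ⧸ N) : Set (G ⧸ N)) ≤ Cfsg.pCore p (G ⧸ N) := by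
    refine centralizer_pCore_le_of_pSolvable (p := p) (Cfsg.Agent.Basics.pPrimeCore_quotient_eq_bot p) ?_
    exact isPSolvable_subgroup' (Cfsg.Agent.Coprime23.isPSolvable_map π
      (QuotientGroup.mk'_surjective N) hsep) _
  have hn := snc_normal_of_actionPStable (isActionPStable_of_free (by omega) hfree) hc
    (S.mapSurjective (QuotientGroup.mk'_surjective N))
  rw [eq_top_iff]
  intro g _
  have hinj : Set.InjOn π (S : Subgroup G) := by
    intro x hx y hy hxy
    have hmem : x⁻¹ * y ∈ N := QuotientGroup.eq.mp hxy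
    have hmS : x⁻¹ * y ∈ (S : Subgroup G) := mul_mem (inv_mem hx) hy
    obtain ⟨k, hk⟩ := S.isPGroup' ⟨_, hmS⟩
    have h1 : orderOf (x⁻¹ * y) ∣ p ^ k := orderOf_dvd_of_pow_eq_one (by simpa using congrArg Subtype.val hk)
    have h2 : orderOf (x⁻¹ * y) ∣ Nat.card N := Subgroup.orderOf_dvd_natCard N hmem
    have h3 : orderOf (x⁻¹ * y) = 1 := Nat.eq_one_of_dvd_one
      (((Cfsg.Agent.Basics.pPrimeCore_coprime (G := G) p).symm.pow_left k).gcd_eq_one ▸ Nat.dvd_gcd h1 h2)
    exact inv_mul_eq_one.mp (orderOf_eq_one_iff.mp h3)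
  have hmap : (sncOf p (S : Subgroup G)).map π = sncOf p ((S : Subgroup G).map π) := map_sncOf _ π hinj
  set W := sncOf p (S : Subgroup G) with hW
  set L := (W.map π).comap π with hLdef
  haveI : (W.map π).Normal := by
    rw [hmap, ← Sylow.coe_mapSurjective (f := π) (QuotientGroup.mk'_surjective N) S]
    exact hn
  haveI : L.Normal := inferInstance
  have hWS : W ≤ (S : Subgroup G) := map_subtype_le _
  have hNL : N ≤ L := fun x hx => by
    rw [hLdef, mem_comap, show π x = 1 from (QuotientGroup.eq_one_iff x).mpr hx]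
    exact one_mem _
  have hinf : (S : Subgroup G) ⊓ L = W := by
    apply le_antisymm
    · rintro x ⟨hxS, y, hy, hxy⟩
      exact hinj (hWS hy) hxS hxy ▸ hy
    · exact le_inf hWS (fun x hx => mem_map_of_mem π hx)
  have hpow : ∀ x ∈ L, ∃ k, x ^ p ^ k ∈ N := by
    rintro x ⟨y, hy, hxy⟩
    obtain ⟨k, hk⟩ := S.isPGroup' ⟨y, hWS hy⟩
    refine ⟨k, (QuotientGroup.eq_one_iff _).mp ?_⟩
    show π (x ^ p ^ k) = 1
    rw [map_pow, ← hxy, ← map_pow, show y ^ p ^ k = 1 from congrArg Subtype.val hk, map_one]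
  have h := sup_normalizer_inf_eq_top S L N hpow
  rw [hinf] at h
  exact h.ge (mem_top g)

end Cfsg.Agent.S0627
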