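import Cfsg.Statements.S0633
import Cfsg.Agent.Lib.HallHigman.Main

set_option autoImplicit false
open Cfsg
open scoped TensorProduct

namespace Cfsg.Agent.S0633

/-- Theorem B of Hall and Higman on the minimal polynomial of a p-element of order p^n in a p-solvable linear group on a nonzero vector space in characteristic p with no nontrivial normal p-subgroup: its degree is p^n, except when some p^n₀ - 1 (n₀ ≤ n) is a power of a prime q for which the Sylow q-subgroups are non-abelian, in which case the degree is at least p^(n-n₀)(p^n₀ - 1). -/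
theorem result {F : Type*} [Field F] {p : ℕ} [Fact p.Prime] [CharP F p] {V : Type*} [AddCommGroup V] [Module F V] [FiniteDimensional F V] [Nontrivial V] (H : Subgroup (V ≃ₗ[F] V)) [Finite H] (hsol : Cfsg.IsPSolvable p H) (hOp : Cfsg.pCore p H = ⊥) (x : V ≃ₗ[F] V) (hx : x ∈ H) (n : ℕ) (hn : orderOf x = p ^ n) (r : ℕ) (hr : minpoly F (x : Module.End F V) = (Polynomial.X - 1) ^ r) : r = p ^ n ∨ ∃ n₀ q m : ℕ, 1 ≤ n₀ ∧ n₀ ≤ n ∧ q.Prime ∧ 1 ≤ m ∧ p ^ n₀ - 1 = q ^ m ∧ (∀ Q : Sylow q H, ¬ IsMulCommutative Q) ∧ p ^ (n - n₀) * (p ^ n₀ - 1) ≤ r := by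
  classical
  let k := AlgebraicClosure F
  haveI : CharP k p := charP_of_injective_algebraMap (algebraMap F k).injective p
  let ρ : ↥H →* Module.End k (k ⊗[F] V) :=
    { toFun := fun g => LinearMap.baseChange k ((g : V ≃ₗ[F] V) : V →ₗ[F] V)
      map_one' := by
        show LinearMap.baseChange k ((1 : V ≃ₗ[F] V) : V →ₗ[F] V) = _
        exact LinearMap.baseChange_id
      map_mul' := fun a b => by
        show LinearMap.baseChange k (((a : V ≃ₗ[F] V) : V →ₗ[F] V).comp ((b : V ≃ₗ[F] V) : V →ₗ[F] V)) = _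
        exact LinearMap.baseChange_comp _ _ }
  let b := Module.finBasis F V
  have hinj : ∀ f g : V →ₗ[F] V, f.baseChange k = g.baseChange k → f = g := by
    intro f g h
    refine b.ext fun i => b.repr.injective (Finsupp.ext fun j => ?_)
    have h2 := congrArg (fun T => (b.baseChange k).repr (T (1 ⊗ₜ[F] b i)) j) h
    simp only [LinearMap.baseChange_tmul, Module.Basis.baseChange_repr_tmul, Algebra.smul_def,
      mul_one] at h2
    exact (algebraMap F k).injective h2
  have hρ : Function.Injective ρ := fun a b h => Subtype.ext (LinearEquiv.toLinearMap_injective (hinj _ _ h))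
  set T : Module.End F V := (x : Module.End F V) - 1 with hT
  have hpow : ∀ m : ℕ, (ρ ⟨x, hx⟩ - 1) ^ m = (T ^ m).baseChange k := by
    intro m
    induction m with
    | zero => simpa using LinearMap.baseChange_id.symm
    | succ m ih =>
      rw [pow_succ, pow_succ, ih, Module.End.mul_eq_comp, Module.End.mul_eq_comp,
        LinearMap.baseChange_comp, hT, LinearMap.baseChange_sub,
        Module.End.one_eq_id, Module.End.one_eq_id, LinearMap.baseChange_id]
      rfl
  have hint : IsIntegral F (x : Module.End F V) := Algebra.IsIntegral.isIntegral _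
  have hTr : T ^ r = 0 := by
    have h := minpoly.aeval F (x : Module.End F V)
    rw [hr] at h
    simpa using h
  have hge : ∀ B, (ρ ⟨x, hx⟩ - 1) ^ (B - 1) ≠ 0 → 1 ≤ B → B ≤ r := by
    intro B hB hB1
    by_contra hlt
    push Not at hlt
    refine hB ?_
    rw [hpow, pow_eq_zero_of_le (by omega) hTr, LinearMap.baseChange_zero]
  have hNp : 1 ≤ p ^ n := Nat.one_le_pow _ _ (Fact.out (p := p.Prime)).pos
  have hle : r ≤ p ^ n := by
    have h0 : T ^ (p ^ n) = 0 := by
      haveI : CharP F p := inferInstance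
      rw [hT, Cfsg.Agent.HallHigman.sub_one_pow_eq_pow_sub_one (k := F)]
      have hx1 : x ^ (p ^ n) = 1 := hn ▸ pow_orderOf_eq_one x
      have hpw : ∀ m : ℕ, (x : Module.End F V) ^ m = ((x ^ m : V ≃ₗ[F] V) : Module.End F V) := by
        intro m
        induction m with
        | zero => rfl
        | succ m ih => rw [pow_succ, pow_succ, ih]; rfl
      rw [hpw, hx1]
      exact sub_self _
    have hdvd : minpoly F (x : Module.End F V) ∣ (Polynomial.X - 1) ^ (p ^ n) :=
      minpoly.dvd F _ (by simpa using h0)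
    rw [hr] at hdvd
    have hne : ((Polynomial.X : Polynomial F) - 1) ^ (p ^ n) ≠ 0 := pow_ne_zero _ (by
      simpa using Polynomial.X_sub_C_ne_zero (1 : F))
    have hd := Polynomial.natDegree_le_of_dvd hdvd hne
    rw [← Polynomial.C_1, Polynomial.natDegree_pow, Polynomial.natDegree_pow,
      Polynomial.natDegree_X_sub_C] at hd
    simpa using hd
  rcases Nat.eq_zero_or_pos n with rfl | hn1
  · refine Or.inl (le_antisymm hle ?_)
    by_contra hlt
    push Not at hlt
    have hr0 : r = 0 := by simpa using hlt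
    rw [hr0, pow_zero] at hTr
    exact one_ne_zero hTr
  have hn' : orderOf (⟨x, hx⟩ : ↥H) = p ^ n := by rw [Subgroup.orderOf_mk, hn]
  rcases Cfsg.Agent.HallHigman.hall_higman_B ρ hρ hsol hOp ⟨x, hx⟩ hn' hn1 with
    h | ⟨n₀, q, m, h1, h2, h3, h4, h5, h6, h7⟩
  · exact Or.inl (le_antisymm hle (hge _ h hNp))
  · refine Or.inr ⟨n₀, q, m, h1, h2, h3, h4, h5, h6, hge _ h7 ?_⟩
    have : 1 ≤ p ^ n₀ - 1 := by rw [h5]; exact Nat.one_le_pow _ _ h3.pos
    exact Nat.one_le_iff_ne_zero.mpr (Nat.mul_ne_zero (pow_ne_zero _ (Fact.out (p := p.Prime)).ne_zero)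
      (by omega))

end Cfsg.Agent.S0633
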