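import Cfsg.Statements.S0634
import Cfsg.Agent.Lib.Coprime23.UpperSeries
import Cfsg.Agent.Lib.Transfer.Constrained
import Cfsg.Agent.Lib.Transfer.SL2Props
-- import your own Cfsg.Agent.* helpers here

set_option autoImplicit false
open Cfsg

namespace Cfsg.Agent.S0634

/-- In a p-soluble group each p-factor of the upper p-series contains its own centralizer in the corresponding quotient. -/
theorem result {G : Type*} [Group G] [Finite G] {p : ℕ} [Fact p.Prime] (hsol : Cfsg.IsPSolvable p G) (k : ℕ) : Subgroup.centralizer ((((Cfsg.upperPSeries p G (2 * k + 2)).1.map (QuotientGroup.mk' (Cfsg.upperPSeries p G (2 * k + 1)).1)) : Subgroup (G ⧸ (Cfsg.upperPSeries p G (2 * k + 1)).1)) : Set (G ⧸ (Cfsg.upperPSeries p G (2 * k + 1)).1)) ≤ (Cfsg.upperPSeries p G (2 * k + 2)).1.map (QuotientGroup.mk' (Cfsg.upperPSeries p G (2 * k + 1)).1) := by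
  set A := (upperPSeries p G (2 * k + 1)).1 with hA
  haveI : A.Normal := (upperPSeries p G (2 * k + 1)).2
  have hodd : ¬ Even (2 * k + 1) := by simp [parity_simps]
  have hmap : (upperPSeries p G (2 * k + 2)).1.map (QuotientGroup.mk' A) = pCore p (G ⧸ A) := by
    rw [show 2 * k + 2 = 2 * k + 1 + 1 from rfl, Agent.Coprime23.upperPSeries_succ_of_odd hodd]
    exact Subgroup.map_comap_eq_self_of_surjective (QuotientGroup.mk'_surjective A) _
  rw [hmap]
  have hO : pPrimeCore p (G ⧸ A) = ⊥ := by
    set B := (pPrimeCore p (G ⧸ A)).comap (QuotientGroup.mk' A) with hB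
    haveI : (pPrimeCore p (G ⧸ A)).Normal := Agent.Basics.pPrimeCore_normal p
    haveI : B.Normal := Subgroup.Normal.comap inferInstance _
    set Z := (upperPSeries p G (2 * k)).1 with hZ
    have hZA : Z ≤ A := Agent.Coprime23.upperPSeries_le_succ (2 * k)
    have hAB : A ≤ B := by
      intro a ha
      rw [hB, Subgroup.mem_comap, QuotientGroup.mk'_apply, (QuotientGroup.eq_one_iff a).mpr ha]
      exact one_mem _
    have hBA : B ≤ A := by
      refine Agent.Coprime23.le_upperPSeries_succ (n := 2 * k) (B := B) ?_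
      have h1 := Agent.Coprime23.isPStep_upperPSeries (p := p) (G := G) (2 * k)
      rw [Agent.Coprime23.IsPStep, if_pos (even_two_mul k)] at h1 ⊢
      rw [← Subgroup.relIndex_mul_relIndex _ A B hZA hAB]
      refine h1.mul_left ?_
      rw [hB, Agent.Coprime23.relIndex_comap_mk']
      exact Agent.Basics.pPrimeCore_coprime p
    rw [← Subgroup.map_comap_eq_self_of_surjective (QuotientGroup.mk'_surjective A)
      (pPrimeCore p (G ⧸ A)), ← le_bot_iff]
    refine (Subgroup.map_mono hBA).trans ?_
    rw [le_bot_iff, Subgroup.map_eq_bot_iff, QuotientGroup.ker_mk']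
  exact Agent.Transfer.centralizer_pCore_le_of_pSolvable hO
    (Agent.Transfer.isPSolvable_subgroup'
      (Agent.Coprime23.isPSolvable_map (QuotientGroup.mk' A) (QuotientGroup.mk'_surjective A) hsol) _)

end Cfsg.Agent.S0634
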