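import Cfsg.Statements.S0635
import Cfsg.Agent.Lib.Coprime23.UpperSeries
import Cfsg.Agent.Lib.Transfer.Constrained
import Cfsg.Agent.Lib.Transfer.SL2Props
-- import your own Cfsg.Agent.* helpers here

set_option autoImplicit false
open Cfsg

namespace Cfsg.Agent.S0635

universe u

theorem pLengthLE_class : ∀ (n : ℕ) {G : Type u} [Group G] [Finite G], Nat.card G = n →
    ∀ {p : ℕ} [Fact p.Prime], IsPSolvable p G → ∀ S : Sylow p G,
      PLengthLE p (Group.nilpotencyClass ↥(S : Subgroup G)) G := by
  intro n
  induction n using Nat.strong_induction_on with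
  | _ n ih =>
  intro G _ _ hn p hp hsol S
  have hp' := hp.out
  rcases subsingleton_or_nontrivial G with hs | hnt
  · exact Subsingleton.elim _ _
  by_cases hO : pPrimeCore p G = ⊥
  swap
  · haveI : (pPrimeCore p G).Normal := Basics.pPrimeCore_normal p
    refine Coprime23.pLengthLE_of_quotient_coprime (Basics.pPrimeCore_coprime p) ?_
    have hsurj := QuotientGroup.mk'_surjective (pPrimeCore p G)
    haveI := S.2.isNilpotent
    refine Coprime23.pLengthLE_mono ?_ (ih _ (hn ▸ Basics.card_quotient_lt hO) rfl
      (Coprime23.isPSolvable_map _ hsurj hsol) (S.mapSurjective hsurj))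
    exact nilpotencyClass_le_of_surjective
      ((QuotientGroup.mk' (pPrimeCore p G)).subgroupMap (S : Subgroup G))
      (MonoidHom.subgroupMap_surjective _ _)
  haveI : (pCore p G).Normal := Basics.pCore_normal p
  have hne : pCore p G ≠ ⊥ := (Coprime23.exists_core_ne_bot hsol).resolve_right (not_not.mpr hO)
  have hQS : pCore p G ≤ (S : Subgroup G) := Basics.pCore_le_sylow p S
  have hC := Transfer.centralizer_pCore_le_of_pSolvable hO
    (Transfer.isPSolvable_subgroup' hsol _)
  haveI := S.2.isNilpotent
  have hsurj := QuotientGroup.mk'_surjective (pCore p G)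
  let f := (QuotientGroup.mk' (pCore p G)).subgroupMap (S : Subgroup G)
  have hker : Subgroup.center (S : Subgroup G) ≤ f.ker := fun z hz => by
    rw [MonoidHom.mem_ker]
    refine Subtype.ext ((QuotientGroup.eq_one_iff _).mpr (hC (Subgroup.mem_centralizer_iff.mpr
      fun q hq => ?_)))
    exact congrArg Subtype.val (Subgroup.mem_center_iff.mp hz ⟨q, hQS hq⟩)
  haveI : Nontrivial (S : Subgroup G) := (Subgroup.nontrivial_iff_ne_bot _).mpr fun e =>
    hne (le_bot_iff.mp (hQS.trans e.le))
  have hle : Group.nilpotencyClass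
      ↥((S : Subgroup G).map (QuotientGroup.mk' (pCore p G))) + 1 ≤
        Group.nilpotencyClass ↥(S : Subgroup G) := by
    rw [nilpotencyClass_eq_quotient_center_plus_one (G := (S : Subgroup G))]
    refine Nat.add_le_add_right ?_ 1
    exact nilpotencyClass_le_of_surjective (QuotientGroup.lift _ f hker) fun y => by
      obtain ⟨x, rfl⟩ := (QuotientGroup.mk' (pCore p G)).subgroupMap_surjective _ y
      exact ⟨QuotientGroup.mk x, rfl⟩
  refine Coprime23.pLengthLE_mono hle (Coprime23.pLengthLE_succ_of_quotient_pCore hO ?_)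
  exact ih _ (hn ▸ Basics.card_quotient_lt hne) rfl (Coprime23.isPSolvable_map _ hsurj hsol)
    (S.mapSurjective hsurj)

/-- The p-length of a p-soluble group is at most the nilpotency class of its Sylow p-subgroups. -/
theorem result {G : Type*} [Group G] [Finite G] {p : ℕ} [Fact p.Prime] (hsol : Cfsg.IsPSolvable p G) (S : Sylow p G) : Cfsg.PLengthLE p (Group.nilpotencyClass ↥(S : Subgroup G)) G := by
  exact pLengthLE_class _ rfl hsol S

end Cfsg.Agent.S0635
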