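import Cfsg.Statements.S0637
import Cfsg.Agent.Lib.OddLocal.RankTwoOmega

set_option autoImplicit false
open Cfsg

namespace Cfsg.Agent.S0637

/-- For p greater than 3, the bound p² on the order of the subgroup generated by the elements of order dividing p passes from a p-group to all its quotients. -/
theorem result {R : Type*} [Group R] [Finite R] {p : ℕ} [Fact p.Prime] (hp : 3 < p) (hR : IsPGroup p R) (hO : Nat.card ↥(Cfsg.omegaOne p (⊤ : Subgroup R)) ≤ p ^ 2) (T : Subgroup R) [T.Normal] : Nat.card ↥(Cfsg.omegaOne p (⊤ : Subgroup (R ⧸ T))) ≤ p ^ 2 := by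
  have h : OddLocal.SmallExponent p R := fun Q hQ => le_trans (Subgroup.card_le_of_le (fun x hx =>
    Subgroup.subset_closure (k := {y : R | y ∈ (⊤ : Subgroup R) ∧ y ^ p = 1}) ⟨Subgroup.mem_top x, hQ x hx⟩)) hO
  have h2 := OddLocal.smallExponent_quotient hp _ R rfl hR h T
  have hrk : ∀ E : Subgroup (R ⧸ T), Cfsg.IsElementaryAbelian p E → Nat.card E ≤ p ^ 2 := fun E hE => h2 E hE.2
  refine h2 _ fun x hx => OddLocal.omega_exponent hp _ _ rfl (hR.to_quotient T) hrk x ?_
  exact Subgroup.closure_mono (fun y hy => hy.2) hx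

end Cfsg.Agent.S0637
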