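import Cfsg.Statements.S0640
import Cfsg.Agent.Lib.OddLocal.NarrowAction
import Mathlib.GroupTheory.SemidirectProduct
-- import your own Cfsg.Agent.* helpers here

set_option autoImplicit false
open Cfsg

namespace Cfsg.Agent.S0640

/-- For odd p, a prime q ≠ p dividing the order of the automorphism group of a p-group of rank at most 2 divides p² - 1 and is less than p. -/
theorem result {R : Type*} [Group R] [Finite R] {p : ℕ} [Fact p.Prime] (hp : p ≠ 2) (hR : IsPGroup p R) (hrk : Cfsg.PRankLE p 2 R) (q : ℕ) (hq : q.Prime) (hqp : q ≠ p) (hdvd : q ∣ Nat.card (MulAut R)) : q ∣ p ^ 2 - 1 ∧ q < p := by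
  have hp2 := (Fact.out : p.Prime).two_le
  have hodd : Odd p := (Fact.out : p.Prime).odd_of_ne_two hp
  have e : p ^ 2 - 1 = (p + 1) * (p - 1) := by rw [← Nat.sq_sub_sq, one_pow]
  by_cases hq1 : q ∣ p - 1
  · exact ⟨e ▸ dvd_mul_of_dvd_right hq1 _, by
      have := Nat.le_of_dvd (by omega) hq1
      omega⟩
  haveI := Fact.mk hq
  obtain ⟨φ, hφ⟩ := exists_prime_orderOf_dvd_card' q hdvd
  let Γ := R ⋊[MonoidHom.id (MulAut R)] MulAut R
  haveI : Finite Γ := Finite.of_equiv _ SemidirectProduct.equivProd.symm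
  let inl : R →* Γ := SemidirectProduct.inl
  have hinl : Function.Injective inl := SemidirectProduct.inl_injective
  let T : Subgroup Γ := inl.range
  have hT : IsPGroup p T := hR.of_surjective inl.rangeRestrict inl.rangeRestrict_surjective
  have hTr : Cfsg.PRankLE p 2 T := by
    intro A hA hAp
    let eT : R ≃* T := MonoidHom.ofInjective hinl
    have h := hrk (A.map eT.symm.toMonoidHom) ⟨⟨fun x y => by
      obtain ⟨a, ha, ea⟩ := x.2
      obtain ⟨b, hb, eb⟩ := y.2
      apply Subtype.ext
      rw [Subgroup.coe_mul, Subgroup.coe_mul, ← ea, ← eb, ← map_mul, ← map_mul]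
      exact congrArg _ (congrArg Subtype.val (hA.is_comm.comm ⟨a, ha⟩ ⟨b, hb⟩))⟩⟩
      (by rintro _ ⟨a, ha, rfl⟩; rw [← map_pow, hAp a ha, map_one])
    rwa [Subgroup.card_map_of_injective eT.symm.injective] at h
  let a : Γ := SemidirectProduct.inr φ
  have hao : orderOf a = q := by
    rw [show a = (SemidirectProduct.inr : MulAut R →* Γ) φ from rfl,
      orderOf_injective _ SemidirectProduct.inr_injective, hφ]
  have hac : a ∉ Subgroup.centralizer (T : Set Γ) := by
    intro h
    have hφ1 : φ = 1 := MulEquiv.ext fun r => hinl (by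
      show SemidirectProduct.inl ((MonoidHom.id (MulAut R)) φ r) = inl r
      rw [SemidirectProduct.inl_aut, ← Subgroup.mem_centralizer_iff.mp h (inl r) ⟨r, rfl⟩]
      show inl r * a * _ = _
      rw [map_inv]
      exact mul_inv_cancel_right _ _)
    rw [hφ1, orderOf_one] at hφ
    exact hq.ne_one hφ.symm
  have ha : a ∈ Subgroup.normalizer (T : Set Γ) :=
    haveI : T.Normal := by
      rw [show T = inl.range from rfl, show inl.range = _ from SemidirectProduct.range_inl_eq_ker_rightHom]
      infer_instance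
    Subgroup.normalizer_eq_top_iff.mpr this ▸ Subgroup.mem_top a
  have hd := Agent.OddLocal.prime_dvd_succ hp hT hTr hq hqp hq1 ha hao hac
  refine ⟨e ▸ dvd_mul_of_dvd_left hd _, ?_⟩
  obtain ⟨m, hm⟩ := hd
  rcases Nat.lt_or_ge m 2 with hm2 | hm2
  · obtain ⟨k, hk⟩ := hodd
    obtain rfl : m = 1 := by
      rcases Nat.eq_zero_or_pos m with h0 | h0
      · rw [h0, mul_zero] at hm; omega
      · omega
    rcases hq.eq_two_or_odd with h2 | h2 <;> omega
  · have : q * 2 ≤ p + 1 := hm ▸ Nat.mul_le_mul_left q hm2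
    omega

end Cfsg.Agent.S0640
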