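import Cfsg.Statements.S0641
import Cfsg.Agent.Lib.Transfer.ClassTwo

set_option autoImplicit false
open Cfsg

namespace Cfsg.Agent.S0641

open Subgroup Cfsg.Agent.Transfer
open scoped commutatorElement Pointwise


/-- Regularity of a p-group passes to quotient groups. -/
theorem result {G : Type*} [Group G] {p : ℕ} [Fact p.Prime] (hG : Cfsg.IsRegularPGroup p G) (N : Subgroup G) [N.Normal] : Cfsg.IsRegularPGroup p (G ⧸ N) := by
  refine ⟨hG.1.to_quotient N, fun a b n => ?_⟩
  obtain ⟨a, rfl⟩ := QuotientGroup.mk'_surjective N a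
  obtain ⟨b, rfl⟩ := QuotientGroup.mk'_surjective N b
  obtain ⟨c, hc, he⟩ := hG.2 a b n
  refine ⟨QuotientGroup.mk' N c, ?_, ?_⟩
  · have h := mem_map_of_mem (QuotientGroup.mk' N) hc
    rw [Cfsg.powerClosure, MonoidHom.map_closure] at h
    refine closure_mono ?_ h
    rintro _ ⟨_, ⟨x, hx, rfl⟩, rfl⟩
    refine ⟨QuotientGroup.mk' N x, ?_, map_pow _ _ _⟩
    have h2 := mem_map_of_mem (QuotientGroup.mk' N) hx
    rw [map_commutator, MonoidHom.map_closure, Set.image_pair] at h2
    exact h2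
  · rw [← map_mul, ← map_pow, he, map_mul, map_mul, map_pow, map_pow]

end Cfsg.Agent.S0641
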