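import Cfsg.Statements.S0642
import Cfsg.Agent.Lib.Transfer.ClassTwo
import Cfsg.Agent.Lib.FGB.PGroupBasic

set_option autoImplicit false
open Cfsg

namespace Cfsg.Agent.S0642

open Subgroup Cfsg.Agent.Transfer
open scoped commutatorElement Pointwise


/-- Among finite 2-groups the regular ones are exactly the abelian ones. -/
theorem result {G : Type*} [Group G] [Finite G] (hG : IsPGroup 2 G) : Cfsg.IsRegularPGroup 2 G ↔ ∀ a b : G, a * b = b * a := by
  haveI : Fact (Nat.Prime 2) := ⟨Nat.prime_two⟩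
  refine ⟨fun hreg a b => ?_, fun h => ⟨hG, fun a b n => ⟨1, one_mem _, by
    rw [mul_one]; exact Commute.mul_pow (h a b) _⟩⟩⟩
  set D := closure ({a, b} : Set G) with hD
  set K := ⁅D, D⁆ with hK
  have haD : a ∈ D := subset_closure (Set.mem_insert a {b})
  have hbD : b ∈ D := subset_closure (Set.mem_insert_of_mem a rfl)
  obtain ⟨c, hc, he⟩ := hreg.2 a b 1
  have hnm : ∀ d ∈ D, ∀ x ∈ Cfsg.powerClosure 2 1 K, d * x * d⁻¹ ∈ Cfsg.powerClosure 2 1 K := by
    intro d hd x hx
    induction hx using Subgroup.closure_induction with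
    | mem y hy =>
      obtain ⟨z, hz, rfl⟩ := hy
      exact subset_closure ⟨d * z * d⁻¹, (mem_normalizer_iff.mp
        ((normalizer_commutator_ge_left D D) hd) z).mp hz, conj_pow.symm⟩
    | one => simp
    | mul y z _ _ iy iz => simpa [mul_assoc] using mul_mem iy iz
    | inv y _ iy => simpa [mul_assoc] using inv_mem iy
  rw [pow_one, pow_two, pow_two, pow_two] at he
  have hba : ⁅b, a⁆ ∈ Cfsg.powerClosure 2 1 K := by
    have h1 : a * (b * a * b) = a * (a * (b * b) * c) := by
      calc a * (b * a * b) = a * b * (a * b) := by group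
        _ = _ := by rw [he]; group
    have h2 : b * a * b⁻¹ * a⁻¹ = a * b * b * c * b⁻¹ * b⁻¹ * a⁻¹ := by
      have h3 := mul_left_cancel h1
      calc b * a * b⁻¹ * a⁻¹ = (b * a * b) * b⁻¹ * b⁻¹ * a⁻¹ := by group
        _ = _ := by rw [h3]; group
    rw [commutatorElement_def, h2]
    have h4 := hnm (a * b * b) (mul_mem (mul_mem haD hbD) hbD) c hc
    simpa [mul_assoc] using h4
  have hKpow : K ≤ Cfsg.powerClosure 2 1 K := by
    let M := (Cfsg.powerClosure 2 1 K).subgroupOf D
    haveI : M.Normal := ⟨fun m hm d => hnm d d.2 _ hm⟩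
    let qa : D ⧸ M := QuotientGroup.mk ⟨a, haD⟩
    let qb : D ⧸ M := QuotientGroup.mk ⟨b, hbD⟩
    have hgen : (⊤ : Subgroup (D ⧸ M)) = closure {qa, qb} := by
      rw [← map_top_of_surjective (QuotientGroup.mk' M) (QuotientGroup.mk'_surjective M),
        ← closure_closure_coe_preimage (k := ({a, b} : Set G)), MonoidHom.map_closure]
      congr 1
      ext z
      constructor
      · rintro ⟨w, hw, rfl⟩
        rcases hw with hw | hw
        · exact Or.inl (congrArg QuotientGroup.mk (Subtype.ext hw))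
        · exact Or.inr (congrArg QuotientGroup.mk (Subtype.ext hw))
      · rintro (rfl | rfl)
        · exact ⟨⟨a, haD⟩, Or.inl rfl, rfl⟩
        · exact ⟨⟨b, hbD⟩, Or.inr rfl, rfl⟩
    have hab : Commute qb qa := by
      rw [← commutatorElement_eq_one_iff_commute]
      exact (QuotientGroup.eq_one_iff (N := M) ⁅(⟨b, hbD⟩ : D), ⟨a, haD⟩⁆).mpr hba
    have hle : closure {qa, qb} ≤ centralizer (closure {qa, qb} : Set (D ⧸ M)) := by
      rw [closure_le]
      intro u hu
      show u ∈ centralizer (closure {qa, qb} : Set (D ⧸ M))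
      rw [centralizer_closure]
      intro v hv
      rcases hu with rfl | rfl <;> rcases hv with rfl | rfl
      · rfl
      · exact hab
      · exact hab.symm
      · rfl
    rw [hK, commutator_le]
    intro x hx y hy
    have h5 : Commute (QuotientGroup.mk (⟨x, hx⟩ : D) : D ⧸ M) (QuotientGroup.mk ⟨y, hy⟩) :=
      (hle (hgen ▸ mem_top _) _ (hgen ▸ mem_top _)).symm
    exact (QuotientGroup.eq_one_iff (N := M) ⁅(⟨x, hx⟩ : D), ⟨y, hy⟩⁆).mp
      (commutatorElement_eq_one_iff_commute.mpr h5)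
  have hfr : (⊤ : Subgroup K) ≤ frattini K := by
    intro x _
    have h1 : Cfsg.powerClosure 2 1 K ≤ (frattini K).map K.subtype := by
      rw [Cfsg.powerClosure, closure_le]
      rintro _ ⟨z, hz, rfl⟩
      exact ⟨⟨z, hz⟩ ^ 2, Cfsg.Agent.FGB.pow_mem_frattini (hG.to_subgroup K) _, by simp⟩
    obtain ⟨w, hw, hwe⟩ := h1 (hKpow x.2)
    exact (Subtype.ext hwe : w = x) ▸ hw
  have hbot : K = ⊥ := by
    have h1 : (⊥ : Subgroup K) = ⊤ := by
      refine frattini_nongenerating ?_
      rw [bot_sup_eq]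
      exact top_le_iff.mp hfr
    refine (Subgroup.eq_bot_iff_forall K).mpr fun y hy => ?_
    have h2 : (⟨y, hy⟩ : K) ∈ (⊥ : Subgroup K) := h1 ▸ mem_top _
    exact congrArg Subtype.val (mem_bot.mp h2)
  have h1 : ⁅a, b⁆ ∈ K := commutator_mem_commutator haD hbD
  rw [hbot, mem_bot] at h1
  exact commutatorElement_eq_one_iff_commute.mp h1

end Cfsg.Agent.S0642
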