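import Cfsg.Statements.S0645
import Cfsg.Agent.Lib.Invol.OddPSmall
-- import your own Cfsg.Agent.* helpers here

set_option autoImplicit false
open Cfsg

namespace Cfsg.Agent.S0645

/-- Classification of p-groups with a cyclic maximal subgroup, odd p: a non-abelian one of order p^n has generators a of order p^(n-1) and b of order p, b outside the cyclic subgroup generated by a, with b a b⁻¹ = a^(1 + p^(n-2)). -/
theorem result {G : Type*} [Group G] [Finite G] {p : ℕ} [Fact p.Prime] (hp : p ≠ 2) (n : ℕ) (hn : 3 ≤ n) (hG : Nat.card G = p ^ n) (C : Subgroup G) (hC : IsCyclic C) (hCi : C.index = p) (hna : ∃ x y : G, x * y ≠ y * x) : ∃ a b : G, orderOf a = p ^ (n - 1) ∧ orderOf b = p ∧ b ∉ Subgroup.zpowers a ∧ b * a * b⁻¹ = a ^ (1 + p ^ (n - 2)) := by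
  have hpp := (Fact.out : p.Prime)
  have hGp : IsPGroup p G := IsPGroup.of_card hG
  haveI := hC
  haveI hCn : C.Normal := Subgroup.normal_of_index_eq_minFac_card (by
    rw [hCi, hG, hpp.pow_minFac (by omega)])
  have hnc : ¬ IsCyclic G := fun h => by
    haveI := h
    obtain ⟨x, y, hxy⟩ := hna
    exact hxy ((IsCyclic.commGroup (α := G)).mul_comm x y)
  obtain ⟨E, hEab, hEc, hE⟩ := Cfsg.Agent.Invol.OddPSmall.cyclic_index_prime hp hGp hnc C hCi
  have hCc : Nat.card C = p ^ (n - 1) := by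
    refine Nat.eq_of_mul_eq_mul_right hpp.pos ?_
    have := C.card_mul_index
    rw [hCi, hG] at this
    rw [this, ← pow_succ]; congr 1; omega
  obtain ⟨a, ha⟩ := (Subgroup.isCyclic_iff_exists_zpowers_eq_top C).1 hC
  have hoa : orderOf a = p ^ (n - 1) := by rw [← Nat.card_zpowers, ha, hCc]
  have haC : a ∈ C := ha ▸ Subgroup.mem_zpowers a
  obtain ⟨b, hbE, hbC⟩ : ∃ b ∈ E, b ∉ C := by
    by_contra h
    push Not at h
    haveI : IsCyclic E := isCyclic_of_injective (Subgroup.inclusion h) (Subgroup.inclusion_injective h)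
    obtain ⟨g, hg⟩ := IsCyclic.exists_ofOrder_eq_natCard (α := E)
    have := orderOf_dvd_of_pow_eq_one (show g ^ p = 1 from Subtype.ext ((hE g).2 g.2))
    rw [hg, hEc] at this
    have := Nat.le_of_dvd hpp.pos this
    nlinarith [hpp.two_le]
  set w := b * a * b⁻¹ * a⁻¹ with hwdef
  have hwC : w ∈ C := mul_mem (hCn.conj_mem a haC b) (inv_mem haC)
  have hwE : w ∈ E := by
    have hconj : a * b⁻¹ * a⁻¹ ∈ E := (hE _).1 (by
      rw [conj_pow, inv_pow, (hE b).2 hbE, inv_one, mul_one, mul_inv_cancel])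
    have := mul_mem hbE hconj
    rwa [← mul_assoc, ← mul_assoc] at this
  have hw1 : w ≠ 1 := by
    intro hw
    obtain ⟨x, y, hxy⟩ := hna
    have hba : Commute b a := mul_inv_eq_iff_eq_mul.1 (mul_inv_eq_one.1 hw)
    have htop : Subgroup.closure ({a, b} : Set G) = ⊤ := by
      have hle : C ≤ Subgroup.closure ({a, b} : Set G) :=
        ha ▸ Subgroup.zpowers_le.2 (Subgroup.subset_closure (Or.inl rfl))
      rcases (Nat.dvd_prime hpp).1 (hCi ▸ Subgroup.index_dvd_of_le hle) with h | h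
      · exact Subgroup.index_eq_one.1 h
      · exfalso
        have h1 := Subgroup.relIndex_mul_index hle
        rw [hCi, h] at h1
        exact hbC ((Subgroup.relIndex_eq_one.1 ((mul_eq_right₀ hpp.pos.ne').1 h1))
          (Subgroup.subset_closure (Or.inr rfl)))
    haveI := Subgroup.isMulCommutative_closure (k := ({a, b} : Set G)) (by
      rintro u (rfl | rfl) v (rfl | rfl)
      · rfl
      · exact hba.eq.symm
      · exact hba.eq
      · rfl)
    exact hxy (congrArg Subtype.val (‹IsMulCommutative (Subgroup.closure ({a, b} : Set G))›.is_comm.comm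
      ⟨x, htop ▸ Subgroup.mem_top x⟩ ⟨y, htop ▸ Subgroup.mem_top y⟩))
  have how : orderOf w = p := orderOf_eq_prime ((hE w).2 hwE) hw1
  -- the elements of order dividing `p` of `C` are the powers of `w`
  obtain ⟨j, hj⟩ : ∃ j : ℕ, w ^ j = a ^ p ^ (n - 2) := by
    have hz : (a ^ p ^ (n - 2)) ∈ C := pow_mem haC _
    have hzp : (a ^ p ^ (n - 2)) ^ p = 1 := by
      rw [← pow_mul, ← pow_succ, show n - 2 + 1 = n - 1 by omega, ← hoa, pow_orderOf_eq_one]
    have hle : Subgroup.zpowers w ≤ C ⊓ E := Subgroup.zpowers_le.2 ⟨hwC, hwE⟩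
    have hlt : C ⊓ E < E := lt_of_le_of_ne inf_le_right fun e => hbC (Subgroup.mem_inf.1 (e.symm ▸ hbE : b ∈ C ⊓ E)).1
    have heq : Subgroup.zpowers w = C ⊓ E := Subgroup.eq_of_le_of_card_ge hle (by
      rw [Nat.card_zpowers, how]
      obtain ⟨i, hi⟩ := IsPGroup.iff_card.1 (hGp.to_subgroup (C ⊓ E))
      have h1 := Cfsg.Agent.Basics.card_lt_of_lt hlt
      rw [hi, hEc, Nat.pow_lt_pow_iff_right hpp.one_lt] at h1
      rw [hi]
      calc p ^ i ≤ p ^ 1 := Nat.pow_le_pow_right hpp.pos (by omega)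
        _ = p := pow_one p)
    have : a ^ p ^ (n - 2) ∈ Subgroup.zpowers w := heq.symm ▸ ⟨hz, (hE _).1 hzp⟩
    exact (isOfFinOrder_of_finite w).mem_powers_iff_mem_zpowers.2 this
  have hjp : ¬ p ∣ j := by
    rintro ⟨k, rfl⟩
    rw [pow_mul, show w ^ p = 1 from (hE w).2 hwE, one_pow] at hj
    have := orderOf_dvd_of_pow_eq_one hj.symm
    rw [hoa, Nat.pow_dvd_pow_iff_le_right hpp.one_lt] at this
    omega
  have hbw : Commute b w := congrArg Subtype.val (hEab.is_comm.comm ⟨b, hbE⟩ ⟨w, hwE⟩)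
  have hob : orderOf b = p := orderOf_eq_prime ((hE b).2 hbE) fun h => hbC (h ▸ one_mem C)
  have hco : (orderOf b).Coprime j := hob.symm ▸ (hpp.coprime_iff_not_dvd.2 hjp)
  refine ⟨a, b ^ j, hoa, ?_, ?_, ?_⟩
  · rw [hco.orderOf_pow, hob]
  · intro h
    obtain ⟨k, hk⟩ := exists_pow_eq_self_of_coprime hco.symm
    exact hbC (ha ▸ (hk ▸ pow_mem h k))
  · have h1 := Cfsg.Agent.Transfer.commutator_pow_left (x := b) (y := a) hbw j
    rw [commutatorElement_def, commutatorElement_def, hj] at h1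
    rw [pow_add, pow_one, mul_inv_eq_iff_eq_mul.1 h1]
    exact ((Commute.refl a).pow_left _).eq

end Cfsg.Agent.S0645
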