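import Cfsg.Statements.S0646
-- import your own Cfsg.Agent.* helpers here

set_option autoImplicit false
open Cfsg

namespace Cfsg.Agent.S0646

open Subgroup

/-- Classification of non-abelian 2-groups with a cyclic maximal subgroup: dihedral, generalized quaternion, and for order at least 16 the modular group and the semidihedral group, each given by generators a (of index 2) and b with the stated relations. -/
theorem result {G : Type*} [Group G] [Finite G] (n : ℕ) (hn : 3 ≤ n) (hG : Nat.card G = 2 ^ n) (C : Subgroup G) (hC : IsCyclic C) (hCi : C.index = 2) (hna : ∃ x y : G, x * y ≠ y * x) : ∃ a b : G, orderOf a = 2 ^ (n - 1) ∧ b ∉ Subgroup.zpowers a ∧ ((b ^ 2 = 1 ∧ b * a * b⁻¹ = a⁻¹) ∨ (b ^ 2 = a ^ (2 ^ (n - 2)) ∧ b * a * b⁻¹ = a⁻¹) ∨ (4 ≤ n ∧ b ^ 2 = 1 ∧ b * a * b⁻¹ = a ^ (1 + 2 ^ (n - 2))) ∨ (4 ≤ n ∧ b ^ 2 = 1 ∧ b * a * b⁻¹ = a ^ (2 ^ (n - 2) - 1))) := by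
  obtain ⟨a, ha⟩ := Subgroup.isCyclic_iff_exists_zpowers_eq_top C |>.1 hC
  subst ha
  obtain ⟨m, rfl⟩ : ∃ m, n = m + 3 := ⟨n - 3, by omega⟩
  have hord : orderOf a = 2 ^ (m + 2) := by
    have h1 := card_mul_index (zpowers a)
    rw [Nat.card_zpowers, hCi, hG, pow_succ] at h1
    omega
  obtain ⟨y, hy⟩ : ∃ y, y ∉ zpowers a := by
    by_contra h
    push Not at h
    rw [(eq_top_iff' (zpowers a)).2 h, index_top] at hCi
    omega
  have hN := normal_of_index_eq_two hCi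
  obtain ⟨r, hr0⟩ := hN.conj_mem a (mem_zpowers a) y
  have hr : y * a * y⁻¹ = a ^ r := hr0.symm
  obtain ⟨j, hj0⟩ := mul_self_mem_of_index_two hCi y
  have hj : y * y = a ^ j := hj0.symm
  have hz : ∀ i k : ℤ, a ^ i = a ^ k ↔ (4 : ℤ) * 2 ^ m ∣ i - k := by
    intro i k
    rw [← orderOf_dvd_sub_iff_zpow_eq_zpow, hord]
    push_cast
    rw [pow_add, mul_comm ((2 : ℤ) ^ m)]
    norm_num
  -- `r * r ≡ 1` and `j * r ≡ j`
  have hrr : (4 : ℤ) * 2 ^ m ∣ r * r - 1 := by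
    rw [← hz, zpow_one, zpow_mul, ← hr, conj_zpow, ← hr,
      show y * (y * a * y⁻¹) * y⁻¹ = (y * y) * a * (y * y)⁻¹ by group, hj,
      ((Commute.refl a).zpow_left j).eq, mul_inv_cancel_right]
  have hjr : (4 : ℤ) * 2 ^ m ∣ r * j - j := by
    rw [← hz, zpow_mul, ← hr, conj_zpow, ← hj]
    group
  have hr1 : ¬ (4 : ℤ) * 2 ^ m ∣ r - 1 := by
    intro h
    rw [← hz, zpow_one, ← hr, mul_inv_eq_iff_eq_mul] at h
    obtain ⟨u, v, huv⟩ := hna
    have hgen : ∀ g : G, ∃ i : ℤ, g = a ^ i ∨ g = a ^ i * y := by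
      intro g
      by_cases hg : g ∈ zpowers a
      · obtain ⟨i, rfl⟩ := hg; exact ⟨i, Or.inl rfl⟩
      · obtain ⟨i, hi⟩ : g * y⁻¹ ∈ zpowers a :=
          (mul_mem_iff_of_index_two hCi).2 (iff_of_false hg fun h => hy (by simpa using inv_mem h))
        exact ⟨i, Or.inr (by rw [show a ^ i = g * y⁻¹ from hi, inv_mul_cancel_right])⟩
    have hcy : Commute y a := h
    obtain ⟨i, hi | hi⟩ := hgen u <;> obtain ⟨k, hk | hk⟩ := hgen v <;> subst hi hk <;> refine huv ?_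
    · exact ((Commute.refl a).zpow_zpow i k).eq
    · exact (((Commute.refl a).zpow_zpow i k).mul_right (hcy.symm.zpow_left i)).eq
    · exact (((Commute.refl a).zpow_zpow i k).mul_left (hcy.zpow_right k)).eq
    · exact ((((Commute.refl a).zpow_zpow i k).mul_right (hcy.symm.zpow_left i)).mul_left
        ((hcy.zpow_right k).mul_right (Commute.refl y))).eq
  obtain ⟨s, hs⟩ : ∃ s, r = 2 * s + 1 := by
    refine ⟨r / 2, ?_⟩
    by_contra hne
    obtain ⟨q, hq⟩ : (2 : ℤ) ∣ r := by omega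
    obtain ⟨l, hl⟩ := hrr
    have : (2 : ℤ) ∣ 1 := ⟨r * q - 2 * 2 ^ m * l, by linear_combination r * hq - hl⟩
    norm_num at this
  have h2m : ((2 : ℤ) ^ m) ∣ s * (s + 1) := by
    obtain ⟨l, hl⟩ := hrr
    exact ⟨l, by rw [hs] at hl; linarith⟩
  rw [show m + 3 - 1 = m + 2 by omega, show m + 3 - 2 = m + 1 by omega]
  -- changing `y` to `y * a ^ i`
  have hyi : ∀ i : ℤ, y * a ^ i ∉ zpowers a ∧ (y * a ^ i) * a * (y * a ^ i)⁻¹ = a ^ r ∧
      (y * a ^ i) * (y * a ^ i) = a ^ (r * i + j + i) := by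
    intro i
    refine ⟨fun h => hy (by simpa using mul_mem h (zpow_mem (mem_zpowers a) (-i))), ?_, ?_⟩
    · rw [← hr]; group
    · calc y * a ^ i * (y * a ^ i) = (y * a * y⁻¹) ^ i * (y * y) * a ^ i := by rw [conj_zpow]; group
        _ = a ^ (r * i + j + i) := by rw [hr, hj, ← zpow_mul, ← _root_.zpow_add, ← _root_.zpow_add]
  rcases Int.even_or_odd' s with ⟨c, hc | hc⟩
  · -- `r ≡ 1 (mod 4)`: the modular case
    rcases Nat.eq_zero_or_pos m with rfl | hm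
    · exfalso
      exact hr1 ⟨c, by rw [hs, hc]; ring⟩
    have hcd : (2 : ℤ) ^ (m - 1) ∣ c := by
      have h1 : (2 : ℤ) * 2 ^ (m - 1) ∣ 2 * (c * (2 * c + 1)) := by
        rw [← pow_succ', show m - 1 + 1 = m by omega, show 2 * (c * (2 * c + 1)) = s * (s + 1) by rw [hc]; ring]
        exact h2m
      have hcop : IsCoprime ((2 : ℤ) ^ (m - 1)) (2 * c + 1) := IsCoprime.pow_left ⟨-c, 1, by ring⟩
      exact hcop.dvd_of_dvd_mul_right (Int.dvd_of_mul_dvd_mul_left two_ne_zero h1)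
    have h2 : (2 : ℤ) ^ m = 2 * 2 ^ (m - 1) := by rw [← pow_succ']; congr 1; omega
    obtain ⟨d, hd⟩ := hcd
    rcases Int.even_or_odd' d with ⟨d', hd' | hd'⟩
    · exfalso
      exact hr1 ⟨d', by rw [hs, hc, hd, hd', h2]; ring⟩
    have hrel : a ^ r = a ^ (1 + 2 ^ (m + 1)) := by
      rw [← zpow_natCast, hz]
      exact ⟨d', by push_cast; rw [hs, hc, hd, hd', pow_succ, h2]; ring⟩
    obtain ⟨k, hk⟩ : (2 : ℤ) ∣ j := by
      obtain ⟨l, hl⟩ := hjr
      have h1 : (2 : ℤ) ^ (m - 1) * (j * (2 * d' + 1)) = 2 ^ (m - 1) * (2 * l) := by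
        rw [hs, hc, hd, hd', h2] at hl
        linarith
      have h3 := mul_left_cancel₀ (pow_ne_zero _ two_ne_zero) h1
      exact ⟨l - j * d', by linarith⟩
    obtain ⟨h1i, h2i, h3i⟩ := hyi (-k * (1 - (2 : ℤ) ^ m))
    refine ⟨a, _, hord, h1i, Or.inr (Or.inr (Or.inl ⟨by omega, ?_, h2i.trans hrel⟩))⟩
    rw [pow_two, h3i, ← zpow_zero a, hz]
    refine ⟨k * 2 ^ (m - 1) - k * d' * (1 - 2 ^ m), ?_⟩
    rw [hk, hs, hc, hd, hd', h2]; ring
  · -- `r ≡ 3 (mod 4)`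
    obtain ⟨e, he⟩ : (2 : ℤ) ^ m ∣ 2 * (c + 1) := by
      have hcop : IsCoprime ((2 : ℤ) ^ m) (2 * c + 1) := IsCoprime.pow_left ⟨-c, 1, by ring⟩
      refine hcop.dvd_of_dvd_mul_left ?_
      rw [show (2 * c + 1) * (2 * (c + 1)) = s * (s + 1) by rw [hc]; ring]
      exact h2m
    obtain ⟨f, hf⟩ : (2 : ℤ) * 2 ^ m ∣ j := by
      obtain ⟨l, hl⟩ := hjr
      have h1 : (2 : ℤ) * 2 ^ m ∣ j * (2 * c + 1) := ⟨l, by rw [hs, hc] at hl; linarith⟩
      have hcop : IsCoprime ((2 : ℤ) * 2 ^ m) (2 * c + 1) := by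
        rw [← pow_succ']; exact IsCoprime.pow_left ⟨-c, 1, by ring⟩
      exact hcop.dvd_of_dvd_mul_right h1
    have h2 : (((2 ^ (m + 1) : ℕ)) : ℤ) = 2 * 2 ^ m := by push_cast; rw [pow_succ']
    rcases Int.even_or_odd' e with ⟨e', he' | he'⟩
    · have hrel : y * a * y⁻¹ = a⁻¹ := by
        rw [hr, ← zpow_neg_one, hz]
        exact ⟨e', by linear_combination hs + 2 * hc + 2 * he + (2 : ℤ) ^ m * 2 * he'⟩
      rcases Int.even_or_odd' f with ⟨f', hf' | hf'⟩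
      · refine ⟨a, y, hord, hy, Or.inl ⟨?_, hrel⟩⟩
        rw [pow_two, hj, ← zpow_zero a, hz]
        exact ⟨f', by rw [hf, hf']; ring⟩
      · refine ⟨a, y, hord, hy, Or.inr (Or.inl ⟨?_, hrel⟩)⟩
        rw [pow_two, hj, ← zpow_natCast, hz, h2]
        exact ⟨f', by rw [hf, hf']; ring⟩
    · have hm1 : 1 ≤ m := by
        by_contra h
        have h0 : m = 0 := by omega
        rw [h0, pow_zero, one_mul] at he
        omega
      have hrel : a ^ r = a ^ (2 ^ (m + 1) - 1) := by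
        rw [← zpow_natCast, hz, Nat.cast_sub Nat.one_le_two_pow, h2]
        exact ⟨e', by push_cast; linear_combination hs + 2 * hc + 2 * he + (2 : ℤ) ^ m * 2 * he'⟩
      rcases Int.even_or_odd' f with ⟨f', hf' | hf'⟩
      · refine ⟨a, y, hord, hy, Or.inr (Or.inr (Or.inr ⟨by omega, ?_, hr.trans hrel⟩))⟩
        rw [pow_two, hj, ← zpow_zero a, hz]
        exact ⟨f', by rw [hf, hf']; ring⟩
      · obtain ⟨h1i, h2i, h3i⟩ := hyi 1
        refine ⟨a, _, hord, h1i, Or.inr (Or.inr (Or.inr ⟨by omega, ?_, h2i.trans hrel⟩))⟩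
        rw [pow_two, h3i, ← zpow_zero a, hz]
        exact ⟨e' + f' + 1, by
          linear_combination hs + 2 * hc + 2 * he + (2 : ℤ) ^ m * 2 * he' + hf + 2 * (2 : ℤ) ^ m * hf'⟩

end Cfsg.Agent.S0646
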