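import Cfsg.Statements.S0647
import Cfsg.Agent.Lib.Transfer.JSubgroup

set_option autoImplicit false
open Cfsg

namespace Cfsg.Agent.S0647

open Subgroup Cfsg.Agent.Transfer
open scoped commutatorElement Pointwise


/-- For a nonempty family of maximal abelian subgroups of a finite group, the intersection of the family is the centre of the subgroup it generates, which is also the full centralizer of that subgroup. -/
theorem result {S : Type*} [Group S] [Finite S] (𝒜 : Set (Subgroup S)) (hne : 𝒜.Nonempty) (hab : ∀ A ∈ 𝒜, IsMulCommutative A) (hmax : ∀ A ∈ 𝒜, ∀ B : Subgroup S, IsMulCommutative B → A ≤ B → B = A) : sInf 𝒜 = sSup 𝒜 ⊓ Subgroup.centralizer ((sSup 𝒜 : Subgroup S) : Set S) ∧ sInf 𝒜 = Subgroup.centralizer ((sSup 𝒜 : Subgroup S) : Set S) := by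
  have h1 : centralizer ((sSup 𝒜 : Subgroup S) : Set S) ≤ sInf 𝒜 := by
    refine le_sInf fun A hA x hx => ?_
    haveI := hab A hA
    have hc : A ≤ centralizer (zpowers x : Set S) := by
      intro a ha z hz
      obtain ⟨i, rfl⟩ := mem_zpowers_iff.mp hz
      exact ((show Commute a x from hx a (le_sSup hA ha)).symm.zpow_left i).eq
    have hcomm : IsMulCommutative (A ⊔ zpowers x : Subgroup S) := by
      have hle : A ⊔ zpowers x ≤ centralizer ((A ⊔ zpowers x : Subgroup S) : Set S) := by
        have hA' : A ≤ centralizer (A : Set S) := fun a ha b hb =>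
          congrArg Subtype.val (mul_comm' (⟨b, hb⟩ : A) ⟨a, ha⟩)
        have hx' : zpowers x ≤ centralizer (zpowers x : Set S) := by
          intro a ha b hb
          exact congrArg Subtype.val (mul_comm' (⟨b, hb⟩ : zpowers x) ⟨a, ha⟩)
        refine sup_le ?_ ?_ <;> rw [le_centralizer_iff]
        · exact sup_le hA' (le_centralizer_iff.mp hc)
        · exact sup_le hc hx'
      exact ⟨⟨fun a b => Subtype.ext (hle b.2 a a.2)⟩⟩
    rw [← hmax A hA _ hcomm le_sup_left]
    exact mem_sup_right (mem_zpowers x)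
  have h2 : sInf 𝒜 ≤ centralizer ((sSup 𝒜 : Subgroup S) : Set S) := by
    rw [le_centralizer_iff]
    refine sSup_le fun A hA a ha x hx => ?_
    haveI := hab A hA
    exact congrArg Subtype.val (mul_comm' (⟨x, sInf_le hA hx⟩ : A) ⟨a, ha⟩)
  obtain ⟨A, hA⟩ := hne
  refine ⟨le_antisymm (le_inf ((sInf_le hA).trans (le_sSup hA)) h2) ?_, le_antisymm h2 h1⟩
  exact inf_le_right.trans h1

end Cfsg.Agent.S0647
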