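import Cfsg.Statements.S0651
import Cfsg.Agent.Lib.Transfer.Replacement
import Cfsg.Agent.Lib.Transfer.JSubgroup

set_option autoImplicit false
open Cfsg

namespace Cfsg.Agent.S0651

open Subgroup Cfsg.Agent.Transfer
open scoped commutatorElement Pointwise IsMulCommutative


/-- For odd p and D normal in the p-group S, the abelian subgroups of D of largest order satisfy the replacement property: a class-2 normal subgroup B of S with a member containing [B, B] but not B normalizes some such member. -/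
theorem result {S : Type*} [Group S] [Finite S] {p : ℕ} [Fact p.Prime] (hS : IsPGroup p S) (hp : p ≠ 2) (D : Subgroup S) [D.Normal] : ∀ (B : Subgroup S) [B.Normal], ⁅⁅B, B⁆, B⁆ = ⊥ → (∃ U ∈ (Set.image (fun A : Subgroup ↥D => A.map D.subtype) (Cfsg.maxAbelianSubgroups ↥D)), ⁅B, B⁆ ≤ U ∧ ¬ B ≤ U) → ∃ A ∈ (Set.image (fun A : Subgroup ↥D => A.map D.subtype) (Cfsg.maxAbelianSubgroups ↥D)), ⁅B, B⁆ ≤ A ∧ ¬ B ≤ A ∧ B ≤ Subgroup.normalizer (A : Set S) := by
  intro B _ hB2 hex
  have key : ∀ U : Subgroup S, U ∈ (Set.image (fun A : Subgroup ↥D => A.map D.subtype)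
      (Cfsg.maxAbelianSubgroups ↥D)) ↔ IsMaxAbIn 0 D U := by
    intro U
    constructor
    · rintro ⟨A, ⟨hA, hmax⟩, rfl⟩
      haveI := hA
      refine ⟨map_subtype_le A, ⟨inferInstance, fun a _ => pow_zero a⟩, fun C hC hCe => ?_⟩
      haveI := hCe.1
      have h := hmax (C.subgroupOf D)
        ⟨⟨fun a b => Subtype.ext (Subtype.ext (congrArg Subtype.val
          (mul_comm' (⟨_, a.2⟩ : C) ⟨_, b.2⟩) :))⟩⟩
      rwa [← card_map_of_injective D.subtype_injective, map_subgroupOf_eq_of_le hC,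
        ← card_map_of_injective (K := A) D.subtype_injective] at h
    · rintro ⟨hUD, ⟨hU, -⟩, hmax⟩
      refine ⟨U.subgroupOf D, ⟨⟨⟨fun a b => Subtype.ext (Subtype.ext (congrArg Subtype.val
        (mul_comm' (⟨_, a.2⟩ : U) ⟨_, b.2⟩) :))⟩⟩, fun C hC => ?_⟩, map_subgroupOf_eq_of_le hUD⟩
      haveI := hC
      have h := hmax (C.map D.subtype) (map_subtype_le C) ⟨inferInstance, fun a _ => pow_zero a⟩
      rwa [← card_map_of_injective D.subtype_injective, ← card_map_of_injective
        (K := U.subgroupOf D) D.subtype_injective, map_subgroupOf_eq_of_le hUD]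
  obtain ⟨U, hU, h1, h2⟩ := hex
  obtain ⟨A, hA, h3, h4, h5⟩ := exists_normalized_maxAb hS (e := 0) D B (fun h => absurd h hp)
    (Or.inl (Or.inl rfl)) ⟨U, (key U).mp hU, h1, h2⟩
  exact ⟨A, (key A).mpr hA, h3, h4, h5⟩

end Cfsg.Agent.S0651
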