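import Cfsg.Statements.S0652
import Cfsg.Agent.Lib.Transfer.Replacement
import Cfsg.Agent.Lib.Transfer.JSubgroup

set_option autoImplicit false
open Cfsg

namespace Cfsg.Agent.S0652

open Subgroup Cfsg.Agent.Transfer
open scoped commutatorElement Pointwise IsMulCommutative


/-- For odd p and D normal in the p-group S, the elementary abelian subgroups of D of largest order satisfy the replacement property for class-2 normal subgroups of S. -/
theorem result {S : Type*} [Group S] [Finite S] {p : ℕ} [Fact p.Prime] (hS : IsPGroup p S) (hp : p ≠ 2) (D : Subgroup S) [D.Normal] : ∀ (B : Subgroup S) [B.Normal], ⁅⁅B, B⁆, B⁆ = ⊥ → (∃ U ∈ (Set.image (fun A : Subgroup ↥D => A.map D.subtype) (Cfsg.maxElementaryAbelianSubgroups p ↥D)), ⁅B, B⁆ ≤ U ∧ ¬ B ≤ U) → ∃ A ∈ (Set.image (fun A : Subgroup ↥D => A.map D.subtype) (Cfsg.maxElementaryAbelianSubgroups p ↥D)), ⁅B, B⁆ ≤ A ∧ ¬ B ≤ A ∧ B ≤ Subgroup.normalizer (A : Set S) := by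
  intro B _ hB2 hex
  have key : ∀ U : Subgroup S, U ∈ (Set.image (fun A : Subgroup ↥D => A.map D.subtype)
      (Cfsg.maxElementaryAbelianSubgroups p ↥D)) ↔ IsMaxAbIn p D U := by
    intro U
    constructor
    · rintro ⟨A, hA, rfl⟩
      exact (mem_maxElementaryAbelianSubgroups_iff D A).mp hA
    · intro h
      refine ⟨U.subgroupOf D, (mem_maxElementaryAbelianSubgroups_iff D _).mpr ?_,
        map_subgroupOf_eq_of_le h.1⟩
      rw [map_subgroupOf_eq_of_le h.1]
      exact h
  obtain ⟨U, hU, h1, h2⟩ := hex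
  obtain ⟨A, hA, h3, h4, h5⟩ := exists_normalized_maxAb hS (e := p) D B (fun h => absurd h hp)
    (Or.inl (Or.inr ((Fact.out : p.Prime).odd_of_ne_two hp))) ⟨U, (key U).mp hU, h1, h2⟩
  exact ⟨A, (key A).mpr hA, h3, h4, h5⟩

end Cfsg.Agent.S0652
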