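import Cfsg.Statements.S0654
import Cfsg.Agent.Lib.Transfer.ZJ

set_option autoImplicit false
open Cfsg

namespace Cfsg.Agent.S0654

open Subgroup Cfsg.Agent.Transfer
open scoped commutatorElement Pointwise IsMulCommutative


/-- The ZJ-Theorem for the elementary-abelian Thompson subgroup: for an odd prime p, a finite group G with C_G(O_p(G)) ≤ O_p(G) acting p-stably on its normal p-subgroups, and a Sylow p-subgroup S of G, the subgroup generated by the elements of order dividing p in Z(J_e(S)) is characteristic in G. -/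
theorem result {G : Type*} [Group G] [Finite G] {p : ℕ} [Fact p.Prime] (hp : p ≠ 2) (hc : Subgroup.centralizer (Cfsg.pCore p G : Set G) ≤ Cfsg.pCore p G) (hst : ∀ (P : Subgroup G) [P.Normal], IsPGroup p P → Cfsg.IsPStableOn p P) (S : Sylow p G) : ((Cfsg.omegaCenterThompson p ↥(S : Subgroup G)).map (S : Subgroup G).subtype).Characteristic := by
  haveI := ZJAb_characteristic hp (Or.inr rfl) hc (pStableElts_of_forall hst) S
  have key : (Cfsg.omegaCenterThompson p ↥(S : Subgroup G)).map (S : Subgroup G).subtype =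
      Cfsg.omegaOne p (ZJAb p (S : Subgroup G)) := by
    rw [Cfsg.omegaCenterThompson, map_omegaOne _ (subtype_injective _), ZJAb_prime,
      Cfsg.centerThompsonOf, Cfsg.thompsonSubgroupOf]
    congr 1
    apply le_antisymm
    · rintro _ ⟨z, ⟨hz, hc'⟩, rfl⟩
      refine ⟨⟨z, hz, rfl⟩, ?_⟩
      rintro _ ⟨w, hw, rfl⟩
      exact congrArg Subtype.val (hc' w hw)
    · rintro _ ⟨⟨z, hz, rfl⟩, hc'⟩
      exact ⟨z, ⟨hz, fun w hw => Subtype.ext (hc' _ ⟨w, hw, rfl⟩)⟩, rfl⟩
  rw [key]
  refine characteristic_iff_map_eq.mpr fun φ => ?_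
  rw [map_omegaOne _ φ.injective, characteristic_iff_map_eq.mp inferInstance φ]

end Cfsg.Agent.S0654
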