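import Cfsg.Statements.S0655
import Cfsg.Agent.Lib.Transfer.JSubgroup

set_option autoImplicit false
open Cfsg

namespace Cfsg.Agent.S0655

open Subgroup Cfsg.Agent.Transfer
open scoped commutatorElement Pointwise IsMulCommutative


/-- In a p-group the intersection of all elementary abelian subgroups of largest order is the subgroup generated by the elements of order dividing p in the centre (equivalently the centralizer) of the elementary-version Thompson subgroup. -/
theorem result {S : Type*} [Group S] [Finite S] {p : ℕ} [Fact p.Prime] (hS : IsPGroup p S) : sInf (Cfsg.maxElementaryAbelianSubgroups p S) = Cfsg.omegaCenterThompson p S ∧ Cfsg.omegaCenterThompson p S = Cfsg.omegaOne p (Subgroup.centralizer (Cfsg.thompsonSubgroup p S : Set S)) := by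
  have key : ∀ x : S, x ∈ centralizer (Cfsg.thompsonSubgroup p S : Set S) → x ^ p = 1 →
      ∀ A ∈ Cfsg.maxElementaryAbelianSubgroups p S, x ∈ A := by
    intro x hx hxp A hA
    have hAJ : A ≤ Cfsg.thompsonSubgroup p S := le_sSup hA
    have hc : A ≤ centralizer (zpowers x : Set S) := by
      intro a ha z hz
      obtain ⟨i, rfl⟩ := mem_zpowers_iff.mp hz
      exact ((show Commute x a from (hx a (hAJ ha)).symm).zpow_left i).eq
    have h := hA.2 _ (ea_sup hA.1 (ea_zpowers hxp) hc)
    exact (eq_of_le_of_card_ge le_sup_left h).ge (mem_sup_right (mem_zpowers x))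
  obtain ⟨A0, hA0⟩ := exists_isMaxElemIn (p := p) (⊤ : Subgroup S)
  have hA0' := isMaxElemIn_top_iff.mp hA0
  have h1 : sInf (Cfsg.maxElementaryAbelianSubgroups p S) ≤ Cfsg.omegaCenterThompson p S := by
    intro x hx
    have hxA := mem_sInf.mp hx
    refine subset_closure ⟨⟨le_sSup hA0' (hxA A0 hA0'), ?_⟩, hA0.2.1.2 x (hxA A0 hA0')⟩
    show x ∈ centralizer (Cfsg.thompsonSubgroup p S : Set S)
    have h2 : Cfsg.thompsonSubgroup p S ≤ centralizer {x} := sSup_le fun A hA a ha =>
      mem_centralizer_singleton_iff.mpr (ea_commute hA.1 ha (hxA A hA))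
    exact fun y hy => mem_centralizer_singleton_iff.mp (h2 hy)
  have h2 : Cfsg.omegaCenterThompson p S ≤
      Cfsg.omegaOne p (centralizer (Cfsg.thompsonSubgroup p S : Set S)) :=
    closure_mono fun x hx => ⟨hx.1.2, hx.2⟩
  have h3 : Cfsg.omegaOne p (centralizer (Cfsg.thompsonSubgroup p S : Set S)) ≤
      sInf (Cfsg.maxElementaryAbelianSubgroups p S) :=
    (closure_le _).mpr fun x hx => mem_sInf.mpr (key x hx.1 hx.2)
  exact ⟨le_antisymm h1 (h2.trans h3), le_antisymm h2 (h3.trans h1)⟩

end Cfsg.Agent.S0655
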