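import Cfsg.Statements.S0656
import Cfsg.Agent.Lib.Transfer.QuadStable

set_option autoImplicit false
open Cfsg

namespace Cfsg.Agent.S0656

open Subgroup Cfsg.Agent.Transfer
open scoped commutatorElement Pointwise IsMulCommutative


/-- For odd p, a faithful group on an elementary abelian p-group with no nontrivial normal p-subgroup in which some nontrivial p-element acts quadratically has a section isomorphic to SL(2, p). -/
theorem result {G : Type*} [Group G] [Finite G] {p : ℕ} [Fact p.Prime] (hp : p ≠ 2) (V H : Subgroup G) (hV : Cfsg.IsElementaryAbelian p V) (hHV : H ≤ Subgroup.normalizer (V : Set G)) (hf : H ⊓ Subgroup.centralizer (V : Set G) = ⊥) (hO : Cfsg.pCore p ↥H = ⊥) (x : G) (hxH : x ∈ H) (hx1 : x ≠ 1) (hxp : ∃ k : ℕ, orderOf x = p ^ k) (hq : ⁅⁅V, Subgroup.zpowers x⁆, Subgroup.zpowers x⁆ = ⊥) : ∃ (K L : Subgroup G) (hL : (L.subgroupOf K).Normal), K ≤ H ∧ Nonempty ((K ⧸ L.subgroupOf K) ≃* Matrix.SpecialLinearGroup (Fin 2) (ZMod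 p)) := by
  haveI := hV.1
  have hn : ¬ OpMod p H (centralizer (V : Set G)) x := by
    rintro ⟨N, hNH, hHN, hxN, hpow⟩
    have hNp : IsPGroup p (N.subgroupOf H) := by
      rintro ⟨n, hn⟩
      obtain ⟨k, hk⟩ := hpow (n : G) hn
      have h1 : (n : G) ^ p ^ k ∈ H ⊓ centralizer (V : Set G) := ⟨pow_mem n.2 _, hk⟩
      rw [hf, mem_bot] at h1
      exact ⟨k, Subtype.ext (Subtype.ext (by simpa using h1))⟩
    haveI : (N.subgroupOf H).Normal := normal_subgroupOf_iff_le_normalizer hNH |>.mpr hHN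
    have h2 : (⟨x, hxH⟩ : H) ∈ Cfsg.pCore p ↥H := Cfsg.Agent.Basics.le_pCore hNp hxN
    rw [hO, mem_bot] at h2
    exact hx1 (congrArg Subtype.val h2)
  obtain ⟨u, hu, v, hv, e₁, -, e₂, -, h⟩ :=
    exists_natPair_of_ea hp hV hHV hxH ((quad_iff V x).mp hq) hn
  obtain ⟨L, hL, hiso⟩ := h.exists_section
  refine ⟨closure {u, v}, L, hL, (closure_le H).mpr ?_, hiso⟩
  rintro z (rfl | rfl)
  exacts [hu, hv]

end Cfsg.Agent.S0656
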