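import Cfsg.Statements.S0657
import Cfsg.Agent.Lib.SL2Dickson.Stability

set_option autoImplicit false
open Cfsg

namespace Cfsg.Agent.S0657

/-- For odd p, a group that fails to be p-stable modulo its largest normal subgroup of order prime to p, and whose upper p-series does not stop there, has a section isomorphic to SL(2, p). -/
theorem result {G : Type*} [Group G] [Finite G] {p : ℕ} [Fact p.Prime] (hp : p ≠ 2) (hO : Cfsg.pPrimeCore p G < Cfsg.pPrimePCore p G) (hns : ¬ Cfsg.IsPStable p (G ⧸ Cfsg.pPrimeCore p G)) : ∃ (K L : Subgroup G) (hL : (L.subgroupOf K).Normal), K ≤ ⊤ ∧ Nonempty ((K ⧸ L.subgroupOf K) ≃* Matrix.SpecialLinearGroup (Fin 2) (ZMod p)) := by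
  haveI : (Cfsg.pPrimeCore p G).Normal := inferInstance
  by_contra hcon
  apply hns
  refine ⟨(Fact.out : p.Prime).odd_of_ne_two hp, fun h0 => hO.ne' ?_, ?_⟩
  · rw [Cfsg.pPrimePCore, h0, MonoidHom.comap_bot, QuotientGroup.ker_mk']
  · rintro A P hA hP hAP - - hcom _ ⟨⟨a, haN⟩, ha, rfl⟩
    by_contra hbad
    have haA : a ∈ A := ha
    have hle : Subgroup.zpowers a ≤ A := Subgroup.zpowers_le.mpr haA
    obtain ⟨hI, -⟩ := Cfsg.Agent.SL2Dickson.involves_of_not_pStable hp hP haN
      (le_bot_iff.mp ((Subgroup.commutator_mono (Subgroup.commutator_mono le_rfl hle) hle).trans hcom.le))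
      hbad
    obtain ⟨K, L, hL, he⟩ := Cfsg.Agent.SL2Dickson.involves_of_quotient (Cfsg.pPrimeCore p G)
      (Cfsg.Agent.SL2Dickson.involves_of_subgroup _ hI)
    exact hcon ⟨K, L, hL, le_top, he⟩

end Cfsg.Agent.S0657
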