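import Cfsg.Statements.S0660
import Cfsg.Agent.Lib.Transfer.Residual

set_option autoImplicit false
open Cfsg

namespace Cfsg.Agent.S0660

open Subgroup Cfsg.Agent.Transfer
open scoped commutatorElement Pointwise IsMulCommutative


/-- Under a coprime action on an abelian group, an invariant subgroup that is complemented admits an invariant complement. -/
theorem result {G : Type*} [Group G] [Finite G] (V A U : Subgroup G) (hVab : IsMulCommutative V) (hAV : A ≤ Subgroup.normalizer (V : Set G)) (hcop : (Nat.card A).Coprime (Nat.card V)) (hUV : U ≤ V) (hAU : A ≤ Subgroup.normalizer (U : Set G)) (W : Subgroup G) (hWV : W ≤ V) (hUW : U ⊓ W = ⊥) (hUWV : U ⊔ W = V) : ∃ W' : Subgroup G, W' ≤ V ∧ A ≤ Subgroup.normalizer (W' : Set G) ∧ U ⊓ W' = ⊥ ∧ U ⊔ W' = V := by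
  haveI := hVab
  have hcomm : ∀ {a b : G}, a ∈ V → b ∈ V → Commute a b := fun ha hb =>
    congrArg Subtype.val (mul_comm' (⟨_, ha⟩ : V) ⟨_, hb⟩)
  have hdec : ∀ v : V, ∃ u : U, (u : G)⁻¹ * (v : G) ∈ W := by
    intro v
    have hn : W ≤ normalizer (U : Set G) := by
      intro w hw
      rw [mem_normalizer_iff]
      intro x
      constructor
      · intro hx
        rwa [(hcomm (hWV hw) (hUV hx)).eq, mul_inv_cancel_right]
      · intro hx
        have h2 : Commute w (w * x * w⁻¹) := hcomm (hWV hw) (hUV hx)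
        have h3 := h2.eq
        rw [inv_mul_cancel_right] at h3
        rwa [mul_left_cancel h3] at hx
    have h1 : (v : G) ∈ U ⊔ W := hUWV.symm ▸ v.2
    rw [← SetLike.mem_coe, coe_mul_of_right_le_normalizer_left U W hn] at h1
    obtain ⟨u, hu, w, hw, he⟩ := h1
    refine ⟨⟨u, hu⟩, ?_⟩
    rw [← he]
    simpa using hw
  choose q hq using hdec
  have huniq : ∀ (v : V) (u : G), u ∈ U → u⁻¹ * (v : G) ∈ W → (q v : G) = u := by
    intro v u hu hw
    have h1 : (q v : G)⁻¹ * u ∈ U ⊓ W := mem_inf.mpr ⟨mul_mem (inv_mem (q v).2) hu, by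
      have := mul_mem (hq v) (inv_mem hw)
      simpa [mul_assoc] using this⟩
    rw [hUW, mem_bot, inv_mul_eq_one] at h1
    exact h1
  have hqmul : ∀ v w : V, (q (v * w) : G) = q v * q w := by
    intro v w
    refine huniq _ _ (mul_mem (q v).2 (q w).2) ?_
    have h1 : Commute (q w : G)⁻¹ ((q v : G)⁻¹ * v) :=
      hcomm (inv_mem (hUV (q w).2)) (mul_mem (inv_mem (hUV (q v).2)) v.2)
    have e : ((q v : G) * q w)⁻¹ * ((v * w : V) : G) =
        ((q v : G)⁻¹ * v) * ((q w : G)⁻¹ * w) := by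
      rw [coe_mul, mul_inv_rev, ← mul_assoc _ _ (w : G), mul_assoc (q w : G)⁻¹, h1.eq]
      group
    rw [e]
    exact mul_mem (hq v) (hq w)
  have hVn : ∀ a : A, ∀ v : V, (a : G)⁻¹ * v * a ∈ V := fun a v =>
    (mem_normalizer_iff''.mp (hAV a.2) v).mp v.2
  have hUn : ∀ a : A, ∀ u : U, (a : G) * u * (a : G)⁻¹ ∈ U := fun a u =>
    (mem_normalizer_iff.mp (hAU a.2) u).mp u.2
  let π : A → V →* V := fun a =>
    { toFun := fun v => ⟨(a : G) * q ⟨_, hVn a v⟩ * (a : G)⁻¹, hUV (hUn a _)⟩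
      map_one' := Subtype.ext (by
        have h : (q ⟨_, hVn a 1⟩ : G) = 1 := huniq _ 1 (one_mem _) (by simp)
        show (a : G) * q ⟨_, hVn a 1⟩ * (a : G)⁻¹ = 1
        rw [h, mul_one, mul_inv_cancel])
      map_mul' := fun v w => Subtype.ext (by
        have h : (⟨_, hVn a (v * w)⟩ : V) = ⟨_, hVn a v⟩ * ⟨_, hVn a w⟩ := Subtype.ext (by
          show (a : G)⁻¹ * ((v : G) * w) * a = (a : G)⁻¹ * v * a * ((a : G)⁻¹ * w * a)
          group)
        show (a : G) * q ⟨_, hVn a (v * w)⟩ * (a : G)⁻¹ =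
          ((a : G) * q ⟨_, hVn a v⟩ * (a : G)⁻¹) * ((a : G) * q ⟨_, hVn a w⟩ * (a : G)⁻¹)
        rw [h, hqmul]
        group) }
  haveI : Fintype A := Fintype.ofFinite _
  obtain ⟨k, hk⟩ : ∃ k : ℕ, ∀ u : V, (u ^ Nat.card A) ^ k = u := by
    by_cases hV1 : Nat.card V = 1
    · haveI : Subsingleton V := (Nat.card_eq_one_iff_unique.mp hV1).1
      exact ⟨0, fun u => Subsingleton.elim _ _⟩
    · obtain ⟨k, -, hk⟩ := Nat.exists_mul_mod_eq_one_of_coprime hcop
        (lt_of_le_of_ne Nat.card_pos (Ne.symm hV1))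
      refine ⟨k, fun u => ?_⟩
      rw [← pow_mul, ← pow_mod_natCard, hk, pow_one]
  let Q : V →* V :=
    { toFun := fun v => (∏ a : A, π a v) ^ k
      map_one' := by simp
      map_mul' := fun v w => by simp only [map_mul, Finset.prod_mul_distrib, mul_pow] }
  have hQU : ∀ v : V, (Q v : G) ∈ U := by
    intro v
    have h : (∏ a : A, π a v) ^ k ∈ U.subgroupOf V :=
      pow_mem (prod_mem fun a _ => show π a v ∈ U.subgroupOf V from hUn a _) k
    exact h
  have hQid : ∀ v : V, (v : G) ∈ U → Q v = v := by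
    intro v hv
    have h : ∀ a : A, π a v = v := by
      intro a
      apply Subtype.ext
      show (a : G) * q ⟨_, hVn a v⟩ * (a : G)⁻¹ = v
      rw [huniq _ _ ((mem_normalizer_iff''.mp (hAU a.2) v).mp hv) (by simp [mul_assoc])]
      group
    show (∏ a : A, π a v) ^ k = v
    rw [Finset.prod_congr rfl (fun a _ => h a), Finset.prod_const, Finset.card_univ,
      ← Nat.card_eq_fintype_card]
    exact hk v
  refine ⟨Q.ker.map V.subtype, map_subtype_le _, ?_, ?_, ?_⟩
  · intro b hb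
    have key : ∀ b : A, ∀ x ∈ Q.ker.map V.subtype, (b : G) * x * (b : G)⁻¹ ∈ Q.ker.map V.subtype := by
      rintro b _ ⟨v, hv, rfl⟩
      have hbv : (b : G) * v * (b : G)⁻¹ ∈ V := (mem_normalizer_iff.mp (hAV b.2) v).mp v.2
      refine ⟨⟨_, hbv⟩, ?_, rfl⟩
      rw [SetLike.mem_coe, MonoidHom.mem_ker] at hv ⊢
      have hconj : ∀ a : A, (π (b * a) ⟨_, hbv⟩ : G) = (b : G) * π a v * (b : G)⁻¹ := by
        intro a
        have h : (⟨_, hVn (b * a) ⟨_, hbv⟩⟩ : V) = ⟨_, hVn a v⟩ := Subtype.ext (by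
          show ((b : G) * a)⁻¹ * ((b : G) * v * (b : G)⁻¹) * ((b : G) * a) = (a : G)⁻¹ * v * a
          group)
        show ((b : G) * a) * q ⟨_, hVn (b * a) ⟨_, hbv⟩⟩ * ((b : G) * a)⁻¹ =
          (b : G) * ((a : G) * q ⟨_, hVn a v⟩ * (a : G)⁻¹) * (b : G)⁻¹
        rw [h]
        group
      let c : V →* V :=
        { toFun := fun w => ⟨(b : G) * w * (b : G)⁻¹, (mem_normalizer_iff.mp (hAV b.2) w).mp w.2⟩
          map_one' := Subtype.ext (by simp)
          map_mul' := fun w w' => Subtype.ext (by simp only [coe_mul]; group) }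
      have h1 : (∏ a : A, π a ⟨_, hbv⟩) = c (∏ a : A, π a v) := by
        rw [map_prod, ← Equiv.prod_comp (Equiv.mulLeft b)]
        exact Finset.prod_congr rfl fun a _ => Subtype.ext (hconj a)
      show (∏ a : A, π a ⟨_, hbv⟩) ^ k = 1
      rw [h1, ← map_pow, show (∏ a : A, π a v) ^ k = 1 from hv, map_one]
    rw [mem_normalizer_iff]
    intro x
    refine ⟨key ⟨b, hb⟩ x, fun hx => ?_⟩
    have := key ⟨b, hb⟩⁻¹ _ hx
    simpa [mul_assoc] using this
  · rw [eq_bot_iff]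
    rintro x ⟨hx, v, hv, rfl⟩
    rw [mem_bot]
    have h1 : Q v = 1 := hv
    rw [hQid v hx] at h1
    exact congrArg Subtype.val h1
  · refine le_antisymm (sup_le hUV (map_subtype_le _)) fun x hx => ?_
    have e : x = (Q ⟨x, hx⟩ : G) * (((Q ⟨x, hx⟩)⁻¹ * ⟨x, hx⟩ : V) : G) := by simp
    rw [e]
    refine mul_mem (mem_sup_left (hQU _))
      (mem_sup_right (mem_map_of_mem V.subtype (show (Q ⟨x, hx⟩)⁻¹ * ⟨x, hx⟩ ∈ Q.ker from ?_)))
    rw [MonoidHom.mem_ker, map_mul, map_inv, hQid (Q ⟨x, hx⟩) (hQU _),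
      inv_mul_cancel]

end Cfsg.Agent.S0660
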