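import Cfsg.Statements.S0661
import Cfsg.Agent.Lib.Transfer.Constrained

set_option autoImplicit false
open Cfsg

namespace Cfsg.Agent.S0661

open Subgroup Cfsg.Agent.Transfer
open scoped commutatorElement Pointwise


/-- If, modulo the largest normal subgroup of order prime to p, the largest normal p-subgroup contains its centralizer, then for every p-subgroup P the p'-core of N_G(P) is just O_p'(G) ∩ N_G(P). -/
theorem result {G : Type*} [Group G] [Finite G] {p : ℕ} [Fact p.Prime] (hc : Subgroup.centralizer (Cfsg.pCore p (G ⧸ Cfsg.pPrimeCore p G) : Set (G ⧸ Cfsg.pPrimeCore p G)) ≤ Cfsg.pCore p (G ⧸ Cfsg.pPrimeCore p G)) (P : Subgroup G) (hP : IsPGroup p P) : (Cfsg.pPrimeCore p ↥(Subgroup.normalizer (P : Set G))).map (Subgroup.normalizer (P : Set G)).subtype = Cfsg.pPrimeCore p G ⊓ Subgroup.normalizer (P : Set G) := by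
  refine le_antisymm (le_inf (Cfsg.Agent.Components.pLocal_of_pLayer_eq_bot
    (Cfsg.Agent.Components.isPConstrained_iff_pLayer_eq_bot.mp
      (Cfsg.Agent.Components.isPConstrained_iff.mpr hc)) hP).2 (map_subtype_le _)) ?_
  rw [← subgroupOf_map_subtype]
  refine map_mono (Cfsg.Agent.Basics.le_pPrimeCore ?_)
  rw [← card_map_of_injective (subtype_injective (normalizer (P : Set G))), subgroupOf_map_subtype]
  exact (Cfsg.Agent.Basics.pPrimeCore_coprime p).coprime_dvd_left (card_dvd_of_le inf_le_left)

end Cfsg.Agent.S0661
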