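import Cfsg.Statements.S0663
import Cfsg.Agent.Lib.PGroup23.NormalSq
import Cfsg.Agent.Lib.OddLocal.Rank
import Cfsg.Agent.Lib.Basics.Tools
-- import your own Cfsg.Agent.* helpers here

set_option autoImplicit false
open Cfsg

namespace Cfsg.Agent.S0663

open Subgroup
open scoped commutatorElement

variable {L : Type*} [Group L] [Finite L] {p : ℕ} [hp : Fact p.Prime]

/-- A step down in a chief series of a `p`-group. -/
theorem step (X M : Subgroup L) (hX : IsPGroup p X) (hMX : M ≤ X)
    (hXM : X ≤ normalizer (M : Set L)) (hM : M ≠ ⊥) :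
    ∃ M' : Subgroup L, M' ≤ M ∧ X ≤ normalizer (M' : Set L) ∧ Nat.card M = p * Nat.card M' ∧
      ⁅M, X⁆ ≤ M' := by
  haveI : (M.subgroupOf X).Normal := (normal_subgroupOf_iff_le_normalizer hMX).mpr hXM
  obtain ⟨K, hKn, hKM, hcard⟩ := PGroup23.exists_normal_index_prime hX (M.subgroupOf X) (fun h => hM (by
    rw [← card_eq_one, ← Basics.card_subgroupOf hMX, h, card_bot]))
  haveI := hKn
  refine ⟨K.map X.subtype, ?_, ?_, ?_, ?_⟩
  · rw [← map_subgroupOf_eq_of_le hMX]
    exact map_mono hKM
  · refine (normal_subgroupOf_iff_le_normalizer (map_subtype_le K)).mp ?_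
    rwa [show (K.map X.subtype).subgroupOf X = K from comap_map_eq_self_of_injective X.subtype_injective K]
  · rw [← Basics.card_subgroupOf hMX, hcard, card_map_of_injective X.subtype_injective]
  · refine commutator_le.mpr fun m hm x hx => ?_
    set π := QuotientGroup.mk' K
    haveI : ((M.subgroupOf X).map π).Normal := (inferInstance : (M.subgroupOf X).Normal).map π
      (QuotientGroup.mk'_surjective _)
    have h1 : Nat.card ((M.subgroupOf X).map π) ≤ p := by
      rw [← relIndex_ker, QuotientGroup.ker_mk']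
      have h2 := relIndex_mul_relIndex ⊥ K (M.subgroupOf X) bot_le hKM
      rw [relIndex_bot_left, relIndex_bot_left, hcard, mul_comm p] at h2
      exact (Nat.eq_of_mul_eq_mul_left Nat.card_pos h2).le
    have h2 := mem_center_iff.mp (OddLocal.le_center_of_card_le (hX.to_quotient K) _ h1
      (mem_map_of_mem π (show (⟨m, hMX hm⟩ : X) ∈ M.subgroupOf X from hm))) (π ⟨x, hx⟩)
    refine ⟨⁅(⟨m, hMX hm⟩ : X), ⟨x, hx⟩⁆, (QuotientGroup.eq_one_iff _).mp ?_, rfl⟩
    show π _ = 1
    rw [map_commutatorElement, commutatorElement_eq_one_iff_mul_comm]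
    exact h2.symm

theorem exists_chain (N G : Subgroup L) (hX : IsPGroup p (N ⊔ G : Subgroup L))
    (hGN : G ≤ normalizer (N : Set L)) (n : ℕ) (hn : Nat.card N = p ^ n) :
    ∀ k ≤ n, ∃ M : Subgroup L, M ≤ N ∧ N ⊔ G ≤ normalizer (M : Set L) ∧
      Nat.card M = p ^ (n - k) ∧ iterCommutator N G k ≤ M := by
  intro k hk
  induction k with
  | zero => exact ⟨N, le_rfl, sup_le le_normalizer hGN, by rwa [Nat.sub_zero], le_rfl⟩
  | succ k ih =>
    obtain ⟨M, hMN, hMX, hMc, hle⟩ := ih (by omega)
    obtain ⟨M', h1, h2, h3, h4⟩ := step (N ⊔ G) M hX (hMN.trans le_sup_left) hMX (fun e => by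
      rw [e, card_bot] at hMc
      have := Nat.one_lt_pow (show n - k ≠ 0 by omega) hp.out.one_lt
      omega)
    refine ⟨M', h1.trans hMN, h2, ?_, ?_⟩
    · rw [hMc, show n - k = n - (k + 1) + 1 by omega, pow_succ'] at h3
      exact (Nat.eq_of_mul_eq_mul_left hp.out.pos h3).symm
    · exact (commutator_mono hle le_sup_right).trans h4

/-- A p-group acts uniserially on a p-group N of order p^n exactly when the iterated commutator chain from N has length n; in that case the chain terms are all the invariant subgroups of N and they are normal in N. -/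
theorem result {L : Type*} [Group L] [Finite L] {p : ℕ} [Fact p.Prime] (N G : Subgroup L) (hN : IsPGroup p N) (hG : IsPGroup p G) (hGN : G ≤ Subgroup.normalizer (N : Set L)) (n : ℕ) (hn : Nat.card N = p ^ n) : ((∀ H : Subgroup L, H ≤ N → G ≤ Subgroup.normalizer (H : Set L) → H ≠ ⊥ → (⁅H, G⁆).relIndex H = p) ↔ Cfsg.iterCommutator N G (n - 1) ≠ ⊥ ∨ n = 0) ∧ ((∀ H : Subgroup L, H ≤ N → G ≤ Subgroup.normalizer (H : Set L) → H ≠ ⊥ → (⁅H, G⁆).relIndex H = p) → ∀ H : Subgroup L, H ≤ N → G ≤ Subgroup.normalizer (H : Set L) → (∃ i ≤ n, H = Cfsg.iterCommutator N G i) ∧ N ≤ Subgroup.normalizer (H : Set L)) := by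
  have hp := (inferInstance : Fact p.Prime)
  set c := iterCommutator N G with hc
  have hX : IsPGroup p (N ⊔ G : Subgroup L) := hN.to_sup_of_normal_left' hG hGN
  have hchain := exists_chain N G hX hGN n hn
  have hsucc : ∀ i, c (i + 1) = ⁅c i, G⁆ := fun _ => rfl
  have hp1 := hp.out.one_lt
  -- the index condition gives the orders
  have hA : (∀ H : Subgroup L, H ≤ N → G ≤ normalizer (H : Set L) → H ≠ ⊥ →
      (⁅H, G⁆).relIndex H = p) → ∀ k ≤ n, Nat.card (c k) = p ^ (n - k) ∧ c k ≤ N ∧
        N ⊔ G ≤ normalizer (c k : Set L) := by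
    intro hu k hk
    induction k with
    | zero => exact ⟨by rw [Nat.sub_zero]; exact hn, le_rfl, sup_le le_normalizer hGN⟩
    | succ k ih =>
      obtain ⟨h1, h2, h3⟩ := ih (by omega)
      have hne : c k ≠ ⊥ := fun e => by
        rw [e, card_bot] at h1
        have := Nat.one_lt_pow (show n - k ≠ 0 by omega) hp1
        omega
      have hle : ⁅c k, G⁆ ≤ c k := commutator_le.mpr fun x hx g hg => by
        rw [commutatorElement_def, show x * g * x⁻¹ * g⁻¹ = x * (g * x⁻¹ * g⁻¹) by group]
        exact mul_mem hx ((mem_normalizer_iff.mp ((le_sup_right.trans h3) hg) _).mp (inv_mem hx))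
      have hr := hu (c k) h2 (le_sup_right.trans h3) hne
      have h4 := relIndex_mul_relIndex ⊥ ⁅c k, G⁆ (c k) bot_le hle
      rw [relIndex_bot_left, relIndex_bot_left, hr, h1, ← hsucc,
        show n - k = n - (k + 1) + 1 by omega, pow_succ] at h4
      have hcard := Nat.eq_of_mul_eq_mul_right hp.out.pos h4
      obtain ⟨M, hMN, hMX, hMc, hcM⟩ := hchain (k + 1) hk
      have heq : c (k + 1) = M := eq_of_le_of_card_ge hcM (by rw [hMc, hcard])
      exact ⟨hcard, heq ▸ hMN, heq ▸ hMX⟩
  have hinv : ∀ i, G ≤ normalizer (c i : Set L) ∧ c i ≤ N := by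
    intro i
    induction i with
    | zero => exact ⟨hGN, le_rfl⟩
    | succ i ih =>
      have hle : ⁅c i, G⁆ ≤ c i := commutator_le.mpr fun x hx g hg => by
        rw [commutatorElement_def, show x * g * x⁻¹ * g⁻¹ = x * (g * x⁻¹ * g⁻¹) by group]
        exact mul_mem hx ((mem_normalizer_iff.mp (ih.1 hg) _).mp (inv_mem hx))
      refine ⟨fun g hg => mem_normalizer_iff_map_conj_eq.mpr ?_, hle.trans ih.2⟩
      show (⁅c i, G⁆).map (MulAut.conj g).toMonoidHom = ⁅c i, G⁆
      rw [map_commutator]
      exact congrArg₂ (⁅·, ·⁆) (mem_normalizer_iff_map_conj_eq.mp (ih.1 hg))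
        (mem_normalizer_iff_map_conj_eq.mp (le_normalizer hg))
  have hdrop : ∀ i, c i ≠ ⊥ → p * Nat.card (c (i + 1)) ≤ Nat.card (c i) := by
    intro i hi
    obtain ⟨M, -, -, h3, h4⟩ := step (c i ⊔ G) (c i)
      ((hN.to_le (hinv i).2).to_sup_of_normal_left' hG (hinv i).1) le_sup_left
      (sup_le le_normalizer (hinv i).1) hi
    rw [h3]
    exact Nat.mul_le_mul_left p (card_le_of_le ((commutator_mono le_rfl le_sup_right).trans h4))
  -- a nontrivial deep term gives the orders
  have hB : c (n - 1) ≠ ⊥ ∨ n = 0 → ∀ k ≤ n, Nat.card (c k) = p ^ (n - k) ∧ c k ≤ N ∧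
      N ⊔ G ≤ normalizer (c k : Set L) := by
    intro hd k hk
    obtain ⟨M, hMN, hMX, hMc, hcM⟩ := hchain k hk
    suffices heq : c k = M from ⟨heq ▸ hMc, heq ▸ hMN, heq ▸ hMX⟩
    refine eq_of_le_of_card_ge hcM (hMc.le.trans ?_)
    rcases eq_or_lt_of_le hk with rfl | hlt
    · rw [Nat.sub_self, pow_zero]; exact Nat.card_pos
    have hd' : c (n - 1) ≠ ⊥ := hd.resolve_right (by omega)
    have hbot : ∀ j i, c i = ⊥ → c (i + j) = ⊥ := by
      intro j
      induction j with
      | zero => exact fun i h => h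
      | succ j ih => intro i h; rw [← Nat.add_assoc, hsucc, ih i h, commutator_bot_left]
    have hne : ∀ i ≤ n - 1, c i ≠ ⊥ := fun i hi h => hd' (by
      have := hbot (n - 1 - i) i h
      rwa [show i + (n - 1 - i) = n - 1 by omega] at this)
    have hlow : ∀ j, j ≤ n - 1 → p ^ (j + 1) ≤ Nat.card (c (n - 1 - j)) := by
      intro j hj
      induction j with
      | zero =>
        obtain ⟨e, he⟩ := IsPGroup.iff_card.mp (hN.to_le (hinv (n - 1)).2)
        rw [Nat.sub_zero, he]
        refine Nat.pow_le_pow_right hp.out.pos (Nat.one_le_iff_ne_zero.mpr fun h0 => hd' ?_)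
        rw [← card_eq_one, he, h0, pow_zero]
      | succ j ih =>
        have h1 := hdrop (n - 1 - (j + 1)) (hne _ (by omega))
        rw [show n - 1 - (j + 1) + 1 = n - 1 - j by omega] at h1
        rw [pow_succ']
        exact (Nat.mul_le_mul_left p (ih (by omega))).trans h1
    have := hlow (n - 1 - k) (by omega)
    rwa [show n - 1 - (n - 1 - k) = k by omega, show n - 1 - k + 1 = n - k by omega] at this
  -- the orders determine the invariant subgroups
  have hC : (∀ k ≤ n, Nat.card (c k) = p ^ (n - k) ∧ c k ≤ N ∧ N ⊔ G ≤ normalizer (c k : Set L)) →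
      ∀ H : Subgroup L, H ≤ N → G ≤ normalizer (H : Set L) → ∃ i ≤ n, H = c i := by
    intro ho H hHN hHG
    have hbotn : c n = ⊥ := card_eq_one.mp (by rw [(ho n le_rfl).1, Nat.sub_self, pow_zero])
    classical
    by_cases hH : H ≤ c n
    · exact ⟨n, le_rfl, le_antisymm hH (by rw [hbotn]; exact bot_le)⟩
    have hex : ∃ i, i ≤ n ∧ ¬ H ≤ c i := ⟨n, le_rfl, hH⟩
    obtain ⟨i, hi⟩ : ∃ i, Nat.find hex = i + 1 := ⟨Nat.find hex - 1, by
      have : Nat.find hex ≠ 0 := fun e => (Nat.find_spec hex).2 (by rw [e]; exact hHN)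
      omega⟩
    obtain ⟨hin, hnot⟩ := hi ▸ Nat.find_spec hex
    have hHi : H ≤ c i := by
      by_contra h
      exact Nat.find_min hex (by omega) ⟨by omega, h⟩
    refine ⟨i, by omega, le_antisymm hHi ?_⟩
    have hnorm : ∀ j ≤ n, H ≤ normalizer (c j : Set L) := fun j hj =>
      hHN.trans (le_sup_left.trans (ho j hj).2.2)
    have hstep : ∀ j, i ≤ j → j < n → c j ≤ H ⊔ c (j + 1) := by
      intro j hij
      induction j, hij using Nat.le_induction with
      | base =>
        intro _
        have hle : c (i + 1) ≤ c i := commutator_le.mpr fun x hx g hg => by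
          rw [commutatorElement_def, show x * g * x⁻¹ * g⁻¹ = x * (g * x⁻¹ * g⁻¹) by group]
          exact mul_mem hx ((mem_normalizer_iff.mp ((hinv i).1 hg) _).mp (inv_mem hx))
        refine (eq_of_le_of_card_ge (sup_le hHi hle) ?_).ge
        obtain ⟨e, he⟩ := IsPGroup.iff_card.mp
          (hN.to_le (sup_le hHN (hle.trans (ho i (by omega)).2.1)))
        rw [(ho i (by omega)).1, he]
        refine Nat.pow_le_pow_right hp.out.pos ?_
        by_contra hlt
        have h5 : Nat.card (H ⊔ c (i + 1) : Subgroup L) ≤ Nat.card (c (i + 1)) := by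
          rw [he, (ho (i + 1) hin).1]
          exact Nat.pow_le_pow_right hp.out.pos (by omega)
        exact hnot ((eq_of_le_of_card_ge le_sup_right h5).symm ▸ le_sup_left)
      | succ j hij ih =>
        intro hjn
        rw [hsucc j]
        refine commutator_le.mpr fun x hx g hg => ?_
        obtain ⟨h, hh, y, hy, rfl⟩ :=
          (Basics.mem_sup_of_le_normalizer' (hnorm (j + 1) (by omega))).mp
            ((sup_comm H (c (j + 1))).le (ih (by omega) hx))
        rw [commutatorElement_def,
          show h * y * g * (h * y)⁻¹ * g⁻¹ = h * ⁅y, g⁆ * h⁻¹ * (h * (g * h⁻¹ * g⁻¹)) by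
            rw [commutatorElement_def]; group]
        refine mul_mem (mul_mem (mul_mem (mem_sup_left hh) (mem_sup_right ?_))
          (inv_mem (mem_sup_left hh)))
          (mem_sup_left (mul_mem hh ((mem_normalizer_iff.mp (hHG hg) _).mp (inv_mem hh))))
        exact commutator_mem_commutator hy hg
    have hdown : ∀ m, i + m ≤ n → c (n - m) ≤ H := by
      intro m hm
      induction m with
      | zero => rw [Nat.sub_zero, hbotn]; exact bot_le
      | succ m ih =>
        refine (hstep (n - (m + 1)) (by omega) (by omega)).trans (sup_le le_rfl ?_)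
        rw [show n - (m + 1) + 1 = n - m by omega]
        exact ih (by omega)
    have := hdown (n - i) (by omega)
    rwa [show n - (n - i) = i by omega] at this
  refine ⟨⟨fun hu => ?_, fun hd H hHN hHG hH => ?_⟩, fun hu H hHN hHG => ?_⟩
  · rcases Nat.eq_zero_or_pos n with h0 | h0
    · exact Or.inr h0
    refine Or.inl fun e => ?_
    have := (hA hu (n - 1) (by omega)).1
    rw [e, card_bot] at this
    have := Nat.one_lt_pow (show n - (n - 1) ≠ 0 by omega) hp1
    omega
  · obtain ⟨i, hi, rfl⟩ := hC (hB hd) H hHN hHG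
    have hin : i < n := by
      refine lt_of_le_of_ne hi fun e => hH ?_
      rw [← card_eq_one, (hB hd i hi).1, e, Nat.sub_self, pow_zero]
    rw [← hsucc]
    have hle : c (i + 1) ≤ c i := commutator_le.mpr fun x hx g hg => by
      rw [commutatorElement_def, show x * g * x⁻¹ * g⁻¹ = x * (g * x⁻¹ * g⁻¹) by group]
      exact mul_mem hx ((mem_normalizer_iff.mp ((hinv i).1 hg) _).mp (inv_mem hx))
    have h4 := relIndex_mul_relIndex ⊥ (c (i + 1)) (c i) bot_le hle
    rw [relIndex_bot_left, relIndex_bot_left, (hB hd i hi).1, (hB hd (i + 1) hin).1,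
      show n - i = n - (i + 1) + 1 by omega, pow_succ] at h4
    exact Nat.eq_of_mul_eq_mul_left (pow_pos hp.out.pos _) h4
  · obtain ⟨i, hi, rfl⟩ := hC (hA hu) H hHN hHG
    exact ⟨⟨i, hi, rfl⟩, le_sup_left.trans (hA hu i hi).2.2⟩

end Cfsg.Agent.S0663
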