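import Cfsg.Statements.S0666
import Cfsg.Agent.Lib.Basics.FrobeniusBasic
-- import your own Cfsg.Agent.* helpers here

set_option autoImplicit false
open Cfsg
open scoped Pointwise

namespace Cfsg.Agent.S0666

/-- A Frobenius group acting on a nontrivial abelian group of order prime to that of its kernel, with the kernel acting without nontrivial fixed points, has a complement with a nontrivial fixed point. -/
theorem result {G : Type*} [Group G] [Finite G] (V F : Subgroup G) (hVab : IsMulCommutative V) (hV1 : V ≠ ⊥) (hFV : F ≤ Subgroup.normalizer (V : Set G)) (H : Subgroup ↥F) (hH : Cfsg.IsFrobeniusComplement H) (hcop : (Nat.card V).Coprime (Nat.card (Cfsg.frobeniusKernel H))) (hCK : V ⊓ Subgroup.centralizer (Subtype.val '' Cfsg.frobeniusKernel H : Set G) = ⊥) : V ⊓ Subgroup.centralizer ((H.map F.subtype : Subgroup G) : Set G) ≠ ⊥ := by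
  classical
  obtain ⟨N, hNk, hNn, hcompl, -⟩ := Agent.Basics.frobenius_kernel_exists hH
  rw [← hNk] at hcop hCK
  let ρ : ↥F →* MulAut ↥V := V.normalizerMonoidHom.comp (Subgroup.inclusion hFV)
  have hρ : ∀ (f : F) (v : V), ((ρ f v : V) : G) = (f : G) * v * (f : G)⁻¹ := fun _ _ => rfl
  open scoped IsMulCommutative in
  intro hbot
  haveI := V.nontrivial_iff_ne_bot.mpr hV1
  obtain ⟨u, hu⟩ : ∃ u : V, u ≠ 1 := exists_ne 1
  have := Fintype.ofFinite N
  have := Fintype.ofFinite H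
  have hfixH : ∀ v : V, (∀ h : H, ρ h v = v) → v = 1 := fun v hv => by
    refine Subtype.ext (Subgroup.mem_bot.mp (hbot.le ⟨v.2, Subgroup.mem_centralizer_iff.mpr ?_⟩))
    rintro _ ⟨h, hh, rfl⟩
    have := congrArg Subtype.val (hv ⟨h, hh⟩)
    rw [hρ] at this
    exact mul_inv_eq_iff_eq_mul.mp this
  have hfixN : ∀ v : V, (∀ c : N, ρ c v = v) → v = 1 := fun v hv => by
    refine Subtype.ext (Subgroup.mem_bot.mp (hCK.le ⟨v.2, Subgroup.mem_centralizer_iff.mpr ?_⟩))
    rintro _ ⟨c, hc, rfl⟩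
    have := congrArg Subtype.val (hv ⟨c, hc⟩)
    rw [hρ] at this
    exact mul_inv_eq_iff_eq_mul.mp this
  have hsumH : ∀ v : V, ∏ h : H, ρ h v = 1 := fun v => by
    refine hfixH _ fun b => ?_
    rw [map_prod]
    refine Fintype.prod_equiv (Equiv.mulLeft b) _ _ fun h => ?_
    rw [← MulAut.mul_apply, ← map_mul]
    rfl
  have hsumN : ∀ v : V, ∏ c : N, ρ c v = 1 := fun v => by
    refine hfixN _ fun b => ?_
    rw [map_prod]
    refine Fintype.prod_equiv (Equiv.mulLeft b) _ _ fun c => ?_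
    rw [← MulAut.mul_apply, ← map_mul]
    rfl
  have hzero : ∀ c : N, ∏ h : H, ρ ((c : F) * h * (c : F)⁻¹) u = 1 := fun c => by
    simp only [map_mul, MulAut.mul_apply, ← map_prod, hsumH, map_one]
  have hswap : ∏ h : H, ∏ c : N, ρ ((c : F) * h * (c : F)⁻¹) u = 1 := by
    rw [Finset.prod_comm]
    exact Finset.prod_eq_one fun c _ => hzero c
  rw [Finset.prod_eq_single_of_mem (1 : H) (Finset.mem_univ _)] at hswap
  · simp only [OneMemClass.coe_one, mul_one, mul_inv_cancel, map_one, MulAut.one_apply,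
      Finset.prod_const, Finset.card_univ, ← Nat.card_eq_fintype_card] at hswap
    have h2 : orderOf u = 1 := Nat.dvd_one.1 (hcop ▸
      Nat.dvd_gcd (orderOf_dvd_natCard u) (orderOf_dvd_of_pow_eq_one hswap))
    exact hu (orderOf_eq_one_iff.1 h2)
  · intro h _ hh
    let τ : N → N := fun c => ⟨(c : F) * ((h : F) * (c : F)⁻¹ * (h : F)⁻¹),
      N.mul_mem c.2 (hNn.conj_mem _ (N.inv_mem c.2) _)⟩
    have hτ : Function.Bijective τ := by
      refine Finite.injective_iff_bijective.1 fun b c hbc => ?_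
      have hbc' : (b : F) * ((h : F) * (b : F)⁻¹ * (h : F)⁻¹) =
          (c : F) * ((h : F) * (c : F)⁻¹ * (h : F)⁻¹) := congrArg Subtype.val hbc
      have h1 : ((c : F)⁻¹ * b) * h * ((c : F)⁻¹ * b)⁻¹ = h := by
        calc ((c : F)⁻¹ * b) * h * ((c : F)⁻¹ * b)⁻¹
            = (c : F)⁻¹ * ((b : F) * ((h : F) * (b : F)⁻¹ * (h : F)⁻¹)) * h * c := by group
          _ = (c : F)⁻¹ * ((c : F) * ((h : F) * (c : F)⁻¹ * (h : F)⁻¹)) * h * c := by rw [hbc']
          _ = h := by group
      have hmem : (c : F)⁻¹ * b ∈ H := by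
        by_contra hno
        have h3 : (h : F) ∈ H ⊓ MulAut.conj ((c : F)⁻¹ * b) • H :=
          ⟨h.2, ⟨h, h.2, h1⟩⟩
        rw [hH.2.2 _ hno, Subgroup.mem_bot] at h3
        exact hh (Subtype.ext h3)
      have h4 : (c : F)⁻¹ * b ∈ N ⊓ H := ⟨N.mul_mem (N.inv_mem c.2) b.2, hmem⟩
      rw [hcompl.disjoint.eq_bot, Subgroup.mem_bot, inv_mul_eq_one] at h4
      exact Subtype.ext h4.symm
    calc ∏ c : N, ρ ((c : F) * h * (c : F)⁻¹) u
        = ∏ c : N, ρ (τ c) (ρ h u) := Finset.prod_congr rfl fun c _ => by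
          rw [← MulAut.mul_apply, ← map_mul]
          congr 2
          simp only [τ]; group
      _ = ∏ c : N, ρ c (ρ h u) := (Equiv.ofBijective τ hτ).prod_comp (fun c : N => ρ c (ρ h u))
      _ = 1 := hsumN _

end Cfsg.Agent.S0666
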