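import Cfsg.Statements.S0668
import Cfsg.Agent.Lib.PermGp.Basic

set_option autoImplicit false
open Cfsg

namespace Cfsg.Agent.S0668

/-- The equivariant linear maps between the permutation modules of two finite `G`-sets form a space whose dimension is the number of `G`-orbits on the product of the two sets. -/
theorem result {G : Type*} [Group G] {K : Type*} [Field K] {Ω₁ Ω₂ : Type*} [Fintype Ω₁] [Fintype Ω₂] [MulAction G Ω₁] [MulAction G Ω₂] : Module.finrank K ((Cfsg.permRep K G Ω₁).linHom (Cfsg.permRep K G Ω₂)).invariants = Nat.card (MulAction.orbitRel.Quotient G (Ω₁ × Ω₂)) := by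
  classical
  let Q := MulAction.orbitRel.Quotient G (Ω₁ × Ω₂)
  set S := ((Cfsg.permRep K G Ω₁).linHom (Cfsg.permRep K G Ω₂)).invariants
  have hperm : ∀ (g : G) (x : Ω₁), Cfsg.permRep K G Ω₁ g (Pi.single x 1) = Pi.single (g • x) 1 := by
    intro g x
    funext y
    show (Pi.single x (1 : K) : Ω₁ → K) (g⁻¹ • y) = _
    rw [Pi.single_apply, Pi.single_apply]
    simp only [inv_smul_eq_iff]
  have hcov : ∀ φ ∈ S, ∀ (g : G) (x : Ω₁) (y : Ω₂),
      φ (Pi.single (g • x) 1) (g • y) = φ (Pi.single x 1) y := by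
    intro φ hφ g x y
    have h := congrFun (LinearMap.congr_fun (hφ g) (Pi.single (g • x) (1 : K))) (g • y)
    rw [Representation.linHom_apply] at h
    simp only [LinearMap.comp_apply, hperm, inv_smul_smul] at h
    have h' : φ (Pi.single x 1) (g⁻¹ • g • y) = φ (Pi.single (g • x) 1) (g • y) := h
    rw [inv_smul_smul] at h'
    exact h'.symm
  let mkQ : Ω₁ × Ω₂ → Q := Quotient.mk''
  have hmk : ∀ (g : G) (x : Ω₁) (y : Ω₂), mkQ (g • x, g • y) = mkQ (x, y) :=
    fun g x y => Quotient.sound' ⟨g, rfl⟩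
  let toF : S →ₗ[K] (Q → K) :=
    { toFun := fun φ q => Quotient.liftOn' q (fun z => φ.1 (Pi.single z.1 1) z.2) (by
        rintro ⟨x, y⟩ ⟨x', y'⟩ ⟨g, hg⟩
        obtain ⟨rfl, rfl⟩ : g • x' = x ∧ g • y' = y := ⟨congrArg Prod.fst hg, congrArg Prod.snd hg⟩
        exact hcov φ.1 φ.2 g x' y')
      map_add' := fun φ ψ => by funext q; induction q using Quotient.inductionOn'; rfl
      map_smul' := fun c φ => by funext q; induction q using Quotient.inductionOn'; rfl }
  let ofF : (Q → K) → ((Ω₁ → K) →ₗ[K] (Ω₂ → K)) := fun F =>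
    ∑ x : Ω₁, (LinearMap.proj x).smulRight (fun y => F (mkQ (x, y)))
  have hofF : ∀ F w y, ofF F w y = ∑ x : Ω₁, w x * F (mkQ (x, y)) := by
    intro F w y; simp [ofF, Finset.sum_apply]
  have hofmem : ∀ F, ofF F ∈ S := by
    intro F g
    refine LinearMap.ext fun w => funext fun y => ?_
    rw [Representation.linHom_apply]
    show ofF F (Cfsg.permRep K G Ω₁ g⁻¹ w) (g⁻¹ • y) = ofF F w y
    rw [hofF, hofF]
    refine Fintype.sum_equiv (MulAction.toPerm g) _ _ fun x => ?_
    show w (g⁻¹⁻¹ • x) * _ = w (g • x) * _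
    rw [inv_inv, ← hmk g x (g⁻¹ • y), smul_inv_smul]
    rfl
  have hbij : Function.Bijective toF := by
    constructor
    · intro φ ψ h
      apply Subtype.ext
      refine (Pi.basisFun K Ω₁).ext fun x => funext fun y => ?_
      rw [Pi.basisFun_apply]
      exact congrFun h (mkQ (x, y))
    · intro F
      refine ⟨⟨ofF F, hofmem F⟩, funext fun q => ?_⟩
      induction q using Quotient.inductionOn' with
      | h z =>
        obtain ⟨x, y⟩ := z
        show ofF F (Pi.single x 1) y = F (mkQ (x, y))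
        rw [hofF, Finset.sum_eq_single x]
        · simp
        · intro x' _ hne; simp [Pi.single_eq_of_ne hne]
        · simp
  have : Finite Q := inferInstanceAs (Finite (Quotient (MulAction.orbitRel G (Ω₁ × Ω₂))))
  have := Fintype.ofFinite Q
  rw [(LinearEquiv.ofBijective toF hbij).finrank_eq, Module.finrank_fintype_fun_eq_card,
    Nat.card_eq_fintype_card]

end Cfsg.Agent.S0668
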