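import Cfsg.Statements.S0669
import Cfsg.Agent.Lib.PermGp.Basic

set_option autoImplicit false
open Cfsg

namespace Cfsg.Agent.S0669

/-- The rank of a transitive action: orbits on ordered pairs correspond to orbits of a point stabiliser. -/
theorem result {G : Type*} [Group G] {Ω : Type*} [Finite Ω] [MulAction G Ω] [MulAction.IsPretransitive G Ω] (a : Ω) : Nat.card (MulAction.orbitRel.Quotient G (Ω × Ω)) = Nat.card (MulAction.orbitRel.Quotient (MulAction.stabilizer G a) Ω) := by
  classical
  let f : MulAction.orbitRel.Quotient (MulAction.stabilizer G a) Ω →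
      MulAction.orbitRel.Quotient G (Ω × Ω) :=
    Quotient.map' (fun x => (a, x)) (by
      rintro x y ⟨h, hh⟩
      exact ⟨(h : G), Prod.ext h.2 hh⟩)
  refine (Nat.card_eq_of_bijective f ⟨?_, ?_⟩).symm
  · intro u v huv
    induction u using Quotient.inductionOn' with
    | h x =>
      induction v using Quotient.inductionOn' with
      | h y =>
        obtain ⟨g, hg⟩ := Quotient.exact' huv
        have h1 : g • a = a := congrArg Prod.fst hg
        exact Quotient.sound' ⟨⟨g, h1⟩, congrArg Prod.snd hg⟩
  · intro u
    induction u using Quotient.inductionOn' with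
    | h p =>
      obtain ⟨x, y⟩ := p
      obtain ⟨g, hg⟩ := MulAction.exists_smul_eq G x a
      exact ⟨Quotient.mk'' (g • y), Quotient.sound' ⟨g, Prod.ext hg rfl⟩⟩

end Cfsg.Agent.S0669
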