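import Cfsg.Statements.S0677
import Cfsg.Agent.Lib.PermGp.Burnside
import Cfsg.Agent.S0676

set_option autoImplicit false
open Cfsg

namespace Cfsg.Agent.S0677

/-- In a transitive permutation group of prime degree `p` whose Sylow `p`-normaliser has even order, the point stabilisers are the only subgroups of index `p`. -/
theorem result {α : Type*} [Fintype α] [DecidableEq α] {p : ℕ} [Fact p.Prime] (hα : Fintype.card α = p) (G : Subgroup (Equiv.Perm α)) [MulAction.IsPretransitive G α] (P : Sylow p G) (heven : Even (Nat.card (Subgroup.normalizer ((P : Subgroup G) : Set G)))) (H : Subgroup G) (hH : H.index = p) : ∃ a : α, H = MulAction.stabilizer G a := by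
  classical
  obtain ⟨Q, rfl⟩ : ∃ Q : Sylow p G, Q = P := ⟨P, rfl⟩
  have hppos : 0 < p := Nat.Prime.pos Fact.out
  have hcardH : p * Nat.card H = Nat.card G := by rw [← hH, Subgroup.index_mul_card]
  have hstabcard : ∀ a : α, p * Nat.card (MulAction.stabilizer G a) = Nat.card G := fun a => by
    rw [← PermGp.card_mul_card_stabilizer (G := G) a, Nat.card_eq_fintype_card (α := α), hα]
  have hcop : ∀ (S : Subgroup G), p * Nat.card S = Nat.card G → ¬ p ∣ Nat.card S := fun S hS h =>
    PermGp.not_sq_dvd_card hα G (by rw [pow_two, ← hS]; exact Nat.mul_dvd_mul_left p h)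
  -- equality follows from a fixed point
  have hfix : ∀ a : α, (∀ h ∈ H, h • a = a) → H = MulAction.stabilizer G a := fun a ha =>
    Subgroup.eq_of_le_of_card_ge (fun h hh => ha h hh)
      (Nat.le_of_mul_le_mul_left ((hstabcard a).trans hcardH.symm).le hppos)
  by_cases hG : Group.IsSolvable G
  · -- a normal Sylow subgroup: `H` is cyclic, so it fixes the fixed point of a generator
    obtain ⟨N, hN0, hNn, hNmin⟩ : ∃ N : Subgroup G, N ≠ ⊥ ∧ N.Normal ∧ ∀ u ∈ N, ∀ v ∈ N, u * v = v * u := by
      have hnt : Nontrivial G := by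
        rw [← Finite.one_lt_card_iff_nontrivial]
        have := Nat.le_of_dvd Nat.card_pos (PermGp.prime_dvd_card hα G)
        have := (Fact.out : p.Prime).one_lt
        omega
      obtain ⟨n, hn⟩ := hG
      have hex : ∃ m, derivedSeries G m = ⊥ := ⟨n, hn⟩
      obtain ⟨m, hm⟩ : ∃ m, Nat.find hex = m + 1 := by
        refine Nat.exists_eq_succ_of_ne_zero fun h => ?_
        have := Nat.find_spec hex
        rw [h, derivedSeries_zero] at this
        exact top_ne_bot this
      refine ⟨derivedSeries G m, Nat.find_min hex (by omega), derivedSeries_normal G m, fun u hu v hv => ?_⟩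
      have hb := Nat.find_spec hex
      rw [hm, derivedSeries_succ] at hb
      have := Subgroup.commutator_mem_commutator hu hv
      rw [hb, Subgroup.mem_bot, commutatorElement_eq_one_iff_mul_comm] at this
      exact this
    have : MulAction.IsPreprimitive G α :=
      MulAction.IsPreprimitive.of_prime_card (by rw [Nat.card_eq_fintype_card, hα]; exact Fact.out)
    have hNt : MulAction.IsPretransitive N α := PermGp.normal_transitive N hN0
    have hsemi : ∀ (u : N) (a : α), u • a = a → u = 1 := fun u a ha =>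
      Subtype.ext (PermGp.stabilizer_eq_bot_of_commute N (fun v hv => hNmin u u.2 v hv) ha)
    obtain ⟨x, e, hQ, hx⟩ := PermGp.exists_frame hα G Q
    have hNcard : Nat.card N = p := by
      have := PermGp.card_mul_card_stabilizer (G := N) (e 0)
      rw [show MulAction.stabilizer N (e 0) = ⊥ from (Subgroup.eq_bot_iff_forall _).mpr fun u hu => hsemi u _ hu,
        Subgroup.card_bot, mul_one,
        Nat.card_eq_fintype_card (α := α), hα] at this
      exact this.symm
    have hNQ : (Q : Subgroup G) = N :=
      (Subgroup.eq_of_le_of_card_ge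
        ((IsPGroup.of_card (n := 1) (by rw [hNcard, pow_one])).le_sylow_of_normal Q)
        (by rw [PermGp.card_sylow hα G Q, hNcard])).symm
    have hQn : ∀ g : G, g ∈ Subgroup.normalizer ((Q : Subgroup G) : Set G) := fun g => by
      rw [hNQ, Subgroup.normalizer_eq_top]; trivial
    choose k b hk hkb using fun g : G => PermGp.normalizer_affine hα G hQ hx (hQn g)
    by_cases hbot : ∀ h ∈ H, k h = 1
    · -- `H` meets the translations trivially
      refine ⟨e 0, hfix _ fun h hh => ?_⟩
      have hmem : h ∈ (Q : Subgroup G) := by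
        rw [hQ]
        refine ⟨((b h).val : ℤ), PermGp.perm_ext fun a => ?_⟩
        obtain ⟨i, rfl⟩ := e.surjective a
        rw [PermGp.frame_pow G hx, hkb h, hbot h hh, one_mul, Int.cast_natCast, ZMod.natCast_zmod_val]
      have h1 : orderOf h ∣ p := by rw [← PermGp.card_sylow hα G Q]; exact Subgroup.orderOf_dvd_natCard _ hmem
      have h2 : orderOf h ∣ Nat.card H := Subgroup.orderOf_dvd_natCard _ hh
      rcases (Fact.out : p.Prime).eq_one_or_self_of_dvd _ h1 with h3 | h3
      · rw [orderOf_eq_one_iff.mp h3, one_smul]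
      · exact absurd (h3 ▸ h2) (hcop H hcardH)
    · push Not at hbot
      obtain ⟨h₀, hh₀, hk₀⟩ := hbot
      have hne : (1 : ZMod p) - k h₀ ≠ 0 := sub_ne_zero.mpr (Ne.symm hk₀)
      set i₀ := b h₀ / (1 - k h₀) with hi₀
      have hfix0 : h₀ • e i₀ = e i₀ := by
        rw [hkb]; congr 1; rw [hi₀]; field_simp; ring
      refine ⟨e i₀, hfix _ fun h hh => ?_⟩
      -- commutators of `H` lie in the translations, hence are trivial
      have hc : h₀ * h = h * h₀ := by
        have hmem : h₀ * h * h₀⁻¹ * h⁻¹ ∈ (Q : Subgroup G) := by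
          rw [hQ]
          obtain ⟨n, hn⟩ : ∃ n : ZMod p, ∀ i, (h₀ * h * h₀⁻¹ * h⁻¹) • e i = e (i + n) := by
            refine ⟨k h₀ * b h + b h₀ - k h * b h₀ - b h, fun i => ?_⟩
            obtain ⟨j, rfl⟩ : ∃ j, i = k h * (k h₀ * j + b h₀) + b h := by
              refine ⟨((i - b h) / k h - b h₀) / k h₀, ?_⟩
              have := hk h
              have := hk h₀
              field_simp
              ring
            have e1 : e (k h * (k h₀ * j + b h₀) + b h) = (h * h₀) • e j := by
              rw [mul_smul, hkb, hkb]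
            nth_rewrite 1 [e1]
            rw [← mul_smul, show h₀ * h * h₀⁻¹ * h⁻¹ * (h * h₀) = h₀ * h by group, mul_smul, hkb, hkb]
            congr 1; ring
          refine ⟨(n.val : ℤ), PermGp.perm_ext fun a => ?_⟩
          obtain ⟨i, rfl⟩ := e.surjective a
          rw [PermGp.frame_pow G hx, hn, Int.cast_natCast, ZMod.natCast_zmod_val]
        have hH' : h₀ * h * h₀⁻¹ * h⁻¹ ∈ H :=
          H.mul_mem (H.mul_mem (H.mul_mem hh₀ hh) (H.inv_mem hh₀)) (H.inv_mem hh)
        have h1 : orderOf (h₀ * h * h₀⁻¹ * h⁻¹) ∣ p := by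
          rw [← PermGp.card_sylow hα G Q]; exact Subgroup.orderOf_dvd_natCard _ hmem
        rcases (Fact.out : p.Prime).eq_one_or_self_of_dvd _ h1 with h3 | h3
        · have := orderOf_eq_one_iff.mp h3
          rw [mul_inv_eq_one, mul_inv_eq_iff_eq_mul] at this
          exact this
        · exact absurd (h3 ▸ Subgroup.orderOf_dvd_natCard _ hH') (hcop H hcardH)
      obtain ⟨i₁, hi₁⟩ : ∃ i₁, e i₁ = h • e i₀ := ⟨e.symm (h • e i₀), by simp⟩
      have e2 : h₀ • e i₁ = e i₁ := by rw [hi₁, ← mul_smul, hc, mul_smul, hfix0]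
      rw [hkb] at e2
      have e3 := e.injective e2
      have e4 : i₁ = i₀ := by
        rw [hi₀, eq_div_iff hne]
        linear_combination -e3
      rw [← hi₁, e4]
  · -- three-transitive case: an orbit of `H` gives a three-design on `p` blocks
    have h3 := Cfsg.Agent.S0676.result hα G hG Q heven
    have hp5 := PermGp.five_le_of_not_solvable hα G hG
    obtain ⟨a₀⟩ : Nonempty α := Fintype.card_pos_iff.mp (by omega)
    set B₀ : Finset α := Finset.univ.filter fun y => ∃ h ∈ H, h • a₀ = y with hB₀
    have hB₀H : ∀ h ∈ H, B₀.image (fun w => h • w) = B₀ := by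
      intro h hh
      refine Finset.eq_of_subset_of_card_le ?_ (by
        rw [Finset.card_image_of_injective _ (MulAction.injective h)])
      intro w hw
      simp only [Finset.mem_image, hB₀, Finset.mem_filter, Finset.mem_univ, true_and] at hw ⊢
      obtain ⟨_, ⟨l, hl, rfl⟩, rfl⟩ := hw
      exact ⟨h * l, H.mul_mem hh hl, mul_smul _ _ _⟩
    have hB₀ne : a₀ ∈ B₀ := by
      simp only [hB₀, Finset.mem_filter, Finset.mem_univ, true_and]
      exact ⟨1, H.one_mem, one_smul _ _⟩
    -- `H` is intransitive since a stabiliser has order prime to `p`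
    have hB₀proper : B₀ ≠ Finset.univ := by
      intro hu
      have hHt : MulAction.IsPretransitive H α := (MulAction.isPretransitive_iff_base a₀).mpr fun y => by
        have : y ∈ B₀ := hu ▸ Finset.mem_univ y
        simp only [hB₀, Finset.mem_filter, Finset.mem_univ, true_and] at this
        obtain ⟨h, hh, e⟩ := this
        exact ⟨⟨h, hh⟩, e⟩
      refine hcop H hcardH ⟨Nat.card (MulAction.stabilizer H a₀), ?_⟩
      rw [← PermGp.card_mul_card_stabilizer (G := H) a₀, Nat.card_eq_fintype_card (α := α), hα]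
    -- a fixed block, of size at most half the degree
    obtain ⟨B, hBH, hB1, hB2⟩ : ∃ B : Finset α, (∀ h ∈ H, B.image (fun w => h • w) = B) ∧
        1 ≤ B.card ∧ 2 * B.card ≤ p := by
      by_cases hsz : 2 * B₀.card ≤ p
      · exact ⟨B₀, hB₀H, Finset.card_pos.mpr ⟨a₀, hB₀ne⟩, hsz⟩
      refine ⟨Finset.univ \ B₀, fun h hh => ?_, ?_, ?_⟩
      · rw [Finset.image_sdiff _ _ (MulAction.injective h), hB₀H h hh,
          Finset.image_univ_of_surjective (MulAction.surjective h)]
      · rw [Nat.one_le_iff_ne_zero, Ne, Finset.card_eq_zero, Finset.sdiff_eq_empty_iff_subset]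
        exact fun hh => hB₀proper (Finset.eq_univ_iff_forall.mpr fun w => hh (Finset.mem_univ w))
      · rw [Finset.card_sdiff, Finset.inter_univ, Finset.card_univ, hα]; omega
    rcases Nat.lt_or_ge B.card 2 with h1 | hk2
    · obtain ⟨a, rfl⟩ := Finset.card_eq_one.mp (show B.card = 1 by omega)
      refine ⟨a, hfix a fun h hh => ?_⟩
      simpa using hBH h hh
    exfalso
    -- the blocks
    let blocks : Finset (Finset α) := Finset.univ.image fun g : G => B.image fun w => g • w
    have hblocks : blocks.card ≤ p := by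
      let f : G ⧸ H → Finset α := Quotient.lift (fun g : G => B.image fun w => g • w) fun g g' hgg => by
        have hmem : g⁻¹ * g' ∈ H := QuotientGroup.leftRel_apply.mp hgg
        conv_rhs => rw [show g' = g * (g⁻¹ * g') by group]
        rw [← (show (B.image fun w => (g⁻¹ * g') • w).image (fun w => g • w) =
            B.image fun w => (g * (g⁻¹ * g')) • w by rw [Finset.image_image]; simp [Function.comp_def, mul_smul]),
          hBH _ hmem]
      have hsub : blocks ⊆ (Finset.univ : Finset (G ⧸ H)).image f := by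
        intro s hs
        obtain ⟨g, -, rfl⟩ := Finset.mem_image.mp hs
        exact Finset.mem_image.mpr ⟨QuotientGroup.mk g, Finset.mem_univ _, rfl⟩
      refine (Finset.card_le_card hsub).trans (Finset.card_image_le.trans ?_)
      rw [Finset.card_univ, ← Nat.card_eq_fintype_card, ← Subgroup.index, hH]
    have hbinv : ∀ (g : G), ∀ s ∈ blocks, s.image (fun w => g • w) ∈ blocks := by
      intro g s hs
      obtain ⟨k, -, rfl⟩ := Finset.mem_image.mp hs
      exact Finset.mem_image.mpr ⟨g * k, Finset.mem_univ _, by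
        rw [Finset.image_image]; simp [Function.comp_def, mul_smul]⟩
    have hbmem : ∀ s ∈ blocks, s.card = B.card := by
      intro s hs
      obtain ⟨k, -, rfl⟩ := Finset.mem_image.mp hs
      exact Finset.card_image_of_injective _ (MulAction.injective k)
    have h1t : MulAction.IsPretransitive G α := inferInstance
    -- three-transitivity in elementwise form
    have h3e : ∀ {a b c a' b' c' : α}, a ≠ b → a ≠ c → b ≠ c → a' ≠ b' → a' ≠ c' → b' ≠ c' →
        ∃ g : G, g • a = a' ∧ g • b = b' ∧ g • c = c' := by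
      intro a b c a' b' c' h1 h2 h4 h5 h6 h7
      have i1 : Function.Injective ![a, b, c] := by
        intro i j h; fin_cases i <;> fin_cases j <;> simp_all
      have i2 : Function.Injective ![a', b', c'] := by
        intro i j h; fin_cases i <;> fin_cases j <;> simp_all
      obtain ⟨g, hg⟩ := h3.exists_smul_eq (⟨_, i1⟩ : Fin 3 ↪ α) ⟨_, i2⟩
      exact ⟨g, DFunLike.congr_fun hg 0, DFunLike.congr_fun hg 1, DFunLike.congr_fun hg 2⟩
    have hmove : ∀ (g : G) (P : Finset α → Prop) (R : Finset α → Prop) [DecidablePred P] [DecidablePred R],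
        (∀ s, P s → R (s.image fun w => g • w)) → (blocks.filter P).card ≤ (blocks.filter R).card := by
      intro g P R _ _ h
      refine Finset.card_le_card_of_injOn (fun s => s.image fun w => g • w) (fun s hs => ?_) ?_
      · obtain ⟨h1, h2⟩ := Finset.mem_filter.mp hs
        exact Finset.mem_filter.mpr ⟨hbinv g s h1, h s h2⟩
      · exact fun s _ s' _ he => Finset.image_injective (MulAction.injective g) he
    -- the numbers of blocks through two and through three points
    obtain ⟨b₀, hb₀⟩ : ∃ b, b ≠ a₀ :=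
      Fintype.exists_ne_of_one_lt_card (by omega) a₀
    obtain ⟨c₀, hc₀⟩ := Fintype.exists_ne_of_one_lt_card (show 1 < Fintype.card {x : α // x ≠ a₀} by
      rw [Fintype.card_subtype_compl]; simp only [Fintype.card_unique]; omega) ⟨b₀, hb₀⟩
    obtain ⟨c₀, hca⟩ := c₀
    replace hc₀ : c₀ ≠ b₀ := fun h => hc₀ (Subtype.ext h)
    let T := blocks.filter fun s => a₀ ∈ s
    set l2 := (blocks.filter fun s => a₀ ∈ s ∧ b₀ ∈ s).card with hl2
    set l3 := (blocks.filter fun s => a₀ ∈ s ∧ b₀ ∈ s ∧ c₀ ∈ s).card with hl3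
    have hpair : ∀ {y : α}, y ≠ a₀ → (blocks.filter fun s => a₀ ∈ s ∧ y ∈ s).card = l2 := by
      intro y hy
      obtain ⟨z, hz⟩ := Fintype.exists_ne_of_one_lt_card (show 1 < Fintype.card {x : α // x ≠ a₀} by
        rw [Fintype.card_subtype_compl]; simp only [Fintype.card_unique]; omega) ⟨y, hy⟩
      have hz' : z.1 ≠ y := fun h => hz (Subtype.ext h)
      obtain ⟨g, g1, g2, -⟩ := h3e (Ne.symm hy) (Ne.symm z.2) hz'.symm (Ne.symm hb₀) (Ne.symm hca) (Ne.symm hc₀)
      obtain ⟨k, k1, k2, -⟩ := h3e (Ne.symm hb₀) (Ne.symm hca) (Ne.symm hc₀) (Ne.symm hy) (Ne.symm z.2) hz'.symm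
      exact le_antisymm
        (hmove g _ _ fun s hs => ⟨Finset.mem_image.mpr ⟨_, hs.1, g1⟩, Finset.mem_image.mpr ⟨_, hs.2, g2⟩⟩)
        (hmove k _ _ fun s hs => ⟨Finset.mem_image.mpr ⟨_, hs.1, k1⟩, Finset.mem_image.mpr ⟨_, hs.2, k2⟩⟩)
    have htriple : ∀ {y z : α}, y ≠ a₀ → z ≠ a₀ → y ≠ z →
        (blocks.filter fun s => a₀ ∈ s ∧ y ∈ s ∧ z ∈ s).card = l3 := by
      intro y z hy hz hyz
      obtain ⟨g, g1, g2, g3⟩ := h3e (Ne.symm hy) (Ne.symm hz) hyz (Ne.symm hb₀) (Ne.symm hca) (Ne.symm hc₀)
      obtain ⟨k, k1, k2, k3⟩ := h3e (Ne.symm hb₀) (Ne.symm hca) (Ne.symm hc₀) (Ne.symm hy) (Ne.symm hz) hyz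
      exact le_antisymm
        (hmove g _ _ fun s hs => ⟨Finset.mem_image.mpr ⟨_, hs.1, g1⟩, Finset.mem_image.mpr ⟨_, hs.2.1, g2⟩,
          Finset.mem_image.mpr ⟨_, hs.2.2, g3⟩⟩)
        (hmove k _ _ fun s hs => ⟨Finset.mem_image.mpr ⟨_, hs.1, k1⟩, Finset.mem_image.mpr ⟨_, hs.2.1, k2⟩,
          Finset.mem_image.mpr ⟨_, hs.2.2, k3⟩⟩)
    -- some block contains `a₀` and `b₀` but not `c₀`
    have hlt : l3 < l2 := by
      obtain ⟨u, hu, v, hv, huv⟩ := Finset.one_lt_card.mp (show 1 < B.card by omega)
      obtain ⟨w, hw⟩ : ∃ w, w ∉ B := by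
        by_contra! hall
        have : B = Finset.univ := Finset.eq_univ_iff_forall.mpr hall
        rw [this, Finset.card_univ, hα] at hB2; omega
      obtain ⟨g, g1, g2, g3⟩ := h3e huv (show u ≠ w from fun h => hw (h ▸ hu))
        (show v ≠ w from fun h => hw (h ▸ hv)) (Ne.symm hb₀) (Ne.symm hca) (Ne.symm hc₀)
      refine Finset.card_lt_card ((Finset.ssubset_iff_of_subset ?_).mpr
        ⟨B.image (fun z => g • z), ?_, ?_⟩)
      · intro s hs
        simp only [Finset.mem_filter] at hs ⊢
        exact ⟨hs.1, hs.2.1, hs.2.2.1⟩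
      · exact Finset.mem_filter.mpr ⟨Finset.mem_image.mpr ⟨g, Finset.mem_univ _, rfl⟩,
          Finset.mem_image.mpr ⟨u, hu, g1⟩, Finset.mem_image.mpr ⟨v, hv, g2⟩⟩
      · intro hs
        obtain ⟨z, hz, hzc⟩ := Finset.mem_image.mp (Finset.mem_filter.mp hs).2.2.2
        exact hw (by rw [← MulAction.injective g (hzc.trans g3.symm)]; exact hz)
    -- incidence vectors of the other points are independent over the rationals
    have hind : LinearIndependent ℚ (fun y : {y : α // y ≠ a₀} => fun s : ↥T => if y.1 ∈ s.1 then (1 : ℚ) else 0) := by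
      rw [Fintype.linearIndependent_iff]
      intro c hc
      have hip : ∀ y z : {y : α // y ≠ a₀},
          ∑ s : ↥T, (if y.1 ∈ s.1 then (1 : ℚ) else 0) * (if z.1 ∈ s.1 then 1 else 0) =
            (l3 : ℚ) + if y = z then (l2 : ℚ) - l3 else 0 := by
        intro y z
        rw [Finset.sum_coe_sort T (fun s : Finset α => (if y.1 ∈ s then (1 : ℚ) else 0) * (if z.1 ∈ s then 1 else 0))]
        simp only [ite_mul, one_mul, zero_mul, ← ite_and, Finset.sum_boole, T, Finset.filter_filter]
        by_cases hyz : y = z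
        · subst hyz
          rw [if_pos rfl]
          simp only [and_self]
          rw [hpair y.2]; ring
        · rw [if_neg hyz, add_zero]
          exact_mod_cast htriple y.2 z.2 fun h => hyz (Subtype.ext h)
      have hrel : ∀ z, (∑ y, c y) * (l3 : ℚ) + c z * ((l2 : ℚ) - l3) = 0 := by
        intro z
        have e := congrArg (fun F : ↥T → ℚ => ∑ s : ↥T, F s * (if z.1 ∈ s.1 then (1 : ℚ) else 0)) hc
        simp only [Finset.sum_apply, Pi.smul_apply, smul_eq_mul, Pi.zero_apply, zero_mul,
          Finset.sum_const_zero, Finset.sum_mul] at e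
        rw [Finset.sum_comm] at e
        simp only [mul_assoc, ← Finset.mul_sum, hip] at e
        simp only [mul_add, Finset.sum_add_distrib, mul_ite, mul_zero,
          Finset.sum_ite_eq', Finset.mem_univ, if_true] at e
        rw [Finset.sum_mul]
        exact e
      have hsum : ∑ y, c y = 0 := by
        have hs : ∑ z : {y : α // y ≠ a₀}, ((∑ y, c y) * (l3 : ℚ) + c z * ((l2 : ℚ) - l3)) = 0 :=
          Finset.sum_eq_zero fun z _ => hrel z
        rw [Finset.sum_add_distrib, ← Finset.sum_mul, ← Finset.sum_mul, Finset.sum_const,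
          Finset.card_univ, nsmul_eq_mul] at hs
        have hn : (1 : ℚ) ≤ Fintype.card {y : α // y ≠ a₀} := by
          exact_mod_cast Fintype.card_pos_iff.mpr ⟨(⟨b₀, hb₀⟩ : {y : α // y ≠ a₀})⟩
        have hpos : (0 : ℚ) < (Fintype.card {y : α // y ≠ a₀} : ℚ) * l3 + ((l2 : ℚ) - l3) := by
          have hl : (l3 : ℚ) + 1 ≤ l2 := by exact_mod_cast hlt
          have : (0 : ℚ) ≤ (l3 : ℚ) := Nat.cast_nonneg l3
          have : (0 : ℚ) ≤ (Fintype.card {y : α // y ≠ a₀} : ℚ) * l3 := by positivity
          linarith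
        rcases mul_eq_zero.mp (show (∑ y, c y) *
            ((Fintype.card {y : α // y ≠ a₀} : ℚ) * l3 + ((l2 : ℚ) - l3)) = 0 by linear_combination hs) with h | h
        · exact h
        · exact absurd h hpos.ne'
      intro z
      have := hrel z
      rw [hsum, zero_mul, zero_add] at this
      refine (mul_eq_zero.mp this).resolve_right (sub_ne_zero.mpr ?_)
      exact_mod_cast hlt.ne'
    have hdim := hind.fintype_card_le_finrank
    rw [Module.finrank_fintype_fun_eq_card, Fintype.card_subtype_compl, Fintype.card_coe, hα,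
      Fintype.card_unique] at hdim
    -- but there are only `B.card` blocks through `a₀`
    have hincid : ∀ y, (blocks.filter fun s => y ∈ s).card = T.card := by
      intro y
      obtain ⟨g, hg⟩ := MulAction.exists_smul_eq G y a₀
      exact le_antisymm (hmove g _ _ fun s hs => Finset.mem_image.mpr ⟨_, hs, hg⟩)
        (hmove g⁻¹ _ _ fun s hs => Finset.mem_image.mpr ⟨_, hs, by rw [← hg, inv_smul_smul]⟩)
    have hcount : p * T.card = blocks.card * B.card := by
      have := Finset.sum_card_bipartiteAbove_eq_sum_card_bipartiteBelow (s := (Finset.univ : Finset α))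
        (t := blocks) (fun (y : α) (s : Finset α) => y ∈ s)
      simp only [Finset.bipartiteAbove, Finset.bipartiteBelow, Finset.filter_mem_eq_inter,
        Finset.univ_inter] at this
      rw [Finset.sum_congr rfl (fun y _ => hincid y), Finset.sum_congr rfl hbmem, Finset.sum_const,
        Finset.sum_const, Finset.card_univ, hα, smul_eq_mul, smul_eq_mul] at this
      exact this
    have : p * T.card ≤ p * B.card := hcount ▸ Nat.mul_le_mul_right _ hblocks
    have := Nat.le_of_mul_le_mul_left this hppos
    omega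

end Cfsg.Agent.S0677
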