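import Cfsg.Statements.S0681
import Cfsg.Agent.Lib.PermGp.Basic

set_option autoImplicit false
open Cfsg

namespace Cfsg.Agent.S0681

/-- The affine maps `x ↦ x * a + b`, `a ≠ 0`, of a near-field form a sharply doubly transitive permutation group. -/
theorem result {F : Type*} [Cfsg.NearField F] : ∃ H : Subgroup (Equiv.Perm F), (∀ σ : Equiv.Perm F, σ ∈ H ↔ ∃ a b : F, a ≠ 0 ∧ ∀ x : F, σ x = x * a + b) ∧ MulAction.IsMultiplyPretransitive H F 2 ∧ ∀ x : Fin 2 ↪ F, MulAction.stabilizer H x = ⊥ := by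
  have hrd : ∀ a b c : F, (a + b) * c = a * c + b * c := NearField.right_distrib
  have hzm : ∀ c : F, (0 : F) * c = 0 := fun c => by
    have := hrd 0 0 c
    rw [add_zero] at this
    simpa using this.symm
  have hne : ∀ a b : F, a ≠ 0 → b ≠ 0 → a * b ≠ 0 := by
    intro a b ha hb h
    obtain ⟨c, hc, -⟩ := NearField.exists_inv b hb
    apply ha
    rw [← mul_one a, ← hc, ← mul_assoc, h, hzm]
  have hneg : ∀ a c : F, (-a) * c = -(a * c) := fun a c => by
    rw [eq_neg_iff_add_eq_zero, ← hrd, neg_add_cancel, hzm]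
  let H : Subgroup (Equiv.Perm F) :=
  { carrier := {σ | ∃ a b : F, a ≠ 0 ∧ ∀ x : F, σ x = x * a + b}
    one_mem' := ⟨1, 0, fun h => NearField.zero_ne_one h.symm, fun x => by simp⟩
    mul_mem' := by
      rintro σ τ ⟨a, b, ha, hσ⟩ ⟨c, d, hc, hτ⟩
      exact ⟨c * a, d * a + b, hne c a hc ha, fun x => by
        rw [Equiv.Perm.mul_apply, hτ, hσ, hrd, mul_assoc, add_assoc]⟩
    inv_mem' := by
      rintro σ ⟨a, b, ha, hσ⟩
      obtain ⟨c, hac, hca⟩ := NearField.exists_inv a ha
      have hc : c ≠ 0 := fun h => NearField.zero_ne_one (by rw [← hac, h, NearField.mul_zero])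
      refine ⟨c, (-b) * c, hc, fun x => ?_⟩
      apply σ.injective
      rw [Equiv.Perm.inv_def, Equiv.apply_symm_apply, hσ, ← hrd, mul_assoc, hca, mul_one,
        neg_add_cancel_right] }
  refine ⟨H, fun σ => Iff.rfl, ?_, ?_⟩
  · rw [MulAction.is_two_pretransitive_iff]
    have key : ∀ c d : F, c ≠ d → ∃ g : H, g • (0 : F) = c ∧ g • (1 : F) = d := by
      intro c d hcd
      have ha : d + -c ≠ 0 := by
        rw [← sub_eq_add_neg, sub_ne_zero]; exact hcd.symm
      obtain ⟨a', haa, ha'a⟩ := NearField.exists_inv _ ha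
      let σ : Equiv.Perm F :=
      { toFun := fun x => x * (d + -c) + c
        invFun := fun x => (x + -c) * a'
        left_inv := fun x => by simp [mul_assoc, haa]
        right_inv := fun x => by simp [mul_assoc, ha'a] }
      refine ⟨⟨σ, d + -c, c, ha, fun x => rfl⟩, ?_, ?_⟩
      · show (0 : F) * (d + -c) + c = c
        rw [hzm, zero_add]
      · show (1 : F) * (d + -c) + c = d
        rw [one_mul, neg_add_cancel_right]
    intro a b c d hab hcd
    obtain ⟨g, hg0, hg1⟩ := key a b hab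
    obtain ⟨g', hg0', hg1'⟩ := key c d hcd
    exact ⟨g' * g⁻¹, by rw [← hg0, mul_smul, inv_smul_smul, hg0'],
      by rw [← hg1, mul_smul, inv_smul_smul, hg1']⟩
  · intro x
    rw [Subgroup.eq_bot_iff_forall]
    rintro ⟨σ, a, b, ha, hσ⟩ hg
    have h0 : ∀ i, σ (x i) = x i := fun i => DFunLike.congr_fun hg i
    have e0 := h0 0
    have e1 := h0 1
    rw [hσ] at e0 e1
    have hne01 : x 0 + -x 1 ≠ 0 := by
      rw [← sub_eq_add_neg, sub_ne_zero]
      exact fun h => absurd (x.injective h) (by simp)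
    have e2 : (x 0 + -x 1) * a = x 0 + -x 1 := by
      rw [hrd, hneg]
      conv_rhs => rw [← e0, ← e1]
      rw [neg_add_rev, add_assoc, add_neg_cancel_left]
    obtain ⟨c, -, hc⟩ := NearField.exists_inv _ hne01
    have ha1 : a = 1 := by
      have := congrArg (fun t => c * t) e2
      simpa [← mul_assoc, hc] using this
    have hb : b = 0 := by
      rw [ha1, mul_one] at e0
      simpa using e0
    exact Subtype.ext (Equiv.ext fun y => by simp [hσ, ha1, hb])

end Cfsg.Agent.S0681
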