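import Cfsg.Statements.S0682
import Cfsg.Agent.Lib.PermGp.Basic

set_option autoImplicit false
open Cfsg

namespace Cfsg.Agent.S0682

/-- A finite near-field has prime-power order; its additive group is commutative of prime exponent. -/
theorem result {F : Type*} [Cfsg.NearField F] [Finite F] : ∃ p j : ℕ, p.Prime ∧ 1 ≤ j ∧ Nat.card F = p ^ j ∧ (∀ x y : F, x + y = y + x) ∧ ∀ x : F, p • x = 0 := by
  classical
  have := Fintype.ofFinite F
  have : Nontrivial F := ⟨0, 1, NearField.zero_ne_one⟩
  let M : F → F →+ F := fun c => AddMonoidHom.mk' (fun x => x * c) fun a b => NearField.right_distrib a b c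
  have htr : ∀ u v : F, u ≠ 0 → ∃ c : F, M c u = v ∧ (v ≠ 0 → Function.Injective (M c)) := by
    intro u v hu
    obtain ⟨u', h1, h2⟩ := NearField.exists_inv u hu
    refine ⟨u' * v, by show u * (u' * v) = v; rw [← mul_assoc, h1, one_mul], fun hv => ?_⟩
    obtain ⟨v', g1, g2⟩ := NearField.exists_inv v hv
    refine Function.LeftInverse.injective (g := fun x => x * (v' * u)) fun x => ?_
    show x * (u' * v) * (v' * u) = x
    rw [← mul_assoc (x * (u' * v)), mul_assoc x (u' * v) v', mul_assoc u' v v', g1, mul_one, mul_assoc,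
      h2, mul_one]
  have hord : ∀ u : F, u ≠ 0 → addOrderOf u = addOrderOf (1 : F) := by
    intro u hu
    obtain ⟨c, hc, hi⟩ := htr u 1 hu
    rw [← addOrderOf_injective (M c) (hi NearField.zero_ne_one.symm) u, hc]
  have hp : (addOrderOf (1 : F)).Prime := by
    have h1 : addOrderOf (1 : F) ≠ 1 := by simpa using (NearField.zero_ne_one (F := F)).symm
    obtain ⟨q, hq, hdvd⟩ := Nat.exists_prime_and_dvd h1
    obtain ⟨m, hm⟩ := hdvd
    have hpos := addOrderOf_pos (1 : F)
    have hm0 : 0 < m := by
      rcases Nat.eq_zero_or_pos m with rfl | h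
      · simp [hm] at hpos
      · exact h
    have hlt : m < addOrderOf (1 : F) := by rw [hm]; exact (lt_mul_iff_one_lt_left hm0).mpr hq.one_lt
    have hne : m • (1 : F) ≠ 0 := nsmul_ne_zero_of_lt_addOrderOf hm0.ne' hlt
    have he := hord _ hne
    have hz : q • (m • (1 : F)) = 0 := by
      rw [← mul_nsmul', ← hm, addOrderOf_nsmul_eq_zero]
    haveI : Fact q.Prime := ⟨hq⟩
    rw [← he, addOrderOf_eq_prime_iff.mpr ⟨hz, hne⟩]
    exact hq
  set p := addOrderOf (1 : F) with hpdef
  haveI : Fact p.Prime := ⟨hp⟩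
  have hexp : ∀ x : F, p • x = 0 := by
    intro x
    by_cases hx : x = 0
    · simp [hx]
    · rw [← hord x hx]; exact addOrderOf_nsmul_eq_zero x
  have hpg : IsPGroup p (Multiplicative F) := fun g => ⟨1, by rw [pow_one]; exact congrArg Multiplicative.ofAdd (hexp g.toAdd)⟩
  obtain ⟨j, hj⟩ := hpg.exists_card_eq
  rw [show Nat.card (Multiplicative F) = Nat.card F from rfl] at hj
  refine ⟨p, j, hp, ?_, hj, ?_, hexp⟩
  · rcases Nat.eq_zero_or_pos j with rfl | h
    · rw [pow_zero] at hj
      have : 1 < Nat.card F := Finite.one_lt_card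
      omega
    · exact h
  · have : Nontrivial (Multiplicative F) := inferInstanceAs (Nontrivial F)
    have := hpg.center_nontrivial
    obtain ⟨⟨z, hz⟩, hz1⟩ := exists_ne (1 : Subgroup.center (Multiplicative F))
    have hz' : z.toAdd ≠ 0 := fun h => hz1 (Subtype.ext (by simpa using congrArg Multiplicative.ofAdd h))
    have hzc : ∀ w : F, w + z.toAdd = z.toAdd + w := fun w => congrArg Multiplicative.toAdd
      (Subgroup.mem_center_iff.mp hz (Multiplicative.ofAdd w))
    intro x y
    by_cases hx : x = 0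
    · simp [hx]
    · obtain ⟨c, hc, hi⟩ := htr z.toAdd x hz'
      obtain ⟨w, hw⟩ := (Finite.injective_iff_surjective.mp (hi hx)) y
      rw [← hw, ← hc, ← map_add, ← map_add, hzc]

end Cfsg.Agent.S0682
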