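import Cfsg.Statements.S0683
import Cfsg.Agent.Lib.PermGp.SharplyTwo

set_option autoImplicit false
open Cfsg

namespace Cfsg.Agent.S0683

/-- A finite sharply doubly transitive permutation group is the affine group of a near-field: the permuted set carries a near-field structure for which the group consists exactly of the maps `x ↦ x * a + b` with `a ≠ 0`. -/
theorem result {α : Type*} [Fintype α] [DecidableEq α] (H : Subgroup (Equiv.Perm α)) [MulAction.IsMultiplyPretransitive H α 2] (hsharp : ∀ x : Fin 2 ↪ α, MulAction.stabilizer H x = ⊥) (h2 : 2 ≤ Fintype.card α) : ∃ _ : Cfsg.NearField α, ∀ σ : Equiv.Perm α, σ ∈ H ↔ ∃ a b : α, a ≠ 0 ∧ ∀ x : α, σ x = x * a + b := by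
  classical
  obtain ⟨p, j, hp, hj, hn⟩ := PermGp.sharp_exists_prime_pow H hsharp h2
  haveI := Fact.mk hp
  obtain ⟨P⟩ : Nonempty (Sylow p H) := inferInstance
  obtain ⟨hnorm, hcomm, -, htr, hsemi, -⟩ := PermGp.sharp_structure H hsharp h2 hj hn P
  have hfix := fun {a b : α} (hab : a ≠ b) {g : H} => PermGp.sharp_fix_two H hsharp h2 hab (g := g)
  obtain ⟨a₀, a₁, h01⟩ := Fintype.exists_pair_of_one_lt_card (show 1 < Fintype.card α by omega)
  have hinj : ∀ u v : (P : Subgroup H), u • a₀ = v • a₀ → u = v := by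
    intro u v h
    have : v⁻¹ * u ∈ MulAction.stabilizer (P : Subgroup H) a₀ := by
      rw [MulAction.mem_stabilizer_iff, mul_smul, inv_smul_eq_iff]; exact h
    rw [hsemi, Subgroup.mem_bot, inv_mul_eq_one] at this
    exact this.symm
  choose τ hτ using fun x : α => MulAction.exists_smul_eq (P : Subgroup H) a₀ x
  have hτu : ∀ (u : (P : Subgroup H)) (x : α), u • a₀ = x → τ x = u := fun u x h =>
    hinj _ _ ((hτ x).trans h.symm)
  have hex : ∀ y : α, y ≠ a₀ → ∃ g : H, g • a₀ = a₀ ∧ g • a₁ = y := fun y hy =>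
    PermGp.two_trans_exists (inferInstance : MulAction.IsMultiplyPretransitive H α 2) h01 (Ne.symm hy)
  choose! ρ hρ0 hρ1 using hex
  have hρu : ∀ g : H, g • a₀ = a₀ → ρ (g • a₁) = g := by
    intro g hg
    have hne : g • a₁ ≠ a₀ := fun h => h01 (MulAction.injective g (hg.trans h.symm))
    have e0 : (g⁻¹ * ρ (g • a₁)) • a₀ = a₀ := by rw [mul_smul, hρ0 _ hne, inv_smul_eq_iff, hg]
    have e1 : (g⁻¹ * ρ (g • a₁)) • a₁ = a₁ := by rw [mul_smul, hρ1 _ hne, inv_smul_smul]
    exact (inv_mul_eq_one.mp (hfix h01 e0 e1)).symm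
  let add : α → α → α := fun x y => (τ x * τ y) • a₀
  let mul : α → α → α := fun x y => if y = a₀ then a₀ else ρ y • x
  have hmul0 : ∀ x, mul x a₀ = a₀ := fun x => if_pos rfl
  have hmul : ∀ x {y}, y ≠ a₀ → mul x y = ρ y • x := fun x y hy => if_neg hy
  have h0mul : ∀ y, mul a₀ y = a₀ := fun y => by
    by_cases hy : y = a₀
    · rw [hy, hmul0]
    · rw [hmul _ hy, hρ0 _ hy]
  have hone : ρ a₁ = 1 := by simpa using hρu 1 (one_smul _ _)
  have hρmul : ∀ y z, y ≠ a₀ → z ≠ a₀ → ρ (ρ z • y) = ρ z * ρ y := by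
    intro y z hy hz
    have := hρu (ρ z * ρ y) (by rw [mul_smul, hρ0 y hy, hρ0 z hz])
    rwa [mul_smul, hρ1 y hy] at this
  have hneq : ∀ y z, y ≠ a₀ → z ≠ a₀ → ρ z • y ≠ a₀ := fun y z hy hz h =>
    hy (MulAction.injective (ρ z) (h.trans (hρ0 z hz).symm))
  have hτadd : ∀ x y, τ (add x y) = τ x * τ y := fun x y => hτu _ _ rfl
  have hτ0 : τ a₀ = 1 := hτu 1 a₀ (one_smul _ _)
  let neg : α → α := fun x => (τ x)⁻¹ • a₀
  let instAG : AddGroup α := @AddGroup.ofLeftAxioms α ⟨add⟩ ⟨neg⟩ ⟨a₀⟩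
    (fun x y z => by
      show add (add x y) z = add x (add y z)
      show (τ (add x y) * τ z) • a₀ = (τ x * τ (add y z)) • a₀
      rw [hτadd, hτadd, mul_assoc])
    (fun x => by
      show (τ a₀ * τ x) • a₀ = x
      rw [hτ0, one_mul, hτ])
    (fun x => by
      show (τ (neg x) * τ x) • a₀ = a₀
      rw [hτu (τ x)⁻¹ (neg x) rfl, inv_mul_cancel, one_smul])
  let instM : Monoid α :=
    { mul := mul
      one := a₁
      mul_assoc := fun x y z => by
        show mul (mul x y) z = mul x (mul y z)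
        by_cases hz : z = a₀
        · rw [hz, hmul0, hmul0, hmul0]
        by_cases hy : y = a₀
        · rw [hy, hmul0, h0mul, hmul0]
        rw [hmul _ hz, hmul _ hy, hmul y hz, hmul _ (hneq y z hy hz), hρmul y z hy hz, mul_smul]
      one_mul := fun y => by
        show mul a₁ y = y
        by_cases hy : y = a₀
        · rw [hy, hmul0]
        · rw [hmul _ hy, hρ1 _ hy]
      mul_one := fun x => by
        show mul x a₁ = x
        rw [hmul _ h01.symm, hone, one_smul] }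
  have hdistrib : ∀ a b c, mul (add a b) c = add (mul a c) (mul b c) := by
    intro a b c
    by_cases hc : c = a₀
    · rw [hc, hmul0, hmul0, hmul0]
      show a₀ = (τ a₀ * τ a₀) • a₀
      rw [hτ0, one_mul, one_smul]
    rw [hmul _ hc, hmul _ hc, hmul _ hc]
    have hg : (ρ c)⁻¹ • a₀ = a₀ := by rw [inv_smul_eq_iff, hρ0 _ hc]
    have conj : ∀ u : (P : Subgroup H),
        τ (ρ c • u • a₀) = ⟨ρ c * (u : H) * (ρ c)⁻¹, hnorm.conj_mem _ u.2 _⟩ := by
      intro u
      refine hτu _ _ ?_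
      show (ρ c * (u : H) * (ρ c)⁻¹) • a₀ = ρ c • u • a₀
      rw [mul_smul, mul_smul, hg]
      rfl
    have ea := conj (τ a)
    have eb := conj (τ b)
    rw [hτ] at ea eb
    show ρ c • (τ a * τ b) • a₀ = (τ (ρ c • a) * τ (ρ c • b)) • a₀
    rw [ea, eb]
    show ρ c • (((τ a : H) * (τ b : H)) • a₀) = (ρ c * (τ a : H) * (ρ c)⁻¹ * (ρ c * (τ b : H) * (ρ c)⁻¹)) • a₀
    rw [show ρ c * (τ a : H) * (ρ c)⁻¹ * (ρ c * (τ b : H) * (ρ c)⁻¹)
        = ρ c * ((τ a : H) * (τ b : H)) * (ρ c)⁻¹ by group]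
    simp only [mul_smul, hg]
  let nf : Cfsg.NearField α :=
    { toAddGroup := instAG
      toMonoid := instM
      right_distrib := hdistrib
      mul_zero := hmul0
      zero_ne_one := h01
      exists_inv := fun y hy => by
        have hy' : y ≠ a₀ := hy
        have hg : (ρ y)⁻¹ • a₀ = a₀ := by rw [inv_smul_eq_iff, hρ0 _ hy']
        have hz : (ρ y)⁻¹ • a₁ ≠ a₀ := fun h => h01 (MulAction.injective _ (hg.trans h.symm))
        refine ⟨(ρ y)⁻¹ • a₁, ?_, ?_⟩
        · show mul y ((ρ y)⁻¹ • a₁) = a₁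
          rw [hmul _ hz, hρu _ hg, inv_smul_eq_iff, hρ1 _ hy']
        · show mul ((ρ y)⁻¹ • a₁) y = a₁
          rw [hmul _ hy', smul_inv_smul] }
  refine ⟨nf, fun σ => ?_⟩
  have hadd : ∀ x b, add x b = τ b • x := fun x b => by
    show (τ x * τ b) • a₀ = τ b • x
    have e : τ x * τ b = τ b * τ x := Subtype.ext (hcomm _ (τ x).2 _ (τ b).2)
    rw [e, mul_smul, hτ]
  constructor
  · intro hσ
    let g : H := ((τ (σ a₀) : H))⁻¹ * ⟨σ, hσ⟩
    have hg : g • a₀ = a₀ := by
      show (((τ (σ a₀) : H))⁻¹ * ⟨σ, hσ⟩) • a₀ = a₀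
      rw [mul_smul, inv_smul_eq_iff]
      exact (hτ (σ a₀)).symm
    have hne : g • a₁ ≠ a₀ := fun h => h01 (MulAction.injective g (hg.trans h.symm))
    refine ⟨g • a₁, σ a₀, hne, fun x => ?_⟩
    show σ x = add (mul x (g • a₁)) (σ a₀)
    rw [hadd, hmul _ hne, hρu g hg]
    show σ x = (τ (σ a₀) : H) • (((τ (σ a₀) : H))⁻¹ * ⟨σ, hσ⟩) • x
    rw [mul_smul, smul_inv_smul]
    rfl
  · rintro ⟨a, b, ha, h⟩
    have ha' : a ≠ a₀ := ha
    have e : σ = (((τ b : H) * ρ a : H) : Equiv.Perm α) := by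
      ext x
      rw [h x]
      show add (mul x a) b = ((τ b : H) * ρ a) • x
      rw [hadd, hmul _ ha', mul_smul]
      rfl
    rw [e]
    exact SetLike.coe_mem _

end Cfsg.Agent.S0683
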