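import Cfsg.Statements.S0689
import Cfsg.Agent.Lib.Zassenhaus.Regular

set_option autoImplicit false
open Cfsg

namespace Cfsg.Agent.S0689

/-- The insoluble sharply doubly transitive groups: a non-solvable linear group over the prime field that is regular on the non-zero vectors of `V` occurs only for `|V| = 11², 29², 59²`, and is `SL(2,5) × C_m` with `m = 1, 7, 29` respectively. -/
theorem result {p : ℕ} [Fact p.Prime] {V : Type*} [AddCommGroup V] [Module (ZMod p) V] [Finite V] (H : Subgroup (V ≃ₗ[ZMod p] V)) (hreg : ∀ v w : V, v ≠ 0 → w ≠ 0 → ∃! h : H, (h : V ≃ₗ[ZMod p] V) v = w) (hsolv : ¬ Group.IsSolvable H) : (Nat.card V = 121 ∧ Nonempty (H ≃* Matrix.SpecialLinearGroup (Fin 2) (ZMod 5))) ∨ (Nat.card V = 841 ∧ Nonempty (H ≃* Matrix.SpecialLinearGroup (Fin 2) (ZMod 5) × Multiplicative (ZMod 7))) ∨ (Nat.card V = 3481 ∧ Nonempty (H ≃* Matrix.SpecialLinearGroup (Fin 2) (ZMod 5) × Multiplicative (ZMod 29))) := by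
  obtain ⟨m, hcases, hV, M, hM, hcyc, ⟨e⟩⟩ := Zassenhaus.regular_nonsolvable H hreg hsolv
  haveI := hcyc
  have key : ∀ k : ℕ, [NeZero k] → m = k →
      Nonempty (H ≃* Matrix.SpecialLinearGroup (Fin 2) (ZMod 5) × Multiplicative (ZMod k)) := by
    intro k _ hk
    exact ⟨e.symm.trans (MulEquiv.prodCongr (MulEquiv.refl _) (mulEquivOfCyclicCardEq
      (by rw [hM, hk, Nat.card_congr Multiplicative.toAdd, Nat.card_zmod])))⟩
  rcases hcases with ⟨rfl, h⟩ | ⟨rfl, h⟩ | ⟨rfl, h⟩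
  · refine Or.inl ⟨hV, ⟨?_⟩⟩
    haveI : Subsingleton M := (Nat.card_eq_one_iff_unique.mp (hM.trans h)).1
    exact e.symm.trans
      { toFun := fun x => x.1
        invFun := fun x => (x, 1)
        left_inv := fun x => Prod.ext rfl (Subsingleton.elim _ _)
        right_inv := fun _ => rfl
        map_mul' := fun _ _ => rfl }
  · exact Or.inr (Or.inl ⟨hV, key 7 h⟩)
  · exact Or.inr (Or.inr ⟨hV, key 29 h⟩)

end Cfsg.Agent.S0689
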