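import Cfsg.Statements.S0691
import Cfsg.Agent.Lib.PermGp.NearFieldGroups

set_option autoImplicit false
open Cfsg

namespace Cfsg.Agent.S0691

theorem check_true : Cfsg.Agent.PermGp.NearField.check 5 1 1 [(2, 0, 0, 3), (0, 4, 1, 0), (1, 2, 1, 3)]
  [[],
  [0],
  [1],
  [2],
  [0,0],
  [0,1],
  [0,2],
  [1,0],
  [1,2],
  [2,0],
  [2,2],
  [0,0,0],
  [0,0,1],
  [0,0,2],
  [0,1,2],
  [0,2,2],
  [1,2,0],
  [1,2,2],
  [2,0,1],
  [2,0,2],
  [0,0,2,2],
  [0,1,2,2],
  [1,2,0,2],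
  [2,0,1,2]] = true := by
  decide +kernel

/-- An exceptional sharply doubly transitive group of degree 5^2: the listed matrices generate a subgroup of GL(2,5) of order 24 acting regularly on the non-zero vectors. -/
theorem result (A : Matrix.GeneralLinearGroup (Fin 2) (ZMod 5)) (B : Matrix.GeneralLinearGroup (Fin 2) (ZMod 5)) (C : Matrix.GeneralLinearGroup (Fin 2) (ZMod 5)) (hA : (A : Matrix (Fin 2) (Fin 2) (ZMod 5)) = !![2, 0; 0, -2]) (hB : (B : Matrix (Fin 2) (Fin 2) (ZMod 5)) = !![0, -1; 1, 0]) (hC : (C : Matrix (Fin 2) (Fin 2) (ZMod 5)) = !![1, 2; 1, -2]) : Nat.card (Subgroup.closure ({A, B, C} : Set (Matrix.GeneralLinearGroup (Fin 2) (ZMod 5)))) = 24 ∧ ∀ v w : Fin 2 → ZMod 5, v ≠ 0 → w ≠ 0 → ∃! h : Subgroup.closure ({A, B, C} : Set (Matrix.GeneralLinearGroup (Fin 2) (ZMod 5))), Matrix.mulVec ((h : Matrix.GeneralLinearGroup (Fin 2) (ZMod 5)) : Matrix (Fin 2) (Fin 2) (ZMod 5)) v = w := by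
  have : Fact (Nat.Prime 5) := ⟨by norm_num⟩
  refine Cfsg.Agent.PermGp.NearField.regular_closure check_true (by norm_num) _ (fun M hM => ?_) (fun g hg => ?_) ⟨1, Subgroup.one_mem _, by simp⟩
  · simp only [Set.mem_insert_iff, Set.mem_singleton_iff] at hM
    rcases hM with rfl | rfl | rfl
    · exact Or.inl ⟨_, List.getElem_mem (show 0 < [(2, 0, 0, 3), (0, 4, 1, 0), (1, 2, 1, 3)].length by decide), by rw [hA]; decide +kernel⟩
    · exact Or.inl ⟨_, List.getElem_mem (show 1 < [(2, 0, 0, 3), (0, 4, 1, 0), (1, 2, 1, 3)].length by decide), by rw [hB]; decide +kernel⟩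
    · exact Or.inl ⟨_, List.getElem_mem (show 2 < [(2, 0, 0, 3), (0, 4, 1, 0), (1, 2, 1, 3)].length by decide), by rw [hC]; decide +kernel⟩
  · simp only [List.mem_cons, List.not_mem_nil, or_false] at hg
    rcases hg with rfl | rfl | rfl
    · exact ⟨A, by simp, by rw [hA]; decide +kernel⟩
    · exact ⟨B, by simp, by rw [hB]; decide +kernel⟩
    · exact ⟨C, by simp, by rw [hC]; decide +kernel⟩

end Cfsg.Agent.S0691
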