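import Cfsg.Statements.S0693
import Cfsg.Agent.Lib.PermGp.NearFieldGroups

set_option autoImplicit false
open Cfsg

namespace Cfsg.Agent.S0693

theorem check_true : Cfsg.Agent.PermGp.NearField.check 59 4 29 [(0, 58, 1, 0), (9, 15, 49, 49)]
  [[],
  [0],
  [1],
  [0,0],
  [0,1],
  [1,0],
  [1,1],
  [0,0,0],
  [0,0,1],
  [0,1,0],
  [0,1,1],
  [1,0,1],
  [1,1,0],
  [0,0,0,1],
  [0,0,1,0],
  [0,0,1,1],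
  [0,1,0,1],
  [0,1,1,0],
  [1,0,1,0],
  [1,0,1,1],
  [1,1,0,1],
  [0,0,0,1,0],
  [0,0,0,1,1],
  [0,0,1,0,1],
  [0,0,1,1,0],
  [0,1,0,1,0],
  [0,1,0,1,1],
  [0,1,1,0,1],
  [1,0,1,0,1],
  [1,0,1,1,0],
  [1,1,0,1,0],
  [1,1,0,1,1],
  [0,0,0,1,0,1],
  [0,0,0,1,1,0],
  [0,0,1,0,1,0],
  [0,0,1,0,1,1],
  [0,0,1,1,0,1],
  [0,1,0,1,0,1],
  [0,1,0,1,1,0],
  [0,1,1,0,1,0],
  [0,1,1,0,1,1],
  [1,0,1,0,1,1],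
  [1,0,1,1,0,1],
  [1,1,0,1,0,1],
  [0,0,0,1,0,1,0],
  [0,0,0,1,0,1,1],
  [0,0,0,1,1,0,1],
  [0,0,1,0,1,0,1],
  [0,0,1,0,1,1,0],
  [0,0,1,1,0,1,0],
  [0,0,1,1,0,1,1],
  [0,1,0,1,0,1,1],
  [0,1,0,1,1,0,1],
  [0,1,1,0,1,0,1],
  [1,0,1,0,1,1,0],
  [1,0,1,1,0,1,0],
  [1,0,1,1,0,1,1],
  [1,1,0,1,0,1,1],
  [0,0,0,1,0,1,0,1],
  [0,0,0,1,0,1,1,0],
  [0,0,0,1,1,0,1,0],
  [0,0,0,1,1,0,1,1],
  [0,0,1,0,1,0,1,1],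
  [0,0,1,0,1,1,0,1],
  [0,0,1,1,0,1,0,1],
  [0,1,0,1,0,1,1,0],
  [0,1,0,1,1,0,1,0],
  [0,1,0,1,1,0,1,1],
  [0,1,1,0,1,0,1,1],
  [1,0,1,0,1,1,0,1],
  [1,0,1,1,0,1,0,1],
  [1,1,0,1,0,1,1,0],
  [0,0,0,1,0,1,0,1,1],
  [0,0,0,1,0,1,1,0,1],
  [0,0,0,1,1,0,1,0,1],
  [0,0,1,0,1,0,1,1,0],
  [0,0,1,0,1,1,0,1,0],
  [0,0,1,0,1,1,0,1,1],
  [0,0,1,1,0,1,0,1,1],
  [0,1,0,1,0,1,1,0,1],
  [0,1,0,1,1,0,1,0,1],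
  [0,1,1,0,1,0,1,1,0],
  [1,0,1,0,1,1,0,1,0],
  [1,0,1,0,1,1,0,1,1],
  [1,0,1,1,0,1,0,1,1],
  [1,1,0,1,0,1,1,0,1],
  [0,0,0,1,0,1,0,1,1,0],
  [0,0,0,1,0,1,1,0,1,0],
  [0,0,0,1,0,1,1,0,1,1],
  [0,0,0,1,1,0,1,0,1,1],
  [0,0,1,0,1,0,1,1,0,1],
  [0,0,1,0,1,1,0,1,0,1],
  [0,0,1,1,0,1,0,1,1,0],
  [0,1,0,1,0,1,1,0,1,0],
  [0,1,0,1,0,1,1,0,1,1],
  [0,1,0,1,1,0,1,0,1,1],
  [0,1,1,0,1,0,1,1,0,1],
  [1,0,1,0,1,1,0,1,0,1],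
  [1,0,1,1,0,1,0,1,1,0],
  [1,1,0,1,0,1,1,0,1,0],
  [0,0,0,1,0,1,0,1,1,0,1],
  [0,0,0,1,0,1,1,0,1,0,1],
  [0,0,1,0,1,0,1,1,0,1,0],
  [0,0,1,0,1,0,1,1,0,1,1],
  [0,0,1,0,1,1,0,1,0,1,1],
  [0,0,1,1,0,1,0,1,1,0,1],
  [0,1,0,1,1,0,1,0,1,1,0],
  [0,1,1,0,1,0,1,1,0,1,0],
  [1,0,1,0,1,1,0,1,0,1,1],
  [1,0,1,1,0,1,0,1,1,0,1],
  [1,1,0,1,0,1,1,0,1,0,1],
  [0,0,0,1,0,1,0,1,1,0,1,0],
  [0,0,0,1,0,1,0,1,1,0,1,1],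
  [0,0,0,1,0,1,1,0,1,0,1,1],
  [0,0,1,1,0,1,0,1,1,0,1,0],
  [0,1,0,1,1,0,1,0,1,1,0,1],
  [0,1,1,0,1,0,1,1,0,1,0,1],
  [1,0,1,0,1,1,0,1,0,1,1,0],
  [1,0,1,1,0,1,0,1,1,0,1,0],
  [1,1,0,1,0,1,1,0,1,0,1,1]] = true := by
  decide +kernel

/-- An exceptional sharply doubly transitive group of degree 59^2: the listed matrices generate a subgroup of GL(2,59) of order 3480 acting regularly on the non-zero vectors. -/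
theorem result (A : Matrix.GeneralLinearGroup (Fin 2) (ZMod 59)) (B : Matrix.GeneralLinearGroup (Fin 2) (ZMod 59)) (C : Matrix.GeneralLinearGroup (Fin 2) (ZMod 59)) (hA : (A : Matrix (Fin 2) (Fin 2) (ZMod 59)) = !![0, -1; 1, 0]) (hB : (B : Matrix (Fin 2) (Fin 2) (ZMod 59)) = !![9, 15; -10, -10]) (hC : (C : Matrix (Fin 2) (Fin 2) (ZMod 59)) = !![4, 0; 0, 4]) : Nat.card (Subgroup.closure ({A, B, C} : Set (Matrix.GeneralLinearGroup (Fin 2) (ZMod 59)))) = 3480 ∧ ∀ v w : Fin 2 → ZMod 59, v ≠ 0 → w ≠ 0 → ∃! h : Subgroup.closure ({A, B, C} : Set (Matrix.GeneralLinearGroup (Fin 2) (ZMod 59))), Matrix.mulVec ((h : Matrix.GeneralLinearGroup (Fin 2) (ZMod 59)) : Matrix (Fin 2) (Fin 2) (ZMod 59)) v = w := by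
  have : Fact (Nat.Prime 59) := ⟨by norm_num⟩
  refine Cfsg.Agent.PermGp.NearField.regular_closure check_true (by norm_num) _ (fun M hM => ?_) (fun g hg => ?_) ⟨C, Subgroup.subset_closure (by simp), by rw [hC]; ext i j; fin_cases i <;> fin_cases j <;> simp⟩
  · simp only [Set.mem_insert_iff, Set.mem_singleton_iff] at hM
    rcases hM with rfl | rfl | rfl
    · exact Or.inl ⟨_, List.getElem_mem (show 0 < [(0, 58, 1, 0), (9, 15, 49, 49)].length by decide), by rw [hA]; decide +kernel⟩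
    · exact Or.inl ⟨_, List.getElem_mem (show 1 < [(0, 58, 1, 0), (9, 15, 49, 49)].length by decide), by rw [hB]; decide +kernel⟩
    · exact Or.inr (by rw [hC]; ext i j; fin_cases i <;> fin_cases j <;> simp)
  · simp only [List.mem_cons, List.not_mem_nil, or_false] at hg
    rcases hg with rfl | rfl
    · exact ⟨A, by simp, by rw [hA]; decide +kernel⟩
    · exact ⟨B, by simp, by rw [hB]; decide +kernel⟩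

end Cfsg.Agent.S0693
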