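import Cfsg.Statements.S0694
import Mathlib.NumberTheory.Multiplicity
import Mathlib.FieldTheory.Finite.Basic

set_option autoImplicit false
open Cfsg

namespace Cfsg.Agent.S0694

private def gsum (q i : ℕ) : ℕ := ∑ j ∈ Finset.range i, q ^ j

private theorem gsum_mul (q : ℕ) (hq : 1 ≤ q) (i : ℕ) : gsum q i * (q - 1) + 1 = q ^ i := by
  induction i with
  | zero => simp [gsum]
  | succ i ih =>
    have h : gsum q (i + 1) = gsum q i + q ^ i := Finset.sum_range_succ _ _
    obtain ⟨k, rfl⟩ : ∃ k, q = k + 1 := ⟨q - 1, by omega⟩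
    rw [h, pow_succ]
    simp only [Nat.add_sub_cancel] at ih ⊢
    rw [← ih]; ring

private theorem gsum_dvd_iff {q n i : ℕ} (hq : 2 ≤ q) :
    q ^ i ≡ 1 [MOD n * (q - 1)] ↔ n ∣ gsum q i := by
  have h := gsum_mul q (by omega) i
  rw [Nat.ModEq.comm, Nat.modEq_iff_dvd' (Nat.one_le_pow _ _ (by omega)), ← h, Nat.add_sub_cancel]
  exact Nat.mul_dvd_mul_iff_right (by omega)

private theorem gsum_dvd_gsum {q j i : ℕ} (hq : 2 ≤ q) (h : j ∣ i) : gsum q j ∣ gsum q i := by
  obtain ⟨k, rfl⟩ := h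
  have h1 := Nat.pow_sub_one_dvd_pow_sub_one q (dvd_mul_right j k)
  rw [← gsum_mul q (by omega) j, ← gsum_mul q (by omega) (j * k), Nat.add_sub_cancel, Nat.add_sub_cancel] at h1
  exact Nat.dvd_of_mul_dvd_mul_right (by omega) h1

private theorem gsum_mod {q r : ℕ} (hr : r ∣ q - 1) (hq : 1 ≤ q) (i : ℕ) :
    (gsum q i : ZMod r) = i := by
  have h : (q : ZMod r) = 1 := by
    have h' : ((q - 1 : ℕ) : ZMod r) = 0 := (ZMod.natCast_eq_zero_iff _ _).mpr hr
    rwa [Nat.cast_sub hq, Nat.cast_one, sub_eq_zero] at h'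
  simp [gsum, h]

private theorem val_gsum {q r i : ℕ} (hq : 2 ≤ q) (hr : r.Prime) (hrq : r ∣ q - 1)
    (h4 : r = 2 → 4 ∣ q - 1) (hi : i ≠ 0) : padicValNat r (gsum q i) = padicValNat r i := by
  have := Fact.mk hr
  have hS0 : gsum q i ≠ 0 := fun h => by
    have := gsum_mul q (by omega) i
    rw [h, zero_mul, zero_add] at this
    exact absurd this.symm (Nat.one_lt_pow hi (by omega)).ne'
  have hprod : q ^ i - 1 ^ i = gsum q i * (q - 1) := by
    rw [one_pow, ← gsum_mul q (by omega) i, Nat.add_sub_cancel]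
  have hrq' : ¬ r ∣ q := fun h => by
    have := Nat.dvd_sub h hrq
    rw [Nat.sub_sub_self (by omega : 1 ≤ q)] at this
    exact hr.one_lt.ne' (Nat.dvd_one.mp this)
  by_cases h2 : r = 2
  · subst h2
    by_cases hev : Even i
    · have h := padicValNat.pow_two_sub_pow (x := q) (y := 1) (n := i) (by omega) hrq hrq' hi hev
      have h41 := h4 rfl
      have hv : padicValNat 2 (q + 1) = 1 := by
        obtain ⟨t, ht⟩ : ∃ t, q + 1 = 2 * (2 * t + 1) := ⟨(q - 1) / 4, by omega⟩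
        rw [ht, padicValNat.mul (by norm_num) (by omega), padicValNat.self (by norm_num),
          padicValNat.eq_zero_of_not_dvd (by omega)]
      rw [hprod, padicValNat.mul hS0 (by omega), hv] at h
      omega
    · rw [padicValNat.eq_zero_of_not_dvd, padicValNat.eq_zero_of_not_dvd]
      · exact fun h => hev (even_iff_two_dvd.mpr h)
      · intro h
        rw [← ZMod.natCast_eq_zero_iff, gsum_mod hrq (by omega), ZMod.natCast_eq_zero_iff] at h
        exact hev (even_iff_two_dvd.mpr h)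
  · have h := padicValNat.pow_sub_pow (p := r) (x := q) (y := 1) (hr.odd_of_ne_two h2) (by omega) hrq hrq' hi
    rw [hprod, padicValNat.mul hS0 (by omega)] at h
    omega

private theorem prime_pow_dvd_gsum_iff {q r a i : ℕ} (hq : 2 ≤ q) (hr : r.Prime) (hrq : r ∣ q - 1)
    (h4 : r = 2 → 2 ≤ a → 4 ∣ q - 1) : r ^ a ∣ gsum q i ↔ r ^ a ∣ i := by
  rcases Nat.eq_zero_or_pos i with rfl | hi
  · simp [gsum]
  rcases Nat.lt_or_ge a 2 with ha | ha
  · interval_cases a
    · simp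
    · rw [pow_one, ← ZMod.natCast_eq_zero_iff, gsum_mod hrq (by omega), ZMod.natCast_eq_zero_iff]
  have hS0 : gsum q i ≠ 0 := fun h => by
    have := gsum_mul q (by omega) i
    rw [h, zero_mul, zero_add] at this
    exact absurd this.symm (Nat.one_lt_pow hi.ne' (by omega)).ne'
  have := Fact.mk hr
  rw [padicValNat_dvd_iff_le hS0, padicValNat_dvd_iff_le hi.ne',
    val_gsum hq hr hrq (fun h => h4 h ha) hi.ne']

private theorem two_pow_dvd_gsum {q : ℕ} (hq : 2 ≤ q) (h3 : 4 ∣ q + 1) :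
    ∀ b, 1 ≤ b → 2 ^ (b + 1) ∣ gsum q (2 ^ b) := by
  intro b hb
  induction b, hb using Nat.le_induction with
  | base => simpa [gsum, Finset.sum_range_succ, add_comm] using h3
  | succ b hb ih =>
    have hsplit : gsum q (2 ^ (b + 1)) = gsum q (2 ^ b) * (1 + q ^ 2 ^ b) := by
      have h1 := gsum_mul q (by omega) (2 ^ b)
      have h2 := gsum_mul q (by omega) (2 ^ (b + 1))
      rw [pow_succ 2 b, pow_mul, ← h1] at h2
      rw [← h1, pow_succ 2 b]
      apply Nat.eq_of_mul_eq_mul_right (show 0 < q - 1 by omega)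
      nlinarith
    rw [hsplit, pow_succ 2 (b + 1)]
    refine Nat.mul_dvd_mul ih ?_
    have hodd : q % 2 = 1 := by omega
    rw [Nat.dvd_iff_mod_eq_zero, Nat.add_mod, Nat.pow_mod, hodd, one_pow]
    norm_num

private theorem dickson_fwd {q n : ℕ} (hq : 2 ≤ q) (h1 : ∀ r : ℕ, r.Prime → r ∣ n → r ∣ q - 1)
    (h2 : 4 ∣ n → 4 ∣ q - 1) (i : ℕ) : n ∣ gsum q i ↔ n ∣ i := by
  have key : ∀ r a : ℕ, r.Prime → r ^ a ∣ n → (r ^ a ∣ gsum q i ↔ r ^ a ∣ i) := by
    intro r a hr hra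
    rcases Nat.eq_zero_or_pos a with rfl | ha
    · simp
    exact prime_pow_dvd_gsum_iff hq hr (h1 r hr ((dvd_pow_self r ha.ne').trans hra)) fun h2r ha2 =>
      h2 (((pow_dvd_pow 2 ha2).trans (by rw [h2r])).trans hra)
  constructor <;> intro h <;> rw [Nat.dvd_iff_prime_pow_dvd_dvd] <;> intro r a hr hra
  · exact (key r a hr hra).mp (hra.trans h)
  · exact (key r a hr hra).mpr (hra.trans h)

private theorem dickson_bwd {q n : ℕ} (hq : 2 ≤ q) (hn : 1 < n) (hdiv : n ∣ gsum q n)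
    (hmin : ∀ i, 0 < i → i < n → ¬ n ∣ gsum q i) :
    (∀ r : ℕ, r.Prime → r ∣ n → r ∣ q - 1) ∧ (4 ∣ n → 4 ∣ q - 1) := by
  have hn0 : n ≠ 0 := by omega
  have hnq : ∀ r : ℕ, r.Prime → r ∣ n → ¬ r ∣ q := fun r hr hrn hrq => by
    have h1 : r ∣ gsum q n := hrn.trans hdiv
    have h2 := gsum_mul q (by omega) n
    have h3 : r ∣ q ^ n := hrq.trans (dvd_pow_self q hn0)
    rw [← h2] at h3
    exact hr.one_lt.ne' (Nat.dvd_one.mp ((Nat.dvd_add_right (h1.mul_right _)).mp h3))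
  have hcop : ∀ r : ℕ, r.Prime → r ∣ n → ¬ r ∣ q - 1 →
      r ^ n.factorization r ∣ gsum q (Nat.totient (r ^ n.factorization r)) := fun r hr hrn hbad => by
    have hc : Nat.Coprime q (r ^ n.factorization r) :=
      Nat.Coprime.pow_right _ ((hr.coprime_iff_not_dvd.mpr (hnq r hr hrn)).symm)
    have h := Nat.ModEq.pow_totient hc
    rw [Nat.ModEq.comm, Nat.modEq_iff_dvd' (Nat.one_le_pow _ _ (by omega)),
      ← gsum_mul q (by omega), Nat.add_sub_cancel] at h
    exact (Nat.Coprime.pow_left _ (hr.coprime_iff_not_dvd.mpr hbad)).dvd_of_dvd_mul_right h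
  have hgood : ∀ r : ℕ, r.Prime → r ∣ q - 1 → ∀ a, r ^ a ∣ gsum q (r ^ a) := fun r hr hrq a => by
    induction a with
    | zero => simp
    | succ a ih =>
      have h1 : gsum q (r ^ (a + 1)) * (q - 1) = (∑ j ∈ Finset.range r, (q ^ r ^ a) ^ j) * (gsum q (r ^ a) * (q - 1)) := by
        have e1 := gsum_mul q (by omega) (r ^ (a + 1))
        have e2 := gsum_mul q (by omega) (r ^ a)
        have e3 : gsum (q ^ r ^ a) r * (q ^ r ^ a - 1) + 1 = (q ^ r ^ a) ^ r :=
          gsum_mul _ (Nat.one_le_pow _ _ (by omega)) r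
        rw [← pow_mul, ← pow_succ, ← e1, ← e2, Nat.add_sub_cancel] at e3
        show _ = gsum (q ^ r ^ a) r * _
        rw [← e2]
        exact (Nat.add_right_cancel e3).symm
      have h2 : gsum q (r ^ (a + 1)) = (∑ j ∈ Finset.range r, (q ^ r ^ a) ^ j) * gsum q (r ^ a) :=
        Nat.eq_of_mul_eq_mul_right (show 0 < q - 1 by omega) (h1.trans (mul_assoc _ _ _).symm)
      rw [h2, pow_succ']
      refine Nat.mul_dvd_mul ?_ ih
      rw [← ZMod.natCast_eq_zero_iff]
      have h : (q : ZMod r) = 1 := by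
        have h' : ((q - 1 : ℕ) : ZMod r) = 0 := (ZMod.natCast_eq_zero_iff _ _).mpr hrq
        rwa [Nat.cast_sub (by omega : 1 ≤ q), Nat.cast_one, sub_eq_zero] at h'
      simp [h]
  have hall : ∀ r : ℕ, r.Prime → r ∣ n → r ∣ q - 1 := by
    by_contra! hcon
    obtain ⟨r₀, hr₀, hr₀n, hbad₀⟩ := hcon
    let g : ℕ → ℕ := fun r => if r ∣ q - 1 then r ^ n.factorization r else Nat.totient (r ^ n.factorization r)
    set i := ∏ r ∈ n.primeFactors, g r
    have hprod : ∏ r ∈ n.primeFactors, r ^ n.factorization r = n := by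
      simpa [Finsupp.prod, Nat.support_factorization] using Nat.prod_factorization_pow_eq_self hn0
    have hle : ∀ r ∈ n.primeFactors, 0 < g r ∧ g r ≤ r ^ n.factorization r := fun r hr => by
      have := (Nat.prime_of_mem_primeFactors hr).pos
      have hpos : 0 < r ^ n.factorization r := pow_pos this _
      simp only [g]; split_ifs
      · exact ⟨hpos, le_rfl⟩
      · exact ⟨Nat.totient_pos.mpr hpos, Nat.totient_le _⟩
    have hr₀m : r₀ ∈ n.primeFactors := Nat.mem_primeFactors.mpr ⟨hr₀, hr₀n, hn0⟩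
    have hlt : i < n := by
      rw [← hprod]
      refine Finset.prod_lt_prod (fun r hr => (hle r hr).1) (fun r hr => (hle r hr).2) ⟨r₀, hr₀m, ?_⟩
      simp only [g, if_neg hbad₀]
      exact Nat.totient_lt _ (Nat.one_lt_pow (hr₀.factorization_pos_of_dvd hn0 hr₀n).ne' hr₀.one_lt)
    refine hmin i (Finset.prod_pos fun r hr => (hle r hr).1) hlt ?_
    rw [Nat.dvd_iff_prime_pow_dvd_dvd]
    intro r a hr hra
    rcases Nat.eq_zero_or_pos a with rfl | ha
    · simp
    have hrn : r ∣ n := (dvd_pow_self r ha.ne').trans hra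
    refine (pow_dvd_pow r ((hr.pow_dvd_iff_le_factorization hn0).mp hra)).trans ?_
    refine Dvd.dvd.trans ?_ (gsum_dvd_gsum hq (Finset.dvd_prod_of_mem g
      (Nat.mem_primeFactors.mpr ⟨hr, hrn, hn0⟩)))
    simp only [g]; split_ifs with h
    · exact hgood r hr h _
    · exact hcop r hr hrn h
  refine ⟨hall, fun h4 => ?_⟩
  by_contra h4q
  have h2n : 2 ∣ n := Dvd.dvd.trans (by norm_num) h4
  have h2q := hall 2 Nat.prime_two h2n
  have h3 : 4 ∣ q + 1 := by omega
  refine hmin (n / 2) (by omega) (by omega) ?_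
  rw [Nat.dvd_iff_prime_pow_dvd_dvd]
  intro r a hr hra
  rcases Nat.eq_zero_or_pos a with rfl | ha
  · simp
  have hrq := hall r hr ((dvd_pow_self r ha.ne').trans hra)
  by_cases h2 : r = 2
  · subst h2
    obtain ⟨b, hb, hbeq, hb'⟩ : ∃ b, 1 ≤ b ∧ n / 2 = 2 ^ b * (n / 2 / 2 ^ b) ∧ 2 ^ a ∣ 2 ^ (b + 1) := by
      rcases Nat.lt_or_ge a 2 with ha2 | ha2
      · refine ⟨1, le_rfl, (Nat.mul_div_cancel' ?_).symm, pow_dvd_pow 2 (by omega)⟩
        rw [pow_one]; omega
      · refine ⟨a - 1, by omega, (Nat.mul_div_cancel' ?_).symm, pow_dvd_pow 2 (by omega)⟩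
        apply Nat.dvd_div_of_mul_dvd
        rwa [← pow_succ', Nat.sub_add_cancel (by omega)]
    exact hb'.trans ((two_pow_dvd_gsum hq h3 b hb).trans (gsum_dvd_gsum hq (Dvd.intro _ hbeq.symm)))
  · refine (hgood r hr hrq a).trans (gsum_dvd_gsum hq ?_)
    have hc : Nat.Coprime (r ^ a) 2 := Nat.Coprime.pow_left _ ((Nat.coprime_primes hr Nat.prime_two).mpr h2)
    refine hc.dvd_of_dvd_mul_left ?_
    rw [Nat.mul_div_cancel' h2n]; exact hra

/-- The Dickson pair condition: for a prime power `q` and `n > 1`, (every prime factor of `n` divides `q - 1`, and `4 ∣ n → 4 ∣ q - 1`) holds exactly when `q ^ n ≡ 1` modulo `n * (q - 1)` but `q ^ i` is not, for `0 < i < n`. -/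
theorem result (q n : ℕ) (hq : IsPrimePow q) (hn : 1 < n) : ((∀ r : ℕ, r.Prime → r ∣ n → r ∣ q - 1) ∧ (4 ∣ n → 4 ∣ q - 1)) ↔ (q ^ n ≡ 1 [MOD n * (q - 1)] ∧ ∀ i : ℕ, 0 < i → i < n → ¬ q ^ i ≡ 1 [MOD n * (q - 1)]) := by
  have hq2 : 2 ≤ q := hq.two_le
  simp only [gsum_dvd_iff hq2]
  constructor
  · rintro ⟨h1, h2⟩
    refine ⟨(dickson_fwd hq2 h1 h2 n).mpr dvd_rfl, fun i hi hlt h => ?_⟩
    exact absurd (Nat.le_of_dvd hi ((dickson_fwd hq2 h1 h2 i).mp h)) (not_le.mpr hlt)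
  · rintro ⟨h1, h2⟩
    exact dickson_bwd hq2 hn h1 h2

end Cfsg.Agent.S0694
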