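import Cfsg.Statements.S0695
import Cfsg.Agent.Lib.PermGp.RegularNormal

set_option autoImplicit false
open Cfsg

namespace Cfsg.Agent.S0695

/-- A regular normal subgroup of a doubly primitive group of finite degree at least 2 is an elementary abelian 2-group (and the degree is a power of 2), unless the degree is 3. -/
theorem result {G : Type*} [Group G] {X : Type*} [Fintype X] [MulAction G X] (hX : 2 ≤ Fintype.card X) (h2 : MulAction.IsMultiplyPreprimitive G X 2) (N : Subgroup G) [N.Normal] (htrans : MulAction.IsPretransitive N X) (hreg : ∀ x : X, MulAction.stabilizer N x = ⊥) : Fintype.card X = 3 ∨ (IsMulCommutative N ∧ (∀ n ∈ N, n ^ 2 = 1) ∧ ∃ m : ℕ, Fintype.card X = 2 ^ m) := by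
  classical
  have hXc : Nat.card X = Fintype.card X := Nat.card_eq_fintype_card
  rcases PermGp.exponent_two_of_two_primitive N hreg h2 (by omega) htrans with h | h
  · exact Or.inl (hXc ▸ h)
  · right
    have hsq : ∀ n ∈ N, n ^ 2 = 1 := fun n hn => by
      rw [pow_two]; exact congrArg Subtype.val (h ⟨n, hn⟩)
    refine ⟨⟨⟨PermGp.comm_of_exponent_two N hreg h⟩⟩, hsq, ?_⟩
    obtain ⟨a⟩ : Nonempty X := Fintype.card_pos_iff.mp (by omega)
    have hc := PermGp.card_eq_card_of_regular N hreg htrans a
    have : Finite N := Nat.finite_of_card_ne_zero (by omega)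
    haveI := Fact.mk Nat.prime_two
    obtain ⟨m, hm⟩ := IsPGroup.exists_card_eq (p := 2) (G := N) fun g => ⟨1, by
      rw [pow_one, pow_two]; exact h g⟩
    exact ⟨m, by omega⟩

end Cfsg.Agent.S0695
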