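import Cfsg.Statements.S0696
import Cfsg.Agent.Lib.PermGp.RegularNormal

set_option autoImplicit false
open Cfsg

namespace Cfsg.Agent.S0696

open scoped Pointwise


/-- A triply primitive group of degree at least 3 having a regular normal subgroup has degree 3 or 4. -/
theorem result {G : Type*} [Group G] {X : Type*} [Fintype X] [MulAction G X] (hX : 3 ≤ Fintype.card X) (h3 : MulAction.IsMultiplyPreprimitive G X 3) (N : Subgroup G) [N.Normal] (htrans : MulAction.IsPretransitive N X) (hreg : ∀ x : X, MulAction.stabilizer N x = ⊥) : Fintype.card X = 3 ∨ Fintype.card X = 4 := by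
  classical
  by_contra hcon
  push Not at hcon
  have h5 : 5 ≤ Fintype.card X := by omega
  obtain ⟨a⟩ : Nonempty X := Fintype.card_pos_iff.mp (by omega)
  have hbig : ∀ u v w : X, ∃ d, d ≠ u ∧ d ≠ v ∧ d ≠ w := fun u v w => by
    obtain ⟨d, hd⟩ := Finset.exists_mem_notMem_of_card_lt_card
      (s := {u, v, w}) (t := (Finset.univ : Finset X)) (by
        rw [Finset.card_univ]; have := Finset.card_le_three (a := u) (b := v) (c := w); omega)
    simp only [Finset.mem_insert, Finset.mem_singleton, not_or] at hd
    exact ⟨d, hd.2.1, hd.2.2.1, hd.2.2.2⟩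
  have htr3 : MulAction.IsMultiplyPretransitive G X 3 := h3.isMultiplyPretransitive
  have hexp := PermGp.exponent_two_of_three_trans N hreg htr3 htrans hbig a
  -- a pair `{v, u * v}` is a block of the stabiliser of `a` and `u • a`
  obtain ⟨b, hb, -⟩ := hbig a a a
  obtain ⟨u, hu⟩ := htrans.exists_smul_eq a b
  obtain ⟨c, hca, hcb, -⟩ := hbig a b a
  obtain ⟨v, hv⟩ := htrans.exists_smul_eq a c
  have hu1 : u ≠ 1 := fun h => hb (by rw [← hu, h, one_smul])
  set e := (u * v) • a with he
  have hec : e ≠ c := fun h => hu1 (by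
    have := PermGp.regular_inj N hreg (h.trans hv.symm)
    exact mul_eq_right.mp this)
  have hea : e ≠ a := fun h => hcb (by
    have h1 : u * v = 1 := PermGp.regular_inj N hreg (h.trans (one_smul N a).symm)
    rw [← hu, ← hv, show u = v⁻¹ from eq_inv_of_mul_eq_one_left h1, inv_eq_of_mul_eq_one_right (hexp v)])
  have heb : e ≠ b := fun h => hca (by
    rw [← hv, mul_eq_left.mp (PermGp.regular_inj N hreg (h.trans hu.symm)), one_smul])
  have hprim : MulAction.IsPreprimitive (fixingSubgroup G ({a, b} : Set X))
      (SubMulAction.ofFixingSubgroup G ({a, b} : Set X)) :=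
    h3.isPreprimitive_ofFixingSubgroup (by rw [Set.encard_pair hb.symm]; norm_num)
  have hout : ∀ {z : X}, z ≠ a → z ≠ b → z ∈ SubMulAction.ofFixingSubgroup G ({a, b} : Set X) :=
    fun {z} h1 h2 => by
      rw [SubMulAction.mem_ofFixingSubgroup_iff]; simp [h1, h2]
  set p : SubMulAction.ofFixingSubgroup G ({a, b} : Set X) := ⟨c, hout hca hcb⟩
  set q : SubMulAction.ofFixingSubgroup G ({a, b} : Set X) := ⟨e, hout hea heb⟩
  have hB : MulAction.IsBlock (fixingSubgroup G ({a, b} : Set X)) ({p, q} : Set _) := by
    rw [MulAction.isBlock_iff_smul_eq_of_nonempty]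
    intro g hne
    have ga : (g : G) • a = a := (mem_fixingSubgroup_iff G).mp g.2 a (by simp)
    have gb : (g : G) • b = b := (mem_fixingSubgroup_iff G).mp g.2 b (by simp)
    let w : N := ⟨(g : G) * v * (g : G)⁻¹, Subgroup.Normal.conj_mem inferInstance _ v.2 _⟩
    have hgp : ((g • p : SubMulAction.ofFixingSubgroup G ({a, b} : Set X)) : X) = w • a := by
      show (g : G) • c = w • a
      rw [← hv]; exact PermGp.conj_smul_base N ga v
    have hgq : ((g • q : SubMulAction.ofFixingSubgroup G ({a, b} : Set X)) : X) = (u * w) • a := by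
      show (g : G) • e = (u * w) • a
      have f1 := PermGp.conj_smul_base N ga u
      have f1' : u • a = (⟨(g : G) * (u : G) * (g : G)⁻¹, Subgroup.Normal.conj_mem inferInstance _ u.2 _⟩ : N) • a :=
        ((hu.trans gb.symm).trans (congrArg (fun x => (g : G) • x) hu).symm).trans f1
      have g1 : (u : G) = (g : G) * (u : G) * (g : G)⁻¹ := congrArg Subtype.val (PermGp.regular_inj N hreg f1')
      rw [he, PermGp.conj_smul_base N ga]
      congr 1
      apply Subtype.ext
      show (g : G) * ((u * v : N) : G) * (g : G)⁻¹ = (u : G) * ((g : G) * (v : G) * (g : G)⁻¹)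
      conv_rhs => rw [g1]
      rw [Subgroup.coe_mul]; group
    have himg : g • ({p, q} : Set _) = {g • p, g • q} := by
      show (fun y => g • y) '' ({p, q} : Set _) = _
      rw [Set.image_pair]
    rw [himg] at hne ⊢
    have huu : u * (u * v) = v := by rw [← mul_assoc, hexp u, one_mul]
    have hw : w = v ∨ w = u * v := by
      have inj : ∀ {s t : N}, s • a = t • a → s = t := fun h => PermGp.regular_inj N hreg h
      obtain ⟨y, hy1, hy2⟩ := hne
      simp only [Set.mem_insert_iff, Set.mem_singleton_iff] at hy1 hy2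
      rcases hy1 with rfl | rfl <;> rcases hy2 with h | h <;> have h' := congrArg Subtype.val h
      · exact Or.inl (inj (hgp.symm.trans (h'.trans hv.symm)))
      · exact Or.inr (inj (hgp.symm.trans h'))
      · exact Or.inr (mul_left_cancel ((inj (hgq.symm.trans (h'.trans hv.symm))).trans huu.symm))
      · exact Or.inl (mul_left_cancel (inj (hgq.symm.trans h')))
    rcases hw with hw | hw
    · rw [show g • p = p from Subtype.ext (by rw [hgp, hw, hv]),
        show g • q = q from Subtype.ext (by rw [hgq, hw])]
    · rw [show g • p = q from Subtype.ext (by rw [hgp, hw]),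
        show g • q = p from Subtype.ext (by rw [hgq, hw, huu, hv])]
      exact Set.pair_comm q p
  rcases hprim.isTrivialBlock_of_isBlock hB with hs | huniv
  · exact hec (congrArg Subtype.val (hs (by simp) (by simp) : q = p))
  · obtain ⟨d, hd⟩ := Finset.exists_mem_notMem_of_card_lt_card
      (s := {a, b, c, e}) (t := (Finset.univ : Finset X)) (by
        rw [Finset.card_univ]; have := Finset.card_le_four (a := a) (b := b) (c := c) (d := e); omega)
    simp only [Finset.mem_insert, Finset.mem_singleton, not_or] at hd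
    have hmem : (⟨d, hout hd.2.1 hd.2.2.1⟩ : SubMulAction.ofFixingSubgroup G ({a, b} : Set X)) ∈ ({p, q} : Set _) :=
      huniv ▸ trivial
    simp only [Set.mem_insert_iff, Set.mem_singleton_iff, Subtype.ext_iff] at hmem
    exact hmem.elim hd.2.2.2.1 hd.2.2.2.2

end Cfsg.Agent.S0696
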