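import Cfsg.Statements.S0699
import Cfsg.Agent.Lib.PermGp.JordanNormal
import Cfsg.Agent.Lib.PermGp.RegularNormal
import Mathlib.GroupTheory.Perm.Cycle.Type
import Mathlib.GroupTheory.Sylow

set_option autoImplicit false
open Cfsg

namespace Cfsg.Agent.S0699

open MulAction in
theorem two_point_transitive {G : Type*} [Group G] [Finite G] {α : Type*} [Fintype α] [DecidableEq α]
    [MulAction G α] (hodd : Odd (Fintype.card α))
    (h3 : IsMultiplyPretransitive G α 3) (N : Subgroup G) [hNn : N.Normal]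
    (h2 : ∀ a b c d : α, a ≠ b → c ≠ d → ∃ m ∈ N, m • a = c ∧ m • b = d)
    {a b : α} (hab : a ≠ b) (x y : α) (hxa : x ≠ a) (hxb : x ≠ b) (hya : y ≠ a) (hyb : y ≠ b) :
    ∃ m ∈ N, m • a = a ∧ m • b = b ∧ m • x = y := by
  classical
  haveI : Fact (Nat.Prime 2) := ⟨Nat.prime_two⟩
  let X := {z : α // z ≠ a ∧ z ≠ b}
  let R : X → X → Prop := fun u v => ∃ m ∈ N, m • a = a ∧ m • b = b ∧ m • (u : α) = v
  have Rrefl : ∀ u, R u u := fun u => ⟨1, N.one_mem, one_smul _ _, one_smul _ _, one_smul _ _⟩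
  have Rsymm : ∀ {u v}, R u v → R v u := fun {u v} ⟨m, hm, ma, mb, mu⟩ =>
    ⟨m⁻¹, N.inv_mem hm, inv_smul_eq_iff.mpr ma.symm, inv_smul_eq_iff.mpr mb.symm, inv_smul_eq_iff.mpr mu.symm⟩
  have Rtrans : ∀ {u v w}, R u v → R v w → R u w := fun {u v w} ⟨m, hm, ma, mb, mu⟩ ⟨k, hk, ka, kb, kv⟩ =>
    ⟨k * m, N.mul_mem hk hm, by rw [mul_smul, ma, ka], by rw [mul_smul, mb, kb], by rw [mul_smul, mu, kv]⟩
  let O : X → Finset X := fun u => Finset.univ.filter (R u)
  have memO : ∀ {u v}, v ∈ O u ↔ R u v := fun {u v} => by simp [O]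
  have hO : ∀ u v, O u = O v ↔ R u v := fun u v =>
    ⟨fun h => memO.mp (h ▸ memO.mpr (Rrefl v)), fun h => Finset.ext fun w => by
      rw [memO, memO]; exact ⟨fun h' => Rtrans (Rsymm h) h', fun h' => Rtrans h h'⟩⟩
  -- elements fixing or exchanging the two points act on `X`
  let Pr : G → Prop := fun g => (g • a = a ∧ g • b = b) ∨ (g • a = b ∧ g • b = a)
  have hact : ∀ g : G, Pr g → ∀ u : X, g • (u : α) ≠ a ∧ g • (u : α) ≠ b := by
    intro g hg u
    rcases hg with ⟨ga, gb⟩ | ⟨ga, gb⟩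
    · exact ⟨fun e => u.2.1 (MulAction.injective g (e.trans ga.symm)),
        fun e => u.2.2 (MulAction.injective g (e.trans gb.symm))⟩
    · exact ⟨fun e => u.2.2 (MulAction.injective g (e.trans gb.symm)),
        fun e => u.2.1 (MulAction.injective g (e.trans ga.symm))⟩
  let mv : ∀ g : G, Pr g → X → X := fun g hg u => ⟨g • (u : α), hact g hg u⟩
  have hmv : ∀ g hg u v, R u v → R (mv g hg u) (mv g hg v) := by
    rintro g hg u v ⟨m, hm, ma, mb, mu⟩
    refine ⟨g * m * g⁻¹, hNn.conj_mem m hm g, ?_, ?_, ?_⟩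
    · rcases hg with ⟨ga, gb⟩ | ⟨ga, gb⟩
      · rw [mul_smul, mul_smul, inv_smul_eq_iff.mpr ga.symm, ma, ga]
      · rw [mul_smul, mul_smul, inv_smul_eq_iff.mpr gb.symm, mb, gb]
    · rcases hg with ⟨ga, gb⟩ | ⟨ga, gb⟩
      · rw [mul_smul, mul_smul, inv_smul_eq_iff.mpr gb.symm, mb, gb]
      · rw [mul_smul, mul_smul, inv_smul_eq_iff.mpr ga.symm, ma, ga]
    · show (g * m * g⁻¹) • g • (u : α) = g • (v : α)
      rw [mul_smul, mul_smul, inv_smul_smul, mu]
  have hGtrans : ∀ u v : X, ∃ g : G, ∃ hg : g • a = a ∧ g • b = b, mv g (Or.inl hg) u = v := fun u v => by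
    obtain ⟨g, ga, gb, gu⟩ := PermGp.three_trans_exists h3 hab u.2.1.symm u.2.2.symm hab v.2.1.symm v.2.2.symm
    exact ⟨g, ⟨ga, gb⟩, Subtype.ext gu⟩
  have hcard : ∀ u v, (O u).card = (O v).card := by
    intro u v
    have : ∀ u v, (O u).card ≤ (O v).card := fun u v => by
      obtain ⟨g, hg, rfl⟩ := hGtrans u v
      have hPg : Pr g := Or.inl hg
      refine Finset.card_le_card_of_injOn (mv g hPg) (fun w hw => memO.mpr (hmv g hPg u w (memO.mp hw))) ?_
      exact fun p _ q _ e => Subtype.ext (MulAction.injective g (congrArg Subtype.val e))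
    exact le_antisymm (this u v) (this v u)
  set u₀ : X := ⟨x, hxa, hxb⟩
  set v₀ : X := ⟨y, hya, hyb⟩
  set Im := Finset.univ.image O
  have hXodd : Odd (Fintype.card X) := by
    rw [Fintype.card_subtype, show Finset.univ.filter (fun c => c ≠ a ∧ c ≠ b) = ({a, b} : Finset α)ᶜ by
      ext c; simp, Finset.card_compl, Finset.card_pair hab]
    obtain ⟨k, hk⟩ := hodd
    have : 2 ≤ Fintype.card α := by
      have := Finset.card_le_univ ({a, b} : Finset α)
      rwa [Finset.card_pair hab] at this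
    exact ⟨k - 1, by omega⟩
  have hsum : Fintype.card X = Im.card * (O u₀).card := by
    rw [← Finset.card_univ, Finset.card_eq_sum_card_image O Finset.univ, ← smul_eq_mul, ← Finset.sum_const]
    refine Finset.sum_congr rfl fun B hB => ?_
    obtain ⟨u, -, rfl⟩ := Finset.mem_image.mp hB
    rw [hcard u₀ u]
    refine congrArg Finset.card (Finset.ext fun w => ?_)
    rw [Finset.mem_filter, memO, hO]
    exact ⟨fun h => Rsymm h.2, fun h => ⟨Finset.mem_univ _, Rsymm h⟩⟩
  obtain ⟨hImodd, hsodd⟩ := Nat.odd_mul.mp (hsum ▸ hXodd)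
  -- swapping elements of `N` fix every orbit
  have hswap : ∀ t ∈ N, ∀ (ht : t • a = b ∧ t • b = a) (u : X), R u (mv t (Or.inr ht) u) := by
    intro t htN ht
    set τ : X → X := mv t (Or.inr ht) with hτ
    have hττ : ∀ u, R (τ (τ u)) u := fun u => Rsymm ⟨t * t, N.mul_mem htN htN,
      by rw [mul_smul, ht.1, ht.2], by rw [mul_smul, ht.2, ht.1], mul_smul _ _ _⟩
    have key : ∃ u, R u (τ u) := by
      by_contra! hno
      have hmem : ∀ B : Im, ∃ u, O u = (B : Finset X) := fun B => by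
        obtain ⟨u, -, hu⟩ := Finset.mem_image.mp B.2; exact ⟨u, hu⟩
      choose rep hrep using hmem
      let Φ : Im → Im := fun B => ⟨O (τ (rep B)), Finset.mem_image.mpr ⟨_, Finset.mem_univ _, rfl⟩⟩
      have hΦ2 : ∀ B, Φ (Φ B) = B := fun B => Subtype.ext
        (((hO (τ (rep (Φ B))) (rep B)).mpr
          (Rtrans (hmv t (Or.inr ht) _ _ ((hO _ _).mp (hrep (Φ B)))) (hττ _))).trans (hrep B))
      let σ : Equiv.Perm Im := ⟨Φ, Φ, hΦ2, hΦ2⟩
      have hσ : σ ^ 2 ^ 1 = 1 := Equiv.ext fun B => by rw [pow_one, pow_two]; exact hΦ2 B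
      have := Equiv.Perm.card_compl_support_modEq (p := 2) hσ
      have he : σ.supportᶜ = ∅ := by
        refine Finset.eq_empty_of_forall_notMem fun B hB => ?_
        rw [Finset.mem_compl, Equiv.Perm.notMem_support] at hB
        have h' : O (τ (rep B)) = O (rep B) := (congrArg Subtype.val hB).trans (hrep B).symm
        exact hno _ (Rsymm ((hO _ _).mp h'))
      rw [he, Finset.card_empty, Fintype.card_coe] at this
      obtain ⟨k, hk⟩ := hImodd
      have h' : 0 % 2 = Im.card % 2 := this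
      omega
    obtain ⟨w, hw⟩ := key
    intro u
    obtain ⟨g, hg, rfl⟩ := hGtrans w u
    refine Rtrans (hmv g (Or.inl hg) _ _ hw) ⟨t * g * t⁻¹ * g⁻¹, ?_, ?_, ?_, ?_⟩
    · rw [show t * g * t⁻¹ * g⁻¹ = t * (g * t⁻¹ * g⁻¹) by group]
      exact N.mul_mem htN (hNn.conj_mem _ (N.inv_mem htN) g)
    · rw [mul_smul, mul_smul, mul_smul, inv_smul_eq_iff.mpr hg.1.symm, inv_smul_eq_iff.mpr ht.2.symm, hg.2, ht.2]
    · rw [mul_smul, mul_smul, mul_smul, inv_smul_eq_iff.mpr hg.2.symm, inv_smul_eq_iff.mpr ht.1.symm, hg.1, ht.1]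
    · show (t * g * t⁻¹ * g⁻¹) • g • t • (w : α) = t • g • (w : α)
      rw [mul_smul, mul_smul, mul_smul, inv_smul_smul, inv_smul_smul]
  -- the setwise stabiliser
  let K : Subgroup G := N ⊓ stabilizer G a ⊓ stabilizer G b
  let T : Subgroup G :=
    { carrier := {g | g ∈ N ∧ Pr g}
      one_mem' := ⟨N.one_mem, Or.inl ⟨one_smul _ _, one_smul _ _⟩⟩
      mul_mem' := by
        rintro g k ⟨hg, hg'⟩ ⟨hk, hk'⟩
        refine ⟨N.mul_mem hg hk, ?_⟩
        show ((g * k) • a = a ∧ (g * k) • b = b) ∨ ((g * k) • a = b ∧ (g * k) • b = a)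
        rcases hg' with ⟨ga, gb⟩ | ⟨ga, gb⟩ <;> rcases hk' with ⟨ka, kb⟩ | ⟨ka, kb⟩ <;>
          simp [mul_smul, ga, gb, ka, kb]
      inv_mem' := by
        rintro g ⟨hg, hg'⟩
        refine ⟨N.inv_mem hg, ?_⟩
        rcases hg' with ⟨ga, gb⟩ | ⟨ga, gb⟩
        · exact Or.inl ⟨inv_smul_eq_iff.mpr ga.symm, inv_smul_eq_iff.mpr gb.symm⟩
        · exact Or.inr ⟨inv_smul_eq_iff.mpr gb.symm, inv_smul_eq_iff.mpr ga.symm⟩ }
  obtain ⟨t, htN, hta, htb⟩ := h2 a b b a hab hab.symm
  have hmemK : ∀ {g : G}, g ∈ K ↔ g ∈ N ∧ g • a = a ∧ g • b = b := fun {g} => by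
    show g ∈ N ⊓ stabilizer G a ⊓ stabilizer G b ↔ _
    rw [Subgroup.mem_inf, Subgroup.mem_inf, and_assoc]; rfl
  have hT : Nat.card T = 2 * Nat.card K := by
    rw [← Nat.card_eq_two_iff.mpr ⟨false, true, Bool.false_ne_true, by ext z; cases z <;> simp⟩,
      ← Nat.card_prod]
    refine (Nat.card_eq_of_bijective (fun q : Bool × K => (⟨(if q.1 then t else 1) * q.2, by
      obtain ⟨k1, k2, k3⟩ := hmemK.mp q.2.2
      rcases q.1 with _ | _
      · exact ⟨by simpa using k1, Or.inl ⟨by simp [k2], by simp [k3]⟩⟩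
      · exact ⟨by simpa using N.mul_mem htN k1, Or.inr ⟨by simp [mul_smul, k2, hta], by simp [mul_smul, k3, htb]⟩⟩⟩ : T))
      ⟨?_, ?_⟩).symm
    · rintro ⟨i, k⟩ ⟨j, l⟩ e
      have e' : (if i then t else 1) * (k : G) = (if j then t else 1) * l := congrArg Subtype.val e
      have hk := (hmemK.mp k.2).2.1
      have hl := (hmemK.mp l.2).2.1
      obtain rfl : i = j := by
        have := congrArg (fun g : G => g • a) e'
        cases i <;> cases j <;> simp [mul_smul, hk, hl, hta, hab, hab.symm] at this ⊢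
      exact Prod.ext rfl (Subtype.ext (mul_left_cancel e'))
    · rintro ⟨g, hg, hg' | hg'⟩
      · exact ⟨(false, ⟨g, hmemK.mpr ⟨hg, hg'⟩⟩), Subtype.ext (by simp)⟩
      · refine ⟨(true, ⟨t⁻¹ * g, hmemK.mpr ⟨N.mul_mem (N.inv_mem htN) hg, ?_, ?_⟩⟩), Subtype.ext (by simp)⟩
        · rw [mul_smul, hg'.1, inv_smul_eq_iff, hta]
        · rw [mul_smul, hg'.2, inv_smul_eq_iff, htb]
  obtain ⟨P⟩ : Nonempty (Sylow 2 T) := inferInstance
  have hfixpt : ∀ u : X, ∃ w, R u w ∧ ∀ g ∈ (P : Subgroup T), (g : G) • (w : α) = w := by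
    intro u
    let W := {w : X // R u w}
    have hstep : ∀ g : (P : Subgroup T), ∀ w : W, R u (mv ((g : T) : G) (g : T).2.2 w.1) := by
      intro g w
      refine Rtrans w.2 ?_
      rcases (g : T).2.2 with hg | hg
      · exact ⟨_, (g : T).2.1, hg.1, hg.2, rfl⟩
      · exact hswap _ (g : T).2.1 hg w.1
    letI : MulAction (P : Subgroup T) W :=
      { smul := fun g w => ⟨_, hstep g w⟩
        one_smul := fun w => Subtype.ext (Subtype.ext (one_smul G _))
        mul_smul := fun g k w => Subtype.ext (Subtype.ext (mul_smul ((g : T) : G) ((k : T) : G) _)) }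
    have hW : ¬ 2 ∣ Nat.card W := by
      rw [Nat.card_eq_fintype_card, Fintype.card_subtype, show Finset.univ.filter (R u) = O u from rfl,
        hcard u u₀]
      exact fun h => (Nat.not_even_iff_odd.mpr hsodd) (even_iff_two_dvd.mpr h)
    obtain ⟨w, hw⟩ := P.isPGroup'.nonempty_fixed_point_of_prime_not_dvd_card W hW
    exact ⟨w.1, w.2, fun g hg => congrArg (fun z : W => ((z.1 : X) : α)) (hw ⟨g, hg⟩)⟩
  by_contra hgoal
  have hR : ¬ R u₀ v₀ := hgoal
  obtain ⟨p, hp, hpP⟩ := hfixpt u₀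
  obtain ⟨q, hq, hqP⟩ := hfixpt v₀
  have hpq : (p : α) ≠ q := fun e => hR (Rtrans hp (Subtype.ext e ▸ Rsymm hq))
  obtain ⟨n, hn, hna, hnb⟩ := h2 a b p q hab hpq
  let ι : ↥(P : Subgroup T) → K := fun g => ⟨n⁻¹ * ((g : T) : G) * n, hmemK.mpr
    ⟨N.mul_mem (N.mul_mem (N.inv_mem hn) (g : T).2.1) hn,
      by rw [mul_smul, mul_smul, hna, hpP _ g.2, inv_smul_eq_iff, hna],
      by rw [mul_smul, mul_smul, hnb, hqP _ g.2, inv_smul_eq_iff, hnb]⟩⟩
  let ιh : ↥(P : Subgroup T) →* K :=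
    { toFun := ι
      map_one' := Subtype.ext (by simp [ι])
      map_mul' := fun g k => Subtype.ext (by
        show n⁻¹ * (((g : T) : G) * ((k : T) : G)) * n = n⁻¹ * ((g : T) : G) * n * (n⁻¹ * ((k : T) : G) * n)
        group) }
  have hinj : Function.Injective ιh := fun g k e => by
    have e' : n⁻¹ * ((g : T) : G) * n = n⁻¹ * ((k : T) : G) * n := congrArg Subtype.val e
    exact Subtype.ext (Subtype.ext (mul_left_cancel (mul_right_cancel e')))
  have hdvd := Subgroup.card_dvd_of_injective ιh hinj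
  have hK0 : Nat.card K ≠ 0 := Nat.card_pos.ne'
  rw [P.card_eq_multiplicity, hT, Nat.factorization_mul two_ne_zero hK0, Finsupp.add_apply,
    Nat.prime_two.factorization_self, add_comm] at hdvd
  exact Nat.pow_succ_factorization_not_dvd hK0 Nat.prime_two hdvd

/-- Wagner's Theorem: a non-trivial normal subgroup of a triply transitive permutation group of odd degree at least 5 is triply transitive. -/
theorem result {α : Type*} [Fintype α] [DecidableEq α] (G : Subgroup (Equiv.Perm α)) (hodd : Odd (Fintype.card α)) (h5 : 5 ≤ Fintype.card α) (hG : MulAction.IsMultiplyPretransitive G α 3) (N : Subgroup G) [N.Normal] (hN : N ≠ ⊥) : MulAction.IsMultiplyPretransitive N α 3 := by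
  classical
  have hfaith : FaithfulSMul G α := inferInstance
  have hn : 3 < Nat.card α := by rw [Nat.card_eq_fintype_card]; omega
  rcases PermGp.jordan_normal 3 (by norm_num) hn hG N hN with h | ⟨-, hexp⟩
  swap
  · exfalso
    have h2 : MulAction.IsMultiplyPretransitive G α 2 :=
      MulAction.isMultiplyPretransitive_of_le (n := 3) (by norm_num) (by
        first | exact hn.le | (rw [ENat.card_eq_coe_natCard]; exact_mod_cast hn.le))
    haveI : MulAction.IsPreprimitive G α := MulAction.isPreprimitive_of_is_two_pretransitive h2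
    haveI : MulAction.IsPretransitive N α := PermGp.normal_transitive (α := α) N hN
    obtain ⟨a⟩ : Nonempty α := Fintype.card_pos_iff.mp (by omega)
    have hc := PermGp.card_mul_card_stabilizer (G := N) a
    haveI : Fact (Nat.Prime 2) := ⟨Nat.prime_two⟩
    obtain ⟨m, hm⟩ := IsPGroup.exists_card_eq (p := 2) (G := N) fun u => ⟨1, by rw [pow_one, pow_two]; exact hexp u⟩
    rw [hm] at hc
    obtain ⟨i, -, hi⟩ := (Nat.dvd_prime_pow Nat.prime_two).mp (Dvd.intro _ hc)
    rw [Nat.card_eq_fintype_card] at hi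
    rcases i with _ | i
    · omega
    · rw [hi, pow_succ] at hodd
      exact absurd hodd (Nat.not_odd_iff_even.mpr ⟨2 ^ i, by ring⟩)
  have h2 : ∀ a b c d : α, a ≠ b → c ≠ d → ∃ m ∈ N, m • a = c ∧ m • b = d := fun a b c d hab hcd => by
    obtain ⟨m, h1, h2⟩ := PermGp.two_trans_exists (G := N) h hab hcd
    exact ⟨m, m.2, h1, h2⟩
  refine ⟨fun u w => ?_⟩
  obtain ⟨m, hm, hm0, hm1⟩ := h2 (u 0) (u 1) (w 0) (w 1) (u.injective.ne (by decide)) (w.injective.ne (by decide))
  obtain ⟨k, hk, k0, k1, k2⟩ := two_point_transitive hodd hG N h2 (a := w 0) (b := w 1) (w.injective.ne (by decide))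
    (m • u 2) (w 2)
    (fun e => absurd (u.injective (MulAction.injective m (e.trans hm0.symm))) (by decide))
    (fun e => absurd (u.injective (MulAction.injective m (e.trans hm1.symm))) (by decide))
    (w.injective.ne (by decide)) (w.injective.ne (by decide))
  refine ⟨⟨k * m, N.mul_mem hk hm⟩, ?_⟩
  ext i
  show (k * m) • u i = w i
  fin_cases i
  · exact (mul_smul _ _ _).trans ((congrArg (k • ·) hm0).trans k0)
  · exact (mul_smul _ _ _).trans ((congrArg (k • ·) hm1).trans k1)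
  · exact (mul_smul _ _ _).trans k2

end Cfsg.Agent.S0699
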