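import Cfsg.Statements.S0700
import Cfsg.Agent.Lib.PermGp.NormalTwoTrans

set_option autoImplicit false
open Cfsg

namespace Cfsg.Agent.S0700

/-- Burnside's Theorem on doubly transitive groups: a minimal normal subgroup of a finite doubly transitive permutation group is elementary abelian and regular, or simple and primitive. -/
theorem result {α : Type*} [Fintype α] [DecidableEq α] (G : Subgroup (Equiv.Perm α)) (hG : MulAction.IsMultiplyPretransitive G α 2) (N : Subgroup G) [N.Normal] (hN : N ≠ ⊥) (hmin : ∀ M : Subgroup G, M.Normal → M ≤ N → M = ⊥ ∨ M = N) : (IsMulCommutative N ∧ (∃ p : ℕ, p.Prime ∧ ∀ n ∈ N, n ^ p = 1) ∧ ∀ a : α, MulAction.stabilizer N a = ⊥) ∨ (IsSimpleGroup N ∧ MulAction.IsPreprimitive N α) := by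
  classical
  rcases isEmpty_or_nonempty α with h | ⟨⟨a⟩⟩
  · exact absurd ((Subgroup.eq_bot_iff_forall _).mpr fun x _ => PermGp.perm_ext fun w => h.elim w) hN
  have : MulAction.IsPreprimitive G α := MulAction.isPreprimitive_of_is_two_pretransitive hG
  have ht := PermGp.normal_transitive (α := α) N hN
  by_cases hreg : MulAction.stabilizer N a = ⊥
  · left
    have hall : ∀ b : α, MulAction.stabilizer N b = ⊥ := fun b => by
      obtain ⟨n, rfl⟩ := MulAction.exists_smul_eq N a b
      rw [MulAction.stabilizer_smul_eq_stabilizer_map_conj, hreg, Subgroup.map_bot]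
    obtain ⟨hc, hp⟩ := PermGp.regular_normal_elementary hG N hN ht hall
    exact ⟨⟨⟨fun u v => Subtype.ext (hc u u.2 v v.2)⟩⟩, hp, hall⟩
  · right
    have hprim := PermGp.minimal_normal_primitive hG N hmin ht hreg
    exact ⟨PermGp.minimal_normal_simple hG N hN hmin hprim hreg, hprim⟩

end Cfsg.Agent.S0700
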