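import Cfsg.Statements.S0701
import Cfsg.Agent.Lib.PermGp.PrimeDegree

set_option autoImplicit false
open Cfsg

namespace Cfsg.Agent.S0701

/-- The centraliser in the full symmetric group of a transitive permutation group `G` is semiregular, and it is transitive if and only if `G` is regular. -/
theorem result {α : Type*} (G : Subgroup (Equiv.Perm α)) [MulAction.IsPretransitive G α] : (∀ c ∈ Subgroup.centralizer (G : Set (Equiv.Perm α)), ∀ a : α, c a = a → c = 1) ∧ (MulAction.IsPretransitive (Subgroup.centralizer (G : Set (Equiv.Perm α))) α ↔ ∀ a : α, MulAction.stabilizer G a = ⊥) := by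
  have key : ∀ c ∈ Subgroup.centralizer (G : Set (Equiv.Perm α)), ∀ a : α, c a = a → c = 1 := by
    intro c hc a ha
    ext x
    obtain ⟨g, rfl⟩ := MulAction.exists_smul_eq G a x
    have h := DFunLike.congr_fun (Subgroup.mem_centralizer_iff.mp hc g g.2) a
    simp only [Equiv.Perm.mul_apply, ha] at h
    exact h.symm
  refine ⟨key, ?_, ?_⟩
  · intro hT a
    rw [Subgroup.eq_bot_iff_forall]
    intro g hg
    apply PermGp.perm_ext
    intro x
    obtain ⟨c, rfl⟩ := MulAction.exists_smul_eq (Subgroup.centralizer (G : Set (Equiv.Perm α))) a x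
    have h := DFunLike.congr_fun (Subgroup.mem_centralizer_iff.mp c.2 g g.2) a
    simp only [Equiv.Perm.mul_apply] at h
    have hga : (g : Equiv.Perm α) a = a := hg
    rw [hga] at h
    simpa [Subgroup.smul_def] using h
  · intro hreg
    refine ⟨fun a b => ?_⟩
    have hinj : Function.Injective (fun g : G => g • a) := by
      intro g g' h
      have : g'⁻¹ * g ∈ MulAction.stabilizer G a := by
        rw [MulAction.mem_stabilizer_iff, mul_smul]
        simp only at h
        rw [h, inv_smul_smul]
      rw [hreg, Subgroup.mem_bot, inv_mul_eq_one] at this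
      exact this.symm
    let e : G ≃ α := Equiv.ofBijective _ ⟨hinj, fun x => MulAction.exists_smul_eq G a x⟩
    let c : Equiv.Perm α := e.symm.trans ((Equiv.mulRight (e.symm b)).trans e)
    have hc : c ∈ Subgroup.centralizer (G : Set (Equiv.Perm α)) := by
      rw [Subgroup.mem_centralizer_iff]
      intro g hg
      ext x
      obtain ⟨h, rfl⟩ := e.surjective x
      have e1 : ∀ k : G, g (e k) = e (⟨g, hg⟩ * k) := fun k =>
        (mul_smul (⟨g, hg⟩ : G) k a).symm
      simp [c, e1, mul_assoc]
    refine ⟨⟨c, hc⟩, ?_⟩
    show c a = b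
    have : e 1 = a := one_smul G a
    rw [← this]
    simp [c]

end Cfsg.Agent.S0701
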