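import Cfsg.Statements.S0702
import Cfsg.Agent.Lib.PermGp.Basic

set_option autoImplicit false
open Cfsg

namespace Cfsg.Agent.S0702

/-- For a transitive permutation group `G` on a finite set, the centraliser of `G` in the symmetric group is isomorphic to `N_G(G_ω)/G_ω`, and its orbit of `ω` is the set of fixed points of `G_ω`. -/
theorem result {α : Type*} [Finite α] (G : Subgroup (Equiv.Perm α)) [MulAction.IsPretransitive G α] (a : α) : Nonempty (Subgroup.centralizer (G : Set (Equiv.Perm α)) ≃* Subgroup.normalizer ((MulAction.stabilizer G a : Subgroup G) : Set G) ⧸ (MulAction.stabilizer G a).subgroupOf (Subgroup.normalizer ((MulAction.stabilizer G a : Subgroup G) : Set G))) ∧ MulAction.orbit (Subgroup.centralizer (G : Set (Equiv.Perm α))) a = MulAction.fixedPoints (MulAction.stabilizer G a) α := by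
  classical
  set C := Subgroup.centralizer (G : Set (Equiv.Perm α))
  set S := MulAction.stabilizer G a
  set N := Subgroup.normalizer ((S : Subgroup G) : Set G)
  have hcomm : ∀ (c : C) (g : G) (x : α), c • (g • x) = g • (c • x) := fun c g x =>
    (DFunLike.congr_fun (Subgroup.mem_centralizer_iff.mp c.2 g g.2) x).symm
  have hsemi : ∀ c : C, c • a = a → c = 1 := by
    intro c hc
    refine Subtype.ext (Equiv.ext fun x => ?_)
    obtain ⟨g, rfl⟩ := MulAction.exists_smul_eq G a x
    show c • (g • a) = g • a
    rw [hcomm, hc]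
  -- an element of the normaliser gives a centralising permutation
  have hNc : ∀ n : N, ∃ c : C, c • a = (n : G)⁻¹ • a := by
    intro n
    let g : α → G := fun x => (MulAction.exists_smul_eq G a x).choose
    have hg : ∀ x, g x • a = x := fun x => (MulAction.exists_smul_eq G a x).choose_spec
    let f : α → α := fun x => g x • (n : G)⁻¹ • a
    have hwd : ∀ (h : G) x, h • a = x → f x = h • (n : G)⁻¹ • a := by
      intro h x hx
      have hk : h⁻¹ * g x ∈ S := by
        rw [MulAction.mem_stabilizer_iff, mul_smul, hg, ← hx, inv_smul_smul]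
      have hk' : (n : G) * (h⁻¹ * g x) * (n : G)⁻¹ ∈ S := (Subgroup.mem_normalizer_iff.mp n.2 _).mp hk
      rw [MulAction.mem_stabilizer_iff] at hk'
      show g x • _ = _
      have e := congrArg (fun y => h • (n : G)⁻¹ • y) hk'
      simp only [mul_smul, inv_smul_smul, smul_inv_smul] at e
      exact e
    have hbij : Function.Bijective f := by
      refine Finite.surjective_iff_bijective.mp fun y => ?_
      obtain ⟨h, rfl⟩ := MulAction.exists_smul_eq G a y
      refine ⟨(h * (n : G)) • a, ?_⟩
      rw [hwd (h * n) _ rfl, mul_smul, smul_inv_smul]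
    refine ⟨⟨Equiv.ofBijective f hbij, ?_⟩, ?_⟩
    · rw [Subgroup.mem_centralizer_iff]
      intro k hk
      ext x
      obtain ⟨h, rfl⟩ := MulAction.exists_smul_eq G a x
      show k (f (h • a)) = f (k (h • a))
      rw [hwd h _ rfl, hwd (⟨k, hk⟩ * h) _ (mul_smul _ _ _), mul_smul]
      rfl
    · show f a = _
      rw [hwd 1 a (one_smul G a), one_smul]
  choose φ hφ using hNc
  have huniq : ∀ c d : C, c • a = d • a → c = d := by
    intro c d h
    have := hsemi (d⁻¹ * c) (by rw [mul_smul, h, inv_smul_smul])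
    exact (inv_mul_eq_one.mp this).symm
  let F : N →* C := MonoidHom.mk' φ fun n m => huniq _ _ (by
    rw [hφ, mul_smul, hφ m, hcomm, hφ n, ← mul_smul, Subgroup.coe_mul, mul_inv_rev])
  have hsurjN : ∀ (c : C) (g : G), g • a = c • a → g⁻¹ ∈ N := by
    intro c g hg
    rw [Subgroup.inv_mem_iff, Subgroup.mem_normalizer_iff]
    intro k
    show k • a = a ↔ (g * k * g⁻¹) • a = a
    have key : ∀ k : G, (k • a = a ↔ k • (c • a) = c • a) := fun k => by
      rw [← hcomm]; exact ⟨fun h => by rw [h], fun h => MulAction.injective c h⟩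
    rw [key (g * k * g⁻¹), ← hg, mul_smul, mul_smul, inv_smul_smul]
    exact ⟨fun h => by rw [h], fun h => MulAction.injective g h⟩
  have hsurj : Function.Surjective F := by
    intro c
    obtain ⟨g, hg⟩ := MulAction.exists_smul_eq G a (c • a)
    refine ⟨⟨g⁻¹, hsurjN c g hg⟩, huniq _ _ ?_⟩
    rw [← hg]
    show φ _ • a = g • a
    rw [hφ, inv_inv]
  have hker : F.ker = S.subgroupOf N := by
    ext n
    rw [MonoidHom.mem_ker, Subgroup.mem_subgroupOf, MulAction.mem_stabilizer_iff]
    constructor
    · intro h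
      have h' : F n • a = a := by rw [h, one_smul]
      change φ n • a = a at h'
      rw [hφ, inv_smul_eq_iff] at h'
      exact h'.symm
    · intro h
      apply hsemi
      show φ n • a = a
      rw [hφ, inv_smul_eq_iff]
      exact h.symm
  refine ⟨⟨((QuotientGroup.quotientKerEquivOfSurjective F hsurj).symm.trans
    (QuotientGroup.quotientMulEquivOfEq hker))⟩, ?_⟩
  ext y
  constructor
  · rintro ⟨c, rfl⟩
    rintro ⟨s, hs⟩
    show s • c • a = c • a
    rw [← hcomm, show s • a = a from hs]
  · intro hy
    obtain ⟨g, rfl⟩ := MulAction.exists_smul_eq G a y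
    have hfix : ∀ s : G, s • a = a → s • (g • a) = g • a := fun s hs => hy ⟨s, hs⟩
    have hle : S.map (MulAut.conj g⁻¹).toMonoidHom ≤ S := by
      rintro _ ⟨s, hs, rfl⟩
      show (g⁻¹ * s * g⁻¹⁻¹) • a = a
      rw [inv_inv, mul_smul, mul_smul, hfix s hs, inv_smul_smul]
    have heq : S.map (MulAut.conj g⁻¹).toMonoidHom = S :=
      Subgroup.eq_of_le_of_card_ge hle
        (le_of_eq (Nat.card_congr (Subgroup.equivMapOfInjective _ _ (MulAut.conj g⁻¹).injective).toEquiv))
    have hgN : g⁻¹ ∈ N := Subgroup.mem_normalizer_iff_map_conj_eq.mpr heq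
    exact ⟨φ ⟨g⁻¹, hgN⟩, by show φ _ • a = g • a; rw [hφ, inv_inv]⟩

end Cfsg.Agent.S0702
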