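import Cfsg.Statements.S0703
import Cfsg.Agent.Lib.PermGp.Basic
import Cfsg.Agent.Lib.PermGp.MinNormalPow

set_option autoImplicit false
open Cfsg

namespace Cfsg.Agent.S0703

/-- An abelian transitive minimal normal subgroup `M` of a permutation group on a finite set is self-centralising in the symmetric group, regular, elementary abelian, and is the unique minimal normal subgroup. -/
theorem result {α : Type*} [Finite α] (G : Subgroup (Equiv.Perm α)) (M : Subgroup G) [M.Normal] (hM : M ≠ ⊥) (hmin : ∀ L : Subgroup G, L.Normal → L ≤ M → L = ⊥ ∨ L = M) (hab : IsMulCommutative M) (htrans : MulAction.IsPretransitive M α) : Subgroup.centralizer ((M.map G.subtype : Subgroup (Equiv.Perm α)) : Set (Equiv.Perm α)) = M.map G.subtype ∧ (∀ a : α, MulAction.stabilizer M a = ⊥) ∧ (∃ p : ℕ, p.Prime ∧ ∀ m ∈ M, m ^ p = 1) ∧ ∀ L : Subgroup G, L.Normal → L ≠ ⊥ → (∀ L' : Subgroup G, L'.Normal → L' ≤ L → L' = ⊥ ∨ L' = L) → L = M := by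
  classical
  have := Fintype.ofFinite α
  have hc : ∀ m ∈ M, ∀ m' ∈ M, m * m' = m' * m := fun m hm m' hm' =>
    congrArg Subtype.val (hab.is_comm.comm ⟨m, hm⟩ ⟨m', hm'⟩)
  have hsemi : ∀ a : α, MulAction.stabilizer M a = ⊥ := fun a => by
    rw [Subgroup.eq_bot_iff_forall]
    intro u hu
    exact Subtype.ext (PermGp.stabilizer_eq_bot_of_commute M (fun v hv => hc u u.2 v hv) hu)
  have hself : Subgroup.centralizer ((M.map G.subtype : Subgroup (Equiv.Perm α)) : Set (Equiv.Perm α)) =
      M.map G.subtype := by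
    refine le_antisymm (fun c hcen => ?_) ?_
    · rcases isEmpty_or_nonempty α with h | ⟨⟨a⟩⟩
      · rw [show c = 1 from Equiv.ext fun x => h.elim x]
        exact Subgroup.one_mem _
      obtain ⟨m, hm⟩ := MulAction.exists_smul_eq M a (c a)
      refine ⟨m, m.2, Equiv.ext fun x => ?_⟩
      obtain ⟨n, rfl⟩ := MulAction.exists_smul_eq M a x
      have h1 := DFunLike.congr_fun (Subgroup.mem_centralizer_iff.mp hcen ((n : G) : Equiv.Perm α) ⟨n, n.2, rfl⟩) a
      show (m : G) • ((n : G) • a) = c ((n : G) • a)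
      rw [← mul_smul, hc m m.2 n n.2, mul_smul]
      show (n : G) • (m • a) = _
      rw [hm]
      exact h1
    · rintro _ ⟨m, hm, rfl⟩
      rw [Subgroup.mem_centralizer_iff]
      rintro _ ⟨n, hn, rfl⟩
      rw [← map_mul, ← map_mul, hc m hm n hn]
  refine ⟨hself, hsemi, ?_, fun L hL hLne hLmin => ?_⟩
  · obtain ⟨p, hp, hexp, -⟩ := PermGp.exists_power_of_comm hM
      (fun A h1 h2 h3 => (hmin A h1 h2).resolve_left h3) hc
    exact ⟨p, hp, hexp⟩
  · by_contra hne
    have hinf : L ⊓ M = ⊥ := by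
      rcases hmin (L ⊓ M) (Subgroup.normal_inf_normal L M) inf_le_right with h | h
      · exact h
      · rcases hLmin M inferInstance (h ▸ inf_le_left) with h' | h'
        · exact absurd h' hM
        · exact absurd h'.symm hne
    have hcomm := Subgroup.commute_of_normal_of_disjoint L M hL inferInstance (disjoint_iff.mpr hinf)
    refine hLne ((Subgroup.eq_bot_iff_forall _).mpr fun l hl => ?_)
    have : ((l : G) : Equiv.Perm α) ∈ M.map G.subtype := by
      rw [← hself, Subgroup.mem_centralizer_iff]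
      rintro _ ⟨n, hn, rfl⟩
      exact congrArg Subtype.val (hcomm l n hl hn).symm
    obtain ⟨n, hn, hnl⟩ := this
    have hlM : l ∈ L ⊓ M := ⟨hl, by rw [← (Subtype.ext hnl : n = l)]; exact hn⟩
    rwa [hinf] at hlM

end Cfsg.Agent.S0703
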