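import Cfsg.Statements.S0704
import Cfsg.Agent.Lib.PermGp.Basic

set_option autoImplicit false
open Cfsg

namespace Cfsg.Agent.S0704

/-- Two distinct transitive minimal normal subgroups `M`, `N` of a permutation group are regular, non-abelian, isomorphic, each other's centraliser in the symmetric group, and the only minimal normal subgroups. -/
theorem result {α : Type*} (G : Subgroup (Equiv.Perm α)) (M N : Subgroup G) [M.Normal] [N.Normal] (hM : M ≠ ⊥) (hN : N ≠ ⊥) (hMmin : ∀ L : Subgroup G, L.Normal → L ≤ M → L = ⊥ ∨ L = M) (hNmin : ∀ L : Subgroup G, L.Normal → L ≤ N → L = ⊥ ∨ L = N) (hMN : M ≠ N) (hMt : MulAction.IsPretransitive M α) (hNt : MulAction.IsPretransitive N α) : (∀ a : α, MulAction.stabilizer M a = ⊥) ∧ (∀ a : α, MulAction.stabilizer N a = ⊥) ∧ ¬ IsMulCommutative M ∧ Nonempty (M ≃* N) ∧ Subgroup.centralizer ((M.map G.subtype : Subgroup (Equiv.Perm α)) : Set (Equiv.Perm α)) = N.map G.subtype ∧ Subgroup.centralizer ((N.map G.subtype : Subgroup (Equiv.Perm α)) : Set (Equiv.Perm α))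 = M.map G.subtype ∧ ∀ L : Subgroup G, L.Normal → L ≠ ⊥ → (∀ L' : Subgroup G, L'.Normal → L' ≤ L → L' = ⊥ ∨ L' = L) → L = M ∨ L = N := by
  classical
  have hinf : M ⊓ N = ⊥ := by
    rcases hMmin (M ⊓ N) (Subgroup.normal_inf_normal M N) inf_le_left with h | h
    · exact h
    · rcases hNmin M inferInstance (h ▸ inf_le_right) with h' | h'
      · exact absurd h' hM
      · exact absurd h' hMN
  have hcomm : ∀ m ∈ M, ∀ n ∈ N, m * n = n * m := fun m hm n hn =>
    Subgroup.commute_of_normal_of_disjoint M N inferInstance inferInstance (disjoint_iff.mpr hinf) m n hm hn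
  have hMs : ∀ a : α, MulAction.stabilizer M a = ⊥ := fun a => (Subgroup.eq_bot_iff_forall _).mpr fun u hu =>
    Subtype.ext (PermGp.stabilizer_eq_bot_of_commute N (fun v hv => hcomm u u.2 v hv) hu)
  have hNs : ∀ a : α, MulAction.stabilizer N a = ⊥ := fun a => (Subgroup.eq_bot_iff_forall _).mpr fun u hu =>
    Subtype.ext (PermGp.stabilizer_eq_bot_of_commute M (fun v hv => (hcomm v hv u u.2).symm) hu)
  -- centralisers
  have hcen : ∀ (A B : Subgroup G), MulAction.IsPretransitive A α → MulAction.IsPretransitive B α →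
      (∀ x ∈ A, ∀ y ∈ B, x * y = y * x) →
      Subgroup.centralizer ((A.map G.subtype : Subgroup (Equiv.Perm α)) : Set (Equiv.Perm α)) = B.map G.subtype := by
    intro A B hA hB hAB
    refine le_antisymm (fun c hc => ?_) ?_
    · rcases isEmpty_or_nonempty α with h | ⟨⟨a⟩⟩
      · rw [show c = 1 from Equiv.ext fun x => h.elim x]
        exact Subgroup.one_mem _
      obtain ⟨n, hn⟩ := hB.exists_smul_eq a (c a)
      refine ⟨n, n.2, Equiv.ext fun x => ?_⟩
      obtain ⟨u, rfl⟩ := hA.exists_smul_eq a x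
      have h1 := DFunLike.congr_fun (Subgroup.mem_centralizer_iff.mp hc ((u : G) : Equiv.Perm α) ⟨u, u.2, rfl⟩) a
      show (n : G) • ((u : G) • a) = c ((u : G) • a)
      rw [← mul_smul, ← hAB u u.2 n n.2, mul_smul]
      show (u : G) • (n • a) = _
      rw [hn]
      exact h1
    · rintro _ ⟨n, hn, rfl⟩
      rw [Subgroup.mem_centralizer_iff]
      rintro _ ⟨m, hm, rfl⟩
      rw [← map_mul, ← map_mul, hAB m hm n hn]
  have hCM := hcen M N hMt hNt hcomm
  have hCN := hcen N M hNt hMt fun x hx y hy => (hcomm y hy x hx).symm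
  have hinjmap : ∀ (x : G) (A : Subgroup G), ((x : G) : Equiv.Perm α) ∈ A.map G.subtype → x ∈ A := by
    rintro x A ⟨y, hy, hyx⟩
    rw [← (Subtype.ext hyx : y = x)]; exact hy
  refine ⟨hMs, hNs, ?_, ?_, hCM, hCN, fun L hL hLne hLmin => ?_⟩
  · intro hab
    have hle : M ≤ N := fun m hm => hinjmap m N (by
      rw [← hCM, Subgroup.mem_centralizer_iff]
      rintro _ ⟨k, hk, rfl⟩
      exact congrArg Subtype.val (congrArg Subtype.val (hab.is_comm.comm ⟨k, hk⟩ ⟨m, hm⟩) : k * m = m * k))
    exact hM (by rw [← hinf, inf_eq_left.mpr hle])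
  · rcases isEmpty_or_nonempty α with h | ⟨⟨a⟩⟩
    · exact absurd ((Subgroup.eq_bot_iff_forall _).mpr fun x _ => PermGp.perm_ext fun w => h.elim w) hM
    have hN1 : ∀ u v : N, u • a = v • a → u = v := by
      intro u v h
      have : v⁻¹ * u ∈ MulAction.stabilizer N a := by
        rw [MulAction.mem_stabilizer_iff, mul_smul, inv_smul_eq_iff]; exact h
      rw [hNs, Subgroup.mem_bot, inv_mul_eq_one] at this
      exact this.symm
    choose φ hφ using fun m : M => hNt.exists_smul_eq a (m⁻¹ • a)
    have hsw : ∀ (u : M) (v : N), u • v • a = v • u • a := fun u v => by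
      show (u : G) • (v : G) • a = (v : G) • (u : G) • a
      rw [← mul_smul, hcomm u u.2 v v.2, mul_smul]
    let F : M →* N := MonoidHom.mk' φ fun x y => hN1 _ _ (by
      rw [hφ, mul_inv_rev, mul_smul, ← hφ x, hsw, ← hφ y, ← mul_smul])
    refine ⟨MulEquiv.ofBijective F ⟨?_, ?_⟩⟩
    · intro x y h
      have h' : φ x • a = φ y • a := by rw [show φ x = φ y from h]
      rw [hφ, hφ] at h'
      have : x * y⁻¹ ∈ MulAction.stabilizer M a := by
        rw [MulAction.mem_stabilizer_iff, mul_smul, ← h', smul_inv_smul]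
      rw [hMs, Subgroup.mem_bot, mul_inv_eq_one] at this
      exact this
    · intro v
      obtain ⟨u, hu⟩ := hMt.exists_smul_eq a (v • a)
      refine ⟨u⁻¹, hN1 _ _ ?_⟩
      show φ u⁻¹ • a = v • a
      rw [hφ, inv_inv, hu]
  · by_cases hLM : L = M
    · exact Or.inl hLM
    right
    have hLi : L ⊓ M = ⊥ := by
      rcases hMmin (L ⊓ M) (Subgroup.normal_inf_normal L M) inf_le_right with h | h
      · exact h
      · rcases hLmin M inferInstance (h ▸ inf_le_left) with h' | h'
        · exact absurd h' hM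
        · exact absurd h'.symm hLM
    have hle : L ≤ N := fun l hl => hinjmap l N (by
      rw [← hCM, Subgroup.mem_centralizer_iff]
      rintro _ ⟨k, hk, rfl⟩
      exact congrArg Subtype.val
        (Subgroup.commute_of_normal_of_disjoint L M hL inferInstance (disjoint_iff.mpr hLi) l k hl hk).symm)
    exact (hNmin L hL hle).resolve_left hLne

end Cfsg.Agent.S0704
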