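import Cfsg.Statements.S0705
import Cfsg.Agent.Lib.PermGp.MultiTrans

set_option autoImplicit false
open scoped Pointwise
open Cfsg

namespace Cfsg.Agent.S0705

open scoped Pointwise


/-- A generously `k`-transitive permutation group (every `(k+1)`-subset has its full symmetric group induced by the setwise stabiliser) of degree greater than `k` is `k`-transitive, and for a `k`-subset the setwise and pointwise stabilisers have the same orbits outside it. -/
theorem result {α : Type*} [Fintype α] [DecidableEq α] (G : Subgroup (Equiv.Perm α)) {k : ℕ} (hk : k < Fintype.card α) (hgen : ∀ s : Finset α, s.card = k + 1 → ∀ σ : Equiv.Perm ↥s, ∃ g ∈ G, ∀ x : ↥s, g (x : α) = σ x) : MulAction.IsMultiplyPretransitive G α k ∧ ∀ s : Finset α, s.card = k → ∀ a b : α, a ∉ s → b ∉ s → (∃ g ∈ G, g • s = s ∧ g a = b) → ∃ g ∈ G, (∀ x ∈ s, g x = x) ∧ g a = b := by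
  have hext : ∀ t : Finset α, t.card ≤ k + 1 → ∃ u, t ⊆ u ∧ u.card = k + 1 := fun t ht => by
    obtain ⟨u, hu1, -, hu3⟩ := Finset.exists_subsuperset_card_eq (Finset.subset_univ t) ht
      (by rw [Finset.card_univ]; omega)
    exact ⟨u, hu1, hu3⟩
  refine ⟨PermGp.mt_of_fix fun s hs x y hx hy => ?_, ?_⟩
  · by_cases hxy : x = y
    · exact ⟨1, fun z _ => one_smul _ z, by rw [one_smul, hxy]⟩
    obtain ⟨u, hu, huc⟩ := hext (insert x (insert y s)) (by
      have := Finset.card_insert_le x (insert y s)
      have := Finset.card_insert_le y s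
      omega)
    have hxu : x ∈ u := hu (Finset.mem_insert_self _ _)
    have hyu : y ∈ u := hu (Finset.mem_insert_of_mem (Finset.mem_insert_self _ _))
    obtain ⟨g, hgG, hg⟩ := hgen u huc (Equiv.swap ⟨x, hxu⟩ ⟨y, hyu⟩)
    refine ⟨⟨g, hgG⟩, fun z hz => ?_, ?_⟩
    · have hzu : z ∈ u := hu (Finset.mem_insert_of_mem (Finset.mem_insert_of_mem hz))
      have := hg ⟨z, hzu⟩
      rwa [Equiv.swap_apply_of_ne_of_ne (fun e => hx (by
        have : z = x := congrArg Subtype.val e
        exact this ▸ hz)) (fun e => hy (by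
        have : z = y := congrArg Subtype.val e
        exact this ▸ hz))] at this
    · have := hg ⟨x, hxu⟩
      rwa [Equiv.swap_apply_left] at this
  · rintro s hs a b ha hb ⟨g, hgG, hgs, hga⟩
    have hmem : ∀ z, z ∈ s → g⁻¹ z ∈ s := fun z hz => by
      have : z ∈ g • s := by rw [hgs]; exact hz
      obtain ⟨w, hw, rfl⟩ := Finset.mem_smul_finset.mp this
      simpa using hw
    let f : ↥(insert a s) → ↥(insert a s) := fun z =>
      if h : (z : α) ∈ s then ⟨g⁻¹ z, Finset.mem_insert_of_mem (hmem z h)⟩ else z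
    have hinj : Function.Injective f := by
      intro z w h
      apply Subtype.ext
      have h' := congrArg Subtype.val h
      by_cases hz : (z : α) ∈ s <;> by_cases hw : (w : α) ∈ s
      all_goals simp only [f, dif_pos, dif_neg, hz, hw, not_false_iff] at h'
      · exact (g⁻¹).injective h'
      · exact absurd (h' ▸ hmem z hz) hw
      · exact absurd (h'.symm ▸ hmem w hw) hz
      · exact h'
    obtain ⟨q, hqG, hq⟩ := hgen (insert a s) (by rw [Finset.card_insert_of_notMem ha, hs])
      (Equiv.ofBijective f (Finite.injective_iff_bijective.mp hinj))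
    refine ⟨g * q, mul_mem hgG hqG, fun z hz => ?_, ?_⟩
    · have := hq ⟨z, Finset.mem_insert_of_mem hz⟩
      simp only [Equiv.ofBijective_apply, f, dif_pos, hz] at this
      rw [Equiv.Perm.mul_apply, this, Equiv.Perm.inv_def, Equiv.apply_symm_apply]
    · have := hq ⟨a, Finset.mem_insert_self _ _⟩
      simp only [Equiv.ofBijective_apply, f, dif_neg, ha, not_false_iff] at this
      rw [Equiv.Perm.mul_apply, this, hga]

end Cfsg.Agent.S0705
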