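import Cfsg.Statements.S0707
import Cfsg.Agent.Lib.PermGp.PrimeDegree

set_option autoImplicit false
open Cfsg

namespace Cfsg.Agent.S0707

/-- In a primitive permutation group, distinct points have distinct stabilisers unless the group is regular of prime degree. -/
theorem result {α : Type*} (G : Subgroup (Equiv.Perm α)) [MulAction.IsPreprimitive G α] (h : ¬ (Nat.card α).Prime ∨ ∃ a : α, MulAction.stabilizer G a ≠ ⊥) {a b : α} (hab : a ≠ b) : MulAction.stabilizer G a ≠ MulAction.stabilizer G b := by
  intro heq
  have hne : Nontrivial α := ⟨a, b, hab⟩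
  have hco : IsCoatom (MulAction.stabilizer G a) := MulAction.IsPreprimitive.isCoatom_stabilizer_of_isPreprimitive G a
  have hall : ∀ g : G, g • a = a → g • b = b := fun g hg => by
    have : g ∈ MulAction.stabilizer G a := hg
    rwa [heq] at this
  -- the points with the same stabiliser form a block
  have hB : MulAction.IsBlock G {x : α | MulAction.stabilizer G x = MulAction.stabilizer G a} := by
    rw [MulAction.isBlock_iff_smul_eq_of_nonempty]
    intro g hne
    obtain ⟨y, hy1, hy2⟩ := hne
    obtain ⟨x, hx, rfl⟩ := hy1
    have hgx : MulAction.stabilizer G (g • x) = MulAction.stabilizer G a := hy2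
    have hnorm : ∀ z : α, MulAction.stabilizer G z = MulAction.stabilizer G a →
        MulAction.stabilizer G (g • z) = MulAction.stabilizer G a := by
      intro z hz
      rw [MulAction.stabilizer_smul_eq_stabilizer_map_conj, hz, ← hx,
        ← MulAction.stabilizer_smul_eq_stabilizer_map_conj, hgx, hx]
    ext z
    constructor
    · rintro ⟨w, hw, rfl⟩
      exact hnorm w hw
    · intro hz
      refine ⟨g⁻¹ • z, ?_, smul_inv_smul g z⟩
      have hz' : MulAction.stabilizer G z = MulAction.stabilizer G a := hz
      show MulAction.stabilizer G (g⁻¹ • z) = _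
      rw [MulAction.stabilizer_smul_eq_stabilizer_map_conj, hz', ← hgx,
        ← MulAction.stabilizer_smul_eq_stabilizer_map_conj, inv_smul_smul, hx, hgx]
  rcases MulAction.IsPreprimitive.isTrivialBlock_of_isBlock hB with hs | hu
  · exact hab (hs rfl heq.symm)
  · have hbot : MulAction.stabilizer G a = ⊥ := by
      rw [Subgroup.eq_bot_iff_forall]
      intro g hg
      apply PermGp.perm_ext
      intro x
      have : g ∈ MulAction.stabilizer G x := by
        have hx : x ∈ {x : α | MulAction.stabilizer G x = MulAction.stabilizer G a} := hu ▸ trivial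
        rwa [show MulAction.stabilizer G x = MulAction.stabilizer G a from hx]
      rw [one_smul]; exact this
    rcases h with h | ⟨c, hc⟩
    · apply h
      rw [← MulAction.index_stabilizer_of_transitive G a, hbot, Subgroup.index_bot]
      rw [hbot] at hco
      obtain ⟨x, hx⟩ : ∃ x : G, x ≠ 1 := by
        by_contra! hall1
        exact hco.1 (eq_top_iff.mpr fun g _ => by rw [Subgroup.mem_bot]; exact hall1 g)
      have hz : ∀ y : G, y ≠ 1 → Subgroup.zpowers y = ⊤ := fun y hy =>
        hco.2 _ (bot_lt_iff_ne_bot.mpr (Subgroup.zpowers_ne_bot.mpr hy))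
      rw [← Subgroup.card_top (G := G), ← hz x hx, Nat.card_zpowers]
      rw [Nat.prime_def_lt]
      have hfin : orderOf x ≠ 0 := by
        intro h0
        have hx2 : x ^ 2 ≠ 1 := fun h2 => by
          have := orderOf_dvd_of_pow_eq_one h2
          rw [h0] at this; simp at this
        have : x ∈ Subgroup.zpowers (x ^ 2) := by rw [hz _ hx2]; trivial
        obtain ⟨n, hn⟩ := this
        have hn' : (x ^ 2) ^ n = x ^ (1 : ℤ) := by rw [zpow_one]; exact hn
        rw [← zpow_natCast, ← zpow_mul] at hn'
        have hi : Function.Injective (fun n : ℤ => x ^ n) :=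
          injective_zpow_iff_not_isOfFinOrder.mpr (orderOf_eq_zero_iff.mp h0)
        have := hi hn'
        omega
      have h1 : orderOf x ≠ 1 := by simpa using hx
      refine ⟨by omega, fun m hm hdvd => ?_⟩
      by_contra hm1
      have hpow : x ^ m ≠ 1 := pow_ne_one_of_lt_orderOf (by rintro rfl; exact hfin (Nat.eq_zero_of_zero_dvd hdvd)) hm
      have hmem : x ∈ Subgroup.zpowers (x ^ m) := by rw [hz _ hpow]; trivial
      have hle : Subgroup.zpowers (x ^ m) = Subgroup.zpowers x :=
        le_antisymm (Subgroup.zpowers_le.mpr (Subgroup.pow_mem _ (Subgroup.mem_zpowers x) m))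
          (Subgroup.zpowers_le.mpr hmem)
      have hc1 := congrArg (fun H : Subgroup G => Nat.card H) hle
      simp only [Nat.card_zpowers] at hc1
      rw [orderOf_pow_of_dvd (by rintro rfl; exact hfin (Nat.eq_zero_of_zero_dvd hdvd)) hdvd] at hc1
      have := Nat.div_lt_self (show 0 < orderOf x by omega) (show 1 < m by
        rcases m with _ | _ | m
        · exact absurd (Nat.eq_zero_of_zero_dvd hdvd) hfin
        · exact absurd rfl hm1
        · omega)
      omega
    · apply hc
      have hx : c ∈ {x : α | MulAction.stabilizer G x = MulAction.stabilizer G a} := hu ▸ trivial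
      rw [show MulAction.stabilizer G c = MulAction.stabilizer G a from hx, hbot]

end Cfsg.Agent.S0707
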