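import Cfsg.Statements.S0709
import Cfsg.Agent.Lib.PermGp.Witt.Extension

set_option autoImplicit false
open Cfsg

namespace Cfsg.Agent.S0709

theorem main {α : Type*} [Fintype α] [DecidableEq α] (t : ℕ) (q : ℕ → α)
    (hq : ∀ i j : ℕ, 1 ≤ i → i ≤ t → 1 ≤ j → j ≤ t → q i = q j → i = j)
    (G : Subgroup (Equiv.Perm α)) (hfix : ∀ g ∈ G, ∀ i : ℕ, 3 ≤ i → i ≤ t → g (q i) = q i)
    (h2 : ∀ a b c d : α, (∀ i, 3 ≤ i → i ≤ t → a ≠ q i ∧ b ≠ q i ∧ c ≠ q i ∧ d ≠ q i) →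
      a ≠ b → c ≠ d → ∃ g ∈ G, g a = c ∧ g b = d)
    (s : ℕ → Equiv.Perm α) (hs1 : s 1 ∈ G) (hs1q : s 1 (q 1) = q 2)
    (hsq : ∀ i : ℕ, 2 ≤ i → i + 1 ≤ t → s i (q i) = q (i + 1) ∧ s i (q (i + 1)) = q i ∧
      ∀ j : ℕ, 1 ≤ j → j ≤ t → j ≠ i → j ≠ i + 1 → s i (q j) = q j)
    (H : Subgroup (Equiv.Perm α))
    (hH : ∀ g, g ∈ H ↔ g ∈ G ∧ g (q 1) = q 1 ∧ g (q 2) = q 2)
    (hsq2 : ∀ i : ℕ, 1 ≤ i → i + 1 ≤ t → s i ^ 2 ∈ H)
    (hbraid : ∀ i : ℕ, 1 ≤ i → i + 2 ≤ t → (s i * s (i + 1)) ^ 3 ∈ H)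
    (hcomm : ∀ i j : ℕ, 1 ≤ i → i + 2 ≤ j → j + 1 ≤ t → (s j * s i) ^ 2 ∈ H)
    (hnorm : ∀ i : ℕ, 2 ≤ i → i + 1 ≤ t → ∀ g ∈ G, g (q 2) = q 2 → s i * g * (s i)⁻¹ ∈ G ∧ (s i * g * (s i)⁻¹) (q 2) = q 2) :
    ∀ m, 2 ≤ m → m ≤ t → ∃ K P : Subgroup (Equiv.Perm α),
      K = Subgroup.closure ((G : Set (Equiv.Perm α)) ∪ {x | ∃ i : ℕ, 2 ≤ i ∧ i + 1 ≤ m ∧ x = s i}) ∧
      (∀ g ∈ K, ∀ j, m < j → j ≤ t → g (q j) = q j) ∧ P ≤ K ∧ H ≤ P ∧ s (m - 1) ∈ K ∧
      (∀ g ∈ K, (∀ i, 1 ≤ i → i ≤ m → g (q i) = q i) → g ∈ H) ∧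
      (∀ k ∈ K, k ∈ P ∨ ∃ a ∈ P, ∃ b ∈ P, k = a * s (m - 1) * b) ∧
      (∀ i, m ≤ i → i + 1 ≤ t → ∀ g ∈ P, s i * g * (s i)⁻¹ ∈ P) ∧
      (∀ x : ℕ → α, (∀ i j, 1 ≤ i → i ≤ m → 1 ≤ j → j ≤ m → x i = x j → i = j) →
        (∀ i j, 1 ≤ i → i ≤ m → m < j → j ≤ t → x i ≠ q j) →
        ∃ g ∈ K, ∀ i, 1 ≤ i → i ≤ m → g (x i) = q i) := by
  intro m hm
  induction m, hm using Nat.le_induction with
  | base =>
    intro ht
    let P : Subgroup (Equiv.Perm α) :=
      { carrier := {g | g ∈ G ∧ g (q 2) = q 2}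
        one_mem' := ⟨G.one_mem, rfl⟩
        mul_mem' := fun {a b} ha hb => ⟨G.mul_mem ha.1 hb.1, by rw [Equiv.Perm.mul_apply, hb.2, ha.2]⟩
        inv_mem' := fun {a} ha => ⟨G.inv_mem ha.1, by
          rw [Equiv.Perm.inv_def, Equiv.symm_apply_eq, ha.2]⟩ }
    have h12 : q 1 ≠ q 2 := fun e => absurd (hq 1 2 le_rfl (by omega) (by omega) ht e) (by norm_num)
    have hout : ∀ i, 3 ≤ i → i ≤ t → q 1 ≠ q i ∧ q 2 ≠ q i := fun i hi hit =>
      ⟨fun e => absurd (hq 1 i le_rfl (by omega) (by omega) hit e) (by omega),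
        fun e => absurd (hq 2 i (by omega) ht (by omega) hit e) (by omega)⟩
    refine ⟨G, P, ?_, fun g hg j hj hjt => hfix g hg j hj hjt, fun g hg => hg.1,
      fun g hg => ⟨((hH g).mp hg).1, ((hH g).mp hg).2.2⟩, hs1,
      fun g hg hfq => (hH g).mpr ⟨hg, hfq 1 le_rfl (by omega), hfq 2 (by omega) le_rfl⟩, ?_,
      fun i hi hit g hg => hnorm i hi hit g hg.1 hg.2, ?_⟩
    · refine le_antisymm (fun g hg => Subgroup.subset_closure (Set.mem_union_left _ hg)) ((Subgroup.closure_le _).mpr ?_)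
      rintro g (hg | ⟨i, hi, hi', -⟩)
      · exact hg
      · omega
    · intro k hk
      by_cases hk2 : k (q 2) = q 2
      · exact Or.inl ⟨hk, hk2⟩
      have hy : ∀ i, 3 ≤ i → i ≤ t → k (q 2) ≠ q i := fun i hi hit e =>
        (hout i hi hit).2 (k.injective (e.trans (hfix k hk i hi hit).symm))
      obtain ⟨a, ha, ha2, ha1⟩ := h2 (q 2) (q 1) (q 2) (k (q 2))
        (fun i hi hit => ⟨(hout i hi hit).2, (hout i hi hit).1, (hout i hi hit).2, hy i hi hit⟩) h12.symm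
        (Ne.symm hk2)
      refine Or.inr ⟨a, ⟨ha, ha2⟩, (a * s 1)⁻¹ * k, ⟨G.mul_mem (G.inv_mem (G.mul_mem ha hs1)) hk, ?_⟩,
        (mul_inv_cancel_left _ _).symm⟩
      rw [Equiv.Perm.mul_apply, Equiv.Perm.inv_def, Equiv.symm_apply_eq, Equiv.Perm.mul_apply]
      have hs21 : s 1 (q 2) = q 1 := by
        have h := ((hH _).mp (hsq2 1 le_rfl ht)).2.1
        rw [pow_two, Equiv.Perm.mul_apply, hs1q] at h
        exact h
      rw [hs21, ha1]
    · intro x hx hxq
      obtain ⟨g, hg, hg1, hg2⟩ := h2 (x 1) (x 2) (q 1) (q 2) (fun i hi hit =>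
        ⟨hxq 1 i le_rfl (by omega) hi hit, hxq 2 i (by omega) le_rfl hi hit, (hout i hi hit).1,
          (hout i hi hit).2⟩)
        (fun e => absurd (hx 1 2 le_rfl (by omega) (by omega) le_rfl e) (by norm_num)) h12
      refine ⟨g, hg, fun i hi hi2 => ?_⟩
      interval_cases i <;> assumption
  | succ m hm ih =>
    intro ht
    obtain ⟨K, P, hKdef, hKfix, hPK, hHP, hs', hker, hrank, hnP, htr⟩ := ih (by omega)
    obtain ⟨hsu, hsv, hsfix⟩ := hsq m hm ht
    have huv : q m ≠ q (m + 1) := fun e => absurd (hq m (m + 1) (by omega) (by omega) (by omega) ht e) (by omega)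
    have hs2 : s m * s m ∈ P := hHP (by rw [← pow_two]; exact hsq2 m (by omega) ht)
    have hb : (s m * s (m - 1)) * ((s m * s (m - 1)) * (s m * s (m - 1))) ∈ P := by
      have hmem := hbraid (m - 1) (by omega) (by omega)
      rw [show m - 1 + 1 = m by omega] at hmem
      have hP := hHP hmem
      have hc := hnP m le_rfl ht _ hP
      rwa [show s m * (s (m - 1) * s m) ^ 3 * (s m)⁻¹ =
        s m * s (m - 1) * (s m * s (m - 1) * (s m * s (m - 1))) by
          rw [pow_succ, pow_two]; group] at hc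
    obtain ⟨hdec, hstab⟩ := PermGp.Witt.step (s := s m) (s' := s (m - 1))
      (fun k hk => hKfix k hk (m + 1) (by omega) ht) huv hsu hsv hPK (hnP m le_rfl ht) hrank hs' hs2 hb
    set K' := Subgroup.closure ((K : Set (Equiv.Perm α)) ∪ {s m}) with hK'
    have hKK' : K ≤ K' := fun g hg => Subgroup.subset_closure (Or.inl hg)
    have hsK' : s m ∈ K' := Subgroup.subset_closure (Or.inr rfl)
    have hK'fix : ∀ g ∈ K', ∀ j, m + 1 < j → j ≤ t → g (q j) = q j := by
      intro g hg j hj hjt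
      rcases hdec g hg with h | ⟨a, ha, b, hb', rfl⟩
      · exact hKfix g h j (by omega) hjt
      · rw [Equiv.Perm.mul_apply, Equiv.Perm.mul_apply, hKfix b hb' j (by omega) hjt,
          hsfix j (by omega) hjt (by omega) (by omega), hKfix a ha j (by omega) hjt]
    refine ⟨K', K, ?_, hK'fix, hKK', fun g hg => hPK (hHP hg), by rwa [Nat.add_sub_cancel],
      fun g hg hfq => ?_, by rwa [Nat.add_sub_cancel], ?_, ?_⟩
    · refine le_antisymm ((Subgroup.closure_le _).mpr ?_) ((Subgroup.closure_le _).mpr ?_)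
      · rintro g (hg | rfl)
        · rw [SetLike.mem_coe, hKdef] at hg
          refine Subgroup.closure_mono (Set.union_subset_union_right _ ?_) hg
          rintro _ ⟨i, h1, h2', rfl⟩
          exact ⟨i, h1, by omega, rfl⟩
        · exact Subgroup.subset_closure (Or.inr ⟨m, hm, le_rfl, rfl⟩)
      · rintro g (hg | ⟨i, h1, h2', rfl⟩)
        · exact hKK' (hKdef ▸ Subgroup.subset_closure (Or.inl hg))
        · rcases Nat.lt_or_ge i m with hi | hi
          · exact hKK' (hKdef ▸ Subgroup.subset_closure (Or.inr ⟨i, h1, hi, rfl⟩))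
          · rw [show i = m by omega]; exact hsK'
    · exact hker g (hstab g hg (hfq (m + 1) (by omega) le_rfl)) fun i hi him => hfq i hi (by omega)
    · intro i hi hit g hg
      rw [hKdef] at hg
      induction hg using Subgroup.closure_induction with
      | mem g hg =>
        have hbase : ∀ j, 1 ≤ j → j + 1 ≤ m → s i * s j * (s i)⁻¹ ∈ K := by
          intro j hj hjm
          have hjK : s j ∈ K := by
            rcases Nat.lt_or_ge j 2 with h | h
            · rw [show j = 1 by omega, hKdef]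
              exact Subgroup.subset_closure (Or.inl hs1)
            · rw [hKdef]; exact Subgroup.subset_closure (Or.inr ⟨j, h, hjm, rfl⟩)
          rw [show s i * s j * (s i)⁻¹ = (s i * s j) ^ 2 * (s j)⁻¹ * (s i ^ 2)⁻¹ by
            rw [pow_two, pow_two]; group]
          exact K.mul_mem (K.mul_mem (hPK (hHP (hcomm j i hj (by omega) hit))) (K.inv_mem hjK))
            (K.inv_mem (hPK (hHP (hsq2 i (by omega) hit))))
        rcases hg with hg | ⟨j, hj, hjm, rfl⟩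
        · have hgK : ∀ g ∈ G, g ∈ K := fun g hg => hKdef ▸ Subgroup.subset_closure (Or.inl hg)
          by_cases h22 : g (q 2) = q 2
          · exact hgK _ (hnorm i (by omega) hit g hg h22).1
          have hout : ∀ j, 3 ≤ j → j ≤ t → q 1 ≠ q j ∧ q 2 ≠ q j := fun j hj hjt =>
            ⟨fun e => absurd (hq 1 j le_rfl (by omega) (by omega) hjt e) (by omega),
              fun e => absurd (hq 2 j (by omega) (by omega) (by omega) hjt e) (by omega)⟩
          obtain ⟨a, ha, ha2, ha1⟩ := h2 (q 2) (q 1) (q 2) (g (q 2))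
            (fun j hj hjt => ⟨(hout j hj hjt).2, (hout j hj hjt).1, (hout j hj hjt).2, fun e =>
              (hout j hj hjt).2 (g.injective (e.trans (hfix g hg j hj hjt).symm))⟩)
            (fun e => absurd (hq 2 1 (by omega) (by omega) le_rfl (by omega) e) (by norm_num)) (Ne.symm h22)
          have hs21 : s 1 (q 2) = q 1 := by
            have h := ((hH _).mp (hsq2 1 le_rfl (by omega))).2.1
            rw [pow_two, Equiv.Perm.mul_apply, hs1q] at h
            exact h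
          have hbq : ((a * s 1)⁻¹ * g) (q 2) = q 2 := by
            rw [Equiv.Perm.mul_apply, Equiv.Perm.inv_def, Equiv.symm_apply_eq, Equiv.Perm.mul_apply, hs21, ha1]
          rw [show s i * g * (s i)⁻¹ = (s i * a * (s i)⁻¹) * (s i * s 1 * (s i)⁻¹) *
            (s i * ((a * s 1)⁻¹ * g) * (s i)⁻¹) by group]
          exact K.mul_mem (K.mul_mem (hgK _ (hnorm i (by omega) hit a ha ha2).1) (hbase 1 le_rfl (by omega)))
            (hgK _ (hnorm i (by omega) hit _ (G.mul_mem (G.inv_mem (G.mul_mem ha hs1)) hg) hbq).1)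
        · exact hbase j (by omega) hjm
      | one => rw [mul_one, mul_inv_cancel]; exact K.one_mem
      | mul a b _ _ ha hb =>
        rw [show s i * (a * b) * (s i)⁻¹ = (s i * a * (s i)⁻¹) * (s i * b * (s i)⁻¹) by group]
        exact K.mul_mem ha hb
      | inv a _ ha =>
        rw [show s i * a⁻¹ * (s i)⁻¹ = (s i * a * (s i)⁻¹)⁻¹ by group]
        exact K.inv_mem ha
    · intro x hx hxq
      obtain ⟨g, hg, hgy⟩ : ∃ g ∈ K', g (x (m + 1)) = q (m + 1) := by
        by_cases hy : x (m + 1) = q (m + 1)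
        · exact ⟨1, K'.one_mem, hy⟩
        have hout : ∀ j, m < j → j ≤ t → x (m + 1) ≠ q j := fun j hj hjt => by
          rcases Nat.lt_or_ge (m + 1) j with h | h
          · exact hxq (m + 1) j (by omega) le_rfl h hjt
          · rw [show j = m + 1 by omega]; exact hy
        obtain ⟨g, hg, hgq⟩ := htr (fun i => Equiv.swap (x (m + 1)) (q m) (q i))
          (fun i j hi him hj hjm e => hq i j hi (by omega) hj (by omega) ((Equiv.swap _ _).injective e))
          (fun i j hi him hj hjt e => by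
            have hf : Equiv.swap (x (m + 1)) (q m) (q j) = q j := Equiv.swap_apply_of_ne_of_ne
              (hout j hj hjt).symm (fun e' => absurd (hq j m (by omega) hjt (by omega) (by omega) e') (by omega))
            have := (Equiv.swap (x (m + 1)) (q m)).injective (e.trans hf.symm)
            exact absurd (hq i j hi (by omega) (by omega) hjt this) (by omega))
        refine ⟨s m * g, K'.mul_mem hsK' (hKK' hg), ?_⟩
        have := hgq m (by omega) le_rfl
        simp only [Equiv.swap_apply_right] at this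
        rw [Equiv.Perm.mul_apply, this, hsu]
      obtain ⟨k, hk, hkx⟩ := htr (fun i => g (x i))
        (fun i j hi him hj hjm e => hx i j hi (by omega) hj (by omega) (g.injective e))
        (fun i j hi him hj hjt e => by
          rcases Nat.lt_or_ge (m + 1) j with h | h
          · exact hxq i j hi (by omega) h hjt (g.injective (e.trans (hK'fix g hg j h hjt).symm))
          · rw [show j = m + 1 by omega, ← hgy] at e
            exact absurd (hx i (m + 1) hi (by omega) (by omega) le_rfl (g.injective e)) (by omega))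
      refine ⟨k * g, K'.mul_mem (hKK' hk) hg, fun i hi him => ?_⟩
      rcases Nat.lt_or_ge i (m + 1) with h | h
      · exact hkx i hi (by omega)
      · rw [show i = m + 1 by omega, Equiv.Perm.mul_apply, hgy, hKfix k hk (m + 1) (by omega) ht]

/-- Witt's Lemma for constructing transitive extensions. Points `q 1, …, q t` (`t ≥ 2`) of a finite set are given; `G` fixes `q i` for `i ≥ 3` and is doubly transitive on the remaining points; `s 1 ∈ G` swaps `q 1, q 2`; for `2 ≤ i ≤ t-1`, `s i` swaps `q i, q (i+1)` and fixes the other `q j`; with `H` the stabiliser of `q 1, q 2` in `G`: `s i ^ 2 ∈ H`, `(s i * s (i+1)) ^ 3 ∈ H`, `(s i * s j) ^ 2 ∈ H` for `j ≥ i + 2`, and `s i` (`i ≥ 2`) normalises the stabiliser of `q 2` in `G`. Then `G` and the `s i` generate a `t`-transitive group whose pointwise stabiliser of the `q`'s is `H`. -/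
theorem result {α : Type*} [Fintype α] [DecidableEq α] (t : ℕ) (ht : 2 ≤ t) (q : ℕ → α) (hq : ∀ i j : ℕ, 1 ≤ i → i ≤ t → 1 ≤ j → j ≤ t → q i = q j → i = j) (G : Subgroup (Equiv.Perm α)) (hfix : ∀ g ∈ G, ∀ i : ℕ, 3 ≤ i → i ≤ t → g (q i) = q i) (h2 : ∀ a b c d : α, (∀ i, 3 ≤ i → i ≤ t → a ≠ q i ∧ b ≠ q i ∧ c ≠ q i ∧ d ≠ q i) → a ≠ b → c ≠ d → ∃ g ∈ G, g a = c ∧ g b = d) (s : ℕ → Equiv.Perm α) (hs1 : s 1 ∈ G) (hs1q : s 1 (q 1) = q 2 ∧ s 1 (q 2) = q 1) (hsq : ∀ i : ℕ, 2 ≤ i → i + 1 ≤ t → s i (q i) = q (i + 1) ∧ s i (q (i + 1)) = q i ∧ ∀ j : ℕ, 1 ≤ j → j ≤ t → j ≠ i → j ≠ i + 1 → s i (q j) = q j) (H : Subgroup (Equiv.Perm α)) (hH : H = G ⊓ MulAction.stabilizer (Equiv.Perm α) (q 1) ⊓ MulAction.stabilizer (Equiv.Perm α) (q 2)) (hsq2 : ∀ i : ℕ, 1 ≤ i → i + 1 ≤ t → s i ^ 2 ∈ H) (hbraid : ∀ i : ℕ, 1 ≤ i → i + 2 ≤ t → (s i * s (i + 1)) ^ 3 ∈ H) (hcomm : ∀ i j : ℕ, 1 ≤ i → i + 2 ≤ j → j + 1 ≤ t → (s i * s j) ^ 2 ∈ H ∧ (s j * s i)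 ^ 2 ∈ H) (hnorm : ∀ i : ℕ, 2 ≤ i → i + 1 ≤ t → ∀ g ∈ G ⊓ MulAction.stabilizer (Equiv.Perm α) (q 2), s i * g * (s i)⁻¹ ∈ G ⊓ MulAction.stabilizer (Equiv.Perm α) (q 2)) : MulAction.IsMultiplyPretransitive ↥(Subgroup.closure ((G : Set (Equiv.Perm α)) ∪ {x | ∃ i : ℕ, 2 ≤ i ∧ i + 1 ≤ t ∧ x = s i})) α t ∧ Subgroup.closure ((G : Set (Equiv.Perm α)) ∪ {x | ∃ i : ℕ, 2 ≤ i ∧ i + 1 ≤ t ∧ x = s i}) ⊓ fixingSubgroup (Equiv.Perm α) {x | ∃ i : ℕ, 1 ≤ i ∧ i ≤ t ∧ x = q i} = H := by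
  classical
  have memH : ∀ g, g ∈ H ↔ g ∈ G ∧ g (q 1) = q 1 ∧ g (q 2) = q 2 := fun g => by
    rw [hH, Subgroup.mem_inf, Subgroup.mem_inf, and_assoc]
    rfl
  obtain ⟨K, P, hK, hKfix, hPK, hHP, -, hker, -, -, htr⟩ := main t q hq G hfix h2 s hs1 hs1q.1 hsq H memH
    hsq2 hbraid (fun i j hi hij hjt => (hcomm i j hi hij hjt).2)
    (fun i hi hit g hg hg2 => by
      have h := Subgroup.mem_inf.mp (hnorm i hi hit g (Subgroup.mem_inf.mpr ⟨hg, hg2⟩))
      exact ⟨h.1, h.2⟩) t ht le_rfl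
  rw [← hK]
  constructor
  · have key : ∀ x : Fin t ↪ α, ∃ g : K, ∀ i : Fin t, (g : Equiv.Perm α) (x i) = q ((i : ℕ) + 1) := by
      intro x
      obtain ⟨g, hg, hgx⟩ := htr (fun i => if h : i - 1 < t then x ⟨i - 1, h⟩ else q i)
        (fun i j hi hit hj hjt e => by
          rw [dif_pos (by omega : i - 1 < t), dif_pos (by omega : j - 1 < t)] at e
          have e' : i - 1 = j - 1 := congrArg Fin.val (x.injective e)
          omega)
        (fun i j hi hit hj hjt => absurd hjt (by omega))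
      refine ⟨⟨g, hg⟩, fun i => ?_⟩
      have := hgx ((i : ℕ) + 1) (by omega) i.2
      simpa [i.2] using this
    refine ⟨fun x y => ?_⟩
    obtain ⟨g, hg⟩ := key x
    obtain ⟨k, hk⟩ := key y
    refine ⟨k⁻¹ * g, ?_⟩
    ext i
    show ((k⁻¹ * g : K) : Equiv.Perm α) (x i) = y i
    rw [Subgroup.coe_mul, Subgroup.coe_inv, Equiv.Perm.mul_apply, hg, ← hk, Equiv.Perm.inv_def,
      Equiv.symm_apply_apply]
  · ext g
    rw [Subgroup.mem_inf, mem_fixingSubgroup_iff]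
    constructor
    · rintro ⟨hg, hgq⟩
      exact hker g hg fun i hi hit => hgq (q i) ⟨i, hi, hit, rfl⟩
    · intro hg
      refine ⟨hPK (hHP hg), ?_⟩
      rintro _ ⟨i, hi, hit, rfl⟩
      obtain ⟨h0, h1, h2'⟩ := (memH g).mp hg
      show g (q i) = q i
      rcases Nat.lt_or_ge i 3 with h | h
      · interval_cases i <;> assumption
      · exact hfix g h0 i h hit

end Cfsg.Agent.S0709
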