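import Cfsg.Statements.S0712
import Cfsg.Agent.Lib.PermGp.Basic

set_option autoImplicit false
open Cfsg

namespace Cfsg.Agent.S0712

/-- Jordan: a primitive group in which the pointwise stabiliser of a set `s` is doubly transitive on the complement of `s` (which has at least 2 points) is `(|s| + 2)`-transitive. -/
theorem result {α : Type*} [Fintype α] [DecidableEq α] (G : Subgroup (Equiv.Perm α)) (hG : MulAction.IsPreprimitive G α) (s : Set α) {m : ℕ} (hsm : s.ncard = m) (hm : m + 2 ≤ Fintype.card α) (h2 : MulAction.IsMultiplyPretransitive (fixingSubgroup G s) (SubMulAction.ofFixingSubgroup G s) 2) : MulAction.IsMultiplyPretransitive G α (m + 2) := by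
  classical
  have h2' : ∀ {a b c d : α}, a ∉ s → b ∉ s → c ∉ s → d ∉ s → a ≠ b → c ≠ d →
      ∃ g : G, g ∈ fixingSubgroup G s ∧ g • a = c ∧ g • b = d := by
    intro a b c d ha hb hc hd hab hcd
    have hmem : ∀ {x : α}, x ∉ s → x ∈ SubMulAction.ofFixingSubgroup G s := fun {x} hx =>
      (SubMulAction.mem_ofFixingSubgroup_iff G).mpr hx
    obtain ⟨g, h1, h2⟩ := PermGp.two_trans_exists h2
      (a := ⟨a, hmem ha⟩) (b := ⟨b, hmem hb⟩) (c := ⟨c, hmem hc⟩) (d := ⟨d, hmem hd⟩)
      (fun e => hab (congrArg Subtype.val e)) (fun e => hcd (congrArg Subtype.val e))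
    exact ⟨g, g.2, congrArg Subtype.val h1, congrArg Subtype.val h2⟩
  have hmt : MulAction.IsMultiplyPretransitive G α m := by
    rcases Nat.eq_zero_or_pos m with rfl | hpos
    · exact MulAction.is_zero_pretransitive
    · obtain ⟨n, rfl⟩ : ∃ n, m = n + 1 := ⟨m - 1, by omega⟩
      have hprim := MulAction.isPreprimitive_of_is_two_pretransitive h2
      have hn : n + 2 < Nat.card α := by rw [Nat.card_eq_fintype_card]; omega
      have h3 := MulAction.IsPreprimitive.isMultiplyPreprimitive hG hsm hn hprim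
      have h4 : MulAction.IsMultiplyPretransitive G α (n + 2) :=
        MulAction.IsMultiplyPreprimitive.isMultiplyPretransitive ..
      exact MulAction.isMultiplyPretransitive_of_le' (n := n + 2) (Nat.le_succ _)
        (by rw [ENat.card_eq_coe_natCard]; exact_mod_cast hn.le)
  obtain ⟨e, he⟩ : ∃ e : Fin m ↪ α, Set.range e = s := by
    let q : Fin m ≃ s := ((Finite.equivFin s).trans (finCongr (by rw [Nat.card_coe_set_eq, hsm]))).symm
    refine ⟨q.toEmbedding.trans (Function.Embedding.subtype _), ?_⟩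
    ext x
    constructor
    · rintro ⟨i, rfl⟩; exact (q i).2
    · intro hx; exact ⟨q.symm ⟨x, hx⟩, by simp⟩
  refine ⟨fun u v => ?_⟩
  have hmove : ∀ u : Fin (m + 2) ↪ α, ∃ g : G, (∀ i : Fin m, g • u (Fin.castAdd 2 i) = e i) ∧
      ∀ j : Fin 2, g • u (Fin.natAdd m j) ∉ s := by
    intro u
    obtain ⟨g, hg⟩ := hmt.exists_smul_eq
      (Function.Embedding.trans ⟨Fin.castAdd 2, Fin.castAdd_injective m 2⟩ u) e
    have hgi : ∀ i : Fin m, g • u (Fin.castAdd 2 i) = e i := fun i => DFunLike.congr_fun hg i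
    refine ⟨g, hgi, fun j hj => ?_⟩
    rw [← he] at hj
    obtain ⟨i, hi⟩ := hj
    rw [← hgi i] at hi
    have := u.injective (MulAction.injective g hi)
    simp [Fin.ext_iff] at this
    omega
  obtain ⟨g, hg, hg'⟩ := hmove u
  obtain ⟨k, hk, hk'⟩ := hmove v
  have hne : ∀ (g : G) (u : Fin (m + 2) ↪ α), g • u (Fin.natAdd m 0) ≠ g • u (Fin.natAdd m 1) := by
    intro g u h
    have := u.injective (MulAction.injective g h)
    simp [Fin.ext_iff] at this
  obtain ⟨h, hfix, h0, h1⟩ := h2' (hg' 0) (hg' 1) (hk' 0) (hk' 1) (hne g u) (hne k v)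
  refine ⟨k⁻¹ * h * g, ?_⟩
  ext i
  show (k⁻¹ * h * g) • u i = v i
  rw [mul_smul, mul_smul, inv_smul_eq_iff]
  induction i using Fin.addCases with
  | left i =>
    rw [hg, hk]
    exact (mem_fixingSubgroup_iff G).mp hfix _ (he ▸ ⟨i, rfl⟩)
  | right j =>
    fin_cases j
    · exact h0
    · exact h1

end Cfsg.Agent.S0712
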