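import Cfsg.Statements.S0714
import Cfsg.Agent.Lib.PermGp.PermModule

set_option autoImplicit false
open Cfsg

namespace Cfsg.Agent.S0714

/-- Over any field, the permutation module of the alternating group of degree at least 5 has exactly four invariant subspaces: zero, the constant functions, the functions with coordinate sum zero, and everything. -/
theorem result {α : Type*} [Fintype α] [DecidableEq α] (hα : 5 ≤ Fintype.card α) {K : Type*} [Field K] (W : Subrepresentation (Cfsg.permRep K (alternatingGroup α) α)) : W.toSubmodule = ⊥ ∨ W = Cfsg.permConstants K (alternatingGroup α) α ∨ W = Cfsg.permSumZero K (alternatingGroup α) α ∨ W.toSubmodule = ⊤ := by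
  classical
  have hperm : ∀ (σ : alternatingGroup α) (f : α → K), f ∈ W.toSubmodule →
      (fun x => f (σ⁻¹ • x) - f x) ∈ W.toSubmodule := fun σ f hf =>
    W.toSubmodule.sub_mem (W.apply_mem_toSubmodule σ hf) hf
  by_cases hC : W.toSubmodule ≤ (Cfsg.permConstants K (alternatingGroup α) α).toSubmodule
  · by_cases hb : W.toSubmodule = ⊥
    · exact Or.inl hb
    refine Or.inr (Or.inl (Subrepresentation.toSubmodule_injective (le_antisymm hC ?_)))
    obtain ⟨v, hv, hv0⟩ := (Submodule.ne_bot_iff _).mp hb
    obtain ⟨c, hc⟩ := PermGp.mem_permConstants.mp (hC hv)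
    have hc0 : c ≠ 0 := fun h => hv0 (funext fun x => (hc x).trans h)
    intro u hu
    obtain ⟨d, hd⟩ := PermGp.mem_permConstants.mp hu
    have : u = (d / c) • v := funext fun x => by
      rw [Pi.smul_apply, smul_eq_mul, hc, hd, div_mul_cancel₀ _ hc0]
    exact this ▸ W.toSubmodule.smul_mem _ hv
  · obtain ⟨f, hfW, hf⟩ := SetLike.not_le_iff_exists.mp hC
    obtain ⟨a, b, hfab⟩ : ∃ a b, f a ≠ f b := by
      by_contra! hall
      obtain ⟨a⟩ : Nonempty α := Fintype.card_pos_iff.mp (by omega)
      exact hf (PermGp.mem_permConstants.mpr ⟨f a, fun x => hall x a⟩)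
    have hab : a ≠ b := fun e => hfab (e ▸ rfl)
    have hout : ∀ t : Finset α, t.card ≤ 3 → ∃ x y, x ∉ t ∧ y ∉ t ∧ x ≠ y := by
      intro t ht
      have : 1 < (Finset.univ \ t).card := by
        rw [Finset.card_sdiff, Finset.inter_univ, Finset.card_univ]; omega
      obtain ⟨x, hx, y, hy, hxy⟩ := Finset.one_lt_card.mp this
      exact ⟨x, y, (Finset.mem_sdiff.mp hx).2, (Finset.mem_sdiff.mp hy).2, hxy⟩
    have hdb : ∀ {a b x y : α}, a ≠ b → x ≠ y →
        Equiv.swap a b * Equiv.swap x y ∈ alternatingGroup α := fun hab hxy => by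
      simp [Equiv.Perm.mem_alternatingGroup, Equiv.Perm.sign_mul, Equiv.Perm.sign_swap, hab, hxy]
    obtain ⟨c, -, hc, -, -⟩ := hout {a, b} (by have := Finset.card_le_two (a := a) (b := b); omega)
    simp only [Finset.mem_insert, Finset.mem_singleton, not_or] at hc
    -- a sum-zero vector supported on three points
    let σ : alternatingGroup α := ⟨Equiv.swap a b * Equiv.swap a c, hdb hab (Ne.symm hc.1)⟩
    let d : α → K := fun x => f (σ⁻¹ • x) - f x
    have hd : d ∈ W.toSubmodule := hperm σ f hfW
    have hda : d a = f ((σ⁻¹ : alternatingGroup α) • a) - f a := rfl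
    have hsupp : ∀ x, x ≠ a → x ≠ b → x ≠ c → d x = 0 := by
      intro x h1 h2 h3
      show f (σ⁻¹ • x) - f x = 0
      have : σ⁻¹ • x = x := by
        rw [inv_smul_eq_iff]
        show x = (Equiv.swap a b * Equiv.swap a c) x
        rw [Equiv.Perm.mul_apply, Equiv.swap_apply_of_ne_of_ne h1 h3, Equiv.swap_apply_of_ne_of_ne h1 h2]
      rw [this, sub_self]
    have hda0 : d a ≠ 0 := by
      show f (σ⁻¹ • a) - f a ≠ 0
      have : σ⁻¹ • a = b := by
        rw [inv_smul_eq_iff]
        show a = (Equiv.swap a b * Equiv.swap a c) b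
        rw [Equiv.Perm.mul_apply, Equiv.swap_apply_of_ne_of_ne hab.symm (Ne.symm hc.2),
          Equiv.swap_apply_right]
      rw [this]; exact sub_ne_zero.mpr hfab.symm
    -- a difference of two standard basis vectors
    obtain ⟨p, q, hpq, hW⟩ : ∃ p q : α, p ≠ q ∧
        ((Pi.single p 1 - Pi.single q 1 : α → K)) ∈ W.toSubmodule := by
      by_cases hall : d b = d a ∧ d c = d a
      · obtain ⟨x, y, hx, hy, hxy⟩ := hout {a, b, c} Finset.card_le_three
        simp only [Finset.mem_insert, Finset.mem_singleton, not_or] at hx hy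
        let τ : alternatingGroup α :=
          ⟨Equiv.swap a y * Equiv.swap a x, hdb (Ne.symm hy.1) (Ne.symm hx.1)⟩
        have hv := hperm τ d hd
        refine ⟨x, a, hx.1, ?_⟩
        have hmem := W.toSubmodule.smul_mem (d a)⁻¹ hv
        convert hmem using 1
        funext z
        have dx : d x = 0 := hsupp x hx.1 hx.2.1 hx.2.2
        have dy : d y = 0 := hsupp y hy.1 hy.2.1 hy.2.2
        have t1 : τ⁻¹ • a = y := by
          rw [inv_smul_eq_iff]
          show a = (Equiv.swap a y * Equiv.swap a x) y
          rw [Equiv.Perm.mul_apply, Equiv.swap_apply_of_ne_of_ne hy.1 hxy.symm, Equiv.swap_apply_right]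
        have t2 : τ⁻¹ • x = a := by
          rw [inv_smul_eq_iff]
          show x = (Equiv.swap a y * Equiv.swap a x) a
          rw [Equiv.Perm.mul_apply, Equiv.swap_apply_left, Equiv.swap_apply_of_ne_of_ne hx.1 hxy]
        have t3 : τ⁻¹ • y = x := by
          rw [inv_smul_eq_iff]
          show y = (Equiv.swap a y * Equiv.swap a x) x
          rw [Equiv.Perm.mul_apply, Equiv.swap_apply_right, Equiv.swap_apply_left]
        simp only [Pi.sub_apply, Pi.smul_apply, smul_eq_mul]
        by_cases h1 : z = a
        · subst h1; rw [t1, dy]; simp [Pi.single_eq_of_ne (Ne.symm hx.1), hda0]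
        by_cases h2 : z = x
        · subst h2; rw [t2, dx]; simp [Pi.single_eq_of_ne h1, hda0]
        rw [Pi.single_eq_of_ne h2, Pi.single_eq_of_ne h1]
        by_cases h3 : z = y
        · subst h3; rw [t3, dx, dy]; simp
        have t4 : τ⁻¹ • z = z := by
          rw [inv_smul_eq_iff]
          show z = (Equiv.swap a y * Equiv.swap a x) z
          rw [Equiv.Perm.mul_apply, Equiv.swap_apply_of_ne_of_ne h1 h2, Equiv.swap_apply_of_ne_of_ne h1 h3]
        rw [t4]; simp
      · have hex : ∃ q : α, (q = b ∨ q = c) ∧ d q ≠ d a := by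
          by_contra! hn
          exact hall ⟨hn b (Or.inl rfl), hn c (Or.inr rfl)⟩
        obtain ⟨q, hq, hdq⟩ := hex
        obtain ⟨x, y, hx, hy, hxy⟩ := hout {a, b, c} Finset.card_le_three
        simp only [Finset.mem_insert, Finset.mem_singleton, not_or] at hx hy
        have haq : a ≠ q := fun e => hdq (e ▸ rfl)
        let τ : alternatingGroup α := ⟨Equiv.swap a q * Equiv.swap x y, hdb haq hxy⟩
        have hv := hperm τ d hd
        refine ⟨a, q, haq, ?_⟩
        have hmem := W.toSubmodule.smul_mem (d q - d a)⁻¹ hv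
        convert hmem using 1
        funext z
        have dx : d x = 0 := hsupp x hx.1 hx.2.1 hx.2.2
        have dy : d y = 0 := hsupp y hy.1 hy.2.1 hy.2.2
        have hτ : τ⁻¹ • z = (Equiv.swap a q) (Equiv.swap x y z) := by
          have e : Equiv.swap a q (Equiv.swap x y (Equiv.swap a q (Equiv.swap x y z))) = z := by
            have hxq : x ≠ q := by rcases hq with rfl | rfl; exacts [hx.2.1, hx.2.2]
            have hyq : y ≠ q := by rcases hq with rfl | rfl; exacts [hy.2.1, hy.2.2]
            have hax : x ≠ a := hx.1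
            have hay : y ≠ a := hy.1
            simp only [Equiv.swap_apply_def]
            grind
          rw [inv_smul_eq_iff]
          exact e.symm
        have hne : d q - d a ≠ 0 := sub_ne_zero.mpr hdq
        simp only [Pi.sub_apply, Pi.smul_apply, smul_eq_mul]
        rw [hτ]
        have hxq : x ≠ q := by rcases hq with rfl | rfl; exacts [hx.2.1, hx.2.2]
        have hyq : y ≠ q := by rcases hq with rfl | rfl; exacts [hy.2.1, hy.2.2]
        by_cases h1 : z = a
        · subst h1
          rw [Equiv.swap_apply_of_ne_of_ne (Ne.symm hx.1) (Ne.symm hy.1), Equiv.swap_apply_left]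
          simp [Pi.single_eq_of_ne haq, hne]
        by_cases h2 : z = q
        · subst h2
          rw [Equiv.swap_apply_of_ne_of_ne hxq.symm hyq.symm, Equiv.swap_apply_right]
          rw [Pi.single_eq_of_ne h1, Pi.single_eq_same]
          field_simp
          ring
        rw [Pi.single_eq_of_ne h1, Pi.single_eq_of_ne h2]
        by_cases h3 : z = x
        · subst h3
          rw [Equiv.swap_apply_left, Equiv.swap_apply_of_ne_of_ne hy.1 hyq, dx, dy]; simp
        by_cases h4 : z = y
        · subst h4
          rw [Equiv.swap_apply_right, Equiv.swap_apply_of_ne_of_ne hx.1 hxq, dx, dy]; simp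
        rw [Equiv.swap_apply_of_ne_of_ne h3 h4, Equiv.swap_apply_of_ne_of_ne h1 h2]; simp
    have hall : ∀ u v : α, u ≠ v → ((Pi.single u 1 - Pi.single v 1 : α → K)) ∈ W.toSubmodule := by
      intro u v huv
      have h2t : MulAction.IsMultiplyPretransitive (alternatingGroup α) α 2 := by
        have : MulAction.IsMultiplyPretransitive (alternatingGroup α) α (Nat.card α - 2) :=
          alternatingGroup.isMultiplyPretransitive α
        refine MulAction.isMultiplyPretransitive_of_le (n := Nat.card α - 2) ?_ ?_
        · rw [Nat.card_eq_fintype_card]; omega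
        · rw [Nat.card_eq_fintype_card]; omega
      obtain ⟨g, hgp, hgq⟩ := PermGp.two_trans_exists h2t hpq huv
      have hmem := W.apply_mem_toSubmodule g hW
      convert hmem using 1
      funext z
      rw [PermGp.permRep_apply]
      simp only [Pi.sub_apply, Pi.single_apply, inv_smul_eq_iff, hgp, hgq]
    have hge : (Cfsg.permSumZero K (alternatingGroup α) α).toSubmodule ≤ W.toSubmodule := by
      intro u hu
      have hu' : ∑ z, u z = 0 := hu
      have : u = ∑ z, u z • ((Pi.single z 1 - Pi.single a 1 : α → K)) := by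
        simp only [smul_sub, Finset.sum_sub_distrib, ← Finset.sum_smul, hu', zero_smul, sub_zero]
        exact pi_eq_sum_univ' u
      rw [this]
      refine Submodule.sum_mem _ fun z _ => W.toSubmodule.smul_mem _ ?_
      by_cases hz : z = a
      · simp [hz]
      · exact hall z a hz
    by_cases htop : W.toSubmodule ≤ (Cfsg.permSumZero K (alternatingGroup α) α).toSubmodule
    · exact Or.inr (Or.inr (Or.inl (Subrepresentation.toSubmodule_injective (le_antisymm htop hge))))
    · refine Or.inr (Or.inr (Or.inr (eq_top_iff.mpr fun u _ => ?_)))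
      obtain ⟨v, hv, hv0⟩ := SetLike.not_le_iff_exists.mp htop
      have hv0' : ∑ z, v z ≠ 0 := hv0
      have h1 : u - ((∑ z, u z) / ∑ z, v z) • v ∈ W.toSubmodule := hge (by
        show ∑ z, (u - ((∑ z, u z) / ∑ z, v z) • v) z = 0
        simp only [Pi.sub_apply, Pi.smul_apply, smul_eq_mul, Finset.sum_sub_distrib, ← Finset.mul_sum]
        rw [div_mul_cancel₀ _ hv0', sub_self])
      have := W.toSubmodule.add_mem h1 (W.toSubmodule.smul_mem ((∑ z, u z) / ∑ z, v z) hv)
      rwa [sub_add_cancel] at this

end Cfsg.Agent.S0714
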