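import Cfsg.Statements.S0716
import Cfsg.Agent.Lib.PermGp.Subdegree

set_option autoImplicit false
open Cfsg

namespace Cfsg.Agent.S0716

/-- (a) If all non-principal irreducible constituents of the permutation character of a transitive group have the same degree `f`, the character is multiplicity-free and all non-trivial subdegrees equal `f`. (b) A transitive group of rank at most 5 has multiplicity-free permutation character. -/
theorem result {G : Type*} [Group G] [Fintype G] {Ω : Type*} [Fintype Ω] [MulAction G Ω] [MulAction.IsPretransitive G Ω] (a : Ω) : ((f : ℕ) → (∀ χ : G → ℂ, Cfsg.IsIrrCharacter G χ → χ ≠ (fun _ => 1) → Cfsg.classInner (fun g : G => (Nat.card (MulAction.fixedBy Ω g) : ℂ)) χ ≠ 0 → χ 1 = f) → (∀ χ : G → ℂ, Cfsg.IsIrrCharacter G χ → Cfsg.classInner (fun g : G => (Nat.card (MulAction.fixedBy Ω g) : ℂ)) χ = 0 ∨ Cfsg.classInner (fun g : G => (Nat.card (MulAction.fixedBy Ω g) : ℂ)) χ = 1) ∧ ∀ b : Ω, b ≠ a → Nat.card (MulAction.orbit (MulAction.stabilizer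 G a) b) = f) ∧ (Nat.card (MulAction.orbitRel.Quotient (MulAction.stabilizer G a) Ω) ≤ 5 → ∀ χ : G → ℂ, Cfsg.IsIrrCharacter G χ → Cfsg.classInner (fun g : G => (Nat.card (MulAction.fixedBy Ω g) : ℂ)) χ = 0 ∨ Cfsg.classInner (fun g : G => (Nat.card (MulAction.fixedBy Ω g) : ℂ)) χ = 1) := by
  classical
  open Cfsg.Agent in
  have hπ : Cfsg.IsCharacter G (PermGp.permChar G Ω) := PermGp.isCharacter_permChar
  obtain ⟨s, hs1, hs2, hn, hr⟩ := Cfsg.Agent.PermGp.exists_mult_sums (G := G) a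
  have hval : ∀ χ : G → ℂ, ∀ hχ : Cfsg.IsIrrCharacter G χ,
      ((⟨χ, hχ⟩ : Cfsg.IrrCharacter G) ∈ s → Cfsg.Agent.CT.mult (Cfsg.Agent.PermGp.permChar G Ω) χ ≤ 1) →
      Cfsg.classInner (Cfsg.Agent.PermGp.permChar G Ω) χ = 0 ∨ Cfsg.classInner (Cfsg.Agent.PermGp.permChar G Ω) χ = 1 := by
    intro χ hχ h
    by_cases h1 : χ = fun _ => 1
    · subst h1
      have : Nonempty Ω := ⟨a⟩
      exact Or.inr Cfsg.Agent.PermGp.classInner_permChar_one
    by_cases h0 : Cfsg.classInner (Cfsg.Agent.PermGp.permChar G Ω) χ = 0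
    · exact Or.inl h0
    rw [Cfsg.Agent.CT.mult_spec hπ (Cfsg.Agent.CT.isCharacter_of_isIrr hχ)] at h0 ⊢
    have hle := h (hs2 ⟨χ, hχ⟩ h1 (by
      rw [Cfsg.Agent.CT.mult_spec hπ (Cfsg.Agent.CT.isCharacter_of_isIrr hχ)]; exact h0))
    right
    norm_cast at h0 ⊢
    omega
  refine ⟨fun f hf => ?_, fun hrank χ hχ => ?_⟩
  · have hdd : Cfsg.Agent.PermGp.DegreesDvd G Ω f := fun χ hχ h1 h0 => ⟨1, by rw [hf χ hχ h1 h0]; simp⟩
    have hdvd : ∀ b : Ω, b ≠ a → f ∣ Nat.card (MulAction.orbit (MulAction.stabilizer G a) b) :=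
      fun b hb => Cfsg.Agent.PermGp.dvd_subdegree hdd hb
    have hdeg : ∀ χ ∈ s, Cfsg.Agent.CT.mult (Cfsg.Agent.PermGp.permChar G Ω) χ * Cfsg.Agent.CT.deg (χ : G → ℂ) =
        f * Cfsg.Agent.CT.mult (Cfsg.Agent.PermGp.permChar G Ω) χ := by
      intro χ hχ
      by_cases h0 : Cfsg.Agent.CT.mult (Cfsg.Agent.PermGp.permChar G Ω) χ = 0
      · rw [h0]; simp
      have := hf χ χ.2 (hs1 χ hχ) (by
        rw [show (fun g : G => (Nat.card (MulAction.fixedBy Ω g) : ℂ)) = Cfsg.Agent.PermGp.permChar G Ω from rfl,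
          Cfsg.Agent.CT.mult_spec hπ (Cfsg.Agent.CT.isCharacter_of_isIrr χ.2)]
        exact_mod_cast h0)
      rw [Cfsg.Agent.CT.deg_eq (Cfsg.Agent.CT.isCharacter_of_isIrr χ.2)] at this
      have h2 : Cfsg.Agent.CT.deg (χ : G → ℂ) = f := by exact_mod_cast this
      rw [h2, mul_comm]
    rw [Finset.sum_congr rfl hdeg, ← Finset.mul_sum] at hn
    set Q := MulAction.orbitRel.Quotient (MulAction.stabilizer G a) Ω with hQ
    have hpart : Fintype.card Ω = ∑ q : Q, Nat.card (MulAction.orbit (MulAction.stabilizer G a) q.out) := by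
      rw [← Nat.card_eq_fintype_card, Nat.card_congr (MulAction.selfEquivSigmaOrbits (MulAction.stabilizer G a) Ω),
        Nat.card_sigma]
    have horb : ∀ x : Ω, MulAction.orbit (MulAction.stabilizer G a) (Quotient.mk'' x : Q).out =
        MulAction.orbit (MulAction.stabilizer G a) x := fun x =>
      MulAction.orbit_eq_iff.mpr (Quotient.mk_out (s := MulAction.orbitRel (MulAction.stabilizer G a) Ω) x)
    set qa : Q := Quotient.mk'' a with hqa
    have hA : Nat.card (MulAction.orbit (MulAction.stabilizer G a) qa.out) = 1 := by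
      rw [hqa, horb a]
      have : MulAction.orbit (MulAction.stabilizer G a) a = {a} := Set.eq_singleton_iff_unique_mem.mpr
        ⟨MulAction.mem_orbit_self a, by rintro _ ⟨g, rfl⟩; exact g.2⟩
      rw [this, Nat.card_coe_set_eq, Set.ncard_singleton]
    rw [← Finset.add_sum_erase _ _ (Finset.mem_univ qa), hA] at hpart
    have hlow : ∀ q ∈ (Finset.univ : Finset Q).erase qa,
        f ≤ Nat.card (MulAction.orbit (MulAction.stabilizer G a) q.out) := by
      intro q hq
      refine Nat.le_of_dvd ?_ (hdvd _ fun e => Finset.ne_of_mem_erase hq ?_)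
      · have : Nonempty (MulAction.orbit (MulAction.stabilizer G a) q.out) := ⟨⟨_, MulAction.mem_orbit_self _⟩⟩
        exact Nat.card_pos
      · exact q.out_eq'.symm.trans (congrArg (fun x : Ω => (Quotient.mk'' x : Q)) e)
    have hr' : ((Finset.univ : Finset Q).erase qa).card =
        ∑ χ ∈ s, Cfsg.Agent.CT.mult (Cfsg.Agent.PermGp.permChar G Ω) χ ^ 2 := by
      rw [Finset.card_erase_of_mem (Finset.mem_univ _), Finset.card_univ, ← Nat.card_eq_fintype_card, hQ, hr,
        Nat.add_sub_cancel_left]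
    rcases Nat.eq_zero_or_pos f with rfl | hf0
    · simp only [zero_mul, add_zero] at hn
      have hsub : Subsingleton Ω := Fintype.card_le_one_iff_subsingleton.mp (by omega)
      refine ⟨fun χ hχ => hval χ hχ fun hmem => ?_, fun b hb => absurd (Subsingleton.elim b a) hb⟩
      have he : (Finset.univ : Finset Q).erase qa = ∅ := by
        refine Finset.eq_empty_of_forall_notMem fun q hq => Finset.ne_of_mem_erase hq ?_
        exact q.out_eq'.symm.trans (congrArg (fun x : Ω => (Quotient.mk'' x : Q)) (Subsingleton.elim q.out a))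
      rw [he, Finset.card_empty, eq_comm, Finset.sum_eq_zero_iff] at hr'
      have := hr' _ hmem
      simp only [pow_eq_zero_iff two_ne_zero] at this
      omega
    have h1 : ∑ q ∈ (Finset.univ : Finset Q).erase qa, f ≤
        ∑ q ∈ (Finset.univ : Finset Q).erase qa, Nat.card (MulAction.orbit (MulAction.stabilizer G a) q.out) :=
      Finset.sum_le_sum hlow
    rw [Finset.sum_const, smul_eq_mul, hr', mul_comm] at h1
    have h2 : ∑ χ ∈ s, Cfsg.Agent.CT.mult (Cfsg.Agent.PermGp.permChar G Ω) χ ≤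
        ∑ χ ∈ s, Cfsg.Agent.CT.mult (Cfsg.Agent.PermGp.permChar G Ω) χ ^ 2 :=
      Finset.sum_le_sum fun χ _ => Nat.le_self_pow two_ne_zero _
    have h3 : f * ∑ χ ∈ s, Cfsg.Agent.CT.mult (Cfsg.Agent.PermGp.permChar G Ω) χ ^ 2 ≤
        f * ∑ χ ∈ s, Cfsg.Agent.CT.mult (Cfsg.Agent.PermGp.permChar G Ω) χ := by omega
    have h4 := le_antisymm h2 (Nat.le_of_mul_le_mul_left h3 hf0)
    refine ⟨fun χ hχ => hval χ hχ fun hmem => ?_, fun b hb => ?_⟩
    · have := (Finset.sum_eq_sum_iff_of_le fun χ _ => Nat.le_self_pow two_ne_zero _).mp h4 _ hmem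
      rcases Nat.lt_or_ge 1 (Cfsg.Agent.CT.mult (Cfsg.Agent.PermGp.permChar G Ω) χ) with hlt | hge
      · exfalso
        rw [pow_two] at this
        have h' := Nat.mul_lt_mul_of_pos_right hlt (by omega : 0 < Cfsg.Agent.CT.mult (Cfsg.Agent.PermGp.permChar G Ω) χ)
        rw [one_mul] at h'
        exact absurd this h'.ne
      · exact hge
    · have h5 : ∑ q ∈ (Finset.univ : Finset Q).erase qa, f =
          ∑ q ∈ (Finset.univ : Finset Q).erase qa, Nat.card (MulAction.orbit (MulAction.stabilizer G a) q.out) := by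
        rw [Finset.sum_const, smul_eq_mul, hr', mul_comm, ← h4]
        omega
      have hne : (Quotient.mk'' b : Q) ≠ qa := fun e => by
        obtain ⟨g, hg⟩ := Quotient.exact' e
        exact hb (hg.symm.trans g.2)
      have := (Finset.sum_eq_sum_iff_of_le hlow).mp h5 _ (Finset.mem_erase.mpr ⟨hne, Finset.mem_univ _⟩)
      rw [horb b] at this
      exact this.symm
  · refine hval χ hχ fun hmem => ?_
    by_contra h2
    rw [not_le] at h2
    rw [hr] at hrank
    set m := fun c : Cfsg.IrrCharacter G => Cfsg.Agent.CT.mult (Cfsg.Agent.PermGp.permChar G Ω) c with hm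
    have h4 : m ⟨χ, hχ⟩ ^ 2 + ∑ c ∈ s.erase ⟨χ, hχ⟩, m c ^ 2 ≤ 4 := by
      rw [Finset.add_sum_erase _ (fun c => m c ^ 2) hmem]; simp only [hm]; omega
    have h22 : m ⟨χ, hχ⟩ = 2 := by
      have : 2 ^ 2 ≤ m ⟨χ, hχ⟩ ^ 2 := Nat.pow_le_pow_left h2 2
      rcases Nat.lt_or_ge 2 (m ⟨χ, hχ⟩) with h3 | h3
      · have : 3 ^ 2 ≤ m ⟨χ, hχ⟩ ^ 2 := Nat.pow_le_pow_left h3 2
        omega
      · exact le_antisymm h3 h2
    have hz : ∀ c ∈ s.erase ⟨χ, hχ⟩, m c = 0 := by
      intro c hc
      rw [h22] at h4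
      have h0 : ∑ c ∈ s.erase ⟨χ, hχ⟩, m c ^ 2 = 0 := by omega
      simpa using Finset.sum_eq_zero_iff.mp h0 c hc
    have : Nonempty Ω := ⟨a⟩
    have hχ1 : (⟨χ, hχ⟩ : Cfsg.IrrCharacter G) ≠ Cfsg.Agent.CT.trivIrr G :=
      fun e => hs1 _ hmem (congrArg Subtype.val e)
    have hone : (Cfsg.Agent.CT.mult (Cfsg.Agent.PermGp.permChar G Ω) (fun _ : G => (1 : ℂ)) : ℂ) = 1 := by
      rw [← Cfsg.Agent.CT.mult_spec hπ Cfsg.Agent.CT.isCharacter_one]
      exact Cfsg.Agent.PermGp.classInner_permChar_one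
    have hdec : ∀ g, Cfsg.Agent.PermGp.permChar G Ω g = 1 + 2 * χ g := by
      intro g
      conv_lhs => rw [Cfsg.Agent.CT.character_eq_sum hπ]
      rw [Finset.sum_apply, Fintype.sum_eq_add (Cfsg.Agent.CT.trivIrr G) ⟨χ, hχ⟩ hχ1.symm]
      · simp only [Pi.smul_apply, smul_eq_mul]
        rw [show (Cfsg.Agent.CT.mult (Cfsg.Agent.PermGp.permChar G Ω)
            (Cfsg.Agent.CT.trivIrr G : G → ℂ) : ℂ) = 1 from hone,
          show Cfsg.Agent.CT.mult (Cfsg.Agent.PermGp.permChar G Ω) χ = 2 from h22]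
        simp
      · intro c hc
        have hc0 : m c = 0 := by
          by_contra h0
          refine h0 (hz c (Finset.mem_erase.mpr ⟨hc.2, hs2 c (fun e => hc.1 (Subtype.ext e)) ?_⟩))
          rw [Cfsg.Agent.CT.mult_spec hπ (Cfsg.Agent.CT.isCharacter_of_isIrr c.2)]
          exact_mod_cast h0
        show (m c : ℂ) * _ = 0
        rw [hc0]; simp
    have hn2 : 2 ≤ Fintype.card Ω := by
      have e := hdec 1
      rw [Cfsg.Agent.PermGp.permChar_one, Cfsg.Agent.CT.deg_eq (Cfsg.Agent.CT.isCharacter_of_isIrr hχ)] at e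
      have e' : Fintype.card Ω = 1 + 2 * Cfsg.Agent.CT.deg χ := by exact_mod_cast e
      have := Cfsg.Agent.CT.deg_pos hχ
      omega
    obtain ⟨g, hg⟩ : ∃ g : G, Nat.card (MulAction.fixedBy Ω g) = 0 := by
      by_contra! hall
      have hsum := MulAction.sum_card_fixedBy_eq_card_orbits_mul_card_group G Ω
      have hq : Fintype.card (MulAction.orbitRel.Quotient G Ω) ≤ 1 := by
        have := (MulAction.pretransitive_iff_subsingleton_quotient G Ω).mp inferInstance
        exact Fintype.card_le_one_iff_subsingleton.mpr this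
      have hlt : ∑ _g : G, 1 < ∑ g : G, Fintype.card (MulAction.fixedBy Ω g) := by
        refine Finset.sum_lt_sum (fun g _ => ?_) ⟨1, Finset.mem_univ _, ?_⟩
        · rw [← Nat.card_eq_fintype_card]; exact Nat.one_le_iff_ne_zero.mpr (hall g)
        · rw [← Nat.card_eq_fintype_card, show MulAction.fixedBy Ω (1 : G) = Set.univ from
            Set.eq_univ_iff_forall.mpr fun x => one_smul G x]
          simp [Nat.card_eq_fintype_card]; omega
      rw [hsum, Finset.sum_const, Finset.card_univ, smul_eq_mul, mul_one] at hlt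
      exact absurd hlt (not_lt.mpr ((Nat.mul_le_mul_right _ hq).trans (one_mul _).le))
    have hhalf : χ g = ((-1 / 2 : ℚ) : ℂ) := by
      have e := hdec g
      rw [Cfsg.Agent.PermGp.permChar, hg] at e
      push_cast at e ⊢
      linear_combination (-1 / 2 : ℂ) * e
    have hi := Cfsg.Agent.CT.isIntegral_isCharacter (Cfsg.Agent.CT.isCharacter_of_isIrr hχ) g
    rw [hhalf, show ((-1 / 2 : ℚ) : ℂ) = algebraMap ℚ ℂ (-1 / 2) by simp,
      isIntegral_algebraMap_iff (algebraMap ℚ ℂ).injective] at hi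
    obtain ⟨z, hz'⟩ := IsIntegrallyClosed.isIntegral_iff.mp hi
    have h6 : ((2 * z : ℤ) : ℚ) = ((-1 : ℤ) : ℚ) := by
      rw [show algebraMap ℤ ℚ z = (z : ℚ) by simp] at hz'
      push_cast; rw [hz']; norm_num
    have h7 : 2 * z = -1 := by exact_mod_cast h6
    omega

end Cfsg.Agent.S0716
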