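import Cfsg.Statements.S0721
import Cfsg.Agent.Lib.PermGp.MinNormalPow

set_option autoImplicit false
open Cfsg

namespace Cfsg.Agent.S0721

/-- A minimal normal subgroup of a finite group is isomorphic to a direct power `T ^ m` of a simple group `T` (possibly of prime order). -/
theorem result {H : Type*} [Group H] [Finite H] (N : Subgroup H) [N.Normal] (hN : N ≠ ⊥) (hmin : ∀ M : Subgroup H, M.Normal → M ≤ N → M = ⊥ ∨ M = N) : ∃ (T : Type) (_ : Group T) (m : ℕ), IsSimpleGroup T ∧ 0 < m ∧ Nonempty (N ≃* (Fin m → T)) := by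
  classical
  have hmin' : ∀ A : Subgroup H, A.Normal → A ≤ N → A ≠ ⊥ → A = N := fun A h1 h2 h3 =>
    (hmin A h1 h2).resolve_left h3
  by_cases hc : CompLen.Comm N N
  · obtain ⟨p, hp, -, m, hm, ⟨e⟩⟩ := PermGp.exists_power_of_comm hN hmin' hc
    haveI := Fact.mk hp
    exact ⟨Multiplicative (ZMod p), inferInstance, m,
      isSimpleGroup_of_prime_card (p := p) (by simp [Nat.card_zmod]), hm, ⟨e⟩⟩
  · obtain ⟨A, m, hA, hm, ⟨e⟩⟩ := PermGp.exists_power_of_not_comm hN hmin' hc
    obtain ⟨n, ⟨f⟩⟩ := Finite.exists_equiv_fin A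
    let φ : A →* Equiv.Perm (Fin n) := f.permCongrHom.toMonoidHom.comp (MulAction.toPermHom A A)
    have hφ : Function.Injective φ :=
      f.permCongrHom.injective.comp (MulAction.toPerm_injective (α := A) (β := A))
    let g : A ≃* φ.range := MonoidHom.ofInjective hφ
    exact ⟨φ.range, inferInstance, m, (MulEquiv.isSimpleGroup_congr g).mp hA, hm,
      ⟨e.trans (MulEquiv.piCongrRight fun _ => g)⟩⟩

end Cfsg.Agent.S0721
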