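import Cfsg.Statements.S0722
import Cfsg.Agent.Lib.PermGp.Basic

set_option autoImplicit false
open Cfsg

namespace Cfsg.Agent.S0722

open scoped Pointwise


/-- In a primitive group `H`, with `N` a minimal normal subgroup and `K` a point stabiliser, `K ⊓ N` is maximal among proper `K`-invariant subgroups of `N`. -/
theorem result {α : Type*} [Finite α] (H : Subgroup (Equiv.Perm α)) [MulAction.IsPreprimitive H α] (N : Subgroup H) [N.Normal] (hN : N ≠ ⊥) (hmin : ∀ M : Subgroup H, M.Normal → M ≤ N → M = ⊥ ∨ M = N) (a : α) (X : Subgroup H) (hX : X ≤ N) (hKX : MulAction.stabilizer H a ⊓ N ≤ X) (hinv : MulAction.stabilizer H a ≤ Subgroup.normalizer (X : Set H)) : X = MulAction.stabilizer H a ⊓ N ∨ X = N := by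
  have hT : MulAction.IsPretransitive N α := PermGp.normal_transitive N hN
  rcases subsingleton_or_nontrivial α with hs | hnt
  · right
    refine le_antisymm hX ?_
    intro n hn
    exact hKX ⟨Subsingleton.elim _ _, hn⟩
  have hco := MulAction.IsPreprimitive.isCoatom_stabilizer_of_isPreprimitive H a
  set K := MulAction.stabilizer H a
  have hmul : ((X ⊔ K : Subgroup H) : Set H) = (X : Set H) * (K : Set H) :=
    Subgroup.coe_mul_of_right_le_normalizer_left X K hinv
  rcases hco.le_iff.mp (le_sup_right : K ≤ X ⊔ K) with h | h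
  · right
    refine le_antisymm hX fun n hn => ?_
    have hn' : n ∈ (X : Set H) * (K : Set H) := by rw [← hmul, h]; trivial
    obtain ⟨x, hx, k, hk, rfl⟩ := hn'
    refine X.mul_mem hx (hKX ⟨hk, ?_⟩)
    have := N.mul_mem (N.inv_mem (hX hx)) hn
    rwa [inv_mul_cancel_left] at this
  · left
    refine le_antisymm (le_inf (le_sup_left.trans h.le) hX) hKX

end Cfsg.Agent.S0722
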