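import Cfsg.Statements.S0723
import Cfsg.Agent.S0721
import Cfsg.Agent.S0722
import Cfsg.Agent.Lib.PermGp.SimplePower
import Mathlib.Tactic.Group

set_option autoImplicit false
open Cfsg MulAction

namespace Cfsg.Agent.S0723

/-- The core of the O'Nan–Scott Theorem. Let `H` be a primitive permutation group on a finite set whose unique minimal normal subgroup `N` is non-abelian, and `K` a point stabiliser. Then there are a non-abelian simple group `T` and an isomorphism `N ≃* T^m` (`m ≥ 1`) under which `K ⊓ N` becomes either a product `∏ K_i` of proper subgroups `K_i < T`, or the set of functions constant on each block of a partition of the index set into blocks of one common size `k ≥ 2`. -/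
theorem result {α : Type*} [Finite α] (H : Subgroup (Equiv.Perm α)) [MulAction.IsPreprimitive H α] (N : Subgroup H) [N.Normal] (hN : N ≠ ⊥) (hmin : ∀ M : Subgroup H, M.Normal → M ≤ N → M = ⊥ ∨ M = N) (huniq : ∀ L : Subgroup H, L.Normal → L ≠ ⊥ → (∀ M : Subgroup H, M.Normal → M ≤ L → M = ⊥ ∨ M = L) → L = N) (hnab : ¬ IsMulCommutative N) (a : α) : ∃ (T : Type) (_ : Group T) (m : ℕ) (e : N ≃* (Fin m → T)), IsSimpleGroup T ∧ ¬ IsMulCommutative T ∧ 0 < m ∧ ((∃ K : Fin m → Subgroup T, (∀ i, K i ≠ ⊤) ∧ ∀ n : N, (n : H) ∈ MulAction.stabilizer H a ↔ ∀ i, e n i ∈ K i) ∨ (∃ (k : ℕ) (c : Fin m → Fin m), 2 ≤ k ∧ (∀ j : Fin m, Nat.card {i : Fin m // c i = j} = k ∨ Nat.card {i : Fin m // c i = j} = 0) ∧ ∀ n : N, (n : H) ∈ MulAction.stabilizer H a ↔ ∀ i j : Fin m, c i = c j → e n i = e n j)) := by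
  classical
  obtain ⟨T, iT, m, hTs, hm, ⟨e₀⟩⟩ := S0721.result N hN hmin
  haveI hT : IsPretransitive N α := PermGp.normal_transitive N hN
  haveI : Finite T := Finite.of_surjective (fun n : N => e₀ n ⟨0, hm⟩) fun t =>
    ⟨e₀.symm fun _ => t, congrFun (e₀.apply_symm_apply _) _⟩
  have hTc : ¬ IsMulCommutative T := fun hc => hnab ⟨⟨fun x y => e₀.injective (by
    rw [map_mul, map_mul]; funext i; exact hc.is_comm.comm _ _)⟩⟩
  have hNA : PermGp.SimplePower.NA T := ⟨hTs, by by_contra! h; exact hTc ⟨⟨h⟩⟩⟩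
  set K := MulAction.stabilizer H a with hK
  let S : Subgroup (Fin m → T) := (K.subgroupOf N).map e₀.toMonoidHom
  have hS : ∀ n : N, e₀ n ∈ S ↔ (n : H) ∈ K := fun n => by
    constructor
    · rintro ⟨n', hn', e⟩; rw [← e₀.injective e]; exact hn'
    · intro hn; exact ⟨n, hn, rfl⟩
  let φ : H → (Fin m → T) ≃* (Fin m → T) := fun k => (e₀.symm.trans (MulAut.conjNormal k)).trans e₀
  have hφ : ∀ k n, φ k (e₀ n) = e₀ (MulAut.conjNormal k n) := fun k n => by
    show e₀ (MulAut.conjNormal k (e₀.symm (e₀ n))) = _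
    rw [e₀.symm_apply_apply]
  have hNK : ∀ h : H, ∃ n ∈ N, ∃ k ∈ K, h = n * k := fun h => by
    obtain ⟨⟨n, hn⟩, hna⟩ := hT.exists_smul_eq a (h • a)
    refine ⟨n, hn, n⁻¹ * h, MulAction.mem_stabilizer_iff.mpr ?_, by group⟩
    rw [mul_smul, ← hna]; exact inv_smul_smul _ _
  -- maximality
  have hmax : ∀ X : Subgroup (Fin m → T), S ≤ X → (∀ k ∈ K, ∀ f ∈ X, φ k f ∈ X) → X = S ∨ X = ⊤ := by
    intro X hSX hinv
    let Y : Subgroup H := (X.comap e₀.toMonoidHom).map N.subtype
    have hconj : ∀ k ∈ K, ∀ y ∈ Y, k * y * k⁻¹ ∈ Y := by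
      rintro k hk _ ⟨n, hn, rfl⟩
      refine ⟨MulAut.conjNormal k n, ?_, rfl⟩
      show e₀ (MulAut.conjNormal k n) ∈ X
      rw [← hφ]; exact hinv k hk _ hn
    rcases S0722.result H N hN hmin a Y (Subgroup.map_subtype_le _)
      (fun x hx => ⟨⟨x, hx.2⟩, hSX ((hS _).mpr hx.1), rfl⟩)
      (Subgroup.le_normalizer_iff.2 hconj) with h | h
    · left
      refine le_antisymm (fun f hf => ?_) hSX
      rw [← e₀.apply_symm_apply f, hS]
      have hY : ((e₀.symm f : N) : H) ∈ Y := ⟨e₀.symm f, by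
        show e₀ (e₀.symm f) ∈ X
        rwa [e₀.apply_symm_apply], rfl⟩
      rw [h] at hY
      exact hY.1
    · right
      rw [eq_top_iff]
      intro f _
      have hY : ((e₀.symm f : N) : H) ∈ Y := h.symm ▸ (e₀.symm f).2
      obtain ⟨n, hn, e⟩ := hY
      have : e₀ n ∈ X := hn
      rwa [Subtype.ext e, e₀.apply_symm_apply] at this
  have hSinv : ∀ k ∈ K, ∀ f ∈ S, φ k f ∈ S := by
    rintro k hk _ ⟨n, hn, rfl⟩
    show φ k (e₀ n) ∈ S
    rw [hφ, hS, MulAut.conjNormal_apply]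
    exact K.mul_mem (K.mul_mem hk hn) (K.inv_mem hk)
  have hSne : S ≠ ⊤ := fun htop => hN (by
    have hNle : ∀ n ∈ N, n ∈ K := fun n hn => (hS ⟨n, hn⟩).mp (htop ▸ Subgroup.mem_top _)
    rw [Subgroup.eq_bot_iff_forall]
    intro n hn
    apply FaithfulSMul.eq_of_smul_eq_smul (α := α)
    intro x
    obtain ⟨⟨u, hu⟩, hux⟩ := hT.exists_smul_eq a x
    have hu1 : u • a = a := hNle u hu
    have hxa : x = a := hux.symm.trans hu1
    rw [hxa, one_smul]
    exact hNle n hn)
  choose p ψ hψ hp using fun k => hNA.aut_eq (φ k)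
  -- transitivity on the coordinates
  let N' : Subgroup H := N
  have horb : ∀ D : Set (Fin m), D.Nonempty → (∀ k ∈ K, ∀ i ∈ D, p k i ∈ D) → D = Set.univ := by
    intro D ⟨i₀, hi₀⟩ hD
    let Z : Subgroup (Fin m → T) :=
      { carrier := {f | ∀ i, i ∉ D → f i = 1}
        one_mem' := fun _ _ => rfl
        mul_mem' := fun {f g} hf hg i hi => by simp [hf i hi, hg i hi]
        inv_mem' := fun {f} hf i hi => by simp [hf i hi] }
    let M : Subgroup H := (Z.comap e₀.toMonoidHom).map N.subtype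
    haveI : M.Normal := ⟨by
      rintro _ ⟨n, hn, rfl⟩ h
      obtain ⟨u, hu, k, hk, rfl⟩ := hNK h
      have h1 : φ k (e₀ n) ∈ Z := by
        intro i hi
        obtain ⟨j, rfl⟩ := (p k).surjective i
        rw [hp]
        have hj : j ∉ D := fun hj => hi (hD k hk j hj)
        rw [show e₀ n j = 1 from hn j hj]
        have := hp k 1 j
        rw [map_one, Pi.one_apply] at this
        exact this.symm
      refine ⟨⟨u, hu⟩ * MulAut.conjNormal k n * ⟨u, hu⟩⁻¹, ?_, ?_⟩
      · show e₀ _ ∈ Z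
        intro i hi
        rw [map_mul, map_mul, map_inv, ← hφ, Pi.mul_apply, Pi.mul_apply, h1 i hi]
        simp
      · simp [MulAut.conjNormal_apply, mul_assoc]⟩
    rcases hmin M inferInstance (Subgroup.map_subtype_le _) with h | h
    · exfalso
      obtain ⟨x, hx⟩ := hNA.noncomm
      obtain ⟨y, hy⟩ := hx
      have hx1 : x ≠ 1 := fun e => hy (by rw [e, one_mul, mul_one])
      have : ((e₀.symm (Pi.mulSingle i₀ x) : N) : H) ∈ M := ⟨_, by
        show e₀ (e₀.symm _) ∈ Z
        rw [e₀.apply_symm_apply]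
        exact fun i hi => Pi.mulSingle_eq_of_ne (M := fun _ : Fin m => T) (fun (e : i = i₀) => hi (e.symm ▸ hi₀)) x, rfl⟩
      rw [h, Subgroup.mem_bot] at this
      have h1 : e₀.symm (Pi.mulSingle i₀ x) = 1 := Subtype.ext this
      have := e₀.symm.injective (h1.trans (map_one e₀.symm).symm)
      exact hx1 (Pi.mulSingle_eq_one_iff.mp this)
    · refine Set.eq_univ_of_forall fun j => ?_
      by_contra hj
      obtain ⟨x, y, hy⟩ := hNA.noncomm
      have hx1 : x ≠ 1 := fun e => hy (by rw [e, one_mul, mul_one])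
      obtain ⟨n, hn, e⟩ : ((e₀.symm (Pi.mulSingle j x) : N) : H) ∈ M := h.symm ▸ (e₀.symm _).2
      have := hn j hj
      change e₀ n j = 1 at this
      rw [Subtype.ext e, e₀.apply_symm_apply, Pi.mulSingle_eq_same] at this
      exact hx1 this
  let R : Fin m → Subgroup T := fun i => S.map (Pi.evalMonoidHom (fun _ : Fin m => T) i)
  have hRp : ∀ k ∈ K, ∀ i, ∀ t, t ∈ R i → ψ k i t ∈ R (p k i) := by
    rintro k hk i _ ⟨f, hf, rfl⟩
    exact ⟨φ k f, hSinv k hk f hf, hp k f i⟩
  by_cases hA : ∀ i, R i ≠ ⊤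
  · refine ⟨T, iT, m, e₀, hTs, hTc, hm, Or.inl ⟨R, hA, fun n => ?_⟩⟩
    rw [← hS]
    refine ⟨fun h i => ⟨_, h, rfl⟩, fun h => ?_⟩
    let X : Subgroup (Fin m → T) := Subgroup.pi Set.univ R
    rcases hmax X (fun f hf i _ => ⟨f, hf, rfl⟩) (fun k hk f hf i _ => by
      obtain ⟨j, rfl⟩ := (p k).surjective i
      rw [hp]
      exact hRp k hk j _ (hf j trivial)) with e | e
    · exact e ▸ (fun i _ => h i : e₀ n ∈ X)
    · refine absurd ?_ (hA ⟨0, hm⟩)
      rw [eq_top_iff]
      intro t _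
      have : (fun _ : Fin m => t) ∈ X := e ▸ Subgroup.mem_top _
      exact this _ trivial
  push Not at hA
  obtain ⟨i₁, hi₁⟩ := hA
  have hall : ∀ i, R i = ⊤ := fun i => by
    have := horb {i | R i = ⊤} ⟨i₁, hi₁⟩ (fun k hk j hj => by
      show R (p k j) = ⊤
      rw [eq_top_iff]
      intro t _
      obtain ⟨s, rfl⟩ := (hψ k j).2 t
      exact hRp k hk j s ((show R j = ⊤ from hj).symm ▸ Subgroup.mem_top s))
    exact (this.symm ▸ Set.mem_univ i : i ∈ {i | R i = ⊤})
  have hfull : ∀ i t, ∃ f ∈ S, f i = t := fun i t => by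
    obtain ⟨f, hf, e⟩ := (hall i).symm ▸ Subgroup.mem_top t
    exact ⟨f, hf, e⟩
  let s : Setoid (Fin m) := ⟨fun i j => PermGp.SimplePower.ker S i = PermGp.SimplePower.ker S j,
    ⟨fun _ => rfl, fun h => h.symm, fun h h' => h.trans h'⟩⟩
  let c : Fin m → Fin m := fun i => (Quotient.mk s i).out
  have hc : ∀ i, PermGp.SimplePower.ker S i = PermGp.SimplePower.ker S (c i) := fun i =>
    (Quotient.exact (Quotient.out_eq (Quotient.mk s i))).symm
  have hcc : ∀ i j, c i = c j ↔ PermGp.SimplePower.ker S i = PermGp.SimplePower.ker S j := fun i j => by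
    refine ⟨fun h => ((hc i).trans (congrArg _ h)).trans (hc j).symm, fun h => ?_⟩
    show (Quotient.mk s i).out = (Quotient.mk s j).out
    exact congrArg Quotient.out (Quotient.sound (s := s) h)
  choose θ hθ using fun i => PermGp.SimplePower.exists_factor hfull (hc i)
  let e : N ≃* (Fin m → T) := e₀.trans (MulEquiv.piCongrRight θ)
  have he : ∀ n : N, (n : H) ∈ MulAction.stabilizer H a ↔ ∀ i j : Fin m, c i = c j → e n i = e n j := by
    intro n
    rw [← hS]
    constructor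
    · intro h i j hij
      show θ i (e₀ n i) = θ j (e₀ n j)
      rw [← hθ i _ h, ← hθ j _ h, hij]
    · intro h
      refine PermGp.SimplePower.mem_of_compat hfull hNA _ fun i j hij g hg hgi => ?_
      have h1 : θ i (e₀ n i) = θ j (e₀ n j) := h i j ((hcc i j).mpr hij)
      apply (θ j).injective
      rw [← h1, ← hgi, ← hθ i g hg, ← hθ j g hg, (hcc i j).mpr hij]
  -- all classes have the same size
  let sz : Fin m → ℕ := fun i => Nat.card {l : Fin m // PermGp.SimplePower.ker S l = PermGp.SimplePower.ker S i}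
  have hker : ∀ k ∈ K, ∀ i, PermGp.SimplePower.ker S (p k i) =
      (PermGp.SimplePower.ker S i).map (φ k).toMonoidHom := by
    intro k hk i
    have hfwd : ∀ f, f ∈ PermGp.SimplePower.ker S i → φ k f ∈ PermGp.SimplePower.ker S (p k i) := fun f hf => by
      refine PermGp.SimplePower.mem_ker.mpr ⟨hSinv k hk f hf.1, ?_⟩
      rw [hp, (PermGp.SimplePower.mem_ker.mp hf).2]
      have := hp k 1 i
      rw [map_one, Pi.one_apply] at this
      exact this.symm
    refine le_antisymm (fun g hg => ?_) (by rintro _ ⟨f, hf, rfl⟩; exact hfwd f hf)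
    refine ⟨(φ k).symm g, PermGp.SimplePower.mem_ker.mpr ⟨?_, ?_⟩, (φ k).apply_symm_apply g⟩
    · obtain ⟨⟨f, hf⟩, hfg⟩ := Finite.surjective_of_injective
        (f := fun x : S => (⟨φ k x, hSinv k hk x x.2⟩ : S))
        (fun x y h => Subtype.ext ((φ k).injective (congrArg Subtype.val h))) ⟨g, hg.1⟩
      have hfg' : φ k f = g := congrArg Subtype.val hfg
      rw [← hfg', MulEquiv.symm_apply_apply]; exact hf
    · apply (hψ k i).1
      rw [← hp, MulEquiv.apply_symm_apply, (PermGp.SimplePower.mem_ker.mp hg).2]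
      have := hp k 1 i
      rw [map_one, Pi.one_apply] at this
      exact this
  have hsz : ∀ i, sz i = sz ⟨0, hm⟩ := fun i => by
    have := horb {i | sz i = sz ⟨0, hm⟩} ⟨⟨0, hm⟩, rfl⟩ (fun k hk j hj => by
      refine Eq.trans ?_ (show sz j = sz ⟨0, hm⟩ from hj)
      refine (Nat.card_congr ((p k).subtypeEquiv fun l => ?_)).symm
      rw [hker k hk l, hker k hk j]
      exact (Subgroup.map_injective (f := (φ k).toMonoidHom) (φ k).injective).eq_iff.symm)
    exact (this.symm ▸ Set.mem_univ i : i ∈ {i | sz i = sz ⟨0, hm⟩})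
  have hk2 : 2 ≤ sz ⟨0, hm⟩ := by
    by_contra hlt
    apply hSne
    rw [eq_top_iff]
    intro f _
    refine PermGp.SimplePower.mem_of_compat hfull hNA f fun i j hij g _ hgi => ?_
    have hs : Subsingleton {l : Fin m // PermGp.SimplePower.ker S l = PermGp.SimplePower.ker S i} :=
      Finite.card_le_one_iff_subsingleton.mp (by have := hsz i; show sz i ≤ 1; omega)
    have : i = j := congrArg Subtype.val (hs.elim ⟨i, rfl⟩ ⟨j, hij.symm⟩)
    rw [← this, hgi]
  refine ⟨T, iT, m, e, hTs, hTc, hm, Or.inr ⟨sz ⟨0, hm⟩, c, hk2, fun j => ?_, he⟩⟩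
  by_cases hj : ∃ i, c i = j
  · obtain ⟨i, rfl⟩ := hj
    left
    rw [← hsz i]
    exact Nat.card_congr (Equiv.subtypeEquivRight fun l => hcc l i)
  · right
    exact Nat.card_eq_zero.mpr (Or.inl ⟨fun l => hj ⟨l.1, l.2⟩⟩)

end Cfsg.Agent.S0723
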