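import Cfsg.Statements.S0724
import Cfsg.Agent.Lib.PermGp.Basic

set_option autoImplicit false
open Cfsg

namespace Cfsg.Agent.S0724

/-- Blichfeldt's Theorem: if a finite set `L` of natural numbers contains the number of fixed points of every non-identity element of a permutation group `G` of degree `n`, then the order of `G` divides `∏ (n - l)` over `l ∈ L`. -/
theorem result {α : Type*} [Fintype α] [DecidableEq α] (G : Subgroup (Equiv.Perm α)) (L : Finset ℕ) (hL : ∀ g ∈ G, g ≠ 1 → Nat.card (MulAction.fixedBy α g) ∈ L) : Nat.card G ∣ ∏ l ∈ L, (Fintype.card α - l) := by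
  classical
  have hmom : ∀ k : ℕ, (Nat.card G : ℤ) ∣ ∑ g : G, (Nat.card (MulAction.fixedBy α (g : Equiv.Perm α)) : ℤ) ^ k := by
    intro k
    have h := MulAction.sum_card_fixedBy_eq_card_orbits_mul_card_group G (Fin k → α)
    have e : ∀ g : G, Fintype.card (MulAction.fixedBy (Fin k → α) g) =
        Nat.card (MulAction.fixedBy α (g : Equiv.Perm α)) ^ k := by
      intro g
      rw [← Nat.card_eq_fintype_card]
      calc Nat.card (MulAction.fixedBy (Fin k → α) g)
          = Nat.card (Fin k → MulAction.fixedBy α (g : Equiv.Perm α)) := by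
            refine Nat.card_congr ⟨fun x i => ⟨x.1 i, congrFun x.2 i⟩,
              fun f => ⟨fun i => (f i).1, funext fun i => (f i).2⟩, fun x => rfl, fun f => rfl⟩
        _ = _ := by rw [Nat.card_fun, Nat.card_fin]
    simp only [e] at h
    rw [Nat.card_eq_fintype_card]
    exact ⟨(Fintype.card (Quotient (MulAction.orbitRel G (Fin k → α))) : ℤ), by
      rw [mul_comm]; exact_mod_cast h⟩
  let P : Polynomial ℤ := ∏ l ∈ L, (Polynomial.X - Polynomial.C (l : ℤ))
  have hdvd : (Nat.card G : ℤ) ∣ ∑ g : G, P.eval (Nat.card (MulAction.fixedBy α (g : Equiv.Perm α)) : ℤ) := by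
    simp only [Polynomial.eval_eq_sum, Polynomial.sum]
    rw [Finset.sum_comm]
    refine Finset.dvd_sum fun k _ => ?_
    rw [← Finset.mul_sum]
    exact Dvd.dvd.mul_left (hmom k) _
  rw [Finset.sum_eq_single (1 : G)] at hdvd
  rotate_left
  · intro g _ hg
    rw [Polynomial.eval_prod]
    refine Finset.prod_eq_zero (hL g g.2 ?_) (by simp)
    exact fun h => hg (Subtype.ext h)
  · simp
  have h1 : Nat.card (MulAction.fixedBy α ((1 : G) : Equiv.Perm α)) = Fintype.card α := by
    simp [MulAction.fixedBy, Nat.card_eq_fintype_card]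
  rw [h1, Polynomial.eval_prod] at hdvd
  simp only [Polynomial.eval_sub, Polynomial.eval_X, Polynomial.eval_C] at hdvd
  by_cases hz : ∀ l ∈ L, l ≤ Fintype.card α
  · rw [← Int.natCast_dvd_natCast, Nat.cast_prod]
    convert hdvd using 1
    exact Finset.prod_congr rfl fun l hl => by rw [Nat.cast_sub (hz l hl)]
  · push Not at hz
    obtain ⟨l, hl, hlt⟩ := hz
    rw [Finset.prod_eq_zero hl (by omega)]
    exact dvd_zero _

end Cfsg.Agent.S0724
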