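import Cfsg.Statements.S0726
import Cfsg.Agent.Lib.PermGp.PrimeDegree

set_option autoImplicit false
open Cfsg

namespace Cfsg.Agent.S0726

/-- The left and right regular permutation representations of a group are each other's centralisers in the symmetric group: the centraliser of the left regular image is the right regular image, and a transitive subgroup centralising the left regular image is the whole right regular image. -/
theorem result {G : Type*} [Group G] : Subgroup.centralizer ((MulAction.toPermHom G G).range : Set (Equiv.Perm G)) = (MulAction.toPermHom Gᵐᵒᵖ G).range ∧ ∀ H : Subgroup (Equiv.Perm G), H ≤ Subgroup.centralizer ((MulAction.toPermHom G G).range : Set (Equiv.Perm G)) → MulAction.IsPretransitive H G → H = (MulAction.toPermHom Gᵐᵒᵖ G).range := by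
  refine ⟨?_, ?_⟩
  · apply le_antisymm
    · intro c hc
      refine ⟨MulOpposite.op (c 1), Equiv.ext fun x => ?_⟩
      have h := DFunLike.congr_fun (Subgroup.mem_centralizer_iff.mp hc _
        ⟨x, rfl⟩) (1 : G)
      simpa [MulAction.toPermHom_apply] using h
    · rintro c ⟨g, rfl⟩
      rw [Subgroup.mem_centralizer_iff]
      rintro _ ⟨x, rfl⟩
      ext y
      simp [MulAction.toPermHom_apply, MulOpposite.smul_eq_mul_unop, mul_assoc]
  · intro H hH hT
    apply le_antisymm
    · intro c hc
      refine ⟨MulOpposite.op (c 1), Equiv.ext fun x => ?_⟩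
      have h := DFunLike.congr_fun (Subgroup.mem_centralizer_iff.mp (hH hc) _
        ⟨x, rfl⟩) (1 : G)
      simpa [MulAction.toPermHom_apply] using h
    · rintro c ⟨g, rfl⟩
      obtain ⟨h, hh⟩ := MulAction.exists_smul_eq H (1 : G) g.unop
      have e : (h : Equiv.Perm G) = MulAction.toPermHom Gᵐᵒᵖ G g := by
        ext x
        have h1 := DFunLike.congr_fun (Subgroup.mem_centralizer_iff.mp (hH h.2) _
          ⟨x, rfl⟩) (1 : G)
        have hh' : (h : Equiv.Perm G) 1 = g.unop := hh
        simp [MulAction.toPermHom_apply, hh'] at h1
        simp [MulAction.toPermHom_apply, MulOpposite.smul_eq_mul_unop, h1]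
      exact e ▸ h.2

end Cfsg.Agent.S0726
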