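import Cfsg.Statements.S0733
import Cfsg.Agent.Lib.PermGp.Basic

set_option autoImplicit false
open Cfsg

namespace Cfsg.Agent.S0733

open scoped Pointwise


/-- A permutation group of affine type — generated by the translations of a finite vector space `V` over `ZMod p` together with a group `G₀` of linear automorphisms — is primitive on `V` if and only if `G₀` is irreducible on `V`. -/
theorem result {p : ℕ} [Fact p.Prime] {V : Type*} [AddCommGroup V] [Module (ZMod p) V] [Finite V] [Nontrivial V] (G₀ : Subgroup (V ≃ₗ[ZMod p] V)) (G : Subgroup (Equiv.Perm V)) (hG : ∀ σ : Equiv.Perm V, σ ∈ G ↔ ∃ g ∈ G₀, ∃ b : V, ∀ x : V, σ x = (g : V ≃ₗ[ZMod p] V) x + b) : MulAction.IsPreprimitive G V ↔ ∀ W : Submodule (ZMod p) V, (∀ g ∈ G₀, ∀ v ∈ W, (g : V ≃ₗ[ZMod p] V) v ∈ W) → W = ⊥ ∨ W = ⊤ := by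
  classical
  have htrans : ∀ b : V, ∃ s : G, ∀ x : V, s • x = x + b := fun b =>
    ⟨⟨Equiv.addRight b, (hG _).mpr ⟨1, one_mem _, b, fun x => rfl⟩⟩, fun x => rfl⟩
  have : MulAction.IsPretransitive G V := ⟨fun x y => by
    obtain ⟨s, hs⟩ := htrans (y - x)
    exact ⟨s, by rw [hs]; abel⟩⟩
  constructor
  · intro hP W hW
    have hB : MulAction.IsBlock G (W : Set V) := by
      rw [MulAction.isBlock_iff_smul_eq_of_nonempty]
      intro s hne
      obtain ⟨g, hg, b, hs⟩ := (hG _).mp s.2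
      have hs' : ∀ x : V, s • x = (g : V ≃ₗ[ZMod p] V) x + b := hs
      obtain ⟨y, ⟨x, hx, rfl⟩, hy⟩ := hne
      have hb : b ∈ W := by
        have : s • x - (g : V ≃ₗ[ZMod p] V) x ∈ W := W.sub_mem hy (hW g hg x hx)
        rwa [hs', add_sub_cancel_left] at this
      ext z
      constructor
      · rintro ⟨w, hw, rfl⟩
        show s • w ∈ W
        rw [hs']
        exact W.add_mem (hW g hg w hw) hb
      · intro hz
        refine ⟨s⁻¹ • z, ?_, smul_inv_smul s z⟩
        have hgi : ∀ w ∈ W, (g : V ≃ₗ[ZMod p] V).symm w ∈ W := fun w hw =>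
          hW g⁻¹ (inv_mem hg) w hw
        have e : s⁻¹ • z = (g : V ≃ₗ[ZMod p] V).symm (z - b) := by
          rw [inv_smul_eq_iff, hs', LinearEquiv.apply_symm_apply, sub_add_cancel]
        rw [e]
        exact hgi _ (W.sub_mem hz hb)
    rcases MulAction.IsPreprimitive.isTrivialBlock_of_isBlock hB with hs | hu
    · exact Or.inl ((Submodule.eq_bot_iff _).mpr fun x hx => hs hx W.zero_mem)
    · exact Or.inr (eq_top_iff.mpr fun x _ => by
        have : x ∈ (W : Set V) := hu ▸ trivial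
        exact this)
  · intro h
    refine MulAction.IsPreprimitive.of_isTrivialBlock_base (0 : V) fun {B} h0 hB => ?_
    have hadd : ∀ x ∈ B, ∀ y ∈ B, x + y ∈ B := by
      intro x hx y hy
      obtain ⟨s, hs⟩ := htrans y
      have hsB : s • B = B := MulAction.isBlock_iff_smul_eq_of_nonempty.mp hB
        ⟨y, ⟨0, h0, by simp [hs]⟩, hy⟩
      rw [← hsB]
      exact ⟨x, hx, hs x⟩
    let W : AddSubmonoid V := { carrier := B, add_mem' := fun {x y} hx hy => hadd x hx y hy, zero_mem' := h0 }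
    have hsm : ∀ (c : ZMod p) (x : V), x ∈ W → c • x ∈ W := fun c x hx => by
      rw [← ZMod.natCast_zmod_val c, Nat.cast_smul_eq_nsmul]
      exact W.nsmul_mem hx _
    let W' : Submodule (ZMod p) V := { W with smul_mem' := fun c x hx => hsm c x hx }
    have hW : ∀ g ∈ G₀, ∀ v ∈ W', (g : V ≃ₗ[ZMod p] V) v ∈ W' := by
      intro g hg v hv
      let s : G := ⟨(g : V ≃ₗ[ZMod p] V).toEquiv, (hG _).mpr ⟨g, hg, 0, fun x => by simp⟩⟩
      have hsB : s • B = B := MulAction.isBlock_iff_smul_eq_of_nonempty.mp hB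
        ⟨0, ⟨0, h0, map_zero (g : V ≃ₗ[ZMod p] V)⟩, h0⟩
      show (g : V ≃ₗ[ZMod p] V) v ∈ B
      rw [← hsB]
      exact ⟨v, hv, rfl⟩
    rcases h W' hW with hb | ht
    · left
      intro x hx y hy
      have e : ∀ z ∈ B, z = 0 := fun z hz => (Submodule.eq_bot_iff _).mp hb z hz
      rw [e x hx, e y hy]
    · exact Or.inr (Set.eq_univ_iff_forall.mpr fun x => by
        have : x ∈ W' := by rw [ht]; trivial
        exact this)

end Cfsg.Agent.S0733
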