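import Cfsg.Statements.S0734
import Cfsg.Agent.Lib.PermGp.Basic

set_option autoImplicit false
open Cfsg

namespace Cfsg.Agent.S0734

open scoped Pointwise


/-- Higman's criterion for primitivity: a transitive action on a finite set is primitive if and only if every non-trivial orbital graph (edges = images of a fixed pair of distinct points) is connected. -/
theorem result {G : Type*} [Group G] {Ω : Type*} [Finite Ω] [MulAction G Ω] [MulAction.IsPretransitive G Ω] [Nontrivial Ω] : MulAction.IsPreprimitive G Ω ↔ ∀ a b : Ω, a ≠ b → (SimpleGraph.fromRel fun x y : Ω => ∃ g : G, g • a = x ∧ g • b = y).Connected := by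
  classical
  constructor
  · intro hP a b hab
    set Γ := SimpleGraph.fromRel fun x y : Ω => ∃ g : G, g • a = x ∧ g • b = y
    have hmap : ∀ (g : G) (x y : Ω), Γ.Adj x y → Γ.Adj (g • x) (g • y) := by
      intro g x y h
      obtain ⟨hne, h⟩ := (SimpleGraph.fromRel_adj _ _ _).mp h
      refine (SimpleGraph.fromRel_adj _ _ _).mpr
        ⟨fun e => hne (MulAction.injective g e), ?_⟩
      rcases h with ⟨k, h1, h2⟩ | ⟨k, h1, h2⟩
      · exact Or.inl ⟨g * k, by rw [mul_smul, h1], by rw [mul_smul, h2]⟩
      · exact Or.inr ⟨g * k, by rw [mul_smul, h1], by rw [mul_smul, h2]⟩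
    have hreach : ∀ (g : G) (x y : Ω), Γ.Reachable x y → Γ.Reachable (g • x) (g • y) := by
      intro g x y h
      exact h.map ⟨fun z => g • z, fun {x y} h => hmap g x y h⟩
    have hB : MulAction.IsBlock G {x : Ω | Γ.Reachable a x} := by
      rw [MulAction.isBlock_iff_smul_eq_of_nonempty]
      intro g hne
      obtain ⟨y, ⟨x, hx, rfl⟩, hy⟩ := hne
      have hga : Γ.Reachable a (g • a) := (show Γ.Reachable a (g • x) from hy).trans
        (hreach g x a (show Γ.Reachable a x from hx).symm)
      ext z
      constructor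
      · rintro ⟨w, hw, rfl⟩
        exact hga.trans (hreach g a w hw)
      · intro hz
        refine ⟨g⁻¹ • z, ?_, smul_inv_smul g z⟩
        have h := hreach g⁻¹ _ _ (hga.symm.trans (show Γ.Reachable a z from hz))
        rwa [inv_smul_smul] at h
    have hab' : Γ.Adj a b :=
      (SimpleGraph.fromRel_adj _ _ _).mpr ⟨hab, Or.inl ⟨1, one_smul G a, one_smul G b⟩⟩
    rcases MulAction.IsPreprimitive.isTrivialBlock_of_isBlock hB with hs | hu
    · exact absurd (hs (SimpleGraph.Reachable.refl a) hab'.reachable) hab
    · have h : ∀ x, Γ.Reachable a x := fun x => by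
        have : x ∈ {x : Ω | Γ.Reachable a x} := hu ▸ trivial
        exact this
      exact ⟨fun x y => (h x).symm.trans (h y)⟩
  · intro h
    refine MulAction.IsPreprimitive.mk fun {B} hB => ?_
    by_cases hs : B.Subsingleton
    · exact Or.inl hs
    · right
      obtain ⟨a, ha, b, hb, hab⟩ := Set.not_subsingleton_iff.mp hs
      have hc := h a b hab
      refine Set.eq_univ_iff_forall.mpr fun x => ?_
      have hstep : ∀ u v : Ω, (SimpleGraph.fromRel fun x y : Ω =>
          ∃ g : G, g • a = x ∧ g • b = y).Adj u v → u ∈ B → v ∈ B := by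
        intro u v huv hu
        obtain ⟨-, ⟨g, rfl, rfl⟩ | ⟨g, rfl, rfl⟩⟩ := (SimpleGraph.fromRel_adj _ _ _).mp huv
        · have hgB : g • B = B := MulAction.isBlock_iff_smul_eq_of_nonempty.mp hB
            ⟨g • a, Set.smul_mem_smul_set ha, hu⟩
          rw [← hgB]; exact Set.smul_mem_smul_set hb
        · have hgB : g • B = B := MulAction.isBlock_iff_smul_eq_of_nonempty.mp hB
            ⟨g • b, Set.smul_mem_smul_set hb, hu⟩
          rw [← hgB]; exact Set.smul_mem_smul_set ha
      obtain ⟨w⟩ := hc.preconnected a x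
      have hw : ∀ {u v : Ω}, (SimpleGraph.fromRel fun x y : Ω =>
          ∃ g : G, g • a = x ∧ g • b = y).Walk u v → u ∈ B → v ∈ B := by
        intro u v w
        induction w with
        | nil => exact id
        | cons h' _ ih => exact fun hu => ih (hstep _ _ h' hu)
      exact hw w ha

end Cfsg.Agent.S0734
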