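import Cfsg.Statements.S0735
import Cfsg.Agent.Lib.PermGp.MultiTrans

set_option autoImplicit false
open Cfsg

namespace Cfsg.Agent.S0735

open scoped Pointwise


/-- A 2-homogeneous permutation group (transitive on 2-subsets) of even order is doubly transitive; a non-trivial 2-homogeneous group is primitive. -/
theorem result {α : Type*} [Fintype α] [DecidableEq α] (G : Subgroup (Equiv.Perm α)) (h2 : MulAction.IsPretransitive G (Set.powersetCard α 2)) (hα : 3 ≤ Fintype.card α) : (Even (Nat.card G) → MulAction.IsMultiplyPretransitive G α 2) ∧ (G ≠ ⊥ → MulAction.IsPreprimitive G α) := by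
  classical
  have hpair : ∀ a b c d : α, a ≠ b → c ≠ d → ∃ g : G, (g • a = c ∧ g • b = d) ∨ (g • a = d ∧ g • b = c) := by
    intro a b c d hab hcd
    obtain ⟨g, hg⟩ := h2.exists_smul_eq ⟨{a, b}, Finset.card_pair hab⟩ ⟨{c, d}, Finset.card_pair hcd⟩
    have hg' : ({a, b} : Finset α).image (fun x => g • x) = {c, d} := by
      have := congrArg Subtype.val hg
      exact this
    refine ⟨g, ?_⟩
    have ha : g • a = c ∨ g • a = d := by
      have : g • a ∈ ({c, d} : Finset α) := hg' ▸ Finset.mem_image_of_mem _ (by simp)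
      simpa using this
    have hb : g • b = c ∨ g • b = d := by
      have : g • b ∈ ({c, d} : Finset α) := hg' ▸ Finset.mem_image_of_mem _ (by simp)
      simpa using this
    have hne : g • a ≠ g • b := fun e => hab (MulAction.injective g e)
    rcases ha with ha | ha <;> rcases hb with hb | hb
    · exact absurd (ha.trans hb.symm) hne
    · exact Or.inl ⟨ha, hb⟩
    · exact Or.inr ⟨ha, hb⟩
    · exact absurd (ha.trans hb.symm) hne
  refine ⟨fun heven => ?_, fun _ => ?_⟩
  · haveI := Fact.mk Nat.prime_two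
    obtain ⟨t, ht⟩ := exists_prime_orderOf_dvd_card' (G := G) 2 heven.two_dvd
    obtain ⟨a, ha⟩ : ∃ a : α, t • a ≠ a := by
      by_contra! hall
      have : t = 1 := PermGp.perm_ext fun x => by rw [hall x, one_smul]
      simp [this] at ht
    have htt : t • t • a = a := by
      rw [← mul_smul, ← pow_two, ← ht, pow_orderOf_eq_one, one_smul]
    rw [MulAction.is_two_pretransitive_iff]
    intro u v c d huv hcd
    have key : ∀ c d : α, c ≠ d → ∃ g : G, g • a = c ∧ g • (t • a) = d := by
      intro c d hcd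
      obtain ⟨g, hg | ⟨h1, h2⟩⟩ := hpair a (t • a) c d ha.symm hcd
      · exact ⟨g, hg⟩
      · exact ⟨g * t, by rw [mul_smul, h2], by rw [mul_smul, htt, h1]⟩
    obtain ⟨g, g1, g2⟩ := key u v huv
    obtain ⟨g', g1', g2'⟩ := key c d hcd
    exact ⟨g' * g⁻¹, by rw [← g1, mul_smul, inv_smul_smul, g1'],
      by rw [← g2, mul_smul, inv_smul_smul, g2']⟩
  · have htr : MulAction.IsPretransitive G α := by
      refine ⟨fun a c => ?_⟩
      by_contra hno
      push Not at hno
      have hac : a ≠ c := fun e => hno 1 (by rw [one_smul, e])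
      obtain ⟨x, hxa, hxc⟩ : ∃ x : α, x ≠ a ∧ x ≠ c :=
        Finset.two_lt_card_iff.mp (show 2 < (Finset.univ : Finset α).card by rw [Finset.card_univ]; omega) |>
          fun ⟨p, q, r, _, _, _, hpq, hpr, hqr⟩ => by
            by_cases h1 : p ≠ a ∧ p ≠ c
            · exact ⟨p, h1⟩
            by_cases h2 : q ≠ a ∧ q ≠ c
            · exact ⟨q, h2⟩
            refine ⟨r, ?_⟩
            grind
      obtain ⟨g, hg⟩ := hpair a x a c hxa.symm hac
      obtain ⟨g', hg'⟩ := hpair c x a c hxc.symm hac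
      rcases hg with ⟨g1, g2⟩ | ⟨g1, g2⟩
      · rcases hg' with ⟨k1, k2⟩ | ⟨k1, k2⟩
        · exact hno g'⁻¹ (by rw [inv_smul_eq_iff]; exact k1.symm)
        · exact hno (g * g'⁻¹) (by rw [mul_smul, ← k2, inv_smul_smul, g2])
      · exact hno g g1
    refine MulAction.IsPreprimitive.mk fun {B} hB => ?_
    by_cases hs : B.Subsingleton
    · exact Or.inl hs
    right
    obtain ⟨a, ha, b, hb, hab⟩ := Set.not_subsingleton_iff.mp hs
    refine Set.eq_univ_iff_forall.mpr fun c => ?_
    by_cases hac : a = c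
    · exact hac ▸ ha
    obtain ⟨g, ⟨g1, g2⟩ | ⟨g1, g2⟩⟩ := hpair a b a c hab hac
    · have hgB : g • B = B := MulAction.isBlock_iff_smul_eq_of_nonempty.mp hB
        ⟨a, ⟨a, ha, g1⟩, ha⟩
      rw [← hgB, ← g2]; exact Set.smul_mem_smul_set hb
    · have hgB : g • B = B := MulAction.isBlock_iff_smul_eq_of_nonempty.mp hB
        ⟨a, ⟨b, hb, g2⟩, ha⟩
      rw [← hgB, ← g1]; exact Set.smul_mem_smul_set ha

end Cfsg.Agent.S0735
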