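import Cfsg.Statements.S0744
import Cfsg.Agent.Lib.PermGp.MultiTrans

set_option autoImplicit false
open Cfsg

namespace Cfsg.Agent.S0744

/-- If for some `k > 1` the pointwise stabilisers of all `(k-1)`-subsets have the same order `> 1` and those of all `k`-subsets have the same order, then the group is `(k-1)`-transitive. -/
theorem result {α : Type*} [Fintype α] [DecidableEq α] (G : Subgroup (Equiv.Perm α)) {k : ℕ} (hk : 1 < k) (hkn : k ≤ Fintype.card α) (l m : ℕ) (hl : 1 < l) (hkm1 : ∀ s : Finset α, s.card = k - 1 → Nat.card (fixingSubgroup G (s : Set α)) = l) (hkm : ∀ s : Finset α, s.card = k → Nat.card (fixingSubgroup G (s : Set α)) = m) : MulAction.IsMultiplyPretransitive G α (k - 1) := by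
  classical
  refine PermGp.mt_of_fix_card (by omega) fun t ht x y hx hy => ?_
  by_contra hcon
  push Not at hcon
  have hxy : x ≠ y := fun e => hcon 1 (fun z _ => one_smul _ z) (by rw [one_smul, e])
  set S : Subgroup G := fixingSubgroup G (t : Set α)
  have hyo : y ∉ MulAction.orbit S x := by
    rintro ⟨g, hg⟩
    exact hcon g (PermGp.mem_fixingSubgroup_finset.mp g.2) hg
  -- orbit-stabiliser for one more fixed point
  have hos : ∀ (u : Finset α) (z : α), Nat.card (MulAction.orbit (fixingSubgroup G (u : Set α)) z) *
      Nat.card (fixingSubgroup G ((insert z u : Finset α) : Set α)) =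
      Nat.card (fixingSubgroup G (u : Set α)) := by
    intro u z
    have e : fixingSubgroup G ((insert z u : Finset α) : Set α) =
        fixingSubgroup G (u : Set α) ⊓ MulAction.stabilizer G z := by
      ext g
      rw [PermGp.mem_fixingSubgroup_finset, Subgroup.mem_inf, PermGp.mem_fixingSubgroup_finset,
        MulAction.mem_stabilizer_iff, Finset.forall_mem_insert, and_comm]
    rw [e, ← PermGp.card_stabilizer_subgroup, ← Nat.card_prod]
    exact Nat.card_congr (MulAction.orbitProdStabilizerEquivGroup _ z)
  -- orbits of the stabiliser of k - 1 points all have length l / m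
  have he : ∀ (z w : α), z ∉ t → w ∉ t → z ≠ w →
      Nat.card (MulAction.orbit (fixingSubgroup G ((insert z t : Finset α) : Set α)) w) * m = l := by
    intro z w hz hw hzw
    have := hos (insert z t) w
    rwa [hkm1 (insert z t) (by rw [Finset.card_insert_of_notMem hz]; omega),
      hkm (insert w (insert z t)) (by
        rw [Finset.card_insert_of_notMem (by simp [hw, hzw.symm]), Finset.card_insert_of_notMem hz]
        omega)] at this
  set e := Nat.card (MulAction.orbit (fixingSubgroup G ((insert x t : Finset α) : Set α)) y) with hedef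
  have hem : e * m = l := he x y hx hy hxy
  have hm0 : 0 < m := by
    rcases Nat.eq_zero_or_pos m with rfl | h
    · simp at hem; omega
    · exact h
  have hall : ∀ z w : α, z ∉ t → w ∉ t → z ≠ w →
      Nat.card (MulAction.orbit (fixingSubgroup G ((insert z t : Finset α) : Set α)) w) = e := fun z w hz hw hzw =>
    Nat.eq_of_mul_eq_mul_right hm0 ((he z w hz hw hzw).trans hem.symm)
  -- a subgroup-invariant set avoiding the fixed points has size divisible by e
  have hdiv : ∀ (T : Set α), (∀ g ∈ fixingSubgroup G ((insert x t : Finset α) : Set α), ∀ w ∈ T, g • w ∈ T) →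
      (∀ w ∈ T, w ∉ t ∧ w ≠ x) → e ∣ Nat.card T := by
    intro T hT hT'
    let act : MulAction (fixingSubgroup G ((insert x t : Finset α) : Set α)) T :=
      { smul := fun g w => ⟨g • (w : α), hT g g.2 w w.2⟩
        one_smul := fun w => Subtype.ext (one_smul _ (w : α))
        mul_smul := fun g g' w => Subtype.ext (mul_smul g g' (w : α)) }
    have hoc : ∀ o : MulAction.orbitRel.Quotient (fixingSubgroup G ((insert x t : Finset α) : Set α)) T,
        Nat.card o.orbit = e := by
      intro o
      induction o using Quotient.inductionOn' with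
      | h w =>
        rw [MulAction.orbitRel.Quotient.orbit_mk]
        refine Eq.trans ?_ (hall x w hx (hT' w w.2).1 (hT' w w.2).2.symm)
        rw [Nat.card_coe_set_eq, Nat.card_coe_set_eq,
          ← Set.ncard_image_of_injective _ Subtype.val_injective]
        congr 1
        ext a
        constructor
        · rintro ⟨b, ⟨g, rfl⟩, rfl⟩; exact ⟨g, rfl⟩
        · rintro ⟨g, rfl⟩; exact ⟨g • w, ⟨g, rfl⟩, rfl⟩
    rw [Nat.card_congr (MulAction.selfEquivSigmaOrbits' (fixingSubgroup G ((insert x t : Finset α) : Set α)) T),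
      Nat.card_sigma]
    exact Finset.dvd_sum fun o _ => dvd_of_eq (hoc o).symm
  have hsub : fixingSubgroup G ((insert x t : Finset α) : Set α) ≤ S := fun g hg =>
    PermGp.mem_fixingSubgroup_finset.mpr fun z hz =>
      PermGp.mem_fixingSubgroup_finset.mp hg z (Finset.mem_insert_of_mem hz)
  have hmem : ∀ z, z ∉ t → ∀ w ∈ MulAction.orbit S z, w ∉ t := by
    rintro z hz w ⟨g, rfl⟩ hw
    apply hz
    have hfixed : g • (g • z) = g • z := PermGp.mem_fixingSubgroup_finset.mp g.2 _ hw
    have hgz : g • z = z := MulAction.injective g hfixed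
    exact hgz ▸ hw
  have d1 : e ∣ Nat.card (MulAction.orbit S y) := hdiv _
    (fun g hg w hw => MulAction.mem_orbit_of_mem_orbit (⟨g, hsub hg⟩ : S) hw) fun w hw =>
      ⟨hmem y hy w hw, fun e' => hyo (MulAction.mem_orbit_symm.mp (e' ▸ hw))⟩
  have d2 : e ∣ Nat.card ↥(MulAction.orbit S x \ {x}) := hdiv _
    (fun g hg w hw => ⟨MulAction.mem_orbit_of_mem_orbit (⟨g, hsub hg⟩ : S) hw.1, fun e' => hw.2 (by
      have hgx : g • x = x := PermGp.mem_fixingSubgroup_finset.mp hg x (Finset.mem_insert_self _ _)
      exact MulAction.injective g (e'.trans hgx.symm))⟩) fun w hw =>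
      ⟨hmem x hx w hw.1, hw.2⟩
  have hoeq : Nat.card (MulAction.orbit S x) = Nat.card (MulAction.orbit S y) := by
    have h1 := hos t x
    have h2 := hos t y
    rw [hkm1 (insert x t) (by rw [Finset.card_insert_of_notMem hx]; omega)] at h1
    rw [hkm1 (insert y t) (by rw [Finset.card_insert_of_notMem hy]; omega)] at h2
    exact Nat.eq_of_mul_eq_mul_right (by omega) (h1.trans h2.symm)
  have he1 : e ∣ 1 := by
    have hc : Nat.card ↥(MulAction.orbit S x \ {x}) + 1 = Nat.card (MulAction.orbit S x) := by
      rw [Nat.card_coe_set_eq, Nat.card_coe_set_eq]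
      exact Set.ncard_sdiff_singleton_add_one (MulAction.mem_orbit_self x)
    rw [← hoeq, ← hc] at d1
    exact (Nat.dvd_add_right d2).mp d1
  have he1' : e = 1 := Nat.dvd_one.mp he1
  -- then the stabiliser of k - 1 points is trivial
  have htriv : ∀ g ∈ fixingSubgroup G ((insert x t : Finset α) : Set α), g = 1 := by
    intro g hg
    apply PermGp.perm_ext
    intro w
    rw [one_smul]
    by_cases hw : w ∈ insert x t
    · exact PermGp.mem_fixingSubgroup_finset.mp hg w hw
    · rw [Finset.mem_insert, not_or] at hw
      have hs := hall x w hx hw.2 (Ne.symm hw.1)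
      rw [he1', Nat.card_eq_one_iff_unique] at hs
      obtain ⟨⟨hs⟩, -⟩ := hs
      exact congrArg Subtype.val (hs ⟨g • w, ⟨⟨g, hg⟩, rfl⟩⟩ ⟨w, MulAction.mem_orbit_self w⟩)
  have := hkm1 (insert x t) (by rw [Finset.card_insert_of_notMem hx]; omega)
  rw [(Subgroup.eq_bot_iff_forall _).mpr htriv, Subgroup.card_bot] at this
  omega

end Cfsg.Agent.S0744
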