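import Cfsg.Statements.S0753
-- import your own Cfsg.Agent.* helpers here


set_option autoImplicit false
open Cfsg

namespace Cfsg.Agent.S0753

/-- If σ is a ring endomorphism of the field F other than the identity and B is a σ-sesquilinear conjugate-symmetric form with B v v = 0 for every v, then B = 0. -/
theorem result {F V : Type*} [Field F] [AddCommGroup V] [Module F V] (σ : F →+* F) (hσ : σ ≠ RingHom.id F) (B : V →ₛₗ[σ] V →ₗ[F] F) (hS : B.IsSymm) (h0 : ∀ v : V, B v v = 0) : B = 0 := by
  obtain ⟨a, ha⟩ : ∃ a, σ a ≠ a := by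
    by_contra h
    push Not at h
    exact hσ (RingHom.ext h)
  refine LinearMap.ext₂ fun u v => ?_
  have h1 : ∀ x y, B x y + B y x = 0 := fun x y => by
    simpa [h0 x, h0 y, add_comm] using h0 (x + y)
  have h2 := h1 u v
  have h3 := h1 (a • u) v
  simp only [map_smulₛₗ, LinearMap.smul_apply, map_smul, smul_eq_mul] at h3
  have h4 : (σ a - a) * B u v = 0 := by linear_combination h3 - a * h2
  simpa using (mul_eq_zero.1 h4).resolve_left (sub_ne_zero.2 ha)

end Cfsg.Agent.S0753
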