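import Cfsg.Statements.S0756
import Cfsg.Agent.Lib.Spinor.Discr

set_option autoImplicit false
open Cfsg

namespace Cfsg.Agent.S0756

/-- Classification of symmetric bilinear forms over finite fields of odd characteristic: if B is non-degenerate symmetric on V of dimension n + 1 and α is a fixed non-square of F, there is an orthogonal basis b_0, ..., b_n with B(b_i, b_i) = 1 for i < n and B(b_n, b_n) ∈ {1, α}. -/
theorem result {F V : Type*} [Field F] [Finite F] [AddCommGroup V] [Module F V] [FiniteDimensional F V] (h2 : (2 : F) ≠ 0) (B : LinearMap.BilinForm F V) (hS : B.IsSymm) (hB : B.Nondegenerate) {n : ℕ} (hn : Module.finrank F V = n + 1) (α : F) (hα : ¬ IsSquare α) : ∃ b : Module.Basis (Fin (n + 1)) F V, (∀ i j, i ≠ j → B (b i) (b j) = 0) ∧ (∀ i, i ≠ Fin.last n → B (b i) (b i) = 1) ∧ (B (b (Fin.last n)) (b (Fin.last n)) = 1 ∨ B (b (Fin.last n)) (b (Fin.last n)) = α) := by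
  classical
  haveI := Fintype.ofFinite F
  let e : (Fin (n + 1) → F) ≃ₗ[F] V := (Module.finBasisOfFinrankEq F V hn).equivFun.symm
  let B' : LinearMap.BilinForm F (Fin (n + 1) → F) := B.comp e.toLinearMap e.toLinearMap
  have hpolar : ∀ x y, QuadraticMap.polar B'.toQuadraticMap x y = 2 * B (e x) (e y) := fun x y => by
    rw [LinearMap.BilinMap.polar_toQuadraticMap]
    show B (e x) (e y) + B (e y) (e x) = _
    rw [hS.eq (e y) (e x)]
    ring
  have hQ : (QuadraticMap.polarBilin B'.toQuadraticMap).Nondegenerate := by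
    refine ⟨fun x hx => ?_, fun y hy => ?_⟩
    · refine e.map_eq_zero_iff.1 (hB.1 _ fun z => ?_)
      have := hx (e.symm z)
      rw [QuadraticMap.polarBilin_apply_apply, hpolar, e.apply_symm_apply] at this
      exact (mul_eq_zero.1 this).resolve_left h2
    · refine e.map_eq_zero_iff.1 (hB.2 _ fun z => ?_)
      have := hy (e.symm z)
      rw [QuadraticMap.polarBilin_apply_apply, hpolar, e.apply_symm_apply] at this
      exact (mul_eq_zero.1 this).resolve_left h2
  obtain ⟨b, ho, hne, hone⟩ := Spinor.exists_ones h2 B'.toQuadraticMap hQ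
  have hval : ∀ x, B'.toQuadraticMap x = B (e x) (e x) := fun x => rfl
  obtain ⟨s, hs0, hs⟩ : ∃ s : F, s ≠ 0 ∧
      (s * s * B (e (b 0)) (e (b 0)) = 1 ∨ s * s * B (e (b 0)) (e (b 0)) = α) := by
    have h0 := hne 0
    rw [hval] at h0
    by_cases hsq : IsSquare (B (e (b 0)) (e (b 0)))
    · obtain ⟨r, hr⟩ := hsq
      have hr0 : r ≠ 0 := fun h => h0 (by rw [hr, h, mul_zero])
      exact ⟨r⁻¹, inv_ne_zero hr0, Or.inl (by rw [hr]; field_simp)⟩
    · obtain ⟨r, hr⟩ : IsSquare (α * B (e (b 0)) (e (b 0))) := by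
        have hα0 : α ≠ 0 := fun h => hα (h ▸ IsSquare.zero)
        rw [Disc.isSquare_mul_iff hα0 hsq]
        exact hα
      refine ⟨r / B (e (b 0)) (e (b 0)), div_ne_zero (fun h => ?_) h0, Or.inr ?_⟩
      · rw [h, mul_zero] at hr
        exact hα ((mul_eq_zero.1 hr).resolve_right h0 ▸ IsSquare.zero)
      · field_simp
        linear_combination -hr
  let c : Module.Basis (Fin (n + 1)) F V :=
    ((b.isUnitSMul (w := fun i => if i = 0 then s else 1) fun i => by split_ifs <;> simp [hs0]).map e).reindex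
      (Equiv.swap 0 (Fin.last n))
  have hc : ∀ i, c i = (if Equiv.swap 0 (Fin.last n) i = 0 then s else 1) •
      e (b (Equiv.swap 0 (Fin.last n) i)) := fun i => by
    simp only [c, Module.Basis.reindex_apply, Module.Basis.map_apply, Module.Basis.isUnitSMul_apply, map_smul, Equiv.symm_swap]
  refine ⟨c, fun i j hij => ?_, fun i hi => ?_, ?_⟩
  · have := ho _ _ ((Equiv.swap 0 (Fin.last n)).injective.ne hij)
    rw [hpolar] at this
    simp only [hc, map_smul, LinearMap.smul_apply, (mul_eq_zero.1 this).resolve_left h2, smul_zero]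
  · have h1 : Equiv.swap 0 (Fin.last n) i ≠ 0 := fun h => hi (by
      rw [← Equiv.swap_apply_self 0 (Fin.last n) i, h, Equiv.swap_apply_left])
    have := hone _ h1
    rw [hval] at this
    simp [hc, h1, this]
  · simp only [hc, Equiv.swap_apply_right, if_true, map_smul, LinearMap.smul_apply, smul_eq_mul, ← mul_assoc]
    exact hs

end Cfsg.Agent.S0756
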