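import Cfsg.Statements.S0757
import Mathlib

set_option autoImplicit false
open Cfsg

namespace Cfsg.Agent.S0757

/-- The two diagonal forms Σ x_i^2 and Σ_(i<n) x_i^2 + α x_n^2 on F^(n+1), with α a non-square and 2 ≠ 0 in F, are inequivalent quadratic forms (so over a finite field of odd order there are exactly two classes of non-singular symmetric bilinear forms in each dimension). -/
theorem result {F : Type*} [Field F] (h2 : (2 : F) ≠ 0) (n : ℕ) (α : F) (hα : ¬ IsSquare α) : ¬ (QuadraticMap.weightedSumSquares F (fun _ : Fin (n + 1) => (1 : F))).Equivalent (QuadraticMap.weightedSumSquares F (fun i : Fin (n + 1) => if i = Fin.last n then α else (1 : F))) := by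
  rintro ⟨e⟩
  classical
  let w : Fin (n + 1) → F := fun i => if i = Fin.last n then α else 1
  have hp : ∀ (w : Fin (n + 1) → F) x y,
      QuadraticMap.polar (QuadraticMap.weightedSumSquares F w) x y = 2 * ∑ i, w i * (x i * y i) := by
    intro w x y
    simp only [QuadraticMap.polar, QuadraticMap.weightedSumSquares_apply, smul_eq_mul, Pi.add_apply,
      Finset.mul_sum, ← Finset.sum_sub_distrib]
    exact Finset.sum_congr rfl fun i _ => by ring
  obtain ⟨M, hM⟩ : ∃ M : Matrix (Fin (n + 1)) (Fin (n + 1)) F, ∀ x, e x = M.mulVec x :=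
    ⟨LinearMap.toMatrix' e.toLinearEquiv.toLinearMap, fun x => (LinearMap.toMatrix'_mulVec _ _).symm⟩
  have hMM : M.transpose * Matrix.diagonal w * M = 1 := by
    ext i j
    have h1 : QuadraticMap.polar (QuadraticMap.weightedSumSquares F w) (e (Pi.single i 1)) (e (Pi.single j 1)) =
        QuadraticMap.polar (QuadraticMap.weightedSumSquares F fun _ => (1 : F)) (Pi.single i 1) (Pi.single j 1) := by
      simp only [QuadraticMap.polar]
      rw [← map_add e, e.map_app, e.map_app, e.map_app]
    rw [hp, hp, (mul_right_injective₀ h2).eq_iff] at h1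
    rw [Matrix.mul_apply, Matrix.one_apply]
    simp only [Matrix.mul_diagonal, Matrix.transpose_apply]
    simp only [hM, Matrix.mulVec_single_one, Matrix.col_apply, one_mul, Pi.single_apply, mul_ite, mul_one,
      mul_zero, Finset.sum_ite_eq', Finset.mem_univ, if_true] at h1
    rw [← eq_comm] at h1
    calc ∑ k, M k i * w k * M k j = ∑ k, w k * (M k i * M k j) :=
          Finset.sum_congr rfl fun k _ => by ring
      _ = _ := by rw [← h1]; simp [eq_comm]
  have hdet := congrArg Matrix.det hMM
  rw [Matrix.det_mul, Matrix.det_mul, Matrix.det_transpose, Matrix.det_diagonal, Matrix.det_one] at hdet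
  have hw : ∏ i, w i = α := by simp [w, Finset.prod_ite_eq']
  rw [hw] at hdet
  refine hα ⟨M.det⁻¹, ?_⟩
  have hne : M.det ≠ 0 := fun h => by rw [h] at hdet; simp at hdet
  field_simp
  linear_combination hdet

end Cfsg.Agent.S0757
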