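import Cfsg.Statements.S0758
import Mathlib

set_option autoImplicit false
open Cfsg

namespace Cfsg.Agent.S0758

/-- For a finite field F of odd order q and a non-square α: the form x² + y² is isotropic iff q ≡ 1 mod 4, and the form x² + α y² is isotropic iff q ≡ 3 mod 4. -/
theorem result {F : Type*} [Field F] [Fintype F] (h2 : (2 : F) ≠ 0) (α : F) (hα : ¬ IsSquare α) : ((∃ x y : F, (x ≠ 0 ∨ y ≠ 0) ∧ x ^ 2 + y ^ 2 = 0) ↔ Fintype.card F % 4 = 1) ∧ ((∃ x y : F, (x ≠ 0 ∨ y ≠ 0) ∧ x ^ 2 + α * y ^ 2 = 0) ↔ Fintype.card F % 4 = 3) := by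
  classical
  have hchar : ringChar F ≠ 2 := fun e => h2 (by
    haveI := ringChar.of_eq e
    exact CharTwo.two_eq_zero)
  have hodd : Fintype.card F % 2 = 1 := FiniteField.odd_card_of_char_ne_two hchar
  have hmul : IsSquare (-α) ↔ ¬ IsSquare (-1 : F) := by
    have hα0 : α ≠ 0 := fun e => hα (e ▸ ⟨0, (mul_zero 0).symm⟩)
    have hneg : (-1 : F) ≠ 0 := neg_ne_zero.2 one_ne_zero
    rw [← quadraticChar_one_iff_isSquare (neg_ne_zero.2 hα0), ← quadraticChar_one_iff_isSquare hneg,
      show -α = (-1) * α by ring, map_mul, quadraticChar_neg_one_iff_not_isSquare.2 hα]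
    rcases quadraticChar_dichotomy hneg with e | e <;> rw [e] <;> decide
  have hiso : ∀ a : F, (∃ x y : F, (x ≠ 0 ∨ y ≠ 0) ∧ x ^ 2 + a * y ^ 2 = 0) ↔ a = 0 ∨ IsSquare (-a) := by
    intro a
    constructor
    · rintro ⟨x, y, hxy, h⟩
      by_cases hy : y = 0
      · subst hy
        have : x = 0 := by simpa using h
        simp [this] at hxy
      · exact Or.inr ⟨x / y, by field_simp; linear_combination -h⟩
    · rintro (rfl | ⟨r, hr⟩)
      · exact ⟨0, 1, Or.inr one_ne_zero, by ring⟩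
      · exact ⟨r, 1, Or.inr one_ne_zero, by linear_combination -hr⟩
  constructor
  · have h1 := hiso 1
    simp only [one_mul, one_ne_zero, false_or] at h1
    rw [h1, FiniteField.isSquare_neg_one_iff]
    omega
  · rw [hiso α, or_iff_right (fun e : α = 0 => hα (e ▸ ⟨0, (mul_zero 0).symm⟩)), hmul,
      FiniteField.isSquare_neg_one_iff]
    omega

end Cfsg.Agent.S0758
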