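import Cfsg.Statements.S0759
import Mathlib

set_option autoImplicit false
open Cfsg

namespace Cfsg.Agent.S0759

/-- Type of the orthonormal form: over a finite field of odd order q and for m ≥ 1, the quadratic form Σ_(i<2m) x_i² on F^(2m) admits an m-dimensional subspace on which it vanishes identically if and only if it is not the case that q ≡ 3 (mod 4) and m is odd. -/
theorem result {F : Type*} [Field F] [Fintype F] (h2 : (2 : F) ≠ 0) (m : ℕ) (hm : 1 ≤ m) : (∃ W : Submodule F (Fin (2 * m) → F), Module.finrank F W = m ∧ ∀ w ∈ W, ∑ i, w i ^ 2 = 0) ↔ ¬ (Fintype.card F % 4 = 3 ∧ Odd m) := by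
  classical
  have hq : Fintype.card F % 4 = 3 ↔ ¬ IsSquare (-1 : F) := by
    rw [FiniteField.isSquare_neg_one_iff]
    omega
  let ρ : Fin (2 * m) ≃ Fin m ⊕ Fin m := (finCongr (two_mul m)).trans finSumFinEquiv.symm
  let E : (Fin m ⊕ Fin m → F) ≃ₗ[F] (Fin (2 * m) → F) := LinearEquiv.funCongrLeft F F ρ
  have hE : ∀ v, ∑ i, E v i ^ 2 = ∑ s, v s ^ 2 := fun v =>
    Fintype.sum_equiv ρ _ _ fun i => rfl
  rw [hq]
  constructor
  · rintro ⟨W, hWd, hW⟩ ⟨hns, hodd⟩
    obtain ⟨W₀, hW₀⟩ : ∃ W₀, W₀ = W.comap E.toLinearMap := ⟨_, rfl⟩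
    have hd₀ : Module.finrank F W₀ = m := by
      rw [hW₀, Submodule.comap_equiv_eq_map_symm, LinearEquiv.finrank_map_eq, hWd]
    obtain ⟨W₁, hc⟩ := Submodule.exists_isCompl W₀
    have hd₁ : Module.finrank F W₁ = m := by
      have := Submodule.finrank_add_eq_of_isCompl hc
      rw [hd₀, Module.finrank_pi, Fintype.card_sum, Fintype.card_fin] at this
      omega
    let b : Module.Basis (Fin m ⊕ Fin m) F (Fin m ⊕ Fin m → F) :=
      ((Module.finBasisOfFinrankEq F W₀ hd₀).prod (Module.finBasisOfFinrankEq F W₁ hd₁)).map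
        (Submodule.prodEquivOfIsCompl W₀ W₁ hc)
    have hbl : ∀ j, b (Sum.inl j) ∈ W₀ := fun j => by
      simp [b, Submodule.coe_prodEquivOfIsCompl']
    let P := (Pi.basisFun F (Fin m ⊕ Fin m)).toMatrix b
    have hP0 : P.det ≠ 0 := by
      intro h0
      have := congrArg Matrix.det ((Pi.basisFun F (Fin m ⊕ Fin m)).toMatrix_mul_toMatrix_flip b)
      rw [Matrix.det_mul, show (((Pi.basisFun F (Fin m ⊕ Fin m)).toMatrix b)).det = 0 from h0, zero_mul,
        Matrix.det_one] at this
      exact zero_ne_one this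
    have hsq : ∀ x ∈ W₀, ∑ s, x s ^ 2 = 0 := fun x hx => by
      rw [← hE]
      rw [hW₀] at hx
      exact hW _ hx
    have hdot : ∀ j j', ∑ s, b (Sum.inl j) s * b (Sum.inl j') s = 0 := fun j j' => by
      have h := hsq _ (W₀.add_mem (hbl j) (hbl j'))
      simp only [Pi.add_apply, add_sq, Finset.sum_add_distrib, hsq _ (hbl j), hsq _ (hbl j'), mul_assoc,
        ← Finset.mul_sum, zero_add, add_zero] at h
      exact (mul_eq_zero.1 h).resolve_left h2
    obtain ⟨A, hA⟩ : ∃ A : Matrix (Fin m) (Fin m) F, A = (P.transpose * P).toBlocks₁₂ := ⟨_, rfl⟩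
    obtain ⟨C, hC⟩ : ∃ C : Matrix (Fin m) (Fin m) F, C = (P.transpose * P).toBlocks₂₂ := ⟨_, rfl⟩
    have hG : P.transpose * P = Matrix.fromBlocks 0 A A.transpose C := by
      ext s t
      rcases s with j | j <;> rcases t with j' | j'
      · simp [Matrix.mul_apply, P, Module.Basis.toMatrix_apply, hdot, -Fintype.sum_sum_type]
      · simp [hA, Matrix.toBlocks₁₂]
      · simp [hA, Matrix.toBlocks₁₂, Matrix.mul_apply, mul_comm]
      · simp [hC, Matrix.toBlocks₂₂]
    have hsw : (Matrix.fromBlocks 0 1 1 0 : Matrix (Fin m ⊕ Fin m) (Fin m ⊕ Fin m) F).det = (-1) ^ m := by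
      have h := congrArg Matrix.det (show Matrix.fromBlocks 1 1 0 1 *
          (Matrix.fromBlocks 0 1 1 0 : Matrix (Fin m ⊕ Fin m) (Fin m ⊕ Fin m) F) =
          Matrix.fromBlocks 1 1 1 0 by simp [Matrix.fromBlocks_multiply])
      rw [Matrix.det_mul, Matrix.det_fromBlocks_one₁₁, Matrix.det_fromBlocks_one₁₁] at h
      simpa [Matrix.det_neg] using h
    have hdet : (Matrix.fromBlocks 0 A A.transpose C).det * (-1) ^ m = A.det * A.det := by
      rw [← hsw, ← Matrix.det_mul, Matrix.fromBlocks_multiply]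
      simp [Matrix.det_fromBlocks_zero₁₂]
    rw [← hG, Matrix.det_mul, Matrix.det_transpose, hodd.neg_one_pow] at hdet
    refine hns ⟨A.det / P.det, ?_⟩
    field_simp
    linear_combination hdet
  · intro h
    obtain ⟨M, hM⟩ : ∃ M : Matrix (Fin m) (Fin m) F, M.transpose * M = -1 := by
      by_cases hs : IsSquare (-1 : F)
      · obtain ⟨i, hi⟩ := hs
        exact ⟨i • 1, by simp [smul_smul, ← hi]⟩
      · obtain ⟨k, rfl⟩ : ∃ k, m = k + k := Nat.not_odd_iff_even.1 fun ho => h ⟨hs, ho⟩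
        haveI := CharP.char_is_prime F (ringChar F)
        haveI : NeZero (ringChar F) := ⟨this.ne_zero⟩
        obtain ⟨a, b, hab⟩ := CharP.sq_add_sq F (ringChar F) (-1)
        push_cast at hab
        let N : Matrix (Fin k ⊕ Fin k) (Fin k ⊕ Fin k) F :=
          Matrix.fromBlocks ((a : F) • 1) (-(b : F) • 1) ((b : F) • 1) ((a : F) • 1)
        have hN : N.transpose * N = -1 := by
          simp [N, Matrix.fromBlocks_transpose, Matrix.fromBlocks_multiply, smul_smul, ← add_smul,
            ← Matrix.fromBlocks_one, Matrix.fromBlocks_neg, mul_comm (b : F) a]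
          rw [← sq, ← sq, add_comm ((b : F) ^ 2)]
          simp [hab]
        refine ⟨N.submatrix finSumFinEquiv.symm finSumFinEquiv.symm, ?_⟩
        rw [Matrix.transpose_submatrix, Matrix.submatrix_mul_equiv, hN]
        ext i j
        simp [Matrix.one_apply]
    let L : (Fin m → F) →ₗ[F] (Fin (2 * m) → F) :=
      E.toLinearMap ∘ₗ (LinearEquiv.sumArrowLequivProdArrow (Fin m) (Fin m) F F).symm.toLinearMap ∘ₗ
        (LinearMap.id.prod M.mulVecLin)
    refine ⟨LinearMap.range L, ?_, ?_⟩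
    · rw [LinearMap.finrank_range_of_inj, Module.finrank_fin_fun]
      intro x y hxy
      have := E.injective hxy
      funext j
      simpa [LinearEquiv.sumArrowLequivProdArrow] using congrFun this (Sum.inl j)
    · rintro _ ⟨x, rfl⟩
      show ∑ i, E _ i ^ 2 = 0
      rw [hE, Fintype.sum_sum_type]
      show ∑ j, x j ^ 2 + ∑ j, (M.mulVec x) j ^ 2 = 0
      simp only [sq]
      show x ⬝ᵥ x + M.mulVec x ⬝ᵥ M.mulVec x = 0
      rw [Matrix.dotProduct_mulVec, ← Matrix.vecMul_transpose, Matrix.vecMul_vecMul,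
        ← Matrix.dotProduct_mulVec, hM, Matrix.neg_mulVec, Matrix.one_mulVec]
      simp

end Cfsg.Agent.S0759
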