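import Cfsg.Statements.S0760
-- import your own Cfsg.Agent.* helpers here
import Cfsg.Agent.Lib.Forms.Orth


set_option autoImplicit false
open Cfsg

namespace Cfsg.Agent.S0760

/-- Witt index is well defined: if Q is a quadratic form on a finite-dimensional space V over a finite field with non-degenerate polar form, and W₁, W₂ are subspaces on which Q vanishes that are maximal with this property, then W₁ and W₂ have the same dimension, and twice this dimension is at most dim V. -/
theorem result {F V : Type*} [Field F] [Finite F] [AddCommGroup V] [Module F V] [FiniteDimensional F V] (Q : QuadraticForm F V) (hQ : (QuadraticMap.polarBilin Q).Nondegenerate) (W₁ W₂ : Submodule F V) (h₁ : ∀ w ∈ W₁, Q w = 0) (h₂ : ∀ w ∈ W₂, Q w = 0) (hmax₁ : ∀ W : Submodule F V, W₁ ≤ W → (∀ w ∈ W, Q w = 0) → W = W₁) (hmax₂ : ∀ W : Submodule F V, W₂ ≤ W → (∀ w ∈ W, Q w = 0) → W = W₂) : Module.finrank F W₁ = Module.finrank F W₂ ∧ 2 * Module.finrank F W₁ ≤ Module.finrank F V := by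
  have key : ∀ A B : Submodule F V, (∀ w ∈ A, Q w = 0) → (∀ w ∈ B, Q w = 0) →
      (∀ W : Submodule F V, A ≤ W → (∀ w ∈ W, Q w = 0) → W = A) →
      Module.finrank F A ≤ Module.finrank F B → Module.finrank F A = Module.finrank F B := by
    intro A B hA hB hmax hle
    obtain ⟨φ, hφ⟩ : ∃ φ : A →ₗ[F] B, Function.Injective φ := by
      let bA := Module.finBasis F A
      let bB := Module.finBasis F B
      refine ⟨bB.repr.symm.toLinearMap ∘ₗ Finsupp.lmapDomain F F (Fin.castLE hle) ∘ₗ
        bA.repr.toLinearMap, ?_⟩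
      exact bB.repr.symm.injective.comp
        ((Finsupp.mapDomain_injective (Fin.castLE_injective hle)).comp bA.repr.injective)
    obtain ⟨g, hg, hgx⟩ := FormsLib.quad_witt hQ A (B.subtype.comp φ)
      (Subtype.val_injective.comp hφ) (fun a => (hB _ (φ a).2).trans (hA _ a.2).symm)
    have hW := hmax (B.map g.symm.toLinearMap) (fun a ha => ⟨_, (φ ⟨a, ha⟩).2, by
        show g.symm _ = a
        rw [LinearEquiv.symm_apply_eq]
        exact (hgx ⟨a, ha⟩).symm⟩)
      (by
        rintro w ⟨b, hb, rfl⟩
        exact ((FormsLib.oGroup Q).inv_mem hg b).trans (hB b hb))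
    rw [← hW, LinearEquiv.finrank_map_eq]
  have h12 : Module.finrank F W₁ = Module.finrank F W₂ := by
    rcases le_total (Module.finrank F W₁) (Module.finrank F W₂) with h | h
    · exact key W₁ W₂ h₁ h₂ hmax₁ h
    · exact (key W₂ W₁ h₂ h₁ hmax₂ h).symm
  refine ⟨h12, ?_⟩
  have hle : W₁ ≤ LinearMap.BilinForm.orthogonal (QuadraticMap.polarBilin Q) W₁ := by
    intro w hw u hu
    show QuadraticMap.polar Q u w = 0
    rw [QuadraticMap.polar, h₁ _ (W₁.add_mem hu hw), h₁ u hu, h₁ w hw]
    simp
  have h := Submodule.finrank_mono hle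
  rw [LinearMap.BilinForm.finrank_orthogonal hQ] at h
  have := Submodule.finrank_le W₁
  omega

end Cfsg.Agent.S0760
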