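import Cfsg.Statements.S0761
-- import your own Cfsg.Agent.* helpers here
import Cfsg.Agent.Lib.Forms.Witt


set_option autoImplicit false
open Cfsg

namespace Cfsg.Agent.S0761

/-- Hyperbolic partners: let B be a non-degenerate bilinear form on a finite-dimensional space, either alternating, or symmetric with 2 ≠ 0. If Z is a subspace on which B vanishes, x ∉ Z is isotropic and orthogonal to Z, then there is an isotropic y with B x y = 1 which is orthogonal to Z. -/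
theorem result {F V : Type*} [Field F] [AddCommGroup V] [Module F V] [FiniteDimensional F V] (B : LinearMap.BilinForm F V) (hB : B.Nondegenerate) (hform : B.IsAlt ∨ (B.IsSymm ∧ (2 : F) ≠ 0)) (x : V) (Z : Submodule F V) (hxZ : x ∉ Z) (hx : B x x = 0) (hxz : ∀ z ∈ Z, B x z = 0) (hZ : ∀ z ∈ Z, ∀ z' ∈ Z, B z z' = 0) : ∃ y : V, B y y = 0 ∧ B x y = 1 ∧ ∀ z ∈ Z, B z y = 0 := by
  have hT : ∃ ε, FormsLib.IsTraceForm (RingHom.id F) ε B := by
    rcases hform with h | ⟨h, h2⟩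
    · exact ⟨-1, FormsLib.isTraceForm_of_isAlt h hB⟩
    · exact ⟨1, FormsLib.isTraceForm_of_isSymm ⟨fun x y => h.eq x y⟩ hB h2⟩
  obtain ⟨ε, hT⟩ := hT
  obtain ⟨y₀, hy₀Z, hy₀x⟩ := hT.exists_sep hxZ
  let y₁ := ε⁻¹ • y₀
  have hxy₁ : B x y₁ = 1 := by simp [y₁, hT.flip y₀ x, hy₀x, hT.eps_ne_zero]
  have hy₁Z : ∀ z ∈ Z, B z y₁ = 0 := fun z hz => by simp [y₁, hT.flip y₀ z, hy₀Z z hz]
  obtain ⟨t, ht⟩ := hT.trace y₁
  refine ⟨y₁ - (ε * t) • x, ?_, by simp [hxy₁, hx], fun z hz => ?_⟩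
  · simp only [map_sub, map_smul, LinearMap.sub_apply, LinearMap.smul_apply, smul_eq_mul, hx, hxy₁,
      hT.flip x y₁, ht, map_one, RingHom.id_apply]
    have he : ε * ε = 1 := hT.eps
    linear_combination (-t) * he
  · simp [hy₁Z z hz, hT.flip x z, hxz z hz]

end Cfsg.Agent.S0761
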