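import Cfsg.Statements.S0762
import Mathlib

set_option autoImplicit false
open Cfsg

namespace Cfsg.Agent.S0762

/-- In characteristic two over a finite field, a quadratic form on a space of dimension at least 3 vanishes on some non-zero vector. -/
theorem result {F V : Type*} [Field F] [Finite F] [CharP F 2] [AddCommGroup V] [Module F V] [FiniteDimensional F V] (Q : QuadraticForm F V) (h3 : 3 ≤ Module.finrank F V) : ∃ v : V, v ≠ 0 ∧ Q v = 0 := by
  obtain ⟨u, hu⟩ : ∃ u : V, u ≠ 0 := by
    haveI : Nontrivial V := Module.nontrivial_of_finrank_pos (R := F) (by omega)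
    exact exists_ne 0
  by_cases hQu : Q u = 0
  · exact ⟨u, hu, hQu⟩
  let f : V →ₗ[F] F := QuadraticMap.polarBilin Q u
  have hker : 2 ≤ Module.finrank F (LinearMap.ker f) := by
    have h1 := f.finrank_range_add_finrank_ker
    have h2 := (LinearMap.range f).finrank_le
    rw [Module.finrank_self] at h2
    omega
  obtain ⟨w, hw, hwu⟩ : ∃ w ∈ LinearMap.ker f, w ∉ Submodule.span F {u} := by
    by_contra hno
    push Not at hno
    have h1 := Submodule.finrank_mono (show LinearMap.ker f ≤ Submodule.span F {u} from hno)
    rw [finrank_span_singleton hu] at h1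
    omega
  by_cases hQw : Q w = 0
  · exact ⟨w, fun e => hwu (e ▸ zero_mem _), hQw⟩
  have hchar : ringChar F = 2 := ringChar.eq F 2
  obtain ⟨a, ha⟩ := FiniteField.isSquare_of_char_two hchar (Q w)
  obtain ⟨b, hb⟩ := FiniteField.isSquare_of_char_two hchar (Q u)
  refine ⟨a • u + b • w, fun e => hwu ?_, ?_⟩
  · have hb0 : b ≠ 0 := fun e' => hQu (by rw [hb, e', mul_zero])
    have : w = (-b⁻¹ * a) • u := by
      rw [← smul_right_inj hb0, smul_smul, show b * (-b⁻¹ * a) = -a by field_simp, neg_smul]
      exact eq_neg_of_add_eq_zero_right e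
    rw [this]
    exact Submodule.smul_mem _ _ (Submodule.mem_span_singleton_self u)
  · have hp : QuadraticMap.polar Q u w = 0 := hw
    have := QuadraticMap.map_add Q (a • u) (b • w)
    rw [this, QuadraticMap.map_smul, QuadraticMap.map_smul, QuadraticMap.polar_smul_left,
      QuadraticMap.polar_smul_right, hp]
    simp only [smul_eq_mul, mul_zero, add_zero, ha, hb]
    linear_combination (a * a * (b * b)) * (CharTwo.two_eq_zero : (2 : F) = 0)

end Cfsg.Agent.S0762
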