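import Cfsg.Statements.S0763
import Mathlib

set_option autoImplicit false
open Cfsg

namespace Cfsg.Agent.S0763

/-- Binary quadratic forms in characteristic two over a finite field: if Q is a quadratic form on a 2-dimensional space whose polar form is non-degenerate, then either there are vectors v, w with Q v = Q w = 0 and polar value 1 (Q is xy in these coordinates), or there are v, w and μ with Q v = 1, Q w = μ, polar value 1 and x² + x + μ without roots in F (Q is x² + xy + μy²). -/
theorem result {F V : Type*} [Field F] [Finite F] [CharP F 2] [AddCommGroup V] [Module F V] (Q : QuadraticForm F V) (h2 : Module.finrank F V = 2) (hQ : (QuadraticMap.polarBilin Q).Nondegenerate) : (∃ v w : V, LinearIndependent F ![v, w] ∧ Q v = 0 ∧ Q w = 0 ∧ QuadraticMap.polar Q v w = 1) ∨ (∃ (v w : V) (μ : F), LinearIndependent F ![v, w] ∧ (∀ x : F, x ^ 2 + x + μ ≠ 0) ∧ Q v = 1 ∧ Q w = μ ∧ QuadraticMap.polar Q v w = 1) := by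
  classical
  haveI := Fintype.ofFinite F
  haveI : FiniteDimensional F V := Module.finite_of_finrank_pos (R := F) (by omega)
  have self : ∀ v, QuadraticMap.polar Q v v = 0 := fun v => by
    rw [QuadraticMap.polar_self, two_nsmul]
    exact CharTwo.add_self_eq_zero _
  have indep : ∀ v w, QuadraticMap.polar Q v w = 1 → LinearIndependent F ![v, w] := fun v w h => by
    refine LinearIndependent.pair_iff.2 fun s t e => ⟨?_, ?_⟩
    · have := congrArg (fun x => QuadraticMap.polar Q x w) e
      simpa [QuadraticMap.polar_add_left, QuadraticMap.polar_smul_left, h, self] using this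
    · have := congrArg (QuadraticMap.polar Q v) e
      simpa [QuadraticMap.polar_add_right, QuadraticMap.polar_smul_right, h, self] using this
  have partner : ∀ v : V, v ≠ 0 → ∃ w, QuadraticMap.polar Q v w = 1 := fun v hv => by
    obtain ⟨y, hy⟩ : ∃ y, QuadraticMap.polar Q v y ≠ 0 := by
      by_contra hc
      push Not at hc
      exact hv (hQ.1 v hc)
    exact ⟨(QuadraticMap.polar Q v y)⁻¹ • y, by
      rw [QuadraticMap.polar_smul_right, smul_eq_mul, inv_mul_cancel₀ hy]⟩
  by_cases hs : ∃ v, v ≠ 0 ∧ Q v = 0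
  · obtain ⟨v, hv, hQv⟩ := hs
    obtain ⟨w, hw⟩ := partner v hv
    have h1 : QuadraticMap.polar Q v (w + Q w • v) = 1 := by
      rw [QuadraticMap.polar_add_right, QuadraticMap.polar_smul_right, self, smul_zero, add_zero, hw]
    refine Or.inl ⟨v, w + Q w • v, indep _ _ h1, hQv, ?_, h1⟩
    rw [QuadraticMap.map_add Q, QuadraticMap.map_smul, hQv, QuadraticMap.polar_smul_right,
      QuadraticMap.polar_comm Q w v, hw]
    simp [CharTwo.add_self_eq_zero]
  · push Not at hs
    haveI : Nontrivial V := Module.nontrivial_of_finrank_pos (R := F) (by omega)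
    obtain ⟨u, hu⟩ := exists_ne (0 : V)
    obtain ⟨r, hr⟩ := FiniteField.isSquare_of_char_two (ringChar.eq F 2) (Q u)
    have hr0 : r ≠ 0 := fun h => hs u hu (by rw [hr, h, mul_zero])
    have hQv : Q (r⁻¹ • u) = 1 := by
      rw [QuadraticMap.map_smul, hr, smul_eq_mul]
      field_simp
    obtain ⟨v, hv⟩ : ∃ v, v = r⁻¹ • u := ⟨_, rfl⟩
    rw [← hv] at hQv
    obtain ⟨w, hw⟩ := partner v (hv ▸ smul_ne_zero (inv_ne_zero hr0) hu)
    refine Or.inr ⟨v, w, Q w, indep _ _ hw, fun x hx => ?_, hQv, rfl, hw⟩
    refine hs (x • v + w) (fun h0 => ?_) ?_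
    · have := (LinearIndependent.pair_iff.1 (indep _ _ hw)) x 1 (by rw [one_smul, h0])
      exact one_ne_zero this.2
    · rw [QuadraticMap.map_add Q, QuadraticMap.map_smul, hQv, QuadraticMap.polar_smul_left, hw,
        smul_eq_mul, smul_eq_mul]
      linear_combination hx

end Cfsg.Agent.S0763
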