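import Cfsg.Statements.S0767
-- import your own Cfsg.Agent.* helpers here
import Cfsg.Agent.Lib.Forms.Sp


set_option autoImplicit false
open Cfsg
open scoped Matrix

namespace Cfsg.Agent.S0767

/-- The root group of a point: T_v(c) T_v(d) = T_v(c + d), and for A in the symplectic group with A v = a v, the conjugate A T_v(c) A⁻¹ is again some T_v(d). -/
theorem result {F : Type*} [Field F] (m : ℕ) (v : Fin m ⊕ Fin m → F) : (∀ c d : F, Cfsg.sympTransvection m v c * Cfsg.sympTransvection m v d = Cfsg.sympTransvection m v (c + d)) ∧ ∀ (A : Matrix (Fin m ⊕ Fin m) (Fin m ⊕ Fin m) F) (a : F), A ∈ Matrix.symplecticGroup (Fin m) F → A.mulVec v = a • v → ∀ c : F, ∃ d : F, A * Cfsg.sympTransvection m v c * A⁻¹ = Cfsg.sympTransvection m v d := by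
  refine ⟨fun c d => Matrix.ext_iff_mulVec.2 fun x => ?_, fun A a hA hAv c => ⟨a * a * c, ?_⟩⟩
  · simp only [← Matrix.mulVec_mulVec, Cfsg.sympTransvection, FormsLib.sympTransvection_mulVec]
    exact congrArg (fun k : _ ≃ₗ[F] _ => k x) (FormsLib.tau_mul FormsLib.spB_alt v c d)
  · have hdet : IsUnit A.det := SymplecticGroup.symplectic_det hA
    have hA' := (FormsLib.mem_symplectic_iff A).1 hA
    refine Matrix.ext_iff_mulVec.2 fun x => ?_
    simp only [← Matrix.mulVec_mulVec, Cfsg.sympTransvection, FormsLib.sympTransvection_mulVec,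
      FormsLib.tau_apply, Matrix.mulVec_add, Matrix.mulVec_smul, hAv]
    rw [Matrix.mulVec_mulVec x A, Matrix.mul_nonsing_inv A hdet, Matrix.one_mulVec]
    have h1 := hA' (A⁻¹ *ᵥ x) v
    rw [Matrix.mulVec_mulVec x A, Matrix.mul_nonsing_inv A hdet, Matrix.one_mulVec, hAv,
      map_smul, smul_eq_mul] at h1
    rw [← h1]
    module

end Cfsg.Agent.S0767
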