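import Cfsg.Statements.S0768
-- import your own Cfsg.Agent.* helpers here
import Cfsg.Agent.Lib.Forms.SpSimple


set_option autoImplicit false
open scoped LinearAlgebra.Projectivization
open Cfsg
open scoped Matrix

namespace Cfsg.Agent.S0768

/-- Primitivity: for m ≥ 1 and F finite, the symplectic group of the form sympForm (as a subgroup of the general linear group) acts primitively on the projective space of F^(2m). -/
theorem result {F : Type*} [Field F] [Finite F] (m : ℕ) (hm : 1 ≤ m) : MulAction.IsPreprimitive ↥(Cfsg.spGL m F) (ℙ F (Fin m ⊕ Fin m → F)) := by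
  have := FormsLib.spIso_isPreprimitive (m := m) (F := F)
  have he : ∀ (g : FormsLib.SpIso m F) (w : Fin m ⊕ Fin m → F),
      (Matrix.GeneralLinearGroup.toLin.symm (LinearMap.GeneralLinearGroup.ofLinearEquiv g.1) :
        Matrix.GeneralLinearGroup (Fin m ⊕ Fin m) F).1 *ᵥ w = g.1 w :=
    fun g w => LinearMap.toMatrix'_mulVec _ w
  have hmem : ∀ g : FormsLib.SpIso m F,
      Matrix.GeneralLinearGroup.toLin.symm (LinearMap.GeneralLinearGroup.ofLinearEquiv g.1) ∈
        Cfsg.spGL m F := fun g u v => by
    have h := g.2 u v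
    simp only [FormsLib.spB_apply] at h
    show Cfsg.sympForm m F ((Units.val _) *ᵥ u) ((Units.val _) *ᵥ v) = _
    rw [he g u, he g v]
    exact h
  let φ : FormsLib.SpIso m F → Cfsg.spGL m F := fun g => ⟨_, hmem g⟩
  let f : ℙ F (Fin m ⊕ Fin m → F) →ₑ[φ] ℙ F (Fin m ⊕ Fin m → F) :=
    { toFun := id
      map_smul' := fun g p => by
        induction p using Projectivization.ind with
        | _ v hv =>
        rw [FormsLib.sp_smul_mk]
        refine ((Projectivization.mk_eq_mk_iff' F _ _ _ _).2 ⟨1, ?_⟩).symm
        rw [one_smul]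
        exact (he g v).symm }
  exact MulAction.IsPreprimitive.of_surjective (f := f) Function.surjective_id

end Cfsg.Agent.S0768
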