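import Cfsg.Statements.S0769
import Mathlib

set_option autoImplicit false
open Cfsg

namespace Cfsg.Agent.S0769

/-- Order of the Borel subgroup of GL_n(q): the invertible lower-triangular n × n matrices over a field with q elements number q^(n(n-1)/2) (q-1)^n (unitriangular part times the diagonal torus). -/
theorem result {F : Type*} [Field F] [Fintype F] {q : ℕ} (hF : Fintype.card F = q) (n : ℕ) : Nat.card {g : Matrix.GeneralLinearGroup (Fin n) F // ∀ i j : Fin n, i < j → (g : Matrix (Fin n) (Fin n) F) i j = 0} = q ^ (n * (n - 1) / 2) * (q - 1) ^ n := by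
  classical
  subst hF
  let P := {p : Fin n × Fin n // p.2 < p.1}
  let mkM : (Fin n → Fˣ) × (P → F) → Matrix (Fin n) (Fin n) F := fun x =>
    Matrix.of fun i j => if h : j < i then x.2 ⟨(i, j), h⟩ else if i = j then (x.1 i : F) else 0
  have hlow : ∀ x, ∀ i j : Fin n, i < j → mkM x i j = 0 := fun x i j h => by
    simp [mkM, not_lt.2 h.le, h.ne]
  have hbt : ∀ M : Matrix (Fin n) (Fin n) F, (∀ i j : Fin n, i < j → M i j = 0) →
      M.det = ∏ i, M i i := fun M h => Matrix.det_of_lowerTriangular M fun i j hij => h i j hij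
  have hdet : ∀ x, (mkM x).det ≠ 0 := fun x => by
    rw [hbt _ (hlow x)]
    exact Finset.prod_ne_zero_iff.2 fun i _ => by simp [mkM]
  let e : (Fin n → Fˣ) × (P → F) ≃ {g : Matrix.GeneralLinearGroup (Fin n) F //
      ∀ i j : Fin n, i < j → (g : Matrix (Fin n) (Fin n) F) i j = 0} :=
    { toFun := fun x => ⟨Matrix.GeneralLinearGroup.mkOfDetNeZero _ (hdet x), hlow x⟩
      invFun := fun g => (fun i => Units.mk0 ((g.1 : Matrix (Fin n) (Fin n) F) i i) (by
        have h := (Matrix.isUnit_iff_isUnit_det _).1 g.1.isUnit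
        rw [hbt _ g.2] at h
        exact Finset.prod_ne_zero_iff.1 h.ne_zero i (Finset.mem_univ i)),
        fun p => (g.1 : Matrix (Fin n) (Fin n) F) p.1.1 p.1.2)
      left_inv := fun x => by
        refine Prod.ext (funext fun i => Units.ext ?_) (funext fun p => ?_)
        · show mkM x i i = _
          simp [mkM]
        · show mkM x p.1.1 p.1.2 = _
          simp only [mkM, Matrix.of_apply, dif_pos p.2]
          rfl
      right_inv := fun g => by
        refine Subtype.ext (Units.ext (Matrix.ext fun i j => ?_))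
        show mkM _ i j = _
        rcases lt_trichotomy j i with h | h | h
        · simp only [mkM, Matrix.of_apply, dif_pos h]
        · subst h; simp [mkM]
        · rw [hlow _ i j h, g.2 i j h] }
  rw [← Nat.card_congr e, Nat.card_prod, Nat.card_fun, Nat.card_fun, Nat.card_units,
    Nat.card_eq_fintype_card (α := F), Nat.card_fin, mul_comm]
  congr 2
  rw [← Finset.sum_range_id, ← Fin.sum_univ_eq_sum_range,
    Nat.card_congr (show P ≃ Σ i : Fin n, Fin i.val from
      { toFun := fun p => ⟨p.1.1, ⟨p.1.2.val, p.2⟩⟩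
        invFun := fun s => ⟨(s.1, ⟨s.2.val, s.2.isLt.trans s.1.isLt⟩), s.2.isLt⟩
        left_inv := fun p => rfl
        right_inv := fun s => rfl }),
    Nat.card_sigma]
  simp

end Cfsg.Agent.S0769
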