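import Cfsg.Statements.S0770
import Mathlib

set_option autoImplicit false
open Cfsg

namespace Cfsg.Agent.S0770

/-- For a field with at least 3 elements, an invertible matrix normalises the subgroup of invertible diagonal matrices of GL_n if and only if it is monomial (exactly one non-zero entry in each row). -/
theorem result {F : Type*} [Field F] (hF : ∃ a : F, a ≠ 0 ∧ a ≠ 1) (n : ℕ) (g : Matrix.GeneralLinearGroup (Fin n) F) : g ∈ Subgroup.normalizer ((Units.map (Matrix.diagonalRingHom (Fin n) F).toMonoidHom).range : Subgroup (Matrix.GeneralLinearGroup (Fin n) F)) ↔ ∀ i : Fin n, ∃! j : Fin n, (g : Matrix (Fin n) (Fin n) F) i j ≠ 0 := by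
  classical
  obtain ⟨a, ha0, ha1⟩ := hF
  let dia : (Fin n → F)ˣ → Matrix.GeneralLinearGroup (Fin n) F :=
    fun d => Units.map (Matrix.diagonalRingHom (Fin n) F).toMonoidHom d
  have hval : ∀ d, (dia d : Matrix (Fin n) (Fin n) F) = Matrix.diagonal (d : Fin n → F) := fun d => rfl
  constructor
  · intro hg i
    have hex : ∃ j, (g : Matrix (Fin n) (Fin n) F) i j ≠ 0 := by
      by_contra hc
      push Not at hc
      exact (Matrix.GeneralLinearGroup.det g).ne_zero (Matrix.det_eq_zero_of_row_eq_zero i hc)
    obtain ⟨j, hj⟩ := hex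
    refine ⟨j, hj, fun j' hj' => ?_⟩
    by_contra hne
    obtain ⟨d, hd⟩ : ∃ d : (Fin n → F)ˣ, (d : Fin n → F) = fun l => if l = j then a else 1 :=
      ⟨MulEquiv.piUnits.symm fun l => if l = j then Units.mk0 a ha0 else 1, by
        funext l
        show ((if l = j then Units.mk0 a ha0 else 1 : Fˣ) : F) = _
        split_ifs <;> rfl⟩
    obtain ⟨e, he⟩ := (Subgroup.mem_normalizer_iff.1 hg (dia d)).1 ⟨d, rfl⟩
    have h1 : dia e * g = g * dia d := by
      show Units.map _ e * g = _
      rw [he, inv_mul_cancel_right]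
    have h2 := congrArg (fun u : Matrix.GeneralLinearGroup (Fin n) F => (u : Matrix (Fin n) (Fin n) F)) h1
    simp only [Units.val_mul, hval] at h2
    have ej := congrFun (congrFun h2 i) j
    have ej' := congrFun (congrFun h2 i) j'
    rw [Matrix.diagonal_mul, Matrix.mul_diagonal, hd] at ej ej'
    simp only [if_true, if_neg hne, mul_one] at ej ej'
    have ei : (e : Fin n → F) i = 1 := mul_right_cancel₀ hj' (by rw [ej', one_mul])
    rw [ei, one_mul] at ej
    exact ha1 (mul_left_cancel₀ hj (by rw [← ej, mul_one]))
  · intro h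
    choose π hπ hπu using h
    have hzero : ∀ i j, j ≠ π i → (g : Matrix (Fin n) (Fin n) F) i j = 0 := fun i j hne => by
      by_contra hc
      exact hne (hπu i j hc)
    have hbij : Function.Bijective π := by
      refine Finite.surjective_iff_bijective.1 fun j => ?_
      by_contra hc
      push Not at hc
      exact (Matrix.GeneralLinearGroup.det g).ne_zero
        (Matrix.det_eq_zero_of_column_eq_zero j fun i => hzero i j (hc i).symm)
    let p : Equiv.Perm (Fin n) := Equiv.ofBijective π hbij
    let sh : Equiv.Perm (Fin n) → (Fin n → F)ˣ → (Fin n → F)ˣ := fun p d =>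
      MulEquiv.piUnits.symm fun i => MulEquiv.piUnits d (p i)
    have hsh : ∀ p d i, (sh p d : Fin n → F) i = (d : Fin n → F) (p i) := fun p d i => rfl
    have key : ∀ d, g * dia d = dia (sh p d) * g := fun d => by
      refine Units.ext ?_
      ext i j
      simp only [Units.val_mul, hval, Matrix.diagonal_mul, Matrix.mul_diagonal]
      by_cases hj : j = π i
      · rw [hsh, hj, mul_comm]
        rfl
      · rw [hzero i j hj, zero_mul, mul_zero]
    rw [Subgroup.mem_normalizer_iff]
    intro x
    constructor
    · rintro ⟨d, rfl⟩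
      exact ⟨sh p d, (eq_mul_inv_of_mul_eq (key d).symm)⟩
    · rintro ⟨e, he⟩
      refine ⟨sh p⁻¹ e, ?_⟩
      have h1 := key (sh p⁻¹ e)
      have h2 : sh p (sh p⁻¹ e) = e := Units.ext (funext fun i => by simp [hsh])
      rw [h2, show dia e = g * x * g⁻¹ from he, inv_mul_cancel_right] at h1
      exact mul_left_cancel h1

end Cfsg.Agent.S0770
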