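import Cfsg.Statements.S0771
import Cfsg.Agent.Lib.Parab.Coord

set_option autoImplicit false
open Cfsg

namespace Cfsg.Agent.S0771

/-- Maximal parabolic of GL_n(q): the stabiliser of the coordinate subspace spanned by the first k basis vectors has order q^(k(n-k)) · |GL_k(q)| · |GL_(n-k)(q)| (unipotent radical of order q^(k(n-k)) and Levi complement GL_k × GL_(n-k)). -/
theorem result {F : Type*} [Field F] [Fintype F] {q : ℕ} (hF : Fintype.card F = q) (n k : ℕ) (hk : k ≤ n) : Nat.card ↥(Cfsg.stabilizing (Cfsg.glToMat (Fin n) F) {v : Fin n → F | ∀ i : Fin n, k ≤ (i : ℕ) → v i = 0}) = q ^ (k * (n - k)) * (∏ i : Fin k, (q ^ k - q ^ (i : ℕ))) * ∏ i : Fin (n - k), (q ^ (n - k) - q ^ (i : ℕ)) := by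
  classical
  obtain ⟨l, rfl⟩ : ∃ l, n = k + l := ⟨n - k, by omega⟩
  rw [Nat.add_sub_cancel_left, ParabCoord.stab_eq]
  let σ : Fin k ⊕ Fin l ≃ Fin (k + l) := finSumFinEquiv
  let R : Matrix (Fin (k + l)) (Fin (k + l)) F ≃ Matrix (Fin k ⊕ Fin l) (Fin k ⊕ Fin l) F :=
    Matrix.reindex σ.symm σ.symm
  have hRdet : ∀ M, (R M).det = M.det := fun M => Matrix.det_reindex_self σ.symm M
  have hmem : ∀ g : Matrix.GeneralLinearGroup (Fin (k + l)) F,
      g ∈ Cfsg.Geo.subspaceStabilizer (ParabCoord.coordSub (k + l) k F) ↔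
        (R g.1).toBlocks₂₁ = 0 := by
    intro g
    rw [ParabCoord.mem_stab_iff, ← Matrix.ext_iff]
    constructor
    · intro h i j
      exact h _ _ (by simp [σ]) (by simp [σ])
    · intro h i j hi hj
      obtain ⟨i', rfl⟩ : ∃ i', σ (Sum.inr i') = i := ⟨⟨i - k, by omega⟩, Fin.ext (by simp [σ]; omega)⟩
      obtain ⟨j', rfl⟩ : ∃ j', σ (Sum.inl j') = j := ⟨⟨j, hj⟩, Fin.ext (by simp [σ])⟩
      exact h i' j'
  have hblk : ∀ g : ↥(Cfsg.Geo.subspaceStabilizer (ParabCoord.coordSub (k + l) k F)),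
      R g.1.1 = Matrix.fromBlocks (R g.1.1).toBlocks₁₁ (R g.1.1).toBlocks₁₂ 0 (R g.1.1).toBlocks₂₂ := fun g => by
    conv_lhs => rw [← Matrix.fromBlocks_toBlocks (R g.1.1), (hmem g.1).1 g.2]
  have hne : ∀ g : ↥(Cfsg.Geo.subspaceStabilizer (ParabCoord.coordSub (k + l) k F)),
      (R g.1.1).toBlocks₁₁.det ≠ 0 ∧ (R g.1.1).toBlocks₂₂.det ≠ 0 := by
    intro g
    have h1 := hRdet g.1.1
    rw [hblk g, Matrix.det_fromBlocks_zero₂₁] at h1
    rw [← mul_ne_zero_iff, h1]
    exact (Matrix.GeneralLinearGroup.det g.1).ne_zero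
  let e : ↥(Cfsg.Geo.subspaceStabilizer (ParabCoord.coordSub (k + l) k F)) ≃
      Matrix (Fin k) (Fin l) F × Matrix.GeneralLinearGroup (Fin k) F × Matrix.GeneralLinearGroup (Fin l) F :=
    Equiv.ofBijective (fun g => ((R g.1.1).toBlocks₁₂,
      Matrix.GeneralLinearGroup.mkOfDetNeZero _ (hne g).1,
      Matrix.GeneralLinearGroup.mkOfDetNeZero _ (hne g).2)) (by
      constructor
      · intro g h e
        simp only [Prod.mk.injEq, Units.ext_iff] at e
        refine Subtype.ext (Units.ext (R.injective ?_))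
        rw [hblk g, hblk h]
        exact Matrix.fromBlocks_inj.2 ⟨e.2.1, e.1, rfl, e.2.2⟩
      · rintro ⟨B, A, D⟩
        have hd : (R.symm (Matrix.fromBlocks A.1 B 0 D.1)).det ≠ 0 := by
          rw [← hRdet, R.apply_symm_apply, Matrix.det_fromBlocks_zero₂₁]
          exact mul_ne_zero (Matrix.GeneralLinearGroup.det A).ne_zero (Matrix.GeneralLinearGroup.det D).ne_zero
        refine ⟨⟨Matrix.GeneralLinearGroup.mkOfDetNeZero _ hd, (hmem _).2 ?_⟩, ?_⟩
        · show (R (R.symm _)).toBlocks₂₁ = 0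
          rw [R.apply_symm_apply, Matrix.toBlocks_fromBlocks₂₁]
        · refine Prod.ext ?_ (Prod.ext (Units.ext ?_) (Units.ext ?_))
          · show (R (R.symm _)).toBlocks₁₂ = B
            rw [R.apply_symm_apply, Matrix.toBlocks_fromBlocks₁₂]
          · show (R (R.symm _)).toBlocks₁₁ = A.1
            rw [R.apply_symm_apply, Matrix.toBlocks_fromBlocks₁₁]
          · show (R (R.symm _)).toBlocks₂₂ = D.1
            rw [R.apply_symm_apply, Matrix.toBlocks_fromBlocks₂₂])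
  have hM : Nat.card (Matrix (Fin k) (Fin l) F) = q ^ (k * l) := by
    show Nat.card (Fin k → Fin l → F) = _
    rw [Nat.card_fun, Nat.card_fun, Nat.card_fin, Nat.card_fin, Nat.card_eq_fintype_card, hF, ← pow_mul,
      mul_comm]
  rw [Nat.card_congr e, Nat.card_prod, Nat.card_prod, Matrix.card_GL_field, Matrix.card_GL_field, hM, hF,
    mul_assoc]

end Cfsg.Agent.S0771
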