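import Cfsg.Statements.S0772
import Cfsg.Agent.Lib.Parab.Coord

set_option autoImplicit false
open Cfsg

namespace Cfsg.Agent.S0772

/-- Maximal parabolics are maximal: over a finite field, for 0 < k < n the stabiliser in GL_n of the span of the first k coordinate vectors is a maximal proper subgroup. -/
theorem result {F : Type*} [Field F] [Finite F] (n k : ℕ) (hk0 : 0 < k) (hkn : k < n) : IsCoatom (Cfsg.stabilizing (Cfsg.glToMat (Fin n) F) {v : Fin n → F | ∀ i : Fin n, k ≤ (i : ℕ) → v i = 0}) := by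
  classical
  rw [ParabCoord.stab_eq]
  have h0 := ParabCoord.coordSub_ne_bot (F := F) hk0 hkn.le
  have h1 := ParabCoord.coordSub_ne_top (F := F) hkn
  obtain ⟨hlt, hmax⟩ := TransvMax.subspaceSL_maximal h0 h1
  have hdet : ∀ d : Fˣ, ∃ s ∈ Cfsg.Geo.subspaceStabilizer (ParabCoord.coordSub n k F),
      Matrix.GeneralLinearGroup.det s = d := by
    intro d
    have hn0 : 0 < n := by omega
    obtain ⟨D, hD⟩ : ∃ D : Fin n → F, D = fun i => if i = ⟨0, hn0⟩ then (d : F) else 1 := ⟨_, rfl⟩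
    have hprod : ∏ i, D i = d := by simp [hD, Finset.prod_ite_eq']
    obtain ⟨s, hs⟩ : ∃ s : Matrix.GeneralLinearGroup (Fin n) F,
        (s : Matrix (Fin n) (Fin n) F) = Matrix.diagonal D :=
      ⟨Matrix.GeneralLinearGroup.mkOfDetNeZero (Matrix.diagonal D)
        (by rw [Matrix.det_diagonal, hprod]; exact d.ne_zero), rfl⟩
    refine ⟨s, ParabCoord.mem_stab_iff.2 fun i j hi hj => ?_, Units.ext ?_⟩
    · rw [hs, Matrix.diagonal_apply_ne _ (fun e => by rw [e] at hi; omega)]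
    · rw [Matrix.GeneralLinearGroup.val_det_apply, hs, Matrix.det_diagonal, hprod]
  have split : ∀ (K : Subgroup (Matrix.GeneralLinearGroup (Fin n) F)),
      Cfsg.Geo.subspaceStabilizer (ParabCoord.coordSub n k F) ≤ K → ∀ g : Matrix.GeneralLinearGroup (Fin n) F,
      ∃ s ∈ Cfsg.Geo.subspaceStabilizer (ParabCoord.coordSub n k F),
        s⁻¹ * g ∈ Cfsg.Geo.specialLinear (Fin n) F := by
    intro K _ g
    obtain ⟨s, hs, hsd⟩ := hdet (Matrix.GeneralLinearGroup.det g)
    exact ⟨s, hs, by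
      show Matrix.GeneralLinearGroup.det (s⁻¹ * g) = 1
      rw [map_mul, map_inv, hsd, inv_mul_cancel]⟩
  refine ⟨fun h => hlt.ne (by rw [h, top_inf_eq]), fun K hK => ?_⟩
  rw [eq_top_iff]
  intro g _
  rcases hmax (K ⊓ Cfsg.Geo.specialLinear (Fin n) F) (inf_le_inf_right _ hK.le) inf_le_right with e | e
  · exfalso
    obtain ⟨x, hxK, hx⟩ := SetLike.exists_of_lt hK
    obtain ⟨s, hs, hsx⟩ := split K hK.le x
    have h2 : s⁻¹ * x ∈ K ⊓ Cfsg.Geo.specialLinear (Fin n) F := Subgroup.mem_inf.2 ⟨mul_mem (inv_mem (hK.le hs)) hxK, hsx⟩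
    rw [e] at h2
    exact hx (by simpa using mul_mem hs h2.1)
  · obtain ⟨s, hs, hsg⟩ := split K hK.le g
    have h2 : s⁻¹ * g ∈ K ⊓ Cfsg.Geo.specialLinear (Fin n) F := e.symm ▸ hsg
    simpa using mul_mem (hK.le hs) h2.1

end Cfsg.Agent.S0772
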