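import Cfsg.Statements.S0773
import Cfsg.Agent.Lib.Parab.Coord

set_option autoImplicit false
open Cfsg

namespace Cfsg.Agent.S0773

/-- The stabilisers in GL_n(F), F finite, of the coordinate subspaces of dimensions k and n − k are isomorphic groups, but when 2k ≠ n (and 0 < k < n) no element of GL_n conjugates one onto the other. -/
theorem result {F : Type*} [Field F] [Finite F] (n k : ℕ) (hk0 : 0 < k) (hkn : k < n) (h2 : 2 * k ≠ n) : Nonempty (↥(Cfsg.stabilizing (Cfsg.glToMat (Fin n) F) {v : Fin n → F | ∀ i : Fin n, k ≤ (i : ℕ) → v i = 0}) ≃* ↥(Cfsg.stabilizing (Cfsg.glToMat (Fin n) F) {v : Fin n → F | ∀ i : Fin n, n - k ≤ (i : ℕ) → v i = 0})) ∧ ∀ g : Matrix.GeneralLinearGroup (Fin n) F, (Cfsg.stabilizing (Cfsg.glToMat (Fin n) F) {v : Fin n → F | ∀ i : Fin n, k ≤ (i : ℕ) → v i = 0}).map (MulAut.conj g).toMonoidHom ≠ Cfsg.stabilizing (Cfsg.glToMat (Fin n) F) {v : Fin n → F | ∀ i : Fin n, n - k ≤ (i : ℕ) → v i = 0} := by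
  classical
  rw [ParabCoord.stab_eq, ParabCoord.stab_eq]
  refine ⟨⟨((ParabCoord.flipAut n F).subgroupMap _).trans
    (MulEquiv.subgroupCongr (ParabCoord.map_flipAut hkn.le))⟩, fun g hg => ?_⟩
  obtain ⟨U, hU⟩ : ∃ U, U = (ParabCoord.coordSub n k F).map (TransvMax.linOf g).toLinearMap := ⟨_, rfl⟩
  have hdim : Module.finrank F U = k := by
    rw [hU, LinearEquiv.finrank_map_eq, ParabCoord.finrank_coordSub hkn.le]
  have hle : Cfsg.Geo.subspaceStabilizer (ParabCoord.coordSub n (n - k) F) ≤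
      Cfsg.Geo.subspaceStabilizer U := by
    rw [← hg]
    rintro _ ⟨h, hh, rfl⟩
    refine TransvMax.mem_stab_of_le fun v hv => ?_
    rw [hU] at hv ⊢
    obtain ⟨w, hw, rfl⟩ := hv
    refine ⟨(h : Matrix (Fin n) (Fin n) F).mulVec w, (hh w).1 hw, ?_⟩
    show TransvMax.linOf g _ = Matrix.mulVec (g * h * g⁻¹ : Matrix.GeneralLinearGroup (Fin n) F).1 (TransvMax.linOf g w)
    show (g : Matrix (Fin n) (Fin n) F).mulVec _ = Matrix.mulVec _ ((g : Matrix (Fin n) (Fin n) F).mulVec w)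
    rw [Matrix.mulVec_mulVec, Matrix.mulVec_mulVec, ← Units.val_mul, ← Units.val_mul, inv_mul_cancel_right]
  have := ParabCoord.eq_of_stab_le (ParabCoord.coordSub_ne_bot (by omega) (Nat.sub_le n k))
    (fun h => by rw [h, finrank_bot] at hdim; omega)
    (fun h => by rw [h, finrank_top, Module.finrank_fin_fun] at hdim; omega) hle
  rw [this, ParabCoord.finrank_coordSub (Nat.sub_le n k)] at hdim
  omega

end Cfsg.Agent.S0773
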