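import Cfsg.Statements.S0774
import Cfsg.Agent.Lib.Forms.SpParabolic

set_option autoImplicit false
open Cfsg

namespace Cfsg.Agent.S0774

open scoped Matrix

def flagSet (F : Type*) [Field F] (m : ℕ) (k : Fin m) : Set (Fin m ⊕ Fin m → F) :=
  {v | (∀ i : Fin m, (k : ℕ) < (i : ℕ) → v (Sum.inl i) = 0) ∧ ∀ i : Fin m, v (Sum.inr i) = 0}

def flagSub (F : Type*) [Field F] (m : ℕ) (k : Fin m) : Submodule F (Fin m ⊕ Fin m → F) where
  carrier := flagSet F m k
  add_mem' {u v} hu hv := ⟨fun i hi => by simp [hu.1 i hi, hv.1 i hi], fun i => by simp [hu.2 i, hv.2 i]⟩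
  zero_mem' := ⟨fun i _ => rfl, fun i => rfl⟩
  smul_mem' c v hv := ⟨fun i hi => by simp [hv.1 i hi], fun i => by simp [hv.2 i]⟩

theorem tri_det {F : Type*} [Field F] {m : ℕ} (t : Fin m → Fin m ⊕ Fin m → F) (h : ∀ i, t i ∈ flagSet F m i) :
    (Matrix.of fun i j : Fin m => t i (Sum.inl j)).det = ∏ i, t i (Sum.inl i) := by
  rw [Matrix.det_of_isLowerTriangular (M := Matrix.of fun i j : Fin m => t i (Sum.inl j)) (fun i j hij => (h i).1 j hij)]
  rfl

theorem tri_li {F : Type*} [Field F] {m : ℕ} (t : Fin m → Fin m ⊕ Fin m → F) (h : ∀ i, t i ∈ flagSet F m i)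
    (hd : ∀ i, t i (Sum.inl i) ≠ 0) : LinearIndependent F t := by
  have hu : IsUnit (Matrix.of fun i j : Fin m => t i (Sum.inl j)) := by
    rw [Matrix.isUnit_iff_isUnit_det, tri_det t h, isUnit_iff_ne_zero]
    exact Finset.prod_ne_zero_iff.2 fun i _ => hd i
  exact LinearIndependent.of_comp (LinearMap.funLeft F F Sum.inl) (Matrix.linearIndependent_rows_of_isUnit hu)

theorem tri_diag {F : Type*} [Field F] {m : ℕ} (t : Fin m → Fin m ⊕ Fin m → F) (h : ∀ i, t i ∈ flagSet F m i)
    (hl : LinearIndependent F t) (i : Fin m) : t i (Sum.inl i) ≠ 0 := by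
  intro h0
  have hl' : LinearIndependent F fun i => fun j : Fin m => t i (Sum.inl j) := by
    rw [Fintype.linearIndependent_iff] at hl ⊢
    intro g hg
    refine hl g (funext fun l => ?_)
    rcases l with l | l
    · simpa [Finset.sum_apply] using congrFun hg l
    · simp [Finset.sum_apply, (h _).2 l]
  have hd := (Matrix.isUnit_iff_isUnit_det _).1 ((Matrix.linearIndependent_rows_iff_isUnit
    (A := Matrix.of fun i j : Fin m => t i (Sum.inl j))).1 hl')
  rw [tri_det t h, isUnit_iff_ne_zero] at hd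
  exact Finset.prod_ne_zero_iff.1 hd i (Finset.mem_univ i) h0

def rowVec (F : Type*) [Field F] (m : ℕ) (i : Fin m) (p : (Fin (i : ℕ) → F) × Fˣ) : Fin m ⊕ Fin m → F :=
  Sum.elim (fun j => if h : j < i then p.1 ⟨j, h⟩ else if j = i then (p.2 : F) else 0) (fun _ => 0)

theorem rowVec_mem (F : Type*) [Field F] (m : ℕ) (i : Fin m) (p : (Fin (i : ℕ) → F) × Fˣ) :
    rowVec F m i p ∈ flagSet F m i :=
  ⟨fun j hj => by
    have hne : j ≠ i := fun h => by rw [h] at hj; exact lt_irrefl _ hj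
    simp [rowVec, hne, not_lt.2 (show i ≤ j from hj.le)], fun j => by simp [rowVec]⟩

noncomputable def triEquiv (F : Type*) [Field F] (m : ℕ) :
    {t : Cfsg.Agent.FormsLib.SpParabolic.Tup m m F | ∀ i, t.1 i ∈ flagSet F m i} ≃
      ((i : Fin m) → (Fin (i : ℕ) → F) × Fˣ) where
  toFun t i := (fun j => t.1.1 i (Sum.inl ⟨j, j.2.trans i.2⟩),
    Units.mk0 _ (tri_diag t.1.1 t.2 t.1.2.1 i))
  invFun p := ⟨⟨fun i => rowVec F m i (p i),
    tri_li _ (fun i => rowVec_mem F m i (p i)) (fun i => by simp [rowVec]),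
    fun i j => by simp [Cfsg.Agent.FormsLib.spB_expand, rowVec]⟩, fun i => rowVec_mem F m i (p i)⟩
  left_inv t := by
    refine Subtype.ext (Subtype.ext (funext fun i => funext fun l => ?_))
    rcases l with l | l
    · rcases lt_trichotomy l i with hl | hl | hl
      · simp [rowVec, hl]
      · subst hl
        simp [rowVec]
      · simp [rowVec, ne_of_gt hl, not_lt.2 hl.le, (t.2 i).1 l hl]
    · simp [rowVec, (t.2 i).2 l]
  right_inv p := by
    funext i
    refine Prod.ext (funext fun j => ?_) (Units.ext ?_)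
    · simp [rowVec, show (⟨j, j.2.trans i.2⟩ : Fin m) < i from j.2]
    · simp [rowVec]

/-- Borel subgroup of the symplectic group: the elements of Sp_2m(q) stabilising each of the totally isotropic coordinate subspaces ⟨e_0, ..., e_k⟩ (k < m) form a subgroup of order q^(m²) (q − 1)^m. -/
theorem result {F : Type*} [Field F] [Fintype F] {q : ℕ} (hF : Fintype.card F = q) (m : ℕ) : Nat.card ↥(⨅ k : Fin m, Cfsg.stabilizing (Cfsg.spToMat m F) {v : Fin m ⊕ Fin m → F | (∀ i : Fin m, (k : ℕ) < (i : ℕ) → v (Sum.inl i) = 0) ∧ ∀ i : Fin m, v (Sum.inr i) = 0}) = q ^ (m ^ 2) * (q - 1) ^ m := by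
  classical
  subst hF
  set e : Fin m → Fin m ⊕ Fin m → F := fun i => Pi.single (Sum.inl i) 1 with he
  have hW : ∀ (i : Fin m) (v : Fin m ⊕ Fin m → F), v ∈ flagSet F m i ↔
      (∀ j : Fin m, (i : ℕ) < (j : ℕ) → v (Sum.inl j) = 0) ∧ ∀ j : Fin m, v (Sum.inr j) = 0 := fun _ _ => Iff.rfl
  let e₀ : Cfsg.Agent.FormsLib.SpParabolic.Tup m m F := ⟨e, tri_li (F := F) e
    (fun i => ⟨fun j hj => by simp [he, Pi.single_apply]; intro h; rw [h] at hj; exact lt_irrefl _ hj,
      fun j => by simp [he]⟩) (fun i => by simp [he]),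
    fun i j => (Cfsg.Agent.FormsLib.spB_single i j).2.1⟩
  let S : Set (Cfsg.Agent.FormsLib.SpParabolic.Tup m m F) := {t | ∀ i, t.1 i ∈ flagSet F m i}
  let e1 : ↥(⨅ k : Fin m, Cfsg.stabilizing (Cfsg.spToMat m F) (flagSet F m k)) ≃
      {A : Matrix.symplecticGroup (Fin m) F // Cfsg.Agent.FormsLib.SpParabolic.act A e₀ ∈ S} := by
    refine Equiv.subtypeEquivRight fun A => ⟨fun h i => ((Subgroup.mem_iInf.1 h i) _).1 ?_, fun h =>
      Subgroup.mem_iInf.2 fun i => ?_⟩
    · exact ⟨fun j hj => by simp [e₀, he, Pi.single_apply]; intro h; rw [h] at hj; exact lt_irrefl _ hj,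
        fun j => by simp [e₀, he]⟩
    · intro v
      refine Cfsg.Agent.FormsLib.SpParabolic.mem_iff_of_maps_into (A := A) (W := flagSub F m i) (fun v hv => ?_) v
      have hv' : v = ∑ j : Fin m, v (Sum.inl j) • e j := by
        funext l
        rcases l with l | l <;> simp [he, Finset.sum_apply, Pi.single_apply, hv.2]
      rw [hv', Matrix.mulVec_sum]
      refine Submodule.sum_mem _ fun j _ => ?_
      rw [Matrix.mulVec_smul]
      by_cases hj : (i : ℕ) < (j : ℕ)
      · rw [hv.1 j hj, zero_smul]; exact Submodule.zero_mem _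
      · refine Submodule.smul_mem _ _ ?_
        obtain ⟨ha, hb⟩ := h j
        exact ⟨fun l hl => ha l (by omega), hb⟩
  have e2 : Nat.card S = Fintype.card F ^ (m * (m - 1) / 2) * (Fintype.card F - 1) ^ m := by
    rw [Nat.card_congr (triEquiv F m), Nat.card_pi]
    calc ∏ i : Fin m, Nat.card ((Fin (i : ℕ) → F) × Fˣ)
        = ∏ i : Fin m, (Fintype.card F ^ (i : ℕ) * (Fintype.card F - 1)) := by
          refine Finset.prod_congr rfl fun i _ => ?_
          rw [Nat.card_prod, Nat.card_fun, Nat.card_units, Nat.card_eq_fintype_card, Nat.card_fin]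
      _ = _ := by
          rw [Finset.prod_mul_distrib, Finset.prod_const, Finset.card_univ, Fintype.card_fin,
            Fin.prod_univ_eq_prod_range (fun i => Fintype.card F ^ i), Finset.prod_pow_eq_pow_sum,
            Finset.sum_range_id]
  have hfix := Cfsg.Agent.FormsLib.SpParabolic.card_fix_formula e₀
  rw [Nat.sub_self, Finset.range_zero, Finset.prod_empty, mul_one] at hfix
  show Nat.card ↥(⨅ k : Fin m, Cfsg.stabilizing (Cfsg.spToMat m F) (flagSet F m k)) = _
  rw [Nat.card_congr e1, Cfsg.Agent.FormsLib.SpParabolic.card_image_mem, e2, mul_right_comm, hfix]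

end Cfsg.Agent.S0774
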