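import Cfsg.Statements.S0775
import Cfsg.Agent.Lib.Forms.SpParabolic

set_option autoImplicit false
open Cfsg

namespace Cfsg.Agent.S0775

open scoped Matrix

/-- Maximal parabolics of the symplectic group: if W is a k-dimensional subspace of F^(2m) on which the symplectic form vanishes identically, its stabiliser in Sp_2m(q) has order q^(k(k+1)/2 + 2k(m−k)) · |Sp_(2m−2k)(q)| · |GL_k(q)|. -/
theorem result {F : Type*} [Field F] [Fintype F] {q : ℕ} (hF : Fintype.card F = q) (m k : ℕ) (hk : k ≤ m) (W : Submodule F (Fin m ⊕ Fin m → F)) (hWk : Module.finrank F W = k) (hW : ∀ u ∈ W, ∀ v ∈ W, Cfsg.sympForm m F u v = 0) : Nat.card ↥(Cfsg.stabilizing (Cfsg.spToMat m F) (W : Set (Fin m ⊕ Fin m → F))) = q ^ (k * (k + 1) / 2 + 2 * k * (m - k)) * (q ^ ((m - k) ^ 2) * ∏ i ∈ Finset.range (m - k), (q ^ (2 * (i + 1)) - 1)) * ∏ i : Fin k, (q ^ k - q ^ (i : ℕ)) := by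
  classical
  have hW' : ∀ u ∈ W, ∀ v ∈ W, Cfsg.Agent.FormsLib.spB m F u v = 0 := fun u hu v hv => by
    rw [Cfsg.Agent.FormsLib.spB_apply]; exact hW u hu v hv
  have h := Cfsg.Agent.FormsLib.SpParabolic.card_stab W hWk hW'
  rw [hF] at h
  have he : Nat.card ↥(Cfsg.stabilizing (Cfsg.spToMat m F) (W : Set (Fin m ⊕ Fin m → F))) =
      Nat.card {A : Matrix.symplecticGroup (Fin m) F // ∀ v, v ∈ W ↔ A.1 *ᵥ v ∈ W} := rfl
  rw [he]
  have hq : 0 < q := hF ▸ Fintype.card_pos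
  apply Nat.eq_of_mul_eq_mul_left (pow_pos hq (k * (k - 1) / 2))
  rw [h]
  have hexp : k * (k - 1) / 2 + (k * (k + 1) / 2 + 2 * k * (m - k)) + (m - k) ^ 2 = m ^ 2 := by
    obtain ⟨d, rfl⟩ := Nat.le.dest hk
    have h2 : k * (k - 1) / 2 + k * (k + 1) / 2 = k * k := by
      rcases Nat.eq_zero_or_pos k with rfl | hkpos
      · simp
      · obtain ⟨j, rfl⟩ : ∃ j, k = j + 1 := ⟨k - 1, by omega⟩
        rw [Nat.add_sub_cancel, show (j + 1) * (j + 1 + 1) = (j + 1) * j + (j + 1) * 2 by ring,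
          Nat.add_mul_div_right _ _ two_pos]
        have := Nat.two_mul_div_two_of_even (Nat.even_mul_succ_self j)
        have h3 : (j + 1) * j = j * (j + 1) := mul_comm _ _
        rw [h3]
        have h4 : (j + 1) * (j + 1) = j * (j + 1) + (j + 1) := by ring
        omega
    rw [Nat.add_sub_cancel_left]
    calc k * (k - 1) / 2 + (k * (k + 1) / 2 + 2 * k * d) + d ^ 2
        = (k * (k - 1) / 2 + k * (k + 1) / 2) + 2 * k * d + d ^ 2 := by ring
      _ = (k + d) ^ 2 := by rw [h2]; ring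
  rw [← hexp, pow_add, pow_add, pow_add]
  ring

end Cfsg.Agent.S0775
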