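import Cfsg.Statements.S0776
import Cfsg.Agent.Lib.Forms.Models

set_option autoImplicit false
open Cfsg

namespace Cfsg.Agent.S0776

/-- If W ≤ F^(2m) is a 2k-dimensional subspace on which the symplectic form is non-degenerate, then the stabiliser of W in Sp_2m(F) is isomorphic to Sp_2k(F) × Sp_(2m−2k)(F). -/
theorem result {F : Type*} [Field F] (m k : ℕ) (hk : k ≤ m) (W : Submodule F (Fin m ⊕ Fin m → F)) (hWk : Module.finrank F W = 2 * k) (hW : ∀ u ∈ W, (∀ v ∈ W, Cfsg.sympForm m F u v = 0) → u = 0) : Nonempty (↥(Cfsg.stabilizing (Cfsg.spToMat m F) (W : Set (Fin m ⊕ Fin m → F))) ≃* Matrix.symplecticGroup (Fin k) F × Matrix.symplecticGroup (Fin (m - k)) F) := by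
  classical
  obtain ⟨B, hB⟩ : ∃ B, B = FormsLib.spB m F := ⟨_, rfl⟩
  have happ : ∀ u v, B u v = Cfsg.sympForm m F u v := fun u v => by rw [hB, FormsLib.spB_apply]; rfl
  have hA : LinearMap.IsAlt B := hB ▸ FormsLib.spB_alt
  have hrefl : ∀ x y, B x y = 0 → B y x = 0 := fun x y h => by rw [FormsLib.alt_swap hA, h, neg_zero]
  have hW' : ∀ u ∈ W, (∀ v ∈ W, B u v = 0) → u = 0 := fun u hu h =>
    hW u hu fun v hv => by rw [← happ]; exact h v hv
  obtain ⟨e⟩ := FormModel.exists_stab_prod hrefl hW'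
  have hc := FormModel.isCompl_perp hrefl hW'
  have hP : Module.finrank F (FormModel.perp B W) = 2 * (m - k) := by
    have := Submodule.finrank_add_eq_of_isCompl hc
    rw [hWk, Module.finrank_pi, Fintype.card_sum, Fintype.card_fin] at this
    omega
  have hndP : ∀ u : FormModel.perp B W, (∀ v, FormModel.restr B (FormModel.perp B W) u v = 0) → u = 0 := by
    intro u hu
    refine Subtype.ext ((FormsLib.spB_nondeg (m := m) (F := F)).1 u.1 fun v => ?_)
    rw [← hB]
    obtain ⟨a, ha, b, hb, rfl⟩ := Submodule.mem_sup.1 (hc.sup_eq_top ▸ Submodule.mem_top (x := v))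
    have h1 : B u.1 b = 0 := hu ⟨b, hb⟩
    rw [map_add, hrefl _ _ (u.2 a ha), h1, add_zero]
  obtain ⟨eW⟩ := FormModel.exists_symp_equiv (B := FormModel.restr B W) (fun x => hA x.1)
    (fun u h => Subtype.ext (hW' u.1 u.2 fun v hv => h ⟨v, hv⟩)) hWk
  obtain ⟨eP⟩ := FormModel.exists_symp_equiv (B := FormModel.restr B (FormModel.perp B W)) (fun x => hA x.1)
    hndP hP
  let E : Matrix.symplecticGroup (Fin m) F ≃* ↥(FormModel.isoSub B) :=
    (FormsLib.spEquiv m F).trans (MulEquiv.subgroupCongr (by rw [hB]; rfl))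
  have hS : (Cfsg.stabilizing (Cfsg.spToMat m F) (W : Set (Fin m ⊕ Fin m → F))).map E.toMonoidHom =
      (FormModel.stabSub W).subgroupOf (FormModel.isoSub B) := by
    ext g
    obtain ⟨A, rfl⟩ := E.surjective g
    rw [Subgroup.mem_map_equiv, MulEquiv.symm_apply_apply, Subgroup.mem_subgroupOf]
    rfl
  exact ⟨((E.subgroupMap _).trans (MulEquiv.subgroupCongr hS)).trans
    ((((MulEquiv.subgroupCongr (Subgroup.inf_subgroupOf_right _ _).symm).trans
      (Subgroup.subgroupOfEquivOfLe inf_le_right))).trans (e.trans (eW.prodCongr eP)))⟩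

end Cfsg.Agent.S0776
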