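import Cfsg.Statements.S0777
import Cfsg.Agent.Lib.Forms.SpParabolic

set_option autoImplicit false
open Cfsg

namespace Cfsg.Agent.S0777

open scoped Matrix

section
variable (F : Type*) [Field F] (m : ℕ)

local notation "Sp" => Matrix.symplecticGroup (Fin m) F
local notation "V" => Fin m ⊕ Fin m → F
local notation "I" => Fin m ⊕ Fin m

/-- The diagonal torus. -/
def torus : Subgroup Sp :=
  ⨅ i : I, Cfsg.stabilizing (Cfsg.spToMat m F) ((Submodule.span F {(Pi.single i (1 : F) : V)} : Submodule F V) : Set V)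

theorem mem_torus [Finite F] {A : Sp} : A ∈ torus F m ↔ ∀ a : I, ∃ d : F, A.1 *ᵥ Pi.single a 1 = d • Pi.single a 1 := by
  rw [torus, Subgroup.mem_iInf]
  refine forall_congr' fun a => ⟨fun h => ?_, fun h v => ?_⟩
  · obtain ⟨d, hd⟩ := Submodule.mem_span_singleton.1 ((h _).1 (Submodule.mem_span_singleton_self _))
    exact ⟨d, hd.symm⟩
  · obtain ⟨d, hd⟩ := h
    refine Cfsg.Agent.FormsLib.SpParabolic.mem_iff_of_maps_into (A := A) (fun v hv => ?_) v
    obtain ⟨c, rfl⟩ := Submodule.mem_span_singleton.1 hv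
    rw [Matrix.mulVec_smul, hd]
    exact Submodule.smul_mem _ _ (Submodule.smul_mem _ _ (Submodule.mem_span_singleton_self _))

variable {F m}

theorem spB_basis (a b : I) : Cfsg.Agent.FormsLib.spB m F (Pi.single a 1) (Pi.single b 1) =
    Matrix.J (Fin m) F a b := by
  rw [Cfsg.Agent.FormsLib.spB_apply, Matrix.mulVec_single_one, single_dotProduct, one_mul, Matrix.col_apply]

/-- Image of a coordinate axis under a signed permutation. -/
def img (p : Equiv.Perm (Fin m)) (s : Fin m → Bool) : I → I
  | Sum.inl i => if s i then Sum.inr (p i) else Sum.inl (p i)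
  | Sum.inr i => if s i then Sum.inl (p i) else Sum.inr (p i)

/-- Coefficient of a monomial element. -/
def coef (s : Fin m → Bool) (c : Fin m → Fˣ) : I → F
  | Sum.inl i => (c i : F)
  | Sum.inr i => (if s i then -1 else 1) * ((c i)⁻¹ : Fˣ)

theorem img_inj (p : Equiv.Perm (Fin m)) (s : Fin m → Bool) : Function.Injective (img p s) := by
  rintro (i | i) (k | k) h <;> cases hi : s i <;> cases hk : s k <;> simp [img, hi, hk] at h <;>
    first
      | (subst h; simp_all)
      | exact absurd h (by simp)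

theorem coef_ne (s : Fin m → Bool) (c : Fin m → Fˣ) (a : I) : coef s c a ≠ 0 := by
  rcases a with i | i
  · simp [coef]
  · cases hi : s i <;> simp [coef, hi]

/-- A monomial matrix. -/
def mono (p : Equiv.Perm (Fin m)) (s : Fin m → Bool) (c : Fin m → Fˣ) : Matrix I I F :=
  Matrix.of fun l a => (Pi.single (img p s a) (coef s c a) : V) l

theorem mono_mulVec (p : Equiv.Perm (Fin m)) (s : Fin m → Bool) (c : Fin m → Fˣ) (a : I) :
    mono p s c *ᵥ Pi.single a 1 = coef s c a • Pi.single (img p s a) 1 := by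
  rw [Matrix.mulVec_single_one]
  funext l
  simp [mono, Pi.single_apply]

theorem mono_mem (p : Equiv.Perm (Fin m)) (s : Fin m → Bool) (c : Fin m → Fˣ) : mono p s c ∈ Sp := by
  rw [Cfsg.Agent.FormsLib.mem_symplectic_iff]
  intro u v
  have h : (Cfsg.Agent.FormsLib.spB m F).compl₁₂ (Matrix.mulVecLin (mono p s c)) (Matrix.mulVecLin (mono p s c)) =
      Cfsg.Agent.FormsLib.spB m F := by
    refine LinearMap.ext_basis (Pi.basisFun F I) (Pi.basisFun F I) fun a b => ?_
    simp only [LinearMap.compl₁₂_apply, Pi.basisFun_apply, Matrix.mulVecLin_apply, mono_mulVec, map_smul,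
      LinearMap.smul_apply, spB_basis, smul_eq_mul]
    rcases a with i | i <;> rcases b with k | k <;> rcases eq_or_ne i k with h | h
    all_goals
      first
        | (subst h; cases hi : s i <;> simp [img, coef, hi, Matrix.J])
        | (have hp : p i ≠ p k := fun e => h (p.injective e)
           cases hi : s i <;> cases hk : s k <;> simp [img, coef, hi, hk, Matrix.J, h, hp])
  exact congrArg (fun f => f u v) h

/-- The monomial element. -/
def monoSp (x : Equiv.Perm (Fin m) × (Fin m → Bool) × (Fin m → Fˣ)) : Sp :=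
  ⟨mono x.1 x.2.1 x.2.2, mono_mem x.1 x.2.1 x.2.2⟩

theorem monoSp_mem [Finite F] (x : Equiv.Perm (Fin m) × (Fin m → Bool) × (Fin m → Fˣ)) :
    monoSp x ∈ Subgroup.normalizer (torus F m : Set Sp) := by
  refine Subgroup.mem_normalizer_iff.2 fun h => ?_
  rw [mem_torus, mem_torus]
  have hbij := Finite.injective_iff_bijective.1 (img_inj x.1 x.2.1)
  have key : ∀ a : I, (monoSp x * h * (monoSp x)⁻¹).1 *ᵥ Pi.single (img x.1 x.2.1 a) 1 =
      (coef x.2.1 x.2.2 a)⁻¹ • ((monoSp x).1 *ᵥ (h.1 *ᵥ Pi.single a 1)) := by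
    intro a
    have h1 : (Pi.single (img x.1 x.2.1 a) 1 : V) =
        (coef x.2.1 x.2.2 a)⁻¹ • ((monoSp x).1 *ᵥ Pi.single a 1) := by
      show _ = _ • (mono _ _ _ *ᵥ _)
      rw [mono_mulVec, smul_smul, inv_mul_cancel₀ (coef_ne _ _ a), one_smul]
    conv_lhs => rw [h1]
    rw [Submonoid.coe_mul, Submonoid.coe_mul, Matrix.mulVec_smul, ← Matrix.mulVec_mulVec,
      Cfsg.Agent.FormsLib.SpParabolic.mulVec_inv_mulVec, Matrix.mulVec_mulVec]
  have hmv : ∀ a : I, (monoSp x).1 *ᵥ Pi.single a 1 = coef x.2.1 x.2.2 a • Pi.single (img x.1 x.2.1 a) 1 :=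
    fun a => mono_mulVec _ _ _ a
  constructor
  · intro ht b
    obtain ⟨a, rfl⟩ := hbij.2 b
    obtain ⟨d, hd⟩ := ht a
    refine ⟨d, ?_⟩
    rw [key, hd, Matrix.mulVec_smul, hmv, smul_smul, smul_smul]
    congr 1
    field_simp [coef_ne x.2.1 x.2.2 a]
  · intro ht a
    obtain ⟨d, hd⟩ := ht (img x.1 x.2.1 a)
    refine ⟨d, Cfsg.Agent.FormsLib.SpParabolic.mulVec_injective (monoSp x) ?_⟩
    rw [key, inv_smul_eq_iff₀ (coef_ne _ _ a)] at hd
    show (monoSp x).1 *ᵥ (h.1 *ᵥ Pi.single a 1) = (monoSp x).1 *ᵥ (d • Pi.single a 1)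
    rw [hd, Matrix.mulVec_smul, hmv, smul_smul, smul_smul, mul_comm]

variable (F m)

def toN [Finite F] (x : Equiv.Perm (Fin m) × (Fin m → Bool) × (Fin m → Fˣ)) :
    ↥(Subgroup.normalizer (torus F m : Set Sp)) :=
  ⟨monoSp x, monoSp_mem x⟩

omit [Field F] in
theorem single_smul_eq {F : Type*} [Field F] {ι : Type*} [DecidableEq ι] {a b : ι} {c d : F} (hc : c ≠ 0)
    (h : c • (Pi.single a 1 : ι → F) = d • Pi.single b 1) : a = b ∧ c = d := by
  have h1 := congrFun h a
  rcases eq_or_ne a b with rfl | hab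
  · simp at h1
    exact ⟨rfl, h1⟩
  · simp [hab] at h1
    exact absurd h1 hc

theorem toN_inj [Finite F] : Function.Injective (toN F m) := by
  rintro ⟨p, s, c⟩ ⟨p', s', c'⟩ h
  have hm : mono p s c = mono p' s' c' := congrArg (fun y : ↥(Subgroup.normalizer (torus F m : Set Sp)) => (y : Sp).1) h
  have key : ∀ i, (p i = p' i ∧ s i = s' i) ∧ c i = c' i := by
    intro i
    have h1 := congrArg (fun M : Matrix I I F => M *ᵥ Pi.single (Sum.inl i) 1) hm
    simp only [mono_mulVec] at h1
    obtain ⟨h2, h3⟩ := single_smul_eq (coef_ne s c _) h1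
    refine ⟨?_, Units.ext (by simpa [coef] using h3)⟩
    cases hi : s i <;> cases hi' : s' i <;> simp [img, hi, hi'] at h2 ⊢ <;> exact h2
  exact Prod.ext (Equiv.ext fun i => (key i).1.1) (Prod.ext (funext fun i => (key i).1.2) (funext fun i => (key i).2))

theorem toN_surj [Finite F] (u : Fˣ) (hu : (u : F) ^ 2 ≠ 1) : Function.Surjective (toN F m) := by
  rintro ⟨A, hA⟩
  have hax : ∀ a : I, ∃ (b : I) (c : F), c ≠ 0 ∧ A.1 *ᵥ Pi.single a 1 = c • Pi.single b 1 := by
    intro a
    set v : V := A.1 *ᵥ Pi.single a 1 with hv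
    have hsep : ∀ (i : Fin m) (l l' : I), (l = Sum.inl i ∨ l = Sum.inr i) → l ≠ l' → v l ≠ 0 → v l' = 0 := by
      intro i l l' hl hll hvl
      let c : Fin m → Fˣ := Function.update (fun _ => 1) i u
      set t : Sp := monoSp (1, (fun _ => false), c) with ht
      have hte : ∀ b : I, t.1 *ᵥ Pi.single b 1 = coef (fun _ => false) c b • Pi.single b 1 := by
        intro b
        show mono _ _ _ *ᵥ _ = _
        rw [mono_mulVec]
        rcases b with k | k <;> simp [img]
      have htm : t ∈ torus F m := (mem_torus F m).2 fun b => ⟨_, hte b⟩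
      have htm' : A⁻¹ * t * A ∈ torus F m := ((Subgroup.mem_normalizer_iff'').1 hA t).1 htm
      obtain ⟨d, hd⟩ := (mem_torus F m).1 htm' a
      have hd' : t.1 *ᵥ v = d • v := by
        have h1 := congrArg (fun w => A.1 *ᵥ w) hd
        simp only [Submonoid.coe_mul, ← Matrix.mulVec_mulVec, Matrix.mulVec_smul] at h1
        rw [Matrix.mulVec_mulVec (M := A.1) (N := (A⁻¹ : Sp).1), ← Submonoid.coe_mul, mul_inv_cancel,
          Submonoid.coe_one, Matrix.one_mulVec] at h1
        exact h1
      have hcoord : ∀ b : I, (t.1 *ᵥ v) b = coef (fun _ => false) c b * v b := by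
        intro b
        have hsum : v = ∑ k, v k • (Pi.single k 1 : V) := by
          funext k; simp [Finset.sum_apply, Pi.single_apply]
        conv_lhs => rw [hsum, Matrix.mulVec_sum]
        simp [Matrix.mulVec_smul, hte, Finset.sum_apply, Pi.single_apply, mul_comm]
      have hl1 : coef (fun _ => false) c l = d := by
        refine mul_right_cancel₀ hvl ((hcoord l).symm.trans ?_)
        rw [hd']; rfl
      by_contra hvl'
      have hl2 : coef (fun _ => false) c l' = d := by
        refine mul_right_cancel₀ hvl' ((hcoord l').symm.trans ?_)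
        rw [hd']; rfl
      rw [← hl1] at hl2
      have hu1 : (u : F) ≠ 1 := fun h => hu (by rw [h, one_pow])
      have hu2 : (u : F) ≠ ((u⁻¹ : Fˣ) : F) := fun h => hu (by
        rw [pow_two]; nth_rw 2 [h]; exact u.mul_inv)
      have hu3 : ((u⁻¹ : Fˣ) : F) ≠ 1 := fun h => hu1 (by
        have := u.mul_inv; rw [h, mul_one] at this; exact this)
      rcases hl with rfl | rfl <;> rcases l' with k | k <;> rcases eq_or_ne k i with hk | hk
      all_goals first
        | (subst hk; exact hll rfl)
        | (subst hk; simp [coef, c] at hl2; first | exact hu2 hl2 | exact hu2 hl2.symm | exact hu2 (by simpa using hl2) | exact hu2 (by simpa using hl2.symm))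
        | (simp [coef, c, hk] at hl2; first | exact hu1 hl2 | exact hu1 hl2.symm | exact hu3 (by simpa using hl2) | exact hu3 (by simpa using hl2.symm))
    obtain ⟨b, hb⟩ : ∃ b, v b ≠ 0 := by
      by_contra hcon
      push Not at hcon
      have : (Pi.single a 1 : V) = 0 := Cfsg.Agent.FormsLib.SpParabolic.mulVec_injective A
        (show A.1 *ᵥ Pi.single a 1 = A.1 *ᵥ 0 by rw [Matrix.mulVec_zero]; exact funext hcon)
      simpa using congrFun this a
    refine ⟨b, v b, hb, funext fun l => ?_⟩
    rcases eq_or_ne l b with rfl | hlb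
    · simp [hv]
    · have h0 : v l = 0 := by
        rcases b with i | i
        · exact hsep i _ l (Or.inl rfl) hlb.symm hb
        · exact hsep i _ l (Or.inr rfl) hlb.symm hb
      simp [hlb, h0]
  choose b c hc hbc using hax
  have hbinj : Function.Injective b := by
    intro a a' h
    have h1 : (c a' • Pi.single a 1 : V) = c a • Pi.single a' 1 := by
      apply Cfsg.Agent.FormsLib.SpParabolic.mulVec_injective A
      show A.1 *ᵥ (c a' • Pi.single a 1) = A.1 *ᵥ (c a • Pi.single a' 1)
      rw [Matrix.mulVec_smul, Matrix.mulVec_smul, hbc, hbc, h, smul_smul, smul_smul, mul_comm]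
    exact (single_smul_eq (hc a') h1).1
  have hpair : ∀ i, c (Sum.inr i) * c (Sum.inl i) * Matrix.J (Fin m) F (b (Sum.inr i)) (b (Sum.inl i)) = 1 := by
    intro i
    have h := Cfsg.Agent.FormsLib.SpParabolic.sp_pres A (Pi.single (Sum.inr i) 1) (Pi.single (Sum.inl i) 1)
    rw [hbc, hbc, (Cfsg.Agent.FormsLib.spB_single i i).1, if_pos rfl] at h
    simp only [map_smul, LinearMap.smul_apply, spB_basis, smul_eq_mul] at h
    linear_combination h
  let s : Fin m → Bool := fun i => (b (Sum.inl i)).isRight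
  let p0 : Fin m → Fin m := fun i => Sum.elim id id (b (Sum.inl i))
  have hopp : ∀ i, b (Sum.inr i) = if s i then Sum.inl (p0 i) else Sum.inr (p0 i) := by
    intro i
    have h := hpair i
    rcases hl : b (Sum.inl i) with k | k <;> rcases hr : b (Sum.inr i) with l | l <;>
      simp only [hl, hr, Matrix.J, Matrix.fromBlocks_apply₁₁, Matrix.fromBlocks_apply₁₂,
        Matrix.fromBlocks_apply₂₁, Matrix.fromBlocks_apply₂₂, Matrix.zero_apply, mul_zero, zero_ne_one] at h
    all_goals
      rcases eq_or_ne l k with e | e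
      · simp [s, p0, hl, e]
      · simp [Matrix.one_apply_ne e] at h
  have hp : Function.Injective p0 := by
    intro i k h
    have hi : b (Sum.inl i) = (if s i then Sum.inr (p0 i) else Sum.inl (p0 i)) := by
      rcases hl : b (Sum.inl i) with x | x <;> simp [s, p0, hl]
    have hk : b (Sum.inl k) = (if s k then Sum.inr (p0 k) else Sum.inl (p0 k)) := by
      rcases hl : b (Sum.inl k) with x | x <;> simp [s, p0, hl]
    by_cases hs : s i = s k
    · exact Sum.inl_injective (hbinj (hi.trans (by rw [hs, h, ← hk])))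
    · have h2 : b (Sum.inl i) = b (Sum.inr k) := by
        rw [hi, hopp k, h]
        cases h1 : s i <;> cases h2 : s k <;> simp_all
      exact absurd (hbinj h2) (by simp)
  let p : Equiv.Perm (Fin m) := Equiv.ofBijective p0 (Finite.injective_iff_bijective.1 hp)
  let cu : Fin m → Fˣ := fun i => Units.mk0 (c (Sum.inl i)) (hc _)
  refine ⟨(p, s, cu), Subtype.ext (Subtype.ext ?_)⟩
  show mono p s cu = A.1
  refine Matrix.ext fun l a => ?_
  have hcol : mono p s cu *ᵥ Pi.single a 1 = A.1 *ᵥ Pi.single a 1 := by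
    rw [mono_mulVec, hbc]
    have himg : img p s a = b a := by
      rcases a with i | i
      · rcases hl : b (Sum.inl i) with x | x <;> simp [img, s, p, p0, hl]
      · rw [hopp i]; simp [img, p]
    rw [himg]
    congr 1
    rcases a with i | i
    · simp [coef, cu]
    · have h := hpair i
      rw [hopp i] at h
      rcases hl : b (Sum.inl i) with x | x <;> simp [s, p0, hl, Matrix.J] at h <;>
        simp [coef, s, cu, hl] <;> field_simp [hc (Sum.inl i)] <;> first | linear_combination -h | linear_combination h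
  simpa [Matrix.mulVec_single_one] using congrFun hcol l

end

/-- Weyl group of type C_m: for q ≥ 4 the diagonal matrices of Sp_2m(q) form a torus T ≅ (C_(q−1))^m (the elements stabilising every coordinate axis), and the normaliser of T in Sp_2m(q) has order 2^m · m! · (q − 1)^m. -/
theorem result {F : Type*} [Field F] [Fintype F] {q : ℕ} (hF : Fintype.card F = q) (hq : 4 ≤ q) (m : ℕ) : Nat.card ↥(Subgroup.normalizer (⨅ i : Fin m ⊕ Fin m, Cfsg.stabilizing (Cfsg.spToMat m F) ((Submodule.span F {(Pi.single i (1 : F) : Fin m ⊕ Fin m → F)} : Submodule F (Fin m ⊕ Fin m → F)) : Set (Fin m ⊕ Fin m → F)) : Set (Matrix.symplecticGroup (Fin m) F))) = 2 ^ m * Nat.factorial m * (q - 1) ^ m := by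
  classical
  subst hF
  have hu : ∃ u : Fˣ, (u : F) ^ 2 ≠ 1 := by
    by_contra hcon
    push Not at hcon
    have h3 : (Finset.univ : Finset F) ⊆ {0, 1, -1} := fun x _ => by
      rcases eq_or_ne x 0 with rfl | hx
      · simp
      · rcases sq_eq_one_iff.1 (hcon (Units.mk0 x hx)) with h | h <;> simp only [Units.val_mk0] at h <;> simp [h]
    have := (Finset.card_le_card h3).trans Finset.card_le_three
    rw [Finset.card_univ] at this
    omega
  obtain ⟨u, hu⟩ := hu
  rw [show (⨅ i : Fin m ⊕ Fin m, ((Cfsg.stabilizing (Cfsg.spToMat m F) ((Submodule.span F {(Pi.single i (1 : F) : Fin m ⊕ Fin m → F)} : Submodule F (Fin m ⊕ Fin m → F)) : Set (Fin m ⊕ Fin m → F))) : Set (Matrix.symplecticGroup (Fin m) F))) = (torus F m : Set (Matrix.symplecticGroup (Fin m) F)) by rw [torus, Subgroup.coe_iInf]; rfl]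
  rw [← Nat.card_eq_of_bijective (toN F m) ⟨toN_inj F m, toN_surj F m u hu⟩, Nat.card_prod, Nat.card_prod,
    Nat.card_perm, Nat.card_fun, Nat.card_fun, Nat.card_units, Nat.card_eq_fintype_card (α := Bool),
    Nat.card_eq_fintype_card (α := F), Nat.card_fin, Fintype.card_bool]
  ring

end Cfsg.Agent.S0777
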