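import Cfsg.Statements.S0778
import Mathlib
open Matrix

set_option autoImplicit false
open Cfsg

namespace Cfsg.Agent.S0778

/-- The elements of Sp_2m(F) stabilising both W = ⟨e_1..e_m⟩ and U = ⟨f_1..f_m⟩ form a subgroup isomorphic to GL_m(F) (block-diagonal matrices diag(X, X^(−ᵀ)) up to the sign convention of J), for m ≥ 1 or m = 0 alike. -/
theorem result {F : Type*} [Field F] (m : ℕ) : Nonempty (↥(Cfsg.stabilizing (Cfsg.spToMat m F) {v : Fin m ⊕ Fin m → F | ∀ i : Fin m, v (Sum.inr i) = 0} ⊓ Cfsg.stabilizing (Cfsg.spToMat m F) {v : Fin m ⊕ Fin m → F | ∀ i : Fin m, v (Sum.inl i) = 0}) ≃* Matrix.GeneralLinearGroup (Fin m) F) := by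
  classical
  let emb : Matrix.GeneralLinearGroup (Fin m) F → ↥(Matrix.symplecticGroup (Fin m) F) := fun X =>
    ⟨Matrix.fromBlocks X.1 0 0 (X⁻¹).1.transpose, by
      rw [SymplecticGroup.mem_iff]
      simp only [Matrix.J, Matrix.fromBlocks_transpose, Matrix.fromBlocks_multiply, Matrix.transpose_zero,
        Matrix.transpose_transpose, mul_zero, zero_mul, zero_add, add_zero, mul_neg, neg_mul, mul_one, neg_zero]
      rw [← Matrix.transpose_mul, ← Units.val_mul, mul_inv_cancel, Units.val_one, Matrix.transpose_one]⟩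
  have hmv : ∀ (X Y : Matrix (Fin m) (Fin m) F) (v : Fin m ⊕ Fin m → F),
      Matrix.fromBlocks X 0 0 Y *ᵥ v = Sum.elim (X *ᵥ (v ∘ Sum.inl)) (Y *ᵥ (v ∘ Sum.inr)) := by
    intro X Y v
    rw [Matrix.fromBlocks_mulVec]
    simp
  obtain ⟨H, hH⟩ : ∃ H, H = Cfsg.stabilizing (Cfsg.spToMat m F) {v : Fin m ⊕ Fin m → F | ∀ i : Fin m, v (Sum.inr i) = 0} ⊓
      Cfsg.stabilizing (Cfsg.spToMat m F) {v : Fin m ⊕ Fin m → F | ∀ i : Fin m, v (Sum.inl i) = 0} := ⟨_, rfl⟩
  rw [← hH]
  have hinj : ∀ (A B : Matrix (Fin m) (Fin m) F), IsUnit A → ∀ w, A *ᵥ w = 0 → w = 0 := by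
    intro A _ hA w h
    obtain ⟨U, rfl⟩ := hA
    have := congrArg ((U⁻¹).1 *ᵥ ·) h
    simpa [Matrix.mulVec_mulVec, ← Units.val_mul] using this
  have hemb : ∀ X, emb X ∈ H := by
    intro X
    rw [hH]
    refine ⟨fun v => ?_, fun v => ?_⟩ <;>
      simp only [Set.mem_setOf_eq, Submonoid.coe_subtype, emb, hmv, Sum.elim_inr, Sum.elim_inl]
    · constructor
      · intro h i
        rw [show v ∘ Sum.inr = 0 from funext h, Matrix.mulVec_zero, Pi.zero_apply]
      · intro h i
        exact congrFun (hinj _ 1 ((Matrix.isUnit_transpose _).2 (Units.isUnit X⁻¹)) (v ∘ Sum.inr) (funext h)) i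
    · constructor
      · intro h i
        rw [show v ∘ Sum.inl = 0 from funext h, Matrix.mulVec_zero, Pi.zero_apply]
      · intro h i
        exact congrFun (hinj _ 1 (Units.isUnit X) (v ∘ Sum.inl) (funext h)) i
  let f : Matrix.GeneralLinearGroup (Fin m) F →* H :=
    MonoidHom.mk' (fun X => ⟨emb X, hemb X⟩) fun X Y => Subtype.ext (Subtype.ext (by
      show Matrix.fromBlocks _ 0 0 _ = Matrix.fromBlocks _ 0 0 _ * Matrix.fromBlocks _ 0 0 _
      rw [Matrix.fromBlocks_multiply, _root_.mul_inv_rev, Units.val_mul, Units.val_mul, Matrix.transpose_mul]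
      simp))
  refine ⟨(MulEquiv.ofBijective f ⟨fun X Y h => ?_, fun g => ?_⟩).symm⟩
  · have := congrArg (fun g : H => g.1.1.toBlocks₁₁) h
    exact Units.ext (by simpa [f, emb] using this)
  · obtain ⟨g, hg⟩ := g
    have hg' := hg
    rw [hH] at hg'
    obtain ⟨hW, hU⟩ := hg'
    have hg21 : g.1.toBlocks₂₁ = 0 := by
      ext i j
      have := (hW (Pi.single (Sum.inl j) 1)).1 (by simp) i
      rwa [Submonoid.coe_subtype, Matrix.mulVec_single_one] at this
    have hg12 : g.1.toBlocks₁₂ = 0 := by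
      ext i j
      have := (hU (Pi.single (Sum.inr j) 1)).1 (by simp) i
      rwa [Submonoid.coe_subtype, Matrix.mulVec_single_one] at this
    have hblocks : g.1 = Matrix.fromBlocks g.1.toBlocks₁₁ 0 0 g.1.toBlocks₂₂ := by
      conv_lhs => rw [← Matrix.fromBlocks_toBlocks g.1, hg21, hg12]
    have hJ := g.2
    rw [SymplecticGroup.mem_iff, hblocks] at hJ
    simp only [Matrix.J, Matrix.fromBlocks_transpose, Matrix.fromBlocks_multiply, Matrix.transpose_zero,
      mul_zero, zero_mul, zero_add, add_zero, mul_neg, neg_mul, mul_one] at hJ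
    have h21 := congrArg Matrix.toBlocks₂₁ hJ
    simp only [Matrix.toBlocks_fromBlocks₂₁] at h21
    have h12 : g.1.toBlocks₁₁ * g.1.toBlocks₂₂.transpose = 1 := by
      have := congrArg Matrix.toBlocks₁₂ hJ
      simp only [Matrix.toBlocks_fromBlocks₁₂, neg_inj] at this
      exact this
    let X : Matrix.GeneralLinearGroup (Fin m) F :=
      ⟨g.1.toBlocks₁₁, g.1.toBlocks₂₂.transpose, h12, mul_eq_one_comm.1 h12⟩
    refine ⟨X, Subtype.ext (Subtype.ext ?_)⟩
    show Matrix.fromBlocks g.1.toBlocks₁₁ 0 0 g.1.toBlocks₂₂.transpose.transpose = g.1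
    rw [Matrix.transpose_transpose, ← hblocks]

end Cfsg.Agent.S0778
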