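import Cfsg.Statements.S0779
-- import your own Cfsg.Agent.* helpers here
import Cfsg.Agent.Lib.Forms.UnitaryFin


set_option autoImplicit false
open Cfsg
open scoped Matrix

namespace Cfsg.Agent.S0779

/-- Unitary transvections: let |F| = q², h the standard Hermitian form Σ x_i y_i^q and v ≠ 0 with h(v, v) = 0. The linear map x ↦ x + c h(x, v) v is an isometry of h if and only if c = 0 or c^(q−1) = −1. -/
theorem result {F : Type*} [Field F] [Fintype F] {q : ℕ} (hF : Fintype.card F = q ^ 2) (n : ℕ) (v : Fin n → F) (hv : v ≠ 0) (hv0 : Cfsg.hermForm n F q v v = 0) (c : F) : (∀ x y : Fin n → F, Cfsg.hermForm n F q ((Cfsg.unitaryTransvection n q v c).mulVec x) ((Cfsg.unitaryTransvection n q v c).mulVec y) = Cfsg.hermForm n F q x y) ↔ (c = 0 ∨ c ^ (q - 1) = -1) := by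
  obtain ⟨σ, hσ, hinv, hq⟩ := FormsLib.exists_qhom hF
  have hU := (FormsLib.hermB_isUnitary hF n hσ hinv hq).1
  have hMx : ∀ x : Fin n → F, (Cfsg.unitaryTransvection n q v c) *ᵥ x =
      x + (c * FormsLib.hermB n σ v x) • v := fun x => by
    rw [Cfsg.unitaryTransvection, Matrix.add_mulVec, Matrix.one_mulVec, Matrix.smul_mulVec,
      Matrix.vecMulVec_mulVec, FormsLib.hermB_apply hσ, Cfsg.hermForm]
    ext i
    simp only [Pi.add_apply, Pi.smul_apply, op_smul_eq_mul, smul_eq_mul, dotProduct, mul_comm (x _)]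
    ring
  have hvv : FormsLib.hermB n σ v v = 0 := (FormsLib.hermB_apply hσ v v).trans hv0
  have hcq : (c = 0 ∨ c ^ (q - 1) = -1) ↔ c + σ c = 0 := by
    rw [hσ]
    conv_rhs => rw [show q = q - 1 + 1 by omega, pow_succ]
    constructor
    · rintro (h | h)
      · simp [h]
      · rw [h]; ring
    · intro h
      by_cases hc : c = 0
      · exact Or.inl hc
      · exact Or.inr (eq_neg_of_add_eq_zero_left ((mul_eq_zero.1
          (show c * (c ^ (q - 1) + 1) = 0 by linear_combination h)).resolve_left hc))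
  rw [hcq]
  constructor
  · intro h
    obtain ⟨z, -, hz⟩ : ∃ z, True ∧ FormsLib.hermB n σ v z = 1 := by
      obtain ⟨z, hz⟩ : ∃ z, FormsLib.hermB n σ v z ≠ 0 := by
        by_contra hc
        push Not at hc
        exact hv (hU.tf.nondeg v hc)
      exact ⟨(FormsLib.hermB n σ v z)⁻¹ • z, trivial, by simp [hz]⟩
    have := h z z
    rw [hMx, ← FormsLib.hermB_apply hσ, ← FormsLib.hermB_apply hσ] at this
    simp only [map_add, map_smulₛₗ, LinearMap.add_apply, LinearMap.smul_apply, smul_eq_mul,
      RingHom.id_apply, map_mul, map_one, hz, hvv, FormsLib.herm_flip hU v z] at this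
    linear_combination this
  · intro h x y
    rw [hMx, hMx, ← FormsLib.hermB_apply hσ, ← FormsLib.hermB_apply hσ]
    simp only [map_add, map_smulₛₗ, LinearMap.add_apply, LinearMap.smul_apply, smul_eq_mul,
      RingHom.id_apply, map_mul, hvv, FormsLib.herm_flip hU v y]
    linear_combination (σ (FormsLib.hermB n σ v y) * FormsLib.hermB n σ v x) * h

end Cfsg.Agent.S0779
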