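import Cfsg.Statements.S0781
import Cfsg.Agent.Lib.AutPSU.Centre

set_option autoImplicit false
open Cfsg

namespace Cfsg.Agent.S0781

theorem exists_aux {F : Type*} [Field F] {q : ℕ} [Cfsg.Agent.AutPSU.QField F q] (n : ℕ) (hn : 3 ≤ n)
    {v : Fin n → F} (hv0 : Cfsg.hermForm n F q v v = 0) (hv : v ≠ 0) :
    ∃ w : Fin n → F, Cfsg.hermForm n F q w v = 0 ∧ Cfsg.hermForm n F q w w ≠ 0 := by
  by_contra hcon
  push Not at hcon
  obtain ⟨f, hf, hff⟩ := Cfsg.Agent.AutPSU.exists_partner (q := q) hv hv0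
  have hvf : Cfsg.hermForm n F q v f = 1 := by rw [← Cfsg.Agent.AutPSU.H_flip f v, hf, map_one]
  obtain ⟨k, hk⟩ := Cfsg.Agent.AutPSU.qb_ne (F := F) (q := q)
  have horth : ∀ a b, Cfsg.hermForm n F q a v = 0 → Cfsg.hermForm n F q b v = 0 →
      Cfsg.hermForm n F q a b = 0 := by
    intro a b ha hb
    have h1 := hcon (a + b) (by simp [ha, hb])
    have h2 := hcon (k • a + b) (by simp [ha, hb])
    simp [hcon a ha, hcon b hb] at h1 h2
    have : (k - Cfsg.Agent.AutPSU.qb q k) * Cfsg.hermForm n F q a b = 0 := by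
      linear_combination h2 - Cfsg.Agent.AutPSU.qb q k * h1
    exact (mul_eq_zero.1 this).resolve_left (sub_ne_zero.2 (Ne.symm hk))
  have hspan : ∀ a, a - Cfsg.hermForm n F q a f • v - Cfsg.hermForm n F q a v • f = 0 := by
    intro a
    set p := a - Cfsg.hermForm n F q a f • v - Cfsg.hermForm n F q a v • f with hp
    have hpv : Cfsg.hermForm n F q p v = 0 := by simp [hp, hv0, hf]
    have hpf : Cfsg.hermForm n F q p f = 0 := by simp [hp, hff, hvf]
    refine Cfsg.Agent.AutPSU.eq_zero_of_orth' (q := q) fun b => ?_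
    have := horth p (b - Cfsg.hermForm n F q b v • f) hpv (by simp [hf])
    simpa [hpf] using this
  have h2 : Module.finrank F (Fin n → F) ≤ 2 := by
    have htop : (⊤ : Submodule F (Fin n → F)) ≤ Submodule.span F ({v, f} : Set (Fin n → F)) := fun a _ => by
      have := hspan a
      rw [sub_sub, sub_eq_zero] at this
      rw [this]
      exact add_mem (Submodule.smul_mem _ _ (Submodule.subset_span (by simp)))
        (Submodule.smul_mem _ _ (Submodule.subset_span (by simp)))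
    classical
    calc Module.finrank F (Fin n → F) = Module.finrank F (⊤ : Submodule F (Fin n → F)) := (finrank_top F (Fin n → F)).symm
      _ ≤ Module.finrank F (Submodule.span F (({v, f} : Finset (Fin n → F)) : Set (Fin n → F))) :=
          Submodule.finrank_mono (by simpa using htop)
      _ ≤ ({v, f} : Finset (Fin n → F)).card := finrank_span_finset_le_card _
      _ ≤ 2 := Finset.card_le_two
  rw [Module.finrank_fin_fun] at h2
  omega

/-- In SU_n(q) with n ≥ 4, or n = 3 and q > 2, every element whose matrix is a unitary transvection x ↦ x + c h(x, v) v (v isotropic) is a commutator ⁅B, C⁆ of two elements of SU_n(q). -/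
theorem result {F : Type*} [Field F] [Fintype F] {q : ℕ} (hF : Fintype.card F = q ^ 2) (n : ℕ) (hn : 4 ≤ n ∨ (n = 3 ∧ 3 ≤ q)) (A : ↥(Cfsg.SU n F q)) (v : Fin n → F) (c : F) (hv0 : Cfsg.hermForm n F q v v = 0) (hA : ((A : Matrix.SpecialLinearGroup (Fin n) F) : Matrix (Fin n) (Fin n) F) = Cfsg.unitaryTransvection n q v c) : A ∈ commutatorSet ↥(Cfsg.SU n F q) := by
  classical
  have : Cfsg.Agent.AutPSU.QField F q := Cfsg.Agent.AutPSU.QField.of_card hF
  have happ : ∀ u, Cfsg.Agent.AutPSU.app A u = u + (c * Cfsg.hermForm n F q u v) • v := by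
    intro u
    funext i
    simp only [Cfsg.Agent.AutPSU.app, hA, Cfsg.unitaryTransvection, Matrix.add_mulVec, Matrix.one_mulVec,
      Matrix.smul_mulVec, Pi.add_apply, Pi.smul_apply, smul_eq_mul]
    congr 1
    simp only [Matrix.mulVec, dotProduct, Matrix.vecMulVec_apply, Cfsg.hermForm, Finset.mul_sum, Finset.sum_mul]
    exact Finset.sum_congr rfl fun j _ => by ring
  by_cases hv : v = 0
  · refine ⟨1, 1, ?_⟩
    have : A = 1 := Cfsg.Agent.AutPSU.su_ext fun u => by
      simpa [hv, Cfsg.Agent.AutPSU.app] using happ u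
    simp [this]
  obtain ⟨w, hw, hww⟩ := exists_aux n (by omega) hv0 hv
  obtain ⟨f, hf, hff⟩ := Cfsg.Agent.AutPSU.exists_partner (q := q) hv hv0
  have hc : c + Cfsg.Agent.AutPSU.qb q c = 0 := by
    have h := Cfsg.Agent.AutPSU.app_H A f f
    have hvf : Cfsg.hermForm n F q v f = 1 := by rw [← Cfsg.Agent.AutPSU.H_flip f v, hf, map_one]
    rw [happ f] at h
    simp [hff, hf, hvf, hv0] at h
    linear_combination h
  set d := c / Cfsg.hermForm n F q w w with hd
  obtain ⟨t, ht⟩ := Cfsg.Agent.AutPSU.exists_trace (F := F) (q := q) (c := 1) (map_one _)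
  have hsd : Cfsg.Agent.AutPSU.qb q d = -d := by
    rw [hd, map_div₀, Cfsg.Agent.AutPSU.H_self_fixed, eq_neg_of_add_eq_zero_right hc, neg_div]
  have ha0 : Cfsg.hermForm n F q ((d * t) • w) v = 0 := by simp [hw]
  obtain ⟨s₁, h₁⟩ := Cfsg.Agent.AutPSU.exists_isQ hv0 ha0
  obtain ⟨s₂, h₂⟩ := Cfsg.Agent.AutPSU.exists_isQ hv0 hw
  set X := Cfsg.Agent.AutPSU.qE v _ s₁ h₁
  set Y := Cfsg.Agent.AutPSU.qE v _ s₂ h₂
  refine ⟨X, Y, ?_⟩
  have hT : Cfsg.Agent.AutPSU.IsT q v c := ⟨hv0, hc⟩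
  have hAt : A = Cfsg.Agent.AutPSU.tr v c hT := Cfsg.Agent.AutPSU.su_ext fun u => by
    exact (happ u).trans (Cfsg.Agent.AutPSU.tr_apply v c hT u).symm
  have key : A * (Y * X) = X * Y := by
    rw [hAt, Cfsg.Agent.AutPSU.tr, Cfsg.Agent.AutPSU.qE_mul, Cfsg.Agent.AutPSU.qE_mul, Cfsg.Agent.AutPSU.qE_mul]
    refine Cfsg.Agent.AutPSU.qE_congr (by abel) ?_
    have hq : d * Cfsg.hermForm n F q w w = c := div_mul_cancel₀ c hww
    simp only [Cfsg.Agent.AutPSU.H_smul_left, Cfsg.Agent.AutPSU.H_smul_right, Cfsg.Agent.AutPSU.H_zero_right,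
      map_mul, hsd]
    linear_combination -hq - (d * Cfsg.hermForm n F q w w) * ht
  rw [commutatorElement_def, show X * Y * X⁻¹ * Y⁻¹ = X * Y * (Y * X)⁻¹ by group, ← key]
  group

end Cfsg.Agent.S0781
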