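import Cfsg.Statements.S0782
import Cfsg.Agent.Lib.Forms.UnitaryParabolic

set_option autoImplicit false
open Cfsg

namespace Cfsg.Agent.S0782

open scoped Matrix

/-- Maximal parabolics of SU_n(q): if W is a k-dimensional subspace of F^n (n ≥ 1, |F| = q²) on which the Hermitian form vanishes, then (q + 1) times the order of its stabiliser in SU_n(q) equals q^(k(2n−3k)) · |GL_k(q²)| · |GU_(n−2k)(q)|, where |GU_m(q)| = q^(m(m−1)/2) Π_(i=1..m) (q^i − (−1)^i). -/
theorem result {F : Type*} [Field F] [Fintype F] {q : ℕ} (hF : Fintype.card F = q ^ 2) (n k : ℕ) (hn : 1 ≤ n) (hk : 2 * k ≤ n) (W : Submodule F (Fin n → F)) (hWk : Module.finrank F W = k) (hW : ∀ u ∈ W, ∀ v ∈ W, Cfsg.hermForm n F q u v = 0) : (q + 1) * Nat.card ↥((Cfsg.stabilizing (Cfsg.slToMat n F) (W : Set (Fin n → F))).subgroupOf (Cfsg.SU n F q)) = q ^ (k * (2 * n - 3 * k)) * (∏ i : Fin k, ((q ^ 2) ^ k - (q ^ 2) ^ (i : ℕ))) * (q ^ ((n - 2 * k) * ((n - 2 * k) - 1) / 2) * ∏ i ∈ Finset.range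 (n - 2 * k), (if Even i then q ^ (i + 1) + 1 else q ^ (i + 1) - 1)) := by
  classical
  have hQ : Cfsg.Agent.AutPSU.QField F q := Cfsg.Agent.AutPSU.QField.of_card hF
  have hq : 2 ≤ q := Cfsg.Agent.FormCount.two_le_q hF
  set P := (Cfsg.stabilizing (Units.coeHom (Matrix (Fin n) (Fin n) F)) (W : Set (Fin n → F))).subgroupOf (Cfsg.GU n F q) with hP
  have hmem : ∀ A : Cfsg.GU n F q, A ∈ P ↔ ∀ v, v ∈ W ↔ A.1.1.mulVec v ∈ W := fun A => Iff.rfl
  have hPcard : Nat.card P = Nat.card {A : Cfsg.GU n F q // ∀ v, v ∈ W ↔ A.1.1.mulVec v ∈ W} := rfl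
  let d : P →* Fˣ := (Matrix.GeneralLinearGroup.det.comp (Cfsg.GU n F q).subtype).comp P.subtype
  have hker : Nat.card d.ker = Nat.card ↥((Cfsg.stabilizing (Cfsg.slToMat n F) (W : Set (Fin n → F))).subgroupOf (Cfsg.SU n F q)) := by
    refine (Nat.card_congr (Equiv.ofBijective (fun A : ↥((Cfsg.stabilizing (Cfsg.slToMat n F) (W : Set (Fin n → F))).subgroupOf (Cfsg.SU n F q)) =>
      (⟨⟨⟨Matrix.SpecialLinearGroup.toGL A.1.1, A.1.2⟩, A.2⟩, Units.ext A.1.1.2⟩ : d.ker)) ⟨fun A B h => ?_, fun g => ?_⟩)).symm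
    · exact Subtype.ext (Subtype.ext (Subtype.ext (congrArg (fun X : d.ker => X.1.1.1.1) h)))
    · exact ⟨⟨⟨⟨g.1.1.1.1, congrArg Units.val g.2⟩, g.1.1.2⟩, g.1.2⟩, Subtype.ext (Subtype.ext (Subtype.ext (Units.ext rfl)))⟩
  have hrange : d.range = (powMonoidHom (q + 1) : Fˣ →* Fˣ).ker := by
    ext x
    constructor
    · rintro ⟨g, rfl⟩
      exact Units.ext (by simpa [d] using Cfsg.Agent.UnitaryOrder.det_norm_one hF g.1.2)
    · intro hx
      have hx1 : (x : F) ^ (q + 1) = 1 := congrArg Units.val (show x ^ (q + 1) = 1 from hx)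
      by_cases hW0 : W = ⊥
      · have hd : ∀ i, Function.update (1 : Fin n → Fˣ) ⟨0, hn⟩ x i ^ (q + 1) = 1 := by
          intro i
          by_cases hi : i = ⟨0, hn⟩
          · rw [hi, Function.update_self]; exact hx
          · simp [hi]
        refine ⟨⟨⟨_, Cfsg.Agent.UnitaryOrder.diagonal_mem hF _ hd⟩, fun v => ?_⟩, Units.ext ?_⟩
        · show v ∈ W ↔ _ ∈ W
          rw [hW0, Submodule.mem_bot, Submodule.mem_bot]
          refine ⟨fun h => by rw [h, Matrix.mulVec_zero], fun h => ?_⟩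
          exact Cfsg.Agent.UnitaryParabolic.mulVec_injective
            (⟨_, Cfsg.Agent.UnitaryOrder.diagonal_mem hF _ hd⟩ : Cfsg.GU n F q) (h.trans (Matrix.mulVec_zero _).symm)
        · show (Matrix.diagonal (fun i => ((Function.update (1 : Fin n → Fˣ) ⟨0, hn⟩ x i : Fˣ) : F))).det = x
          rw [Matrix.det_diagonal, ← Units.coe_prod, Finset.prod_update_of_mem (Finset.mem_univ _)]
          simp
      · obtain ⟨A, hA, hAd⟩ := Cfsg.Agent.UnitaryParabolic.exists_det (q := q) W hW hW0 (x : F)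
          (by rw [Cfsg.Agent.AutPSU.qb_apply, ← pow_succ', hx1])
        refine ⟨⟨A, fun v => ⟨hA v, fun hv => ?_⟩⟩, Units.ext hAd⟩
        have hinj : Function.Injective fun w : W => (⟨A.1.1.mulVec w.1, hA _ w.2⟩ : W) := fun a c hac =>
          Subtype.ext (Cfsg.Agent.UnitaryParabolic.mulVec_injective A (congrArg Subtype.val hac))
        obtain ⟨w, hw⟩ := (Finite.injective_iff_surjective.1 hinj) ⟨_, hv⟩
        have h2 := Cfsg.Agent.UnitaryParabolic.mulVec_injective A (congrArg Subtype.val hw)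
        exact h2 ▸ w.2
  have h := Subgroup.card_eq_card_quotient_mul_card_subgroup d.ker
  rw [Nat.card_congr (QuotientGroup.quotientKerEquivRange d).toEquiv, hrange,
    Cfsg.Agent.UnitaryOrder.card_norm_one_units hF, hker, hPcard] at h
  rw [← h]
  have hs := Cfsg.Agent.UnitaryParabolic.card_stab (q := q) W hWk hW
  apply Nat.eq_of_mul_eq_mul_left (pow_pos (by omega : 0 < q) (k * (k - 1)))
  rw [hs, Cfsg.Agent.UnitaryParabolic.PP]
  obtain ⟨d', rfl⟩ := Nat.le.dest hk
  rw [Nat.add_sub_cancel_left]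
  have hexp : (2 * k + d') * (2 * k + d' - 1) / 2 = k * (k - 1) + k * (2 * (2 * k + d') - 3 * k) + d' * (d' - 1) / 2 := by
    have key : ∀ j, j * (j - 1) / 2 * 2 = j * (j - 1) := fun j => Nat.div_mul_cancel (Nat.even_mul_pred_self j).two_dvd
    have h1 := key (2 * k + d')
    have h2 := key d'
    have e : 2 * (2 * k + d') - 3 * k = k + 2 * d' := by omega
    rw [e]
    rcases k with _ | j
    · simp
    · have e2 : 2 * (j + 1) + d' - 1 = 2 * j + 1 + d' := by omega
      rw [e2] at h1 ⊢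
      rw [Nat.add_sub_cancel]
      rcases d' with _ | i
      · simp only [Nat.zero_mul, Nat.zero_div, Nat.add_zero] at *
        nlinarith [h1]
      · rw [Nat.add_sub_cancel] at h2 ⊢
        nlinarith [h1, h2]
  rw [hexp, pow_add, pow_add]
  ring

end Cfsg.Agent.S0782
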