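import Cfsg.Statements.S0783
import Cfsg.Agent.Lib.AutPSU.Twisted

set_option autoImplicit false
open Cfsg

namespace Cfsg.Agent.S0783

open Cfsg.Agent.AutPSU

theorem H_single {F : Type*} [Field F] {q : ℕ} [QField F q] {n : ℕ} (i : Fin n) :
    Cfsg.hermForm n F q (Pi.single i 1) (Pi.single i 1) = 1 := by
  rw [H_eq, Finset.sum_eq_single i (fun b _ hb => by simp [hb]) (by simp)]
  simp

theorem scalar_of_center {F : Type*} [Field F] [Finite F] {q : ℕ} [QField F q] {n : ℕ} (hn : 2 ≤ n) (g : ↥(Cfsg.GU n F q))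
    (hg : g ∈ Subgroup.center ↥(Cfsg.GU n F q)) :
    ∃ c : F, ∀ v : Fin n → F, Matrix.mulVec ((g : Matrix.GeneralLinearGroup (Fin n) F) : Matrix (Fin n) (Fin n) F) v = c • v := by
  classical
  haveI := Fintype.ofFinite F
  obtain ⟨M, hM⟩ : ∃ M, M = ((g : Matrix.GeneralLinearGroup (Fin n) F) : Matrix (Fin n) (Fin n) F) := ⟨_, rfl⟩
  rw [← hM]
  -- a norm-one element different from one
  obtain ⟨μ, hμ⟩ : ∃ μ : normOne (F := F) (q := q), μ ≠ 1 := by
    by_contra h
    push Not at h
    have h1 := card_normOne (F := F) (q := q)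
    haveI : Subsingleton (normOne (F := F) (q := q)) := ⟨fun a b => by rw [h a, h b]⟩
    rw [Nat.card_of_subsingleton (1 : normOne (F := F) (q := q))] at h1
    have := two_le_q (F := F) (q := q)
    omega
  have line : ∀ w : Fin n → F, Cfsg.hermForm n F q w w ≠ 0 → ∃ a : F, Matrix.mulVec M w = a • w := by
    intro w hw
    have hc : ∀ v, Matrix.mulVec M (reflLin q w ((μ : Fˣ) : F) v) = reflLin q w ((μ : Fˣ) : F) (Matrix.mulVec M v) := by
      intro v
      have := congrArg (fun k : ↥(Cfsg.GU n F q) => Matrix.mulVec ((k : Matrix.GeneralLinearGroup (Fin n) F) : Matrix (Fin n) (Fin n) F) v)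
        (Subgroup.mem_center_iff.1 hg (reflHom w hw μ))
      simp only [Subgroup.coe_mul, Units.val_mul, ← Matrix.mulVec_mulVec, reflHom_apply, ← hM] at this
      exact this.symm
    have e := hc w
    rw [reflLin_apply, reflLin_apply, div_mul_cancel₀ _ hw, Matrix.mulVec_add, Matrix.mulVec_smul] at e
    have hne : ((μ : Fˣ) : F) - 1 ≠ 0 := sub_ne_zero.2 fun h => hμ (Subtype.ext (Units.ext h))
    have e2 := add_left_cancel e
    refine ⟨Cfsg.hermForm n F q (Matrix.mulVec M w) w / Cfsg.hermForm n F q w w, ?_⟩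
    have e3 : (((μ : Fˣ) : F) - 1) • Matrix.mulVec M w = (((μ : Fˣ) : F) - 1) •
        ((Cfsg.hermForm n F q (Matrix.mulVec M w) w / Cfsg.hermForm n F q w w) • w) := by
      rw [e2, smul_smul]
      congr 1
      ring
    exact smul_right_injective _ hne e3
  have hsingle : ∀ i, ∃ a : F, Matrix.mulVec M (Pi.single i 1) = a • Pi.single i 1 := fun i =>
    line _ (by rw [H_single]; exact one_ne_zero)
  choose a ha using hsingle
  have heq : ∀ i j, a i = a j := by
    intro i j
    by_cases hij : i = j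
    · rw [hij]
    obtain ⟨P, hP⟩ := exists_GU_of_pres (q := q) (LinearMap.funLeft F F (Equiv.swap i j) : (Fin n → F) →ₗ[F] (Fin n → F))
      (fun u v => by
        simp only [H_eq, LinearMap.funLeft_apply]
        exact Equiv.sum_comp (Equiv.swap i j) fun l => u l * qb (F := F) q (v l))
    have e := congrArg (fun k : ↥(Cfsg.GU n F q) => Matrix.mulVec ((k : Matrix.GeneralLinearGroup (Fin n) F) : Matrix (Fin n) (Fin n) F) (Pi.single i 1))
      (Subgroup.mem_center_iff.1 hg P)
    simp only [Subgroup.coe_mul, Units.val_mul, ← Matrix.mulVec_mulVec, hP, ← hM] at e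
    have hsw : LinearMap.funLeft F F (Equiv.swap i j) (Pi.single i (1 : F) : Fin n → F) = Pi.single j 1 := by
      funext l
      rw [LinearMap.funLeft_apply]
      by_cases h : l = j
      · subst h; simp
      · rw [Pi.single_eq_of_ne h, Pi.single_eq_of_ne]
        intro h'
        exact h (by simpa using congrArg (Equiv.swap i j) h')
    rw [ha, map_smul, hsw, ha] at e
    simpa using congrFun e j
  refine ⟨a ⟨0, by omega⟩, fun v => ?_⟩
  have : Matrix.mulVecLin M = a ⟨0, by omega⟩ • LinearMap.id := by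
    refine (Pi.basisFun F (Fin n)).ext fun i => ?_
    rw [Pi.basisFun_apply, Matrix.mulVecLin_apply, ha, heq i ⟨0, by omega⟩]
    rfl
  exact congrArg (fun f : (Fin n → F) →ₗ[F] (Fin n → F) => f v) this

/-- PGU_n(q)/PSU_n(q) is cyclic of order (n, q+1): for n ≥ 2 and |F| = q² there is a surjective homomorphism from GU_n(q) onto the cyclic group of order gcd(n, q + 1) whose kernel is generated by the determinant-one elements together with the centre. -/
theorem result {F : Type*} [Field F] [Fintype F] {q : ℕ} (hF : Fintype.card F = q ^ 2) (n : ℕ) (hn : 2 ≤ n) : ∃ φ : ↥(Cfsg.GU n F q) →* Multiplicative (ZMod (Nat.gcd n (q + 1))), Function.Surjective φ ∧ φ.ker = (Matrix.GeneralLinearGroup.det : Matrix.GeneralLinearGroup (Fin n) F →* Fˣ).ker.subgroupOf (Cfsg.GU n F q) ⊔ Subgroup.center ↥(Cfsg.GU n F q) := by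
  classical
  haveI := QField.of_card hF
  set d := Nat.gcd n (q + 1) with hd
  haveI : NeZero (q + 1) := ⟨by omega⟩
  have hNc : Nat.card (normOne (F := F) (q := q)) = q + 1 := card_normOne
  haveI : IsCyclic (normOne (F := F) (q := q)) := isCyclic_of_subgroup_isDomain ((Units.coeHom F).comp (Subgroup.subtype _)) (Units.val_injective.comp Subtype.val_injective)
  let e : Multiplicative (ZMod (Nat.card (normOne (F := F) (q := q)))) ≃* normOne (F := F) (q := q) :=
    zmodCyclicMulEquiv inferInstance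
  have hdd : d ∣ Nat.card (normOne (F := F) (q := q)) := hNc.symm ▸ Nat.gcd_dvd_right n (q + 1)
  let π : normOne (F := F) (q := q) →* Multiplicative (ZMod d) :=
    (AddMonoidHom.toMultiplicative (ZMod.castHom hdd (ZMod d)).toAddMonoidHom).comp e.symm.toMonoidHom
  have hπs : Function.Surjective π := by
    intro z
    obtain ⟨y, hy⟩ := ZMod.castHom_surjective hdd (Multiplicative.toAdd z)
    exact ⟨e (Multiplicative.ofAdd y), by simp [π, hy]⟩
  have hsurj : Function.Surjective (detHom (n := n) (F := F) (q := q)) := by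
    intro c
    have hw : Cfsg.hermForm n F q (Pi.single ⟨0, by omega⟩ 1) (Pi.single ⟨0, by omega⟩ 1) ≠ 0 := by
      rw [H_single]; exact one_ne_zero
    exact ⟨reflHom _ hw c, detHom_reflHom _ hw c⟩
  refine ⟨π.comp detHom, hπs.comp hsurj, le_antisymm ?_ (sup_le ?_ ?_)⟩
  · intro g hg
    obtain ⟨y, hy⟩ : ∃ y : normOne (F := F) (q := q), detHom g = y ^ n := by
      have hg' : π (detHom g) = 1 := hg
      obtain ⟨x, hx⟩ := e.surjective (detHom g)
      rw [← hx] at hg'
      obtain ⟨x, rfl⟩ := Multiplicative.ofAdd.surjective x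
      simp only [π, MonoidHom.comp_apply, MulEquiv.coe_toMonoidHom, MulEquiv.symm_apply_apply] at hg'
      have h0 : (ZMod.castHom hdd (ZMod d)) x = 0 := congrArg Multiplicative.toAdd hg'
      haveI : NeZero (Nat.card (normOne (F := F) (q := q))) := ⟨by omega⟩
      rw [← ZMod.natCast_zmod_val x, map_natCast, ZMod.natCast_eq_zero_iff] at h0
      obtain ⟨t, ht⟩ := h0
      have hbez : (d : ℤ) = n * Nat.gcdA n (q + 1) + (q + 1 : ℕ) * Nat.gcdB n (q + 1) := Nat.gcd_eq_gcd_ab n (q + 1)
      refine ⟨e (Multiplicative.ofAdd ((Nat.gcdA n (q + 1) * t : ℤ) : ZMod (Nat.card (normOne (F := F) (q := q))))), ?_⟩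
      rw [← map_pow, ← ofAdd_nsmul, ← hx]
      congr 2
      rw [← ZMod.natCast_zmod_val x, ht, Nat.cast_mul, nsmul_eq_mul]
      have := congrArg (fun z : ℤ => (z : ZMod (Nat.card (normOne (F := F) (q := q))))) hbez
      simp only [Int.cast_natCast, Int.cast_add, Int.cast_mul] at this
      rw [show ((q + 1 : ℕ) : ZMod (Nat.card (normOne (F := F) (q := q)))) = 0 by
        rw [ZMod.natCast_eq_zero_iff, hNc]] at this
      rw [this]
      push_cast
      ring
    have hn1 : 1 ≤ n := by omega
    have h1 : g * (scalU hn1 y)⁻¹ ∈ (Matrix.GeneralLinearGroup.det : Matrix.GeneralLinearGroup (Fin n) F →* Fˣ).ker.subgroupOf (Cfsg.GU n F q) := by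
      have : detHom (g * (scalU hn1 y)⁻¹) = 1 := by
        rw [map_mul, map_inv, detHom_scalU, hy, mul_inv_cancel]
      exact congrArg Subtype.val this
    rw [show g = g * (scalU hn1 y)⁻¹ * scalU hn1 y by group]
    exact mul_mem (Subgroup.mem_sup_left h1) (Subgroup.mem_sup_right (scalU_mem_center hn1 y))
  · intro g hg
    show π (detHom g) = 1
    rw [show detHom g = 1 from Subtype.ext hg, map_one]
  · intro g hg
    obtain ⟨c, hc⟩ := scalar_of_center hn g hg
    obtain ⟨u, hu, hcu⟩ : ∃ u : Fˣ, u ^ (q + 1) = 1 ∧ (u : F) = c := by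
      have h0 : (0 : ℕ) < n := by omega
      have e1 := GU_H g (Pi.single ⟨0, h0⟩ 1) (Pi.single ⟨0, h0⟩ 1)
      rw [hc, H_smul_left, H_smul_right] at e1
      rw [H_single, mul_one] at e1
      have hc0 : c ≠ 0 := fun h => by simp [h] at e1
      refine ⟨Units.mk0 c hc0, Units.ext ?_, rfl⟩
      rw [Units.val_pow_eq_pow_val, Units.val_mk0, Units.val_one, pow_succ']
      simpa [qb_apply] using e1
    have hg' : g = scalU (by omega) ⟨u, hu⟩ := by
      refine Subtype.ext (Units.ext (Matrix.ext_iff_mulVec.2 fun v => ?_))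
      rw [scalU_coe, hc, Matrix.smul_mulVec, Matrix.one_mulVec, hcu]
    show π (detHom g) = 1
    rw [hg', detHom_scalU, map_pow, ← ofAdd_toAdd (π _), ← ofAdd_nsmul, nsmul_eq_mul,
      show (n : ZMod d) = 0 from (ZMod.natCast_eq_zero_iff n d).2 (Nat.gcd_dvd_left n (q + 1)), zero_mul]
    rfl

end Cfsg.Agent.S0783
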