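import Cfsg.Statements.S0784
-- import your own Cfsg.Agent.* helpers here
import Cfsg.Agent.Lib.Forms.Orth


set_option autoImplicit false
open Cfsg
open scoped Matrix

namespace Cfsg.Agent.S0784

/-- Reflections: if Q(v) ≠ 0 then the matrix R = 1 − Q(v)⁻¹ · v f(v, ·)ᵀ preserves Q, maps v to −v, fixes each x with f(v, x) = 0, and has determinant −1 (in characteristic two, −1 = 1 and R is the orthogonal transvection of v). -/
theorem result {F : Type*} [Field F] {n : ℕ} (Q : QuadraticForm F (Fin n → F)) (v : Fin n → F) (hv : Q v ≠ 0) : (∀ x, Q ((Cfsg.reflectionMatrix ⇑Q v).mulVec x) = Q x) ∧ (Cfsg.reflectionMatrix ⇑Q v).mulVec v = -v ∧ (∀ x, QuadraticMap.polar ⇑Q v x = 0 → (Cfsg.reflectionMatrix ⇑Q v).mulVec x = x) ∧ (Cfsg.reflectionMatrix ⇑Q v).det = -1 := by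
  refine ⟨fun x => ?_, ?_, fun x hx => ?_, ?_⟩
  · rw [FormsLib.reflectionMatrix_mulVec]; exact FormsLib.refl_mem Q hv x
  · rw [FormsLib.reflectionMatrix_mulVec]; exact FormsLib.refl_self Q hv
  · rw [FormsLib.reflectionMatrix_mulVec]
    exact FormsLib.refl_fix Q hv ((QuadraticMap.polar_comm Q x v).trans hx)
  · have e : Cfsg.reflectionMatrix ⇑Q v = 1 + Matrix.replicateCol (Fin 1) (-(Q v)⁻¹ • v) *
        Matrix.replicateRow (Fin 1) (Cfsg.polarVec ⇑Q v) := by
      ext i j
      simp [Cfsg.reflectionMatrix, Matrix.mul_apply, Matrix.vecMulVec_apply]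
      ring
    rw [e, Matrix.det_one_add_mul_comm, Matrix.det_fin_one, Matrix.add_apply, Matrix.one_apply_eq,
      Matrix.replicateRow_mul_replicateCol_apply, dotProduct_smul, FormsLib.polarVec_dotProduct,
      FormsLib.polar_self', smul_eq_mul]
    field_simp
    ring

end Cfsg.Agent.S0784
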