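import Cfsg.Statements.S0785
-- import your own Cfsg.Agent.* helpers here
import Cfsg.Agent.Lib.Forms.Orth
import Cfsg.Agent.S0784


set_option autoImplicit false
open Cfsg
open scoped Matrix

namespace Cfsg.Agent.S0785

/-- det(I) = {±1}: for a quadratic form on F^n whose polar form is non-degenerate, every element of the isometry group has determinant 1 or −1, and as soon as Q takes a non-zero value some isometry has determinant −1. -/
theorem result {F : Type*} [Field F] {n : ℕ} (Q : QuadraticForm F (Fin n → F)) (hQ : (QuadraticMap.polarBilin Q).Nondegenerate) : (∀ g : ↥(Cfsg.isometryGroup F ⇑Q), ((g : Matrix.GeneralLinearGroup (Fin n) F) : Matrix (Fin n) (Fin n) F).det = 1 ∨ ((g : Matrix.GeneralLinearGroup (Fin n) F) : Matrix (Fin n) (Fin n) F).det = -1) ∧ ((∃ v, Q v ≠ 0) → ∃ g : ↥(Cfsg.isometryGroup F ⇑Q), ((g : Matrix.GeneralLinearGroup (Fin n) F) : Matrix (Fin n) (Fin n) F).det = -1) := by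
  refine ⟨fun g => ?_, ?_⟩
  · set M := LinearMap.BilinForm.toMatrix' (QuadraticMap.polarBilin Q) with hM
    have hdet : M.det ≠ 0 := (Matrix.nondegenerate_iff_det_ne_zero).1
      (LinearMap.BilinForm.nondegenerate_toMatrix'_iff.2 hQ)
    set A := ((g : Matrix.GeneralLinearGroup (Fin n) F) : Matrix (Fin n) (Fin n) F) with hA
    have hc : LinearMap.BilinForm.comp (QuadraticMap.polarBilin Q) (Matrix.toLin' A)
        (Matrix.toLin' A) = QuadraticMap.polarBilin Q := by
      refine LinearMap.ext₂ fun u v => ?_
      show QuadraticMap.polar Q _ _ = QuadraticMap.polar Q u v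
      simp only [QuadraticMap.polar, ← map_add]
      have := fun x => g.2 x x
      simp only [Matrix.toLin'_apply]
      rw [show Q (A *ᵥ (u + v)) = Q (u + v) from this _, show Q (A *ᵥ u) = Q u from this _,
        show Q (A *ᵥ v) = Q v from this _]
    have h := congrArg (fun B => (LinearMap.BilinForm.toMatrix' B).det) hc
    simp only [LinearMap.BilinForm.toMatrix'_comp, LinearMap.toMatrix'_toLin', Matrix.det_mul,
      Matrix.det_transpose, ← hM] at h
    have h1 : A.det * A.det = 1 := mul_left_cancel₀ hdet (by linear_combination h)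
    exact mul_self_eq_one_iff.1 h1
  · rintro ⟨v, hv⟩
    obtain ⟨h1, -, -, h4⟩ := S0784.result Q v hv
    exact ⟨⟨Matrix.GeneralLinearGroup.mkOfDetNeZero (Cfsg.reflectionMatrix ⇑Q v) (by rw [h4]; simp),
      fun x _ => h1 x⟩, h4⟩

end Cfsg.Agent.S0785
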