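import Cfsg.Statements.S0787
import Cfsg.Agent.Lib.Spinor.Rows

set_option autoImplicit false
open Cfsg

namespace Cfsg.Agent.S0787

/-- Existence and uniqueness of Ω: if F is finite, n ≥ 2, Q is a quadratic form on F^n with non-degenerate polar form and (|F|, n) ≠ (2, 4), then the group of isometries of determinant one has a unique subgroup of index 2. -/
theorem result {F : Type*} [Field F] [Fintype F] {n : ℕ} (hn : 2 ≤ n) (Q : QuadraticForm F (Fin n → F)) (hQ : (QuadraticMap.polarBilin Q).Nondegenerate) (h : Fintype.card F ≠ 2 ∨ n ≠ 4) : ∃! H : Subgroup ↥(Cfsg.specialIsometryGroup F ⇑Q), H.index = 2 := by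
  classical
  have hexc : Fintype.card F ≠ 2 ∨ Fintype.card (Fin n) ≠ 4 := by rw [Fintype.card_fin]; exact h
  have hcontains : ∀ H : Subgroup ↥(Cfsg.specialIsometryGroup F ⇑Q), H.index = 2 →
      Cfsg.Omega F ⇑Q ≤ H.map (Cfsg.specialIsometryGroup F ⇑Q).subtype := fun H hH =>
    OrthRows.omega_le_of_sq hQ hexc fun x hx =>
      ⟨⟨x, hx⟩ * ⟨x, hx⟩, Subgroup.mul_self_mem_of_index_two hH _, rfl⟩
  have hn' : 2 ≤ Fintype.card (Fin n) := by rw [Fintype.card_fin]; exact hn
  obtain ⟨a, ha⟩ := OrthRows.exists_norm_all hQ hn' (one_ne_zero (α := F))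
  have ha0 : Q a ≠ 0 := ha.symm ▸ one_ne_zero
  by_cases h2 : (2 : F) = 0
  · refine OrthRows.existsUnique_index_two ((OrthRows.dk hQ hexc).comp (Cfsg.specialIsometryGroup F ⇑Q).subtype) ?_ ?_
    · intro e
      rcases Int.units_eq_one_or e with rfl | rfl
      · exact ⟨1, map_one _⟩
      · exact ⟨⟨OrthRows.rf Q a ha0, by rw [OrthRows.special_eq_top_even hQ hexc h2]; trivial⟩,
          OrthRows.dk_rf hQ hexc ha0⟩
    · intro H hH x hx
      obtain ⟨y, hy, e⟩ := hcontains H hH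
        ((OrthRows.mem_omega hQ hexc).2 ⟨hx, Spinor.spin_eq_one_of_two_eq_zero hQ h2 _⟩)
      rwa [← Subtype.ext e]
  · refine OrthRows.existsUnique_index_two ((OrthRows.sp hQ hexc).comp (Cfsg.specialIsometryGroup F ⇑Q).subtype) ?_ ?_
    · obtain ⟨d, hd, hdn⟩ := Spinor.exists_nonsquare h2
      obtain ⟨b, hb⟩ := OrthRows.exists_norm_all hQ hn' hd
      have hb0 : Q b ≠ 0 := hb.symm ▸ hd
      intro e
      rcases Int.units_eq_one_or e with rfl | rfl
      · exact ⟨1, map_one _⟩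
      · refine ⟨⟨_, OrthRows.rf_mul_rf_mem ha0 hb0⟩, ?_⟩
        show OrthRows.sp hQ hexc (_ * _) = _
        rw [map_mul, OrthRows.sp_rf hQ hexc, OrthRows.sp_rf hQ hexc, ha, hb, if_pos IsSquare.one,
          if_neg hdn, one_mul]
    · intro H hH x hx
      obtain ⟨y, hy, e⟩ := hcontains H hH
        ((OrthRows.mem_omega hQ hexc).2 ⟨(OrthRows.dk_special_odd hQ hexc h2).1 x.2, hx⟩)
      rwa [← Subtype.ext e]

end Cfsg.Agent.S0787
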