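import Cfsg.Statements.S0788
import Cfsg.Agent.Lib.Spinor.Rows

set_option autoImplicit false
open Cfsg

namespace Cfsg.Agent.S0788

/-- Ω has index 4 in O for q odd: if F is finite of odd characteristic, n ≥ 2 and Q is a quadratic form on F^n with non-degenerate polar form, then the commutator subgroup of the isometry group of Q (the group Ω of our definitions) has index 4 in it. -/
theorem result {F : Type*} [Field F] [Fintype F] (h2 : (2 : F) ≠ 0) {n : ℕ} (hn : 2 ≤ n) (Q : QuadraticForm F (Fin n → F)) (hQ : (QuadraticMap.polarBilin Q).Nondegenerate) : (Cfsg.Omega F ⇑Q).index = 4 := by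
  classical
  have hexc : Fintype.card F ≠ 2 ∨ Fintype.card (Fin n) ≠ 4 := Or.inl (Spinor.card_ne_two h2)
  let χ : ↥(Cfsg.isometryGroup F ⇑Q) →* ℤˣ × ℤˣ := (OrthRows.dk hQ hexc).prod (OrthRows.sp hQ hexc)
  have hker : χ.ker = Cfsg.Omega F ⇑Q := by
    ext g
    rw [OrthRows.mem_omega hQ hexc, MonoidHom.mem_ker]
    exact Prod.ext_iff
  have hnorm : ∀ c : F, c ≠ 0 → (-1, if IsSquare c then 1 else -1) ∈ χ.range := by
    intro c hc
    obtain ⟨v, hv⟩ := OrthRows.exists_norm_all hQ (by rw [Fintype.card_fin]; exact hn) hc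
    have hv0 : Q v ≠ 0 := hv.symm ▸ hc
    exact ⟨OrthRows.rf Q v hv0, Prod.ext (OrthRows.dk_rf hQ hexc hv0)
      ((OrthRows.sp_rf hQ hexc hv0).trans (by rw [hv]))⟩
  have hrange : χ.range = ⊤ := by
    have h1 := hnorm 1 one_ne_zero
    rw [if_pos IsSquare.one] at h1
    obtain ⟨d, hd, hdn⟩ := Spinor.exists_nonsquare h2
    have h3 := hnorm d hd
    rw [if_neg hdn] at h3
    rw [eq_top_iff]
    rintro ⟨a, b⟩ -
    rcases Int.units_eq_one_or a with rfl | rfl <;> rcases Int.units_eq_one_or b with rfl | rfl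
    · exact one_mem _
    · exact mul_mem h1 h3
    · exact h1
    · exact h3
  rw [← hker, Subgroup.index_ker, hrange, Subgroup.card_top, Nat.card_eq_fintype_card]
  rfl

end Cfsg.Agent.S0788
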