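import Cfsg.Statements.S0789
import Cfsg.Agent.Lib.Spinor.Rows

set_option autoImplicit false
open Cfsg

namespace Cfsg.Agent.S0789

/-- Ω has index 2 in O for q even: if F is finite of characteristic two, n ≥ 2, Q is a quadratic form on F^n with non-degenerate polar form, and (|F|, n) ≠ (2, 4), then the commutator subgroup of the isometry group of Q has index 2 in it. -/
theorem result {F : Type*} [Field F] [Fintype F] [CharP F 2] {n : ℕ} (hn : 2 ≤ n) (Q : QuadraticForm F (Fin n → F)) (hQ : (QuadraticMap.polarBilin Q).Nondegenerate) (h : Fintype.card F ≠ 2 ∨ n ≠ 4) : (Cfsg.Omega F ⇑Q).index = 2 := by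
  classical
  have hexc : Fintype.card F ≠ 2 ∨ Fintype.card (Fin n) ≠ 4 := by rw [Fintype.card_fin]; exact h
  have h2 : (2 : F) = 0 := CharTwo.two_eq_zero
  have hker : (OrthRows.dk hQ hexc).ker = Cfsg.Omega F ⇑Q := by
    ext g
    rw [OrthRows.mem_omega hQ hexc, MonoidHom.mem_ker]
    exact ⟨fun e => ⟨e, Spinor.spin_eq_one_of_two_eq_zero hQ h2 _⟩, fun e => e.1⟩
  obtain ⟨v, hv⟩ := OrthRows.exists_norm_all hQ (by rw [Fintype.card_fin]; exact hn) (one_ne_zero (α := F))
  have hv0 : Q v ≠ 0 := hv.symm ▸ one_ne_zero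
  have hrange : (OrthRows.dk hQ hexc).range = ⊤ := by
    rw [eq_top_iff]
    intro a _
    rcases Int.units_eq_one_or a with rfl | rfl
    · exact one_mem _
    · exact ⟨_, OrthRows.dk_rf hQ hexc hv0⟩
  rw [← hker, Subgroup.index_ker, hrange, Subgroup.card_top, Nat.card_eq_fintype_card]
  rfl

end Cfsg.Agent.S0789
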