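import Cfsg.Statements.S0790
import Cfsg.Agent.Lib.Spinor.Pairs
import Cfsg.Agent.Lib.Spinor.Plus

set_option autoImplicit false
open Cfsg

namespace Cfsg.Agent.S0790

/-- −1 ∈ Ω⁺_2m(q) iff q^m ≡ 1 (mod 4), for q odd and m ≥ 1 (so that in the other case SO⁺_2m(q) = 2 × Ω⁺_2m(q)). -/
theorem result {F : Type*} [Field F] [Fintype F] {q : ℕ} (hF : Fintype.card F = q) (hodd : Odd q) (m : ℕ) (hm : 1 ≤ m) : (∃ g : ↥(Cfsg.isometryGroup F (Cfsg.quadFormPlus m F)), g ∈ Cfsg.Omega F (Cfsg.quadFormPlus m F) ∧ ((g : Matrix.GeneralLinearGroup (Fin m ⊕ Fin m) F) : Matrix (Fin m ⊕ Fin m) (Fin m ⊕ Fin m) F) = -1) ↔ q ^ m % 4 = 1 := by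
  classical
  have hQf : ⇑(OrthOrder.qPlus m F) = Cfsg.quadFormPlus m F := funext (OrthOrder.qPlus_apply m)
  have key := Spinor.pairs_iff hF hodd (OrthOrder.qPlus m F) (OrthForms.qPlus_nondeg m) hQf (i := m)
    Sum.inl Sum.inr (fun _ => True)
    (fun k => iff_of_true trivial (by rcases k with j | j <;> exact ⟨j, by simp⟩))
    (fun j => by simp [OrthOrder.qPlus_apply, Cfsg.quadFormPlus])
    (fun j => by simp [OrthOrder.qPlus_apply, Cfsg.quadFormPlus])
    (fun j j' _ => by simp [Spinor.polar_qPlus])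
    (fun j j' _ => by simp [Spinor.polar_qPlus])
    (fun j j' => by simp [Spinor.polar_qPlus, Pi.single_apply, eq_comm])
    (fun k hk => absurd trivial hk)
  rw [← key]
  have e : (Matrix.diagonal fun k : Fin m ⊕ Fin m => if True then (-1 : F) else 1) = -1 := by
    ext i j
    by_cases h : i = j <;> simp [h]
  rw [e]

end Cfsg.Agent.S0790
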