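import Cfsg.Statements.S0791
import Cfsg.Agent.Lib.Spinor.Rows
import Cfsg.Agent.Lib.LinearGroups.OrthForms
import Cfsg.Agent.Lib.Spinor.Plus
import Cfsg.Agent.Lib.Discriminant.Gram

set_option autoImplicit false
open Cfsg

namespace Cfsg.Agent.S0791

theorem isSquare_neg_one_pow {F : Type*} [Field F] [Fintype F] (hodd : Odd (Fintype.card F)) (m : ℕ) :
    (IsSquare ((-1 : F) ^ m) ↔ Fintype.card F ^ m % 4 = 1) ∧
      (¬ IsSquare ((-1 : F) ^ m) ↔ Fintype.card F ^ m % 4 = 3) := by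
  have h4 : Fintype.card F % 4 = 1 ∨ Fintype.card F % 4 = 3 := by
    obtain ⟨w, hw⟩ := hodd; omega
  have hq2 : Fintype.card F ^ 2 % 4 = 1 := by
    rcases h4 with e | e <;> rw [Nat.pow_mod, e]
  rcases Nat.even_or_odd m with ⟨k, hk⟩ | ⟨k, hk⟩
  · have e : Fintype.card F ^ m % 4 = 1 := by
      rw [hk, ← two_mul, pow_mul, Nat.pow_mod, hq2, one_pow]
      rfl
    have hs : IsSquare ((-1 : F) ^ m) := ⟨(-1) ^ k, by rw [hk, pow_add]⟩
    exact ⟨iff_of_true hs e, iff_of_false (not_not.2 hs) (by omega)⟩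
  · have e : Fintype.card F ^ m % 4 = Fintype.card F % 4 := by
      rw [hk, pow_succ, pow_mul, Nat.mul_mod, Nat.pow_mod, hq2, one_pow]
      omega
    rw [hk] at e
    rw [hk, pow_succ (-1 : F), pow_mul (-1 : F), neg_one_sq, one_pow, one_mul,
      FiniteField.isSquare_neg_one_iff, e]
    omega

/-- −1 ∈ Ω⁻_2m(q) iff q^m ≡ −1 (mod 4), for q odd and m ≥ 1; for the minus-type form quadFormMinus (m−1) with anisotropic binary part. -/
theorem result {F : Type*} [Field F] [Fintype F] {q : ℕ} (hF : Fintype.card F = q) (hodd : Odd q) (m : ℕ) (hm : 1 ≤ m) (a b : F) (hab : ∀ z₁ z₂ : F, z₁ ^ 2 + a * z₁ * z₂ + b * z₂ ^ 2 = 0 → z₁ = 0 ∧ z₂ = 0) : (∃ g : ↥(Cfsg.isometryGroup F (Cfsg.quadFormMinus (m - 1) F a b)), g ∈ Cfsg.Omega F (Cfsg.quadFormMinus (m - 1) F a b) ∧ ((g : Matrix.GeneralLinearGroup ((Fin (m - 1) ⊕ Fin (m - 1)) ⊕ Fin 2) F) : Matrix ((Fin (m - 1) ⊕ Fin (m - 1)) ⊕ Fin 2) ((Fin (m - 1) ⊕ Fin (m - 1)) ⊕ Fin 2) F) = -1) ↔ q ^ m % 4 = 3 := by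
  classical
  obtain ⟨k, rfl⟩ : ∃ k, m = k + 1 := ⟨m - 1, by omega⟩
  rw [Nat.add_sub_cancel]
  subst hF
  have h2 : (2 : F) ≠ 0 := Disc.two_ne_zero_of_odd hodd
  obtain ⟨Q, hQf, hQ⟩ := OrthForms.exists_qMinus k a b hab
  rw [← hQf]
  obtain ⟨c, rfl⟩ : ∃ c, a = 2 * c := ⟨a / 2, by field_simp⟩
  have hexc : Fintype.card F ≠ 2 ∨ Fintype.card ((Fin k ⊕ Fin k) ⊕ Fin 2) ≠ 4 :=
    Or.inl (Spinor.card_ne_two h2)
  have hQv : ∀ v : (Fin k ⊕ Fin k) ⊕ Fin 2 → F, Q v = (∑ i, v (.inl (.inl i)) * v (.inl (.inr i))) +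
      (v (.inr 0) ^ 2 + 2 * c * v (.inr 0) * v (.inr 1) + b * v (.inr 1) ^ 2) := fun v => by
    rw [hQf]; rfl
  have hpolar : ∀ u v : (Fin k ⊕ Fin k) ⊕ Fin 2 → F, QuadraticMap.polar Q u v =
      (∑ i, (u (.inl (.inl i)) * v (.inl (.inr i)) + v (.inl (.inl i)) * u (.inl (.inr i)))) +
      (2 * u (.inr 0) * v (.inr 0) + 2 * c * (u (.inr 0) * v (.inr 1) + v (.inr 0) * u (.inr 1)) +
        2 * b * u (.inr 1) * v (.inr 1)) := by
    intro u v
    simp only [QuadraticMap.polar, hQv, Pi.add_apply, add_mul, mul_add, Finset.sum_add_distrib]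
    ring
  -- an orthogonal basis
  let B : (Fin k ⊕ Fin k) ⊕ Fin 2 → (Fin k ⊕ Fin k) ⊕ Fin 2 → F :=
    Sum.elim (Sum.elim (fun j => Pi.single (.inl (.inl j)) 1 + Pi.single (.inl (.inr j)) 1)
        (fun j => Pi.single (.inl (.inl j)) 1 - Pi.single (.inl (.inr j)) 1))
      ![Pi.single (.inr 0) 1, Pi.single (.inr 1) 1 - c • Pi.single (.inr 0) 1]
  obtain ⟨ν, hν⟩ : ∃ ν, ν = b - c ^ 2 := ⟨_, rfl⟩
  have hns : ¬ IsSquare (-ν) := by
    rintro ⟨r, hr⟩
    have := hab (-c + r) 1 (by rw [hν] at hr; linear_combination -hr)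
    exact one_ne_zero this.2
  have hν0 : ν ≠ 0 := fun e => hns (by rw [e, neg_zero]; exact ⟨0, (mul_zero 0).symm⟩)
  have hQB : ∀ s, Q (B s) = Sum.elim (Sum.elim (fun _ : Fin k => (1 : F)) fun _ : Fin k => -1) ![1, ν] s := by
    rintro ((j | j) | s)
    · simp [B, hQv, Pi.single_apply]
    · simp [B, hQv, Pi.single_apply]
    · fin_cases s
      · simp [B, hQv]
      · simp [B, hQv, hν]
        ring
  have horth : ∀ s t, s ≠ t → QuadraticMap.polar Q (B s) (B t) = 0 := by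
    rintro ((j | j) | s) ((j' | j') | t) hne
    · have e : j ≠ j' := fun e => hne (e ▸ rfl)
      simp [B, hpolar, Pi.single_apply, Finset.sum_add_distrib, e, e.symm]
    · rcases eq_or_ne j j' with rfl | e
      · simp [B, hpolar, Pi.single_apply, Finset.sum_add_distrib]
      · simp [B, hpolar, Pi.single_apply, Finset.sum_add_distrib, e, e.symm]
    · fin_cases t <;> simp [B, hpolar, Pi.single_apply]
    · rcases eq_or_ne j j' with rfl | e
      · simp [B, hpolar, Pi.single_apply, Finset.sum_add_distrib]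
      · simp [B, hpolar, Pi.single_apply, Finset.sum_add_distrib, e, e.symm]
    · have e : j ≠ j' := fun e => hne (e ▸ rfl)
      simp [B, hpolar, Pi.single_apply, Finset.sum_add_distrib, e, e.symm]
    · fin_cases t <;> simp [B, hpolar, Pi.single_apply]
    · fin_cases s <;> simp [B, hpolar, Pi.single_apply]
    · fin_cases s <;> simp [B, hpolar, Pi.single_apply]
    · fin_cases s <;> fin_cases t
      · exact absurd rfl hne
      · simp [B, hpolar]
        try ring
      · simp [B, hpolar]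
        try ring
      · exact absurd rfl hne
  have hgen := OrthRows.gen_top hQ hexc
  obtain ⟨σ, h1, -, h3, h4'⟩ := Spinor.exists_neg_on hQ hgen B horth Finset.univ (by
    intro s _
    rw [hQB]
    rcases s with (j | j) | s
    · simp
    · simp
    · fin_cases s <;> simp [hν0])
  have hneg : ∀ x, σ.1 x = -x := by
    have key : ∀ s, σ.1 (Pi.single s 1) = -Pi.single s 1 := by
      rintro ((j | j) | s)
      · have ha := h1 (.inl (.inl j)) (Finset.mem_univ _)
        have hb := h1 (.inl (.inr j)) (Finset.mem_univ _)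
        simp only [B, Sum.elim_inl, Sum.elim_inr, map_add, map_sub] at ha hb
        exact smul_right_injective _ h2 (by linear_combination (norm := module) ha + hb)
      · have ha := h1 (.inl (.inl j)) (Finset.mem_univ _)
        have hb := h1 (.inl (.inr j)) (Finset.mem_univ _)
        simp only [B, Sum.elim_inl, Sum.elim_inr, map_add, map_sub] at ha hb
        exact smul_right_injective _ h2 (by linear_combination (norm := module) ha - hb)
      · have ha := h1 (.inr 0) (Finset.mem_univ _)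
        have hb := h1 (.inr 1) (Finset.mem_univ _)
        simp only [B, Sum.elim_inr, Matrix.cons_val_zero, Matrix.cons_val_one, map_sub, map_smul] at ha hb
        fin_cases s
        · exact ha
        · rw [ha] at hb
          show σ.1 (Pi.single (Sum.inr 1) 1) = -Pi.single (Sum.inr 1) 1
          linear_combination (norm := module) hb
    intro x
    rw [← Finset.univ_sum_single x, map_sum, ← Finset.sum_neg_distrib]
    refine Finset.sum_congr rfl fun s _ => ?_
    rw [show Pi.single s (x s) = x s • (Pi.single s (1 : F) : (Fin k ⊕ Fin k) ⊕ Fin 2 → F) by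
      rw [← Pi.single_smul', smul_eq_mul, mul_one], map_smul, key, smul_neg]
  have hd : Spinor.dick σ = 1 := by
    rw [h3, Finset.card_univ, Fintype.card_sum, Fintype.card_sum, Fintype.card_fin, Fintype.card_fin,
      Even.neg_one_pow ⟨k + 1, by omega⟩]
  have hmat : (((FormsLib.oEquiv Q).symm σ).1.1 : Matrix ((Fin k ⊕ Fin k) ⊕ Fin 2) ((Fin k ⊕ Fin k) ⊕ Fin 2) F) = -1 := by
    refine Matrix.ext_iff_mulVec.2 fun x => ?_
    rw [← FormsLib.oEquiv_apply, MulEquiv.apply_symm_apply, hneg, Matrix.neg_mulVec, Matrix.one_mulVec]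
  have hiff : (∃ g : ↥(Cfsg.isometryGroup F ⇑Q), g ∈ Cfsg.Omega F ⇑Q ∧ (g.1.1 : Matrix ((Fin k ⊕ Fin k) ⊕ Fin 2) ((Fin k ⊕ Fin k) ⊕ Fin 2) F) = -1) ↔
      Spinor.spin σ = 1 := by
    constructor
    · rintro ⟨g, hg, hgm⟩
      have : FormsLib.oEquiv Q g = σ := Subtype.ext (LinearEquiv.ext fun x => by
        rw [FormsLib.oEquiv_apply, hgm, hneg, Matrix.neg_mulVec, Matrix.one_mulVec])
      rw [← this]
      exact ((OrthRows.mem_omega hQ hexc).1 hg).2
    · intro e
      refine ⟨_, (OrthRows.mem_omega hQ hexc).2 ⟨?_, ?_⟩, hmat⟩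
      · show Spinor.dick (FormsLib.oEquiv Q _) = 1
        rw [MulEquiv.apply_symm_apply, hd]
      · show Spinor.spin (FormsLib.oEquiv Q _) = 1
        rw [MulEquiv.apply_symm_apply, e]
  rw [hiff, h4']
  simp only [hQB, Fintype.prod_sum_type, Sum.elim_inl, Sum.elim_inr, Finset.prod_const_one, one_mul,
    Finset.prod_const, Finset.card_univ, Fintype.card_fin, Fin.prod_univ_two, Matrix.cons_val_zero,
    Matrix.cons_val_one]
  rw [show (-1 : F) ^ k * ν = (-1) ^ (k + 1) * (-ν) by rw [pow_succ]; ring,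
    Spinor.isSquare_mul_iff' (pow_ne_zero _ (neg_ne_zero.2 one_ne_zero)) (neg_ne_zero.2 hν0),
    iff_false_intro hns, iff_false]
  exact (isSquare_neg_one_pow hodd (k + 1)).2

end Cfsg.Agent.S0791
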