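import Cfsg.Statements.S0792
import Cfsg.Agent.Lib.Spinor.Rows

set_option autoImplicit false
open Cfsg

namespace Cfsg.Agent.S0792

/-- For q odd and Q with non-degenerate polar form on F^n, the determinant-one isometries form the subgroup generated by all products r_u r_v of two reflections (Q(u), Q(v) ≠ 0). -/
theorem result {F : Type*} [Field F] [Fintype F] (h2 : (2 : F) ≠ 0) {n : ℕ} (Q : QuadraticForm F (Fin n → F)) (hQ : (QuadraticMap.polarBilin Q).Nondegenerate) : Cfsg.specialIsometryGroup F ⇑Q = Subgroup.closure {g : ↥(Cfsg.isometryGroup F ⇑Q) | ∃ u v : Fin n → F, Q u ≠ 0 ∧ Q v ≠ 0 ∧ ((g : Matrix.GeneralLinearGroup (Fin n) F) : Matrix (Fin n) (Fin n) F) = Cfsg.reflectionMatrix ⇑Q u * Cfsg.reflectionMatrix ⇑Q v} := by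
  classical
  have hexc : Fintype.card F ≠ 2 ∨ Fintype.card (Fin n) ≠ 4 := Or.inl (Spinor.card_ne_two h2)
  obtain ⟨P, hP⟩ : ∃ P, P = Subgroup.closure {g : ↥(Cfsg.isometryGroup F ⇑Q) | ∃ u v : Fin n → F,
      Q u ≠ 0 ∧ Q v ≠ 0 ∧ ((g : Matrix.GeneralLinearGroup (Fin n) F) : Matrix (Fin n) (Fin n) F) =
        Cfsg.reflectionMatrix ⇑Q u * Cfsg.reflectionMatrix ⇑Q v} := ⟨_, rfl⟩
  rw [← hP]
  refine le_antisymm ?_ ?_
  · intro g hg
    have hpair : ∀ u v (hu : Q u ≠ 0) (hv : Q v ≠ 0), OrthRows.rf Q u hu * OrthRows.rf Q v hv ∈ P :=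
      fun u v hu hv => hP ▸ Subgroup.subset_closure ⟨u, v, hu, hv, by
        rw [Subgroup.coe_mul, Units.val_mul, OrthRows.rf_val, OrthRows.rf_val]⟩
    have key : ∀ g : ↥(Cfsg.isometryGroup F ⇑Q), (OrthRows.dk hQ hexc g = 1 → g ∈ P) ∧
        (OrthRows.dk hQ hexc g = -1 → ∀ a (ha : Q a ≠ 0), OrthRows.rf Q a ha * g ∈ P) := by
      intro g
      have hmem : g ∈ (⊤ : Subgroup ↥(Cfsg.isometryGroup F ⇑Q)) := Subgroup.mem_top g
      rw [← OrthRows.closure_rf hQ hexc] at hmem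
      have step : ∀ x (hx : Q x ≠ 0) y, ((OrthRows.dk hQ hexc y = 1 → y ∈ P) ∧
          (OrthRows.dk hQ hexc y = -1 → ∀ a (ha : Q a ≠ 0), OrthRows.rf Q a ha * y ∈ P)) →
          ((OrthRows.dk hQ hexc (OrthRows.rf Q x hx * y) = 1 → OrthRows.rf Q x hx * y ∈ P) ∧
          (OrthRows.dk hQ hexc (OrthRows.rf Q x hx * y) = -1 →
            ∀ a (ha : Q a ≠ 0), OrthRows.rf Q a ha * (OrthRows.rf Q x hx * y) ∈ P)) := by
        intro x hx y ⟨h1, h3⟩
        rw [map_mul, OrthRows.dk_rf hQ hexc]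
        refine ⟨fun e => h3 (by simpa using neg_eq_iff_eq_neg.1 (by simpa using e)) x hx, fun e a ha => ?_⟩
        rw [← mul_assoc]
        exact mul_mem (hpair a x ha hx) (h1 (by simpa using e))
      induction hmem using Subgroup.closure_induction_left with
      | one => exact ⟨fun _ => one_mem P, fun e => absurd e (by rw [map_one]; decide)⟩
      | mul_left x hx y _ hy =>
        obtain ⟨v, hv, hxv⟩ := hx
        rw [OrthRows.eq_rf hv hxv]
        exact step v hv y hy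
      | inv_mul_cancel x hx y _ hy =>
        obtain ⟨v, hv, hxv⟩ := hx
        rw [OrthRows.eq_rf hv hxv, OrthRows.rf_inv]
        exact step v hv y hy
    exact (key g).1 ((OrthRows.dk_special_odd hQ hexc h2).1 hg)
  · rw [hP, Subgroup.closure_le]
    rintro g ⟨u, v, hu, hv, hg⟩
    have : g = OrthRows.rf Q u hu * OrthRows.rf Q v hv := Subtype.ext (Units.ext (by
      rw [hg, Subgroup.coe_mul, Units.val_mul, OrthRows.rf_val, OrthRows.rf_val]))
    rw [this]
    exact OrthRows.rf_mul_rf_mem hu hv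

end Cfsg.Agent.S0792
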