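import Cfsg.Statements.S0794
import Cfsg.Agent.Lib.Spinor.Rows
import Cfsg.Agent.S0793

set_option autoImplicit false
open Cfsg

namespace Cfsg.Agent.S0794

/-- For q odd, n ≥ 5 and Q with non-degenerate polar form: an isometry whose matrix is a Siegel transformation T_(u,v)(c) (u, v singular and orthogonal) is a commutator in the isometry group, so lies in Ω. -/
theorem result {F : Type*} [Field F] [Fintype F] (h2 : (2 : F) ≠ 0) {n : ℕ} (hn : 5 ≤ n) (Q : QuadraticForm F (Fin n → F)) (hQ : (QuadraticMap.polarBilin Q).Nondegenerate) (u v : Fin n → F) (hu : Q u = 0) (hv : Q v = 0) (huv : QuadraticMap.polar ⇑Q u v = 0) (c : F) (g : ↥(Cfsg.isometryGroup F ⇑Q)) (hg : ((g : Matrix.GeneralLinearGroup (Fin n) F) : Matrix (Fin n) (Fin n) F) = Cfsg.siegelMatrix ⇑Q u v c) : g ∈ commutatorSet ↥(Cfsg.isometryGroup F ⇑Q) ∧ g ∈ Cfsg.Omega F ⇑Q := by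
  classical
  have hexc : Fintype.card F ≠ 2 ∨ Fintype.card (Fin n) ≠ 4 := Or.inl (Spinor.card_ne_two h2)
  suffices hs : g ∈ commutatorSet ↥(Cfsg.isometryGroup F ⇑Q) by
    refine ⟨hs, ?_⟩
    obtain ⟨x, y, rfl⟩ := hs
    exact Subgroup.commutator_mem_commutator (Subgroup.mem_top x) (Subgroup.mem_top y)
  have hB : ∀ a x : Fin n → F, Cfsg.polarVec (⇑Q) a ⬝ᵥ x = QuadraticMap.polar Q a x := fun a x => by
    rw [FormsLib.polarVec_dotProduct, QuadraticMap.polar_comm]
  have hmv : ∀ c x, (Cfsg.siegelMatrix ⇑Q u v c).mulVec x =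
      x + (c * QuadraticMap.polar Q u x) • v + (-(c * QuadraticMap.polar Q v x)) • u := by
    intro c x
    rw [Cfsg.siegelMatrix, Matrix.add_mulVec, Matrix.one_mulVec, Matrix.smul_mulVec, Matrix.sub_mulVec,
      Matrix.vecMulVec_mulVec, Matrix.vecMulVec_mulVec, hB, hB, op_smul_eq_smul, op_smul_eq_smul]
    module
  by_cases hli : LinearIndependent F ![u, v]
  swap
  · -- dependent vectors give the identity
    have hone : g = 1 := by
      refine Subtype.ext (Units.ext (Matrix.ext_iff_mulVec.2 fun x => ?_))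
      rw [hg, hmv]
      show _ = (1 : Matrix (Fin n) (Fin n) F).mulVec x
      rw [Matrix.one_mulVec, LinearIndependent.pair_iff] at *
      push Not at hli
      obtain ⟨s, t, hst, hne⟩ := hli
      by_cases ht : t = 0
      · subst ht
        have hs : s ≠ 0 := fun e => hne e rfl
        rw [zero_smul, add_zero, smul_eq_zero] at hst
        rw [hst.resolve_left hs]
        simp [QuadraticMap.polar_zero_left]
      · have hvu : v = (-(t⁻¹ * s)) • u := by
          rw [← smul_right_inj ht, smul_smul, show t * -(t⁻¹ * s) = -s by field_simp, neg_smul]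
          exact eq_neg_of_add_eq_zero_right hst
        rw [hvu, QuadraticMap.polar_smul_left]
        simp only [smul_eq_mul]
        module
    rw [hone]
    exact ⟨1, 1, commutatorElement_self 1⟩
  -- an isometry with `u ↦ -u`, `v ↦ v`
  let b := Module.Basis.span hli
  let φ : ↥(Submodule.span F (Set.range ![u, v])) →ₗ[F] (Fin n → F) := b.constr F ![-u, v]
  have hφ : ∀ x : ↥(Submodule.span F (Set.range ![u, v])),
      (x : Fin n → F) = (b.repr x 0) • u + (b.repr x 1) • v ∧
      φ x = (b.repr x 0) • (-u) + (b.repr x 1) • v := by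
    intro x
    constructor
    · conv_lhs => rw [← b.sum_repr x]
      simp [b, Fin.sum_univ_two, Module.Basis.span_apply]
    · show b.constr F ![-u, v] x = _
      rw [Module.Basis.constr_apply_fintype (S := F)]
      simp [Fin.sum_univ_two, Module.Basis.equivFun_apply]
  have hQab : ∀ a a' : F, Q (a • u + a' • v) = 0 := fun a a' => by
    rw [QuadraticMap.map_add Q, QuadraticMap.map_smul, QuadraticMap.map_smul, QuadraticMap.polar_smul_left,
      QuadraticMap.polar_smul_right, hu, hv, huv]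
    simp
  obtain ⟨h, hh, hhφ⟩ := FormsLib.quad_witt hQ _ φ (by
    intro x y e
    rw [(hφ x).2, (hφ y).2] at e
    rw [LinearIndependent.pair_iff] at hli
    have e2 : -(b.repr x 0 - b.repr y 0) = 0 ∧ b.repr x 1 - b.repr y 1 = 0 :=
      hli _ _ (by linear_combination (norm := module) e)
    refine Subtype.ext ?_
    rw [(hφ x).1, (hφ y).1, sub_eq_zero.1 (neg_eq_zero.1 e2.1), sub_eq_zero.1 e2.2])
    (fun x => by rw [(hφ x).1, (hφ x).2, smul_neg, ← neg_smul, hQab, hQab])
  have hhu : h u = -u := by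
    rw [hhφ ⟨u, Submodule.subset_span ⟨0, rfl⟩⟩]
    have : (⟨u, Submodule.subset_span ⟨0, rfl⟩⟩ : ↥(Submodule.span F (Set.range ![u, v]))) = b 0 :=
      (Module.Basis.span_apply hli 0).symm
    rw [this]
    simp [φ]
  have hhv : h v = v := by
    rw [hhφ ⟨v, Submodule.subset_span ⟨1, rfl⟩⟩]
    have : (⟨v, Submodule.subset_span ⟨1, rfl⟩⟩ : ↥(Submodule.span F (Set.range ![u, v]))) = b 1 :=
      (Module.Basis.span_apply hli 1).symm
    rw [this]
    simp [φ]
  obtain ⟨hiso, -, hadd⟩ := S0793.result Q u v hu hv huv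
  have h0 : Cfsg.siegelMatrix ⇑Q u v 0 = 1 := by simp [Cfsg.siegelMatrix]
  let T : F → ↥(Cfsg.isometryGroup F ⇑Q) := fun e =>
    ⟨⟨Cfsg.siegelMatrix ⇑Q u v e, Cfsg.siegelMatrix ⇑Q u v (-e), by rw [hadd, add_neg_cancel, h0],
      by rw [hadd, neg_add_cancel, h0]⟩, fun x _ => hiso e x⟩
  let H : ↥(Cfsg.isometryGroup F ⇑Q) := (FormsLib.oEquiv Q).symm ⟨h, hh⟩
  have hTv : ∀ e x, (FormsLib.oEquiv Q (T e)).1 x =
      x + (e * QuadraticMap.polar Q u x) • v + (-(e * QuadraticMap.polar Q v x)) • u := fun e x => hmv e x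
  have hTinv : ∀ e, (T e)⁻¹ = T (-e) := fun e => Subtype.ext (Units.ext rfl)
  refine ⟨H, T (-c / 2), ?_⟩
  have hconj : H * T (-c / 2) * H⁻¹ = T (c / 2) := by
    rw [mul_inv_eq_iff_eq_mul]
    refine (FormsLib.oEquiv Q).injective (Subtype.ext (LinearEquiv.ext fun x => ?_))
    rw [map_mul, map_mul, Subgroup.coe_mul, Subgroup.coe_mul, LinearEquiv.mul_apply, LinearEquiv.mul_apply,
      MulEquiv.apply_symm_apply]
    show h ((FormsLib.oEquiv Q (T (-c / 2))).1 x) = (FormsLib.oEquiv Q (T (c / 2))).1 (h x)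
    rw [hTv, hTv, map_add, map_add, map_smul, map_smul, hhu, hhv]
    have p1 : QuadraticMap.polar Q u (h x) = - QuadraticMap.polar Q u x := by
      rw [← FormsLib.polar_of_mem hh u x, hhu, QuadraticMap.polar_neg_left, neg_neg]
    have p2 : QuadraticMap.polar Q v (h x) = QuadraticMap.polar Q v x := by
      rw [← FormsLib.polar_of_mem hh v x, hhv]
    rw [p1, p2]
    module
  rw [commutatorElement_def, hconj, hTinv]
  refine Subtype.ext (Units.ext ?_)
  show Cfsg.siegelMatrix ⇑Q u v _ * Cfsg.siegelMatrix ⇑Q u v _ = _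
  rw [hadd, hg]
  congr 1
  field_simp
  ring

end Cfsg.Agent.S0794
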