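import Cfsg.Statements.S0795
import Cfsg.Agent.S0794
import Cfsg.Agent.Lib.Spinor.Classify

set_option autoImplicit false
open Cfsg

namespace Cfsg.Agent.S0795

/-- Generation of Ω by root elements: for q odd, n ≥ 5 and Q with non-degenerate polar form on F^n, the commutator subgroup of the isometry group equals the subgroup generated by the isometries whose matrices are Siegel transformations T_(u,v)(c) with u, v singular and orthogonal. -/
theorem result {F : Type*} [Field F] [Fintype F] (h2 : (2 : F) ≠ 0) {n : ℕ} (hn : 5 ≤ n) (Q : QuadraticForm F (Fin n → F)) (hQ : (QuadraticMap.polarBilin Q).Nondegenerate) : Cfsg.Omega F ⇑Q = Subgroup.closure {g : ↥(Cfsg.isometryGroup F ⇑Q) | ∃ (u v : Fin n → F) (c : F), Q u = 0 ∧ Q v = 0 ∧ QuadraticMap.polar ⇑Q u v = 0 ∧ ((g : Matrix.GeneralLinearGroup (Fin n) F) : Matrix (Fin n) (Fin n) F) = Cfsg.siegelMatrix ⇑Q u v c} := by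
  classical
  have hexc : Fintype.card F ≠ 2 ∨ Fintype.card (Fin n) ≠ 4 := Or.inl (Spinor.card_ne_two h2)
  obtain ⟨G, hG⟩ : ∃ G, G = Subgroup.closure {g : ↥(Cfsg.isometryGroup F ⇑Q) | ∃ (u v : Fin n → F) (c : F),
      Q u = 0 ∧ Q v = 0 ∧ QuadraticMap.polar ⇑Q u v = 0 ∧
      ((g : Matrix.GeneralLinearGroup (Fin n) F) : Matrix (Fin n) (Fin n) F) = Cfsg.siegelMatrix ⇑Q u v c} :=
    ⟨_, rfl⟩
  rw [← hG]
  refine le_antisymm ?_ (hG ▸ (Subgroup.closure_le _).2 ?_)
  swap
  · rintro g ⟨u, v, c, hu, hv, huv, hg⟩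
    exact (S0794.result h2 hn Q hQ u v hu hv huv c g hg).2
  obtain ⟨B, hB⟩ : ∃ B, B = QuadraticMap.polarBilin Q := ⟨_, rfl⟩
  have hp : ∀ x y, B x y = QuadraticMap.polar Q x y := fun x y => by rw [hB]; rfl
  have hcomm : ∀ x y, B x y = B y x := fun x y => by rw [hp, hp, QuadraticMap.polar_comm]
  have hself : ∀ x, B x x = 2 * Q x := fun x => by rw [hp, FormsLib.polar_self']
  have hadd : ∀ x y, Q (x + y) = Q x + Q y + B x y := fun x y => by rw [hp, FormsLib.quad_add]
  have hsmul : ∀ (a : F) x, Q (a • x) = a * a * Q x := fun a x => by rw [QuadraticMap.map_smul]; rfl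
  -- Siegel transformations
  let ev : ↥(Cfsg.isometryGroup F ⇑Q) → (Fin n → F) → (Fin n → F) := fun g x => (FormsLib.oEquiv Q g).1 x
  have hev : ∀ g x, ev g x = Matrix.mulVec (g.1 : Matrix (Fin n) (Fin n) F) x := fun g x =>
    FormsLib.oEquiv_apply Q g x
  have hev_mul : ∀ g g' x, ev (g * g') x = ev g (ev g' x) := fun g g' x => by
    simp only [ev, map_mul]; rfl
  have hext : ∀ g g', (∀ x, ev g x = ev g' x) → g = g' := fun g g' h =>
    (FormsLib.oEquiv Q).injective (Subtype.ext (LinearEquiv.ext h))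
  have hiso : ∀ g x, Q (ev g x) = Q x := fun g x => (FormsLib.oEquiv Q g).2 x
  have hBiso : ∀ g x y, B (ev g x) (ev g y) = B x y := fun g x y => by
    rw [hp, hp]; exact FormsLib.polar_of_mem (FormsLib.oEquiv Q g).2 x y
  have hsv : ∀ u v c x, (Cfsg.siegelMatrix ⇑Q u v c).mulVec x = x + (c * B u x) • v + (-(c * B v x)) • u := by
    intro u v c x
    rw [Cfsg.siegelMatrix, Matrix.add_mulVec, Matrix.one_mulVec, Matrix.smul_mulVec, Matrix.sub_mulVec,
      Matrix.vecMulVec_mulVec, Matrix.vecMulVec_mulVec, op_smul_eq_smul, op_smul_eq_smul,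
      FormsLib.polarVec_dotProduct, FormsLib.polarVec_dotProduct, ← hp, ← hp, hcomm x u, hcomm x v]
    module
  let eF : (Fin n → F) → (Fin n → F) → (Fin n → F) → (Fin n → F) := fun u w x =>
    x + B u x • w - (B w x + Q w * B u x) • u
  have eF_add : ∀ u w w' x, Q u = 0 → B u w = 0 → B u w' = 0 → eF u w (eF u w' x) = eF u (w + w') x := by
    intro u w w' x hu hw hw'
    simp only [eF, map_add, map_sub, map_smul, smul_eq_mul, hw', hcomm w u, hw,
      show B u u = 0 by rw [hself, hu, mul_zero], hadd w w', LinearMap.add_apply]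
    module
  obtain ⟨Good, hGood⟩ : ∃ Good : (Fin n → F) → (Fin n → F) → Prop,
      ∀ u w, Good u w ↔ ∃ g ∈ G, ∀ x, ev g x = eF u w x := ⟨_, fun u w => Iff.rfl⟩
  have good_sing : ∀ u w, Q u = 0 → Q w = 0 → B u w = 0 → Good u w := by
    intro u w hu hw huw
    obtain ⟨hiso', -, hadd'⟩ := S0793.result Q u w hu hw (by rw [← hp]; exact huw)
    have h0 : Cfsg.siegelMatrix ⇑Q u w 0 = 1 := by simp [Cfsg.siegelMatrix]
    let g : ↥(Cfsg.isometryGroup F ⇑Q) :=
      ⟨⟨Cfsg.siegelMatrix ⇑Q u w 1, Cfsg.siegelMatrix ⇑Q u w (-1), by rw [hadd', add_neg_cancel, h0],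
        by rw [hadd', neg_add_cancel, h0]⟩, fun x _ => hiso' 1 x⟩
    refine (hGood u w).2 ⟨g, hG ▸ Subgroup.subset_closure ⟨u, w, 1, hu, hw, by rw [← hp]; exact huw, rfl⟩,
      fun x => ?_⟩
    rw [hev]
    show (Cfsg.siegelMatrix ⇑Q u w 1).mulVec x = _
    rw [hsv]
    simp only [eF, hw, zero_mul, add_zero, one_mul]
    module
  have good_all : ∀ u w, u ≠ 0 → Q u = 0 → B u w = 0 → Good u w := by
    intro u w hu0 hu huw
    have gadd : ∀ w w', B u w = 0 → B u w' = 0 → Good u w → Good u w' → Good u (w + w') := by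
      intro w w' hw hw' h1 h3
      obtain ⟨g, hg, eg⟩ := (hGood _ _).1 h1
      obtain ⟨g', hg', eg'⟩ := (hGood _ _).1 h3
      exact (hGood _ _).2 ⟨g * g', mul_mem hg hg', fun x => by rw [hev_mul, eg, eg', eF_add u w w' x hu hw hw']⟩
    have htop := Spinor.top_inf_orth hQ
    obtain ⟨f, -, hf, huf⟩ := Spinor.exists_pair htop Submodule.mem_top hu0 hu
    have huu : B u u = 0 := by rw [hself, hu, mul_zero]
    have hff : B f f = 0 := by rw [hself, hf, mul_zero]
    rw [← hp] at huf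
    obtain ⟨W, hW⟩ : ∃ W, W = Submodule.span F (Set.range ![u, f]) := ⟨_, rfl⟩
    obtain ⟨H, hH⟩ : ∃ H, H = LinearMap.BilinForm.orthogonal (QuadraticMap.polarBilin Q) W := ⟨_, rfl⟩
    have hWn : W ⊓ LinearMap.BilinForm.orthogonal (QuadraticMap.polarBilin Q) W = ⊥ := by
      rw [Submodule.eq_bot_iff]
      rintro x ⟨hx, hx'⟩
      obtain ⟨c, rfl⟩ := Submodule.mem_span_range_iff_exists_fun F |>.1 (hW ▸ hx)
      have h1 : B u (∑ i, c i • ![u, f] i) = 0 := by
        rw [hB]; exact hx' u (hW ▸ Submodule.subset_span ⟨0, rfl⟩)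
      have h3 : B f (∑ i, c i • ![u, f] i) = 0 := by
        rw [hB]; exact hx' f (hW ▸ Submodule.subset_span ⟨1, rfl⟩)
      simp [Fin.sum_univ_two, huu, hff, huf, hcomm f u] at h1 h3
      simp [Fin.sum_univ_two, h1, h3]
    have hHn := Spinor.orth_nondeg hQ hWn
    rw [← hH] at hHn
    have hHd : 3 ≤ Module.finrank F H := by
      rw [hH, Spinor.finrank_orth hQ, Module.finrank_fin_fun]
      have : Module.finrank F W ≤ 2 := hW ▸ (finrank_range_le_card ![u, f]).trans (by simp)
      omega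
    obtain ⟨z, hz, hz0, hQz⟩ := Spinor.exists_singular hHn hHd
    obtain ⟨z', hz', hQz', hzz'⟩ := Spinor.exists_pair hHn hz hz0 hQz
    rw [← hp] at hzz'
    have hHu : ∀ x ∈ H, B u x = 0 ∧ B f x = 0 := fun x hx => by
      rw [hH] at hx
      rw [hB]
      exact ⟨hx u (hW ▸ Submodule.subset_span ⟨0, rfl⟩), hx f (hW ▸ Submodule.subset_span ⟨1, rfl⟩)⟩
    have gsing : ∀ x ∈ H, Q x = 0 → Good u x := fun x hx hQx => good_sing u x hu hQx (hHu x hx).1
    have gne : ∀ x ∈ H, B z x ≠ 0 → Good u x := by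
      intro x hx hzx
      obtain ⟨a, ha⟩ : ∃ a, a = Q x / B z x := ⟨_, rfl⟩
      have e : x = (x + (-a) • z) + a • z := by module
      rw [e]
      refine gadd _ _ ?_ ?_ (gsing _ (H.add_mem hx (H.smul_mem _ hz)) ?_) (gsing _ (H.smul_mem _ hz) ?_)
      · exact (hHu _ (H.add_mem hx (H.smul_mem _ hz))).1
      · exact (hHu _ (H.smul_mem _ hz)).1
      · rw [hadd, hsmul, hQz, map_smul, hcomm x z, ha, smul_eq_mul]
        field_simp
        ring
      · rw [hsmul, hQz, mul_zero]
    have gH : ∀ x ∈ H, Good u x := by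
      intro x hx
      by_cases hzx : B z x ≠ 0
      · exact gne x hx hzx
      · push Not at hzx
        rw [show x = (x + z') + -z' by abel]
        refine gadd _ _ (hHu _ (H.add_mem hx hz')).1 (hHu _ (H.neg_mem hz')).1
          (gne _ (H.add_mem hx hz') (by rw [map_add, hzx, zero_add, hzz']; exact one_ne_zero))
          (gne _ (H.neg_mem hz') (by rw [map_neg, hzz']; exact neg_ne_zero.2 one_ne_zero))
    have hsplit : w - B f w • u ∈ H := by
      rw [hH]
      intro y hy
      obtain ⟨c, rfl⟩ := Submodule.mem_span_range_iff_exists_fun F |>.1 (hW ▸ hy)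
      show QuadraticMap.polarBilin Q _ _ = 0
      rw [← hB]
      simp [Fin.sum_univ_two, huu, hff, huf, hcomm f u, huw]
    rw [show w = (w - B f w • u) + B f w • u by abel]
    refine gadd _ _ (hHu _ hsplit).1 (by rw [map_smul, huu, smul_zero]) (gH _ hsplit)
      (good_sing u _ hu (by rw [hsmul, hu, mul_zero]) (by rw [map_smul, huu, smul_zero]))
  -- transitivity
  have trans : ∀ x y, Q x = Q y → Q x ≠ 0 → ∃ g ∈ G, ev g x = y := by
    obtain ⟨e, -, he0, hQe⟩ := Spinor.exists_singular (Spinor.top_inf_orth hQ) (W := ⊤)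
      (by rw [finrank_top, Module.finrank_fin_fun]; omega)
    obtain ⟨f, -, hQf, hef⟩ := Spinor.exists_pair (Spinor.top_inf_orth hQ) Submodule.mem_top he0 hQe
    rw [← hp] at hef
    have hee : B e e = 0 := by rw [hself, hQe, mul_zero]
    have hff : B f f = 0 := by rw [hself, hQf, mul_zero]
    have hfe : B f e = 1 := by rw [hcomm, hef]
    have hf0 : f ≠ 0 := fun h => by simp [h] at hef
    obtain ⟨W, hW⟩ : ∃ W, W = Submodule.span F (Set.range ![e, f]) := ⟨_, rfl⟩
    obtain ⟨H, hH⟩ : ∃ H, H = LinearMap.BilinForm.orthogonal (QuadraticMap.polarBilin Q) W := ⟨_, rfl⟩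
    have hWn : W ⊓ LinearMap.BilinForm.orthogonal (QuadraticMap.polarBilin Q) W = ⊥ := by
      rw [Submodule.eq_bot_iff]
      rintro x ⟨hx, hx'⟩
      obtain ⟨c, rfl⟩ := Submodule.mem_span_range_iff_exists_fun F |>.1 (hW ▸ hx)
      have h1 : B e (∑ i, c i • ![e, f] i) = 0 := by
        rw [hB]; exact hx' e (hW ▸ Submodule.subset_span ⟨0, rfl⟩)
      have h3 : B f (∑ i, c i • ![e, f] i) = 0 := by
        rw [hB]; exact hx' f (hW ▸ Submodule.subset_span ⟨1, rfl⟩)
      simp [Fin.sum_univ_two, hee, hff, hef, hfe] at h1 h3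
      simp [Fin.sum_univ_two, h1, h3]
    have hHn := Spinor.orth_nondeg hQ hWn
    rw [← hH] at hHn
    have hHd : 3 ≤ Module.finrank F H := by
      rw [hH, Spinor.finrank_orth hQ, Module.finrank_fin_fun]
      have : Module.finrank F W ≤ 2 := hW ▸ (finrank_range_le_card ![e, f]).trans (by simp)
      omega
    have hmem : ∀ x, x ∈ H ↔ B e x = 0 ∧ B f x = 0 := fun x => by
      rw [hH, hB]
      constructor
      · intro hx
        exact ⟨hx e (hW ▸ Submodule.subset_span ⟨0, rfl⟩), hx f (hW ▸ Submodule.subset_span ⟨1, rfl⟩)⟩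
      · rintro ⟨h1, h3⟩ y hy
        obtain ⟨c, rfl⟩ := Submodule.mem_span_range_iff_exists_fun F |>.1 (hW ▸ hy)
        show QuadraticMap.polarBilin Q _ _ = 0
        simp only [Fin.sum_univ_two, map_add, map_smul, LinearMap.add_apply, LinearMap.smul_apply,
          Matrix.cons_val_zero, Matrix.cons_val_one, h1, h3, smul_zero, add_zero]
    -- reachability
    have R : ∀ x g, g ∈ G → (∃ g' ∈ G, ev g' (ev g x) = e + Q x • f) → ∃ g' ∈ G, ev g' x = e + Q x • f :=
      fun x g hg ⟨g', hg', h⟩ => ⟨g' * g, mul_mem hg' hg, by rw [hev_mul, h]⟩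
    have cl : ∀ (α β : F) h, h ∈ H → α ≠ 0 → ∃ g ∈ G, ev g (α • e + β • f + h) = α • e + ((α * β + Q h) / α) • f := by
      intro α β h hh hα
      obtain ⟨h1, h3⟩ := (hmem h).1 hh
      obtain ⟨g, hg, eg⟩ := (hGood _ _).1 (good_all f (-(α⁻¹ • h)) hf0 hQf (by simp [h3]))
      refine ⟨g, hg, ?_⟩
      rw [eg]
      simp only [eF, map_add, map_smul, map_neg, LinearMap.neg_apply, LinearMap.smul_apply, smul_eq_mul,
        hfe, hff, h3, hcomm h e, hcomm h f, h1, hself h, QuadraticMap.map_neg, hsmul, mul_zero, add_zero,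
        zero_add, mul_one]
      rw [show ((α * β + Q h) / α) = β + α⁻¹ * Q h by field_simp]
      match_scalars <;> field_simp <;> ring
    have key : ∀ (α β : F) h, h ∈ H → α ≠ 0 → Q (α • e + β • f + h) ≠ 0 →
        ∃ g ∈ G, ev g (α • e + β • f + h) = e + Q (α • e + β • f + h) • f := by
      intro α β h hh hα hQ0
      obtain ⟨h1, h3⟩ := (hmem h).1 hh
      have hQx : Q (α • e + β • f + h) = α * β + Q h := by
        simp only [hadd, hsmul, map_add, map_smul, LinearMap.add_apply, LinearMap.smul_apply, smul_eq_mul,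
          hef, h1, h3, hQe, hQf]
        ring
      obtain ⟨a, ha⟩ : ∃ a, a = Q (α • e + β • f + h) := ⟨_, rfl⟩
      rw [← ha] at hQ0 hQx ⊢
      obtain ⟨g₁, hg₁, e₁⟩ := cl α β h hh hα
      rw [← hQx] at e₁
      obtain ⟨w, hw, hQw⟩ := Spinor.exists_norm (Q := Q) hHn (Or.inl (by omega))
        (c := a / α / α) (div_ne_zero (div_ne_zero hQ0 hα) hα)
      obtain ⟨w1, w3⟩ := (hmem w).1 hw
      obtain ⟨g₂, hg₂, e₂⟩ := (hGood _ _).1 (good_all f w hf0 hQf w3)
      have e₂' : ev g₂ (α • e + (a / α) • f) = α • e + α • w := by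
        rw [e₂]
        simp only [eF, map_add, map_smul, smul_eq_mul, hfe, hff, hcomm w e, hcomm w f, w1, w3, hQw,
          mul_zero, add_zero, mul_one, zero_add]
        match_scalars <;> field_simp <;> ring
      obtain ⟨p, hp', hwp⟩ : ∃ p ∈ H, B w p ≠ 0 := by
        by_contra hc
        push Not at hc
        have : w = 0 := (Submodule.eq_bot_iff _).1 hHn w ⟨hw, fun y hy => by
          show QuadraticMap.polarBilin Q y w = 0
          rw [← hB, hcomm]; exact hc y hy⟩
        rw [this, QuadraticMap.map_zero] at hQw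
        exact div_ne_zero (div_ne_zero hQ0 hα) hα hQw.symm
      obtain ⟨w', hw'd⟩ : ∃ w', w' = ((α - 1) / (α * B w p)) • p := ⟨_, rfl⟩
      have hw' : w' ∈ H := hw'd ▸ H.smul_mem _ hp'
      obtain ⟨v1, v3⟩ := (hmem w').1 hw'
      obtain ⟨g₃, hg₃, e₃⟩ := (hGood _ _).1 (good_all e w' he0 hQe v1)
      have e₃' : ev g₃ (α • e + α • w) = (1 : F) • e + (0 : F) • f + α • w := by
        rw [e₃]
        have hv : α * B w' w = α - 1 := by
          rw [hw'd, map_smul, LinearMap.smul_apply, hcomm p w, smul_eq_mul]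
          field_simp
        simp only [eF, map_add, map_smul, smul_eq_mul, hee, w1, hcomm w' e, v1, mul_zero, add_zero, zero_add, hv]
        module
      obtain ⟨g₄, hg₄, e₄⟩ := cl 1 0 (α • w) (H.smul_mem _ hw) one_ne_zero
      refine ⟨g₄ * (g₃ * (g₂ * g₁)), mul_mem hg₄ (mul_mem hg₃ (mul_mem hg₂ hg₁)), ?_⟩
      rw [hev_mul, hev_mul, hev_mul, e₁, e₂', e₃', e₄, hsmul, hQw, one_smul]
      congr 2
      field_simp
      ring
    have std : ∀ x, Q x ≠ 0 → ∃ g ∈ G, ev g x = e + Q x • f := by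
      intro x hx
      obtain ⟨α, β, h, hh, rfl⟩ : ∃ α β h, h ∈ H ∧ α • e + β • f + h = x :=
        ⟨B f x, B e x, x - B f x • e - B e x • f, (hmem _).2 ⟨by simp [hee, hef], by simp [hff, hfe]⟩,
          by abel⟩
      obtain ⟨h1, h3⟩ := (hmem h).1 hh
      by_cases hα : α ≠ 0
      · exact key α β h hh hα hx
      · push Not at hα
        subst hα
        by_cases hβ : β ≠ 0
        · obtain ⟨g, hg, eg⟩ := (hGood _ _).1 (good_all e (-(β⁻¹ • h)) he0 hQe (by simp [h1]))
          refine R _ g hg ?_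
          have hev' : ev g ((0 : F) • e + β • f + h) = (Q h / β) • e + β • f + 0 := by
            rw [eg]
            simp only [eF, map_add, map_smul, map_neg, LinearMap.neg_apply, LinearMap.smul_apply, smul_eq_mul,
              hef, hee, h1, hcomm h e, hcomm h f, h3, hself h, QuadraticMap.map_neg, hsmul, mul_zero,
              zero_mul, add_zero, zero_add, mul_one]
            match_scalars <;> field_simp <;> ring
          have hQh : Q h ≠ 0 := fun h0 => hx (by
            simp [hadd, hsmul, hQe, hQf, h0, h3])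
          have hne : Q (ev g ((0 : F) • e + β • f + h)) ≠ 0 := by rwa [hiso]
          rw [← hiso g ((0 : F) • e + β • f + h)]
          rw [hev'] at hne ⊢
          exact key _ _ 0 H.zero_mem (div_ne_zero hQh hβ) hne
        · push Not at hβ
          subst hβ
          have hh0 : h ≠ 0 := fun h0 => hx (by simp [h0])
          obtain ⟨p, hp', hwp⟩ : ∃ p ∈ H, B h p ≠ 0 := by
            by_contra hc
            push Not at hc
            exact hh0 ((Submodule.eq_bot_iff _).1 hHn h ⟨hh, fun y hy => by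
              show QuadraticMap.polarBilin Q y h = 0
              rw [← hB, hcomm]; exact hc y hy⟩)
          obtain ⟨w', hw'd⟩ : ∃ w', w' = (-(B h p)⁻¹) • p := ⟨_, rfl⟩
          obtain ⟨v1, v3⟩ := (hmem w').1 (hw'd ▸ H.smul_mem _ hp')
          obtain ⟨g, hg, eg⟩ := (hGood _ _).1 (good_all e w' he0 hQe v1)
          refine R _ g hg ?_
          have hev' : ev g ((0 : F) • e + (0 : F) • f + h) = (1 : F) • e + (0 : F) • f + h := by
            rw [eg]
            have hv : B w' h = -1 := by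
              rw [hw'd, map_smul, LinearMap.smul_apply, hcomm p h, smul_eq_mul, neg_mul, inv_mul_cancel₀ hwp]
            simp only [eF, map_add, map_smul, smul_eq_mul, hee, h1, zero_mul, mul_zero, add_zero, zero_add, hv]
            module
          have hne : Q (ev g ((0 : F) • e + (0 : F) • f + h)) ≠ 0 := by rwa [hiso]
          rw [← hiso g ((0 : F) • e + (0 : F) • f + h)]
          rw [hev'] at hne ⊢
          exact key _ _ h hh one_ne_zero hne
    intro x y hxy hx
    obtain ⟨g, hg, eg⟩ := std x hx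
    obtain ⟨g', hg', eg'⟩ := std y (hxy ▸ hx)
    refine ⟨g'⁻¹ * g, mul_mem (inv_mem hg') hg, ?_⟩
    rw [hev_mul, eg, hxy, ← eg', ← hev_mul, inv_mul_cancel]
    simp [ev]
  -- normality
  haveI hGn : G.Normal := by
    refine ⟨fun x hx g => ?_⟩
    rw [hG] at hx
    induction hx using Subgroup.closure_induction with
    | mem x hx =>
      obtain ⟨u, v, c, hu, hv, huv, hxv⟩ := hx
      rw [hG]
      refine Subgroup.subset_closure ⟨ev g u, ev g v, c, by rw [hiso]; exact hu, by rw [hiso]; exact hv,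
        by rw [← hp, hBiso, hp]; exact huv, Matrix.ext_iff_mulVec.2 fun y => ?_⟩
      obtain ⟨y', rfl⟩ : ∃ y', ev g y' = y := ⟨ev g⁻¹ y, by rw [← hev_mul, mul_inv_cancel]; simp [ev]⟩
      rw [← hev, hev_mul, hev_mul, ← hev_mul g⁻¹ g, inv_mul_cancel, hsv, hBiso, hBiso, hev x, hxv,
        show ev 1 y' = y' by simp [ev], hsv]
      simp only [ev, map_add, map_smul]
    | one => simp
    | mul a b _ _ ha hb =>
      rw [show g * (a * b) * g⁻¹ = (g * a * g⁻¹) * (g * b * g⁻¹) by group]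
      exact mul_mem ha hb
    | inv a _ ha =>
      rw [show g * a⁻¹ * g⁻¹ = (g * a * g⁻¹)⁻¹ by group]
      exact inv_mem ha
  refine OrthRows.commutator_le_of_gen (OrthRows.closure_rf hQ hexc) G ?_
  rintro a ⟨v, hv, ha⟩ b ⟨w, hw, hb⟩
  obtain ⟨u, hu⟩ : ∃ u, u = ev (OrthRows.rf Q w hw) v := ⟨_, rfl⟩
  obtain ⟨g, hg, eg⟩ := trans v u (by rw [hu, hiso]) hv
  have conj : ∀ k : ↥(Cfsg.isometryGroup F ⇑Q), k * OrthRows.rf Q v hv * k⁻¹ =
      OrthRows.rf Q (ev k v) (by rw [hiso]; exact hv) := by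
    intro k
    refine (FormsLib.oEquiv Q).injective ?_
    simp only [OrthRows.rf, map_mul, map_inv, MulEquiv.apply_symm_apply]
    refine Subtype.ext ?_
    show (FormsLib.oEquiv Q k).1 * FormsLib.refl Q v hv * ((FormsLib.oEquiv Q k).1)⁻¹ = _
    rw [FormsLib.refl_conj Q hv (FormsLib.oEquiv Q k).2]
    rfl
  rw [OrthRows.eq_rf hv ha, OrthRows.eq_rf hw hb]
  have h3 : OrthRows.rf Q w hw * OrthRows.rf Q v hv * (OrthRows.rf Q w hw)⁻¹ =
      g * OrthRows.rf Q v hv * g⁻¹ := by
    rw [conj, conj]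
    simp only [← hu, eg]
  have hg1 : ((g : ↥(Cfsg.isometryGroup F ⇑Q)) : ↥(Cfsg.isometryGroup F ⇑Q) ⧸ G) = 1 :=
    (QuotientGroup.eq_one_iff g).2 hg
  have h4 := congrArg (QuotientGroup.mk' G) h3
  simp only [map_mul, map_inv, QuotientGroup.mk'_apply, hg1, one_mul, inv_one, mul_one] at h4
  exact (mul_inv_eq_iff_eq_mul.1 h4).symm

end Cfsg.Agent.S0795
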