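import Cfsg.Statements.S0796
import Mathlib

set_option autoImplicit false
open Cfsg

namespace Cfsg.Agent.S0796

/-- If G is finite and acts faithfully and primitively on X, H is the stabiliser of a point, A is a normal subgroup of H whose normal closure in G is G, then for every non-trivial normal subgroup K of G the quotient G ⧸ K is isomorphic to A ⧸ B for some normal subgroup B of A. -/
theorem result {G X : Type*} [Group G] [Finite G] [MulAction G X] [FaithfulSMul G X] (hprim : MulAction.IsPreprimitive G X) (x : X) (A : Subgroup G) (hA : A ≤ MulAction.stabilizer G x) (hAn : (A.subgroupOf (MulAction.stabilizer G x)).Normal) (hgen : Subgroup.normalClosure (A : Set G) = ⊤) (K : Subgroup G) [K.Normal] (hK : K ≠ ⊥) : ∃ (B : Subgroup A) (_ : B.Normal), Nonempty (G ⧸ K ≃* A ⧸ B) := by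
  classical
  haveI := hprim
  set H := MulAction.stabilizer G x with hH
  have hnt : Nontrivial X := by
    by_contra hc
    rw [not_nontrivial_iff_subsingleton] at hc
    exact hK ((Subgroup.eq_bot_iff_forall K).2 fun k _ =>
      eq_of_smul_eq_smul (α := X) fun y => Subsingleton.elim _ _)
  have hmax : IsCoatom H := MulAction.IsPreprimitive.isCoatom_stabilizer_of_isPreprimitive (G := G) x
  have hnle : ¬ K ≤ H := fun hle => hK ((Subgroup.eq_bot_iff_forall K).2 fun k hk =>
    eq_of_smul_eq_smul (α := X) fun y => by
      obtain ⟨g, rfl⟩ := MulAction.exists_smul_eq G x y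
      have h1 : g⁻¹ * k * g ∈ H := hle (by simpa using Subgroup.Normal.conj_mem inferInstance k hk g⁻¹)
      rw [one_smul]
      calc k • g • x = g • ((g⁻¹ * k * g) • x) := by simp [mul_smul]
        _ = g • x := by rw [MulAction.mem_stabilizer_iff.1 h1])
  have hHK : H ⊔ K = ⊤ := (hmax.le_iff.1 le_sup_left).resolve_right fun e => hnle (e ▸ le_sup_right)
  -- the image of `A` in `G ⧸ K` is normal, hence everything
  let π := QuotientGroup.mk' K
  let f : A →* G ⧸ K := π.comp A.subtype
  have hrange : f.range = ⊤ := by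
    have hr : f.range = A.map π := by rw [MonoidHom.range_comp, Subgroup.range_subtype]
    haveI : (A.map π).Normal := by
      refine ⟨fun y hy z => ?_⟩
      obtain ⟨a, ha, rfl⟩ := hy
      obtain ⟨g, rfl⟩ := QuotientGroup.mk'_surjective K z
      obtain ⟨h, hh, k, hk, rfl⟩ : ∃ h ∈ H, ∃ k ∈ K, h * k = g := by
        have : g ∈ ((H ⊔ K : Subgroup G) : Set G) := by rw [hHK]; trivial
        rw [Subgroup.mul_normal, Set.mem_mul] at this
        exact this
      refine ⟨h * a * h⁻¹, hAn.conj_mem ⟨a, hA ha⟩ ha ⟨h, hh⟩, ?_⟩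
      have hk1 : π k = 1 := (QuotientGroup.eq_one_iff k).2 hk
      show π (h * a * h⁻¹) = π (h * k) * π a * (π (h * k))⁻¹
      rw [map_mul π h k, hk1, mul_one, map_mul, map_mul, map_inv]
    rw [hr, eq_top_iff, ← Subgroup.map_top_of_surjective π (QuotientGroup.mk'_surjective K), ← hgen,
      Subgroup.map_le_iff_le_comap]
    exact Subgroup.normalClosure_le_normal fun a ha => Subgroup.mem_map_of_mem π ha
  exact ⟨f.ker, inferInstance,
    ⟨(QuotientGroup.quotientKerEquivOfSurjective f (MonoidHom.range_eq_top.1 hrange)).symm⟩⟩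

end Cfsg.Agent.S0796
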