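import Cfsg.Statements.S0797
import Cfsg.Agent.Lib.Spinor.Tools
import Cfsg.Agent.Lib.Spinor.Products
import Cfsg.Agent.Lib.Spinor.Decomp

set_option autoImplicit false
open Cfsg

namespace Cfsg.Agent.S0797

/-- O^ε_2m(q) ≅ Ω.2² for q odd: if F is finite of odd characteristic, n ≥ 2 is even and Q has non-degenerate polar form on F^n, the isometry group of Q has exactly three subgroups of index 2. -/
theorem result {F : Type*} [Field F] [Fintype F] (h2 : (2 : F) ≠ 0) {n : ℕ} (hn : 2 ≤ n) (heven : Even n) (Q : QuadraticForm F (Fin n → F)) (hQ : (QuadraticMap.polarBilin Q).Nondegenerate) : Nat.card {H : Subgroup ↥(Cfsg.isometryGroup F ⇑Q) // H.index = 2} = 3 := by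
  classical
  have hdimV : Module.finrank F (Fin n → F) = n := Module.finrank_fin_fun F
  have hexc : Fintype.card F ≠ 2 ∨ Module.finrank F (Fin n → F) ≠ 4 := Or.inl (Spinor.card_ne_two h2)
  have hgen := Spinor.reflGroup_eq_top hQ hexc
  let χ : ↥(Cfsg.isometryGroup F ⇑Q) →* ℤˣ × ℤˣ :=
    ((Spinor.dickHom hQ hgen).prod (Spinor.spinHom hQ hgen)).comp (FormsLib.oEquiv Q).toMonoidHom
  have hχ : ∀ g, χ g = (Spinor.dick (FormsLib.oEquiv Q g), Spinor.spin (FormsLib.oEquiv Q g)) := fun g => rfl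
  have hker : χ.ker = commutator ↥(Cfsg.isometryGroup F ⇑Q) := by
    ext g
    rw [MonoidHom.mem_ker, hχ, Prod.mk_eq_one, ← Spinor.mem_commutator_iff hQ hexc]
    exact (Spinor.mem_Omega_iff Q g).symm
  -- reflections with both spinor norms
  have hnorm : ∀ c : F, c ≠ 0 → ∃ g, χ g = (-1, if IsSquare c then 1 else -1) := by
    intro c hc
    obtain ⟨v, -, hv⟩ := Spinor.exists_norm (Q := Q) (W := ⊤) (Spinor.top_inf_orth hQ)
      (Or.inl (by rw [finrank_top, hdimV]; exact hn)) hc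
    have hv0 : Q v ≠ 0 := hv.symm ▸ hc
    refine ⟨(FormsLib.oEquiv Q).symm (FormsLib.oRefl Q v hv0), ?_⟩
    rw [hχ, MulEquiv.apply_symm_apply, Spinor.dick_oRefl hQ hv0, Spinor.spin_oRefl hQ hv0, hv]
  have hsurj : Function.Surjective χ := by
    obtain ⟨g₁, hg₁⟩ := hnorm 1 one_ne_zero
    rw [if_pos (IsSquare.one)] at hg₁
    obtain ⟨d, hd, hdn⟩ := Spinor.exists_nonsquare h2
    obtain ⟨g₂, hg₂⟩ := hnorm d hd
    rw [if_neg hdn] at hg₂
    rintro ⟨a, b⟩
    rcases Int.units_eq_one_or a with rfl | rfl <;> rcases Int.units_eq_one_or b with rfl | rfl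
    · exact ⟨1, map_one _⟩
    · exact ⟨g₁ * g₂, by rw [map_mul, hg₁, hg₂]; rfl⟩
    · exact ⟨g₁, hg₁⟩
    · exact ⟨g₂, hg₂⟩
  have hcomm : ∀ H : Subgroup ↥(Cfsg.isometryGroup F ⇑Q), H.index = 2 → χ.ker ≤ H := by
    intro H hH
    rw [hker, commutator_def, Subgroup.commutator_le]
    intro a _ b _
    rw [commutatorElement_def]
    simp only [Subgroup.mul_mem_iff_of_index_two hH, inv_mem_iff]
    tauto
  let e : {K : Subgroup (ℤˣ × ℤˣ) // K.index = 2} ≃
      {H : Subgroup ↥(Cfsg.isometryGroup F ⇑Q) // H.index = 2} :=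
    { toFun := fun K => ⟨K.1.comap χ, by rw [Subgroup.index_comap_of_surjective _ hsurj]; exact K.2⟩
      invFun := fun H => ⟨H.1.map χ, by
        rw [H.1.index_map_eq hsurj (hcomm H.1 H.2)]
        exact H.2⟩
      left_inv := fun K => Subtype.ext (Subgroup.map_comap_eq_self_of_surjective hsurj K.1)
      right_inv := fun H => Subtype.ext (Subgroup.comap_map_eq_self (hcomm H.1 H.2)) }
  rw [← Nat.card_congr e]
  have hsq : ∀ x : ℤˣ × ℤˣ, x * x = 1 := by decide
  have hcard : Nat.card (ℤˣ × ℤˣ) = 4 := by simp [Nat.card_eq_fintype_card]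
  let e' : {x : ℤˣ × ℤˣ // x ≠ 1} ≃ {K : Subgroup (ℤˣ × ℤˣ) // K.index = 2} :=
    Equiv.ofBijective (fun x => ⟨Subgroup.zpowers x.1, by
      have h := Subgroup.card_mul_index (Subgroup.zpowers x.1)
      rw [Nat.card_zpowers, orderOf_eq_prime (p := 2) (by rw [pow_two, hsq]) x.2, hcard] at h
      omega⟩)
      ⟨fun x y h => by
        have h' : Subgroup.zpowers x.1 = Subgroup.zpowers y.1 := congrArg Subtype.val h
        have hm : x.1 ∈ Subgroup.zpowers y.1 := h' ▸ Subgroup.mem_zpowers x.1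
        obtain ⟨k, hk⟩ := Subgroup.mem_zpowers_iff.1 hm
        refine Subtype.ext ?_
        rcases Int.even_or_odd k with ⟨j, rfl⟩ | ⟨j, rfl⟩
        · rw [zpow_add, ← mul_zpow, hsq, one_zpow] at hk
          exact absurd hk.symm x.2
        · rw [zpow_add, two_mul, zpow_add, ← mul_zpow, hsq, one_zpow, one_mul, zpow_one] at hk
          exact hk.symm,
      fun K => by
        have h := Subgroup.card_mul_index K.1
        rw [K.2, hcard] at h
        have hK : Nat.card K.1 = 2 := by omega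
        haveI : Nontrivial K.1 := Finite.one_lt_card_iff_nontrivial.1 (by omega)
        obtain ⟨x, hx⟩ := exists_ne (1 : K.1)
        refine ⟨⟨x.1, fun e => hx (Subtype.ext e)⟩, Subtype.ext ?_⟩
        refine Subgroup.eq_of_le_of_card_ge (Subgroup.zpowers_le.2 x.2) ?_
        rw [Nat.card_zpowers, orderOf_eq_prime (p := 2) (by rw [pow_two, hsq]) (fun e => hx (Subtype.ext e)), hK]⟩
  rw [← Nat.card_congr e', Nat.card_eq_fintype_card]
  decide

end Cfsg.Agent.S0797
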