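import Cfsg.Statements.S0799
import Cfsg.Agent.Lib.SL2.Dickson

set_option autoImplicit false
open Cfsg

namespace Cfsg.Agent.S0799

/-- Dickson's classification of the subgroups of PSL_2(q), q a power of the prime p, d = gcd(2, q − 1): every subgroup H is (a) cyclic or dihedral with k dividing (q+1)/d or (q−1)/d (cyclic of order k, or dihedral of order 2k), (b) isomorphic to a subgroup of the normaliser of a Sylow p-subgroup, (c) isomorphic to A_4, S_4 or A_5, or (d) isomorphic to PSL_2(K) or PGL_2(K) for a finite field K with |K|^m = q. -/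
theorem result {F : Type*} [Field F] [Fintype F] {q : ℕ} (hF : Fintype.card F = q) (p : ℕ) [Fact p.Prime] [CharP F p] (H : Subgroup (Matrix.ProjectiveSpecialLinearGroup (Fin 2) F)) : (∃ k : ℕ, (k ∣ (q + 1) / Nat.gcd 2 (q - 1) ∨ k ∣ (q - 1) / Nat.gcd 2 (q - 1)) ∧ ((IsCyclic H ∧ Nat.card H = k) ∨ Nonempty (H ≃* DihedralGroup k))) ∨ (∃ (P : Sylow p (Matrix.ProjectiveSpecialLinearGroup (Fin 2) F)) (K : Subgroup (Matrix.ProjectiveSpecialLinearGroup (Fin 2) F)), K ≤ Subgroup.normalizer ((P : Subgroup (Matrix.ProjectiveSpecialLinearGroup (Fin 2) F)) : Set (Matrix.ProjectiveSpecialLinearGroup (Fin 2) F)) ∧ Nonempty (H ≃* K)) ∨ Nonempty (H ≃* alternatingGroup (Fin 4)) ∨ Nonempty (H ≃* Equiv.Perm (Fin 4)) ∨ Nonempty (H ≃* alternatingGroup (Fin 5)) ∨ (∃ (K : Type) (_ : Field K) (_ : Fintype K) (m : ℕ), Fintype.card K ^ m = q ∧ (Nonempty (H ≃* Matrix.ProjectiveSpecialLinearGroup (Fin 2) K) ∨ Nonempty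 (H ≃* Matrix.ProjGenLinGroup (Fin 2) K))) := by
  subst hF
  classical
  rcases SL2.dickson p H with ⟨r, hr, hle, hc⟩ | ⟨r, hr, -, k, -, hk, he⟩ | ⟨g, hg⟩ | ⟨-, h⟩ | ⟨-, h⟩ | ⟨-, -, h⟩ |
    ⟨K, γ, -, hK⟩
  · haveI : Finite (Matrix.ProjectiveSpecialLinearGroup (Fin 2) F) :=
      Finite.of_surjective _ SL2.π_surjective
    refine Or.inl ⟨Nat.card H, ?_, Or.inl ⟨hc, rfl⟩⟩
    have hd := Subgroup.card_dvd_of_le hle
    rcases SL2.card_torus_cases hr with ⟨-, h⟩ | ⟨-, h⟩ <;> rw [h] at hd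
    · exact Or.inl hd
    · exact Or.inr hd
  · refine Or.inl ⟨k, ?_, Or.inr he⟩
    rcases SL2.card_torus_cases hr with ⟨-, h⟩ | ⟨-, h⟩ <;> rw [h] at hk
    · exact Or.inl hk
    · exact Or.inr hk
  · obtain ⟨V, -, hV⟩ := SL2.exists_sylow_W0 (F := F) p
    refine Or.inr (Or.inl ⟨V, H.map (MulAut.conj g).toMonoidHom, ?_,
      ⟨H.equivMapOfInjective _ (MulAut.conj g).injective⟩⟩)
    rintro _ ⟨x, hx, rfl⟩
    exact hV (hg x hx)
  · exact Or.inr (Or.inr (Or.inl h))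
  · exact Or.inr (Or.inr (Or.inr (Or.inl h)))
  · exact Or.inr (Or.inr (Or.inr (Or.inr (Or.inl h))))
  · obtain ⟨L, i1, i2, m, hm, -, ⟨e⟩⟩ := SL2.exists_model (p := p) K
    refine Or.inr (Or.inr (Or.inr (Or.inr (Or.inr ⟨L, i1, i2, m, hm, ?_⟩))))
    rcases hK with ⟨h, -⟩ | ⟨h, -⟩ <;> obtain ⟨h'⟩ := h
    · obtain ⟨e'⟩ := RecognizeEven.psl_congr e
      exact Or.inl ⟨h'.trans e'⟩
    · obtain ⟨e'⟩ := SL2.pgl_congr e
      exact Or.inr ⟨h'.trans e'⟩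

end Cfsg.Agent.S0799
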