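import Cfsg.Statements.S0800
import Cfsg.Agent.Lib.Recog.PGLTwoOrders

set_option autoImplicit false
open Cfsg

namespace Cfsg.Agent.S0800

/-- Tori of SL_2(q): if g ∈ SL_2(q) has order coprime to the characteristic p, then the order of g divides q − 1 or q + 1. -/
theorem result {F : Type*} [Field F] [Fintype F] {q : ℕ} (hF : Fintype.card F = q) (p : ℕ) [Fact p.Prime] [CharP F p] (g : Matrix.SpecialLinearGroup (Fin 2) F) (hg : Nat.Coprime (orderOf g) p) : orderOf g ∣ q - 1 ∨ orderOf g ∣ q + 1 := by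
  subst hF
  classical
  have key : ∀ n : ℕ, ((g : Matrix (Fin 2) (Fin 2) F)) ^ n = 1 → orderOf g ∣ n := fun n h =>
    orderOf_dvd_of_pow_eq_one (Subtype.ext (by rw [Matrix.SpecialLinearGroup.coe_pow]; exact h))
  have hdet : (g : Matrix (Fin 2) (Fin 2) F).det = 1 := g.2
  rcases Recog.PGLTwo.cases (g : Matrix (Fin 2) (Fin 2) F) with h | ⟨a, b, hab, ht, hd⟩ | ⟨a, ht, hd⟩
  · right
    refine key _ ?_
    rw [Recog.PGLTwo.pow_eq_smul_of_dvd (Recog.PGLTwo.dvd_of_no_root h).1, hdet, one_smul]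
  · left
    refine key _ ?_
    rw [hdet] at hd
    have := (Recog.PGLTwo.dvd_of_two_roots hab (hd ▸ one_ne_zero)).1
    rw [← ht, ← hd] at this
    have h' : Recog.PGLTwo.quad (g : Matrix (Fin 2) (Fin 2) F).trace (g : Matrix (Fin 2) (Fin 2) F).det ∣
        Polynomial.X ^ (Fintype.card F - 1) - Polynomial.C 1 := by rw [hdet]; exact this
    rw [Recog.PGLTwo.pow_eq_smul_of_dvd h', one_smul]
  · left
    have hp := Recog.PGLTwo.pow_char_of_double (p := p) ht hd
    have ha2 : (a ^ p) ^ 2 = 1 := by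
      rw [← pow_mul, mul_comm, pow_mul, pow_two, ← hd, hdet, one_pow]
    have h2p : orderOf g ∣ p * 2 := key _ (by rw [pow_mul, hp, smul_pow, ha2, one_pow, one_smul])
    have h2 : orderOf g ∣ 2 := hg.dvd_of_dvd_mul_left h2p
    rcases (Nat.dvd_prime Nat.prime_two).1 h2 with e | e
    · rw [e]; exact one_dvd _
    · rw [e] at hg ⊢
      have hchar : ringChar F ≠ 2 := by
        rw [ringChar.eq F p]
        intro e2
        rw [e2] at hg
        exact absurd hg (by decide)
      have := FiniteField.odd_card_of_char_ne_two hchar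
      omega

end Cfsg.Agent.S0800
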