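import Cfsg.Statements.S0802
import Cfsg.Agent.Lib.SL2.DicksonArith

set_option autoImplicit false
open Cfsg

namespace Cfsg.Agent.S0802

/-- PSL_2(p^n) has a subgroup isomorphic to A_4 if and only if it is not the case that p = 2 and n is odd. -/
theorem result {F : Type*} [Field F] [Fintype F] (p n : ℕ) [Fact p.Prime] [CharP F p] (hF : Fintype.card F = p ^ n) : (∃ H : Subgroup (Matrix.ProjectiveSpecialLinearGroup (Fin 2) F), Nonempty (H ≃* alternatingGroup (Fin 4))) ↔ ¬ (p = 2 ∧ Odd n) := by
  classical
  constructor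
  · rintro ⟨H, ⟨e⟩⟩ ⟨rfl, hn⟩
    exact (SL2.not_alt_four hF hn H).false e
  · intro h
    refine SL2.exists_alt_four ?_
    by_cases h2 : (2 : F) = 0
    · have hp : p = 2 :=
        CharP.eq F inferInstance (CharTwo.of_one_ne_zero_of_two_eq_zero (R := F) one_ne_zero h2)
      subst hp
      have hn : Even n := by
        rcases Nat.even_or_odd n with hn | hn
        · exact hn
        · exact absurd ⟨rfl, hn⟩ h
      obtain ⟨k, rfl⟩ := hn
      haveI : Fact (Nat.Prime 3) := ⟨Nat.prime_three⟩
      have h3 : 3 ∣ Fintype.card Fˣ := by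
        rw [Fintype.card_units, hF, ← two_mul, pow_mul]
        have : (2 ^ 2) ^ k % 3 = 1 := by rw [Nat.pow_mod]; simp
        generalize (2 ^ 2) ^ k = P at this ⊢
        omega
      obtain ⟨w, hw⟩ := exists_prime_orderOf_dvd_card 3 h3
      have hw3 : (w : F) ^ 3 = 1 := by
        rw [← Units.val_pow_eq_pow_val, ← hw, pow_orderOf_eq_one, Units.val_one]
      have hw1 : (w : F) - 1 ≠ 0 := fun e => by
        rw [show w = 1 from Units.ext (sub_eq_zero.1 e), orderOf_one] at hw
        omega
      have key : (w : F) ^ 2 + w + 1 = 0 :=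
        (mul_eq_zero.1 (show ((w : F) - 1) * ((w : F) ^ 2 + w + 1) = 0 by
          linear_combination hw3)).resolve_left hw1
      exact ⟨w, 0, by linear_combination key - (w : F) * h2⟩
    · exact SL2.exists_quadric h2 1

end Cfsg.Agent.S0802
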