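import Cfsg.Statements.S0803
import Cfsg.Agent.Lib.SL2.DicksonArith

set_option autoImplicit false
open Cfsg

namespace Cfsg.Agent.S0803

/-- PSL_2(q) has a subgroup isomorphic to S_4 iff q² ≡ 1 (mod 16). -/
theorem result {F : Type*} [Field F] [Fintype F] {q : ℕ} (hF : Fintype.card F = q) : (∃ H : Subgroup (Matrix.ProjectiveSpecialLinearGroup (Fin 2) F), Nonempty (H ≃* Equiv.Perm (Fin 4))) ↔ q ^ 2 % 16 = 1 := by
  subst hF
  classical
  constructor
  · rintro ⟨H, ⟨e⟩⟩
    have h4 : ∃ s : Equiv.Perm (Fin 4), s ^ 4 = 1 ∧ s ^ 2 ≠ 1 := by decide +kernel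
    obtain ⟨s, h1, h2⟩ := h4
    haveI : Fact (Nat.Prime 2) := ⟨Nat.prime_two⟩
    refine SL2.sq_mod_of_orderOf_four (x := ((e.symm s : H) : _)) ?_
    rw [Subgroup.orderOf_coe, MulEquiv.orderOf_eq]
    exact orderOf_eq_prime_pow (p := 2) (n := 1) (by simpa using h2) (by simpa using h1)
  · intro h
    obtain ⟨t, ht⟩ := SL2.exists_sqrt_two h
    refine SL2.exists_perm_four (fun h2 => ?_) ht
    have := CharTwo.of_one_ne_zero_of_two_eq_zero (R := F) one_ne_zero h2
    have he := FiniteField.even_card_of_char_two (ringChar.eq F 2)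
    rw [Nat.pow_mod] at h
    have : Fintype.card F % 16 < 16 := Nat.mod_lt _ (by norm_num)
    have h8 : Fintype.card F % 16 % 2 = 0 := by omega
    interval_cases hh : Fintype.card F % 16 <;> omega

end Cfsg.Agent.S0803
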