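import Cfsg.Statements.S0804
import Cfsg.Agent.Lib.SL2.DicksonArith

set_option autoImplicit false
open Cfsg

namespace Cfsg.Agent.S0804

/-- PSL_2(q) has a subgroup isomorphic to A_5 iff 5 ∣ q(q² − 1). -/
theorem result {F : Type*} [Field F] [Fintype F] {q : ℕ} (hF : Fintype.card F = q) : (∃ H : Subgroup (Matrix.ProjectiveSpecialLinearGroup (Fin 2) F), Nonempty (H ≃* alternatingGroup (Fin 5))) ↔ 5 ∣ q * (q ^ 2 - 1) := by
  subst hF
  classical
  have hq : Fintype.card F * (Fintype.card F ^ 2 - 1) =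
      Fintype.card F * ((Fintype.card F - 1) * (Fintype.card F + 1)) := by
    rw [mul_comm (Fintype.card F - 1), ← Nat.sq_sub_sq, one_pow]
  rw [hq]
  constructor
  · rintro ⟨H, ⟨e⟩⟩
    have h60 : 2 * Nat.card (alternatingGroup (Fin 5)) = (5 : ℕ).factorial :=
      SmallSimple.card_alternating_fin (by norm_num)
    rw [show (5 : ℕ).factorial = 120 from rfl] at h60
    refine Dvd.dvd.trans ?_ ((Subgroup.card_subgroup_dvd_card H).trans SL2.card_psl_dvd)
    rw [Nat.card_congr e.toEquiv]
    omega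
  · intro h
    obtain ⟨t, ht⟩ := SL2.exists_phi h
    exact SL2.exists_alt_five ht

end Cfsg.Agent.S0804
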