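import Cfsg.Statements.S0805
import Cfsg.Agent.Lib.SL2.DicksonSub

set_option autoImplicit false
open Cfsg

namespace Cfsg.Agent.S0805

/-- Subfield subgroups: let F be a finite field of odd order q and K a finite field with |K|^m = q, m ≥ 1. Then PSL_2(F) has a subgroup isomorphic to PSL_2(K), and has a subgroup isomorphic to PGL_2(K) if and only if m is even. -/
theorem result {F K : Type*} [Field F] [Fintype F] [Field K] [Fintype K] {q : ℕ} (hF : Fintype.card F = q) (hodd : Odd q) (m : ℕ) (hm : 1 ≤ m) (hK : Fintype.card K ^ m = q) : (∃ H : Subgroup (Matrix.ProjectiveSpecialLinearGroup (Fin 2) F), Nonempty (H ≃* Matrix.ProjectiveSpecialLinearGroup (Fin 2) K)) ∧ ((∃ H : Subgroup (Matrix.ProjectiveSpecialLinearGroup (Fin 2) F), Nonempty (H ≃* Matrix.ProjGenLinGroup (Fin 2) K)) ↔ Even m) := by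
  classical
  subst hF
  obtain ⟨φ⟩ := SL2.exists_embedding (F := F) hK (by omega)
  haveI : Finite (Matrix.ProjectiveSpecialLinearGroup (Fin 2) F) := Finite.of_surjective _ SL2.π_surjective
  obtain ⟨a, ha⟩ := id hodd
  have hchar : ringChar F ≠ 2 := fun h => by
    have := FiniteField.even_card_of_char_two (F := F) h
    omega
  constructor
  · obtain ⟨H, hH⟩ := SL2.exists_subgroup_kg φ
    exact ⟨H, SL2.iso_of_map_eq_kg hH⟩
  constructor
  · rintro ⟨H, ⟨e⟩⟩
    by_contra hev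
    rw [Nat.not_even_iff_odd] at hev
    obtain ⟨i, rfl⟩ := hev
    obtain ⟨b, hb⟩ : Odd (Fintype.card K) := (Nat.odd_pow_iff (by omega)).1 (hK ▸ hodd)
    have key : ∀ i : ℕ, ∃ S : ℕ,
        (Fintype.card K ^ 2) ^ (2 * i + 1) = (Fintype.card K ^ 2 - 1) * S + 1 ∧ Odd S := by
      intro i
      obtain ⟨c, hc⟩ : ∃ c, Fintype.card K ^ 2 = c + 1 := ⟨_, (Nat.sub_add_cancel (Nat.one_le_pow _ _ Fintype.card_pos)).symm⟩
      rw [hc, Nat.add_sub_cancel]
      induction i with
      | zero => exact ⟨1, by ring, odd_one⟩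
      | succ i ih =>
        obtain ⟨S, hS, j, hj⟩ := ih
        refine ⟨(c + 1) ^ 2 * S + c + 2, ?_, ?_⟩
        · rw [show 2 * (i + 1) + 1 = 2 * i + 1 + 2 by ring, pow_add, hS]; ring
        · have hce : Even c := by
            have : Odd (c + 1) := hc ▸ (show Odd (Fintype.card K) from ⟨b, hb⟩).pow
            exact Nat.not_odd_iff_even.1 fun h => Nat.not_even_iff_odd.2 this (h.add_odd odd_one)
          obtain ⟨e, he⟩ := hce
          subst hj he
          exact ⟨(e + e + 1) ^ 2 * j + 2 * e ^ 2 + 3 * e + 1, by ring⟩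
    obtain ⟨S, hS, j, rfl⟩ := key i
    have hdvd := H.card_subgroup_dvd_card
    rw [Nat.card_congr e.toEquiv, SL2.card_pgl] at hdvd
    have hP := SL2.card_psl (F := F)
    rw [Nat.gcd_eq_left (show 2 ∣ Fintype.card F - 1 from ⟨a, by omega⟩)] at hP
    have hd2 := Nat.mul_dvd_mul_left 2 hdvd
    rw [hP] at hd2
    have sq : ∀ x : ℕ, 1 ≤ x → (x - 1) * (x + 1) = x ^ 2 - 1 := fun x hx => by
      obtain ⟨y, rfl⟩ := Nat.exists_eq_add_of_le' hx
      rw [Nat.add_sub_cancel, show (y + 1) ^ 2 = y * (y + 1 + 1) + 1 by ring, Nat.add_sub_cancel]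
    have hF2 : (Fintype.card F - 1) * (Fintype.card F + 1) =
        (Fintype.card K ^ 2 - 1) * (2 * j + 1) := by
      rw [sq _ Fintype.card_pos, ← hK, ← pow_mul, mul_comm (2 * i + 1) 2, pow_mul, hS, Nat.add_sub_cancel]
    have hq' : Fintype.card F = Fintype.card K * Fintype.card K ^ (2 * i) := by rw [← hK, pow_succ']
    rw [hF2, sq _ Fintype.card_pos, hq'] at hd2
    obtain ⟨c, hc⟩ := hd2
    have hR : Odd (Fintype.card K ^ (2 * i) * (2 * j + 1)) :=
      ((show Odd (Fintype.card K) from ⟨b, hb⟩).pow).mul ⟨j, rfl⟩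
    have h1 : 1 < Fintype.card K := Fintype.one_lt_card
    have heq : Fintype.card K ^ (2 * i) * (2 * j + 1) = 2 * c := by
      refine Nat.eq_of_mul_eq_mul_left (show 0 < Fintype.card K * (Fintype.card K ^ 2 - 1) from
        Nat.mul_pos Fintype.card_pos ?_) ?_
      · have : 2 ^ 2 ≤ Fintype.card K ^ 2 := Nat.pow_le_pow_left h1 2
        norm_num at this
        omega
      · linarith
    rw [heq] at hR
    exact Nat.not_even_iff_odd.2 hR ⟨c, by ring⟩
  · intro hev
    obtain ⟨H, hH⟩ : ∃ H : Subgroup (Matrix.ProjectiveSpecialLinearGroup (Fin 2) F),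
        H.map (SL2.conjEmb 1) = SL2.pg φ := ⟨(SL2.pg φ).comap (SL2.conjEmb 1), by
      rw [Subgroup.map_comap_eq, SL2.range_conjEmb,
        inf_eq_right.2 (SL2.pg_le_R0 (SL2.isSquare_of_even hK hev hchar))]⟩
    exact ⟨H, SL2.iso_of_map_eq_pg hH⟩

end Cfsg.Agent.S0805
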