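import Cfsg.Statements.S0806
import Cfsg.Agent.Lib.SL2.DicksonApps

set_option autoImplicit false
open Cfsg

namespace Cfsg.Agent.S0806

/-- Minimal index (Galois): if q ∉ {2, 3, 5, 7, 9, 11} then every proper subgroup of PSL_2(q) has index ≥ q + 1, and some subgroup has index exactly q + 1. -/
theorem result {F : Type*} [Field F] [Fintype F] {q : ℕ} (hF : Fintype.card F = q) (hq : q ∉ ({2, 3, 5, 7, 9, 11} : Finset ℕ)) : (∀ H : Subgroup (Matrix.ProjectiveSpecialLinearGroup (Fin 2) F), H ≠ ⊤ → q + 1 ≤ H.index) ∧ ∃ H : Subgroup (Matrix.ProjectiveSpecialLinearGroup (Fin 2) F), H.index = q + 1 := by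
  classical
  subst hF
  simp only [Finset.mem_insert, Finset.mem_singleton, not_or] at hq
  obtain ⟨q2, q3, q5, q7, q9, q11⟩ := hq
  have h2 := SL2.two_le_q (F := F)
  have h4 : 4 ≤ Fintype.card F := by omega
  haveI : Finite (Matrix.ProjectiveSpecialLinearGroup (Fin 2) F) := Finite.of_surjective _ SL2.π_surjective
  have hP := SL2.card_psl (F := F)
  have hpos : 0 < Fintype.card F * (Fintype.card F - 1) := Nat.mul_pos (by omega) (by omega)
  constructor
  · intro H hH
    have h := SL2.card_le_borel h4 ⟨q5, q7, q9, q11⟩ hH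
    rw [← H.index_mul_card, mul_left_comm, ← mul_assoc (Fintype.card F), mul_comm _ (Fintype.card F + 1)] at hP
    by_contra hlt
    have h1 := Nat.mul_le_mul (show H.index ≤ Fintype.card F by omega) h
    rw [hP, add_mul, one_mul] at h1
    omega
  · refine ⟨SL2.B0, Nat.eq_of_mul_eq_mul_right hpos ?_⟩
    rw [← SL2.card_B0, mul_left_comm, Subgroup.index_mul_card, hP, SL2.card_B0]
    ring

end Cfsg.Agent.S0806
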