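import Cfsg.Statements.S0809
import Cfsg.Agent.Lib.SL2.DicksonKleinCount

set_option autoImplicit false
open Cfsg

namespace Cfsg.Agent.S0809

/-- In SL_2(q), q odd: any two subgroups of order 4 are conjugate, and the normaliser of a subgroup of order 4 has order 2(q − 1) if q ≡ 1 (mod 4) and 2(q + 1) if q ≡ 3 (mod 4); consequently all involutions of PSL_2(q) are conjugate. -/
theorem result {F : Type*} [Field F] [Fintype F] {q : ℕ} (hF : Fintype.card F = q) (hodd : Odd q) (A : Subgroup (Matrix.SpecialLinearGroup (Fin 2) F)) (hA : Nat.card A = 4) : (∀ B : Subgroup (Matrix.SpecialLinearGroup (Fin 2) F), Nat.card B = 4 → ∃ g : Matrix.SpecialLinearGroup (Fin 2) F, B = A.map (MulAut.conj g).toMonoidHom) ∧ (q % 4 = 1 → Nat.card ↥(Subgroup.normalizer (A : Set (Matrix.SpecialLinearGroup (Fin 2) F))) = 2 * (q - 1)) ∧ (q % 4 = 3 → Nat.card ↥(Subgroup.normalizer (A : Set (Matrix.SpecialLinearGroup (Fin 2) F))) = 2 * (q + 1)) ∧ (∀ x y : Matrix.ProjectiveSpecialLinearGroup (Fin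 2) F, orderOf x = 2 → orderOf y = 2 → IsConj x y) := by
  classical
  subst hF
  have h2 := SL2.two_ne_zero' hodd
  haveI : Finite (Matrix.ProjectiveSpecialLinearGroup (Fin 2) F) := Finite.of_surjective _ SL2.π_surjective
  have gen : ∀ B : Subgroup (Matrix.SpecialLinearGroup (Fin 2) F), Nat.card B = 4 →
      ∃ g, g * g = -1 ∧ B = Subgroup.zpowers g := by
    intro B hB
    haveI : Fintype B := Fintype.ofFinite B
    obtain ⟨⟨g, hgB⟩, -, hg⟩ := Finset.exists_mem_notMem_of_card_lt_card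
      (s := Finset.univ.filter fun b : B => (b : Matrix.SpecialLinearGroup (Fin 2) F) = 1 ∨
        (b : Matrix.SpecialLinearGroup (Fin 2) F) = -1) (t := Finset.univ) (by
        rw [Finset.card_univ, ← Nat.card_eq_fintype_card, hB]
        refine lt_of_le_of_lt (Finset.card_le_card_of_injOn (fun b : B => (b : Matrix.SpecialLinearGroup (Fin 2) F))
          (t := ({1, -1} : Finset _)) (fun b hb => by simpa using hb) Subtype.val_injective.injOn) ?_
        exact lt_of_le_of_lt Finset.card_le_two (by norm_num))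
    simp only [Finset.mem_filter, Finset.mem_univ, true_and, not_or] at hg
    obtain ⟨hg1, hgn⟩ := hg
    have h4 : g ^ 4 = 1 := orderOf_dvd_iff_pow_eq_one.1 (hB ▸ Subgroup.orderOf_dvd_natCard B hgB)
    have hsq : (g * g) * (g * g) = 1 := by rw [← h4, ← mul_assoc, pow_succ, pow_succ, pow_two]
    have hgg : g * g = -1 := (SL2.eq_one_or_of_sq h2 hsq).resolve_left fun e => by
      rcases SL2.eq_one_or_of_sq h2 e with e | e
      · exact hg1 e
      · exact hgn e
    have ho : orderOf g = 2 ^ (1 + 1) := by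
      haveI : Fact (Nat.Prime 2) := ⟨Nat.prime_two⟩
      refine orderOf_eq_prime_pow ?_ h4
      rw [pow_one, pow_two, hgg]
      exact SL2.neg_ne_self h2 1
    exact ⟨g, hgg, (Subgroup.eq_of_le_of_card_ge (Subgroup.zpowers_le.2 hgB)
      (by rw [Nat.card_zpowers, ho, hB]; norm_num)).symm⟩
  obtain ⟨g, hg, rfl⟩ := gen A hA
  have ht := SL2.tr_sq_of_tr_zero h2 (SL2.tr_zero_of_sq h2 hg)
  refine ⟨fun B hB => ?_, ?_⟩
  · obtain ⟨g', hg', rfl⟩ := gen B hB
    obtain ⟨P, hP⟩ := SL2.isConj_of_tr ((SL2.tr_zero_of_sq h2 hg).trans (SL2.tr_zero_of_sq h2 hg').symm) ht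
    exact ⟨P, by rw [MonoidHom.map_zpowers]; show _ = Subgroup.zpowers (P * g * P⁻¹); rw [hP]⟩
  have hN : Subgroup.normalizer (Subgroup.zpowers g : Set (Matrix.SpecialLinearGroup (Fin 2) F)) =
      Subgroup.normalizer (SL2.cent g : Set (Matrix.SpecialLinearGroup (Fin 2) F)) := by
    refine le_antisymm (fun x hx => ?_) (SL2.le_normalizer_of_le_cent ht (Subgroup.zpowers_le.2 (SL2.self_mem_cent g)))
    rw [SL2.mem_normalizer_cent ht, SL2.inv_of_sq hg]
    obtain ⟨i, hi⟩ := Subgroup.mem_zpowers_iff.1 ((Subgroup.mem_normalizer_iff.1 hx g).1 (Subgroup.mem_zpowers g))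
    obtain ⟨j, hj⟩ : ∃ j : ℤ, i = 2 * j ∨ i = 2 * j + 1 := ⟨i / 2, by omega⟩
    have e2 : ∀ j : ℤ, g ^ (2 * j) = 1 ∨ g ^ (2 * j) = -1 := fun j => by
      rw [_root_.zpow_mul, zpow_two, hg]
      rcases Int.even_or_odd j with h | h
      · exact Or.inl (by rw [h.neg_one_zpow])
      · exact Or.inr (by rw [h.neg_one_zpow])
    rcases hj with rfl | rfl
    · exfalso
      have htr := SL2.tr_conj g x
      rw [← hi, SL2.tr_zero_of_sq h2 hg] at htr
      rcases e2 j with e | e <;> rw [e] at htr <;> simp [SL2.tr] at htr <;> first | exact h2 (by linear_combination htr) | exact h2 (by linear_combination -htr)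
    · rw [_root_.zpow_add, zpow_one] at hi
      rcases e2 j with e | e <;> rw [e] at hi
      · exact Or.inl (by rw [← hi, one_mul])
      · exact Or.inr (by rw [← hi, neg_one_mul])
  rw [hN, SL2.card_normalizer_cent ht]
  rcases SL2.cent_sq_neg_one hodd hg with ⟨hc, h4⟩ | ⟨hc, h4⟩ <;> rw [hc] <;>
    exact ⟨fun h => by omega, fun h => by omega, fun x y hx hy => SL2.isConj_involutions h2 hx hy⟩

end Cfsg.Agent.S0809
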