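import Cfsg.Statements.S0811
import Cfsg.Agent.Lib.SL2.DicksonTorus

set_option autoImplicit false
open Cfsg

namespace Cfsg.Agent.S0811

/-- For q ∉ {2, 7, 9}, PSL_2(q) has a maximal subgroup isomorphic to the dihedral group of order 2(q + 1)/d, d = gcd(2, q − 1). -/
theorem result {F : Type*} [Field F] [Fintype F] {q : ℕ} (hF : Fintype.card F = q) (hq : q ∉ ({2, 7, 9} : Finset ℕ)) : ∃ H : Subgroup (Matrix.ProjectiveSpecialLinearGroup (Fin 2) F), IsCoatom H ∧ Nonempty (H ≃* DihedralGroup ((q + 1) / Nat.gcd 2 (q - 1))) := by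
  classical
  subst hF
  simp only [Finset.mem_insert, Finset.mem_singleton, not_or] at hq
  obtain ⟨r, hr⟩ := SL2.exists_noEig (F := F)
  have ht := hr.tr_sq
  obtain ⟨-, hk⟩ | ⟨⟨a, ha⟩, -⟩ := SL2.card_torus_cases ht
  swap
  · exact absurd ha ((SL2.noEig_iff r).1 hr a)
  refine ⟨SL2.NT r, ?_, hk ▸ SL2.NT_equiv_dihedral ht⟩
  have hq3 : 3 ≤ Fintype.card F := by
    have := SL2.two_le_q (F := F); omega
  rcases eq_or_ne (Fintype.card F) 3 with h3 | h3
  · haveI : Finite (Matrix.ProjectiveSpecialLinearGroup (Fin 2) F) := Finite.of_surjective _ SL2.π_surjective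
    have hN : Nat.card (SL2.NT r) = 4 := by
      rw [SL2.card_NT ht, hk, h3]; norm_num
    have hP : Nat.card (Matrix.ProjectiveSpecialLinearGroup (Fin 2) F) = 12 := by
      have h := SL2.card_psl (F := F)
      simp only [h3, show Nat.gcd 2 (3 - 1) = 2 from rfl] at h
      omega
    refine ⟨SL2.NT_ne_top ht hq3, fun H hlt => ?_⟩
    have h1 := H.index_mul_card
    have h2 := Subgroup.card_dvd_of_le hlt.le
    have h4 : Nat.card (SL2.NT r) ≠ Nat.card H := fun e => hlt.ne (Subgroup.eq_of_le_of_card_ge hlt.le e.ge)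
    rw [hN] at h2 h4
    rw [hP] at h1
    have key : ∀ d ∈ (12 : ℕ).divisors, 4 ∣ d → d ≠ 4 → d = 12 := by decide
    exact Subgroup.eq_top_of_card_eq _ (by
      rw [hP]; exact key _ (Nat.mem_divisors.2 ⟨⟨H.index, by rw [mul_comm]; exact h1.symm⟩, by norm_num⟩) h2 (Ne.symm h4))
  · refine SL2.isCoatom_NT ht ?_ hq.2.1 hq.2.2 (fun h => by rw [hk, h]; norm_num) hq3
    rw [hk, Nat.le_div_iff_mul_le (Nat.gcd_pos_of_pos_left _ two_pos)]
    rcases eq_or_ne (Fintype.card F) 4 with h4 | h4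
    · rw [h4]; norm_num
    · have : Nat.gcd 2 (Fintype.card F - 1) ≤ 2 := Nat.gcd_le_left _ two_pos
      omega

end Cfsg.Agent.S0811
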