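import Cfsg.Statements.S0812
import Cfsg.Agent.Lib.SL2.DicksonTorus

set_option autoImplicit false
open Cfsg

namespace Cfsg.Agent.S0812

/-- For q ∉ {2, 3, 5, 7, 9, 11}, PSL_2(q) has a maximal subgroup isomorphic to the dihedral group of order 2(q − 1)/d, d = gcd(2, q − 1). -/
theorem result {F : Type*} [Field F] [Fintype F] {q : ℕ} (hF : Fintype.card F = q) (hq : q ∉ ({2, 3, 5, 7, 9, 11} : Finset ℕ)) : ∃ H : Subgroup (Matrix.ProjectiveSpecialLinearGroup (Fin 2) F), IsCoatom H ∧ Nonempty (H ≃* DihedralGroup ((q - 1) / Nat.gcd 2 (q - 1))) := by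
  classical
  subst hF
  simp only [Finset.mem_insert, Finset.mem_singleton, not_or] at hq
  obtain ⟨q2, q3, q5, q7, q9, q11⟩ := hq
  have hq4 : 4 ≤ Fintype.card F := by
    have := SL2.two_le_q (F := F); omega
  obtain ⟨a, ha⟩ : ∃ a : Fˣ, (a : F) ^ 2 ≠ 1 := by
    by_contra h
    push Not at h
    have hsub : Finset.univ.image (fun a : Fˣ => (a : F)) ⊆ {1, -1} := fun x hx => by
      obtain ⟨a, -, rfl⟩ := Finset.mem_image.1 hx
      rcases sq_eq_one_iff.1 (h a) with e | e <;> simp [e]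
    have h2 : ({1, -1} : Finset F).card ≤ 2 := Finset.card_le_two
    have := Finset.card_le_card hsub
    rw [Finset.card_image_of_injective _ (fun a b e => Units.ext e), Finset.card_univ, Fintype.card_units] at this
    omega
  have ht := SL2.tr_sq_dd ha
  obtain ⟨h, -⟩ | ⟨-, hk⟩ := SL2.card_torus_cases ht
  · exact absurd (show (a : F) * (SL2.tr (SL2.dd a) - a) = 1 by simp) (h a)
  refine ⟨SL2.NT (SL2.dd a), ?_, hk ▸ SL2.NT_equiv_dihedral ht⟩
  refine SL2.isCoatom_NT ht ?_ q7 q9 (fun h => absurd h q11) (by omega)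
  rw [hk, Nat.le_div_iff_mul_le (Nat.gcd_pos_of_pos_left _ two_pos)]
  rcases eq_or_ne (Fintype.card F) 4 with h4 | h4
  · rw [h4]; norm_num
  · have : Nat.gcd 2 (Fintype.card F - 1) ≤ 2 := Nat.gcd_le_left _ two_pos
    have : Fintype.card F ≠ 6 := fun h6 => by
      obtain ⟨n, hp, hn⟩ := FiniteField.card F (ringChar F)
      rw [h6] at hn
      have h2 := (Nat.prime_dvd_prime_iff_eq Nat.prime_two hp).1 (Nat.prime_two.dvd_of_dvd_pow (hn ▸ (by norm_num : 2 ∣ 6)))
      have h3 := (Nat.prime_dvd_prime_iff_eq Nat.prime_three hp).1 (Nat.prime_three.dvd_of_dvd_pow (hn ▸ (by norm_num : 3 ∣ 6)))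
      omega
    omega

end Cfsg.Agent.S0812
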