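import Cfsg.Statements.S0814
import Cfsg.Agent.Lib.AutPSp.Four

set_option autoImplicit false
open Cfsg

namespace Cfsg.Agent.S0814

/-- |Aut(PSp_2m(q))| = gcd(2, q−1) · f · |PSp_2m(q)| for q = p^f, m ≥ 2, (m, q) ≠ (2, 2), with an extra factor 2 exactly when m = 2 and p = 2. -/
theorem result {F : Type*} [Field F] [Fintype F] (p f : ℕ) [Fact p.Prime] (hf : 1 ≤ f) (hF : Fintype.card F = p ^ f) (m : ℕ) (hm : 2 ≤ m) (h22 : m = 2 → 3 ≤ p ^ f) : Nat.card (MulAut (Cfsg.PSp m F)) = (if m = 2 ∧ p = 2 then 2 else 1) * Nat.gcd 2 (p ^ f - 1) * f * Nat.card (Cfsg.PSp m F) := by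
  haveI : CharP F p := AutPSL.charP_of_card hF hf
  by_cases h : m = 2 ∧ p = 2
  · obtain ⟨rfl, rfl⟩ := h
    rw [if_pos ⟨rfl, rfl⟩, AutPSp.card_aut_four, AutPSp.card_PGSp_eq 2 (by omega) hf hF,
      AutPSL.card_ringAut (F := F) 2 f hF]
    ring
  · have e := Nat.card_congr (Equiv.subtypeUnivEquiv (p := AutPSp.TPres (m := m) (F := F))
      (AutPSp.tpres_of_cases p (fun h2 h3 => h ⟨h2, h3⟩) hm))
    rw [if_neg h, ← e, AutPSp.card_tpres p hm, AutPSp.card_PGSp_eq p (by omega) hf hF,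
      AutPSL.card_ringAut (F := F) p f hF]
    ring

end Cfsg.Agent.S0814
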