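import Cfsg.Statements.S0816
import Cfsg.Agent.Lib.AutPOmega.Models
import Cfsg.Agent.Lib.LinearGroups.OrthPOrder
-- import your own Cfsg.Agent.* helpers here

set_option autoImplicit false
open Cfsg

namespace Cfsg.Agent.S0816

/-- |Aut(PΩ_(2m+1)(q))| = 2 f · |PΩ_(2m+1)(q)| for q = p^f odd and m ≥ 3 (for the form quadFormOdd). -/
theorem result {F : Type*} [Field F] [Fintype F] (p f : ℕ) [Fact p.Prime] (hf : 1 ≤ f) (hF : Fintype.card F = p ^ f) (hodd : Odd p) (m : ℕ) (hm : 3 ≤ m) : Nat.card (MulAut (Cfsg.POmega F (Cfsg.quadFormOdd m F))) = 2 * f * Nat.card (Cfsg.POmega F (Cfsg.quadFormOdd m F)) := by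
  haveI : CharP F p := charP_of_card_eq_prime_pow hF
  have h2 : (2 : F) ≠ 0 := fun h => by
    have h1 : p ∣ 2 := (CharP.cast_eq_zero_iff F p 2).1 (by exact_mod_cast h)
    have := (Nat.prime_dvd_prime_iff_eq Fact.out Nat.prime_two).1 h1
    subst this
    exact absurd hodd (by decide)
  have S := OrthSigns.qset_odd h2 m hm
  have hc := AutPOmega.card_aut S (fun h => absurd h (by simp [Fintype.card_sum]; omega))
  rw [AutPOmega.simMul_odd_range S, AutPOmega.sigHom_odd_range S, Subgroup.card_top,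
    AutPSL.card_ringAut p f hF, IsCyclic.card_powMonoidHom_range, Nat.card_units,
    Nat.card_eq_fintype_card (α := F)] at hc
  have hq : (Fintype.card F - 1) % 2 = 0 := by
    have := Nat.odd_iff.1 (hF ▸ hodd.pow : Odd (Fintype.card F))
    omega
  rw [Nat.gcd_eq_right (Nat.dvd_of_mod_eq_zero hq)] at hc
  have hO := OrthPOrder.card_odd_dim (F := F) h2 hm
  rw [FormsLib.coe_qOdd] at hc
  have h1 : 0 < Fintype.card F - 1 := by have := Fintype.one_lt_card (α := F); omega
  refine Nat.eq_of_mul_eq_mul_right h1 ?_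
  rw [hc, ← hO]
  obtain ⟨t, ht⟩ := Nat.dvd_of_mod_eq_zero hq
  rw [ht, Nat.mul_div_cancel_left _ two_pos]
  ring

end Cfsg.Agent.S0816
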