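import Cfsg.Statements.S0817
import Cfsg.Agent.Lib.AutPOmega.OutPlus
-- import your own Cfsg.Agent.* helpers here

set_option autoImplicit false
open Cfsg

namespace Cfsg.Agent.S0817

/-- |Aut(PΩ⁺_2m(q))| for q = p^f, m ≥ 4: |PΩ⁺_2m(q)| times f, times 3 when m = 4, times 2 if p = 2, and times 8 or 4 if p is odd according as m(q−1)/2 is even or odd. -/
theorem result {F : Type*} [Field F] [Fintype F] (p f : ℕ) [Fact p.Prime] (hf : 1 ≤ f) (hF : Fintype.card F = p ^ f) (m : ℕ) (hm : 4 ≤ m) : Nat.card (MulAut (Cfsg.POmega F (Cfsg.quadFormPlus m F))) = (if m = 4 then 3 else 1) * (if p = 2 then 2 else (if Even (m * (p ^ f - 1) / 2) then 8 else 4)) * f * Nat.card (Cfsg.POmega F (Cfsg.quadFormPlus m F)) := by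
  haveI : NeZero f := ⟨by omega⟩
  haveI : CharP F p := charP_of_card_eq_prime_pow hF
  have S := AutPOmega.qset_plus (F := F) hm
  rcases eq_or_ne m 4 with rfl | h4
  · rw [if_pos rfl]
    obtain ⟨hA, hB⟩ := AutPOmega.out_plus_four (F := F) hF
    have h := AutPOmega.card_out S
    rw [AutPOmega.coe_qPlus] at h
    rw [← h]
    by_cases hp : p = 2
    · rw [if_pos hp]
      obtain ⟨e⟩ := hA hp
      rw [Nat.card_congr e.toEquiv, Nat.card_prod, Nat.card_perm, Nat.card_fin]
      simp [Nat.factorial]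
    · rw [if_neg hp, if_pos (by
        rw [show 4 * (p ^ f - 1) / 2 = 2 * (p ^ f - 1) by omega]
        exact even_two_mul _)]
      obtain ⟨e⟩ := hB hp
      rw [Nat.card_congr e.toEquiv, Nat.card_prod, Nat.card_perm, Nat.card_fin]
      simp [Nat.factorial]
  rw [if_neg h4, one_mul]
  rw [← AutPOmega.coe_qPlus, AutPOmega.card_aut_plus S hF (by omega)]
  by_cases hp : p = 2
  · subst hp
    rw [if_pos rfl, OrthPOrder.card_two S CharTwo.two_eq_zero rfl]
    ring
  · have h2 : (2 : F) ≠ 0 := fun h => hp ((Nat.prime_dvd_prime_iff_eq Fact.out Nat.prime_two).1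
      ((CharP.cast_eq_zero_iff F p 2).1 (by exact_mod_cast h)))
    obtain ⟨c, -, D⟩ := AutPOmega.exists_plusData S hm h2
    have hq : (p ^ f) % 2 = 1 := Nat.odd_iff.1 ((Fact.out : p.Prime).odd_of_ne_two hp).pow
    have hcs := AutPOmega.gcd_four_cases hq m
    have hpos : 1 ≤ (p ^ f) ^ m := Nat.one_le_pow _ _ (by omega)
    rw [if_neg hp, D.card, hF]
    have hiff : Even (m * (p ^ f - 1) / 2) ↔ ¬ (m % 2 = 1 ∧ p ^ f % 4 = 3) := by
      obtain ⟨t, ht⟩ : ∃ t, p ^ f = 2 * t + 1 := ⟨p ^ f / 2, by omega⟩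
      rw [ht, Nat.add_sub_cancel, show m * (2 * t) = 2 * (m * t) by ring, Nat.mul_div_cancel_left _ two_pos,
        Nat.even_mul, Nat.even_iff, Nat.even_iff]
      omega
    by_cases he : Even (m * (p ^ f - 1) / 2)
    · have := hcs.2 (hiff.1 he)
      rw [if_pos he, Nat.gcd_rec, show ((p ^ f) ^ m - 1) % 4 = 0 by omega, Nat.gcd_zero_left]
      ring
    · have := hcs.1 (not_not.1 (fun h => he (hiff.2 h)))
      rw [if_neg he, Nat.gcd_rec, show ((p ^ f) ^ m - 1) % 4 = 2 by omega, show Nat.gcd 2 4 = 2 from rfl]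
      ring

end Cfsg.Agent.S0817
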