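import Cfsg.Statements.S0818
import Cfsg.Agent.Lib.AutPOmega.Models
import Cfsg.Agent.Lib.Spinor.TSMinus
import Cfsg.Agent.S0288
import Cfsg.Agent.S0294
-- import your own Cfsg.Agent.* helpers here

set_option autoImplicit false
open Cfsg

namespace Cfsg.Agent.S0818

/-- |Aut(PΩ⁻_2m(q))| for q = p^f, m ≥ 4 (form quadFormMinus (m−1) with anisotropic binary part): |PΩ⁻_2m(q)| times f, times 2 if p = 2, and times 4 or 8 if p is odd according as m(q−1)/2 is even or odd. -/
theorem result {F : Type*} [Field F] [Fintype F] (p f : ℕ) [Fact p.Prime] (hf : 1 ≤ f) (hF : Fintype.card F = p ^ f) (m : ℕ) (hm : 4 ≤ m) (a b : F) (hab : ∀ z₁ z₂ : F, z₁ ^ 2 + a * z₁ * z₂ + b * z₂ ^ 2 = 0 → z₁ = 0 ∧ z₂ = 0) : Nat.card (MulAut (Cfsg.POmega F (Cfsg.quadFormMinus (m - 1) F a b))) = (if p = 2 then 2 else (if Even (m * (p ^ f - 1) / 2) then 4 else 8)) * f * Nat.card (Cfsg.POmega F (Cfsg.quadFormMinus (m - 1) F a b)) := by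
  haveI : CharP F p := charP_of_card_eq_prime_pow hF
  obtain ⟨Q, hQ, hn⟩ := OrthForms.exists_qMinus (m - 1) a b hab
  have S : QMax.QSetting Q := ⟨hn, by simp [Fintype.card_sum]; omega⟩
  have hc := AutPOmega.card_aut S (fun h W hW => by
    have h1 := Spinor.minus_ts_finrank_le a b hab W (fun v hv => by rw [← hQ]; exact hW v hv)
    simp [Fintype.card_sum] at h
    omega)
  rw [AutPOmega.simMul_minus_range hQ hab S, AutPOmega.sigHom_minus_range hQ hab S, Subgroup.card_top,
    Subgroup.card_top, AutPSL.card_ringAut p f hF, Nat.card_units, hQ, Nat.card_eq_fintype_card (α := F)] at hc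
  have h1 : 0 < Fintype.card F - 1 := by have := Fintype.one_lt_card (α := F); omega
  have hc' : Nat.card (MulAut (Cfsg.POmega F (Cfsg.quadFormMinus (m - 1) F a b))) =
      Nat.card (Cfsg.isometryGroup F (Cfsg.quadFormMinus (m - 1) F a b)) * f :=
    Nat.eq_of_mul_eq_mul_right h1 (by rw [hc]; ring)
  have hO := S0288.result (F := F) hF m (by omega) a b hab
  have hP := S0294.result (F := F) hF m hm a b hab
  rw [mul_assoc 2, mul_assoc 2] at hO
  rw [← hP] at hO
  rw [hc', hO]
  generalize Nat.card (Cfsg.POmega F (Cfsg.quadFormMinus (m - 1) F a b)) = P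
  by_cases hp : p = 2
  · subst hp
    rw [if_pos rfl, OrthPOrder.coprime_four_of_odd
      (((even_two.pow_of_ne_zero (by omega)).pow_of_ne_zero (by omega)).add_one)]
    ring
  · rw [if_neg hp]
    have hodd : Odd (p ^ f) := ((Fact.out : p.Prime).odd_of_ne_two hp).pow
    obtain ⟨t, ht⟩ := hodd
    have key : (p ^ f) ^ m % 4 = if Even (m * t) then 1 else 3 := by
      rw [ht, Nat.pow_mod]
      rcases Nat.even_or_odd t with ⟨s, hs⟩ | ⟨s, hs⟩
      · rw [show (2 * t + 1) % 4 = 1 by omega, one_pow, if_pos (Even.mul_left ⟨s, hs⟩ m)]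
        norm_num
      · rw [show (2 * t + 1) % 4 = 3 by omega]
        rcases Nat.even_or_odd m with ⟨u, hu⟩ | ⟨u, hu⟩
        · rw [if_pos (Even.mul_right ⟨u, hu⟩ t), hu, ← two_mul, pow_mul, Nat.pow_mod]; simp
        · rw [if_neg (Nat.not_even_iff_odd.2 (Odd.mul ⟨u, hu⟩ ⟨s, hs⟩)), hu, pow_succ, pow_mul,
            Nat.mul_mod, Nat.pow_mod]; simp
    have hdiv : m * (p ^ f - 1) / 2 = m * t := by
      rw [show p ^ f - 1 = 2 * t by omega, show m * (2 * t) = 2 * (m * t) by ring,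
        Nat.mul_div_cancel_left _ two_pos]
    rw [hdiv]
    by_cases he : Even (m * t)
    · rw [if_pos he] at key
      rw [if_pos he, Nat.gcd_rec, show ((p ^ f) ^ m + 1) % 4 = 2 by omega,
        show Nat.gcd 2 4 = 2 from rfl]
      ring
    · rw [if_neg he] at key
      rw [if_neg he, Nat.gcd_rec, show ((p ^ f) ^ m + 1) % 4 = 0 by omega, Nat.gcd_zero_left]
      ring

end Cfsg.Agent.S0818
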