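import Cfsg.Statements.S0819
import Mathlib

set_option autoImplicit false
open Cfsg

namespace Cfsg.Agent.S0819

theorem square {F : Type*} [Field F] [CharP F 2] {f t : Module.End F (Fin 3 → F)} (h : Commute f t)
    {α β : F} {w : Fin 3 → F} (hw : f w = α • w + β • t w) :
    (f ^ 2) w = (α ^ 2) • w + (β ^ 2) • (t ^ 2) w := by
  have hft : f (t w) = t (f w) := LinearMap.congr_fun h.eq w
  have hv : ∀ v : Fin 3 → F, v + v = 0 := fun v => funext fun i => CharTwo.add_self_eq_zero _
  rw [pow_two f, pow_two t, Module.End.mul_apply, Module.End.mul_apply, hw, map_add, map_smul, map_smul,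
    hft, hw, map_add, map_smul, map_smul]
  linear_combination (norm := module) hv ((α * β) • t w)

theorem four {F : Type*} [Field F] [CharP F 2] {f t : Module.End F (Fin 3 → F)} (h : Commute f t)
    {α β : F} {w : Fin 3 → F} (hw : f w = α • w + β • t w) :
    (f ^ 4) w = (α ^ 4) • w + (β ^ 4) • (t ^ 4) w := by
  have h1 := square h hw
  have h2 := square (h.pow_pow 2 2) h1
  rwa [← pow_mul, ← pow_mul, ← pow_mul, ← pow_mul] at h2

/-- No element of PSL_3(4) has order 15. -/
theorem result {F : Type*} [Field F] [Fintype F] (hF : Fintype.card F = 4) (g : Matrix.ProjectiveSpecialLinearGroup (Fin 3) F) : orderOf g ≠ 15 := by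
  classical
  intro hg
  haveI : CharP F 2 := by
    obtain ⟨p, hp⟩ := CharP.exists F
    haveI := Fact.mk (CharP.char_is_prime F p)
    obtain ⟨n, -, hn⟩ := FiniteField.card F p
    rw [hF] at hn
    have h1 : p ∣ 2 ^ 2 := by norm_num; rw [hn]; exact dvd_pow_self p n.ne_zero
    have h2 := (Fact.out : p.Prime).dvd_of_dvd_pow h1
    rwa [(Nat.prime_dvd_prime_iff_eq Fact.out Nat.prime_two).mp h2] at hp
  have hc3 : ∀ z ∈ Subgroup.center (Matrix.SpecialLinearGroup (Fin 3) F), z ^ 3 = 1 := by
    intro z hz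
    obtain ⟨r, hr, hrs⟩ := Matrix.SpecialLinearGroup.mem_center_iff.mp hz
    rw [Fintype.card_fin] at hr
    apply Subtype.ext
    rw [Matrix.SpecialLinearGroup.coe_pow, ← hrs, ← map_pow, hr, map_one]
    rfl
  obtain ⟨h, rfl⟩ := QuotientGroup.mk_surjective g
  have hpow : ∀ k : ℕ, ((QuotientGroup.mk h : Matrix.ProjectiveSpecialLinearGroup (Fin 3) F)) ^ k = 1 ↔ 15 ∣ k :=
    fun k => by rw [← orderOf_dvd_iff_pow_eq_one, hg]
  have hz : h ^ 15 ∈ Subgroup.center (Matrix.SpecialLinearGroup (Fin 3) F) :=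
    (QuotientGroup.eq_one_iff _).1 (by rw [QuotientGroup.mk_pow]; exact (hpow 15).2 dvd_rfl)
  have h45 : h ^ 45 = 1 := by rw [show (45 : ℕ) = 15 * 3 from rfl, pow_mul]; exact hc3 _ hz
  obtain ⟨X, hX⟩ : ∃ X, X = h ^ 5 := ⟨_, rfl⟩
  obtain ⟨Y, hY⟩ : ∃ Y, Y = h ^ 9 := ⟨_, rfl⟩
  have hX9 : X ^ 9 = 1 := by rw [hX, ← pow_mul]; exact h45
  have hY5 : Y ^ 5 = 1 := by rw [hY, ← pow_mul]; exact h45
  have hXY : X * Y = Y * X := by rw [hX, hY, ← pow_add, ← pow_add]
  have hY1 : Y ≠ 1 := fun e => by
    have h1 : (QuotientGroup.mk h : Matrix.ProjectiveSpecialLinearGroup (Fin 3) F) ^ 9 = 1 := by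
      rw [← QuotientGroup.mk_pow, ← hY, e]; rfl
    exact absurd ((hpow 9).1 h1) (by norm_num)
  have hXz : X ∉ Subgroup.center (Matrix.SpecialLinearGroup (Fin 3) F) := fun e => by
    have h1 : (QuotientGroup.mk h : Matrix.ProjectiveSpecialLinearGroup (Fin 3) F) ^ 5 = 1 := by
      rw [← QuotientGroup.mk_pow, ← hX]; exact (QuotientGroup.eq_one_iff _).2 e
    exact absurd ((hpow 5).1 h1) (by norm_num)
  -- as linear maps
  let φ : Matrix.SpecialLinearGroup (Fin 3) F →* Module.End F (Fin 3 → F) :=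
    { toFun := fun A => Matrix.toLin' A.1
      map_one' := by rw [Matrix.SpecialLinearGroup.coe_one, Matrix.toLin'_one]; rfl
      map_mul' := fun A B => by rw [Matrix.SpecialLinearGroup.coe_mul, Matrix.toLin'_mul]; rfl }
  obtain ⟨f, hf⟩ : ∃ f, f = φ X := ⟨_, rfl⟩
  obtain ⟨t, ht⟩ : ∃ t, t = φ Y := ⟨_, rfl⟩
  have hcomm : Commute f t := by
    rw [hf, ht]
    exact (show Commute X Y from hXY).map φ
  have hft : ∀ v, f (t v) = t (f v) := fun v => LinearMap.congr_fun hcomm.eq v
  have hf9 : f ^ 9 = 1 := by rw [hf, ← map_pow, hX9, map_one]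
  have ht5' : t ^ 5 = 1 := by rw [ht, ← map_pow, hY5, map_one]
  have ht5 : ∀ v, t (t (t (t (t v)))) = v := fun v => by
    have e : (t * (t * (t * (t * t)))) v = v := by
      rw [show t * (t * (t * (t * t))) = t ^ 5 by simp only [pow_succ, pow_zero, one_mul, mul_assoc], ht5']
      rfl
    exact e
  have c2 : ∀ a : F, a + a = 0 := CharTwo.add_self_eq_zero
  have v2 : ∀ v : Fin 3 → F, v + v = 0 := fun v => funext fun i => c2 _
  obtain ⟨P, hP⟩ : ∃ P : (Fin 3 → F) →ₗ[F] (Fin 3 → F),
      ∀ v, P v = v + t v + t (t v) + t (t (t v)) + t (t (t (t v))) :=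
    ⟨LinearMap.id + t + t ∘ₗ t + t ∘ₗ t ∘ₗ t + t ∘ₗ t ∘ₗ t ∘ₗ t, fun v => rfl⟩
  have hPfix : ∀ v, t v = v → P v = v := fun v hv => by
    rw [hP, hv, hv, hv, hv, v2, zero_add, add_assoc, v2 v, add_zero]
  have htP : ∀ v, t (P v) = P v := fun v => by
    simp only [hP, map_add, ht5]; abel
  -- a fixed vector
  obtain ⟨v, hv0, hv⟩ : ∃ v, v ≠ 0 ∧ t v = v := by
    haveI : Fact (Nat.Prime 5) := ⟨by norm_num⟩
    let σ : Equiv.Perm {v : Fin 3 → F // v ≠ 0} :=
      { toFun := fun v => ⟨t v.1, fun e => v.2 (by rw [← ht5 v.1, e]; simp)⟩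
        invFun := fun v => ⟨t (t (t (t v.1))), fun e => v.2 (by rw [← ht5 v.1, e]; simp)⟩
        left_inv := fun v => Subtype.ext (ht5 v.1)
        right_inv := fun v => Subtype.ext (ht5 v.1) }
    have hcard : ¬ 5 ∣ Fintype.card {v : Fin 3 → F // v ≠ 0} := by
      rw [Fintype.card_subtype_compl, Fintype.card_subtype_eq, Fintype.card_fun, hF, Fintype.card_fin]
      norm_num
    obtain ⟨w, hw⟩ := Equiv.Perm.exists_fixed_point_of_prime (p := 5) (n := 1) hcard (σ := σ)
      (Equiv.ext fun v => Subtype.ext (ht5 v.1))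
    exact ⟨w.1, w.2, congrArg Subtype.val hw⟩
  have hvP : v ∈ LinearMap.range P := ⟨v, hPfix v hv⟩
  have hdim := LinearMap.finrank_range_add_finrank_ker P
  rw [Module.finrank_fin_fun] at hdim
  have hL : 1 ≤ Module.finrank F (LinearMap.range P) :=
    Submodule.one_le_finrank_iff.2 fun e => hv0 (by rw [e] at hvP; exact hvP)
  -- no eigenvectors outside the fixed space
  have heig : ∀ (w : Fin 3 → F) (c : F), t w = c • w → P w = 0 → w = 0 := fun w c hw hPw => by
    by_contra hw0
    have h5 : c ^ 5 • w = w := by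
      conv_rhs => rw [← ht5 w]
      simp only [hw, map_smul, smul_smul]
      congr 1; ring
    have hc5 : c ^ 5 = 1 := by
      have : (c ^ 5 - 1) • w = 0 := by rw [sub_smul, one_smul, h5, sub_self]
      exact sub_eq_zero.1 ((smul_eq_zero.1 this).resolve_right hw0)
    have hc0 : c ≠ 0 := fun e => by simp [e] at hc5
    have hc3 : c ^ 3 = 1 := by
      have := FiniteField.pow_card_sub_one_eq_one c hc0
      rwa [hF] at this
    have hc : c = 1 := by
      calc c = c * (c ^ 5) := by rw [hc5, mul_one]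
        _ = (c ^ 3) ^ 2 := by ring
        _ = 1 := by rw [hc3, one_pow]
    rw [hc, one_smul] at hw
    exact hw0 ((hPfix w hw).symm.trans hPw)
  obtain ⟨w, hwP, hw0⟩ : ∃ w, P w = 0 ∧ w ≠ 0 := by
    by_contra hc
    push Not at hc
    refine hY1 ?_
    have hinj : Function.Injective φ := fun A B e => Subtype.ext (Matrix.toLin'.injective e)
    refine hinj ?_
    rw [map_one φ, ← ht]
    refine LinearMap.ext fun x => ?_
    have hx : P (x + P x) = 0 := by rw [map_add, hPfix _ (htP x), v2]
    have hxe : x = P x := by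
      have := hc _ hx
      calc x = x + P x + P x := by rw [add_assoc, v2, add_zero]
        _ = P x := by rw [this, zero_add]
    show t x = x
    rw [hxe, htP]
  have hli : LinearIndependent F ![w, t w] := by
    refine LinearIndependent.pair_iff.2 fun s u e => ?_
    rcases eq_or_ne u 0 with hu | hu
    · rw [hu, zero_smul, add_zero] at e
      exact ⟨(smul_eq_zero.1 e).resolve_right hw0, hu⟩
    · refine absurd (heig w (-(u⁻¹ * s)) ?_ hwP) hw0
      have e2 : u⁻¹ • (s • w + u • t w) = 0 := by rw [e, smul_zero]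
      rw [smul_add, inv_smul_smul₀ hu, smul_smul] at e2
      rw [neg_smul]
      linear_combination (norm := module) e2
  have htw : P (t w) = 0 := by
    have : P (t w) = t (P w) := by simp only [hP, map_add]
    rw [this, hwP, map_zero]
  have hker : LinearMap.ker P = Submodule.span F (Set.range ![w, t w]) := by
    refine (Submodule.eq_of_le_of_finrank_le (Submodule.span_le.2 ?_) ?_).symm
    · rintro _ ⟨i, rfl⟩; fin_cases i <;> assumption
    · rw [finrank_span_eq_card hli, Fintype.card_fin]; omega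
  obtain ⟨α, β, hfw⟩ : ∃ α β : F, α • w + β • t w = f w := by
    have hm : f w ∈ LinearMap.ker P := by
      rw [LinearMap.mem_ker]
      have : P (f w) = f (P w) := by simp only [hP, map_add, hft]
      rw [this, hwP, map_zero]
    rw [hker, Submodule.mem_span_range_iff_exists_fun] at hm
    obtain ⟨c, hc⟩ := hm
    exact ⟨c 0, c 1, by rw [← hc, Fin.sum_univ_two]; rfl⟩
  -- the fourth power of `f` conjugates the coefficients
  have hc4 : ∀ c : F, c ^ 4 = c := fun c => by rw [← hF]; exact FiniteField.pow_card c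
  have h4 : (f ^ 4) w = α • w + β • (t ^ 4) w := by
    rw [four hcomm hfw.symm, hc4, hc4]
  have h16 : (f ^ 16) w = f w := by
    rw [show (16 : ℕ) = 4 * 4 from rfl, pow_mul, four (hcomm.pow_pow 4 4) h4, hc4, hc4, ← pow_mul,
      show 4 * 4 = 5 * 3 + 1 from rfl, pow_succ, pow_mul, ht5', one_pow, one_mul, hfw]
  have hfinj : Function.Injective f := fun a b e => by
    have h : (f ^ 8) (f a) = (f ^ 8) (f b) := by rw [e]
    rwa [← Module.End.mul_apply, ← Module.End.mul_apply, ← pow_succ, hf9] at h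
  have h3 : (f ^ 3) w = w := by
    have h7 : (f ^ 7) w = f w := by
      rw [show (16 : ℕ) = 9 + 7 from rfl, pow_add, hf9, one_mul] at h16
      exact h16
    have h6 : (f ^ 6) w = w := hfinj (by rw [← Module.End.mul_apply, ← pow_succ']; exact h7)
    calc (f ^ 3) w = (f ^ 3) ((f ^ 6) w) := by rw [h6]
      _ = (f ^ 9) w := by rw [← Module.End.mul_apply, ← pow_add]
      _ = w := by rw [hf9]; rfl
  have hβ : β = 0 := by
    by_contra hb
    have h5 : (f ^ 4) w = f w := by rw [pow_succ', Module.End.mul_apply, h3]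
    rw [h4, ← hfw, add_right_inj] at h5
    have h6 : (t ^ 4) w = t w := smul_right_injective _ hb h5
    have h6' : t (t (t (t w))) = t w := by
      have e : (t * (t * (t * t))) w = (t ^ 4) w := by simp only [pow_succ, pow_zero, one_mul, mul_assoc]
      exact e.trans h6
    have h7 : t (t w) = w := by rw [← congrArg t h6', ht5]
    have h8 : t w = (1 : F) • w := by rw [one_smul, ← h6', h7, h7]
    exact hw0 (heig w 1 h8 hwP)
  rw [hβ, zero_smul, add_zero] at hfw
  have hftw : f (t w) = α • t w := by rw [hft, ← hfw, map_smul]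
  -- the fixed line
  obtain ⟨γ, hγ⟩ : ∃ γ : F, f v = γ • v := by
    have h1 : Module.finrank F (LinearMap.range P) = 1 := by
      rw [hker, finrank_span_eq_card hli, Fintype.card_fin] at hdim
      omega
    obtain ⟨c, hc⟩ := (finrank_eq_one_iff_of_nonzero' (⟨v, hvP⟩ : LinearMap.range P)
      (fun e => hv0 (congrArg Subtype.val e))).1 h1 ⟨f v, ⟨f v, hPfix _ (by rw [← hft, hv])⟩⟩
    exact ⟨c, (congrArg Subtype.val hc).symm⟩
  have hli3 : LinearIndependent F ![v, w, t w] := by
    show LinearIndependent F (Fin.cons v ![w, t w] : Fin 3 → Fin 3 → F)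
    rw [linearIndependent_finCons]
    refine ⟨hli, fun hm => hv0 ?_⟩
    rw [← hker, LinearMap.mem_ker, hPfix v hv] at hm
    exact hm
  let b : Module.Basis (Fin 3) F (Fin 3 → F) := basisOfLinearIndependentOfCardEqFinrank hli3 (by simp)
  have hb : ∀ i, b i = ![v, w, t w] i := fun i => by simp [b]
  have hmat : LinearMap.toMatrix b b f = Matrix.diagonal ![γ, α, α] := by
    ext i j
    rw [LinearMap.toMatrix_apply]
    have hfb : f (b j) = (![γ, α, α] j) • b j := by
      rw [hb]
      fin_cases j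
      · simpa using hγ
      · simpa using hfw.symm
      · simpa using hftw
    rw [hfb, map_smul, b.repr_self]
    by_cases h : i = j
    · subst h; simp
    · simp [h, Ne.symm h]
  have hdet : LinearMap.det f = 1 := by
    rw [hf]
    show LinearMap.det (Matrix.toLin' X.1) = 1
    rw [LinearMap.det_toLin', X.2]
  rw [← LinearMap.det_toMatrix b, hmat, Matrix.det_diagonal, Fin.prod_univ_three] at hdet
  simp at hdet
  have hα : α ^ 3 = 1 := by
    have hα0 : α ≠ 0 := fun e => by simp [e] at hdet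
    have := FiniteField.pow_card_sub_one_eq_one α hα0
    rwa [hF] at this
  have hγα : γ = α := by
    linear_combination α * hdet - γ * hα
  refine hXz (Matrix.SpecialLinearGroup.mem_center_iff.2 ⟨α, by rw [Fintype.card_fin]; exact hα, ?_⟩)
  have hfα : f = α • LinearMap.id := b.ext fun i => by
    rw [hb]
    fin_cases i
    · simp [hγ, hγα]
    · simp [hfw]
    · simp [hftw]
  have h9 := congrArg LinearMap.toMatrix' hfα
  rw [hf] at h9
  change LinearMap.toMatrix' (Matrix.toLin' X.1) = _ at h9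
  rw [LinearMap.toMatrix'_toLin', map_smul, LinearMap.toMatrix'_id] at h9
  rw [h9]
  ext i j
  simp [Matrix.scalar, Matrix.diagonal, Matrix.one_apply]

end Cfsg.Agent.S0819
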