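import Cfsg.Statements.S2550
import Cfsg.Agent.S0243
import Cfsg.Agent.Lib.Transvection.GL
import Mathlib.Tactic.Group
import Mathlib.Tactic.NormNum
import Mathlib.Tactic.FinCases

set_option autoImplicit false
open Cfsg

namespace Cfsg.Agent.S2550

open Matrix in
theorem conj_of_sq_one {K : Type*} [Field K] [Fintype K] (hK : Fintype.card K = 4)
    (x y : Matrix.ProjectiveSpecialLinearGroup (Fin 3) K) (hx : x ≠ 1) (hx2 : x * x = 1) (hy : y ≠ 1) (hy2 : y * y = 1) :
    IsConj x y := by
  haveI : CharP K 2 := by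
    obtain ⟨p, hp⟩ := CharP.exists K
    haveI := Fact.mk (CharP.char_is_prime K p)
    obtain ⟨n, -, hn⟩ := FiniteField.card K p
    rw [hK] at hn
    have : p ∣ 4 := hn ▸ dvd_pow_self p n.ne_zero
    have h2 : p ∣ 2 := (Fact.out : p.Prime).dvd_of_dvd_pow (n := 2) this
    rwa [(Nat.prime_dvd_prime_iff_eq Fact.out Nat.prime_two).mp h2] at hp
  have lift : ∀ x : Matrix.ProjectiveSpecialLinearGroup (Fin 3) K, x ≠ 1 → x * x = 1 →
      ∃ g : Matrix.SpecialLinearGroup (Fin 3) K, QuotientGroup.mk g = x ∧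
        Cfsg.IsTransvection (g : Matrix (Fin 3) (Fin 3) K) := by
    intro x hx hx2
    obtain ⟨g, rfl⟩ := QuotientGroup.mk_surjective x
    have hz : g * g ∈ Subgroup.center (Matrix.SpecialLinearGroup (Fin 3) K) :=
      (QuotientGroup.eq_one_iff _).mp hx2
    obtain ⟨r, hr, hrs⟩ := Matrix.SpecialLinearGroup.mem_center_iff.mp hz
    rw [Fintype.card_fin] at hr
    have h6 : (g * g) ^ 3 = 1 := by
      apply Subtype.ext
      rw [Matrix.SpecialLinearGroup.coe_pow, ← hrs, ← map_pow, hr, map_one]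
      rfl
    refine ⟨g * g * g, ?_, ?_, ?_⟩
    · rw [QuotientGroup.mk_mul, QuotientGroup.mk_mul]
      rw [hx2, one_mul]
    · set M : Matrix (Fin 3) (Fin 3) K := (g * g * g : Matrix.SpecialLinearGroup (Fin 3) K).1 - 1 with hM
      have hsq : M * M = 0 := by
        have h2 : (g * g * g : Matrix.SpecialLinearGroup (Fin 3) K).1 * (g * g * g : Matrix.SpecialLinearGroup (Fin 3) K).1 = 1 := by
          rw [← Matrix.SpecialLinearGroup.coe_mul, show g * g * g * (g * g * g) = (g * g) ^ 3 by simp only [pow_succ, pow_zero, one_mul, mul_assoc], h6]; rfl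
        have h20 : (2 : Matrix (Fin 3) (Fin 3) K) = 0 := by
          rw [← map_ofNat (algebraMap K (Matrix (Fin 3) (Fin 3) K)) 2, CharTwo.two_eq_zero, map_zero]
        rw [hM, sub_mul, mul_sub, mul_one, one_mul, h2]
        generalize (g * g * g : Matrix.SpecialLinearGroup (Fin 3) K).1 = B
        calc 1 - B - (B - 1) = 2 * (1 - B) := by rw [two_mul]; abel
          _ = 0 := by rw [h20, zero_mul]
      have hne : M ≠ 0 := fun h => hx (by
        have e : g * g * g = 1 := Subtype.ext (sub_eq_zero.mp h)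
        have := congrArg (QuotientGroup.mk : _ → Matrix.ProjectiveSpecialLinearGroup (Fin 3) K) e
        rwa [QuotientGroup.mk_mul, QuotientGroup.mk_mul, hx2, one_mul, QuotientGroup.mk_one] at this)
      have hle : LinearMap.range M.mulVecLin ≤ LinearMap.ker M.mulVecLin := by
        rintro _ ⟨v, rfl⟩
        rw [LinearMap.mem_ker, mulVecLin_apply, mulVecLin_apply, mulVec_mulVec, hsq, zero_mulVec]
      have h1 := Submodule.finrank_mono hle
      have h2 := LinearMap.finrank_range_add_finrank_ker M.mulVecLin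
      rw [Module.finrank_fin_fun] at h2
      have h3 : M.rank ≠ 0 := fun h => hne (by
        have : LinearMap.range M.mulVecLin = ⊥ := Submodule.finrank_eq_zero.mp h
        rw [LinearMap.range_eq_bot] at this
        exact Matrix.ext_iff_mulVec.mpr fun v => by
          rw [← mulVecLin_apply, this, LinearMap.zero_apply, zero_mulVec])
      show M.rank = 1
      rw [Matrix.rank] at h3 ⊢
      omega
    · set M : Matrix (Fin 3) (Fin 3) K := (g * g * g : Matrix.SpecialLinearGroup (Fin 3) K).1 - 1 with hM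
      have h2 : (g * g * g : Matrix.SpecialLinearGroup (Fin 3) K).1 * (g * g * g : Matrix.SpecialLinearGroup (Fin 3) K).1 = 1 := by
        rw [← Matrix.SpecialLinearGroup.coe_mul, show g * g * g * (g * g * g) = (g * g) ^ 3 by simp only [pow_succ, pow_zero, one_mul, mul_assoc], h6]; rfl
      have h20 : (2 : Matrix (Fin 3) (Fin 3) K) = 0 := by
        rw [← map_ofNat (algebraMap K (Matrix (Fin 3) (Fin 3) K)) 2, CharTwo.two_eq_zero, map_zero]
      show M * M = 0
      rw [hM, sub_mul, mul_sub, mul_one, one_mul, h2]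
      generalize (g * g * g : Matrix.SpecialLinearGroup (Fin 3) K).1 = B
      calc 1 - B - (B - 1) = 2 * (1 - B) := by rw [two_mul]; abel
        _ = 0 := by rw [h20, zero_mul]
  obtain ⟨a, rfl, ha⟩ := lift x hx hx2
  obtain ⟨b, rfl, hb⟩ := lift y hy hy2
  obtain ⟨g, hg, hdet⟩ := TransvGL.exists_conj ha hb
  have hab : IsConj a b := isConj_iff.2
    ⟨⟨(g : Matrix (Fin 3) (Fin 3) K), hdet le_rfl⟩, mul_inv_eq_iff_eq_mul.2 (Subtype.ext hg)⟩
  exact (QuotientGroup.mk' (Subgroup.center (Matrix.SpecialLinearGroup (Fin 3) K))).map_isConj hab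

open Matrix in
theorem exists_two_classes {F : Type*} [Field F] [Fintype F] (hF : Fintype.card F = 2) :
    ∃ s t : Matrix.ProjectiveSpecialLinearGroup (Fin 4) F, s ≠ 1 ∧ s * s = 1 ∧ t ≠ 1 ∧ t * t = 1 ∧ ¬ IsConj s t := by
  classical
  let e : ZMod 2 ≃+* F := ZMod.ringEquivOfPrime F Nat.prime_two hF
  have hall : ∀ a : F, a = 0 ∨ a = 1 := fun a => by
    obtain ⟨b, rfl⟩ := e.surjective a
    fin_cases b
    · exact Or.inl (map_zero e)
    · exact Or.inr (map_one e)
  have h2 : (1 : F) + 1 = 0 := by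
    rw [← map_one e, ← map_add, ← map_zero e]
    exact congrArg e (by decide)
  have hcen : ∀ z ∈ Subgroup.center (Matrix.SpecialLinearGroup (Fin 4) F), z = 1 := by
    intro z hz
    obtain ⟨r, hr, hrs⟩ := Matrix.SpecialLinearGroup.mem_center_iff.mp hz
    rcases hall r with rfl | rfl
    · simp at hr
    · exact Subtype.ext (by rw [← hrs, map_one]; rfl)
  let A : Matrix.SpecialLinearGroup (Fin 4) F := ⟨!![1, 1, 0, 0; 0, 1, 0, 0; 0, 0, 1, 0; 0, 0, 0, 1],
    by simp [Matrix.det_succ_row_zero, Fin.sum_univ_succ, Fin.succAbove]⟩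
  let B : Matrix.SpecialLinearGroup (Fin 4) F := ⟨!![1, 1, 0, 0; 0, 1, 0, 0; 0, 0, 1, 1; 0, 0, 0, 1],
    by simp [Matrix.det_succ_row_zero, Fin.sum_univ_succ, Fin.succAbove]⟩
  have hAA : A * A = 1 := Subtype.ext (by
    show A.1 * A.1 = 1
    ext i j; fin_cases i <;> fin_cases j <;> simp [A, Matrix.SpecialLinearGroup.coe_mul, Matrix.mul_apply, Fin.sum_univ_four, h2])
  have hBB : B * B = 1 := Subtype.ext (by
    show B.1 * B.1 = 1
    ext i j; fin_cases i <;> fin_cases j <;> simp [B, Matrix.SpecialLinearGroup.coe_mul, Matrix.mul_apply, Fin.sum_univ_four, h2])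
  have hne : ∀ C : Matrix.SpecialLinearGroup (Fin 4) F, C.1 0 1 ≠ 0 →
      (QuotientGroup.mk C : Matrix.ProjectiveSpecialLinearGroup (Fin 4) F) ≠ 1 := fun C hC h => by
    rw [hcen C ((QuotientGroup.eq_one_iff C).mp h)] at hC
    simp at hC
  refine ⟨QuotientGroup.mk A, QuotientGroup.mk B, hne A (by simp [A]),
    by rw [← QuotientGroup.mk_mul, hAA, QuotientGroup.mk_one], hne B (by simp [B]),
    by rw [← QuotientGroup.mk_mul, hBB, QuotientGroup.mk_one], ?_⟩
  intro hc
  obtain ⟨q, hq⟩ := isConj_iff.mp hc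
  obtain ⟨g, rfl⟩ := QuotientGroup.mk_surjective q
  rw [← QuotientGroup.mk_inv, ← QuotientGroup.mk_mul, ← QuotientGroup.mk_mul] at hq
  have := hcen _ (QuotientGroup.eq.mp hq)
  have he : g * A = B * g := by
    rw [inv_mul_eq_one] at this
    rw [← this]; group
  have hm : g.1 * A.1 = B.1 * g.1 := congrArg Subtype.val he
  have hE : ∀ i j, (g.1 * A.1) i j = (B.1 * g.1) i j := fun i j => by rw [hm]
  have a0 := hE 0 0
  have a2 := hE 0 2
  have a3 := hE 0 3
  have b0 := hE 2 0
  have b2 := hE 2 2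
  have b3 := hE 2 3
  simp [A, B, Matrix.mul_apply, Fin.sum_univ_four] at a0 a2 a3 b0 b2 b3
  have hinv : g.1 * (g⁻¹ : Matrix.SpecialLinearGroup (Fin 4) F).1 = 1 := by
    rw [← Matrix.SpecialLinearGroup.coe_mul, mul_inv_cancel]; rfl
  generalize (g⁻¹ : Matrix.SpecialLinearGroup (Fin 4) F).1 = h at hinv
  have c11 := congrFun (congrFun hinv 1) 1
  have c31 := congrFun (congrFun hinv 3) 1
  have c33 := congrFun (congrFun hinv 3) 3
  simp [Matrix.mul_apply, Fin.sum_univ_four, a0, a2, a3, b0, b2, b3] at c11 c31 c33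
  rcases c31 with e | e
  · rw [e, zero_mul] at c33; exact zero_ne_one c33
  · rw [e, mul_zero] at c11; exact zero_ne_one c11

/-- Let F be a field with 2 elements and K a field with 4 elements. PSL_4(F) and PSL_3(K) have the same order (20160) but are not isomorphic. -/
theorem result {F K : Type*} [Field F] [Fintype F] [Field K] [Fintype K] (hF : Fintype.card F = 2) (hK : Fintype.card K = 4) : Nat.card (Matrix.ProjectiveSpecialLinearGroup (Fin 4) F) = Nat.card (Matrix.ProjectiveSpecialLinearGroup (Fin 3) K) ∧ ¬ Nonempty (Matrix.ProjectiveSpecialLinearGroup (Fin 4) F ≃* Matrix.ProjectiveSpecialLinearGroup (Fin 3) K) := by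
  constructor
  · have h4 := S0243.result (F := F) hF 4 (by norm_num)
    have h3 := S0243.result (F := K) hK 3 (by norm_num)
    norm_num [Fin.prod_univ_four, Fin.prod_univ_three, Fin.prod_univ_succ] at h4 h3
    omega
  · rintro ⟨e⟩
    obtain ⟨s, t, hs, hs2, ht, ht2, hn⟩ := exists_two_classes hF
    have := conj_of_sq_one hK (e s) (e t) (fun h => hs (e.injective (h.trans (map_one e).symm)))
      (by rw [← map_mul, hs2, map_one]) (fun h => ht (e.injective (h.trans (map_one e).symm)))
      (by rw [← map_mul, ht2, map_one])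
    have h' := e.symm.toMonoidHom.map_isConj this
    simp [-isConj_iff] at h'
    exact hn h'

end Cfsg.Agent.S2550
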