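import Cfsg.Statements.S0821
-- import your own Cfsg.Agent.* helpers here
import Cfsg.Agent.Lib.Forms.SpInvol
import Cfsg.Agent.Lib.Forms.OddInvol


set_option autoImplicit false
open Cfsg

namespace Cfsg.Agent.S0821

/-- PSp_2m(q) ≇ PΩ_(2m+1)(q) for q odd and m ≥ 3 (they have the same order). -/
theorem result {F : Type*} [Field F] [Fintype F] (hodd : Odd (Fintype.card F)) (m : ℕ) (hm : 3 ≤ m) : IsEmpty (Cfsg.PSp m F ≃* Cfsg.POmega F (Cfsg.quadFormOdd m F)) := by
  classical
  refine ⟨fun e => ?_⟩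
  have h2 : (2 : F) ≠ 0 := fun h => by
    have : CharP F 2 := (CharP.charP_iff_prime_eq_zero Nat.prime_two).2 (by exact_mod_cast h)
    have := FiniteField.even_card_of_char_two (ringChar.eq F 2)
    rw [Nat.odd_iff] at hodd
    omega
  -- the orthogonal side
  let κ : Cfsg.isometryGroup F (Cfsg.quadFormOdd m F) ≃* FormsLib.oGroup (FormsLib.qOdd m F) :=
    (MulEquiv.subgroupCongr (by rw [FormsLib.coe_qOdd])).trans (FormsLib.oEquiv _)
  let Ω := Cfsg.Omega F (Cfsg.quadFormOdd m F)
  have hmap : Ω.map κ.toMonoidHom = commutator (FormsLib.oGroup (FormsLib.qOdd m F)) := by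
    show (commutator _).map κ.toMonoidHom = _
    rw [commutator_def, Subgroup.map_commutator, Subgroup.map_top_of_surjective _ κ.surjective,
      commutator_def]
  have hcent : Subgroup.center Ω = ⊥ := by
    rw [Subgroup.eq_bot_iff_forall]
    intro z hz
    have h1 : κ z.1 = 1 := FormsLib.center_commutator_oOdd hm h2
      (hmap ▸ Subgroup.mem_map_of_mem κ.toMonoidHom z.2) fun g hg => by
        obtain ⟨w, hw, rfl⟩ := (hmap.symm ▸ hg : g ∈ Ω.map κ.toMonoidHom)
        have := congrArg (fun t : Ω => κ t.1) (Subgroup.mem_center_iff.1 hz ⟨w, hw⟩)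
        simpa using this
    exact Subtype.ext (κ.injective (h1.trans (map_one κ).symm))
  have hω : ∀ k : Fin m, ∃ ω : Ω, ω * ω = 1 ∧ Module.finrank F
      (LinearMap.range ((κ ω.1).1.toLinearMap - LinearMap.id)) = 2 * (k.1 + 1) := by
    intro k
    obtain ⟨g, hg, hg2, hrk⟩ := FormsLib.exists_involution (m := m) h2 (k.1 + 1) k.2
    obtain ⟨w, hw, hwg⟩ := (hmap.symm ▸ hg : g ∈ Ω.map κ.toMonoidHom)
    refine ⟨⟨w, hw⟩, Subtype.ext (κ.injective ?_), ?_⟩
    · show κ (w * w) = κ 1
      rw [map_mul, map_one, show κ w = g from hwg, hg2]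
    · show Module.finrank F (LinearMap.range ((κ w).1.toLinearMap - LinearMap.id)) = _
      rw [show κ w = g from hwg, hrk]
  choose ω hω2 hωr using hω
  let x : Fin m → Cfsg.PSp m F := fun k => e.symm (QuotientGroup.mk' _ (ω k))
  have hx2 : ∀ k, x k * x k = 1 := fun k => by
    show e.symm _ * e.symm _ = 1
    rw [← map_mul, ← map_mul, hω2, map_one, map_one]
  have hx1 : ∀ k, x k ≠ 1 := fun k hk => by
    have h1 : QuotientGroup.mk' (Subgroup.center Ω) (ω k) = 1 := e.symm.injective (hk.trans (map_one _).symm)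
    rw [QuotientGroup.mk'_apply, QuotientGroup.eq_one_iff, hcent, Subgroup.mem_bot] at h1
    have h2' := hωr k
    have hz : (κ (ω k).1).1.toLinearMap - LinearMap.id = 0 := by
      rw [h1, OneMemClass.coe_one, map_one]
      exact sub_self _
    rw [hz, LinearMap.range_zero, finrank_bot] at h2'
    omega
  have hconj : ∀ k l, IsConj (x k) (x l) → k = l := by
    intro k l hkl
    obtain ⟨c, hc⟩ := isConj_iff.1 hkl
    have h1 : e c * QuotientGroup.mk' (Subgroup.center Ω) (ω k) * (e c)⁻¹ =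
        QuotientGroup.mk' (Subgroup.center Ω) (ω l) := by
      have := congrArg e hc
      simpa [x] using this
    obtain ⟨d, hd⟩ := QuotientGroup.mk'_surjective (Subgroup.center Ω) (e c)
    rw [← hd, ← map_inv, ← map_mul, ← map_mul, QuotientGroup.mk'_apply, QuotientGroup.mk'_apply,
      QuotientGroup.eq, hcent, Subgroup.mem_bot, inv_mul_eq_one] at h1
    set P := (κ d.1).1 with hP
    have h2' : (κ (ω l).1).1.toLinearMap - LinearMap.id =
        P.toLinearMap ∘ₗ ((κ (ω k).1).1.toLinearMap - LinearMap.id) ∘ₗ P.symm.toLinearMap := by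
      rw [← h1]
      refine LinearMap.ext fun v => ?_
      simp [hP]
    have h3 := hωr l
    rw [h2', LinearMap.range_comp, LinearMap.range_comp_of_range_eq_top _ (LinearEquiv.range _),
      LinearEquiv.finrank_map_eq, hωr k] at h3
    exact Fin.ext (by omega)
  -- the symplectic side
  let π : FormsLib.SpIso m F →* Cfsg.PSp m F :=
    (QuotientGroup.mk' _).comp (FormsLib.spEquiv m F).symm.toMonoidHom
  have hπs : Function.Surjective π :=
    (QuotientGroup.mk'_surjective _).comp (FormsLib.spEquiv m F).symm.surjective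
  have hπ1 : ∀ g, π g = 1 ↔ g ∈ Subgroup.center (FormsLib.SpIso m F) := fun g => by
    show QuotientGroup.mk' _ ((FormsLib.spEquiv m F).symm g) = 1 ↔ _
    rw [QuotientGroup.mk'_apply, QuotientGroup.eq_one_iff, Subgroup.mem_center_iff,
      Subgroup.mem_center_iff, (FormsLib.spEquiv m F).symm.surjective.forall]
    simp [← map_mul]
  have hneg : π FormsLib.spNeg = 1 := by
    rw [hπ1, FormsLib.center_spIso]
    exact Subgroup.mem_zpowers _
  let good : Fin m → Fin (m / 2 + 1) → Prop := fun k j => ∃ g : FormsLib.SpIso m F, π g = x k ∧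
    ((j.1 = 0 ∧ ∀ v, g.1 (g.1 v) = -v) ∨
      (0 < j.1 ∧ ∃ (b : ℕ) (es fs : Fin j.1 ⊕ Fin b → Fin m ⊕ Fin m → F),
        FormsLib.IsSFrame (FormsLib.spB m F) es fs ∧
        (∀ i, g.1 (es (.inl i)) = es (.inl i) ∧ g.1 (fs (.inl i)) = fs (.inl i)) ∧
        (∀ i, g.1 (es (.inr i)) = -es (.inr i) ∧ g.1 (fs (.inr i)) = -fs (.inr i))))
  have hgood : ∀ k, ∃ j, good k j := by
    intro k
    obtain ⟨g, hg⟩ := hπs (x k)
    have hsq : g * g ∈ Subgroup.center (FormsLib.SpIso m F) := by
      rw [← hπ1, map_mul, hg, hx2]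
    rcases FormsLib.center_le_pm hsq with h | h
    · obtain ⟨a, b, es, fs, hfr, hP, hN⟩ := FormsLib.exists_frame_sq_one FormsLib.spB_alt
        FormsLib.spB_nondeg h2 g.2 (fun v => congrArg (fun t : FormsLib.SpIso m F => t.1 v) h)
      have hab := hfr.finrank_eq FormsLib.spB_alt
      simp only [Module.finrank_pi, Fintype.card_sum, Fintype.card_fin] at hab
      let bs := Module.Basis.mk (FormsLib.sfamily_linearIndependent FormsLib.spB_alt hfr.ef hfr.ee
        hfr.ff) hfr.span
      have hb : b ≠ 0 := by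
        rintro rfl
        refine hx1 k (hg ▸ ?_)
        have : g = 1 := Subtype.ext (LinearEquiv.toLinearMap_injective (bs.ext fun s => by
          rcases s with (i | i) | (i | i)
          · simpa [bs] using (hP i).1
          · exact i.elim0
          · simpa [bs] using (hP i).2
          · exact i.elim0))
        rw [this, map_one]
      have ha : a ≠ 0 := by
        rintro rfl
        refine hx1 k (hg ▸ ?_)
        have : g = FormsLib.spNeg := Subtype.ext (LinearEquiv.toLinearMap_injective (bs.ext fun s => by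
          rcases s with (i | i) | (i | i)
          · exact i.elim0
          · simpa [bs, FormsLib.spNeg] using (hN i).1
          · exact i.elim0
          · simpa [bs, FormsLib.spNeg] using (hN i).2))
        rw [this, hneg]
      rcases le_or_gt a (m / 2) with hle | hgt
      · exact ⟨⟨a, by omega⟩, g, hg, Or.inr ⟨by show 0 < a; omega, b, es, fs, hfr, hP, hN⟩⟩
      · refine ⟨⟨b, by omega⟩, FormsLib.spNeg * g, by rw [map_mul, hneg, one_mul, hg],
          Or.inr ⟨by show 0 < b; omega, a, es ∘ Sum.swap, fs ∘ Sum.swap, ?_, ?_, ?_⟩⟩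
        · refine ⟨fun i j => ?_, fun i j => hfr.ee _ _, fun i j => hfr.ff _ _, ?_⟩
          · simp [hfr.ef, Sum.swap_leftInverse.injective.eq_iff]
          · refine hfr.span.trans (Submodule.span_mono ?_)
            rintro _ ⟨(i | i) | (i | i), rfl⟩
            · exact ⟨.inl (.inr i), rfl⟩
            · exact ⟨.inl (.inl i), rfl⟩
            · exact ⟨.inr (.inr i), rfl⟩
            · exact ⟨.inr (.inl i), rfl⟩
        · exact fun i => ⟨by simp [FormsLib.spNeg, (hN i).1], by simp [FormsLib.spNeg, (hN i).2]⟩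
        · exact fun i => ⟨by simp [FormsLib.spNeg, (hP i).1], by simp [FormsLib.spNeg, (hP i).2]⟩
    · exact ⟨⟨0, by omega⟩, g, hg, Or.inl ⟨rfl, h⟩⟩
  choose J hJ using hgood
  obtain ⟨k, l, hkl, hJkl⟩ := Fintype.exists_ne_map_eq_of_card_lt J
    (by simp only [Fintype.card_fin]; omega)
  apply hkl
  apply hconj
  obtain ⟨g, hg, hgc⟩ := hJ k
  obtain ⟨g', hg', hgc'⟩ := hJ l
  rw [← hJkl] at hgc'
  obtain ⟨c, hc, hcg⟩ : ∃ c ∈ FormsLib.isoGroup (FormsLib.spB m F), c * g.1 = g'.1 * c := by
    rcases hgc with ⟨hj, h⟩ | ⟨hj, b, es, fs, hfr, hP, hN⟩ <;>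
      rcases hgc' with ⟨hj', h'⟩ | ⟨hj', b', es', fs', hfr', hP', hN'⟩
    · exact FormsLib.conj_of_sq_neg_one FormsLib.spB_alt FormsLib.spB_nondeg h2 g.2 h g'.2 h'
    · exact absurd hj (by omega)
    · exact absurd hj' (by omega)
    · exact FormsLib.conj_of_frames FormsLib.spB_alt FormsLib.spB_nondeg hfr hP hN hfr' hP' hN' rfl
  rw [isConj_iff, ← hg, ← hg']
  refine ⟨π ⟨c, hc⟩, ?_⟩
  rw [← map_inv, ← map_mul, ← map_mul]
  congr 1
  rw [mul_inv_eq_iff_eq_mul]
  exact Subtype.ext hcg

end Cfsg.Agent.S0821
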