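import Cfsg.Statements.S0823
import Cfsg.Agent.S0286

set_option autoImplicit false
open Cfsg

namespace Cfsg.Agent.S0823

open Cfsg.Agent

abbrev J3 := Unit ⊕ (Fin 1 ⊕ Fin 1)

def idx3 : J3 → Fin 3 := Sum.elim (fun _ => 0) (Sum.elim (fun _ => 1) (fun _ => 2))

def tMat : Matrix (Fin 4) (Fin 3) (ZMod 3) := !![0, 0, 2; 0, 1, 0; 1, 1, 2; 2, 1, 2]

def pMat : Matrix (Fin 3) (Fin 4) (ZMod 3) := !![0, 0, 2, 1; 2, 0, 2, 2; 0, 1, 1, 1]

/-- The signed permutation module. -/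
def mMat (σ : Equiv.Perm (Fin 4)) : Matrix J3 J3 (ZMod 3) := Matrix.of fun i j =>
  ((Equiv.Perm.sign σ : ℤ) : ZMod 3) * ∑ k, pMat (idx3 i) (σ k) * tMat k (idx3 j)

def mHom : Equiv.Perm (Fin 4) →* Matrix J3 J3 (ZMod 3) where
  toFun := mMat
  map_one' := by decide +kernel
  map_mul' := by decide +kernel

theorem iso : ∀ (σ : Equiv.Perm (Fin 4)) (u : J3 → ZMod 3),
    Cfsg.quadFormOdd 1 (ZMod 3) (Matrix.mulVec (mMat σ) u) = Cfsg.quadFormOdd 1 (ZMod 3) u := by
  unfold Cfsg.quadFormOdd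
  decide +kernel

theorem det_one' : ∀ σ : Equiv.Perm (Fin 4), (mMat σ).det = 1 := by decide +kernel

theorem neg_one_ne : (-1 : ZMod 3) ≠ 1 := by decide

theorem inj : ∀ σ τ : Equiv.Perm (Fin 4), mMat σ = mMat τ → σ = τ := by decide +kernel

/-- SO_3(3) ≅ S_4: the determinant-one isometries of the form x_0² + x_1y_1 over the field with 3 elements form a group isomorphic to the symmetric group on 4 letters. -/
theorem result {F : Type*} [Field F] [Fintype F] (hF : Fintype.card F = 3) : Nonempty (↥(Cfsg.specialIsometryGroup F (Cfsg.quadFormOdd 1 F)) ≃* Equiv.Perm (Fin 4)) := by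
  classical
  have : Fact (Nat.Prime 3) := ⟨Nat.prime_three⟩
  let e : ZMod 3 ≃+* F := ZMod.ringEquivOfPrime F Nat.prime_three hF
  let f : Equiv.Perm (Fin 4) →* Matrix (Unit ⊕ (Fin 1 ⊕ Fin 1)) (Unit ⊕ (Fin 1 ⊕ Fin 1)) F :=
    ((e : ZMod 3 →+* F).mapMatrix.toMonoidHom).comp mHom
  have hf : ∀ σ, f σ = (mHom σ).map e := fun σ => rfl
  have hmem : ∀ σ, f.toHomUnits σ ∈ Cfsg.isometryGroup F (Cfsg.quadFormOdd 1 F) := by
    intro σ v _
    obtain ⟨u, rfl⟩ : ∃ u : Unit ⊕ (Fin 1 ⊕ Fin 1) → ZMod 3, (fun i => e (u i)) = v :=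
      ⟨fun i => e.symm (v i), funext fun i => e.apply_symm_apply _⟩
    show Cfsg.quadFormOdd 1 F (Matrix.mulVec (f σ) fun i => e (u i)) = Cfsg.quadFormOdd 1 F fun i => e (u i)
    have h1 : Matrix.mulVec (f σ) (fun i => e (u i)) = fun i => e (Matrix.mulVec (mHom σ) u i) :=
      funext fun i => ((e : ZMod 3 →+* F).map_mulVec (mHom σ) u i).symm
    rw [h1]
    have h3 := congrArg e (iso σ u)
    simp only [Cfsg.quadFormOdd, map_add, map_pow, map_sum, map_mul] at h3 ⊢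
    exact h3
  let g : Equiv.Perm (Fin 4) →* ↥(Cfsg.isometryGroup F (Cfsg.quadFormOdd 1 F)) := f.toHomUnits.codRestrict _ hmem
  have hdet : ∀ σ, g σ ∈ Cfsg.specialIsometryGroup F (Cfsg.quadFormOdd 1 F) := by
    intro σ
    show Matrix.GeneralLinearGroup.det (f.toHomUnits σ) = 1
    ext
    show (f σ).det = 1
    exact (((e : ZMod 3 →+* F)).map_det (mHom σ)).symm.trans ((congrArg e (det_one' σ)).trans (map_one e))
  have hinj : Function.Injective (g.codRestrict _ hdet) := by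
    intro σ τ h
    have h' : f σ = f τ := congrArg (fun k => (((k : ↥(Cfsg.specialIsometryGroup F (Cfsg.quadFormOdd 1 F))) : ↥(Cfsg.isometryGroup F (Cfsg.quadFormOdd 1 F))) : Matrix.GeneralLinearGroup (Unit ⊕ (Fin 1 ⊕ Fin 1)) F).1) h
    exact inj σ τ (Matrix.map_injective e.injective h')
  have hle : Nat.card ↥(Cfsg.specialIsometryGroup F (Cfsg.quadFormOdd 1 F)) ≤ 24 := by
    have h48 : Nat.card ↥(Cfsg.isometryGroup F (Cfsg.quadFormOdd 1 F)) = 48 := by
      rw [S0286.result hF (by decide) 1]; rfl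
    by_contra hc
    have htop : Cfsg.specialIsometryGroup F (Cfsg.quadFormOdd 1 F) = ⊤ := by
      have hd := Subgroup.card_subgroup_dvd_card (Cfsg.specialIsometryGroup F (Cfsg.quadFormOdd 1 F))
      rw [h48] at hd
      refine Subgroup.eq_top_of_card_eq _ ?_
      rw [h48]
      obtain ⟨c, hc'⟩ := hd
      rcases c with _ | _ | c
      · omega
      · omega
      · nlinarith
    have hneg : (-1 : Matrix.GeneralLinearGroup (Unit ⊕ (Fin 1 ⊕ Fin 1)) F) ∈ Cfsg.isometryGroup F (Cfsg.quadFormOdd 1 F) := by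
      intro v _
      show Cfsg.quadFormOdd 1 F (Matrix.mulVec (-1 : Matrix _ _ F) v) = _
      simp [Cfsg.quadFormOdd, Matrix.neg_mulVec]
    have h1 : (⟨_, hneg⟩ : ↥(Cfsg.isometryGroup F (Cfsg.quadFormOdd 1 F))) ∈ Cfsg.specialIsometryGroup F (Cfsg.quadFormOdd 1 F) := htop ▸ Subgroup.mem_top _
    have h2 : (-1 : Matrix (Unit ⊕ (Fin 1 ⊕ Fin 1)) (Unit ⊕ (Fin 1 ⊕ Fin 1)) F).det = 1 := congrArg Units.val h1
    rw [Matrix.det_neg, Matrix.det_one] at h2
    simp at h2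
    have h3 : e (-1) = e 1 := by rw [map_neg, map_one]; linear_combination h2
    exact absurd (e.injective h3) neg_one_ne
  have : Finite ↥(Cfsg.specialIsometryGroup F (Cfsg.quadFormOdd 1 F)) := inferInstance
  have hcard : Nat.card ↥(Cfsg.specialIsometryGroup F (Cfsg.quadFormOdd 1 F)) ≤ Nat.card (Equiv.Perm (Fin 4)) :=
    hle.trans (by rw [Nat.card_eq_fintype_card, Fintype.card_perm]; rfl)
  exact ⟨(MulEquiv.ofBijective _ ⟨hinj, (Function.Injective.bijective_of_nat_card_le hinj hcard).2⟩).symm⟩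

end Cfsg.Agent.S0823
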