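import Cfsg.Statements.S0824
import Cfsg.Agent.S0288
import Cfsg.Agent.Lib.F2Perm.Basic

set_option autoImplicit false
open Cfsg

namespace Cfsg.Agent.S0824

open Cfsg.Agent

theorem aniso2 : ∀ a b : ZMod 2, a ^ 2 + 1 * a * b + 1 * b ^ 2 = 0 → a = 0 ∧ b = 0 := by decide

theorem aniso {F : Type*} [Field F] [Fintype F] (hF : Fintype.card F = 2) :
    ∀ z₁ z₂ : F, z₁ ^ 2 + 1 * z₁ * z₂ + 1 * z₂ ^ 2 = 0 → z₁ = 0 ∧ z₂ = 0 := by
  have : Fact (Nat.Prime 2) := ⟨Nat.prime_two⟩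
  let e : ZMod 2 ≃+* F := ZMod.ringEquivOfPrime F Nat.prime_two hF
  intro z₁ z₂ h
  obtain ⟨a, rfl⟩ := e.surjective z₁
  obtain ⟨b, rfl⟩ := e.surjective z₂
  have h' : a ^ 2 + 1 * a * b + 1 * b ^ 2 = 0 := e.injective (by simpa only [map_add, map_mul, map_pow, map_one, map_zero] using h)
  obtain ⟨rfl, rfl⟩ := aniso2 a b h'
  simp

def split4 : (Fin 1 ⊕ Fin 1) ⊕ Fin 2 → Fin 4 := Sum.elim (Sum.elim (fun _ => 0) (fun _ => 1)) ![2, 3]

def tMat : Matrix (Fin 5) ((Fin 1 ⊕ Fin 1) ⊕ Fin 2) (ZMod 2) := Matrix.of fun i j => (!![0, 1, 0, 0; 1, 0, 0, 0; 1, 1, 0, 1; 1, 1, 1, 0; 1, 1, 1, 1] : Matrix (Fin 5) (Fin 4) (ZMod 2)) i (split4 j)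

def pMat : Matrix ((Fin 1 ⊕ Fin 1) ⊕ Fin 2) (Fin 5) (ZMod 2) := Matrix.of fun i j => (!![0, 1, 0, 0, 0; 0, 1, 1, 1, 1; 0, 0, 1, 0, 1; 0, 0, 0, 1, 1] : Matrix (Fin 4) (Fin 5) (ZMod 2)) (split4 i) j

theorem data : F2Perm.Data 5 tMat pMat (Cfsg.quadFormMinus 1 (ZMod 2) 1 1) where
  even := by unfold tMat; decide +kernel
  left := by unfold tMat pMat; decide +kernel
  right := by unfold tMat pMat; decide +kernel
  form := by unfold tMat Cfsg.quadFormMinus F2Perm.halfWt; decide +kernel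
  shift := by unfold pMat F2Perm.halfWt; decide +kernel

/-- O⁻_4(2) ≅ S_5: the isometry group of the form x y + z_1² + z_1 z_2 + z_2² over the field with 2 elements is isomorphic to the symmetric group on 5 letters. -/
theorem result {F : Type*} [Field F] [Fintype F] (hF : Fintype.card F = 2) : Nonempty (↥(Cfsg.isometryGroup F (Cfsg.quadFormMinus 1 F 1 1)) ≃* Equiv.Perm (Fin 5)) := by
  classical
  have : Fact (Nat.Prime 2) := ⟨Nat.prime_two⟩
  let e : ZMod 2 ≃+* F := ZMod.ringEquivOfPrime F Nat.prime_two hF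
  have hcard := S0288.result hF 2 (by norm_num) 1 1 (aniso hF)
  obtain ⟨φ⟩ := F2Perm.isometryGroup_congr (Q := Cfsg.quadFormMinus 1 (ZMod 2) 1 1) e (Cfsg.quadFormMinus 1 F 1 1) (fun v => by simp only [Cfsg.quadFormMinus, map_sum, map_add, map_mul, map_pow, map_one])
  refine ⟨(MulEquiv.ofBijective (φ.toMonoidHom.comp data.hom) ((Nat.bijective_iff_injective_and_card _).2
    ⟨φ.injective.comp (data.hom_injective (by norm_num)), ?_⟩)).symm⟩
  · rw [Nat.card_eq_fintype_card, Fintype.card_perm, hcard]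
    rfl

end Cfsg.Agent.S0824
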