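import Cfsg.Statements.S0825
import Cfsg.Agent.S0287
import Cfsg.Agent.Lib.F2Perm.Basic

set_option autoImplicit false
open Cfsg

namespace Cfsg.Agent.S0825

open Cfsg.Agent

def split6 : Fin 3 ⊕ Fin 3 → Fin 6 := Sum.elim (fun i => ⟨i.val, by omega⟩) (fun i => ⟨i.val + 3, by omega⟩)

def tMat : Matrix (Fin 8) (Fin 3 ⊕ Fin 3) (ZMod 2) := Matrix.of fun i j => (!![0, 0, 0, 0, 0, 0; 0, 0, 1, 0, 0, 1; 0, 1, 0, 0, 1, 1; 0, 1, 1, 1, 1, 0; 1, 0, 0, 1, 1, 1; 1, 0, 1, 1, 0, 0; 1, 1, 0, 1, 0, 1; 1, 1, 1, 0, 1, 0] : Matrix (Fin 8) (Fin 6) (ZMod 2)) i (split6 j)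

def pMat : Matrix (Fin 3 ⊕ Fin 3) (Fin 8) (ZMod 2) := Matrix.of fun i j => (!![0, 0, 0, 1, 1, 1, 1, 0; 0, 0, 1, 1, 1, 0, 0, 1; 0, 1, 1, 0, 1, 0, 1, 0; 0, 0, 0, 0, 1, 1, 1, 1; 0, 0, 1, 1, 0, 0, 1, 1; 0, 1, 0, 1, 0, 1, 0, 1] : Matrix (Fin 6) (Fin 8) (ZMod 2)) (split6 i) j

theorem data : F2Perm.Data 8 tMat pMat (Cfsg.quadFormPlus 3 (ZMod 2)) where
  even := by unfold tMat; decide +kernel
  left := by unfold tMat pMat; decide +kernel
  right := by unfold tMat pMat; decide +kernel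
  form := by unfold tMat Cfsg.quadFormPlus F2Perm.halfWt; decide +kernel
  shift := by unfold pMat F2Perm.halfWt; decide +kernel

/-- O⁺_6(2) ≅ S_8: the isometry group of the hyperbolic form x_1y_1 + x_2y_2 + x_3y_3 over the field with 2 elements is isomorphic to the symmetric group on 8 letters. -/
theorem result {F : Type*} [Field F] [Fintype F] (hF : Fintype.card F = 2) : Nonempty (↥(Cfsg.isometryGroup F (Cfsg.quadFormPlus 3 F)) ≃* Equiv.Perm (Fin 8)) := by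
  classical
  have : Fact (Nat.Prime 2) := ⟨Nat.prime_two⟩
  let e : ZMod 2 ≃+* F := ZMod.ringEquivOfPrime F Nat.prime_two hF
  have hcard := S0287.result hF 3 (by norm_num)
  obtain ⟨φ⟩ := F2Perm.isometryGroup_congr (Q := Cfsg.quadFormPlus 3 (ZMod 2)) e (Cfsg.quadFormPlus 3 F) (fun v => by simp only [Cfsg.quadFormPlus, map_sum, map_add, map_mul, map_pow, map_one])
  refine ⟨(MulEquiv.ofBijective (φ.toMonoidHom.comp data.hom) ((Nat.bijective_iff_injective_and_card _).2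
    ⟨φ.injective.comp (data.hom_injective (by norm_num)), ?_⟩)).symm⟩
  · rw [Nat.card_eq_fintype_card, Fintype.card_perm, hcard]
    rfl

end Cfsg.Agent.S0825
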