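import Cfsg.Statements.S0826
import Cfsg.Agent.Lib.Forms.Models

set_option autoImplicit false
open Cfsg

namespace Cfsg.Agent.S0826

theorem zmod2 : ∀ a : ZMod 2, (a = 0 ∨ a = 1) ∧ a * a = a := by decide

/-- S_2n ≤ Sp_(2n−2)(2) for n ≥ 3: there is an injective homomorphism from the symmetric group on 2n letters into the symplectic group of degree 2n − 2 over the field with two elements. -/
theorem result (n : ℕ) (hn : 3 ≤ n) : ∃ f : Equiv.Perm (Fin (2 * n)) →* Matrix.symplecticGroup (Fin (n - 1)) (ZMod 2), Function.Injective f := by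
  classical
  haveI : Fact (Nat.Prime 2) := ⟨Nat.prime_two⟩
  -- the even-weight module
  let ι := Fin (2 * n)
  let s : (ι → ZMod 2) →ₗ[ZMod 2] ZMod 2 := ∑ i, LinearMap.proj i
  have hs : ∀ v, s v = ∑ i, v i := fun v => by simp [s]
  let E : Submodule (ZMod 2) (ι → ZMod 2) := LinearMap.ker s
  obtain ⟨one, hone⟩ : ∃ one : ι → ZMod 2, one = fun _ => 1 := ⟨_, rfl⟩
  have hone_mem : one ∈ E := by
    show s one = 0
    rw [hs, hone]
    simp [ι]
    exact Or.inl rfl
  let N : Submodule (ZMod 2) E := Submodule.span (ZMod 2) {⟨one, hone_mem⟩}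
  let D : LinearMap.BilinForm (ZMod 2) E :=
    LinearMap.mk₂ (ZMod 2) (fun u v => u.1 ⬝ᵥ v.1) (fun _ _ _ => add_dotProduct _ _ _)
      (fun _ _ _ => smul_dotProduct _ _ _) (fun _ _ _ => dotProduct_add _ _ _) (fun _ _ _ => dotProduct_smul _ _ _)
  have hD : ∀ u v, D u v = u.1 ⬝ᵥ v.1 := fun u v => rfl
  have hsum : ∀ v : E, ∑ i, v.1 i = 0 := fun v => by rw [← hs]; exact v.2
  have hN : ∀ u, D u ⟨one, hone_mem⟩ = 0 := fun u => by
    rw [hD]
    show u.1 ⬝ᵥ one = 0
    simpa [hone, dotProduct] using hsum u
  have hN2 : N ≤ LinearMap.ker D.flip := by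
    rw [Submodule.span_singleton_le_iff_mem]
    exact LinearMap.ext fun u => hN u
  have hN1 : N ≤ LinearMap.ker D := by
    rw [Submodule.span_singleton_le_iff_mem]
    refine LinearMap.ext fun u => ?_
    show D ⟨one, hone_mem⟩ u = 0
    rw [hD, dotProduct_comm, ← hD]
    exact hN u
  let B : LinearMap.BilinForm (ZMod 2) (E ⧸ N) := D.liftQ₂ N N hN1 hN2
  have hB : ∀ u v, B (Submodule.Quotient.mk u) (Submodule.Quotient.mk v) = u.1 ⬝ᵥ v.1 := fun u v => rfl
  have hmem : ∀ u : E, u ∈ N ↔ (u.1 = 0 ∨ u.1 = one) := fun u => by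
    rw [Submodule.mem_span_singleton]
    constructor
    · rintro ⟨c, rfl⟩
      rcases (zmod2 c).1 with rfl | rfl <;> simp
    · rintro (h | h)
      · exact ⟨0, Subtype.ext (by simp [h])⟩
      · exact ⟨1, Subtype.ext (by simp [h])⟩
  have hA : LinearMap.IsAlt B := fun x => by
    induction x using Submodule.Quotient.induction_on with
    | _ u =>
      rw [hB, dotProduct, ← hsum u]
      exact Finset.sum_congr rfl fun i _ => (zmod2 _).2
  have hpair : ∀ i j : ι, Pi.single i (1 : ZMod 2) + Pi.single j 1 ∈ E := fun i j => by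
    show s _ = 0
    rw [hs]
    simp [Finset.sum_add_distrib]
    rfl
  have hnd : ∀ x, (∀ y, B x y = 0) → x = 0 := fun x hx => by
    induction x using Submodule.Quotient.induction_on with
    | _ u =>
      rw [Submodule.Quotient.mk_eq_zero, hmem]
      have hall : ∀ i j, u.1 i = u.1 j := fun i j => by
        have h := hx (Submodule.Quotient.mk ⟨_, hpair i j⟩)
        rw [hB, dotProduct_add, dotProduct_single, dotProduct_single, mul_one, mul_one] at h
        rwa [CharTwo.add_eq_zero] at h
      rcases (fun a => (zmod2 a).1) (u.1 ⟨0, by omega⟩) with h | h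
      · exact Or.inl (funext fun i => by rw [hall i ⟨0, by omega⟩, h]; rfl)
      · exact Or.inr (funext fun i => by rw [hall i ⟨0, by omega⟩, h, hone])
  have hdim : Module.finrank (ZMod 2) (E ⧸ N) = 2 * (n - 1) := by
    have h1 := N.finrank_quotient_add_finrank
    have h2 : Module.finrank (ZMod 2) N = 1 := finrank_span_singleton (fun h => by
      have := congrFun (congrArg Subtype.val h) ⟨0, by omega⟩
      change one _ = (0 : ZMod 2) at this
      exact one_ne_zero ((congrFun hone _).symm.trans this))
    have h3 := LinearMap.finrank_range_add_finrank_ker s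
    rw [LinearMap.range_eq_top.2 (fun c => ⟨Pi.single ⟨0, by omega⟩ c, by rw [hs]; simp⟩), finrank_top,
      Module.finrank_self, Module.finrank_fin_fun] at h3
    change _ + Module.finrank (ZMod 2) E = _ at h3
    omega
  obtain ⟨eS⟩ := FormModel.exists_symp_equiv hA hnd hdim
  -- the action
  let act : Equiv.Perm ι →* ((ι → ZMod 2) ≃ₗ[ZMod 2] (ι → ZMod 2)) :=
    MonoidHom.mk' (fun π => LinearEquiv.funCongrLeft (ZMod 2) (ZMod 2) π.symm)
      (fun a b => LinearEquiv.ext fun v => rfl)
  have hact : ∀ π v i, act π v i = v (π.symm i) := fun π v i => rfl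
  have hEmap : ∀ π, E.map (act π).toLinearMap = E := fun π => by
    have hle : ∀ π, ∀ v ∈ E, act π v ∈ E := fun π v hv => by
      show s _ = 0
      rw [hs]
      simp only [hact]
      rw [Equiv.sum_comp π.symm v, ← hs]
      exact hv
    refine le_antisymm (Submodule.map_le_iff_le_comap.2 (hle π)) fun v hv => ⟨act π⁻¹ v, hle _ v hv, ?_⟩
    funext i
    show v (π (π.symm i)) = v i
    rw [π.apply_symm_apply]
  let aE : Equiv.Perm ι → (E ≃ₗ[ZMod 2] E) := fun π => (act π).ofSubmodules E E (hEmap π)
  have haE : ∀ π u, (aE π u).1 = act π u.1 := fun π u => rfl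
  have hNmap : ∀ π, N.map (aE π).toLinearMap = N := fun π => by
    rw [Submodule.map_span, Set.image_singleton]
    congr 2
    refine Subtype.ext (funext fun i => ?_)
    show act π one i = one i
    rw [hact, hone]
  let aQ : Equiv.Perm ι →* ↥(FormModel.isoSub B) :=
    MonoidHom.mk' (fun π => ⟨Submodule.Quotient.equiv N N (aE π) (hNmap π), fun x y => by
      induction x using Submodule.Quotient.induction_on with
      | _ u =>
      induction y using Submodule.Quotient.induction_on with
      | _ v =>
        show B (Submodule.Quotient.mk (aE π u)) (Submodule.Quotient.mk (aE π v)) = _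
        rw [hB, hB, haE, haE]
        exact Equiv.sum_comp π.symm fun i => u.1 i * v.1 i⟩)
      (fun a b => Subtype.ext (LinearEquiv.ext fun x => by
        induction x using Submodule.Quotient.induction_on with
        | _ u => rfl))
  have hinj : Function.Injective aQ := by
    rw [← MonoidHom.ker_eq_bot_iff, Subgroup.eq_bot_iff_forall]
    intro π hπ
    have hfix : ∀ i j, i ≠ j → act π (Pi.single i 1 + Pi.single j 1) = Pi.single i 1 + Pi.single j 1 := by
      intro i j hij
      have h1 := LinearEquiv.congr_fun (congrArg Subtype.val (MonoidHom.mem_ker.1 hπ))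
        (Submodule.Quotient.mk ⟨_, hpair i j⟩)
      have h2 : aE π ⟨_, hpair i j⟩ - ⟨_, hpair i j⟩ ∈ N := (Submodule.Quotient.eq N).1 h1
      rcases (hmem _).1 h2 with h | h
      · exact sub_eq_zero.1 h
      · exfalso
        obtain ⟨k, hk⟩ : ∃ k, k ∉ ({i, j, π i, π j} : Finset ι) := by
          by_contra hc
          push Not at hc
          have h1 := Finset.card_le_card (s := (Finset.univ : Finset ι)) (fun x _ => hc x)
          have h4 : ({i, j, π i, π j} : Finset ι).card ≤ 4 := Finset.card_le_four
          rw [Finset.card_univ, Fintype.card_fin] at h1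
          omega
        simp only [Finset.mem_insert, Finset.mem_singleton, not_or] at hk
        have h' := congrFun h k
        rw [hone] at h'
        have e1 : π.symm k ≠ i := fun e => hk.2.2.1 (by rw [← e, π.apply_symm_apply])
        have e2 : π.symm k ≠ j := fun e => hk.2.2.2 (by rw [← e, π.apply_symm_apply])
        simp [haE, hact, hk.1, hk.2.1, e1, e2] at h'
    refine Equiv.ext fun i => ?_
    have hin : ∀ j, j ≠ i → π i = i ∨ π i = j := fun j hj => by
      by_contra hc
      push Not at hc
      have h := congrFun (hfix i j hj.symm) (π i)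
      simp [hact, hc.1, hc.2, hj.symm] at h
    by_contra hne
    obtain ⟨j, hj⟩ : ∃ j, j ∉ ({i, π i} : Finset ι) := by
      by_contra hc
      push Not at hc
      have h1 := Finset.card_le_card (s := (Finset.univ : Finset ι)) (fun x _ => hc x)
      have h4 : ({i, π i} : Finset ι).card ≤ 2 := Finset.card_le_two
      rw [Finset.card_univ, Fintype.card_fin] at h1
      omega
    simp only [Finset.mem_insert, Finset.mem_singleton, not_or] at hj
    rcases hin j hj.1 with h | h
    · exact hne h
    · exact hj.2 h.symm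
  exact ⟨eS.toMonoidHom.comp aQ, eS.injective.comp hinj⟩

end Cfsg.Agent.S0826
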