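import Cfsg.Statements.S0828
import Cfsg.Agent.Lib.Forms.Quadrangle

set_option autoImplicit false
open Cfsg

namespace Cfsg.Agent.S0828

/-- The symplectic generalised quadrangle over a field with q elements: the number of 2-dimensional subspaces of F^4 on which the symplectic form vanishes is (q + 1)(q² + 1), and every non-zero vector lies in exactly q + 1 of them. -/
theorem result {F : Type*} [Field F] [Fintype F] {q : ℕ} (hF : Fintype.card F = q) : Nat.card {W : Submodule F (Fin 2 ⊕ Fin 2 → F) // Module.finrank F W = 2 ∧ ∀ u ∈ W, ∀ v ∈ W, Cfsg.sympForm 2 F u v = 0} = (q + 1) * (q ^ 2 + 1) ∧ ∀ v : Fin 2 ⊕ Fin 2 → F, v ≠ 0 → Nat.card {W : Submodule F (Fin 2 ⊕ Fin 2 → F) // Module.finrank F W = 2 ∧ v ∈ W ∧ ∀ u ∈ W, ∀ w ∈ W, Cfsg.sympForm 2 F u w = 0} = q + 1 := by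
  classical
  have happ : ∀ u v, FormsLib.spB 2 F u v = Cfsg.sympForm 2 F u v := fun u v => by
    rw [FormsLib.spB_apply]; rfl
  have hA := FormsLib.spB_alt (m := 2) (F := F)
  have hrefl : ∀ x y, FormsLib.spB 2 F x y = 0 → FormsLib.spB 2 F y x = 0 := fun x y h => by
    rw [FormsLib.alt_swap hA, h, neg_zero]
  have hqF : Nat.card F = q := by rw [Nat.card_eq_fintype_card, hF]
  have hq : 2 ≤ q := hF ▸ Fintype.one_lt_card
  have hthr : ∀ v, v ≠ 0 →
      Nat.card {W : Submodule F (Fin 2 ⊕ Fin 2 → F) // Quadrangle.IsLine (FormsLib.spB 2 F) W ∧ v ∈ W} = q + 1 := by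
    intro v hv
    have h1 := Quadrangle.card_lines_through hrefl hv (hA v)
    obtain ⟨H, hH, -, h2⟩ := Quadrangle.exists_perp_count hrefl FormsLib.spB_nondeg.1 hv (hA v)
    rw [h2, hqF, Nat.card_congr (Equiv.subtypeUnivEquiv fun x : H => hA x.1),
      Module.natCard_eq_pow_finrank (K := F) (V := H), hqF,
      show Module.finrank F H = 2 by rw [Module.finrank_pi, Fintype.card_sum, Fintype.card_fin] at hH; omega] at h1
    have h3 : (Nat.card {W : Submodule F (Fin 2 ⊕ Fin 2 → F) // Quadrangle.IsLine (FormsLib.spB 2 F) W ∧ v ∈ W}) *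
        (q ^ 2 - q) = (q + 1) * (q ^ 2 - q) := by
      have h4 : q ≤ q ^ 2 := Nat.le_self_pow two_ne_zero q
      zify [h4] at h1 ⊢
      linear_combination h1
    exact Nat.eq_of_mul_eq_mul_right (by
      have : q < q ^ 2 := by nlinarith
      omega) h3
  have hset : ∀ W : Submodule F (Fin 2 ⊕ Fin 2 → F),
      (Module.finrank F W = 2 ∧ ∀ u ∈ W, ∀ v ∈ W, Cfsg.sympForm 2 F u v = 0) ↔
        Quadrangle.IsLine (FormsLib.spB 2 F) W := fun W => by
    simp only [Quadrangle.IsLine, happ]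
  refine ⟨?_, fun v hv => ?_⟩
  · rw [Nat.card_congr (Equiv.subtypeEquivRight hset)]
    have h := Quadrangle.card_lines (B := FormsLib.spB 2 F) fun v hv _ => hthr v hv
    have hcard : Nat.card {v : Fin 2 ⊕ Fin 2 → F // v ≠ 0 ∧ FormsLib.spB 2 F v v = 0} = q ^ 4 - 1 := by
      rw [Nat.card_congr (Equiv.subtypeEquivRight (q := fun v => v ≠ 0) fun v => by simp [hA v]),
        Nat.card_eq_fintype_card, Fintype.card_subtype_compl, Fintype.card_subtype_eq, Fintype.card_fun,
        Fintype.card_sum, Fintype.card_fin, hF]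
    rw [hcard, hqF] at h
    refine Nat.eq_of_mul_eq_mul_right (by
      have : 1 < q ^ 2 := by nlinarith
      omega : 0 < q ^ 2 - 1) ?_
    rw [h]
    have h5 : 1 ≤ q ^ 2 := by nlinarith
    have h6 : 1 ≤ q ^ 4 := by nlinarith
    zify [h5, h6]
    ring
  · rw [← hthr v hv]
    refine Nat.card_congr (Equiv.subtypeEquivRight fun W => ?_)
    rw [← hset]
    tauto

end Cfsg.Agent.S0828
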