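import Cfsg.Statements.S0830
import Cfsg.Agent.Lib.Forms.Quadrangle
import Cfsg.Agent.Lib.Forms.Orthonormal
import Cfsg.Agent.Lib.Forms.UnitaryFin
import Cfsg.Agent.Lib.LinearGroups.FormCount

set_option autoImplicit false
open Cfsg

namespace Cfsg.Agent.S0830

/-- The unitary quadrangle of PSU_5(q): with |F| = q², the number of 2-dimensional subspaces of F^5 on which the Hermitian form vanishes is (q³ + 1)(q⁵ + 1). -/
theorem result {F : Type*} [Field F] [Fintype F] {q : ℕ} (hF : Fintype.card F = q ^ 2) : Nat.card {W : Submodule F (Fin 5 → F) // Module.finrank F W = 2 ∧ ∀ u ∈ W, ∀ v ∈ W, Cfsg.hermForm 5 F q u v = 0} = (q ^ 3 + 1) * (q ^ 5 + 1) := by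
  classical
  obtain ⟨σ, hσ, hσσ, hq⟩ := FormsLib.exists_qhom hF
  have hU := fun l => (FormsLib.hermB_isUnitary hF l hσ hσσ hq).1
  have happ : ∀ l (u v : Fin l → F), FormsLib.hermB l σ u v = Cfsg.hermForm l F q v u := fun l u v =>
    FormsLib.hermB_apply hσ u v
  have hsym : ∀ u v, σ (FormsLib.hermB 5 σ u v) = FormsLib.hermB 5 σ v u := fun u v => by
    rw [(hU 5).tf.flip u v, one_mul]
  have hrefl : ∀ x y, FormsLib.hermB 5 σ x y = 0 → FormsLib.hermB 5 σ y x = 0 := fun x y h => by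
    rw [← hsym, h, map_zero]
  have hqF : Nat.card F = q ^ 2 := by rw [Nat.card_eq_fintype_card, hF]
  have h0q : (0 : F) ^ q = 0 := zero_pow (by omega)
  have hiso : ∀ l, (q : ℤ) * Nat.card {v : Fin l → F // FormsLib.hermB l σ v v = 0} =
      (q : ℤ) ^ (2 * l) + (-1) ^ l * (q : ℤ) ^ l * ((q : ℤ) - 1) := fun l => by
    rw [Nat.card_congr (Equiv.subtypeEquivRight fun v : Fin l → F =>
      show FormsLib.hermB l σ v v = 0 ↔ Cfsg.hermForm l F q v v = 0 by rw [happ]),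
      FormCount.card_herm hF l 0 h0q, if_pos rfl, mul_one]
  have hthr : ∀ v, v ≠ 0 → FormsLib.hermB 5 σ v v = 0 →
      Nat.card {W : Submodule F (Fin 5 → F) // Quadrangle.IsLine (FormsLib.hermB 5 σ) W ∧ v ∈ W} = q ^ 3 + 1 := by
    intro v hv hvv
    have h1 := Quadrangle.card_lines_through hrefl hv hvv
    obtain ⟨H, hH, hnd, h2⟩ := Quadrangle.exists_perp_count hrefl (hU 5).tf.nondeg hv hvv
    have hH' : Module.finrank F H = 3 := by rw [Module.finrank_fin_fun] at hH; omega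
    obtain ⟨b, hb⟩ := FormModel.exists_orthonormal σ (hU 0).sigma_ne hσσ
      (FormModel.restr (FormsLib.hermB 5 σ) H) ⟨fun x y => hsym x.1 y.1⟩
      ⟨hnd, fun y hy => hnd y fun x => hrefl _ _ (hy x)⟩
    let f : (Fin 3 → F) ≃ₗ[F] H := ((b.reindex (finCongr hH'))).equivFun.symm
    have hf : ∀ u, FormsLib.hermB 5 σ (f u).1 (f u).1 = FormsLib.hermB 3 σ u u := fun u => by
      show FormModel.restr (FormsLib.hermB 5 σ) H (f u) (f u) = _
      simp only [f, Module.Basis.equivFun_symm_apply, Module.Basis.reindex_apply, map_sum, map_smulₛₗ,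
        LinearMap.sum_apply, LinearMap.smul_apply, hb, RingHom.id_apply, smul_eq_mul, mul_ite, mul_one,
        mul_zero, (finCongr hH').symm.injective.eq_iff, Finset.sum_ite_eq', Finset.sum_ite_eq,
        Finset.mem_univ, if_true]
      simp [FormsLib.hermB, mul_comm]
    rw [h2, ← Nat.card_congr (f.toEquiv.subtypeEquiv (p := fun u => FormsLib.hermB 3 σ u u = 0)
      fun u => by rw [← hf]; rfl), hqF] at h1
    have h3 : (Nat.card {W : Submodule F (Fin 5 → F) // Quadrangle.IsLine (FormsLib.hermB 5 σ) W ∧ v ∈ W}) *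
        ((q ^ 2) ^ 2 - q ^ 2) = (q ^ 3 + 1) * ((q ^ 2) ^ 2 - q ^ 2) := by
      have h4 : q ^ 2 ≤ (q ^ 2) ^ 2 := Nat.le_self_pow two_ne_zero _
      zify [h4] at h1 ⊢
      linear_combination h1 + (q : ℤ) * hiso 3
    exact Nat.eq_of_mul_eq_mul_right (by
      have : q ^ 2 < (q ^ 2) ^ 2 := by
        have h9 : 4 ≤ q ^ 2 := by nlinarith
        nlinarith
      omega) h3
  rw [Nat.card_congr (Equiv.subtypeEquivRight fun W : Submodule F (Fin 5 → F) =>
    show (Module.finrank F W = 2 ∧ ∀ u ∈ W, ∀ v ∈ W, Cfsg.hermForm 5 F q u v = 0) ↔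
      Quadrangle.IsLine (FormsLib.hermB 5 σ) W from
      and_congr_right fun _ => ⟨fun h u hu v hv => by rw [happ]; exact h v hv u hu,
        fun h u hu v hv => by rw [← happ]; exact h v hv u hu⟩)]
  have h := Quadrangle.card_lines (B := FormsLib.hermB 5 σ) hthr
  have hnz : Nat.card {v : Fin 5 → F // v ≠ 0 ∧ FormsLib.hermB 5 σ v v = 0} + 1 =
      Nat.card {v : Fin 5 → F // FormsLib.hermB 5 σ v v = 0} := by
    show Nat.card ↥{v : Fin 5 → F | v ≠ 0 ∧ FormsLib.hermB 5 σ v v = 0} + 1 =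
      Nat.card ↥{v : Fin 5 → F | FormsLib.hermB 5 σ v v = 0}
    rw [Nat.card_coe_set_eq, Nat.card_coe_set_eq, show {v : Fin 5 → F | v ≠ 0 ∧ FormsLib.hermB 5 σ v v = 0} =
      {v : Fin 5 → F | FormsLib.hermB 5 σ v v = 0} \ {0} by ext v; simp [and_comm],
      Set.ncard_sdiff_singleton_add_one (show (0 : Fin 5 → F) ∈ _ by simp) (Set.toFinite _)]
  rw [hqF] at h
  have h5 : 1 ≤ (q ^ 2) ^ 2 := Nat.one_le_pow _ _ (by positivity)
  refine Nat.eq_of_mul_eq_mul_right (show 0 < q * ((q ^ 2) ^ 2 - 1) from Nat.mul_pos (by omega) (by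
    have : 1 < (q ^ 2) ^ 2 := Nat.one_lt_pow two_ne_zero (Nat.one_lt_pow two_ne_zero (by omega))
    omega)) ?_
  have h6 := hiso 5
  zify [h5] at h hnz ⊢
  linear_combination (q : ℤ) * h + (q : ℤ) * (q ^ 3 + 1) * hnz + (q ^ 3 + 1 : ℤ) * h6

end Cfsg.Agent.S0830
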