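import Cfsg.Statements.S0831
import Cfsg.Agent.Lib.Forms.Rulings
import Cfsg.Agent.Lib.LinearGroups.OrthForms

set_option autoImplicit false
open Cfsg

namespace Cfsg.Agent.S0831

/-- The two families of maximal totally singular subspaces of the hyperbolic quadric: for the form Σ x_i y_i on F^(2m), m ≥ 1, and m-dimensional subspaces U, W, X on which it vanishes, the parities of m − dim(U ∩ W), m − dim(W ∩ X) and m − dim(U ∩ X) sum to an even number (so 'even codimension of the intersection' is an equivalence relation), and there exist two such subspaces meeting in codimension 1 (so there are exactly two classes). -/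
theorem result {F : Type*} [Field F] (m : ℕ) (hm : 1 ≤ m) : (∀ U W X : Submodule F (Fin m ⊕ Fin m → F), (Module.finrank F U = m ∧ ∀ w ∈ U, Cfsg.quadFormPlus m F w = 0) → (Module.finrank F W = m ∧ ∀ w ∈ W, Cfsg.quadFormPlus m F w = 0) → (Module.finrank F X = m ∧ ∀ w ∈ X, Cfsg.quadFormPlus m F w = 0) → Even ((m - Module.finrank F ↥(U ⊓ W)) + (m - Module.finrank F ↥(W ⊓ X)) + (m - Module.finrank F ↥(U ⊓ X)))) ∧ ∃ U W : Submodule F (Fin m ⊕ Fin m → F), (Module.finrank F U = m ∧ ∀ w ∈ U, Cfsg.quadFormPlus m F w = 0) ∧ (Module.finrank F W = m ∧ ∀ w ∈ W, Cfsg.quadFormPlus m F w = 0) ∧ Module.finrank F ↥(U ⊓ W) + 1 = m := by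
  classical
  obtain ⟨Q, hQdef⟩ : ∃ Q, Q = OrthOrder.qPlus m F := ⟨_, rfl⟩
  have hQf : ∀ v, Q v = Cfsg.quadFormPlus m F v := fun v => by rw [hQdef]; exact OrthOrder.qPlus_apply m v
  have hnd : (QuadraticMap.polarBilin Q).Nondegenerate := hQdef ▸ OrthForms.qPlus_nondeg m
  have hV : Module.finrank F (Fin m ⊕ Fin m → F) = 2 * m := by
    rw [Module.finrank_pi, Fintype.card_sum, Fintype.card_fin]; omega
  -- coordinate subspaces
  have hcoord : ∀ p : Fin m → Bool, ∃ W : Submodule F (Fin m ⊕ Fin m → F), Rulings.TS Q m W ∧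
      ∀ v, v ∈ W ↔ ∀ i, v (if p i then Sum.inl i else Sum.inr i) = 0 := by
    intro p
    let L : (Fin m ⊕ Fin m → F) →ₗ[F] (Fin m → F) :=
      LinearMap.pi fun i => LinearMap.proj (if p i then Sum.inl i else Sum.inr i)
    refine ⟨LinearMap.ker L, ⟨?_, fun w hw => ?_⟩, fun v => ?_⟩
    · have hs : LinearMap.range L = ⊤ := LinearMap.range_eq_top.2 fun c =>
        ⟨Sum.elim c c, funext fun i => by
          show Sum.elim c c (if p i then Sum.inl i else Sum.inr i) = c i
          split_ifs <;> rfl⟩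
      have := LinearMap.finrank_range_add_finrank_ker L
      rw [hs, finrank_top, Module.finrank_fin_fun, hV] at this
      omega
    · rw [hQf]
      refine Finset.sum_eq_zero fun i _ => ?_
      have h := congrFun (LinearMap.mem_ker.1 hw) i
      change w (if p i then Sum.inl i else Sum.inr i) = 0 at h
      cases hp : p i <;> simp [hp] at h <;> simp [h]
    · rw [LinearMap.mem_ker, funext_iff]
      rfl
  refine ⟨fun U W X hU hW hX => Rulings.parity hnd hV ⟨hU.1, fun w hw => by rw [hQf]; exact hU.2 w hw⟩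
    ⟨hW.1, fun w hw => by rw [hQf]; exact hW.2 w hw⟩ ⟨hX.1, fun w hw => by rw [hQf]; exact hX.2 w hw⟩, ?_⟩
  obtain ⟨U, hU, hUm⟩ := hcoord fun _ => false
  obtain ⟨W, hW, hWm⟩ := hcoord fun i => decide (i = (⟨0, by omega⟩ : Fin m))
  refine ⟨U, W, ⟨hU.1, fun w hw => by rw [← hQf]; exact hU.2 w hw⟩,
    ⟨hW.1, fun w hw => by rw [← hQf]; exact hW.2 w hw⟩, ?_⟩
  let f : U →ₗ[F] F := (LinearMap.proj (Sum.inl (⟨0, by omega⟩ : Fin m))).comp U.subtype
  have hker : U ⊓ W = (LinearMap.ker f).map U.subtype := by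
    ext v
    constructor
    · rintro ⟨hv, hv'⟩
      refine ⟨⟨v, hv⟩, ?_, rfl⟩
      show v (Sum.inl _) = 0
      simpa using (hWm v).1 hv' ⟨0, by omega⟩
    · rintro ⟨⟨w, hw⟩, hw0, rfl⟩
      refine ⟨hw, (hWm w).2 fun i => ?_⟩
      by_cases h : i = ⟨0, by omega⟩
      · subst h
        simpa [f] using hw0
      · simpa [h] using (hUm w).1 hw i
  have hsurj : LinearMap.range f = ⊤ := LinearMap.range_eq_top.2 fun c =>
    ⟨⟨Pi.single (Sum.inl ⟨0, by omega⟩) c, (hUm _).2 fun i => by simp⟩, by simp [f]⟩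
  have h1 := LinearMap.finrank_range_add_finrank_ker f
  rw [hsurj, finrank_top, Module.finrank_self, hU.1] at h1
  rw [hker, Submodule.finrank_map_subtype_eq]
  omega

end Cfsg.Agent.S0831
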