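import Cfsg.Statements.S0832
import Cfsg.Agent.Lib.Forms.Rulings
import Cfsg.Agent.Lib.LinearGroups.OrthForms

set_option autoImplicit false
open Cfsg

namespace Cfsg.Agent.S0832

/-- For the form Σ x_i y_i on F^(2m) over a finite field, m ≥ 1: an (m−1)-dimensional subspace on which the form vanishes is contained in exactly two m-dimensional subspaces on which it vanishes. -/
theorem result {F : Type*} [Field F] [Finite F] (m : ℕ) (hm : 1 ≤ m) (U : Submodule F (Fin m ⊕ Fin m → F)) (hU : Module.finrank F U + 1 = m ∧ ∀ u ∈ U, Cfsg.quadFormPlus m F u = 0) : Nat.card {W : Submodule F (Fin m ⊕ Fin m → F) // Module.finrank F W = m ∧ (∀ w ∈ W, Cfsg.quadFormPlus m F w = 0) ∧ U ≤ W} = 2 := by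
  classical
  obtain ⟨Q, hQdef⟩ : ∃ Q, Q = OrthOrder.qPlus m F := ⟨_, rfl⟩
  have hQf : ∀ v, Q v = Cfsg.quadFormPlus m F v := fun v => by rw [hQdef]; exact OrthOrder.qPlus_apply m v
  have hnd : (QuadraticMap.polarBilin Q).Nondegenerate := hQdef ▸ OrthForms.qPlus_nondeg m
  have hV : Module.finrank F (Fin m ⊕ Fin m → F) = 2 * m := by
    rw [Module.finrank_pi, Fintype.card_sum, Fintype.card_fin]; omega
  -- coordinate subspaces
  have hcoord : ∀ p : Fin m → Bool, ∃ W : Submodule F (Fin m ⊕ Fin m → F), Rulings.TS Q m W ∧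
      ∀ v, v ∈ W ↔ ∀ i, v (if p i then Sum.inl i else Sum.inr i) = 0 := by
    intro p
    let L : (Fin m ⊕ Fin m → F) →ₗ[F] (Fin m → F) :=
      LinearMap.pi fun i => LinearMap.proj (if p i then Sum.inl i else Sum.inr i)
    refine ⟨LinearMap.ker L, ⟨?_, fun w hw => ?_⟩, fun v => ?_⟩
    · have hs : LinearMap.range L = ⊤ := LinearMap.range_eq_top.2 fun c =>
        ⟨Sum.elim c c, funext fun i => by
          show Sum.elim c c (if p i then Sum.inl i else Sum.inr i) = c i
          split_ifs <;> rfl⟩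
      have := LinearMap.finrank_range_add_finrank_ker L
      rw [hs, finrank_top, Module.finrank_fin_fun, hV] at this
      omega
    · rw [hQf]
      refine Finset.sum_eq_zero fun i _ => ?_
      have h := congrFun (LinearMap.mem_ker.1 hw) i
      change w (if p i then Sum.inl i else Sum.inr i) = 0 at h
      cases hp : p i <;> simp [hp] at h <;> simp [h]
    · rw [LinearMap.mem_ker, funext_iff]
      rfl
  obtain ⟨W₀, hW₀, -⟩ := hcoord fun _ => true
  obtain ⟨W₁, W₂, h1, h2, hl1, hl2, hne, -, huniq⟩ :=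
    Rulings.exists_two hnd hV hW₀ hU.1 fun u hu => by rw [hQf]; exact hU.2 u hu
  have hset : {W : Submodule F (Fin m ⊕ Fin m → F) | Module.finrank F W = m ∧
      (∀ w ∈ W, Cfsg.quadFormPlus m F w = 0) ∧ U ≤ W} = {W₁, W₂} := by
    ext W
    constructor
    · rintro ⟨ha, hb, hc⟩
      exact huniq W ⟨ha, fun w hw => by rw [hQf]; exact hb w hw⟩ hc
    · rintro (rfl | rfl)
      · exact ⟨h1.1, fun w hw => by rw [← hQf]; exact h1.2 w hw, hl1⟩
      · exact ⟨h2.1, fun w hw => by rw [← hQf]; exact h2.2 w hw, hl2⟩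
  show Nat.card ↥{W : Submodule F (Fin m ⊕ Fin m → F) | Module.finrank F W = m ∧
      (∀ w ∈ W, Cfsg.quadFormPlus m F w = 0) ∧ U ≤ W} = 2
  rw [hset, Nat.card_coe_set_eq, Set.ncard_pair hne]

end Cfsg.Agent.S0832
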