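import Cfsg.Statements.S0833
import Cfsg.Agent.Lib.Forms.Alt

set_option autoImplicit false
open Cfsg

namespace Cfsg.Agent.S0833

/-- If B₁, B₂ are non-degenerate alternating forms on U (dim 2k) and W (dim 2l), then B₁ ⊗ B₂ on U ⊗ W is symmetric, non-degenerate, and vanishes identically on some subspace of dimension 2kl (half of dim U ⊗ W). -/
theorem result {F U W : Type*} [Field F] [Fintype F] [AddCommGroup U] [Module F U] [FiniteDimensional F U] [AddCommGroup W] [Module F W] [FiniteDimensional F W] (B₁ : LinearMap.BilinForm F U) (B₂ : LinearMap.BilinForm F W) (h₁ : B₁.Nondegenerate) (h₂ : B₂.Nondegenerate) (hA₁ : B₁.IsAlt) (hA₂ : B₂.IsAlt) (k l : ℕ) (hU : Module.finrank F U = 2 * k) (hW : Module.finrank F W = 2 * l) : (B₁.tmul B₂).IsSymm ∧ (B₁.tmul B₂).Nondegenerate ∧ (∃ X : Submodule F (TensorProduct F U W), Module.finrank F X = 2 * k * l ∧ ∀ x ∈ X, ∀ y ∈ X, (B₁.tmul B₂) x y = 0) := by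
  classical
  obtain ⟨k', bU, hU1, hU2, hU3⟩ := FormsLib.exists_symplectic_basis_nondeg hA₁ h₁
  obtain ⟨l', bW, hW1, hW2, hW3⟩ := FormsLib.exists_symplectic_basis_nondeg hA₂ h₂
  have hk : k' = k := by
    have := Module.finrank_eq_card_basis bU
    rw [Fintype.card_sum, Fintype.card_fin] at this
    omega
  have hl : l' = l := by
    have := Module.finrank_eq_card_basis bW
    rw [Fintype.card_sum, Fintype.card_fin] at this
    omega
  subst hk hl
  let b := bU.tensorProduct bW
  have hb : ∀ p, b p = TensorProduct.tmul F (bU p.1) (bW p.2) := fun p => Module.Basis.tensorProduct_apply' bU bW p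
  have happ : ∀ u w u' w', (B₁.tmul B₂) (TensorProduct.tmul F u w) (TensorProduct.tmul F u' w') =
      B₁ u u' * B₂ w w' := fun u w u' w' => by simp [LinearMap.BilinForm.tmul, mul_comm]
  have hsymm : (B₁.tmul B₂).IsSymm := by
    refine ⟨fun x y => ?_⟩
    induction x using TensorProduct.induction_on with
    | zero => simp
    | tmul u w =>
      induction y using TensorProduct.induction_on with
      | zero => simp
      | tmul u' w' =>
        simp only [RingHom.id_apply, happ]
        rw [FormsLib.alt_swap hA₁ u u', FormsLib.alt_swap hA₂ w w', neg_mul_neg]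
      | add a c ha hc => simp only [map_add, LinearMap.add_apply, RingHom.id_apply] at ha hc ⊢; rw [ha, hc]
    | add a c ha hc => simp only [map_add, LinearMap.add_apply, RingHom.id_apply] at ha hc ⊢; rw [ha, hc]
  -- pairing of basis vectors
  let fU : Fin k' ⊕ Fin k' → Fin k' ⊕ Fin k' := Sum.swap
  let gU : Fin k' ⊕ Fin k' → F := Sum.elim (fun _ => 1) fun _ => -1
  have hpU : ∀ s t, B₁ (bU s) (bU t) = if t = fU s then gU s else 0 := by
    rintro (i | i) (j | j) <;> simp [fU, gU, hU1, hU2, hU3, FormsLib.alt_swap hA₁ (bU (Sum.inl _)) (bU (Sum.inr _)), eq_comm] <;> split_ifs <;> simp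
  let fW : Fin l' ⊕ Fin l' → Fin l' ⊕ Fin l' := Sum.swap
  let gW : Fin l' ⊕ Fin l' → F := Sum.elim (fun _ => 1) fun _ => -1
  have hpW : ∀ s t, B₂ (bW s) (bW t) = if t = fW s then gW s else 0 := by
    rintro (i | i) (j | j) <;> simp [fW, gW, hW1, hW2, hW3, FormsLib.alt_swap hA₂ (bW (Sum.inl _)) (bW (Sum.inr _)), eq_comm] <;> split_ifs <;> simp
  have hleft : (B₁.tmul B₂).SeparatingLeft := by
    intro x hx
    refine b.ext_elem fun p => ?_
    have h := hx (b (fU p.1, fW p.2))
    rw [← b.sum_repr x] at h
    simp only [map_sum, map_smul, LinearMap.sum_apply, LinearMap.smul_apply, smul_eq_mul, hb, happ, hpU, hpW] at h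
    rw [Finset.sum_eq_single p] at h
    · simp only [if_true] at h
      have hg : gU p.1 * gW p.2 ≠ 0 := by
        rcases p with ⟨i | i, j | j⟩ <;> simp [gU, gW]
      simpa using (mul_eq_zero.1 h).resolve_right hg
    · intro r _ hr
      by_cases e1 : fU p.1 = fU r.1
      · by_cases e2 : fW p.2 = fW r.2
        · exact absurd (Prod.ext (Sum.swap_leftInverse.injective e1) (Sum.swap_leftInverse.injective e2)).symm hr
        · simp [e2]
      · simp [e1]
    · simp
  refine ⟨hsymm, ⟨hleft, fun y hy => hleft y fun x => by rw [← hsymm.eq x y, RingHom.id_apply]; exact hy x⟩, ?_⟩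
  let v : Fin k' × (Fin l' ⊕ Fin l') → TensorProduct F U W := fun p => b (Sum.inl p.1, p.2)
  have hv : LinearIndependent F v := b.linearIndependent.comp _ fun p p' h => by
    simp only [Prod.mk.injEq, Sum.inl.injEq] at h
    exact Prod.ext h.1 h.2
  refine ⟨Submodule.span F (Set.range v), ?_, ?_⟩
  · rw [finrank_span_eq_card hv, Fintype.card_prod, Fintype.card_sum, Fintype.card_fin, Fintype.card_fin]
    ring
  · intro x hx y hy
    induction hx, hy using Submodule.span_induction₂ with
    | mem_mem x y hx hy =>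
      obtain ⟨p, rfl⟩ := hx
      obtain ⟨p', rfl⟩ := hy
      simp only [v, hb, happ, hU2, zero_mul]
    | zero_left y hy => simp
    | zero_right x hx => simp
    | add_left x y z hx hy hz h1 h2 => simp [h1, h2]
    | add_right x y z hx hy hz h1 h2 => simp [h1, h2]
    | smul_left r x y hx hy h1 => simp [h1]
    | smul_right r x y hx hy h1 => simp [h1]

end Cfsg.Agent.S0833
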