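import Cfsg.Statements.S0834
import Cfsg.Agent.Lib.Forms.HalfIso

set_option autoImplicit false
open Cfsg

namespace Cfsg.Agent.S0834

/-- Over a finite field with 2 ≠ 0: if B₁ on U (dim 2k, k ≥ 1) and B₂ on W (dim 2l, l ≥ 1) are non-degenerate symmetric forms admitting no totally isotropic subspaces of dimensions k, resp. l (minus type), then B₁ ⊗ B₂ admits a totally isotropic subspace of dimension 2kl (plus type). -/
theorem result {F U W : Type*} [Field F] [Fintype F] [AddCommGroup U] [Module F U] [FiniteDimensional F U] [AddCommGroup W] [Module F W] [FiniteDimensional F W] (h2 : (2 : F) ≠ 0) (B₁ : LinearMap.BilinForm F U) (B₂ : LinearMap.BilinForm F W) (h₁ : B₁.Nondegenerate) (h₂ : B₂.Nondegenerate) (hS₁ : B₁.IsSymm) (hS₂ : B₂.IsSymm) (k l : ℕ) (hk : 1 ≤ k) (hl : 1 ≤ l) (hU : Module.finrank F U = 2 * k) (hW : Module.finrank F W = 2 * l) (hm₁ : ¬ (∃ X : Submodule F (U), Module.finrank F X = k ∧ ∀ x ∈ X, ∀ y ∈ X, (B₁) x y = 0)) (hm₂ : ¬ (∃ X : Submodule F (W),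 Module.finrank F X = l ∧ ∀ x ∈ X, ∀ y ∈ X, (B₂) x y = 0)) : (∃ X : Submodule F (TensorProduct F U W), Module.finrank F X = 2 * k * l ∧ ∀ x ∈ X, ∀ y ∈ X, (B₁.tmul B₂) x y = 0) := by
  classical
  obtain ⟨bU, hU0, hU1⟩ := HalfIso.exists_diag h2 hS₁ h₁
  obtain ⟨bW, hW0, hW1⟩ := HalfIso.exists_diag h2 hS₂ h₂
  have happ : ∀ u w u' w', (B₁.tmul B₂) (TensorProduct.tmul F u w) (TensorProduct.tmul F u' w') =
      B₁ u u' * B₂ w w' := fun u w u' w' => by simp [LinearMap.BilinForm.tmul, mul_comm]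
  have hsymm : (B₁.tmul B₂).IsSymm := by
    refine ⟨fun x y => ?_⟩
    induction x using TensorProduct.induction_on with
    | zero => simp
    | tmul u w =>
      induction y using TensorProduct.induction_on with
      | zero => simp
      | tmul u' w' =>
        simp only [RingHom.id_apply, happ]
        rw [show B₁ u u' = B₁ u' u from hS₁.eq _ _, show B₂ w w' = B₂ w' w from hS₂.eq _ _]
      | add a c ha hc => simp only [map_add, LinearMap.add_apply, RingHom.id_apply] at ha hc ⊢; rw [ha, hc]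
    | add a c ha hc => simp only [map_add, LinearMap.add_apply, RingHom.id_apply] at ha hc ⊢; rw [ha, hc]
  let b := bU.tensorProduct bW
  have hb : ∀ p, b p = TensorProduct.tmul F (bU p.1) (bW p.2) := fun p => Module.Basis.tensorProduct_apply' bU bW p
  have hoff : ∀ p r, p ≠ r → (B₁.tmul B₂) (b p) (b r) = 0 := fun p r h => by
    rw [hb, hb, happ]
    by_cases e : p.1 = r.1
    · rw [hW0 _ _ (fun e' => h (Prod.ext e e')), mul_zero]
    · rw [hU0 _ _ e, zero_mul]
  have hne : ∀ p : Fin (Module.finrank F U) × Fin (Module.finrank F W),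
      B₁ (bU p.1) (bU p.1) * B₂ (bW p.2) (bW p.2) ≠ 0 := fun p => mul_ne_zero (hU1 _) (hW1 _)
  have hprod : ∏ p : Fin (Module.finrank F U) × Fin (Module.finrank F W),
      (B₁ (bU p.1) (bU p.1) * B₂ (bW p.2) (bW p.2)) =
      (∏ i, B₁ (bU i) (bU i)) ^ Module.finrank F W * (∏ j, B₂ (bW j) (bW j)) ^ Module.finrank F U := by
    simp only [Fintype.prod_prod_type, Finset.prod_mul_distrib, Finset.prod_pow, Finset.prod_const,
      Finset.card_univ, Fintype.card_fin]
  refine (HalfIso.exists_half_iff h2 (B := B₁.tmul B₂) ⟨fun x y => hsymm.eq x y⟩ (N := 2 * k * l) ?_ b _ hoff (fun p => by rw [hb, happ]) hne).2 ?_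
  · rw [Fintype.card_prod, Fintype.card_fin, Fintype.card_fin, hU, hW]; ring
  · rw [hprod]
    generalize (∏ i, B₁ (bU i) (bU i)) = PA
    generalize (∏ j, B₂ (bW j) (bW j)) = PB
    rw [hU, hW, mul_assoc 2 k l]
    exact ((even_two_mul _).isSquare_pow _).mul (((even_two_mul l).isSquare_pow _).mul ((even_two_mul k).isSquare_pow _))

end Cfsg.Agent.S0834
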