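import Cfsg.Statements.S0835
import Cfsg.Agent.Lib.Forms.HalfIso

set_option autoImplicit false
open Cfsg

namespace Cfsg.Agent.S0835

/-- Over a finite field with 2 ≠ 0: if B₁ on U (dim 2k, k ≥ 1) is non-degenerate symmetric of minus type (no totally isotropic k-subspace) and B₂ on W (dim 2l + 1) is non-degenerate symmetric, then B₁ ⊗ B₂ (dimension 2k(2l+1)) admits no totally isotropic subspace of dimension k(2l+1) (minus type). -/
theorem result {F U W : Type*} [Field F] [Fintype F] [AddCommGroup U] [Module F U] [FiniteDimensional F U] [AddCommGroup W] [Module F W] [FiniteDimensional F W] (h2 : (2 : F) ≠ 0) (B₁ : LinearMap.BilinForm F U) (B₂ : LinearMap.BilinForm F W) (h₁ : B₁.Nondegenerate) (h₂ : B₂.Nondegenerate) (hS₁ : B₁.IsSymm) (hS₂ : B₂.IsSymm) (k l : ℕ) (hk : 1 ≤ k) (hU : Module.finrank F U = 2 * k) (hW : Module.finrank F W = 2 * l + 1) (hm₁ : ¬ (∃ X : Submodule F (U), Module.finrank F X = k ∧ ∀ x ∈ X, ∀ y ∈ X, (B₁) x y = 0)) :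 ¬ (∃ X : Submodule F (TensorProduct F U W), Module.finrank F X = k * (2 * l + 1) ∧ ∀ x ∈ X, ∀ y ∈ X, (B₁.tmul B₂) x y = 0) := by
  classical
  obtain ⟨bU, hU0, hU1⟩ := HalfIso.exists_diag h2 hS₁ h₁
  obtain ⟨bW, hW0, hW1⟩ := HalfIso.exists_diag h2 hS₂ h₂
  have happ : ∀ u w u' w', (B₁.tmul B₂) (TensorProduct.tmul F u w) (TensorProduct.tmul F u' w') =
      B₁ u u' * B₂ w w' := fun u w u' w' => by simp [LinearMap.BilinForm.tmul, mul_comm]
  have hsymm : (B₁.tmul B₂).IsSymm := by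
    refine ⟨fun x y => ?_⟩
    induction x using TensorProduct.induction_on with
    | zero => simp
    | tmul u w =>
      induction y using TensorProduct.induction_on with
      | zero => simp
      | tmul u' w' =>
        simp only [RingHom.id_apply, happ]
        rw [show B₁ u u' = B₁ u' u from hS₁.eq _ _, show B₂ w w' = B₂ w' w from hS₂.eq _ _]
      | add a c ha hc => simp only [map_add, LinearMap.add_apply, RingHom.id_apply] at ha hc ⊢; rw [ha, hc]
    | add a c ha hc => simp only [map_add, LinearMap.add_apply, RingHom.id_apply] at ha hc ⊢; rw [ha, hc]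
  let b := bU.tensorProduct bW
  have hb : ∀ p, b p = TensorProduct.tmul F (bU p.1) (bW p.2) := fun p => Module.Basis.tensorProduct_apply' bU bW p
  have hoff : ∀ p r, p ≠ r → (B₁.tmul B₂) (b p) (b r) = 0 := fun p r h => by
    rw [hb, hb, happ]
    by_cases e : p.1 = r.1
    · rw [hW0 _ _ (fun e' => h (Prod.ext e e')), mul_zero]
    · rw [hU0 _ _ e, zero_mul]
  have hne : ∀ p : Fin (Module.finrank F U) × Fin (Module.finrank F W),
      B₁ (bU p.1) (bU p.1) * B₂ (bW p.2) (bW p.2) ≠ 0 := fun p => mul_ne_zero (hU1 _) (hW1 _)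
  have hprod : ∏ p : Fin (Module.finrank F U) × Fin (Module.finrank F W),
      (B₁ (bU p.1) (bU p.1) * B₂ (bW p.2) (bW p.2)) =
      (∏ i, B₁ (bU i) (bU i)) ^ Module.finrank F W * (∏ j, B₂ (bW j) (bW j)) ^ Module.finrank F U := by
    simp only [Fintype.prod_prod_type, Finset.prod_mul_distrib, Finset.prod_pow, Finset.prod_const,
      Finset.card_univ, Fintype.card_fin]
  rw [HalfIso.exists_half_iff h2 (B := B₁.tmul B₂) ⟨fun x y => hsymm.eq x y⟩ (N := k * (2 * l + 1)) (by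
    rw [Fintype.card_prod, Fintype.card_fin, Fintype.card_fin, hU, hW]; ring) b _ hoff
    (fun p => by rw [hb, happ]) hne, hprod]
  rw [HalfIso.exists_half_iff h2 hS₁ (N := k) (by rw [Fintype.card_fin, hU]; ring) bU _ hU0 (fun i => rfl) hU1]
    at hm₁
  rintro ⟨r, hr⟩
  obtain ⟨X, hX⟩ : ∃ X, X = (-1 : F) ^ k * ∏ i, B₁ (bU i) (bU i) := ⟨_, rfl⟩
  rw [← hX] at hm₁
  have hY0 : (∏ j, B₂ (bW j) (bW j)) ≠ 0 := Finset.prod_ne_zero_iff.2 fun j _ => hW1 j
  generalize (∏ i, B₁ (bU i) (bU i)) = PA at hr hX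
  generalize (∏ j, B₂ (bW j) (bW j)) = PB at hr hY0
  rw [hU, hW] at hr
  have hX0 : X ≠ 0 := fun e => hm₁ (e ▸ IsSquare.zero)
  refine hm₁ ⟨r / (X ^ l * PB ^ k), ?_⟩
  field_simp
  rw [sq r, ← hr, hX, mul_pow, ← pow_mul, pow_mul (-1 : F)]
  ring

end Cfsg.Agent.S0835
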