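import Cfsg.Statements.S0836
import Mathlib

set_option autoImplicit false
open Cfsg

namespace Cfsg.Agent.S0836

/-- For i ≠ j and any scalar c, the elementary transvection 1 + c E_ij is a commutator ⁅g, h⁆ of two elements of SL_n(F) provided n ≥ 3, or n = 2 and F contains x ≠ 0 with x² ≠ 1. -/
theorem result {F : Type*} [Field F] (n : ℕ) (hn : 3 ≤ n ∨ (n = 2 ∧ ∃ x : F, x ≠ 0 ∧ x ^ 2 ≠ 1)) (i j : Fin n) (hij : i ≠ j) (c : F) (t : Matrix.SpecialLinearGroup (Fin n) F) (ht : (t : Matrix (Fin n) (Fin n) F) = Matrix.transvection i j c) : t ∈ commutatorSet (Matrix.SpecialLinearGroup (Fin n) F) := by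
  classical
  rcases hn with hn | ⟨rfl, x, hx0, hx2⟩
  · obtain ⟨k, hki, hkj⟩ : ∃ k : Fin n, k ≠ i ∧ k ≠ j := by
      by_contra hc
      push Not at hc
      have h1 := Finset.card_le_card (s := (Finset.univ : Finset (Fin n))) (t := {i, j})
        (fun k _ => by
          by_cases h : k = i
          · simp [h]
          · simp [hc k h])
      have h2 := Finset.card_le_two (a := i) (b := j)
      simp at h1
      omega
    let a : Matrix.SpecialLinearGroup (Fin n) F :=
      ⟨Matrix.transvection i k 1, Matrix.det_transvection_of_ne i k hki.symm 1⟩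
    let b : Matrix.SpecialLinearGroup (Fin n) F :=
      ⟨Matrix.transvection k j c, Matrix.det_transvection_of_ne k j hkj c⟩
    refine mem_commutatorSet_iff.2 ⟨a, b, ?_⟩
    rw [commutatorElement_def, mul_inv_eq_iff_eq_mul, mul_inv_eq_iff_eq_mul]
    refine Subtype.ext ?_
    show Matrix.transvection i k 1 * Matrix.transvection k j c = _
    simp only [Matrix.SpecialLinearGroup.coe_mul, ht]
    show _ = Matrix.transvection i j c * Matrix.transvection k j c * Matrix.transvection i k 1
    simp [Matrix.transvection, add_mul, mul_add, Matrix.single_mul_single_same, hki, hki.symm, hkj, hkj.symm,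
      hij, hij.symm]
    abel
  · obtain ⟨D, hD⟩ : ∃ D : Matrix (Fin 2) (Fin 2) F,
        D = Matrix.diagonal fun l => if l = i then x else x⁻¹ := ⟨_, rfl⟩
    have hdet : D.det = 1 := by
      rw [hD, Matrix.det_diagonal, Fin.prod_univ_two]
      fin_cases i <;> simp [hx0]
    let a : Matrix.SpecialLinearGroup (Fin 2) F := ⟨D, hdet⟩
    let b : Matrix.SpecialLinearGroup (Fin 2) F :=
      ⟨Matrix.transvection i j (c / (x ^ 2 - 1)), Matrix.det_transvection_of_ne i j hij _⟩
    refine mem_commutatorSet_iff.2 ⟨a, b, ?_⟩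
    rw [commutatorElement_def, mul_inv_eq_iff_eq_mul, mul_inv_eq_iff_eq_mul]
    refine Subtype.ext ?_
    show D * Matrix.transvection i j (c / (x ^ 2 - 1)) = _
    simp only [Matrix.SpecialLinearGroup.coe_mul, ht]
    show _ = Matrix.transvection i j c * Matrix.transvection i j (c / (x ^ 2 - 1)) * D
    rw [Matrix.transvection_mul_transvection_same _ _ hij]
    have h1 : x ^ 2 - 1 ≠ 0 := sub_ne_zero.2 hx2
    ext u v
    rw [hD, Matrix.diagonal_mul, Matrix.mul_diagonal]
    fin_cases i <;> fin_cases j <;> first
      | exact absurd rfl hij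
      | (fin_cases u <;> fin_cases v <;> simp [Matrix.transvection, Matrix.single_apply, mul_comm] <;>
          field_simp <;> ring)

end Cfsg.Agent.S0836
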