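import Cfsg.Statements.S0837
import Cfsg.Agent.Lib.Forms.Models
import Cfsg.Agent.Lib.Forms.Orthonormal
import Cfsg.Agent.Lib.Forms.UnitaryFin
import Cfsg.Agent.Lib.TransvMax.Basic

set_option autoImplicit false
open Cfsg

namespace Cfsg.Agent.S0837

/-- If W ≤ F^n (|F| = q²) is a k-dimensional subspace on which the Hermitian form Σ x_i y_i^q is non-degenerate, then the stabiliser of W in GU_n(q) is isomorphic to GU_k(q) × GU_(n−k)(q). -/
theorem result {F : Type*} [Field F] [Fintype F] {q : ℕ} (hF : Fintype.card F = q ^ 2) (n k : ℕ) (hk : k ≤ n) (W : Submodule F (Fin n → F)) (hWk : Module.finrank F W = k) (hW : ∀ u ∈ W, (∀ v ∈ W, Cfsg.hermForm n F q u v = 0) → u = 0) : Nonempty (↥((Cfsg.stabilizing (Cfsg.glToMat (Fin n) F) (W : Set (Fin n → F))).subgroupOf (Cfsg.GU n F q)) ≃* ↥(Cfsg.GU k F q) × ↥(Cfsg.GU (n - k) F q)) := by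
  classical
  obtain ⟨σ, hσ, hσσ, hq⟩ := FormsLib.exists_qhom hF
  have hU := fun l => (FormsLib.hermB_isUnitary hF l hσ hσσ hq).1
  have happ : ∀ l (u v : Fin l → F), FormsLib.hermB l σ u v = Cfsg.hermForm l F q v u := fun l u v =>
    FormsLib.hermB_apply hσ u v
  have hsym : ∀ l (u v : Fin l → F), σ (FormsLib.hermB l σ u v) = FormsLib.hermB l σ v u := fun l u v => by
    rw [(hU l).tf.flip u v, one_mul]
  obtain ⟨B, hB⟩ : ∃ B, B = FormsLib.hermB n σ := ⟨_, rfl⟩
  have hS : ∀ u v, σ (B u v) = B v u := hB ▸ hsym n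
  have hrefl : ∀ x y, B x y = 0 → B y x = 0 := fun x y h => by rw [← hS, h, map_zero]
  have hW' : ∀ u ∈ W, (∀ v ∈ W, B u v = 0) → u = 0 := fun u hu h =>
    hW u hu fun v hv => by rw [← happ, ← hB]; exact hrefl _ _ (h v hv)
  obtain ⟨e⟩ := FormModel.exists_stab_prod hrefl hW'
  have hc := FormModel.isCompl_perp hrefl hW'
  -- every non-degenerate Hermitian space is a standard one
  have key : ∀ (U : Submodule F (Fin n → F)) (l : ℕ), Module.finrank F U = l →
      (∀ u : U, (∀ v : U, B u.1 v.1 = 0) → u = 0) →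
      ∃ f : (Fin l → F) ≃ₗ[F] U, ∀ u v, FormModel.restr B U (f u) (f v) = FormsLib.hermB l σ u v := by
    intro U l hl hnd
    have hs : (FormModel.restr B U).IsSymm := ⟨fun x y => hS x.1 y.1⟩
    obtain ⟨b, hb⟩ := FormModel.exists_orthonormal σ (hU 0).sigma_ne hσσ (FormModel.restr B U) hs
      ⟨hnd, fun y hy => hnd y fun x => hrefl _ _ (hy x)⟩
    subst hl
    refine ⟨b.equivFun.symm, fun u v => ?_⟩
    simp only [Module.Basis.equivFun_symm_apply, map_sum, map_smulₛₗ, LinearMap.sum_apply,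
      LinearMap.smul_apply, hb, RingHom.id_apply, smul_eq_mul, mul_ite, mul_one, mul_zero,
      Finset.sum_ite_eq', Finset.sum_ite_eq, Finset.mem_univ, if_true]
    simp [FormsLib.hermB, mul_comm]
  obtain ⟨fW, hfW⟩ := key W k hWk fun u h => Subtype.ext (hW' u.1 u.2 fun v hv => h ⟨v, hv⟩)
  obtain ⟨fP, hfP⟩ := key (FormModel.perp B W) (n - k) (by
      have := Submodule.finrank_add_eq_of_isCompl hc
      rw [hWk, Module.finrank_fin_fun] at this
      omega) fun u hu => by
    refine Subtype.ext ((hU n).tf.nondeg u.1 fun v => ?_)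
    rw [← hB]
    obtain ⟨a, ha, b, hb, rfl⟩ := Submodule.mem_sup.1 (hc.sup_eq_top ▸ Submodule.mem_top (x := v))
    have h1 : B u.1 b = 0 := hu ⟨b, hb⟩
    rw [map_add, hrefl _ _ (u.2 a ha), h1, add_zero]
  -- the matrix group
  let G : ∀ l, Matrix.GeneralLinearGroup (Fin l) F ≃* ((Fin l → F) ≃ₗ[F] (Fin l → F)) := fun l =>
    (MulEquiv.ofBijective (TransvMax.glOf (ι := Fin l) (F := F))
      ⟨fun a b h => LinearEquiv.ext fun x => by rw [← TransvMax.glOf_mulVec, h, TransvMax.glOf_mulVec],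
       fun g => ⟨TransvMax.linOf g, TransvMax.gl_ext fun x => by rw [TransvMax.glOf_mulVec]; rfl⟩⟩).symm
  have hG : ∀ l (A : Matrix.GeneralLinearGroup (Fin l) F) x, G l A x = A.1.mulVec x := fun l A x => by
    rw [← TransvMax.glOf_mulVec (G l A) x]
    exact congrArg (fun B : Matrix.GeneralLinearGroup (Fin l) F => B.1.mulVec x)
      ((G l).symm_apply_apply A)
  have hGU : ∀ l, (Cfsg.GU l F q).map (G l).toMonoidHom = FormModel.isoSub (FormsLib.hermB l σ) := fun l => by
    ext g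
    obtain ⟨A, rfl⟩ := (G l).surjective g
    rw [Subgroup.mem_map_equiv, MulEquiv.symm_apply_apply]
    show (∀ u v, Cfsg.hermForm l F q (A.1.mulVec u) (A.1.mulVec v) = Cfsg.hermForm l F q u v) ↔
      ∀ u v, FormsLib.hermB l σ (G l A u) (G l A v) = FormsLib.hermB l σ u v
    simp only [happ, hG]
    exact ⟨fun h u v => h v u, fun h u v => h v u⟩
  let E : ↥(Cfsg.GU n F q) ≃* ↥(FormModel.isoSub B) :=
    ((G n).subgroupMap _).trans (MulEquiv.subgroupCongr (by rw [hB]; exact hGU n))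
  let ER : ∀ l, ↥(Cfsg.GU l F q) ≃* ↥(FormModel.isoSub (FormsLib.hermB l σ)) := fun l =>
    ((G l).subgroupMap _).trans (MulEquiv.subgroupCongr (hGU l))
  have hmap : ((Cfsg.stabilizing (Cfsg.glToMat (Fin n) F) (W : Set (Fin n → F))).subgroupOf
      (Cfsg.GU n F q)).map E.toMonoidHom = (FormModel.stabSub W).subgroupOf (FormModel.isoSub B) := by
    ext g
    obtain ⟨A, rfl⟩ := E.surjective g
    rw [Subgroup.mem_map_equiv, MulEquiv.symm_apply_apply, Subgroup.mem_subgroupOf, Subgroup.mem_subgroupOf]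
    show (∀ v, v ∈ W ↔ A.1.1.mulVec v ∈ W) ↔ ∀ v, v ∈ W ↔ G n A.1 v ∈ W
    simp only [hG]
  exact ⟨((E.subgroupMap _).trans (MulEquiv.subgroupCongr hmap)).trans
    ((((MulEquiv.subgroupCongr (Subgroup.inf_subgroupOf_right _ _).symm).trans
      (Subgroup.subgroupOfEquivOfLe inf_le_right))).trans (e.trans
        (((ER k).trans (FormModel.isoSubCongr fW hfW)).symm.prodCongr
          ((ER (n - k)).trans (FormModel.isoSubCongr fP hfP)).symm)))⟩

end Cfsg.Agent.S0837
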