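import Cfsg.Statements.S0838
import Cfsg.Agent.Lib.Spinor.Discr

set_option autoImplicit false
open Cfsg

namespace Cfsg.Agent.S0838

/-- Over a finite field with 2 ≠ 0 and n odd: two quadratic forms Q₁, Q₂ on F^n with non-degenerate polar forms are similar — there are an invertible linear map g and a scalar c ≠ 0 with Q₂ (g v) = c · Q₁ v for all v. -/
theorem result {F : Type*} [Field F] [Fintype F] (h2 : (2 : F) ≠ 0) {n : ℕ} (hn : Odd n) (Q₁ Q₂ : QuadraticForm F (Fin n → F)) (h₁ : (QuadraticMap.polarBilin Q₁).Nondegenerate) (h₂ : (QuadraticMap.polarBilin Q₂).Nondegenerate) : ∃ (g : (Fin n → F) ≃ₗ[F] (Fin n → F)) (c : F), c ≠ 0 ∧ ∀ v, Q₂ (g v) = c * Q₁ v := by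
  classical
  obtain ⟨k, rfl⟩ : ∃ k, n = k + 1 := ⟨n - 1, by obtain ⟨w, hw⟩ := hn; omega⟩
  have hd : ∀ Q : QuadraticForm F (Fin (k + 1) → F), (QuadraticMap.polarBilin Q).Nondegenerate →
      (Spinor.gramMat Q).det ≠ 0 := by
    intro Q hQ h0
    obtain ⟨b, ho, hne, -⟩ := Spinor.exists_ones h2 Q hQ
    obtain ⟨d, -, e⟩ := Spinor.det_diag_gram Q b ho
    rw [h0, mul_zero] at e
    exact mul_ne_zero (pow_ne_zero _ h2) (Finset.prod_ne_zero_iff.2 fun i _ => hne i) e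
  obtain ⟨c, hc⟩ : ∃ c, c = (Spinor.gramMat Q₁).det * (Spinor.gramMat Q₂).det := ⟨_, rfl⟩
  have hc0 : c ≠ 0 := hc ▸ mul_ne_zero (hd Q₁ h₁) (hd Q₂ h₂)
  have hgram : Spinor.gramMat (c • Q₁) = c • Spinor.gramMat Q₁ := by
    ext i j
    simp [Spinor.gramMat, QuadraticMap.polar_smul]
  have hnd : (QuadraticMap.polarBilin (c • Q₁)).Nondegenerate := by
    refine ⟨fun x hx => h₁.1 x fun y => ?_, fun y hy => h₁.2 y fun x => ?_⟩
    · have := hx y
      simpa [QuadraticMap.polar_smul, hc0] using this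
    · have := hy x
      simpa [QuadraticMap.polar_smul, hc0] using this
  obtain ⟨g, hg⟩ := (Spinor.isometric_iff h2 (c • Q₁) Q₂ hnd h₂).2 (by
    rw [hgram, Matrix.det_smul, Fintype.card_fin, mul_assoc, ← hc, ← pow_succ]
    exact ((Nat.even_add_one).2 (Nat.not_even_iff_odd.2 hn)).isSquare_pow c)
  exact ⟨g, c, hc0, fun v => by rw [hg]; rfl⟩

end Cfsg.Agent.S0838
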