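import Cfsg.Statements.S0839
import Cfsg.Agent.Lib.Transvection.GL

set_option autoImplicit false
open Cfsg

namespace Cfsg.Agent.S0839

/-- Every transvection t ∈ SL_(n+2)(F) (rank(t − 1) = 1, (t − 1)² = 0) is conjugate in SL_(n+2)(F) to 1 + v·e_0ᵀ for some column vector v with v_0 = 0 (the group A of matrices that are the identity except in the first column below the diagonal); the dimension is written n + 2 ≥ 2. -/
theorem result {F : Type*} [Field F] (n : ℕ) (t : Matrix.SpecialLinearGroup (Fin (n + 2)) F) (ht : Cfsg.IsTransvection (t : Matrix (Fin (n + 2)) (Fin (n + 2)) F)) : ∃ (g : Matrix.SpecialLinearGroup (Fin (n + 2)) F) (v : Fin (n + 2) → F), v 0 = 0 ∧ ((g⁻¹ * t * g : Matrix.SpecialLinearGroup (Fin (n + 2)) F) : Matrix (Fin (n + 2)) (Fin (n + 2)) F) = 1 + Matrix.vecMulVec v (Pi.single 0 1) := by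
  classical
  obtain ⟨a, φ, -, hφ0, hφa, ht'⟩ := TransvGL.exists_data ht
  obtain ⟨p, hp⟩ := Function.ne_iff.1 hφ0
  obtain ⟨P, hP⟩ : ∃ P : Matrix (Fin (n + 2)) (Fin (n + 2)) F,
      P = (1 : Matrix (Fin (n + 2)) (Fin (n + 2)) F).submatrix (Equiv.swap 0 p) id := ⟨_, rfl⟩
  have hPu : P.det ≠ 0 := by
    rw [hP, Matrix.det_permute]
    rcases Int.units_eq_one_or (Equiv.Perm.sign (Equiv.swap 0 p)) with e | e <;> simp [e]
  obtain ⟨M, hM⟩ : ∃ M, M = P.updateRow 0 φ := ⟨_, rfl⟩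
  have hsum : ∑ k, φ (Equiv.swap 0 p k) • P k = φ := by
    funext l
    rw [Finset.sum_apply, Finset.sum_eq_single (Equiv.swap 0 p l)]
    · rw [hP, Pi.smul_apply, Matrix.submatrix_apply, id_eq, Equiv.swap_apply_self, Matrix.one_apply_eq, smul_eq_mul, mul_one]
    · intro k _ hk
      have : Equiv.swap 0 p k ≠ l := fun e => hk (by rw [← e, Equiv.swap_apply_self])
      simp [hP, Matrix.one_apply, this]
    · simp
  have hMd : M.det ≠ 0 := by
    have h := Matrix.det_updateRow_sum P 0 (fun k => φ (Equiv.swap 0 p k))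
    rw [hsum, ← hM, Equiv.swap_apply_left] at h
    rw [h]
    exact mul_ne_zero hp hPu
  obtain ⟨N, hN⟩ : ∃ N, N = M.updateRow 1 (M.det⁻¹ • M 1) := ⟨_, rfl⟩
  have hNd : N.det = 1 := by
    rw [hN, Matrix.det_updateRow_smul, Matrix.updateRow_eq_self, inv_mul_cancel₀ hMd]
  have hN0 : N 0 = φ := by
    rw [hN, Matrix.updateRow_ne (by simp), hM, Matrix.updateRow_self]
  obtain ⟨h, hh⟩ : ∃ h : Matrix.SpecialLinearGroup (Fin (n + 2)) F, h.1 = N := ⟨⟨N, hNd⟩, rfl⟩
  refine ⟨h⁻¹, Matrix.mulVec N a, ?_, ?_⟩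
  · show N 0 ⬝ᵥ a = 0
    rw [hN0, hφa]
  · have hvm : Matrix.vecMul (Pi.single 0 1) N = φ := by rw [Matrix.single_one_vecMul]; exact hN0
    have key : N * (t : Matrix (Fin (n + 2)) (Fin (n + 2)) F) =
        (1 + Matrix.vecMulVec (Matrix.mulVec N a) (Pi.single 0 1)) * N := by
      rw [ht', mul_add, mul_one, add_mul, one_mul, Matrix.mul_vecMulVec, Matrix.vecMulVec_mul, hvm]
    rw [inv_inv, Matrix.SpecialLinearGroup.coe_mul, Matrix.SpecialLinearGroup.coe_mul, hh, key, ← hh,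
      mul_assoc, ← Matrix.SpecialLinearGroup.coe_mul, mul_inv_cancel, Matrix.SpecialLinearGroup.coe_one,
      mul_one]

end Cfsg.Agent.S0839
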