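import Cfsg.Statements.S0841
import Mathlib.Tactic.Group
import Mathlib.GroupTheory.Abelianization.Defs

set_option autoImplicit false
open Cfsg

namespace Cfsg.Agent.S0841

open scoped commutatorElement


/-- If the commutator subgroup of G lies in the centre, then for all x, y in G and every natural number n one has (x * y) ^ n = x ^ n * y ^ n * c ^ (n * (n - 1) / 2) with c = y⁻¹ * x⁻¹ * y * x. -/
theorem result {G : Type*} [Group G] (hG : commutator G ≤ Subgroup.center G) (x y : G) (n : ℕ) : (x * y) ^ n = x ^ n * y ^ n * (y⁻¹ * x⁻¹ * y * x) ^ (n * (n - 1) / 2) := by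
  have hc : ∀ z : G, (y⁻¹ * x⁻¹ * y * x) * z = z * (y⁻¹ * x⁻¹ * y * x) := by
    intro z
    have hm : y⁻¹ * x⁻¹ * y * x ∈ commutator G := by
      rw [commutator_def, show y⁻¹ * x⁻¹ * y * x = ⁅y⁻¹, x⁻¹⁆ by simp [commutatorElement_def]]
      exact Subgroup.commutator_mem_commutator (Subgroup.mem_top _) (Subgroup.mem_top _)
    exact (Subgroup.mem_center_iff.mp (hG hm) z).symm
  set c := y⁻¹ * x⁻¹ * y * x with hcdef
  have hyx : y * x = x * y * c := by rw [hcdef]; group
  have hpow : ∀ k : ℕ, y ^ k * x = x * y ^ k * c ^ k := by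
    intro k
    induction k with
    | zero => simp
    | succ k ih =>
      have hk : Commute (c ^ k) y := (show Commute c y from hc y).pow_left k
      have hck : Commute c (y ^ k) := (show Commute c y from hc y).pow_right k
      calc y ^ (k + 1) * x = y * (y ^ k * x) := by rw [pow_succ', mul_assoc]
        _ = (y * x) * (y ^ k * c ^ k) := by rw [ih]; group
        _ = x * y * (c * y ^ k) * c ^ k := by rw [hyx]; group
        _ = x * y * (y ^ k * c) * c ^ k := by rw [hck.eq]
        _ = x * y ^ (k + 1) * c ^ (k + 1) := by rw [pow_succ' y, pow_succ' c]; group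
  induction n with
  | zero => simp
  | succ n ih =>
    have hs : (n + 1) * (n + 1 - 1) / 2 = n + n * (n - 1) / 2 := by
      rcases n with - | n
      · rfl
      · simp only [Nat.add_sub_cancel]
        rw [show (n + 1 + 1) * (n + 1) = (n + 1) * n + (n + 1) * 2 by ring, Nat.add_mul_div_right _ _ two_pos]
        omega
    have h1 : Commute (c ^ (n * (n - 1) / 2)) (x * y) := (show Commute c (x * y) from hc _).pow_left _
    have h2 : Commute (c ^ n) y := (show Commute c y from hc y).pow_left _
    rw [pow_succ (x * y), ih, mul_assoc _ _ (x * y), h1.eq, hs, pow_add c]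
    calc x ^ n * y ^ n * (x * y * c ^ (n * (n - 1) / 2))
        = x ^ n * (y ^ n * x) * y * c ^ (n * (n - 1) / 2) := by simp only [mul_assoc]
      _ = x ^ n * x * y ^ n * (c ^ n * y) * c ^ (n * (n - 1) / 2) := by rw [hpow]; simp only [mul_assoc]
      _ = _ := by rw [h2.eq, pow_succ x, pow_succ y]; simp only [mul_assoc]

end Cfsg.Agent.S0841
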