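import Cfsg.Statements.S0848
import Cfsg.Agent.Lib.LocalEvenB.DihEightSetup

set_option autoImplicit false
open Cfsg

namespace Cfsg.Agent.S0848

/-- If a finite group equals its own commutator subgroup and contains an involution whose centralizer is isomorphic to the dihedral group of order 8, then the group has order 168 or 360. -/
theorem result {G : Type*} [Group G] [Finite G] (hperf : commutator G = ⊤) (t : G) (ht : orderOf t = 2) (e : Subgroup.centralizer ({t} : Set G) ≃* DihedralGroup 4) : Nat.card G = 168 ∨ Nat.card G = 360 := by
      obtain ⟨T⟩ := Cfsg.Agent.DihEight.exists_data ht ⟨e⟩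
      have hno : ∀ H : Subgroup G, H.index ≠ 2 := by
        intro H hH
        haveI := Subgroup.normal_of_index_eq_two hH
        have hq : Nat.card (G ⧸ H) = 2 := by rw [← Subgroup.index_eq_card, hH]
        haveI : Fact (Nat.Prime 2) := ⟨Nat.prime_two⟩
        haveI := isCyclic_of_prime_card hq
        letI : CommGroup (G ⧸ H) := IsCyclic.commGroup
        have : commutator G ≤ H := by
          rw [commutator_def, Subgroup.commutator_le]
          intro a _ b _
          rw [← QuotientGroup.eq_one_iff]
          change (QuotientGroup.mk' H) _ = 1
          rw [map_commutatorElement, commutatorElement_eq_one_iff_mul_comm, mul_comm]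
        rw [hperf, top_le_iff] at this
        rw [this, Subgroup.index_top] at hH
        omega
      exact T.card_eq (T.D.fused_of_no_index_two hno 0) (T.D.fused_of_no_index_two hno 1)

end Cfsg.Agent.S0848
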