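import Cfsg.Statements.S0849
import Cfsg.Agent.Lib.CT.Induced

set_option autoImplicit false
open Cfsg

namespace Cfsg.Agent.S0849


/-- Let H be a subgroup of a finite group G and S a subset of H that is mapped to itself under conjugation by H, is disjoint from its conjugate by any element outside H, and is closed under inverses. Let φ be a class function of H vanishing on H away from S, and let u, v be involutions of G. Then the sum of the induced function of φ over all products a * b with a conjugate to u and b conjugate to v equals the index of H times the sum of φ (a * b) over such pairs with a and b in H. -/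
theorem result {G : Type*} [Group G] [Fintype G] (H : Subgroup G) (S : Set G) (hSH : S ⊆ H) (hHS : ∀ h ∈ H, ∀ s ∈ S, h * s * h⁻¹ ∈ S) (hTI : ∀ g : G, g ∉ H → ∀ s ∈ S, g * s * g⁻¹ ∉ S) (hinv : ∀ s ∈ S, s⁻¹ ∈ S) (φ : H → ℂ) (hφ : Cfsg.IsClassFunction H φ) (hφS : ∀ x : H, (x : G) ∉ S → φ x = 0) (u v : G) (hu : orderOf u = 2) (hv : orderOf v = 2) : ∑ᶠ p ∈ {p : G × G | IsConj u p.1 ∧ IsConj v p.2}, Cfsg.indFun H φ (p.1 * p.2) = (H.index : ℂ) * ∑ᶠ p ∈ {p : H × H | IsConj u (p.1 : G) ∧ IsConj v (p.2 : G)}, φ (p.1 * p.2) := by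
    classical
    letI := Fintype.ofFinite H
    rw [finsum_mem_eq_toFinset_sum, finsum_mem_eq_toFinset_sum]
    set T := ({p : G × G | IsConj u p.1 ∧ IsConj v p.2} : Set (G × G)).toFinset with hT
    set T' := ({p : H × H | IsConj u (p.1 : G) ∧ IsConj v (p.2 : G)} : Set (H × H)).toFinset with hT'
    have hinvol : ∀ {w a : G}, orderOf w = 2 → IsConj w a → a * a = 1 := by
      intro w a hw h
      obtain ⟨c, rfl⟩ := isConj_iff.mp h
      have h2 : w * w = 1 := by rw [← pow_two, ← hw, pow_orderOf_eq_one]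
      calc c * w * c⁻¹ * (c * w * c⁻¹) = c * (w * w) * c⁻¹ := by group
        _ = 1 := by rw [h2, mul_one, mul_inv_cancel]
    have hsum : ∀ x : G, ∑ p ∈ T, Cfsg.extendByZero H φ (x⁻¹ * (p.1 * p.2) * x) =
        ∑ p ∈ T, Cfsg.extendByZero H φ (p.1 * p.2) := by
      intro x
      refine Finset.sum_bij (fun p _ => (x⁻¹ * p.1 * x, x⁻¹ * p.2 * x)) (fun p hp => ?_)
        (fun p _ q _ h => ?_) (fun p hp => ⟨(x * p.1 * x⁻¹, x * p.2 * x⁻¹), ?_, ?_⟩)
        (fun p _ => by
          show _ = Cfsg.extendByZero H φ (x⁻¹ * p.1 * x * (x⁻¹ * p.2 * x))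
          congr 1
          group)
      · simp only [hT, Set.mem_toFinset, Set.mem_setOf_eq] at hp ⊢
        exact ⟨hp.1.trans (isConj_iff.mpr ⟨x⁻¹, by simp⟩), hp.2.trans (isConj_iff.mpr ⟨x⁻¹, by simp⟩)⟩
      · simp only [Prod.mk.injEq, mul_left_inj, mul_right_inj] at h
        exact Prod.ext h.1 h.2
      · simp only [hT, Set.mem_toFinset, Set.mem_setOf_eq] at hp ⊢
        exact ⟨hp.1.trans (isConj_iff.mpr ⟨x, rfl⟩), hp.2.trans (isConj_iff.mpr ⟨x, rfl⟩)⟩
      · simp [mul_assoc]
    have hmain : ∑ p ∈ T, Cfsg.extendByZero H φ (p.1 * p.2) = ∑ p ∈ T', φ (p.1 * p.2) := by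
      symm
      refine Finset.sum_bij_ne_zero (fun p _ _ => ((p.1 : G), (p.2 : G))) (fun p hp _ => ?_)
        (fun p _ _ q _ _ h => ?_) (fun p hp hne => ?_) (fun p _ _ => ?_)
      · simpa [hT, hT'] using hp
      · simp only [Prod.mk.injEq] at h
        exact Prod.ext (Subtype.ext h.1) (Subtype.ext h.2)
      · simp only [hT, Set.mem_toFinset, Set.mem_setOf_eq] at hp
        have hs : p.1 * p.2 ∈ S := by
          by_contra hns
          apply hne
          by_cases hm : p.1 * p.2 ∈ H
          · rw [Cfsg.Agent.CT.extendByZero_mem H φ hm]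
            exact hφS _ hns
          · exact Cfsg.Agent.CT.extendByZero_not_mem H φ hm
        have ha : p.1 * p.1 = 1 := hinvol hu hp.1
        have hb : p.2 * p.2 = 1 := hinvol hv hp.2
        have hconj : p.1 * (p.1 * p.2) * p.1⁻¹ = (p.1 * p.2)⁻¹ := by
          rw [mul_inv_rev, inv_eq_of_mul_eq_one_right ha, inv_eq_of_mul_eq_one_right hb,
            ← mul_assoc, ha, one_mul]
        have h1 : p.1 ∈ H := by
          by_contra h
          exact hTI _ h _ hs (hconj ▸ hinv _ hs)
        have h2 : p.2 ∈ H := (H.mul_mem_cancel_left h1).mp (hSH hs)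
        refine ⟨(⟨p.1, h1⟩, ⟨p.2, h2⟩), by simpa [hT'] using hp, ?_, rfl⟩
        intro h0
        exact hne (by rw [Cfsg.Agent.CT.extendByZero_mem H φ (H.mul_mem h1 h2)]; exact h0)
      · exact (Cfsg.Agent.CT.extendByZero_coe H φ (p.1 * p.2)).symm
    simp only [Cfsg.indFun]
    rw [← Finset.mul_sum, Finset.sum_comm, Finset.sum_congr rfl fun x _ => hsum x, Finset.sum_const,
      Finset.card_univ, ← Nat.card_eq_fintype_card, ← H.index_mul_card, nsmul_eq_mul, hmain]
    push_cast
    field_simp [Nat.cast_ne_zero.mpr (Nat.card_pos (α := H)).ne']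

end Cfsg.Agent.S0849
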