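import Cfsg.Statements.S0850
import Cfsg.Agent.Lib.CT.TI

set_option autoImplicit false
open Cfsg

namespace Cfsg.Agent.S0850

theorem not_fused {G : Type*} [Group G] [Finite G] (K : Subgroup G)
    (hC : ∀ k ∈ K, k ≠ 1 → Subgroup.centralizer ({k} : Set G) ≤ K)
    {x : G} (hx : x ∈ Subgroup.normalizer (K : Set G)) (hxK : x ∉ K) (g : G) : g * x * g⁻¹ ∉ K := by
  intro hy
  have hord : orderOf x ∣ Nat.card K := by
    rw [← orderOf_injective (MulAut.conj g).toMonoidHom (MulAut.conj g).injective x]
    exact Subgroup.orderOf_dvd_natCard K hy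
  -- some primary part of `x` lies outside `K`
  set N := Subgroup.normalizer (K : Set G)
  haveI : (K.subgroupOf N).Normal := Subgroup.normal_in_normalizer
  set xb : N ⧸ K.subgroupOf N := QuotientGroup.mk ⟨x, hx⟩
  have hxb : orderOf xb ≠ 1 := fun h => hxK (by
    rw [orderOf_eq_one_iff, QuotientGroup.eq_one_iff, Subgroup.mem_subgroupOf] at h
    exact h)
  obtain ⟨q, hq, hqd⟩ := Nat.exists_prime_and_dvd hxb
  haveI : Fact q.Prime := ⟨hq⟩
  have hqx : q ∣ orderOf x := hqd.trans (by
    rw [← Subgroup.orderOf_mk x hx]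
    exact orderOf_map_dvd (QuotientGroup.mk' (K.subgroupOf N)) ⟨x, hx⟩)
  obtain ⟨a, m, hm, hxo⟩ := Nat.exists_eq_pow_mul_and_not_dvd (orderOf_pos x).ne' q hq.ne_one
  set z := x ^ m
  have hzK : z ∉ K := by
    intro hz
    apply hm
    refine hqd.trans (orderOf_dvd_of_pow_eq_one ?_)
    rw [← QuotientGroup.mk_pow, QuotientGroup.eq_one_iff, Subgroup.mem_subgroupOf]
    simpa using hz
  have hzN : z ∈ N := N.pow_mem hx m
  have hzp : IsPGroup q (Subgroup.zpowers z) := by
    refine IsPGroup.of_card (n := a) ?_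
    have hm0 : m ≠ 0 := fun h => (orderOf_pos x).ne' (by rw [hxo, h, mul_zero])
    rw [Nat.card_zpowers, orderOf_pow_of_dvd hm0 (hxo ▸ dvd_mul_left m _), hxo,
      Nat.mul_div_cancel _ (Nat.pos_of_ne_zero hm0)]
  letI : MulAction (Subgroup.zpowers z) K :=
    MulAction.compHom K (((Subgroup.normalizerMonoidHom K)).comp
      (Subgroup.inclusion (Subgroup.zpowers_le.mpr hzN)))
  have hmem : (1 : K) ∈ MulAction.fixedPoints (Subgroup.zpowers z) K := fun u => Subtype.ext (show (u : G) * 1 * (u : G)⁻¹ = 1 by simp)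
  obtain ⟨k, hk, hk1⟩ := hzp.exists_fixed_point_of_prime_dvd_card_of_fixed_point K
    (hqx.trans hord) hmem
  have hfix : z * k * z⁻¹ = k := congrArg Subtype.val (hk ⟨z, Subgroup.mem_zpowers z⟩)
  refine hzK (hC k k.2 (fun h => hk1 (Subtype.ext h.symm)) ?_)
  rw [Subgroup.mem_centralizer_singleton_iff]
  exact mul_inv_eq_iff_eq_mul.mp hfix


/-- Let K be a subgroup of the finite group G that meets each conjugate by an element outside its normalizer N trivially, is properly contained in N, and contains the centralizer of each of its non-identity elements (a T.I. subgroup with Frobenius normalizer). Then no element of N outside K is conjugate in G to an element of K, and for every class function ϑ of N that vanishes on N away from K and at the identity, the function induced from ϑ to G agrees with ϑ on all of N. -/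
theorem result {G : Type*} [Group G] [Fintype G] (K : Subgroup G) (hTI : ∀ g : G, g ∉ Subgroup.normalizer (K : Set G) → ∀ k ∈ K, g * k * g⁻¹ ∈ K → k = 1) (hlt : K < Subgroup.normalizer (K : Set G)) (hC : ∀ k ∈ K, k ≠ 1 → Subgroup.centralizer ({k} : Set G) ≤ K) : (∀ x ∈ Subgroup.normalizer (K : Set G), x ∉ K → ∀ g : G, g * x * g⁻¹ ∉ K) ∧ ∀ (ϑ : Subgroup.normalizer (K : Set G) → ℂ), Cfsg.IsClassFunction (Subgroup.normalizer (K : Set G)) ϑ → (∀ x : Subgroup.normalizer (K : Set G), (x : G) ∉ K → ϑ x = 0) → ϑ 1 = 0 → ∀ x : Subgroup.normalizer (K : Set G), Cfsg.indFun (Subgroup.normalizer (K : Set G)) ϑ x = ϑ x := by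
  classical
  refine ⟨fun x hx hxK g => not_fused K hC hx hxK g, fun ϑ hcl hvan h1 x => ?_⟩
  haveI := Fintype.ofFinite (Subgroup.normalizer (K : Set G))
  by_cases hx : (x : G) ∈ K
  · rcases eq_or_ne x 1 with rfl | hne
    · rw [Subgroup.coe_one, CT.indFun_one_eval, h1, mul_zero]
    · exact CT.indFun_eq_on_TI (S := (K : Set G)) hTI hcl (fun y hy => hvan y hy) hx hne
  · rw [hvan x hx]
    simp only [indFun]
    rw [Finset.sum_eq_zero fun g _ => ?_, mul_zero]
    by_cases hm : g⁻¹ * x * g ∈ Subgroup.normalizer (K : Set G)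
    · rw [CT.extendByZero_mem _ ϑ hm]
      refine hvan _ fun hK => ?_
      exact not_fused K hC x.2 hx g⁻¹ (by simpa using hK)
    · rw [CT.extendByZero_not_mem _ ϑ hm]

end Cfsg.Agent.S0850
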