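import Cfsg.Statements.S0851
import Cfsg.Agent.Lib.CT.FrobeniusTI

set_option autoImplicit false
open Cfsg

namespace Cfsg.Agent.S0851


/-- Let K be a subgroup of the finite group G that meets each conjugate by an element outside its normalizer N trivially, is properly contained in N, and contains the centralizer of each of its non-identity elements (a T.I. subgroup with Frobenius normalizer). Suppose K is abelian, let e be the index of K in N, and call an irreducible character of N relevant when it takes at some element of K a value different from its degree. Then either there is exactly one relevant character and K is an elementary abelian p-group of order e + 1 for some prime p, or there are a sign ε and an injective map f from the relevant characters to the irreducible characters of G such that inducing χ - ξ to G gives ε (f χ - f ξ) for all relevant χ and ξ. -/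
theorem result {G : Type*} [Group G] [Fintype G] (K : Subgroup G) (hTI : ∀ g : G, g ∉ Subgroup.normalizer (K : Set G) → ∀ k ∈ K, g * k * g⁻¹ ∈ K → k = 1) (hlt : K < Subgroup.normalizer (K : Set G)) (hC : ∀ k ∈ K, k ≠ 1 → Subgroup.centralizer ({k} : Set G) ≤ K) (hab : ∀ a ∈ K, ∀ b ∈ K, a * b = b * a) : (Nat.card {χ : Cfsg.IrrCharacter (Subgroup.normalizer (K : Set G)) // ∃ k : Subgroup.normalizer (K : Set G), (k : G) ∈ K ∧ (χ : ↥(Subgroup.normalizer (K : Set G)) → ℂ) k ≠ (χ : ↥(Subgroup.normalizer (K : Set G)) → ℂ) 1} = 1 ∧ ∃ p : ℕ, p.Prime ∧ Cfsg.IsElementaryAbelian p K ∧ Nat.card K = (K.subgroupOf (Subgroup.normalizer (K : Set G))).index + 1) ∨ ∃ (ε : ℂ) (f : {χ : Cfsg.IrrCharacter (Subgroup.normalizer (K : Set G)) // ∃ k : Subgroup.normalizer (K : Set G), (k : G) ∈ K ∧ (χ : ↥(Subgroup.normalizer (K : Set G)) → ℂ) k ≠ (χ : ↥(Subgroup.normalizer (K : Set G)) → ℂ) 1} → Cfsg.IrrCharacter G), (ε = 1 ∨ ε = -1) ∧ Function.Injective f ∧ ∀ χ ξ, Cfsg.indFun (Subgroup.normalizer (K : Set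 G)) ((χ.1 : ↥(Subgroup.normalizer (K : Set G)) → ℂ) - (ξ.1 : ↥(Subgroup.normalizer (K : Set G)) → ℂ)) = ε • ((f χ : G → ℂ) - (f ξ : G → ℂ)) := by
  classical
  set M := Subgroup.normalizer (K : Set G)
  haveI := Fintype.ofFinite M
  set N := K.subgroupOf M
  haveI : N.Normal := Subgroup.normal_in_normalizer
  have hC' := CT.FrobTI.cent K hC
  have habN : ∀ a b : N, a * b = b * a := fun a b => Subtype.ext (Subtype.ext (hab _ a.2 _ b.2))
  set T := {χ : Cfsg.IrrCharacter M // ∃ k : M, (k : G) ∈ K ∧ (χ : M → ℂ) k ≠ (χ : M → ℂ) 1}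
  by_cases h1 : Nat.card T = 1
  · left
    refine ⟨h1, ?_⟩
    obtain ⟨hsub, ⟨χ₀⟩⟩ := Nat.card_eq_one_iff_unique.mp h1
    obtain ⟨hcard, hconj⟩ := CT.FrobKernel.single_class N hC' habN χ₀.1 χ₀.2 fun χ hχ =>
      congrArg Subtype.val (hsub.elim (⟨χ, hχ⟩ : T) χ₀)
    have hKN : Nat.card N = Nat.card K := Nat.card_congr (Subgroup.subgroupOfEquivOfLe hlt.le).toEquiv
    rw [hKN] at hcard
    have hKne : Nat.card K ≠ 1 := by
      have := Subgroup.index_ne_zero_of_finite (H := N)
      omega
    obtain ⟨p, hp, hpd⟩ := Nat.exists_prime_and_dvd hKne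
    haveI := Fact.mk hp
    obtain ⟨z, hz⟩ := exists_prime_orderOf_dvd_card' (G := K) p hpd
    refine ⟨p, hp, ⟨⟨⟨fun a b => Subtype.ext (hab a a.2 b b.2)⟩⟩, fun a ha => ?_⟩, hcard⟩
    rcases eq_or_ne a 1 with rfl | ha1
    · exact one_pow p
    have hz1 : (z : G) ≠ 1 := fun h => hp.one_lt.ne (by rw [← hz, ← Subgroup.orderOf_coe, h, orderOf_one])
    have hc := hconj (⟨z, Subgroup.le_normalizer z.2⟩ : M) z.2 (⟨a, Subgroup.le_normalizer ha⟩ : M) ha
      (fun h => hz1 (congrArg Subtype.val h)) (fun h => ha1 (congrArg Subtype.val h))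
    obtain ⟨w, hw⟩ := isConj_iff.mp hc
    have hw' : (w : G) * z * (w : G)⁻¹ = a := congrArg Subtype.val hw
    rw [← hw', conj_pow, ← hz, ← Subgroup.orderOf_coe, pow_orderOf_eq_one]
    group
  right
  by_cases h0 : IsEmpty T
  · exact ⟨1, fun χ => isEmptyElim χ, Or.inl rfl, fun χ => isEmptyElim χ, fun χ => isEmptyElim χ⟩
  haveI := Fintype.ofFinite T
  have hn : 2 ≤ Fintype.card T := by
    rw [not_isEmpty_iff] at h0
    have h2 : 0 < Fintype.card T := Fintype.card_pos
    rw [Nat.card_eq_fintype_card] at h1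
    omega
  let e := Fintype.equivFin T
  obtain ⟨ε, hε, θ, hθ, hθi, hθd⟩ := CT.Exceptional.exceptional_of_TI (CT.FrobTI.isTI K hTI) hn
    (fun i => ((e.symm i).1 : M → ℂ)) (fun i => (e.symm i).1.2)
    (fun i j h => e.symm.injective (Subtype.ext (Subtype.ext h)))
    (fun i x hx => CT.FrobKernel.vanish N hC' (e.symm i).1.2 (e.symm i).2 hx)
    (fun i j => by
      rw [CT.FrobKernel.deg_of_comm N hC' habN (e.symm i).1.2 (e.symm i).2,
        CT.FrobKernel.deg_of_comm N hC' habN (e.symm j).1.2 (e.symm j).2])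
  refine ⟨ε, fun χ => ⟨θ (e χ), hθ _⟩, hε, fun a b h => e.injective (hθi (congrArg Subtype.val h)), fun χ ξ => ?_⟩
  rw [CT.indFun_sub]
  have := hθd (e χ) (e ξ)
  simpa using this

end Cfsg.Agent.S0851
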