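import Cfsg.Statements.S0855
import Cfsg.Agent.Lib.CT.GaloisFixed

set_option autoImplicit false
open Cfsg

namespace Cfsg.Agent.S0855


/-- For a finite group G and a prime p: every irreducible character of G has degree a power of p if and only if G has an abelian normal subgroup whose order is prime to p and whose index is a power of p. -/
theorem result {G : Type*} [Group G] [Finite G] (p : ℕ) (hp : p.Prime) : (∀ χ : Cfsg.IrrCharacter G, ∃ k : ℕ, (χ : G → ℂ) 1 = (p : ℂ) ^ k) ↔ ∃ A : Subgroup G, A.Normal ∧ (∀ a ∈ A, ∀ b ∈ A, a * b = b * a) ∧ Nat.Coprime (Nat.card A) p ∧ ∃ k : ℕ, A.index = p ^ k := by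
  haveI := Fintype.ofFinite G
  constructor
  · intro h
    refine CT.GaloisFixed.exists_complement_of_degrees hp (Nat.card G) G le_rfl fun χ => ?_
    obtain ⟨k, hk⟩ := h χ
    rw [CT.deg_eq (CT.isCharacter_of_isIrr χ.2), ← Nat.cast_pow] at hk
    exact ⟨k, Nat.cast_injective hk⟩
  · rintro ⟨A, hAn, hab, -, k, hk⟩ χ
    haveI := hAn
    haveI := Fintype.ofFinite A
    have hd := CT.deg_dvd_index_of_comm A χ.2 fun a b => Subtype.ext (hab a a.2 b b.2)
    rw [hk] at hd
    obtain ⟨j, -, hj⟩ := (Nat.dvd_prime_pow hp).mp hd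
    exact ⟨j, by rw [CT.deg_eq (CT.isCharacter_of_isIrr χ.2), hj, Nat.cast_pow]⟩

end Cfsg.Agent.S0855
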