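import Cfsg.Statements.S0859
import Cfsg.Agent.Lib.CTRel.AGroupMonomial
-- import your own Cfsg.Agent.* helpers here

set_option autoImplicit false
open Cfsg

namespace Cfsg.Agent.S0859

/-- Let G be a finite solvable group and N a normal subgroup such that for every prime p every Sylow p-subgroup of N is abelian. Suppose every irreducible character of G is induced from an irreducible character of some subgroup containing N whose restriction to N is irreducible. Then every irreducible character of G is induced from a character of degree 1 of some subgroup. -/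
theorem result {G : Type*} [Group G] [Fintype G] [Group.IsSolvable G] (N : Subgroup G) [N.Normal] (hab : ∀ (p : ℕ) [Fact p.Prime] (P : Sylow p N), ∀ a ∈ P, ∀ b ∈ P, a * b = b * a) (hrel : ∀ χ : G → ℂ, Cfsg.IsIrrCharacter G χ → ∃ (H : Subgroup G) (hNH : N ≤ H) (ψ : H → ℂ), Cfsg.IsIrrCharacter H ψ ∧ Cfsg.indFun H ψ = χ ∧ Cfsg.IsIrrCharacter N (fun n : N => ψ ⟨(n : G), hNH n.2⟩)) (χ : G → ℂ) (hχ : Cfsg.IsIrrCharacter G χ) : ∃ (U : Subgroup G) (lam : U → ℂ), Cfsg.IsCharacter U lam ∧ lam 1 = 1 ∧ Cfsg.indFun U lam = χ := by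
  classical
  obtain ⟨H, hNH, ψ, hψ, hind, hres⟩ := hrel χ hχ
  have habs : RelMono.AbSyl (N.subgroupOf H) := by
    intro p hp Q hQ hQp a ha b hb
    haveI := Fact.mk hp
    let f : Q →* N :=
      { toFun := fun x => ⟨((x : H) : G), hQ x.2⟩
        map_one' := rfl
        map_mul' := fun _ _ => rfl }
    obtain ⟨P, hP⟩ := (IsPGroup.of_surjective hQp f.rangeRestrict f.rangeRestrict_surjective).exists_le_sylow
    have := hab p P (f ⟨a, ha⟩) (hP ⟨⟨a, ha⟩, rfl⟩) (f ⟨b, hb⟩) (hP ⟨⟨b, hb⟩, rfl⟩)
    exact Subtype.ext (congrArg (fun z : N => (z : G)) this)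
  have hs : Group.IsSolvable (N.subgroupOf H) := Group.isSolvable_of_isSolvable_injective
    (f := H.subtype.comp (N.subgroupOf H).subtype) (fun a b h => Subtype.ext (Subtype.ext h))
  let e : (N.subgroupOf H) ≃* N := Subgroup.subgroupOfEquivOfLe hNH
  have hres' : Cfsg.IsIrrCharacter (N.subgroupOf H) (fun m : N.subgroupOf H => ψ m) :=
    CT.isIrrCharacter_comp e.toMonoidHom e.surjective hres
  obtain ⟨U', lam, hlam, hlam1, hind'⟩ :=
    RelMono.monomial_of_absyl (Nat.card H) H (N.subgroupOf H) rfl hs habs ψ hψ hres'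
  let j : U' ≃* (U'.map H.subtype : Subgroup G) := Subgroup.equivMapOfInjective U' H.subtype H.subtype_injective
  refine ⟨U'.map H.subtype, fun y => lam (j.symm y), CT.isCharacter_comp j.symm.toMonoidHom hlam, by simp [hlam1], ?_⟩
  rw [← CT.indFun_map H U', ← hind, ← hind']
  congr 2
  funext x
  exact congrArg lam ((j.symm_apply_eq).2 (Subtype.ext rfl))

end Cfsg.Agent.S0859
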