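import Cfsg.Statements.S0861
import Cfsg.Agent.Lib.CT.GaloisFixed

set_option autoImplicit false
open Cfsg

namespace Cfsg.Agent.S0861

open scoped commutatorElement

theorem dvd_of_sum_eq_zero {p k n : ℕ} [hp : Fact p.Prime] (ω : Fin n → ℂ)
    (hω : ∀ i, ω i ^ (p ^ k) = 1) (hs : ∑ i, ω i = 0) : p ∣ n := by
  classical
  cases k with
  | zero =>
    have : ∀ i, ω i = 1 := fun i => by simpa using hω i
    simp [this] at hs
    simp [hs]
  | succ k =>
    have hpos : 0 < p ^ (k + 1) := pow_pos hp.out.pos _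
    haveI : NeZero (p ^ (k + 1)) := ⟨hpos.ne'⟩
    have hζ := Complex.isPrimitiveRoot_exp (p ^ (k + 1)) hpos.ne'
    set ζ := Complex.exp (2 * Real.pi * Complex.I / ((p ^ (k + 1) : ℕ) : ℂ))
    choose e _ he using fun i => hζ.eq_pow_of_pow_eq_one (hω i)
    have hroot : Polynomial.aeval ζ (∑ i, (Polynomial.X : Polynomial ℤ) ^ e i) = 0 := by
      simp [map_sum, he, hs]
    have hdvd := minpoly.isIntegrallyClosed_dvd (hζ.isIntegral hpos) hroot
    rw [← Polynomial.cyclotomic_eq_minpoly hζ hpos] at hdvd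
    have := Polynomial.eval_dvd hdvd (x := (1 : ℤ))
    rw [Polynomial.eval_one_cyclotomic_prime_pow, Polynomial.eval_finsetSum] at this
    simp at this
    exact_mod_cast this


/-- Let P be a normal abelian Sylow p-subgroup of the finite group G and suppose some element g of P has centralizer exactly P. Then the number of irreducible characters of G is at most the order of P, and if equality holds then G / P is abelian (the commutator subgroup lies in P). -/
theorem result {G : Type*} [Group G] [Finite G] (p : ℕ) [Fact p.Prime] (P : Sylow p G) [(P : Subgroup G).Normal] (hab : ∀ a ∈ P, ∀ b ∈ P, a * b = b * a) (g : G) (hg : g ∈ P) (hC : Subgroup.centralizer ({g} : Set G) = P) : Nat.card (Cfsg.IrrCharacter G) ≤ Nat.card P ∧ (Nat.card (Cfsg.IrrCharacter G) = Nat.card P → commutator G ≤ P) := by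
  haveI := Fintype.ofFinite G
  classical
  haveI := Fintype.ofFinite (P : Subgroup G)
  have hne : ∀ χ : Cfsg.IrrCharacter G, (χ : G → ℂ) g ≠ 0 := by
    intro χ h0
    have hd : CT.deg (χ : G → ℂ) ∣ (P : Subgroup G).index :=
      CT.deg_dvd_index_of_comm _ χ.2 fun a b => Subtype.ext (hab a a.2 b b.2)
    obtain ⟨m, ρ, -, hρ⟩ := χ.2
    obtain ⟨ω, hω, hsum⟩ := CT.exists_eigenvalues_one ρ g
    obtain ⟨k, hk⟩ := P.isPGroup' ⟨g, hg⟩
    have hk' : g ^ (p ^ k) = 1 := by simpa using congrArg Subtype.val hk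
    rw [show ρ.character g = 0 from by rw [← h0, hρ]] at hsum
    have hp := dvd_of_sum_eq_zero ω (fun i => orderOf_dvd_iff_pow_eq_one.mp
      ((orderOf_dvd_of_pow_eq_one (hω i)).trans (orderOf_dvd_of_pow_eq_one hk'))) hsum.symm
    rw [← CT.deg_eq_finrank ρ, hρ] at hp
    exact P.not_dvd_index (hp.trans hd)
  obtain ⟨h1, h2⟩ := CT.GaloisFixed.card_le_centralizer hne
  rw [hC] at h1 h2
  refine ⟨h1, fun heq => ?_⟩
  have hlin : ∀ ψ : Cfsg.IrrCharacter (G ⧸ (P : Subgroup G)), (ψ : G ⧸ (P : Subgroup G) → ℂ) 1 = 1 := by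
    intro ψ
    have hi := CT.isIrr_inflate (P : Subgroup G) ψ.2
      (χ := fun x => (ψ : G ⧸ (P : Subgroup G) → ℂ) (QuotientGroup.mk x)) (fun x => rfl)
    have h := h2 heq ⟨_, hi⟩
    simp only at h
    rw [(QuotientGroup.eq_one_iff g).mpr hg, CT.deg_eq (CT.isCharacter_of_isIrr ψ.2),
      Complex.norm_natCast] at h
    rw [CT.deg_eq (CT.isCharacter_of_isIrr ψ.2), show CT.deg (ψ : G ⧸ (P : Subgroup G) → ℂ) = 1 by exact_mod_cast h, Nat.cast_one]
  have hcomm := CT.comm_iff_all_linear.mpr hlin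
  rw [commutator_def, Subgroup.commutator_le]
  intro x _ y _
  rw [← QuotientGroup.eq_one_iff]
  show (QuotientGroup.mk' (P : Subgroup G)) ⁅x, y⁆ = 1
  rw [map_commutatorElement, commutatorElement_eq_one_iff_mul_comm]
  exact hcomm _ _

end Cfsg.Agent.S0861
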