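import Cfsg.Statements.S0862
import Cfsg.Agent.Lib.CoprimeExt.Basic

set_option autoImplicit false
open Cfsg

namespace Cfsg.Agent.S0862


/-- Let N be a normal subgroup of the finite group G and ϑ an irreducible character of N of degree d coprime to the index of N, which is the restriction of some irreducible character of G. Let μ be a character of G of degree 1 whose restriction to N is the determinantal character of ϑ. Then there is exactly one irreducible character χ of G restricting to ϑ whose determinantal character is μ. -/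
theorem result {G : Type*} [Group G] [Finite G] (N : Subgroup G) [N.Normal] (ϑ : N → ℂ) (hϑ : Cfsg.IsIrrCharacter N ϑ) (d : ℕ) (hd : ϑ 1 = d) (hcop : Nat.Coprime N.index d) (hext : ∃ η : G → ℂ, Cfsg.IsIrrCharacter G η ∧ (∀ n : N, η n = ϑ n)) (μ : G → ℂ) (hμ : Cfsg.IsCharacter G μ ∧ μ 1 = 1) (hμN : ∀ n : N, μ n = Cfsg.detChar ϑ n) : ∃! χ : G → ℂ, Cfsg.IsIrrCharacter G χ ∧ (∀ n : N, χ n = ϑ n) ∧ Cfsg.detChar χ = μ := by
  haveI := Fintype.ofFinite G
  haveI := Fintype.ofFinite N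
  have hdeg : Cfsg.Agent.CT.deg ϑ = d := by simp [Cfsg.Agent.CT.deg, hd]
  obtain ⟨η, hη, hres⟩ := hext
  obtain ⟨m, hm⟩ := Cfsg.Agent.CT.exists_hom_of_degree_one hμ.1 hμ.2
  have hinv : ∀ (g : G) (n : N), ϑ ⟨g * n * g⁻¹, Subgroup.Normal.conj_mem inferInstance (n : G) n.2 g⟩ = ϑ n := fun g n => by
    rw [← hres, ← hres]
    exact Cfsg.Agent.CT.isClassFunction_of_isIrr hη (n : G) g
  obtain ⟨χ, h1, h2⟩ := Cfsg.Agent.CoprimeExt.exists_char_ext N ⟨ϑ, hϑ⟩ hinv
    (by rw [hdeg]; exact hcop) m (fun n => by rw [← hμN n, hm])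
  refine ⟨χ, ⟨χ.2, h1, h2.trans hm.symm⟩, fun χ' hχ' => ?_⟩
  exact Cfsg.Agent.CoprimeExt.char_ext_unique N ⟨ϑ, hϑ⟩ χ' χ (Cfsg.Agent.CT.isCharacter_of_isIrr hχ'.1)
    (Cfsg.Agent.CT.isCharacter_of_isIrr χ.2) hχ'.2.1 h1 (by rw [hdeg]; exact hcop) (hχ'.2.2.trans (h2.trans hm.symm).symm)

end Cfsg.Agent.S0862
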