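import Cfsg.Statements.S0864
import Cfsg.Agent.Lib.CT.Extend

set_option autoImplicit false
open Cfsg

namespace Cfsg.Agent.S0864


/-- Let N be a normal subgroup of the finite group G and λ a character of N of degree 1 invariant under conjugation by G. Suppose that for every prime p dividing the order of λ (in the group of functions under pointwise multiplication) there is a subgroup H containing N, of index prime to p and with the index of N in H a power of p, together with a character of H of degree 1 restricting to λ. Then λ is the restriction of a character of G of degree 1. -/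
theorem result {G : Type*} [Group G] [Finite G] (N : Subgroup G) [hN : N.Normal] (lam : N → ℂ) (hlam : Cfsg.IsCharacter N lam ∧ lam 1 = 1) (hinv : ∀ (g : G) (n : N), lam ⟨g * n * g⁻¹, hN.conj_mem (n : G) n.2 g⟩ = lam n) (hsyl : ∀ p : ℕ, p.Prime → p ∣ orderOf lam → ∃ (H : Subgroup G) (hNH : N ≤ H) (ν : H → ℂ), Nat.Coprime H.index p ∧ (∃ k : ℕ, N.relIndex H = p ^ k) ∧ Cfsg.IsCharacter H ν ∧ ν 1 = 1 ∧ ∀ n : N, ν ⟨(n : G), hNH n.2⟩ = lam n) : ∃ μ : G → ℂ, Cfsg.IsCharacter G μ ∧ μ 1 = 1 ∧ ∀ n : N, μ n = lam n := by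
  classical
  obtain ⟨l, rfl⟩ := CT.exists_hom_of_degree_one hlam.1 hlam.2
  haveI hτ : (CT.linRep l).IsIrreducible :=
    CT.isIrreducible_of_isIrrCharacter _ (by rw [CT.linRep_character]; exact CT.isIrrCharacter_lin l)
  have hinv' : ∀ g, CT.conjFun N g (CT.linRep l).character = (CT.linRep l).character := by
    intro g
    rw [CT.linRep_character]
    exact funext (hinv g)
  obtain ⟨P, hP⟩ := CT.exists_projExt (CT.linRep l) hinv'
  obtain ⟨α, hα⟩ := hP.cocycle
  have hsc : ∀ n : N, (CT.linRep l).asGroupHom n = CT.scU (l n) := fun n =>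
    Units.ext (by rw [CT.coe_scU, Representation.asGroupHom_apply]; rfl)
  obtain ⟨Q, hQ⟩ := CT.exists_hom_of_primes hP hα fun p hp => by
    by_cases hdvd : p ∣ orderOf (fun n : N => (l n : ℂ))
    · obtain ⟨H, hNH, η, hcop, -, hη, -, hres⟩ := hsyl p hp hdvd
      obtain ⟨F, hF⟩ := CT.exists_hom_of_extension (τ := CT.linRep l) H hNH hη
        (fun n => by rw [CT.linRep_character]; exact hres n)
      refine ⟨_, ?_, CT.index_mem_cocyclePowers hP hα H hNH F hF⟩
      rw [Int.natCast_dvd_natCast]
      exact hp.coprime_iff_not_dvd.mp hcop.symm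
    · refine ⟨_, by rwa [Int.natCast_dvd_natCast],
        CT.exponent_mem_cocyclePowers hα hP _ (fun g => CT.unit_scalar (τ := CT.linRep l) _
          fun n => by rw [hsc, CT.scU_comm]) fun n => ?_⟩
      have h1 := congrFun (pow_orderOf_eq_one (fun n : N => (l n : ℂ))) n
      rw [Pi.pow_apply, Pi.one_apply] at h1
      have h2 : l n ^ orderOf (fun n : N => (l n : ℂ)) = 1 := Units.ext (by simpa using h1)
      rw [hsc, ← CT.scU_one, ← h2]
      exact (map_pow _ _ _).symm
  obtain ⟨χ, hχ, hres⟩ := CT.exists_irr_of_hom Q hQ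
  rw [CT.linRep_character] at hres
  refine ⟨χ, CT.isCharacter_of_isIrr hχ, ?_, hres⟩
  simpa using hres 1

end Cfsg.Agent.S0864
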