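import Cfsg.Statements.S0874
import Cfsg.Agent.Lib.CT.Brauer

set_option autoImplicit false
open Cfsg

namespace Cfsg.Agent.S0874

universe u

theorem exists_list_aux {G : Type u} [Group G] [Fintype G] {p : ℕ} {m : ℤ}
    (hm : ¬ (p : ℤ) ∣ m) {f : G → ℂ} (hf : f ∈ CT.elemGen p G) :
    ∃ l : List ((E : Subgroup G) × ((E → ℂ) × ℤ)), ¬ (p : ℤ) ∣ m ∧
      (∀ t ∈ l, Cfsg.IsElementary p t.1 ∧ Cfsg.IsCharacter t.1 t.2.1) ∧
      f = (l.map fun t => (t.2.2 : ℂ) • Cfsg.indFun t.1 t.2.1).sum := by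
  induction hf using AddSubgroup.closure_induction with
  | mem f hf =>
    obtain ⟨E, θ, hE, hθ, rfl⟩ := hf
    exact ⟨[⟨E, θ, 1⟩], hm, by simp only [List.mem_singleton]; rintro t rfl; exact ⟨hE, hθ⟩,
      by simp⟩
  | zero => exact ⟨[], hm, by simp, by simp⟩
  | add a b _ _ iha ihb =>
    obtain ⟨l₁, -, h₁, rfl⟩ := iha
    obtain ⟨l₂, -, h₂, rfl⟩ := ihb
    exact ⟨l₁ ++ l₂, hm, fun t ht => (List.mem_append.mp ht).elim (h₁ t) (h₂ t), by simp⟩
  | neg a _ iha =>
    obtain ⟨l, -, h, rfl⟩ := iha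
    refine ⟨l.map fun t => ⟨t.1, t.2.1, -t.2.2⟩, hm, ?_, ?_⟩
    · intro t ht
      obtain ⟨s, hs, rfl⟩ := List.mem_map.mp ht
      exact h s hs
    · clear h
      rename_i hx
      clear hx
      induction l with
      | nil => simp
      | cons t l ih => simp only [List.map_cons, List.sum_cons, neg_add, ih, Int.cast_neg, neg_smul]


/-- For a finite group G and a prime p there are an integer m not divisible by p and a list of triples (E, φ, c), with E a p-elementary subgroup, φ a character of E and c an integer, such that the constant function m on G equals the sum of the c • (function induced from φ). -/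
theorem result {G : Type*} [Group G] [Fintype G] (p : ℕ) (hp : p.Prime) : ∃ (m : ℤ) (l : List ((E : Subgroup G) × ((E → ℂ) × ℤ))), ¬ (p : ℤ) ∣ m ∧ (∀ t ∈ l, Cfsg.IsElementary p t.1 ∧ Cfsg.IsCharacter t.1 t.2.1) ∧ (fun _ : G => (m : ℂ)) = (l.map fun t => (t.2.2 : ℂ) • Cfsg.indFun t.1 t.2.1).sum := by
  obtain ⟨m, hm, hmem⟩ := CT.brauer_local (G := G) hp
  exact ⟨m, exists_list_aux hm hmem⟩

end Cfsg.Agent.S0874
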