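import Cfsg.Statements.S0875
import Cfsg.Agent.Lib.CT.SectionIndicator

set_option autoImplicit false
open Cfsg

namespace Cfsg.Agent.S0875


/-- Let G be a finite group of order m * n with m and n coprime, and g an element whose order is coprime to m. Every x in G factors uniquely as x = u * v with u, v commuting, the order of u coprime to n and the order of v coprime to m; let ϑ be the function on G equal to n at those x whose factor v is conjugate to g and equal to 0 elsewhere. Then ϑ is a linear combination of the irreducible characters of G with algebraic-integer coefficients. -/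
theorem result {G : Type*} [Group G] [Fintype G] (m n : ℕ) (hmn : Nat.card G = m * n) (hcop : Nat.Coprime m n) (g : G) (hg : Nat.Coprime (orderOf g) m) (ϑ : G → ℂ) (hϑ1 : ∀ x : G, (∃ v : G, IsConj v g ∧ (∃ u : G, x = u * v ∧ Commute u v ∧ Nat.Coprime (orderOf u) n ∧ Nat.Coprime (orderOf v) m)) → ϑ x = n) (hϑ0 : ∀ x : G, (¬ ∃ v : G, IsConj v g ∧ (∃ u : G, x = u * v ∧ Commute u v ∧ Nat.Coprime (orderOf u) n ∧ Nat.Coprime (orderOf v) m)) → ϑ x = 0) : ∃ c : Cfsg.IrrCharacter G → ℂ, (∀ χ, c χ ∈ Cfsg.AlgInt) ∧ ϑ = ∑ᶠ χ : Cfsg.IrrCharacter G, c χ • (χ : G → ℂ) := by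
    classical
    obtain ⟨k, hk0, hk1⟩ := Nat.chineseRemainder hcop 0 1
    have hϑ : ϑ = fun x => if IsConj (x ^ k) g then (n : ℂ) else 0 := by
      funext x
      split_ifs with h
      · refine hϑ1 x ⟨x ^ k, h, x * (x ^ k)⁻¹, by group, ?_, ?_, ?_⟩
        · exact ((Commute.refl x).mul_left ((Commute.refl x).pow_left k).inv_left).pow_right k
        · have h1 : (x * (x ^ k)⁻¹) ^ m = 1 := by
            rw [((Commute.refl x).pow_right k).inv_right.mul_pow, inv_pow, mul_inv_eq_one, ← pow_mul]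
            refine pow_eq_pow_iff_modEq.mpr (Nat.ModEq.of_dvd ((orderOf_dvd_natCard x).trans (dvd_of_eq hmn)) ?_)
            refine (Nat.modEq_and_modEq_iff_modEq_mul hcop).mp ⟨?_, ?_⟩
            · calc m ≡ 0 [MOD m] := Nat.modEq_zero_iff_dvd.mpr dvd_rfl
                _ ≡ k * m [MOD m] := (Nat.modEq_zero_iff_dvd.mpr (dvd_mul_left m k)).symm
            · simpa using (hk1.mul_right m).symm
          exact hcop.coprime_dvd_left (orderOf_dvd_of_pow_eq_one h1)
        · have h1 : (x ^ k) ^ n = 1 := by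
            rw [← pow_mul, ← orderOf_dvd_iff_pow_eq_one]
            exact ((orderOf_dvd_natCard x).trans (dvd_of_eq hmn)).trans
              (Nat.mul_dvd_mul_right (Nat.modEq_zero_iff_dvd.mp hk0) n)
          exact hcop.symm.coprime_dvd_left (orderOf_dvd_of_pow_eq_one h1)
      · refine hϑ0 x fun ⟨v, hv, u, hx, hc, hu, hvm⟩ => h ?_
        rw [Cfsg.Agent.CT.pow_eq_of_decomp hmn hk0 hk1 hx hc hu hvm]
        exact hv
    have hcl : Cfsg.IsClassFunction G ϑ := fun x c => by
      rw [hϑ]
      have : IsConj ((c * x * c⁻¹) ^ k) (x ^ k) := by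
        rw [conj_pow]; exact (isConj_iff.mpr ⟨c, rfl⟩).symm
      exact if_congr ⟨fun h => this.symm.trans h, fun h => this.trans h⟩ rfl rfl
    refine ⟨fun χ => Cfsg.classInner ϑ (χ : G → ℂ), fun χ => ?_, ?_⟩
    · show Cfsg.classInner ϑ (χ : G → ℂ) ∈ Cfsg.AlgInt
      rw [hϑ]
      exact Cfsg.Agent.CT.section_indicator_coeff hmn hk0 hk1 hcop g χ
    · rw [finsum_eq_sum_of_fintype]
      exact Cfsg.Agent.CT.classFunction_eq_sum hcl

end Cfsg.Agent.S0875
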