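import Cfsg.Statements.S0876
import Cfsg.Agent.Lib.CT.SectionIndicator
import Cfsg.Agent.Lib.Blocks.Regular

set_option autoImplicit false
open Cfsg

namespace Cfsg.Agent.S0876


/-- Let G be a finite group, p a prime and M a maximal ideal of the ring of algebraic integers containing p. Let x, y be elements with p-parts a and b (so a⁻¹ * x and b⁻¹ * y are their p-regular parts). Then a⁻¹ * x and b⁻¹ * y are conjugate in G if and only if, for every irreducible character χ, the difference χ x - χ y lies in the local ideal at M. -/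
theorem result {G : Type*} [Group G] [Finite G] (p : ℕ) (M : Ideal Cfsg.AlgInt) (hM : Cfsg.IsPModular p M) (x y a b : G) (ha : Cfsg.IsPPart p x a) (hb : Cfsg.IsPPart p y b) : IsConj (a⁻¹ * x) (b⁻¹ * y) ↔ ∀ χ : Cfsg.IrrCharacter G, Cfsg.MemLocalIdeal M ((χ : G → ℂ) x - (χ : G → ℂ) y) := by
    classical
    haveI := hM.2.1.isPrime
    haveI : Fact p.Prime := ⟨hM.1⟩
    haveI := Cfsg.Agent.Blocks.charP_res (M := M) hM
    letI := Fintype.ofFinite G
    obtain ⟨x', hxe, hxc, ⟨i, hi⟩, hxr⟩ := ha
    obtain ⟨y', hye, hyc, ⟨j, hj⟩, hyr⟩ := hb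
    have hax : a⁻¹ * x = x' := by rw [← hxe, inv_mul_cancel_left]
    have hby : b⁻¹ * y = y' := by rw [← hye, inv_mul_cancel_left]
    rw [hax, hby]
    have hred : ∀ (χ : Cfsg.IrrCharacter G) (a x' : G), Commute a x' → (∃ i, orderOf a = p ^ i) →
        ¬ p ∣ orderOf x' →
        Cfsg.MemLocalIdeal M ((χ : G → ℂ) (a * x') - (χ : G → ℂ) x') := by
      rintro χ a x' hc ⟨i, hi⟩ hr
      have h := Cfsg.Agent.Blocks.red_charL_mul (M := M) χ hc ⟨i, hi ▸ pow_orderOf_eq_one a⟩ hr
      rw [Cfsg.Agent.Blocks.red_eq_iff, Cfsg.Agent.Blocks.coe_charL, Cfsg.Agent.Blocks.coe_charL] at h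
      exact h
    constructor
    · intro h χ
      have h1 := hred χ a x' hxc ⟨i, hi⟩ hxr
      have h2 := hred χ b y' hyc ⟨j, hj⟩ hyr
      rw [hxe] at h1
      rw [hye] at h2
      have h3 := Cfsg.Agent.Blocks.memLocalIdeal_add h1 (Cfsg.Agent.Blocks.memLocalIdeal_neg h2)
      rw [Cfsg.Agent.CT.isClassFunction_isConj (Cfsg.Agent.CT.isClassFunction_of_isIrr χ.2) h] at h3
      convert h3 using 1
      ring
    · intro hχ
      by_contra hnc
      set m := p ^ (Nat.card G).factorization p with hm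
      set n := Nat.card G / m with hn
      have hmn : Nat.card G = m * n := (Nat.ordProj_mul_ordCompl_eq_self (Nat.card G) p).symm
      have hpn : ¬ p ∣ n := Nat.not_dvd_ordCompl hM.1 Nat.card_pos.ne'
      have hcop : m.Coprime n := (hM.1.coprime_iff_not_dvd.mpr hpn).pow_left _
      obtain ⟨k, hk0, hk1⟩ := Nat.chineseRemainder hcop 0 1
      have hregpow : ∀ z : G, ¬ p ∣ orderOf z → z ^ k = z := fun z hz =>
        Cfsg.Agent.CT.pow_eq_of_decomp hmn hk0 hk1 (one_mul z).symm (Commute.one_left z)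
          (by simp) ((hM.1.coprime_iff_not_dvd.mpr hz).symm.pow_right _)
      set c : Cfsg.IrrCharacter G → ℂ := fun χ =>
        Cfsg.classInner (fun z : G => if IsConj (z ^ k) x' then (n : ℂ) else 0) (χ : G → ℂ)
      have hcl : Cfsg.IsClassFunction G (fun z : G => if IsConj (z ^ k) x' then (n : ℂ) else 0) :=
        fun z g => by
        have : IsConj ((g * z * g⁻¹) ^ k) (z ^ k) := by
          rw [conj_pow]; exact (isConj_iff.mpr ⟨g, rfl⟩).symm
        exact if_congr ⟨fun h => this.symm.trans h, fun h => this.trans h⟩ rfl rfl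
      have hs := Cfsg.Agent.CT.classFunction_eq_sum hcl
      have e1 := congrFun hs x'
      have e2 := congrFun hs y'
      simp only [hregpow x' hxr, hregpow y' hyr, if_pos (IsConj.refl x'),
        if_neg (fun h : IsConj y' x' => hnc h.symm), Finset.sum_apply, Pi.smul_apply,
        smul_eq_mul] at e1 e2
      have hI : Cfsg.MemLocalIdeal M (n : ℂ) := by
        rw [show (n : ℂ) = ∑ χ : Cfsg.IrrCharacter G, c χ * ((χ : G → ℂ) x' - (χ : G → ℂ) y') by
          simp only [mul_sub, Finset.sum_sub_distrib, c]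
          rw [← e1, ← e2, sub_zero]]
        refine Finset.sum_induction _ (Cfsg.MemLocalIdeal M)
          (fun _ _ => Cfsg.Agent.Blocks.memLocalIdeal_add) Cfsg.Agent.Blocks.memLocalIdeal_zero
          fun χ _ => Cfsg.Agent.Blocks.memLocalIdeal_mul_left (Cfsg.Agent.Blocks.integral_mem_loc
            (Cfsg.Agent.CT.section_indicator_coeff hmn hk0 hk1 hcop x' χ)) ?_
        have h1 := hred χ a x' hxc ⟨i, hi⟩ hxr
        have h2 := hred χ b y' hyc ⟨j, hj⟩ hyr
        rw [hxe] at h1
        rw [hye] at h2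
        have h3 := Cfsg.Agent.Blocks.memLocalIdeal_add (Cfsg.Agent.Blocks.memLocalIdeal_add
          (Cfsg.Agent.Blocks.memLocalIdeal_neg h1) h2) (hχ χ)
        convert h3 using 1
        ring
      exact hpn ((Cfsg.Agent.Blocks.memLocalIdeal_natCast hM n).mp hI)

end Cfsg.Agent.S0876
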