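import Cfsg.Statements.S0879

set_option autoImplicit false
open Cfsg

namespace Cfsg.Agent.S0879


/-- Let G be a Zassenhaus group on the finite set Ω and E the stabilizer of two distinct points a, b. Then an element outside the normalizer of E conjugates no non-identity element of E into E, and E has index 2 in its normalizer. -/
theorem result {G Ω : Type*} [Group G] [Finite G] [MulAction G Ω] [Fintype Ω] (hZ : Cfsg.IsZassenhausGroup G Ω) {a b : Ω} (hab : a ≠ b) : (∀ g : G, g ∉ Subgroup.normalizer ((MulAction.stabilizer G a ⊓ MulAction.stabilizer G b : Subgroup G) : Set G) → ∀ x ∈ (MulAction.stabilizer G a ⊓ MulAction.stabilizer G b : Subgroup G), g * x * g⁻¹ ∈ (MulAction.stabilizer G a ⊓ MulAction.stabilizer G b : Subgroup G) → x = 1) ∧ ((MulAction.stabilizer G a ⊓ MulAction.stabilizer G b : Subgroup G).subgroupOf (Subgroup.normalizer ((MulAction.stabilizer G a ⊓ MulAction.stabilizer G b : Subgroup G) : Set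 G))).index = 2 := by
  classical
  obtain ⟨hfaith, h2, h3, ⟨g₀, hg₀, a₀, b₀, hab₀, hga₀, hgb₀⟩, -⟩ := hZ
  haveI := hfaith
  have htr : ∀ {p q r s : Ω}, p ≠ q → r ≠ s → ∃ t : G, t • p = r ∧ t • q = s := MulAction.is_two_pretransitive_iff.mp h2
  set D := (MulAction.stabilizer G a ⊓ MulAction.stabilizer G b : Subgroup G) with hD
  have hfix : ∀ x ∈ D, x ≠ 1 → ∀ c, x • c = c → c = a ∨ c = b := by
    intro x hx hx1 c hc
    by_contra hcon
    push Not at hcon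
    exact hx1 (h3 x a b c hab (Ne.symm hcon.2) (Ne.symm hcon.1) hx.1 hx.2 hc)
  have hset : ∀ g : G, ∀ x ∈ D, x ≠ 1 → g * x * g⁻¹ ∈ D →
      (g • a = a ∧ g • b = b) ∨ (g • a = b ∧ g • b = a) := by
    intro g x hx hx1 hgx
    have hne : g * x * g⁻¹ ≠ 1 := fun h => hx1 (by simpa using h)
    have h1 := hfix _ hgx hne (g • a) (by rw [mul_smul, mul_smul, inv_smul_smul, show x • a = a from hx.1])
    have h2' := hfix _ hgx hne (g • b) (by rw [mul_smul, mul_smul, inv_smul_smul, show x • b = b from hx.2])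
    have hne' : g • a ≠ g • b := fun h => hab (smul_left_cancel g h)
    rcases h1 with h1 | h1 <;> rcases h2' with h2' | h2'
    · exact absurd (h1.trans h2'.symm) hne'
    · exact Or.inl ⟨h1, h2'⟩
    · exact Or.inr ⟨h1, h2'⟩
    · exact absurd (h1.trans h2'.symm) hne'
  have hconjD : ∀ g : G, (g • a = a ∧ g • b = b) ∨ (g • a = b ∧ g • b = a) →
      ∀ u ∈ D, g * u * g⁻¹ ∈ D := by
    intro g hg u hu
    refine ⟨?_, ?_⟩ <;> show (g * u * g⁻¹) • _ = _ <;> rw [mul_smul, mul_smul]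
    · rcases hg with ⟨h1, h1'⟩ | ⟨h1, h1'⟩
      · rw [inv_smul_eq_iff.mpr h1.symm, show u • a = a from hu.1, h1]
      · rw [inv_smul_eq_iff.mpr h1'.symm, show u • b = b from hu.2, h1']
    · rcases hg with ⟨h1, h1'⟩ | ⟨h1, h1'⟩
      · rw [inv_smul_eq_iff.mpr h1'.symm, show u • b = b from hu.2, h1']
      · rw [inv_smul_eq_iff.mpr h1.symm, show u • a = a from hu.1, h1]
  have hinv : ∀ g : G, (g • a = a ∧ g • b = b) ∨ (g • a = b ∧ g • b = a) →
      (g⁻¹ • a = a ∧ g⁻¹ • b = b) ∨ (g⁻¹ • a = b ∧ g⁻¹ • b = a) := by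
    rintro g (⟨h1, h1'⟩ | ⟨h1, h1'⟩)
    · exact Or.inl ⟨inv_smul_eq_iff.mpr h1.symm, inv_smul_eq_iff.mpr h1'.symm⟩
    · exact Or.inr ⟨inv_smul_eq_iff.mpr h1'.symm, inv_smul_eq_iff.mpr h1.symm⟩
  have hN : ∀ g : G, (g • a = a ∧ g • b = b) ∨ (g • a = b ∧ g • b = a) →
      g ∈ Subgroup.normalizer (D : Set G) := by
    intro g hg
    rw [Subgroup.mem_normalizer_iff]
    refine fun u => ⟨hconjD g hg u, fun hu => ?_⟩
    simpa [mul_assoc] using hconjD g⁻¹ (hinv g hg) _ hu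
  refine ⟨fun g hg x hx hgx => ?_, ?_⟩
  · by_contra hx1
    exact hg (hN g (hset g x hx hx1 hgx))
  obtain ⟨t, hta, htb⟩ := htr hab₀ hab
  have hD1 : ∃ x ∈ D, x ≠ 1 := ⟨t * g₀ * t⁻¹,
    ⟨show _ • a = a by rw [mul_smul, mul_smul, inv_smul_eq_iff.mpr hta.symm, hga₀, hta],
      show _ • b = b by rw [mul_smul, mul_smul, inv_smul_eq_iff.mpr htb.symm, hgb₀, htb]⟩,
    fun h => hg₀ (by simpa using h)⟩
  obtain ⟨w, hwa, hwb⟩ := htr hab hab.symm
  obtain ⟨x, hx, hx1⟩ := hD1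
  rw [Subgroup.index_eq_two_iff]
  refine ⟨⟨w, hN w (Or.inr ⟨hwa, hwb⟩)⟩, fun y => ?_⟩
  have hy := hset y x hx hx1 ((Subgroup.mem_normalizer_iff.mp y.2 x).mp hx)
  simp only [Subgroup.mem_subgroupOf, Subgroup.coe_mul]
  have hiff : ∀ u : G, u ∈ D ↔ u • a = a ∧ u • b = b := fun u => Iff.rfl
  rcases hy with ⟨h1, h1'⟩ | ⟨h1, h1'⟩
  · refine Or.inr ⟨⟨h1, h1'⟩, fun hm => hab.symm ?_⟩
    have := ((hiff _).mp hm).1
    rwa [mul_smul, hwa, h1'] at this
  · refine Or.inl ⟨⟨?_, ?_⟩, fun hm => hab ?_⟩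
    · show _ • a = a; rw [mul_smul, hwa, h1']
    · show _ • b = b; rw [mul_smul, hwb, h1]
    · exact (((hiff _).mp hm).1).symm.trans h1

end Cfsg.Agent.S0879
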