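import Cfsg.Statements.S0880
import Cfsg.Agent.Lib.ZassOddCount.Counting
-- import your own Cfsg.Agent.* helpers here

set_option autoImplicit false
open Cfsg

namespace Cfsg.Agent.S0880

/-- Let G be a finite simple Zassenhaus group on Ω with n points whose two-point stabilizer E has odd order less than n - 2. Then there are two elements of G, each fixing no point of Ω, that are not conjugate. -/
theorem result {G Ω : Type*} [Group G] [Finite G] [MulAction G Ω] [Fintype Ω] (hZ : Cfsg.IsZassenhausGroup G Ω) {a b : Ω} (hab : a ≠ b) [IsSimpleGroup G] (hodd : Odd (Nat.card ↥(MulAction.stabilizer G a ⊓ MulAction.stabilizer G b : Subgroup G))) (hlt : Nat.card ↥(MulAction.stabilizer G a ⊓ MulAction.stabilizer G b : Subgroup G) < Fintype.card Ω - 2) : ∃ x y : G, (∀ c : Ω, x • c ≠ c) ∧ (∀ c : Ω, y • c ≠ c) ∧ ¬ IsConj x y := by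
  classical
  haveI := Fintype.ofFinite G
  have S := ZassOdd.setup hZ hab rfl hodd
  have h := ZassOdd.fpf_classes S hab (by omega)
  have h1 := ZassOdd.one_lt S hab
  obtain ⟨C, hC, D, hD, hne⟩ := Finset.one_lt_card.mp (show 1 <
    ((Finset.univ.filter fun g : G => ∀ c : Ω, g • c ≠ c).image ConjClasses.mk).card by omega)
  obtain ⟨x, hx, rfl⟩ := Finset.mem_image.mp hC
  obtain ⟨y, hy, rfl⟩ := Finset.mem_image.mp hD
  exact ⟨x, y, (Finset.mem_filter.mp hx).2, (Finset.mem_filter.mp hy).2,
    fun h => hne (ConjClasses.mk_eq_mk_iff_isConj.mpr h)⟩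

end Cfsg.Agent.S0880
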