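import Cfsg.Statements.S0881
import Cfsg.Agent.Lib.ZassOddCount.Kernel
import Cfsg.Agent.Lib.ZassOddCount.IndLinear
import Cfsg.Agent.Lib.CT.Orthogonality
-- import your own Cfsg.Agent.* helpers here

set_option autoImplicit false
open Cfsg
open scoped ComplexConjugate

namespace Cfsg.Agent.S0881

/-- Let G be a finite simple Zassenhaus group on Ω with n points, a ≠ b points with two-point stabilizer E of odd order less than n - 2, and let H be the subgroup of the stabilizer of a consisting of the identity and the elements fixing no point other than a (given here as a subgroup of the stabilizer of order one less than the number of points whose non-identity elements fix only a; it is the Frobenius kernel of the stabilizer). Let μ be a character of degree 1 of the stabilizer of a that is identically 1 on H but not identically 1. Then the function induced from μ to G is an irreducible character of G, and it takes the value 1 at every non-identity element of H. -/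
theorem result {G Ω : Type*} [Group G] [Fintype G] [MulAction G Ω] [Fintype Ω] (hZ : Cfsg.IsZassenhausGroup G Ω) {a b : Ω} (hab : a ≠ b) [IsSimpleGroup G] (hodd : Odd (Nat.card ↥(MulAction.stabilizer G a ⊓ MulAction.stabilizer G b : Subgroup G))) (hlt : Nat.card ↥(MulAction.stabilizer G a ⊓ MulAction.stabilizer G b : Subgroup G) < Fintype.card Ω - 2) (H : Subgroup G) (hHa : H ≤ MulAction.stabilizer G a) (hHcard : Nat.card H + 1 = Fintype.card Ω) (hHfix : ∀ u ∈ H, u ≠ 1 → ∀ c : Ω, u • c = c → c = a) (μ : MulAction.stabilizer G a → ℂ) (hμ : Cfsg.IsCharacter (MulAction.stabilizer G a) μ ∧ μ 1 = 1) (hμH : ∀ u : MulAction.stabilizer G a, (u : G) ∈ H → μ u = 1) (hμne : μ ≠ fun _ => 1) : Cfsg.IsIrrCharacter G (Cfsg.indFun (MulAction.stabilizer G a) μ) ∧ ∀ u ∈ H, u ≠ 1 → Cfsg.indFun (MulAction.stabilizer G a) μ u = 1 := by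
  classical
  have S := ZassOdd.setup hZ hab rfl hodd
  have Z := S.grp
  haveI := Z.two
  haveI : MulAction.IsPretransitive G Ω := by
    refine ⟨fun x y => ?_⟩
    obtain ⟨x', hx', -⟩ := Z.exists_third x x
    obtain ⟨y', hy', -⟩ := Z.exists_third y y
    obtain ⟨g, hg, -⟩ := PermGp.two_trans_exists Z.two hx'.symm hy'.symm
    exact ⟨g, hg⟩
  have hK := ZassOdd.zker_of_card hZ hHa hHcard hHfix
  obtain ⟨hμc, hμ1⟩ := hμ
  obtain ⟨l, rfl⟩ := CT.exists_hom_of_degree_one hμc hμ1
  set θ := indFun (MulAction.stabilizer G a) (fun x => (l x : ℂ)) with hθ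
  have hconj : ∀ h : MulAction.stabilizer G a, conj (l h : ℂ) = ((l h)⁻¹ : ℂˣ) := by
    intro h
    rw [← CT.char_inv_eq_conj hμc, map_inv]
  have hone : θ 1 = (Fintype.card Ω : ℂ) := by
    rw [hθ, CT.indFun_one_eval, MulAction.index_stabilizer_of_transitive, Nat.card_eq_fintype_card]
    simp
  have hH : ∀ u ∈ H, u ≠ 1 → θ u = 1 := by
    intro u hu hu1
    rw [hθ, ZassOdd.ind_linear_apply a l u (fun _ => 1) {a}
      (fun c => ⟨fun h => by rw [Finset.mem_singleton.mp h]; exact hHa hu,
        fun h => Finset.mem_singleton.mpr (hHfix u hu hu1 c h)⟩)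
      (fun c hc => by rw [one_smul, Finset.mem_singleton.mp hc]), Finset.sum_singleton, inv_one,
      one_mul, mul_one, CT.extendByZero_mem _ _ (hHa hu)]
    exact hμH ⟨u, hHa hu⟩ hu
  have hout : ∀ g : MulAction.stabilizer G a, (g : G) ∉ H →
      θ g = (l g : ℂ) + conj (l g : ℂ) := by
    intro g hg
    obtain ⟨c, hca, hc⟩ := ZassNormal.exists_ne_fixed hK Z g.2 hg
    have hg1 : (g : G) ≠ 1 := fun e => hg (e ▸ H.one_mem)
    obtain ⟨v, -, hva, hvc, hinv⟩ := S.inverting a c hca.symm
    have hgs : (g : G) ∈ MulAction.stabilizer G a ⊓ MulAction.stabilizer G c :=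
      Subgroup.mem_inf.mpr ⟨g.2, hc⟩
    rw [hθ, ZassOdd.ind_linear_apply a l g (fun x => if x = a then 1 else v) {a, c}
      (fun d => ⟨fun h => by
          rcases Finset.mem_insert.mp h with rfl | h
          · exact g.2
          · rw [Finset.mem_singleton.mp h]; exact hc,
        fun h => by
          by_contra hd
          simp only [Finset.mem_insert, Finset.mem_singleton, not_or] at hd
          exact hg1 (Z.three g a c d hca.symm (Ne.symm hd.2) (Ne.symm hd.1) g.2 hc h)⟩)
      (fun d hd => by
          rcases Finset.mem_insert.mp hd with rfl | hd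
          · rw [if_pos rfl, one_smul]
          · rw [Finset.mem_singleton.mp hd, if_neg hca]; exact hva),
      Finset.sum_pair hca.symm, if_pos rfl, if_neg hca, inv_one, one_mul, mul_one,
      CT.extendByZero_coe]
    congr 1
    have h1 := hinv (g : G)⁻¹ (Subgroup.inv_mem _ hgs)
    rw [inv_inv] at h1
    have e : v⁻¹ * (g : G) * v = ((g⁻¹ : MulAction.stabilizer G a) : G) := by
      rw [InvMemClass.coe_inv]
      conv_lhs => rw [← h1]
      group
    rw [e, CT.extendByZero_coe, hconj, map_inv]
  have hsq : ∃ h0 : MulAction.stabilizer G a, (l h0 : ℂ) ^ 2 ≠ 1 := by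
    by_contra hcon
    push Not at hcon
    apply hμne
    funext h
    by_cases hh : (h : G) ∈ H
    · exact hμH h hh
    · obtain ⟨c, hca, hc⟩ := ZassNormal.exists_ne_fixed hK Z h.2 hh
      have hd := Subgroup.orderOf_dvd_natCard (MulAction.stabilizer G a ⊓ MulAction.stabilizer G c)
        (x := (h : G)) (Subgroup.mem_inf.mpr ⟨h.2, hc⟩)
      rw [S.stab_card a c hca.symm] at hd
      obtain ⟨m, hm⟩ := S.odd.of_dvd_nat hd
      have hp : (l h : ℂ) ^ orderOf h = 1 := by
        rw [← Units.val_pow_eq_pow_val, ← map_pow, pow_orderOf_eq_one, map_one, Units.val_one]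
      rw [← Subgroup.orderOf_coe, hm, pow_succ, pow_mul, hcon h, one_pow, one_mul] at hp
      exact hp
  have hsum0 : ∑ h : MulAction.stabilizer G a, (l h : ℂ) ^ 2 = 0 := by
    obtain ⟨h0, h0ne⟩ := hsq
    have key : (l h0 : ℂ) ^ 2 * ∑ h : MulAction.stabilizer G a, (l h : ℂ) ^ 2 =
        ∑ h : MulAction.stabilizer G a, (l h : ℂ) ^ 2 := by
      rw [Finset.mul_sum]
      refine Fintype.sum_equiv (Equiv.mulLeft h0) _ _ fun h => ?_
      rw [Equiv.coe_mulLeft, map_mul, Units.val_mul, mul_pow]
    by_contra hne
    exact h0ne (mul_eq_right₀ hne |>.mp key)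
  have hpt : ∀ h : MulAction.stabilizer G a, (l h : ℂ) * conj (θ h) =
      1 + (l h : ℂ) ^ 2 + ((if h = 1 then ((Nat.card H : ℕ) : ℂ) else 0) +
        if (h : G) ∈ H then -1 else 0) := by
    intro h
    rcases eq_or_ne h 1 with rfl | h1
    · rw [if_pos rfl, if_pos (by simp), map_one, Units.val_one, OneMemClass.coe_one, hone,
        Complex.conj_natCast, ← hHcard]
      push_cast
      ring
    · rw [if_neg h1]
      by_cases hh : (h : G) ∈ H
      · have e : (l h : ℂ) = 1 := hμH h hh
        rw [if_pos hh, hH h hh (fun e1 => h1 (Subtype.ext e1)), map_one, e]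
        ring
      · rw [if_neg hh, hout h hh, map_add, Complex.conj_conj, hconj h, mul_add,
          Units.mul_inv]
        ring
  have hcardH : ((Finset.univ.filter fun h : MulAction.stabilizer G a => (h : G) ∈ H).card) =
      Nat.card H := by
    rw [← Nat.card_congr (Subgroup.subgroupOfEquivOfLe hHa).toEquiv, Nat.card_eq_fintype_card]
    exact (Fintype.card_of_subtype _ fun x => by simp [Subgroup.mem_subgroupOf]).symm
  have hnorm : classInner θ θ = 1 := by
    rw [hθ, CT.frobenius_reciprocity _ _ (CT.isClassFunction_indFun _ _)]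
    unfold classInner
    rw [← hθ, Finset.sum_congr rfl (fun h _ => hpt h), Finset.sum_add_distrib,
      Finset.sum_add_distrib, Finset.sum_add_distrib, hsum0, Finset.sum_ite_eq',
      if_pos (Finset.mem_univ _), Finset.sum_ite, Finset.sum_const_zero, Finset.sum_const,
      Finset.sum_const, hcardH, Finset.card_univ, nsmul_eq_mul, nsmul_eq_mul, mul_one,
      ← Nat.card_eq_fintype_card]
    have : (Nat.card (MulAction.stabilizer G a) : ℂ) ≠ 0 := Nat.cast_ne_zero.mpr Nat.card_pos.ne'
    field_simp
    ring
  exact ⟨CT.isIrr_of_inner_self (CT.isCharacter_indFun _ hμc) hnorm, hH⟩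

end Cfsg.Agent.S0881
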