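import Cfsg.Statements.S0882
import Cfsg.Agent.Lib.ZassOddCount.Basic
-- import your own Cfsg.Agent.* helpers here

set_option autoImplicit false
open Cfsg

namespace Cfsg.Agent.S0882

/-- Let G be a finite simple Zassenhaus group on Ω with n = h + 1 points whose two-point stabilizer E has odd order e with 2e < h - 1. Then any two involutions of G are conjugate, and the number of involutions is e * (h + 1) if h is even and e * h if h is odd. -/
theorem result {G Ω : Type*} [Group G] [Finite G] [MulAction G Ω] [Fintype Ω] (hZ : Cfsg.IsZassenhausGroup G Ω) {a b : Ω} (hab : a ≠ b) [IsSimpleGroup G] (h e : ℕ) (hh : Fintype.card Ω = h + 1) (he : Nat.card ↥(MulAction.stabilizer G a ⊓ MulAction.stabilizer G b : Subgroup G) = e) (hodd : Odd e) (hlt : 2 * e < h - 1) : (∀ x y : G, orderOf x = 2 → orderOf y = 2 → IsConj x y) ∧ Nat.card {x : G // orderOf x = 2} = (if Even h then e * (h + 1) else e * h) := by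
  classical
  have S := ZassOdd.setup hZ hab he hodd
  haveI : Nontrivial Ω := ⟨a, b, hab⟩
  refine ⟨fun x y hx hy => ZassOdd.conj_involutions S x y hx hy, ?_⟩
  have h1 := ZassOdd.card_involutions S
  rw [hh] at h1
  rcases Nat.even_or_odd h with hev | hod
  · rw [if_pos hev]
    rw [if_neg (Nat.not_even_iff_odd.mpr hev.add_one), Nat.add_sub_cancel] at h1
    refine Nat.eq_of_mul_eq_mul_right (show 0 < h by omega) (h1.trans ?_)
    ring
  · rw [if_neg (Nat.not_even_iff_odd.mpr hod)]
    rw [if_pos hod.add_one, Nat.sub_zero, Nat.add_sub_cancel] at h1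
    refine Nat.eq_of_mul_eq_mul_right (show 0 < h + 1 by omega) (h1.trans ?_)
    ring

end Cfsg.Agent.S0882
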