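import Cfsg.Statements.S0884
import Cfsg.Agent.Lib.ZassOddCount.Counting
-- import your own Cfsg.Agent.* helpers here

set_option autoImplicit false
open Cfsg

namespace Cfsg.Agent.S0884

/-- Let G be a finite simple Zassenhaus group on Ω with h + 1 points whose two-point stabilizer E has odd order e with 2e < h - 1, and let H be the subgroup of the stabilizer of a consisting of the identity and the elements fixing no point other than a (given here as a subgroup of the stabilizer of order one less than the number of points whose non-identity elements fix only a; it is the Frobenius kernel of the stabilizer). Then at least e conjugacy classes of G contain no element of H. -/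
theorem result {G Ω : Type*} [Group G] [Finite G] [MulAction G Ω] [Fintype Ω] (hZ : Cfsg.IsZassenhausGroup G Ω) {a b : Ω} (hab : a ≠ b) [IsSimpleGroup G] (h e : ℕ) (hh : Fintype.card Ω = h + 1) (he : Nat.card ↥(MulAction.stabilizer G a ⊓ MulAction.stabilizer G b : Subgroup G) = e) (hodd : Odd e) (hlt : 2 * e < h - 1) (H : Subgroup G) (hHa : H ≤ MulAction.stabilizer G a) (hHcard : Nat.card H + 1 = Fintype.card Ω) (hHfix : ∀ u ∈ H, u ≠ 1 → ∀ c : Ω, u • c = c → c = a) : e ≤ Nat.card {C : ConjClasses G // ∀ g : G, ConjClasses.mk g = C → g ∉ H} := by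
  classical
  haveI := Fintype.ofFinite G
  have S := ZassOdd.setup hZ hab he hodd
  set A := (Finset.univ.filter fun g : G => ∀ c : Ω, g • c ≠ c).image ConjClasses.mk with hA
  set B := ((Finset.univ.filter fun g : G => g ∈ MulAction.stabilizer G a ⊓ MulAction.stabilizer G b).erase 1).image
    ConjClasses.mk with hB
  have h1 : e + 1 ≤ 2 * A.card := ZassOdd.fpf_classes S hab (by omega)
  have h2 : e ≤ 2 * B.card + 1 := ZassOdd.stab_classes S hab
  have hmemA : ∀ g : G, ConjClasses.mk g ∈ A → ∀ c : Ω, g • c ≠ c := by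
    intro g hg c hc
    obtain ⟨x, hx, hxg⟩ := Finset.mem_image.mp hg
    obtain ⟨t, ht⟩ := isConj_iff.mp (ConjClasses.mk_eq_mk_iff_isConj.mp hxg)
    refine (Finset.mem_filter.mp hx).2 (t⁻¹ • c) ?_
    rw [← ht, mul_smul, mul_smul] at hc
    exact eq_inv_smul_iff.mpr hc
  have hmemB : ∀ g : G, ConjClasses.mk g ∈ B → g ≠ 1 ∧ ∃ c d : Ω, c ≠ d ∧ g • c = c ∧ g • d = d := by
    intro g hg
    obtain ⟨x, hx, hxg⟩ := Finset.mem_image.mp hg
    obtain ⟨t, ht⟩ := isConj_iff.mp (ConjClasses.mk_eq_mk_iff_isConj.mp hxg)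
    obtain ⟨hx1, hx'⟩ := Finset.mem_erase.mp hx
    obtain ⟨hxa, hxb⟩ := Subgroup.mem_inf.mp (Finset.mem_filter.mp hx').2
    rw [MulAction.mem_stabilizer_iff] at hxa hxb
    refine ⟨fun h => hx1 ?_, t • a, t • b, fun h => hab (smul_left_cancel t h), ?_, ?_⟩
    · rw [h] at ht; exact conj_eq_one_iff.mp ht
    · rw [← ht, mul_smul, mul_smul, inv_smul_smul, hxa]
    · rw [← ht, mul_smul, mul_smul, inv_smul_smul, hxb]
  have hdisj : Disjoint A B := by
    rw [Finset.disjoint_left]
    intro C hCA hCB
    obtain ⟨g, rfl⟩ := ConjClasses.mk_surjective C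
    obtain ⟨-, c, -, -, hc, -⟩ := hmemB g hCB
    exact hmemA g hCA c hc
  have hsub : ∀ C ∈ A ∪ B, ∀ g : G, ConjClasses.mk g = C → g ∉ H := by
    rintro C hC g rfl hgH
    have hga : g • a = a := hHa hgH
    rcases Finset.mem_union.mp hC with h | h
    · exact hmemA g h a hga
    · obtain ⟨hg1, c, d, hcd, hc, hd⟩ := hmemB g h
      exact hcd ((hHfix g hgH hg1 c hc).trans (hHfix g hgH hg1 d hd).symm)
  have h3 : (A ∪ B).card ≤ Nat.card {C : ConjClasses G // ∀ g : G, ConjClasses.mk g = C → g ∉ H} := by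
    rw [Nat.card_eq_fintype_card, Fintype.card_subtype]
    exact Finset.card_le_card fun C hC => Finset.mem_filter.mpr ⟨Finset.mem_univ _, hsub C hC⟩
  rw [Finset.card_union_of_disjoint hdisj] at h3
  obtain ⟨j, rfl⟩ := hodd
  omega

end Cfsg.Agent.S0884
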