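import Cfsg.Statements.S0892
import Cfsg.Agent.Lib.AltCover.Bound

set_option autoImplicit false
open Cfsg

namespace Cfsg.Agent.S0892

/-- Let n ≥ 4 with n ≠ 6 and n ≠ 7, and let Γ be a finite group with a subgroup Z contained in both the centre and the commutator subgroup of Γ such that Γ / Z is isomorphic to the alternating group on n letters. Then Z has order at most 2. -/
theorem result (n : ℕ) (hn : 4 ≤ n) (h6 : n ≠ 6) (h7 : n ≠ 7) {Γ : Type*} [Group Γ] [Finite Γ] (Z : Subgroup Γ) [Z.Normal] (hZc : Z ≤ Subgroup.center Γ) (hZd : Z ≤ commutator Γ) (e : Γ ⧸ Z ≃* alternatingGroup (Fin n)) : Nat.card Z ≤ 2 := by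
  obtain ⟨m, rfl⟩ : ∃ m, n = m + 2 := ⟨n - 2, by omega⟩
  set π : Γ →* alternatingGroup (Fin (m + 2)) := e.toMonoidHom.comp (QuotientGroup.mk' Z) with hπdef
  have hπ : Function.Surjective π := e.surjective.comp (QuotientGroup.mk'_surjective Z)
  have hk : π.ker = Z := by
    rw [hπdef, ← MonoidHom.comap_ker, (MonoidHom.ker_eq_bot_iff _).mpr (MulEquiv.injective e), MonoidHom.comap_bot, QuotientGroup.ker_mk']
  have h : Nat.card π.ker ≤ 2 := by
    by_cases h2 : m = 2
    · subst h2
      exact Cfsg.Agent.AltCover.card_ker_le_two_four π hπ (hk.le.trans hZc) (hk.le.trans hZd)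
    · exact Cfsg.Agent.AltCover.card_ker_le_two (by omega) π hπ (hk.le.trans hZc) (hk.le.trans hZd)
  rwa [hk] at h

end Cfsg.Agent.S0892
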