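import Cfsg.Statements.S0898
import Cfsg.Agent.Lib.CT.FTDegreeBound
import Cfsg.Agent.Lib.CT.Kernel
-- import your own Cfsg.Agent.* helpers here

set_option autoImplicit false
open Cfsg
open scoped ComplexConjugate

namespace Cfsg.Agent.S0898

/-- Let H be an abelian subgroup of the finite group G meeting the centre of G trivially, such that for every non-central g the centralizer of g has nontrivial intersection with at most one conjugate of H. Let χ be an irreducible character of G with χ h ≠ χ 1 for some h in H, and let c be the inner product of the restriction of χ to H with the principal character. Then χ(1)² > (order of H)·c²; and if in addition χ 1 ≠ 1 and no proper normal subgroup of G contains H, then (1 + χ 1)² > order of H (both sides read as real numbers). -/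
theorem result {G : Type*} [Group G] [Fintype G] (H : Subgroup G) [Fintype H] (hab : ∀ a ∈ H, ∀ b ∈ H, a * b = b * a) (hZ : H ⊓ Subgroup.center G = ⊥) (hone : ∀ g : G, g ∉ Subgroup.center G → ∀ a b : G, Subgroup.centralizer ({g} : Set G) ⊓ H.map (MulAut.conj a).toMonoidHom ≠ ⊥ → Subgroup.centralizer ({g} : Set G) ⊓ H.map (MulAut.conj b).toMonoidHom ≠ ⊥ → H.map (MulAut.conj a).toMonoidHom = H.map (MulAut.conj b).toMonoidHom) (χ : G → ℂ) (hχ : Cfsg.IsIrrCharacter G χ) (hker : ∃ h ∈ H, χ h ≠ χ 1) : (χ 1).re ^ 2 > (Nat.card H : ℝ) * (Cfsg.classInner (fun h : H => χ h) (fun _ => 1)).re ^ 2 ∧ (χ 1 ≠ 1 → (∀ M : Subgroup G, M.Normal → H ≤ M → M = ⊤) → (1 + (χ 1).re) ^ 2 > (Nat.card H : ℝ)) := by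
  classical
  have hpart : ∀ ψ : G → ℂ, Cfsg.IsIrrCharacter G ψ → (∃ h ∈ H, ψ h ≠ ψ 1) →
      (Nat.card H : ℝ) * (Cfsg.classInner (fun h : H => ψ h) (fun _ => 1)).re ^ 2 < (ψ 1).re ^ 2 := by
    intro ψ hψ hk
    obtain ⟨d, ρ, hρ, rfl⟩ := hψ
    have h := CT.FTDegree.sq_degree_gt H ρ hab hZ hone hk
    obtain ⟨n, hn⟩ := CT.exists_degree (CT.isCharacter_character ρ)
    obtain ⟨m, hm⟩ := CT.classInner_character_nat
      (CT.isCharacter_restrict H (CT.isCharacter_character ρ)) (CT.isCharacter_one (G := H))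
    rw [hm, hn, Complex.normSq_natCast, Complex.normSq_natCast] at h
    rw [hm, hn, Complex.natCast_re, Complex.natCast_re, pow_two, pow_two]
    exact h
  refine ⟨hpart χ hχ hker, fun hne hgen => ?_⟩
  have hχc := CT.isCharacter_of_isIrr hχ
  obtain ⟨n, hn⟩ := CT.exists_degree hχc
  have hn2 : 2 ≤ n := by
    rcases n with _ | _ | n
    · exact absurd (hn.trans Nat.cast_zero) (CT.irr_one_ne_zero hχ)
    · exact absurd (hn.trans Nat.cast_one) hne
    · omega
  by_contra hcon
  rw [not_lt, hn, Complex.natCast_re] at hcon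
  set s := Real.sqrt (Nat.card H : ℝ) with hs
  have hs1 : 1 + (n : ℝ) ≤ s := Real.le_sqrt_of_sq_le hcon
  -- the restriction has no trivial constituent
  have hres := CT.isCharacter_restrict H hχc
  obtain ⟨c, hc⟩ := CT.classInner_character_nat hres (CT.isCharacter_one (G := H))
  have hc0 : c = 0 := by
    by_contra h0
    have h1 := hpart χ hχ hker
    rw [hc, hn, Complex.natCast_re, Complex.natCast_re] at h1
    have h2 : (1 : ℝ) ≤ (c : ℝ) ^ 2 := one_le_pow₀ (by exact_mod_cast Nat.one_le_iff_ne_zero.mpr h0)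
    nlinarith [(Nat.cast_nonneg (Nat.card H) : (0 : ℝ) ≤ Nat.card H), (Nat.cast_nonneg n : (0 : ℝ) ≤ n)]
  -- the product with the conjugate character
  set θ : G → ℂ := χ * fun g => conj (χ g) with hθdef
  have hθ : Cfsg.IsCharacter G θ := CT.isCharacter_mul hχc (CT.isCharacter_conj hχc)
  have hθ1 : θ 1 = ((n ^ 2 : ℕ) : ℂ) := by
    rw [hθdef, Pi.mul_apply, hn, map_natCast]
    push_cast
    ring
  obtain ⟨I, hI⟩ := CT.classInner_character_nat hres hres
  -- the norm of the restriction is at least the degree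
  have hIn : n ≤ I := by
    haveI : IsMulCommutative H := ⟨⟨fun a b => Subtype.ext (hab a a.2 b b.2)⟩⟩
    have hlin : ∀ l : Cfsg.IrrCharacter H, (l : H → ℂ) 1 = 1 := fun l => by
      obtain ⟨d, σ, hσ, hl⟩ := l.2
      rw [← hl, Representation.char_one,
        Representation.IsIrreducible.finrank_eq_one_of_isMulCommutative σ, Nat.cast_one]
    have hsq : classInner (fun h : H => χ h) (fun h : H => χ h) =
        ((∑ l : Cfsg.IrrCharacter H, CT.mult (fun h : H => χ h) l ^ 2 : ℕ) : ℂ) := by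
      conv_lhs => arg 2; rw [CT.character_eq_sum hres]
      rw [CT.classInner_sum_right, Nat.cast_sum]
      refine Finset.sum_congr rfl fun l _ => ?_
      rw [CT.classInner_smul_right, CT.mult_spec hres (CT.isCharacter_of_isIrr l.2), map_natCast]
      push_cast
      ring
    have hdeg : (n : ℂ) = ((∑ l : Cfsg.IrrCharacter H, CT.mult (fun h : H => χ h) l : ℕ) : ℂ) := by
      have h1 := congrFun (CT.character_eq_sum hres) 1
      simp only [OneMemClass.coe_one, Finset.sum_apply, Pi.smul_apply, smul_eq_mul, hlin, mul_one] at h1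
      rw [← hn, h1, Nat.cast_sum]
    have hIe : I = ∑ l : Cfsg.IrrCharacter H, CT.mult (fun h : H => χ h) l ^ 2 :=
      Nat.cast_injective (hI.symm.trans hsq)
    rw [hIe, Nat.cast_injective hdeg]
    exact Finset.sum_le_sum fun l _ => Nat.le_self_pow two_ne_zero _
  -- decompose
  let m : Cfsg.IrrCharacter G → ℕ := fun ψ => CT.mult θ ψ
  have hm1 : m (CT.trivIrr G) = 1 := by
    have h1 := CT.mult_spec hθ (CT.isCharacter_of_isIrr (CT.trivIrr G).2)
    have h2 : classInner θ (CT.trivIrr G : G → ℂ) = 1 := by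
      rw [← CT.irr_inner_self hχ]
      simp [classInner, θ, CT.trivIrr]
    exact Nat.cast_injective (R := ℂ) ((h1.symm.trans h2).trans Nat.cast_one.symm)
  have hd : ∀ ψ : Cfsg.IrrCharacter G, ∃ d : ℕ, (ψ : G → ℂ) 1 = d := fun ψ =>
    CT.exists_degree (CT.isCharacter_of_isIrr ψ.2)
  choose d hd using hd
  have he : ∀ ψ : Cfsg.IrrCharacter G, ∃ e : ℕ, classInner (fun h : H => (ψ : G → ℂ) h) (fun _ => 1) = e :=
    fun ψ => CT.classInner_character_nat
      (CT.isCharacter_restrict H (CT.isCharacter_of_isIrr ψ.2)) (CT.isCharacter_one (G := H))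
  choose e he using he
  have hsum1 : n ^ 2 = ∑ ψ : Cfsg.IrrCharacter G, m ψ * d ψ := by
    refine Nat.cast_injective (R := ℂ) ?_
    rw [← hθ1, congrFun (CT.character_eq_sum hθ) 1, Finset.sum_apply, Nat.cast_sum]
    exact Finset.sum_congr rfl fun ψ _ => by rw [Pi.smul_apply, smul_eq_mul, hd, Nat.cast_mul]
  have hsum2 : I = ∑ ψ : Cfsg.IrrCharacter G, m ψ * e ψ := by
    refine Nat.cast_injective (R := ℂ) ?_
    have h1 : classInner (fun h : H => θ h) (fun _ => 1) = (I : ℂ) := by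
      rw [← hI]; simp [classInner, θ]
    rw [← h1]
    conv_lhs => arg 1; rw [show (fun h : H => θ h) = ∑ ψ : Cfsg.IrrCharacter G,
      (m ψ : ℂ) • (fun h : H => (ψ : G → ℂ) h) from funext fun h => by
        rw [congrFun (CT.character_eq_sum hθ) (h : G)]
        simp [Finset.sum_apply, m]]
    rw [CT.classInner_sum_left, Nat.cast_sum]
    exact Finset.sum_congr rfl fun ψ _ => by rw [CT.classInner_smul_left, he, Nat.cast_mul]
  have hdt : d (CT.trivIrr G) = 1 := Nat.cast_injective (R := ℂ) ((hd _).symm.trans Nat.cast_one.symm)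
  have het : e (CT.trivIrr G) = 1 := Nat.cast_injective (R := ℂ) ((he _).symm.trans (by
    rw [Nat.cast_one]
    simp [classInner, CT.trivIrr]))
  rw [← Finset.add_sum_erase _ _ (Finset.mem_univ (CT.trivIrr G)), hm1, hdt, one_mul] at hsum1
  rw [← Finset.add_sum_erase _ _ (Finset.mem_univ (CT.trivIrr G)), hm1, het, one_mul] at hsum2
  set R := Finset.univ.erase (CT.trivIrr G) with hR
  have hlt : ∀ ψ ∈ R, s * (e ψ : ℝ) < d ψ := by
    intro ψ hψ
    have hk : ∃ h ∈ H, (ψ : G → ℂ) h ≠ (ψ : G → ℂ) 1 := by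
      by_contra hh
      push Not at hh
      have hψc := CT.isCharacter_of_isIrr ψ.2
      have hK : CT.kerChar (ψ : G → ℂ) = ⊤ := hgen _ ⟨fun g hg x => (CT.mem_kerChar_iff hψc).mpr (by
          rw [CT.isClassFunction_of_isCharacter hψc g x]; exact (CT.mem_kerChar_iff hψc).mp hg)⟩
        fun h hh' => (CT.mem_kerChar_iff hψc).mpr (hh h hh')
      have hconst : ∀ g, (ψ : G → ℂ) g = (ψ : G → ℂ) 1 := fun g =>
        (CT.mem_kerChar_iff hψc).mp (hK ▸ Subgroup.mem_top g)
      have h1 : classInner (ψ : G → ℂ) (CT.trivIrr G : G → ℂ) = 0 :=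
        CT.irr_inner_of_ne ψ.2 (CT.trivIrr G).2 fun e' => (Finset.mem_erase.mp hψ).1 (Subtype.ext e')
      simp [classInner, CT.trivIrr, hconst, CT.irr_one_ne_zero ψ.2] at h1
    have h := hpart ψ ψ.2 hk
    rw [he, hd, Complex.natCast_re, Complex.natCast_re] at h
    refine lt_of_pow_lt_pow_left₀ 2 (Nat.cast_nonneg _) ?_
    rw [mul_pow, hs, Real.sq_sqrt (Nat.cast_nonneg _)]
    exact h
  have hpos : ∃ ψ ∈ R, 0 < m ψ := by
    by_contra hh
    push Not at hh
    rw [Finset.sum_eq_zero fun ψ hψ => by rw [Nat.le_zero.mp (hh ψ hψ), zero_mul]] at hsum1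
    nlinarith
  obtain ⟨ψ₀, hψ₀, hmψ⟩ := hpos
  have hfin : s * ((∑ ψ ∈ R, m ψ * e ψ : ℕ) : ℝ) < ((∑ ψ ∈ R, m ψ * d ψ : ℕ) : ℝ) := by
    push_cast
    rw [Finset.mul_sum]
    refine Finset.sum_lt_sum (fun ψ hψ => ?_) ⟨ψ₀, hψ₀, ?_⟩
    · rw [mul_left_comm]; exact mul_le_mul_of_nonneg_left (hlt ψ hψ).le (Nat.cast_nonneg _)
    · rw [mul_left_comm]; exact mul_lt_mul_of_pos_left (hlt ψ₀ hψ₀) (by exact_mod_cast hmψ)
  have e1 : ((n : ℝ)) ^ 2 = 1 + ((∑ ψ ∈ R, m ψ * d ψ : ℕ) : ℝ) := by exact_mod_cast hsum1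
  have e2 : (I : ℝ) = 1 + ((∑ ψ ∈ R, m ψ * e ψ : ℕ) : ℝ) := by exact_mod_cast hsum2
  have e3 : (n : ℝ) ≤ (I : ℝ) := by exact_mod_cast hIn
  have e4 : (2 : ℝ) ≤ (n : ℝ) := by exact_mod_cast hn2
  nlinarith [mul_le_mul_of_nonneg_right hs1 (by linarith : (0 : ℝ) ≤ (n : ℝ) - 1),
    mul_le_mul_of_nonneg_left (by linarith : (n : ℝ) - 1 ≤ ((∑ ψ ∈ R, m ψ * e ψ : ℕ) : ℝ))
      (Real.sqrt_nonneg (Nat.card H : ℝ))]

end Cfsg.Agent.S0898
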