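import Cfsg.Statements.S0899
import Cfsg.Agent.Lib.CT.SmallDegreeCoprime
import Cfsg.Agent.S0185
import Cfsg.Agent.S0898
import Mathlib.GroupTheory.Transfer
-- import your own Cfsg.Agent.* helpers here

set_option autoImplicit false
open Cfsg

namespace Cfsg.Agent.S0899

universe u

open Subgroup

/-- Every Sylow `p`-subgroup is normal. -/
def AllNormal (p : ℕ) (K : Type u) [Group K] : Prop := ∀ Q : Sylow p K, (Q : Subgroup K).Normal

theorem allNormal_of_equiv {p : ℕ} {K L : Type u} [Group K] [Group L] [Finite K] [Finite L]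
    [Fact p.Prime] (e : K ≃* L) (h : AllNormal p L) : AllNormal p K := by
  intro Q
  have hn := h (Q.mapSurjective (f := e.toMonoidHom) e.surjective)
  have hc : ((Q : Subgroup K).map e.toMonoidHom).comap e.toMonoidHom = Q :=
    Subgroup.comap_map_eq_self_of_injective e.injective _
  have he : ((Q.mapSurjective (f := e.toMonoidHom) e.surjective : Sylow p L) : Subgroup L) =
      (Q : Subgroup K).map e.toMonoidHom := rfl
  rw [he] at hn
  rw [← hc]
  exact hn.comap _

theorem exists_greatest {p : ℕ} [Fact p.Prime] {G : Type u} [Group G] [Finite G] {K : Subgroup G}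
    (h : AllNormal p K) :
    ∃ R : Subgroup G, IsPGroup p R ∧ R ≤ K ∧ ∀ A : Subgroup G, A ≤ K → IsPGroup p A → A ≤ R := by
  obtain ⟨S⟩ : Nonempty (Sylow p K) := inferInstance
  refine ⟨(S : Subgroup K).map K.subtype, S.2.map _, Subgroup.map_subtype_le _, fun A hA hpA => ?_⟩
  obtain ⟨S', hS'⟩ := (hpA.comap_of_injective K.subtype K.subtype_injective).exists_le_sylow
  letI := S.unique_of_normal (h S)
  rw [Subsingleton.elim S' S] at hS'
  exact fun x hx => ⟨⟨x, hA hx⟩, hS' hx, rfl⟩

theorem key : ∀ (N : ℕ) (G : Type u) [Group G] [Finite G], Nat.card G = N → ∀ (n : ℕ)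
    (ρ : Representation ℂ G (Fin n → ℂ)), Function.Injective ρ → ∀ (p : ℕ) [Fact p.Prime],
    ((n + 1) ^ 2 ≤ p ∨ (n + 1 < p ∧ ∀ K : Subgroup G, ¬ p ^ 2 ∣ Nat.card K → AllNormal p K)) →
    AllNormal p G := by
  intro N
  induction N using Nat.strong_induction_on with
  | _ N ih =>
  intro G _ _ hN n ρ hρ p _ h P
  classical
  haveI := Fintype.ofFinite G
  have hp : p.Prime := Fact.out
  by_contra hnn
  have hnp : n + 1 < p := by
    rcases h with h | h
    · rcases Nat.eq_zero_or_pos n with rfl | hn
      · exact hp.one_lt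
      · nlinarith
    · exact h.1
  -- proper subgroups
  have hproper : ∀ K : Subgroup G, K ≠ ⊤ →
      ∃ R : Subgroup G, IsPGroup p R ∧ R ≤ K ∧ ∀ A : Subgroup G, A ≤ K → IsPGroup p A → A ≤ R := by
    intro K hK
    refine exists_greatest (ih (Nat.card K) ?_ K rfl n (ρ.comp K.subtype)
      (hρ.comp K.subtype_injective) p ?_)
    · rw [← hN]
      exact lt_of_le_of_ne (Subgroup.card_le_card_group K) fun e => hK (Subgroup.eq_top_of_card_eq K e)
    · rcases h with h | ⟨h1, h2⟩
      · exact Or.inl h
      · refine Or.inr ⟨h1, fun L hL => allNormal_of_equiv (L.equivMapOfInjective K.subtype K.subtype_injective) (h2 _ ?_)⟩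
        rwa [← Nat.card_congr (L.equivMapOfInjective K.subtype K.subtype_injective).toEquiv]
  -- a `p`-subgroup is commutative
  have hab : ∀ A : Subgroup G, IsPGroup p A → ∀ x ∈ A, ∀ y ∈ A, x * y = y * x := by
    intro A hA x hx y hy
    have h1 := S0185.result (ρ.comp A.subtype) (hρ.comp A.subtype_injective) (fun q hq hqd => by
      obtain ⟨k, hk⟩ := IsPGroup.iff_card.mp hA
      rw [hk] at hqd
      rw [(Nat.prime_dvd_prime_iff_eq hq hp).mp (hq.dvd_of_dvd_pow hqd), Module.finrank_fin_fun]
      omega) (⟨x, hx⟩ : A) ⟨y, hy⟩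
    exact congrArg Subtype.val h1
  have hP := P.isPGroup'
  have hconjP : ∀ x : G, IsPGroup p ((P : Subgroup G).map (MulAut.conj x).toMonoidHom) :=
    fun x => hP.map _
  -- the greatest `p`-subgroup of a proper normal subgroup is normal in the whole group
  have hgn : ∀ {K R : Subgroup G}, K.Normal → IsPGroup p R → R ≤ K →
      (∀ A : Subgroup G, A ≤ K → IsPGroup p A → A ≤ R) → R.Normal := by
    intro K R hKn hR hRK hmax
    refine ⟨fun y hy x => hmax (R.map (MulAut.conj x).toMonoidHom) ?_ (hR.map _)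
      ⟨y, hy, rfl⟩⟩
    rintro _ ⟨w, hw, rfl⟩
    exact hKn.conj_mem w (hRK hw) x
  have hnoM : ∀ M : Subgroup G, M.Normal → (P : Subgroup G) ≤ M → M = ⊤ := by
    intro M hMn hPM
    by_contra hM
    obtain ⟨R, hR, hRM, hmax⟩ := hproper M hM
    exact hnn (P.3 hR (hmax _ hPM hP) ▸ hgn hMn hR hRM hmax)
  have hncent : ¬ (P : Subgroup G) ≤ center G := fun hle => hnn ⟨fun y hy x => by
    rw [Subgroup.mem_center_iff.mp (hle hy) x, mul_inv_cancel_right]; exact hy⟩
  rcases eq_or_ne ((P : Subgroup G) ⊓ center G) ⊥ with hPZ | hPZ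
  · -- trivial intersection
    have hcard : (n + 1) ^ 2 ≤ Nat.card P := by
      obtain ⟨k, hk⟩ := IsPGroup.iff_card.mp hP
      have hk0 : k ≠ 0 := fun e => hncent (by
        rw [e, pow_zero] at hk
        rw [Subgroup.card_eq_one.mp hk]; exact bot_le)
      rcases h with h | ⟨-, h2⟩
      · rw [hk]; exact h.trans (Nat.le_self_pow hk0 p)
      · have hk2 : 2 ≤ k := by
          by_contra hk2
          refine hnn (allNormal_of_equiv Subgroup.topEquiv.symm (h2 ⊤ ?_) P)
          rw [Subgroup.card_top]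
          intro hd
          have h3 := P.card_eq_multiplicity
          have h4 := (Nat.Prime.pow_dvd_iff_le_factorization hp Nat.card_pos.ne').mp hd
          rw [hk] at h3
          have := Nat.pow_right_injective hp.two_le h3
          omega
        calc (n + 1) ^ 2 ≤ p ^ 2 := Nat.pow_le_pow_left hnp.le 2
          _ ≤ p ^ k := Nat.pow_le_pow_right hp.pos hk2
          _ = _ := hk.symm
    have hnz : ∀ (a : G), ∀ x ∈ (P : Subgroup G).map (MulAut.conj a).toMonoidHom, x ≠ 1 →
        x ∉ center G := by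
      rintro a _ ⟨y, hy, rfl⟩ hx hxc
      apply hx
      have hyc : y ∈ center G := by
        have := (Subgroup.center G).mul_mem hxc (Subgroup.one_mem _)
        rw [Subgroup.mem_center_iff] at hxc
        refine Subgroup.mem_center_iff.mpr fun g => ?_
        have h1 := hxc (a * g * a⁻¹)
        simp only [MulEquiv.coe_toMonoidHom, MulAut.conj_apply] at h1
        have h2 : a * (g * y) * a⁻¹ = a * (y * g) * a⁻¹ := by
          calc a * (g * y) * a⁻¹ = a * g * a⁻¹ * (a * y * a⁻¹) := by group
            _ = a * y * a⁻¹ * (a * g * a⁻¹) := h1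
            _ = a * (y * g) * a⁻¹ := by group
        exact mul_left_cancel (mul_right_cancel h2)
      have : y ∈ (P : Subgroup G) ⊓ center G := ⟨hy, hyc⟩
      rw [hPZ, Subgroup.mem_bot] at this
      rw [this, map_one]
    have hcz : ∀ x, x ∉ center G → centralizer ({x} : Set G) ≠ ⊤ := fun x hx e =>
      hx (Subgroup.mem_center_iff.mpr fun g =>
        Subgroup.mem_centralizer_singleton_iff.mp (e ▸ mem_top g))
    have hsylmax : ∀ (a : G) {R : Subgroup G}, IsPGroup p R →
        (P : Subgroup G).map (MulAut.conj a).toMonoidHom ≤ R →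
        R = (P : Subgroup G).map (MulAut.conj a).toMonoidHom := fun a R hR hle =>
      (P.mapSurjective (f := (MulAut.conj a).toMonoidHom) (MulAut.conj a).surjective).3 hR hle
    have hone : ∀ g : G, g ∉ center G → ∀ a b : G,
        centralizer ({g} : Set G) ⊓ (P : Subgroup G).map (MulAut.conj a).toMonoidHom ≠ ⊥ →
        centralizer ({g} : Set G) ⊓ (P : Subgroup G).map (MulAut.conj b).toMonoidHom ≠ ⊥ →
        (P : Subgroup G).map (MulAut.conj a).toMonoidHom =
          (P : Subgroup G).map (MulAut.conj b).toMonoidHom := by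
      intro g hg a b ha hb
      obtain ⟨R, hR, hRK, hmax⟩ := hproper _ (hcz g hg)
      have step : ∀ c : G,
          centralizer ({g} : Set G) ⊓ (P : Subgroup G).map (MulAut.conj c).toMonoidHom ≠ ⊥ →
          R ≠ ⊥ ∧ R ≤ (P : Subgroup G).map (MulAut.conj c).toMonoidHom := by
        intro c hc
        obtain ⟨x, hx, hx1⟩ := (Subgroup.ne_bot_iff_exists_ne_one.mp hc)
          |> fun ⟨x, hx⟩ => (⟨(x : G), x.2, fun e => hx (Subtype.ext e)⟩ :
            ∃ x, x ∈ centralizer ({g} : Set G) ⊓ (P : Subgroup G).map (MulAut.conj c).toMonoidHom ∧ x ≠ 1)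
        obtain ⟨hxg, hxP⟩ := Subgroup.mem_inf.mp hx
        have hxR : x ∈ R := by
          refine hmax (Subgroup.zpowers x) (Subgroup.zpowers_le.mpr hxg) ?_ (Subgroup.mem_zpowers x)
          exact (hconjP c).to_le (Subgroup.zpowers_le.mpr hxP)
        refine ⟨fun e => hx1 (Subgroup.mem_bot.mp (e ▸ hxR)), ?_⟩
        obtain ⟨R', hR', hR'K, hmax'⟩ := hproper _ (hcz x (hnz c x hxP hx1))
        rw [← hsylmax c hR' (hmax' _ (fun y hy =>
          Subgroup.mem_centralizer_singleton_iff.mpr (hab _ (hconjP c) y hy x hxP)) (hconjP c))]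
        exact hmax' R (fun y hy =>
          Subgroup.mem_centralizer_singleton_iff.mpr (hab R hR y hy x hxR)) hR
      obtain ⟨hR1, hRa⟩ := step a ha
      obtain ⟨-, hRb⟩ := step b hb
      obtain ⟨x, hx, hx1⟩ : ∃ x ∈ R, x ≠ 1 := by
        by_contra hcon
        push Not at hcon
        exact hR1 ((Subgroup.eq_bot_iff_forall R).mpr hcon)
      obtain ⟨R', hR', -, hmax'⟩ := hproper _ (hcz x (hnz a x (hRa hx) hx1))
      have e1 := hsylmax a hR' (hmax' _ (fun y hy =>
        Subgroup.mem_centralizer_singleton_iff.mpr (hab _ (hconjP a) y hy x (hRa hx))) (hconjP a))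
      have e2 := hsylmax b hR' (hmax' _ (fun y hy =>
        Subgroup.mem_centralizer_singleton_iff.mpr (hab _ (hconjP b) y hy x (hRb hx))) (hconjP b))
      rw [← e1, ← e2]
    obtain ⟨y, hy, g, hgy⟩ : ∃ y ∈ (P : Subgroup G), ∃ g : G, g * y ≠ y * g := by
      by_contra hcon
      push Not at hcon
      exact hncent fun y hy => Subgroup.mem_center_iff.mpr (hcon y hy)
    have hθ := CT.isCharacter_character ρ
    obtain ⟨χ, hm, hχc⟩ := CT.exists_constituent_not_ker hθ (c := g * y * g⁻¹ * y⁻¹) fun e => by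
      rw [← CT.rep_eq_one_iff ρ, ← map_one ρ] at e
      have e' := hρ e
      rw [mul_inv_eq_one, mul_inv_eq_iff_eq_mul] at e'
      exact hgy e'
    have hχy : (χ : G → ℂ) y ≠ (χ : G → ℂ) 1 := fun e => by
      obtain ⟨m, σ, hσ, hσχ⟩ := χ.2
      rw [← hσχ, ← CT.rep_eq_one_iff σ] at e
      apply hχc
      rw [← hσχ, ← CT.rep_eq_one_iff σ]
      have hy' : σ y⁻¹ = 1 := by
        have := congrArg (fun f => f * σ y⁻¹) e
        simp only [← map_mul, mul_inv_cancel, map_one, one_mul] at this
        exact this.symm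
      rw [map_mul, map_mul, map_mul, e, hy', mul_one, mul_one, ← map_mul, mul_inv_cancel, map_one]
    have hχ1 : (χ : G → ℂ) 1 ≠ 1 := fun e => hχc
      (CT.linear_trivial_on_commutator (CT.isCharacter_of_isIrr χ.2) e _ (by
        rw [commutator_def, ← commutatorElement_def]
        exact Subgroup.commutator_mem_commutator (mem_top g) (mem_top y)))
    have hdeg : CT.deg (χ : G → ℂ) ≤ n := by
      have h1 := CT.constituent_deg_le hθ χ
      have h2 : CT.deg ρ.character = n := by rw [CT.deg_eq_finrank, Module.finrank_fin_fun]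
      rw [h2] at h1
      exact le_trans (Nat.le_mul_of_pos_left _ (Nat.pos_of_ne_zero hm)) h1
    haveI : Fintype (P : Subgroup G) := Fintype.ofFinite _
    have hbound := (S0898.result (P : Subgroup G) (hab _ hP) hPZ hone χ χ.2 ⟨y, hy, hχy⟩).2 hχ1 hnoM
    rw [CT.deg_eq (CT.isCharacter_of_isIrr χ.2), Complex.natCast_re] at hbound
    have hb' : ((Nat.card P : ℕ) : ℝ) < (((CT.deg (χ : G → ℂ) + 1) ^ 2 : ℕ) : ℝ) := by
      push_cast
      linarith
    have hb := Nat.cast_lt.mp hb'
    have := Nat.pow_le_pow_left (show CT.deg (χ : G → ℂ) + 1 ≤ n + 1 by omega) 2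
    omega
  · -- a central element in the Sylow subgroup
    obtain ⟨⟨z, hzP, hzc⟩, hz1'⟩ := Subgroup.ne_bot_iff_exists_ne_one.mp hPZ
    have hz1 : z ≠ 1 := fun e => hz1' (Subtype.ext e)
    letI : CommGroup (P : Subgroup G) :=
      { (inferInstance : Group (P : Subgroup G)) with
        mul_comm := fun a b => Subtype.ext (hab _ hP a a.2 b b.2) }
    let v : G →* (P : Subgroup G) := MonoidHom.transfer (MonoidHom.id (P : Subgroup G))
    have key : ∀ (k : ℕ) (g₀ : G), g₀⁻¹ * z ^ k * g₀ ∈ (P : Subgroup G) →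
        g₀⁻¹ * z ^ k * g₀ = z ^ k := fun k g₀ _ => by
      rw [mul_assoc, ← Subgroup.mem_center_iff.mp ((center G).pow_mem hzc k) g₀,
        inv_mul_cancel_left]
    set M := v.ker with hM
    have hzM : z ∉ M := by
      intro hz
      have h1 : v z = 1 := hz
      have h2 : v z = ⟨z ^ (P : Subgroup G).index, MonoidHom.transfer_eq_pow_aux z key⟩ :=
        MonoidHom.transfer_eq_pow (MonoidHom.id (P : Subgroup G)) z key
      rw [h2] at h1
      have h3 : z ^ (P : Subgroup G).index = 1 := congrArg Subtype.val h1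
      obtain ⟨k, hk⟩ := hP ⟨z, hzP⟩
      have h4 : z ^ p ^ k = 1 := congrArg Subtype.val hk
      have h5 : orderOf z ∣ Nat.gcd (p ^ k) (P : Subgroup G).index :=
        Nat.dvd_gcd (orderOf_dvd_of_pow_eq_one h4) (orderOf_dvd_of_pow_eq_one h3)
      rw [(Nat.coprime_iff_gcd_eq_one).mp (Nat.Coprime.pow_left k
        ((Nat.Prime.coprime_iff_not_dvd hp).mpr P.not_dvd_index)), Nat.dvd_one, orderOf_eq_one_iff] at h5
      exact hz1 h5
    have hMtop : M ≠ ⊤ := fun e => hzM (e ▸ mem_top z)
    have hMn : M.Normal := MonoidHom.normal_ker v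
    have hMP : M ⊔ (P : Subgroup G) = ⊤ := by
      have h1 : (M ⊔ (P : Subgroup G)).index ∣ M.index := Subgroup.index_dvd_of_le le_sup_left
      have h2 : (M ⊔ (P : Subgroup G)).index ∣ (P : Subgroup G).index := Subgroup.index_dvd_of_le le_sup_right
      obtain ⟨k, hk⟩ := IsPGroup.iff_card.mp hP
      have h3 : M.index ∣ p ^ k := by
        rw [hM, Subgroup.index_ker, ← hk]
        exact Subgroup.card_subgroup_dvd_card _
      have h4 := Nat.dvd_gcd (h1.trans h3) h2
      rw [(Nat.coprime_iff_gcd_eq_one).mp (Nat.Coprime.pow_left k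
        ((Nat.Prime.coprime_iff_not_dvd hp).mpr P.not_dvd_index)), Nat.dvd_one, Subgroup.index_eq_one] at h4
      exact h4
    obtain ⟨R, hR, hRM, hmax⟩ := hproper M hMtop
    haveI hRn : R.Normal := hgn hMn hR hRM hmax
    have hRP : R ≤ (P : Subgroup G) := by
      obtain ⟨S, hS⟩ := hR.exists_le_sylow
      obtain ⟨x, hx⟩ := MulAction.exists_smul_eq G S P
      intro y hy
      have h1 : x⁻¹ * y * x ∈ R := by simpa using hRn.conj_mem y hy x⁻¹
      rw [← hx]
      exact ⟨x⁻¹ * y * x, hS h1, by show x * (x⁻¹ * y * x) * x⁻¹ = y; group⟩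
    have hRc : R ≤ center G := by
      have hC : centralizer (R : Set G) = ⊤ := hnoM _ inferInstance fun y hy =>
        Subgroup.mem_centralizer_iff.mpr fun r hr => hab _ hP r (hRP hr) y hy
      exact fun r hr => Subgroup.mem_center_iff.mpr fun g =>
        (Subgroup.mem_centralizer_iff.mp (hC ▸ mem_top g) r hr).symm
    obtain ⟨S⟩ : Nonempty (Sylow p M) := inferInstance
    have hSR : ∀ s ∈ (S : Subgroup M), (s : G) ∈ R := fun s hs =>
      hmax ((S : Subgroup M).map M.subtype) (Subgroup.map_subtype_le _) (S.2.map _) ⟨s, hs, rfl⟩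
    have hN : normalizer (S : Set M) ≤ centralizer (S : Set M) := fun m _ =>
      Subgroup.mem_centralizer_iff.mpr fun s hs => Subtype.ext
        (Subgroup.mem_center_iff.mp (hRc (hSR s hs)) (m : G)).symm
    let τ := MonoidHom.transferSylow S hN
    set M0 := τ.ker.map M.subtype with hM0
    have hM0p : ¬ p ∣ Nat.card M0 := by
      rw [hM0, Subgroup.card_map_of_injective M.subtype_injective]
      exact MonoidHom.not_dvd_card_ker_transferSylow S hN
    haveI hM0n : M0.Normal := by
      refine ⟨?_⟩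
      rintro _ ⟨y, hy, rfl⟩ x
      set y' : M := ⟨x * (y : G) * x⁻¹, hMn.conj_mem y y.2 x⟩ with hy'
      refine ⟨y', ?_, rfl⟩
      show τ y' = 1
      have hord : orderOf y' = orderOf y := by
        rw [← Subgroup.orderOf_coe, ← Subgroup.orderOf_coe y, hy']
        exact orderOf_injective (MulAut.conj x).toMonoidHom (MulAut.conj x).injective (y : G)
      have h1 : orderOf (τ y') ∣ orderOf y := hord ▸ orderOf_map_dvd τ y'
      obtain ⟨k, hk⟩ := S.2 (τ y')
      have h2 : orderOf y ∣ Nat.card τ.ker := by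
        have := orderOf_dvd_natCard (⟨y, hy⟩ : τ.ker)
        rwa [← Subgroup.orderOf_coe] at this
      have h5 := Nat.dvd_gcd (orderOf_dvd_of_pow_eq_one hk) (h1.trans h2)
      rw [(Nat.coprime_iff_gcd_eq_one).mp (Nat.Coprime.pow_left k
        ((Nat.Prime.coprime_iff_not_dvd hp).mpr (MonoidHom.not_dvd_card_ker_transferSylow S hN))),
        Nat.dvd_one, orderOf_eq_one_iff] at h5
      exact h5
    haveI : Fintype M0 := Fintype.ofFinite _
    have hfix : ∀ (k : ℕ) (x : G), x ∈ (P : Subgroup G) → orderOf x = k → ∀ m ∈ M0, x * m = m * x := by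
      intro k
      induction k using Nat.strong_induction_on with
      | _ k ihk =>
      intro x hx hk m hm
      rcases eq_or_ne x 1 with rfl | hx1
      · simp
      obtain ⟨j, hj⟩ := IsPGroup.iff_orderOf.mp hP ⟨x, hx⟩
      rw [Subgroup.orderOf_mk] at hj
      have hj0 : j ≠ 0 := fun e => hx1 (orderOf_eq_one_iff.mp (by rw [hj, e, pow_zero]))
      have hpd : p ∣ orderOf x := hj ▸ dvd_pow_self p hj0
      have hlt : orderOf (x ^ p) < k := by
        rw [orderOf_pow_of_dvd hp.ne_zero hpd, ← hk]
        exact Nat.div_lt_self (orderOf_pos x) hp.one_lt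
      have hp' := ihk _ hlt (x ^ p) ((P : Subgroup G).pow_mem hx p) rfl
      have hα : (MulAut.conjNormal x : MulAut M0) ^ p = 1 := by
        rw [← map_pow]
        refine MulEquiv.ext fun w => Subtype.ext ?_
        rw [MulAut.conjNormal_apply, hp' w w.2, mul_inv_cancel_right]
        rfl
      have h1 := CT.aut_eq_one_of_small_character p (Nat.card M0) M0 rfl hM0p (MulAut.conjNormal x) hα
        (fun w : M0 => ρ.character w) (CT.isCharacter_restrict M0 (CT.isCharacter_character ρ))
        (fun w => by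
          show ρ.character _ = ρ.character _
          rw [MulAut.conjNormal_apply]
          exact CT.isClassFunction_of_isCharacter (CT.isCharacter_character ρ) (w : G) x)
        (by
          have : CT.deg (fun w : M0 => ρ.character w) = n := by
            simp only [CT.deg, OneMemClass.coe_one]
            rw [Representation.char_one, Module.finrank_fin_fun, Complex.natCast_re, Nat.floor_natCast]
          omega)
        (fun w hw => Subtype.ext (hρ (by
          rw [OneMemClass.coe_one, map_one, CT.rep_eq_one_iff ρ]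
          exact hw)))
        ⟨m, hm⟩
      have h2 := congrArg Subtype.val h1
      rw [MulAut.conjNormal_apply, mul_inv_eq_iff_eq_mul] at h2
      exact h2
    refine hncent fun x hx => Subgroup.mem_center_iff.mpr fun g => ?_
    have hle : M ≤ centralizer ({x} : Set G) := by
      intro m hm
      have htop : (⟨m, hm⟩ : M) ∈ τ.ker ⊔ (S : Subgroup M) := by
        rw [(MonoidHom.ker_transferSylow_isComplement' S hN).sup_eq_top]; exact mem_top _
      obtain ⟨u, hu, s, hs, hus⟩ := Subgroup.mem_sup_of_normal_left.mp htop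
      refine Subgroup.mem_centralizer_singleton_iff.mpr ?_
      have e : m = (u : G) * (s : G) := (congrArg Subtype.val hus).symm
      have h1 := hfix _ x hx rfl (u : G) ⟨u, hu, rfl⟩
      have h2 := Subgroup.mem_center_iff.mp (hRc (hSR s hs)) x
      rw [e, mul_assoc, ← h2, ← mul_assoc, ← h1, mul_assoc]
    have htop : (⊤ : Subgroup G) ≤ centralizer ({x} : Set G) := hMP ▸ sup_le hle fun y hy =>
      Subgroup.mem_centralizer_singleton_iff.mpr (hab _ hP y hy x hx)
    exact Subgroup.mem_centralizer_singleton_iff.mp (htop (mem_top g))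


/-- Let G be a finite group with a faithful complex representation of degree n (on Fin n → ℂ) and p a prime. Suppose either that (n + 1) ^ 2 ≤ p, or that n + 1 < p and every subgroup of G whose order is not divisible by p ^ 2 has a normal Sylow p-subgroup. Then every Sylow p-subgroup of G is normal. -/
theorem result {G : Type*} [Group G] [Finite G] (n : ℕ) (ρ : Representation ℂ G (Fin n → ℂ)) (hρ : Function.Injective ρ) (p : ℕ) [Fact p.Prime] (h : (n + 1) ^ 2 ≤ p ∨ (n + 1 < p ∧ ∀ K : Subgroup G, ¬ p ^ 2 ∣ Nat.card K → ∀ Q : Sylow p K, (Q : Subgroup K).Normal)) (P : Sylow p G) : (P : Subgroup G).Normal := by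
  exact key (Nat.card G) G rfl n ρ hρ p h P

end Cfsg.Agent.S0899
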