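import Cfsg.Statements.S0901
import Cfsg.Agent.Lib.Blocks.LocalRing
import Mathlib.RingTheory.RootsOfUnity.Complex
import Mathlib.RingTheory.RootsOfUnity.PrimitiveRoots
import Mathlib.RingTheory.Adjoin.FG
import Mathlib.Algebra.Field.ZMod
import Mathlib.RingTheory.IntegralClosure.IsIntegralClosure.Basic
import Mathlib.Algebra.Algebra.ZMod
import Mathlib.RingTheory.RootsOfUnity.Minpoly
-- import your own Cfsg.Agent.* helpers here

set_option autoImplicit false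
open Cfsg

namespace Cfsg.Agent.S0901

/-- Let M be a maximal ideal of the ring of algebraic integers containing the prime p, and let U be the set of complex roots of unity of order prime to p. Then reduction modulo M is injective on U, and every algebraic integer not in M is congruent modulo M to an element of U (so U maps bijectively onto the nonzero residues). -/
theorem result (p : ℕ) [Fact p.Prime] (M : Ideal Cfsg.AlgInt) (hM : Cfsg.IsPModular p M) : (∀ ε₁ ε₂ : Cfsg.AlgInt, (∃ m : ℕ, ¬ p ∣ m ∧ (ε₁ : ℂ) ^ m = 1) → (∃ m : ℕ, ¬ p ∣ m ∧ (ε₂ : ℂ) ^ m = 1) → ε₁ - ε₂ ∈ M → ε₁ = ε₂) ∧ (∀ a : Cfsg.AlgInt, a ∉ M → ∃ ε : Cfsg.AlgInt, (∃ m : ℕ, ¬ p ∣ m ∧ (ε : ℂ) ^ m = 1) ∧ a - ε ∈ M) := by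
  haveI := hM.2.1.isPrime
  haveI := Cfsg.Agent.Blocks.charP_res hM
  letI : Algebra (ZMod p) (Cfsg.Agent.Blocks.Res M) := ZMod.algebra _ p
  let φ : Cfsg.AlgInt →+* Cfsg.Agent.Blocks.Res M :=
    (Cfsg.Agent.Blocks.red M).comp (Cfsg.Agent.Blocks.toLoc M)
  have hφ : ∀ a : Cfsg.AlgInt, φ a = 0 ↔ a ∈ M := fun a =>
    (Cfsg.Agent.Blocks.red_eq_zero_iff (z := Cfsg.Agent.Blocks.toLoc M a)).trans
      Cfsg.Agent.Blocks.memLocalIdeal_coe_iff
  have hsucc : ∀ (ε : Cfsg.AlgInt) (m : ℕ), ¬ p ∣ m → (ε : ℂ) ^ m = 1 → φ ε = 1 → ε = 1 := by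
    intro ε m hm h1 h2
    by_contra hne
    have h3 : ε ^ m = 1 := Subtype.ext (by simpa using h1)
    have h4 := geom_sum_mul ε m
    rw [h3, sub_self] at h4
    have h5 := congrArg φ ((mul_eq_zero.mp h4).resolve_right (sub_ne_zero.mpr hne))
    simp only [map_sum, map_pow, h2, one_pow, Finset.sum_const, Finset.card_range, nsmul_eq_mul,
      mul_one, map_zero] at h5
    exact hm ((CharP.cast_eq_zero_iff _ p m).mp h5)
  have hp : p.Prime := Fact.out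
  have hinj : ∀ ε₁ ε₂ : Cfsg.AlgInt, (∃ m : ℕ, ¬ p ∣ m ∧ (ε₁ : ℂ) ^ m = 1) →
      (∃ m : ℕ, ¬ p ∣ m ∧ (ε₂ : ℂ) ^ m = 1) → φ ε₁ = φ ε₂ → ε₁ = ε₂ := by
    rintro ε₁ ε₂ ⟨m₁, hm₁, h₁⟩ ⟨m₂, hm₂, h₂⟩ he
    have h₂' : ε₂ ^ m₂ = 1 := Subtype.ext (by simpa using h₂)
    have h₁' : ε₁ ^ m₁ = 1 := Subtype.ext (by simpa using h₁)
    have hm₂0 : m₂ ≠ 0 := fun e => hm₂ (e ▸ dvd_zero p)
    obtain ⟨k, hk⟩ : ∃ k, m₂ = k + 1 := ⟨m₂ - 1, by omega⟩
    have hinv : ε₂ ^ k * ε₂ = 1 := by rw [← pow_succ, ← hk, h₂']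
    have hkey : ε₂ ^ k * ε₁ = 1 := by
      refine hsucc _ (m₂ * m₁) (fun h => (hp.dvd_mul.mp h).elim hm₂ hm₁) ?_ ?_
      · have : (ε₂ ^ k * ε₁) ^ (m₂ * m₁) = 1 := by
          rw [mul_pow, ← pow_mul, show k * (m₂ * m₁) = m₂ * (k * m₁) by ring, pow_mul, h₂',
            one_pow, one_mul, mul_comm m₂, pow_mul, h₁', one_pow]
        have := congrArg (fun x : Cfsg.AlgInt => (x : ℂ)) this
        simpa using this
      · rw [map_mul, he, ← map_mul, hinv, map_one]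
    calc ε₁ = ε₁ * (ε₂ ^ k * ε₂) := by rw [hinv, mul_one]
      _ = ε₂ ^ k * ε₁ * ε₂ := by ring
      _ = ε₂ := by rw [hkey, one_mul]
  refine ⟨fun ε₁ ε₂ h₁ h₂ hd => hinj ε₁ ε₂ h₁ h₂ (sub_eq_zero.mp ?_), fun a ha => ?_⟩
  · rw [← map_sub]; exact (hφ _).mpr hd
  · have h0 : φ a ≠ 0 := fun h => ha ((hφ a).mp h)
    have hintA : IsIntegral ℤ a := isIntegral_algebraMap_iff (A := Cfsg.AlgInt) (B := ℂ)
      Subtype.val_injective |>.mp a.2
    have hint : IsIntegral (ZMod p) (φ a) := (map_isIntegral_int φ hintA).tower_top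
    haveI : Module.Finite (ZMod p) (Algebra.adjoin (ZMod p) {φ a}) :=
      Algebra.finite_adjoin_simple_of_isIntegral hint
    haveI : Finite (Algebra.adjoin (ZMod p) {φ a}) := Module.finite_of_finite (ZMod p)
    let x : Algebra.adjoin (ZMod p) {φ a} := ⟨φ a, Algebra.subset_adjoin rfl⟩
    obtain ⟨i, j, hij, he⟩ := Finite.exists_ne_map_eq_of_infinite (fun n : ℕ => x ^ n)
    have he' : φ a ^ i = φ a ^ j := by simpa [x] using congrArg Subtype.val he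
    obtain ⟨n, hn, hn1⟩ : ∃ n, 0 < n ∧ φ a ^ n = 1 := by
      rcases Nat.lt_or_gt_of_ne hij with h | h
      · refine ⟨j - i, by omega, mul_left_cancel₀ (pow_ne_zero i h0) ?_⟩
        rw [mul_one, ← pow_add, Nat.add_sub_cancel' h.le, he']
      · refine ⟨i - j, by omega, mul_left_cancel₀ (pow_ne_zero j h0) ?_⟩
        rw [mul_one, ← pow_add, Nat.add_sub_cancel' h.le, he']
    obtain ⟨r, m, hm, rfl⟩ := Nat.exists_eq_pow_mul_and_not_dvd hn.ne' p hp.ne_one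
    have hm1 : φ a ^ m = 1 := by
      have : (φ a ^ m - 1) ^ p ^ r = 0 := by
        rw [sub_pow_char_pow, ← pow_mul, one_pow, mul_comm m, hn1, sub_self]
      exact sub_eq_zero.mp (eq_zero_of_pow_eq_zero this)
    have hm0 : m ≠ 0 := fun e => hm (e ▸ dvd_zero p)
    obtain ⟨ζ, hζ⟩ : ∃ ζ : ℂ, IsPrimitiveRoot ζ m := ⟨_, Complex.isPrimitiveRoot_exp m hm0⟩
    let z : Cfsg.AlgInt := ⟨ζ, hζ.isIntegral (Nat.pos_of_ne_zero hm0)⟩
    have hzk : ∀ k : ℕ, ((z ^ k : Cfsg.AlgInt) : ℂ) ^ m = 1 := fun k => by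
      show (((z ^ k : Cfsg.AlgInt)) : ℂ) ^ m = 1
      rw [SubmonoidClass.coe_pow, ← pow_mul, mul_comm, pow_mul, hζ.pow_eq_one, one_pow]
    have hprim : IsPrimitiveRoot (φ z) m := by
      refine IsPrimitiveRoot.mk_of_lt _ (Nat.pos_of_ne_zero hm0) ?_ fun l hl hlm hc => ?_
      · rw [← map_pow, show z ^ m = 1 from Subtype.ext (by simpa [z] using hζ.pow_eq_one), map_one]
      · rw [← map_pow, ← map_one φ] at hc
        have := hinj _ _ ⟨m, hm, hzk l⟩ ⟨m, hm, by simp⟩ hc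
        exact hζ.pow_ne_one_of_pos_of_lt hl.ne' hlm
          (by simpa [z] using congrArg (fun t : Cfsg.AlgInt => (t : ℂ)) this)
    haveI : NeZero m := ⟨hm0⟩
    obtain ⟨l, _, hl⟩ := hprim.eq_pow_of_pow_eq_one hm1
    refine ⟨z ^ l, ⟨m, hm, hzk l⟩, (hφ _).mp ?_⟩
    rw [map_sub, map_pow, hl, sub_self]

end Cfsg.Agent.S0901
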