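import Cfsg.Statements.S0903
import Cfsg.Agent.Lib.Blocks.Brauer
import Cfsg.Agent.Lib.Blocks.CentralChar
import Mathlib.Data.ZMod.Basic
import Mathlib.Algebra.CharP.Basic
-- import your own Cfsg.Agent.* helpers here

set_option autoImplicit false
open Cfsg

namespace Cfsg.Agent.S0903

/-- Let P be a p-subgroup of the finite group G, let c centralize P and let g, h ∈ G. The number of pairs (x, y) with x conjugate to g, y conjugate to h and x * y = c is congruent modulo p to the number of such pairs in which x and y both centralize P. (This is why the Brauer map on class sums is multiplicative.) -/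
theorem result {G : Type*} [Group G] [Finite G] (p : ℕ) [Fact p.Prime] (P : Subgroup G) (hP : IsPGroup p P) (c : G) (hc : c ∈ Subgroup.centralizer (P : Set G)) (g h : G) : Nat.card {xy : G × G // IsConj g xy.1 ∧ IsConj h xy.2 ∧ xy.1 * xy.2 = c} ≡ Nat.card {xy : G × G // IsConj g xy.1 ∧ IsConj h xy.2 ∧ xy.1 * xy.2 = c ∧ xy.1 ∈ Subgroup.centralizer (P : Set G) ∧ xy.2 ∈ Subgroup.centralizer (P : Set G)} [MOD p] := by
  classical
  haveI := Fintype.ofFinite G
  have hcount : ∀ S T : Set G,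
      (Cfsg.Agent.Blocks.ofFun (fun u => if u ∈ S then (1 : ZMod p) else 0) *
        Cfsg.Agent.Blocks.ofFun (fun u => if u ∈ T then (1 : ZMod p) else 0)).coeff c =
      (Nat.card {xy : G × G // xy.1 ∈ S ∧ xy.2 ∈ T ∧ xy.1 * xy.2 = c} : ZMod p) := by
    intro S T
    let e : {xy : G × G // xy.1 ∈ S ∧ xy.2 ∈ T ∧ xy.1 * xy.2 = c} ≃
        {u : G // u ∈ S ∧ u⁻¹ * c ∈ T} :=
      { toFun := fun x => ⟨x.1.1, x.2.1, by
          have e : x.1.1⁻¹ * c = x.1.2 := inv_mul_eq_iff_eq_mul.mpr x.2.2.2.symm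
          rw [e]; exact x.2.2.1⟩
        invFun := fun u => ⟨(u.1, u.1⁻¹ * c), u.2.1, u.2.2, mul_inv_cancel_left _ _⟩
        left_inv := fun x => Subtype.ext (Prod.ext rfl (by
          show x.1.1⁻¹ * c = x.1.2
          exact inv_mul_eq_iff_eq_mul.mpr x.2.2.2.symm))
        right_inv := fun u => rfl }
    rw [Nat.card_congr e, Nat.card_eq_fintype_card, Fintype.card_subtype, Finset.card_filter,
      Nat.cast_sum, Cfsg.Agent.Blocks.coeff_mul_sum]
    refine Finset.sum_congr rfl fun u _ => ?_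
    by_cases h1 : u ∈ S <;> by_cases h2 : u⁻¹ * c ∈ T <;> simp [h1, h2]
  have hinv : ∀ x : G, Cfsg.Agent.Blocks.IsInv P
      (Cfsg.Agent.Blocks.ofFun (fun u => if u ∈ {y | IsConj x y} then (1 : ZMod p) else 0)) := by
    intro x q _ u
    simp only [Cfsg.Agent.Blocks.coeff_ofFun, Set.mem_ofPred_eq]
    have hu : IsConj u (q * u * q⁻¹) := isConj_iff.mpr ⟨q, rfl⟩
    exact if_congr ⟨fun h => h.trans hu.symm, fun h => h.trans hu⟩ rfl rfl
  have htr : ∀ x : G, Cfsg.Agent.Blocks.trunc (Subgroup.centralizer (P : Set G) : Set G)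
      (Cfsg.Agent.Blocks.ofFun (fun u => if u ∈ {y | IsConj x y} then (1 : ZMod p) else 0)) =
      Cfsg.Agent.Blocks.ofFun (fun u => if u ∈ {y | IsConj x y} ∩
        (Subgroup.centralizer (P : Set G) : Set G) then (1 : ZMod p) else 0) := by
    intro x
    ext u
    by_cases hu : u ∈ (Subgroup.centralizer (P : Set G) : Set G)
    · rw [Cfsg.Agent.Blocks.coeff_trunc_of_mem _ hu]
      simp only [Cfsg.Agent.Blocks.coeff_ofFun, Set.mem_inter_iff, hu, and_true]
    · rw [Cfsg.Agent.Blocks.coeff_trunc_of_notMem _ hu, Cfsg.Agent.Blocks.coeff_ofFun,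
        if_neg fun h => hu h.2]
  have key := congrArg (fun a : MonoidAlgebra (ZMod p) G => a.coeff c)
    (Cfsg.Agent.Blocks.trunc_mul hP (hinv g) (hinv h))
  simp only [htr] at key
  rw [Cfsg.Agent.Blocks.coeff_trunc_of_mem _ hc, hcount {y | IsConj g y} {y | IsConj h y}] at key
  rw [← ZMod.natCast_eq_natCast_iff]
  refine key.trans (Eq.trans (b := (Nat.card {xy : G × G //
      xy.1 ∈ {y | IsConj g y} ∩ (Subgroup.centralizer (P : Set G) : Set G) ∧
      xy.2 ∈ {y | IsConj h y} ∩ (Subgroup.centralizer (P : Set G) : Set G) ∧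
      xy.1 * xy.2 = c} : ZMod p)) ?_
    (congrArg _ (Nat.card_congr (Equiv.subtypeEquivRight fun x => ?_))))
  · convert hcount ({y | IsConj g y} ∩ (Subgroup.centralizer (P : Set G) : Set G))
      ({y | IsConj h y} ∩ (Subgroup.centralizer (P : Set G) : Set G)) <;> rfl
  simp only [Set.mem_inter_iff, Set.mem_ofPred_eq, SetLike.mem_coe]
  constructor
  · rintro ⟨⟨a, a'⟩, ⟨b, b'⟩, e⟩; exact ⟨a, b, e, a', b'⟩
  · rintro ⟨a, b, e, a', b'⟩; exact ⟨⟨a, a'⟩, ⟨b, b'⟩, e⟩

end Cfsg.Agent.S0903
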