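import Cfsg.Statements.S0905
import Cfsg.Agent.Lib.Blocks.Knorr
import Cfsg.Agent.Lib.Blocks.Subgroup
import Cfsg.Agent.Lib.Basics.Cores
-- import your own Cfsg.Agent.* helpers here

set_option autoImplicit false
open Cfsg

namespace Cfsg.Agent.S0905

/-- Let F be a field of characteristic p and let g be an element of the finite group G no conjugate of which centralizes O_p(G). Then the class sum of g is a nilpotent element of the group algebra F[G]. -/
theorem result {G : Type*} [Group G] [Finite G] (p : ℕ) [Fact p.Prime] (F : Type*) [Field F] [CharP F p] (g : G) (hg : ∀ x : G, IsConj g x → x ∉ Subgroup.centralizer (Cfsg.pCore p G : Set G)) : IsNilpotent (∑ᶠ x ∈ ConjClasses.carrier (ConjClasses.mk g), MonoidAlgebra.single x (1 : F) : MonoidAlgebra F G) := by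
  classical
  obtain ⟨M, hM⟩ := Cfsg.Agent.Blocks.exists_isPModular (Fact.out : p.Prime)
  haveI := hM.2.1.isPrime
  haveI := Cfsg.Agent.Blocks.charP_res hM
  haveI : (Cfsg.pCore p G).Normal := Cfsg.Agent.Basics.pCore_normal p
  letI : Fintype G := Fintype.ofFinite G
  have h1 : IsNilpotent (Cfsg.Agent.Blocks.classSumZ (Cfsg.Agent.Blocks.Res M) g) :=
    Cfsg.Agent.Blocks.isNilpotent_of_omegaBar hM _ fun χ =>
      Cfsg.Agent.Blocks.omegaBar_eq_zero_of_br hM (Cfsg.Agent.Basics.pCore_isPGroup p) χ (by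
        rw [Cfsg.Agent.Blocks.br_apply, Cfsg.Agent.Blocks.trunc_eq_zero_iff]
        intro u hu
        simp only [Cfsg.Agent.Blocks.coe_classSumZ, Cfsg.Agent.Blocks.classSum,
          Cfsg.Agent.Blocks.coeff_ofFun]
        exact Cfsg.Agent.Blocks.classInd_neg fun h => hg u h hu)
  have h2 : IsNilpotent (Cfsg.Agent.Blocks.classSum (Cfsg.Agent.Blocks.Res M) g) :=
    h1.map (Subring.subtype _)
  let φ := ZMod.castHom (dvd_refl p) (Cfsg.Agent.Blocks.Res M)
  have hinj : Function.Injective (MonoidAlgebra.mapRingHom G φ) := fun a b h => by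
    ext u
    have := congrArg (fun x => x.coeff u) h
    simp only [Cfsg.Agent.Blocks.coeff_map'] at this
    exact φ.injective this
  have h3 : IsNilpotent (Cfsg.Agent.Blocks.classSum (ZMod p) g) := by
    obtain ⟨n, hn⟩ := h2
    exact ⟨n, hinj (by rw [map_pow, Cfsg.Agent.Blocks.map_classSum, hn, map_zero])⟩
  have h4 := h3.map (MonoidAlgebra.mapRingHom G (ZMod.castHom (dvd_refl p) F))
  rw [Cfsg.Agent.Blocks.map_classSum] at h4
  convert h4 using 1
  rw [finsum_mem_eq_toFinset_sum]
  ext u
  simp only [MonoidAlgebra.coeff_sum, Finset.sum_apply', MonoidAlgebra.coeff_single,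
    Finsupp.single_apply, Finset.sum_ite_eq', Set.mem_toFinset, Cfsg.Agent.Blocks.classSum,
    Cfsg.Agent.Blocks.coeff_ofFun, ConjClasses.mem_carrier_iff_mk_eq, ConjClasses.mk_eq_mk_iff_isConj]
  by_cases hu : IsConj g u
  · rw [if_pos hu.symm, Cfsg.Agent.Blocks.classInd_pos hu]
  · rw [if_neg fun h => hu h.symm, Cfsg.Agent.Blocks.classInd_neg hu]

end Cfsg.Agent.S0905
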