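import Cfsg.Statements.S0910
import Cfsg.Agent.Lib.Blocks.Knorr
import Cfsg.Agent.Lib.CT.Kernel
-- import your own Cfsg.Agent.* helpers here

set_option autoImplicit false
open Cfsg

namespace Cfsg.Agent.S0910

/-- Let G be a non-abelian finite simple group and p a prime. If an irreducible character χ lies in the principal block (relative to a maximal ideal of the algebraic integers containing p) and χ 1 is a power of p, then χ is the principal character. -/
theorem result {G : Type*} [Group G] [Finite G] (p : ℕ) [Fact p.Prime] (M : Ideal Cfsg.AlgInt) (hM : Cfsg.IsPModular p M) [IsSimpleGroup G] (hna : ∃ a b : G, a * b ≠ b * a) (χ : Cfsg.IrrCharacter G) (hχ : χ ∈ Cfsg.principalBlock M G) (k : ℕ) (hdeg : (χ : G → ℂ) 1 = (p : ℂ) ^ k) : (χ : G → ℂ) = fun _ => 1 := by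
  classical
  haveI := hM.2.1.isPrime
  letI := Fintype.ofFinite G
  have hp : p.Prime := Fact.out
  have hcen : Subgroup.center G ≠ ⊤ := fun h => by
    obtain ⟨a, b, hab⟩ := hna
    exact hab (Subgroup.mem_center_iff.mp (h ▸ Subgroup.mem_top b) a)
  have hdeg' : Cfsg.charDegree (χ : G → ℂ) = p ^ k := by
    have := Cfsg.Agent.Blocks.charDegree_cast χ
    rw [hdeg] at this
    exact_mod_cast this.symm
  rcases Nat.eq_zero_or_pos k with rfl | hk
  · have h1 : (χ : G → ℂ) 1 = 1 := by rw [hdeg, pow_zero]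
    have hc : commutator G = ⊤ := ((inferInstance : (commutator G).Normal).eq_bot_or_eq_top).resolve_left
      fun hb => by
        obtain ⟨a, b, hab⟩ := hna
        rw [commutator_def, Subgroup.commutator_eq_bot_iff_le_centralizer] at hb
        exact hab ((Subgroup.mem_centralizer_iff.mp (hb (Subgroup.mem_top a)) b (Subgroup.mem_top b)).symm)
    funext g
    rw [Cfsg.Agent.CT.linear_trivial_on_commutator (Cfsg.Agent.CT.isCharacter_of_isIrr χ.2) h1 g
      (hc ▸ Subgroup.mem_top g), h1]
  exfalso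
  have hdvd : p ∣ Nat.card G :=
    (dvd_pow_self p hk.ne').trans (hdeg' ▸ Cfsg.Agent.Blocks.charDegree_dvd_card χ)
  let P : Sylow p G := default
  haveI : Nontrivial P := (Subgroup.nontrivial_iff_ne_bot _).mpr (P.ne_bot_of_dvd_card hdvd)
  haveI : Nontrivial (Subgroup.center P) := P.isPGroup'.center_nontrivial
  obtain ⟨⟨⟨z, hzP⟩, hz⟩, hz1⟩ := exists_ne (1 : Subgroup.center P)
  have hz1' : z ≠ 1 := fun h => hz1 (Subtype.ext (Subtype.ext h))
  have hPC : (P : Subgroup G) ≤ Subgroup.centralizer ({z} : Set G) := fun w hw =>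
    Subgroup.mem_centralizer_singleton_iff.mpr (congrArg Subtype.val (Subgroup.mem_center_iff.mp hz ⟨w, hw⟩))
  have hidx : ¬ p ∣ (Subgroup.centralizer ({z} : Set G)).index := fun h =>
    P.not_dvd_index (h.trans (Subgroup.index_dvd_of_le hPC))
  have hω : ¬ Cfsg.MemLocalIdeal M (Cfsg.centralChar (χ : G → ℂ) z) := by
    rw [← Cfsg.Agent.Blocks.red_centralCharL_ne_zero_iff,
      ← Cfsg.Agent.Blocks.sameBlock_iff_red.mp
        (show Cfsg.SameBlock M (Cfsg.Agent.CT.trivIrr G : G → ℂ) (χ : G → ℂ) from hχ) z,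
      Cfsg.Agent.Blocks.red_centralCharL_ne_zero_iff]
    rw [Cfsg.centralChar, Cfsg.Agent.CT.trivIrr_apply, Cfsg.Agent.CT.trivIrr_apply, mul_one, div_one,
      Cfsg.Agent.Blocks.memLocalIdeal_natCast hM]
    exact hidx
  have hne : (χ : G → ℂ) z ≠ 0 := fun h0 => hω (by
    rw [Cfsg.centralChar, h0, mul_zero, zero_div]; exact Cfsg.Agent.Blocks.memLocalIdeal_zero)
  obtain ⟨n, ρ, hρ, hχρ⟩ := χ.2
  haveI := hρ
  have hn : Module.finrank ℂ (Fin n → ℂ) = p ^ k := by
    have h := hdeg
    rw [← hχρ, Representation.char_one] at h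
    exact_mod_cast h
  rcases Cfsg.Agent.CT.zero_or_norm_of_coprime ρ z
    (hn ▸ Nat.Coprime.pow_left k ((hp.coprime_iff_not_dvd).mpr hidx)) with h | h
  · exact hne (by rw [← hχρ]; exact h)
  have hs := Cfsg.Agent.CT.scalar_of_norm_eq ρ h
  let f := ρ.asGroupHom
  rcases f.normal_ker.eq_bot_or_eq_top with hker | hker
  · have hzc : z ∈ Subgroup.center G := by
      rw [Subgroup.mem_center_iff]
      intro x
      apply f.ker_eq_bot_iff.mp hker
      apply Units.ext
      simp only [map_mul, Units.val_mul, f, Representation.asGroupHom_apply]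
      rw [hs]
      ext v
      simp
    rcases (inferInstance : (Subgroup.center G).Normal).eq_bot_or_eq_top with hc | hc
    · exact hz1' (Subgroup.mem_bot.mp (hc ▸ hzc))
    · exact hcen hc
  · have hid : ∀ x, ρ x = 1 := fun x =>
      congrArg Units.val (MonoidHom.mem_ker.mp (hker ▸ Subgroup.mem_top x) : f x = 1)
    have hconst : ∀ x, (χ : G → ℂ) x = (χ : G → ℂ) 1 := fun x => by
      simp [← hχρ, Representation.character, hid x, hid 1]
    have hχtriv : ∀ x, (χ : G → ℂ) x = (χ : G → ℂ) 1 * (Cfsg.Agent.CT.trivIrr G : G → ℂ) x := fun x => by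
      simp [hconst x]
    have hin := Cfsg.Agent.CT.irr_inner_subtype χ χ
    rw [if_pos rfl, Cfsg.classInner] at hin
    simp only [hconst, Finset.sum_const, Finset.card_univ, nsmul_eq_mul, ← Nat.card_eq_fintype_card,
      hdeg, map_pow, map_natCast] at hin
    rw [← mul_assoc, inv_mul_cancel₀ Cfsg.Agent.CT.card_ne_zero, one_mul] at hin
    have : p ^ k * p ^ k = 1 := by exact_mod_cast hin
    have h2 : 1 < p ^ k := Nat.one_lt_pow hk.ne' hp.one_lt
    nlinarith

end Cfsg.Agent.S0910
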