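import Cfsg.Statements.S0912
import Cfsg.Agent.Lib.Blocks.Defect
import Cfsg.Agent.Lib.Blocks.PGroupSum
import Cfsg.Agent.Lib.Basics.Cores
-- import your own Cfsg.Agent.* helpers here

set_option autoImplicit false
open Cfsg

namespace Cfsg.Agent.S0912

/-- Let B be a block of the finite group G relative to a maximal ideal M of the algebraic integers containing the prime p. Every defect group of B contains the largest normal p-subgroup O_p(G). -/
theorem result {G : Type*} [Group G] [Finite G] (p : ℕ) [Fact p.Prime] (M : Ideal Cfsg.AlgInt) (hM : Cfsg.IsPModular p M) (B : Set (Cfsg.IrrCharacter G)) (hB : Cfsg.IsPBlock M B) (D : Subgroup G) (hD : Cfsg.IsDefectGroup p M B D) : Cfsg.pCore p G ≤ D := by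
  haveI := hM.2.1.isPrime
  haveI := Cfsg.Agent.Blocks.charP_res hM
  haveI hN : (Cfsg.pCore p G).Normal := Cfsg.Agent.Basics.pCore_normal p
  have h1 := Cfsg.Agent.Blocks.br_ne_zero_of_normal (Cfsg.Agent.Basics.pCore_isPGroup p)
    (Cfsg.Agent.Blocks.bBar_ne_zero hB)
    (Cfsg.Agent.Blocks.bBar_mul_self (Cfsg.Agent.Blocks.blockCoeff_mem_loc hB))
  obtain ⟨x, hx⟩ := (Cfsg.Agent.Blocks.br_bBar_ne_zero_iff hM hB hD
    (Cfsg.Agent.Basics.pCore_isPGroup p)).mp h1
  intro q hq
  exact hx (Cfsg.Agent.Blocks.mem_map_conj.mpr (by simpa using hN.conj_mem q hq x⁻¹))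

end Cfsg.Agent.S0912
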