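import Cfsg.Statements.S0915
import Cfsg.Agent.Lib.Blocks.OneBlock
import Cfsg.Agent.Lib.Transfer.Constrained
-- import your own Cfsg.Agent.* helpers here

set_option autoImplicit false
open Cfsg

namespace Cfsg.Agent.S0915

/-- Let G be a finite p-solvable group with trivial largest normal subgroup of order prime to p. Then any two irreducible characters of G lie in the same block relative to every maximal ideal M of the algebraic integers containing p: G has a single p-block. -/
theorem result {G : Type*} [Group G] [Finite G] (p : ℕ) [Fact p.Prime] (M : Ideal Cfsg.AlgInt) (hM : Cfsg.IsPModular p M) (hsolv : Cfsg.IsPSolvable p G) (hcore : Cfsg.pPrimeCore p G = ⊥) (χ ψ : Cfsg.IrrCharacter G) : Cfsg.SameBlock M (χ : G → ℂ) (ψ : G → ℂ) := by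
  classical
  haveI := hM.2.1.isPrime
  haveI : (Cfsg.pCore p G).Normal := Cfsg.Agent.Basics.pCore_normal p
  refine Cfsg.Agent.Blocks.sameBlock_of_centralizer_le hM (Cfsg.pCore p G)
    (Cfsg.Agent.Basics.pCore_isPGroup p)
    (Cfsg.Agent.Transfer.centralizer_pCore_le_of_pSolvable hcore ?_) χ ψ
  obtain ⟨n, C, h0, h1, hmono, hn, hfac⟩ := hsolv
  set S := Subgroup.centralizer (Cfsg.pCore p G : Set G)
  refine ⟨n, fun i => (C i).subgroupOf S, by simp [h0], by simp [h1],
    fun i j hij => Subgroup.comap_mono (hmono hij), fun i => (hn i).comap S.subtype, fun i => ?_⟩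
  haveI := hn i.castSucc
  have hd : ((C i.castSucc).subgroupOf S).relIndex ((C i.succ).subgroupOf S) ∣
      (C i.castSucc).relIndex (C i.succ) := by
    rw [← Subgroup.inf_subgroupOf_right (C i.succ) S, Subgroup.relIndex_subgroupOf inf_le_right]
    set B := C i.succ
    rw [← Subgroup.relIndex_subgroupOf (inf_le_left : B ⊓ S ≤ B)]
    exact Subgroup.relIndex_dvd_index_of_normal _ _
  rcases hfac i with ⟨m, hm⟩ | hc
  · rw [hm] at hd
    obtain ⟨j, -, hj⟩ := (Nat.dvd_prime_pow (Fact.out : p.Prime)).mp hd
    exact Or.inl ⟨j, hj⟩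
  · exact Or.inr (hc.coprime_dvd_left hd)

end Cfsg.Agent.S0915
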