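import Cfsg.Statements.S0916
import Cfsg.Agent.Lib.Blocks.SylowCentralizer
-- import your own Cfsg.Agent.* helpers here

set_option autoImplicit false
open Cfsg

namespace Cfsg.Agent.S0916

/-- Let P be a p-subgroup of the finite group G, C its centralizer and N its normalizer. Say that a conjugacy class (of G, or of N) has defect group P when P is a Sylow p-subgroup of the centralizer (in G, respectively in N) of some element of the class. Then: (i) if the class of g in G has defect group P, the elements of that class lying in C form a single N-class, again with defect group P; (ii) every N-class with defect group P arises this way from exactly one G-class with defect group P. -/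
theorem result {G : Type*} [Group G] [Finite G] (p : ℕ) [Fact p.Prime] (P : Subgroup G) (hP : IsPGroup p P) : (∀ g : G, (∃ S : Sylow p (Subgroup.centralizer ({g} : Set G)), (S : Subgroup (Subgroup.centralizer ({g} : Set G))).map (Subgroup.centralizer ({g} : Set G)).subtype = P) → (∃ c : G, IsConj g c ∧ c ∈ Subgroup.centralizer (P : Set G)) ∧ (∀ c₁ c₂ : G, IsConj g c₁ → IsConj g c₂ → c₁ ∈ Subgroup.centralizer (P : Set G) → c₂ ∈ Subgroup.centralizer (P : Set G) → ∃ n ∈ Subgroup.normalizer (P : Set G), n * c₁ * n⁻¹ = c₂)) ∧ (∀ c : G, c ∈ Subgroup.centralizer (P : Set G) → (∃ S : Sylow p (Subgroup.centralizer ({c} : Set G) ⊓ Subgroup.normalizer (P : Set G) : Subgroup G), (S : Subgroup ↥(Subgroup.centralizer ({c} : Set G) ⊓ Subgroup.normalizer (P : Set G))).map (Subgroup.centralizer ({c} : Set G) ⊓ Subgroup.normalizer (P : Set G)).subtype = P) → ∃ S : Sylow p (Subgroup.centralizer ({c} : Set G)), (S : Subgroup (Subgroup.centralizer ({c} : Set G))).map (Subgroup.centralizer ({c} : Set G)).subtype = P) := by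
  constructor
  · intro g ⟨S, hS⟩
    have hle : P ≤ Subgroup.centralizer ({g} : Set G) := hS ▸ Subgroup.map_subtype_le _
    have hcard : Nat.card P =
        p ^ (Nat.card (Subgroup.centralizer ({g} : Set G))).factorization p := by
      rw [← hS]; exact Cfsg.Agent.Blocks.card_sylow_map S
    refine ⟨⟨g, IsConj.refl g, Cfsg.Agent.Blocks.le_centralizer_singleton.mp hle⟩,
      fun c₁ c₂ h₁ h₂ hc₁ hc₂ => ?_⟩
    refine Cfsg.Agent.Blocks.exists_normalizer_conj (p := p) (h₁.symm.trans h₂)
      (Cfsg.Agent.Blocks.le_centralizer_singleton.mpr hc₁)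
      (Cfsg.Agent.Blocks.le_centralizer_singleton.mpr hc₂) ?_
    obtain ⟨x, rfl⟩ := isConj_iff.mp h₂
    rw [hcard]
    refine congrArg (fun n : ℕ => p ^ n.factorization p) ?_
    refine Nat.card_congr ((MulAut.conj x).toEquiv.subtypeEquiv fun y => ?_)
    simp only [Subgroup.mem_centralizer_singleton_iff, MulEquiv.toEquiv_eq_coe,
      MulEquiv.coe_toEquiv, MulAut.conj_apply]
    constructor
    · intro e
      calc x * y * x⁻¹ * (x * g * x⁻¹) = x * (y * g) * x⁻¹ := by group
        _ = x * (g * y) * x⁻¹ := by rw [e]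
        _ = x * g * x⁻¹ * (x * y * x⁻¹) := by group
    · intro e
      calc y * g = x⁻¹ * (x * y * x⁻¹ * (x * g * x⁻¹)) * x := by group
        _ = x⁻¹ * (x * g * x⁻¹ * (x * y * x⁻¹)) * x := by rw [e]
        _ = g * y := by group
  · intro c hc ⟨S, hS⟩
    refine Cfsg.Agent.Blocks.exists_sylow_map_eq
      (Cfsg.Agent.Blocks.le_centralizer_singleton.mpr hc)
      (Cfsg.Agent.Blocks.card_eq_of_inf_normalizer hP
        (Cfsg.Agent.Blocks.le_centralizer_singleton.mpr hc) ?_)
    conv_lhs => rw [← hS]
    exact Cfsg.Agent.Blocks.card_sylow_map S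

end Cfsg.Agent.S0916
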