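import Cfsg.Statements.S0918
import Cfsg.Agent.Lib.Blocks.Subgroup
-- import your own Cfsg.Agent.* helpers here

set_option autoImplicit false
open Cfsg

namespace Cfsg.Agent.S0918

/-- Let P be a p-subgroup of the finite group G and H a subgroup with P·C_G(P) ≤ H ≤ N_G(P); let b be a block of H and B a block of G relative to a maximal ideal M of the algebraic integers containing p. Then b induces B if and only if, for every g ∈ G, every ξ ∈ b and every χ ∈ B, the central character of χ at g is congruent modulo the local ideal at M to the sum of ξ h / ξ 1 over the elements h of H conjugate in G to g and centralizing P. -/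
theorem result {G : Type*} [Group G] [Finite G] (p : ℕ) [Fact p.Prime] (M : Ideal Cfsg.AlgInt) (hM : Cfsg.IsPModular p M) (P H : Subgroup G) (hP : IsPGroup p P) (hPH : P ≤ H) (hCH : Subgroup.centralizer (P : Set G) ≤ H) (hHN : H ≤ Subgroup.normalizer (P : Set G)) (b : Set (Cfsg.IrrCharacter H)) (hb : Cfsg.IsPBlock M b) (B : Set (Cfsg.IrrCharacter G)) (hB : Cfsg.IsPBlock M B) : Cfsg.IsInducedBlock M H b B ↔ ∀ ξ ∈ b, ∀ χ ∈ B, ∀ g : G, Cfsg.MemLocalIdeal M (Cfsg.brauerCentralChar P H (ξ : H → ℂ) g - Cfsg.centralChar (χ : G → ℂ) g) := by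
  haveI := hM.2.1.isPrime
  haveI := Cfsg.Agent.Blocks.charP_res hM
  have hbr : ∀ (ξ : Cfsg.IrrCharacter H) (g : G), ∃ hmem : Cfsg.brauerCentralChar P H (ξ : H → ℂ) g ∈ Cfsg.Agent.Blocks.Loc M,
      Cfsg.Agent.Blocks.indBar M H ξ (Cfsg.Agent.Blocks.classSumZ (Cfsg.Agent.Blocks.Res M) g) =
        Cfsg.Agent.Blocks.red M ⟨_, hmem⟩ := by
    intro ξ g
    classical
    haveI := Fintype.ofFinite H
    let a : Cfsg.Agent.Blocks.ZG (Cfsg.Agent.Blocks.Loc M) H :=
      ⟨Cfsg.Agent.Blocks.resH H (Cfsg.Agent.Blocks.trunc (Subgroup.centralizer (P : Set G) : Set G)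
        (Cfsg.Agent.Blocks.classSum (Cfsg.Agent.Blocks.Loc M) g)),
        Cfsg.Agent.Blocks.resH_trunc_mem_center hHN (Cfsg.Agent.Blocks.classSum_mem_center g)⟩
    have e : Cfsg.brauerCentralChar P H (ξ : H → ℂ) g = ((Cfsg.Agent.Blocks.omegaL M ξ a : Cfsg.Agent.Blocks.Loc M) : ℂ) := by
      rw [Cfsg.Agent.Blocks.coe_omegaL, Cfsg.brauerCentralChar, Cfsg.Agent.Blocks.omega,
        Cfsg.Agent.Blocks.ev_eq_sum, Finset.sum_div, finsum_mem_eq_toFinset_sum,
        Set.toFinset_ofPred, Finset.sum_filter]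
      refine Finset.sum_congr rfl fun h _ => ?_
      simp only [a, Cfsg.Agent.Blocks.map_resH, Cfsg.Agent.Blocks.map_trunc,
        Cfsg.Agent.Blocks.map_classSum, Cfsg.Agent.Blocks.coeff_resH]
      by_cases hc : (h : G) ∈ (Subgroup.centralizer (P : Set G) : Set G)
      · rw [Cfsg.Agent.Blocks.coeff_trunc_of_mem _ hc, Cfsg.Agent.Blocks.classSum,
          Cfsg.Agent.Blocks.coeff_ofFun]
        by_cases hg : IsConj g (h : G)
        · rw [if_pos ⟨hg, hc⟩, Cfsg.Agent.Blocks.classInd_pos hg, one_mul]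
        · rw [if_neg (fun k => hg k.1), Cfsg.Agent.Blocks.classInd_neg hg, zero_mul, zero_div]
      · rw [Cfsg.Agent.Blocks.coeff_trunc_of_notMem _ hc, if_neg (fun k => hc k.2), zero_mul,
          zero_div]
    refine ⟨e ▸ Subtype.prop _, ?_⟩
    rw [show (⟨Cfsg.brauerCentralChar P H (ξ : H → ℂ) g, e ▸ Subtype.prop _⟩ : Cfsg.Agent.Blocks.Loc M) =
      Cfsg.Agent.Blocks.omegaL M ξ a from Subtype.ext e,
      Cfsg.Agent.Blocks.indBar_eq_brH hM hP hPH hCH hHN, ← Cfsg.Agent.Blocks.omegaBar_redZ]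
    congr 1
    refine Subtype.ext ?_
    simp [a, Cfsg.Agent.Blocks.coe_brH, Cfsg.Agent.Blocks.map_resH, Cfsg.Agent.Blocks.map_trunc,
      Cfsg.Agent.Blocks.map_classSum]
  constructor
  · intro h ξ hξ χ hχ g
    obtain ⟨hm, he⟩ := hbr ξ g
    rw [Cfsg.Agent.Blocks.indBar_eq_of_isInducedBlock h hξ hχ,
      Cfsg.Agent.Blocks.omegaBar_classSumZ, eq_comm, Cfsg.Agent.Blocks.red_eq_iff] at he
    exact he
  · intro h
    obtain ⟨ξ, hξ⟩ := Cfsg.Agent.Blocks.block_nonempty hb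
    obtain ⟨χ, hχ⟩ := Cfsg.Agent.Blocks.block_nonempty hB
    refine (Cfsg.Agent.Blocks.isInducedBlock_iff hb hB hξ hχ).mpr
      (Cfsg.Agent.Blocks.indBar_eq_of_classSum H ξ χ fun g => ?_)
    obtain ⟨hm, he⟩ := hbr ξ g
    rw [he, Cfsg.Agent.Blocks.omegaBar_classSumZ, Cfsg.Agent.Blocks.red_eq_iff]
    exact h ξ hξ χ hχ g

end Cfsg.Agent.S0918
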