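import Cfsg.Statements.S0926
import Cfsg.Agent.Lib.Blocks.Regular
import Cfsg.Agent.Lib.Blocks.SecondMain
-- import your own Cfsg.Agent.* helpers here

set_option autoImplicit false
open Cfsg

namespace Cfsg.Agent.S0926

/-- Let B be a block of the finite group G with defect group D (relative to a maximal ideal M of the algebraic integers containing p), let χ ∈ B have height zero, and let x be a p-element. Then some conjugate of x lies in D if and only if χ does not vanish on the whole p-section of x (the elements whose p-part is conjugate to x). -/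
theorem result {G : Type*} [Group G] [Finite G] (p : ℕ) [Fact p.Prime] (M : Ideal Cfsg.AlgInt) (hM : Cfsg.IsPModular p M) (B : Set (Cfsg.IrrCharacter G)) (hB : Cfsg.IsPBlock M B) (D : Subgroup G) (hD : Cfsg.IsDefectGroup p M B D) (χ : Cfsg.IrrCharacter G) (hχ : χ ∈ B) (h0 : Cfsg.blockHeight p B (χ : G → ℂ) = 0) (x : G) (hx : ∃ k : ℕ, orderOf x = p ^ k) : (∃ g : G, g * x * g⁻¹ ∈ D) ↔ ∃ u : G, (∃ z : G, Cfsg.IsPPart p u z ∧ IsConj x z) ∧ (χ : G → ℂ) u ≠ 0 := by
  haveI := hM.2.1.isPrime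
  obtain ⟨k, hk⟩ := hx
  have hxk : x ^ p ^ k = 1 := by rw [← hk]; exact pow_orderOf_eq_one x
  constructor
  · rintro ⟨g, hg⟩
    obtain ⟨y, hy, hle, hDp, -⟩ := Cfsg.Agent.Blocks.defectGroup_spec hD
    have hcom : Commute (g * x * g⁻¹) y := Subgroup.mem_centralizer_singleton_iff.mp (hle hg)
    have hpk : ∃ j : ℕ, (g * x * g⁻¹) ^ p ^ j = 1 :=
      Cfsg.Agent.Blocks.exists_pow_eq_one_of_isPGroup hDp hg
    refine ⟨g * x * g⁻¹ * y, ⟨g * x * g⁻¹, Cfsg.Agent.Blocks.isPPart_mk hcom hpk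
      (Cfsg.Agent.Blocks.regular_of_defectClass hM hB hy), isConj_iff.mpr ⟨g, rfl⟩⟩, fun h => ?_⟩
    refine Cfsg.Agent.Blocks.red_charL_defectClass_ne_zero hM hB hy hχ h0 hcom hpk ?_
    rw [show Cfsg.Agent.Blocks.charL M χ (g * x * g⁻¹ * y) = 0 from
      Subtype.ext (by simpa using h), map_zero]
  · rintro ⟨u, ⟨z, hz, hxz⟩, hu⟩
    have hBeq : B = Cfsg.blockOf M (χ : G → ℂ) := Cfsg.Agent.Blocks.block_eq_blockOf hB hχ
    have hex : ∃ E : Subgroup G, Cfsg.IsDefectGroup p M B E ∧ z ∈ E := by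
      by_contra hne
      push Not at hne
      exact hu (Cfsg.Agent.Blocks.char_eq_zero_of_not_mem_defect hM hz fun E hE => hne E (hBeq ▸ hE))
    obtain ⟨E, hE, hzE⟩ := hex
    obtain ⟨t, ht⟩ := Cfsg.Agent.Blocks.defect_conj hM hB hE hD
    obtain ⟨c, hc⟩ := isConj_iff.mp hxz
    refine ⟨t * c, ?_⟩
    rw [← ht]
    refine Cfsg.Agent.Blocks.mem_map_conj.mpr ?_
    have : t⁻¹ * (t * c * x * (t * c)⁻¹) * t = z := by rw [← hc]; group
    rw [this]; exact hzE

end Cfsg.Agent.S0926
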