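import Cfsg.Statements.S0927
import Cfsg.Agent.Lib.Blocks.Regular
import Cfsg.Agent.Lib.Blocks.SecondMain
-- import your own Cfsg.Agent.* helpers here

set_option autoImplicit false
open Cfsg

namespace Cfsg.Agent.S0927

/-- Let B be a block of the finite group G relative to a maximal ideal M of the algebraic integers containing p, let y represent a defect class of B and let P be a Sylow p-subgroup of the centralizer of y. (a) If x ∈ P and χ ∈ B has height zero, then χ (x * y) is not in the local ideal at M. (b) If x lies in the centre of P, then for every χ ∈ B the central character of χ at x * y is not in the local ideal at M. -/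
theorem result {G : Type*} [Group G] [Finite G] (p : ℕ) [Fact p.Prime] (M : Ideal Cfsg.AlgInt) (hM : Cfsg.IsPModular p M) (B : Set (Cfsg.IrrCharacter G)) (hB : Cfsg.IsPBlock M B) (y : G) (hy : Cfsg.IsDefectClass M B y) (P : Sylow p (Subgroup.centralizer ({y} : Set G))) (x : Subgroup.centralizer ({y} : Set G)) (hx : x ∈ (P : Subgroup (Subgroup.centralizer ({y} : Set G)))) : (∀ χ ∈ B, Cfsg.blockHeight p B (χ : G → ℂ) = 0 → ¬ Cfsg.MemLocalIdeal M ((χ : G → ℂ) ((x : G) * y))) ∧ ((∀ w ∈ (P : Subgroup (Subgroup.centralizer ({y} : Set G))), x * w = w * x) → ∀ χ ∈ B, ¬ Cfsg.MemLocalIdeal M (Cfsg.centralChar (χ : G → ℂ) ((x : G) * y))) := by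
  haveI := hM.2.1.isPrime
  set P' : Subgroup G := (P : Subgroup (Subgroup.centralizer ({y} : Set G))).map
    (Subgroup.centralizer ({y} : Set G)).subtype with hP'
  have hle : P' ≤ Subgroup.centralizer ({y} : Set G) := Subgroup.map_subtype_le _
  have hcard := Cfsg.Agent.Blocks.card_sylow_map P
  have hcom : Commute (x : G) y := Subgroup.mem_centralizer_singleton_iff.mp x.2
  have hxk : ∃ k : ℕ, (x : G) ^ p ^ k = 1 :=
    Cfsg.Agent.Blocks.exists_pow_eq_one_of_isPGroup (P.isPGroup'.map _)
      (Subgroup.mem_map_of_mem (Subgroup.centralizer ({y} : Set G)).subtype hx)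
  refine ⟨fun χ hχ h0 hI => ?_, fun hw χ hχ => ?_⟩
  · exact Cfsg.Agent.Blocks.red_charL_defectClass_ne_zero hM hB hy hχ h0 hcom hxk
      (Cfsg.Agent.Blocks.red_eq_zero_iff.mpr (by simpa using hI))
  · refine Cfsg.Agent.Blocks.centralChar_defectClass_unit hM hB hy hle hcard ?_ hcom hxk hχ
    intro w hw'
    obtain ⟨w', hw'', rfl⟩ := Subgroup.mem_map.mp hw'
    refine Subgroup.mem_centralizer_singleton_iff.mpr ?_
    have := congrArg Subtype.val (hw w' hw'')
    simpa using this.symm

end Cfsg.Agent.S0927
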