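import Cfsg.Statements.S0931
import Cfsg.Agent.Lib.Blocks.DefectCenter
import Cfsg.Agent.S0917
-- import your own Cfsg.Agent.* helpers here

set_option autoImplicit false
open Cfsg

namespace Cfsg.Agent.S0931

/-- Let H be a subgroup of the finite group G and fix a maximal ideal M of the algebraic integers containing the prime p. If the block b of H induces the block B of G, then b has defect 0 if and only if B has defect 0. -/
theorem result {G : Type*} [Group G] [Finite G] (p : ℕ) [Fact p.Prime] (M : Ideal Cfsg.AlgInt) (hM : Cfsg.IsPModular p M) (H : Subgroup G) (b : Set (Cfsg.IrrCharacter H)) (B : Set (Cfsg.IrrCharacter G)) (hind : Cfsg.IsInducedBlock M H b B) : Cfsg.blockDefect p b = 0 ↔ Cfsg.blockDefect p B = 0 := by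
  haveI := hM.2.1.isPrime
  obtain ⟨D, hD⟩ := Cfsg.Agent.Blocks.exists_defectGroup (p := p) hind.1
  obtain ⟨P, hP⟩ := Cfsg.Agent.Blocks.exists_defectGroup (p := p) hind.2.1
  have hbD : ∀ {n : ℕ}, p ^ n = 1 ↔ n = 0 := fun {n} =>
    ⟨fun h => by
      rcases Nat.pow_eq_one.mp h with h | h
      · exact absurd h hM.1.ne_one
      · exact h, fun h => by simp [h]⟩
  have cD := Cfsg.Agent.Blocks.card_defectGroup hM hind.1 hD
  have cP := Cfsg.Agent.Blocks.card_defectGroup hM hind.2.1 hP
  rw [← hbD, ← hbD (n := Cfsg.blockDefect p B), ← cD, ← cP, Subgroup.card_eq_one,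
    Subgroup.card_eq_one]
  constructor
  · intro hD0
    by_contra hP0
    obtain ⟨-, -, -, hPp, -⟩ := Cfsg.Agent.Blocks.defectGroup_spec hP
    haveI : Nontrivial P := (Subgroup.nontrivial_iff_ne_bot P).mpr hP0
    haveI : Nontrivial (Subgroup.center P) := hPp.center_nontrivial
    obtain ⟨⟨z, hz⟩, hz1⟩ := exists_ne (1 : Subgroup.center P)
    obtain ⟨g, hg, -⟩ := Cfsg.Agent.Blocks.center_defect_fuses hM hind hD hP z.2 fun w hw =>
      congrArg Subtype.val (Subgroup.mem_center_iff.mp hz ⟨w, hw⟩).symm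
    rw [hD0, Subgroup.map_bot, Subgroup.mem_bot] at hg
    refine hz1 (Subtype.ext (Subtype.ext ?_))
    simpa [mul_inv_eq_one] using hg
  · intro hP0
    obtain ⟨E, hE, hle⟩ := Cfsg.Agent.S0917.result p M hM H b hind.1 B hind.2.1 hind D hD
    have hE1 : Nat.card E = 1 := by
      rw [Cfsg.Agent.Blocks.card_defect_eq hM hind.2.1 hE hP, Subgroup.card_eq_one, hP0]
    rw [Subgroup.card_eq_one.mp hE1] at hle
    rw [← Subgroup.map_eq_bot_iff_of_injective D H.subtype_injective]
    exact le_bot_iff.mp hle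

end Cfsg.Agent.S0931
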