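import Cfsg.Statements.S0932
import Cfsg.Agent.Lib.CT.Induced
import Cfsg.Agent.Lib.Blocks.CentralChar
-- import your own Cfsg.Agent.* helpers here

set_option autoImplicit false
open Cfsg

namespace Cfsg.Agent.S0932

/-- Let H be a subgroup of the finite group G and ξ a character of H. For every g ∈ G, the sum of ξ h / ξ 1 over the elements h ∈ H that are conjugate in G to g equals the central character at g of the character of G induced from ξ (class size times value divided by degree). -/
theorem result {G : Type*} [Group G] [Fintype G] (H : Subgroup G) (ξ : H → ℂ) (hξ : Cfsg.IsCharacter H ξ) (g : G) : Cfsg.inducedCentralChar H ξ g = Cfsg.centralChar (Cfsg.indFun H ξ) g := by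
  classical
  set C := Subgroup.centralizer ({g} : Set G)
  set S := ∑ y : G, if IsConj g y then Cfsg.extendByZero H ξ y else 0 with hS
  have hfib : ∀ y : G, (Finset.univ.filter (fun x : G => x⁻¹ * g * x = y)).card =
      if IsConj g y then Nat.card C else 0 := by
    intro y
    by_cases hy : IsConj g y
    · rw [if_pos hy]
      obtain ⟨x0, hx0⟩ := isConj_iff.mp hy.symm
      have hg0 : x0⁻¹ * g * x0 = y := by rw [← hx0]; group
      rw [← Fintype.card_subtype, ← Nat.card_eq_fintype_card]
      refine Nat.card_congr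
        { toFun := fun x => ⟨(x : G) * x0⁻¹, Subgroup.mem_centralizer_singleton_iff.mpr ?_⟩
          invFun := fun c => ⟨(c : G) * x0, ?_⟩
          left_inv := fun x => Subtype.ext (by simp)
          right_inv := fun c => Subtype.ext (by simp) }
      · have e : (x : G)⁻¹ * g * x = x0⁻¹ * g * x0 := x.2.trans hg0.symm
        calc (x : G) * x0⁻¹ * g = (x : G) * (x0⁻¹ * g * x0) * x0⁻¹ := by group
          _ = (x : G) * ((x : G)⁻¹ * g * x) * x0⁻¹ := by rw [e]
          _ = g * ((x : G) * x0⁻¹) := by group
      · have e := Subgroup.mem_centralizer_singleton_iff.mp c.2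
        calc ((c : G) * x0)⁻¹ * g * ((c : G) * x0) = x0⁻¹ * ((c : G)⁻¹ * (g * c)) * x0 := by group
          _ = x0⁻¹ * ((c : G)⁻¹ * (c * g)) * x0 := by rw [e]
          _ = x0⁻¹ * g * x0 := by group
          _ = y := hg0
    · rw [if_neg hy, Finset.card_eq_zero, Finset.filter_eq_empty_iff]
      intro x _ hx
      exact hy (isConj_iff.mpr ⟨x⁻¹, by rw [inv_inv]; exact hx⟩)
  have hsum : ∑ x : G, Cfsg.extendByZero H ξ (x⁻¹ * g * x) = (Nat.card C : ℂ) * S := by
    rw [← Finset.sum_fiberwise Finset.univ (fun x : G => x⁻¹ * g * x), hS, Finset.mul_sum]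
    refine Finset.sum_congr rfl fun y _ => ?_
    rw [Finset.sum_congr rfl fun x hx => congrArg _ (Finset.mem_filter.mp hx).2,
      Finset.sum_const, hfib, nsmul_eq_mul]
    split_ifs <;> simp
  have hind : Cfsg.inducedCentralChar H ξ g = S / ξ 1 := by
    rw [Cfsg.inducedCentralChar, hS, finsum_mem_eq_toFinset_sum, ← Finset.sum_div]
    congr 1
    rw [Set.toFinset_ofPred, Finset.sum_filter]
    have h1 : ∑ y : G, (if IsConj g y then Cfsg.extendByZero H ξ y else 0) =
        ∑ y : G, Cfsg.extendByZero H ξ y * (if IsConj g y then 1 else 0) :=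
      Finset.sum_congr rfl fun y _ => by split_ifs <;> simp
    rw [h1, Cfsg.Agent.CT.sum_extendByZero]
    exact Finset.sum_congr rfl fun h _ => by split_ifs <;> simp
  rw [hind, Cfsg.centralChar, Cfsg.Agent.CT.indFun_one_eval, Cfsg.indFun, hsum]
  by_cases h1 : ξ 1 = 0
  · simp [h1]
  have hi : ((H.index : ℂ)) ≠ 0 := Nat.cast_ne_zero.mpr Subgroup.index_ne_zero_of_finite
  have hH : (Nat.card H : ℂ) ≠ 0 := Nat.cast_ne_zero.mpr Nat.card_pos.ne'
  have e : (C.index : ℂ) * (Nat.card C : ℂ) = (H.index : ℂ) * (Nat.card H : ℂ) := by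
    exact_mod_cast C.index_mul_card.trans H.index_mul_card.symm
  field_simp
  linear_combination -S * e

end Cfsg.Agent.S0932
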