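import Cfsg.Statements.S0933
import Cfsg.Agent.S0932
import Cfsg.Agent.Lib.Blocks.Subgroup
-- import your own Cfsg.Agent.* helpers here

set_option autoImplicit false
open Cfsg

namespace Cfsg.Agent.S0933

/-- Let H be a subgroup of the finite group G and ξ an irreducible character of H such that the induced function ξ^G is an irreducible character of G. Then, relative to any maximal ideal M of the algebraic integers containing the prime p, the block of ξ induces the block of ξ^G. -/
theorem result {G : Type*} [Group G] [Fintype G] (p : ℕ) [Fact p.Prime] (M : Ideal Cfsg.AlgInt) (hM : Cfsg.IsPModular p M) (H : Subgroup G) (ξ : Cfsg.IrrCharacter H) (hind : Cfsg.IsIrrCharacter G (Cfsg.indFun H (ξ : H → ℂ))) : Cfsg.IsInducedBlock M H (Cfsg.blockOf M (ξ : H → ℂ)) (Cfsg.blockOf M (Cfsg.indFun H (ξ : H → ℂ))) := by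
  haveI := hM.2.1.isPrime
  let η : Cfsg.IrrCharacter G := ⟨_, hind⟩
  refine Cfsg.Agent.Blocks.isInducedBlock_blockOf (χ := η)
    (Cfsg.Agent.Blocks.isPBlock_blockOf ξ) (Cfsg.Agent.Blocks.self_mem_blockOf ξ) fun a => ?_
  refine Cfsg.Agent.Blocks.indBar_eq_of_classSum H ξ η (fun g => ?_) a
  rw [Cfsg.Agent.Blocks.indBar_classSumZ, Cfsg.Agent.Blocks.omegaBar_classSumZ]
  exact congrArg _ (Subtype.ext
    (Cfsg.Agent.S0932.result H (ξ : H → ℂ) (Cfsg.Agent.CT.isCharacter_of_isIrr ξ.2) g))

end Cfsg.Agent.S0933
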