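import Cfsg.Statements.S0934
import Cfsg.Agent.Lib.Blocks.Subgroup
-- import your own Cfsg.Agent.* helpers here

set_option autoImplicit false
open Cfsg

namespace Cfsg.Agent.S0934

/-- Let H be a subgroup of the finite group G and fix a maximal ideal M of the algebraic integers containing the prime p. If the block b of H induces the block B of G and ξ ∈ b, then there is χ ∈ B whose restriction to H has nonzero inner product with ξ. -/
theorem result {G : Type*} [Group G] [Fintype G] (p : ℕ) [Fact p.Prime] (M : Ideal Cfsg.AlgInt) (hM : Cfsg.IsPModular p M) (H : Subgroup G) [Fintype H] (b : Set (Cfsg.IrrCharacter H)) (B : Set (Cfsg.IrrCharacter G)) (hind : Cfsg.IsInducedBlock M H b B) (ξ : Cfsg.IrrCharacter H) (hξ : ξ ∈ b) : ∃ χ ∈ B, Cfsg.classInner (fun h : H => (χ : G → ℂ) h) (ξ : H → ℂ) ≠ 0 := by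
  classical
  haveI := hM.2.1.isPrime
  obtain ⟨χ₀, hχ₀⟩ := Cfsg.Agent.Blocks.block_nonempty hind.2.1
  have hA := Cfsg.Agent.Blocks.blockCoeff_mem_loc hind.2.1
  have h1 := Cfsg.Agent.Blocks.indBar_eq_of_isInducedBlock hind hξ hχ₀ (Cfsg.Agent.Blocks.bBar M B)
  rw [Cfsg.Agent.Blocks.omegaBar_bBar_eq_one hind.2.1 hχ₀, Cfsg.Agent.Blocks.indBar_apply,
    show Cfsg.Agent.Blocks.resZ H (Cfsg.Agent.Blocks.bBar M B) = Cfsg.Agent.Blocks.redZ M H
      (Cfsg.Agent.Blocks.resZ H (Cfsg.Agent.Blocks.bIdem M B)) from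
      Subtype.ext (by simp [Cfsg.Agent.Blocks.bBar, Cfsg.Agent.Blocks.map_resH]),
    Cfsg.Agent.Blocks.omegaBar_redZ] at h1
  by_contra hne
  push Not at hne
  refine (zero_ne_one (α := Cfsg.Agent.Blocks.Res M)) (Eq.trans ?_ h1)
  rw [show Cfsg.Agent.Blocks.omegaL M ξ (Cfsg.Agent.Blocks.resZ H (Cfsg.Agent.Blocks.bIdem M B)) = 0 from ?_,
    map_zero]
  refine Subtype.ext ?_
  rw [Cfsg.Agent.Blocks.coe_omegaL, Cfsg.Agent.Blocks.omega, Cfsg.Agent.Blocks.ev_eq_sum,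
    ZeroMemClass.coe_zero]
  refine div_eq_zero_iff.mpr (Or.inl ?_)
  have e : ∀ h : H, (Cfsg.Agent.Blocks.toC M H
      ((Cfsg.Agent.Blocks.resZ H (Cfsg.Agent.Blocks.bIdem M B) : Cfsg.Agent.Blocks.ZG (Cfsg.Agent.Blocks.Loc M) H) :
        MonoidAlgebra (Cfsg.Agent.Blocks.Loc M) H)).coeff h = Cfsg.blockCoeff B (h : G) := fun h => by
    rw [Cfsg.Agent.Blocks.toC, Cfsg.Agent.Blocks.coeff_map', Cfsg.Agent.Blocks.coe_resZ,
      Cfsg.Agent.Blocks.coeff_resH, Cfsg.Agent.Blocks.coeff_bIdem hA]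
    rfl
  simp only [e, Cfsg.blockCoeff, Cfsg.Agent.Blocks.finsum_mem_irr, mul_assoc, Finset.sum_mul]
  rw [← Finset.mul_sum, Finset.sum_comm]
  refine mul_eq_zero_of_right _ (Finset.sum_eq_zero fun χ _ => ?_)
  by_cases hχ : χ ∈ B
  · simp only [if_pos hχ, mul_assoc]
    rw [← Finset.mul_sum]
    have h2 := hne χ hχ
    rw [Cfsg.classInner, mul_eq_zero, inv_eq_zero, or_iff_right Cfsg.Agent.CT.card_ne_zero] at h2
    have h3 := congrArg (starRingEnd ℂ) h2
    simp only [map_sum, map_mul, Complex.conj_conj, map_zero] at h3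
    rw [h3, mul_zero]
  · simp [hχ]

end Cfsg.Agent.S0934
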