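import Cfsg.Statements.S0938
import Cfsg.Agent.Lib.Blocks.Covering
import Cfsg.Agent.Lib.Basics.Cores
import Cfsg.Agent.Lib.CT.Kernel
-- import your own Cfsg.Agent.* helpers here

set_option autoImplicit false
open Cfsg

namespace Cfsg.Agent.S0938

/-- Let B be a block of the finite group G relative to a maximal ideal M of the algebraic integers containing the prime p, and let χ ∈ B. Then the kernel of B (the set of g with ψ g = ψ 1 for all ψ ∈ B) is a normal subgroup of order prime to p contained in the kernel of χ, and it contains every normal subgroup of order prime to p on which χ takes the value χ(1); that is, it is O_p' of the kernel of χ. -/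
theorem result {G : Type*} [Group G] [Finite G] (p : ℕ) [Fact p.Prime] (M : Ideal Cfsg.AlgInt) (hM : Cfsg.IsPModular p M) (B : Set (Cfsg.IrrCharacter G)) (hB : Cfsg.IsPBlock M B) (χ : Cfsg.IrrCharacter G) (hχ : χ ∈ B) : ∃ K : Subgroup G, K.Normal ∧ (K : Set G) = Cfsg.blockKer B ∧ ¬ p ∣ Nat.card K ∧ (∀ g ∈ K, (χ : G → ℂ) g = (χ : G → ℂ) 1) ∧ ∀ N : Subgroup G, N.Normal → ¬ p ∣ Nat.card N → (∀ g ∈ N, (χ : G → ℂ) g = (χ : G → ℂ) 1) → N ≤ K := by
  classical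
  haveI := hM.2.1.isPrime
  let K : Subgroup G := ⨅ ψ : B, Cfsg.Agent.CT.kerChar ((ψ : Cfsg.IrrCharacter G) : G → ℂ)
  have hK : ∀ g, g ∈ K ↔ ∀ ψ ∈ B, (ψ : G → ℂ) g = (ψ : G → ℂ) 1 := fun g => by
    rw [show K = ⨅ ψ : B, Cfsg.Agent.CT.kerChar ((ψ : Cfsg.IrrCharacter G) : G → ℂ) from rfl,
      Subgroup.mem_iInf]
    exact ⟨fun h ψ hψ => (Cfsg.Agent.CT.mem_kerChar_iff (Cfsg.Agent.CT.isCharacter_of_isIrr ψ.2)).mp (h ⟨ψ, hψ⟩),
      fun h ψ => (Cfsg.Agent.CT.mem_kerChar_iff (Cfsg.Agent.CT.isCharacter_of_isIrr ψ.1.2)).mpr (h ψ.1 ψ.2)⟩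
  refine ⟨K, ⟨fun n hn c => (hK _).mpr fun ψ hψ => ?_⟩, Set.ext fun g => hK g, fun hdvd => ?_,
    fun g hg => (hK g).mp hg χ hχ, fun N hN hNp hNχ n hn => (hK n).mpr fun ψ hψ => ?_⟩
  · rw [Cfsg.Agent.Blocks.isClassFn_irr ψ n c]
    exact (hK n).mp hn ψ hψ
  · obtain ⟨x, hx⟩ := exists_prime_orderOf_dvd_card' (G := K) p hdvd
    have h0 := Cfsg.Agent.Blocks.blockCoeff_eq_zero_of_singular hM
      (Cfsg.Agent.Blocks.blockCoeff_mem_loc hB) (h := (x : G))
      (by rw [Subgroup.orderOf_coe, hx])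
    letI := Fintype.ofFinite G
    rw [Cfsg.blockCoeff, Cfsg.Agent.Blocks.finsum_mem_irr, mul_eq_zero, inv_eq_zero,
      or_iff_right Cfsg.Agent.CT.card_ne_zero] at h0
    have e : ∀ ψ : Cfsg.IrrCharacter G, (if ψ ∈ B then
        (ψ : G → ℂ) 1 * (starRingEnd ℂ) ((ψ : G → ℂ) x) else 0) =
        ((if ψ ∈ B then Cfsg.charDegree (ψ : G → ℂ) * Cfsg.charDegree (ψ : G → ℂ) else 0 : ℕ) : ℂ) := by
      intro ψ
      split_ifs with hψ
      · rw [(hK x).mp x.2 ψ hψ, Cfsg.Agent.Blocks.charDegree_cast, map_natCast, Nat.cast_mul]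
      · simp
    rw [Finset.sum_congr rfl fun ψ _ => e ψ, ← Nat.cast_sum, Nat.cast_eq_zero,
      Finset.sum_eq_zero_iff] at h0
    have h1 := h0 χ (Finset.mem_univ χ)
    rw [if_pos hχ] at h1
    have := Cfsg.Agent.Blocks.charDegree_pos χ
    exact absurd h1 (Nat.mul_pos this this).ne'
  · haveI := hN
    exact Cfsg.Agent.Blocks.apply_eq_one_of_sameBlock hM hNp
      ((Cfsg.Agent.Blocks.mem_block_iff hB hχ).mp hψ) hNχ hn

end Cfsg.Agent.S0938
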