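import Cfsg.Statements.S0943
import Cfsg.Agent.Lib.Blocks.CentralChar
-- import your own Cfsg.Agent.* helpers here

set_option autoImplicit false
open Cfsg

namespace Cfsg.Agent.S0943

/-- Let χ be an irreducible character of the finite group G and u, v ∈ G. If χ (x * y) = χ (u * v) whenever x is conjugate to u and y is conjugate to v, then χ u * χ v = χ 1 * χ (u * v). (Multiply the class sums of u and v and apply the central character of χ.) -/
theorem result {G : Type*} [Group G] [Finite G] (χ : Cfsg.IrrCharacter G) (u v : G) (hc : ∀ x y : G, IsConj u x → IsConj v y → (χ : G → ℂ) (x * y) = (χ : G → ℂ) (u * v)) : (χ : G → ℂ) u * (χ : G → ℂ) v = (χ : G → ℂ) 1 * (χ : G → ℂ) (u * v) := by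
  classical
  letI := Fintype.ofFinite G
  have hcf := Cfsg.Agent.Blocks.isClassFn_irr χ
  have h1 := Cfsg.Agent.Blocks.omega_mul χ.2 (Cfsg.Agent.Blocks.classSum_mem_center (R := ℂ) u)
    (Cfsg.Agent.Blocks.classSum ℂ v)
  rw [← Cfsg.Agent.Blocks.centralChar_eq_omega hcf, ← Cfsg.Agent.Blocks.centralChar_eq_omega hcf] at h1
  have h2 : ∀ g : G, ∑ x, Cfsg.Agent.Blocks.classInd ℂ g x =
      ((Subgroup.centralizer ({g} : Set G)).index : ℂ) := by
    intro g
    rw [Cfsg.Agent.Blocks.classInd_sum_eq]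
    congr 1
    have e1 := Cfsg.Agent.CT.card_conj_class_mul_centralizer g
    have e2 := (Subgroup.centralizer ({g} : Set G)).index_mul_card
    exact Nat.eq_of_mul_eq_mul_right Nat.card_pos (e1.trans e2.symm)
  have h3 : Cfsg.Agent.Blocks.ev (χ : G → ℂ)
      (Cfsg.Agent.Blocks.classSum ℂ u * Cfsg.Agent.Blocks.classSum ℂ v) =
      ((Subgroup.centralizer ({u} : Set G)).index : ℂ) *
        ((Subgroup.centralizer ({v} : Set G)).index : ℂ) * (χ : G → ℂ) (u * v) := by
    conv_lhs => rw [Cfsg.Agent.Blocks.eq_sum_single (Cfsg.Agent.Blocks.classSum ℂ v)]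
    rw [Finset.mul_sum, Cfsg.Agent.Blocks.ev_sum, ← h2 u, ← h2 v, Finset.mul_sum, Finset.sum_mul]
    refine Finset.sum_congr rfl fun w _ => ?_
    rw [Cfsg.Agent.Blocks.ev_mul_single, Cfsg.Agent.Blocks.ev_eq_sum, Finset.mul_sum,
      Finset.sum_mul, Finset.sum_mul]
    refine Finset.sum_congr rfl fun x _ => ?_
    simp only [Cfsg.Agent.Blocks.classSum, Cfsg.Agent.Blocks.coeff_ofFun]
    by_cases hx : IsConj u x
    · by_cases hw : IsConj v w
      · rw [Cfsg.Agent.Blocks.classInd_pos hx, Cfsg.Agent.Blocks.classInd_pos hw, hc x w hx hw]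
        ring
      · rw [Cfsg.Agent.Blocks.classInd_neg hw]; ring
    · rw [Cfsg.Agent.Blocks.classInd_neg hx]; ring
  rw [Cfsg.Agent.Blocks.omega, h3, Cfsg.centralChar, Cfsg.centralChar] at h1
  have hu : ((Subgroup.centralizer ({u} : Set G)).index : ℂ) ≠ 0 :=
    Nat.cast_ne_zero.mpr Subgroup.index_ne_zero_of_finite
  have hv : ((Subgroup.centralizer ({v} : Set G)).index : ℂ) ≠ 0 :=
    Nat.cast_ne_zero.mpr Subgroup.index_ne_zero_of_finite
  field_simp [Cfsg.Agent.CT.irr_one_ne_zero χ.2] at h1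
  linear_combination -h1

end Cfsg.Agent.S0943
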