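import Cfsg.Statements.S0945
import Cfsg.Agent.Lib.Blocks.Homocyclic
-- import your own Cfsg.Agent.* helpers here

set_option autoImplicit false
open Cfsg

namespace Cfsg.Agent.S0945

/-- Let P be a Sylow 2-subgroup of the finite group G isomorphic to Z/2^m × Z/2^m with m ≥ 1. Then (i) the index of C_G(P) in N_G(P) is 1 or 3, and (ii) if it is not 1, then for every z ≠ 1 in P, C_G(z) ∩ N_G(P) = C_G(P). -/
theorem result {G : Type*} [Group G] [Finite G] (P : Sylow 2 G) (m : ℕ) (hm : 1 ≤ m) (e : (P : Subgroup G) ≃* Multiplicative (ZMod (2 ^ m) × ZMod (2 ^ m))) : ((Subgroup.centralizer (P : Set G)).relIndex (Subgroup.normalizer (P : Set G)) = 1 ∨ (Subgroup.centralizer (P : Set G)).relIndex (Subgroup.normalizer (P : Set G)) = 3) ∧ ((Subgroup.centralizer (P : Set G)).relIndex (Subgroup.normalizer (P : Set G)) ≠ 1 → ∀ z ∈ (P : Subgroup G), z ≠ 1 → Subgroup.centralizer ({z} : Set G) ⊓ Subgroup.normalizer (P : Set G) = Subgroup.centralizer (P : Set G)) := by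
  refine ⟨(Cfsg.Agent.Blocks.relIndex_eq_one_or_three P m hm e).imp_right (fun h => h.1),
    fun _ z hz hz1 => le_antisymm (fun n hn => ?_) (le_inf (fun c hc => ?_)
      (Cfsg.Agent.Blocks.centralizer_le_normalizer' P))⟩
  · obtain ⟨hnz, hnN⟩ := hn
    have hc : Commute n z := Subgroup.mem_centralizer_singleton_iff.mp hnz
    obtain ⟨k, hk⟩ := P.isPGroup' ⟨z, hz⟩
    have hk' : z ^ 2 ^ k = 1 := by simpa using congrArg Subtype.val hk
    obtain ⟨i, -, hi⟩ := (Nat.dvd_prime_pow Nat.prime_two).mp (orderOf_dvd_of_pow_eq_one hk')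
    have hi0 : i ≠ 0 := fun h => hz1 (orderOf_eq_one_iff.mp (by rw [hi, h, pow_zero]))
    obtain ⟨j, rfl⟩ := Nat.exists_eq_succ_of_ne_zero hi0
    refine Cfsg.Agent.Blocks.mem_centralizer_of_fix P m hm e hnN
      ((P : Subgroup G).pow_mem hz (2 ^ j)) ?_ (hc.pow_right (2 ^ j))
    rw [orderOf_pow_of_dvd (pow_ne_zero j two_ne_zero) (by rw [hi]; exact pow_dvd_pow 2 j.le_succ),
      hi, Nat.succ_eq_add_one, pow_succ, Nat.mul_div_cancel_left _ (by positivity)]
  · exact Subgroup.mem_centralizer_singleton_iff.mpr (Subgroup.mem_centralizer_iff.mp hc z hz).symm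

end Cfsg.Agent.S0945
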