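import Cfsg.Statements.S0950
import Cfsg.Agent.Lib.InvChar.Q8Fusion

set_option autoImplicit false
open Cfsg

namespace Cfsg.Agent.S0950

/-- Let S be a Sylow 2-subgroup of the finite group G that is isomorphic to the quaternion group of order 8, and suppose S has no normal complement in G. Then any two subgroups of order 4 of S are conjugate by an element of the normalizer of S. -/
theorem result {G : Type*} [Group G] [Finite G] (S : Sylow 2 G) (e : (S : Subgroup G) ≃* QuaternionGroup 2) (hnc : ∀ N : Subgroup G, N.Normal → ¬ Subgroup.IsComplement' N (S : Subgroup G)) (A B : Subgroup G) (hA : A ≤ S) (hB : B ≤ S) (hA4 : Nat.card A = 4) (hB4 : Nat.card B = 4) : ∃ n ∈ Subgroup.normalizer ((S : Subgroup G) : Set G), B = A.map (MulAut.conj n).toMonoidHom := by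
  classical
  obtain ⟨hdvd, huniq, -, -⟩ := Cfsg.Agent.Q8.facts S e
  have key : ∀ K : Subgroup G, K ≤ S → Nat.card K = 4 → ∃ a ∈ K, orderOf a = 4 ∧ K = Subgroup.zpowers a := by
    intro K hK hK4
    obtain ⟨a, ha, ha4⟩ : ∃ a ∈ K, orderOf a = 4 := by
      by_contra hcon
      push Not at hcon
      have hord2 : ∀ y ∈ K, y ≠ 1 → orderOf y = 2 := by
        intro y hy hy1
        refine Cfsg.Agent.Invol.orderOf_two_of_mul_self ?_ hy1
        by_contra hh
        exact hcon y hy (Cfsg.Agent.Q8.orderOf_eq_four (hdvd y (hK hy)) hh)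
      haveI : Fact (Nat.Prime 2) := ⟨Nat.prime_two⟩
      obtain ⟨x, hx⟩ := exists_prime_orderOf_dvd_card' (G := K) 2 (by rw [hK4]; norm_num)
      rw [← Subgroup.orderOf_coe] at hx
      have hle : K ≤ Subgroup.zpowers (x : G) := by
        intro y hy
        by_cases hy1 : y = 1
        · rw [hy1]; exact one_mem _
        · rw [huniq y (hK hy) x (hK x.2) (hord2 y hy hy1) hx]; exact Subgroup.mem_zpowers _
      have := Subgroup.card_le_of_le hle
      rw [hK4, Nat.card_zpowers, hx] at this
      omega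
    exact ⟨a, ha, ha4, (Subgroup.eq_of_le_of_card_ge (Subgroup.zpowers_le.mpr ha)
      (by rw [Nat.card_zpowers, ha4, hK4])).symm⟩
  obtain ⟨a, haA, ha4, rfl⟩ := key A hA hA4
  obtain ⟨b, hbB, hb4, rfl⟩ := key B hB hB4
  obtain ⟨g, hg, hga⟩ := Cfsg.Agent.Q8.exists_normalizer_conj S e hnc (hA haA) (hB hbB) ha4 hb4
  refine ⟨g, hg, ?_⟩
  rw [MonoidHom.map_zpowers]
  exact (Subgroup.eq_of_le_of_card_ge (Subgroup.zpowers_le.mpr hga) (by
    show Nat.card (Subgroup.zpowers b) ≤ Nat.card (Subgroup.zpowers (g * a * g⁻¹))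
    rw [Nat.card_zpowers, Nat.card_zpowers, Cfsg.Agent.Invol.orderOf_conj, ha4, hb4])).symm

end Cfsg.Agent.S0950
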