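import Cfsg.Statements.S0955
import Cfsg.Agent.Lib.Blocks.FirstMain
import Cfsg.Agent.Lib.Basics.Cores
-- import your own Cfsg.Agent.* helpers here

set_option autoImplicit false
open Cfsg

namespace Cfsg.Agent.S0955

/-- Let D be a defect group of a block of the finite group G relative to a maximal ideal M of the algebraic integers containing the prime p. Then D is the largest normal p-subgroup of its own normalizer: O_p(N_G(D)) = D. -/
theorem result {G : Type*} [Group G] [Finite G] (p : ℕ) [Fact p.Prime] (M : Ideal Cfsg.AlgInt) (hM : Cfsg.IsPModular p M) (B : Set (Cfsg.IrrCharacter G)) (hB : Cfsg.IsPBlock M B) (D : Subgroup G) (hD : Cfsg.IsDefectGroup p M B D) : (Cfsg.pCore p (Subgroup.normalizer (D : Set G))).map (Subgroup.normalizer (D : Set G)).subtype = D := by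
  haveI := hM.2.1.isPrime
  obtain ⟨-, -, -, hDp, -⟩ := Cfsg.Agent.Blocks.defectGroup_spec hD
  obtain ⟨b, hb, hbD, -⟩ := Cfsg.Agent.Blocks.exists_normalizer_block hM hB hD
  set N := Subgroup.normalizer (D : Set G)
  haveI : (Cfsg.pCore p N).Normal := Cfsg.Agent.Basics.pCore_normal p
  have h1 : Cfsg.pCore p N ≤ D.subgroupOf N :=
    Cfsg.Agent.Blocks.normal_le_defect hM hb (Cfsg.Agent.Basics.pCore_isPGroup p) hbD
  have h2 : D.subgroupOf N ≤ Cfsg.pCore p N := by
    haveI : (D.subgroupOf N).Normal :=
      (Subgroup.normal_subgroupOf_iff_le_normalizer Subgroup.le_normalizer).mpr le_rfl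
    exact Cfsg.Agent.Basics.le_pCore (hDp.of_equiv (Subgroup.subgroupOfEquivOfLe Subgroup.le_normalizer).symm)
  rw [le_antisymm h1 h2, Subgroup.map_subgroupOf_eq_of_le Subgroup.le_normalizer]

end Cfsg.Agent.S0955
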