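import Cfsg.Statements.S0975
import Cfsg.Agent.Lib.SmallSimple.BlockSearch

set_option autoImplicit false
open Cfsg

namespace Cfsg.Agent.S0975

/-- No finite simple group has order 3744 = 2^5 * 3^2 * 13. -/
theorem result {G : Type*} [Group G] [Finite G] [IsSimpleGroup G] : Nat.card G ≠ 3744 := by
  intro hN
  haveI : Fact (Nat.Prime 13) := ⟨by norm_num⟩
  obtain ⟨n, e, c, hn, hnm, hn1, he, he1, hnec, hs, -⟩ :=
    SmallSimple.block_data 13 (m := 288) (B := 61) hN (by norm_num) (by norm_num) (by norm_num) (by norm_num)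
  have key : ∀ n ∈ Nat.divisors 288, n % 13 = 1 → n ≠ 1 → ∀ e ∈ Nat.divisors (13 - 1), e ≠ 1 → e ∣ 288 / n →
      SmallSimple.search 3744 13 61 e (e - 1) 1 1 = false := by decide +kernel
  have hd : e ∣ 288 / n := by
    have hn0 : 0 < n := Nat.pos_of_ne_zero fun h => by simp [h] at hnm
    exact ⟨c, by rw [← hnec, Nat.mul_div_cancel_left _ hn0]⟩
  exact Bool.false_ne_true ((key n (Nat.mem_divisors.2 ⟨hn, by norm_num⟩) hnm hn1 e
    (Nat.mem_divisors.2 ⟨he, by norm_num⟩) he1 hd).symm.trans hs)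

end Cfsg.Agent.S0975
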