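import Cfsg.Statements.S0976
import Cfsg.Agent.Lib.SmallSimple.BlockSeven

set_option autoImplicit false
open Cfsg

namespace Cfsg.Agent.S0976

/-- No finite simple group has order 4032 = 2^6 * 3^2 * 7. -/
theorem result {G : Type*} [Group G] [Finite G] [IsSimpleGroup G] : Nat.card G ≠ 4032 := by
  intro hN
  haveI : Fact (Nat.Prime 7) := ⟨by norm_num⟩
  haveI : Fact (Nat.Prime 3) := ⟨by norm_num⟩
  have hnp : ¬ (Nat.card G).Prime := by rw [hN]; norm_num
  have hnc : ¬ IsMulCommutative G := SmallSimple.not_isMulCommutative hnp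
  obtain ⟨n, e, c, hn, hnm, hn1, he, he1, hnec, hs, P, hcard, hNc, hCc⟩ :=
    SmallSimple.block_data 7 (m := 576) (B := 63) hN (by norm_num) (by norm_num) (by norm_num) (by norm_num)
  have hn0 : 0 < n := Nat.pos_of_ne_zero fun h => by simp [h] at hnm
  have key : ∀ n ∈ Nat.divisors 576, n % 7 = 1 → n ≠ 1 → ∀ e ∈ Nat.divisors (7 - 1), e ≠ 1 → e ∣ 576 / n →
      SmallSimple.search 4032 7 63 e (e - 1) 1 1 = true →
      n = 8 ∨ (n = 36 ∧ e = 2) ∨ (n = 64 ∧ e = 3) ∨ (n = 288 ∧ e = 2) := by decide +kernel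
  have hd : e ∣ 576 / n := ⟨c, by rw [← hnec, Nat.mul_div_cancel_left _ hn0]⟩
  have hP : Nat.card P = 7 := by
    simpa using SmallSimple.card_sylow_of_eq (k := 1) (m := 576) P (by rw [hN]; norm_num) (by norm_num)
  rcases key n (Nat.mem_divisors.2 ⟨hn, by norm_num⟩) hnm hn1 e (Nat.mem_divisors.2 ⟨he, by norm_num⟩) he1 hd hs
    with rfl | ⟨rfl, rfl⟩ | ⟨rfl, rfl⟩ | ⟨rfl, rfl⟩
  · have hi : (Subgroup.normalizer ((P : Subgroup G) : Set G)).index = 8 := by
      have h := Sylow.card_eq_index_normalizer P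
      rw [hcard] at h
      exact h.symm
    have hc72 : e * c = 72 := by omega
    have hc7 : ¬ 7 ∣ c := fun h => by
      have h2 := h.trans (Dvd.intro_left e hc72)
      norm_num at h2
    have hc1 := SmallSimple.card_eq_seven_of_index hnc
      (fun h => by rw [h, Subgroup.index_top] at hi; omega) (le_of_eq_of_le hi (by norm_num)) P hP hCc hc7
    subst hc1
    rw [mul_one] at hc72
    subst hc72
    norm_num at he
  · have hc : c = 8 := by omega
    subst hc
    exact SmallSimple.no_dihedral_times_two_group hnc (k := 3) (by norm_num) (by rw [hN]; norm_num) P hP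
      (by rw [hNc]; norm_num) (by rw [hCc]; norm_num)
  · have hc : c = 3 := by omega
    subst hc
    set N := Subgroup.normalizer ((P : Subgroup G) : Set G) with hNdef
    set C := Subgroup.centralizer ((P : Subgroup G) : Set G) with hCdef
    obtain ⟨y0, hy0⟩ := exists_prime_orderOf_dvd_card' (G := C) 3 (by rw [hCc]; norm_num)
    obtain ⟨y, hyC⟩ := y0
    rw [Subgroup.orderOf_mk] at hy0
    have hy1 : y ≠ 1 := fun h => by rw [h, orderOf_one] at hy0; norm_num at hy0
    have hyN : y ∈ N := Subgroup.centralizer_le_normalizer _ hyC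
    have hPN : (P : Subgroup G) ≤ N := Subgroup.le_normalizer
    have hz : IsPGroup 3 (Subgroup.zpowers (⟨y, hyN⟩ : N)) :=
      IsPGroup.of_card (n := 1) (by rw [Nat.card_zpowers, Subgroup.orderOf_mk, hy0, pow_one])
    obtain ⟨R0, hR0⟩ := hz.exists_le_sylow
    have hR0card : Nat.card R0 = 3 ^ 2 :=
      SmallSimple.card_sylow_of_eq (k := 2) (m := 7) R0 (by rw [hNc]; norm_num) (by norm_num)
    have hR : Nat.card ↥((R0 : Subgroup N).map N.subtype) = 3 ^ 2 := by
      rw [Subgroup.card_subtype]; exact hR0card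
    have hle : N ≤ Subgroup.centralizer ({y} : Set G) := by
      have hsup : (P : Subgroup G) ⊔ (R0 : Subgroup N).map N.subtype = N := by
        refine Subgroup.eq_of_le_of_card_ge (sup_le hPN (Subgroup.map_subtype_le _)) ?_
        refine Nat.le_of_dvd Nat.card_pos ?_
        rw [hNc, show 3 * (7 * 3) = 7 * 3 ^ 2 by norm_num]
        refine Nat.Coprime.mul_dvd_of_dvd_of_dvd (by norm_num) ?_ ?_
        · conv_lhs => rw [← hP]
          exact Subgroup.card_dvd_of_le le_sup_left
        · rw [← hR]; exact Subgroup.card_dvd_of_le le_sup_right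
      rw [← hsup, sup_le_iff]
      refine ⟨fun a ha => Subgroup.mem_centralizer_singleton_iff.2
        (Subgroup.mem_centralizer_iff.1 hyC a ha), ?_⟩
      rintro _ ⟨a, ha, rfl⟩
      refine Subgroup.mem_centralizer_singleton_iff.2 ?_
      have hcomm := IsPGroup.isMulCommutative_of_card_eq_prime_sq hR0card
      have h := hcomm.is_comm.comm (⟨a, ha⟩ : R0) ⟨⟨y, hyN⟩, hR0 (Subgroup.mem_zpowers _)⟩
      exact congrArg (fun x : R0 => ((x : N) : G)) h
    have h := SmallSimple.card_sylow_subgroup_mul P _ (hPN.trans hle)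
    rw [← hNdef, inf_eq_left.2 hle, hNc] at h
    have hmod : Nat.card (Sylow 7 (Subgroup.centralizer ({y} : Set G))) % 7 = 1 := card_sylow_modEq_one 7 _
    have hdv : Nat.card (Subgroup.centralizer ({y} : Set G)) ∣ 4032 := hN ▸ Subgroup.card_subgroup_dvd_card _
    rw [← h, show (4032 : ℕ) = 64 * (3 * (7 * 3)) by norm_num] at hdv
    have hdv' := Nat.dvd_of_mul_dvd_mul_right (by norm_num) hdv
    have key2 : ∀ n ∈ Nat.divisors 64, n % 7 = 1 → n = 1 ∨ n = 8 ∨ n = 64 := by decide
    have hidx := Subgroup.card_mul_index (Subgroup.centralizer ({y} : Set G))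
    rw [← h, hN] at hidx
    have hne := SmallSimple.centralizer_singleton_ne_top hnc hy1
    rcases key2 _ (Nat.mem_divisors.2 ⟨hdv', by norm_num⟩) hmod with e | e | e <;> rw [e] at hidx
    · haveI := Fintype.ofFinite G
      exact hnp (CT.card_prime_of_class_prime_pow Nat.prime_two (k := 6) hy1 (by omega))
    · have := SmallSimple.card_eq_seven_of_index hnc hne (by omega) P hP hCc (by norm_num)
      omega
    · exact hne (Subgroup.index_eq_one.1 (by omega))
  · have hc : c = 1 := by omega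
    subst hc
    obtain ⟨s, d, r, hs2, hsd, hsm, hd2, hdd, hde, hsq, hr, -⟩ := SmallSimple.exists_square hnc (p := 7)
      (by norm_num) P hP (by rw [hCc]) (by rw [hNc])
    rw [hN] at hsd hdd hsq hr
    have key3 : ∀ s ∈ Finset.Icc (-63 : ℤ) 63, 2 ≤ s.natAbs → s.natAbs ∣ 4032 → (1 - s) % 7 = 0 →
        2 ≤ (1 + s).natAbs → (1 + s).natAbs ∣ 4032 → s = 8 := by decide +kernel
    subst hde
    have hs8 : s = 8 := key3 s (Finset.mem_Icc.2 ⟨by push_cast at hsq; nlinarith, by push_cast at hsq; nlinarith⟩)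
      hs2 hsd (Int.emod_eq_zero_of_dvd hsm.dvd) hd2 hdd
    subst hs8
    have hr2 : r.natAbs * r.natAbs = 2032128 := by
      have h2 := congrArg Int.natAbs hr
      rw [Int.natAbs_mul] at h2
      rw [h2]; norm_num
    have hsqrt := (Nat.exists_mul_self 2032128).1 ⟨_, hr2⟩
    norm_num at hsqrt

end Cfsg.Agent.S0976
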