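import Cfsg.Statements.S0977
import Cfsg.Agent.Lib.SmallSimple.BlockFrobenius

set_option autoImplicit false
open Cfsg

namespace Cfsg.Agent.S0977

/-- No finite simple group has order 4320 = 2^5 * 3^3 * 5. -/
theorem result {G : Type*} [Group G] [Finite G] [IsSimpleGroup G] : Nat.card G ≠ 4320 := by
  intro hN
  haveI : Fact (Nat.Prime 5) := ⟨by norm_num⟩
  have hnc : ¬ IsMulCommutative G := SmallSimple.not_isMulCommutative (by rw [hN]; norm_num)
  obtain ⟨n, e, c, hn, hnm, hn1, he, he1, hnec, hs, P, hcard, hNc, hCc⟩ :=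
    SmallSimple.block_data 5 (m := 864) (B := 65) hN (by norm_num) (by norm_num) (by norm_num) (by norm_num)
  have hn0 : 0 < n := Nat.pos_of_ne_zero fun h => by simp [h] at hnm
  have key : ∀ n ∈ Nat.divisors 864, n % 5 = 1 → n ≠ 1 → ∀ e ∈ Nat.divisors (5 - 1), e ≠ 1 → e ∣ 864 / n →
      SmallSimple.search 4320 5 65 e (e - 1) 1 1 = true →
      (864 / n / e ≠ 1 → SmallSimple.searchL (SmallSimple.bigCands 4320 5 65) (2 * 5) 4320 5 e (e - 1) 1 1 = false) ∧
      (864 / n / e = 1 → e = 4) := by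
    decide +kernel
  have key2 : SmallSimple.searchFive 4320 65 = false := by decide +kernel
  have hd : e ∣ 864 / n := ⟨c, by rw [← hnec, Nat.mul_div_cancel_left _ hn0]⟩
  obtain ⟨k1, k2⟩ := key n (Nat.mem_divisors.2 ⟨hn, by norm_num⟩) hnm hn1 e
    (Nat.mem_divisors.2 ⟨he, by norm_num⟩) he1 hd hs
  have he0 : 0 < e := Nat.pos_of_ne_zero fun h => by simp [h] at he
  have hP : Nat.card P = 5 := by
    simpa using SmallSimple.card_sylow_of_eq (k := 1) (m := 864) P (by rw [hN]; norm_num) (by norm_num)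
  rw [← hnec, Nat.mul_div_cancel_left _ hn0, Nat.mul_div_cancel_left _ he0] at k1 k2
  by_cases hc : c = 1
  swap
  · exact Bool.false_ne_true ((k1 hc).symm.trans
      (SmallSimple.search_big hnc hN (by norm_num) P hP he1 hNc hCc hc))
  obtain rfl := k2 hc
  subst hc
  exact Bool.false_ne_true (key2.symm.trans
    (SmallSimple.searchFive_eq_true hnc hN (by norm_num) P hP (by rw [hCc]) (by rw [hNc])))

end Cfsg.Agent.S0977
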