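import Cfsg.Statements.S0978
import Cfsg.Agent.Lib.SmallSimple.Order5040
import Cfsg.Agent.Lib.SmallSimple.BlockCongr
import Cfsg.Agent.Lib.SmallSimple.SylowFiveSmall

set_option autoImplicit false
open Cfsg

namespace Cfsg.Agent.S0978

/-- No finite simple group has order 5040 = 2^4 * 3^2 * 5 * 7. -/
theorem result {G : Type*} [Group G] [Finite G] [IsSimpleGroup G] : Nat.card G ≠ 5040 := by
  intro hN
  haveI : Fact (Nat.Prime 2) := ⟨Nat.prime_two⟩
  haveI : Fact (Nat.Prime 3) := ⟨Nat.prime_three⟩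
  haveI : Fact (Nat.Prime 5) := ⟨by norm_num⟩
  haveI : Fact (Nat.Prime 7) := ⟨by norm_num⟩
  have hnc : ¬ IsMulCommutative G := SmallSimple.not_isMulCommutative (by rw [hN]; norm_num)
  obtain ⟨n, e, c, hn, hnm, hn1, he, he1, hnec, hs, P, hcard, hNc, hCc⟩ :=
    SmallSimple.block_data 5 (m := 1008) (B := 70) hN (by norm_num) (by norm_num) (by norm_num) (by norm_num)
  obtain ⟨n', e', c', hn', hnm', hn1', he', he1', hnec', hs', Q, hcard', hNc', hCc'⟩ :=
    SmallSimple.block_data 7 (m := 720) (B := 70) hN (by norm_num) (by norm_num) (by norm_num) (by norm_num)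
  have hn0 : 0 < n := Nat.pos_of_ne_zero fun h => by simp [h] at hnm
  have hn0' : 0 < n' := Nat.pos_of_ne_zero fun h => by simp [h] at hnm'
  have hd : e ∣ 1008 / n := ⟨c, by rw [← hnec, Nat.mul_div_cancel_left _ hn0]⟩
  have hd' : e' ∣ 720 / n' := ⟨c', by rw [← hnec', Nat.mul_div_cancel_left _ hn0']⟩
  have he0 : 0 < e := Nat.pos_of_ne_zero fun h => by simp [h] at he
  have he0' : 0 < e' := Nat.pos_of_ne_zero fun h => by simp [h] at he'
  have hP : Nat.card P = 5 := by
    simpa using SmallSimple.card_sylow_of_eq (k := 1) (m := 1008) P (by rw [hN]; norm_num) (by norm_num)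
  have hQ : Nat.card Q = 7 := by
    simpa using SmallSimple.card_sylow_of_eq (k := 1) (m := 720) Q (by rw [hN]; norm_num) (by norm_num)
  have key : ∀ n ∈ Nat.divisors 1008, n % 5 = 1 → n ≠ 1 → ∀ e ∈ Nat.divisors (5 - 1), e ≠ 1 → e ∣ 1008 / n →
      (1008 / n / e ≠ 1) ∧
      (SmallSimple.searchL (SmallSimple.bigCands 5040 5 70) (2 * 5) 5040 5 e (e - 1) 1 1 = true →
        n = 6 ∨ n = 21 ∨ (n = 36 ∧ e = 4) ∨ (n = 126 ∧ e = 4)) := by
    decide +kernel
  obtain ⟨k1, k2⟩ := key n (Nat.mem_divisors.2 ⟨hn, by norm_num⟩) hnm hn1 e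
    (Nat.mem_divisors.2 ⟨he, by norm_num⟩) he1 hd
  rw [← hnec, Nat.mul_div_cancel_left _ hn0, Nat.mul_div_cancel_left _ he0] at k1
  have hbig := SmallSimple.search_big hnc hN (B := 70) (by norm_num) P hP he1 hNc hCc k1
  rcases k2 hbig with rfl | rfl | ⟨rfl, rfl⟩ | ⟨rfl, rfl⟩
  · have h := SmallSimple.card_dvd_factorial_sylow (p := 5) hnc (by rw [hN]; norm_num)
    rw [hN, hcard] at h
    exact absurd h (by decide)
  · exact SylowFive.card_sylow_five_ne _ G rfl hcard
  all_goals (
    have key' : ∀ n ∈ Nat.divisors 720, n % 7 = 1 → n ≠ 1 → ∀ e ∈ Nat.divisors (7 - 1), e ≠ 1 → e ∣ 720 / n →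
        SmallSimple.search 5040 7 70 e (e - 1) 1 1 = true →
        (720 / n / e ≠ 1 → SmallSimple.searchL (SmallSimple.bigCands 5040 7 70) (2 * 7) 5040 7 e (e - 1) 1 1 = true) →
        n = 8 ∨ (n = 15 ∧ e = 2) ∨ (n = 36 ∧ e = 2) ∨ (n = 120 ∧ e = 2) ∨ (n = 120 ∧ e = 6) := by
      decide +kernel
    have hbig' : 720 / n' / e' ≠ 1 →
        SmallSimple.searchL (SmallSimple.bigCands 5040 7 70) (2 * 7) 5040 7 e' (e' - 1) 1 1 = true := by
      rw [← hnec', Nat.mul_div_cancel_left _ hn0', Nat.mul_div_cancel_left _ he0']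
      exact SmallSimple.search_big hnc hN (B := 70) (by norm_num) Q hQ he1' hNc' hCc'
    have h8 : n' ≠ 8 := by
      rintro rfl
      have hi : (Subgroup.normalizer ((Q : Subgroup G) : Set G)).index = 8 := by
        have h := Sylow.card_eq_index_normalizer Q
        rw [hcard'] at h
        exact h.symm
      have hc90 : e' * c' = 90 := by omega
      have hc7 : ¬ 7 ∣ c' := fun h => by
        have h2 := h.trans (Dvd.intro_left e' hc90)
        norm_num at h2
      have hc1 := SmallSimple.card_eq_seven_of_index hnc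
        (fun h => by rw [h, Subgroup.index_top] at hi; omega) (le_of_eq_of_le hi (by norm_num)) Q hQ hCc' hc7
      subst hc1
      rw [mul_one] at hc90
      subst hc90
      norm_num at he'
    have hcases := (key' n' (Nat.mem_divisors.2 ⟨hn', by norm_num⟩) hnm' hn1' e'
      (Nat.mem_divisors.2 ⟨he', by norm_num⟩) he1' hd' hs' hbig').resolve_left h8)
  · -- `C(P)` has order 35
    have hc : c = 7 := by omega
    subst hc
    have h57 : 5 ∣ 7 * c' := by
      rw [← hCc']
      refine SmallSimple5040.dvd_centralizer_sylow (p := 5) (q := 7) Q hQ P hP ?_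
      rw [hCc]; norm_num
    rcases hcases with ⟨rfl, rfl⟩ | ⟨rfl, rfl⟩ | ⟨rfl, rfl⟩ | ⟨rfl, rfl⟩
    · exfalso; omega
    · obtain rfl : c' = 10 := by omega
      exact SmallSimple5040.no_centralizer_35 hnc hN P hP (by rw [hCc]) (by rw [hNc]) Q hQ (by rw [hCc'])
        (by rw [hNc'])
    · exfalso; omega
    · exfalso; omega
  · -- `C(P)` has order 10
    have hc : c = 2 := by omega
    subst hc
    rcases hcases with ⟨rfl, rfl⟩ | ⟨rfl, rfl⟩ | ⟨rfl, rfl⟩ | ⟨rfl, rfl⟩
    · obtain rfl : c' = 24 := by omega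
      exact SmallSimple5040.no_three hN P hP (by rw [hCc]) Q hQ (k := 336) (by rw [hNc']) (by norm_num)
        (by rw [hCc']; norm_num)
    · obtain rfl : c' = 10 := by omega
      have h : 7 ∣ 5 * 2 := by
        rw [← hCc]
        refine SmallSimple5040.dvd_centralizer_sylow (p := 7) (q := 5) P hP Q hQ ?_
        rw [hCc']; norm_num
      norm_num at h
    · obtain rfl : c' = 3 := by omega
      exact SmallSimple5040.no_three hN P hP (by rw [hCc]) Q hQ (k := 42) (by rw [hNc']) (by norm_num)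
        (by rw [hCc']; norm_num)
    · obtain rfl : c' = 1 := by omega
      have hq : ∀ χ : IrrCharacter G,
          decide (charDegree (χ : G → ℂ) % 7 = 0 ∨ charDegree (χ : G → ℂ) % 7 = 1 ∨ charDegree (χ : G → ℂ) % 7 = 6) = true :=
        fun χ => decide_eq_true (SmallSimple.deg_mod_cases hnc Q hQ (by rw [hCc']) (by rw [hNc']) χ)
      have h := SmallSimple.search_big_filter hnc hN (B := 70) (by norm_num) P hP he1 hNc hCc k1
        (fun d => decide (d % 7 = 0 ∨ d % 7 = 1 ∨ d % 7 = 6)) hq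
      have key3 : SmallSimple.searchL ((SmallSimple.bigCands 5040 5 70).filter
          fun s => decide (s.natAbs % 7 = 0 ∨ s.natAbs % 7 = 1 ∨ s.natAbs % 7 = 6)) (2 * 5) 5040 5 4 (4 - 1) 1 1 = false := by
        decide +kernel
      exact Bool.false_ne_true (key3.symm.trans h)

end Cfsg.Agent.S0978
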