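import Cfsg.Statements.S0980
import Cfsg.Agent.Lib.SmallSimple.BlockRigid
import Cfsg.Agent.Lib.SmallSimple.BlockDihedral

set_option autoImplicit false
open Cfsg

namespace Cfsg.Agent.S0980

/-- No finite simple group has order 5760 = 2^7 * 3^2 * 5. -/
theorem result {G : Type*} [Group G] [Finite G] [IsSimpleGroup G] : Nat.card G ≠ 5760 := by
  intro hN
  haveI : Fact (Nat.Prime 5) := ⟨by norm_num⟩
  haveI : Fact (Nat.Prime 2) := ⟨Nat.prime_two⟩
  have hnc : ¬ IsMulCommutative G := SmallSimple.not_isMulCommutative (by rw [hN]; norm_num)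
  obtain ⟨n, e, c, hn, hnm, hn1, he, he1, hnec, hs, P, hcard, hNc, hCc⟩ :=
    SmallSimple.block_data 5 (m := 1152) (B := 75) hN (by norm_num) (by norm_num) (by norm_num) (by norm_num)
  have hn0 : 0 < n := Nat.pos_of_ne_zero fun h => by simp [h] at hnm
  have key : ∀ n ∈ Nat.divisors 1152, n % 5 = 1 → n ≠ 1 → ∀ e ∈ Nat.divisors (5 - 1), e ≠ 1 → e ∣ 1152 / n →
      SmallSimple.search 5760 5 75 e (e - 1) 1 1 = true →
      (1152 / n / e ≠ 1 → SmallSimple.searchL (SmallSimple.bigCands 5760 5 75) (2 * 5) 5760 5 e (e - 1) 1 1 = false) ∧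
      (1152 / n / e = 1 → e = 2) := by
    decide +kernel
  have hd : e ∣ 1152 / n := ⟨c, by rw [← hnec, Nat.mul_div_cancel_left _ hn0]⟩
  obtain ⟨k1, k2⟩ := key n (Nat.mem_divisors.2 ⟨hn, by norm_num⟩) hnm hn1 e
    (Nat.mem_divisors.2 ⟨he, by norm_num⟩) he1 hd hs
  have he0 : 0 < e := Nat.pos_of_ne_zero fun h => by simp [h] at he
  have hP : Nat.card P = 5 := by
    simpa using SmallSimple.card_sylow_of_eq (k := 1) (m := 1152) P (by rw [hN]; norm_num) (by norm_num)
  rw [← hnec, Nat.mul_div_cancel_left _ hn0, Nat.mul_div_cancel_left _ he0] at k1 k2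
  by_cases hc : c = 1
  swap
  · exact Bool.false_ne_true ((k1 hc).symm.trans
      (SmallSimple.search_big hnc hN (by norm_num) P hP he1 hNc hCc hc))
  obtain rfl := k2 hc
  subst hc
  obtain ⟨s, d, r, hs2, hsd, hsm, hd2, hdd, hde, hsq, hr, hall⟩ := SmallSimple.exists_square hnc (p := 5)
    le_rfl P hP (by rw [hCc]) (by rw [hNc])
  rw [hN] at hsd hdd hsq hr hall
  have key3 : ∀ s ∈ Finset.Icc (-75 : ℤ) 75, 2 ≤ s.natAbs → s.natAbs ∣ 5760 → (1 - s) % 5 = 0 →
      2 ≤ (1 + s).natAbs → (1 + s).natAbs ∣ 5760 → s = -4 ∨ s = -9 := by decide +kernel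
  subst hde
  rcases key3 s (Finset.mem_Icc.2 ⟨by push_cast at hsq; nlinarith, by push_cast at hsq; nlinarith⟩)
      hs2 hsd (Int.emod_eq_zero_of_dvd hsm.dvd) hd2 hdd with rfl | rfl
  · have hr2 : r.natAbs * r.natAbs = 345600 := by
      have h2 := congrArg Int.natAbs hr
      rw [Int.natAbs_mul] at h2
      rw [h2]; norm_num
    have hsqrt := (Nat.exists_mul_self 345600).1 ⟨_, hr2⟩
    norm_num at hsqrt
  · obtain ⟨S⟩ : Nonempty (Sylow 2 G) := inferInstance
    have hS : Nat.card S = 2 ^ 7 :=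
      SmallSimple.card_sylow_of_eq (k := 7) (m := 45) S (by rw [hN]; norm_num) (by norm_num)
    haveI : Nontrivial (S : Subgroup G) := Finite.one_lt_card_iff_nontrivial.1 (by rw [hS]; norm_num)
    haveI := S.2.center_nontrivial
    obtain ⟨w, hw⟩ := exists_prime_orderOf_dvd_card' (G := Subgroup.center (S : Subgroup G)) 2 (by
      obtain ⟨j, hj⟩ := (S.2.to_subgroup (Subgroup.center (S : Subgroup G))).exists_card_eq
      rw [hj]
      refine dvd_pow_self 2 fun h0 => ?_
      rw [h0, pow_zero] at hj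
      exact absurd hj (Finite.one_lt_card_iff_nontrivial.2 inferInstance).ne')
    set z : G := ((w : (S : Subgroup G)) : G) with hzdef
    obtain ⟨A, hA, hAr⟩ := hall z (by rw [hzdef, Subgroup.orderOf_coe, Subgroup.orderOf_coe, hw])
    have hle : (S : Subgroup G) ≤ Subgroup.centralizer ({z} : Set G) := fun s hs =>
      Subgroup.mem_centralizer_singleton_iff.2
        (congrArg Subtype.val (Subgroup.mem_center_iff.1 w.2 ⟨s, hs⟩))
    have hi : (Subgroup.centralizer ({z} : Set G)).index ≤ 45 := by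
      obtain ⟨j, hj⟩ := Subgroup.card_dvd_of_le hle
      have h := Subgroup.card_mul_index (Subgroup.centralizer ({z} : Set G))
      rw [hN, hj, hS, mul_assoc, show (5760 : ℕ) = 2 ^ 7 * 45 by norm_num] at h
      exact Nat.le_of_dvd (by norm_num) ⟨j, by rw [mul_comm]; exact (Nat.eq_of_mul_eq_mul_left (by norm_num) h).symm⟩
    set i : ℕ := (Subgroup.centralizer ({z} : Set G)).index
    have h1 : -9 ≤ A ∧ A ≤ 9 := by simp at hA; omega
    have h2 : ((i : ℤ) * (-9 - A)) ^ 2 ≤ 810 ^ 2 := by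
      have hi' : (i : ℤ) ≤ 45 := by exact_mod_cast hi
      have hi0 : (0 : ℤ) ≤ i := Int.natCast_nonneg i
      refine sq_le_sq' ?_ ?_ <;> nlinarith
    rw [hAr] at h2
    norm_num at h2

end Cfsg.Agent.S0980
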