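import Cfsg.Statements.S0981
import Cfsg.Agent.S0999
import Cfsg.Agent.Lib.SmallSimple.RecognizeEven
import Cfsg.Agent.Lib.SmallSimple.RecognizePrime

set_option autoImplicit false
open Cfsg

namespace Cfsg.Agent.S0981

/-- A simple group of order 4080 is isomorphic to the projective special linear group of dimension 2 over the field with 16 elements. -/
theorem result {G : Type*} [Group G] [Finite G] [IsSimpleGroup G] (h : Nat.card G = 4080) {F : Type*} [Field F] [Fintype F] (hF : Fintype.card F = 16) : Nonempty (G ≃* Matrix.ProjectiveSpecialLinearGroup (Fin 2) F) := by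
  have hnc : ¬ IsCyclic G := fun hc => by
    have := SmallSimple.not_isMulCommutative (G := G) (by rw [h]; norm_num)
    exact this ⟨⟨fun a b => (IsCyclic.commGroup (α := G)).mul_comm a b⟩⟩
  rcases S0999.result hnc 17 (by norm_num) (by rw [h]; norm_num) (by rw [h]; norm_num) with
    ⟨K, _, _, hK, -, ⟨e⟩⟩ | ⟨m, K, _, _, hK, hm, -, ⟨e⟩⟩
  · exfalso
    have h2 := RecognizePSL.natCard_PSL2 (F := K) (by rw [hK])
    rw [← Nat.card_congr e.toEquiv, h, hK] at h2
    norm_num at h2
  · obtain ⟨e2⟩ := RecognizeEven.psl_congr (FiniteField.ringEquivOfCardEq (K := K) (K' := F) (by omega))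
    exact ⟨e.trans e2⟩

end Cfsg.Agent.S0981
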