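import Cfsg.Statements.S0982
import Cfsg.Agent.Lib.SmallSimple.RecognizePrime
import Mathlib


set_option autoImplicit false
open Cfsg

namespace Cfsg.Agent.S0982

set_option maxRecDepth 8000
set_option synthInstance.maxSize 2000
set_option synthInstance.maxHeartbeats 200000

theorem check : RecognizePSL.Cover (ZMod 23) 2 5 11 ∧
    RecognizePSL.Check (ZMod 23) 2 5 11 (fun _ => true) := by
  unfold RecognizePSL.Cover RecognizePSL.Check
  decide +kernel

open Subgroup

/-- A simple group of order 6072 is isomorphic to the projective special linear group of dimension 2 over the field with 23 elements. -/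
theorem result {G : Type*} [Group G] [Finite G] [IsSimpleGroup G] (h : Nat.card G = 6072) {F : Type*} [Field F] [Fintype F] (hF : Fintype.card F = 23) : Nonempty (G ≃* Matrix.ProjectiveSpecialLinearGroup (Fin 2) F) := by
  haveI : Fact (Nat.Prime 23) := ⟨by norm_num⟩
  have hnc : ¬ IsMulCommutative G := SmallSimple.not_isMulCommutative (by rw [h]; norm_num)
  obtain ⟨P⟩ : Nonempty (Sylow 23 G) := inferInstance
  have hPc : Nat.card P = 23 := by
    rw [SmallSimple.card_sylow_of_eq (k := 1) (m := 264) P (by rw [h]; norm_num) (by norm_num), pow_one]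
  have hdvd : Nat.card (Sylow 23 G) ∣ 264 := by
    have h1 := P.card_dvd_index
    have h2 := Subgroup.card_mul_index (P : Subgroup G)
    rw [hPc, h] at h2
    rwa [show (P : Subgroup G).index = 264 by omega] at h1
  have hn : Nat.card (Sylow 23 G) = 23 + 1 := by
    have key : ∀ n ∈ Nat.divisors 264, n % 23 = 1 → n = 1 ∨ n = 23 + 1 := by decide
    exact (key _ (Nat.mem_divisors.2 ⟨hdvd, by norm_num⟩) (card_sylow_modEq_one 23 G)).resolve_left
      (SmallSimple.card_sylow_ne_one hnc (by rw [h]; norm_num))
  exact RecognizePSL.mulEquiv_PSL_prime hnc hn (m := 11) rfl (by rw [h]) (2 : ZMod 23) 5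
    (fun _ => true) check.1 check.2 (fun _ _ _ _ _ _ _ _ _ _ _ _ => rfl) hF

end Cfsg.Agent.S0982
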