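import Cfsg.Statements.S0983
import Cfsg.Agent.Lib.SmallSimple.RangeHigh
import Cfsg.Agent.Lib.SmallSimple.Order5400
import Cfsg.Agent.S0976
import Cfsg.Agent.S0977
import Cfsg.Agent.S0978
import Cfsg.Agent.S0980

set_option autoImplicit false
open Cfsg

namespace Cfsg.Agent.S0983

/-- A non-abelian finite simple group of order greater than 3640 and at most 6232 has order 4080, 5616, 6048 or 6072. -/
theorem result {G : Type*} [Group G] [Finite G] [IsSimpleGroup G] (hG : ¬ IsMulCommutative G) (h1 : 3640 < Nat.card G) (h2 : Nat.card G ≤ 6232) : Nat.card G = 4080 ∨ Nat.card G = 5616 ∨ Nat.card G = 6048 ∨ Nat.card G = 6072 := by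
  have hm := SmallSimple.Range.rangeHigh hG (by omega) h2
  have a1 : Nat.card G ≠ 4032 := S0976.result
  have a2 : Nat.card G ≠ 4320 := S0977.result
  have a3 : Nat.card G ≠ 5040 := S0978.result
  have a4 : Nat.card G ≠ 5760 := S0980.result
  have b1 := SmallSimple.not_card_4500 hG
  have b2 := SmallSimple.not_card_4620 hG
  have b3 := SmallSimple.not_card_4900 hG
  have b4 := SmallSimple.not_card_5292 hG
  have b5 := SmallSimple.not_card_5400 hG
  have b6 := SmallSimple.not_card_5460 hG
  have b7 := SmallSimple.not_card_6000 hG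
  simp only [List.mem_cons, List.not_mem_nil, or_false] at hm
  omega

end Cfsg.Agent.S0983
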