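import Cfsg.Statements.S0986
import Cfsg.Agent.Lib.SmallSimple.SylowFive
import Mathlib


set_option autoImplicit false
open Cfsg

namespace Cfsg.Agent.S0986

open Subgroup

/-- Let P and Q be distinct Sylow p-subgroups of a finite group G chosen so that the order of P ∩ Q is as large as possible among intersections of two distinct Sylow p-subgroups, and let N be the normalizer of P ∩ Q. Then N has more than one Sylow p-subgroup, any two distinct Sylow p-subgroups of N intersect exactly in P ∩ Q, and each Sylow p-subgroup of N lies in exactly one Sylow p-subgroup of G. -/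
theorem result {G : Type*} [Group G] [Finite G] (p : ℕ) [Fact p.Prime] (P Q : Sylow p G) (hPQ : P ≠ Q) (hmax : ∀ P' Q' : Sylow p G, P' ≠ Q' → Nat.card ↥((P' : Subgroup G) ⊓ (Q' : Subgroup G)) ≤ Nat.card ↥((P : Subgroup G) ⊓ (Q : Subgroup G))) : 1 < Nat.card (Sylow p ↥(Subgroup.normalizer (((P : Subgroup G) ⊓ (Q : Subgroup G) : Subgroup G) : Set G))) ∧ (∀ S T : Sylow p ↥(Subgroup.normalizer (((P : Subgroup G) ⊓ (Q : Subgroup G) : Subgroup G) : Set G)), S ≠ T → (S : Subgroup _) ⊓ (T : Subgroup _) = ((P : Subgroup G) ⊓ (Q : Subgroup G)).subgroupOf (Subgroup.normalizer (((P : Subgroup G) ⊓ (Q : Subgroup G) : Subgroup G) : Set G))) ∧ ∀ S : Sylow p ↥(Subgroup.normalizer (((P : Subgroup G) ⊓ (Q : Subgroup G) : Subgroup G) : Set G)), ∃! T : Sylow p G, (S : Subgroup _).map (Subgroup.normalizer (((P : Subgroup G) ⊓ (Q : Subgroup G) : Subgroup G) : Set G)).subtype ≤ (T : Subgroup G) := by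
  set D := (P : Subgroup G) ⊓ (Q : Subgroup G) with hD
  set N := normalizer (D : Set G) with hN
  -- a `p`-group properly above `D` is in one Sylow subgroup
  have huniq : ∀ (H : Subgroup G) (R R' : Sylow p G), D ≤ H → H ≠ D → H ≤ R → H ≤ R' → R = R' := by
    intro H R R' hDH hne hR hR'
    by_contra h
    exact hne (eq_of_le_of_card_ge hDH
      ((card_le_of_le (le_inf hR hR')).trans (hmax R R' h))).symm
  have hstep : ∀ R : Sylow p G, D ≤ R → D ≠ (R : Subgroup G) →
      D ≤ (R : Subgroup G) ⊓ N ∧ (R : Subgroup G) ⊓ N ≠ D := by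
    intro R hDR hne
    refine ⟨le_inf hDR le_normalizer, fun heq => ?_⟩
    haveI : Group.IsNilpotent ↥(R : Subgroup G) := R.isPGroup'.isNilpotent
    have hlt : D.subgroupOf R < ⊤ := by
      rw [lt_top_iff_ne_top, Ne, subgroupOf_eq_top]
      exact fun h => hne (le_antisymm hDR h)
    obtain ⟨y, hy, hy'⟩ := SetLike.exists_of_lt
      (Group.normalizerCondition_of_isNilpotent (D.subgroupOf R) hlt)
    rw [mem_subgroupOf] at hy'
    refine hy' (heq ▸ mem_inf.2 ⟨y.2, mem_normalizer_iff.2 fun d => ⟨fun hd => ?_, fun hd => ?_⟩⟩)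
    · exact (mem_normalizer_iff.1 hy ⟨d, hDR hd⟩).1 hd
    · have h1 : (y : G)⁻¹ * ((y : G) * d * (y : G)⁻¹) * y ∈ (R : Subgroup G) :=
        mul_mem (mul_mem (inv_mem y.2) (hDR hd)) y.2
      have hdR : d ∈ (R : Subgroup G) := by simpa [mul_assoc] using h1
      exact (mem_normalizer_iff.1 hy ⟨d, hdR⟩).2 hd
  have hDP : D ≠ (P : Subgroup G) := fun h => hPQ
    (Sylow.ext ((eq_of_le_of_card_ge (h ▸ inf_le_right) (by rw [P.card_eq_multiplicity,
      Q.card_eq_multiplicity]))))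
  have hDQ : D ≠ (Q : Subgroup G) := fun h => hPQ
    (Sylow.ext ((eq_of_le_of_card_ge (h ▸ inf_le_left) (by rw [P.card_eq_multiplicity,
      Q.card_eq_multiplicity]))).symm)
  obtain ⟨hP1, hP2⟩ := hstep P inf_le_left hDP
  obtain ⟨hQ1, hQ2⟩ := hstep Q inf_le_right hDQ
  have hDN : IsPGroup p (D.subgroupOf N) :=
    (IsPGroup.to_le P.isPGroup' inf_le_left).comap_of_injective N.subtype N.subtype_injective
  haveI : (D.subgroupOf N).Normal := normal_subgroupOf_of_le_normalizer (le_refl _)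
  have hDS : ∀ S : Sylow p N, D.subgroupOf N ≤ S := by
    intro S x hx
    obtain ⟨S₀, hS₀⟩ := IsPGroup.exists_le_sylow hDN
    obtain ⟨c, rfl⟩ := MulAction.exists_smul_eq N S₀ S
    refine ⟨c⁻¹ * x * c, hS₀ ?_, ?_⟩
    · have h := (inferInstance : (D.subgroupOf N).Normal).conj_mem x hx c⁻¹
      rwa [inv_inv] at h
    · show c * (c⁻¹ * x * c) * c⁻¹ = x
      group
  have hup : ∀ S : Sylow p N, D ≤ (S : Subgroup N).map N.subtype ∧
      (S : Subgroup N).map N.subtype ≠ D := by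
    intro S
    refine ⟨fun d hd => ⟨⟨d, le_normalizer hd⟩, hDS S hd, rfl⟩, fun h => ?_⟩
    have hPp : IsPGroup p (((P : Subgroup G) ⊓ N).subgroupOf N) :=
      (IsPGroup.to_le P.isPGroup' inf_le_left).comap_of_injective N.subtype N.subtype_injective
    obtain ⟨S₀, hS₀⟩ := hPp.exists_le_sylow
    obtain ⟨c, hc⟩ := MulAction.exists_smul_eq N S S₀
    refine hP2 (le_antisymm (fun x hx => ?_) hP1)
    have h1 : (⟨x, hx.2⟩ : N) ∈ S₀ := hS₀ hx
    rw [← hc] at h1
    obtain ⟨z, hz, hzx⟩ := h1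
    have h2 : (z : G) ∈ D := h ▸ ⟨z, hz, rfl⟩
    rw [show x = (c : G) * z * (c : G)⁻¹ from (congrArg Subtype.val hzx).symm]
    exact (mem_normalizer_iff.1 c.2 z).1 h2
  refine ⟨?_, ?_, ?_⟩
  · by_contra hlt
    have h1 : Nat.card (Sylow p N) = 1 := by
      have : 0 < Nat.card (Sylow p N) := Nat.card_pos
      omega
    haveI := (Nat.card_eq_one_iff_unique.1 h1).1
    obtain ⟨S⟩ : Nonempty (Sylow p N) := inferInstance
    obtain ⟨R, hR⟩ := (S.isPGroup'.map N.subtype).exists_le_sylow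
    have hin : ∀ X : Sylow p G, (X : Subgroup G) ⊓ N ≤ R := by
      intro X x hx
      obtain ⟨S₀, hS₀⟩ := ((IsPGroup.to_le X.isPGroup'
        (inf_le_left : (X : Subgroup G) ⊓ N ≤ X)).comap_of_injective
          N.subtype N.subtype_injective).exists_le_sylow
      rw [Subsingleton.elim S₀ S] at hS₀
      exact hR ⟨⟨x, hx.2⟩, hS₀ hx, rfl⟩
    exact hPQ ((huniq _ P R hP1 hP2 inf_le_left (hin P)).trans
      (huniq _ Q R hQ1 hQ2 inf_le_left (hin Q)).symm)
  · intro S T hST
    obtain ⟨R, hR⟩ := (S.isPGroup'.map N.subtype).exists_le_sylow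
    obtain ⟨R', hR'⟩ := (T.isPGroup'.map N.subtype).exists_le_sylow
    have hne : R ≠ R' := by
      rintro rfl
      have hp : IsPGroup p ((R : Subgroup G).subgroupOf N) :=
        R.isPGroup'.comap_of_injective N.subtype N.subtype_injective
      exact hST (Sylow.ext ((S.is_maximal' hp fun x hx => hR ⟨x, hx, rfl⟩).symm.trans
        (T.is_maximal' hp fun x hx => hR' ⟨x, hx, rfl⟩)))
    refine le_antisymm ?_ (le_inf (hDS S) (hDS T))
    intro x hx
    have hD' : D ≤ (R : Subgroup G) ⊓ R' :=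
      le_inf ((hup S).1.trans hR) ((hup T).1.trans hR')
    have heq := eq_of_le_of_card_ge hD' (hmax R R' hne)
    show (x : G) ∈ D
    rw [heq]
    exact ⟨hR ⟨x, hx.1, rfl⟩, hR' ⟨x, hx.2, rfl⟩⟩
  · intro S
    obtain ⟨R, hR⟩ := (S.isPGroup'.map N.subtype).exists_le_sylow
    exact ⟨R, hR, fun R' hR' => huniq _ R' R (hup S).1 (hup S).2 hR' hR⟩

end Cfsg.Agent.S0986
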