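import Cfsg.Statements.S0988
import Cfsg.Agent.Lib.SmallSimple.Basic
import Cfsg.Agent.S0144
import Mathlib


set_option autoImplicit false
open Cfsg

namespace Cfsg.Agent.S0988

open Subgroup

theorem dvd_pred_sq {G : Type*} [Group G] [Finite G] (p t : ℕ) (hp : p.Prime) [Fact t.Prime]
    (P : Subgroup G) (hP : Nat.card P = p ^ 2) {g : G} (hg : g ∈ normalizer (P : Set G))
    (hgc : g ∉ centralizer (P : Set G)) (ho : orderOf g = t) :
    t ∣ p ^ 2 - 1 ∨ t ∣ p * (p - 1) := by
  classical
  let f : MulAut P := P.normalizerMonoidHom ⟨g, hg⟩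
  have hf1 : f ≠ 1 := fun h => hgc (by
    have : (⟨g, hg⟩ : normalizer (P : Set G)) ∈ P.normalizerMonoidHom.ker := h
    rwa [normalizerMonoidHom_ker, mem_subgroupOf] at this)
  have hft : orderOf f = t := by
    have h1 : orderOf f ∣ t := by
      have := orderOf_map_dvd P.normalizerMonoidHom (⟨g, hg⟩ : normalizer (P : Set G))
      rwa [← orderOf_coe ⟨g, hg⟩, ho] at this
    rcases (Nat.dvd_prime (Fact.out : t.Prime)).1 h1 with h | h
    · exact absurd (orderOf_eq_one_iff.1 h) hf1
    · exact h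
  have hz : IsPGroup t (zpowers f) := IsPGroup.of_card (n := 1) (by rw [Nat.card_zpowers, hft, pow_one])
  let Fx : Subgroup P := MonoidHom.eqLocus f.toMonoidHom (MonoidHom.id P)
  have hfix : MulAction.fixedPoints (zpowers f) P = (Fx : Set P) := by
    ext x
    constructor
    · intro h
      exact h ⟨f, mem_zpowers f⟩
    · rintro h ⟨y, k, rfl⟩
      show (f ^ k) • x = x
      have hx : f ∈ MulAction.stabilizer (MulAut P) x := h
      exact zpow_mem hx k
  have hmod : p ^ 2 ≡ Nat.card Fx [MOD t] := by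
    have h := hz.card_modEq_card_fixedPoints P
    rw [hP, hfix] at h
    exact h
  obtain ⟨k, hk, hFx⟩ := (Nat.dvd_prime_pow hp).1 (hP ▸ card_subgroup_dvd_card Fx)
  rw [hFx] at hmod
  interval_cases k
  · exact Or.inl ((Nat.modEq_iff_dvd' (Nat.one_le_pow _ _ hp.pos)).1 (by simpa using hmod.symm))
  · refine Or.inr ?_
    have := (Nat.modEq_iff_dvd' (Nat.le_self_pow two_ne_zero p)).1 (by simpa using hmod.symm)
    rwa [Nat.mul_sub_one, ← pow_two]
  · refine absurd ?_ hf1
    have htop : Fx = ⊤ := eq_top_of_card_eq Fx (by rw [hFx, hP])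
    refine MulEquiv.ext fun x => ?_
    have : x ∈ Fx := htop ▸ mem_top x
    exact this

theorem core {G : Type*} [Group G] [Finite G] [IsSimpleGroup G] (hna : ¬ IsMulCommutative G)
    (p q r : ℕ) (hp : p.Prime) (hq : q.Prime) (hr : r.Prime) (hpq : p ≠ q) (hpr : p ≠ r)
    (hqr : q < r) (hG : Nat.card G = p ^ 2 * q * r) : Nat.card G = 60 := by
  haveI : Fact p.Prime := ⟨hp⟩
  haveI : Fact q.Prime := ⟨hq⟩
  haveI : Fact r.Prime := ⟨hr⟩
  have hndvd : ∀ {s a b : ℕ}, s.Prime → a.Prime → b.Prime → s ≠ a → s ≠ b → ¬ s ∣ a * b := by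
    intro s a b hs ha hb hsa hsb h
    rcases (Nat.Prime.dvd_mul hs).1 h with h | h
    · exact hsa ((Nat.prime_dvd_prime_iff_eq hs ha).1 h)
    · exact hsb ((Nat.prime_dvd_prime_iff_eq hs hb).1 h)
  have hprimes : ∀ s : ℕ, s.Prime → s ∣ Nat.card G → s = p ∨ s = q ∨ s = r := by
    intro s hs h
    rw [hG] at h
    rcases (Nat.Prime.dvd_mul hs).1 h with h | h
    · rcases (Nat.Prime.dvd_mul hs).1 h with h | h
      · exact Or.inl ((Nat.prime_dvd_prime_iff_eq hs hp).1 (hs.dvd_of_dvd_pow h))
      · exact Or.inr (Or.inl ((Nat.prime_dvd_prime_iff_eq hs hq).1 h))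
    · exact Or.inr (Or.inr ((Nat.prime_dvd_prime_iff_eq hs hr).1 h))
  obtain ⟨P⟩ : Nonempty (Sylow p G) := inferInstance
  obtain ⟨Q⟩ : Nonempty (Sylow q G) := inferInstance
  have hPc : Nat.card P = p ^ 2 := SmallSimple.card_sylow_of_eq P (by rw [hG, mul_assoc])
    (hndvd hp hq hr hpq hpr)
  have hQc : Nat.card Q = q := by
    rw [SmallSimple.card_sylow_of_eq (k := 1) (m := p * p * r) Q (by rw [hG]; ring) (fun h => by
      rcases (Nat.Prime.dvd_mul hq).1 h with h | h
      · exact hndvd hq hp hp hpq.symm hpq.symm h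
      · exact hqr.ne ((Nat.prime_dvd_prime_iff_eq hq hr).1 h)), pow_one]
  -- the smallest prime is `p`
  have hpq' : p < q := by
    by_contra hle
    obtain ⟨e, he, he1, heC⟩ := SmallSimple.sylow_relIndex hna Q hQc
    obtain ⟨s, hs, hse⟩ := Nat.exists_prime_and_dvd he1
    have hsG : s ∣ Nat.card G := (hse.trans (Dvd.intro _ heC)).trans (card_subgroup_dvd_card _)
    have hsq : s ≤ q - 1 := Nat.le_of_dvd (by have := hq.two_le; omega) (hse.trans he)
    have := hq.two_le
    rcases hprimes s hs hsG with rfl | rfl | rfl <;> omega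
  -- an element of `N(P)` acting nontrivially on `P`
  have hab : IsMulCommutative (P : Subgroup G) :=
    ⟨⟨IsPGroup.commutative_of_card_eq_prime_sq hPc⟩⟩
  have hPC : (P : Subgroup G) ≤ centralizer ((P : Subgroup G) : Set G) := fun x hx =>
    mem_centralizer_iff.2 fun y hy => congrArg Subtype.val (hab.is_comm.comm ⟨y, hy⟩ ⟨x, hx⟩)
  set C := centralizer ((P : Subgroup G) : Set G)
  set N := normalizer ((P : Subgroup G) : Set G)
  set e := C.relIndex N
  have heC : e * Nat.card C = Nat.card N := SmallSimple.card_normalizer_eq _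
  have he1 : e ≠ 1 := fun h => SmallSimple.not_normalizer_le_centralizer hna
    (hG ▸ Dvd.intro _ (by rw [pow_two, mul_assoc p p q, mul_assoc p])) P (relIndex_eq_one.1 h)
  obtain ⟨t, ht, hte⟩ := Nat.exists_prime_and_dvd he1
  haveI : Fact t.Prime := ⟨ht⟩
  have htN : t ∣ Nat.card N := hte.trans (Dvd.intro _ heC)
  have hsqG : ¬ t * t ∣ Nat.card G → ∃ g : G, g ∈ N ∧ g ∉ C ∧ orderOf g = t := by
    intro ht2
    obtain ⟨g, hg⟩ := exists_prime_orderOf_dvd_card' (G := N) t htN
    refine ⟨g, g.2, fun hgC => ht2 ?_, by rw [orderOf_coe, hg]⟩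
    have h1 : t ∣ Nat.card C := by
      have := orderOf_dvd_natCard C hgC
      rwa [orderOf_coe, hg] at this
    exact (Nat.mul_dvd_mul hte h1).trans (heC ▸ card_subgroup_dvd_card N)
  have htp : t ≠ p := by
    rintro rfl
    have h3 : t ^ 3 ∣ Nat.card G := by
      have h1 : t ^ 2 ∣ Nat.card C := hPc ▸ card_dvd_of_le hPC
      rw [pow_succ']
      exact (Nat.mul_dvd_mul hte h1).trans (heC ▸ card_subgroup_dvd_card N)
    rw [hG, pow_succ, mul_assoc] at h3
    exact hndvd hp hq hr hpq hpr (Nat.dvd_of_mul_dvd_mul_left (pow_pos hp.pos 2) h3)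
  have htqr : t = q ∨ t = r := (hprimes t ht (htN.trans (card_subgroup_dvd_card _))).resolve_left htp
  obtain ⟨g, hgN, hgC, hgo⟩ := hsqG (by
    intro h2
    rw [hG, mul_assoc] at h2
    have hcop : Nat.Coprime (t * t) (p ^ 2) := Nat.Coprime.pow_right 2
      (Nat.Coprime.mul_left ((Nat.coprime_primes ht hp).2 htp) ((Nat.coprime_primes ht hp).2 htp))
    have h3 := hcop.dvd_of_dvd_mul_left h2
    rcases htqr with rfl | rfl
    · exact hqr.ne ((Nat.prime_dvd_prime_iff_eq ht hr).1 (Nat.dvd_of_mul_dvd_mul_left ht.pos h3))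
    · rw [mul_comm q] at h3
      exact hqr.ne' ((Nat.prime_dvd_prime_iff_eq ht hq).1 (Nat.dvd_of_mul_dvd_mul_left ht.pos h3)))
  have hpt : p < t := by rcases htqr with rfl | rfl <;> omega
  have htp1 : t ∣ p + 1 := by
    have hp2 := hp.two_le
    have hnp : ¬ t ∣ p - 1 := fun h => by
      have := Nat.le_of_dvd (by omega) h; omega
    rcases dvd_pred_sq p t hp P hPc hgN hgC hgo with h | h
    · rw [show p ^ 2 - 1 = (p + 1) * (p - 1) by rw [← Nat.sq_sub_sq, one_pow]] at h
      exact ((Nat.Prime.dvd_mul ht).1 h).resolve_right hnp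
    · rcases (Nat.Prime.dvd_mul ht).1 h with h | h
      · exact absurd ((Nat.prime_dvd_prime_iff_eq ht hp).1 h) htp
      · exact absurd h hnp
  have ht3 : t = p + 1 := by
    have := Nat.le_of_dvd (by omega) htp1; omega
  have hp2 : p = 2 := by
    rcases hp.eq_two_or_odd with h | h
    · exact h
    · have := ht.eq_two_or_odd
      have := hp.two_le
      omega
  subst hp2
  have hq3 : q = 3 := by
    rcases htqr with rfl | rfl <;> omega
  subst hq3
  -- order `12 r`
  obtain ⟨R⟩ : Nonempty (Sylow r G) := inferInstance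
  have hr4 : r ≠ 4 := fun h => by rw [h] at hr; norm_num at hr
  have hRc : Nat.card R = r := by
    rw [SmallSimple.card_sylow_of_eq (k := 1) (m := 12) R (by rw [hG]; ring) (fun h => by
      have := Nat.le_of_dvd (by norm_num) h
      interval_cases r <;> first | omega | norm_num at hr), pow_one]
  have hn : Nat.card (Sylow r G) ∣ 12 := by
    have h := R.card_dvd_index
    have h2 := card_mul_index (R : Subgroup G)
    rw [hRc, hG, show 2 ^ 2 * 3 * r = r * 12 by ring] at h2
    rwa [Nat.eq_of_mul_eq_mul_left hr.pos h2] at h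
  have hmod : Nat.card (Sylow r G) % r = 1 := by
    have h := card_sylow_modEq_one r G
    rwa [Nat.ModEq, Nat.mod_eq_of_lt hr.one_lt] at h
  have hne := SmallSimple.card_sylow_ne_one hna (p := r) (hG ▸ dvd_mul_left _ _)
  have hNR := SmallSimple.card_sylow_mul R
  have hlt : r < Nat.card (Sylow r G) := by
    by_contra hle
    rcases Nat.lt_or_eq_of_le (not_lt.1 hle) with h | h
    · rw [Nat.mod_eq_of_lt h] at hmod; exact hne hmod
    · rw [h, Nat.mod_self] at hmod; omega
  have hle := Nat.le_of_dvd (by norm_num) hn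
  obtain ⟨n, hn'⟩ : ∃ n, Nat.card (Sylow r G) = n := ⟨_, rfl⟩
  rw [hn'] at hn hmod hlt hle hNR
  have hr5 : r = 5 ∨ r = 11 := by
    interval_cases n <;> norm_num at hn <;> interval_cases r <;>
      first | omega | norm_num at hr | norm_num at hmod
  rcases hr5 with rfl | rfl
  · rw [hG]; norm_num
  · exfalso
    have hn12 : n = 12 := by omega
    obtain ⟨e, -, he1, he2⟩ := SmallSimple.sylow_relIndex hna R hRc
    rw [hn12, hG] at hNR
    have hN11 : Nat.card (normalizer ((R : Subgroup G) : Set G)) = 11 :=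
      Nat.eq_of_mul_eq_mul_left (show 0 < 12 by norm_num) (hNR.trans (by norm_num))
    rw [hN11] at he2
    rcases (Nat.dvd_prime (by norm_num : Nat.Prime 11)).1 (Dvd.intro _ he2) with h | h
    · exact he1 h
    · have h1 : Nat.card (centralizer ((R : Subgroup G) : Set G)) = 1 := by
        rw [h] at he2; omega
      haveI : IsCyclic R := isCyclic_of_prime_card hRc
      have hle' : (R : Subgroup G) ≤ centralizer ((R : Subgroup G) : Set G) := fun x hx =>
        mem_centralizer_iff.2 fun y hy =>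
          congrArg Subtype.val (IsCyclic.isMulCommutative.is_comm.comm (⟨y, hy⟩ : (R : Subgroup G)) ⟨x, hx⟩)
      have h3 := card_dvd_of_le hle'
      rw [hRc, h1] at h3
      norm_num at h3

/-- If a finite simple group has order p^2 * q * r with p, q and r prime, then its order is 60. -/
theorem result {G : Type*} [Group G] [Finite G] [IsSimpleGroup G] (p q r : ℕ) (hp : p.Prime) (hq : q.Prime) (hr : r.Prime) (hG : Nat.card G = p ^ 2 * q * r) : Nat.card G = 60 := by
  have hnp : ¬ (Nat.card G).Prime := by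
    rw [hG, pow_two, mul_assoc, mul_assoc]
    exact Nat.not_prime_mul hp.one_lt.ne' (Nat.one_lt_iff_ne_zero_and_ne_one.2
      ⟨(Nat.mul_pos hp.pos (Nat.mul_pos hq.pos hr.pos)).ne', fun h => hp.one_lt.ne' (mul_eq_one.1 h).1⟩).ne'
  have hna := SmallSimple.not_isMulCommutative (G := G) hnp
  have two : ∀ a b i j : ℕ, a.Prime → b.Prime → Nat.card G ≠ a ^ i * b ^ j := by
    intro a b i j ha hb h
    haveI := S0144.result a b i j ha hb h
    exact hna ⟨⟨fun x y => IsSimpleGroup.comm_iff_isSolvable.2 this x y⟩⟩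
  have hpq : p ≠ q := fun h => two p r 3 1 hp hr (by rw [hG, h]; ring)
  have hpr : p ≠ r := fun h => two p q 3 1 hp hq (by rw [hG, h]; ring)
  have hqr : q ≠ r := fun h => two p q 2 2 hp hq (by rw [hG, h]; ring)
  rcases hqr.lt_or_gt with h | h
  · exact core hna p q r hp hq hr hpq hpr h hG
  · exact core hna p r q hp hr hq hpr hpq h (by rw [hG]; ring)

end Cfsg.Agent.S0988
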