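import Cfsg.Statements.S0989
import Cfsg.Agent.Lib.SmallSimple.PrimeSylow
import Mathlib


set_option autoImplicit false
open Cfsg

namespace Cfsg.Agent.S0989

open Subgroup

/-- In the symmetric group on p or p + 1 letters, p a prime, the normalizer of a Sylow p-subgroup has order p * (p - 1). -/
theorem result {α : Type*} [Fintype α] [DecidableEq α] (p : ℕ) [Fact p.Prime] (hα : Fintype.card α = p ∨ Fintype.card α = p + 1) (P : Sylow p (Equiv.Perm α)) : Nat.card ↥(Subgroup.normalizer ((P : Subgroup (Equiv.Perm α)) : Set (Equiv.Perm α))) = p * (p - 1) := by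
  classical
  have hp : p.Prime := Fact.out
  have hp2 := hp.two_le
  have hfac : ∃ m, Nat.card (Equiv.Perm α) = p ^ 1 * m ∧ ¬ p ∣ m := by
    rw [Nat.card_perm, Nat.card_eq_fintype_card, pow_one]
    have hnd : ¬ p ∣ (p - 1).factorial := fun h => by
      have := hp.dvd_factorial.1 h
      omega
    rcases hα with h | h
    · refine ⟨(p - 1).factorial, ?_, hnd⟩
      rw [h, Nat.mul_factorial_pred hp.ne_zero]
    · refine ⟨(p + 1) * (p - 1).factorial, ?_, fun hd => ?_⟩
      · rw [h, Nat.factorial_succ, ← Nat.mul_factorial_pred hp.ne_zero]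
        ring
      · rcases hp.dvd_mul.1 hd with h1 | h1
        · exact hp.not_dvd_one ((Nat.dvd_add_right (dvd_refl p)).1 h1)
        · exact hnd h1
  obtain ⟨m, hm, hm'⟩ := hfac
  have hP : Nat.card ↥(P : Subgroup (Equiv.Perm α)) = p := by
    rw [SmallSimple.card_sylow_of_eq P hm hm', pow_one]
  obtain ⟨σ, hσ, hσ1⟩ := (P : Subgroup (Equiv.Perm α)).bot_or_exists_ne_one.resolve_left
    (fun h => by rw [h, Subgroup.card_bot] at hP; omega)
  have hz := SmallSimple.zpowers_eq_of_prime hP hσ hσ1
  have hct : ∀ τ : Equiv.Perm α, τ ∈ (P : Subgroup (Equiv.Perm α)) → τ ≠ 1 →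
      τ.cycleType = {p} := by
    intro τ hτ hτ1
    have ho : orderOf τ = p := by
      rw [← Nat.card_zpowers, SmallSimple.zpowers_eq_of_prime hP hτ hτ1, hP]
    have hall : ∀ n ∈ τ.cycleType, n = p := fun n hn => by
      have hd := Equiv.Perm.dvd_of_mem_cycleType hn
      rw [ho] at hd
      have := Equiv.Perm.two_le_of_mem_cycleType hn
      rcases (Nat.dvd_prime hp).1 hd with h | h
      · omega
      · exact h
    have hrep := Multiset.eq_replicate_card.2 hall
    have hle : τ.cycleType.sum ≤ Fintype.card α := by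
      rw [Equiv.Perm.sum_cycleType]; exact Finset.card_le_univ _
    rw [hrep, Multiset.sum_replicate, smul_eq_mul] at hle
    have hpos : Multiset.card τ.cycleType ≠ 0 := fun h0 => hτ1 (by
      rwa [Equiv.Perm.card_cycleType_eq_zero] at h0)
    have h1 : Multiset.card τ.cycleType = 1 := by
      by_contra hne
      have : 2 * p ≤ Multiset.card τ.cycleType * p := Nat.mul_le_mul_right p (by omega)
      omega
    rw [hrep, h1]
    rfl
  have hC : Nat.card (centralizer ((P : Subgroup (Equiv.Perm α)) : Set (Equiv.Perm α))) = p := by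
    have he : centralizer ((P : Subgroup (Equiv.Perm α)) : Set (Equiv.Perm α)) =
        centralizer ({σ} : Set (Equiv.Perm α)) := by
      refine le_antisymm (centralizer_le (Set.singleton_subset_iff.2 hσ)) fun g hg => ?_
      refine mem_centralizer_iff.2 fun h hh => ?_
      rw [← hz] at hh
      obtain ⟨i, rfl⟩ := hh
      exact ((Commute.zpow_right (mem_centralizer_singleton_iff.1 hg) i).eq).symm
    rw [he, Equiv.Perm.nat_card_centralizer, hct σ hσ hσ1]
    rcases hα with h | h <;> simp [h]
  have hrel : (centralizer ((P : Subgroup (Equiv.Perm α)) : Set (Equiv.Perm α))).relIndex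
      (normalizer ((P : Subgroup (Equiv.Perm α)) : Set (Equiv.Perm α))) = p - 1 := by
    haveI : IsCyclic ↥(P : Subgroup (Equiv.Perm α)) := isCyclic_of_prime_card hP
    have hsurj : Function.Surjective (P : Subgroup (Equiv.Perm α)).normalizerMonoidHom := by
      intro φ
      have hne : (φ ⟨σ, hσ⟩ : Equiv.Perm α) ≠ 1 := fun h => hσ1 (congrArg Subtype.val
        (φ.injective ((Subtype.ext h : φ ⟨σ, hσ⟩ = 1).trans (map_one φ).symm)))
      obtain ⟨g, hg⟩ := isConj_iff.1 (Equiv.Perm.isConj_iff_cycleType_eq.2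
        ((hct σ hσ hσ1).trans (hct _ (φ ⟨σ, hσ⟩).2 hne).symm))
      have hgN : g ∈ normalizer ((P : Subgroup (Equiv.Perm α)) : Set (Equiv.Perm α)) := by
        have hmap : (P : Subgroup (Equiv.Perm α)).map (MulAut.conj g).toMonoidHom =
            (P : Subgroup (Equiv.Perm α)) := by
          conv_lhs => rw [← hz]
          rw [MonoidHom.map_zpowers]
          refine SmallSimple.zpowers_eq_of_prime hP ?_ ?_ <;> simp [hg, hne]
        refine mem_normalizer_iff.2 fun x => ?_
        conv_rhs => rw [← hmap, mem_map_equiv]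
        simp [mul_assoc]
      refine ⟨⟨g, hgN⟩, MulEquiv.ext fun x => ?_⟩
      obtain ⟨i, hi⟩ : (x : Equiv.Perm α) ∈ zpowers σ := hz.symm ▸ x.2
      have hx : x = (⟨σ, hσ⟩ : ↥(P : Subgroup (Equiv.Perm α))) ^ i := Subtype.ext hi.symm
      rw [hx, map_zpow, map_zpow]
      congr 1
      exact Subtype.ext hg
    have h1 := Nat.card_congr (QuotientGroup.quotientKerEquivOfSurjective _ hsurj).toEquiv
    rw [Subgroup.normalizerMonoidHom_ker, IsCyclic.card_mulAut, hP, Nat.totient_prime hp] at h1
    exact h1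
  rw [← SmallSimple.card_normalizer_eq, hrel, hC, mul_comm]

end Cfsg.Agent.S0989
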