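import Cfsg.Statements.S0990
import Cfsg.Agent.Lib.SmallSimple.SylowFive
import Mathlib


set_option autoImplicit false
open Cfsg

namespace Cfsg.Agent.S0990

open Subgroup

/-- Let p be an odd prime and P a Sylow p-subgroup of the symmetric group on a finite set with at least two elements. Then P is contained in the alternating group, and twice the order of the normalizer of P inside the alternating group equals the order of the normalizer of P in the symmetric group. -/
theorem result {α : Type*} [Fintype α] [DecidableEq α] (hα : 2 ≤ Fintype.card α) (p : ℕ) [Fact p.Prime] (hp : p ≠ 2) (P : Sylow p (Equiv.Perm α)) : (P : Subgroup (Equiv.Perm α)) ≤ alternatingGroup α ∧ 2 * Nat.card ↥(Subgroup.normalizer ((((P : Subgroup (Equiv.Perm α)).subgroupOf (alternatingGroup α) : Subgroup ↥(alternatingGroup α)) : Set ↥(alternatingGroup α)))) = Nat.card ↥(Subgroup.normalizer ((P : Subgroup (Equiv.Perm α)) : Set (Equiv.Perm α))) := by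
  classical
  set A := alternatingGroup α
  have hPA : (P : Subgroup (Equiv.Perm α)) ≤ A := by
    intro x hx
    rw [Equiv.Perm.mem_alternatingGroup]
    obtain ⟨k, hk⟩ := P.isPGroup' ⟨x, hx⟩
    have h1 : x ^ p ^ k = 1 := congrArg Subtype.val hk
    have h2 := congrArg Equiv.Perm.sign h1
    rw [map_pow, map_one] at h2
    have hodd : Odd (p ^ k) := ((Fact.out : p.Prime).odd_of_ne_two hp).pow
    rcases Int.units_eq_one_or (Equiv.Perm.sign x) with h | h
    · exact h
    · rw [h, hodd.neg_one_pow] at h2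
      exact absurd h2 (by decide)
  refine ⟨hPA, ?_⟩
  set N := normalizer ((P : Subgroup (Equiv.Perm α)) : Set (Equiv.Perm α))
  rw [← subgroupOf_normalizer_eq hPA]
  haveI : Nontrivial α := Fintype.one_lt_card_iff_nontrivial.1 hα
  have hodd : ∃ h ∈ N, Equiv.Perm.sign h = -1 := by
    obtain ⟨x, y, hxy⟩ := exists_pair_ne α
    obtain ⟨a, ha, hconj⟩ := SylowFive.exists_conj_of_sylow_le P (Equiv.swap x y • P) A hPA (by
      rintro _ ⟨z, hz, rfl⟩
      exact (inferInstance : (alternatingGroup α).Normal).conj_mem z (hPA hz) (Equiv.swap x y))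
    refine ⟨(Equiv.swap x y)⁻¹ * a, ?_, ?_⟩
    · rw [← SylowFive.smul_sylow_eq, mul_smul, hconj, inv_smul_smul]
    · rw [map_mul, Equiv.swap_inv, Equiv.Perm.sign_swap hxy, Equiv.Perm.mem_alternatingGroup.1 ha,
        mul_one]
  obtain ⟨h, hhN, hh⟩ := hodd
  let s : N →* ℤˣ := Equiv.Perm.sign.comp N.subtype
  have hs : Function.Surjective s := fun u => by
    rcases Int.units_eq_one_or u with rfl | rfl
    · exact ⟨1, map_one s⟩
    · exact ⟨⟨h, hhN⟩, hh⟩
  have h1 := Subgroup.card_eq_card_quotient_mul_card_subgroup s.ker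
  rw [Nat.card_congr (QuotientGroup.quotientKerEquivOfSurjective s hs).toEquiv,
    Nat.card_eq_fintype_card (α := ℤˣ), Fintype.card_units_int] at h1
  rw [h1]
  congr 1
  refine Nat.card_congr ⟨fun g => ⟨⟨g.1.1, g.2⟩, Equiv.Perm.mem_alternatingGroup.1 g.1.2⟩,
    fun g => ⟨⟨g.1.1, Equiv.Perm.mem_alternatingGroup.2 g.2⟩, g.1.2⟩, fun g => rfl, fun g => rfl⟩

end Cfsg.Agent.S0990
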