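import Cfsg.Statements.S0994
import Cfsg.Agent.Lib.SmallSimple.PrimeSylow
import Mathlib


set_option autoImplicit false
open Cfsg

namespace Cfsg.Agent.S0994

/-- No finite simple group has order 1188 = 2^2 * 3^3 * 11. -/
theorem result {G : Type*} [Group G] [Finite G] [IsSimpleGroup G] : Nat.card G ≠ 1188 := by
  intro h
  haveI : Fact (Nat.Prime 11) := ⟨by norm_num⟩
  have hnc : ¬ IsMulCommutative G := SmallSimple.not_isMulCommutative (by rw [h]; norm_num)
  obtain ⟨P⟩ : Nonempty (Sylow 11 G) := inferInstance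
  have hPc : Nat.card P = 11 := by
    rw [SmallSimple.card_sylow_of_eq (k := 1) (m := 108) P (by rw [h]; norm_num) (by norm_num), pow_one]
  have hdvd : Nat.card (Sylow 11 G) ∣ 108 := by
    have h1 := P.card_dvd_index
    have h2 := Subgroup.card_mul_index (P : Subgroup G)
    rw [hPc, h] at h2
    rwa [show (P : Subgroup G).index = 108 by omega] at h1
  have hmod := card_sylow_modEq_one 11 G
  have hne := SmallSimple.card_sylow_ne_one hnc (p := 11) (by rw [h]; norm_num)
  have hn : Nat.card (Sylow 11 G) = 12 := by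
    have key : ∀ n ∈ Nat.divisors 108, n % 11 = 1 → n = 1 ∨ n = 12 := by decide
    exact (key _ (Nat.mem_divisors.2 ⟨hdvd, by norm_num⟩) hmod).resolve_left hne
  obtain ⟨e, he, he1, hec⟩ := SmallSimple.sylow_relIndex hnc P hPc
  have hN := SmallSimple.card_sylow_mul P
  rw [hn, h] at hN
  have h2 : e ∣ 99 := ⟨_, (hec.trans (by omega)).symm⟩
  exact he1 (Nat.dvd_one.1 (show e ∣ Nat.gcd (11 - 1) 99 from Nat.dvd_gcd he h2))

end Cfsg.Agent.S0994
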