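import Cfsg.Statements.S0995
import Cfsg.Agent.Lib.SmallSimple.PrimeSylow
import Mathlib


set_option autoImplicit false
open Cfsg

namespace Cfsg.Agent.S0995

open Subgroup

/-- Let G be a finite perfect group containing an element z of prime order p whose centralizer is the cyclic group it generates. Let t be the number of conjugacy classes of elements of order p. Then t divides p - 1, the number of Sylow p-subgroups has the form 1 + n * p, and |G| * t = (p - 1) * p * (1 + n * p). -/
theorem result {G : Type*} [Group G] [Finite G] (hperf : commutator G = ⊤) (p : ℕ) [Fact p.Prime] (z : G) (hz : orderOf z = p) (hC : Subgroup.centralizer ({z} : Set G) = Subgroup.zpowers z) : ∃ n t : ℕ, t = Nat.card {c : ConjClasses G // ∃ g : G, ConjClasses.mk g = c ∧ orderOf g = p} ∧ t ∣ p - 1 ∧ Nat.card (Sylow p G) = 1 + n * p ∧ Nat.card G * t = (p - 1) * p * (1 + n * p) := by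
  classical
  obtain ⟨P, hP⟩ := (IsPGroup.of_card (p := p) (n := 1) (G := zpowers z)
    (by rw [Nat.card_zpowers, hz, pow_one])).exists_le_sylow
  have hz1 : z ≠ 1 := fun h => (Fact.out : p.Prime).one_lt.ne (by rw [← hz, h, orderOf_one])
  -- `P = ⟨z⟩`
  have hPz : (P : Subgroup G) = zpowers z := by
    haveI : Nontrivial ↥(P : Subgroup G) := ⟨⟨⟨z, hP (mem_zpowers z)⟩, 1,
      fun h => hz1 (congrArg Subtype.val h)⟩⟩
    haveI := P.isPGroup'.center_nontrivial
    obtain ⟨⟨c, hc⟩, hc1⟩ := exists_ne (1 : center ↥(P : Subgroup G))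
    have hcC : (c : G) ∈ zpowers z := hC ▸ mem_centralizer_singleton_iff.2
      (congrArg Subtype.val (mem_center_iff.1 hc ⟨z, hP (mem_zpowers z)⟩)).symm
    have hgen : zpowers (c : G) = zpowers z := SmallSimple.zpowers_eq_of_prime
      (by rw [Nat.card_zpowers, hz]) hcC (fun h => hc1 (Subtype.ext (Subtype.ext h)))
    refine le_antisymm (fun g hg => hC ▸ mem_centralizer_singleton_iff.2 ?_) hP
    have hzc : z ∈ zpowers (c : G) := hgen ▸ mem_zpowers z
    obtain ⟨k, rfl⟩ := hzc
    have hcomm : Commute g (c : G) := congrArg Subtype.val (mem_center_iff.1 hc ⟨g, hg⟩)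
    exact (hcomm.zpow_right k).eq
  have hPc : Nat.card ↥(P : Subgroup G) = p := by rw [hPz, Nat.card_zpowers, hz]
  set N := normalizer ((P : Subgroup G) : Set G) with hN
  have hCP : centralizer ((P : Subgroup G) : Set G) = (P : Subgroup G) := by
    refine le_antisymm (fun g hg => hPz ▸ hC ▸ mem_centralizer_singleton_iff.2
      (mem_centralizer_iff.1 hg z (hPz ▸ mem_zpowers z)).symm) (fun g hg => ?_)
    refine mem_centralizer_iff.2 fun h hh => ?_
    rw [hPz] at hg
    obtain ⟨i, rfl⟩ := hg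
    obtain ⟨j, rfl⟩ : h ∈ zpowers z := hPz ▸ hh
    exact ((Commute.refl z).zpow_zpow j i).eq
  obtain ⟨n, hn⟩ : ∃ n, Nat.card (Sylow p G) = 1 + n * p := by
    have h1 : Nat.card (Sylow p G) % p = 1 := by
      have h := card_sylow_modEq_one p G
      rwa [Nat.ModEq, Nat.mod_eq_of_lt (Fact.out : p.Prime).one_lt] at h
    exact ⟨Nat.card (Sylow p G) / p, by have := Nat.div_add_mod' (Nat.card (Sylow p G)) p; omega⟩
  set e := (P : Subgroup G).relIndex N with he
  have hNe : Nat.card N = e * p := by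
    have h := (SmallSimple.card_normalizer_eq (P : Subgroup G))
    rw [hCP, hPc] at h
    exact h.symm
  let T := {c : ConjClasses G // ∃ g : G, ConjClasses.mk g = c ∧ orderOf g = p}
  have ho : ∀ u : {u : ↥(P : Subgroup G) // u ≠ 1}, orderOf ((u.1 : G)) = p := by
    intro u
    have h := Subgroup.orderOf_dvd_natCard (P : Subgroup G) u.1.2
    rw [hPc] at h
    exact ((Nat.dvd_prime (Fact.out : p.Prime)).1 h).resolve_left
      (fun h1 => u.2 (Subtype.ext (orderOf_eq_one_iff.1 h1)))
  let cl : {u : ↥(P : Subgroup G) // u ≠ 1} → T := fun u => ⟨ConjClasses.mk (u.1 : G), _, rfl, ho u⟩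
  have hsurj : Function.Surjective cl := by
    rintro ⟨_, g, rfl, hg⟩
    obtain ⟨R, hR⟩ := (IsPGroup.of_card (p := p) (n := 1) (G := zpowers g)
      (by rw [Nat.card_zpowers, hg, pow_one])).exists_le_sylow
    obtain ⟨k, hk⟩ := MulAction.exists_smul_eq G P R
    have h1 := hR (mem_zpowers g)
    rw [← hk] at h1
    obtain ⟨u, hu, hug⟩ := h1
    refine ⟨⟨⟨u, hu⟩, fun h => ?_⟩, Subtype.ext (ConjClasses.mk_eq_mk_iff_isConj.2
      (isConj_iff.2 ⟨k, hug⟩))⟩
    have : u = 1 := congrArg Subtype.val h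
    subst this
    have hug' : k * 1 * k⁻¹ = g := hug
    rw [mul_one, mul_inv_cancel] at hug'
    rw [← hug', orderOf_one] at hg
    exact (Fact.out : p.Prime).one_lt.ne hg
  have hfib : ∀ c, Nat.card {u // cl u = c} = e := by
    intro c
    obtain ⟨u₀, rfl⟩ := hsurj c
    have hmem : ∀ g : N, (g : G) * (u₀.1 : G) * (g : G)⁻¹ ∈ (P : Subgroup G) :=
      fun g => (mem_normalizer_iff.1 g.2 _).1 u₀.1.2
    let f₀ : N → {u // cl u = cl u₀} := fun g => ⟨⟨⟨_, hmem g⟩, fun h => u₀.2 (Subtype.ext (by
      have h2 := congrArg Subtype.val h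
      simpa [mul_inv_eq_one] using h2))⟩, Subtype.ext (ConjClasses.mk_eq_mk_iff_isConj.2
        (isConj_iff.2 ⟨(g : G)⁻¹, by simp [mul_assoc]⟩))⟩
    have hf₀ : ∀ a b : N, f₀ a = f₀ b ↔ a⁻¹ * b ∈ (P : Subgroup G).subgroupOf N := by
      intro a b
      have hPu : ∀ x, x ∈ (P : Subgroup G) ↔ x * (u₀.1 : G) = u₀.1 * x := by
        refine fun x => ⟨fun hx => (mem_centralizer_iff.1 (hCP.symm ▸ hx) _ u₀.1.2).symm, fun hx => ?_⟩
        rw [← hCP]
        refine mem_centralizer_iff.2 fun h hh => ?_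
        rw [← SmallSimple.zpowers_eq_of_prime hPc u₀.1.2 (fun h1 => u₀.2 (Subtype.ext h1))] at hh
        obtain ⟨i, rfl⟩ := hh
        exact ((Commute.zpow_right hx i).eq).symm
      rw [mem_subgroupOf, Subgroup.coe_mul, Subgroup.coe_inv, hPu]
      simp only [f₀, Subtype.ext_iff]
      constructor <;> intro h
      · calc (a : G)⁻¹ * b * u₀.1 = (a : G)⁻¹ * ((b : G) * u₀.1 * (b : G)⁻¹) * b := by group
          _ = (a : G)⁻¹ * ((a : G) * u₀.1 * (a : G)⁻¹) * b := by rw [h]
          _ = _ := by group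
      · calc (a : G) * u₀.1 * (a : G)⁻¹
            = (a : G) * (u₀.1 * ((a : G)⁻¹ * b)) * (b : G)⁻¹ := by group
          _ = (a : G) * (((a : G)⁻¹ * b) * u₀.1) * (b : G)⁻¹ := by rw [h]
          _ = _ := by group
    let f : N ⧸ (P : Subgroup G).subgroupOf N → {u // cl u = cl u₀} :=
      Quotient.lift f₀ fun a b hab => (hf₀ a b).2 (QuotientGroup.leftRel_apply.1 hab)
    have hf : Function.Bijective f := by
      refine ⟨fun a b => ?_, fun ⟨u, hu⟩ => ?_⟩
      · induction a using QuotientGroup.induction_on with | H a =>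
        induction b using QuotientGroup.induction_on with | H b =>
        exact fun h => QuotientGroup.eq.2 ((hf₀ a b).1 h)
      · obtain ⟨g, hg⟩ := isConj_iff.1 (ConjClasses.mk_eq_mk_iff_isConj.1
          (congrArg Subtype.val hu).symm)
        have hgN : g ∈ N := by
          have hmap : (P : Subgroup G).map (MulAut.conj g).toMonoidHom = (P : Subgroup G) := by
            conv_lhs => rw [← SmallSimple.zpowers_eq_of_prime hPc u₀.1.2
              (fun h1 => u₀.2 (Subtype.ext h1))]
            rw [MonoidHom.map_zpowers]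
            refine SmallSimple.zpowers_eq_of_prime hPc ?_ ?_
            · simp [hg]
            · simp only [MulEquiv.coe_toMonoidHom, MulAut.conj_apply, hg]
              exact fun h1 => u.2 (Subtype.ext h1)
          refine mem_normalizer_iff.2 fun x => ?_
          conv_rhs => rw [← hmap, mem_map_equiv]
          simp [mul_assoc]
        exact ⟨((⟨g, hgN⟩ : N) : N ⧸ (P : Subgroup G).subgroupOf N),
          Subtype.ext (Subtype.ext (Subtype.ext hg))⟩
    rw [← Nat.card_congr (Equiv.ofBijective f hf), he]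
    rfl
  have hte : Nat.card T * e = p - 1 := by
    haveI := Fintype.ofFinite T
    have h1 := Nat.card_congr (Equiv.sigmaFiberEquiv cl)
    rw [Nat.card_sigma, Finset.sum_congr rfl (fun c _ => hfib c), Finset.sum_const,
      Finset.card_univ, smul_eq_mul, ← Nat.card_eq_fintype_card] at h1
    rw [h1]
    haveI := Fintype.ofFinite ↥(P : Subgroup G)
    rw [Nat.card_eq_fintype_card, Fintype.card_subtype_compl, Fintype.card_subtype_eq,
      ← Nat.card_eq_fintype_card, hPc]
  refine ⟨n, Nat.card T, rfl, ⟨e, hte.symm⟩, hn, ?_⟩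
  have hG := SmallSimple.card_sylow_mul P
  rw [← hN, hNe] at hG
  rw [← hG, ← hte, hn]
  ring

end Cfsg.Agent.S0995
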