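import Cfsg.Statements.S0996
import Cfsg.Agent.Lib.Blocks.FewSylow.Final
import Cfsg.Agent.S0995

set_option autoImplicit false
open Cfsg

namespace Cfsg.Agent.S0996

/-- Let G be a finite perfect group containing an element z of prime order p whose centralizer is the cyclic group it generates, and suppose the number 1 + n * p of Sylow p-subgroups satisfies n < (p + 3) / 2. Then p > 3 and G is isomorphic to the projective special linear group of dimension 2 over the field with p elements, or p - 1 is a power of 2 and G is isomorphic to that group over the field with p - 1 elements. -/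
theorem result {G : Type*} [Group G] [Finite G] (hperf : commutator G = ⊤) (p : ℕ) [Fact p.Prime] (z : G) (hz : orderOf z = p) (hC : Subgroup.centralizer ({z} : Set G) = Subgroup.zpowers z) (hn : 2 * Nat.card (Sylow p G) < (p + 1) * (p + 2)) : (∃ (F : Type) (_ : Field F) (_ : Fintype F), Fintype.card F = p ∧ 3 < p ∧ Nonempty (G ≃* Matrix.ProjectiveSpecialLinearGroup (Fin 2) F)) ∨ (∃ (m : ℕ) (F : Type) (_ : Field F) (_ : Fintype F), Fintype.card F = 2 ^ m ∧ p = 2 ^ m + 1 ∧ 3 < p ∧ Nonempty (G ≃* Matrix.ProjectiveSpecialLinearGroup (Fin 2) F)) := by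
  classical
  letI := Fintype.ofFinite G
  obtain ⟨n, t, -, -, hsyl, -⟩ := S0995.result hperf p z hz hC
  obtain ⟨P, hP⟩ := (IsPGroup.of_card (p := p) (n := 1) (G := Subgroup.zpowers z)
    (by rw [Nat.card_zpowers, hz, pow_one])).exists_le_sylow
  have hPc : (P : Subgroup G) = Subgroup.zpowers z := by
    refine le_antisymm ?_ hP
    have hz1 : z ≠ 1 := fun h => (Fact.out : p.Prime).one_lt.ne (by rw [← hz, h, orderOf_one])
    haveI : Nontrivial ↥(P : Subgroup G) := ⟨⟨⟨z, hP (Subgroup.mem_zpowers z)⟩, 1,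
      fun h => hz1 (congrArg Subtype.val h)⟩⟩
    haveI := P.isPGroup'.center_nontrivial
    obtain ⟨⟨c, hc⟩, hc1⟩ := exists_ne (1 : Subgroup.center ↥(P : Subgroup G))
    have hcC : (c : G) ∈ Subgroup.zpowers z := hC ▸ Subgroup.mem_centralizer_singleton_iff.2
      (congrArg Subtype.val (Subgroup.mem_center_iff.1 hc ⟨z, hP (Subgroup.mem_zpowers z)⟩)).symm
    have hgen : Subgroup.zpowers (c : G) = Subgroup.zpowers z := SmallSimple.zpowers_eq_of_prime
      (by rw [Nat.card_zpowers, hz]) hcC (fun h => hc1 (Subtype.ext (Subtype.ext h)))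
    intro g hg
    refine hC ▸ Subgroup.mem_centralizer_singleton_iff.2 ?_
    obtain ⟨k, rfl⟩ : z ∈ Subgroup.zpowers (c : G) := hgen ▸ Subgroup.mem_zpowers z
    have hcomm : Commute g (c : G) := congrArg Subtype.val (Subgroup.mem_center_iff.1 hc ⟨g, hg⟩)
    exact (hcomm.zpow_right k).eq
  refine (Blocks.FewSylow.Setting.classify_psl (P := P) (n := n) ⟨?_, fun g hg => ?_, hperf, hsyl, Blocks.FewSylow.nform_of_few ?_⟩)
  · rw [hPc, Nat.card_zpowers, hz]
  · rw [hPc, ← hC]
    exact Subgroup.mem_centralizer_singleton_iff.2 (hg z (hP (Subgroup.mem_zpowers z)))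
  · rw [hsyl] at hn
    by_contra hge
    push Not at hge
    have : (p + 3) * p ≤ 2 * n * p := Nat.mul_le_mul_right p hge
    nlinarith

end Cfsg.Agent.S0996
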