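import Cfsg.Statements.S1001
import Cfsg.Agent.Lib.SmallSimple.ThreePrimes

set_option autoImplicit false
open Cfsg

namespace Cfsg.Agent.S1001

/-- In a finite simple group whose order has the form p * 3^a * 2^b with p prime, the centralizer of any element of order p is the cyclic group it generates. -/
theorem result {G : Type*} [Group G] [Finite G] [IsSimpleGroup G] (p a b : ℕ) (hp : p.Prime) (hG : Nat.card G = p * 3 ^ a * 2 ^ b) (x : G) (hx : orderOf x = p) : Subgroup.centralizer ({x} : Set G) = Subgroup.zpowers x := by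
  haveI : Fact p.Prime := ⟨hp⟩
  have key : ∀ {q r : ℕ}, q.Prime → r.Prime → ∀ m n : ℕ, Nat.card G = q ^ m * r ^ n →
      Subgroup.centralizer ({x} : Set G) = Subgroup.zpowers x := by
    intro q r hq hr m n hc
    haveI := CT.isSolvable_of_card_two_primes hq hr _ G m n rfl hc
    letI : CommGroup G := { ‹Group G› with mul_comm := IsSimpleGroup.comm_iff_isSolvable.mpr ‹_› }
    have hd : p ∣ Nat.card G := hx ▸ orderOf_dvd_natCard x
    have hcard : Nat.card G = p := ((Nat.prime_dvd_prime_iff_eq hp IsSimpleGroup.prime_card).mp hd).symm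
    have htop : Subgroup.zpowers x = ⊤ := Subgroup.eq_top_of_card_eq _ (by rw [Nat.card_zpowers, hx, hcard])
    refine htop.symm ▸ top_le_iff.mp fun g _ => ?_
    rw [Subgroup.mem_centralizer_singleton_iff]
    exact mul_comm _ _
  by_cases h2 : p = 2
  · exact key Nat.prime_three Nat.prime_two a (b + 1) (by rw [hG, h2]; ring)
  by_cases h3 : p = 3
  · exact key Nat.prime_three Nat.prime_two (a + 1) b (by rw [hG, h3]; ring)
  have hG' : Nat.card G = 3 ^ a * 2 ^ b * p := by rw [hG]; ring
  have hfac : (Nat.card G).factorization p = 1 := by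
    have h30 : (3 : ℕ) ^ a ≠ 0 := pow_ne_zero a (by norm_num)
    have h20 : (2 : ℕ) ^ b ≠ 0 := pow_ne_zero b (by norm_num)
    rw [hG', Nat.factorization_mul (mul_ne_zero h30 h20) hp.ne_zero, Nat.factorization_mul h30 h20]
    simp [Nat.prime_three.factorization, Nat.prime_two.factorization, hp.factorization, Ne.symm h2, Ne.symm h3]
  let S : Sylow p G := Sylow.ofCard (Subgroup.zpowers x) (by rw [Nat.card_zpowers, hx, hfac, pow_one])
  have h := SmallSimple.ThreePrimes.centralizer_sylow (p := 3) (q := 2) (r := p) Nat.prime_three Nat.prime_two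
    (by norm_num) (Ne.symm h3) (Ne.symm h2) hG' S
  refine le_antisymm ((fun g hg => ?_)) (Subgroup.zpowers_le.mpr (Subgroup.mem_centralizer_singleton_iff.mpr rfl))
  have : g ∈ Subgroup.centralizer (S : Set G) := Subgroup.mem_centralizer_iff.mpr fun y hy => by
    obtain ⟨i, rfl⟩ := Subgroup.mem_zpowers_iff.mp (show y ∈ Subgroup.zpowers x from hy)
    exact ((show Commute g x from Subgroup.mem_centralizer_singleton_iff.mp hg).symm.zpow_left i).eq
  rw [h] at this
  exact this

end Cfsg.Agent.S1001
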