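import Cfsg.Statements.S1002
import Cfsg.Agent.Lib.SmallSimple.SylowFive
import Mathlib


set_option autoImplicit false
open Cfsg Subgroup

namespace Cfsg.Agent.S1002

/-- No finite simple group has order 1004913 = 3^3 * 7 * 13 * 409. -/
theorem result {G : Type*} [Group G] [Finite G] [IsSimpleGroup G] : Nat.card G ≠ 1004913 := by
  intro hG
  haveI : Fact (Nat.Prime 409) := ⟨by norm_num⟩
  haveI : Fact (Nat.Prime 13) := ⟨by norm_num⟩
  haveI : Fact (Nat.Prime 7) := ⟨by norm_num⟩
  haveI : Fact (Nat.Prime 3) := ⟨by norm_num⟩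
  classical
  have hnc : ¬ IsMulCommutative G := SmallSimple.not_isMulCommutative (by rw [hG]; norm_num)
  have hc4 : ∀ P : Sylow 409 G, Nat.card P = 409 := fun P =>
    SmallSimple.card_sylow_of_eq (k := 1) (m := 2457) P (by rw [hG]; norm_num) (by norm_num)
  have hc13 : ∀ P : Sylow 13 G, Nat.card P = 13 := fun P =>
    SmallSimple.card_sylow_of_eq (k := 1) (m := 77301) P (by rw [hG]; norm_num) (by norm_num)
  have hc7 : ∀ P : Sylow 7 G, Nat.card P = 7 := fun P =>
    SmallSimple.card_sylow_of_eq (k := 1) (m := 143559) P (by rw [hG]; norm_num) (by norm_num)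
  have hdvd : ∀ {s : ℕ} [Fact s.Prime] (S : Sylow s G) (m : ℕ), Nat.card S = s →
      s * m = 1004913 → Nat.card (Sylow s G) ∣ m := by
    intro s _ S m hS hm
    have h := S.card_dvd_index
    have h2 := card_mul_index (S : Subgroup G)
    rw [hS, hG, ← hm] at h2
    rwa [Nat.eq_of_mul_eq_mul_left (Fact.out : s.Prime).pos h2] at h
  have hdiv : ∀ n, n ∣ 27 * 13 * 7 * 409 → ∃ a ∈ (27 : ℕ).divisors, ∃ b ∈ (13 : ℕ).divisors,
      ∃ c ∈ (7 : ℕ).divisors, ∃ d, (d = 1 ∨ d = 409) ∧ n = a * b * c * d := by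
    intro n hn
    obtain ⟨abc, d, habc, hd, rfl⟩ := Nat.dvd_mul.1 hn
    obtain ⟨ab, c, hab, hc, rfl⟩ := Nat.dvd_mul.1 habc
    obtain ⟨a, b, ha, hb, rfl⟩ := Nat.dvd_mul.1 hab
    exact ⟨a, Nat.mem_divisors.2 ⟨ha, by norm_num⟩, b, Nat.mem_divisors.2 ⟨hb, by norm_num⟩, c,
      Nat.mem_divisors.2 ⟨hc, by norm_num⟩, d, (Nat.dvd_prime (by norm_num)).1 hd, rfl⟩
  obtain ⟨P⟩ : Nonempty (Sylow 409 G) := inferInstance
  have hn4 : Nat.card (Sylow 409 G) = 819 := by
    have hne := SmallSimple.card_sylow_ne_one hnc (p := 409) (by rw [hG]; norm_num)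
    have hm : Nat.card (Sylow 409 G) % 409 = 1 := card_sylow_modEq_one 409 G
    obtain ⟨a, ha, b, hb, c, hc, d, hd, he⟩ :=
      hdiv _ ((hdvd P 2457 (hc4 P) (by norm_num)).trans ⟨409, by norm_num⟩)
    rw [he] at hne hm ⊢
    rcases hd with rfl | rfl
    · have key : ∀ a ∈ (27 : ℕ).divisors, ∀ b ∈ (13 : ℕ).divisors, ∀ c ∈ (7 : ℕ).divisors,
        a * b * c % 409 = 1 → a * b * c = 1 ∨ a * b * c = 819 := by decide
      simp only [mul_one] at hne hm ⊢
      exact (key a ha b hb c hc hm).resolve_left hne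
    · simp at hm
  obtain ⟨e, he408, he1, heC⟩ := SmallSimple.sylow_relIndex hnc P (hc4 P)
  have hN := SmallSimple.card_sylow_mul P
  rw [hn4, hG, ← heC] at hN
  set C := centralizer ((P : Subgroup G) : Set G) with hC
  have hCP : Nat.card C = 409 := by
    haveI : IsCyclic (P : Subgroup G) := isCyclic_of_prime_card (hc4 P)
    obtain ⟨c, hc⟩ : 409 ∣ Nat.card C := hc4 P ▸ card_dvd_of_le (le_centralizer _)
    rw [hc] at hN ⊢
    have hec : e * c = 3 := by
      have : 409 * 819 * (e * c) = 409 * 819 * 3 := by linarith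
      exact Nat.eq_of_mul_eq_mul_left (by norm_num) this
    rcases (Nat.dvd_prime (by norm_num : Nat.Prime 3)).1 (Dvd.intro c hec) with h | h
    · exact absurd h he1
    · rw [h] at hec; rw [show c = 1 by omega]
  have he3 : e = 3 := by rw [hCP] at hN; omega
  have hNc : Nat.card (normalizer ((P : Subgroup G) : Set G)) = 1227 := by
    rw [← heC, he3, hCP]
  -- large Sylow numbers for 13 and 7
  have hbig : ∀ {s : ℕ} [Fact s.Prime], (∀ S : Sylow s G, Nat.card S = s) →
      (¬ s ∣ 409) → ¬ 409 ∣ (s - 1) → ∀ S : Sylow s G,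
      ¬ 409 ∣ Nat.card (normalizer ((S : Subgroup G) : Set G)) := by
    intro s _ hS hs1 hs2 S hd
    obtain ⟨z, hz⟩ := exists_prime_orderOf_dvd_card' 409 hd
    have hzc := SmallSimple.mem_centralizer_of_mem_normalizer (q := s) (S : Subgroup G) (hS S) z.2
      (by rw [orderOf_coe, hz]; exact ((Nat.Prime.coprime_iff_not_dvd (by norm_num)).2 hs2))
    obtain ⟨R, hR⟩ := (IsPGroup.of_card (p := 409) (n := 1)
      (by rw [Nat.card_zpowers, orderOf_coe, hz, pow_one] :
        Nat.card (zpowers (z : G)) = 409 ^ 1)).exists_le_sylow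
    have hRe : zpowers (z : G) = (R : Subgroup G) :=
      eq_of_le_of_card_ge hR (by rw [Nat.card_zpowers, orderOf_coe, hz, hc4 R])
    have hle : (S : Subgroup G) ≤ centralizer ((R : Subgroup G) : Set G) := by
      rw [← hRe]
      intro w hw
      refine mem_centralizer_iff.2 ?_
      rintro _ ⟨k, rfl⟩
      exact (Commute.zpow_left (mem_centralizer_iff.1 hzc w hw).symm k).eq
    have hd2 := card_dvd_of_le hle
    have hRC : Nat.card (centralizer ((R : Subgroup G) : Set G)) = 409 := by
      obtain ⟨g, rfl⟩ := MulAction.exists_smul_eq G P R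
      have e1 : centralizer (((g • P : Sylow 409 G) : Subgroup G) : Set G) =
          C.map (MulAut.conj g).toMonoidHom := by
        ext w
        constructor
        · intro hw
          refine ⟨g⁻¹ * w * g, mem_centralizer_iff.2 fun x hx => ?_, by simp [mul_assoc]⟩
          have h := mem_centralizer_iff.1 hw (g * x * g⁻¹) ⟨x, hx, rfl⟩
          calc x * (g⁻¹ * w * g) = g⁻¹ * ((g * x * g⁻¹) * w) * g := by group
            _ = g⁻¹ * (w * (g * x * g⁻¹)) * g := by rw [h]
            _ = g⁻¹ * w * g * x := by group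
        · rintro ⟨c, hc', rfl⟩
          refine mem_centralizer_iff.2 ?_
          rintro _ ⟨x, hx, rfl⟩
          have h := mem_centralizer_iff.1 hc' x hx
          show g * x * g⁻¹ * (g * c * g⁻¹) = g * c * g⁻¹ * (g * x * g⁻¹)
          calc g * x * g⁻¹ * (g * c * g⁻¹) = g * (x * c) * g⁻¹ := by group
            _ = g * (c * x) * g⁻¹ := by rw [h]
            _ = _ := by group
      rw [e1, card_map_of_injective (MulAut.conj g).injective, hCP]
    rw [hS S, hRC] at hd2
    exact hs1 hd2
  have hn13 : 25767 ≤ Nat.card (Sylow 13 G) := by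
    obtain ⟨S⟩ : Nonempty (Sylow 13 G) := inferInstance
    have hne := SmallSimple.card_sylow_ne_one hnc (p := 13) (by rw [hG]; norm_num)
    have hm : Nat.card (Sylow 13 G) % 13 = 1 := card_sylow_modEq_one 13 G
    obtain ⟨a, ha, b, hb, c, hc, d, hd, he⟩ :=
      hdiv _ ((hdvd S 77301 (hc13 S) (by norm_num)).trans ⟨13, by norm_num⟩)
    have hNm := SmallSimple.card_sylow_mul S
    rw [hG, he] at hNm
    rw [he] at hne hm ⊢
    rcases hd with rfl | rfl
    · exfalso
      refine hbig hc13 (by norm_num) (by norm_num) S ?_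
      have key : ∀ a ∈ (27 : ℕ).divisors, ∀ b ∈ (13 : ℕ).divisors, ∀ c ∈ (7 : ℕ).divisors,
          ¬ 409 ∣ a * b * c := by decide
      have hd : 409 ∣ a * b * c * 1 * Nat.card (normalizer ((S : Subgroup G) : Set G)) := by
        rw [hNm]; norm_num
      exact (Nat.Coprime.dvd_mul_left ((Nat.Prime.coprime_iff_not_dvd (by norm_num)).2
        (by rw [mul_one]; exact key a ha b hb c hc))).1 hd
    · have key : ∀ a ∈ (27 : ℕ).divisors, ∀ b ∈ (13 : ℕ).divisors, ∀ c ∈ (7 : ℕ).divisors,
          a * b * c * 409 % 13 = 1 → 25767 ≤ a * b * c * 409 := by decide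
      exact key a ha b hb c hc hm
  have hn7 : 47853 ≤ Nat.card (Sylow 7 G) := by
    obtain ⟨S⟩ : Nonempty (Sylow 7 G) := inferInstance
    have hne := SmallSimple.card_sylow_ne_one hnc (p := 7) (by rw [hG]; norm_num)
    have hm : Nat.card (Sylow 7 G) % 7 = 1 := card_sylow_modEq_one 7 G
    obtain ⟨a, ha, b, hb, c, hc, d, hd, he⟩ :=
      hdiv _ ((hdvd S 143559 (hc7 S) (by norm_num)).trans ⟨7, by norm_num⟩)
    have hNm := SmallSimple.card_sylow_mul S
    rw [hG, he] at hNm
    rw [he] at hne hm ⊢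
    rcases hd with rfl | rfl
    · exfalso
      refine hbig hc7 (by norm_num) (by norm_num) S ?_
      have key : ∀ a ∈ (27 : ℕ).divisors, ∀ b ∈ (13 : ℕ).divisors, ∀ c ∈ (7 : ℕ).divisors,
          ¬ 409 ∣ a * b * c := by decide
      have hd : 409 ∣ a * b * c * 1 * Nat.card (normalizer ((S : Subgroup G) : Set G)) := by
        rw [hNm]; norm_num
      exact (Nat.Coprime.dvd_mul_left ((Nat.Prime.coprime_iff_not_dvd (by norm_num)).2
        (by rw [mul_one]; exact key a ha b hb c hc))).1 hd
    · have key : ∀ a ∈ (27 : ℕ).divisors, ∀ b ∈ (13 : ℕ).divisors, ∀ c ∈ (7 : ℕ).divisors,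
          a * b * c * 409 % 7 = 1 → 47853 ≤ a * b * c * 409 := by decide
      exact key a ha b hb c hc hm
  -- an element of order three normalising `P`
  obtain ⟨⟨y, hyN⟩, hy⟩ := exists_prime_orderOf_dvd_card' 3
    (show 3 ∣ Nat.card (normalizer ((P : Subgroup G) : Set G)) by rw [hNc]; norm_num)
  have hy3 : orderOf y = 3 :=
    (Subgroup.orderOf_coe (⟨y, hyN⟩ : normalizer ((P : Subgroup G) : Set G))).trans hy
  set Cy := centralizer ({y} : Set G) with hCy
  have hyC : ∀ R : Sylow 409 G, y • R = R → ∀ z ∈ (R : Subgroup G), z * y = y * z → z = 1 := by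
    intro R hR z hz hzy
    by_contra hz1
    have hzo : orderOf z = 409 := ((Nat.dvd_prime (by norm_num : Nat.Prime 409)).1
      (hc4 R ▸ Subgroup.orderOf_dvd_natCard _ hz)).resolve_left (fun h => hz1 (orderOf_eq_one_iff.1 h))
    have hRz : zpowers z = (R : Subgroup G) :=
      eq_of_le_of_card_ge (zpowers_le.2 hz) (by rw [Nat.card_zpowers, hzo, hc4 R])
    obtain ⟨g, hg⟩ := MulAction.exists_smul_eq G R P
    have hmem : g * y * g⁻¹ ∈ C := by
      refine mem_centralizer_iff.2 ?_
      intro x hx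
      have hx' : x ∈ ((g • R : Sylow 409 G) : Subgroup G) := hg.symm ▸ hx
      rw [← hg] at hx
      obtain ⟨w, hw, rfl⟩ := hx'
      rw [← hRz] at hw
      obtain ⟨k, rfl⟩ := hw
      show g * z ^ k * g⁻¹ * (g * y * g⁻¹) = g * y * g⁻¹ * (g * z ^ k * g⁻¹)
      have h := (Commute.zpow_left (show Commute z y from hzy) k).eq
      calc g * z ^ k * g⁻¹ * (g * y * g⁻¹) = g * (z ^ k * y) * g⁻¹ := by group
        _ = g * (y * z ^ k) * g⁻¹ := by rw [h]
        _ = _ := by group
    have hd := Subgroup.orderOf_dvd_natCard _ hmem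
    rw [hCP, show orderOf (g * y * g⁻¹) = orderOf y from (MulAut.conj g).orderOf_eq y, hy3] at hd
    norm_num at hd
  have hyP : y • P = P := (SylowFive.smul_sylow_eq P).2 hyN
  -- `y` fixes at most three Sylow 409-subgroups
  let F := {R : Sylow 409 G | y • R = R}
  haveI := Fintype.ofFinite (MulAction.orbitRel.Quotient (P : Subgroup G) (Sylow 409 G))
  have horb : Nat.card (MulAction.orbitRel.Quotient (P : Subgroup G) (Sylow 409 G)) = 3 := by
    haveI := Fintype.ofFinite (P : Subgroup G)
    haveI := Fintype.ofFinite (Sylow 409 G)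
    have h := MulAction.sum_card_fixedBy_eq_card_orbits_mul_card_group (P : Subgroup G) (Sylow 409 G)
    rw [← Finset.sum_erase_add _ _ (Finset.mem_univ (1 : (P : Subgroup G)))] at h
    have h1 : ∀ x ∈ (Finset.univ : Finset (P : Subgroup G)).erase 1,
        Fintype.card (MulAction.fixedBy (Sylow 409 G) x) = 1 := by
      intro x hx
      rw [Fintype.card_eq_one_iff]
      refine ⟨⟨P, SylowFive.smul_eq_of_mem P x.2⟩, fun R => Subtype.ext ?_⟩
      have hx1 : (x : G) ≠ 1 := fun h => (Finset.mem_erase.1 hx).1 (Subtype.ext h)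
      have hxd : orderOf (x : G) ∣ 409 := by
        have h := Subgroup.orderOf_dvd_natCard (P : Subgroup G) x.2
        rwa [hc4 P] at h
      have hxo : orderOf (x : G) = 409 := ((Nat.dvd_prime (by norm_num : Nat.Prime 409)).1
        hxd).resolve_left (fun h => hx1 (orderOf_eq_one_iff.1 h))
      have hxR : (x : G) ∈ (R.1 : Subgroup G) := SylowFive.sylow_le_of_mem_normalizer R.1
        ((SylowFive.smul_sylow_eq R.1).1 R.2) 1 (by rw [pow_one]; exact orderOf_dvd_iff_pow_eq_one.1 hxd)
      exact Sylow.ext ((eq_of_le_of_card_ge (zpowers_le.2 hxR)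
        (by rw [Nat.card_zpowers, hxo, hc4])).symm.trans (eq_of_le_of_card_ge (zpowers_le.2 x.2)
        (by rw [Nat.card_zpowers, hxo, hc4])))
    rw [Finset.sum_congr rfl h1, Finset.sum_const, Finset.card_erase_of_mem (Finset.mem_univ _),
      Finset.card_univ, ← Nat.card_eq_fintype_card, ← Nat.card_eq_fintype_card,
      ← Nat.card_eq_fintype_card, hc4 P] at h
    have h2 : Nat.card (MulAction.fixedBy (Sylow 409 G) (1 : (P : Subgroup G))) = 819 := by
      rw [← hn4]
      exact Nat.card_congr (Equiv.subtypeUnivEquiv fun R => one_smul _ R)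
    simp only [smul_eq_mul] at h
    show Nat.card (Quotient (MulAction.orbitRel (P : Subgroup G) (Sylow 409 G))) = 3
    omega
  have hF3 : F.ncard ≤ 3 := by
    refine (Nat.card_coe_set_eq F).symm.le.trans (le_trans ?_ horb.le)
    refine Nat.card_le_card_of_injective
      (fun R : F => (Quotient.mk'' R.1 : MulAction.orbitRel.Quotient (P : Subgroup G) (Sylow 409 G))) ?_
    rintro ⟨R, hR⟩ ⟨R', hR'⟩ h
    obtain ⟨⟨z, hz⟩, hzR⟩ := Quotient.eq''.1 h
    replace hzR : z • R' = R := hzR
    have hR0 : y • R = R := hR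
    have hR1 : y • R' = R' := hR'
    apply Subtype.ext
    show R = R'
    have hw : (z⁻¹ * (y * z * y⁻¹)) • R' = R' := by
      rw [mul_smul, mul_smul, mul_smul, inv_smul_eq_iff.2 hR1.symm, hzR, hR0, ← hzR, inv_smul_smul]
    have hwP : z⁻¹ * (y * z * y⁻¹) ∈ (P : Subgroup G) :=
      mul_mem (inv_mem hz) ((mem_normalizer_iff.1 hyN z).1 hz)
    by_cases hw1 : z⁻¹ * (y * z * y⁻¹) = 1
    · rw [inv_mul_eq_one, eq_mul_inv_iff_mul_eq] at hw1
      rw [← hzR, hyC P hyP z hz hw1, one_smul]
    · have hwo : orderOf (z⁻¹ * (y * z * y⁻¹)) = 409 := ((Nat.dvd_prime (by norm_num : Nat.Prime 409)).1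
        (hc4 P ▸ Subgroup.orderOf_dvd_natCard _ hwP)).resolve_left (fun h => hw1 (orderOf_eq_one_iff.1 h))
      have hwR : z⁻¹ * (y * z * y⁻¹) ∈ (R' : Subgroup G) := SylowFive.sylow_le_of_mem_normalizer R'
        ((SylowFive.smul_sylow_eq R').1 hw) 1 (by rw [pow_one, ← hwo, pow_orderOf_eq_one])
      have hPR : P = R' := Sylow.ext ((eq_of_le_of_card_ge (zpowers_le.2 hwP)
        (by rw [Nat.card_zpowers, hwo, hc4])).symm.trans (eq_of_le_of_card_ge (zpowers_le.2 hwR)
        (by rw [Nat.card_zpowers, hwo, hc4])))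
      subst hPR
      rw [← hzR, SylowFive.smul_eq_of_mem P hz]
  -- hence `|C(y)| ≤ 9`
  have hCy9 : Nat.card Cy ≤ 9 := by
    have h := card_mul_index (MulAction.stabilizer Cy P)
    rw [MulAction.index_stabilizer] at h
    have h1 : (MulAction.orbit Cy P).ncard ≤ 3 := by
      refine le_trans (Set.ncard_le_ncard ?_) hF3
      rintro _ ⟨⟨c, hc⟩, rfl⟩
      show y • c • P = c • P
      rw [← mul_smul, ← mem_centralizer_singleton_iff.1 hc, mul_smul, hyP]
    have h2 : Nat.card (MulAction.stabilizer Cy P) ≤ 3 := by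
      let g : MulAction.stabilizer Cy P →* normalizer ((P : Subgroup G) : Set G) :=
        { toFun := fun c => ⟨((c : Cy) : G), (SylowFive.smul_sylow_eq P).1 c.2⟩
          map_one' := rfl
          map_mul' := fun _ _ => rfl }
      have hg : Function.Injective g := fun a b hab =>
        Subtype.ext (Subtype.ext (congrArg Subtype.val hab :))
      rw [Nat.card_congr (MonoidHom.ofInjective hg).toEquiv]
      have hd := card_subgroup_dvd_card g.range
      rw [hNc] at hd
      by_contra hlt
      have h409 : 409 ∣ Nat.card g.range := by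
        have key : ∀ n, n ∣ 3 * 409 → ¬ n ≤ 3 → 409 ∣ n := by
          intro n hn hn3
          obtain ⟨a, b, ha, hb, rfl⟩ := Nat.dvd_mul.1 hn
          rcases (Nat.dvd_prime (by norm_num : Nat.Prime 409)).1 hb with rfl | rfl
          · have := Nat.le_of_dvd (by norm_num) ha; omega
          · exact dvd_mul_left _ _
        exact key _ hd hlt
      obtain ⟨⟨⟨z, hz⟩, ⟨c, hcz⟩⟩, hzo⟩ := exists_prime_orderOf_dvd_card' 409 h409
      have hzG : orderOf z = 409 := by
        simpa [← orderOf_coe] using hzo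
      have hzy : z * y = y * z := by
        have : ((c : Cy) : G) = z := congrArg Subtype.val hcz
        rw [← this]
        exact mem_centralizer_singleton_iff.1 (c : Cy).2
      have hzP := SylowFive.sylow_le_of_mem_normalizer P hz 1
        (by rw [pow_one, ← hzG, pow_orderOf_eq_one])
      rw [hyC P hyP z hzP hzy, orderOf_one] at hzG
      omega
    calc Nat.card Cy = _ := h.symm
      _ ≤ 3 * 3 := Nat.mul_le_mul h2 h1
  -- count
  have hcount : ∀ {s : ℕ} [Fact s.Prime], (∀ S : Sylow s G, Nat.card S = s) →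
      Nat.card (Sylow s G) * (s - 1) ≤ Set.ncard {g : G | orderOf g = s} := by
    intro s _ hS
    haveI := Fintype.ofFinite (Sylow s G)
    have e1 : Nat.card (Σ S : Sylow s G, {x : (S : Subgroup G) // x ≠ 1}) =
        Nat.card (Sylow s G) * (s - 1) := by
      have hone : ∀ S : Sylow s G, Nat.card {x : (S : Subgroup G) // x ≠ 1} = s - 1 := fun S => by
        haveI := Fintype.ofFinite (S : Subgroup G)
        rw [Nat.card_eq_fintype_card, Fintype.card_subtype_compl, Fintype.card_subtype_eq,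
          ← Nat.card_eq_fintype_card, hS S]
      rw [Nat.card_sigma]
      simp only [hone, Finset.sum_const, Finset.card_univ, ← Nat.card_eq_fintype_card, smul_eq_mul]
    have ho : ∀ (S : Sylow s G) (x : (S : Subgroup G)), x ≠ 1 → orderOf (x : G) = s := by
      intro S x hx
      rcases (Nat.dvd_prime (Fact.out : s.Prime)).1
        (hS S ▸ Subgroup.orderOf_dvd_natCard _ x.2) with h | h
      · exact absurd (Subtype.ext (orderOf_eq_one_iff.1 h)) hx
      · exact h
    rw [← e1, ← Nat.card_coe_set_eq]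
    refine Nat.card_le_card_of_injective (fun a => ⟨(a.2.1 : G), ho a.1 a.2.1 a.2.2⟩) ?_
    rintro ⟨S, x, hx⟩ ⟨S', x', hx'⟩ h
    have hxx : (x : G) = x' := congrArg Subtype.val h
    have h1 : zpowers (x : G) = S :=
      eq_of_le_of_card_ge (zpowers_le.2 x.2) (by rw [Nat.card_zpowers, ho S x hx, hS S])
    have h2 : zpowers (x : G) = S' :=
      eq_of_le_of_card_ge (zpowers_le.2 (hxx ▸ x'.2)) (by rw [Nat.card_zpowers, ho S x hx, hS S'])
    have : S = S' := Sylow.ext (h1.symm.trans h2)
    subst this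
    have : x = x' := Subtype.ext hxx
    subst this
    rfl
  have h4 := hcount hc4
  have h13 := hcount hc13
  have h7 := hcount hc7
  rw [hn4] at h4
  have h3 : 111657 ≤ Set.ncard {g : G | orderOf g = 3} := by
    have hi := card_mul_index (MulAction.stabilizer (ConjAct G) y)
    rw [MulAction.index_stabilizer,
      show Nat.card (ConjAct G) = Nat.card G from Nat.card_congr ConjAct.ofConjAct.toEquiv, hG] at hi
    have hle : MulAction.orbit (ConjAct G) y ⊆ {g : G | orderOf g = 3} := by
      rintro _ ⟨g, rfl⟩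
      show orderOf (g • y) = 3
      rw [ConjAct.smul_def, ← hy3]
      exact (MulAut.conj (ConjAct.ofConjAct g)).orderOf_eq y
    have hst : Nat.card (MulAction.stabilizer (ConjAct G) y) ≤ 9 := by
      rw [ConjAct.stabilizer_eq_centralizer]; exact hCy9
    have := Set.ncard_le_ncard hle
    nlinarith
  have hdisj : ∀ a b : ℕ, a ≠ b → Disjoint {g : G | orderOf g = a} {g : G | orderOf g = b} :=
    fun a b hab => Set.disjoint_left.2 fun g h1 h2 => hab (h1.symm.trans h2)
  have htot := Set.ncard_le_card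
    ((({g : G | orderOf g = 409} ∪ {g : G | orderOf g = 13}) ∪ {g : G | orderOf g = 7}) ∪
      {g : G | orderOf g = 3})
  rw [Set.ncard_union_eq, Set.ncard_union_eq, Set.ncard_union_eq, hG] at htot
  · omega
  · exact hdisj _ _ (by norm_num)
  · exact Set.disjoint_union_left.2 ⟨hdisj _ _ (by norm_num), hdisj _ _ (by norm_num)⟩
  · exact Set.disjoint_union_left.2 ⟨Set.disjoint_union_left.2
      ⟨hdisj _ _ (by norm_num), hdisj _ _ (by norm_num)⟩, hdisj _ _ (by norm_num)⟩

end Cfsg.Agent.S1002
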