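import Cfsg.Statements.S1004
import Cfsg.Agent.Lib.SmallSimple.Order168Klein
import Mathlib


set_option autoImplicit false
open Cfsg

namespace Cfsg.Agent.S1004

open Subgroup

open Order168 SmallSimple in
theorem dihedral {G : Type*} [Group G] [Finite G] [IsSimpleGroup G] (h : Nat.card G = 168)
    (T : Sylow 2 G) : Nonempty (↥(T : Subgroup G) ≃* DihedralGroup 4) := by
  obtain ⟨x, t, D⟩ := gens h T
  obtain ⟨e⟩ := Invol.nonempty_dihedralEquiv D.tt D.inv D.tn
  have heq : closure ({t, x} : Set G) = (T : Subgroup G) := by
    refine le_antisymm ((closure_le _).2 ?_) fun a ha => ?_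
    · rintro a (rfl | rfl)
      · exact D.ht
      · exact D.hx
    · have hx : x ∈ closure ({t, x} : Set G) := subset_closure (by simp)
      have ht : t ∈ closure ({t, x} : Set G) := subset_closure (by simp)
      rcases D.cases_mem ha with rfl | rfl | rfl | rfl | rfl | rfl | rfl | rfl
      · exact one_mem _
      · exact hx
      · exact mul_mem hx hx
      · exact inv_mem hx
      · exact ht
      · exact mul_mem ht hx
      · exact mul_mem ht (mul_mem hx hx)
      · exact mul_mem ht (inv_mem hx)
  rw [D.ox] at e
  exact ⟨(MulEquiv.subgroupCongr heq).symm.trans e.symm⟩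

/-- Let G be a simple group of order 168 and T a Sylow 2-subgroup. Then T is dihedral of order 8, T is its own normalizer, and T is the centralizer of any non-identity element of T that commutes with every element of T. -/
theorem result {G : Type*} [Group G] [Finite G] [IsSimpleGroup G] (h : Nat.card G = 168) (T : Sylow 2 G) : Nonempty (↥(T : Subgroup G) ≃* DihedralGroup 4) ∧ Subgroup.normalizer ((T : Subgroup G) : Set G) = T ∧ ∀ z : G, z ∈ (T : Subgroup G) → z ≠ 1 → (∀ t ∈ (T : Subgroup G), t * z = z * t) → Subgroup.centralizer ({z} : Set G) = T := by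
  exact ⟨dihedral h T, Order168.normalizer_two h T, fun z hz hz1 hc =>
    Order168.centralizer_eq h T hz hz1 hc⟩

end Cfsg.Agent.S1004
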