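import Cfsg.Statements.S1007
import Cfsg.Agent.Lib.SmallSimple.Order168Klein
import Mathlib


set_option autoImplicit false
open Cfsg

namespace Cfsg.Agent.S1007

open Subgroup

open Order168 in
theorem not_conj {G : Type*} [Group G] [Finite G] [IsSimpleGroup G] (h : Nat.card G = 168)
    (T : Sylow 2 G) (U W : Subgroup G) (hU : U ≤ (T : Subgroup G)) (hW : W ≤ (T : Subgroup G))
    (hUK : IsKleinFour ↥U) (hWK : IsKleinFour ↥W) (hne : U ≠ W) (g : G) :
    U.map (MulAut.conj g).toMonoidHom ≠ W := by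
  haveI : Fact (Nat.Prime 2) := ⟨Nat.prime_two⟩
  intro he
  have hUn := le_normalizer_of_index_two h hU hUK.card_four (card_sylow_two h T)
  have hWn := le_normalizer_of_index_two h hW hWK.card_four (card_sylow_two h T)
  -- `T` and its conjugate are Sylow subgroups of `N(W)`
  have hmapn : ((g • T : Sylow 2 G) : Subgroup G) ≤ normalizer (W : Set G) := by
    rw [Sylow.coe_subgroup_smul]
    rintro _ ⟨a, ha, rfl⟩
    rw [← he, Subgroup.mem_normalizer_iff]
    intro b
    have hn := Subgroup.mem_normalizer_iff.1 (hUn ha)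
    constructor
    · rintro ⟨c, hc, rfl⟩
      exact ⟨a * c * a⁻¹, (hn c).1 hc, by simp [mul_assoc]⟩
    · rintro ⟨c, hc, hc'⟩
      refine ⟨a⁻¹ * c * a, (hn _).2 (by simpa [mul_assoc] using hc), ?_⟩
      simp only [MulEquiv.coe_toMonoidHom, MulAut.conj_apply, MulDistribMulAction.toMonoidEnd_apply] at hc' ⊢
      calc g * (a⁻¹ * c * a) * g⁻¹ = (g * a * g⁻¹)⁻¹ * (g * c * g⁻¹) * (g * a * g⁻¹) := by group
        _ = b := by
          rw [hc']
          simp [mul_assoc]
  obtain ⟨k, hkN, hk⟩ := SylowFive.exists_conj_of_sylow_le (g • T) T _ hmapn hWn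
  have hkg : k * g ∈ (T : Subgroup G) := by
    rw [← normalizer_two h T, ← SylowFive.smul_sylow_eq, mul_smul]
    exact hk
  have h1 : U.map (MulAut.conj (k * g)).toMonoidHom = U := by
    ext b
    have hn := Subgroup.mem_normalizer_iff.1 (hUn hkg)
    constructor
    · rintro ⟨c, hc, rfl⟩
      exact (hn c).1 hc
    · intro hb
      refine ⟨(k * g)⁻¹ * b * (k * g), (hn _).2 (by simpa [mul_assoc] using hb), ?_⟩
      simp [mul_assoc]
  refine hne (h1.symm.trans ?_)
  ext b
  have hn := Subgroup.mem_normalizer_iff.1 hkN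
  constructor
  · rintro ⟨c, hc, rfl⟩
    have := (hn (g * c * g⁻¹)).1 (he ▸ ⟨c, hc, rfl⟩)
    simpa [mul_assoc] using this
  · intro hb
    have h2 : k⁻¹ * b * k ∈ W := (hn _).2 (by simpa [mul_assoc] using hb)
    rw [← he] at h2
    obtain ⟨c, hc, hc'⟩ := h2
    refine ⟨c, hc, ?_⟩
    simp only [MulEquiv.coe_toMonoidHom, MulAut.conj_apply] at hc' ⊢
    calc k * g * c * (k * g)⁻¹ = k * (g * c * g⁻¹) * k⁻¹ := by group
      _ = b := by rw [hc']; group

/-- Let G be a simple group of order 168 and T a Sylow 2-subgroup. Then T contains exactly two subgroups that are Klein four-groups; they are not conjugate in G; and the normalizer of every Klein four-subgroup of G is isomorphic to the symmetric group of degree 4. -/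
theorem result {G : Type*} [Group G] [Finite G] [IsSimpleGroup G] (h : Nat.card G = 168) (T : Sylow 2 G) : Nat.card {U : Subgroup G // U ≤ (T : Subgroup G) ∧ IsKleinFour ↥U} = 2 ∧ (∀ U W : Subgroup G, U ≤ (T : Subgroup G) → W ≤ (T : Subgroup G) → IsKleinFour ↥U → IsKleinFour ↥W → U ≠ W → ∀ g : G, U.map (MulAut.conj g).toMonoidHom ≠ W) ∧ ∀ U : Subgroup G, IsKleinFour ↥U → Nonempty (↥(Subgroup.normalizer (U : Set G)) ≃* Equiv.Perm (Fin 4)) := by
  obtain ⟨x, t, D⟩ := Order168.gens h T
  refine ⟨?_, fun U W hU hW hUK hWK hne g => not_conj h T U W hU hW hUK hWK hne g, fun U hU => ?_⟩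
  · rw [Nat.card_eq_two_iff]
    refine ⟨⟨D.kleinA, D.kleinA_le, D.isKlein_A⟩, ⟨D.kleinB, D.kleinB_le, D.isKlein_B⟩,
      fun he => D.kleinA_ne (congrArg Subtype.val he), Set.eq_univ_of_forall fun U => ?_⟩
    rcases D.klein_cases U.2.1 U.2.2 with h1 | h1
    · exact Or.inl (Subtype.ext h1)
    · exact Or.inr (Subtype.ext h1)
  · exact S1012.result (Order168.card_normalizer_klein h hU) (Order168.no_order_six h _)

end Cfsg.Agent.S1007
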