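import Cfsg.Statements.S1008
import Cfsg.Agent.Lib.SmallSimple.Order168Klein
import Cfsg.Agent.S1007
import Mathlib


set_option autoImplicit false
open Cfsg

namespace Cfsg.Agent.S1008

open Subgroup

open Order168 in
theorem klein_unique {G : Type*} [Group G] [Finite G] [IsSimpleGroup G] (h : Nat.card G = 168)
    {U W : Subgroup G} (hU : IsKleinFour ↥U) (hW : IsKleinFour ↥W)
    (heq : normalizer (U : Set G) = normalizer (W : Set G)) : U = W := by
  haveI : Fact (Nat.Prime 2) := ⟨Nat.prime_two⟩
  obtain ⟨T, hT⟩ := (IsPGroup.of_card (p := 2) (n := 2) (G := U) (by rw [hU.card_four]; norm_num)).exists_le_sylow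
  obtain ⟨x, t, D⟩ := gens h T
  have hTN := le_normalizer_of_index_two h hT hU.card_four (card_sylow_two h T)
  have hWT : W ≤ (T : Subgroup G) := le_sylow_of_le_normalizer T W hTN
    (IsPGroup.of_card (p := 2) (n := 2) (by rw [hW.card_four]; norm_num)) (heq ▸ le_rfl)
  by_contra hne
  have hle : ∀ T' : Sylow 2 G, (T' : Subgroup G) ≤ normalizer (U : Set G) →
      U ≤ (T' : Subgroup G) ∧ W ≤ (T' : Subgroup G) := fun T' hT' =>
    ⟨le_sylow_of_le_normalizer T' U hT' (IsPGroup.of_card (p := 2) (n := 2) (by rw [hU.card_four]; norm_num)) le_rfl,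
     le_sylow_of_le_normalizer T' W hT' (IsPGroup.of_card (p := 2) (n := 2) (by rw [hW.card_four]; norm_num))
       (heq ▸ le_rfl)⟩
  have hsup : U ⊔ W = (T : Subgroup G) := by
    have hle1 : U ⊔ W ≤ (T : Subgroup G) := sup_le hT hWT
    refine eq_of_le_of_card_ge hle1 ?_
    by_contra hc
    have h1 := card_dvd_of_le hle1
    have h2 : 4 ∣ Nat.card ↥(U ⊔ W) := hU.card_four ▸ card_dvd_of_le le_sup_left
    rw [card_sylow_two h T] at h1 hc
    obtain ⟨j, hj⟩ := h2
    rw [hj] at h1 hc
    have : j ≤ 2 := by have := Nat.le_of_dvd (by norm_num) h1; omega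
    have hj1 : j = 1 := by interval_cases j <;> omega
    have e1 := eq_of_le_of_card_ge (le_sup_left : U ≤ U ⊔ W) (by rw [hj, hj1, hU.card_four])
    have e2 := eq_of_le_of_card_ge (le_sup_right : W ≤ U ⊔ W) (by rw [hj, hj1, hW.card_four])
    exact hne (e1.trans e2.symm)
  -- every Sylow subgroup of the normaliser would equal `T`
  have hTn : normalizer (U : Set G) ≤ normalizer ((T : Subgroup G) : Set G) := by
    intro g hg
    rw [← SylowFive.smul_sylow_eq]
    refine Sylow.ext ?_
    have hgT : ((g • T : Sylow 2 G) : Subgroup G) ≤ normalizer (U : Set G) := by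
      rw [Sylow.coe_subgroup_smul]
      rintro _ ⟨a, ha, rfl⟩
      exact mul_mem (mul_mem hg (hTN ha)) (inv_mem hg)
    obtain ⟨h1, h2⟩ := hle _ hgT
    refine (eq_of_le_of_card_ge (hsup ▸ sup_le h1 h2) ?_).symm
    rw [card_sylow_two h, card_sylow_two h T]
  rw [normalizer_two h T] at hTn
  have h3 := card_dvd_of_le hTn
  rw [card_normalizer_klein h hU, card_sylow_two h T] at h3
  norm_num at h3

/-- In a simple group of order 168 every maximal subgroup is either isomorphic to the symmetric group of degree 4 or non-abelian of order 21; the maximal subgroups of order 21 form one conjugacy class and those isomorphic to the symmetric group of degree 4 form exactly two conjugacy classes. -/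
theorem result {G : Type*} [Group G] [Finite G] [IsSimpleGroup G] (h : Nat.card G = 168) : (∀ M : Subgroup G, IsCoatom M → Nonempty (↥M ≃* Equiv.Perm (Fin 4)) ∨ (Nat.card ↥M = 21 ∧ ¬ IsMulCommutative ↥M)) ∧ (∀ M M' : Subgroup G, IsCoatom M → IsCoatom M' → Nat.card ↥M = 21 → Nat.card ↥M' = 21 → ∃ g : G, M' = M.map (MulAut.conj g).toMonoidHom) ∧ ∃ M₁ M₂ : Subgroup G, IsCoatom M₁ ∧ IsCoatom M₂ ∧ Nonempty (↥M₁ ≃* Equiv.Perm (Fin 4)) ∧ Nonempty (↥M₂ ≃* Equiv.Perm (Fin 4)) ∧ (∀ g : G, M₂ ≠ M₁.map (MulAut.conj g).toMonoidHom) ∧ ∀ M : Subgroup G, IsCoatom M → Nonempty (↥M ≃* Equiv.Perm (Fin 4)) → ∃ g : G, M = M₁.map (MulAut.conj g).toMonoidHom ∨ M = M₂.map (MulAut.conj g).toMonoidHom := by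
  haveI : Fact (Nat.Prime 7) := ⟨by norm_num⟩
  have hiso : ∀ M : Subgroup G, Nonempty (↥M ≃* Equiv.Perm (Fin 4)) → Nat.card M = 24 := by
    rintro M ⟨e⟩
    rw [Nat.card_congr e.toEquiv, Nat.card_perm, Nat.card_fin]
    rfl
  refine ⟨fun M hM => ?_, fun M M' hM hM' hc hc' => ?_, ?_⟩
  · rcases Order168.maximal_cases h hM with h1 | ⟨h1, S, hS⟩
    · exact Or.inl (S1012.result h1 (Order168.no_order_six h M))
    · refine Or.inr ⟨h1, fun hcomm => ?_⟩
      refine SmallSimple.not_normalizer_le_centralizer (Order168.not_comm h) (by rw [h]; norm_num) S ?_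
      rw [← hS]
      intro a ha
      refine mem_centralizer_iff.2 fun b hb => ?_
      have hb' : b ∈ M := hS ▸ le_normalizer hb
      exact congrArg Subtype.val (hcomm.is_comm.comm ⟨b, hb'⟩ ⟨a, ha⟩)
  · rcases Order168.maximal_cases h hM with h1 | ⟨-, S, rfl⟩
    · omega
    rcases Order168.maximal_cases h hM' with h1 | ⟨-, S', rfl⟩
    · omega
    obtain ⟨g, rfl⟩ := MulAction.exists_smul_eq G S S'
    refine ⟨g, ?_⟩
    rw [Sylow.coe_subgroup_smul]
    exact (Subgroup.map_equiv_normalizer_eq (S : Subgroup G) (MulAut.conj g)).symm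
  · obtain ⟨T⟩ : Nonempty (Sylow 2 G) := inferInstance
    obtain ⟨x, t, D⟩ := Order168.gens h T
    refine ⟨normalizer (D.kleinA : Set G), normalizer (D.kleinB : Set G),
      Order168.isCoatom_normalizer_klein h D.isKlein_A, Order168.isCoatom_normalizer_klein h D.isKlein_B,
      S1012.result (Order168.card_normalizer_klein h D.isKlein_A) (Order168.no_order_six h _),
      S1012.result (Order168.card_normalizer_klein h D.isKlein_B) (Order168.no_order_six h _),
      fun g hg => ?_, fun M hM hMs => ?_⟩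
    · rw [Subgroup.map_equiv_normalizer_eq D.kleinA (MulAut.conj g)] at hg
      have hK : IsKleinFour ↥(D.kleinA.map (MulAut.conj g).toMonoidHom) := by
        refine Order168.isKleinFour_of ?_ ?_
        · rw [card_map_of_injective (MulAut.conj g).injective, D.card_kleinA]
        · rintro _ ⟨a, ha, rfl⟩
          rw [← map_mul, Order168.exp_two D.isKlein_A ha, map_one]
      exact S1007.not_conj h T D.kleinA D.kleinB D.kleinA_le D.kleinB_le D.isKlein_A D.isKlein_B
        D.kleinA_ne g (klein_unique h D.isKlein_B hK hg).symm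
    · obtain ⟨U, hU, rfl⟩ := Order168.eq_normalizer_klein h (hiso M hMs)
      haveI : Fact (Nat.Prime 2) := ⟨Nat.prime_two⟩
      obtain ⟨T', hT'⟩ := (IsPGroup.of_card (p := 2) (n := 2) (G := U) (by rw [hU.card_four]; norm_num)).exists_le_sylow
      obtain ⟨g, rfl⟩ := MulAction.exists_smul_eq G T T'
      set U0 := U.map (MulAut.conj g⁻¹).toMonoidHom with hU0
      have hU0T : U0 ≤ (T : Subgroup G) := by
        rintro _ ⟨a, ha, rfl⟩
        have := hT' ha
        rw [Sylow.coe_subgroup_smul] at this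
        obtain ⟨b, hb, rfl⟩ := this
        simp [mul_assoc]
        exact hb
      have hK : IsKleinFour ↥U0 := by
        refine Order168.isKleinFour_of ?_ ?_
        · rw [hU0, card_map_of_injective (MulAut.conj g⁻¹).injective, hU.card_four]
        · rintro _ ⟨a, ha, rfl⟩
          rw [← map_mul, Order168.exp_two hU ha, map_one]
      have hback : U = U0.map (MulAut.conj g).toMonoidHom := by
        rw [hU0, Subgroup.map_map]
        ext a
        simp [mul_assoc]
      refine ⟨g, ?_⟩
      rcases D.klein_cases hU0T hK with e | e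
      · left
        rw [hback, e]
        exact (Subgroup.map_equiv_normalizer_eq D.kleinA (MulAut.conj g)).symm
      · right
        rw [hback, e]
        exact (Subgroup.map_equiv_normalizer_eq D.kleinB (MulAut.conj g)).symm

end Cfsg.Agent.S1008
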