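import Cfsg.Statements.S1009
import Cfsg.Agent.Lib.SmallSimple.Basic
import Mathlib


set_option autoImplicit false
open Cfsg

namespace Cfsg.Agent.S1009

open Subgroup

/-- Brodkey's Theorem: if a finite group has abelian Sylow p-subgroups, then there are two Sylow p-subgroups whose intersection equals the intersection of all Sylow p-subgroups. -/
theorem result {G : Type*} [Group G] [Finite G] (p : ℕ) [Fact p.Prime] (hab : ∀ P : Sylow p G, IsMulCommutative ↥(P : Subgroup G)) : ∃ P Q : Sylow p G, (P : Subgroup G) ⊓ (Q : Subgroup G) = ⨅ R : Sylow p G, (R : Subgroup G) := by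
  classical
  haveI := Fintype.ofFinite (Sylow p G)
  obtain ⟨⟨P, Q⟩, -, hmin⟩ := Finset.exists_min_image (Finset.univ : Finset (Sylow p G × Sylow p G))
    (fun x => Nat.card ↥((x.1 : Subgroup G) ⊓ (x.2 : Subgroup G))) Finset.univ_nonempty
  refine ⟨P, Q, le_antisymm (le_iInf fun R => ?_) (le_inf (iInf_le _ P) (iInf_le _ Q))⟩
  set D := (P : Subgroup G) ⊓ (Q : Subgroup G) with hD
  set C := centralizer (D : Set G)
  have hle : ∀ S : Sylow p G, D ≤ (S : Subgroup G) → (S : Subgroup G) ≤ C := fun S hS g hg =>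
    mem_centralizer_iff.2 fun d hd =>
      congrArg Subtype.val ((hab S).is_comm.comm ⟨d, hS hd⟩ ⟨g, hg⟩)
  have hPC := hle P inf_le_left
  obtain ⟨S, hS⟩ := (IsPGroup.to_le R.isPGroup'
    (inf_le_left : (R : Subgroup G) ⊓ C ≤ R)).comap_of_injective C.subtype
      C.subtype_injective |>.exists_le_sylow
  obtain ⟨c, hc⟩ := MulAction.exists_smul_eq C (P.subtype hPC) S
  have hRC : (R : Subgroup G) ⊓ C ≤ ((c : G) • P : Sylow p G) := by
    intro x hx
    have h1 : (⟨x, hx.2⟩ : C) ∈ S := hS hx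
    rw [← hc] at h1
    obtain ⟨y, hy, hyx⟩ := h1
    exact ⟨(y : G), hy, congrArg Subtype.val hyx⟩
  have hDc : ∀ T : Sylow p G, D ≤ (T : Subgroup G) → D ≤ (((c : G) • T : Sylow p G) : Subgroup G) := by
    intro T hT d hd
    refine ⟨d, hT hd, ?_⟩
    show (c : G) * d * (c : G)⁻¹ = d
    rw [← mem_centralizer_iff.1 c.2 d hd, mul_inv_cancel_right]
  have hQ' := hle _ (hDc Q inf_le_right)
  have key : (R : Subgroup G) ⊓ (((c : G) • Q : Sylow p G) : Subgroup G) ≤ D := by
    intro x hx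
    obtain ⟨y, hy, hyx⟩ := hRC ⟨hx.1, hQ' hx.2⟩
    obtain ⟨z, hz, hzx⟩ := hx.2
    have hyz : y = z := (MulAut.conj (c : G)).injective (hyx.trans hzx.symm)
    have hyD : y ∈ D := ⟨hy, hyz ▸ hz⟩
    rw [← hyx]
    show (c : G) * y * (c : G)⁻¹ ∈ D
    rw [← mem_centralizer_iff.1 c.2 y hyD, mul_inv_cancel_right]
    exact hyD
  have heq := eq_of_le_of_card_ge key (hmin (R, (c : G) • Q) (Finset.mem_univ _))
  exact heq ▸ inf_le_left

end Cfsg.Agent.S1009
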