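import Cfsg.Statements.S1011
import Cfsg.Agent.Lib.SmallSimple.RecognizeEven
import Cfsg.Agent.Lib.SmallSimple.Order504
import Mathlib

set_option autoImplicit false
open Cfsg

namespace Cfsg.Agent.S1011

/-- A simple group of order 504 is isomorphic to the projective special linear group of dimension 2 over the field with 8 elements. -/
theorem result {G : Type*} [Group G] [Finite G] [IsSimpleGroup G] (h : Nat.card G = 504) {F : Type*} [Field F] [Fintype F] (hF : Fintype.card F = 8) : Nonempty (G ≃* Matrix.ProjectiveSpecialLinearGroup (Fin 2) F) := by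
  haveI := Fintype.ofFinite (Sylow 2 G)
  exact RecognizeEven.mulEquiv_PSL_even (f := 3) (Order504.not_comm h) (α := Sylow 2 G) (by norm_num)
    (by rw [hF]; norm_num) (by rw [← Nat.card_eq_fintype_card, Order504.n_two h]; norm_num)
    (Order504.fix_two h) (by rw [h]; norm_num)

end Cfsg.Agent.S1011
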