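import Cfsg.Statements.S1013
import Cfsg.Agent.Lib.SmallSimple.Basic
import Cfsg.Agent.Lib.SmallSimple.SylowFive
import Mathlib


set_option autoImplicit false
open Cfsg

namespace Cfsg.Agent.S1013

open Subgroup

/-- Let G be a transitive permutation group of prime degree p having more than one Sylow p-subgroup, and suppose a Sylow p-subgroup P has prime index in its normalizer. Then G is simple. -/
theorem result {α : Type*} [Fintype α] [DecidableEq α] {p : ℕ} [Fact p.Prime] (hα : Fintype.card α = p) (G : Subgroup (Equiv.Perm α)) [MulAction.IsPretransitive ↥G α] (P : Sylow p ↥G) (hn : 1 < Nat.card (Sylow p ↥G)) (ht : (((P : Subgroup ↥G).subgroupOf (Subgroup.normalizer ((P : Subgroup ↥G) : Set ↥G))).index).Prime) : IsSimpleGroup ↥G := by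
  have hp : p.Prime := Fact.out
  obtain ⟨x₀⟩ : Nonempty α := Fintype.card_pos_iff.1 (hα ▸ hp.pos)
  have hpG : p ∣ Nat.card G := by
    have h := (MulAction.stabilizer G x₀).index_dvd_card
    rwa [MulAction.index_stabilizer_of_transitive, Nat.card_eq_fintype_card (α := α), hα] at h
  obtain ⟨hPc, hmult⟩ : Nat.card P = p ∧ ¬ p ∣ (P : Subgroup G).index := by
    refine ⟨?_, P.not_dvd_index⟩
    obtain ⟨k, hk⟩ := IsPGroup.iff_card.1 P.isPGroup'
    have h0 : Nat.card P ∣ p.factorial := by
      have h := (card_subgroup_dvd_card (P : Subgroup G)).trans (card_subgroup_dvd_card G)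
      rwa [Nat.card_perm, Nat.card_eq_fintype_card (α := α), hα] at h
    have h1 : p ^ k ∣ p.factorial := by rw [hk] at h0; exact h0
    rcases Nat.lt_or_ge k 2 with hk2 | hk2
    · rcases Nat.lt_or_ge k 1 with hk1 | hk1
      · exfalso
        obtain rfl : k = 0 := by omega
        exact P.ne_bot_of_dvd_card hpG (eq_bot_of_card_le _ (by rw [hk, pow_zero]))
      · rw [hk, show k = 1 by omega, pow_one]
    · exfalso
      have h2 : p * p ∣ p * (p - 1).factorial := by
        rw [Nat.mul_factorial_pred hp.ne_zero, ← pow_two]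
        exact (pow_dvd_pow p hk2).trans h1
      have h3 := hp.dvd_factorial.1 (Nat.dvd_of_mul_dvd_mul_left hp.pos h2)
      have := hp.two_le
      omega
  haveI : Nontrivial G := by
    rw [← Finite.one_lt_card_iff_nontrivial]
    exact lt_of_lt_of_le hp.one_lt (Nat.le_of_dvd Nat.card_pos hpG)
  haveI : FaithfulSMul G α := ⟨fun {a b} h => Subtype.ext (Equiv.ext h)⟩
  haveI : MulAction.IsPreprimitive G α :=
    MulAction.IsPreprimitive.of_prime_card (by rw [Nat.card_eq_fintype_card, hα]; exact hp)
  -- a non-trivial normal subgroup has order divisible by `p`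
  have hnorm : ∀ H : Subgroup G, H.Normal → H ≠ ⊥ → p ∣ Nat.card H := by
    intro H hH hne
    haveI := hH
    have hpre : MulAction.IsPretransitive H α := by
      refine MulAction.IsQuasiPreprimitive.isPretransitive_of_normal (fun htop => hne ?_)
      rw [eq_bot_iff]
      intro g hg
      refine mem_bot.2 (FaithfulSMul.eq_of_smul_eq_smul (α := α) fun a => ?_)
      have ha : a ∈ MulAction.fixedPoints H α := htop ▸ Set.mem_univ a
      rw [one_smul]
      exact ha ⟨g, hg⟩
    have h := (MulAction.stabilizer H x₀).index_dvd_card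
    rwa [MulAction.index_stabilizer_of_transitive, Nat.card_eq_fintype_card (α := α), hα] at h
  refine ⟨fun H hH => ?_⟩
  by_contra hc
  rw [not_or] at hc
  obtain ⟨hne, hnt⟩ := hc
  haveI := hH
  -- all Sylow subgroups lie in `H`
  obtain ⟨Q⟩ : Nonempty (Sylow p H) := inferInstance
  have hPH : (P : Subgroup G) ≤ H := by
    obtain ⟨h, hh⟩ := exists_prime_orderOf_dvd_card' p (hnorm H hH hne)
    obtain ⟨R, hR⟩ := (IsPGroup.of_card (p := p) (n := 1) (G := zpowers (h : G))
      (by rw [Nat.card_zpowers, Subgroup.orderOf_coe, hh, pow_one])).exists_le_sylow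
    have hRH : (R : Subgroup G) ≤ H := by
      have heq : zpowers (h : G) = (R : Subgroup G) := eq_of_le_of_card_ge hR (by
        rw [Nat.card_zpowers, Subgroup.orderOf_coe, hh, R.card_eq_multiplicity,
          ← P.card_eq_multiplicity, hPc])
      rw [← heq, zpowers_le]
      exact h.2
    obtain ⟨g, rfl⟩ := MulAction.exists_smul_eq G R P
    rintro _ ⟨y, hy, rfl⟩
    exact hH.conj_mem y (hRH hy) g
  set N := normalizer ((P : Subgroup G) : Set G) with hN
  have hsup : H ⊔ N = ⊤ := by
    refine eq_top_iff.2 fun g _ => ?_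
    obtain ⟨h, hhH, hh⟩ := SylowFive.exists_conj_of_sylow_le P (g • P) H hPH (by
      rintro _ ⟨y, hy, rfl⟩
      exact hH.conj_mem y (hPH hy) g)
    have hmem : h⁻¹ * g ∈ N := by
      rw [hN, ← SylowFive.smul_sylow_eq, mul_smul, ← hh, inv_smul_smul]
    have : g = h * (h⁻¹ * g) := by group
    rw [this]
    exact mul_mem (mem_sup_left hhH) (mem_sup_right hmem)
  -- `N ∩ H = P`
  set t := ((P : Subgroup G).subgroupOf N).index
  have hdvd : H.relIndex N ∣ t := relIndex_dvd_of_le_left N hPH
  have hNH : N ⊓ H = (P : Subgroup G) := by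
    rcases (Nat.dvd_prime ht).1 hdvd with h1 | h1
    · exfalso
      refine hnt (eq_top_iff.2 ?_)
      rw [← hsup]
      exact sup_le le_rfl (relIndex_eq_one.1 h1)
    · refine (eq_of_le_of_card_ge (le_inf le_normalizer hPH) ?_).symm
      have e1 : Nat.card N = t * Nat.card ↥(P : Subgroup G) := by
        rw [← index_mul_card ((P : Subgroup G).subgroupOf N),
          Nat.card_congr (subgroupOfEquivOfLe (le_normalizer (H := (P : Subgroup G)))).toEquiv]
      have e2 : Nat.card N = t * Nat.card ↥(N ⊓ H : Subgroup G) := by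
        rw [← index_mul_card (H.subgroupOf N), ← h1]
        congr 1
        rw [inf_comm, ← inf_subgroupOf_right]
        exact Nat.card_congr (subgroupOfEquivOfLe inf_le_right).toEquiv
      exact le_of_eq (Nat.eq_of_mul_eq_mul_left ht.pos (e2.symm.trans e1))
  -- Burnside
  set P' := P.subtype hPH with hP'
  have hN' : normalizer ((P' : Subgroup H) : Set H) = (P' : Subgroup H) := by
    rw [hP', Sylow.coe_subtype, ← subgroupOf_normalizer_eq hPH, ← hN, ← inf_subgroupOf_right, hNH]
  haveI : IsCyclic ↥(P : Subgroup G) := isCyclic_of_prime_card hPc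
  have hcomm : ∀ a ∈ (P : Subgroup G), ∀ b ∈ (P : Subgroup G), a * b = b * a := fun a ha b hb =>
    congrArg Subtype.val (IsMulCommutative.is_comm.comm (⟨a, ha⟩ : ↥(P : Subgroup G)) ⟨b, hb⟩)
  have hle : normalizer ((P' : Subgroup H) : Set H) ≤ centralizer ((P' : Subgroup H) : Set H) := by
    rw [hN']
    exact fun a ha => mem_centralizer_iff.2 fun b hb => Subtype.ext (hcomm b hb a ha)
  have hcompl := MonoidHom.ker_transferSylow_isComplement' P' hle
  set K := (MonoidHom.transferSylow P' hle).ker with hK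
  have hK1 := hcompl.card_mul
  have hP'c : Nat.card P' = p := by
    rw [Sylow.coe_subtype, Nat.card_congr (subgroupOfEquivOfLe hPH).toEquiv, hPc]
  have hKco : Nat.Coprime (Nat.card K) p := by
    have h2 := Subgroup.card_mul_index (P' : Subgroup H)
    rw [hP'c] at h2 hK1
    rw [mul_comm] at hK1
    rw [Nat.eq_of_mul_eq_mul_left hp.pos (hK1.trans h2.symm), Nat.coprime_comm,
      hp.coprime_iff_not_dvd]
    exact P'.not_dvd_index
  -- `K` is normal in `G`
  have hKiff : ∀ g : H, g ∈ K ↔ g ^ Nat.card K = 1 := by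
    refine fun g => ⟨fun hg => ?_, fun hg => ?_⟩
    · exact congrArg Subtype.val (pow_card_eq_one' (x := (⟨g, hg⟩ : K)))
    · rw [hK, MonoidHom.mem_ker]
      set z := MonoidHom.transferSylow P' hle g with hz
      have h1 : z ^ Nat.card K = 1 := by rw [hz, ← map_pow, hg, map_one]
      have h2 : z ^ p = 1 := by
        have h3 := pow_card_eq_one' (x := z)
        rwa [hP'c] at h3
      rw [← orderOf_eq_one_iff, ← Nat.dvd_one, ← hKco]
      exact Nat.dvd_gcd (orderOf_dvd_of_pow_eq_one h1) (orderOf_dvd_of_pow_eq_one h2)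
  have hKG : (K.map H.subtype).Normal := by
    refine ⟨?_⟩
    rintro _ ⟨k, hk, rfl⟩ g
    refine ⟨⟨g * (k : G) * g⁻¹, hH.conj_mem _ k.2 g⟩, (hKiff _).2 (Subtype.ext ?_), rfl⟩
    rw [Subgroup.coe_pow, conj_pow, ← Subgroup.coe_pow, (hKiff k).1 hk]
    simp
  have hKbot : K = ⊥ := by
    by_contra hKne
    have h := hnorm _ hKG (fun h => hKne ((map_eq_bot_iff_of_injective _ H.subtype_injective).1 h))
    rw [card_map_of_injective H.subtype_injective] at h
    exact hp.one_lt.ne' (Nat.dvd_one.1 (hKco ▸ Nat.dvd_gcd h dvd_rfl))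
  have hHP : H = (P : Subgroup G) := by
    rw [hKbot, isComplement'_bot_left] at hcompl
    refine le_antisymm (fun g hg => ?_) hPH
    have : (⟨g, hg⟩ : H) ∈ (P' : Subgroup H) := hcompl ▸ mem_top _
    exact this
  have hPn : (P : Subgroup G).Normal := hHP ▸ hH
  have : Nat.card (Sylow p G) = (normalizer ((P : Subgroup G) : Set G)).index :=
    Sylow.card_eq_index_normalizer P
  rw [normalizer_eq_top_iff.2 hPn, index_top] at this
  omega

end Cfsg.Agent.S1013
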