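import Cfsg.Statements.S1014
import Cfsg.Agent.Lib.SmallSimple.PrimeSylow
import Mathlib


set_option autoImplicit false
open Cfsg

namespace Cfsg.Agent.S1014

open Subgroup

/-- No finite simple group has order 1104 = 2^4 * 3 * 23. -/
theorem result {G : Type*} [Group G] [Finite G] [IsSimpleGroup G] : Nat.card G ≠ 1104 := by
  intro h
  haveI : Fact (Nat.Prime 23) := ⟨by norm_num⟩
  have hnc : ¬ IsMulCommutative G := SmallSimple.not_isMulCommutative (by rw [h]; norm_num)
  obtain ⟨P⟩ : Nonempty (Sylow 23 G) := inferInstance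
  have hPc : Nat.card P = 23 := by
    rw [SmallSimple.card_sylow_of_eq (k := 1) (m := 48) P (by rw [h]; norm_num) (by norm_num), pow_one]
  have hdvd : Nat.card (Sylow 23 G) ∣ 48 := by
    have h1 := P.card_dvd_index
    have h2 := Subgroup.card_mul_index (P : Subgroup G)
    rw [hPc, h] at h2
    rwa [show (P : Subgroup G).index = 48 by omega] at h1
  have hmod := card_sylow_modEq_one 23 G
  have hne := SmallSimple.card_sylow_ne_one hnc (p := 23) (by rw [h]; norm_num)
  have hn : Nat.card (Sylow 23 G) = 24 := by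
    have key : ∀ n ∈ Nat.divisors 48, n % 23 = 1 → n = 1 ∨ n = 24 := by decide
    exact (key _ (Nat.mem_divisors.2 ⟨hdvd, by norm_num⟩) hmod).resolve_left hne
  obtain ⟨e, he, he1, hec⟩ := SmallSimple.sylow_relIndex hnc P hPc
  have hN := SmallSimple.card_sylow_mul P
  rw [hn, h] at hN
  have hN' : Nat.card (normalizer ((P : Subgroup G) : Set G)) = 46 := by omega
  haveI : Fact (Nat.Prime 2) := ⟨Nat.prime_two⟩
  obtain ⟨⟨t, htN⟩, ht⟩ := exists_prime_orderOf_dvd_card' 2
    (show 2 ∣ Nat.card (normalizer ((P : Subgroup G) : Set G)) by rw [hN']; norm_num)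
  have ht2 : orderOf t = 2 := by
    rw [← ht]; exact (Subgroup.orderOf_coe (⟨t, htN⟩ : normalizer ((P : Subgroup G) : Set G)))
  have htC := SmallSimple.no_involution_of_card_sylow_succ hnc P hPc hn (by norm_num)
    (t := t) (by rw [← pow_two]; exact orderOf_dvd_iff_pow_eq_one.1 (dvd_of_eq ht2)) htN
  have h2 := Subgroup.orderOf_dvd_natCard _ htC
  rw [ht2] at h2
  rw [hN'] at hec
  obtain ⟨c, hc⟩ := h2
  rw [hc] at hec
  have h23 : e ∣ 23 := ⟨c, by nlinarith⟩
  exact he1 (Nat.dvd_one.1 (show e ∣ Nat.gcd (23 - 1) 23 from Nat.dvd_gcd he h23))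

end Cfsg.Agent.S1014
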