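import Cfsg.Statements.S1015
import Cfsg.Agent.Lib.SmallSimple.PrimeSylow
import Mathlib


set_option autoImplicit false
open Cfsg

namespace Cfsg.Agent.S1015

open Subgroup

/-- No finite simple group has order 1200 = 2^4 * 3 * 5^2. -/
theorem result {G : Type*} [Group G] [Finite G] [IsSimpleGroup G] : Nat.card G ≠ 1200 := by
  intro h
  haveI : Fact (Nat.Prime 5) := ⟨by norm_num⟩
  have hnc : ¬ IsMulCommutative G := SmallSimple.not_isMulCommutative (by rw [h]; norm_num)
  obtain ⟨P⟩ : Nonempty (Sylow 5 G) := inferInstance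
  have hc : ∀ S : Sylow 5 G, Nat.card S = 5 ^ 2 := fun S =>
    SmallSimple.card_sylow_of_eq (k := 2) (m := 48) S (by rw [h]; norm_num) (by norm_num)
  have h5 : 5 ∣ Nat.card G := by rw [h]; norm_num
  have hdvd : Nat.card (Sylow 5 G) ∣ 48 := by
    have h1 := P.card_dvd_index
    have h2 := Subgroup.card_mul_index (P : Subgroup G)
    rw [hc P, h] at h2
    rwa [show (P : Subgroup G).index = 48 by omega] at h1
  have hn : Nat.card (Sylow 5 G) = 16 := by
    have key : ∀ n ∈ Nat.divisors 48, n % 5 = 1 → n = 1 ∨ n = 6 ∨ n = 16 := by decide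
    rcases key _ (Nat.mem_divisors.2 ⟨hdvd, by norm_num⟩) (card_sylow_modEq_one 5 G) with
      h1 | h1 | h1
    · exact absurd h1 (SmallSimple.card_sylow_ne_one hnc h5)
    · have := SmallSimple.card_dvd_factorial_sylow hnc h5
      rw [h1, h] at this
      exact absurd this (by decide)
    · exact h1
  obtain ⟨R, hR⟩ : ∃ R : Sylow 5 G, R ≠ P := by
    haveI : Nontrivial (Sylow 5 G) := Finite.one_lt_card_iff_nontrivial.1 (by omega)
    exact exists_ne P
  -- a non-trivial element of `P` in a second Sylow subgroup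
  obtain ⟨w, hwP, hw1, hwR⟩ : ∃ w ∈ (P : Subgroup G), w ≠ 1 ∧ w • R = R := by
    by_contra hc'
    have hinj : Function.Injective (fun u : ↥(P : Subgroup G) => (u : G) • R) := by
      intro u v huv
      by_contra hne
      refine hc' ⟨(v : G)⁻¹ * u, mul_mem (inv_mem v.2) u.2,
        fun h1 => hne (Subtype.ext (inv_mul_eq_one.1 h1).symm), ?_⟩
      rw [mul_smul, inv_smul_eq_iff]
      exact huv
    have := Nat.card_le_card_of_injective _ hinj
    rw [hc P, hn] at this
    norm_num at this
  have hwR' : w ∈ (R : Subgroup G) := by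
    refine SylowFive.sylow_le_of_mem_normalizer R ((SylowFive.smul_sylow_eq R).1 hwR) 2 ?_
    have h1 := Subgroup.orderOf_dvd_natCard (P : Subgroup G) hwP
    rw [hc P] at h1
    exact orderOf_dvd_iff_pow_eq_one.1 h1
  set C := centralizer ({w} : Set G) with hC
  have hle : ∀ S : Sylow 5 G, w ∈ (S : Subgroup G) → (S : Subgroup G) ≤ C := fun S hw g hg => by
    haveI := IsPGroup.isMulCommutative_of_card_eq_prime_sq (hc S)
    exact mem_centralizer_singleton_iff.2 (congrArg Subtype.val
      (mul_comm' (⟨g, hg⟩ : ↥(S : Subgroup G)) ⟨w, hw⟩))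
  have hCtop := SmallSimple.centralizer_singleton_ne_top hnc hw1
  set P' : Sylow 5 C := P.subtype (hle P hwP)
  set R' : Sylow 5 C := R.subtype (hle R hwR')
  have hne : Nat.card (Sylow 5 C) ≠ 1 := by
    intro h1
    haveI := (Nat.card_eq_one_iff_unique.1 h1).1
    exact hR (Sylow.subtype_injective (Subsingleton.elim R' P'))
  have hP'c : Nat.card P' = 5 ^ 2 := by
    rw [Sylow.coe_subtype, Nat.card_congr (subgroupOfEquivOfLe (hle P hwP)).toEquiv, hc P]
  have h1 := P'.card_dvd_index
  have h2 := Subgroup.card_mul_index (P' : Subgroup C)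
  rw [hP'c] at h2
  have h3 := C.card_mul_index
  rw [h, ← h2] at h3
  have h4 := SmallSimple.card_dvd_factorial_index hCtop
  rw [h] at h4
  have hmod := card_sylow_modEq_one 5 C
  have hm : (P' : Subgroup C).index * C.index = 48 := by linarith
  have hm6 : 6 ≤ (P' : Subgroup C).index := by
    have hle' := Nat.le_of_dvd (Nat.pos_of_ne_zero (fun h0 => by simp [h0] at hm)) h1
    have : Nat.card (Sylow 5 C) % 5 = 1 := hmod
    omega
  have hi : C.index ≤ 8 := by nlinarith
  interval_cases hj : C.index <;> revert h4 <;> decide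

end Cfsg.Agent.S1015
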