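import Cfsg.Statements.S1016
import Cfsg.Agent.Lib.SmallSimple.BlockRigid

set_option autoImplicit false
open Cfsg

namespace Cfsg.Agent.S1016

/-- No finite simple group has order 1440 = 2^5 * 3^2 * 5. -/
theorem result {G : Type*} [Group G] [Finite G] [IsSimpleGroup G] : Nat.card G ≠ 1440 := by
  intro hN
  haveI : Fact (Nat.Prime 5) := ⟨by norm_num⟩
  have hnc : ¬ IsMulCommutative G := SmallSimple.not_isMulCommutative (by rw [hN]; norm_num)
  obtain ⟨n, e, c, hn, hnm, hn1, he, he1, hnec, hs, P, hcard, hNc, hCc⟩ :=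
    SmallSimple.block_data 5 (m := 288) (B := 37) hN (by norm_num) (by norm_num) (by norm_num) (by norm_num)
  have hn0 : 0 < n := Nat.pos_of_ne_zero fun h => by simp [h] at hnm
  have key : ∀ n ∈ Nat.divisors 288, n % 5 = 1 → n ≠ 1 → ∀ e ∈ Nat.divisors (5 - 1), e ≠ 1 → e ∣ 288 / n →
      288 / n / e ≠ 1 ∧
      SmallSimple.searchL (SmallSimple.bigCands 1440 5 37) (2 * 5) 1440 5 e (e - 1) 1 1 = false := by
    decide +kernel
  have hd : e ∣ 288 / n := ⟨c, by rw [← hnec, Nat.mul_div_cancel_left _ hn0]⟩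
  obtain ⟨k1, k2⟩ := key n (Nat.mem_divisors.2 ⟨hn, by norm_num⟩) hnm hn1 e
    (Nat.mem_divisors.2 ⟨he, by norm_num⟩) he1 hd
  have he0 : 0 < e := Nat.pos_of_ne_zero fun h => by simp [h] at he
  have hc : c ≠ 1 := by
    rw [← hnec, Nat.mul_div_cancel_left _ hn0, Nat.mul_div_cancel_left _ he0] at k1
    exact k1
  have hP : Nat.card P = 5 := by
    simpa using SmallSimple.card_sylow_of_eq (k := 1) (m := 288) P (by rw [hN]; norm_num) (by norm_num)
  exact Bool.false_ne_true (k2.symm.trans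
    (SmallSimple.search_big hnc hN (by norm_num) P hP he1 hNc hCc hc))

end Cfsg.Agent.S1016
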