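import Cfsg.Statements.S1017
import Cfsg.Agent.Lib.SmallSimple.BlockSeven

set_option autoImplicit false
open Cfsg

namespace Cfsg.Agent.S1017

/-- No finite simple group has order 2016 = 2^5 * 3^2 * 7. -/
theorem result {G : Type*} [Group G] [Finite G] [IsSimpleGroup G] : Nat.card G ≠ 2016 := by
  intro hN
  haveI : Fact (Nat.Prime 7) := ⟨by norm_num⟩
  have hnc : ¬ IsMulCommutative G := SmallSimple.not_isMulCommutative (by rw [hN]; norm_num)
  obtain ⟨n, e, c, hn, hnm, hn1, he, he1, hnec, hs, P, hcard, hNc, hCc⟩ :=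
    SmallSimple.block_data 7 (m := 288) (B := 44) hN (by norm_num) (by norm_num) (by norm_num) (by norm_num)
  have hn0 : 0 < n := Nat.pos_of_ne_zero fun h => by simp [h] at hnm
  have key : ∀ n ∈ Nat.divisors 288, n % 7 = 1 → n ≠ 1 → ∀ e ∈ Nat.divisors (7 - 1), e ≠ 1 → e ∣ 288 / n →
      SmallSimple.search 2016 7 44 e (e - 1) 1 1 = true → n = 8 ∨ (n = 36 ∧ e = 2) := by decide +kernel
  have hd : e ∣ 288 / n := ⟨c, by rw [← hnec, Nat.mul_div_cancel_left _ hn0]⟩
  have hP : Nat.card P = 7 := by
    simpa using SmallSimple.card_sylow_of_eq (k := 1) (m := 288) P (by rw [hN]; norm_num) (by norm_num)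
  rcases key n (Nat.mem_divisors.2 ⟨hn, by norm_num⟩) hnm hn1 e (Nat.mem_divisors.2 ⟨he, by norm_num⟩) he1 hd hs
    with rfl | ⟨rfl, rfl⟩
  · have hi : (Subgroup.normalizer ((P : Subgroup G) : Set G)).index = 8 := by
      have h := Sylow.card_eq_index_normalizer P
      rw [hcard] at h
      exact h.symm
    have hc36 : e * c = 36 := by omega
    have hc7 : ¬ 7 ∣ c := fun h => by
      have h2 := h.trans (Dvd.intro_left e hc36)
      norm_num at h2
    have hc1 := SmallSimple.card_eq_seven_of_index hnc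
      (fun h => by rw [h, Subgroup.index_top] at hi; omega) (le_of_eq_of_le hi (by norm_num)) P hP hCc hc7
    subst hc1
    rw [mul_one] at hc36
    subst hc36
    norm_num at he
  · have hc : c = 4 := by omega
    subst hc
    exact SmallSimple.no_dihedral_times_two_group hnc (k := 2) le_rfl (by rw [hN]; norm_num) P hP
      (by rw [hNc]; norm_num) (by rw [hCc]; norm_num)

end Cfsg.Agent.S1017
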