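import Cfsg.Statements.S1019
import Mathlib


set_option autoImplicit false
open Cfsg

namespace Cfsg.Agent.S1019

/-- Let H be a subgroup of a finite group G and x an element of H. In the action of G on the left cosets of H, the number of cosets fixed by x, multiplied by the size of the conjugacy class of x, equals the index of H multiplied by the number of conjugates of x that lie in H. -/
theorem result {G : Type*} [Group G] [Finite G] (H : Subgroup G) (x : G) (hx : x ∈ H) : Nat.card (MulAction.fixedBy (G ⧸ H) x) * Nat.card {g : G // IsConj x g} = H.index * Nat.card {g : G // IsConj x g ∧ g ∈ H} := by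
  classical
  set C := Subgroup.centralizer ({x} : Set G) with hC
  let S : Set G := {g | g⁻¹ * x * g ∈ H}
  have h1 : Nat.card S = Nat.card (MulAction.fixedBy (G ⧸ H) x) * Nat.card H := by
    have hS : S = QuotientGroup.mk ⁻¹' (MulAction.fixedBy (G ⧸ H) x) := by
      ext g
      simp only [S, Set.mem_preimage, MulAction.mem_fixedBy, Set.mem_setOf_eq]
      rw [MulAction.Quotient.smul_mk, QuotientGroup.eq, smul_eq_mul, mul_inv_rev,
        show g⁻¹ * x⁻¹ * g = (g⁻¹ * x * g)⁻¹ by group, inv_mem_iff]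
    rw [hS, Nat.card_congr (QuotientGroup.preimageMkEquivSubgroupProdSet H _), Nat.card_prod,
      mul_comm]
  have h2 : Nat.card S = Nat.card C * Nat.card {g : G // IsConj x g ∧ g ∈ H} := by
    let f : S → {g : G // IsConj x g ∧ g ∈ H} := fun g =>
      ⟨(g : G)⁻¹ * x * g, isConj_iff.2 ⟨(g : G)⁻¹, by simp⟩, g.2⟩
    have hfs : ∀ y, ∃ g, f g = y := by
      rintro ⟨y, hy, hyH⟩
      obtain ⟨c, hc⟩ := isConj_iff.1 hy
      refine ⟨⟨c⁻¹, ?_⟩, ?_⟩
      · show (c⁻¹)⁻¹ * x * c⁻¹ ∈ H
        rw [inv_inv, hc]; exact hyH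
      · apply Subtype.ext
        show (c⁻¹)⁻¹ * x * c⁻¹ = y
        rw [inv_inv, hc]
    choose sec hsec using hfs
    refine (Nat.card_congr ?_).trans (Nat.card_prod C {g : G // IsConj x g ∧ g ∈ H})
    refine {
      toFun := fun g => (⟨(g : G) * (sec (f g) : G)⁻¹, ?_⟩, f g)
      invFun := fun cy => ⟨(cy.1 : G) * (sec cy.2 : G), ?_⟩
      left_inv := fun g => ?_
      right_inv := fun cy => ?_ }
    · rw [Subgroup.mem_centralizer_singleton_iff]
      have h := congrArg Subtype.val (hsec (f g))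
      simp only [f] at h
      calc (g : G) * (sec (f g) : G)⁻¹ * x
          = g * ((sec (f g) : G)⁻¹ * x * sec (f g)) * (sec (f g) : G)⁻¹ := by group
        _ = g * ((g : G)⁻¹ * x * g) * (sec (f g) : G)⁻¹ := by rw [h]
        _ = x * (g * (sec (f g) : G)⁻¹) := by group
    · show ((cy.1 : G) * (sec cy.2 : G))⁻¹ * x * ((cy.1 : G) * (sec cy.2 : G)) ∈ H
      have hc := Subgroup.mem_centralizer_singleton_iff.1 cy.1.2
      rw [mul_inv_rev, show (sec cy.2 : G)⁻¹ * (cy.1 : G)⁻¹ * x * ((cy.1 : G) * (sec cy.2 : G)) =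
        (sec cy.2 : G)⁻¹ * ((cy.1 : G)⁻¹ * (x * cy.1)) * sec cy.2 by group, ← hc,
        inv_mul_cancel_left]
      exact (sec cy.2).2
    · exact Subtype.ext (inv_mul_cancel_right _ _)
    · have hc := Subgroup.mem_centralizer_singleton_iff.1 cy.1.2
      have hf : f ⟨(cy.1 : G) * (sec cy.2 : G), by
          show ((cy.1 : G) * (sec cy.2 : G))⁻¹ * x * ((cy.1 : G) * (sec cy.2 : G)) ∈ H
          rw [mul_inv_rev, show (sec cy.2 : G)⁻¹ * (cy.1 : G)⁻¹ * x *
              ((cy.1 : G) * (sec cy.2 : G)) =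
            (sec cy.2 : G)⁻¹ * ((cy.1 : G)⁻¹ * (x * cy.1)) * sec cy.2 by group, ← hc,
            inv_mul_cancel_left]
          exact (sec cy.2).2⟩ = cy.2 := by
        apply Subtype.ext
        rw [← congrArg Subtype.val (hsec cy.2)]
        show ((cy.1 : G) * (sec cy.2 : G))⁻¹ * x * ((cy.1 : G) * (sec cy.2 : G)) = _
        rw [mul_inv_rev, show (sec cy.2 : G)⁻¹ * (cy.1 : G)⁻¹ * x *
            ((cy.1 : G) * (sec cy.2 : G)) =
          (sec cy.2 : G)⁻¹ * ((cy.1 : G)⁻¹ * (x * cy.1)) * sec cy.2 by group, ← hc,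
          inv_mul_cancel_left]
      refine Prod.ext (Subtype.ext ?_) hf
      show (cy.1 : G) * (sec cy.2 : G) * (sec (f _) : G)⁻¹ = cy.1
      rw [hf, mul_inv_cancel_right]
  have h3 : Nat.card {g : G // IsConj x g} * Nat.card C = Nat.card G := by
    have h := Subgroup.card_mul_index (MulAction.stabilizer (ConjAct G) x)
    rw [MulAction.index_stabilizer, ← Nat.card_coe_set_eq] at h
    rw [show Nat.card G = Nat.card (ConjAct G) from Nat.card_congr ConjAct.toConjAct.toEquiv, ← h,
      mul_comm (Nat.card {g : G // IsConj x g})]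
    congr 1
    · rw [ConjAct.stabilizer_eq_centralizer]; rfl
    · exact Nat.card_congr (Equiv.subtypeEquivRight fun g => by
        rw [ConjAct.mem_orbit_conjAct]; exact isConj_comm)
  have h4 := Subgroup.card_mul_index H
  have hpos : 0 < Nat.card H * Nat.card C := Nat.mul_pos Nat.card_pos Nat.card_pos
  apply Nat.eq_of_mul_eq_mul_right hpos
  calc Nat.card (MulAction.fixedBy (G ⧸ H) x) * Nat.card {g : G // IsConj x g} *
        (Nat.card H * Nat.card C)
      = (Nat.card (MulAction.fixedBy (G ⧸ H) x) * Nat.card H) *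
        (Nat.card {g : G // IsConj x g} * Nat.card C) := by ring
    _ = Nat.card S * Nat.card G := by rw [← h1, h3]
    _ = _ := by rw [h2, ← h4]; ring

end Cfsg.Agent.S1019
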