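import Cfsg.Statements.S1022
import Cfsg.Agent.Lib.SmallSimple.Basic

set_option autoImplicit false
open Cfsg

namespace Cfsg.Agent.S1022

open Subgroup SmallSimple

variable {G : Type*} [Group G] [Finite G]

private theorem exists_central_fixed (N : Subgroup G) (W V : Subgroup G) (hVW : V ≤ W)
    (hWN : W ≤ N) (hV : W ≤ normalizer (V : Set G)) {u : G} (hu : u ∈ normalizer (W : Set G))
    (hu2 : u * u ∈ W) (hsize : Nat.card W < Nat.card V * Nat.card V)
    (hW2 : IsPGroup 2 W) :
    ∃ t ∈ V, t ≠ 1 ∧ (∀ w ∈ W, t * w = w * t) ∧ t * u = u * t := by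
  let R : Subgroup G := W ⊔ zpowers u
  let D : Subgroup G := V ⊓ V.map (MulAut.conj u).toMonoidHom
  have hV'W : V.map (MulAut.conj u).toMonoidHom ≤ W := by
    rintro _ ⟨v, hv, rfl⟩
    simpa using (mem_normalizer_iff.1 hu v).1 (hVW hv)
  have hWV' : W ≤ normalizer ((V.map (MulAut.conj u).toMonoidHom : Subgroup G) : Set G) := by
    intro w hw
    have hw' : u⁻¹ * w * u ∈ W := by
      simpa using (mem_normalizer_iff.1 (inv_mem hu) w).1 hw
    have := le_normalizer_map (MulAut.conj u).toMonoidHom ⟨_, hV hw', rfl⟩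
    simpa [mul_assoc] using this
  have hWD : W ≤ normalizer (D : Set G) := by
    intro w hw
    rw [mem_normalizer_iff]
    intro x
    exact and_congr (mem_normalizer_iff.1 (hV hw) x) (mem_normalizer_iff.1 (hWV' hw) x)
  have huD : u ∈ normalizer (D : Set G) := by
    rw [mem_normalizer_iff_map_conj_eq]
    refine (Subgroup.map_inf _ _ (MulAut.conj u).toMonoidHom (MulAut.conj u).injective).trans ?_
    rw [map_map]
    have : ((MulAut.conj u).toMonoidHom.comp (MulAut.conj u).toMonoidHom) =
        (MulAut.conj (u * u)).toMonoidHom := by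
      ext x; simp [map_mul, mul_assoc]
    rw [this]
    have h2 : V.map (MulAut.conj (u * u)).toMonoidHom = V :=
      mem_normalizer_iff_map_conj_eq.1 (hV hu2)
    rw [h2, inf_comm]
  have hR : R ≤ normalizer (D : Set G) := sup_le hWD (zpowers_le.2 huD)
  have hDne : D ≠ ⊥ := by
    intro hD
    have hinj : Function.Injective (fun x : V × ↥(V.map (MulAut.conj u).toMonoidHom) =>
        (⟨(x.1 : G) * x.2, mul_mem (hVW x.1.2) (hV'W x.2.2)⟩ : W)) := by
      rintro ⟨a, b⟩ ⟨a', b'⟩ h
      have h' : (a : G) * b = a' * b' := congrArg Subtype.val h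
      have h1 : (a' : G)⁻¹ * a = b' * (b : G)⁻¹ := by
        rw [eq_mul_inv_iff_mul_eq, mul_assoc, h', inv_mul_cancel_left]
      have hm : (a' : G)⁻¹ * a ∈ D :=
        ⟨V.mul_mem (V.inv_mem a'.2) a.2, h1 ▸ Subgroup.mul_mem _ b'.2 (Subgroup.inv_mem _ b.2)⟩
      rw [hD, mem_bot] at hm
      have hb := h1.symm.trans hm
      exact Prod.ext (Subtype.ext (inv_mul_eq_one.1 hm).symm)
        (Subtype.ext (mul_inv_eq_one.1 hb).symm)
    have := Nat.card_le_card_of_injective _ hinj
    rw [Nat.card_prod, Subgroup.card_map_of_injective (MulAut.conj u).injective] at this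
    omega
  have hp : IsPGroup 2 R := by
    intro g
    have huW : (zpowers u) ≤ normalizer (W : Set G) := zpowers_le.2 hu
    obtain ⟨k, hk⟩ := hW2 ⟨_, hu2⟩
    have huP : IsPGroup 2 (zpowers u) := by
      apply IsPGroup.of_card_dvd_pow (n := k + 1)
      rw [Nat.card_zpowers]
      apply orderOf_dvd_of_pow_eq_one
      rw [pow_succ', pow_mul, sq]
      simpa using congrArg Subtype.val hk
    exact (IsPGroup.to_sup_of_normal_left' hW2 huP huW) g
  haveI : (D.subgroupOf R).Normal := normal_subgroupOf_of_le_normalizer hR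
  have hDR : D ≤ R := le_trans (inf_le_left.trans hVW) le_sup_left
  haveI : Nontrivial (D.subgroupOf R) := by
    rw [nontrivial_iff_ne_bot]
    intro h
    rw [subgroupOf_eq_bot] at h
    exact hDne (disjoint_self.1 (h.mono_right hDR))
  have hct : ∃ t : D.subgroupOf R, t ≠ 1 ∧ (t : R) ∈ center R := by
    have hfix := IsPGroup.exists_fixed_point_of_prime_dvd_card_of_fixed_point
      (p := 2) (G := ConjAct R) (α := D.subgroupOf R) (fun g => hp (ConjAct.ofConjAct g))
      (a := 1) ?_ ?_
    · obtain ⟨t, ht, htne⟩ := hfix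
      refine ⟨t, fun h => htne h.symm, mem_center_iff.2 fun g => ?_⟩
      have := congrArg Subtype.val (ht (ConjAct.toConjAct g))
      rw [ConjAct.Subgroup.val_conj_smul, ConjAct.toConjAct_smul] at this
      exact mul_inv_eq_iff_eq_mul.1 this
    · exact (hp.to_subgroup _).card_eq_or_dvd.resolve_left
        (Finite.one_lt_card (α := D.subgroupOf R)).ne'
    · intro g
      apply Subtype.ext
      simp [ConjAct.Subgroup.val_conj_smul]
  obtain ⟨t, ht1, htc⟩ := hct
  refine ⟨((t : R) : G), (t.2 : ((t : R) : G) ∈ D).1, fun h => ht1 (Subtype.ext (Subtype.ext h)),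
    fun w hw => ?_, ?_⟩
  · exact congrArg Subtype.val (mem_center_iff.1 htc ⟨w, le_sup_left (α := Subgroup G) hw⟩).symm
  · exact congrArg Subtype.val
      (mem_center_iff.1 htc ⟨u, le_sup_right (α := Subgroup G) (mem_zpowers u)⟩).symm

/-- There is no simple group of order 459648 = 2⁷·3³·7·19. -/
theorem result {G : Type*} [Group G] [Finite G] [IsSimpleGroup G] : Nat.card G ≠ 459648 := by
  intro hG
  haveI : Fact (Nat.Prime 19) := ⟨by norm_num⟩
  haveI : Fact (Nat.Prime 7) := ⟨by norm_num⟩
  have hnc : ¬ IsMulCommutative G := not_isMulCommutative (by rw [hG]; norm_num)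
  have h19 : 19 ∣ Nat.card G := by rw [hG]; norm_num
  have h7 : 7 ∣ Nat.card G := by rw [hG]; norm_num
  obtain ⟨P⟩ : Nonempty (Sylow 19 G) := inferInstance
  have hP : Nat.card P = 19 := card_sylow_of_eq (k := 1) (m := 24192) P (by rw [hG]; norm_num) (by norm_num)
  set N := normalizer ((P : Subgroup G) : Set G) with hN
  set C := centralizer ((P : Subgroup G) : Set G) with hC
  have hmul : Nat.card (Sylow 19 G) * Nat.card N = 459648 := by rw [← hG]; exact card_sylow_mul P
  have hmod : Nat.card (Sylow 19 G) % 19 = 1 := card_sylow_modEq_one 19 G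
  have hdvd : Nat.card (Sylow 19 G) ∣ 128 * 27 * 7 := by
    have := P.card_dvd_index
    have h2 := Subgroup.card_mul_index (P : Subgroup G)
    rw [hP, hG] at h2
    have h3 : (P : Subgroup G).index = 24192 := by omega
    rwa [h3] at this
  have hcases : Nat.card (Sylow 19 G) = 1 ∨ Nat.card (Sylow 19 G) = 96 ∨
      Nat.card (Sylow 19 G) = 1008 := by
    have key : ∀ a ∈ (128 : ℕ).divisors, ∀ b ∈ (27 : ℕ).divisors, ∀ c ∈ (7 : ℕ).divisors,
        a * b * c % 19 = 1 → a * b * c = 1 ∨ a * b * c = 96 ∨ a * b * c = 1008 := by decide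
    obtain ⟨ab, c, hab, hc, he⟩ := Nat.dvd_mul.1 hdvd
    obtain ⟨a, b, ha, hb, he'⟩ := Nat.dvd_mul.1 hab
    rw [← he, ← he'] at hmod ⊢
    exact key a (Nat.mem_divisors.2 ⟨ha, by norm_num⟩) b (Nat.mem_divisors.2 ⟨hb, by norm_num⟩)
      c (Nat.mem_divisors.2 ⟨hc, by norm_num⟩) hmod
  obtain ⟨e, he18, he1, heC⟩ := sylow_relIndex hnc P hP
  have hPC : (P : Subgroup G) ≤ C := by
    haveI : IsCyclic (P : Subgroup G) := isCyclic_of_prime_card hP
    exact le_centralizer _
  rcases hcases with h | h | h
  · exact card_sylow_ne_one hnc h19 h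
  · -- 96 Sylow 19-subgroups
    rw [h] at hmul
    have hNc : Nat.card N = 4788 := by omega
    rw [← hC, ← hN, hNc] at heC
    have heC' : e ≤ 18 := Nat.le_of_dvd (by norm_num) he18
    obtain ⟨Q₀⟩ : Nonempty (Sylow 7 C) := inferInstance
    have hC7 : ∃ k, (k = 342 ∨ k = 228 ∨ k = 114 ∨ k = 76 ∨ k = 38) ∧ Nat.card C = 7 ^ 1 * k := by
      have : e ∈ (18 : ℕ).divisors := Nat.mem_divisors.2 ⟨he18, by norm_num⟩
      have hd : e = 1 ∨ e = 2 ∨ e = 3 ∨ e = 6 ∨ e = 9 ∨ e = 18 := by
        clear heC he18 he1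
        revert this; revert e; decide
      refine ⟨Nat.card C / 7, ?_, ?_⟩ <;> rcases hd with rfl | rfl | rfl | rfl | rfl | rfl <;>
        omega
    obtain ⟨k, hk, hCk⟩ := hC7
    have hk7 : ¬ 7 ∣ k := by omega
    have hQ0 : Nat.card Q₀ = 7 := card_sylow_of_eq Q₀ hCk hk7
    have hQcard : Nat.card ((Q₀ : Subgroup C).map C.subtype) = 7 := by
      rw [card_map_of_injective (subtype_injective C), hQ0]
    have hQmul : Nat.card G = 7 ^ 1 * 65664 := by rw [hG]; norm_num
    obtain ⟨Q, hQle⟩ := ((IsPGroup.of_card (p := 7) (n := 1) (by rw [hQcard, pow_one])) :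
      IsPGroup 7 ((Q₀ : Subgroup C).map C.subtype)).exists_le_sylow
    have hQc : Nat.card Q = 7 := card_sylow_of_eq Q hQmul (by norm_num)
    have hQ : (Q₀ : Subgroup C).map C.subtype = Q :=
      eq_of_le_of_card_ge hQle (by rw [hQcard, hQc])
    -- the Sylow 7-subgroup of `C` is unique
    have hQ0P : (P : Subgroup G).subgroupOf C ≤ normalizer ((Q₀ : Subgroup C) : Set C) := by
      intro x hx
      rw [mem_normalizer_iff]
      intro y
      have hy : x * y * x⁻¹ = y := by
        apply Subtype.ext
        have := mem_centralizer_iff.1 y.2 (x : G) hx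
        show (x : G) * y * (x : G)⁻¹ = y
        rw [this, mul_inv_cancel_right]
      rw [hy]
    have hn7C : Nat.card (Sylow 7 C) = 1 := by
      have hm := card_sylow_mul Q₀
      have h19C : 19 * 7 ∣ Nat.card (normalizer ((Q₀ : Subgroup C) : Set C)) := by
        refine Nat.Coprime.mul_dvd_of_dvd_of_dvd (by norm_num) ?_ ?_
        · have hle := card_dvd_of_le hQ0P
          rwa [Nat.card_congr (subgroupOfEquivOfLe hPC).toEquiv, hP] at hle
        · have hle := card_dvd_of_le (le_normalizer (H := (Q₀ : Subgroup C)))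
          rwa [hQ0] at hle
      obtain ⟨c, hc⟩ := h19C
      rw [hc, hCk] at hm
      have hmd : Nat.card (Sylow 7 C) % 7 = 1 := card_sylow_modEq_one 7 C
      have hd : Nat.card (Sylow 7 C) * c = k / 19 := by
        apply Nat.eq_of_mul_eq_mul_left (show 0 < 19 * 7 by norm_num)
        rw [show 19 * 7 * (Nat.card (Sylow 7 C) * c) = 7 ^ 1 * k by rw [← hm]; ring]
        omega
      have key : ∀ m ∈ ({18, 12, 6, 4, 2} : Finset ℕ), ∀ n ∈ m.divisors, n % 7 = 1 → n = 1 := by
        decide
      refine key (k / 19) ?_ _ (Nat.mem_divisors.2 ⟨Dvd.intro c hd, by omega⟩) hmd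
      rcases hk with rfl | rfl | rfl | rfl | rfl <;> simp
    haveI : Subsingleton (Sylow 7 C) := (Nat.card_eq_one_iff_unique.1 hn7C).1
    -- fixed points of `P` on the Sylow 7-subgroups
    have hfix : ∀ R : Sylow 7 G, (P : Subgroup G) ≤ normalizer ((R : Subgroup G) : Set G) →
        R = Q := by
      intro R hR
      have hRc : Nat.card R = 7 := card_sylow_of_eq R hQmul (by norm_num)
      have hRC : (R : Subgroup G) ≤ C := by
        intro r hr
        rw [mem_centralizer_iff]
        intro x hx
        have hxc := mem_centralizer_of_mem_normalizer (q := 7) (R : Subgroup G) hRc (hR hx) ?_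
        · exact (mem_centralizer_iff.1 hxc r hr).symm
        · have : orderOf x ∣ 19 := hP ▸ Subgroup.orderOf_dvd_natCard _ hx
          exact Nat.Coprime.of_dvd_left this (by norm_num)
      have hu : R.subtype hRC = Q₀ := Subsingleton.elim _ _
      apply Sylow.ext
      rw [← hQ, ← hu, Sylow.coe_subtype, map_subgroupOf_eq_of_le hRC]
    have hfixQ : (P : Subgroup G) ≤ normalizer ((Q : Subgroup G) : Set G) := by
      intro x hx
      rw [← hQ]
      exact le_normalizer_map C.subtype ⟨⟨x, hPC hx⟩, hQ0P hx, rfl⟩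
    have hcong : Nat.card (Sylow 7 G) % 19 = 1 := by
      have h1 := (P.2).card_modEq_card_fixedPoints (Sylow 7 G)
      have h2 : MulAction.fixedPoints (P : Subgroup G) (Sylow 7 G) = {Q} := by
        ext R
        rw [Subgroup.sylow_mem_fixedPoints_iff, Set.mem_singleton_iff]
        exact ⟨hfix R, fun h => h ▸ hfixQ⟩
      rw [h2] at h1
      simpa [Nat.ModEq] using h1
    have hN7 : 19 * 7 ∣ Nat.card (normalizer ((Q : Subgroup G) : Set G)) := by
      refine Nat.Coprime.mul_dvd_of_dvd_of_dvd (by norm_num) ?_ ?_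
      · have hle := card_dvd_of_le hfixQ
        rwa [hP] at hle
      · have hle := card_dvd_of_le (le_normalizer (H := (Q : Subgroup G)))
        rwa [hQc] at hle
    obtain ⟨c, hc⟩ := hN7
    have hmul7 := card_sylow_mul Q
    rw [hc, hG] at hmul7
    have hmod7 : Nat.card (Sylow 7 G) % 7 = 1 := card_sylow_modEq_one 7 G
    have hd7 : Nat.card (Sylow 7 G) * c = 3456 := by
      apply Nat.eq_of_mul_eq_mul_left (show 0 < 19 * 7 by norm_num)
      rw [show 19 * 7 * (Nat.card (Sylow 7 G) * c) = 459648 by rw [← hmul7]; ring]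
    obtain ⟨j, hj⟩ : ∃ j, Nat.card (Sylow 7 G) = 133 * j + 1 :=
      ⟨Nat.card (Sylow 7 G) / 133, by omega⟩
    rw [hj] at hd7
    have hj26 : j < 26 := by
      rcases Nat.eq_zero_or_pos c with rfl | hc0
      · omega
      · nlinarith
    have hj0 : j = 0 := by
      have key : ∀ j < 26, 3456 % (133 * j + 1) = 0 → j = 0 := by decide
      refine key j hj26 ?_
      rw [← hd7, Nat.mul_mod_right]
    exact card_sylow_ne_one hnc h7 (by omega)
  · -- 1008 Sylow 19-subgroups
    rw [h] at hmul
    have hNc : Nat.card N = 456 := by omega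
    rw [← hC, ← hN, hNc] at heC
    obtain ⟨W₀⟩ : Nonempty (Sylow 2 N) := inferInstance
    have hW₀ : Nat.card W₀ = 2 ^ 3 := card_sylow_of_eq (m := 57) W₀ (by rw [hNc]; norm_num) (by norm_num)
    let W : Subgroup G := (W₀ : Subgroup N).map N.subtype
    have hWN : W ≤ N := map_subtype_le _
    have hWc : Nat.card W = 8 := by
      rw [card_map_of_injective (subtype_injective N), hW₀]; norm_num
    have hW2 : IsPGroup 2 W := W₀.2.map _
    let V : Subgroup G := W ⊓ C
    have hVc : 4 ≤ Nat.card V := by
      haveI hCn : (C.subgroupOf N).Normal := by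
        rw [hC, hN]; exact normalizerMonoidHom_ker (H := (P : Subgroup G)) ▸ MonoidHom.normal_ker _
      have h1 : C.relIndex W ∣ C.relIndex N := by
        have := relIndex_dvd_index_of_normal (C.subgroupOf N) (W.subgroupOf N)
        rwa [relIndex_subgroupOf hWN] at this
      have h2 : Nat.card V * C.relIndex W = 8 := by
        have := relIndex_mul_relIndex ⊥ V W bot_le inf_le_left
        rwa [relIndex_bot_left, relIndex_bot_left, hWc, show V.relIndex W = C.relIndex W from
          inf_relIndex_left W C] at this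
      have h3 : C.relIndex N = e := by
        have := card_normalizer_eq (P : Subgroup G)
        rw [← hC, ← hN, hNc] at this
        have hpos : 0 < Nat.card C := Nat.card_pos
        exact Nat.eq_of_mul_eq_mul_right hpos (this.trans heC.symm)
      have h4 : C.relIndex W ∣ 18 := h1.trans (h3 ▸ he18)
      have h5 : C.relIndex W ∈ (18 : ℕ).divisors := Nat.mem_divisors.2 ⟨h4, by norm_num⟩
      have key : ∀ r ∈ (18 : ℕ).divisors, r ∣ 8 → r ≤ 2 := by decide
      have h6 := key _ h5 ⟨Nat.card V, by rw [mul_comm]; omega⟩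
      rcases Nat.lt_or_ge (Nat.card V) 4 with hlt | hge
      · interval_cases hh : C.relIndex W <;> omega
      · exact hge
    have hWV : W ≤ normalizer (V : Set G) := by
      intro w hw
      have h1 : w ∈ normalizer (W : Set G) := le_normalizer hw
      have h2 : w ∈ normalizer (C : Set G) := by
        rw [mem_normalizer_iff]
        intro c
        have hwN := hWN hw
        simp only [hC, mem_centralizer_iff]
        constructor
        · intro hc x hx
          have hx' : w⁻¹ * x * w ∈ (P : Subgroup G) := (mem_normalizer_iff''.1 hwN x).1 hx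
          have := hc _ hx'
          calc x * (w * c * w⁻¹) = w * ((w⁻¹ * x * w) * c) * w⁻¹ := by group
            _ = w * (c * (w⁻¹ * x * w)) * w⁻¹ := by rw [this]
            _ = w * c * w⁻¹ * x := by group
        · intro hc x hx
          have hx' : w * x * w⁻¹ ∈ (P : Subgroup G) := (mem_normalizer_iff.1 hwN x).1 hx
          have := hc _ hx'
          calc x * c = w⁻¹ * ((w * x * w⁻¹) * (w * c * w⁻¹)) * w := by group
            _ = w⁻¹ * ((w * c * w⁻¹) * (w * x * w⁻¹)) * w := by rw [this]
            _ = c * x := by group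
      rw [mem_normalizer_iff]
      intro x
      exact and_congr (mem_normalizer_iff.1 h1 x) (mem_normalizer_iff.1 h2 x)
    obtain ⟨S, hS⟩ := hW2.exists_le_sylow
    have hSc : Nat.card S = 2 ^ 7 := card_sylow_of_eq (m := 3591) S (by rw [hG]; norm_num) (by norm_num)
    -- an element of order two in the normaliser of `W` modulo `W`
    have hu : ∃ u ∈ normalizer (W : Set G), u ∉ W ∧ u * u ∈ W := by
      have h2 : 2 ∣ Nat.card (normalizer (W : Set G) ⧸ W.subgroupOf (normalizer (W : Set G))) := by
        apply Sylow.prime_dvd_card_quotient_normalizer (n := 3) (H := W)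
        · rw [hG]; norm_num
        · rw [hWc]; norm_num
      obtain ⟨y, hy⟩ := exists_prime_orderOf_dvd_card' 2 h2
      obtain ⟨u, hyu⟩ := QuotientGroup.mk_surjective y
      refine ⟨u, u.2, fun hmem => ?_, ?_⟩
      · rw [← hyu, (QuotientGroup.eq_one_iff u).2 (mem_subgroupOf.2 hmem), orderOf_one] at hy
        omega
      · have := pow_orderOf_eq_one y
        rw [hy, sq, ← hyu, ← QuotientGroup.mk_mul, QuotientGroup.eq_one_iff, mem_subgroupOf] at this
        exact this
    obtain ⟨u, hu, huW, hu2⟩ := hu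
    obtain ⟨t, htV, ht1, htW, htu⟩ :=
      exists_central_fixed N W V inf_le_left hWN hWV hu hu2 (by nlinarith) hW2
    let M : Subgroup G := centralizer ({t} : Set G)
    have hPM : (P : Subgroup G) ≤ M := fun x hx =>
      mem_centralizer_singleton_iff.2 (mem_centralizer_iff.1 htV.2 x hx)
    have hWM : W ≤ M := fun w hw => mem_centralizer_singleton_iff.2 (htW w hw).symm
    have huM : u ∈ M := mem_centralizer_singleton_iff.2 htu.symm
    have huN : u ∉ N := by
      intro huN
      -- otherwise `W` would not be a Sylow 2-subgroup of `N`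
      have hle : W ⊔ zpowers u ≤ N := sup_le hWN (zpowers_le.2 huN)
      have huP : IsPGroup 2 (zpowers u) := by
        obtain ⟨k, hk⟩ := hW2 ⟨_, hu2⟩
        apply IsPGroup.of_card_dvd_pow (n := k + 1)
        rw [Nat.card_zpowers]
        apply orderOf_dvd_of_pow_eq_one
        rw [pow_succ', pow_mul, sq]
        simpa using congrArg Subtype.val hk
      have hp : IsPGroup 2 ↥(W ⊔ zpowers u) :=
        IsPGroup.to_sup_of_normal_left' hW2 huP (zpowers_le.2 hu)
      have hsub : (W₀ : Subgroup N) ≤ (W ⊔ zpowers u).subgroupOf N := by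
        intro x hx
        rw [mem_subgroupOf]
        exact le_sup_left (α := Subgroup G) ⟨x, hx, rfl⟩
      have heq := W₀.3 (hp.comap_subtype (K := N)) hsub
      have : (⟨u, huN⟩ : N) ∈ (W₀ : Subgroup N) := by
        rw [← heq]
        exact le_sup_right (α := Subgroup G) (mem_zpowers u)
      exact huW ⟨_, this, rfl⟩
    have hM := card_sylow_subgroup_mul P M hPM
    have hNM : 19 * 8 ∣ Nat.card ↥(N ⊓ M) := by
      refine Nat.Coprime.mul_dvd_of_dvd_of_dvd (by norm_num) ?_ ?_
      · have := card_dvd_of_le (le_inf le_normalizer hPM :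
          (P : Subgroup G) ≤ N ⊓ M)
        rwa [hP] at this
      · have := card_dvd_of_le (le_inf hWN hWM)
        rwa [hWc] at this
    obtain ⟨c, hc⟩ := hNM
    rw [← hN, hc] at hM
    have hMd : Nat.card M ∣ 459648 := hG ▸ card_subgroup_dvd_card M
    have hn3024 : Nat.card (Sylow 19 M) ∣ 3024 := by
      rw [← hM] at hMd
      have : 19 * 8 * (Nat.card (Sylow 19 M) * c) ∣ 19 * 8 * 3024 := by
        convert hMd using 1 <;> ring
      exact dvd_trans (dvd_mul_right _ c) (Nat.dvd_of_mul_dvd_mul_left (by norm_num) this)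
    have hmodM : Nat.card (Sylow 19 M) % 19 = 1 := card_sylow_modEq_one 19 M
    have hnM : Nat.card (Sylow 19 M) = 1 ∨ Nat.card (Sylow 19 M) = 1008 := by
      have key : ∀ a ∈ (16 : ℕ).divisors, ∀ b ∈ (27 : ℕ).divisors, ∀ c ∈ (7 : ℕ).divisors,
          a * b * c % 19 = 1 → a * b * c = 1 ∨ a * b * c = 1008 := by decide
      obtain ⟨ab, c, hab, hc, he⟩ := Nat.dvd_mul.1 (show Nat.card (Sylow 19 M) ∣ 16 * 27 * 7 from hn3024)
      obtain ⟨a, b, ha, hb, he'⟩ := Nat.dvd_mul.1 hab
      rw [← he, ← he'] at hmodM ⊢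
      exact key a (Nat.mem_divisors.2 ⟨ha, by norm_num⟩) b (Nat.mem_divisors.2 ⟨hb, by norm_num⟩)
        c (Nat.mem_divisors.2 ⟨hc, by norm_num⟩) hmodM
    rcases hnM with hn | hn
    · -- then `u` would normalise `P`
      haveI : Subsingleton (Sylow 19 M) := (Nat.card_eq_one_iff_unique.1 hn).1
      have hnorm : (((P.subtype hPM) : Sylow 19 M) : Subgroup M).Normal :=
        Sylow.normal_of_subsingleton _
      rw [Sylow.coe_subtype, normal_subgroupOf_iff_le_normalizer hPM] at hnorm
      exact huN (hnorm huM)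
    · have hMne : M ≠ ⊤ := centralizer_singleton_ne_top hnc ht1
      have hidx := index_mul_card M
      rw [hG, ← hM, hn] at hidx
      have hc0 : 0 < c := by
        rcases Nat.eq_zero_or_pos c with rfl | h0
        · simp at hidx
        · exact h0
      have : M.index ≤ 3 := by nlinarith
      have hf := card_dvd_factorial_index hMne
      rw [hG] at hf
      have := Nat.le_of_dvd (Nat.factorial_pos _) hf
      have h6 : M.index.factorial ≤ (3 : ℕ).factorial := Nat.factorial_le (by assumption)
      norm_num [Nat.factorial] at h6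
      omega

end Cfsg.Agent.S1022
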