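import Cfsg.Statements.S1024
import Cfsg.Agent.Lib.Chev.RootElem
import Cfsg.Agent.Lib.Chev.All

set_option autoImplicit false
open Cfsg

namespace Cfsg.Agent.S1024

/-- `x_r(0) = 1`, and `x_r(t) = 1` forces `t = 0`: the map `t ↦ x_r(t)` is injective. -/
theorem result {F : Type*} [Field F] (D : Cfsg.Lie.ChevalleyDatum) (hD : D ∈ [Cfsg.Lie.chevG2, Cfsg.Lie.chevB2, Cfsg.Lie.chevD4, Cfsg.Lie.chevF4, Cfsg.Lie.chevE6, Cfsg.Lie.chevE7, Cfsg.Lie.chevE8]) (r : ℕ) (hr : r < D.nroots) (t : F) :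
    D.x F r t = 1 ↔ t = 0 := by
  obtain ⟨P, h⟩ := Chev.exists_ok hD
  have hr' : r < P.nroots := h.nroots ▸ hr
  constructor
  · intro hx
    have hn : P.ng r < D.nroots := h.nroots ▸ Chev.Ok.ng_lt hr'
    have hne : P.ng r ≠ r := h.ng_ne hr'
    have hneg : D.negIdx.getD r 0 = P.ng r := h.neg_eq hr'
    have e := congrFun (congrFun hx (Sum.inr ⟨r, hr⟩)) (Sum.inr ⟨P.ng r, hn⟩)
    simpa [-Array.getD_eq_getD_getElem?, Lie.ChevalleyDatum.x, hr, Lie.ChevalleyDatum.xMat,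
      Fin.ext_iff, hne, hne.symm, hneg] using e
  · rintro rfl
    rw [h.x_eq hr', h.X_zero]

end Cfsg.Agent.S1024
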