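import Cfsg.Statements.S1026
import Cfsg.Agent.Lib.Chev.Unipotent
import Cfsg.Agent.Lib.Chev.AllC

set_option autoImplicit false
open Cfsg

namespace Cfsg.Agent.S1026
open Cfsg.Agent

/-- Every element of `U` has a unique expression `∏_{r ∈ Φ⁺} x_r(t_r)`, the product over the positive roots in increasing index order (the coefficient family `t`, supported on the positive roots, exists and is unique); and conversely every such ordered product is the matrix of an element of `U`. -/
theorem result {F : Type*} [Field F] (D : Cfsg.Lie.ChevalleyDatum) (hD : D ∈ [Cfsg.Lie.chevG2, Cfsg.Lie.chevB2, Cfsg.Lie.chevD4, Cfsg.Lie.chevF4, Cfsg.Lie.chevE6, Cfsg.Lie.chevE7, Cfsg.Lie.chevE8]) :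
    (∀ g : GL D.Idx F, g ∈ D.posUnipotent F →
      ∃! t : ℕ → F, (∀ r, ¬ D.IsPosRoot r → t r = 0) ∧
        (g : Matrix D.Idx D.Idx F) = D.wordMat F (D.posRoots.map fun r => (r, t r))) ∧
    (∀ t : ℕ → F, ∃ g : GL D.Idx F, g ∈ D.posUnipotent F ∧
      (g : Matrix D.Idx D.Idx F) = D.wordMat F (D.posRoots.map fun r => (r, t r))) := by
  obtain ⟨P, h, -, hC⟩ := Chev.exists_okC hD
  refine ⟨fun g hg => ?_, fun t => ⟨_, h.mem_pos_prod t, by rw [h.posRoots_eq, ← h.wordMat_eq]⟩⟩
  classical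
  obtain ⟨t, rfl⟩ := h.pos_normal_form hC hg
  rw [h.posRoots_eq]
  refine ⟨fun r => if P.isPos r = true then t r else 0, ⟨fun r hr => ?_, ?_⟩, ?_⟩
  · rw [h.isPosRoot_iff] at hr
    exact if_neg hr
  · rw [← h.wordMat_eq]
    congr 2
    exact List.map_congr_left fun r hr => by rw [if_pos (Chev.mem_posL.1 hr)]
  · rintro u ⟨hu0, hu⟩
    funext r
    by_cases hr : P.isPos r = true
    · rw [if_pos hr]
      rw [← h.wordMat_eq] at hu
      exact (h.prod_unique _ Chev.posL_sorted (fun _ hx => Chev.mem_posL.1 hx) _ _ (Units.ext hu) r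
        (Chev.mem_posL.2 hr)).symm
    · rw [if_neg hr, hu0 r (by rwa [h.isPosRoot_iff])]

end Cfsg.Agent.S1026
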