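import Cfsg.Statements.S1034
import Cfsg.Agent.Lib.Chev.Subgroups
import Cfsg.Agent.Lib.Chev.All

set_option autoImplicit false
open Cfsg

namespace Cfsg.Agent.S1034

/-- Every element of `H` is a product `h_{p_1}(c_1) ⋯ h_{p_l}(c_l)` over the fundamental roots, with non-zero `c_i`. -/
theorem result {F : Type*} [Field F] (D : Cfsg.Lie.ChevalleyDatum) (hD : D ∈ [Cfsg.Lie.chevG2, Cfsg.Lie.chevB2, Cfsg.Lie.chevD4, Cfsg.Lie.chevF4, Cfsg.Lie.chevE6, Cfsg.Lie.chevE7, Cfsg.Lie.chevE8]) (g : GL D.Idx F) (hg : g ∈ D.diagonalSubgroup F) :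
    ∃ c : ℕ → F, (∀ i < D.rank, c i ≠ 0) ∧
      (g : Matrix D.Idx D.Idx F) = D.wordMat F ((List.range D.rank).flatMap fun i => D.hWord (D.simple i) (c i)) := by
  obtain ⟨P, h⟩ := Chev.exists_ok hD
  obtain ⟨u, rfl⟩ := h.mem_diagonal_iff.1 hg
  refine ⟨fun i => if hi : i < P.rank then (u ⟨i, hi⟩ : F) else 1, fun i hi => ?_, ?_⟩
  · rw [h.rank] at hi
    simp only [dif_pos hi]
    exact Units.ne_zero _
  have hu : u = ((List.finRange P.rank).map fun i => Pi.mulSingle i (u i)).prod := by
    rw [← List.prod_toFinset _ (List.nodup_finRange _), List.toFinset_finRange, Finset.univ_prod_mulSingle]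
  have hword : ∀ w : List (List (ℕ × F)),
      D.wordMat F w.flatten = (w.map (D.wordMat F)).prod := by
    intro w
    induction w with
    | nil => rfl
    | cons a w ih =>
      rw [List.flatten_cons, List.map_cons, List.prod_cons, ← ih]
      simp [Lie.ChevalleyDatum.wordMat]
  rw [List.flatMap_def, hword, List.map_map, show List.range D.rank = List.range P.rank by rw [h.rank], ← List.map_coe_finRange_eq_range, List.map_map]
  conv_lhs => rw [hu, map_list_prod, List.map_map, ← Units.coeHom_apply, map_list_prod, List.map_map]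
  congr 1
  refine List.map_congr_left fun i _ => ?_
  simp only [Function.comp_apply, Units.coeHom_apply, h.hHom_single, dif_pos i.isLt]
  rw [h.coe_ht (h.sim_lt i.isLt), h.simple_eq i.isLt]
  rfl

end Cfsg.Agent.S1034
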