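import Cfsg.Statements.S1035
import Cfsg.Agent.Lib.Chev.Smith

set_option autoImplicit false
open Cfsg

namespace Cfsg.Agent.S1035
open Cfsg.Agent

/-- `d · |H| = (q - 1)^rank` over a field with `q` elements, with `d = 1` (G₂, F₄, E₈), `gcd(3, q-1)` (E₆), `gcd(2, q-1)` (E₇, B₂), `gcd(2, q-1)²` (D₄). -/
theorem result {F : Type*} [Field F] [Fintype F] {q : ℕ} (hq : Fintype.card F = q)
    (p : Cfsg.Lie.ChevalleyDatum × ℕ)
    (hp : p ∈ [(Cfsg.Lie.chevG2, 1), (Cfsg.Lie.chevF4, 1), (Cfsg.Lie.chevE8, 1), (Cfsg.Lie.chevE6, Nat.gcd 3 (q - 1)),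
      (Cfsg.Lie.chevE7, Nat.gcd 2 (q - 1)), (Cfsg.Lie.chevB2, Nat.gcd 2 (q - 1)), (Cfsg.Lie.chevD4, Nat.gcd 2 (q - 1) ^ 2)]) :
    p.2 * Nat.card (p.1.diagonalSubgroup F) = (q - 1) ^ p.1.rank := by
  obtain ⟨D, d⟩ := p
  simp only [List.mem_cons, List.not_mem_nil, or_false, Prod.mk.injEq] at hp
  rcases hp with ⟨rfl, rfl⟩ | ⟨rfl, rfl⟩ | ⟨rfl, rfl⟩ | ⟨rfl, rfl⟩ | ⟨rfl, rfl⟩ | ⟨rfl, rfl⟩ | ⟨rfl, rfl⟩
  · have := Chev.G2.ok.card_diagonal (F := F) Chev.smith_G2
    rw [hq] at this
    simp only [show Chev.G2.pk.rank = 2 from rfl] at this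
    simp [List.range_succ, Nat.gcd_comm (q - 1), ← pow_two] at this
    show _ * _ = (q - 1) ^ 2
    rw [← this]
    ring
  · have := Chev.F4.ok.card_diagonal (F := F) Chev.smith_F4
    rw [hq] at this
    simp only [show Chev.F4.pk.rank = 4 from rfl] at this
    simp [List.range_succ, Nat.gcd_comm (q - 1), ← pow_two] at this
    show _ * _ = (q - 1) ^ 4
    rw [← this]
    ring
  · have := Chev.E8.ok.card_diagonal (F := F) Chev.smith_E8
    rw [hq] at this
    simp only [show Chev.E8.pk.rank = 8 from rfl] at this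
    simp [List.range_succ, Nat.gcd_comm (q - 1), ← pow_two] at this
    show _ * _ = (q - 1) ^ 8
    rw [← this]
    ring
  · have := Chev.E6.ok.card_diagonal (F := F) Chev.smith_E6
    rw [hq] at this
    simp only [show Chev.E6.pk.rank = 6 from rfl] at this
    simp [List.range_succ, Nat.gcd_comm (q - 1), ← pow_two] at this
    show _ * _ = (q - 1) ^ 6
    rw [← this]
    ring
  · have := Chev.E7.ok.card_diagonal (F := F) Chev.smith_E7
    rw [hq] at this
    simp only [show Chev.E7.pk.rank = 7 from rfl] at this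
    simp [List.range_succ, Nat.gcd_comm (q - 1), ← pow_two] at this
    show _ * _ = (q - 1) ^ 7
    rw [← this]
    ring
  · have := Chev.B2.ok.card_diagonal (F := F) Chev.smith_B2
    rw [hq] at this
    simp only [show Chev.B2.pk.rank = 2 from rfl] at this
    simp [List.range_succ, Nat.gcd_comm (q - 1), ← pow_two] at this
    show _ * _ = (q - 1) ^ 2
    rw [← this]
    ring
  · have := Chev.D4.ok.card_diagonal (F := F) Chev.smith_D4
    rw [hq] at this
    simp only [show Chev.D4.pk.rank = 4 from rfl] at this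
    simp [List.range_succ, Nat.gcd_comm (q - 1), ← pow_two] at this
    show _ * _ = (q - 1) ^ 4
    rw [← this]
    ring

end Cfsg.Agent.S1035
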