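import Cfsg.Statements.S1054
import Cfsg.Agent.Lib.Chev.AllS

set_option autoImplicit false
open Cfsg

namespace Cfsg.Agent.S1054
open Cfsg.Agent

/-- The Chevalley groups of types D₄, F₄, E₆, E₇, E₈ are simple over every field. -/
theorem result {F : Type*} [Field F] (D : Cfsg.Lie.ChevalleyDatum)
    (hD : D ∈ [Cfsg.Lie.chevD4, Cfsg.Lie.chevF4, Cfsg.Lie.chevE6, Cfsg.Lie.chevE7, Cfsg.Lie.chevE8]) :
    IsSimpleGroup ↥(D.group F) ∧ ¬ IsMulCommutative ↥(D.group F) := by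
  simp only [List.mem_cons, List.not_mem_nil, or_false] at hD
  rcases hD with rfl | rfl | rfl | rfl | rfl
  · exact Chev.D4.ok.simple Chev.ckComm_D4 Chev.ckConn_D4 (Chev.D4.ok.perfect_all Chev.ckComm_D4 Chev.ckPerf_D4)
  · exact Chev.F4.ok.simple Chev.ckComm_F4 Chev.ckConn_F4 (Chev.F4.ok.perfect_all Chev.ckComm_F4 Chev.ckPerf_F4)
  · exact Chev.E6.ok.simple Chev.ckComm_E6 Chev.ckConn_E6 (Chev.E6.ok.perfect_all Chev.ckComm_E6 Chev.ckPerf_E6)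
  · exact Chev.E7.ok.simple Chev.ckComm_E7 Chev.ckConn_E7 (Chev.E7.ok.perfect_all Chev.ckComm_E7 Chev.ckPerf_E7)
  · exact Chev.E8.ok.simple Chev.ckComm_E8 Chev.ckConn_E8 (Chev.E8.ok.perfect_all Chev.ckComm_E8 Chev.ckPerf_E8)

end Cfsg.Agent.S1054
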