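import Cfsg.Statements.S1057
import Cfsg.Agent.Lib.G2Two.Model
import Cfsg.Agent.S1059
import Cfsg.Agent.S0280
import Cfsg.Agent.S0283
-- import your own Cfsg.Agent.* helpers here

set_option autoImplicit false
open Cfsg

namespace Cfsg.Agent.S1057

/-- G₂(2)′ ≅ PSU₃(3). -/
theorem result {F K : Type*} [Field F] [Fintype F] [Field K] [Fintype K] (hF : Fintype.card F = 2) (hK : Fintype.card K = 9) :
    Nonempty (↥(commutator ↥(Cfsg.Lie.chevG2.group F)) ≃* Cfsg.PSU 3 K 3) := by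
  haveI : Fact (Nat.Prime 3) := ⟨Nat.prime_three⟩
  haveI : CharP K 3 := charP_of_card_eq_prime_pow (f := 2) (by rw [hK]; rfl)
  obtain ⟨ι, hι⟩ : IsSquare (-1 : K) := FiniteField.isSquare_neg_one_iff.mpr (by rw [hK]; norm_num)
  have hG := Cfsg.Agent.S1059.result (F := F) hF
  norm_num at hG
  have hU := Cfsg.Agent.S0280.result (F := K) (q := 3) (by rw [hK]; rfl) 3 (by norm_num)
  norm_num [Finset.prod_range_succ, show Nat.gcd 3 4 = 1 from rfl, Nat.even_iff] at hU
  have hU' : Nat.card (Cfsg.PSU 3 K 3) = 6048 := by omega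
  haveI := Cfsg.Agent.S0283.result (F := K) (q := 3) (by rw [hK]; rfl) 3 le_rfl (by omega)
  haveI : Finite (Cfsg.PSU 3 K 3) := Nat.finite_of_card_ne_zero (by rw [hU']; norm_num)
  refine Cfsg.Agent.G2Two.equiv_psu (ι := ι) hF hK hι.symm hG hU' ?_
  intro hc
  haveI := Fintype.ofFinite (Cfsg.PSU 3 K 3)
  letI : CommGroup (Cfsg.PSU 3 K 3) := { (inferInstance : Group (Cfsg.PSU 3 K 3)) with mul_comm := hc.is_comm.comm }
  have hp : (Nat.card (Cfsg.PSU 3 K 3)).Prime := IsSimpleGroup.prime_card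
  rw [hU'] at hp
  exact absurd hp (by norm_num)

end Cfsg.Agent.S1057
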