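import Cfsg.Statements.S2530
import Mathlib.GroupTheory.Coxeter.Basic
import Mathlib.GroupTheory.Perm.Fin
import Mathlib.GroupTheory.Perm.Cycle.Type
import Mathlib.GroupTheory.Perm.Closure
import Mathlib.GroupTheory.SpecificGroups.Alternating
import Mathlib.Order.Interval.Finset.Nat
import Mathlib.Data.Fintype.Perm

set_option autoImplicit false
open Cfsg

namespace Cfsg.Agent.S2530

/-- A group with generators satisfying the relations of type `A_n` has order at most `(n+1)!`. -/
theorem ncard_closure_le {W : Type*} [Group W] (s : ℕ → W) :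
    ∀ n : ℕ, (∀ i < n, s i * s i = 1) →
      (∀ i, i + 1 < n → s i * s (i + 1) * s i = s (i + 1) * s i * s (i + 1)) →
      (∀ i j, i + 1 < j → j < n → s i * s j = s j * s i) →
      (Subgroup.closure (s '' Set.Iio n) : Set W).Finite ∧
        (Subgroup.closure (s '' Set.Iio n) : Set W).ncard ≤ (n + 1).factorial := by
  intro n
  induction n with
  | zero =>
    intro _ _ _
    simp [Set.Iio_def, Nat.not_lt_zero, Subgroup.closure_empty]
  | succ n ih =>
    intro h1 h2 h3
    obtain ⟨hfin, hcard⟩ := ih (fun i hi => h1 i (by omega)) (fun i hi => h2 i (by omega))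
      (fun i j hij hj => h3 i j hij (by omega))
    set H := Subgroup.closure (s '' Set.Iio n) with hH
    let r : ℕ → W := fun j => Nat.rec 1 (fun j x => s (n - j) * x) j
    have r0 : r 0 = 1 := rfl
    have rsucc : ∀ j, r (j + 1) = s (n - j) * r j := fun j => rfl
    have hsH : ∀ i < n, s i ∈ H := fun i hi => Subgroup.subset_closure ⟨i, hi, rfl⟩
    have hlow : ∀ j i, i + j < n → s i * r j = r j * s i := by
      intro j
      induction j with
      | zero => intro i _; rw [r0, mul_one, one_mul]
      | succ j ihj =>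
        intro i hi
        rw [rsucc, ← mul_assoc, h3 i (n - j) (by omega) (by omega), mul_assoc, ihj i (by omega), mul_assoc]
    have hhigh : ∀ j, j ≤ n + 1 → ∀ i ≤ n, n + 2 ≤ i + j → s i * r j = r j * s (i - 1) := by
      intro j
      induction j with
      | zero => intros; omega
      | succ j ihj =>
        intro hj i hi hij
        rcases Nat.lt_or_ge (i + j) (n + 2) with h | h
        · obtain ⟨k, rfl⟩ : ∃ k, j = k + 1 := ⟨j - 1, by omega⟩
          obtain ⟨m, rfl⟩ : ∃ m, i = m + 1 := ⟨i - 1, by omega⟩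
          rw [rsucc, rsucc, show n - k = m + 1 by omega, show n - (k + 1) = m by omega, Nat.add_sub_cancel]
          calc s (m + 1) * (s m * (s (m + 1) * r k))
              = s (m + 1) * s m * s (m + 1) * r k := by simp only [mul_assoc]
            _ = s m * s (m + 1) * s m * r k := by rw [h2 m (by omega)]
            _ = s m * s (m + 1) * (s m * r k) := by simp only [mul_assoc]
            _ = s m * (s (m + 1) * r k) * s m := by rw [hlow k m (by omega)]; simp only [mul_assoc]
        · rw [rsucc, ← mul_assoc, ← h3 (n - j) i (by omega) (by omega), mul_assoc,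
            ihj (by omega) i hi h, ← mul_assoc]
    have key : ∀ i ≤ n, ∀ j ≤ n + 1, ∀ h ∈ H, ∃ j' ≤ n + 1, ∃ h' ∈ H, s i * (r j * h) = r j' * h' := by
      intro i hi j hj h hh
      rcases Nat.lt_trichotomy (i + j) n with h' | h' | h'
      · exact ⟨j, hj, s i * h, H.mul_mem (hsH i (by omega)) hh,
          by rw [← mul_assoc, hlow j i h', mul_assoc]⟩
      · exact ⟨j + 1, by omega, h, hh, by rw [rsucc, show n - j = i by omega, mul_assoc]⟩
      · rcases Nat.lt_or_ge (i + j) (n + 2) with h'' | h''
        · obtain ⟨k, rfl⟩ : ∃ k, j = k + 1 := ⟨j - 1, by omega⟩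
          exact ⟨k, by omega, h, hh, by
            rw [rsucc, show n - k = i by omega, ← mul_assoc, ← mul_assoc, h1 i (by omega), one_mul]⟩
        · exact ⟨j, hj, s (i - 1) * h, H.mul_mem (hsH _ (by omega)) hh,
            by rw [← mul_assoc, hhigh j hj i hi h'', mul_assoc]⟩
    have hsub : (Subgroup.closure (s '' Set.Iio (n + 1)) : Set W) ⊆
        Set.image2 (fun j h => r j * h) (Set.Iic (n + 1)) (H : Set W) := by
      intro x hx
      induction hx using Subgroup.closure_induction_left with
      | one => exact ⟨0, Nat.zero_le _, 1, H.one_mem, by simp [r0]⟩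
      | mul_left a ha y _ hy =>
        obtain ⟨i, hi, rfl⟩ := ha
        obtain ⟨j, hj, h, hh, rfl⟩ := hy
        obtain ⟨j', hj', h', hh', e⟩ := key i (Nat.lt_succ_iff.mp hi) j hj h hh
        exact ⟨j', hj', h', hh', e.symm⟩
      | inv_mul_cancel a ha y _ hy =>
        obtain ⟨i, hi, rfl⟩ := ha
        obtain ⟨j, hj, h, hh, rfl⟩ := hy
        obtain ⟨j', hj', h', hh', e⟩ := key i (Nat.lt_succ_iff.mp hi) j hj h hh
        exact ⟨j', hj', h', hh', by rw [inv_eq_of_mul_eq_one_left (h1 i hi)]; exact e.symm⟩
    have hfin' := Set.Finite.image2 (fun j h => r j * h) (Set.finite_Iic (n + 1)) hfin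
    refine ⟨hfin'.subset hsub, (Set.ncard_le_ncard hsub hfin').trans ?_⟩
    rw [← Set.image_prod]
    refine (Set.ncard_image_le ((Set.finite_Iic _).prod hfin)).trans ?_
    rw [Set.ncard_prod, Nat.factorial_succ (n + 1), ← Finset.coe_Iic, Set.ncard_coe_finset, Nat.card_Iic]
    exact Nat.mul_le_mul le_rfl hcard

/-- The Coxeter presentation of the symmetric group: for every n, the symmetric group on n+1 letters is the Coxeter group of type A_n with the adjacent transpositions (i, i+1) as simple reflections; that is, it is presented by generators r_1, …, r_n subject to r_i² = 1, (r_i r_j)² = 1 for |i − j| > 1 and (r_i r_{i+1})³ = 1, with r_i mapping to (i, i+1). -/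
theorem result (n : ℕ) :
    ∃ cs : CoxeterSystem (CoxeterMatrix.A n) (Equiv.Perm (Fin (n + 1))), ∀ i : Fin n, cs.simple i = Equiv.swap i.castSucc i.succ := by
  let M := CoxeterMatrix.A n
  let cs₀ := M.toCoxeterSystem
  let f : Fin n → Equiv.Perm (Fin (n + 1)) := fun i => Equiv.swap i.castSucc i.succ
  have hM : ∀ i j : Fin n, M i j = if i = j then 1 else if (j : ℕ) + 1 = i ∨ (i : ℕ) + 1 = j then 3 else 2 :=
    fun i j => rfl
  have hf : M.IsLiftable f := by
    intro i j
    rw [hM]
    split_ifs with h h'
    · subst h; rw [pow_one, Equiv.swap_mul_self]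
    · have key : ∀ a b : Fin n, (a : ℕ) + 1 = b → (f a * f b) ^ 3 = 1 := by
        intro a b hab
        have e : b.castSucc = a.succ := Fin.ext (by simp [hab])
        have h1 : a.succ ≠ a.castSucc := fun h => by simp [Fin.ext_iff] at h
        have h2 : a.succ ≠ b.succ := fun h => by simp [Fin.ext_iff] at h; omega
        have h3 : a.castSucc ≠ b.succ := fun h => by simp [Fin.ext_iff] at h; omega
        show (Equiv.swap a.castSucc a.succ * Equiv.swap b.castSucc b.succ) ^ 3 = 1
        rw [e, Equiv.swap_comm a.castSucc a.succ]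
        have := (Equiv.Perm.isThreeCycle_swap_mul_swap_same h1 h2 h3).orderOf
        rw [← this]; exact pow_orderOf_eq_one _
      rcases h' with h' | h'
      · have := key j i h'
        have e : f i * f j = (f j * f i)⁻¹ := by simp [f]
        rw [e, inv_pow, this, inv_one]
      · exact key i j h'
    · have hij : (i : ℕ) ≠ j := fun e => h (Fin.ext e)
      have hd : Equiv.Perm.Disjoint (f i) (f j) := by
        intro x
        by_cases hx : f i x = x
        · exact Or.inl hx
        · right
          simp only [f, Equiv.swap_apply_def] at hx ⊢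
          split_ifs at hx ⊢ <;> simp_all [Fin.ext_iff] <;> omega
      rw [hd.commute.mul_pow, pow_two, pow_two, Equiv.swap_mul_self, Equiv.swap_mul_self, one_mul]
  let φ : M.Group →* Equiv.Perm (Fin (n + 1)) := cs₀.lift ⟨f, hf⟩
  have hφ : ∀ i, φ (cs₀.simple i) = f i := fun i => cs₀.lift_apply_simple hf i
  have hsurj : Function.Surjective φ := by
    intro σ
    have : σ ∈ Submonoid.closure (Set.range f) := by
      rw [Equiv.Perm.mclosure_swap_castSucc_succ]; trivial
    induction this using Submonoid.closure_induction with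
    | mem x hx => obtain ⟨i, rfl⟩ := hx; exact ⟨_, hφ i⟩
    | one => exact ⟨1, map_one φ⟩
    | mul x y _ _ hx hy =>
      obtain ⟨a, rfl⟩ := hx; obtain ⟨b, rfl⟩ := hy; exact ⟨a * b, map_mul φ a b⟩
  let s : ℕ → M.Group := fun i => if h : i < n then cs₀.simple ⟨i, h⟩ else 1
  have hs : ∀ i (h : i < n), s i = cs₀.simple ⟨i, h⟩ := fun i h => dif_pos h
  obtain ⟨hfin, hcard⟩ := ncard_closure_le s n
    (fun i hi => by rw [hs i hi]; exact cs₀.simple_mul_simple_self _)
    (fun i hi => by
      rw [hs i (by omega), hs (i + 1) hi]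
      have := cs₀.simple_mul_simple_pow ⟨i, by omega⟩ ⟨i + 1, hi⟩
      rw [show M ⟨i, by omega⟩ ⟨i + 1, hi⟩ = 3 by rw [hM]; simp [Fin.ext_iff]] at this
      simp only [pow_succ, pow_zero, one_mul, mul_assoc] at this ⊢
      have e := eq_inv_of_mul_eq_one_left (a := cs₀.simple ⟨i, by omega⟩ * (cs₀.simple ⟨i + 1, hi⟩ * cs₀.simple ⟨i, by omega⟩))
        (b := cs₀.simple ⟨i + 1, hi⟩ * (cs₀.simple ⟨i, by omega⟩ * cs₀.simple ⟨i + 1, hi⟩)) (by simpa only [mul_assoc] using this)
      simp only [mul_inv_rev, CoxeterSystem.inv_simple, mul_assoc] at e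
      exact e)
    (fun i j hij hj => by
      rw [hs i (by omega), hs j hj]
      have := cs₀.simple_mul_simple_pow ⟨i, by omega⟩ ⟨j, hj⟩
      rw [show M ⟨i, by omega⟩ ⟨j, hj⟩ = 2 by
        rw [hM]; rw [if_neg (by simp [Fin.ext_iff]; omega), if_neg (by simp; omega)]] at this
      rw [pow_two] at this
      have e := eq_inv_of_mul_eq_one_left this
      simpa only [mul_inv_rev, CoxeterSystem.inv_simple] using e)
  have htop : Subgroup.closure (s '' Set.Iio n) = ⊤ := by
    rw [← cs₀.subgroup_closure_range_simple]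
    congr 1
    ext x
    constructor
    · rintro ⟨i, hi, rfl⟩; exact ⟨⟨i, hi⟩, (hs i hi).symm⟩
    · rintro ⟨i, rfl⟩; exact ⟨i, i.2, hs i i.2⟩
  rw [htop, Subgroup.coe_top] at hfin hcard
  haveI : Finite M.Group := Set.finite_univ_iff.mp hfin
  rw [Set.ncard_univ] at hcard
  have hbij : Function.Bijective φ := hsurj.bijective_of_nat_card_le (by
    rw [Nat.card_perm, Nat.card_fin]; exact hcard)
  refine ⟨⟨(MulEquiv.ofBijective φ hbij).symm⟩, fun i => ?_⟩
  exact hφ i

end Cfsg.Agent.S2530
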