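import Cfsg.Statements.S1058
import Cfsg.Agent.S1060
import Cfsg.Agent.S2530

set_option autoImplicit false
open Cfsg

namespace Cfsg.Agent.S1058

open Cfsg.Lie

/-- Five words in the root elements. -/
def wd : Fin 5 → List (Fin 8) := ![[0], [7], [0, 1, 3], [4], [3]]

/-- The root elements over two elements. -/
def X2 (r : Fin 8) : Matrix chevB2.Idx chevB2.Idx (ZMod 2) := chevB2.xMat (ZMod 2) r 1

/-- The five matrices. -/
def A2 (i : Fin 5) : Matrix chevB2.Idx chevB2.Idx (ZMod 2) := ((wd i).map X2).prod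

theorem A2_sq : ∀ i, A2 i * A2 i = 1 := by decide +kernel

theorem A2_rel : ∀ i j, (A2 i * A2 j) ^ (CoxeterMatrix.A 5 i j) = 1 := by decide +kernel

theorem X2_sq : ∀ r : Fin 8, X2 r * X2 r = 1 := by decide +kernel

theorem A2_nontriv : A2 0 * A2 1 ≠ 1 := by decide +kernel

theorem xMat_map {K L : Type*} [Field K] [Field L] (f : K →+* L) (D : ChevalleyDatum) (r : Fin D.nroots) (t : K) :
    D.xMat L r (f t) = (D.xMat K r t).map f := by
  ext row col
  cases col <;> cases row <;>
    simp only [ChevalleyDatum.xMat, Matrix.of_apply, Matrix.map_apply] <;>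
    (try split_ifs) <;> simp [map_list_sum, List.map_map, Function.comp_def]

/-- B₂(2) ≅ S₆. -/
theorem result {F : Type*} [Field F] [Fintype F] (hF : Fintype.card F = 2) :
    Nonempty (↥(Cfsg.Lie.chevB2.group F) ≃* Equiv.Perm (Fin 6)) := by
  classical
  haveI : Fact (Nat.Prime 2) := ⟨Nat.prime_two⟩
  let e := ZMod.ringEquivOfPrime F Nat.prime_two hF
  let f : Matrix chevB2.Idx chevB2.Idx (ZMod 2) →* Matrix chevB2.Idx chevB2.Idx F :=
    e.toRingHom.mapMatrix.toMonoidHom
  have hf : Function.Injective f := fun a b h => Matrix.map_injective e.injective h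
  have hsq : ∀ i, f (A2 i) * f (A2 i) = 1 := fun i => by rw [← map_mul, A2_sq, map_one]
  let u : Fin 5 → GL chevB2.Idx F := fun i => ⟨f (A2 i), f (A2 i), hsq i, hsq i⟩
  have hu : (CoxeterMatrix.A 5).IsLiftable u := fun i j => Units.ext (by
    show ((u i * u j) ^ (CoxeterMatrix.A 5 i j) : GL chevB2.Idx F).1 = 1
    rw [Units.val_pow_eq_pow_val, Units.val_mul]
    show (f (A2 i) * f (A2 j)) ^ (CoxeterMatrix.A 5 i j) = 1
    rw [← map_mul, ← map_pow, A2_rel, map_one])
  obtain ⟨cs, hcs⟩ := Cfsg.Agent.S2530.result 5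
  let φ : Equiv.Perm (Fin 6) →* GL chevB2.Idx F := cs.lift ⟨u, hu⟩
  have hφ : ∀ i, φ (cs.simple i) = u i := fun i => cs.lift_apply_simple hu i
  have hX : ∀ r : Fin 8, ∀ g : GL chevB2.Idx F, (g : Matrix chevB2.Idx chevB2.Idx F) = f (X2 r) →
      g ∈ chevB2.group F := fun r g hg => Subgroup.subset_closure ⟨r, e 1, by
        rw [hg]; exact (xMat_map e.toRingHom chevB2 r 1).symm⟩
  have hw : ∀ l : List (Fin 8), ∀ g : GL chevB2.Idx F,
      (g : Matrix chevB2.Idx chevB2.Idx F) = f ((l.map X2).prod) → g ∈ chevB2.group F := by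
    intro l
    induction l with
    | nil =>
      intro g hg
      rw [show g = 1 from Units.ext (by simpa using hg)]
      exact one_mem _
    | cons r l ih =>
      intro g hg
      let x : GL chevB2.Idx F := ⟨f (X2 r), f (X2 r), by rw [← map_mul, X2_sq, map_one], by rw [← map_mul, X2_sq, map_one]⟩
      have hx := hX r x rfl
      have h := ih (x⁻¹ * g) (by
        show f (X2 r) * (g : Matrix chevB2.Idx chevB2.Idx F) = _
        rw [hg, List.map_cons, List.prod_cons, map_mul, ← mul_assoc, ← map_mul, X2_sq, map_one, one_mul])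
      simpa using mul_mem hx h
  have hmem : ∀ σ, φ σ ∈ chevB2.group F := by
    intro σ
    refine cs.simple_induction (p := fun w => φ w ∈ chevB2.group F) σ (fun i => ?_) ?_ (fun a b ha hb => ?_)
    · rw [hφ]; exact hw (wd i) (u i) rfl
    · rw [map_one]; exact one_mem _
    · rw [map_mul]; exact mul_mem ha hb
  have hker : φ.ker = ⊥ := by
    rw [Subgroup.eq_bot_iff_forall]
    intro k hk
    haveI : IsSimpleGroup (alternatingGroup (Fin 6)) := alternatingGroup.isSimpleGroup (by simp)
    haveI : ((φ.ker).subgroupOf (alternatingGroup (Fin 6))).Normal := φ.normal_ker.subgroupOf _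
    rcases Subgroup.Normal.eq_bot_or_eq_top (inferInstance : ((φ.ker).subgroupOf (alternatingGroup (Fin 6))).Normal) with h | h
    · have hc : k ∈ Subgroup.center (Equiv.Perm (Fin 6)) := Subgroup.mem_center_iff.2 fun g => by
        have h1 : g * k * g⁻¹ * k⁻¹ ∈ φ.ker := mul_mem (φ.normal_ker.conj_mem k hk g) (inv_mem hk)
        have h2 : g * k * g⁻¹ * k⁻¹ ∈ alternatingGroup (Fin 6) := Equiv.Perm.mem_alternatingGroup.2 (by
          simp [mul_comm, mul_assoc, mul_left_comm])
        have h3 : (⟨_, h2⟩ : alternatingGroup (Fin 6)) = 1 :=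
          Subgroup.eq_bot_iff_forall _ |>.1 h _ (Subgroup.mem_subgroupOf.2 h1)
        have h4 : g * k * g⁻¹ * k⁻¹ = 1 := congrArg Subtype.val h3
        rw [mul_inv_eq_one, mul_inv_eq_iff_eq_mul] at h4
        exact h4
      refine Equiv.ext fun a => ?_
      by_contra hne
      rw [Equiv.Perm.one_apply] at hne
      obtain ⟨c, hca, hck⟩ : ∃ c : Fin 6, c ≠ a ∧ c ≠ k a := by
        revert hne; generalize k a = b; revert a b; decide
      have h1 := congrArg (fun p : Equiv.Perm (Fin 6) => p c) (Subgroup.mem_center_iff.1 hc (Equiv.swap a c))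
      simp only [Equiv.Perm.mul_apply, Equiv.swap_apply_right] at h1
      rcases eq_or_ne (k c) a with h2 | h2
      · rw [h2, Equiv.swap_apply_left] at h1
        exact hck h1
      rcases eq_or_ne (k c) c with h3 | h3
      · rw [h3, Equiv.swap_apply_right] at h1
        exact hne h1.symm
      · rw [Equiv.swap_apply_of_ne_of_ne h2 h3] at h1
        exact hca (k.injective h1)
    · exfalso
      have hs : cs.simple 0 * cs.simple 1 ∈ alternatingGroup (Fin 6) := Equiv.Perm.mem_alternatingGroup.2 (by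
        rw [hcs, hcs, map_mul, Equiv.Perm.sign_swap (by decide), Equiv.Perm.sign_swap (by decide)]; rfl)
      have h1 : φ (cs.simple 0 * cs.simple 1) = 1 := Subgroup.mem_subgroupOf.1
        (h.symm.le (Subgroup.mem_top (⟨_, hs⟩ : alternatingGroup (Fin 6))))
      rw [map_mul, hφ, hφ] at h1
      refine A2_nontriv (hf ?_)
      rw [map_mul, map_one]
      exact congrArg Units.val h1
  let ψ : Equiv.Perm (Fin 6) →* ↥(chevB2.group F) := φ.codRestrict _ hmem
  have hψ : Function.Injective ψ := fun a b h =>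
    (MonoidHom.ker_eq_bot_iff φ).1 hker (congrArg Subtype.val h)
  haveI : Finite ↥(chevB2.group F) := inferInstance
  have hc : Nat.card (Equiv.Perm (Fin 6)) = Nat.card ↥(chevB2.group F) := by
    have h := Cfsg.Agent.S1060.result (F := F) hF
    rw [show Nat.gcd 2 (2 - 1) = 1 from rfl, one_mul] at h
    rw [h, Nat.card_perm, Nat.card_fin]
    rfl
  exact ⟨(MulEquiv.ofBijective ψ ((Nat.bijective_iff_injective_and_card ψ).2 ⟨hψ, hc⟩)).symm⟩

end Cfsg.Agent.S1058
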