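import Cfsg.Statements.S1080


set_option autoImplicit false
open Cfsg

namespace Cfsg.Agent.S1080

/-- Field automorphisms: for every field automorphism `f` there is a group automorphism sending each `x_r(t)` to `x_r(f t)`. -/
theorem result {F : Type*} [Field F] (D : Cfsg.Lie.ChevalleyDatum) (hD : D ∈ [Cfsg.Lie.chevG2, Cfsg.Lie.chevB2, Cfsg.Lie.chevD4, Cfsg.Lie.chevF4, Cfsg.Lie.chevE6, Cfsg.Lie.chevE7, Cfsg.Lie.chevE8]) (f : F ≃+* F) :
    ∃ α : ↥(D.group F) ≃* ↥(D.group F), ∀ (g : ↥(D.group F)) (r : ℕ) (t : F), r < D.nroots →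
      ((g : GL D.Idx F) : Matrix D.Idx D.Idx F) = D.x F r t → ((α g : GL D.Idx F) : Matrix D.Idx D.Idx F) = D.x F r (f t) := by
  let ψ : GL D.Idx F ≃* GL D.Idx F :=
    Units.mapEquiv (RingEquiv.mapMatrix f : Matrix D.Idx D.Idx F ≃+* Matrix D.Idx D.Idx F).toMulEquiv
  have hψ : ∀ g : GL D.Idx F, ((ψ g : GL D.Idx F) : Matrix D.Idx D.Idx F) =
      ((g : GL D.Idx F) : Matrix D.Idx D.Idx F).map f := fun g => rfl
  have hx : ∀ (r : Fin D.nroots) (t : F) (f : F ≃+* F), (D.xMat F r t).map f = D.xMat F r (f t) := by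
    intro r t f
    ext row col
    rcases col with i | s
    · rcases row with i' | u
      · simp only [Lie.ChevalleyDatum.xMat, Matrix.map_apply, Matrix.of_apply]
        split_ifs <;> simp
      · simp only [Lie.ChevalleyDatum.xMat, Matrix.map_apply, Matrix.of_apply]
        split_ifs <;> simp
    · rcases row with i' | u <;>
      · simp only [Lie.ChevalleyDatum.xMat, Matrix.map_apply, Matrix.of_apply]
        split_ifs <;> simp [map_list_sum, List.map_map, Function.comp_def]
  have hgen : ∀ g ∈ D.group F, ψ g ∈ D.group F ∧ ψ.symm g ∈ D.group F := by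
    intro g hg
    induction hg using Subgroup.closure_induction with
    | mem g hg =>
      obtain ⟨r, t, ht⟩ := hg
      constructor
      · exact Subgroup.subset_closure ⟨r, f t, by rw [hψ, ht, hx]⟩
      · refine Subgroup.subset_closure ⟨r, f.symm t, ?_⟩
        have : ((ψ.symm g : GL D.Idx F) : Matrix D.Idx D.Idx F) =
            ((g : GL D.Idx F) : Matrix D.Idx D.Idx F).map f.symm := rfl
        rw [this, ht, hx r t f.symm]
    | one => simp [one_mem]
    | mul a b _ _ ha hb => exact ⟨by rw [map_mul]; exact mul_mem ha.1 hb.1, by rw [map_mul]; exact mul_mem ha.2 hb.2⟩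
    | inv a _ ha => exact ⟨by rw [map_inv]; exact inv_mem ha.1, by rw [map_inv]; exact inv_mem ha.2⟩
  refine ⟨{ toFun := fun g => ⟨ψ g, (hgen g g.2).1⟩
            invFun := fun g => ⟨ψ.symm g, (hgen g g.2).2⟩
            left_inv := fun g => Subtype.ext (ψ.symm_apply_apply _)
            right_inv := fun g => Subtype.ext (ψ.apply_symm_apply _)
            map_mul' := fun a b => Subtype.ext (map_mul ψ _ _) }, fun g r t hr ht => ?_⟩
  show ((ψ (g : GL D.Idx F) : GL D.Idx F) : Matrix D.Idx D.Idx F) = D.x F r (f t)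
  rw [hψ, ht]
  simp only [Lie.ChevalleyDatum.x, dif_pos hr]
  exact hx _ t f

end Cfsg.Agent.S1080
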