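import Cfsg.Statements.S1082
import Cfsg.Agent.Lib.Chev.OrthModel.Main

set_option autoImplicit false
open Cfsg

namespace Cfsg.Agent.S1082

/-- D₄(F) ≅ PΩ₈⁺(F), the commutator subgroup of the orthogonal group of `Σ xᵢ yᵢ` modulo its centre. -/
theorem result {F : Type*} [Field F] : Nonempty (↥(Cfsg.Lie.chevD4.group F) ≃* Cfsg.POmega F (Cfsg.quadFormPlus 4 F)) := by
  open Cfsg.Agent Cfsg.Agent.Chev Cfsg.Agent.Chev.OrthModel in
  (have h : CT.Full Cfsg.Lie.chevD4 D4.pk := ⟨D4.ok, ckComm_D4, CT.UpD4.up_ok, CT.UpD4.eta_sim⟩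
   have hperf := Cfsg.Agent.S2395.result (K := F) Cfsg.Lie.chevD4 (by simp) (fun hD => by
     simp only [List.mem_cons, List.not_mem_nil, or_false] at hD
     rcases hD with hD | hD <;> exact absurd (congrArg Cfsg.Lie.ChevalleyDatum.rank hD) (by decide))
   haveI := (D4.ok.simple ckComm_D4 ckConn_D4 (D4.ok.perfect_all ckComm_D4 ckPerf_D4 (F := F))).1
   obtain ⟨θ, hθ, hker, -⟩ := CT.exists_cover_proj (K := F) h
   obtain ⟨φ, hφ, hgen⟩ := exists_onto all_D4 mem_L8 h deg_M8 hQ8 hperf omega8_le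
   have hab : ((0 : Fin 4), true).1 ≠ ((1 : Fin 4), true).1 := by decide
   obtain ⟨g, hg, e⟩ := eGroup_mem_of_root (K := F) all_D4 mem_L8 (op_D4 _ _ hab) 1
   have hg1 : g ≠ 1 := fun hg' => opM_ne_one (K := F) vv8_inj hab (by
     rw [evS_opS (spec all_D4).1 mem_L8] at e
     rw [← e, hg', Units.val_one])
   exact iso_of_images hperf θ hθ hker φ hφ (center_ne all_D4 mem_L8 hperf hφ hgen hg hg1))

end Cfsg.Agent.S1082
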