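import Cfsg.Statements.S1083
import Cfsg.Agent.Lib.Chev.OrthModel.Main

set_option autoImplicit false
open Cfsg

namespace Cfsg.Agent.S1083

/-- B₂(F) ≅ PΩ₅(F) for the form `x₀² + x₁y₁ + x₂y₂`, over every field with more than two elements. -/
theorem result {F : Type*} [Field F] (hF : ∃ a : F, a ≠ 0 ∧ a ≠ 1) :
    Nonempty (↥(Cfsg.Lie.chevB2.group F) ≃* Cfsg.POmega F (Cfsg.quadFormOdd 2 F)) := by
  open Cfsg.Agent Cfsg.Agent.Chev Cfsg.Agent.Chev.OrthModel in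
  (have h : CT.Full Cfsg.Lie.chevB2 B2.pk := ⟨B2.ok, ckComm_B2, CT.UpB2.up_ok, CT.UpB2.eta_sim⟩
   have hperf := Cfsg.Agent.S2395.result (K := F) Cfsg.Lie.chevB2 (by simp) (fun _ => hF)
   haveI := (B2.ok.simple ckComm_B2 ckConn_B2 (B2.ok.perfect_odd ckComm_B2 ckPerf_B2 hF)).1
   obtain ⟨θ, hθ, hker, -⟩ := CT.exists_cover_proj (K := F) h
   obtain ⟨φ, hφ, hgen⟩ := exists_onto all_B2 mem_L5 h deg_M5 hQ5 hperf omega5_le
   have hab : ((0 : Fin 2), true).1 ≠ ((1 : Fin 2), true).1 := by decide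
   obtain ⟨g, hg, e⟩ := eGroup_mem_of_root (K := F) all_B2 mem_L5 (op_B2 _ _ hab) 1
   have hg1 : g ≠ 1 := fun hg' => opM_ne_one (K := F) vv5_inj hab (by
     rw [evS_opS (spec all_B2).1 mem_L5] at e
     rw [← e, hg', Units.val_one])
   exact iso_of_images hperf θ hθ hker φ hφ (center_ne all_B2 mem_L5 hperf hφ hgen hg hg1))

end Cfsg.Agent.S1083
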