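import Cfsg.Statements.S1086
import Cfsg.Agent.Lib.Chev.TwE6Thm
-- import your own Cfsg.Agent.* helpers here

set_option autoImplicit false
open Cfsg

namespace Cfsg.Agent.S1086

open Cfsg.Agent.Chev in
/-- |U¹| = |G¹ ∩ U| = q ^ 36 for ²E₆(q). -/
theorem result {K : Type*} [Field K] [Fintype K] {q : ℕ} (hq : IsPrimePow q) (hK : Fintype.card K = q ^ 2) :
    Nat.card ↥(Cfsg.Lie.chevE6.posUnipotent K ⊓ Cfsg.Lie.twistedE6 K q) = q ^ 36 := by
  obtain ⟨φ, G, hφ, hG, hO⟩ := TwE6.setup hq hK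
  rw [TwE6.inf_eq G hG]; exact TwE6.card_pos hφ hK hq G hO

end Cfsg.Agent.S1086
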