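import Cfsg.Statements.S1092
import Cfsg.Agent.Lib.Chev.AllW
import Cfsg.Agent.Lib.Chev.AllX

set_option autoImplicit false
open Cfsg

namespace Cfsg.Agent.S1092
open Cfsg.Agent

/-- `|W(B₂)| = 8`, `|W(G₂)| = 12`, `|W(D₄)| = 192`, `|W(F₄)| = 1152` for the groups presented by the Coxeter matrices (the product of the degrees of the basic invariants). -/
theorem result (p : (Σ n : ℕ, CoxeterMatrix (Fin n)) × ℕ)
    (hp : p ∈ [(⟨2, CoxeterMatrix.B 2⟩, 8), (⟨2, CoxeterMatrix.G₂⟩, 12), (⟨4, Cfsg.Lie.coxeterD4⟩, 192), (⟨4, CoxeterMatrix.F₄⟩, 1152)]) :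
    Nat.card p.1.2.Group = p.2 := by
  simp only [List.mem_cons, List.not_mem_nil, or_false] at hp
  rcases hp with rfl | rfl | rfl | rfl
  · rw [Chev.B2.ok.card_coxeter Chev.ckComm_B2 Chev.ckCox_B2 (J := [1, 0]) (by decide) Chev.ckOrb_B2 Chev.poinP_B2]
    rfl
  · rw [Chev.G2.ok.card_coxeter Chev.ckComm_G2 Chev.ckCox_G2 (J := [1, 0]) (by decide) Chev.ckOrb_G2 Chev.poinP_G2]
    rfl
  · rw [Chev.D4.ok.card_coxeter Chev.ckComm_D4 Chev.ckCox_D4 (J := [3, 2, 1, 0]) (by decide) Chev.ckOrb_D4 Chev.poinP_D4]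
    rfl
  · rw [Chev.F4.ok.card_coxeter Chev.ckComm_F4 Chev.ckCox_F4 (J := [3, 2, 1, 0]) (by decide) Chev.ckOrb_F4 Chev.poinP_F4]
    rfl

end Cfsg.Agent.S1092
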