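import Cfsg.Statements.S1095
import Cfsg.Agent.Lib.Chev.Subgroups
import Cfsg.Agent.Lib.Chev.AllR

set_option autoImplicit false
open Cfsg

namespace Cfsg.Agent.S1095

/-- `n_p` (p = p_{i+1} fundamental) is the signed monomial matrix `h_{p_j} ↦ h_{p_j} - A_{p_j,p} h_p`, `e_s ↦ η_s e_{w_p(s)}`, with `η_s = ±1`, `η_p = η_{-p} = -1`, `η_s η_{w_p(s)} = (-1)^{A_{p,s}}`, `η_s η_{-s} = 1`. -/
theorem result {F : Type*} [Field F] (D : Cfsg.Lie.ChevalleyDatum) (hD : D ∈ [Cfsg.Lie.chevG2, Cfsg.Lie.chevB2, Cfsg.Lie.chevD4, Cfsg.Lie.chevF4, Cfsg.Lie.chevE6, Cfsg.Lie.chevE7, Cfsg.Lie.chevE8]) (i : ℕ) (hi : i < D.rank) :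
    ∃ η : ℕ → ℤ, (∀ s < D.nroots, η s = 1 ∨ η s = -1) ∧ η (D.simple i) = -1 ∧ η (D.neg (D.simple i)) = -1 ∧
      (∀ s < D.nroots, η s * η (D.reflectRoot i s) = (-1) ^ (D.cartan i s).natAbs ∧ η s * η (D.neg s) = 1) ∧
      D.nMat F (D.simple i) 1 = Matrix.of (fun (row col : D.Idx) =>
        Sum.elim
          (fun j' : Fin D.rank => Sum.elim
            (fun j : Fin D.rank => (if j' = j then (1 : F) else 0) - (if (j' : ℕ) = i then ((D.cartan j (D.simple i) : ℤ) : F) else 0))
            (fun _ => (0 : F)) col)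
          (fun s' : Fin D.nroots => Sum.elim
            (fun _ => (0 : F))
            (fun s : Fin D.nroots => if (s' : ℕ) = D.reflectRoot i s then ((η s : ℤ) : F) else 0) col)
          row) := by
  obtain ⟨P, h, hc⟩ := Chev.exists_okR hD
  have hi' : i < P.rank := h.rank ▸ hi
  have hp := h.sim_lt hi'
  refine ⟨P.eta i, fun s _ => h.eta_cases i s, ?_, ?_, fun s hs => ?_, ?_⟩
  · rw [h.simple_eq hi', h.eta_sim hc hi']
  · rw [h.simple_eq hi', h.neg_eq hp, h.eta_ng hi' hp, h.eta_sim hc hi']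
  · have hs' : s < P.nroots := h.nroots ▸ hs
    rw [h.reflectRoot_eq hc hi' hs', h.cartan_eq hi' hs', h.neg_eq hs']
    exact ⟨(h.w_spec hi' hs').2.2.2.2.1, (h.w_spec hi' hs').2.2.2.1⟩
  · rw [h.simple_eq hi', ← h.coe_nt hp]
    show ((h.nG i : GL D.Idx F) : Matrix D.Idx D.Idx F) = _
    rw [h.coe_nG hi']
    ext row col
    rw [Chev.cM_apply, Chev.Sg, Chev.opM_apply]
    rcases col with j | s
    · rw [Chev.code, Chev.Ok.sig_h (Nat.le_add_right _ _), Nat.add_sub_cancel_left]
      have hj : j.val < P.rank := h.rank ▸ j.isLt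
      rcases row with j' | u
      · simp only [Matrix.of_apply, Sum.elim_inl, Chev.code, Chev.cf_cons, Chev.cf_nil, add_right_inj,
          h.cartan_eq hj hp, add_zero, Int.cast_add]
        by_cases e : j' = j <;> by_cases e2 : (j' : ℕ) = i <;>
          simp [e, e2, Fin.val_inj, eq_comm] <;> (try split_ifs) <;> simp_all <;> (try ring) <;> (intro hh; exact e (Fin.ext (e2.trans hh)))
      · have := h.slt u
        simp [Chev.code, Chev.cf_cons, Chev.cf_nil, show P.nroots + j.val ≠ u.val by omega,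
          show P.nroots + i ≠ u.val by omega]
    · have hs := h.slt s
      have := h.w_lt hi' hs
      rw [Chev.code, Chev.Ok.sig_root hs]
      rcases row with j' | u
      · simp [Chev.code, Chev.cf_cons, Chev.cf_nil, show P.w i s.val ≠ P.nroots + j'.val by omega]
      · by_cases e : P.w i s.val = u.val
        · simp [Chev.code, Chev.cf_cons, Chev.cf_nil, h.reflectRoot_eq hc hi' hs, e]
        · simp [Chev.code, Chev.cf_cons, Chev.cf_nil, h.reflectRoot_eq hc hi' hs, e, Ne.symm e]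

end Cfsg.Agent.S1095
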