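import Cfsg.Statements.S1098
import Cfsg.Agent.Lib.Chev.SpecialTwist
-- import your own Cfsg.Agent.* helpers here

set_option autoImplicit false
open Cfsg

namespace Cfsg.Agent.S1098

open Cfsg.Agent.Chev in
theorem aux {D : Cfsg.Lie.ChevalleyDatum} {P : Pk} {F : Type*} [Field F] {g : Sp} [CharP F g.p] (h : Ok D P)
    (hg : g.ckSp P = true) (hC : P.ckComm = true) (hp : g.p.Prime) (hperf : ∀ x : F, ∃ y : F, y ^ g.p = x)
    (L : List (ℕ × ℕ))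
    (hL : ∀ i < P.rank, (L.getD i (0, 1)).1 = g.pp i ∧ (L.getD i (0, 1)).2 = g.lam (P.sim i) ∧
      g.lam (P.ng (P.sim i)) = g.lam (P.sim i)) :
    ∃ α : ↥(D.group F) ≃* ↥(D.group F), ∀ (x : ↥(D.group F)) (i : ℕ) (t : F), i < D.rank →
      (((x : GL D.Idx F) : Matrix D.Idx D.Idx F) = D.x F (D.simple i) t →
        ((α x : GL D.Idx F) : Matrix D.Idx D.Idx F) = D.x F (D.simple (L.getD i (0, 1)).1) (t ^ (L.getD i (0, 1)).2)) ∧
      (((x : GL D.Idx F) : Matrix D.Idx D.Idx F) = D.x F (D.neg (D.simple i)) t →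
        ((α x : GL D.Idx F) : Matrix D.Idx D.Idx F) =
          D.x F (D.neg (D.simple (L.getD i (0, 1)).1)) (t ^ (L.getD i (0, 1)).2)) := by
  obtain ⟨α, hα⟩ := h.spAut_spec hg hC hp hperf
  refine ⟨α, fun x i t hi => ?_⟩
  rw [h.rank] at hi
  obtain ⟨e1, e2, e3⟩ := hL i hi
  obtain ⟨n1, n2⟩ := h.sp_node hg hi
  have hs := h.sim_lt hi
  rw [h.simple_eq hi, e1, e2, h.simple_eq n1, h.neg_eq hs, h.neg_eq (h.sim_lt n1), ← n2]
  refine ⟨fun e => hα x _ t hs e, fun e => ?_⟩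
  have h1 := hα x _ t (Ok.ng_lt hs) e
  rwa [(h.sp_root hg hs).2.2.1, e3] at h1

/-- Graph automorphisms in characteristic 2 (K perfect): for B₂ (a short, b long) `x_a(t) ↦ x_b(t²)`, `x_b(t) ↦ x_a(t)`, and for F₄ (p₁, p₂ short, p₃, p₄ long) `x_{p₁}(t) ↦ x_{p₄}(t²)`, `x_{p₂}(t) ↦ x_{p₃}(t²)`, `x_{p₃}(t) ↦ x_{p₂}(t)`, `x_{p₄}(t) ↦ x_{p₁}(t)`, likewise on the negatives, extend to an automorphism of the group. -/
theorem result {K : Type*} [Field K] [CharP K 2] (hperf : ∀ x : K, ∃ y : K, y ^ 2 = x)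
    (p : Cfsg.Lie.ChevalleyDatum × List (ℕ × ℕ))
    (hp : p ∈ [(Cfsg.Lie.chevB2, [(1, 2), (0, 1)]), (Cfsg.Lie.chevF4, [(3, 2), (2, 2), (1, 1), (0, 1)])]) :
    ∃ α : ↥(p.1.group K) ≃* ↥(p.1.group K), ∀ (g : ↥(p.1.group K)) (i : ℕ) (t : K), i < p.1.rank →
      (((g : GL p.1.Idx K) : Matrix p.1.Idx p.1.Idx K) = p.1.x K (p.1.simple i) t →
        ((α g : GL p.1.Idx K) : Matrix p.1.Idx p.1.Idx K) = p.1.x K (p.1.simple (p.2.getD i (0, 1)).1) (t ^ (p.2.getD i (0, 1)).2)) ∧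
      (((g : GL p.1.Idx K) : Matrix p.1.Idx p.1.Idx K) = p.1.x K (p.1.neg (p.1.simple i)) t →
        ((α g : GL p.1.Idx K) : Matrix p.1.Idx p.1.Idx K) = p.1.x K (p.1.neg (p.1.simple (p.2.getD i (0, 1)).1)) (t ^ (p.2.getD i (0, 1)).2)) := by
  simp only [List.mem_cons, List.not_mem_nil, or_false] at hp
  rcases hp with rfl | rfl
  · haveI : CharP K Cfsg.Agent.Chev.spB2.p := inferInstanceAs (CharP K 2)
    exact aux Cfsg.Agent.Chev.B2.ok Cfsg.Agent.Chev.ckSp_B2 Cfsg.Agent.Chev.ckComm_B2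
      (show Nat.Prime 2 by norm_num) hperf _ (by decide +kernel)
  · haveI : CharP K Cfsg.Agent.Chev.spF4.p := inferInstanceAs (CharP K 2)
    exact aux Cfsg.Agent.Chev.F4.ok Cfsg.Agent.Chev.ckSp_F4 Cfsg.Agent.Chev.ckComm_F4
      (show Nat.Prime 2 by norm_num) hperf _ (by decide +kernel)

end Cfsg.Agent.S1098
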