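import Cfsg.Statements.S1100
import Cfsg.Agent.Lib.Chev.Bruhat
import Cfsg.Agent.Lib.Chev.AllC

set_option autoImplicit false
open Cfsg

namespace Cfsg.Agent.S1100
open Cfsg.Agent

/-- Canonical form `g = b n_w u` (`b ∈ B`, `u ∈ U_w⁻ = ⟨X_r : r > 0, n_w X_r n_w⁻¹ ≤ V⟩`): such a decomposition exists for every element of the group; the coset `n_w H` is determined by `g`; and for a fixed representative `n_w` the factors `b`, `u` are unique. -/
theorem result {F : Type*} [Field F] (D : Cfsg.Lie.ChevalleyDatum) (hD : D ∈ [Cfsg.Lie.chevG2, Cfsg.Lie.chevB2, Cfsg.Lie.chevD4, Cfsg.Lie.chevF4, Cfsg.Lie.chevE6, Cfsg.Lie.chevE7, Cfsg.Lie.chevE8]) :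
    (∀ g ∈ D.group F, ∃ b ∈ D.borelSubgroup F, ∃ n ∈ D.monomialSubgroup F,
      ∃ u ∈ Subgroup.closure {x : GL D.Idx F | ∃ (r : ℕ) (t : F), D.IsPosRoot r ∧
            (D.rootSubgroup F r).map (MulAut.conj n).toMonoidHom ≤ D.negUnipotent F ∧ (x : Matrix D.Idx D.Idx F) = D.x F r t},
        g = b * n * u) ∧
    (∀ (b b' n n' u u' : GL D.Idx F), b ∈ D.borelSubgroup F → b' ∈ D.borelSubgroup F →
      n ∈ D.monomialSubgroup F → n' ∈ D.monomialSubgroup F →
      u ∈ Subgroup.closure {x : GL D.Idx F | ∃ (r : ℕ) (t : F), D.IsPosRoot r ∧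
            (D.rootSubgroup F r).map (MulAut.conj n).toMonoidHom ≤ D.negUnipotent F ∧ (x : Matrix D.Idx D.Idx F) = D.x F r t} →
      u' ∈ Subgroup.closure {x : GL D.Idx F | ∃ (r : ℕ) (t : F), D.IsPosRoot r ∧
            (D.rootSubgroup F r).map (MulAut.conj n').toMonoidHom ≤ D.negUnipotent F ∧ (x : Matrix D.Idx D.Idx F) = D.x F r t} →
      b * n * u = b' * n' * u' → n⁻¹ * n' ∈ D.diagonalSubgroup F ∧ (n = n' → b = b' ∧ u = u')) := by
  obtain ⟨P, h, -, hC⟩ := Chev.exists_okC hD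
  refine ⟨fun g hg => ?_, fun b b' n n' u u' hb hb' hn hn' hu hu' e => ?_⟩
  · obtain ⟨b, hb, l, hl, u, hu, rfl⟩ := h.bruhat_exists hC hg
    refine ⟨b, hb, h.nW l, h.nW_mem l hl, u, ?_, rfl⟩
    have := h.uminus_eq hl (one_mem (D.diagonalSubgroup F))
    rw [mul_one] at this
    rw [this]
    exact hu
  obtain ⟨l, hl, d, hd, rfl⟩ := h.exists_word_of_mem hn
  obtain ⟨l', hl', d', hd', rfl⟩ := h.exists_word_of_mem hn'
  rw [h.uminus_eq hl hd] at hu
  rw [h.uminus_eq hl' hd'] at hu'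
  have h1 := h.bruhat_unique hC hb hb' hl hl' hd hd' (h.negS_le_pos l hu) (h.negS_le_pos l' hu') e
  refine ⟨?_, fun enn => ?_⟩
  · have h2 := mul_mem (mul_mem (inv_mem hd) h1) hd'
    convert h2 using 1
    group
  · rw [← enn] at e
    have hneg : Chev.negS P l' = Chev.negS P l := by
      funext r
      refine propext (and_congr_right fun hr => ?_)
      rw [h.wl_eq_of_mem hl hl' h1 (P.isPos_iff.1 hr).2]
    rw [hneg] at hu'
    exact h.bruhat_factor hl hd hb hb' hu hu' e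

end Cfsg.Agent.S1100
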