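import Cfsg.Statements.S1101
import Cfsg.Agent.Lib.Chev.TwReeThm
-- import your own Cfsg.Agent.* helpers here

set_option autoImplicit false
open Cfsg

namespace Cfsg.Agent.S1101

/-- For ²G₂ over `K` with `|K| = 3^(2m+1)`, `θ = 3^m`: `U¹ = G¹ ∩ U` consists exactly of the elements `x_a(t^θ) x_b(t) x_{a+b}(t^{θ+1}+u^θ) x_{2a+b}(t^{2θ+1}+v^θ) x_{3a+b}(u) x_{3a+2b}(v)`, `t, u, v ∈ K`, and it has `|K|³` elements. -/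
theorem result {K : Type*} [Field K] [Fintype K] {m : ℕ} (hK : Fintype.card K = 3 ^ (2 * m + 1)) :
    (∀ g : GL Cfsg.Lie.chevG2.Idx K, g ∈ Cfsg.Lie.chevG2.posUnipotent K ⊓ Cfsg.Lie.twistedG2 K (3 ^ m) ↔
      ∃ t u v : K, (g : Matrix Cfsg.Lie.chevG2.Idx Cfsg.Lie.chevG2.Idx K) = Cfsg.Lie.chevG2.wordMat K (Cfsg.Lie.reeWordU (3 ^ m) t u v)) ∧
    Nat.card ↥(Cfsg.Lie.chevG2.posUnipotent K ⊓ Cfsg.Lie.twistedG2 K (3 ^ m)) = (3 ^ (2 * m + 1)) ^ 3 := by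
  haveI := Cfsg.Agent.Chev.TwRee.charP_three hK
  obtain ⟨φ, G, hφe, hφ, hG, hO⟩ := Cfsg.Agent.Chev.TwRee.setup hK
  have hU : Cfsg.Lie.chevG2.posUnipotent K ⊓ Cfsg.Lie.twistedG2 K (3 ^ m) =
      Cfsg.Lie.chevG2.posUnipotent K ⊓ (Cfsg.Agent.Chev.TwRee.T φ).fixed := by
    rw [← hG, G.eq_fixed Cfsg.Agent.Chev.ckComm_G2]
  refine ⟨fun g => ?_, ?_⟩
  · rw [hU, Cfsg.Agent.Chev.TwRee.pos_fixed_iff φ hφ]
    simp only [Cfsg.Agent.Chev.TwRee.wordR φ _ hφe]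
  · rw [hU, Cfsg.Agent.Chev.TwRee.card_pos_fixed φ hφ, Nat.card_eq_fintype_card, hK]

end Cfsg.Agent.S1101
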