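import Cfsg.Statements.S1118
import Cfsg.Agent.Lib.RankOne.Basic
import Cfsg.Agent.Lib.Basics.CoprimeGen
import Cfsg.Agent.Lib.Basics.Cores

set_option autoImplicit false
open Cfsg

namespace Cfsg.Agent.S1118

/-- In the rank-one set-up (`G` finite and doubly transitive on `Ω`, `t` an involution moving `a`, `Q` normal in `G_a` with `G_a = Q D`, `Q ⊓ D = 1` for the two-point stabiliser `D = G_a ⊓ G_{t • a}`, `|Q|` even, `|D|` odd), the normaliser of a subset of `Q` containing a non-identity element lies in `G_a`; consequently `N_G(Q) = N_G(G_a) = G_a`. -/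
theorem result {G Ω : Type*} [Group G] [Finite G] [MulAction G Ω] {a : Ω} {t : G} {Q : Subgroup G}
    (hS : Cfsg.IsRankOneSetup G Ω a t Q) :
    (∀ X : Set G, X ⊆ (Q : Set G) → (∃ x ∈ X, x ≠ 1) → Subgroup.normalizer X ≤ MulAction.stabilizer G a) ∧
      Subgroup.normalizer (Q : Set G) = MulAction.stabilizer G a ∧
      Subgroup.normalizer (MulAction.stabilizer G a : Set G) = MulAction.stabilizer G a := by
  have hne : ∃ x ∈ (Q : Set G), x ≠ 1 := by
    obtain ⟨s, hs, h1, -⟩ := RankOne.exists_invol_Q hS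
    exact ⟨s, hs, h1⟩
  have key : ∀ X : Set G, X ⊆ (Q : Set G) → (∃ x ∈ X, x ≠ 1) →
      Subgroup.normalizer X ≤ MulAction.stabilizer G a := by
    rintro X hX ⟨x, hx, hx1⟩ g hg
    have h2 : g * x * g⁻¹ ∈ Q := hX ((Subgroup.mem_set_normalizer_iff.mp hg x).mp hx)
    refine RankOne.fix_eq hS h2 (fun e => hx1 ?_) (c := g • a) ?_
    · calc x = g⁻¹ * (g * x * g⁻¹) * g := by group
        _ = 1 := by rw [e]; group
    · rw [mul_smul, mul_smul, inv_smul_smul, RankOne.Q_fix hS (hX hx)]
  refine ⟨key, le_antisymm (key _ subset_rfl hne) fun g hg => ?_, le_antisymm (fun g hg => ?_) Subgroup.le_normalizer⟩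
  · rw [Subgroup.mem_normalizer_iff]
    refine fun x => ⟨fun hx => hS.conj_mem g hg x hx, fun hx => ?_⟩
    have := hS.conj_mem g⁻¹ ((MulAction.stabilizer G a).inv_mem hg) _ hx
    simpa [mul_assoc] using this
  · obtain ⟨x, hx, hx1⟩ := hne
    have h2 : g⁻¹ * x * g ∈ MulAction.stabilizer G a := by
      rw [Subgroup.mem_normalizer_iff] at hg
      exact (hg _).mpr (by simpa [mul_assoc] using hS.le hx)
    refine RankOne.fix_eq hS hx hx1 (c := g • a) ?_
    have h3 := MulAction.mem_stabilizer_iff.mp h2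
    rwa [mul_smul, mul_smul, inv_smul_eq_iff] at h3

end Cfsg.Agent.S1118
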