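import Cfsg.Statements.S1119
import Cfsg.Agent.Lib.RankOne.Basic
import Cfsg.Agent.Lib.Basics.CoprimeGen
import Cfsg.Agent.Lib.Basics.Cores

set_option autoImplicit false
open Cfsg

namespace Cfsg.Agent.S1119

/-- In the rank-one set-up (`G` finite and doubly transitive on `Ω`, `t` an involution moving `a`, `Q` normal in `G_a` with `G_a = Q D`, `Q ⊓ D = 1` for the two-point stabiliser `D = G_a ⊓ G_{t • a}`, `|Q|` even, `|D|` odd): `Q` acts regularly on `Ω` minus `a`; hence `|Ω| = |Q| + 1`, `|G| = |Q| |D| (|Q| + 1)`, some Sylow 2-subgroup of `G` lies in `Q`, and each `g ∉ G_a` is uniquely `x t y` with `x ∈ G_a`, `y ∈ Q` (canonical form). -/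
theorem result {G Ω : Type*} [Group G] [Finite G] [MulAction G Ω] {a : Ω} {t : G} {Q : Subgroup G}
    (hS : Cfsg.IsRankOneSetup G Ω a t Q) :
    (∀ b c : Ω, b ≠ a → c ≠ a → ∃! x : Q, (x : G) • b = c) ∧
      Nat.card Ω = Nat.card Q + 1 ∧
      Nat.card G = Nat.card Q * Nat.card ↥(MulAction.stabilizer G a ⊓ MulAction.stabilizer G (t • a)) * (Nat.card Q + 1) ∧
      (∃ P : Sylow 2 G, (P : Subgroup G) ≤ Q) ∧
      ∀ g : G, g ∉ MulAction.stabilizer G a → ∃! p : G × G, p.1 ∈ MulAction.stabilizer G a ∧ p.2 ∈ Q ∧ g = p.1 * t * p.2 := by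
  classical
  haveI := RankOne.finite_points hS
  haveI : Fact (Nat.Prime 2) := ⟨Nat.prime_two⟩
  have hnot : ∀ g : G, g ∉ MulAction.stabilizer G a → ∀ x y : G, x ∈ MulAction.stabilizer G a → y ∈ Q →
      g = x * t * y → y⁻¹ • (t • a) = g⁻¹ • a := by
    intro g _ x y hx _ e
    rw [e, mul_inv_rev, mul_smul, mul_inv_rev, mul_smul, RankOne.t_inv hS,
      MulAction.mem_stabilizer_iff.mp ((MulAction.stabilizer G a).inv_mem hx)]
  have hcB : Nat.card (MulAction.stabilizer G a) = Nat.card Q *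
      Nat.card ↥(MulAction.stabilizer G a ⊓ MulAction.stabilizer G (t • a)) := by
    rw [← Nat.card_prod]
    refine (Nat.card_congr (Equiv.ofBijective (fun p : Q ×
      ↥(MulAction.stabilizer G a ⊓ MulAction.stabilizer G (t • a)) =>
      (⟨(p.1 : G) * p.2, mul_mem (hS.le p.1.2) (Subgroup.mem_inf.mp p.2.2).1⟩ : MulAction.stabilizer G a)) ⟨?_, ?_⟩)).symm
    · intro p q e
      have e' : (p.1 : G) * p.2 = q.1 * q.2 := congrArg Subtype.val e
      obtain ⟨h1, h2, -⟩ := RankOne.canonical_unique hS p.1.2 q.1.2 p.2.2 q.2.2 (one_mem Q) (one_mem Q)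
        (by rw [e'])
      exact Prod.ext (Subtype.ext h1) (Subtype.ext h2)
    · rintro ⟨g, hg⟩
      obtain ⟨x, hx, d, hd, rfl⟩ := RankOne.B_decomp hS hg
      exact ⟨(⟨x, hx⟩, ⟨d, hd⟩), rfl⟩
  have hcG : Nat.card G = Nat.card Q *
      Nat.card ↥(MulAction.stabilizer G a ⊓ MulAction.stabilizer G (t • a)) * (Nat.card Q + 1) := by
    haveI : MulAction.IsPretransitive G Ω := ⟨fun x y => by
      obtain ⟨g, rfl⟩ := RankOne.exists_point hS x
      obtain ⟨h, rfl⟩ := RankOne.exists_point hS y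
      exact ⟨h * g⁻¹, by rw [mul_smul, inv_smul_smul]⟩⟩
    rw [← RankOne.card_points hS, ← hcB, ← MulAction.index_stabilizer_of_transitive G a,
      Subgroup.card_mul_index]
  refine ⟨fun b c hb hc => ?_, RankOne.card_points hS, hcG, ?_, fun g hg => ?_⟩
  · obtain ⟨y, hy, rfl⟩ := RankOne.exists_Q hS hb
    obtain ⟨z, hz, rfl⟩ := RankOne.exists_Q hS hc
    refine ⟨⟨z * y⁻¹, mul_mem hz (inv_mem hy)⟩, by simp [mul_smul], fun x hx => Subtype.ext ?_⟩
    exact RankOne.Q_unique hS x.2 (mul_mem hz (inv_mem hy)) hb (by simpa [mul_smul] using hx)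
  · obtain ⟨P⟩ : Nonempty (Sylow 2 Q) := inferInstance
    have hcard : Nat.card ((P : Subgroup Q).map Q.subtype) = 2 ^ (Nat.card G).factorization 2 := by
      rw [Nat.card_congr (Subgroup.equivMapOfInjective _ _ Q.subtype_injective).toEquiv.symm,
        P.card_eq_multiplicity]
      congr 1
      rw [hcG, mul_assoc, Nat.factorization_mul Nat.card_pos.ne' (Nat.mul_ne_zero Nat.card_pos.ne' (Nat.succ_ne_zero _)),
        Finsupp.add_apply, Nat.factorization_eq_zero_of_not_dvd (n := _ * (Nat.card Q + 1)), add_zero]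
      rw [← even_iff_two_dvd, Nat.not_even_iff_odd]
      exact hS.odd_card.mul hS.even_card.add_one
    exact ⟨Sylow.ofCard _ hcard, by rw [Sylow.coe_ofCard]; exact Subgroup.map_subtype_le _⟩
  · obtain ⟨x, hx, d, hd, y, hy, e⟩ := RankOne.canonical_exists hS hg
    refine ⟨(x * d, y), ⟨mul_mem (hS.le hx) hd.1, hy, e⟩, ?_⟩
    rintro ⟨p, q⟩ ⟨hp, hq, e'⟩
    have h1 := hnot g hg _ _ hp hq e'
    have h2 := hnot g hg _ _ (mul_mem (hS.le hx) hd.1) hy e
    have hqy : q = y := inv_injective (RankOne.Q_unique hS (inv_mem hq) (inv_mem hy)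
      (RankOne.tb_ne hS) (h1.trans h2.symm))
    subst hqy
    exact Prod.ext (mul_right_cancel (mul_right_cancel (e'.symm.trans e))) rfl

end Cfsg.Agent.S1119
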