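import Cfsg.Statements.S1120
import Cfsg.Agent.Lib.RankOne.Basic
import Cfsg.Agent.Lib.Basics.CoprimeGen
import Cfsg.Agent.Lib.Basics.Cores

set_option autoImplicit false
open Cfsg

namespace Cfsg.Agent.S1120

/-- In the rank-one set-up (`G` finite and doubly transitive on `Ω`, `t` an involution moving `a`, `Q` normal in `G_a` with `G_a = Q D`, `Q ⊓ D = 1` for the two-point stabiliser `D = G_a ⊓ G_{t • a}`, `|Q|` even, `|D|` odd), if `G` has 2-rank at least 2 then `O_{2'}(G)` equals the normal core of `G_a`. -/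
theorem result {G Ω : Type*} [Group G] [Finite G] [MulAction G Ω] {a : Ω} {t : G} {Q : Subgroup G}
    (hS : Cfsg.IsRankOneSetup G Ω a t Q)
    (h2 : ∃ x y : G, x ≠ 1 ∧ y ≠ 1 ∧ x ≠ y ∧ x * x = 1 ∧ y * y = 1 ∧ x * y = y * x) :
    Cfsg.pPrimeCore 2 G = (MulAction.stabilizer G a).normalCore := by
  classical
  obtain ⟨x, y, hx1, hy1, hxy, hxx, hyy, hc⟩ := h2
  haveI : Fact (Nat.Prime 2) := ⟨Nat.prime_two⟩
  haveI hOn : (Cfsg.pPrimeCore 2 G).Normal := inferInstance
  refine le_antisymm (Subgroup.normal_le_normalCore.mpr ?_) (Basics.le_pPrimeCore ?_)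
  · obtain ⟨c, hc'⟩ := RankOne.invol_exists_fix hS hxx
    have hyc : y • c = c := by
      refine RankOne.invol_fix_unique hS hx1 hxx ?_ hc'
      rw [← mul_smul, hc, mul_smul, hc']
    let A : Subgroup G := Subgroup.closure {x, y}
    have hA : A ≤ MulAction.stabilizer G c := by
      rw [Subgroup.closure_le]
      rintro z (rfl | rfl)
      · exact hc'
      · exact hyc
    haveI : IsMulCommutative A := Subgroup.isMulCommutative_closure (fun u hu v hv => by
      rcases hu with rfl | rfl <;> rcases hv with rfl | rfl <;>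
        first | rfl | exact hc | exact hc.symm)
    have hsq : ∀ z ∈ A, z * z = 1 := by
      intro z hz
      induction hz using Subgroup.closure_induction with
      | mem z hz => rcases hz with rfl | rfl <;> assumption
      | one => simp
      | mul u v hu hv h1 h2 =>
        have huv : u * v = v * u := congrArg Subtype.val (IsMulCommutative.is_comm.comm (⟨u, hu⟩ : A) ⟨v, hv⟩)
        calc u * v * (u * v) = u * (v * u) * v := by group
          _ = (u * u) * (v * v) := by rw [← huv]; group
          _ = 1 := by rw [h1, h2, one_mul]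
      | inv u _ h1 => rw [← mul_inv_rev, h1, inv_one]
    have hcyc : ¬ IsCyclic A := by
      intro h
      obtain ⟨g, hg⟩ := IsCyclic.exists_generator (α := A)
      have hg2 : g * g = 1 := Subtype.ext (hsq g g.2)
      have hmem : ∀ z : A, z = 1 ∨ z = g := by
        intro z
        obtain ⟨k, rfl⟩ := Subgroup.mem_zpowers_iff.mp (hg z)
        rcases Int.even_or_odd k with ⟨m, rfl⟩ | ⟨m, rfl⟩
        · exact Or.inl (by rw [← two_mul, zpow_mul, zpow_two, hg2, one_zpow])
        · exact Or.inr (by rw [zpow_add_one, zpow_mul, zpow_two, hg2, one_zpow, one_mul])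
      have hxA : x ∈ A := Subgroup.subset_closure (by simp)
      have hyA : y ∈ A := Subgroup.subset_closure (by simp)
      rcases hmem ⟨x, hxA⟩ with e1 | e1 <;> rcases hmem ⟨y, hyA⟩ with e2 | e2 <;>
        simp only [Subtype.ext_iff, OneMemClass.coe_one] at e1 e2
      · exact hx1 e1
      · exact hx1 e1
      · exact hy1 e2
      · exact hxy (e1.trans e2.symm)
    have hcop : (Nat.card A).Coprime (Nat.card (Cfsg.pPrimeCore 2 G)) := by
      obtain ⟨k, hk⟩ := IsPGroup.iff_card.mp (show IsPGroup 2 A from fun z => ⟨1, Subtype.ext (by simpa [sq] using hsq z z.2)⟩)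
      rw [hk]
      exact (Basics.pPrimeCore_coprime (G := G) 2).symm.pow_left k
    have hOc : Cfsg.pPrimeCore 2 G ≤ MulAction.stabilizer G c := by
      rw [← Basics.iSup_inf_centralizer_eq A _ hcyc (by rw [Subgroup.normalizer_eq_top (H := Cfsg.pPrimeCore 2 G)]; exact le_top) hcop]
      refine iSup₂_le fun v hv g hg => ?_
      obtain ⟨hvA, hv1⟩ := hv
      have e := Subgroup.mem_centralizer_singleton_iff.mp (Subgroup.mem_inf.mp hg).2
      refine RankOne.invol_fix_unique hS hv1 (hsq v hvA) ?_ (hA hvA)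
      rw [← mul_smul, ← e, mul_smul, MulAction.mem_stabilizer_iff.mp (hA hvA)]
    obtain ⟨g, hg⟩ := RankOne.exists_point hS c
    intro z hz
    have h1 := hOc (hOn.conj_mem z hz g)
    rw [MulAction.mem_stabilizer_iff, ← hg, ← mul_smul, inv_mul_cancel_right, mul_smul] at h1
    exact MulAction.injective g h1
  · rw [Nat.coprime_comm, Nat.Prime.coprime_iff_not_dvd Nat.prime_two]
    intro hdvd
    obtain ⟨s, hs⟩ := exists_prime_orderOf_dvd_card' 2 hdvd
    rw [← Subgroup.orderOf_coe] at hs
    have hs1 : (s : G) ≠ 1 := Invol.ne_one_of_orderOf_two hs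
    obtain ⟨g, hg⟩ := RankOne.exists_point hS (t • a)
    have h1 : g⁻¹ * (s : G) * g⁻¹⁻¹ ∈ MulAction.stabilizer G a :=
      Subgroup.normalCore_le _ (Subgroup.Normal.conj_mem inferInstance (s : G) s.2 g⁻¹)
    refine RankOne.tb_ne hS (RankOne.fix_eq hS (RankOne.inv_mem_Q hS
      (Subgroup.normalCore_le _ s.2) (Invol.mul_self_of_orderOf_two hs)) hs1 ?_)
    rw [MulAction.mem_stabilizer_iff, inv_inv, mul_smul, mul_smul, hg, inv_smul_eq_iff, hg] at h1
    exact h1

end Cfsg.Agent.S1120
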