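import Cfsg.Statements.S1121
import Cfsg.Agent.Lib.RankOne.Basic
import Cfsg.Agent.Lib.Basics.CoprimeGen
import Cfsg.Agent.Lib.Basics.Cores

set_option autoImplicit false
open Cfsg

namespace Cfsg.Agent.S1121

/-- In the rank-one set-up (`G` finite and doubly transitive on `Ω`, `t` an involution moving `a`, `Q` normal in `G_a` with `G_a = Q D`, `Q ⊓ D = 1` for the two-point stabiliser `D = G_a ⊓ G_{t • a}`, `|Q|` even, `|D|` odd): if `s` is an involution of `G_a` and `u` an involution outside `G_a`, then `s u` has odd order; and any two involutions of `G` are conjugate. -/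
theorem result {G Ω : Type*} [Group G] [Finite G] [MulAction G Ω] {a : Ω} {t : G} {Q : Subgroup G}
    (hS : Cfsg.IsRankOneSetup G Ω a t Q) :
    (∀ s u : G, s ∈ MulAction.stabilizer G a → s ≠ 1 → s * s = 1 → u ∉ MulAction.stabilizer G a → u ≠ 1 → u * u = 1 → Odd (orderOf (s * u))) ∧
      ∀ u v : G, u ≠ 1 → u * u = 1 → v ≠ 1 → v * v = 1 → ∃ g : G, g * u * g⁻¹ = v := by
  have key : ∀ (s u : G) (c d : Ω), s ≠ 1 → s * s = 1 → u ≠ 1 → u * u = 1 → s • c = c → u • d = d →
      c ≠ d → Odd (orderOf (s * u)) := by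
    intro s u c d hs1 hs2 hu1 hu2 hsc hud hcd
    rw [← Nat.not_even_iff_odd]
    intro he
    obtain ⟨w, -, hw, hws, hwu⟩ := Invol.exists_commuting_involution hs2 hu2 he
    have hw1 := Invol.ne_one_of_orderOf_two hw
    have hw2 := Invol.mul_self_of_orderOf_two hw
    have h1 : w • c = c := RankOne.invol_fix_unique hS hs1 hs2 (by rw [← mul_smul, ← hws.eq, mul_smul, hsc]) hsc
    have h2 : w • d = d := RankOne.invol_fix_unique hS hu1 hu2 (by rw [← mul_smul, ← hwu.eq, mul_smul, hud]) hud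
    exact hcd (RankOne.invol_fix_unique hS hw1 hw2 h1 h2)
  refine ⟨fun s u hs hs1 hs2 hu hu1 hu2 => ?_, fun u v hu1 hu2 hv1 hv2 => ?_⟩
  · obtain ⟨d, hd⟩ := RankOne.invol_exists_fix hS hu2
    refine key s u a d hs1 hs2 hu1 hu2 hs hd ?_
    rintro rfl
    exact hu hd
  · obtain ⟨c, hc⟩ := RankOne.invol_exists_fix hS hu2
    obtain ⟨d, hd⟩ := RankOne.invol_exists_fix hS hv2
    by_cases hcd : c = d
    · subst hcd
      obtain ⟨g, rfl⟩ := RankOne.exists_point hS c
      obtain ⟨w, hw1, hw2, e, he, hne⟩ : ∃ w : G, w ≠ 1 ∧ w * w = 1 ∧ ∃ e : Ω, w • e = e ∧ g • a ≠ e := by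
        obtain ⟨s, hs, hs1, hs2⟩ := RankOne.exists_invol_Q hS
        refine ⟨(g * t) * s * (g * t)⁻¹, ?_, ?_, (g * t) • a, ?_, ?_⟩
        · intro e
          exact hs1 (by
            calc s = (g * t)⁻¹ * ((g * t) * s * (g * t)⁻¹) * (g * t) := by group
              _ = 1 := by rw [e]; group)
        · calc (g * t) * s * (g * t)⁻¹ * ((g * t) * s * (g * t)⁻¹) = (g * t) * (s * s) * (g * t)⁻¹ := by group
            _ = 1 := by rw [hs2]; group
        · rw [← mul_smul, inv_mul_cancel_right, mul_smul, RankOne.Q_fix hS hs]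
        · rw [mul_smul]
          exact fun h => RankOne.tb_ne hS (MulAction.injective g h).symm
      obtain ⟨x, hx⟩ := isConj_iff.mp ((Invol.isConj_of_odd hu2 hw2
        (key u w _ e hu1 hu2 hw1 hw2 hc he hne)).trans
        (Invol.isConj_of_odd hv2 hw2 (key v w _ e hv1 hv2 hw1 hw2 hd he hne)).symm)
      exact ⟨x, hx⟩
    · exact isConj_iff.mp (Invol.isConj_of_odd hu2 hv2 (key u v c d hu1 hu2 hv1 hv2 hc hd hcd))

end Cfsg.Agent.S1121
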