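import Cfsg.Statements.S1124
import Cfsg.Agent.Lib.RankOne.Basic

set_option autoImplicit false
open scoped Pointwise
open Cfsg

namespace Cfsg.Agent.S1124

/-- Let `t` be an element of order 2 of a finite group normalising a subgroup `X` of odd order, `Y = C_X(t)` and `Z` the set of elements of `X` inverted by `t`. Then `(y, z) ↦ y z` is a bijection `Y × Z → X`, so `|X| = |Y| |Z|`, and the subgroup generated by `Z` is normal in `X`. -/
theorem result {M : Type*} [Group M] [Finite M]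
    (t : M) (ht : orderOf t = 2) (X : Subgroup M) (hodd : Odd (Nat.card X))
    (hnorm : ∀ x ∈ X, t * x * t⁻¹ ∈ X) :
    (∀ x ∈ X, ∃! p : M × M, p.1 ∈ X ⊓ Subgroup.centralizer {t} ∧ p.2 ∈ Cfsg.invertedBy X t ∧ x = p.1 * p.2) ∧
      Nat.card X = Nat.card ↥(X ⊓ Subgroup.centralizer {t}) * Nat.card (Cfsg.invertedBy X t) ∧
      ∀ x ∈ X, MulAut.conj x • Subgroup.closure (Cfsg.invertedBy X t) = Subgroup.closure (Cfsg.invertedBy X t) := by
  classical
  have ht2 : t * t = 1 := Invol.mul_self_of_orderOf_two ht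
  have hodd' : ∀ x ∈ X, Odd (orderOf x) := fun x hx =>
    Odd.of_dvd_nat hodd (Subgroup.orderOf_dvd_natCard _ hx)
  have huni : ∀ x ∈ X, ∃! p : M × M, p.1 ∈ X ⊓ Subgroup.centralizer {t} ∧ p.2 ∈ Cfsg.invertedBy X t ∧
      x = p.1 * p.2 := by
    intro x hx
    obtain ⟨m, hm⟩ : ∃ m, m = (t * x * t⁻¹)⁻¹ * x := ⟨_, rfl⟩
    have hmX : m ∈ X := hm ▸ mul_mem (inv_mem (hnorm x hx)) hx
    obtain ⟨z, hz, hzz, hzo⟩ := Invol.exists_sqrt (hodd' m hmX)
    have hzX : z ∈ X := Subgroup.zpowers_le.mpr hmX hz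
    have hminv : t * m * t⁻¹ = m⁻¹ := by
      rw [hm]
      calc t * ((t * x * t⁻¹)⁻¹ * x) * t⁻¹ = (t * t) * x⁻¹ * (t * t)⁻¹ * (t * x * t⁻¹) := by group
        _ = _ := by rw [ht2]; group
    have hzinv := Invol.inverts_of_mem_zpowers hminv hz
    have hy : t * (x * z⁻¹) * t⁻¹ = x * z⁻¹ := by
      calc t * (x * z⁻¹) * t⁻¹ = t * x * t⁻¹ * (t * z * t⁻¹)⁻¹ := by group
        _ = t * x * t⁻¹ * ((t * x * t⁻¹)⁻¹ * x) * z⁻¹ := by
          rw [hzinv, inv_inv, ← hm, ← hzz]; group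
        _ = _ := by group
    refine ⟨(x * z⁻¹, z), ⟨⟨mul_mem hx (X.inv_mem hzX), ?_⟩, ⟨hzX, hzinv⟩, by group⟩, ?_⟩
    · exact Subgroup.mem_centralizer_singleton_iff.mpr (mul_inv_eq_iff_eq_mul.mp hy).symm
    · rintro ⟨y, w⟩ ⟨⟨hyX, hyc⟩, ⟨hwX, hwi⟩, e⟩
      have hyt : t * y * t⁻¹ = y :=
        mul_inv_eq_iff_eq_mul.mpr (Subgroup.mem_centralizer_singleton_iff.mp hyc).symm
      have hww : w * w = m := by
        rw [hm, e, show t * (y * w) * t⁻¹ = (t * y * t⁻¹) * (t * w * t⁻¹) by group, hyt, hwi]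
        group
      have hwz : w = z := Invol.eq_of_mul_self_eq (hodd' w hwX) hzo (hww.trans hzz.symm)
      subst hwz
      exact Prod.ext (by rw [e]; group) rfl
  refine ⟨huni, ?_, ?_⟩
  · rw [← Nat.card_prod]
    refine (Nat.card_congr (Equiv.ofBijective (fun p : ↥(X ⊓ Subgroup.centralizer {t}) × Cfsg.invertedBy X t =>
      (⟨(p.1 : M) * p.2, mul_mem (Subgroup.mem_inf.mp p.1.2).1 p.2.2.1⟩ : X)) ⟨?_, ?_⟩)).symm
    · intro p q e
      have h := (huni ((p.1 : M) * p.2) (mul_mem (Subgroup.mem_inf.mp p.1.2).1 p.2.2.1)).unique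
        (y₁ := ((p.1 : M), (p.2 : M))) (y₂ := ((q.1 : M), (q.2 : M))) ⟨p.1.2, p.2.2, rfl⟩
        ⟨q.1.2, q.2.2, congrArg Subtype.val e⟩
      exact Prod.ext (Subtype.ext (Prod.ext_iff.mp h).1) (Subtype.ext (Prod.ext_iff.mp h).2)
    · rintro ⟨x, hx⟩
      obtain ⟨p, ⟨h1, h2, h3⟩, -⟩ := huni x hx
      exact ⟨(⟨p.1, h1⟩, ⟨p.2, h2⟩), Subtype.ext h3.symm⟩
  · intro x hx
    obtain ⟨⟨y, z⟩, ⟨⟨hyX, hyc⟩, hz, rfl⟩, -⟩ := huni x hx
    have hyN : ∀ y ∈ X ⊓ Subgroup.centralizer {t}, ∀ w ∈ Cfsg.invertedBy X t,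
        y * w * y⁻¹ ∈ Cfsg.invertedBy X t := by
      rintro y ⟨hyX, hyc⟩ w ⟨hwX, hwi⟩
      refine ⟨mul_mem (mul_mem hyX hwX) (inv_mem hyX), ?_⟩
      have hyt : t * y * t⁻¹ = y :=
        mul_inv_eq_iff_eq_mul.mpr (Subgroup.mem_centralizer_singleton_iff.mp hyc).symm
      calc t * (y * w * y⁻¹) * t⁻¹ = (t * y * t⁻¹) * (t * w * t⁻¹) * (t * y * t⁻¹)⁻¹ := by group
        _ = _ := by rw [hyt, hwi]; group
    have hle : ∀ g ∈ X ⊓ Subgroup.centralizer {t}, ∀ w ∈ Subgroup.closure (Cfsg.invertedBy X t),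
        g * w * g⁻¹ ∈ Subgroup.closure (Cfsg.invertedBy X t) := by
      intro g hg w hw
      induction hw using Subgroup.closure_induction with
      | mem w hw => exact Subgroup.subset_closure (hyN g hg w hw)
      | one => simp
      | mul u v _ _ h1 h2 => simpa [mul_assoc] using mul_mem h1 h2
      | inv u _ h1 => simpa [mul_assoc] using inv_mem h1
    ext w
    rw [Subgroup.mem_pointwise_smul_iff_inv_smul_mem]
    simp only [← map_inv, MulAut.smul_def, MulAut.conj_apply]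
    have hzc : z ∈ Subgroup.closure (Cfsg.invertedBy X t) := Subgroup.subset_closure hz
    constructor
    · intro h
      have h2 := hle y ⟨hyX, hyc⟩ _ (mul_mem (mul_mem hzc h) (inv_mem hzc))
      simpa [mul_assoc] using h2
    · intro h
      have h2 := hle y⁻¹ (inv_mem (⟨hyX, hyc⟩ : y ∈ X ⊓ Subgroup.centralizer {t})) w h
      have h3 := mul_mem (mul_mem (inv_mem hzc) h2) hzc
      simpa [mul_assoc] using h3

end Cfsg.Agent.S1124
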