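import Cfsg.Statements.S1125
import Cfsg.Agent.Lib.RankOne.Basic
import Cfsg.Agent.Lib.Basics.CoprimeGen
import Cfsg.Agent.Lib.Basics.Cores

set_option autoImplicit false
open Cfsg

namespace Cfsg.Agent.S1125

/-- In the rank-one set-up (`G` finite and doubly transitive on `Ω`, `t` an involution moving `a`, `Q` normal in `G_a` with `G_a = Q D`, `Q ⊓ D = 1` for the two-point stabiliser `D = G_a ⊓ G_{t • a}`, `|Q|` even, `|D|` odd), let `X ⊆ D` fix at least three points of `Ω`. Then `C_G(X)` is doubly transitive on the fixed-point set of `X`, `|C_Q(X)|` is even, and `C_{G_a}(X) = C_Q(X) C_D(X)`. -/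
theorem result {G Ω : Type*} [Group G] [Finite G] [MulAction G Ω] {a : Ω} {t : G} {Q : Subgroup G}
    (hS : Cfsg.IsRankOneSetup G Ω a t Q)
    (X : Set G) (hX : X ⊆ ((MulAction.stabilizer G a ⊓ MulAction.stabilizer G (t • a)) : Set G))
    (h3 : ∃ b c d : Ω, b ≠ c ∧ b ≠ d ∧ c ≠ d ∧ ∀ x ∈ X, x • b = b ∧ x • c = c ∧ x • d = d) :
    (∀ b₁ b₂ c₁ c₂ : Ω, (∀ x ∈ X, x • b₁ = b₁ ∧ x • b₂ = b₂ ∧ x • c₁ = c₁ ∧ x • c₂ = c₂) →
        b₁ ≠ b₂ → c₁ ≠ c₂ → ∃ g ∈ Subgroup.centralizer X, g • b₁ = c₁ ∧ g • b₂ = c₂) ∧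
      Even (Nat.card ↥(Subgroup.centralizer X ⊓ Q)) ∧
      (Subgroup.centralizer X ⊓ Q) ⊔ (Subgroup.centralizer X ⊓ (MulAction.stabilizer G a ⊓ MulAction.stabilizer G (t • a))) = Subgroup.centralizer X ⊓ MulAction.stabilizer G a := by
  classical
  obtain ⟨c, hca, hcb, hcX⟩ : ∃ c : Ω, c ≠ a ∧ c ≠ t • a ∧ ∀ e ∈ X, e • c = c := by
    obtain ⟨b, c, d, hbc, hbd, hcd, hf⟩ := h3
    by_cases h1 : b ≠ a ∧ b ≠ t • a
    · exact ⟨b, h1.1, h1.2, fun e he => (hf e he).1⟩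
    by_cases h2 : c ≠ a ∧ c ≠ t • a
    · exact ⟨c, h2.1, h2.2, fun e he => (hf e he).2.1⟩
    refine ⟨d, ?_, ?_, fun e he => (hf e he).2.2⟩
    · rintro rfl
      simp only [not_and_or, not_not] at h1 h2
      exact hbc ((h1.resolve_left hbd).trans (h2.resolve_left hcd).symm)
    · rintro rfl
      simp only [not_and_or, not_not] at h1 h2
      exact hbc ((h1.resolve_right hbd).trans (h2.resolve_right hcd).symm)
  obtain ⟨w, hw, hwX⟩ := RankOne.exists_swap_commuting hS hX hca hcb hcX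
  have hC : ∀ (g : G), g ∈ Subgroup.centralizer X ↔ ∀ e ∈ X, e * g = g * e := fun g =>
    Subgroup.mem_centralizer_iff
  have hCfix : ∀ g ∈ Subgroup.centralizer X, ∀ p : Ω, (∀ e ∈ X, e • p = p) → ∀ e ∈ X, e • g • p = g • p := by
    intro g hg p hp e he
    rw [← mul_smul, (hC g).mp hg e he, mul_smul, hp e he]
  have hbX : ∀ e ∈ X, e • (t • a) = t • a := fun e he => MulAction.mem_stabilizer_iff.mp (hX he).2
  have hQC : ∀ p : Ω, p ≠ a → (∀ e ∈ X, e • p = p) → ∃ x ∈ Subgroup.centralizer X ⊓ Q, x • (t • a) = p := by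
    intro p hp hpX
    obtain ⟨x, hx, hxp⟩ := RankOne.exists_Q hS hp
    refine ⟨x, Subgroup.mem_inf.mpr ⟨(hC x).mpr fun e he => ?_, hx⟩, hxp⟩
    have hq : e * x * e⁻¹ ∈ Q := hS.conj_mem e (hX he).1 x hx
    have h := RankOne.Q_unique hS hq hx (RankOne.tb_ne hS) (by
      rw [mul_smul, mul_smul, inv_smul_eq_iff.mpr (hbX e he).symm, hxp, hpX e he])
    rwa [mul_inv_eq_iff_eq_mul] at h
  have hwC : w ∈ Subgroup.centralizer X := (hC w).mpr hwX
  have hpair : ∀ b₁ b₂ : Ω, (∀ e ∈ X, e • b₁ = b₁ ∧ e • b₂ = b₂) → b₁ ≠ b₂ →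
      ∃ g ∈ Subgroup.centralizer X, g • a = b₁ ∧ g • (t • a) = b₂ := by
    intro b₁ b₂ hf hne
    obtain ⟨g, hg, hga⟩ : ∃ g ∈ Subgroup.centralizer X, g • a = b₁ := by
      by_cases h : b₁ = a
      · exact ⟨1, one_mem _, by rw [one_smul, h]⟩
      · obtain ⟨x, hx, hxp⟩ := hQC b₁ h fun e he => (hf e he).1
        exact ⟨x * w, mul_mem (Subgroup.mem_inf.mp hx).1 hwC, by rw [mul_smul, hw.2.2, hxp]⟩
    have hne2 : g⁻¹ • b₂ ≠ a := by
      rw [Ne, inv_smul_eq_iff, hga]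
      exact hne.symm
    obtain ⟨x, hx, hxp⟩ := hQC _ hne2 (hCfix g⁻¹ (inv_mem hg) b₂ fun e he => (hf e he).2)
    refine ⟨g * x, mul_mem hg (Subgroup.mem_inf.mp hx).1, ?_, ?_⟩
    · rw [mul_smul, RankOne.Q_fix hS (Subgroup.mem_inf.mp hx).2, hga]
    · rw [mul_smul, hxp, smul_inv_smul]
  refine ⟨?_, ?_, le_antisymm (sup_le (inf_le_inf_left _ hS.le) (inf_le_inf_left _ inf_le_left)) ?_⟩
  · intro b₁ b₂ c₁ c₂ hf hb hc
    obtain ⟨g, hg, hg1, hg2⟩ := hpair b₁ b₂ (fun e he => ⟨(hf e he).1, (hf e he).2.1⟩) hb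
    obtain ⟨h, hh, hh1, hh2⟩ := hpair c₁ c₂ (fun e he => ⟨(hf e he).2.2.1, (hf e he).2.2.2⟩) hc
    refine ⟨h * g⁻¹, mul_mem hh (inv_mem hg), ?_, ?_⟩
    · rw [mul_smul, ← hg1, inv_smul_smul, hh1]
    · rw [mul_smul, ← hg2, inv_smul_smul, hh2]
  · obtain ⟨k, hk, hwk⟩ := (RankOne.swap_iff hS).mp hw
    have hw' : RankOne.IsSwap a t (t * k⁻¹) := (RankOne.swap_iff hS).mpr ⟨_, RankOne.inverted_inv hS hk, rfl⟩
    obtain ⟨s, hs⟩ := RankOne.exists_corr' hS hw'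
    have hsX : s ∈ Subgroup.centralizer X := by
      refine (hC s).mpr fun e he => (RankOne.corr_commute hS hs (hX he)).mpr ?_
      have ek : t * k⁻¹ = t * w * t := by
        rw [hwk, RankOne.t_mul_self_mul hS, ← hk.2, RankOne.t_inv hS]
        simp [mul_assoc, RankOne.t_mul_self_mul hS]
      rw [ek]
      calc t * e * t * (t * w * t) = t * (e * w) * t := by
            simp [mul_assoc, RankOne.t_mul_self_mul hS]
        _ = t * (w * e) * t := by rw [hwX e he]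
        _ = _ := by simp [mul_assoc, RankOne.t_mul_self_mul hS]
    have hsQ : s ∈ Subgroup.centralizer X ⊓ Q :=
      Subgroup.mem_inf.mpr ⟨hsX, RankOne.inv_mem_Q hS hs.1.1 hs.1.2.2⟩
    rw [even_iff_two_dvd, ← Invol.orderOf_two_of_mul_self hs.1.2.2 hs.1.2.1]
    exact Subgroup.orderOf_dvd_natCard _ hsQ
  · intro g hg
    obtain ⟨hgC, hgB⟩ := Subgroup.mem_inf.mp hg
    have hp : g • (t • a) ≠ a := fun e => RankOne.tb_ne hS (MulAction.injective g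
      (e.trans (MulAction.mem_stabilizer_iff.mp hgB).symm))
    obtain ⟨x, hx, hxp⟩ := hQC _ hp (hCfix g hgC _ hbX)
    obtain ⟨hxC, hxQ⟩ := Subgroup.mem_inf.mp hx
    have e : g = x * (x⁻¹ * g) := by group
    rw [e]
    refine mul_mem (Subgroup.mem_sup_left hx) (Subgroup.mem_sup_right (Subgroup.mem_inf.mpr
      ⟨mul_mem (inv_mem hxC) hgC, Subgroup.mem_inf.mpr ⟨mul_mem (inv_mem (hS.le hxQ)) hgB, ?_⟩⟩))
    show (x⁻¹ * g) • (t • a) = t • a
    rw [mul_smul, ← hxp, inv_smul_smul]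

end Cfsg.Agent.S1125
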