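import Cfsg.Statements.S1127
import Cfsg.Agent.Lib.RankOne.Basic

set_option autoImplicit false
open Cfsg

namespace Cfsg.Agent.S1127

/-- In the rank-one set-up (`G` finite and doubly transitive on `Ω`, `t` an involution moving `a`, `Q` normal in `G_a` with `G_a = Q D`, `Q ⊓ D = 1` for the two-point stabiliser `D = G_a ⊓ G_{t • a}`, `|Q|` even, `|D|` odd): if `s` is an involution of `G_a` and `r ∈ Q` satisfy `t s t = r⁻¹ t r`, then `C_D(t) = C_D(s)`; moreover `C_D(t) ⊓ C_D(K) = C_D(I ∩ G_a)`, where `K` is the set of elements of `D` inverted by `t` and `I ∩ G_a` the set of involutions of `G_a`. -/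
theorem result {G Ω : Type*} [Group G] [Finite G] [MulAction G Ω] {a : Ω} {t : G} {Q : Subgroup G}
    (hS : Cfsg.IsRankOneSetup G Ω a t Q) :
    (∀ s r : G, s ∈ Cfsg.involutionsIn (MulAction.stabilizer G a : Set G) → r ∈ Q → t * s * t = r⁻¹ * t * r →
        (MulAction.stabilizer G a ⊓ MulAction.stabilizer G (t • a)) ⊓ Subgroup.centralizer {t} = (MulAction.stabilizer G a ⊓ MulAction.stabilizer G (t • a)) ⊓ Subgroup.centralizer {s}) ∧
      (MulAction.stabilizer G a ⊓ MulAction.stabilizer G (t • a)) ⊓ Subgroup.centralizer {t} ⊓ Subgroup.centralizer (Cfsg.invertedBy (MulAction.stabilizer G a ⊓ MulAction.stabilizer G (t • a)) t) =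
        (MulAction.stabilizer G a ⊓ MulAction.stabilizer G (t • a)) ⊓ Subgroup.centralizer (Cfsg.involutionsIn (MulAction.stabilizer G a : Set G)) := by
  obtain ⟨s₀, h₀⟩ := RankOne.exists_corr' hS (RankOne.t_isSwap hS)
  refine ⟨fun s r hs hr e => ?_, ?_⟩
  · have hcorr : RankOne.Corr a t Q s t := ⟨hs, RankOne.t_isSwap hS, r, hr, e⟩
    ext d
    simp only [Subgroup.mem_inf, Subgroup.mem_centralizer_singleton_iff]
    exact ⟨fun h => ⟨h.1, (RankOne.base_commute hS hcorr h.1).mpr h.2⟩,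
      fun h => ⟨h.1, (RankOne.base_commute hS hcorr h.1).mp h.2⟩⟩
  · ext d
    simp only [Subgroup.mem_inf, Subgroup.mem_centralizer_singleton_iff]
    simp only [Subgroup.mem_centralizer_iff]
    constructor
    · rintro ⟨⟨hd, hdt⟩, hdK⟩
      refine ⟨hd, fun s hs => ?_⟩
      obtain ⟨l, hl, rfl⟩ := RankOne.corr_eq_conj hS h₀ hs
      have h1 : d * s₀ = s₀ * d := (RankOne.base_commute hS h₀ (Subgroup.mem_inf.mpr hd)).mpr hdt
      have h2 : Commute d l := (hdK l hl).symm
      exact ((h2.mul_right h1).mul_right h2.inv_right).eq.symm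
    · rintro ⟨hd, hdI⟩
      have hdt : d * t = t * d :=
        (RankOne.base_commute hS h₀ (Subgroup.mem_inf.mpr hd)).mp (hdI s₀ h₀.1).symm
      refine ⟨⟨hd, hdt⟩, fun k hk => ?_⟩
      obtain ⟨s, hs⟩ := RankOne.exists_corr' hS ((RankOne.swap_iff hS).mpr ⟨k, hk, rfl⟩)
      have h1 := (RankOne.corr_commute hS hs (Subgroup.mem_inf.mpr hd)).mp (hdI s hs.1).symm
      have hd' : t * d * t = d := by rw [mul_assoc, hdt, RankOne.t_mul_self_mul hS]
      rw [hd', ← mul_assoc, hdt, mul_assoc, mul_assoc] at h1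
      exact (mul_left_cancel h1).symm

end Cfsg.Agent.S1127
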