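import Cfsg.Statements.S1134
import Cfsg.Agent.Lib.RankOne.Inverted
import Cfsg.Agent.S1124
import Cfsg.Agent.S1125

set_option autoImplicit false
open Cfsg

namespace Cfsg.Agent.S1134

/-- In the rank-one set-up (`G` finite and doubly transitive on `Ω`, `t` an involution moving `a`, `Q` normal in `G_a` with `G_a = Q D`, `Q ⊓ D = 1` for the two-point stabiliser `D = G_a ⊓ G_{t • a}`, `|Q|` even, `|D|` odd), with the action faithful and `G` containing two distinct commuting involutions, with `V = C_D(t)`: subsets of `V` conjugate in `G` are conjugate in `V`. -/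
theorem result {G Ω : Type*} [Group G] [Finite G] [MulAction G Ω] [FaithfulSMul G Ω] {a : Ω} {t : G} {Q : Subgroup G}
    (hS : Cfsg.IsRankOneSetup G Ω a t Q)
    (h2 : ∃ x y : G, x ≠ 1 ∧ y ≠ 1 ∧ x ≠ y ∧ x * x = 1 ∧ y * y = 1 ∧ x * y = y * x)
    (X : Set G) (hX : X ⊆ (((MulAction.stabilizer G a ⊓ MulAction.stabilizer G (t • a)) ⊓ Subgroup.centralizer {t} : Subgroup G) : Set G)) (g : G)
    (hY : (fun x => g * x * g⁻¹) '' X ⊆ (((MulAction.stabilizer G a ⊓ MulAction.stabilizer G (t • a)) ⊓ Subgroup.centralizer {t} : Subgroup G) : Set G)) :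
    ∃ v ∈ (MulAction.stabilizer G a ⊓ MulAction.stabilizer G (t • a)) ⊓ Subgroup.centralizer {t}, (fun x => v * x * v⁻¹) '' X = (fun x => g * x * g⁻¹) '' X := by
  obtain ⟨D, hD⟩ : ∃ D, D = MulAction.stabilizer G a ⊓ MulAction.stabilizer G (t • a) := ⟨_, rfl⟩
  rw [← hD] at hX hY ⊢
  have hmem : ∀ z : G, z ∈ D ⊓ Subgroup.centralizer {t} ↔ z ∈ D ∧ t * z = z * t := fun z => by
    rw [Subgroup.mem_inf, Subgroup.mem_centralizer_iff]
    simp
  obtain ⟨e, he⟩ := RankOne.invol_exists_fix hS hS.mul_self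
  have hea : e ≠ a := fun h => RankOne.tb_ne hS (by rw [← h]; exact he)
  have heb : e ≠ t • a := fun h => RankOne.tb_ne hS (by
    calc t • a = e := h.symm
      _ = t • e := he.symm
      _ = t • (t • a) := by rw [h]
      _ = a := RankOne.t_swap hS)
  obtain ⟨Y, hYd⟩ : ∃ Y, Y = (fun x => g * x * g⁻¹) '' X := ⟨_, rfl⟩
  rw [← hYd] at hY ⊢
  have hfixY : ∀ y ∈ Y, y • a = a ∧ y • (t • a) = t • a ∧ y • e = e := fun y hy => by
    obtain ⟨hyD, hyt⟩ := (hmem y).mp (hY hy)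
    rw [hD] at hyD
    exact ⟨hyD.1, hyD.2, RankOne.invol_fix_unique hS hS.ne_one hS.mul_self
      (by rw [← mul_smul, hyt, mul_smul, he]) he⟩
  have hYD : Y ⊆ ((MulAction.stabilizer G a ⊓ MulAction.stabilizer G (t • a)) : Set G) := fun y hy =>
    ⟨(hfixY y hy).1, (hfixY y hy).2.1⟩
  obtain ⟨htr, -⟩ := Cfsg.Agent.S1125.result hS Y hYD
    ⟨a, t • a, e, (RankOne.tb_ne hS).symm, hea.symm, heb.symm, hfixY⟩
  have hgfix : ∀ y ∈ Y, y • (g • a) = g • a ∧ y • (g • (t • a)) = g • (t • a) := fun y hy => by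
    rw [hYd] at hy
    obtain ⟨x, hx, rfl⟩ := hy
    have hxD := ((hmem x).mp (hX hx)).1
    rw [hD] at hxD
    constructor
    · simp only [mul_smul, inv_smul_smul, MulAction.mem_stabilizer_iff.mp hxD.1]
    · simp only [mul_smul, inv_smul_smul, MulAction.mem_stabilizer_iff.mp hxD.2]
  obtain ⟨c, hc, hca, hcb⟩ := htr (g • a) (g • (t • a)) a (t • a)
    (fun y hy => ⟨(hgfix y hy).1, (hgfix y hy).2, (hfixY y hy).1, (hfixY y hy).2.1⟩)
    (fun h => RankOne.tb_ne hS (MulAction.injective g h).symm) (RankOne.tb_ne hS).symm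
  have hdD : c * g ∈ D := by
    rw [hD]
    exact ⟨(mul_smul c g a).trans hca, (mul_smul c g (t • a)).trans hcb⟩
  obtain ⟨h1, -⟩ := Cfsg.Agent.S1124.result t (Invol.orderOf_two_of_mul_self hS.mul_self hS.ne_one) D
    (hD ▸ hS.odd_card) (fun x hx => by
      rw [RankOne.t_inv hS]
      exact hD ▸ RankOne.t_conj_D hS (hD ▸ hx))
  obtain ⟨⟨v, k⟩, ⟨hv, hk, hvk⟩, -⟩ := h1 (c * g) hdD
  refine ⟨v, hv, ?_⟩
  rw [hYd]
  refine Set.image_congr fun x hx => ?_
  have hyY : g * x * g⁻¹ ∈ Y := hYd ▸ Set.mem_image_of_mem _ hx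
  have hcg : c * g * x * (c * g)⁻¹ = g * x * g⁻¹ := by
    calc c * g * x * (c * g)⁻¹ = c * (g * x * g⁻¹) * c⁻¹ := by group
      _ = _ := by rw [← Subgroup.mem_centralizer_iff.mp hc _ hyY]; group
  obtain ⟨-, hxt⟩ := (hmem x).mp (hX hx)
  obtain ⟨hvD, hvt⟩ := (hmem v).mp hv
  obtain ⟨-, hyt⟩ := (hmem _).mp (hY hyY)
  obtain ⟨z, hz⟩ : ∃ z, z = k * x * k⁻¹ := ⟨_, rfl⟩
  have hzy : z = v⁻¹ * (g * x * g⁻¹) * v := by
    rw [hz, ← hcg, hvk]; group
  have hzt : t * z * t⁻¹ = z := by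
    rw [hzy]
    have hv' : t * v⁻¹ = v⁻¹ * t := ((Commute.inv_right (show Commute t v from hvt))).eq
    calc t * (v⁻¹ * (g * x * g⁻¹) * v) * t⁻¹
        = (t * v⁻¹) * (g * x * g⁻¹) * v * t⁻¹ := by group
      _ = v⁻¹ * (t * (g * x * g⁻¹)) * v * t⁻¹ := by rw [hv']; group
      _ = v⁻¹ * (g * x * g⁻¹) * (t * v) * t⁻¹ := by rw [hyt]; group
      _ = _ := by rw [hvt]; group
  have hzk : k⁻¹ * x * k = k * x * k⁻¹ := by
    calc k⁻¹ * x * k = k⁻¹ * (t * x * t⁻¹) * (k⁻¹)⁻¹ := by rw [hxt]; group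
      _ = t * k * t⁻¹ * (t * x * t⁻¹) * (t * k * t⁻¹)⁻¹ := by rw [hk.2]
      _ = t * (k * x * k⁻¹) * t⁻¹ := by group
      _ = k * x * k⁻¹ := by rw [← hz, hzt]
  have hkk : Commute (k * k) x := by
    show k * k * x = x * (k * k)
    calc k * k * x = k * (k * x * k⁻¹) * k := by group
      _ = k * (k⁻¹ * x * k) * k := by rw [hzk]
      _ = _ := by group
  have hkx : Commute k x := by
    obtain ⟨m, hm⟩ := RankOne.D_odd hS (show k ∈ _ from hD ▸ hk.1)
    have e5 : (k * k) ^ (m + 1) = k := by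
      rw [← sq, ← pow_mul, show 2 * (m + 1) = orderOf k + 1 by omega, pow_succ,
        pow_orderOf_eq_one, one_mul]
    rw [← e5]
    exact hkk.pow_left _
  show v * x * v⁻¹ = g * x * g⁻¹
  have : z = x := by rw [hz, hkx.eq, mul_inv_cancel_right]
  rw [this] at hzy
  calc v * x * v⁻¹ = v * (v⁻¹ * (g * x * g⁻¹) * v) * v⁻¹ := by rw [← hzy]
    _ = _ := by group

end Cfsg.Agent.S1134
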