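import Cfsg.Statements.S1141
import Cfsg.Agent.Lib.InvChar.SU3Suzuki

set_option autoImplicit false
open Cfsg
open Cfsg.Agent

namespace Cfsg.Agent.S1141

/-- Let `q = 2^n ≥ 4` and `|F| = q²`. A Sylow 2-subgroup `S` of `PSU₃(q)` has order `q³`, its centre has order `q`, and `S` is a Suzuki 2-group. -/
theorem result {F : Type*} [Field F] [Fintype F] {n : ℕ} (hn : 2 ≤ n)
    (hF : Fintype.card F = (2 ^ n) ^ 2) (S : Sylow 2 (Cfsg.PSU 3 F (2 ^ n))) :
    Nat.card S = (2 ^ n) ^ 3 ∧ Nat.card (Subgroup.center ↥(S : Subgroup (Cfsg.PSU 3 F (2 ^ n)))) = 2 ^ n ∧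
      Cfsg.IsSuzukiTwoGroup ↥(S : Subgroup (Cfsg.PSU 3 F (2 ^ n))) := by
  classical
  haveI : Fact (Nat.Prime 2) := ⟨Nat.prime_two⟩
  haveI : AutPSU.QField F (2 ^ n) := AutPSU.QField.of_card hF
  haveI : CharP F 2 := charP_of_card_eq_prime_pow (f := n * 2) (by rw [hF, ← pow_mul])
  set π := QuotientGroup.mk' (Subgroup.center (Cfsg.SU 3 F (2 ^ n))) with hπ
  have hπs : Function.Surjective π := QuotientGroup.mk'_surjective _
  obtain ⟨P⟩ : Nonempty (Sylow 2 (Cfsg.SU 3 F (2 ^ n))) := inferInstance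
  have hdisj : ∀ x ∈ (P : Subgroup (Cfsg.SU 3 F (2 ^ n))), π x = 1 → x = 1 := by
    intro x hx hx1
    rw [hπ, QuotientGroup.mk'_apply, QuotientGroup.eq_one_iff] at hx1
    obtain ⟨k, hk⟩ := P.2 ⟨x, hx⟩
    have hk' : x ^ 2 ^ k = 1 := congrArg Subtype.val hk
    have hc : orderOf x ∣ Nat.card (Subgroup.center (Cfsg.SU 3 F (2 ^ n))) :=
      Subgroup.orderOf_dvd_natCard _ hx1
    rw [UnitaryOrder.card_center_SU hF 3 (by norm_num)] at hc
    have hd := Nat.dvd_gcd (orderOf_dvd_of_pow_eq_one hk')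
      (hc.trans (Nat.gcd_dvd_left 3 _))
    rw [Nat.Coprime.gcd_eq_one (Nat.Coprime.pow_left k (by norm_num))] at hd
    exact orderOf_eq_one_iff.mp (Nat.dvd_one.mp hd)
  let g : ↥(P : Subgroup (Cfsg.SU 3 F (2 ^ n))) →* ↥((P : Subgroup (Cfsg.SU 3 F (2 ^ n))).map π) :=
    π.subgroupMap (P : Subgroup (Cfsg.SU 3 F (2 ^ n)))
  have hg : Function.Bijective g := ⟨(injective_iff_map_eq_one g).2 fun x hx =>
    Subtype.ext (hdisj x.1 x.2 (congrArg Subtype.val hx)), π.subgroupMap_surjective _⟩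
  let e' : ↥(S : Subgroup (Cfsg.PSU 3 F (2 ^ n))) ≃* ↥(P : Subgroup (Cfsg.SU 3 F (2 ^ n))) :=
    (Sylow.equiv S (P.mapSurjective hπs)).trans
      ((MulEquiv.subgroupCongr (Sylow.coe_mapSurjective hπs P)).trans (MulEquiv.ofBijective g hg).symm)
  obtain ⟨C⟩ := InvChar.hermCoords_of_equiv (F := F) (q := 2 ^ n) (m := n) rfl P inferInstance e'
  exact ⟨C.card_eq, (Cfsg.Agent.S1248.hermCoords_structure C).1, C.isSuzukiTwoGroup hn rfl⟩

end Cfsg.Agent.S1141
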