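import Cfsg.Statements.S1142
import Cfsg.Agent.Lib.BN.FeitHigman

set_option autoImplicit false
open Cfsg

namespace Cfsg.Agent.S1142

/-- Feit–Higman: if a finite group has a (B,N)-pair of rank 2, its Weyl group `N/(B ⊓ N)` has order 4, 6, 8, 12 or 16. -/
theorem result {G : Type*} [Group G] [Finite G] (P : Cfsg.BNPair G)
    (h2 : P.rank = 2) :
    ((P.B ⊓ P.N).subgroupOf P.N).index ∈ ({4, 6, 8, 12, 16} : Set ℕ) := by
  classical
  obtain ⟨a, b, hab, hS⟩ := Nat.card_eq_two_iff.mp (h2 : Nat.card P.S = 2)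
  have hp : BN.Rank2.Pair P a b := ⟨hab, fun z => by
    have : z ∈ ({a, b} : Set P.S) := hS ▸ Set.mem_univ z
    simpa using this⟩
  have hW : ((P.B ⊓ P.N).subgroupOf P.N).index = 2 * BN.Rank2.mm P a b := by
    rw [Subgroup.index]; exact BN.Rank2.card_W hp
  rw [hW]
  rcases BN.Rank2.mm_mem hp with h | h | h | h | h <;> rw [h] <;> simp

end Cfsg.Agent.S1142
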