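import Cfsg.Statements.S1147
import Cfsg.Agent.Lib.ZassSuz.Final
import Cfsg.Agent.S1139
import Cfsg.Agent.S0345

set_option autoImplicit false
open Cfsg

namespace Cfsg.Agent.S1147

/-- Let a finite simple Zassenhaus group `G` on `Ω` have a normal subgroup `U` of `G_a`, regular on `Ω` minus `a`, which is a non-abelian 2-group. Then `|Ω| = 2^(2n) + 1` with `n` odd, `n > 1`, a two-point stabiliser `G_a ⊓ G_b` is cyclic of order `2^n - 1`, and `U` is isomorphic to the type-A group over a field with `2^n` elements for some field automorphism `φ`. -/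
theorem result {G Ω : Type*} [Group G] [Finite G] [MulAction G Ω] [Finite Ω]
    (hZ : Cfsg.IsZassenhausGroup G Ω) [IsSimpleGroup G] {a b : Ω} (hab : a ≠ b)
    (U : Subgroup G) (hUle : U ≤ MulAction.stabilizer G a)
    (hUn : ∀ h ∈ MulAction.stabilizer G a, ∀ u ∈ U, h * u * h⁻¹ ∈ U)
    (hreg : ∀ c d : Ω, c ≠ a → d ≠ a → ∃! u : U, (u : G) • c = d)
    (hU2 : IsPGroup 2 U) (hUna : ∃ u ∈ U, ∃ v ∈ U, u * v ≠ v * u) :
    ∃ n : ℕ, Odd n ∧ 1 < n ∧ Nat.card Ω = 2 ^ (2 * n) + 1 ∧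
      IsCyclic ↥(MulAction.stabilizer G a ⊓ MulAction.stabilizer G b) ∧
      Nat.card ↥(MulAction.stabilizer G a ⊓ MulAction.stabilizer G b) = 2 ^ n - 1 ∧
      ∃ (F : Type) (_ : Field F) (_ : Fintype F) (φ : F ≃+* F), Fintype.card F = 2 ^ n ∧
        Nonempty (U ≃* Cfsg.suzukiTypeA F (φ : F →+* F)) := by
  classical
  haveI := Fintype.ofFinite G
  haveI := Fintype.ofFinite Ω
  have hF : Cfsg.Agent.PermGp.ZEven.ZKer a U := Cfsg.Agent.PermGp.ZEven.zker_of_regular hUle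
    ⟨fun u hu g => hUn g g.2 u hu⟩ hreg
  have hna : ∃ u v : U, u * v ≠ v * u := by
    obtain ⟨u, hu, v, hv, huv⟩ := hUna
    exact ⟨⟨u, hu⟩, ⟨v, hv⟩, fun e => huv (congrArg Subtype.val e)⟩
  obtain ⟨q, S⟩ := Cfsg.Agent.ZassSuz.exists_sdata hZ hab hF hU2 hna
  have hsq : Nat.card U = q ^ 2 := S.card_F.resolve_right fun h => Cfsg.Agent.ZassSuz.not_cube S h
  obtain ⟨m, hm, hG⟩ := Cfsg.Agent.ZassSuz.suzuki_order S hsq
  have hG' := Cfsg.Agent.ZassSuz.card_G S
  have hq4 := S.four_le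
  have hq : q = 2 ^ (2 * m + 1) := by
    have hQ : 2 ≤ 2 ^ (2 * m + 1) := by
      calc 2 = 2 ^ 1 := rfl
        _ ≤ _ := Nat.pow_le_pow_right (by norm_num) (by omega)
    generalize 2 ^ (2 * m + 1) = Q at hG hQ ⊢
    have mono : ∀ x y : ℕ, 2 ≤ x → x < y → x ^ 2 * (x ^ 2 + 1) * (x - 1) < y ^ 2 * (y ^ 2 + 1) * (y - 1) :=
      fun x y hx hxy => Nat.mul_lt_mul_of_le_of_lt
        (Nat.mul_le_mul (Nat.pow_le_pow_left hxy.le 2) (Nat.add_le_add_right (Nat.pow_le_pow_left hxy.le 2) 1))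
        (by omega) (Nat.mul_pos (Nat.pow_pos (by omega)) (by omega))
    rw [hG', hsq] at hG
    rcases lt_trichotomy q Q with h | h | h
    · have := mono q Q (by omega) h; rw [← hG] at this; nlinarith
    · exact h
    · have := mono Q q hQ h; rw [← hG] at this; nlinarith
  have hΩ : Nat.card Ω = Nat.card U + 1 := by
    rw [Nat.card_eq_fintype_card (α := Ω)]
    have := hF.card_add_one hab
    omega
  obtain ⟨K, iK, iKf, φ, hKc, -, -, he⟩ := Cfsg.Agent.S1139.result S.suz (by rw [S.center, hsq])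
  refine ⟨2 * m + 1, odd_two_mul_add_one m, by omega, by rw [hΩ, hsq, hq, ← pow_mul, Nat.mul_comm (2 * m + 1) 2],
    (Cfsg.Agent.S0345.result hZ hab).1, by have := S.stab; omega, K, iK, iKf, φ, by rw [hKc, S.center, hq], he⟩

end Cfsg.Agent.S1147
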