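import Cfsg.Statements.S1150
import Cfsg.Agent.Lib.Ree.Bridge
import Cfsg.Agent.Lib.Ree.Borel
import Cfsg.Agent.Lib.Ree.Rows

set_option autoImplicit false
open Cfsg

namespace Cfsg.Agent.S1150

/-- In the small Ree group ²G₂(q), q = 3^(2m+1), realised as G¹ inside the Chevalley group G₂ over the field with q elements (θ the 3^m-th power map), with H¹ = G¹ ∩ H and U¹ = G¹ ∩ U the intersections with the ambient diagonal and positive unipotent subgroups: `H¹` is cyclic. -/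
theorem result {K : Type*} [Field K] [Fintype K] {m : ℕ} (hK : Fintype.card K = 3 ^ (2 * m + 1)) :
    IsCyclic ↥(Cfsg.Lie.chevG2.diagonalSubgroup K ⊓ Cfsg.Lie.twistedG2 K (3 ^ m)) := by
  classical
  obtain ⟨D, hH, hU, -⟩ := Cfsg.Agent.Ree.exists_dat hK
  have e : (Cfsg.Lie.chevG2.diagonalSubgroup K ⊓ Cfsg.Lie.twistedG2 K (3 ^ m)).subgroupOf
      (Cfsg.Lie.twistedG2 K (3 ^ m)) = D.H.range := by
    ext g
    rw [Subgroup.mem_subgroupOf, Subgroup.mem_inf, hH, MonoidHom.mem_range]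
    exact ⟨fun ⟨⟨z, hz⟩, _⟩ => ⟨z, hz.symm⟩, fun ⟨z, hz⟩ => ⟨⟨z, hz.symm⟩, g.2⟩⟩
  have := D.isCyclic_H
  rw [← e] at this
  exact (MulEquiv.isCyclic (Subgroup.subgroupOfEquivOfLe inf_le_right)).1 this

end Cfsg.Agent.S1150
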