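import Cfsg.Statements.S1151
import Cfsg.Agent.Lib.Ree.Bridge
import Cfsg.Agent.Lib.Ree.Borel
import Cfsg.Agent.Lib.Ree.Rows

set_option autoImplicit false
open Cfsg

namespace Cfsg.Agent.S1151

/-- In the small Ree group ²G₂(q), q = 3^(2m+1), realised as G¹ inside the Chevalley group G₂ over the field with q elements (θ the 3^m-th power map), with H¹ = G¹ ∩ H and U¹ = G¹ ∩ U the intersections with the ambient diagonal and positive unipotent subgroups: `H¹` has exactly `(q - 1)/2` elements of odd order, and each non-identity one centralises no non-identity element of `U¹`. -/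
theorem result {K : Type*} [Field K] [Fintype K] {m : ℕ} (hK : Fintype.card K = 3 ^ (2 * m + 1)) :
    2 * Nat.card {h : ↥(Cfsg.Lie.chevG2.diagonalSubgroup K ⊓ Cfsg.Lie.twistedG2 K (3 ^ m)) // Odd (orderOf h)} = 3 ^ (2 * m + 1) - 1 ∧
      ∀ h ∈ (Cfsg.Lie.chevG2.diagonalSubgroup K ⊓ Cfsg.Lie.twistedG2 K (3 ^ m)), h ≠ 1 → Odd (orderOf h) →
        (Cfsg.Lie.chevG2.posUnipotent K ⊓ Cfsg.Lie.twistedG2 K (3 ^ m)) ⊓ Subgroup.centralizer {h} = ⊥ := by
  classical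
  obtain ⟨D, hH, hU, -⟩ := Cfsg.Agent.Ree.exists_dat hK
  refine ⟨?_, fun h hh hne hodd => ?_⟩
  · rw [← hK, ← D.card_odd_H]
    congr 1
    symm
    have hmem : ∀ z : Kˣ, ((D.H z : ↥(Cfsg.Lie.twistedG2 K (3 ^ m))) : GL Cfsg.Lie.chevG2.Idx K) ∈
        Cfsg.Lie.chevG2.diagonalSubgroup K ⊓ Cfsg.Lie.twistedG2 K (3 ^ m) :=
      fun z => ⟨(hH _).2 ⟨z, rfl⟩, (D.H z).2⟩
    refine Nat.card_eq_of_bijective (fun z => ⟨⟨_, hmem z.1⟩, ?_⟩) ⟨fun a b e => ?_, fun g => ?_⟩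
    · rw [Subgroup.orderOf_mk, Subgroup.orderOf_coe, orderOf_injective _ D.H_inj]
      exact z.2
    · exact Subtype.ext (D.H_inj (Subtype.ext (congrArg (fun x => x.1.1) e)))
    · obtain ⟨z, hz⟩ := (hH ⟨g.1.1, g.1.2.2⟩).1 g.1.2.1
      have h1 := g.2
      rw [← Subgroup.orderOf_coe] at h1
      refine ⟨⟨z, ?_⟩, Subtype.ext (Subtype.ext (congrArg Subtype.val hz).symm)⟩
      rwa [← orderOf_injective _ D.H_inj, ← hz, Subgroup.orderOf_mk]
  · rw [eq_bot_iff]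
    rintro g ⟨⟨hg, hgG⟩, hc⟩
    obtain ⟨z, hz⟩ := (hH ⟨h, hh.2⟩).1 hh.1
    have hc' := Subgroup.mem_centralizer_iff.1 hc h rfl
    have hze : (h : GL Cfsg.Lie.chevG2.Idx K) = (D.H z : ↥(Cfsg.Lie.twistedG2 K (3 ^ m))) :=
      congrArg Subtype.val hz
    have key := D.inter_centralizer (z := z) (fun e => hne (by rw [hze, e, map_one]; rfl))
      (by rw [← orderOf_injective _ D.H_inj, ← Subgroup.orderOf_coe, ← hze]; exact hodd)
      ((hU ⟨g, hgG⟩).1 hg) (Subtype.ext (by rw [hze] at hc'; exact hc'))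
    exact congrArg Subtype.val key

end Cfsg.Agent.S1151
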