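import Cfsg.Statements.S1155
import Cfsg.Agent.Lib.Ree.Bridge
import Cfsg.Agent.Lib.Ree.Borel
import Cfsg.Agent.Lib.Ree.Rows

set_option autoImplicit false
open Cfsg

namespace Cfsg.Agent.S1155

/-- In the small Ree group ²G₂(q), q = 3^(2m+1) with m ≥ 1, realised as G¹ inside the Chevalley group G₂ over the field with q elements (θ the 3^m-th power map): distinct Sylow 3-subgroups of `G¹` meet trivially. -/
theorem result {K : Type*} [Field K] [Fintype K] {m : ℕ} (hm : 1 ≤ m) (hK : Fintype.card K = 3 ^ (2 * m + 1))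
    (P Q : Sylow 3 ↥(Cfsg.Lie.twistedG2 K (3 ^ m))) (hPQ : P ≠ Q) : (P : Subgroup ↥(Cfsg.Lie.twistedG2 K (3 ^ m))) ⊓ (Q : Subgroup ↥(Cfsg.Lie.twistedG2 K (3 ^ m))) = ⊥ := by
  classical
  obtain ⟨D, hH, hU, -⟩ := Cfsg.Agent.Ree.exists_dat hK
  haveI := D.finite
  haveI := Fact.mk Nat.prime_three
  obtain ⟨a, rfl⟩ := MulAction.exists_smul_eq (↥(Cfsg.Lie.twistedG2 K (3 ^ m))) D.sylow P
  obtain ⟨b, rfl⟩ := MulAction.exists_smul_eq (↥(Cfsg.Lie.twistedG2 K (3 ^ m))) D.sylow Q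
  rw [eq_bot_iff]
  rintro x ⟨hx, hx'⟩
  replace hx : x ∈ ((a • D.sylow : Sylow 3 _) : Subgroup _) := hx
  replace hx' : x ∈ ((b • D.sylow : Sylow 3 _) : Subgroup _) := hx'
  rw [Sylow.coe_subgroup_smul, Subgroup.mem_pointwise_smul_iff_inv_smul_mem] at hx hx'
  simp only [MulAut.smul_def, MulAut.conj_inv_apply] at hx hx'
  have hgB : a⁻¹ * b ∉ D.BG := by
    intro hB
    apply hPQ
    rw [eq_comm, ← inv_smul_eq_iff, ← mul_smul, Sylow.smul_eq_iff_mem_normalizer]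
    obtain ⟨t, u, v, z, e⟩ := D.mem_BG.1 hB
    rw [e]
    refine mul_mem (Subgroup.le_normalizer (D.U_mem t u v)) ?_
    change D.H z ∈ Subgroup.normalizer ((D.UG : Subgroup _) : Set ↥(Cfsg.Lie.twistedG2 K (3 ^ m)))
    rw [Subgroup.mem_normalizer_iff]
    intro n
    constructor
    · intro hn
      obtain ⟨t', u', v', rfl⟩ := D.mem_UG.1 hn
      exact D.mem_UG.2 ⟨_, _, _, D.H_U z t' u' v'⟩
    · intro hn
      obtain ⟨t', u', v', e'⟩ := D.mem_UG.1 hn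
      refine D.mem_UG.2 ⟨_, _, _, (?_ : n = _).trans (D.H_U z⁻¹ t' u' v')⟩
      rw [← e', map_inv]; group
  have h1 := D.UG_ti hgB (x := a⁻¹ * x * a) hx (by
    rw [show (a⁻¹ * b)⁻¹ * (a⁻¹ * x * a) * (a⁻¹ * b) = b⁻¹ * x * b by group]; exact hx')
  rw [Subgroup.mem_bot]
  calc x = a * (a⁻¹ * x * a) * a⁻¹ := by group
    _ = 1 := by rw [h1]; group

end Cfsg.Agent.S1155
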