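import Cfsg.Statements.S1158
import Cfsg.Agent.Lib.Ree.Toral

set_option autoImplicit false
open Cfsg

namespace Cfsg.Agent.S1158

/-- In the small Ree group ²G₂(q), q = 3^(2m+1) with m ≥ 1, realised as G¹ inside the Chevalley group G₂ over the field with q elements (θ the 3^m-th power map), with `r = 3^(m+1)` (so `r² = 3q`): for each `k ∈ {(q-1)/2, (q+1)/4, q - r + 1, q + r + 1}` there is a cyclic subgroup `A` of order `k` whose normaliser has order `2(q-1)`, `6(q+1)`, `6(q-r+1)`, `6(q+r+1)` respectively, and `N(A₀) = N(A)` for every non-trivial `A₀ ≤ A`. -/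
theorem result {K : Type*} [Field K] [Fintype K] {m : ℕ} (hm : 1 ≤ m) (hK : Fintype.card K = 3 ^ (2 * m + 1)) :
    ∀ kn ∈ ({((3 ^ (2 * m + 1) - 1) / 2, 2 * (3 ^ (2 * m + 1) - 1)), ((3 ^ (2 * m + 1) + 1) / 4, 6 * (3 ^ (2 * m + 1) + 1)),
        (3 ^ (2 * m + 1) - 3 ^ (m + 1) + 1, 6 * (3 ^ (2 * m + 1) - 3 ^ (m + 1) + 1)),
        (3 ^ (2 * m + 1) + 3 ^ (m + 1) + 1, 6 * (3 ^ (2 * m + 1) + 3 ^ (m + 1) + 1))} : Set (ℕ × ℕ)),
      ∃ A : Subgroup ↥(Cfsg.Lie.twistedG2 K (3 ^ m)), IsCyclic A ∧ Nat.card A = kn.1 ∧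
        Nat.card (Subgroup.normalizer (A : Set ↥(Cfsg.Lie.twistedG2 K (3 ^ m)))) = kn.2 ∧
        ∀ A₀ : Subgroup ↥(Cfsg.Lie.twistedG2 K (3 ^ m)), A₀ ≤ A → A₀ ≠ ⊥ →
          Subgroup.normalizer (A₀ : Set ↥(Cfsg.Lie.twistedG2 K (3 ^ m))) = Subgroup.normalizer (A : Set ↥(Cfsg.Lie.twistedG2 K (3 ^ m))) := by
  classical
  obtain ⟨D, R⟩ := Cfsg.Agent.Ree.exists_reg hm hK
  haveI := D.finite
  obtain ⟨A, B, hA, hB, cA, cB, nA, nB, -⟩ := D.exists_two_tori R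
  have hne : ∀ (T : Subgroup ↥(Cfsg.Lie.twistedG2 K (3 ^ m))) (k : ℕ), D.IsTorus T k → ∀ n,
      Nat.card (Subgroup.normalizer (T : Set ↥(Cfsg.Lie.twistedG2 K (3 ^ m)))) = n →
      ∃ A : Subgroup ↥(Cfsg.Lie.twistedG2 K (3 ^ m)), IsCyclic A ∧ Nat.card A = k ∧
        Nat.card (Subgroup.normalizer (A : Set ↥(Cfsg.Lie.twistedG2 K (3 ^ m)))) = n ∧
        ∀ A₀ : Subgroup ↥(Cfsg.Lie.twistedG2 K (3 ^ m)), A₀ ≤ A → A₀ ≠ ⊥ →
          Subgroup.normalizer (A₀ : Set ↥(Cfsg.Lie.twistedG2 K (3 ^ m))) =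
            Subgroup.normalizer (A : Set ↥(Cfsg.Lie.twistedG2 K (3 ^ m))) :=
    fun T k h n hn => ⟨T, h.cyclic, h.card, hn, h.norm⟩
  intro kn hkn
  simp only [Set.mem_insert_iff, Set.mem_singleton_iff] at hkn
  rcases hkn with rfl | rfl | rfl | rfl
  · exact hne _ _ (hK ▸ D.isTorus_oddTorus R) _ (hK ▸ (D.card_normalizer_oddTorus le_rfl (D.oddTorus_ne_bot hm)).1)
  · exact hne _ _ (hK ▸ D.isTorus_AP R) _ (hK ▸ (D.normalizer_AP' R).1)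
  · exact hne _ _ (by rw [← hK, ← cA]; exact hA.isTorus D R) _ (by rw [← hK, ← cA]; exact nA)
  · exact hne _ _ (by rw [← hK, ← cB]; exact hB.isTorus D R) _ (by rw [← hK, ← cB]; exact nB)

end Cfsg.Agent.S1158
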