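import Cfsg.Statements.S1159
import Cfsg.Agent.Lib.Ree.Toral

set_option autoImplicit false
open Cfsg

namespace Cfsg.Agent.S1159

/-- In the small Ree group ²G₂(q), q = 3^(2m+1) with m ≥ 1, realised as G¹ inside the Chevalley group G₂ over the field with q elements (θ the 3^m-th power map), with `r = 3^(m+1)`: a natural number is the order of an element of `G¹` iff it divides one of `6`, `9`, `q - 1`, `(q + 1)/2`, `q - r + 1`, `q + r + 1`. -/
theorem result {K : Type*} [Field K] [Fintype K] {m : ℕ} (hm : 1 ≤ m) (hK : Fintype.card K = 3 ^ (2 * m + 1)) (d : ℕ) :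
    (∃ g : ↥(Cfsg.Lie.twistedG2 K (3 ^ m)), orderOf g = d) ↔
      (d ∣ 6 ∨ d ∣ 9 ∨ d ∣ 3 ^ (2 * m + 1) - 1 ∨ d ∣ (3 ^ (2 * m + 1) + 1) / 2 ∨
        d ∣ 3 ^ (2 * m + 1) - 3 ^ (m + 1) + 1 ∨ d ∣ 3 ^ (2 * m + 1) + 3 ^ (m + 1) + 1) := by
  classical
  obtain ⟨D, R⟩ := Cfsg.Agent.Ree.exists_reg hm hK
  haveI := D.finite
  obtain ⟨A, B, hA, hB, cA, cB, nA, nB, hAB⟩ := D.exists_two_tori R
  rw [← hK, ← cA, ← cB]
  constructor
  · rintro ⟨g, rfl⟩
    by_cases hg : g = 1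
    · subst hg; simp
    rcases D.classify R hg with h | h | h | h | ⟨p, hp, hpd, hpg⟩
    · exact Or.inl (h ▸ ⟨3, rfl⟩)
    · obtain ⟨a, -, ha⟩ := D.three_dvd_cases h
      rcases ha with ha | ha | ha <;> rw [ha] <;> norm_num
    · exact Or.inr (Or.inr (Or.inl (D.orderOf_dvd_of_XH h).1))
    · obtain ⟨c, hc⟩ := (D.orderOf_dvd_of_X0 h).1
      refine Or.inr (Or.inr (Or.inr (Or.inl ⟨c, ?_⟩)))
      rw [hc, mul_assoc, Nat.mul_div_cancel_left _ two_pos]
    · rw [← hAB] at hpd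
      have key : ∀ C : Subgroup ↥(Cfsg.Lie.twistedG2 K (3 ^ m)), D.PhiTorus C → p ∣ Nat.card C →
          orderOf g ∣ Nat.card C := fun C hC hpC => by
        obtain ⟨a, x, ⟨hx, -⟩, rfl⟩ := hC.mem_conj D R hp hpC hpg
        rw [← MulAut.conj_apply, MulEquiv.orderOf_eq]
        exact Subgroup.orderOf_dvd_natCard _ hx
      rcases hp.dvd_mul.1 hpd with h | h
      · exact Or.inr (Or.inr (Or.inr (Or.inr (Or.inl (key A hA h)))))
      · exact Or.inr (Or.inr (Or.inr (Or.inr (Or.inr (key B hB h)))))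
  · have hcyc : ∀ (C : Subgroup ↥(Cfsg.Lie.twistedG2 K (3 ^ m))) [IsCyclic C],
        ∃ g : ↥(Cfsg.Lie.twistedG2 K (3 ^ m)), orderOf g = Nat.card C := fun C _ => by
      obtain ⟨c, hc⟩ := IsCyclic.exists_generator (α := C)
      exact ⟨c, by rw [Subgroup.orderOf_coe, orderOf_eq_card_of_forall_mem_zpowers hc]⟩
    rintro (h | h | h | h | h | h)
    · refine Cfsg.Agent.Ree.exists_orderOf_of_dvd (g := D.U 0 1 0 * D.jI) ?_ (by norm_num) h
      rw [D.orderOf_UjI, if_neg (by simp)]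
    · refine Cfsg.Agent.Ree.exists_orderOf_of_dvd (g := D.U 1 0 0) ?_ (by norm_num) h
      rw [D.orderOf_U, if_neg one_ne_zero]
    · haveI := D.isCyclic_H
      obtain ⟨g, hg⟩ := hcyc D.H.range
      rw [D.card_range_H] at hg
      exact Cfsg.Agent.Ree.exists_orderOf_of_dvd hg (Nat.sub_pos_of_lt Fintype.one_lt_card) h
    · haveI := D.isCyclic_TP
      obtain ⟨g, hg⟩ := hcyc D.TP
      rw [D.card_TP] at hg
      refine Cfsg.Agent.Ree.exists_orderOf_of_dvd hg (by have := D.kp_odd.pos; omega) ?_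
      have := D.four_kp
      rwa [show 2 * D.kp = (Fintype.card K + 1) / 2 by omega]
    · haveI := hA.cyclic
      obtain ⟨g, hg⟩ := hcyc A
      exact Cfsg.Agent.Ree.exists_orderOf_of_dvd hg Nat.card_pos h
    · haveI := hB.cyclic
      obtain ⟨g, hg⟩ := hcyc B
      exact Cfsg.Agent.Ree.exists_orderOf_of_dvd hg Nat.card_pos h

end Cfsg.Agent.S1159
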