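import Cfsg.Statements.S3380
import Cfsg.Agent.S0016
import Cfsg.Agent.S0519
import Cfsg.Agent.Lib.PGroup23.NormalSq
import Mathlib

set_option autoImplicit false
open Cfsg

namespace Cfsg.Agent.S3380

/-- Let a finite p-group G act faithfully and irreducibly on a non-trivial finite vector space V over the field with q elements (q prime), and suppose G is not cyclic, generalized quaternion, dihedral or semidihedral. Then G has a subgroup H of index p and V is the direct sum of p subspaces, each invariant under H, on none of which H acts faithfully, and which every element of G outside H permutes in a single p-cycle. -/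
theorem result
    (q : ℕ) [Fact q.Prime] {V : Type*} [AddCommGroup V] [Module (ZMod q) V] [Finite V] [Nontrivial V]
    {G : Type*} [Group G] [Finite G] (p : ℕ) [Fact p.Prime] (hG : IsPGroup p G)
    (ρ : G →* (V ≃ₗ[ZMod q] V)) (hρ : Function.Injective ρ)
    (hirr : ∀ W : Submodule (ZMod q) V, (∀ g : G, ∀ w ∈ W, ρ g w ∈ W) → W = ⊥ ∨ W = ⊤)
    (hnc : ¬ IsCyclic G) (hnq : ∀ n : ℕ, ¬ Nonempty (G ≃* QuaternionGroup n))
    (hnd : ∀ n : ℕ, ¬ Nonempty (G ≃* DihedralGroup n)) (hnsd : ¬ Cfsg.IsQuasiDihedral G) :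
    ∃ (H : Subgroup G) (W : Fin p → Submodule (ZMod q) V), H.index = p ∧
      iSup W = ⊤ ∧ iSupIndep W ∧
      (∀ h ∈ H, ∀ i, ∀ w ∈ W i, ρ h w ∈ W i) ∧
      (∀ i, ∃ h ∈ H, h ≠ 1 ∧ ∀ w ∈ W i, ρ h w = w) ∧
      ∀ g : G, g ∉ H → ∃ σ : Equiv.Perm (Fin p), orderOf σ = p ∧ ∀ i, (W i).map (ρ g : V →ₗ[ZMod q] V) = W (σ i) := by
  classical
  have hp := (Fact.out : p.Prime)
  have hq := (Fact.out : q.Prime)
  haveI : Nontrivial G := by
    by_contra hn
    rw [not_nontrivial_iff_subsingleton] at hn
    exact hnc inferInstance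
  have fixinv : ∀ (N : Subgroup G), N.Normal → ∀ W : Submodule (ZMod q) V,
      (∀ w, w ∈ W ↔ ∀ n ∈ N, ρ n w = w) → N ≠ ⊥ → W = ⊥ := by
    intro N hN W hW hne
    rcases hirr W (fun g w hw => (hW _).mpr fun n hn => by
      rw [← LinearEquiv.mul_apply (f := ρ n), ← map_mul, show n * g = g * (g⁻¹ * n * g) by group, map_mul,
        LinearEquiv.mul_apply, (hW w).mp hw _ (hN.conj_mem' n hn g)]) with h | h
    · exact h
    · exfalso
      refine hne ((Subgroup.eq_bot_iff_forall N).mpr fun n hn => hρ ?_)
      rw [map_one]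
      exact LinearEquiv.ext fun v => ((hW v).mp (h ▸ Submodule.mem_top)) n hn
  have mkFix : ∀ S : Set G, ∃ W : Submodule (ZMod q) V, ∀ w, w ∈ W ↔ ∀ n ∈ S, ρ n w = w := fun S =>
    ⟨⨅ n ∈ S, LinearMap.ker ((ρ n : V →ₗ[ZMod q] V) - LinearMap.id), fun w => by
      simp [Submodule.mem_iInf, sub_eq_zero]⟩
  have hqp : q ≠ p := by
    rintro rfl
    obtain ⟨W, hW⟩ := mkFix Set.univ
    letI : MulAction G V := MulAction.compHom V ρ
    have h1 := hG.card_modEq_card_fixedPoints V
    have hV : q ∣ Nat.card V := by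
      obtain ⟨v, hv⟩ := exists_ne (0 : V)
      have : addOrderOf v = q := addOrderOf_eq_prime (by rw [← Nat.cast_smul_eq_nsmul (ZMod q), ZMod.natCast_self, zero_smul]) hv
      rw [← this]; exact addOrderOf_dvd_natCard v
    have h2 : q ∣ Nat.card (MulAction.fixedPoints G V) := (Nat.ModEq.dvd_iff h1 (dvd_refl q)).mp hV
    have h3 : ∃ v : V, v ≠ 0 ∧ ∀ g : G, ρ g v = v := by
      by_contra hall
      push Not at hall
      have : MulAction.fixedPoints G V = {0} := by
        ext v
        refine ⟨fun hv => ?_, fun hv g => ?_⟩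
        · by_contra hv0
          obtain ⟨g, hg⟩ := hall v hv0
          exact hg (hv g)
        · rw [Set.mem_singleton_iff.mp hv]; exact map_zero (ρ g)
      rw [this, Nat.card_eq_fintype_card] at h2
      simp at h2
      exact hq.ne_one h2
    obtain ⟨v, hv0, hv⟩ := h3
    have := fixinv ⊤ inferInstance W (fun w => by simp [hW]) top_ne_bot
    exact hv0 ((Submodule.mem_bot (ZMod q)).mp (this ▸ (hW v).mpr fun n _ => hv n))
  -- a normal elementary abelian subgroup of order p²
  have hpq0 : (p : ZMod q) ≠ 0 := by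
    rw [Ne, ZMod.natCast_eq_zero_iff]
    exact fun h => hqp ((Nat.prime_dvd_prime_iff_eq hq hp).mp h)
  obtain ⟨A, hAn, hAc, hAe, hAcard⟩ : ∃ A : Subgroup G, A.Normal ∧ (∀ a ∈ A, ∀ b ∈ A, a * b = b * a) ∧
      (∀ a ∈ A, a ^ p = 1) ∧ Nat.card A = p ^ 2 := by
    by_cases h0 : ∀ A : Subgroup G, A.Normal → IsMulCommutative A → IsCyclic A
    · exfalso
      by_cases hm : ∃ B : Subgroup G, IsMulCommutative B ∧ ¬ IsCyclic B
      · obtain ⟨-, ⟨n, hn⟩ | ⟨n, -, hn⟩ | hn⟩ := Cfsg.Agent.S0519.result p hG h0 hm
        · exact hnq n hn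
        · exact hnd n hn
        · exact hnsd hn
      · push Not at hm
        have huniq : ∀ H K : Subgroup G, Nat.card H = p → Nat.card K = p → H = K := by
          intro H K hH hK
          obtain ⟨Z, hZc, hZ⟩ : ∃ Z : Subgroup G, Z ≤ Subgroup.center G ∧ Nat.card Z = p := by
            haveI := hG.center_nontrivial
            obtain ⟨z, hz⟩ := exists_prime_orderOf_dvd_card' p (by
              obtain ⟨k, hk⟩ := (hG.to_subgroup (Subgroup.center G)).exists_card_eq
              have : 1 < Nat.card (Subgroup.center G) := Finite.one_lt_card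
              rcases k with _ | k
              · rw [hk, pow_zero] at this; omega
              · exact hk ▸ dvd_pow_self p (Nat.succ_ne_zero k))
            exact ⟨Subgroup.zpowers (z : G), Subgroup.zpowers_le.mpr z.2, by rw [Nat.card_zpowers, Subgroup.orderOf_coe, hz]⟩
          have uniq : ∀ X : Subgroup G, Nat.card X = p → X = Z := by
            intro X hX
            haveI : IsCyclic X := isCyclic_of_prime_card hX
            set B := X ⊔ Z
            haveI hBc : IsMulCommutative B := by
              refine Subgroup.isMulCommutative_closure (k := (X : Set G) ∪ Z) ?_ |> fun h => by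
                rwa [Subgroup.closure_union, Subgroup.closure_eq, Subgroup.closure_eq] at h
              rintro a (ha | ha) b (hb | hb)
              · letI := IsCyclic.commGroup (α := X)
                exact congrArg Subtype.val (mul_comm (⟨a, ha⟩ : X) ⟨b, hb⟩)
              · exact Subgroup.mem_center_iff.mp (hZc hb) a
              · exact (Subgroup.mem_center_iff.mp (hZc ha) b).symm
              · exact Subgroup.mem_center_iff.mp (hZc hb) a
            haveI := hm B hBc
            have e1 : Nat.card (X.subgroupOf B) = p := by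
              rw [Nat.card_congr (Subgroup.subgroupOfEquivOfLe le_sup_left).toEquiv, hX]
            have e2 : Nat.card (Z.subgroupOf B) = p := by
              rw [Nat.card_congr (Subgroup.subgroupOfEquivOfLe le_sup_right).toEquiv, hZ]
            have := by
              letI := IsCyclic.commGroup (α := B)
              have key : ∀ Y : Subgroup B, Nat.card Y = p → Y = (powMonoidHom (α := B) p).ker := by
                intro Y hY
                refine Subgroup.eq_of_le_of_card_ge (fun y hy => ?_) ?_
                · have h9 : (⟨y, hy⟩ : Y) ^ p = 1 := hY ▸ pow_card_eq_one'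
                  exact congrArg (fun w : Y => (w : B)) h9
                · rw [IsCyclic.card_powMonoidHom_ker, hY]
                  exact Nat.le_of_dvd hp.pos (Nat.gcd_dvd_right _ _)
              exact (key (X.subgroupOf B) e1).trans (key (Z.subgroupOf B) e2).symm
            have h9 := congrArg (Subgroup.map B.subtype) this
            rwa [Subgroup.map_subgroupOf_eq_of_le le_sup_left, Subgroup.map_subgroupOf_eq_of_le le_sup_right] at h9
          rw [uniq H hH, uniq K hK]
        rcases Cfsg.Agent.S0016.result p hG huniq with h | ⟨-, n, hn⟩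
        · exact hnc h
        · exact hnq _ hn
    · push Not at h0
      obtain ⟨A0, hA0n, hA0c, hA0nc⟩ := h0
      have hc0 : ∀ a ∈ A0, ∀ b ∈ A0, a * b = b * a := fun a ha b hb =>
        congrArg Subtype.val (hA0c.is_comm.comm (⟨a, ha⟩ : A0) ⟨b, hb⟩)
      let E : Subgroup G :=
        { carrier := {a | a ∈ A0 ∧ a ^ p = 1}
          one_mem' := ⟨one_mem _, one_pow _⟩
          mul_mem' := fun {a b} ha hb => ⟨mul_mem ha.1 hb.1, by
            rw [(show Commute a b from hc0 a ha.1 b hb.1).mul_pow, ha.2, hb.2, one_mul]⟩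
          inv_mem' := fun {a} ha => ⟨inv_mem ha.1, by rw [inv_pow, ha.2, inv_one]⟩ }
      haveI hEn : E.Normal := ⟨fun a ha g => ⟨hA0n.conj_mem a ha.1 g, by rw [conj_pow, ha.2]; group⟩⟩
      have hEbig : p < Nat.card E := by
        by_contra hle
        push Not at hle
        haveI := hA0c
        have huniq : ∀ H K : Subgroup A0, Nat.card H = p → Nat.card K = p → H = K := by
          intro H K hH hK
          have inE : ∀ X : Subgroup A0, Nat.card X = p → X.map A0.subtype = E := by
            intro X hX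
            refine Subgroup.eq_of_le_of_card_ge ?_ ?_
            · rintro _ ⟨a, ha, rfl⟩
              refine ⟨a.2, ?_⟩
              have h9 : (⟨a, ha⟩ : X) ^ p = 1 := hX ▸ pow_card_eq_one'
              exact congrArg (fun w : X => ((w : A0) : G)) h9
            · rw [← Nat.card_congr (Subgroup.equivMapOfInjective X _ A0.subtype_injective).toEquiv, hX]
              exact hle
          exact Subgroup.map_injective A0.subtype_injective ((inE H hH).trans (inE K hK).symm)
        rcases Cfsg.Agent.S0016.result p (hG.to_subgroup A0) huniq with h | ⟨-, n, ⟨e⟩⟩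
        · exact hA0nc h
        · rcases n with _ | n
          · refine hA0nc ?_
            haveI : IsCyclic (QuaternionGroup (2 ^ 0)) := by
              rw [pow_zero]; exact QuaternionGroup.quaternionGroup_one_isCyclic
            exact isCyclic_of_surjective e.symm.toMonoidHom e.symm.surjective
          · have h9 := congrArg e (hA0c.is_comm.comm (e.symm (QuaternionGroup.a 1)) (e.symm (QuaternionGroup.xa 0)))
            simp only [map_mul, MulEquiv.apply_symm_apply, QuaternionGroup.a_mul_xa, QuaternionGroup.xa_mul_a,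
              QuaternionGroup.xa.injEq, zero_sub, zero_add] at h9
            have h10 : ((2 : ℕ) : ZMod (2 * 2 ^ (n + 1))) = 0 := by
              push_cast; linear_combination (-1 : ZMod (2 * 2 ^ (n + 1))) * h9
            rw [ZMod.natCast_eq_zero_iff] at h10
            have := Nat.le_of_dvd two_pos h10
            have : 2 ≤ 2 ^ (n + 1) := Nat.le_self_pow (by omega) 2
            omega
      have descend : ∀ k, ∀ M : Subgroup G, M.Normal → M ≤ E → Nat.card M = p ^ (k + 2) →
          ∃ A : Subgroup G, A.Normal ∧ A ≤ E ∧ Nat.card A = p ^ 2 := by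
        intro k
        induction k with
        | zero => exact fun M h1 h2 h3 => ⟨M, h1, h2, h3⟩
        | succ k ih =>
          intro M hMn hME hMc
          haveI := hMn
          obtain ⟨M', h1, h2, h3⟩ := Cfsg.Agent.PGroup23.exists_normal_index_prime hG M (by
            intro h; rw [h, Subgroup.card_bot] at hMc
            have := Nat.one_lt_pow (show k + 1 + 2 ≠ 0 by omega) hp.one_lt
            omega)
          refine ih M' h1 (h2.trans hME) (Nat.eq_of_mul_eq_mul_left hp.pos ?_)
          rw [← h3, hMc]; ring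
      obtain ⟨k, hk⟩ := (hG.to_subgroup E).exists_card_eq
      have hk2 : 2 ≤ k := by
        by_contra h
        have := Nat.pow_le_pow_right hp.pos (show k ≤ 1 by omega)
        rw [← hk, pow_one] at this
        omega
      obtain ⟨A, h1, h2, h3⟩ := descend (k - 2) E hEn le_rfl (by rw [hk]; congr 1; omega)
      exact ⟨A, h1, fun a ha b hb => hc0 a (h2 ha).1 b (h2 hb).1, fun a ha => (h2 ha).2, h3⟩
  haveI := hAn
  obtain ⟨z, hzA, hzc, hz1⟩ := Cfsg.Agent.InvChar.exists_mem_center_of_normal hG A (fun h => by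
    rw [h, Subgroup.card_bot] at hAcard
    have := Nat.one_lt_pow (show 2 ≠ 0 by omega) hp.one_lt
    omega)
  have hzo : orderOf z = p := orderOf_eq_prime (hAe z hzA) hz1
  have hzcom : ∀ g, Commute g z := fun g => Subgroup.mem_center_iff.mp hzc g
  haveI hZn : (Subgroup.zpowers z).Normal := ⟨fun y hy g => by
    have : y ∈ Subgroup.center G := Subgroup.zpowers_le.mpr hzc hy
    rwa [Subgroup.mem_center_iff.mp this g, mul_inv_cancel_right]⟩
  obtain ⟨x, hxA, hxz⟩ : ∃ x ∈ A, x ∉ Subgroup.zpowers z := by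
    by_contra hall
    push Not at hall
    have := Subgroup.card_le_of_le (show A ≤ Subgroup.zpowers z from hall)
    rw [Nat.card_zpowers, hzo, hAcard] at this
    nlinarith [hp.two_le]
  have hxo : x ^ p = 1 := hAe x hxA
  have hxzc : Commute x z := hzcom x
  -- the fixed spaces
  choose W hW using fun i : Fin p => mkFix {x * z ^ (i : ℕ)}
  have hW' : ∀ i w, w ∈ W i ↔ ρ (x * z ^ (i : ℕ)) w = w := fun i w => by simp [hW]
  have hzfix : ∀ v : V, ρ z v = v → v = 0 := by
    intro v hv
    obtain ⟨U, hU⟩ := mkFix (Subgroup.zpowers z : Set G)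
    have hb := fixinv (Subgroup.zpowers z) hZn U hU (by rw [Ne, Subgroup.zpowers_eq_bot]; exact hz1)
    refine (Submodule.mem_bot (ZMod q)).mp (hb ▸ (hU v).mpr ?_)
    intro n hn
    have : ∀ m : ℕ, ρ (z ^ m) v = v := by
      intro m
      induction m with
      | zero => simp
      | succ m ih => rw [pow_succ, map_mul, LinearEquiv.mul_apply, hv, ih]
    obtain ⟨m, hm⟩ := mem_powers_iff_mem_zpowers.mpr hn
    simp only at hm
    rw [← hm]
    exact this m
  -- sums over powers
  let S : G → (V →ₗ[ZMod q] V) := fun g => ∑ k ∈ Finset.range p, (ρ (g ^ k) : V →ₗ[ZMod q] V)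
  have hSfix : ∀ g v, g ^ p = 1 → ρ g (S g v) = S g v := by
    intro g v hg
    simp only [S, LinearMap.sum_apply, map_sum, LinearEquiv.coe_coe]
    have e : ∀ k, ρ g (ρ (g ^ k) v) = ρ (g ^ (k + 1)) v := fun k => by rw [pow_succ', map_mul, LinearEquiv.mul_apply]
    simp only [e]
    have h1 := Finset.sum_range_succ' (fun k => ρ (g ^ k) v) p
    have h2 := Finset.sum_range_succ (fun k => ρ (g ^ k) v) p
    rw [hg] at h2
    rw [h2, pow_zero] at h1
    exact (add_right_cancel h1).symm
  have hSz : ∀ v, S z v = 0 := fun v => hzfix _ (hSfix z v (hAe z hzA))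
  have hSzk : ∀ i : ℕ, ¬ p ∣ i → ∀ v, S (z ^ i) v = 0 := by
    intro i hi v
    refine hzfix _ ?_
    obtain ⟨m, hm⟩ : z ∈ Submonoid.powers (z ^ i) := by
      rw [mem_powers_iff_mem_zpowers]
      have hcop : (orderOf z).Coprime i := by rw [hzo]; exact hp.coprime_iff_not_dvd.mpr hi
      obtain ⟨j, hj⟩ := exists_pow_eq_self_of_coprime (x := z) (n := i) hcop.symm
      exact ⟨(j : ℤ), by simpa [zpow_natCast] using hj⟩
    simp only at hm
    have hf := hSfix (z ^ i) v (by rw [← pow_mul, mul_comm, pow_mul, hAe z hzA, one_pow])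
    have : ∀ m : ℕ, ρ ((z ^ i) ^ m) (S (z ^ i) v) = S (z ^ i) v := by
      intro m
      induction m with
      | zero => simp
      | succ m ih => rw [pow_succ, map_mul, LinearEquiv.mul_apply, hf, ih]
    have h9 := this m
    rwa [hm] at h9
  have hsum : ∀ v, ∑ i : Fin p, S (x * z ^ (i : ℕ)) v = (p : ZMod q) • v := by
    intro v
    simp only [S, LinearMap.sum_apply, LinearEquiv.coe_coe]
    rw [Finset.sum_comm]
    rw [Finset.sum_eq_single 0 (fun k hk hk0 => ?_) (fun h => absurd (Finset.mem_range.mpr hp.pos) h)]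
    · simp [Nat.cast_smul_eq_nsmul]
    · have hk' := hSzk k (fun hd => hk0 (Nat.eq_zero_of_dvd_of_lt hd (Finset.mem_range.mp hk))) v
      simp only [S, LinearMap.sum_apply, LinearEquiv.coe_coe] at hk'
      have e : ∀ i : Fin p, ρ ((x * z ^ (i : ℕ)) ^ k) v = ρ (x ^ k) (ρ ((z ^ k) ^ (i : ℕ)) v) := fun i => by
        rw [(hxzc.pow_right _).mul_pow, map_mul, LinearEquiv.mul_apply, ← pow_mul, ← pow_mul, mul_comm (i : ℕ) k]
      simp only [e]
      rw [← map_sum, Fin.sum_univ_eq_sum_range (fun i => ρ ((z ^ k) ^ i) v), hk', map_zero]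
  have hup : ∀ i : Fin p, (x * z ^ (i : ℕ)) ^ p = 1 := fun i => hAe _ (mul_mem hxA (pow_mem hzA _))
  have htop : iSup W = ⊤ := by
    rw [eq_top_iff]
    intro v _
    have h1 : v = (p : ZMod q)⁻¹ • ∑ i : Fin p, S (x * z ^ (i : ℕ)) v := by
      rw [hsum, smul_smul, inv_mul_cancel₀ hpq0, one_smul]
    rw [h1]
    refine Submodule.smul_mem _ _ (Submodule.sum_mem _ fun i _ => ?_)
    exact Submodule.mem_iSup_of_mem i ((hW' i _).mpr (hSfix _ v (hup i)))
  have hind : iSupIndep W := by
    intro i
    rw [Submodule.disjoint_def]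
    intro v hv hv'
    have hker : (⨆ (j : Fin p) (_ : j ≠ i), W j) ≤ LinearMap.ker (S (x * z ^ (i : ℕ))) := by
      refine iSup₂_le fun j hj w hw => ?_
      rw [LinearMap.mem_ker]
      have hjw := (hW' j w).mp hw
      have hpow : ∀ k : ℕ, ρ ((x * z ^ (j : ℕ)) ^ k) w = w := by
        intro k
        induction k with
        | zero => simp
        | succ k ih => rw [pow_succ, map_mul, LinearEquiv.mul_apply, hjw, ih]
      set d := (i : ℕ) + (p - (j : ℕ)) with hd
      have hdiv : ¬ p ∣ d := by
        intro hdvd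
        apply hj
        have := i.isLt; have := j.isLt
        obtain ⟨c, hc⟩ := hdvd
        rcases c with _ | _ | c
        · omega
        · exact Fin.ext (by omega)
        · have : p * 2 ≤ p * (c + 1 + 1) := Nat.mul_le_mul_left p (by omega)
          omega
      have e : x * z ^ (i : ℕ) = (z ^ d) * (x * z ^ (j : ℕ)) := by
        rw [← mul_assoc, (hxzc.pow_right d).eq.symm, mul_assoc, ← pow_add]
        congr 1
        rw [show d + (j : ℕ) = (i : ℕ) + p by have := j.isLt; omega, pow_add, hAe z hzA, mul_one]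
      have hc : Commute (z ^ d) (x * z ^ (j : ℕ)) := ((hzcom _).pow_right d).symm
      have hs := hSzk d hdiv w
      simp only [S, LinearMap.sum_apply, LinearEquiv.coe_coe] at hs ⊢
      rw [← hs]
      refine Finset.sum_congr rfl fun k _ => ?_
      rw [e, hc.mul_pow, map_mul, LinearEquiv.mul_apply, hpow]
    have h1 := LinearMap.mem_ker.mp (hker hv')
    have h2 : S (x * z ^ (i : ℕ)) v = (p : ZMod q) • v := by
      simp only [S, LinearMap.sum_apply, LinearEquiv.coe_coe]
      have hiv := (hW' i v).mp hv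
      have hpow : ∀ k : ℕ, ρ ((x * z ^ (i : ℕ)) ^ k) v = v := by
        intro k
        induction k with
        | zero => simp
        | succ k ih => rw [pow_succ, map_mul, LinearEquiv.mul_apply, hiv, ih]
      simp only [hpow, Finset.sum_const, Finset.card_range, Nat.cast_smul_eq_nsmul]
    rw [h2, smul_eq_zero] at h1
    exact h1.resolve_left hpq0
  -- conjugates of `x`
  have hAeq : ∀ y ∈ A, ∃ a b : ℕ, y = x ^ a * z ^ b := by
    have hle : Subgroup.zpowers x ⊔ Subgroup.zpowers z = A := by
      have hsub : Subgroup.zpowers x ⊔ Subgroup.zpowers z ≤ A :=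
        sup_le (Subgroup.zpowers_le.mpr hxA) (Subgroup.zpowers_le.mpr hzA)
      refine Subgroup.eq_of_le_of_card_ge hsub ?_
      obtain ⟨k, hk⟩ := (hG.to_subgroup (Subgroup.zpowers x ⊔ Subgroup.zpowers z)).exists_card_eq
      rw [hAcard, hk]
      refine Nat.pow_le_pow_right hp.pos ?_
      by_contra hk2
      have h1 : Nat.card ↥(Subgroup.zpowers x ⊔ Subgroup.zpowers z) ≤ Nat.card (Subgroup.zpowers z) := by
        rw [hk, Nat.card_zpowers, hzo]
        exact (Nat.pow_le_pow_right hp.pos (show k ≤ 1 by omega)).trans_eq (pow_one p)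
      have h2 := Subgroup.eq_of_le_of_card_ge le_sup_right h1
      exact hxz (h2 ▸ Subgroup.mem_sup_left (Subgroup.mem_zpowers x))
    intro y hy
    rw [← hle, Subgroup.mem_sup_of_normal_right] at hy
    obtain ⟨u, hu, w, hw, rfl⟩ := hy
    obtain ⟨a, rfl⟩ := mem_powers_iff_mem_zpowers.mpr hu
    obtain ⟨b, rfl⟩ := mem_powers_iff_mem_zpowers.mpr hw
    exact ⟨a, b, rfl⟩
  have hconj : ∀ g : G, ∃ b : ℕ, g * x * g⁻¹ = x * z ^ b := by
    intro g
    obtain ⟨a, b, hab⟩ := hAeq _ (hAn.conj_mem x hxA g)
    have hiter : ∀ n : ℕ, ∃ c : ℕ, g ^ n * x * (g ^ n)⁻¹ = x ^ (a ^ n) * z ^ c := by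
      intro n
      induction n with
      | zero => exact ⟨0, by simp⟩
      | succ n ih =>
        obtain ⟨c, hc⟩ := ih
        refine ⟨b * a ^ n + c, ?_⟩
        calc g ^ (n + 1) * x * (g ^ (n + 1))⁻¹ = g * (g ^ n * x * (g ^ n)⁻¹) * g⁻¹ := by
              rw [pow_succ']; group
          _ = g * (x ^ (a ^ n) * z ^ c) * g⁻¹ := by rw [hc]
          _ = (g * x * g⁻¹) ^ (a ^ n) * (g * z ^ c * g⁻¹) := by rw [conj_pow]; group
          _ = _ := by
            rw [hab, ((hzcom g).pow_right c).eq, mul_inv_cancel_right, ((hxzc.pow_left a).pow_right b).mul_pow,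
              ← pow_mul, ← pow_mul, mul_assoc, ← pow_add, pow_succ' a n]
    obtain ⟨m, hm⟩ := hG g
    obtain ⟨c, hc⟩ := hiter (p ^ m)
    rw [hm, inv_one, one_mul, mul_one] at hc
    have hxn : ∀ e : ℤ, x ^ e ∈ Subgroup.zpowers z → (p : ℤ) ∣ e := by
      intro e he
      by_contra hd
      have hcop : IsCoprime (p : ℤ) e := (Nat.prime_iff_prime_int.mp hp).coprime_iff_not_dvd.mpr hd
      obtain ⟨u, w, huw⟩ := hcop
      apply hxz
      have h9 := Subgroup.zpow_mem _ he w
      rw [← zpow_mul] at h9
      have : x = x ^ (e * w) := by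
        conv_lhs => rw [← zpow_one x, ← huw]
        rw [zpow_add, mul_comm u, zpow_mul, zpow_natCast, hxo, one_zpow, one_mul, mul_comm w]
      rwa [← this] at h9
    have h3 : x ^ (((a ^ p ^ m : ℕ) : ℤ) - 1) ∈ Subgroup.zpowers z := by
      rw [zpow_sub, zpow_natCast, zpow_one]
      have h8 : x ^ (a ^ p ^ m) = x * (z ^ c)⁻¹ := eq_mul_inv_of_mul_eq hc.symm
      rw [h8, (((hxzc.pow_right c)).inv_right).eq, mul_inv_cancel_right]
      exact Subgroup.inv_mem _ (Subgroup.pow_mem _ (Subgroup.mem_zpowers z) c)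
    have h4 : ((a : ZMod p)) = 1 := by
      have h5 := hxn _ h3
      rw [← ZMod.intCast_zmod_eq_zero_iff_dvd] at h5
      push_cast at h5
      rw [sub_eq_zero] at h5
      have h6 : ∀ k : ℕ, ((a : ZMod p)) ^ (p ^ k) = (a : ZMod p) := by
        intro k
        induction k with
        | zero => simp
        | succ k ih => rw [pow_succ, pow_mul, ih, ZMod.pow_card]
      rwa [h6] at h5
    refine ⟨b, ?_⟩
    rw [hab]
    congr 1
    conv_rhs => rw [← pow_one x]
    rw [pow_eq_pow_iff_modEq, show orderOf x = p from orderOf_eq_prime hxo (fun h => hxz (h ▸ one_mem _))]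
    exact (ZMod.natCast_eq_natCast_iff' a 1 p).mp (by simpa using h4)
  set H := Subgroup.centralizer ({x} : Set G) with hH
  have hHmem : ∀ g, g ∈ H ↔ g * x * g⁻¹ = x := fun g => by
    rw [hH, Subgroup.mem_centralizer_singleton_iff, mul_inv_eq_iff_eq_mul]
  haveI : NeZero p := ⟨hp.ne_zero⟩
  choose cc hcc using hconj
  have hact : ∀ g (i : Fin p), g * (x * z ^ (i : ℕ)) * g⁻¹ = x * z ^ ((i + Fin.ofNat p (cc g) : Fin p) : ℕ) := by
    intro g i
    have e : g * (x * z ^ (i : ℕ)) * g⁻¹ = (g * x * g⁻¹) * z ^ (i : ℕ) := by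
      rw [← mul_assoc, mul_assoc (g * x), ((hzcom g⁻¹).pow_right (i : ℕ)).eq.symm, ← mul_assoc]
    rw [e, hcc, mul_assoc, ← pow_add]
    congr 1
    rw [pow_eq_pow_iff_modEq, hzo, Fin.val_add, Fin.val_ofNat]
    show (cc g + (i : ℕ)) % p = ((i : ℕ) + cc g % p) % p % p
    rw [Nat.mod_mod, Nat.add_mod_mod, Nat.add_comm]
  have hmap : ∀ g (i : Fin p), (W i).map (ρ g : V →ₗ[ZMod q] V) = W (i + Fin.ofNat p (cc g)) := by
    intro g i
    ext w
    rw [Submodule.mem_map]
    constructor
    · rintro ⟨v, hv, rfl⟩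
      rw [hW', ← hact g i]
      show ρ (g * (x * z ^ (i : ℕ)) * g⁻¹) (ρ g v) = ρ g v
      rw [← LinearEquiv.mul_apply, ← map_mul, inv_mul_cancel_right, map_mul, LinearEquiv.mul_apply, (hW' i v).mp hv]
    · intro hw
      refine ⟨ρ g⁻¹ w, (hW' i _).mpr ?_, ?_⟩
      · rw [hW', ← hact g i] at hw
        conv_rhs => rw [← hw]
        rw [← LinearEquiv.mul_apply, ← LinearEquiv.mul_apply, ← map_mul, ← map_mul]
        congr 2
        group
      · show ρ g (ρ g⁻¹ w) = w
        rw [← LinearEquiv.mul_apply, ← map_mul, mul_inv_cancel, map_one]; rfl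
  have hcH : ∀ g, g ∈ H ↔ (Fin.ofNat p (cc g) : Fin p) = 0 := by
    intro g
    rw [hHmem, hcc]
    constructor
    · intro h
      have h1 : z ^ cc g = 1 := mul_left_cancel (h.trans (mul_one x).symm)
      rw [← orderOf_dvd_iff_pow_eq_one, hzo] at h1
      exact Fin.ext (by simp [Fin.val_ofNat, Nat.mod_eq_zero_of_dvd h1])
    · intro h
      have h1 := congrArg Fin.val h
      rw [Fin.val_ofNat, Fin.val_zero] at h1
      rw [orderOf_dvd_iff_pow_eq_one.mp (hzo ▸ Nat.dvd_of_mod_eq_zero h1), mul_one]
  have hnotall : H ≠ ⊤ := by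
    intro htopH
    have hbot : ∀ i, W i = ⊥ := by
      intro i
      rcases hirr (W i) (fun g w hw => by
        have := (hmap g i).le (Submodule.mem_map_of_mem hw)
        rwa [(hcH g).mp (htopH ▸ Subgroup.mem_top g), add_zero] at this) with h | h
      · exact h
      · exfalso
        have h1 : x * z ^ (i : ℕ) = 1 := hρ (by
          rw [map_one]; exact LinearEquiv.ext fun v => (hW' i v).mp (h ▸ Submodule.mem_top))
        exact hxz (eq_inv_of_mul_eq_one_left h1 ▸ Subgroup.inv_mem _ (Subgroup.pow_mem _ (Subgroup.mem_zpowers z) _))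
    have : (⊤ : Submodule (ZMod q) V) = ⊥ := by rw [← htop]; simp [hbot]
    exact top_ne_bot this
  have hindex : H.index = p := by
    obtain ⟨k, hk⟩ := hG.index H
    have hle : H.index ≤ p := by
      have hinj : Function.Injective (fun c : G ⧸ H => (Fin.ofNat p (cc c.out) : Fin p)) := by
        intro c d hcd
        simp only at hcd
        have h1 : c.out * x * c.out⁻¹ = d.out * x * d.out⁻¹ := by
          rw [hcc, hcc]
          congr 1
          rw [pow_eq_pow_iff_modEq, hzo]
          exact (by simpa [Fin.val_ofNat] using congrArg Fin.val hcd : _ % p = _ % p)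
        rw [← QuotientGroup.out_eq' c, ← QuotientGroup.out_eq' d]
        refine QuotientGroup.eq.mpr ((hHmem _).mpr ?_)
        calc c.out⁻¹ * d.out * x * (c.out⁻¹ * d.out)⁻¹ = c.out⁻¹ * (d.out * x * d.out⁻¹) * c.out := by group
          _ = x := by rw [← h1]; group
      have := Nat.card_le_card_of_injective _ hinj
      rwa [Nat.card_fin] at this
    have hne1 : H.index ≠ 1 := fun h => hnotall (Subgroup.index_eq_one.mp h)
    rcases k with _ | _ | k
    · exact absurd hk hne1
    · rw [hk, pow_one]
    · rw [hk] at hle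
      have : p ^ 2 ≤ p ^ (k + 1 + 1) := Nat.pow_le_pow_right hp.pos (by omega)
      nlinarith [hp.two_le]
  refine ⟨H, W, hindex, htop, hind, ?_, ?_, ?_⟩
  · intro h hh i w hw
    have := (hmap h i).le (Submodule.mem_map_of_mem hw)
    rwa [(hcH h).mp hh, add_zero] at this
  · intro i
    refine ⟨x * z ^ (i : ℕ), (hHmem _).mpr ?_, fun h => ?_, fun w hw => (hW' i w).mp hw⟩
    · rw [((Commute.refl x).mul_left ((hzcom x).pow_right _).symm).eq, mul_inv_cancel_right]
    · exact hxz (eq_inv_of_mul_eq_one_left h ▸ Subgroup.inv_mem _ (Subgroup.pow_mem _ (Subgroup.mem_zpowers z) _))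
  · intro g hg
    have hc : (Fin.ofNat p (cc g) : Fin p) ≠ 0 := fun h => hg ((hcH g).mpr h)
    refine ⟨Equiv.addRight (Fin.ofNat p (cc g)), ?_, fun i => hmap g i⟩
    set c : Fin p := Fin.ofNat p (cc g) with hcdef
    have hpow : ∀ (n : ℕ) (i : Fin p), ((Equiv.addRight c) ^ n) i = i + n • c := by
      intro n
      induction n with
      | zero => intro i; simp
      | succ n ih => intro i; rw [pow_succ', Equiv.Perm.mul_apply, ih, Equiv.coe_addRight]; show _ + c = _; rw [succ_nsmul, add_assoc]
    refine orderOf_eq_prime ?_ ?_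
    · refine Equiv.ext fun i => ?_
      rw [hpow, Equiv.Perm.one_apply, add_eq_left]
      have := card_nsmul_eq_zero (x := c)
      rwa [Fintype.card_fin] at this
    · intro h
      have := Equiv.ext_iff.mp h 0
      simp [Equiv.coe_addRight] at this
      exact hc this

end Cfsg.Agent.S3380
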