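import Cfsg.Statements.S3371
import Cfsg.Agent.S0016
import Cfsg.Agent.S3380
import Cfsg.Agent.Lib.Recog.HalfTransP

set_option autoImplicit false
open Cfsg

set_option maxHeartbeats 1000000

namespace Cfsg.Agent.S3371

open Cfsg.Agent.Recog.HalfTransP

section Aux

variable {q : ℕ} [hq : Fact q.Prime] {V : Type*} [AddCommGroup V] [Module (ZMod q) V]
  {G : Type*} [Group G] {ρ : G →* (V ≃ₗ[ZMod q] V)}

/-- Half-transitive and not semiregular forces irreducible. -/
theorem irred [Finite G] (hρ : Function.Injective ρ) (hcard : (Nat.card G : ZMod q) ≠ 0)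
    (hhalf : ∀ v w : V, v ≠ 0 → w ≠ 0 → Nat.card {u : V | ∃ g : G, ρ g v = u} = Nat.card {u : V | ∃ g : G, ρ g w = u})
    (hnfree : ¬ ∀ v : V, v ≠ 0 → ∀ g : G, ρ g v = v → g = 1)
    (W : Submodule (ZMod q) V) (hW : ∀ g : G, ∀ w ∈ W, ρ g w ∈ W) : W = ⊥ ∨ W = ⊤ := by
  classical
  by_contra hcon
  push Not at hcon
  obtain ⟨w0, hw0, hw00⟩ := W.ne_bot_iff.mp hcon.1
  obtain ⟨v0, hv0⟩ : ∃ v, v ∉ W := by
    by_contra h
    push Not at h
    exact hcon.2 (eq_top_iff.mpr fun v _ => h v)
  have key : ∀ v, v ∉ W → ∀ w ∈ W, w ≠ 0 → stab ρ v = stab ρ w := by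
    intro v hv w hw hw0'
    let Sc : Subgroup G :=
      { carrier := {g | ρ g v - v ∈ W}
        one_mem' := by simp
        mul_mem' := fun {g h} hg hh => by
          show ρ (g * h) v - v ∈ W
          have e : ρ (g * h) v - v = ρ g (ρ h v - v) + (ρ g v - v) := by
            rw [map_mul, LinearEquiv.mul_apply, map_sub]; abel
          rw [e]; exact W.add_mem (hW g _ hh) hg
        inv_mem' := fun {g} hg => by
          show ρ g⁻¹ v - v ∈ W
          have e : ρ g⁻¹ v - v = -(ρ g⁻¹ (ρ g v - v)) := by rw [map_sub, inv_apply]; abel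
          rw [e]; exact W.neg_mem (hW _ _ hg) }
    haveI := Fintype.ofFinite Sc
    have hc : (Fintype.card Sc : ZMod q) ≠ 0 := by
      intro h
      obtain ⟨c, hc⟩ := Subgroup.card_subgroup_dvd_card Sc
      apply hcard
      rw [hc, Nat.card_eq_fintype_card, Nat.cast_mul, h, zero_mul]
    set u : V := (Fintype.card Sc : ZMod q)⁻¹ • ∑ g : Sc, ρ g.1 v with hu
    have huW : u - v ∈ W := by
      have e : u - v = (Fintype.card Sc : ZMod q)⁻¹ • ∑ g : Sc, (ρ g.1 v - v) := by
        rw [Finset.sum_sub_distrib, Finset.sum_const, Finset.card_univ, smul_sub,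
          ← Nat.cast_smul_eq_nsmul (ZMod q), smul_smul, inv_mul_cancel₀ hc, one_smul]
      rw [e]
      exact W.smul_mem _ (W.sum_mem fun g _ => g.2)
    have hu0 : u ≠ 0 := fun e => hv (by simpa [e] using huW)
    have hne : ∀ x ∈ W, v + x ≠ 0 := fun x hx e => hv (by rw [eq_neg_of_add_eq_zero_left e]; exact W.neg_mem hx)
    have hsc : Sc ≤ stab ρ u := by
      intro h hh
      rw [mem_stab, hu, map_smul, map_sum]
      congr 1
      refine Fintype.sum_equiv (Equiv.mulLeft (⟨h, hh⟩ : Sc)) _ _ fun g => ?_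
      simp [map_mul, LinearEquiv.mul_apply]
    have hle : ∀ x ∈ W, stab ρ (v + x) ≤ Sc := by
      intro x hx g hg
      show ρ g v - v ∈ W
      rw [mem_stab, map_add] at hg
      have e : ρ g v - v = x - ρ g x := by linear_combination (norm := module) hg
      rw [e]; exact W.sub_mem hx (hW g x hx)
    have heq : ∀ x ∈ W, stab ρ (v + x) = Sc := fun x hx => by
      refine Subgroup.eq_of_le_of_card_ge (hle x hx) ?_
      rw [stab_card_eq hhalf (hne x hx) hu0]
      exact Subgroup.card_le_of_le hsc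
    have e0 := heq 0 W.zero_mem
    rw [add_zero] at e0
    refine Subgroup.eq_of_le_of_card_ge ?_ (stab_card_eq hhalf hw0' (fun e => hv (by simp [e]))).le
    intro g hg
    have h1 : g ∈ stab ρ (v + w) := by rw [heq w hw, ← e0]; exact hg
    rw [mem_stab, map_add, (mem_stab.mp hg)] at h1
    exact add_left_cancel h1
  apply hnfree
  have hS : ∀ v : V, v ≠ 0 → stab ρ v = stab ρ w0 := by
    intro v hv
    by_cases hvW : v ∈ W
    · rw [← key v0 hv0 v hvW hv, key v0 hv0 w0 hw0 hw00]
    · exact key v hvW w0 hw0 hw00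
  intro v hv g hg
  refine hρ (LinearEquiv.ext fun x => ?_)
  rw [map_one]
  by_cases hx : x = 0
  · simp [hx]
  · have : g ∈ stab ρ x := by rw [hS x hx, ← hS v hv]; exact hg
    exact this

/-- An element spanning a normal subgroup fixes no non-zero vector. -/
theorem free_of_normal (hρ : Function.Injective ρ)
    (hirr : ∀ W : Submodule (ZMod q) V, (∀ g : G, ∀ w ∈ W, ρ g w ∈ W) → W = ⊥ ∨ W = ⊤)
    {g : G} (hg : ∀ h : G, ∃ i : ℤ, g * h = h * g ^ i) {v : V} (hv : v ≠ 0) (hfix : ρ g v = v) : g = 1 := by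
  let W := LinearMap.ker ((ρ g : V →ₗ[ZMod q] V) - LinearMap.id)
  have hW : ∀ x, x ∈ W ↔ ρ g x = x := fun x => by simp [W, sub_eq_zero]
  rcases hirr W (fun h w hw => (hW _).mpr (by
      obtain ⟨i, hi⟩ := hg h
      have hgi : g ^ i ∈ stab ρ w := Subgroup.zpow_mem _ ((hW w).mp hw) i
      rw [← LinearEquiv.mul_apply (f := ρ g), ← map_mul, hi, map_mul, LinearEquiv.mul_apply, mem_stab.mp hgi])) with h | h
  · exact absurd ((Submodule.eq_bot_iff W).mp h v ((hW v).mpr hfix)) hv
  · exact hρ (LinearEquiv.ext fun x => by rw [map_one]; exact (hW x).mp (h ▸ Submodule.mem_top))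

/-- The dihedral and semidihedral cases. -/
theorem two_gen [Finite V] [Finite G] [Nontrivial V] (hq2 : q ≠ 2) (hρ : Function.Injective ρ)
    (hhalf : ∀ v w : V, v ≠ 0 → w ≠ 0 → Nat.card {u : V | ∃ g : G, ρ g v = u} = Nat.card {u : V | ∃ g : G, ρ g w = u})
    (hnfree : ¬ ∀ v : V, v ≠ 0 → ∀ g : G, ρ g v = v → g = 1)
    (hirr : ∀ W : Submodule (ZMod q) V, (∀ g : G, ∀ w ∈ W, ρ g w ∈ W) → W = ⊥ ∨ W = ⊤)
    (j k' d : ℕ) (x y : G) (hd : 2 ^ k' * d = 2 ^ (j + 2)) (hd0 : 0 < d)
    (hx : orderOf x = 2 ^ (j + 2)) (hcardG : Nat.card G = 2 ^ (j + 3)) (hy : y ^ 2 = 1)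
    (s : ℤ) (hs : y * x * y⁻¹ = x ^ s) (hs4 : ∃ c : ℤ, 1 - s = 2 + 4 * c)
    (hsd : ∀ i : ℤ, (2 ^ (j + 2) : ℤ) ∣ i * (1 + s) ↔ (d : ℤ) ∣ i) :
    Nat.card V = q ^ 2 ∧ q + 1 = 2 ^ k' := by
  set C := Subgroup.zpowers x with hCdef
  obtain ⟨c, hc⟩ := hs4
  have hN : ∀ i : ℤ, x ^ i = 1 ↔ (2 ^ (j + 2) : ℤ) ∣ i := fun i => by
    rw [← orderOf_dvd_iff_zpow_eq_one, hx]; norm_num
  have hyC : y ∉ C := by
    rintro ⟨i, rfl⟩
    have h1 : x ^ s = x := by rw [← hs]; group
    have h2 : x ^ (s - 1) = 1 := by rw [zpow_sub, h1]; simp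
    have h3 := (hN _).mp h2
    have h4 : (4 : ℤ) ∣ s - 1 := dvd_trans ⟨2 ^ j, by rw [pow_add]; norm_num; ring⟩ h3
    omega
  have hC : C.index = 2 := by
    have h := C.index_mul_card
    rw [Nat.card_zpowers, hx, hcardG, pow_succ' 2 (j + 2)] at h
    exact Nat.eq_of_mul_eq_mul_right (by positivity) h
  have hyinv : y⁻¹ = y := inv_eq_of_mul_eq_one_right (by rw [← pow_two, hy])
  have hsw : ∀ i : ℤ, y * x ^ i = x ^ (s * i) * y := by
    intro i
    have h1 : (MulAut.conj y) (x ^ i) = ((MulAut.conj y) x) ^ i := map_zpow _ _ _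
    simp only [MulAut.conj_apply] at h1
    rw [hs, ← zpow_mul] at h1
    rw [← h1]; group
  have hdec : ∀ h : G, (∃ i : ℤ, h = x ^ i) ∨ ∃ i : ℤ, h = x ^ i * y := by
    intro h
    by_cases hh : h ∈ C
    · obtain ⟨i, hi⟩ := hh; exact Or.inl ⟨i, hi.symm⟩
    · have : h * y ∈ C := (Subgroup.mul_mem_iff_of_index_two hC).mpr (iff_of_false hh hyC)
      obtain ⟨i, hi⟩ := this
      refine Or.inr ⟨i, ?_⟩
      simp only at hi
      rw [hi, mul_assoc, ← pow_two, hy, mul_one]
  have hfree : ∀ v : V, v ≠ 0 → ∀ g ∈ C, ρ g v = v → g = 1 := by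
    rintro v hv g ⟨i, rfl⟩ hfix
    refine free_of_normal hρ hirr (fun h => ?_) hv hfix
    rcases hdec h with ⟨l, rfl⟩ | ⟨l, rfl⟩
    · exact ⟨1, by simp only [zpow_one, ← zpow_add, add_comm]⟩
    · refine ⟨s, ?_⟩
      simp only
      rw [mul_assoc (x ^ l), ← zpow_mul x i s, hsw, ← mul_assoc, ← mul_assoc, ← zpow_add, ← zpow_add]
      congr 1
      have : x ^ (s * (i * s)) = x ^ i := by
        have h2 : y * (y * x ^ i) = x ^ i := by rw [← mul_assoc, ← pow_two, hy, one_mul]
        rw [hsw, ← mul_assoc, hsw, mul_assoc, ← pow_two, hy, mul_one] at h2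
        rw [mul_comm i s]; exact h2
      rw [zpow_add, zpow_add, this, (Commute.zpow_zpow_self x i l).eq]
  have hsq : ∀ i : ℤ, (x ^ i * y) ^ 2 = x ^ (i * (1 + s)) := fun i => by
    rw [pow_two, mul_assoc (x ^ i), ← mul_assoc y, hsw, mul_assoc, ← pow_two, hy, mul_one, ← zpow_add, mul_add, mul_one,
      mul_comm s i]
  let z := x ^ (2 ^ (j + 1) : ℤ)
  refine index_two_case hq2 hρ hhalf hnfree C hC hfree z ⟨_, rfl⟩ ?_ ?_ ?_ k' ?_
  · rw [← zpow_natCast z 2, ← zpow_mul, hN]; exact ⟨1, by push_cast; ring⟩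
  · intro e
    have h3 := (hN _).mp e
    have h4 := Int.le_of_dvd (by positivity) h3
    rw [pow_succ] at h4
    have : (0 : ℤ) < 2 ^ (j + 1) := by positivity
    omega
  · intro t ht _
    rcases hdec t with ⟨i, rfl⟩ | ⟨i, rfl⟩
    · exact absurd ⟨i, rfl⟩ ht
    refine ⟨x ^ (2 ^ j : ℤ), ?_⟩
    show _ = x ^ i * y * x ^ (2 ^ (j + 1) : ℤ)
    rw [← zpow_neg, mul_assoc (x ^ i), hsw, ← mul_assoc, ← mul_assoc, mul_assoc _ y, hsw, ← mul_assoc, ← zpow_add, ← zpow_add,
      ← zpow_add]
    congr 1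
    refine eq_of_mul_inv_eq_one ?_
    rw [← zpow_neg, ← zpow_add, hN]
    have es : s = -1 - 4 * c := by omega
    exact ⟨3 * c + 1, by rw [es]; ring⟩
  · let f : Fin (2 ^ k') → {t : G // t ∉ C ∧ t ^ 2 = 1} := fun i => ⟨x ^ ((d : ℤ) * (i : ℕ)) * y,
      fun h => hyC (by simpa using C.mul_mem (C.inv_mem (Subgroup.zpow_mem_zpowers x ((d : ℤ) * (i : ℕ)))) h),
      by rw [hsq, hN, hsd]; exact dvd_mul_right _ _⟩
    rw [← Nat.card_congr (Equiv.ofBijective f ⟨?_, ?_⟩), Nat.card_fin]
    · intro a b h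
      have h1 := mul_right_cancel (congrArg Subtype.val h)
      simp only [← Nat.cast_mul, zpow_natCast] at h1
      have hlt : ∀ e : Fin (2 ^ k'), d * (e : ℕ) < orderOf x := fun e => by
        rw [hx, ← hd, mul_comm (2 ^ k') d]; exact Nat.mul_lt_mul_of_pos_left e.2 hd0
      exact Fin.ext (Nat.eq_of_mul_eq_mul_left hd0 (pow_injOn_Iio_orderOf (hlt a) (hlt b) h1))
    · rintro ⟨t, ht, ht2⟩
      rcases hdec t with ⟨i, rfl⟩ | ⟨i, rfl⟩
      · exact absurd ⟨i, rfl⟩ ht
      rw [hsq, hN, hsd] at ht2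
      obtain ⟨e, rfl⟩ := ht2
      have hpos : (0 : ℤ) < 2 ^ k' := by positivity
      have h1 := Int.emod_nonneg e hpos.ne'
      refine ⟨⟨(e % 2 ^ k').toNat, (Int.toNat_lt h1).mpr (by push_cast; exact Int.emod_lt_of_pos e hpos)⟩,
        Subtype.ext ?_⟩
      show x ^ ((d : ℤ) * ((e % 2 ^ k').toNat : ℕ)) * y = x ^ ((d : ℤ) * e) * y
      rw [Int.toNat_of_nonneg h1]
      congr 1
      refine eq_of_mul_inv_eq_one ?_
      rw [← zpow_neg, ← zpow_add, hN]
      refine ⟨-(e / 2 ^ k'), ?_⟩
      have hd' : ((2 : ℤ) ^ k') * d = 2 ^ (j + 2) := by exact_mod_cast hd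
      rw [← hd', Int.emod_def]; ring

theorem no_fixed {p : ℕ} (hp : p.Prime) (σ : Equiv.Perm (Fin p)) (hσ : orderOf σ = p) (i : Fin p) : σ i ≠ i := by
  have h2 : σ.support.card ≤ p := le_trans (Finset.card_le_univ _) (Fintype.card_fin p).le
  have hc : σ.IsCycle := Equiv.Perm.isCycle_of_prime_order (by rw [hσ]; exact hp) (by rw [hσ]; have := hp.pos; omega)
  have hs : σ.support = Finset.univ := Finset.eq_univ_of_card _ (by rw [← hc.orderOf, hσ, Fintype.card_fin])
  exact Equiv.Perm.mem_support.mp (hs ▸ Finset.mem_univ i)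

end Aux

/-- Let q be a prime, V a non-trivial finite vector space over the field with q elements, and G a finite p-group (p prime) acting faithfully and linearly on V such that all G-orbits on the non-zero vectors have the same size. Then one of the following holds: G is cyclic or generalized quaternion and acts semiregularly on the non-zero vectors; or V has q² elements with q = 2^m − 1 and G is dihedral of order 2^(m+1) or semidihedral of order 2^(m+2); or V has q² elements with q = 2^m + 1 and, in suitable coordinates V = F_q², G is exactly the group of maps (x, y) ↦ (a x, ± a⁻¹ y) and (x, y) ↦ (± a⁻¹ y, a x) with a ≠ 0; or V has 81 elements (q = 3) and G is a 2-group. -/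
theorem result (q : ℕ) [Fact q.Prime] {V : Type*} [AddCommGroup V] [Module (ZMod q) V] [Finite V] [Nontrivial V]
    {G : Type*} [Group G] [Finite G] (p : ℕ) [Fact p.Prime] (hG : IsPGroup p G)
    (ρ : G →* (V ≃ₗ[ZMod q] V)) (hρ : Function.Injective ρ)
    (hhalf : ∀ v w : V, v ≠ 0 → w ≠ 0 → Nat.card {u : V | ∃ g : G, ρ g v = u} = Nat.card {u : V | ∃ g : G, ρ g w = u}) :
    ((IsCyclic G ∨ ∃ n : ℕ, Nonempty (G ≃* QuaternionGroup n)) ∧ ∀ v : V, v ≠ 0 → ∀ g : G, ρ g v = v → g = 1) ∨
    (Nat.card V = q ^ 2 ∧ ∃ m : ℕ, q = 2 ^ m - 1 ∧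
      (Nonempty (G ≃* DihedralGroup (2 ^ m)) ∨ (Cfsg.IsQuasiDihedral G ∧ Nat.card G = 2 ^ (m + 2)))) ∨
    (Nat.card V = q ^ 2 ∧ (∃ m : ℕ, q = 2 ^ m + 1) ∧
      ∃ e : V ≃ₗ[ZMod q] (Fin 2 → ZMod q), ∀ f : (Fin 2 → ZMod q) ≃ₗ[ZMod q] (Fin 2 → ZMod q),
        (∃ g : G, f = e.symm.trans ((ρ g).trans e)) ↔
        ∃ a s : ZMod q, a ≠ 0 ∧ (s = 1 ∨ s = -1) ∧
          ((∀ v, f v = ![a * v 0, s * a⁻¹ * v 1]) ∨ (∀ v, f v = ![s * a⁻¹ * v 1, a * v 0]))) ∨
    (Nat.card V = 81 ∧ q = 3 ∧ p = 2) := by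
  classical
  have hp := (Fact.out : p.Prime)
  have hqP := (Fact.out : q.Prime)
  by_cases hfree : ∀ v : V, v ≠ 0 → ∀ g : G, ρ g v = v → g = 1
  · refine Or.inl ⟨?_, hfree⟩
    rcases subsingleton_or_nontrivial G with hsub | hnt
    · exact Or.inl inferInstance
    by_cases hqp : q = p
    · exfalso
      obtain ⟨g, hg⟩ := exists_ne (1 : G)
      letI : MulAction G V := MulAction.compHom V ρ
      have h1 := hG.card_modEq_card_fixedPoints V
      obtain ⟨v, hv⟩ := exists_ne (0 : V)
      have hV : p ∣ Nat.card V := by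
        rw [Module.natCard_eq_pow_finrank (K := ZMod q), Nat.card_zmod, ← hqp]
        exact dvd_pow_self _ (Module.finrank_pos).ne'
      have h2 : p ∣ Nat.card (MulAction.fixedPoints G V) := (Nat.ModEq.dvd_iff h1 dvd_rfl).mp hV
      have h3 : (0 : V) ∈ MulAction.fixedPoints G V := fun g => map_zero (ρ g)
      haveI : Nonempty (MulAction.fixedPoints G V) := ⟨⟨0, h3⟩⟩
      haveI : Nontrivial (MulAction.fixedPoints G V) := Finite.one_lt_card_iff_nontrivial.mp
        (lt_of_lt_of_le hp.one_lt (Nat.le_of_dvd Nat.card_pos h2))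
      obtain ⟨⟨w, hw⟩, hw0⟩ := exists_ne (⟨0, h3⟩ : MulAction.fixedPoints G V)
      exact hg (hfree w (fun e => hw0 (Subtype.ext e)) g (hw g))
    haveI : Nontrivial (Subgroup.center G) := hG.center_nontrivial
    obtain ⟨z, hz⟩ := exists_prime_orderOf_dvd_card' p
      (show p ∣ Nat.card (Subgroup.center G) by
        obtain ⟨n, hn⟩ := IsPGroup.iff_card.mp (hG.to_subgroup (Subgroup.center G))
        rcases n with _ | n
        · have := Finite.one_lt_card (α := Subgroup.center G); rw [pow_zero] at hn; omega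
        · rw [hn]; exact dvd_pow_self p n.succ_ne_zero)
    have hzp : (z : G) ^ p = 1 := by rw [← hz, ← Subgroup.orderOf_coe]; exact pow_orderOf_eq_one _
    have hz1 : (z : G) ≠ 1 := fun e => by
      rw [← Subgroup.orderOf_coe, e, orderOf_one] at hz; exact hp.one_lt.ne hz
    have huni : ∀ H : Subgroup G, Nat.card H = p → H = Subgroup.zpowers (z : G) := by
      intro H hH
      haveI : Finite H := inferInstance
      refine Subgroup.eq_of_le_of_card_ge (fun x hx => ?_) ?_
      · have hxp : x ^ p = 1 := by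
          have : (⟨x, hx⟩ : H) ^ p = 1 := hH ▸ pow_card_eq_one'
          exact congrArg Subtype.val this
        exact mem_zpowers_of_semiregular hp hqp hfree (Subgroup.mem_center_iff.mp z.2 x) hxp hzp hz1
      · rw [Nat.card_zpowers, Subgroup.orderOf_coe, hz, hH]
    rcases Cfsg.Agent.S0016.result p hG (fun H K hH hK => (huni H hH).trans (huni K hK).symm) with h | ⟨-, n, h⟩
    · exact Or.inl h
    · exact Or.inr ⟨_, h⟩
  · have hqp : q ≠ p := by
      intro hqp
      apply hfree
      letI : MulAction G V := MulAction.compHom V ρ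
      have h1 := hG.card_modEq_card_fixedPoints V
      have hV : p ∣ Nat.card V := by
        rw [Module.natCard_eq_pow_finrank (K := ZMod q), Nat.card_zmod, ← hqp]
        exact dvd_pow_self _ (Module.finrank_pos).ne'
      have h2 : p ∣ Nat.card (MulAction.fixedPoints G V) := (Nat.ModEq.dvd_iff h1 dvd_rfl).mp hV
      have h3 : (0 : V) ∈ MulAction.fixedPoints G V := fun g => map_zero (ρ g)
      haveI : Nonempty (MulAction.fixedPoints G V) := ⟨⟨0, h3⟩⟩
      haveI : Nontrivial (MulAction.fixedPoints G V) := Finite.one_lt_card_iff_nontrivial.mp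
        (lt_of_lt_of_le hp.one_lt (Nat.le_of_dvd Nat.card_pos h2))
      obtain ⟨⟨w, hw⟩, hw0⟩ := exists_ne (⟨0, h3⟩ : MulAction.fixedPoints G V)
      have hw1 : w ≠ 0 := fun e => hw0 (Subtype.ext e)
      have hall : ∀ v : V, v ≠ 0 → stab ρ v = ⊤ := by
        intro v hv
        apply Subgroup.eq_top_of_card_eq
        rw [stab_card_eq hhalf hv hw1, Subgroup.card_eq_iff_eq_top]
        exact eq_top_iff.mpr fun g _ => hw g
      intro v hv g hg
      refine hρ (LinearEquiv.ext fun x => ?_)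
      rw [map_one]
      by_cases hx : x = 0
      · simp [hx]
      · exact (hall x hx ▸ Subgroup.mem_top g : g ∈ stab ρ x)
    obtain ⟨N, hN⟩ := IsPGroup.iff_card.mp hG
    have hcard : (Nat.card G : ZMod q) ≠ 0 := by
      rw [ne_eq, ZMod.natCast_eq_zero_iff, hN]
      exact fun h => hqp ((Nat.prime_dvd_prime_iff_eq hqP hp).mp (hqP.dvd_of_dvd_pow h))
    have hirr := irred hρ hcard hhalf hfree
    have hnorm : ¬ ∀ g h : G, g * h = h * g := fun hcomm => hfree fun v hv g hg =>
      free_of_normal hρ hirr (fun h => ⟨1, by rw [zpow_one]; exact hcomm g h⟩) hv hg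
    have hnc : ¬ IsCyclic G := fun h => hnorm fun g k => (IsCyclic.commGroup (α := G)).mul_comm g k
    have hnq : ∀ n : ℕ, ¬ Nonempty (G ≃* QuaternionGroup n) := by
      rintro n ⟨e⟩
      haveI : Finite (QuaternionGroup n) := Finite.of_equiv G e.toEquiv
      haveI : NeZero n := ⟨fun h0 => by
        subst h0
        haveI : Infinite (ZMod (2 * 0)) := inferInstanceAs (Infinite ℤ)
        haveI := Finite.of_injective (QuaternionGroup.a (n := 0)) fun x y h => by cases h; rfl
        exact not_finite (ZMod (2 * 0))⟩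
      have conj : ∀ (g : G) (i : ZMod (2 * n)), e g = QuaternionGroup.a i → ∀ h : G, ∃ l : ℤ, g * h = h * g ^ l := by
        intro g i hi h
        rcases hh : e h with l | l
        · exact ⟨1, e.injective (by rw [map_mul, map_mul, zpow_one, hi, hh, QuaternionGroup.a_mul_a, QuaternionGroup.a_mul_a, add_comm])⟩
        · refine ⟨-1, e.injective ?_⟩
          rw [map_mul, map_mul, map_zpow, hi, hh, zpow_neg_one, QuaternionGroup.a_mul_xa]
          show _ = QuaternionGroup.xa l * QuaternionGroup.a (-i)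
          rw [QuaternionGroup.xa_mul_a, sub_eq_add_neg]
      apply hfree
      intro v hv g hg
      rcases hh : e g with i | i
      · exact free_of_normal hρ hirr (conj g i hh) hv hg
      · exfalso
        have h2 : e (g * g) = QuaternionGroup.a (n : ZMod (2 * n)) := by
          rw [map_mul, hh, QuaternionGroup.xa_mul_xa, add_sub_cancel_right]
        have hfix : ρ (g * g) v = v := by rw [map_mul, LinearEquiv.mul_apply, hg, hg]
        have h3 := free_of_normal hρ hirr (conj _ _ h2) hv hfix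
        rw [h3, map_one, QuaternionGroup.one_def] at h2
        injection h2 with h4
        have h5 := (ZMod.natCast_eq_zero_iff n (2 * n)).mp h4.symm
        have := Nat.le_of_dvd (NeZero.pos n) h5
        have := NeZero.pos n
        omega
    by_cases hD : ∃ n : ℕ, Nonempty (G ≃* DihedralGroup n)
    · obtain ⟨n, ⟨e⟩⟩ := hD
      have hn0 : Nat.card G = 2 * n := by rw [Nat.card_congr e.toEquiv, DihedralGroup.nat_card]
      have hp2 : p = 2 := by
        have hGne : Nat.card G ≠ 0 := Nat.card_pos.ne'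
        have : 2 ∣ p ^ N := hN ▸ hn0 ▸ dvd_mul_right 2 n
        exact ((Nat.prime_dvd_prime_iff_eq Nat.prime_two hp).mp (Nat.prime_two.dvd_of_dvd_pow this)).symm
      rw [hp2] at hN
      rcases N with _ | N
      · omega
      have hn : n = 2 ^ N := by rw [pow_succ'] at hN; omega
      rcases N with _ | _ | j
      · exfalso; subst hn; apply hnorm; intro g h; apply e.injective; rw [map_mul, map_mul]
        revert h; generalize e g = a; intro h; generalize e h = b
        revert a b; decide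
      · exfalso; subst hn; apply hnorm; intro g h; apply e.injective; rw [map_mul, map_mul]
        revert h; generalize e g = a; intro h; generalize e h = b
        revert a b; decide
      subst hn
      have hxy : e.symm (DihedralGroup.sr 0) * e.symm (DihedralGroup.r 1) * (e.symm (DihedralGroup.sr 0))⁻¹
          = e.symm (DihedralGroup.r 1) ^ (-1 : ℤ) := by
        rw [← map_mul, ← map_inv, ← map_mul, zpow_neg_one, ← map_inv]
        congr 1
        simp [DihedralGroup.sr_mul_r, DihedralGroup.inv_sr, DihedralGroup.sr_mul_sr, DihedralGroup.inv_r]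
      have hres := two_gen (hp2 ▸ hqp) hρ hhalf hfree hirr j (j + 2) 1 (e.symm (DihedralGroup.r 1))
        (e.symm (DihedralGroup.sr 0)) (by ring) one_pos (by rw [e.symm.orderOf_eq, DihedralGroup.orderOf_r_one])
        (by rw [hN]) (by rw [← map_pow, pow_two, DihedralGroup.sr_mul_self, map_one]) (-1) hxy ⟨0, by norm_num⟩
        (fun i => by simp)
      exact Or.inr (Or.inl ⟨hres.1, j + 2, by omega, Or.inl ⟨e⟩⟩)
    by_cases hQ : Cfsg.IsQuasiDihedral G
    · obtain ⟨n, hn, hcG, x, y, hx, hy, hxy⟩ := id hQ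
      have hp2 : p = 2 := by
        have : 2 ∣ p ^ N := hN ▸ hcG ▸ dvd_pow_self 2 (by omega)
        exact ((Nat.prime_dvd_prime_iff_eq Nat.prime_two hp).mp (Nat.prime_two.dvd_of_dvd_pow this)).symm
      obtain ⟨j, rfl⟩ : ∃ j, n = j + 3 := ⟨n - 3, by omega⟩
      have hres := two_gen (hp2 ▸ hqp) hρ hhalf hfree hirr (j + 1) (j + 2) 2 x y (by ring) two_pos hx hcG
        (by rw [← hy]; exact pow_orderOf_eq_one y) (2 ^ (j + 2) - 1) (by
          rw [hxy, show j + 3 - 1 = j + 2 from rfl, ← zpow_natCast, Nat.cast_sub Nat.one_le_two_pow]; push_cast; rfl)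
        ⟨-2 ^ j, by ring⟩ (fun i => by
          rw [add_sub_cancel, show (2 : ℤ) ^ (j + 1 + 2) = 2 ^ (j + 2) * 2 by ring, mul_comm i]
          exact mul_dvd_mul_iff_left (by positivity))
      exact Or.inr (Or.inl ⟨hres.1, j + 2, by omega, Or.inr ⟨hQ, hcG⟩⟩)
    push Not at hD
    obtain ⟨H, W, hH, hsup, hind, hHW, hker, hcyc⟩ :=
      Cfsg.Agent.S3380.result q p hG ρ hρ hirr hnc hnq (fun n h => not_isEmpty_iff.mpr h (hD n)) hQ
    have hmap : ∀ g : G, g ∉ H → ∀ σ : Equiv.Perm (Fin p),
        (∀ i, (W i).map (ρ g : V →ₗ[ZMod q] V) = W (σ i)) → ∀ i, ∀ w ∈ W i, ρ g w ∈ W (σ i) :=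
      fun g _ σ hσ i w hw => hσ i ▸ Submodule.mem_map_of_mem hw
    have hcomp : ∀ k, ∀ x ∈ W k, ∀ y ∈ ⨆ (l) (_ : l ≠ k), W l, x = y → x = 0 := by
      intro k x hx y hy e
      exact Submodule.disjoint_def.mp (hind k) x hx (e ▸ hy)
    have hsub : ∀ k l, l ≠ k → W l ≤ ⨆ (l') (_ : l' ≠ k), W l' := fun k l h => le_iSup₂ (f := fun l' (_ : l' ≠ k) => W l') l h
    have hWne : ∀ i, W i ≠ ⊥ := by
      intro i hi
      obtain ⟨g, hg⟩ : ∃ g : G, g ∉ H := by
        by_contra h; push Not at h
        rw [(eq_top_iff.mpr fun g _ => h g : H = ⊤), Subgroup.index_top] at hH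
        exact hp.one_lt.ne hH
      obtain ⟨σ, hσ, hW⟩ := hcyc g hg
      have hc : σ.IsCycle := Equiv.Perm.isCycle_of_prime_order (by rw [hσ]; exact hp) (by
        rw [hσ]; have := le_trans (Finset.card_le_univ σ.support) (Fintype.card_fin p).le; have := hp.pos; omega)
      have hall : ∀ l : ℕ, W ((σ ^ l) i) = ⊥ := by
        intro l
        induction l with
        | zero => simpa using hi
        | succ l ih => rw [pow_succ', Equiv.Perm.mul_apply, ← hW, ih, Submodule.map_bot]
      apply top_ne_bot (α := Submodule (ZMod q) V)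
      rw [← hsup, iSup_eq_bot]
      intro k
      obtain ⟨l, hl⟩ := hc.exists_pow_eq (no_fixed hp σ hσ i) (no_fixed hp σ hσ k)
      exact hl ▸ hall l
    have hstabH : ∀ i, ∀ a ∈ W i, a ≠ 0 → ∀ g, g ∈ stab ρ a → g ∈ H := by
      intro i a ha ha0 g hg
      by_contra hgH
      obtain ⟨σ, hσ, hW⟩ := hcyc g hgH
      have h1 := hmap g hgH σ hW i a ha
      rw [mem_stab.mp hg] at h1
      exact ha0 (hcomp _ _ h1 a (hsub _ i (no_fixed hp σ hσ i).symm ha) rfl)
    have hsum : ∀ i j, i ≠ j → ∀ a ∈ W i, ∀ b ∈ W j, ∀ g ∈ H, g ∈ stab ρ (a + b) → g ∈ stab ρ a ∧ g ∈ stab ρ b := by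
      intro i j hij a ha b hb g hg hfix
      rw [mem_stab, map_add] at hfix
      have e : ρ g a - a = b - ρ g b := by linear_combination (norm := module) hfix
      have h0 := hcomp i _ ((W i).sub_mem (hHW g hg i a ha) ha) _
        (hsub i j (Ne.symm hij) ((W j).sub_mem hb (hHW g hg j b hb))) e
      rw [h0] at e
      exact ⟨sub_eq_zero.mp h0, (sub_eq_zero.mp e.symm).symm⟩
    have hne2 : ∀ i j, i ≠ j → ∀ a ∈ W i, ∀ b ∈ W j, a ≠ 0 → a + b ≠ 0 := fun i j hij a ha b hb ha0 e =>
      ha0 (hcomp i a ha (-b) (hsub i j (Ne.symm hij) ((W j).neg_mem hb)) (eq_neg_of_add_eq_zero_left e))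
    have hext : ∀ g h : G, (∀ i, ∀ w ∈ W i, ρ g w = ρ h w) → g = h := by
      intro g h hgh
      refine hρ (LinearEquiv.ext fun x => ?_)
      have hx : x ∈ ⨆ i, W i := hsup ▸ Submodule.mem_top
      refine Submodule.iSup_induction W (motive := fun y => ρ g y = ρ h y) hx hgh (by simp) (fun a b ha hb => by rw [map_add, map_add, ha, hb])
    by_cases hp2 : p = 2
    swap
    · exfalso
      apply hfree
      obtain ⟨i0, i1, hi01⟩ : ∃ i j : Fin p, i ≠ j :=
        ⟨⟨0, hp.pos⟩, ⟨1, hp.one_lt⟩, fun e => by simpa using congrArg Fin.val e⟩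
      have heq : ∀ i j, i ≠ j → ∀ a ∈ W i, a ≠ 0 → ∀ b ∈ W j, b ≠ 0 → stab ρ a = stab ρ b := by
        intro i j hij a ha ha0 b hb hb0
        have hle : ∀ g ∈ stab ρ (a + b), g ∈ stab ρ a ∧ g ∈ stab ρ b := by
          intro g hg
          refine hsum i j hij a ha b hb g ?_ hg
          by_contra hgH
          obtain ⟨σ, hσ, hW⟩ := hcyc g hgH
          have hga := hmap g hgH σ hW i a ha
          have hgb := hmap g hgH σ hW j b hb
          rw [mem_stab, map_add] at hg
          have hnf := no_fixed hp σ hσ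
          have m1 : σ i = j := by
            by_contra hne
            refine ha0 ((ρ g).map_eq_zero_iff.mp (hcomp (σ i) _ hga (a + b - ρ g b) ?_ ?_))
            · exact Submodule.sub_mem _ (Submodule.add_mem _ (hsub _ i (hnf i).symm ha) (hsub _ j (Ne.symm hne) hb))
                (hsub _ (σ j) (fun e => hij (σ.injective e).symm) hgb)
            · linear_combination (norm := module) hg
          have m2 : σ j = i := by
            by_contra hne
            refine hb0 ((ρ g).map_eq_zero_iff.mp (hcomp (σ j) _ hgb (a + b - ρ g a) ?_ ?_))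
            · exact Submodule.sub_mem _ (Submodule.add_mem _ (hsub _ i (Ne.symm hne) ha) (hsub _ j (hnf j).symm hb))
                (hsub _ (σ i) (fun e => hij (σ.injective e)) hga)
            · linear_combination (norm := module) hg
          have h2 : (σ ^ 2) i = i := by rw [pow_two, Equiv.Perm.mul_apply, m1, m2]
          refine no_fixed hp (σ ^ 2) ?_ i h2
          rw [Nat.Coprime.orderOf_pow (by rw [hσ]; exact (Nat.coprime_primes hp Nat.prime_two).mpr hp2), hσ]
        have hab := hne2 i j hij a ha b hb ha0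
        have e1 := Subgroup.eq_of_le_of_card_ge (fun g hg => (hle g hg).1) (stab_card_eq hhalf ha0 hab).le
        have e2 := Subgroup.eq_of_le_of_card_ge (fun g hg => (hle g hg).2) (stab_card_eq hhalf hb0 hab).le
        exact e1.symm.trans e2
      intro v hv g hg
      obtain ⟨a0, ha0, ha00⟩ := (W i0).ne_bot_iff.mp (hWne i0)
      obtain ⟨a1, ha1, ha10⟩ := (W i1).ne_bot_iff.mp (hWne i1)
      have hS : ∀ k, ∀ w ∈ W k, w ≠ 0 → stab ρ w = stab ρ a0 := by
        intro k w hw hw0
        by_cases hk : k = i0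
        · subst hk; rw [heq k i1 hi01 w hw hw0 a1 ha1 ha10, ← heq k i1 hi01 a0 ha0 ha00 a1 ha1 ha10]
        · exact heq k i0 hk w hw hw0 a0 ha0 ha00
      have hbot : stab ρ a0 = ⊥ := (Subgroup.eq_bot_iff_forall _).mpr fun g hg => hext g 1 fun k w hw => by
        rw [map_one]
        by_cases hw0 : w = 0
        · simp [hw0]
        · exact mem_stab.mp (hS k w hw hw0 ▸ hg)
      haveI : Subsingleton (stab ρ v) := by
        rw [← Finite.card_le_one_iff_subsingleton, stab_card_eq hhalf hv ha00, hbot, Subgroup.card_bot]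
      exact congrArg Subtype.val (Subsingleton.elim (⟨g, hg⟩ : stab ρ v) 1)
    subst hp2
    have hq2 : q ≠ 2 := hqp
    haveI : H.Normal := Subgroup.normal_of_index_eq_two hH
    choose kk hkH hk1 hkfix using hker
    have hswap : ∀ g ∉ H, ∀ i j : Fin 2, i ≠ j → (W i).map (ρ g : V →ₗ[ZMod q] V) = W j := by
      intro g hg i j hij
      obtain ⟨σ, hσ, hW⟩ := hcyc g hg
      rw [hW i]
      congr 1
      have := no_fixed hp σ hσ i
      revert this hij
      generalize σ i = k
      revert i j k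
      decide
    have other : ∀ i j : Fin 2, i ≠ j → ∀ k, k = i ∨ k = j := by decide
    have hext2 : ∀ i j : Fin 2, i ≠ j → ∀ g h : G, (∀ w ∈ W i, ρ g w = ρ h w) → (∀ w ∈ W j, ρ g w = ρ h w) → g = h := by
      intro i j hij g h hi hj
      refine hext g h fun k w hw => ?_
      rcases other i j hij k with rfl | rfl
      · exact hi w hw
      · exact hj w hw
    have hside : ∀ i j : Fin 2, i ≠ j → ∀ a ∈ W i, a ≠ 0 → ∀ h ∈ stab ρ a,
        (∀ b ∈ W j, ρ h b = b) ∨ (∀ b ∈ W j, ρ h b = ρ (kk i) b) := by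
      intro i j hij a ha ha0 h hh
      have hhH := hstabH i a ha ha0 h hh
      have hk : kk i ∈ stab ρ a := hkfix i a ha
      let l : W j →ₗ[ZMod q] W j := (ρ (kk i) : V →ₗ[ZMod q] V).restrict (fun x hx => hHW _ (hkH i) j x hx)
      let m : W j →ₗ[ZMod q] W j := (ρ h : V →ₗ[ZMod q] V).restrict (fun x hx => hHW _ hhH j x hx)
      have key : ∀ x : W j, l x ≠ x → m x = x ∨ m x = l x := by
        intro x hx
        have hx0 : (x : V) ≠ 0 := fun e => hx (Subtype.ext (by
          show ρ (kk i) (x : V) = (x : V); rw [e, map_zero]))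
        by_cases hm : ρ h (x : V) = (x : V)
        · exact Or.inl (Subtype.ext hm)
        refine Or.inr (Subtype.ext ?_)
        show ρ h (x : V) = ρ (kk i) (x : V)
        have hab := hne2 i j hij a ha x x.2 ha0
        let I := (stab ρ (x : V)).subgroupOf (stab ρ a)
        have hI : I.index = 2 := by
          have h1 : Nat.card (stab ρ (a + x)) ≤ 2 * Nat.card I := by
            have e1 := (H.subgroupOf (stab ρ (a + x))).index_mul_card
            have h2 : (H.subgroupOf (stab ρ (a + x))).index ≤ 2 :=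
              Nat.le_of_dvd two_pos (hH ▸ Subgroup.relIndex_dvd_index_of_normal H (stab ρ (a + x)))
            let f : H.subgroupOf (stab ρ (a + x)) → I := fun g =>
              ⟨⟨g.1.1, (hsum i j hij a ha x x.2 _ g.2 g.1.2).1⟩, (hsum i j hij a ha x x.2 _ g.2 g.1.2).2⟩
            have h3 : Nat.card (H.subgroupOf (stab ρ (a + x))) ≤ Nat.card I :=
              Nat.card_le_card_of_injective f fun g g' e => by
                have e' := congrArg (fun u : I => (u.1 : G)) e
                exact Subtype.ext (Subtype.ext e')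
            rw [← e1]
            exact Nat.mul_le_mul h2 h3
          rw [stab_card_eq hhalf hab ha0, ← I.index_mul_card] at h1
          have h4 : I.index ≤ 2 := Nat.le_of_mul_le_mul_right h1 Nat.card_pos
          have h5 : I.index ≠ 1 := fun e => hm (by
            have : (⟨h, hh⟩ : stab ρ a) ∈ I := (Subgroup.index_eq_one.mp e) ▸ Subgroup.mem_top _
            exact this)
          have h6 : I.index ≠ 0 := Subgroup.FiniteIndex.index_ne_zero
          omega
        have h7 : (⟨kk i, hk⟩ : stab ρ a)⁻¹ * ⟨h, hh⟩ ∈ I := (Subgroup.mul_mem_iff_of_index_two hI).mpr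
          (iff_of_false (fun e => hx (Subtype.ext (I.inv_mem_iff.mp e))) hm)
        have h8 : ρ ((kk i)⁻¹ * h) (x : V) = (x : V) := h7
        rw [map_mul, LinearEquiv.mul_apply] at h8
        have h9 := congrArg (ρ (kk i)) h8
        rwa [← LinearEquiv.mul_apply, ← map_mul, mul_inv_cancel, map_one] at h9
      have hl : ∃ x : W j, l x ≠ x := by
        by_contra hcon
        push Not at hcon
        refine hk1 i (hext2 i j hij _ _ (fun w hw => ?_) (fun w hw => ?_))
        · rw [hkfix i w hw, map_one]; rfl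
        · rw [map_one]; exact congrArg Subtype.val (hcon ⟨w, hw⟩)
      rcases eq_one_or_eq hq2 l m hl key with h1 | h1
      · exact Or.inl fun b hb => congrArg Subtype.val (h1 ⟨b, hb⟩)
      · exact Or.inr fun b hb => congrArg Subtype.val (h1 ⟨b, hb⟩)
    have hfour : ∀ i j : Fin 2, i ≠ j → ∀ a ∈ W i, a ≠ 0 → ∀ h ∈ stab ρ a,
        h = 1 ∨ h = kk i ∨ h = kk j ∨ h = kk i * kk j := by
      intro i j hij a ha ha0 h hh
      have hkey : ∀ h ∈ stab ρ a, (∀ b ∈ W j, ρ h b = b) → h = 1 ∨ h = kk j := by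
        intro h hh hfix
        obtain ⟨b, hb, hb0⟩ := (W j).ne_bot_iff.mp (hWne j)
        rcases hside j i hij.symm b hb hb0 h (hfix b hb) with h1 | h1
        · exact Or.inl (hext2 i j hij h 1 (fun w hw => by rw [h1 w hw, map_one]; rfl)
            (fun w hw => by rw [hfix w hw, map_one]; rfl))
        · exact Or.inr (hext2 i j hij h (kk j) h1 (fun w hw => by rw [hfix w hw, hkfix j w hw]))
      rcases hside i j hij a ha ha0 h hh with h1 | h1
      · rcases hkey h hh h1 with e | e
        · exact Or.inl e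
        · exact Or.inr (Or.inr (Or.inl e))
      · have h2 : (kk i)⁻¹ * h ∈ stab ρ a := (stab ρ a).mul_mem ((stab ρ a).inv_mem (hkfix i a ha)) hh
        rcases hkey _ h2 (fun b hb => by rw [map_mul, LinearEquiv.mul_apply, h1 b hb, inv_apply]) with e | e
        · exact Or.inr (Or.inl (inv_mul_eq_one.mp e).symm)
        · exact Or.inr (Or.inr (Or.inr (by rw [← e, mul_inv_cancel_left])))
    have hkne : ∀ i j : Fin 2, i ≠ j → kk i ≠ kk j := fun i j hij e => hk1 i (hext2 i j hij _ _
      (fun w hw => by rw [hkfix i w hw, map_one]; rfl) (fun w hw => by rw [e, hkfix j w hw, map_one]; rfl))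
    have hnofix : ∀ i j : Fin 2, i ≠ j → ∀ a ∈ W i, a ≠ 0 → kk j ∉ stab ρ a := by
      intro i j hij a ha ha0 hka
      apply hk1 j
      refine hext2 i j hij _ _ (fun w hw => ?_) (fun w hw => by rw [hkfix j w hw, map_one]; rfl)
      rw [map_one]
      by_cases hw0 : w = 0
      · simp [hw0]
      by_contra hkw
      have hsubset : (stab ρ w : Set G) ⊆ {1, kk i} := by
        intro h hh
        rcases hfour i j hij w hw hw0 h hh with rfl | rfl | rfl | rfl
        · simp
        · simp
        · exact absurd hh hkw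
        · exact absurd (show kk j ∈ stab ρ w by simpa only [inv_mul_cancel_left] using (stab ρ w).mul_mem ((stab ρ w).inv_mem (hkfix i w hw)) hh) hkw
      have h3 : ({1, kk i, kk j} : Set G) ⊆ (stab ρ a : Set G) := by
        intro h hh
        simp only [Set.mem_insert_iff, Set.mem_singleton_iff] at hh
        rcases hh with rfl | rfl | rfl
        · exact one_mem _
        · exact hkfix i a ha
        · exact hka
      have c1 := Set.ncard_le_ncard hsubset (Set.toFinite _)
      have c3 := Set.ncard_le_ncard h3 (Set.toFinite _)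
      rw [Set.ncard_eq_three.mpr ⟨1, kk i, kk j, (hk1 i).symm, (hk1 j).symm, hkne i j hij, rfl⟩] at c3
      rw [Set.ncard_pair (hk1 i).symm] at c1
      rw [← Nat.card_coe_set_eq] at c1 c3
      have := stab_card_eq hhalf hw0 ha0
      simp only [SetLike.coe_sort_coe] at c1 c3
      omega
    have htwo : ∀ i, ∀ a ∈ W i, a ≠ 0 → ∀ h ∈ stab ρ a, h = 1 ∨ h = kk i := by
      intro i a ha ha0 h hh
      obtain ⟨j, hij⟩ := (show ∀ i : Fin 2, ∃ j, i ≠ j by decide) i
      have hnf := hnofix i j hij a ha ha0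
      rcases hfour i j hij a ha ha0 h hh with e | e | rfl | rfl
      · exact Or.inl e
      · exact Or.inr e
      · exact absurd hh hnf
      · exact absurd (show kk j ∈ stab ρ a by simpa only [inv_mul_cancel_left] using (stab ρ a).mul_mem ((stab ρ a).inv_mem (hkfix i a ha)) hh) hnf
    have hc2 : ∀ i, ∀ a ∈ W i, a ≠ 0 → Nat.card (stab ρ a) = 2 := by
      intro i a ha ha0
      have e : (stab ρ a : Set G) = {1, kk i} := by
        refine subset_antisymm (fun h hh => by simpa using htwo i a ha ha0 h hh) ?_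
        intro h hh
        simp only [Set.mem_insert_iff, Set.mem_singleton_iff] at hh
        rcases hh with rfl | rfl
        · exact one_mem _
        · exact hkfix i a ha
      rw [← SetLike.coe_sort_coe, Nat.card_coe_set_eq, e, Set.ncard_pair (hk1 i).symm]
    have hexch : ∀ a ∈ W 0, a ≠ 0 → ∀ b ∈ W 1, b ≠ 0 → ∃ g, g ∉ H ∧ ρ g a = b ∧ ρ g b = a := by
      intro a ha ha0 b hb hb0
      have hab := hne2 0 1 (by decide) a ha b hb ha0
      haveI : Nontrivial (stab ρ (a + b)) := Finite.one_lt_card_iff_nontrivial.mp (by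
        rw [stab_card_eq hhalf hab ha0, hc2 0 a ha ha0]; omega)
      obtain ⟨⟨g, hg⟩, hg1⟩ := exists_ne (1 : stab ρ (a + b))
      have hgH : g ∉ H := fun hgH => by
        obtain ⟨h1, h2⟩ := hsum 0 1 (by decide) a ha b hb g hgH hg
        rcases htwo 0 a ha ha0 g h1 with e | e
        · exact hg1 (Subtype.ext e)
        · exact hnofix 1 0 (by decide) b hb hb0 (e ▸ h2)
      have hga : ρ g a ∈ W 1 := hswap g hgH 0 1 (by decide) ▸ Submodule.mem_map_of_mem ha
      have hgb : ρ g b ∈ W 0 := hswap g hgH 1 0 (by decide) ▸ Submodule.mem_map_of_mem hb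
      rw [mem_stab, map_add] at hg
      have e : ρ g a - b = a - ρ g b := by linear_combination (norm := module) hg
      have h0 := hcomp 1 _ ((W 1).sub_mem hga hb) _ (hsub 1 0 (by decide) ((W 0).sub_mem ha hgb)) e
      rw [h0] at e
      exact ⟨g, hgH, sub_eq_zero.mp h0, (sub_eq_zero.mp e.symm).symm⟩
    obtain ⟨g0, hg0⟩ : ∃ g : G, g ∉ H := by
      by_contra h; push Not at h
      rw [(eq_top_iff.mpr fun g _ => h g : H = ⊤), Subgroup.index_top] at hH
      omega
    obtain ⟨a, ha, ha0⟩ := (W 0).ne_bot_iff.mp (hWne 0)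
    set b := ρ g0 a with hb_def
    have hb : b ∈ W 1 := hswap g0 hg0 0 1 (by decide) ▸ Submodule.mem_map_of_mem ha
    have hb0 : b ≠ 0 := fun e => ha0 ((ρ g0).map_eq_zero_iff.mp e)
    have htrans : ∀ x ∈ W 0, x ≠ 0 → ∃ h ∈ H, ρ h a = x := by
      intro x hx hx0
      obtain ⟨g, hg, hgx, hgb⟩ := hexch x hx hx0 b hb hb0
      exact ⟨g * g0, (Subgroup.mul_mem_iff_of_index_two hH).mpr (iff_of_false hg hg0), by
        rw [map_mul, LinearEquiv.mul_apply, ← hb_def, hgb]⟩
    have hW0 : ∃ m, Nat.card (W 0) = 2 ^ m + 1 := by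
      have h1 := orbit_mul_stab (ρ := ρ.comp H.subtype) a
      have hset : {u : V | ∃ g : H, (ρ.comp H.subtype) g a = u} = (W 0 : Set V) \ {0} := by
        ext u
        constructor
        · rintro ⟨g, rfl⟩
          exact ⟨hHW g.1 g.2 0 a ha, fun e => ha0 ((ρ g.1).map_eq_zero_iff.mp e)⟩
        · rintro ⟨hu, hu0⟩
          obtain ⟨h, hh, e⟩ := htrans u hu hu0
          exact ⟨⟨h, hh⟩, e⟩
      rw [hset, Nat.card_coe_set_eq, Set.ncard_diff_singleton_of_mem (W 0).zero_mem, ← Nat.card_coe_set_eq] at h1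
      obtain ⟨n, hn⟩ := IsPGroup.iff_card.mp (hG.to_subgroup H)
      rw [hn] at h1
      obtain ⟨m, -, hm⟩ := (Nat.dvd_prime_pow Nat.prime_two).mp (Dvd.intro _ h1)
      refine ⟨m, ?_⟩
      have : 0 < Nat.card (W 0) := Nat.card_pos
      simp only [SetLike.coe_sort_coe] at hm
      omega
    obtain ⟨m, hm⟩ := hW0
    obtain ⟨d, hd⟩ : ∃ d, Nat.card (W 0) = q ^ d := ⟨_, by rw [Module.natCard_eq_pow_finrank (K := ZMod q), Nat.card_zmod]⟩
    have hd1 : 1 ≤ d := by
      rcases d with _ | d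
      · rw [pow_zero] at hd; rw [hd] at hm; have := Nat.one_le_two_pow (n := m); omega
      · omega
    have hW1 : Nat.card (W 1) = q ^ d := by
      rw [← hd, ← hswap g0 hg0 0 1 (by decide)]
      exact (Nat.card_congr (Submodule.equivMapOfInjective (ρ g0 : V →ₗ[ZMod q] V) (ρ g0).injective (W 0)).toEquiv).symm
    have hcompl : IsCompl (W 0) (W 1) := by
      refine ⟨hind.pairwiseDisjoint (by decide), codisjoint_iff.mpr (eq_top_iff.mpr ?_)⟩
      rw [← hsup, iSup_le_iff]
      intro i
      rcases other 0 1 (by decide) i with rfl | rfl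
      · exact le_sup_left
      · exact le_sup_right
    have hV : Nat.card V = q ^ d * q ^ d := by
      rw [← Nat.card_congr (Submodule.prodEquivOfIsCompl (W 0) (W 1) hcompl).toEquiv, Nat.card_prod, hd, hW1]
    have hq3 : 3 ≤ q := by have := hqP.two_le; omega
    rcases fermat hq3 hd1 (hd ▸ hm) with rfl | ⟨rfl, rfl⟩
    swap
    · exact Or.inr (Or.inr (Or.inr ⟨by rw [hV]; norm_num, rfl, rfl⟩))
    rw [pow_one] at hd hW1 hV
    refine Or.inr (Or.inr (Or.inl ⟨by rw [hV, pow_two], ⟨m, hd ▸ hm⟩, ?_⟩))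
    have hline : ∀ (i : Fin 2) (u : V), u ∈ W i → u ≠ 0 → Nat.card (W i) = q → ∀ x ∈ W i, ∃ c : ZMod q, x = c • u := by
      intro i u hu hu0 hc x hx
      let f : ZMod q → W i := fun c => ⟨c • u, (W i).smul_mem c hu⟩
      have hf : Function.Injective f := fun c c' e => smul_left_injective _ hu0 (congrArg Subtype.val e)
      obtain ⟨c, hc'⟩ := (hf.bijective_of_nat_card_le (by rw [Nat.card_zmod, hc])).surjective ⟨x, hx⟩
      exact ⟨c, (congrArg Subtype.val hc').symm⟩
    let Φ : (Fin 2 → ZMod q) →ₗ[ZMod q] V :=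
      (LinearMap.proj 0 : (Fin 2 → ZMod q) →ₗ[ZMod q] ZMod q).smulRight a + (LinearMap.proj 1).smulRight b
    have hΦ : ∀ v, Φ v = v 0 • a + v 1 • b := fun v => by simp [Φ]
    have hΦb : Function.Bijective Φ := by
      refine Function.Injective.bijective_of_nat_card_le ?_ (by rw [hV, Nat.card_fun, Nat.card_fin, Nat.card_zmod, pow_two])
      rw [← LinearMap.ker_eq_bot, LinearMap.ker_eq_bot']
      intro v hv
      rw [hΦ] at hv
      have h0 := hcomp 0 _ ((W 0).smul_mem (v 0) ha) _ (hsub 0 1 (by decide) ((W 1).neg_mem ((W 1).smul_mem (v 1) hb)))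
        (eq_neg_of_add_eq_zero_left hv)
      rw [h0, zero_add] at hv
      funext i
      rcases other 0 1 (by decide) i with rfl | rfl
      · exact (smul_eq_zero.mp h0).resolve_right ha0
      · exact (smul_eq_zero.mp hv).resolve_right hb0
    let e := (LinearEquiv.ofBijective Φ hΦb).symm
    have hesymm : ∀ v, e.symm v = v 0 • a + v 1 • b := fun v => by simp [e, hΦ]
    have hconj : ∀ (g : G) (f : (Fin 2 → ZMod q) ≃ₗ[ZMod q] (Fin 2 → ZMod q)),
        f = e.symm.trans ((ρ g).trans e) ↔ ∀ v, e.symm (f v) = v 0 • ρ g a + v 1 • ρ g b := by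
      intro g f
      constructor
      · rintro rfl v
        simp [hesymm v]
      · intro h
        refine LinearEquiv.ext fun v => e.symm.injective ?_
        rw [h v]; simp [hesymm v]
    have hneg : ∀ i j : Fin 2, i ≠ j → ∀ u ∈ W j, u ≠ 0 → Nat.card (W j) = q → ρ (kk i) u = -u := by
      intro i j hij u hu hu0 hc
      obtain ⟨c, hcu⟩ := hline j u hu hu0 hc _ (hHW _ (hkH i) j u hu)
      have hsq : kk i * kk i = 1 := by
        rcases htwo i _ ((W i).smul_mem (1 : ZMod q) (show (if i = 0 then a else b) ∈ W i by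
            rcases other 0 1 (by decide) i with rfl | rfl <;> simp [ha, hb]))
          (by rw [one_smul]; split <;> assumption) (kk i * kk i)
          ((stab ρ _).mul_mem (hkfix i _ (by rw [one_smul]; rcases other 0 1 (by decide) i with rfl | rfl <;> simp [ha, hb]))
            (hkfix i _ (by rw [one_smul]; rcases other 0 1 (by decide) i with rfl | rfl <;> simp [ha, hb]))) with e1 | e1
        · exact e1
        · exact absurd (mul_eq_left.mp e1) (hk1 i)
      have h2 : (c * c) • u = (1 : ZMod q) • u := by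
        rw [one_smul]
        conv_rhs => rw [show u = ρ (kk i * kk i) u by rw [hsq, map_one]; rfl]
        rw [map_mul, LinearEquiv.mul_apply, hcu, map_smul, hcu, smul_smul]
      rcases mul_self_eq_one_iff.mp (smul_left_injective _ hu0 h2) with e1 | e1
      · exact absurd (mem_stab.mpr (by rw [hcu, e1, one_smul])) (hnofix j i hij.symm u hu hu0)
      · rw [hcu, e1, neg_one_smul]
    have hk0b : ρ (kk 0) b = -b := hneg 0 1 (by decide) b hb hb0 hW1
    have hk0a : ρ (kk 0) a = a := hkfix 0 a ha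
    obtain ⟨γ, hγ⟩ := hline 0 a ha ha0 hd _ (hswap g0 hg0 1 0 (by decide) ▸ Submodule.mem_map_of_mem hb)
    replace hγ : ρ g0 b = γ • a := hγ
    have hall : ∀ t : ZMod q, t ≠ 0 → ∃ g : G, g ∉ H ∧ ρ g a = t • b ∧ ρ g b = t⁻¹ • a := by
      intro t ht
      obtain ⟨g, hg, h1, h2⟩ := hexch a ha ha0 (t • b) ((W 1).smul_mem t hb) (smul_ne_zero ht hb0)
      refine ⟨g, hg, h1, ?_⟩
      rw [map_smul] at h2
      rw [← h2, smul_smul, inv_mul_cancel₀ ht, one_smul]
    have hγ1 : γ = 1 ∨ γ = -1 := by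
      obtain ⟨g, hg, h1, h2⟩ := hall 1 one_ne_zero
      rw [one_smul] at h1
      rw [inv_one, one_smul] at h2
      rcases htwo 0 a ha ha0 (g⁻¹ * g0) (by rw [mem_stab, map_mul, LinearEquiv.mul_apply, ← hb_def, ← h1, inv_apply]) with e1 | e1
      · rw [inv_mul_eq_one] at e1; subst e1
        exact Or.inl (smul_left_injective _ ha0 (show γ • a = (1 : ZMod q) • a by rw [← hγ, h2, one_smul]))
      · right
        have e2 : g0 = g * kk 0 := by rw [← e1, mul_inv_cancel_left]
        rw [e2, map_mul, LinearEquiv.mul_apply, hk0b, map_neg, h2] at hγ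
        exact smul_left_injective _ ha0 (show γ • a = (-1 : ZMod q) • a by rw [← hγ, neg_one_smul])
    have hform : ∀ g : G, g ∉ H → ∃ t s : ZMod q, t ≠ 0 ∧ (s = 1 ∨ s = -1) ∧ ρ g a = t • b ∧ ρ g b = (s * t⁻¹) • a := by
      intro g hg
      have hga : ρ g a ∈ W 1 := hswap g hg 0 1 (by decide) ▸ Submodule.mem_map_of_mem ha
      obtain ⟨t, ht⟩ := hline 1 b hb hb0 hW1 _ hga
      have ht0 : t ≠ 0 := fun e1 => ha0 ((ρ g).map_eq_zero_iff.mp (by rw [ht, e1, zero_smul]))
      obtain ⟨g', hg', h1, h2⟩ := hall t ht0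
      rcases htwo 0 a ha ha0 (g'⁻¹ * g) (by rw [mem_stab, map_mul, LinearEquiv.mul_apply, ht, ← h1, inv_apply]) with e1 | e1
      · rw [inv_mul_eq_one] at e1; subst e1
        exact ⟨t, 1, ht0, Or.inl rfl, ht, by rw [h2, one_mul]⟩
      · have e2 : g = g' * kk 0 := by rw [← e1, mul_inv_cancel_left]
        exact ⟨t, -1, ht0, Or.inr rfl, ht, by
          rw [e2, map_mul, LinearEquiv.mul_apply, hk0b, map_neg, h2, neg_one_mul, neg_smul]⟩
    refine ⟨e, fun f => ?_⟩
    constructor
    · rintro ⟨g, hfg⟩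
      rw [hconj] at hfg
      by_cases hg : g ∈ H
      · obtain ⟨t, s, ht, hs, h1, h2⟩ := hform (g0 * g) (fun h => hg0 (by simpa using H.mul_mem h (H.inv_mem hg)))
        rw [map_mul, LinearEquiv.mul_apply] at h1 h2
        obtain ⟨α, hα⟩ := hline 0 a ha ha0 hd _ (hHW g hg 0 a ha)
        obtain ⟨β, hβ⟩ := hline 1 b hb hb0 hW1 _ (hHW g hg 1 b hb)
        rw [hα, map_smul, ← hb_def] at h1
        rw [hβ, map_smul, hγ, smul_smul] at h2
        have e1 : α = t := smul_left_injective _ hb0 h1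
        have e2 : β * γ = s * t⁻¹ := smul_left_injective _ ha0 h2
        refine ⟨α, s * γ, e1 ▸ ht, ?_, Or.inl fun v => e.symm.injective ?_⟩
        · rcases hs with rfl | rfl <;> rcases hγ1 with rfl | rfl <;> simp
        · have hg2 : γ * γ = 1 := by rcases hγ1 with rfl | rfl <;> simp
          have e3 : β = s * γ * α⁻¹ := by
            rw [e1, mul_right_comm, ← e2, mul_assoc, hg2, mul_one]
          rw [hfg, hesymm, hα, hβ, smul_smul, smul_smul, e3]
          simp [mul_comm]
      · obtain ⟨t, s, ht, hs, h1, h2⟩ := hform g hg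
        refine ⟨t, s, ht, hs, Or.inr fun v => e.symm.injective ?_⟩
        rw [hfg, hesymm, h1, h2, smul_smul, smul_smul, add_comm]
        simp [mul_comm]
    · rintro ⟨t, s, ht, hs, hf | hf⟩
      · obtain ⟨g, hg, h1, h2⟩ := hall t ht
        -- the diagonal map is `g0⁻¹` after a map from `hall`, up to sign
        have hdiag : ρ (g0⁻¹ * g) a = t • a ∧ ρ (g0⁻¹ * g) b = (γ * t⁻¹) • b := by
          constructor
          · rw [map_mul, LinearEquiv.mul_apply, h1, map_smul, hb_def, inv_apply]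
          · have hg2 : γ * γ = 1 := by rcases hγ1 with rfl | rfl <;> simp
            have ea : ρ g0⁻¹ a = γ • b := by
              have := congrArg (fun x => γ • ρ g0⁻¹ x) hγ
              simp only [inv_apply, map_smul, smul_smul, hg2, one_smul] at this
              exact this.symm
            rw [map_mul, LinearEquiv.mul_apply, h2, map_smul, ea, smul_smul, mul_comm]
        by_cases hsγ : s = γ
        · refine ⟨g0⁻¹ * g, (hconj _ _).mpr fun v => ?_⟩
          rw [hf, hesymm, hdiag.1, hdiag.2, smul_smul, smul_smul, hsγ]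
          simp [mul_comm]
        · have hs' : s = -γ := by rcases hs with rfl | rfl <;> rcases hγ1 with rfl | rfl <;> first | exact absurd rfl hsγ | simp
          refine ⟨g0⁻¹ * g * kk 0, (hconj _ _).mpr fun v => ?_⟩
          have e1 : ρ (g0⁻¹ * g * kk 0) a = t • a := by rw [map_mul _ _ (kk 0), LinearEquiv.mul_apply, hk0a, hdiag.1]
          have e2 : ρ (g0⁻¹ * g * kk 0) b = -((γ * t⁻¹) • b) := by
            rw [map_mul _ _ (kk 0), LinearEquiv.mul_apply, hk0b, map_neg, hdiag.2]
          rw [hf, hesymm, e1, e2, smul_smul, hs', ← neg_smul, smul_smul]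
          simp [mul_comm]
      · obtain ⟨g, hg, h1, h2⟩ := hall t ht
        rcases hs with rfl | rfl
        · refine ⟨g, (hconj _ _).mpr fun v => ?_⟩
          rw [hf, hesymm, h1, h2, smul_smul, smul_smul, add_comm]
          simp [mul_comm]
        · refine ⟨g * kk 0, (hconj _ _).mpr fun v => ?_⟩
          have e2 : ρ (g * kk 0) b = -(t⁻¹ • a) := by rw [map_mul, LinearEquiv.mul_apply, hk0b, map_neg, h2]
          have e1 : ρ (g * kk 0) a = t • b := by rw [map_mul, LinearEquiv.mul_apply, hk0a, h1]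
          rw [hf, hesymm, e1, e2, smul_smul, ← neg_smul, smul_smul, add_comm]
          simp [mul_comm]

end Cfsg.Agent.S3371
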