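import Cfsg.Statements.S1160
import Cfsg.Agent.S3371

set_option autoImplicit false
open Cfsg

namespace Cfsg.Agent.S1160

/-- Let `p ≠ 2` be prime and `P` a finite `p`-group acting faithfully by additive automorphisms on a finite elementary abelian `q`-group `E` (`q` prime), such that `|P_a|` is the same for all `a ≠ 0`. Then `P` is cyclic and every non-identity element of `P` fixes only `0`. -/
theorem result {P E : Type*} [Group P] [Finite P]
    [AddCommGroup E] [Finite E] [DistribMulAction P E] [FaithfulSMul P E]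
    {p q : ℕ} [Fact p.Prime] (hp2 : p ≠ 2) (hP : IsPGroup p P) (hq : q.Prime) (hE : ∀ e : E, q • e = 0)
    (hconst : ∀ a b : E, a ≠ 0 → b ≠ 0 →
      Nat.card (MulAction.stabilizer P a) = Nat.card (MulAction.stabilizer P b)) :
    IsCyclic P ∧ ∀ g : P, g ≠ 1 → ∀ a : E, g • a = a → a = 0 := by
  classical
  haveI : Fact q.Prime := ⟨hq⟩
  haveI : Module (ZMod q) E := AddCommGroup.zmodModule hE
  rcases subsingleton_or_nontrivial E with hs | hnt
  · haveI : Subsingleton P := ⟨fun a b => eq_of_smul_eq_smul fun e : E => Subsingleton.elim _ _⟩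
    exact ⟨inferInstance, fun g hg => absurd (Subsingleton.elim g 1) hg⟩
  haveI : SMulCommClass P (ZMod q) E := ⟨fun g c x => ZMod.map_smul (DistribSMul.toAddMonoidHom E g) c x⟩
  let ρ : P →* (E ≃ₗ[ZMod q] E) := DistribMulAction.toModuleAut (ZMod q) E
  have hρ : Function.Injective ρ := fun a b h => eq_of_smul_eq_smul fun e : E => LinearEquiv.congr_fun h e
  have hhalf : ∀ v w : E, v ≠ 0 → w ≠ 0 → Nat.card {u : E | ∃ g : P, ρ g v = u} =
      Nat.card {u : E | ∃ g : P, ρ g w = u} := by
    intro v w hv hw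
    have h1 := (MulAction.stabilizer P v).index_mul_card
    have h2 := (MulAction.stabilizer P w).index_mul_card
    rw [MulAction.index_stabilizer] at h1 h2
    rw [← h2, hconst v w hv hw] at h1
    exact Nat.eq_of_mul_eq_mul_right (Nat.card_pos (α := MulAction.stabilizer P w)) h1
  have hp2' : Odd p := (Fact.out : p.Prime).odd_of_ne_two hp2
  have hoddP : Odd (Nat.card P) := by
    obtain ⟨k, hk⟩ := hP.exists_card_eq
    rw [hk]; exact hp2'.pow
  rcases S3371.result q p hP ρ hρ hhalf with ⟨hc, hfree⟩ | ⟨-, m, -, hd | ⟨-, hcard⟩⟩ | ⟨-, -, e, he⟩ | ⟨-, -, h⟩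
  · refine ⟨?_, fun g hg a ha => by_contra fun ha0 => hg (hfree a ha0 g ha)⟩
    rcases hc with hc | ⟨n, ⟨f⟩⟩
    · exact hc
    · exfalso
      rcases Nat.eq_zero_or_pos n with rfl | hn
      · haveI : Finite (QuaternionGroup 0) := Finite.of_equiv P f.toEquiv
        haveI : Infinite (QuaternionGroup 0) :=
          @Infinite.of_injective _ (ZMod (2 * 0)) (inferInstanceAs (Infinite ℤ)) QuaternionGroup.a (fun a b h => QuaternionGroup.a.inj h)
        exact not_finite (QuaternionGroup 0)
      · haveI : NeZero n := ⟨hn.ne'⟩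
        rw [Nat.card_congr f.toEquiv, Nat.card_eq_fintype_card, QuaternionGroup.card] at hoddP
        exact absurd hoddP (Nat.not_odd_iff_even.mpr ⟨2 * n, by ring⟩)
  · exfalso
    obtain ⟨f⟩ := hd
    rw [Nat.card_congr f.toEquiv, DihedralGroup.nat_card] at hoddP
    exact absurd hoddP (Nat.not_odd_iff_even.mpr ⟨2 ^ m, by ring⟩)
  · exfalso
    rw [hcard] at hoddP
    exact absurd hoddP (Nat.not_odd_iff_even.mpr ⟨2 ^ (m + 1), by ring⟩)
  · exfalso
    let sw : (Fin 2 → ZMod q) ≃ₗ[ZMod q] (Fin 2 → ZMod q) :=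
      { toFun := fun v => ![v 1, v 0]
        map_add' := fun a b => by ext i; fin_cases i <;> simp
        map_smul' := fun c a => by ext i; fin_cases i <;> simp
        invFun := fun v => ![v 1, v 0]
        left_inv := fun v => by ext i; fin_cases i <;> simp
        right_inv := fun v => by ext i; fin_cases i <;> simp }
    obtain ⟨g, hg⟩ := (he sw).mpr ⟨1, 1, one_ne_zero, Or.inl rfl, Or.inr fun v => by simp [sw]⟩
    have hg1 : g ≠ 1 := by
      rintro rfl
      have h := congrFun (LinearEquiv.congr_fun hg ![1, 0]) 0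
      simp [sw] at h
    have hg2 : g * g = 1 := by
      refine hρ (LinearEquiv.ext fun x => e.injective ?_)
      have h : ∀ y, e (ρ g y) = sw (e y) := fun y => by rw [hg]; simp
      rw [map_mul, map_one, LinearEquiv.mul_apply, LinearEquiv.coe_one, id, h, h]
      exact sw.left_inv _
    have : orderOf g ∣ 2 := orderOf_dvd_of_pow_eq_one (by rw [sq, hg2])
    rcases (Nat.dvd_prime Nat.prime_two).mp this with h | h
    · exact hg1 (orderOf_eq_one_iff.mp h)
    · exact absurd (hoddP.of_dvd_nat (h ▸ orderOf_dvd_natCard g)) (by decide)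
  · exact absurd h hp2

end Cfsg.Agent.S1160
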