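import Cfsg.Statements.S1163
import Cfsg.Agent.Lib.Suzuki.LieIso
import Cfsg.Agent.Lib.Suzuki.Sylow

set_option autoImplicit false
open Cfsg

namespace Cfsg.Agent.S1163

/-- For the Suzuki group Sz(q), q = 2^(2m+1) ≥ 8, realised as the elements g of Sp₄(F) with g* = g^θ (θ the 2^(m+1)-th power map, so that θ² is squaring): `|Sz(q)| = q² (q - 1) (q² + 1)`, and there is a Sylow 2-subgroup `S` whose normaliser `H` has order `q²(q-1)` and index `q² + 1`, the action of `Sz(q)` on the cosets of `H` is doubly transitive, and `S` acts regularly on the cosets other than `H` itself. -/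
theorem result {F : Type*} [Field F] [Fintype F] {m : ℕ} (hm : 1 ≤ m) (hF : Fintype.card F = 2 ^ (2 * m + 1)) :
    Nat.card ↥(Cfsg.Lie.Sz F (2 ^ (m + 1))) = (2 ^ (2 * m + 1)) ^ 2 * (2 ^ (2 * m + 1) - 1) * ((2 ^ (2 * m + 1)) ^ 2 + 1) ∧
    ∃ S : Sylow 2 ↥(Cfsg.Lie.Sz F (2 ^ (m + 1))),
      Nat.card (Subgroup.normalizer ((S : Subgroup ↥(Cfsg.Lie.Sz F (2 ^ (m + 1)))) : Set ↥(Cfsg.Lie.Sz F (2 ^ (m + 1))))) = (2 ^ (2 * m + 1)) ^ 2 * (2 ^ (2 * m + 1) - 1) ∧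
      (Subgroup.normalizer ((S : Subgroup ↥(Cfsg.Lie.Sz F (2 ^ (m + 1)))) : Set ↥(Cfsg.Lie.Sz F (2 ^ (m + 1))))).index = (2 ^ (2 * m + 1)) ^ 2 + 1 ∧
      MulAction.IsMultiplyPretransitive ↥(Cfsg.Lie.Sz F (2 ^ (m + 1))) (↥(Cfsg.Lie.Sz F (2 ^ (m + 1))) ⧸ Subgroup.normalizer ((S : Subgroup ↥(Cfsg.Lie.Sz F (2 ^ (m + 1)))) : Set ↥(Cfsg.Lie.Sz F (2 ^ (m + 1))))) 2 ∧
      ∀ x y : ↥(Cfsg.Lie.Sz F (2 ^ (m + 1))) ⧸ Subgroup.normalizer ((S : Subgroup ↥(Cfsg.Lie.Sz F (2 ^ (m + 1)))) : Set ↥(Cfsg.Lie.Sz F (2 ^ (m + 1)))),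
        x ≠ (QuotientGroup.mk 1) → y ≠ (QuotientGroup.mk 1) → ∃! s : ↥(S : Subgroup ↥(Cfsg.Lie.Sz F (2 ^ (m + 1)))), (s : ↥(Cfsg.Lie.Sz F (2 ^ (m + 1)))) • x = y := by
  obtain ⟨D⟩ := Cfsg.Agent.Suzuki.exists_dat hm hF
  refine ⟨by rw [Cfsg.Agent.Suzuki.card_lieSz hF hm, hF]; ring, ?_⟩
  set e := Cfsg.Agent.Suzuki.lieEquiv D hF with he
  letI : MulAction ↥(Cfsg.Lie.Sz F (2 ^ (m + 1))) (Cfsg.suzukiOvoid F m) :=
    MulAction.compHom _ e.symm.toMonoidHom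
  have hsmul : ∀ (g : ↥(Cfsg.Lie.Sz F (2 ^ (m + 1)))) (p : Cfsg.suzukiOvoid F m), g • p = e.symm g • p :=
    fun _ _ => rfl
  have hsmul' : ∀ (k : Cfsg.Sz F m) (p : Cfsg.suzukiOvoid F m), e k • p = k • p := fun k p => by
    rw [hsmul, e.symm_apply_apply]
  have hcard := Cfsg.Agent.Suzuki.card_Q D
  let S₀ : Sylow 2 (Cfsg.Sz F m) := Cfsg.Agent.Suzuki.QS D hF
  have hS₀ : (S₀ : Subgroup (Cfsg.Sz F m)) = Cfsg.Agent.Suzuki.Q D := rfl
  refine ⟨S₀.mapSurjective (f := e.toMonoidHom) (by exact e.surjective : Function.Surjective e.toMonoidHom), ?_⟩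
  set S := S₀.mapSurjective (f := e.toMonoidHom) (by exact e.surjective : Function.Surjective e.toMonoidHom) with hSdef
  have hS : ∀ g, g ∈ (S : Subgroup ↥(Cfsg.Lie.Sz F (2 ^ (m + 1)))) ↔ e.symm g ∈ Cfsg.Agent.Suzuki.Q D := by
    intro g
    show g ∈ Subgroup.map e.toMonoidHom (Cfsg.Agent.Suzuki.Q D) ↔ _
    rw [Subgroup.mem_map]
    constructor
    · rintro ⟨k, hk, rfl⟩
      simpa using hk
    · exact fun h => ⟨_, h, e.apply_symm_apply g⟩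
  set o := Cfsg.Agent.Suzuki.oI D
  have hfix : ∀ p : Cfsg.suzukiOvoid F m,
      (∀ k ∈ Cfsg.Agent.Suzuki.Q D, k • p = p) → p = o := by
    intro p h
    rcases Cfsg.Agent.Suzuki.o_cases D p with rfl | ⟨x, y, rfl⟩
    · rfl
    · have h1 := h _ ⟨1, 0, rfl⟩
      rw [Cfsg.Agent.Suzuki.gT_oP] at h1
      have h2 := (Cfsg.Agent.Suzuki.pP_inj D (congrArg Subtype.val h1)).1
      simp at h2
  have hN : Subgroup.normalizer ((S : Subgroup ↥(Cfsg.Lie.Sz F (2 ^ (m + 1)))) : Set ↥(Cfsg.Lie.Sz F (2 ^ (m + 1)))) =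
      MulAction.stabilizer ↥(Cfsg.Lie.Sz F (2 ^ (m + 1))) o := by
    ext g
    rw [Subgroup.mem_normalizer_iff, MulAction.mem_stabilizer_iff]
    constructor
    · intro hg
      refine hfix _ fun k hk => ?_
      have h1 := (hg (g⁻¹ * e k * g)).2 (by
        rw [show g * (g⁻¹ * e k * g) * g⁻¹ = e k by group]; exact (hS _).2 (by simpa using hk))
      obtain ⟨a, b, hab⟩ := (hS _).1 h1
      rw [← hsmul' k (g • o), ← mul_smul, show e k * g = g * (g⁻¹ * e k * g) by group, mul_smul,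
        hsmul (g⁻¹ * e k * g) o, hab, Cfsg.Agent.Suzuki.gT_oI]
    · intro hg n
      rw [hsmul] at hg
      obtain ⟨a, b, u, hu⟩ := Cfsg.Agent.Suzuki.gfix_inf D hF hg
      rw [hS, hS, map_mul, map_mul, map_inv, hu]
      have key : ∀ k ∈ Cfsg.Agent.Suzuki.Q D, ∀ v, Cfsg.Agent.Suzuki.gH D v * k * (Cfsg.Agent.Suzuki.gH D v)⁻¹ ∈
          Cfsg.Agent.Suzuki.Q D := by
        rintro _ ⟨c, d, rfl⟩ v
        exact ⟨_, _, Cfsg.Agent.Suzuki.gH_gT D v c d⟩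
      set t := Cfsg.Agent.Suzuki.gT D a b
      have ht : t ∈ Cfsg.Agent.Suzuki.Q D := ⟨a, b, rfl⟩
      set h := Cfsg.Agent.Suzuki.gH D u with hh
      constructor
      · intro hn
        rw [show t * h * e.symm n * (t * h)⁻¹ = t * (h * e.symm n * h⁻¹) * t⁻¹ by group]
        exact mul_mem (mul_mem ht (key _ hn u)) (inv_mem ht)
      · intro hn
        rw [show e.symm n = h⁻¹ * (t⁻¹ * (t * h * e.symm n * (t * h)⁻¹) * t) * h⁻¹⁻¹ by group, hh,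
          Cfsg.Agent.Suzuki.gH_inv]
        exact key _ (mul_mem (mul_mem (inv_mem ht) hn) ht) _
  haveI htr : MulAction.IsPretransitive ↥(Cfsg.Lie.Sz F (2 ^ (m + 1))) (Cfsg.suzukiOvoid F m) := ⟨fun a b => by
    obtain ⟨g, hg⟩ := Cfsg.Agent.Suzuki.transitive D a
    obtain ⟨k, hk⟩ := Cfsg.Agent.Suzuki.transitive D b
    exact ⟨e (k * g⁻¹), by rw [hsmul', mul_smul, ← hg, inv_smul_smul, hk]⟩⟩
  have hidx : (MulAction.stabilizer ↥(Cfsg.Lie.Sz F (2 ^ (m + 1))) o).index = (2 ^ (2 * m + 1)) ^ 2 + 1 := by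
    rw [MulAction.index_stabilizer_of_transitive, S0326.result, hF]
  rw [hN]
  refine ⟨?_, hidx, ?_, ?_⟩
  · have h := Subgroup.card_mul_index (MulAction.stabilizer ↥(Cfsg.Lie.Sz F (2 ^ (m + 1))) o)
    rw [hidx, Cfsg.Agent.Suzuki.card_lieSz hF hm, hF] at h
    refine Nat.eq_of_mul_eq_mul_right (by positivity) (h.trans ?_)
    ring
  · rw [MulAction.is_two_pretransitive_iff]
    intro a b c d hab hcd
    have inj := MulAction.injective_ofQuotientStabilizer ↥(Cfsg.Lie.Sz F (2 ^ (m + 1))) o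
    obtain ⟨g, g1, g2⟩ := MulAction.is_two_pretransitive_iff.1 (Cfsg.Agent.Suzuki.two_transitive D)
      (inj.ne hab) (inj.ne hcd)
    exact ⟨e g, inj (by rw [MulAction.ofQuotientStabilizer_smul, hsmul', g1]),
      inj (by rw [MulAction.ofQuotientStabilizer_smul, hsmul', g2])⟩
  · intro x y hx hy
    have inj := MulAction.injective_ofQuotientStabilizer ↥(Cfsg.Lie.Sz F (2 ^ (m + 1))) o
    set f := MulAction.ofQuotientStabilizer ↥(Cfsg.Lie.Sz F (2 ^ (m + 1))) o with hf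
    have h1 : f (QuotientGroup.mk 1) = o := by rw [hf, MulAction.ofQuotientStabilizer_mk, one_smul]
    obtain ⟨a, b, hab⟩ := (Cfsg.Agent.Suzuki.o_cases D (f x)).resolve_left fun h => hx (inj (h.trans h1.symm))
    obtain ⟨c, d, hcd⟩ := (Cfsg.Agent.Suzuki.o_cases D (f y)).resolve_left fun h => hy (inj (h.trans h1.symm))
    refine ⟨⟨e (Cfsg.Agent.Suzuki.gT D (c + a) (d + b + D.θ (c + a) * a)), (hS _).2 ⟨_, _, e.symm_apply_apply _⟩⟩,
      inj ?_, fun s hs => Subtype.ext (e.symm.injective ?_)⟩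
    · rw [hf, MulAction.ofQuotientStabilizer_smul, ← hf, hab, hsmul', Cfsg.Agent.Suzuki.gT_oP, hcd]
      congr 1 <;> grind [D.two]
    · obtain ⟨p, r, hpr⟩ := (hS _).1 s.2
      rw [hpr, e.symm_apply_apply]
      have h2 := congrArg f hs
      rw [hf, MulAction.ofQuotientStabilizer_smul, ← hf, hab, hcd, hsmul, hpr, Cfsg.Agent.Suzuki.gT_oP] at h2
      obtain ⟨ea, eb⟩ := Cfsg.Agent.Suzuki.pP_inj D (congrArg Subtype.val h2)
      have hp : p = c + a := by grind [D.two]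
      subst hp
      congr 1
      grind [D.two]

end Cfsg.Agent.S1163
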