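import Cfsg.Statements.S1166
import Cfsg.Agent.Lib.RankOne.Basic
import Cfsg.Agent.Lib.Basics.CoprimeGen
import Cfsg.Agent.Lib.Basics.Cores

set_option autoImplicit false
open Cfsg

namespace Cfsg.Agent.S1166

/-- In the rank-one set-up (`G` finite and doubly transitive on `Ω`, `t` an involution moving `a`, `Q` normal in `G_a` with `G_a = Q D`, `Q ⊓ D = 1` for the two-point stabiliser `D = G_a ⊓ G_{t • a}`, `|Q|` even, `|D|` odd), with `t x t = g_x h_x t f_x` and `t y t = g_y h_y t f_y` (`g, f ∈ Q`, `h ∈ D`) for `x, y ∈ Q ∖ 1` with `x y ≠ 1`: then `z = f_x g_y ≠ 1`, and if `t z t = g_z h_z t f_z` and `t (x y) t = g' h' t f'` then `f' = (t h_y t)⁻¹ f_z (t h_y t) f_y` and `h' = h_x h_z h_y` (H6). -/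
theorem result {G Ω : Type*} [Group G] [Finite G] [MulAction G Ω] {a : Ω} {t : G} {Q : Subgroup G}
    (hS : Cfsg.IsRankOneSetup G Ω a t Q)
    (x y gx hx fx gy hy fy : G) (hxQ : x ∈ Q) (hx1 : x ≠ 1) (hyQ : y ∈ Q) (hy1 : y ≠ 1) (hxy : x * y ≠ 1)
    (hgx : gx ∈ Q) (hhx : hx ∈ (MulAction.stabilizer G a ⊓ MulAction.stabilizer G (t • a))) (hfx : fx ∈ Q) (ex : t * x * t = gx * hx * t * fx)
    (hgy : gy ∈ Q) (hhy : hy ∈ (MulAction.stabilizer G a ⊓ MulAction.stabilizer G (t • a))) (hfy : fy ∈ Q) (ey : t * y * t = gy * hy * t * fy) :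
    fx * gy ≠ 1 ∧
      ∀ gz hz fz g' h' f' : G, gz ∈ Q → hz ∈ (MulAction.stabilizer G a ⊓ MulAction.stabilizer G (t • a)) → fz ∈ Q → t * (fx * gy) * t = gz * hz * t * fz →
        g' ∈ Q → h' ∈ (MulAction.stabilizer G a ⊓ MulAction.stabilizer G (t • a)) → f' ∈ Q → t * (x * y) * t = g' * h' * t * f' →
          f' = (t * hy * t)⁻¹ * fz * (t * hy * t) * fy ∧ h' = hx * hz * hy := by
  have ti := RankOne.t_inv hS
  have exy : t * (x * y) * t = gx * hx * t * (fx * gy) * hy * t * fy := by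
    calc t * (x * y) * t = (t * x * t) * (t * y * t) := by
          simp [mul_assoc, RankOne.t_mul_self_mul hS]
      _ = gx * hx * t * fx * (gy * hy * t * fy) := by rw [ex, ey]
      _ = _ := by group
  have hthy : t * hy = (t * hy * t) * t := by simp [mul_assoc, hS.mul_self]
  refine ⟨fun hz => hxy ?_, ?_⟩
  · have hB : t * (x * y) * t ∈ MulAction.stabilizer G a := by
      rw [exy, hz, mul_one]
      refine mul_mem ?_ (hS.le hfy)
      have : gx * hx * t * hy * t = gx * hx * (t * hy * t) := by group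
      rw [this]
      exact mul_mem (mul_mem (hS.le hgx) hhx.1) (RankOne.t_conj_D hS hhy).1
    refine RankOne.Q_free hS (mul_mem hxQ hyQ) (RankOne.tb_ne hS) ?_
    have h := MulAction.mem_stabilizer_iff.mp hB
    rw [mul_smul, mul_smul] at h
    exact MulAction.injective t (h.trans (RankOne.t_swap hS).symm)
  · intro gz hz fz g' h' f' hgz hhz hfz ez hg' hh' hf' e'
    obtain ⟨p, hpdef⟩ : ∃ p, p = t * hy * t := ⟨_, rfl⟩
    have hp : p ∈ MulAction.stabilizer G a ⊓ MulAction.stabilizer G (t • a) :=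
      hpdef ▸ RankOne.t_conj_D hS hhy
    rw [← hpdef]
    have htp : t * p = hy * t := by rw [hpdef, mul_assoc t hy t, RankOne.t_mul_self_mul hS]
    have e2 : t * (x * y) * t = (gx * (hx⁻¹⁻¹ * gz * hx⁻¹)) * (hx * hz * hy) * t * (p⁻¹ * fz * p * fy) := by
      calc t * (x * y) * t = gx * hx * (t * (fx * gy) * t) * p * fy := by
            rw [exy, hpdef]; simp [mul_assoc, RankOne.t_mul_self_mul hS]
        _ = gx * hx * gz * hz * (t * p) * (p⁻¹ * fz * p * fy) := by rw [ez]; group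
        _ = _ := by rw [htp]; group
    have hh2 : hx * hz * hy ∈ MulAction.stabilizer G a ⊓ MulAction.stabilizer G (t • a) :=
      mul_mem (mul_mem hhx hhz) hhy
    obtain ⟨-, h2, h3⟩ := RankOne.canonical_unique hS hg' (mul_mem hgx (RankOne.D_conj_Q hS
      ((MulAction.stabilizer G a ⊓ MulAction.stabilizer G (t • a)).inv_mem hhx) hgz)) hh' hh2 hf'
      (mul_mem (RankOne.D_conj_Q hS hp hfz) hfy) (e'.symm.trans e2)
    exact ⟨h3, h2⟩

end Cfsg.Agent.S1166
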