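import Cfsg.Statements.S1167
import Cfsg.Agent.S0731

set_option autoImplicit false
open Cfsg

namespace Cfsg.Agent.S1167

/-- Let `G` be a finite simple Zassenhaus group on `Ω`, `U` a normal subgroup of `G_a` regular on `Ω` minus `a` which is an abelian 2-group, and `v` an involution with `v • a ≠ a`. Then there is a unique `u₀ ∈ U`, `u₀ ≠ 1`, with `v u₀ v = u₀ v u₀`. -/
theorem result {G Ω : Type*} [Group G] [Finite G] [MulAction G Ω] [Finite Ω]
    (hZ : Cfsg.IsZassenhausGroup G Ω) [IsSimpleGroup G] {a : Ω}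
    (U : Subgroup G) (hUle : U ≤ MulAction.stabilizer G a)
    (hUn : ∀ h ∈ MulAction.stabilizer G a, ∀ u ∈ U, h * u * h⁻¹ ∈ U)
    (hreg : ∀ c d : Ω, c ≠ a → d ≠ a → ∃! u : U, (u : G) • c = d)
    (hU2 : IsPGroup 2 U) (hUab : ∀ u ∈ U, ∀ u' ∈ U, u * u' = u' * u)
    (v : G) (hv1 : v ≠ 1) (hv2 : v * v = 1) (hva : v • a ≠ a) :
    ∃! u₀ : G, u₀ ∈ U ∧ u₀ ≠ 1 ∧ v * u₀ * v = u₀ * v * u₀ := by
  classical
  haveI := Fintype.ofFinite Ω
  haveI : Fact (Nat.Prime 2) := ⟨Nat.prime_two⟩
  have Z := Cfsg.Agent.PermGp.ZEven.zgrp_of_zassenhaus hZ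
  have hab : a ≠ v • a := fun h => hva h.symm
  have hF := Cfsg.Agent.PermGp.ZEven.zker_of_regular hUle
    (⟨fun u hu h => hUn h h.2 u hu⟩ : (U.subgroupOf (MulAction.stabilizer G a)).Normal) hreg
  have hn := hF.card_add_one hab
  have S : Cfsg.Agent.ZassSharp.Odd.Setting G Ω a (v • a) U :=
    { ker := hF, grp := Z, ne := hab, comm := fun u hu w hw => hUab u hu w hw }
  have hd2 := Z.stab_pos hab
  have hdvd := Cfsg.Agent.ZassSharp.card_dvd Z hab
  have h3 := S.three_le
  obtain ⟨k, hk⟩ := hU2.exists_card_eq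
  have hk0 : k ≠ 0 := by
    rintro rfl
    rw [pow_zero] at hk
    omega
  have heven : 2 ∣ Nat.card U := hk ▸ dvd_pow_self 2 hk0
  have hd : Nat.card ↥(MulAction.stabilizer G a ⊓ MulAction.stabilizer G (v • a)) = Fintype.card Ω - 2 := by
    have hb : Fintype.card Ω - 2 ≤ 2 * Nat.card ↥(MulAction.stabilizer G a ⊓ MulAction.stabilizer G (v • a)) := by
      rcases Nat.even_or_odd (Nat.card ↥(MulAction.stabilizer G a ⊓ MulAction.stabilizer G (v • a))) with he | ho
      · exact Cfsg.Agent.PermGp.card_sub_two_le_two_mul' Z.two Z.three hab he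
      · have := (Cfsg.Agent.ZassSharp.Odd.bound_and_inversion _ rfl hZ S ho).1
        omega
    obtain ⟨j, hj⟩ := hdvd
    rcases j with _ | _ | _ | j
    · omega
    · simpa using hj.symm
    · omega
    · rw [hj] at hb
      rw [mul_add, mul_add, mul_add] at hb
      omega
  obtain ⟨h3t, -⟩ := Cfsg.Agent.ZassSharp.sharp Z hab hd
  have huniq : ∀ {u : G}, u ∈ U → ∀ {y : Ω}, y ≠ a → u • y = y → u = 1 := by
    intro u hu y hy h
    exact congrArg Subtype.val ((hreg y y hy hy).unique (y₁ := ⟨u, hu⟩) (y₂ := 1) h (one_smul G y))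
  have hua : ∀ {u : G}, u ∈ U → u • a = a := fun hu => hUle hu
  have hmove : ∀ {u : G}, u ∈ U → ∀ {y : Ω}, y ≠ a → u • y ≠ a := fun {u} hu {y} hy e =>
    hy (MulAction.injective u (e.trans (hua hu).symm))
  -- all non-identity elements of `U` are involutions
  obtain ⟨t, ht⟩ := exists_prime_orderOf_dvd_card' (G := U) 2 heven
  have ht1 : (t : G) ≠ 1 := fun h => by rw [← Subgroup.orderOf_coe, h, orderOf_one] at ht; norm_num at ht
  have hinv : ∀ u ∈ U, u ≠ 1 → u * u = 1 := by
    intro u hu hu1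
    have hinj : ∀ w ∈ U, w ≠ 1 → Function.Injective ![a, v • a, w • v • a] := by
      intro w hw hw1 i j hij
      have h1 : w • v • a ≠ a := hmove hw hva
      have h2 : w • v • a ≠ v • a := fun e => hw1 (huniq hw hva e)
      fin_cases i <;> fin_cases j <;>
        first
          | rfl
          | exact absurd hij hab
          | exact absurd hij hva
          | exact absurd hij (Ne.symm h1)
          | exact absurd hij h1
          | exact absurd hij (Ne.symm h2)
          | exact absurd hij h2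
    obtain ⟨g, hg⟩ := @MulAction.exists_smul_eq G (Fin 3 ↪ Ω) _ h3t ⟨_, hinj t t.2 ht1⟩ ⟨_, hinj u hu hu1⟩
    have e0 : g • a = a := DFunLike.congr_fun hg 0
    have e1 : g • v • a = v • a := DFunLike.congr_fun hg 1
    have e2 : g • (t : G) • v • a = u • v • a := DFunLike.congr_fun hg 2
    have hgu : g * t * g⁻¹ = u := congrArg Subtype.val ((hreg (v • a) (u • v • a) hva (hmove hu hva)).unique
      (y₁ := ⟨g * t * g⁻¹, hUn g e0 t t.2⟩) (y₂ := ⟨u, hu⟩)
      (show (g * t * g⁻¹) • v • a = u • v • a by rw [mul_smul, mul_smul, inv_smul_eq_iff.2 e1.symm, e2]) rfl)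
    have htt : (t : G) * t = 1 := by
      rw [← pow_two]; exact orderOf_dvd_iff_pow_eq_one.1 (dvd_of_eq (by rw [Subgroup.orderOf_coe, ht]))
    rw [← hgu, show g * (t : G) * g⁻¹ * (g * t * g⁻¹) = g * ((t : G) * t) * g⁻¹ by group, htt]
    group
  -- the involution `v` has a single fixed point
  have hvv : ∀ y : Ω, v • v • y = y := fun y => by rw [← mul_smul, hv2, one_smul]
  have hP : IsPGroup 2 (Subgroup.zpowers v) := IsPGroup.of_card (n := 1) (by
    rw [Nat.card_zpowers, pow_one, orderOf_eq_prime (by rw [pow_two, hv2]) hv1])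
  have hnodd : ¬ 2 ∣ Nat.card Ω := by
    rw [Nat.card_eq_fintype_card]; omega
  obtain ⟨z, hz⟩ := hP.nonempty_fixed_point_of_prime_not_dvd_card Ω hnodd
  have hvz : v • z = z := hz ⟨v, Subgroup.mem_zpowers v⟩
  have hzu : ∀ y : Ω, v • y = y → y = z := by
    intro y hy
    by_contra hne
    have hset : MulAction.fixedPoints (Subgroup.zpowers v) Ω = {y, z} := by
      ext x
      refine ⟨fun hx => ?_, fun hx => ?_⟩
      · by_contra hx'
        simp only [Set.mem_insert_iff, Set.mem_singleton_iff, not_or] at hx'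
        exact hv1 (Z.three v x y z hx'.1 hne hx'.2 (hx ⟨v, Subgroup.mem_zpowers v⟩) hy hvz)
      · rintro ⟨w, i, rfl⟩
        rcases hx with rfl | rfl
        · exact Function.IsFixedPt.perm_zpow (e := MulAction.toPerm v) hy i |> fun h => by
            rw [← MulAction.toPermHom_apply, ← map_zpow] at h; exact h
        · exact Function.IsFixedPt.perm_zpow (e := MulAction.toPerm v) hvz i |> fun h => by
            rw [← MulAction.toPermHom_apply, ← map_zpow] at h; exact h
    have hmod := hP.card_modEq_card_fixedPoints Ω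
    rw [Nat.card_coe_set_eq, hset, Set.ncard_pair hne, Nat.ModEq] at hmod
    omega
  have hza : z ≠ a := fun h => hva (by rw [← h, hvz])
  have hzb : z ≠ v • a := fun h => hza (MulAction.injective v (hvz.trans h))
  obtain ⟨⟨u, hu⟩, hub, -⟩ := hreg (v • a) z hva hza
  have hub : u • v • a = z := hub
  have hu1 : u ≠ 1 := fun h => hzb (by rw [← hub, h, one_smul])
  have huz : u • z = v • a := by rw [← hub, ← mul_smul u u, hinv u hu hu1, one_smul]
  refine ⟨u, ⟨hu, hu1, ?_⟩, ?_⟩
  · refine inv_mul_eq_one.1 (Z.three _ a (v • a) z hab (Ne.symm hzb) (Ne.symm hza) ?_ ?_ ?_)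
    · rw [mul_smul, inv_smul_eq_iff]
      simp only [mul_smul, hua hu, hub, hvz]
    · rw [mul_smul, inv_smul_eq_iff]
      simp only [mul_smul, hua hu, hub, hvz, hvv, huz]
    · rw [mul_smul, inv_smul_eq_iff]
      simp only [mul_smul, hua hu, hub, hvz, hvv, huz]
  · rintro w ⟨hw, -, hwv⟩
    have h : v • w • v • a = w • v • a := by
      have := congrArg (· • a) hwv
      simp only [mul_smul, hua hw] at this
      exact this
    exact congrArg Subtype.val ((hreg (v • a) z hva hza).unique (y₁ := ⟨w, hw⟩) (y₂ := ⟨u, hu⟩)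
      (hzu _ h) hub)

end Cfsg.Agent.S1167
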