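import Cfsg.Statements.S1176
import Cfsg.Agent.Lib.Invol.Basic
-- import your own Cfsg.Agent.* helpers here

set_option autoImplicit false
open Cfsg

namespace Cfsg.Agent.S1176

/-- Let x₀ be an involution of the finite group G and D its conjugacy class. Assume (a) for each x ∈ D the subgroup W(x) generated by the members of D commuting with x is a 2-group of nilpotency class at most 2, and (b) the product of two distinct commuting members of D again lies in D. Then for all x, y ∈ D, if xy has even order greater than 2, its order is 4. -/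
theorem result {G : Type*} [Group G] [Finite G] (x₀ : G) (hx₀ : orderOf x₀ = 2) (ha : ∀ x : G, IsConj x₀ x → IsPGroup 2 ↥(Subgroup.closure {y : G | IsConj x₀ y ∧ Commute y x}) ∧ ⁅⁅Subgroup.closure {y : G | IsConj x₀ y ∧ Commute y x}, Subgroup.closure {y : G | IsConj x₀ y ∧ Commute y x}⁆, Subgroup.closure {y : G | IsConj x₀ y ∧ Commute y x}⁆ = ⊥) (hb : ∀ x y : G, IsConj x₀ x → IsConj x₀ y → x ≠ y → Commute x y → IsConj x₀ (x * y)) (x y : G) (hx : IsConj x₀ x) (hy : IsConj x₀ y) (heven : Even (orderOf (x * y))) (hgt : 2 < orderOf (x * y)) : orderOf (x * y) = 4 := by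
  have hx2 := Invol.mul_self_of_orderOf_two (Invol.orderOf_two_of_isConj hx hx₀)
  have hy2 := Invol.mul_self_of_orderOf_two (Invol.orderOf_two_of_isConj hy hx₀)
  set d := x * y with hd
  set w := d ^ (orderOf d / 2) with hw
  have hw2 : orderOf w = 2 := Invol.orderOf_pow_half heven (orderOf_pos _).ne'
  have hcwx : Commute w x := Invol.commute_pow_half (Invol.conj_mul_eq_inv hx2 hy2) heven
  have hcwy : Commute w y := Invol.commute_pow_half (Invol.conj_mul_eq_inv' hx2 hy2) heven
  have hxw : IsConj x₀ (x * w) := by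
    by_cases h4 : 4 ∣ orderOf d
    · obtain ⟨c, -, hc⟩ := (Invol.conj_pair_half_iff hx2 hy2 heven).2 h4
      exact hx.trans (isConj_iff.2 ⟨c, hc⟩)
    · obtain ⟨c, -, hc⟩ := Invol.isConj_mul_half_of_not_four_dvd hx2 hy2 heven h4
      exact hy.trans (isConj_iff.2 ⟨c, hc⟩).symm
  have hwD : IsConj x₀ w := by
    have := hb x (x * w) hx hxw (fun h => Invol.ne_one_of_orderOf_two hw2 (mul_eq_left.1 h.symm))
      (Commute.mul_right (Commute.refl x) hcwx.symm)
    rwa [← mul_assoc, hx2, one_mul] at this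
  obtain ⟨hp, hcl⟩ := ha w hwD
  set W := Subgroup.closure {z : G | IsConj x₀ z ∧ Commute z w} with hW
  have hxW : x ∈ W := Subgroup.subset_closure ⟨hx, hcwx.symm⟩
  have hyW : y ∈ W := Subgroup.subset_closure ⟨hy, hcwy.symm⟩
  -- the commutator of `x` and `y` is `d ^ 2`, central in `W`
  have hc1 : x * y * x⁻¹ * y⁻¹ ∈ ⁅W, W⁆ := Subgroup.commutator_mem_commutator hxW hyW
  have hc2 : x * y * x⁻¹ * y⁻¹ = d * d := by
    rw [hd, Invol.inv_eq_self_of_mul_self hx2, Invol.inv_eq_self_of_mul_self hy2, mul_assoc (x * y) x y]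
  rw [hc2] at hc1
  have hc3 : (d * d) * x * (d * d)⁻¹ * x⁻¹ ∈ ⁅⁅W, W⁆, W⁆ :=
    Subgroup.commutator_mem_commutator hc1 hxW
  rw [hcl, Subgroup.mem_bot, mul_inv_eq_one, mul_inv_eq_iff_eq_mul] at hc3
  have h4 : d ^ 4 = 1 := by
    have hinv := Invol.conj_zpow_of_inverts (Invol.conj_mul_eq_inv hx2 hy2) 2
    rw [← hd, zpow_two, ← hc3, mul_inv_cancel_right] at hinv
    have := eq_inv_iff_mul_eq_one.1 hinv
    rw [show d ^ 4 = d * d * (d * d) by simp [pow_succ, mul_assoc]]
    exact this
  have hdvd := orderOf_dvd_of_pow_eq_one h4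
  have hle := Nat.le_of_dvd (by norm_num) hdvd
  obtain ⟨k, hk⟩ := heven
  omega

end Cfsg.Agent.S1176
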