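import Cfsg.Statements.S1177
import Cfsg.Agent.Lib.Invol.Basic
-- import your own Cfsg.Agent.* helpers here

set_option autoImplicit false
open Cfsg

namespace Cfsg.Agent.S1177

/-- Let A be a nontrivial elementary abelian 2-subgroup of a finite group G which is a T.I. set (each conjugate of A meets A trivially or equals A) and which does not commute elementwise with any conjugate of A other than A itself. Then for every a ∈ A, a ≠ 1, every conjugate of A contained in C_G(a) is equal to A (A is weakly closed in C_G(a)). -/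
theorem result {G : Type*} [Group G] [Finite G] (A : Subgroup G) (hA : Cfsg.IsElementaryAbelian 2 A) (hA1 : A ≠ ⊥) (hTI : ∀ g : G, A.map (MulAut.conj g).toMonoidHom ⊓ A = ⊥ ∨ A.map (MulAut.conj g).toMonoidHom = A) (hb : ∀ g : G, (∀ a ∈ A, ∀ b ∈ A.map (MulAut.conj g).toMonoidHom, a * b = b * a) → A.map (MulAut.conj g).toMonoidHom = A) (a : G) (ha : a ∈ A) (ha1 : a ≠ 1) (g : G) (hg : A.map (MulAut.conj g).toMonoidHom ≤ Subgroup.centralizer ({a} : Set G)) : A.map (MulAut.conj g).toMonoidHom = A := by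
  classical
  obtain ⟨hAc, hA2⟩ := hA
  set Q := A.map (MulAut.conj g).toMonoidHom with hQ
  have hAcomm : ∀ p ∈ A, ∀ q ∈ A, p * q = q * p := fun p hp q hq =>
    congrArg Subtype.val (hAc.is_comm.comm (⟨p, hp⟩ : A) ⟨q, hq⟩)
  have hAinv : ∀ p ∈ A, p * p = 1 := fun p hp => by rw [← sq]; exact hA2 p hp
  have hQmem : ∀ c ∈ Q, ∃ p ∈ A, g * p * g⁻¹ = c := by
    rintro c ⟨p, hp, rfl⟩; exact ⟨p, hp, rfl⟩
  have hQinv : ∀ c ∈ Q, c * c = 1 := by
    intro c hc
    obtain ⟨p, hp, rfl⟩ := hQmem c hc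
    rw [show g * p * g⁻¹ * (g * p * g⁻¹) = g * (p * p) * g⁻¹ by group, hAinv p hp]; group
  rcases hTI g with hdisj | heq
  swap
  · exact heq
  -- `Q` normalises `A`
  have hnorm : ∀ c ∈ Q, ∀ p ∈ A, c * p * c⁻¹ ∈ A := by
    intro c hc p hp
    rcases hTI c with h | h
    · exfalso
      have hac : c * a = a * c := Subgroup.mem_centralizer_singleton_iff.1 (hg hc)
      have : a ∈ A.map (MulAut.conj c).toMonoidHom ⊓ A :=
        ⟨⟨a, ha, by simp [hac]⟩, ha⟩
      rw [h, Subgroup.mem_bot] at this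
      exact ha1 this
    · rw [← h]; exact ⟨p, hp, rfl⟩
  -- if `p ∈ A` commutes with one nontrivial element of `Q`, it commutes with all of them
  have hL : ∀ p ∈ A, (∃ c ∈ Q, c ≠ 1 ∧ p * c = c * p) → ∀ c ∈ Q, p * c = c * p := by
    rintro p hp ⟨c₁, hc₁, hne, hcomm⟩ c hc
    have hpQ : p * c * p⁻¹ ∈ Q := by
      obtain ⟨e, he, rfl⟩ := hQmem c hc
      obtain ⟨e₁, he₁, rfl⟩ := hQmem c₁ hc₁
      rcases hTI (g⁻¹ * p * g) with h | h
      · exfalso
        have : e₁ ∈ A.map (MulAut.conj (g⁻¹ * p * g)).toMonoidHom ⊓ A := by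
          refine ⟨⟨e₁, he₁, ?_⟩, he₁⟩
          show g⁻¹ * p * g * e₁ * (g⁻¹ * p * g)⁻¹ = e₁
          calc g⁻¹ * p * g * e₁ * (g⁻¹ * p * g)⁻¹ = g⁻¹ * (p * (g * e₁ * g⁻¹)) * p⁻¹ * g := by group
            _ = e₁ := by rw [hcomm]; group
        rw [h, Subgroup.mem_bot] at this
        subst this
        exact hne (by group)
      · refine ⟨(g⁻¹ * p * g) * e * (g⁻¹ * p * g)⁻¹, h ▸ ⟨e, he, rfl⟩, ?_⟩
        show g * (g⁻¹ * p * g * e * (g⁻¹ * p * g)⁻¹) * g⁻¹ = _
        group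
    have h1 : p * c * p⁻¹ * c⁻¹ ∈ A.map (MulAut.conj g).toMonoidHom ⊓ A :=
      ⟨Q.mul_mem hpQ (Q.inv_mem hc), by
        have := A.mul_mem hp (hnorm c hc p⁻¹ (A.inv_mem hp))
        rw [show p * c * p⁻¹ * c⁻¹ = p * (c * p⁻¹ * c⁻¹) by group]; exact this⟩
    rw [hdisj, Subgroup.mem_bot, mul_inv_eq_one, mul_inv_eq_iff_eq_mul] at h1
    exact h1
  refine hb g fun p hp c hc => ?_
  by_contra hne
  -- an injection of `Q` into the centralizer of `Q` in `A`
  let Z : Set G := {q | q ∈ A ∧ ∀ e ∈ Q, q * e = e * q}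
  have hZ : ∀ e : Q, p * ((e : G) * p * (e : G)⁻¹) ∈ Z := by
    rintro ⟨e, he⟩
    have hA' := mul_mem hp (hnorm e he p hp)
    refine ⟨hA', ?_⟩
    by_cases h1 : e = 1
    · subst h1; intro f _; simp [hAinv p hp]
    · refine hL _ hA' ⟨e, he, h1, ?_⟩
      have e1 := hAcomm p hp _ (hnorm e he p hp)
      calc p * (e * p * e⁻¹) * e = (e * p * e⁻¹) * p * e := by rw [e1]
        _ = e * p * (e⁻¹ * p * e) := by group
        _ = e * p * (e * p * e⁻¹) := by rw [Invol.inv_eq_self_of_mul_self (hQinv e he)]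
        _ = e * (p * (e * p * e⁻¹)) := by group
  have hinj : Function.Injective fun e : Q => (⟨_, hZ e⟩ : Z) := by
    rintro ⟨e, he⟩ ⟨f, hf⟩ h
    have h' : e * p * e⁻¹ = f * p * f⁻¹ := mul_left_cancel (congrArg Subtype.val h)
    have hef : p * (f⁻¹ * e) = f⁻¹ * e * p := by
      calc p * (f⁻¹ * e) = f⁻¹ * (f * p * f⁻¹) * e := by group
        _ = f⁻¹ * e * p := by rw [← h']; group
    have h1 : f⁻¹ * e = 1 := by
      by_contra h1
      exact hne (hL p hp ⟨_, mul_mem (inv_mem hf) he, h1, hef⟩ c hc)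
    exact Subtype.ext (inv_mul_eq_one.1 h1).symm
  have hle := Nat.card_le_card_of_injective _ hinj
  have hlt : Nat.card Z < Nat.card A := by
    rw [Nat.card_coe_set_eq, ← SetLike.coe_sort_coe, Nat.card_coe_set_eq]
    exact Set.ncard_lt_ncard ⟨fun q hq => hq.1, fun h => hne ((h hp).2 c hc)⟩ (Set.toFinite _)
  have hcard : Nat.card Q = Nat.card A :=
    (Nat.card_congr (A.equivMapOfInjective _ (MulAut.conj g).injective).toEquiv).symm
  have hle' : Nat.card Q ≤ Nat.card Z := hle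
  exact absurd (hle'.trans_lt hlt) (by rw [hcard]; exact lt_irrefl _)

end Cfsg.Agent.S1177
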