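import Cfsg.Statements.S1178
import Cfsg.Agent.Lib.Invol.Isolated
-- import your own Cfsg.Agent.* helpers here

set_option autoImplicit false
open Cfsg

namespace Cfsg.Agent.S1178

/-- Let A be a subgroup of a Sylow 2-subgroup S of the finite group G which is weakly closed in S. If a conjugate g A g⁻¹ commutes elementwise with A, then g A g⁻¹ = A. -/
theorem result {G : Type*} [Group G] [Finite G] (S : Sylow 2 G) (A : Subgroup G) (hW : Cfsg.IsWeaklyClosed A (S : Subgroup G)) (g : G) (hc : ∀ a ∈ A, ∀ b ∈ A.map (MulAut.conj g).toMonoidHom, a * b = b * a) : A.map (MulAut.conj g).toMonoidHom = A := by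
  obtain ⟨hAS, hW⟩ := hW
  set B := A.map (MulAut.conj g).toMonoidHom with hB
  have hnorm : A ≤ Subgroup.normalizer (B : Set G) := fun a ha => by
    rw [Subgroup.mem_normalizer_iff]
    intro b
    constructor
    · intro hb; rwa [hc a ha b hb, mul_inv_cancel_right]
    · intro hb
      have h1 := hc a ha _ hb
      have h2 : a * b * a⁻¹ = b := by
        calc a * b * a⁻¹ = a⁻¹ * (a * (a * b * a⁻¹)) := by group
          _ = a⁻¹ * ((a * b * a⁻¹) * a) := by rw [h1]
          _ = b := by group
      rwa [h2] at hb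
  have hP : IsPGroup 2 ↥(A ⊔ B) := (S.2.to_le hAS).to_sup_of_normal_right'
    ((S.2.to_le hAS).map _) hnorm
  obtain ⟨R, hR⟩ := hP.exists_le_sylow
  obtain ⟨c, hc'⟩ := MulAction.exists_smul_eq G R S
  have hle : ∀ K : Subgroup G, K ≤ (R : Subgroup G) → K.map (MulAut.conj c).toMonoidHom ≤ S := by
    intro K hK
    rw [← hc']
    exact Subgroup.map_mono hK
  have h1 := hW c (hle A (le_sup_left.trans hR))
  have hcomp : B.map (MulAut.conj c).toMonoidHom = A.map (MulAut.conj (c * g)).toMonoidHom := by
    rw [hB, Subgroup.map_map]; congr 1; ext; simp [mul_assoc]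
  have h2 := hW (c * g) (hcomp ▸ hle B (le_sup_right.trans hR))
  have h3 : B.map (MulAut.conj c).toMonoidHom = A.map (MulAut.conj c).toMonoidHom := by
    rw [hcomp, h2, h1]
  exact Subgroup.map_injective (MulAut.conj c).injective h3

end Cfsg.Agent.S1178
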