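import Cfsg.Statements.S1181
import Cfsg.Agent.Lib.Invol.Isolated
-- import your own Cfsg.Agent.* helpers here

set_option autoImplicit false
open Cfsg

namespace Cfsg.Agent.S1181

/-- Let z be an isolated involution of the finite group G and N a normal subgroup with z ∉ N. Then the centralizer of zN in G/N is the image of C_G(z), and zN is an isolated involution of G/N. -/
theorem result {G : Type*} [Group G] [Finite G] (z : G) (hz : Cfsg.IsIsolatedInvolution z) (N : Subgroup G) [N.Normal] (hzN : z ∉ N) : Subgroup.centralizer ({(QuotientGroup.mk z : G ⧸ N)} : Set (G ⧸ N)) = (Subgroup.centralizer ({z} : Set G)).map (QuotientGroup.mk' N) ∧ Cfsg.IsIsolatedInvolution (QuotientGroup.mk z : G ⧸ N) := by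
  have hz2 := Invol.isolated_mul_self hz
  have hmkz : (QuotientGroup.mk' N) z ≠ 1 := fun h => hzN ((QuotientGroup.eq_one_iff z).1 h)
  have hzord : orderOf (QuotientGroup.mk z : G ⧸ N) = 2 :=
    Invol.orderOf_two_of_mul_self (by rw [← QuotientGroup.mk_mul, hz2]; rfl) hmkz
  refine ⟨le_antisymm ?_ ?_, hzord, ?_⟩
  · intro q hq
    obtain ⟨g, rfl⟩ := QuotientGroup.mk'_surjective N q
    rw [Subgroup.mem_centralizer_singleton_iff] at hq
    have hmem : g * z * g⁻¹ ∈ N ⊔ Subgroup.zpowers z := by
      have h1 : g * z * g⁻¹ * z⁻¹ ∈ N := by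
        rw [← QuotientGroup.eq_one_iff]
        show (QuotientGroup.mk' N) (g * z * g⁻¹ * z⁻¹) = 1
        simp only [map_mul, map_inv]
        simp only [QuotientGroup.mk'_apply] at hq ⊢
        rw [hq]; group
      have := mul_mem ((le_sup_left : N ≤ N ⊔ Subgroup.zpowers z) h1)
        ((le_sup_right : _ ≤ N ⊔ Subgroup.zpowers z) (Subgroup.mem_zpowers z))
      simpa using this
    obtain ⟨h, hh, hc⟩ := Invol.isolated_isConj_in hz (H := N ⊔ Subgroup.zpowers z)
      (le_sup_right (a := N) (Subgroup.mem_zpowers z)) (isConj_iff.2 ⟨g, rfl⟩) hmem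
    have hC : h⁻¹ * g ∈ Subgroup.centralizer ({z} : Set G) := by
      rw [Subgroup.mem_centralizer_singleton_iff]
      calc h⁻¹ * g * z = h⁻¹ * (g * z * g⁻¹) * g := by group
        _ = z * (h⁻¹ * g) := by rw [← hc]; group
    have hle : N ⊔ Subgroup.zpowers z ≤
        ((Subgroup.centralizer ({z} : Set G)).map (QuotientGroup.mk' N)).comap
          (QuotientGroup.mk' N) := by
      refine sup_le (fun n hn => ?_) (Subgroup.zpowers_le.2 ?_)
      · rw [Subgroup.mem_comap, QuotientGroup.mk'_apply, (QuotientGroup.eq_one_iff n).2 hn]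
        exact one_mem _
      · exact ⟨z, Subgroup.mem_centralizer_singleton_iff.2 rfl, rfl⟩
    have h1 := mul_mem (Subgroup.mem_comap.1 (hle hh))
      (Subgroup.mem_map_of_mem (QuotientGroup.mk' N) hC)
    rwa [← map_mul, mul_inv_cancel_left] at h1
  · rintro _ ⟨c, hc, rfl⟩
    rw [Subgroup.mem_centralizer_singleton_iff]
    have hc' : c * z = z * c := Subgroup.mem_centralizer_singleton_iff.1 hc
    show (QuotientGroup.mk' N) c * (QuotientGroup.mk' N) z =
      (QuotientGroup.mk' N) z * (QuotientGroup.mk' N) c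
    rw [← map_mul, ← map_mul, hc']
  · intro q hq
    obtain ⟨g, rfl⟩ := QuotientGroup.mk'_surjective N q
    set f := QuotientGroup.mk' N with hf
    set u := g * z * g⁻¹ with hu
    have hu2 : orderOf u = 2 := by rw [hu, Invol.orderOf_conj, hz.1]
    obtain ⟨m, hm⟩ := Invol.isolated_odd_mul hz (u := u) (isConj_iff.2 ⟨g, rfl⟩)
    have hfu : f g * f z * (f g)⁻¹ = f u := by rw [hu]; simp
    show f g * f z * (f g)⁻¹ = f z
    have hq' : Commute (f z) (f g * f z * (f g)⁻¹) := hq
    rw [hfu] at hq' ⊢
    have hsq : f (z * u) * f (z * u) = 1 := by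
      rw [map_mul, mul_assoc, ← mul_assoc (f u), ← hq'.eq, mul_assoc (f z) (f u),
        ← map_mul f u u, Invol.mul_self_of_orderOf_two hu2, map_one, mul_one, ← map_mul, hz2, map_one]
    have hd : f (z * u) = 1 := by
      have h2 := pow_orderOf_eq_one (z * u)
      rw [hm] at h2
      have h3 := congrArg f h2
      rwa [map_pow, map_one, pow_succ, pow_mul, sq, hsq, one_pow, one_mul] at h3
    rw [map_mul] at hd
    have h4 := inv_eq_of_mul_eq_one_right hd
    rw [← h4, ← map_inv, Invol.inv_of_orderOf_two hz.1]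

end Cfsg.Agent.S1181
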