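import Cfsg.Statements.S1182
import Cfsg.Agent.Lib.Invol.Isolated
-- import your own Cfsg.Agent.* helpers here

set_option autoImplicit false
open Cfsg

namespace Cfsg.Agent.S1182

/-- Let z be an isolated involution of the finite group G and H a subgroup normalized by z. If x, y ∈ H both commute with z and y = h x h⁻¹ for some h ∈ H, then y = c x c⁻¹ for some c ∈ H commuting with z. -/
theorem result {G : Type*} [Group G] [Finite G] (z : G) (hz : Cfsg.IsIsolatedInvolution z) (H : Subgroup G) (hzH : z ∈ Subgroup.normalizer (H : Set G)) (x y : G) (hx : x ∈ H) (hy : y ∈ H) (hxz : Commute x z) (hyz : Commute y z) (h : G) (hh : h ∈ H) (hconj : h * x * h⁻¹ = y) : ∃ c ∈ H, Commute c z ∧ c * x * c⁻¹ = y := by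
  have hz2 := Invol.isolated_mul_self hz
  set u := h⁻¹ * z * h with hu
  have hu' : IsConj z u := isConj_iff.2 ⟨h⁻¹, by rw [hu]; group⟩
  have hu2 := Invol.mul_self_of_orderOf_two (Invol.orderOf_two_of_isConj hu' hz.1)
  have hodd : Odd (orderOf (u * z)) := Invol.isolated_odd_mul_conj hz hu' (IsConj.refl z)
  have hzH' : ∀ a ∈ H, z * a * z⁻¹ ∈ H := fun a ha => (Subgroup.mem_normalizer_iff.1 hzH a).1 ha
  have hmem : u * z ∈ H := by
    have := mul_mem (inv_mem hh) (hzH' h hh)
    rw [hu]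
    rwa [show h⁻¹ * z * h * z = h⁻¹ * (z * h * z⁻¹) by
      rw [Invol.inv_of_orderOf_two hz.1]; group]
  have hcx : Commute x (u * z) := by
    have hux : u * x * u⁻¹ = x := by
      rw [hu]
      calc h⁻¹ * z * h * x * (h⁻¹ * z * h)⁻¹ = h⁻¹ * (z * (h * x * h⁻¹) * z⁻¹) * h := by group
        _ = h⁻¹ * y * h := by rw [hconj, ← hyz.eq, mul_inv_cancel_right]
        _ = x := by rw [← hconj]; group
    have : Commute x u := (mul_inv_eq_iff_eq_mul.1 hux).symm
    exact this.mul_right hxz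
  obtain ⟨k, hk, hkk, -⟩ := Invol.exists_sqrt hodd
  have hinv : z * k * z⁻¹ = k⁻¹ :=
    Invol.inverts_of_mem_zpowers (Invol.conj_mul_eq_inv' hu2 hz2) hk
  refine ⟨h * k, mul_mem hh (Subgroup.zpowers_le.2 hmem hk), ?_, ?_⟩
  · have h1 : z * (h * k) * z⁻¹ = h * k := by
      calc z * (h * k) * z⁻¹ = h * ((h⁻¹ * z * h) * z⁻¹) * (z * k * z⁻¹) := by group
        _ = h * (u * z) * k⁻¹ := by rw [hinv, Invol.inv_of_orderOf_two hz.1, ← hu]
        _ = h * k := by rw [← hkk]; group
    exact (mul_inv_eq_iff_eq_mul.1 h1).symm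
  · have h2 : Commute k x := (Invol.commute_of_mem_zpowers hcx hk).symm
    calc h * k * x * (h * k)⁻¹ = h * (k * x * k⁻¹) * h⁻¹ := by group
      _ = y := by rw [h2.eq, mul_inv_cancel_right, hconj]

end Cfsg.Agent.S1182
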