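import Cfsg.Statements.S1183
import Cfsg.Agent.Lib.Invol.TransferPow
import Cfsg.Agent.Lib.Invol.Isolated
import Cfsg.Agent.S1182
-- import your own Cfsg.Agent.* helpers here

set_option autoImplicit false
open Cfsg

namespace Cfsg.Agent.S1183

/-- Let z be an isolated involution of the finite group G and C = C_G(z). Then the subgroup of G generated by its elements of odd order is all of G if and only if the subgroup of C generated by its elements of odd order is all of C. -/
theorem result {G : Type*} [Group G] [Finite G] (z : G) (hz : Cfsg.IsIsolatedInvolution z) : Cfsg.pResidual 2 G = ⊤ ↔ Cfsg.pResidual 2 ↥(Subgroup.centralizer ({z} : Set G)) = ⊤ := by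
  haveI : Fact (Nat.Prime 2) := ⟨Nat.prime_two⟩
  set C := Subgroup.centralizer ({z} : Set G) with hC
  constructor
  · intro hG
    obtain ⟨P, hP⟩ := (IsPGroup.of_card (p := 2) (n := 1)
      (show Nat.card (Subgroup.zpowers z) = 2 ^ 1 by
        rw [Nat.card_zpowers, hz.1, pow_one])).exists_le_sylow
    have hPC := Invol.isolated_sylow_le_centralizer hz P (hP (Subgroup.mem_zpowers z))
    have hidx : Nat.Coprime 2 C.index :=
      Nat.Coprime.coprime_dvd_right (Subgroup.index_dvd_of_le hPC)
        (Nat.prime_two.coprime_iff_not_dvd.2 P.not_dvd_index)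
    have hfus : ∀ g ∈ C, (∃ k : ℕ, orderOf g = 2 ^ k) → ∀ a : G, a * g * a⁻¹ ∈ C →
        ∃ h ∈ C, h * g * h⁻¹ = a * g * a⁻¹ := by
      intro g hg _ a ha
      obtain ⟨c, -, hcz, hc⟩ := S1182.result z hz ⊤ (Subgroup.mem_normalizer_iff.2 (by simp)) g
        (a * g * a⁻¹) (Subgroup.mem_top _) (Subgroup.mem_top _)
        (Subgroup.mem_centralizer_singleton_iff.1 hg) (Subgroup.mem_centralizer_singleton_iff.1 ha)
        a (Subgroup.mem_top _) rfl
      exact ⟨c, Subgroup.mem_centralizer_singleton_iff.2 hcz.eq, hc⟩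
    have h1 := Invol.control_inf_eq C hidx hfus
    rw [hG, top_sup_eq, top_inf_eq] at h1
    have h2 : Cfsg.pResidual 2 ↥C ⊔ commutator ↥C = ⊤ := by
      refine Subgroup.map_injective C.subtype_injective ?_
      rw [← h1, ← MonoidHom.range_eq_map, Subgroup.range_subtype]
    by_contra hne
    set R := Cfsg.pResidual 2 ↥C with hR
    haveI : Nontrivial (↥C ⧸ R) := QuotientGroup.nontrivial_iff.2 hne
    haveI : Group.IsNilpotent (↥C ⧸ R) := (Transfer.isPGroup_quotient_pResidual).isNilpotent
    refine (Group.IsSolvable.commutator_lt_top_of_nontrivial (↥C ⧸ R)).ne ?_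
    have h4 : (commutator ↥C).map (QuotientGroup.mk' R) = commutator (↥C ⧸ R) := by
      rw [commutator_def, commutator_def, Subgroup.map_commutator,
        Subgroup.map_top_of_surjective _ (QuotientGroup.mk'_surjective R)]
    rw [← h4]
    have h3 := congrArg (Subgroup.map (QuotientGroup.mk' R)) h2
    rw [Subgroup.map_sup, QuotientGroup.map_mk'_self, bot_sup_eq,
      Subgroup.map_top_of_surjective _ (QuotientGroup.mk'_surjective R)] at h3
    exact h3
  · intro hCtop
    rw [eq_top_iff]
    intro g _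
    obtain ⟨k, ⟨⟨hk, -⟩, hgk⟩, -⟩ := Invol.isolated_exists_unique_split hz g
    have h1 : g⁻¹ * k ∈ Cfsg.pResidual 2 G := by
      have : (⟨g⁻¹ * k, hgk⟩ : C) ∈ Cfsg.pResidual 2 ↥C := hCtop ▸ Subgroup.mem_top _
      exact Transfer.map_pResidual_le C.subtype ⟨_, this, rfl⟩
    have h2 : k ∈ Cfsg.pResidual 2 G := Transfer.mem_pResidual_of_coprime hk.coprime_two_right
    have := mul_mem h2 (inv_mem h1)
    rwa [mul_inv_rev, inv_inv, mul_inv_cancel_left] at this

end Cfsg.Agent.S1183
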