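import Cfsg.Statements.S1186
import Cfsg.Agent.Lib.Invol.Isolated
import Cfsg.Agent.Lib.CT.Orthogonality
-- import your own Cfsg.Agent.* helpers here

set_option autoImplicit false
open Cfsg

namespace Cfsg.Agent.S1186

open Invol in
theorem count_aux {G : Type*} [Group G] [Finite G] {z : G} (hz : IsIsolatedInvolution z) {s : G}
    (hs : orderOf s = 2) (hsz : Commute s z) :
    Nat.card {g : G // IsConj z g} =
      Nat.card {k : G // Odd (orderOf k) ∧ z * k * z⁻¹ = k⁻¹ ∧ Commute k (s * z)} *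
      Nat.card {k : G // Odd (orderOf k) ∧ z * k * z⁻¹ = k⁻¹ ∧ Commute k s} := by
  classical
  set A := {k : G // Odd (orderOf k) ∧ z * k * z⁻¹ = k⁻¹ ∧ Commute k (s * z)}
  set B := {k : G // Odd (orderOf k) ∧ z * k * z⁻¹ = k⁻¹ ∧ Commute k s}
  have hz2 := isolated_mul_self hz
  have hzi : z⁻¹ = z := inv_eq_self_of_mul_self hz2
  have hs2 := mul_self_of_orderOf_two hs
  have hsi : s⁻¹ = s := inv_eq_self_of_mul_self hs2
  have hflip : ∀ j : G, z * j * z⁻¹ = j⁻¹ → j * z * j⁻¹ = j * j * z := by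
    intro j hj
    calc j * z * j⁻¹ = j * z * (z * j * z⁻¹) := by rw [hj]
      _ = j * ((z * z) * j) * z⁻¹ := by group
      _ = j * j * z := by rw [hz2, one_mul, hzi]
  -- an element inverted by `z` and fixed by `s z` is inverted by `s`
  have hAs : ∀ a : A, s * (a : G) * s⁻¹ = (a : G)⁻¹ := by
    rintro ⟨a, -, hinv, hc⟩
    calc s * a * s⁻¹ = (s * z) * (z⁻¹ * a * z) * (s * z)⁻¹ := by group
      _ = a⁻¹ := by rw [inverts_symm hinv, ← hc.inv_left.eq, mul_inv_cancel_right]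
  have huniq : ∀ b b' : G, Odd (orderOf b) → z * b * z⁻¹ = b⁻¹ → Odd (orderOf b') →
      z * b' * z⁻¹ = b'⁻¹ → b * z * b⁻¹ = b' * z * b'⁻¹ → b = b' := by
    intro b b' hb hbi hb' hb'i h
    refine eq_of_mul_self_eq hb hb' ?_
    rw [hflip b hbi, hflip b' hb'i] at h
    exact mul_right_cancel h
  let f : A × B → {g : G // IsConj z g} := fun x =>
    ⟨((x.2 : G) * (x.1 : G)) * z * ((x.2 : G) * (x.1 : G))⁻¹, isConj_iff.2 ⟨_, rfl⟩⟩
  rw [← Nat.card_prod]
  refine (Nat.card_congr (Equiv.ofBijective f ⟨?_, ?_⟩)).symm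
  · rintro ⟨a, b⟩ ⟨a', b'⟩ h
    have h : ((b : G) * a) * z * ((b : G) * a)⁻¹ = ((b' : G) * a') * z * ((b' : G) * a')⁻¹ :=
      congrArg Subtype.val h
    -- `u (s u s) = b a ^ 4 b⁻¹`
    have key : ∀ (a : A) (b : B), (((b : G) * a) * z * ((b : G) * a)⁻¹) *
        (s * (((b : G) * a) * z * ((b : G) * a)⁻¹) * s⁻¹) =
        (b : G) * (((a : G) * a) * ((a : G) * a)) * (b : G)⁻¹ := by
      intro a b
      have hb : s * (b : G) * s⁻¹ = b := by rw [← b.2.2.2.eq, mul_inv_cancel_right]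
      have hsz' : s * z * s⁻¹ = z := by rw [hsz.eq, mul_inv_cancel_right]
      calc _ = (b : G) * ((a : G) * z * (a : G)⁻¹) * (b : G)⁻¹ * ((s * b * s⁻¹) *
              ((s * a * s⁻¹) * (s * z * s⁻¹) * (s * a * s⁻¹)⁻¹) * (s * b * s⁻¹)⁻¹) := by group
        _ = (b : G) * ((a : G) * z * (a : G)⁻¹) * (b : G)⁻¹ * ((b : G) *
              ((a : G)⁻¹ * z * (a : G)) * (b : G)⁻¹) := by rw [hb, hAs a, hsz', inv_inv]
        _ = (b : G) * (((a : G) * z * (a : G)⁻¹) * ((a : G) * z * (a : G)⁻¹)⁻¹ *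
              ((a : G) * z * (a : G)⁻¹) * (z * ((a : G) * z * (a : G)⁻¹) * z⁻¹)) * (b : G)⁻¹ := by
            have : z * ((a : G) * z * (a : G)⁻¹) * z⁻¹ = (a : G)⁻¹ * z * (a : G) := by
              calc _ = (z * (a : G) * z⁻¹) * z * (z * (a : G) * z⁻¹)⁻¹ := by group
                _ = _ := by rw [a.2.2.1, inv_inv]
            rw [this]; group
        _ = _ := by
            rw [hflip _ a.2.2.1, mul_inv_cancel, one_mul]
            generalize ((a : G) * a) = q
            congr 2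
            rw [hzi]
            calc q * z * (z * (q * z) * z) = q * (z * z) * q * (z * z) := by group
              _ = _ := by rw [hz2, mul_one, mul_one]
    have h4 : (b : G) * (((a : G) * a) * ((a : G) * a)) * (b : G)⁻¹ =
        (b' : G) * (((a' : G) * a') * ((a' : G) * a')) * (b' : G)⁻¹ := by
      rw [← key a b, ← key a' b', h]
    have hoa : ∀ (a : A) (b : B), Odd (orderOf ((b : G) * a * (b : G)⁻¹)) ∧
        Odd (orderOf ((b : G) * ((a : G) * a) * (b : G)⁻¹)) := fun a b => by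
      refine ⟨by rw [orderOf_conj]; exact a.2.1, ?_⟩
      rw [orderOf_conj, ← sq]
      exact Odd.of_dvd_nat a.2.1 (orderOf_pow_dvd 2)
    have h2 : (b : G) * ((a : G) * a) * (b : G)⁻¹ = (b' : G) * ((a' : G) * a') * (b' : G)⁻¹ :=
      eq_of_mul_self_eq (hoa a b).2 (hoa a' b').2
        (by rw [conj_mul, conj_mul, h4])
    have h1 : (b : G) * a * (b : G)⁻¹ = (b' : G) * a' * (b' : G)⁻¹ :=
      eq_of_mul_self_eq (hoa a b).1 (hoa a' b').1 (by rw [conj_mul, conj_mul, h2])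
    have hbz : (b : G) * z * (b : G)⁻¹ = (b' : G) * z * (b' : G)⁻¹ := by
      calc (b : G) * z * (b : G)⁻¹ = ((b : G) * a * (b : G)⁻¹)⁻¹ *
            (((b : G) * a) * z * ((b : G) * a)⁻¹) * ((b : G) * a * (b : G)⁻¹) := by group
        _ = _ := by rw [h, h1]; group
    have hbb : b = b' := Subtype.ext (huniq _ _ b.2.1 b.2.2.1 b'.2.1 b'.2.2.1 hbz)
    subst hbb
    exact Prod.ext (Subtype.ext (mul_left_cancel (mul_right_cancel h1))) rfl
  · rintro ⟨u, hu⟩
    have hu2 := mul_self_of_orderOf_two (orderOf_two_of_isConj hu hz.1)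
    by_cases hsu : IsConj z s
    · have hsz' : s = z := isolated_eq_of_commute hz hsu hsz.symm
      obtain ⟨g, rfl⟩ := isConj_iff.1 hu
      obtain ⟨k, ⟨⟨hk1, hk2⟩, hk3⟩, -⟩ := isolated_exists_unique_split hz g
      refine ⟨(⟨k, hk1, hk2, by rw [hsz', hz2]; exact Commute.one_right k⟩,
        ⟨1, by simp, by simp, Commute.one_left s⟩), Subtype.ext ?_⟩
      show (1 * k) * z * (1 * k)⁻¹ = g * z * g⁻¹
      rw [Subgroup.mem_centralizer_singleton_iff] at hk3
      rw [one_mul]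
      calc k * z * k⁻¹ = g * ((g⁻¹ * k) * z) * k⁻¹ := by group
        _ = g * z * g⁻¹ := by rw [hk3]; group
    have hnc : ¬ IsConj s u := fun h => hsu (hu.trans h.symm)
    have heven := even_of_not_isConj hs2 hu2 hnc
    have hodd2 : Odd (orderOf ((s * u) * (s * u))) := by
      have h := isolated_odd_mul_conj hz
        (show IsConj z (s * u * s⁻¹) from hu.trans (isConj_iff.2 ⟨s, rfl⟩)) hu
      rwa [hsi, mul_assoc (s * u)] at h
    have h4 : ¬ 4 ∣ orderOf (s * u) := by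
      intro h4
      rw [← sq, orderOf_pow' _ (by norm_num : 2 ≠ 0), Nat.gcd_eq_right (dvd_trans ⟨2, rfl⟩ h4),
        Nat.odd_iff] at hodd2
      omega
    set i := (s * u) ^ (orderOf (s * u) / 2)
    obtain ⟨d, -, hd⟩ := isConj_mul_half_of_not_four_dvd hs2 hu2 heven h4
    have hci : Commute i s := commute_pow_half (conj_mul_eq_inv hs2 hu2) heven
    have hsiz : IsConj z (s * i) := hu.trans (isConj_iff.2 ⟨d, hd⟩).symm
    -- inside the centralizer of `s`
    obtain ⟨h, hh, hhz⟩ := isolated_isConj_in hz (H := Subgroup.centralizer ({s} : Set G))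
      (Subgroup.mem_centralizer_singleton_iff.2 hsz.symm.eq) hsiz
      (Subgroup.mem_centralizer_singleton_iff.2 ((Commute.refl s).mul_left hci).eq)
    obtain ⟨b, ⟨⟨hb1, hb2⟩, hb3⟩, hbu⟩ := isolated_exists_unique_split hz h
    have hbz : b * z * b⁻¹ = s * i := by
      rw [Subgroup.mem_centralizer_singleton_iff] at hb3
      calc b * z * b⁻¹ = h * ((h⁻¹ * b) * z) * b⁻¹ := by group
        _ = h * z * h⁻¹ := by rw [hb3]; group
        _ = _ := hhz
    have hsh : Commute s h := (Subgroup.mem_centralizer_singleton_iff.1 hh).symm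
    have hbs : Commute b s := by
      have : s * b * s⁻¹ = b := hbu _ ⟨⟨by rw [orderOf_conj]; exact hb1, by
        rw [show z * (s * b * s⁻¹) * z⁻¹ = (z * s) * b * (z * s)⁻¹ by group, ← hsz.eq,
          show s * z * b * (s * z)⁻¹ = s * (z * b * z⁻¹) * s⁻¹ by group, hb2]
        group⟩, by
        rw [Subgroup.mem_centralizer_singleton_iff] at hb3 ⊢
        rw [show h⁻¹ * (s * b * s⁻¹) = s * (h⁻¹ * b) * s⁻¹ by
          rw [← mul_assoc, ← mul_assoc, ← hsh.inv_right.eq]; group]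
        calc s * (h⁻¹ * b) * s⁻¹ * z = s * (h⁻¹ * b) * (s⁻¹ * z) := by group
          _ = s * ((h⁻¹ * b) * z) * s⁻¹ := by rw [hsz.inv_left.eq]; group
          _ = (s * z) * (h⁻¹ * b) * s⁻¹ := by rw [hb3]; group
          _ = z * (s * (h⁻¹ * b) * s⁻¹) := by rw [hsz.eq]; group⟩
      exact (mul_inv_eq_iff_eq_mul.1 this).symm
    have hui : (s * i) * (s * i) = 1 := mul_self_of_orderOf_two (orderOf_two_of_isConj hsiz hz.1)
    obtain ⟨c, hc, hcc, hcodd⟩ := exists_sqrt (isolated_odd_mul_conj hz hu hsiz)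
    have hinv1 : (s * i) * (u * (s * i)) * (s * i)⁻¹ = (u * (s * i))⁻¹ := conj_mul_eq_inv' hu2 hui
    have hii : i * i = 1 := mul_self_of_orderOf_two (orderOf_pow_half heven (orderOf_pos _).ne')
    have hinv2 : s * (u * (s * i)) * s⁻¹ = (u * (s * i))⁻¹ := by
      have hiu : Commute i u := commute_pow_half (conj_mul_eq_inv' hs2 hu2) heven
      have hif : i * (u * (s * i)) * i⁻¹ = u * (s * i) := by
        rw [(hiu.mul_right (hci.mul_right (Commute.refl i))).eq, mul_inv_cancel_right]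
      rw [← hinv1]
      calc s * (u * (s * i)) * s⁻¹ = s * (i * (u * (s * i)) * i⁻¹) * s⁻¹ := by rw [hif]
        _ = _ := by group
    have hcsi : (s * i) * c * (s * i)⁻¹ = c⁻¹ := inverts_of_mem_zpowers hinv1 hc
    have hcs : s * c * s⁻¹ = c⁻¹ := inverts_of_mem_zpowers hinv2 hc
    -- conjugate back by `b`
    have ha1 : z * (b⁻¹ * c * b) * z⁻¹ = (b⁻¹ * c * b)⁻¹ := by
      have : z = b⁻¹ * (s * i) * b := by rw [← hbz]; group
      rw [this, show b⁻¹ * (s * i) * b * (b⁻¹ * c * b) * (b⁻¹ * (s * i) * b)⁻¹ =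
        b⁻¹ * ((s * i) * c * (s * i)⁻¹) * b by group, hcsi]
      group
    have ha2 : s * (b⁻¹ * c * b) * s⁻¹ = (b⁻¹ * c * b)⁻¹ := by
      rw [show s * (b⁻¹ * c * b) * s⁻¹ = (s * b⁻¹ * s⁻¹) * (s * c * s⁻¹) * (s * b * s⁻¹) by group,
        hcs, ← hbs.inv_left.eq, ← hbs.eq]
      group
    have ha3 : Commute (b⁻¹ * c * b) (s * z) := by
      show _ * (s * z) = (s * z) * _
      have e : (s * z) * (b⁻¹ * c * b) * (s * z)⁻¹ = b⁻¹ * c * b := by
        rw [show (s * z) * (b⁻¹ * c * b) * (s * z)⁻¹ = s * (z * (b⁻¹ * c * b) * z⁻¹) * s⁻¹ by group,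
          ha1, show s * (b⁻¹ * c * b)⁻¹ * s⁻¹ = (s * (b⁻¹ * c * b) * s⁻¹)⁻¹ by group, ha2, inv_inv]
      exact (mul_inv_eq_iff_eq_mul.1 e).symm
    refine ⟨(⟨b⁻¹ * c * b, by
      rw [show b⁻¹ * c * b = b⁻¹ * c * b⁻¹⁻¹ by group, orderOf_conj]; exact hcodd, ha1, ha3⟩,
      ⟨b, hb1, hb2, hbs⟩), Subtype.ext ?_⟩
    show (b * (b⁻¹ * c * b)) * z * (b * (b⁻¹ * c * b))⁻¹ = u
    calc (b * (b⁻¹ * c * b)) * z * (b * (b⁻¹ * c * b))⁻¹ = c * (b * z * b⁻¹) * c⁻¹ := by group
      _ = c * (s * i) * ((s * i) * c * (s * i)⁻¹) := by rw [hbz, hcsi]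
      _ = c * (((s * i) * (s * i)) * c) * (s * i)⁻¹ := by group
      _ = u * (s * i) * (s * i)⁻¹ := by rw [hui, one_mul, hcc]
      _ = u := mul_inv_cancel_right _ _

/-- Let z be an isolated involution of the finite group G, C = C_G(z), K the set of elements of odd order inverted by z, and s an involution of C. Then |G| = |C| · |C_K(sz)| · |C_K(s)|. -/
theorem result {G : Type*} [Group G] [Finite G] (z : G) (hz : Cfsg.IsIsolatedInvolution z) (s : G) (hs : orderOf s = 2) (hsz : Commute s z) : Nat.card G = Nat.card (Subgroup.centralizer ({z} : Set G)) * Nat.card {k : G // Odd (orderOf k) ∧ z * k * z⁻¹ = k⁻¹ ∧ Commute k (s * z)} * Nat.card {k : G // Odd (orderOf k) ∧ z * k * z⁻¹ = k⁻¹ ∧ Commute k s} := by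
  classical
  haveI := Fintype.ofFinite G
  rw [← CT.card_conj_class_mul_centralizer z, count_aux hz hs hsz]
  ring

end Cfsg.Agent.S1186
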