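import Cfsg.Statements.S1189
import Cfsg.Agent.Lib.Invol.QDMax
-- import your own Cfsg.Agent.* helpers here

set_option autoImplicit false
open Cfsg

namespace Cfsg.Agent.S1189

/-- A quasi-dihedral 2-group has exactly two conjugacy classes of elements of order 2 and exactly two conjugacy classes of elements of order 4. -/
theorem result {S : Type*} [Group S] [Finite S] (hS : Cfsg.IsQuasiDihedral S) : Nat.card {C : ConjClasses S // ∃ t : S, orderOf t = 2 ∧ ConjClasses.mk t = C} = 2 ∧ Nat.card {C : ConjClasses S // ∃ t : S, orderOf t = 4 ∧ ConjClasses.mk t = C} = 2 := by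
  classical
  obtain ⟨D⟩ := Invol.qd_exists hS
  haveI : Fact (Nat.Prime 2) := ⟨Nat.prime_two⟩
  have hm := D.m_pos
  obtain ⟨m', hm'⟩ := D.m_even
  have hX : ∀ i j : ℤ, IsConj (D.x ^ i) (D.x ^ j * D.y) → False := by
    intro i j h
    obtain ⟨c, hc⟩ := isConj_iff.1 h
    haveI : (Subgroup.zpowers D.x).Normal := Subgroup.normal_of_index_eq_two D.zpowers_index
    have := Subgroup.Normal.conj_mem ‹_› (D.x ^ i)
      (Subgroup.zpow_mem _ (Subgroup.mem_zpowers _) i) c
    rw [hc] at this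
    obtain ⟨k, hk⟩ := Subgroup.mem_zpowers_iff.1 this
    exact D.zpow_ne_mul_y _ _ hk
  have htwo : ∀ (p : ℕ) (a b : S), ¬ IsConj a b → orderOf a = p → orderOf b = p →
      (∀ t : S, orderOf t = p → IsConj a t ∨ IsConj b t) →
      Nat.card {C : ConjClasses S // ∃ t : S, orderOf t = p ∧ ConjClasses.mk t = C} = 2 := by
    intro p a b hab ha hb hall
    have e : {C : ConjClasses S | ∃ t : S, orderOf t = p ∧ ConjClasses.mk t = C} =
        {ConjClasses.mk a, ConjClasses.mk b} := by
      ext C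
      constructor
      · rintro ⟨t, ht, rfl⟩
        rcases hall t ht with h | h
        · exact Or.inl (ConjClasses.mk_eq_mk_iff_isConj.2 h).symm
        · exact Or.inr (ConjClasses.mk_eq_mk_iff_isConj.2 h).symm
      · rintro (rfl | h)
        · exact ⟨a, ha, rfl⟩
        · exact ⟨b, hb, (Set.mem_singleton_iff.1 h).symm⟩
    show Nat.card ↥{C : ConjClasses S | ∃ t : S, orderOf t = p ∧ ConjClasses.mk t = C} = 2
    rw [e, Nat.card_coe_set_eq, Set.ncard_pair]
    exact fun h => hab (ConjClasses.mk_eq_mk_iff_isConj.1 h)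
  constructor
  · refine htwo 2 (D.x ^ (2 * (D.m : ℤ))) (D.x ^ (0 : ℤ) * D.y) (hX _ _) D.orderOf_z
      (D.orderOf_mul_y_even (dvd_zero 2)) fun t ht => ?_
    rcases D.sq_eq_one_cases (Invol.mul_self_of_orderOf_two ht) with ⟨i, rfl, hi⟩ | ⟨i, rfl, hi⟩
    · rcases D.z_cases hi with h | h
      · exact absurd h (Invol.ne_one_of_orderOf_two ht)
      · exact Or.inl (h.symm ▸ IsConj.refl _)
    · exact Or.inr (D.isConj_mul_y 0 i (by omega))
  · refine htwo 4 (D.x ^ (D.m : ℤ)) (D.x ^ (1 : ℤ) * D.y) (hX _ _) ?_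
      (D.orderOf_mul_y_odd (by norm_num)) fun t ht => ?_
    · refine orderOf_eq_prime_pow (p := 2) (n := 1) ?_ ?_
      · rw [pow_one, sq, ← zpow_add, D.zpow_eq_one_iff]
        intro h
        have := Int.le_of_dvd (by omega) h
        omega
      · rw [← zpow_natCast, ← zpow_mul, D.zpow_eq_one_iff]
        exact ⟨1, by push_cast; ring⟩
    · have h4 : t ^ 4 = 1 := by rw [← ht]; exact pow_orderOf_eq_one t
      have h2 : t * t ≠ 1 := fun h => by
        have := orderOf_dvd_of_pow_eq_one (show t ^ 2 = 1 by rw [sq]; exact h)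
        rw [ht] at this; omega
      obtain ⟨j, rfl | rfl⟩ := D.repr_cases t
      · rw [← zpow_natCast, ← zpow_mul, D.zpow_eq_one_iff] at h4
        push_cast at h4
        rw [mul_comm j, Int.mul_dvd_mul_iff_left (by norm_num)] at h4
        obtain ⟨u, rfl, hu⟩ := D.dvd_two_m_cases j h4
        rw [← zpow_add, Ne, D.zpow_eq_one_iff, ← two_mul, show 4 * (D.m : ℤ) = 2 * (2 * D.m) by ring,
          Int.mul_dvd_mul_iff_left (by norm_num), hu] at h2
        left
        obtain ⟨v, hv | hv⟩ : ∃ v, u = 4 * v + 1 ∨ u = 4 * v + 3 := ⟨u / 4, by omega⟩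
        · rw [show D.x ^ ((D.m : ℤ) * u) = D.x ^ (D.m : ℤ) by
            rw [D.zpow_eq_iff]; exact ⟨v, by rw [hv]; ring⟩]
        · refine isConj_iff.2 ⟨D.y, ?_⟩
          rw [D.a_conj_y, D.zpow_eq_iff]
          exact ⟨-v - 1, by rw [hv]; ring⟩
      · exact Or.inr (D.isConj_mul_y 1 j
          (by rw [Ne, D.sq_mul_y_eq_one_iff] at h2; omega))

end Cfsg.Agent.S1189
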