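import Cfsg.Statements.S1190
import Cfsg.Agent.Lib.Invol.QDSubgroups
-- import your own Cfsg.Agent.* helpers here

set_option autoImplicit false
open Cfsg

namespace Cfsg.Agent.S1190

/-- In a quasi-dihedral 2-group S, any two Klein four-subgroups are conjugate, and every Klein four-subgroup T satisfies C_S(T) = T and |N_S(T) : T| = 2. -/
theorem result {S : Type*} [Group S] [Finite S] (hS : Cfsg.IsQuasiDihedral S) : (∀ T₁ T₂ : Subgroup S, IsKleinFour T₁ → IsKleinFour T₂ → ∃ s : S, T₁.map (MulAut.conj s).toMonoidHom = T₂) ∧ (∀ T : Subgroup S, IsKleinFour T → Subgroup.centralizer (T : Set S) = T ∧ T.relIndex (Subgroup.normalizer (T : Set S)) = 2) := by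
  obtain ⟨D⟩ := Invol.qd_exists hS
  have hmapmem : ∀ (T : Subgroup S) (s h : S),
      h ∈ T.map (MulAut.conj s).toMonoidHom ↔ s⁻¹ * h * s ∈ T := by
    intro T s h
    rw [Subgroup.mem_map_equiv]; simp
  constructor
  · intro T₁ T₂ h₁ h₂
    obtain ⟨i₁, he₁, -, hm₁⟩ := D.four_mem_iff T₁
    obtain ⟨i₂, he₂, -, hm₂⟩ := D.four_mem_iff T₂
    obtain ⟨s, hs⟩ := isConj_iff.1 (D.isConj_mul_y i₁ i₂ (by omega))
    refine ⟨s, SetLike.ext fun h => ?_⟩
    rw [hmapmem, hm₁, hm₂, ← hs, ← Commute.conj_iff s]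
    rw [show s * (s⁻¹ * h * s) * s⁻¹ = h by group]
  · intro T hT
    obtain ⟨i, hev, hg, hmem⟩ := D.four_mem_iff T
    have hz : D.x ^ (2 * (D.m : ℤ)) ∈ T := (hmem _).2 (D.z_central _)
    constructor
    · refine le_antisymm (fun h hh => (hmem h).2 ?_) (fun h hh => ?_)
      · exact (Subgroup.mem_centralizer_iff.1 hh _ hg).symm
      · refine Subgroup.mem_centralizer_iff.2 fun u hu => ?_
        exact congrArg Subtype.val (mul_comm_of_exponent_two IsKleinFour.exponent_two
          (⟨u, hu⟩ : T) ⟨h, hh⟩)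
    · -- the normaliser
      have hzero : ∀ j : ℤ, D.x ^ j ∈ T ↔ 2 * (D.m : ℤ) ∣ j := fun j => by
        rw [hmem, D.commute_zpow_mul_y_iff]
      have hN : ∀ h : S, h ∈ Subgroup.normalizer (T : Set S) ↔
          h * (D.x ^ i * D.y) * h⁻¹ ∈ T := by
        intro h
        refine ⟨fun hh => (Subgroup.mem_normalizer_iff.1 hh _).1 hg, fun hh => ?_⟩
        haveI : Finite T := Nat.finite_of_card_ne_zero (by rw [IsKleinFour.card_four]; norm_num)
        rw [Subgroup.mem_normalizer_iff_map_conj_eq]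
        refine Subgroup.eq_of_le_of_card_ge ?_
          (Nat.card_congr (T.equivMapOfInjective _ (MulAut.conj h).injective).toEquiv).le
        rintro _ ⟨u, hu, rfl⟩
        show h * u * h⁻¹ ∈ T
        rcases D.commute_mul_y_cases ((hmem u).1 hu) with rfl | rfl | rfl | rfl
        · rw [mul_one, mul_inv_cancel]; exact one_mem _
        · rw [← (D.z_central h).eq, mul_inv_cancel_right]; exact hz
        · exact hh
        · have := mul_mem hz hh
          rwa [show h * (D.x ^ (2 * (D.m : ℤ)) * (D.x ^ i * D.y)) * h⁻¹ =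
            D.x ^ (2 * (D.m : ℤ)) * (h * (D.x ^ i * D.y) * h⁻¹) by
              rw [← mul_assoc h, ← (D.z_central h).eq]; group]
      have hNX : ∀ j : ℤ, D.x ^ j ∈ Subgroup.normalizer (T : Set S) ↔ (D.m : ℤ) ∣ j := by
        intro j
        rw [hN, D.mul_zpow_y, D.eq_mul_rebase i, Subgroup.mul_mem_cancel_right _ hg, hzero,
          ← D.dvd_shift_iff j (D.m : ℤ) (dvd_mul_left _ _)]
        constructor <;> intro h <;> convert h using 1 <;> ring
      have hga : (D.x ^ i * D.y) * D.x ^ (D.m : ℤ) =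
          D.x ^ (-(D.m : ℤ)) * (D.x ^ i * D.y) := by
        have := D.conj_mul_y_mult i 1
        rw [mul_one, mul_neg, mul_one, mul_inv_eq_iff_eq_mul] at this
        exact this
      rw [Subgroup.relIndex_eq_two_iff]
      refine ⟨D.x ^ (D.m : ℤ), (hNX _).2 dvd_rfl, fun b hb => ?_⟩
      obtain ⟨j, rfl | rfl⟩ := D.repr_cases b
      · obtain ⟨t, rfl, ht⟩ := D.dvd_two_m_cases j ((hNX j).1 hb)
        rw [← zpow_add, hzero, hzero]
        obtain ⟨u, hu, hu'⟩ := D.dvd_two_m_cases ((D.m : ℤ) * t + D.m) ⟨t + 1, by ring⟩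
        have hut : u = t + 1 := mul_left_cancel₀ (by have := D.m_pos; omega)
          (hu.symm.trans (by ring))
        rw [hu', ht, hut]
        by_cases h2 : 2 ∣ t
        · exact Or.inr ⟨h2, by omega⟩
        · exact Or.inl ⟨by omega, h2⟩
      · rw [D.eq_mul_rebase i j] at hb ⊢
        have hgN : D.x ^ i * D.y ∈ Subgroup.normalizer (T : Set S) := Subgroup.le_normalizer hg
        rw [Subgroup.mul_mem_cancel_right _ hgN, hNX] at hb
        obtain ⟨t, hjt, ht⟩ := D.dvd_two_m_cases (j - i) hb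
        obtain ⟨u, hu, hu'⟩ := D.dvd_two_m_cases (j - i + -(D.m : ℤ))
          (dvd_add hb (dvd_neg.2 dvd_rfl))
        have hut : u = t - 1 := mul_left_cancel₀ (by have := D.m_pos; omega)
          (hu.symm.trans (by rw [hjt]; ring))
        rw [mul_assoc, hga, ← mul_assoc, ← zpow_add, Subgroup.mul_mem_cancel_right _ hg,
          Subgroup.mul_mem_cancel_right _ hg, hzero, hzero, hu', ht, hut]
        by_cases h2 : 2 ∣ t
        · exact Or.inr ⟨h2, by omega⟩
        · exact Or.inl ⟨by omega, h2⟩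

end Cfsg.Agent.S1190
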