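import Cfsg.Statements.S1191
import Cfsg.Agent.Lib.Invol.QDSubgroups
-- import your own Cfsg.Agent.* helpers here

set_option autoImplicit false
open Cfsg

namespace Cfsg.Agent.S1191

/-- In a quasi-dihedral 2-group S, any two subgroups isomorphic to the quaternion group of order 8 are conjugate, and each such subgroup Q satisfies C_S(Q) = Z(Q) and |N_S(Q) : Q| = 2. -/
theorem result {S : Type*} [Group S] [Finite S] (hS : Cfsg.IsQuasiDihedral S) : (∀ Q₁ Q₂ : Subgroup S, Nonempty (Q₁ ≃* QuaternionGroup 2) → Nonempty (Q₂ ≃* QuaternionGroup 2) → ∃ s : S, Q₁.map (MulAut.conj s).toMonoidHom = Q₂) ∧ (∀ Q : Subgroup S, Nonempty (Q ≃* QuaternionGroup 2) → Subgroup.centralizer (Q : Set S) = (Subgroup.center Q).map Q.subtype ∧ Q.relIndex (Subgroup.normalizer (Q : Set S)) = 2) := by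
  obtain ⟨D⟩ := Invol.qd_exists hS
  constructor
  · rintro Q₁ Q₂ ⟨e₁⟩ ⟨e₂⟩
    obtain ⟨i₁, ho₁, hm₁⟩ := D.q8_mem_iff Q₁ e₁
    obtain ⟨i₂, ho₂, hm₂⟩ := D.q8_mem_iff Q₂ e₂
    obtain ⟨s, hs⟩ := isConj_iff.1 (D.isConj_mul_y i₁ i₂ (by omega))
    refine ⟨s, Subgroup.eq_of_le_of_card_ge ?_ ?_⟩
    · rintro _ ⟨u, hu, rfl⟩
      show s * u * s⁻¹ ∈ Q₂
      -- conjugation preserves the powers of `x ^ m`
      have hA : ∀ t : ℤ, s * D.x ^ ((D.m : ℤ) * t) * s⁻¹ ∈ Q₂ := by
        intro t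
        obtain ⟨j, rfl | rfl⟩ := D.repr_cases s
        · exact (hm₂ _).2 ⟨t, Or.inl (by group)⟩
        · exact (hm₂ _).2 ⟨-t, Or.inl (D.conj_mul_y_mult j t)⟩
      obtain ⟨t, rfl | rfl⟩ := (hm₁ u).1 hu
      · exact hA t
      · have := mul_mem (hA t) (show s * (D.x ^ i₁ * D.y) * s⁻¹ ∈ Q₂ from hs.symm ▸
          (hm₂ _).2 ⟨0, Or.inr (by simp)⟩)
        convert this using 1
        group
    · rw [← Nat.card_congr (Q₁.equivMapOfInjective _ (MulAut.conj s).injective).toEquiv,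
        (Invol.q8_facts e₁).1, (Invol.q8_facts e₂).1]
  · rintro Q ⟨e⟩
    obtain ⟨i, hodd, hmem⟩ := D.q8_mem_iff Q e
    have hA : ∀ t : ℤ, D.x ^ ((D.m : ℤ) * t) ∈ Q := fun t => (hmem _).2 ⟨t, Or.inl rfl⟩
    have hg : D.x ^ i * D.y ∈ Q := (hmem _).2 ⟨0, Or.inr (by simp)⟩
    have hz : D.x ^ (2 * (D.m : ℤ)) ∈ Q := by rw [mul_comm]; exact hA 2
    have hCQ : Subgroup.centralizer (Q : Set S) ≤ Q := by
      intro h hh
      rcases D.commute_mul_y_cases
        (Subgroup.mem_centralizer_iff.1 hh _ hg).symm with rfl | rfl | rfl | rfl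
      · exact one_mem _
      · exact hz
      · exact hg
      · exact mul_mem hz hg
    constructor
    · ext h
      constructor
      · intro hh
        exact ⟨⟨h, hCQ hh⟩, Subgroup.mem_center_iff.2 fun u =>
          Subtype.ext (Subgroup.mem_centralizer_iff.1 hh u u.2), rfl⟩
      · rintro ⟨u, hu, rfl⟩
        exact Subgroup.mem_centralizer_iff.2 fun v hv =>
          congrArg Subtype.val (Subgroup.mem_center_iff.1 hu ⟨v, hv⟩)
    · obtain ⟨m', hm'⟩ := D.m_even
      have hXQ : ∀ j : ℤ, D.x ^ j ∈ Q ↔ (D.m : ℤ) ∣ j := by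
        intro j
        refine ⟨fun hj => ?_, fun ⟨t, ht⟩ => ht ▸ hA t⟩
        obtain ⟨t, h | h⟩ := (hmem _).1 hj
        · rw [D.zpow_eq_iff] at h
          obtain ⟨c, hc⟩ := h
          exact ⟨t + 4 * c, by linarith⟩
        · exfalso
          rw [← mul_assoc, ← zpow_add] at h
          exact D.zpow_ne_mul_y _ _ h
      have hNX : ∀ j : ℤ, D.x ^ j ∈ Subgroup.normalizer (Q : Set S) ↔ m' ∣ j := by
        intro j
        rw [← D.dvd_shift_iff j m' ⟨4, by rw [hm']; ring⟩, ← hm', mul_comm (2 * (1 - (D.m : ℤ))) j]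
        constructor
        · intro hj
          have h := (Subgroup.mem_normalizer_iff.1 hj _).1 hg
          rw [D.mul_zpow_y, D.eq_mul_rebase i, Subgroup.mul_mem_cancel_right _ hg, hXQ] at h
          convert h using 1; ring
        · intro hj
          haveI : Finite Q := Nat.finite_of_card_ne_zero (by rw [(Invol.q8_facts e).1]; norm_num)
          rw [Subgroup.mem_normalizer_iff_map_conj_eq]
          refine Subgroup.eq_of_le_of_card_ge ?_
            (Nat.card_congr (Q.equivMapOfInjective _ (MulAut.conj _).injective).toEquiv).le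
          rintro _ ⟨u, hu, rfl⟩
          show D.x ^ j * u * (D.x ^ j)⁻¹ ∈ Q
          have hconj : D.x ^ j * (D.x ^ i * D.y) * (D.x ^ j)⁻¹ ∈ Q := by
            rw [D.mul_zpow_y, D.eq_mul_rebase i, Subgroup.mul_mem_cancel_right _ hg, hXQ]
            convert hj using 1; ring
          obtain ⟨t, rfl | rfl⟩ := (hmem u).1 hu
          · rw [show D.x ^ j * D.x ^ ((D.m : ℤ) * t) * (D.x ^ j)⁻¹ = D.x ^ ((D.m : ℤ) * t) by group]
            exact hA t
          · have := mul_mem (hA t) hconj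
            convert this using 1; group
      rw [Subgroup.relIndex_eq_two_iff]
      refine ⟨D.x ^ m', (hNX _).2 dvd_rfl, fun b hb => ?_⟩
      have hpar : ∀ j : ℤ, m' ∣ j → ((D.m : ℤ) ∣ j + m' ↔ ¬ (D.m : ℤ) ∣ j) ∧
          ((D.m : ℤ) ∣ j - m' ↔ ¬ (D.m : ℤ) ∣ j) := by
        rintro j ⟨t, rfl⟩
        have hne : m' ≠ 0 := by have := D.m_pos; omega
        rw [hm', show m' * t + m' = m' * (t + 1) by ring, show m' * t - m' = m' * (t - 1) by ring,
          mul_comm 2 m', Int.mul_dvd_mul_iff_left hne, Int.mul_dvd_mul_iff_left hne,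
          Int.mul_dvd_mul_iff_left hne]
        omega
      obtain ⟨j, rfl | rfl⟩ := D.repr_cases b
      · rw [← zpow_add, hXQ, hXQ, (hpar j ((hNX j).1 hb)).1]
        by_cases h2 : (D.m : ℤ) ∣ j
        · exact Or.inr ⟨h2, not_not.2 h2⟩
        · exact Or.inl ⟨h2, h2⟩
      · rw [D.eq_mul_rebase i j] at hb ⊢
        have hgN : D.x ^ i * D.y ∈ Subgroup.normalizer (Q : Set S) := Subgroup.le_normalizer hg
        rw [Subgroup.mul_mem_cancel_right _ hgN, hNX] at hb
        have hga : (D.x ^ i * D.y) * D.x ^ m' =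
            D.x ^ ((2 * (D.m : ℤ) - 1) * m') * (D.x ^ i * D.y) := by
          rw [mul_assoc, D.y_mul_zpow, ← mul_assoc, ← mul_assoc, ← zpow_add, ← zpow_add, add_comm]
        rw [mul_assoc (D.x ^ (j - i)), hga, ← mul_assoc, ← zpow_add,
          Subgroup.mul_mem_cancel_right _ hg, Subgroup.mul_mem_cancel_right _ hg, hXQ, hXQ]
        have hsame : (D.m : ℤ) ∣ j - i + (2 * (D.m : ℤ) - 1) * m' ↔ (D.m : ℤ) ∣ j - i - m' := by
          rw [show j - i + (2 * (D.m : ℤ) - 1) * m' = j - i - m' + (D.m : ℤ) * (2 * m') by ring,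
            dvd_add_left (dvd_mul_right _ _)]
        rw [hsame, (hpar _ hb).2]
        by_cases h2 : (D.m : ℤ) ∣ j - i
        · exact Or.inr ⟨h2, not_not.2 h2⟩
        · exact Or.inl ⟨h2, h2⟩

end Cfsg.Agent.S1191
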