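import Cfsg.Statements.S1192
import Cfsg.Agent.Lib.Invol.QDMax
-- import your own Cfsg.Agent.* helpers here

set_option autoImplicit false
open Cfsg

namespace Cfsg.Agent.S1192

/-- A quasi-dihedral group S of order 2^(n+1) has exactly three maximal subgroups; one is cyclic, one is isomorphic to the generalized quaternion group of order 2^n and one to the dihedral group of order 2^n. -/
theorem result {S : Type*} [Group S] [Finite S] (hS : Cfsg.IsQuasiDihedral S) (n : ℕ) (hn : Nat.card S = 2 ^ (n + 1)) : ∃ M₁ M₂ M₃ : Subgroup S, IsCoatom M₁ ∧ IsCoatom M₂ ∧ IsCoatom M₃ ∧ M₁ ≠ M₂ ∧ M₁ ≠ M₃ ∧ M₂ ≠ M₃ ∧ (∀ M : Subgroup S, IsCoatom M → M = M₁ ∨ M = M₂ ∨ M = M₃) ∧ IsCyclic M₁ ∧ Nonempty (M₂ ≃* QuaternionGroup (2 ^ (n - 2))) ∧ Nonempty (M₃ ≃* DihedralGroup (2 ^ (n - 1))) := by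
  obtain ⟨D⟩ := Invol.qd_exists hS
  have h3 := D.three_le
  have hn' : n = D.n := by
    have h := D.card_eq
    rw [hn, D.m_eq, show (8 : ℕ) = 2 ^ 3 by norm_num, ← pow_add] at h
    have := Nat.pow_right_injective (le_refl 2) h
    omega
  subst hn'
  have h1 := D.mem_dih_iff 1
  have h1' := D.mem_quat_iff 1
  have h0 := D.mem_dih_iff 0
  have h0' := D.mem_quat_iff 0
  refine ⟨Subgroup.zpowers D.x, D.quat, D.dih, D.coatom_of_index_two D.zpowers_index,
    D.coatom_of_index_two D.quat_index, D.coatom_of_index_two D.dih_index, ?_, ?_, ?_, ?_,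
    inferInstance, ?_, ?_⟩
  · intro h
    have : D.x ^ (1 : ℤ) ∈ D.quat := h ▸ Subgroup.zpow_mem _ (Subgroup.mem_zpowers _) 1
    exact absurd (h1'.1.1 this) (by norm_num)
  · intro h
    have : D.x ^ (1 : ℤ) ∈ D.dih := h ▸ Subgroup.zpow_mem _ (Subgroup.mem_zpowers _) 1
    exact absurd (h1.1.1 this) (by norm_num)
  · intro h
    exact absurd ((h ▸ h0'.2).1 (h0.2.2 (dvd_zero 2))) (not_not.2 (dvd_zero 2))
  · intro M hM
    have hlt : ∃ g ∈ M, g ∉ D.even := by
      by_contra hno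
      push_neg at hno
      have hM1 : M < D.dih := by
        refine lt_of_le_of_lt hno (lt_of_le_of_ne D.even_le_dih fun h => ?_)
        exact D.mul_y_notMem_even 0 (h.symm ▸ h0.2.2 (dvd_zero 2))
      exact (D.coatom_of_index_two D.dih_index).1 (hM.2 _ hM1)
    obtain ⟨g, hg, hge⟩ := hlt
    have key : ∀ K : Subgroup S, IsCoatom K → K ≤ M → M = K := fun K hK hle => by
      rcases hle.eq_or_lt with h | h
      · exact h.symm
      · exact absurd (hK.2 M h) hM.1
    rcases D.le_cases (D.coatom_even_le hM) hg hge with h | h | h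
    · exact Or.inl (key _ (D.coatom_of_index_two D.zpowers_index) h)
    · exact Or.inr (Or.inr (key _ (D.coatom_of_index_two D.dih_index) h))
    · exact Or.inr (Or.inl (key _ (D.coatom_of_index_two D.quat_index) h))
  · obtain ⟨e⟩ := D.nonempty_quat
    exact D.m_eq ▸ ⟨e.symm⟩
  · obtain ⟨e⟩ := D.nonempty_dih
    rw [D.m_eq, show 2 * 2 ^ (D.n - 2) = 2 ^ (D.n - 1) by
      rw [← pow_succ', show D.n - 2 + 1 = D.n - 1 by omega]] at e
    exact ⟨e.symm⟩

end Cfsg.Agent.S1192
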