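import Cfsg.Statements.S1193
import Cfsg.Agent.Lib.Invol.QDMax
-- import your own Cfsg.Agent.* helpers here

set_option autoImplicit false
open Cfsg

namespace Cfsg.Agent.S1193

/-- Let S be quasi-dihedral of order 2^(n+1). Then S' = Φ(S) is cyclic of order 2^(n-1), the centre of S has order 2, and the subgroup generated by the involutions of S is dihedral of order 2^n. -/
theorem result {S : Type*} [Group S] [Finite S] (hS : Cfsg.IsQuasiDihedral S) (n : ℕ) (hn : Nat.card S = 2 ^ (n + 1)) : commutator S = frattini S ∧ IsCyclic (commutator S) ∧ Nat.card (commutator S) = 2 ^ (n - 1) ∧ Nat.card (Subgroup.center S) = 2 ∧ Nonempty (↥(Subgroup.closure {x : S | orderOf x = 2}) ≃* DihedralGroup (2 ^ (n - 1))) := by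
  obtain ⟨D⟩ := Invol.qd_exists hS
  have h3 := D.three_le
  have hn' : n = D.n := by
    have h := D.card_eq
    rw [hn, D.m_eq, show (8 : ℕ) = 2 ^ 3 by norm_num, ← pow_add] at h
    have := Nat.pow_right_injective (le_refl 2) h
    omega
  subst hn'
  have h2m : 2 * D.m = 2 ^ (D.n - 1) := by
    rw [D.m_eq, ← pow_succ', show D.n - 2 + 1 = D.n - 1 by omega]
  -- the commutator subgroup
  have hle : D.even ≤ commutator S := by
    obtain ⟨m', hm'⟩ := D.m_even
    have hc : D.x ^ (2 * (D.m : ℤ) - 2) ∈ commutator S := by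
      have h := Subgroup.commutator_mem_commutator (H₁ := (⊤ : Subgroup S)) (H₂ := ⊤)
        (Subgroup.mem_top D.y) (Subgroup.mem_top (D.x ^ (1 : ℤ)))
      rw [← commutator_def, commutatorElement_def, D.conj_y_zpow, ← zpow_neg, ← zpow_add] at h
      convert h using 2; ring
    rw [Invol.QDData.even, Subgroup.zpowers_le]
    -- `(m - 1)` has inverse `-(1 + m)` modulo `2 m`
    have := Subgroup.zpow_mem _ hc (-(1 + (D.m : ℤ)))
    rw [← zpow_mul, show D.x ^ ((2 * (D.m : ℤ) - 2) * -(1 + (D.m : ℤ))) = D.x ^ (2 : ℤ) by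
      rw [D.zpow_eq_iff]; exact ⟨-m', by rw [hm']; ring⟩] at this
    exact this
  have hnorm : D.even.Normal := by
    refine ⟨fun v hv g => ?_⟩
    obtain ⟨k, rfl⟩ := Subgroup.mem_zpowers_iff.1 hv
    obtain ⟨j, rfl | rfl⟩ := D.repr_cases g
    · rw [show D.x ^ j * (D.x ^ (2 : ℤ)) ^ k * (D.x ^ j)⁻¹ = (D.x ^ (2 : ℤ)) ^ k by group]
      exact hv
    · rw [show D.x ^ j * D.y * (D.x ^ (2 : ℤ)) ^ k * (D.x ^ j * D.y)⁻¹ =
        D.x ^ j * (D.y * (D.x ^ (2 : ℤ)) ^ k * D.y⁻¹) * (D.x ^ j)⁻¹ by group, ← conj_zpow,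
        D.y_inverts_x_sq, show D.x ^ j * (D.x ^ (2 : ℤ))⁻¹ ^ k * (D.x ^ j)⁻¹ =
          ((D.x ^ (2 : ℤ)) ^ k)⁻¹ by group]
      exact inv_mem hv
  have hcomm : commutator S = D.even := by
    refine le_antisymm ?_ hle
    rw [commutator_def, Subgroup.commutator_le]
    intro a _ b _
    have hmem : ∀ g : S, ∀ j : ℤ, (g = D.x ^ j ∨ g = D.x ^ j * D.y) →
        g * D.x * g⁻¹ * D.x⁻¹ ∈ D.even := by
      rintro g j (rfl | rfl)
      · rw [show D.x ^ j * D.x * (D.x ^ j)⁻¹ * D.x⁻¹ = 1 by group]; exact one_mem _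
      · rw [show D.x ^ j * D.y * D.x * (D.x ^ j * D.y)⁻¹ * D.x⁻¹ =
          D.x ^ j * (D.y * D.x * D.y⁻¹) * (D.x ^ j)⁻¹ * D.x⁻¹ by group, D.rel,
          show D.x ^ j * D.x ^ (2 * (D.m : ℤ) - 1) * (D.x ^ j)⁻¹ * D.x⁻¹ =
            D.x ^ (2 * (D.m : ℤ) - 2) by group, D.mem_even_iff]
        omega
    -- modulo `⟨x ^ 2⟩` the group is generated by commuting elements
    have hxg : ∀ g : S, Commute (QuotientGroup.mk' D.even g) (QuotientGroup.mk' D.even D.x) := by
      intro g
      obtain ⟨j, hj⟩ := D.repr_cases g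
      have := (QuotientGroup.eq_one_iff (N := D.even) _).2 (hmem g j hj)
      rw [← QuotientGroup.mk'_apply, map_mul, map_mul, map_mul, map_inv, map_inv,
        mul_inv_eq_one, mul_inv_eq_iff_eq_mul] at this
      exact this
    have hall : ∀ g : S, ∀ h : S,
        Commute (QuotientGroup.mk' D.even g) (QuotientGroup.mk' D.even h) := by
      intro g h
      obtain ⟨j, rfl | rfl⟩ := D.repr_cases h
      · rw [map_zpow]; exact (hxg g).zpow_right j
      · obtain ⟨i, rfl | rfl⟩ := D.repr_cases g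
        · rw [map_zpow]; exact ((hxg _).symm).zpow_left i
        · rw [map_mul, map_mul, map_zpow, map_zpow]
          refine Commute.mul_left ?_ ?_
          · exact (Commute.zpow_zpow_self _ i j).mul_right ((hxg D.y).symm.zpow_left i)
          · exact ((hxg D.y).zpow_right j).mul_right (Commute.refl _)
    rw [← QuotientGroup.eq_one_iff, commutatorElement_def]
    show QuotientGroup.mk' D.even (a * b * a⁻¹ * b⁻¹) = 1
    rw [map_mul, map_mul, map_mul, map_inv, map_inv, (hall a b).eq]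
    group
  have hfr : frattini S = D.even := by
    refine le_antisymm ?_ ?_
    · intro g hg
      have hgx := frattini_le_coatom (D.coatom_of_index_two D.zpowers_index) hg
      obtain ⟨j, rfl⟩ := Subgroup.mem_zpowers_iff.1 hgx
      rw [D.mem_even_iff]
      exact (D.mem_dih_iff j).1.1 (frattini_le_coatom (D.coatom_of_index_two D.dih_index) hg)
    · rw [frattini, Order.radical]
      exact le_iInf fun K => le_iInf fun hK => D.coatom_even_le hK
  refine ⟨hcomm.trans hfr.symm, ?_, ?_, D.card_center, ?_⟩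
  · rw [hcomm]
    exact ⟨⟨⟨_, Subgroup.mem_zpowers _⟩, fun ⟨v, hv⟩ => by
      obtain ⟨k, rfl⟩ := Subgroup.mem_zpowers_iff.1 hv
      exact ⟨k, Subtype.ext (by simp)⟩⟩⟩
  · rw [hcomm, Invol.QDData.even, Nat.card_zpowers, D.orderOf_x_sq, h2m]
  · have hcl : Subgroup.closure {v : S | orderOf v = 2} = D.dih := by
      refine le_antisymm ((Subgroup.closure_le _).2 fun v hv => ?_) ?_
      · rcases D.sq_eq_one_cases (Invol.mul_self_of_orderOf_two hv) with
          ⟨i, rfl, hi⟩ | ⟨i, rfl, hi⟩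
        · exact (D.mem_dih_iff i).1.2 (dvd_trans (dvd_mul_right _ _) hi)
        · exact (D.mem_dih_iff i).2.2 hi
      · rw [Invol.QDData.dih, Subgroup.closure_le, Set.pair_subset_iff]
        have h1 : D.y ∈ Subgroup.closure {v : S | orderOf v = 2} :=
          Subgroup.subset_closure D.ordy
        refine ⟨h1, ?_⟩
        have := mul_mem (Subgroup.subset_closure (D.orderOf_mul_y_even (i := 2) (dvd_refl _))
          : _ ∈ Subgroup.closure {v : S | orderOf v = 2}) h1
        rwa [mul_assoc, Invol.mul_self_of_orderOf_two D.ordy, mul_one] at this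
    rw [hcl]
    obtain ⟨e⟩ := D.nonempty_dih
    rw [h2m] at e
    exact ⟨e.symm⟩

end Cfsg.Agent.S1193
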