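import Cfsg.Statements.S1194
import Cfsg.Agent.Lib.Invol.QDMax
-- import your own Cfsg.Agent.* helpers here

set_option autoImplicit false
open Cfsg

namespace Cfsg.Agent.S1194

/-- In a quasi-dihedral 2-group S, every proper normal subgroup is either a maximal subgroup or a cyclic subgroup contained in the derived subgroup S'. -/
theorem result {S : Type*} [Group S] [Finite S] (hS : Cfsg.IsQuasiDihedral S) (N : Subgroup S) [N.Normal] (hN : N ≠ ⊤) : IsCoatom N ∨ (IsCyclic N ∧ N ≤ commutator S) := by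
  obtain ⟨D⟩ := Invol.qd_exists hS
  obtain ⟨m', hm'⟩ := D.m_even
  -- the commutators `x ^ (2 k)`
  have hsub : D.even ≤ commutator S := by
    have hc : D.x ^ (2 * (D.m : ℤ) - 2) ∈ commutator S := by
      have h := Subgroup.commutator_mem_commutator (H₁ := (⊤ : Subgroup S)) (H₂ := ⊤)
        (Subgroup.mem_top D.y) (Subgroup.mem_top (D.x ^ (1 : ℤ)))
      rw [← commutator_def, commutatorElement_def, D.conj_y_zpow, ← zpow_neg, ← zpow_add] at h
      convert h using 2; ring
    rw [Invol.QDData.even, Subgroup.zpowers_le]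
    have := Subgroup.zpow_mem _ hc (-(1 + (D.m : ℤ)))
    rw [← zpow_mul, show D.x ^ ((2 * (D.m : ℤ) - 2) * -(1 + (D.m : ℤ))) = D.x ^ (2 : ℤ) by
      rw [D.zpow_eq_iff]; exact ⟨-m', by rw [hm']; ring⟩] at this
    exact this
  by_cases hle : N ≤ D.even
  · refine Or.inr ⟨?_, hle.trans hsub⟩
    haveI : IsCyclic D.even := ⟨⟨⟨_, Subgroup.mem_zpowers _⟩, fun ⟨v, hv⟩ => by
      obtain ⟨k, rfl⟩ := Subgroup.mem_zpowers_iff.1 hv
      exact ⟨k, Subtype.ext (by simp)⟩⟩⟩
    exact isCyclic_of_injective (Subgroup.inclusion hle) (Subgroup.inclusion_injective hle)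
  · obtain ⟨g, hg, hge⟩ := SetLike.not_le_iff_exists.1 hle
    have heven : D.even ≤ N := by
      rw [Invol.QDData.even, Subgroup.zpowers_le]
      obtain ⟨j, rfl | rfl⟩ := D.repr_cases g
      · rw [D.mem_even_iff] at hge
        obtain ⟨u, rfl⟩ : ∃ u, j = 2 * u + 1 := ⟨(j - 1) / 2, by omega⟩
        have h1 := mul_mem (Subgroup.Normal.conj_mem ‹N.Normal› _ hg D.y) (inv_mem hg)
        rw [D.conj_y_zpow, ← zpow_neg, ← zpow_add] at h1
        -- an odd exponent times `2 (m - 1)` generates `⟨x ^ 2⟩`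
        have hcop : IsCoprime ((2 * u + 1) * ((D.m : ℤ) - 1)) (2 * (D.m : ℤ)) := by
          refine IsCoprime.mul_left ?_ ⟨-(1 + (D.m : ℤ)), m', by rw [hm']; ring⟩
          rw [D.m_eq, show (2 : ℤ) * ((2 ^ (D.n - 2) : ℕ) : ℤ) = 2 ^ (D.n - 2 + 1) by
            push_cast; ring]
          exact IsCoprime.pow_right (⟨1, -u, by ring⟩ : IsCoprime (2 * u + 1) 2)
        obtain ⟨a, b, hab⟩ := hcop
        have h2 := Subgroup.zpow_mem _ h1 a
        rw [← zpow_mul, show D.x ^ (((2 * (D.m : ℤ) - 1) * (2 * u + 1) + -(2 * u + 1)) * a) =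
          D.x ^ (2 : ℤ) by rw [D.zpow_eq_iff]; exact ⟨-b, by linear_combination 2 * hab⟩] at h2
        exact h2
      · have h1 := mul_mem (Subgroup.Normal.conj_mem ‹N.Normal› _ hg (D.x ^ (1 + (D.m : ℤ))))
          (inv_mem hg)
        rw [D.mul_zpow_y, show D.x ^ (j + 2 * (1 - (D.m : ℤ)) * (1 + (D.m : ℤ))) * D.y *
          (D.x ^ j * D.y)⁻¹ = D.x ^ (2 * (1 - (D.m : ℤ)) * (1 + (D.m : ℤ))) by group] at h1
        rwa [show D.x ^ (2 * (1 - (D.m : ℤ)) * (1 + (D.m : ℤ))) = D.x ^ (2 : ℤ) by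
          rw [D.zpow_eq_iff]; exact ⟨-m', by rw [hm']; ring⟩] at h1
    left
    have key : ∀ K : Subgroup S, IsCoatom K → K ≤ N → IsCoatom N := fun K hK hKN => by
      rcases hKN.eq_or_lt with h | h
      · rwa [← h]
      · exact absurd (hK.2 _ h) hN
    rcases D.le_cases heven hg hge with h | h | h
    · exact key _ (D.coatom_of_index_two D.zpowers_index) h
    · exact key _ (D.coatom_of_index_two D.dih_index) h
    · exact key _ (D.coatom_of_index_two D.quat_index) h

end Cfsg.Agent.S1194
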