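import Cfsg.Statements.S1195
import Cfsg.Agent.Lib.Invol.WrSubgroups
-- import your own Cfsg.Agent.* helpers here

set_option autoImplicit false
open Cfsg

namespace Cfsg.Agent.S1195

/-- A wreathed 2-group has exactly three conjugacy classes of elements of order 2. -/
theorem result {S : Type*} [Group S] [Finite S] (hS : Cfsg.IsWreathed S) : Nat.card {C : ConjClasses S // ∃ t : S, orderOf t = 2 ∧ ConjClasses.mk t = C} = 3 := by
  classical
  obtain ⟨D⟩ := Invol.wr_exists hS
  have hh := D.h_pos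
  have hndvd : ¬ 2 * (D.h : ℤ) ∣ (D.h : ℤ) := fun h => by
    have := Int.le_of_dvd hh h; omega
  haveI hbn : D.base.Normal := Subgroup.normal_of_index_eq_two D.base_index
  have hac : ¬ IsConj (D.u D.h D.h) (D.u D.h 0) := by
    intro h
    obtain ⟨c, hc⟩ := isConj_iff.1 h
    rw [← (D.diag_central (by simp) c).eq, mul_inv_cancel_right, D.u_eq_iff] at hc
    exact hndvd (by simpa using hc.2)
  have hbz : ∀ a b : ℤ, ¬ IsConj (D.u a b) (D.u 0 0 * D.z) := by
    intro a b h
    obtain ⟨c, hc⟩ := isConj_iff.1 h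
    exact D.notMem_base 0 0 (hc ▸ hbn.conj_mem _ (D.u_mem_base a b) c)
  have e : {C : ConjClasses S | ∃ t : S, orderOf t = 2 ∧ ConjClasses.mk t = C} =
      {ConjClasses.mk (D.u D.h D.h), ConjClasses.mk (D.u D.h 0),
        ConjClasses.mk (D.u 0 0 * D.z)} := by
    ext C
    constructor
    · rintro ⟨t, ht, rfl⟩
      have h2 := Invol.mul_self_of_orderOf_two ht
      have hne := Invol.ne_one_of_orderOf_two ht
      obtain ⟨a, b, rfl | rfl⟩ := D.repr_cases t
      · obtain ⟨ha, hb⟩ := (D.sq_u_eq_one_iff a b).1 h2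
        rcases D.h_cases ha with h1 | h1 <;> rcases D.h_cases hb with h3 | h3
        · exact absurd ((D.u_eq_one_iff a b).2 ⟨h1, h3⟩) hne
        · right; left
          apply ConjClasses.mk_eq_mk_iff_isConj.2
          refine isConj_iff.2 ⟨D.u 0 0 * D.z, ?_⟩
          rw [D.uz_conj_u, D.u_eq_iff]
          exact ⟨h3, by simpa using h1⟩
        · right; left
          rw [show D.u a b = D.u D.h 0 from (D.u_eq_iff _ _ _ _).2 ⟨h1, by simpa using h3⟩]
        · left
          rw [show D.u a b = D.u D.h D.h from (D.u_eq_iff _ _ _ _).2 ⟨h1, h3⟩]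
      · right; right
        apply ConjClasses.mk_eq_mk_iff_isConj.2
        refine isConj_iff.2 ⟨D.u (-a) 0, ?_⟩
        rw [D.u_conj_uz, D.uz_eq_iff]
        have := (D.sq_uz_eq_one_iff a b).1 h2
        exact ⟨by simp, by convert this using 1; ring⟩
    · rintro (rfl | rfl | h)
      · exact ⟨_, Invol.orderOf_two_of_mul_self ((D.sq_u_eq_one_iff _ _).2 ⟨dvd_rfl, dvd_rfl⟩)
          (fun h => hndvd ((D.u_eq_one_iff _ _).1 h).1), rfl⟩
      · exact ⟨_, Invol.orderOf_two_of_mul_self ((D.sq_u_eq_one_iff _ _).2 ⟨dvd_rfl, dvd_zero _⟩)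
          (fun h => hndvd ((D.u_eq_one_iff _ _).1 h).1), rfl⟩
      · refine ⟨_, Invol.orderOf_two_of_mul_self ((D.sq_uz_eq_one_iff _ _).2 (by simp)) ?_,
          (Set.mem_singleton_iff.1 h).symm⟩
        intro h
        exact D.notMem_base 0 0 (h ▸ one_mem _)
  show Nat.card ↥{C : ConjClasses S | ∃ t : S, orderOf t = 2 ∧ ConjClasses.mk t = C} = 3
  rw [e, Nat.card_coe_set_eq, Set.ncard_eq_three]
  exact ⟨_, _, _, fun h => hac (ConjClasses.mk_eq_mk_iff_isConj.1 h),
    fun h => hbz _ _ (ConjClasses.mk_eq_mk_iff_isConj.1 h),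
    fun h => hbz _ _ (ConjClasses.mk_eq_mk_iff_isConj.1 h), rfl⟩

end Cfsg.Agent.S1195
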