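import Cfsg.Statements.S1196
import Cfsg.Agent.Lib.Invol.WrSubgroups
-- import your own Cfsg.Agent.* helpers here

set_option autoImplicit false
open Cfsg

namespace Cfsg.Agent.S1196

/-- A wreathed 2-group S of order 2^(2n+1) has a unique commutative subgroup of order 2^(2n), and this subgroup is isomorphic to the direct product of two cyclic groups of order 2^n. -/
theorem result {S : Type*} [Group S] [Finite S] (hS : Cfsg.IsWreathed S) (n : ℕ) (hn : Nat.card S = 2 ^ (2 * n + 1)) : (∃! U : Subgroup S, IsMulCommutative U ∧ Nat.card U = 2 ^ (2 * n)) ∧ ∀ U : Subgroup S, IsMulCommutative U → Nat.card U = 2 ^ (2 * n) → Nonempty (U ≃* Multiplicative (ZMod (2 ^ n) × ZMod (2 ^ n))) := by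
  obtain ⟨D⟩ := Invol.wr_exists hS
  haveI := D.finite
  have hne := D.n_eq hn
  subst hne
  have hc : Nat.card D.base = 2 ^ (2 * D.n) := by
    rw [D.card_base, show 4 * (D.h * D.h) = (2 * D.h) * (2 * D.h) by ring, D.two_h, ← pow_add,
      two_mul]
  have huniq : ∀ U : Subgroup S, IsMulCommutative U → Nat.card U = 2 ^ (2 * D.n) → U = D.base := by
    intro U hU hUc
    by_cases hle : U ≤ D.base
    · exact Subgroup.eq_of_le_of_card_ge hle (by rw [hUc, hc])
    · exfalso
      have h1 := D.card_le_of_not_le hU hle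
      rw [hUc, ← hc, D.card_base] at h1
      have h2 : 2 ≤ D.h := by
        have := D.two_le
        rw [D.h_eq]
        exact (pow_one 2).symm.le.trans (Nat.pow_le_pow_right (by norm_num) (by omega))
      nlinarith
  refine ⟨⟨D.base, ⟨⟨⟨?_⟩⟩, hc⟩, fun U hU => huniq U hU.1 hU.2⟩, fun U hU hUc => ?_⟩
  · rintro ⟨_, a, b, rfl⟩ ⟨_, c, d, rfl⟩
    exact Subtype.ext (by
      show D.u a b * D.u c d = D.u c d * D.u a b
      rw [D.u_mul, D.u_mul, add_comm a c, add_comm b d])
  · rw [huniq U hU hUc]
    exact D.two_h ▸ D.nonempty_base_equiv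

end Cfsg.Agent.S1196
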