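import Cfsg.Statements.S1197
import Cfsg.Agent.Lib.Invol.WrSubgroups
-- import your own Cfsg.Agent.* helpers here

set_option autoImplicit false
open Cfsg

namespace Cfsg.Agent.S1197

/-- Let S be a wreathed 2-group of order 2^(2n+1). Then Z(S) is cyclic of order 2^n, the derived subgroup S' is cyclic of order 2^n, and S/Z(S) is isomorphic to the dihedral group of order 2^(n+1). -/
theorem result {S : Type*} [Group S] [Finite S] (hS : Cfsg.IsWreathed S) (n : ℕ) (hn : Nat.card S = 2 ^ (2 * n + 1)) : IsCyclic (Subgroup.center S) ∧ Nat.card (Subgroup.center S) = 2 ^ n ∧ IsCyclic (commutator S) ∧ Nat.card (commutator S) = 2 ^ n ∧ Nonempty (S ⧸ Subgroup.center S ≃* DihedralGroup (2 ^ n)) := by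
  obtain ⟨D⟩ := Invol.wr_exists hS
  haveI := D.finite
  have hne := D.n_eq hn
  subst hne
  have hcyc : ∀ g : S, IsCyclic (Subgroup.zpowers g) := fun g => inferInstance
  have hcomm : commutator S = Subgroup.zpowers (D.u 1 (-1)) := by
    ext g
    rw [D.mem_commutator_iff, Subgroup.mem_zpowers_iff]
    simp only [D.u_zpow, one_mul, neg_one_mul, eq_comm]
  refine ⟨D.center_eq ▸ hcyc _, by rw [D.card_center, D.two_h], hcomm ▸ hcyc _,
    by rw [hcomm, Nat.card_zpowers, D.orderOf_anti_gen, D.two_h], ?_⟩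
  set f := QuotientGroup.mk' (Subgroup.center S) with hf
  have hker : ∀ a b : ℤ, f (D.u a b) = 1 ↔ 2 * (D.h : ℤ) ∣ a - b := by
    intro a b
    rw [hf, QuotientGroup.mk'_apply, QuotientGroup.eq_one_iff, D.mem_center_iff]
    constructor
    · rintro ⟨c, hc⟩
      obtain ⟨h1, h2⟩ := (D.u_eq_iff _ _ _ _).1 hc
      have := dvd_sub h1 h2
      rwa [show a - c - (b - c) = a - b by ring] at this
    · exact fun h => ⟨b, (D.u_eq_iff _ _ _ _).2 ⟨h, by simp⟩⟩
  have hd : f (D.u 0 0 * D.z) * f (D.u 1 0) * (f (D.u 0 0 * D.z))⁻¹ = (f (D.u 1 0))⁻¹ := by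
    rw [← map_inv, ← map_mul, ← map_mul, D.uz_conj_u, ← map_inv, D.u_inv, ← inv_mul_eq_one,
      ← map_inv, ← map_mul, D.u_inv, D.u_mul, hker]
    simp
  have ht : f (D.u 0 0 * D.z) * f (D.u 0 0 * D.z) = 1 := by
    rw [← map_mul, (D.sq_uz_eq_one_iff 0 0).2 (by simp), map_one]
  have hord : orderOf (f (D.u 1 0)) = 2 * D.h := by
    apply Nat.dvd_antisymm
    · rw [orderOf_dvd_iff_pow_eq_one, ← zpow_natCast, ← map_zpow, D.u_zpow, hker]
      push_cast; simp
    · have h := pow_orderOf_eq_one (f (D.u 1 0))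
      rw [← zpow_natCast, ← map_zpow, D.u_zpow, hker, one_mul, zero_mul, sub_zero] at h
      exact_mod_cast h
  have hnm : f (D.u 0 0 * D.z) ∉ Subgroup.zpowers (f (D.u 1 0)) := by
    intro h
    obtain ⟨k, hk⟩ := Subgroup.mem_zpowers_iff.1 h
    rw [← map_zpow, D.u_zpow, eq_comm, ← inv_mul_eq_one, ← map_inv, ← map_mul, D.uz_inv,
      D.uz_mul_u, hf, QuotientGroup.mk'_apply, QuotientGroup.eq_one_iff, D.mem_center_iff] at hk
    obtain ⟨c, hc⟩ := hk
    exact D.u_ne_uz _ _ _ _ hc.symm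
  obtain ⟨e⟩ := Invol.nonempty_dihedralEquiv ht hd hnm
  rw [hord, D.two_h] at e
  have htop : Subgroup.closure ({f (D.u 0 0 * D.z), f (D.u 1 0)} : Set _) = ⊤ := by
    rw [eq_top_iff]
    rintro q -
    obtain ⟨g, rfl⟩ := QuotientGroup.mk'_surjective _ q
    have hU : ∀ a b : ℤ, f (D.u a b) ∈
        Subgroup.closure ({f (D.u 0 0 * D.z), f (D.u 1 0)} : Set _) := by
      intro a b
      have e' : f (D.u a b) = f (D.u 1 0) ^ (a - b) := by
        rw [← map_zpow, D.u_zpow, ← mul_inv_eq_one, ← map_inv, ← map_mul, D.u_inv, D.u_mul, hker]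
        ring_nf; simp
      rw [e']
      exact Subgroup.zpow_mem _ (Subgroup.subset_closure (by simp)) _
    obtain ⟨a, b, rfl | rfl⟩ := D.repr_cases g
    · exact hU a b
    · have hm := mul_mem (hU a b) (Subgroup.subset_closure
        (show f (D.u 0 0 * D.z) ∈ ({f (D.u 0 0 * D.z), f (D.u 1 0)} : Set _) from Or.inl rfl))
      rwa [← map_mul, D.u_mul_uz, add_zero, add_zero] at hm
  exact ⟨(e.trans ((MulEquiv.subgroupCongr htop).trans Subgroup.topEquiv)).symm⟩

end Cfsg.Agent.S1197
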