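import Cfsg.Statements.S1198
import Cfsg.Agent.Lib.Invol.WrSubgroups
-- import your own Cfsg.Agent.* helpers here

set_option autoImplicit false
open Cfsg

namespace Cfsg.Agent.S1198

/-- A wreathed 2-group S has a normal Klein four-subgroup T such that every Klein four-subgroup of S other than T is conjugate in S to any other such subgroup; in particular S has exactly two conjugacy classes of Klein four-subgroups. -/
theorem result {S : Type*} [Group S] [Finite S] (hS : Cfsg.IsWreathed S) : ∃ T : Subgroup S, IsKleinFour T ∧ T.Normal ∧ (∃ T₀ : Subgroup S, IsKleinFour T₀ ∧ T₀ ≠ T) ∧ ∀ T₁ T₂ : Subgroup S, IsKleinFour T₁ → IsKleinFour T₂ → T₁ ≠ T → T₂ ≠ T → ∃ s : S, T₁.map (MulAut.conj s).toMonoidHom = T₂ := by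
  obtain ⟨D⟩ := Invol.wr_exists hS
  haveI := D.finite
  have hh := D.h_pos
  refine ⟨D.four0, D.isKleinFour_four0, D.four0_normal, ?_, ?_⟩
  · have hz : orderOf (D.u 0 0 * D.z) = 2 :=
      Invol.orderOf_two_of_mul_self ((D.sq_uz_eq_one_iff 0 0).2 (by simp))
        (fun h => D.notMem_base 0 0 (h ▸ one_mem _))
    have hc : orderOf (D.u D.h D.h) = 2 :=
      Invol.orderOf_two_of_mul_self ((D.sq_u_eq_one_iff _ _).2 ⟨dvd_rfl, dvd_rfl⟩) (fun h => by
        have := Int.le_of_dvd hh ((D.u_eq_one_iff _ _).1 h).1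
        omega)
    set t := D.u 0 0 * D.z with ht
    set c := D.u (D.h : ℤ) (D.h : ℤ) with hcdef
    have hcomm : Commute c t := D.diag_central (by simp) _
    have hne : c ≠ t := D.u_ne_uz _ _ _ _
    have hord : orderOf (c * t) = 2 := by
      refine Invol.orderOf_two_of_mul_self ?_ (fun h => hne ?_)
      · rw [mul_assoc, ← mul_assoc t, ← hcomm.eq, mul_assoc c t t,
          Invol.mul_self_of_orderOf_two hz, mul_one, Invol.mul_self_of_orderOf_two hc]
      · rw [← Invol.inv_of_orderOf_two hz]; exact eq_inv_of_mul_eq_one_left h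
    obtain ⟨e⟩ := Invol.nonempty_dihedralEquiv_pair hc hz
    rw [hord] at e
    refine ⟨Subgroup.closure ({c, t} : Set S), ⟨?_, ?_⟩, fun h => ?_⟩
    · rw [← Nat.card_congr e.toEquiv, DihedralGroup.nat_card]
    · rw [← Monoid.exponent_eq_of_mulEquiv e, DihedralGroup.exponent]; rfl
    · obtain ⟨a, b, -, -, hab⟩ :=
        (h ▸ Subgroup.subset_closure (by simp) : t ∈ D.four0)
      exact D.u_ne_uz a b 0 0 hab.symm
  · intro T₁ T₂ h₁ h₂ hn₁ hn₂
    obtain ⟨a₁, hm₁⟩ := D.four_mem_iff T₁ hn₁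
    obtain ⟨a₂, hm₂⟩ := D.four_mem_iff T₂ hn₂
    refine ⟨D.u (a₂ - a₁) 0, SetLike.ext fun g => ?_⟩
    have hconj : D.u (a₂ - a₁) 0 * (D.u a₁ (-a₁) * D.z) * (D.u (a₂ - a₁) 0)⁻¹ =
        D.u a₂ (-a₂) * D.z := by
      rw [D.u_conj_uz]; ring_nf
    set s := D.u (a₂ - a₁) 0 with hs
    have hc : s * D.u D.h D.h * s⁻¹ = D.u D.h D.h := by
      rw [← (D.diag_central (by simp) s).eq, mul_inv_cancel_right]
    have hk : ∀ w w' : S, s * w * s⁻¹ = w' → (s⁻¹ * g * s = w ↔ g = w') := by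
      rintro w _ rfl
      constructor
      · rintro rfl; group
      · rintro rfl; group
    rw [Subgroup.mem_map_equiv, MulAut.conj_symm_apply, hm₁, hm₂, hk 1 1 (by group), hk _ _ hc,
      hk _ _ hconj, hk _ (D.u D.h D.h * (D.u a₂ (-a₂) * D.z)) (by
        rw [← hconj]
        conv_rhs => rw [← hc]
        group)]

end Cfsg.Agent.S1198
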