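import Cfsg.Statements.S1199
import Cfsg.Agent.Lib.Invol.WrSubgroups
-- import your own Cfsg.Agent.* helpers here

set_option autoImplicit false
open Cfsg

namespace Cfsg.Agent.S1199

/-- A wreathed 2-group S of order 2^(2n+1) has exactly one subgroup of order 2^(n+1) isomorphic to a generalized quaternion group, and that subgroup is normal in S. -/
theorem result {S : Type*} [Group S] [Finite S] (hS : Cfsg.IsWreathed S) (n : ℕ) (hn : Nat.card S = 2 ^ (2 * n + 1)) : (∃! Y : Subgroup S, Nat.card Y = 2 ^ (n + 1) ∧ Nonempty (Y ≃* QuaternionGroup (2 ^ (n - 1)))) ∧ ∀ Y : Subgroup S, Nat.card Y = 2 ^ (n + 1) → Nonempty (Y ≃* QuaternionGroup (2 ^ (n - 1))) → Y.Normal := by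
  obtain ⟨D⟩ := Invol.wr_exists hS
  haveI := D.finite
  have hne := D.n_eq hn
  subst hne
  have hh := D.h_pos
  have hh2 : 2 ≤ D.h := by
    have := D.h_even; omega
  set t := D.u D.h 0 * D.z with ht
  set d := D.u 1 (-1) with hd
  have hinv : t * d * t⁻¹ = d⁻¹ := by rw [ht, hd, D.uz_conj_u, D.u_inv]; simp
  have htt : t * t = d ^ D.h := by
    rw [ht, D.sq_uz, hd, ← zpow_natCast, D.u_zpow, D.u_eq_iff]
    exact ⟨by simp, ⟨1, by ring⟩⟩
  have hnm : t ∉ Subgroup.zpowers d := by
    intro h
    obtain ⟨k, hk⟩ := Subgroup.mem_zpowers_iff.1 h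
    rw [hd, D.u_zpow] at hk
    exact D.u_ne_uz _ _ _ _ hk
  obtain ⟨e⟩ := Invol.nonempty_quaternionEquiv hinv D.h D.orderOf_anti_gen htt hnm
  set Y := Subgroup.closure ({t, d} : Set S) with hY
  have hcardY : Nat.card Y = 2 ^ (D.n + 1) := by
    haveI : NeZero D.h := ⟨by omega⟩
    rw [← Nat.card_congr e.toEquiv, Nat.card_eq_fintype_card, QuaternionGroup.card, pow_succ,
      ← D.two_h]
    ring
  have hYiso : Nonempty (Y ≃* QuaternionGroup (2 ^ (D.n - 1))) := D.h_eq ▸ ⟨e.symm⟩
  have hp : ∀ k : ℤ, D.u k (-k) ∈ Y := by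
    intro k
    have : D.u k (-k) = d ^ k := by rw [hd, D.u_zpow, one_mul, neg_one_mul]
    rw [this]
    exact Subgroup.zpow_mem _ (Subgroup.subset_closure (by simp)) k
  have huniq : ∀ Y' : Subgroup S, Nat.card Y' = 2 ^ (D.n + 1) →
      Nonempty (Y' ≃* QuaternionGroup (2 ^ (D.n - 1))) → Y' = Y := by
    rintro Y' hc ⟨f⟩
    refine Subgroup.eq_of_le_of_card_ge ?_ (by rw [hc, hcardY])
    rw [← D.h_eq] at f
    haveI : NeZero D.h := ⟨by omega⟩
    -- in the quaternion group the central elements square to one, and the involution is a square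
    have hcent : ∀ q : QuaternionGroup D.h, (∀ r, q * r = r * q) → q * q = 1 := by
      rintro (i | i) hq
      · have h := hq (QuaternionGroup.xa 0)
        rw [QuaternionGroup.a_mul_xa, QuaternionGroup.xa_mul_a, QuaternionGroup.xa.injEq] at h
        rw [QuaternionGroup.a_mul_a, QuaternionGroup.one_def, QuaternionGroup.a.injEq]
        linear_combination -h
      · exfalso
        have h := hq (QuaternionGroup.a 1)
        rw [QuaternionGroup.xa_mul_a, QuaternionGroup.a_mul_xa, QuaternionGroup.xa.injEq] at h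
        have h2 : ((2 : ℕ) : ZMod (2 * D.h)) = 0 := by push_cast; linear_combination h
        rw [ZMod.natCast_eq_zero_iff] at h2
        have := Nat.le_of_dvd (by norm_num) h2
        omega
    have huq : ∀ q : QuaternionGroup D.h, q * q = 1 → q ≠ 1 →
        q = QuaternionGroup.xa 0 * QuaternionGroup.xa 0 := by
      rintro (i | i) hq hq1
      · rw [QuaternionGroup.a_mul_a, QuaternionGroup.one_def, QuaternionGroup.a.injEq] at hq
        rw [QuaternionGroup.one_def, Ne, QuaternionGroup.a.injEq] at hq1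
        rw [QuaternionGroup.xa_mul_xa, QuaternionGroup.a.injEq, add_zero, sub_zero]
        obtain ⟨k, rfl⟩ := ZMod.intCast_surjective i
        rw [← Int.cast_add, ZMod.intCast_zmod_eq_zero_iff_dvd] at hq
        rw [ZMod.intCast_zmod_eq_zero_iff_dvd] at hq1
        rw [show ((D.h : ℕ) : ZMod (2 * D.h)) = (((D.h : ℤ)) : ZMod (2 * D.h)) by simp,
          ZMod.intCast_eq_intCast_iff_dvd_sub]
        push_cast at hq hq1 ⊢
        rw [← two_mul, Int.mul_dvd_mul_iff_left (by norm_num)] at hq
        rcases D.h_cases hq with h | h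
        · exact absurd h hq1
        · rw [← dvd_neg, neg_sub]; exact h
      · have : orderOf (QuaternionGroup.xa i) ∣ 2 := orderOf_dvd_of_pow_eq_one (by rw [sq]; exact hq)
        rw [QuaternionGroup.orderOf_xa] at this
        omega
    have hbase : ∀ g : S, g * g ∈ D.base := fun g =>
      Subgroup.mul_self_mem_of_index_two D.base_index g
    -- squares of elements of `Y'` outside the base are the involution `u h h`
    have hodd : ∀ a b : ℤ, D.u a b * D.z ∈ Y' → 2 * (D.h : ℤ) ∣ a + b - D.h := by
      intro a b hab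
      set v : Y' := ⟨_, hab⟩ with hv
      have hvc : ∀ r : Y', (v * v) * r = r * (v * v) := by
        intro r
        refine Subtype.ext ?_
        show (D.u a b * D.z) * (D.u a b * D.z) * (r : S) = r * ((D.u a b * D.z) * (D.u a b * D.z))
        rw [D.sq_uz]
        exact (D.diag_central (by simp) (r : S)).eq
      have h4 : (v * v) * (v * v) = 1 := f.injective (by
        rw [map_one, map_mul]
        refine hcent _ fun r => ?_
        obtain ⟨r, rfl⟩ := f.surjective r
        rw [← map_mul, ← map_mul, hvc])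
      have h2 : v * v ≠ 1 := by
        intro h2
        have h5 := huq (f v) (by rw [← map_mul, h2, map_one]) (fun h => by
          rw [f.map_eq_one_iff] at h
          have h' : D.u a b * D.z = 1 := congrArg Subtype.val h
          exact D.notMem_base a b (by rw [h']; exact one_mem _))
        obtain ⟨w, hw⟩ := f.surjective (QuaternionGroup.xa 0)
        rw [← hw, ← map_mul] at h5
        have h6 : D.u a b * D.z = (w : S) * w := congrArg Subtype.val (f.injective h5)
        exact D.notMem_base a b (by rw [h6]; exact hbase (w : S))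
      have h4' : (D.u a b * D.z) * (D.u a b * D.z) * ((D.u a b * D.z) * (D.u a b * D.z)) = 1 :=
        congrArg Subtype.val h4
      rw [D.sq_uz, D.sq_u_eq_one_iff] at h4'
      rcases D.h_cases h4'.1 with h | h
      · exact absurd (Subtype.ext ((D.sq_uz_eq_one_iff a b).2 h) : v * v = 1) h2
      · exact h
    have hex : ∃ a b : ℤ, D.u a b * D.z ∈ Y' := by
      by_contra hno
      push_neg at hno
      have hle : Y' ≤ D.base := fun g hg => by
        obtain ⟨a, b, rfl | rfl⟩ := D.repr_cases g
        · exact D.u_mem_base a b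
        · exact absurd hg (hno a b)
      have hab : ∀ p q : Y', p * q = q * p := by
        rintro ⟨p, hp⟩ ⟨q, hq⟩
        obtain ⟨a, b, rfl⟩ := hle hp
        obtain ⟨c, d', rfl⟩ := hle hq
        exact Subtype.ext (by
          show D.u a b * D.u c d' = D.u c d' * D.u a b
          rw [D.u_mul, D.u_mul, add_comm a c, add_comm b d'])
      have h1 := hcent (QuaternionGroup.xa 0) fun r => by
        obtain ⟨r, rfl⟩ := f.surjective r
        obtain ⟨w, hw⟩ := f.surjective (QuaternionGroup.xa 0)
        rw [← hw, ← map_mul, ← map_mul, hab]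
      have : orderOf (QuaternionGroup.xa (0 : ZMod (2 * D.h))) ∣ 2 :=
        orderOf_dvd_of_pow_eq_one (by rw [sq]; exact h1)
      rw [QuaternionGroup.orderOf_xa] at this
      omega
    obtain ⟨a₀, b₀, h0⟩ := hex
    intro g hg
    have hty : t ∈ Y := Subgroup.subset_closure (by simp)
    obtain ⟨a, b, rfl | rfl⟩ := D.repr_cases g
    · have h := hodd _ _ (D.u_mul_uz a b a₀ b₀ ▸ mul_mem hg h0)
      have h' := dvd_sub h (hodd _ _ h0)
      rw [show D.u a b = D.u a (-a) from (D.u_eq_iff _ _ _ _).2 ⟨by simp, by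
        rwa [show a + a₀ + (b + b₀) - (D.h : ℤ) - (a₀ + b₀ - D.h) = b - -a by ring] at h'⟩]
      exact hp a
    · have h := hodd a b hg
      rw [show D.u a b * D.z = D.u (a - D.h) (-(a - D.h)) * t by
        rw [ht, D.u_mul_uz, D.uz_eq_iff]
        exact ⟨by simp, by convert h using 1; ring⟩]
      exact mul_mem (hp _) hty
  refine ⟨⟨Y, ⟨hcardY, hYiso⟩, fun Y' hY' => huniq Y' hY'.1 hY'.2⟩, fun Y' hc hi => ?_⟩
  refine ⟨fun v hv g => ?_⟩
  have hiso : Nonempty (Y'.map (MulAut.conj g).toMonoidHom ≃* QuaternionGroup (2 ^ (D.n - 1))) :=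
    ⟨(Y'.equivMapOfInjective _ (MulAut.conj g).injective).symm.trans hi.some⟩
  have hcc : Nat.card (Y'.map (MulAut.conj g).toMonoidHom) = 2 ^ (D.n + 1) := by
    rw [← Nat.card_congr (Y'.equivMapOfInjective _ (MulAut.conj g).injective).toEquiv, hc]
  have e2 := (huniq _ hcc hiso).trans (huniq Y' hc hi).symm
  rw [← e2]
  exact ⟨v, hv, rfl⟩

end Cfsg.Agent.S1199
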