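import Cfsg.Statements.S1200
import Cfsg.Agent.Lib.Invol.WrSubgroups
-- import your own Cfsg.Agent.* helpers here

set_option autoImplicit false
open Cfsg

namespace Cfsg.Agent.S1200

/-- Let S be a wreathed 2-group of order 2^(2n+1) and Ω the subgroup generated by its involutions. Then Ω has order 2^(n+2) and S/Ω is cyclic: some s ∈ S together with Ω generates S. -/
theorem result {S : Type*} [Group S] [Finite S] (hS : Cfsg.IsWreathed S) (n : ℕ) (hn : Nat.card S = 2 ^ (2 * n + 1)) : Nat.card (Subgroup.closure {x : S | orderOf x = 2}) = 2 ^ (n + 2) ∧ ∃ s : S, Subgroup.closure {x : S | orderOf x = 2} ⊔ Subgroup.zpowers s = ⊤ := by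
  classical
  obtain ⟨D⟩ := Invol.wr_exists hS
  haveI := D.finite
  have hne := D.n_eq hn
  subst hne
  have hh := D.h_pos
  haveI : NeZero D.h := ⟨by omega⟩
  -- the sum of the coordinates modulo `h`
  have hex : ∀ g : S, ∃ c : ZMod D.h, ∀ a b : ℤ, (g = D.u a b ∨ g = D.u a b * D.z) →
      ((a + b : ℤ) : ZMod D.h) = c := by
    intro g
    obtain ⟨a, b, hg⟩ := D.repr_cases g
    refine ⟨((a + b : ℤ) : ZMod D.h), fun a' b' hg' => ?_⟩
    have h12 : 2 * (D.h : ℤ) ∣ a - a' ∧ 2 * (D.h : ℤ) ∣ b - b' := by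
      rcases hg with rfl | rfl <;> rcases hg' with h | h
      · exact (D.u_eq_iff _ _ _ _).1 h
      · exact absurd h (D.u_ne_uz _ _ _ _)
      · exact absurd h.symm (D.u_ne_uz _ _ _ _)
      · exact (D.uz_eq_iff _ _ _ _).1 h
    rw [ZMod.intCast_eq_intCast_iff_dvd_sub]
    have h3 := (dvd_mul_left (D.h : ℤ) 2).trans (dvd_add h12.1 h12.2)
    rwa [show a + b - (a' + b') = a - a' + (b - b') by ring]
  choose c hc using hex
  have cu : ∀ a b : ℤ, c (D.u a b) = ((a + b : ℤ) : ZMod D.h) := fun a b =>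
    (hc _ a b (Or.inl rfl)).symm
  have cz : ∀ a b : ℤ, c (D.u a b * D.z) = ((a + b : ℤ) : ZMod D.h) := fun a b =>
    (hc _ a b (Or.inr rfl)).symm
  let φ : S →* Multiplicative (ZMod D.h) := MonoidHom.mk' (fun g => Multiplicative.ofAdd (c g))
    (fun p q => by
      apply congrArg Multiplicative.ofAdd (a₁ := c (p * q)) (a₂ := c p + c q) ?_ |>.trans
      · rfl
      obtain ⟨a, b, rfl | rfl⟩ := D.repr_cases p <;> obtain ⟨a', b', rfl | rfl⟩ := D.repr_cases q
      · rw [D.u_mul, cu, cu, cu, ← Int.cast_add]; congr 1; ring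
      · rw [D.u_mul_uz, cz, cu, cz, ← Int.cast_add]; congr 1; ring
      · rw [D.uz_mul_u, cz, cu, cz, ← Int.cast_add]; congr 1; ring
      · rw [D.uz_mul_uz, cu, cz, cz, ← Int.cast_add]; congr 1; ring)
  have hsurj : Function.Surjective φ := by
    intro v
    obtain ⟨k, hk⟩ := ZMod.intCast_surjective (Multiplicative.toAdd v)
    refine ⟨D.u k 0, ?_⟩
    show Multiplicative.ofAdd (c (D.u k 0)) = v
    rw [cu, add_zero, hk, ofAdd_toAdd]
  have hmemK : ∀ g : S, g ∈ φ.ker ↔ c g = 0 := fun g => Iff.rfl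
  have hK : Subgroup.closure {v : S | orderOf v = 2} = φ.ker := by
    refine le_antisymm ((Subgroup.closure_le _).2 fun v hv => ?_) ?_
    · have h2 := Invol.mul_self_of_orderOf_two hv
      rw [SetLike.mem_coe, hmemK]
      obtain ⟨a, b, rfl | rfl⟩ := D.repr_cases v
      · obtain ⟨ha, hb⟩ := (D.sq_u_eq_one_iff a b).1 h2
        rw [cu, ZMod.intCast_zmod_eq_zero_iff_dvd]
        exact dvd_add ha hb
      · rw [cz, ZMod.intCast_zmod_eq_zero_iff_dvd]
        exact (dvd_mul_left (D.h : ℤ) 2).trans ((D.sq_uz_eq_one_iff a b).1 h2)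
    · set K := Subgroup.closure {v : S | orderOf v = 2}
      have hinv : ∀ g : S, g * g = 1 → g ∈ K := by
        intro g hg
        by_cases h1 : g = 1
        · exact h1 ▸ one_mem _
        · exact Subgroup.subset_closure (Invol.orderOf_two_of_mul_self hg h1)
      have hz : D.u 0 0 * D.z ∈ K := hinv _ ((D.sq_uz_eq_one_iff 0 0).2 (by simp))
      have hU : ∀ a b : ℤ, (D.h : ℤ) ∣ a + b → D.u a b ∈ K := by
        intro a b hab
        have h1 : D.u a (-a) * D.z * (D.u 0 0 * D.z) ∈ K :=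
          mul_mem (hinv _ ((D.sq_uz_eq_one_iff _ _).2 (by simp))) hz
        have h2 : D.u 0 (a + b) ∈ K := hinv _ ((D.sq_u_eq_one_iff _ _).2 ⟨dvd_zero _, hab⟩)
        have := mul_mem h1 h2
        rw [D.uz_mul_uz, D.u_mul] at this
        simpa using this
      intro g hg
      rw [hmemK] at hg
      obtain ⟨a, b, rfl | rfl⟩ := D.repr_cases g
      · rw [cu, ZMod.intCast_zmod_eq_zero_iff_dvd] at hg
        exact hU a b hg
      · rw [cz, ZMod.intCast_zmod_eq_zero_iff_dvd] at hg
        have := mul_mem (hU a b hg) hz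
        rw [D.u_mul_uz] at this
        simpa using this
  refine ⟨?_, D.x, ?_⟩
  · rw [hK]
    have h := φ.ker.card_mul_index
    rw [Subgroup.index_ker, MonoidHom.range_eq_top.2 hsurj, Subgroup.card_top,
      Nat.card_congr (Multiplicative.toAdd : Multiplicative (ZMod D.h) ≃ ZMod D.h), Nat.card_zmod,
      D.card_eq] at h
    apply Nat.eq_of_mul_eq_mul_right (show 0 < D.h by omega)
    rw [h, pow_add, ← D.two_h]; ring
  · rw [eq_top_iff]
    intro g _
    obtain ⟨k, hk⟩ := ZMod.intCast_surjective (c g)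
    have hxk : φ (D.x ^ k) = φ g := by
      show Multiplicative.ofAdd (c (D.x ^ k)) = Multiplicative.ofAdd (c g)
      rw [show D.x ^ k = D.u k 0 by simp [Invol.WrData.u], cu, add_zero, hk]
    have hmem : g * (D.x ^ k)⁻¹ ∈ φ.ker := by
      rw [MonoidHom.mem_ker, map_mul, map_inv, hxk, mul_inv_cancel]
    rw [← hK] at hmem
    simpa using Subgroup.mul_mem_sup hmem (Subgroup.zpow_mem _ (Subgroup.mem_zpowers D.x) k)

end Cfsg.Agent.S1200
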