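import Cfsg.Statements.S1201
import Cfsg.Agent.Lib.Invol.WrSubgroups
-- import your own Cfsg.Agent.* helpers here

set_option autoImplicit false
open Cfsg

namespace Cfsg.Agent.S1201

/-- If X is a non-commutative subgroup of a wreathed 2-group S, then Z(X) ≤ Z(S). -/
theorem result {S : Type*} [Group S] [Finite S] (hS : Cfsg.IsWreathed S) (X : Subgroup S) (hX : ¬ IsMulCommutative X) : (Subgroup.center X).map X.subtype ≤ Subgroup.center S := by
  obtain ⟨D⟩ := Invol.wr_exists hS
  rintro _ ⟨w, hw, rfl⟩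
  have hw' : ∀ v ∈ X, Commute (w : S) v := fun v hv =>
    (congrArg Subtype.val (Subgroup.mem_center_iff.1 hw ⟨v, hv⟩)).symm
  show (w : S) ∈ Subgroup.center S
  -- some element lies outside the base
  have hout : ∃ a b : ℤ, D.u a b * D.z ∈ X := by
    by_contra hno
    push_neg at hno
    refine hX ⟨⟨fun p q => ?_⟩⟩
    obtain ⟨a, b, hp | hp⟩ := D.repr_cases (p : S)
    · obtain ⟨c, d, hq | hq⟩ := D.repr_cases (q : S)
      · refine Subtype.ext ?_
        show (p : S) * q = q * p
        rw [hp, hq, D.u_mul, D.u_mul, add_comm a c, add_comm b d]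
      · exact absurd (hq ▸ q.2) (hno c d)
    · exact absurd (hp ▸ p.2) (hno a b)
  obtain ⟨a, b, hab⟩ := hout
  -- and some element of the base is not central
  have hin : ∃ c d : ℤ, D.u c d ∈ X ∧ ¬ 2 * (D.h : ℤ) ∣ c - d := by
    by_contra hno
    push_neg at hno
    have hX' : ∀ p ∈ X, ∃ e : S, e ∈ Subgroup.center S ∧ (p = e ∨ p = e * (D.u a b * D.z)) := by
      intro p hp
      obtain ⟨c, d, rfl | rfl⟩ := D.repr_cases p
      · exact ⟨_, Subgroup.mem_center_iff.2
          (fun k => (D.diag_central (hno c d hp) k).symm.eq), Or.inl rfl⟩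
      · have h' := mul_mem hp (inv_mem hab)
        rw [D.uz_inv, D.uz_mul_uz] at h'
        refine ⟨D.u (c + -a) (d + -b), Subgroup.mem_center_iff.2
          (fun k => (D.diag_central (hno _ _ h') k).symm.eq), Or.inr ?_⟩
        rw [D.u_mul_uz]; ring_nf
    refine hX ⟨⟨fun p q => Subtype.ext ?_⟩⟩
    show (p : S) * q = q * p
    obtain ⟨e, he, hp⟩ := hX' p p.2
    obtain ⟨f, hf, hq⟩ := hX' q q.2
    rw [Subgroup.mem_center_iff] at he hf
    have ce : ∀ k, Commute e k := fun k => (he k).symm
    have cf : ∀ k, Commute f k := fun k => (hf k).symm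
    rcases hp with hp | hp <;> rcases hq with hq | hq <;> rw [hp, hq]
    · exact (ce _).eq
    · exact (ce _).eq
    · exact (cf _).symm.eq
    · exact ((ce _).mul_left ((cf (D.u a b * D.z)).symm.mul_right (Commute.refl _))).eq
  obtain ⟨c, d, hcd, hnd⟩ := hin
  obtain ⟨p, q, hpq | hpq⟩ := D.repr_cases (w : S)
  · have h := hw' _ hab
    rw [hpq, D.commute_u_uz_iff] at h
    rw [hpq]
    exact Subgroup.mem_center_iff.2 fun k => (D.diag_central h k).symm.eq
  · have h := (hw' _ hcd).symm
    rw [hpq, D.commute_u_uz_iff] at h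
    exact absurd h hnd

end Cfsg.Agent.S1201
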