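import Cfsg.Statements.S1202
import Cfsg.Agent.Lib.Invol.WrCritical
-- import your own Cfsg.Agent.* helpers here

set_option autoImplicit false
open Cfsg

namespace Cfsg.Agent.S1202

open Invol in
theorem qsub_relIndex {S : Type*} [Group S] (D : WrData S) {e : ℤ} (he : Even e) :
    (D.qsub e).relIndex (Subgroup.normalizer ((D.qsub e : Subgroup S) : Set S)) = 2 := by
  haveI := D.finite
  set X := D.qsub e
  obtain ⟨r, hr⟩ := D.h_even
  have hu : ∀ p q : ℤ, D.u p q ∈ Subgroup.normalizer (X : Set S) ↔ r ∣ p - q := by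
    intro p q
    rw [Subgroup.mem_normalizer_iff]
    constructor
    · intro h
      have h1 := (h (D.u e 0 * D.z)).1 ((D.uz_mem_qsub_iff _ _ _).2 (by simp))
      rw [D.u_conj_uz, D.uz_mem_qsub_iff] at h1
      have h2 : (D.h : ℤ) ∣ 2 * (p - q) := dvd_congr h1 (by ring)
      rw [hr] at h2
      exact (Int.mul_dvd_mul_iff_left (by norm_num)).1 h2
    · intro h g
      have h2 : (D.h : ℤ) ∣ 2 * (p - q) := hr ▸ mul_dvd_mul_left 2 h
      obtain ⟨c, d, rfl | rfl⟩ := D.repr_cases g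
      · rw [D.u_inv, D.u_mul, D.u_mul, D.u_mem_qsub_iff, D.u_mem_qsub_iff]
        exact ⟨fun h => dvd_congr h (by ring), fun h => dvd_congr h (by ring)⟩
      · rw [D.u_conj_uz, D.uz_mem_qsub_iff, D.uz_mem_qsub_iff]
        exact ⟨fun h => dvd_congr (dvd_add h h2) (by ring),
          fun h => dvd_congr (dvd_sub h h2) (by ring)⟩
  have hg : D.u e 0 * D.z ∈ X := (D.uz_mem_qsub_iff _ _ _).2 (by simp)
  have hXN : X ≤ Subgroup.normalizer (X : Set S) := Subgroup.le_normalizer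
  refine Subgroup.index_eq_two_iff.2 ⟨⟨D.u r 0, (hu _ _).2 (by simp)⟩, fun b => ?_⟩
  simp only [Subgroup.mem_subgroupOf, Subgroup.coe_mul]
  have hrn : ¬ (D.h : ℤ) ∣ r := fun h => by
    have := D.h_pos
    have := Int.le_of_dvd (by omega) h
    omega
  have key : ∀ v : ℤ, r ∣ v → ((D.h : ℤ) ∣ v + r ↔ ¬ (D.h : ℤ) ∣ v) := by
    intro v hv
    refine ⟨fun h1 h2 => hrn (dvd_congr (dvd_sub h1 h2) (by ring)), fun h1 => ?_⟩
    obtain ⟨m, rfl⟩ := hv
    rcases Int.even_or_odd m with ⟨i, rfl⟩ | ⟨i, rfl⟩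
    · exact absurd ⟨i, by rw [hr]; ring⟩ h1
    · exact ⟨i + 1, by rw [hr]; ring⟩
  obtain ⟨p, q, hp | hp⟩ := D.repr_cases (b : S)
  · have hv := (hu p q).1 (hp ▸ b.2)
    rw [hp, D.u_mul, D.u_mem_qsub_iff, D.u_mem_qsub_iff, show p + r - (q + 0) = p - q + r by ring]
    have := key _ hv
    unfold Xor at *
    tauto
  · have hv : r ∣ p - q - e := by
      have h1 := mul_mem b.2 (inv_mem (hXN hg))
      rw [hp, D.uz_inv, D.uz_mul_uz, hu] at h1
      exact dvd_congr h1 (by ring)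
    rw [hp, D.uz_mul_u, D.uz_mem_qsub_iff, D.uz_mem_qsub_iff,
      show p + 0 - (q + r) - e = (p - q - e) + (- r) by ring]
    have h2r : (D.h : ℤ) ∣ 2 * r := hr ▸ dvd_rfl
    have : (D.h : ℤ) ∣ (p - q - e) + (-r) ↔ (D.h : ℤ) ∣ (p - q - e) + r :=
      ⟨fun h => dvd_congr (dvd_add h h2r) (by ring), fun h => dvd_congr (dvd_sub h h2r) (by ring)⟩
    rw [this]
    have := key _ hv
    unfold Xor at *
    tauto

open Invol in
theorem qsub_eq_sup {S : Type*} [Group S] (D : WrData S) {e : ℤ} (he : Even e) :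
    ∃ Q : Subgroup S, Nonempty (Q ≃* QuaternionGroup 2) ∧ D.qsub e = Q ⊔ Subgroup.center S := by
  haveI := D.finite
  obtain ⟨r, hr⟩ := D.h_even
  obtain ⟨f, hf⟩ := he
  have hpos := D.h_pos
  have hh := dvd_refl (D.h : ℤ)
  set d := D.u (3 * r) r
  set t := D.u (r + f) (r - f) * D.z with ht
  have hdd : d * d = D.u D.h D.h := by
    rw [D.sq_u, D.u_eq_iff]
    exact ⟨⟨1, by rw [hr]; ring⟩, ⟨0, by rw [hr]; ring⟩⟩
  have hd4 : orderOf d = 2 * 2 := by
    haveI : Fact (Nat.Prime 2) := ⟨Nat.prime_two⟩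
    refine orderOf_eq_prime_pow (p := 2) (n := 1) ?_ ?_
    · rw [pow_one, sq, hdd, D.u_eq_one_iff]
      rintro ⟨h1, -⟩
      have := Int.le_of_dvd hpos h1
      omega
    · rw [show (2 : ℕ) ^ (1 + 1) = 2 * 2 from rfl, pow_mul, sq, sq, hdd, D.sq_u, D.u_eq_one_iff]
      simp
  have htt : t * t = d ^ 2 := by
    rw [sq, hdd, ht, D.sq_uz, D.u_eq_iff]
    exact ⟨⟨0, by rw [hr]; ring⟩, ⟨0, by rw [hr]; ring⟩⟩
  have hinv : t * d * t⁻¹ = d⁻¹ := by
    rw [D.uz_conj_u, D.u_inv, D.u_eq_iff]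
    exact ⟨⟨1, by rw [hr]; ring⟩, ⟨1, by rw [hr]; ring⟩⟩
  have hnm : t ∉ Subgroup.zpowers d := fun h => by
    obtain ⟨k, hk⟩ := Subgroup.mem_zpowers_iff.1 h
    rw [D.u_zpow] at hk
    exact D.u_ne_uz _ _ _ _ hk
  obtain ⟨φ⟩ := nonempty_quaternionEquiv hinv 2 hd4 htt hnm
  refine ⟨_, ⟨φ.symm⟩, le_antisymm ?_ ?_⟩
  · have htm : t ∈ Subgroup.closure ({t, d} : Set S) ⊔ Subgroup.center S :=
      le_sup_left (a := Subgroup.closure ({t, d} : Set S)) (Subgroup.subset_closure (by simp))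
    have hdm : d ∈ Subgroup.closure ({t, d} : Set S) ⊔ Subgroup.center S :=
      le_sup_left (a := Subgroup.closure ({t, d} : Set S)) (Subgroup.subset_closure (by simp))
    have hzm : ∀ c : ℤ, D.u c c ∈ Subgroup.closure ({t, d} : Set S) ⊔ Subgroup.center S := fun c =>
      le_sup_right (a := Subgroup.closure ({t, d} : Set S)) (D.mem_center_iff.2 ⟨c, rfl⟩)
    have hbase : ∀ p q : ℤ, (D.h : ℤ) ∣ p - q →
        D.u p q ∈ Subgroup.closure ({t, d} : Set S) ⊔ Subgroup.center S := by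
      intro p q h
      rcases D.h_cases h with h1 | h1
      · rw [show D.u p q = D.u q q from (D.u_eq_iff _ _ _ _).2 ⟨h1, by simp⟩]
        exact hzm q
      · have e' : D.u p q = d * D.u (q - r) (q - r) := by
          rw [D.u_mul, D.u_eq_iff]
          refine ⟨dvd_congr h1 (by rw [hr]; ring), by simp⟩
        rw [e']
        exact mul_mem hdm (hzm _)
    rintro g ⟨p, q, ⟨rfl, h⟩ | ⟨rfl, h⟩⟩
    · exact hbase p q h
    · have e' : D.u p q * D.z = D.u (p - (r + f)) (q - (r - f)) * t := by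
        rw [ht, D.u_mul_uz]; ring_nf
      rw [e']
      exact mul_mem (hbase _ _ (dvd_congr h (by rw [hf]; ring))) htm
  · refine sup_le (Subgroup.closure_le _ |>.2 ?_) ?_
    · rintro g (rfl | rfl)
      · exact (D.uz_mem_qsub_iff _ _ _).2 ⟨0, by rw [hf]; ring⟩
      · exact (D.u_mem_qsub_iff _ _ _).2 ⟨1, by rw [hr]; ring⟩
    · intro g hg
      obtain ⟨c, rfl⟩ := D.mem_center_iff.1 hg
      exact (D.u_mem_qsub_iff _ _ _).2 (by simp)

open Invol in
theorem qsub_conj {S : Type*} [Group S] (D : WrData S) {e e' : ℤ} (he : Even e) (he' : Even e') :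
    ∃ s : S, (D.qsub e).map (MulAut.conj s).toMonoidHom = D.qsub e' := by
  obtain ⟨f, rfl⟩ := he
  obtain ⟨f', rfl⟩ := he'
  refine ⟨D.u (f' - f) 0, ?_⟩
  ext g
  rw [Subgroup.mem_map_equiv, MulAut.conj_symm_apply, D.u_inv]
  obtain ⟨p, q, rfl | rfl⟩ := D.repr_cases g
  · rw [D.u_mul, D.u_mul, D.u_mem_qsub_iff, D.u_mem_qsub_iff]
    exact ⟨fun h => dvd_congr h (by ring), fun h => dvd_congr h (by ring)⟩
  · rw [show D.u (f' - f) 0 = (D.u (-(f' - f)) (-0))⁻¹ by rw [D.u_inv, neg_neg, neg_neg],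
      D.u_conj_uz, D.uz_mem_qsub_iff, D.uz_mem_qsub_iff]
    exact ⟨fun h => dvd_congr h (by ring), fun h => dvd_congr h (by ring)⟩

/-- Let S be a wreathed 2-group of order 2^(2n+1) and X a subgroup with C_S(X) ≤ X such that Aut(X) is not a 2-group. Then |N_S(X) : X| = 2, and either X is the commutative subgroup of order 2^(2n), or X = Q·Z(S) for some subgroup Q ≅ Q₈; in the latter case any two such subgroups are conjugate in S. -/
theorem result {S : Type*} [Group S] [Finite S] (hS : Cfsg.IsWreathed S) (n : ℕ) (hn : Nat.card S = 2 ^ (2 * n + 1)) (X : Subgroup S) (hC : Subgroup.centralizer (X : Set S) ≤ X) (hA : ¬ IsPGroup 2 (MulAut X)) : X.relIndex (Subgroup.normalizer (X : Set S)) = 2 ∧ ((IsMulCommutative X ∧ Nat.card X = 2 ^ (2 * n)) ∨ ∃ Q : Subgroup S, Nonempty (Q ≃* QuaternionGroup 2) ∧ X = Q ⊔ Subgroup.center S) ∧ ∀ X' : Subgroup S, Subgroup.centralizer (X' : Set S) ≤ X' → ¬ IsPGroup 2 (MulAut X') → ¬ IsMulCommutative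 X → ¬ IsMulCommutative X' → ∃ s : S, X.map (MulAut.conj s).toMonoidHom = X' := by
  classical
  obtain ⟨D⟩ := Invol.wr_exists hS
  have hcases : ∀ Y : Subgroup S, Subgroup.centralizer (Y : Set S) ≤ Y → ¬ IsPGroup 2 (MulAut Y) →
      Y = D.base ∨ ∃ e : ℤ, Even e ∧ Y = D.qsub e := fun Y hY hY' => by
    by_cases hle : Y ≤ D.base
    · exact Or.inl (D.eq_base hY hle)
    · exact Or.inr (D.eq_qsub hY hY' hle)
  have hbasec : IsMulCommutative D.base := ⟨⟨fun p q => by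
    obtain ⟨a, b, hp⟩ := p.2
    obtain ⟨c, d, hq⟩ := q.2
    refine Subtype.ext ?_
    show (p : S) * q = q * p
    rw [hp, hq, D.u_mul, D.u_mul, add_comm a c, add_comm b d]⟩⟩
  have hconj : ∀ X' : Subgroup S, Subgroup.centralizer (X' : Set S) ≤ X' → ¬ IsPGroup 2 (MulAut X') →
      ¬ IsMulCommutative X → ¬ IsMulCommutative X' →
      ∃ s : S, X.map (MulAut.conj s).toMonoidHom = X' := fun X' hC' hA' hnX hnX' => by
    rcases hcases X hC hA with rfl | ⟨e, he, rfl⟩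
    · exact absurd hbasec hnX
    rcases hcases X' hC' hA' with rfl | ⟨e', he', rfl⟩
    · exact absurd hbasec hnX'
    exact qsub_conj D he he'
  refine ⟨?_, ?_, hconj⟩
  · rcases hcases X hC hA with rfl | ⟨e, he, rfl⟩
    · haveI : D.base.Normal := Subgroup.normal_of_index_eq_two D.base_index
      rw [Subgroup.normalizer_eq_top, Subgroup.relIndex_top_right, D.base_index]
    · exact qsub_relIndex D he
  · rcases hcases X hC hA with rfl | ⟨e, he, rfl⟩
    · refine Or.inl ⟨hbasec, ?_⟩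
      rw [D.card_base, D.n_eq hn, pow_mul', sq, ← D.two_h]
      ring
    · exact Or.inr (qsub_eq_sup D he)

end Cfsg.Agent.S1202
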