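import Cfsg.Statements.S1214
import Cfsg.Agent.Lib.Invol.WrCases
import Cfsg.Agent.Lib.Invol.QDCases
import Cfsg.Agent.Lib.Invol.IndexTwo
import Cfsg.Agent.Lib.Invol.Isolated
import Cfsg.Agent.Lib.InvChar.BrauerSuzuki
import Cfsg.Agent.Lib.Recog.MinNormal
import Cfsg.Agent.Lib.Basics.Cores
-- import your own Cfsg.Agent.* helpers here

set_option autoImplicit false
open Cfsg

namespace Cfsg.Agent.S1214

theorem card_le_two_mul {G : Type*} [Group G] [Finite G] {B E : Subgroup G}
    (hB : B.index = 2) : Nat.card E ≤ 2 * Nat.card (E ⊓ B : Subgroup G) := by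
  haveI := Subgroup.normal_of_index_eq_two hB
  have h1 := (B.subgroupOf E).card_mul_index
  have h2 : (B.subgroupOf E).index ∣ 2 := hB ▸ Subgroup.relIndex_dvd_index_of_normal B E
  have h3 : Nat.card (B.subgroupOf E) = Nat.card (E ⊓ B : Subgroup G) := by
    rw [← Subgroup.inf_subgroupOf_left]
    exact Nat.card_congr (Subgroup.subgroupOfEquivOfLe inf_le_left).toEquiv
  have h4 := Nat.le_of_dvd (by norm_num) h2
  rw [← h1, ← h3, mul_comm 2]
  exact Nat.mul_le_mul_left _ h4

open Invol in
theorem qd_rank {S : Type*} [Group S] [Finite S] (D : QDData S) (E : Subgroup S)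
    (hE : ∀ e ∈ E, e * e = 1) : Nat.card E ≤ 4 := by
  refine (card_le_two_mul D.zpowers_index).trans ?_
  have hle : E ⊓ Subgroup.zpowers D.x ≤ Subgroup.zpowers (D.x ^ (2 * (D.m : ℤ))) := by
    intro g hg
    obtain ⟨k, rfl⟩ := Subgroup.mem_zpowers_iff.1 hg.2
    have h1 := hE _ hg.1
    rw [← zpow_add, D.zpow_eq_one_iff] at h1
    obtain ⟨c, hc⟩ := h1
    exact Subgroup.mem_zpowers_iff.2 ⟨c, by rw [← zpow_mul]; congr 1; linarith⟩
  have := Subgroup.card_le_of_le hle
  rw [Nat.card_zpowers, D.orderOf_z] at this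
  omega

open Invol in
theorem wr_rank {S : Type*} [Group S] (D : WrData S) (E : Subgroup S)
    (hE : ∀ e ∈ E, e * e = 1) : Nat.card E ≤ 4 := by
  haveI := D.finite
  by_cases hout : ∃ a b : ℤ, D.u a b * D.z ∈ E
  · obtain ⟨a, b, hab⟩ := hout
    refine (card_le_two_mul D.base_index).trans ?_
    have hle : E ⊓ D.base ≤ Subgroup.zpowers (D.u D.h D.h) := by
      rintro _ ⟨hgE, c, d, rfl⟩
      obtain ⟨hc, hd⟩ := (D.sq_u_eq_one_iff c d).1 (hE _ hgE)
      have hcom : Commute (D.u c d) (D.u a b * D.z) := by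
        have h := hE _ (E.mul_mem hgE hab)
        show D.u c d * (D.u a b * D.z) = (D.u a b * D.z) * D.u c d
        calc D.u c d * (D.u a b * D.z) = (D.u c d * (D.u a b * D.z))⁻¹ :=
              (inv_eq_self_of_mul_self h).symm
          _ = _ := by rw [mul_inv_rev, inv_eq_self_of_mul_self (hE _ hgE),
            inv_eq_self_of_mul_self (hE _ hab)]
      have h2 := (D.commute_u_uz_iff c d a b).1 hcom
      rcases D.h_cases hc with h | h
      · have : D.u c d = 1 := (D.u_eq_one_iff _ _).2 ⟨h, (dvd_sub_right h).1 h2⟩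
        rw [this]
        exact one_mem _
      · have : D.u c d = D.u D.h D.h := (D.u_eq_iff _ _ _ _).2
          ⟨h, by
            have := dvd_sub h h2
            rwa [show c - (D.h : ℤ) - (c - d) = d - D.h by ring] at this⟩
        rw [this]
        exact Subgroup.mem_zpowers _
    have h2 : orderOf (D.u D.h D.h) ≤ 2 := Nat.le_of_dvd (by norm_num)
      (orderOf_dvd_of_pow_eq_one (by rw [sq, D.sq_u_eq_one_iff]; exact ⟨dvd_rfl, dvd_rfl⟩))
    have := Subgroup.card_le_of_le hle
    rw [Nat.card_zpowers] at this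
    omega
  · push Not at hout
    have hle : E ≤ D.four0 := by
      intro g hg
      obtain ⟨a, b, rfl | rfl⟩ := D.repr_cases g
      · obtain ⟨ha, hb⟩ := (D.sq_u_eq_one_iff a b).1 (hE _ hg)
        exact ⟨a, b, ha, hb, rfl⟩
      · exact absurd hg (hout a b)
    haveI := D.isKleinFour_four0
    exact (Subgroup.card_le_of_le hle).trans IsKleinFour.card_four.le

/-- A simple group of even order contains two commuting involutions. -/
theorem exists_commuting_pair {T : Type*} [Group T] [Finite T] [IsSimpleGroup T]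
    (hT : ¬ IsMulCommutative T) (heven : Even (Nat.card T)) :
    ∃ a b : T, orderOf a = 2 ∧ orderOf b = 2 ∧ a ≠ b ∧ Commute a b := by
  by_contra hno
  push Not at hno
  haveI : Fact (Nat.Prime 2) := ⟨Nat.prime_two⟩
  obtain ⟨z, hz⟩ := exists_prime_orderOf_dvd_card' (G := T) 2 (even_iff_two_dvd.1 heven)
  have hiso : IsIsolatedInvolution z := ⟨hz, fun g hc => by
    by_contra hne
    exact hno z _ hz (by rw [Invol.orderOf_conj, hz]) (Ne.symm hne) hc⟩
  have h := InvChar.zstarHyp T z hiso
  have hO : oddCore T = ⊥ := by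
    rcases (inferInstance : (oddCore T).Normal).eq_bot_or_eq_top with h | h
    · exact h
    · exfalso
      have h2 := Basics.pPrimeCore_coprime (G := T) 2
      rw [show pPrimeCore 2 T = ⊤ from h, Subgroup.card_top] at h2
      exact Nat.prime_two.coprime_iff_not_dvd.1 h2.symm (even_iff_two_dvd.1 heven)
  have hc : z ∈ Subgroup.center T := Subgroup.mem_center_iff.2 fun g => by
    have h1 := h g
    rw [hO, Subgroup.mem_bot, mul_inv_eq_one] at h1
    exact (mul_inv_eq_iff_eq_mul.1 h1).symm
  rcases (inferInstance : (Subgroup.center T).Normal).eq_bot_or_eq_top with h | h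
  · rw [h, Subgroup.mem_bot] at hc
    exact Invol.ne_one_of_orderOf_two hz hc
  · exact hT ⟨⟨fun a b => (Subgroup.mem_center_iff.1 (h ▸ Subgroup.mem_top a) b).symm⟩⟩

theorem main {G : Type*} [Group G] [Finite G] (hO : oddCore G = ⊥) (S : Sylow 2 G) (heven : 2 ∣ Nat.card G)
    (hG : ∀ H : Subgroup G, H.index ≠ 2)
    (hone : ∀ s t : G, orderOf s = 2 → orderOf t = 2 → IsConj s t)
    (p q : G) (hp : orderOf p = 2) (hq : orderOf q = 2) (hpq : ¬ Commute p q)
    (hrank : ∀ E : Subgroup G, E ≤ (S : Subgroup G) → (∀ e ∈ E, e * e = 1) → Nat.card E ≤ 4)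
    (x : G) (hgen : ∀ N : Subgroup G, N.Normal → (∀ t : G, orderOf t = 2 → t ∈ N) →
      (S : Subgroup G) ≤ N ⊔ Subgroup.zpowers x) :
    ∃ L : Subgroup G, L.Normal ∧ Odd L.index ∧ IsSimpleGroup L ∧ ¬ IsMulCommutative L := by
  classical
  haveI : Fact (Nat.Prime 2) := ⟨Nat.prime_two⟩
  haveI : Nontrivial G := ⟨⟨p, 1, Invol.ne_one_of_orderOf_two hp⟩⟩
  obtain ⟨N, hN⟩ := Recog.exists_isMinNormal (G := G)
  haveI := hN.normal
  have hNe : 2 ∣ Nat.card N := by
    by_contra h
    have hle : N ≤ oddCore G := Basics.le_pPrimeCore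
      (Nat.coprime_two_right.2 (Nat.odd_iff.2 (by omega)))
    rw [hO] at hle
    exact hN.ne_bot (le_bot_iff.1 hle)
  have hall : ∀ t : G, orderOf t = 2 → t ∈ N := by
    obtain ⟨w, hw⟩ := exists_prime_orderOf_dvd_card' (G := N) 2 hNe
    rw [← Subgroup.orderOf_coe] at hw
    intro t ht
    obtain ⟨c, rfl⟩ := isConj_iff.1 (hone _ t hw ht)
    exact hN.normal.conj_mem _ w.2 c
  have hnc : ¬ IsMulCommutative N := fun h =>
    hpq (congrArg Subtype.val (h.is_comm.comm (⟨p, hall p hp⟩ : N) ⟨q, hall q hq⟩))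
  obtain ⟨T, hT⟩ := Recog.exists_isFactor hN.ne_bot
  haveI hTs := hN.isSimpleGroup_factor hT
  have hTnc := hN.not_commutative_factor hT hnc
  have hTe : Even (Nat.card T) := by
    by_contra hodd
    rw [Nat.not_even_iff_odd] at hodd
    -- otherwise all factors lie in the odd core of `N`
    have hle : N ≤ (pPrimeCore 2 N).map N.subtype := by
      refine hN.le_of_conj_le hT fun g => ?_
      set U := T.map (MulAut.conj g).toMonoidHom
      have hU := hT.map_conj hN.normal g
      haveI : (U.subgroupOf N).Normal :=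
        (Subgroup.normal_subgroupOf_iff_le_normalizer hU.le).2 hU.le_normalizer
      have hUo : (Nat.card (U.subgroupOf N)).Coprime 2 := by
        rw [Nat.card_congr (Subgroup.subgroupOfEquivOfLe hU.le).toEquiv,
          Subgroup.card_map_of_injective (MulAut.conj g).injective]
        exact Nat.coprime_two_right.2 hodd
      intro y hy
      exact ⟨⟨y, hU.le hy⟩, Basics.le_pPrimeCore hUo (Subgroup.mem_subgroupOf.2 hy), rfl⟩
    have h1 := Subgroup.card_dvd_of_le hle
    rw [Subgroup.card_map_of_injective N.subtype_injective] at h1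
    exact Nat.prime_two.coprime_iff_not_dvd.1 (Basics.pPrimeCore_coprime 2).symm (hNe.trans h1)
  obtain ⟨a, b, ha, hb, hab, habc⟩ := exists_commuting_pair hTnc hTe
  rw [← Subgroup.orderOf_coe] at ha hb
  have hTN : T = N := by
    by_contra hne
    -- a second factor gives rank three
    obtain ⟨g, hg⟩ : ∃ g : G, T.map (MulAut.conj g).toMonoidHom ≠ T := by
      by_contra h
      push Not at h
      exact hne (le_antisymm hT.le (hN.le_of_conj_le hT fun g => (h g).le))
    have hU := hT.map_conj hN.normal g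
    set c : G := g * (a : G) * g⁻¹
    have hcU : c ∈ T.map (MulAut.conj g).toMonoidHom := ⟨a, a.2, rfl⟩
    have hc : orderOf c = 2 := by rw [Invol.orderOf_conj, ha]
    have hcm : ∀ y ∈ T, Commute y c := fun y hy => hT.commute hU (Ne.symm hg) hy hcU
    have hab' : Commute (a : G) (b : G) := habc.map T.subtype
    set E := Subgroup.closure ({(a : G), (b : G), c} : Set G)
    have hE : ∀ e ∈ E, e * e = 1 ∧ Commute e (a : G) ∧ Commute e (b : G) ∧ Commute e c := by
      intro e he
      induction he using Subgroup.closure_induction with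
      | mem y hy =>
        rcases hy with rfl | rfl | rfl
        · exact ⟨Invol.mul_self_of_orderOf_two ha, Commute.refl _, hab', hcm _ a.2⟩
        · exact ⟨Invol.mul_self_of_orderOf_two hb, hab'.symm, Commute.refl _, hcm _ b.2⟩
        · exact ⟨Invol.mul_self_of_orderOf_two hc, (hcm _ a.2).symm, (hcm _ b.2).symm, Commute.refl _⟩
      | one => exact ⟨mul_one 1, Commute.one_left _, Commute.one_left _, Commute.one_left _⟩
      | mul u v hu hv iu iv =>
        refine ⟨?_, iu.2.1.mul_left iv.2.1, iu.2.2.1.mul_left iv.2.2.1, iu.2.2.2.mul_left iv.2.2.2⟩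
        have huv : Commute u v := by
          clear iv
          induction hv using Subgroup.closure_induction with
          | mem y hy =>
            rcases hy with rfl | rfl | rfl
            · exact iu.2.1
            · exact iu.2.2.1
            · exact iu.2.2.2
          | one => exact Commute.one_right _
          | mul c d _ _ h h' => exact h.mul_right h'
          | inv c _ h => exact h.inv_right
        rw [huv.symm.mul_mul_mul_comm, iu.1, iv.1, mul_one]
      | inv u _ iu =>
        exact ⟨by rw [Invol.inv_eq_self_of_mul_self iu.1]; exact iu.1, iu.2.1.inv_left,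
          iu.2.2.1.inv_left, iu.2.2.2.inv_left⟩
    have hEp : IsPGroup 2 E := fun e => ⟨1, Subtype.ext (by
      rw [pow_one, sq]; exact (hE e e.2).1)⟩
    obtain ⟨Q, hQ⟩ := hEp.exists_le_sylow
    obtain ⟨h, hh⟩ := MulAction.exists_smul_eq G Q S
    have hcard := hrank (E.map (MulAut.conj h).toMonoidHom) (by
        rintro _ ⟨e, he, rfl⟩
        rw [← hh]
        exact Subgroup.smul_mem_pointwise_smul e (MulAut.conj h) _ (hQ he))
      (by
        rintro _ ⟨e, he, rfl⟩
        rw [← map_mul, (hE e he).1, map_one])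
    rw [Subgroup.card_map_of_injective (MulAut.conj h).injective] at hcard
    -- but it has at least five elements
    let f : Fin 5 → E := ![1, ⟨a, Subgroup.subset_closure (by simp)⟩,
      ⟨b, Subgroup.subset_closure (by simp)⟩, ⟨c, Subgroup.subset_closure (by simp)⟩,
      ⟨(a : G) * b, mul_mem (Subgroup.subset_closure (by simp)) (Subgroup.subset_closure (by simp))⟩]
    have hcT : c ∉ T := fun hcT => Invol.ne_one_of_orderOf_two hc
      (Subgroup.mem_bot.1 (hT.inf_eq_bot hU (Ne.symm hg) ▸ (⟨hcT, hcU⟩ : c ∈ T ⊓ _)))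
    have h1 : c ≠ 1 := fun e => hcT (e ▸ T.one_mem)
    have h2 : c ≠ a := fun e => hcT (e ▸ a.2)
    have h3 : c ≠ b := fun e => hcT (e ▸ b.2)
    have h4 : c ≠ (a : G) * b := fun e => hcT (e ▸ T.mul_mem a.2 b.2)
    have h5 : (a : G) ≠ b := fun e => hab (Subtype.ext e)
    have h6 := Invol.ne_one_of_orderOf_two ha
    have h7 := Invol.ne_one_of_orderOf_two hb
    have h8 : (a : G) * b ≠ 1 := fun e => h5 ((Invol.inv_of_orderOf_two ha).symm.trans
      (inv_eq_of_mul_eq_one_right e))
    have h9 : (a : G) * b ≠ a := fun e => h7 (mul_eq_left.1 e)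
    have h10 : (a : G) * b ≠ b := fun e => h6 (mul_eq_right.1 e)
    have hf : Function.Injective f := by
      intro i j hij
      have := congrArg Subtype.val hij
      fin_cases i <;> fin_cases j <;> first
        | rfl
        | (exfalso; revert this
           simp [f, h1, h2, h3, h4, h5, h6, h7, h8, h9, h10, h1.symm, h2.symm, h3.symm, h4.symm,
             h5.symm, h6.symm, h7.symm, h8.symm, h9.symm, h10.symm, -mul_eq_left, -mul_eq_right,
             -left_eq_mul, -right_eq_mul])
    have := Nat.card_le_card_of_injective f hf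
    rw [Nat.card_fin] at this
    omega
  refine ⟨N, hN.normal, ?_, hTN ▸ hTs, hnc⟩
  by_contra hev
  rw [Nat.not_odd_iff_even] at hev
  -- the quotient has cyclic Sylow subgroups
  set π := QuotientGroup.mk' N
  set Sb := S.mapSurjective (QuotientGroup.mk'_surjective N)
  have hle : (Sb : Subgroup (G ⧸ N)) ≤ Subgroup.zpowers (π x) := by
    rintro _ ⟨s, hs, rfl⟩
    have := hgen N hN.normal hall hs
    rw [← MonoidHom.map_zpowers]
    have h1 : s ∈ ((Subgroup.zpowers x).map π).comap π := by
      rw [Subgroup.comap_map_eq, QuotientGroup.ker_mk', sup_comm]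
      exact this
    exact h1
  have hcyc : IsCyclic (Sb : Subgroup (G ⧸ N)) :=
    isCyclic_of_injective (Subgroup.inclusion hle) (Subgroup.inclusion_injective hle)
  obtain ⟨K, hK⟩ := Invol.exists_index_two_of_cyclic_sylow
    (by rwa [Subgroup.index_eq_card] at hev) Sb hcyc
  exact hG (K.comap π) (by rw [Subgroup.index_comap_of_surjective _ (QuotientGroup.mk'_surjective N), hK])

/-- Let G be a finite group with quasi-dihedral or wreathed Sylow 2-subgroups and no subgroup of index 2. Then G/O(G), the quotient by the largest normal subgroup of odd order, has a normal subgroup of odd index which is a non-abelian simple group. -/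
theorem result {G : Type*} [Group G] [Finite G] (S : Sylow 2 G) (hS : Cfsg.IsQuasiDihedral (S : Subgroup G) ∨ Cfsg.IsWreathed (S : Subgroup G)) (hG : ∀ H : Subgroup G, H.index ≠ 2) : ∃ L : Subgroup (G ⧸ Cfsg.oddCore G), L.Normal ∧ Odd L.index ∧ IsSimpleGroup L ∧ ¬ IsMulCommutative L := by
  classical
  haveI : Fact (Nat.Prime 2) := ⟨Nat.prime_two⟩
  set O := oddCore G
  haveI : O.Normal := Basics.pPrimeCore_normal 2
  set π := QuotientGroup.mk' O
  set P := S.mapSurjective (QuotientGroup.mk'_surjective O)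
  have hG' : ∀ H : Subgroup (G ⧸ O), H.index ≠ 2 := fun H hH => hG (H.comap π)
    (by rw [Subgroup.index_comap_of_surjective _ (QuotientGroup.mk'_surjective O), hH])
  have hinj : Function.Injective (π.comp (S : Subgroup G).subtype) := by
    rw [injective_iff_map_eq_one]
    intro s hs
    have hsO : (s : G) ∈ O := (QuotientGroup.eq_one_iff _).1 hs
    have h1 := Subgroup.orderOf_dvd_natCard O hsO
    rw [Subgroup.orderOf_coe] at h1
    obtain ⟨k, hk⟩ := IsPGroup.iff_orderOf.1 S.2 s
    rw [hk] at h1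
    exact orderOf_eq_one_iff.1 (hk.trans (Nat.eq_one_of_dvd_coprimes
      ((Nat.coprime_comm.1 (Basics.pPrimeCore_coprime (G := G) 2)).pow_left k) dvd_rfl h1))
  have hP : (P : Subgroup (G ⧸ O)) = (π.comp (S : Subgroup G).subtype).range := by
    rw [MonoidHom.range_eq_map, ← Subgroup.map_map, ← MonoidHom.range_eq_map,
      Subgroup.range_subtype]
    rfl
  let e : (S : Subgroup G) ≃* (P : Subgroup (G ⧸ O)) :=
    (MonoidHom.ofInjective hinj).trans (MulEquiv.subgroupCongr hP.symm)
  have hO : oddCore (G ⧸ O) = ⊥ := Basics.pPrimeCore_quotient_eq_bot 2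
  have hrk : ∀ {D : Subgroup (G ⧸ O)}, D = (P : Subgroup (G ⧸ O)) →
      (∀ E' : Subgroup D, (∀ e ∈ E', e * e = 1) → Nat.card E' ≤ 4) →
      ∀ E : Subgroup (G ⧸ O), E ≤ (P : Subgroup (G ⧸ O)) → (∀ e ∈ E, e * e = 1) → Nat.card E ≤ 4 := by
    rintro _ rfl h E hE hE2
    rw [← Nat.card_congr (Subgroup.subgroupOfEquivOfLe hE).toEquiv]
    exact h _ fun y hy => Subtype.ext (hE2 _ (Subgroup.mem_subgroupOf.1 hy))
  have hcomplement : HasNormalPComplement 2 (G ⧸ O) → 2 ∣ Nat.card (G ⧸ O) → False := by
    rintro ⟨Q, N, hNn, hQ⟩ h2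
    haveI := hNn
    obtain ⟨k, hk⟩ : ∃ k, N.index = 2 ^ k :=
      ⟨(Nat.card (G ⧸ O)).factorization 2, by rw [← Q.card_eq_multiplicity, hQ.symm.index_eq_card]⟩
    rcases k with _ | k
    · have h1 : Nat.card (Q : Subgroup (G ⧸ O)) = 1 := by
        rw [← hQ.symm.index_eq_card, hk, pow_zero]
      have h3 := Q.card_eq_multiplicity
      rw [h1] at h3
      exact absurd h3 (Nat.one_lt_two_pow
        (Nat.prime_two.factorization_pos_of_dvd Nat.card_pos.ne' h2).ne').ne
    · obtain ⟨H, hH⟩ := Invol.exists_index_two_of_isPGroup (G := (G ⧸ O) ⧸ N)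
        (IsPGroup.of_card (n := k + 1) (by rw [← Subgroup.index_eq_card, hk]))
        (Finite.one_lt_card_iff_nontrivial.1 (by
          rw [← Subgroup.index_eq_card, hk]; exact Nat.one_lt_two_pow (Nat.succ_ne_zero k)))
      exact hG' (H.comap (QuotientGroup.mk' N))
        (by rw [Subgroup.index_comap_of_surjective _ (QuotientGroup.mk'_surjective N), hH])
  have hpow : ∀ (K : Subgroup (G ⧸ O)) (n : ℕ), K.Normal → K.index = 2 ^ (n + 1) → False := by
    intro K n hKn hK
    haveI := hKn
    obtain ⟨H, hH⟩ := Invol.exists_index_two_of_isPGroup (G := (G ⧸ O) ⧸ K)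
      (IsPGroup.of_card (n := n + 1) (by rw [← Subgroup.index_eq_card, hK]))
      (Finite.one_lt_card_iff_nontrivial.1 (by
        rw [← Subgroup.index_eq_card, hK]; exact Nat.one_lt_two_pow (Nat.succ_ne_zero n)))
    exact hG' (H.comap (QuotientGroup.mk' K))
      (by rw [Subgroup.index_comap_of_surjective _ (QuotientGroup.mk'_surjective K), hH])
  rcases hS with hS | hS
  · obtain ⟨n, hn, hc, x, y, hx, hy, hrel⟩ := hS
    have hS' : IsQuasiDihedral (P : Subgroup (G ⧸ O)) :=
      ⟨n, hn, (Nat.card_congr e.toEquiv).symm.trans hc, e x, e y, by rw [e.orderOf_eq, hx],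
        by rw [e.orderOf_eq, hy], by rw [← map_inv, ← map_mul, ← map_mul, hrel, map_pow]⟩
    obtain ⟨D⟩ := Invol.qd_exists hS'
    have h2 : 2 ∣ Nat.card (G ⧸ O) := D.orderOf_gz ▸ orderOf_dvd_natCard _
    have hfus : IsConj D.gz (D.gq 0) := by
      by_contra h1
      by_cases h2' : IsConj D.ga (D.gq 1)
      · obtain ⟨K, -, hK, -⟩ := D.case_quat h1 h2'
        exact hG' K hK
      · exact hcomplement (D.case_complement h1 h2') h2
    refine main hO P h2 hG' (fun s t hs ht => ?_) (D.gq 0) (D.gq 2)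
      (D.orderOf_gq_even (dvd_zero 2)) (D.orderOf_gq_even dvd_rfl) ?_
      (hrk rfl (qd_rank D)) ((D.x : (P : Subgroup (G ⧸ O))) : G ⧸ O) fun N hN hall => ?_
    · have key : ∀ t, orderOf t = 2 → IsConj D.gz t := fun t ht =>
        ((D.involution_class ht).elim id (fun h' => h'.trans hfus.symm)).symm
      exact (key s hs).symm.trans (key t ht)
    · intro hc
      have h1 : Commute (D.x ^ (0 : ℤ) * D.y) (D.x ^ (2 : ℤ) * D.y) := Subtype.ext hc.eq
      obtain ⟨r, hr⟩ := D.m_even
      have := D.m_pos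
      rcases D.commute_mul_y_cases h1 with h | h | h | h
      · exact D.ne_one_mul_y 0 h
      · exact D.zpow_ne_mul_y _ _ h.symm
      · have h3 := (D.mul_y_eq_iff _ _).1 h
        have h4 : (4 * (D.m : ℤ)) ∣ 2 := by simpa using h3
        have := Int.le_of_dvd two_pos h4
        omega
      · rw [← mul_assoc, ← zpow_add, D.mul_y_eq_iff] at h
        have h4 : (4 * (D.m : ℤ)) ∣ 2 * D.m + 2 := by
          rw [← dvd_neg]; simpa using h
        have := Int.le_of_dvd (by omega) h4
        omega
    · intro g hg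
      obtain ⟨i, hi | hi⟩ := D.repr_cases (⟨g, hg⟩ : (P : Subgroup (G ⧸ O)))
      · have : g = ((D.x : (P : Subgroup (G ⧸ O))) : G ⧸ O) ^ i := by
          rw [← SubgroupClass.coe_zpow, ← hi]
        rw [this]
        exact Subgroup.zpow_mem _ (le_sup_right (a := N) (Subgroup.mem_zpowers _)) i
      · have hyo : orderOf ((D.y : (P : Subgroup (G ⧸ O))) : G ⧸ O) = 2 := by
          rw [Subgroup.orderOf_coe, D.ordy]
        have : g = ((D.x : (P : Subgroup (G ⧸ O))) : G ⧸ O) ^ i *
            ((D.y : (P : Subgroup (G ⧸ O))) : G ⧸ O) := by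
          rw [← SubgroupClass.coe_zpow, ← Subgroup.coe_mul, ← hi]
        rw [this]
        exact mul_mem (Subgroup.zpow_mem _ (le_sup_right (a := N) (Subgroup.mem_zpowers _)) i)
          (le_sup_left (a := N) (hall _ hyo))
  · obtain ⟨n, hn, hc, x, y, z, hx, hxy, hd, hz, hzx⟩ := hS
    have hS' : IsWreathed (P : Subgroup (G ⧸ O)) := by
      refine ⟨n, hn, (Nat.card_congr e.toEquiv).symm.trans hc, e x, e y, e z, by rw [e.orderOf_eq, hx],
        by rw [← map_mul, hxy, map_mul], ?_, by rw [e.orderOf_eq, hz],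
        by rw [← map_inv, ← map_mul, ← map_mul, hzx]⟩
      rw [show Subgroup.zpowers (e x) = (Subgroup.zpowers x).map e.toMonoidHom from
          (MonoidHom.map_zpowers e.toMonoidHom x).symm,
        show Subgroup.zpowers (e y) = (Subgroup.zpowers y).map e.toMonoidHom from
          (MonoidHom.map_zpowers e.toMonoidHom y).symm,
        ← Subgroup.map_inf _ _ _ e.injective, hd, Subgroup.map_bot]
    obtain ⟨D⟩ := Invol.wr_exists hS'
    have h2 : 2 ∣ Nat.card (G ⧸ O) := D.orderOf_gw ▸ orderOf_dvd_natCard _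
    have hn2 := D.two_le
    have hboth : IsConj D.gw D.ge ∧ IsConj D.gi (D.gq 0) := by
      by_cases h1 : IsConj D.gw D.ge <;> by_cases h2' : IsConj D.gi (D.gq 0)
      · exact ⟨h1, h2'⟩
      · exfalso
        obtain ⟨K, -, hK, -⟩ := D.case_base h1 h2'
        exact hG' K hK
      · exfalso
        obtain ⟨K, hKn, hK, -⟩ := D.case_quat h1 h2'
        exact hpow K (D.n - 1) hKn (by rw [hK]; congr 1; omega)
      · exact absurd h2 (fun h => hcomplement (D.case_complement h1 h2') h)
    have hzo : orderOf D.gz = 2 := by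
      rw [show D.gz = ((D.z : (P : Subgroup (G ⧸ O))) : G ⧸ O) from rfl, Subgroup.orderOf_coe, D.ordz]
    refine main hO P h2 hG' (fun s t hs ht => ?_) D.gz D.ge hzo D.orderOf_ge
      (fun hc => D.ge_ne_ge' (by rw [← D.gz_conj_ge, hc.eq, mul_inv_cancel_right]))
      (hrk rfl (wr_rank D)) (D.gu 1 0) fun N hN hall => ?_
    · have key : ∀ t, orderOf t = 2 → IsConj D.gw t := by
        intro t ht
        rcases D.involution_class ht with h | h | h
        · exact h.symm
        · exact hboth.1.trans h.symm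
        · exact hboth.1.trans ((D.isConj_ge_gf hboth.2).trans h.symm)
      exact (key s hs).symm.trans (key t ht)
    · intro g hg
      have hX : ∀ a b : ℤ, D.gu a b ∈ N ⊔ Subgroup.zpowers (D.gu 1 0) := by
        intro a b
        have h1 : D.gu (a + b) 0 ∈ N ⊔ Subgroup.zpowers (D.gu 1 0) := by
          refine le_sup_right (a := N) (Subgroup.mem_zpowers_iff.2 ⟨a + b, ?_⟩)
          rw [D.gu_zpow, one_mul, zero_mul]
        have h2 : D.gu (-b) b ∈ N := by
          have hzN := hall _ hzo
          have := N.mul_mem (hN.conj_mem _ hzN (D.gu (-b) 0)) (N.inv_mem hzN)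
          rw [show D.gu (-b) 0 * D.gz * (D.gu (-b) 0)⁻¹ * D.gz⁻¹ =
            D.gu (-b) 0 * (D.gz * (D.gu (-b) 0)⁻¹ * D.gz⁻¹) by group, D.gu_inv, D.gz_conj_gu,
            D.gu_mul] at this
          simpa using this
        have := mul_mem h1 (le_sup_left (b := Subgroup.zpowers (D.gu 1 0)) h2)
        rwa [D.gu_mul, show a + b + -b = a by ring, zero_add] at this
      obtain ⟨a, b, rfl | rfl⟩ := D.repr_G hg
      · exact hX a b
      · exact mul_mem (hX a b) (le_sup_left (b := Subgroup.zpowers (D.gu 1 0)) (hall _ hzo))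

end Cfsg.Agent.S1214
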