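import Cfsg.Statements.S1226
import Cfsg.Agent.Lib.Invol.StronglyEmbedded
-- import your own Cfsg.Agent.* helpers here

set_option autoImplicit false
open Cfsg

namespace Cfsg.Agent.S1226

/-- Let G be a finite group with a Sylow 2-subgroup T that is neither cyclic nor normal, such that the centralizer of every involution is an elementary abelian 2-group. Then N_G(T) is a strongly embedded subgroup of G. -/
theorem result {G : Type*} [Group G] [Finite G] (T : Sylow 2 G) (hnc : ¬ IsCyclic (T : Subgroup G)) (hnn : ¬ (T : Subgroup G).Normal) (hC : ∀ t : G, orderOf t = 2 → IsMulCommutative (Subgroup.centralizer ({t} : Set G)) ∧ ∀ c ∈ Subgroup.centralizer ({t} : Set G), c ^ 2 = 1) : Cfsg.IsStronglyEmbedded (Subgroup.normalizer ((T : Subgroup G) : Set G)) := by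
  haveI : Fact (Nat.Prime 2) := ⟨Nat.prime_two⟩
  have hT1 : (T : Subgroup G) ≠ ⊥ := fun h => hnn (h ▸ inferInstance)
  have htwo : ∀ t : G, orderOf t = 2 → IsPGroup 2 ↥(Subgroup.centralizer ({t} : Set G)) :=
    fun t ht c => ⟨1, by rw [pow_one]; exact Subtype.ext ((hC t ht).2 c c.2)⟩
  -- the Sylow subgroup is elementary abelian
  haveI : Nontrivial (T : Subgroup G) := by rwa [Subgroup.nontrivial_iff_ne_bot]
  haveI := IsPGroup.center_nontrivial T.2
  obtain ⟨k, hk⟩ := IsPGroup.iff_card.1
    (T.2.to_subgroup (Subgroup.center (T : Subgroup G)))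
  have h2dvd : 2 ∣ Nat.card (Subgroup.center (T : Subgroup G)) := by
    rcases k with _ | k
    · have := Finite.one_lt_card (α := Subgroup.center (T : Subgroup G))
      rw [hk, pow_zero] at this
      exact absurd this (lt_irrefl _)
    · exact ⟨2 ^ k, by rw [hk, pow_succ']⟩
  obtain ⟨z, hz⟩ := exists_prime_orderOf_dvd_card' 2 h2dvd
  rw [← Subgroup.orderOf_coe, ← Subgroup.orderOf_coe] at hz
  have hTz : (T : Subgroup G) ≤ Subgroup.centralizer ({((z : (T : Subgroup G)) : G)} : Set G) := by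
    intro x hx
    rw [Subgroup.mem_centralizer_singleton_iff]
    exact congrArg Subtype.val (Subgroup.mem_center_iff.1 z.2 ⟨x, hx⟩)
  have hTcomm : ∀ a ∈ (T : Subgroup G), ∀ b ∈ (T : Subgroup G), a * b = b * a := fun a ha b hb =>
    congrArg Subtype.val ((hC _ hz).1.is_comm.comm
      (⟨a, hTz ha⟩ : Subgroup.centralizer ({((z : (T : Subgroup G)) : G)} : Set G)) ⟨b, hTz hb⟩)
  have hCt : ∀ t ∈ (T : Subgroup G), orderOf t = 2 →
      Subgroup.centralizer ({t} : Set G) = T := fun t ht ht2 =>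
    T.3 (htwo t ht2) fun x hx => Subgroup.mem_centralizer_singleton_iff.2 (hTcomm x hx t ht)
  set N := Subgroup.normalizer ((T : Subgroup G) : Set G) with hN
  have hTN : (T : Subgroup G) ≤ N := Subgroup.le_normalizer
  have heven : Even (Nat.card N) := by
    rw [even_iff_two_dvd, ← hz]
    exact Subgroup.orderOf_dvd_natCard _ (hTN (z : (T : Subgroup G)).2)
  refine Invol.SE_of_mem_of_conj (fun h => hnn (Subgroup.normalizer_eq_top_iff.1 h)) heven
    fun t htN ht g hg => ?_
  have hinT : ∀ u ∈ N, orderOf u = 2 → u ∈ (T : Subgroup G) := by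
    intro u hu hu2
    have hp : IsPGroup 2 ↥(Subgroup.zpowers u) :=
      IsPGroup.of_card (n := 1) (by rw [Nat.card_zpowers, hu2, pow_one])
    exact (le_sup_right.trans (T.3 (T.2.to_sup_of_normal_left' hp (Subgroup.zpowers_le.2 hu))
      le_sup_left).le) (Subgroup.mem_zpowers u)
  have htT := hinT t htN ht
  have hu2 : orderOf (g⁻¹ * t * g) = 2 := by
    rw [← ht]; simpa using Invol.orderOf_conj g⁻¹ t
  have huT := hinT _ hg hu2
  rw [hN, Subgroup.mem_normalizer_iff]
  intro x
  have hxu : x ∈ (T : Subgroup G) ↔ x * (g⁻¹ * t * g) = g⁻¹ * t * g * x := by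
    conv_lhs => rw [← hCt _ huT hu2, Subgroup.mem_centralizer_singleton_iff]
  have hxt : g * x * g⁻¹ ∈ (T : Subgroup G) ↔ g * x * g⁻¹ * t = t * (g * x * g⁻¹) := by
    conv_lhs => rw [← hCt t htT ht, Subgroup.mem_centralizer_singleton_iff]
  rw [hxu, hxt]
  constructor
  · intro h
    calc g * x * g⁻¹ * t = g * (x * (g⁻¹ * t * g)) * g⁻¹ := by group
      _ = t * (g * x * g⁻¹) := by rw [h]; group
  · intro h
    calc x * (g⁻¹ * t * g) = g⁻¹ * (g * x * g⁻¹ * t) * g := by group
      _ = g⁻¹ * t * g * x := by rw [h]; group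

end Cfsg.Agent.S1226
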