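import Cfsg.Statements.S1231
import Mathlib.GroupTheory.Nilpotent
-- import your own Cfsg.Agent.* helpers here

set_option autoImplicit false
open Cfsg

namespace Cfsg.Agent.S1231

theorem rank_mono {G : Type*} [Group G] {p k : ℕ} {X Y : Subgroup G} (h : X ≤ Y)
    (hY : PRankLE p k Y) : PRankLE p k X := by
  intro A hA hAp
  haveI := hA
  have := hY (A.map (Subgroup.inclusion h)) inferInstance (by
    rintro _ ⟨a, ha, rfl⟩
    rw [← map_pow, hAp a ha, map_one])
  rwa [Subgroup.card_map_of_injective (Subgroup.inclusion_injective h)] at this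

theorem conj_le_iff {G : Type*} [Group G] (g : G) (X Y : Subgroup G) :
    X.map (MulAut.conj g).toMonoidHom ≤ Y ↔ ∀ x ∈ X, g * x * g⁻¹ ∈ Y := by
  rw [Subgroup.map_le_iff_le_comap]
  exact Iff.rfl

theorem rank_conj {G : Type*} [Group G] {p k : ℕ} {X : Subgroup G} (g : G)
    (hX : PRankLE p k ↥(X.map (MulAut.conj g).toMonoidHom)) : PRankLE p k X := by
  intro A hA hAp
  haveI := hA
  have hi := (MulAut.conj g).injective
  have := hX (A.map (Subgroup.equivMapOfInjective X _ hi).toMonoidHom) inferInstance (by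
    rintro _ ⟨a, ha, rfl⟩
    rw [← map_pow, hAp a ha, map_one])
  rwa [Subgroup.card_map_of_injective] at this
  exact (Subgroup.equivMapOfInjective X _ hi).injective

theorem exists_conj_le {G : Type*} [Group G] [Finite G] {p : ℕ} [Fact p.Prime] {H : Subgroup G}
    (Q : Sylow p H) {X : Subgroup G} (hX : IsPGroup p X) (hXH : X ≤ H) :
    ∃ h ∈ H, ∀ x ∈ X, h * x * h⁻¹ ∈ (Q : Subgroup H).map H.subtype := by
  obtain ⟨R, hR⟩ := (hX.comap_of_injective H.subtype H.subtype_injective).exists_le_sylow
  obtain ⟨h, hh⟩ := MulAction.exists_smul_eq H R Q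
  refine ⟨h, h.2, fun x hx => ⟨h * ⟨x, hXH hx⟩ * h⁻¹, ?_, rfl⟩⟩
  rw [← hh, ← MulAut.conj_apply]
  exact Subgroup.smul_mem_pointwise_smul _ (MulAut.conj h) _ (hR (Subgroup.mem_subgroupOf.2 hx))

theorem mem_of_conj_le {G : Type*} [Group G] [Finite G] {p k : ℕ} [Fact p.Prime] {H : Subgroup G}
    (P : Sylow p H) (hN : ∀ X : Subgroup G, X ≤ (P : Subgroup H).map H.subtype →
      ¬ PRankLE p k X → Subgroup.normalizer (X : Set G) ≤ H) :
    ∀ (m : ℕ) (X : Subgroup G), Nat.card G ≤ Nat.card X + m → IsPGroup p X → X ≤ H →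
      ¬ PRankLE p k X → ∀ y : G, (∀ x ∈ X, y * x * y⁻¹ ∈ H) → y ∈ H := by
  have hnorm : ∀ X : Subgroup G, IsPGroup p X → X ≤ H → ¬ PRankLE p k X →
      Subgroup.normalizer (X : Set G) ≤ H := by
    intro X hX hXH hr n hn
    obtain ⟨h, hh, hXP⟩ := exists_conj_le P hX hXH
    have h1 := hN _ ((conj_le_iff h X _).2 hXP) (fun hc => hr (rank_conj h hc))
    have h2 : h * n * h⁻¹ ∈ Subgroup.normalizer
        ((X.map (MulAut.conj h).toMonoidHom : Subgroup G) : Set G) := by
      have h3 := Subgroup.le_normalizer_map (MulAut.conj h).toMonoidHom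
        (Subgroup.mem_map_of_mem (MulAut.conj h).toMonoidHom hn)
      simpa using h3
    have := H.mul_mem (H.mul_mem (H.inv_mem hh) (h1 h2)) hh
    simpa [mul_assoc] using this
  intro m
  induction m with
  | zero =>
    intro X hc hX hXH hr y _
    have : X = ⊤ := Subgroup.eq_top_of_card_eq X (le_antisymm X.card_le_card_group (by omega))
    exact hXH (this ▸ Subgroup.mem_top y)
  | succ m ih =>
    intro X hc hX hXH hr y hy
    obtain ⟨R, hR⟩ := (hX.comap_of_injective H.subtype H.subtype_injective).exists_le_sylow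
    by_cases heq : X.subgroupOf H = R
    · set Y := X.map (MulAut.conj y).toMonoidHom
      have hY : Y ≤ H := (conj_le_iff y X H).2 hy
      obtain ⟨h, hh, hYR⟩ := exists_conj_le R (hX.map _) hY
      have hRX : (R : Subgroup H).map H.subtype = X := by
        rw [← heq, Subgroup.subgroupOf_map_subtype, inf_eq_left.2 hXH]
      rw [hRX] at hYR
      have hn : h * y ∈ Subgroup.normalizer (X : Set G) := by
        refine Subgroup.mem_normalizer_iff_map_conj_eq.2 ?_
        refine Subgroup.eq_of_le_of_card_ge ((conj_le_iff _ X X).2 fun x hx => ?_) ?_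
        · rw [show h * y * x * (h * y)⁻¹ = h * (y * x * y⁻¹) * h⁻¹ by group]
          exact hYR _ (Subgroup.mem_map_of_mem (MulAut.conj y).toMonoidHom hx)
        · rw [Subgroup.card_map_of_injective (MulAut.conj (h * y)).injective]
      exact (H.mul_mem_cancel_left hh).1 (hnorm X hX hXH hr hn)
    · haveI : Group.IsNilpotent R := R.isPGroup'.isNilpotent
      have hlt : (X.subgroupOf H).subgroupOf R < ⊤ := by
        refine lt_top_iff_ne_top.2 fun h => heq ?_
        exact le_antisymm hR (Subgroup.subgroupOf_eq_top.1 h)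
      obtain ⟨w, hwn, hw⟩ := Set.exists_of_ssubset
        (Group.normalizerCondition_of_isNilpotent _ hlt)
      set Z := (R : Subgroup H).map H.subtype ⊓ Subgroup.normalizer (X : Set G)
      have hXR : X ≤ (R : Subgroup H).map H.subtype := by
        intro x hx
        exact ⟨⟨x, hXH hx⟩, hR (Subgroup.mem_subgroupOf.2 hx), rfl⟩
      have hXZ : X ≤ Z := le_inf hXR Subgroup.le_normalizer
      have hwZ : ((w : H) : G) ∈ Z := by
        refine ⟨⟨(w : H), w.2, rfl⟩, ?_⟩
        rw [SetLike.mem_coe, Subgroup.mem_normalizer_iff] at hwn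
        refine Subgroup.mem_normalizer_iff.2 ?_
        intro x
        constructor
        · intro hx
          exact Subgroup.mem_subgroupOf.1 (Subgroup.mem_subgroupOf.1
            ((hwn ⟨⟨x, hXH hx⟩, hR (Subgroup.mem_subgroupOf.2 hx)⟩).1
              (Subgroup.mem_subgroupOf.2 (Subgroup.mem_subgroupOf.2 hx))))
        · intro hx
          obtain ⟨x', hx', hxe⟩ : ((w : H) : G) * x * ((w : H) : G)⁻¹ ∈
              (R : Subgroup H).map H.subtype := hXR hx
          have hxR : x' ∈ (R : Subgroup H) := hx'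
          set x'' : R := w⁻¹ * ⟨x', hxR⟩ * w with hx''
          have he : ((x'' : H) : G) = x := by
            show ((w : H) : G)⁻¹ * (x' : G) * ((w : H) : G) = x
            rw [show (x' : G) = _ from hxe]
            group
          have := (hwn x'').2 (Subgroup.mem_subgroupOf.2 (Subgroup.mem_subgroupOf.2 (by
            show ((w : H) : G) * ((x'' : H) : G) * ((w : H) : G)⁻¹ ∈ X
            rw [he]
            exact hx)))
          rw [← he]
          exact Subgroup.mem_subgroupOf.1 (Subgroup.mem_subgroupOf.1 this)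
      have hlt' : Nat.card X < Nat.card Z := by
        refine lt_of_le_of_ne (Subgroup.card_le_of_le hXZ) fun h => hw ?_
        have := Subgroup.eq_of_le_of_card_ge hXZ h.ge
        exact Subgroup.mem_subgroupOf.2 (Subgroup.mem_subgroupOf.2 (this ▸ hwZ))
      have hZH : Z ≤ H := inf_le_left.trans (Subgroup.map_subtype_le _)
      refine ih Z (by omega) ((R.isPGroup'.map _).to_le inf_le_left) hZH
        (fun hc' => hr (rank_mono hXZ hc')) y fun v hv => ?_
      refine hnorm (X.map (MulAut.conj y).toMonoidHom) (hX.map _) ((conj_le_iff y X H).2 hy)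
        (fun hc' => hr (rank_conj y hc')) ?_
      exact Subgroup.le_normalizer_map _ (Subgroup.mem_map_of_mem (MulAut.conj y).toMonoidHom hv.2)

/-- Let H be a subgroup of the finite group G, p a prime, k ≥ 1, and P a Sylow p-subgroup of H whose p-rank is at least k. Then N_G(X) ≤ H for every subgroup X of P of p-rank at least k if and only if H ∩ gHg⁻¹ has p-rank less than k for every g ∉ H. -/
theorem result {G : Type*} [Group G] [Finite G] {p : ℕ} [Fact p.Prime] (k : ℕ) (hk : 1 ≤ k) (H : Subgroup G) (P : Sylow p ↥H) (hP : ¬ Cfsg.PRankLE p (k - 1) ↥(P : Subgroup ↥H)) : (∀ X : Subgroup G, X ≤ (P : Subgroup ↥H).map H.subtype → ¬ Cfsg.PRankLE p (k - 1) ↥X → Subgroup.normalizer (X : Set G) ≤ H) ↔ (∀ g : G, g ∉ H → Cfsg.PRankLE p (k - 1) ↥(H ⊓ H.map (MulAut.conj g).toMonoidHom)) := by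
  constructor
  · intro hN g hg A hA hAp
    haveI := hA
    by_contra hbig
    set X := A.map (H ⊓ H.map (MulAut.conj g).toMonoidHom).subtype with hX
    have hXle : X ≤ H ⊓ H.map (MulAut.conj g).toMonoidHom := Subgroup.map_subtype_le _
    have hr : ¬ PRankLE p (k - 1) X := fun hc => hbig (by
      have := hc ⊤ inferInstance (by
        rintro ⟨_, a, ha, rfl⟩ -
        refine Subtype.ext ?_
        rw [SubmonoidClass.coe_pow, OneMemClass.coe_one, ← map_pow, hAp a ha, map_one])
      rwa [Subgroup.card_top, hX, Subgroup.card_map_of_injective (Subgroup.subtype_injective _)] at this)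
    have hXp : IsPGroup p X := fun x => ⟨1, by
      obtain ⟨_, a, ha, rfl⟩ := x
      refine Subtype.ext ?_
      rw [pow_one, SubmonoidClass.coe_pow, OneMemClass.coe_one, ← map_pow, hAp a ha, map_one]⟩
    refine hg ((H.inv_mem_iff).1 (mem_of_conj_le P hN (Nat.card G) X (Nat.le_add_left _ _) hXp
      (hXle.trans inf_le_left) hr g⁻¹ fun x hx => ?_))
    obtain ⟨h, hh, rfl⟩ := (hXle hx).2
    simpa [mul_assoc] using hh
  · intro h X hX hr n hn
    by_contra hnH
    refine hr (rank_mono (le_inf (hX.trans (Subgroup.map_subtype_le _)) ?_) (h n hnH))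
    conv_lhs => rw [← Subgroup.mem_normalizer_iff_map_conj_eq.1 hn]
    exact Subgroup.map_mono (hX.trans (Subgroup.map_subtype_le _))

end Cfsg.Agent.S1231
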