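import Cfsg.Statements.S1235
import Cfsg.Agent.Lib.Recog.Harada1235.Swap
import Cfsg.Agent.Lib.Recog.Harada1235.Dihedral
import Cfsg.Agent.Lib.Recog.Harada1235.Reduce

set_option autoImplicit false
open Cfsg

namespace Cfsg.Agent.S1235

/-- Let G be a finite group, x an involution and T ≤ G a Sylow 2-subgroup of C_G(x) (T ≤ C_G(x) with |C_G(x) : T| odd) which is the internal direct product of a subgroup D that is dihedral (of order ≥ 4) or quasi-dihedral and a Klein four-subgroup B. Suppose that for every involution b ∈ B, T ≤ C_G(b) with |C_G(b) : T| odd. Then every section of G has 2-rank at most 4. -/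
theorem result {G : Type*} [Group G] [Finite G] (x : G) (hx : orderOf x = 2) (T D B : Subgroup G) (hT : IsPGroup 2 T) (hTx : T ≤ Subgroup.centralizer ({x} : Set G)) (hTxi : Odd (T.relIndex (Subgroup.centralizer ({x} : Set G)))) (hprod : Cfsg.IsInternalDirectProduct D B T) (hD : (∃ m : ℕ, 2 ≤ m ∧ Nonempty (D ≃* DihedralGroup m)) ∨ Cfsg.IsQuasiDihedral D) (hB : IsKleinFour B) (hTb : ∀ b ∈ B, orderOf b = 2 → T ≤ Subgroup.centralizer ({b} : Set G) ∧ Odd (T.relIndex (Subgroup.centralizer ({b} : Set G)))) : Cfsg.SectionalPRankLE 2 4 G := by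
  classical
  obtain ⟨hDT, hBT, hcomm, hdisj, hsup⟩ := hprod
  obtain ⟨Sy, hTS⟩ := hT.exists_le_sylow
  set S := (Sy : Subgroup G) with hSdef
  refine Cfsg.Agent.Harada1235.sectional_of_sylow Sy ?_
  intro K X _ _ f hf hX
  have hDS : D ≤ S := hDT.trans hTS
  have hBS : B ≤ S := hBT.trans hTS
  haveI := hB
  have hexpB : ∀ b ∈ B, b * b = 1 := fun b hb =>
    congrArg Subtype.val (IsKleinFour.mul_self (⟨b, hb⟩ : B))
  have hdec : ∀ u ∈ T, ∃ a ∈ D, ∃ b ∈ B, u = a * b := fun u hu =>
    Cfsg.Agent.Harada1235.mem_sup_prod (fun b hb => Subgroup.mem_normalizer_iff.mpr fun w =>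
      ⟨fun hw => by
        show b * w * b⁻¹ ∈ D
        rw [← hcomm w hw b hb, mul_inv_cancel_right]
        exact hw,
      fun hw => by
        have hw' : b * w * b⁻¹ ∈ D := hw
        have hh := hcomm _ hw' b hb
        have : w = b * w * b⁻¹ := by
          have h' := congrArg (fun t => b⁻¹ * t) hh
          simpa [mul_assoc] using h'
        show w ∈ D
        rw [this]; exact hw'⟩) (hsup.symm ▸ hu : u ∈ D ⊔ B)
  -- the centraliser of an involution of `B` in `S`
  have hcent : ∀ b ∈ B, b ≠ 1 → ∀ u ∈ S, u * b = b * u → u ∈ T := by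
    intro b hb hb1 u hu hub
    haveI : Fact (Nat.Prime 2) := ⟨Nat.prime_two⟩
    obtain ⟨hle, hodd⟩ := hTb b hb (orderOf_eq_prime (by rw [pow_two]; exact hexpB b hb) hb1)
    have hTK : T ≤ S ⊓ Subgroup.centralizer ({b} : Set G) := le_inf hTS hle
    have h1 := Subgroup.relIndex_mul_relIndex T _ _ hTK
      (inf_le_right : S ⊓ Subgroup.centralizer ({b} : Set G) ≤ Subgroup.centralizer ({b} : Set G))
    obtain ⟨n, hn⟩ := (Sy.2.to_le (inf_le_left :
      S ⊓ Subgroup.centralizer ({b} : Set G) ≤ (Sy : Subgroup G))).index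
        (T.subgroupOf (S ⊓ Subgroup.centralizer ({b} : Set G)))
    have h2 : T.relIndex (S ⊓ Subgroup.centralizer ({b} : Set G)) = 1 := by
      rw [Subgroup.relIndex, hn]
      rcases Nat.eq_zero_or_pos n with h0 | h0
      · rw [h0, pow_zero]
      · exfalso
        rw [Subgroup.relIndex, hn] at h1
        rw [← h1] at hodd
        exact Nat.not_even_iff_odd.mpr hodd
          (((Nat.even_pow' (by omega)).mpr even_two).mul_right _)
    exact Subgroup.relIndex_eq_one.mp h2
      (Subgroup.mem_inf.mpr ⟨hu, Subgroup.mem_centralizer_singleton_iff.mpr hub⟩)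
  have hcentS : ∀ b ∈ B.subgroupOf S, b ≠ 1 →
      Subgroup.centralizer ({b} : Set S) = T.subgroupOf S := by
    intro b hb hb1
    ext u
    rw [Subgroup.mem_centralizer_singleton_iff, Subgroup.mem_subgroupOf]
    refine ⟨fun h => hcent _ hb (fun e => hb1 (Subtype.ext e)) _ u.2
      (congrArg Subtype.val h), fun h => Subtype.ext ?_⟩
    obtain ⟨hle, -⟩ := hTb _ hb (orderOf_eq_prime (by rw [pow_two]; exact hexpB _ hb)
      (fun e => hb1 (Subtype.ext e)))
    exact Subgroup.mem_centralizer_singleton_iff.mp (hle h)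
  have hcardB : Nat.card ↥(B.subgroupOf S) = 4 := by
    rw [Nat.card_congr (Subgroup.subgroupOfEquivOfLe hBS).toEquiv]
    exact IsKleinFour.card_four
  have hnonab : ∀ c d : D, (∀ u : D, u ∈ Subgroup.zpowers c ∨ u * d ∈ Subgroup.zpowers c) →
      (∃ u v : D, u * v ≠ v * u) → Nat.card X ≤ 16 := by
    intro c d hgen hna
    let j : D →* S := Subgroup.inclusion hDS
    have hj : Function.Injective j := Subgroup.inclusion_injective hDS
    have hjD : ∀ u, j u ∈ D.subgroupOf S := fun u => u.2
    have P : Cfsg.Agent.Harada1235.Prod4 (T.subgroupOf S) (D.subgroupOf S) (B.subgroupOf S) :=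
      { two := Sy.2
        hDT := fun u hu => hDT hu
        hBT := fun u hu => hBT hu
        comm := fun a ha b hb => Subtype.ext (hcomm _ ha _ hb)
        disj := (Subgroup.eq_bot_iff_forall _).mpr fun w hw => by
          have : (w : G) ∈ D ⊓ B := hw
          rw [hdisj] at this
          exact Subtype.ext (Subgroup.mem_bot.mp this)
        dec := fun u hu => by
          obtain ⟨a, ha, b, hb, e⟩ := hdec _ hu
          exact ⟨⟨a, hDS ha⟩, ha, ⟨b, hBS hb⟩, hb, Subtype.ext e⟩
        card := hcardB
        exp := fun b hb => Subtype.ext (hexpB _ hb)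
        cent := hcentS }
    refine P.bound_nonabelian (hjD c) (hjD d) ?_ ?_ K f hf hX
    · intro u hu
      have hu' : u = j ⟨u, hu⟩ := rfl
      rw [hu', ← map_mul, ← MonoidHom.map_zpowers]
      exact (hgen ⟨u, hu⟩).imp (Subgroup.mem_map_of_mem j) (Subgroup.mem_map_of_mem j)
    · obtain ⟨u, v, huv⟩ := hna
      exact ⟨j u, hjD u, j v, hjD v, fun e => huv (hj (by rw [map_mul, map_mul]; exact e))⟩
  rcases hD with ⟨m, hm, ⟨e⟩⟩ | hQD
  · rcases Nat.eq_or_lt_of_le hm with hm2 | hm3
    · subst hm2
      have hexpD : ∀ a ∈ D, a * a = 1 := fun a ha => by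
        have : (⟨a, ha⟩ : D) * ⟨a, ha⟩ = 1 := e.injective (by
          rw [map_mul, map_one]; exact IsKleinFour.mul_self _)
        exact congrArg Subtype.val this
      have hcardT : Nat.card T = 16 := by
        have h := Cfsg.Agent.Basics.card_mul_card_eq_card_sup_mul_card_inf (N := D) (H := B)
          (fun b hb => Subgroup.mem_normalizer_iff.mpr fun w => ⟨fun hw => by
            show b * w * b⁻¹ ∈ D
            rw [← hcomm w hw b hb, mul_inv_cancel_right]
            exact hw, fun hw => by
            have hw' : b * w * b⁻¹ ∈ D := hw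
            have h' := congrArg (fun t => b⁻¹ * t) (hcomm _ hw' b hb)
            simp [mul_assoc] at h'
            show w ∈ D
            rw [h']; simpa [mul_assoc] using hw'⟩)
        rw [hsup, hdisj, Subgroup.card_bot, mul_one, Nat.card_congr e.toEquiv,
          DihedralGroup.nat_card, IsKleinFour.card_four] at h
        omega
      refine Cfsg.Agent.Harada1235.Elem.bound (E := T.subgroupOf S) (B := B.subgroupOf S)
        { two := Sy.2
          hBE := fun u hu => hBT hu
          card := by rw [Nat.card_congr (Subgroup.subgroupOfEquivOfLe hTS).toEquiv]; exact hcardT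
          exp := fun u hu => Subtype.ext (by
            obtain ⟨a, ha, b, hb, e'⟩ := hdec _ hu
            show (u : G) * u = 1
            rw [show (u : G) = a * b from e', mul_assoc, ← mul_assoc b, ← hcomm a ha b hb, mul_assoc a b, hexpB b hb,
              mul_one, hexpD a ha])
          cardB := hcardB
          cent := hcentS } K f hf hX
    · haveI : NeZero m := ⟨by omega⟩
      refine hnonab (e.symm (DihedralGroup.r 1)) (e.symm (DihedralGroup.sr 0)) ?_ ?_
      · intro u
        have key : ∀ i : ZMod m, e.symm (DihedralGroup.r i) ∈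
            Subgroup.zpowers (e.symm (DihedralGroup.r 1)) := fun i => by
          have hi : DihedralGroup.r i = DihedralGroup.r 1 ^ i.val := by
            rw [DihedralGroup.r_one_pow, ZMod.natCast_zmod_val]
          rw [hi, map_pow]
          exact Subgroup.npow_mem_zpowers _ _
        rcases hu : e u with i | i
        · left
          rw [← e.symm_apply_apply u, hu]
          exact key i
        · right
          rw [← e.symm_apply_apply u, hu, ← map_mul, DihedralGroup.sr_mul_sr]
          exact key _
      · refine ⟨e.symm (DihedralGroup.r 1), e.symm (DihedralGroup.sr 0), fun h => ?_⟩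
        rw [← map_mul, ← map_mul, e.symm.injective.eq_iff, DihedralGroup.r_mul_sr,
          DihedralGroup.sr_mul_r, DihedralGroup.sr.injEq, zero_sub, zero_add] at h
        have h2 : ((2 : ℕ) : ZMod m) = 0 := by
          rw [Nat.cast_ofNat, ← one_add_one_eq_two]
          nth_rewrite 1 [← h]
          exact neg_add_cancel 1
        rw [ZMod.natCast_eq_zero_iff] at h2
        exact absurd (Nat.le_of_dvd (by norm_num) h2) (by omega)
  · obtain ⟨n, hn, hcard, x₀, y₀, hx₀, hy₀, hrel⟩ := hQD
    have hne : y₀ * x₀ ≠ x₀ * y₀ := by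
      intro h
      rw [h, mul_inv_cancel_right] at hrel
      have hp : 2 ^ n = 2 * 2 ^ (n - 1) := by rw [← pow_succ', Nat.sub_add_cancel (by omega)]
      have hq : 4 ≤ 2 ^ (n - 1) := by
        calc 4 = 2 ^ 2 := by norm_num
          _ ≤ _ := Nat.pow_le_pow_right (by norm_num) (by omega)
      have := pow_injOn_Iio_orderOf (x := x₀) (show 1 ∈ Set.Iio (orderOf x₀) by
        rw [hx₀, Set.mem_Iio]; omega) (show 2 ^ (n - 1) - 1 ∈ Set.Iio (orderOf x₀) by
        rw [hx₀, Set.mem_Iio]; omega) (by simpa using hrel)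
      omega
    have hy : y₀ ∉ Subgroup.zpowers x₀ := fun hmem => by
      obtain ⟨i, rfl⟩ := Subgroup.mem_zpowers_iff.mp hmem
      exact hne (Commute.zpow_self x₀ i).eq
    have hidx : (Subgroup.zpowers x₀).index = 2 := by
      have h := (Subgroup.zpowers x₀).card_mul_index
      rw [Nat.card_zpowers, hx₀, hcard, pow_succ] at h
      exact Nat.eq_of_mul_eq_mul_left (Nat.two_pow_pos n) h
    refine hnonab x₀ y₀ (fun u => ?_) ⟨y₀, x₀, hne⟩
    by_cases hu : u ∈ Subgroup.zpowers x₀
    · exact Or.inl hu
    · exact Or.inr ((Subgroup.mul_mem_iff_of_index_two hidx).mpr (iff_of_false hu hy))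

end Cfsg.Agent.S1235
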