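import Cfsg.Statements.S1236
import Cfsg.Agent.Lib.Invol.FourInDihedral
-- import your own Cfsg.Agent.* helpers here

set_option autoImplicit false
open Cfsg

namespace Cfsg.Agent.S1236

/-- Let R be a finite group, t a central involution of R such that R ⧸ ⟨t⟩ is dihedral (of order ≥ 4) or quasi-dihedral, and A ≤ R an elementary abelian subgroup of order 8 containing t. Then C_R(A) = A. -/
theorem result {R : Type*} [Group R] [Finite R] (t : R) (ht : orderOf t = 2) (htz : t ∈ Subgroup.center R) [(Subgroup.zpowers t).Normal] (hq : (∃ m : ℕ, 2 ≤ m ∧ Nonempty (R ⧸ Subgroup.zpowers t ≃* DihedralGroup m)) ∨ Cfsg.IsQuasiDihedral (R ⧸ Subgroup.zpowers t)) (A : Subgroup R) (hA : Cfsg.IsElementaryAbelian 2 A) (hA8 : Nat.card A = 8) (htA : t ∈ A) : Subgroup.centralizer (A : Set R) = A := by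
  classical
  obtain ⟨hAc, hA2⟩ := hA
  set f := QuotientGroup.mk' (Subgroup.zpowers t) with hf
  have hle : Subgroup.zpowers t ≤ A := Subgroup.zpowers_le.2 htA
  have hcard : Nat.card (A.map f) = 4 := by
    have h := (f.ker.subgroupOf A).card_mul_index
    rw [hf, QuotientGroup.ker_mk',
      Nat.card_congr (Subgroup.subgroupOfEquivOfLe hle).toEquiv, Nat.card_zpowers, ht, hA8] at h
    have h2 : Nat.card (A.map f) = ((Subgroup.zpowers t).subgroupOf A).index := by
      have hk : (f.comp A.subtype).ker = (Subgroup.zpowers t).subgroupOf A := by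
        ext a
        rw [MonoidHom.mem_ker, Subgroup.mem_subgroupOf]
        exact QuotientGroup.eq_one_iff (a : R)
      rw [← hk, Subgroup.index_ker, MonoidHom.range_comp, Subgroup.range_subtype]
    omega
  have hsq : ∀ u ∈ A.map f, u * u = 1 := by
    rintro _ ⟨a, ha, rfl⟩
    rw [← map_mul, ← sq, hA2 a ha, map_one]
  have hU := Invol.four_self_centralizing hq (A.map f) hcard hsq
  refine le_antisymm (fun c hc => ?_) (fun a ha => Subgroup.mem_centralizer_iff.2 fun b hb => ?_)
  · have h1 : f c ∈ Subgroup.centralizer ((A.map f : Subgroup _) : Set _) := by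
      rw [Subgroup.mem_centralizer_iff]
      rintro _ ⟨a, ha, rfl⟩
      rw [← map_mul, ← map_mul, Subgroup.mem_centralizer_iff.1 hc a ha]
    obtain ⟨a, ha, hac⟩ := hU h1
    have h2 : a⁻¹ * c ∈ A := hle (QuotientGroup.eq.1 hac)
    simpa using mul_mem ha h2
  · exact congrArg Subtype.val (hAc.is_comm.comm (⟨b, hb⟩ : A) ⟨a, ha⟩)

end Cfsg.Agent.S1236
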