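import Cfsg.Statements.S1237
import Cfsg.Agent.Lib.RankTwo.Homocyclic
import Cfsg.Agent.Lib.RankTwo.Model16

set_option autoImplicit false
open Cfsg

namespace Cfsg.Agent.S1237

/-- Let T be a finite 2-group of 2-rank exactly 2 (it has a Klein four-subgroup but no elementary abelian subgroup of order 8) admitting an automorphism φ such that any two involutions of T are carried to one another by a power of φ. Then T ≅ Z_{2^n} × Z_{2^n} for some n ≥ 1, or T is isomorphic to a Sylow 2-subgroup of PSU(3) over the field with 16 elements. -/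
theorem result {T : Type*} [Group T] [Finite T] (hT : IsPGroup 2 T) (h2 : Cfsg.PRankLE 2 2 T) (h1 : ¬ Cfsg.PRankLE 2 1 T) (φ : MulAut T) (htrans : ∀ s t : T, orderOf s = 2 → orderOf t = 2 → ∃ k : ℕ, (φ ^ k) s = t) {F : Type*} [Field F] [Fintype F] (hF : Fintype.card F = 16) (P : Sylow 2 (Cfsg.PSU 3 F 4)) : (∃ n : ℕ, 1 ≤ n ∧ Nonempty (T ≃* Multiplicative (ZMod (2 ^ n) × ZMod (2 ^ n)))) ∨ Nonempty (T ≃* (P : Subgroup (Cfsg.PSU 3 F 4))) := by
  classical
  haveI : Fact (Nat.Prime 2) := ⟨Nat.prime_two⟩
  obtain ⟨E, hEc, hE2, hE⟩ : ∃ E : Subgroup T, IsMulCommutative E ∧ (∀ a ∈ E, a ^ 2 = 1) ∧ 2 < Nat.card E := by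
    simpa [Cfsg.PRankLE] using h1
  haveI : Nontrivial T := by
    haveI : Nontrivial E := Finite.one_lt_card_iff_nontrivial.1 (by omega)
    exact Subtype.val_injective.nontrivial (α := E)
  haveI : Nontrivial (Subgroup.center T) := IsPGroup.center_nontrivial hT
  obtain ⟨k, hk, hkc⟩ := IsPGroup.nontrivial_iff_card (hT.to_subgroup (Subgroup.center T)) |>.1 inferInstance
  obtain ⟨z, hz⟩ := exists_prime_orderOf_dvd_card' (G := Subgroup.center T) 2 (hkc ▸ dvd_pow_self 2 hk.ne')
  rw [← Subgroup.orderOf_coe] at hz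
  have hcen : ∀ v : T, v * v = 1 → ∀ g, g * v = v * g := by
    intro v hv g
    by_cases hv1 : v = 1
    · simp [hv1]
    obtain ⟨m, hm⟩ := htrans z v hz (orderOf_eq_prime (by rw [pow_two]; exact hv) hv1)
    obtain ⟨g', rfl⟩ := (φ ^ m).surjective g
    rw [← hm, ← map_mul, ← map_mul, Subgroup.mem_center_iff.1 z.2 g']
  let V : Subgroup T :=
    { carrier := {v | v * v = 1}
      one_mem' := one_mul 1
      mul_mem' := fun {a b} ha hb => by
        show a * b * (a * b) = 1
        rw [mul_assoc, ← mul_assoc b, hcen a ha b, mul_assoc, hb, mul_one, ha]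
      inv_mem' := fun {a} ha => by
        show a⁻¹ * a⁻¹ = 1
        rw [← mul_inv_rev, ha, inv_one] }
  have hV4 : Nat.card V = 4 := by
    have hle : Nat.card V ≤ 4 := h2 V ⟨⟨fun a b => Subtype.ext (hcen b b.2 a)⟩⟩ fun a ha => by
      rw [pow_two]; exact ha
    have hge : 2 < Nat.card V := lt_of_lt_of_le hE (Subgroup.card_le_of_le fun a ha => by
      show a * a = 1
      rw [← pow_two]; exact hE2 a ha)
    obtain ⟨j, hj⟩ := IsPGroup.iff_card.mp (hT.to_subgroup V)
    rcases j with _ | _ | j
    · rw [hj] at hge; omega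
    · rw [hj] at hge; omega
    · rw [hj] at hle
      have := pow_add 2 j 2
      have : 0 < 2 ^ j := by positivity
      omega
  have hφV : ∀ v ∈ V, φ v ∈ V := fun v hv => by
    show φ v * φ v = 1
    rw [← map_mul, show v * v = 1 from hv, map_one]
  -- three involutions are permuted cyclically
  have hne : ∀ v ∈ V, v ≠ 1 → φ v ≠ v := by
    intro v hv hv1 hfix
    have hpow : ∀ m : ℕ, (φ ^ m) v = v := by
      intro m
      induction m with
      | zero => rfl
      | succ m ih => rw [pow_succ, MulAut.mul_apply, hfix, ih]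
    have hall : ∀ w ∈ V, w = 1 ∨ w = v := fun w hw => or_iff_not_imp_left.2 fun hw1 => by
      obtain ⟨m, hm⟩ := htrans v w (orderOf_eq_prime (by rw [pow_two]; exact hv) hv1)
        (orderOf_eq_prime (by rw [pow_two]; exact hw) hw1)
      rw [← hm, hpow]
    have := Nat.card_le_card_of_surjective (fun b : Bool => if b then (⟨v, hv⟩ : V) else 1) fun w => by
      rcases hall w w.2 with h | h
      · exact ⟨false, Subtype.ext h.symm⟩
      · exact ⟨true, Subtype.ext h.symm⟩
    rw [hV4, Nat.card_eq_fintype_card, Fintype.card_bool] at this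
    omega
  have hcube : ∀ v ∈ V, φ (φ (φ v)) = v := by
    intro v hv
    by_cases hv1 : v = 1
    · simp [hv1]
    have hφ1 : φ v ≠ 1 := (map_ne_one_iff φ φ.injective).2 hv1
    have hcard : ({⟨1, V.one_mem⟩, ⟨v, hv⟩, ⟨φ v, hφV v hv⟩, ⟨v * φ v, V.mul_mem hv (hφV v hv)⟩} : Finset V).card = 4 := by
      have h12 : (v * φ v) ≠ 1 := fun h => hne v hv hv1 ((eq_inv_of_mul_eq_one_right h).trans
        (inv_eq_of_mul_eq_one_right hv))
      rw [Finset.card_insert_of_notMem, Finset.card_insert_of_notMem, Finset.card_pair]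
      · simp only [ne_eq, Subtype.mk.injEq]; exact fun h => hv1 (mul_eq_right.1 h.symm)
      · simp only [Finset.mem_insert, Finset.mem_singleton, Subtype.mk.injEq, not_or]
        exact ⟨(hne v hv hv1).symm, fun h => hφ1 (mul_eq_left.1 h.symm)⟩
      · simp only [Finset.mem_insert, Finset.mem_singleton, Subtype.mk.injEq, not_or]
        exact ⟨Ne.symm hv1, Ne.symm hφ1, Ne.symm h12⟩
    haveI := Fintype.ofFinite V
    have hu := Finset.eq_univ_of_card _ (hcard.trans (by rw [← hV4, Nat.card_eq_fintype_card]))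
    have h := hu.symm ▸ Finset.mem_univ (⟨φ (φ v), hφV _ (hφV v hv)⟩ : V)
    simp only [Finset.mem_insert, Finset.mem_singleton, Subtype.mk.injEq] at h
    rcases h with h | h | h | h
    · exact absurd h ((map_ne_one_iff φ φ.injective).2 hφ1)
    · exfalso
      refine hne (v * φ v) (V.mul_mem hv (hφV v hv)) (fun h1 => hne v hv hv1
        ((eq_inv_of_mul_eq_one_right h1).trans (inv_eq_of_mul_eq_one_right hv))) ?_
      rw [map_mul, h, hcen v hv (φ v)]
    · exact absurd (φ.injective h) (hne v hv hv1)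
    · rw [h, map_mul, h, ← mul_assoc, hcen v hv (φ v), mul_assoc, show φ v * φ v = 1 from hφV v hv, mul_one]
  obtain ⟨e, N, hN, hord⟩ := Nat.exists_eq_pow_mul_and_not_dvd (orderOf_pos φ).ne' 3 (by norm_num)
  set α := φ ^ N with hα
  have hαfix : ∀ v ∈ V, v ≠ 1 → α v ≠ v := by
    intro v hv hv1 h
    have h3 : ∀ q : ℕ, (φ ^ (3 * q)) v = v := by
      intro q
      induction q with
      | zero => rfl
      | succ q ih =>
        rw [Nat.mul_succ, pow_add, MulAut.mul_apply, show (φ ^ 3) v = φ (φ (φ v)) from rfl, hcube v hv, ih]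
    rw [hα, ← Nat.mod_add_div N 3, add_comm, pow_add, MulAut.mul_apply] at h
    rcases (show N % 3 = 1 ∨ N % 3 = 2 by omega) with hr | hr <;> rw [hr] at h
    · rw [pow_one] at h
      have h' := congrArg φ (congrArg φ h)
      have e : (φ ^ (3 * (N / 3))) (φ v) = φ v := by
        rw [← MulAut.mul_apply, ← pow_succ, pow_succ', MulAut.mul_apply, h3]
      rw [e] at h
      exact hne v hv hv1 h
    · have e : (φ ^ (3 * (N / 3))) ((φ ^ 2) v) = (φ ^ 2) v := by
        rw [← MulAut.mul_apply, ← pow_add, add_comm, pow_add, MulAut.mul_apply, h3]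
      rw [e] at h
      have h' : φ (φ (φ v)) = φ v := congrArg φ h
      rw [hcube v hv] at h'
      exact hne v hv hv1 h'.symm
  have S : RankTwo.Setting α V :=
    { pgroup := hT
      mem := fun x => Iff.rfl
      central := fun v hv => hcen v hv
      card := hV4
      fix := fun x hx => by
        by_contra hx1
        obtain ⟨j, hj⟩ := IsPGroup.iff_orderOf.1 hT x
        rcases j with _ | j
        · exact hx1 (orderOf_eq_one_iff.1 hj)
        set v := x ^ 2 ^ j with hv
        have hvV : v ∈ V := by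
          show v * v = 1
          rw [hv, ← pow_add, ← two_mul, ← pow_succ', ← hj]
          exact pow_orderOf_eq_one x
        refine hαfix v hvV (fun h => ?_) (by rw [hv, map_pow, hx])
        have := Nat.le_of_dvd (by positivity) (orderOf_dvd_of_pow_eq_one h)
        rw [hj, pow_succ] at this
        have : 0 < 2 ^ j := by positivity
        omega
      order := ⟨e, fun x => by
        rw [hα, ← pow_mul, mul_comm, ← hord, pow_orderOf_eq_one]
        rfl⟩ }
  -- a maximal invariant normal abelian subgroup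
  let P0 : Subgroup T → Prop := fun D =>
    V ≤ D ∧ D.Normal ∧ (∀ x ∈ D, α x ∈ D) ∧ ∀ x ∈ D, ∀ y ∈ D, x * y = y * x
  haveI : Nonempty {D : Subgroup T // P0 D} := ⟨⟨V, le_rfl,
    ⟨fun v hv g => by rw [hcen v hv g, mul_inv_cancel_right]; exact hv⟩, fun v hv => S.map_mem hv,
    fun a _ b hb => hcen b hb a⟩⟩
  obtain ⟨⟨A, hVA, hAn, hAi, hAc⟩, hmax⟩ :=
    Finite.exists_max fun D : {D : Subgroup T // P0 D} => Nat.card D.1
  haveI := hAn
  have hself := S.self_centralizing hAc hVA hAi fun D hD hDn hDi hDc => by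
    have h := hmax ⟨D, hVA.trans hD.le, hDn, hDi, hDc⟩
    have := RankTwo.Setting.two_mul_card_le hD
    have : 0 < Nat.card A := Nat.card_pos
    simp only at h
    omega
  by_cases hA : ∀ t, t ∈ A
  · exact Or.inl (S.homocyclic fun a b => hAc a (hA a) b (hA b))
  · push Not at hA
    have C : RankTwo.Core α V A :=
      { toSetting := S, normal := hAn, comm := hAc, le := hVA, inv := hAi, self := hself }
    exact Or.inr (C.unitary_case hA hF P)

end Cfsg.Agent.S1237
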