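import Cfsg.Statements.S1243
import Mathlib
-- import your own Cfsg.Agent.* helpers here

set_option autoImplicit false
open Cfsg

namespace Cfsg.Agent.S1243

/-- Let T be a Sylow p-subgroup of the finite group G and W ≤ T a subgroup weakly closed in T. If d and g d g⁻¹ both centralize W, then g d g⁻¹ = h d h⁻¹ for some h ∈ N_G(W). -/
theorem result {G : Type*} [Group G] [Finite G] {p : ℕ} [Fact p.Prime] (T : Sylow p G) (W : Subgroup G) (hW : Cfsg.IsWeaklyClosed W (T : Subgroup G)) (d g : G) (hd : d ∈ Subgroup.centralizer (W : Set G)) (hgd : g * d * g⁻¹ ∈ Subgroup.centralizer (W : Set G)) : ∃ h ∈ Subgroup.normalizer (W : Set G), h * d * h⁻¹ = g * d * g⁻¹ := by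
  set C := Subgroup.centralizer ({g * d * g⁻¹} : Set G) with hC
  obtain ⟨hWT, hW⟩ := hW
  have hWp : IsPGroup p W := T.2.to_le hWT
  set W' := W.map (MulAut.conj g).toMonoidHom with hW'
  have hWC : W ≤ C := fun w hw => by
    rw [hC, Subgroup.mem_centralizer_singleton_iff]
    exact Subgroup.mem_centralizer_iff.1 hgd w hw
  have hW'C : W' ≤ C := by
    rintro _ ⟨w, hw, rfl⟩
    rw [hC, Subgroup.mem_centralizer_singleton_iff]
    have := Subgroup.mem_centralizer_iff.1 hd w hw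
    show g * w * g⁻¹ * (g * d * g⁻¹) = g * d * g⁻¹ * (g * w * g⁻¹)
    calc g * w * g⁻¹ * (g * d * g⁻¹) = g * (w * d) * g⁻¹ := by group
      _ = _ := by rw [this]; group
  obtain ⟨R, hR⟩ := (hWp.comap_subtype (K := C)).exists_le_sylow
  obtain ⟨R', hR'⟩ := ((hWp.map (MulAut.conj g).toMonoidHom).comap_subtype (K := C)).exists_le_sylow
  obtain ⟨c, hc⟩ := MulAction.exists_smul_eq C R' R
  obtain ⟨T', hT'⟩ := (R.2.map C.subtype).exists_le_sylow
  obtain ⟨e, he⟩ := MulAction.exists_smul_eq G T' T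
  have htoT : ∀ r ∈ (T' : Subgroup G), e * r * e⁻¹ ∈ (T : Subgroup G) := fun r hr => by
    rw [← he]; exact ⟨r, hr, rfl⟩
  have h1 : ∀ w ∈ W, e * w * e⁻¹ ∈ (T : Subgroup G) := fun w hw =>
    htoT w (hT' ⟨⟨w, hWC hw⟩, hR (show (⟨w, hWC hw⟩ : C) ∈ W.subgroupOf C from hw), rfl⟩)
  have h2 : ∀ w ∈ W, (e * c * g) * w * (e * c * g)⁻¹ ∈ (T : Subgroup G) := by
    intro w hw
    have hmem : g * w * g⁻¹ ∈ W' := ⟨w, hw, rfl⟩
    have hr : c * ⟨g * w * g⁻¹, hW'C hmem⟩ * c⁻¹ ∈ (R : Subgroup C) := by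
      rw [← hc]
      exact ⟨_, hR' (show (⟨g * w * g⁻¹, hW'C hmem⟩ : C) ∈ W'.subgroupOf C from hmem), rfl⟩
    have := htoT _ (hT' ⟨_, hr, rfl⟩)
    convert this using 1
    simp [mul_assoc]
  have e1 : W.map (MulAut.conj e).toMonoidHom = W :=
    hW e (by rintro _ ⟨w, hw, rfl⟩; exact h1 w hw)
  have e2 : W.map (MulAut.conj (e * c * g)).toMonoidHom = W :=
    hW _ (by rintro _ ⟨w, hw, rfl⟩; exact h2 w hw)
  refine ⟨(c : G) * g, Subgroup.mem_normalizer_iff_map_conj_eq.2 ?_, ?_⟩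
  · apply Subgroup.map_injective (f := (MulAut.conj e).toMonoidHom) (MulAut.conj e).injective
    rw [e1]
    refine Eq.trans ?_ e2
    rw [Subgroup.map_map]
    congr 1
    ext; simp [mul_assoc]
  · have hcc : (c : G) * (g * d * g⁻¹) = (g * d * g⁻¹) * c :=
      Subgroup.mem_centralizer_singleton_iff.1 c.2
    calc (c : G) * g * d * ((c : G) * g)⁻¹ = c * (g * d * g⁻¹) * (c : G)⁻¹ := by group
      _ = g * d * g⁻¹ := by rw [hcc, mul_inv_cancel_right]

end Cfsg.Agent.S1243
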