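import Cfsg.Statements.S1244
import Cfsg.Agent.Lib.Invol.AbelianSylow
import Cfsg.Agent.Lib.Invol.Count
-- import your own Cfsg.Agent.* helpers here

set_option autoImplicit false
open Cfsg

namespace Cfsg.Agent.S1244

/-- Let G be a finite group with no subgroup of index 2 whose Sylow 2-subgroup S is commutative, and let R ≤ S be a subgroup whose 2-rank is exactly one less than the 2-rank r of S. Then every involution of S is conjugate, by an element of N_G(S), to an element of R. -/
theorem result {G : Type*} [Group G] [Finite G] (hG : ∀ H : Subgroup G, H.index ≠ 2) (S : Sylow 2 G) (hS : IsMulCommutative (S : Subgroup G)) (r : ℕ) (hr1 : 1 ≤ r) (hSr : Cfsg.PRankLE 2 r (S : Subgroup G) ∧ ¬ Cfsg.PRankLE 2 (r - 1) (S : Subgroup G)) (R : Subgroup G) (hRS : R ≤ S) (hRr : Cfsg.PRankLE 2 (r - 1) R ∧ (r = 1 ∨ ¬ Cfsg.PRankLE 2 (r - 2) R)) (t : G) (ht : orderOf t = 2) (htS : t ∈ S) : ∃ n ∈ Subgroup.normalizer ((S : Subgroup G) : Set G), n * t * n⁻¹ ∈ R := by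
  classical
  haveI : Fact (Nat.Prime 2) := ⟨Nat.prime_two⟩
  haveI := Fintype.ofFinite G
  have hcomm : ∀ a ∈ (S : Subgroup G), ∀ b ∈ (S : Subgroup G), a * b = b * a := fun a ha b hb =>
    congrArg Subtype.val (hS.is_comm.comm (⟨a, ha⟩ : (S : Subgroup G)) ⟨b, hb⟩)
  let V : Subgroup G :=
    { carrier := {v | v ∈ S ∧ v ^ 2 = 1}
      one_mem' := ⟨one_mem _, one_pow _⟩
      mul_mem' := fun {a b} ha hb => ⟨mul_mem ha.1 hb.1, by
        rw [Commute.mul_pow (hcomm a ha.1 b hb.1), ha.2, hb.2, one_mul]⟩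
      inv_mem' := fun {a} ha => ⟨inv_mem ha.1, by rw [inv_pow, ha.2, inv_one]⟩ }
  have hVS : V ≤ (S : Subgroup G) := fun v hv => hv.1
  haveI hVc : IsMulCommutative V :=
    ⟨⟨fun a b => Subtype.ext (hcomm a (hVS a.2) b (hVS b.2))⟩⟩
  -- the orders of the groups of elements of order at most two
  have hcard : ∀ (X : Subgroup G) (k : ℕ), X ≤ S → Cfsg.PRankLE 2 k X →
      (k = 0 ∨ ¬ Cfsg.PRankLE 2 (k - 1) X) → Nat.card ↥(V ⊓ X) = 2 ^ k := by
    intro X k hX h1 h2
    have hVX : IsPGroup 2 ↥(V ⊓ X) := S.2.to_le (inf_le_left.trans hVS)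
    obtain ⟨m, hm⟩ := IsPGroup.iff_card.1 hVX
    have hle : Nat.card ↥(V ⊓ X) ≤ 2 ^ k := by
      have := h1 ((V ⊓ X).subgroupOf X)
        ⟨⟨fun a b => Subtype.ext (Subtype.ext (hcomm _ (hX a.1.2) _ (hX b.1.2)))⟩⟩
        (fun a ha => Subtype.ext ha.1.2)
      rwa [Nat.card_congr (Subgroup.subgroupOfEquivOfLe inf_le_right).toEquiv] at this
    have hge : k = 0 ∨ 2 ^ (k - 1) < Nat.card ↥(V ⊓ X) := by
      refine h2.imp id fun h2 => ?_
      unfold Cfsg.PRankLE at h2
      push_neg at h2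
      obtain ⟨A, -, hA2, hAc⟩ := h2
      refine lt_of_lt_of_le hAc ?_
      rw [Nat.card_congr (A.equivMapOfInjective _ X.subtype_injective).toEquiv]
      refine Subgroup.card_le_of_le ?_
      rintro _ ⟨a, ha, rfl⟩
      exact ⟨⟨hX a.2, by simpa using congrArg Subtype.val (hA2 a ha)⟩, a.2⟩
    rw [hm] at hle hge ⊢
    congr 1
    have := (Nat.pow_le_pow_iff_right (by norm_num)).1 hle
    rcases hge with h | h
    · omega
    · have := (Nat.pow_lt_pow_iff_right (by norm_num)).1 h
      omega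
  have hcV : Nat.card V = 2 ^ r := by
    have := hcard (S : Subgroup G) r le_rfl hSr.1 (Or.inr hSr.2)
    rwa [inf_eq_left.2 hVS] at this
  have hcW : Nat.card ↥(V ⊓ R) = 2 ^ (r - 1) := by
    refine hcard R (r - 1) hRS hRr.1 ?_
    rcases hRr.2 with h | h
    · exact Or.inl (by omega)
    · by_cases h1 : r = 1
      · exact Or.inl (by omega)
      · exact Or.inr (by rwa [show r - 1 - 1 = r - 2 by omega])
  let W : Subgroup V := (V ⊓ R).subgroupOf V
  have hW2 : W.index = 2 := by
    have h := W.card_mul_index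
    rw [Nat.card_congr (Subgroup.subgroupOfEquivOfLe inf_le_left).toEquiv, hcW, hcV] at h
    apply Nat.eq_of_mul_eq_mul_left (show 0 < 2 ^ (r - 1) by positivity)
    rw [h, ← pow_succ]; congr 1; omega
  set N := Subgroup.normalizer ((S : Subgroup G) : Set G) with hN
  have htV : t ∈ V := ⟨htS, by rw [← ht, pow_orderOf_eq_one]⟩
  have hconjV : ∀ n ∈ N, ∀ v ∈ V, n * v * n⁻¹ ∈ V := fun n hn v hv =>
    ⟨(Subgroup.mem_normalizer_iff.1 hn v).1 hv.1, by rw [conj_pow, hv.2]; group⟩
  by_contra hnone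
  push_neg at hnone
  let O : Finset V := Finset.univ.filter fun v => ∃ n ∈ N, n * t * n⁻¹ = (v : G)
  -- the orbit has odd size
  have hodd : Odd O.card := by
    have htN : t ∈ N := Subgroup.le_normalizer htS
    have h1 := Invol.card_class_mul_card_centralizer (⟨t, htN⟩ : N)
    have h2 : Nat.card {y : N // IsConj ⟨t, htN⟩ y} = O.card := by
      rw [← Fintype.card_coe, ← Nat.card_eq_fintype_card]
      refine Nat.card_congr
        { toFun := fun y => ⟨⟨(y.1 : G), ?_⟩, ?_⟩
          invFun := fun v => ⟨⟨(v.1 : G), Subgroup.le_normalizer (hVS v.1.2)⟩, ?_⟩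
          left_inv := fun y => rfl
          right_inv := fun v => rfl }
      · obtain ⟨c, hc⟩ := isConj_iff.1 y.2
        rw [← hc]
        exact hconjV c c.2 t htV
      · obtain ⟨c, hc⟩ := isConj_iff.1 y.2
        exact Finset.mem_filter.2 ⟨Finset.mem_univ _, c, c.2, congrArg Subtype.val hc⟩
      · obtain ⟨n, hn, hn'⟩ := (Finset.mem_filter.1 v.2).2
        exact isConj_iff.2 ⟨⟨n, hn⟩, Subtype.ext hn'⟩
    rw [h2] at h1
    have hSC : (S : Subgroup G).subgroupOf N ≤ Subgroup.centralizer ({⟨t, htN⟩} : Set N) := by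
      intro s hs
      rw [Subgroup.mem_centralizer_singleton_iff]
      exact Subtype.ext (hcomm _ hs _ htS)
    have hidx : (Subgroup.centralizer ({⟨t, htN⟩} : Set N)).index = O.card := by
      apply Nat.eq_of_mul_eq_mul_left
        (Nat.card_pos (α := Subgroup.centralizer ({⟨t, htN⟩} : Set N)))
      rw [Subgroup.card_mul_index, ← h1, mul_comm]
    rw [← hidx]
    have hdvd := (Subgroup.index_dvd_of_le hSC).trans
      (Subgroup.relIndex_dvd_index_of_le (Subgroup.le_normalizer (H := (S : Subgroup G))))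
    exact Odd.of_dvd_nat (Nat.not_even_iff_odd.1 fun h => S.not_dvd_index (even_iff_two_dvd.1 h))
      hdvd
  have hout : ∀ v ∈ O, v ∉ W := by
    intro v hv hvW
    obtain ⟨n, hn, hnv⟩ := (Finset.mem_filter.1 hv).2
    exact hnone n hn (hnv ▸ hvW.2)
  open scoped IsMulCommutative in
  have hpar : ∀ s : Finset V, (∀ v ∈ s, v ∉ W) → (s.prod id ∈ W ↔ Even s.card) := by
    intro s
    induction s using Finset.induction_on with
    | empty => simp
    | insert v s hv ih =>
      intro hs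
      rw [Finset.prod_insert hv, Finset.card_insert_of_notMem hv,
        Subgroup.mul_mem_iff_of_index_two hW2, ih (fun w hw => hs w (Finset.mem_insert_of_mem hw)),
        Nat.even_add_one]
      simp [hs v (Finset.mem_insert_self v s)]
  open scoped IsMulCommutative in
  have hfix : ∀ n ∈ N, n * ((O.prod id : V) : G) * n⁻¹ = ((O.prod id : V) : G) := by
    intro n hn
    let ψ : V →* V := MonoidHom.mk' (fun v => ⟨n * (v : G) * n⁻¹, hconjV n hn v v.2⟩)
      (fun a b => Subtype.ext (by simp [mul_assoc]))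
    have h : ψ (O.prod id) = O.prod id := by
      rw [map_prod]
      refine Finset.prod_nbij (fun v => ψ v) ?_ ?_ ?_ (fun v _ => rfl)
      · intro v hv
        obtain ⟨m, hm, hmv⟩ := (Finset.mem_filter.1 hv).2
        refine Finset.mem_filter.2 ⟨Finset.mem_univ _, n * m, mul_mem hn hm, ?_⟩
        show n * m * t * (n * m)⁻¹ = n * (v : G) * n⁻¹
        rw [← hmv]; group
      · intro a _ b _ hab
        exact Subtype.ext (mul_left_cancel (mul_right_cancel (congrArg Subtype.val hab)))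
      · intro w hw
        obtain ⟨m, hm, hmw⟩ := (Finset.mem_filter.1 hw).2
        refine ⟨⟨n⁻¹ * m * t * (n⁻¹ * m)⁻¹, hconjV _ (mul_mem (inv_mem hn) hm) t htV⟩,
          Finset.mem_filter.2 ⟨Finset.mem_univ _, _, mul_mem (inv_mem hn) hm, rfl⟩, ?_⟩
        refine Subtype.ext ?_
        show n * (n⁻¹ * m * t * (n⁻¹ * m)⁻¹) * n⁻¹ = (w : G)
        rw [← hmw]; group
    exact congrArg Subtype.val h
  open scoped IsMulCommutative in
  have h1 : O.prod id = 1 :=
    Subtype.ext (Invol.eq_one_of_fixed_by_normalizer hG S (hVS (O.prod id).2) hfix)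
  open scoped IsMulCommutative in
  exact Nat.not_even_iff_odd.2 hodd ((hpar O hout).1 (h1 ▸ one_mem W))

end Cfsg.Agent.S1244
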