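import Cfsg.Statements.S1246
import Cfsg.Agent.Lib.Components.PTimesQ
-- import your own Cfsg.Agent.* helpers here

set_option autoImplicit false
open Cfsg

namespace Cfsg.Agent.S1246

open Components LocalEvenA in
theorem step {G : Type*} [Group G] [Finite G] {p : ℕ} [Fact p.Prime] {V W : Subgroup G}
    (hVW : V ≤ W) (hW : IsPGroup p W) (hWN : W ≤ Subgroup.normalizer (V : Set G))
    (hV : Subgroup.centralizer (pCore p ↥(Subgroup.centralizer (V : Set G)) :
        Set ↥(Subgroup.centralizer (V : Set G))) ≤ pCore p ↥(Subgroup.centralizer (V : Set G))) :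
    Subgroup.centralizer (pCore p ↥(Subgroup.centralizer (W : Set G)) :
        Set ↥(Subgroup.centralizer (W : Set G))) ≤ pCore p ↥(Subgroup.centralizer (W : Set G)) := by
  set M := Subgroup.normalizer (V : Set G) with hM
  set C := Subgroup.centralizer (V : Set G) with hC
  have hCM : C ≤ M := Subgroup.centralizer_le_normalizer _
  -- the normalizer of `V` has characteristic `p`
  have hMchar : Subgroup.centralizer (pCore p ↥M : Set ↥M) ≤ pCore p ↥M := by
    haveI : (V.subgroupOf M).Normal := Subgroup.normal_in_normalizer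
    have hVp : V.subgroupOf M ≤ pCore p ↥M :=
      le_pCore inferInstance ((hW.to_le hVW).comap_of_injective M.subtype M.subtype_injective)
    set R := pCore p ↥C
    have hRM : ((R.map C.subtype).subgroupOf M) ≤ pCore p ↥M := by
      have hsub : M ≤ Subgroup.normalizer ((R.map C.subtype : Subgroup G) : Set G) := by
        intro m hm
        have hmC : ∀ m ∈ M, ∀ c : G, c ∈ C → m * c * m⁻¹ ∈ C := by
          intro m hm c hc
          refine Subgroup.mem_centralizer_iff.2 fun v hv => ?_
          have hv' : m⁻¹ * v * m ∈ V := by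
            simpa using (Subgroup.mem_normalizer_iff.1 (inv_mem hm) v).1 hv
          have := Subgroup.mem_centralizer_iff.1 hc _ hv'
          calc v * (m * c * m⁻¹) = m * ((m⁻¹ * v * m) * c) * m⁻¹ := by group
            _ = m * c * m⁻¹ * v := by rw [this]; group
        let e : ↥C ≃* ↥C :=
          { toFun := fun c => ⟨m * (c : G) * m⁻¹, hmC m hm c c.2⟩
            invFun := fun c => ⟨m⁻¹ * (c : G) * m, by simpa using hmC m⁻¹ (inv_mem hm) c c.2⟩
            left_inv := fun c => Subtype.ext (by simp [mul_assoc])
            right_inv := fun c => Subtype.ext (by simp [mul_assoc])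
            map_mul' := fun c d => Subtype.ext (by simp) }
        have he : R.map e.toMonoidHom = R := map_pCore_equiv e
        refine Subgroup.mem_normalizer_iff_map_conj_eq.2 ?_
        conv_rhs => rw [← he]
        rw [Subgroup.map_map, Subgroup.map_map]
        rfl
      haveI : ((R.map C.subtype).subgroupOf M).Normal := Subgroup.normal_subgroupOf_iff_le_normalizer
        ((Subgroup.map_subtype_le R).trans hCM) |>.2 hsub
      exact le_pCore inferInstance (((sSup_isPGroup_of_normal (p := p) (G := ↥C)).map _).comap_of_injective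
        M.subtype M.subtype_injective)
    intro x hx
    have hxC : (x : G) ∈ C := Subgroup.mem_centralizer_iff.2 fun v hv =>
      congrArg Subtype.val (Subgroup.mem_centralizer_iff.1 hx ⟨v, Subgroup.le_normalizer hv⟩ (hVp hv))
    have hxR : (⟨x, hxC⟩ : ↥C) ∈ R := hV (Subgroup.mem_centralizer_iff.2 fun r hr => Subtype.ext
      (congrArg Subtype.val (Subgroup.mem_centralizer_iff.1 hx ⟨(r : G), hCM r.2⟩
        (hRM ⟨r, hr, rfl⟩)) : (r : G) * x = x * r))
    exact hRM ⟨⟨x, hxC⟩, hxR, rfl⟩
  have hCW : Subgroup.centralizer (W : Set G) ≤ M :=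
    (Subgroup.centralizer_le hVW).trans hCM
  have hN := charP_normalizer_of_charP hW hWN hCW hMchar
  set H := Subgroup.normalizer (W : Set G) with hH
  set D := Subgroup.centralizer (W : Set G) with hD
  have hDH : D ≤ H := Subgroup.centralizer_le_normalizer _
  have hnormal : (D.subgroupOf H).Normal := by
    refine ⟨fun c hc m => ?_⟩
    refine Subgroup.mem_subgroupOf.2 (Subgroup.mem_centralizer_iff.2 fun v hv => ?_)
    have hv' : (m : G)⁻¹ * v * m ∈ W := by
      simpa using (Subgroup.mem_normalizer_iff.1 (inv_mem m.2) v).1 hv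
    have := Subgroup.mem_centralizer_iff.1 (Subgroup.mem_subgroupOf.1 hc) _ hv'
    simp only [Subgroup.coe_mul, InvMemClass.coe_inv]
    calc v * ((m : G) * c * (m : G)⁻¹) = m * (((m : G)⁻¹ * v * m) * c) * (m : G)⁻¹ := by group
      _ = (m : G) * c * (m : G)⁻¹ * v := by rw [this]; group
  refine le_pCore Subgroup.normal_centralizer (isPGroup_of_forall_coprime fun x hx hord => ?_)
  set R := (pCore p ↥H).map H.subtype
  have hRp : IsPGroup p R := sSup_isPGroup_of_normal.map _
  have hHR : H ≤ Subgroup.normalizer (R : Set G) := by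
    have := Subgroup.le_normalizer_map (H := pCore p ↥H) H.subtype
    rwa [Subgroup.normalizer_eq_top, ← MonoidHom.range_eq_map, Subgroup.range_subtype] at this
  have hRD : (pCore p ↥H).comap (Subgroup.inclusion hDH) ≤ pCore p ↥D :=
    le_pCore inferInstance ((sSup_isPGroup_of_normal (p := p) (G := ↥H)).comap_of_injective _
      (Subgroup.inclusion_injective hDH))
  have hxo : (orderOf (x : G)).Coprime p := by rwa [Subgroup.orderOf_coe]
  have hcent : ∀ r ∈ R, Commute (x : G) r := by
    refine pq_lemma hW hxo (fun y hy => (Subgroup.mem_centralizer_iff.1 x.2 y hy).symm) hRp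
      (Subgroup.le_normalizer.trans hHR) (hHR (hDH x.2)) ?_
    rintro _ ⟨r, hr, rfl⟩ hrW
    have hrD : (r : G) ∈ D := Subgroup.mem_centralizer_iff.2 fun y hy => (hrW y hy).eq.symm
    exact (congrArg Subtype.val (Subgroup.mem_centralizer_iff.1 hx ⟨r, hrD⟩ (hRD hr))).symm
  have hxH : (⟨x, hDH x.2⟩ : ↥H) ∈ pCore p ↥H := hN (Subgroup.mem_centralizer_iff.2 fun r hr =>
    Subtype.ext (hcent r ⟨r, hr, rfl⟩).eq.symm)
  obtain ⟨k, hk⟩ := sSup_isPGroup_of_normal (p := p) (G := ↥H) ⟨_, hxH⟩
  refine Subtype.ext (eq_one_of_pPow_of_coprime (k := k) ?_ hxo)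
  exact congrArg (fun z : ↥(pCore p ↥H) => ((z : ↥H) : G)) hk

/-- Let V ≤ U be p-subgroups of the finite group G. If the generalized Fitting subgroup of C_G(V) is a p-group, then so is that of C_G(U). -/
theorem result {G : Type*} [Group G] [Finite G] {p : ℕ} [Fact p.Prime] (U V : Subgroup G) (hVU : V ≤ U) (hU : IsPGroup p U) (hV : IsPGroup p ↥(Cfsg.generalizedFittingSubgroup ↥(Subgroup.centralizer (V : Set G)))) : IsPGroup p ↥(Cfsg.generalizedFittingSubgroup ↥(Subgroup.centralizer (U : Set G))) := by
  classical
  suffices h : ∀ (n : ℕ) (V : Subgroup G), V ≤ U → Nat.card U ≤ Nat.card V + n →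
      Subgroup.centralizer (pCore p ↥(Subgroup.centralizer (V : Set G)) :
        Set ↥(Subgroup.centralizer (V : Set G))) ≤ pCore p ↥(Subgroup.centralizer (V : Set G)) →
      Subgroup.centralizer (pCore p ↥(Subgroup.centralizer (U : Set G)) :
        Set ↥(Subgroup.centralizer (U : Set G))) ≤ pCore p ↥(Subgroup.centralizer (U : Set G)) by
    have hchar : Subgroup.centralizer (pCore p ↥(Subgroup.centralizer (V : Set G)) :
        Set ↥(Subgroup.centralizer (V : Set G))) ≤ pCore p ↥(Subgroup.centralizer (V : Set G)) := by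
      set X := Subgroup.centralizer (V : Set G)
      haveI : (generalizedFittingSubgroup ↥X).Normal := by
        rw [generalizedFittingSubgroup]; infer_instance
      have h1 : generalizedFittingSubgroup ↥X ≤ pCore p ↥X := Components.le_pCore inferInstance hV
      have h2 : pCore p ↥X ≤ generalizedFittingSubgroup ↥X :=
        (Components.pCore_le_fitting).trans Components.fitting_le_fStar
      rw [le_antisymm h2 h1]
      exact Components.centralizer_fStar_le
    have h2 := h (Nat.card U) V hVU (Nat.le_add_left _ _) hchar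
    rw [Components.fStar_eq_pCore_iff.2 h2]
    exact Components.sSup_isPGroup_of_normal
  intro n
  induction n with
  | zero =>
    intro V hVU hc hV
    rw [← Subgroup.eq_of_le_of_card_ge hVU (by omega)]
    exact hV
  | succ n ih =>
    intro V hVU hc hV
    by_cases heq : V = U
    · exact heq ▸ hV
    haveI := hU.isNilpotent
    have hlt : V.subgroupOf U < ⊤ := lt_top_iff_ne_top.2 fun e =>
      heq (le_antisymm hVU (Subgroup.subgroupOf_eq_top.1 e))
    obtain ⟨w, hwn, hw⟩ := Set.exists_of_ssubset (Group.normalizerCondition_of_isNilpotent _ hlt)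
    set W := U ⊓ Subgroup.normalizer (V : Set G)
    have hVW : V ≤ W := le_inf hVU Subgroup.le_normalizer
    have hwW : (w : G) ∈ W := by
      refine ⟨w.2, ?_⟩
      rw [SetLike.mem_coe, ← Subgroup.subgroupOf_normalizer_eq hVU] at hwn
      exact hwn
    have hlt' : Nat.card V < Nat.card W := by
      refine lt_of_le_of_ne (Subgroup.card_le_of_le hVW) fun h => hw ?_
      have := Subgroup.eq_of_le_of_card_ge hVW h.ge
      exact Subgroup.mem_subgroupOf.2 (this ▸ hwW)
    exact ih W inf_le_left (by omega) (step hVW (hU.to_le inf_le_left) inf_le_right hV)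

end Cfsg.Agent.S1246
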