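import Cfsg.Statements.S1249
import Mathlib
-- import your own Cfsg.Agent.* helpers here

set_option autoImplicit false
open Cfsg

namespace Cfsg.Agent.S1249

/-- Let P and Q be Sylow p-subgroups of the finite group G both containing the subgroup A. If A is strongly closed in P, then A is strongly closed in Q. -/
theorem result {G : Type*} [Group G] [Finite G] {p : ℕ} [Fact p.Prime] (P Q : Sylow p G) (A : Subgroup G) (hAQ : A ≤ Q) (hA : Cfsg.IsStronglyClosed A (P : Subgroup G)) : Cfsg.IsStronglyClosed A (Q : Subgroup G) := by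
  obtain ⟨hAP, hA⟩ := hA
  refine ⟨hAQ, fun x hx g hg => ?_⟩
  obtain ⟨c, hc⟩ := MulAction.exists_smul_eq G Q P
  have hto : ∀ r ∈ (Q : Subgroup G), c * r * c⁻¹ ∈ (P : Subgroup G) := fun r hr => by
    rw [← hc]; exact ⟨r, hr, rfl⟩
  have h1 : ∀ a ∈ A, c * a * c⁻¹ ∈ A := fun a ha => hA a ha c (hto a (hAQ ha))
  have hmap : A.map (MulAut.conj c).toMonoidHom = A := by
    refine Subgroup.eq_of_le_of_card_ge (by rintro _ ⟨a, ha, rfl⟩; exact h1 a ha) ?_
    exact (Nat.card_congr (A.equivMapOfInjective _ (MulAut.conj c).injective).toEquiv).le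
  have h2 : c * (g * x * g⁻¹) * c⁻¹ ∈ A := by
    have h' := hto _ hg
    rw [show c * (g * x * g⁻¹) * c⁻¹ = c * g * x * (c * g)⁻¹ by group] at h' ⊢
    exact hA x hx _ h'
  rw [← hmap] at h2
  obtain ⟨a, ha, hae⟩ := h2
  have : a = g * x * g⁻¹ := (MulAut.conj c).injective hae
  exact this ▸ ha

end Cfsg.Agent.S1249
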