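import Cfsg.Statements.S1250
import Mathlib
-- import your own Cfsg.Agent.* helpers here

set_option autoImplicit false
open Cfsg

namespace Cfsg.Agent.S1250

/-- Let S be a Sylow p-subgroup of the finite group G, A ≤ S strongly closed in S, and N a normal subgroup. Then the image of A in G ⧸ N is strongly closed in the image of S (which is a Sylow p-subgroup of G ⧸ N). -/
theorem result {G : Type*} [Group G] [Finite G] {p : ℕ} [Fact p.Prime] (S : Sylow p G) (A : Subgroup G) (hA : Cfsg.IsStronglyClosed A (S : Subgroup G)) (N : Subgroup G) [N.Normal] : Cfsg.IsStronglyClosed (A.map (QuotientGroup.mk' N)) ((S : Subgroup G).map (QuotientGroup.mk' N)) := by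
  obtain ⟨hAS, hA⟩ := hA
  refine ⟨Subgroup.map_mono hAS, ?_⟩
  rintro _ ⟨a, ha, rfl⟩ q hq
  obtain ⟨g, rfl⟩ := QuotientGroup.mk'_surjective N q
  set f := QuotientGroup.mk' N with hf
  rw [← map_inv, ← map_mul, ← map_mul] at hq ⊢
  set b := g * a * g⁻¹ with hb
  set U := (S : Subgroup G) ⊔ N with hU
  have hbU : b ∈ U := by
    obtain ⟨s, hs, hse⟩ := hq
    have : s⁻¹ * b ∈ N := by rw [← QuotientGroup.eq]; exact hse
    simpa using mul_mem ((le_sup_left : (S : Subgroup G) ≤ U) hs)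
      ((le_sup_right : N ≤ U) this)
  have hB : IsPGroup p ↥((A.map (MulAut.conj g).toMonoidHom).subgroupOf U) :=
    ((S.2.to_le hAS).map _).comap_subtype
  obtain ⟨R, hR⟩ := hB.exists_le_sylow
  obtain ⟨n, hn⟩ := MulAction.exists_smul_eq U R (S.subtype le_sup_left)
  have hmem : (n : G) * b * (n : G)⁻¹ ∈ (S : Subgroup G) := by
    have h1 : n * ⟨b, hbU⟩ * n⁻¹ ∈ ((S.subtype le_sup_left : Sylow p U) : Subgroup U) := by
      rw [← hn]
      exact ⟨_, hR (show (⟨b, hbU⟩ : U) ∈ (A.map (MulAut.conj g).toMonoidHom).subgroupOf U from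
        ⟨a, ha, rfl⟩), rfl⟩
    exact h1
  have hA' : f ((n : G) * b * (n : G)⁻¹) ∈ A.map f := ⟨_, by
    rw [show (n : G) * b * (n : G)⁻¹ = (n : G) * g * a * ((n : G) * g)⁻¹ by rw [hb]; group] at hmem ⊢
    exact hA a ha _ hmem, rfl⟩
  -- the image of `n` normalises the image of `A`
  have hnorm : U ≤ (Subgroup.normalizer ((A.map f : Subgroup (G ⧸ N)) : Set (G ⧸ N))).comap f := by
    refine sup_le (fun s hs => ?_) (fun m hm => ?_)
    · rw [Subgroup.mem_comap, Subgroup.mem_normalizer_iff_map_conj_eq]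
      refine Subgroup.eq_of_le_of_card_ge ?_
        (Nat.card_congr ((A.map f).equivMapOfInjective _ (MulAut.conj (f s)).injective).toEquiv).le
      rintro _ ⟨_, ⟨a', ha', rfl⟩, rfl⟩
      refine ⟨s * a' * s⁻¹, hA a' ha' s (mul_mem (mul_mem hs (hAS ha')) (inv_mem hs)), ?_⟩
      simp
    · rw [Subgroup.mem_comap, hf, QuotientGroup.mk'_apply, (QuotientGroup.eq_one_iff m).2 hm]
      exact one_mem _
  have h2 := Subgroup.mem_normalizer_iff.1 (Subgroup.mem_comap.1 (hnorm n.2)) (f b)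
  rw [map_mul, map_mul, map_inv] at hA'
  exact h2.2 hA'

end Cfsg.Agent.S1250
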