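import Cfsg.Statements.S1258
import Cfsg.Agent.Lib.Components.Quasisimple

set_option autoImplicit false
open Cfsg

namespace Cfsg.Agent.S1258

open scoped commutatorElement
open Subgroup

/-- If the central quotient of a finite group X is non-abelian simple, then X = X' Z(X) and the commutator subgroup X' is quasisimple. -/
theorem result {X : Type*} [Group X] [Finite X] (hs : IsSimpleGroup (X ⧸ Subgroup.center X)) (hna : ¬ IsMulCommutative (X ⧸ Subgroup.center X)) : commutator X ⊔ Subgroup.center X = ⊤ ∧ Cfsg.IsQuasisimple ↥(commutator X) := by
  haveI := hs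
  set Z := center X with hZ
  have key : ∀ N : Subgroup X, N.Normal → N ⊔ Z = ⊤ → commutator X ≤ N := by
    intro N hN h
    exact hN.commutator_le_of_self_sup_commutative_eq_top h inferInstance
  have hQ : (commutator (X ⧸ Z)) = ⊤ := by
    rcases (inferInstance : (commutator (X ⧸ Z)).Normal).eq_bot_or_eq_top with h | h
    · exact absurd ((_root_.commutator_eq_bot_iff (G := X ⧸ Z)).mp h) hna
    · exact h
  have hsurj := QuotientGroup.mk'_surjective Z
  have step : ∀ N : Subgroup X, N.map (QuotientGroup.mk' Z) = ⊤ → N ⊔ Z = ⊤ := by
    intro N h
    have h' := congrArg (Subgroup.comap (QuotientGroup.mk' Z)) h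
    rwa [comap_map_eq, QuotientGroup.ker_mk', comap_top] at h'
  have h1 : commutator X ⊔ Z = ⊤ := by
    apply step
    rw [_root_.commutator_def, map_commutator, map_top_of_surjective _ hsurj, ← _root_.commutator_def, hQ]
  have h2 : ⁅commutator X, commutator X⁆ = commutator X := by
    refine le_antisymm (commutator_le_self _) (key _ inferInstance (step _ ?_))
    have h3 : (commutator X).map (QuotientGroup.mk' Z) = ⊤ := by
      rw [_root_.commutator_def, map_commutator, map_top_of_surjective _ hsurj,
        ← _root_.commutator_def, hQ]
    rw [map_commutator, h3, ← _root_.commutator_def, hQ]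
  refine ⟨h1, ?_⟩
  haveI : Nontrivial ↥(commutator X) := by
    rw [nontrivial_iff_ne_bot]
    intro h
    apply hna
    rw [← _root_.commutator_eq_bot_iff, _root_.commutator_def,
      ← map_top_of_surjective _ hsurj, ← map_commutator, ← _root_.commutator_def, h, Subgroup.map_bot]
  refine Components.isQuasisimple_of_normal_cases (Subgroup.isPerfect_iff.mpr h2).commutator_eq_top
    fun N hN => ?_
  have hNn : (N.map (commutator X).subtype).Normal := by
    rw [← normalizer_eq_top_iff, eq_top_iff, ← h1]
    refine sup_le ?_ ?_
    · have := le_normalizer_map (H := N) (commutator X).subtype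
      rw [normalizer_eq_top, ← MonoidHom.range_eq_map, range_subtype] at this
      exact this
    · intro z hz
      rw [mem_normalizer_iff]
      intro y
      rw [← mem_center_iff.mp hz y, mul_inv_cancel_right]
  rcases ((hNn.map (QuotientGroup.mk' Z) hsurj)).eq_bot_or_eq_top with h | h
  · right
    rw [Subgroup.map_eq_bot_iff, QuotientGroup.ker_mk'] at h
    intro x hx
    rw [mem_center_iff]
    intro y
    apply Subtype.ext
    exact mem_center_iff.mp (h (mem_map_of_mem _ hx)) (y : X)
  · left
    rw [← map_subtype_inj, ← MonoidHom.range_eq_map, range_subtype]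
    exact le_antisymm (map_subtype_le N) (key _ hNn (step _ h))

end Cfsg.Agent.S1258
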