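import Cfsg.Statements.S1263
import Cfsg.Agent.Lib.Components.FStar

set_option autoImplicit false
open Cfsg

namespace Cfsg.Agent.S1263

open scoped commutatorElement
open Subgroup

/-- For a finite group G, Z(E(G)) is the subgroup generated by the centres Z(L) of the components L of G (all viewed as subgroups of G). -/
theorem result {G : Type*} [Group G] [Finite G] : (Subgroup.center ↥(Cfsg.layer G)).map (Cfsg.layer G).subtype = ⨆ L : {K : Subgroup G // Cfsg.IsComponent K}, (Subgroup.center ↥(L : Subgroup G)).map (L : Subgroup G).subtype := by
  classical
  have hfin : {K : Subgroup G | Cfsg.IsComponent K}.Finite := Set.toFinite _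
  set Z : Subgroup G := ⨆ L : {K : Subgroup G // Cfsg.IsComponent K},
    (Subgroup.center ↥(L : Subgroup G)).map (L : Subgroup G).subtype with hZ
  rw [Components.map_subtype_center]
  apply le_antisymm
  · have key : ∀ S : Finset (Subgroup G), (∀ K ∈ S, Cfsg.IsComponent K) →
        ∀ x ∈ S.sup id, (∀ K ∈ S, x ∈ centralizer (K : Set G)) → x ∈ Z := by
      intro S
      induction S using Finset.induction with
      | empty =>
        intro _ x hx _
        rw [Finset.sup_empty, mem_bot] at hx
        rw [hx]; exact one_mem _
      | insert L S hLS ih =>
        intro hS x hx hc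
        have hL := hS L (Finset.mem_insert_self L S)
        have hS' : ∀ K ∈ S, Cfsg.IsComponent K := fun K hK => hS K (Finset.mem_insert_of_mem hK)
        have hcom : S.sup id ≤ centralizer (L : Set G) := Finset.sup_le fun K hK => by
          refine commutator_eq_bot_iff_le_centralizer.mp ?_
          exact (Components.component_eq_or_commute (hS' K hK) hL).resolve_left
            (fun h => hLS (h ▸ hK))
        rw [Finset.sup_insert, id_eq, ← SetLike.mem_coe,
          coe_mul_of_right_le_normalizer_left _ _ (hcom.trans (centralizer_le_normalizer _))] at hx
        obtain ⟨l, hl, m, hm, rfl⟩ := hx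
        have hlc : l ∈ centralizer (L : Set G) := by
          have h1 := mul_mem (hc L (Finset.mem_insert_self L S)) (inv_mem (hcom hm))
          simpa using h1
        have hlZ : l ∈ Z := by
          refine le_iSup (fun L : {K : Subgroup G // Cfsg.IsComponent K} =>
            (Subgroup.center ↥(L : Subgroup G)).map (L : Subgroup G).subtype) ⟨L, hL⟩ ?_
          rw [Components.map_subtype_center]; exact ⟨hl, hlc⟩
        refine mul_mem hlZ (ih hS' m hm fun K hK => ?_)
        have hlK : l ∈ centralizer (K : Set G) := by
          rw [mem_centralizer_iff]
          intro k hk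
          exact ((mem_centralizer_iff.mp (hcom ((Finset.le_sup (f := id) hK) hk))) l hl).symm
        have h1 := mul_mem (inv_mem hlK) (hc K (Finset.mem_insert_of_mem hK))
        simpa using h1
    rintro x ⟨hxE, hxC⟩
    refine key hfin.toFinset (fun K hK => hfin.mem_toFinset.mp hK) x ?_ fun K hK => ?_
    · have : Cfsg.layer G ≤ hfin.toFinset.sup id :=
        Components.layer_le_iff.mpr fun L hL => Finset.le_sup (f := id) (hfin.mem_toFinset.mpr hL)
      exact this hxE
    · exact centralizer_le (Components.component_le_layer (hfin.mem_toFinset.mp hK)) hxC
  · refine iSup_le fun ⟨L, hL⟩ => ?_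
    rw [Components.map_subtype_center]
    refine le_inf (inf_le_left.trans (Components.component_le_layer hL)) ?_
    rw [le_centralizer_iff, Components.layer_le_iff]
    intro K hK
    rw [le_centralizer_iff]
    rcases Components.component_eq_or_commute hL hK with rfl | h
    · exact inf_le_right
    · exact inf_le_left.trans (commutator_eq_bot_iff_le_centralizer.mp h)

end Cfsg.Agent.S1263
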