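import Cfsg.Statements.S1267
import Cfsg.Agent.Lib.Components.PLocal2

set_option autoImplicit false
open Cfsg

namespace Cfsg.Agent.S1267

open scoped commutatorElement
open Subgroup

/-- Let G be finite and P ≤ O_p(G). Then E(N_G(P)) = E(G). -/
theorem result {G : Type*} [Group G] [Finite G] (p : ℕ) [Fact p.Prime] (P : Subgroup G) (hP : P ≤ Cfsg.pCore p G) : (Cfsg.layer ↥(Subgroup.normalizer ((P : Subgroup G) : Set G))).map (Subgroup.normalizer ((P : Subgroup G) : Set G)).subtype = Cfsg.layer G := by
  set N := normalizer ((P : Subgroup G) : Set G) with hN
  set R := Cfsg.pCore p G with hR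
  have hRp : IsPGroup p ↥R := Components.sSup_isPGroup_of_normal
  have hPp : IsPGroup p ↥P := hRp.to_le hP
  have hRF : R ≤ Cfsg.fittingSubgroup G := Components.pCore_le_fitting
  apply le_antisymm
  · rw [map_le_iff_le_comap, Components.layer_le_iff]
    intro L hL
    rw [← map_le_iff_le_comap]
    haveI : (P.subgroupOf N).Normal := normal_in_normalizer
    haveI : Group.IsSolvable ↥(P.subgroupOf N) := by
      haveI := (hPp.comap_of_injective N.subtype N.subtype_injective).isNilpotent
      exact (inferInstance : Group.IsSolvable ↥(P.comap N.subtype))
    have hLP : ∀ l ∈ L, ∀ y ∈ P, Commute (l : G) y := fun l hl y hy =>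
      congrArg Subtype.val (Components.commutator_eq_bot_iff_forall.mp
        (Components.component_commute_normal_solvable (N := P.subgroupOf N) hL inferInstance)
        l hl ⟨y, le_normalizer hy⟩ hy)
    have hLRN : ∀ l ∈ L, ∀ y : ↥N, (y : G) ∈ R → Commute (l : G) y := by
      intro l hl y hy
      haveI : Group.IsSolvable ↥(R.subgroupOf N) := by
        haveI := (hRp.comap_of_injective N.subtype N.subtype_injective).isNilpotent
        exact (inferInstance : Group.IsSolvable ↥(R.comap N.subtype))
      exact congrArg Subtype.val (Components.commutator_eq_bot_iff_forall.mp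
        (Components.component_commute_normal_solvable (N := R.subgroupOf N) hL inferInstance) l hl y hy)
    have hLC : L.map N.subtype ≤ centralizer (R : Set G) := by
      haveI : (centralizer (R : Set G)).Normal := normal_centralizer
      refine Components.qs_le_centralizer_of_coprime_elements (p := p)
        ((Components.isQuasisimple_map_injective _ N.subtype_injective).mpr hL.2)
        le_normalizer_of_normal ?_
      rintro _ ⟨l, hl, rfl⟩ hlc
      rw [mem_centralizer_iff]
      intro r hr
      refine (Components.pq_lemma hPp hlc (fun y hy => hLP l hl y hy) hRp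
        le_normalizer_of_normal (le_normalizer_of_normal (mem_top _)) ?_ r hr).eq.symm
      intro r' hr' hr'P
      exact hLRN l hl ⟨r', centralizer_le_normalizer _
        (mem_centralizer_iff.mpr fun y hy => (hr'P y hy).symm.eq)⟩ hr'
    set C := centralizer (R : Set G) with hC
    haveI : C.Normal := normal_centralizer
    have hCN : C ≤ N := (centralizer_le hP).trans (centralizer_le_normalizer _)
    have hsn : (L.map N.subtype).IsSubnormal := by
      refine Subgroup.IsSubnormal.trans hLC ?_ (Components.isSubnormal_of_normal C)
      have h1 : (L.map N.subtype).subgroupOf C =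
          L.comap (inclusion hCN) := by
        ext x
        simp [mem_subgroupOf, inclusion]
        constructor
        · rintro ⟨_, hy⟩; exact hy
        · intro hy; exact ⟨hCN x.2, hy⟩
      rw [h1]
      exact hL.1.comap _
    exact Components.component_le_layer
      ⟨hsn, (Components.isQuasisimple_map_injective _ N.subtype_injective).mpr hL.2⟩
  · have hEN : Cfsg.layer G ≤ N :=
      Components.layer_le_centralizer_fitting.trans
        ((centralizer_le (hP.trans hRF)).trans (centralizer_le_normalizer _))
    rw [Components.layer_le_iff]
    exact fun L hL => Components.component_le_map_layer hL ((Components.component_le_layer hL).trans hEN)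

end Cfsg.Agent.S1267
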