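import Cfsg.Statements.S1273
import Cfsg.Agent.Lib.Components.PComponent

set_option autoImplicit false
open Cfsg

namespace Cfsg.Agent.S1273

open scoped commutatorElement
open Subgroup

/-- Let K be a p-component of the finite group X and N a normal subgroup of K whose index in K is prime to p. Then N = K. -/
theorem result {X : Type*} [Group X] [Finite X] (p : ℕ) [Fact p.Prime] (K : Subgroup X) (hK : Cfsg.IsPComponent p K) (N : Subgroup ↥K) [N.Normal] (hidx : (N.index).Coprime p) : N = ⊤ := by
  have h := Components.pGen_le_of_coprime_relIndex (p := p) (S := N.map K.subtype) (H := K) ?_ ?_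
  · rw [Components.pComponent_pGen hK] at h
    rw [← map_subtype_inj, ← MonoidHom.range_eq_map, range_subtype]
    exact le_antisymm (map_subtype_le N) h
  · rw [Subgroup.subgroupOf, comap_map_eq_self_of_injective K.subtype_injective]
    exact Components.isSubnormal_of_normal N
  · rw [Subgroup.relIndex, Subgroup.subgroupOf, comap_map_eq_self_of_injective K.subtype_injective]
    exact hidx

end Cfsg.Agent.S1273
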