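import Cfsg.Statements.S1276
import Cfsg.Agent.Lib.Components.PComponent

set_option autoImplicit false
open Cfsg

namespace Cfsg.Agent.S1276

open scoped commutatorElement
open Subgroup

/-- Let K be a 2-component of the finite group X. Then K is quasisimple if and only if ⁅K, O(K)⁆ = 1. -/
theorem result {X : Type*} [Group X] [Finite X] (K : Subgroup X) (hK : Cfsg.IsPComponent 2 K) : Cfsg.IsQuasisimple ↥K ↔ ⁅K, ((Cfsg.oddCore ↥K).map K.subtype)⁆ = ⊥ := by
  haveI : Fact (Nat.Prime 2) := ⟨Nat.prime_two⟩
  set O := Cfsg.oddCore ↥K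
  have hK0 : ∀ (h : O ≤ center ↥K), ⁅K, O.map K.subtype⁆ = ⊥ := by
    intro h
    rw [commutator_eq_bot_iff_le_centralizer]
    intro x hx
    rw [mem_centralizer_iff]
    rintro _ ⟨y, hy, rfl⟩
    exact (congrArg K.subtype (mem_center_iff.mp (h hy) ⟨x, hx⟩)).symm
  constructor
  · intro hq
    rcases Components.qs_normal_cases hq O with h | h
    · exfalso
      have h1 : (Nat.card ↥K).Coprime 2 := by
        have := Components.pPrimeCore_coprime (p := 2) (G := ↥K)
        rwa [show Cfsg.pPrimeCore 2 ↥K = ⊤ from h, card_top] at this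
      have h2 := Components.pComponent_dvd_card hK
      exact absurd (Nat.eq_one_of_dvd_coprimes h1 h2 dvd_rfl) (by norm_num)
    · exact hK0 h
  · intro h
    have hOz : O ≤ center ↥K := by
      intro y hy
      rw [mem_center_iff]
      intro x
      apply Subtype.ext
      exact (Components.commutator_eq_bot_iff_forall.mp h _ x.2 _ (mem_map_of_mem _ hy))
    haveI : Nontrivial ↥K := (nontrivial_iff_ne_bot K).mpr (Components.pComponent_ne_bot hK)
    have hperf : commutator ↥K = ⊤ :=
      (Subgroup.isPerfect_iff.mpr (Components.pComponent_commutator_eq_self hK)).commutator_eq_top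
    refine Components.isQuasisimple_of_normal_cases hperf fun N hN => ?_
    have hq := Components.pComponent_quotient_isQuasisimple hK
    haveI := hN.map (QuotientGroup.mk' (Cfsg.pPrimeCore 2 ↥K)) (QuotientGroup.mk'_surjective _)
    rcases Components.qs_normal_cases hq (N.map (QuotientGroup.mk' (Cfsg.pPrimeCore 2 ↥K))) with h' | h'
    · left
      have h1 := congrArg (Subgroup.comap (QuotientGroup.mk' (Cfsg.pPrimeCore 2 ↥K))) h'
      rw [comap_map_eq, QuotientGroup.ker_mk', comap_top] at h1
      have h2 : N ⊔ center ↥K = ⊤ := top_le_iff.mp (h1 ▸ sup_le_sup_left hOz N)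
      rw [← top_le_iff, ← hperf]
      exact hN.commutator_le_of_self_sup_commutative_eq_top h2 inferInstance
    · right
      have h1 : ⁅N, (⊤ : Subgroup ↥K)⁆ ≤ O := by
        rw [← QuotientGroup.ker_mk' O, ← Subgroup.map_eq_bot_iff, map_commutator,
          map_top_of_surjective _ (QuotientGroup.mk'_surjective O),
          commutator_top_right_eq_bot_iff_le_center]
        exact h'
      have h2 : ⁅(⊤ : Subgroup ↥K), N⁆ = ⊥ := by
        refine Components.commutator_eq_bot_of_perfect ?_ ?_
        · rw [← _root_.commutator_def, hperf]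
        · exact le_bot_iff.mp (((commutator_mono (h1.trans hOz) le_rfl)).trans_eq
            (commutator_center_left ⊤))
      exact commutator_top_left_eq_bot_iff_le_center.mp h2

end Cfsg.Agent.S1276
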