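import Cfsg.Statements.S1277
import Cfsg.Agent.Lib.Components.PComponent

set_option autoImplicit false
open Cfsg

namespace Cfsg.Agent.S1277

open scoped commutatorElement
open Subgroup

/-- For a finite group X with core O(X): the image of E(X) in X / O(X) is all of E(X / O(X)) if and only if every 2-component of X is a component, i.e. L_{2'}(X) ≤ E(X). -/
theorem result {X : Type*} [Group X] [Finite X] : (Cfsg.layer X).map (QuotientGroup.mk' (Cfsg.oddCore X)) = Cfsg.layer (X ⧸ Cfsg.oddCore X) ↔ Cfsg.pLayer 2 X ≤ Cfsg.layer X := by
  haveI : Fact (Nat.Prime 2) := ⟨Nat.prime_two⟩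
  set π := QuotientGroup.mk' (Cfsg.oddCore X)
  have himg : ∀ L : Subgroup X, Cfsg.IsComponent L →
      L.map π = ⊥ ∨ Cfsg.IsComponent (L.map π) := by
    intro L hL
    by_cases hk : L ≤ π.ker
    · exact Or.inl ((Subgroup.map_eq_bot_iff L).mpr hk)
    · exact Or.inr ⟨hL.1.map (QuotientGroup.mk'_surjective _),
        Components.isQuasisimple_map hL.2 _ hk⟩
  constructor
  · intro h
    refine sSup_le fun K hK => ?_
    by_contra hKE
    -- the image of `K` commutes with the image of every component
    have hcom : (Cfsg.layer X).map π ≤ centralizer (K.map π : Set (X ⧸ Cfsg.oddCore X)) := by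
      rw [map_le_iff_le_comap, Components.layer_le_iff]
      intro L hL
      rw [← map_le_iff_le_comap]
      rcases himg L hL with h0 | h0
      · rw [h0]; exact bot_le
      rcases Components.component_eq_or_commute h0 hK.2.1 with h1 | h1
      · have hL2 : Cfsg.IsPComponent 2 L := Components.isPComponent_of_isComponent hL fun hle => by
          refine Components.isComponent_ne_bot h0 ((Subgroup.map_eq_bot_iff L).mpr ?_)
          rw [QuotientGroup.ker_mk']
          exact hle
        exact absurd (Components.pComponent_inj hK hL2 h1.symm ▸ Components.component_le_layer hL) hKE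
      · exact commutator_eq_bot_iff_le_centralizer.mp h1
    have h2 : K.map π ≤ centralizer (K.map π : Set (X ⧸ Cfsg.oddCore X)) :=
      ((Components.component_le_layer hK.2.1).trans h.ge).trans hcom
    exact Components.isQuasisimple_not_le_centralizer hK.2.1.2 h2
  · intro h
    apply le_antisymm
    · rw [map_le_iff_le_comap, Components.layer_le_iff]
      intro L hL
      rw [← map_le_iff_le_comap]
      rcases himg L hL with h0 | h0
      · rw [h0]; exact bot_le
      · exact Components.component_le_layer h0
    · exact (Components.map_pLayer (p := 2) (G := X)).ge.trans (Subgroup.map_mono h)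

end Cfsg.Agent.S1277
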