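import Cfsg.Statements.S1278
import Cfsg.Agent.Lib.Components.PComponent

set_option autoImplicit false
open Cfsg

namespace Cfsg.Agent.S1278

open scoped commutatorElement
open Subgroup

/-- Let K ≠ L be 2-components of the finite group X. Then ⁅K, L⁆ ≤ O(K) ⊓ O(L), and if K is quasisimple then ⁅K, L⁆ = 1. -/
theorem result {X : Type*} [Group X] [Finite X] (K L : Subgroup X) (hK : Cfsg.IsPComponent 2 K) (hL : Cfsg.IsPComponent 2 L) (hne : K ≠ L) : ⁅K, L⁆ ≤ ((Cfsg.oddCore ↥K).map K.subtype) ⊓ ((Cfsg.oddCore ↥L).map L.subtype) ∧ (Cfsg.IsQuasisimple ↥K → ⁅K, L⁆ = ⊥) := by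
  haveI : Fact (Nat.Prime 2) := ⟨Nat.prime_two⟩
  have hle := Components.pComponent_commutator_le hK hL hne
  have h1 : ⁅K, L⁆ ≤ (Cfsg.oddCore ↥K).map K.subtype :=
    hle.trans ((inf_le_inf_left _ inf_le_left).trans (Components.map_subtype_core_pComponent hK).ge)
  refine ⟨le_inf h1 (hle.trans ((inf_le_inf_left _ inf_le_right).trans
    (Components.map_subtype_core_pComponent hL).ge)), fun hq => ?_⟩
  refine Components.commutator_eq_bot_of_perfect (Components.pComponent_commutator_eq_self hK) ?_
  rw [commutator_comm L K, commutator_eq_bot_iff_le_centralizer]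
  refine h1.trans ?_
  rcases Components.qs_normal_cases hq (Cfsg.oddCore ↥K) with h | h
  · exfalso
    have := Components.pPrimeCore_coprime (p := 2) (G := ↥K)
    rw [show Cfsg.pPrimeCore 2 ↥K = ⊤ from h, card_top] at this
    exact absurd (Nat.eq_one_of_dvd_coprimes this (Components.pComponent_dvd_card hK) dvd_rfl)
      (by norm_num)
  · have := Subgroup.map_mono (f := K.subtype) h
    rw [Components.map_subtype_center] at this
    exact this.trans inf_le_right

end Cfsg.Agent.S1278
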