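import Cfsg.Statements.S1279
import Cfsg.Agent.Lib.Components.PLocal2

set_option autoImplicit false
open Cfsg

namespace Cfsg.Agent.S1279

open scoped commutatorElement
open Subgroup

/-- Let A be a noncyclic elementary abelian p-subgroup of the finite group G such that C_G(a) is solvable for every non-identity a ∈ A. Then a ↦ O_{p'}(C_G(a)) is a solvable A-signalizer functor on G. -/
theorem result {G : Type*} [Group G] [Finite G] (p : ℕ) [Fact p.Prime] (A : Subgroup G) (hA : Cfsg.IsElementaryAbelian p A) (hA2 : p ^ 2 ≤ Nat.card ↥A) (hsolv : ∀ a ∈ A, a ≠ 1 → Group.IsSolvable ↥(Subgroup.centralizer ({a} : Set G))) : Cfsg.IsSolvableSignalizerFunctor p A (fun a => Cfsg.centralizerPPrimeCore p a) := by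
  have hcard : ∀ a : G, ¬ p ∣ Nat.card ↥(Cfsg.centralizerPPrimeCore p a) := by
    intro a
    rw [Cfsg.centralizerPPrimeCore, card_map_of_injective (Subgroup.subtype_injective _)]
    exact Components.pPrimeCore_not_dvd
  have hcomm : ∀ a ∈ A, ∀ b ∈ A, Commute a b := fun a ha b hb => by
    haveI := hA.1
    exact congrArg Subtype.val (mul_comm' (⟨a, ha⟩ : ↥A) ⟨b, hb⟩)
  have hpz : ∀ a ∈ A, IsPGroup p ↥(zpowers a) := by
    intro a ha x
    refine ⟨1, Subtype.ext ?_⟩
    simp only [pow_one, SubmonoidClass.coe_pow, OneMemClass.coe_one]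
    obtain ⟨n, hn⟩ := mem_zpowers_iff.mp x.2
    rw [← hn, ← zpow_natCast, ← zpow_mul, mul_comm, zpow_mul, zpow_natCast, hA.2 a ha, one_zpow]
  refine ⟨⟨fun a _ _ => map_subtype_le _, fun a _ _ => hcard a, ?_, ?_⟩, ?_⟩
  · intro a ha _ b hb x hx
    have h := le_normalizer_map (H := Cfsg.pPrimeCore p ↥(centralizer ({a} : Set G)))
      (centralizer ({a} : Set G)).subtype
    rw [normalizer_eq_top, ← MonoidHom.range_eq_map, range_subtype] at h
    exact (mem_normalizer_iff.mp (h (mem_centralizer_singleton_iff.mpr (hcomm b hb a ha).eq)) x).mp hx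
  · intro a ha _ b hb hb1
    haveI := hsolv b hb hb1
    exact Components.centralizerPPrimeCore_inf_le (hcomm a ha b hb) (hpz a ha)
      Components.pLayer_eq_bot_of_isSolvable
  · intro a ha ha1
    haveI := hsolv a ha ha1
    exact Group.isSolvable_of_isSolvable_injective
      (inclusion_injective (map_subtype_le (Cfsg.pPrimeCore p ↥(centralizer ({a} : Set G)))))
where
  mul_comm' {M : Type _} [Mul M] [IsMulCommutative M] (a b : M) : a * b = b * a :=
    IsMulCommutative.is_comm.comm a b

end Cfsg.Agent.S1279
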