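import Cfsg.Statements.S1281
import Cfsg.Agent.Lib.Components.Signalizer

set_option autoImplicit false
open Cfsg

namespace Cfsg.Agent.S1281

open scoped commutatorElement
open Subgroup

/-- Let θ be a solvable A-signalizer functor on the finite group G (A a noncyclic elementary abelian p-subgroup) and N a normal subgroup of order prime to p. Then for all non-identity a, b ∈ A, the image of θ a in G / N meets the centralizer of the image of b inside the image of θ b. -/
theorem result {G : Type*} [Group G] [Finite G] (p : ℕ) [Fact p.Prime] (A : Subgroup G) (hA : Cfsg.IsElementaryAbelian p A) (hA2 : p ^ 2 ≤ Nat.card ↥A) (θ : G → Subgroup G) (hθ : Cfsg.IsSolvableSignalizerFunctor p A θ) (N : Subgroup G) [N.Normal] (hN : ¬ p ∣ Nat.card ↥N) (a b : G) (ha : a ∈ A) (ha1 : a ≠ 1) (hb : b ∈ A) (hb1 : b ≠ 1) : (θ a).map (QuotientGroup.mk' N) ⊓ Subgroup.centralizer {QuotientGroup.mk' N b} ≤ (θ b).map (QuotientGroup.mk' N) := by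
  set π := QuotientGroup.mk' N
  rintro y ⟨⟨x, hx, rfl⟩, hy⟩
  have hz : zpowers b ≤ A := zpowers_le.mpr hb
  have hcomm : π x * π b = π b * π x := mem_centralizer_singleton_iff.mp hy
  have hn : zpowers b ≤ normalizer ((θ a ⊓ N : Subgroup G) : Set G) := fun w hw => by
    apply Components.mem_normalizer_of_map_conj_eq
    rw [Subgroup.map_inf _ _ _ (MulAut.conj w).injective,
      Components.map_conj_eq_of_mem_normalizer (Components.sf_le_centralizer hA hθ.1 ha ha1 (hz hw)),
      Components.map_conj_eq_of_mem_normalizer (le_normalizer_of_normal (mem_top w))]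
  obtain ⟨c, hc, hcx⟩ := Basics.exists_inf_centralizer_mem_coset (zpowers b) (θ a) (θ a ⊓ N)
    inf_le_left (fun w hw => by
      apply Components.mem_normalizer_of_map_conj_eq
      rw [Subgroup.map_inf _ _ _ (MulAut.conj w).injective,
        Components.map_conj_eq_of_mem_normalizer (le_normalizer hw),
        Components.map_conj_eq_of_mem_normalizer (le_normalizer_of_normal (mem_top w))])
    hn (Components.coprime_of_not_dvd ((Components.elementary_isPGroup hA).to_le hz) (hθ.1.2.1 a ha ha1))
    (Or.inr (hθ.2 a ha ha1)) x hx (fun w hw => mem_inf.mpr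
      ⟨(θ a).mul_mem (hθ.1.2.2.1 a ha ha1 w (hz hw) x hx) ((θ a).inv_mem hx), by
        rw [← QuotientGroup.eq_one_iff (N := N)]
        change π (w * x * w⁻¹ * x⁻¹) = 1
        obtain ⟨n, rfl⟩ := mem_zpowers_iff.mp hw
        simp only [map_mul, map_inv, map_zpow]
        rw [(Commute.zpow_left (show Commute (π b) (π x) from hcomm.symm) n).eq]
        group⟩)
  refine ⟨c, hθ.1.2.2.2 a ha ha1 b hb hb1 (mem_inf.mpr ⟨hc.1, ?_⟩), ?_⟩
  · rw [mem_centralizer_singleton_iff]
    exact (mem_centralizer_iff.mp hc.2 b (mem_zpowers b)).symm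
  · exact (QuotientGroup.eq.mpr hcx.2).symm

end Cfsg.Agent.S1281
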