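import Cfsg.Statements.S1284
import Cfsg.Agent.Lib.Components.SigTransitivity

set_option autoImplicit false
open Cfsg

namespace Cfsg.Agent.S1284

open scoped commutatorElement Pointwise
open Subgroup

/-- Let θ be a solvable A-signalizer functor on the finite group G, A elementary abelian of rank at least 3, q a prime dividing some |θ a|, and Q maximal among the q-subgroups in the family of θ. Then (a) for every member H of the family, some c in the intersection of the θ a (a ∈ A non-identity) makes c Q c⁻¹ ∩ H a Sylow q-subgroup of H; and (b) for every nontrivial subgroup B ≤ A, C_Q(B) is a Sylow q-subgroup of the intersection of the θ b over the non-identity b ∈ B. -/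
theorem result {G : Type*} [Group G] [Finite G] (p : ℕ) [Fact p.Prime] (A : Subgroup G) (hA : Cfsg.IsElementaryAbelian p A) (hA3 : p ^ 3 ≤ Nat.card ↥A) (θ : G → Subgroup G) (hθ : Cfsg.IsSolvableSignalizerFunctor p A θ) (q : ℕ) [Fact q.Prime] (hq : ∃ a ∈ A, a ≠ 1 ∧ q ∣ Nat.card ↥(θ a)) (Q : Subgroup G) (hQW : Q ∈ Cfsg.signalizerFamily p A θ) (hQq : IsPGroup q ↥Q) (hQmax : ∀ R ∈ Cfsg.signalizerFamily p A θ, IsPGroup q ↥R → Q ≤ R → R = Q) : (∀ H : Subgroup G, H ∈ Cfsg.signalizerFamily p A θ → ∃ c ∈ Cfsg.signalizerInf A θ, ∃ S : Sylow q ↥H, (S : Subgroup ↥H).map H.subtype = Q.map (MulAut.conj c).toMonoidHom ⊓ H) ∧ (∀ B : Subgroup G, B ≤ A → B ≠ ⊥ → ∃ S : Sylow q ↥(Cfsg.signalizerInf B θ), (S : Subgroup ↥(Cfsg.signalizerInf B θ)).map (Cfsg.signalizerInf B θ).subtype = Q ⊓ Subgroup.centralizer (B : Set G)) := by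
  have key : ∀ H : Subgroup G, H ∈ Cfsg.signalizerFamily p A θ →
      ∃ c ∈ Cfsg.signalizerInf A θ,
        Basics.IsSylowIn q H (Q.map (MulAut.conj c).toMonoidHom ⊓ H) := by
    intro H hH
    obtain ⟨R, hR, hRS⟩ := Components.exists_maxQMember_inf_sylow (q := q) hA hH
    obtain ⟨c, hc, hcR⟩ := Components.signalizer_transitivity hA hA3 hθ ⟨hQW, hQq, hQmax⟩ hR
    exact ⟨c, hc, hcR ▸ hRS⟩
  refine ⟨fun H hH => ?_, fun B hB hB1 => ?_⟩
  · obtain ⟨c, hc, hS⟩ := key H hH
    exact ⟨c, hc, hS.exists_sylow⟩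
  · set H := Cfsg.signalizerInf B θ
    obtain ⟨c, hc, hS⟩ := key H (Components.signalizerInf_mem_family hA hθ hB hB1)
    have hcH : c ∈ H := Components.le_signalizerInf_iff.mpr
      (fun b hb hb1 => Components.signalizerInf_le (hB hb) hb1) hc
    have h1 := hS.conj_smul (g := c⁻¹) (le_normalizer (inv_mem hcH))
    have h2 : MulAut.conj c⁻¹ • (Q.map (MulAut.conj c).toMonoidHom ⊓ H) =
        Q ⊓ centralizer (B : Set G) := by
      change (Q.map (MulAut.conj c).toMonoidHom ⊓ H).map (MulAut.conj c⁻¹).toMonoidHom = _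
      rw [Subgroup.map_inf _ _ _ (MulAut.conj c⁻¹).injective, Components.map_conj_map_conj',
        inv_mul_cancel, Components.map_conj_one',
        Components.map_conj_eq_of_mem_normalizer (le_normalizer (inv_mem hcH))]
      exact le_antisymm (inf_le_inf_left _ (Components.signalizerInf_le_centralizer hθ.1 hB hB1))
        (le_inf inf_le_left (Components.mem_family_inf_centralizer_le hQW hB))
    rw [h2] at h1
    exact h1.exists_sylow

end Cfsg.Agent.S1284
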