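import Cfsg.Statements.S1285
import Cfsg.Agent.Lib.Components.SigTransitivity

set_option autoImplicit false
open Cfsg

namespace Cfsg.Agent.S1285

open scoped commutatorElement
open Subgroup

/-- Let θ be a solvable A-signalizer functor on the finite group G with A elementary abelian of rank at least 3, and suppose that for some prime q every θ a (a ∈ A non-identity) is a q-group. Then θ is complete. -/
theorem result {G : Type*} [Group G] [Finite G] (p : ℕ) [Fact p.Prime] (A : Subgroup G) (hA : Cfsg.IsElementaryAbelian p A) (hA3 : p ^ 3 ≤ Nat.card ↥A) (θ : G → Subgroup G) (hθ : Cfsg.IsSolvableSignalizerFunctor p A θ) (q : ℕ) [Fact q.Prime] (hq : ∀ a ∈ A, a ≠ 1 → IsPGroup q ↥(θ a)) : Cfsg.IsCompleteSignalizerFunctor p A θ := by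
  have hA1 : A ≠ ⊥ := fun h => by
    rw [h, card_bot] at hA3
    exact absurd (Nat.one_lt_pow (n := 3) (by norm_num) (Fact.out : p.Prime).one_lt) (not_lt.mpr hA3)
  refine ⟨hθ.1, ?_⟩
  obtain ⟨Q, hQ, -⟩ := Components.exists_maxQMember_ge (q := q)
    (Components.bot_mem_family (p := p) (A := A) (θ := θ)) (IsPGroup.of_bot)
  refine ⟨Q, fun b hb x hx => hQ.1.2.2.1 b hb x hx, hQ.1.2.1, fun a ha ha1 => ?_⟩
  refine le_antisymm (hQ.1.2.2.2 a ha ha1) (le_inf ?_ (hθ.1.1 a ha ha1))
  obtain ⟨R, hR, hRle⟩ := Components.exists_maxQMember_ge (Components.theta_mem_family hA hθ ha ha1)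
    (hq a ha ha1)
  obtain ⟨c, hc, hcR⟩ := Components.signalizer_transitivity hA hA3 hθ hQ hR
  refine hRle.trans (le_of_eq ?_)
  -- the common intersection lies in `Q`
  set D := Cfsg.signalizerInf A θ
  have hDq : IsPGroup q ↥D := (hq a ha ha1).to_le (Components.signalizerInf_le ha ha1)
  obtain ⟨T, hT, hTD⟩ := Components.exists_maxQMember_ge
    (Components.signalizerInf_mem_family hA hθ le_rfl hA1) hDq
  obtain ⟨d, hd, hdT⟩ := Components.signalizer_transitivity hA hA3 hθ hT hQ
  have hDQ : D ≤ Q := by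
    have := Subgroup.map_mono (f := (MulAut.conj d).toMonoidHom) hTD
    rwa [hdT, Components.map_conj_eq_of_mem_normalizer (le_normalizer hd)] at this
  rw [← hcR, Components.map_conj_eq_of_mem_normalizer (le_normalizer (hDQ hc))]

end Cfsg.Agent.S1285
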