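import Cfsg.Statements.S1286
import Cfsg.Agent.Lib.Components.Signalizer

set_option autoImplicit false
open Cfsg

namespace Cfsg.Agent.S1286

open scoped commutatorElement
open Subgroup

local notation "X₅" => Equiv.Perm (Fin 5)

def a₅ : X₅ := Equiv.swap 0 1
def b₅ : X₅ := Equiv.swap 3 4
def x₅ : X₅ := Equiv.swap 2 3 * Equiv.swap 3 4
def y₅ : X₅ := Equiv.swap 0 1 * Equiv.swap 1 2

theorem facts5 : a₅ * a₅ = 1 ∧ b₅ * b₅ = 1 ∧ a₅ * b₅ = b₅ * a₅ ∧ a₅ ≠ 1 ∧ b₅ ≠ 1 ∧ a₅ ≠ b₅ ∧
    x₅ ^ 3 = 1 ∧ x₅ ≠ 1 ∧ y₅ ^ 3 = 1 ∧ y₅ ≠ 1 ∧ (x₅ * y₅) ≠ (y₅ * x₅) ∧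
    a₅ * x₅ = x₅ * a₅ ∧ b₅ * y₅ = y₅ * b₅ ∧
    b₅ * x₅ * b₅ = x₅⁻¹ ∧ a₅ * y₅ * a₅ = y₅⁻¹ ∧
    (x₅ * y₅) ^ 5 = 1 ∧ (x₅ * y₅⁻¹) ^ 5 = 1 ∧ (x₅ * y₅ * x₅ * y₅⁻¹ * x₅⁻¹ * y₅⁻¹) ^ 30 = 1 := by
  decide +kernel

/-- There exist a finite group X, an elementary abelian subgroup A of order 4 and a solvable A-signalizer functor θ on X for the prime 2 which is not complete. -/
theorem result : ∃ (X : Type) (_ : Group X) (_ : Finite X) (A : Subgroup X) (θ : X → Subgroup X), Cfsg.IsElementaryAbelian 2 A ∧ Nat.card ↥A = 4 ∧ Cfsg.IsSolvableSignalizerFunctor 2 A θ ∧ ¬ Cfsg.IsCompleteSignalizerFunctor 2 A θ := by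
  obtain ⟨haa, hbb, hab, ha1, hb1, hne, hx3, hx1, hy3, hy1, hxy, hax, hby, hbxb, haya, -⟩ := facts5
  let A : Subgroup X₅ :=
    { carrier := {1, a₅, b₅, a₅ * b₅}
      one_mem' := by simp
      mul_mem' := by decide +kernel
      inv_mem' := by decide +kernel }
  haveI : Fact (Nat.Prime 3) := ⟨Nat.prime_three⟩
  have hA4 : Nat.card ↥A = 4 := by
    rw [show Nat.card ↥A = Nat.card ({1, a₅, b₅, a₅ * b₅} : Set X₅) from rfl,
      Nat.card_coe_set_eq]
    rw [Set.ncard_eq_toFinset_card']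
    decide +kernel
  classical
  let θ : X₅ → Subgroup X₅ := fun c =>
    if c = a₅ then zpowers x₅ else if c = b₅ then zpowers y₅ else ⊥
  have hmem : ∀ c ∈ A, c = 1 ∨ c = a₅ ∨ c = b₅ ∨ c = a₅ * b₅ := fun c hc => hc
  have hzp : ∀ (z w : X₅), z ^ 3 = 1 → z ≠ 1 → w ∈ zpowers z → w = 1 ∨ w = z ∨ w = z⁻¹ := by
    intro z w hz3 hz1 hw
    have ho : orderOf z = 3 := orderOf_eq_prime hz3 hz1
    obtain ⟨n, rfl⟩ := mem_zpowers_iff.mp hw
    have : n % 3 = 0 ∨ n % 3 = 1 ∨ n % 3 = 2 := by omega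
    rw [← zpow_mod_orderOf, ho]
    rcases this with h | h | h <;> simp only [Nat.cast_ofNat, h]
    · simp
    · simp
    · right; right
      rw [eq_inv_iff_mul_eq_one, ← zpow_natCast] at *
      rw [← hz3]; group
  have hθab : θ (a₅ * b₅) = ⊥ := by
    have h1 : a₅ * b₅ ≠ a₅ := fun h => hb1 (mul_left_cancel (a := a₅) (by rw [h, mul_one]))
    have h2 : a₅ * b₅ ≠ b₅ := fun h => ha1 (mul_right_cancel (b := b₅) (by rw [h, one_mul]))
    simp only [θ, if_neg h1, if_neg h2]
  have hθa : θ a₅ = zpowers x₅ := by simp [θ]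
  have hθb : θ b₅ = zpowers y₅ := by simp [θ, hne.symm]
  have cardx : Nat.card ↥(zpowers x₅) = 3 := by rw [Nat.card_zpowers, orderOf_eq_prime hx3 hx1]
  have cardy : Nat.card ↥(zpowers y₅) = 3 := by rw [Nat.card_zpowers, orderOf_eq_prime hy3 hy1]
  refine ⟨X₅, inferInstance, inferInstance, A, θ, ⟨⟨⟨fun u v => ?_⟩⟩, fun u hu => ?_⟩, hA4,
    ⟨⟨?_, ?_, ?_, ?_⟩, ?_⟩, ?_⟩
  · apply Subtype.ext
    rcases hmem _ u.2 with h | h | h | h <;> rcases hmem _ v.2 with h' | h' | h' | h' <;>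
      simp only [Subgroup.coe_mul, h, h'] <;> decide +kernel
  · rcases hmem _ hu with h | h | h | h <;> rw [h] <;> decide +kernel
  · intro c hc hc1
    rcases hmem _ hc with h | h | h | h <;> subst h
    · exact absurd rfl hc1
    · rw [hθa, zpowers_le, mem_centralizer_singleton_iff]; exact hax.symm
    · rw [hθb, zpowers_le, mem_centralizer_singleton_iff]; exact hby.symm
    · rw [hθab]; exact bot_le
  · intro c hc hc1
    rcases hmem _ hc with h | h | h | h <;> subst h
    · exact absurd rfl hc1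
    · rw [hθa, cardx]; norm_num
    · rw [hθb, cardy]; norm_num
    · rw [hθab, card_bot]; norm_num
  · intro c hc hc1 d hd w hw
    rcases hmem _ hc with h | h | h | h <;> subst h
    · exact absurd rfl hc1
    · rw [hθa] at hw ⊢
      rcases hzp _ _ hx3 hx1 hw with h | h | h <;> subst h <;>
        rcases hmem _ hd with h | h | h | h <;> subst h <;>
        first
          | (simp only [mul_one, mul_inv_cancel]; exact one_mem _)
          | (simp only [one_mul, inv_one, mul_one]; exact hw)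
          | (refine mem_zpowers_iff.mpr ⟨1, ?_⟩; decide +kernel)
          | (refine mem_zpowers_iff.mpr ⟨-1, ?_⟩; decide +kernel)
    · rw [hθb] at hw ⊢
      rcases hzp _ _ hy3 hy1 hw with h | h | h <;> subst h <;>
        rcases hmem _ hd with h | h | h | h <;> subst h <;>
        first
          | (simp only [mul_one, mul_inv_cancel]; exact one_mem _)
          | (simp only [one_mul, inv_one, mul_one]; exact hw)
          | (refine mem_zpowers_iff.mpr ⟨1, ?_⟩; decide +kernel)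
          | (refine mem_zpowers_iff.mpr ⟨-1, ?_⟩; decide +kernel)
    · rw [hθab, mem_bot] at hw ⊢
      simp [hw]
  · intro c hc hc1 d hd hd1
    rintro w ⟨hw, hwd⟩
    have hwd' : w * d = d * w := mem_centralizer_singleton_iff.mp hwd
    rcases hmem _ hc with h | h | h | h <;> subst h
    · exact absurd rfl hc1
    · rw [hθa] at hw
      rcases hmem _ hd with h | h | h | h <;> subst h
      · exact absurd rfl hd1
      · rw [hθa]; exact hw
      all_goals
        rcases hzp _ _ hx3 hx1 hw with h | h | h <;> subst h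
        · exact one_mem _
        all_goals exact absurd hwd' (by decide +kernel)
    · rw [hθb] at hw
      rcases hmem _ hd with h | h | h | h <;> subst h
      · exact absurd rfl hd1
      swap
      · rw [hθb]; exact hw
      all_goals
        rcases hzp _ _ hy3 hy1 hw with h | h | h <;> subst h
        · exact one_mem _
        all_goals exact absurd hwd' (by decide +kernel)
    · rw [hθab] at hw
      change w ∈ (⊥ : Subgroup X₅) at hw
      rw [mem_bot] at hw
      rw [hw]; exact one_mem _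
  · intro c hc hc1
    rcases hmem _ hc with h | h | h | h <;> subst h
    · exact absurd rfl hc1
    · rw [hθa]; exact isSolvable_of_comm fun u v => Subtype.ext (setLike_mul_comm u.2 v.2)
    · rw [hθb]; exact isSolvable_of_comm fun u v => Subtype.ext (setLike_mul_comm u.2 v.2)
    · rw [hθab]; infer_instance
  · rintro ⟨-, W, -, hW2, hW⟩
    have haA : a₅ ∈ A := Or.inr (Or.inl rfl)
    have hbA : b₅ ∈ A := Or.inr (Or.inr (Or.inl rfl))
    have hxW : x₅ ∈ W := by
      have := (hW a₅ haA ha1).ge (hθa ▸ mem_zpowers x₅)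
      exact this.1
    have hyW : y₅ ∈ W := by
      have := (hW b₅ hbA hb1).ge (hθb ▸ mem_zpowers y₅)
      exact this.1
    -- an element of order two in the subgroup generated by `x₅` and `y₅`
    obtain ⟨w, hw, hwo⟩ : ∃ w ∈ W, orderOf w = 2 := by
      refine ⟨x₅ * y₅ * x₅⁻¹ * y₅, ?_, orderOf_eq_prime (by decide +kernel) (by decide +kernel)⟩
      exact W.mul_mem (W.mul_mem (W.mul_mem hxW hyW) (W.inv_mem hxW)) hyW
    refine hW2 ?_
    rw [← hwo, ← Subgroup.orderOf_mk w hw]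
    exact orderOf_dvd_natCard _

end Cfsg.Agent.S1286
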