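import Cfsg.Statements.S1289
import Cfsg.Agent.Lib.Components.PComponent

set_option autoImplicit false
open Cfsg

namespace Cfsg.Agent.S1289

open scoped commutatorElement
open Subgroup

/-- A p-component K of the finite group X is subnormal, perfect, of order divisible by p, and minimal among the subnormal perfect subgroups of X of order divisible by p. -/
theorem result {X : Type*} [Group X] [Finite X] (p : ℕ) [Fact p.Prime] (K : Subgroup X) (hK : Cfsg.IsPComponent p K) : K.IsSubnormal ∧ ⁅K, K⁆ = K ∧ p ∣ Nat.card ↥K ∧ ∀ H : Subgroup X, H ≤ K → H.IsSubnormal → ⁅H, H⁆ = H → p ∣ Nat.card ↥H → H = K := by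
  refine ⟨hK.1, Components.pComponent_commutator_eq_self hK, Components.pComponent_dvd_card hK,
    fun H hle hH hperf hd => ?_⟩
  set π := QuotientGroup.mk' (Cfsg.pPrimeCore p X)
  have hsn : (H.map π).IsSubnormal := hH.map (QuotientGroup.mk'_surjective _)
  rcases Components.qs_subnormal_cases hK.2.1.2 (hsn.subgroupOf (K := K.map π)) with h | h
  · exact hK.2.2 H hH hle (le_antisymm (Subgroup.map_mono hle) (subgroupOf_eq_top.mp h))
  · exfalso
    have h1 := Subgroup.map_mono (f := (K.map π).subtype) h
    rw [map_subgroupOf_eq_of_le (Subgroup.map_mono hle), Components.map_subtype_center] at h1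
    have h2 : H.map π = ⊥ := by
      conv_lhs => rw [← hperf]
      rw [map_commutator, commutator_eq_bot_iff_le_centralizer]
      exact (h1.trans inf_le_right).trans (centralizer_le (Subgroup.map_mono hle))
    rw [Subgroup.map_eq_bot_iff, QuotientGroup.ker_mk'] at h2
    exact Components.pPrimeCore_not_dvd (hd.trans (card_dvd_of_le h2))

end Cfsg.Agent.S1289
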