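import Cfsg.Statements.S1292
import Cfsg.Agent.Lib.Components.PLocal

set_option autoImplicit false
open Cfsg

namespace Cfsg.Agent.S1292

open scoped commutatorElement
open Subgroup

/-- Let G be a finite group such that F*(C_G(t)) = O_2(C_G(t)) for every involution t. Then F*(N_G(T)) = O_2(N_G(T)) for every nontrivial 2-subgroup T of G. -/
theorem result {G : Type*} [Group G] [Finite G] (h : ∀ t : G, orderOf t = 2 → Cfsg.generalizedFittingSubgroup ↥(Subgroup.centralizer ({t} : Set G)) = Cfsg.pCore 2 ↥(Subgroup.centralizer ({t} : Set G))) (T : Subgroup G) (hT : IsPGroup 2 ↥T) (hT1 : T ≠ ⊥) : Cfsg.generalizedFittingSubgroup ↥(Subgroup.normalizer (T : Set G)) = Cfsg.pCore 2 ↥(Subgroup.normalizer (T : Set G)) := by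
  haveI : Fact (Nat.Prime 2) := ⟨Nat.prime_two⟩
  haveI : Nontrivial ↥T := (nontrivial_iff_ne_bot T).mpr hT1
  haveI := hT.center_nontrivial
  obtain ⟨⟨z, hz⟩, hzc⟩ := exists_ne (1 : ↥(center ↥T))
  obtain ⟨k, hk⟩ := (hT.to_subgroup (center ↥T)).exists_card_eq
  have hd : 2 ∣ Nat.card ↥(center ↥T) := by
    rw [hk]
    rcases Nat.eq_zero_or_pos k with rfl | hk0
    · exact absurd (Finite.one_lt_card (α := ↥(center ↥T))) (by simp [hk])
    · exact dvd_pow_self 2 hk0.ne'
  obtain ⟨s, hs⟩ := exists_prime_orderOf_dvd_card' 2 hd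
  set t : G := ((s : ↥T) : G) with ht'
  have ht : orderOf t = 2 := by rw [ht', Subgroup.orderOf_coe, Subgroup.orderOf_coe, hs]
  have hcomm : ∀ y ∈ T, y * t = t * y := fun y hy =>
    congrArg Subtype.val (mem_center_iff.mp s.2 ⟨y, hy⟩)
  refine Components.fStar_eq_pCore_iff.mpr
    (Components.charP_normalizer_of_charP (M := centralizer ({t} : Set G)) hT ?_ ?_
      (Components.fStar_eq_pCore_iff.mp (h t ht)))
  · intro y hy
    rw [mem_centralizer_singleton_iff]
    exact hcomm y hy
  · intro y hy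
    rw [mem_centralizer_singleton_iff]
    exact (mem_centralizer_iff.mp hy t (s : ↥T).2).symm

end Cfsg.Agent.S1292
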