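import Cfsg.Statements.S1300
import Cfsg.Agent.Lib.Components.Subnormal

set_option autoImplicit false
open Cfsg

namespace Cfsg.Agent.S1300

open scoped commutatorElement
open Subgroup

/-- For a finite group G, balance in the sense of commuting involutions is the same as 1-balance for the prime 2. -/
theorem result {G : Type*} [Group G] [Finite G] : Cfsg.IsBalanced G ↔ Cfsg.IsKBalanced 2 1 G := by
  constructor
  · intro h A hA hcard b hb hcomm
    have hAne : A ≠ ⊥ := by
      intro h0
      rw [h0, card_bot] at hcard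
      norm_num at hcard
    obtain ⟨a, haA, ha1⟩ := (ne_bot_iff_exists_ne_one.mp hAne)
      |> fun ⟨x, hx⟩ => (⟨x.1, x.2, fun hh => hx (Subtype.ext hh)⟩ : ∃ a, a ∈ A ∧ a ≠ 1)
    have ha2 : orderOf a = 2 := orderOf_eq_prime (hA.2 a haA) ha1
    have h1 : Cfsg.signalizerDelta 2 A ≤ Cfsg.centralizerPPrimeCore 2 a :=
      iInf_le (fun a : {a : G // a ∈ A ∧ a ≠ 1} => Cfsg.centralizerPPrimeCore 2 (a : G)) ⟨a, haA, ha1⟩
    exact (inf_le_inf_right _ h1).trans ((h a b ha2 hb (hcomm a haA)).le.trans inf_le_left)
  · intro h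
    have key : ∀ x y : G, orderOf x = 2 → orderOf y = 2 → x * y = y * x →
        Cfsg.centralizerPPrimeCore 2 x ⊓ Subgroup.centralizer {y} ≤
          Cfsg.centralizerPPrimeCore 2 y := by
      intro x y hx hy hxy
      haveI : IsMulCommutative ↥(zpowers x) := inferInstance
      have hA : Cfsg.IsElementaryAbelian 2 (zpowers x) := by
        refine ⟨inferInstance, fun a ha => ?_⟩
        obtain ⟨n, rfl⟩ := mem_zpowers_iff.mp ha
        rw [← zpow_natCast, ← zpow_mul, mul_comm, zpow_mul, zpow_natCast, ← hx, pow_orderOf_eq_one,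
          one_zpow]
      refine le_trans (inf_le_inf_right _ ?_) (h _ hA (by rw [Nat.card_zpowers, hx, pow_one]) y hy ?_)
      · refine le_iInf fun ⟨a, ha, ha1⟩ => ?_
        obtain ⟨n, rfl⟩ := mem_zpowers_iff.mp ha
        rcases Int.emod_two_eq_zero_or_one n with h0 | h0
        · exact absurd (by rw [← zpow_mod_orderOf, hx]; simp [h0]) ha1
        · have : x ^ n = x := by rw [← zpow_mod_orderOf, hx]; simp [h0]
          simp [this]
      · intro a ha
        obtain ⟨n, rfl⟩ := mem_zpowers_iff.mp ha
        exact ((Commute.zpow_left hxy n)).eq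
    intro x y hx hy hxy
    apply le_antisymm <;> refine le_inf ?_ ?_
    · exact key x y hx hy hxy
    · refine inf_le_left.trans ?_
      exact map_subtype_le _
    · exact key y x hy hx hxy.symm
    · refine inf_le_left.trans ?_
      exact map_subtype_le _

end Cfsg.Agent.S1300
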