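import Cfsg.Statements.S1303
import Cfsg.Agent.Lib.Components.PPrimeCore

set_option autoImplicit false
open Cfsg

namespace Cfsg.Agent.S1303

open scoped commutatorElement
open Subgroup

local notation "S" => Matrix.SpecialLinearGroup (Fin 2) (ZMod 3)

theorem facts :
    (∀ x y : S, x ^ 4 = 1 → y ^ 4 = 1 → (x * y) ^ 4 = 1) ∧
    (∀ t : S, t ^ 2 = 1 → ∀ x : S, x * t = t * x) ∧
    (∀ g : S, (∀ x : S, x ^ 4 = 1 → x * g = g * x) → g ^ 4 = 1) ∧
    (∀ g : S, g ^ 4 = 1 ∨ ∃ x : S, ⁅g, x⁆ ^ 4 = 1 ∧ ⁅g, x⁆ ≠ 1) := by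
  decide +kernel

def u : S := ⟨!![1, 1; 0, 1], by decide⟩

theorem card_eq_three : orderOf u = 3 :=
  haveI : Fact (Nat.Prime 3) := ⟨Nat.prime_three⟩
  orderOf_eq_prime (by decide +kernel) (by decide +kernel)

/-- The group X = SL(2, 3): it is 2-constrained, O_{2'}(X) = 1, its centre A = Z(X) contains every involution of X = C_X(A), and X has a subgroup of order 3 (normalized by A) not contained in O_{2'}(X). -/
theorem result : Cfsg.IsPConstrained 2 (Matrix.SpecialLinearGroup (Fin 2) (ZMod 3)) ∧ Cfsg.pPrimeCore 2 (Matrix.SpecialLinearGroup (Fin 2) (ZMod 3)) = ⊥ ∧ (∀ t : Matrix.SpecialLinearGroup (Fin 2) (ZMod 3), orderOf t = 2 → t ∈ Subgroup.center (Matrix.SpecialLinearGroup (Fin 2) (ZMod 3))) ∧ ∃ Q : Subgroup (Matrix.SpecialLinearGroup (Fin 2) (ZMod 3)), Nat.card ↥Q = 3 ∧ ¬ (Q ≤ Cfsg.pPrimeCore 2 (Matrix.SpecialLinearGroup (Fin 2) (ZMod 3))) := by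
  haveI : Fact (Nat.Prime 2) := ⟨Nat.prime_two⟩
  haveI : Fact (Nat.Prime 3) := ⟨Nat.prime_three⟩
  obtain ⟨hmul, hcen, hC, hcomm⟩ := facts
  let Q8 : Subgroup S :=
    { carrier := {x | x ^ 4 = 1}
      one_mem' := one_pow 4
      mul_mem' := fun {x y} hx hy => hmul x y hx hy
      inv_mem' := fun {x} hx => by
        change x⁻¹ ^ 4 = 1
        rw [inv_pow, show x ^ 4 = 1 from hx, inv_one] }
  have hQ2 : IsPGroup 2 ↥Q8 := fun x => ⟨2, Subtype.ext (by simp only [SubmonoidClass.coe_pow, OneMemClass.coe_one]; exact x.2)⟩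
  haveI hQn : Q8.Normal := ⟨fun x hx g => by
    change (g * x * g⁻¹) ^ 4 = 1
    rw [conj_pow, show x ^ 4 = 1 from hx, mul_one, mul_inv_cancel]⟩
  have hO : Cfsg.pPrimeCore 2 S = ⊥ := by
    rw [eq_bot_iff]
    intro g hg
    have hodd : ∀ y ∈ Cfsg.pPrimeCore 2 S, y ^ 4 = 1 → y = 1 := by
      intro y hy h4
      have h1 : (⟨y, hy⟩ : ↥(Cfsg.pPrimeCore 2 S)) = 1 := by
        refine Components.eq_one_of_pow_prime_pow_of_coprime (p := 2) (k := 2)
          (Components.pPrimeCore_coprime (p := 2) (G := S)) (Subtype.ext (by simpa using h4))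
          pow_card_eq_one'
      exact congrArg Subtype.val h1
    rw [mem_bot]
    rcases hcomm g with h | ⟨x, hx, hx1⟩
    · exact hodd g hg h
    · refine absurd (hodd _ ?_ hx) hx1
      exact commutator_le_left _ ⊤ (commutator_mem_commutator hg (mem_top x))
  have hle : Q8 ≤ Cfsg.pPrimePCore 2 S := by
    rw [Cfsg.pPrimePCore, ← map_le_iff_le_comap]
    exact le_sSup ⟨hQn.map _ (QuotientGroup.mk'_surjective _), hQ2.map _⟩
  refine ⟨fun P g hg => hle (hC g fun x hx => ?_), hO, fun t ht => ?_, ?_⟩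
  · refine mem_centralizer_iff.mp hg x ?_
    refine ⟨⟨x, hle hx⟩, ?_, rfl⟩
    haveI : (Q8.subgroupOf (Cfsg.pPrimePCore 2 S)).Normal := inferInstance
    have h1 := P.3 (P.2.to_sup_of_normal_right
      (K := Q8.subgroupOf (Cfsg.pPrimePCore 2 S))
      (hQ2.comap_of_injective _ (Subgroup.subtype_injective _))) le_sup_left
    have h2 : (⟨x, hle hx⟩ : ↥(Cfsg.pPrimePCore 2 S)) ∈
        (P : Subgroup ↥(Cfsg.pPrimePCore 2 S)) ⊔ Q8.subgroupOf (Cfsg.pPrimePCore 2 S) :=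
      mem_sup_right hx
    rw [h1] at h2
    exact h2
  · have h2 := pow_orderOf_eq_one t
    rw [ht] at h2
    exact mem_center_iff.mpr (hcen t h2)
  · refine ⟨zpowers u, by rw [Nat.card_zpowers, card_eq_three], ?_⟩
    rw [hO, le_bot_iff, zpowers_eq_bot, ← orderOf_eq_one_iff, card_eq_three]
    norm_num

end Cfsg.Agent.S1303
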