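import Cfsg.Statements.S1775
import Cfsg.Agent.Lib.Components.CoreBalance

set_option autoImplicit false
open Cfsg

namespace Cfsg.Agent.S1775

open scoped commutatorElement

/-- The image of a 2-component under a map with odd kernel is a component if it is subnormal and
centralizes the odd core. -/
theorem isComponent_image {J : Type*} [Group J] [Finite J] {Γ : Type*} [Group Γ] [Finite Γ]
    (hq : Cfsg.IsQuasisimple (J ⧸ Cfsg.pPrimeCore 2 J)) (hperf : commutator J = ⊤) (φ : J →* Γ)
    (hsn : φ.range.IsSubnormal) (hne : φ.range ≠ ⊥)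
    (hc : φ.range ≤ Subgroup.centralizer (Cfsg.pPrimeCore 2 Γ : Set Γ)) :
    Cfsg.IsComponent φ.range := by
  haveI : Fact (Nat.Prime 2) := ⟨Nat.prime_two⟩
  set O := Cfsg.pPrimeCore 2 J with hO
  set ψ := φ.rangeRestrict with hψ
  have hψs : Function.Surjective ψ := φ.rangeRestrict_surjective
  -- the image of the core is central
  have hcen : O.map ψ ≤ Subgroup.center ↥φ.range := by
    have hOΓ : (O.map ψ).map φ.range.subtype ≤ Cfsg.pPrimeCore 2 Γ := by
      refine Components.subnormal_coprime_le_pPrimeCore ?_ ?_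
      · exact (Components.isSubnormal_map_subtype_iff hsn _).mpr ((Components.isSubnormal_of_normal O).map hψs)
      · exact (Components.pPrimeCore_coprime.coprime_dvd_left (Subgroup.card_map_dvd _ _)).coprime_dvd_left
          (Subgroup.card_map_dvd _ _)
    intro z hz
    rw [Subgroup.mem_center_iff]
    intro g
    exact Subtype.ext (Subgroup.mem_centralizer_iff.mp (hc g.2) _ (hOΓ (Subgroup.mem_map_of_mem _ hz))).symm
  have hperf' : ⁅(⊤ : Subgroup ↥φ.range), (⊤ : Subgroup ↥φ.range)⁆ = ⊤ := by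
    rw [← Subgroup.map_top_of_surjective ψ hψs, ← Subgroup.map_commutator, ← commutator_def, hperf]
  haveI : Nontrivial ↥φ.range := (Subgroup.nontrivial_iff_ne_bot _).mpr hne
  refine ⟨hsn, Components.isQuasisimple_of_normal_cases (by rwa [commutator_def]) fun N hN => ?_⟩
  haveI : (N.comap ψ).Normal := hN.comap ψ
  haveI : ((N.comap ψ).map (QuotientGroup.mk' O)).Normal :=
    Subgroup.Normal.map inferInstance _ (QuotientGroup.mk'_surjective O)
  rcases Components.qs_normal_cases hq ((N.comap ψ).map (QuotientGroup.mk' O)) with h | h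
  · left
    have h1 : N.comap ψ ⊔ O = ⊤ := by
      rw [← QuotientGroup.ker_mk' O, ← Subgroup.comap_map_eq, h, Subgroup.comap_top]
    have h2 : N ⊔ O.map ψ = ⊤ := by
      rw [← Subgroup.map_comap_eq_self_of_surjective hψs N, ← Subgroup.map_sup, h1,
        Subgroup.map_top_of_surjective ψ hψs]
    have h4 : (⊤ : Subgroup ↥φ.range) ≤ N := by
      rw [← hperf']
      refine Subgroup.commutator_le.mpr fun a _ b _ => ?_
      have dec : ∀ g : ↥φ.range, ∃ m ∈ N, ∃ z ∈ Subgroup.center ↥φ.range, m * z = g := by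
        intro g
        have hg : g ∈ ((N ⊔ O.map ψ : Subgroup ↥φ.range) : Set ↥φ.range) := by rw [h2]; trivial
        rw [Subgroup.normal_mul] at hg
        obtain ⟨m, hm, z, hz, rfl⟩ := hg
        exact ⟨m, hm, z, hcen hz, rfl⟩
      obtain ⟨m, hm, z, hz, rfl⟩ := dec a
      obtain ⟨m', hm', z', hz', rfl⟩ := dec b
      have e1 : z * m' = m' * z := (Subgroup.mem_center_iff.mp hz m').symm
      have e2 : z' * m⁻¹ = m⁻¹ * z' := (Subgroup.mem_center_iff.mp hz' m⁻¹).symm
      have e3 : z * z' = z' * z := (Subgroup.mem_center_iff.mp hz z').symm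
      have e : ⁅m * z, m' * z'⁆ = ⁅m, m'⁆ := by
        simp only [commutatorElement_def]
        calc m * z * (m' * z') * (m * z)⁻¹ * (m' * z')⁻¹
            = m * (z * m') * (z' * z⁻¹) * m⁻¹ * z'⁻¹ * m'⁻¹ := by group
          _ = m * m' * (z * z') * z⁻¹ * m⁻¹ * z'⁻¹ * m'⁻¹ := by rw [e1]; group
          _ = m * m' * (z' * m⁻¹) * z'⁻¹ * m'⁻¹ := by rw [e3]; group
          _ = m * m' * m⁻¹ * m'⁻¹ := by rw [e2]; group
      rw [e]
      exact mul_mem (mul_mem (mul_mem hm hm') (inv_mem hm)) (inv_mem hm')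
    exact top_le_iff.mp h4
  · right
    have h1 : ⁅N.comap ψ, (⊤ : Subgroup J)⁆ ≤ O := by
      refine Subgroup.commutator_le.mpr fun a ha b _ => ?_
      rw [← QuotientGroup.eq_one_iff, ← QuotientGroup.mk'_apply, map_commutatorElement,
        commutatorElement_eq_one_iff_mul_comm]
      exact (Subgroup.mem_center_iff.mp (h (Subgroup.mem_map_of_mem _ ha)) _).symm
    have h2 : ⁅N, (⊤ : Subgroup ↥φ.range)⁆ ≤ Subgroup.center ↥φ.range := by
      rw [← Subgroup.map_comap_eq_self_of_surjective hψs N, ← Subgroup.map_top_of_surjective ψ hψs,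
        ← Subgroup.map_commutator]
      exact (Subgroup.map_mono h1).trans hcen
    have h3 : ⁅(⊤ : Subgroup ↥φ.range), N⁆ = ⊥ := by
      refine Components.commutator_eq_bot_of_perfect hperf' ?_
      rw [Subgroup.commutator_eq_bot_iff_le_centralizer]
      exact h2.trans (fun z hz => Subgroup.mem_centralizer_iff.mpr fun g _ => Subgroup.mem_center_iff.mp hz g)
    intro n hn
    rw [Subgroup.mem_center_iff]
    intro g
    exact Subgroup.mem_centralizer_iff.mp
      (Subgroup.commutator_eq_bot_iff_le_centralizer.mp h3 (Subgroup.mem_top g)) n hn |>.symm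

/-- A subgroup normalizing an odd subgroup is commuted into it trivially by a component. -/
theorem component_commute_odd {Γ : Type*} [Group Γ] [Finite Γ] {K E : Subgroup Γ}
    (hK : Cfsg.IsComponent K) (hE : (Nat.card ↥E).Coprime 2) (hn : K ≤ Subgroup.normalizer (E : Set Γ))
    (hK2 : 2 ∣ Nat.card ↥K) : ⁅K, E⁆ = ⊥ := by
  set H := K ⊔ E with hH
  have hKH : K ≤ H := le_sup_left
  have hEH : E ≤ H := le_sup_right
  haveI : (E.subgroupOf H).Normal := Subgroup.normal_subgroupOf_of_le_normalizer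
    (sup_le hn Subgroup.le_normalizer)
  have hKc : Cfsg.IsComponent (K.subgroupOf H) := Components.isComponent_subgroupOf hK hKH
  rcases Components.component_le_or_commute hKc (Components.isSubnormal_of_normal (E.subgroupOf H)) with h | h
  · exfalso
    have hle : K ≤ E := fun k hk =>
      Subgroup.mem_subgroupOf.mp (h (show (⟨k, hKH hk⟩ : ↥H) ∈ K.subgroupOf H from hk))
    have hd := hK2.trans (Subgroup.card_dvd_of_le hle)
    exact absurd (Nat.eq_one_of_dvd_coprimes hE.symm dvd_rfl hd) (by norm_num)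
  · rw [← Subgroup.map_subgroupOf_eq_of_le hKH, ← Subgroup.map_subgroupOf_eq_of_le hEH,
      ← Subgroup.map_commutator, h, Subgroup.map_bot]

/-- Let G be a finite group whose generalized Fitting subgroup is a non-abelian simple group and in which every proper section (every quotient H/N of a proper subgroup H, or of G by a nontrivial normal subgroup) has the B-property. Let x, y be commuting involutions, let D be the intersection of the 2-layer of C_G(x) with C_G(y), and let J be a 2-component of D. Write Q for the quotient of C_G(y) by its largest normal odd-order subgroup. Then (i) the image of J in Q is a component of the centralizer in Q of the image of x; and (ii) for every J-invariant subgroup E of odd order of C_G(x) ∩ C_G(y), the commutator subgroup [J, E] lies in the largest normal odd-order subgroup of C_G(y). -/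
theorem result {G : Type*} [Group G] [Finite G]
    (hF : IsSimpleGroup ↥(Cfsg.generalizedFittingSubgroup G)) (hF' : ¬ IsMulCommutative ↥(Cfsg.generalizedFittingSubgroup G))
    (hsec : ∀ (H : Subgroup G) (N : Subgroup ↥H) [N.Normal], (H ≠ ⊤ ∨ N ≠ ⊥) → Cfsg.HasBProperty (↥H ⧸ N))
    (x y : G) (hx : orderOf x = 2) (hy : orderOf y = 2) (hxy : x * y = y * x)
    (J : Subgroup ↥((Cfsg.pLayer 2 ↥(Subgroup.centralizer ({x} : Set G))).map (Subgroup.centralizer ({x} : Set G)).subtype ⊓ Subgroup.centralizer ({y} : Set G)))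
    (hJ : Cfsg.IsPComponent 2 J) :
    Cfsg.IsComponent
        ((((J.map (Subgroup.subtype _)).subgroupOf (Subgroup.centralizer ({y} : Set G))).map (QuotientGroup.mk' (Cfsg.oddCore ↥(Subgroup.centralizer ({y} : Set G))))).subgroupOf
          (Subgroup.centralizer ({(QuotientGroup.mk' (Cfsg.oddCore ↥(Subgroup.centralizer ({y} : Set G))) ⟨x, Subgroup.mem_centralizer_singleton_iff.mpr hxy⟩ : ↥(Subgroup.centralizer ({y} : Set G)) ⧸ Cfsg.oddCore ↥(Subgroup.centralizer ({y} : Set G)))} : Set _))) ∧
      ∀ E : Subgroup G, E ≤ Subgroup.centralizer ({x} : Set G) ⊓ Subgroup.centralizer ({y} : Set G) → Odd (Nat.card ↥E) →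
        (∀ j ∈ J.map (Subgroup.subtype _), ∀ e ∈ E, j * e * j⁻¹ ∈ E) →
          ⁅J.map (Subgroup.subtype _), E⁆ ≤ (Cfsg.oddCore ↥(Subgroup.centralizer ({y} : Set G))).map (Subgroup.centralizer ({y} : Set G)).subtype := by
  haveI : Fact (Nat.Prime 2) := ⟨Nat.prime_two⟩
  revert J hJ
  set Cx := Subgroup.centralizer ({x} : Set G) with hCx
  set Cy := Subgroup.centralizer ({y} : Set G) with hCy
  set L := (Cfsg.pLayer 2 ↥Cx).map Cx.subtype with hL
  set D := L ⊓ Cy with hD
  intro J hJ
  set O := Cfsg.oddCore ↥Cy with hO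
  set π := QuotientGroup.mk' O with hπ
  have hxy' : x ∈ Cy := Subgroup.mem_centralizer_singleton_iff.mpr hxy
  set x' : ↥Cy := ⟨x, hxy'⟩ with hx'
  set xb : ↥Cy ⧸ O := π x' with hxb
  set Γ := Subgroup.centralizer ({xb} : Set (↥Cy ⧸ O)) with hΓ
  -- `C(y)` is proper
  have hproper : Cy ≠ ⊤ := by
    intro h
    have hyF : y ∈ Subgroup.centralizer (Cfsg.generalizedFittingSubgroup G : Set G) :=
      Subgroup.mem_centralizer_iff.mpr fun g _ =>
        Subgroup.mem_centralizer_singleton_iff.mp (show g ∈ Cy by rw [h]; exact Subgroup.mem_top g)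
    have hyF' := Components.centralizer_fStar_le hyF
    haveI := hF
    rcases (Subgroup.center ↥(Cfsg.generalizedFittingSubgroup G)).normal_of_characteristic.eq_bot_or_eq_top
      with hb | hb
    · have : (⟨y, hyF'⟩ : ↥(Cfsg.generalizedFittingSubgroup G)) ∈
          Subgroup.center ↥(Cfsg.generalizedFittingSubgroup G) :=
        Subgroup.mem_center_iff.mpr fun g => Subtype.ext (Subgroup.mem_centralizer_iff.mp hyF g g.2)
      rw [hb, Subgroup.mem_bot] at this
      have hy1 : y = 1 := congrArg Subtype.val this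
      rw [hy1, orderOf_one] at hy
      exact absurd hy (by norm_num)
    · exact hF' ⟨⟨fun a b => (Subgroup.mem_center_iff.mp (hb ▸ Subgroup.mem_top b) a)⟩⟩
  have hB : Cfsg.HasBProperty (↥Cy ⧸ O) := hsec Cy O (Or.inl hproper)
  have hxb2 : orderOf xb = 2 := by
    refine orderOf_eq_prime ?_ ?_
    · rw [hxb, ← map_pow]
      have : x' ^ 2 = 1 := Subtype.ext (by
        rw [SubmonoidClass.coe_pow]; exact orderOf_dvd_iff_pow_eq_one.mp (by rw [hx]))
      rw [this, map_one]
    · intro h1
      have h2 : x' ∈ O := (QuotientGroup.eq_one_iff _).mp h1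
      have h3 := Subgroup.orderOf_dvd_natCard O h2
      rw [← Subgroup.orderOf_coe, show ((x' : ↥Cy) : G) = x from rfl, hx] at h3
      exact absurd (Nat.eq_one_of_dvd_coprimes (Components.pPrimeCore_coprime (p := 2)).symm dvd_rfl h3)
        (by norm_num)
  -- `C_{C(y)}(x)` and its image
  set Z := Subgroup.centralizer ((Subgroup.zpowers x' : Subgroup ↥Cy) : Set ↥Cy) with hZ
  have hp : IsPGroup 2 ↥(Subgroup.zpowers x') := by
    refine IsPGroup.of_card (n := 1) ?_
    rw [Nat.card_zpowers, ← Subgroup.orderOf_coe, show ((x' : ↥Cy) : G) = x from rfl, hx, pow_one]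
  have hZmap : Z.map π = Γ := by
    rw [hZ, hπ, Components.map_centralizer_of_coprime Components.pPrimeCore_coprime hp,
      MonoidHom.map_zpowers, Components.centralizer_zpowers_eq]
  have hDCy : D ≤ Cy := inf_le_right
  have hLn : Cx ≤ Subgroup.normalizer (L : Set G) := fun g hg =>
    Subgroup.le_normalizer_map Cx.subtype
      ⟨⟨g, hg⟩, Subgroup.le_normalizer_of_normal (Subgroup.mem_top _), rfl⟩
  -- `D` as a normal subgroup of `Z`
  let f : ↥D →* ↥Z := (Subgroup.inclusion hDCy).codRestrict Z (fun d => by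
    rw [hZ, Components.centralizer_zpowers_eq, Subgroup.mem_centralizer_singleton_iff]
    exact Subtype.ext (Subgroup.mem_centralizer_singleton_iff.mp (Subgroup.map_subtype_le _ d.2.1)))
  have hfi : Function.Injective f := fun a b h =>
    Subgroup.inclusion_injective hDCy (congrArg Subtype.val h)
  have hfn : f.range.Normal := by
    refine ⟨fun a ha g => ?_⟩
    obtain ⟨d, rfl⟩ := ha
    have hgx : ((g : ↥Cy) : G) ∈ Cx := Subgroup.mem_centralizer_singleton_iff.mpr
      (congrArg Subtype.val (Subgroup.mem_centralizer_iff.mp g.2 x' (Subgroup.mem_zpowers x'))).symm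
    exact ⟨⟨((g : ↥Cy) : G) * d * ((g : ↥Cy) : G)⁻¹,
      ((Subgroup.mem_normalizer_iff.mp (hLn hgx) _).mp d.2.1),
      Cy.mul_mem (Cy.mul_mem (g : ↥Cy).2 d.2.2) (Cy.inv_mem (g : ↥Cy).2)⟩, rfl⟩
  let πZ : ↥Z →* ↥Γ := (MulEquiv.subgroupCongr hZmap).toMonoidHom.comp (π.subgroupMap Z)
  have hπs : Function.Surjective πZ :=
    (MulEquiv.subgroupCongr hZmap).surjective.comp (π.subgroupMap_surjective Z)
  have hπk : (Nat.card πZ.ker).Coprime 2 := by
    have h1 : πZ.ker.map Z.subtype ≤ O := by
      rintro _ ⟨a, ha, rfl⟩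
      exact (QuotientGroup.eq_one_iff _).mp (congrArg Subtype.val (MonoidHom.mem_ker.mp ha))
    rw [← Subgroup.card_map_of_injective (K := πZ.ker) Z.subtype_injective]
    exact (Components.pPrimeCore_coprime (p := 2)).coprime_dvd_left (Subgroup.card_dvd_of_le h1)
  let φ : ↥J →* ↥Γ := (πZ.comp f).comp J.subtype
  have hφval : ∀ j : ↥J, ((φ j : ↥Γ) : ↥Cy ⧸ O) = π ⟨((j : ↥D) : G), hDCy (j : ↥D).2⟩ := fun j => rfl
  have hφk : (Nat.card φ.ker).Coprime 2 := by
    have h1 : φ.ker.map (f.comp J.subtype) ≤ πZ.ker := by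
      rintro _ ⟨a, ha, rfl⟩
      exact ha
    rw [← Subgroup.card_map_of_injective (K := φ.ker) (f := f.comp J.subtype)
      (hfi.comp J.subtype_injective)]
    exact hπk.coprime_dvd_left (Subgroup.card_dvd_of_le h1)
  have hrange : φ.range = (((J.map D.subtype).subgroupOf Cy).map π).subgroupOf Γ := by
    ext g
    constructor
    · rintro ⟨j, rfl⟩
      exact ⟨⟨((j : ↥D) : G), hDCy (j : ↥D).2⟩, ⟨(j : ↥D), j.2, rfl⟩, (hφval j).symm⟩
    · rintro ⟨a, ⟨d, hd, hda⟩, hag⟩
      refine ⟨⟨d, hd⟩, Subtype.ext ((hφval ⟨d, hd⟩).trans (Eq.trans ?_ hag))⟩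
      exact congrArg π (Subtype.ext hda)
  have hJperf : commutator ↥J = ⊤ :=
    (Subgroup.isPerfect_iff.mpr (Components.pComponent_commutator_eq_self hJ)).commutator_eq_top
  have hsn : φ.range.IsSubnormal := by
    have e : φ.range = (J.map f).map πZ := by
      rw [MonoidHom.range_comp, Subgroup.range_subtype, Subgroup.map_map]
    rw [e]
    refine Subgroup.IsSubnormal.map hπs ?_
    have h1 : (J.map f.rangeRestrict).map f.range.subtype = J.map f := by
      rw [Subgroup.map_map]; rfl
    rw [← h1]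
    exact (Components.isSubnormal_map_subtype_iff (Components.isSubnormal_of_normal _) _).mpr
      (hJ.1.map f.rangeRestrict_surjective)
  have hne : φ.range ≠ ⊥ := by
    intro h
    rw [MonoidHom.range_eq_bot_iff] at h
    have h2 := Components.pComponent_dvd_card hJ
    have : φ.ker = ⊤ := by rw [h]; exact MonoidHom.ker_one
    rw [this, Subgroup.card_top] at hφk
    exact absurd (Nat.eq_one_of_dvd_coprimes hφk.symm dvd_rfl h2) (by norm_num)
  have hlay : φ.range ≤ Cfsg.pLayer 2 ↥Γ := by
    rintro _ ⟨j, rfl⟩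
    have h1 : f (j : ↥D) ∈ Cfsg.pLayer 2 ↥Z :=
      Components.map_pLayer_le_of_normal_range f hfi hfn
        (Subgroup.mem_map_of_mem f (Components.pComponent_le_pLayer hJ j.2))
    have h3 : Components.layerPre 2 ↥Γ ≤ Cfsg.pLayer 2 ↥Γ ⊔ Cfsg.pPrimeCore 2 ↥Γ := by
      rw [Components.layerPre, ← Components.map_pLayer, Subgroup.comap_map_eq, QuotientGroup.ker_mk']
    have h2 : (Cfsg.pLayer 2 ↥Z).map πZ ≤ Cfsg.pLayer 2 ↥Γ := by
      rw [← ClassK.pGen_pLayer, Components.map_pGen]
      refine (Components.pGen_mono ((ClassK.map_pLayer_le_layerPre πZ hπs hπk).trans h3)).trans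
        (Components.pGen_le_of_coprime_relIndex (Components.isSubnormal_of_normal _).subgroupOf ?_)
      exact Components.pPrimeCore_coprime.coprime_dvd_left (Components.relIndex_self_sup_dvd _ _)
    exact h2 (Subgroup.mem_map_of_mem πZ h1)
  have hcent : φ.range ≤ Subgroup.centralizer (Cfsg.pPrimeCore 2 ↥Γ : Set ↥Γ) := by
    refine hlay.trans (Subgroup.commutator_eq_bot_iff_le_centralizer.mp ?_)
    rw [← Subgroup.map_eq_bot_iff_of_injective _ Γ.subtype_injective, eq_bot_iff]
    refine (hB xb hxb2).trans (le_of_eq ?_)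
    exact Components.pPrimeCore_quotient_eq_bot
  have hcomp : Cfsg.IsComponent φ.range :=
    isComponent_image (Components.pComponent_quotient_isQuasisimple hJ) hJperf φ hsn hne hcent
  refine ⟨hrange ▸ hcomp, fun E hE hodd hinv => ?_⟩
  set Eb := ((E.subgroupOf Cy).map π).subgroupOf Γ with hEb
  have hEc : (Nat.card ↥E).Coprime 2 := Nat.coprime_two_right.mpr hodd
  have hEbc : (Nat.card ↥Eb).Coprime 2 := by
    rw [← Subgroup.card_map_of_injective (K := Eb) Γ.subtype_injective, Subgroup.subgroupOf_map_subtype]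
    refine Nat.Coprime.coprime_dvd_left ((Subgroup.card_dvd_of_le inf_le_left).trans
      ((Subgroup.card_map_dvd _ _).trans ?_)) hEc
    rw [← Subgroup.card_map_of_injective (K := E.subgroupOf Cy) Cy.subtype_injective,
      Subgroup.subgroupOf_map_subtype]
    exact Subgroup.card_dvd_of_le inf_le_left
  have hn : φ.range ≤ Subgroup.normalizer (Eb : Set ↥Γ) := by
    rintro _ ⟨j, rfl⟩
    refine Components.mem_normalizer_of_conj_le ?_
    rintro _ ⟨g, ⟨a, ha, hag⟩, rfl⟩
    set jc : ↥Cy := ⟨((j : ↥D) : G), hDCy (j : ↥D).2⟩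
    refine ⟨jc * a * jc⁻¹, hinv _ ⟨(j : ↥D), j.2, rfl⟩ _ ha, ?_⟩
    rw [map_mul, map_mul, map_inv, hag]
    rfl
  have hK2 : 2 ∣ Nat.card ↥φ.range := by
    have h2 := Components.pComponent_dvd_card hJ
    have h3 : Nat.card ↥J = Nat.card ↥φ.range * Nat.card ↥φ.ker := by
      rw [← Subgroup.index_ker, mul_comm, Subgroup.card_mul_index]
    rw [h3] at h2
    exact (Nat.Coprime.dvd_mul_right hφk.symm).mp h2
  have hcomm := component_commute_odd hcomp hEbc hn hK2
  refine Subgroup.commutator_le.mpr ?_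
  rintro _ ⟨d, hd, rfl⟩ e he
  set jc : ↥Cy := ⟨(d : G), hDCy d.2⟩
  set ec : ↥Cy := ⟨e, (hE he).2⟩
  refine ⟨⁅jc, ec⁆, ?_, rfl⟩
  rw [SetLike.mem_coe, ← QuotientGroup.eq_one_iff, ← QuotientGroup.mk'_apply, map_commutatorElement]
  have hex : π ec ∈ Γ := by
    rw [← hZmap]
    refine Subgroup.mem_map_of_mem π ?_
    rw [hZ, Components.centralizer_zpowers_eq, Subgroup.mem_centralizer_singleton_iff]
    exact Subtype.ext (Subgroup.mem_centralizer_singleton_iff.mp (hE he).1)
  have hm1 : φ ⟨d, hd⟩ ∈ φ.range := ⟨_, rfl⟩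
  have hm2 : (⟨π ec, hex⟩ : ↥Γ) ∈ Eb := ⟨ec, he, rfl⟩
  have := Subgroup.commutator_mem_commutator hm1 hm2
  rw [hcomm, Subgroup.mem_bot] at this
  exact congrArg Subtype.val this

end Cfsg.Agent.S1775
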