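import Cfsg.Statements.S1305
import Cfsg.Agent.Lib.Components.LBalanceTwo
import Cfsg.Agent.Lib.Components.CompAction
import Cfsg.Agent.Lib.Components.CompAction2
import Cfsg.Agent.S1775

set_option autoImplicit false
open Cfsg

namespace Cfsg.Agent.S1305

open Subgroup
open scoped commutatorElement

variable {Γ : Type*} [Group Γ] [Finite Γ]

theorem pLayer_le_layer (h : ⁅Cfsg.pLayer 2 Γ, Cfsg.oddCore Γ⁆ = ⊥) :
    Cfsg.pLayer 2 Γ ≤ Cfsg.layer Γ := by
  haveI : Fact (Nat.Prime 2) := ⟨Nat.prime_two⟩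
  refine sSup_le fun J hJ => Components.component_le_layer ?_
  have := S1775.isComponent_image (Components.pComponent_quotient_isQuasisimple hJ)
    (Subgroup.isPerfect_iff.mpr (Components.pComponent_commutator_eq_self hJ)).commutator_eq_top
    J.subtype (by rw [range_subtype]; exact hJ.1)
    (by rw [range_subtype]; exact Components.pComponent_ne_bot hJ)
    (by
      rw [range_subtype]
      exact (Components.pComponent_le_pLayer hJ).trans (commutator_eq_bot_iff_le_centralizer.mp h))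
  rwa [range_subtype] at this

theorem commutator_congr_central {x y : Γ} {c c' : Γ}
    (hx : ∀ g, g = x ∨ g = y ∨ g = x⁻¹ ∨ g = y⁻¹ ∨ g = c ∨ g = c' → Commute c g)
    (hy : ∀ g, g = x ∨ g = y ∨ g = x⁻¹ ∨ g = y⁻¹ ∨ g = c ∨ g = c' → Commute c' g) :
    ⁅x * c, y * c'⁆ = ⁅x, y⁆ := by
  simp only [commutatorElement_def]
  calc x * c * (y * c') * (x * c)⁻¹ * (y * c')⁻¹
      = x * (c * y) * (c' * c⁻¹) * x⁻¹ * c'⁻¹ * y⁻¹ := by group
    _ = x * y * (c * c') * c⁻¹ * x⁻¹ * c'⁻¹ * y⁻¹ := by rw [(hx y (by simp)).eq]; group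
    _ = x * y * (c' * x⁻¹) * c'⁻¹ * y⁻¹ := by rw [(hx c' (by simp)).eq]; group
    _ = x * y * x⁻¹ * y⁻¹ := by rw [(hy x⁻¹ (by simp)).eq]; group

theorem commutator_mul_mul {w w' r r' : Γ} (h : ∀ u, u = w ∨ u = w' → Commute r u ∧ Commute r' u) :
    ⁅w * r, w' * r'⁆ = ⁅w, w'⁆ * ⁅r, r'⁆ := by
  have h1 := h w (Or.inl rfl)
  have h2 := h w' (Or.inr rfl)
  have c1 : Commute r w' := h2.1
  have c2 : Commute (r' * r⁻¹) w⁻¹ := (Commute.mul_left h1.2 h1.1.inv_left).inv_right
  have c3 : Commute (r * r' * r⁻¹ * r'⁻¹) w'⁻¹ :=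
    (((h2.1.mul_left h2.2).mul_left h2.1.inv_left).mul_left h2.2.inv_left).inv_right
  simp only [commutatorElement_def]
  calc w * r * (w' * r') * (w * r)⁻¹ * (w' * r')⁻¹
      = w * (r * w') * (r' * r⁻¹ * w⁻¹) * (r'⁻¹ * w'⁻¹) := by group
    _ = w * (w' * r) * (w⁻¹ * (r' * r⁻¹)) * (r'⁻¹ * w'⁻¹) := by rw [c1.eq, c2.eq]
    _ = w * w' * (r * w⁻¹) * (r' * r⁻¹ * r'⁻¹) * w'⁻¹ := by group
    _ = w * w' * (w⁻¹ * r) * (r' * r⁻¹ * r'⁻¹) * w'⁻¹ := by rw [(h1.1.inv_right).eq]
    _ = w * w' * w⁻¹ * ((r * r' * r⁻¹ * r'⁻¹) * w'⁻¹) := by group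
    _ = w * w' * w⁻¹ * (w'⁻¹ * (r * r' * r⁻¹ * r'⁻¹)) := by rw [c3.eq]
    _ = w * w' * w⁻¹ * w'⁻¹ * (r * r' * r⁻¹ * r'⁻¹) := by group

/-- Location of a component of the centralizer of an involution inside the layer. -/
theorem exists_component_orbit {a : Γ} (ha : a * a = 1) {K : Subgroup Γ}
    (hKa : K ≤ centralizer ({a} : Set Γ))
    (hK : Cfsg.IsComponent (K.subgroupOf (centralizer ({a} : Set Γ)))) (hKE : K ≤ Cfsg.layer Γ) :
    ∃ D : Subgroup Γ, Cfsg.IsComponent D ∧ K ≤ D ⊔ D.map (MulAut.conj a).toMonoidHom := by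
  set Ca := centralizer ({a} : Set Γ) with hCa
  set σ := (MulAut.conj a).toMonoidHom with hσ
  set E := Cfsg.layer Γ with hE
  have hKperf : ⁅K, K⁆ = K := by
    have := congrArg (Subgroup.map Ca.subtype) (Components.isComponent_commutator_eq_self hK)
    rwa [map_commutator, map_subgroupOf_eq_of_le hKa] at this
  have hKne : ¬ K ≤ centralizer (K : Set Γ) := fun h =>
    Components.isComponent_ne_bot hK (by
      rw [← hKperf, commutator_eq_bot_iff_le_centralizer.mpr h]
      exact bot_subgroupOf _)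
  obtain ⟨D, hD, hDK⟩ : ∃ D : Subgroup Γ, Cfsg.IsComponent D ∧ ¬ D ≤ centralizer (K : Set Γ) := by
    by_contra hcon
    push Not at hcon
    exact hKne (hKE.trans (Components.layer_le_iff.mpr hcon))
  refine ⟨D, hD, ?_⟩
  set W := D ⊔ D.map σ with hW
  set R := ⨆ L : {L : Subgroup Γ // Cfsg.IsComponent L ∧ L ≠ D ∧ L ≠ D.map σ}, (L : Subgroup Γ) with hR
  have hDa : Cfsg.IsComponent (D.map σ) := Components.isComponent_conj a hD
  have hσσ : ∀ L : Subgroup Γ, (L.map σ).map σ = L := fun L => by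
    rw [hσ, Components.conj_map_comp, ha, Components.conj_map_one]
  have hWR : W ≤ centralizer (R : Set Γ) := by
    rw [le_centralizer_iff, hR, iSup_le_iff]
    intro L
    rw [le_centralizer_iff, hW]
    exact sup_le
      (commutator_eq_bot_iff_le_centralizer.mp
        ((Components.component_eq_or_commute hD L.2.1).resolve_left (Ne.symm L.2.2.1)))
      (commutator_eq_bot_iff_le_centralizer.mp
        ((Components.component_eq_or_commute hDa L.2.1).resolve_left (Ne.symm L.2.2.2)))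
  have hEWR : E ≤ W ⊔ R := by
    rw [hE, Components.layer_le_iff]
    intro L hL
    by_cases h1 : L = D
    · exact h1 ▸ le_sup_of_le_left le_sup_left
    by_cases h2 : L = D.map σ
    · exact h2 ▸ le_sup_of_le_left le_sup_right
    · exact le_sup_of_le_right (le_iSup_of_le ⟨L, hL, h1, h2⟩ le_rfl)
  have hWσ : W.map σ = W := by rw [hW, Subgroup.map_sup, hσσ, sup_comm]
  have hRσ : R.map σ ≤ R := by
    rw [hR, Subgroup.map_iSup]
    refine iSup_le fun L => le_iSup_of_le ⟨(L : Subgroup Γ).map σ, Components.isComponent_conj a L.2.1,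
      fun h => L.2.2.2 ?_, fun h => L.2.2.1 ?_⟩ le_rfl
    · have := congrArg (Subgroup.map σ) h
      rwa [hσσ] at this
    · have := congrArg (Subgroup.map σ) h
      rwa [hσσ, hσσ] at this
  have hWE : W ≤ E := sup_le (Components.component_le_layer hD) (Components.component_le_layer hDa)
  have hRE : R ≤ E := iSup_le fun L => Components.component_le_layer L.2.1
  have hEn : ∀ L : Subgroup Γ, Cfsg.IsComponent L → E ≤ normalizer (L : Set Γ) := fun L hL =>
    Components.layer_le_normalizer hL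
  -- the two fixed point subgroups are subnormal in the centralizer
  have hsub : ∀ Z : Subgroup Γ, Z ≤ E → E ≤ normalizer (Z : Set Γ) →
      ((Z ⊓ Ca).subgroupOf Ca).IsSubnormal := by
    intro Z hZE hZn
    haveI : ((E ⊓ Ca).subgroupOf Ca).Normal := by
      rw [inf_subgroupOf_right]
      exact Subgroup.normal_subgroupOf
    refine Components.isSubnormal_of_normal_in
      (show (Z ⊓ Ca).subgroupOf Ca ≤ (E ⊓ Ca).subgroupOf Ca from
        comap_mono (inf_le_inf_right _ hZE)) (Components.isSubnormal_of_normal _) ?_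
    intro g hg
    rw [inf_subgroupOf_right] at hg ⊢
    rw [mem_normalizer_iff]
    intro h
    exact mem_normalizer_iff.mp (hZn hg) (h : Γ)
  have hnR : E ≤ normalizer (R : Set Γ) := by
    intro g hg
    refine Components.mem_normalizer_of_conj_le ?_
    rw [hR, Subgroup.map_iSup]
    refine iSup_le fun L => le_iSup_of_le L (le_of_eq ?_)
    exact Components.map_conj_eq_of_mem_normalizer (hEn _ L.2.1 hg)
  have hnW : E ≤ normalizer (W : Set Γ) := fun g hg => by
    refine Components.mem_normalizer_of_conj_le ?_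
    rw [hW, Subgroup.map_sup, Components.map_conj_eq_of_mem_normalizer (hEn _ hD hg),
      Components.map_conj_eq_of_mem_normalizer (hEn _ hDa hg)]
  -- every element of `K` splits
  have hdec : K ≤ (W ⊓ Ca) ⊔ (R ⊓ Ca) := by
    have hWn : R ≤ normalizer (W : Set Γ) := hRE.trans hnW
    have split : ∀ x ∈ K, ∃ w ∈ W, ∃ r ∈ R, w * r = x ∧ w⁻¹ * (a * w * a⁻¹) ∈ W ⊓ R ∧
        r⁻¹ * (a * r * a⁻¹) ∈ W ⊓ R := by
      intro x hx
      have hxe : x ∈ ((W ⊔ R : Subgroup Γ) : Set Γ) := hEWR (hKE hx)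
      rw [coe_mul_of_right_le_normalizer_left _ _ hWn] at hxe
      obtain ⟨w, hw, r, hr, rfl⟩ := hxe
      refine ⟨w, hw, r, hr, rfl, ?_, ?_⟩
      all_goals
        have hw' : a * w * a⁻¹ ∈ W := hWσ ▸ ⟨w, hw, rfl⟩
        have hr' : a * r * a⁻¹ ∈ R := hRσ ⟨r, hr, rfl⟩
        have hfix : a * (w * r) * a⁻¹ = w * r := by
          rw [← mem_centralizer_singleton_iff.mp (hKa hx), mul_inv_cancel_right]
        have e : w⁻¹ * (a * w * a⁻¹) = r * (a * r * a⁻¹)⁻¹ := by
          calc w⁻¹ * (a * w * a⁻¹) = w⁻¹ * (a * (w * r) * a⁻¹) * (a * r * a⁻¹)⁻¹ := by group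
            _ = r * (a * r * a⁻¹)⁻¹ := by rw [hfix]; group
      · exact ⟨W.mul_mem (W.inv_mem hw) hw', e ▸ R.mul_mem hr (R.inv_mem hr')⟩
      · refine ⟨?_, R.mul_mem (R.inv_mem hr) hr'⟩
        have hc : Commute r⁻¹ (w⁻¹ * (a * w * a⁻¹)) :=
          mem_centralizer_iff.mp (hWR (mul_mem (inv_mem hw) hw')) r⁻¹ (R.inv_mem hr)
        have e2 : r⁻¹ * (a * r * a⁻¹) = (w⁻¹ * (a * w * a⁻¹))⁻¹ := by
          have : (r * (a * r * a⁻¹)⁻¹)⁻¹ = r⁻¹ * (a * r * a⁻¹) := by
            have h3 : r⁻¹ * (r * (a * r * a⁻¹)⁻¹) = (r * (a * r * a⁻¹)⁻¹) * r⁻¹ := e ▸ hc.eq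
            rw [inv_mul_cancel_left] at h3
            rw [mul_inv_rev, inv_inv]
            have h4 := congrArg Inv.inv h3
            simp only [inv_inv, mul_inv_rev] at h4
            calc (a * r * a⁻¹) * r⁻¹ = r⁻¹ * (r * ((a * r * a⁻¹) * r⁻¹)) := by group
              _ = r⁻¹ * (a * r * a⁻¹) := by rw [← h4]
          rw [← this, ← e]
        rw [e2]
        exact W.inv_mem (mul_mem (inv_mem hw) hw')
    calc K = ⁅K, K⁆ := hKperf.symm
      _ ≤ _ := by
        rw [commutator_le]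
        intro x hx y hy
        obtain ⟨w, hw, r, hr, rfl, hcw, hcr⟩ := split x hx
        obtain ⟨w', hw', r', hr', rfl, hcw', hcr'⟩ := split y hy
        have cW : ∀ u ∈ W, ∀ v ∈ R, Commute v u := fun u hu v hv =>
          mem_centralizer_iff.mp (hWR hu) v hv
        rw [commutator_mul_mul (fun u hu => by
          rcases hu with rfl | rfl
          · exact ⟨cW _ hw _ hr, cW _ hw _ hr'⟩
          · exact ⟨cW _ hw' _ hr, cW _ hw' _ hr'⟩)]
        have fixed : ∀ u v c c', u⁻¹ * (a * u * a⁻¹) = c → v⁻¹ * (a * v * a⁻¹) = c' →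
            (∀ g, g = u ∨ g = v ∨ g = u⁻¹ ∨ g = v⁻¹ ∨ g = c ∨ g = c' → Commute c g ∧ Commute c' g) →
            ⁅u, v⁆ ∈ Ca := by
          intro u v c c' hc hc' hcom
          rw [hCa, mem_centralizer_singleton_iff]
          have : a * ⁅u, v⁆ * a⁻¹ = ⁅u, v⁆ := by
            rw [← MulAut.conj_apply, map_commutatorElement, MulAut.conj_apply, MulAut.conj_apply,
              show a * u * a⁻¹ = u * c by rw [← hc]; group,
              show a * v * a⁻¹ = v * c' by rw [← hc']; group]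
            exact commutator_congr_central (fun g hg => (hcom g hg).1) (fun g hg => (hcom g hg).2)
          conv_lhs => rw [← this]
          group
        have zW : ∀ c ∈ W ⊓ R, ∀ g, (g ∈ W ∨ g ∈ R) → Commute c g := fun c hc g hg =>
          hg.elim (fun h => cW g h c hc.2) (fun h => (cW c hc.1 g h).symm)
        refine mul_mem (mem_sup_left ⟨?_, fixed w w' _ _ rfl rfl ?_⟩)
          (mem_sup_right ⟨?_, fixed r r' _ _ rfl rfl ?_⟩)
        · exact commutator_le_self W (commutator_mem_commutator hw hw')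
        · intro g hg
          have : g ∈ W := by
            rcases hg with rfl | rfl | rfl | rfl | rfl | rfl
            exacts [hw, hw', W.inv_mem hw, W.inv_mem hw', hcw.1, hcw'.1]
          exact ⟨zW _ hcw g (Or.inl this), zW _ hcw' g (Or.inl this)⟩
        · exact commutator_le_self R (commutator_mem_commutator hr hr')
        · intro g hg
          have : g ∈ R := by
            rcases hg with rfl | rfl | rfl | rfl | rfl | rfl
            exacts [hr, hr', R.inv_mem hr, R.inv_mem hr', hcr.2, hcr'.2]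
          exact ⟨zW _ hcr g (Or.inr this), zW _ hcr' g (Or.inr this)⟩
  have back : ∀ Z : Subgroup Γ, Z ≤ E → E ≤ normalizer (Z : Set Γ) →
      K ≤ Z ∨ Z ⊓ Ca ≤ centralizer (K : Set Γ) := by
    intro Z hZE hZn
    rcases Components.component_le_or_commute hK (hsub Z hZE hZn) with h | h
    · exact Or.inl fun k hk => (h (show (⟨k, hKa hk⟩ : ↥Ca) ∈ K.subgroupOf Ca from hk)).1
    · right
      rw [← commutator_eq_bot_iff_le_centralizer, commutator_comm]
      exact (Components.commutator_subgroupOf_eq_bot_iff hKa inf_le_right).mp h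
  rcases back W hWE hnW with h | h
  · exact h
  rcases back R hRE hnR with h' | h'
  · exfalso
    refine hDK (le_trans ?_ (centralizer_le h'))
    exact (le_sup_left.trans hWR)
  · exact absurd (hdec.trans (sup_le h h')) hKne

/-- The twisted diagonal map. -/
theorem exists_diag {a : Γ} (ha : a * a = 1) {D : Subgroup Γ} (hD : Cfsg.IsComponent D)
    (hne : D.map (MulAut.conj a).toMonoidHom ≠ D) :
    ∃ δ : ↥D →* Γ, (∀ d, δ d = (d : Γ) * (a * d * a⁻¹)) ∧
      ∀ K : Subgroup Γ, K ≤ D ⊔ D.map (MulAut.conj a).toMonoidHom → K ≤ centralizer ({a} : Set Γ) →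
        ⁅K, K⁆ = K → K ≤ δ.range := by
  set σ := (MulAut.conj a).toMonoidHom with hσ
  have hDa : Cfsg.IsComponent (D.map σ) := Components.isComponent_conj a hD
  have hcom : ∀ x ∈ D, ∀ y ∈ D.map σ, Commute x y := fun x hx y hy =>
    (mem_centralizer_iff.mp (commutator_eq_bot_iff_le_centralizer.mp
      ((Components.component_eq_or_commute hDa hD).resolve_left hne) hy) x hx)
  let δ : ↥D →* Γ :=
    { toFun := fun d => (d : Γ) * (a * d * a⁻¹)
      map_one' := by simp
      map_mul' := fun x y => by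
        have h : Commute (y : Γ) (a * x * a⁻¹) := hcom _ y.2 _ ⟨x, x.2, rfl⟩
        push_cast
        calc (x : Γ) * y * (a * (x * y) * a⁻¹) = x * ((y : Γ) * (a * x * a⁻¹)) * (a * y * a⁻¹) := by group
          _ = x * ((a * x * a⁻¹) * y) * (a * y * a⁻¹) := by rw [h.eq]
          _ = x * (a * x * a⁻¹) * (y * (a * y * a⁻¹)) := by group }
  refine ⟨δ, fun d => rfl, fun K hKW hKa hKp => ?_⟩
  have hDn : D.map σ ≤ normalizer (D : Set Γ) :=
    (Components.component_le_layer hDa).trans (Components.layer_le_normalizer hD)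
  have split : ∀ x ∈ K, ∃ d ∈ D, ∃ d' ∈ D, d * (a * d' * a⁻¹) = x ∧ d⁻¹ * d' ∈ D ⊓ D.map σ := by
    intro x hx
    have hxe : x ∈ ((D ⊔ D.map σ : Subgroup Γ) : Set Γ) := hKW hx
    rw [coe_mul_of_right_le_normalizer_left _ _ hDn] at hxe
    obtain ⟨d, hd, _, ⟨d', hd', rfl⟩, rfl⟩ := hxe
    refine ⟨d, hd, d', hd', rfl, D.mul_mem (D.inv_mem hd) hd', ?_⟩
    have hfix : a * (d * (a * d' * a⁻¹)) * a⁻¹ = d * (a * d' * a⁻¹) := by
      have := mem_centralizer_singleton_iff.mp (hKa hx)
      simp only [hσ, MulEquiv.coe_toMonoidHom, MulAut.conj_apply] at this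
      rw [← this, mul_inv_cancel_right]
    have hai : a⁻¹ = a := inv_eq_of_mul_eq_one_right ha
    have e : a * d * a⁻¹ * d' = d * (a * d' * a⁻¹) := by
      rw [← hfix]
      have : a * (a * d' * a⁻¹) * a⁻¹ = d' := by
        rw [hai]
        calc a * (a * d' * a) * a = (a * a) * d' * (a * a) := by group
          _ = d' := by rw [ha, one_mul, mul_one]
      calc a * d * a⁻¹ * d' = a * d * a⁻¹ * (a * (a * d' * a⁻¹) * a⁻¹) := by rw [this]
        _ = _ := by group
    have hc : Commute d' (a * d * a⁻¹) := hcom _ hd' _ ⟨d, hd, rfl⟩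
    refine ⟨(d⁻¹ * d'), ?_, ?_⟩ <;> skip
    · exact mul_mem (inv_mem hd) hd'
    · simp only [hσ, MulEquiv.coe_toMonoidHom, MulAut.conj_apply]
      have h5 : d' * (a * d * a⁻¹) = d * (a * d' * a⁻¹) := hc.eq.trans e
      calc a * (d⁻¹ * d') * a⁻¹ = (a * d * a⁻¹)⁻¹ * (a * d' * a⁻¹) := by group
        _ = (a * d * a⁻¹)⁻¹ * (d⁻¹ * (d' * (a * d * a⁻¹))) := by rw [h5]; group
        _ = (a * d * a⁻¹)⁻¹ * ((a * d * a⁻¹) * (d⁻¹ * d')) := by
            rw [← (show Commute (d⁻¹ * d') (a * d * a⁻¹) from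
              hcom _ (mul_mem (inv_mem hd) hd') _ ⟨d, hd, rfl⟩).eq]; group
        _ = d⁻¹ * d' := by group
  rw [← hKp, commutator_le]
  intro x hx y hy
  obtain ⟨d, hd, e, he, rfl, hz⟩ := split x hx
  obtain ⟨d', hd', e', he', rfl, hz'⟩ := split y hy
  refine ⟨⟨⁅d, d'⁆, commutator_le_self D (commutator_mem_commutator hd hd')⟩, ?_⟩
  change ⁅d, d'⁆ * (a * ⁅d, d'⁆ * a⁻¹) = _
  have hA : ∀ u ∈ D, a * u * a⁻¹ ∈ D.map σ := fun u hu => ⟨u, hu, rfl⟩
  rw [commutator_mul_mul (fun u hu => by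
    rcases hu with rfl | rfl
    · exact ⟨(hcom _ hd _ (hA e he)).symm, (hcom _ hd _ (hA e' he')).symm⟩
    · exact ⟨(hcom _ hd' _ (hA e he)).symm, (hcom _ hd' _ (hA e' he')).symm⟩)]
  congr 1
  rw [← MulAut.conj_apply, ← MulAut.conj_apply, ← MulAut.conj_apply, ← map_commutatorElement]
  congr 1
  have zD : ∀ c ∈ D ⊓ D.map σ, ∀ g ∈ D, Commute c g := fun c hc g hg => (hcom g hg c hc.2).symm
  have hmem : ∀ g, g = d ∨ g = d' ∨ g = d⁻¹ ∨ g = d'⁻¹ ∨ g = d⁻¹ * e ∨ g = d'⁻¹ * e' → g ∈ D := by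
    rintro g (rfl | rfl | rfl | rfl | rfl | rfl)
    exacts [hd, hd', D.inv_mem hd, D.inv_mem hd', hz.1, hz'.1]
  conv_rhs => rw [show e = d * (d⁻¹ * e) by group, show e' = d' * (d'⁻¹ * e') by group]
  exact (commutator_congr_central (fun g hg => zD _ hz g (hmem g hg))
    (fun g hg => zD _ hz' g (hmem g hg))).symm

theorem elementary_sup {G : Type*} [Group G] {A B : Subgroup G} (hA : Cfsg.IsElementaryAbelian 2 A)
    (hB : Cfsg.IsElementaryAbelian 2 B) (h : A ≤ centralizer (B : Set G)) :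
    Cfsg.IsElementaryAbelian 2 (A ⊔ B) := by
  have hAA : A ≤ centralizer (A : Set G) := fun x hx => mem_centralizer_iff.mpr fun y hy =>
    (haveI := hA.1; congrArg Subtype.val (IsMulCommutative.is_comm.comm (⟨y, hy⟩ : ↥A) ⟨x, hx⟩))
  have hBB : B ≤ centralizer (B : Set G) := fun x hx => mem_centralizer_iff.mpr fun y hy =>
    (haveI := hB.1; congrArg Subtype.val (IsMulCommutative.is_comm.comm (⟨y, hy⟩ : ↥B) ⟨x, hx⟩))
  have hS : A ⊔ B ≤ centralizer ((A ⊔ B : Subgroup G) : Set G) := by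
    rw [le_centralizer_iff]
    exact sup_le (le_centralizer_iff.mp (sup_le hAA (le_centralizer_iff.mp h)))
      (le_centralizer_iff.mp (sup_le h hBB))
  refine ⟨⟨⟨fun x y => Subtype.ext (mem_centralizer_iff.mp (hS y.2) _ x.2)⟩⟩, fun x hx => ?_⟩
  have hx' : x ∈ ((A ⊔ B : Subgroup G) : Set G) := hx
  rw [coe_mul_of_left_le_normalizer_right _ _ (h.trans (centralizer_le_normalizer _))] at hx'
  obtain ⟨u, hu, v, hv, rfl⟩ := hx'
  have : Commute u v := (mem_centralizer_iff.mp (h hu) v hv).symm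
  rw [this.mul_pow, hA.2 u hu, hB.2 v hv, one_mul]

/-- Let G be a finite group of component type with the B-property and no nontrivial normal subgroup of odd order. Let a be an involution and K a component of C_G(a) such that (a) |K| is maximal among the orders of components of centralizers of involutions of G, (b) subject to (a) the 2-rank of the centralizer of K in C_G(a) is as large as possible, and (c) K has 2-rank at least 2. If B is an elementary abelian 2-subgroup of that centralizer of the largest possible order, then K is a component of C_G(b) for every non-identity b ∈ B. -/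
theorem result {G : Type*} [Group G] [Finite G] (hO : Cfsg.oddCore G = ⊥) (hB : Cfsg.HasBProperty G) (hct : Cfsg.IsComponentType G) (a : G) (ha : orderOf a = 2) (K : Subgroup G) (hKa : K ≤ Subgroup.centralizer ({a} : Set G)) (hK : Cfsg.IsComponent (K.subgroupOf (Subgroup.centralizer ({a} : Set G)))) (hmax : ∀ y : G, orderOf y = 2 → ∀ K' : Subgroup G, K' ≤ Subgroup.centralizer ({y} : Set G) → Cfsg.IsComponent (K'.subgroupOf (Subgroup.centralizer ({y} : Set G))) → Nat.card ↥K' ≤ Nat.card ↥K ∧ (Nat.card ↥K' = Nat.card ↥K → ∀ k : ℕ, Cfsg.PRankLE 2 k ↥(Subgroup.centralizer ({a} : Set G) ⊓ Subgroup.centralizer (K : Set G)) → Cfsg.PRankLE 2 k ↥(Subgroup.centralizer ({y} : Set G) ⊓ Subgroup.centralizer (K' : Set G)))) (hrk : ¬ Cfsg.PRankLE 2 1 ↥K) (B : Subgroup G) (hBle : B ≤ Subgroup.centralizer ({a} : Set G) ⊓ Subgroup.centralizer (K : Set G)) (hBel : Cfsg.IsElementaryAbelian 2 B) (hBmax : ∀ B' : Subgroup G, B' ≤ Subgroup.centralizer ({a} : Set G) ⊓ Subgroup.centralizer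 (K : Set G) → Cfsg.IsElementaryAbelian 2 B' → Nat.card ↥B' ≤ Nat.card ↥B) (b : G) (hb : b ∈ B) (hb1 : b ≠ 1) : K ≤ Subgroup.centralizer ({b} : Set G) ∧ Cfsg.IsComponent (K.subgroupOf (Subgroup.centralizer ({b} : Set G))) := by
  haveI : Fact (Nat.Prime 2) := ⟨Nat.prime_two⟩
  have _ := hct
  set Ca := Subgroup.centralizer ({a} : Set G) with hCa
  set Cb := Subgroup.centralizer ({b} : Set G) with hCb
  have hKb : K ≤ Cb := fun k hk =>
    Subgroup.mem_centralizer_singleton_iff.mpr (Subgroup.mem_centralizer_iff.mp (hBle hb).2 k hk)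
  refine ⟨hKb, ?_⟩
  have ha2 : a * a = 1 := by rw [← pow_two]; exact orderOf_dvd_iff_pow_eq_one.mp (by rw [ha])
  have hb2 : orderOf b = 2 := orderOf_eq_prime (hBel.2 b hb) hb1
  have hBB : ∀ x ∈ B, ∀ y ∈ B, x * y = y * x := fun x hx y hy =>
    (haveI := hBel.1; congrArg Subtype.val (IsMulCommutative.is_comm.comm (⟨x, hx⟩ : ↥B) ⟨y, hy⟩))
  have haB : a ∈ B := by
    have hza : Cfsg.IsElementaryAbelian 2 (Subgroup.zpowers a) := ⟨inferInstance, fun x hx => by
      obtain ⟨i, rfl⟩ := Subgroup.mem_zpowers_iff.mp hx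
      rw [← zpow_natCast, ← zpow_mul, mul_comm, zpow_mul, zpow_natCast, pow_two, ha2, one_zpow]⟩
    have hBa : B ≤ Subgroup.centralizer (Subgroup.zpowers a : Set G) := fun x hx => by
      rw [Components.centralizer_zpowers_eq]
      exact (hBle hx).1
    have hsup : B ⊔ Subgroup.zpowers a ≤ Ca ⊓ Subgroup.centralizer (K : Set G) := by
      refine sup_le hBle (Subgroup.zpowers_le.mpr ⟨Subgroup.mem_centralizer_singleton_iff.mpr rfl, ?_⟩)
      exact Subgroup.mem_centralizer_iff.mpr fun k hk => Subgroup.mem_centralizer_singleton_iff.mp (hKa hk)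
    have h := Subgroup.eq_of_le_of_card_ge (le_sup_left : B ≤ B ⊔ Subgroup.zpowers a)
      (hBmax _ hsup (elementary_sup hBel hza hBa))
    rw [h]
    exact Subgroup.mem_sup_right (Subgroup.mem_zpowers a)
  have haCb : a ∈ Cb := Subgroup.mem_centralizer_singleton_iff.mpr (hBB a haB b hb)
  set a' : ↥Cb := ⟨a, haCb⟩ with ha'
  have ha'2 : a' * a' = 1 := Subtype.ext ha2
  set K' := K.subgroupOf Cb with hK'
  set Ca' := Subgroup.centralizer ({a'} : Set ↥Cb) with hCa'
  have hK'a : K' ≤ Ca' := fun k hk =>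
    Subgroup.mem_centralizer_singleton_iff.mpr (Subtype.ext (Subgroup.mem_centralizer_singleton_iff.mp (hKa hk)))
  let f : ↥Ca' →* ↥Ca := (Cb.subtype.comp Ca'.subtype).codRestrict Ca (fun x =>
    Subgroup.mem_centralizer_singleton_iff.mpr
      (congrArg Subtype.val (Subgroup.mem_centralizer_singleton_iff.mp x.2)))
  have hKc : Cfsg.IsComponent (K'.subgroupOf Ca') := by
    refine ⟨?_, Components.qs_of_equiv hK.2 (((Subgroup.subgroupOfEquivOfLe hKa).trans
      (Subgroup.subgroupOfEquivOfLe hKb).symm).trans (Subgroup.subgroupOfEquivOfLe hK'a).symm)⟩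
    have e : K'.subgroupOf Ca' = (K.subgroupOf Ca).comap f := rfl
    rw [e]
    exact hK.1.comap f
  have hK2 : 2 ∣ Nat.card ↥K := by
    by_contra hodd
    refine hrk fun A hA hA2 => ?_
    have hAp : IsPGroup 2 ↥A := fun x => ⟨1, Subtype.ext (by
      rw [pow_one, SubmonoidClass.coe_pow, hA2 x x.2, OneMemClass.coe_one])⟩
    obtain ⟨j, hj⟩ := hAp.exists_card_eq
    rcases Nat.eq_zero_or_pos j with rfl | hj0
    · rw [hj]; norm_num
    · exact absurd ((hj ▸ dvd_pow_self 2 hj0.ne').trans A.card_subgroup_dvd_card) hodd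
  have hKE : K' ≤ Cfsg.layer ↥Cb := by
    refine le_trans ?_ (pLayer_le_layer (Γ := ↥Cb) ?_)
    · have hpc : Cfsg.IsPComponent 2 (K'.subgroupOf Ca') := by
        refine Components.isPComponent_of_isComponent hKc fun hle => ?_
        have h1 : 2 ∣ Nat.card ↥(K'.subgroupOf Ca') := by
          rw [Nat.card_congr (Subgroup.subgroupOfEquivOfLe hK'a).toEquiv,
            Nat.card_congr (Subgroup.subgroupOfEquivOfLe hKb).toEquiv]
          exact hK2
        exact Nat.Prime.not_coprime_iff_dvd.mpr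
          ⟨2, Nat.prime_two, h1.trans (Subgroup.card_dvd_of_le hle), dvd_rfl⟩ Components.pPrimeCore_coprime
      have hT : IsPGroup 2 ↥(Subgroup.zpowers a') :=
        Components.isPGroup_zpowers_of_pow_eq_one (k := 1) (by rw [pow_one, pow_two]; exact ha'2)
      have hbal := Components.lBalanceTwo hT
      rw [Components.centralizer_zpowers_eq a'] at hbal
      intro k hk
      exact hbal ⟨⟨k, hK'a hk⟩, Components.pComponent_le_pLayer hpc hk, rfl⟩
    · have := hB b hb2
      rw [hO, le_bot_iff, Subgroup.map_eq_bot_iff_of_injective _ Cb.subtype_injective] at this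
      exact this
  obtain ⟨D, hD, hKD⟩ := exists_component_orbit ha'2 hK'a hKc hKE
  set σ := (MulAut.conj a').toMonoidHom with hσ
  set Dg := D.map Cb.subtype with hDg
  have hDgb : Dg ≤ Cb := Subgroup.map_subtype_le _
  have hDgsub : Dg.subgroupOf Cb = D :=
    Subgroup.comap_map_eq_self_of_injective Cb.subtype_injective _
  obtain ⟨hmax1, hmax2⟩ := hmax b hb2 Dg hDgb (hDgsub.symm ▸ hD)
  have hcardD : Nat.card ↥Dg = Nat.card ↥D := Subgroup.card_map_of_injective Cb.subtype_injective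
  have hcardK : Nat.card ↥K' = Nat.card ↥K := Nat.card_congr (Subgroup.subgroupOfEquivOfLe hKb).toEquiv
  by_cases hfix : D.map σ = D
  · rw [hfix, sup_idem] at hKD
    have : K' = D := Subgroup.eq_of_le_of_card_ge hKD (by rw [hcardK, ← hcardD]; exact hmax1)
    exact this ▸ hD
  exfalso
  obtain ⟨δ, hδ, hδr⟩ := exists_diag ha'2 hD hfix
  have hK'perf : ⁅K', K'⁆ = K' := by
    have := congrArg (Subgroup.map Ca'.subtype) (Components.isComponent_commutator_eq_self hKc)
    rwa [Subgroup.map_commutator, Subgroup.map_subgroupOf_eq_of_le hK'a] at this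
  have hKr := hδr K' hKD hK'a hK'perf
  have hrc : Nat.card ↥δ.range ≤ Nat.card ↥D :=
    Nat.card_le_card_of_surjective _ δ.rangeRestrict_surjective
  have heq : K' = δ.range := Subgroup.eq_of_le_of_card_ge hKr (by rw [hcardK]; omega)
  have hcardeq : Nat.card ↥Dg = Nat.card ↥K := by
    have := Subgroup.card_le_of_le hKr
    omega
  have hδi : Function.Injective δ := by
    have h1 : Nat.card ↥δ.range = Nat.card ↥D := by rw [← heq, hcardK, ← hcardeq, hcardD]
    have hbij := Function.Surjective.bijective_of_nat_card_le δ.rangeRestrict_surjective h1.ge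
    exact fun x y h => hbij.injective (Subtype.ext h)
  -- the stabilizer of `D` in `B`
  have hBCb : B ≤ Cb := fun x hx => Subgroup.mem_centralizer_singleton_iff.mpr (hBB x hx b hb)
  set B' := B.subgroupOf Cb with hB'
  set B0 := B' ⊓ Subgroup.normalizer (D : Set ↥Cb) with hB0
  have hua : ∀ u ∈ B', u * a' = a' * u := fun u hu => Subtype.ext (hBB _ hu a haB)
  have huK : ∀ u ∈ B', ∀ k ∈ K', u * k = k * u := fun u hu k hk =>
    Subtype.ext ((Subgroup.mem_centralizer_iff.mp (hBle hu).2 _ hk).symm)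
  have hstab : ∀ u ∈ B', u ∈ Subgroup.normalizer (D : Set ↥Cb) ∨
      u * a' ∈ Subgroup.normalizer (D : Set ↥Cb) := by
    intro u hu
    set Du := D.map (MulAut.conj u).toMonoidHom with hDu
    have hDuc : Cfsg.IsComponent Du := Components.isComponent_conj u hD
    by_cases h1 : Du = D
    · exact Or.inl (Components.mem_normalizer_of_conj_le h1.le)
    by_cases h2 : Du = D.map σ
    · right
      refine Components.mem_normalizer_of_conj_le (le_of_eq ?_)
      rw [hua u hu, ← Components.conj_map_comp, ← hDu, h2, hσ, Components.conj_map_comp, ha'2,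
        Components.conj_map_one]
    exfalso
    have hDau : (D.map σ).map (MulAut.conj u).toMonoidHom = Du.map σ := by
      rw [hσ, hDu, Components.conj_map_comp, Components.conj_map_comp, hua u hu]
    have hσσ : ∀ L : Subgroup ↥Cb, (L.map σ).map σ = L := fun L => by
      rw [hσ, Components.conj_map_comp, ha'2, Components.conj_map_one]
    have hK'u : K' ≤ Du ⊔ Du.map σ := by
      intro k hk
      have hm : k ∈ (D ⊔ D.map σ).map (MulAut.conj u).toMonoidHom := ⟨k, hKD hk, by
        simp only [MulEquiv.coe_toMonoidHom, MulAut.conj_apply]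
        rw [huK u hu k hk, mul_inv_cancel_right]⟩
      rwa [Subgroup.map_sup, hDau, ← hDu] at hm
    have hc : ∀ L M : Subgroup ↥Cb, Cfsg.IsComponent L → Cfsg.IsComponent M → L ≠ M →
        L ≤ Subgroup.centralizer (M : Set ↥Cb) := fun L M hL hM h =>
      Subgroup.commutator_eq_bot_iff_le_centralizer.mp
        ((Components.component_eq_or_commute hL hM).resolve_left h)
    have hDa := Components.isComponent_conj a' hD
    have hDua := Components.isComponent_conj a' hDuc
    have h3 : Du.map σ ≠ D.map σ := fun h => h1 (by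
      have := congrArg (Subgroup.map σ) h
      rwa [hσσ, hσσ] at this)
    have h4 : Du.map σ ≠ D := fun h => h2 (by
      have := congrArg (Subgroup.map σ) h
      rwa [hσσ] at this)
    have hcen : K' ≤ Subgroup.centralizer (K' : Set ↥Cb) := by
      refine hK'u.trans (le_trans ?_ (Subgroup.centralizer_le hKD))
      rw [Subgroup.le_centralizer_iff]
      refine sup_le (Subgroup.le_centralizer_iff.mp (sup_le (hc _ _ hDuc hD h1) (hc _ _ hDua hD h4)))
        (Subgroup.le_centralizer_iff.mp (sup_le (hc _ _ hDuc hDa h2) (hc _ _ hDua hDa h3)))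
    refine Components.isComponent_ne_bot hKc ?_
    rw [← hK'perf, Subgroup.commutator_eq_bot_iff_le_centralizer.mpr hcen]
    exact Subgroup.bot_subgroupOf _
  have hB0le : Nat.card ↥B' ≤ 2 * Nat.card ↥B0 := by
    have ha'B : a' ∈ B' := haB
    have hsub : (B' : Set ↥Cb) ⊆ (B0 : Set ↥Cb) ∪ (· * a') '' (B0 : Set ↥Cb) := by
      intro u hu
      rcases hstab u hu with h | h
      · exact Or.inl ⟨hu, h⟩
      · exact Or.inr ⟨u * a', ⟨mul_mem hu ha'B, h⟩, by
          change u * a' * a' = u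
          rw [mul_assoc, ha'2, mul_one]⟩
    calc Nat.card ↥B' = (B' : Set ↥Cb).ncard := rfl
      _ ≤ ((B0 : Set ↥Cb) ∪ (· * a') '' (B0 : Set ↥Cb)).ncard := Set.ncard_le_ncard hsub (Set.toFinite _)
      _ ≤ (B0 : Set ↥Cb).ncard + ((· * a') '' (B0 : Set ↥Cb)).ncard := Set.ncard_union_le _ _
      _ ≤ 2 * Nat.card ↥B0 := by
        rw [two_mul]
        exact Nat.add_le_add le_rfl (Set.ncard_image_le (Set.toFinite _))
  have hB0D : ∀ u ∈ B0, ∀ d : ↥D, u * (d : ↥Cb) * u⁻¹ = d := by
    intro u hu d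
    set e : ↥D := ⟨u * (d : ↥Cb) * u⁻¹, (Subgroup.mem_normalizer_iff.mp hu.2 _).mp d.2⟩ with he
    have hua' : Commute u a' := hua u hu.1
    have h1 : δ e = u * δ d * u⁻¹ := by
      rw [hδ, hδ]
      calc u * (d : ↥Cb) * u⁻¹ * (a' * (u * (d : ↥Cb) * u⁻¹) * a'⁻¹)
          = u * (d : ↥Cb) * u⁻¹ * ((a' * u) * (d : ↥Cb) * (a' * u)⁻¹) := by group
        _ = u * (d : ↥Cb) * u⁻¹ * ((u * a') * (d : ↥Cb) * (u * a')⁻¹) := by rw [hua'.eq]
        _ = u * ((d : ↥Cb) * (a' * d * a'⁻¹)) * u⁻¹ := by group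
    have h2 : δ e = δ d := by
      rw [h1, huK u hu.1 (δ d) (heq ▸ ⟨d, rfl⟩), mul_inv_cancel_right]
    exact congrArg Subtype.val (hδi h2)
  -- a four-group in the conjugate component
  have hrk' : ∃ A : Subgroup ↥K, IsMulCommutative A ∧ (∀ x ∈ A, x ^ 2 = 1) ∧ 2 < Nat.card A := by
    by_contra hcon
    refine hrk fun A hA hA2 => ?_
    by_contra hlt
    exact hcon ⟨A, hA, hA2, by simpa using not_le.mp hlt⟩
  obtain ⟨A, hA, hA2, hA3⟩ := hrk'
  let ι : ↥K →* ↥Cb := Subgroup.inclusion hKb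
  set AD := (A.map ι).comap δ with hAD
  let ε : ↥D →* ↥Cb := σ.comp D.subtype
  have hεi : Function.Injective ε := (MulAut.conj a').injective.comp D.subtype_injective
  set V := AD.map ε with hV
  have hVcard : 2 < Nat.card ↥V := by
    rw [Subgroup.card_map_of_injective hεi, ← Subgroup.card_map_of_injective (K := AD) hδi,
      Subgroup.map_comap_eq_self ((show A.map ι ≤ K' from by
        rintro _ ⟨k, -, rfl⟩; exact k.2).trans hKr),
      Subgroup.card_map_of_injective (Subgroup.inclusion_injective hKb)]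
    exact hA3
  have hADel : Cfsg.IsElementaryAbelian 2 AD := by
    haveI := hA
    refine ⟨⟨⟨fun x y => Subtype.ext (hδi ?_)⟩⟩, fun x hx => hδi ?_⟩
    · obtain ⟨u, hu, hu'⟩ := x.2
      obtain ⟨v, hv, hv'⟩ := y.2
      push_cast
      rw [map_mul, map_mul, ← hu', ← hv', ← map_mul, ← map_mul]
      exact congrArg ι (congrArg Subtype.val (IsMulCommutative.is_comm.comm (⟨u, hu⟩ : ↥A) ⟨v, hv⟩))
    · obtain ⟨u, hu, hu'⟩ := hx
      rw [map_pow, ← hu', ← map_pow, hA2 u hu, map_one, map_one]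
  have hVel : Cfsg.IsElementaryAbelian 2 V := by
    haveI := hADel.1
    refine ⟨Subgroup.map_isMulCommutative _ _, ?_⟩
    rintro _ ⟨x, hx, rfl⟩
    rw [← map_pow, hADel.2 x hx, map_one]
  have hVD : V ≤ D.map σ := by
    rintro _ ⟨x, -, rfl⟩
    exact ⟨(x : ↥Cb), x.2, rfl⟩
  have hB0el : Cfsg.IsElementaryAbelian 2 B0 :=
    ⟨⟨⟨fun x y => Subtype.ext (Subtype.ext (hBB _ x.2.1 _ y.2.1))⟩⟩,
      fun x hx => Subtype.ext (hBel.2 _ hx.1)⟩
  have hB0V : B0 ≤ Subgroup.centralizer (V : Set ↥Cb) := by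
    intro u hu
    refine Subgroup.mem_centralizer_iff.mpr fun v hv => ?_
    obtain ⟨d, hd, rfl⟩ := hVD hv
    have h1 : u * d = d * u := mul_inv_eq_iff_eq_mul.mp (hB0D u hu ⟨d, hd⟩)
    have h2 : Commute u a' := hua u hu.1
    exact ((h2.mul_right (show Commute u d from h1)).mul_right h2.inv_right).eq.symm
  have hinf : B0 ⊓ V = ⊥ := by
    rw [eq_bot_iff]
    rintro v ⟨hv0, hv⟩
    obtain ⟨x, -, rfl⟩ := hv
    have hfixv : a' * (ε x) * a'⁻¹ = ε x := by rw [← hua _ hv0.1, mul_inv_cancel_right]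
    have hxe : (x : ↥Cb) = ε x := by
      have h3 : a' * ((x : ↥Cb)) * a'⁻¹ = ε x := rfl
      calc (x : ↥Cb) = a'⁻¹ * (a' * (x : ↥Cb) * a'⁻¹) * a' := by group
        _ = a'⁻¹ * (a' * ε x * a'⁻¹) * a' := by rw [h3, hfixv]
        _ = ε x := by group
    have h4 : δ x = 1 := by
      rw [hδ, show a' * (x : ↥Cb) * a'⁻¹ = ε x from rfl, ← hxe]
      have h5 : (ε x) ^ 2 = 1 := hB0el.2 _ hv0
      rw [← hxe, pow_two] at h5
      exact h5
    rw [← map_one δ] at h4
    rw [hδi h4, map_one]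
    exact Subgroup.one_mem _
  set S := B0 ⊔ V with hS
  have hSel := elementary_sup hB0el hVel hB0V
  have hScard : Nat.card ↥B0 * Nat.card ↥V = Nat.card ↥S := by
    have h := Basics.card_mul_card_eq_card_sup_mul_card_inf
      (N := B0) (H := V) (Subgroup.le_centralizer_iff.mp hB0V |>.trans (Subgroup.centralizer_le_normalizer _))
    rw [hinf, Subgroup.card_bot, mul_one] at h
    exact h
  have hSD : S ≤ Subgroup.centralizer (D : Set ↥Cb) := by
    refine sup_le ?_ (hVD.trans ?_)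
    · intro u hu
      exact Subgroup.mem_centralizer_iff.mpr fun d hd =>
        (mul_inv_eq_iff_eq_mul.mp (hB0D u hu ⟨d, hd⟩)).symm
    · exact Subgroup.commutator_eq_bot_iff_le_centralizer.mp
        ((Components.component_eq_or_commute (Components.isComponent_conj a' hD) hD).resolve_left hfix)
  set Z := Subgroup.centralizer ({b} : Set G) ⊓ Subgroup.centralizer (Dg : Set G) with hZ
  have hSZ : S.map Cb.subtype ≤ Z := by
    rintro _ ⟨s, hs, rfl⟩
    refine ⟨s.2, Subgroup.mem_centralizer_iff.mpr ?_⟩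
    rintro _ ⟨d, hd, rfl⟩
    exact congrArg Subtype.val (Subgroup.mem_centralizer_iff.mp (hSD hs) d hd)
  obtain ⟨k, hk⟩ := (show IsPGroup 2 ↥B from fun x => ⟨1, Subtype.ext (by
    rw [pow_one, SubmonoidClass.coe_pow, hBel.2 x x.2, OneMemClass.coe_one])⟩).exists_card_eq
  have hle := hmax2 hcardeq k (fun A hA hA2 => by
    rw [← hk, ← Subgroup.card_map_of_injective (K := A) (Subgroup.subtype_injective _)]
    haveI := hA
    refine hBmax _ (Subgroup.map_subtype_le _) ⟨Subgroup.map_isMulCommutative _ _, ?_⟩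
    rintro _ ⟨x, hx, rfl⟩
    rw [← map_pow, hA2 x hx, map_one]) ((S.map Cb.subtype).subgroupOf Z)
    (by
      haveI := hSel.1
      haveI : IsMulCommutative ↥(S.map Cb.subtype) := Subgroup.map_isMulCommutative _ _
      refine ⟨⟨fun x y => Subtype.ext (Subtype.ext ?_)⟩⟩
      have := congrArg Subtype.val (IsMulCommutative.is_comm.comm
        (⟨((x : ↥Z) : G), x.2⟩ : ↥(S.map Cb.subtype)) ⟨((y : ↥Z) : G), y.2⟩)
      simpa using this)
    (fun x hx => by
      obtain ⟨s, hs, hs'⟩ := hx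
      apply Subtype.ext
      rw [SubmonoidClass.coe_pow, show ((x : ↥Z) : G) = Cb.subtype s from hs'.symm, ← map_pow,
        hSel.2 s hs, map_one, OneMemClass.coe_one])
  rw [Nat.card_congr (Subgroup.subgroupOfEquivOfLe hSZ).toEquiv,
    Subgroup.card_map_of_injective Cb.subtype_injective, ← hScard, ← hk,
    ← Nat.card_congr (Subgroup.subgroupOfEquivOfLe hBCb).toEquiv, ← hB'] at hle
  have h3 : Nat.card ↥B0 * 3 ≤ Nat.card ↥B0 * Nat.card ↥V := Nat.mul_le_mul_left _ hVcard
  have hpos : 0 < Nat.card ↥B0 := Nat.card_pos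
  omega

end Cfsg.Agent.S1305
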