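import Cfsg.Statements.S1306
import Cfsg.Agent.Lib.Components.Layer

set_option autoImplicit false
open Cfsg

namespace Cfsg.Agent.S1306

open scoped commutatorElement
open Subgroup

theorem conj_component {G : Type*} [Group G] [Finite G] {L : Subgroup G}
    (hne : ∀ y : G, orderOf y = 2 → y ∈ centralizer (L : Set G) →
      L ≤ centralizer ({y} : Set G) ∧ Cfsg.IsComponent (L.subgroupOf (centralizer ({y} : Set G))))
    (hnc : ∀ g : G, L.map (MulAut.conj g).toMonoidHom ≠ L →
      ⁅L, L.map (MulAut.conj g).toMonoidHom⁆ ≠ ⊥) {g y : G} (hy : orderOf y = 2)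
    (h1 : y ∈ centralizer (L : Set G)) (h2 : g⁻¹ * y * g ∈ centralizer (L : Set G)) :
    L.map (MulAut.conj g).toMonoidHom = L := by
  obtain ⟨hle, hcomp⟩ := hne y hy h1
  have hy' : orderOf (g⁻¹ * y * g) = 2 := by
    rw [show g⁻¹ * y * g = MulAut.conj g⁻¹ y by simp, MulEquiv.orderOf_eq]; exact hy
  obtain ⟨hle', hcomp'⟩ := hne _ hy' h2
  set C := centralizer ({y} : Set G)
  set C' := centralizer ({g⁻¹ * y * g} : Set G)
  have hCC : C'.map (MulAut.conj g).toMonoidHom = C := by
    ext z
    constructor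
    · rintro ⟨w, hw, rfl⟩
      have hw' : Commute w (g⁻¹ * y * g) := mem_centralizer_singleton_iff.mp hw
      rw [mem_centralizer_singleton_iff]
      simp only [MulEquiv.coe_toMonoidHom, MulAut.conj_apply]
      calc g * w * g⁻¹ * y = g * (w * (g⁻¹ * y * g)) * g⁻¹ := by group
        _ = g * ((g⁻¹ * y * g) * w) * g⁻¹ := by rw [hw'.eq]
        _ = y * (g * w * g⁻¹) := by group
    · intro hz
      have hz' : Commute z y := mem_centralizer_singleton_iff.mp hz
      refine ⟨g⁻¹ * z * g, ?_, by simp [mul_assoc]⟩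
      rw [SetLike.mem_coe, mem_centralizer_singleton_iff]
      calc g⁻¹ * z * g * (g⁻¹ * y * g) = g⁻¹ * (z * y) * g := by group
        _ = g⁻¹ * (y * z) * g := by rw [hz'.eq]
        _ = g⁻¹ * y * g * (g⁻¹ * z * g) := by group
  let e : ↥C' ≃* ↥C := ((MulAut.conj g).subgroupMap C').trans (MulEquiv.subgroupCongr hCC)
  have hle2 : L.map (MulAut.conj g).toMonoidHom ≤ C := hCC ▸ Subgroup.map_mono hle'
  have he : (L.subgroupOf C').map e.toMonoidHom = (L.map (MulAut.conj g).toMonoidHom).subgroupOf C := by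
    apply map_injective C.subtype_injective
    rw [map_map, map_subgroupOf_eq_of_le hle2]
    conv_rhs => rw [← map_subgroupOf_eq_of_le hle', map_map]
    rfl
  have hcomp2 := he ▸ Components.isComponent_map_equiv e hcomp'
  rcases Components.component_eq_or_commute hcomp hcomp2 with h | h
  · have := congrArg (fun K : Subgroup ↥C => K.map C.subtype) h
    simp only [map_subgroupOf_eq_of_le hle, map_subgroupOf_eq_of_le hle2] at this
    exact this.symm
  · by_contra hg
    exact hnc g hg ((Components.commutator_subgroupOf_eq_bot_iff hle hle2).mp h)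

/-- Let G be finite, x an involution and L ≤ C_G(x) a component of C_G(x). Suppose L is a component of C_G(y) for every involution y ∈ C_G(L), and ⁅L, g L g⁻¹⁆ ≠ 1 whenever g L g⁻¹ ≠ L. Then L is a standard subgroup of G. -/
theorem result {G : Type*} [Group G] [Finite G] (x : G) (hx : orderOf x = 2) (L : Subgroup G) (hLx : L ≤ Subgroup.centralizer ({x} : Set G)) (hL : Cfsg.IsComponent (L.subgroupOf (Subgroup.centralizer ({x} : Set G)))) (hne : ∀ y : G, orderOf y = 2 → y ∈ Subgroup.centralizer (L : Set G) → L ≤ Subgroup.centralizer ({y} : Set G) ∧ Cfsg.IsComponent (L.subgroupOf (Subgroup.centralizer ({y} : Set G)))) (hnc : ∀ g : G, L.map (MulAut.conj g).toMonoidHom ≠ L → ⁅L, L.map (MulAut.conj g).toMonoidHom⁆ ≠ ⊥) : Cfsg.IsStandardSubgroup L := by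
  have hq : Cfsg.IsQuasisimple ↥L :=
    Components.qs_of_equiv hL.2 (Subgroup.subgroupOfEquivOfLe hLx)
  have hxC : x ∈ centralizer (L : Set G) := mem_centralizer_iff.mpr fun l hl =>
    mem_centralizer_singleton_iff.mp (hLx hl)
  have hnorm : ∀ g : G, g ∈ normalizer (L : Set G) → g ∈ normalizer (centralizer (L : Set G) : Set G) := by
    intro g hg
    have key : ∀ g ∈ normalizer (L : Set G), ∀ z ∈ centralizer (L : Set G),
        g * z * g⁻¹ ∈ centralizer (L : Set G) := by
      intro g hg z hz
      rw [mem_centralizer_iff]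
      intro s hs
      have := mem_centralizer_iff.mp hz _ ((mem_normalizer_iff.mp (inv_mem hg) s).mp hs)
      simp only [inv_inv] at this
      calc s * (g * z * g⁻¹) = g * (g⁻¹ * s * g * z) * g⁻¹ := by group
        _ = g * (z * (g⁻¹ * s * g)) * g⁻¹ := by rw [this]
        _ = g * z * g⁻¹ * s := by group
    rw [mem_normalizer_iff]
    intro z
    refine ⟨key g hg z, fun h => ?_⟩
    have := key g⁻¹ (inv_mem hg) _ h
    simpa [mul_assoc] using this
  refine ⟨hq, ⟨?_, fun g hg => ?_⟩, hnc, le_antisymm (fun g hg => hnorm g hg) (fun g hg => ?_)⟩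
  · rw [even_iff_two_dvd, ← hx]
    exact Subgroup.orderOf_dvd_natCard _ hxC
  · rw [← Nat.not_even_iff_odd, even_iff_two_dvd]
    intro h
    haveI : Fact (Nat.Prime 2) := ⟨Nat.prime_two⟩
    obtain ⟨⟨y, hy⟩, hy2⟩ := exists_prime_orderOf_dvd_card' 2 h
    rw [← Subgroup.orderOf_coe] at hy2
    refine hg (hnorm g (Components.mem_normalizer_of_map_conj_eq (conj_component hne hnc hy2 hy.1 ?_)))
    obtain ⟨c, hc, hcy⟩ := hy.2
    have : g⁻¹ * y * g = c := by
      change g⁻¹ * y * g = c
      rw [show y = g * c * g⁻¹ from hcy.symm]; group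
    rw [this]; exact hc
  · refine Components.mem_normalizer_of_map_conj_eq (conj_component hne hnc hx hxC ?_)
    have := (mem_normalizer_iff.mp (inv_mem hg) x).mp hxC
    simpa using this

end Cfsg.Agent.S1306
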