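import Cfsg.Statements.S1307
import Cfsg.Agent.Lib.Components.Layer
import Cfsg.Agent.Lib.InvChar.OneSubgroup
import Cfsg.Agent.S0225

set_option autoImplicit false
open Cfsg

namespace Cfsg.Agent.S1307

/-- Cyclic Sylow 2-subgroups do not occur in perfect groups of even order. -/
theorem not_cyclic_sylow_two {H : Type*} [Group H] [Finite H] (hperf : commutator H = ⊤)
    (heven : Even (Nat.card H)) (S : Sylow 2 H) : ¬ IsCyclic S := by
  intro hc
  haveI : Fact (Nat.Prime 2) := ⟨Nat.prime_two⟩
  have hne : Nat.card H ≠ 1 := fun h => by rw [h] at heven; exact absurd heven (by decide)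
  have hmin : (Nat.card H).minFac = 2 := (Nat.minFac_eq_two_iff _).mpr heven.two_dvd
  set f := MonoidHom.transferSylow S (hc.normalizer_le_centralizer hmin) with hf
  have hcompl : f.ker.IsComplement' (S : Subgroup H) := hc.isComplement' hmin
  haveI : IsMulCommutative (S : Subgroup H) := hc.isMulCommutative
  have h1 : commutator H ≤ f.ker := by
    rw [commutator_def, Subgroup.commutator_le]
    intro a _ b _
    rw [MonoidHom.mem_ker, map_commutatorElement]
    exact commutatorElement_eq_one_iff_commute.mpr (mul_comm' (f a) (f b))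
  rw [hperf, top_le_iff] at h1
  have h2 := hcompl.card_mul
  rw [h1, Subgroup.card_top] at h2
  have h3 : Nat.card (S : Subgroup H) = 1 :=
    Nat.eq_of_mul_eq_mul_left (Nat.card_pos (α := H)) (h2.trans (mul_one _).symm)
  exact absurd heven.two_dvd (by
    intro hd
    have h4 := S.card_eq_multiplicity
    rw [h3] at h4
    have h5 : 1 ≤ (Nat.card H).factorization 2 :=
      Nat.Prime.factorization_pos_of_dvd Nat.prime_two Nat.card_pos.ne' hd
    have h6 : 2 ^ 1 ≤ 2 ^ (Nat.card H).factorization 2 := Nat.pow_le_pow_right (by norm_num) h5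
    omega)

/-- A quasisimple group of even order and 2-rank 1 has a central involution. -/
theorem exists_central_involution {H : Type*} [Group H] [Finite H] (hq : Cfsg.IsQuasisimple H)
    (heven : Even (Nat.card H)) (hrk : Cfsg.PRankLE 2 1 H) :
    ∃ z ∈ Subgroup.center H, orderOf z = 2 := by
  have hk : ∀ E : Subgroup H, ¬ IsKleinFour E := by
    intro E hE
    have hc : IsMulCommutative E := ⟨⟨fun a b => mul_comm_of_exponent_two IsKleinFour.exponent_two a b⟩⟩
    have := hrk E hc (fun a ha => by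
      have := Monoid.pow_exponent_eq_one (⟨a, ha⟩ : E)
      rw [IsKleinFour.exponent_two] at this
      exact congrArg Subtype.val this)
    rw [IsKleinFour.card_four] at this
    norm_num at this
  obtain ⟨z, hz, N, hN, hodd, hcomm⟩ := Cfsg.Agent.S0225.result heven hk
  refine ⟨z, ?_, hz⟩
  haveI := hN
  rcases Components.qs_normal_cases hq N with hT | hle
  · rw [hT, Subgroup.card_top] at hodd
    exact absurd heven (Nat.not_even_iff_odd.mpr hodd)
  · let f : H →* Subgroup.center H :=
      { toFun := fun g => ⟨z * g * z⁻¹ * g⁻¹, hle (hcomm g)⟩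
        map_one' := Subtype.ext (by simp)
        map_mul' := fun a b => Subtype.ext (by
          have h := Subgroup.mem_center_iff.mp (hle (hcomm b)) a
          calc z * (a * b) * z⁻¹ * (a * b)⁻¹
              = z * a * z⁻¹ * ((z * b * z⁻¹ * b⁻¹) * a⁻¹) := by group
            _ = (z * a * z⁻¹ * a⁻¹) * (a * (z * b * z⁻¹ * b⁻¹) * a⁻¹) := by group
            _ = (z * a * z⁻¹ * a⁻¹) * (z * b * z⁻¹ * b⁻¹) := by rw [h]; group) }
    have hker : commutator H ≤ f.ker := by
      rw [commutator_def, Subgroup.commutator_le]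
      intro a _ b _
      rw [MonoidHom.mem_ker, map_commutatorElement]
      exact commutatorElement_eq_one_iff_commute.mpr (mul_comm' (f a) (f b))
    rw [Components.qs_perfect hq, top_le_iff] at hker
    rw [Subgroup.mem_center_iff]
    intro g
    have hg : f g = 1 := by rw [← MonoidHom.mem_ker, hker]; trivial
    have hg' : z * g * z⁻¹ * g⁻¹ = 1 := congrArg Subtype.val hg
    rw [mul_inv_eq_one, mul_inv_eq_iff_eq_mul] at hg'
    exact hg'.symm

/-- A group of 2-rank at most 1 has generalized quaternion or cyclic Sylow 2-subgroups. -/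
theorem sylow_two_of_rank_one {H : Type*} [Group H] [Finite H] (hrk : Cfsg.PRankLE 2 1 H)
    (S : Sylow 2 H) :
    IsCyclic S ∨ ∃ n : ℕ, Nonempty (↥(S : Subgroup H) ≃* QuaternionGroup (2 ^ n)) := by
  haveI : Fact (Nat.Prime 2) := ⟨Nat.prime_two⟩
  refine (InvChar.cyclic_or_quaternion S.isPGroup' (fun A B hA hB => ?_)).imp id And.right
  obtain ⟨a, ha⟩ := exists_prime_orderOf_dvd_card' (G := A) 2 (by rw [hA])
  haveI : Nontrivial (S : Subgroup H) := ⟨⟨(a : (S : Subgroup H)), 1, fun h => by
    rw [OneMemClass.coe_eq_one.mp h, orderOf_one] at ha; exact absurd ha (by norm_num)⟩⟩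
  haveI := S.isPGroup'.center_nontrivial
  obtain ⟨w, hw⟩ := exists_prime_orderOf_dvd_card' (G := Subgroup.center (S : Subgroup H)) 2
    (((S.isPGroup'.to_subgroup _).card_eq_or_dvd).resolve_left Finite.one_lt_card.ne')
  suffices key : ∀ C : Subgroup (S : Subgroup H), Nat.card C = 2 →
      C = Subgroup.zpowers (w : (S : Subgroup H)) by rw [key A hA, key B hB]
  intro C hC
  have hwc : Nat.card (Subgroup.zpowers (w : (S : Subgroup H))) = 2 := by
    rw [Nat.card_zpowers, Subgroup.orderOf_coe, hw]
  have hw2 : (w : (S : Subgroup H)) ^ 2 = 1 := by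
    exact orderOf_dvd_iff_pow_eq_one.mp (by rw [Subgroup.orderOf_coe, hw])
  set D := C ⊔ Subgroup.zpowers (w : (S : Subgroup H)) with hD
  have hC2 : ∀ c ∈ C, c ^ 2 = 1 := fun c hc => by
    have h := pow_card_eq_one' (x := (⟨c, hc⟩ : C))
    rw [hC] at h
    exact congrArg Subtype.val h
  have hmem : ∀ d ∈ D, ∃ c ∈ C, ∃ k : ℤ, c * (w : (S : Subgroup H)) ^ k = d := by
    intro d hd
    haveI : (Subgroup.zpowers (w : (S : Subgroup H))).Normal :=
      ⟨fun n hn g => by
        obtain ⟨k, rfl⟩ := hn
        have := Subgroup.mem_center_iff.mp (Subgroup.zpow_mem _ w.2 k) g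
        simp only [this, mul_inv_cancel_right]
        exact Subgroup.zpow_mem _ (Subgroup.mem_zpowers _) k⟩
    rw [hD, ← SetLike.mem_coe, Subgroup.mul_normal] at hd
    obtain ⟨c, hc, _, ⟨k, rfl⟩, rfl⟩ := hd
    exact ⟨c, hc, k, rfl⟩
  have hcc : ∀ (c : (S : Subgroup H)) (k : ℤ),
      Commute c ((w : (S : Subgroup H)) ^ k) := fun c k =>
    Subgroup.mem_center_iff.mp (Subgroup.zpow_mem _ w.2 k) c
  haveI hCc : IsMulCommutative C := by
    haveI : IsCyclic C := isCyclic_of_prime_card hC
    infer_instance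
  let ι : (S : Subgroup H) →* H := (S : Subgroup H).subtype
  have hcard := hrk (D.map ι) ⟨⟨by
      rintro ⟨_, d, hd, rfl⟩ ⟨_, e, he, rfl⟩
      refine Subtype.ext ?_
      show ι d * ι e = ι e * ι d
      rw [← map_mul, ← map_mul]
      congr 1
      obtain ⟨c, hc, k, rfl⟩ := hmem d hd
      obtain ⟨c', hc', l, rfl⟩ := hmem e he
      have h0 : Commute c c' := congrArg Subtype.val (mul_comm' (⟨c, hc⟩ : C) ⟨c', hc'⟩)
      exact ((h0.mul_right (hcc c l)).mul_left ((hcc c' k).symm.mul_right
        ((Commute.refl (w : (S : Subgroup H))).zpow_zpow k l))).eq⟩⟩ (by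
      rintro _ ⟨d, hd, rfl⟩
      obtain ⟨c, hc, k, rfl⟩ := hmem d hd
      have : (c * (w : (S : Subgroup H)) ^ k) ^ 2 = 1 := by
        rw [(hcc c k).mul_pow, hC2 c hc, one_mul, ← zpow_natCast, ← zpow_mul, mul_comm k, zpow_mul,
          zpow_natCast, hw2, one_zpow]
      rw [← map_pow, this, map_one])
  rw [Subgroup.card_map_of_injective (Subgroup.subtype_injective _), pow_one] at hcard
  have h1 : C = D := Subgroup.eq_of_le_of_card_ge le_sup_left (by rw [hC]; exact hcard)
  have h2 : Subgroup.zpowers (w : (S : Subgroup H)) = D :=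
    Subgroup.eq_of_le_of_card_ge le_sup_right (by rw [hwc]; exact hcard)
  rw [h2, ← h1]

/-- Let G be finite, x an involution and L ≤ C_G(x) a component of C_G(x) of even order and 2-rank 1, such that L is a component of C_G(y) for every involution y ∈ C_G(L). Then some involution of L is a classical involution of G. -/
theorem result {G : Type*} [Group G] [Finite G] (x : G) (hx : orderOf x = 2) (L : Subgroup G) (hLx : L ≤ Subgroup.centralizer ({x} : Set G)) (hL : Cfsg.IsComponent (L.subgroupOf (Subgroup.centralizer ({x} : Set G)))) (heven : Even (Nat.card ↥L)) (hrk : Cfsg.PRankLE 2 1 ↥L) (hne : ∀ y : G, orderOf y = 2 → y ∈ Subgroup.centralizer (L : Set G) → L ≤ Subgroup.centralizer ({y} : Set G) ∧ Cfsg.IsComponent (L.subgroupOf (Subgroup.centralizer ({y} : Set G)))) : ∃ t ∈ L, Cfsg.IsClassicalInvolution t := by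
  haveI : Fact (Nat.Prime 2) := ⟨Nat.prime_two⟩
  have hq : Cfsg.IsQuasisimple ↥L :=
    (Components.isQuasisimple_congr (Subgroup.subgroupOfEquivOfLe hLx)).mp hL.2
  obtain ⟨z, hzc, hz⟩ := exists_central_involution hq heven hrk
  have hz' : orderOf (z : G) = 2 := by rw [Subgroup.orderOf_coe, hz]
  have hzC : (z : G) ∈ Subgroup.centralizer (L : Set G) :=
    Subgroup.mem_centralizer_iff.mpr fun g hg =>
      congrArg Subtype.val (Subgroup.mem_center_iff.mp hzc ⟨g, hg⟩)
  obtain ⟨hle, hcomp⟩ := hne (z : G) hz' hzC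
  refine ⟨z, z.2, hz', L, hle, z.2, hcomp.1, ?_⟩
  obtain ⟨S⟩ : Nonempty (Sylow 2 ↥L) := inferInstance
  refine ⟨S, ?_⟩
  have hnc := not_cyclic_sylow_two (Components.qs_perfect hq) heven S
  rcases sylow_two_of_rank_one hrk S with h | ⟨n, ⟨e⟩⟩
  · exact absurd h hnc
  · obtain _ | m := n
    · haveI := QuaternionGroup.quaternionGroup_one_isCyclic
      exact absurd (isCyclic_of_surjective e.symm e.symm.surjective) hnc
    · exact ⟨m, ⟨e⟩⟩

end Cfsg.Agent.S1307
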