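import Cfsg.Statements.S1313
import Cfsg.Agent.Lib.Components.FStar

set_option autoImplicit false
open Cfsg

namespace Cfsg.Agent.S1313

open scoped commutatorElement
open Subgroup

theorem card_mulAut_le {F : Type*} [Group F] [Finite F] :
    Nat.card (MulAut F) ≤ (Nat.card F - 1).factorial := by
  classical
  haveI := Fintype.ofFinite F
  let g : MulAut F → Equiv.Perm {x : F // x ≠ 1} := fun φ =>
    φ.toEquiv.subtypeEquiv (fun x => (map_ne_one_iff φ φ.injective).symm)
  have hg : Function.Injective g := by
    intro φ ψ h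
    apply MulEquiv.ext
    intro x
    rcases eq_or_ne x 1 with rfl | hx
    · simp
    · exact congrArg Subtype.val (Equiv.congr_fun h ⟨x, hx⟩)
  refine (Nat.card_le_card_of_injective g hg).trans ?_
  rw [Nat.card_perm]
  simp [Nat.card_eq_fintype_card]

/-- For a finite group H, |H| ≤ |F*(H)|!. -/
theorem result {H : Type*} [Group H] [Finite H] : Nat.card H ≤ Nat.factorial (Nat.card ↥(Cfsg.generalizedFittingSubgroup H)) := by
  set F := Cfsg.generalizedFittingSubgroup H
  haveI : F.Normal := Components.fStar_normal
  let f : H →* MulAut ↥F := MulAut.conjNormal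
  have hker : f.ker ≤ centralizer (F : Set H) := by
    intro g hg
    rw [mem_centralizer_iff]
    intro x hx
    have h1 := congrArg (fun φ : MulAut ↥F => ((φ ⟨x, hx⟩ : ↥F) : H)) (MonoidHom.mem_ker.mp hg)
    simp only [f, MulAut.conjNormal_apply] at h1
    simp only [MulAut.one_apply] at h1
    exact (mul_inv_eq_iff_eq_mul.mp h1).symm
  have h1 : Nat.card f.ker ≤ Nat.card ↥F :=
    Subgroup.card_le_of_le (hker.trans Components.centralizer_fStar_le)
  have h2 : Nat.card (MulAut ↥F) ≤ (Nat.card ↥F - 1).factorial := card_mulAut_le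
  have h3 : f.ker.index ≤ Nat.card (MulAut ↥F) := by
    rw [Subgroup.index_ker]
    exact Nat.card_le_card_of_injective _ Subtype.val_injective
  calc Nat.card H = Nat.card f.ker * f.ker.index := (card_mul_index f.ker).symm
    _ ≤ Nat.card ↥F * (Nat.card ↥F - 1).factorial := Nat.mul_le_mul h1 (h3.trans h2)
    _ = (Nat.card ↥F).factorial := Nat.mul_factorial_pred Nat.card_pos.ne'

end Cfsg.Agent.S1313
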