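import Cfsg.Statements.S1314
import Cfsg.Agent.Lib.Components.Subnormal

set_option autoImplicit false
open Cfsg

namespace Cfsg.Agent.S1314

open scoped commutatorElement
open Subgroup

/-- Let x be an involution of a group G and L a perfect subgroup with ⁅L, x L x⁻¹⁆ = 1. Then l ↦ l (x l x⁻¹) is a group homomorphism π from L to G whose kernel is central in L and whose image lies in C_G(x); and the commutator subgroup of C_{L ⊔ xLx⁻¹}(x) equals the image of π. -/
theorem result {G : Type*} [Group G] [Finite G] (x : G) (hx : orderOf x = 2) (L : Subgroup G) (hperf : ⁅L, L⁆ = L) (hcomm : ⁅L, L.map (MulAut.conj x).toMonoidHom⁆ = ⊥) : ∃ π : ↥L →* G, (∀ l : ↥L, π l = (l : G) * (x * (l : G) * x⁻¹)) ∧ π.ker ≤ Subgroup.center ↥L ∧ π.range ≤ Subgroup.centralizer ({x} : Set G) ∧ ⁅(L ⊔ L.map (MulAut.conj x).toMonoidHom) ⊓ Subgroup.centralizer ({x} : Set G), (L ⊔ L.map (MulAut.conj x).toMonoidHom) ⊓ Subgroup.centralizer ({x} : Set G)⁆ = π.range := by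
  set c := (MulAut.conj x).toMonoidHom with hc
  have hcx : ∀ y, c y = x * y * x⁻¹ := fun y => rfl
  have hcc : ∀ y, c (c y) = y := by
    intro y
    have hxx : x * x = 1 := by rw [← pow_two, ← hx, pow_orderOf_eq_one]
    rw [hcx, hcx, ← mul_assoc, ← mul_assoc, hxx, one_mul, mul_assoc, ← mul_inv_rev, hxx, inv_one, mul_one]
  have hL : ∀ a ∈ L, ∀ b ∈ L, a * c b = c b * a := fun a ha b hb =>
    Components.commutator_eq_bot_iff_forall.mp hcomm a ha _ (mem_map_of_mem _ hb)
  let π : ↥L →* G :=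
    { toFun := fun l => (l : G) * c l
      map_one' := by simp
      map_mul' := fun a b => by
        simp only [Subgroup.coe_mul, map_mul]
        rw [mul_assoc (a : G) b, ← mul_assoc (b : G) (c a), hL _ b.2 _ a.2, mul_assoc (c a), ← mul_assoc] }
  refine ⟨π, fun l => rfl, ?_, ?_, ?_⟩
  · intro l hl
    rw [mem_center_iff]
    intro m
    apply Subtype.ext
    have h1 : (l : G) = (c (l : G))⁻¹ := eq_inv_of_mul_eq_one_left hl
    change (m : G) * l = l * m
    rw [h1]
    exact (Commute.inv_right (hL _ m.2 _ l.2)).eq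
  · rintro _ ⟨l, rfl⟩
    rw [mem_centralizer_singleton_iff]
    have h1 : c ((l : G) * c l) = (l : G) * c l := by
      rw [map_mul, hcc, hL _ l.2 _ l.2]
    exact (mul_inv_eq_iff_eq_mul.mp h1).symm
  · set D := (L ⊔ L.map c) ⊓ centralizer ({x} : Set G) with hD
    have hLsup : L ⊔ L.map c ≤ centralizer ({z | ∀ a ∈ L, a * z = z * a ∧ c a * z = z * c a} : Set G) := by
      refine sup_le ?_ ?_
      · intro a ha
        rw [mem_centralizer_iff]
        exact fun z hz => (hz a ha).1.symm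
      · rintro _ ⟨a, ha, rfl⟩
        rw [mem_centralizer_iff]
        exact fun z hz => (hz a ha).2.symm
    have hrange : π.range ≤ D := by
      rintro _ ⟨l, rfl⟩
      refine mem_inf.mpr ⟨mul_mem (mem_sup_left l.2) (mem_sup_right (mem_map_of_mem c l.2)), ?_⟩
      rw [mem_centralizer_singleton_iff]
      have h1 : c ((l : G) * c l) = (l : G) * c l := by rw [map_mul, hcc, hL _ l.2 _ l.2]
      exact (mul_inv_eq_iff_eq_mul.mp h1).symm
    have hperfR : ⁅π.range, π.range⁆ = π.range := by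
      haveI : Group.IsPerfect ↥L := Subgroup.isPerfect_iff.mpr hperf
      exact Subgroup.isPerfect_iff.mp (Group.IsPerfect.range π)
    refine le_antisymm ?_ (hperfR ▸ commutator_mono hrange hrange)
    -- every element of `D` is an element of the image times a central element
    have hdec : ∀ w ∈ D, ∃ (l : ↥L) (z : G), w = π l * z ∧ ∀ u ∈ L ⊔ L.map c, u * z = z * u := by
      intro w hw
      have hn : L.map c ≤ normalizer (L : Set G) := by
        refine le_trans ?_ (centralizer_le_normalizer _)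
        rw [← commutator_eq_bot_iff_le_centralizer, commutator_comm, hcomm]
      have hw1 : w ∈ ((L ⊔ L.map c : Subgroup G) : Set G) := hw.1
      rw [coe_mul_of_right_le_normalizer_left _ _ hn] at hw1
      obtain ⟨a, ha, _, ⟨b, hb, rfl⟩, rfl⟩ := hw1
      have hfix : c (a * c b) = a * c b := by
        rw [hcx, ← mem_centralizer_singleton_iff.mp hw.2, mul_assoc, mul_inv_cancel, mul_one]
      rw [map_mul, hcc] at hfix
      -- `c a * b = a * c b`
      have hz : c (b⁻¹ * a) = b⁻¹ * a := by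
        rw [map_mul, map_inv]
        have e1 : c a = a * c b * b⁻¹ := eq_mul_inv_of_mul_eq hfix
        rw [e1, mul_assoc a, ← (Commute.inv_left (hL b hb b hb)).eq, ← mul_assoc, ← mul_assoc,
          show (c b)⁻¹ * a * b⁻¹ * c b = (c b)⁻¹ * ((a * b⁻¹) * c b) by group,
          hL _ (mul_mem ha (inv_mem hb)) _ hb, ← mul_assoc, inv_mul_cancel, one_mul]
        -- `a * b⁻¹ = b⁻¹ * a` as `b⁻¹ * a` is central in `L`
        have h2 : c a * b = b * c a := (hL b hb a ha).symm
        rw [e1] at h2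
        calc a * b⁻¹ = b⁻¹ * (b * (a * b⁻¹)) := by group
          _ = b⁻¹ * a := by
            congr 1
            have h3 : a * c b = b * (a * c b * b⁻¹) := by rw [← h2]; group
            have h4 : a = b * (a * b⁻¹) := by
              have h5 : c b * b⁻¹ = b⁻¹ * c b := ((Commute.inv_left (hL b hb b hb)).eq).symm
              rw [mul_assoc a (c b), h5, ← mul_assoc a, ← mul_assoc b] at h3
              exact mul_right_cancel h3
            exact h4.symm
      refine ⟨⟨b, hb⟩, b⁻¹ * a, ?_, fun u hu => ?_⟩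
      · change a * c b = b * c b * (b⁻¹ * a)
        rw [hL b hb b hb, mul_assoc, ← mul_assoc b, mul_inv_cancel, one_mul, hL a ha b hb]
      · have hzmem : b⁻¹ * a ∈ {z | ∀ v ∈ L, v * z = z * v ∧ c v * z = z * c v} := by
          intro v hv
          have hzL : b⁻¹ * a ∈ L := mul_mem (inv_mem hb) ha
          refine ⟨?_, (hL _ hzL v hv).symm⟩
          rw [← hz]
          exact hL v hv _ hzL
        exact (mem_centralizer_iff.mp (hLsup hu) _ hzmem).symm
    rw [commutator_le]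
    intro w₁ hw₁ w₂ hw₂
    obtain ⟨l₁, z₁, rfl, hz₁⟩ := hdec w₁ hw₁
    obtain ⟨l₂, z₂, rfl, hz₂⟩ := hdec w₂ hw₂
    have hm : ∀ l : ↥L, π l ∈ L ⊔ L.map c := fun l => (hrange ⟨l, rfl⟩).1
    have hz2m : z₂ ∈ L ⊔ L.map c := by
      have := mul_mem (inv_mem (hm l₂)) hw₂.1
      simpa using this
    have e : ⁅π l₁ * z₁, π l₂ * z₂⁆ = ⁅π l₁, π l₂⁆ := by
      have c1 : Commute z₁ (π l₂ * z₂) := (hz₁ _ hw₂.1).symm
      have c2 : Commute z₂ (π l₁) := (hz₂ _ (hm l₁)).symm
      rw [commutatorElement_def, commutatorElement_def, mul_inv_rev, mul_inv_rev]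
      calc π l₁ * z₁ * (π l₂ * z₂) * (z₁⁻¹ * (π l₁)⁻¹) * (z₂⁻¹ * (π l₂)⁻¹)
          = π l₁ * (z₁ * (π l₂ * z₂)) * z₁⁻¹ * ((π l₁)⁻¹ * z₂⁻¹ * (π l₂)⁻¹) := by group
        _ = π l₁ * ((π l₂ * z₂) * z₁) * z₁⁻¹ * ((π l₁)⁻¹ * z₂⁻¹ * (π l₂)⁻¹) := by rw [c1.eq]
        _ = π l₁ * π l₂ * (z₂ * (π l₁)⁻¹) * z₂⁻¹ * (π l₂)⁻¹ := by group
        _ = π l₁ * π l₂ * ((π l₁)⁻¹ * z₂) * z₂⁻¹ * (π l₂)⁻¹ := by rw [c2.inv_right.eq]
        _ = π l₁ * π l₂ * (π l₁)⁻¹ * (π l₂)⁻¹ := by group
    rw [e, ← map_commutatorElement]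
    exact ⟨_, rfl⟩

end Cfsg.Agent.S1314
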