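import Cfsg.Statements.S1315
import Cfsg.Agent.Lib.Components.SL2Pair
import Cfsg.Agent.Lib.LinearGroups.OrthSmall

set_option autoImplicit false
open Cfsg

namespace Cfsg.Agent.S1315

open Subgroup SL2Pair

theorem uniq_quot {J : Type*} [Group J] [Finite J] (h : ∀ x y : J, orderOf x = 2 → orderOf y = 2 → x = y)
    (a b : J ⧸ Cfsg.pPrimeCore 2 J) (ha : orderOf a = 2) (hb : orderOf b = 2) : a = b := by
  haveI : Fact (Nat.Prime 2) := ⟨Nat.prime_two⟩
  have key : ∀ a : J ⧸ Cfsg.pPrimeCore 2 J, orderOf a = 2 →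
      ∃ x : J, orderOf x = 2 ∧ QuotientGroup.mk' _ x = a := by
    intro a ha
    obtain ⟨x, rfl⟩ := QuotientGroup.mk'_surjective _ a
    have hp : QuotientGroup.mk' (Cfsg.pPrimeCore 2 J) x ^ 2 ^ 1 = 1 := by
      have h := pow_orderOf_eq_one (QuotientGroup.mk' (Cfsg.pPrimeCore 2 J) x)
      rw [ha] at h
      rw [pow_one]; exact h
    obtain ⟨n, j, h1, h2⟩ := Components.exists_p_element_lift (QuotientGroup.mk' _) (x := x) hp
    refine ⟨x ^ n, orderOf_eq_prime ?_ ?_, h2⟩
    · have hm : (x ^ n) ^ 2 ∈ Cfsg.pPrimeCore 2 J := by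
        have h := pow_orderOf_eq_one (QuotientGroup.mk' (Cfsg.pPrimeCore 2 J) x)
        rw [ha] at h
        rw [← QuotientGroup.eq_one_iff, ← QuotientGroup.mk'_apply, map_pow, h2]
        exact h
      have h3 := congrArg Subtype.val (pow_card_eq_one' (x := (⟨_, hm⟩ : ↥(Cfsg.pPrimeCore 2 J))))
      push_cast at h3
      exact eq_one_of_pow_two_pow_odd (k := j) (by rw [← pow_mul, mul_comm, pow_mul, h1, one_pow])
        Components.pPrimeCore_coprime h3
    · intro e
      rw [e, map_one] at h2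
      rw [← h2, orderOf_one] at ha
      exact absurd ha (by norm_num)
  obtain ⟨x, hx, rfl⟩ := key a ha
  obtain ⟨y, hy, rfl⟩ := key b hb
  rw [h x y hx hy]

section SL

variable {F : Type*} [Field F] [Fintype F]

local notation "S" => Matrix.SpecialLinearGroup (Fin 2) F

theorem two_ne_zero' (hF : Odd (Fintype.card F)) : (2 : F) ≠ 0 := by
  intro h
  have h2 : ringChar F = 2 := by
    haveI := ringChar.charP F
    rcases (Nat.dvd_prime Nat.prime_two).mp ((CharP.cast_eq_zero_iff F (ringChar F) 2).mp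
      (by exact_mod_cast h)) with e | e
    · exact absurd e (CharP.char_ne_one F (ringChar F))
    · exact e
  have := FiniteField.even_card_iff_char_two.mp h2
  have := Nat.odd_iff.mp hF
  omega

theorem exists_sum_sq (hF : Odd (Fintype.card F)) (c : F) : ∃ a b : F, a * a + b * b = c := by
  obtain ⟨a, b, h⟩ := FiniteField.exists_root_sum_quadratic (f := (Polynomial.X ^ 2 : Polynomial F))
    (g := Polynomial.X ^ 2 - Polynomial.C c) (by rw [Polynomial.degree_X_pow]; rfl)
    (Polynomial.degree_X_pow_sub_C (by norm_num) c) (Nat.odd_iff.mp hF)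
  refine ⟨a, b, ?_⟩
  simp only [Polynomial.eval_pow, Polynomial.eval_X, Polynomial.eval_sub, Polynomial.eval_C] at h
  linear_combination h

theorem mul_app (x y : S) (i j : Fin 2) :
    (x * y).1 i j = x.1 i 0 * y.1 0 j + x.1 i 1 * y.1 1 j := by
  simp [Matrix.SpecialLinearGroup.coe_mul, Matrix.mul_apply, Fin.sum_univ_two]

theorem neg_one_sq : (-1 : S) * -1 = 1 := by rw [neg_mul_neg, one_mul]

theorem sq_eq_one (hF : Odd (Fintype.card F)) {x : S} (hx : x * x = 1) : x = 1 ∨ x = -1 := by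
  have h := congrArg Subtype.val hx
  change x.1 * x.1 = 1 at h
  have h00 := congrFun (congrFun h 0) 0
  have h01 := congrFun (congrFun h 0) 1
  have h10 := congrFun (congrFun h 1) 0
  have h11 := congrFun (congrFun h 1) 1
  simp [Matrix.mul_apply, Fin.sum_univ_two] at h00 h01 h10 h11
  have hd := x.2
  rw [Matrix.det_fin_two] at hd
  have ht : x.1 0 0 + x.1 1 1 ≠ 0 := fun e => two_ne_zero' hF (by
    linear_combination -(1 : F) * h00 - hd + x.1 0 0 * e)
  have e01 : x.1 0 1 = 0 := (mul_eq_zero.mp (show (x.1 0 0 + x.1 1 1) * x.1 0 1 = 0 by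
    linear_combination h01)).resolve_left ht
  have e10 : x.1 1 0 = 0 := (mul_eq_zero.mp (show (x.1 0 0 + x.1 1 1) * x.1 1 0 = 0 by
    linear_combination h10)).resolve_left ht
  rw [e01, e10] at h00 hd
  have hsq : x.1 0 0 * x.1 0 0 = 1 := by linear_combination h00
  rcases mul_self_eq_one_iff.mp hsq with e | e
  · left
    have e11 : x.1 1 1 = 1 := by rw [e] at hd; linear_combination hd
    refine Matrix.SpecialLinearGroup.ext _ _ fun i j => ?_
    fin_cases i <;> fin_cases j <;> simp [e, e01, e10, e11]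
  · right
    have e11 : x.1 1 1 = -1 := by rw [e] at hd; linear_combination -hd
    refine Matrix.SpecialLinearGroup.ext _ _ fun i j => ?_
    fin_cases i <;> fin_cases j <;> simp [e, e01, e10, e11]

theorem neg_one_ne_one (hF : Odd (Fintype.card F)) : (-1 : S) ≠ 1 := fun e => two_ne_zero' hF (by
  have h : (-1 : F) = 1 := by simpa using congrFun (congrFun (congrArg Subtype.val e) 0) 0
  linear_combination -h)

theorem sq_of_order_four (hF : Odd (Fintype.card F)) {a : S} (ha : orderOf a = 4) : a * a = -1 := by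
  rcases sq_eq_one hF (x := a * a) (by
    calc a * a * (a * a) = a ^ 4 := by simp [pow_succ, mul_assoc]
      _ = 1 := by rw [← ha, pow_orderOf_eq_one]) with e | e
  · exfalso
    have := orderOf_le_of_pow_eq_one (x := a) two_pos (by rw [pow_two]; exact e)
    omega
  · exact e

theorem order_four (hF : Odd (Fintype.card F)) {a : S} (ha : a * a = -1) : orderOf a = 4 := by
  rw [show (4 : ℕ) = 2 ^ (1 + 1) from rfl]
  refine orderOf_eq_prime_pow ?_ ?_
  · rw [pow_one, pow_two, ha]; exact neg_one_ne_one hF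
  · rw [show (2 : ℕ) ^ (1 + 1) = 2 + 2 from rfl, pow_add, pow_two, ha, neg_one_sq]

/-- The standard element of order 4. -/
def J0 : S := ⟨!![0, -1; 1, 0], by simp [Matrix.det_fin_two]⟩

theorem J0_sq : (J0 : S) * J0 = -1 := by
  refine Matrix.SpecialLinearGroup.ext _ _ fun i j => ?_
  fin_cases i <;> fin_cases j <;> (rw [mul_app]; simp [J0])

theorem conj_J0 (hF : Odd (Fintype.card F)) {a : S} (ha : a * a = -1) :
    ∃ g : S, a = g * J0 * g⁻¹ := by
  have h := congrArg Subtype.val ha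
  change a.1 * a.1 = -1 at h
  have h00 := congrFun (congrFun h 0) 0
  have h01 := congrFun (congrFun h 0) 1
  have h10 := congrFun (congrFun h 1) 0
  have h11 := congrFun (congrFun h 1) 1
  simp [Matrix.mul_apply, Fin.sum_univ_two] at h00 h01 h10 h11
  have hd := a.2
  rw [Matrix.det_fin_two] at hd
  have htr : a.1 1 1 = -a.1 0 0 := by
    by_contra hne
    have ht : a.1 0 0 + a.1 1 1 ≠ 0 := fun e => hne (by linear_combination e)
    have e01 : a.1 0 1 = 0 := (mul_eq_zero.mp (show (a.1 0 0 + a.1 1 1) * a.1 0 1 = 0 by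
      linear_combination h01)).resolve_left ht
    have : a.1 0 0 * (a.1 0 0 + a.1 1 1) = 0 := by
      rw [e01] at h00 hd
      linear_combination h00 + hd
    rcases mul_eq_zero.mp this with e | e
    · rw [e, e01] at hd; simp at hd
    · exact ht e
  set p := a.1 0 0
  set q := a.1 0 1
  set r := a.1 1 0
  have hpq : p * p + q * r = -1 := h00
  obtain ⟨v1, v2, hv⟩ : ∃ v1 v2, r * v1 * v1 - 2 * p * v1 * v2 - q * v2 * v2 = (1 : F) := by
    by_cases hr : r = 0
    · refine ⟨(-1 - q) / (2 * p), 1, ?_⟩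
      have hp : p ≠ 0 := fun e => by rw [e, hr] at hpq; simp at hpq
      have h2 := two_ne_zero' hF
      rw [hr]
      field_simp
      ring
    · obtain ⟨α, β, hαβ⟩ := exists_sum_sq hF r
      refine ⟨(α + p * β) / r, β, ?_⟩
      field_simp
      linear_combination hαβ - β * β * hpq
  let g : S := ⟨!![v1, p * v1 + q * v2; v2, r * v1 - p * v2], by
    rw [Matrix.det_fin_two]; simp; linear_combination hv⟩
  refine ⟨g, ?_⟩
  rw [eq_mul_inv_iff_mul_eq]
  refine Matrix.SpecialLinearGroup.ext _ _ fun i j => ?_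
  fin_cases i <;> fin_cases j <;>
    (rw [mul_app, mul_app]; simp [g, J0, htr, p, q, r])
  · linear_combination v1 * hpq
  · ring
  · linear_combination v2 * hpq

theorem ty_SL (hF : Odd (Fintype.card F)) : Ty S := by
  classical
  refine ⟨?_, fun a b ha hb => ?_, ?_⟩
  · have hsub : ∀ g : ↥(center S), (g : S) = 1 ∨ (g : S) = -1 := by
      intro g
      obtain ⟨h01, h10, hd⟩ := OrthSmall.eq_zero_of_mem_center g.2
      refine sq_eq_one hF ?_
      have hdet := (g : S).2
      rw [Matrix.det_fin_two, h01, h10, ← hd] at hdet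
      refine Matrix.SpecialLinearGroup.ext _ _ fun i j => ?_
      fin_cases i <;> fin_cases j <;>
        simp [Matrix.SpecialLinearGroup.coe_mul, Matrix.mul_apply, Fin.sum_univ_two, h01, h10, ← hd] <;> linear_combination hdet
    let f : ↥(center S) → Bool := fun g => decide ((g : S) = 1)
    refine (Nat.card_le_card_of_injective f fun g g' e => ?_).trans (by simp)
    simp only [f, decide_eq_decide] at e
    refine Subtype.ext ?_
    rcases hsub g with h | h <;> rcases hsub g' with h' | h'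
    · rw [h, h']
    · exact (e.mp h).symm ▸ h
    · exact (e.mpr h').symm ▸ h'.symm
    · rw [h, h']
  · obtain ⟨g, rfl⟩ := conj_J0 hF (sq_of_order_four hF ha)
    obtain ⟨g', rfl⟩ := conj_J0 hF (sq_of_order_four hF hb)
    exact ⟨g' * g⁻¹, Or.inl (by group)⟩
  · obtain ⟨α, β, hαβ⟩ := exists_sum_sq hF (-1)
    let b : S := ⟨!![α, β; β, -α], by rw [Matrix.det_fin_two]; simp; linear_combination -hαβ⟩
    have hbb : b * b = -1 := by
      refine Matrix.SpecialLinearGroup.ext _ _ fun i j => ?_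
      fin_cases i <;> fin_cases j <;> (rw [mul_app]; simp [b]) <;>
        first | linear_combination hαβ | ring
    refine ⟨J0, b, order_four hF J0_sq, order_four hF hbb, ?_⟩
    rw [mul_inv_eq_iff_eq_mul, eq_inv_mul_iff_mul_eq]
    have e : (J0 : S) * b * J0 = b := by
      refine Matrix.SpecialLinearGroup.ext _ _ fun i j => ?_
      fin_cases i <;> fin_cases j <;> (rw [mul_app, mul_app, mul_app]; simp [b, J0])
    rw [← mul_assoc]; exact e

end SL

theorem ty_A7 {Q : Type*} [Group Q] [Finite Q]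
    (h : Cfsg.IsNonsplitDoubleCover Q ↥(alternatingGroup (Fin 7)))
    (huniq : ∀ a b : Q, orderOf a = 2 → orderOf b = 2 → a = b) : Ty Q := by
  haveI : Fact (Nat.Prime 2) := ⟨Nat.prime_two⟩
  obtain ⟨hcard, ⟨e⟩, -⟩ := h
  obtain ⟨⟨ζ, hζc⟩, hζ⟩ := exists_prime_orderOf_dvd_card' (G := ↥(center Q)) 2 (by rw [hcard])
  rw [← orderOf_coe] at hζ
  have hzp : zpowers ζ = center Q := eq_of_le_of_card_ge (zpowers_le.mpr hζc) (by
    rw [hcard, Nat.card_zpowers, hζ])
  have hcen : ∀ x ∈ center Q, x = 1 ∨ x = ζ := by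
    intro x hx
    by_contra hcon
    push Not at hcon
    refine hcon.2 (huniq x ζ (orderOf_eq_prime ?_ hcon.1) hζ)
    have := congrArg Subtype.val (pow_card_eq_one' (x := (⟨x, hx⟩ : ↥(center Q))))
    rw [hcard] at this
    simpa using this
  let π : Q →* ↥(alternatingGroup (Fin 7)) := e.toMonoidHom.comp (QuotientGroup.mk' (center Q))
  have hπs : Function.Surjective π := e.surjective.comp (QuotientGroup.mk'_surjective _)
  have hπk : ∀ x, π x = 1 ↔ x ∈ center Q := fun x => by
    change e (QuotientGroup.mk' _ x) = 1 ↔ _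
    rw [MulEquiv.map_eq_one_iff, QuotientGroup.mk'_apply, QuotientGroup.eq_one_iff]
  have hζζ : ζ * ζ = 1 := by rw [← pow_two, ← hζ, pow_orderOf_eq_one]
  have hlift : ∀ a : Q, orderOf (π a) = 2 → orderOf a = 4 ∧ a * a = ζ := by
    intro a ha
    have hm : a * a ∈ center Q := (hπk _).mp (by rw [map_mul, ← pow_two, ← ha, pow_orderOf_eq_one])
    have hne : a * a ≠ 1 := fun e1 => by
      have hao : orderOf a = 2 := orderOf_eq_prime (by rw [pow_two]; exact e1) (fun e2 => by
        rw [e2, map_one, orderOf_one] at ha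
        exact absurd ha (by norm_num))
      have h1 : π a = 1 := (hπk a).mpr (huniq a ζ hao hζ ▸ hζc)
      rw [h1, orderOf_one] at ha
      exact absurd ha (by norm_num)
    have hz := (hcen _ hm).resolve_left hne
    refine ⟨?_, hz⟩
    rw [show (4 : ℕ) = 2 ^ (1 + 1) from rfl]
    refine orderOf_eq_prime_pow ?_ ?_
    · rw [pow_one, pow_two]; exact hne
    · rw [show (2 : ℕ) ^ (1 + 1) = 2 + 2 from rfl, pow_add, pow_two, hz, hζζ]
  have hfour : ∀ a : Q, orderOf a = 4 → orderOf (π a) = 2 ∧ a * a = ζ := by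
    intro a ha
    have h2 : a * a = ζ := huniq _ ζ (by
      rw [← pow_two, orderOf_pow, ha]; rfl) hζ
    refine ⟨orderOf_eq_prime ?_ ?_, h2⟩
    · rw [← map_pow, pow_two, h2]; exact (hπk ζ).mpr hζc
    · intro e1
      have h3 := hcen a ((hπk a).mp e1)
      rcases h3 with e2 | e2
      · rw [e2, orderOf_one] at ha; exact absurd ha (by norm_num)
      · rw [e2, hζ] at ha; exact absurd ha (by norm_num)
  refine ⟨hcard.le, fun a b ha hb => ?_, ?_⟩
  · obtain ⟨h2a, haa⟩ := hfour a ha
    obtain ⟨h2b, hbb⟩ := hfour b hb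
    have hcyc : ∀ u : ↥(alternatingGroup (Fin 7)), orderOf u = 2 →
        (u : Equiv.Perm (Fin 7)).cycleType = Multiset.replicate 2 2 := by
      intro u hu
      have ho : orderOf (u : Equiv.Perm (Fin 7)) = 2 := by rw [orderOf_coe, hu]
      obtain ⟨n, hn⟩ := Equiv.Perm.cycleType_prime_order (σ := (u : Equiv.Perm (Fin 7)))
        (by rw [ho]; exact Nat.prime_two)
      rw [ho] at hn
      have hs := Equiv.Perm.sign_of_cycleType (u : Equiv.Perm (Fin 7))
      rw [Equiv.Perm.mem_alternatingGroup.mp u.2, hn, Multiset.sum_replicate, Multiset.card_replicate,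
        smul_eq_mul] at hs
      have hle := (Equiv.Perm.sum_cycleType (u : Equiv.Perm (Fin 7))).symm ▸
        Finset.card_le_univ (u : Equiv.Perm (Fin 7)).support
      rw [hn, Multiset.sum_replicate, smul_eq_mul, Fintype.card_fin] at hle
      have hn2 : n + 1 = 2 := by
        rcases n with _ | _ | _ | n
        · exact absurd hs (by decide)
        · rfl
        · exact absurd hs (by decide)
        · omega
      rw [hn, hn2]
    have hconj : IsConj (π a) (π b) := by
      refine alternatingGroup.isConj_of (Equiv.Perm.isConj_iff_cycleType_eq.mpr ?_) ?_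
      · rw [hcyc _ h2a, hcyc _ h2b]
      · rw [← Equiv.Perm.sum_cycleType, hcyc _ h2a, Fintype.card_fin]
        simp
    obtain ⟨c, hc⟩ := isConj_iff.mp hconj
    obtain ⟨g, rfl⟩ := hπs c
    refine ⟨g, ?_⟩
    have hm : (g * a * g⁻¹) * b⁻¹ ∈ center Q := (hπk _).mp (by
      rw [map_mul, map_mul, map_mul, map_inv, map_inv, hc, mul_inv_cancel])
    rcases hcen _ hm with e1 | e1
    · exact Or.inl (mul_inv_eq_one.mp e1)
    · right
      rw [mul_inv_eq_iff_eq_mul.mp e1]
      refine eq_inv_of_mul_eq_one_left ?_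
      rw [mul_assoc, hbb, hζζ]
  · have hsign : ∀ p q r s : Fin 7, p ≠ q → r ≠ s →
        Equiv.swap p q * Equiv.swap r s ∈ alternatingGroup (Fin 7) := by
      intro p q r s h1 h2
      rw [Equiv.Perm.mem_alternatingGroup, map_mul, Equiv.Perm.sign_swap h1, Equiv.Perm.sign_swap h2]
      rfl
    let u : ↥(alternatingGroup (Fin 7)) := ⟨_, hsign 0 1 2 3 (by decide) (by decide)⟩
    let v : ↥(alternatingGroup (Fin 7)) := ⟨_, hsign 0 2 1 3 (by decide) (by decide)⟩
    have hu : orderOf u = 2 := orderOf_eq_prime (by rw [pow_two]; exact Subtype.ext (by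
      change Equiv.swap (0 : Fin 7) 1 * Equiv.swap 2 3 * (Equiv.swap 0 1 * Equiv.swap 2 3) = 1
      decide)) (fun e1 => by
      have h1 := congrArg (fun x : ↥(alternatingGroup (Fin 7)) => (x : Equiv.Perm (Fin 7)) 0) e1
      revert h1
      change Equiv.swap (0 : Fin 7) 1 (Equiv.swap 2 3 0) = 0 → False
      decide)
    have hv : orderOf v = 2 := orderOf_eq_prime (by rw [pow_two]; exact Subtype.ext (by
      change Equiv.swap (0 : Fin 7) 2 * Equiv.swap 1 3 * (Equiv.swap 0 2 * Equiv.swap 1 3) = 1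
      decide)) (fun e1 => by
      have h1 := congrArg (fun x : ↥(alternatingGroup (Fin 7)) => (x : Equiv.Perm (Fin 7)) 0) e1
      revert h1
      change Equiv.swap (0 : Fin 7) 2 (Equiv.swap 1 3 0) = 0 → False
      decide)
    have huv : v * u = u * v := Subtype.ext (by
      change Equiv.swap (0 : Fin 7) 2 * Equiv.swap 1 3 * (Equiv.swap 0 1 * Equiv.swap 2 3) =
        Equiv.swap 0 1 * Equiv.swap 2 3 * (Equiv.swap 0 2 * Equiv.swap 1 3)
      decide)
    have hne : u ≠ v := fun e1 => by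
      have h1 := congrArg (fun x : ↥(alternatingGroup (Fin 7)) => (x : Equiv.Perm (Fin 7)) 0) e1
      revert h1
      change Equiv.swap (0 : Fin 7) 1 (Equiv.swap 2 3 0) =
        Equiv.swap (0 : Fin 7) 2 (Equiv.swap 1 3 0) → False
      decide
    obtain ⟨a, ha⟩ := hπs u
    obtain ⟨b, hb⟩ := hπs v
    obtain ⟨hao, haa⟩ := hlift a (ha ▸ hu)
    obtain ⟨hbo, hbb⟩ := hlift b (hb ▸ hv)
    refine ⟨a, b, hao, hbo, ?_⟩
    have hm : (b * a * b⁻¹) * a⁻¹ ∈ center Q := (hπk _).mp (by
      rw [map_mul, map_mul, map_mul, map_inv, map_inv, ha, hb, huv, mul_inv_cancel_right,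
        mul_inv_cancel])
    rcases hcen _ hm with e1 | e1
    · exfalso
      have hcab : Commute a b := by
        change a * b = b * a
        exact (mul_inv_eq_iff_eq_mul.mp (mul_inv_eq_one.mp e1)).symm
      have hsq : (a * b) * (a * b) = 1 := by
        rw [← pow_two, hcab.mul_pow, pow_two, pow_two, haa, hbb, hζζ]
      have hin : a * b ∈ center Q := by
        by_cases h1 : a * b = 1
        · rw [h1]; exact one_mem _
        · rw [huniq _ ζ (orderOf_eq_prime (by rw [pow_two]; exact hsq) h1) hζ]; exact hζc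
      have h3 : u * v = 1 := by rw [← ha, ← hb, ← map_mul]; exact (hπk _).mpr hin
      refine hne ?_
      rw [eq_inv_of_mul_eq_one_left h3]
      exact inv_eq_of_mul_eq_one_right (by rw [← pow_two, ← hv, pow_orderOf_eq_one])
    · rw [mul_inv_eq_iff_eq_mul.mp e1]
      refine eq_inv_of_mul_eq_one_left ?_
      rw [mul_assoc, haa, hζζ]

/-- Let G be finite and J ≠ K subgroups, each containing exactly one involution, z(J) resp. z(K), each a 2-component of the centralizer of its involution, with J / O(J) and K / O(K) both isomorphic to SL(2, F) for one finite field F of odd order, or both non-split double covers of A7. Then (i) every 2-element of K of order at least 4 centralizing z(J) normalizes J; (ii) if z(J) normalizes K then z(K) normalizes J. -/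
theorem result {G : Type*} [Group G] [Finite G] (J K : Subgroup G) (hJK : J ≠ K) (zJ zK : G) (hzJ : zJ ∈ J ∧ orderOf zJ = 2 ∧ ∀ t ∈ J, orderOf t = 2 → t = zJ) (hzK : zK ∈ K ∧ orderOf zK = 2 ∧ ∀ t ∈ K, orderOf t = 2 → t = zK) (hJ : J ≤ Subgroup.centralizer ({zJ} : Set G) ∧ Cfsg.IsPComponent 2 (J.subgroupOf (Subgroup.centralizer ({zJ} : Set G)))) (hK : K ≤ Subgroup.centralizer ({zK} : Set G) ∧ Cfsg.IsPComponent 2 (K.subgroupOf (Subgroup.centralizer ({zK} : Set G)))) (htype : (∃ (F : Type) (_ : Field F) (_ : Fintype F), Odd (Fintype.card F) ∧ Nonempty (↥J ⧸ Cfsg.oddCore ↥J ≃* Matrix.SpecialLinearGroup (Fin 2) F) ∧ Nonempty (↥K ⧸ Cfsg.oddCore ↥K ≃* Matrix.SpecialLinearGroup (Fin 2) F)) ∨ (Cfsg.IsNonsplitDoubleCover (↥J ⧸ Cfsg.oddCore ↥J) ↥(alternatingGroup (Fin 7)) ∧ Cfsg.IsNonsplitDoubleCover (↥K ⧸ Cfsg.oddCore ↥K) ↥(alternatingGroup (Fin 7)))) : (∀ y ∈ K, IsPGroup 2 ↥(Subgroup.zpowers y) → 4 ≤ orderOf y → y * zJ = zJ * y → y ∈ Subgroup.normalizer (J : Set G)) ∧ (zJ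 ∈ Subgroup.normalizer (K : Set G) → zK ∈ Subgroup.normalizer (J : Set G)) := by
  haveI : Fact (Nat.Prime 2) := ⟨Nat.prime_two⟩
  have hu : ∀ (L : Subgroup G) (z : G), (∀ t ∈ L, orderOf t = 2 → t = z) →
      ∀ a b : ↥L, orderOf a = 2 → orderOf b = 2 → a = b := fun L z hz a b ha hb =>
    Subtype.ext ((hz a a.2 (by rw [orderOf_coe, ha])).trans (hz b b.2 (by rw [orderOf_coe, hb])).symm)
  have hty : SL2Pair.Ty (↥J ⧸ Cfsg.oddCore ↥J) ∧ SL2Pair.Ty (↥K ⧸ Cfsg.oddCore ↥K) := by
    rcases htype with ⟨F, _, _, hF, ⟨eJ⟩, ⟨eK⟩⟩ | ⟨hA, hB⟩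
    · exact ⟨(ty_SL hF).equiv eJ.symm, (ty_SL hF).equiv eK.symm⟩
    · exact ⟨ty_A7 hA (uniq_quot (hu J zJ hzJ.2.2)), ty_A7 hB (uniq_quot (hu K zK hzK.2.2))⟩
  have cJ : SL2Pair.Cl J zJ := ⟨hJ.1, hJ.2, hzJ.1, hzJ.2.1, hzJ.2.2, hty.1⟩
  have cK : SL2Pair.Cl K zK := ⟨hK.1, hK.2, hzK.1, hzK.2.1, hzK.2.2, hty.2⟩
  refine ⟨fun y hy hp h4 hc => ?_, fun h => SL2Pair.normalizes cJ cK h⟩
  obtain ⟨m, hm⟩ := hp ⟨y, Subgroup.mem_zpowers y⟩
  have hm' : y ^ 2 ^ m = 1 := by simpa using congrArg Subtype.val hm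
  obtain ⟨n, hn, hno⟩ := (Nat.dvd_prime_pow Nat.prime_two).mp (orderOf_dvd_of_pow_eq_one hm')
  obtain ⟨k, rfl⟩ : ∃ k, n = k + 2 := by
    refine ⟨n - 2, ?_⟩
    rcases n with _ | _ | n
    · rw [hno] at h4; norm_num at h4
    · rw [hno] at h4; norm_num at h4
    · omega
  have ho : orderOf (y ^ 2 ^ (k + 1)) = 2 := by
    rw [orderOf_pow' y (by positivity), hno, Nat.gcd_eq_right (pow_dvd_pow 2 (by omega)),
      Nat.pow_div (by omega) two_pos, show k + 2 - (k + 1) = 1 by omega, pow_one]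
  exact SL2Pair.normalizes_elt cJ cK (SL2Pair.mem_Cn.mpr hc) (cK.le hy)
    (SL2Pair.mem_bar cK.le hy) (hzK.2.2 _ (pow_mem hy _) ho)

end Cfsg.Agent.S1315
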