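import Cfsg.Statements.S1316
import Cfsg.Agent.Lib.Components.FStar2

set_option autoImplicit false
open Cfsg

namespace Cfsg.Agent.S1316

open scoped commutatorElement
open Subgroup

/-- For a finite group X, E(X) equals the intersection of the derived series of F*(X) (its last term). -/
theorem result {X : Type*} [Group X] [Finite X] : (⨅ n : ℕ, (derivedSeries ↥(Cfsg.generalizedFittingSubgroup X) n).map (Cfsg.generalizedFittingSubgroup X).subtype) = Cfsg.layer X := by
  set F := Cfsg.generalizedFittingSubgroup X with hF
  set E := Cfsg.layer X with hE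
  apply le_antisymm
  · set E' := E.subgroupOf F with hE'
    have hfs : Group.IsSolvable (↥F ⧸ E') := by
      haveI := Components.fitting_isSolvable (G := X)
      let f : ↥(Cfsg.fittingSubgroup X) →* ↥F ⧸ E' :=
        (QuotientGroup.mk' E').comp (inclusion Components.fitting_le_fStar)
      refine Group.isSolvable_of_surjective (f := f) fun q => ?_
      obtain ⟨⟨x, hx⟩, rfl⟩ := QuotientGroup.mk'_surjective E' q
      have hx' : x ∈ ((E ⊔ Cfsg.fittingSubgroup X : Subgroup X) : Set X) := hx
      rw [normal_mul] at hx'
      obtain ⟨e, he, g, hg, rfl⟩ := hx'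
      refine ⟨⟨g, hg⟩, ?_⟩
      refine (QuotientGroup.eq).mpr ?_
      rw [hE', mem_subgroupOf]
      simp only [Subgroup.coe_mul, Subgroup.coe_inv, Subgroup.coe_inclusion]
      have := (inferInstance : (Cfsg.layer X).Normal).conj_mem e he g⁻¹
      rw [← hE, inv_inv] at this
      simpa [mul_assoc] using this
    obtain ⟨n, hn⟩ := (isSolvable_def _).mp hfs
    refine iInf_le_of_le n ?_
    rw [map_le_iff_le_comap]
    have h := map_derivedSeries_le_derivedSeries (QuotientGroup.mk' E') n
    rw [hn, le_bot_iff, Subgroup.map_eq_bot_iff, QuotientGroup.ker_mk'] at h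
    exact h
  · refine le_iInf fun n => ?_
    induction n with
    | zero =>
      rw [derivedSeries_zero, ← MonoidHom.range_eq_map, range_subtype]
      exact Components.layer_le_fStar
    | succ n ih =>
      rw [derivedSeries_succ, map_commutator, hE, ← Components.layer_commutator_eq_self]
      exact commutator_mono ih ih

end Cfsg.Agent.S1316
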