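import Cfsg.Statements.S1318
import Cfsg.Agent.Lib.Components.FStar2

set_option autoImplicit false
open Cfsg

namespace Cfsg.Agent.S1318

open scoped commutatorElement
open Subgroup

/-- Let X be finite and S ≤ F*(X) a subgroup subnormal in F*(X). Then F(S) = F(X) ∩ S (inside X) and S = F(S)E(S). -/
theorem result {X : Type*} [Group X] [Finite X] (S : Subgroup X) (hS : S ≤ Cfsg.generalizedFittingSubgroup X) (hsn : (S.subgroupOf (Cfsg.generalizedFittingSubgroup X)).IsSubnormal) : (Cfsg.fittingSubgroup ↥S).map S.subtype = Cfsg.fittingSubgroup X ⊓ S ∧ Cfsg.fittingSubgroup ↥S ⊔ Cfsg.layer ↥S = ⊤ := by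
  have hF : (Cfsg.generalizedFittingSubgroup X).IsSubnormal := Components.isSubnormal_of_normal _
  have hS' : S.IsSubnormal := Subgroup.IsSubnormal.trans hS hsn hF
  constructor
  · refine le_antisymm (le_inf ?_ (map_subtype_le _)) ?_
    · exact Components.nilpotent_subnormal_le_fitting
        ((Components.isSubnormal_of_normal _).trans' hS')
        (Components.map_nilpotent Components.fitting_isNilpotent _)
    · rw [← subgroupOf_map_subtype]
      refine Subgroup.map_mono (Components.le_fitting inferInstance ?_)
      haveI := Components.fitting_isNilpotent (G := X)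
      have h1 := Components.map_nilpotent
        (H := (Cfsg.fittingSubgroup X ⊓ S).subgroupOf (Cfsg.fittingSubgroup X)) inferInstance
        (Cfsg.fittingSubgroup X).subtype
      rw [map_subgroupOf_eq_of_le inf_le_left, ← subgroupOf_map_subtype] at h1
      haveI := h1
      exact Group.nilpotent_of_surjective
        (equivMapOfInjective ((Cfsg.fittingSubgroup X).subgroupOf S) _ S.subtype_injective).symm.toMonoidHom
        (equivMapOfInjective ((Cfsg.fittingSubgroup X).subgroupOf S) _ S.subtype_injective).symm.surjective
  · have h := Components.fStar_inf_subnormal_le hS'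
    rw [inf_eq_right.mpr hS, Cfsg.generalizedFittingSubgroup, sup_comm] at h
    rw [← map_subtype_inj, ← MonoidHom.range_eq_map, range_subtype]
    exact le_antisymm (map_subtype_le _) h

end Cfsg.Agent.S1318
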