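import Cfsg.Statements.S1319
import Cfsg.Agent.Lib.Components.FStar2

set_option autoImplicit false
open Cfsg

namespace Cfsg.Agent.S1319

open scoped commutatorElement
open Subgroup

/-- Let A be a subnormal subgroup of the finite group X with E(A) = A. Then A ≤ E(X) and A is normal in E(X). -/
theorem result {X : Type*} [Group X] [Finite X] (A : Subgroup X) (hsn : A.IsSubnormal) (hA : Cfsg.layer ↥A = ⊤) : A ≤ Cfsg.layer X ∧ (A.subgroupOf (Cfsg.layer X)).Normal := by
  have hA' : (Cfsg.layer ↥A).map A.subtype = A := by
    rw [hA, ← MonoidHom.range_eq_map, range_subtype]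
  refine ⟨hA' ▸ Components.component_map_layer_le hsn, normal_subgroupOf_of_le_normalizer ?_⟩
  have hle : ∀ g ∈ Cfsg.layer X, A.map (MulAut.conj g).toMonoidHom ≤ A := by
    intro g hg
    conv_lhs => rw [← hA', map_map]
    rw [map_le_iff_le_comap, Components.layer_le_iff]
    intro L hL
    rw [← map_le_iff_le_comap, ← map_map,
      Components.map_conj_eq_of_mem_normalizer
        (Components.layer_le_normalizer ((Components.isComponent_map_subtype_iff hsn L).mpr hL) hg)]
    exact map_subtype_le L
  intro g hg
  rw [mem_normalizer_iff]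
  intro x
  refine ⟨fun hx => hle g hg (mem_map_of_mem _ hx), fun hx => ?_⟩
  have := hle g⁻¹ (inv_mem hg) (mem_map_of_mem _ hx)
  simpa [mul_assoc] using this

end Cfsg.Agent.S1319
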