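import Cfsg.Statements.S1321
import Cfsg.Agent.Lib.Components.FStar

set_option autoImplicit false
open Cfsg

namespace Cfsg.Agent.S1321

open scoped commutatorElement
open Subgroup

/-- Let X be finite and U ≤ X. Then E(X) is generated by C_{E(X)}(U) together with ⁅E(X), U⁆ (indeed it is their product, ⁅E(X), U⁆ being normal in E(X)). -/
theorem result {X : Type*} [Group X] [Finite X] (U : Subgroup X) : Cfsg.layer X = (Cfsg.layer X ⊓ Subgroup.centralizer (U : Set X)) ⊔ ⁅Cfsg.layer X, U⁆ ∧ ⁅Cfsg.layer X, U⁆ ≤ Cfsg.layer X := by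
  set E := Cfsg.layer X
  set D := ⁅E, U⁆ with hD
  have hDE : D ≤ E := commutator_le_left E U
  refine ⟨le_antisymm (Components.layer_le_iff.mpr fun L hL => ?_) (sup_le inf_le_left hDE), hDE⟩
  have hLE : L ≤ E := Components.component_le_layer hL
  have hDn : E ≤ normalizer (D : Set X) := normalizer_commutator_ge_left E U
  have hDsn : D.IsSubnormal :=
    Components.isSubnormal_of_normal_in hDE (Components.isSubnormal_of_normal E) hDn
  rcases Components.component_le_or_commute hL hDsn with h | h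
  · exact le_sup_of_le_right h
  by_cases hLD : L ≤ D
  · exact le_sup_of_le_right hLD
  refine le_sup_of_le_left (le_inf hLE ?_)
  have hcomm := Components.commutator_eq_bot_iff_forall.mp h
  have hUn : U ≤ normalizer (L : Set X) := by
    intro u hu
    apply Components.mem_normalizer_of_map_conj_eq
    set L' := L.map (MulAut.conj u).toMonoidHom with hL'
    rcases Components.component_eq_or_commute (Components.isComponent_conj u hL) hL with he | he
    · exact he
    exfalso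
    have hc' := Components.commutator_eq_bot_iff_forall.mp he
    have hdec : ∀ y ∈ L', ∃ z ∈ L, ∃ d ∈ D, y = d * z ∧ ∀ l ∈ L, l * z = z * l := by
      rintro _ ⟨l, hl, rfl⟩
      refine ⟨l, hl, ⁅u, l⁆, ?_, ?_, fun l' hl' => ?_⟩
      · rw [hD, commutator_comm]; exact commutator_mem_commutator hu (hLE hl)
      · simp [commutatorElement_def]
      · have h1 := hc' (u * l * u⁻¹) ⟨l, hl, by simp⟩ l' hl'
        have h2 : l' * ⁅u, l⁆ = ⁅u, l⁆ * l' := hcomm l' hl' _
          (by rw [hD, commutator_comm]; exact commutator_mem_commutator hu (hLE hl))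
        have h3 : u * l * u⁻¹ = ⁅u, l⁆ * l := by simp [commutatorElement_def]
        rw [h3] at h1
        have h4 : ⁅u, l⁆ * (l * l') = ⁅u, l⁆ * (l' * l) := by
          rw [← mul_assoc, h1, ← mul_assoc, h2, mul_assoc]
        exact (mul_left_cancel h4).symm
    have h5 : ⁅L', L'⁆ ≤ D := by
      rw [commutator_le]
      intro a ha b hb
      obtain ⟨z₁, hz₁, d₁, hd₁, rfl, hzc₁⟩ := hdec a ha
      obtain ⟨z₂, hz₂, d₂, hd₂, rfl, hzc₂⟩ := hdec b hb
      have e : ⁅d₁ * z₁, d₂ * z₂⁆ = ⁅d₁, d₂⁆ := by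
        have c1 : Commute z₁ d₂ := hcomm z₁ hz₁ d₂ hd₂
        have c2 : Commute z₂ d₁ := hcomm z₂ hz₂ d₁ hd₁
        have c3 : Commute z₁ z₂ := hzc₂ z₁ hz₁
        simp only [commutatorElement_def, mul_inv_rev]
        calc d₁ * z₁ * (d₂ * z₂) * (z₁⁻¹ * d₁⁻¹) * (z₂⁻¹ * d₂⁻¹)
            = d₁ * (z₁ * d₂) * z₂ * z₁⁻¹ * d₁⁻¹ * z₂⁻¹ * d₂⁻¹ := by group
          _ = d₁ * (d₂ * z₁) * z₂ * z₁⁻¹ * d₁⁻¹ * z₂⁻¹ * d₂⁻¹ := by rw [c1.eq]
          _ = d₁ * d₂ * (z₁ * z₂) * z₁⁻¹ * d₁⁻¹ * z₂⁻¹ * d₂⁻¹ := by group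
          _ = d₁ * d₂ * (z₂ * z₁) * z₁⁻¹ * d₁⁻¹ * z₂⁻¹ * d₂⁻¹ := by rw [c3.eq]
          _ = d₁ * d₂ * (z₂ * d₁⁻¹) * z₂⁻¹ * d₂⁻¹ := by group
          _ = d₁ * d₂ * (d₁⁻¹ * z₂) * z₂⁻¹ * d₂⁻¹ := by rw [c2.inv_right.eq]
          _ = d₁ * d₂ * d₁⁻¹ * d₂⁻¹ := by group
      rw [e, commutatorElement_def]
      exact mul_mem (mul_mem (mul_mem hd₁ hd₂) (inv_mem hd₁)) (inv_mem hd₂)
    rw [Components.isComponent_commutator_eq_self (Components.isComponent_conj u hL)] at h5
    refine hLD fun l hl => ?_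
    have h6 : u * l * u⁻¹ ∈ D := h5 ⟨l, hl, by simp⟩
    have h7 := (mem_normalizer_iff.mp (normalizer_commutator_ge_right E U (inv_mem hu)) _).mp h6
    simpa [mul_assoc] using h7
  rw [← commutator_eq_bot_iff_le_centralizer]
  refine Components.commutator_eq_bot_of_perfect (Components.isComponent_commutator_eq_self hL) ?_
  rw [commutator_comm U L, commutator_eq_bot_iff_le_centralizer]
  intro y hy
  rw [mem_centralizer_iff]
  intro l hl
  exact hcomm l hl y ((commutator_mono hLE le_rfl : ⁅L, U⁆ ≤ D) hy)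

end Cfsg.Agent.S1321
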