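import Cfsg.Statements.S1323
import Cfsg.Agent.Lib.Components.Quasisimple
import Cfsg.Agent.Lib.Components.CompAction

set_option autoImplicit false
open Cfsg

namespace Cfsg.Agent.S1323

open Subgroup
open scoped Pointwise

variable {α : Type*} [Fintype α] [DecidableEq α]

/-- The even permutations moving only points of `s`. -/
def R (s : Finset α) : Subgroup ↥(alternatingGroup α) := (alternatingGroup.ofSubtype s).range

theorem mem_R {s : Finset α} {x : ↥(alternatingGroup α)} :
    x ∈ R s ↔ ∀ i, i ∉ s → (x : Equiv.Perm α) i = i := by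
  rw [R, alternatingGroup.mem_range_ofSubtype_iff]
  constructor
  · intro h i hi
    by_contra hne
    exact hi (h (Equiv.Perm.mem_support.mpr hne))
  · intro h i hi
    by_contra hne
    exact Equiv.Perm.mem_support.mp hi (h i hne)

theorem card_R {s : Finset α} (h : 2 ≤ s.card) : 2 * Nat.card ↥(R s) = s.card.factorial := by
  haveI : Nontrivial ↥s := by
    rw [← Fintype.one_lt_card_iff_nontrivial, Fintype.card_coe]; omega
  rw [R, ← Nat.card_congr (MonoidHom.ofInjective alternatingGroup.ofSubtype_injective).toEquiv,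
    two_mul_nat_card_alternatingGroup, Nat.card_perm, Nat.card_eq_fintype_card, Fintype.card_coe]

theorem odd_card_R {s : Finset α} (h : s.card ≤ 3) : Odd (Nat.card ↥(R s)) := by
  rcases Nat.lt_or_ge s.card 3 with h' | h'
  · rw [R, ← Nat.card_congr (MonoidHom.ofInjective alternatingGroup.ofSubtype_injective).toEquiv,
      alternatingGroup.eq_bot_of_card_le_two (by rw [Nat.card_eq_fintype_card, Fintype.card_coe]; omega),
      Subgroup.card_bot]
    exact odd_one
  · have h2 := card_R (s := s) (by omega)
    rw [show s.card = 3 by omega] at h2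
    exact ⟨1, by norm_num [Nat.factorial] at h2 ⊢; omega⟩

theorem map_R (s : Finset α) (g : ↥(alternatingGroup α)) :
    (R s).map (MulAut.conj g).toMonoidHom = R (g • s) :=
  alternatingGroup.conj_smul_range_ofSubtype s g

theorem exists_cycle {s : Finset α} {i : α} (hi : i ∈ s) (j : α) (hij : j ≠ i) (h : 4 ≤ s.card) :
    ∃ c ∈ R s, (c : Equiv.Perm α) i ≠ i ∧ (c : Equiv.Perm α) j = j := by
  have h2 : 2 ≤ (s \ {i, j}).card := by
    have := Finset.le_card_sdiff ({i, j} : Finset α) s
    have := Finset.card_le_two (a := i) (b := j)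
    omega
  obtain ⟨a, ha, b, hb, hab⟩ := Finset.one_lt_card.mp (show 1 < (s \ {i, j}).card by omega)
  simp only [Finset.mem_sdiff, Finset.mem_insert, Finset.mem_singleton, not_or] at ha hb
  refine ⟨⟨Equiv.swap i a * Equiv.swap a b, ?_⟩, mem_R.mpr fun k hk => ?_, ?_, ?_⟩
  · rw [Equiv.Perm.mem_alternatingGroup, map_mul, Equiv.Perm.sign_swap (Ne.symm ha.2.1),
      Equiv.Perm.sign_swap hab]
    rfl
  · have h1 : k ≠ i := fun e => hk (e ▸ hi)
    have h3 : k ≠ a := fun e => hk (e ▸ ha.1)
    have h4 : k ≠ b := fun e => hk (e ▸ hb.1)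
    simp [Equiv.swap_apply_of_ne_of_ne, h1, h3, h4]
  · simp [Equiv.swap_apply_of_ne_of_ne (Ne.symm ha.2.1) (Ne.symm hb.2.1), ha.2.1]
  · simp [Equiv.swap_apply_of_ne_of_ne (Ne.symm ha.2.2) (Ne.symm hb.2.2),
      Equiv.swap_apply_of_ne_of_ne hij (Ne.symm ha.2.2)]

theorem subset_of_R_le {s t : Finset α} (hs : 4 ≤ s.card) (h : R s ≤ R t) : s ⊆ t := by
  intro i hi
  obtain ⟨j, hj, hji⟩ := Finset.exists_mem_ne (show 1 < s.card by omega) i
  obtain ⟨c, hc, hci, -⟩ := exists_cycle hi j hji hs
  by_contra hit
  exact hci (mem_R.mp (h hc) i hit)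

theorem centralizer_R {s : Finset α} (hs : 4 ≤ s.card) :
    centralizer (R s : Set ↥(alternatingGroup α)) = R sᶜ := by
  apply le_antisymm
  · intro σ hσ
    refine mem_R.mpr fun i hi => ?_
    rw [Finset.mem_compl, not_not] at hi
    by_contra hne
    obtain ⟨c, hc, hci, hcj⟩ := exists_cycle hi _ hne hs
    have h1 := congrArg (fun x : ↥(alternatingGroup α) => (x : Equiv.Perm α) i)
      (mem_centralizer_iff.mp hσ c hc)
    simp only [Subgroup.coe_mul, Equiv.Perm.mul_apply, hcj] at h1
    exact hci ((σ : Equiv.Perm α).injective h1.symm)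
  · intro σ hσ
    refine mem_centralizer_iff.mpr fun c hc => Subtype.ext ?_
    refine (Equiv.Perm.Disjoint.commute (fun i => ?_)).eq
    by_cases hi : i ∈ s
    · exact Or.inr (mem_R.mp hσ i (by simpa using hi))
    · exact Or.inl (mem_R.mp hc i hi)

theorem smul_compl (g : ↥(alternatingGroup α)) (s : Finset α) : g • sᶜ = (g • s)ᶜ := by
  ext i
  simp [Finset.mem_compl, ← Finset.inv_smul_mem_iff]

theorem mem_normalizer_R {s : Finset α} (hs : 4 ≤ s.card) (g : ↥(alternatingGroup α)) :
    g ∈ normalizer (R s : Set ↥(alternatingGroup α)) ↔ g • s = s := by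
  constructor
  · intro h
    have h' := Components.map_conj_eq_of_mem_normalizer h
    rw [map_R] at h'
    exact Finset.eq_of_subset_of_card_le (subset_of_R_le (by rwa [Finset.card_smul_finset]) h'.le)
      (by rw [Finset.card_smul_finset])
  · intro h
    refine Components.mem_normalizer_of_conj_le ?_
    rw [map_R, h]

theorem standard_R {s : Finset α} (hs : 5 ≤ s.card) (hc : sᶜ.card = 4) :
    Cfsg.IsStandardSubgroup (R s) := by
  have hC : centralizer (R s : Set ↥(alternatingGroup α)) = R sᶜ := centralizer_R (by omega)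
  have hcC := card_R (s := sᶜ) (by omega)
  rw [hc] at hcC
  norm_num [Nat.factorial] at hcC
  have hcL := card_R (s := s) (by omega)
  have h120 : 120 ≤ s.card.factorial := le_trans (by norm_num [Nat.factorial]) (Nat.factorial_le hs)
  refine ⟨?_, ⟨?_, ?_⟩, ?_, ?_⟩
  · haveI := alternatingGroup.isSimpleGroup (α := ↥s) (by
      rw [Nat.card_eq_fintype_card, Fintype.card_coe]; exact hs)
    refine Components.qs_of_equiv (X := ↥(alternatingGroup ↥s)) ?_
      (MonoidHom.ofInjective alternatingGroup.ofSubtype_injective)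
    refine Components.isQuasisimple_of_isSimpleGroup fun h => ?_
    rw [alternatingGroup.isMulCommutative_iff_card_le_three, Nat.card_eq_fintype_card,
      Fintype.card_coe] at h
    omega
  · rw [hC]; exact ⟨6, by omega⟩
  · intro g hg
    rw [hC, mem_normalizer_R (by omega)] at hg
    rw [hC, map_R]
    refine (odd_card_R (s := sᶜ ∩ g • sᶜ) ?_).of_dvd_nat (card_dvd_of_le fun x hx => mem_R.mpr fun i hi => ?_)
    · by_contra h
      have h1 : sᶜ ∩ g • sᶜ = sᶜ :=
        Finset.eq_of_subset_of_card_le Finset.inter_subset_left (by omega)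
      exact hg (Finset.eq_of_subset_of_card_le (Finset.inter_eq_left.mp h1)
        (by rw [Finset.card_smul_finset])).symm
    · rw [Finset.mem_inter, not_and_or] at hi
      exact hi.elim (mem_R.mp hx.1 i) (mem_R.mp hx.2 i)
  · intro g hne h
    have h1 : (R s).map (MulAut.conj g).toMonoidHom ≤ R sᶜ := by
      rw [← hC, le_centralizer_iff]
      exact commutator_eq_bot_iff_le_centralizer.mp h
    have h2 := card_le_of_le h1
    rw [card_map_of_injective (f := (MulAut.conj g).toMonoidHom) (MulAut.conj g).injective] at h2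
    omega
  · ext g
    rw [hC, mem_normalizer_R (by omega), mem_normalizer_R (by omega), smul_compl, compl_inj_iff]

/-- For n ≥ 9, the subgroup of the alternating group on Fin n fixing each of the points 0, 1, 2, 3 is a standard subgroup. -/
theorem result (n : ℕ) (h4 : 4 ≤ n) (hn : 9 ≤ n) : Cfsg.IsStandardSubgroup (⨅ i : Fin 4, MulAction.stabilizer ↥(alternatingGroup (Fin n)) (Fin.castLE h4 i : Fin n)) := by
  set s : Finset (Fin n) := (Finset.univ.map (Fin.castLEEmb h4))ᶜ with hs
  have hc : sᶜ.card = 4 := by rw [hs, compl_compl, Finset.card_map, Finset.card_fin]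
  have h5 : 5 ≤ s.card := by
    rw [hs, Finset.card_compl, Finset.card_map, Finset.card_fin, Fintype.card_fin]; omega
  convert standard_R h5 hc using 1
  ext x
  rw [mem_R, Subgroup.mem_iInf]
  constructor
  · intro h i hi
    rw [hs, Finset.mem_compl, not_not, Finset.mem_map] at hi
    obtain ⟨k, -, rfl⟩ := hi
    exact h k
  · intro h k
    exact h (Fin.castLE h4 k) (by simp [hs])

end Cfsg.Agent.S1323
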