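import Cfsg.Statements.S1326
import Cfsg.Agent.Lib.Components.FStar2

set_option autoImplicit false
open Cfsg

namespace Cfsg.Agent.S1326

open scoped commutatorElement
open Subgroup

/-- For a finite group X: the Fitting subgroup contains its centralizer if and only if the layer of X is trivial. -/
theorem result {X : Type*} [Group X] [Finite X] : Subgroup.centralizer (Cfsg.fittingSubgroup X : Set X) ≤ Cfsg.fittingSubgroup X ↔ Cfsg.layer X = ⊥ := by
  constructor
  · intro h
    by_contra hne
    haveI : Nontrivial ↥(Cfsg.layer X) := (nontrivial_iff_ne_bot _).mpr hne
    haveI := Components.layer_isPerfect (G := X)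
    haveI := Components.fitting_isSolvable (G := X)
    exact Group.IsPerfect.not_isSolvable ↥(Cfsg.layer X)
      (Group.isSolvable_of_isSolvable_injective
        (inclusion_injective (Components.layer_le_centralizer_fitting.trans h)))
  · intro h
    have := Components.centralizer_fStar_le (G := X)
    rwa [Cfsg.generalizedFittingSubgroup, h, bot_sup_eq] at this

end Cfsg.Agent.S1326
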