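import Cfsg.Statements.S1331
import Cfsg.Agent.Lib.Components.Signalizer

set_option autoImplicit false
open Cfsg

namespace Cfsg.Agent.S1331

open scoped commutatorElement
open Subgroup

/-- Let θ be a solvable A-signalizer functor on the finite group G for the prime p, A elementary abelian of rank at least 3, X a member of the family of θ, and B ≤ A with |B| ≥ p². Then X is generated by the subgroups X ∩ ⋂_{d ∈ D, d ≠ 1} θ d, D ranging over the subgroups of index p in B. -/
theorem result {G : Type*} [Group G] [Finite G] (p : ℕ) [Fact p.Prime] (A : Subgroup G) (hA : Cfsg.IsElementaryAbelian p A) (hA3 : p ^ 3 ≤ Nat.card ↥A) (θ : G → Subgroup G) (hθ : Cfsg.IsSolvableSignalizerFunctor p A θ) (X : Subgroup G) (hX : X ∈ Cfsg.signalizerFamily p A θ) (B : Subgroup G) (hB : B ≤ A) (hB2 : p ^ 2 ≤ Nat.card ↥B) : X = ⨆ D : {D : Subgroup G // D ≤ B ∧ D.relIndex B = p}, X ⊓ Cfsg.signalizerInf (D : Subgroup G) θ := by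
  have hBe := Components.elementary_mono hA hB
  refine le_antisymm ?_ (iSup_le fun _ => inf_le_left)
  refine (Components.le_iSup_centralizer_index_le hBe hX.2.1
    (hB.trans (Components.mem_family_invariant hX))).trans (iSup_le fun C => ?_)
  obtain ⟨C, hC, hi⟩ := C
  haveI : Fintype ↥B := Fintype.ofFinite _
  obtain ⟨D, hDC, hDB, hDi⟩ : ∃ D : Subgroup G, D ≤ C ∧ D ≤ B ∧ D.relIndex B = p := by
    have hp1 := (Fact.out : p.Prime).one_lt
    obtain ⟨k, hk⟩ := ((Components.elementary_isPGroup hBe).index (C.subgroupOf B))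
    change C.relIndex B = _ at hk
    have hi' : p ^ k ≤ p ^ 1 := by rw [pow_one, ← hk]; exact hi
    have hk1 : k ≤ 1 := (Nat.pow_le_pow_iff_right hp1).mp hi'
    rcases Nat.lt_or_ge k 1 with h0 | h1
    · obtain rfl : k = 0 := by omega
      have hBC : B ≤ C := relIndex_eq_one.mp (by rw [hk, pow_zero])
      obtain ⟨m, hm⟩ := (Components.elementary_isPGroup hBe).exists_card_eq
      have hm1 : 2 ≤ m := (Nat.pow_le_pow_iff_right hp1).mp (hm ▸ hB2)
      obtain ⟨K, hK⟩ := Sylow.exists_subgroup_card_pow_prime p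
        (G := ↥B) (n := m - 1) (by rw [hm]; exact pow_dvd_pow p (by omega))
      refine ⟨K.map B.subtype, (map_subtype_le K).trans hBC, map_subtype_le K, ?_⟩
      rw [relIndex, subgroupOf, comap_map_eq_self_of_injective B.subtype_injective]
      have h2 := K.card_mul_index
      rw [hK, hm] at h2
      have h3 : p ^ (m - 1) * p = p ^ m := by rw [← pow_succ]; congr 1; omega
      exact Nat.eq_of_mul_eq_mul_left (pow_pos (Fact.out : p.Prime).pos _) (h2.trans h3.symm)
    · exact ⟨C, le_rfl, hC, by rw [hk, show k = 1 by omega, pow_one]⟩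
  refine le_iSup_of_le ⟨D, hDB, hDi⟩ (le_inf inf_le_left ?_)
  refine le_trans ?_ (Components.mem_family_inf_centralizer_le hX (hDB.trans hB))
  exact inf_le_inf_left _ (centralizer_le hDC)

end Cfsg.Agent.S1331
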