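import Cfsg.Statements.S1335
import Cfsg.Agent.Lib.Components.Subnormal

set_option autoImplicit false
open Cfsg

namespace Cfsg.Agent.S1335

open scoped commutatorElement
open Subgroup

/-- Let H be a subgroup of the finite group G, p a prime, k ≥ 1, P a Sylow p-subgroup of H of p-rank at least k, and suppose N_G(X) ≤ H for every subgroup X ≤ P of p-rank at least k. Then P is a Sylow p-subgroup of G. -/
theorem result {G : Type*} [Group G] [Finite G] {p : ℕ} [Fact p.Prime] (k : ℕ) (hk : 1 ≤ k) (H : Subgroup G) (P : Sylow p ↥H) (hP : ¬ Cfsg.PRankLE p (k - 1) ↥(P : Subgroup ↥H)) (hΓ : (∀ X : Subgroup G, X ≤ (P : Subgroup ↥H).map H.subtype → ¬ Cfsg.PRankLE p (k - 1) ↥X → Subgroup.normalizer (X : Set G) ≤ H)) : ∃ Q : Sylow p G, (Q : Subgroup G) = (P : Subgroup ↥H).map H.subtype := by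
  set P' := (P : Subgroup ↥H).map H.subtype with hP'
  have hPp : IsPGroup p ↥P' := P.2.map _
  obtain ⟨Q, hQ⟩ := hPp.exists_le_sylow
  refine ⟨Q, le_antisymm ?_ hQ⟩
  have hN : normalizer (P' : Set G) ≤ H := hΓ P' le_rfl fun h => hP fun A hA hA2 => by
    haveI := hA
    let e := equivMapOfInjective (P : Subgroup ↥H) H.subtype H.subtype_injective
    have h1 := h (A.map e.toMonoidHom) inferInstance (by
      rintro _ ⟨a, ha, rfl⟩
      rw [← map_pow, hA2 a ha, map_one])
    exact (le_of_eq (card_map_of_injective (K := A) e.injective).symm).trans h1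
  by_contra hne
  have hlt : P'.subgroupOf (Q : Subgroup G) < ⊤ := by
    refine lt_top_iff_ne_top.mpr fun h => hne ?_
    exact subgroupOf_eq_top.mp h
  haveI := Q.2.isNilpotent
  have hlt2 := Group.normalizerCondition_of_isNilpotent (G := ↥(Q : Subgroup G)) _ hlt
  obtain ⟨y, hy, hy'⟩ := SetLike.exists_of_lt hlt2
  have hyN : (y : G) ∈ normalizer (P' : Set G) := by
    rw [mem_normalizer_iff]
    intro z
    constructor
    · intro hz
      exact (mem_normalizer_iff.mp hy ⟨z, hQ hz⟩).mp hz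
    · intro hz
      have hzQ : z ∈ (Q : Subgroup G) := by
        have := mul_mem (mul_mem (inv_mem y.2) (hQ hz)) y.2
        simpa [mul_assoc] using this
      exact (mem_normalizer_iff.mp hy ⟨z, hzQ⟩).mpr hz
  -- the subgroup generated by `P` and `y` is a p-subgroup of `H`
  have hle : P' ⊔ zpowers (y : G) ≤ (Q : Subgroup G) ⊓ H :=
    sup_le (le_inf hQ (map_subtype_le _)) (zpowers_le.mpr ⟨y.2, hN hyN⟩)
  have hRp : IsPGroup p ↥((P' ⊔ zpowers (y : G)).subgroupOf H) :=
    ((Q.2.to_le (hle.trans inf_le_left))).comap_of_injective H.subtype H.subtype_injective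
  have hPR : (P : Subgroup ↥H) ≤ (P' ⊔ zpowers (y : G)).subgroupOf H := by
    intro a ha
    exact mem_subgroupOf.mpr (mem_sup_left (mem_map_of_mem _ ha))
  have heq := P.3 hRp hPR
  apply hy'
  have hyR : (⟨(y : G), hN hyN⟩ : ↥H) ∈ (P' ⊔ zpowers (y : G)).subgroupOf H :=
    mem_subgroupOf.mpr (mem_sup_right (mem_zpowers _))
  rw [heq] at hyR
  exact ⟨_, hyR, rfl⟩

end Cfsg.Agent.S1335
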