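import Cfsg.Statements.S1336
import Cfsg.Agent.Lib.Components.Subnormal

set_option autoImplicit false
open Cfsg

namespace Cfsg.Agent.S1336

open scoped commutatorElement
open Subgroup

/-- Vertices and edges of the commuting graph. -/
abbrev Vert {G : Type*} [Group G] (p : ℕ) (E : Subgroup G) : Prop :=
  Cfsg.IsElementaryAbelian p E ∧ p ^ 1 ≤ Nat.card ↥E

abbrev Edge {G : Type*} [Group G] (p : ℕ) (A B : Subgroup G) : Prop :=
  Cfsg.IsElementaryAbelian p A ∧ p ^ 1 ≤ Nat.card ↥A ∧ Cfsg.IsElementaryAbelian p B ∧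
    p ^ 1 ≤ Nat.card ↥B ∧ ∀ a ∈ A, ∀ b ∈ B, a * b = b * a

theorem vert_zpowers {G : Type*} [Group G] {p : ℕ} {x : G} (hx : orderOf x = p) :
    Vert p (zpowers x) := by
  refine ⟨⟨inferInstance, fun a ha => ?_⟩, by rw [Nat.card_zpowers, hx, pow_one]⟩
  obtain ⟨n, rfl⟩ := mem_zpowers_iff.mp ha
  rw [← zpow_natCast, ← zpow_mul, mul_comm, zpow_mul, zpow_natCast, ← hx, pow_orderOf_eq_one, one_zpow]

theorem exists_mem_of_vert {G : Type*} [Group G] [Finite G] {p : ℕ} [hp : Fact p.Prime]
    {E : Subgroup G} (h : Vert p E) : ∃ x ∈ E, orderOf x = p := by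
  have : E ≠ ⊥ := by
    intro h0
    have := h.2
    rw [h0, card_bot, pow_one] at this
    exact absurd this (not_le.mpr hp.out.one_lt)
  obtain ⟨⟨x, hx⟩, hx1⟩ := ne_bot_iff_exists_ne_one.mp this
  exact ⟨x, hx, orderOf_eq_prime (h.1.2 x hx) fun e => hx1 (Subtype.ext e)⟩

theorem edge_map {G : Type*} [Group G] {p : ℕ} (f : G ≃* G) {A B : Subgroup G}
    (h : Edge p A B) : Edge p (A.map f.toMonoidHom) (B.map f.toMonoidHom) := by
  obtain ⟨hA, hA', hB, hB', hc⟩ := h
  have key : ∀ A : Subgroup G, Cfsg.IsElementaryAbelian p A →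
      Cfsg.IsElementaryAbelian p (A.map f.toMonoidHom) := by
    intro A hA
    haveI := hA.1
    refine ⟨inferInstance, ?_⟩
    rintro _ ⟨a, ha, rfl⟩
    rw [← map_pow, hA.2 a ha, map_one]
  refine ⟨key A hA, ?_, key B hB, ?_, ?_⟩
  · rwa [card_map_of_injective f.injective]
  · rwa [card_map_of_injective f.injective]
  · rintro _ ⟨a, ha, rfl⟩ _ ⟨b, hb, rfl⟩
    rw [← map_mul, ← map_mul, hc a ha b hb]

theorem edge_symm {G : Type*} [Group G] {p : ℕ} {A B : Subgroup G}
    (h : Edge p A B) : Edge p B A :=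
  ⟨h.2.2.1, h.2.2.2.1, h.1, h.2.1, fun a ha b hb => (h.2.2.2.2 b hb a ha).symm⟩

theorem conn_map {G : Type*} [Group G] {p : ℕ} (f : G ≃* G) {A B : Subgroup G}
    (h : Relation.ReflTransGen (Edge p) A B) :
    Relation.ReflTransGen (Edge p) (A.map f.toMonoidHom) (B.map f.toMonoidHom) := by
  induction h with
  | refl => exact Relation.ReflTransGen.refl
  | tail _ h ih => exact Relation.ReflTransGen.tail ih (edge_map f h)

theorem conn_symm {G : Type*} [Group G] {p : ℕ} {A B : Subgroup G}
    (h : Relation.ReflTransGen (Edge p) A B) : Relation.ReflTransGen (Edge p) B A := by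
  induction h with
  | refl => exact Relation.ReflTransGen.refl
  | tail _ h ih => exact Relation.ReflTransGen.head (edge_symm h) ih

/-- Each Sylow subgroup has a central element adjacent to all vertices in it. -/
theorem exists_center_vert {G : Type*} [Group G] [Finite G] {p : ℕ} [hp : Fact p.Prime]
    (P : Subgroup G) (hP : IsPGroup p ↥P) (h1 : P ≠ ⊥) :
    ∃ z ∈ P, orderOf z = p ∧ ∀ y ∈ P, y * z = z * y := by
  haveI : Nontrivial ↥P := (nontrivial_iff_ne_bot P).mpr h1
  haveI := hP.center_nontrivial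
  have hd : p ∣ Nat.card ↥(center ↥P) := by
    obtain ⟨k, hk⟩ := (hP.to_subgroup (center ↥P)).exists_card_eq
    rw [hk]
    rcases Nat.eq_zero_or_pos k with rfl | hk0
    · exact absurd (Finite.one_lt_card (α := ↥(center ↥P))) (by simp [hk])
    · exact dvd_pow_self p hk0.ne'
  obtain ⟨s, hs⟩ := exists_prime_orderOf_dvd_card' p hd
  exact ⟨((s : ↥P) : G), (s : ↥P).2, by rw [Subgroup.orderOf_coe, Subgroup.orderOf_coe, hs],
    fun y hy => congrArg Subtype.val (mem_center_iff.mp s.2 ⟨y, hy⟩)⟩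

/-- Let G be finite and p prime. Then G has a proper subgroup H with p ∣ |H| and p ∤ |H ∩ gHg⁻¹| for every g ∉ H (a strongly p-embedded subgroup) if and only if G is not 1-connected for p. -/
theorem result {G : Type*} [Group G] [Finite G] (p : ℕ) [Fact p.Prime] : (∃ H : Subgroup G, H ≠ ⊤ ∧ p ∣ Nat.card ↥H ∧ ∀ g : G, g ∉ H → ¬ p ∣ Nat.card ↥(H ⊓ H.map (MulAut.conj g).toMonoidHom)) ↔ ¬ Cfsg.IsKConnected p 1 G := by
  have hp := (Fact.out : p.Prime)
  have hCK : Cfsg.IsKConnected p 1 G ↔ ∀ E E' : Subgroup G, Vert p E → Vert p E' →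
      Relation.ReflTransGen (Edge p) E E' :=
    ⟨fun h E E' hE hE' => h E E' hE.1 hE.2 hE'.1 hE'.2,
      fun h E E' h1 h2 h3 h4 => h E E' ⟨h1, h2⟩ ⟨h3, h4⟩⟩
  rw [hCK]
  constructor
  · rintro ⟨H, hHtop, hd, hinter⟩ hconn
    obtain ⟨s, hs⟩ := exists_prime_orderOf_dvd_card' p hd
    have hE0 : Vert p (zpowers (s : G)) := vert_zpowers (by rw [Subgroup.orderOf_coe, hs])
    have key : ∀ F, Relation.ReflTransGen (Edge p) (zpowers (s : G)) F → F ≤ H := by
      intro F hF
      induction hF with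
      | refl => exact zpowers_le.mpr s.2
      | @tail A B _ hAB ih =>
        intro b hb
        by_contra hbH
        obtain ⟨a, ha, hao⟩ := exists_mem_of_vert ⟨hAB.1, hAB.2.1⟩
        refine hinter b hbH ?_
        have h1 : a ∈ H ⊓ H.map (MulAut.conj b).toMonoidHom := by
          refine mem_inf.mpr ⟨ih ha, a, ih ha, ?_⟩
          simp only [MulEquiv.coe_toMonoidHom, MulAut.conj_apply]
          rw [← hAB.2.2.2.2 a ha b hb, mul_inv_cancel_right]
        rw [← hao, ← Subgroup.orderOf_mk a h1]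
        exact orderOf_dvd_natCard _
    obtain ⟨g, hg⟩ : ∃ g, g ∉ H := by
      by_contra h
      push_neg at h
      exact hHtop (eq_top_iff' H |>.mpr h)
    have hgs : orderOf (g * (s : G) * g⁻¹) = p := by
      rw [← MulAut.conj_apply, MulEquiv.orderOf_eq, Subgroup.orderOf_coe, hs]
    have h1 := key _ (hconn _ _ hE0 (vert_zpowers hgs)) (mem_zpowers _)
    refine hinter g hg ?_
    have h2 : g * (s : G) * g⁻¹ ∈ H ⊓ H.map (MulAut.conj g).toMonoidHom :=
      mem_inf.mpr ⟨h1, (s : G), s.2, rfl⟩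
    rw [← hgs, ← Subgroup.orderOf_mk _ h2]
    exact orderOf_dvd_natCard _
  · intro hconn
    push_neg at hconn
    obtain ⟨E0, E', hE0, hE', hne⟩ := hconn
    obtain ⟨x0, hx0, hx0o⟩ := exists_mem_of_vert hE0
    have hE0p : IsPGroup p ↥E0 := fun a =>
      ⟨1, Subtype.ext (by rw [pow_one]; exact hE0.1.2 a a.2)⟩
    obtain ⟨P0, hP0⟩ := hE0p.exists_le_sylow
    have hP0ne : (P0 : Subgroup G) ≠ ⊥ := by
      intro h
      have := hP0 hx0
      rw [h, mem_bot] at this
      rw [this, orderOf_one] at hx0o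
      exact hp.one_lt.ne hx0o
    obtain ⟨z0, hz0, hz0o, hz0c⟩ := exists_center_vert _ P0.2 hP0ne
    have hZ0 : Vert p (zpowers z0) := vert_zpowers hz0o
    have toZ : ∀ F : Subgroup G, Vert p F → F ≤ (P0 : Subgroup G) →
        Edge p F (zpowers z0) := by
      intro F hF hFP
      refine ⟨hF.1, hF.2, hZ0.1, hZ0.2, fun a ha b hb => ?_⟩
      obtain ⟨n, rfl⟩ := mem_zpowers_iff.mp hb
      exact (Commute.zpow_right (hz0c a (hFP ha)) n).eq
    let c : G → Subgroup G → Subgroup G := fun g A => A.map (MulAut.conj g).toMonoidHom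
    have hcc : ∀ g h : G, ∀ A, c g (c h A) = c (g * h) A := by
      intro g h A
      simp only [c, map_map]
      congr 1
      ext y
      simp [mul_assoc]
    have hc1 : ∀ A, c 1 A = A := by
      intro A
      ext y
      simp [c]
    let H : Subgroup G :=
      { carrier := {g | Relation.ReflTransGen (Edge p) (c g E0) E0}
        one_mem' := by
          change Relation.ReflTransGen (Edge p) (c 1 E0) E0
          rw [hc1]
        mul_mem' := fun {g h} hg hh => by
          change Relation.ReflTransGen (Edge p) (c (g * h) E0) E0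
          rw [← hcc]
          exact (conn_map (MulAut.conj g) hh).trans hg
        inv_mem' := fun {g} hg => by
          change Relation.ReflTransGen (Edge p) (c g⁻¹ E0) E0
          have h1 : Relation.ReflTransGen (Edge p) (c g⁻¹ (c g E0)) (c g⁻¹ E0) :=
            conn_map (MulAut.conj g⁻¹) hg
          rw [hcc, inv_mul_cancel, hc1] at h1
          exact conn_symm h1 }
    have hP0H : (P0 : Subgroup G) ≤ H := by
      intro y hy
      change Relation.ReflTransGen (Edge p) (c y E0) E0
      have hZfix : c y (zpowers z0) = zpowers z0 := by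
        simp only [c, MonoidHom.map_zpowers]
        congr 1
        simp only [MulEquiv.coe_toMonoidHom, MulAut.conj_apply]
        rw [hz0c y hy, mul_inv_cancel_right]
      have h1 : Edge p (c y E0) (c y (zpowers z0)) := edge_map _ (toZ E0 hE0 hP0)
      rw [hZfix] at h1
      exact Relation.ReflTransGen.head h1 (Relation.ReflTransGen.single (edge_symm (toZ E0 hE0 hP0)))
    -- every element of order `p` in `H` is joined to `E0`
    have hin : ∀ x ∈ H, orderOf x = p → Relation.ReflTransGen (Edge p) (zpowers x) E0 := by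
      intro x hx hxo
      have hxp : IsPGroup p ↥(zpowers (⟨x, hx⟩ : ↥H)) := by
        refine IsPGroup.of_card (n := 1) ?_
        rw [Nat.card_zpowers, Subgroup.orderOf_mk, hxo, pow_one]
      obtain ⟨S, hS⟩ := hxp.exists_le_sylow
      obtain ⟨h, hh⟩ := MulAction.exists_smul_eq ↥H (P0.subtype hP0H) S
      have h1 : (⟨x, hx⟩ : ↥H) ∈ ((h • P0.subtype hP0H : Sylow p ↥H) : Subgroup ↥H) := by
        rw [hh]; exact hS (mem_zpowers _)
      rw [Sylow.coe_subgroup_smul, Subgroup.mem_pointwise_smul_iff_inv_smul_mem] at h1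
      have h2 : (h : G)⁻¹ * x * (h : G) ∈ (P0 : Subgroup G) := by
        simp at h1
        exact h1
      have h3 : Vert p (zpowers ((h : G)⁻¹ * x * (h : G))) := by
        refine vert_zpowers ?_
        have : (h : G)⁻¹ * x * (h : G) = MulAut.conj (h : G)⁻¹ x := by simp
        rw [this, MulEquiv.orderOf_eq, hxo]
      have h4 : Edge p (zpowers ((h : G)⁻¹ * x * (h : G))) (zpowers z0) := toZ _ h3 (zpowers_le.mpr h2)
      have h5 : Relation.ReflTransGen (Edge p) (zpowers ((h : G)⁻¹ * x * (h : G))) E0 :=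
        (Relation.ReflTransGen.single h4).trans (Relation.ReflTransGen.single (edge_symm (toZ E0 hE0 hP0)))
      have h6 := conn_map (MulAut.conj (h : G)) h5
      rw [MonoidHom.map_zpowers] at h6
      simp only [MulEquiv.coe_toMonoidHom, MulAut.conj_apply] at h6
      rw [show (h : G) * ((h : G)⁻¹ * x * (h : G)) * (h : G)⁻¹ = x by group] at h6
      exact h6.trans h.2
    refine ⟨H, ?_, ?_, ?_⟩
    · intro htop
      obtain ⟨x', hx', hx'o⟩ := exists_mem_of_vert hE'
      have h1 := hin x' (htop ▸ mem_top x') hx'o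
      have h2 : Edge p E' (zpowers x') := by
        refine ⟨hE'.1, hE'.2, (vert_zpowers hx'o).1, (vert_zpowers hx'o).2, fun a ha b hb => ?_⟩
        haveI := hE'.1.1
        have hb' : b ∈ E' := zpowers_le.mpr hx' hb
        exact congrArg Subtype.val (IsMulCommutative.is_comm.comm (⟨a, ha⟩ : ↥E') ⟨b, hb'⟩)
      exact hne (conn_symm (Relation.ReflTransGen.head h2 h1))
    · rw [← hx0o, ← Subgroup.orderOf_mk x0 (hP0H (hP0 hx0))]
      exact orderOf_dvd_natCard _
    · intro g hg hd
      obtain ⟨⟨x, hx⟩, hxo⟩ := exists_prime_orderOf_dvd_card' p hd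
      rw [Subgroup.orderOf_mk] at hxo
      obtain ⟨hx1, y, hy, hyx⟩ := mem_inf.mp hx
      have hyo : orderOf y = p := by rw [← hxo, ← hyx]; exact (MulEquiv.orderOf_eq _ y).symm
      refine hg ?_
      change Relation.ReflTransGen (Edge p) (c g E0) E0
      have h1 := conn_map (MulAut.conj g) (hin y hy hyo)
      rw [MonoidHom.map_zpowers, hyx] at h1
      exact (conn_symm h1).trans (hin x hx1 hxo)

end Cfsg.Agent.S1336
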