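import Cfsg.Statements.S1337
import Cfsg.Agent.Lib.PGroup23.NormalSq
import Cfsg.Agent.Lib.OddLocal.UniqueC

set_option autoImplicit false
open Cfsg

namespace Cfsg.Agent.S1337

/-- A subgroup generated by commuting elements of an elementary abelian pair. -/
theorem sup_elementary {P : Type*} [Group P] {p : ℕ} {A B : Subgroup P}
    (hA : Cfsg.IsElementaryAbelian p A) (hB : Cfsg.IsElementaryAbelian p B)
    (h : ∀ a ∈ A, ∀ b ∈ B, a * b = b * a) : Cfsg.IsElementaryAbelian p (A ⊔ B) := by
  have hBn : B ≤ Subgroup.normalizer (A : Set P) := fun b hb =>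
    Subgroup.centralizer_le_normalizer _ (Subgroup.mem_centralizer_iff.mpr fun a ha => h a ha b hb)
  have dec : ∀ x ∈ A ⊔ B, ∃ a ∈ A, ∃ b ∈ B, a * b = x := by
    intro x hx
    rw [← SetLike.mem_coe, Subgroup.coe_mul_of_right_le_normalizer_left _ _ hBn] at hx
    exact hx
  constructor
  · refine ⟨⟨fun x y => Subtype.ext ?_⟩⟩
    obtain ⟨a, ha, b, hb, hx⟩ := dec x x.2
    obtain ⟨a', ha', b', hb', hy⟩ := dec y y.2
    have e1 : Commute a a' := congrArg Subtype.val (hA.1.is_comm.comm ⟨a, ha⟩ ⟨a', ha'⟩)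
    have e2 : Commute b b' := congrArg Subtype.val (hB.1.is_comm.comm ⟨b, hb⟩ ⟨b', hb'⟩)
    have e3 : Commute a b' := h a ha b' hb'
    have e4 : Commute a' b := h a' ha' b hb
    show (x : P) * y = y * x
    rw [← hx, ← hy]
    exact ((e1.mul_right e3).mul_left (e4.symm.mul_right e2)).eq
  · intro x hx
    obtain ⟨a, ha, b, hb, rfl⟩ := dec x hx
    rw [Commute.mul_pow (h a ha b hb), hA.2 a ha, hB.2 b hb, one_mul]

/-- A commutative quaternion group does not exist. -/
theorem quaternion_not_comm (n : ℕ) [NeZero n] (hn : 2 ≤ n) :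
    ¬ ∀ u v : QuaternionGroup n, u * v = v * u := by
  intro h
  have h1 := h (QuaternionGroup.a 1) (QuaternionGroup.xa 0)
  rw [QuaternionGroup.a_mul_xa, QuaternionGroup.xa_mul_a, zero_sub, zero_add, QuaternionGroup.xa.injEq] at h1
  have h2 : ((2 : ℕ) : ZMod (2 * n)) = 0 := by
    calc ((2 : ℕ) : ZMod (2 * n)) = 1 + 1 := by rw [Nat.cast_two, one_add_one_eq_two]
      _ = -1 + 1 := by rw [h1]
      _ = 0 := neg_add_cancel 1
  have h3 := Nat.le_of_dvd (by norm_num) ((ZMod.natCast_eq_zero_iff 2 (2 * n)).mp h2)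
  omega

/-- A 2-group of rank at least 3 has a normal elementary abelian subgroup of order at least 4. -/
theorem exists_normal_elementary_two {P : Type*} [Group P] [Finite P] [hp : Fact (Nat.Prime 2)]
    (hP : IsPGroup 2 P) {E : Subgroup P} (hE : Cfsg.IsElementaryAbelian 2 E) (hE3 : 8 ≤ Nat.card E) :
    ∃ N : Subgroup P, N.Normal ∧ Cfsg.IsElementaryAbelian 2 N ∧ 2 < Nat.card N := by
  by_contra hcon
  push Not at hcon
  obtain ⟨A, hA⟩ := (Set.toFinite {A : Subgroup P | A.Normal ∧ IsMulCommutative A}).exists_maximal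
    ⟨⊥, inferInstance, ⟨⟨fun a b => Subtype.ext (by
      rw [show a = 1 from Subsingleton.elim _ _, show b = 1 from Subsingleton.elim _ _])⟩⟩⟩
  haveI hAn : A.Normal := hA.prop.1
  haveI hAc : IsMulCommutative A := hA.prop.2
  have hcomm : ∀ a ∈ A, ∀ b ∈ A, a * b = b * a := fun a ha b hb =>
    congrArg Subtype.val (hAc.is_comm.comm ⟨a, ha⟩ ⟨b, hb⟩)
  -- `A` is self-centralizing
  have hself : Subgroup.centralizer (A : Set P) ≤ A := by
    set C := Subgroup.centralizer (A : Set P)
    haveI : C.Normal := Subgroup.normal_centralizer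
    haveI : (C.map (QuotientGroup.mk' A)).Normal :=
      Subgroup.Normal.map inferInstance _ (QuotientGroup.mk'_surjective A)
    by_contra hne
    have hne' : C.map (QuotientGroup.mk' A) ≠ ⊥ := by
      rw [Ne, Subgroup.map_eq_bot_iff, QuotientGroup.ker_mk']; exact hne
    obtain ⟨_, ⟨w, hw, rfl⟩, hwc, hw1⟩ :=
      OddLocal.exists_mem_center_ne_one_of_normal (hP.to_quotient A) _ hne'
    set B := A ⊔ Subgroup.zpowers w with hB
    have hBn : B.Normal := by
      constructor
      intro b hb g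
      have hle : B ≤ (Subgroup.center (P ⧸ A)).comap (QuotientGroup.mk' A) := by
        refine sup_le (fun a ha => ?_) (Subgroup.zpowers_le.mpr hwc)
        rw [Subgroup.mem_comap, QuotientGroup.mk'_apply, (QuotientGroup.eq_one_iff a).mpr ha]
        exact one_mem _
      have h1 : (g * b * g⁻¹) * b⁻¹ ∈ A := by
        rw [← QuotientGroup.eq_one_iff]
        have h2 := Subgroup.mem_center_iff.mp (hle hb) (QuotientGroup.mk' A g)
        simp only [QuotientGroup.mk'_apply] at h2
        simp only [QuotientGroup.mk_mul, QuotientGroup.mk_inv, h2]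
        group
      have := mul_mem (Subgroup.mem_sup_left (T := Subgroup.zpowers w) h1) hb
      simpa using this
    have hBc : IsMulCommutative B := by
      rw [hB, Subgroup.zpowers_eq_closure, ← Subgroup.closure_eq A, ← Subgroup.closure_union]
      refine Subgroup.isMulCommutative_closure ?_
      rintro a (ha | rfl) b (hb | rfl)
      · exact hcomm a ha b hb
      · exact Subgroup.mem_centralizer_iff.mp hw a ha
      · exact (Subgroup.mem_centralizer_iff.mp hw b hb).symm
      · rfl
    have := hA.le_of_ge ⟨hBn, hBc⟩ le_sup_left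
    exact hw1 ((QuotientGroup.eq_one_iff w).mpr (this (Subgroup.mem_sup_right (Subgroup.mem_zpowers w))))
  -- `A` has at most one involution
  let Ω : Subgroup P :=
    { carrier := {a | a ∈ A ∧ a ^ 2 = 1}
      one_mem' := ⟨one_mem A, one_pow 2⟩
      mul_mem' := fun {a b} ha hb => ⟨mul_mem ha.1 hb.1, by
        rw [Commute.mul_pow (hcomm a ha.1 b hb.1), ha.2, hb.2, one_mul]⟩
      inv_mem' := fun {a} ha => ⟨inv_mem ha.1, by rw [inv_pow, ha.2, inv_one]⟩ }
  haveI hΩn : Ω.Normal := ⟨fun a ha g => ⟨hAn.conj_mem a ha.1 g, by rw [conj_pow, ha.2]; group⟩⟩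
  have hΩe : Cfsg.IsElementaryAbelian 2 Ω :=
    ⟨⟨⟨fun a b => Subtype.ext (hcomm a a.2.1 b b.2.1)⟩⟩, fun a ha => ha.2⟩
  have hΩc : Nat.card Ω ≤ 2 := hcon Ω hΩn hΩe
  have huniq : ∀ H K : Subgroup A, Nat.card H = 2 → Nat.card K = 2 → H = K := by
    have key : ∀ H : Subgroup A, Nat.card H = 2 → H.map A.subtype = Ω := by
      intro H hH
      refine Subgroup.eq_of_le_of_card_ge ?_ (by
        rw [Subgroup.card_map_of_injective A.subtype_injective, hH]; exact hΩc)
      rintro _ ⟨h, hh, rfl⟩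
      refine ⟨h.2, ?_⟩
      have h0 := pow_card_eq_one' (x := (⟨h, hh⟩ : ↥H))
      rw [hH] at h0
      exact congrArg (fun z : ↥H => ((z : ↥A) : P)) h0
    intro H K hH hK
    exact Subgroup.map_injective A.subtype_injective ((key H hH).trans (key K hK).symm)
  have hAcyc : IsCyclic A := by
    rcases InvChar.cyclic_or_quaternion (hP.to_subgroup A) huniq with h | ⟨-, n, ⟨e⟩⟩
    · exact h
    · obtain _ | m := n
      · haveI := QuaternionGroup.quaternionGroup_one_isCyclic
        exact isCyclic_of_surjective e.symm e.symm.surjective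
      · exfalso
        haveI : NeZero (2 ^ (m + 1)) := ⟨by positivity⟩
        refine quaternion_not_comm (2 ^ (m + 1))
          (Nat.le_self_pow (Nat.succ_ne_zero m) 2) fun u v => e.symm.injective ?_
        rw [map_mul, map_mul]
        exact hAc.is_comm.comm _ _
  obtain ⟨⟨a, haA⟩, ha⟩ := IsCyclic.exists_generator (α := A)
  have hgen : ∀ x ∈ A, ∃ i : ℤ, a ^ i = x := fun x hx => by
    obtain ⟨i, hi⟩ := Subgroup.mem_zpowers_iff.mp (ha ⟨x, hx⟩)
    exact ⟨i, congrArg Subtype.val hi⟩
  have hconj : ∀ g : P, ∃ r : ℤ, g * a * g⁻¹ = a ^ r := fun g => by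
    obtain ⟨i, hi⟩ := hgen _ (hAn.conj_mem a haA g)
    exact ⟨i, hi.symm⟩
  -- automorphisms of a cyclic group commute
  have hcent : ∀ g : P, g * a * g⁻¹ = a → g ∈ A := fun g hg => by
    refine hself (Subgroup.mem_centralizer_iff.mpr fun x hx => ?_)
    obtain ⟨i, rfl⟩ := hgen x hx
    have h1 : Commute g a := mul_inv_eq_iff_eq_mul.mp hg
    exact (h1.zpow_right i).eq.symm
  obtain ⟨m, hm⟩ : ∃ m, orderOf a = 2 ^ m := by
    obtain ⟨k, hk⟩ := hP a
    obtain ⟨j, -, hj⟩ := (Nat.dvd_prime_pow Nat.prime_two).mp (orderOf_dvd_of_pow_eq_one hk)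
    exact ⟨j, hj⟩
  set z := a ^ ((2 : ℤ) ^ (m - 1)) with hz
  -- the possible images of `a`
  have himg : ∀ e ∈ E, e * a * e⁻¹ ∈ ({a, a * z, a⁻¹, a⁻¹ * z} : Set P) := by
    intro e he
    obtain ⟨r, hr⟩ := hconj e
    have h2 : a ^ (r * r) = a := by
      have hee : e * e = 1 := by rw [← sq]; exact hE.2 e he
      rw [zpow_mul, ← hr, conj_zpow, ← hr]
      calc e * (e * a * e⁻¹) * e⁻¹ = (e * e) * a * (e * e)⁻¹ := by group
        _ = a := by rw [hee]; group
    have h3 : ((2 : ℤ) ^ m) ∣ (r - 1) * (r + 1) := by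
      have h4 : a ^ (r * r - 1) = 1 := by rw [zpow_sub, h2, zpow_one, mul_inv_cancel]
      have h5 := orderOf_dvd_iff_zpow_eq_one.mpr h4
      rw [hm] at h5
      push_cast at h5
      convert h5 using 1; ring
    have hpow : ∀ k : ℤ, ((2 : ℤ) ^ m) ∣ k → a ^ k = 1 := fun k hk =>
      orderOf_dvd_iff_zpow_eq_one.mp (by rw [hm]; push_cast; exact hk)
    have hcase : ∀ s : ℤ, (2 : ℤ) ^ (m - 1) ∣ r - s → a ^ r = a ^ s ∨ a ^ r = a ^ s * z := by
      intro s ⟨k, hk⟩
      rcases Int.even_or_odd' k with ⟨j, rfl | rfl⟩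
      · left
        rw [show r = s + 2 ^ (m - 1) * (2 * j) by omega, zpow_add, hpow (2 ^ (m - 1) * (2 * j)) ?_, mul_one]
        rcases m with _ | m'
        · simp
        · simp only [Nat.add_sub_cancel, pow_succ]; exact ⟨j, by ring⟩
      · right
        rw [show r = s + ((2 : ℤ) ^ (m - 1) + 2 ^ (m - 1) * (2 * j)) by linarith,
          zpow_add, zpow_add, hpow (2 ^ (m - 1) * (2 * j)) ?_, mul_one, hz]
        rcases m with _ | m'
        · simp
        · simp only [Nat.add_sub_cancel, pow_succ]; exact ⟨j, by ring⟩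
    have hsplit : (2 : ℤ) ^ (m - 1) ∣ r - 1 ∨ (2 : ℤ) ^ (m - 1) ∣ r + 1 := by
      rcases m with _ | m'
      · exact Or.inl (by simp)
      simp only [Nat.add_sub_cancel]
      rcases Int.even_or_odd' r with ⟨j, rfl | rfl⟩
      · exfalso
        have h5 : (2 : ℤ) ∣ (2 * j - 1) * (2 * j + 1) := (dvd_pow_self 2 (Nat.succ_ne_zero m')).trans h3
        rcases Int.prime_two.dvd_mul.mp h5 with h6 | h6 <;> omega
      · have e : (2 * j + 1 - 1) * (2 * j + 1 + 1) = 4 * (j * (j + 1)) := by ring
        rw [e] at h3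
        rcases m' with _ | n
        · exact Or.inl (by simp)
        have h4 : (2 : ℤ) ^ n ∣ j * (j + 1) := by
          rw [show (2 : ℤ) ^ (n + 1 + 1) = 4 * 2 ^ n by ring] at h3
          exact (mul_dvd_mul_iff_left (by norm_num : (4 : ℤ) ≠ 0)).mp h3
        rcases Int.even_or_odd j with hj | hj
        · left
          have hco : IsCoprime ((2 : ℤ) ^ n) (j + 1) := by
            apply IsCoprime.pow_left
            obtain ⟨q, rfl⟩ := hj
            exact ⟨-q, 1, by ring⟩
          have h5 := hco.dvd_of_dvd_mul_right h4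
          rw [show 2 * j + 1 - 1 = 2 * j by ring, pow_succ, mul_comm]
          exact mul_dvd_mul_left 2 h5
        · right
          have hco : IsCoprime ((2 : ℤ) ^ n) j := by
            apply IsCoprime.pow_left
            obtain ⟨q, rfl⟩ := hj
            exact ⟨-q, 1, by ring⟩
          have h5 := hco.dvd_of_dvd_mul_left h4
          rw [show 2 * j + 1 + 1 = 2 * (j + 1) by ring, pow_succ, mul_comm]
          exact mul_dvd_mul_left 2 h5
    rw [hr]
    rcases hsplit with h | h
    · rcases hcase 1 h with h' | h' <;> rw [h', zpow_one] <;> simp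
    · rcases hcase (-1) (by simpa using h) with h' | h' <;> rw [h', zpow_neg_one] <;> simp
  -- counting
  classical
  let f : ↥E → P := fun e => (e : P) * a * (e : P)⁻¹
  have hfib : ∀ w : P, Nat.card {e : ↥E // f e = w} ≤ 2 := by
    intro w
    rcases isEmpty_or_nonempty {e : ↥E // f e = w} with h | ⟨⟨e₀, he₀⟩⟩
    · simp
    · refine le_trans (Nat.card_le_card_of_injective
        (fun e : {e : ↥E // f e = w} => (⟨((e₀ : P))⁻¹ * (e.1 : P), ?_⟩ : ↥Ω)) ?_) hΩc
      · have hmem := E.mul_mem (E.inv_mem e₀.2) e.1.2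
        refine ⟨hcent _ ?_, hE.2 _ hmem⟩
        have h1 : (e.1 : P) * a * (e.1 : P)⁻¹ = (e₀ : P) * a * (e₀ : P)⁻¹ := e.2.trans he₀.symm
        calc (e₀ : P)⁻¹ * e.1 * a * ((e₀ : P)⁻¹ * e.1)⁻¹
            = (e₀ : P)⁻¹ * ((e.1 : P) * a * (e.1 : P)⁻¹) * e₀ := by group
          _ = a := by rw [h1]; group
      · intro x y hxy
        have := congrArg (fun t : ↥Ω => (t : P)) hxy
        simp only [mul_right_inj] at this
        exact Subtype.ext (Subtype.ext this)
  set S4 : Finset P := {a, a * z, a⁻¹, a⁻¹ * z} with hS4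
  haveI : Fintype ↥E := Fintype.ofFinite _
  have hcount : Nat.card E ≤ 2 * (Finset.univ.image f).card := by
    rw [Nat.card_eq_fintype_card, ← Finset.card_univ]
    refine Finset.card_le_mul_card_image _ 2 fun w _ => ?_
    refine le_trans (le_of_eq ?_) (hfib w)
    rw [Nat.card_eq_fintype_card, Fintype.card_subtype]
  have hsub : Finset.univ.image f ⊆ S4 := by
    intro w hw
    obtain ⟨e, -, rfl⟩ := Finset.mem_image.mp hw
    simpa [hS4] using himg e e.2
  have hS4le : S4.card ≤ 4 := Finset.card_le_four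
  have h4 : 4 ≤ (Finset.univ.image f).card := by omega
  have heq : Finset.univ.image f = S4 := Finset.eq_of_subset_of_card_le hsub (by omega)
  have hcard4 : S4.card = 4 := by
    rw [← heq] at hS4le ⊢; omega
  have hne12 : a * z ≠ a ∧ a * z ≠ a⁻¹ := by
    constructor <;> intro h <;> rw [hS4, h] at hcard4
    · have h5 : ({a, a, a⁻¹, a⁻¹ * z} : Finset P).card ≤ 3 := by
        rw [Finset.insert_eq_of_mem (Finset.mem_insert_self _ _)]; exact Finset.card_le_three
      omega
    · have h5 : ({a, a⁻¹, a⁻¹, a⁻¹ * z} : Finset P).card ≤ 3 := by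
        rw [Finset.insert_eq_of_mem (Finset.mem_insert_self a⁻¹ _)]; exact Finset.card_le_three
      omega
  have hmem : a * z ∈ Finset.univ.image f := by rw [heq, hS4]; simp
  obtain ⟨e, -, he⟩ := Finset.mem_image.mp hmem
  have hm3 : 3 ≤ m := by
    by_contra h
    rcases m with _ | _ | _ | k
    · apply hne12.1
      rw [pow_zero, orderOf_eq_one_iff] at hm
      rw [hz, hm, one_zpow, mul_one]
    · apply hne12.2
      have h2 : a ^ 2 = 1 := by rw [← pow_one 2, ← hm]; exact pow_orderOf_eq_one a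
      have : z = a := by rw [hz]; simp
      rw [this, ← sq, h2]
      have hinv : a⁻¹ = a := inv_eq_of_mul_eq_one_right (by rw [← sq, h2])
      exfalso
      have h5 : ({a, a * z, a⁻¹, a⁻¹ * z} : Finset P).card ≤ 3 := by
        rw [hinv, Finset.insert_eq_of_mem (s := {a * z, a, a * z}) (by simp)]
        exact Finset.card_le_three
      rw [← hS4] at h5; omega
    · apply hne12.2
      have h4 : a ^ 4 = 1 := by
        rw [show (4 : ℕ) = 2 ^ 2 by norm_num, ← hm]; exact pow_orderOf_eq_one a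
      rw [hz, show ((2 : ℤ) ^ (0 + 1 + 1 - 1)) = ((2 : ℕ) : ℤ) by norm_num, zpow_natCast,
        eq_inv_iff_mul_eq_one, ← pow_succ', ← pow_succ]
      exact h4
    · omega
  -- `⟨z, e⟩` is normal
  have hzA : z ∈ A := zpow_mem haA _
  have hordd : ∀ k : ℤ, a ^ k = 1 ↔ (2 : ℤ) ^ m ∣ k := fun k => by
    rw [← orderOf_dvd_iff_zpow_eq_one, hm]; push_cast; rfl
  have hz2 : z ^ 2 = 1 := by
    rw [hz, ← zpow_natCast, ← zpow_mul, hordd]
    refine ⟨1, ?_⟩
    rw [mul_one]; push_cast
    rw [← pow_succ]; congr 1; omega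
  have hzne : z ≠ 1 := fun h => hne12.1 (by rw [h, mul_one])
  have hzΩ : z ∈ Ω := ⟨hzA, hz2⟩
  have hΩz : ∀ w ∈ Ω, w = 1 ∨ w = z := by
    intro w hw
    by_contra hcw
    push Not at hcw
    have : 3 ≤ Nat.card Ω := by
      haveI : Fintype ↥Ω := Fintype.ofFinite _
      rw [Nat.card_eq_fintype_card, ← Finset.card_univ]
      refine le_trans ?_ (Finset.card_le_card
        (Finset.subset_univ ({1, ⟨z, hzΩ⟩, ⟨w, hw⟩} : Finset ↥Ω)))
      rw [Finset.card_insert_of_notMem, Finset.card_pair]
      · exact fun h => hcw.2 (congrArg Subtype.val h).symm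
      · simp only [Finset.mem_insert, Finset.mem_singleton, not_or]
        exact ⟨fun h => hzne (congrArg Subtype.val h).symm, fun h => hcw.1 (congrArg Subtype.val h).symm⟩
    omega
  have hzc : z ∈ Subgroup.center P := Subgroup.mem_center_iff.mpr fun g => by
    rcases hΩz _ (hΩn.conj_mem z hzΩ g) with h | h
    · exact absurd (conj_eq_one_iff.mp h) hzne
    · exact mul_inv_eq_iff_eq_mul.mp h
  set e' : P := (e : P) with he'
  have hee : e' ^ 2 = 1 := hE.2 e' e.2
  have hea : e' * a * e'⁻¹ = a * z := he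
  have hez : Commute e' z := Subgroup.mem_center_iff.mp hzc e'
  set U := Subgroup.zpowers z ⊔ Subgroup.zpowers e' with hU
  have heU : e' ∈ U := Subgroup.mem_sup_right (Subgroup.mem_zpowers _)
  have hzU : z ∈ U := Subgroup.mem_sup_left (Subgroup.mem_zpowers _)
  have hUn : U.Normal := by
    have hconjU : ∀ g : P, g * e' * g⁻¹ ∈ U := by
      intro g
      obtain ⟨s, hs⟩ := hconj g⁻¹
      rw [inv_inv] at hs
      have hw : e'⁻¹ * (g * e' * g⁻¹) ∈ A := by
        refine hcent _ ?_
        have h1 : e' * a ^ s * e'⁻¹ = (a * z) ^ s := by rw [← conj_zpow, hea]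
        have h2 : g * a ^ s * g⁻¹ = a := by rw [← hs]; group
        have h3 : g * z * g⁻¹ = z := by rw [Subgroup.mem_center_iff.mp hzc g, mul_inv_cancel_right]
        have h4 : g * (a * z) ^ s * g⁻¹ = a * z ^ s := by
          rw [Commute.mul_zpow (Subgroup.mem_center_iff.mp hzc a)]
          calc g * (a ^ s * z ^ s) * g⁻¹ = g * a ^ s * g⁻¹ * (g * z * g⁻¹) ^ s := by
                rw [conj_zpow]; group
            _ = a * z ^ s := by rw [h2, h3]
        have hzs : z ^ s = z := by
          rcases Int.even_or_odd' s with ⟨j, rfl | rfl⟩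
          · exfalso
            -- an even power cannot generate
            obtain ⟨i, hi⟩ := hconj g
            have h5 : a ^ (i * (2 * j)) = a := by
              rw [zpow_mul, ← hi, conj_zpow]; exact h2
            have h6 : a ^ (i * (2 * j) - 1) = 1 := by rw [zpow_sub, h5, zpow_one, mul_inv_cancel]
            rw [hordd] at h6
            have h7 := (dvd_pow_self (2 : ℤ) (show m ≠ 0 by omega)).trans h6
            rw [mul_left_comm] at h7
            omega
          · rw [zpow_add, zpow_mul, zpow_two, ← sq, hz2, one_zpow, one_mul, zpow_one]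
        have h5 : g * e' * g⁻¹ * a * (g * e' * g⁻¹)⁻¹ = a * z := by
          calc g * e' * g⁻¹ * a * (g * e' * g⁻¹)⁻¹ = g * (e' * (g⁻¹ * a * g) * e'⁻¹) * g⁻¹ := by group
            _ = a * z := by rw [hs, h1, h4, hzs]
        calc e'⁻¹ * (g * e' * g⁻¹) * a * (e'⁻¹ * (g * e' * g⁻¹))⁻¹
            = e'⁻¹ * (g * e' * g⁻¹ * a * (g * e' * g⁻¹)⁻¹) * e' := by group
          _ = e'⁻¹ * (a * z) * e' := by rw [h5]
          _ = a := by rw [← hea]; group
      obtain ⟨i, hi⟩ := hgen _ hw
      have hg : g * e' * g⁻¹ = e' * a ^ i := by rw [hi, mul_inv_cancel_left]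
      have h6 : a ^ (2 * i) * z ^ i = 1 := by
        have h7 : (e' * a ^ i) * (e' * a ^ i) = 1 := by
          rw [← hg, ← sq, conj_pow, hee]; group
        have h8 : e'⁻¹ = e' := inv_eq_of_mul_eq_one_right (by rw [← sq]; exact hee)
        have h9 : e' * a ^ i * e' = (a * z) ^ i := by
          rw [← hea, conj_zpow, h8]
        rw [← mul_assoc, h9, Commute.mul_zpow (Subgroup.mem_center_iff.mp hzc a), mul_assoc,
          ← (Commute.zpow_zpow (Subgroup.mem_center_iff.mp hzc a) i i).eq, ← mul_assoc, ← zpow_add] at h7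
        rwa [two_mul]
      rw [hg]
      rcases Int.even_or_odd' i with ⟨j, rfl | rfl⟩
      · have hzi : z ^ (2 * j) = 1 := by rw [zpow_mul, zpow_two, ← sq, hz2, one_zpow]
        rw [hzi, mul_one] at h6
        have hai : a ^ (2 * j) ∈ Ω := ⟨zpow_mem haA _, by rw [← zpow_natCast, ← zpow_mul, mul_comm]; exact h6⟩
        rcases hΩz _ hai with h | h <;> rw [h]
        · rw [mul_one]; exact heU
        · exact mul_mem heU hzU
      · exfalso
        have hzi : z ^ (2 * j + 1) = z := by
          rw [zpow_add, zpow_mul, zpow_two, ← sq, hz2, one_zpow, one_mul, zpow_one]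
        rw [hzi, hz, ← zpow_add, hordd] at h6
        obtain ⟨k, hk⟩ : ∃ k, m = k + 3 := ⟨m - 3, by omega⟩
        rw [hk, show k + 3 - 1 = k + 2 by omega] at h6
        obtain ⟨c, hc⟩ := h6
        rw [pow_add, pow_add] at hc
        have : (4 : ℤ) ∣ 2 * (2 * j + 1) :=
          ⟨2 ^ k * 2 * c - 2 ^ k, by linarith⟩
        omega
    refine ⟨fun u hu g => ?_⟩
    suffices hle : U.map (MulAut.conj g).toMonoidHom ≤ U from hle ⟨u, hu, rfl⟩
    rw [Subgroup.map_le_iff_le_comap, hU]
    refine sup_le (Subgroup.zpowers_le.mpr ?_) (Subgroup.zpowers_le.mpr (hconjU g))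
    show g * z * g⁻¹ ∈ Subgroup.zpowers z ⊔ Subgroup.zpowers e'
    rw [Subgroup.mem_center_iff.mp hzc g, mul_inv_cancel_right]
    exact hzU
  have hzp : Cfsg.IsElementaryAbelian 2 (Subgroup.zpowers z) := by
    refine ⟨inferInstance, fun w hw => ?_⟩
    obtain ⟨i, rfl⟩ := Subgroup.mem_zpowers_iff.mp hw
    rw [← zpow_natCast, ← zpow_mul, mul_comm, zpow_mul, zpow_natCast, hz2, one_zpow]
  have hep : Cfsg.IsElementaryAbelian 2 (Subgroup.zpowers e') := by
    refine ⟨inferInstance, fun w hw => ?_⟩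
    obtain ⟨i, rfl⟩ := Subgroup.mem_zpowers_iff.mp hw
    rw [← zpow_natCast, ← zpow_mul, mul_comm, zpow_mul, zpow_natCast, hee, one_zpow]
  have hUe : Cfsg.IsElementaryAbelian 2 U := sup_elementary hzp hep fun u hu v hv => by
    obtain ⟨i, rfl⟩ := Subgroup.mem_zpowers_iff.mp hu
    obtain ⟨j, rfl⟩ := Subgroup.mem_zpowers_iff.mp hv
    exact (hez.symm.zpow_zpow i j).eq
  have hlt : 2 < Nat.card U := by
    have hc2 : Nat.card (Subgroup.zpowers z) = 2 := by
      rw [Nat.card_zpowers]; exact orderOf_eq_prime hz2 hzne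
    rw [← hc2]
    refine Basics.card_lt_of_lt (lt_of_le_of_ne le_sup_left fun h => ?_)
    have h9 : e' ∈ A := (Subgroup.zpowers_le.mpr hzA) (h.symm ▸ heU)
    apply hne12.1
    rw [← hea, hcomm e' h9 a haA, mul_inv_cancel_right]
  exact absurd (hcon U hUn hUe) (not_le.mpr hlt)

/-- Let P be a finite p-group of p-rank greater than 2. Then P has a normal elementary abelian subgroup U of order p², and for every elementary abelian X ≤ P with |X| ≥ p²: X is joined to U by a chain of pairwise commuting elementary abelian subgroups of order ≥ p² if and only if C_P(X) has p-rank greater than 2. -/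
theorem result {P : Type*} [Group P] [Finite P] (p : ℕ) [Fact p.Prime] (hP : IsPGroup p P) (hrk : ¬ Cfsg.PRankLE p 2 P) : ∃ U : Subgroup P, U.Normal ∧ Cfsg.IsElementaryAbelian p U ∧ Nat.card ↥U = p ^ 2 ∧ ∀ X : Subgroup P, Cfsg.IsElementaryAbelian p X → p ^ 2 ≤ Nat.card ↥X → (Relation.ReflTransGen (fun A B : Subgroup P => Cfsg.IsElementaryAbelian p A ∧ p ^ 2 ≤ Nat.card ↥A ∧ Cfsg.IsElementaryAbelian p B ∧ p ^ 2 ≤ Nat.card ↥B ∧ ∀ a ∈ A, ∀ b ∈ B, a * b = b * a) X U ↔ ¬ Cfsg.PRankLE p 2 ↥(Subgroup.centralizer (X : Set P))) := by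
  have hp : p.Prime := Fact.out
  obtain ⟨E, hE, hE3⟩ : ∃ E : Subgroup P, Cfsg.IsElementaryAbelian p E ∧ p ^ 2 < Nat.card E := by
    by_contra h
    exact hrk fun A hA1 hA2 => not_lt.mp fun hlt => h ⟨A, ⟨hA1, hA2⟩, hlt⟩
  have hpow : ∀ S : Subgroup P, ∃ k, Nat.card S = p ^ k := fun S => (hP.to_subgroup S).exists_card_eq
  obtain ⟨U, hUn, hUe, hU2⟩ : ∃ U : Subgroup P, U.Normal ∧ Cfsg.IsElementaryAbelian p U ∧ Nat.card U = p ^ 2 := by
    by_cases hp2 : p = 2
    · subst hp2
      obtain ⟨k, hk⟩ := hpow E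
      have hk3 : 3 ≤ k := by
        have := hk ▸ hE3
        exact (Nat.pow_lt_pow_iff_right (by norm_num)).mp this
      obtain ⟨N, hNn, hNe, hN⟩ := exists_normal_elementary_two hP hE
        (by rw [hk]; exact le_trans (by norm_num) (Nat.pow_le_pow_right (by norm_num) hk3))
      haveI := hNn
      obtain ⟨U, hUn, -, hUe, hUlt, hUle⟩ := OddLocal.exists_normal_le_card_sq hP N hNe hN
      obtain ⟨j, hj⟩ := hpow U
      refine ⟨U, hUn, hUe, ?_⟩
      rw [hj] at hUlt hUle ⊢
      have h1 : 1 < j := (Nat.pow_lt_pow_iff_right (by norm_num : 1 < 2)).mp (by rw [pow_one]; exact hUlt)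
      have h2 : j ≤ 2 := (Nat.pow_le_pow_iff_right (by norm_num : 1 < 2)).mp hUle
      rw [show j = 2 by omega]
    · have hnc : ¬ IsCyclic P := fun hc => by
        haveI := hc
        obtain ⟨g, hg⟩ := IsCyclic.exists_generator (α := ↥E)
        have h1 : Nat.card E ≤ p := by
          rw [← orderOf_eq_card_of_forall_mem_zpowers hg]
          exact Nat.le_of_dvd hp.pos (orderOf_dvd_of_pow_eq_one (Subtype.ext (hE.2 g g.2)))
        have := hE3.trans_le h1
        exact absurd this (not_lt.mpr (Nat.le_self_pow two_ne_zero p))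
      obtain ⟨U, hUn, hUc, hUcomm, hUp⟩ := PGroup23.exists_normal_elementary_sq hp2 hP hnc
      exact ⟨U, hUn, ⟨hUcomm, hUp⟩, hUc⟩
  refine ⟨U, hUn, hUe, hU2, fun X hX hX2 => ?_⟩
  haveI := hUn
  set R := fun A B : Subgroup P => Cfsg.IsElementaryAbelian p A ∧ p ^ 2 ≤ Nat.card ↥A ∧
    Cfsg.IsElementaryAbelian p B ∧ p ^ 2 ≤ Nat.card ↥B ∧ ∀ a ∈ A, ∀ b ∈ B, a * b = b * a
  -- subgroups of rank at least three are joined to `U`
  have hbig : ∀ F : Subgroup P, Cfsg.IsElementaryAbelian p F → p ^ 2 < Nat.card F →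
      Relation.ReflTransGen R F U := by
    intro F hF hF3
    set F₁ := F ⊓ Subgroup.centralizer (U : Set P) with hF₁
    have hF₁e : Cfsg.IsElementaryAbelian p F₁ := OddLocal.ea_inf hF
    have hF₁2 : p ^ 2 ≤ Nat.card F₁ := by
      haveI : (Subgroup.centralizer (U : Set P)).Normal := Subgroup.normal_centralizer
      have hidx : (Subgroup.centralizer (U : Set P)).relIndex F ≤ p :=
        (Nat.le_of_dvd (Nat.pos_of_ne_zero Subgroup.index_ne_zero_of_finite)
          (Subgroup.relIndex_dvd_index_of_normal _ F)).trans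
          (OddLocal.index_centralizer_le hP U hUe hU2.le)
      have hcard : Nat.card F = Nat.card F₁ * (Subgroup.centralizer (U : Set P)).relIndex F := by
        rw [← Subgroup.inf_relIndex_left, hF₁, inf_comm (a := F),
          ← Subgroup.relIndex_bot_left (Subgroup.centralizer (U : Set P) ⊓ F), inf_comm _ F,
          Subgroup.inf_relIndex_left]
        rw [← Subgroup.inf_relIndex_right (Subgroup.centralizer (U : Set P)) F, inf_comm (Subgroup.centralizer (U : Set P)) F,
          Subgroup.relIndex_mul_relIndex _ _ _ bot_le inf_le_left, Subgroup.relIndex_bot_left]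
      obtain ⟨k, hk⟩ := hpow F₁
      by_contra hlt
      rw [hk, not_le, Nat.pow_lt_pow_iff_right hp.one_lt] at hlt
      have h1 : Nat.card F₁ ≤ p := by
        rw [hk]; exact (Nat.pow_le_pow_right hp.pos (by omega)).trans (le_of_eq (pow_one p))
      have h2 : Nat.card F ≤ p ^ 2 := by rw [hcard, pow_two]; exact Nat.mul_le_mul h1 hidx
      omega
    have h1 : R F F₁ := ⟨hF, hF3.le, hF₁e, hF₁2, fun a ha b hb => (OddLocal.ea_commute hF ha hb.1).eq⟩
    have h2 : R F₁ U := ⟨hF₁e, hF₁2, hUe, hU2.ge, fun a ha b hb =>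
      (Subgroup.mem_centralizer_iff.mp ha.2 b hb).symm⟩
    exact (Relation.ReflTransGen.single h1).tail h2
  constructor
  · intro hpath hrk'
    have hmax : ∀ Y : Subgroup P, R X Y → Y = X := by
      intro Y hY
      have hle : X ⊔ Y ≤ Subgroup.centralizer (X : Set P) := by
        refine sup_le (fun x hx => ?_) (fun y hy => ?_)
        · exact Subgroup.mem_centralizer_iff.mpr fun x' hx' => (OddLocal.ea_commute hX hx' hx).eq
        · exact Subgroup.mem_centralizer_iff.mpr fun x' hx' => hY.2.2.2.2 x' hx' y hy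
      have hel := sup_elementary hX hY.2.2.1 hY.2.2.2.2
      have hc : Nat.card (X ⊔ Y : Subgroup P) ≤ p ^ 2 := by
        have h := hrk' ((X ⊔ Y).subgroupOf (Subgroup.centralizer (X : Set P)))
          ⟨⟨fun u v => Subtype.ext (Subtype.ext (OddLocal.ea_commute hel u.2 v.2).eq)⟩⟩
          (fun u hu => Subtype.ext (hel.2 _ hu))
        rwa [Basics.card_subgroupOf hle] at h
      have e1 : X = X ⊔ Y := Subgroup.eq_of_le_of_card_ge le_sup_left (hc.trans hX2)
      have e2 : Y = X ⊔ Y := Subgroup.eq_of_le_of_card_ge le_sup_right (hc.trans hY.2.2.2.1)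
      rw [e2, ← e1]
    have hXU : U = X := by
      have hend : ∀ Z : Subgroup P, Relation.ReflTransGen R X Z → Z = X := by
        intro Z hZ
        clear hUn
        induction hZ with
        | refl => rfl
        | @tail b c _ hbc ih => exact hmax _ (ih ▸ hbc)
      exact hend U hpath
    subst hXU
    -- `C(U)` has rank at least three
    have hidx : p ^ 2 ≤ Nat.card ↥(E ⊓ Subgroup.centralizer (U : Set P)) := by
      haveI : (Subgroup.centralizer (U : Set P)).Normal := Subgroup.normal_centralizer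
      obtain ⟨k, hk⟩ := hpow (E ⊓ Subgroup.centralizer (U : Set P))
      have h1 : Nat.card E ≤ Nat.card ↥(E ⊓ Subgroup.centralizer (U : Set P)) * p := by
        have hidx : (Subgroup.centralizer (U : Set P)).relIndex E ≤ p :=
          (Nat.le_of_dvd (Nat.pos_of_ne_zero Subgroup.index_ne_zero_of_finite)
            (Subgroup.relIndex_dvd_index_of_normal _ E)).trans
            (OddLocal.index_centralizer_le hP U hUe hU2.le)
        refine le_trans (le_of_eq ?_) (Nat.mul_le_mul_left _ hidx)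
        rw [← Subgroup.inf_relIndex_right, inf_comm (Subgroup.centralizer (U : Set P)) E,
          ← Subgroup.relIndex_bot_left (E ⊓ Subgroup.centralizer (U : Set P)),
          Subgroup.relIndex_mul_relIndex _ _ _ bot_le inf_le_left, Subgroup.relIndex_bot_left]
      by_contra hlt
      rw [hk, not_le, Nat.pow_lt_pow_iff_right hp.one_lt] at hlt
      have h2 : Nat.card ↥(E ⊓ Subgroup.centralizer (U : Set P)) ≤ p := by
        rw [hk]; exact (Nat.pow_le_pow_right hp.pos (by omega)).trans (le_of_eq (pow_one p))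
      have h3 : Nat.card E ≤ p ^ 2 := by rw [pow_two]; exact h1.trans (Nat.mul_le_mul_right p h2)
      omega
    have e1 : E ⊓ Subgroup.centralizer (U : Set P) = U := hmax _
      ⟨hUe, hU2.ge, OddLocal.ea_inf hE, hidx, fun a ha b hb => Subgroup.mem_centralizer_iff.mp hb.2 a ha⟩
    have hUE : U ≤ E := e1.symm.le.trans inf_le_left
    have e2 : E = U := hmax E ⟨hUe, hU2.ge, hE, hE3.le, fun a ha b hb => (OddLocal.ea_commute hE (hUE ha) hb).eq⟩
    rw [e2, hU2] at hE3
    exact lt_irrefl _ hE3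
  · intro hrk'
    obtain ⟨A, hAc, hAp, hA3⟩ : ∃ A : Subgroup ↥(Subgroup.centralizer (X : Set P)),
        IsMulCommutative A ∧ (∀ a ∈ A, a ^ p = 1) ∧ p ^ 2 < Nat.card A := by
      by_contra h
      push Not at h
      exact hrk' fun A h1 h2 => h A h1 h2
    set F := A.map (Subgroup.centralizer (X : Set P)).subtype
    have hF : Cfsg.IsElementaryAbelian p F := OddLocal.ea_map ⟨hAc, hAp⟩ _
    have hF3 : p ^ 2 < Nat.card F := by rwa [Subgroup.card_map_of_injective (Subgroup.subtype_injective _)]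
    refine Relation.ReflTransGen.head ⟨hX, hX2, hF, hF3.le, fun x hx y hy => ?_⟩ (hbig F hF hF3)
    exact Subgroup.mem_centralizer_iff.mp (Subgroup.map_subtype_le _ hy) x hx

end Cfsg.Agent.S1337
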