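import Cfsg.Statements.S1338
import Cfsg.Agent.Lib.Components.Subnormal
import Cfsg.Agent.Lib.Components.CompAction
import Cfsg.Agent.Lib.InvChar.Basics
import Cfsg.Agent.Lib.Basics.Tools

set_option autoImplicit false
open Cfsg

namespace Cfsg.Agent.S1338

open Subgroup
open scoped commutatorElement

variable {P : Type*} [Group P]

theorem conj_eq (a b : P) : a * b * a⁻¹ = ⁅a, b⁆ * b := by
  rw [commutatorElement_def, inv_mul_cancel_right]

theorem cube_mul {a b : P} (ha : Commute ⁅b, a⁆ a) (hb : Commute ⁅b, a⁆ b) :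
    (a * b) ^ 3 = ⁅b, a⁆ ^ 3 * a ^ 3 * b ^ 3 := by
  set c := ⁅b, a⁆ with hc
  have h : b * a = c * a * b := by rw [hc, commutatorElement_def]; group
  calc (a * b) ^ 3 = a * (b * a) * (b * a) * b := by simp [pow_succ, mul_assoc]
    _ = a * (c * a * b) * (c * a * b) * b := by rw [h]
    _ = (a * c) * a * (b * c) * a * b * b := by group
    _ = (c * a) * a * (c * b) * a * b * b := by rw [← ha.eq, ← hb.eq]
    _ = c * a * (a * c) * (b * a) * b * b := by group
    _ = c * a * (c * a) * (c * a * b) * b * b := by rw [← ha.eq, h]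
    _ = c * (a * c) * (a * c) * a * b * b * b := by group
    _ = c * (c * a) * (c * a) * a * b * b * b := by rw [← ha.eq]
    _ = c * c * (a * c) * a * a * b * b * b := by group
    _ = c * c * (c * a) * a * a * b * b * b := by rw [← ha.eq]
    _ = c ^ 3 * a ^ 3 * b ^ 3 := by simp [pow_succ, mul_assoc]

theorem comm_cube {a b : P} (ha : a ^ 3 = 1) (hc : Commute ⁅b, a⁆ a) : ⁅b, a⁆ ^ 3 = 1 := by
  have h := conj_pow (a := b) (b := a) (i := 3)
  rw [conj_eq, hc.mul_pow, ha, mul_one, mul_one, mul_inv_cancel] at h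
  exact h

variable [Finite P]

theorem card_eq_of_lt_nine {H : Subgroup P} {n : ℕ} (hP : IsPGroup 3 P) (h : Nat.card ↥H < 3 ^ (n + 1)) :
    Nat.card ↥H ≤ 3 ^ n := by
  haveI : Fact (Nat.Prime 3) := ⟨Nat.prime_three⟩
  obtain ⟨k, hk⟩ := (hP.to_subgroup H).exists_card_eq
  rw [hk] at h ⊢
  exact Nat.pow_le_pow_right (by norm_num) (by
    have := (Nat.pow_lt_pow_iff_right (by norm_num : 1 < 3)).mp h
    omega)

theorem card_le_of_lt {H K : Subgroup P} {n : ℕ} (hP : IsPGroup 3 P) (hle : H ≤ K) (hne : H ≠ K)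
    (hK : Nat.card ↥K ≤ 3 ^ (n + 1)) : Nat.card ↥H ≤ 3 ^ n := by
  refine card_eq_of_lt_nine hP (lt_of_lt_of_le ?_ hK)
  by_contra h
  exact hne (eq_of_le_of_card_ge hle (not_lt.mp h))

theorem exists_central_over (hP : IsPGroup 3 P) (N M : Subgroup P) [N.Normal] [hM : M.Normal]
    (h : ¬ M ≤ N) : ∃ w ∈ M, w ∉ N ∧ ∀ g : P, ⁅g, w⁆ ∈ N := by
  haveI : Fact (Nat.Prime 3) := ⟨Nat.prime_three⟩
  haveI := hM.map _ (QuotientGroup.mk'_surjective N)
  obtain ⟨_, ⟨w, hw, rfl⟩, hc, hne⟩ := InvChar.exists_mem_center_of_normal (hP.to_quotient N)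
    (M.map (QuotientGroup.mk' N)) (by rwa [Ne, Subgroup.map_eq_bot_iff, QuotientGroup.ker_mk'])
  refine ⟨w, hw, fun hN => hne ((QuotientGroup.eq_one_iff w).mpr hN), fun g => ?_⟩
  rw [← QuotientGroup.eq_one_iff, ← QuotientGroup.mk'_apply, map_commutatorElement,
    commutatorElement_eq_one_iff_mul_comm]
  exact mem_center_iff.mp hc _

theorem normal_sup_zpowers {N : Subgroup P} [hN : N.Normal] {w : P} (h : ∀ g : P, ⁅g, w⁆ ∈ N) :
    (N ⊔ zpowers w).Normal := by
  refine Components.normal_of_map_conj_eq fun g => ?_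
  suffices hle : ∀ g : P, (N ⊔ zpowers w).map (MulAut.conj g).toMonoidHom ≤ N ⊔ zpowers w from
    Components.map_conj_eq_of_mem_normalizer (Components.mem_normalizer_of_conj_le (hle g))
  intro g
  rw [Subgroup.map_sup, MonoidHom.map_zpowers]
  refine sup_le ?_ (zpowers_le.mpr ?_)
  · rintro _ ⟨n, hn, rfl⟩
    exact mem_sup_left (hN.conj_mem n hn g)
  · change g * w * g⁻¹ ∈ _
    rw [conj_eq]
    exact mul_mem (mem_sup_left (h g)) (mem_sup_right (mem_zpowers w))

/-- Elements of order 3 centralizing a maximal normal elementary abelian subgroup lie in it. -/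
theorem omega_centralizer (hP : IsPGroup 3 P) {B : Subgroup P} [hBn : B.Normal]
    (hB : Cfsg.IsElementaryAbelian 3 B)
    (hmax : ∀ W : Subgroup P, W.Normal → Cfsg.IsElementaryAbelian 3 W → B ≤ W → W ≤ B) :
    ∀ y ∈ centralizer (B : Set P), y ^ 3 = 1 → y ∈ B := by
  haveI : Fact (Nat.Prime 3) := ⟨Nat.prime_three⟩
  set C := centralizer (B : Set P) with hC
  have hBC : ∀ v : ↥C, (v : P) ∈ B → ∀ u : ↥C, Commute v u := fun v hv u => by
    refine Subtype.ext ?_
    exact mem_centralizer_iff.mp u.2 _ hv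
  have hB1 : ∀ v : ↥C, (v : P) ∈ B → v ∈ Subgroup.upperCentralSeries ↥C 1 := fun v hv => by
    rw [Subgroup.upperCentralSeries_one, mem_center_iff]
    exact fun u => (hBC v hv u).eq.symm
  have hcom : B ≤ C := fun x hx => mem_centralizer_iff.mpr fun y hy =>
    (haveI := hB.1; congrArg Subtype.val (IsMulCommutative.is_comm.comm (⟨y, hy⟩ : ↥B) ⟨x, hx⟩))
  -- the second centre
  let W : Subgroup P :=
    { carrier := {y | ∃ v : ↥C, (v : P) = y ∧ v ∈ Subgroup.upperCentralSeries ↥C 2 ∧ v ^ 3 = 1}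
      one_mem' := ⟨1, rfl, one_mem _, one_pow _⟩
      mul_mem' := by
        rintro _ _ ⟨a, rfl, ha, ha3⟩ ⟨b, rfl, hb, hb3⟩
        refine ⟨a * b, rfl, mul_mem ha hb, ?_⟩
        have hc : ⁅b, a⁆ ∈ center ↥C := by
          rw [← Subgroup.upperCentralSeries_one]; exact hb a
        rw [cube_mul (mem_center_iff.mp hc a).symm (mem_center_iff.mp hc b).symm,
          comm_cube ha3 (mem_center_iff.mp hc a).symm, ha3, hb3, one_mul, one_mul]
      inv_mem' := by
        rintro _ ⟨a, rfl, ha, ha3⟩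
        exact ⟨a⁻¹, rfl, inv_mem ha, by rw [inv_pow, ha3, inv_one]⟩ }
  haveI hWn : W.Normal := ⟨by
    rintro _ ⟨v, rfl, hv, hv3⟩ g
    obtain ⟨u, hu, hue⟩ := (inferInstance : ((Subgroup.upperCentralSeries ↥C 2).map C.subtype).Normal).conj_mem
      _ ⟨v, hv, rfl⟩ g
    refine ⟨u, hue, hu, Subtype.ext ?_⟩
    rw [SubmonoidClass.coe_pow, show (u : P) = g * v * g⁻¹ from hue, conj_pow,
      ← SubmonoidClass.coe_pow, hv3]
    simp⟩
  have hWB : W ≤ B := by
    by_contra hWB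
    obtain ⟨w, hwW, hwB, hw⟩ := exists_central_over hP B W hWB
    obtain ⟨v, hv, -, hv3⟩ := id hwW
    have hBW : B ≤ W := fun b hb => ⟨⟨b, hcom hb⟩, rfl,
      Subgroup.upperCentralSeries_mono ↥C (by norm_num) (hB1 _ hb), Subtype.ext (hB.2 b hb)⟩
    have hle : B ⊔ zpowers w ≤ W := sup_le hBW (zpowers_le.mpr hwW)
    haveI := normal_sup_zpowers hw
    have hBw : B ≤ centralizer ({w} : Set P) := fun b hb => by
      rw [mem_centralizer_singleton_iff]
      exact congrArg Subtype.val (hBC ⟨b, hcom hb⟩ hb v).eq |>.trans (by rfl) |> (hv ▸ ·)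
    refine hwB (hmax (B ⊔ zpowers w) inferInstance ⟨⟨⟨fun s t => Subtype.ext ?_⟩⟩, fun s hs => ?_⟩
      le_sup_left (mem_sup_right (mem_zpowers w)))
    · have key : B ⊔ zpowers w ≤ centralizer ((B ⊔ zpowers w : Subgroup P) : Set P) := by
        refine sup_le (le_centralizer_iff.mp (sup_le hcom ?_)) (le_centralizer_iff.mp (sup_le ?_ ?_))
        · exact zpowers_le.mpr (mem_centralizer_iff.mpr fun b hb => mem_centralizer_singleton_iff.mp (hBw hb))
        · exact fun b hb => mem_centralizer_iff.mpr fun u hu => by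
            obtain ⟨k, rfl⟩ := mem_zpowers_iff.mp hu
            exact ((show Commute b w from mem_centralizer_singleton_iff.mp (hBw hb)).zpow_right k).eq.symm
        · exact fun u hu => mem_centralizer_iff.mpr fun u' hu' => by
            obtain ⟨k, rfl⟩ := mem_zpowers_iff.mp hu
            obtain ⟨l, rfl⟩ := mem_zpowers_iff.mp hu'
            exact ((Commute.refl w).zpow_zpow l k).eq
      exact mem_centralizer_iff.mp (key t.2) _ s.2
    · obtain ⟨u, rfl, -, hu3⟩ := hle hs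
      rw [← SubmonoidClass.coe_pow, hu3]; rfl
  -- induction along the upper central series
  have key : ∀ n, ∀ y ∈ Subgroup.upperCentralSeries ↥C n, y ^ 3 = 1 → (y : P) ∈ B := by
    intro n
    induction n with
    | zero => intro y hy _; rw [Subgroup.upperCentralSeries_zero, mem_bot] at hy; rw [hy]; exact one_mem B
    | succ n ih =>
      have hQ : ∀ m, m ≤ n → ∀ a b : ↥C, a ^ 3 = 1 → b ^ 3 = 1 →
          a * b⁻¹ ∈ Subgroup.upperCentralSeries ↥C m → (a * b⁻¹) ^ 3 = 1 := by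
        intro m
        induction m with
        | zero => intro _ a b _ _ h; rw [Subgroup.upperCentralSeries_zero, mem_bot] at h; rw [h, one_pow]
        | succ m ihm =>
          intro hm a b ha hb h
          have h1 : ⁅b⁻¹, a⁆ ∈ Subgroup.upperCentralSeries ↥C m := by
            have e : ⁅b⁻¹, a⁆ = ⁅a * b⁻¹, b⁻¹⁆⁻¹ := by simp only [commutatorElement_def]; group
            rw [e]; exact inv_mem (h _)
          have e2 : ⁅b⁻¹, a⁆ = (b⁻¹ * a * b) * a⁻¹ := by simp only [commutatorElement_def]; group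
          have h3 : ⁅b⁻¹, a⁆ ^ 3 = 1 := by
            rw [e2] at h1 ⊢
            refine ihm (by omega) _ _ ?_ ha h1
            have := conj_pow (a := b⁻¹) (b := a) (i := 3)
            rw [inv_inv, ha, mul_one, inv_mul_cancel] at this
            exact this
          have hc := hBC _ (ih _ (Subgroup.upperCentralSeries_mono ↥C (by omega) h1) h3)
          rw [cube_mul (hc a) (hc b⁻¹), h3, ha, inv_pow, hb, inv_one, one_mul, one_mul]
      intro y hy hy3
      refine hWB ⟨y, rfl, fun c => hB1 _ (ih _ (hy c) ?_), hy3⟩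
      have e : ⁅y, c⁆ = y * (c * y * c⁻¹)⁻¹ := by simp only [commutatorElement_def]; group
      have h1 := hy c
      rw [e] at h1 ⊢
      exact hQ n le_rfl _ _ hy3 (by rw [conj_pow, hy3, mul_one, mul_inv_cancel]) h1
  intro y hy hy3
  haveI : Group.IsNilpotent ↥C := (hP.to_subgroup C).isNilpotent
  exact key (Group.nilpotencyClass ↥C) ⟨y, hy⟩ (by rw [Subgroup.upperCentralSeries_nilpotencyClass]; trivial)
    (Subtype.ext hy3)

theorem card_le_bracket {F T K : Subgroup P} (w : P) (hT : ∀ a ∈ F, ⁅a, w⁆ ∈ T)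
    (hc : ∀ a ∈ F, ∀ t ∈ T, a * t = t * a) (hTc : ∀ s ∈ T, ∀ t ∈ T, s * t = t * s)
    (hK : ∀ a ∈ F, a * w = w * a → a ∈ K) :
    ∃ T0 ≤ T, (∀ t ∈ T0, ∃ a ∈ F, ⁅a, w⁆ = t) ∧ Nat.card ↥F ≤ Nat.card ↥T0 * Nat.card ↥K := by
  let f : ↥F →* P :=
    { toFun := fun a => ⁅(a : P), w⁆
      map_one' := by simp
      map_mul' := fun a b => by
        push_cast
        have e : ⁅(a : P) * b, w⁆ = (a : P) * ⁅(b : P), w⁆ * (a : P)⁻¹ * ⁅(a : P), w⁆ := by
          simp only [commutatorElement_def]; group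
        rw [e, hc _ a.2 _ (hT _ b.2), mul_inv_cancel_right, hTc _ (hT _ b.2) _ (hT _ a.2)] }
  refine ⟨f.range, ?_, ?_, ?_⟩
  · rintro _ ⟨a, rfl⟩; exact hT _ a.2
  · rintro _ ⟨a, rfl⟩; exact ⟨a, a.2, rfl⟩
  · rw [← f.ker.card_mul_index, Subgroup.index_ker, mul_comm]
    refine Nat.mul_le_mul_left _ ?_
    refine Nat.card_le_card_of_injective (fun a => (⟨a.1.1, hK _ a.1.2
      (commutatorElement_eq_one_iff_mul_comm.mp a.2)⟩ : ↥K)) fun a b h => ?_
    exact Subtype.ext (Subtype.ext (by simpa using congrArg Subtype.val h))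

theorem comm_pair {B : Subgroup P} [hBn : B.Normal] (hBc : ∀ s ∈ B, ∀ t ∈ B, s * t = t * s)
    {a q f g : P} (hf : f ∈ B) (hg : g ∈ B) (haq : a * q = q * a)
    (h : f * a * (g * q) = g * q * (f * a)) : ⁅a, g⁆ = ⁅q, f⁆ := by
  have h1 : ∀ u, ∀ v ∈ B, ⁅u, v⁆ ∈ B := fun u v hv => by
    rw [commutatorElement_def]; exact mul_mem (hBn.conj_mem v hv u) (inv_mem hv)
  have h2 : f * ⁅a, g⁆ * g * (a * q) = g * ⁅q, f⁆ * f * (a * q) := by
    calc f * ⁅a, g⁆ * g * (a * q) = f * a * (g * q) := by simp only [commutatorElement_def]; group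
      _ = g * q * (f * a) := h
      _ = g * ⁅q, f⁆ * f * (q * a) := by simp only [commutatorElement_def]; group
      _ = _ := by rw [haq]
  have h3 := mul_right_cancel h2
  rw [hBc g hg _ (h1 q f hf), mul_assoc ⁅q, f⁆, hBc f hf _ (h1 a g hg), mul_assoc ⁅a, g⁆,
    hBc g hg f hf] at h3
  exact mul_right_cancel h3

theorem no_bad (hP : IsPGroup 3 P) {A : Subgroup P} (hA : Cfsg.IsElementaryAbelian 3 A)
    (hA81 : 81 ≤ Nat.card ↥A) {z0 x : P} (hz0 : z0 ∈ center P) (hz0o : orderOf z0 = 3)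
    {E : Subgroup P} (hE9 : Nat.card ↥E ≤ 9) (hz0E : z0 ∈ E) (hxE : x ∈ E) (hxo : x ^ 3 = 1)
    (hxz : x ∉ zpowers z0) (hbad : ∀ y, y * x = x * y → y ^ 3 = 1 → y ∈ E) : False := by
  haveI : Fact (Nat.Prime 3) := ⟨Nat.prime_three⟩
  have hAc : ∀ s ∈ A, ∀ t ∈ A, s * t = t * s := fun s hs t ht =>
    (haveI := hA.1; congrArg Subtype.val (IsMulCommutative.is_comm.comm (⟨s, hs⟩ : ↥A) ⟨t, ht⟩))
  set Z := zpowers z0 with hZ
  have hZ3 : Nat.card ↥Z = 3 := by rw [hZ, Nat.card_zpowers, hz0o]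
  have hZc : Z ≤ center P := zpowers_le.mpr hz0
  have hZcomm : ∀ s ∈ Z, ∀ t : P, t * s = s * t := fun s hs t => mem_center_iff.mp (hZc hs) t
  haveI hZn : Z.Normal := ⟨fun n hn g => by rwa [hZcomm n hn g, mul_inv_cancel_right]⟩
  have hZel : Cfsg.IsElementaryAbelian 3 Z :=
    ⟨inferInstance, fun s hs => orderOf_dvd_iff_pow_eq_one.mp (hz0o ▸ orderOf_dvd_of_mem_zpowers hs)⟩
  obtain ⟨B, hBcond, hBmax⟩ := Set.Finite.exists_maximal
    (Set.toFinite {B : Subgroup P | B.Normal ∧ Cfsg.IsElementaryAbelian 3 B ∧ Z ≤ B})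
    ⟨Z, hZn, hZel, le_rfl⟩
  obtain ⟨hBn, hB, hZB⟩ := hBcond
  have hBc : ∀ s ∈ B, ∀ t ∈ B, s * t = t * s := fun s hs t ht =>
    (haveI := hB.1; congrArg Subtype.val (IsMulCommutative.is_comm.comm (⟨s, hs⟩ : ↥B) ⟨t, ht⟩))
  have hO := omega_centralizer hP hB fun W h1 h2 h3 => hBmax ⟨h1, h2, hZB.trans h3⟩ h3
  have hbr : ∀ g : P, ∀ b ∈ B, ⁅g, b⁆ ∈ B := fun g b hb => by
    rw [commutatorElement_def]; exact mul_mem (hBn.conj_mem b hb g) (inv_mem hb)
  have hEZ : ∀ S : Subgroup P, S ≤ E → Z ≤ S → x ∉ S → S ≤ Z := by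
    intro S hS hZS hx
    have := card_le_of_lt (n := 1) hP hS (fun e => hx (e ▸ hxE)) (by simpa using hE9)
    exact (eq_of_le_of_card_ge hZS (by rw [hZ3]; simpa using this)).ge
  have hZE : Z ≤ E := zpowers_le.mpr hz0E
  -- the second term
  have hBZ : ¬ B ≤ Z := fun h => by
    have : Nat.card ↥A ≤ Nat.card ↥Z := card_le_of_le fun a ha => h (hO a
      (mem_centralizer_iff.mpr fun b hb => (hZcomm b (h hb) a).symm) (hA.2 a ha))
    omega
  obtain ⟨w, hwB, hwZ, hw⟩ := exists_central_over hP Z B hBZ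
  have hsup : ∀ u, u ∈ B → u ∉ Z → Nat.card ↥(Z ⊔ zpowers u) = 9 := by
    intro u hu huZ
    have huo : orderOf u = 3 := orderOf_eq_prime (hB.2 u hu) fun e => huZ (e ▸ one_mem Z)
    have h := Basics.card_mul_card_eq_card_sup_mul_card_inf (N := Z) (H := zpowers u)
      (zpowers_le.mpr (mem_normalizer_iff.mpr fun n => ⟨fun hn => hZn.conj_mem n hn u, fun hn => by
        simpa [mul_assoc] using hZn.conj_mem _ hn u⁻¹⟩))
    have hbot : Nat.card ↥(Z ⊓ zpowers u) ≤ 3 ^ 0 := card_le_of_lt hP inf_le_right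
      (fun e => huZ (inf_eq_right.mp e (mem_zpowers u))) (by rw [Nat.card_zpowers, huo, pow_one])
    have := Nat.card_pos (α := ↥(Z ⊓ zpowers u))
    rw [hZ3, Nat.card_zpowers, huo, show Nat.card ↥(Z ⊓ zpowers u) = 1 by omega, mul_one] at h
    omega
  set H := Z ⊔ zpowers w with hH
  have hH9 : Nat.card ↥H = 9 := hsup w hwB hwZ
  have hHB : H ≤ B := sup_le hZB (zpowers_le.mpr hwB)
  haveI hHn : H.Normal := normal_sup_zpowers hw
  have centH : ∀ a, a * w = w * a → ∀ h ∈ H, a * h = h * a := fun a ha h hh => by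
    have : H ≤ centralizer ({a} : Set P) := sup_le
      (fun s hs => mem_centralizer_singleton_iff.mpr (hZcomm s hs a).symm)
      (zpowers_le.mpr (mem_centralizer_singleton_iff.mpr ha.symm))
    exact (mem_centralizer_singleton_iff.mp (this hh)).symm
  set AD := A ⊓ centralizer ({w} : Set P) with hAD
  have hAD27 : 27 ≤ Nat.card ↥AD := by
    obtain ⟨T0, hT0, -, hcard⟩ := card_le_bracket (F := A) (T := Z) (K := AD) w (fun a _ => hw a)
      (fun a _ t ht => hZcomm t ht a) (fun s _ t ht => hZcomm t ht s)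
      (fun a ha h => ⟨ha, mem_centralizer_singleton_iff.mpr h⟩)
    have h2 := Nat.mul_le_mul_right (Nat.card ↥AD) (card_le_of_le hT0)
    rw [hZ3] at h2
    omega
  have hADc : ∀ a ∈ AD, ∀ h ∈ H, a * h = h * a := fun a ha =>
    centH a (mem_centralizer_singleton_iff.mp ha.2)
  have hBH : ¬ B ≤ H := fun h => by
    have : Nat.card ↥AD ≤ Nat.card ↥H := card_le_of_le fun a ha => h (hO a
      (mem_centralizer_iff.mpr fun b hb => (hADc a ha b (h hb)).symm) (hA.2 a ha.1))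
    omega
  have hxB : x ∉ B := fun hxB => by
    have hBE : B ≤ E := fun b hb => hbad b (hBc b hb x hxB) (hB.2 b hb)
    exact hBH (eq_of_le_of_card_ge (hHB.trans hBE) (by omega) ▸ hBE)
  have hfix : ∀ b ∈ B, ⁅x, b⁆ = 1 → b ∈ Z := fun b hb h => by
    refine hEZ (B ⊓ E) inf_le_right (le_inf hZB hZE) (fun hx => hxB hx.1) ⟨hb, hbad b ?_ (hB.2 b hb)⟩
    exact (commutatorElement_eq_one_iff_mul_comm.mp h).symm
  let δ : ↥B →* P :=
    { toFun := fun b => ⁅x, (b : P)⁆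
      map_one' := by simp
      map_mul' := fun b c => by
        push_cast
        have e : ⁅x, (b : P) * c⁆ = ⁅x, (b : P)⁆ * ((b : P) * ⁅x, (c : P)⁆ * (b : P)⁻¹) := by
          simp only [commutatorElement_def]; group
        rw [e, hBc _ b.2 _ (hbr x _ c.2), mul_inv_cancel_right] }
  obtain ⟨b3, hb3B, hb3H, hb3⟩ := exists_central_over hP H B hBH
  -- normalize the frame
  set b2 := ⁅x, b3⁆ with hb2
  have hb2H : b2 ∈ H := hb3 x
  have hzw : ⁅x, w⁆ ≠ 1 := fun h => hwZ (hfix w hwB h)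
  have hb2Z : b2 ∉ Z := by
    intro h
    obtain ⟨k, hk⟩ := mem_zpowers_iff.mp ((eq_of_le_of_card_ge (zpowers_le.mpr (hw x)) (by
      rw [hZ3, Nat.card_zpowers, orderOf_eq_prime (hZel.2 _ (hw x)) hzw])).symm ▸ h :
        b2 ∈ zpowers ⁅x, w⁆)
    have h1 : δ ((⟨b3, hb3B⟩ : ↥B) * ((⟨w, hwB⟩ : ↥B) ^ k)⁻¹) = 1 := by
      rw [map_mul, map_inv, map_zpow, mul_inv_eq_one]; exact hk.symm
    have h2 := hfix _ (SetLike.coe_mem _) h1
    push_cast at h2
    refine hb3H ?_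
    have h3 : b3 * (w ^ k)⁻¹ ∈ H := mem_sup_left h2
    have h4 := mul_mem h3 (show w ^ k ∈ H from mem_sup_right (zpow_mem (mem_zpowers w) k))
    rwa [inv_mul_cancel_right] at h4
  have hb2B : b2 ∈ B := hHB hb2H
  have hHeq : Z ⊔ zpowers b2 = H := eq_of_le_of_card_ge (sup_le le_sup_left (zpowers_le.mpr hb2H))
    (by rw [hH9, hsup b2 hb2B hb2Z])
  have centH2 : ∀ a, a * b2 = b2 * a → ∀ h ∈ H, a * h = h * a := fun a ha h hh => by
    have : H ≤ centralizer ({a} : Set P) := hHeq ▸ sup_le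
      (fun s hs => mem_centralizer_singleton_iff.mpr (hZcomm s hs a).symm)
      (zpowers_le.mpr (mem_centralizer_singleton_iff.mpr ha.symm))
    exact (mem_centralizer_singleton_iff.mp (this hh)).symm
  set z := ⁅x, b2⁆ with hz
  have hz1 : z ≠ 1 := fun h => hb2Z (hfix b2 hb2B h)
  have hHform : ∀ h ∈ H, ∃ s ∈ Z, ∃ j : ℤ, h = s * b2 ^ j := by
    intro h hh
    rw [← hHeq] at hh
    obtain ⟨s, hs, t, ht, rfl⟩ := mem_sup_of_normal_left.mp hh
    obtain ⟨j, rfl⟩ := mem_zpowers_iff.mp ht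
    exact ⟨s, hs, j, rfl⟩
  have hgb2 : ∀ g : P, ⁅g, b2⁆ ∈ Z := by
    intro g
    have hHc : H ≤ (center (P ⧸ Z)).comap (QuotientGroup.mk' Z) := by
      refine sup_le (fun s hs => ?_) (zpowers_le.mpr ?_)
      · rw [mem_comap, QuotientGroup.mk'_apply, (QuotientGroup.eq_one_iff s).mpr hs]; exact one_mem _
      · rw [mem_comap, mem_center_iff]
        intro q
        obtain ⟨q, rfl⟩ := QuotientGroup.mk'_surjective Z q
        rw [← commutatorElement_eq_one_iff_mul_comm, ← map_commutatorElement, QuotientGroup.mk'_apply,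
          QuotientGroup.eq_one_iff]
        exact hw q
    rw [← QuotientGroup.eq_one_iff, ← QuotientGroup.mk'_apply, map_commutatorElement,
      commutatorElement_eq_one_iff_mul_comm]
    exact mem_center_iff.mp (hHc hb2H) _
  have hzZ : z ∈ Z := hgb2 x
  have hZz : zpowers z = Z := eq_of_le_of_card_ge (zpowers_le.mpr hzZ) (by
    rw [hZ3, Nat.card_zpowers, orderOf_eq_prime (hZel.2 _ hzZ) hz1])
  -- the structure of `B`
  have hBform : ∀ b ∈ B, ∃ h ∈ H, ∃ j : ℤ, b = h * b3 ^ j := by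
    intro b hb
    set c1 := x * b * x⁻¹ with hc1
    set c2 := x * c1 * x⁻¹ with hc2
    have m1 : c1 ∈ B := hBn.conj_mem b hb x
    have m2 : c2 ∈ B := hBn.conj_mem _ m1 x
    have hd : ⁅x, ⁅x, b⁆⁆ = c2 * c1 * b := by
      have e : ⁅x, ⁅x, b⁆⁆ = c2 * c1⁻¹ * (b * c1⁻¹) := by
        simp only [hc1, hc2, commutatorElement_def]; group
      have h3 : c1⁻¹ * c1⁻¹ = c1 := by
        calc c1⁻¹ * c1⁻¹ = c1⁻¹ * c1⁻¹ * c1 ^ 3 := by rw [hB.2 _ m1, mul_one]
          _ = c1 := by simp [pow_succ, mul_assoc]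
      calc ⁅x, ⁅x, b⁆⁆ = c2 * c1⁻¹ * (b * c1⁻¹) := e
        _ = c2 * c1⁻¹ * (c1⁻¹ * b) := by rw [hBc b hb _ (inv_mem m1)]
        _ = c2 * (c1⁻¹ * c1⁻¹) * b := by group
        _ = c2 * c1 * b := by rw [h3]
    have hd3 : ⁅x, ⁅x, ⁅x, b⁆⁆⁆ = 1 := by
      rw [hd, commutatorElement_eq_one_iff_mul_comm, ← mul_inv_eq_iff_eq_mul]
      have e : x * (c2 * c1 * b) * x⁻¹ = x ^ 3 * b * (x ^ 3)⁻¹ * c2 * c1 := by
        simp only [hc1, hc2, pow_succ, pow_zero, one_mul]; group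
      rw [e, hxo, one_mul, inv_one, mul_one, mul_assoc, hBc _ hb _ (mul_mem m2 m1)]
    have hdd : ⁅x, ⁅x, b⁆⁆ ∈ zpowers z := by
      rw [hZz]; exact hfix _ (hbr x _ (hbr x b hb)) hd3
    obtain ⟨j, hj⟩ := mem_zpowers_iff.mp hdd
    set b' : ↥B := (⟨b, hb⟩ : ↥B) * ((⟨b3, hb3B⟩ : ↥B) ^ j)⁻¹ with hb'
    have h1 : δ b' = ⁅x, b⁆ * (b2 ^ j)⁻¹ := by rw [hb', map_mul, map_inv, map_zpow]; rfl
    have h2 : ⁅x, δ b'⁆ = 1 := by
      rw [h1]
      have := map_mul δ (⟨_, hbr x b hb⟩ : ↥B) (((⟨b2, hb2B⟩ : ↥B) ^ j)⁻¹)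
      rw [map_inv, map_zpow] at this
      change ⁅x, ⁅x, b⁆ * (((⟨b2, hb2B⟩ : ↥B) ^ j : ↥B) : P)⁻¹⁆ = ⁅x, ⁅x, b⁆⁆ * (z ^ j)⁻¹ at this
      push_cast at this
      rw [this, hj, mul_inv_cancel]
    have h5 : δ b' ∈ zpowers z := by rw [hZz]; exact hfix _ (hbr x _ b'.2) h2
    obtain ⟨i, hi⟩ := mem_zpowers_iff.mp h5
    set b'' : ↥B := b' * ((⟨b2, hb2B⟩ : ↥B) ^ i)⁻¹ with hb''
    have h6 : δ b'' = 1 := by
      rw [hb'', map_mul, map_inv, map_zpow, mul_inv_eq_one]; exact hi.symm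
    refine ⟨(b'' : P) * b2 ^ i, mul_mem (mem_sup_left (hfix _ b''.2 h6)) (zpow_mem hb2H i), j, ?_⟩
    rw [hb'', hb']
    push_cast
    group
  have hgB : ∀ g : P, ∀ b ∈ B, ⁅g, b⁆ ∈ H := by
    intro g b hb
    have hHc : B ≤ (center (P ⧸ H)).comap (QuotientGroup.mk' H) := by
      intro b hb
      obtain ⟨h, hh, j, rfl⟩ := hBform b hb
      refine mul_mem ?_ (zpow_mem ?_ j)
      · rw [mem_comap, QuotientGroup.mk'_apply, (QuotientGroup.eq_one_iff h).mpr hh]; exact one_mem _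
      · rw [mem_comap, mem_center_iff]
        intro q
        obtain ⟨q, rfl⟩ := QuotientGroup.mk'_surjective H q
        rw [← commutatorElement_eq_one_iff_mul_comm, ← map_commutatorElement, QuotientGroup.mk'_apply,
          QuotientGroup.eq_one_iff]
        exact hb3 q
    rw [← QuotientGroup.eq_one_iff, ← QuotientGroup.mk'_apply, map_commutatorElement,
      commutatorElement_eq_one_iff_mul_comm]
    exact mem_center_iff.mp (hHc hb) _
  have centB : ∀ a, a * b2 = b2 * a → a * b3 = b3 * a → a ∈ centralizer (B : Set P) := by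
    intro a h2 h3
    refine mem_centralizer_iff.mpr fun b hb => ?_
    obtain ⟨h, hh, j, rfl⟩ := hBform b hb
    exact ((show Commute a h from centH2 a h2 h hh).mul_right
      ((show Commute a b3 from h3).zpow_right j)).eq.symm
  have hB27 : Nat.card ↥B ≤ 27 := by
    have hle : B ≤ H ⊔ zpowers b3 := fun b hb => by
      obtain ⟨h, hh, j, rfl⟩ := hBform b hb
      exact mul_mem (mem_sup_left hh) (mem_sup_right (zpow_mem (mem_zpowers b3) j))
    have h := Basics.card_mul_card_eq_card_sup_mul_card_inf (N := H) (H := zpowers b3)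
      (zpowers_le.mpr (mem_normalizer_iff.mpr fun n => ⟨fun hn => hHn.conj_mem n hn b3, fun hn => by
        simpa [mul_assoc] using hHn.conj_mem _ hn b3⁻¹⟩))
    rw [hH9, Nat.card_zpowers, orderOf_eq_prime (hB.2 _ hb3B) fun e => hb3H (e ▸ one_mem H)] at h
    have h1 : Nat.card ↥(H ⊔ zpowers b3) ∣ 27 := ⟨_, h.trans rfl⟩
    exact (card_le_of_le hle).trans (Nat.le_of_dvd (by norm_num) h1)
  -- `A` centralizes `b2`
  have hAD2 : ∀ a ∈ AD, a * b2 = b2 * a := fun a ha => hADc a ha b2 hb2H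
  have hAw : ∀ a ∈ A, a * w = w * a := by
    by_contra hcon
    push Not at hcon
    obtain ⟨a0, ha0, ha0w⟩ := hcon
    have hHa0 : H ⊓ centralizer ({a0} : Set P) ≤ Z := by
      have h1 := card_le_of_lt (n := 1) hP (inf_le_left : H ⊓ centralizer ({a0} : Set P) ≤ H) (fun e =>
        ha0w (mem_centralizer_singleton_iff.mp (inf_eq_left.mp e (mem_sup_right (mem_zpowers w)))).symm)
        (by rw [hH9]; norm_num)
      exact (eq_of_le_of_card_ge (le_inf le_sup_left fun s hs =>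
        mem_centralizer_singleton_iff.mpr (hZcomm s hs a0).symm) (by rw [hZ3]; simpa using h1)).ge
    have hη0 : ∀ a ∈ AD, ⁅a, b3⁆ ∈ centralizer ({a0} : Set P) := by
      intro a ha
      rw [mem_centralizer_singleton_iff]
      have haa : a0 * a = a * a0 := hAc a0 ha0 a ha.1
      have hh := hgB a0 b3 hb3B
      have e : a0 * ⁅a, b3⁆ * a0⁻¹ = ⁅a, b3⁆ := by
        have e1 : a0 * ⁅a, b3⁆ * a0⁻¹ = ⁅a, ⁅a0, b3⁆ * b3⁆ := by
          rw [← MulAut.conj_apply, map_commutatorElement, MulAut.conj_apply, MulAut.conj_apply,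
            conj_eq a0 b3, haa, mul_inv_cancel_right]
        have e2 : ⁅a, ⁅a0, b3⁆ * b3⁆ = ⁅a, ⁅a0, b3⁆⁆ * (⁅a0, b3⁆ * ⁅a, b3⁆ * ⁅a0, b3⁆⁻¹) := by
          simp only [commutatorElement_def]; group
        rw [e1, e2, commutatorElement_eq_one_iff_mul_comm.mpr (hADc a ha _ hh), one_mul,
          hBc _ (hHB hh) _ (hbr a b3 hb3B), mul_inv_cancel_right]
      exact (mul_inv_eq_iff_eq_mul.mp e).symm
    obtain ⟨T0, hT0, -, hcard⟩ := card_le_bracket (F := AD) (T := Z) (K := AD ⊓ B) b3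
      (fun a ha => hHa0 ⟨hgB a b3 hb3B, hη0 a ha⟩) (fun a _ t ht => hZcomm t ht a)
      (fun s _ t ht => hZcomm t ht s)
      (fun a ha h => ⟨ha, hO a (centB a (hAD2 a ha) h) (hA.2 a ha.1)⟩)
    have hsub : AD ⊓ B ≤ Z := by
      intro b hb
      refine hHa0 ⟨?_, mem_centralizer_singleton_iff.mpr (hAc b hb.1.1 a0 ha0)⟩
      by_contra hbH
      have hlt := card_le_of_lt (n := 2) hP (inf_le_left : B ⊓ centralizer ({a0} : Set P) ≤ B) (fun e =>
        ha0w (mem_centralizer_singleton_iff.mp (inf_eq_left.mp e hwB)).symm) (by simpa using hB27)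
      have hle : AD ≤ B ⊓ centralizer ({a0} : Set P) := by
        intro a ha
        refine ⟨hO a (centB a (hAD2 a ha) ?_) (hA.2 a ha.1),
          mem_centralizer_singleton_iff.mpr (hAc a ha.1 a0 ha0)⟩
        by_contra h3
        have hlt' := card_le_of_lt (n := 2) hP (inf_le_left : B ⊓ centralizer ({a} : Set P) ≤ B)
          (fun e => h3 (mem_centralizer_singleton_iff.mp (inf_eq_left.mp e hb3B)).symm)
          (by simpa using hB27)
        have he : H = B ⊓ centralizer ({a} : Set P) := eq_of_le_of_card_ge (fun h hh =>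
          ⟨hHB hh, mem_centralizer_singleton_iff.mpr (hADc a ha h hh).symm⟩) (by
            rw [hH9]; simpa using hlt')
        exact hbH (he ▸ ⟨hb.2, mem_centralizer_singleton_iff.mpr (hAc b hb.1.1 a ha.1)⟩)
      have := (card_le_of_le hle).trans hlt
      omega
    have h4 := Nat.mul_le_mul (card_le_of_le hT0) (card_le_of_le hsub)
    rw [hZ3] at h4
    omega
  have hAb2 : ∀ a ∈ A, a * b2 = b2 * a := fun a ha => centH a (hAw a ha) b2 hb2H
  have hAH : ∀ a ∈ A, ∀ h ∈ H, a * h = h * a := fun a ha => centH a (hAw a ha)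
  -- centralizers in `B`
  have hBa : ∀ a, a * b2 = b2 * a → a * b3 ≠ b3 * a → B ⊓ centralizer ({a} : Set P) = H := by
    intro a h2 h3
    have h1 := card_le_of_lt (n := 2) hP (inf_le_left : B ⊓ centralizer ({a} : Set P) ≤ B) (fun e =>
      h3 (mem_centralizer_singleton_iff.mp (inf_eq_left.mp e hb3B)).symm) (by simpa using hB27)
    exact (eq_of_le_of_card_ge (show H ≤ B ⊓ centralizer ({a} : Set P) from fun h hh =>
      ⟨hHB hh, mem_centralizer_singleton_iff.mpr (centH2 a h2 h hh).symm⟩)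
      (by rw [hH9]; simpa using h1)).symm
  have hABH : A ⊓ B ≤ H := by
    intro b hb
    by_contra hbH
    have hle : A ≤ B := fun a ha => hO a (centB a (hAb2 a ha) (by
      by_contra h3
      exact hbH (hBa a (hAb2 a ha) h3 ▸ ⟨hb.2, mem_centralizer_singleton_iff.mpr (hAc b hb.1 a ha)⟩)))
      (hA.2 a ha)
    have := card_le_of_le hle
    omega
  obtain ⟨T0, hT0, hT0s, hcard⟩ := card_le_bracket (F := A) (T := H) (K := A ⊓ B) b3
    (fun a _ => hb3 a) hAH (fun s hs t ht => hBc s (hHB hs) t (hHB ht))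
    (fun a ha h => ⟨ha, hO a (centB a (hAb2 a ha) h) (hA.2 a ha)⟩)
  have hT0eq : T0 = H := eq_of_le_of_card_ge hT0 (by
    have h4 := Nat.mul_le_mul_left (Nat.card ↥T0) (card_le_of_le hABH)
    rw [hH9] at h4 ⊢
    omega)
  have hHA : H ≤ A := by
    have h4 := Nat.mul_le_mul_right (Nat.card ↥(A ⊓ B)) (card_le_of_le hT0)
    rw [hH9] at h4
    have he : A ⊓ B = H := eq_of_le_of_card_ge hABH (by rw [hH9]; omega)
    exact he ▸ inf_le_left
  subst hT0eq
  obtain ⟨a1, ha1, hη1⟩ := hT0s z (mem_sup_left hzZ)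
  obtain ⟨a2, ha2, hη2⟩ := hT0s b2 hb2H
  set D := centralizer ({b2} : Set P) with hD
  have hAD' : A ≤ D := fun a ha => mem_centralizer_singleton_iff.mpr (hAb2 a ha)
  have hDH : ∀ d ∈ D, ∀ h ∈ H, d * h = h * d := fun d hd => centH2 d (mem_centralizer_singleton_iff.mp hd)
  haveI hDn : D.Normal := ⟨fun d hd g => by
    rw [mem_centralizer_singleton_iff]
    have h1 : g⁻¹ * b2 * g = ⁅g⁻¹, b2⁆ * b2 := by simpa using conj_eq g⁻¹ b2
    have h2 : d * (g⁻¹ * b2 * g) = g⁻¹ * b2 * g * d := by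
      rw [h1]
      exact hDH d hd _ (mul_mem (mem_sup_left (hgb2 _)) hb2H)
    calc g * d * g⁻¹ * b2 = g * (d * (g⁻¹ * b2 * g)) * g⁻¹ := by group
      _ = g * (g⁻¹ * b2 * g * d) * g⁻¹ := by rw [h2]
      _ = b2 * (g * d * g⁻¹) := by group⟩
  have hBD : B ≤ D := fun b hb => mem_centralizer_singleton_iff.mpr (hBc b hb b2 hb2B)
  have hDK : ∀ d ∈ D, ∃ a ∈ A, a⁻¹ * d ∈ centralizer (B : Set P) := by
    intro d hd
    obtain ⟨a, ha, he⟩ := hT0s _ (hb3 d)
    refine ⟨a, ha, centB _ ?_ ?_⟩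
    · exact ((show Commute a b2 from hAb2 a ha).inv_left.mul_left
        (show Commute d b2 from mem_centralizer_singleton_iff.mp hd)).eq
    · have h1 : a * b3 * a⁻¹ = d * b3 * d⁻¹ := by rw [conj_eq, conj_eq, he]
      calc a⁻¹ * d * b3 = a⁻¹ * (d * b3 * d⁻¹) * d := by group
        _ = a⁻¹ * (a * b3 * a⁻¹) * d := by rw [h1]
        _ = b3 * (a⁻¹ * d) := by group
  set T := A ⊔ B with hT
  have hAT : A ≤ T := le_sup_left
  have hBT : B ≤ T := le_sup_right
  have hTD : T ≤ D := sup_le hAD' hBD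
  have hTform : ∀ t ∈ T, ∃ a ∈ A, ∃ b ∈ B, a * b = t := fun t ht => mem_sup_of_normal_right.mp ht
  have hT3 : ∀ t ∈ T, t ^ 3 = 1 := by
    intro t ht
    obtain ⟨a, ha, b, hb, rfl⟩ := hTform t ht
    have hc : ⁅b, a⁆ ∈ H := by rw [← commutatorElement_inv a b]; exact inv_mem (hgB a b hb)
    rw [cube_mul (show Commute ⁅b, a⁆ a from (hAH a ha _ hc).symm)
      (show Commute ⁅b, a⁆ b from hBc _ (hHB hc) b hb), hB.2 _ (hHB hc), hA.2 a ha, hB.2 b hb,
      one_mul, one_mul]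
  have hTK : ∀ t ∈ T, t ∈ centralizer (B : Set P) → t ∈ B := by
    intro t ht htK
    obtain ⟨a, ha, b, hb, rfl⟩ := hTform t ht
    refine mul_mem (hO a ?_ (hA.2 a ha)) hb
    have hbK : b ∈ centralizer (B : Set P) := mem_centralizer_iff.mpr fun c hc => hBc c hc b hb
    have := mul_mem htK (inv_mem hbK)
    rwa [mul_inv_cancel_right] at this
  have hzint : ∀ g, ∀ u v : P, u ∈ zpowers z → v ∈ zpowers g → g ∈ H → g ∉ Z → u = v → u = 1 := by
    intro g u v hu hv hg hgZ e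
    rw [hZz] at hu
    by_contra h1
    have hgo : orderOf g = 3 := orderOf_eq_prime (hB.2 g (hHB hg)) fun e => hgZ (e ▸ one_mem Z)
    have h2 : zpowers u = zpowers g := eq_of_le_of_card_ge (zpowers_le.mpr (e ▸ hv)) (by
      rw [Nat.card_zpowers, Nat.card_zpowers, hgo, orderOf_eq_prime (hZel.2 u hu) h1])
    exact hgZ (zpowers_le.mpr hu (h2 ▸ mem_zpowers g))
  have himage : ∀ a, (∀ h ∈ H, a * h = h * a) → ∀ b ∈ B, ⁅a, b⁆ ∈ zpowers ⁅a, b3⁆ := by
    intro a ha b hb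
    obtain ⟨h, hh, j, rfl⟩ := hBform b hb
    let f : ↥B →* P :=
      { toFun := fun b => ⁅a, (b : P)⁆
        map_one' := by simp
        map_mul' := fun b c => by
          push_cast
          have e : ⁅a, (b : P) * c⁆ = ⁅a, (b : P)⁆ * ((b : P) * ⁅a, (c : P)⁆ * (b : P)⁻¹) := by
            simp only [commutatorElement_def]; group
          rw [e, hBc _ b.2 _ (hbr a _ c.2), mul_inv_cancel_right] }
    have e : ⁅a, h * b3 ^ j⁆ = f (⟨h, hHB hh⟩ * (⟨b3, hb3B⟩ : ↥B) ^ j) := by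
      change _ = ⁅a, ((⟨h, hHB hh⟩ * (⟨b3, hb3B⟩ : ↥B) ^ j : ↥B) : P)⁆
      push_cast; rfl
    rw [e, map_mul, map_zpow]
    change ⁅a, h⁆ * ⁅a, b3⁆ ^ j ∈ _
    rw [commutatorElement_eq_one_iff_mul_comm.mpr (ha h hh), one_mul]
    exact zpow_mem (mem_zpowers _) j
  have ha1ne : a1 * b3 ≠ b3 * a1 := fun h => hz1 (hη1 ▸ commutatorElement_eq_one_iff_mul_comm.mpr h)
  have hpair : ∀ q, q ∈ D → ⁅q, b3⁆ ∈ H → ⁅q, b3⁆ ∉ Z → a1 * q = q * a1 → ∀ f g, f ∈ B → g ∈ B →
      f * a1 * (g * q) = g * q * (f * a1) → f ∈ H ∧ g ∈ H := by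
    intro q hq hqH hqZ haq f g hf hg h
    have he := comm_pair hBc hf hg haq h
    have h1 : ⁅a1, g⁆ ∈ zpowers z := hη1 ▸ himage a1 (hAH a1 ha1) g hg
    have h2 := himage q (hDH q hq) f hf
    have h3 := hzint _ _ _ h1 h2 hqH hqZ he
    refine ⟨?_, ?_⟩
    · rw [← hBa q (mem_centralizer_singleton_iff.mp hq) (fun e =>
        hqZ (commutatorElement_eq_one_iff_mul_comm.mpr e ▸ one_mem Z))]
      exact ⟨hf, mem_centralizer_singleton_iff.mpr
        (commutatorElement_eq_one_iff_mul_comm.mp (he.symm.trans h3)).symm⟩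
    · rw [← hBa a1 (hAb2 a1 ha1) ha1ne]
      exact ⟨hg, mem_centralizer_singleton_iff.mpr (commutatorElement_eq_one_iff_mul_comm.mp h3).symm⟩
  -- elements of order 3 normalizing `T`
  have homega : ∀ d ∈ D, d ∈ normalizer (T : Set P) → d ^ 3 = 1 → d ∈ T := by
    intro d hdD hdN hd3
    obtain ⟨a, ha, hk⟩ := hDK d hdD
    set k := a⁻¹ * d with hkdef
    have hkN : k ∈ normalizer (T : Set P) := mul_mem (inv_mem (le_normalizer (hAT ha))) hdN
    have hf : ∀ u ∈ A, ⁅k, u⁆ ∈ B := fun u hu => by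
      refine hTK _ ?_ ?_
      · rw [commutatorElement_def]
        exact mul_mem ((mem_normalizer_iff.mp hkN u).mp (hAT hu)) (inv_mem (hAT hu))
      · rw [commutatorElement_def, mul_assoc, mul_assoc]
        refine mul_mem hk ?_
        rw [← mul_assoc]
        exact (inferInstance : (centralizer (B : Set P)).Normal).conj_mem _ (inv_mem hk) u
    have hkH : ∀ h ∈ H, k * h = h * k := fun h hh => (mem_centralizer_iff.mp hk h (hHB hh)).symm
    have h12 := hpair a2 (hAD' ha2) (hη2.symm ▸ hb2H) (hη2.symm ▸ hb2Z) (hAc a1 ha1 a2 ha2)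
      _ _ (hf a1 ha1) (hf a2 ha2) (by
        rw [← conj_eq, ← conj_eq]
        calc k * a1 * k⁻¹ * (k * a2 * k⁻¹) = k * (a1 * a2) * k⁻¹ := by group
          _ = k * (a2 * a1) * k⁻¹ := by rw [hAc a1 ha1 a2 ha2]
          _ = _ := by group)
    let S : Subgroup P :=
      { carrier := {u | u ∈ A ∧ ⁅k, u⁆ ∈ H}
        one_mem' := ⟨one_mem A, by rw [commutatorElement_one_right]; exact one_mem H⟩
        mul_mem' := by
          rintro u v ⟨hu, hu'⟩ ⟨hv, hv'⟩
          refine ⟨mul_mem hu hv, ?_⟩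
          have e : ⁅k, u * v⁆ = ⁅k, u⁆ * (u * ⁅k, v⁆ * u⁻¹) := by simp only [commutatorElement_def]; group
          rw [e]; exact mul_mem hu' (hHn.conj_mem _ hv' u)
        inv_mem' := by
          rintro u ⟨hu, hu'⟩
          refine ⟨inv_mem hu, ?_⟩
          have e : ⁅k, u⁻¹⁆ = u⁻¹ * ⁅k, u⁆⁻¹ * u⁻¹⁻¹ := by simp only [commutatorElement_def]; group
          rw [e]; exact hHn.conj_mem _ (inv_mem hu') u⁻¹ }
    have hAS : A ≤ S := by
      intro u hu
      obtain ⟨s, hs, j, hj⟩ := hHform _ (hb3 u)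
      rw [← hZz] at hs
      obtain ⟨i, rfl⟩ := mem_zpowers_iff.mp hs
      let f : ↥A →* P :=
        { toFun := fun a => ⁅(a : P), b3⁆
          map_one' := by simp
          map_mul' := fun a b => by
            push_cast
            have e : ⁅(a : P) * b, b3⁆ = (a : P) * ⁅(b : P), b3⁆ * (a : P)⁻¹ * ⁅(a : P), b3⁆ := by
              simp only [commutatorElement_def]; group
            rw [e, hAH _ a.2 _ (hb3 _), mul_inv_cancel_right,
              hBc _ (hbr _ _ hb3B) _ (hbr _ _ hb3B)] }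
      set v : ↥A := (⟨a1, ha1⟩ : ↥A) ^ i * (⟨a2, ha2⟩ : ↥A) ^ j with hv
      have hfv : f (⟨u, hu⟩ * v⁻¹) = 1 := by
        rw [map_mul, map_inv, mul_inv_eq_one, hv, map_mul, map_zpow, map_zpow]
        change ⁅u, b3⁆ = ⁅a1, b3⁆ ^ i * ⁅a2, b3⁆ ^ j
        rw [hη1, hη2, hj]
      have hm : ((⟨u, hu⟩ * v⁻¹ : ↥A) : P) ∈ H := hABH ⟨SetLike.coe_mem _,
        hO _ (centB _ (hAb2 _ (SetLike.coe_mem _)) (commutatorElement_eq_one_iff_mul_comm.mp hfv))
          (hA.2 _ (SetLike.coe_mem _))⟩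
      have hHS : H ≤ S := fun h hh => ⟨hHA hh, by
        rw [commutatorElement_eq_one_iff_mul_comm.mpr (hkH h hh)]; exact one_mem H⟩
      have hvS : (v : P) ∈ S := by
        rw [hv]; push_cast
        exact mul_mem (zpow_mem (show a1 ∈ S from ⟨ha1, h12.1⟩) i)
          (zpow_mem (show a2 ∈ S from ⟨ha2, h12.2⟩) j)
      have := mul_mem (hHS hm) hvS
      push_cast at this
      rwa [inv_mul_cancel_right] at this
    have hc : ⁅k, a⁆ ∈ H := (hAS ha).2
    have h3 := cube_mul (show Commute ⁅k, a⁆ a from (hAH a ha _ hc).symm)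
      (show Commute ⁅k, a⁆ k from (hkH _ hc).symm)
    rw [hkdef, mul_inv_cancel_left, hd3, ← hkdef, hB.2 _ (hHB hc), hA.2 a ha, one_mul, one_mul] at h3
    have := mul_mem (hAT ha) (hBT (hO k hk h3.symm))
    rwa [hkdef, mul_inv_cancel_left] at this
  -- `T` is normalized by `D`
  have hTN : T ≤ normalizer (T : Set P) := le_normalizer
  have hDN : D ≤ normalizer (T : Set P) := by
    haveI : Group.IsNilpotent ↥D := (hP.to_subgroup D).isNilpotent
    set N2 := (normalizer (T : Set P)).subgroupOf D with hN2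
    by_contra hcon
    have hlt : N2 < ⊤ := lt_top_iff_ne_top.mpr fun h => hcon (subgroupOf_eq_top.mp h)
    obtain ⟨g, hgN, hg⟩ := SetLike.exists_of_lt (Group.normalizerCondition_of_isNilpotent N2 hlt)
    refine hg (Components.mem_normalizer_of_conj_le ?_)
    rintro _ ⟨t, ht, rfl⟩
    have h1 := (mem_normalizer_iff.mp hgN ⟨t, hTD ht⟩).mp (hTN ht)
    exact homega _ (hDn.conj_mem t (hTD ht) g) h1 (by
      change ((g : P) * t * (g : P)⁻¹) ^ 3 = 1
      rw [conj_pow, hT3 t ht, mul_one, mul_inv_cancel])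
  have hxT : ∀ a ∈ A, x * a * x⁻¹ ∈ T := fun a ha => by
    have hm := hDn.conj_mem a (hAD' ha) x
    exact homega _ hm (hDN hm) (by rw [conj_pow, hA.2 a ha, mul_one, mul_inv_cancel])
  have hηx : ∀ a ∈ A, ⁅x * a * x⁻¹, b3⁆ = x * ⁅a, b3⁆ * x⁻¹ := by
    intro a ha
    have hh := hb3 x⁻¹
    have e : b3 = x * (⁅x⁻¹, b3⁆ * b3) * x⁻¹ := by simp only [commutatorElement_def]; group
    have e2 : ⁅a, ⁅x⁻¹, b3⁆ * b3⁆ = ⁅a, ⁅x⁻¹, b3⁆⁆ * (⁅x⁻¹, b3⁆ * ⁅a, b3⁆ * ⁅x⁻¹, b3⁆⁻¹) := by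
      simp only [commutatorElement_def]; group
    conv_lhs => rw [e]
    rw [← MulAut.conj_apply, ← MulAut.conj_apply (g := x) (h := _ * b3), ← map_commutatorElement, e2,
      commutatorElement_eq_one_iff_mul_comm.mpr (hAH a ha _ hh), one_mul,
      hBc _ (hHB hh) _ (hbr a b3 hb3B), mul_inv_cancel_right, MulAut.conj_apply]
  have hβ : ∀ a ∈ A, ∀ q ∈ A, ⁅q, b3⁆ = x * ⁅a, b3⁆ * x⁻¹ → x * a * x⁻¹ * q⁻¹ ∈ B := by
    intro a ha q hq he
    refine hTK _ (mul_mem (hxT a ha) (inv_mem (hAT hq))) ?_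
    have hm := mul_mem (hTD (hxT a ha)) (inv_mem (hAD' hq))
    refine centB _ (mem_centralizer_singleton_iff.mp hm) ?_
    have e : ⁅x * a * x⁻¹, b3⁆ = ⁅q, b3⁆ := (hηx a ha).trans he.symm
    have hη : Commute (x * a * x⁻¹ * q⁻¹) ⁅q, b3⁆ := hDH _ hm _ (hb3 q)
    have hc : Commute (x * a * x⁻¹ * q⁻¹) (⁅q, b3⁆ * b3) := by
      have h1 : x * a * x⁻¹ * b3 * (x * a * x⁻¹)⁻¹ = ⁅q, b3⁆ * b3 := by rw [conj_eq, e]
      change x * a * x⁻¹ * q⁻¹ * (⁅q, b3⁆ * b3) = ⁅q, b3⁆ * b3 * (x * a * x⁻¹ * q⁻¹)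
      conv_rhs => rw [← h1]
      rw [← conj_eq q b3]
      group
    have := hη.inv_right.mul_right hc
    rw [inv_mul_cancel_left] at this
    exact this.eq
  have hxz : x * z * x⁻¹ = z := by rw [hZcomm z hzZ x, mul_inv_cancel_right]
  set q := a1 * a2 with hqdef
  have hqA : q ∈ A := mul_mem ha1 ha2
  have hηq : ⁅q, b3⁆ = z * b2 := by
    have e : ⁅q, b3⁆ = a1 * ⁅a2, b3⁆ * a1⁻¹ * ⁅a1, b3⁆ := by
      simp only [hqdef, commutatorElement_def]; group
    rw [e, hη1, hη2, hAb2 a1 ha1, mul_inv_cancel_right, hBc _ hb2B _ (hZB hzZ)]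
  have hq' : ⁅q, b3⁆ = x * ⁅a2, b3⁆ * x⁻¹ := by rw [hηq, hη2, conj_eq]
  have hβ1 := hβ a1 ha1 a1 ha1 (by rw [hη1, hxz])
  have hβ2 := hβ a2 ha2 q hqA hq'
  have hH1 := (hpair q (hAD' hqA) (hb3 q) (fun h => hb2Z (by
      rw [hηq] at h
      have := mul_mem (inv_mem hzZ) h
      rwa [inv_mul_cancel_left] at this))
    (hAc a1 ha1 q hqA) _ _ hβ1 hβ2 (by
      rw [inv_mul_cancel_right, inv_mul_cancel_right]
      calc x * a1 * x⁻¹ * (x * a2 * x⁻¹) = x * (a1 * a2) * x⁻¹ := by group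
        _ = x * (a2 * a1) * x⁻¹ := by rw [hAc a1 ha1 a2 ha2]
        _ = _ := by group)).1
  set β := x * a1 * x⁻¹ * a1⁻¹ with hβdef
  obtain ⟨s, hs, j, hsj⟩ := hHform β hH1
  rw [← hZz] at hs
  obtain ⟨i, rfl⟩ := mem_zpowers_iff.mp hs
  set bb : ↥B := (⟨b2, hb2B⟩ : ↥B) ^ i * (⟨b3, hb3B⟩ : ↥B) ^ j with hbb
  have hδ : ⁅x, (bb : P)⁆ = β := by
    change δ bb = β
    rw [hbb, map_mul, map_zpow, map_zpow, hsj]
    rfl
  set y := (bb : P)⁻¹ * a1 with hy
  have hyx : x * y * x⁻¹ = y := by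
    calc x * y * x⁻¹ = (⁅x, (bb : P)⁆ * bb)⁻¹ * (β * a1) := by
          simp only [hy, hβdef, commutatorElement_def]; group
      _ = y := by rw [hδ, mul_inv_rev, hy]; group
  have hyT : y ∈ T := mul_mem (inv_mem (hBT bb.2)) (hAT ha1)
  have hyE := hbad y (mul_inv_eq_iff_eq_mul.mp hyx).symm (hT3 y hyT)
  have hyZ : y ∈ Z := hEZ (D ⊓ E) inf_le_right
    (le_inf (fun s hs => mem_centralizer_singleton_iff.mpr (hZcomm s hs b2).symm) hZE)
    (fun hx => hz1 (commutatorElement_eq_one_iff_mul_comm.mpr (mem_centralizer_singleton_iff.mp hx.1)))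
    ⟨hTD hyT, hyE⟩
  have ha1B : a1 ∈ B := by
    have := mul_mem bb.2 (hZB hyZ)
    rwa [hy, mul_inv_cancel_left] at this
  exact ha1ne (hBc a1 ha1B b3 hb3B)


theorem connected (hP : IsPGroup 3 P) {A : Subgroup P} (hA : Cfsg.IsElementaryAbelian 3 A)
    (hA81 : 81 ≤ Nat.card ↥A) : Cfsg.IsKConnected 3 2 P := by
  haveI : Fact (Nat.Prime 3) := ⟨Nat.prime_three⟩
  haveI : Nontrivial P := by
    by_contra h
    rw [not_nontrivial_iff_subsingleton] at h
    have := Nat.card_of_subsingleton (1 : ↥A)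
    omega
  obtain ⟨z0, hz0, hz0o⟩ : ∃ z0 ∈ center P, orderOf z0 = 3 := by
    haveI := hP.center_nontrivial
    obtain ⟨k, hk, hc⟩ := (hP.to_subgroup (center P)).nontrivial_iff_card.mp inferInstance
    obtain ⟨c, hco⟩ := exists_prime_orderOf_dvd_card' 3 (show 3 ∣ Nat.card ↥(center P) by
      rw [hc]; exact dvd_pow_self 3 (by omega))
    exact ⟨c, c.2, by rw [orderOf_coe, hco]⟩
  set Z := zpowers z0 with hZ
  have hZ3 : Nat.card ↥Z = 3 := by rw [hZ, Nat.card_zpowers, hz0o]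
  have hZcomm : ∀ s ∈ Z, ∀ t : P, t * s = s * t := fun s hs t =>
    mem_center_iff.mp (zpowers_le.mpr hz0 hs) t
  haveI hZn : Z.Normal := ⟨fun n hn g => by rwa [hZcomm n hn g, mul_inv_cancel_right]⟩
  have hcomm : ∀ {F : Subgroup P}, Cfsg.IsElementaryAbelian 3 F → ∀ s ∈ F, ∀ t ∈ F, s * t = t * s :=
    fun {F} hF s hs t ht =>
      (haveI := hF.1; congrArg Subtype.val (IsMulCommutative.is_comm.comm (⟨s, hs⟩ : ↥F) ⟨t, ht⟩))
  have hsup : ∀ F : Subgroup P, Cfsg.IsElementaryAbelian 3 F →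
      Cfsg.IsElementaryAbelian 3 (F ⊔ Z) := by
    intro F hF
    refine ⟨⟨⟨fun u v => Subtype.ext ?_⟩⟩, fun u hu => ?_⟩
    · obtain ⟨f, hf, s, hs, e⟩ := mem_sup_of_normal_right.mp u.2
      obtain ⟨f', hf', s', hs', e'⟩ := mem_sup_of_normal_right.mp v.2
      push_cast
      rw [← e, ← e']
      exact (((show Commute f f' from hcomm hF f hf f' hf').mul_right
        (show Commute f s' from hZcomm s' hs' f)).mul_left
        ((show Commute s f' from (hZcomm s hs f').symm).mul_right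
          (show Commute s s' from hZcomm s' hs' s))).eq
    · obtain ⟨f, hf, s, hs, rfl⟩ := mem_sup_of_normal_right.mp hu
      rw [(show Commute f s from hZcomm s hs f).mul_pow, hF.2 f hf, one_mul]
      exact orderOf_dvd_iff_pow_eq_one.mp (hz0o ▸ orderOf_dvd_of_mem_zpowers hs)
  -- a normal subgroup of order 9
  obtain ⟨B, hBcond, hBmax⟩ := Set.Finite.exists_maximal
    (Set.toFinite {B : Subgroup P | B.Normal ∧ Cfsg.IsElementaryAbelian 3 B ∧ Z ≤ B})
    ⟨Z, hZn, by simpa using hsup ⊥ ⟨inferInstance, fun u hu => by rw [mem_bot.mp hu, one_pow]⟩, le_rfl⟩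
  obtain ⟨hBn, hB, hZB⟩ := hBcond
  have hO := omega_centralizer hP hB fun W h1 h2 h3 => hBmax ⟨h1, h2, hZB.trans h3⟩ h3
  have hBZ : ¬ B ≤ Z := fun h => by
    have : Nat.card ↥A ≤ Nat.card ↥Z := card_le_of_le fun a ha => h (hO a
      (mem_centralizer_iff.mpr fun b hb => (hZcomm b (h hb) a).symm) (hA.2 a ha))
    omega
  obtain ⟨w, hwB, hwZ, hw⟩ := exists_central_over hP Z B hBZ
  set U := Z ⊔ zpowers w with hU
  have hUB : U ≤ B := sup_le hZB (zpowers_le.mpr hwB)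
  have hUel : Cfsg.IsElementaryAbelian 3 U :=
    ⟨⟨⟨fun u v => Subtype.ext (hcomm hB _ (hUB u.2) _ (hUB v.2))⟩⟩, fun u hu => hB.2 u (hUB hu)⟩
  have nine : ∀ F : Subgroup P, 3 < Nat.card ↥F → 9 ≤ Nat.card ↥F := fun F h => by
    by_contra h9
    have := card_eq_of_lt_nine hP (n := 1) (show Nat.card ↥F < 3 ^ 2 by omega)
    omega
  have hU9 : 9 ≤ Nat.card ↥U := nine U (by
    rw [← hZ3]
    by_contra h
    exact hwZ ((eq_of_le_of_card_ge le_sup_left (not_lt.mp h)) ▸ mem_sup_right (mem_zpowers w)))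
  set R := fun A B : Subgroup P => Cfsg.IsElementaryAbelian 3 A ∧ 3 ^ 2 ≤ Nat.card ↥A ∧
    Cfsg.IsElementaryAbelian 3 B ∧ 3 ^ 2 ≤ Nat.card ↥B ∧ ∀ a ∈ A, ∀ b ∈ B, a * b = b * a with hR
  have toU : ∀ F : Subgroup P, Cfsg.IsElementaryAbelian 3 F → 27 ≤ Nat.card ↥F →
      Relation.ReflTransGen R F U := by
    intro F hF hF27
    obtain ⟨T0, hT0, -, hcard⟩ := card_le_bracket (F := F) (T := Z)
      (K := F ⊓ centralizer ({w} : Set P)) w (fun a _ => hw a)
      (fun a _ t ht => hZcomm t ht a) (fun s _ t ht => hZcomm t ht s)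
      (fun a ha h => ⟨ha, mem_centralizer_singleton_iff.mpr h⟩)
    have h2 := Nat.mul_le_mul_right (Nat.card ↥(F ⊓ centralizer ({w} : Set P))) (card_le_of_le hT0)
    rw [hZ3] at h2
    set F1 := F ⊓ centralizer ({w} : Set P) with hF1
    have hF1el : Cfsg.IsElementaryAbelian 3 F1 :=
      ⟨⟨⟨fun u v => Subtype.ext (hcomm hF _ u.2.1 _ v.2.1)⟩⟩, fun u hu => hF.2 u hu.1⟩
    have hF19 : 3 ^ 2 ≤ Nat.card ↥F1 := by norm_num; omega
    refine Relation.ReflTransGen.trans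
      (Relation.ReflTransGen.single (b := F1) ⟨hF, by norm_num; omega, hF1el, hF19,
        fun a ha b hb => hcomm hF a ha b hb.1⟩)
      (Relation.ReflTransGen.single ⟨hF1el, hF19, hUel, by norm_num; omega, fun a ha b hb => ?_⟩)
    have : U ≤ centralizer ({a} : Set P) := sup_le
      (fun s hs => mem_centralizer_singleton_iff.mpr (hZcomm s hs a).symm)
      (zpowers_le.mpr (mem_centralizer_singleton_iff.mpr (mem_centralizer_singleton_iff.mp ha.2).symm))
    exact (mem_centralizer_singleton_iff.mp (this hb)).symm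
  have big : ∀ E : Subgroup P, Cfsg.IsElementaryAbelian 3 E → 3 ^ 2 ≤ Nat.card ↥E →
      ∃ F : Subgroup P, Cfsg.IsElementaryAbelian 3 F ∧ 27 ≤ Nat.card ↥F ∧ E ≤ F := by
    intro E hE hE9
    by_contra hcon
    push Not at hcon
    have hE27 : Nat.card ↥E ≤ 9 := by
      simpa using card_eq_of_lt_nine hP (n := 2) (show Nat.card ↥E < 3 ^ 3 by
        have := hcon E hE; by_contra h; exact this (not_lt.mp h) le_rfl)
    have heq : E ⊔ Z = E := by
      refine (eq_of_le_of_card_ge le_sup_left ?_).symm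
      by_contra h
      have h2 : ¬ 27 ≤ Nat.card ↥(E ⊔ Z) := fun h' => hcon _ (hsup E hE) h' le_sup_left
      have h3 := card_eq_of_lt_nine hP (n := 2) (show Nat.card ↥(E ⊔ Z) < 3 ^ 3 by omega)
      have h4 : Nat.card ↥E ≤ Nat.card ↥(E ⊔ Z) := card_le_of_le le_sup_left
      omega
    have hZE : Z ≤ E := heq ▸ le_sup_right
    obtain ⟨x, hxE, hxZ⟩ : ∃ x ∈ E, x ∉ Z := by
      by_contra h
      push Not at h
      have : Nat.card ↥E ≤ Nat.card ↥Z := card_le_of_le h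
      omega
    refine no_bad hP hA hA81 hz0 hz0o hE27 (hZE (mem_zpowers z0)) hxE (hE.2 x hxE) hxZ fun y hy hy3 => ?_
    by_contra hyE
    set F := E ⊔ zpowers y with hF
    have hx' : E = Z ⊔ zpowers x := by
      refine (eq_of_le_of_card_ge (sup_le hZE (zpowers_le.mpr hxE)) ?_).symm
      refine hE27.trans (nine _ ?_)
      rw [← hZ3]
      by_contra h
      exact hxZ ((eq_of_le_of_card_ge le_sup_left (not_lt.mp h)) ▸ mem_sup_right (mem_zpowers x))
    have hEy : E ≤ centralizer ({y} : Set P) := hx' ▸ sup_le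
      (fun s hs => mem_centralizer_singleton_iff.mpr (hZcomm s hs y).symm)
      (zpowers_le.mpr (mem_centralizer_singleton_iff.mpr hy.symm))
    haveI hyc : IsMulCommutative ↥F := by
      refine ⟨⟨fun u v => Subtype.ext ?_⟩⟩
      have key : F ≤ centralizer (F : Set P) := by
        refine sup_le (le_centralizer_iff.mp (sup_le (fun a ha => mem_centralizer_iff.mpr fun b hb =>
          hcomm hE b hb a ha) (zpowers_le.mpr (mem_centralizer_iff.mpr fun b hb =>
            mem_centralizer_singleton_iff.mp (hEy hb)))))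
          (zpowers_le.mpr (mem_centralizer_iff.mpr fun b hb => ?_))
        have : F ≤ centralizer ({y} : Set P) := sup_le hEy
          (zpowers_le.mpr (mem_centralizer_singleton_iff.mpr rfl))
        exact mem_centralizer_singleton_iff.mp (this hb)
      exact mem_centralizer_iff.mp (key v.2) _ u.2
    have hF3 : ∀ u ∈ F, u ^ 3 = 1 := by
      intro u hu
      let K : Subgroup P :=
        { carrier := {u | u ∈ F ∧ u ^ 3 = 1}
          one_mem' := ⟨one_mem F, one_pow 3⟩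
          mul_mem' := fun {a b} ha hb => ⟨mul_mem ha.1 hb.1, by
            rw [(show Commute a b from congrArg Subtype.val
              (IsMulCommutative.is_comm.comm (⟨a, ha.1⟩ : ↥F) ⟨b, hb.1⟩)).mul_pow, ha.2, hb.2, one_mul]⟩
          inv_mem' := fun {a} ha => ⟨inv_mem ha.1, by rw [inv_pow, ha.2, inv_one]⟩ }
      exact ((sup_le (fun a ha => ⟨mem_sup_left ha, hE.2 a ha⟩)
        (zpowers_le.mpr ⟨mem_sup_right (mem_zpowers y), hy3⟩) : F ≤ K) hu).2
    refine hcon F ⟨hyc, hF3⟩ ?_ le_sup_left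
    by_contra h
    have h2 := card_eq_of_lt_nine hP (n := 2) (show Nat.card ↥F < 3 ^ 3 by omega)
    have h3 : E = F := eq_of_le_of_card_ge le_sup_left (by omega)
    exact hyE (h3 ▸ mem_sup_right (mem_zpowers y))
  have rev : ∀ X Y, Relation.ReflTransGen R X Y → Relation.ReflTransGen R Y X := by
    intro X Y h
    induction h with
    | refl => exact .refl
    | tail _ hs ih =>
      exact Relation.ReflTransGen.head
        ⟨hs.2.2.1, hs.2.2.2.1, hs.1, hs.2.1, fun b hb a ha => (hs.2.2.2.2 a ha b hb).symm⟩ ih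
  have reach : ∀ E : Subgroup P, Cfsg.IsElementaryAbelian 3 E → 3 ^ 2 ≤ Nat.card ↥E →
      Relation.ReflTransGen R E U ∧ Relation.ReflTransGen R U E := by
    intro E hE hE9
    obtain ⟨F, hF, hF27, hEF⟩ := big E hE hE9
    have h := (Relation.ReflTransGen.single (r := R) (b := F) ⟨hE, hE9, hF, by norm_num; omega,
      fun a ha b hb => hcomm hF a (hEF ha) b hb⟩).trans (toU F hF hF27)
    exact ⟨h, rev _ _ h⟩
  intro E E' hE hE9 hE' hE9'
  exact (reach E hE hE9).1.trans (reach E' hE' hE9').2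

/-- A finite 3-group of 3-rank at least 4 is 2-connected for the prime 3: its commuting graph on elementary abelian subgroups of order ≥ 9 is connected. -/
theorem result {P : Type*} [Group P] [Finite P] (hP : IsPGroup 3 P) (hrk : ¬ Cfsg.PRankLE 3 3 P) : Cfsg.IsKConnected 3 2 P := by
  haveI : Fact (Nat.Prime 3) := ⟨Nat.prime_three⟩
  obtain ⟨A, hA, hA81⟩ : ∃ A : Subgroup P, Cfsg.IsElementaryAbelian 3 A ∧ 81 ≤ Nat.card ↥A := by
    by_contra hcon
    push Not at hcon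
    exact hrk fun A h1 h2 => card_eq_of_lt_nine hP (n := 3) (by simpa using hcon A ⟨h1, h2⟩)
  exact connected hP hA hA81

end Cfsg.Agent.S1338
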