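import Cfsg.Statements.S1339
import Cfsg.Agent.Lib.Components.PTimesQ
import Cfsg.Agent.Lib.Components.Fitting

set_option autoImplicit false
open Cfsg

namespace Cfsg.Agent.S1339

open Subgroup Matrix

variable {F : Type*} [Field F] [Fintype F] [DecidableEq F] {n : ℕ}

theorem zero_or_one (hF : Fintype.card F = 2) (x : F) : x = 0 ∨ x = 1 := by
  by_contra h
  push Not at h
  have h3 : ({0, 1, x} : Finset F).card = 3 := by
    rw [Finset.card_eq_three]
    exact ⟨0, 1, x, zero_ne_one, h.1.symm, h.2.symm, rfl⟩
  have := Finset.card_le_univ ({0, 1, x} : Finset F)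
  omega

theorem double_eq_zero (hF : Fintype.card F = 2) (x : F) : x + x = 0 := by
  have h : ((Fintype.card F : ℕ) : F) = 0 := Nat.cast_card_eq_zero F
  rw [hF, Nat.cast_ofNat] at h
  rw [← two_mul, h, zero_mul]

/-- The shape of a matrix commuting with the transvection. -/
theorem shape (hF : Fintype.card F = 2) {i j : Fin n} (_hij : i ≠ j)
    {g : Matrix (Fin n) (Fin n) F} (hd : g.det ≠ 0)
    (hg : g * transvection i j 1 = transvection i j 1 * g) :
    (∀ k, k ≠ i → g k i = 0) ∧ (∀ l, l ≠ j → g j l = 0) ∧ g i i = 1 ∧ g j j = 1 := by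
  rw [transvection, mul_add, add_mul, mul_one, one_mul, add_right_inj] at hg
  have e : ∀ a b, (g * single i j (1 : F)) a b = (single i j (1 : F) * g) a b := fun a b => by
    rw [hg]
  have h1 : ∀ k, k ≠ i → g k i = 0 := fun k hk => by
    have := e k j
    rwa [mul_single_apply_same, single_mul_apply_of_ne _ _ _ _ _ hk, mul_one] at this
  have h2 : ∀ l, l ≠ j → g j l = 0 := fun l hl => by
    have := e i l
    rw [mul_single_apply_of_ne _ _ _ _ _ hl, single_mul_apply_same, one_mul] at this
    exact this.symm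
  have h3 : g i i = g j j := by
    have := e i j
    rwa [mul_single_apply_same, single_mul_apply_same, mul_one, one_mul] at this
  have h4 : g i i = 1 := by
    refine (zero_or_one hF _).resolve_left fun h => hd (det_eq_zero_of_column_eq_zero i fun k => ?_)
    rcases eq_or_ne k i with rfl | hk
    · exact h
    · exact h1 k hk
  exact ⟨h1, h2, h4, h3 ▸ h4⟩

abbrev SLn (n : ℕ) (F : Type*) [Field F] := Matrix.SpecialLinearGroup (Fin n) F

theorem mem_cent_iff {t g : SLn n F} : g ∈ centralizer ({t} : Set (SLn n F)) ↔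
    (g : Matrix (Fin n) (Fin n) F) * t = t * g := by
  rw [mem_centralizer_singleton_iff]
  exact ⟨fun h => congrArg Subtype.val h, fun h => Subtype.ext h⟩

theorem main (hF : Fintype.card F = 2) {i j : Fin n} (hij : i ≠ j) (t : SLn n F)
    (ht : (t : Matrix (Fin n) (Fin n) F) = transvection i j 1) :
    centralizer (Cfsg.pCore 2 ↥(centralizer ({t} : Set (SLn n F))) : Set ↥(centralizer ({t} : Set (SLn n F)))) ≤
      Cfsg.pCore 2 ↥(centralizer ({t} : Set (SLn n F))) := by
  set C := centralizer ({t} : Set (SLn n F)) with hC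
  have hsh : ∀ g : ↥C, (∀ k, k ≠ i → (g : SLn n F).1 k i = 0) ∧
      (∀ l, l ≠ j → (g : SLn n F).1 j l = 0) ∧ (g : SLn n F).1 i i = 1 ∧ (g : SLn n F).1 j j = 1 := by
    intro g
    refine shape hF hij (by rw [(g : SLn n F).2]; exact one_ne_zero) ?_
    have := mem_cent_iff.mp g.2
    rwa [ht] at this
  let S := {k : Fin n // k ≠ i ∧ k ≠ j}
  let f : ↥C →* Matrix S S F :=
    { toFun := fun g => Matrix.of fun a b => (g : SLn n F).1 a.1 b.1
      map_one' := by
        ext a b
        change (1 : Matrix (Fin n) (Fin n) F) a.1 b.1 = (1 : Matrix S S F) a b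
        simp only [one_apply, Subtype.val_inj]
      map_mul' := fun g h => by
        ext a b
        change ((g : SLn n F).1 * (h : SLn n F).1) a.1 b.1 = _
        simp only [mul_apply, of_apply]
        rw [← Finset.sum_subtype (Finset.univ.filter fun k => k ≠ i ∧ k ≠ j) (by simp)
          (fun k => (g : SLn n F).1 a.1 k * (h : SLn n F).1 k b.1)]
        refine (Finset.sum_subset (Finset.filter_subset _ _) fun k _ hk => ?_).symm
        simp only [Finset.mem_filter, Finset.mem_univ, true_and, not_and_or, not_not] at hk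
        rcases hk with rfl | rfl
        · rw [(hsh g).1 _ a.2.1, zero_mul]
        · rw [(hsh h).2.1 _ b.2.2, mul_zero] }
  have hker : ∀ g : ↥C, g ∈ f.ker → ∀ k l, k ≠ i → k ≠ j → l ≠ i → l ≠ j →
      (g : SLn n F).1 k l = if k = l then 1 else 0 := by
    intro g hg k l a b c d
    have h1 : f g = 1 := hg
    have h2 : (f g) ⟨k, a, b⟩ ⟨l, c, d⟩ = (1 : Matrix S S F) ⟨k, a, b⟩ ⟨l, c, d⟩ := by rw [h1]
    simp only [one_apply, Subtype.mk.injEq] at h2
    exact h2
  have hp : IsPGroup 2 ↥f.ker := by
    intro g
    refine ⟨2, ?_⟩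
    apply Subtype.ext
    apply Subtype.ext
    apply Subtype.ext
    change (((g : ↥C) : SLn n F).1) ^ (2 ^ 2) = 1
    set M : Matrix (Fin n) (Fin n) F := ((g : ↥C) : SLn n F).1 - 1 with hM
    have hMdef : ((g : ↥C) : SLn n F).1 = 1 + M := by rw [hM]; abel
    have hMs : ∀ a b, M a b ≠ 0 → (a = i ∧ b ≠ i ∨ b = j ∧ a ≠ j) := by
      intro a b hab
      rw [hM, Matrix.sub_apply, one_apply] at hab
      by_cases ha : a = j
      · subst ha
        by_cases hb : b = a
        · subst hb
          rw [if_pos rfl, (hsh (g : ↥C)).2.2.2, sub_self] at hab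
          exact absurd rfl hab
        · rw [if_neg (Ne.symm hb), (hsh (g : ↥C)).2.1 b hb, sub_zero] at hab
          exact absurd rfl hab
      by_cases hb : b = i
      · subst hb
        by_cases ha' : a = b
        · subst ha'
          rw [if_pos rfl, (hsh (g : ↥C)).2.2.1, sub_self] at hab
          exact absurd rfl hab
        · rw [if_neg ha', (hsh (g : ↥C)).1 a ha', sub_zero] at hab
          exact absurd rfl hab
      by_cases hai : a = i
      · exact Or.inl ⟨hai, hb⟩
      by_cases hbj : b = j
      · exact Or.inr ⟨hbj, ha⟩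
      rw [hker (g : ↥C) g.2 a b hai ha hb hbj, sub_self] at hab
      exact absurd rfl hab
    have hM2 : ∀ a b, (M * M) a b ≠ 0 → a = i ∧ b = j := by
      intro a b hab
      rw [mul_apply] at hab
      obtain ⟨m, -, hm⟩ := Finset.exists_ne_zero_of_sum_ne_zero hab
      rcases hMs a m (left_ne_zero_of_mul hm) with h | h <;>
        rcases hMs m b (right_ne_zero_of_mul hm) with h' | h'
      · exact absurd h'.1 h.2
      · exact ⟨h.1, h'.1⟩
      · exact absurd (h.1.symm.trans h'.1) hij.symm
      · exact absurd h.1 h'.2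
    have hM4 : M * M * (M * M) = 0 := by
      ext a b
      rw [Matrix.zero_apply, mul_apply]
      refine Finset.sum_eq_zero fun m _ => ?_
      by_contra h
      exact hij ((hM2 m b (right_ne_zero_of_mul h)).1.symm.trans (hM2 a m (left_ne_zero_of_mul h)).2)
    have h2 : ∀ N : Matrix (Fin n) (Fin n) F, N + N = 0 := fun N => by
      ext a b; exact double_eq_zero hF _
    have e2 : (1 + M) * (1 + M) = 1 + M * M := by
      rw [mul_add, add_mul, one_mul, mul_one, add_mul, one_mul]
      calc 1 + M + (M + M * M) = 1 + (M + M) + M * M := by abel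
        _ = 1 + M * M := by rw [h2, add_zero]
    have e4 : (1 + M * M) * (1 + M * M) = 1 := by
      rw [mul_add, add_mul, one_mul, mul_one, add_mul, one_mul, hM4, add_zero, add_assoc, h2,
        add_zero]
    rw [hMdef, show (2 : ℕ) ^ 2 = 2 + 2 by norm_num, pow_add, pow_two, e2, e4]
  have hle : f.ker ≤ Cfsg.pCore 2 ↥C := Cfsg.Agent.Components.le_pCore (MonoidHom.normal_ker f) hp
  refine le_trans (le_trans (Subgroup.centralizer_le hle) ?_) hle
  intro g hg
  rw [MonoidHom.mem_ker]
  ext a b
  obtain ⟨⟨k, hki, hkj⟩, hk⟩ : ∃ x : S, x = b := ⟨b, rfl⟩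
  subst hk
  have hu : (transvection k j (1 : F)).det = 1 := det_transvection_of_ne _ _ hkj 1
  let u : SLn n F := ⟨transvection k j 1, hu⟩
  have hne : single i j (1 : F) * single k j 1 = single k j (1 : F) * single i j 1 := by
    rw [single_mul_single_of_ne _ _ _ _ hkj.symm, single_mul_single_of_ne _ _ _ _ hij.symm]
  have huC : u ∈ C := by
    rw [hC, mem_cent_iff, ht]
    change transvection k j 1 * transvection i j 1 = transvection i j 1 * transvection k j 1
    simp only [transvection, mul_add, add_mul, mul_one, one_mul, hne]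
    abel
  have huker : (⟨u, huC⟩ : ↥C) ∈ f.ker := by
    rw [MonoidHom.mem_ker]
    ext x y
    change transvection k j (1 : F) x.1 y.1 = _
    rw [transvection, Matrix.add_apply, single_apply_of_ne _ _ _ _ _ (fun h => y.2.2 h.2.symm),
      add_zero]
    simp only [one_apply, Subtype.val_inj]
  have hc := congrArg (fun z : ↥C => (z : SLn n F).1) (mem_centralizer_iff.mp hg _ huker)
  change transvection k j (1 : F) * (g : SLn n F).1 = (g : SLn n F).1 * transvection k j (1 : F) at hc
  simp only [transvection, add_mul, mul_add, one_mul, mul_one, add_right_inj] at hc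
  have h1 := congrFun (congrFun hc a.1) j
  rw [mul_single_apply_same, mul_one] at h1
  change (g : SLn n F).1 a.1 k = _
  rw [← h1]
  by_cases hak : a.1 = k
  · rw [hak, single_mul_apply_same, one_mul, (hsh g).2.2.2, one_apply, if_pos (Subtype.ext hak)]
  · rw [single_mul_apply_of_ne _ _ _ _ _ hak, one_apply, if_neg (fun h => hak (congrArg Subtype.val h))]

/-- Let F be a field with 2 elements, n ≥ 3, and t ∈ SL(n, F) a transvection (t = 1 + E_{ij}, i ≠ j). Then the generalized Fitting subgroup of C(t) is O_2(C(t)). -/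
theorem result {F : Type*} [Field F] [Fintype F] [DecidableEq F] (hF : Fintype.card F = 2) (n : ℕ) (hn : 3 ≤ n) (i j : Fin n) (hij : i ≠ j) (t : Matrix.SpecialLinearGroup (Fin n) F) (ht : (t : Matrix (Fin n) (Fin n) F) = Matrix.transvection i j 1) : Cfsg.generalizedFittingSubgroup ↥(Subgroup.centralizer ({t} : Set (Matrix.SpecialLinearGroup (Fin n) F))) = Cfsg.pCore 2 ↥(Subgroup.centralizer ({t} : Set (Matrix.SpecialLinearGroup (Fin n) F))) := by
  exact Cfsg.Agent.Components.fStar_eq_pCore_iff.mpr (main hF hij t ht)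

end Cfsg.Agent.S1339
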