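import Cfsg.Statements.S1340
import Cfsg.Agent.Lib.Components.Quasisimple
import Cfsg.Agent.Lib.Components.PPrimeCore
import Cfsg.Agent.Lib.Components.Subnormal
import Cfsg.Agent.Lib.LinearGroups.PSL

set_option autoImplicit false
open Cfsg

namespace Cfsg.Agent.S1340

open Subgroup Matrix

variable {F : Type*} [Field F] [Fintype F] [DecidableEq F]

theorem neg_one_ne_one (hF : Odd (Fintype.card F)) : (-1 : F) ≠ 1 := by
  refine Ring.neg_one_ne_one_of_char_ne_two fun h => ?_
  haveI := ringChar.charP F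
  obtain ⟨k, hp, hk⟩ := FiniteField.card F (ringChar F)
  rw [hk, h, Nat.odd_pow_iff k.ne_zero] at hF
  exact absurd hF (by decide)

theorem qs_SL {m : ℕ} (hm : 2 ≤ m) (hq : m = 2 → 4 ≤ Nat.card F) :
    Cfsg.IsQuasisimple (Matrix.SpecialLinearGroup (Fin m) F) := by
  refine ⟨⟨?_⟩, LinGrp.isSimpleGroup_PSL_fin m hm hq⟩
  rcases Nat.lt_or_ge m 3 with h | h
  · obtain rfl : m = 2 := by omega
    obtain ⟨x, hx⟩ : IsCyclic Fˣ := by infer_instance
    refine SL2.commutator_eq_top (a := (x : F)) (Units.ne_zero x) fun h2 => ?_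
    have h3 := hq rfl
    have h4 : orderOf x ≤ 2 := orderOf_le_of_pow_eq_one two_pos (Units.ext (by simpa using h2))
    rw [orderOf_eq_card_of_forall_mem_zpowers hx, Nat.card_units] at h4
    omega
  · exact LinGrp.commutator_SL_eq_top (by simpa using h)

theorem key {G : Type*} [Group G] [Finite G] {C K : Subgroup G} (hKC : K ≤ C)
    (hn : ∀ g ∈ C, ∀ k ∈ K, g * k * g⁻¹ ∈ K) (hK : Cfsg.IsQuasisimple K)
    (h2 : 2 ∣ Nat.card K) : Cfsg.HasComponent (↥C ⧸ Cfsg.oddCore ↥C) := by
  haveI hN : (K.subgroupOf C).Normal :=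
    ⟨fun k hk g => hn g g.2 _ hk⟩
  set π := QuotientGroup.mk' (Cfsg.oddCore ↥C) with hπ
  refine ⟨(K.subgroupOf C).map π, ?_, ?_⟩
  · haveI := hN.map π (QuotientGroup.mk'_surjective _)
    exact Components.isSubnormal_of_normal _
  · have hq : Cfsg.IsQuasisimple ↥(K.subgroupOf C) :=
      Components.qs_of_equiv hK (subgroupOfEquivOfLe hKC).symm
    haveI : Nontrivial ↥((K.subgroupOf C).map π) := by
      rw [nontrivial_iff_ne_bot, Ne, Subgroup.map_eq_bot_iff, QuotientGroup.ker_mk']
      intro hle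
      have h3 := (Nat.card_congr (subgroupOfEquivOfLe hKC).toEquiv).symm.dvd.trans (card_dvd_of_le hle)
      exact Nat.Prime.not_coprime_iff_dvd.mpr ⟨2, Nat.prime_two, h2.trans h3, dvd_rfl⟩
        Components.pPrimeCore_coprime
    exact Components.qs_of_surjective hq (π.subgroupMap _) (π.subgroupMap_surjective _)

theorem main (hF : Odd (Fintype.card F)) {m n : ℕ} (hm : 2 ≤ m) (e : Fin 1 ⊕ Fin m ≃ Fin n)
    (hq : m = 2 → 4 ≤ Nat.card F) :
    ∃ t : GL (Fin n) F, orderOf t = 2 ∧ t ∉ Subgroup.center (GL (Fin n) F) ∧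
      Cfsg.HasComponent (↥(centralizer ({t} : Set (GL (Fin n) F))) ⧸
        Cfsg.oddCore ↥(centralizer ({t} : Set (GL (Fin n) F)))) := by
  let E : GL (Fin 1 ⊕ Fin m) F ≃* GL (Fin n) F :=
    Units.mapEquiv (Matrix.reindexAlgEquiv F F e).toMulEquiv
  let φ : Matrix.SpecialLinearGroup (Fin m) F →* GL (Fin 1 ⊕ Fin m) F :=
    MonoidHom.toHomUnits
      { toFun := fun A => fromBlocks 1 0 0 A.1
        map_one' := fromBlocks_one
        map_mul' := fun A B => by
          rw [fromBlocks_multiply]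
          simp }
  let T : Matrix (Fin 1 ⊕ Fin m) (Fin 1 ⊕ Fin m) F := fromBlocks (-1) 0 0 1
  have hT : T * T = 1 := by
    simp only [T, fromBlocks_multiply]
    simp [fromBlocks_one]
  let t0 : GL (Fin 1 ⊕ Fin m) F := ⟨T, T, hT, hT⟩
  have hne1 := neg_one_ne_one hF
  have hblock : ∀ g : GL (Fin 1 ⊕ Fin m) F, g * t0 = t0 * g →
      (g.1).toBlocks₁₂ = 0 ∧ (g.1).toBlocks₂₁ = 0 := by
    intro g hg
    have h : g.1 * T = T * g.1 := congrArg Units.val hg
    have h2 : ∀ x : F, x = -x → x = 0 := fun x hx => by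
      by_contra h
      exact hne1 (mul_right_cancel₀ h (by rw [neg_one_mul, one_mul, ← hx]))
    rw [← fromBlocks_toBlocks g.1, fromBlocks_multiply, fromBlocks_multiply, fromBlocks_inj] at h
    obtain ⟨-, h12, h21, -⟩ := h
    constructor
    · ext a b
      have := congrFun (congrFun h12 a) b
      simp [Matrix.neg_mul] at this
      exact h2 _ this
    · ext a b
      have := congrFun (congrFun h21 a) b
      simp [Matrix.mul_neg] at this
      exact h2 _ this.symm
  have hφinj : Function.Injective (E.toMonoidHom.comp φ) := E.injective.comp fun A B h => by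
    have h' : fromBlocks (1 : Matrix (Fin 1) (Fin 1) F) 0 0 A.1 = fromBlocks 1 0 0 B.1 :=
      congrArg Units.val h
    exact Subtype.ext (fromBlocks_inj.mp h').2.2.2
  haveI : Finite (GL (Fin n) F) := Finite.of_injective Units.val (fun _ _ h => Units.ext h)
  have hcomm : ∀ A, φ A * t0 = t0 * φ A := fun A => Units.ext (by
    change fromBlocks 1 0 0 A.1 * T = T * fromBlocks 1 0 0 A.1
    simp only [T, fromBlocks_multiply]
    simp)
  refine ⟨E t0, ?_, ?_, key (K := (E.toMonoidHom.comp φ).range) ?_ ?_ ?_ ?_⟩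
  · rw [MulEquiv.orderOf_eq, orderOf_eq_prime (p := 2)]
    · exact Units.ext (by rw [Units.val_pow_eq_pow_val, pow_two]; exact hT)
    · intro h
      have hv : T = (1 : Matrix (Fin 1 ⊕ Fin m) (Fin 1 ⊕ Fin m) F) := congrArg Units.val h
      have : T (Sum.inl 0) (Sum.inl 0) =
          (1 : Matrix (Fin 1 ⊕ Fin m) (Fin 1 ⊕ Fin m) F) (Sum.inl 0) (Sum.inl 0) := by rw [hv]
      simp [T] at this
      exact hne1 this
  · intro hc
    have hcen : ∀ g, g * t0 = t0 * g := fun g => E.injective (by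
      rw [map_mul, map_mul]
      exact mem_center_iff.mp hc (E g))
    let j : Fin m := ⟨0, by omega⟩
    have hd : (transvection (Sum.inl (0 : Fin 1)) (Sum.inr j) (1 : F)).det = 1 :=
      det_transvection_of_ne _ _ (by simp) 1
    have hu : IsUnit (transvection (Sum.inl (0 : Fin 1)) (Sum.inr j) (1 : F)) :=
      (Matrix.isUnit_iff_isUnit_det _).mpr (by rw [hd]; exact isUnit_one)
    have := congrFun (congrFun (hblock hu.unit (hcen _)).1 0) j
    simp [toBlocks₁₂, transvection] at this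
  · rintro _ ⟨A, rfl⟩
    rw [mem_centralizer_singleton_iff]
    change E (φ A) * E t0 = E t0 * E (φ A)
    rw [← map_mul, ← map_mul, hcomm]
  · rintro g hg _ ⟨A, rfl⟩
    obtain ⟨g0, rfl⟩ := E.surjective g
    rw [mem_centralizer_singleton_iff, ← map_mul, ← map_mul] at hg
    obtain ⟨h12, h21⟩ := hblock g0 (E.injective hg)
    set D := g0.1.toBlocks₂₂ with hD
    have hg0 : g0.1 = fromBlocks g0.1.toBlocks₁₁ 0 0 D := by
      conv_lhs => rw [← fromBlocks_toBlocks g0.1, h12, h21]
    have hDu : IsUnit D.det := by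
      have h := (Matrix.isUnit_iff_isUnit_det g0.1).mp g0.isUnit
      rw [hg0, det_fromBlocks_zero₂₁, IsUnit.mul_iff] at h
      exact h.2
    let A' : Matrix.SpecialLinearGroup (Fin m) F := ⟨D * A.1 * D⁻¹, by
      rw [det_mul, det_mul, A.2, mul_one, det_nonsing_inv, Ring.mul_inverse_cancel _ hDu]⟩
    refine ⟨A', ?_⟩
    change E (φ A') = E g0 * E (φ A) * (E g0)⁻¹
    rw [← map_inv, ← map_mul, ← map_mul]
    congr 1
    rw [eq_mul_inv_iff_mul_eq]
    refine Units.ext ?_
    change fromBlocks 1 0 0 (D * A.1 * D⁻¹) * g0.1 = g0.1 * fromBlocks 1 0 0 A.1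
    rw [hg0, fromBlocks_multiply, fromBlocks_multiply]
    simp [Matrix.mul_assoc, nonsing_inv_mul _ hDu]
  · exact Components.qs_of_equiv (qs_SL hm hq) (MonoidHom.ofInjective hφinj)
  · rw [← Nat.card_congr (MonoidHom.ofInjective hφinj).toEquiv]
    have h01 : (⟨0, by omega⟩ : Fin m) ≠ ⟨1, by omega⟩ := by simp
    let u := Matrix.SpecialLinearGroup.diag2n h01 (-1 : F) (by simp)
    have hu : orderOf u = 2 := by
      refine orderOf_eq_prime (p := 2) ?_ ?_
      · refine Subtype.ext ?_
        rw [pow_two]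
        change u.1 * u.1 = 1
        rw [Matrix.SpecialLinearGroup.diag2n_coe, diagonal_mul_diagonal, ← diagonal_one]
        congr 1
        ext k
        split_ifs <;> simp
      · intro h
        have := congrFun (congrFun (congrArg Subtype.val h) ⟨0, by omega⟩) ⟨0, by omega⟩
        simp [u, Matrix.SpecialLinearGroup.diag2n_coe] at this
        exact hne1 this
    exact hu ▸ orderOf_dvd_natCard u

/-- Let F be a finite field of odd order and n ≥ 3 with (n, |F|) ≠ (3, 3). Then GL(n, F) has a non-central involution t such that C(t) / O(C(t)) has a component. -/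
theorem result {F : Type*} [Field F] [Fintype F] [DecidableEq F] (hF : Odd (Fintype.card F)) (n : ℕ) (hn : 3 ≤ n) (h33 : ¬ (n = 3 ∧ Fintype.card F = 3)) : ∃ t : Matrix.GeneralLinearGroup (Fin n) F, orderOf t = 2 ∧ t ∉ Subgroup.center (Matrix.GeneralLinearGroup (Fin n) F) ∧ Cfsg.HasComponent (↥(Subgroup.centralizer ({t} : Set (Matrix.GeneralLinearGroup (Fin n) F))) ⧸ Cfsg.oddCore ↥(Subgroup.centralizer ({t} : Set (Matrix.GeneralLinearGroup (Fin n) F)))) := by
  refine main hF (m := n - 1) (by omega) (finSumFinEquiv.trans (finCongr (by omega))) fun h => ?_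
  rw [Nat.card_eq_fintype_card]
  obtain ⟨k, hk⟩ := hF
  have h1 : 2 ≤ Fintype.card F := Fintype.one_lt_card
  have h3 : n = 3 := by omega
  have := fun hc => h33 ⟨h3, hc⟩
  omega

end Cfsg.Agent.S1340
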