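import Cfsg.Statements.S1344
import Cfsg.Agent.Lib.Components.PComponent
import Cfsg.Agent.Lib.LocalEvenA.Core

set_option autoImplicit false
open Cfsg

namespace Cfsg.Agent.S1344

open scoped commutatorElement
open Subgroup

/-- Let K be a 2-component of the finite group X. Then K ≤ L*_{2'}(X) and K is normal in L*_{2'}(X). -/
theorem result {X : Type*} [Group X] [Finite X] (K : Subgroup X) (hK : Cfsg.IsPComponent 2 K) : K ≤ Cfsg.extendedTwoLayer X ∧ (K.subgroupOf (Cfsg.extendedTwoLayer X)).Normal := by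
  haveI : Fact (Nat.Prime 2) := ⟨Nat.prime_two⟩
  have hKL : K ≤ Cfsg.extendedTwoLayer X :=
    (Components.pComponent_le_pLayer hK).trans (le_sup_left.trans le_sup_left)
  refine ⟨hKL, normal_subgroupOf_of_le_normalizer ?_⟩
  set M := Cfsg.pLayer 2 X ⊔ Cfsg.pPrimePCore 2 X
  refine sup_le (sup_le (Components.pLayer_le_normalizer hK) (Components.core_le_normalizer hK))
    (iSup_le fun T => le_trans (map_subtype_le _) fun x hx => ?_)
  set R := (T : Subgroup ↥M).map M.subtype with hR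
  apply Components.mem_normalizer_of_map_conj_eq
  by_contra hne
  set π := QuotientGroup.mk' (Cfsg.pPrimeCore 2 X)
  have hK' := Components.isPComponent_map_equiv (MulAut.conj x) hK
  obtain ⟨S, hS⟩ := (T.2.map M.subtype).exists_le_sylow
  have hSM : (S : Subgroup X) ⊓ M ≤ R := by
    intro y hy
    have h1 : IsPGroup 2 ↥(((S : Subgroup X) ⊓ M).subgroupOf M) :=
      (S.2.to_le inf_le_left).comap_of_injective M.subtype M.subtype_injective
    have h2 := T.3 h1 (fun t ht => mem_subgroupOf.mpr (mem_inf.mpr ⟨hS (mem_map_of_mem _ ht), t.2⟩))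
    have h3 : (⟨y, hy.2⟩ : ↥M) ∈ ((S : Subgroup X) ⊓ M).subgroupOf M := hy
    rw [h2] at h3
    exact ⟨_, h3, rfl⟩
  have hcent : ∀ y ∈ (S : Subgroup X) ⊓ K, π y ∈ centralizer (K.map π : Set (X ⧸ Cfsg.pPrimeCore 2 X)) := by
    intro y hy
    have hyR : y ∈ R := hSM ⟨hy.1, (Components.pComponent_le_pLayer hK).trans le_sup_left hy.2⟩
    have hyK' : y ∈ K.map (MulAut.conj x).toMonoidHom := by
      refine ⟨y, hy.2, ?_⟩
      have := mem_centralizer_iff.mp hx y hyR
      simp only [MulEquiv.coe_toMonoidHom, MulAut.conj_apply]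
      rw [← this, mul_inv_cancel_right]
    rcases Components.component_eq_or_commute hK'.2.1 hK.2.1 with h | h
    · exact absurd (Components.pComponent_inj hK' hK h) hne
    · exact commutator_eq_bot_iff_le_centralizer.mp h (mem_map_of_mem π hyK')
  obtain ⟨P, hP⟩ := LocalEvenA.exists_sylow_subgroupOf_subnormal S hK.1
  apply Components.isQuasisimple_not_le_centralizer hK.2.1.2
  have h1 := congrArg (Subgroup.map π) (Components.pComponent_pGen hK)
  refine h1.symm.trans_le ?_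
  rw [Components.pGen, MonoidHom.map_closure, closure_le]
  rintro _ ⟨y, ⟨hy, k, hk⟩, rfl⟩
  have hyp : IsPGroup 2 ↥(zpowers (⟨y, hy⟩ : ↥K)) := by
    rintro ⟨z, hz⟩
    obtain ⟨n, rfl⟩ := mem_zpowers_iff.mp hz
    refine ⟨k, Subtype.ext ?_⟩
    simp only [SubmonoidClass.coe_pow, OneMemClass.coe_one]
    rw [← zpow_natCast, ← zpow_mul, mul_comm, zpow_mul, zpow_natCast,
      show (⟨y, hy⟩ : ↥K) ^ 2 ^ k = 1 from Subtype.ext (by simpa using hk), one_zpow]
  obtain ⟨Q, hQ⟩ := hyp.exists_le_sylow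
  obtain ⟨g, hg⟩ := MulAction.exists_smul_eq ↥K Q P
  have h2 : g * ⟨y, hy⟩ * g⁻¹ ∈ (P : Subgroup ↥K) := by
    rw [← hg, Sylow.coe_subgroup_smul, Subgroup.mem_pointwise_smul_iff_inv_smul_mem]
    have := hQ (mem_zpowers (⟨y, hy⟩ : ↥K))
    simpa [mul_assoc] using this
  rw [hP] at h2
  have h3 : π ((g : X) * y * (g : X)⁻¹) ∈ centralizer (K.map π : Set (X ⧸ Cfsg.pPrimeCore 2 X)) :=
    hcent _ ⟨h2, (g * ⟨y, hy⟩ * g⁻¹).2⟩
  rw [map_mul, map_mul, map_inv] at h3
  have h4 := mem_centralizer_iff.mp h3 (π g) (mem_map_of_mem π g.2)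
  have h5 : π g * π y * (π g)⁻¹ = π y := by
    apply mul_left_cancel (a := π g)
    rw [h4]
    group
  rw [h5] at h3
  exact h3

end Cfsg.Agent.S1344
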