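import Cfsg.Statements.S1346
import Cfsg.Agent.Lib.Components.CoreBalance

set_option autoImplicit false
open Cfsg

namespace Cfsg.Agent.S1346

/-- Let G be a finite group all of whose 2-local subgroups have known non-abelian composition factors, and x, y commuting involutions. Then the extended 2-layer of L*_{2'}(C_G(x)) ∩ C_G(y) (as a group) is contained in L*_{2'}(C_G(y)). -/
theorem result {G : Type*} [Group G] [Finite G] (hK : ∀ T : Subgroup G, IsPGroup 2 ↥T → T ≠ ⊥ → Cfsg.IsCompositionKGroup ↥(Subgroup.normalizer (T : Set G))) (x y : G) (hx : orderOf x = 2) (hy : orderOf y = 2) (hxy : x * y = y * x) : (Cfsg.extendedTwoLayer ↥((Cfsg.extendedTwoLayer ↥(Subgroup.centralizer ({x} : Set G))).map (Subgroup.centralizer ({x} : Set G)).subtype ⊓ Subgroup.centralizer ({y} : Set G))).map ((Cfsg.extendedTwoLayer ↥(Subgroup.centralizer ({x} : Set G))).map (Subgroup.centralizer ({x} : Set G)).subtype ⊓ Subgroup.centralizer ({y} : Set G)).subtype ≤ (Cfsg.extendedTwoLayer ↥(Subgroup.centralizer ({y} : Set G))).map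 (Subgroup.centralizer ({y} : Set G)).subtype := by
  haveI : Fact (Nat.Prime 2) := ⟨Nat.prime_two⟩
  set Cx := Subgroup.centralizer ({x} : Set G) with hCx
  set Cy := Subgroup.centralizer ({y} : Set G) with hCy
  set L := (Cfsg.extendedTwoLayer ↥Cx).map Cx.subtype with hL
  set H := L ⊓ Cy with hH
  set Z := Cx ⊓ Cy with hZdef
  have hHZ : H ≤ Z := inf_le_inf_right Cy (Subgroup.map_subtype_le _)
  have hxy' : x ∈ Cy := Subgroup.mem_centralizer_singleton_iff.mpr hxy
  set x' : ↥Cy := ⟨x, hxy'⟩
  have hr : (Subgroup.inclusion (inf_le_right : Z ≤ Cy)).range =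
      Subgroup.centralizer ((Subgroup.zpowers x' : Subgroup ↥Cy) : Set ↥Cy) := by
    rw [Components.centralizer_zpowers_eq]
    ext g
    rw [Subgroup.inclusion_range, Subgroup.mem_subgroupOf, Subgroup.mem_centralizer_singleton_iff]
    constructor
    · intro hg
      exact Subtype.ext (Subgroup.mem_centralizer_singleton_iff.mp hg.1)
    · intro hg
      exact ⟨Subgroup.mem_centralizer_singleton_iff.mpr (congrArg Subtype.val hg), g.2⟩
  have hp : IsPGroup 2 ↥(Subgroup.zpowers x') := by
    refine IsPGroup.of_card (n := 1) ?_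
    rw [Nat.card_zpowers, ← Subgroup.orderOf_coe, show ((x' : ↥Cy) : G) = x from rfl, hx, pow_one]
  have hn : (Subgroup.inclusion hHZ).range.Normal := by
    rw [Subgroup.inclusion_range]
    haveI : (Cfsg.extendedTwoLayer ↥Cx).Normal := Cfsg.Agent.S1342.result
    refine Subgroup.normal_subgroupOf_of_le_normalizer fun g hg => ?_
    rw [← ConjFunctor.cj_eq_iff, hH, ConjFunctor.cj_inf,
      ConjFunctor.cj_eq_iff.mpr (Subgroup.le_normalizer hg.2)]
    congr 1
    rw [ConjFunctor.cj_eq_iff]
    exact Subgroup.le_normalizer_map Cx.subtype ⟨⟨g, hg.1⟩, Subgroup.le_normalizer_of_normal (Subgroup.mem_top _), rfl⟩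
  have h1 := Components.map_extendedTwoLayer_le_of_normal_range _ (Subgroup.inclusion_injective hHZ) hn
  have h2 := Components.map_extendedTwoLayer_centralizer_le _
    (Subgroup.inclusion_injective (inf_le_right : Z ≤ Cy)) hp hr
  have e : ((Cfsg.extendedTwoLayer ↥H).map (Subgroup.inclusion hHZ)).map
      (Subgroup.inclusion (inf_le_right : Z ≤ Cy)) ≤ Cfsg.extendedTwoLayer ↥Cy :=
    (Subgroup.map_mono h1).trans h2
  refine le_trans (le_of_eq ?_) (Subgroup.map_mono (f := Cy.subtype) e)
  rw [Subgroup.map_map, Subgroup.map_map]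
  rfl

end Cfsg.Agent.S1346
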