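import Cfsg.Statements.S1348
import Cfsg.Agent.S1340
import Cfsg.Agent.Lib.Components.Layer
import Cfsg.Agent.Lib.Components.CompAction
import Cfsg.Agent.Lib.OddLocal.UniqueF

set_option autoImplicit false
open Cfsg

namespace Cfsg.Agent.S1348

open Subgroup Matrix

theorem standard_of {G : Type*} [Group G] [Finite G] {K : Subgroup G} {t : G}
    (hK : Cfsg.IsQuasisimple K) (ht2 : orderOf t = 2) (htC : t ∈ centralizer (K : Set G))
    (hKC : K ≤ centralizer ({t} : Set G))
    (hCn : centralizer ({t} : Set G) ≤ normalizer (K : Set G))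
    (hCt : centralizer (K : Set G) ≤ centralizer ({t} : Set G))
    (hab : ∀ x ∈ centralizer (K : Set G), ∀ y ∈ centralizer (K : Set G), x * y = y * x)
    (huniq : ∀ x ∈ centralizer (K : Set G), orderOf x = 2 → x = t) :
    (Cfsg.layer ↥(centralizer ({t} : Set G))).map (centralizer ({t} : Set G)).subtype = K ∧
      Cfsg.IsStandardSubgroup K := by
  haveI : Fact (Nat.Prime 2) := ⟨Nat.prime_two⟩
  set Ct := centralizer ({t} : Set G) with hCtdef
  have hKne := Components.isQuasisimple_not_le_centralizer hK
  have hnn : normalizer (K : Set G) ≤ normalizer (centralizer (K : Set G) : Set G) :=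
    Cfsg.Agent.OddLocal.normalizer_le_normalizer_centralizer K
  have hfix : ∀ g, g * t * g⁻¹ ∈ centralizer (K : Set G) → g ∈ Ct := fun g hg => by
    have h := huniq _ hg (by rw [← MulAut.conj_apply, MulEquiv.orderOf_eq, ht2])
    rw [mem_centralizer_singleton_iff]
    exact mul_inv_eq_iff_eq_mul.mp h
  refine ⟨?_, hK, ⟨?_, ?_⟩, ?_, ?_⟩
  · haveI : (K.subgroupOf Ct).Normal := normal_subgroupOf_of_le_normalizer hCn
    have hKc : Cfsg.IsComponent (K.subgroupOf Ct) :=
      ⟨Components.isSubnormal_of_normal _, Components.qs_of_equiv hK (subgroupOfEquivOfLe hKC).symm⟩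
    have : Cfsg.layer ↥Ct = K.subgroupOf Ct := by
      refine le_antisymm (Components.layer_le_iff.mpr fun L hL => ?_) (Components.component_le_layer hKc)
      rcases Components.component_eq_or_commute hL hKc with h | h
      · exact h.le
      · exfalso
        refine Components.isQuasisimple_not_le_centralizer hL.2 fun l hl => ?_
        have hc : ∀ u ∈ L, (u : G) ∈ centralizer (K : Set G) := fun u hu =>
          mem_centralizer_iff.mpr fun k hk => congrArg Subtype.val
            (mem_centralizer_iff.mp (commutator_eq_bot_iff_le_centralizer.mp h hu) ⟨k, hKC hk⟩ hk)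
        exact mem_centralizer_iff.mpr fun m hm => Subtype.ext (hab _ (hc m hm) _ (hc l hl))
    rw [this, map_subgroupOf_eq_of_le hKC]
  · rw [even_iff_two_dvd, ← ht2, ← orderOf_mk t htC]
    exact orderOf_dvd_natCard _
  · intro g hg
    by_contra hodd
    rw [Nat.not_odd_iff_even, even_iff_two_dvd] at hodd
    obtain ⟨x, hx⟩ := exists_prime_orderOf_dvd_card' 2 hodd
    obtain ⟨y, hy, hyx⟩ := x.2.2
    have hxt : (x : G) = t := huniq _ x.2.1 (by rw [orderOf_coe, hx])
    have hyt : y = t := huniq _ hy (by
      rw [← MulEquiv.orderOf_eq (MulAut.conj g) y]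
      change orderOf ((MulAut.conj g).toMonoidHom y) = 2
      rw [hyx, orderOf_coe, hx])
    refine hg (hnn (hCn (hfix g ?_)))
    rw [hxt, hyt] at hyx
    change g * t * g⁻¹ = t at hyx
    rw [hyx]
    exact htC
  · intro g hne h
    have h1 : K.map (MulAut.conj g).toMonoidHom ≤ centralizer (K : Set G) := by
      rw [le_centralizer_iff]
      exact commutator_eq_bot_iff_le_centralizer.mp h
    refine hKne fun k hk => mem_centralizer_iff.mpr fun m hm => (MulAut.conj g).injective ?_
    rw [map_mul, map_mul]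
    exact hab _ (h1 ⟨m, hm, rfl⟩) _ (h1 ⟨k, hk, rfl⟩)
  · refine le_antisymm hnn fun g hg => hCn (hfix g ?_)
    exact (mem_normalizer_iff.mp hg t).mp htC

theorem main {F : Type*} [Field F] [Fintype F] [DecidableEq F] (hF : Odd (Fintype.card F))
    {m n : ℕ} (hm : 3 ≤ m) (heven : Even m) (e : Fin m ⊕ Fin 1 ≃ Fin n)
    (t : Matrix.SpecialLinearGroup (Fin n) F)
    (ht : t.1 = Matrix.reindex e e (fromBlocks (-1) 0 0 1)) :
    Cfsg.IsStandardSubgroup ((Cfsg.layer ↥(centralizer
      ({t} : Set (Matrix.SpecialLinearGroup (Fin n) F)))).map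
      (centralizer ({t} : Set (Matrix.SpecialLinearGroup (Fin n) F))).subtype) := by
  set R := Matrix.reindexAlgEquiv F F e with hR
  have hdet : ∀ M, (R M).det = M.det := fun M => det_reindex_self e M
  let T : Matrix (Fin m ⊕ Fin 1) (Fin m ⊕ Fin 1) F := fromBlocks (-1) 0 0 1
  have htT : t.1 = R T := ht
  have hne1 := S1340.neg_one_ne_one hF
  let φ : Matrix.SpecialLinearGroup (Fin m) F →* Matrix.SpecialLinearGroup (Fin n) F :=
    { toFun := fun A => ⟨R (fromBlocks A.1 0 0 1), by
        rw [hdet, det_fromBlocks_zero₂₁, A.2, det_one, one_mul]⟩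
      map_one' := Subtype.ext (by
        change R (fromBlocks (1 : Matrix (Fin m) (Fin m) F) 0 0 1) = 1
        rw [fromBlocks_one, map_one])
      map_mul' := fun A B => Subtype.ext (by
        change R (fromBlocks (A.1 * B.1) 0 0 1) = R (fromBlocks A.1 0 0 1) * R (fromBlocks B.1 0 0 1)
        rw [← map_mul, fromBlocks_multiply]
        simp) }
  have hφinj : Function.Injective φ := fun A B h =>
    Subtype.ext (fromBlocks_inj.mp (R.injective (congrArg Subtype.val h))).1
  have hblock : ∀ g ∈ centralizer ({t} : Set (Matrix.SpecialLinearGroup (Fin n) F)),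
      ∃ D Q, g.1 = R (fromBlocks D 0 0 Q) := by
    intro g hg
    obtain ⟨M, hM⟩ := R.surjective g.1
    have h : M * T = T * M := R.injective (by
      rw [map_mul, map_mul, hM, ← htT]
      have hg' : g * t = t * g := mem_centralizer_singleton_iff.mp hg
      exact congrArg Subtype.val hg')
    have h2 : ∀ x : F, x = -x → x = 0 := fun x hx => by
      by_contra hh
      exact hne1 (mul_right_cancel₀ hh (by rw [neg_one_mul, one_mul, ← hx]))
    rw [← fromBlocks_toBlocks M] at h
    simp only [T, fromBlocks_multiply, fromBlocks_inj] at h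
    obtain ⟨-, h12, h21, -⟩ := h
    refine ⟨M.toBlocks₁₁, M.toBlocks₂₂, ?_⟩
    rw [← hM]
    congr 1
    conv_lhs => rw [← fromBlocks_toBlocks M]
    congr 1
    · ext a b
      have := congrFun (congrFun h12 a) b
      simp [Matrix.mul_neg, Matrix.neg_mul] at this
      exact h2 _ this
    · ext a b
      have := congrFun (congrFun h21 a) b
      simp [Matrix.mul_neg, Matrix.neg_mul] at this
      exact h2 _ this.symm
  have hdetm : (-1 : Matrix (Fin m) (Fin m) F).det = 1 := by
    rw [det_neg, det_one, mul_one, Fintype.card_fin, heven.neg_one_pow]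
  let u : Matrix.SpecialLinearGroup (Fin m) F := ⟨-1, hdetm⟩
  have htK : t = φ u := Subtype.ext htT
  have ht2 : orderOf t = 2 := by
    rw [htK, orderOf_injective φ hφinj]
    refine orderOf_eq_prime (p := 2) (Subtype.ext ?_) fun h => ?_
    · rw [pow_two]
      change (-1 : Matrix (Fin m) (Fin m) F) * -1 = 1
      rw [neg_mul_neg, one_mul]
    · have := congrFun (congrFun (congrArg Subtype.val h) ⟨0, by omega⟩) ⟨0, by omega⟩
      simp at this
      exact hne1 this
  have hKC : φ.range ≤ centralizer ({t} : Set (Matrix.SpecialLinearGroup (Fin n) F)) := by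
    rintro _ ⟨A, rfl⟩
    rw [mem_centralizer_singleton_iff, htK, ← map_mul, ← map_mul]
    congr 1
    refine Subtype.ext ?_
    change A.1 * -1 = -1 * A.1
    rw [mul_neg, neg_mul, mul_one, one_mul]
  have hCt : centralizer (φ.range : Set (Matrix.SpecialLinearGroup (Fin n) F)) ≤
      centralizer ({t} : Set (Matrix.SpecialLinearGroup (Fin n) F)) :=
    centralizer_le (Set.singleton_subset_iff.mpr ⟨_, htK.symm⟩)
  have hCform : ∀ g ∈ centralizer (φ.range : Set (Matrix.SpecialLinearGroup (Fin n) F)),
      ∃ a q : F, a ^ m * q = 1 ∧ g.1 = R (fromBlocks (Matrix.scalar (Fin m) a) 0 0 (Matrix.scalar (Fin 1) q)) := by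
    intro g hg
    obtain ⟨D, Q, hDQ⟩ := hblock g (hCt hg)
    obtain ⟨a, rfl⟩ : D ∈ Set.range (Matrix.scalar (Fin m)) := by
      refine mem_range_scalar_of_commute_transvectionStruct fun s => ?_
      have h := congrArg Subtype.val
        (mem_centralizer_iff.mp hg (φ ⟨s.toMatrix, s.det⟩) ⟨_, rfl⟩)
      change R (fromBlocks s.toMatrix 0 0 1) * g.1 = g.1 * R (fromBlocks s.toMatrix 0 0 1) at h
      rw [hDQ, ← map_mul, ← map_mul] at h
      have h' := R.injective h
      simp only [fromBlocks_multiply, fromBlocks_inj, Matrix.mul_zero, Matrix.zero_mul, add_zero] at h'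
      exact h'.1
    obtain ⟨q, rfl⟩ : Q ∈ Set.range (Matrix.scalar (Fin 1)) := ⟨Q 0 0, by
      ext i j; fin_cases i; fin_cases j; simp⟩
    refine ⟨a, q, ?_, hDQ⟩
    have := g.2
    rw [hDQ, hdet, det_fromBlocks_zero₂₁] at this
    simpa using this
  obtain ⟨he, hstd⟩ := standard_of (K := φ.range) (t := t)
    (Components.qs_of_equiv (S1340.qs_SL (by omega) (fun h => by omega)) (MonoidHom.ofInjective hφinj))
    ht2
    (by
      refine mem_centralizer_iff.mpr ?_
      intro k hk
      exact mem_centralizer_singleton_iff.mp (hKC hk))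
    hKC
    (by
      intro g hg
      refine Components.mem_normalizer_of_conj_le ?_
      rintro _ ⟨_, ⟨A, rfl⟩, rfl⟩
      obtain ⟨D, Q, hDQ⟩ := hblock g hg
      have hd := g.2
      rw [hDQ, hdet, det_fromBlocks_zero₂₁] at hd
      have hDu : IsUnit D.det := IsUnit.of_mul_eq_one _ hd
      refine ⟨⟨D * A.1 * D⁻¹, by
        rw [det_mul, det_mul, A.2, mul_one, det_nonsing_inv, Ring.mul_inverse_cancel _ hDu]⟩, ?_⟩
      change _ = g * φ A * g⁻¹
      rw [eq_mul_inv_iff_mul_eq]
      refine Subtype.ext ?_
      change R (fromBlocks (D * A.1 * D⁻¹) 0 0 1) * g.1 = g.1 * R (fromBlocks A.1 0 0 1)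
      rw [hDQ, ← map_mul, ← map_mul, fromBlocks_multiply, fromBlocks_multiply]
      simp [Matrix.mul_assoc, nonsing_inv_mul _ hDu])
    hCt
    (by
      intro x hx y hy
      obtain ⟨a, q, -, hx'⟩ := hCform x hx
      obtain ⟨b, r, -, hy'⟩ := hCform y hy
      refine Subtype.ext ?_
      change x.1 * y.1 = y.1 * x.1
      rw [hx', hy', ← map_mul, ← map_mul, fromBlocks_multiply, fromBlocks_multiply]
      simp only [Matrix.mul_zero, Matrix.zero_mul, add_zero, zero_add, ← map_mul, mul_comm a b, mul_comm q r])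
    (by
      intro x hx hx2
      obtain ⟨a, q, haq, hx'⟩ := hCform x hx
      have h1 : x * x = 1 := by rw [← pow_two, ← hx2, pow_orderOf_eq_one]
      have h2 := congrArg Subtype.val h1
      change x.1 * x.1 = 1 at h2
      rw [hx', ← map_mul, ← map_one R, fromBlocks_multiply, ← fromBlocks_one] at h2
      obtain ⟨h3, -, -, -⟩ := fromBlocks_inj.mp (R.injective h2)
      have ha : a * a = 1 := by
        have := congrFun (congrFun h3 ⟨0, by omega⟩) ⟨0, by omega⟩
        simpa using this
      have ham : a ^ m = 1 := by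
        obtain ⟨k, rfl⟩ := heven
        rw [← two_mul, pow_mul, pow_two, ha, one_pow]
      rw [ham, one_mul] at haq
      subst haq
      rcases mul_self_eq_one_iff.mp ha with rfl | rfl
      · exfalso
        have : x = 1 := Subtype.ext (by
          rw [hx', map_one, map_one, fromBlocks_one, map_one]; rfl)
        rw [this, orderOf_one] at hx2
        exact absurd hx2 (by norm_num)
      · refine Subtype.ext ?_
        rw [hx', htT, map_neg, map_one, map_one])
  rw [he]
  exact hstd

/-- Let F be a finite field of odd order, n ≥ 7 odd, and t ∈ SL(n, F) the diagonal matrix with entries −1, …, −1, 1. Then E(C(t)) is a standard subgroup of SL(n, F). -/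
theorem result {F : Type*} [Field F] [Fintype F] [DecidableEq F] (hF : Odd (Fintype.card F)) (n : ℕ) (hn : 7 ≤ n) (hodd : Odd n) (t : Matrix.SpecialLinearGroup (Fin n) F) (ht : (t : Matrix (Fin n) (Fin n) F) = Matrix.diagonal (fun i : Fin n => if (i : ℕ) + 1 = n then (1 : F) else -1)) : Cfsg.IsStandardSubgroup ((Cfsg.layer ↥(Subgroup.centralizer ({t} : Set (Matrix.SpecialLinearGroup (Fin n) F)))).map (Subgroup.centralizer ({t} : Set (Matrix.SpecialLinearGroup (Fin n) F))).subtype) := by
  obtain ⟨m, rfl⟩ : ∃ m, n = m + 1 := ⟨n - 1, by omega⟩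
  refine main hF (m := m) (by omega) (by
    rcases Nat.even_or_odd m with h | h
    · exact h
    · exact absurd hodd (Nat.not_odd_iff_even.mpr h.add_one)) finSumFinEquiv t ?_
  rw [ht]
  ext i j
  induction i using Fin.addCases <;> induction j using Fin.addCases <;>
    simp only [Matrix.reindex_apply, Matrix.submatrix_apply, finSumFinEquiv_symm_apply_castAdd,
      finSumFinEquiv_symm_apply_natAdd, Matrix.fromBlocks_apply₁₁, Matrix.fromBlocks_apply₁₂,
      Matrix.fromBlocks_apply₂₁, Matrix.fromBlocks_apply₂₂, Matrix.diagonal_apply, Matrix.neg_apply,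
      Matrix.one_apply, Matrix.zero_apply, Fin.ext_iff, Fin.val_castAdd, Fin.val_natAdd] <;>
    split_ifs <;> first | rfl | omega | simp

end Cfsg.Agent.S1348
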