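import Cfsg.Statements.S1352
import Cfsg.Agent.Lib.OddLocal.SigmaDecomp

set_option autoImplicit false
set_option linter.style.haveILetI false
open Cfsg
open Cfsg.Agent.OddLocal
open Cfsg.Agent.Basics
open scoped commutatorElement Pointwise

namespace Cfsg.Agent.S1352

/-- Let G be a minimal simple group of odd order, M a maximal subgroup and K a cyclic Hall κ(M)-subgroup of M. Then there is a subgroup U of M, normalized by K, with U ∩ K M_σ = 1 and M = U K M_σ; moreover U M_σ is normal in M for any such U. -/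
theorem result {G : Type*} [Group G] [Finite G] (hG : Cfsg.IsMinSimpleOddOrder G)
    (M : Subgroup G) (hM : IsCoatom M) (K : Subgroup G)
    (hKc : IsCyclic K) (hK : Cfsg.IsPiHallOf (Cfsg.kappa M) K M) :
    (∃ U : Subgroup G, Cfsg.IsSigmaDecomposition M K U) ∧
      ∀ U : Subgroup G, Cfsg.IsSigmaDecomposition M K U → M ≤ Subgroup.normalizer ((U ⊔ Cfsg.sigmaCore M : Subgroup G) : Set G) := by
  rcases eq_or_ne K ⊥ with hK1 | hK1
  · refine ⟨?_, fun U hU => ?_⟩
    · obtain ⟨E, hE⟩ := exists_compl hG hM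
      exact ⟨E, hKc, hK, by rw [hK1, bot_sup_eq]; exact hE, by rw [hK1]; exact bot_le⟩
    · have h := hU.compl
      rw [hK1, bot_sup_eq] at h
      refine le_trans (le_of_eq (le_antisymm ?_ (sup_le h.1 (sigmaCore_le M)))) Subgroup.le_normalizer
      intro m hm
      obtain ⟨a, ha, b, hb, rfl⟩ := h.2.2.2 m hm
      exact mul_mem (Subgroup.mem_sup_left ha) (Subgroup.mem_sup_right hb)
  obtain ⟨U₀, -, -, hKU, -, hcompl, -, hN, -, -, hcmp⟩ := decomp_compare hG hM hK hK1
  exact ⟨⟨U₀, hKc, hK, hcompl, hKU⟩, fun U hU => by rw [sup_comm, hcmp U hU]; exact hN⟩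

end Cfsg.Agent.S1352
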