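import Cfsg.Statements.S1353
import Cfsg.Agent.Lib.OddLocal.SigmaDecomp

set_option autoImplicit false
set_option linter.style.haveILetI false
open Cfsg
open Cfsg.Agent.OddLocal
open Cfsg.Agent.Basics
open scoped commutatorElement Pointwise

namespace Cfsg.Agent.S1353

/-- Let G be a minimal simple group of odd order, M a maximal subgroup with standard factorisation M = K U M_σ. Then C_U(k) = 1 for every non-identity element k of K. -/
theorem result {G : Type*} [Group G] [Finite G] (hG : Cfsg.IsMinSimpleOddOrder G)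
    (M : Subgroup G) (hM : IsCoatom M) (K U : Subgroup G) (hKU : Cfsg.IsSigmaDecomposition M K U) :
    ∀ k ∈ K, k ≠ 1 → U ⊓ Subgroup.centralizer ({k} : Set G) = ⊥ := by
  intro k hk hk1
  obtain ⟨U₀, -, hreg, hKU₀, hU₀M, -, hdis, -, -, -, hcmp⟩ :=
    decomp_compare hG hM hKU.hall (fun e => hk1 (Subgroup.mem_bot.mp (e ▸ hk)))
  refine eq_bot_iff.mpr fun z hz => ?_
  have hzW : z ∈ Cfsg.sigmaCore M ⊔ U₀ := hcmp U hKU ▸ Subgroup.mem_sup_right hz.1
  obtain ⟨b, hb, u, hu, rfl⟩ := (Basics.mem_sup_of_le_normalizer (hU₀M.trans (le_normalizer_sigmaCore M))).mp hzW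
  have hcomm : k * (b * u) = (b * u) * k := (Subgroup.mem_centralizer_singleton_iff.mp hz.2).symm
  have hm : k * u * k⁻¹ * u⁻¹ ∈ U₀ ⊓ Cfsg.sigmaCore M := by
    refine Subgroup.mem_inf.mpr ⟨mul_mem ((Subgroup.mem_normalizer_iff.mp (hKU₀ hk) u).mp hu) (inv_mem hu), ?_⟩
    have e : k * u * k⁻¹ * u⁻¹ = (k * b * k⁻¹)⁻¹ * b := by
      calc k * u * k⁻¹ * u⁻¹ = (k * b * k⁻¹)⁻¹ * (k * (b * u) * k⁻¹) * u⁻¹ := by group
        _ = (k * b * k⁻¹)⁻¹ * b := by rw [hcomm]; group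
    rw [e]
    exact mul_mem (inv_mem ((Subgroup.mem_normalizer_iff.mp
      (le_normalizer_sigmaCore M (hKU.hall.1 hk)) b).mp hb)) hb
  rw [hdis, Subgroup.mem_bot, mul_inv_eq_one, mul_inv_eq_iff_eq_mul] at hm
  have hu1 : u ∈ U₀ ⊓ Subgroup.centralizer ({k} : Set G) :=
    Subgroup.mem_inf.mpr ⟨hu, Subgroup.mem_centralizer_singleton_iff.mpr hm.symm⟩
  rw [hreg k hk hk1, Subgroup.mem_bot] at hu1
  subst hu1
  rw [mul_one] at hz ⊢
  exact hKU.compl.2.2.1 ▸ Subgroup.mem_inf.mpr ⟨hz.1, Subgroup.mem_sup_right hb⟩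

end Cfsg.Agent.S1353
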