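import Cfsg.Statements.S1354
import Cfsg.Agent.Lib.OddLocal.KappaStructure

set_option autoImplicit false
set_option linter.style.haveILetI false
open Cfsg
open Cfsg.Agent.OddLocal
open Cfsg.Agent.Basics
open scoped commutatorElement Pointwise

namespace Cfsg.Agent.S1354

/-- Let G be a minimal simple group of odd order, M a maximal subgroup and K a cyclic Hall κ(M)-subgroup of M, and put K* = M_σ ∩ C_G(K). Then K* ≠ 1, and if K ≠ 1 then for every non-identity k ∈ K the centralizer C_M(k) is the subgroup generated by K and K* (an internal direct product, as K ∩ M_σ = 1 and K* centralizes K). -/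
theorem result {G : Type*} [Group G] [Finite G] (hG : Cfsg.IsMinSimpleOddOrder G)
    (M : Subgroup G) (hM : IsCoatom M) (K : Subgroup G)
    (hKc : IsCyclic K) (hK : Cfsg.IsPiHallOf (Cfsg.kappa M) K M) :
    Cfsg.sigmaCore M ⊓ Subgroup.centralizer (K : Set G) ≠ ⊥ ∧
      (K ≠ ⊥ → ∀ k ∈ K, k ≠ 1 →
        M ⊓ Subgroup.centralizer ({k} : Set G) = K ⊔ (Cfsg.sigmaCore M ⊓ Subgroup.centralizer (K : Set G))) := by
  rcases eq_or_ne K ⊥ with rfl | hK1
  · refine ⟨fun h => sigmaCore_ne_bot hG hM (le_bot_iff.mp (h ▸ le_inf le_rfl ?_)), fun h => absurd rfl h⟩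
    intro x _
    exact Subgroup.mem_centralizer_iff.mpr fun a ha => by rw [Subgroup.mem_bot.mp ha]; simp
  refine ⟨kappa_fixed_ne_bot hG hM hK hK1, fun _ k hk hk1 => ?_⟩
  obtain ⟨r, hr, hrd⟩ := Nat.exists_prime_and_dvd fun e => hk1 (orderOf_eq_one_iff.mp e)
  haveI := Fact.mk hr
  have hx : Nat.card (Subgroup.zpowers (k ^ (orderOf k / r))) = r := by
    rw [Nat.card_zpowers, orderOf_pow_orderOf_div (orderOf_pos k).ne' hrd]
  refine le_antisymm ?_ (sup_le (le_inf hK.1 ?_) (le_inf (inf_le_left.trans (sigmaCore_le M))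
    (inf_le_right.trans (Subgroup.centralizer_le (by simpa using hk)))))
  · refine le_trans ?_ (kappa_normalizer_line hG hM hK hK1 (Subgroup.zpowers_le.mpr (pow_mem hk _)) hx).1.le
    refine inf_le_inf_left _ (le_trans ?_ (Subgroup.centralizer_le_normalizer _))
    intro c hc
    rw [centralizer_eq_of_zpowers]
    exact Subgroup.mem_centralizer_singleton_iff.mpr
      ((show Commute c k from Subgroup.mem_centralizer_singleton_iff.mp hc).pow_right _).eq
  · haveI := hKc
    exact fun a ha => Subgroup.mem_centralizer_singleton_iff.mpr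
      (congrArg Subtype.val (mul_comm' (⟨a, ha⟩ : K) ⟨k, hk⟩))

end Cfsg.Agent.S1354
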