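import Cfsg.Statements.S1358
import Cfsg.Agent.Lib.OddLocal.Decomp

set_option autoImplicit false
set_option linter.style.haveILetI false
open Cfsg
open Cfsg.Agent.OddLocal
open Cfsg.Agent.Basics
open scoped commutatorElement Pointwise

namespace Cfsg.Agent.S1358

/-- Let G be a minimal simple group of odd order and M a maximal subgroup with standard factorisation M = K U M_σ. Then for every prime p, every Sylow p-subgroup of U is abelian and has no elementary abelian subgroup of order p ^ 3. -/
theorem result {G : Type*} [Group G] [Finite G] (hG : Cfsg.IsMinSimpleOddOrder G)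
    (M : Subgroup G) (hM : IsCoatom M) (K U : Subgroup G) (hKU : Cfsg.IsSigmaDecomposition M K U) :
    ∀ (p : ℕ), p.Prime → ∀ P : Sylow p U, IsMulCommutative (P : Subgroup U) ∧ Cfsg.PRankLE p 2 (P : Subgroup U) := by
  intro p hp P
  haveI := Fact.mk hp
  rcases P.2.card_eq_or_dvd with e | e
  · haveI : Subsingleton (P : Subgroup U) := (Nat.card_eq_one_iff_unique.mp e).1
    refine ⟨⟨⟨fun a b => Subsingleton.elim _ _⟩⟩, fun A _ _ => ?_⟩
    exact (Nat.le_of_dvd Nat.card_pos (Subgroup.card_subgroup_dvd_card A)).trans
      (e.le.trans (Nat.one_le_pow _ _ hp.pos))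
  have hps := (decomp_primes hG hM hKU hp (e.trans (Subgroup.card_subgroup_dvd_card _))).1
  have hle : (P : Subgroup U).map U.subtype ≤ M := (Subgroup.map_subtype_le _).trans hKU.compl.1
  set eqv := Subgroup.equivMapOfInjective (P : Subgroup U) U.subtype U.subtype_injective
  haveI := pGroup_commutative hG hM (P.2.map U.subtype) hle hps
  refine ⟨⟨⟨fun a b => eqv.injective (by rw [map_mul, map_mul]; exact IsMulCommutative.is_comm.comm _ _)⟩⟩, ?_⟩
  intro A hAc hAe
  rw [← Subgroup.card_map_of_injective (P : Subgroup U).subtype_injective,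
    ← Subgroup.card_map_of_injective U.subtype_injective]
  exact card_le_of_pRankLE (pRankLE_two_of_not_mem_sigma hG hM hps)
    (((Subgroup.map_subtype_le _).trans hKU.compl.1)) (ea_map (ea_map ⟨hAc, hAe⟩ _) _)

end Cfsg.Agent.S1358
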