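import Cfsg.Statements.S1359
import Cfsg.Agent.Lib.OddLocal.Decomp

set_option autoImplicit false
set_option linter.style.haveILetI false
open Cfsg
open Cfsg.Agent.OddLocal
open Cfsg.Agent.Basics
open scoped commutatorElement Pointwise

namespace Cfsg.Agent.S1359

/-- Let G be a minimal simple group of odd order and M a maximal subgroup with standard factorisation M = K U M_σ. Then the subgroup generated by those elements of U which centralize some non-identity element of M_σ is abelian. -/
theorem result {G : Type*} [Group G] [Finite G] (hG : Cfsg.IsMinSimpleOddOrder G)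
    (M : Subgroup G) (hM : IsCoatom M) (K U : Subgroup G) (hKU : Cfsg.IsSigmaDecomposition M K U) :
    IsMulCommutative (Subgroup.closure ((U : Set G) ∩ Cfsg.sigmaHat M)) := by
  obtain ⟨E, hE, hUE⟩ := decomp_compl hG hM hKU
  obtain ⟨A₀, -, -, hA₀, hmem⟩ := exists_tau2_core hG hM hE
  have hle : Subgroup.closure ((U : Set G) ∩ Cfsg.sigmaHat M) ≤ A₀ := (Subgroup.closure_le _).mpr fun u hu => by
    by_cases h1 : u = 1
    · exact h1 ▸ one_mem A₀
    · exact hmem u (hUE hu.1) h1 (decomp_tau2 hG hM hKU hu.1 hu.2) hu.2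
  exact ⟨⟨fun a b => Subtype.ext
    (by simpa using congrArg Subtype.val (hA₀.is_comm.comm ⟨a, hle a.2⟩ ⟨b, hle b.2⟩))⟩⟩

end Cfsg.Agent.S1359
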