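import Cfsg.Statements.S1360
import Cfsg.Agent.Lib.OddLocal.Decomp
import Cfsg.Agent.Lib.OddLocal.TauTwoFreeC

set_option autoImplicit false
set_option linter.style.haveILetI false
open Cfsg
open Cfsg.Agent.OddLocal
open Cfsg.Agent.Basics
open scoped commutatorElement Pointwise

namespace Cfsg.Agent.S1360

/-- Let G be a minimal simple group of odd order and M a maximal subgroup with standard factorisation M = K U M_σ. Then U contains a subgroup U₀ with the same exponent as U such that no non-identity element of U₀ centralizes a non-identity element of M_σ. -/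
theorem result {G : Type*} [Group G] [Finite G] (hG : Cfsg.IsMinSimpleOddOrder G)
    (M : Subgroup G) (hM : IsCoatom M) (K U : Subgroup G) (hKU : Cfsg.IsSigmaDecomposition M K U) :
    ∃ U₀ : Subgroup G, U₀ ≤ U ∧ Monoid.exponent U₀ = Monoid.exponent U ∧ ∀ u ∈ U₀, u ∈ Cfsg.sigmaHat M → u = 1 := by
  obtain ⟨E, hE, hUE⟩ := decomp_compl hG hM hKU
  suffices key : ∃ U₀ : Subgroup G, U₀ ≤ U ∧ Monoid.exponent U₀ = Monoid.exponent U ∧
      ∀ e ∈ U₀, e ≠ 1 → Cfsg.sigmaCore M ⊓ Subgroup.centralizer ({e} : Set G) = ⊥ by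
    obtain ⟨U₀, h1, h2, h3⟩ := key
    refine ⟨U₀, h1, h2, fun u hu hh => ?_⟩
    by_contra hu1
    obtain ⟨-, y, hy, hy1, huy⟩ := hh
    exact hy1 (Subgroup.mem_bot.mp (h3 u hu hu1 ▸ ⟨hy, Subgroup.mem_centralizer_singleton_iff.mpr huy.symm⟩))
  refine exists_free_subgroup hG hM hE hUE (fun r hr => ?_) fun x hx hp hτ => ?_
  · haveI := Fact.mk hr.1
    obtain ⟨R, hR⟩ := exists_sylowIn (q := r) U
    refine ⟨R, ⟨hR.1.trans hUE, hR.2.trans (congrArg (r ^ ·) ?_)⟩, hR.1⟩
    have hrk : r ∉ Cfsg.kappa M := fun hk => by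
      obtain ⟨P, hP⟩ := exists_sylowIn (q := r) M
      obtain ⟨P', hP'⟩ := hP.exists_sylow
      refine hr.2.2.2 (pRankLE_one_of_cyclic_sylow hP ?_)
      rw [← hP']
      exact (Subgroup.equivMapOfInjective (P' : Subgroup M) M.subtype M.subtype_injective).isCyclic.mp
        (hk.2.2.2 P').1
    have hM1 := card_of_isComplIn hKU.compl
    have hM2 := card_of_isComplIn hE
    have hK : ¬ r ∣ Nat.card (K ⊔ Cfsg.sigmaCore M : Subgroup G) := fun hd => by
      rcases hr.1.dvd_mul.mp (hd.trans (sup_comm K (Cfsg.sigmaCore M) ▸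
        card_sup_dvd (hKU.hall.1.trans (le_normalizer_sigmaCore M)))) with hd | hd
      · exact not_dvd_sigmaCore hr.1 hr.2.1 hd
      · exact hrk (hKU.hall.2.1 r hr.1 hd)
    have h4 := congrArg (fun k => k.factorization r) (hM1.symm.trans hM2)
    simpa [Nat.factorization_mul Nat.card_pos.ne' Nat.card_pos.ne', Nat.factorization_eq_zero_of_not_dvd hK,
      Nat.factorization_eq_zero_of_not_dvd (not_dvd_sigmaCore hr.1 hr.2.1)] using h4
  · by_contra hne
    obtain ⟨y, hy, hy1⟩ := (Subgroup.bot_or_exists_ne_one _).resolve_left hne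
    exact hτ (decomp_tau2 hG hM hKU hx ⟨hKU.compl.1 hx, y, hy.1, hy1,
      (Subgroup.mem_centralizer_singleton_iff.mp hy.2).symm⟩ _ hp dvd_rfl)

end Cfsg.Agent.S1360
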