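import Cfsg.Statements.S1361
import Cfsg.Agent.Lib.OddLocal.Decomp

set_option autoImplicit false
set_option linter.style.haveILetI false
open Cfsg
open Cfsg.Agent.OddLocal
open Cfsg.Agent.Basics
open scoped commutatorElement Pointwise

namespace Cfsg.Agent.S1361

/-- Let G be a minimal simple group of odd order and M a maximal subgroup with standard factorisation M = K U M_σ. If X is a nontrivial subgroup of U centralizing some non-identity element of M_σ, then C_G(X) ≤ M and M is the unique maximal subgroup of G containing C_G(X). -/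
theorem result {G : Type*} [Group G] [Finite G] (hG : Cfsg.IsMinSimpleOddOrder G)
    (M : Subgroup G) (hM : IsCoatom M) (K U : Subgroup G) (hKU : Cfsg.IsSigmaDecomposition M K U) (X : Subgroup G) (hXU : X ≤ U) (hX : X ≠ ⊥)
    (hXc : Cfsg.sigmaCore M ⊓ Subgroup.centralizer (X : Set G) ≠ ⊥) :
    Subgroup.centralizer (X : Set G) ≤ M ∧ ∀ L : Subgroup G, IsCoatom L → Subgroup.centralizer (X : Set G) ≤ L → L = M := by
  obtain ⟨E, hE, hUE⟩ := decomp_compl hG hM hKU
  obtain ⟨y, hy, hy1⟩ := (Subgroup.bot_or_exists_ne_one _).resolve_left hXc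
  have hhat : ∀ z ∈ X, z ∈ Cfsg.sigmaHat M := fun z hz =>
    ⟨hKU.compl.1 (hXU hz), y, hy.1, hy1, Subgroup.mem_centralizer_iff.mp hy.2 z hz⟩
  obtain ⟨x, hx, hx1⟩ := (Subgroup.bot_or_exists_ne_one _).resolve_left hX
  have hτ := decomp_tau2 hG hM hKU (hXU hx) (hhat x hx)
  obtain ⟨r, hr, hrd⟩ := Nat.exists_prime_and_dvd (fun e => hx1 (orderOf_eq_one_iff.mp e))
  haveI := Fact.mk hr
  have hle : Subgroup.centralizer (X : Set G) ≤ M :=
    (Subgroup.centralizer_le (Set.singleton_subset_iff.mpr hx)).trans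
      (tau2_element_unique hG hM hE (hKU.compl.1 (hXU hx)) hx1 hτ (hhat x hx)).1
  refine ⟨hle, fun L hL hLc => ?_⟩
  obtain ⟨A, hAE, -, -, A₁, h⟩ := exists_ea_in_compl hG hM hE (hτ r hr hrd)
  by_contra hne
  have hAX : A ≤ Subgroup.centralizer (X : Set G) := fun a ha => Subgroup.mem_centralizer_iff.mpr fun z hz =>
    (Subgroup.mem_centralizer_iff.mp
      (h.tau2_element_mem hG hE hAE (hUE (hXU hz)) (decomp_tau2 hG hM hKU (hXU hz) (hhat z hz))) a ha).symm
  have h0 := h.inf_maximal hG hL hne (hAX.trans hLc)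
  refine hy1 (Subgroup.mem_bot.mp (h0 ▸ ⟨hy.1, hLc hy.2⟩))

end Cfsg.Agent.S1361
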