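import Cfsg.Statements.S1362
import Cfsg.Agent.Lib.OddLocal.KappaA0

set_option autoImplicit false
set_option linter.style.haveILetI false
open Cfsg
open Cfsg.Agent.OddLocal
open Cfsg.Agent.Basics
open scoped commutatorElement Pointwise

namespace Cfsg.Agent.S1362

/-- Let G be a minimal simple group of odd order and M a maximal subgroup with standard factorisation M = K U M_σ, and let A(M) be the set of elements of U M_σ centralizing some non-identity element of M_σ. Then A(M) with M_σ removed is a TI-subset of G. -/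
theorem result {G : Type*} [Group G] [Finite G] (hG : Cfsg.IsMinSimpleOddOrder G)
    (M : Subgroup G) (hM : IsCoatom M) (K U : Subgroup G) (hKU : Cfsg.IsSigmaDecomposition M K U) :
    Cfsg.IsTISubset (Cfsg.sigmaA M U \ (Cfsg.sigmaCore M : Set G)) := by
  have key : ∀ a ∈ Cfsg.sigmaA M U \ (Cfsg.sigmaCore M : Set G), ∃ s k : G, a = s * k ∧ Commute s k ∧
      (∀ q : ℕ, q.Prime → q ∣ orderOf s → q ∈ Cfsg.sigma M) ∧
      (∀ q : ℕ, q.Prime → q ∣ orderOf k → q ∉ Cfsg.sigma M) ∧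
      Subgroup.centralizer ({k} : Set G) ≤ M ∧
      ∀ L : Subgroup G, IsCoatom L → Subgroup.centralizer ({k} : Set G) ≤ L → L = M := by
    rintro a ⟨⟨⟨haM, y, hy, hy1, hay⟩, haU⟩, haS⟩
    obtain ⟨s, k, ha, hsk, hsz, hkz, hsσ, hkσ⟩ := exists_split hG a (Cfsg.sigma M)
    have hk1 : k ≠ 1 := fun e => haS (by
      rw [ha, e, mul_one]
      exact sigma_le_core hG hM (Subgroup.zpowers_le.mpr (Subgroup.zpowers_le.mpr haM hsz))
        (fun q hq hd => hsσ q hq (by rwa [Nat.card_zpowers] at hd)) (Subgroup.mem_zpowers s))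
    have hky : Commute k y := by
      obtain ⟨n, hn⟩ := Subgroup.mem_zpowers_iff.mp hkz
      rw [← hn]
      exact Commute.zpow_left hay n
    rcases fixed_dichotomy hG hM hy hy1 (Subgroup.zpowers_le.mpr haM hkz) hky hk1 hkσ with ⟨h, -⟩ | ⟨-, h1, h2⟩
    · obtain ⟨q, hq, hd⟩ := Nat.exists_prime_and_dvd fun e => hk1 (orderOf_eq_one_iff.mp e)
      exact absurd (h q hq hd) (decomp_prime hG hM hKU (Subgroup.zpowers_le.mpr haU hkz) hq hd)
    · exact ⟨s, k, ha, hsk, hsσ, hkσ, h1, h2⟩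
  intro g hg a ha hga
  refine absurd ?_ hg
  obtain ⟨s, k, ea, hsk, hsσ, hkσ, hC, -⟩ := key a ha
  obtain ⟨s', k', ea', hsk', hsσ', hkσ', -, hu'⟩ := key _ hga
  have hsg : ∀ q : ℕ, q.Prime → q ∣ orderOf (g * s * g⁻¹) → q ∈ Cfsg.sigma M := fun q hq hd =>
    hsσ q hq (by rwa [orderOf_conj_elt] at hd)
  have hkg : ∀ q : ℕ, q.Prime → q ∣ orderOf (g * k * g⁻¹) → q ∉ Cfsg.sigma M := fun q hq hd =>
    hkσ q hq (by rwa [orderOf_conj_elt] at hd)
  have hc : Commute (g * s * g⁻¹) (g * k * g⁻¹) := by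
    have := hsk.map (MulAut.conj g).toMonoidHom
    simpa using this
  have e : g * s * g⁻¹ * (g * k * g⁻¹) = s' * k' := by rw [← ea', ea]; group
  have es : g * s * g⁻¹ = s' := part_unique e hc hsk' (coprime_of_sets hsg hkg) (coprime_of_sets hsσ' hkσ')
    (coprime_of_sets hsg hkσ') (coprime_of_sets hsσ' hkg)
  rw [es] at e
  have ek : g * k * g⁻¹ = k' := mul_left_cancel e
  have hgM : g ∈ M := mem_of_map_conj_eq hG hM (hu' _ (isCoatom_map_conj hM g) fun b hb => by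
    rw [mem_map_conj_iff]
    refine hC (Subgroup.mem_centralizer_singleton_iff.mpr ?_)
    rw [← ek] at hb
    have h := Subgroup.mem_centralizer_singleton_iff.mp hb
    calc g⁻¹ * b * g * k = g⁻¹ * (b * (g * k * g⁻¹)) * g := by group
      _ = g⁻¹ * (g * k * g⁻¹ * b) * g := by rw [h]
      _ = _ := by group)
  have hfwd : ∀ m ∈ M, ∀ b : G, b ∈ Cfsg.sigmaA M U \ (Cfsg.sigmaCore M : Set G) →
      m * b * m⁻¹ ∈ Cfsg.sigmaA M U \ (Cfsg.sigmaCore M : Set G) := by
    rintro m hm b ⟨⟨⟨hbM, y, hy, hy1, hby⟩, hbU⟩, hbS⟩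
    have hS := Subgroup.mem_normalizer_iff.mp (le_normalizer_sigmaCore M hm)
    refine ⟨⟨⟨mul_mem (mul_mem hm hbM) (inv_mem hm), m * y * m⁻¹, (hS y).mp hy,
      fun e => hy1 (conj_eq_one_iff.mp e), ?_⟩, ?_⟩, fun h => hbS ((hS b).mpr h)⟩
    · calc m * b * m⁻¹ * (m * y * m⁻¹) = m * (b * y) * m⁻¹ := by group
        _ = m * (y * b) * m⁻¹ := by rw [hby]
        _ = _ := by group
    · have hn := decomp_normal hG hM hKU hm
      rw [sup_comm] at hn
      exact (Subgroup.mem_normalizer_iff.mp hn b).mp hbU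
  rw [Subgroup.mem_set_normalizer_iff]
  intro y
  refine ⟨hfwd g hgM y, fun h => ?_⟩
  have h1 := hfwd g⁻¹ (inv_mem hgM) _ h
  rwa [show g⁻¹ * (g * y * g⁻¹) * g⁻¹⁻¹ = y by group] at h1

end Cfsg.Agent.S1362
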