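import Cfsg.Statements.S1435
import Cfsg.Agent.Lib.OddLocal.KappaSupport

set_option autoImplicit false
set_option linter.style.haveILetI false
open Cfsg
open Cfsg.Agent.OddLocal
open Cfsg.Agent.Basics
open scoped commutatorElement Pointwise

namespace Cfsg.Agent.S1435

/-- Let G be a minimal simple group of odd order, M a maximal subgroup with standard factorisation M = K U M_σ, K ≠ 1, U ≠ 1, K* = M_σ ∩ C_G(K), M* a maximal subgroup with K = M*_σ ∩ C_G(K*) and K* a Hall κ(M*)-subgroup of M*, r a prime dividing the order of U, R a Sylow r-subgroup of U, and H a maximal subgroup containing N_G(R). Then κ(H) is empty, U ≤ H_σ, M ∩ H = U ⊔ K, H ∩ N_G(U) ⊄ M, K ≤ F(H ∩ M*), and H ∩ M* is a complement to H_σ in H. -/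
theorem result {G : Type*} [Group G] [Finite G] (hG : Cfsg.IsMinSimpleOddOrder G)
    (M : Subgroup G) (hM : IsCoatom M) (K U : Subgroup G) (hKU : Cfsg.IsSigmaDecomposition M K U) (hK1 : K ≠ ⊥) (hU1 : U ≠ ⊥) (Mstar : Subgroup G) (hMstar : IsCoatom Mstar)
    (hKst : K = Cfsg.sigmaCore Mstar ⊓ Subgroup.centralizer ((Cfsg.sigmaCore M ⊓ Subgroup.centralizer (K : Set G)) : Set G))
    (hKstH : Cfsg.IsPiHallOf (Cfsg.kappa Mstar) (Cfsg.sigmaCore M ⊓ Subgroup.centralizer (K : Set G)) Mstar)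
    (r : ℕ) [Fact r.Prime] (hr : r ∣ Nat.card U) (R : Sylow r U) (H : Subgroup G) (hH : IsCoatom H)
    (hNR : Subgroup.normalizer (((R : Subgroup U).map U.subtype : Subgroup G) : Set G) ≤ H) :
    Cfsg.kappa H = ∅ ∧ U ≤ Cfsg.sigmaCore H ∧ M ⊓ H = U ⊔ K ∧ ¬ H ⊓ Subgroup.normalizer (U : Set G) ≤ M ∧
      K ≤ Cfsg.fittingOf (H ⊓ Mstar) ∧ Cfsg.IsComplIn (H ⊓ Mstar) (Cfsg.sigmaCore H) H := by
  have hd : DualPair M K Mstar := ⟨hM, hMstar, hKU.hall, hK1, hKstH, hKst⟩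
  set L := Mstar with hLdef
  set R₁ : Subgroup G := (R : Subgroup U).map U.subtype with hR₁
  obtain ⟨hUH, hKH, hout⟩ := sylow_normalizer_over hG hd hKU hr (Basics.isSylowIn_map R) hH hNR
  obtain ⟨hUab, -, hπ, hfree⟩ := decomp_free hG hM hKU hK1
  obtain ⟨hrσ, hrk⟩ := hπ r Fact.out hr
  have hrM : r ∣ Nat.card M := hr.trans (Subgroup.card_dvd_of_le hKU.compl.1)
  obtain ⟨hKp, -, -⟩ := compl_prime hG hM hKU.hall hK1 Fact.out hrM hrσ hrk
  haveI := Fact.mk hKp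
  obtain ⟨k₀, hk₀⟩ := exists_prime_orderOf_dvd_card' (Nat.card K) (dvd_refl _)
  rw [← Subgroup.orderOf_coe] at hk₀
  set k : G := (k₀ : G) with hk
  have ho := hout k k₀.2 _ hKp hk₀
  have hKk : K ≤ Subgroup.zpowers k := (Subgroup.eq_of_le_of_card_ge (Subgroup.zpowers_le.mpr k₀.2)
    (by rw [Nat.card_zpowers, hk₀])).ge
  have hKHσ : K ⊓ Cfsg.sigmaCore H = ⊥ := (Subgroup.disjoint_of_coprime_natCard
    (hKp.coprime_iff_not_dvd.mpr fun hd' => ho.notσ hG (piCoreOf_primes _ H hKp hd'))).eq_bot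
  have hUleH : U ≤ H := hUH.trans (sigmaCore_le H)
  have hMσH : Cfsg.sigmaCore M ⊓ H = ⊥ := by
    refine le_bot_iff.mp (hfree hU1 ▸ le_inf inf_le_left fun x hx => ?_)
    obtain ⟨hxM, hxH⟩ := Subgroup.mem_inf.mp hx
    refine Subgroup.mem_centralizer_iff.mpr fun u hu => commutatorElement_eq_one_iff_mul_comm.mp ?_
    refine Subgroup.disjoint_def.mp (Subgroup.disjoint_of_coprime_natCard (Nat.coprime_of_dvd fun q hq h1 h2 => ?_))
      (show ⁅u, x⁆ ∈ Cfsg.sigmaCore M from ?_) (show ⁅u, x⁆ ∈ Cfsg.sigmaCore H from ?_)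
    · haveI := Fact.mk hq
      obtain ⟨g, hg⟩ := sigma_disjoint hG hM hH (piCoreOf_primes _ M hq h1) (piCoreOf_primes _ H hq h2)
      exact ho.notM g hg
    · rw [commutatorElement_def]
      exact mul_mem ((Subgroup.mem_normalizer_iff.mp (le_normalizer_sigmaCore M (hKU.compl.1 hu)) _).mp hxM)
        (inv_mem hxM)
    · rw [commutatorElement_def, mul_assoc, mul_assoc, ← mul_assoc x]
      exact mul_mem (hUH hu) ((Subgroup.mem_normalizer_iff.mp (le_normalizer_sigmaCore H hxH) _).mp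
        (inv_mem (hUH hu)))
  have hMH : M ⊓ H = U ⊔ K := by
    refine le_antisymm (fun x hx => ?_) (le_inf (sup_le hKU.compl.1 hKU.hall.1) (sup_le hUleH hKH))
    obtain ⟨hxM, hxH⟩ := Subgroup.mem_inf.mp hx
    obtain ⟨u, hu, b, hb, rfl⟩ := hKU.compl.2.2.2 x hxM
    rw [sup_comm] at hb
    obtain ⟨s, hs, c, hc, rfl⟩ := (Basics.mem_sup_of_le_normalizer (hKU.hall.1.trans (le_normalizer_sigmaCore M))).mp hb
    have hsH : s ∈ H := by
      rw [show s = u⁻¹ * (u * (s * c)) * c⁻¹ by group]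
      exact mul_mem (mul_mem (inv_mem (hUleH hu)) hxH) (inv_mem (hKH hc))
    have hs1 := Subgroup.mem_bot.mp (hMσH ▸ Subgroup.mem_inf.mpr ⟨hs, hsH⟩)
    rw [hs1, one_mul]
    exact mul_mem (Subgroup.mem_sup_left hu) (Subgroup.mem_sup_right hc)
  have hcore : Cfsg.sigmaCore H ⊓ M ≤ U := fun x hx => by
    obtain ⟨hxS, hxM⟩ := Subgroup.mem_inf.mp hx
    have hx' : x ∈ U ⊔ K := hMH ▸ Subgroup.mem_inf.mpr ⟨hxM, sigmaCore_le H hxS⟩
    obtain ⟨u, hu, c, hc, rfl⟩ := (Basics.mem_sup_of_le_normalizer hKU.normal).mp hx'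
    have hc1 := Subgroup.mem_bot.mp (hKHσ ▸ Subgroup.mem_inf.mpr ⟨hc, by
      rw [show c = u⁻¹ * (u * c) by group]; exact mul_mem (inv_mem (hUH hu)) hxS⟩)
    rwa [hc1, mul_one]
  obtain ⟨E, hE, hkE⟩ := ho.exists_compl_mem hG
  have hEL : E ≤ L := ho.compl_le_dual hG (Fact.out : r.Prime) hrM hrσ hrk hE hkE
  have hHL : H ⊓ L = E := by
    refine le_antisymm (fun x hx => ?_) (le_inf hE.1 hEL)
    obtain ⟨hxH, hxL⟩ := Subgroup.mem_inf.mp hx
    obtain ⟨e, he, s, hs, rfl⟩ := hE.2.2.2 x hxH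
    have hs1 := Subgroup.mem_bot.mp (ho.core_inf_dual hG ▸ Subgroup.mem_inf.mpr ⟨hs, by
      rw [show s = e⁻¹ * (e * s) by group]; exact mul_mem (inv_mem (hEL he)) hxL⟩)
    rwa [hs1, mul_one]
  refine ⟨ho.kappa_empty hG, hUH, hMH, fun hle => ?_, ?_, hHL ▸ hE⟩
  · rcases eq_or_ne (U.subgroupOf (Cfsg.sigmaCore H)) ⊤ with he | he
    · have hHU : H ≤ Subgroup.normalizer (U : Set G) := by
        rw [show U = Cfsg.sigmaCore H from le_antisymm hUH (Subgroup.subgroupOf_eq_top.mp he)]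
        exact le_normalizer_sigmaCore H
      refine ho.notM 1 ?_
      rw [map_conj_one]
      exact ((hH.le_iff.mp ((le_inf le_rfl hHU).trans hle)).resolve_left hM.1).symm
    · haveI := ho.nilpotent hG
      have h1 := Group.normalizerCondition_of_isNilpotent (G := Cfsg.sigmaCore H) (U.subgroupOf (Cfsg.sigmaCore H))
        (lt_top_iff_ne_top.mpr he)
      obtain ⟨⟨v, hv⟩, hvn, hvU⟩ := SetLike.exists_of_lt h1
      refine hvU (hcore (Subgroup.mem_inf.mpr ⟨hv, hle (Subgroup.mem_inf.mpr ⟨sigmaCore_le H hv, ?_⟩)⟩))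
      refine Subgroup.mem_normalizer_fintype fun a ha => ?_
      exact (Subgroup.mem_normalizer_iff.mp hvn ⟨a, hUH ha⟩).mp ha
  · rw [hHL]
    refine hKk.trans (Subgroup.zpowers_le.mpr ?_)
    by_cases hn : Group.IsNilpotent (Cfsg.sigmaCore L)
    · refine le_fittingOf_of_normal (N := Cfsg.sigmaCore L ⊓ E) inf_le_right
        ((le_inf (hEL.trans (le_normalizer_sigmaCore L)) Subgroup.le_normalizer).trans le_normalizer_inf') ?_
        (Subgroup.mem_inf.mpr ⟨ho.mem_core, hkE⟩)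
      haveI := hn
      exact Group.nilpotent_of_mulEquiv (Subgroup.subgroupOfEquivOfLe (inf_le_left : Cfsg.sigmaCore L ⊓ E ≤ _))
    · obtain ⟨hP, -⟩ := p1_of_not_nilpotent hG hMstar hn
      obtain ⟨q, hq, -, Q, hQ, -, hQn, hKQ⟩ := exists_normal_sylow hG hMstar hd.hKL
        (kappa_fixed_ne_bot hG hM hKU.hall hK1) hP
      haveI := Fact.mk hq
      refine le_fittingOf_of_normal (N := Q ⊓ E) inf_le_right
        ((le_inf (hEL.trans hQn) Subgroup.le_normalizer).trans le_normalizer_inf') ?_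
        (Subgroup.mem_inf.mpr ⟨hKQ (hKst ▸ k₀.2), hkE⟩)
      exact (hQ.isPGroup.to_le inf_le_left).isNilpotent

end Cfsg.Agent.S1435
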