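import Cfsg.Statements.S1363
import Cfsg.Agent.Lib.OddLocal.KappaSupport
import Cfsg.Agent.S1435

set_option autoImplicit false
set_option linter.style.haveILetI false
open Cfsg
open Cfsg.Agent.OddLocal
open Cfsg.Agent.Basics
open scoped commutatorElement Pointwise

namespace Cfsg.Agent.S1363

/-- Let G be a minimal simple group of odd order and M a maximal subgroup with standard factorisation M = K U M_σ and K ≠ 1. Then U is abelian and the normalizer of U in G is not contained in M. -/
theorem result {G : Type*} [Group G] [Finite G] (hG : Cfsg.IsMinSimpleOddOrder G)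
    (M : Subgroup G) (hM : IsCoatom M) (K U : Subgroup G) (hKU : Cfsg.IsSigmaDecomposition M K U) (hK1 : K ≠ ⊥) :
    IsMulCommutative U ∧ ¬ Subgroup.normalizer (U : Set G) ≤ M := by
  obtain ⟨hUab, -, hπ, -⟩ := decomp_free hG hM hKU hK1
  refine ⟨hUab, fun hle => ?_⟩
  rcases eq_or_ne U ⊥ with rfl | hU1
  · rw [Subgroup.normalizer_eq_top] at hle
    exact hM.1 (top_le_iff.mp hle)
  obtain ⟨L, hL, -, hKL, hs, -⟩ := exists_dual hG hM hKU.hall hK1
  obtain ⟨r, hr, hrd⟩ := Nat.exists_prime_and_dvd fun e => hU1 (Subgroup.card_eq_one.mp e)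
  haveI := Fact.mk hr
  obtain ⟨R, hR⟩ : ∃ R : Sylow r U, R = default := ⟨_, rfl⟩
  have hRs := Basics.isSylowIn_map R
  have hR1 : (R : Subgroup U).map U.subtype ≠ ⊥ := fun e => by
    have := hRs.2
    rw [e, Subgroup.card_bot] at this
    exact (Nat.one_lt_pow (hr.factorization_pos_of_dvd Nat.card_pos.ne' hrd).ne' hr.one_lt).ne this
  obtain ⟨H, hH, hNR⟩ := exists_maximal_ge (normalizer_ne_top hG hR1 fun e => hM.1 (top_le_iff.mp
    (e ▸ hRs.1.trans hKU.compl.1)))
  exact (S1435.result hG M hM K U hKU hK1 hU1 L hL hs hKL r hrd R H hH hNR).2.2.2.1 (inf_le_right.trans hle)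

end Cfsg.Agent.S1363
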