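import Cfsg.Statements.S1369
import Cfsg.Agent.Lib.OddLocal.KappaCover

set_option autoImplicit false
set_option linter.style.haveILetI false
open Cfsg
open Cfsg.Agent.OddLocal
open Cfsg.Agent.Basics
open scoped commutatorElement Pointwise

namespace Cfsg.Agent.S1369

/-- Let G be a minimal simple group of odd order, M a maximal subgroup with standard factorisation M = K U M_σ, K ≠ 1, K* = M_σ ∩ C_G(K), and M* a maximal subgroup with K = M*_σ ∩ C_G(K*) and K* a Hall κ(M*)-subgroup of M*. Then either U ≠ 1 or every K*-invariant complement of K* M*_σ in M* is nontrivial; and every maximal subgroup H of G with κ(H) nonempty is conjugate to M or to M*. -/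
theorem result {G : Type*} [Group G] [Finite G] (hG : Cfsg.IsMinSimpleOddOrder G)
    (M : Subgroup G) (hM : IsCoatom M) (K U : Subgroup G) (hKU : Cfsg.IsSigmaDecomposition M K U) (hK1 : K ≠ ⊥) (Mstar : Subgroup G) (hMstar : IsCoatom Mstar)
    (hKst : K = Cfsg.sigmaCore Mstar ⊓ Subgroup.centralizer ((Cfsg.sigmaCore M ⊓ Subgroup.centralizer (K : Set G)) : Set G))
    (hKstH : Cfsg.IsPiHallOf (Cfsg.kappa Mstar) (Cfsg.sigmaCore M ⊓ Subgroup.centralizer (K : Set G)) Mstar) :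
    (U ≠ ⊥ ∨ ∀ Ustar : Subgroup G, Cfsg.IsSigmaDecomposition Mstar (Cfsg.sigmaCore M ⊓ Subgroup.centralizer (K : Set G)) Ustar → Ustar ≠ ⊥) ∧
      ∀ H : Subgroup G, IsCoatom H → (Cfsg.kappa H).Nonempty →
        ∃ g : G, H = M.map (MulAut.conj g).toMonoidHom ∨ H = Mstar.map (MulAut.conj g).toMonoidHom := by
  have h : DualPair M K Mstar := ⟨hM, hMstar, hKU.hall, hK1, hKstH, hKst⟩
  obtain ⟨L₀, hL₀, -, -, hs, hlines, -, hor⟩ := exists_dual hG hM hKU.hall hK1
  have he : Mstar = L₀ := dual_unique hG hM hKU.hall hK1 hL₀ hMstar (hs.le.trans inf_le_left)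
    (hKst.le.trans inf_le_left) fun X h1 h2 => (hlines X h1 h2).1
  subst he
  have hU : ∀ {H KH V : Subgroup G}, IsCoatom H → Cfsg.IsSigmaDecomposition H KH V → ∀ q : ℕ, q.Prime →
      q ∣ Nat.card H → q ∉ Cfsg.sigma H → q ∉ Cfsg.kappa H → V ≠ ⊥ := by
    intro H KH V hH hd q hq hqd hqs hqk hV
    have h1 := hallOf_factorization (decomp_hall hG hH hd) hq ⟨hq, hqk, hqs⟩
    rw [hV, Subgroup.card_bot, Nat.factorization_one, Finsupp.zero_apply] at h1
    exact (hq.factorization_pos_of_dvd Nat.card_pos.ne' hqd).ne' h1.symm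
  refine ⟨?_, fun H hH hk => ?_⟩
  · rcases hor with ⟨q, hq, hqd, hqs, hqk⟩ | ⟨q, hq, hqd, hqs, hqk⟩
    · exact Or.inl (hU hM hKU q hq hqd hqs hqk)
    · exact Or.inr fun V hV => hU hMstar hV q hq hqd hqs hqk
  · rcases h.conj_cases hG hH hk with ⟨g, hg⟩ | ⟨g, hg⟩
    · exact ⟨g, Or.inl hg⟩
    · exact ⟨g, Or.inr hg⟩

end Cfsg.Agent.S1369
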