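import Cfsg.Statements.S1370
import Cfsg.Agent.Lib.OddLocal.KappaHat

set_option autoImplicit false
set_option linter.style.haveILetI false
open Cfsg
open Cfsg.Agent.OddLocal
open Cfsg.Agent.Basics
open scoped commutatorElement Pointwise

namespace Cfsg.Agent.S1370

/-- Let G be a minimal simple group of odd order, M a maximal subgroup with standard factorisation M = K U M_σ, K ≠ 1, K* = M_σ ∩ C_G(K) and Z the subgroup generated by K and K*. Then the set of elements of Z lying in neither K nor K* is a TI-subset of G, and its set-normalizer in G is exactly Z. -/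
theorem result {G : Type*} [Group G] [Finite G] (hG : Cfsg.IsMinSimpleOddOrder G)
    (M : Subgroup G) (hM : IsCoatom M) (K U : Subgroup G) (hKU : Cfsg.IsSigmaDecomposition M K U) (hK1 : K ≠ ⊥) :
    Cfsg.IsTISubset ((↑(K ⊔ (Cfsg.sigmaCore M ⊓ Subgroup.centralizer (K : Set G))) : Set G) \ ((K : Set G) ∪ ↑(Cfsg.sigmaCore M ⊓ Subgroup.centralizer (K : Set G)))) ∧ Subgroup.normalizer ((↑(K ⊔ (Cfsg.sigmaCore M ⊓ Subgroup.centralizer (K : Set G))) : Set G) \ ((K : Set G) ∪ ↑(Cfsg.sigmaCore M ⊓ Subgroup.centralizer (K : Set G)))) = K ⊔ (Cfsg.sigmaCore M ⊓ Subgroup.centralizer (K : Set G)) := by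
  obtain ⟨L, hL, -, hh, hs, -, -, -⟩ := exists_dual hG hM hKU.hall hK1
  have h : DualPair M K L := ⟨hM, hL, hKU.hall, hK1, hh, hs⟩
  set Z := K ⊔ (Cfsg.sigmaCore M ⊓ Subgroup.centralizer (K : Set G)) with hZ
  obtain ⟨k, hk, hk1⟩ := (Subgroup.bot_or_exists_ne_one _).resolve_left hK1
  obtain ⟨a, ha, ha1⟩ := (Subgroup.bot_or_exists_ne_one _).resolve_left (kappa_fixed_ne_bot hG hM hKU.hall hK1)
  have hz0 := h.hat_mem hk ha hk1 ha1
  have hnorm : Subgroup.normalizer ((↑Z : Set G) \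
      ((K : Set G) ∪ ↑(Cfsg.sigmaCore M ⊓ Subgroup.centralizer (K : Set G)))) = Z := by
    refine le_antisymm ?_ ?_
    · intro g hg
      exact h.hat_rigid hG hz0 ((Subgroup.mem_set_normalizer_iff.mp hg _).mp hz0)
    intro g hg
    refine Subgroup.mem_set_normalizer_iff.mpr fun z => ⟨fun hz => ?_, fun hz => ?_⟩
    · rwa [h.hat_conj hG hg hz.1]
    · have e := h.hat_conj hG (inv_mem hg) hz.1
      rw [show g⁻¹ * (g * z * g⁻¹) * g⁻¹⁻¹ = z by group] at e
      rwa [e]
  refine ⟨fun g hg z hz hz' => absurd ?_ hg, hnorm⟩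
  rw [hnorm]
  exact h.hat_rigid hG hz hz'

end Cfsg.Agent.S1370
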