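import Cfsg.Statements.S1372
import Cfsg.Agent.Lib.OddLocal.KappaFittingTI
import Cfsg.Agent.Lib.OddLocal.SigmaDecomp

set_option autoImplicit false
set_option linter.style.haveILetI false
open Cfsg
open Cfsg.Agent.OddLocal
open Cfsg.Agent.Basics
open scoped commutatorElement Pointwise

namespace Cfsg.Agent.S1372

/-- Let G be a minimal simple group of odd order and M a maximal subgroup with standard factorisation M = K U M_σ, K ≠ 1 and U ≠ 1. Then K has prime order, and the Fitting subgroup F(M) contains M_σ and is a TI-subset of G. -/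
theorem result {G : Type*} [Group G] [Finite G] (hG : Cfsg.IsMinSimpleOddOrder G)
    (M : Subgroup G) (hM : IsCoatom M) (K U : Subgroup G) (hKU : Cfsg.IsSigmaDecomposition M K U) (hK1 : K ≠ ⊥) (hU1 : U ≠ ⊥) :
    (Nat.card K).Prime ∧ Cfsg.IsTISubset (Cfsg.fittingOf M : Set G) ∧ Cfsg.sigmaCore M ≤ Cfsg.fittingOf M := by
  obtain ⟨p, hp, hpd⟩ := Nat.exists_prime_and_dvd fun e => hU1 (Subgroup.card_eq_one.mp e)
  obtain ⟨-, hpk, hpσ⟩ := (decomp_hall hG hM hKU).2.1 p hp hpd
  have hpM : p ∣ Nat.card M := hpd.trans (Subgroup.card_dvd_of_le hKU.compl.1)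
  obtain ⟨hpr, hnil, -⟩ := compl_prime hG hM hKU.hall hK1 hp hpM hpσ hpk
  exact ⟨hpr, fitting_ti hG hM hKU.hall hK1 hp hpM hpσ hpk, sigmaCore_le_fittingOf hnil⟩

end Cfsg.Agent.S1372
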