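import Cfsg.Statements.S1373
import Cfsg.Agent.Lib.OddLocal.KappaMain
import Cfsg.Agent.Lib.OddLocal.KappaPrime
import Cfsg.Agent.Lib.OddLocal.SigmaDecomp

set_option autoImplicit false
set_option linter.style.haveILetI false
open Cfsg
open Cfsg.Agent.OddLocal
open Cfsg.Agent.Basics
open scoped commutatorElement Pointwise

namespace Cfsg.Agent.S1373

/-- Let G be a minimal simple group of odd order and M a maximal subgroup with standard factorisation M = K U M_σ, K ≠ 1 and U = 1. Then M_σ ∩ C_G(K) has prime order. -/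
theorem result {G : Type*} [Group G] [Finite G] (hG : Cfsg.IsMinSimpleOddOrder G)
    (M : Subgroup G) (hM : IsCoatom M) (K U : Subgroup G) (hKU : Cfsg.IsSigmaDecomposition M K U) (hK1 : K ≠ ⊥) (hU : U = ⊥) :
    (Nat.card ↥(Cfsg.sigmaCore M ⊓ Subgroup.centralizer (K : Set G))).Prime := by
  have hK := hKU.hall
  have hP : ∀ q : ℕ, q.Prime → q ∣ Nat.card M → q ∉ Cfsg.sigma M → q ∈ Cfsg.kappa M := by
    intro q hq hqd hqσ
    by_contra hqk
    haveI := Fact.mk hq
    have h1 := hallOf_factorization (decomp_hall hG hM hKU) hq ⟨hq, hqk, hqσ⟩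
    rw [hU, Subgroup.card_bot, Nat.factorization_one, Finsupp.zero_apply] at h1
    exact (hq.factorization_pos_of_dvd Nat.card_pos.ne' hqd).ne h1
  obtain ⟨L, hL, -, hKL, hKeq, -, -, hor⟩ := exists_dual hG hM hK hK1
  rcases hor with ⟨q, hq, hqd, hqσ, hqk⟩ | ⟨q, hq, hqd, hqσ, hqk⟩
  · exact absurd (hP q hq hqd hqσ) hqk
  · exact (compl_prime hG hL hKL (kappa_fixed_ne_bot hG hM hK hK1) hq hqd hqσ hqk).1

end Cfsg.Agent.S1373
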