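import Cfsg.Statements.S1375
import Cfsg.Agent.Lib.OddLocal.SigmaMixed

set_option autoImplicit false
set_option linter.style.haveILetI false
open Cfsg
open Cfsg.Agent.OddLocal
open Cfsg.Agent.Basics
open scoped commutatorElement Pointwise

namespace Cfsg.Agent.S1375

/-- Let G be a minimal simple group of odd order, M a maximal subgroup, x ≠ 1 in M_σ with C_G(x) not contained in M. Then exactly one maximal subgroup N contains C_G(x); for it N_σ = N_F, C_{N_σ}(x) is a normal subgroup of C_G(x) complementing C_M(x), M ∩ N is a complement to N_σ in N, and for every standard factorisation N = K' U' N_σ one has U' ≠ 1 and x ∈ A(N) with x ∉ N_σ. -/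
theorem result {G : Type*} [Group G] [Finite G] (hG : Cfsg.IsMinSimpleOddOrder G)
    (M : Subgroup G) (hM : IsCoatom M) (x : G) (hx : x ∈ Cfsg.sigmaCore M) (hx1 : x ≠ 1) (hxM : ¬ Subgroup.centralizer ({x} : Set G) ≤ M) :
    ∃ N : Subgroup G, (IsCoatom N ∧ Subgroup.centralizer ({x} : Set G) ≤ N) ∧ (∀ L : Subgroup G, IsCoatom L → Subgroup.centralizer ({x} : Set G) ≤ L → L = N) ∧
        Cfsg.sigmaCore N = Cfsg.fittingHallOf N ∧
        Subgroup.centralizer ({x} : Set G) ≤ Subgroup.normalizer ((Cfsg.sigmaCore N ⊓ Subgroup.centralizer ({x} : Set G) : Subgroup G) : Set G) ∧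
        Cfsg.IsComplIn (M ⊓ Subgroup.centralizer ({x} : Set G)) (Cfsg.sigmaCore N ⊓ Subgroup.centralizer ({x} : Set G)) (Subgroup.centralizer ({x} : Set G)) ∧
        Cfsg.IsComplIn (M ⊓ N) (Cfsg.sigmaCore N) N ∧
        ∀ K' U' : Subgroup G, Cfsg.IsSigmaDecomposition N K' U' → U' ≠ ⊥ ∧ x ∈ Cfsg.sigmaA N U' ∧ x ∉ Cfsg.sigmaCore N := by
  obtain ⟨N, hN, hCN, hu, -, -, hF, hcompl, hτ, hhat, hC⟩ := exists_neighbor hG hM hx hx1 hxM
  refine ⟨N, ⟨hN, hCN⟩, hu, hF.symm, ?_, hC, hcompl, fun K' U' h => ?_⟩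
  · exact (le_inf (hCN.trans (le_normalizer_sigmaCore N)) Subgroup.le_normalizer).trans le_normalizer_inf'
  obtain ⟨t, ht, htd⟩ := Nat.exists_prime_and_dvd fun e => hx1 (orderOf_eq_one_iff.mp e)
  have hxU : x ∈ Cfsg.sigmaCore N ⊔ U' := le_decomp hG hN h (Subgroup.zpowers_le.mpr hhat.1)
    (fun q hq hd => not_kappa_of_tau2 (hτ q hq (by rwa [Nat.card_zpowers] at hd))) (Subgroup.mem_zpowers x)
  have hxσ : x ∉ Cfsg.sigmaCore N := fun h' =>
    (hτ t ht htd).2.1 (piCoreOf_primes _ N ht (htd.trans (Subgroup.orderOf_dvd_natCard _ h')))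
  refine ⟨fun e => hxσ (by rwa [e, sup_bot_eq] at hxU), ⟨hhat, ?_⟩, hxσ⟩
  rw [SetLike.mem_coe, sup_comm]
  exact hxU

end Cfsg.Agent.S1375
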