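import Cfsg.Statements.S1376
import Cfsg.Agent.Lib.OddLocal.KappaNeighbor

set_option autoImplicit false
set_option linter.style.haveILetI false
open Cfsg
open Cfsg.Agent.OddLocal
open Cfsg.Agent.Basics
open scoped commutatorElement Pointwise

namespace Cfsg.Agent.S1376

/-- Let G be a minimal simple group of odd order, M a maximal subgroup, x ≠ 1 in M_σ with C_G(x) not contained in M, and N a maximal subgroup containing C_G(x) with κ(N) nonempty. Then κ(M) is empty, M has a cyclic Frobenius complement (M is a Frobenius group), and M_F is not a TI-subset of G. -/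
theorem result {G : Type*} [Group G] [Finite G] (hG : Cfsg.IsMinSimpleOddOrder G)
    (M : Subgroup G) (hM : IsCoatom M) (x : G) (hx : x ∈ Cfsg.sigmaCore M) (hx1 : x ≠ 1) (hxM : ¬ Subgroup.centralizer ({x} : Set G) ≤ M)
    (N : Subgroup G) (hN : IsCoatom N) (hxN : Subgroup.centralizer ({x} : Set G) ≤ N) (hkN : (Cfsg.kappa N).Nonempty) :
    Cfsg.kappa M = ∅ ∧ (∃ E : Subgroup ↥M, Cfsg.IsFrobeniusComplement E ∧ IsCyclic E) ∧ ¬ Cfsg.IsTISubset (Cfsg.fittingHallOf M : Set G) := by
  obtain ⟨K, U, L, hKU, hd, hF, hxU, hUσ, hxC, ⟨p, hp, hpd, hpσ, hpk⟩, k, r, ho⟩ :=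
    neighbor_kappa_setup hG hM hN hx hx1 hxM hxN hkN
  have hτ : ∀ t, t ∉ Cfsg.tau2 M := neighbor_tau2_empty hG ho ⟨p, hp, hpd, hpσ, hpk⟩ hx hUσ hxC
  obtain ⟨E, hE, hkE⟩ := ho.exists_compl_mem hG
  have hnil := ho.nilpotent hG
  have hfix : ∀ e ∈ E, ∀ y ∈ Cfsg.sigmaCore M, Commute e y → e ≠ 1 → y = 1 := by
    intro e he y hy hey he1
    obtain ⟨s, hs, hsd⟩ := Nat.exists_prime_and_dvd fun h => he1 (orderOf_eq_one_iff.mp h)
    have hso := orderOf_pow_orderOf_div (orderOf_pos e).ne' hsd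
    exact ho.free_elt hG hs (hE.1 (pow_mem he _)) hso
      (compl_primes hG hM hE hs (hsd.trans (Subgroup.orderOf_dvd_natCard _ he))) (hτ s) hy (hey.pow_left _)
  have hWne := sigmaCore_ne_bot hG hM
  have hrank : ∀ q : ℕ, q.Prime → q ∣ Nat.card E → PRankLE q 1 M := fun q hq hqd => by
    haveI := Fact.mk hq
    have hqσ := compl_primes hG hM hE hq hqd
    by_contra h1
    exact hτ q ⟨hq, hqσ, pRankLE_two_of_not_mem_sigma hG hM hqσ, h1⟩
  have hcyc : IsCyclic E := by
    refine isCyclic_of_rank_one_commutative hG hE.1 ?_ hrank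
    suffices h : ⁅E, E⁆ = ⊥ by
      exact ⟨⟨fun a b => Subtype.ext (commutatorElement_eq_one_iff_mul_comm.mp
        (Subgroup.mem_bot.mp (h ▸ Subgroup.commutator_mem_commutator a.2 b.2)))⟩⟩
    refine (Subgroup.eq_bot_iff_forall _).mpr fun e he => ?_
    by_contra he1
    have heE : e ∈ E := Subgroup.commutator_le_self E he
    obtain ⟨q, hq, hqd⟩ := Nat.exists_prime_and_dvd fun h => hx1 (orderOf_eq_one_iff.mp h)
    haveI := Fact.mk hq
    set xq := x ^ (orderOf x / q) with hxq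
    have hxqo : orderOf xq = q := orderOf_pow_orderOf_div (orderOf_pos x).ne' hqd
    have hxqσ : xq ∈ Cfsg.sigmaCore M := pow_mem hx _
    have hxq1 : xq ≠ 1 := fun h => hq.one_lt.ne (by rw [← hxqo, h, orderOf_one])
    have hle : Subgroup.centralizer ({x} : Set G) ≤ Subgroup.centralizer ({xq} : Set G) := fun c hc =>
      Subgroup.mem_centralizer_singleton_iff.mpr
        ((show Commute c x from Subgroup.mem_centralizer_singleton_iff.mp hc).pow_right _).eq
    have hxqM : ¬ Subgroup.centralizer ({xq} : Set G) ≤ M := fun h => hxM (hle.trans h)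
    obtain ⟨N', hN', hCN', -, -, -, -, -, hτN, -, -⟩ := exists_neighbor hG hM hxqσ hxq1 hxqM
    obtain ⟨N₀, hN₀, -, huniq, -⟩ := exists_neighbor hG hM hx hx1 hxM
    obtain rfl : N' = N := (huniq N' hN' (hle.trans hCN')).trans (huniq N hN hxN).symm
    have hqN : q ∈ Cfsg.tau2 N' := hτN q hq hxqo.symm.dvd
    obtain ⟨S, hS⟩ := exists_sylowIn (q := q) (Cfsg.sigmaCore M)
    have hqσ : q ∈ Cfsg.sigma M := orderOf_core hxqσ q hq hxqo.symm.dvd
    obtain ⟨P, hP⟩ := hS.exists_sylow
    haveI := hnil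
    haveI hPn : (P : Subgroup (Cfsg.sigmaCore M)).Normal :=
      Sylow.normal_of_normalizerCondition Group.normalizerCondition_of_isNilpotent P
    haveI hPc : (P : Subgroup (Cfsg.sigmaCore M)).Characteristic := P.characteristic_of_normal hPn
    have hMS : M ≤ Subgroup.normalizer (S : Set G) := by
      rw [← hP]
      exact (le_normalizer_sigmaCore M).trans (normalizer_le_normalizer_map_char _ _)
    have hxS : xq ∈ S := by
      refine ((hS.eq_of_le (R := S ⊔ Subgroup.zpowers xq) ?_ (sup_le hS.1 (Subgroup.zpowers_le.mpr hxqσ))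
        le_sup_left).le) (Subgroup.mem_sup_right (Subgroup.mem_zpowers xq))
      exact hS.isPGroup.to_sup_of_normal_left' (IsPGroup.of_card (n := 1) (by rw [Nat.card_zpowers, hxqo, pow_one]))
        ((Subgroup.zpowers_le.mpr (sigmaCore_le M hxqσ)).trans hMS)
    set ZS := (Subgroup.center S).map S.subtype with hZS
    have hZc : IsMulCommutative ZS := ⟨⟨fun a b => by
      obtain ⟨⟨_, a, ha, rfl⟩, ⟨_, b, hb, rfl⟩⟩ := a, b
      exact Subtype.ext (by simpa using congrArg Subtype.val (Subgroup.mem_center_iff.mp hb a))⟩⟩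
    obtain ⟨V, hV, hVmem, hVn⟩ := exists_omega_abelian hZc q
    have hVS : V ≤ S := fun v hv => by
      obtain ⟨w, -, rfl⟩ := ((hVmem v).mp hv).1
      exact w.2
    have hMV : M ≤ Subgroup.normalizer (V : Set G) :=
      hMS.trans ((normalizer_le_normalizer_map_characteristic _).trans hVn)
    have hVN : V ≤ N' := fun v hv => hCN' (Subgroup.mem_centralizer_singleton_iff.mpr (by
      obtain ⟨w, hw, rfl⟩ := ((hVmem v).mp hv).1
      exact (congrArg Subtype.val (Subgroup.mem_center_iff.mp hw ⟨xq, hxS⟩)).symm))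
    have hVM : V ≤ M := hVS.trans (hS.1.trans (sigmaCore_le M))
    have hV2 : Nat.card V ≤ q ^ 2 := by
      have h := hqN.2.2.1 (V.subgroupOf N') ⟨⟨fun a b => Subtype.ext (Subtype.ext
        (congrArg (fun z : V => (z : G)) (hV.1.is_comm.comm ⟨_, a.2⟩ ⟨_, b.2⟩) :))⟩⟩
        fun a ha => Subtype.ext (hV.2 _ ha)
      rwa [Basics.card_subgroupOf hVN] at h
    haveI : Group.IsSolvable M := isSolvable_of_ne_top hG hM.1
    haveI : (V.subgroupOf M).Normal := (Subgroup.normal_subgroupOf_iff_le_normalizer hVM).mpr hMV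
    have hec : (⟨e, hE.1 heE⟩ : M) ∈ commutator M := by
      have h1 : e ∈ (commutator M).map M.subtype := by
        rw [commutator_def, Subgroup.map_commutator, ← MonoidHom.range_eq_map, Subgroup.range_subtype]
        exact Subgroup.commutator_mono hE.1 hE.1 he
      obtain ⟨w, hw, hwe⟩ := h1
      rwa [show (⟨e, hE.1 heE⟩ : M) = w from Subtype.ext hwe.symm]
    have h := derived_pPower_centralizes (T := V.subgroupOf M) (odd_card_subgroup hG M)
      (prime_ne_two hG (hxqo ▸ orderOf_dvd_natCard xq)) ((isPGroup_of_exponent hV.2).comap_subtype (K := M))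
      (fun X _ => ((Subgroup.card_le_card_group X).trans (Basics.card_subgroupOf hVM).le).trans hV2) hec (by
        rw [Subgroup.orderOf_mk]
        exact (hq.coprime_iff_not_dvd.mpr fun hd' => compl_primes hG hM hE hq
          (hd'.trans (Subgroup.orderOf_dvd_natCard _ heE)) hqσ).symm)
    haveI : Nontrivial S := (Subgroup.nontrivial_iff_ne_bot S).mpr fun h => hxq1 (Subgroup.mem_bot.mp (h ▸ hxS))
    haveI := hS.isPGroup.center_nontrivial
    rcases (hS.isPGroup.to_subgroup (Subgroup.center S)).card_eq_or_dvd with e' | e'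
    · exact absurd e' Finite.one_lt_card.ne'
    obtain ⟨w, hw⟩ := exists_prime_orderOf_dvd_card' q e'
    have hwo : orderOf ((w : S) : G) = q := by rw [Subgroup.orderOf_coe, Subgroup.orderOf_coe, hw]
    have hwV : ((w : S) : G) ∈ V := (hVmem _).mpr ⟨⟨w, w.2, rfl⟩, hwo ▸ pow_orderOf_eq_one _⟩
    have hcomm : Commute e ((w : S) : G) := (congrArg Subtype.val
      (Subgroup.mem_centralizer_iff.mp h ⟨_, hVM hwV⟩ hwV)).symm
    have h1 := hfix e heE _ (hS.1 (hVS hwV)) hcomm he1
    rw [h1, orderOf_one] at hwo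
    exact hq.one_lt.ne hwo
  refine ⟨ho.kappa_empty hG, ⟨E.subgroupOf M, ⟨fun h => ?_, fun h => ?_, fun g hg => ?_⟩, ?_⟩, fun hTI => ?_⟩
  · have h' : (⟨k, ho.memH⟩ : M) ∈ E.subgroupOf M := hkE
    rw [h, Subgroup.mem_bot] at h'
    exact ho.ne_one (congrArg Subtype.val h')
  · refine hWne (le_bot_iff.mp (hE.2.2.1 ▸ le_inf ?_ le_rfl))
    exact (sigmaCore_le M).trans (Subgroup.subgroupOf_eq_top.mp h)
  · refine (Subgroup.eq_bot_iff_forall _).mpr fun w hw => ?_
    obtain ⟨hwE, hwg⟩ := Subgroup.mem_inf.mp hw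
    obtain ⟨a, ha, b, hb, hab⟩ := hE.2.2.2 g g.2
    obtain ⟨e', he', rfl⟩ := hwg
    by_contra hw1
    have hv : a⁻¹ * ((g : G) * e' * (g : G)⁻¹) * a = b * e' * b⁻¹ := by rw [hab]; group
    have hvE : b * (e' : G) * b⁻¹ ∈ E := hv ▸ mul_mem (mul_mem (inv_mem ha) hwE) ha
    have hc : b * (e' : G) * b⁻¹ * (e' : G)⁻¹ ∈ E ⊓ Cfsg.sigmaCore M := Subgroup.mem_inf.mpr
      ⟨mul_mem hvE (inv_mem he'), by
        rw [mul_assoc, mul_assoc, ← mul_assoc (e' : G)]
        exact mul_mem hb ((Subgroup.mem_normalizer_iff.mp (le_normalizer_sigmaCore M e'.2) _).mp (inv_mem hb))⟩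
    rw [hE.2.2.1, Subgroup.mem_bot] at hc
    have hcom : Commute b (e' : G) := mul_inv_eq_iff_eq_mul.mp (mul_inv_eq_one.mp hc)
    have he'1 : (e' : G) ≠ 1 := fun h => hw1 (by rw [show e' = 1 from Subtype.ext h]; exact map_one _)
    exact hg (show (g : G) ∈ E by rw [hab, hfix _ he' b hb hcom.symm he'1, mul_one]; exact ha)
  · exact isCyclic_of_injective (Subgroup.subgroupOfEquivOfLe hE.1).toMonoidHom
      (Subgroup.subgroupOfEquivOfLe hE.1).injective
  · have hσF : Cfsg.sigmaCore M ≤ Cfsg.fittingHallOf M := by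
      rw [← Subgroup.map_subgroupOf_eq_of_le (sigmaCore_le M)]
      refine Subgroup.map_mono (le_sSup ⟨(Subgroup.normal_subgroupOf_iff_le_normalizer (sigmaCore_le M)).mpr
        (le_normalizer_sigmaCore M), ?_, ?_⟩)
      · haveI := hnil
        exact Group.nilpotent_of_mulEquiv (Subgroup.subgroupOfEquivOfLe (sigmaCore_le M)).symm
      · rw [Basics.card_subgroupOf (sigmaCore_le M)]
        exact Nat.coprime_of_dvd fun q hq h1 h2 => (sigmaCore_hall hG hM).1.2.2 q hq (piCoreOf_primes _ M hq h1) h2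
    obtain ⟨g, hg, hgM⟩ := SetLike.not_le_iff_exists.mp hxM
    have hFM : Cfsg.fittingHallOf M ≤ M := Subgroup.map_subtype_le _
    have hMF : M ≤ Subgroup.normalizer (Cfsg.fittingHallOf M : Set G) :=
      le_normalizer_fittingHallOf M
    refine hx1 (hTI g (fun hn => hgM ?_) x (hσF hx) ?_)
    · have hne := normalizer_ne_top hG (fun h => hx1 (Subgroup.mem_bot.mp (h ▸ hσF hx)))
        fun h => hM.1 (top_le_iff.mp (h ▸ hFM))
      exact (hM.le_iff.mp hMF).resolve_left hne ▸ hn
    · rw [(Subgroup.mem_centralizer_singleton_iff.mp hg), mul_inv_cancel_right]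
      exact hσF hx

end Cfsg.Agent.S1376
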