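import Cfsg.Statements.S1379
import Cfsg.Agent.Lib.OddLocal.KappaCover

set_option autoImplicit false
set_option linter.style.haveILetI false
open Cfsg
open Cfsg.Agent.OddLocal
open Cfsg.Agent.Basics
open scoped commutatorElement Pointwise

namespace Cfsg.Agent.S1379

/-- Let G be a minimal simple group of odd order; for a maximal subgroup M write M̃ for the union of the G-conjugates of the cosets x R(x), x ≠ 1 in M_σ. Then M̃ ∩ Ñ = ∅ for non-conjugate maximal M, N; if every maximal subgroup has κ empty, every g ≠ 1 lies in some M̃; and if M = K U M_σ has K ≠ 1 with Ẑ = K K* − (K ∪ K*), then every g ≠ 1 lies in some Ñ or in a conjugate of Ẑ, and no conjugate of an element of Ẑ lies in any Ñ. -/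
theorem result {G : Type*} [Group G] [Finite G] (hG : Cfsg.IsMinSimpleOddOrder G) :
    (∀ M N : Subgroup G, IsCoatom M → IsCoatom N → (∀ g : G, N ≠ M.map (MulAut.conj g).toMonoidHom) → Cfsg.tildeOf M ((Cfsg.sigmaCore M : Set G) \ {1}) ∩ Cfsg.tildeOf N ((Cfsg.sigmaCore N : Set G) \ {1}) = ∅) ∧
      ((∀ M : Subgroup G, IsCoatom M → Cfsg.kappa M = ∅) →
        ∀ g : G, g ≠ 1 → ∃ M : Subgroup G, IsCoatom M ∧ g ∈ Cfsg.tildeOf M ((Cfsg.sigmaCore M : Set G) \ {1})) ∧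
      ∀ (M K U : Subgroup G), IsCoatom M → Cfsg.IsSigmaDecomposition M K U → K ≠ ⊥ →
        (∀ g : G, g ≠ 1 → (∃ N : Subgroup G, IsCoatom N ∧ g ∈ Cfsg.tildeOf N ((Cfsg.sigmaCore N : Set G) \ {1})) ∨
            ∃ y : G, ∃ z ∈ ((↑(K ⊔ (Cfsg.sigmaCore M ⊓ Subgroup.centralizer (K : Set G))) : Set G) \ ((K : Set G) ∪ ↑(Cfsg.sigmaCore M ⊓ Subgroup.centralizer (K : Set G)))), g = y * z * y⁻¹) ∧
        ∀ N : Subgroup G, IsCoatom N → ∀ y : G, ∀ z ∈ ((↑(K ⊔ (Cfsg.sigmaCore M ⊓ Subgroup.centralizer (K : Set G))) : Set G) \ ((K : Set G) ∪ ↑(Cfsg.sigmaCore M ⊓ Subgroup.centralizer (K : Set G)))), y * z * y⁻¹ ∉ Cfsg.tildeOf N ((Cfsg.sigmaCore N : Set G) \ {1}) := by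
  refine ⟨fun M N hM hN hne => ?_, fun hκ g hg => ?_, fun M K U hM hKU hK1 => ?_⟩
  · refine Set.eq_empty_iff_forall_notMem.mpr fun z hz => ?_
    obtain ⟨-, H, x, r, hH, hσ, hx, hx1, hr, rfl⟩ := tilde_elt hG hM hz.1
    obtain ⟨-, H', x', r', hH', hσ', hx', hx'1, hr', e⟩ := tilde_elt hG hN hz.2
    have hxx := coset_unique hG hH hH' hx hx' hx1 hx'1 hr hr' e
    subst hxx
    obtain ⟨q, hq, hqd⟩ := Nat.exists_prime_and_dvd fun e => hx1 (orderOf_eq_one_iff.mp e)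
    haveI := Fact.mk hq
    obtain ⟨g, hg⟩ := sigma_disjoint hG hM hN (hσ ▸ orderOf_core hx q hq hqd) (hσ' ▸ orderOf_core hx' q hq hqd)
    exact hne g hg
  · rcases covered_all hG hg with h | ⟨M, K, L, hd, -⟩
    · exact h
    · obtain ⟨q, hq, hqd⟩ := Nat.exists_prime_and_dvd fun e => hd.hK1 (Subgroup.card_eq_one.mp e)
      have h1 := hd.hK.2.1 q hq hqd
      rw [hκ M hd.hM] at h1
      exact absurd h1 (Set.notMem_empty q)
  obtain ⟨L, hL, -, hh, hs, -⟩ := exists_dual hG hM hKU.hall hK1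
  have h : DualPair M K L := ⟨hM, hL, hKU.hall, hK1, hh, hs⟩
  refine ⟨fun g hg => ?_, fun N hN y z hz hmem => ?_⟩
  · rcases covered_all hG hg with h1 | ⟨M', K', L', hd, y, k, hk, a, ha, hk1, ha1, rfl⟩
    · exact Or.inl h1
    · obtain ⟨y', k', hk', a', ha', hk'1, ha'1, e⟩ := h.hat_transfer hG hd hk ha hk1 ha1
      exact Or.inr ⟨y * y', k' * a', h.hat_mem hk' ha' hk'1 ha'1, by rw [e]; group⟩
  · obtain ⟨k, hk, a, ha, hk1, ha1, rfl, -⟩ := DualPair.mem_hat hz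
    obtain ⟨b, hb, r, hr, y', e⟩ := hmem
    exact h.hat_not_tilde hG hN hk ha hk1 ha1 ⟨b, hb, r, hr, y⁻¹ * y', by
      rw [show k * a = y⁻¹ * (y * (k * a) * y⁻¹) * y by group, e]; group⟩

end Cfsg.Agent.S1379
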