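import Cfsg.Statements.S1381
import Cfsg.Agent.Lib.OddLocal.KappaTypes
import Cfsg.Agent.Lib.OddLocal.KappaFittingTI
import Cfsg.Agent.S1363
import Cfsg.Agent.S1360

set_option autoImplicit false
set_option linter.style.haveILetI false
open Cfsg
open Cfsg.Agent.OddLocal
open Cfsg.Agent.Basics
open scoped commutatorElement Pointwise

namespace Cfsg.Agent.S1381

/-- Let G be a minimal simple group of odd order and M a maximal subgroup with standard factorisation M = K U M_σ. Then M is of Type II if and only if K ≠ 1 and U ≠ 1. -/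
theorem result {G : Type*} [Group G] [Finite G] (hG : Cfsg.IsMinSimpleOddOrder G)
    (M : Subgroup G) (hM : IsCoatom M) (K U : Subgroup G) (hKU : Cfsg.IsSigmaDecomposition M K U) :
    Cfsg.IsOfTypeII M ↔ (K ≠ ⊥ ∧ U ≠ ⊥) := by
  constructor
  · rintro ⟨W₁, V, W₂, hP, hV1, -, -, -, hN, -, -⟩
    have hκ := kappa_of_typeP hG hM hP
    have hK1 : K ≠ ⊥ := fun e => by
      obtain ⟨r, hr⟩ := hκ
      exact hKU.hall.2.2 r hr.1 hr (by rw [e, Subgroup.relIndex_bot_left]; exact hr.2.1)
    refine ⟨hK1, fun hU1 => ?_⟩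
    have hder : ⁅M, M⁆ = Cfsg.sigmaCore M := by rw [(S1365.result hG M hM K U hKU hK1).1, hU1, bot_sup_eq]
    have hVc := hP.U_compl
    rw [hder] at hVc
    by_cases hn : Group.IsNilpotent (Cfsg.sigmaCore M)
    · refine hV1 (le_bot_iff.mp (hVc.2.2.1 ▸ le_inf ?_ le_rfl))
      rw [fittingHallOf_eq_sigmaCore hG hM hn]
      exact hVc.2.1
    · obtain ⟨B, -, hB, -, -, hNB⟩ := exists_fittingHall_compl hG hM hKU.hall hn
      obtain ⟨w, hw, e⟩ := compl_conj (isSolvable_of_le (sigmaCore_le M) (isSolvable_of_ne_top hG hM.1))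
        (Nat.Coprime.coprime_dvd_right (Dvd.intro _ (Subgroup.relIndex_mul_relIndex _ _ _
          (fittingHallOf_le_sigmaCore hG hM) (sigmaCore_le M))) (fittingHallOf_hall M)) hVc hB
      exact hN (e ▸ normalizer_le_conj (sigmaCore_le M hw) hNB)
  · rintro ⟨hK1, hU1⟩
    obtain ⟨hUab, -, hπ, -⟩ := decomp_free hG hM hKU hK1
    obtain ⟨p, hp, hpd⟩ := Nat.exists_prime_and_dvd fun e => hU1 (Subgroup.card_eq_one.mp e)
    obtain ⟨hpσ, hpk⟩ := hπ p hp hpd
    have hpM := hpd.trans (Subgroup.card_dvd_of_le hKU.compl.1)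
    obtain ⟨hKp, hnil, -⟩ := compl_prime hG hM hKU.hall hK1 hp hpM hpσ hpk
    obtain ⟨hder, -⟩ := S1365.result hG M hM K U hKU hK1
    have hHW := fittingHallOf_eq_sigmaCore hG hM hnil
    set W := Cfsg.sigmaCore M with hW
    have hWM : W ≤ M := sigmaCore_le M
    have hUM : U ≤ M := hKU.compl.1
    have hcompl : IsComplIn W U ⁅M, M⁆ := by
      refine ⟨hder ▸ le_sup_right, hder ▸ le_sup_left, (Subgroup.disjoint_of_coprime_natCard
        (Nat.coprime_of_dvd fun q hq h1 h2 => (hπ q hq h2).1 (piCoreOf_primes _ M hq h1))).eq_bot, fun m hm => ?_⟩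
      rw [hder, sup_comm] at hm
      exact (mem_sup_of_le_normalizer (hUM.trans (le_normalizer_sigmaCore M))).mp hm
    refine ⟨K, U, _, typeP_data hG hM hKU hK1 (hHW.symm ▸ hcompl) nilpotent_of_commutative hKU.normal, hU1, hKp,
      fitting_ti hG hM hKU.hall hK1 hp hpM hpσ hpk, hUab, (S1363.result hG M hM K U hKU hK1).2, ?_, ?_⟩
    rotate_left
    all_goals
      have hDM : ⁅M, M⁆ ≤ M := Subgroup.commutator_le_self M
      have hWD : W ≤ ⁅M, M⁆ := hcompl.1
      have hidx : W.relIndex ⁅M, M⁆ = Nat.card U := relIndex_left_of_isComplIn hcompl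
      have hcop : (Nat.card W).Coprime (W.relIndex ⁅M, M⁆) := by
        rw [hidx]
        exact Nat.coprime_of_dvd fun q hq h1 h2 => (hπ q hq h2).1 (piCoreOf_primes _ M hq h1)
      have hF : Cfsg.fittingHallOf ⁅M, M⁆ = Cfsg.fittingHallOf M := by
        refine le_antisymm ?_ (hHW.le.trans (le_fittingHallOf_of_hall hWD
          (hDM.trans (le_normalizer_sigmaCore M)) hnil hcop))
        refine le_fittingHallOf_of_hall ((fittingHallOf_le _).trans hDM) ?_ (isNilpotent_fittingHallOf _) ?_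
        · haveI := fittingHall_characteristic ↥⁅M, M⁆
          exact (le_normalizer_commutator Subgroup.le_normalizer Subgroup.le_normalizer).trans
            (normalizer_le_normalizer_map_characteristic _)
        · refine Nat.coprime_of_dvd fun q hq h1 h2 => ?_
          rw [← Subgroup.relIndex_mul_relIndex _ _ _ (fittingHallOf_le _) hDM] at h2
          rcases hq.dvd_mul.mp h2 with h | h
          · exact hq.one_lt.ne' (Nat.eq_one_of_dvd_coprimes (fittingHallOf_hall _) h1 h)
          · have hkc := typeP_data hG hM hKU hK1 (hHW.symm ▸ hcompl) nilpotent_of_commutative hKU.normal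
            rw [relIndex_left_of_isComplIn hkc.W₁_compl] at h
            refine hq.one_lt.ne' (Nat.eq_one_of_dvd_coprimes hkc.W₁_hall h ?_)
            rw [relIndex_right_of_isComplIn hkc.W₁_compl]
            exact h1.trans (Subgroup.card_dvd_of_le (fittingHallOf_le _))
    · exact hF
    · set D := ⁅M, M⁆ with hD
      have hFD : (Cfsg.fittingHall ↥D).map D.subtype = W := hF.trans hHW
      have hmem : ∀ v : D, v ∈ Cfsg.fittingHall ↥D ↔ (v : G) ∈ W := fun v => by
        rw [← hFD]
        exact (Subgroup.mem_map_iff_mem D.subtype_injective).symm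
      obtain ⟨U₀, hU₀, hexp, hfree⟩ := S1360.result hG M hM K U hKU
      have hU₀D : U₀ ≤ D := hU₀.trans hcompl.2.1
      refine ⟨isSolvable_of_le hDM (isSolvable_of_ne_top hG hM.1), odd_card_subgroup hG D, fun e => ?_, fun e => ?_,
        U.subgroupOf D, fun e => hU1 ?_, ?_, ⟨U.subgroupOf D, le_rfl, Subgroup.le_normalizer, ?_, fun x _ _ => inf_le_left⟩,
        U₀.subgroupOf D, Subgroup.comap_mono hU₀, ?_, fun u hu hu1 x hx hux => ?_⟩
      · rw [e, Subgroup.map_bot] at hFD
        exact sigmaCore_ne_bot hG hM hFD.symm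
      · rw [e, ← MonoidHom.range_eq_map, Subgroup.range_subtype] at hFD
        exact hU1 (le_bot_iff.mp (hcompl.2.2.1 ▸ le_inf (hFD ▸ hcompl.2.1) le_rfl))
      · rw [← Subgroup.map_subgroupOf_eq_of_le hcompl.2.1, e, Subgroup.map_bot]
      · refine Subgroup.isComplement'_of_disjoint_and_mul_eq_univ (disjoint_iff.mpr ?_) ?_
        · refine (Subgroup.eq_bot_iff_forall _).mpr fun v hv => Subtype.ext ?_
          exact Subgroup.mem_bot.mp (hcompl.2.2.1 ▸ Subgroup.mem_inf.mpr ⟨(hmem v).mp hv.1, hv.2⟩)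
        · refine Set.eq_univ_of_forall fun v => ?_
          obtain ⟨a, ha, b, hb, e⟩ := hcompl.2.2.2 v v.2
          exact ⟨⟨a, hWD ha⟩, (hmem _).mpr ha, ⟨b, hcompl.2.1 hb⟩, hb, Subtype.ext e.symm⟩
      · exact ⟨⟨fun a b => Subtype.ext (Subtype.ext
          (congrArg (fun z : U => (z : G)) (hUab.is_comm.comm ⟨_, a.2⟩ ⟨_, b.2⟩) :))⟩⟩
      · rw [Monoid.exponent_eq_of_mulEquiv (Subgroup.subgroupOfEquivOfLe hU₀D),
          Monoid.exponent_eq_of_mulEquiv (Subgroup.subgroupOfEquivOfLe hcompl.2.1), hexp]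
      · by_contra hx1
        exact hu1 (Subtype.ext (hfree _ hu ⟨hUM (hU₀ hu), (x : G), (hmem x).mp hx, fun e => hx1 (Subtype.ext e),
          congrArg Subtype.val hux⟩))

end Cfsg.Agent.S1381
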