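import Cfsg.Statements.S1382
import Cfsg.Agent.Lib.OddLocal.KappaTypes
import Cfsg.Agent.S1363
import Cfsg.Agent.S1357

set_option autoImplicit false
set_option linter.style.haveILetI false
open Cfsg
open Cfsg.Agent.OddLocal
open Cfsg.Agent.Basics
open scoped commutatorElement Pointwise

namespace Cfsg.Agent.S1382

/-- Let G be a minimal simple group of odd order and M a maximal subgroup with standard factorisation M = K U M_σ. Then M is of Type III or of Type IV if and only if K ≠ 1, U = 1 and M_F ≠ M_σ. -/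
theorem result {G : Type*} [Group G] [Finite G] (hG : Cfsg.IsMinSimpleOddOrder G)
    (M : Subgroup G) (hM : IsCoatom M) (K U : Subgroup G) (hKU : Cfsg.IsSigmaDecomposition M K U) :
    (Cfsg.IsOfTypeIII M ∨ Cfsg.IsOfTypeIV M) ↔ (K ≠ ⊥ ∧ U = ⊥ ∧ Cfsg.fittingHallOf M ≠ Cfsg.sigmaCore M) := by
  constructor
  · intro h
    obtain ⟨W₁, V, W₂, hP, hV1, hN⟩ : ∃ W₁ V W₂ : Subgroup G, IsTypePWith M W₁ V W₂ ∧ V ≠ ⊥ ∧
        Subgroup.normalizer (V : Set G) ≤ M := by
      rcases h with ⟨W₁, V, W₂, hP, hV1, -, -, -, hN⟩ | ⟨W₁, V, W₂, hP, hV1, -, -, -, hN⟩ <;>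
        exact ⟨W₁, V, W₂, hP, hV1, hN⟩
    have hK1 : K ≠ ⊥ := fun e => by
      obtain ⟨r, hr⟩ := kappa_of_typeP hG hM hP
      exact hKU.hall.2.2 r hr.1 hr (by rw [e, Subgroup.relIndex_bot_left]; exact hr.2.1)
    have hne : Cfsg.fittingHallOf M ≠ Cfsg.sigmaCore M := by
      intro e
      obtain ⟨hder, -⟩ := S1365.result hG M hM K U hKU hK1
      have hVc := hP.U_compl
      rw [e] at hVc
      obtain ⟨-, -, hπ, -⟩ := decomp_free hG hM hKU hK1
      have hcompl : IsComplIn (Cfsg.sigmaCore M) U ⁅M, M⁆ := by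
        refine ⟨hder ▸ le_sup_right, hder ▸ le_sup_left, (Subgroup.disjoint_of_coprime_natCard
          (Nat.coprime_of_dvd fun q hq h1 h2 => (hπ q hq h2).1 (piCoreOf_primes _ M hq h1))).eq_bot, fun m hm => ?_⟩
        rw [hder, sup_comm] at hm
        exact (mem_sup_of_le_normalizer (hKU.compl.1.trans (le_normalizer_sigmaCore M))).mp hm
      obtain ⟨w, hw, ew⟩ := compl_conj (isSolvable_of_le (Subgroup.commutator_le_self M)
        (isSolvable_of_ne_top hG hM.1)) (by
          rw [relIndex_left_of_isComplIn hcompl]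
          exact Nat.coprime_of_dvd fun q hq h1 h2 => (hπ q hq h2).1 (piCoreOf_primes _ M hq h1)) hcompl hVc
      refine (S1363.result hG M hM K U hKU hK1).2 ?_
      rw [ew]
      exact normalizer_le_conj (Subgroup.commutator_le_self M hw) hN
    exact ⟨hK1, (S1357.result hG M hM K U hKU hne).1, hne⟩
  · rintro ⟨hK1, hU1, hne⟩
    have hn : ¬ Group.IsNilpotent (Cfsg.sigmaCore M) := fun h => hne (fittingHallOf_eq_sigmaCore hG hM h)
    obtain ⟨V, hV1, hV, hVn, hKV, hNV⟩ := exists_fittingHall_compl hG hM hKU.hall hn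
    obtain ⟨-, hTI, hKp⟩ := S1357.result hG M hM K U hKU hne
    have hder : ⁅M, M⁆ = Cfsg.sigmaCore M := by rw [(S1365.result hG M hM K U hKU hK1).1, hU1, bot_sup_eq]
    have hP := typeP_data hG hM hKU hK1 (hder.symm ▸ hV) hVn hKV
    by_cases hab : IsMulCommutative V
    · exact Or.inl ⟨K, V, _, hP, hV1, hKp, hTI, hab, hNV⟩
    · exact Or.inr ⟨K, V, _, hP, hV1, hKp, hTI, hab, hNV⟩

end Cfsg.Agent.S1382
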