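import Cfsg.Statements.S1383
import Cfsg.Agent.Lib.OddLocal.NonTI

set_option autoImplicit false
set_option linter.style.haveILetI false
open Cfsg
open Cfsg.Agent.OddLocal
open Cfsg.Agent.Basics
open scoped commutatorElement Pointwise

namespace Cfsg.Agent.S1383

/-- Let G be a minimal simple group of odd order and M a maximal subgroup with standard factorisation M = K U M_σ. Then M is of Type V if and only if K ≠ 1, U = 1 and M_F = M_σ. -/
theorem result {G : Type*} [Group G] [Finite G] (hG : Cfsg.IsMinSimpleOddOrder G)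
    (M : Subgroup G) (hM : IsCoatom M) (K U : Subgroup G) (hKU : Cfsg.IsSigmaDecomposition M K U) :
    Cfsg.IsOfTypeV M ↔ (K ≠ ⊥ ∧ U = ⊥ ∧ Cfsg.fittingHallOf M = Cfsg.sigmaCore M) := by
  constructor
  · rintro ⟨W₁, V, W₂, hP, hV1, -⟩
    have hK1 : K ≠ ⊥ := fun e => by
      obtain ⟨r, hr⟩ := kappa_of_typeP hG hM hP
      exact hKU.hall.2.2 r hr.1 hr (by rw [e, Subgroup.relIndex_bot_left]; exact hr.2.1)
    obtain ⟨-, hHσ, hσD, -, -⟩ := S1355.result hG M hM
    have hVc := hP.U_compl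
    rw [hV1] at hVc
    have hDH : ⁅M, M⁆ ≤ Cfsg.fittingHallOf M := fun m hm => by
      obtain ⟨a, ha, b, hb, rfl⟩ := hVc.2.2.2 m hm
      rwa [Subgroup.mem_bot.mp hb, mul_one]
    obtain ⟨hder, -⟩ := S1365.result hG M hM K U hKU hK1
    obtain ⟨-, -, hπ, -⟩ := decomp_free hG hM hKU hK1
    refine ⟨hK1, Subgroup.card_eq_one.mp (Nat.eq_one_iff_not_exists_prime_dvd.mpr fun q hq hd => ?_),
      le_antisymm hHσ (hσD.trans hDH)⟩
    exact (hπ q hq hd).1 (piCoreOf_primes _ M hq (hd.trans (Subgroup.card_dvd_of_le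
      (((hder.symm ▸ le_sup_left : U ≤ ⁅M, M⁆).trans hDH).trans hHσ))))
  · rintro ⟨hK1, hU1, heq⟩
    have hn : Group.IsNilpotent (Cfsg.sigmaCore M) := heq ▸ isNilpotent_fittingHallOf M
    have hder : ⁅M, M⁆ = Cfsg.sigmaCore M := by rw [(S1365.result hG M hM K U hKU hK1).1, hU1, bot_sup_eq]
    have hV : IsComplIn (Cfsg.fittingHallOf M) ⊥ ⁅M, M⁆ := by
      rw [hder, ← heq]
      exact ⟨le_rfl, bot_le, inf_bot_eq _, fun m hm => ⟨m, hm, 1, one_mem _, (mul_one m).symm⟩⟩
    have hbn : Group.IsNilpotent (⊥ : Subgroup G) := by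
      haveI : Subsingleton (⊥ : Subgroup G) := inferInstance
      infer_instance
    have hP := typeP_data hG hM hKU hK1 hV hbn (fun k _ => by
      rw [show Subgroup.normalizer ((⊥ : Subgroup G) : Set G) = ⊤ from Subgroup.normalizer_eq_top _]; exact Subgroup.mem_top k)
    refine ⟨K, ⊥, _, hP, rfl, ?_⟩
    by_cases hti : Cfsg.IsTISubset (Cfsg.fittingHallOf M : Set G)
    · exact Or.inl hti
    right
    obtain ⟨p, x, hp, hpt⟩ := exists_pt hG hM hn hti
    haveI := Fact.mk hp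
    have hcompl : IsComplIn K (Cfsg.sigmaCore M) M := by
      obtain ⟨hsup, -, -, hrest⟩ := hKU.compl
      refine ⟨hKU.hall.1, sigmaCore_le M, (Subgroup.disjoint_of_coprime_natCard (Nat.coprime_of_dvd
        fun q hq h1 h2 => (hKU.hall.2.1 q hq h1).2.2.1 (piCoreOf_primes _ M hq h2))).eq_bot, fun m hm => ?_⟩
      obtain ⟨u, hu, v, hv, rfl⟩ := hrest m hm
      rw [hU1, Subgroup.mem_bot] at hu
      subst hu
      rw [one_mul]
      rw [sup_comm] at hv
      exact (mem_sup_of_le_normalizer' (hKU.hall.1.trans (le_normalizer_sigmaCore M))).mp hv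
    obtain ⟨S, hS, hSH, hcyc, -, hcase⟩ := hpt.kappa_case hG hKU.hall hK1 hcompl
    have hpd : p ∣ Nat.card (Cfsg.sigmaCore M) := hpt.ord ▸ Subgroup.orderOf_dvd_natCard _ hpt.mem
    rcases hcase with h | ⟨h3, h⟩
    · exact Or.inl ⟨p, hp, heq ▸ hpd, h, by rw [heq]; exact hcyc⟩
    · refine Or.inr ⟨p, hp, heq ▸ hpd, ?_, h, by rw [heq]; exact hcyc⟩
      rw [heq]
      haveI := hn
      have hS' : IsSylowIn p (Cfsg.sigmaCore M) S :=
        ⟨hSH, by rw [hS.2, hallOf_factorization (sigmaCore_hall hG hM).1 hp hpt.sigma]⟩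
      obtain ⟨P, rfl⟩ := hS'.exists_sylow
      rw [Subgroup.card_map_of_injective (Cfsg.sigmaCore M).subtype_injective] at h3
      haveI : (P : Subgroup (Cfsg.sigmaCore M)).Normal :=
        Sylow.normal_of_normalizerCondition Group.normalizerCondition_of_isNilpotent P
      rw [le_antisymm (Basics.pCore_le_sylow p P) (Basics.le_pCore P.2)]
      exact h3

end Cfsg.Agent.S1383
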