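import Cfsg.Statements.S1384
import Cfsg.Agent.Lib.OddLocal.HallFusion
import Cfsg.Agent.Lib.OddLocal.KappaA0
import Cfsg.Agent.Lib.OddLocal.SigmaTilde

set_option autoImplicit false
set_option linter.style.haveILetI false
open Cfsg
open Cfsg.Agent.OddLocal
open Cfsg.Agent.Basics
open scoped commutatorElement Pointwise

namespace Cfsg.Agent.S1384

/-- Let G be a minimal simple group of odd order and H a nilpotent subgroup whose order is coprime to its index. If x ∈ H and gxg⁻¹ ∈ H for some g ∈ G, then nxn⁻¹ = gxg⁻¹ for some n in the normalizer of H. -/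
theorem result {G : Type*} [Group G] [Finite G] (hG : Cfsg.IsMinSimpleOddOrder G)
    (H : Subgroup G) (hHn : Group.IsNilpotent H) (hHall : (Nat.card H).Coprime H.index) :
    ∀ x ∈ H, ∀ g : G, g * x * g⁻¹ ∈ H → ∃ n ∈ Subgroup.normalizer (H : Set G), n * x * n⁻¹ = g * x * g⁻¹ := by
  intro x hx g hgx
  rcases eq_or_ne H ⊥ with hH1 | hH1
  · rw [hH1, Subgroup.mem_bot] at hx
    exact ⟨1, one_mem _, by rw [hx]; group⟩
  obtain ⟨p, hp, hpd⟩ := Nat.exists_prime_and_dvd fun e => hH1 (Subgroup.card_eq_one.mp e)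
  haveI := Fact.mk hp
  obtain ⟨P, hP⟩ := exists_sylowIn (q := p) H
  have hPn : H ≤ Subgroup.normalizer (P : Set G) := by
    refine hall_normal_of_nilpotent hHn hP.1 fun r hr hd hd' => ?_
    obtain rfl : r = p := (Nat.prime_dvd_prime_iff_eq hr hp).mp (hr.dvd_of_dvd_pow (hP.2 ▸ hd))
    have h := Subgroup.relIndex_mul_relIndex ⊥ P H bot_le hP.1
    rw [Subgroup.relIndex_bot_left, Subgroup.relIndex_bot_left, hP.2] at h
    have h2 : r ^ ((Nat.card H).factorization r + 1) ∣ Nat.card H := by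
      have h3 := mul_dvd_mul_left (r ^ (Nat.card H).factorization r) hd'
      rwa [h, ← pow_succ] at h3
    exact Nat.pow_succ_factorization_not_dvd Nat.card_pos.ne' hr h2
  have hHtop : H ≠ ⊤ := fun e => by
    haveI := hHn
    haveI : Group.IsNilpotent G := Group.nilpotent_of_mulEquiv
      ((MulEquiv.subgroupCongr e).trans Subgroup.topEquiv)
    haveI := hG.2.1
    haveI : Nontrivial G := hG.2.1.toNontrivial
    have h := (Subgroup.Normal.eq_bot_or_eq_top (H := Subgroup.center G) inferInstance).resolve_left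
      (Group.IsNilpotent.center_ne_bot G)
    exact hG.2.2.1 ⟨⟨fun a b => (Subgroup.mem_center_iff.mp (h.symm ▸ Subgroup.mem_top b) a)⟩⟩
  have hP1 : P ≠ ⊥ := fun e => by
    have h := hP.2
    rw [e, Subgroup.card_bot] at h
    exact (Nat.one_lt_pow (hp.factorization_pos_of_dvd Nat.card_pos.ne' hpd).ne' hp.one_lt).ne h
  obtain ⟨M, hM, hNM⟩ := exists_maximal_ge (normalizer_ne_top hG hP1 fun e => hHtop (top_le_iff.mp (e ▸ hP.1)))
  have hHM : H ≤ M := hPn.trans hNM
  have hfull : ∀ (r : ℕ) [Fact r.Prime] (R : Subgroup G), r ∣ Nat.card H → IsSylowIn r H R → IsSylowIn r M R := by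
    intro r hr R hd hR
    refine ⟨hR.1.trans hHM, ?_⟩
    rw [hR.2]
    congr 1
    refine le_antisymm ((Nat.factorization_le_iff_dvd Nat.card_pos.ne' Nat.card_pos.ne').mpr
      (Subgroup.card_dvd_of_le hHM) r) ?_
    have h : (Nat.card G).factorization r = (Nat.card H).factorization r := by
      rw [← Subgroup.card_mul_index H, Nat.factorization_mul Nat.card_pos.ne' Subgroup.index_ne_zero_of_finite,
        Finsupp.add_apply, Nat.factorization_eq_zero_of_not_dvd (n := H.index)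
          fun h' => Nat.not_coprime_of_dvd_of_dvd hr.out.one_lt hd h' hHall, add_zero]
    exact h ▸ (Nat.factorization_le_iff_dvd Nat.card_pos.ne' Nat.card_pos.ne').mpr (Subgroup.card_subgroup_dvd_card M) r
  have hPM := hfull p P hpd hP
  have hpσ : p ∈ Cfsg.sigma M := mem_sigma_of_normalizer_le hPM hP1 hNM
  have hPW : P ≤ Cfsg.sigmaCore M := pGroup_le_sigmaCore hG hM hpσ hP.isPGroup hPM.1
  obtain ⟨y, hy, hy1⟩ := (Subgroup.bot_or_exists_ne_one P).resolve_left hP1
  have hπ : ∀ r : ℕ, r.Prime → r ∣ Nat.card H → r ∈ Cfsg.sigma M := by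
    intro r hr hrd
    by_contra hrσ
    haveI := Fact.mk hr
    obtain ⟨R, hR⟩ := exists_sylowIn (q := r) H
    have hne : r ≠ p := fun e => hrσ (e ▸ hpσ)
    have hRP : R ≤ Subgroup.centralizer (P : Set G) :=
      le_centralizer_of_isNilpotent hHn hR.1 hP.1 (coprime_of_pGroups hne hR.isPGroup hP.isPGroup)
    have hRM := hfull r R hrd hR
    by_cases h1 : PRankLE r 1 M
    · have hdR : r ∣ Nat.card R := by
        rw [hRM.2]
        exact dvd_pow_self r (hr.factorization_pos_of_dvd Nat.card_pos.ne' (hrd.trans (Subgroup.card_dvd_of_le hHM))).ne'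
      obtain ⟨k₀, hk₀⟩ := exists_prime_orderOf_dvd_card' r hdR
      rw [← Subgroup.orderOf_coe] at hk₀
      have hrk : r ∈ Cfsg.kappa M := mem_kappa_of_fixed hG hr hrσ h1 (hRM.1 k₀.2) hk₀
        ⟨hRM.1 k₀.2, y, hPW hy, hy1, (Subgroup.mem_centralizer_iff.mp (hRP k₀.2) y hy).symm⟩
      exact kappa_not_centralize_sylow hG hM (hRM.1 k₀.2) hr hk₀ hrk hpσ hPM fun a ha =>
        Subgroup.mem_centralizer_singleton_iff.mpr (Subgroup.mem_centralizer_iff.mp (hRP k₀.2) a ha)
    · obtain ⟨B, hBM, hB, hBc⟩ := exists_ea_of_not_pRankLE_one h1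
      have hB2 := ea_card_eq_sq (pRankLE_two_of_not_mem_sigma hG hM hrσ) hB hBM hBc
      obtain ⟨T, hT, hBT⟩ := exists_sylowIn_ge (isPGroup_of_exponent hB.2) hBM
      obtain ⟨m, -, em⟩ := hT.exists_conj hRM
      have hAR : MulAut.conj m • B ≤ R := em ▸ Subgroup.pointwise_smul_le_pointwise_smul_iff.mpr hBT
      obtain ⟨A₁, hA⟩ := exists_exc hG hM hrσ (hAR.trans hRM.1) (ea_map hB _) ((Basics.card_conj_smul m B).trans hB2)
      have hy' : y ∈ Cfsg.sigmaCore M ⊓ Subgroup.centralizer ((MulAut.conj m • B : Subgroup G) : Set G) :=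
        Subgroup.mem_inf.mpr ⟨hPW hy, Subgroup.mem_centralizer_iff.mpr fun a ha =>
          (Subgroup.mem_centralizer_iff.mp (hRP (hAR ha)) y hy).symm⟩
      rw [hA.centralizer_eq_bot hG, Subgroup.mem_bot] at hy'
      exact hy1 hy'
  have hHW : H ≤ Cfsg.sigmaCore M := sigma_le_core hG hM hHM hπ
  obtain ⟨n, hn, e⟩ := hall_fusion hG hM hHW (hHall.coprime_dvd_right
    (Subgroup.relIndex_dvd_index_of_le hHW)) hx hgx
  exact ⟨n, hn.2, e⟩

end Cfsg.Agent.S1384
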