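import Cfsg.Statements.S1386
import Cfsg.Agent.Lib.OddLocal.Basic

set_option autoImplicit false
open Cfsg

namespace Cfsg.Agent.S1386

/-- Let G be a finite group, W₁, W₂ subgroups forming a self-normalizing cyclic pair, S a subgroup with W₂ ≤ S and W₁ a complement to S' in S, and (W₁, U, W₂') type-P data for S. Then W₂' = W₂ (that is, C_{S'}(W₁) = W₂). -/
theorem result {G : Type*} [Group G] [Finite G] (W₁ W₂ S U W₂' : Subgroup G) (hW : Cfsg.IsSelfNormalizingCyclic W₁ W₂)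
    (hSW : Cfsg.IsComplIn ⁅S, S⁆ W₁ S) (hW₂S : W₂ ≤ S) (hP : Cfsg.IsTypePWith S W₁ U W₂') :
    W₂' = W₂ := by
  obtain ⟨hW1, hW2, hdisj, hcomm, hcyc, hnorm⟩ := hW
  obtain ⟨-, -, hdisj', hcomm', hcyc', -⟩ := hP.selfNormalizing
  obtain ⟨a, ha, ha1⟩ := W₁.ne_bot_iff_exists_ne_one.mp hW1 |> fun ⟨⟨a, ha⟩, h⟩ => (⟨a, ha, fun e => h (Subtype.ext e)⟩ : ∃ a ∈ W₁, a ≠ 1)
  obtain ⟨b, hb, hb1⟩ := W₂.ne_bot_iff_exists_ne_one.mp hW2 |> fun ⟨⟨b, hb⟩, h⟩ => (⟨b, hb, fun e => h (Subtype.ext e)⟩ : ∃ b ∈ W₂, b ≠ 1)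
  have hwA : a * b ∉ W₁ := fun h => hb1 (Subgroup.mem_bot.mp (hdisj ▸ ⟨(Subgroup.mul_mem_cancel_left W₁ ha).mp h, hb⟩))
  have hwB : a * b ∉ W₂ := fun h => ha1 (Subgroup.mem_bot.mp (hdisj ▸ ⟨ha, (Subgroup.mul_mem_cancel_right W₂ hb).mp h⟩))
  have hw : a * b ∈ W₁ ⊔ W₂ := mul_mem (Subgroup.mem_sup_left ha) (Subgroup.mem_sup_right hb)
  have hN := hnorm {a * b} (by simpa using ⟨hw, hwA, hwB⟩) (Set.singleton_nonempty _)
  have hab : ∀ x ∈ W₁ ⊔ W₂, ∀ y ∈ W₁ ⊔ W₂, x * y = y * x := fun x hx y hy =>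
    congrArg Subtype.val ((IsCyclic.isMulCommutative (α := ↥(W₁ ⊔ W₂))).is_comm.comm ⟨x, hx⟩ ⟨y, hy⟩)
  have hab' : ∀ x ∈ W₁ ⊔ W₂', ∀ y ∈ W₁ ⊔ W₂', x * y = y * x := fun x hx y hy =>
    congrArg Subtype.val ((IsCyclic.isMulCommutative (α := ↥(W₁ ⊔ W₂'))).is_comm.comm ⟨x, hx⟩ ⟨y, hy⟩)
  have hsub : ∀ y ∈ W₂, ∃ k ∈ W₁, ∃ c ∈ W₂', y = c * k := by
    intro y hy
    obtain ⟨c, hc, k, hk, he⟩ := hSW.2.2.2 y (hW₂S hy)
    refine ⟨k, hk, c, ?_, he⟩
    rw [← hP.W₂_centralizer a ha ha1]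
    refine ⟨hc, Subgroup.mem_centralizer_singleton_iff.mpr ?_⟩
    have hcW : c ∈ W₁ ⊔ W₂ := by
      have : c = y * k⁻¹ := eq_mul_inv_of_mul_eq he.symm
      rw [this]; exact mul_mem (Subgroup.mem_sup_right hy) (inv_mem (Subgroup.mem_sup_left hk))
    exact hab _ hcW _ (Subgroup.mem_sup_left ha)
  have hle : W₁ ⊔ W₂ ≤ W₁ ⊔ W₂' := by
    refine sup_le le_sup_left fun y hy => ?_
    obtain ⟨k, hk, c, hc, rfl⟩ := hsub y hy
    exact mul_mem (Subgroup.mem_sup_right hc) (Subgroup.mem_sup_left hk)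
  have hge : W₁ ⊔ W₂' ≤ W₁ ⊔ W₂ := by
    intro x hx
    rw [← hN, Subgroup.mem_set_normalizer_iff]
    intro n
    have h := hab' x hx _ (hle hw)
    simp only [Set.mem_singleton_iff]
    constructor
    · rintro rfl; rw [h, mul_inv_cancel_right]
    · intro e; exact mul_left_cancel (mul_right_cancel (e.trans (by rw [h, mul_inv_cancel_right])))
  have : IsCyclic ↥(W₁ ⊔ W₂) := hcyc
  have hc1 := Cfsg.Agent.OddLocal.coprime_card_of_disjoint_of_le_cyclic (W := W₁ ⊔ W₂) le_sup_left le_sup_right hdisj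
  have hc2 := Cfsg.Agent.OddLocal.coprime_card_of_disjoint_of_le_cyclic (W := W₁ ⊔ W₂) le_sup_left (le_sup_right.trans hge) hdisj'
  have key : ∀ k ∈ W₁, ∀ y ∈ W₂, ∀ c ∈ W₂', y = c * k → k = 1 := by
    intro k hk y hy c hc he
    have hk' : k = c⁻¹ * y := by rw [he, inv_mul_cancel_left]
    have h1 : k ^ (Nat.card W₂ * Nat.card W₂') = 1 := by
      have hcW : c⁻¹ ∈ W₁ ⊔ W₂ := hge (Subgroup.mem_sup_right (inv_mem hc))
      rw [hk', (show Commute c⁻¹ y from hab _ hcW _ (Subgroup.mem_sup_right hy)).mul_pow]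
      have e1 : y ^ Nat.card W₂ = 1 := congrArg Subtype.val (pow_card_eq_one' (G := W₂) (x := ⟨y, hy⟩))
      have e2 : c⁻¹ ^ Nat.card W₂' = 1 := congrArg Subtype.val (pow_card_eq_one' (G := W₂') (x := ⟨_, inv_mem hc⟩))
      rw [pow_mul y, e1, one_pow, mul_one, pow_mul', e2, one_pow]
    have h2 : k ^ Nat.card W₁ = 1 := congrArg Subtype.val (pow_card_eq_one' (G := W₁) (x := ⟨k, hk⟩))
    have h3 : k ^ Nat.gcd (Nat.card W₁) (Nat.card W₂ * Nat.card W₂') = 1 := pow_gcd_eq_one.mpr ⟨h2, h1⟩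
    rwa [(hc1.mul_right hc2 : Nat.Coprime _ _).gcd_eq_one, pow_one] at h3
  apply le_antisymm
  · intro c hc
    obtain ⟨k, hk, y, hy, he⟩ : ∃ k ∈ W₁, ∃ y ∈ W₂, c = k * y := by
      have := hge (Subgroup.mem_sup_right hc)
      rw [← SetLike.mem_coe, Subgroup.coe_mul_of_left_le_normalizer_right W₁ W₂ ?_] at this
      · obtain ⟨k, hk, y, hy, he⟩ := this; exact ⟨k, hk, y, hy, he.symm⟩
      · intro x hx
        rw [Subgroup.mem_normalizer_iff]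
        intro n
        constructor
        · intro hn
          rwa [hcomm x hx n hn, mul_inv_cancel_right]
        · intro hn
          have := hcomm x hx _ hn
          have e : n = x * n * x⁻¹ := by
            have h' : x⁻¹ * (x * (x * n * x⁻¹)) = x⁻¹ * (x * n * x⁻¹ * x) := congrArg (x⁻¹ * ·) this
            simpa [mul_assoc] using h'.symm
          rwa [e]
    have hk1 : k⁻¹ = 1 := key _ (inv_mem hk) y hy c hc (by rw [hab _ (hge (Subgroup.mem_sup_right hc)) _ (inv_mem (Subgroup.mem_sup_left hk)), he, inv_mul_cancel_left])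
    rw [inv_eq_one] at hk1
    rw [he, hk1, one_mul]; exact hy
  · intro y hy
    obtain ⟨k, hk, c, hc, he⟩ := hsub y hy
    rw [he, key k hk y hy c hc he, mul_one]; exact hc

end Cfsg.Agent.S1386
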