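import Cfsg.Statements.S1387
import Cfsg.Agent.Lib.OddLocal.Basic

set_option autoImplicit false
open Cfsg

namespace Cfsg.Agent.S1387

/-- Let M be a subgroup of a finite group G with type-P data (W₁, U, W₂) and H = M_F. Then the Fitting subgroup F(M) is generated by H and the centralizer of H in U. -/
theorem result {G : Type*} [Group G] [Finite G] (M W₁ U W₂ : Subgroup G) (hP : Cfsg.IsTypePWith M W₁ U W₂) :
    Cfsg.fittingOf M = Cfsg.fittingHallOf M ⊔ (U ⊓ Subgroup.centralizer (Cfsg.fittingHallOf M : Set G)) := by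
  have hM'M : ⁅M, M⁆ ≤ M := Subgroup.commutator_le_self M
  have hcop : (Nat.card (fittingHallOf M)).Coprime (Nat.card U) := by
    rw [← Cfsg.Agent.OddLocal.relIndex_left_of_isComplIn hP.U_compl]
    exact (Cfsg.Agent.OddLocal.fittingHallOf_hall M).coprime_dvd_right
      (Dvd.intro _ (Subgroup.relIndex_mul_relIndex _ _ _ hP.U_compl.1 hM'M))
  rw [← hP.fitting_eq]
  refine le_antisymm (sup_le le_sup_left ?_) (sup_le_sup_left (inf_le_inf_right _ (hP.U_compl.2.1.trans hM'M)) _)
  intro x hx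
  have hxM' : x ∈ ⁅M, M⁆ := hP.fitting_le (hP.fitting_eq ▸ Subgroup.mem_sup_right hx)
  obtain ⟨h, hh, u, hu, he⟩ := hP.U_compl.2.2.2 x hxM'
  rw [he]
  exact mul_mem (Subgroup.mem_sup_left hh) (Subgroup.mem_sup_right
    ⟨hu, Cfsg.Agent.OddLocal.left_factor_mem_centralizer hh hu he hx.2 hcop⟩)

end Cfsg.Agent.S1387
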