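import Cfsg.Statements.S1388
import Cfsg.Agent.Lib.OddLocal.Basic

set_option autoImplicit false
open Cfsg

namespace Cfsg.Agent.S1388

/-- Let M be a subgroup of a finite group G with type-P data (W₁, U, W₂) and H = M_F. Then the derived subgroup of U centralizes H, and if U ≠ 1 then U does not centralize H. -/
theorem result {G : Type*} [Group G] [Finite G] (M W₁ U W₂ : Subgroup G) (hP : Cfsg.IsTypePWith M W₁ U W₂) :
    ⁅U, U⁆ ≤ Subgroup.centralizer (Cfsg.fittingHallOf M : Set G) ∧ (U ≠ ⊥ → ¬ U ≤ Subgroup.centralizer (Cfsg.fittingHallOf M : Set G)) := by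
  have hM'M : ⁅M, M⁆ ≤ M := Subgroup.commutator_le_self M
  have hrel := Cfsg.Agent.OddLocal.relIndex_left_of_isComplIn hP.U_compl
  have hcop : (Nat.card (fittingHallOf M)).Coprime (Nat.card U) := by
    rw [← hrel]
    exact (Cfsg.Agent.OddLocal.fittingHallOf_hall M).coprime_dvd_right
      (Dvd.intro _ (Subgroup.relIndex_mul_relIndex _ _ _ hP.U_compl.1 hM'M))
  have hUM : U ≤ M := hP.U_compl.2.1.trans hM'M
  refine ⟨?_, ?_⟩
  · intro y hy
    have hyU : y ∈ U := Subgroup.commutator_le_self U hy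
    have hy2 := hP.derived_two_le (Subgroup.commutator_mono hP.U_compl.2.1 hP.U_compl.2.1 hy)
    rw [← SetLike.mem_coe, Subgroup.coe_mul_of_right_le_normalizer_left _ _
      (inf_le_left.trans (Cfsg.Agent.OddLocal.le_normalizer_fittingHallOf M))] at hy2
    obtain ⟨h, hh, c, hc, he⟩ := hy2
    obtain ⟨h', hh', u, hu, he'⟩ := hP.U_compl.2.2.2 c
      (hP.fitting_le (hP.fitting_eq ▸ Subgroup.mem_sup_right hc))
    have hcu := Cfsg.Agent.OddLocal.left_factor_mem_centralizer hh' hu he' hc.2 hcop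
    have h1 : h * h' = y * u⁻¹ := by
      have he2 : h * c = y := he
      rw [← he2, he']; group
    have : h * h' ∈ fittingHallOf M ⊓ U := ⟨(fittingHallOf M).mul_mem hh hh', h1 ▸ U.mul_mem hyU (U.inv_mem hu)⟩
    rw [hP.U_compl.2.2.1, Subgroup.mem_bot] at this
    rw [this] at h1
    rw [mul_inv_eq_one.mp h1.symm]; exact hcu
  · intro hU hUC
    apply hU
    have hUN : M ≤ Subgroup.normalizer (U : Set G) := by
      intro m hm
      obtain ⟨d, hd, w, hw, rfl⟩ := hP.W₁_compl.2.2.2 m hm
      refine mul_mem ?_ (hP.U_normal hw)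
      obtain ⟨h, hh, u, hu, rfl⟩ := hP.U_compl.2.2.2 d hd
      refine mul_mem ?_ (Subgroup.le_normalizer hu)
      rw [Subgroup.mem_normalizer_iff]
      intro n
      have key : ∀ v ∈ U, ∀ g ∈ fittingHallOf M, g * v * g⁻¹ = v := fun v hv g hg => by
        rw [Subgroup.mem_centralizer_iff.mp (hUC hv) g hg, mul_inv_cancel_right]
      refine ⟨fun hn => by rwa [key n hn h hh], fun hn => ?_⟩
      have := key _ hn h⁻¹ (inv_mem hh)
      have e : n = h * n * h⁻¹ := by simpa [mul_assoc] using this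
      rwa [e]
    have : (U.subgroupOf M).Normal := (Subgroup.normal_subgroupOf_iff_le_normalizer hUM).mpr hUN
    have hle : U.subgroupOf M ≤ fittingHall ↥M := by
      refine le_sSup ⟨this, ?_, ?_⟩
      · exact (Group.isNilpotent_congr (Subgroup.subgroupOfEquivOfLe hUM)).mpr hP.U_nilpotent
      · rw [Nat.card_congr (Subgroup.subgroupOfEquivOfLe hUM).toEquiv]
        change (Nat.card U).Coprime (U.relIndex M)
        rw [← Subgroup.relIndex_mul_relIndex U ⁅M, M⁆ M hP.U_compl.2.1 hM'M,
          Cfsg.Agent.OddLocal.relIndex_right_of_isComplIn hP.U_compl,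
          Cfsg.Agent.OddLocal.relIndex_left_of_isComplIn hP.W₁_compl]
        refine hcop.symm.mul_right ?_
        have h := hP.W₁_hall
        rw [Cfsg.Agent.OddLocal.relIndex_right_of_isComplIn hP.W₁_compl] at h
        exact (h.coprime_dvd_right (Subgroup.card_dvd_of_le hP.U_compl.2.1)).symm
    have : U ≤ fittingHallOf M := by
      rw [← Subgroup.map_subgroupOf_eq_of_le hUM]; exact Subgroup.map_mono hle
    rw [eq_bot_iff, ← hP.U_compl.2.2.1]
    exact le_inf this le_rfl

end Cfsg.Agent.S1388
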