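import Cfsg.Statements.S1389
import Cfsg.Agent.Lib.OddLocal.KappaTypes
import Cfsg.Agent.S1382

set_option autoImplicit false
set_option linter.style.haveILetI false
open Cfsg
open Cfsg.Agent.OddLocal
open Cfsg.Agent.Basics
open scoped commutatorElement Pointwise

namespace Cfsg.Agent.S1389

/-- Let G be a minimal simple group of odd order and M a maximal subgroup, and let M_s be M' if M is of Type III or IV and M_F otherwise. Then N_G(P) ≤ M for every nontrivial Sylow subgroup P of M_s, and both M_F and M_s have order coprime to their index in G. -/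
theorem result {G : Type*} [Group G] [Finite G] (hG : Cfsg.IsMinSimpleOddOrder G)
    (M : Subgroup G) (hM : IsCoatom M) :
    (∀ (p : ℕ), p.Prime → ∀ (P : Sylow p ↥(Cfsg.typeCore M)), (P : Subgroup ↥(Cfsg.typeCore M)) ≠ ⊥ →
        Subgroup.normalizer ((((P : Subgroup ↥(Cfsg.typeCore M)).map (Cfsg.typeCore M).subtype : Subgroup G)) : Set G) ≤ M) ∧
      (Nat.card (Cfsg.fittingHallOf M)).Coprime (Cfsg.fittingHallOf M).index ∧
      (Nat.card (Cfsg.typeCore M)).Coprime (Cfsg.typeCore M).index := by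
  have hcore : Cfsg.typeCore M = Cfsg.sigmaCore M := by
    obtain ⟨K, hK⟩ := exists_kappa_hall hG hM
    obtain ⟨U, hU⟩ := exists_decomp hG hM hK
    unfold Cfsg.typeCore
    split_ifs with h
    · obtain ⟨hK1, hU1, -⟩ := (S1382.result hG M hM K U hU).mp h
      rw [(S1365.result hG M hM K U hU hK1).1, hU1, bot_sup_eq]
    · by_contra hne
      obtain ⟨q, -, -, -, hK1, -⟩ := p1_full hG hM hK fun hn => hne (fittingHallOf_eq_sigmaCore hG hM hn)
      exact h ((S1382.result hG M hM K U hU).mpr ⟨hK1, (S1357.result hG M hM K U hU hne).1, hne⟩)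
  have hWM : Cfsg.sigmaCore M ≤ M := sigmaCore_le M
  have hHW := fittingHallOf_le_sigmaCore hG hM
  have hσ := (sigmaCore_hall hG hM).1
  have hGidx : ∀ q : ℕ, q.Prime → q ∈ Cfsg.sigma M → ∀ H : Subgroup G, H ≤ M → ¬ q ∣ H.relIndex M → ¬ q ∣ H.index := by
    intro q hq hqσ H hHM hn hd
    haveI := Fact.mk hq
    rw [← Subgroup.relIndex_mul_index hHM] at hd
    exact (hq.dvd_mul.mp hd).elim hn (sigma_not_dvd_index hG hM hqσ)
  rw [hcore]
  refine ⟨fun p hp P hP1 => ?_, Nat.coprime_of_dvd fun q hq h1 h2 => ?_, Nat.coprime_of_dvd fun q hq h1 h2 => ?_⟩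
  · haveI := Fact.mk hp
    have hPs := Basics.isSylowIn_map P
    have hpd : p ∣ Nat.card (Cfsg.sigmaCore M) :=
      ((P.2).card_eq_or_dvd.resolve_left fun e => hP1 (Subgroup.card_eq_one.mp e)).trans
        (Subgroup.card_subgroup_dvd_card _)
    have hpσ : p ∈ Cfsg.sigma M := piCoreOf_primes _ M hp hpd
    have hPM : IsSylowIn p M ((P : Subgroup ↥(Cfsg.sigmaCore M)).map (Cfsg.sigmaCore M).subtype) :=
      ⟨hPs.1.trans hWM, by rw [hPs.2, hallOf_factorization hσ hp hpσ]⟩
    obtain ⟨P', hP'⟩ := hPM.exists_sylow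
    exact hP' ▸ sigma_normalizer_le hG hM hpσ P'
  · exact hGidx q hq (piCoreOf_primes _ M hq (h1.trans (Subgroup.card_dvd_of_le hHW))) _ (hHW.trans hWM)
      (fun h => hq.one_lt.ne' (Nat.eq_one_of_dvd_coprimes (fittingHallOf_hall M) h1 h)) h2
  · exact hGidx q hq (piCoreOf_primes _ M hq h1) _ hWM (fun h => hσ.2.2 q hq (piCoreOf_primes _ M hq h1) h) h2

end Cfsg.Agent.S1389
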