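import Cfsg.Statements.S1390
import Cfsg.Agent.Lib.OddLocal.TypeI
import Cfsg.Agent.S1382
import Cfsg.Agent.S1381
import Cfsg.Agent.S1362
import Cfsg.Agent.S1361
import Cfsg.Agent.S1358

set_option autoImplicit false
set_option linter.style.haveILetI false
open Cfsg
open Cfsg.Agent.OddLocal
open Cfsg.Agent.Basics
open scoped commutatorElement Pointwise

namespace Cfsg.Agent.S1390

/-- Let G be a minimal simple group of odd order, M a maximal subgroup and H = M_F; suppose M is of Type I and U is a complement to H in M, or M is of Type II and U is a complement to H in M'. Then every Sylow subgroup of U is abelian with no elementary abelian subgroup of order p ^ 3; for every nonempty set X of non-identity elements of U centralizing a non-identity element of H, C_G(X) ≤ M and M is the unique maximal subgroup containing C_G(X); and A(M) with A₁(M) removed is a TI-subset of G. -/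
theorem result {G : Type*} [Group G] [Finite G] (hG : Cfsg.IsMinSimpleOddOrder G)
    (M : Subgroup G) (hM : IsCoatom M) (U : Subgroup G)
    (hU : (Cfsg.IsOfTypeI M ∧ Cfsg.IsComplIn (Cfsg.fittingHallOf M) U M) ∨ (Cfsg.IsOfTypeII M ∧ Cfsg.IsComplIn (Cfsg.fittingHallOf M) U ⁅M, M⁆)) :
    (∀ (p : ℕ), p.Prime → ∀ P : Sylow p U, IsMulCommutative (P : Subgroup U) ∧ Cfsg.PRankLE p 2 (P : Subgroup U)) ∧
      (∀ X : Set G, X ⊆ (U : Set G) \ {1} → X.Nonempty → Cfsg.fittingHallOf M ⊓ Subgroup.centralizer X ≠ ⊥ →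
        Subgroup.centralizer X ≤ M ∧ ∀ L : Subgroup G, IsCoatom L → Subgroup.centralizer X ≤ L → L = M) ∧
      Cfsg.IsTISubset (Cfsg.typeA M \ Cfsg.typeA1 M) := by
  obtain ⟨K₀, hK₀⟩ := exists_kappa_hall hG hM
  obtain ⟨U₀, hKU₀⟩ := exists_decomp hG hM hK₀
  obtain ⟨K, hKU, hH, hsup, hA⟩ : ∃ K : Subgroup G, Cfsg.IsSigmaDecomposition M K U ∧
      Cfsg.fittingHallOf M = Cfsg.sigmaCore M ∧ Cfsg.typeCore M = Cfsg.fittingHallOf M ∧
      Cfsg.typeA M = {a | a ∈ U ⊔ Cfsg.sigmaCore M ∧ a ≠ 1 ∧ ∃ x ∈ Cfsg.sigmaCore M, x ≠ 1 ∧ a * x = x * a} := by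
    have hcore : ∀ {K' U' : Subgroup G}, Cfsg.IsSigmaDecomposition M K' U' →
        Cfsg.fittingHallOf M = Cfsg.sigmaCore M → Cfsg.typeCore M = Cfsg.fittingHallOf M := by
      intro K' U' h hH
      rw [Cfsg.typeCore, if_neg]
      intro h34
      exact ((S1382.result hG M hM K' U' h).mp h34).2.2 hH
    rcases hU with ⟨hI, hUc⟩ | ⟨hII, hUc⟩
    · obtain ⟨hK, -, hH⟩ := typeI_kappa hG hM hKU₀ hI
      have hc₀ : IsComplIn (Cfsg.fittingHallOf M) U₀ M := by
        obtain ⟨hUM, -, hdis, hrest⟩ := hKU₀.compl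
        rw [hH]
        rw [hK, bot_sup_eq] at hdis hrest
        refine ⟨sigmaCore_le M, hUM, by rw [inf_comm]; exact hdis, fun m hm => ?_⟩
        obtain ⟨a, ha, b, hb, rfl⟩ := hrest m hm
        exact (mem_sup_of_le_normalizer (hUM.trans (le_normalizer_sigmaCore M))).mp
          (mul_mem (Subgroup.mem_sup_right ha) (Subgroup.mem_sup_left hb))
      obtain ⟨w, hw, e⟩ := compl_conj (isSolvable_of_ne_top hG hM.1) (fittingHallOf_hall M) hUc hc₀
      have hKU : Cfsg.IsSigmaDecomposition M _ U := e ▸ decomp_conj hKU₀ hw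
      refine ⟨_, hKU, hH, hcore hKU hH, ?_⟩
      have hMeq : U ⊔ Cfsg.sigmaCore M = M := by
        refine le_antisymm (sup_le hUc.2.1 (sigmaCore_le M)) fun m hm => ?_
        obtain ⟨a, ha, b, hb, rfl⟩ := hUc.2.2.2 m hm
        exact mul_mem (Subgroup.mem_sup_right (hH ▸ ha)) (Subgroup.mem_sup_left hb)
      rw [Cfsg.typeA, if_pos hI, hMeq, hH]
    · obtain ⟨hK, hU₀⟩ := (S1381.result hG M hM K₀ U₀ hKU₀).mp hII
      obtain ⟨-, -, hπ, -⟩ := decomp_free hG hM hKU₀ hK
      obtain ⟨p, hp, hpd⟩ := Nat.exists_prime_and_dvd fun e => hU₀ (Subgroup.card_eq_one.mp e)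
      obtain ⟨hpσ, hpk⟩ := hπ p hp hpd
      obtain ⟨-, hnil, -⟩ := compl_prime hG hM hKU₀.hall hK hp
        (hpd.trans (Subgroup.card_dvd_of_le hKU₀.compl.1)) hpσ hpk
      have hH := fittingHallOf_eq_sigmaCore hG hM hnil
      obtain ⟨hder, -⟩ := S1365.result hG M hM K₀ U₀ hKU₀ hK
      have hc₀ : IsComplIn (Cfsg.fittingHallOf M) U₀ ⁅M, M⁆ := by
        rw [hH]
        refine ⟨hder ▸ le_sup_right, hder ▸ le_sup_left, (Subgroup.disjoint_of_coprime_natCard
          (Nat.coprime_of_dvd fun q hq h1 h2 => (hπ q hq h2).1 (piCoreOf_primes _ M hq h1))).eq_bot, fun m hm => ?_⟩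
        rw [hder, sup_comm] at hm
        exact (mem_sup_of_le_normalizer (hKU₀.compl.1.trans (le_normalizer_sigmaCore M))).mp hm
      obtain ⟨w, hw, e⟩ := compl_conj (isSolvable_of_le (Subgroup.commutator_le_self M)
        (isSolvable_of_ne_top hG hM.1)) (Nat.Coprime.coprime_dvd_right (Dvd.intro _ (Subgroup.relIndex_mul_relIndex
          _ _ _ hc₀.1 (Subgroup.commutator_le_self M))) (fittingHallOf_hall M)) hUc hc₀
      have hKU : Cfsg.IsSigmaDecomposition M _ U := e ▸ decomp_conj hKU₀ (Subgroup.commutator_le_self M hw)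
      refine ⟨_, hKU, hH, hcore hKU hH, ?_⟩
      have hnI : ¬ Cfsg.IsOfTypeI M := fun h => hK (typeI_kappa hG hM hKU₀ h).1
      have hDeq : U ⊔ Cfsg.sigmaCore M = ⁅M, M⁆ := by
        refine le_antisymm (sup_le hUc.2.1 (hH ▸ hUc.1)) fun m hm => ?_
        obtain ⟨a, ha, b, hb, rfl⟩ := hUc.2.2.2 m hm
        exact mul_mem (Subgroup.mem_sup_right (hH ▸ ha)) (Subgroup.mem_sup_left hb)
      rw [Cfsg.typeA, if_neg hnI, hcore hKU hH, hDeq, hH]
  refine ⟨S1358.result hG M hM K U hKU, fun X hX hne hXc => ?_, ?_⟩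
  · rw [← Subgroup.centralizer_closure] at hXc ⊢
    refine S1361.result hG M hM K U hKU (Subgroup.closure X) ((Subgroup.closure_le U).mpr fun v hv => (hX hv).1)
      (fun e => ?_) (hH ▸ hXc)
    obtain ⟨v, hv⟩ := hne
    exact (hX hv).2 (Subgroup.mem_bot.mp (e ▸ Subgroup.subset_closure hv))
  · have hset : Cfsg.typeA M \ Cfsg.typeA1 M = Cfsg.sigmaA M U \ (Cfsg.sigmaCore M : Set G) := by
      ext a
      rw [hA, Cfsg.typeA1, hsup, hH]
      constructor
      · rintro ⟨⟨haU, ha1, x, hx, hx1, hax⟩, haS⟩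
        exact ⟨⟨⟨sup_le hKU.compl.1 (sigmaCore_le M) haU, x, hx, hx1, hax⟩, haU⟩, fun h => haS ⟨h, ha1⟩⟩
      · rintro ⟨⟨⟨-, x, hx, hx1, hax⟩, haU⟩, haS⟩
        exact ⟨⟨haU, fun e => haS (e ▸ one_mem _), x, hx, hx1, hax⟩, fun h => haS h.1⟩
    rw [hset]
    exact S1362.result hG M hM K U hKU

end Cfsg.Agent.S1390
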