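import Cfsg.Statements.S1394
import Cfsg.Agent.Lib.OddLocal.TransitivityPi
-- import your own Cfsg.Agent.* helpers here

set_option autoImplicit false
open Cfsg

namespace Cfsg.Agent.S1394

/-- Let G be a minimal simple group of odd order, A a subgroup satisfying the transitivity hypothesis whose centre has rank at least 2, K = O_{π(A)'}(C_G(A)), and q a prime dividing the order of C_G(A) but not that of A. Then any two maximal A-invariant q-subgroups of G are conjugate by an element of K. -/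
theorem result {G : Type*} [Group G] [Finite G] (hG : Cfsg.IsMinSimpleOddOrder G)
    (A : Subgroup G) (hA : Cfsg.TransitivityHypothesis A) (hZ : ¬ Cfsg.RankLE 1 ↥(A ⊓ Subgroup.centralizer (A : Set G)))
    (q : ℕ) (hq : q.Prime) (hqA : ¬ q ∣ Nat.card A) (hqC : q ∣ Nat.card (Subgroup.centralizer (A : Set G))) :
    ∀ Q₁ ∈ Cfsg.maxInvSubgroups ⊤ A {q}, ∀ Q₂ ∈ Cfsg.maxInvSubgroups ⊤ A {q}, ∃ k ∈ Cfsg.piCoreOf (Cfsg.primesNotDvd (Nat.card A)) (Subgroup.centralizer (A : Set G)), Q₂ = Q₁.map (MulAut.conj k).toMonoidHom := by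
  classical
  have : Fact q.Prime := ⟨hq⟩
  set Z := A ⊓ Subgroup.centralizer (A : Set G) with hZdef
  simp only [Cfsg.RankLE, Cfsg.PRankLE, not_forall, not_le] at hZ
  obtain ⟨p, hp, B', hB'c, hB'p, hB'2⟩ := hZ
  have : Fact p.Prime := ⟨hp⟩
  set B := B'.map Z.subtype with hBdef
  have hBZ : B ≤ Z := Subgroup.map_subtype_le _
  have hBc : ∀ a ∈ B, ∀ b ∈ B, Commute a b := by
    rintro _ ⟨a, ha, rfl⟩ _ ⟨b, hb, rfl⟩
    exact congrArg (fun z : B' => ((z : Z) : G)) (hB'c.is_comm.comm ⟨a, ha⟩ ⟨b, hb⟩)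
  have hBp : ∀ a ∈ B, a ^ p = 1 := by
    rintro _ ⟨a, ha, rfl⟩
    rw [← map_pow, hB'p a ha, map_one]
  rw [← Subgroup.card_map_of_injective Z.subtype_injective, ← hBdef, pow_one] at hB'2
  obtain ⟨y, hy, hy1⟩ : ∃ y ∈ B, y ≠ 1 := by
    refine (Subgroup.bot_or_exists_ne_one B).resolve_left fun e => ?_
    have := hp.one_lt
    rw [e, Subgroup.card_bot] at hB'2
    omega
  obtain ⟨x, hx, hxy⟩ : ∃ x ∈ B, x ∉ Subgroup.zpowers y := by
    by_contra h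
    push Not at h
    have h1 := Subgroup.card_le_of_le (H := B) (K := Subgroup.zpowers y) h
    have h2 : orderOf y ≤ p := Nat.le_of_dvd hp.pos (orderOf_dvd_of_pow_eq_one (hBp y hy))
    rw [Nat.card_zpowers] at h1
    omega
  have hyA : y ∈ A := (hBZ hy).1
  have hpA : p ∣ Nat.card A := by
    rw [← orderOf_eq_prime (hBp y hy) hy1, ← Subgroup.orderOf_mk y hyA]
    exact orderOf_dvd_natCard _
  have hqp : q ≠ p := fun e => hqA (e ▸ hpA)
  obtain ⟨t, ht⟩ := exists_prime_orderOf_dvd_card' (G := Subgroup.centralizer (A : Set G)) q hqC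
  set T := Subgroup.zpowers (t : G) with hT
  have hTq : IsPGroup q T := IsPGroup.of_card (n := 1) (by rw [pow_one, Nat.card_zpowers, Subgroup.orderOf_coe, ht])
  have hTC : T ≤ Subgroup.centralizer (A : Set G) := Subgroup.zpowers_le.mpr t.2
  obtain ⟨Q₀, hQ₀, hTQ₀⟩ := Cfsg.Agent.OddLocal.exists_maxInv_ge (A := A) hTq
    ((Subgroup.le_centralizer_iff.mp hTC).trans (Subgroup.centralizer_le_normalizer (T : Set G)))
  have ht1 : (t : G) ≠ 1 := fun e => hq.one_lt.ne' (by rw [← ht, ← Subgroup.orderOf_coe, e, orderOf_one])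
  have key : ∀ Q ∈ Cfsg.maxInvSubgroups ⊤ A {q}, ∃ H : Subgroup G, H ≠ ⊤ ∧ A ≤ H ∧ H ⊓ Q ≠ ⊥ ∧ H ⊓ Q₀ ≠ ⊥ := by
    intro Q hQ
    obtain ⟨hQq, hQA⟩ := Cfsg.Agent.OddLocal.mem_invSubgroups_singleton.mp hQ.1
    have hne : Q ≠ ⊥ := fun e => ht1 (Subgroup.mem_bot.mp (e ▸ hQ.2 Q₀ hQ₀.1 (e ▸ bot_le) ▸ hTQ₀ (Subgroup.mem_zpowers _)))
    obtain ⟨b, hbdef, hbQ⟩ := Cfsg.Agent.OddLocal.exists_centralized_of_rank_two hqp hQq hne (hBc x hx y hy)
      (hBp x hx) (hBp y hy) (hQA (hBZ hx).1) (hQA (hBZ hy).1)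
    have hb : b ∈ B ∧ b ≠ 1 := by
      rcases hbdef with rfl | ⟨j, -, rfl⟩
      · exact ⟨hy, hy1⟩
      · refine ⟨B.mul_mem hx (pow_mem hy j), fun h => ?_⟩
        exact hxy (eq_inv_of_mul_eq_one_left h ▸ inv_mem (pow_mem (Subgroup.mem_zpowers y) j))
    refine ⟨Subgroup.centralizer ({b} : Set G), Cfsg.Agent.OddLocal.centralizer_ne_top hG rfl hb.2,
      fun a ha => Subgroup.mem_centralizer_singleton_iff.mpr (Subgroup.mem_centralizer_iff.mp (hBZ hb.1).2 a ha),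
      by rw [inf_comm]; exact hbQ, fun e => ht1 ?_⟩
    rw [← Subgroup.mem_bot, ← e]
    exact ⟨Subgroup.mem_centralizer_singleton_iff.mpr
      (Subgroup.mem_centralizer_iff.mp t.2 b (hBZ hb.1).1).symm, hTQ₀ (Subgroup.mem_zpowers _)⟩
  intro Q₁ h₁ Q₂ h₂
  obtain ⟨H₁, a1, b1, c1, d1⟩ := key Q₁ h₁
  obtain ⟨H₂, a2, b2, c2, d2⟩ := key Q₂ h₂
  obtain ⟨k₁, hk₁, e₁⟩ := Cfsg.Agent.OddLocal.conj_of_common hG hA hqA h₁ hQ₀ a1 b1 c1 d1
  obtain ⟨k₂, hk₂, e₂⟩ := Cfsg.Agent.OddLocal.conj_of_common hG hA hqA hQ₀ h₂ a2 b2 d2 c2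
  exact ⟨k₂ * k₁, mul_mem hk₂ hk₁, by rw [e₂, e₁, Cfsg.Agent.OddLocal.map_conj_map_conj]⟩

end Cfsg.Agent.S1394
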