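import Cfsg.Statements.S1396
import Cfsg.Agent.Lib.OddLocal.TransHyp

set_option autoImplicit false
open Cfsg

namespace Cfsg.Agent.S1396

/-- Let G be a minimal simple group of odd order, p a prime dividing the order of G and A an abelian p-subgroup. Suppose either (1) A consists exactly of the elements x of C_G(A) with x^p = 1, and every proper subgroup of G has p-length at most one, or (2) A is normal and self-centralizing in some Sylow p-subgroup of G and has rank at least 2. Then A satisfies the transitivity hypothesis. -/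
theorem result {G : Type*} [Group G] [Finite G] (hG : Cfsg.IsMinSimpleOddOrder G)
    (p : ℕ) [Fact p.Prime] (hp : p ∣ Nat.card G) (A : Subgroup G) (hAp : IsPGroup p A) (hAc : IsMulCommutative A)
    (h : (∀ x ∈ Subgroup.centralizer (A : Set G), x ^ p = 1 ↔ x ∈ A) ∧ (∀ H : Subgroup G, H ≠ ⊤ → Cfsg.PLengthLE p 1 H) ∨
      ∃ P : Sylow p G, Cfsg.IsSCN (P : Subgroup G) A ∧ ¬ Cfsg.PRankLE p 1 A) :
    Cfsg.TransitivityHypothesis A := by
  have hpp : p.Prime := Fact.out
  rcases h with ⟨hΩ, -⟩ | ⟨P, hA, hr⟩
  · refine Cfsg.Agent.OddLocal.transitivityHypothesis_of_omega hG hp hAp ?_ hAc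
      (fun x hx hxo => (hΩ x hx).mp (hxo ▸ pow_orderOf_eq_one x))
    rintro rfl
    obtain ⟨x, hx⟩ := exists_prime_orderOf_dvd_card' p hp
    have h1 := (hΩ x (by simp [Subgroup.mem_centralizer_iff])).mp (hx ▸ pow_orderOf_eq_one x)
    rw [Subgroup.mem_bot] at h1
    rw [h1, orderOf_one] at hx
    exact hpp.ne_one hx.symm
  · refine Cfsg.Agent.OddLocal.transitivityHypothesis_of_omega hG hp hAp ?_ hAc
      (fun x hx hxo => Cfsg.Agent.OddLocal.mem_of_isSCN P hA hx
        (IsPGroup.of_card (n := 1) (by rw [Nat.card_zpowers, hxo, pow_one])))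
    rintro rfl
    refine hr (fun B _ _ => ?_)
    have : Nat.card B ≤ Nat.card (⊥ : Subgroup G) := Subgroup.card_le_card_group B
    rw [Subgroup.card_bot] at this
    exact this.trans (Nat.one_le_pow _ _ hpp.pos)

end Cfsg.Agent.S1396
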