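import Cfsg.Statements.S1397
import Cfsg.Agent.Lib.OddLocal.UniqueG
-- import your own Cfsg.Agent.* helpers here

set_option autoImplicit false
open Cfsg

namespace Cfsg.Agent.S1397

/-- Let G be a minimal simple group of odd order, M a maximal subgroup, p a prime and A₀ an elementary abelian p-subgroup of F(M) of order at least p ^ 3 that is maximal among elementary abelian p-subgroups of F(M). (a) If F(M) is not a p-group, then F(M) ∩ C_G(A₀) lies in exactly one maximal subgroup of G. (b) If F(M) is a p-group and P is a Sylow p-subgroup of M, then p does not divide the index of P in G, and every normal self-centralizing subgroup A of P containing an elementary abelian subgroup of order p ^ 3 is contained in F(M) and lies in exactly one maximal subgroup of G. -/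
theorem result {G : Type*} [Group G] [Finite G] (hG : Cfsg.IsMinSimpleOddOrder G)
    (M : Subgroup G) (hM : IsCoatom M) (p : ℕ) [Fact p.Prime] (A₀ : Subgroup G)
    (hA₀ : A₀ ≤ Cfsg.fittingOf M) (hA₀e : Cfsg.IsElementaryAbelian p A₀) (hA₀3 : p ^ 3 ≤ Nat.card A₀)
    (hA₀max : ∀ B : Subgroup G, B ≤ Cfsg.fittingOf M → Cfsg.IsElementaryAbelian p B → A₀ ≤ B → B = A₀) :
    (¬ IsPGroup p ↥(Cfsg.fittingOf M) → Cfsg.InUniqueMaximal (Cfsg.fittingOf M ⊓ Subgroup.centralizer (A₀ : Set G))) ∧
      (IsPGroup p ↥(Cfsg.fittingOf M) → ∀ P : Sylow p M,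
        ¬ p ∣ ((P : Subgroup M).map M.subtype).index ∧
        ∀ A : Subgroup G, Cfsg.IsSCN ((P : Subgroup M).map M.subtype) A → ¬ Cfsg.PRankLE p 2 ↥A →
          A ≤ Cfsg.fittingOf M ∧ Cfsg.InUniqueMaximal A) := by
  have hA3 : p ^ 2 < Nat.card A₀ :=
    lt_of_lt_of_le (Nat.pow_lt_pow_right (Fact.out : p.Prime).one_lt (by norm_num)) hA₀3
  have hU := Cfsg.Agent.OddLocal.inUniqueMaximal_of_fitting_rank_three hG hM hA₀ hA₀e hA3
  refine ⟨fun _ => ?_, fun hF P => ?_⟩
  · exact Cfsg.Agent.OddLocal.inUniqueMaximal_mono hU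
      (le_inf hA₀ (Subgroup.le_centralizer_iff_isMulCommutative.mpr hA₀e.1))
      fun e => hM.1 (top_le_iff.mp (e ▸ inf_le_left.trans (Cfsg.Agent.OddLocal.fittingOf_le M)))
  · have hpG := Cfsg.Agent.OddLocal.dvd_card_of_ea hA₀e
      (lt_of_le_of_lt (Nat.one_le_pow _ _ (Fact.out : p.Prime).pos) hA3)
    set R := (P : Subgroup M).map M.subtype with hRdef
    have hR : Cfsg.Agent.OddLocal.IsMaxPIn p R M := by
      refine ⟨P.2.map _, Subgroup.map_subtype_le _, fun Q hQ hle hQM => ?_⟩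
      have h1 := P.3 (hQ.comap_subtype (K := M)) (fun x hx => hle ⟨x, hx, rfl⟩)
      rw [hRdef, ← h1]
      exact (Subgroup.map_subgroupOf_eq_of_le hQM).symm
    have hR1 : R ≠ ⊥ := by
      intro e
      have hA0p : A₀.subgroupOf M ≤ (P : Subgroup M) := by
        have hA0M : A₀ ≤ M := hA₀.trans (Cfsg.Agent.OddLocal.fittingOf_le M)
        refine le_trans (fun x hx => ?_) (Cfsg.Agent.Basics.pCore_le_sylow p P)
        obtain ⟨y, hy, hyx⟩ := Cfsg.Agent.OddLocal.mem_coreP_of_mem_fittingOf (r := p) (hA₀ hx)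
          ⟨1, by rw [pow_one]; exact hA₀e.2 _ hx⟩
        exact (Subtype.ext hyx : y = x) ▸ hy
      have hle : A₀ ≤ R := fun a ha =>
        ⟨⟨a, Cfsg.Agent.OddLocal.fittingOf_le M (hA₀ ha)⟩, hA0p ha, rfl⟩
      rw [e, le_bot_iff] at hle
      rw [hle, Subgroup.card_bot] at hA3
      exact absurd hA3 (not_lt.mpr (Nat.one_le_pow _ _ (Fact.out : p.Prime).pos))
    exact Cfsg.Agent.OddLocal.fitting_pGroup_case hG hM hpG hF hR hR1

end Cfsg.Agent.S1397
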