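import Cfsg.Statements.S1399
import Cfsg.Agent.Lib.OddLocal.UniqueC
-- import your own Cfsg.Agent.* helpers here

set_option autoImplicit false
open Cfsg

namespace Cfsg.Agent.S1399

/-- Let G be a minimal simple group of odd order, L a subgroup contained in exactly one maximal subgroup of G, and K a subgroup of C_G(L) having, for some prime p, an elementary abelian subgroup of order p ^ 2. Then K is contained in exactly one maximal subgroup of G. -/
theorem result {G : Type*} [Group G] [Finite G] (hG : Cfsg.IsMinSimpleOddOrder G)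
    (L K : Subgroup G) (hL : Cfsg.InUniqueMaximal L) (hK : K ≤ Subgroup.centralizer (L : Set G)) (hKr : ¬ Cfsg.RankLE 1 K) :
    Cfsg.InUniqueMaximal K := by
  simp only [Cfsg.RankLE, Cfsg.PRankLE, not_forall, not_le] at hKr
  obtain ⟨p, hp, X, hXc, hXp, hX⟩ := hKr
  rw [pow_one] at hX
  have : Fact p.Prime := ⟨hp⟩
  have hle : X.map K.subtype ≤ K := Subgroup.map_subtype_le X
  have hU := Cfsg.Agent.OddLocal.inUniqueMaximal_of_centralizes hG hL
    (Cfsg.Agent.OddLocal.ea_map (G := G) (p := p) ⟨hXc, hXp⟩ K.subtype)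
    (by rwa [Subgroup.card_map_of_injective K.subtype_injective]) (hle.trans hK)
  obtain ⟨l, hl, hl1⟩ := (Subgroup.bot_or_exists_ne_one L).resolve_left
    (Cfsg.Agent.OddLocal.ne_bot_of_inUniqueMaximal hG hL)
  exact Cfsg.Agent.OddLocal.inUniqueMaximal_mono hU hle
    fun e => Cfsg.Agent.OddLocal.centralizer_ne_top hG hl hl1 (top_le_iff.mp (e ▸ hK))

end Cfsg.Agent.S1399
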