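import Cfsg.Statements.S1400
import Cfsg.Agent.Lib.OddLocal.UniqueC
-- import your own Cfsg.Agent.* helpers here

set_option autoImplicit false
open Cfsg

namespace Cfsg.Agent.S1400

/-- Let G be a minimal simple group of odd order, p a prime, A an abelian p-subgroup containing an elementary abelian subgroup of order p ^ 3 and lying in exactly one maximal subgroup, and B a noncyclic p-subgroup whose centralizer contains an elementary abelian subgroup of order p ^ 3. Then B lies in exactly one maximal subgroup of G. -/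
theorem result {G : Type*} [Group G] [Finite G] (hG : Cfsg.IsMinSimpleOddOrder G)
    (p : ℕ) [Fact p.Prime] (A B : Subgroup G) (hAp : IsPGroup p A) (hAc : IsMulCommutative A) (hA3 : ¬ Cfsg.PRankLE p 2 ↥A)
    (hAU : Cfsg.InUniqueMaximal A) (hBp : IsPGroup p B) (hBnc : ¬ IsCyclic B) (hB3 : ¬ Cfsg.PRankLE p 2 ↥(Subgroup.centralizer (B : Set G))) :
    Cfsg.InUniqueMaximal B := by
  set C := Subgroup.centralizer (B : Set G)
  simp only [Cfsg.PRankLE, not_forall, not_le] at hA3 hB3
  obtain ⟨X, hXc, hXp, hX⟩ := hA3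
  obtain ⟨Y, hYc, hYp, hY⟩ := hB3
  have hXe := Cfsg.Agent.OddLocal.ea_map (G := G) (p := p) ⟨hXc, hXp⟩ A.subtype
  have hXcard : p ^ 2 < Nat.card (X.map A.subtype) := by
    rwa [Subgroup.card_map_of_injective A.subtype_injective]
  have hlt : ∀ n : ℕ, p ^ 2 < n → p < n := fun n h => lt_of_le_of_lt (Nat.le_self_pow two_ne_zero p) h
  have hXU := Cfsg.Agent.OddLocal.inUniqueMaximal_of_centralizes hG hAU hXe (hlt _ hXcard)
    ((Subgroup.map_subtype_le X).trans (Subgroup.le_centralizer_iff_isMulCommutative.mpr hAc))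
  have hYe := Cfsg.Agent.OddLocal.ea_map (G := G) (p := p) ⟨hYc, hYp⟩ C.subtype
  have hYcard : p ^ 2 < Nat.card (Y.map C.subtype) := by
    rwa [Subgroup.card_map_of_injective C.subtype_injective]
  have hYU := Cfsg.Agent.OddLocal.inUniqueMaximal_rank_three hG hXe hXcard hXU hYe hYcard
  have hpG : p ∣ Nat.card G := by
    rcases (Cfsg.Agent.OddLocal.isPGroup_of_exponent hXe.2).card_eq_or_dvd with e | e
    · rw [e] at hXcard
      exact absurd hXcard (not_lt.mpr (Nat.one_le_pow _ _ (Fact.out : p.Prime).pos))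
    · exact e.trans (Subgroup.card_subgroup_dvd_card _)
  obtain ⟨W, hWe, hW⟩ := Cfsg.Agent.OddLocal.exists_ea_two_of_not_isCyclic
    (Cfsg.Agent.OddLocal.prime_ne_two hG hpG) hBp hBnc
  have hle : W.map B.subtype ≤ B := Subgroup.map_subtype_le W
  have hWU := Cfsg.Agent.OddLocal.inUniqueMaximal_of_centralizes hG hYU
    (Cfsg.Agent.OddLocal.ea_map (G := G) hWe B.subtype)
    (by rwa [Subgroup.card_map_of_injective B.subtype_injective])
    (hle.trans (Subgroup.le_centralizer_iff.mp (Subgroup.map_subtype_le Y)))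
  exact Cfsg.Agent.OddLocal.inUniqueMaximal_mono hWU hle (Cfsg.Agent.OddLocal.pGroup_ne_top hG hBp)

end Cfsg.Agent.S1400
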