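import Cfsg.Statements.S1415
import Cfsg.Agent.Lib.OddLocal.ComplStructure

set_option autoImplicit false
set_option linter.style.haveILetI false
open Cfsg
open Cfsg.Agent.OddLocal
open Cfsg.Agent.Basics (IsSylowIn)
open scoped commutatorElement

namespace Cfsg.Agent.S1415

/-- Let G be a minimal simple group of odd order, M a maximal subgroup and E a complement to M_σ in M. Then the derived subgroup E' is nilpotent; every Hall τ₁(M)-subgroup of E is cyclic; and every Hall τ₃(M)-subgroup E₃ of E is cyclic, contained in E' and normal in E. -/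
theorem result {G : Type*} [Group G] [Finite G] (hG : Cfsg.IsMinSimpleOddOrder G)
    (M : Subgroup G) (hM : IsCoatom M) (E : Subgroup G) (hE : Cfsg.IsComplIn E (Cfsg.sigmaCore M) M) :
    Group.IsNilpotent ↥⁅E, E⁆ ∧
      (∀ E₁ : Subgroup G, Cfsg.IsPiHallOf (Cfsg.tau1 M) E₁ E → IsCyclic E₁) ∧
      ∀ E₃ : Subgroup G, Cfsg.IsPiHallOf (Cfsg.tau3 M) E₃ E → IsCyclic E₃ ∧ E₃ ≤ ⁅E, E⁆ ∧ E ≤ Subgroup.normalizer (E₃ : Set G) := by
  haveI hab := derived_compl_commutative hG hM hE
  have hle : ⁅E, E⁆ ≤ E := Subgroup.commutator_le_self E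
  refine ⟨?_, fun E₁ hE₁ => ?_, fun E₃ hE₃ => ?_⟩
  · letI : CommGroup ↥⁅E, E⁆ := { (inferInstance : Group ↥⁅E, E⁆) with mul_comm := hab.is_comm.comm }
    exact CommGroup.isNilpotent
  · have hM1 := hE₁.1.trans hE.1
    refine isCyclic_of_rank_one_commutative hG hM1 (Subgroup.le_centralizer_iff_isMulCommutative.mp
      (Subgroup.commutator_eq_bot_iff_le_centralizer.mp ?_)) fun q hq hd => (hE₁.2.1 q hq hd).2.2.2.2
    refine Subgroup.card_eq_one.mp ?_
    by_contra hne
    obtain ⟨q, hq, hd⟩ := Nat.exists_prime_and_dvd hne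
    exact (hE₁.2.1 q hq (hd.trans (Subgroup.card_dvd_of_le (Subgroup.commutator_le_self E₁)))).2.2.2.1
      (hd.trans (Subgroup.card_dvd_of_le (Subgroup.commutator_mono hM1 hM1)))
  · have hsyl : ∀ (r : ℕ) [Fact r.Prime], r ∈ Cfsg.tau3 M → ∀ R : Subgroup G, IsSylowIn r E R → R ≤ ⁅E, E⁆ :=
      fun r hr hτ R hR => sylow_le_derived_of_rank_one hG hE.1 hτ.2.2.2
        (dvd_card_derived_compl hG hM hE hτ.1 hτ.2.1 hτ.2.2.1) hR
    have hED : E₃ ≤ ⁅E, E⁆ := le_of_sylows fun r hr hd => by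
      haveI := Fact.mk hr
      obtain ⟨S, hS⟩ := exists_sylowIn (q := r) E₃
      obtain ⟨R, hR, hSR⟩ := exists_sylowIn_ge hS.isPGroup (hS.1.trans hE₃.1)
      exact ⟨S, hS, hSR.trans (hsyl r (hE₃.2.1 r hr hd) R hR)⟩
    have hc3 : IsMulCommutative E₃ := ⟨⟨fun a b => Subtype.ext
      (by simpa using congrArg Subtype.val (hab.is_comm.comm ⟨a, hED a.2⟩ ⟨b, hED b.2⟩))⟩⟩
    refine ⟨isCyclic_of_rank_one_commutative hG (hE₃.1.trans hE.1) hc3
      fun q hq hd => (hE₃.2.1 q hq hd).2.2.2, hED, fun e he => ?_⟩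
    set X := E₃.map (MulAut.conj e).toMonoidHom with hX
    have hXD : X ≤ ⁅E, E⁆ := by
      rintro _ ⟨x, hx, rfl⟩
      exact Subgroup.le_normalizer_iff.mp (le_normalizer_commutator Subgroup.le_normalizer Subgroup.le_normalizer) e he x (hED hx)
    have hnorm : X ≤ Subgroup.normalizer (E₃ : Set G) :=
      ((Subgroup.le_centralizer_iff_isMulCommutative.mpr hab).trans (Subgroup.centralizer_le hED)).trans'
        hXD |>.trans (Subgroup.centralizer_le_normalizer _)
    have h1 := Basics.card_mul_card_eq_card_sup_mul_card_inf hnorm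
    have h2 : E₃.relIndex (E₃ ⊔ X) ∣ E₃.relIndex E :=
      Dvd.intro _ (Subgroup.relIndex_mul_relIndex _ _ _ le_sup_left (sup_le hE₃.1 (hXD.trans hle)))
    have h3 : E₃.relIndex (E₃ ⊔ X) = 1 := by
      by_contra hne
      obtain ⟨q, hq, hd⟩ := Nat.exists_prime_and_dvd hne
      have h4 : E₃.relIndex (E₃ ⊔ X) * Nat.card E₃ = Nat.card (E₃ ⊔ X : Subgroup G) := by
        rw [← Subgroup.relIndex_bot_left, mul_comm, Subgroup.relIndex_mul_relIndex _ _ _ bot_le le_sup_left,
          Subgroup.relIndex_bot_left]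
      have h5 : q ∣ Nat.card E₃ * Nat.card X :=
        h1 ▸ (hd.trans (Dvd.intro _ h4)).mul_right _
      rw [hX, Subgroup.card_map_of_injective (MulAut.conj e).injective] at h5
      exact hE₃.2.2 q hq (hE₃.2.1 q hq (((Nat.Prime.dvd_mul hq).mp h5).elim id id)) (hd.trans h2)
    refine Subgroup.mem_normalizer_iff_map_conj_eq.mpr (Subgroup.eq_of_le_of_card_ge
      ((le_sup_right.trans (Subgroup.relIndex_eq_one.mp h3))) ?_)
    rw [Subgroup.card_map_of_injective (MulAut.conj e).injective]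

end Cfsg.Agent.S1415
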