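import Cfsg.Statements.S1418
import Cfsg.Agent.Lib.OddLocal.Tau2

set_option autoImplicit false
open Cfsg

namespace Cfsg.Agent.S1418

/-- Let G be a minimal simple group of odd order, M a maximal subgroup, E a complement to M_σ in M, p ∈ τ₂(M), and A ≤ E elementary abelian of order p ^ 2. Then A is normal in E and contains every subgroup of E of order p; C_G(A) ≤ M ∩ N_G(A) = E and N_G(A) is not contained in M; and for every subgroup X ≤ A of order p centralizing a non-identity element of M_σ, C_G(X) ≤ M and M is the unique maximal subgroup containing C_G(X). -/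
theorem result {G : Type*} [Group G] [Finite G] (hG : Cfsg.IsMinSimpleOddOrder G)
    (M : Subgroup G) (hM : IsCoatom M) (E : Subgroup G) (hE : Cfsg.IsComplIn E (Cfsg.sigmaCore M) M) (p : ℕ) [Fact p.Prime] (hp : p ∈ Cfsg.tau2 M) (A : Subgroup G) (hA : (A ≤ E ∧ Cfsg.IsElementaryAbelian p A ∧ Nat.card A = p ^ 2)) :
    (E ≤ Subgroup.normalizer (A : Set G) ∧ ∀ X : Subgroup G, X ≤ E → Nat.card X = p → X ≤ A) ∧
      (Subgroup.centralizer (A : Set G) ≤ M ⊓ Subgroup.normalizer (A : Set G) ∧ M ⊓ Subgroup.normalizer (A : Set G) = E ∧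
        ¬ Subgroup.normalizer (A : Set G) ≤ M) ∧
      ∀ X : Subgroup G, X ≤ A → Nat.card X = p → Cfsg.sigmaCore M ⊓ Subgroup.centralizer (X : Set G) ≠ ⊥ → (Subgroup.centralizer (X : Set G) ≤ M ∧ ∀ L : Subgroup G, IsCoatom L → Subgroup.centralizer (X : Set G) ≤ L → L = M) := by
  obtain ⟨hAE, hAe, hA2⟩ := hA
  obtain ⟨X₀, h⟩ := OddLocal.exists_exc hG hM hp.2.1 (hAE.trans hE.1) hAe hA2
  obtain ⟨n, hn, hnM⟩ := h.exists_notMem hG
  refine ⟨⟨h.compl_le_normalizer hG hE hAE, fun X hXE hX => h.le_of_card_prime hG hE hAE hXE hX⟩,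
    ⟨le_inf h.centralizer_le (Subgroup.centralizer_le_normalizer _), h.inf_normalizer_eq hG hE hAE,
      fun hle => hnM (hle hn)⟩, fun X hXA hX hne => ?_⟩
  obtain ⟨x, hx, hx1⟩ : ∃ x ∈ X, x ≠ 1 := by
    by_contra hc
    push Not at hc
    rw [(Subgroup.eq_bot_iff_forall X).mpr hc, Subgroup.card_bot] at hX
    exact (Fact.out : p.Prime).one_lt.ne hX
  exact h.unique_of_fixed hG (OddLocal.centralizer_ne_top hG hx hx1)
    ((Subgroup.le_centralizer_iff_isMulCommutative.mpr hAe.1).trans (Subgroup.centralizer_le hXA)) hne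

end Cfsg.Agent.S1418
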