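import Cfsg.Statements.S1430
import Cfsg.Agent.Lib.OddLocal.KappaStructure

set_option autoImplicit false
set_option linter.style.haveILetI false
open Cfsg
open Cfsg.Agent.OddLocal
open Cfsg.Agent.Basics
open scoped commutatorElement Pointwise

namespace Cfsg.Agent.S1430

/-- Let G be a minimal simple group of odd order, M a maximal subgroup, K ≠ 1 a Hall κ(M)-subgroup of M and K* = M_σ ∩ C_G(K). Then M_σ ∩ C_G(k) = K* for every non-identity k ∈ K; there is an abelian subgroup U of M, a Hall subgroup of M for the primes outside κ(M) ∪ σ(M), normalized by K with U ∩ C_G(k) = 1 for all non-identity k ∈ K; and for every subgroup X ≤ K of prime order, M ∩ N_G(X) = M ∩ N_G(K) = K ⊔ K*, and X ≤ M*_σ for every maximal subgroup M* containing N_G(X). -/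
theorem result {G : Type*} [Group G] [Finite G] (hG : Cfsg.IsMinSimpleOddOrder G)
    (M : Subgroup G) (hM : IsCoatom M) (K : Subgroup G) (hK : Cfsg.IsPiHallOf (Cfsg.kappa M) K M) (hK1 : K ≠ ⊥) :
    (∀ k ∈ K, k ≠ 1 → Cfsg.sigmaCore M ⊓ Subgroup.centralizer ({k} : Set G) = (Cfsg.sigmaCore M ⊓ Subgroup.centralizer (K : Set G))) ∧
      (∃ U : Subgroup G, IsMulCommutative U ∧ Cfsg.IsPiHallOf {q | q.Prime ∧ q ∉ Cfsg.kappa M ∧ q ∉ Cfsg.sigma M} U M ∧
        K ≤ Subgroup.normalizer (U : Set G) ∧ ∀ k ∈ K, k ≠ 1 → U ⊓ Subgroup.centralizer ({k} : Set G) = ⊥) ∧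
      ∀ X : Subgroup G, X ≤ K → (Nat.card X).Prime →
        M ⊓ Subgroup.normalizer (X : Set G) = K ⊔ (Cfsg.sigmaCore M ⊓ Subgroup.centralizer (K : Set G)) ∧ M ⊓ Subgroup.normalizer (K : Set G) = K ⊔ (Cfsg.sigmaCore M ⊓ Subgroup.centralizer (K : Set G)) ∧
        ∀ Mstar : Subgroup G, IsCoatom Mstar → Subgroup.normalizer (X : Set G) ≤ Mstar → X ≤ Cfsg.sigmaCore Mstar := by
  obtain ⟨-, E, U, hE, hKE, hUE, hUc, hU, hEU, -, hreg⟩ := exists_kappa_compl hG hM hK hK1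
  refine ⟨fun k hk hk1 => kappa_semiprime hG hM hK hk hk1, ⟨U, hUc, hU, hKE.trans hEU, hreg⟩, fun X hXK hX => ?_⟩
  haveI := Fact.mk hX
  obtain ⟨h1, h2⟩ := kappa_normalizer_line hG hM hK hK1 hXK (r := Nat.card X) rfl
  refine ⟨h1, h2, fun L hL hNX => ?_⟩
  have hrk := hK.2.1 _ hX (Subgroup.card_dvd_of_le hXK)
  obtain ⟨q, hq, hqd⟩ := Nat.exists_prime_and_dvd fun e =>
    kappa_fixed_ne_bot hG hM hK hK1 (Subgroup.card_eq_one.mp e)
  haveI := Fact.mk hq
  obtain ⟨y, hy⟩ := exists_prime_orderOf_dvd_card' q hqd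
  have hσ : Nat.card X ∈ Cfsg.sigma L :=
    sigma_of_fixed hG hM hL hrk.2.2.1 (kappa_rank_one hrk) (hXK.trans hK.1) rfl hNX
      (Y := Subgroup.zpowers (y : G)) (by rw [Nat.card_zpowers, Subgroup.orderOf_coe, hy])
      (Subgroup.zpowers_le.mpr ⟨y.2.1, Subgroup.centralizer_le hXK y.2.2⟩)
  exact pGroup_le_sigmaCore hG hL hσ (IsPGroup.of_card (n := 1) (pow_one _).symm)
    (Subgroup.le_normalizer.trans hNX)

end Cfsg.Agent.S1430
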