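import Cfsg.Statements.S1431
import Cfsg.Agent.Lib.OddLocal.KappaSylow
import Cfsg.Agent.Lib.OddLocal.KappaMain

set_option autoImplicit false
set_option linter.style.haveILetI false
open Cfsg
open Cfsg.Agent.OddLocal
open Cfsg.Agent.Basics
open scoped commutatorElement Pointwise

namespace Cfsg.Agent.S1431

/-- Let G be a minimal simple group of odd order, M a maximal subgroup, K ≠ 1 a Hall κ(M)-subgroup of M and K* = M_σ ∩ C_G(K). Then K* ∩ gMg⁻¹ = 1 for g ∉ M; K ∩ gKg⁻¹ = 1 for g ∈ M outside K K*; for every prime p dividing the order of K* and every Sylow p-subgroup S of M_σ, M is the unique maximal subgroup containing S, and S is not contained in K*; and every subgroup Y of G whose prime divisors lie in σ(M) and with Y ∩ K* ≠ 1 is contained in M_σ. -/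
theorem result {G : Type*} [Group G] [Finite G] (hG : Cfsg.IsMinSimpleOddOrder G)
    (M : Subgroup G) (hM : IsCoatom M) (K : Subgroup G) (hK : Cfsg.IsPiHallOf (Cfsg.kappa M) K M) (hK1 : K ≠ ⊥) :
    (∀ g : G, g ∉ M → (Cfsg.sigmaCore M ⊓ Subgroup.centralizer (K : Set G)) ⊓ M.map (MulAut.conj g).toMonoidHom = ⊥) ∧
      (∀ g ∈ M, g ∉ K ⊔ (Cfsg.sigmaCore M ⊓ Subgroup.centralizer (K : Set G)) → K ⊓ K.map (MulAut.conj g).toMonoidHom = ⊥) ∧
      (∀ (p : ℕ), p.Prime → p ∣ Nat.card ↥(Cfsg.sigmaCore M ⊓ Subgroup.centralizer (K : Set G)) → ∀ S : Sylow p ↥(Cfsg.sigmaCore M),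
        Cfsg.InUniqueMaximal ((S : Subgroup ↥(Cfsg.sigmaCore M)).map (Cfsg.sigmaCore M).subtype) ∧
        (S : Subgroup ↥(Cfsg.sigmaCore M)).map (Cfsg.sigmaCore M).subtype ≤ M ∧
        ¬ (S : Subgroup ↥(Cfsg.sigmaCore M)).map (Cfsg.sigmaCore M).subtype ≤ (Cfsg.sigmaCore M ⊓ Subgroup.centralizer (K : Set G))) ∧
      ∀ Y : Subgroup G, (∀ p : ℕ, p.Prime → p ∣ Nat.card Y → p ∈ Cfsg.sigma M) → Y ⊓ (Cfsg.sigmaCore M ⊓ Subgroup.centralizer (K : Set G)) ≠ ⊥ → Y ≤ Cfsg.sigmaCore M := by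
  obtain ⟨L, hL, -, hKL, hs, -⟩ := exists_dual hG hM hK hK1
  have h : DualPair M K L := ⟨hM, hL, hK, hK1, hKL, hs⟩
  refine ⟨fun g hg => ?_, fun g hg hgZ => ?_, fun p hp hpd S => ?_, fun Y hY hYA => ?_⟩
  · by_contra hne
    obtain ⟨x, hx, hx1⟩ := (Subgroup.bot_or_exists_ne_one _).resolve_left hne
    obtain ⟨hxA, hxg⟩ := Subgroup.mem_inf.mp hx
    exact hg (mem_of_map_conj_eq hG hM
      (eq_of_mem_conj hG hM hxA.1 hx1 hxg (kstar_centralizer_le hG hM hK hK1 hxA hx1)))
  · by_contra hne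
    obtain ⟨z, hz, hz1⟩ := (Subgroup.bot_or_exists_ne_one _).resolve_left hne
    obtain ⟨hzK, hzg⟩ := Subgroup.mem_inf.mp hz
    obtain ⟨r, hr, hrd⟩ := Nat.exists_prime_and_dvd fun e => hz1 (orderOf_eq_one_iff.mp e)
    haveI := Fact.mk hr
    set x := z ^ (orderOf z / r) with hx
    have hxo : orderOf x = r := orderOf_pow_orderOf_div (orderOf_pos z).ne' hrd
    have hX : Nat.card (Subgroup.zpowers x) = r := by rw [Nat.card_zpowers, hxo]
    have hXK : Subgroup.zpowers x ≤ K := Subgroup.zpowers_le.mpr (pow_mem hzK _)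
    have hXg : (Subgroup.zpowers x).map (MulAut.conj g⁻¹).toMonoidHom ≤ K := by
      rw [MonoidHom.map_zpowers]
      refine Subgroup.zpowers_le.mpr ?_
      obtain ⟨k, hk, e⟩ := pow_mem hzg (orderOf z / r)
      rw [hx, ← e]
      simpa [mul_assoc] using hk
    have he : (Subgroup.zpowers x).map (MulAut.conj g⁻¹).toMonoidHom = Subgroup.zpowers x :=
      kappa_line_unique hG hM hK hK1 hXg
        ((Subgroup.card_map_of_injective (MulAut.conj g⁻¹).injective).trans hX) hXK hX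
    have hg' : g⁻¹ ∈ K ⊔ (Cfsg.sigmaCore M ⊓ Subgroup.centralizer (K : Set G)) :=
      (kappa_normalizer_line hG hM hK hK1 hXK hX).1 ▸
        Subgroup.mem_inf.mpr ⟨inv_mem hg, Subgroup.mem_normalizer_iff_map_conj_eq.mpr he⟩
    exact hgZ (inv_mem_iff.mp hg')
  · haveI := Fact.mk hp
    set A := Cfsg.sigmaCore M ⊓ Subgroup.centralizer (K : Set G) with hA
    set Sg := (S : Subgroup ↥(Cfsg.sigmaCore M)).map (Cfsg.sigmaCore M).subtype with hSg
    have hSgS : IsSylowIn p (Cfsg.sigmaCore M) Sg := Basics.isSylowIn_map S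
    have hpσ : p ∈ Cfsg.sigma M := piCoreOf_primes _ M hp (hpd.trans (Subgroup.card_dvd_of_le inf_le_left))
    obtain ⟨⟨-, -, hidx⟩, -, hidxG⟩ := sigmaCore_hall hG hM
    have hfG : (Nat.card G).factorization p = (Nat.card (Cfsg.sigmaCore M)).factorization p := by
      rw [← Subgroup.card_mul_index (Cfsg.sigmaCore M),
        Nat.factorization_mul Nat.card_pos.ne' Subgroup.index_ne_zero_of_finite, Finsupp.add_apply,
        Nat.factorization_eq_zero_of_not_dvd (hidxG p hp hpσ), add_zero]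
    have hfull : ∀ H : Subgroup G, Sg ≤ H → IsSylowIn p H Sg := fun H hH => ⟨hH, by
      rw [hSgS.2]
      congr 1
      refine le_antisymm ?_ ?_
      · rw [← hp.pow_dvd_iff_le_factorization Nat.card_pos.ne', ← hSgS.2]
        exact Subgroup.card_dvd_of_le hH
      · rw [← hfG]
        exact (Nat.factorization_le_iff_dvd Nat.card_pos.ne' Nat.card_pos.ne').mpr (Subgroup.card_subgroup_dvd_card H) p⟩
    have hSgM : Sg ≤ M := hSgS.1.trans (sigmaCore_le M)
    have hnot : IsMulCommutative Sg →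
        (∀ V : Subgroup G, V ≤ Sg → IsElementaryAbelian p V → Nat.card V ≤ p ^ 2) → False :=
      h.sylow_not_abelian hG hpd (hfull M hSgM)
    refine ⟨⟨M, ⟨hM, hSgM⟩, fun L' hL' => ?_⟩, hSgM, fun hle => ?_⟩
    · obtain ⟨hL'c, hSL⟩ := hL'
      obtain ⟨y₀, hy₀⟩ := exists_prime_orderOf_dvd_card' p hpd
      rw [← Subgroup.orderOf_coe] at hy₀
      have hy1 : (y₀ : G) ≠ 1 := fun e => by rw [e, orderOf_one] at hy₀; exact hp.one_lt.ne hy₀
      by_cases hpσ' : p ∈ Cfsg.sigma L'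
      · obtain ⟨T, hT, hyT⟩ := exists_sylowIn_ge (IsPGroup.of_card (n := 1)
          (by rw [Nat.card_zpowers, hy₀, pow_one] : Nat.card (Subgroup.zpowers (y₀ : G)) = p ^ 1))
          (Subgroup.zpowers_le.mpr y₀.2.1)
        obtain ⟨m, hm, em⟩ := hT.exists_conj hSgS
        have hmM := sigmaCore_le M hm
        set y := m * (y₀ : G) * m⁻¹ with hy
        have hyS : y ∈ Sg := em ▸ Basics.conj_mem_conj_smul (hyT (Subgroup.mem_zpowers _))
        have hy1' : y ≠ 1 := fun e => hy1 (conj_eq_one_iff.mp e)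
        have hC : Subgroup.centralizer ({y} : Set G) ≤ M := fun c hc => by
          have hc' : m⁻¹ * c * m ∈ Subgroup.centralizer ({(y₀ : G)} : Set G) := by
            refine Subgroup.mem_centralizer_singleton_iff.mpr ?_
            have h' := Subgroup.mem_centralizer_singleton_iff.mp hc
            calc m⁻¹ * c * m * (y₀ : G) = m⁻¹ * (c * y) * m := by rw [hy]; group
              _ = m⁻¹ * (y * c) * m := by rw [h']
              _ = _ := by rw [hy]; group
          have h2 := mul_mem (mul_mem hmM (kstar_centralizer_le hG hM hK hK1 y₀.2 hy1 hc')) (inv_mem hmM)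
          rwa [show m * (m⁻¹ * c * m) * m⁻¹ = c by group] at h2
        obtain ⟨g, hg⟩ := sigma_disjoint hG hM hL'c hpσ hpσ'
        rw [hg]
        exact eq_of_mem_conj hG hM (hSgS.1 hyS) hy1' (hg ▸ hSL hyS) hC
      · exfalso
        have hT : IsSylowIn p L' Sg := hfull L' hSL
        have hr2 := pRankLE_two_of_not_mem_sigma hG hL'c hpσ'
        refine hnot ?_ fun V hV hVe => card_le_of_pRankLE hr2 (hV.trans hSL) hVe
        by_cases h1 : PRankLE p 1 L'
        · haveI := isCyclic_of_pRankLE_one (prime_ne_two hG (hpd.trans (Subgroup.card_subgroup_dvd_card _))) h1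
            hSL hT.isPGroup
          exact IsCyclic.isMulCommutative
        · obtain ⟨B, hBL, hB, hBc⟩ := exists_ea_of_not_pRankLE_one h1
          have hB2 := ea_card_eq_sq hr2 hB hBL hBc
          obtain ⟨R, hR, hBR⟩ := exists_sylowIn_ge (isPGroup_of_exponent hB.2) hBL
          obtain ⟨m, -, em⟩ := hR.exists_conj hT
          have hBS : MulAut.conj m • B ≤ Sg := em ▸ Subgroup.pointwise_smul_le_pointwise_smul_iff.mpr hBR
          obtain ⟨X, hX⟩ := exists_exc hG hL'c hpσ' (hBS.trans hSL) (ea_map hB _)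
            ((Basics.card_conj_smul m B).trans hB2)
          exact hX.sylow_abelian hG hT hBS
    · haveI := (h.facts hG).2.2
      have hAc : IsCyclic A := Subgroup.isCyclic_of_le (H := A)
        (H' := K ⊔ (Cfsg.sigmaCore M ⊓ Subgroup.centralizer (K : Set G))) le_sup_right
      haveI : IsCyclic Sg := Subgroup.isCyclic_of_le (H := Sg) (H' := A) hle
      exact hnot IsCyclic.isMulCommutative fun V hV hVe => (card_le_of_cyclic_ea hVe
        (Subgroup.isCyclic_of_le (H := V) (H' := Sg) hV)).trans (Nat.le_self_pow two_ne_zero p)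
  · have hY1 : Y ≠ ⊥ := fun e => hYA (by rw [e, bot_inf_eq])
    obtain ⟨c, hc⟩ := exists_conj_le_sigmaCore hG hM hY1 hY
    obtain ⟨x, hx, hx1⟩ := (Subgroup.bot_or_exists_ne_one _).resolve_left hYA
    obtain ⟨hxY, hxA⟩ := Subgroup.mem_inf.mp hx
    have hxc : x ∈ M.map (MulAut.conj c⁻¹).toMonoidHom :=
      ⟨c * x * c⁻¹, sigmaCore_le M (hc ⟨x, hxY, rfl⟩), by simp [mul_assoc]⟩
    have hcM : c ∈ M := inv_mem_iff.mp (mem_of_map_conj_eq hG hM
      (eq_of_mem_conj hG hM hxA.1 hx1 hxc (kstar_centralizer_le hG hM hK hK1 hxA hx1)))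
    intro z hz
    exact (Subgroup.mem_normalizer_iff.mp (le_normalizer_sigmaCore M hcM) z).mpr (hc ⟨z, hz, rfl⟩)

end Cfsg.Agent.S1431
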