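import Cfsg.Statements.S1436
import Cfsg.Agent.Lib.OddLocal.NeighborBound

set_option autoImplicit false
set_option linter.style.haveILetI false
open Cfsg
open Cfsg.Agent.OddLocal
open Cfsg.Agent.Basics
open scoped commutatorElement Pointwise

namespace Cfsg.Agent.S1436

/-- Let G be a minimal simple group of odd order, M a maximal subgroup, x ≠ 1 in M_σ with C_G(x) ⊄ M, and N a maximal subgroup containing C_G(x). (a) If some prime of σ(N) divides the order of M, then κ(M) = ∅ and τ₂(M) = ∅. (b) If y ≠ 1 in M_σ has C_G(y) ⊄ M, N' is a maximal subgroup containing C_G(y), and gN'g⁻¹ = N for some g ∈ G, then mN'm⁻¹ = N for some m ∈ M. -/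
theorem result {G : Type*} [Group G] [Finite G] (hG : Cfsg.IsMinSimpleOddOrder G)
    (M : Subgroup G) (hM : IsCoatom M) (x : G) (hx : x ∈ Cfsg.sigmaCore M) (hx1 : x ≠ 1) (hxM : ¬ Subgroup.centralizer ({x} : Set G) ≤ M)
    (N : Subgroup G) (hN : IsCoatom N) (hxN : Subgroup.centralizer ({x} : Set G) ≤ N) :
    ((∃ p ∈ Cfsg.sigma N, p ∣ Nat.card M) → Cfsg.kappa M = ∅ ∧ Cfsg.tau2 M = ∅) ∧
      ∀ (y : G) (N' : Subgroup G) (g : G), y ∈ Cfsg.sigmaCore M → y ≠ 1 → ¬ Subgroup.centralizer ({y} : Set G) ≤ M → IsCoatom N' → Subgroup.centralizer ({y} : Set G) ≤ N' →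
        N'.map (MulAut.conj g).toMonoidHom = N → ∃ m ∈ M, N'.map (MulAut.conj m).toMonoidHom = N := by
  obtain ⟨N₁, hN₁, -, huniq, hconj, -, -, hcompl, -, -, -⟩ := exists_neighbor hG hM hx hx1 hxM
  obtain rfl : N = N₁ := huniq N hN hxN
  refine ⟨fun ⟨p, hpN, hpd⟩ => ?_, fun y N' g hy hy1 hyM hN' hyN' hg => ?_⟩
  · rcases (Cfsg.kappa N).eq_empty_or_nonempty with hκN | hκN
    swap
    · obtain ⟨K, U, L, -, -, -, -, hUσ, hxC, hP2, k, r, ho⟩ := neighbor_kappa_setup hG hM hN hx hx1 hxM hxN hκN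
      exact ⟨ho.kappa_empty hG, Set.eq_empty_iff_forall_notMem.mpr (neighbor_tau2_empty hG ho hP2 hx hUσ hxC)⟩
    haveI := Fact.mk hpN.1
    have hpσ : p ∉ Cfsg.sigma M := fun hs => by
      obtain ⟨g, hg⟩ := sigma_disjoint hG hM hN hs hpN
      exact hconj g hg
    have hκM : Cfsg.kappa M = ∅ := by
      by_contra hne
      obtain ⟨s, hs⟩ := Set.nonempty_iff_ne_empty.mpr hne
      obtain ⟨KM, hKM⟩ := exists_kappa_hall hG hM
      have hKM1 : KM ≠ ⊥ := fun e => hKM.2.2 s hs.1 hs (by rw [e, Subgroup.relIndex_bot_left]; exact hs.2.1)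
      by_cases hpk : p ∈ Cfsg.kappa M
      · obtain ⟨L, hL, -, hKL, hsL, -⟩ := exists_dual hG hM hKM hKM1
        have hpL : p ∈ Cfsg.sigma L := by
          refine piCoreOf_primes _ L hpN.1 (dvd_trans ?_ (Subgroup.card_dvd_of_le (hsL.le.trans inf_le_left)))
          refine Nat.dvd_of_factorization_pos ?_
          rw [hallOf_factorization hKM hpN.1 hpk]
          exact (hpN.1.factorization_pos_of_dvd Nat.card_pos.ne' hpd).ne'
        obtain ⟨g, hg⟩ := sigma_disjoint hG hL hN hpL hpN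
        obtain ⟨r, hr, hrd⟩ := Nat.exists_prime_and_dvd fun e =>
          kappa_fixed_ne_bot hG hM hKM hKM1 (Subgroup.card_eq_one.mp e)
        have h := kappa_conj hG hL g (hKL.2.1 r hr hrd)
        rw [← hg, hκN] at h
        exact h.elim
      · obtain ⟨q, hq, hqd⟩ := Nat.exists_prime_and_dvd fun e => hx1 (orderOf_eq_one_iff.mp e)
        obtain ⟨-, hnil, -⟩ := compl_prime hG hM hKM hKM1 hpN.1 hpd hpσ hpk
        obtain ⟨hC, -⟩ := fitting_centralizer_le hG hM hKM hKM1 hpN.1 hpd hpσ hpk hq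
          (sigmaCore_le_fittingOf hnil (pow_mem hx (orderOf x / q)))
          (orderOf_pow_orderOf_div (orderOf_pos x).ne' hqd)
        exact hxM (fun c hc => hC (Subgroup.mem_centralizer_singleton_iff.mpr
          ((show Commute c x from Subgroup.mem_centralizer_singleton_iff.mp hc).pow_right _).eq))
    refine ⟨hκM, Set.eq_empty_iff_forall_notMem.mpr fun t ht => ?_⟩
    haveI := Fact.mk ht.1
    exact neighbor_tau2_sigma_free hG hM hN hx hx1 hxM hxN hκM hκN hpN hpd ht
  · obtain ⟨N₂, hN₂, -, huniq', -, -, -, hcompl', -, -, -⟩ := exists_neighbor hG hM hy hy1 hyM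
    obtain rfl : N' = N₂ := huniq' N' hN' hyN'
    obtain ⟨q, hq, hqd⟩ := Nat.exists_prime_and_dvd fun e => hy1 (orderOf_eq_one_iff.mp e)
    haveI := Fact.mk hq
    set b := y ^ (orderOf y / q) with hb
    have hbo : orderOf b = q := orderOf_pow_orderOf_div (orderOf_pos y).ne' hqd
    have hbσ : b ∈ Cfsg.sigmaCore M := pow_mem hy _
    have hb1 : b ≠ 1 := fun h => hq.one_lt.ne (by rw [← hbo, h, orderOf_one])
    have hle : Subgroup.centralizer ({y} : Set G) ≤ Subgroup.centralizer ({b} : Set G) := fun c hc =>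
      Subgroup.mem_centralizer_singleton_iff.mpr
        ((show Commute c y from Subgroup.mem_centralizer_singleton_iff.mp hc).pow_right _).eq
    have hqM : q ∈ Cfsg.sigma M := orderOf_core hbσ q hq hbo.symm.dvd
    have hCb : Subgroup.centralizer ({b} : Set G) ≤ N' := by
      obtain ⟨N₃, hN₃, hC₃, -⟩ := exists_neighbor hG hM hbσ hb1 fun h => hyM (hle.trans h)
      exact huniq' N₃ hN₃ (hle.trans hC₃) ▸ hC₃
    -- move the complement of `N'` to the one of `N`
    set F := (M ⊓ N').map (MulAut.conj g).toMonoidHom with hF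
    have hFN : F ≤ N := hg ▸ Subgroup.map_mono inf_le_right
    have hsig : Cfsg.sigma N = Cfsg.sigma N' := by rw [← hg, sigma_map]
    obtain ⟨n, hn, hnF⟩ := exists_conj_le_compl hG hN hcompl hFN fun r hr hrd => by
      rw [hsig]
      rw [hF, Subgroup.card_map_of_injective (MulAut.conj g).injective] at hrd
      exact compl_primes hG hN' hcompl' hr hrd
    have hbN : b ∈ N' := hCb (Subgroup.mem_centralizer_singleton_iff.mpr rfl)
    have hgb : (Subgroup.zpowers b).map (MulAut.conj (n * g)).toMonoidHom ≤ M := by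
      rw [← map_conj_map_conj]
      refine le_trans ?_ (inf_le_left : M ⊓ N ≤ M)
      rintro _ ⟨w, hw, rfl⟩
      refine hnF (Basics.conj_mem_conj_smul ?_)
      exact Subgroup.map_mono (Subgroup.zpowers_le.mpr (Subgroup.mem_inf.mpr ⟨sigmaCore_le M hbσ, hbN⟩)) hw
    obtain ⟨m, hm, c, hc, e⟩ := sigma_fusion hG hM hqM
      (IsPGroup.of_card (n := 1) (by rw [Nat.card_zpowers, hbo, pow_one]) : IsPGroup q (Subgroup.zpowers b))
      (fun h => hb1 (Subgroup.zpowers_eq_bot.mp h)) (Subgroup.zpowers_le.mpr (sigmaCore_le M hbσ)) hgb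
    have hcN : c ∈ N' := hCb (by rwa [centralizer_eq_of_zpowers] at hc)
    refine ⟨m, hm, ?_⟩
    calc N'.map (MulAut.conj m).toMonoidHom
        = (N'.map (MulAut.conj c).toMonoidHom).map (MulAut.conj m).toMonoidHom := by rw [map_conj_eq_self hcN]
      _ = (N'.map (MulAut.conj g).toMonoidHom).map (MulAut.conj n).toMonoidHom := by
        rw [map_conj_map_conj, map_conj_map_conj, e]
      _ = N := by rw [hg, map_conj_eq_self hn]

end Cfsg.Agent.S1436
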