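import Cfsg.Statements.S1437
import Cfsg.Agent.Lib.OddLocal.KappaP1
import Cfsg.Agent.Lib.OddLocal.KappaFittingHall
import Cfsg.Agent.S1355

set_option autoImplicit false
set_option linter.style.haveILetI false
open Cfsg
open Cfsg.Agent.OddLocal
open Cfsg.Agent.Basics
open scoped commutatorElement Pointwise

namespace Cfsg.Agent.S1437

/-- Let G be a minimal simple group of odd order and M a maximal subgroup with standard factorisation M = K U M_σ such that M_F ≠ M_σ; put K* = M_σ ∩ C_G(K), p = #K, q = #K*. Then U = 1 and M_σ = M'; p and q are prime, q divides #M_F and q ∈ β(M); M_σ has a Sylow q-subgroup Q normal in M and contained in M_F; every complement D of Q in M_σ is nilpotent, and Q₀ = Q ∩ C_G(D) is normal in M; Q₀ < Q with #Q = #Q₀ · q ^ p, every element of Q has its q-th power and all its commutators with Q in Q₀, and every subgroup strictly between Q₀ and Q fails to be normal in M. -/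
theorem result {G : Type*} [Group G] [Finite G] (hG : Cfsg.IsMinSimpleOddOrder G)
    (M : Subgroup G) (hM : IsCoatom M) (K U : Subgroup G) (hKU : Cfsg.IsSigmaDecomposition M K U) (hne : Cfsg.fittingHallOf M ≠ Cfsg.sigmaCore M) :
    U = ⊥ ∧ Cfsg.sigmaCore M = ⁅M, M⁆ ∧ (Nat.card K).Prime ∧ (Nat.card ↥(Cfsg.sigmaCore M ⊓ Subgroup.centralizer (K : Set G))).Prime ∧
      Nat.card ↥(Cfsg.sigmaCore M ⊓ Subgroup.centralizer (K : Set G)) ∣ Nat.card (Cfsg.fittingHallOf M) ∧ Nat.card ↥(Cfsg.sigmaCore M ⊓ Subgroup.centralizer (K : Set G)) ∈ Cfsg.beta M ∧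
      ∃ Q : Subgroup G, Q ≤ Cfsg.fittingHallOf M ∧ M ≤ Subgroup.normalizer (Q : Set G) ∧ IsPGroup (Nat.card ↥(Cfsg.sigmaCore M ⊓ Subgroup.centralizer (K : Set G))) Q ∧
        ¬ Nat.card ↥(Cfsg.sigmaCore M ⊓ Subgroup.centralizer (K : Set G)) ∣ Q.relIndex (Cfsg.sigmaCore M) ∧
        ∀ D : Subgroup G, Cfsg.IsComplIn Q D (Cfsg.sigmaCore M) →
          Group.IsNilpotent D ∧ M ≤ Subgroup.normalizer ((Q ⊓ Subgroup.centralizer (D : Set G) : Subgroup G) : Set G) ∧
          Q ⊓ Subgroup.centralizer (D : Set G) < Q ∧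
          Nat.card Q = Nat.card ↥(Q ⊓ Subgroup.centralizer (D : Set G)) * Nat.card ↥(Cfsg.sigmaCore M ⊓ Subgroup.centralizer (K : Set G)) ^ Nat.card K ∧
          (∀ a ∈ Q, ∀ b ∈ Q, a ^ Nat.card ↥(Cfsg.sigmaCore M ⊓ Subgroup.centralizer (K : Set G)) ∈ Q ⊓ Subgroup.centralizer (D : Set G) ∧
            a * b * a⁻¹ * b⁻¹ ∈ Q ⊓ Subgroup.centralizer (D : Set G)) ∧
          ∀ N : Subgroup G, Q ⊓ Subgroup.centralizer (D : Set G) < N → N < Q → ¬ M ≤ Subgroup.normalizer (N : Set G) := by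
  have hn : ¬ Group.IsNilpotent (Cfsg.sigmaCore M) := fun h => hne (fittingHallOf_eq_sigmaCore hG hM h)
  obtain ⟨q, hq, hAc, hβ, hK1, hKp, hP, Q, D, hQ, hQn, hQW, hAQ, hDW, hKD, hqD, hWeq, hMeq, hDnil, -, hMQ₀, hlt, hcard,
    hpow, hmin⟩ := p1_full hG hM hKU.hall hn
  haveI := Fact.mk hq
  have hU1 : U = ⊥ := Subgroup.card_eq_one.mp (Nat.eq_one_iff_not_exists_prime_dvd.mpr fun p hp hd => by
    obtain ⟨-, hpk, hps⟩ := (decomp_hall hG hM hKU).2.1 p hp hd
    exact hpk (hP p hp (hd.trans (Subgroup.card_dvd_of_le hKU.compl.1)) hps))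
  have hder : Cfsg.sigmaCore M = ⁅M, M⁆ := by
    refine le_antisymm (S1355.result hG M hM).2.2.1 (Subgroup.commutator_le.mpr fun a ha b hb => ?_)
    haveI := hKU.cyclic
    haveI : IsMulCommutative K := IsCyclic.isMulCommutative
    have hK : K ≤ M := hKU.hall.1
    have hmem : ∀ m ∈ M, ∃ s ∈ Cfsg.sigmaCore M, ∃ c ∈ K, m = s * c := fun m hm => by
      obtain ⟨u, hu, v, hv, rfl⟩ := hKU.compl.2.2.2 m hm
      rw [hU1, Subgroup.mem_bot] at hu
      rw [sup_comm] at hv
      obtain ⟨s, hs, c, hc, rfl⟩ := (mem_sup_of_le_normalizer (hK.trans (le_normalizer_sigmaCore M))).mp hv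
      exact ⟨s, hs, c, hc, by rw [hu, one_mul]⟩
    obtain ⟨s, hs, c, hc, rfl⟩ := hmem a ha
    obtain ⟨s', hs', c', hc', rfl⟩ := hmem b hb
    have hcc : c * c' = c' * c := congrArg Subtype.val (mul_comm' (⟨c, hc⟩ : K) ⟨c', hc'⟩)
    have hn : ∀ k ∈ K, ∀ v ∈ Cfsg.sigmaCore M, k * v * k⁻¹ ∈ Cfsg.sigmaCore M := fun k hk v hv =>
      (Subgroup.mem_normalizer_iff.mp (le_normalizer_sigmaCore M (hK hk)) v).mp hv
    rw [show ⁅s * c, s' * c'⁆ = s * (c * s' * c⁻¹) * (c' * s⁻¹ * c'⁻¹) * s'⁻¹ by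
      rw [commutatorElement_def]
      calc s * c * (s' * c') * (s * c)⁻¹ * (s' * c')⁻¹
          = s * (c * s' * c⁻¹) * ((c * c') * c⁻¹ * s⁻¹ * c'⁻¹) * s'⁻¹ := by group
        _ = s * (c * s' * c⁻¹) * ((c' * c) * c⁻¹ * s⁻¹ * c'⁻¹) * s'⁻¹ := by rw [hcc]
        _ = _ := by group]
    exact mul_mem (mul_mem (mul_mem hs (hn c hc s' hs')) (hn c' hc' s⁻¹ (inv_mem hs))) (inv_mem hs')
  have hQF : Q ≤ Cfsg.fittingHallOf M := sylow_le_fittingHallOf hQ hQn
  rw [hAc]
  refine ⟨hU1, hder, hKp, hq, hAc.symm.dvd.trans (Subgroup.card_dvd_of_le (hAQ.trans hQF)), hβ,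
    Q, hQF, hQn, hQ.isPGroup, fun hd => ?_, fun D' hD' => ?_⟩
  · have h := Subgroup.relIndex_mul_relIndex ⊥ Q (Cfsg.sigmaCore M) bot_le hQW
    rw [Subgroup.relIndex_bot_left, Subgroup.relIndex_bot_left] at h
    have h1 : q * q ^ (Nat.card M).factorization q ∣ Nat.card M := by
      refine dvd_trans ?_ (Subgroup.card_dvd_of_le (sigmaCore_le M))
      rw [← h, mul_comm q, hQ.2]
      exact mul_dvd_mul dvd_rfl hd
    rw [mul_comm, ← pow_succ] at h1
    exact Nat.pow_succ_factorization_not_dvd Nat.card_pos.ne' hq h1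
  · -- move `D` onto `D'`
    set W := Cfsg.sigmaCore M with hW
    haveI : Group.IsSolvable W := Basics.isSolvable_of_le (sigmaCore_le M) (isSolvable_of_ne_top hG hM.1)
    have hidx : ∀ B : Subgroup G, IsComplIn Q B W → (B.subgroupOf W).index = Nat.card Q := fun B hB =>
      relIndex_right_of_isComplIn hB
    have hBq : ∀ B : Subgroup G, IsComplIn Q B W → ¬ q ∣ Nat.card B := fun B hB hd => by
      have h := card_of_isComplIn hB
      have h1 : q * q ^ (Nat.card M).factorization q ∣ Nat.card M := by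
        refine dvd_trans ?_ (Subgroup.card_dvd_of_le (sigmaCore_le M))
        rw [h, mul_comm q, hQ.2]
        exact mul_dvd_mul dvd_rfl hd
      rw [mul_comm, ← pow_succ] at h1
      exact Nat.pow_succ_factorization_not_dvd Nat.card_pos.ne' hq h1
    have hQD : IsComplIn Q D W := by
      refine ⟨hQW, hDW, (Subgroup.disjoint_of_coprime_natCard ?_).eq_bot, fun m hm => ?_⟩
      · rw [hQ.2]; exact ((hq.coprime_iff_not_dvd.mpr hqD)).pow_left _
      · rw [hWeq] at hm
        exact (mem_sup_of_le_normalizer ((hDW.trans (sigmaCore_le M)).trans hQn)).mp hm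
    obtain ⟨w, hw⟩ := exists_le_conj_hall (H := D.subgroupOf W) (K := D'.subgroupOf W)
      (by
        rw [hidx D hQD, Basics.card_subgroupOf hDW, hQ.2]
        exact ((hq.coprime_iff_not_dvd.mpr hqD).symm).pow_right _)
      (by
        rw [hidx D hQD, Basics.card_subgroupOf hD'.2.1, hQ.2]
        exact ((hq.coprime_iff_not_dvd.mpr (hBq D' hD')).symm).pow_right _)
    have hDD' : D' = D.map (MulAut.conj (w : G)).toMonoidHom := by
      refine Subgroup.eq_of_le_of_card_ge (fun d hd => ?_) ?_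
      · obtain ⟨e, he, ee⟩ := hw (show (⟨d, hD'.2.1 hd⟩ : W) ∈ D'.subgroupOf W from hd)
        exact ⟨e, he, congrArg Subtype.val ee⟩
      · rw [Subgroup.card_map_of_injective (MulAut.conj (w : G)).injective]
        have h := (card_of_isComplIn hQD).symm.trans (card_of_isComplIn hD')
        exact (Nat.eq_of_mul_eq_mul_left Nat.card_pos h).le
    set Q₀ := Q ⊓ Subgroup.centralizer (D : Set G) with hQ₀
    have hwM : (w : G) ∈ M := sigmaCore_le M w.2
    have hQ₀' : Q ⊓ Subgroup.centralizer (D' : Set G) = Q₀ := by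
      have h1 : Q₀.map (MulAut.conj (w : G)).toMonoidHom = Q₀ :=
        Subgroup.mem_normalizer_iff_map_conj_eq.mp (hMQ₀ hwM)
      have h2 : Q.map (MulAut.conj (w : G)).toMonoidHom = Q :=
        Subgroup.mem_normalizer_iff_map_conj_eq.mp (hQn hwM)
      rw [← h1, hQ₀, Subgroup.map_inf _ _ _ (MulAut.conj (w : G)).injective, h2, hDD']
      congr 1
      rw [← SetLike.coe_set_eq]
      ext v
      simp only [SetLike.mem_coe, Subgroup.mem_centralizer_iff, mem_map_conj_iff]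
      refine ⟨fun h a ha => ?_, fun h a ha => ?_⟩
      · have e := h ((w : G) * a * (w : G)⁻¹) (by simpa [mul_assoc] using ha)
        calc a * ((w : G)⁻¹ * v * w) = (w : G)⁻¹ * ((w : G) * a * (w : G)⁻¹ * v) * w := by group
          _ = (w : G)⁻¹ * (v * ((w : G) * a * (w : G)⁻¹)) * w := by rw [e]
          _ = _ := by group
      · have e := h ((w : G)⁻¹ * a * w) ha
        calc a * v = (w : G) * ((w : G)⁻¹ * a * w * ((w : G)⁻¹ * v * w)) * (w : G)⁻¹ := by group
          _ = (w : G) * ((w : G)⁻¹ * v * w * ((w : G)⁻¹ * a * w)) * (w : G)⁻¹ := by rw [e]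
          _ = _ := by group
    rw [hQ₀']
    refine ⟨?_, hMQ₀, hlt, hcard, hpow, hmin⟩
    rw [hDD']
    exact Group.nilpotent_of_mulEquiv (D.equivMapOfInjective _ (MulAut.conj (w : G)).injective)

end Cfsg.Agent.S1437
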