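import Cfsg.Statements.S1438
import Cfsg.Agent.Lib.OddLocal.HallFusion
import Cfsg.Agent.Lib.OddLocal.SigmaTilde

set_option autoImplicit false
set_option linter.style.haveILetI false
open Cfsg
open Cfsg.Agent.OddLocal
open Cfsg.Agent.Basics
open scoped commutatorElement Pointwise

namespace Cfsg.Agent.S1438

/-- Let G be a minimal simple group of odd order, M a maximal subgroup and H a nontrivial subgroup of M_σ whose order is coprime to its index in M_σ. Then M ∩ C_G(H) is generated by M_σ ∩ C_G(H) together with a cyclic subgroup X all of whose prime divisors lie in τ₂(M); and if x ∈ H and gxg⁻¹ ∈ H then nxn⁻¹ = gxg⁻¹ for some n ∈ M ∩ N_G(H). -/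
theorem result {G : Type*} [Group G] [Finite G] (hG : Cfsg.IsMinSimpleOddOrder G)
    (M : Subgroup G) (hM : IsCoatom M) (H : Subgroup G) (hH : H ≤ Cfsg.sigmaCore M) (hH1 : H ≠ ⊥)
    (hHall : (Nat.card H).Coprime (H.relIndex (Cfsg.sigmaCore M))) :
    (∃ X : Subgroup G, IsCyclic X ∧ (∀ p : ℕ, p.Prime → p ∣ Nat.card X → p ∈ Cfsg.tau2 M) ∧
        M ⊓ Subgroup.centralizer (H : Set G) = (Cfsg.sigmaCore M ⊓ Subgroup.centralizer (H : Set G)) ⊔ X) ∧
      ∀ x ∈ H, ∀ g : G, g * x * g⁻¹ ∈ H → ∃ n ∈ M ⊓ Subgroup.normalizer (H : Set G), n * x * n⁻¹ = g * x * g⁻¹ := by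
  refine ⟨?_, fun x hx g hgx => hall_fusion hG hM hH hHall hx hgx⟩
  haveI : Group.IsSolvable M := isSolvable_of_ne_top hG hM.1
  set C := M ⊓ Subgroup.centralizer (H : Set G) with hC
  set W := Cfsg.sigmaCore M with hW
  have hWM : W ≤ M := sigmaCore_le M
  obtain ⟨X, hXC, hXπ, hXf⟩ := exists_hall_in hG (H := C) (fun e => hM.1 (top_le_iff.mp (e ▸ inf_le_left)))
    {q | q ∉ Cfsg.sigma M}
  obtain ⟨y, hy, hy1⟩ := (Subgroup.bot_or_exists_ne_one H).resolve_left hH1
  have hXM : X ≤ M := hXC.trans inf_le_left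
  have hcomm : ∀ k ∈ X, ∀ a ∈ H, Commute k a := fun k hk a ha =>
    (Subgroup.mem_centralizer_iff.mp (hXC hk).2 a ha).symm
  have hτ : ∀ p : ℕ, p.Prime → p ∣ Nat.card X → p ∈ Cfsg.tau2 M := by
    intro p hp hd
    haveI := Fact.mk hp
    obtain ⟨k₀, hk₀⟩ := exists_prime_orderOf_dvd_card' p hd
    rw [← Subgroup.orderOf_coe] at hk₀
    have hk1 : (k₀ : G) ≠ 1 := fun e => by rw [e, orderOf_one] at hk₀; exact hp.one_lt.ne hk₀
    rcases fixed_dichotomy hG hM (hH hy) hy1 (hXM k₀.2) (hcomm _ k₀.2 y hy) hk1 (fun s hs hd' => by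
      rw [hk₀] at hd'
      rw [(Nat.prime_dvd_prime_iff_eq hs hp).mp hd']
      exact hXπ p hp hd) with ⟨h, -⟩ | ⟨h, -⟩
    · exfalso
      obtain ⟨t, ht, htd⟩ := Nat.exists_prime_and_dvd fun e => hH1 (Subgroup.card_eq_one.mp e)
      haveI := Fact.mk ht
      have htσ : t ∈ Cfsg.sigma M := piCoreOf_primes _ M ht (htd.trans (Subgroup.card_dvd_of_le hH))
      obtain ⟨S, hS⟩ := exists_sylowIn (q := t) H
      have hSM : IsSylowIn t M S := by
        refine ⟨hS.1.trans (hH.trans hWM), ?_⟩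
        have hc := Subgroup.relIndex_mul_relIndex ⊥ H W bot_le hH
        rw [Subgroup.relIndex_bot_left, Subgroup.relIndex_bot_left] at hc
        rw [hS.2, ← hallOf_factorization (sigmaCore_hall hG hM).1 ht htσ, ← hW, ← hc,
          Nat.factorization_mul Nat.card_pos.ne' (show H.relIndex W ≠ 0 from Subgroup.index_ne_zero_of_finite),
          Finsupp.add_apply, Nat.factorization_eq_zero_of_not_dvd (n := H.relIndex W)
            fun h' => Nat.not_coprime_of_dvd_of_dvd ht.one_lt htd h' hHall, add_zero]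
      exact kappa_not_centralize_sylow hG hM (hXM k₀.2) hp hk₀ (h p hp hk₀.symm.dvd) htσ hSM
        fun s hs => Subgroup.mem_centralizer_singleton_iff.mpr (hcomm _ k₀.2 s (hS.1 hs)).eq.symm
    · exact h p hp hk₀.symm.dvd
  obtain ⟨A₀, hA₀M, hA₀c, hA₀⟩ := exists_fixed_abelian hG hM
  have hXA : X ≤ W ⊔ A₀ := fun k hk => hA₀ k (hXM hk) (fun q hq hd => by
    haveI := Fact.mk hq
    have h := hτ q hq (hd.trans (Subgroup.orderOf_dvd_natCard _ hk))
    exact ⟨h.2.1, fun hk' => h.2.2.2 (kappa_rank_one hk')⟩) ⟨y, hH hy, hy1, hcomm k hk y hy⟩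
  have hXW : Disjoint X W := Subgroup.disjoint_of_coprime_natCard (Nat.coprime_of_dvd fun q hq h1 h2 =>
    hXπ q hq h1 (piCoreOf_primes _ M hq h2))
  have hXab : IsMulCommutative X := ⟨⟨fun a b => Subtype.ext (by
    haveI := hA₀c
    have hz : ⁅(a : G), (b : G)⁆ ∈ W := commutator_sup_le (hA₀M.trans (le_normalizer_sigmaCore M))
      (Subgroup.commutator_mem_commutator (hXA a.2) (hXA b.2))
    exact commutatorElement_eq_one_iff_mul_comm.mp (Subgroup.disjoint_def.mp hXW
      (Subgroup.commutator_le_self X (Subgroup.commutator_mem_commutator a.2 b.2)) hz))⟩⟩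
  have hXc : IsCyclic X := by
    haveI := hXab
    haveI : Group.IsNilpotent X := nilpotent_of_commutative
    haveI : IsZGroup X := ⟨fun p hp P => by
      haveI := Fact.mk hp
      by_contra hc
      have hnc : ¬ IsCyclic ((P : Subgroup X).map X.subtype) := fun h =>
        hc (((P : Subgroup X).equivMapOfInjective _ X.subtype_injective).isCyclic.mpr h)
      have hd : p ∣ Nat.card X := (P.2.card_eq_or_dvd.resolve_left fun e => hc (by
        haveI : Subsingleton (P : Subgroup X) := (Nat.card_eq_one_iff_unique.mp e).1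
        exact isCyclic_of_subsingleton)).trans (Subgroup.card_subgroup_dvd_card _)
      have hp2 : p ≠ 2 := prime_ne_two hG (hd.trans (Subgroup.card_subgroup_dvd_card X))
      obtain ⟨E, hE, hE2⟩ := exists_ea_two_of_not_isCyclic hp2 (P.2.map X.subtype) hnc
      set A := E.map ((P : Subgroup X).map X.subtype).subtype with hA
      have hAX : A ≤ X := (Subgroup.map_subtype_le E).trans (Subgroup.map_subtype_le _)
      have hAe : IsElementaryAbelian p A := ea_map hE _
      obtain ⟨-, hps, hr2, hr1⟩ := hτ p hp hd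
      have hA2 : Nat.card A = p ^ 2 := by
        obtain ⟨n, hn⟩ := IsPGroup.iff_card.mp (isPGroup_of_exponent (p := p) hAe.2)
        refine le_antisymm (card_le_of_pRankLE hr2 (hAX.trans hXM) hAe) ?_
        rw [hn]
        refine Nat.pow_le_pow_right hp.pos ?_
        by_contra hlt
        have h : Nat.card A = Nat.card E :=
          (Nat.card_congr (E.equivMapOfInjective _ (Subgroup.subtype_injective _)).toEquiv).symm
        rw [hn] at h
        exact absurd hE2 (not_lt.mpr (h ▸ (Nat.pow_le_pow_right hp.pos (by omega : n ≤ 1)).trans (pow_one p).le))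
      obtain ⟨A₁, hAexc⟩ := exists_exc hG hM hps (hAX.trans hXM) hAe hA2
      have hy' : y ∈ W ⊓ Subgroup.centralizer (A : Set G) := Subgroup.mem_inf.mpr
        ⟨hH hy, Subgroup.mem_centralizer_iff.mpr fun a ha => (hcomm a (hAX ha) y hy).eq⟩
      rw [hAexc.centralizer_eq_bot hG, Subgroup.mem_bot] at hy'
      exact hy1 hy'⟩
    infer_instance
  refine ⟨X, hXc, hτ, le_antisymm ?_ (sup_le (inf_le_inf_right _ hWM) hXC)⟩
  have hXn : X ≤ Subgroup.normalizer ((W ⊓ Subgroup.centralizer (H : Set G) : Subgroup G) : Set G) :=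
    (le_inf (hXM.trans (le_normalizer_sigmaCore M))
      ((hXC.trans inf_le_right).trans Subgroup.le_normalizer)).trans le_normalizer_inf'
  refine (Subgroup.eq_of_le_of_card_ge (sup_le (inf_le_inf_right _ hWM) hXC) ?_).ge
  rw [Basics.card_sup_of_coprime hXn (Nat.coprime_of_dvd fun q hq h1 h2 => hXπ q hq h2
    (piCoreOf_primes _ M hq (h1.trans (Subgroup.card_dvd_of_le inf_le_left))))]
  refine Nat.le_of_dvd (Nat.mul_pos Nat.card_pos Nat.card_pos)
    ((Nat.factorization_le_iff_dvd Nat.card_pos.ne' (mul_ne_zero Nat.card_pos.ne' Nat.card_pos.ne')).mp fun q => ?_)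
  rw [Nat.factorization_mul Nat.card_pos.ne' Nat.card_pos.ne', Finsupp.add_apply]
  by_cases hq : q.Prime
  swap
  · simp [Nat.factorization_eq_zero_of_not_prime _ hq]
  haveI := Fact.mk hq
  by_cases hqσ : q ∈ Cfsg.sigma M
  · obtain ⟨T, hT⟩ := exists_sylowIn (q := q) C
    have hle : T ≤ W ⊓ Subgroup.centralizer (H : Set G) :=
      le_inf (pGroup_le_sigmaCore hG hM hqσ hT.isPGroup (hT.1.trans inf_le_left)) (hT.1.trans inf_le_right)
    have h := (hq.pow_dvd_iff_le_factorization Nat.card_pos.ne').mp (hT.2 ▸ Subgroup.card_dvd_of_le hle)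
    rw [hC] at h
    omega
  · rw [hXf q hq hqσ, hC]
    omega

end Cfsg.Agent.S1438
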