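import Cfsg.Statements.S1441
import Cfsg.Agent.Lib.OddLocal.Centralize

set_option autoImplicit false
open Cfsg
open scoped commutatorElement

namespace Cfsg.Agent.S1441

/-- Let G be a finite group, H a solvable subgroup and A a subgroup normalizing H. Suppose there is a chain H = H₀ ≥ H₁ ≥ ⋯ ≥ H_n = 1 of subgroups normal in H and normalized by A such that A acts trivially on each factor H_{i-1}/H_i (that is, [H_{i-1}, A] ≤ H_i). Then every prime dividing the index of C_A(H) in A divides the order of H. -/
theorem result {G : Type*} [Group G] [Finite G] (H A : Subgroup G) (hH : Group.IsSolvable H) (hA : (A ≤ Subgroup.normalizer (H : Set G)))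
    (n : ℕ) (c : Fin (n + 1) → Subgroup G) (hc0 : c 0 = H) (hcn : c (Fin.last n) = ⊥) (hanti : Antitone c)
    (hcN : ∀ i, H ≤ Subgroup.normalizer ((c i : Subgroup G) : Set G)) (hcA : ∀ i, A ≤ Subgroup.normalizer ((c i : Subgroup G) : Set G))
    (htriv : ∀ i : Fin n, ⁅c i.castSucc, A⁆ ≤ c i.succ) :
    ∀ p : ℕ, p.Prime → p ∣ (A ⊓ Subgroup.centralizer (H : Set G)).relIndex A → p ∣ Nat.card H := by
  intro r hr hdvd
  by_contra hrH
  have : Fact r.Prime := ⟨hr⟩
  set D := A ⊓ Subgroup.centralizer (H : Set G) with hD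
  -- elements of order prime to `#H` centralize every term of the series
  have key : ∀ a ∈ A, (orderOf a).Coprime (Nat.card H) → a ∈ Subgroup.centralizer (H : Set G) := by
    intro a ha hco
    have hle : ∀ i, c i ≤ H := fun i => hc0 ▸ hanti (Fin.zero_le i)
    have hind : ∀ i : Fin (n + 1), ∀ x ∈ c i, Commute a x := by
      intro i
      induction i using Fin.reverseInduction with
      | last =>
        intro x hx
        rw [hcn, Subgroup.mem_bot] at hx
        exact hx ▸ Commute.one_right a
      | cast i ih =>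
        intro x hx
        have hm : ⁅a, x⁆ ∈ c i.succ := by
          rw [← commutatorElement_inv]
          exact inv_mem (htriv i (Subgroup.commutator_mem_commutator hx ha))
        have hfix : Commute a ⁅a, x⁆ := ih _ hm
        have hstep : ∀ m : ℕ, a ^ m * x * (a ^ m)⁻¹ = ⁅a, x⁆ ^ m * x := by
          intro m
          induction m with
          | zero => simp
          | succ m ihm =>
            calc a ^ (m + 1) * x * (a ^ (m + 1))⁻¹ = a * (a ^ m * x * (a ^ m)⁻¹) * a⁻¹ := by rw [pow_succ']; group
              _ = a * (⁅a, x⁆ ^ m * x) * a⁻¹ := by rw [ihm]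
              _ = (a * ⁅a, x⁆ ^ m * a⁻¹) * (a * x * a⁻¹) := by group
              _ = ⁅a, x⁆ ^ m * (⁅a, x⁆ * x) := by
                rw [(hfix.pow_right m).eq, mul_inv_cancel_right, commutatorElement_def, inv_mul_cancel_right]
              _ = _ := by rw [pow_succ]; group
        have h1 := hstep (orderOf a)
        rw [pow_orderOf_eq_one] at h1
        simp at h1
        have hcH : ⁅a, x⁆ ∈ H := hle _ hm
        have h2 : ⁅a, x⁆ ^ Nat.card H = 1 := congrArg Subtype.val (pow_card_eq_one' (G := H) (x := ⟨_, hcH⟩))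
        have h3 := pow_gcd_eq_one.mpr ⟨h1, h2⟩
        rw [hco.gcd_eq_one, pow_one] at h3
        exact commutatorElement_eq_one_iff_commute.mp h3
    rw [Subgroup.mem_centralizer_iff]
    intro x hx
    exact (hind 0 x (hc0 ▸ hx)).eq.symm
  -- a Sylow `r`-subgroup of `A` lies in `D`
  obtain ⟨S⟩ : Nonempty (Sylow r A) := inferInstance
  have hS : (S : Subgroup A) ≤ D.subgroupOf A := by
    intro a ha
    refine ⟨a.2, key a a.2 ?_⟩
    obtain ⟨k, hk⟩ := IsPGroup.iff_orderOf.mp S.2 ⟨a, ha⟩
    rw [Subgroup.orderOf_mk] at hk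
    rw [Subgroup.orderOf_coe, hk]
    exact ((hr.coprime_iff_not_dvd.mpr hrH).pow_left k)
  exact S.not_dvd_index (hdvd.trans (Subgroup.index_dvd_of_le hS))

end Cfsg.Agent.S1441
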