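import Cfsg.Statements.S1442
import Cfsg.Agent.Lib.Basics.CoprimeAction

set_option autoImplicit false
open Cfsg

namespace Cfsg.Agent.S1442

/-- Let G be a finite group, H a nilpotent subgroup and A a subgroup normalizing H with the orders of A and H coprime. Put C = H ∩ C_G(A). If H ∩ C_G(C) ≤ C then A centralizes H. -/
theorem result {G : Type*} [Group G] [Finite G] (H A : Subgroup G) (hH : Group.IsNilpotent H) (hA : (A ≤ Subgroup.normalizer (H : Set G))) (hcop : (Nat.card A).Coprime (Nat.card H))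
    (hC : H ⊓ Subgroup.centralizer (((H ⊓ Subgroup.centralizer (A : Set G)) : Subgroup G) : Set G) ≤ (H ⊓ Subgroup.centralizer (A : Set G))) :
    A ≤ Subgroup.centralizer (H : Set G) := by
  have hC0 := hC
  clear hC
  set C := H ⊓ Subgroup.centralizer (A : Set G) with hC
  have hsolv : Group.IsSolvable H := inferInstance
  set N := H ⊓ Subgroup.normalizer (C : Set G) with hN
  have hAC : ∀ {K : Subgroup G}, K ≤ Subgroup.centralizer (A : Set G) → A ≤ Subgroup.centralizer (K : Set G) :=
    fun h => Subgroup.le_centralizer_iff.mp h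
  have hANC : A ≤ Subgroup.normalizer (C : Set G) :=
    (hAC inf_le_right).trans (Subgroup.centralizer_le_normalizer (C : Set G))
  have hAN : A ≤ Subgroup.normalizer (N : Set G) := by
    intro a ha
    rw [Subgroup.mem_normalizer_iff]
    intro n
    exact Subgroup.mem_inf.trans ((and_congr (Subgroup.mem_normalizer_iff.mp (hA ha) n)
      (Subgroup.mem_normalizer_iff.mp (Subgroup.le_normalizer (hANC ha)) n)).trans Subgroup.mem_inf.symm)
  have hCA : ⁅C, A⁆ = ⊥ := Subgroup.commutator_eq_bot_iff_le_centralizer.mpr inf_le_right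
  have h1 : ⁅⁅A, C⁆, N⁆ = ⊥ := by rw [Subgroup.commutator_comm A C, hCA, Subgroup.commutator_bot_left]
  have h2 : ⁅⁅C, N⁆, A⁆ = ⊥ := by
    refine le_bot_iff.mp (hCA ▸ Subgroup.commutator_mono ?_ le_rfl)
    exact Subgroup.le_normalizer_iff_commutator_le_left.mp inf_le_right
  have h3 : ⁅⁅N, A⁆, C⁆ = ⊥ := Subgroup.commutator_commutator_eq_bot_of_rotate h1 h2
  have hNA : ⁅N, A⁆ ≤ C := by
    have hle : ⁅N, A⁆ ≤ H := (Subgroup.le_normalizer_iff_commutator_le_left.mp hAN).trans inf_le_left
    exact (le_inf hle (Subgroup.commutator_eq_bot_iff_le_centralizer.mp h3)).trans hC0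
  have hNcent : A ≤ Subgroup.centralizer (N : Set G) := by
    refine Cfsg.Agent.Basics.le_centralizer_of_commutator_commutator_eq_bot A N hAN
      (hcop.coprime_dvd_right (Subgroup.card_dvd_of_le inf_le_left))
      (Or.inr (Cfsg.Agent.Basics.isSolvable_of_le inf_le_left hsolv)) ?_
    exact le_bot_iff.mp (hCA ▸ Subgroup.commutator_mono hNA le_rfl)
  have hCH : C.subgroupOf H = ⊤ := by
    by_contra hne
    obtain ⟨x, hx1, hx2⟩ := SetLike.exists_of_lt (normalizerCondition_of_isNilpotent (G := H) _ (Ne.lt_top hne))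
    refine hx2 (show (x : G) ∈ C from ⟨x.2, Subgroup.le_centralizer_iff.mp hNcent ⟨x.2, ?_⟩⟩)
    change (x : G) ∈ Subgroup.normalizer (C : Set G)
    rw [Subgroup.mem_normalizer_iff]
    intro m
    constructor
    · intro hm
      exact (Subgroup.mem_normalizer_iff.mp hx1 ⟨m, hm.1⟩).mp hm
    · intro hm
      have hmH : m ∈ H := by
        have : (x : G)⁻¹ * ((x : G) * m * (x : G)⁻¹) * x ∈ H :=
          H.mul_mem (H.mul_mem (H.inv_mem x.2) hm.1) x.2
        simpa [mul_assoc] using this
      exact (Subgroup.mem_normalizer_iff.mp hx1 ⟨m, hmH⟩).mpr hm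
  have hHC : H ≤ Subgroup.centralizer (A : Set G) := (Subgroup.subgroupOf_eq_top.mp hCH).trans inf_le_right
  exact hAC hHC

end Cfsg.Agent.S1442
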