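import Cfsg.Statements.S1443
import Cfsg.Agent.Lib.OddLocal.Centralize

set_option autoImplicit false
open Cfsg

namespace Cfsg.Agent.S1443

/-- Let G be a finite group, p an odd prime, H a p-subgroup, E an elementary abelian subgroup of H, and A a subgroup of order coprime to p normalizing H. If A centralizes every element of order p in H ∩ C_G(E), then A centralizes H. -/
theorem result {G : Type*} [Group G] [Finite G] (p : ℕ) [Fact p.Prime] (hp : p ≠ 2) (H E A : Subgroup G) (hH : IsPGroup p H) (hE : E ≤ H) (hEe : Cfsg.IsElementaryAbelian p E)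
    (hA : (A ≤ Subgroup.normalizer (H : Set G))) (hcop : (Nat.card A).Coprime p)
    (hfix : ∀ x ∈ (H ⊓ Subgroup.centralizer (E : Set G)), orderOf x = p → A ≤ Subgroup.centralizer ({x} : Set G)) :
    A ≤ Subgroup.centralizer (H : Set G) := by
  have hpp : p.Prime := Fact.out
  obtain ⟨hEc, hEp⟩ := hEe
  have hAE : A ≤ Subgroup.centralizer (E : Set G) := by
    intro a ha
    rw [Subgroup.mem_centralizer_iff]
    intro e he
    by_cases he1 : e = 1
    · simp [he1]
    have hmem := hfix e ⟨hE he, Subgroup.mem_centralizer_iff.mpr fun f hf =>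
      congrArg Subtype.val (hEc.is_comm.comm ⟨f, hf⟩ ⟨e, he⟩)⟩ (orderOf_eq_prime (hEp e he) he1) ha
    exact (Subgroup.mem_centralizer_singleton_iff.mp hmem).symm
  refine Cfsg.Agent.OddLocal.centralizes_of_fixed_odd hp hH (hpp.coprime_iff_not_dvd.mp hcop.symm) (hH.to_le hE)
    ((Subgroup.le_centralizer_iff.mp hAE).trans (Subgroup.centralizer_le_normalizer (A : Set G)))
    (hE.trans Subgroup.le_normalizer) hA (fun x hx hxE hxp => ?_)
  rw [Subgroup.mem_centralizer_iff]
  intro a ha
  by_cases hx1 : x = 1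
  · simp [hx1]
  exact Subgroup.mem_centralizer_singleton_iff.mp (hfix x ⟨hx, hxE⟩ (orderOf_eq_prime hxp hx1) ha)

end Cfsg.Agent.S1443
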