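import Cfsg.Statements.S1444
import Cfsg.Agent.Lib.OddLocal.PLengthOne
-- import your own Cfsg.Agent.* helpers here

set_option autoImplicit false
open Cfsg

namespace Cfsg.Agent.S1444

/-- Let G be a solvable group of odd order, H a normal subgroup of order coprime to its index, R a complement to H in G, and R₀ ≤ R a subgroup of prime order such that every Sylow subgroup of H ∩ C_G(R₀) is cyclic. Then for every prime p the commutator subgroup [H, R] satisfies [H,R] = O_{p',p,p'}([H,R]). -/
theorem result {G : Type*} [Group G] [Finite G] [Group.IsSolvable G] (hodd : Odd (Nat.card G)) (H R R₀ : Subgroup G) [H.Normal] (hHall : (Nat.card H).Coprime H.index)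
    (hR : Subgroup.IsComplement' H R) (hR₀ : R₀ ≤ R) (hR₀p : (Nat.card R₀).Prime) (hZ : IsZGroup ↥(H ⊓ Subgroup.centralizer (R₀ : Set G)))
    (p : ℕ) [Fact p.Prime] :
    Cfsg.PLengthLE p 1 ↥⁅H, R⁆ := by
  have hcopHR : (Nat.card H).Coprime (Nat.card R) := hR.symm.index_eq_card ▸ hHall
  have hRH : R ≤ Subgroup.normalizer (H : Set G) := by rw [Subgroup.normalizer_eq_top]; exact le_top
  have hLH : ⁅H, R⁆ ≤ H := Subgroup.commutator_le_left H R
  have hLn : (⁅H, R⁆ : Subgroup G).Normal := by
    refine Subgroup.normalizer_eq_top_iff.mp (eq_top_iff.mpr ?_)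
    rw [← hR.sup_eq_top]
    exact sup_le (Subgroup.normalizer_commutator_ge_left _ _) (Subgroup.normalizer_commutator_ge_right _ _)
  have hle : ⁅H, R⁆ ⊓ Subgroup.centralizer (R₀ : Set G) ≤ H ⊓ Subgroup.centralizer (R₀ : Set G) :=
    inf_le_inf_right _ hLH
  exact OddLocal.pLengthLE_one_of_fixed hodd ⁅H, R⁆ R R₀ (hcopHR.coprime_dvd_left (Subgroup.card_dvd_of_le hLH))
    hR₀ hR₀p (Basics.commutator_commutator_eq R H hRH hcopHR.symm (Or.inr inferInstance))
    (IsZGroup.of_injective (hG' := hZ) (Subgroup.inclusion_injective hle)) p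


end Cfsg.Agent.S1444
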