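import Cfsg.Statements.S1452
import Cfsg.Agent.Lib.OddLocal.RankTwo
-- import your own Cfsg.Agent.* helpers here

set_option autoImplicit false
open Cfsg

namespace Cfsg.Agent.S1452

/-- Let p be an odd prime and R a finite p-group containing an elementary abelian subgroup of order p ^ 3. If E is a normal elementary abelian subgroup of R of order p ^ 2, then E ≤ A for some normal subgroup A of R with C_R(A) = A that contains an elementary abelian subgroup of order p ^ 3. -/
theorem result {R : Type*} [Group R] [Finite R] (p : ℕ) [Fact p.Prime] (hp : p ≠ 2) (hR : IsPGroup p R) (hr : ¬ Cfsg.PRankLE p 2 R)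
    (E : Subgroup R) [E.Normal] (hE : Cfsg.IsElementaryAbelian p E) (hE2 : Nat.card E = p ^ 2) :
    ∃ A : Subgroup R, E ≤ A ∧ A.Normal ∧ Subgroup.centralizer (A : Set R) = A ∧ ¬ Cfsg.PRankLE p 2 A := by
  obtain ⟨B, hEB, hB⟩ := OddLocal.exists_isMaxNormalEA p hE
  haveI := hB.1
  have hbig : p ^ 2 < Nat.card B := by
    by_contra hle
    push Not at hle
    obtain rfl : E = B := Subgroup.eq_of_le_of_card_ge hEB (hE2 ▸ hle)
    refine hr fun F hFc hFe => ?_
    by_contra hF
    push Not at hF
    have hmem : ∀ x ∈ F, x ∈ Subgroup.centralizer (E : Set R) → x ∈ E := fun x hx hxC =>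
      OddLocal.mem_of_isMaxNormalEA hp hR hB hxC (hFe x hx)
    have hrel : Nat.card F ≤ Nat.card ↥(F ⊓ Subgroup.centralizer (E : Set R)) * p := by
      have h1 : Nat.card ↥(F ⊓ Subgroup.centralizer (E : Set R)) * (Subgroup.centralizer (E : Set R)).relIndex F = Nat.card F := by
        rw [← Subgroup.inf_relIndex_left, Subgroup.relIndex,
          ← Agent.Basics.card_subgroupOf (inf_le_left : F ⊓ Subgroup.centralizer (E : Set R) ≤ F),
          Subgroup.card_mul_index]
      rw [← h1]
      refine Nat.mul_le_mul_left _ (le_trans ?_ (OddLocal.index_centralizer_le hR E hE hle))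
      exact Nat.le_of_dvd (Nat.pos_of_ne_zero Subgroup.index_ne_zero_of_finite)
        (Subgroup.relIndex_dvd_index_of_normal _ F)
    have hFC : F ⊓ Subgroup.centralizer (E : Set R) = E := by
      refine Subgroup.eq_of_le_of_card_ge (fun x hx => hmem x hx.1 hx.2) ?_
      by_contra hlt
      push Not at hlt
      obtain ⟨n, hn⟩ := (hR.to_subgroup (F ⊓ Subgroup.centralizer (E : Set R))).exists_card_eq
      rw [hn, hE2, Nat.pow_lt_pow_iff_right (Fact.out : p.Prime).one_lt] at hlt
      rw [hn] at hrel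
      have : Nat.card F ≤ p ^ 2 := hrel.trans (by
        calc p ^ n * p ≤ p ^ 1 * p := Nat.mul_le_mul_right _ (Nat.pow_le_pow_right (Fact.out : p.Prime).pos (by omega))
          _ = p ^ 2 := by ring)
      omega
    have hEF : E ≤ F := hFC.ge.trans inf_le_left
    have : Nat.card F ≤ p ^ 2 := hE2 ▸ Subgroup.card_le_of_le (fun x hx => hmem x hx
      (Subgroup.mem_centralizer_iff.mpr fun e he => congrArg Subtype.val (hFc.is_comm.comm ⟨e, hEF he⟩ ⟨x, hx⟩)))
    omega
  obtain ⟨A, hBA, hAn, -, hCA⟩ := OddLocal.exists_scn_ge hR hB.2.1.1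
  refine ⟨A, hEB.trans hBA, hAn, hCA, fun h => ?_⟩
  have := (OddLocal.pRankLE_iff_le.mp h) B hBA hB.2.1
  omega

end Cfsg.Agent.S1452
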