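import Cfsg.Statements.S1454
import Cfsg.Agent.Lib.OddLocal.NarrowAction
-- import your own Cfsg.Agent.* helpers here

set_option autoImplicit false
open Cfsg
open scoped commutatorElement

namespace Cfsg.Agent.S1454

/-- Let G be a finite group, p an odd prime, R a narrow p-subgroup and A a solvable subgroup of odd order normalizing R with A ∩ C_G(R) = 1. Then [A, A] ≤ O_p(A) and the index of O_p(A) in A is coprime to p; if R has an elementary abelian subgroup of order p ^ 3 then the order of every element of A of order coprime to p divides p − 1; and if the order of A is a prime not dividing p(p − 1), then 2·#A divides p + 1, and if in addition [R, A] = R and R is non-abelian then #R = p ^ 3. -/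
theorem result {G : Type*} [Group G] [Finite G] (p : ℕ) [Fact p.Prime] (hp : p ≠ 2) (R A : Subgroup G) (hR : IsPGroup p R) (hRn : Cfsg.IsNarrow p R)
    (hA : (A ≤ Subgroup.normalizer (R : Set G))) (hAs : Group.IsSolvable A) (hAodd : Odd (Nat.card A)) (hfaith : A ⊓ Subgroup.centralizer (R : Set G) = ⊥) :
    (commutator ↥A ≤ Cfsg.pCore p ↥A ∧ ((Cfsg.pCore p ↥A).index).Coprime p) ∧
      (¬ Cfsg.PRankLE p 2 R → ∀ a ∈ A, (orderOf a).Coprime p → orderOf a ∣ p - 1) ∧
      ((Nat.card A).Prime → ¬ Nat.card A ∣ p * (p - 1) →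
        2 * Nat.card A ∣ p + 1 ∧ (⁅R, A⁆ = R → ¬ IsMulCommutative R → Nat.card R = p ^ 3)) := by
  have hd := OddLocal.derived_isPGroup_narrow hp hR hRn hA hAs hAodd hfaith
  have hcp : IsPGroup p ↥(commutator ↥A) :=
    hd.of_equiv ((commutator ↥A).equivMapOfInjective A.subtype A.subtype_injective |>.trans
      (MulEquiv.subgroupCongr A.map_subtype_commutator)).symm
  have hle : commutator ↥A ≤ Cfsg.pCore p ↥A := Basics.le_pCore hcp
  refine ⟨⟨hle, ?_⟩, fun hr a ha hao => OddLocal.narrow_orderOf_dvd hp hR hRn hr hA hfaith ha hao, fun hq hqd => ?_⟩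
  · obtain ⟨S⟩ : Nonempty (Sylow p A) := inferInstance
    have hS : commutator ↥A ≤ (S : Subgroup A) :=
      hcp.le_sylow_of_normal S
    haveI : (S : Subgroup A).Normal := ⟨fun x hx g => by
      rw [show g * x * g⁻¹ = ⁅g, x⁆ * x by rw [commutatorElement_def]; group]
      exact mul_mem (hS (Subgroup.commutator_mem_commutator (Subgroup.mem_top g) (Subgroup.mem_top x))) hx⟩
    exact (((Fact.out : p.Prime).coprime_iff_not_dvd.mpr fun h =>
      S.not_dvd_index (h.trans (Subgroup.index_dvd_of_le (Basics.le_pCore S.2)))).symm)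
  have hqp : Nat.card A ≠ p := fun e => hqd (e.symm ▸ dvd_mul_right p _)
  have hq1 : ¬ Nat.card A ∣ p - 1 := fun e => hqd (e.trans (dvd_mul_left _ p))
  haveI := Fact.mk hq
  obtain ⟨a, ha⟩ := (isCyclic_of_prime_card (α := A) rfl).exists_generator
  have hao : orderOf (a : G) = Nat.card A := by
    rw [Subgroup.orderOf_coe, orderOf_eq_card_of_forall_mem_zpowers ha]
  have hr : Cfsg.PRankLE p 2 R := by
    by_contra hr
    refine hq1 (hao ▸ OddLocal.narrow_orderOf_dvd hp hR hRn hr hA hfaith a.2 ?_)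
    rw [hao]
    exact (Nat.coprime_primes hq Fact.out).mpr hqp
  have hac : (a : G) ∉ Subgroup.centralizer (R : Set G) := fun h => by
    have h1 : (a : G) ∈ A ⊓ Subgroup.centralizer (R : Set G) := ⟨a.2, h⟩
    rw [hfaith, Subgroup.mem_bot] at h1
    rw [h1, orderOf_one] at hao
    exact hq.one_lt.ne hao
  refine ⟨?_, fun hRA hnab => OddLocal.card_eq_cube hp hR hr hA hAodd hq rfl hqp hq1 hRA hnab⟩
  refine (Nat.coprime_primes Nat.prime_two hq).mpr (fun e => ?_) |>.mul_dvd_of_dvd_of_dvd
    (((Fact.out : p.Prime).odd_of_ne_two hp).add_one.two_dvd)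
    (OddLocal.prime_dvd_succ hp hR hr hq hqp hq1 (hA a.2) hao hac)
  exact (Nat.not_even_iff_odd.mpr hAodd) (e ▸ even_two)

end Cfsg.Agent.S1454
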