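import Cfsg.Statements.S1456
import Cfsg.Agent.Lib.OddLocal.Narrow
import Cfsg.Agent.Lib.OddLocal.RankTwo
-- import your own Cfsg.Agent.* helpers here

set_option autoImplicit false
open Cfsg

namespace Cfsg.Agent.S1456

/-- Let G be a solvable group of odd order, p a prime, and E an elementary abelian p-subgroup of the Fitting subgroup F(G) such that F(G) ∩ C_G(E) has no elementary abelian subgroup of order q ^ 3 for any prime q. Then the derived subgroup of G is contained in F(G). -/
theorem result {G : Type*} [Group G] [Finite G] [Group.IsSolvable G] (hodd : Odd (Nat.card G)) (p : ℕ) [Fact p.Prime] (E : Subgroup G) (hE : E ≤ Cfsg.fittingSubgroup G) (hEe : Cfsg.IsElementaryAbelian p E)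
    (hr : Cfsg.RankLE 2 ↥(Cfsg.fittingSubgroup G ⊓ Subgroup.centralizer (E : Set G))) :
    commutator G ≤ Cfsg.fittingSubgroup G := by
  refine OddLocal.commutator_le_fittingSubgroup_of fun s hs x hx hxo => ?_
  haveI := Fact.mk hs
  by_cases hsG : s ∣ Nat.card G
  · have hs2 : s ≠ 2 := OddLocal.pPrimeCore_ne_two hodd hsG
    have hrank := OddLocal.pRankLE_iff_le.mp (hr s hs)
    by_cases hsp : s = p
    · subst hsp
      have hEP : E ≤ Cfsg.pCore s G := fun e he =>
        OddLocal.mem_pCore_of_mem_fitting (hE he) ⟨1, by rw [pow_one]; exact hEe.2 e he⟩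
      exact OddLocal.derived_centralizes_narrow hodd hs2 (Agent.Basics.pCore_isPGroup s) hEP hEe
        (fun X hX hXe => hrank X (hX.trans (inf_le_inf_right _ (Agent.Basics.pCore_le_fittingSubgroup s))) hXe) hx hxo
    · have hle : Cfsg.pCore s G ≤ Cfsg.fittingSubgroup G ⊓ Subgroup.centralizer (E : Set G) := by
        refine le_inf (Agent.Basics.pCore_le_fittingSubgroup s) fun y hy => Subgroup.mem_centralizer_iff.mpr fun e he => ?_
        obtain ⟨j, hj⟩ := Agent.Basics.pCore_isPGroup (G := G) s ⟨y, hy⟩
        have he' : e ∈ Cfsg.pCore p G :=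
          OddLocal.mem_pCore_of_mem_fitting (hE he) ⟨1, by rw [pow_one]; exact hEe.2 e he⟩
        exact (Subgroup.commute_of_normal_of_disjoint _ _ inferInstance inferInstance
          (IsPGroup.disjoint_of_ne _ _ (Ne.symm hsp) _ _ (Agent.Basics.pCore_isPGroup p) (Agent.Basics.pCore_isPGroup s))
          e y he' hy).eq
      refine OddLocal.derived_pPower_centralizes hodd hs2 (Agent.Basics.pCore_isPGroup s) (fun X hX => ?_) hx hxo
      exact OddLocal.rank_of_le (fun Y hY hYe => hrank Y (hY.trans hle) hYe) X hX
  · have hbot : Cfsg.pCore s G = ⊥ := by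
      rcases (Agent.Basics.pCore_isPGroup (G := G) s).card_eq_or_dvd with e | e
      · exact Subgroup.eq_bot_of_card_eq _ e
      · exact absurd (e.trans (Subgroup.card_subgroup_dvd_card _)) hsG
    rw [hbot, Subgroup.mem_centralizer_iff]
    intro z hz
    rw [Subgroup.mem_bot.mp hz, one_mul, mul_one]

end Cfsg.Agent.S1456
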