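import Cfsg.Statements.S1458
import Cfsg.Agent.Lib.Transfer.StableQuotient
import Cfsg.Agent.Lib.Transfer.QuadStable
-- import your own Cfsg.Agent.* helpers here

set_option autoImplicit false
open Cfsg

namespace Cfsg.Agent.S1458

/-- Let G be a solvable group of odd order, p a prime and S a Sylow p-subgroup of G. Then the subgroup generated by the centre of the Thompson subgroup of S and O_{p'}(G) is normal in G. -/
theorem result {G : Type*} [Group G] [Finite G] [Group.IsSolvable G] (hodd : Odd (Nat.card G)) (p : ℕ) [Fact p.Prime] (S : Sylow p G) :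
    (Cfsg.centerThompsonOf p (S : Subgroup G) ⊔ Cfsg.pPrimeCore p G).Normal := by
  classical
  have hN : (Nat.card (Cfsg.pPrimeCore p G)).Coprime p := Agent.Basics.pPrimeCore_coprime p
  by_cases hp2 : p = 2
  · subst hp2
    have hS : (S : Subgroup G) = ⊥ := by
      obtain ⟨n, hn⟩ := S.2.exists_card_eq
      rcases n with _ | n
      · exact Subgroup.card_eq_one.mp (by simpa using hn)
      · exfalso
        exact (Nat.not_even_iff_odd.mpr hodd) (even_iff_two_dvd.mpr
          ((dvd_pow_self 2 (Nat.succ_ne_zero n)).trans (hn ▸ Subgroup.card_subgroup_dvd_card (S : Subgroup G))))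
    have hZ : Cfsg.centerThompsonOf 2 (S : Subgroup G) = ⊥ :=
      le_bot_iff.mp ((inf_le_left.trans (Subgroup.map_subtype_le _)).trans hS.le)
    rw [hZ, bot_sup_eq]
    infer_instance
  set π := QuotientGroup.mk' (Cfsg.pPrimeCore p G) with hπ
  have hinj : Set.InjOn π (S : Subgroup G) := by
    intro x hx y hy hxy
    have h : x⁻¹ * y ∈ Cfsg.pPrimeCore p G ⊓ (S : Subgroup G) :=
      Subgroup.mem_inf.mpr ⟨QuotientGroup.eq.mp hxy, mul_mem (inv_mem hx) hy⟩
    rw [Agent.Components.inf_eq_bot_of_coprime_isPGroup hN S.2, Subgroup.mem_bot] at h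
    exact inv_mul_eq_one.mp h
  have hst : Agent.Transfer.PStableElts p (G ⧸ Cfsg.pPrimeCore p G) := by
    refine Agent.Transfer.pStableElts_of_not_hasNatPair hp2 fun h => ?_
    obtain ⟨K, L, hL, ⟨e⟩⟩ := h.exists_sl2_section
    have h2 : 2 ∣ Nat.card (K ⧸ L.subgroupOf K) := by
      rw [Nat.card_congr e.toEquiv]
      have ho : orderOf (-1 : Matrix.SpecialLinearGroup (Fin 2) (ZMod p)) = 2 := by
        refine orderOf_eq_prime (by simp) fun he => ?_
        have e3 := congrArg (fun z : Matrix.SpecialLinearGroup (Fin 2) (ZMod p) => z.1 0 0) he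
        simp at e3
        have h2 : ((2 : ℕ) : ZMod p) = 0 := by push_cast; linear_combination -e3
        rw [ZMod.natCast_eq_zero_iff] at h2
        exact hp2 ((Nat.prime_dvd_prime_iff_eq Fact.out Nat.prime_two).mp h2)
      have hd := orderOf_dvd_natCard (-1 : Matrix.SpecialLinearGroup (Fin 2) (ZMod p))
      rwa [ho] at hd
    exact (Nat.not_even_iff_odd.mpr hodd) (even_iff_two_dvd.mpr (((h2.trans (Subgroup.card_quotient_dvd_card _)).trans
      (Subgroup.card_subgroup_dvd_card K)).trans (Subgroup.card_quotient_dvd_card _)))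
  have hn : ((Cfsg.centerThompsonOf p (S : Subgroup G)).map π).Normal := by
    rw [← Agent.Transfer.ZJAb_prime, Agent.Transfer.map_ZJAb _ π hinj,
      ← Sylow.coe_mapSurjective (f := π) (QuotientGroup.mk'_surjective _) S]
    exact Agent.Transfer.ZJAb_normal hp2 (Or.inr rfl)
      (Agent.Basics.centralizer_pCore_le (Agent.Basics.pPrimeCore_quotient_eq_bot p)) hst _
  have h := Subgroup.Normal.comap hn π
  rwa [Subgroup.comap_map_eq, hπ, QuotientGroup.ker_mk'] at h

end Cfsg.Agent.S1458
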