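import Cfsg.Statements.S1459
import Cfsg.Agent.Lib.Basics.CoprimeAction
import Cfsg.Agent.Lib.Basics.Cores
import Cfsg.Agent.Lib.Components.PPrimeCore

set_option autoImplicit false
open Cfsg
open scoped commutatorElement

namespace Cfsg.Agent.S1459

/-- Let G be a finite solvable group. (a) If H is a normal subgroup of order coprime to its index, K is a complement to H, and H ≤ G', then H = [H, K] and H ∩ C_G(K) ≤ [H, H]. (b) If G' is nilpotent and has prime index in G, then the order of G' is coprime to its index and G' = [G, K] (the subgroup generated by commutators of elements of G with elements of K) for every complement K of G'. -/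
theorem result {G : Type*} [Group G] [Finite G] [Group.IsSolvable G] :
    (∀ (H K : Subgroup G), H.Normal → (Nat.card H).Coprime H.index → Subgroup.IsComplement' H K → H ≤ commutator G →
        H = ⁅H, K⁆ ∧ H ⊓ Subgroup.centralizer (K : Set G) ≤ ⁅H, H⁆) ∧
      (Group.IsNilpotent ↥(commutator G) → (commutator G).index.Prime →
        (Nat.card ↥(commutator G)).Coprime (commutator G).index ∧
        ∀ K : Subgroup G, Subgroup.IsComplement' (commutator G) K → commutator G = ⁅(⊤ : Subgroup G), K⁆) := by
  have perf : ∀ (V N : Subgroup G), N.Normal → V ≤ ⁅V, V⁆ ⊔ N → V ≤ N := by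
    intro V N hN h
    by_contra hVN
    have hW : V.map (QuotientGroup.mk' N) ≠ ⊥ := by
      rwa [Ne, Subgroup.map_eq_bot_iff, QuotientGroup.ker_mk']
    have hle : V.map (QuotientGroup.mk' N) ≤ ⁅V.map (QuotientGroup.mk' N), V.map (QuotientGroup.mk' N)⁆ := by
      refine (Subgroup.map_mono h).trans ?_
      rw [Subgroup.map_sup, Subgroup.map_commutator, QuotientGroup.map_mk'_self, sup_bot_eq]
    set W := V.map (QuotientGroup.mk' N) with hWdef
    have : Nontrivial W := (Subgroup.nontrivial_iff_ne_bot W).mpr hW
    refine (Group.IsSolvable.commutator_lt_top_of_nontrivial (G := W)).ne ?_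
    apply Subgroup.map_injective W.subtype_injective
    rw [W.map_subtype_commutator, ← MonoidHom.range_eq_map, Subgroup.range_subtype]
    exact le_antisymm (Subgroup.commutator_le_self W) hle
  refine ⟨fun H K hHn hHcop hHK hHG => ?_, fun hnil hprime => ?_⟩
  · set N := ⁅H, K⁆ with hN
    have hNH : N ≤ H := Subgroup.commutator_le_left H K
    have hsup : H ⊔ K = ⊤ := hHK.sup_eq_top
    have hNn : N.Normal := Subgroup.normalizer_eq_top_iff.mp (top_le_iff.mp
      (hsup ▸ sup_le (Subgroup.normalizer_commutator_ge_left H K) (Subgroup.normalizer_commutator_ge_right H K)))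
    have hHle : H ≤ ⁅H, H⁆ ⊔ N := by
      intro h hh
      have hG' : commutator G ≤ (⁅H, H⁆ ⊔ N) ⊔ ⁅K, K⁆ := by
        have : N.Normal := hNn
        intro g hg
        have hgm : QuotientGroup.mk' N g ∈ ⁅H.map (QuotientGroup.mk' N), H.map (QuotientGroup.mk' N)⁆ ⊔
            ⁅K.map (QuotientGroup.mk' N), K.map (QuotientGroup.mk' N)⁆ := by
          set H' := H.map (QuotientGroup.mk' N)
          set K' := K.map (QuotientGroup.mk' N)
          have hHK' : ⁅H', K'⁆ = ⊥ := by
            rw [← Subgroup.map_commutator, QuotientGroup.map_mk'_self]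
          have hcom : ∀ a ∈ H', ∀ b ∈ K', a * b = b * a := fun a ha b hb =>
            (Subgroup.mem_centralizer_iff.mp (Subgroup.commutator_eq_bot_iff_le_centralizer.mp hHK' ha) b hb).symm
          have htop : H' ⊔ K' = ⊤ := by
            rw [← Subgroup.map_sup, hsup, Subgroup.map_top_of_surjective _ (QuotientGroup.mk'_surjective N)]
          have hle : commutator (G ⧸ N) ≤ ⁅H', H'⁆ ⊔ ⁅K', K'⁆ := by
            have hd : ∀ x : G ⧸ N, ∃ a ∈ H', ∃ b ∈ K', x = a * b := by
              intro x
              have hx : x ∈ H' ⊔ K' := htop ▸ Subgroup.mem_top x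
              have hn' : K' ≤ Subgroup.normalizer (H' : Set (G ⧸ N)) := by
                have : H'.Normal := hHn.map _ (QuotientGroup.mk'_surjective N)
                rw [Subgroup.normalizer_eq_top]; exact le_top
              rw [← SetLike.mem_coe, Subgroup.coe_mul_of_right_le_normalizer_left _ _ hn'] at hx
              obtain ⟨a, ha, b, hb, rfl⟩ := hx
              exact ⟨a, ha, b, hb, rfl⟩
            rw [commutator_def, Subgroup.commutator_le]
            intro x _ y _
            obtain ⟨a, ha, b, hb, rfl⟩ := hd x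
            obtain ⟨a', ha', b', hb', rfl⟩ := hd y
            have e : ⁅a * b, a' * b'⁆ = ⁅a, a'⁆ * ⁅b, b'⁆ := by
              have c1 : Commute a b := hcom a ha b hb
              have c2 : Commute a b' := hcom a ha b' hb'
              have c3 : Commute a' b := hcom a' ha' b hb
              have c4 : Commute a' b' := hcom a' ha' b' hb'
              simp only [commutatorElement_def, mul_inv_rev]
              calc a * b * (a' * b') * (b⁻¹ * a⁻¹) * (b'⁻¹ * a'⁻¹)
                  = a * (b * a') * (b' * b⁻¹) * (a⁻¹ * b'⁻¹) * a'⁻¹ := by group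
                _ = a * (a' * b) * (b' * b⁻¹) * (b'⁻¹ * a⁻¹) * a'⁻¹ := by
                    rw [c3.symm.eq, c2.inv_inv.eq]
                _ = a * a' * (b * b' * b⁻¹ * b'⁻¹ * a⁻¹) * a'⁻¹ := by group
                _ = a * a' * (a⁻¹ * (b * b' * b⁻¹ * b'⁻¹)) * a'⁻¹ := by
                    rw [((((c1.mul_right c2).mul_right c1.inv_right).mul_right c2.inv_right).inv_left).eq]
                _ = a * a' * a⁻¹ * ((b * b' * b⁻¹ * b'⁻¹) * a'⁻¹) := by group
                _ = a * a' * a⁻¹ * (a'⁻¹ * (b * b' * b⁻¹ * b'⁻¹)) := by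
                    rw [((((c3.mul_right c4).mul_right c3.inv_right).mul_right c4.inv_right).inv_left).eq]
                _ = a * a' * a⁻¹ * a'⁻¹ * (b * b' * b⁻¹ * b'⁻¹) := by group
            rw [e]
            exact mul_mem (Subgroup.mem_sup_left (Subgroup.commutator_mem_commutator ha ha'))
              (Subgroup.mem_sup_right (Subgroup.commutator_mem_commutator hb hb'))
          refine hle ?_
          rw [commutator_def, ← Subgroup.map_top_of_surjective _ (QuotientGroup.mk'_surjective N), ← Subgroup.map_commutator]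
          exact ⟨g, hg, rfl⟩
        rw [← Subgroup.map_commutator, ← Subgroup.map_commutator, ← Subgroup.map_sup] at hgm
        obtain ⟨g', hg', hge⟩ := hgm
        have hn : g'⁻¹ * g ∈ N := by
          rw [← QuotientGroup.eq_one_iff, ← QuotientGroup.mk'_apply, map_mul, map_inv, hge, inv_mul_cancel]
        have : g = g' * (g'⁻¹ * g) := by group
        rw [this]
        exact mul_mem ((sup_le (le_sup_left.trans le_sup_left) le_sup_right :
          ⁅H, H⁆ ⊔ ⁅K, K⁆ ≤ (⁅H, H⁆ ⊔ N) ⊔ ⁅K, K⁆) hg') (Subgroup.mem_sup_left (Subgroup.mem_sup_right hn))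
      have hmem := hG' (hHG hh)
      have hnorm : ⁅K, K⁆ ≤ Subgroup.normalizer ((⁅H, H⁆ ⊔ N : Subgroup G) : Set G) := by
        have : N.Normal := hNn
        have : (⁅H, H⁆).Normal := inferInstance
        rw [Subgroup.normalizer_eq_top]; exact le_top
      rw [← SetLike.mem_coe, Subgroup.coe_mul_of_right_le_normalizer_left _ _ hnorm] at hmem
      obtain ⟨u, hu, v, hv, huv⟩ := hmem
      have huH : u ∈ H := (sup_le (Subgroup.commutator_le_self H) hNH : ⁅H, H⁆ ⊔ N ≤ H) hu
      have hvH : v ∈ H := by
        have : v = u⁻¹ * h := by rw [← huv]; simp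
        rw [this]; exact H.mul_mem (H.inv_mem huH) hh
      have hv1 : v ∈ (⊥ : Subgroup G) := hHK.disjoint.eq_bot ▸ (⟨hvH, Subgroup.commutator_le_self K hv⟩ : v ∈ H ⊓ K)
      rw [Subgroup.mem_bot] at hv1
      have huv' : u = h := by simpa [hv1] using huv
      exact huv' ▸ hu
    have h1 : H = N := le_antisymm (perf H N hNn hHle) hNH
    refine ⟨h1, ?_⟩
    set D := ⁅H, H⁆ with hD
    have : D.Normal := inferInstance
    have hVc : IsMulCommutative ↥(H.map (QuotientGroup.mk' D)) := by
      rw [← Subgroup.commutator_self_eq_bot_iff, ← Subgroup.map_commutator, QuotientGroup.map_mk'_self]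
    have hcopKH : (Nat.card K).Coprime (Nat.card H) := by
      rw [← hHK.symm.index_eq_card]
      exact hHcop.symm
    have h0 := Cfsg.Agent.Basics.inf_centralizer_inf_commutator_eq_bot (K.map (QuotientGroup.mk' D))
      (H.map (QuotientGroup.mk' D))
      (by rw [Subgroup.normalizer_eq_top_iff.mpr (hHn.map _ (QuotientGroup.mk'_surjective D))]; exact le_top)
      ((hcopKH.coprime_dvd_left (Subgroup.card_map_dvd _ _)).coprime_dvd_right (Subgroup.card_map_dvd _ _))
    rw [← Subgroup.map_commutator, ← hN, ← h1] at h0
    intro x hx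
    rw [← QuotientGroup.eq_one_iff, ← QuotientGroup.mk'_apply, ← Subgroup.mem_bot, ← h0]
    refine ⟨⟨⟨x, hx.1, rfl⟩, ?_⟩, ⟨x, hx.1, rfl⟩⟩
    change _ ∈ Subgroup.centralizer _
    rw [Subgroup.mem_centralizer_iff]
    rintro _ ⟨k, hk, rfl⟩
    rw [← map_mul, ← map_mul, Subgroup.mem_centralizer_iff.mp hx.2 k hk]
  · set C := commutator G with hC
    set q := C.index with hq
    have : Fact q.Prime := ⟨hprime⟩
    set R := (Cfsg.pPrimeCore q C).map C.subtype with hR
    have hRn : R.Normal := by
      refine Subgroup.normalizer_eq_top_iff.mp (top_le_iff.mp fun g _ => ?_)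
      rw [Subgroup.mem_normalizer_iff_map_conj_eq]
      let e : C ≃* C := (MulAut.conjNormal (H := C) g)
      have hchar : (Cfsg.pPrimeCore q C).map e.toMonoidHom = Cfsg.pPrimeCore q C :=
        Cfsg.Agent.Components.map_pPrimeCore_equiv e
      change R.map (MulAut.conj g).toMonoidHom = R
      rw [hR, Subgroup.map_map]
      conv_rhs => rw [← hchar, Subgroup.map_map]
      congr 1
    -- `G ⧸ R` is a `q`-group
    have hidx : ∀ r : ℕ, r.Prime → r ∣ R.index → r = q := by
      intro r hr hdvd
      by_contra hne
      have : Fact r.Prime := ⟨hr⟩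
      rw [hR, Subgroup.index_map_subtype, ← hq] at hdvd
      rcases hr.dvd_mul.mp hdvd with h | h
      · obtain ⟨S⟩ : Nonempty (Sylow r C) := inferInstance
        have hSn : (S : Subgroup C).Normal := S.normal_of_normalizerCondition Group.normalizerCondition_of_isNilpotent
        have hSle : (S : Subgroup C) ≤ Cfsg.pPrimeCore q C := by
          refine le_sSup ⟨hSn, ?_⟩
          obtain ⟨k, hk⟩ := IsPGroup.iff_card.mp S.2
          rw [hk]
          exact ((Nat.coprime_primes hr hprime).mpr hne).pow_left k
        exact S.not_dvd_index (h.trans (Subgroup.index_dvd_of_le hSle))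
      · exact hne ((Nat.prime_dvd_prime_iff_eq hr hprime).mp h)
    have hP : IsPGroup q (G ⧸ R) := by
      refine IsPGroup.of_card (n := (Nat.card (G ⧸ R)).primeFactorsList.length) ?_
      refine Nat.eq_prime_pow_of_unique_prime_dvd Nat.card_pos.ne' fun {r} hr hd => hidx r hr ?_
      rwa [Subgroup.index_eq_card]
    have : Group.IsNilpotent (G ⧸ R) := hP.isNilpotent
    obtain ⟨x, hx⟩ : ∃ x : G, x ∉ C := by
      by_contra h
      push Not at h
      exact hprime.ne_one ((Subgroup.index_eq_one).mpr (eq_top_iff.mpr fun x _ => h x))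
    have hCx : C ⊔ Subgroup.zpowers x = ⊤ := by
      rw [← Subgroup.index_eq_one]
      rcases hprime.eq_one_or_self_of_dvd _ (Subgroup.index_dvd_of_le (le_sup_left : C ≤ C ⊔ Subgroup.zpowers x)) with h | h
      · exact h
      · refine absurd ?_ hx
        have h1 := Subgroup.relIndex_mul_index (le_sup_left : C ≤ C ⊔ Subgroup.zpowers x)
        rw [h] at h1
        have h2 : C.relIndex (C ⊔ Subgroup.zpowers x) = 1 := by
          exact (Nat.mul_eq_right hprime.ne_zero).mp h1
        exact Subgroup.relIndex_eq_one.mp h2 (Subgroup.mem_sup_right (Subgroup.mem_zpowers x))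
    set π := QuotientGroup.mk' R with hπ
    have hCmap : C.map π = commutator (G ⧸ R) := by
      rw [hC, commutator_def, commutator_def, Subgroup.map_commutator,
        Subgroup.map_top_of_surjective _ (QuotientGroup.mk'_surjective R)]
    have hgen : Subgroup.zpowers (π x) = ⊤ := by
      by_contra hne
      obtain ⟨M, hM, hle⟩ := (eq_top_or_exists_le_coatom (Subgroup.zpowers (π x))).resolve_left hne
      have hMn : M.Normal := Subgroup.NormalizerCondition.normal_of_coatom M Group.normalizerCondition_of_isNilpotent hM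
      obtain ⟨y, hy⟩ : ∃ y, y ∉ M := by
        by_contra h
        push Not at h
        exact hM.1 (eq_top_iff.mpr fun y _ => h y)
      have hMy : M ⊔ Subgroup.zpowers y = ⊤ :=
        hM.2 _ (lt_of_le_of_ne le_sup_left fun e => hy (e ▸ Subgroup.mem_sup_right (Subgroup.mem_zpowers y)))
      have hcomm : commutator (G ⧸ R) ≤ M :=
        hMn.commutator_le_of_self_sup_commutative_eq_top hMy inferInstance
      refine hM.1 (top_le_iff.mp ?_)
      rw [← Subgroup.map_top_of_surjective π (QuotientGroup.mk'_surjective R), ← hCx, Subgroup.map_sup, hCmap,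
        MonoidHom.map_zpowers]
      exact sup_le hcomm hle
    have hCR : C ≤ R := by
      have hcomm : IsMulCommutative (G ⧸ R) := ⟨⟨fun a b => by
        obtain ⟨m, rfl⟩ : a ∈ Subgroup.zpowers (π x) := hgen ▸ Subgroup.mem_top a
        obtain ⟨n, rfl⟩ : b ∈ Subgroup.zpowers (π x) := hgen ▸ Subgroup.mem_top b
        exact ((Commute.refl (π x)).zpow_zpow m n).eq⟩⟩
      have h0 : C.map π = ⊥ := by rw [hCmap]; exact commutator_eq_bot _
      rwa [Subgroup.map_eq_bot_iff, hπ, QuotientGroup.ker_mk'] at h0
    have hRC : R = C := le_antisymm (hR ▸ Subgroup.map_subtype_le _) hCR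
    refine ⟨?_, fun K hK => ?_⟩
    · have hc : Nat.card R = Nat.card (Cfsg.pPrimeCore q C) := by
        rw [hR, Subgroup.card_map_of_injective C.subtype_injective]
      rw [hRC] at hc
      rw [hc]
      exact Cfsg.Agent.Basics.pPrimeCore_coprime q
    · set N := ⁅(⊤ : Subgroup G), K⁆ with hN
      have hNn : N.Normal := Subgroup.normalizer_eq_top_iff.mp
        (top_le_iff.mp (Subgroup.normalizer_commutator_ge_left ⊤ K))
      have hNC : N ≤ C := by
        rw [hC, commutator_def]; exact Subgroup.commutator_mono le_rfl le_top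
      refine le_antisymm (perf C N hNn ?_) hNC
      have hKc : IsCyclic K := isCyclic_of_prime_card (p := q) (hK.symm.index_eq_card).symm
      set D := ⁅C, C⁆ ⊔ N with hD
      have hDn : D.Normal := Subgroup.sup_normal _ _
      set ρ := QuotientGroup.mk' D
      have hgen2 : C.map ρ ⊔ K.map ρ = ⊤ := by
        rw [← Subgroup.map_sup, hK.sup_eq_top, Subgroup.map_top_of_surjective _ (QuotientGroup.mk'_surjective D)]
      have hkill : ∀ g g', ⁅g, g'⁆ ∈ D → ρ g * ρ g' = ρ g' * ρ g := fun g g' h => by
        rw [← commutatorElement_eq_one_iff_mul_comm, ← map_commutatorElement]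
        exact (QuotientGroup.eq_one_iff _).mpr h
      have hcent : C.map ρ ⊔ K.map ρ ≤ Subgroup.center (G ⧸ D) := by
        refine sup_le ?_ ?_
        · rintro _ ⟨c, hc, rfl⟩
          rw [Subgroup.mem_center_iff]
          intro z
          have : C.map ρ ⊔ K.map ρ ≤ Subgroup.centralizer ({ρ c} : Set (G ⧸ D)) := by
            refine sup_le ?_ ?_
            · rintro _ ⟨d, hd, rfl⟩
              exact Subgroup.mem_centralizer_singleton_iff.mpr
                (hkill _ _ (Subgroup.mem_sup_left (Subgroup.commutator_mem_commutator hd hc)))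
            · rintro _ ⟨k, hk, rfl⟩
              exact Subgroup.mem_centralizer_singleton_iff.mpr
                (hkill _ _ (Subgroup.mem_sup_right (hN ▸ (Subgroup.commutator_comm K ⊤ ▸
                  Subgroup.commutator_mem_commutator hk (Subgroup.mem_top c)))))
          exact Subgroup.mem_centralizer_singleton_iff.mp (this (hgen2 ▸ Subgroup.mem_top z))
        · rintro _ ⟨k, hk, rfl⟩
          rw [Subgroup.mem_center_iff]
          intro z
          obtain ⟨g, rfl⟩ := QuotientGroup.mk'_surjective D z
          exact hkill _ _ (Subgroup.mem_sup_right (Subgroup.commutator_mem_commutator (Subgroup.mem_top g) hk))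
      rw [hgen2] at hcent
      have : IsMulCommutative (G ⧸ D) := ⟨⟨fun a b => Subgroup.mem_center_iff.mp (hcent (Subgroup.mem_top b)) a⟩⟩
      rw [hC]
      exact Subgroup.Normal.quotient_commutative_iff_commutator_le.mp this

end Cfsg.Agent.S1459
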