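import Cfsg.Statements.S1462
import Cfsg.Agent.Lib.OddLocal.Invariant
import Cfsg.Agent.Lib.Components.PConstrained

set_option autoImplicit false
open Cfsg

namespace Cfsg.Agent.S1462

/-- Let G be a finite solvable group, p an odd prime with G = O_{p',p,p'}(G), E an elementary abelian p-subgroup contained in no larger elementary abelian p-subgroup of G, and L a subgroup of order coprime to p normalized by E. Then L ≤ O_{p'}(G). -/
theorem result {G : Type*} [Group G] [Finite G] [Group.IsSolvable G] (p : ℕ) [Fact p.Prime] (hp : p ≠ 2) (hpl : Cfsg.PLengthLE p 1 G) (E L : Subgroup G) (hE : Cfsg.IsElementaryAbelian p E)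
    (hEmax : ∀ B : Subgroup G, Cfsg.IsElementaryAbelian p B → E ≤ B → B = E) (hL : (Nat.card L).Coprime p) (hEL : E ≤ Subgroup.normalizer (L : Set G)) :
    L ≤ Cfsg.pPrimeCore p G := by
  have hpp : p.Prime := Fact.out
  obtain ⟨hEc, hEp⟩ := hE
  have hEpg : IsPGroup p E := fun x => ⟨1, Subtype.ext (by rw [pow_one]; exact hEp x x.2)⟩
  refine Cfsg.Agent.OddLocal.le_pPrimeCore_of_invariant Cfsg.Agent.Components.isPConstrained_of_isSolvable hEpg
    (Or.inl ⟨hp, fun x hx hxo => ?_⟩) (hpp.coprime_iff_not_dvd.mp hL.symm) hEL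
  have hcomm : ∀ a ∈ Subgroup.zpowers x, ∀ e ∈ E, e * a = a * e := by
    rintro _ ⟨n, rfl⟩ e he
    exact Subgroup.mem_centralizer_iff.mp (zpow_mem hx n) e he
  set B := E ⊔ Subgroup.zpowers x with hB
  have hBc : IsMulCommutative B := by
    rw [← Subgroup.le_centralizer_iff_isMulCommutative, hB]
    refine sup_le ?_ (Subgroup.zpowers_le.mpr ?_)
    · rw [Subgroup.le_centralizer_iff]
      refine sup_le (Subgroup.le_centralizer_iff_isMulCommutative.mpr hEc) (Subgroup.zpowers_le.mpr hx)
    · rw [Subgroup.mem_centralizer_iff]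
      have : E ⊔ Subgroup.zpowers x ≤ Subgroup.centralizer ({x} : Set G) := sup_le
        (fun e he => Subgroup.mem_centralizer_singleton_iff.mpr (hcomm x (Subgroup.mem_zpowers x) e he))
        (Subgroup.zpowers_le.mpr (Subgroup.mem_centralizer_singleton_iff.mpr rfl))
      exact fun b hb => Subgroup.mem_centralizer_singleton_iff.mp (this hb)
  have hBp : ∀ b ∈ B, b ^ p = 1 := by
    let f : B →* B :=
      { toFun := fun b => b ^ p, map_one' := one_pow p,
        map_mul' := fun a b => (show Commute a b from hBc.is_comm.comm a b).mul_pow p }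
    have hle : E ≤ f.ker.map B.subtype := fun e he =>
      ⟨⟨e, Subgroup.mem_sup_left he⟩, Subtype.ext (hEp e he), rfl⟩
    have hle' : Subgroup.zpowers x ≤ f.ker.map B.subtype := Subgroup.zpowers_le.mpr
      ⟨⟨x, Subgroup.mem_sup_right (Subgroup.mem_zpowers x)⟩, Subtype.ext (show x ^ p = 1 by rw [← hxo, pow_orderOf_eq_one]), rfl⟩
    intro b hb
    obtain ⟨⟨c, _⟩, hc', rfl⟩ := (sup_le hle hle' : B ≤ _) hb
    exact congrArg Subtype.val hc'
  rw [← hEmax B ⟨hBc, hBp⟩ le_sup_left]
  exact Subgroup.mem_sup_right (Subgroup.mem_zpowers x)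

end Cfsg.Agent.S1462
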