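import Cfsg.Statements.S1463
import Cfsg.Agent.Lib.SL2Dickson.Natural

set_option autoImplicit false
open scoped MatrixGroups
open Cfsg

namespace Cfsg.Agent.S1463

open Matrix

theorem mul_eq_zero_of_trace {F : Type*} [Field F] {N M : Matrix (Fin 2) (Fin 2) F} (hN : N * N = 0) (hM : M * M = 0)
    (hNt : N 0 0 + N 1 1 = 0) (hMt : M 0 0 + M 1 1 = 0) (ht : (N * M) 0 0 + (N * M) 1 1 = 0) : M * N = 0 := by
  have hN11 : N 1 1 = -N 0 0 := by linear_combination hNt
  have hM11 : M 1 1 = -M 0 0 := by linear_combination hMt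
  have h1 : N 0 0 * N 0 0 + N 0 1 * N 1 0 = 0 := by
    have := congrFun (congrFun hN 0) 0
    simpa [Matrix.mul_apply, Fin.sum_univ_two] using this
  have h2 : M 0 0 * M 0 0 + M 0 1 * M 1 0 = 0 := by
    have := congrFun (congrFun hM 0) 0
    simpa [Matrix.mul_apply, Fin.sum_univ_two] using this
  simp only [Matrix.mul_apply, Fin.sum_univ_two, hN11, hM11] at ht
  ext i j
  fin_cases i <;> fin_cases j <;> simp [Matrix.mul_apply, Fin.sum_univ_two, hN11, hM11] <;>
    refine pow_eq_zero_iff (two_ne_zero (α := ℕ)) |>.mp ?_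
  · linear_combination (M 0 1 * N 1 0) * ht + (M 0 0 * M 0 0) * h1 - (N 0 1 * N 1 0) * h2
  · linear_combination -(N 0 1 * M 0 1) * ht + (M 0 1 * M 0 1) * h1 + (N 0 1 * N 0 1) * h2
  · linear_combination -(N 1 0 * M 1 0) * ht + (M 1 0 * M 1 0) * h1 + (N 1 0 * N 1 0) * h2
  · linear_combination (M 1 0 * N 0 1) * ht + (M 0 0 * M 0 0) * h1 - (N 0 1 * N 1 0) * h2

theorem mem_span_of_ker {F : Type*} [Field F] {N : Matrix (Fin 2) (Fin 2) F} (hN : N ≠ 0) {v u : Fin 2 → F}
    (hv : v ≠ 0) (h1 : N.mulVec v = 0) (h2 : N.mulVec u = 0) : u ∈ Submodule.span F {v} := by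
  have e1 : ∀ i, N i 0 * v 0 + N i 1 * v 1 = 0 := fun i => by
    simpa [Matrix.mulVec, dotProduct, Fin.sum_univ_two] using congrFun h1 i
  have e2 : ∀ i, N i 0 * u 0 + N i 1 * u 1 = 0 := fun i => by
    simpa [Matrix.mulVec, dotProduct, Fin.sum_univ_two] using congrFun h2 i
  have hD : v 0 * u 1 - v 1 * u 0 = 0 := by
    by_contra hD
    refine hN ?_
    ext i j
    fin_cases j
    · exact (mul_eq_zero.mp (by linear_combination u 1 * e1 i - v 1 * e2 i :
        N i 0 * (v 0 * u 1 - v 1 * u 0) = 0)).resolve_right hD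
    · exact (mul_eq_zero.mp (by linear_combination v 0 * e2 i - u 0 * e1 i :
        N i 1 * (v 0 * u 1 - v 1 * u 0) = 0)).resolve_right hD
  rw [Submodule.mem_span_singleton]
  by_cases h0 : v 0 = 0
  · have h10 : v 1 ≠ 0 := fun h => hv (by ext i; fin_cases i <;> assumption)
    refine ⟨u 1 / v 1, ?_⟩
    ext i; fin_cases i
    · simp [h0] at hD
      simp [h0, hD.resolve_left h10]
    · simp [h10]
  · refine ⟨u 0 / v 0, ?_⟩
    ext i; fin_cases i
    · simp [h0]
    · simp
      field_simp
      linear_combination -hD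

/-- Let F be a field of odd characteristic p and H a finite subgroup of odd order of GL(2, F) that leaves no 1-dimensional subspace of F² invariant. Then p does not divide the order of H. -/
theorem result {F : Type*} [Field F] (p : ℕ) [Fact p.Prime] [CharP F p] (hp : p ≠ 2)
    (H : Subgroup (GL (Fin 2) F)) [Finite H] (hodd : Odd (Nat.card H))
    (hirr : ∀ v : Fin 2 → F, v ≠ 0 → ∃ g ∈ H, (g : Matrix (Fin 2) (Fin 2) F).mulVec v ∉ Submodule.span F {v}) :
    ¬ p ∣ Nat.card H := by
  intro hdvd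
  obtain ⟨h, hh⟩ := exists_prime_orderOf_dvd_card' (G := H) p hdvd
  have hho : orderOf (h : GL (Fin 2) F) = p := by rw [Subgroup.orderOf_coe]; exact hh
  set A : Matrix (Fin 2) (Fin 2) F := ((h : GL (Fin 2) F) : Matrix (Fin 2) (Fin 2) F) with hA
  have hAp : A ^ p = 1 := by
    have := congrArg (fun x : GL (Fin 2) F => (x : Matrix (Fin 2) (Fin 2) F)) (hho ▸ pow_orderOf_eq_one (h : GL (Fin 2) F))
    simpa using this
  have hne : A ≠ 1 := fun e => (Fact.out : p.Prime).one_lt.ne (by
    rw [← hho, orderOf_eq_one_iff.mpr (Units.ext e)])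
  haveI : ExpChar F p := ExpChar.prime Fact.out
  haveI : CharP (Matrix (Fin 2) (Fin 2) F) p := inferInstance
  set N := A - 1 with hN
  have hNne : N ≠ 0 := sub_ne_zero.mpr hne
  have hNp : N ^ p = 0 := by
    rw [hN, sub_pow_char_of_commute (p := p) (Commute.one_right A), one_pow, hAp, sub_self]
  have hNdet : N.det = 0 := by
    have := congrArg Matrix.det hNp
    rw [Matrix.det_pow, Matrix.det_zero] at this
    exact pow_eq_zero_iff (Fact.out : p.Prime).ne_zero |>.mp this
  have hch : N * N = (N 0 0 + N 1 1) • N := by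
    rw [Matrix.det_fin_two] at hNdet
    ext i j
    fin_cases i <;> fin_cases j <;> simp [Matrix.mul_apply, Fin.sum_univ_two]
    · linear_combination -hNdet
    · ring
    · ring
    · linear_combination -hNdet
  have hNt : N 0 0 + N 1 1 = 0 := by
    have key : ∀ n : ℕ, N ^ (n + 1) = (N 0 0 + N 1 1) ^ n • N := by
      intro n
      induction n with
      | zero => simp
      | succ n ih => rw [pow_succ, ih, Matrix.smul_mul, hch, smul_smul, ← pow_succ]
    obtain ⟨n, hn⟩ := Nat.exists_eq_succ_of_ne_zero (Fact.out : p.Prime).ne_zero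
    rw [hn, key] at hNp
    rcases smul_eq_zero.mp hNp with h0 | h0
    · exact eq_zero_of_pow_eq_zero h0
    · exact absurd h0 hNne
  have hN2 : N * N = 0 := by rw [hch, hNt, zero_smul]
  have hAdet : A.det = 1 := by
    rw [Matrix.det_fin_two] at hNdet ⊢
    simp [hN] at hNdet hNt
    linear_combination hNdet + hNt
  obtain ⟨w, hw⟩ : ∃ w, N.mulVec w ≠ 0 := by
    by_contra hc
    push Not at hc
    exact hNne (Matrix.ext_of_mulVec_single fun i => by rw [hc, Matrix.zero_mulVec])
  obtain ⟨g, hg, hgv⟩ := hirr _ hw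
  set G' : Matrix (Fin 2) (Fin 2) F := (g : Matrix (Fin 2) (Fin 2) F) with hG'
  set Gi : Matrix (Fin 2) (Fin 2) F := ((g⁻¹ : GL (Fin 2) F) : Matrix (Fin 2) (Fin 2) F) with hGi
  have hgg : G' * Gi = 1 := by rw [hG', hGi, ← Units.val_mul, mul_inv_cancel, Units.val_one]
  have hgg' : Gi * G' = 1 := by rw [hG', hGi, ← Units.val_mul, inv_mul_cancel, Units.val_one]
  set M := Gi * N * G' with hM
  have hM2 : M * M = 0 := by
    rw [hM, show Gi * N * G' * (Gi * N * G') = Gi * (N * (G' * Gi) * N) * G' by simp only [mul_assoc], hgg,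
      mul_one, hN2, mul_zero, zero_mul]
  have hMt : M 0 0 + M 1 1 = 0 := by
    have e : Matrix.trace M = Matrix.trace N := by
      rw [hM, Matrix.trace_mul_cycle, hgg, one_mul]
    rw [Matrix.trace_fin_two, Matrix.trace_fin_two] at e
    rw [e, hNt]
  have hBdet : (Gi * A * G').det = 1 := by
    rw [Matrix.det_mul, Matrix.det_mul, hAdet, mul_one, ← Matrix.det_mul, hgg', Matrix.det_one]
  let a : Matrix.SpecialLinearGroup (Fin 2) F := ⟨A, hAdet⟩
  let b : Matrix.SpecialLinearGroup (Fin 2) F := ⟨Gi * A * G', hBdet⟩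
  let f := (Matrix.SpecialLinearGroup.map (n := Fin 2) (algebraMap F (AlgebraicClosure F)))
  set H₁ : Subgroup (Matrix.SpecialLinearGroup (Fin 2) F) := H.comap Matrix.SpecialLinearGroup.toGL
  have ha : a ∈ H₁ := by
    change Matrix.SpecialLinearGroup.toGL a ∈ H
    convert h.2 using 1
    exact Units.ext rfl
  have hb : b ∈ H₁ := by
    change Matrix.SpecialLinearGroup.toGL b ∈ H
    convert mul_mem (mul_mem (inv_mem hg) h.2) hg using 1
    exact Units.ext rfl
  let φ : H₁ → H := fun x => ⟨Matrix.SpecialLinearGroup.toGL (x : Matrix.SpecialLinearGroup (Fin 2) F), x.2⟩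
  have hφ : Function.Injective φ := fun x y e =>
    Subtype.ext (Matrix.SpecialLinearGroup.toGL_injective (congrArg Subtype.val e))
  haveI : Finite H₁ := Finite.of_injective φ hφ
  haveI : Finite (H₁.map f) := Finite.of_surjective (fun x : H₁ => (⟨f x, x, x.2, rfl⟩ : H₁.map f))
    (by rintro ⟨_, x, hx, rfl⟩; exact ⟨⟨x, hx⟩, rfl⟩)
  haveI : CharP (AlgebraicClosure F) p := charP_of_injective_algebraMap (algebraMap F _).injective p
  have hu : ∀ c : Matrix.SpecialLinearGroup (Fin 2) F, (c.1 - 1) * (c.1 - 1) = 0 →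
      SL2Dickson.IsUnip (f c) := by
    intro c hc
    have e : (f c).1 - 1 = (algebraMap F (AlgebraicClosure F)).mapMatrix (c.1 - 1) := by
      rw [map_sub, map_one]; rfl
    unfold SL2Dickson.IsUnip
    rw [e, ← map_mul, hc, map_zero]
  have hBN : Gi * A * G' - 1 = M := by
    rw [hM, hN, mul_sub, sub_mul, mul_one, hgg']
  obtain ⟨q, hq⟩ := SL2Dickson.exists_sl_two_prime (p := p) hp (Subgroup.mem_map_of_mem f ha)
    (Subgroup.mem_map_of_mem f hb) (hu a hN2) (hu b (by change (Gi * A * G' - 1) * (Gi * A * G' - 1) = 0; rw [hBN]; exact hM2))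
    (by
      intro e
      have e' : (A * (Gi * A * G')) 0 0 + (A * (Gi * A * G')) 1 1 = 2 := by
        refine (algebraMap F (AlgebraicClosure F)).injective ?_
        rw [map_ofNat, map_add]
        rw [← map_mul] at e
        exact e
      have hMN : M * N = 0 := mul_eq_zero_of_trace hN2 hM2 hNt hMt (by
        rw [show A = N + 1 by rw [hN, sub_add_cancel], show Gi * (N + 1) * G' = M + 1 by
          rw [hM, mul_add, add_mul, mul_one, hgg']] at e'
        simp [add_mul, mul_add] at e'
        linear_combination e' - hNt - hMt)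
      refine hgv (mem_span_of_ker hNne hw (by rw [Matrix.mulVec_mulVec, hN2, Matrix.zero_mulVec]) ?_)
      have : N * G' * N = 0 := by
        have h' := congrArg (fun X => G' * X) hMN
        simp only [hM, ← mul_assoc, hgg, one_mul, mul_zero] at h'
        exact h'
      rw [Matrix.mulVec_mulVec, Matrix.mulVec_mulVec, this, Matrix.zero_mulVec])
  set x := q⁻¹ * Matrix.SpecialLinearGroup.map (n := Fin 2) (ZMod.castHom (dvd_refl p) (AlgebraicClosure F)) (-1) * q with hx
  have hxo : orderOf x = 2 := by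
    refine orderOf_eq_prime (by
      rw [hx, pow_two, show ∀ s t : Matrix.SpecialLinearGroup (Fin 2) (AlgebraicClosure F), s⁻¹ * t * s * (s⁻¹ * t * s) = s⁻¹ * (t * t) * s
        from fun s t => by group, ← map_mul, neg_mul_neg, one_mul, map_one]; group) fun e => ?_
    rw [hx] at e
    have e2 : Matrix.SpecialLinearGroup.map (n := Fin 2) (ZMod.castHom (dvd_refl p) (AlgebraicClosure F)) (-1) = 1 := by
      have := congrArg (fun z => q * z * q⁻¹) e
      simpa [mul_assoc] using this
    have e3 := congrArg (fun z : Matrix.SpecialLinearGroup (Fin 2) (AlgebraicClosure F) => z.1 0 0) e2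
    simp at e3
    have h2 : ((2 : ℕ) : AlgebraicClosure F) = 0 := by push_cast; linear_combination -e3
    rw [CharP.cast_eq_zero_iff (AlgebraicClosure F) p] at h2
    exact hp ((Nat.prime_dvd_prime_iff_eq Fact.out Nat.prime_two).mp h2)
  have h2d : 2 ∣ Nat.card H := by
    have h1 : orderOf x ∣ Nat.card (H₁.map f) := Subgroup.orderOf_dvd_natCard _ (hq (-1))
    rw [hxo] at h1
    refine (h1.trans (Subgroup.card_map_dvd _ _)).trans ?_
    let φh : H₁ →* H := { toFun := φ, map_one' := Subtype.ext (map_one _), map_mul' := fun u v => Subtype.ext (map_mul _ _ _) }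
    exact Subgroup.card_dvd_of_injective φh hφ
  exact (Nat.not_even_iff_odd.mpr hodd) (even_iff_two_dvd.mpr h2d)

end Cfsg.Agent.S1463
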