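import Cfsg.Statements.S1464
import Cfsg.Agent.Lib.OddLocal.Stability
-- import your own Cfsg.Agent.* helpers here

set_option autoImplicit false
open Cfsg

namespace Cfsg.Agent.S1464

/-- Let p be an odd prime and G a solvable group of odd order, P a p-subgroup with O_{p'}(G)P normal in G, and A a p-subgroup of N_G(P) with [[P, A], A] = 1. Then the image of A in the quotient N_G(P)/C_G(P) is contained in the p-core of that quotient. -/
theorem result {G : Type*} [Group G] [Finite G] [Group.IsSolvable G] (hodd : Odd (Nat.card G)) (p : ℕ) [Fact p.Prime] (hp : p ≠ 2) (P A : Subgroup G) (hP : IsPGroup p P) (hPn : (Cfsg.pPrimeCore p G ⊔ P).Normal)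
    (hA : IsPGroup p A) (hAN : A ≤ Subgroup.normalizer (P : Set G)) (hquad : ⁅⁅P, A⁆, A⁆ = ⊥) :
    (A.subgroupOf (Subgroup.normalizer (P : Set G))).map
        (QuotientGroup.mk' ((Subgroup.centralizer (P : Set G)).subgroupOf (Subgroup.normalizer (P : Set G))))
      ≤ Cfsg.pCore p _ := by
  set N := Subgroup.normalizer (P : Set G) with hN
  have hPN : P ≤ N := Subgroup.le_normalizer
  have : (P.subgroupOf N).Normal := (Subgroup.normal_subgroupOf_iff_le_normalizer hPN).mpr le_rfl
  have hC : (Subgroup.centralizer (P : Set G)).subgroupOf N = Subgroup.centralizer (P.subgroupOf N : Set N) := by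
    ext x
    rw [Subgroup.mem_subgroupOf, Subgroup.mem_centralizer_iff, Subgroup.mem_centralizer_iff]
    exact ⟨fun h y hy => Subtype.ext (h y hy), fun h y hy => congrArg Subtype.val (h ⟨y, hPN hy⟩ hy)⟩
  rintro _ ⟨a, ha, rfl⟩
  refine Cfsg.Agent.OddLocal.quadratic_mem_pCore (G := N) (Odd.of_dvd_nat hodd N.card_subgroup_dvd_card) hp
    (P.subgroupOf N) hP.comap_subtype _ hC a fun v hv => Subtype.ext ?_
  exact (Cfsg.Agent.OddLocal.commute_quad_of_commutator_eq_bot hquad ha hv).eq

end Cfsg.Agent.S1464
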