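import Cfsg.Statements.S1470


set_option autoImplicit false
open Cfsg

namespace Cfsg.Agent.S1470

/-- Let p and q be odd primes with (p^q − 1)/(p − 1) coprime to p − 1, and let E be the set of elements a of the field with p ^ q elements whose norm to the prime field is 1 and for which 2 − a also has norm 1. If a⁻¹ ∈ E for every a ∈ E and E has at least two elements, then p ≤ q. -/
theorem result (p q : ℕ) [Fact p.Prime] [Fact q.Prime] (hp : p ≠ 2) (hq : q ≠ 2) (hA : Nat.Coprime ((p ^ q - 1) / (p - 1)) (p - 1))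
    (hinv : ∀ a ∈ {a : GaloisField p q | Algebra.norm (ZMod p) a = 1 ∧ Algebra.norm (ZMod p) (2 - a) = 1}, a⁻¹ ∈ {a : GaloisField p q | Algebra.norm (ZMod p) a = 1 ∧ Algebra.norm (ZMod p) (2 - a) = 1})
    (h2 : 2 ≤ Set.ncard {a : GaloisField p q | Algebra.norm (ZMod p) a = 1 ∧ Algebra.norm (ZMod p) (2 - a) = 1}) :
    p ≤ q := by
  classical
  set F := GaloisField p q
  by_contra hlt
  rw [not_le] at hlt
  obtain ⟨a, ha, ha1⟩ : ∃ a ∈ {a : F | Algebra.norm (ZMod p) a = 1 ∧ Algebra.norm (ZMod p) (2 - a) = 1}, a ≠ 1 :=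
    Set.exists_ne_of_one_lt_ncard h2 1
  let d : ℕ → F := fun k => (k + 1 : F) - k * a
  have key : ∀ k, Algebra.norm (ZMod p) (d k) = 1 ∧ Algebra.norm (ZMod p) (d (k+1)) = 1 ∧
      Algebra.norm (ZMod p) (2 - d k / d (k+1)) = 1 := by
    intro k
    induction k with
    | zero =>
      have h := ha.2
      have e0 : d 0 = 1 := by simp [d]
      have e1 : d 1 = 2 - a := by simp only [d, Nat.cast_one]; ring
      refine ⟨by simp [e0], by rw [e1]; exact h, ?_⟩
      rw [e0, e1]
      have hmem : (2 - a) ∈ {a : F | Algebra.norm (ZMod p) a = 1 ∧ Algebra.norm (ZMod p) (2 - a) = 1} :=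
        ⟨ha.2, by rw [sub_sub_cancel]; exact ha.1⟩
      simpa [one_div] using (hinv _ hmem).2
    | succ k ih =>
      obtain ⟨h0, h1, h2'⟩ := ih
      have hne : d (k+1) ≠ 0 := by
        intro h; rw [h, Algebra.norm_zero] at h1; exact one_ne_zero h1.symm
      have e : d (k+1+1) = (2 - d k / d (k+1)) * d (k+1) := by
        rw [sub_mul, div_mul_cancel₀ _ hne]; simp only [d]; push_cast; ring
      have hn2 : Algebra.norm (ZMod p) (d (k+1+1)) = 1 := by
        rw [e, map_mul, h2', h1, one_mul]
      refine ⟨h1, hn2, ?_⟩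
      have hmem : (2 - d k / d (k+1)) ∈ {a : F | Algebra.norm (ZMod p) a = 1 ∧ Algebra.norm (ZMod p) (2 - a) = 1} := by
        refine ⟨h2', ?_⟩
        rw [sub_sub_cancel]
        have h3 : Algebra.norm (ZMod p) (d k / d (k+1)) * Algebra.norm (ZMod p) (d (k+1)) = 1 := by
          rw [← map_mul, div_mul_cancel₀ _ hne, h0]
        rwa [h1, mul_one] at h3
      have := (hinv _ hmem).2
      rw [e, div_mul_cancel_right₀ hne]
      exact this
  let G := F ≃ₐ[ZMod p] F
  have hcard : Fintype.card G = q := by
    rw [← Nat.card_eq_fintype_card]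
    exact (IsGalois.card_aut_eq_finrank (ZMod p) F).trans (GaloisField.finrank p (Fact.out : q.Prime).ne_zero)
  let f : Polynomial F := ∏ σ : G, (Polynomial.C (σ (1 - a)) * Polynomial.X + Polynomial.C 1)
  have hb : (1 : F) - a ≠ 0 := sub_ne_zero.mpr (Ne.symm ha1)
  have hdeg : f.natDegree = q := by
    rw [Polynomial.natDegree_prod _ _ (fun σ _ => ?_)]
    · rw [Finset.sum_congr rfl (fun (σ : G) _ => Polynomial.natDegree_linear
        (show σ (1 - a) ≠ 0 from fun h => hb (σ.injective (h.trans (map_zero σ).symm))))]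
      simp [hcard]
    · intro h
      have := congrArg (Polynomial.eval 0) h
      simp at this
  have hpos : 0 < q := (Fact.out : q.Prime).pos
  have hdeg' : (f - 1).natDegree = q := by
    rw [← Polynomial.C_1, Polynomial.natDegree_sub_C, hdeg]
  have hne : f - 1 ≠ 0 := by
    intro h; rw [h, Polynomial.natDegree_zero] at hdeg'; omega
  have hroots : ∀ k : ℕ, (f - 1).eval (k : F) = 0 := by
    intro k
    have h := (key k).1
    have := Algebra.norm_eq_prod_automorphisms (ZMod p) (d k)
    rw [h, map_one] at this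
    rw [Polynomial.eval_sub, Polynomial.eval_one, sub_eq_zero, Polynomial.eval_prod]
    refine Eq.trans (Finset.prod_congr rfl fun σ _ => ?_) this.symm
    have e : d k = (1 - a) * (k : F) + 1 := by simp only [d]; ring
    rw [Polynomial.eval_add, Polynomial.eval_mul, Polynomial.eval_C, Polynomial.eval_C, Polynomial.eval_X,
      e, map_add σ, map_mul σ, map_natCast σ, map_one σ]
  have hinj : Set.InjOn (fun k : ℕ => (k : F)) (Finset.range p : Set ℕ) := by
    intro x hx y hy h
    exact CharP.natCast_injOn_Iio F p (by simpa using hx) (by simpa using hy) h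
  have hle := Polynomial.card_le_degree_of_subset_roots (p := f - 1)
    (Z := (Finset.range p).image (fun k : ℕ => (k : F))) (by
      intro x hx
      simp only [Finset.image_val, Multiset.mem_dedup, Multiset.mem_map] at hx
      obtain ⟨k, -, rfl⟩ := hx
      exact (Polynomial.mem_roots hne).mpr (hroots k))
  rw [Finset.card_image_of_injOn hinj, Finset.card_range, hdeg'] at hle
  omega

end Cfsg.Agent.S1470
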