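import Cfsg.Statements.S1471
import Cfsg.Agent.Lib.OddLocal.NormOne

set_option autoImplicit false
open Cfsg

namespace Cfsg.Agent.S1471

/-- Let p and q be odd primes with (p^q − 1)/(p − 1) coprime to p − 1. Then there are at least two elements a of the field with p ^ q elements such that both a and 2 − a have norm 1 to the prime field. -/
theorem result (p q : ℕ) [Fact p.Prime] [Fact q.Prime] (hp : p ≠ 2) (hq : q ≠ 2) (hA : Nat.Coprime ((p ^ q - 1) / (p - 1)) (p - 1)) :
    2 ≤ Set.ncard {a : GaloisField p q | Algebra.norm (ZMod p) a = 1 ∧ Algebra.norm (ZMod p) (2 - a) = 1} := by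
  classical
  set F := GaloisField p q
  have hqp : q.Prime := Fact.out
  by_cases h3 : q = 3
  · subst h3
    obtain ⟨a, ha, ha1, ha2⟩ := Cfsg.Agent.OddLocal.exists_norm_two_sub_three p hp
    rw [← Set.ncard_pair (Ne.symm ha)]
    refine Set.ncard_le_ncard ?_ (Set.toFinite _)
    rintro x (rfl | rfl)
    · norm_num
    · exact ⟨ha1, ha2⟩
  · have h5 : 5 ≤ q := by
      have h4 : q ≠ 4 := fun h => absurd (h ▸ hqp : Nat.Prime 4) (by norm_num)
      have := hqp.two_le
      omega
    haveI : Fintype F := Fintype.ofFinite F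
    have hF : Fintype.card F = p ^ q := by
      rw [Fintype.card_eq_nat_card]; exact GaloisField.card p q hqp.ne_zero
    refine (Cfsg.Agent.OddLocal.two_le_card_norm_two_sub hp h5 F hF).trans_eq ?_
    rw [← Set.ncard_coe_finset]
    simp only [Finset.coe_filter, Finset.mem_univ, true_and]
    rfl

end Cfsg.Agent.S1471
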