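import Cfsg.Statements.S1472
import Cfsg.Agent.Lib.BGAppCFinal

set_option autoImplicit false
open Cfsg

namespace Cfsg.Agent.S1472

open Cfsg.Agent Polynomial in
theorem aux_ne {F : Type*} [Field F] {p : ℕ} [Fact p.Prime] [CharP F p] (z : F) (hz : z ^ p = z) :
    ∃ i : ZMod p, (ZMod.castHom (dvd_refl p) F) i = z := by
  classical
  let ι := ZMod.castHom (dvd_refl p) F
  by_contra hcon
  push Not at hcon
  have hp1 : 1 < p := (Fact.out : p.Prime).one_lt
  have hne : (X ^ p - X : F[X]) ≠ 0 := FiniteField.X_pow_card_sub_X_ne_zero F hp1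
  have hsub : insert z (Finset.univ.image ι) ⊆ ((X ^ p - X : F[X]).roots).toFinset := by
    intro x hx
    rw [Multiset.mem_toFinset, mem_roots hne]
    rcases Finset.mem_insert.mp hx with rfl | hx
    · simp [hz]
    · obtain ⟨i, -, rfl⟩ := Finset.mem_image.mp hx
      simp [← map_pow]
  have h1 := (Finset.card_le_card hsub).trans ((Multiset.toFinset_card_le _).trans (card_roots' _))
  rw [Finset.card_insert_of_notMem (fun h => by
      obtain ⟨i, -, hi⟩ := Finset.mem_image.mp h; exact hcon i hi),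
    Finset.card_image_of_injective _ ι.injective, Finset.card_univ, ZMod.card,
    FiniteField.X_pow_card_sub_X_natDegree_eq F hp1] at h1
  omega

/-- Let p, q be primes with (p^q − 1)/(p − 1) coprime to p − 1, G a finite group, F a field with p ^ q elements, and P, U, Q subgroups of G with: f : G → F bijective from P onto F and additive on P; U normalizing P and acting through ψ : G → F, injective and multiplicative on U with ψ(u) ≠ 0 and f(uxu⁻¹) = ψ(u) f(x); #U · (p − 1) = p^q − 1; Q abelian of order coprime to p, normalized by every x ∈ P with f(x) in the prime field; and some y ∈ Q such that y x y⁻¹ normalizes U for every such x. Then p ≤ q. -/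
theorem result {G : Type*} [Group G] [Finite G] (p q : ℕ) [Fact p.Prime] [Fact q.Prime] (hA : Nat.Coprime ((p ^ q - 1) / (p - 1)) (p - 1))
    (F : Type*) [Field F] [Fintype F] (hF : Fintype.card F = p ^ q) (P U Q : Subgroup G) (f ψ : G → F)
    (hf : Set.BijOn f (P : Set G) Set.univ) (hfadd : ∀ x ∈ P, ∀ z ∈ P, f (x * z) = f x + f z)
    (hUP : U ≤ Subgroup.normalizer (P : Set G)) (hψ : ∀ u ∈ U, ψ u ≠ 0 ∧ ∀ x ∈ P, f (u * x * u⁻¹) = ψ u * f x)
    (hψmul : ∀ u ∈ U, ∀ v ∈ U, ψ (u * v) = ψ u * ψ v) (hψinj : Set.InjOn ψ (U : Set G)) (hUcard : Nat.card U * (p - 1) = p ^ q - 1)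
    (hQ : IsMulCommutative Q) (hQp : (Nat.card Q).Coprime p) (hP0Q : ∀ x ∈ P, f x ^ p = f x → x ∈ Subgroup.normalizer (Q : Set G))
    (y : G) (hy : y ∈ Q) (hP0U : ∀ x ∈ P, f x ^ p = f x → y * x * y⁻¹ ∈ Subgroup.normalizer (U : Set G)) :
    p ≤ q := by
    classical
    by_contra hpq
    rw [not_le] at hpq
    have hp : p.Prime := Fact.out
    have hq : q.Prime := Fact.out
    have hpodd : Odd p := hp.odd_of_ne_two (by have := hq.two_le; omega)
    haveI : NeZero p := ⟨hp.ne_zero⟩
    have hge : 1 ≤ p ^ q := Nat.one_le_pow _ _ hp.pos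
    have hgeom : (∑ i ∈ Finset.range q, p ^ i) * (p - 1) = p ^ q - 1 := by
      have := Nat.geomSum_eq hp.two_le q
      rw [this]
      exact Nat.div_mul_cancel (by simpa using Nat.sub_dvd_pow_sub_pow p 1 q)
    have hUN : Nat.card U = ∑ i ∈ Finset.range q, p ^ i :=
      Nat.eq_of_mul_eq_mul_right (show 0 < p - 1 by have := hp.two_le; omega) (hUcard.trans hgeom.symm)
    have hUcop1 : (Nat.card U).Coprime (p - 1) := by
      have : (p ^ q - 1) / (p - 1) = Nat.card U := by
        rw [← hUcard]; exact Nat.mul_div_cancel _ (by have := hp.two_le; omega)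
      rwa [this] at hA
    have hq3 : 3 ≤ q := by
      by_contra hq3
      have hq2 : q = 2 := le_antisymm (by omega) hq.two_le
      subst hq2
      rw [hUN] at hUcop1
      simp [Finset.sum_range_succ] at hUcop1
      obtain ⟨k, hk⟩ := hpodd
      have h2a : 2 ∣ 1 + p := ⟨k + 1, by omega⟩
      have h2b : 2 ∣ p - 1 := ⟨k, by omega⟩
      have := Nat.eq_one_of_dvd_coprimes hUcop1 h2a h2b
      omega
    have hp5 : 5 ≤ p := by
      obtain ⟨k, hk⟩ := hpodd
      omega
    have hUcopp : (Nat.card U).Coprime p := by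
      refine (hp.coprime_iff_not_dvd.mpr fun hd => ?_).symm
      have h1 : p ∣ p ^ q - 1 := hUcard ▸ hd.mul_right (p - 1)
      have h2 : p ∣ p ^ q := dvd_pow_self p hq.ne_zero
      have h3 := Nat.dvd_sub h2 h1
      rw [Nat.sub_sub_self hge, Nat.dvd_one] at h3
      exact hp.ne_one h3
    have hFchar : CharP F p := by
      refine charP_of_card_eq_prime_pow (f := q) ?_
      exact_mod_cast hF
    haveI := hFchar
    let ι : ZMod p →+* F := ZMod.castHom (dvd_refl p) F
    have hιp : ∀ i, ι i ^ p = ι i := fun i => by rw [← map_pow, ZMod.pow_card]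
    -- the inverse of `f`
    have hPs : ∀ z : F, ∃ x ∈ P, f x = z := fun z => hf.surjOn (Set.mem_univ z)
    choose π hπP hπf using hPs
    have hπ : ∀ z x, x ∈ P → f x = z → π z = x := fun z x hx hxz =>
      hf.injOn (hπP z) hx ((hπf z).trans hxz.symm)
    have hπadd : ∀ a b, π (a + b) = π a * π b := fun a b =>
      hπ _ _ (P.mul_mem (hπP a) (hπP b)) (by rw [hfadd _ (hπP a) _ (hπP b), hπf, hπf])
    have hπinj : Function.Injective π := fun a b h => by rw [← hπf a, ← hπf b, h]
    have hψ1 : ψ 1 = 1 := by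
      have h := hψmul 1 U.one_mem 1 U.one_mem
      rw [one_mul] at h
      exact (mul_eq_left₀ (hψ 1 U.one_mem).1).mp h.symm
    let χ : U →* F :=
      { toFun := fun u => ψ u, map_one' := hψ1, map_mul' := fun u v => hψmul _ u.2 _ v.2 }
    have hχinj : Function.Injective χ := fun u v h => Subtype.ext (hψinj u.2 v.2 h)
    have hconj : ∀ (u : U) (z : F), (u : G) * π z * (u : G)⁻¹ = π (χ u * z) := fun u z => by
      have hm := (Subgroup.mem_normalizer_iff.mp (hUP u.2) (π z)).mp (hπP z)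
      exact (hπ _ _ hm (by rw [(hψ _ u.2).2 _ (hπP z), hπf]; rfl)).symm
    have hmem : ∀ i, f (π (ι i)) ^ p = f (π (ι i)) := fun i => by rw [hπf]; exact hιp i
    have hnQ : ∀ i, ∀ x ∈ Q, π (ι i) * x * (π (ι i))⁻¹ ∈ Q := fun i x hx =>
      (Subgroup.mem_normalizer_iff.mp (hP0Q _ (hπP _) (hmem i)) x).mp hx
    have hnU : ∀ i, ∀ u ∈ U, (y * π (ι i) * y⁻¹) * u * (y * π (ι i) * y⁻¹)⁻¹ ∈ U := fun i u hu =>
      (Subgroup.mem_normalizer_iff.mp (hP0U _ (hπP _) (hmem i)) u).mp hu
    have hQc : ∀ a ∈ Q, ∀ b ∈ Q, a * b = b * a := fun a ha b hb =>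
      congrArg Subtype.val (hQ.is_comm.comm ⟨a, ha⟩ ⟨b, hb⟩)
    -- reduce to the part of `Q` without fixed points
    let s1 := π (ι 1)
    let d : Q →* G :=
      { toFun := fun x => s1 * (x : G) * s1⁻¹ * (x : G)⁻¹
        map_one' := by simp
        map_mul' := fun x z => by
          have h1 : (x : G)⁻¹ * (s1 * (z : G) * s1⁻¹) = (s1 * (z : G) * s1⁻¹) * (x : G)⁻¹ :=
            hQc _ (Q.inv_mem x.2) _ (hnQ 1 _ z.2)
          have h2 : (x : G)⁻¹ * ((z : G))⁻¹ = (z : G)⁻¹ * (x : G)⁻¹ :=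
            hQc _ (Q.inv_mem x.2) _ (Q.inv_mem z.2)
          push_cast
          calc s1 * ((x : G) * (z : G)) * s1⁻¹ * ((x : G) * (z : G))⁻¹
              = s1 * (x : G) * s1⁻¹ * (s1 * (z : G) * s1⁻¹) * ((z : G)⁻¹ * (x : G)⁻¹) := by group
            _ = s1 * (x : G) * s1⁻¹ * (s1 * (z : G) * s1⁻¹) * ((x : G)⁻¹ * (z : G)⁻¹) := by rw [h2]
            _ = s1 * (x : G) * s1⁻¹ * ((s1 * (z : G) * s1⁻¹) * (x : G)⁻¹) * (z : G)⁻¹ := by group
            _ = s1 * (x : G) * s1⁻¹ * ((x : G)⁻¹ * (s1 * (z : G) * s1⁻¹)) * (z : G)⁻¹ := by rw [h1]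
            _ = _ := by group }
    have hdle : d.range ≤ Q := by
      rintro _ ⟨x, rfl⟩
      exact Q.mul_mem (hnQ 1 _ x.2) (Q.inv_mem x.2)
    have hs1p : s1 ^ p = 1 := by
      have hn : ∀ n : ℕ, π ((n : F) * ι 1) = s1 ^ n := by
        intro n
        induction n with
        | zero =>
          rw [Nat.cast_zero, zero_mul, pow_zero]
          have := hπadd 0 0
          rw [add_zero] at this
          exact left_eq_mul.mp this
        | succ n ih => rw [Nat.cast_succ, add_mul, one_mul, hπadd, ih, pow_succ]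
      rw [← hn, CharP.cast_eq_zero]
      simpa using hn 0
    have hfix : ∀ x ∈ d.range, s1 * x * s1⁻¹ = x → x = 1 := by
      rintro _ ⟨z, rfl⟩ hx
      set w := d z with hw
      have hn : ∀ n : ℕ, s1 ^ n * (z : G) * (s1 ^ n)⁻¹ = w ^ n * z := by
        intro n
        induction n with
        | zero => simp
        | succ n ih =>
          calc s1 ^ (n + 1) * (z : G) * (s1 ^ (n + 1))⁻¹
              = s1 * (s1 ^ n * (z : G) * (s1 ^ n)⁻¹) * s1⁻¹ := by rw [pow_succ']; group
            _ = (s1 * w * s1⁻¹) ^ n * (w * (z : G)) := by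
              rw [ih, conj_pow, show w = s1 * (z : G) * s1⁻¹ * (z : G)⁻¹ from rfl]
              group
            _ = _ := by rw [hx, pow_succ]; group
      have h1 := hn p
      rw [hs1p] at h1
      have h2 : w ^ p = 1 := by simpa using h1.symm
      exact Cfsg.Agent.BGAppC.Cfg.eq_one_of_pow_p hQp (hdle ⟨z, rfl⟩) h2
    have hnQ' : ∀ i, ∀ x ∈ d.range, π (ι i) * x * (π (ι i))⁻¹ ∈ d.range := by
      rintro i _ ⟨x, rfl⟩
      refine ⟨⟨_, hnQ i _ x.2⟩, ?_⟩
      have hc : π (ι i) * s1 = s1 * π (ι i) := by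
        simp only [s1, ← hπadd, add_comm]
      change s1 * (π (ι i) * (x : G) * (π (ι i))⁻¹) * s1⁻¹ * (π (ι i) * (x : G) * (π (ι i))⁻¹)⁻¹
        = π (ι i) * (s1 * (x : G) * s1⁻¹ * (x : G)⁻¹) * (π (ι i))⁻¹
      calc _ = (s1 * π (ι i)) * (x : G) * (s1 * π (ι i))⁻¹ * (π (ι i) * (x : G)⁻¹ * (π (ι i))⁻¹) := by
            group
        _ = (π (ι i) * s1) * (x : G) * (π (ι i) * s1)⁻¹ * (π (ι i) * (x : G)⁻¹ * (π (ι i))⁻¹) := by
            rw [hc]
        _ = _ := by group
    have hcard' : (Nat.card d.range).Coprime p :=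
      Nat.Coprime.of_dvd_left (Subgroup.card_dvd_of_le hdle) hQp
    obtain ⟨r, hr, hry⟩ : ∃ r ∈ d.range, d ⟨y, hy⟩ = s1 * r * s1⁻¹ * r⁻¹ := by
      let g : d.range → d.range := fun x => ⟨d ⟨x, hdle x.2⟩, ⟨_, rfl⟩⟩
      have hg : Function.Injective g := by
        intro x x' h
        have h' : d ⟨x, hdle x.2⟩ = d ⟨x', hdle x'.2⟩ := congrArg Subtype.val h
        have h1 : d (⟨(x : G), hdle x.2⟩ * ⟨(x' : G), hdle x'.2⟩⁻¹) = 1 := by
          rw [map_mul, map_inv, h', mul_inv_cancel]
        have h2 := hfix _ (d.range.mul_mem x.2 (d.range.inv_mem x'.2))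
          (mul_inv_eq_one.mp h1)
        exact Subtype.ext (mul_inv_eq_one.mp h2)
      obtain ⟨⟨r, hr⟩, hrg⟩ := (Finite.injective_iff_surjective.mp hg) ⟨d ⟨y, hy⟩, ⟨_, rfl⟩⟩
      exact ⟨r, hr, (congrArg Subtype.val hrg).symm⟩
    have hcy : ∀ i : ZMod p, y * π (ι i) * y⁻¹ = r * π (ι i) * r⁻¹ := by
      have h1 : s1 * (r⁻¹ * y) = (r⁻¹ * y) * s1 := by
        have h3 : s1 * y * s1⁻¹ * y⁻¹ = s1 * r * s1⁻¹ * r⁻¹ := hry
        calc s1 * (r⁻¹ * y) = (s1 * r * s1⁻¹)⁻¹ * (s1 * y * s1⁻¹ * y⁻¹) * y * s1 := by group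
          _ = _ := by rw [h3]; group
      intro i
      have h2 : π (ι i) * (r⁻¹ * y) = (r⁻¹ * y) * π (ι i) := by
        have hi : π (ι i) = s1 ^ i.val := by
          have hn : ∀ n : ℕ, π (ι (n : ZMod p)) = s1 ^ n := by
            intro n
            induction n with
            | zero =>
              rw [Nat.cast_zero, map_zero, pow_zero]
              have := hπadd 0 0
              rw [add_zero] at this
              exact left_eq_mul.mp this
            | succ n ih => rw [Nat.cast_succ, map_add, hπadd, ih, pow_succ]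
          rw [← hn, ZMod.natCast_zmod_val]
        rw [hi]
        exact (Commute.pow_left h1 i.val).eq
      calc y * π (ι i) * y⁻¹ = r * ((r⁻¹ * y) * π (ι i)) * (r⁻¹ * y)⁻¹ * r⁻¹ := by group
        _ = _ := by rw [← h2]; group
    have hUnt : ∃ u : U, u ≠ 1 := by
      by_contra hcon
      push Not at hcon
      haveI : Subsingleton U := ⟨fun a b => by rw [hcon a, hcon b]⟩
      have h1 : Nat.card U = 1 := Nat.card_unique
      rw [h1, one_mul] at hUcard
      have : p ^ 2 ≤ p ^ q := Nat.pow_le_pow_right hp.pos hq.two_le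
      have h4 : p * 2 ≤ p ^ 2 := by rw [sq]; exact Nat.mul_le_mul_left p hp.two_le
      omega
    have hadj : ∀ β : F, (∀ i, ι i ≠ β) → ∀ S : Subring F, β ∈ S → S = ⊤ := by
      intro β hβ S hβS
      letI : Algebra (ZMod p) F := ι.toAlgebra
      have hmem' : ∀ i : ZMod p, ι i ∈ S := by
        intro i
        rw [← ZMod.natCast_zmod_val i, map_natCast]
        exact natCast_mem S _
      let A : Subalgebra (ZMod p) F := { S with algebraMap_mem' := hmem' }
      have hrk : Module.finrank (ZMod p) F = q := by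
        have h1 := Module.card_eq_pow_finrank (K := ZMod p) (V := F)
        rw [hF, ZMod.card] at h1
        exact (Nat.pow_right_injective hp.two_le h1).symm
      haveI := Subalgebra.isSimpleOrder_of_finrank_prime (ZMod p) F (hrk.symm ▸ hq)
      rcases eq_bot_or_eq_top A with hA' | hA'
      · exfalso
        have : β ∈ A := hβS
        rw [hA', Algebra.mem_bot] at this
        obtain ⟨i, hi⟩ := this
        exact hβ i hi
      · ext x
        simp only [Subring.mem_top, iff_true]
        have : x ∈ A := hA' ▸ Algebra.mem_top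
        exact this
    let D : Cfsg.Agent.BGAppC.Cfg G F p :=
      { ι := ι, π := π, π_add := hπadd, π_inj := hπinj, U := U, χ := χ, χ_inj := hχinj
        conj := hconj, Q := d.range
        Qcomm := fun a ha b hb => hQc a (hdle ha) b (hdle hb)
        Qcop := hcard', normQ := hnQ', fixQ := hfix, y := r, hy := hr
        yU := fun i u hu => hcy i ▸ hnU i u hu
        Ucop := hUcopp, Ucop' := hUcop1
        Ucard := by rw [hUcard, Nat.card_eq_fintype_card, hF]
        Unt := hUnt, adj := hadj, fixed := aux_ne, charP := hFchar, prime := hp }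
    refine D.contradiction hp5 fun β hβ m1 => ?_
    by_contra hcon
    push Not at hcon
    have h1 := Cfsg.Agent.BGAppC.norm_line_bound p q ι (χ β)
      (fun h => hβ (D.χ_eq_one h)) m1 (fun m hm => by
        obtain ⟨u, hu⟩ := hcon m hm
        rw [show (1 : F) - ι m + ι m * χ β = χ u from hu, ← map_pow, ← hUN, pow_card_eq_one']
        exact map_one _) (fun x z i => add_pow_char_pow x z p i) (by omega)
    obtain ⟨k, hk⟩ := hpodd
    obtain ⟨l, hl⟩ := hq.odd_of_ne_two (by omega)
    omega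

end Cfsg.Agent.S1472
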