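import Cfsg.Statements.S1475
import Cfsg.Agent.Lib.Basics.Tools
import Cfsg.Agent.Lib.Basics.FpfAbelian
import Cfsg.Agent.Lib.OddLocal.FixPointB

set_option autoImplicit false
open Cfsg

namespace Cfsg.Agent.S1475

universe u

theorem eq_of_isPrimePow {n a b : ℕ} (hn : IsPrimePow n) (ha : a.Prime) (hb : b.Prime) (ha' : a ∣ n) (hb' : b ∣ n) :
    a = b := by
  obtain ⟨c, k, hc, -, rfl⟩ := hn
  have hc' : c.Prime := Nat.prime_iff.mpr hc
  rw [(Nat.prime_dvd_prime_iff_eq ha hc').mp (ha.dvd_of_dvd_pow ha'),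
    (Nat.prime_dvd_prime_iff_eq hb hc').mp (hb.dvd_of_dvd_pow hb')]

theorem aux : ∀ n : ℕ, ∀ (G : Type u) [Group G] [Finite G] [Group.IsSolvable G], Nat.card G = n →
    (∀ g : G, IsPrimePow (orderOf g) ∨ g = 1) → n.primeFactors.card ≤ 2 := by
  intro n
  induction n using Nat.strong_induction_on with
  | _ n IH =>
    intro G _ _ _ hn h
    subst hn
    rcases subsingleton_or_nontrivial G with hs | hs
    · simp
    obtain ⟨p, E, hp, hEn, -, hEne, hEab, hexp⟩ :=
      Basics.exists_elementary_normal (N := (⊤ : Subgroup G)) top_ne_bot inferInstance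
    haveI := hEn
    haveI := Fact.mk hp
    obtain ⟨k, hk⟩ := (Basics.isPGroup_of_pow_eq_one hexp).exists_card_eq
    have hk0 : k ≠ 0 := by rintro rfl; exact hEne (Subgroup.card_eq_one.mp (by simpa using hk))
    have hcard : Nat.card G = Nat.card (G ⧸ E) * Nat.card E := Subgroup.card_eq_card_quotient_mul_card_subgroup E
    have hlt : Nat.card (G ⧸ E) < Nat.card G := by
      rw [hcard]
      exact lt_mul_of_one_lt_right Nat.card_pos (by rw [hk]; exact Nat.one_lt_pow hk0 hp.one_lt)
    have hIH : (Nat.card (G ⧸ E)).primeFactors.card ≤ 2 := IH _ hlt (G ⧸ E) rfl (fun x => by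
      obtain ⟨g, rfl⟩ := QuotientGroup.mk_surjective x
      by_cases hx1 : (g : G ⧸ E) = 1
      · exact Or.inr hx1
      rcases h g with hg | hg
      · exact Or.inl (hg.dvd (orderOf_map_dvd (QuotientGroup.mk' E) g) (by rwa [Ne, orderOf_eq_one_iff]))
      · exact absurd (by rw [hg]; rfl) hx1)
    have hpf : (Nat.card G).primeFactors = insert p (Nat.card (G ⧸ E)).primeFactors := by
      rw [hcard, Nat.primeFactors_mul Nat.card_pos.ne' Nat.card_pos.ne', hk, Nat.primeFactors_prime_pow hk0 hp,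
        Finset.union_comm, ← Finset.insert_eq]
    rw [hpf]
    by_cases hpin : p ∈ (Nat.card (G ⧸ E)).primeFactors
    · rwa [Finset.insert_eq_of_mem hpin]
    rw [Finset.card_insert_of_notMem hpin]
    by_contra hcon
    push Not at hcon
    have hnd : ¬ p ∣ E.index := fun hd => hpin (Nat.mem_primeFactors.mpr ⟨hp, hd, Nat.card_pos.ne'⟩)
    obtain ⟨K, hK⟩ := Subgroup.exists_right_complement'_of_coprime (N := E)
      (by rw [hk]; exact ((hp.coprime_iff_not_dvd).mpr hnd).pow_left k)
    have hKcard : Nat.card K = Nat.card (G ⧸ E) := hK.symm.index_eq_card.symm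
    have hfpf : ∀ a ∈ K, a ≠ 1 → E ⊓ Subgroup.centralizer {a} = ⊥ := by
      intro a ha ha1
      rw [eq_bot_iff]
      rintro e ⟨he, hec⟩
      by_contra he1
      rw [Subgroup.mem_bot] at he1
      have hoe : orderOf e = p := orderOf_eq_prime (hexp e he) he1
      obtain ⟨q, hq, hqa⟩ := Nat.exists_prime_and_dvd (fun h' => ha1 (orderOf_eq_one_iff.mp h'))
      have hcop : (orderOf a).Coprime (orderOf e) := by
        rw [hoe, Nat.coprime_comm, hp.coprime_iff_not_dvd]
        exact fun hd => hnd ((hd.trans (Subgroup.orderOf_dvd_natCard _ ha)).trans (hKcard ▸ dvd_rfl))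
      have hc : Commute a e := (Subgroup.mem_centralizer_singleton_iff.mp hec).symm
      have ho : orderOf (a * e) = orderOf a * p := by rw [hc.orderOf_mul_eq_mul_orderOf_of_coprime hcop, hoe]
      rcases h (a * e) with hpp | hpp
      · rw [ho] at hpp
        have e' : q = p := eq_of_isPrimePow hpp hq hp (hqa.trans (dvd_mul_right _ _)) (dvd_mul_left _ _)
        exact hnd ((e' ▸ hqa).trans ((Subgroup.orderOf_dvd_natCard _ ha).trans (hKcard ▸ dvd_rfl)))
      · rw [hpp, orderOf_one] at ho
        exact hp.one_lt.ne' (Nat.eq_one_of_mul_eq_one_left ho.symm)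
    have hKne : K ≠ ⊥ := by
      rintro rfl
      rw [Subgroup.card_bot] at hKcard
      rw [← hKcard] at hcon
      simp at hcon
    haveI := K.nontrivial_iff_ne_bot.mpr hKne
    obtain ⟨q, M, hq, hMn, -, hMne, hMab, hMexp⟩ :=
      Basics.exists_elementary_normal (N := (⊤ : Subgroup K)) top_ne_bot inferInstance
    have hKN : K ≤ Subgroup.normalizer (E : Set G) := by rw [Subgroup.normalizer_eq_top]; exact le_top
    set M' := M.map K.subtype with hM'
    haveI : IsMulCommutative M' := by
      refine ⟨⟨?_⟩⟩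
      rintro ⟨_, a, ha, rfl⟩ ⟨_, b, hb, rfl⟩
      exact Subtype.ext (congrArg (fun z : M => ((z : K) : G)) (hMab.is_comm.comm ⟨a, ha⟩ ⟨b, hb⟩))
    have hM'K : M' ≤ K := Subgroup.map_subtype_le _
    have hcyc : IsCyclic M' := Basics.fpf_abelian_isCyclic M' E hEne (hM'K.trans hKN) fun a ha => hfpf a (hM'K ha)
    have hM'e : ∀ x ∈ M', x ^ q = 1 := by
      rintro _ ⟨y, hy, rfl⟩; exact congrArg Subtype.val (hMexp y hy)
    have hM'ne : M' ≠ ⊥ := fun e => hMne ((Subgroup.map_eq_bot_iff_of_injective _ K.subtype_injective).mp e)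
    obtain ⟨⟨m, hm⟩, hgen⟩ := hcyc.exists_generator
    have hm1 : m ≠ 1 := by
      rintro rfl
      refine hM'ne (eq_bot_iff.mpr fun x hx => ?_)
      obtain ⟨i, hi⟩ := hgen ⟨x, hx⟩
      exact Subgroup.mem_bot.mpr (by simpa using (congrArg Subtype.val hi).symm)
    haveI := Fact.mk hq
    have hom : orderOf m = q := orderOf_eq_prime (hM'e m hm) hm1
    have hM'z : M' = Subgroup.zpowers m := by
      refine le_antisymm (fun x hx => ?_) (Subgroup.zpowers_le.mpr hm)
      obtain ⟨i, hi⟩ := hgen ⟨x, hx⟩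
      exact ⟨i, by simpa using congrArg Subtype.val hi⟩
    obtain ⟨r, hr, hrq⟩ : ∃ r ∈ (Nat.card (G ⧸ E)).primeFactors, r ≠ q :=
      Finset.exists_mem_ne (by omega) q
    obtain ⟨hr', hrd, -⟩ := Nat.mem_primeFactors.mp hr
    haveI := Fact.mk hr'
    obtain ⟨y, hy⟩ := exists_prime_orderOf_dvd_card' (G := K) r (hKcard ▸ hrd)
    have hyN : (y : G) ∈ Subgroup.normalizer (Subgroup.zpowers m : Set G) := by
      rw [← hM'z]
      refine (OddLocal.mem_normalizer_of_conj_mem ?_)
      rintro _ ⟨z, hz, rfl⟩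
      exact ⟨y * z * y⁻¹, hMn.conj_mem z hz y, by simp⟩
    have hyo : orderOf (y : G) = r := by rw [Subgroup.orderOf_coe]; exact hy
    set X := Subgroup.zpowers m ⊔ Subgroup.zpowers (y : G) with hX
    have hXc : Nat.card X = q * r := by
      rw [hX, Basics.card_sup_of_coprime (Subgroup.zpowers_le.mpr hyN)
        (by rw [Nat.card_zpowers, Nat.card_zpowers, hom, hyo]; exact (Nat.coprime_primes hq hr').mpr hrq.symm),
        Nat.card_zpowers, Nat.card_zpowers, hom, hyo]
    have hXK : X ≤ K := sup_le (Subgroup.zpowers_le.mpr (hM'K hm)) (Subgroup.zpowers_le.mpr y.2)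
    have hXab := Basics.fpf_pq_commutative X E hEne (hXK.trans hKN) (fun a ha => hfpf a (hXK ha)) hq hr' hXc
    have hc : Commute m (y : G) := congrArg Subtype.val (hXab.is_comm.comm
      ⟨m, Subgroup.mem_sup_left (Subgroup.mem_zpowers m)⟩ ⟨y, Subgroup.mem_sup_right (Subgroup.mem_zpowers _)⟩)
    have ho : orderOf (m * y) = q * r := by
      rw [hc.orderOf_mul_eq_mul_orderOf_of_coprime (by rw [hom, hyo]; exact (Nat.coprime_primes hq hr').mpr hrq.symm), hom, hyo]
    rcases h (m * y) with hpp | hpp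
    · rw [ho] at hpp
      exact hrq (eq_of_isPrimePow hpp hq hr' (dvd_mul_right _ _) (dvd_mul_left _ _)).symm
    · rw [hpp, orderOf_one] at ho
      exact hq.one_lt.ne' (Nat.eq_one_of_mul_eq_one_right ho.symm)

/-- Let G be a finite solvable group such that the order of every element is a prime power (1 included). Then at most two distinct primes divide the order of G. -/
theorem result {G : Type*} [Group G] [Finite G] [Group.IsSolvable G] (h : ∀ g : G, IsPrimePow (orderOf g) ∨ g = 1) :
    (Nat.card G).primeFactors.card ≤ 2 :=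
  aux _ G rfl h

end Cfsg.Agent.S1475
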