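import Cfsg.Statements.S1480
import Cfsg.Agent.Lib.OddLocal.Invariant
import Cfsg.Agent.Lib.OddLocal.Transitivity

set_option autoImplicit false
open Cfsg
open scoped commutatorElement

namespace Cfsg.Agent.S1480

/-- Let G be a finite group and p a prime such that the normalizer of every nontrivial p-subgroup of G is p-constrained; if p = 2 assume also that the Sylow 2-subgroups of G have nilpotency class at most 2. Let E be an abelian p-subgroup containing an elementary abelian subgroup of order p ^ 3 and containing every element of p-power order of C_G(E). Then for every prime q ≠ p, any two maximal E-invariant q-subgroups of G are conjugate by an element of O_{p'}(C_G(E)). -/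
theorem result {G : Type*} [Group G] [Finite G] (p : ℕ) [Fact p.Prime]
    (hloc : ∀ T : Subgroup G, IsPGroup p T → T ≠ ⊥ → Cfsg.IsPConstrained p ↥(Subgroup.normalizer (T : Set G)))
    (h2 : p = 2 → ∀ S : Sylow p G, Group.IsNilpotent (S : Subgroup G) ∧ Group.nilpotencyClass (S : Subgroup G) ≤ 2)
    (E : Subgroup G) (hEp : IsPGroup p E) (hEc : IsMulCommutative E) (hE3 : ¬ Cfsg.PRankLE p 2 E)
    (hEfull : ∀ x ∈ Subgroup.centralizer (E : Set G), IsPGroup p (Subgroup.zpowers x) → x ∈ E)
    (q : ℕ) [Fact q.Prime] (hqp : q ≠ p) :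
    ∀ Q₁ ∈ Cfsg.maxInvSubgroups ⊤ E {q}, ∀ Q₂ ∈ Cfsg.maxInvSubgroups ⊤ E {q},
        ∃ k ∈ Cfsg.piCoreOf (Cfsg.primesNotDvd p) (Subgroup.centralizer (E : Set G)), Q₂ = Q₁.map (MulAut.conj k).toMonoidHom := by
  classical
  have hp : p.Prime := Fact.out
  simp only [Cfsg.PRankLE, not_forall, not_le] at hE3
  obtain ⟨A, hAc, hAp, hAcard⟩ := hE3
  set B := A.map E.subtype with hBdef
  have hBE : B ≤ E := Subgroup.map_subtype_le A
  have hcard : p ^ 3 ≤ Nat.card B := by
    rw [hBdef, Subgroup.card_map_of_injective E.subtype_injective]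
    obtain ⟨n, hn⟩ := IsPGroup.iff_card.mp (hEp.to_subgroup A)
    rw [hn] at hAcard ⊢
    have : 2 < n := (Nat.pow_lt_pow_iff_right hp.one_lt).mp hAcard
    exact Nat.pow_le_pow_right hp.pos this
  have hBp : ∀ b ∈ B, b ^ p = 1 := by
    rintro _ ⟨a, ha, rfl⟩
    rw [← map_pow, hAp a ha, map_one]
  have hBcent : ∀ b ∈ B, E ≤ Subgroup.centralizer ({b} : Set G) := by
    intro b hb e he
    rw [Subgroup.mem_centralizer_singleton_iff]
    exact congrArg Subtype.val (hEc.is_comm.comm ⟨e, he⟩ ⟨b, hBE hb⟩)
  let K : G → Subgroup G := fun b =>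
    (Cfsg.pPrimeCore p ↥(Subgroup.centralizer ({b} : Set G))).map (Subgroup.centralizer ({b} : Set G)).subtype
  refine Cfsg.Agent.OddLocal.transitivity hqp hBE hBcent hBp hcard K (fun b _ _ => Subgroup.map_subtype_le _)
    ?_ ?_ hEp ?_
  · intro b _ _
    have h := Subgroup.le_normalizer_map (H := Cfsg.pPrimeCore p ↥(Subgroup.centralizer ({b} : Set G)))
      (Subgroup.centralizer ({b} : Set G)).subtype
    have hn := Cfsg.Agent.LocalEvenA.pPrimeCore_normal' p ↥(Subgroup.centralizer ({b} : Set G))
    rw [Subgroup.normalizer_eq_top, ← MonoidHom.range_eq_map, Subgroup.range_subtype] at h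
    exact h
  · intro b _ _ hdvd
    rw [Subgroup.card_map_of_injective (Subgroup.subtype_injective _)] at hdvd
    exact hp.coprime_iff_not_dvd.mp (Cfsg.Agent.LocalEvenA.pPrimeCore_coprime p).symm hdvd
  · intro b hb hb1 Y hYC hYq hEY
    set C := Subgroup.centralizer ({b} : Set G) with hC
    set T := Subgroup.zpowers b with hT
    set H := Subgroup.normalizer (T : Set G) with hH
    have hTp : IsPGroup p T := hEp.to_le (Subgroup.zpowers_le.mpr (hBE hb))
    have hT1 : T ≠ ⊥ := by rwa [hT, Ne, Subgroup.zpowers_eq_bot]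
    have hCH : C ≤ H := by
      intro g hg
      refine Subgroup.centralizer_le_normalizer (T : Set G) ?_
      rw [Subgroup.mem_centralizer_iff]
      rintro _ ⟨n, rfl⟩
      exact ((show Commute g b from Subgroup.mem_centralizer_singleton_iff.mp hg).zpow_right n).eq.symm
    have hEH : E ≤ H := (hBcent b hb).trans hCH
    have hEp' : IsPGroup p (E.subgroupOf H) := hEp.comap_subtype
    have hfull : ∀ x ∈ Subgroup.centralizer ((E.subgroupOf H : Subgroup H) : Set H),
        IsPGroup p (Subgroup.zpowers x) → x ∈ E.subgroupOf H := by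
      intro x hx hxp
      refine hEfull x ?_ ?_
      · rw [Subgroup.mem_centralizer_iff]
        intro e he
        exact congrArg Subtype.val (Subgroup.mem_centralizer_iff.mp hx ⟨e, hEH he⟩ he)
      · have := hxp.map H.subtype
        rwa [MonoidHom.map_zpowers] at this
    have hAC : Cfsg.Agent.OddLocal.HoldsCentralPElements p (E.subgroupOf H) := by
      by_cases hp2 : p = 2
      · refine Or.inr ⟨?_, hfull⟩
        intro T' hT' x hx y hy z hz
        obtain ⟨S, hS⟩ := (hT'.map H.subtype).exists_le_sylow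
        obtain ⟨hnil, hcl⟩ := h2 hp2 S
        have hbot := (Subgroup.lowerCentralSeries_eq_bot_iff_nilpotencyClass_le (G := (S : Subgroup G))).mpr hcl
        have hmem : ∀ w ∈ T', (w : G) ∈ (S : Subgroup G) := fun w hw => hS ⟨w, hw, rfl⟩
        let x' : (S : Subgroup G) := ⟨x, hmem x hx⟩
        let y' : (S : Subgroup G) := ⟨y, hmem y hy⟩
        let z' : (S : Subgroup G) := ⟨z, hmem z hz⟩
        have h1 : ⁅⁅x', y'⁆, z'⁆ ∈ (⊤ : Subgroup ↥(S : Subgroup G)).lowerCentralSeries 2 := by
          rw [Subgroup.lowerCentralSeries_succ, Subgroup.lowerCentralSeries_succ, Subgroup.lowerCentralSeries_zero]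
          exact Subgroup.commutator_mem_commutator (Subgroup.commutator_mem_commutator trivial trivial) trivial
        rw [hbot, Subgroup.mem_bot, commutatorElement_eq_one_iff_commute] at h1
        exact Subtype.ext (congrArg Subtype.val h1.eq :)
      · exact Or.inl ⟨hp2, fun x hx hxo => hfull x hx
          (IsPGroup.of_card (n := 1) (by rw [Nat.card_zpowers, hxo, pow_one]))⟩
    have hpY : ¬ p ∣ Nat.card Y := by
      obtain ⟨n, hn⟩ := IsPGroup.iff_card.mp hYq
      rw [hn]
      exact fun h => hqp ((Nat.prime_dvd_prime_iff_eq hp Fact.out).mp (hp.dvd_of_dvd_pow h)).symm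
    have key := Cfsg.Agent.OddLocal.le_pPrimeCore_of_invariant (hloc T hTp hT1) hEp' hAC (Q := Y.subgroupOf H)
      (by rwa [Nat.card_congr (Subgroup.subgroupOfEquivOfLe (hYC.trans hCH)).toEquiv])
      (by
        intro e he
        rw [Subgroup.mem_normalizer_iff]
        intro n
        exact Subgroup.mem_normalizer_iff.mp (hEY he) n)
    set O := (Cfsg.pPrimeCore p H).map H.subtype with hO
    have hYO : Y ≤ O := by
      rw [← Subgroup.map_subgroupOf_eq_of_le (hYC.trans hCH)]
      exact Subgroup.map_mono key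
    have hOn : H ≤ Subgroup.normalizer (O : Set G) := by
      have h := Subgroup.le_normalizer_map (H := Cfsg.pPrimeCore p H) H.subtype
      have hn := Cfsg.Agent.LocalEvenA.pPrimeCore_normal' p H
      rw [Subgroup.normalizer_eq_top, ← MonoidHom.range_eq_map, Subgroup.range_subtype] at h
      exact h
    have hnorm : ((O ⊓ C).subgroupOf C).Normal := by
      refine (Subgroup.normal_subgroupOf_iff_le_normalizer inf_le_right).mpr fun g hg => ?_
      rw [Subgroup.mem_normalizer_iff]
      intro n
      exact Subgroup.mem_inf.trans ((and_congr (Subgroup.mem_normalizer_iff.mp (hOn (hCH hg)) n)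
        (Subgroup.mem_normalizer_iff.mp (Subgroup.le_normalizer hg) n)).trans Subgroup.mem_inf.symm)
    have hle : (O ⊓ C).subgroupOf C ≤ Cfsg.pPrimeCore p C := by
      refine Cfsg.Agent.LocalEvenA.le_pPrimeCore_of_normal hnorm ?_
      rw [Nat.card_congr (Subgroup.subgroupOfEquivOfLe inf_le_right).toEquiv]
      refine Nat.Coprime.coprime_dvd_left (Subgroup.card_dvd_of_le inf_le_left) ?_
      rw [hO, Subgroup.card_map_of_injective H.subtype_injective]
      exact Cfsg.Agent.LocalEvenA.pPrimeCore_coprime p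
    intro y hy
    exact ⟨⟨y, hYC hy⟩, hle (show y ∈ O ⊓ C from ⟨hYO hy, hYC hy⟩), rfl⟩

end Cfsg.Agent.S1480
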