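import Cfsg.Statements.S1483
import Cfsg.Agent.Lib.OddLocal.CNFrobenius
-- import your own Cfsg.Agent.* helpers here

set_option autoImplicit false
open Cfsg

namespace Cfsg.Agent.S1483

/-- Let G be a minimal simple group of odd order in which every non-identity element has nilpotent centralizer. Then any two nilpotent subgroups each contained in no larger nilpotent subgroup are either conjugate or of coprime orders; and for primes p, q, r: if some elements x, y ≠ 1 of p-power and q-power order commute, and some elements y', z ≠ 1 of q-power and r-power order commute, then some elements of p-power and r-power order, both ≠ 1, commute. -/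
theorem result {G : Type*} [Group G] [Finite G] (hG : Cfsg.IsMinSimpleOddOrder G) (hCN : Cfsg.IsCNGroup G) :
    (∀ H₁ H₂ : Subgroup G, (Group.IsNilpotent ↥H₁ ∧ ∀ L : Subgroup G, Group.IsNilpotent L → H₁ ≤ L → L = H₁) → (Group.IsNilpotent ↥H₂ ∧ ∀ L : Subgroup G, Group.IsNilpotent L → H₂ ≤ L → L = H₂) → (∃ g : G, H₂ = H₁.map (MulAut.conj g).toMonoidHom) ∨ (Nat.card H₁).Coprime (Nat.card H₂)) ∧
      ∀ (p q r : ℕ), p.Prime → q.Prime → r.Prime → ∀ (x y y' z : G), x ≠ 1 → y ≠ 1 → y' ≠ 1 → z ≠ 1 →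
        IsPGroup p (Subgroup.zpowers x) → IsPGroup q (Subgroup.zpowers y) → IsPGroup q (Subgroup.zpowers y') → IsPGroup r (Subgroup.zpowers z) →
        x * y = y * x → y' * z = z * y' →
        ∃ x' z' : G, x' ≠ 1 ∧ z' ≠ 1 ∧ IsPGroup p (Subgroup.zpowers x') ∧ IsPGroup r (Subgroup.zpowers z') ∧ x' * z' = z' * x' := by
  have hne : ∀ {p : ℕ} {x : G}, p.Prime → x ≠ 1 → IsPGroup p (Subgroup.zpowers x) →
      ∀ H : Subgroup G, x ∈ H → p ∣ Nat.card H := by
    intro p x hp hx hxp H hxH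
    have : Fact p.Prime := ⟨hp⟩
    rcases hxp.card_eq_or_dvd with e | e
    · exact absurd (Subgroup.zpowers_eq_bot.mp (Subgroup.card_eq_one.mp e)) hx
    · exact e.trans (Subgroup.card_dvd_of_le (Subgroup.zpowers_le.mpr hxH))
  refine ⟨fun H₁ H₂ h1 h2 => ?_, fun p q r hp hq hr x y y' z hx hy hy' hz hxp hyq hy'q hzr hxy hyz => ?_⟩
  · by_cases hc : (Nat.card H₁).Coprime (Nat.card H₂)
    · exact Or.inr hc
    · obtain ⟨p, hp, hp1, hp2⟩ := Nat.Prime.not_coprime_iff_dvd.mp hc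
      have : Fact p.Prime := ⟨hp⟩
      exact Or.inl (OddLocal.IsMaxNilpotent.conj_of_common hCN h1 h2 hp1 hp2)
  have : Fact p.Prime := ⟨hp⟩
  have : Fact q.Prime := ⟨hq⟩
  have : Fact r.Prime := ⟨hr⟩
  rcases eq_or_ne p r with rfl | hpr
  · exact ⟨x, x, hx, hx, hxp, hxp, rfl⟩
  have hpair : ∀ (a b : G), a ≠ 1 → a * b = b * a → ∃ H : Subgroup G, OddLocal.IsMaxNilpotent H ∧ a ∈ H ∧ b ∈ H := by
    intro a b ha hab
    obtain ⟨H, hH, hle⟩ := OddLocal.exists_maxNilpotent_ge (hCN a ha)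
    exact ⟨H, hH, hle (Subgroup.mem_centralizer_singleton_iff.mpr rfl),
      hle (Subgroup.mem_centralizer_singleton_iff.mpr hab.symm)⟩
  obtain ⟨H₁, hH₁, hx1, hy1⟩ := hpair x y hx hxy
  obtain ⟨H₂, hH₂, hy2, hz2⟩ := hpair y' z hy' hyz
  obtain ⟨g, hg⟩ := hH₂.conj_of_common hCN hH₁ (hne hq hy' hy'q H₂ hy2) (hne hq hy hyq H₁ hy1)
  refine ⟨x, g * z * g⁻¹, hx, fun e => hz ?_, hxp, ?_, ?_⟩
  · simpa using e
  · have h := hzr.map (MulAut.conj g).toMonoidHom
    rwa [MonoidHom.map_zpowers] at h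
  · obtain ⟨i, hi⟩ := hxp ⟨x, Subgroup.mem_zpowers x⟩
    obtain ⟨j, hj⟩ := hzr ⟨z, Subgroup.mem_zpowers z⟩
    refine (OddLocal.commute_of_orderOf (p := p) (q := r) (a := i) (b := j) hH₁.1 hpr hx1 (hg ▸ ⟨z, hz2, rfl⟩)
      (congrArg Subtype.val hi) ?_).eq
    rw [conj_pow, show z ^ r ^ j = 1 from congrArg Subtype.val hj, mul_one, mul_inv_cancel]


end Cfsg.Agent.S1483
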