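import Cfsg.Statements.S1487
import Cfsg.Agent.Lib.OddChar.CliffordExtra

set_option autoImplicit false
open Cfsg

namespace Cfsg.Agent.S1487

/-- Let A ≤ H be normal subgroups of the finite group G and θ an irreducible character of H. Then θ takes the value θ 1 on all of A if and only if the function induced from θ to G takes its value at 1 on all of A. -/
theorem result {G : Type*} [Group G] [Fintype G] (A H : Subgroup G) [A.Normal] [H.Normal] (hAH : A ≤ H) (θ : H → ℂ) (hθ : Cfsg.IsIrrCharacter H θ) : (∀ a : H, (a : G) ∈ A → θ a = θ 1) ↔ (∀ a : G, a ∈ A → Cfsg.indFun H θ a = Cfsg.indFun H θ 1) := by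
  classical
  haveI := Fintype.ofFinite H
  have hc := CT.isCharacter_of_isIrr hθ
  have hconj : ∀ a ∈ A, ∀ x : G, x⁻¹ * a * x ∈ A := fun a ha x => by
    simpa using (inferInstance : A.Normal).conj_mem a ha x⁻¹
  have key : ∀ a ∈ A, Cfsg.indFun H θ a =
      (Nat.card H : ℂ)⁻¹ * ∑ x : G, Cfsg.extendByZero H θ (x⁻¹ * a * x) := fun a _ => rfl
  constructor
  · intro h a ha
    rw [key a ha, key 1 (one_mem A)]
    congr 1
    refine Finset.sum_congr rfl fun x _ => ?_
    rw [CT.extendByZero_mem H θ (hAH (hconj a ha x)),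
      CT.extendByZero_mem H θ (hAH (hconj 1 (one_mem A) x)), h ⟨_, hAH (hconj a ha x)⟩ (hconj a ha x),
      h ⟨_, hAH (hconj 1 (one_mem A) x)⟩ (hconj 1 (one_mem A) x)]
  · intro h a ha
    have e := h _ ha
    rw [key _ ha, key 1 (one_mem A)] at e
    have e2 := congrArg Complex.re (mul_left_cancel₀ (inv_ne_zero (Nat.cast_ne_zero.mpr Nat.card_pos.ne')) e)
    rw [Complex.re_sum, Complex.re_sum] at e2
    have hle : ∀ x : G, (Cfsg.extendByZero H θ (x⁻¹ * (a : G) * x)).re ≤
        (Cfsg.extendByZero H θ (x⁻¹ * 1 * x)).re := by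
      intro x
      rw [CT.extendByZero_mem H θ (hAH (hconj _ ha x)),
        CT.extendByZero_mem H θ (hAH (hconj 1 (one_mem A) x))]
      have : (⟨x⁻¹ * 1 * x, hAH (hconj 1 (one_mem A) x)⟩ : H) = 1 := Subtype.ext (by simp)
      rw [this]
      exact (Complex.re_le_norm _).trans (CT.norm_isCharacter_le hc _)
    have e3 := (Finset.sum_eq_sum_iff_of_le fun x _ => hle x).mp e2 1 (Finset.mem_univ 1)
    simp only [inv_one, one_mul, mul_one] at e3
    rw [CT.extendByZero_coe, show Cfsg.extendByZero H θ 1 = θ 1 from CT.extendByZero_mem H θ (one_mem H)] at e3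
    have h1 := CT.norm_isCharacter_le hc a
    have him : (θ a).im = 0 := by
      have h2 : ‖θ a‖ ^ 2 ≤ (θ a).re ^ 2 := by
        have := norm_nonneg (θ a)
        rw [e3]
        nlinarith
      rw [← Complex.normSq_eq_norm_sq, Complex.normSq_apply] at h2
      nlinarith
    refine Complex.ext e3 ?_
    rw [him, CT.deg_eq hc]
    simp

end Cfsg.Agent.S1487
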