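import Cfsg.Statements.S1488
import Cfsg.Agent.Lib.OddChar.CliffordExtra

set_option autoImplicit false
open Cfsg

namespace Cfsg.Agent.S1488

/-- Let A be a normal subgroup of the finite group G contained in the subgroup H, let θ be a function on H and θ₁ a function on the image of H in G ⧸ A whose composite with the projection is θ. Then the function induced from θ₁ to G ⧸ A, composed with the projection G → G ⧸ A, equals the function induced from θ to G. -/
theorem result {G : Type*} [Group G] [Fintype G] (A H : Subgroup G) [A.Normal] (hAH : A ≤ H) [Fintype (G ⧸ A)] [Fintype ↥(H.map (QuotientGroup.mk' A))] (θ : H → ℂ) (θ₁ : ↥(H.map (QuotientGroup.mk' A)) → ℂ) (hθ : ∀ x : H, θ₁ ⟨QuotientGroup.mk' A x, Subgroup.mem_map_of_mem _ x.2⟩ = θ x) (g : G) : Cfsg.indFun (H.map (QuotientGroup.mk' A)) θ₁ (QuotientGroup.mk' A g) = Cfsg.indFun H θ g := by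
  classical
  have hmem : ∀ y : G, y ∈ H ↔ QuotientGroup.mk' A y ∈ H.map (QuotientGroup.mk' A) := by
    intro y
    refine ⟨Subgroup.mem_map_of_mem _, ?_⟩
    rintro ⟨z, hz, e⟩
    have h2 := hAH (QuotientGroup.eq.mp e)
    simpa using H.mul_mem hz h2
  have hext : ∀ y : G, Cfsg.extendByZero H θ y =
      Cfsg.extendByZero (H.map (QuotientGroup.mk' A)) θ₁ (QuotientGroup.mk' A y) := by
    intro y
    by_cases hy : y ∈ H
    · rw [CT.extendByZero_mem H θ hy, CT.extendByZero_mem _ θ₁ ((hmem y).mp hy)]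
      exact (hθ ⟨y, hy⟩).symm
    · rw [CT.extendByZero_not_mem H θ hy, CT.extendByZero_not_mem _ θ₁ (mt (hmem y).mpr hy)]
  have hcard : Nat.card H = Nat.card A * Nat.card (H.map (QuotientGroup.mk' A)) := by
    have h := OddChar.sum_quotient_mk A (fun q => if q ∈ H.map (QuotientGroup.mk' A) then 1 else 0 : G ⧸ A → ℕ)
    simp only [Finset.sum_boole, smul_eq_mul, Nat.cast_id] at h
    rw [Nat.card_eq_fintype_card (α := H), Nat.card_eq_fintype_card (α := H.map (QuotientGroup.mk' A)),
      Fintype.card_subtype, Fintype.card_subtype]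
    rw [← h]
    exact congrArg Finset.card (Finset.filter_congr fun y _ => hmem y)
  have h := OddChar.sum_quotient_mk A
    (fun q => Cfsg.extendByZero (H.map (QuotientGroup.mk' A)) θ₁ (q⁻¹ * QuotientGroup.mk' A g * q))
  simp only [Cfsg.indFun, hext, map_mul, map_inv]
  rw [show (fun x : G => Cfsg.extendByZero (H.map (QuotientGroup.mk' A)) θ₁
      ((QuotientGroup.mk' A x)⁻¹ * QuotientGroup.mk' A g * QuotientGroup.mk' A x)) =
      fun x : G => Cfsg.extendByZero (H.map (QuotientGroup.mk' A)) θ₁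
      ((QuotientGroup.mk x : G ⧸ A)⁻¹ * QuotientGroup.mk' A g * (QuotientGroup.mk x : G ⧸ A)) from rfl,
    h, hcard, nsmul_eq_mul]
  push_cast
  have hA : (Nat.card A : ℂ) ≠ 0 := Nat.cast_ne_zero.mpr Nat.card_pos.ne'
  field_simp

end Cfsg.Agent.S1488
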