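import Cfsg.Statements.S1489
import Cfsg.Agent.Lib.OddChar.CliffordExtra

set_option autoImplicit false
open Cfsg

namespace Cfsg.Agent.S1489

/-- Let H be a normal subgroup of the finite group G, θ an irreducible character of H, and T the inertia group of θ (the elements g with θ(g h g⁻¹) = θ(h) for all h ∈ H). If ψ and ψ' are irreducible characters of T having nonzero inner product with the function induced from θ to T, then the function induced from ψ to G is an irreducible character of G, and it equals the one induced from ψ' only if ψ = ψ'. -/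
theorem result {G : Type*} [Group G] [Fintype G] (H T : Subgroup G) [hN : H.Normal] [Fintype T] (θ : H → ℂ) (hθ : Cfsg.IsIrrCharacter H θ) (hT : ∀ g : G, g ∈ T ↔ ∀ h : H, θ ⟨g * h * g⁻¹, hN.conj_mem h h.2 g⟩ = θ h) (hHT : H ≤ T) (ψ ψ' : T → ℂ) (hψ : Cfsg.IsIrrCharacter T ψ) (hψ' : Cfsg.IsIrrCharacter T ψ') (hc : Cfsg.classInner (Cfsg.indFun (H.subgroupOf T) (fun x => θ ⟨(x : T), Subgroup.mem_subgroupOf.mp x.2⟩)) ψ ≠ 0) (hc' : Cfsg.classInner (Cfsg.indFun (H.subgroupOf T) (fun x => θ ⟨(x : T), Subgroup.mem_subgroupOf.mp x.2⟩)) ψ' ≠ 0) : Cfsg.IsIrrCharacter G (Cfsg.indFun T ψ) ∧ (Cfsg.indFun T ψ = Cfsg.indFun T ψ' → ψ = ψ') := by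
  classical
  haveI := Fintype.ofFinite H
  haveI := Fintype.ofFinite (H.subgroupOf T)
  have hTi : T = CT.inertia H θ := by
    ext g
    rw [hT g, CT.mem_inertia_iff]
  let e : H.subgroupOf T ≃* H := Subgroup.subgroupOfEquivOfLe hHT
  have hover : ∀ η : T → ℂ, Cfsg.IsIrrCharacter T η →
      Cfsg.classInner (Cfsg.indFun (H.subgroupOf T)
        (fun x => θ ⟨(x : T), Subgroup.mem_subgroupOf.mp x.2⟩)) η ≠ 0 →
      Cfsg.classInner (CT.resTo H T hHT η) θ ≠ 0 := by
    intro η hη hne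
    rw [CT.frobenius_reciprocity _ _ (CT.isClassFunction_of_isIrr hη)] at hne
    rw [CT.classInner_comm_of_char (CT.isCharacter_resTo H T hHT (CT.isCharacter_of_isIrr hη))
      (CT.isCharacter_of_isIrr hθ)]
    intro h0
    apply hne
    rw [← h0, Cfsg.classInner, Cfsg.classInner, Nat.card_congr e.toEquiv]
    congr 1
    exact Fintype.sum_equiv e.toEquiv _ _ fun m => rfl
  have h1 := hover ψ hψ hc
  have h2 := hover ψ' hψ' hc'
  have hirr := CT.isIrr_indFun_of_over H hθ T hTi hHT hψ h1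
  refine ⟨hirr, fun heq => ?_⟩
  by_contra hne
  obtain ⟨χ, hχdef⟩ : ∃ χ, χ = Cfsg.indFun T ψ := ⟨_, rfl⟩
  have hχ : Cfsg.IsIrrCharacter G χ := hχdef ▸ hirr
  have hcχ := CT.isCharacter_of_isIrr hχ
  have hm : ∀ η : T → ℂ, Cfsg.IsIrrCharacter T η → Cfsg.indFun T η = χ →
      CT.mult (fun t : T => χ t) η = 1 := by
    intro η hη hηχ
    have h := CT.mult_spec (CT.isCharacter_restrict T hcχ) (CT.isCharacter_of_isIrr hη)
    rw [← CT.frobenius_reciprocity' T (CT.isClassFunction_of_isIrr hχ), hηχ, CT.irr_inner_self hχ] at h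
    exact_mod_cast h.symm
  have hmψ := hm ψ hψ hχdef.symm
  have hmψ' := hm ψ' hψ' (heq.symm.trans hχdef.symm)
  have hsum := CT.sum_mult_over H hθ T hHT hcχ
  have hpair : CT.mult (CT.resTo H T hHT ψ) θ + CT.mult (CT.resTo H T hHT ψ') θ ≤
      CT.mult (fun n : H => χ n) θ := by
    rw [hsum]
    refine le_trans (le_of_eq ?_) (Finset.sum_le_sum_of_subset_of_nonneg
      (f := fun c : Cfsg.IrrCharacter T => CT.mult (fun t : T => χ t) c * CT.mult (CT.resTo H T hHT c) θ)
      (Finset.subset_univ {⟨ψ, hψ⟩, ⟨ψ', hψ'⟩}) (fun _ _ _ => Nat.zero_le _))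
    rw [Finset.sum_pair (fun h => hne (congrArg Subtype.val h)), hmψ, hmψ', one_mul, one_mul]
  have hpos : 0 < CT.mult (CT.resTo H T hHT ψ') θ := Nat.pos_of_ne_zero fun h => h2 (by
    rw [CT.mult_spec (CT.isCharacter_resTo H T hHT (CT.isCharacter_of_isIrr hψ'))
      (CT.isCharacter_of_isIrr hθ), h, Nat.cast_zero])
  have hcon : Cfsg.classInner (fun n : H => χ n) θ ≠ 0 := by
    rw [CT.mult_spec (CT.isCharacter_restrict H hcχ) (CT.isCharacter_of_isIrr hθ), Nat.cast_ne_zero]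
    omega
  have hd1 := CT.clifford_mult H hχ hθ hcon
  rw [← hTi] at hd1
  have hd2 : CT.deg χ = T.index * (CT.mult (CT.resTo H T hHT ψ) θ * CT.deg θ) := by
    rw [← CT.deg_eq_of_over H hθ T hTi hHT hψ h1]
    have h := CT.deg_eq hcχ
    rw [hχdef, CT.indFun_one_eval, CT.deg_eq (CT.isCharacter_of_isIrr hψ), ← hχdef] at h
    exact_mod_cast h.symm
  have hpos2 : 0 < T.index * CT.deg θ :=
    Nat.mul_pos (Nat.pos_of_ne_zero Subgroup.index_ne_zero_of_finite) (CT.deg_pos hθ)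
  nlinarith

end Cfsg.Agent.S1489
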