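import Cfsg.Statements.S1492
import Cfsg.Agent.Lib.OddChar.CliffordExtra

set_option autoImplicit false
open Cfsg

namespace Cfsg.Agent.S1492

/-- Let ψ be an irreducible character of the finite group G and B ≤ D ≤ C subgroups with B normal in C, every commutator of an element of D with an element of C lying in B (so D/B is central in C/B), and ψ constant equal to ψ 1 on B. Then ψ(1) ^ 2 * |C| * |D| ≤ |G| ^ 2. -/
theorem result {G : Type*} [Group G] [Finite G] (ψ : G → ℂ) (hψ : Cfsg.IsIrrCharacter G ψ) (B C D : Subgroup G) (hBD : B ≤ D) (hDC : D ≤ C) (hBn : ∀ c ∈ C, ∀ b ∈ B, c * b * c⁻¹ ∈ B) (hcent : ∀ d ∈ D, ∀ c ∈ C, d * c * d⁻¹ * c⁻¹ ∈ B) (hker : ∀ b ∈ B, ψ b = ψ 1) : ‖ψ 1‖ ^ 2 * (Nat.card C : ℝ) * (Nat.card D : ℝ) ≤ (Nat.card G : ℝ) ^ 2 := by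
  classical
  haveI := Fintype.ofFinite G
  obtain ⟨η, hη⟩ := CT.exists_constituent_restrict C hψ
  have hηc := CT.isCharacter_of_isIrr η.2
  have hψc := CT.isCharacter_of_isIrr hψ
  have hres := CT.isCharacter_restrict C hψc
  have hd : CT.deg ψ ≤ C.index * CT.deg (η : C → ℂ) := by
    have hi := CT.isCharacter_indFun C hηc
    have hnz : Cfsg.classInner (Cfsg.indFun C (η : C → ℂ)) ψ ≠ 0 := by
      rw [CT.frobenius_reciprocity C _ (CT.isClassFunction_of_isIrr hψ),
        CT.classInner_comm_of_char hηc hres]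
      exact hη
    have hdi : CT.deg (Cfsg.indFun C (η : C → ℂ)) = C.index * CT.deg (η : C → ℂ) := by
      have h := CT.deg_eq hi
      rw [CT.indFun_one_eval, CT.deg_eq hηc] at h
      exact_mod_cast h.symm
    rw [← hdi]
    refine le_trans ?_ (CT.constituent_deg_le hi ⟨ψ, hψ⟩)
    refine Nat.le_mul_of_pos_left _ (Nat.pos_of_ne_zero fun h => hnz ?_)
    rw [CT.mult_spec hi hψc, h, Nat.cast_zero]
  -- `η` takes the value `η 1` on `B`
  have hηB : ∀ b : C, (b : G) ∈ B → (η : C → ℂ) b = (η : C → ℂ) 1 := by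
    intro b hb
    have hsum := CT.character_eq_sum hres
    have e1 := congrArg Complex.re (congrFun hsum b)
    have e2 := congrArg Complex.re (congrFun hsum 1)
    simp only [Finset.sum_apply, Pi.smul_apply, smul_eq_mul, Complex.re_sum] at e1 e2
    have hb' : ψ (b : G) = ψ ((1 : C) : G) := hker _ hb
    rw [hb'] at e1
    rw [e1] at e2
    have hle : ∀ ξ : Cfsg.IrrCharacter C, ((CT.mult (fun h : C => ψ h) ξ : ℂ) * (ξ : C → ℂ) b).re ≤
        ((CT.mult (fun h : C => ψ h) ξ : ℂ) * (ξ : C → ℂ) 1).re := by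
      intro ξ
      rw [Complex.mul_re, Complex.mul_re]
      simp only [Complex.natCast_re, Complex.natCast_im, zero_mul, sub_zero]
      exact mul_le_mul_of_nonneg_left ((Complex.re_le_norm _).trans
        (CT.norm_isCharacter_le (CT.isCharacter_of_isIrr ξ.2) b)) (Nat.cast_nonneg _)
    have e3 := (Finset.sum_eq_sum_iff_of_le fun ξ _ => hle ξ).mp e2 η (Finset.mem_univ _)
    simp only [Complex.mul_re, Complex.natCast_re, Complex.natCast_im, zero_mul, sub_zero] at e3
    have hm : (CT.mult (fun h : C => ψ h) (η : C → ℂ) : ℝ) ≠ 0 := by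
      intro h
      apply hη
      rw [CT.mult_spec hres hηc, show CT.mult (fun h : C => ψ h) (η : C → ℂ) = 0 by exact_mod_cast h,
        Nat.cast_zero]
    have e4 := mul_left_cancel₀ hm e3
    have h1 := CT.norm_isCharacter_le hηc b
    have him : ((η : C → ℂ) b).im = 0 := by
      have h2 : ‖(η : C → ℂ) b‖ ^ 2 ≤ ((η : C → ℂ) b).re ^ 2 := by
        have := norm_nonneg ((η : C → ℂ) b)
        rw [e4]
        nlinarith
      rw [← Complex.normSq_eq_norm_sq, Complex.normSq_apply] at h2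
      nlinarith
    refine Complex.ext e4 ?_
    rw [him, CT.deg_eq hηc]
    simp
  -- `D` acts by scalars
  obtain ⟨n, ρ, hρ, hρη⟩ := η.2
  have hnorm : ∀ d : C, (d : G) ∈ D → ‖(η : C → ℂ) d‖ = CT.deg (η : C → ℂ) := by
    intro d hd
    haveI := hρ
    have hcomm : ∀ c : C, Commute (ρ d) (ρ c) := by
      intro c
      have h1 : ρ (d * c * d⁻¹ * c⁻¹) = 1 := by
        refine (CT.rep_eq_one_iff ρ _).mpr ?_
        rw [hρη]
        refine hηB _ ?_
        simpa using hcent _ hd _ c.2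
      show ρ d * ρ c = ρ c * ρ d
      rw [← map_mul, ← map_mul, show d * c = d * c * d⁻¹ * c⁻¹ * (c * d) by group, map_mul, h1, one_mul]
    have hs := CT.eq_scalar_of_commute ρ (ρ d) fun c => hcomm c
    obtain ⟨w, hw⟩ : ∃ w : ℂ, ρ d = w • LinearMap.id := ⟨_, hs⟩
    haveI := ((CT.isIrreducible_iff ρ).mp hρ).1
    obtain ⟨v, hv⟩ := exists_ne (0 : Fin n → ℂ)
    have hw1 : ‖w‖ = 1 := by
      have h1 : (ρ d) ^ orderOf d = 1 := by rw [← map_pow, pow_orderOf_eq_one, map_one]
      have h2 : w ^ orderOf d = 1 := by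
        rw [hw, smul_pow, show (LinearMap.id : Module.End ℂ (Fin n → ℂ)) = 1 from rfl, one_pow] at h1
        have := congrArg (fun T : Module.End ℂ (Fin n → ℂ) => T v) h1
        simp only [LinearMap.smul_apply, Module.End.one_apply] at this
        by_contra hne
        exact hv ((smul_eq_zero.mp (show (w ^ orderOf d - 1) • v = 0 by
          rw [sub_smul, one_smul, this, sub_self])).resolve_left (sub_ne_zero.mpr hne))
      exact Complex.norm_eq_one_of_pow_eq_one h2 (orderOf_pos d).ne'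
    have hval : (η : C → ℂ) d = w * (η : C → ℂ) 1 := by
      rw [← hρη]
      simp [Representation.character, hw]
    rw [hval, norm_mul, hw1, one_mul, CT.deg_eq hηc, Complex.norm_natCast]
  -- sum of squares
  have hsq : (CT.deg (η : C → ℂ) : ℝ) ^ 2 * Nat.card D ≤ Nat.card C := by
    have h1 : ∑ c : C, ‖(η : C → ℂ) c‖ ^ 2 = (Nat.card C : ℝ) := by
      have h := CT.irr_inner_self η.2
      rw [Cfsg.classInner, inv_mul_eq_one₀ CT.card_ne_zero] at h
      have h' := congrArg Complex.re h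
      rw [Complex.re_sum, Complex.natCast_re] at h'
      rw [h']
      refine Finset.sum_congr rfl fun c _ => ?_
      rw [Complex.mul_conj, Complex.ofReal_re, Complex.normSq_eq_norm_sq]
    rw [← h1]
    refine le_trans (le_of_eq ?_) (Finset.sum_le_sum_of_subset_of_nonneg
      (Finset.subset_univ (Finset.univ.filter fun c : C => (c : G) ∈ D)) fun c _ _ => sq_nonneg _)
    rw [Finset.sum_congr rfl fun c hc => by rw [hnorm c (Finset.mem_filter.mp hc).2], Finset.sum_const,
      nsmul_eq_mul, mul_comm]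
    congr 1
    rw [← Fintype.card_subtype, ← Nat.card_eq_fintype_card]
    norm_cast
    exact Nat.card_congr
      { toFun := fun d => ⟨⟨d, hDC d.2⟩, d.2⟩
        invFun := fun c => ⟨(c.1 : G), c.2⟩
        left_inv := fun d => rfl
        right_inv := fun c => rfl }
  rw [CT.deg_eq hψc, Complex.norm_natCast, ← C.index_mul_card]
  push_cast
  have hd' : (CT.deg ψ : ℝ) ≤ (C.index : ℝ) * CT.deg (η : C → ℂ) := by exact_mod_cast hd
  have h0 : (0 : ℝ) ≤ CT.deg ψ := Nat.cast_nonneg _
  calc (CT.deg ψ : ℝ) ^ 2 * Nat.card C * Nat.card D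
      ≤ ((C.index : ℝ) * CT.deg (η : C → ℂ)) ^ 2 * Nat.card C * Nat.card D := by gcongr
    _ = (C.index : ℝ) ^ 2 * Nat.card C * ((CT.deg (η : C → ℂ) : ℝ) ^ 2 * Nat.card D) := by ring
    _ ≤ (C.index : ℝ) ^ 2 * Nat.card C * Nat.card C := by gcongr
    _ = ((C.index : ℝ) * Nat.card C) ^ 2 := by ring

end Cfsg.Agent.S1492
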