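import Cfsg.Statements.S1494
import Cfsg.Agent.Lib.CT.Kernel
import Cfsg.Agent.Lib.CT.Integral

set_option autoImplicit false
open Cfsg

namespace Cfsg.Agent.S1494

/-- Let χ be a generalized character of the finite group G, p a prime, x an element of order p and y an element commuting with x. Then χ(x * y) − χ(y) = (1 − ε) * ω for some algebraic integer ω, where ε = exp(2πi/p). -/
theorem result {G : Type*} [Group G] [Finite G] (χ : G → ℂ) (hχ : Cfsg.IsGeneralizedCharacter G χ) (p : ℕ) (hp : p.Prime) (x y : G) (hx : orderOf x = p) (hxy : x * y = y * x) : ∃ ω : ℂ, IsIntegral ℤ ω ∧ χ (x * y) - χ y = (1 - Complex.exp (2 * Real.pi * Complex.I / p)) * ω := by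
  classical
  obtain ⟨ε, hε⟩ : ∃ ε : ℂ, ε = Complex.exp (2 * Real.pi * Complex.I / p) := ⟨_, rfl⟩
  rw [← hε]
  have hprim : IsPrimitiveRoot ε p := hε ▸ Complex.isPrimitiveRoot_exp p hp.ne_zero
  haveI : NeZero p := ⟨hp.ne_zero⟩
  let A : Subgroup G := Subgroup.closure {x, y}
  haveI : IsMulCommutative A := Subgroup.isMulCommutative_closure (fun u hu v hv => by
    rcases hu with rfl | rfl <;> rcases hv with rfl | rfl <;>
      first | rfl | exact hxy | exact hxy.symm)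
  haveI := Fintype.ofFinite A
  obtain ⟨X, hX⟩ : ∃ X : A, X = ⟨x, Subgroup.subset_closure (by simp)⟩ := ⟨_, rfl⟩
  obtain ⟨Y, hY⟩ : ∃ Y : A, Y = ⟨y, Subgroup.subset_closure (by simp)⟩ := ⟨_, rfl⟩
  have hgen : ∀ θ : A → ℂ, Cfsg.IsCharacter A θ →
      ∃ ω : ℂ, IsIntegral ℤ ω ∧ θ (X * Y) - θ Y = (1 - ε) * ω := by
    intro θ hθ
    have hsum := CT.character_eq_sum hθ
    have h1 : ∀ c : Cfsg.IrrCharacter A, ∃ ω : ℂ, IsIntegral ℤ ω ∧
        (c : A → ℂ) (X * Y) - (c : A → ℂ) Y = (1 - ε) * ω := by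
      intro c
      obtain ⟨lam, hlam⟩ := CT.exists_hom_of_comm (fun u v => IsMulCommutative.is_comm.comm u v) c.2
      have hXp : X ^ p = 1 := Subtype.ext (by rw [hX]; show x ^ p = 1; rw [← hx, pow_orderOf_eq_one])
      obtain ⟨i, -, hi⟩ := (hprim.eq_pow_of_pow_eq_one (ξ := (lam X : ℂ)) (by
        rw [← Units.val_pow_eq_pow_val, ← map_pow, hXp, map_one, Units.val_one]))
      refine ⟨-((lam Y : ℂ) * ∑ l ∈ Finset.range i, ε ^ l), ?_, ?_⟩
      · refine (IsIntegral.mul ?_ (IsIntegral.sum _ fun l _ => (IsIntegral.of_pow hp.pos (hprim.pow_eq_one ▸ isIntegral_one) : IsIntegral ℤ ε).pow l)).neg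
        have hYn : (lam Y : ℂ) ^ orderOf Y = 1 := by
          rw [← Units.val_pow_eq_pow_val, ← map_pow, pow_orderOf_eq_one, map_one, Units.val_one]
        exact IsIntegral.of_pow (orderOf_pos Y) (hYn ▸ isIntegral_one)
      · simp only [hlam, map_mul, Units.val_mul, ← hi]
        linear_combination (-(lam Y : ℂ)) * geom_sum_mul ε i
    choose ω hω1 hω2 using h1
    refine ⟨∑ c : Cfsg.IrrCharacter A, (CT.mult θ (c : A → ℂ) : ℂ) * ω c,
      IsIntegral.sum _ fun c _ => (CT.isIntegral_natCast _).mul (hω1 c), ?_⟩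
    have e1 := congrFun hsum (X * Y)
    have e2 := congrFun hsum Y
    simp only [Finset.sum_apply, Pi.smul_apply, smul_eq_mul] at e1 e2
    rw [e1, e2, ← Finset.sum_sub_distrib, Finset.mul_sum]
    exact Finset.sum_congr rfl fun c _ => by rw [← mul_sub, hω2]; ring
  obtain ⟨χ₁, χ₂, h1, h2, rfl⟩ := hχ
  obtain ⟨ω₁, i₁, e₁⟩ := hgen _ (CT.isCharacter_restrict A h1)
  obtain ⟨ω₂, i₂, e₂⟩ := hgen _ (CT.isCharacter_restrict A h2)
  subst hX hY
  refine ⟨ω₁ - ω₂, i₁.sub i₂, ?_⟩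
  simp only [Subgroup.coe_mul] at e₁ e₂
  simp only [Pi.sub_apply]
  linear_combination e₁ - e₂

end Cfsg.Agent.S1494
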