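import Cfsg.Statements.S1495
import Cfsg.Agent.Lib.OddChar.Powers

set_option autoImplicit false
open Cfsg

namespace Cfsg.Agent.S1495

/-- Let p be a prime, ε = exp(2πi/p), and n an integer such that n = (1 − ε) * ω for some algebraic integer ω. Then p divides n. -/
theorem result (p : ℕ) (hp : p.Prime) (n : ℤ) (ω : ℂ) (hω : IsIntegral ℤ ω) (h : (n : ℂ) = (1 - Complex.exp (2 * Real.pi * Complex.I / p)) * ω) : (p : ℤ) ∣ n := by
  obtain ⟨ε, hε⟩ : ∃ ε : ℂ, ε = Complex.exp (2 * Real.pi * Complex.I / p) := ⟨_, rfl⟩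
  rw [← hε] at h
  have hprim : IsPrimitiveRoot ε p := hε ▸ Complex.isPrimitiveRoot_exp p hp.ne_zero
  have hεi : IsIntegral ℤ ε := hprim.isIntegral hp.pos
  haveI := Fact.mk hp
  obtain ⟨e, he⟩ : ∃ e : integralClosure ℤ ℂ, (e : ℂ) = ε := ⟨⟨ε, hεi⟩, rfl⟩
  have hep : e ^ p = 1 := Subtype.ext (by push_cast; rw [he]; exact hprim.pow_eq_one)
  obtain ⟨r, hr⟩ := exists_add_pow_prime_eq hp (1 - e) e
  rw [sub_add_cancel, one_pow, hep] at hr
  have h1 : ((1 - e) ^ p : integralClosure ℤ ℂ) = -((p : integralClosure ℤ ℂ) * (1 - e) * e * r) := by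
    linear_combination -hr
  have h2 : (1 - ε) ^ p = -((p : ℂ) * (1 - ε) * ε * (r : ℂ)) := by
    have := congrArg (fun t : integralClosure ℤ ℂ => (t : ℂ)) h1
    push_cast at this
    rwa [he] at this
  obtain ⟨s, hs⟩ : ∃ s : ℂ, s = -((1 - ε) * ε * (r : ℂ) * ω ^ p) := ⟨_, rfl⟩
  have hsI : IsIntegral ℤ s := by
    rw [hs]
    exact ((((isIntegral_one.sub hεi).mul hεi).mul r.2).mul (hω.pow p)).neg
  have hns : ((n : ℂ)) ^ p = (p : ℂ) * s := by
    rw [h, mul_pow, h2, hs]; ring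
  have hq : IsIntegral ℤ ((n : ℚ) ^ p / p) := by
    rw [← isIntegral_algebraMap_iff (B := ℂ) (algebraMap ℚ ℂ).injective]
    have hcast : (algebraMap ℚ ℂ) ((n : ℚ) ^ p / p) = s := by
      rw [eq_ratCast]
      push_cast
      rw [hns, mul_div_cancel_left₀]
      exact_mod_cast hp.ne_zero
    rw [hcast]
    exact hsI
  obtain ⟨z, hz⟩ := IsIntegrallyClosed.isIntegral_iff.mp hq
  have hp0 : (p : ℚ) ≠ 0 := by exact_mod_cast hp.ne_zero
  rw [eq_div_iff hp0] at hz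
  have hdvd : (p : ℤ) ∣ n ^ p := ⟨z, by
    have hz' : (z : ℚ) * p = (n : ℚ) ^ p := by simpa using hz
    have : n ^ p = z * p := by exact_mod_cast hz'.symm
    linarith [this]⟩
  exact (Nat.prime_iff_prime_int.mp hp).dvd_of_dvd_pow hdvd

end Cfsg.Agent.S1495
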