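import Cfsg.Statements.S1497
import Cfsg.Agent.Lib.OddChar.Dade

set_option autoImplicit false
open Cfsg

namespace Cfsg.Agent.S1497

/-- Let A be a nonempty subset of the finite group G not containing 1 and L a subgroup. Then A is a TI-subset whose normaliser is L if and only if the Dade hypothesis holds for A, L and the constant choice H(a) = ⊥. -/
theorem result {G : Type*} [Group G] [Finite G] (A : Set G) (hA : A.Nonempty) (h1 : (1 : G) ∉ A) (L : Subgroup G) : (Cfsg.IsTISubset A ∧ Subgroup.normalizer A = L) ↔ Cfsg.DadeHypothesis A L (fun _ => ⊥) := by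
  constructor
  · rintro ⟨hTI, rfl⟩
    have hsub : A ⊆ (Subgroup.normalizer A : Set G) := by
      intro a ha
      by_contra h
      have h0 := hTI a h a ha (by simpa using ha)
      exact h1 (h0 ▸ ha)
    have hcent : ∀ a ∈ A, Subgroup.centralizer ({a} : Set G) ≤ Subgroup.normalizer A := by
      intro a ha g hg
      by_contra h
      have he : g * a * g⁻¹ = a :=
        mul_inv_eq_iff_eq_mul.mpr (Subgroup.mem_centralizer_singleton_iff.mp hg)
      exact h1 (hTI g h a ha (by rw [he]; exact ha) ▸ ha)
    exact
      { one_not_mem := h1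
        subset := hsub
        conj_mem := fun x hx a ha => (hx a).mp ha
        fusion := fun a ha g hg => ⟨g, by
          by_contra h
          exact h1 (hTI g h a ha hg ▸ ha), rfl⟩
        le_centralizer := fun _ _ => bot_le
        conj_mem_H := fun a _ c _ u hu => by
          simp only [Subgroup.mem_bot] at hu ⊢
          simp [hu]
        inf_eq_bot := fun _ _ => bot_inf_eq _
        sup_eq := fun a ha => by simpa using hcent a ha
        coprime := fun _ _ _ _ => by simp }
  · intro hD
    have hle : L ≤ Subgroup.normalizer A := by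
      intro x hx a
      refine ⟨hD.conj_mem x hx a, fun h => ?_⟩
      have := hD.conj_mem x⁻¹ (inv_mem hx) _ h
      simpa [mul_assoc] using this
    have hmem : ∀ g : G, ∀ a ∈ A, g * a * g⁻¹ ∈ A → g ∈ L := by
      intro g a ha hg
      obtain ⟨x, hx, hxe⟩ := hD.fusion a ha g hg
      have hc : x⁻¹ * g ∈ Subgroup.centralizer ({a} : Set G) := by
        rw [Subgroup.mem_centralizer_singleton_iff]
        calc x⁻¹ * g * a = x⁻¹ * (g * a * g⁻¹) * g := by group
          _ = x⁻¹ * (x * a * x⁻¹) * g := by rw [hxe]
          _ = a * (x⁻¹ * g) := by group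
      rw [← hD.sup_eq a ha, bot_sup_eq] at hc
      simpa using mul_mem hx hc.1
    refine ⟨fun g hg a ha hga => absurd (hle (hmem g a ha hga)) hg, le_antisymm ?_ hle⟩
    intro g hg
    obtain ⟨a, ha⟩ := hA
    exact hmem g a ha ((hg a).mp ha)

end Cfsg.Agent.S1497
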