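import Cfsg.Statements.S1505
import Cfsg.Agent.Lib.OddChar.CyclicFamily

set_option autoImplicit false
open Cfsg

namespace Cfsg.Agent.S1505

open Classical in
/-- Let W₁, W₂ ≤ G form a self-normalising cyclic subgroup W = W₁ ⊔ W₂. For nontrivial linear characters φ, φ' of W trivial on W₂ and ψ, ψ' trivial on W₁, put α = (1 − φ)(1 − ψ) and α' = (1 − φ')(1 − ψ'). Then the function induced from α to G has inner product 1 with the principal character, and the inner product of the functions induced from α and α' is 1 + a + b + ab where a = 1 if φ = φ' (else 0) and b = 1 if ψ = ψ' (else 0). -/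
theorem result {G : Type*} [Group G] [Fintype G] (W₁ W₂ : Subgroup G) (hW : Cfsg.IsSelfNormalizingCyclic W₁ W₂) (φ φ' ψ ψ' : ↥(W₁ ⊔ W₂) →* ℂˣ) (hφ : φ ≠ 1) (hφ' : φ' ≠ 1) (hψ : ψ ≠ 1) (hψ' : ψ' ≠ 1) (hφ₂ : ∀ w : ↥(W₁ ⊔ W₂), (w : G) ∈ W₂ → φ w = 1 ∧ φ' w = 1) (hψ₁ : ∀ w : ↥(W₁ ⊔ W₂), (w : G) ∈ W₁ → ψ w = 1 ∧ ψ' w = 1) : Cfsg.classInner (Cfsg.indFun (W₁ ⊔ W₂) (fun w => 1 - (φ w : ℂ) - (ψ w : ℂ) + (φ w : ℂ) * (ψ w : ℂ))) (fun _ => 1) = 1 ∧ Cfsg.classInner (Cfsg.indFun (W₁ ⊔ W₂) (fun w => 1 - (φ w : ℂ) - (ψ w : ℂ) + (φ w : ℂ) * (ψ w : ℂ))) (Cfsg.indFun (W₁ ⊔ W₂) (fun w => 1 - (φ' w : ℂ) - (ψ' w : ℂ) + (φ' w : ℂ) * (ψ' w : ℂ))) = 1 + (if φ = φ' then 1 else 0) + (if ψ = ψ' then 1 else 0) + (if φ = φ' then 1 else 0) * (if ψ = ψ' then 1 else 0) := by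
  classical
  haveI : Fintype ↥(W₁ ⊔ W₂) := Fintype.ofFinite _
  have a1 : OddChar.TrivOn W₂ φ := fun w hw => (hφ₂ w hw).1
  have a2 : OddChar.TrivOn W₂ φ' := fun w hw => (hφ₂ w hw).2
  have b1 : OddChar.TrivOn W₁ ψ := fun w hw => (hψ₁ w hw).1
  have b2 : OddChar.TrivOn W₁ ψ' := fun w hw => (hψ₁ w hw).2
  have o : OddChar.TrivOn W₂ (1 : ↥(W₁ ⊔ W₂) →* ℂˣ) := fun w _ => rfl
  have o' : OddChar.TrivOn W₁ (1 : ↥(W₁ ⊔ W₂) →* ℂˣ) := fun w _ => rfl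
  have inj := @OddChar.scyc_prod_inj G _ W₁ W₂ hW
  constructor
  · rw [show (fun w => 1 - (φ w : ℂ) - (ψ w : ℂ) + (φ w : ℂ) * (ψ w : ℂ)) = OddChar.zetaFun φ ψ from rfl,
      CT.frobenius_reciprocity _ _ (fun _ _ => rfl), OddChar.zetaFun_eq]
    have e : (fun _ : ↥(W₁ ⊔ W₂) => (1 : ℂ)) = fun w => ((1 : ↥(W₁ ⊔ W₂) →* ℂˣ) w : ℂ) := by
      funext w; simp
    rw [e, CT.classInner_add_left, CT.classInner_sub_left, CT.classInner_sub_left,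
      OddChar.lin_inner, OddChar.lin_inner, OddChar.lin_inner, OddChar.lin_inner,
      if_pos rfl, if_neg hφ, if_neg hψ, if_neg]
    · simp
    · intro h
      exact hφ (inj a1 o b1 o' (by simpa [OddChar.lin_one_mul, OddChar.lin_mul_one] using h)).1
  · rw [show (fun w => 1 - (φ w : ℂ) - (ψ w : ℂ) + (φ w : ℂ) * (ψ w : ℂ)) = OddChar.zetaFun φ ψ from rfl,
      show (fun w => 1 - (φ' w : ℂ) - (ψ' w : ℂ) + (φ' w : ℂ) * (ψ' w : ℂ)) = OddChar.zetaFun φ' ψ' from rfl,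
      OddChar.classInner_ind_suppV (OddChar.suppV_zetaFun a1 b1) (CT.isClassFunction_indFun _ _)
        (fun w hw => OddChar.indFun_on_V hW (OddChar.suppV_zetaFun a2 b2) hw),
      OddChar.zetaFun_eq, OddChar.zetaFun_eq]
    simp only [CT.classInner_add_left, CT.classInner_sub_left, CT.classInner_add_right,
      CT.classInner_sub_right, OddChar.lin_inner]
    have n1 : (1 : ↥(W₁ ⊔ W₂) →* ℂˣ) ≠ φ' * ψ' := fun h =>
      hφ' (inj a2 o b2 o' (by simpa [OddChar.lin_one_mul, OddChar.lin_mul_one] using h.symm)).1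
    have n2 : φ * ψ ≠ 1 := fun h => hφ (inj a1 o b1 o' (by simpa [OddChar.lin_one_mul, OddChar.lin_mul_one] using h)).1
    have n3 : φ ≠ ψ' := fun h => hφ (inj a1 o o' b2 (by simpa [OddChar.lin_one_mul, OddChar.lin_mul_one] using h)).1
    have n4 : ψ ≠ φ' := fun h => hψ (inj o a2 b1 o' (by simpa [OddChar.lin_one_mul, OddChar.lin_mul_one] using h)).2
    have n5 : φ ≠ φ' * ψ' := fun h => hψ' (inj a1 a2 o' b2 (by simpa [OddChar.lin_one_mul, OddChar.lin_mul_one] using h)).2.symm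
    have n6 : ψ ≠ φ' * ψ' := fun h => hφ' (inj o a2 b1 b2 (by simpa [OddChar.lin_one_mul, OddChar.lin_mul_one] using h)).1.symm
    have n7 : φ * ψ ≠ φ' := fun h => hψ (inj a1 a2 b1 o' (by simpa [OddChar.lin_one_mul, OddChar.lin_mul_one] using h)).2
    have n8 : φ * ψ ≠ ψ' := fun h => hφ (inj a1 o b1 b2 (by simpa [OddChar.lin_one_mul, OddChar.lin_mul_one] using h)).1
    have e : (φ * ψ = φ' * ψ') ↔ (φ = φ' ∧ ψ = ψ') :=
      ⟨fun h => inj a1 a2 b1 b2 h, fun h => by rw [h.1, h.2]⟩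
    simp only [if_pos rfl, if_neg hφ, if_neg hψ, if_neg (Ne.symm hφ'), if_neg (Ne.symm hψ'), if_neg n1,
      if_neg n2, if_neg n3, if_neg n4, if_neg n5, if_neg n6, if_neg n7, if_neg n8]
    by_cases h1 : φ = φ' <;> by_cases h2 : ψ = ψ' <;> simp [h1, h2, e]

end Cfsg.Agent.S1505
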