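import Cfsg.Statements.S1504
import Cfsg.Agent.Lib.OddChar.Powers

set_option autoImplicit false
open Cfsg

namespace Cfsg.Agent.S1504

/-- Let W₁, W₂ be subgroups of a finite group with W₁ ⊓ W₂ = ⊥ whose elements commute, and W = W₁ ⊔ W₂. For linear characters φ, ψ of W with φ trivial on W₂ and ψ trivial on W₁, the function (1 − φ)(1 − ψ) vanishes on W₁ ∪ W₂; and the family of these functions, indexed by pairs (φ, ψ) with φ ≠ 1 ≠ ψ, is linearly independent over ℂ. -/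
theorem result {G : Type*} [Group G] [Finite G] (W₁ W₂ : Subgroup G) (hdisj : W₁ ⊓ W₂ = ⊥) (hcomm : ∀ a ∈ W₁, ∀ b ∈ W₂, a * b = b * a) : (∀ φ ψ : ↥(W₁ ⊔ W₂) →* ℂˣ, (∀ w : ↥(W₁ ⊔ W₂), (w : G) ∈ W₂ → φ w = 1) → (∀ w : ↥(W₁ ⊔ W₂), (w : G) ∈ W₁ → ψ w = 1) → ∀ w : ↥(W₁ ⊔ W₂), ((w : G) ∈ W₁ ∨ (w : G) ∈ W₂) → (1 - (φ w : ℂ) - (ψ w : ℂ) + (φ w : ℂ) * (ψ w : ℂ)) = 0) ∧ LinearIndependent ℂ (fun p : {p : (↥(W₁ ⊔ W₂) →* ℂˣ) × (↥(W₁ ⊔ W₂) →* ℂˣ) // p.1 ≠ 1 ∧ p.2 ≠ 1 ∧ (∀ w : ↥(W₁ ⊔ W₂), (w : G) ∈ W₂ → p.1 w = 1) ∧ (∀ w : ↥(W₁ ⊔ W₂), (w : G) ∈ W₁ → p.2 w = 1)} => fun w : ↥(W₁ ⊔ W₂) => 1 - (p.1.1 w : ℂ) - (p.1.2 w : ℂ) + (p.1.1 w : ℂ) * (p.1.2 w : ℂ)) := by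
  classical
  haveI : Fintype ↥(W₁ ⊔ W₂) := Fintype.ofFinite _
  have hextW : ∀ α β : ↥(W₁ ⊔ W₂) →* ℂˣ,
      (∀ w : ↥(W₁ ⊔ W₂), (w : G) ∈ W₁ → α w = β w) →
      (∀ w : ↥(W₁ ⊔ W₂), (w : G) ∈ W₂ → α w = β w) → α = β := by
    intro α β h1 h2
    obtain ⟨E, hE⟩ : ∃ E : Subgroup ↥(W₁ ⊔ W₂), E = MonoidHom.eqLocus α β := ⟨_, rfl⟩
    have hle : W₁ ⊔ W₂ ≤ E.map (W₁ ⊔ W₂).subtype := by
      refine sup_le (fun x hx => ?_) (fun x hx => ?_)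
      · exact ⟨⟨x, Subgroup.mem_sup_left hx⟩, by rw [hE]; exact h1 _ hx, rfl⟩
      · exact ⟨⟨x, Subgroup.mem_sup_right hx⟩, by rw [hE]; exact h2 _ hx, rfl⟩
    ext1 w
    obtain ⟨z, hz, hzw⟩ := hle w.2
    rw [hE] at hz
    rw [← Subtype.ext hzw]
    exact hz
  constructor
  · intro φ ψ hφ hψ w hw
    rcases hw with h | h
    · simp [hψ w h]
    · simp [hφ w h]
  · rw [linearIndependent_iff']
    intro S c hc p hp
    have cancel : ∀ α β : ↥(W₁ ⊔ W₂) →* ℂˣ, α * β⁻¹ = 1 → α = β := fun α β h =>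
      MonoidHom.ext fun w => mul_inv_eq_one.mp (by simpa using DFunLike.congr_fun h w)
    obtain ⟨⟨φ, ψ⟩, hφ1, hψ1, hφ, hψ⟩ := p
    simp only at hφ1 hψ1 hφ hψ
    obtain ⟨χ, hχ⟩ : ∃ χ : ↥(W₁ ⊔ W₂) →* ℂˣ, χ = (φ * ψ)⁻¹ := ⟨_, rfl⟩
    have orth : ∀ α : ↥(W₁ ⊔ W₂) →* ℂˣ, α ≠ 1 → ∑ w, ((α w : ℂˣ) : ℂ) = 0 := by
      intro α hα
      refine sum_hom_units_eq_zero ((Units.coeHom ℂ).comp α) ?_
      intro h
      exact hα (MonoidHom.ext fun w => Units.ext (DFunLike.congr_fun h w))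
    have key : ∀ q : {p : (↥(W₁ ⊔ W₂) →* ℂˣ) × (↥(W₁ ⊔ W₂) →* ℂˣ) // p.1 ≠ 1 ∧ p.2 ≠ 1 ∧
        (∀ w : ↥(W₁ ⊔ W₂), (w : G) ∈ W₂ → p.1 w = 1) ∧ (∀ w : ↥(W₁ ⊔ W₂), (w : G) ∈ W₁ → p.2 w = 1)},
        ∑ w, (1 - (q.1.1 w : ℂ) - (q.1.2 w : ℂ) + (q.1.1 w : ℂ) * (q.1.2 w : ℂ)) * (χ w : ℂ) =
          if q.1 = (φ, ψ) then (Fintype.card ↥(W₁ ⊔ W₂) : ℂ) else 0 := by
      rintro ⟨⟨φ', ψ'⟩, hφ1', hψ1', hφ', hψ'⟩
      simp only at hφ1' hψ1' hφ' hψ'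
      have e : ∀ w, (1 - (φ' w : ℂ) - (ψ' w : ℂ) + (φ' w : ℂ) * (ψ' w : ℂ)) * (χ w : ℂ) =
          ((χ w : ℂˣ) : ℂ) - (((φ' * χ) w : ℂˣ) : ℂ) - (((ψ' * χ) w : ℂˣ) : ℂ) +
            (((φ' * ψ' * χ) w : ℂˣ) : ℂ) := by
        intro w
        simp only [MonoidHom.mul_apply, Units.val_mul]
        ring
      simp only [e, Finset.sum_add_distrib, Finset.sum_sub_distrib]
      have restr : ∀ α : ↥(W₁ ⊔ W₂) →* ℂˣ, α = φ * ψ →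
          (∀ w : ↥(W₁ ⊔ W₂), (w : G) ∈ W₁ → φ w = α w) ∧ (∀ w : ↥(W₁ ⊔ W₂), (w : G) ∈ W₂ → ψ w = α w) := by
        rintro α rfl
        exact ⟨fun w h => by simp [hψ w h], fun w h => by simp [hφ w h]⟩
      have n0 : χ ≠ 1 := by
        intro h
        rw [hχ] at h
        replace h : φ * ψ = 1 := MonoidHom.ext fun w => inv_eq_one.mp (by simpa using DFunLike.congr_fun h w)
        obtain ⟨r1, -⟩ := restr 1 h.symm
        exact hφ1 (hextW _ _ r1 (fun w hw => by simp [hφ w hw]))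
      have n1 : φ' * χ ≠ 1 := by
        intro h
        rw [hχ] at h; replace h := cancel _ _ h
        obtain ⟨-, r2⟩ := restr φ' h
        exact hψ1 (hextW _ _ (fun w hw => by simp [hψ w hw]) (fun w hw => by simp [r2 w hw, hφ' w hw]))
      have n2 : ψ' * χ ≠ 1 := by
        intro h
        rw [hχ] at h; replace h := cancel _ _ h
        obtain ⟨r1, -⟩ := restr ψ' h
        exact hφ1 (hextW _ _ (fun w hw => by simp [r1 w hw, hψ' w hw]) (fun w hw => by simp [hφ w hw]))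
      rw [orth _ n0, orth _ n1, orth _ n2]
      split_ifs with heq
      · cases heq
        simp [hχ]
      · rw [orth]
        · simp
        intro h
        rw [hχ] at h; replace h := cancel _ _ h
        obtain ⟨r1, r2⟩ := restr _ h
        apply heq
        refine Prod.ext (hextW _ _ (fun w hw => ?_) (fun w hw => ?_))
          (hextW _ _ (fun w hw => ?_) (fun w hw => ?_))
        · simpa [hψ' w hw] using (r1 w hw).symm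
        · rw [hφ' w hw, hφ w hw]
        · rw [hψ' w hw, hψ w hw]
        · simpa [hφ' w hw] using (r2 w hw).symm
    have h0 := congrArg (fun f : ↥(W₁ ⊔ W₂) → ℂ => ∑ w, f w * (χ w : ℂ)) hc
    simp only [Finset.sum_apply, Pi.smul_apply, smul_eq_mul, Pi.zero_apply, zero_mul,
      Finset.sum_const_zero, Finset.sum_mul] at h0
    rw [Finset.sum_comm] at h0
    simp only [mul_assoc, ← Finset.mul_sum, key] at h0
    rw [Finset.sum_eq_single ⟨(φ, ψ), hφ1, hψ1, hφ, hψ⟩] at h0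
    · simpa using h0
    · intro b _ hb
      rw [if_neg, mul_zero]
      exact fun h => hb (Subtype.ext h)
    · exact fun h => absurd hp h

end Cfsg.Agent.S1504
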