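import Cfsg.Statements.S1507
import Cfsg.Agent.Lib.OddChar.CyclicFamily

set_option autoImplicit false
open Cfsg

namespace Cfsg.Agent.S1507

open Classical in
/-- Let W₁, W₂ ≤ G form a self-normalising cyclic subgroup W = W₁ ⊔ W₂ of odd order with Nat.card W₁ < Nat.card W₂, and χ an orthonormal family of irreducible characters of G up to sign, indexed by the linear characters ω of W, with χ_1 = 1, χ_ω = ω on W outside W₁ ∪ W₂, and the induction identity for (1 − φ)(1 − ψ). Let θ be a class function of G vanishing on W outside W₁ ∪ W₂, and suppose fewer than 2 · Nat.card W₁ linear characters ω of W have ⟨θ, χ ω⟩ ≠ 0. Then one of: all ⟨θ, χ ω⟩ vanish; or there are ψ₀ and a with ⟨θ, χ ω⟩ = a when ω ψ₀⁻¹ is trivial on W₂ and 0 otherwise; or there are φ₀ and a with ⟨θ, χ ω⟩ = a when ω φ₀⁻¹ is trivial on W₁ and 0 otherwise. -/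
theorem result {G : Type*} [Group G] [Fintype G] (W₁ W₂ : Subgroup G) (hW : Cfsg.IsSelfNormalizingCyclic W₁ W₂) (hodd : Odd (Nat.card ↥(W₁ ⊔ W₂))) (χ : (↥(W₁ ⊔ W₂) →* ℂˣ) → (G → ℂ)) (hχ : Cfsg.IsCyclicTIFamily W₁ W₂ χ) (hlt : Nat.card W₁ < Nat.card W₂) (θ : G → ℂ) (hθ : Cfsg.IsClassFunction G θ) (hθV : ∀ w : ↥(W₁ ⊔ W₂), (w : G) ∉ W₁ → (w : G) ∉ W₂ → θ w = 0) (hfew : Nat.card {ω : ↥(W₁ ⊔ W₂) →* ℂˣ // Cfsg.classInner θ (χ ω) ≠ 0} < 2 * Nat.card W₁) : (∀ ω, Cfsg.classInner θ (χ ω) = 0) ∨ (∃ (ψ₀ : ↥(W₁ ⊔ W₂) →* ℂˣ) (a : ℂ), ∀ ω, Cfsg.classInner θ (χ ω) = if (∀ w : ↥(W₁ ⊔ W₂), (w : G) ∈ W₂ → (ω * ψ₀⁻¹) w = 1) then a else 0) ∨ (∃ (φ₀ : ↥(W₁ ⊔ W₂) →* ℂˣ) (a : ℂ), ∀ ω, Cfsg.classInner θ (χ ω) = if (∀ w : ↥(W₁ ⊔ W₂), (w : G) ∈ W₁ → (ω * φ₀⁻¹) w = 1) then a else 0) := by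
  classical
  haveI := OddChar.scyc_finite_dual (W₁ := W₁) (W₂ := W₂)
  haveI : Fintype (↥(W₁ ⊔ W₂) →* ℂˣ) := Fintype.ofFinite _
  haveI : Fintype ↥(W₁ ⊔ W₂) := Fintype.ofFinite _
  let P₁ := {φ : ↥(W₁ ⊔ W₂) →* ℂˣ // OddChar.TrivOn W₂ φ}
  let P₂ := {ψ : ↥(W₁ ⊔ W₂) →* ℂˣ // OddChar.TrivOn W₁ ψ}
  have hbij : Function.Bijective (fun p : P₁ × P₂ => p.1.1 * p.2.1) := by
    constructor
    · rintro ⟨⟨a, ha⟩, ⟨b, hb⟩⟩ ⟨⟨a', ha'⟩, ⟨b', hb'⟩⟩ h
      obtain ⟨rfl, rfl⟩ := OddChar.scyc_prod_inj hW ha ha' hb hb' h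
      rfl
    · intro ω
      obtain ⟨φ, ψ, hφ, hψ, rfl⟩ := OddChar.scyc_hom_decomp hW ω
      exact ⟨(⟨φ, hφ⟩, ⟨ψ, hψ⟩), rfl⟩
  have hcard : ∀ (K K' : Subgroup G), K ≤ W₁ ⊔ W₂ → (∀ w : ↥(W₁ ⊔ W₂),
      ∃ a b : ↥(W₁ ⊔ W₂), (a : G) ∈ K ∧ (b : G) ∈ K' ∧ w = a * b) →
      Nat.card {φ : ↥(W₁ ⊔ W₂) →* ℂˣ // OddChar.TrivOn K' φ} ≤ Nat.card K := by
    intro K K' hK hdec
    haveI := hW.2.2.2.2.1
    haveI : IsCyclic K := isCyclic_of_injective (Subgroup.inclusion hK) (Subgroup.inclusion_injective hK)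
    let : CommGroup K := IsCyclic.commGroup
    haveI : NeZero (Monoid.exponent K : ℂ) :=
      ⟨by exact_mod_cast Monoid.exponent_ne_zero_of_finite⟩
    haveI : Finite (↥K →* ℂˣ) :=
      Finite.of_equiv K (CommGroup.monoidHom_mulEquiv_of_hasEnoughRootsOfUnity K ℂ).some.symm.toEquiv
    rw [← CommGroup.card_monoidHom_of_hasEnoughRootsOfUnity K ℂ]
    refine Nat.card_le_card_of_injective
      (fun φ => φ.1.comp (Subgroup.inclusion hK)) fun φ φ' h => ?_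
    refine Subtype.ext (MonoidHom.ext fun w => ?_)
    obtain ⟨a, b, ha, hb, rfl⟩ := hdec w
    rw [map_mul, map_mul, φ.2 b hb, φ'.2 b hb]
    have := DFunLike.congr_fun h ⟨a, ha⟩
    simp only [mul_one]; exact this
  have hW12 : Nat.card ↥(W₁ ⊔ W₂) = Nat.card W₁ * Nat.card W₂ := by
    rw [← Nat.card_prod]
    refine (Nat.card_congr (Equiv.ofBijective (fun p : W₁ × W₂ => (⟨(p.1 : G) * p.2,
      mul_mem (Subgroup.mem_sup_left p.1.2) (Subgroup.mem_sup_right p.2.2)⟩ : ↥(W₁ ⊔ W₂))) ⟨?_, ?_⟩)).symm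
    · intro p q h
      obtain ⟨e1, e2⟩ := OddChar.scyc_decomp_unique hW p.1.2 p.2.2 q.1.2 q.2.2 (congrArg Subtype.val h)
      exact Prod.ext (Subtype.ext e1) (Subtype.ext e2)
    · intro w
      obtain ⟨a, b, ha, hb, rfl⟩ := OddChar.scyc_decomp hW w
      exact ⟨(⟨a, ha⟩, ⟨b, hb⟩), rfl⟩
  have hprod : Nat.card P₁ * Nat.card P₂ = Nat.card W₁ * Nat.card W₂ := by
    rw [← Nat.card_prod, Nat.card_congr (Equiv.ofBijective _ hbij), OddChar.scyc_card_dual hW, hW12]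
  have hle1 : Nat.card P₁ ≤ Nat.card W₁ :=
    hcard W₁ W₂ le_sup_left (OddChar.scyc_decomp hW)
  have hle2 : Nat.card P₂ ≤ Nat.card W₂ :=
    hcard W₂ W₁ le_sup_right (fun w => by
      obtain ⟨a, b, ha, hb, hab⟩ := OddChar.scyc_decomp hW w
      exact ⟨b, a, hb, ha, hab.trans (OddChar.scyc_commute hW a b)⟩)
  have hp1 : Nat.card P₁ = Nat.card W₁ := by
    have h1 : Nat.card W₁ * Nat.card W₂ ≤ Nat.card P₁ * Nat.card W₂ :=
      hprod ▸ Nat.mul_le_mul_left _ hle2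
    exact le_antisymm hle1 (Nat.le_of_mul_le_mul_right h1 Nat.card_pos)
  have hp2 : Nat.card P₂ = Nat.card W₂ := by
    rw [hp1] at hprod
    exact Nat.eq_of_mul_eq_mul_left Nat.card_pos hprod
  obtain ⟨u, hu⟩ : ∃ u : (↥(W₁ ⊔ W₂) →* ℂˣ) → ℂ, u = fun ω => Cfsg.classInner θ (χ ω) := ⟨_, rfl⟩
  have hadd : ∀ (φ : P₁) (ψ : P₂), u (φ.1 * ψ.1) = u φ.1 + u ψ.1 - u 1 := fun φ ψ => by
    subst hu
    exact OddChar.family_coeff_add hW hχ hθ (fun w hw => hθV w hw.2.1 hw.2.2) φ.2 ψ.2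
  have hcount : Fintype.card {p : P₁ × P₂ // u (p.1.1 * p.2.1) ≠ 0} < 2 * Nat.card W₁ := by
    refine lt_of_eq_of_lt ?_ hfew
    rw [← Nat.card_eq_fintype_card]
    refine Nat.card_congr (Equiv.subtypeEquiv (Equiv.ofBijective _ hbij) fun p => ?_)
    subst hu
    rfl
  let nz : P₁ → Finset P₂ := fun φ => Finset.univ.filter fun ψ => u (φ.1 * ψ.1) ≠ 0
  have hsum : ∑ φ : P₁, (nz φ).card < 2 * Nat.card W₁ := by
    refine lt_of_eq_of_lt ?_ hcount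
    rw [Fintype.card_subtype, ← Finset.card_sigma]
    exact Finset.card_equiv (Equiv.sigmaEquivProd P₁ P₂) (fun x => by simp [nz])
  obtain ⟨i₀, hi₀⟩ : ∃ i₀ : P₁, (nz i₀).card ≤ 1 := by
    by_contra h
    push Not at h
    have := Finset.sum_le_sum (s := (Finset.univ : Finset P₁)) (f := fun _ => 2)
      (g := fun φ => (nz φ).card) (fun φ _ => h φ)
    simp only [Finset.sum_const, Finset.card_univ, ← Nat.card_eq_fintype_card, smul_eq_mul, hp1] at this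
    omega
  have hd : ∀ (φ : P₁) (ψ : P₂), u (φ.1 * ψ.1) = (u φ.1 - u i₀.1) + u (i₀.1 * ψ.1) := fun φ ψ => by
    rw [hadd, hadd]; ring
  have hw2 : Nat.card W₁ + 2 ≤ Nat.card W₂ := by
    rw [hW12] at hodd
    obtain ⟨o1, o2⟩ := Nat.odd_mul.mp hodd
    obtain ⟨x, hx⟩ := o1
    obtain ⟨y, hy⟩ := o2
    omega
  have hP2 : Fintype.card P₂ = Nat.card W₂ := by rw [← hp2, Nat.card_eq_fintype_card]
  rcases Nat.le_one_iff_eq_zero_or_eq_one.mp hi₀ with h0 | h1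
  · have hz : ∀ ψ : P₂, u (i₀.1 * ψ.1) = 0 := by
      intro ψ
      have : ψ ∉ nz i₀ := by rw [Finset.card_eq_zero.mp h0]; exact Finset.notMem_empty ψ
      simpa [nz] using this
    have hk : ∀ φ φ' : P₁, u φ.1 - u i₀.1 ≠ 0 → u φ'.1 - u i₀.1 ≠ 0 → φ = φ' := by
      intro φ φ' h h'
      by_contra hne
      have := Finset.sum_le_sum_of_subset (f := fun a => (nz a).card)
        (Finset.subset_univ ({φ, φ'} : Finset P₁))
      rw [Finset.sum_pair hne] at this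
      have e : ∀ a : P₁, u a.1 - u i₀.1 ≠ 0 → (nz a).card = Nat.card W₂ := by
        intro a ha
        rw [← hP2, ← Finset.card_univ]
        congr 1
        exact Finset.filter_eq_self.mpr fun ψ _ => by rw [hd, hz, add_zero]; exact ha
      rw [e φ h, e φ' h'] at this
      omega
    by_cases hex : ∃ φ : P₁, u φ.1 - u i₀.1 ≠ 0
    · obtain ⟨φ, hφ⟩ := hex
      refine Or.inr (Or.inr ⟨φ.1, u φ.1 - u i₀.1, fun ω => ?_⟩)
      obtain ⟨⟨a, b⟩, rfl⟩ := hbij.2 ω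
      have e1 : Cfsg.classInner θ (χ (a.1 * b.1)) = u a.1 - u i₀.1 := by
        rw [show Cfsg.classInner θ (χ (a.1 * b.1)) = u (a.1 * b.1) by rw [hu], hd, hz, add_zero]
      have e2 : (∀ w : ↥(W₁ ⊔ W₂), (w : G) ∈ W₁ → (a.1 * b.1 * φ.1⁻¹) w = 1) ↔ a = φ := by
        constructor
        · intro h
          refine Subtype.ext (OddChar.scyc_hom_ext hW (fun w hw => ?_)
            (fun w hw => by rw [a.2 w hw, φ.2 w hw]))
          simpa [b.2 w hw, mul_inv_eq_one] using h w hw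
        · rintro rfl w hw
          simp [b.2 w hw]
      show Cfsg.classInner θ (χ (a.1 * b.1)) = _
      rw [e1]
      by_cases hab : a = φ
      · rw [if_pos (e2.mpr hab), hab]
      · rw [if_neg (mt e2.mp hab)]
        by_contra hne
        exact hab (hk a φ hne hφ)
    · push Not at hex
      refine Or.inl fun ω => ?_
      obtain ⟨⟨a, b⟩, rfl⟩ := hbij.2 ω
      show Cfsg.classInner θ (χ (a.1 * b.1)) = 0
      rw [show Cfsg.classInner θ (χ (a.1 * b.1)) = u (a.1 * b.1) by rw [hu], hd, hz, hex a, add_zero]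
  · obtain ⟨j₀, hj⟩ := Finset.card_eq_one.mp h1
    have hz : ∀ ψ : P₂, ψ ≠ j₀ → u (i₀.1 * ψ.1) = 0 := by
      intro ψ hψ
      have : ψ ∉ nz i₀ := by rw [hj]; simpa using hψ
      simpa [nz] using this
    have hall : ∀ φ : P₁, u φ.1 - u i₀.1 = 0 := by
      intro φ
      by_contra hne
      have hj0 : u (i₀.1 * j₀.1) ≠ 0 := by
        have : j₀ ∈ nz i₀ := hj ▸ Finset.mem_singleton_self _
        simpa [nz] using this
      have h2 : ∀ a : P₁, 1 ≤ (nz a).card := by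
        intro a
        by_cases ha : u a.1 - u i₀.1 = 0
        · exact Finset.card_pos.mpr ⟨j₀, by simp [nz, hd a j₀, ha, hj0]⟩
        · obtain ⟨ψ, -, hψ⟩ := Finset.exists_mem_ne
            (s := (Finset.univ : Finset P₂)) (by rw [Finset.card_univ, hP2]; omega) j₀
          exact Finset.card_pos.mpr ⟨ψ, by simp [nz, hd a ψ, hz ψ hψ, ha]⟩
      have h3 : Nat.card W₂ - 1 ≤ (nz φ).card := by
        rw [← hP2, ← Finset.card_univ, ← Finset.card_erase_of_mem (Finset.mem_univ j₀)]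
        refine Finset.card_le_card fun ψ hψ => ?_
        have hψ' : ψ ≠ j₀ := (Finset.mem_erase.mp hψ).1
        simp [nz, hd φ ψ, hz ψ hψ', hne]
      have h4 := Finset.add_sum_erase (Finset.univ : Finset P₁) (fun a => (nz a).card)
        (Finset.mem_univ φ)
      have h5 := Finset.sum_le_sum (s := (Finset.univ : Finset P₁).erase φ) (f := fun _ => 1)
        (g := fun a => (nz a).card) (fun a _ => h2 a)
      simp only [Finset.sum_const, Finset.card_erase_of_mem (Finset.mem_univ φ), Finset.card_univ,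
        smul_eq_mul, mul_one, ← Nat.card_eq_fintype_card, hp1] at h5
      omega
    refine Or.inr (Or.inl ⟨j₀.1, u (i₀.1 * j₀.1), fun ω => ?_⟩)
    obtain ⟨⟨a, b⟩, rfl⟩ := hbij.2 ω
    have e2 : (∀ w : ↥(W₁ ⊔ W₂), (w : G) ∈ W₂ → (a.1 * b.1 * j₀.1⁻¹) w = 1) ↔ b = j₀ := by
      constructor
      · intro h
        refine Subtype.ext (OddChar.scyc_hom_ext hW (fun w hw => by rw [b.2 w hw, j₀.2 w hw])
          (fun w hw => ?_))
        simpa [a.2 w hw, mul_inv_eq_one] using h w hw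
      · rintro rfl w hw
        simp [a.2 w hw]
    show Cfsg.classInner θ (χ (a.1 * b.1)) = _
    rw [show Cfsg.classInner θ (χ (a.1 * b.1)) = u (a.1 * b.1) by rw [hu], hd, hall a, zero_add]
    by_cases hb : b = j₀
    · rw [if_pos (e2.mpr hb), hb]
    · rw [if_neg (mt e2.mp hb), hz b hb]

end Cfsg.Agent.S1507
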