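import Cfsg.Statements.S1508
import Cfsg.Agent.Lib.OddChar.CyclicFamily
import Cfsg.Agent.Lib.OddChar.Lattice
import Cfsg.Agent.Lib.OddChar.GaloisChar
import Cfsg.Agent.Lib.OddChar.Powers
import Cfsg.Agent.Lib.ClassSum.GaloisMean

set_option autoImplicit false
open Cfsg

namespace Cfsg.Agent.S1508

/-- Let W₁, W₂ ≤ G form a self-normalising cyclic subgroup W = W₁ ⊔ W₂ of odd order and χ an orthonormal family of irreducible characters of G up to sign, indexed by the linear characters ω of W, with χ_1 = 1, χ_ω = ω on W outside W₁ ∪ W₂, and the induction identity for (1 − φ)(1 − ψ). Let ω be a linear character of W and g an element of G whose order is coprime to the order of ω. Then χ ω g is an integer. -/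
theorem result {G : Type*} [Group G] [Fintype G] (W₁ W₂ : Subgroup G) (hW : Cfsg.IsSelfNormalizingCyclic W₁ W₂) (hodd : Odd (Nat.card ↥(W₁ ⊔ W₂))) (χ : (↥(W₁ ⊔ W₂) →* ℂˣ) → (G → ℂ)) (hχ : Cfsg.IsCyclicTIFamily W₁ W₂ χ) (ω : ↥(W₁ ⊔ W₂) →* ℂˣ) (g : G) (hg : Nat.Coprime (orderOf g) (orderOf ω)) : ∃ n : ℤ, χ ω g = n := by
  classical
  haveI : Fintype ↥(W₁ ⊔ W₂) := Fintype.ofFinite _
  -- uniqueness of the member of the family with given values on `V`
  have hself : ∀ (x : G → ℂ), OddChar.IsSigned x → (∀ w : ↥(W₁ ⊔ W₂), (w : G) ∈ OddChar.vSet W₁ W₂ →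
      x w = (ω w : ℂ)) → x = χ ω := by
    intro x hx hxV
    have hvs : ∀ w : ↥(W₁ ⊔ W₂), (w : G) ∈ OddChar.vSet W₁ W₂ → χ ω w = (ω w : ℂ) :=
      fun w hw => hχ.eq_on ω w hw.2.1 hw.2.2
    have hθcf : Cfsg.IsClassFunction G (x - χ ω) := by
      intro g h
      simp only [Pi.sub_apply]
      rw [CT.isClassFunction_of_isGen (OddChar.isSigned_isGen hx) g h,
        CT.isClassFunction_of_isGen (OddChar.isSigned_isGen (hχ.irr_or_neg ω : OddChar.IsSigned _)) g h]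
    have hadd : ∀ φ ψ : ↥(W₁ ⊔ W₂) →* ℂˣ, OddChar.TrivOn W₂ φ → OddChar.TrivOn W₁ ψ →
        Cfsg.classInner (x - χ ω) (χ (φ * ψ)) = Cfsg.classInner (x - χ ω) (χ φ) +
          Cfsg.classInner (x - χ ω) (χ ψ) - Cfsg.classInner (x - χ ω) (χ 1) := fun φ ψ h1 h2 =>
      OddChar.family_coeff_add hW hχ hθcf
        (fun w hw => by simp [Pi.sub_apply, hxV w hw, hvs w hw]) h1 h2
    rcases OddChar.isSigned_inner hx (hχ.irr_or_neg ω) with h0 | ⟨e, he, hei, hee⟩
    swap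
    · rcases he with rfl | rfl
      · rw [hee, one_smul]
      · exfalso
        obtain ⟨p, q, hp, hq, hne⟩ : ∃ (p : G) (q : G), p ∈ W₁ ∧ q ∈ W₂ ∧ p * q ∈ OddChar.vSet W₁ W₂ := by
          obtain ⟨p, hp, hp1⟩ := (Subgroup.bot_or_exists_ne_one W₁).resolve_left hW.1
          obtain ⟨q, hq, hq1⟩ := (Subgroup.bot_or_exists_ne_one W₂).resolve_left hW.2.1
          refine ⟨p, q, hp, hq, mul_mem (Subgroup.mem_sup_left hp) (Subgroup.mem_sup_right hq), ?_, ?_⟩
          · intro h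
            have : q ∈ W₁ ⊓ W₂ := ⟨by simpa using W₁.mul_mem (W₁.inv_mem hp) h, hq⟩
            rw [hW.2.2.1, Subgroup.mem_bot] at this
            exact hq1 this
          · intro h
            have : p ∈ W₁ ⊓ W₂ := ⟨hp, by simpa using W₂.mul_mem h (W₂.inv_mem hq)⟩
            rw [hW.2.2.1, Subgroup.mem_bot] at this
            exact hp1 this
        have h1 := hxV ⟨p * q, hne.1⟩ hne
        rw [hee, Pi.smul_apply, hvs ⟨p * q, hne.1⟩ hne, smul_eq_mul] at h1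
        exact (Units.ne_zero (ω ⟨p * q, hne.1⟩)) (by linear_combination (-1 / 2 : ℂ) * h1)
    · exfalso
      have hodd3 : ∀ (K K' : Subgroup G), K ≠ ⊥ → K ⊓ K' = ⊥ → K ≤ W₁ ⊔ W₂ →
          (∀ v : ↥(W₁ ⊔ W₂), ∀ ρ : ↥(W₁ ⊔ W₂) →* ℂˣ, (v : G) ∈ K → ρ v ≠ 1 →
            ∃ φ : ↥(W₁ ⊔ W₂) →* ℂˣ, OddChar.TrivOn K' φ ∧ φ v ≠ 1) →
          ∀ φ₁ φ₀ : ↥(W₁ ⊔ W₂) →* ℂˣ, ∃ φ, OddChar.TrivOn K' φ ∧ φ ≠ φ₁ ∧ φ ≠ φ₀ := by
        intro K K' hK _ hle hsep φ₁ φ₀
        obtain ⟨p, hp, hp1⟩ := (Subgroup.bot_or_exists_ne_one K).resolve_left hK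
        obtain ⟨ρ, hρ⟩ := OddChar.scyc_separate hW (x := ⟨p, hle hp⟩) (fun e => hp1 (congrArg Subtype.val e))
        obtain ⟨φ, hφ, hφ1⟩ := hsep ⟨p, hle hp⟩ ρ hp hρ
        have hφne : φ ≠ 1 := fun e => hφ1 (by rw [e]; rfl)
        have hφinv : φ⁻¹ ≠ φ := by
          intro e
          obtain ⟨m, hm⟩ := hodd
          refine hφne (MonoidHom.ext fun v => ?_)
          have h2 : φ v * φ v = 1 := by
            have := DFunLike.congr_fun e v
            rw [MonoidHom.inv_apply] at this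
            exact inv_eq_iff_mul_eq_one.mp this
          have h3 : φ v ^ Nat.card ↥(W₁ ⊔ W₂) = 1 := by
            rw [← map_pow, pow_card_eq_one', map_one]
          rw [hm, pow_succ, pow_mul, sq, h2, one_pow, one_mul] at h3
          simpa using h3
        have hinv : OddChar.TrivOn K' φ⁻¹ := fun v hv => by simp [hφ v hv]
        have h1 : OddChar.TrivOn K' (1 : ↥(W₁ ⊔ W₂) →* ℂˣ) := fun v _ => rfl
        by_cases ha : (1 : ↥(W₁ ⊔ W₂) →* ℂˣ) ≠ φ₁ ∧ 1 ≠ φ₀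
        · exact ⟨1, h1, ha.1, ha.2⟩
        by_cases hb : φ ≠ φ₁ ∧ φ ≠ φ₀
        · exact ⟨φ, hφ, hb.1, hb.2⟩
        refine ⟨φ⁻¹, hinv, ?_, ?_⟩
        · intro e
          rcases not_and_or.mp ha with ha | ha <;> rcases not_and_or.mp hb with hb | hb <;>
            simp only [not_not] at ha hb
          · exact hφne (hb.trans ha.symm)
          · exact hφne (MonoidHom.ext fun v => inv_eq_one.mp ((DFunLike.congr_fun (e.trans ha.symm) v) : (φ v)⁻¹ = 1))
          · exact hφinv (e.trans hb.symm)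
          · exact hφne (hb.trans ha.symm)
        · intro e
          rcases not_and_or.mp ha with ha | ha <;> rcases not_and_or.mp hb with hb | hb <;>
            simp only [not_not] at ha hb
          · exact hφne (hb.trans ha.symm)
          · exact hφinv (e.trans hb.symm)
          · exact hφne (MonoidHom.ext fun v => inv_eq_one.mp ((DFunLike.congr_fun (e.trans ha.symm) v) : (φ v)⁻¹ = 1))
          · exact hφne (hb.trans ha.symm)
      obtain ⟨φ₁, ψ₁, hφ₁, hψ₁, hωe⟩ := OddChar.scyc_hom_decomp hW ω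
      -- the possible second constituent
      obtain ⟨φ₀, ψ₀, hφ₀, hψ₀, hω₀⟩ : ∃ φ₀ ψ₀ : ↥(W₁ ⊔ W₂) →* ℂˣ, OddChar.TrivOn W₂ φ₀ ∧
          OddChar.TrivOn W₁ ψ₀ ∧ ∀ ω', ω' ≠ φ₀ * ψ₀ → Cfsg.classInner x (χ ω') = 0 := by
        by_cases hex : ∃ ω₀, Cfsg.classInner x (χ ω₀) ≠ 0
        · obtain ⟨ω₀, h₀⟩ := hex
          obtain ⟨φ₀, ψ₀, hφ₀, hψ₀, rfl⟩ := OddChar.scyc_hom_decomp hW ω₀
          refine ⟨φ₀, ψ₀, hφ₀, hψ₀, fun ω' hne => ?_⟩
          rcases OddChar.isSigned_inner hx (hχ.irr_or_neg (φ₀ * ψ₀)) with h | ⟨e, -, -, hee⟩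
          · exact absurd h h₀
          · rw [hee, CT.classInner_smul_left, hχ.orthonormal, if_neg (Ne.symm hne), mul_zero]
        · push Not at hex
          exact ⟨1, 1, fun v _ => rfl, fun v _ => rfl, fun ω' _ => hex ω'⟩
      obtain ⟨φ, hφ, hφn1, hφn0⟩ := hodd3 W₁ W₂ hW.1 hW.2.2.1 le_sup_left (fun v ρ hv hρ => by
        obtain ⟨φ, ψ, hφ, hψ, rfl⟩ := OddChar.scyc_hom_decomp hW ρ
        exact ⟨φ, hφ, by simpa [hψ v hv] using hρ⟩) φ₁ φ₀
      obtain ⟨ψ, hψ, hψn1, hψn0⟩ := hodd3 W₂ W₁ hW.2.1 (by rw [inf_comm]; exact hW.2.2.1) le_sup_right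
        (fun v ρ hv hρ => by
          obtain ⟨φ, ψ, hφ, hψ, rfl⟩ := OddChar.scyc_hom_decomp hW ρ
          exact ⟨ψ, hψ, by simpa [hφ v hv] using hρ⟩) ψ₁ ψ₀
      have hz : ∀ φ' ψ', OddChar.TrivOn W₂ φ' → OddChar.TrivOn W₁ ψ' → (φ' = φ ∨ ψ' = ψ) →
          Cfsg.classInner (x - χ ω) (χ (φ' * ψ')) = 0 := by
        intro φ' ψ' h1 h2 h3
        rw [CT.classInner_sub_left, hω₀ _ ?_, hχ.orthonormal, if_neg ?_, sub_zero]
        · intro e
          obtain ⟨e1, e2⟩ := OddChar.scyc_prod_inj hW hφ₁ h1 hψ₁ h2 (hωe.symm.trans e)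
          rcases h3 with rfl | rfl
          · exact hφn1 e1.symm
          · exact hψn1 e2.symm
        · intro e
          obtain ⟨e1, e2⟩ := OddChar.scyc_prod_inj hW h1 hφ₀ h2 hψ₀ e
          rcases h3 with rfl | rfl
          · exact hφn0 e1
          · exact hψn0 e2
      have k1 := hadd φ₁ ψ₁ hφ₁ hψ₁
      have k2 := hadd φ ψ hφ hψ
      have k3 := hadd φ ψ₁ hφ hψ₁
      have k4 := hadd φ₁ ψ hφ₁ hψ
      rw [hz φ ψ hφ hψ (Or.inl rfl)] at k2
      rw [hz φ ψ₁ hφ hψ₁ (Or.inl rfl)] at k3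
      rw [hz φ₁ ψ hφ₁ hψ (Or.inr rfl)] at k4
      rw [← hωe, CT.classInner_sub_left, h0, hχ.orthonormal, if_pos rfl] at k1
      have : (-1 : ℂ) = 0 := by linear_combination k1 + k2 - k3 - k4
      norm_num at this
  -- invariance under the relevant power maps
  have hpow : ∀ j : ℕ, j.Coprime (Nat.card G) → j ≡ 1 [MOD orderOf ω] → ∀ y, χ ω (y ^ j) = χ ω y := by
    intro j hj hj1 y
    refine congrFun (hself (fun z => χ ω (z ^ j)) ?_ ?_) y
    · rcases hχ.irr_or_neg ω with h | h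
      · exact Or.inl (OddChar.isIrr_map_pow h hj)
      · exact Or.inr (OddChar.isIrr_map_pow h hj)
    · intro w hw
      have hjW : j.Coprime (Nat.card ↥(W₁ ⊔ W₂)) :=
        hj.coprime_dvd_right (Subgroup.card_subgroup_dvd_card _)
      have hback : ∀ K : Subgroup G, K ≤ W₁ ⊔ W₂ → (w : G) ^ j ∈ K → (w : G) ∈ K := by
        intro K hK hw'
        obtain ⟨i, hi1, -⟩ := OddChar.exists_sep_exponent (Nat.coprime_one_right (orderOf (w : G)))
        obtain ⟨k, hk⟩ := exists_pow_eq_self_of_coprime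
          (hjW.coprime_dvd_right (Subgroup.orderOf_dvd_natCard _ w.2))
        rw [← hk]
        exact pow_mem hw' k
      have hmem : ¬ ((w : G) ^ j ∈ W₁) ∧ ¬ ((w : G) ^ j ∈ W₂) :=
        ⟨fun h => hw.2.1 (hback _ le_sup_left h), fun h => hw.2.2 (hback _ le_sup_right h)⟩
      have := hχ.eq_on ω (w ^ j) (by simpa using hmem.1) (by simpa using hmem.2)
      simp only [SubmonoidClass.coe_pow] at this
      rw [this, map_pow]
      have h1 : ω w ^ j = ω w := by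
        have h2 : ω w ^ orderOf ω = 1 := by
          have h3 := DFunLike.congr_fun (pow_orderOf_eq_one ω) w
          exact h3
        exact (pow_eq_pow_iff_modEq.mpr (hj1.of_dvd (orderOf_dvd_of_pow_eq_one h2))).trans (pow_one _)
      rw [h1]
  -- rationality
  obtain ⟨θ, hθ, e, he, hθe⟩ : ∃ (θ : G → ℂ), Cfsg.IsCharacter G θ ∧ ∃ e : ℤ, (e = 1 ∨ e = -1) ∧
      ∀ y, χ ω y = (e : ℂ) * θ y := by
    rcases hχ.irr_or_neg ω with h | h
    · exact ⟨_, CT.isCharacter_of_isIrr h, 1, Or.inl rfl, fun y => by simp⟩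
    · exact ⟨_, CT.isCharacter_of_isIrr h, -1, Or.inr rfl, fun y => by simp⟩
  have hθg : ∀ k : ℕ, k.Coprime (Nat.card G) → θ (g ^ k) = θ g := by
    intro k hk
    obtain ⟨j₀, hj1, hj2⟩ := Nat.chineseRemainder hg.symm 1 k
    have hordW : orderOf ω ∣ Nat.card ↥(W₁ ⊔ W₂) := by
      refine orderOf_dvd_of_pow_eq_one (MonoidHom.ext fun v => ?_)
      simp [← map_pow, pow_card_eq_one']
    have hd : orderOf ω * orderOf g ∣ Nat.card G := by
      refine Nat.Coprime.mul_dvd_of_dvd_of_dvd hg.symm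
        (hordW.trans (Subgroup.card_subgroup_dvd_card _)) (orderOf_dvd_natCard g)
    have hcop0 : j₀.Coprime (orderOf ω * orderOf g) := by
      refine Nat.Coprime.mul_right ?_ ?_
      · show Nat.gcd j₀ (orderOf ω) = 1
        rw [Nat.gcd_comm, Nat.gcd_rec, hj1, ← Nat.gcd_rec, Nat.gcd_comm]
        exact Nat.gcd_one_left _
      · show Nat.gcd j₀ (orderOf g) = 1
        rw [Nat.gcd_comm, Nat.gcd_rec, hj2, ← Nat.gcd_rec, Nat.gcd_comm]
        exact hk.coprime_dvd_right (orderOf_dvd_natCard g)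
    haveI : NeZero (Nat.card G) := ⟨Nat.card_pos.ne'⟩
    obtain ⟨u, hu⟩ := ZMod.unitsMap_surjective hd (ZMod.unitOfCoprime j₀ hcop0)
    obtain ⟨j, hj⟩ : ∃ j, j = (u : ZMod (Nat.card G)).val := ⟨_, rfl⟩
    have hjc : j.Coprime (Nat.card G) := hj ▸ ZMod.val_coe_unit_coprime u
    have hjj : j ≡ j₀ [MOD orderOf ω * orderOf g] := by
      rw [← ZMod.natCast_eq_natCast_iff, hj]
      have := congrArg (fun v : (ZMod (orderOf ω * orderOf g))ˣ => (v : ZMod (orderOf ω * orderOf g))) hu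
      simp only [ZMod.unitsMap_def, Units.coe_map, ZMod.coe_unitOfCoprime, MonoidHom.coe_coe,
        ZMod.castHom_apply] at this
      rw [← this, ZMod.natCast_val]
    have h1 := hpow j hjc ((hjj.of_dvd (dvd_mul_right _ _)).trans hj1) g
    rw [pow_eq_pow_iff_modEq.mpr ((hjj.of_dvd (dvd_mul_left _ _)).trans hj2), hθe, hθe] at h1
    refine mul_left_cancel₀ ?_ h1
    rcases he with rfl | rfl <;> norm_num
  obtain ⟨K, hfin, hgal, hK⟩ := ClassSum.exists_galois_data G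
  obtain ⟨hmem, hσ⟩ := hK θ hθ
  obtain ⟨r, hr⟩ := IntermediateField.mem_bot.mp
    ((IsGalois.mem_bot_iff_fixed (⟨θ g, hmem g⟩ : K)).mpr fun σ => by
      obtain ⟨k, hk, hkσ⟩ := hσ σ
      exact Subtype.ext ((hkσ θ hθ g (hmem g)).trans (hθg k hk)))
  have hr' : θ g = (r : ℂ) := by
    have := congrArg (fun z : K => (z : ℂ)) hr
    simpa using this.symm
  have hint : IsIntegral ℤ r := by
    rw [← isIntegral_algebraMap_iff (A := ℚ) (B := ℂ) (algebraMap ℚ ℂ).injective]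
    have := CT.isIntegral_isCharacter hθ g
    rw [hr'] at this
    simpa using this
  obtain ⟨z, hz⟩ := IsIntegrallyClosed.isIntegral_iff.mp hint
  exact ⟨e * z, by rw [hθe, hr', ← hz]; simp⟩

end Cfsg.Agent.S1508
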