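import Cfsg.Statements.S1510
import Cfsg.Agent.Lib.OddChar.Powers

set_option autoImplicit false
open Cfsg

namespace Cfsg.Agent.S1510

/-- Let L be a finite group with a normal subgroup K and a nontrivial cyclic subgroup W₁ of order coprime to its index, K ⊓ W₁ = ⊥ and K ⊔ W₁ = ⊤; let W₂ ≠ ⊥ be a cyclic subgroup of K with K ⊓ C_L(x) = W₂ for every non-identity x ∈ W₁, and suppose W₁ ⊔ W₂ has odd order. Then (W₁, W₂) is a self-normalising cyclic pair in L. -/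
theorem result {L : Type*} [Group L] [Fintype L] (K W₁ W₂ : Subgroup L) [hK : K.Normal] (hKW₁ : K ⊓ W₁ = ⊥) (hKW₁' : K ⊔ W₁ = ⊤) (hW₁ : W₁ ≠ ⊥) (hW₁c : IsCyclic W₁) (hHall : Nat.Coprime (Nat.card W₁) W₁.index) (hW₂ : W₂ ≠ ⊥) (hW₂c : IsCyclic W₂) (hW₂K : W₂ ≤ K) (hC : ∀ x ∈ W₁, x ≠ 1 → K ⊓ Subgroup.centralizer ({x} : Set L) = W₂) (hodd : Odd (Nat.card ↥(W₁ ⊔ W₂))) : Cfsg.IsSelfNormalizingCyclic W₁ W₂ := by
  classical
  have hcomm : ∀ a ∈ W₁, ∀ b ∈ W₂, a * b = b * a := by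
    intro a ha b hb
    by_cases h : a = 1
    · simp [h]
    · have hb' : b ∈ K ⊓ Subgroup.centralizer ({a} : Set L) := (hC a ha h).symm ▸ hb
      exact (Subgroup.mem_centralizer_singleton_iff.mp hb'.2).symm
  have hdisj : W₁ ⊓ W₂ = ⊥ := le_bot_iff.mp fun z hz => hKW₁ ▸ ⟨hW₂K hz.2, hz.1⟩
  have hindex : Nat.card K = W₁.index :=
    (Subgroup.IsComplement'.index_eq_card
      (Subgroup.isComplement'_of_disjoint_and_mul_eq_univ (disjoint_iff.mpr hKW₁)
        (by rw [← Subgroup.normal_mul, hKW₁']; rfl))).symm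
  have hcop : Nat.Coprime (Nat.card W₁) (Nat.card K) := hindex ▸ hHall
  have hW1n : W₁ ≤ Subgroup.normalizer (W₂ : Set L) := by
    intro a ha
    rw [Subgroup.mem_normalizer_iff]
    intro b
    refine ⟨fun hb => by rwa [hcomm a ha b hb, mul_inv_cancel_right], fun hb => ?_⟩
    have := hcomm a ha _ hb
    have hab : a * b * a⁻¹ = b := by
      calc a * b * a⁻¹ = a⁻¹ * (a * (a * b * a⁻¹)) := by group
        _ = a⁻¹ * ((a * b * a⁻¹) * a) := by rw [this]
        _ = b := by group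
    rwa [hab] at hb
  have hmem : ∀ w ∈ W₁ ⊔ W₂, ∃ a ∈ W₁, ∃ b ∈ W₂, w = a * b := by
    intro w hw
    rw [← SetLike.mem_coe, Subgroup.coe_mul_of_left_le_normalizer_right _ _ hW1n] at hw
    obtain ⟨a, ha, b, hb, he⟩ := hw
    exact ⟨a, ha, b, hb, he.symm⟩
  have habel : ∀ u ∈ W₁ ⊔ W₂, ∀ v ∈ W₁ ⊔ W₂, Commute u v := by
    intro u hu v hv
    obtain ⟨a, ha, b, hb, rfl⟩ := hmem u hu
    obtain ⟨a', ha', b', hb', rfl⟩ := hmem v hv
    haveI := hW₁c
    haveI := hW₂c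
    have h11 : Commute a a' :=
      congrArg Subtype.val (mul_comm' (⟨a, ha⟩ : W₁) ⟨a', ha'⟩)
    have h22 : Commute b b' :=
      congrArg Subtype.val (mul_comm' (⟨b, hb⟩ : W₂) ⟨b', hb'⟩)
    have h12 : Commute a b' := hcomm a ha b' hb'
    have h21 : Commute b a' := (hcomm a' ha' b hb).symm
    exact (h11.mul_right h12).mul_left (h21.mul_right h22)
  have hcyc : IsCyclic ↥(W₁ ⊔ W₂) := by
    obtain ⟨a, ha⟩ := hW₁c.exists_ofOrder_eq_natCard
    obtain ⟨b, hb⟩ := hW₂c.exists_ofOrder_eq_natCard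
    have hab : Commute (a : L) (b : L) := hcomm _ a.2 _ b.2
    have ho : orderOf ((a : L) * b) = Nat.card W₁ * Nat.card W₂ := by
      rw [hab.orderOf_mul_eq_mul_orderOf_of_coprime, Subgroup.orderOf_coe, Subgroup.orderOf_coe, ha, hb]
      rw [Subgroup.orderOf_coe, Subgroup.orderOf_coe, ha, hb]
      exact hcop.coprime_dvd_right (Subgroup.card_dvd_of_le hW₂K)
    refine isCyclic_of_orderOf_eq_card (α := ↥(W₁ ⊔ W₂))
      ⟨(a : L) * b, mul_mem (Subgroup.mem_sup_left a.2) (Subgroup.mem_sup_right b.2)⟩ ?_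
    rw [Subgroup.orderOf_mk, ho]
    refine le_antisymm ?_ ?_
    · rw [← ho]
      exact Nat.le_of_dvd Nat.card_pos (Subgroup.orderOf_dvd_natCard _
        (mul_mem (Subgroup.mem_sup_left a.2) (Subgroup.mem_sup_right b.2)))
    · rw [← Nat.card_prod]
      refine Nat.card_le_card_of_surjective
        (fun p : W₁ × W₂ => (⟨(p.1 : L) * p.2,
          mul_mem (Subgroup.mem_sup_left p.1.2) (Subgroup.mem_sup_right p.2.2)⟩ : ↥(W₁ ⊔ W₂))) ?_
      rintro ⟨w, hw⟩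
      obtain ⟨a, ha, b, hb, rfl⟩ := hmem w hw
      exact ⟨(⟨a, ha⟩, ⟨b, hb⟩), rfl⟩
  refine ⟨hW₁, hW₂, hdisj, hcomm, hcyc, ?_⟩
  rintro X hX ⟨x, hx⟩
  apply le_antisymm
  · intro g hg
    have hxg : g * x * g⁻¹ ∈ X := (hg x).mp hx
    obtain ⟨a, ha, b, hb, rfl⟩ := hmem x (hX hx).1
    obtain ⟨a', ha', b', hb', he⟩ := hmem _ (hX hxg).1
    have ha1 : a ≠ 1 := by
      rintro rfl
      exact (hX hx).2 (Or.inr (by simpa using hb))
    have hg' : g ∈ K ⊔ W₁ := hKW₁' ▸ Subgroup.mem_top g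
    rw [Subgroup.mem_sup_of_normal_left] at hg'
    obtain ⟨k, hk, w, hw, rfl⟩ := hg'
    haveI := hW₁c
    have hga : (k * w) * a * (k * w)⁻¹ = a' :=
      OddChar.conj_left_eq hcop (hcomm a ha b hb) (hcomm a' ha' b' hb')
        (Subgroup.orderOf_dvd_natCard _ ha) (Subgroup.orderOf_dvd_natCard _ ha')
        ((Subgroup.orderOf_dvd_natCard _ hb).trans (Subgroup.card_dvd_of_le hW₂K))
        ((Subgroup.orderOf_dvd_natCard _ hb').trans (Subgroup.card_dvd_of_le hW₂K)) he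
    have hwa : w * a = a * w := congrArg Subtype.val (mul_comm' (⟨w, hw⟩ : W₁) ⟨a, ha⟩)
    have hka : k * a * k⁻¹ = a' := by
      rw [← hga, mul_inv_rev]
      calc k * a * k⁻¹ = k * (a * w) * (w⁻¹ * k⁻¹) := by group
        _ = k * (w * a) * (w⁻¹ * k⁻¹) := by rw [hwa]
        _ = k * w * a * (w⁻¹ * k⁻¹) := by group
    have h1 : a' * a⁻¹ ∈ K ⊓ W₁ := by
      refine Subgroup.mem_inf.mpr ⟨?_, W₁.mul_mem ha' (W₁.inv_mem ha)⟩
      rw [← hka]
      have := hK.conj_mem k⁻¹ (K.inv_mem hk) a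
      have h2 := mul_mem hk this
      convert h2 using 1
      group
    rw [hKW₁, Subgroup.mem_bot, mul_inv_eq_one] at h1
    subst h1
    have hkW : k ∈ W₂ := by
      rw [← hC a' ha ha1]
      exact ⟨hk, Subgroup.mem_centralizer_singleton_iff.mpr (mul_inv_eq_iff_eq_mul.mp hka)⟩
    exact mul_mem (Subgroup.mem_sup_right hkW) (Subgroup.mem_sup_left hw)
  · intro g hg y
    constructor
    · intro hy
      rwa [(habel g hg y (hX hy).1).eq, mul_inv_cancel_right]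
    · intro hy
      have hc : g * y * g⁻¹ = y := by
        have := (habel g hg _ (hX hy).1).eq
        calc g * y * g⁻¹ = g⁻¹ * (g * (g * y * g⁻¹)) := by group
          _ = g⁻¹ * ((g * y * g⁻¹) * g) := by rw [this]
          _ = y := by group
      rwa [hc] at hy

end Cfsg.Agent.S1510
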