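import Cfsg.Statements.S1512
import Cfsg.Agent.Lib.OddChar.Powers

set_option autoImplicit false
open Cfsg

namespace Cfsg.Agent.S1512

/-- Let K be a normal subgroup of the finite group L and x a non-identity element whose order is coprime to the order of K, such that K ⊓ C_L(y) = W₂ for every non-identity element y of the cyclic group generated by x. Then the number of conjugacy classes of K mapped to themselves by conjugation by x is at most Nat.card W₂. -/
theorem result {L : Type*} [Group L] [Finite L] (K W₂ : Subgroup L) [hK : K.Normal] (x : L) (hx1 : x ≠ 1) (hx : Nat.Coprime (orderOf x) (Nat.card K)) (hC : ∀ y ∈ Subgroup.zpowers x, y ≠ 1 → K ⊓ Subgroup.centralizer ({y} : Set L) = W₂) : Nat.card {C : ConjClasses K // ConjClasses.map (MulEquiv.toMonoidHom ((MulAut.conjNormal x : MulAut K))) C = C} ≤ Nat.card W₂ := by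
  classical
  haveI : Fintype L := Fintype.ofFinite L
  haveI : Fintype (ConjClasses K) := Fintype.ofFinite _
  obtain ⟨p, hp, hpm⟩ := Nat.exists_prime_and_dvd
    (n := orderOf x) (by rwa [Ne, orderOf_eq_one_iff])
  haveI := Fact.mk hp
  obtain ⟨y, hy⟩ : ∃ y : L, y = x ^ (orderOf x / p) := ⟨_, rfl⟩
  have hyo : orderOf y = p := by
    rw [hy]
    exact orderOf_pow_orderOf_div (orderOf_pos x).ne' hpm
  have hy1 : y ≠ 1 := by
    intro h
    rw [h, orderOf_one] at hyo
    exact hp.ne_one hyo.symm
  have hW : W₂ ≤ K ⊓ Subgroup.centralizer ({x} : Set L) :=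
    (hC x (Subgroup.mem_zpowers x) hx1).ge
  have key : ∀ C : {C : ConjClasses K // ConjClasses.map
      (MulEquiv.toMonoidHom ((MulAut.conjNormal x : MulAut K))) C = C},
      ∃ k : K, (k : L) ∈ W₂ ∧ ConjClasses.mk k = C.1 := by
    rintro ⟨C, hC'⟩
    have hinv : ∀ (n : ℕ) (k : K), ConjClasses.mk k = C →
        ConjClasses.mk ((MulAut.conjNormal (x ^ n) : MulAut K) k) = C := by
      intro n
      induction n with
      | zero => intro k hk; simpa using hk
      | succ n ih =>
        intro k hk
        rw [pow_succ', map_mul, MulAut.mul_apply]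
        have h2 := ih k hk
        calc ConjClasses.mk ((MulAut.conjNormal x : MulAut K)
              ((MulAut.conjNormal (x ^ n) : MulAut K) k))
            = ConjClasses.map (MulEquiv.toMonoidHom ((MulAut.conjNormal x : MulAut K)))
                (ConjClasses.mk ((MulAut.conjNormal (x ^ n) : MulAut K) k)) := rfl
          _ = C := by rw [h2]; exact hC'
    let T := {k : K // ConjClasses.mk k = C}
    let f : T → T := fun k => ⟨(MulAut.conjNormal y : MulAut K) k.1,
      by rw [hy]; exact hinv _ _ k.2⟩
    have hf : Function.Injective f := by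
      intro a b h
      exact Subtype.ext ((MulAut.conjNormal y : MulAut K).injective (congrArg Subtype.val h))
    let σ : Equiv.Perm T := Equiv.ofBijective f (Finite.injective_iff_bijective.mp hf)
    have hiter : ∀ (n : ℕ) (k : T), ((σ ^ n) k).1 = (MulAut.conjNormal (y ^ n) : MulAut K) k.1 := by
      intro n
      induction n with
      | zero => intro k; simp
      | succ n ih =>
        intro k
        rw [pow_succ', Equiv.Perm.mul_apply, pow_succ', map_mul, MulAut.mul_apply, ← ih k]
        rfl
    have hσ : σ ^ p ^ 1 = 1 := by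
      ext k
      rw [pow_one, hiter, ← hyo, pow_orderOf_eq_one]
      simp
    have hcop : ¬ p ∣ Fintype.card T := by
      intro hd
      have hdK : Fintype.card T ∣ Nat.card K := by
        obtain ⟨k, rfl⟩ := ConjClasses.exists_rep C
        have h1 : Fintype.card T = Nat.card (MulAction.orbit (ConjAct K) k) := by
          rw [← Nat.card_eq_fintype_card]
          refine Nat.card_congr (Equiv.subtypeEquivRight fun b => ?_)
          rw [ConjAct.mem_orbit_conjAct, ← ConjClasses.mk_eq_mk_iff_isConj]
        rw [h1, Nat.card_congr (MulAction.orbitEquivQuotientStabilizer (ConjAct K) k)]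
        exact (Subgroup.card_quotient_dvd_card _).trans
          (dvd_of_eq (Nat.card_congr ConjAct.ofConjAct.toEquiv))
      exact hp.ne_one (Nat.eq_one_of_dvd_coprimes hx hpm (hd.trans hdK))
    obtain ⟨k, hk⟩ := Equiv.Perm.exists_fixed_point_of_prime hcop hσ
    refine ⟨k.1, ?_, k.2⟩
    have hk' : (MulAut.conjNormal y : MulAut K) k.1 = k.1 := congrArg Subtype.val hk
    have hk'' : y * (k.1 : L) * y⁻¹ = k.1 := by
      rw [← MulAut.conjNormal_apply, hk']
    have : (k.1 : L) ∈ K ⊓ Subgroup.centralizer ({y} : Set L) :=
      ⟨k.1.2, Subgroup.mem_centralizer_singleton_iff.mpr (mul_inv_eq_iff_eq_mul.mp hk'').symm⟩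
    rwa [hC y (by rw [hy]; exact Subgroup.npow_mem_zpowers x _) hy1] at this
  choose r hr hrC using key
  refine Nat.card_le_card_of_injective (fun C => (⟨(r C : L), hr C⟩ : W₂)) ?_
  intro C D h
  simp only [Subtype.mk.injEq] at h
  exact Subtype.ext (by rw [← hrC C, ← hrC D, Subtype.ext h])

end Cfsg.Agent.S1512
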