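import Cfsg.Statements.S1513
import Cfsg.Agent.Lib.OddChar.AbelianQuotient

set_option autoImplicit false
open Cfsg

namespace Cfsg.Agent.S1513

/-- Let L be a finite group with K normal with complement W₁ ≠ 1 a cyclic Hall subgroup, and W₂ ≠ 1 a cyclic subgroup of K equal to C_K(x) for every non-identity x ∈ W₁, with W₁W₂ of odd order. For an irreducible character θ of K: if θ is not fixed under conjugation by some element of W₁, then the function induced from θ to L is an irreducible character of L; and the irreducible characters of K fixed by all of W₁ are exactly Nat.card W₂ in number, each inducing to the sum of Nat.card W₁ pairwise distinct irreducible characters of L. -/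
theorem result {L : Type*} [Group L] [Fintype L] (K W₁ W₂ : Subgroup L) [hK : K.Normal] (hKW₁ : K ⊓ W₁ = ⊥) (hKW₁' : K ⊔ W₁ = ⊤) (hW₁ : W₁ ≠ ⊥) (hW₁c : IsCyclic W₁) (hHall : Nat.Coprime (Nat.card W₁) W₁.index) (hW₂ : W₂ ≠ ⊥) (hW₂c : IsCyclic W₂) (hW₂K : W₂ ≤ K) (hC : ∀ x ∈ W₁, x ≠ 1 → K ⊓ Subgroup.centralizer ({x} : Set L) = W₂) (hodd : Odd (Nat.card ↥(W₁ ⊔ W₂))) : (∀ θ : K → ℂ, Cfsg.IsIrrCharacter K θ → (∃ x ∈ W₁, (fun k : K => θ ⟨x * k * x⁻¹, hK.conj_mem (k : L) k.2 x⟩) ≠ θ) → Cfsg.IsIrrCharacter L (Cfsg.indFun K θ)) ∧ Nat.card {θ : Cfsg.IrrCharacter K // ∀ x ∈ W₁, (fun k : K => (θ : K → ℂ) ⟨x * k * x⁻¹, hK.conj_mem (k : L) k.2 x⟩) = θ} = Nat.card W₂ ∧ (∀ θ : K → ℂ, Cfsg.IsIrrCharacter K θ → (∀ x ∈ W₁, (fun k : K => θ ⟨x * k * x⁻¹, hK.conj_mem (k : L) k.2 x⟩) = θ) → ∃ C : Finset (L → ℂ), C.card = Nat.card W₁ ∧ (∀ μ ∈ C, Cfsg.IsIrrCharacter L μ) ∧ Cfsg.indFun K θ = ∑ μ ∈ C, μ) := by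
  classical
  haveI := Fintype.ofFinite K
  haveI := Fintype.ofFinite W₁
  haveI := hW₁c
  haveI := hW₂c
  obtain ⟨w, hw⟩ := IsCyclic.exists_generator (α := W₁)
  have hcompl : Subgroup.IsComplement' K W₁ := Subgroup.isComplement'_of_disjoint_and_mul_eq_univ
    (disjoint_iff.mpr hKW₁) (by rw [← Subgroup.normal_mul, hKW₁', Subgroup.coe_top])
  have hidx : W₁.index = Nat.card K := hcompl.index_eq_card
  have hidxK : K.index = Nat.card W₁ := hcompl.symm.index_eq_card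
  have hcopy : ∀ y ∈ W₁, Nat.Coprime (orderOf y) (Nat.card K) := fun y hy =>
    (hidx ▸ hHall).coprime_dvd_left (Subgroup.orderOf_dvd_natCard _ hy)
  have hcount : ∀ y ∈ W₁, y ≠ 1 →
      Nat.card {θ : Cfsg.IrrCharacter K // CT.conjFun K y (θ : K → ℂ) = θ} = Nat.card W₂ := by
    intro y hy hy1
    refine OddChar.card_fixed_classes K (hcopy y hy) (hC y hy hy1) fun a ha b hb => ?_
    exact congrArg Subtype.val ((IsCyclic.commGroup (α := W₂)).mul_comm ⟨a, ha⟩ ⟨b, hb⟩)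
  have hw1 : (w : L) ≠ 1 := by
    intro e
    apply hW₁
    rw [Subgroup.eq_bot_iff_forall]
    intro v hv
    have h2 := hw ⟨v, hv⟩
    rw [show w = 1 from Subtype.ext e, Subgroup.zpowers_one_eq_bot, Subgroup.mem_bot] at h2
    exact congrArg Subtype.val h2
  have hgen : ∀ θ : K → ℂ, CT.conjFun K (w : L) θ = θ → ∀ x ∈ W₁, CT.conjFun K x θ = θ := by
    intro θ hθ x hx
    obtain ⟨j, hj⟩ := Subgroup.mem_zpowers_iff.mp (hw ⟨x, hx⟩)
    have hj' : ((w : L) : L) ^ j = x := by simpa using congrArg Subtype.val hj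
    have hm := zpow_mem (show (w : L) ∈ CT.inertia K θ from hθ) j
    rwa [hj'] at hm
  have hone : ∀ y ∈ W₁, y ≠ 1 → ∀ θ : K → ℂ, Cfsg.IsIrrCharacter K θ → CT.conjFun K y θ = θ →
      CT.conjFun K (w : L) θ = θ := by
    intro y hy hy1 θ hθ hfix
    let f : {θ : Cfsg.IrrCharacter K // CT.conjFun K (w : L) (θ : K → ℂ) = θ} →
        {θ : Cfsg.IrrCharacter K // CT.conjFun K y (θ : K → ℂ) = θ} :=
      fun θ => ⟨θ.1, hgen _ θ.2 y hy⟩
    have hbij : Function.Bijective f := (Nat.bijective_iff_injective_and_card f).mpr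
      ⟨fun a b h => Subtype.ext (congrArg Subtype.val h :),
        (hcount w w.2 hw1).trans (hcount y hy hy1).symm⟩
    obtain ⟨⟨θ', h'⟩, e⟩ := hbij.2 ⟨⟨θ, hθ⟩, hfix⟩
    have e' : θ' = (⟨θ, hθ⟩ : Cfsg.IrrCharacter K) := congrArg Subtype.val e
    subst e'
    exact h'
  have hfact : ∀ g : L, ∃ k ∈ K, ∃ y ∈ W₁, g = k * y := fun g => CT.exists_kh K W₁ hKW₁' g
  refine ⟨?_, ?_, ?_⟩
  · rintro θ hθ ⟨x, hx, hne⟩
    refine CT.isIrr_indFun_of_inertia K hθ (le_antisymm (fun g hg => ?_)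
      (CT.le_inertia K (CT.isClassFunction_of_isIrr hθ)))
    obtain ⟨k, hk, y, hy, rfl⟩ := hfact g
    by_contra hgK
    have hy1 : y ≠ 1 := fun e => hgK (by rw [e, mul_one]; exact hk)
    have hfix : CT.conjFun K y θ = θ := by
      have e : CT.conjFun K (k * y) θ = θ := hg
      rwa [CT.conjFun_mul, CT.conjFun_of_mem K (CT.isClassFunction_of_isIrr hθ) hk] at e
    exact hne (hgen θ (hone y hy hy1 θ hθ hfix) x hx)
  · rw [← hcount w w.2 hw1]
    exact Nat.card_congr (Equiv.subtypeEquivRight fun θ =>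
      ⟨fun h => h w w.2, fun h x hx => hgen _ h x hx⟩)
  · intro θ hθ hall
    have htop : ∀ g : L, g ∈ (⊤ : Subgroup L) ↔
        ∀ h : K, θ ⟨g * h * g⁻¹, hK.conj_mem h h.2 g⟩ = θ h := by
      refine fun g => ⟨fun _ => ?_, fun _ => trivial⟩
      obtain ⟨k, hk, y, hy, rfl⟩ := hfact g
      have : CT.conjFun K (k * y) θ = θ := by
        rw [CT.conjFun_mul, CT.conjFun_of_mem K (CT.isClassFunction_of_isIrr hθ) hk]
        exact hall y hy
      exact fun h => congrFun this h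
    have hab : ∀ x ∈ (⊤ : Subgroup L), ∀ y ∈ (⊤ : Subgroup L), x * y * x⁻¹ * y⁻¹ ∈ K := by
      intro a _ b _
      rw [← QuotientGroup.eq_one_iff]
      simp only [QuotientGroup.mk_mul, QuotientGroup.mk_inv]
      obtain ⟨k, hk, y, hy, rfl⟩ := hfact a
      obtain ⟨k', hk', z, hz, rfl⟩ := hfact b
      have hyz : y * z = z * y :=
        congrArg Subtype.val ((IsCyclic.commGroup (α := W₁)).mul_comm ⟨y, hy⟩ ⟨z, hz⟩)
      have h1 : (QuotientGroup.mk y : L ⧸ K) * QuotientGroup.mk z = QuotientGroup.mk z * QuotientGroup.mk y := by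
        rw [← QuotientGroup.mk_mul, hyz, QuotientGroup.mk_mul]
      simp only [QuotientGroup.mk_mul, (QuotientGroup.eq_one_iff _).mpr hk,
        (QuotientGroup.eq_one_iff _).mpr hk', one_mul]
      rw [h1]; group
    obtain ⟨e, C, -, hC', hcard, hsum, -, h1⟩ := OddChar.clifford_induced_decomp K ⊤ θ hθ htop hab
    have he := h1 (by rw [Subgroup.relIndex_top_right, hidxK]; exact (hidx ▸ hHall).symm)
    subst he
    exact ⟨C, by simpa [Subgroup.relIndex_top_right, hidxK] using hcard, hC', by simpa using hsum⟩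

end Cfsg.Agent.S1513
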