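import Cfsg.Statements.S1515
import Cfsg.Agent.Lib.OddChar.Coherence

set_option autoImplicit false
open Cfsg

namespace Cfsg.Agent.S1515

/-- Let (S, τ, R) be a coherence system from L to G, χ ∈ S, and ψ an integer combination of S with ⟨χ, ψ⟩ = ⟨conj χ, ψ⟩ = 0. Let τ₁ be a linear isometry on the integer combinations of χ − ψ and χ − conj χ, with virtual-character values, agreeing with τ on integer multiples of χ − conj χ. Then the sum over α ∈ R χ of the squared absolute values of ⟨τ₁(χ − ψ), α⟩ is at least ⟨χ, χ⟩; and if ⟨τ₁(χ − ψ), τ₁(χ − ψ)⟩ minus that sum is at least ⟨ψ, ψ⟩, then the sum equals ⟨χ, χ⟩ and every ⟨τ₁(χ − ψ), α⟩ with α ∈ R χ is 0 or 1. -/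
theorem result {L : Type*} [Group L] [Fintype L] {G : Type*} [Group G] [Fintype G] (S : Set (L → ℂ)) (τ : (L → ℂ) → (G → ℂ)) (R : (L → ℂ) → Finset (G → ℂ)) (hS : Cfsg.IsCoherenceSystem S τ R) (χ : L → ℂ) (hχ : χ ∈ S) (ψ : L → ℂ) (hψ : ψ ∈ Cfsg.zspan S) (h1 : Cfsg.classInner χ ψ = 0) (h2 : Cfsg.classInner (Cfsg.conjFun χ) ψ = 0) (τ₁ : (L → ℂ) → (G → ℂ)) (hτ₁ : Cfsg.IsLinearIsometryOn (Cfsg.zspan {χ - ψ, χ - Cfsg.conjFun χ}) τ₁) (hagree : ∀ n : ℤ, τ₁ (n • (χ - Cfsg.conjFun χ)) = τ (n • (χ - Cfsg.conjFun χ))) : (Cfsg.classInner χ χ).re ≤ ∑ α ∈ R χ, ‖Cfsg.classInner (τ₁ (χ - ψ)) α‖ ^ 2 ∧ ((Cfsg.classInner ψ ψ).re ≤ (Cfsg.classInner (τ₁ (χ - ψ)) (τ₁ (χ - ψ))).re - ∑ α ∈ R χ, ‖Cfsg.classInner (τ₁ (χ - ψ)) α‖ ^ 2 → (∑ α ∈ R χ, ‖Cfsg.classInner (τ₁ (χ - ψ)) α‖ ^ 2 = (Cfsg.classInner χ χ).re ∧ ∀ α ∈ R χ, Cfsg.classInner (τ₁ (χ - ψ)) α = 0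 ∨ Cfsg.classInner (τ₁ (χ - ψ)) α = 1)) := by
  classical
  have hmem := OddChar.cs_conj_diff_mem hS hχ
  have m1 : χ - ψ ∈ Cfsg.zspan {χ - ψ, χ - Cfsg.conjFun χ} := OddChar.zspan_self (Or.inl rfl)
  have m2 : χ - Cfsg.conjFun χ ∈ Cfsg.zspan {χ - ψ, χ - Cfsg.conjFun χ} :=
    OddChar.zspan_self (Or.inr rfl)
  have ha := hagree 1
  simp only [one_smul] at ha
  obtain ⟨n, -, hn⟩ := OddChar.cs_norm hS hχ
  have hconj := hS.orthogonal χ hχ _ (hS.conj_mem χ hχ) (hS.conj_ne χ hχ).symm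
  have h1' : Cfsg.classInner ψ χ = 0 := OddChar.isSigned_inner_symm_eq_zero h1
  have h2' : Cfsg.classInner ψ (Cfsg.conjFun χ) = 0 := OddChar.isSigned_inner_symm_eq_zero h2
  have hT : Cfsg.classInner (τ₁ (χ - ψ)) (τ (χ - Cfsg.conjFun χ)) = ((n : ℤ) : ℂ) := by
    rw [← ha, hτ₁.2.2.1 _ m1 _ m2]
    simp [CT.classInner_sub_left, CT.classInner_sub_right, hconj, h1', h2', hn]
  obtain ⟨c, hc, -, hle, hsub⟩ := OddChar.cs_projection hS hχ (hτ₁.2.2.2 _ m1) hT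
  have hnorm : ∀ α ∈ R χ, ‖Cfsg.classInner (τ₁ (χ - ψ)) α‖ ^ 2 = ((c α ^ 2 : ℤ) : ℝ) := by
    intro α hα
    rw [hc α hα, Complex.norm_intCast]
    push_cast
    exact sq_abs _
  rw [Finset.sum_congr rfl hnorm, ← Int.cast_sum, hn, Complex.natCast_re]
  refine ⟨by exact_mod_cast hle, fun hle2 => ?_⟩
  have e : Cfsg.classInner (τ₁ (χ - ψ)) (τ₁ (χ - ψ)) = (n : ℂ) + Cfsg.classInner ψ ψ := by
    rw [hτ₁.2.2.1 _ m1 _ m1]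
    simp [CT.classInner_sub_left, CT.classInner_sub_right, h1, h1', hn]
  rw [e, Complex.add_re, Complex.natCast_re] at hle2
  have h4 : ((∑ α ∈ R χ, c α ^ 2 : ℤ) : ℝ) ≤ ((n : ℤ) : ℝ) := by push_cast at hle2 ⊢; linarith
  have h5 : ∑ α ∈ R χ, c α ^ 2 ≤ (n : ℤ) := Int.cast_le.mp h4
  refine ⟨by exact_mod_cast le_antisymm h5 hle, fun α hα => ?_⟩
  rw [hc α hα]
  rcases hsub h5 α hα with h | h <;> simp [h]

end Cfsg.Agent.S1515
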