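import Cfsg.Statements.S1518
import Cfsg.Agent.Lib.OddChar.DadeGen
import Cfsg.Agent.Lib.OddChar.Coherence
import Cfsg.Agent.S1500

set_option autoImplicit false
open Cfsg

namespace Cfsg.Agent.S1518

/-- Under the Dade hypothesis for (A, L, H): if χ is an irreducible character of L vanishing at every non-identity element of L outside A, then the Dade image of χ − conj χ equals μ − conj μ for some irreducible character μ of G. -/
theorem result {G : Type*} [Group G] [Fintype G] (A : Set G) (L : Subgroup G) [Fintype L] (H : G → Subgroup G) (hD : Cfsg.DadeHypothesis A L H) (χ : L → ℂ) (hχ : Cfsg.IsIrrCharacter L χ) (hsupp : ∀ x : L, x ≠ 1 → (x : G) ∉ A → χ x = 0) : ∃ μ : G → ℂ, Cfsg.IsIrrCharacter G μ ∧ Cfsg.dadeIsometry A L H (χ - Cfsg.conjFun χ) = μ - Cfsg.conjFun μ := by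
  classical
  have hcχ : Cfsg.IsCharacter L (Cfsg.conjFun χ) := CT.isCharacter_conj (CT.isCharacter_of_isIrr hχ)
  have h1 : Cfsg.conjFun χ 1 = χ 1 := OddChar.conjFun_one_of_char (CT.isCharacter_of_isIrr hχ)
  have hcirr : Cfsg.IsIrrCharacter L (Cfsg.conjFun χ) := by
    refine CT.isIrr_of_isGen_norm_one (CT.isGen_of_isCharacter hcχ) ?_ ?_
    · rw [OddChar.classInner_conjFun_conjFun]
      simp [CT.irr_inner_self hχ]
    · rw [h1, CT.deg_eq (CT.isCharacter_of_isIrr hχ)]
      simpa using CT.deg_pos hχ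
  obtain ⟨β, hβdef⟩ : ∃ β, β = χ - Cfsg.conjFun χ := ⟨_, rfl⟩
  have hβ : Cfsg.IsGeneralizedCharacter L β :=
    hβdef ▸ CT.isGen_sub (CT.isGen_of_isIrr hχ) (CT.isGen_of_isIrr hcirr)
  have hβA : ∀ x : L, (x : G) ∉ A → β x = 0 := by
    intro x hx
    rw [hβdef]
    by_cases e : x = 1
    · subst e
      simp [h1]
    · simp [Cfsg.conjFun, hsupp x e hx]
  have hconj : Cfsg.conjFun (Cfsg.dadeIsometry A L H β) = -Cfsg.dadeIsometry A L H β := by
    funext g
    have key : ∀ x : L, (starRingEnd ℂ) (β x) = -β x := fun x => by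
      simp [hβdef, Cfsg.conjFun]
    simp only [Cfsg.conjFun, Pi.neg_apply, Cfsg.dadeIsometry]
    split
    · exact key _
    · simp
  rw [← hβdef]
  by_cases hself : Cfsg.conjFun χ = χ
  · refine ⟨fun _ => 1, CT.isIrrCharacter_one, ?_⟩
    funext g
    have : β = 0 := by rw [hβdef, hself, sub_self]
    simp only [this, Cfsg.dadeIsometry, Pi.sub_apply, Cfsg.conjFun, map_one, sub_self]
    split <;> rfl
  obtain ⟨T, hTdef⟩ : ∃ T, T = Cfsg.dadeIsometry A L H β := ⟨_, rfl⟩
  rw [← hTdef] at hconj ⊢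
  have hT : Cfsg.IsGeneralizedCharacter G T := hTdef ▸ OddChar.dade_isGen hD hβ hβA
  have hT1 : T 1 = 0 := by
    rw [hTdef]
    refine OddChar.dadeIsometry_eq_zero ?_
    rintro ⟨a, ha, u, hu, y, hy⟩
    have : a = u⁻¹ := eq_inv_of_mul_eq_one_left (by rw [← hy]; group)
    have h2 : a ∈ H a ⊓ (L ⊓ Subgroup.centralizer ({a} : Set G)) :=
      Subgroup.mem_inf.mpr ⟨by rw [this] at hu ⊢; exact inv_mem hu,
        Subgroup.mem_inf.mpr ⟨hD.subset ha, Subgroup.mem_centralizer_singleton_iff.mpr rfl⟩⟩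
    rw [hD.inf_eq_bot a ha, Subgroup.mem_bot] at h2
    exact hD.one_not_mem (h2 ▸ ha)
  have hn : Cfsg.classInner T T = 2 := by
    rw [hTdef, (Cfsg.Agent.S1500.result A L H hD β (CT.isClassFunction_of_isGen hβ) hβA).1 β
      (CT.isClassFunction_of_isGen hβ) hβA, hβdef, CT.classInner_sub_left, CT.classInner_sub_right,
      CT.classInner_sub_right, CT.irr_inner_self hχ, CT.irr_inner_self hcirr, CT.irr_inner hχ hcirr,
      CT.irr_inner hcirr hχ, if_neg (fun h => hself h.symm), if_neg hself]
    norm_num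
  obtain ⟨x, y, hx, hy, hxy, hsum⟩ := OddChar.gen_norm_two hT hn
  obtain ⟨cx, hcxdef⟩ : ∃ cx, cx = Cfsg.conjFun x := ⟨_, rfl⟩
  have hx1 : cx 1 = x 1 := by
    rcases hx with h | h
    · exact hcxdef ▸ OddChar.conjFun_one_of_char (CT.isCharacter_of_isIrr h)
    · have := OddChar.conjFun_one_of_char (CT.isCharacter_of_isIrr h)
      simpa [hcxdef, Cfsg.conjFun] using this
  have hcx : OddChar.IsSigned cx := by
    refine OddChar.isSigned_of_norm_one ?_ ?_
    · rcases hx with h | h
      · exact hcxdef ▸ CT.isGen_of_isCharacter (CT.isCharacter_conj (CT.isCharacter_of_isIrr h))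
      · have := CT.isGen_neg (CT.isGen_of_isCharacter (CT.isCharacter_conj (CT.isCharacter_of_isIrr h)))
        convert this using 1
        funext g
        simp [hcxdef, Cfsg.conjFun]
    · rw [hcxdef, OddChar.classInner_conjFun_conjFun, OddChar.isSigned_norm hx]
      simp
  have hTx : Cfsg.classInner T x = 1 := by
    rw [hsum, CT.classInner_add_left, OddChar.isSigned_norm hx,
      OddChar.isSigned_inner_symm_eq_zero hxy, add_zero]
  have hTcx : Cfsg.classInner T cx = -1 := by
    have h := OddChar.classInner_conjFun_conjFun T x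
    rw [hconj, hTx, CT.classInner_neg_left, ← hcxdef] at h
    simpa [neg_eq_iff_eq_neg] using h
  rw [hsum, CT.classInner_add_left] at hTcx
  have hxcx : Cfsg.classInner x cx = 0 := by
    rcases OddChar.isSigned_inner hx hcx with h | ⟨e, he, hei, hee⟩
    · exact h
    exfalso
    have he1 : e = 1 := by
      have := congrFun hee 1
      rw [Pi.smul_apply, smul_eq_mul, hx1] at this
      rcases he with rfl | rfl
      · rfl
      · exact absurd (by linear_combination this / 2 : x 1 = 0) (OddChar.isSigned_one_ne_zero hx)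
    rw [hei, he1] at hTcx
    rcases OddChar.isSigned_inner hy hcx with h | ⟨d, hd, hdi, _⟩
    · rw [h] at hTcx; norm_num at hTcx
    · rw [hdi] at hTcx
      rcases hd with rfl | rfl <;> norm_num at hTcx
  rw [hxcx, zero_add] at hTcx
  have hy' : y = -cx := by
    rcases OddChar.isSigned_inner hy hcx with h | ⟨d, hd, hdi, hde⟩
    · rw [h] at hTcx; norm_num at hTcx
    · rw [hdi] at hTcx
      rw [hde, hTcx, neg_one_smul]
  rcases hx with h | h
  · exact ⟨x, h, by rw [hsum, hy', hcxdef]; exact (sub_eq_add_neg _ _).symm⟩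
  · refine ⟨Cfsg.conjFun (-x), ?_, ?_⟩
    · refine CT.isIrr_of_isGen_norm_one
        (CT.isGen_of_isCharacter (CT.isCharacter_conj (CT.isCharacter_of_isIrr h))) ?_ ?_
      · rw [OddChar.classInner_conjFun_conjFun, CT.irr_inner_self h]
        simp
      · rw [OddChar.conjFun_one_of_char (CT.isCharacter_of_isIrr h),
          CT.deg_eq (CT.isCharacter_of_isIrr h)]
        simpa using CT.deg_pos h
    · rw [hsum, hy', hcxdef, OddChar.conjFun_conjFun]
      funext g
      simp [Cfsg.conjFun]
      ring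

end Cfsg.Agent.S1518
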