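import Cfsg.Statements.S1524
import Cfsg.Agent.Lib.CohExt.SibleyMain

set_option autoImplicit false
open Cfsg

namespace Cfsg.Agent.S1524

/-- Let G be a finite group and H ≤ L subgroups with L of odd order, H ≠ ⊥ nilpotent and normal in L with a nontrivial complement W₁ in L (H ⊓ W₁ = ⊥, H ⊔ W₁ = L) acting on H without non-identity fixed points (L is a Frobenius group with kernel H), and suppose the underlying set of H is a TI-subset of G whose normaliser is L. Let S be the set of functions on L induced from the non-principal irreducible characters of H. Then (S, L minus 1, induction to G) is coherent. -/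
theorem result {G : Type*} [Group G] [Fintype G] (H L W₁ : Subgroup G) [Fintype L] (hodd : Odd (Nat.card L)) (hHL : H ≤ L) (hW₁L : W₁ ≤ L) (hH1 : H ≠ ⊥) (hW1 : W₁ ≠ ⊥) (hnil : Group.IsNilpotent H) (hHn : ∀ x ∈ L, ∀ h ∈ H, x * h * x⁻¹ ∈ H) (hinf : H ⊓ W₁ = ⊥) (hsup : H ⊔ W₁ = L) (hfpf : ∀ w ∈ W₁, w ≠ 1 → ∀ h ∈ H, w * h = h * w → h = 1) (hTI : Cfsg.IsTISubset (H : Set G)) (hN : Subgroup.normalizer (H : Set G) = L) : Cfsg.IsCoherent (Cfsg.inducedIrrAbove (H.subgroupOf L) ⊥) {1}ᶜ (fun α : L → ℂ => Cfsg.indFun L α) := by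
  classical
  subst hN
  rw [← CohExt.FrobSet.coe_ntAbove]
  have hC : ∀ n ∈ H.subgroupOf (Subgroup.normalizer (H : Set G)), n ≠ 1 → Subgroup.centralizer ({n} : Set (Subgroup.normalizer (H : Set G))) ≤ H.subgroupOf (Subgroup.normalizer (H : Set G)) := by
    intro h hh hh1 c hc
    have hcomm : (c : G) * h = h * c := congrArg Subtype.val (Subgroup.mem_centralizer_singleton_iff.mp hc)
    have htop : H.subgroupOf (Subgroup.normalizer (H : Set G)) ⊔ W₁.subgroupOf (Subgroup.normalizer (H : Set G)) = ⊤ := by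
      rw [← Subgroup.subgroupOf_sup hHL hW₁L, hsup, Subgroup.subgroupOf_self]
    obtain ⟨k, hk, w, hw, hkw⟩ := Subgroup.mem_sup_of_normal_left.mp (htop.ge (Subgroup.mem_top c))
    by_cases hw1 : w = 1
    · rw [← hkw, hw1, mul_one]
      exact hk
    exfalso
    let f : H.subgroupOf (Subgroup.normalizer (H : Set G)) → H.subgroupOf (Subgroup.normalizer (H : Set G)) := fun x =>
      ⟨(x : (Subgroup.normalizer (H : Set G)))⁻¹ * (w * (x : (Subgroup.normalizer (H : Set G))) * w⁻¹), mul_mem (inv_mem x.2) (Subgroup.Normal.conj_mem inferInstance _ x.2 w)⟩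
    have hinj : Function.Injective f := by
      intro x y e
      have e' : (x : (Subgroup.normalizer (H : Set G)))⁻¹ * (w * (x : (Subgroup.normalizer (H : Set G))) * w⁻¹) = (y : (Subgroup.normalizer (H : Set G)))⁻¹ * (w * (y : (Subgroup.normalizer (H : Set G))) * w⁻¹) := congrArg Subtype.val e
      have h1 : w * ((y : (Subgroup.normalizer (H : Set G))) * (x : (Subgroup.normalizer (H : Set G)))⁻¹) = ((y : (Subgroup.normalizer (H : Set G))) * (x : (Subgroup.normalizer (H : Set G)))⁻¹) * w := by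
        calc w * ((y : (Subgroup.normalizer (H : Set G))) * (x : (Subgroup.normalizer (H : Set G)))⁻¹)
            = (y : (Subgroup.normalizer (H : Set G))) * ((y : (Subgroup.normalizer (H : Set G)))⁻¹ * (w * (y : (Subgroup.normalizer (H : Set G))) * w⁻¹)) * w * (x : (Subgroup.normalizer (H : Set G)))⁻¹ := by group
          _ = ((y : (Subgroup.normalizer (H : Set G))) * (x : (Subgroup.normalizer (H : Set G)))⁻¹) * w := by rw [← e']; group
      have h2 := hfpf (w : G) hw (fun e2 => hw1 (Subtype.ext e2)) _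
        (mul_mem y.2 (inv_mem x.2) : ((y : (Subgroup.normalizer (H : Set G))) * (x : (Subgroup.normalizer (H : Set G)))⁻¹) ∈ H.subgroupOf (Subgroup.normalizer (H : Set G))) (congrArg Subtype.val h1)
      exact Subtype.ext (mul_inv_eq_one.mp (Subtype.ext h2)).symm
    obtain ⟨x, hx⟩ := Finite.injective_iff_surjective.mp hinj ⟨k, hk⟩
    have hx' : (x : (Subgroup.normalizer (H : Set G)))⁻¹ * (w * (x : (Subgroup.normalizer (H : Set G))) * w⁻¹) = k := congrArg Subtype.val hx
    have hc' : c = (x : (Subgroup.normalizer (H : Set G)))⁻¹ * w * x := by rw [← hkw, ← hx']; group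
    have hmem : (x : (Subgroup.normalizer (H : Set G))) * h * (x : (Subgroup.normalizer (H : Set G)))⁻¹ ∈ H.subgroupOf (Subgroup.normalizer (H : Set G)) := Subgroup.Normal.conj_mem inferInstance _ hh x
    have hcL : c * h = h * c := Subtype.ext hcomm
    have h1 : w * ((x : (Subgroup.normalizer (H : Set G))) * h * (x : (Subgroup.normalizer (H : Set G)))⁻¹) = ((x : (Subgroup.normalizer (H : Set G))) * h * (x : (Subgroup.normalizer (H : Set G)))⁻¹) * w := by
      calc w * ((x : (Subgroup.normalizer (H : Set G))) * h * (x : (Subgroup.normalizer (H : Set G)))⁻¹) = (x : (Subgroup.normalizer (H : Set G))) * (((x : (Subgroup.normalizer (H : Set G)))⁻¹ * w * x) * h) * (x : (Subgroup.normalizer (H : Set G)))⁻¹ := by group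
        _ = ((x : (Subgroup.normalizer (H : Set G))) * h * (x : (Subgroup.normalizer (H : Set G)))⁻¹) * w := by rw [← hc', hcL, hc']; group
    have h2 := hfpf (w : G) hw (fun e2 => hw1 (Subtype.ext e2)) _ hmem (congrArg Subtype.val h1)
    exact hh1 (conj_eq_one_iff.mp (Subtype.ext h2))
  have hlt : H < (Subgroup.normalizer (H : Set G)) := lt_of_le_of_ne hHL fun e => hW1 (by rw [← hinf]; exact (inf_eq_right.mpr (hW₁L.trans e.ge)).symm)
  have hQ1 := CohExt.SibleyMain.ne_bot H hH1
  have hQt := CohExt.SibleyMain.ne_top H hlt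
  have hoQ : Odd (Nat.card H) := hodd.of_dvd_nat (Subgroup.card_dvd_of_le hHL)
  have he : Odd (H.subgroupOf (Subgroup.normalizer (H : Set G))).index := hodd.of_dvd_nat (H.subgroupOf (Subgroup.normalizer (H : Set G))).index_dvd_card
  by_cases hab : IsMulCommutative H
  · refine (CohExt.SibleyMain.abelian_cases H hC hH1 hlt hTI hab).resolve_left ?_
    rintro ⟨-, h2, -⟩
    rw [h2] at hoQ
    exact Nat.not_even_iff_odd.mpr hoQ (he.add_one)
  rcases CohExt.Feit.coherent_or (H.subgroupOf (Subgroup.normalizer (H : Set G))) hC _ (CohExt.SibleyMain.tau_iso H hC hTI)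
    (CohExt.SibleyMain.tau_one H) hQ1 hQt (CohExt.SibleyMain.card_ne H hC hH1 hlt hnil hab) with h | ⟨p, hp, ⟨m, hm⟩, -, -⟩
  · exact h
  rw [CohExt.SibleyMain.card_eq H] at hm
  haveI : Fact p.Prime := ⟨hp⟩
  obtain ⟨P, rfl⟩ := CohExt.SibleyMain.is_sylow H hC hH1 hlt hm
  refine CohExt.SibleyMain.sylow_coherent P ?_ hab hTI hlt hC
  rintro rfl
  refine Nat.not_even_iff_odd.mpr hoQ ?_
  rw [hm, Nat.even_pow]
  exact ⟨even_two, fun h0 => hH1 (Subgroup.card_eq_one.mp (by rw [hm, h0, pow_zero]))⟩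

end Cfsg.Agent.S1524
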