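import Cfsg.Statements.S1525
import Cfsg.Agent.Lib.OddChar.DadeSum

set_option autoImplicit false
open Cfsg

namespace Cfsg.Agent.S1525

/-- Under the Dade hypothesis for (A, L, H), let χ be a class function of G and let ψ be a function on L whose value at each a ∈ A is the average of χ over the coset a·H(a). Then (1/|G|) Σ |χ g|² over the elements g of G conjugate into some coset a·H(a) with a ∈ A is at least (1/|L|) Σ_{a ∈ A ∩ L} |ψ a|². -/
theorem result {G : Type*} [Group G] [Fintype G] (A : Set G) (L : Subgroup G) [Fintype L] (H : G → Subgroup G) (hD : Cfsg.DadeHypothesis A L H) (χ : G → ℂ) (hχ : Cfsg.IsClassFunction G χ) (ψ : L → ℂ) (hψ : ∀ a : L, (a : G) ∈ A → ψ a = (Nat.card (H a) : ℂ)⁻¹ * ∑ᶠ u ∈ (H a : Set G), χ (a * u)) : (Nat.card L : ℝ)⁻¹ * ∑ᶠ a ∈ {a : L | (a : G) ∈ A}, ‖ψ a‖ ^ 2 ≤ (Nat.card G : ℝ)⁻¹ * ∑ᶠ g ∈ {g : G | ∃ a ∈ A, ∃ u ∈ H a, ∃ x : G, x * g * x⁻¹ = a * u}, ‖χ g‖ ^ 2 :=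 by
  classical
  have h := OddChar.dade_sum hD (fun g => ((‖χ g‖ ^ 2 : ℝ) : ℂ))
  have hG : (Nat.card G : ℝ) ≠ 0 := Nat.cast_ne_zero.mpr Nat.card_pos.ne'
  have hcs : ∀ a : L, (a : G) ∈ A → ‖ψ a‖ ^ 2 ≤ (Nat.card (H (a : G)) : ℝ)⁻¹ *
      ∑ u ∈ (H (a : G) : Set G).toFinset, ‖χ ((a : G) * u)‖ ^ 2 := by
    intro a ha
    rw [hψ a ha, finsum_mem_eq_toFinset_sum, norm_mul, norm_inv, Complex.norm_natCast, mul_pow]
    have hn : (0 : ℝ) < Nat.card (H (a : G)) := Nat.cast_pos.mpr Nat.card_pos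
    have h1 : (∑ u ∈ (H (a : G) : Set G).toFinset, ‖χ ((a : G) * u)‖) ^ 2 ≤
        (Nat.card (H (a : G)) : ℝ) * ∑ u ∈ (H (a : G) : Set G).toFinset, ‖χ ((a : G) * u)‖ ^ 2 := by
      refine sq_sum_le_card_mul_sum_sq.trans_eq ?_
      rw [Set.toFinset_card, ← Nat.card_eq_fintype_card]
      rfl
    calc _ ≤ ((Nat.card (H (a : G)) : ℝ)⁻¹) ^ 2 *
          ((Nat.card (H (a : G)) : ℝ) * ∑ u ∈ (H (a : G) : Set G).toFinset, ‖χ ((a : G) * u)‖ ^ 2) := by
          refine mul_le_mul_of_nonneg_left (le_trans ?_ h1) (sq_nonneg _)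
          exact pow_le_pow_left₀ (norm_nonneg _) (norm_sum_le _ _) 2
      _ = _ := by field_simp
  simp only [hχ _] at h
  simp only [Finset.sum_const, Finset.card_univ, ← Nat.card_eq_fintype_card, nsmul_eq_mul,
    finsum_mem_eq_toFinset_sum, ← Complex.ofReal_natCast, ← Complex.ofReal_inv,
    ← Complex.ofReal_mul, ← Complex.ofReal_sum, Complex.ofReal_inj, OddChar.dadeSupport] at h
  rw [finsum_mem_eq_toFinset_sum, finsum_mem_eq_toFinset_sum, h, Finset.mul_sum, Finset.mul_sum,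
    Finset.mul_sum]
  refine Finset.sum_le_sum fun a ha => ?_
  refine (mul_le_mul_of_nonneg_left (hcs a ((Set.mem_toFinset (s := {a : L | (a : G) ∈ A})).mp ha)) (by positivity)).trans_eq ?_
  rw [← Finset.mul_sum]
  field_simp

end Cfsg.Agent.S1525
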