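import Cfsg.Statements.S1528
import Cfsg.Agent.Lib.OddChar.CliffordExtra

set_option autoImplicit false
open Cfsg

namespace Cfsg.Agent.S1528

/-- Let N be a normal subgroup of the finite group G such that every element of G commuting with a non-identity element of N lies in N. If χ is an irreducible character of G with χ n ≠ χ 1 for some n ∈ N, then χ is the function induced from some irreducible character of N. -/
theorem result {G : Type*} [Group G] [Fintype G] (N : Subgroup G) [N.Normal] (hC : ∀ n ∈ N, n ≠ 1 → Subgroup.centralizer ({n} : Set G) ≤ N) (χ : G → ℂ) (hχ : Cfsg.IsIrrCharacter G χ) (hker : ∃ n ∈ N, χ n ≠ χ 1) : ∃ φ : N → ℂ, Cfsg.IsIrrCharacter N φ ∧ χ = Cfsg.indFun N φ := by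
  classical
  haveI := Fintype.ofFinite N
  obtain ⟨φ, hφ⟩ := CT.exists_constituent_restrict N hχ
  have hne : (φ : N → ℂ) ≠ fun _ => 1 := by
    intro e
    obtain ⟨n, hn, hne⟩ := hker
    have hinv : ∀ g, CT.conjFun N g (φ : N → ℂ) = φ := fun g => by rw [e]; rfl
    have h := CT.restrict_eq_smul_of_invariant N hχ φ.2 hφ hinv
    have h1 := congrFun h ⟨n, hn⟩
    have h2 := congrFun h 1
    simp only [e, Pi.smul_apply] at h1 h2
    exact hne (h1.trans h2.symm)
  have hinert : CT.inertia N (φ : N → ℂ) = N := by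
    refine le_antisymm (fun g hg => ?_) (CT.le_inertia N (CT.isClassFunction_of_isIrr φ.2))
    obtain ⟨k, hk, hk1, h, hh, e⟩ := (OddChar.exists_fixed_irr_iff N g).mp ⟨φ, φ.2, hne, hg⟩
    have h1 : h⁻¹ * g ∈ N := by
      refine hC k hk hk1 (Subgroup.mem_centralizer_singleton_iff.mpr ?_)
      calc h⁻¹ * g * k = h⁻¹ * (g * k * g⁻¹) * g := by group
        _ = k * (h⁻¹ * g) := by rw [e]; group
    simpa using N.mul_mem hh h1
  have hirr := CT.isIrr_indFun_of_inertia N φ.2 hinert
  refine ⟨φ, φ.2, CT.eq_of_inner_ne_zero hχ hirr ?_⟩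
  rw [CT.frobenius_reciprocity' N (CT.isClassFunction_of_isIrr hχ)]
  exact hφ

end Cfsg.Agent.S1528
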