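import Cfsg.Statements.S1529
import Cfsg.Agent.Lib.OddChar.Coherence

set_option autoImplicit false
open Cfsg

namespace Cfsg.Agent.S1529

/-- Let N be a subgroup of the finite group G, S a set of irreducible characters of N with at least two members, and τ₁ a linear isometry on the integer combinations of S with virtual-character values such that τ₁ α vanishes at 1 whenever α ∈ ℤ[S] does. Then there is ε ∈ {1, −1} such that ε • τ₁ χ is an irreducible character of G for every χ ∈ S, and distinct members of S give distinct characters. -/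
theorem result {G : Type*} [Group G] [Fintype G] (N : Subgroup G) [Fintype N] (S : Set (N → ℂ)) (hirr : ∀ χ ∈ S, Cfsg.IsIrrCharacter N χ) (htwo : ∃ χ ∈ S, ∃ ψ ∈ S, χ ≠ ψ) (τ₁ : (N → ℂ) → (G → ℂ)) (hτ₁ : Cfsg.IsLinearIsometryOn (Cfsg.zspan S) τ₁) (h0 : ∀ α ∈ Cfsg.zspan S, α 1 = 0 → τ₁ α 1 = 0) : ∃ ε : ℂ, (ε = 1 ∨ ε = -1) ∧ (∀ χ ∈ S, Cfsg.IsIrrCharacter G (ε • τ₁ χ)) ∧ (∀ χ ∈ S, ∀ ψ ∈ S, τ₁ χ = τ₁ ψ → χ = ψ) := by
  classical
  have hsg : ∀ χ ∈ S, OddChar.IsSigned (τ₁ χ) := fun χ hχ => OddChar.isometry_signed hτ₁ hχ (hirr χ hχ)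
  have hrat : ∀ χ ∈ S, ∀ ψ ∈ S,
      (CT.deg ψ : ℂ) * τ₁ χ 1 = (CT.deg χ : ℂ) * τ₁ ψ 1 := by
    intro χ hχ ψ hψ
    obtain ⟨hm, hm1⟩ := OddChar.zspanOn_iff.mp
      (OddChar.deg_comb_mem hχ hψ (CT.deg_eq (CT.isCharacter_of_isIrr (hirr χ hχ)))
        (CT.deg_eq (CT.isCharacter_of_isIrr (hirr ψ hψ))))
    have h := h0 _ hm hm1
    rw [OddChar.iso_zspan_sub hτ₁ (OddChar.zspan_smul _ (OddChar.zspan_self hχ))
      (OddChar.zspan_smul _ (OddChar.zspan_self hψ)), hτ₁.2.1 _ (OddChar.zspan_self hχ),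
      hτ₁.2.1 _ (OddChar.zspan_self hψ)] at h
    simpa [sub_eq_zero] using h
  obtain ⟨χ₀, hχ₀, -⟩ := htwo
  obtain ⟨e, he, heirr⟩ : ∃ e : ℂ, (e = 1 ∨ e = -1) ∧ Cfsg.IsIrrCharacter G (e • τ₁ χ₀) := by
    rcases hsg χ₀ hχ₀ with h | h
    · exact ⟨1, Or.inl rfl, by simpa using h⟩
    · exact ⟨-1, Or.inr rfl, by simpa using h⟩
  refine ⟨e, he, fun χ hχ => ?_, fun χ hχ ψ hψ h => ?_⟩
  · have hg : Cfsg.IsGeneralizedCharacter G (e • τ₁ χ) := by
      rcases he with rfl | rfl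
      · simpa using OddChar.isSigned_isGen (hsg χ hχ)
      · simpa using CT.isGen_neg (OddChar.isSigned_isGen (hsg χ hχ))
    refine CT.isIrr_of_isGen_norm_one hg ?_ ?_
    · rw [CT.classInner_smul_left, CT.classInner_smul_right, OddChar.isSigned_norm (hsg χ hχ)]
      rcases he with rfl | rfl <;> simp
    · have h1 := hrat χ₀ hχ₀ χ hχ
      have h2 : (CT.deg χ₀ : ℂ) * (e • τ₁ χ) 1 = (CT.deg χ : ℂ) * (CT.deg (e • τ₁ χ₀) : ℂ) := by
        rw [← CT.deg_eq (CT.isCharacter_of_isIrr heirr), Pi.smul_apply, Pi.smul_apply, smul_eq_mul,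
          smul_eq_mul]
        linear_combination (-e) * h1
      have h3 := congrArg Complex.re h2
      simp only [Complex.mul_re, Complex.natCast_re, Complex.natCast_im, zero_mul, mul_zero,
        sub_zero] at h3
      have p1 : (0 : ℝ) < CT.deg χ₀ := Nat.cast_pos.mpr (CT.deg_pos (hirr χ₀ hχ₀))
      have p2 : (0 : ℝ) < CT.deg χ := Nat.cast_pos.mpr (CT.deg_pos (hirr χ hχ))
      have p3 : (0 : ℝ) < CT.deg (e • τ₁ χ₀) := Nat.cast_pos.mpr (CT.deg_pos heirr)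
      by_contra hn
      nlinarith [mul_pos p2 p3]
  · by_contra hne
    have := hτ₁.2.2.1 χ (OddChar.zspan_self hχ) ψ (OddChar.zspan_self hψ)
    rw [h, OddChar.isSigned_norm (hsg ψ hψ), CT.irr_inner_of_ne (hirr χ hχ) (hirr ψ hψ) hne] at this
    exact one_ne_zero this

end Cfsg.Agent.S1529
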