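import Cfsg.Statements.S1530
import Cfsg.Agent.Lib.OddChar.Coherence

set_option autoImplicit false
open Cfsg

namespace Cfsg.Agent.S1530

/-- Let N be a subgroup of the finite group G and S₀ a finite set of irreducible characters of N, χ an irreducible character of N not in S₀, with degrees ξ 1 = d ξ. Let τ be a linear isometry on the integer combinations of S₀ ∪ {χ} vanishing at 1, with values virtual characters of G vanishing at 1, such that (S₀, N minus 1, τ) is coherent. If some ψ ∈ S₀ has d ψ dividing d χ and 2 · d ψ · d χ < Σ_{ξ ∈ S₀} (d ξ)², then (S₀ ∪ {χ}, N minus 1, τ) is coherent. -/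
theorem result {G : Type*} [Group G] [Fintype G] (N : Subgroup G) [Fintype N] (S₀ : Finset (N → ℂ)) (χ : N → ℂ) (hirr : ∀ ξ ∈ S₀, Cfsg.IsIrrCharacter N ξ) (hχ : Cfsg.IsIrrCharacter N χ) (hχS : χ ∉ S₀) (d : (N → ℂ) → ℕ) (hd : ∀ ξ ∈ insert χ S₀, ξ 1 = (d ξ : ℂ)) (τ : (N → ℂ) → (G → ℂ)) (hτ : Cfsg.IsLinearIsometryOn (Cfsg.zspanOn (↑(insert χ S₀) : Set (N → ℂ)) {1}ᶜ) τ) (hτ1 : ∀ α ∈ Cfsg.zspanOn (↑(insert χ S₀) : Set (N → ℂ)) {1}ᶜ, τ α 1 = 0) (hcoh : Cfsg.IsCoherent (↑S₀ : Set (N → ℂ)) {1}ᶜ τ) (ψ : N → ℂ) (hψ : ψ ∈ S₀) (hdvd : d ψ ∣ d χ) (hlt : 2 * d ψ * d χ < ∑ ξ ∈ S₀, d ξ ^ 2) : Cfsg.IsCoherent (↑(insert χ S₀) : Set (N → ℂ)) {1}ᶜ τ := by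
  classical
  obtain ⟨⟨α₀, hα₀, hα₀ne⟩, τ₁, hτ₁, hag⟩ := hcoh
  obtain ⟨T, hT⟩ : ∃ T, T = insert χ S₀ := ⟨_, rfl⟩
  rw [← hT] at hτ hτ1 ⊢
  have hTirr : ∀ ξ ∈ T, Cfsg.IsIrrCharacter N ξ := by
    intro ξ hξ
    rw [hT, Finset.mem_insert] at hξ
    rcases hξ with rfl | h
    exacts [hχ, hirr ξ h]
  have hdT : ∀ ξ ∈ T, ξ 1 = (d ξ : ℂ) := fun ξ hξ => hd ξ (hT ▸ hξ)
  have hsub : (↑S₀ : Set (N → ℂ)) ⊆ ↑T := by rw [hT]; exact fun x hx => Finset.mem_insert_of_mem hx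
  have hχT : χ ∈ T := by rw [hT]; exact Finset.mem_insert_self _ _
  have hψT : ψ ∈ T := hsub hψ
  have hne : ∀ ξ ∈ S₀, ξ ≠ χ := fun ξ hξ e => hχS (e ▸ hξ)
  have hdψ : 0 < d ψ := by
    refine Nat.pos_of_ne_zero fun h => CT.irr_one_ne_zero (hirr ψ hψ) ?_
    rw [hdT ψ hψT, h, Nat.cast_zero]
  have hz1 : ∀ ξ ∈ S₀, ξ ∈ Cfsg.zspan (↑S₀ : Set (N → ℂ)) := fun ξ h => OddChar.zspan_self h
  have horth : ∀ ξ ∈ T, ∀ η ∈ T, Cfsg.classInner ξ η = if ξ = η then 1 else 0 := fun ξ h η h' =>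
    CT.irr_inner (hTirr ξ h) (hTirr η h')
  obtain ⟨a, ha⟩ := hdvd
  have hm1 : χ - (a : ℤ) • ψ ∈ Cfsg.zspanOn (↑T : Set (N → ℂ)) {1}ᶜ :=
    OddChar.zspanOn_iff.mpr ⟨OddChar.zspan_sub (OddChar.zspan_self hχT)
      (OddChar.zspan_smul _ (OddChar.zspan_self hψT)), by simp [hdT χ hχT, hdT ψ hψT, ha, mul_comm]⟩
  obtain ⟨β, hβ⟩ : ∃ β, β = τ (χ - (a : ℤ) • ψ) := ⟨_, rfl⟩
  have hβg : Cfsg.IsGeneralizedCharacter G β := hβ ▸ hτ.2.2.2 _ hm1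
  have hββ : Cfsg.classInner β β = 1 + (a : ℂ) ^ 2 := by
    rw [hβ, hτ.2.2.1 _ hm1 _ hm1]
    simp only [CT.classInner_sub_left, CT.classInner_sub_right, OddChar.classInner_zsmul_left,
      OddChar.classInner_zsmul_right, horth χ hχT χ hχT, horth ψ hψT ψ hψT, horth χ hχT ψ hψT,
      horth ψ hψT χ hχT, if_pos, if_neg (hne ψ hψ), if_neg (hne ψ hψ).symm]
    push_cast
    ring
  have hint : ∀ φ : N → ℂ, ∃ k : ℤ, φ ∈ S₀ → Cfsg.classInner β (τ₁ φ) = k := by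
    intro φ
    by_cases h : φ ∈ S₀
    · obtain ⟨k, hk⟩ := OddChar.gen_inner_int hβg (hτ₁.2.2.2 φ (hz1 φ h))
      exact ⟨k, fun _ => hk⟩
    · exact ⟨0, fun h' => absurd h' h⟩
  choose k hk using hint
  obtain ⟨e, he⟩ : ∃ e : ℤ, e = k ψ + (a : ℤ) := ⟨_, rfl⟩
  have hrel : ∀ φ ∈ S₀, (d ψ : ℤ) * k φ =
      (d φ : ℤ) * e - if φ = ψ then (a : ℤ) * d ψ else 0 := by
    intro φ hφ
    by_cases h' : φ = ψ
    · subst h'
      rw [if_pos rfl, he]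
      ring
    have hm := OddChar.deg_comb_mem (S₁ := (↑S₀ : Set (N → ℂ))) hφ hψ (hdT φ (hsub hφ)) (hdT ψ hψT)
    have h : Cfsg.classInner β (τ₁ ((d ψ : ℤ) • φ - (d φ : ℤ) • ψ)) =
        Cfsg.classInner (χ - (a : ℤ) • ψ) ((d ψ : ℤ) • φ - (d φ : ℤ) • ψ) := by
      rw [hag _ hm, hβ, hτ.2.2.1 _ hm1 _ (OddChar.zspanOn_mono hsub hm)]
    rw [OddChar.iso_zspan_sub hτ₁ (OddChar.zspan_smul _ (hz1 φ hφ))
      (OddChar.zspan_smul _ (hz1 ψ hψ)), hτ₁.2.1 _ (hz1 φ hφ), hτ₁.2.1 _ (hz1 ψ hψ)] at h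
    simp only [CT.classInner_sub_left, CT.classInner_sub_right, OddChar.classInner_zsmul_left,
      OddChar.classInner_zsmul_right, hk φ hφ, hk ψ hψ, horth χ hχT φ (hsub hφ), horth χ hχT ψ hψT,
      horth ψ hψT φ (hsub hφ), horth ψ hψT ψ hψT, if_pos, if_neg (hne φ hφ).symm, if_neg (hne ψ hψ).symm,
      if_neg (Ne.symm h')] at h
    have h2 : ((((d ψ : ℤ) * k φ - (d φ : ℤ) * k ψ : ℤ)) : ℂ) = (((a : ℤ) * (d φ : ℤ) : ℤ) : ℂ) := by
      push_cast at h ⊢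
      linear_combination h
    have h3 : (d ψ : ℤ) * k φ - (d φ : ℤ) * k ψ = (a : ℤ) * (d φ : ℤ) := by exact_mod_cast h2
    rw [if_neg h', he, sub_zero]
    linarith
  have hdchi : (d χ : ℤ) = (a : ℤ) * d ψ := by rw [ha]; push_cast; ring
  obtain ⟨D, hD⟩ : ∃ D : ℤ, D = ∑ φ ∈ S₀, (d φ : ℤ) ^ 2 := ⟨_, rfl⟩
  have hlt' : 2 * (a : ℤ) * (d ψ : ℤ) ^ 2 < D := by
    rw [hD]
    have h : ((2 * d ψ * d χ : ℕ) : ℤ) < ((∑ ξ ∈ S₀, d ξ ^ 2 : ℕ) : ℤ) := by exact_mod_cast hlt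
    push_cast at h
    rw [hdchi] at h
    linarith
  have hsq : (d ψ : ℤ) ^ 2 * ∑ φ ∈ S₀, k φ ^ 2 =
      e ^ 2 * D - 2 * a * e * (d ψ : ℤ) ^ 2 + (a : ℤ) ^ 2 * (d ψ : ℤ) ^ 2 := by
    have hterm : ∀ φ ∈ S₀, (d ψ : ℤ) ^ 2 * k φ ^ 2 = e ^ 2 * (d φ : ℤ) ^ 2 +
        if φ = ψ then -(2 * a * e * (d ψ : ℤ) ^ 2) + (a : ℤ) ^ 2 * (d ψ : ℤ) ^ 2 else 0 := by
      intro φ hφ
      rw [← mul_pow, hrel φ hφ]
      by_cases h : φ = ψ
      · subst h; rw [if_pos rfl, if_pos rfl]; ring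
      · rw [if_neg h, if_neg h]; ring
    rw [Finset.mul_sum, Finset.sum_congr rfl hterm, Finset.sum_add_distrib, Finset.sum_ite_eq', if_pos hψ,
      ← Finset.mul_sum, ← hD]
    ring
  have hbes := OddChar.bessel S₀ τ₁ (fun φ => (k φ : ℂ)) β
    (fun i hi j hj hij => by
      rw [hτ₁.2.2.1 i (hz1 i hi) j (hz1 j hj), horth i (hsub hi) j (hsub hj), if_neg hij])
    (fun i hi => by
      rw [hk i hi, hτ₁.2.2.1 i (hz1 i hi) i (hz1 i hi), horth i (hsub hi) i (hsub hi), if_pos rfl, mul_one])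
  obtain ⟨hbn, hbo⟩ := hbes
  obtain ⟨W, hW⟩ : ∃ W, W = β - ∑ φ ∈ S₀, (k φ : ℂ) • τ₁ φ := ⟨_, rfl⟩
  rw [← hW] at hbn hbo
  have hWn : Cfsg.classInner W W = ((1 + (a : ℤ) ^ 2 - ∑ φ ∈ S₀, k φ ^ 2 : ℤ) : ℂ) := by
    rw [hbn, hββ]
    push_cast
    congr 1
    refine Finset.sum_congr rfl fun i hi => ?_
    rw [hτ₁.2.2.1 i (hz1 i hi) i (hz1 i hi), horth i (hsub hi) i (hsub hi), if_pos rfl]
    simp [pow_two]
  have hle : ∑ φ ∈ S₀, k φ ^ 2 ≤ 1 + (a : ℤ) ^ 2 := by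
    have := OddChar.classInner_self_re_nonneg W
    rw [hWn, Complex.intCast_re, Int.cast_nonneg_iff] at this
    linarith
  have hτ1ψ : ∀ φ ∈ S₀, (d ψ : ℂ) * τ₁ φ 1 = (d φ : ℂ) * τ₁ ψ 1 := by
    intro φ hφ
    have hm := OddChar.deg_comb_mem (S₁ := (↑S₀ : Set (N → ℂ))) hφ hψ (hdT φ (hsub hφ)) (hdT ψ hψT)
    have h := hτ1 _ (OddChar.zspanOn_mono hsub hm)
    rw [← hag _ hm, OddChar.iso_zspan_sub hτ₁ (OddChar.zspan_smul _ (hz1 φ hφ))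
      (OddChar.zspan_smul _ (hz1 ψ hψ)), hτ₁.2.1 _ (hz1 φ hφ), hτ₁.2.1 _ (hz1 ψ hψ)] at h
    simpa [sub_eq_zero] using h
  have ha1 : 1 ≤ a := by
    refine Nat.pos_of_ne_zero fun h => CT.irr_one_ne_zero hχ ?_
    rw [hdT χ hχT, ha, h, mul_zero, Nat.cast_zero]
  have he0 : e = 0 := by
    by_contra hne0
    have hdp : (1 : ℤ) ≤ (d ψ : ℤ) := by exact_mod_cast hdψ
    have hap : (1 : ℤ) ≤ (a : ℤ) := by exact_mod_cast ha1
    have h1 := mul_le_mul_of_nonneg_left hle (sq_nonneg (d ψ : ℤ))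
    rw [hsq] at h1
    obtain ⟨P, hP⟩ : ∃ P, P = (d ψ : ℤ) ^ 2 := ⟨_, rfl⟩
    rw [← hP] at h1 hlt'
    have hPp : 1 ≤ P := by rw [hP]; nlinarith
    have he2 : 0 < e ^ 2 := by positivity
    have h2 := mul_lt_mul_of_pos_left hlt' he2
    have he1 : e = 1 := by
      rcases lt_trichotomy e 1 with h | h | h
      · have he' : e ≤ -1 := by omega
        have h3 : 2 * (a : ℤ) * P * (e ^ 2 - e) < P := by nlinarith
        have h4 : 1 ≤ e ^ 2 - e := by nlinarith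
        have h5 : 2 * (a : ℤ) * P * 1 ≤ 2 * (a : ℤ) * P * (e ^ 2 - e) :=
          mul_le_mul_of_nonneg_left h4 (by positivity)
        nlinarith
      · exact h
      · have h3 : 2 * (a : ℤ) * P * (e ^ 2 - e) < P := by nlinarith
        have h4 : 1 ≤ e ^ 2 - e := by nlinarith
        have h5 : 2 * (a : ℤ) * P * 1 ≤ 2 * (a : ℤ) * P * (e ^ 2 - e) :=
          mul_le_mul_of_nonneg_left h4 (by positivity)
        nlinarith
    rw [he1] at hsq hrel h1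
    have hfull : ∑ φ ∈ S₀, k φ ^ 2 = 1 + (a : ℤ) ^ 2 := by
      refine le_antisymm hle ?_
      have h6 : (a : ℤ) ^ 2 * P < P * ∑ φ ∈ S₀, k φ ^ 2 := by
        rw [hP] at hlt' ⊢
        nlinarith
      have h7 : (a : ℤ) ^ 2 < ∑ φ ∈ S₀, k φ ^ 2 := by
        rw [mul_comm] at h6
        exact lt_of_mul_lt_mul_left h6 (by positivity)
      omega
    have hW0 : W = 0 := by
      apply OddChar.eq_zero_of_norm_re
      rw [hWn, hfull]
      simp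
    rw [hW, sub_eq_zero] at hW0
    have hβ1 : β 1 = 0 := hβ ▸ hτ1 _ hm1
    have hcalc : (d ψ : ℂ) ^ 2 * β 1 = ((D - (a : ℤ) * (d ψ : ℤ) ^ 2 : ℤ) : ℂ) * τ₁ ψ 1 := by
      rw [hW0, Finset.sum_apply, Finset.mul_sum, hD]
      have hterm : ∀ φ ∈ S₀, (d ψ : ℂ) ^ 2 * ((k φ : ℂ) • τ₁ φ) 1 =
          ((d φ : ℂ) ^ 2 - if φ = ψ then (a : ℂ) * (d ψ : ℂ) ^ 2 else 0) * τ₁ ψ 1 := by
        intro φ hφ
        have h := congrArg (fun z : ℤ => (z : ℂ)) (hrel φ hφ)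
        have h' := hτ1ψ φ hφ
        simp only [Pi.smul_apply, smul_eq_mul]
        by_cases hc : φ = ψ
        · subst hc
          rw [if_pos rfl] at h ⊢
          push_cast at h
          linear_combination ((d φ : ℂ) * τ₁ φ 1) * h
        · rw [if_neg hc] at h ⊢
          push_cast at h
          linear_combination ((d ψ : ℂ) * τ₁ φ 1) * h + (d φ : ℂ) * h'
      rw [Finset.sum_congr rfl hterm, ← Finset.sum_mul, Finset.sum_sub_distrib, Finset.sum_ite_eq',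
        if_pos hψ]
      push_cast
      ring
    rw [hβ1, mul_zero, eq_comm, mul_eq_zero] at hcalc
    rcases hcalc with h | h
    · rw [hP] at hlt'
      have : D - (a : ℤ) * (d ψ : ℤ) ^ 2 = 0 := by exact_mod_cast h
      nlinarith
    · exact OddChar.isSigned_one_ne_zero (OddChar.isometry_signed hτ₁ hψ (hirr ψ hψ)) h
  have hkφ : ∀ φ ∈ S₀, k φ = if φ = ψ then -(a : ℤ) else 0 := by
    intro φ hφ
    by_cases h' : φ = ψ
    · subst h'; rw [if_pos rfl]; omega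
    · have h := hrel φ hφ
      rw [he0, if_neg h', mul_zero, sub_zero] at h
      rw [if_neg h']
      exact (mul_eq_zero.mp h).resolve_left (by exact_mod_cast hdψ.ne')
  have hsum : ∑ φ ∈ S₀, (k φ : ℂ) • τ₁ φ = -((a : ℤ) • τ₁ ψ) := by
    rw [Finset.sum_eq_single ψ, hkφ ψ hψ, if_pos rfl, Int.cast_smul_eq_zsmul, neg_smul]
    · intro φ hφ h
      rw [hkφ φ hφ, if_neg h]
      simp
    · exact fun h => absurd hψ h
  have hW1 : Cfsg.classInner W W = 1 := by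
    rw [hWn, Finset.sum_eq_single ψ, hkφ ψ hψ, if_pos rfl]
    · simp
    · intro φ hφ h
      rw [hkφ φ hφ, if_neg h]
      simp
    · exact fun h => absurd hψ h
  have hWg : Cfsg.IsGeneralizedCharacter G W := by
    rw [hW]
    exact CT.isGen_sub hβg (CT.isGen_sum _ fun φ hφ => CT.isGen_zsmul _ (hτ₁.2.2.2 φ (hz1 φ hφ)))
  let F : (N → ℂ) → (G → ℂ) := fun φ => if φ = χ then W else τ₁ φ
  have hTo : ∀ φ ∈ T, ∀ η ∈ T, φ ≠ η → Cfsg.classInner φ η = 0 := fun φ h η h' hn => by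
    rw [horth φ h η h', if_neg hn]
  have hcases : ∀ φ ∈ T, φ = χ ∨ φ ∈ S₀ := fun φ h => by rwa [hT, Finset.mem_insert] at h
  refine ⟨⟨α₀, OddChar.zspanOn_mono hsub hα₀, hα₀ne⟩, OddChar.extendMap T F,
    OddChar.extendMap_iso T rfl F hTo (fun φ h h0 => CT.irr_one_ne_zero (hTirr φ h) (congrFun h0 1))
      ?_ ?_, ?_⟩
  · intro φ hφ
    rcases hcases φ hφ with rfl | h
    · rw [show F φ = W from if_pos rfl]; exact hWg
    · rw [show F φ = τ₁ φ from if_neg (hne φ h)]; exact hτ₁.2.2.2 φ (hz1 φ h)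
  · intro φ hφ η hη
    rcases hcases φ hφ with rfl | h <;> rcases hcases η hη with rfl | h'
    · rw [show F η = W from if_pos rfl, hW1, horth η hη η hη, if_pos rfl]
    · rw [show F φ = W from if_pos rfl, show F η = τ₁ η from if_neg (hne η h'), hbo η h',
        horth φ hφ η hη, if_neg (hne η h').symm]
    · rw [show F η = W from if_pos rfl, show F φ = τ₁ φ from if_neg (hne φ h),
        OddChar.isSigned_inner_symm_eq_zero (hbo φ h), horth φ hφ η hη, if_neg (hne φ h)]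
    · rw [show F φ = τ₁ φ from if_neg (hne φ h), show F η = τ₁ η from if_neg (hne η h'),
        hτ₁.2.2.1 φ (hz1 φ h) η (hz1 η h')]
  · intro α hα
    have h0 : τ₁ 0 = 0 := OddChar.iso_zero hτ₁ (OddChar.zspan_zero _)
    have hself : ∀ φ ∈ T, OddChar.extendMap T F φ = F φ := fun φ h =>
      OddChar.extendMap_self F hTo h (fun h0 => CT.irr_one_ne_zero (hTirr φ h) (congrFun h0 1))
    have key : ∀ α ∈ Cfsg.zspan (↑T : Set (N → ℂ)), ∃ (b : N → ℂ) (i : ℤ),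
        b ∈ Cfsg.zspan (↑S₀ : Set (N → ℂ)) ∧ α = b + i • χ ∧
          OddChar.extendMap T F α = τ₁ b + i • W := by
      refine OddChar.zspan_induction (fun φ hφ => ?_) ?_ ?_ ?_
      · rcases hcases φ hφ with rfl | h
        · refine ⟨0, 1, OddChar.zspan_zero _, by simp, ?_⟩
          rw [hself φ hφ, show F φ = W from if_pos rfl, h0]
          simp
        · refine ⟨φ, 0, hz1 φ h, by simp, ?_⟩
          rw [hself φ hφ, show F φ = τ₁ φ from if_neg (hne φ h)]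
          simp
      · exact ⟨0, 0, OddChar.zspan_zero _, by simp, by simp [OddChar.extendMap_zero, h0]⟩
      · rintro x - y - ⟨b, i, hb, hx, hxe⟩ ⟨b', i', hb', hy, hye⟩
        refine ⟨b + b', i + i', OddChar.zspan_add hb hb', ?_, ?_⟩
        · rw [hx, hy, add_smul]; abel
        · rw [OddChar.extendMap_add, hxe, hye, hτ₁.1 b hb b' hb', add_smul]; abel
      · rintro m x - ⟨b, i, hb, hx, hxe⟩
        refine ⟨m • b, m * i, OddChar.zspan_smul m hb, ?_, ?_⟩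
        · rw [hx, smul_add, smul_smul]
        · rw [OddChar.extendMap_zsmul, hxe, hτ₁.2.1 b hb m, smul_add, smul_smul]
    obtain ⟨b, i, hb, hαe, hext⟩ := key α hα.1
    have hαe2 : α = (b + (i * (a : ℤ)) • ψ) + i • (χ - (a : ℤ) • ψ) := by
      rw [hαe, smul_sub, smul_smul]; abel
    have hb' : b + (i * (a : ℤ)) • ψ ∈ Cfsg.zspanOn (↑S₀ : Set (N → ℂ)) {1}ᶜ := by
      refine OddChar.zspanOn_iff.mpr ⟨OddChar.zspan_add hb (OddChar.zspan_smul _ (hz1 ψ hψ)), ?_⟩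
      have e1 := congrFun hαe2 1
      rw [Pi.add_apply, Pi.smul_apply i, (OddChar.zspanOn_iff.mp hm1).2, smul_zero, add_zero,
        (OddChar.zspanOn_iff.mp hα).2] at e1
      exact e1.symm
    rw [hext, hαe2, hτ.1 _ (OddChar.zspanOn_mono hsub hb') _ (OddChar.zspanOn_smul i hm1),
      hτ.2.1 _ hm1, ← hag _ hb', hτ₁.1 b hb _ (OddChar.zspan_smul _ (hz1 ψ hψ)),
      hτ₁.2.1 _ (hz1 ψ hψ), ← hβ, hW, hsum, sub_neg_eq_add, smul_add, smul_smul]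
    abel

end Cfsg.Agent.S1530
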