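import Cfsg.Statements.S1532
import Cfsg.Agent.Lib.CohExt.SibleyMain

set_option autoImplicit false
open Cfsg

namespace Cfsg.Agent.S1532

/-- Let G be a finite group, p an odd prime and P a Sylow p-subgroup that is non-abelian, whose underlying set is a TI-subset of G, with P properly contained in its set normaliser N and C_G(x) ≤ P for every non-identity x ∈ P. Let Z be a nontrivial subgroup of the centre of P normalised by N. Then the set of irreducible characters χ of N with χ z ≠ χ 1 for some z ∈ Z is coherent for the map induced by induction from N to G. -/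
theorem result {G : Type*} [Group G] [Fintype G] (p : ℕ) [Fact p.Prime] (hp : p ≠ 2) (P : Sylow p G) (hna : ¬ IsMulCommutative (P : Subgroup G)) (hTI : Cfsg.IsTISubset ((P : Subgroup G) : Set G)) (hlt : (P : Subgroup G) < Subgroup.normalizer ((P : Subgroup G) : Set G)) (hC : ∀ k ∈ (P : Subgroup G), k ≠ 1 → Subgroup.centralizer ({k} : Set G) ≤ (P : Subgroup G)) [Fintype ↥(Subgroup.normalizer ((P : Subgroup G) : Set G))] (Z : Subgroup G) (hZ1 : Z ≠ ⊥) (hZP : ∀ z ∈ Z, z ∈ (P : Subgroup G) ∧ ∀ y ∈ (P : Subgroup G), z * y = y * z) (hZn : ∀ x ∈ Subgroup.normalizer ((P : Subgroup G) : Set G), ∀ z ∈ Z, x * z * x⁻¹ ∈ Z) : Cfsg.IsCoherent {χ : ↥(Subgroup.normalizer ((P : Subgroup G) : Set G)) → ℂ | Cfsg.IsIrrCharacter ↥(Subgroup.normalizer ((P : Subgroup G) : Set G)) χ ∧ ∃ z : ↥(Subgroup.normalizer ((P : Subgroup G) : Set G)), (z : G) ∈ Z ∧ χ z ≠ χ 1} {1}ᶜ (fun α => Cfsg.indFun (Subgroup.normalizer ((P : Subgroup G) : Set G)) α) := by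
  classical
  set Q := (P : Subgroup G).subgroupOf (Subgroup.normalizer ((P : Subgroup G) : Set G)) with hQ
  have hC' := CohExt.SibleyMain.hC_sub (P : Subgroup G) hC (Subgroup.normalizer ((P : Subgroup G) : Set G))
  have hP1 : (P : Subgroup G) ≠ ⊥ := fun h => hna ⟨⟨fun a b => by
    haveI : Subsingleton (P : Subgroup G) := by rw [h]; infer_instance
    exact Subsingleton.elim _ _⟩⟩
  have hQ1 := CohExt.SibleyMain.ne_bot (P : Subgroup G) hP1
  have hQt := CohExt.SibleyMain.ne_top (P : Subgroup G) hlt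
  obtain ⟨m, hm⟩ := P.isPGroup'.exists_card_eq
  rw [← CohExt.SibleyMain.card_eq (P : Subgroup G)] at hm
  have he : Odd Q.index := by
    rw [← Nat.not_even_iff_odd, even_iff_two_dvd]
    exact fun h => hna ((CohExt.SibleyMain.comm_iff _ _ Subgroup.le_normalizer).mp
      (CohExt.Sibley.comm_of_even_index Q hC' hQ1 hQt h))
  have hZP' : Z.subgroupOf (Subgroup.normalizer ((P : Subgroup G) : Set G)) ≤ Q := fun z hz => (hZP _ hz).1
  haveI : (Z.subgroupOf (Subgroup.normalizer ((P : Subgroup G) : Set G))).Normal := ⟨fun z hz x => hZn x x.2 z hz⟩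
  have hZ1' : Z.subgroupOf (Subgroup.normalizer ((P : Subgroup G) : Set G)) ≠ ⊥ := fun h => hZ1 (by
    rw [← Subgroup.map_subgroupOf_eq_of_le (H := Z) (K := (Subgroup.normalizer ((P : Subgroup G) : Set G))) fun z hz => Subgroup.le_normalizer (hZP z hz).1, h,
      Subgroup.map_bot])
  have hset : {χ : (Subgroup.normalizer ((P : Subgroup G) : Set G)) → ℂ | Cfsg.IsIrrCharacter (Subgroup.normalizer ((P : Subgroup G) : Set G)) χ ∧ ∃ z : (Subgroup.normalizer ((P : Subgroup G) : Set G)), (z : G) ∈ Z ∧ χ z ≠ χ 1} =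
      ↑(CohExt.FrobSet.ntAbove Q ⊥ \ CohExt.FrobSet.ntAbove Q (Z.subgroupOf (Subgroup.normalizer ((P : Subgroup G) : Set G)))) :=
    Set.ext fun φ => (CohExt.Sibley.mem_sdiff_iff Q hC' (Z.subgroupOf (Subgroup.normalizer ((P : Subgroup G) : Set G))) hZP').symm
  rw [hset]
  exact CohExt.Sibley.central_coherent Q hC' _ (CohExt.SibleyMain.tau_iso (P : Subgroup G) hC' hTI)
    (CohExt.SibleyMain.tau_one (P : Subgroup G)) hQ1 hQt Fact.out hp hm he (Z.subgroupOf (Subgroup.normalizer ((P : Subgroup G) : Set G))) hZ1' hZP'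
    fun z hz k hk => Subtype.ext ((hZP _ hz).2 _ hk)

end Cfsg.Agent.S1532
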