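import Cfsg.Statements.S1533
import Cfsg.Agent.Lib.CohExt.SibleyMain

set_option autoImplicit false
open Cfsg

namespace Cfsg.Agent.S1533

/-- Let G be a finite group, p an odd prime, and P a nontrivial Sylow p-subgroup whose underlying set is a TI-subset of G, with P properly contained in its set normaliser N and C_G(x) ≤ P for every non-identity x ∈ P. Let S be the set of irreducible characters χ of N with χ x ≠ χ 1 for some x ∈ P. Then either S has exactly one member, P is elementary abelian and Nat.card P = [N:P] + 1; or (S, N minus 1, induction to G) is coherent. -/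
theorem result {G : Type*} [Group G] [Fintype G] (p : ℕ) [Fact p.Prime] (hp : p ≠ 2) (P : Sylow p G) (hP1 : (P : Subgroup G) ≠ ⊥) (hTI : Cfsg.IsTISubset ((P : Subgroup G) : Set G)) (hlt : (P : Subgroup G) < Subgroup.normalizer ((P : Subgroup G) : Set G)) (hC : ∀ k ∈ (P : Subgroup G), k ≠ 1 → Subgroup.centralizer ({k} : Set G) ≤ (P : Subgroup G)) [Fintype ↥(Subgroup.normalizer ((P : Subgroup G) : Set G))] : (Nat.card {χ : ↥(Subgroup.normalizer ((P : Subgroup G) : Set G)) → ℂ // Cfsg.IsIrrCharacter ↥(Subgroup.normalizer ((P : Subgroup G) : Set G)) χ ∧ ∃ x : ↥(Subgroup.normalizer ((P : Subgroup G) : Set G)), (x : G) ∈ (P : Subgroup G) ∧ χ x ≠ χ 1} = 1 ∧ Cfsg.IsElementaryAbelian p (P : Subgroup G) ∧ Nat.card (P : Subgroup G) = ((P : Subgroup G).subgroupOf (Subgroup.normalizer ((P : Subgroup G) : Set G))).index + 1) ∨ Cfsg.IsCoherent {χ : ↥(Subgroup.normalizer ((P : Subgroup G) : Set G)) → ℂ | Cfsg.IsIrrCharacter ↥(Subgroup.normalizer ((P : Subgroup G) : Set G)) χ ∧ ∃ x : ↥(Subgroup.normalizer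 ((P : Subgroup G) : Set G)), (x : G) ∈ (P : Subgroup G) ∧ χ x ≠ χ 1} {1}ᶜ (fun α => Cfsg.indFun (Subgroup.normalizer ((P : Subgroup G) : Set G)) α) := by
  classical
  have hC' := CohExt.SibleyMain.hC_sub (P : Subgroup G) hC (Subgroup.normalizer ((P : Subgroup G) : Set G))
  rw [CohExt.SibleyMain.set_eq (P : Subgroup G) _ hC']
  by_cases hab : IsMulCommutative (P : Subgroup G)
  · rcases CohExt.SibleyMain.abelian_cases (P : Subgroup G) hC' hP1 hlt hTI hab with ⟨h1, h2, h3⟩ | h
    · refine Or.inl ⟨h1, h3 p Fact.out ?_, h2⟩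
      obtain ⟨m, hm⟩ := P.isPGroup'.exists_card_eq
      rw [hm]
      refine dvd_pow_self p fun h0 => hP1 ?_
      rw [h0, pow_zero] at hm
      exact Subgroup.card_eq_one.mp hm
    · exact Or.inr h
  · exact Or.inr (CohExt.SibleyMain.sylow_coherent P hp hab hTI hlt hC')

end Cfsg.Agent.S1533
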