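import Cfsg.Statements.S1534
import Cfsg.Agent.Lib.CohExt.SibleyMain

set_option autoImplicit false
open Cfsg

namespace Cfsg.Agent.S1534

/-- Let G be a finite group and K a nontrivial nilpotent subgroup whose underlying set is a TI-subset of G, properly contained in its set normaliser N, with C_G(k) ≤ K for every non-identity k ∈ K; let e be the index of K in N and S the set of irreducible characters χ of N with χ k ≠ χ 1 for some k ∈ K. Then one of: S has exactly one member, Nat.card K = e + 1 and K is an elementary abelian p-group for some prime p; or K is a Sylow 2-subgroup of G (Nat.card K is the largest power of 2 dividing Nat.card G) and [K : [K,K]] < 4e²; or (S, N minus 1, induction to G) is coherent. -/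
theorem result {G : Type*} [Group G] [Fintype G] (K : Subgroup G) (hK1 : K ≠ ⊥) (hnil : Group.IsNilpotent K) (hTI : Cfsg.IsTISubset (K : Set G)) (hlt : K < Subgroup.normalizer (K : Set G)) (hC : ∀ k ∈ K, k ≠ 1 → Subgroup.centralizer ({k} : Set G) ≤ K) [Fintype ↥(Subgroup.normalizer (K : Set G))] : (Nat.card {χ : ↥(Subgroup.normalizer (K : Set G)) → ℂ // Cfsg.IsIrrCharacter ↥(Subgroup.normalizer (K : Set G)) χ ∧ ∃ k : ↥(Subgroup.normalizer (K : Set G)), (k : G) ∈ K ∧ χ k ≠ χ 1} = 1 ∧ Nat.card K = (K.subgroupOf (Subgroup.normalizer (K : Set G))).index + 1 ∧ ∃ p : ℕ, p.Prime ∧ Cfsg.IsElementaryAbelian p K) ∨ (Nat.card K = 2 ^ (Nat.card G).factorization 2 ∧ (⁅K, K⁆.subgroupOf K).index < 4 * (K.subgroupOf (Subgroup.normalizer (K : Set G))).index ^ 2) ∨ Cfsg.IsCoherent {χ : ↥(Subgroup.normalizer (K : Set G)) → ℂ | Cfsg.IsIrrCharacter ↥(Subgroup.normalizer (K : Set G)) χ ∧ ∃ k : ↥(Subgroup.normalizer (K : Set G)), (k : G) ∈ K ∧ χ k ≠ χ 1} {1}ᶜ (fun α => Cfsg.indFun (Subgroup.normalizer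 (K : Set G)) α) := by
  classical
  have hC' := CohExt.SibleyMain.hC_sub K hC (Subgroup.normalizer (K : Set G))
  rw [CohExt.SibleyMain.set_eq K _ hC']
  by_cases hab : IsMulCommutative K
  · rcases CohExt.SibleyMain.abelian_cases K hC' hK1 hlt hTI hab with ⟨h1, h2, h3⟩ | h
    · obtain ⟨q, hq, hqd⟩ := Nat.exists_prime_and_dvd (n := Nat.card K) (fun h => hK1 (Subgroup.card_eq_one.mp h))
      exact Or.inl ⟨h1, h2, q, hq, h3 q hq hqd⟩
    · exact Or.inr (Or.inr h)
  right
  have hQ1 := CohExt.SibleyMain.ne_bot K hK1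
  have hQt := CohExt.SibleyMain.ne_top K hlt
  rcases CohExt.Feit.coherent_or (K.subgroupOf (Subgroup.normalizer (K : Set G))) hC' _ (CohExt.SibleyMain.tau_iso K hC' hTI)
    (CohExt.SibleyMain.tau_one K) hQ1 hQt (CohExt.SibleyMain.card_ne K hC' hK1 hlt hnil hab) with h | ⟨p, hp, ⟨m, hm⟩, -, hsmall⟩
  · exact Or.inr h
  haveI : Fact p.Prime := ⟨hp⟩
  have hmK := hm
  rw [CohExt.SibleyMain.card_eq K] at hmK
  obtain ⟨P, hP⟩ := CohExt.SibleyMain.is_sylow K hC' hK1 hlt hmK
  by_cases hp2 : p = 2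
  · left
    subst hp2
    refine ⟨by rw [← hP]; exact P.card_eq_multiplicity, ?_⟩
    rw [← CohExt.SibleyMain.comm_index K (Subgroup.normalizer (K : Set G)) Subgroup.le_normalizer]
    set e := (K.subgroupOf (Subgroup.normalizer (K : Set G))).index with he
    have h := CohExt.FrobSet.card_mul (K.subgroupOf (Subgroup.normalizer (K : Set G))) hC' ⁅K.subgroupOf (Subgroup.normalizer (K : Set G)), K.subgroupOf (Subgroup.normalizer (K : Set G))⁆ le_rfl
    rw [← he] at h
    change _ = (⁅K.subgroupOf (Subgroup.normalizer (K : Set G)), K.subgroupOf (Subgroup.normalizer (K : Set G))⁆.subgroupOf (K.subgroupOf (Subgroup.normalizer (K : Set G)))).index at h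
    rw [← h] at hsmall ⊢
    set c := (CohExt.FrobSet.ntAbove (K.subgroupOf (Subgroup.normalizer (K : Set G))) ⁅K.subgroupOf (Subgroup.normalizer (K : Set G)), K.subgroupOf (Subgroup.normalizer (K : Set G))⁆).card
    have he1 : e ≠ 1 := fun h1 => hQt (Subgroup.index_eq_one.mp h1)
    have hne : c * e + 1 ≠ 4 * e ^ 2 := fun h1 => he1 <| Nat.eq_one_of_dvd_one <|
      (Nat.dvd_add_right (dvd_mul_left e c)).mp (h1 ▸ dvd_mul_of_dvd_right (dvd_pow_self e two_ne_zero) 4)
    have hdvd : (c * e + 1) ∣ 2 ^ m := by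
      rw [h, ← hm]; exact Subgroup.relIndex_dvd_card _ _
    obtain ⟨j, -, hj⟩ := (Nat.dvd_prime_pow Nat.prime_two).mp hdvd
    have hne' : c * e + 1 ≠ 4 * e ^ 2 + 1 := by
      intro h1
      rcases Nat.eq_zero_or_pos j with rfl | hj0
      · rw [pow_zero, h1] at hj
        have : 0 < e := Nat.pos_of_ne_zero Subgroup.index_ne_zero_of_finite
        nlinarith
      · have : 2 ∣ 2 ^ j := dvd_pow_self 2 hj0.ne'
        omega
    omega
  · right
    subst hP
    exact CohExt.SibleyMain.sylow_coherent P hp2 hab hTI hlt hC'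

end Cfsg.Agent.S1534
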