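import Cfsg.Statements.S1538
import Cfsg.Agent.S1351
import Cfsg.Agent.S1352
import Cfsg.Agent.S1357
import Cfsg.Agent.S1362
import Cfsg.Agent.S1381
import Cfsg.Agent.S1382
import Cfsg.Agent.Lib.OddLocal.KappaTypes

set_option autoImplicit false
set_option linter.style.haveILetI false
open Cfsg
open Cfsg.Agent.OddLocal
open scoped commutatorElement Pointwise

namespace Cfsg.Agent.S1538

section
variable {G : Type*} [Group G] [Finite G]

theorem eq_of_card_eq_cyclic {A B W : Subgroup G} [IsCyclic W] (hA : A ≤ W) (hB : B ≤ W)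
    (h : Nat.card A = Nat.card B) : A = B := by
  let _ : CommGroup W := IsCyclic.commGroup
  have hk : ∀ C : Subgroup W, C = (powMonoidHom (Nat.card C) : W →* W).ker := fun C => by
    apply Subgroup.eq_of_le_of_card_ge
    · intro x hx
      rw [MonoidHom.mem_ker, powMonoidHom_apply]
      exact congrArg Subtype.val (pow_card_eq_one' (x := (⟨x, hx⟩ : C)))
    · rw [IsCyclic.card_powMonoidHom_ker]
      exact Nat.le_of_dvd Nat.card_pos (Nat.gcd_dvd_right _ _)
  have e : A.subgroupOf W = B.subgroupOf W := by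
    rw [hk (A.subgroupOf W), hk (B.subgroupOf W), Nat.card_congr (Subgroup.subgroupOfEquivOfLe hA).toEquiv,
      Nat.card_congr (Subgroup.subgroupOfEquivOfLe hB).toEquiv, h]
  rw [← Subgroup.map_subgroupOf_eq_of_le hA, e, Subgroup.map_subgroupOf_eq_of_le hB]

theorem conj_prime {M A B : Subgroup G} {r : ℕ} [Fact r.Prime] (hA : A ≤ M) (hB : B ≤ M)
    (cA : Nat.card A = r) (cB : Nat.card B = r) (hfac : (Nat.card M).factorization r = 1) :
    ∃ n ∈ M, A.map (MulAut.conj n).toMonoidHom = B := by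
  let SA : Sylow r M := Sylow.ofCard (A.subgroupOf M)
    (by rw [Nat.card_congr (Subgroup.subgroupOfEquivOfLe hA).toEquiv, cA, hfac, pow_one])
  let SB : Sylow r M := Sylow.ofCard (B.subgroupOf M)
    (by rw [Nat.card_congr (Subgroup.subgroupOfEquivOfLe hB).toEquiv, cB, hfac, pow_one])
  obtain ⟨n, hn⟩ := MulAction.exists_smul_eq M SA SB
  refine ⟨n, n.2, ?_⟩
  refine Subgroup.eq_of_le_of_card_ge ?_ (by
    rw [Subgroup.card_map_of_injective (MulAut.conj (n : G)).injective, cA, cB])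
  rintro _ ⟨a, ha, rfl⟩
  have h1 : (MulAut.conj n) • (⟨a, hA ha⟩ : M) ∈ ((n • SA : Sylow r M) : Subgroup M) := by
    rw [Sylow.coe_subgroup_smul]
    exact Subgroup.smul_mem_pointwise_smul _ _ _ (show (⟨a, hA ha⟩ : M) ∈ A.subgroupOf M from ha)
  rw [hn] at h1
  exact h1

theorem mem_derived_conj {M : Subgroup G} {n : G} (hn : n ∈ M) {x : G} (hx : x ∈ ⁅M, M⁆) :
    n * x * n⁻¹ ∈ ⁅M, M⁆ := by
  have h : (⁅M, M⁆).map (MulAut.conj n).toMonoidHom ≤ ⁅M, M⁆ := by
    rw [Subgroup.map_commutator]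
    have : M.map (MulAut.conj n).toMonoidHom ≤ M := by
      rintro _ ⟨m, hm, rfl⟩
      exact M.mul_mem (M.mul_mem hn hm) (M.inv_mem hn)
    exact Subgroup.commutator_mono this this
  exact h (Subgroup.mem_map_of_mem _ hx)

theorem orderOf_conj' (g x : G) : orderOf (g * x * g⁻¹) = orderOf x :=
  (MulAut.conj g).orderOf_eq x

end

/-- Let G be a minimal simple group of odd order and M a maximal subgroup of Type II. Then each of A₀(M), A(M), A₁(M) is a TI-subset of G whose set normaliser is M. -/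
theorem result {G : Type*} [Group G] [Finite G] (hG : Cfsg.IsMinSimpleOddOrder G) (M : Subgroup G) (hM : IsCoatom M) (hII : Cfsg.IsOfTypeII M) : (Cfsg.IsTISubset (Cfsg.typeA0 M) ∧ Subgroup.normalizer (Cfsg.typeA0 M) = M) ∧ (Cfsg.IsTISubset (Cfsg.typeA M) ∧ Subgroup.normalizer (Cfsg.typeA M) = M) ∧ (Cfsg.IsTISubset (Cfsg.typeA1 M) ∧ Subgroup.normalizer (Cfsg.typeA1 M) = M) := by
  classical
  obtain ⟨⟨K, hK⟩, hKc⟩ := S1351.result hG M hM
  obtain ⟨⟨U, hKU⟩, -⟩ := S1352.result hG M hM K (hKc K hK) hK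
  obtain ⟨hK1, hU1⟩ := (S1381.result hG M hM K U hKU).mp hII
  have hHσ : Cfsg.fittingHallOf M = Cfsg.sigmaCore M := by
    by_contra h
    exact hU1 (S1357.result hG M hM K U hKU h).1
  obtain ⟨hder, -⟩ := S1365.result hG M hM K U hKU hK1
  obtain ⟨W₁, V, W₂, hP, -, hr, hTI, -, -, -, -⟩ := hII
  have hcore : Cfsg.typeCore M = Cfsg.fittingHallOf M := by
    rw [Cfsg.typeCore, if_neg]
    intro h
    exact hU1 ((S1382.result hG M hM K U hKU).mp h).2.1
  obtain ⟨hH1, -, hσD, hDlt, -⟩ := S1355.result hG M hM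
  set H := Cfsg.fittingHallOf M with hHdef
  have hHD : H ≤ ⁅M, M⁆ := hHσ ▸ hσD
  have hDM : ⁅M, M⁆ ≤ M := hDlt.le
  have hHM : H ≤ M := hHD.trans hDM
  haveI := Fact.mk hr
  set r := Nat.card W₁ with hrdef
  have hrD : ¬ r ∣ Nat.card ↥⁅M, M⁆ := by
    intro hd
    have h := hP.W₁_hall
    rw [relIndex_right_of_isComplIn hP.W₁_compl] at h
    exact hr.ne_one (Nat.eq_one_of_dvd_coprimes h dvd_rfl hd)
  have hfac : (Nat.card M).factorization r = 1 := by
    rw [card_of_isComplIn hP.W₁_compl, Nat.factorization_mul Nat.card_pos.ne' Nat.card_pos.ne',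
      Finsupp.add_apply, Nat.factorization_eq_zero_of_not_dvd hrD, zero_add]
    exact hr.factorization_self
  -- `M` is not of Type I
  have hnI : ¬ Cfsg.IsOfTypeI M := by
    rintro ⟨⟨-, -, -, -, W, -, hWc, -, U₀, -, hexp, hfree⟩, -⟩
    have hrW : r ∣ Nat.card W := by
      rcases hr.dvd_mul.mp (show r ∣ Nat.card (Cfsg.fittingHall M) * Nat.card W by
        rw [hWc.card_mul, card_of_isComplIn hP.W₁_compl]; exact dvd_mul_left _ _) with h | h
      · refine absurd (h.trans ?_) hrD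
        rw [← Subgroup.card_map_of_injective M.subtype_injective]
        exact Subgroup.card_dvd_of_le hHD
      · exact h
    obtain ⟨z, hz⟩ := exists_prime_orderOf_dvd_card' r hrW
    have hrU₀ : r ∣ Nat.card U₀ :=
      (hz ▸ Monoid.order_dvd_exponent z).trans (hexp ▸ Group.exponent_dvd_nat_card)
    obtain ⟨u, hu⟩ := exists_prime_orderOf_dvd_card' r hrU₀
    rw [← Subgroup.orderOf_coe, ← Subgroup.orderOf_coe] at hu
    obtain ⟨n, hn, he⟩ := conj_prime (r := r) (A := W₁) (B := Subgroup.zpowers ((u : M) : G))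
      hP.W₁_compl.2.1 (Subgroup.zpowers_le.mpr (u : M).2) rfl (by rw [Nat.card_zpowers, hu]) hfac
    obtain ⟨w, hw, hw'⟩ : ((u : M) : G) ∈ W₁.map (MulAut.conj n).toMonoidHom :=
      he ▸ Subgroup.mem_zpowers _
    obtain ⟨y, hy, hy1⟩ := (Subgroup.bot_or_exists_ne_one W₂).resolve_left hP.selfNormalizing.2.1
    have hyH : y ∈ H := (hP.W₂_le hy).1
    have hyM : n * y * n⁻¹ ∈ H := (Subgroup.mem_normalizer_iff.mp
      (le_normalizer_fittingHallOf M hn) y).mp hyH
    obtain ⟨y', hy', hy'e⟩ := hyM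
    have hu1 : (u : M) ≠ 1 := fun e => hr.ne_one (by rw [← hu, e]; simp)
    have := hfree (u : M) u.2 hu1 y' hy' (Subtype.ext (by
      show ((u : M) : G) * y' = y' * ((u : M) : G)
      have hy'e' : (y' : G) = n * y * n⁻¹ := hy'e
      have hw'' : n * w * n⁻¹ = ((u : M) : G) := hw'
      rw [hy'e', ← hw'']
      have := hP.selfNormalizing.2.2.2.1 w hw y hy
      calc n * w * n⁻¹ * (n * y * n⁻¹) = n * (w * y) * n⁻¹ := by group
        _ = n * (y * w) * n⁻¹ := by rw [this]
        _ = _ := by group))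
    refine hy1 ?_
    have e2 : n * y * n⁻¹ = 1 := by
      rw [← hy'e, this]; simp
    exact conj_eq_one_iff.mp e2
  have hA : ∀ a, a ∈ Cfsg.typeA M ↔
      a ∈ ⁅M, M⁆ ∧ a ≠ 1 ∧ ∃ x ∈ H, x ≠ 1 ∧ a * x = x * a := by
    intro a
    rw [Cfsg.typeA, if_neg hnI, hcore]
    rfl
  have hA1sub : Cfsg.typeA1 M ⊆ Cfsg.typeA M := by
    intro a ha
    rw [Cfsg.typeA1, hcore] at ha
    exact (hA a).mpr ⟨hHD ha.1, ha.2, a, ha.1, ha.2, rfl⟩
  have hA0sub : Cfsg.typeA M ⊆ Cfsg.typeA0 M := Set.subset_union_left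
  -- the part outside `M'`
  have hB : ∀ W₁' U' W₂' : Subgroup G, Cfsg.IsTypePWith M W₁' U' W₂' →
      ∀ w ∈ W₁' ⊔ W₂', w ∉ W₁' → w ∉ W₂' →
      Nat.card W₁' = r ∧ Subgroup.centralizer ({w} : Set G) ≤ W₁' ⊔ W₂' ∧ r ∣ orderOf w := by
    intro W₁' U' W₂' h w hw h1 h2
    have hc : Nat.card W₁' = r := by
      have := (card_of_isComplIn h.W₁_compl).symm.trans (card_of_isComplIn hP.W₁_compl)
      exact Nat.eq_of_mul_eq_mul_left Nat.card_pos this
    refine ⟨hc, ?_, ?_⟩
    · have := h.selfNormalizing.2.2.2.2.2 {w} (Set.singleton_subset_iff.mpr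
        ⟨hw, fun e => e.elim h1 h2⟩) (Set.singleton_nonempty w)
      exact (Subgroup.centralizer_le_normalizer _).trans this.le
    · obtain ⟨a, ha, b, hb, rfl⟩ := (Basics.mem_sup_of_le_normalizer (N := W₁') (H := W₂') (fun b hb => Subgroup.centralizer_le_normalizer _
        (Subgroup.mem_centralizer_iff.mpr fun a ha => h.selfNormalizing.2.2.2.1 a ha b hb))).mp hw
      have ha1 : a ≠ 1 := fun e => h2 (by rw [e, one_mul]; exact hb)
      have hab : Commute a b := h.selfNormalizing.2.2.2.1 a ha b hb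
      have oa : orderOf a = r := by
        rcases (Nat.dvd_prime hr).mp (hc ▸ Subgroup.orderOf_dvd_natCard W₁' ha) with e | e
        · exact absurd (orderOf_eq_one_iff.mp e) ha1
        · exact e
      have hbD : b ∈ ⁅M, M⁆ := hHD (h.W₂_le hb).1
      have hco : (orderOf a).Coprime (orderOf b) := by
        rw [oa]
        exact hr.coprime_iff_not_dvd.mpr fun e => hrD (e.trans (Subgroup.orderOf_dvd_natCard _ hbD))
      rw [hab.orderOf_mul_eq_mul_orderOf_of_coprime hco, oa]
      exact dvd_mul_right _ _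
  have hσcop : (Nat.card H).Coprime (H.relIndex M) := fittingHallOf_hall M
  have inH : ∀ a ∈ H, ∀ b ∈ M, orderOf b = orderOf a → b ∈ H := by
    intro a ha b hb e
    haveI : (H.subgroupOf M).Normal :=
      (Subgroup.normal_subgroupOf_iff_le_normalizer hHM).mpr (le_normalizer_fittingHallOf M)
    let f := QuotientGroup.mk' (H.subgroupOf M)
    have h1 : orderOf (f ⟨b, hb⟩) ∣ Nat.card H :=
      (orderOf_map_dvd f _).trans (by
        rw [← Subgroup.orderOf_coe, e]; exact Subgroup.orderOf_dvd_natCard H ha)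
    have h2 : orderOf (f ⟨b, hb⟩) ∣ H.relIndex M := by
      rw [Subgroup.relIndex, Subgroup.index]; exact orderOf_dvd_natCard _
    have := orderOf_eq_one_iff.mp (Nat.eq_one_of_dvd_coprimes hσcop h1 h2)
    exact (QuotientGroup.eq_one_iff (⟨b, hb⟩ : M)).mp this
  have hNF : Subgroup.normalizer (Cfsg.fittingOf M : Set G) = M :=
    normalizer_eq_of_le hG hM (fun e => hH1 (le_bot_iff.mp (e ▸ fittingHallOf_le_fittingOf M)))
      (Subgroup.map_subtype_le _) (le_normalizer_fittingOf M)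
  have hxA : ∀ a, a ∈ Cfsg.typeA M → a ∉ H →
      a ∈ Cfsg.sigmaA M U \ (Cfsg.sigmaCore M : Set G) := by
    intro a ha hn
    obtain ⟨hD, -, x, hx, hx1, hc⟩ := (hA a).mp ha
    refine ⟨⟨⟨hDM hD, x, hHσ ▸ hx, hx1, hc⟩, ?_⟩, hHσ ▸ hn⟩
    show a ∈ U ⊔ Cfsg.sigmaCore M
    rwa [← hder]
  have hkey : ∀ x ∈ Cfsg.typeA0 M, ∀ g : G, g * x * g⁻¹ ∈ Cfsg.typeA0 M → g ∈ M := by
    intro x hx g hgx
    rcases hx with hx | ⟨-, W₁', U', W₂', hP', m, hm, w, hw, hw1, hw2, rfl⟩
    · obtain ⟨hxD, hx1, -⟩ := (hA x).mp hx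
      rcases hgx with hgx | ⟨-, W₁'', U'', W₂'', hP'', m', hm', w', hw', hw1', hw2', e⟩
      · by_cases hxH : x ∈ H
        · have hy : g * x * g⁻¹ ∈ H :=
            inH x hxH _ (hDM ((hA _).mp hgx).1) (orderOf_conj' g x)
          by_contra hg
          exact hx1 (hTI g (hNF.symm ▸ hg) x (fittingHallOf_le_fittingOf M hxH)
            (fittingHallOf_le_fittingOf M hy))
        · have hyH : g * x * g⁻¹ ∉ H := fun h =>
            hxH (inH _ h x (hDM hxD) (orderOf_conj' g x).symm)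
          set S := Cfsg.sigmaA M U \ (Cfsg.sigmaCore M : Set G) with hS
          have hSM : S ⊆ (M : Set G) := fun s hs => hs.1.1.1
          have hgN : g ∈ Subgroup.normalizer S := by
            by_contra hg
            exact hx1 (S1362.result hG M hM K U hKU g hg x (hxA x hx hxH) (hxA _ hgx hyH))
          have hMN : M ≤ Subgroup.normalizer S := by
            have hfor : ∀ n ∈ M, ∀ s ∈ S, n * s * n⁻¹ ∈ S := by
              rintro n hn s ⟨⟨⟨hsM, y, hy, hy1, hc⟩, hsU⟩, hsn⟩
              have hnσ := Subgroup.mem_normalizer_iff.mp (le_normalizer_sigmaCore M hn)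
              refine ⟨⟨⟨M.mul_mem (M.mul_mem hn hsM) (M.inv_mem hn), n * y * n⁻¹, (hnσ y).mp hy,
                fun e => hy1 (conj_eq_one_iff.mp e), ?_⟩, ?_⟩, fun h => hsn ((hnσ s).mpr h)⟩
              · calc n * s * n⁻¹ * (n * y * n⁻¹) = n * (s * y) * n⁻¹ := by group
                  _ = n * (y * s) * n⁻¹ := by rw [hc]
                  _ = _ := by group
              · show n * s * n⁻¹ ∈ U ⊔ Cfsg.sigmaCore M
                rw [← hder]
                exact mem_derived_conj hn (by rw [hder]; exact hsU)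
            intro n hn
            rw [Subgroup.mem_set_normalizer_iff]
            refine fun s => ⟨hfor n hn s, fun h => ?_⟩
            have := hfor n⁻¹ (M.inv_mem hn) _ h
            simpa [mul_assoc] using this
          rcases hM.le_iff.mp hMN with e | e
          · exfalso
            have hsimp := hG.2.1
            have hall : ∀ t : G, t * x * t⁻¹ ∈ M := fun t => hSM
              ((Subgroup.mem_set_normalizer_iff.mp (show t ∈ Subgroup.normalizer S by rw [e]; exact Subgroup.mem_top t) x).mp (hxA x hx hxH))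
            have hle : Subgroup.normalClosure ({x} : Set G) ≤ M := by
              rw [Subgroup.normalClosure, Subgroup.closure_le]
              intro y hy
              obtain ⟨a, ha, hay⟩ := Group.mem_conjugatesOfSet_iff.mp hy
              rw [Set.mem_singleton_iff] at ha
              obtain ⟨c, rfl⟩ := isConj_iff.mp (ha ▸ hay)
              exact hall c
            rcases (Subgroup.normalClosure_normal (s := ({x} : Set G))).eq_bot_or_eq_top with h | h
            · exact hx1 (Subgroup.mem_bot.mp (h ▸ Subgroup.subset_normalClosure rfl))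
            · exact hM.1 (top_le_iff.mp (h ▸ hle))
          · exact e ▸ hgN
      · exfalso
        obtain ⟨-, -, hd⟩ := hB _ _ _ hP'' w' hw' hw1' hw2'
        rw [← orderOf_conj' m' w', ← e, orderOf_conj'] at hd
        exact hrD (hd.trans (Subgroup.orderOf_dvd_natCard _ hxD))
    · obtain ⟨hc', hC', hd'⟩ := hB _ _ _ hP' w hw hw1 hw2
      rcases hgx with hgx | ⟨-, W₁'', U'', W₂'', hP'', m', hm', w', hw', hw1', hw2', e⟩
      · exfalso
        rw [← orderOf_conj' m w, ← orderOf_conj' g] at hd'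
        exact hrD (hd'.trans (Subgroup.orderOf_dvd_natCard _ ((hA _).mp hgx).1))
      obtain ⟨hc'', hC'', -⟩ := hB _ _ _ hP'' w' hw' hw1' hw2'
      set h := m'⁻¹ * g * m with hh
      have hwh : h * w * h⁻¹ = w' := by
        calc h * w * h⁻¹ = m'⁻¹ * (g * (m * w * m⁻¹) * g⁻¹) * m' := by rw [hh]; group
          _ = w' := by rw [e]; group
      haveI hcyc' : IsCyclic ↥(W₁' ⊔ W₂') := hP'.selfNormalizing.2.2.2.2.1
      haveI hcyc'' : IsCyclic ↥(W₁'' ⊔ W₂'') := hP''.selfNormalizing.2.2.2.2.1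
      have comm : ∀ a ∈ W₁' ⊔ W₂', a * w = w * a := fun a ha => by
        let _ : CommGroup ↥(W₁' ⊔ W₂') := IsCyclic.commGroup
        exact congrArg Subtype.val (mul_comm (⟨a, ha⟩ : ↥(W₁' ⊔ W₂')) ⟨w, hw⟩)
      have hWW : ∀ a ∈ W₁' ⊔ W₂', h * a * h⁻¹ ∈ W₁'' ⊔ W₂'' := fun a ha => hC'' <| by
        rw [Subgroup.mem_centralizer_singleton_iff, ← hwh]
        calc h * a * h⁻¹ * (h * w * h⁻¹) = h * (a * w) * h⁻¹ := by group
          _ = h * (w * a) * h⁻¹ := by rw [comm a ha]
          _ = _ := by group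
      -- a conjugating element in `M`
      obtain ⟨n, hn, hn1⟩ := conj_prime (r := r) (A := W₁') (B := W₁'') hP'.W₁_compl.2.1
        hP''.W₁_compl.2.1 hc' hc'' hfac
      obtain ⟨a, ha, ha1⟩ := (Subgroup.bot_or_exists_ne_one W₁').resolve_left hP'.W₁_ne
      have hna : n * a * n⁻¹ ∈ W₁'' := hn1 ▸ Subgroup.mem_map_of_mem _ ha
      have hW2le : W₂'.map (MulAut.conj n).toMonoidHom ≤ W₂'' := by
        rintro _ ⟨b, hb, rfl⟩
        rw [← hP''.W₂_centralizer _ hna (fun e => ha1 (conj_eq_one_iff.mp e))]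
        refine ⟨mem_derived_conj hn (hHD (hP'.W₂_le hb).1), ?_⟩
        refine Subgroup.mem_centralizer_singleton_iff.mpr ?_
        show n * b * n⁻¹ * (n * a * n⁻¹) = n * a * n⁻¹ * (n * b * n⁻¹)
        have := hP'.selfNormalizing.2.2.2.1 a ha b hb
        calc n * b * n⁻¹ * (n * a * n⁻¹) = n * (b * a) * n⁻¹ := by group
          _ = n * (a * b) * n⁻¹ := by rw [this]
          _ = _ := by group
      have sW : (W₁' ⊔ W₂').map (MulAut.conj n).toMonoidHom ≤ W₁'' ⊔ W₂'' := by
        rw [Subgroup.map_sup, hn1]; exact sup_le_sup_left hW2le _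
      have sW' : (W₁' ⊔ W₂').map (MulAut.conj h).toMonoidHom ≤ W₁'' ⊔ W₂'' := by
        rintro _ ⟨a, ha, rfl⟩; exact hWW a ha
      have eW : (W₁' ⊔ W₂').map (MulAut.conj h).toMonoidHom = (W₁' ⊔ W₂').map (MulAut.conj n).toMonoidHom :=
        eq_of_card_eq_cyclic sW' sW (by
          rw [Subgroup.card_map_of_injective (MulAut.conj h).injective,
            Subgroup.card_map_of_injective (MulAut.conj n).injective])
      have e1 : W₁'.map (MulAut.conj h).toMonoidHom = W₁'.map (MulAut.conj n).toMonoidHom :=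
        eq_of_card_eq_cyclic ((Subgroup.map_mono le_sup_left).trans sW')
          ((Subgroup.map_mono le_sup_left).trans sW) (by
          rw [Subgroup.card_map_of_injective (MulAut.conj h).injective,
            Subgroup.card_map_of_injective (MulAut.conj n).injective])
      have e2 : W₂'.map (MulAut.conj h).toMonoidHom = W₂'.map (MulAut.conj n).toMonoidHom :=
        eq_of_card_eq_cyclic ((Subgroup.map_mono le_sup_right).trans sW')
          ((Subgroup.map_mono le_sup_right).trans sW) (by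
          rw [Subgroup.card_map_of_injective (MulAut.conj h).injective,
            Subgroup.card_map_of_injective (MulAut.conj n).injective])
      set k := n⁻¹ * h with hk
      have pres : ∀ A : Subgroup G, A.map (MulAut.conj h).toMonoidHom = A.map (MulAut.conj n).toMonoidHom →
          ∀ a, a ∈ A ↔ k * a * k⁻¹ ∈ A := by
        intro A hA a
        have h1 : a ∈ A ↔ h * a * h⁻¹ ∈ A.map (MulAut.conj h).toMonoidHom :=
          (Subgroup.mem_map_iff_mem (f := (MulAut.conj h).toMonoidHom) (MulAut.conj h).injective).symm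
        rw [h1, hA]
        have h2 : h * a * h⁻¹ = (MulAut.conj n).toMonoidHom (k * a * k⁻¹) := by
          show _ = n * (k * a * k⁻¹) * n⁻¹
          rw [hk]; group
        rw [h2]
        exact Subgroup.mem_map_iff_mem (MulAut.conj n).injective
      have hkW : k ∈ W₁' ⊔ W₂' := by
        have hX := hP'.selfNormalizing.2.2.2.2.2 ((↑(W₁' ⊔ W₂') : Set G) \ (↑W₁' ∪ ↑W₂'))
          subset_rfl ⟨w, hw, fun e => e.elim hw1 hw2⟩
        rw [← hX, Subgroup.mem_set_normalizer_iff]
        intro a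
        simp only [Set.mem_sdiff, Set.mem_union, SetLike.mem_coe]
        rw [pres _ eW a, pres _ e1 a, pres _ e2 a]
      have hkM : k ∈ M :=
        sup_le hP'.W₁_compl.2.1 ((fun b hb => hHM (hP'.W₂_le hb).1)) hkW
      have : g = m' * n * k * m⁻¹ := by rw [hk, hh]; group
      rw [this]
      exact M.mul_mem (M.mul_mem (M.mul_mem hm' hn) hkM) (M.inv_mem hm)
  obtain ⟨x₀, hx₀, hx₀1⟩ := (Subgroup.bot_or_exists_ne_one H).resolve_left hH1
  have hx₀A : x₀ ∈ Cfsg.typeA1 M := by rw [Cfsg.typeA1, hcore]; exact ⟨hx₀, hx₀1⟩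
  have main : ∀ X : Set G, X ⊆ Cfsg.typeA0 M → x₀ ∈ X → (∀ n ∈ M, ∀ a ∈ X, n * a * n⁻¹ ∈ X) →
      Cfsg.IsTISubset X ∧ Subgroup.normalizer X = M := by
    intro X hX hx₀X hconj
    have hMN : M ≤ Subgroup.normalizer X := fun n hn => by
      rw [Subgroup.mem_set_normalizer_iff]
      refine fun s => ⟨hconj n hn s, fun h => ?_⟩
      have := hconj n⁻¹ (M.inv_mem hn) _ h
      simpa [mul_assoc] using this
    refine ⟨fun g hg x hx hgx => absurd (hMN (hkey x (hX hx) g (hX hgx))) hg,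
      le_antisymm (fun g hg => ?_) hMN⟩
    exact hkey x₀ (hX hx₀X) g (hX ((Subgroup.mem_set_normalizer_iff.mp hg x₀).mp hx₀X))
  have hAconj : ∀ n ∈ M, ∀ a ∈ Cfsg.typeA M, n * a * n⁻¹ ∈ Cfsg.typeA M := by
    intro n hn a ha
    obtain ⟨hD, h1, x, hx, hx1, hc⟩ := (hA a).mp ha
    refine (hA _).mpr ⟨mem_derived_conj hn hD, fun e => h1 (conj_eq_one_iff.mp e), n * x * n⁻¹,
      (Subgroup.mem_normalizer_iff.mp (le_normalizer_fittingHallOf M hn) x).mp hx,
      fun e => hx1 (conj_eq_one_iff.mp e), ?_⟩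
    calc n * a * n⁻¹ * (n * x * n⁻¹) = n * (a * x) * n⁻¹ := by group
      _ = n * (x * a) * n⁻¹ := by rw [hc]
      _ = _ := by group
  refine ⟨main _ subset_rfl (hA0sub (hA1sub hx₀A)) ?_, main _ hA0sub (hA1sub hx₀A) hAconj,
    main _ (hA1sub.trans hA0sub) hx₀A ?_⟩
  · rintro n hn a (ha | ⟨hI, W₁', U', W₂', hP', m, hm, w, hw, h1, h2, rfl⟩)
    · exact Or.inl (hAconj n hn a ha)
    · exact Or.inr ⟨hI, W₁', U', W₂', hP', n * m, M.mul_mem hn hm, w, hw, h1, h2, by group⟩
  · intro n hn a ha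
    rw [Cfsg.typeA1, hcore] at ha ⊢
    exact ⟨(Subgroup.mem_normalizer_iff.mp (le_normalizer_fittingHallOf M hn) a).mp ha.1,
      fun e => ha.2 (conj_eq_one_iff.mp e)⟩

end Cfsg.Agent.S1538
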