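import Cfsg.Statements.S1537
import Cfsg.Agent.S1538
import Cfsg.Agent.S1375
import Cfsg.Agent.S1378
import Cfsg.Agent.S1432
import Cfsg.Agent.S1436
import Cfsg.Agent.S1438
import Cfsg.Agent.Lib.OddLocal.KappaA0
import Cfsg.Agent.Lib.OddLocal.TypeI

set_option autoImplicit false
set_option linter.style.haveILetI false
open Cfsg
open Cfsg.Agent.OddLocal
open scoped commutatorElement Pointwise

namespace Cfsg.Agent.S1537

section
variable {G : Type*} [Group G] [Finite G]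

theorem mem_core_of_primes (hG : IsMinSimpleOddOrder G) {M : Subgroup G} (hM : IsCoatom M) {b : G}
    (hb : b ∈ M) (h : ∀ q : ℕ, q.Prime → q ∣ orderOf b → q ∈ Cfsg.sigma M) : b ∈ Cfsg.sigmaCore M :=
  sigma_le_core hG hM (Subgroup.zpowers_le.mpr hb) (fun q hq hd => h q hq (by rwa [Nat.card_zpowers] at hd))
    (Subgroup.mem_zpowers b)

theorem mem_core_of_orderOf (hG : IsMinSimpleOddOrder G) {M : Subgroup G} (hM : IsCoatom M) {a b : G}
    (ha : a ∈ Cfsg.sigmaCore M) (hb : b ∈ M) (e : orderOf b = orderOf a) : b ∈ Cfsg.sigmaCore M :=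
  mem_core_of_primes hG hM hb fun q hq hd => orderOf_core ha q hq (e ▸ hd)

theorem kappa_or_tau2 (hG : IsMinSimpleOddOrder G) {M : Subgroup G} (hM : IsCoatom M) {c y : G} {q : ℕ}
    (hq : q.Prime) (hqσ : q ∉ Cfsg.sigma M) (hy : y ∈ Cfsg.sigmaCore M) (hy1 : y ≠ 1) (hc : c ∈ M)
    (hco : orderOf c = q) (hcy : c * y = y * c) : q ∈ Cfsg.kappa M ∨ q ∈ Cfsg.tau2 M := by
  have hc1 : c ≠ 1 := fun e => hq.ne_one (by rw [← hco, e, orderOf_one])
  rcases S1432.result hG M hM y hy hy1 c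
    (Subgroup.mem_inf.mpr ⟨hc, Subgroup.mem_centralizer_singleton_iff.mpr hcy⟩) hc1
    (fun p hp hd => by
      rw [hco] at hd; rwa [(Nat.prime_dvd_prime_iff_eq hp hq).mp hd]) with ⟨h, -⟩ | ⟨h, -⟩
  · exact Or.inl (h q hq hco.symm.dvd)
  · exact Or.inr (h q hq hco.symm.dvd)

end

/-- Let G be a minimal simple group of odd order and M a maximal subgroup. For A equal to A₁(M), A(M) or A₀(M): the set normaliser of A is M, and the Dade hypothesis holds for A, M and the function a ↦ R(a). -/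
theorem result {G : Type*} [Group G] [Finite G] (hG : Cfsg.IsMinSimpleOddOrder G) (M : Subgroup G) (hM : IsCoatom M) (A : Set G) (hA : A = Cfsg.typeA1 M ∨ A = Cfsg.typeA M ∨ A = Cfsg.typeA0 M) : Subgroup.normalizer A = M ∧ Cfsg.DadeHypothesis A M (Cfsg.supportR M) := by
  classical
  obtain ⟨⟨K, hK⟩, hKc⟩ := S1351.result hG M hM
  obtain ⟨⟨U, hKU⟩, -⟩ := S1352.result hG M hM K (hKc K hK) hK
  obtain ⟨-, -, hσD, hDlt, -⟩ := S1355.result hG M hM
  have hDM : ⁅M, M⁆ ≤ M := hDlt.le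
  set σc := Cfsg.sigmaCore M with hσc
  have hσM : σc ≤ M := sigmaCore_le M
  have hcore : Cfsg.typeCore M = σc := by
    rw [Cfsg.typeCore]
    split_ifs with h
    · obtain ⟨hK1, hU, -⟩ := (S1382.result hG M hM K U hKU).mp h
      rw [(S1365.result hG M hM K U hKU hK1).1, hU, bot_sup_eq]
    · by_contra hne
      obtain ⟨hU, -, hKp⟩ := S1357.result hG M hM K U hKU hne
      refine h ((S1382.result hG M hM K U hKU).mpr ⟨fun e => ?_, hU, hne⟩)
      rw [e, Subgroup.card_bot] at hKp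
      exact Nat.not_prime_one hKp
  have hMU : K = ⊥ → M ≤ U ⊔ σc := fun e m hm => by
    obtain ⟨u, hu, b, hb, rfl⟩ := hKU.compl.2.2.2 m hm
    rw [e, bot_sup_eq] at hb
    exact Subgroup.mul_mem_sup hu hb
  have hDU : ⁅M, M⁆ ≤ U ⊔ σc := by
    by_cases hK1 : K = ⊥
    · exact hDM.trans (hMU hK1)
    · exact (S1365.result hG M hM K U hKU hK1).1.le
  have hAs : ∀ a ∈ Cfsg.typeA M, a ∈ Cfsg.sigmaA M U ∧ a ≠ 1 := by
    intro a ha
    rw [Cfsg.typeA] at ha
    split_ifs at ha with hI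
    · obtain ⟨haM, ha1, x, hx, hx1, hc⟩ := ha
      obtain ⟨hK0, -, hH⟩ := typeI_kappa hG hM hKU hI
      exact ⟨⟨⟨haM, x, hH.le hx, hx1, hc⟩, hMU hK0 haM⟩, ha1⟩
    · obtain ⟨haD, ha1, x, hx, hx1, hc⟩ := ha
      exact ⟨⟨⟨hDM haD, x, hcore.le hx, hx1, hc⟩, hDU haD⟩, ha1⟩
  have hAconj : ∀ n ∈ M, ∀ a ∈ Cfsg.typeA M, n * a * n⁻¹ ∈ Cfsg.typeA M := by
    intro n hn a ha
    have hcomm : ∀ y : G, a * y = y * a → n * a * n⁻¹ * (n * y * n⁻¹) = n * y * n⁻¹ * (n * a * n⁻¹) := by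
      intro y hc
      calc n * a * n⁻¹ * (n * y * n⁻¹) = n * (a * y) * n⁻¹ := by group
        _ = n * (y * a) * n⁻¹ := by rw [hc]
        _ = _ := by group
    rw [Cfsg.typeA] at ha ⊢
    split_ifs at ha ⊢ with hI
    · obtain ⟨haM, ha1, x, hx, hx1, hc⟩ := ha
      exact ⟨M.mul_mem (M.mul_mem hn haM) (M.inv_mem hn), fun e => ha1 (conj_eq_one_iff.mp e), n * x * n⁻¹,
        (Subgroup.mem_normalizer_iff.mp (le_normalizer_fittingHallOf M hn) x).mp hx,
        fun e => hx1 (conj_eq_one_iff.mp e), hcomm x hc⟩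
    · obtain ⟨haD, ha1, x, hx, hx1, hc⟩ := ha
      rw [hcore] at hx ⊢
      exact ⟨S1538.mem_derived_conj hn haD, fun e => ha1 (conj_eq_one_iff.mp e), n * x * n⁻¹,
        (Subgroup.mem_normalizer_iff.mp (le_normalizer_sigmaCore M hn) x).mp hx,
        fun e => hx1 (conj_eq_one_iff.mp e), hcomm x hc⟩
  have hσA : ∀ a ∈ σc, a ≠ 1 → a ∈ Cfsg.typeA M := by
    intro a ha ha1
    rw [Cfsg.typeA]
    split_ifs with hI
    · exact ⟨hσM ha, ha1, a, (typeI_kappa hG hM hKU hI).2.2.ge ha, ha1, rfl⟩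
    · exact ⟨hσD ha, ha1, a, hcore.ge ha, ha1, rfl⟩
  have hA1sub : Cfsg.typeA1 M ⊆ Cfsg.typeA M := by
    intro a ha
    rw [Cfsg.typeA1, hcore] at ha
    exact hσA a ha.1 ha.2
  have hA0sub : Cfsg.typeA M ⊆ Cfsg.typeA0 M := Set.subset_union_left
  have hmem : ∀ a ∈ Cfsg.typeA0 M, a ∈ M ∧ a ≠ 1 := by
    rintro a (ha | ⟨-, W₁', U', W₂', h, m, hm, w, hw, h1, -, rfl⟩)
    · exact ⟨(hAs a ha).1.1.1, (hAs a ha).2⟩
    · have hwM : w ∈ M := sup_le h.W₁_compl.2.1
        ((h.W₂_le.trans inf_le_left).trans (fittingHallOf_le M)) hw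
      exact ⟨M.mul_mem (M.mul_mem hm hwM) (M.inv_mem hm),
        fun e => h1 (by rw [conj_eq_one_iff.mp e]; exact one_mem _)⟩
  -- elements outside `M'`
  have hB : ∀ W₁' U' W₂' : Subgroup G, Cfsg.IsTypePWith M W₁' U' W₂' →
      ∀ w ∈ W₁' ⊔ W₂', w ∉ W₁' → w ∉ W₂' →
      Subgroup.centralizer ({w} : Set G) ≤ W₁' ⊔ W₂' ∧ ¬ orderOf w ∣ Nat.card ↥⁅M, M⁆ := by
    intro W₁' U' W₂' h w hw h1 h2
    refine ⟨(Subgroup.centralizer_le_normalizer _).trans (h.selfNormalizing.2.2.2.2.2 {w}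
      (Set.singleton_subset_iff.mpr ⟨hw, fun e => e.elim h1 h2⟩) (Set.singleton_nonempty w)).le, fun hd => ?_⟩
    have hco := h.W₁_hall
    rw [relIndex_right_of_isComplIn h.W₁_compl] at hco
    obtain ⟨a, ha, b, hb, rfl⟩ := (Basics.mem_sup_of_le_normalizer (N := W₁') (H := W₂') (fun b hb =>
      Subgroup.centralizer_le_normalizer _
        (Subgroup.mem_centralizer_iff.mpr fun a ha => h.selfNormalizing.2.2.2.1 a ha b hb))).mp hw
    refine h2 ?_
    have hab : Commute a b := h.selfNormalizing.2.2.2.1 a ha b hb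
    have hbD : orderOf b ∣ Nat.card ↥⁅M, M⁆ := Subgroup.orderOf_dvd_natCard _ (h.W₂_le hb).2 |>.trans
      (Subgroup.card_dvd_of_le (Subgroup.commutator_mono hDM hDM))
    have hoa : orderOf a ∣ Nat.card ↥⁅M, M⁆ := by
      have e : a = a * b * b⁻¹ := by group
      rw [e]
      refine ((hab.mul_left (Commute.refl b)).inv_right).orderOf_mul_dvd_lcm.trans (Nat.lcm_dvd hd ?_)
      rwa [orderOf_inv]
    have ha1 := orderOf_eq_one_iff.mp
      (Nat.eq_one_of_dvd_coprimes hco (Subgroup.orderOf_dvd_natCard W₁' ha) hoa)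
    rw [ha1, one_mul]
    exact hb
  -- elements outside `M_σ` are moved into `A₀(M)` only by `M`
  have hkey : ∀ x ∈ Cfsg.typeA0 M, x ∉ σc → ∀ g : G, g * x * g⁻¹ ∈ Cfsg.typeA0 M → g ∈ M := by
    intro x hx hxσ g hgx
    have hyσ : g * x * g⁻¹ ∉ σc := fun h =>
      hxσ (mem_core_of_orderOf hG hM h (hmem x hx).1 (S1538.orderOf_conj' g x).symm)
    rcases hx with hx | ⟨-, W₁', U', W₂', hP', m, hm, w, hw, hw1, hw2, rfl⟩
    · rcases hgx with hgx | ⟨hnI, W₁'', U'', W₂'', hP'', m', hm', w', hw', hw1', hw2', e⟩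
      · set S := Cfsg.sigmaA M U \ (Cfsg.sigmaCore M : Set G) with hS
        have hSM : S ⊆ (M : Set G) := fun s hs => hs.1.1.1
        have hgN : g ∈ Subgroup.normalizer S := by
          by_contra hg
          exact (hAs x hx).2 (S1362.result hG M hM K U hKU g hg x ⟨(hAs x hx).1, hxσ⟩ ⟨(hAs _ hgx).1, hyσ⟩)
        have hfor : ∀ n ∈ M, ∀ s ∈ S, n * s * n⁻¹ ∈ S := by
          rintro n hn s ⟨⟨⟨hsM, y, hy, hy1, hc⟩, hsU⟩, hsn⟩
          have hnσ := Subgroup.mem_normalizer_iff.mp (le_normalizer_sigmaCore M hn)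
          refine ⟨⟨⟨M.mul_mem (M.mul_mem hn hsM) (M.inv_mem hn), n * y * n⁻¹, (hnσ y).mp hy,
            fun e => hy1 (conj_eq_one_iff.mp e), ?_⟩, ?_⟩, fun h => hsn ((hnσ s).mpr h)⟩
          · calc n * s * n⁻¹ * (n * y * n⁻¹) = n * (s * y) * n⁻¹ := by group
              _ = n * (y * s) * n⁻¹ := by rw [hc]
              _ = _ := by group
          · exact (Subgroup.mem_normalizer_iff.mp
              ((S1352.result hG M hM K (hKc K hK) hK).2 U hKU hn) s).mp hsU
        have hMN : M ≤ Subgroup.normalizer S := by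
          intro n hn
          rw [Subgroup.mem_set_normalizer_iff]
          refine fun s => ⟨hfor n hn s, fun h => ?_⟩
          have := hfor n⁻¹ (M.inv_mem hn) _ h
          simpa [mul_assoc] using this
        rcases hM.le_iff.mp hMN with e | e
        · exfalso
          haveI := hG.2.1
          have hall : ∀ t : G, t * x * t⁻¹ ∈ M := fun t => hSM
            ((Subgroup.mem_set_normalizer_iff.mp (show t ∈ Subgroup.normalizer S by rw [e]; exact Subgroup.mem_top t) x).mp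
              ⟨(hAs x hx).1, hxσ⟩)
          have hle : Subgroup.normalClosure ({x} : Set G) ≤ M := by
            rw [Subgroup.normalClosure, Subgroup.closure_le]
            intro y hy
            obtain ⟨a, ha, hay⟩ := Group.mem_conjugatesOfSet_iff.mp hy
            rw [Set.mem_singleton_iff] at ha
            obtain ⟨c, rfl⟩ := isConj_iff.mp (ha ▸ hay)
            exact hall c
          rcases (Subgroup.normalClosure_normal (s := ({x} : Set G))).eq_bot_or_eq_top with h | h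
          · exact (hAs x hx).2 (Subgroup.mem_bot.mp (h ▸ Subgroup.subset_normalClosure rfl))
          · exact hM.1 (top_le_iff.mp (h ▸ hle))
        · exact e ▸ hgN
      · exfalso
        obtain ⟨-, hd⟩ := hB _ _ _ hP'' w' hw' hw1' hw2'
        rw [← S1538.orderOf_conj' m' w', ← e, S1538.orderOf_conj'] at hd
        refine hd (Subgroup.orderOf_dvd_natCard _ ?_)
        rw [Cfsg.typeA, if_neg hnI] at hx
        exact hx.1
    · obtain ⟨hC', hd'⟩ := hB _ _ _ hP' w hw hw1 hw2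
      rcases hgx with hgx | ⟨-, W₁'', U'', W₂'', hP'', m', hm', w', hw', hw1', hw2', e⟩
      · exfalso
        rw [← S1538.orderOf_conj' m w, ← S1538.orderOf_conj' g] at hd'
        refine hd' (Subgroup.orderOf_dvd_natCard _ ?_)
        have hnI : ¬ Cfsg.IsOfTypeI M := fun hI => by
          obtain ⟨r, hr⟩ := kappa_of_typeP hG hM hP'
          refine hKU.hall.2.2 r hr.1 hr ?_
          rw [(typeI_kappa hG hM hKU hI).1, Subgroup.relIndex_bot_left]
          exact hr.2.1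
        rw [Cfsg.typeA, if_neg hnI] at hgx
        exact hgx.1
      obtain ⟨hC'', -⟩ := hB _ _ _ hP'' w' hw' hw1' hw2'
      set h := m'⁻¹ * g * m with hh
      have hwh : h * w * h⁻¹ = w' := by
        calc h * w * h⁻¹ = m'⁻¹ * (g * (m * w * m⁻¹) * g⁻¹) * m' := by rw [hh]; group
          _ = w' := by rw [e]; group
      haveI hcyc' : IsCyclic ↥(W₁' ⊔ W₂') := hP'.selfNormalizing.2.2.2.2.1
      haveI hcyc'' : IsCyclic ↥(W₁'' ⊔ W₂'') := hP''.selfNormalizing.2.2.2.2.1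
      have comm : ∀ a ∈ W₁' ⊔ W₂', a * w = w * a := fun a ha => by
        let _ : CommGroup ↥(W₁' ⊔ W₂') := IsCyclic.commGroup
        exact congrArg Subtype.val (mul_comm (⟨a, ha⟩ : ↥(W₁' ⊔ W₂')) ⟨w, hw⟩)
      have hWW : ∀ a ∈ W₁' ⊔ W₂', h * a * h⁻¹ ∈ W₁'' ⊔ W₂'' := fun a ha => hC'' <| by
        rw [Subgroup.mem_centralizer_singleton_iff, ← hwh]
        calc h * a * h⁻¹ * (h * w * h⁻¹) = h * (a * w) * h⁻¹ := by group
          _ = h * (w * a) * h⁻¹ := by rw [comm a ha]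
          _ = _ := by group
      obtain ⟨n, hn, hn1⟩ := compl_conj (isSolvable_of_ne_top hG hM.1)
        (by
          rw [relIndex_left_of_isComplIn hP'.W₁_compl, ← relIndex_right_of_isComplIn hP'.W₁_compl]
          exact hP'.W₁_hall.symm)
        hP''.W₁_compl hP'.W₁_compl
      obtain ⟨a, ha, ha1⟩ := (Subgroup.bot_or_exists_ne_one W₁').resolve_left hP'.W₁_ne
      have hna : n * a * n⁻¹ ∈ W₁'' := hn1.symm ▸ Subgroup.mem_map_of_mem _ ha
      have hW2le : W₂'.map (MulAut.conj n).toMonoidHom ≤ W₂'' := by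
        rintro _ ⟨b, hb, rfl⟩
        rw [← hP''.W₂_centralizer _ hna (fun e => ha1 (conj_eq_one_iff.mp e))]
        refine ⟨S1538.mem_derived_conj hn (Subgroup.commutator_mono hDM hDM (hP'.W₂_le hb).2), ?_⟩
        refine Subgroup.mem_centralizer_singleton_iff.mpr ?_
        show n * b * n⁻¹ * (n * a * n⁻¹) = n * a * n⁻¹ * (n * b * n⁻¹)
        have := hP'.selfNormalizing.2.2.2.1 a ha b hb
        calc n * b * n⁻¹ * (n * a * n⁻¹) = n * (b * a) * n⁻¹ := by group
          _ = n * (a * b) * n⁻¹ := by rw [this]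
          _ = _ := by group
      have sW : (W₁' ⊔ W₂').map (MulAut.conj n).toMonoidHom ≤ W₁'' ⊔ W₂'' := by
        rw [Subgroup.map_sup, ← hn1]; exact sup_le_sup_left hW2le _
      have sW' : (W₁' ⊔ W₂').map (MulAut.conj h).toMonoidHom ≤ W₁'' ⊔ W₂'' := by
        rintro _ ⟨a, ha, rfl⟩; exact hWW a ha
      have eqc : ∀ Z : Subgroup G, Z ≤ W₁' ⊔ W₂' →
          Z.map (MulAut.conj h).toMonoidHom = Z.map (MulAut.conj n).toMonoidHom := fun Z hZ =>
        S1538.eq_of_card_eq_cyclic ((Subgroup.map_mono hZ).trans sW') ((Subgroup.map_mono hZ).trans sW) (by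
          rw [Subgroup.card_map_of_injective (MulAut.conj h).injective,
            Subgroup.card_map_of_injective (MulAut.conj n).injective])
      set k := n⁻¹ * h with hk
      have pres : ∀ Z : Subgroup G, Z ≤ W₁' ⊔ W₂' → ∀ a, a ∈ Z ↔ k * a * k⁻¹ ∈ Z := by
        intro Z hZ a
        have h1 : a ∈ Z ↔ h * a * h⁻¹ ∈ Z.map (MulAut.conj h).toMonoidHom :=
          (Subgroup.mem_map_iff_mem (f := (MulAut.conj h).toMonoidHom) (MulAut.conj h).injective).symm
        rw [h1, eqc Z hZ]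
        have h2 : h * a * h⁻¹ = (MulAut.conj n).toMonoidHom (k * a * k⁻¹) := by
          show _ = n * (k * a * k⁻¹) * n⁻¹
          rw [hk]; group
        rw [h2]
        exact Subgroup.mem_map_iff_mem (MulAut.conj n).injective
      have hkW : k ∈ W₁' ⊔ W₂' := by
        have hX := hP'.selfNormalizing.2.2.2.2.2 ((↑(W₁' ⊔ W₂') : Set G) \ (↑W₁' ∪ ↑W₂'))
          subset_rfl ⟨w, hw, fun e => e.elim hw1 hw2⟩
        rw [← hX, Subgroup.mem_set_normalizer_iff]
        intro a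
        simp only [Set.mem_sdiff, Set.mem_union, SetLike.mem_coe]
        rw [pres _ le_rfl a, pres _ le_sup_left a, pres _ le_sup_right a]
      have hkM : k ∈ M :=
        sup_le hP'.W₁_compl.2.1 ((hP'.W₂_le.trans inf_le_left).trans (fittingHallOf_le M)) hkW
      have : g = m' * n * k * m⁻¹ := by rw [hk, hh]; group
      rw [this]
      exact M.mul_mem (M.mul_mem (M.mul_mem hm' hn) hkM) (M.inv_mem hm)
  -- facts on the set `A`
  obtain ⟨hAsub, hAσ, hconj⟩ : A ⊆ Cfsg.typeA0 M ∧ (∀ a ∈ σc, a ≠ 1 → a ∈ A) ∧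
      ∀ n ∈ M, ∀ a ∈ A, n * a * n⁻¹ ∈ A := by
    rcases hA with rfl | rfl | rfl
    · refine ⟨hA1sub.trans hA0sub, fun a ha ha1 => by rw [Cfsg.typeA1, hcore]; exact ⟨ha, ha1⟩, fun n hn a ha => ?_⟩
      rw [Cfsg.typeA1, hcore] at ha ⊢
      exact ⟨(Subgroup.mem_normalizer_iff.mp (le_normalizer_sigmaCore M hn) a).mp ha.1,
        fun e => ha.2 (conj_eq_one_iff.mp e)⟩
    · exact ⟨hA0sub, hσA, hAconj⟩
    · refine ⟨subset_rfl, fun a ha ha1 => hA0sub (hσA a ha ha1), ?_⟩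
      rintro n hn a (ha | ⟨hI, W₁', U', W₂', hP', m, hm, w, hw, h1, h2, rfl⟩)
      · exact Or.inl (hAconj n hn a ha)
      · exact Or.inr ⟨hI, W₁', U', W₂', hP', n * m, M.mul_mem hn hm, w, hw, h1, h2, by group⟩
  have hcent : ∀ a ∈ A, ¬ Subgroup.centralizer ({a} : Set G) ≤ M → a ∈ σc ∧ a ≠ 1 := by
    intro a ha hC
    refine ⟨?_, (hmem a (hAsub ha)).2⟩
    by_contra haσ
    refine hC fun g hg => hkey a (hAsub ha) haσ g ?_
    rw [Subgroup.mem_centralizer_singleton_iff] at hg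
    rw [hg, mul_inv_cancel_right]
    exact hAsub ha
  have hRbot : ∀ a, Subgroup.centralizer ({a} : Set G) ≤ M → Cfsg.supportR M a = ⊥ := fun a h => by
    rw [Cfsg.supportR, dif_neg (fun h' => h'.1 h)]
  have hRN : ∀ a ∈ A, ¬ Subgroup.centralizer ({a} : Set G) ≤ M → ∃ N : Subgroup G, IsCoatom N ∧
      Subgroup.centralizer ({a} : Set G) ≤ N ∧ a ∉ Cfsg.sigmaCore N ∧
      Cfsg.supportR M a = Cfsg.sigmaCore N ⊓ Subgroup.centralizer ({a} : Set G) ∧
      Subgroup.centralizer ({a} : Set G) ≤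
        Subgroup.normalizer ((Cfsg.sigmaCore N ⊓ Subgroup.centralizer ({a} : Set G) : Subgroup G) : Set G) ∧
      IsComplIn (M ⊓ Subgroup.centralizer ({a} : Set G)) (Cfsg.sigmaCore N ⊓ Subgroup.centralizer ({a} : Set G))
        (Subgroup.centralizer ({a} : Set G)) := by
    intro a ha hC
    obtain ⟨haσ, ha1⟩ := hcent a ha hC
    obtain ⟨N, ⟨hN, hCN⟩, huniq, hNF, hnorm, hc, -, hdec⟩ := S1375.result hG M hM a haσ ha1 hC
    have hu : ∃! L : Subgroup G, IsCoatom L ∧ Subgroup.centralizer ({a} : Set G) ≤ L :=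
      ⟨N, ⟨hN, hCN⟩, fun L hL => huniq L hL.1 hL.2⟩
    obtain ⟨⟨K', hK'⟩, hKc'⟩ := S1351.result hG N hN
    obtain ⟨⟨U', hKU'⟩, -⟩ := S1352.result hG N hN K' (hKc' K' hK') hK'
    refine ⟨N, hN, hCN, (hdec K' U' hKU').2.2, ?_, hnorm, hc⟩
    rw [Cfsg.supportR, dif_pos ⟨hC, hu⟩]
    rw [huniq _ (Classical.choose_spec hu.exists).1 (Classical.choose_spec hu.exists).2, hNF]
  refine ⟨le_antisymm (fun g hg => ?_) (fun n hn => ?_), ?_⟩
  · have hiff := Subgroup.mem_set_normalizer_iff.mp hg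
    have hN := normalizer_eq_of_le hG hM (sigmaCore_ne_bot hG hM) hσM (le_normalizer_sigmaCore M)
    rw [← hN, Subgroup.mem_normalizer_iff]
    intro y
    by_cases hy1 : y = 1
    · simp [hy1]
    constructor
    · intro hy
      exact mem_core_of_orderOf hG hM hy (hmem _ (hAsub ((hiff y).mp (hAσ y hy hy1)))).1 (S1538.orderOf_conj' g y)
    · intro hy
      have h1 : g * y * g⁻¹ ≠ 1 := fun e => hy1 (conj_eq_one_iff.mp e)
      exact mem_core_of_orderOf hG hM hy (hmem _ (hAsub ((hiff y).mpr (hAσ _ hy h1)))).1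
        (S1538.orderOf_conj' g y).symm
  · rw [Subgroup.mem_set_normalizer_iff]
    refine fun s => ⟨hconj n hn s, fun h => ?_⟩
    have := hconj n⁻¹ (M.inv_mem hn) _ h
    simpa [mul_assoc] using this
  refine
    { one_not_mem := fun h => (hmem 1 (hAsub h)).2 rfl
      subset := fun a ha => (hmem a (hAsub ha)).1
      conj_mem := hconj
      fusion := ?_
      le_centralizer := ?_
      conj_mem_H := ?_
      inf_eq_bot := ?_
      sup_eq := ?_
      coprime := ?_ }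
  · intro a ha g hg
    by_cases haσ : a ∈ σc
    · have hy := mem_core_of_orderOf hG hM haσ (hmem _ (hAsub hg)).1 (S1538.orderOf_conj' g a)
      obtain ⟨n, hn, hne⟩ := (S1438.result hG M hM σc le_rfl (sigmaCore_ne_bot hG hM)
        (by rw [Subgroup.relIndex_self]; exact Nat.coprime_one_right _)).2 a haσ g hy
      exact ⟨n, (Subgroup.mem_inf.mp hn).1, hne⟩
    · exact ⟨g, hkey a (hAsub ha) haσ g (hAsub hg), rfl⟩
  · intro a ha
    by_cases hC : Subgroup.centralizer ({a} : Set G) ≤ M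
    · rw [hRbot a hC]; exact bot_le
    · obtain ⟨N, -, -, -, e, -⟩ := hRN a ha hC
      rw [e]; exact inf_le_right
  · intro a ha c hc u hu
    by_cases hC : Subgroup.centralizer ({a} : Set G) ≤ M
    · rw [hRbot a hC, Subgroup.mem_bot] at hu ⊢
      simp [hu]
    · obtain ⟨N, -, -, -, e, hn, -⟩ := hRN a ha hC
      rw [e] at hu ⊢
      exact (Subgroup.mem_normalizer_iff.mp (hn hc) u).mp hu
  · intro a ha
    by_cases hC : Subgroup.centralizer ({a} : Set G) ≤ M
    · rw [hRbot a hC]; exact bot_inf_eq _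
    · obtain ⟨N, -, -, -, e, -, hc⟩ := hRN a ha hC
      rw [e, inf_comm]; exact hc.2.2.1
  · intro a ha
    by_cases hC : Subgroup.centralizer ({a} : Set G) ≤ M
    · rw [hRbot a hC, bot_sup_eq, inf_eq_right.mpr hC]
    · obtain ⟨N, -, -, -, e, -, hc⟩ := hRN a ha hC
      rw [e]
      refine le_antisymm (sup_le inf_le_right inf_le_right) fun x hx => ?_
      obtain ⟨u, hu, v, hv, rfl⟩ := hc.2.2.2 x hx
      exact mul_mem (Subgroup.mem_sup_right hu) (Subgroup.mem_sup_left hv)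
  · intro a ha b hb
    by_cases hC : Subgroup.centralizer ({a} : Set G) ≤ M
    · rw [hRbot a hC, Subgroup.card_bot]; exact Nat.coprime_one_left _
    obtain ⟨haσ, ha1⟩ := hcent a ha hC
    obtain ⟨N, hN, hCN, haN, e, -, -⟩ := hRN a ha hC
    rw [e]
    refine Nat.coprime_of_dvd fun q hq h1 h2 => ?_
    have hqN : q ∈ Cfsg.sigma N :=
      piCoreOf_primes _ N hq (h1.trans (Subgroup.card_dvd_of_le inf_le_left))
    have haNmem : a ∈ N := hCN (Subgroup.mem_centralizer_singleton_iff.mpr rfl)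
    have hqM : q ∉ Cfsg.sigma M := fun hqM => by
      obtain ⟨g, rfl⟩ := (S1378.result hG).2 M N hM hN ⟨q, hqM, hqN⟩
      exact haN (mem_core_of_primes hG hN haNmem fun r hr hd =>
        sigma_of_conj_inv rfl (orderOf_core haσ r hr hd))
    obtain ⟨hκ, hτ⟩ := (S1436.result hG M hM a haσ ha1 hC N hN hCN).1
      ⟨q, hqN, h2.trans (Subgroup.card_dvd_of_le inf_le_left)⟩
    have none : ∀ (c y : G) (r : ℕ), r.Prime → r ∉ Cfsg.sigma M → y ∈ σc → y ≠ 1 → c ∈ M →
        orderOf c = r → c * y = y * c → False := fun c y r hr hrσ hy hy1 hcM hco hcy => by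
      rcases kappa_or_tau2 hG hM hr hrσ hy hy1 hcM hco hcy with h | h
      · rw [hκ] at h; exact h
      · rw [hτ] at h; exact h
    haveI := Fact.mk hq
    obtain ⟨c, hc⟩ := exists_prime_orderOf_dvd_card' q h2
    rw [← Subgroup.orderOf_coe] at hc
    obtain ⟨hcM, hcb⟩ := Subgroup.mem_inf.mp c.2
    rw [Subgroup.mem_centralizer_singleton_iff] at hcb
    obtain ⟨hbM, hb1⟩ := hmem b (hAsub hb)
    have hbσ : b ∈ σc := by
      rcases hAsub hb with hb' | ⟨-, W₁', U', W₂', hP', -⟩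
      · obtain ⟨⟨⟨-, y, hy, hy1, hby⟩, -⟩, -⟩ := hAs b hb'
        refine mem_core_of_primes hG hM hbM fun r hr hd => ?_
        by_contra hrσ
        exact none (b ^ (orderOf b / r)) y r hr hrσ hy hy1 (pow_mem hbM _)
          (orderOf_pow_orderOf_div (orderOf_pos b).ne' hd) (((show Commute b y from hby).pow_left _).eq)
      · obtain ⟨r, hr⟩ := kappa_of_typeP hG hM hP'
        rw [hκ] at hr
        exact absurd hr (Set.notMem_empty r)
    exact none (c : G) b q hq hqM hbσ hb1 hcM hc hcb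

end Cfsg.Agent.S1537
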