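import Cfsg.Statements.S1542
import Cfsg.Agent.S1501
import Cfsg.Agent.S1500
import Cfsg.Agent.S1524
import Cfsg.Agent.S1537
import Cfsg.Agent.Lib.CohExt.Feit
import Cfsg.Agent.Lib.CohExt.TIInd
import Cfsg.Agent.Lib.OddLocal.CNFpf
import Cfsg.Agent.Lib.OddLocal.SigmaBasic

set_option autoImplicit false
set_option linter.all false
open Cfsg
open scoped commutatorElement

namespace Cfsg.Agent.S1542

universe u

variable {G : Type u} [Group G] [Fintype G] {A : Set G} {L : Subgroup G} {H : G → Subgroup G}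

theorem dade_add (α β : L → ℂ) :
    dadeIsometry A L H (α + β) = dadeIsometry A L H α + dadeIsometry A L H β := by
  funext g
  simp only [Pi.add_apply, dadeIsometry]
  split <;> simp

theorem dade_zsmul (n : ℤ) (α : L → ℂ) :
    dadeIsometry A L H (n • α) = n • dadeIsometry A L H α := by
  funext g
  simp only [Pi.smul_apply, dadeIsometry]
  split <;> simp

theorem dade_at_one (hD : DadeHypothesis A L H) (α : L → ℂ) : dadeIsometry A L H α 1 = 0 := by
  refine OddChar.dadeIsometry_eq_zero ?_
  rintro ⟨a, ha, u, hu, y, hy⟩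
  have : a = u⁻¹ := eq_inv_of_mul_eq_one_left (by rw [← hy]; group)
  have h2 : a ∈ H a ⊓ (L ⊓ Subgroup.centralizer ({a} : Set G)) :=
    Subgroup.mem_inf.mpr ⟨by rw [this] at hu ⊢; exact inv_mem hu,
      Subgroup.mem_inf.mpr ⟨hD.subset ha, Subgroup.mem_centralizer_singleton_iff.mpr rfl⟩⟩
  rw [hD.inf_eq_bot a ha, Subgroup.mem_bot] at h2
  exact hD.one_not_mem (h2 ▸ ha)

theorem coherent_congr {M : Type*} [Group M] [Fintype M] {S : Set (M → ℂ)} {B : Set M}
    {τ τ' : (M → ℂ) → (G → ℂ)} (h : IsCoherent S B τ) (he : ∀ α ∈ zspanOn S B, τ' α = τ α) :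
    IsCoherent S B τ' := by
  obtain ⟨h1, τ₁, h2, h3⟩ := h
  exact ⟨h1, τ₁, h2, fun α hα => (h3 α hα).trans (he α hα).symm⟩

variable [Fintype L]

theorem dade_eq_ind (hD : DadeHypothesis A L H) (hH : ∀ a ∈ A, H a = ⊥) {S : Set G}
    (hTI : CT.IsTI L S) (hAS : A ⊆ S) {α : L → ℂ} (hα : IsClassFunction L α)
    (hoffS : ∀ x : L, (x : G) ∉ S → α x = 0) (hoffA : ∀ x : L, (x : G) ∉ A → α x = 0) :
    dadeIsometry A L H α = indFun L α := by
  classical
  funext g
  by_cases hex : ∃ a : L, (a : G) ∈ A ∧ ∃ x : G, x * g * x⁻¹ = (a : G)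
  · obtain ⟨a, ha, x, hx⟩ := hex
    rw [OddChar.dadeIsometry_apply hD hα ha (one_mem _) (by rw [mul_one]; exact hx),
      ← CT.indFun_eq_on_TI hTI hα hoffS (hAS ha) (fun e => hD.one_not_mem (by simpa [e] using ha)),
      ← hx]
    exact CT.isClassFunction_indFun L α g x
  · rw [OddChar.dadeIsometry_eq_zero]
    · symm
      simp only [indFun]
      rw [Finset.sum_eq_zero, mul_zero]
      intro x _
      by_cases hm : x⁻¹ * g * x ∈ L
      · rw [CT.extendByZero_mem L α hm]
        refine hoffA _ fun hA' => hex ⟨⟨_, hm⟩, hA', x⁻¹, ?_⟩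
        simp
      · exact CT.extendByZero_not_mem L α hm
    · rintro ⟨a, ha, u, hu, y, hy⟩
      rw [hH a ha, Subgroup.mem_bot] at hu
      exact hex ⟨⟨a, hD.subset ha⟩, ha, y, by rw [hy, hu, mul_one]⟩

/-- Let G be a minimal simple group of odd order and L a maximal subgroup of Type I in which every non-identity element of H = L_F has its centraliser within L inside H. Let S be the set of functions on L induced from non-principal irreducible characters of H. Then every member of S is an irreducible character of L, and (S, L minus 1, τ) is coherent for τ the Dade map relative to A(L), L and a ↦ R(a). -/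
theorem result {G : Type*} [Group G] [Fintype G] (hG : Cfsg.IsMinSimpleOddOrder G) (L : Subgroup G) [Fintype L] (hL : IsCoatom L) (hI : Cfsg.IsOfTypeI L) (hfrob : ∀ x ∈ Cfsg.fittingHallOf L, x ≠ 1 → L ⊓ Subgroup.centralizer ({x} : Set G) ≤ Cfsg.fittingHallOf L) : (∀ χ ∈ Cfsg.inducedIrrAbove (Cfsg.fittingHall L) ⊥, Cfsg.IsIrrCharacter L χ) ∧ Cfsg.IsCoherent (Cfsg.inducedIrrAbove (Cfsg.fittingHall L) ⊥) {1}ᶜ (Cfsg.dadeIsometry (Cfsg.typeA L) L (Cfsg.supportR L)) := by
  classical
  have hC : ∀ n ∈ fittingHall L, n ≠ 1 → Subgroup.centralizer ({n} : Set L) ≤ fittingHall L := by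
    intro n hn hn1 c hc
    obtain ⟨d, hd, e⟩ := hfrob (n : G) (Subgroup.mem_map_of_mem _ hn) (fun e => hn1 (Subtype.ext e))
      (Subgroup.mem_inf.mpr ⟨c.2, Subgroup.mem_centralizer_singleton_iff.mpr
        (congrArg Subtype.val (Subgroup.mem_centralizer_singleton_iff.mp hc))⟩)
    exact Subtype.ext e ▸ hd
  obtain ⟨⟨-, hoddL, hN1, hNt, U, hU1, hcompl, -, -⟩, hcases⟩ := id hI
  refine ⟨fun χ hχ => CohExt.FrobSet.irr_of_mem _ hC ((CohExt.FrobSet.mem_ntAbove _).mpr hχ), ?_⟩
  rw [← CohExt.FrobSet.coe_ntAbove]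
  have hD := (S1537.result hG L hL (typeA L) (Or.inr (Or.inl rfl))).2
  have hprops : ∀ α ∈ zspanOn (↑(CohExt.FrobSet.ntAbove (fittingHall L) ⊥) : Set (L → ℂ)) {1}ᶜ,
      IsClassFunction L α ∧ IsGeneralizedCharacter L α ∧ (∀ x : L, x ∉ fittingHall L → α x = 0) ∧
        ∀ x : L, (x : G) ∉ typeA L → α x = 0 := by
    intro α hα
    obtain ⟨h1, h2, h3⟩ := CohExt.TIInd.zspan_props L (fittingHall L) hC hα.1
    refine ⟨h1, h2, h3, fun x hx => ?_⟩
    by_cases hx1 : x = 1
    · subst hx1
      exact (OddChar.zspanOn_iff.mp hα).2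
    · refine h3 x fun hxN => hx ?_
      rw [typeA, if_pos hI]
      exact ⟨x.2, fun e => hx1 (Subtype.ext e), x, Subgroup.mem_map_of_mem _ hxN,
        fun e => hx1 (Subtype.ext e), rfl⟩
  have hτ : IsLinearIsometryOn
      (zspanOn (↑(CohExt.FrobSet.ntAbove (fittingHall L) ⊥) : Set (L → ℂ)) {1}ᶜ)
      (dadeIsometry (typeA L) L (supportR L)) := by
    refine ⟨fun a _ b _ => dade_add a b, fun a _ n => dade_zsmul n a, fun a ha b hb => ?_, fun a ha => ?_⟩
    · obtain ⟨a1, -, -, a4⟩ := hprops a ha
      obtain ⟨b1, -, -, b4⟩ := hprops b hb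
      exact (S1500.result _ L _ hD a a1 a4).1 b b1 b4
    · obtain ⟨-, a2, -, a4⟩ := hprops a ha
      exact S1501.result _ L _ hD a a2 a4
  have he : Nat.card (fittingHall L) ≠ (fittingHall L).index + 1 := by
    intro h
    have h1 : Odd (Nat.card (fittingHall L)) := hoddL.of_dvd_nat (Subgroup.card_subgroup_dvd_card _)
    have h2 : Odd (fittingHall L).index := hoddL.of_dvd_nat (Subgroup.index_dvd_card _)
    exact Nat.not_even_iff_odd.mpr h1 (h ▸ h2.add_one)
  have hmapcard : Nat.card (fittingHallOf L) = Nat.card (fittingHall L) :=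
    (Nat.card_congr ((fittingHall L).equivMapOfInjective _ L.subtype_injective).toEquiv).symm
  rcases CohExt.Feit.coherent_or (fittingHall L) hC _ hτ (fun α _ => dade_at_one hD α) hN1 hNt he with
    h | ⟨p, hp, ⟨m, hm⟩, hnab, hsmall⟩
  · exact h
  rcases hcases with hTI | ⟨hab, -, -⟩ | ⟨hexp, -⟩
  · -- trivial intersection kernel
    have hne : fittingHallOf L ≠ ⊥ := fun e => hN1 (by
      apply Subgroup.map_injective L.subtype_injective
      rw [Subgroup.map_bot]; exact e)
    have hLN : L ≤ Subgroup.normalizer (fittingHallOf L : Set G) := by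
      intro x hx
      rw [Subgroup.mem_normalizer_iff]
      intro h
      constructor
      · rintro ⟨d, hd, rfl⟩
        exact ⟨⟨x, hx⟩ * d * ⟨x, hx⟩⁻¹, (fittingHall_normal L).conj_mem _ hd _, by simp⟩
      · rintro ⟨d, hd, e⟩
        refine ⟨⟨x, hx⟩⁻¹ * d * ⟨x, hx⟩, by simpa using (fittingHall_normal L).conj_mem _ hd ⟨x, hx⟩⁻¹, ?_⟩
        change (d : G) = x * h * x⁻¹ at e
        simp [e, mul_assoc]
    have hHL : fittingHallOf L ≤ L := Subgroup.map_subtype_le _
    have hN : Subgroup.normalizer (fittingHallOf L : Set G) = L :=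
      OddLocal.normalizer_eq_of_le hG hL hne hHL hLN
    have hsub : (fittingHallOf L).subgroupOf L = fittingHall L :=
      Subgroup.comap_map_eq_self_of_injective L.subtype_injective _
    have hAS : typeA L ⊆ (fittingHallOf L : Set G) := by
      intro a ha
      rw [typeA, if_pos hI] at ha
      obtain ⟨haL, -, x, hx, hx1, hc⟩ := ha
      exact hfrob x hx hx1 (Subgroup.mem_inf.mpr ⟨haL, Subgroup.mem_centralizer_singleton_iff.mpr hc⟩)
    have hH : ∀ a ∈ typeA L, supportR L a = ⊥ := by
      intro a ha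
      rw [supportR, dif_neg]
      rintro ⟨h1, -⟩
      refine h1 fun g hg => ?_
      by_contra hgL
      refine hD.one_not_mem ?_
      have hga : g * a * g⁻¹ = a := by rw [Subgroup.mem_centralizer_singleton_iff.mp hg]; group
      have := hTI g (by rw [hN]; exact hgL) a (hAS ha) (by rw [hga]; exact hAS ha)
      exact this ▸ ha
    have hTI' : CT.IsTI L (fittingHallOf L : Set G) := fun g hg => hTI g (by rw [hN]; exact hg)
    have key := S1524.result (fittingHallOf L) L (U.map L.subtype) hoddL hHL (Subgroup.map_subtype_le _) hne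
      (fun e => hU1 (by apply Subgroup.map_injective L.subtype_injective; rw [Subgroup.map_bot]; exact e))
      (by
        haveI := OddChar.frob_nilpotent (fittingHall L) hC hN1 hNt
        exact Group.nilpotent_of_surjective ((fittingHall L).equivMapOfInjective _ L.subtype_injective).toMonoidHom
          (MulEquiv.surjective _))
      (fun x hx h hh => (Subgroup.mem_normalizer_iff.mp (hLN hx) h).mp hh)
      (by rw [fittingHallOf, ← Subgroup.map_inf _ _ _ L.subtype_injective, hcompl.disjoint.eq_bot, Subgroup.map_bot])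
      (by rw [fittingHallOf, ← Subgroup.map_sup, hcompl.sup_eq_top, ← MonoidHom.range_eq_map, Subgroup.range_subtype])
      (by
        rintro w hw hw1 h hh hc
        by_contra hh1
        have hwH : w ∈ fittingHallOf L := hfrob h hh hh1
          (Subgroup.mem_inf.mpr ⟨Subgroup.map_subtype_le _ hw, Subgroup.mem_centralizer_singleton_iff.mpr hc⟩)
        obtain ⟨a, ha, rfl⟩ := hw
        obtain ⟨b, hb, e⟩ := hwH
        refine hw1 ?_
        have : a ∈ fittingHall L ⊓ U := ⟨Subtype.ext e ▸ hb, ha⟩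
        rw [hcompl.disjoint.eq_bot, Subgroup.mem_bot] at this
        rw [this]; rfl)
      hTI hN
    rw [hsub, ← CohExt.FrobSet.coe_ntAbove] at key
    refine coherent_congr key fun α hα => ?_
    obtain ⟨h1, -, h3, h4⟩ := hprops α hα
    exact dade_eq_ind hD hH hTI' hAS h1
      (fun x hx => h3 x fun hxN => hx (Subgroup.mem_map_of_mem _ hxN)) h4
  · -- abelian kernel
    refine absurd ⟨⟨fun a b => ?_⟩⟩ hnab
    apply ((fittingHall L).equivMapOfInjective _ L.subtype_injective).injective
    rw [map_mul, map_mul]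
    exact hab.is_comm.comm _ _
  · -- the complement is small
    exfalso
    haveI : Fact p.Prime := ⟨hp⟩
    have hpN : p ∣ Nat.card (fittingHall L) := by
      have : m ≠ 0 := fun h0 => hN1 (Subgroup.card_eq_one.mp (by rw [hm, h0, pow_zero]))
      rw [hm]; exact dvd_pow_self p this
    have hdvd := hexp p hp (hmapcard ▸ hpN)
    haveI : IsZGroup U := ⟨fun q hq S => by
      haveI := Fact.mk hq
      have hfpf : ∀ e ∈ U, e ≠ 1 → fittingHall L ⊓ Subgroup.centralizer ({e} : Set L) = ⊥ := by
        intro e he' he1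
        rw [Subgroup.eq_bot_iff_forall]
        rintro n ⟨hn, hn2⟩
        by_contra hn1
        have : e ∈ fittingHall L ⊓ U := ⟨hC n hn hn1 (Subgroup.mem_centralizer_singleton_iff.mpr
          (Subgroup.mem_centralizer_singleton_iff.mp hn2).symm), he'⟩
        rw [hcompl.disjoint.eq_bot, Subgroup.mem_bot] at this
        exact he1 this
      rcases Basics.fpf_sylow_cyclic_or_quaternion (fittingHall L) U hN1 hfpf q S with h | ⟨rfl, n, ⟨e⟩⟩
      · exact h
      · exfalso
        have h1 : Nat.card (QuaternionGroup (2 ^ n)) ∣ Nat.card U :=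
          (Nat.card_congr e.toEquiv) ▸ Subgroup.card_subgroup_dvd_card (S : Subgroup U)
        rw [Nat.card_eq_fintype_card, QuaternionGroup.card] at h1
        exact (Nat.not_even_iff_odd.mpr (hoddL.of_dvd_nat (Subgroup.card_subgroup_dvd_card U)))
          (even_iff_two_dvd.mpr ((dvd_trans ⟨2, rfl⟩ (dvd_mul_right 4 (2 ^ n))).trans h1))⟩
    haveI : IsZGroup (L ⧸ fittingHall L) :=
      IsZGroup.of_surjective (f := (QuotientGroup.mk' (fittingHall L)).comp U.subtype) (by
        rw [← MonoidHom.range_eq_top, MonoidHom.range_comp, Subgroup.range_subtype, eq_top_iff]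
        rintro y -
        obtain ⟨x, rfl⟩ := QuotientGroup.mk'_surjective _ y
        obtain ⟨⟨⟨a, ha⟩, ⟨b, hb⟩⟩, rfl⟩ := hcompl.2 x
        refine ⟨b, hb, ?_⟩
        rw [map_mul, (QuotientGroup.eq_one_iff a).mpr ha |> (show QuotientGroup.mk' (fittingHall L) a = 1 from ·), one_mul])
    rw [IsZGroup.exponent_eq_card, ← Subgroup.index_eq_card] at hdvd
    have hpo : Odd p := hoddL.of_dvd_nat (hpN.trans (Subgroup.card_subgroup_dvd_card _))
    have hio : Odd (fittingHall L).index := hoddL.of_dvd_nat (Subgroup.index_dvd_card _)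
    have hp3 : 2 * (fittingHall L).index + 1 ≤ p := by
      obtain ⟨t, ht⟩ := hdvd
      have := hp.two_le
      rcases Nat.even_or_odd t with ⟨s, rfl⟩ | hto
      · have : 1 ≤ s := by rcases Nat.eq_zero_or_pos s with rfl | h <;> simp_all <;> omega
        have := Nat.mul_le_mul_left (fittingHall L).index (show 2 ≤ s + s by omega)
        omega
      · have h2 : Odd (p - 1) := ht ▸ hio.mul hto
        obtain ⟨a, rfl⟩ := hpo
        obtain ⟨b, hb⟩ := h2
        omega
    haveI := OddChar.frob_nilpotent (fittingHall L) hC hN1 hNt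
    have hidx : p ^ 2 ≤ (commutator (fittingHall L)).index := by
      obtain ⟨j, -, hj⟩ := (Nat.dvd_prime_pow hp).mp (hm ▸ (commutator (fittingHall L)).index_dvd_card)
      rcases j with _ | _ | j
      · exfalso
        haveI : Nontrivial (fittingHall L) := (Subgroup.nontrivial_iff_ne_bot _).mpr hN1
        exact (Group.IsSolvable.commutator_lt_top_of_nontrivial (G := fittingHall L)).ne
          (Subgroup.index_eq_one.mp (by simpa using hj))
      · exfalso
        exact hnab ⟨⟨OddChar.comm_of_isCyclic_commutator_quotient (by rw [hj]; simpa using hp)⟩⟩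
      · rw [hj]; exact Nat.pow_le_pow_right hp.pos (by omega)
    rw [show (⁅fittingHall L, fittingHall L⁆.subgroupOf (fittingHall L)).index = (commutator (fittingHall L)).index
      from CohExt.Feit.relIndex_commutator (fittingHall L) hC] at hsmall
    have := Nat.pow_le_pow_left hp3 2
    have := hio.pos
    nlinarith

end Cfsg.Agent.S1542
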