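import Cfsg.Statements.S1545
import Cfsg.Agent.Lib.FrobFixed.General
import Cfsg.Agent.Lib.Basics.ThompsonFpf

set_option autoImplicit false
open Cfsg

namespace Cfsg.Agent.S1545

/-- Let X be a finite group with subgroups U, E and H such that U and E generate a subgroup UE = U ⊔ E normalising H, with U normal in UE, U ⊓ E = ⊥, U ≠ ⊥, E ≠ ⊥, every non-identity element of E commuting with no non-identity element of U (UE is a Frobenius group with kernel U acting on H by conjugation), H solvable, H ⊓ (U ⊔ E) = ⊥ and the orders of H and U ⊔ E coprime. Then Nat.card (H ⊓ C(U ⊔ E)) ^ Nat.card E * Nat.card H = Nat.card (H ⊓ C(E)) ^ Nat.card E * Nat.card (H ⊓ C(U)), where C(·) denotes the centraliser. -/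
theorem result {X : Type*} [Group X] [Finite X] (U E H : Subgroup X) (hU1 : U ≠ ⊥) (hE1 : E ≠ ⊥) (hUE : U ⊓ E = ⊥) (hUn : ∀ e ∈ E, ∀ u ∈ U, e * u * e⁻¹ ∈ U) (hfpf : ∀ e ∈ E, e ≠ 1 → ∀ u ∈ U, e * u = u * e → u = 1) (hHn : ∀ x ∈ U ⊔ E, ∀ h ∈ H, x * h * x⁻¹ ∈ H) (hdisj : H ⊓ (U ⊔ E) = ⊥) (hsolv : Group.IsSolvable H) (hcop : Nat.Coprime (Nat.card H) (Nat.card ↥(U ⊔ E))) : Nat.card ↥(H ⊓ Subgroup.centralizer ((U ⊔ E : Subgroup X) : Set X)) ^ Nat.card E * Nat.card H = Nat.card ↥(H ⊓ Subgroup.centralizer (E : Set X)) ^ Nat.card E * Nat.card ↥(H ⊓ Subgroup.centralizer (U : Set X)) := by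
  classical
  have hRK : E ≤ Subgroup.normalizer (U : Set X) := by
    intro e he
    refine Subgroup.mem_normalizer_iff.mpr fun u => ⟨fun hu => hUn e he u hu, fun hu => ?_⟩
    have := hUn e⁻¹ (E.inv_mem he) _ hu
    simpa [mul_assoc] using this
  obtain ⟨p, hp, hpd⟩ := Nat.exists_prime_and_dvd (fun h => hE1 (Subgroup.card_eq_one.mp h) : Nat.card E ≠ 1)
  haveI := Fact.mk hp
  obtain ⟨x, hx⟩ := exists_prime_orderOf_dvd_card' (G := E) p hpd
  have hx1 : (x : X) ≠ 1 := fun e => by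
    rw [← Subgroup.orderOf_coe, e, orderOf_one] at hx
    exact hp.one_lt.ne hx
  have hUs : Group.IsSolvable U := by
    have hn : Group.IsNilpotent (U.subgroupOf (Subgroup.normalizer (U : Set X))) :=
      Cfsg.Agent.Basics.isNilpotent_of_conj_fpf _ (x := ⟨x, hRK x.2⟩) (p := p)
        (by rw [← Subgroup.orderOf_coe]; show orderOf (x : X) = p; rw [Subgroup.orderOf_coe, hx])
        fun n hn hc => Subtype.ext (hfpf x x.2 hx1 n hn (congrArg Subtype.val hc))
    haveI := hn
    haveI := Group.nilpotent_of_mulEquiv (Subgroup.subgroupOfEquivOfLe (Subgroup.le_normalizer (H := U)))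
    infer_instance
  have hN : U ⊔ E ≤ Subgroup.normalizer (H : Set X) := fun y hy => by
    refine Subgroup.mem_normalizer_iff.mpr fun h => ⟨fun hh => hHn y hy h hh, fun hh => ?_⟩
    have := hHn y⁻¹ ((U ⊔ E).inv_mem hy) _ hh
    simpa [mul_assoc] using this
  exact Cfsg.Agent.FrobFixed.frobenius_card_general _ U E H rfl hUs hsolv hRK hfpf hcop.symm
    (le_sup_left.trans hN) (le_sup_right.trans hN)

end Cfsg.Agent.S1545
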