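import Cfsg.Statements.S1546
import Cfsg.Agent.Lib.OddChar.Powers

set_option autoImplicit false
open Cfsg

namespace Cfsg.Agent.S1546

/-- Let p and q be odd primes and N = (p ^ q − 1) / (p − 1) = 1 + p + ⋯ + p^(q−1). Then N is odd; if p ≡ 1 (mod q) then q ∣ N; and if p is not ≡ 1 (mod q) then N is coprime to p − 1 and every divisor of N is ≡ 1 (mod q). -/
theorem result (p q : ℕ) (hp : p.Prime) (hq : q.Prime) (hp2 : p ≠ 2) (hq2 : q ≠ 2) : Odd ((p ^ q - 1) / (p - 1)) ∧ (p % q = 1 → q ∣ (p ^ q - 1) / (p - 1)) ∧ (p % q ≠ 1 → Nat.Coprime ((p ^ q - 1) / (p - 1)) (p - 1) ∧ ∀ x : ℕ, x ∣ (p ^ q - 1) / (p - 1) → x % q = 1) := by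
  have hp1 : 1 < p := hp.one_lt
  have hN : (p ^ q - 1) / (p - 1) = ∑ i ∈ Finset.range q, p ^ i := by
    rw [Nat.geomSum_eq hp.two_le]
  rw [hN]
  have hpodd : Odd p := hp.odd_of_ne_two hp2
  have hqodd : Odd q := hq.odd_of_ne_two hq2
  have hgs : (∑ i ∈ Finset.range q, p ^ i) * (p - 1) + 1 = p ^ q :=
    geom_sum_mul_of_one_le (x := p) hp1.le q ▸ Nat.sub_add_cancel (Nat.one_le_pow _ _ hp.pos)
  have hmod : ∀ m : ℕ, (p : ZMod m) = 1 → ((∑ i ∈ Finset.range q, p ^ i : ℕ) : ZMod m) = q := by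
    intro m hm
    simp [hm]
  refine ⟨?_, ?_, ?_⟩
  · have h2 : (p : ZMod 2) = 1 := (ZMod.natCast_eq_one_iff_odd).mpr hpodd
    rw [← ZMod.natCast_eq_one_iff_odd, hmod 2 h2]
    exact ZMod.natCast_eq_one_iff_odd.mpr hqodd
  · intro h
    rw [← ZMod.natCast_eq_zero_iff, hmod q ?_]
    · simp
    · rw [← ZMod.natCast_mod p q, h, Nat.cast_one]
  · intro h
    refine ⟨?_, ?_⟩
    · have hd1 : ((p : ZMod (p - 1))) = 1 := by
        have h1 : ((p - 1 : ℕ) : ZMod (p - 1)) = 0 := ZMod.natCast_self _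
        rw [Nat.cast_sub hp1.le, Nat.cast_one] at h1
        exact sub_eq_zero.mp h1
      refine Nat.coprime_of_dvd fun r hr hrN hrp => ?_
      have h0 : ((∑ i ∈ Finset.range q, p ^ i : ℕ) : ZMod r) = q := by
        refine hmod r ?_
        have h1 : ((p - 1 : ℕ) : ZMod r) = 0 := (ZMod.natCast_eq_zero_iff _ _).mpr hrp
        rw [Nat.cast_sub hp1.le, Nat.cast_one] at h1
        exact sub_eq_zero.mp h1
      rw [(ZMod.natCast_eq_zero_iff _ _).mpr hrN, eq_comm, ZMod.natCast_eq_zero_iff] at h0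
      have hrq : r = q := (Nat.prime_dvd_prime_iff_eq hr hq).mp h0
      subst hrq
      obtain ⟨k, hk⟩ := hrp
      have hpk : p = 1 + r * k := by omega
      apply h
      rw [hpk, Nat.add_mul_mod_self_left, Nat.one_mod_eq_one.mpr hq.ne_one]
    · intro x hx
      induction x using Nat.recOnMul with
      | zero =>
        rw [zero_dvd_iff] at hx
        rw [hx] at hgs
        exact absurd hgs (by simpa using (Nat.one_lt_pow hq.ne_zero hp1).ne)
      | one => exact Nat.one_mod_eq_one.mpr hq.ne_one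
      | prime r hr =>
        haveI := Fact.mk hr
        have hN0 : ((∑ i ∈ Finset.range q, p ^ i : ℕ) : ZMod r) = 0 :=
          (ZMod.natCast_eq_zero_iff _ _).mpr hx
        have hpq : (p : ZMod r) ^ q = 1 := by
          have := congrArg (Nat.cast : ℕ → ZMod r) hgs
          push_cast at this hN0
          rw [hN0, zero_mul, zero_add] at this
          exact this.symm
        have hne : (p : ZMod r) ≠ 1 := by
          intro hp1'
          rw [hmod r hp1', ZMod.natCast_eq_zero_iff] at hN0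
          have hrq : r = q := (Nat.prime_dvd_prime_iff_eq hr hq).mp hN0
          subst hrq
          apply h
          have := congrArg ZMod.val hp1'
          rwa [ZMod.val_natCast, ZMod.val_one] at this
        have ho : orderOf (p : ZMod r) = q := by
          haveI := Fact.mk hq
          exact orderOf_eq_prime hpq hne
        have h0 : (p : ZMod r) ≠ 0 := by
          intro h0
          rw [h0, zero_pow hq.ne_zero] at hpq
          exact zero_ne_one hpq
        obtain ⟨k, hk⟩ : q ∣ r - 1 := ho ▸ orderOf_dvd_of_pow_eq_one (ZMod.pow_card_sub_one_eq_one h0)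
        have hr1 : r = 1 + q * k := by have := hr.one_lt; omega
        rw [hr1, Nat.add_mul_mod_self_left, Nat.one_mod_eq_one.mpr hq.ne_one]
      | mul a b iha ihb =>
        rw [Nat.mul_mod, iha ((dvd_mul_right a b).trans hx), ihb ((dvd_mul_left b a).trans hx), one_mul,
          Nat.one_mod_eq_one.mpr hq.ne_one]

end Cfsg.Agent.S1546
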