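import Cfsg.Statements.S1550
import Cfsg.Agent.Lib.Golay.Sextet

set_option autoImplicit false
open scoped Pointwise
open Cfsg

namespace Cfsg.Agent.S1550

open scoped Pointwise
open Cfsg.Agent.Golay24

attribute [local irreducible] weightList codeList combTo

/-- Every 4-element set of the 24 points is a tetrad of exactly one sextet, and the sextets number 1771. -/
theorem result : (∀ t : Finset Cfsg.GolayPt, t.card = 4 → ∃! S : Finset (Finset Cfsg.GolayPt), S ∈ Cfsg.sextets ∧ t ∈ S) ∧ Cfsg.sextets.ncard = 1771 := by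
  refine ⟨fun t ht => ⟨sextOf t, sextOf_mem ht, fun S hS => eq_sextOf hS.1 hS.2⟩, ?_⟩
  classical
  have hn : sextList.Nodup := by
    refine List.Nodup.filter _ ?_
    rw [List.nodup_iff_injective_getElem]
    intro i j h
    obtain ⟨-, hi⟩ := leadSeqOk_spec cosetLeads 0 i.1 cosetLeads_spec.2 i.2
    obtain ⟨-, hj⟩ := leadSeqOk_spec cosetLeads 0 j.1 cosetLeads_spec.2 j.2
    rw [List.getD_eq_getElem _ _ i.2, show cosetLeads[i.1] = cosetLeads[j.1] from h] at hi
    rw [List.getD_eq_getElem _ _ j.2] at hj
    exact Fin.ext (by omega)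
  rw [sextets_eq, semSext_injOn.ncard_image,
    show {m | m ∈ sextList} = (↑sextList.toFinset : Set ℕ) by ext; simp, Set.ncard_coe_finset,
    List.toFinset_card_of_nodup hn]
  decide +kernel

end Cfsg.Agent.S1550
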