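import Cfsg.Statements.S1551
import Cfsg.Agent.Lib.Golay.SextetStab

set_option autoImplicit false
open scoped Pointwise
open Cfsg

namespace Cfsg.Agent.S1551

open scoped Pointwise
open Cfsg.Agent.Golay24

attribute [local irreducible] weightList codeList combTo

/-- Structure of a sextet stabiliser: it induces every permutation of the six tetrads, the subgroup fixing each tetrad setwise has order 192, and there is a normal subgroup of order 64 consisting of elements squaring to the identity. -/
theorem result (S : Finset (Finset Cfsg.GolayPt)) (hS : S ∈ Cfsg.sextets) : (∀ e : Equiv.Perm ↥S, ∃ g ∈ MulAction.stabilizer Cfsg.M24 S, ∀ t : ↥S, (g : Equiv.Perm Cfsg.GolayPt) • (t : Finset Cfsg.GolayPt) = ((e t : ↥S) : Finset Cfsg.GolayPt)) ∧ Nat.card {g : ↥(MulAction.stabilizer Cfsg.M24 S) // ∀ t ∈ S, ((g : Cfsg.M24) : Equiv.Perm Cfsg.GolayPt) • t = t} = 192 ∧ ∃ N : Subgroup ↥(MulAction.stabilizer Cfsg.M24 S), N.Normal ∧ Nat.card N = 64 ∧ ∀ x ∈ N, x * x = 1 := by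
  obtain ⟨σ, hσ, rfl⟩ := exists_sextet_map hS
  set G := MulAction.stabilizer M24 (σ • stdSextet) with hG
  -- transport to the standard stabiliser
  let conj : sextStab →* ↥G :=
    { toFun := fun g => ⟨⟨σ * g * σ⁻¹, M24.mul_mem (M24.mul_mem hσ g.2.1) (M24.inv_mem hσ)⟩, by
        show (σ * (g : Equiv.Perm GolayPt) * σ⁻¹) • σ • stdSextet = σ • stdSextet
        rw [mul_smul, mul_smul, inv_smul_smul]
        exact congrArg (σ • ·) g.2.2⟩
      map_one' := by apply Subtype.ext; apply Subtype.ext; simp
      map_mul' := fun a b => by apply Subtype.ext; apply Subtype.ext; simp [mul_assoc] }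
  have hcard : Nat.card ↥G = 138240 := by
    have h := (MulAction.stabilizer M24 (σ • stdSextet)).index_mul_card
    have ho : MulAction.orbit M24 (σ • stdSextet) = sextets := by
      refine orbit_eq_of_reach hS (fun g y hy => smul_mem_sextets g.2 hy) fun y hy => ?_
      obtain ⟨τ, hτ, rfl⟩ := exists_sextet_map hy
      exact ⟨⟨τ * σ⁻¹, M24.mul_mem hτ (M24.inv_mem hσ)⟩, by
        show (τ * σ⁻¹) • σ • stdSextet = _
        rw [mul_smul, inv_smul_smul]⟩
    exact card_stabilizer_of_orbit (by rw [ho, sextets_ncard]) (by rw [card_M24]) (by norm_num)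
  -- the action on the six members
  let φ : ↥G →* Equiv.Perm ↥(σ • stdSextet) :=
    { toFun := fun g =>
        { toFun := fun t => ⟨((g : M24) : Equiv.Perm GolayPt) • (t : Finset GolayPt), by
            have h : ((g : M24) : Equiv.Perm GolayPt) • σ • stdSextet = σ • stdSextet := g.2
            have h' := Finset.smul_mem_smul_finset (a := ((g : M24) : Equiv.Perm GolayPt)) t.2
            rwa [h] at h'⟩
          invFun := fun t => ⟨((g : M24) : Equiv.Perm GolayPt)⁻¹ • (t : Finset GolayPt), by
            have h : ((g : M24) : Equiv.Perm GolayPt) • σ • stdSextet = σ • stdSextet := g.2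
            rw [Finset.inv_smul_mem_iff, h]; exact t.2⟩
          left_inv := fun t => Subtype.ext (inv_smul_smul _ _)
          right_inv := fun t => Subtype.ext (smul_inv_smul _ _) }
      map_one' := Equiv.ext fun t => Subtype.ext (one_smul _ _)
      map_mul' := fun a b => Equiv.ext fun t => Subtype.ext (mul_smul _ _ _) }
  have hker : ∀ g : ↥G, g ∈ φ.ker ↔
      ∀ t ∈ σ • stdSextet, ((g : M24) : Equiv.Perm GolayPt) • t = t := by
    intro g
    rw [MonoidHom.mem_ker]
    constructor
    · exact fun h t ht => congrArg Subtype.val (Equiv.ext_iff.1 h ⟨t, ht⟩)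
    · exact fun h => Equiv.ext fun t => Subtype.ext (h t t.2)
  -- many elements fix every member
  have hk : (sextKerGC.ok && (chainProd sextKerGC.chain == 192) &&
      sextKerGC.gens.all (fun g => inM24 g && sextRoots.all fun m => img g m == m) &&
      (sextRoots.all fun m => fourB m && (canon4 m == 8388615)) &&
      sortedB sextRoots && (sextRoots.length == 6)) = true := by decide +kernel
  simp only [Bool.and_eq_true, List.all_eq_true, beq_iff_eq] at hk
  obtain ⟨⟨⟨⟨⟨hkok, hkprod⟩, hkgens⟩, hroots⟩, hsort⟩, hlen⟩ := hk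
  have hmembers : stdSextet = (sextRoots.map Golay24.setOf).toFinset := by
    refine (Finset.eq_of_subset_of_card_le ?_ ?_).symm
    · intro t ht
      obtain ⟨m, hm, rfl⟩ := List.mem_map.1 (List.mem_toFinset.1 ht)
      obtain ⟨h4, hcan⟩ := hroots m hm
      obtain ⟨hlt, hp, hc⟩ := fourB_card h4
      have := (canon4_spec hlt hp).2.2.2
      rw [hcan] at this
      rw [stdSextet, this]
      exact (sextOf_mem hc).2
    · have hnd : (sextRoots.map Golay24.setOf).Nodup := by
        refine List.Nodup.map_on (fun a ha b hb h => setOf_inj (fourB_card (hroots a ha).1).1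
          (fourB_card (hroots b hb).1).1 h) ?_
        exact (sortedB_pairwise hsort).imp fun h => ne_of_lt h
      rw [List.toFinset_card_of_nodup hnd, List.length_map, hlen, stdSextet_mem.1]
  have hfixall : ∀ g ∈ sextKerGC.grp, g ∈ M24 ∧ ∀ t ∈ stdSextet, g • t = t := by
    intro g hg
    induction hg using Subgroup.closure_induction with
    | mem x hx =>
      obtain ⟨y, hy, rfl⟩ := hx
      refine ⟨toPerm_mem_M24 (hkgens y hy).1, fun t ht => ?_⟩
      rw [hmembers, List.mem_toFinset, List.mem_map] at ht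
      obtain ⟨m, hm, rfl⟩ := ht
      rw [smul_setOf (valid_of_inM24 (hkgens y hy).1), (hkgens y hy).2 m hm]
    | one => exact ⟨M24.one_mem, fun t _ => one_smul _ _⟩
    | mul a b _ _ ha hb => exact ⟨M24.mul_mem ha.1 hb.1, fun t ht => by rw [mul_smul, hb.2 t ht, ha.2 t ht]⟩
    | inv a _ ha => exact ⟨M24.inv_mem ha.1, fun t ht => inv_smul_eq_iff.2 (ha.2 t ht).symm⟩
  have hkle : sextKerGC.grp ≤ sextStab := fun g hg => ⟨(hfixall g hg).1, by
    refine Finset.eq_of_subset_of_card_le (fun y hy => ?_)
      (le_of_eq (Finset.card_smul_finset g stdSextet).symm)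
    obtain ⟨t, ht, rfl⟩ := Finset.mem_smul_finset.1 hy
    rwa [(hfixall g hg).2 t ht]⟩
  have hker192 : 192 ≤ Nat.card φ.ker := by
    let f : sextKerGC.grp → φ.ker := fun g => ⟨conj (Subgroup.inclusion hkle g), by
      rw [hker]
      intro t ht
      obtain ⟨t', ht', rfl⟩ := Finset.mem_smul_finset.1 ht
      show (σ * (g : Equiv.Perm GolayPt) * σ⁻¹) • σ • t' = σ • t'
      rw [mul_smul, mul_smul, inv_smul_smul, (hfixall g g.2).2 t' ht']⟩
    have hf : Function.Injective f := by
      intro a b h
      apply Subtype.ext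
      have := congrArg (fun x : φ.ker => (((x : ↥G) : M24) : Equiv.Perm GolayPt)) h
      exact mul_left_cancel (mul_right_cancel this)
    exact le_trans (hkprod ▸ sextKerGC.le_card hkok) (Nat.card_le_card_of_injective f hf)
  have hsw : (List.range 6).all (fun i => i == 0 || (inM24 (sextSwaps.getD (i - 1) 0) &&
      (sextAct (sextSwaps.getD (i - 1) 0) 8388615 == 8388615) &&
      (List.range 6).all fun k => img (sextSwaps.getD (i - 1) 0) (sextRoots.getD k 0) ==
        sextRoots.getD (if k == 0 then i else if k == i then 0 else k) 0)) = true := by decide +kernel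
  simp only [List.all_eq_true, List.mem_range, Bool.and_eq_true, Bool.or_eq_true, beq_iff_eq] at hsw
  have hidx : ∀ u : ↥(σ • stdSextet), ∃ k < 6, (u : Finset GolayPt) = σ • Golay24.setOf (sextRoots.getD k 0) := by
    rintro ⟨u, hu⟩
    obtain ⟨t, ht, rfl⟩ := Finset.mem_smul_finset.1 hu
    rw [hmembers, List.mem_toFinset, List.mem_map] at ht
    obtain ⟨m, hm, rfl⟩ := ht
    obtain ⟨k, hk, rfl⟩ := List.mem_iff_getElem.1 hm
    exact ⟨k, by omega, by rw [List.getD_eq_getElem _ _ hk]⟩
  have hin : ∀ k, k < 6 → σ • Golay24.setOf (sextRoots.getD k 0) ∈ σ • stdSextet := by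
    intro k hk
    refine Finset.smul_mem_smul_finset ?_
    rw [hmembers, List.mem_toFinset, List.getD_eq_getElem _ _ (by omega)]
    exact List.mem_map_of_mem (List.getElem_mem _)
  let a₀ : ↥(σ • stdSextet) := ⟨_, hin 0 (by norm_num)⟩
  have hswap : ∀ u, Equiv.swap a₀ u ∈ φ.range := by
    intro u
    obtain ⟨i, hi, hue⟩ := hidx u
    rcases Nat.eq_zero_or_pos i with rfl | hi0
    · rw [show u = a₀ from Subtype.ext hue, Equiv.swap_self]
      exact φ.range.one_mem
    obtain ⟨⟨hgM, hgS⟩, hgk⟩ := (hsw i hi).resolve_left hi0.ne'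
    set w := sextSwaps.getD (i - 1) 0
    have hw : toPerm w ∈ sextStab := ⟨toPerm_mem_M24 hgM, by
      show toPerm w • stdSextet = stdSextet
      rw [stdSextet, ← semSext_act hgM (by decide +kernel), hgS]⟩
    refine ⟨conj ⟨_, hw⟩, Equiv.ext fun v => Subtype.ext ?_⟩
    obtain ⟨k, hk, hve⟩ := hidx v
    show (σ * toPerm w * σ⁻¹) • (v : Finset GolayPt) = _
    rw [hve, mul_smul, mul_smul, inv_smul_smul, smul_setOf (valid_of_inM24 hgM), hgk k hk]
    by_cases hva : v = a₀
    · subst hva
      rw [Equiv.swap_apply_left, hue]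
      have : k = 0 := by
        have h2 := congrArg maskOf (smul_left_cancel σ (hve.symm.trans rfl : σ • Golay24.setOf (sextRoots.getD k 0) = σ • Golay24.setOf (sextRoots.getD 0 0)))
        have hl : ∀ j, j < 6 → sextRoots.getD j 0 < 2 ^ 24 := fun j hj => by
          rw [List.getD_eq_getElem _ _ (by omega)]; exact (fourB_card (hroots _ (List.getElem_mem _)).1).1
        rw [maskOf_setOf (hl k hk), maskOf_setOf (hl 0 (by norm_num))] at h2
        by_contra hne
        have hp := List.pairwise_iff_getElem.1 (sortedB_pairwise hsort) 0 k (by omega) (by omega) (by omega)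
        rw [List.getD_eq_getElem _ _ (by omega), List.getD_eq_getElem _ _ (by omega)] at h2
        omega
      rw [if_pos this]
    by_cases hvu : v = u
    · subst hvu
      rw [Equiv.swap_apply_right]
      show _ = σ • Golay24.setOf (sextRoots.getD 0 0)
      have : k = i := by
        have h2 := congrArg maskOf (smul_left_cancel σ (hve.symm.trans hue))
        have hl : ∀ j, j < 6 → sextRoots.getD j 0 < 2 ^ 24 := fun j hj => by
          rw [List.getD_eq_getElem _ _ (by omega)]; exact (fourB_card (hroots _ (List.getElem_mem _)).1).1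
        rw [maskOf_setOf (hl k hk), maskOf_setOf (hl i hi)] at h2
        rw [List.getD_eq_getElem _ _ (by omega), List.getD_eq_getElem _ _ (by omega)] at h2
        exact (List.Nodup.getElem_inj_iff ((sortedB_pairwise hsort).imp fun h => ne_of_lt h)).1 h2
      rw [if_neg (by omega), if_pos this]
    rw [Equiv.swap_apply_of_ne_of_ne hva hvu, hve]
    have hk0 : k ≠ 0 := fun e => hva (Subtype.ext (by rw [hve, e]))
    have hki : k ≠ i := fun e => hvu (Subtype.ext (by rw [hve, e, hue]))
    rw [if_neg hk0, if_neg hki]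
  have htop : φ.range = ⊤ := by
    rw [eq_top_iff, ← Equiv.Perm.closure_isSwap, Subgroup.closure_le]
    rintro _ ⟨x, y, hxy, rfl⟩
    by_cases hx : x = a₀
    · rw [hx]; exact hswap y
    by_cases hy : y = a₀
    · rw [hy, Equiv.swap_comm]; exact hswap x
    have h3 := φ.range.mul_mem (φ.range.mul_mem (hswap x) (hswap y)) (hswap x)
    rwa [show Equiv.swap a₀ x * Equiv.swap a₀ y * Equiv.swap a₀ x = Equiv.swap x y by
      rw [Equiv.swap_comm a₀ y, Equiv.swap_mul_swap_mul_swap hy (Ne.symm hxy)]] at h3
  have hmul := φ.ker.card_mul_index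
  rw [Subgroup.index_ker, hcard, htop, Subgroup.card_top, Nat.card_perm, Nat.card_eq_finsetCard,
    hS.1, show Nat.factorial 6 = 720 from rfl] at hmul
  have hk192 : Nat.card φ.ker = 192 := by omega
  refine ⟨fun e => ?_, ?_, ?_⟩
  · obtain ⟨g, hg⟩ : e ∈ φ.range := htop ▸ Subgroup.mem_top e
    exact ⟨g, g.2, fun t => by rw [← hg]; rfl⟩
  · rw [← hk192]
    exact Nat.card_congr (Equiv.subtypeEquivRight fun g => (hker g).symm)
  -- the normal subgroup of order 64
  have hN : (sextN.grpOk (fun g => inM24 g && (sextAct g 8388615 == 8388615)) &&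
      sextN.elems.all (fun p => isIdP (compP p p)) && (sextN.elems.length == 64) &&
      (List.range sextGC.gens.length).all (fun i => (List.range sextN.gens.length).all fun j =>
        Nat.blt ((sextNConj.getD i []).getD j 64) 64 &&
        (compP (sextGC.gens.getD i 0) (sextN.gens.getD j 0) ==
          compP (getSlot 120 sextN.tab ((sextNConj.getD i []).getD j 64)) (sextGC.gens.getD i 0)))) = true := by
    decide +kernel
  simp only [Bool.and_eq_true, List.all_eq_true, List.mem_range, beq_iff_eq, Nat.blt_eq] at hN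
  obtain ⟨⟨⟨hNok, hNsq⟩, hNlen⟩, hNconj⟩ := hN
  have hNle : sextN.grp ≤ sextStab := sextN.grp_le hNok fun g hg => by
    simp only [Bool.and_eq_true, beq_iff_eq] at hg
    refine ⟨toPerm_mem_M24 hg.1, ?_⟩
    show toPerm g • stdSextet = stdSextet
    rw [stdSextet, ← semSext_act hg.1 (by decide +kernel), hg.2]
  have hnorm : sextStab ≤ Subgroup.normalizer (sextN.grp : Set (Equiv.Perm GolayPt)) := by
    rw [sextStab_eq, Subgroup.closure_le]
    rintro _ ⟨h, hh, rfl⟩
    obtain ⟨i, hi, rfl⟩ := List.mem_iff_getElem.1 hh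
    have hhv : validP sextGC.gens[i] = true := valid_of_inM24 (sextGC_gens hh).1
    have hle : sextN.grp.map (MulAut.conj (toPerm sextGC.gens[i])).toMonoidHom ≤ sextN.grp := by
      rw [SylCert.grp, MonoidHom.map_closure, Subgroup.closure_le]
      rintro _ ⟨_, ⟨n, hn, rfl⟩, rfl⟩
      obtain ⟨j, hj, rfl⟩ := List.mem_iff_getElem.1 hn
      obtain ⟨hk, he⟩ := hNconj i hi j hj
      rw [List.getD_eq_getElem _ _ hi, List.getD_eq_getElem _ _ hj] at he
      have hkm := sextN.slot_mem hNok (k := (sextNConj.getD i []).getD j 64) (by rw [hNlen]; exact hk)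
      have e := mul_eq_of_compP hhv (sextN.gens_valid hNok hn).1 (sextN.valid hNok hkm).1 hhv he
      show toPerm sextGC.gens[i] * toPerm sextN.gens[j] * (toPerm sextGC.gens[i])⁻¹ ∈
        Subgroup.closure {σ | ∃ g ∈ sextN.gens, toPerm g = σ}
      rw [e, mul_inv_cancel_right]
      exact sextN.elem_mem hNok hkm
    have heq := Subgroup.eq_of_le_of_card_ge hle (le_of_eq (Nat.card_congr
      ((MulAut.conj (toPerm sextGC.gens[i])).subgroupMap sextN.grp).toEquiv))
    rw [SetLike.mem_coe, Subgroup.mem_normalizer_iff]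
    intro n
    constructor
    · exact fun hn => heq.le ⟨n, hn, rfl⟩
    · intro hn
      obtain ⟨m, hm, he⟩ := heq.ge hn
      have : n = m := (mul_left_cancel (mul_right_cancel he)).symm
      rw [this]; exact hm
  have hconj : Function.Bijective conj := by
    refine ⟨fun a b h => ?_, fun g => ?_⟩
    · apply Subtype.ext
      have := congrArg (fun x : ↥G => ((x : M24) : Equiv.Perm GolayPt)) h
      exact mul_left_cancel (mul_right_cancel this)
    · have hg : ((g : M24) : Equiv.Perm GolayPt) • σ • stdSextet = σ • stdSextet := g.2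
      refine ⟨⟨σ⁻¹ * (g : M24) * σ, M24.mul_mem (M24.mul_mem (M24.inv_mem hσ) g.1.2) hσ, ?_⟩, ?_⟩
      · show (σ⁻¹ * ((g : M24) : Equiv.Perm GolayPt) * σ) • stdSextet = stdSextet
        rw [mul_smul, mul_smul, hg, inv_smul_smul]
      · apply Subtype.ext; apply Subtype.ext
        show σ * (σ⁻¹ * ((g : M24) : Equiv.Perm GolayPt) * σ) * σ⁻¹ = _
        group
  refine ⟨(sextN.grp.subgroupOf sextStab).map conj,
    @Subgroup.Normal.map _ _ _ _ (sextN.grp.subgroupOf sextStab)
      ⟨fun n hn g => (Subgroup.mem_normalizer_iff.1 (hnorm g.2) _).1 hn⟩ conj hconj.2,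
    ?_, ?_⟩
  · rw [Subgroup.card_map_of_injective hconj.1,
      Nat.card_congr (Subgroup.subgroupOfEquivOfLe hNle).toEquiv, sextN.card_grp hNok, hNlen]
  · rintro _ ⟨x, hx, rfl⟩
    obtain ⟨p, hp, hpe⟩ := (sextN.mem_grp_iff hNok).1 hx
    rw [← map_mul, show x * x = 1 from Subtype.ext (by
      rw [Subgroup.coe_mul]
      show (x : Equiv.Perm GolayPt) * x = 1
      have hxe : (x : Equiv.Perm GolayPt) = toPerm p := hpe.symm
      rw [hxe, ← toPerm_compP (sextN.valid hNok hp).1 (sextN.valid hNok hp).1]
      exact toPerm_eq_one_of_isIdP (validP_compP (sextN.valid hNok hp).1 (sextN.valid hNok hp).1)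
        (hNsq p hp)), map_one]

end Cfsg.Agent.S1551
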