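import Cfsg.Statements.S1552
import Cfsg.Agent.Lib.Golay.SextetStab

set_option autoImplicit false
open scoped Pointwise
open Cfsg

namespace Cfsg.Agent.S1552

open scoped Pointwise
open Cfsg.Agent.Golay24

attribute [local irreducible] weightList codeList combTo

/-- A sextet stabiliser has four orbits on the 1771 sextets, of sizes 1, 90, 240, 1440; and the stabiliser is a maximal proper subgroup. -/
theorem result (S : Finset (Finset Cfsg.GolayPt)) (hS : S ∈ Cfsg.sextets) : ∃ X₁ ∈ Cfsg.sextets, ∃ X₂ ∈ Cfsg.sextets, ∃ X₃ ∈ Cfsg.sextets, (MulAction.orbit ↥(MulAction.stabilizer Cfsg.M24 S) X₁).ncard = 90 ∧ (MulAction.orbit ↥(MulAction.stabilizer Cfsg.M24 S) X₂).ncard = 240 ∧ (MulAction.orbit ↥(MulAction.stabilizer Cfsg.M24 S) X₃).ncard = 1440 ∧ Cfsg.sextets = {S} ∪ MulAction.orbit ↥(MulAction.stabilizer Cfsg.M24 S) X₁ ∪ MulAction.orbit ↥(MulAction.stabilizer Cfsg.M24 S) X₂ ∪ MulAction.orbit ↥(MulAction.stabilizer Cfsg.M24 S) X₃ ∧ IsCoatom (MulAction.stabilizer Cfsg.M24 S) :=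 by
  obtain ⟨σ, hσ, rfl⟩ := exists_sextet_map hS
  have hX : ∀ c ∈ sextOrbs, σ • semSext c.root ∈ sextets ∧
      MulAction.orbit ↥(MulAction.stabilizer M24 (σ • stdSextet)) (σ • semSext c.root) =
        (σ • ·) '' (semSext '' {x | x ∈ c.orb}) := by
    intro c hc
    refine ⟨smul_mem_sextets hσ ?_, ?_⟩
    · rw [sextets_eq]
      have hroot : c.root ∈ c.orb := by
        have h := List.all_eq_true.1 sextOrbs_ok c hc
        simp only [OrbCert.ok, Bool.and_eq_true, beq_iff_eq] at h
        have hlen : 0 < c.orb.length := by omega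
        rw [OrbCert.root, List.getD_eq_getElem _ _ hlen]
        exact List.getElem_mem _
      exact ⟨_, sextOrb_sub hc hroot, rfl⟩
    · rw [orbit_stabilizer_smul hσ, (sextOrb_orbit hc).1]
  have hn : ∀ c ∈ sextOrbs,
      (MulAction.orbit ↥(MulAction.stabilizer M24 (σ • stdSextet)) (σ • semSext c.root)).ncard =
        c.orb.length := by
    intro c hc
    rw [(hX c hc).2, Set.ncard_image_of_injective _ (MulAction.injective σ), (sextOrb_orbit hc).2]
  have h1 : sextOrb1 ∈ sextOrbs := by simp [sextOrbs]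
  have h2 : sextOrb2 ∈ sextOrbs := by simp [sextOrbs]
  have h3 : sextOrb3 ∈ sextOrbs := by simp [sextOrbs]
  refine ⟨_, (hX _ h1).1, _, (hX _ h2).1, _, (hX _ h3).1, ?_, ?_, ?_, ?_, sextStab_isCoatom hS⟩
  · rw [hn _ h1]; decide +kernel
  · rw [hn _ h2]; decide +kernel
  · rw [hn _ h3]; decide +kernel
  · rw [(hX _ h1).2, (hX _ h2).2, (hX _ h3).2]
    have hst : (σ • ·) '' sextets = sextets := by
      refine Set.eq_of_subset_of_ncard_le ?_
        (le_of_eq (Set.ncard_image_of_injective _ (MulAction.injective σ)).symm) (Set.toFinite _)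
      rintro _ ⟨y, hy, rfl⟩
      exact smul_mem_sextets hσ hy
    conv_lhs => rw [← hst, sextets_split]
    simp only [Set.image_union, Set.image_singleton]

end Cfsg.Agent.S1552
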