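import Cfsg.Statements.S1554
import Cfsg.Agent.Lib.Golay.OctadStab

set_option autoImplicit false
open scoped Pointwise
open Cfsg

namespace Cfsg.Agent.S1554

open scoped Pointwise
open Cfsg.Agent.Golay24

attribute [local irreducible] weightList codeList combTo

/-- An octad stabiliser is a split extension: the joint stabiliser of the octad and a point outside it is a complement to the pointwise stabiliser of the octad, and is isomorphic to the alternating group of degree 8. -/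
theorem result (o : Finset Cfsg.GolayPt) (ho : o ∈ Cfsg.octads) (p : Cfsg.GolayPt) (hp : p ∉ o) : (Cfsg.M24 ⊓ fixingSubgroup (Equiv.Perm Cfsg.GolayPt) (o : Set Cfsg.GolayPt)) ⊓ (Cfsg.M24 ⊓ MulAction.stabilizer (Equiv.Perm Cfsg.GolayPt) o ⊓ MulAction.stabilizer (Equiv.Perm Cfsg.GolayPt) p) = ⊥ ∧ (Cfsg.M24 ⊓ fixingSubgroup (Equiv.Perm Cfsg.GolayPt) (o : Set Cfsg.GolayPt)) ⊔ (Cfsg.M24 ⊓ MulAction.stabilizer (Equiv.Perm Cfsg.GolayPt) o ⊓ MulAction.stabilizer (Equiv.Perm Cfsg.GolayPt) p) = (Cfsg.M24 ⊓ MulAction.stabilizer (Equiv.Perm Cfsg.GolayPt) o) ∧ Nonempty (↥(Cfsg.M24 ⊓ MulAction.stabilizer (Equiv.Perm Cfsg.GolayPt) o ⊓ MulAction.stabilizer (Equiv.Perm Cfsg.GolayPt) p) ≃* alternatingGroup (Fin 8)) := by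
  obtain ⟨-, htr, hfree⟩ := octFix_spec ho
  set L : Subgroup (Equiv.Perm GolayPt) :=
    octStab o ⊓ MulAction.stabilizer (Equiv.Perm GolayPt) p with hL
  have hle : octFix o ≤ octStab o := fun g hg => ⟨(mem_octFix.1 hg).1, by
    refine Finset.eq_of_subset_of_card_le (fun y hy => ?_) (le_of_eq (Finset.card_smul_finset g o).symm)
    obtain ⟨z, hz, rfl⟩ := Finset.mem_smul_finset.1 hy
    rwa [Equiv.Perm.smul_def, (mem_octFix.1 hg).2 z hz]⟩
  have hbot : octFix o ⊓ L = ⊥ := by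
    rw [Subgroup.eq_bot_iff_forall]
    exact fun g hg => hfree g hg.1 p hp hg.2.2
  have hsup : octFix o ⊔ L = octStab o := by
    refine le_antisymm (sup_le hle inf_le_left) fun g hg => ?_
    obtain ⟨k, hk, he⟩ := htr p hp (g p) (fun h => hp ((octStab_iff hg p).1 h))
    have hl : k⁻¹ * g ∈ L := ⟨(octStab o).mul_mem ((octStab o).inv_mem (hle hk)) hg, by
      show (k⁻¹ * g) p = p
      rw [Equiv.Perm.mul_apply, ← he]; simp⟩
    rw [show g = k * (k⁻¹ * g) by group]
    exact Subgroup.mul_mem_sup hk hl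
  refine ⟨hbot, hsup, ?_⟩
  let f : ↥L →* Equiv.Perm ↥o := (octRes o).comp (Subgroup.inclusion inf_le_left)
  have hinj : Function.Injective f := by
    rw [injective_iff_map_eq_one]
    intro g hg
    apply Subtype.ext
    refine hfree _ ((octRes_ker_iff (Subgroup.inclusion inf_le_left g)).1 hg) p hp g.2.2
  have hrange : f.range = alternatingGroup ↥o := by
    rw [← octRes_range ho]
    refine le_antisymm ?_ ?_
    · rintro _ ⟨g, rfl⟩
      exact ⟨_, rfl⟩
    rintro _ ⟨g, rfl⟩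
    obtain ⟨k, hk, he⟩ := htr p hp ((g : Equiv.Perm GolayPt) p) (fun h => hp ((octStab_iff g.2 p).1 h))
    have hl : k⁻¹ * (g : Equiv.Perm GolayPt) ∈ L :=
      ⟨(octStab o).mul_mem ((octStab o).inv_mem (hle hk)) g.2, by
        show (k⁻¹ * (g : Equiv.Perm GolayPt)) p = p
        rw [Equiv.Perm.mul_apply, ← he]; simp⟩
    refine ⟨⟨_, hl⟩, ?_⟩
    show octRes o (⟨k, hle hk⟩⁻¹ * g) = octRes o g
    rw [map_mul, (octRes o).map_inv,
      MonoidHom.mem_ker.1 ((octRes_ker_iff ⟨k, hle hk⟩).2 hk), inv_one, one_mul]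
  exact ⟨(MonoidHom.ofInjective hinj).trans ((MulEquiv.subgroupCongr hrange).trans
    (Equiv.altCongrHom (Finset.equivFinOfCardEq ho.2)))⟩

end Cfsg.Agent.S1554
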