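import Cfsg.Statements.S1555
import Cfsg.Agent.Lib.Golay.Carry
import Cfsg.Agent.Lib.Golay.StepsA

set_option autoImplicit false
open scoped Pointwise
open Cfsg

namespace Cfsg.Agent.S1555

open scoped Pointwise
open Cfsg.Agent.Golay24

attribute [local irreducible] weightList codeList combTo

/-- Bottom row of the Leech triangle: an octad is met in a prescribed pair of its points by exactly 16 octads and in a prescribed 4-subset by exactly 4 octads. -/
theorem result (o : Finset Cfsg.GolayPt) (ho : o ∈ Cfsg.octads) (s : Finset Cfsg.GolayPt) (hs : s ⊆ o) : (s.card = 2 → {o' : Finset Cfsg.GolayPt | o' ∈ Cfsg.octads ∧ o ∩ o' = s}.ncard = 16) ∧ (s.card = 4 → {o' : Finset Cfsg.GolayPt | o' ∈ Cfsg.octads ∧ o ∩ o' = s}.ncard = 4) := by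
  obtain ⟨σ, hσ⟩ := carries_octad ho
  have key : ∀ (c : StepCert) (k n : ℕ),
      c.ok [m24Octad] (cutList (combList k) ([m24Octad].zip [k])) = true → s.card = k →
      ((weightList 8).filter fun m => Nat.land m24Octad m == c.root).length = n →
      Nat.blt c.root 16777216 = true →
      {o' : Finset GolayPt | o' ∈ octads ∧ o ∩ o' = s}.ncard = n := by
    intro c k n hc hk hn hlt
    obtain ⟨τ, hτ⟩ := c.extend hc hσ (s := s) ((mem_cutList_carries hσ (by rfl)).2
      ⟨inv_smul_mem_combList_iff.2 hk, by simp [Finset.inter_eq_right.2 hs, hk]⟩)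
    have hm := hτ.2
    simp only [List.cons_append, List.nil_append, List.map_cons, List.map_nil, List.cons.injEq,
      and_true] at hm
    rw [ncard_of_pullback (σ := τ) ((weightList 8).filter fun m => Nat.land m24Octad m == c.root)
      ((weightList_nodup 8).filter _) (fun m hm' => weightList_lt (List.mem_of_mem_filter hm')), hn]
    intro x
    rw [List.mem_filter, inv_smul_mem_octads_iff hτ.1, beq_iff_eq]
    refine and_congr Iff.rfl ⟨fun hx => ?_, fun hx => ?_⟩
    · have e : m24Octad &&& maskOf (τ⁻¹ • x) = c.root := by
        refine eq_of_testBit24 (Nat.and_lt_two_pow _ (maskOf_lt _)) (by simpa using hlt) fun i => ?_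
        have h1 : Golay24.setOf (m24Octad &&& maskOf (τ⁻¹ • x)) = Golay24.setOf c.root := by
          apply MulAction.injective τ
          show τ • _ = τ • _
          rw [setOf_land, setOf_maskOf, Finset.smul_finset_inter, hm.1, smul_inv_smul, hm.2, hx]
        have := Finset.ext_iff.1 h1 (pt i)
        simp only [mem_setOf, idx_pt] at this
        rwa [Bool.eq_iff_iff]
      exact e
    · have e : Golay24.setOf (m24Octad &&& maskOf (τ⁻¹ • x)) = Golay24.setOf c.root := congrArg Golay24.setOf hx
      rw [setOf_land, setOf_maskOf] at e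
      rw [← hm.1, ← hm.2, ← e, Finset.smul_finset_inter, smul_inv_smul]
  exact ⟨fun h => key octPair 2 16 (by decide +kernel) h (by decide +kernel) (by decide +kernel),
    fun h => key octQuad 4 4 (by decide +kernel) h (by decide +kernel) (by decide +kernel)⟩

end Cfsg.Agent.S1555
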