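import Cfsg.Statements.S1556
import Cfsg.Agent.Lib.Golay.Carry
import Cfsg.Agent.Lib.Golay.StepsA

set_option autoImplicit false
open scoped Pointwise
open Cfsg

namespace Cfsg.Agent.S1556

open scoped Pointwise
open Cfsg.Agent.Golay24

/-- Two octads meeting a fixed octad in equally many points are in the same orbit of its stabiliser. -/
theorem result (o o' o'' : Finset Cfsg.GolayPt) (ho : o ∈ Cfsg.octads) (ho' : o' ∈ Cfsg.octads) (ho'' : o'' ∈ Cfsg.octads) (h : (o ∩ o').card = (o ∩ o'').card) : ∃ g : Equiv.Perm Cfsg.GolayPt, g ∈ Cfsg.M24 ∧ g • o = o ∧ g • o' = o'' := by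
  by_cases h8 : o = o'
  · subst h8
    have e : o = o'' := by
      apply octad_unique ho ho''
      have := ho.2
      rw [Finset.inter_self] at h
      omega
    exact ⟨1, M24.one_mem, one_smul _ _, by rw [one_smul]; exact e⟩
  have hne : o ≠ o'' := by
    rintro rfl
    apply h8
    apply octad_unique ho ho'
    have := ho.2
    rw [Finset.inter_self] at h
    omega
  obtain ⟨σ, hσ⟩ := carries_octad ho
  have key : ∀ {c : StepCert} {k : ℕ},
      c.ok [m24Octad] (cutList (weightList 8) [(m24Octad, k)]) = true →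
      (o ∩ o').card = k → (o ∩ o'').card = k →
      ∃ g : Equiv.Perm GolayPt, g ∈ M24 ∧ g • o = o ∧ g • o' = o'' := by
    intro c k hc h1 h2
    have hmem : ∀ x, x ∈ octads → (o ∩ x).card = k →
        maskOf (σ⁻¹ • x) ∈ cutList (weightList 8) [(m24Octad, k)] := by
      intro x hx hk
      rw [mem_cutList_iff]
      refine ⟨(inv_smul_mem_octads_iff hσ.1 x).2 hx, fun c hc => ?_⟩
      rw [List.mem_singleton] at hc
      subst hc
      have he : σ • setOf m24Octad = o := by simpa using hσ.2
      rw [he]; exact hk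
    obtain ⟨σ', hσ'⟩ := c.extend hc hσ (hmem o' ho' h1)
    obtain ⟨σ'', hσ''⟩ := c.extend hc hσ (hmem o'' ho'' h2)
    obtain ⟨g, hg, hgm⟩ := exists_map_of_carries hσ' hσ''
    simp only [List.cons_append, List.nil_append, List.map_cons, List.map_nil, List.cons.injEq,
      and_true] at hgm
    exact ⟨g, hg, hgm⟩
  rcases card_octad_inter_cases ho ho' with h0 | h2 | h4 | h5
  · exact key (c := octOct0) (by decide +kernel) h0 (h ▸ h0)
  · exact key (c := octOct2) (by decide +kernel) h2 (h ▸ h2)
  · exact key (c := octOct4) (by decide +kernel) h4 (h ▸ h4)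
  · exact absurd h5 h8

end Cfsg.Agent.S1556
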