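import Cfsg.Statements.S1557
import Cfsg.Agent.Lib.Golay.Cosets
import Cfsg.Agent.Lib.Golay.StepsA

set_option autoImplicit false
open scoped Pointwise
open Cfsg

namespace Cfsg.Agent.S1557

open scoped Pointwise
open Cfsg.Agent.Golay24

attribute [local irreducible] weightList codeList combTo

/-- The complement of the union of two disjoint octads is an octad, and the code has exactly 3795 trios of pairwise disjoint octads. -/
theorem result : (∀ o o' : Finset Cfsg.GolayPt, o ∈ Cfsg.octads → o' ∈ Cfsg.octads → Disjoint o o' → (o ∪ o')ᶜ ∈ Cfsg.octads) ∧ Cfsg.trios.ncard = 3795 := by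
  have huniv : (Finset.univ : Finset GolayPt) ∈ supports (golayCode : Set (GolayPt → ZMod 2)) := by
    rw [mem_supports_iff_inCode, show maskOf (Finset.univ : Finset GolayPt) = 16777215 by
      rw [← setOf_full, maskOf_setOf (by norm_num)]]
    decide +kernel
  have hcompl : ∀ o o' : Finset GolayPt, o ∈ octads → o' ∈ octads → Disjoint o o' →
      (o ∪ o')ᶜ ∈ octads := by
    intro o o' ho ho' hd
    refine ⟨?_, ?_⟩
    · have := symmDiff_mem_supports huniv (symmDiff_mem_supports ho.1 ho'.1)
      rwa [hd.symmDiff_eq_sup, ← Finset.top_eq_univ, top_symmDiff] at this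
    · rw [Finset.card_compl, Finset.card_union_of_disjoint hd, ho.2, ho'.2]
      simp
  refine ⟨hcompl, ?_⟩
  classical
  let O : Finset (Finset GolayPt) := Finset.univ.filter (· ∈ octads)
  have hO : ∀ o, o ∈ O ↔ o ∈ octads := fun o => by simp [O]
  have hOc : O.card = 759 := by
    rw [← octads_ncard, ← Set.ncard_coe_finset]
    congr 1
    ext o; simp [hO]
  let P : Finset (Finset GolayPt × Finset GolayPt) := (O ×ˢ O).filter fun p => Disjoint p.1 p.2
  let T : Finset (Finset (Finset GolayPt)) := P.image fun p => {p.1, p.2, (p.1 ∪ p.2)ᶜ}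
  have hPmem : ∀ p, p ∈ P ↔ p.1 ∈ octads ∧ p.2 ∈ octads ∧ Disjoint p.1 p.2 := fun p => by
    simp [P, hO, and_assoc]
  have hP : P.card = 759 * 30 := by
    rw [Finset.card_eq_sum_card_fiberwise (t := O) (f := Prod.fst) (fun p hp => (Finset.mem_product.1
      (Finset.mem_filter.1 hp).1).1), Finset.sum_const_nat (m := 30) ?_, hOc]
    intro o ho
    rw [hO] at ho
    obtain ⟨σ, hσ⟩ := carries_octad ho
    have e : (P.filter fun p => p.1 = o).card = {x | x ∈ octads ∧ (o ∩ x).card = 0}.ncard := by
      rw [← Set.ncard_coe_finset, ← Set.ncard_image_of_injective (f := fun x : Finset GolayPt => (o, x)) _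
        (fun a b h => (Prod.ext_iff.1 h).2)]
      congr 1
      ext ⟨a, b⟩
      simp only [Finset.coe_filter, hPmem, Set.mem_ofPred_eq, Set.mem_image, Prod.mk.injEq,
        Finset.card_eq_zero, ← Finset.disjoint_iff_inter_eq_empty]
      constructor
      · rintro ⟨⟨-, hb, hd⟩, rfl⟩; exact ⟨b, ⟨hb, hd⟩, rfl, rfl⟩
      · rintro ⟨x, ⟨hx, hd⟩, rfl, rfl⟩; exact ⟨⟨ho, hx, hd⟩, rfl⟩
    rw [e, ncard_of_pullback (σ := σ) (cutList (weightList 8) ([m24Octad].zip [0]))
      (cutList_nodup (weightList_nodup 8) _) (cutList_lt (fun _ => weightList_lt) _) fun x => by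
        rw [mem_cutList_carries (ks := [0]) hσ (by rfl), inv_smul_mem_octads_iff hσ.1]
        simp]
    decide +kernel
  have hne : ∀ a b : Finset GolayPt, a ∈ octads → b ∈ octads → Disjoint a b → a ≠ b := by
    intro a b ha hb hd e
    subst e
    have := ha.2
    rw [disjoint_self.1 hd] at this
    simp at this
  have hT : trios = (T : Set (Finset (Finset GolayPt))) := by
    ext S
    simp only [trios, Set.mem_ofPred_eq, Finset.coe_image, Set.mem_image, Finset.mem_coe, T, hPmem]
    constructor
    · rintro ⟨h3, hoct, hdis⟩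
      obtain ⟨a, b, c, hab, hac, hbc, rfl⟩ := Finset.card_eq_three.1 h3
      have hd := hdis a (by simp) b (by simp) hab
      refine ⟨(a, b), ⟨hoct a (by simp), hoct b (by simp), hd⟩, ?_⟩
      have e : (a ∪ b)ᶜ = c := by
        refine (Finset.eq_of_subset_of_card_le ?_ ?_).symm
        · intro z hz
          rw [Finset.mem_compl, Finset.mem_union]
          rintro (h | h)
          · exact Finset.disjoint_left.1 (hdis a (by simp) c (by simp) hac) h hz
          · exact Finset.disjoint_left.1 (hdis b (by simp) c (by simp) hbc) h hz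
        · rw [(hcompl a b (hoct a (by simp)) (hoct b (by simp)) hd).2, (hoct c (by simp)).2]
      simp only [e]
    · rintro ⟨⟨a, b⟩, ⟨ha, hb, hd⟩, rfl⟩
      have hc := hcompl a b ha hb hd
      have hac : Disjoint a (a ∪ b)ᶜ := disjoint_compl_right.mono_left Finset.subset_union_left
      have hbc : Disjoint b (a ∪ b)ᶜ := disjoint_compl_right.mono_left Finset.subset_union_right
      refine ⟨Finset.card_eq_three.2 ⟨a, b, _, hne a b ha hb hd, hne _ _ ha hc hac,
        hne _ _ hb hc hbc, rfl⟩, ?_, ?_⟩
      · intro z hz
        simp only [Finset.mem_insert, Finset.mem_singleton] at hz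
        rcases hz with rfl | rfl | rfl
        exacts [ha, hb, hc]
      · intro x hx y hy hxy
        simp only [Finset.mem_insert, Finset.mem_singleton] at hx hy
        rcases hx with rfl | rfl | rfl <;> rcases hy with rfl | rfl | rfl
        exacts [absurd rfl hxy, hd, hac, hd.symm, absurd rfl hxy, hbc, hac.symm, hbc.symm,
          absurd rfl hxy]
  rw [hT, Set.ncard_coe_finset]
  have hfib : ∀ S ∈ T, (P.filter fun p => ({p.1, p.2, (p.1 ∪ p.2)ᶜ} : Finset (Finset GolayPt)) = S).card = 6 := by
    intro S hS
    have hS' : S ∈ trios := by rw [hT]; exact hS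
    obtain ⟨h3, hoct, hdis⟩ := hS'
    have e : (P.filter fun p => ({p.1, p.2, (p.1 ∪ p.2)ᶜ} : Finset (Finset GolayPt)) = S) = S.offDiag := by
      ext ⟨a, b⟩
      simp only [Finset.mem_filter, hPmem, Finset.mem_offDiag]
      constructor
      · rintro ⟨⟨ha, hb, hd⟩, rfl⟩
        exact ⟨by simp, by simp, hne a b ha hb hd⟩
      · rintro ⟨ha, hb, hab⟩
        have hd := hdis a ha b hb hab
        refine ⟨⟨hoct a ha, hoct b hb, hd⟩, ?_⟩
        refine Finset.eq_of_subset_of_card_le ?_ ?_
        · obtain ⟨c, hc, hca, hcb⟩ : ∃ c ∈ S, c ≠ a ∧ c ≠ b := by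
            by_contra hcon
            push_neg at hcon
            have : S ⊆ {a, b} := fun c hc => by
              by_cases h : c = a
              · simp [h]
              · simp [hcon c hc h]
            have := Finset.card_le_card this
            rw [h3, Finset.card_pair hab] at this
            omega
          have e2 : (a ∪ b)ᶜ = c := by
            refine (Finset.eq_of_subset_of_card_le ?_ ?_).symm
            · intro z hz
              rw [Finset.mem_compl, Finset.mem_union]
              rintro (h | h)
              · exact Finset.disjoint_left.1 (hdis c hc a ha hca) hz h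
              · exact Finset.disjoint_left.1 (hdis c hc b hb hcb) hz h
            · rw [(hcompl a b (hoct a ha) (hoct b hb) hd).2, (hoct c hc).2]
          intro z hz
          simp only [Finset.mem_insert, Finset.mem_singleton, e2] at hz
          rcases hz with rfl | rfl | rfl <;> assumption
        · rw [h3, Finset.card_eq_three.2 ⟨a, b, _, hab, hne _ _ (hoct a ha) (hcompl a b (hoct a ha) (hoct b hb) hd)
            (disjoint_compl_right.mono_left Finset.subset_union_left), hne _ _ (hoct b hb)
            (hcompl a b (hoct a ha) (hoct b hb) hd)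
            (disjoint_compl_right.mono_left Finset.subset_union_right), rfl⟩]
    rw [e, Finset.offDiag_card, h3]
  have hcount := Finset.card_eq_sum_card_image (fun p : Finset GolayPt × Finset GolayPt =>
    ({p.1, p.2, (p.1 ∪ p.2)ᶜ} : Finset (Finset GolayPt))) P
  rw [Finset.sum_const_nat hfib, hP] at hcount
  omega

end Cfsg.Agent.S1557
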