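import Cfsg.Statements.S1558
import Cfsg.Agent.Lib.Golay.TrioQuot

set_option autoImplicit false
open scoped Pointwise
open Cfsg

namespace Cfsg.Agent.S1558

open scoped Pointwise
open Cfsg.Agent.Golay24

attribute [local irreducible] weightList codeList combTo trioReps trioImgs trioRow0 trioRow1 trioRem0 trioRem1

set_option maxHeartbeats 800000 in
/-- Structure of a trio stabiliser: every permutation of the three octads is induced, and there is a normal subgroup of order 64 of elements squaring to the identity whose quotient is isomorphic to the product of GL(3, 2) with the symmetric group of degree 3. -/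
theorem result (T : Finset (Finset Cfsg.GolayPt)) (hT : T ∈ Cfsg.trios) : (∀ e : Equiv.Perm ↥T, ∃ g ∈ MulAction.stabilizer Cfsg.M24 T, ∀ o : ↥T, (g : Equiv.Perm Cfsg.GolayPt) • (o : Finset Cfsg.GolayPt) = ((e o : ↥T) : Finset Cfsg.GolayPt)) ∧ ∃ (N : Subgroup ↥(MulAction.stabilizer Cfsg.M24 T)) (_ : N.Normal), Nat.card N = 64 ∧ (∀ x ∈ N, x * x = 1) ∧ Nonempty (↥(MulAction.stabilizer Cfsg.M24 T) ⧸ N ≃* GL (Fin 3) (ZMod 2) × Equiv.Perm (Fin 3)) := by
  obtain ⟨σ, hσ, rfl⟩ := exists_trio_map hT
  set G := MulAction.stabilizer M24 (σ • stdTrio) with hG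
  -- transport to the standard stabiliser
  let conj : trioStab →* ↥G :=
    { toFun := fun g => ⟨⟨σ * g * σ⁻¹, M24.mul_mem (M24.mul_mem hσ g.2.1) (M24.inv_mem hσ)⟩, by
        show (σ * (g : Equiv.Perm GolayPt) * σ⁻¹) • σ • stdTrio = σ • stdTrio
        rw [mul_smul, mul_smul, inv_smul_smul]
        exact congrArg (σ • ·) g.2.2⟩
      map_one' := by apply Subtype.ext; apply Subtype.ext; simp
      map_mul' := fun a b => by apply Subtype.ext; apply Subtype.ext; simp [mul_assoc] }
  -- the action on the six members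
  let φ : ↥G →* Equiv.Perm ↥(σ • stdTrio) :=
    { toFun := fun g =>
        { toFun := fun t => ⟨((g : M24) : Equiv.Perm GolayPt) • (t : Finset GolayPt), by
            have h : ((g : M24) : Equiv.Perm GolayPt) • σ • stdTrio = σ • stdTrio := g.2
            have h' := Finset.smul_mem_smul_finset (a := ((g : M24) : Equiv.Perm GolayPt)) t.2
            rwa [h] at h'⟩
          invFun := fun t => ⟨((g : M24) : Equiv.Perm GolayPt)⁻¹ • (t : Finset GolayPt), by
            have h : ((g : M24) : Equiv.Perm GolayPt) • σ • stdTrio = σ • stdTrio := g.2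
            rw [Finset.inv_smul_mem_iff, h]; exact t.2⟩
          left_inv := fun t => Subtype.ext (inv_smul_smul _ _)
          right_inv := fun t => Subtype.ext (smul_inv_smul _ _) }
      map_one' := Equiv.ext fun t => Subtype.ext (one_smul _ _)
      map_mul' := fun a b => Equiv.ext fun t => Subtype.ext (mul_smul _ _ _) }
  have hk2 : ((trioMembers trioRoot).all (fun m => trioRoots.any (fun m' => m == m')) &&
      trioRoots.all (fun m => (trioMembers trioRoot).any (fun m' => m == m') && Nat.blt m 16777216) &&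
      sortedB trioRoots && (trioRoots.length == 3)) = true := by decide +kernel
  simp only [Bool.and_eq_true, List.all_eq_true, List.any_eq_true, beq_iff_eq, Nat.blt_eq] at hk2
  obtain ⟨⟨⟨hm1, hm2⟩, hsort⟩, hlen⟩ := hk2
  have hmembers : stdTrio = (trioRoots.map Golay24.setOf).toFinset := by
    ext t
    simp only [stdTrio, semTrio, List.mem_toFinset, List.mem_map]
    constructor
    · rintro ⟨m, hm, rfl⟩
      obtain ⟨m', hm', rfl⟩ := hm1 m hm
      exact ⟨m, hm', rfl⟩
    · rintro ⟨m, hm, rfl⟩
      obtain ⟨m', hm', rfl⟩ := (hm2 m hm).1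
      exact ⟨m, hm', rfl⟩
  have hsw : (List.range 3).all (fun i => i == 0 || (inM24 (trioSwaps.getD (i - 1) 0) &&
      (trioAct (trioSwaps.getD (i - 1) 0) trioRoot == trioRoot) &&
      (List.range 3).all fun k => img (trioSwaps.getD (i - 1) 0) (trioRoots.getD k 0) ==
        trioRoots.getD (if k == 0 then i else if k == i then 0 else k) 0)) = true := by decide +kernel
  simp only [List.all_eq_true, List.mem_range, Bool.and_eq_true, Bool.or_eq_true, beq_iff_eq] at hsw
  have hidx : ∀ u : ↥(σ • stdTrio), ∃ k < 3, (u : Finset GolayPt) = σ • Golay24.setOf (trioRoots.getD k 0) := by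
    rintro ⟨u, hu⟩
    obtain ⟨t, ht, rfl⟩ := Finset.mem_smul_finset.1 hu
    rw [hmembers, List.mem_toFinset, List.mem_map] at ht
    obtain ⟨m, hm, rfl⟩ := ht
    obtain ⟨k, hk, rfl⟩ := List.mem_iff_getElem.1 hm
    exact ⟨k, by omega, by rw [List.getD_eq_getElem _ _ hk]⟩
  have hin : ∀ k, k < 3 → σ • Golay24.setOf (trioRoots.getD k 0) ∈ σ • stdTrio := by
    intro k hk
    refine Finset.smul_mem_smul_finset ?_
    rw [hmembers, List.mem_toFinset, List.getD_eq_getElem _ _ (by omega)]
    exact List.mem_map_of_mem (List.getElem_mem _)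
  let a₀ : ↥(σ • stdTrio) := ⟨_, hin 0 (by norm_num)⟩
  have hswap : ∀ u, Equiv.swap a₀ u ∈ φ.range := by
    intro u
    obtain ⟨i, hi, hue⟩ := hidx u
    rcases Nat.eq_zero_or_pos i with rfl | hi0
    · rw [show u = a₀ from Subtype.ext hue, Equiv.swap_self]
      exact φ.range.one_mem
    obtain ⟨⟨hgM, hgS⟩, hgk⟩ := (hsw i hi).resolve_left hi0.ne'
    set w := trioSwaps.getD (i - 1) 0
    have hw : toPerm w ∈ trioStab := ⟨toPerm_mem_M24 hgM, by
      show toPerm w • stdTrio = stdTrio
      rw [stdTrio, ← semTrio_act hgM, hgS]⟩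
    refine ⟨conj ⟨_, hw⟩, Equiv.ext fun v => Subtype.ext ?_⟩
    obtain ⟨k, hk, hve⟩ := hidx v
    show (σ * toPerm w * σ⁻¹) • (v : Finset GolayPt) = _
    rw [hve, mul_smul, mul_smul, inv_smul_smul, smul_setOf (valid_of_inM24 hgM), hgk k hk]
    by_cases hva : v = a₀
    · subst hva
      rw [Equiv.swap_apply_left, hue]
      have : k = 0 := by
        have h2 := congrArg maskOf (smul_left_cancel σ (hve.symm.trans rfl : σ • Golay24.setOf (trioRoots.getD k 0) = σ • Golay24.setOf (trioRoots.getD 0 0)))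
        have hl : ∀ j, j < 3 → trioRoots.getD j 0 < 2 ^ 24 := fun j hj => by
          rw [List.getD_eq_getElem _ _ (by omega)]; exact (hm2 _ (List.getElem_mem _)).2
        rw [maskOf_setOf (hl k hk), maskOf_setOf (hl 0 (by norm_num))] at h2
        by_contra hne
        have hp := List.pairwise_iff_getElem.1 (sortedB_pairwise hsort) 0 k (by omega) (by omega) (by omega)
        rw [List.getD_eq_getElem _ _ (by omega), List.getD_eq_getElem _ _ (by omega)] at h2
        omega
      rw [if_pos this]
    by_cases hvu : v = u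
    · subst hvu
      rw [Equiv.swap_apply_right]
      show _ = σ • Golay24.setOf (trioRoots.getD 0 0)
      have : k = i := by
        have h2 := congrArg maskOf (smul_left_cancel σ (hve.symm.trans hue))
        have hl : ∀ j, j < 3 → trioRoots.getD j 0 < 2 ^ 24 := fun j hj => by
          rw [List.getD_eq_getElem _ _ (by omega)]; exact (hm2 _ (List.getElem_mem _)).2
        rw [maskOf_setOf (hl k hk), maskOf_setOf (hl i hi)] at h2
        rw [List.getD_eq_getElem _ _ (by omega), List.getD_eq_getElem _ _ (by omega)] at h2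
        exact (List.Nodup.getElem_inj_iff ((sortedB_pairwise hsort).imp fun h => ne_of_lt h)).1 h2
      rw [if_neg (by omega), if_pos this]
    rw [Equiv.swap_apply_of_ne_of_ne hva hvu, hve]
    have hk0 : k ≠ 0 := fun e => hva (Subtype.ext (by rw [hve, e]))
    have hki : k ≠ i := fun e => hvu (Subtype.ext (by rw [hve, e, hue]))
    rw [if_neg hk0, if_neg hki]
  have htop : φ.range = ⊤ := by
    rw [eq_top_iff, ← Equiv.Perm.closure_isSwap, Subgroup.closure_le]
    rintro _ ⟨x, y, hxy, rfl⟩
    by_cases hx : x = a₀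
    · rw [hx]; exact hswap y
    by_cases hy : y = a₀
    · rw [hy, Equiv.swap_comm]; exact hswap x
    have h3 := φ.range.mul_mem (φ.range.mul_mem (hswap x) (hswap y)) (hswap x)
    rwa [show Equiv.swap a₀ x * Equiv.swap a₀ y * Equiv.swap a₀ x = Equiv.swap x y by
      rw [Equiv.swap_comm a₀ y, Equiv.swap_mul_swap_mul_swap hy (Ne.symm hxy)]] at h3
  -- the normal subgroup of order 64
  have hN : (trioN.grpOk (fun g => inM24 g && (trioAct g trioRoot == trioRoot)) &&
      trioN.elems.all (fun p => isIdP (compP p p)) && (trioN.elems.length == 64) &&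
      (List.range trioGC.gens.length).all (fun i => (List.range trioN.gens.length).all fun j =>
        Nat.blt ((trioNConj.getD i []).getD j 64) 64 &&
        (compP (trioGC.gens.getD i 0) (trioN.gens.getD j 0) ==
          compP (getSlot 120 trioN.tab ((trioNConj.getD i []).getD j 64)) (trioGC.gens.getD i 0)))) = true := by
    decide +kernel
  simp only [Bool.and_eq_true, List.all_eq_true, List.mem_range, beq_iff_eq, Nat.blt_eq] at hN
  obtain ⟨⟨⟨hNok, hNsq⟩, hNlen⟩, hNconj⟩ := hN
  have hNle : trioN.grp ≤ trioStab := trioN.grp_le hNok fun g hg => by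
    simp only [Bool.and_eq_true, beq_iff_eq] at hg
    refine ⟨toPerm_mem_M24 hg.1, ?_⟩
    show toPerm g • stdTrio = stdTrio
    rw [stdTrio, ← semTrio_act hg.1, hg.2]
  have hnorm : trioStab ≤ Subgroup.normalizer (trioN.grp : Set (Equiv.Perm GolayPt)) := by
    rw [trioStab_eq, Subgroup.closure_le]
    rintro _ ⟨h, hh, rfl⟩
    obtain ⟨i, hi, rfl⟩ := List.mem_iff_getElem.1 hh
    have hhv : validP trioGC.gens[i] = true := valid_of_inM24 (trioGC_gens hh).1
    have hle : trioN.grp.map (MulAut.conj (toPerm trioGC.gens[i])).toMonoidHom ≤ trioN.grp := by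
      rw [SylCert.grp, MonoidHom.map_closure, Subgroup.closure_le]
      rintro _ ⟨_, ⟨n, hn, rfl⟩, rfl⟩
      obtain ⟨j, hj, rfl⟩ := List.mem_iff_getElem.1 hn
      obtain ⟨hk, he⟩ := hNconj i hi j hj
      rw [List.getD_eq_getElem _ _ hi, List.getD_eq_getElem _ _ hj] at he
      have hkm := trioN.slot_mem hNok (k := (trioNConj.getD i []).getD j 64) (by rw [hNlen]; exact hk)
      have e := mul_eq_of_compP hhv (trioN.gens_valid hNok hn).1 (trioN.valid hNok hkm).1 hhv he
      show toPerm trioGC.gens[i] * toPerm trioN.gens[j] * (toPerm trioGC.gens[i])⁻¹ ∈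
        Subgroup.closure {σ | ∃ g ∈ trioN.gens, toPerm g = σ}
      rw [e, mul_inv_cancel_right]
      exact trioN.elem_mem hNok hkm
    have heq := Subgroup.eq_of_le_of_card_ge hle (le_of_eq (Nat.card_congr
      ((MulAut.conj (toPerm trioGC.gens[i])).subgroupMap trioN.grp).toEquiv))
    rw [SetLike.mem_coe, Subgroup.mem_normalizer_iff]
    intro n
    constructor
    · exact fun hn => heq.le ⟨n, hn, rfl⟩
    · intro hn
      obtain ⟨m, hm, he⟩ := heq.ge hn
      have : n = m := (mul_left_cancel (mul_right_cancel he)).symm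
      rw [this]; exact hm
  have hconj : Function.Bijective conj := by
    refine ⟨fun a b h => ?_, fun g => ?_⟩
    · apply Subtype.ext
      have := congrArg (fun x : ↥G => ((x : M24) : Equiv.Perm GolayPt)) h
      exact mul_left_cancel (mul_right_cancel this)
    · have hg : ((g : M24) : Equiv.Perm GolayPt) • σ • stdTrio = σ • stdTrio := g.2
      refine ⟨⟨σ⁻¹ * (g : M24) * σ, M24.mul_mem (M24.mul_mem (M24.inv_mem hσ) g.1.2) hσ, ?_⟩, ?_⟩
      · show (σ⁻¹ * ((g : M24) : Equiv.Perm GolayPt) * σ) • stdTrio = stdTrio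
        rw [mul_smul, mul_smul, hg, inv_smul_smul]
      · apply Subtype.ext; apply Subtype.ext
        show σ * (σ⁻¹ * ((g : M24) : Equiv.Perm GolayPt) * σ) * σ⁻¹ = _
        group
  let N : Subgroup ↥G := (trioN.grp.subgroupOf trioStab).map conj
  haveI hNn : N.Normal := @Subgroup.Normal.map _ _ _ _ (trioN.grp.subgroupOf trioStab)
    ⟨fun n hn g => (Subgroup.mem_normalizer_iff.1 (hnorm g.2) _).1 hn⟩ conj hconj.2
  have hN64 : Nat.card N = 64 := by
    rw [Subgroup.card_map_of_injective hconj.1,
      Nat.card_congr (Subgroup.subgroupOfEquivOfLe hNle).toEquiv, trioN.card_grp hNok, hNlen]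
  refine ⟨fun e => ?_, N, hNn, hN64, ?_, ?_⟩
  · obtain ⟨g, hg⟩ : e ∈ φ.range := htop ▸ Subgroup.mem_top e
    exact ⟨g, g.2, fun t => by rw [← hg]; rfl⟩
  · rintro _ ⟨x, hx, rfl⟩
    obtain ⟨p, hp, hpe⟩ := (trioN.mem_grp_iff hNok).1 hx
    rw [← map_mul, show x * x = 1 from Subtype.ext (by
      rw [Subgroup.coe_mul]
      show (x : Equiv.Perm GolayPt) * x = 1
      have hxe : (x : Equiv.Perm GolayPt) = toPerm p := hpe.symm
      rw [hxe, ← toPerm_compP (trioN.valid hNok hp).1 (trioN.valid hNok hp).1]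
      exact toPerm_eq_one_of_isIdP (validP_compP (trioN.valid hNok hp).1 (trioN.valid hNok hp).1)
        (hNsq p hp)), map_one]
  -- the quotient
  have hreps := trioReps_ok
  have himgs := trioImgs_ok
  have hrows := trioRows_ok
  simp only [Bool.and_eq_true, beq_iff_eq, List.all_eq_true] at hreps himgs hrows
  obtain ⟨⟨⟨⟨⟨⟨⟨hrep, hrlen⟩, hrsl⟩, hisl⟩, -⟩, -⟩, -⟩, hr0⟩ := hreps
  obtain ⟨⟨⟨⟨⟨⟨hio, hgo⟩, hilen⟩, hi0⟩, hglen⟩, hw0⟩, hw1⟩ := himgs
  obtain ⟨⟨⟨hq0, hq1⟩, hm0⟩, hm1'⟩ := hrows
  have hgl : trioGC.gens.length = 2 := rfl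
  let repPerm : Fin 1008 → trioStab := fun i =>
    ⟨toPerm trioReps[i.val], toPerm_mem_M24 (hrep _ (List.getElem_mem _)).1, by
      show toPerm trioReps[i.val] • stdTrio = stdTrio
      rw [stdTrio, ← semTrio_act (hrep _ (List.getElem_mem _)).1, (hrep _ (List.getElem_mem _)).2]⟩
  let π : trioStab →* ↥G ⧸ N := (QuotientGroup.mk' N).comp conj
  let a : Fin 2 → ↥G ⧸ N := fun j => π ⟨toPerm trioGC.gens[j.val],
    toPerm_mem_M24 (trioGC_gens (List.getElem_mem _)).1, (trioGC_gens (List.getElem_mem _)).2⟩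
  have hgen : Subgroup.closure (Set.range a) = ⊤ := by
    rw [eq_top_iff]
    intro y _
    obtain ⟨y', rfl⟩ := QuotientGroup.mk'_surjective N y
    obtain ⟨x, rfl⟩ := hconj.2 y'
    have hle : trioStab ≤ ((Subgroup.closure (Set.range a)).comap π).map trioStab.subtype := by
      conv_lhs => rw [trioStab_eq]
      rw [Subgroup.closure_le]
      rintro _ ⟨g, hg, rfl⟩
      obtain ⟨k, hk, rfl⟩ := List.mem_iff_getElem.1 hg
      refine ⟨⟨toPerm trioGC.gens[k], toPerm_mem_M24 (trioGC_gens hg).1, (trioGC_gens hg).2⟩, ?_, rfl⟩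
      exact Subgroup.subset_closure ⟨⟨k, hgl ▸ hk⟩, rfl⟩
    obtain ⟨z, hz, hze⟩ := hle x.2
    rw [show x = z from Subtype.ext hze.symm]
    exact hz
  let row : Fin 2 → List ℕ := ![trioRow0, trioRow1]
  let rem : Fin 2 → List ℕ := ![trioRem0, trioRem1]
  have hrowlen : ∀ j, (row j).length = 1008 ∧ (rem j).length = 1008 := by
    intro j; fin_cases j
    exacts [⟨hw0, hm0⟩, ⟨hw1, hm1'⟩]
  have hq : ∀ (j : Fin 2) (i : ℕ) (hi : i < 1008),
      (row j).getD i 0 < 1008 ∧ (rem j).getD i 0 < 64 ∧
      compP trioGC.gens[j.val] (trioReps.getD i 0) =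
        compP (trioReps.getD ((row j).getD i 0) 0) (getSlot 120 trioN.tab ((rem j).getD i 0)) ∧
      imgMulOk (trioGenImgs.getD j.val 0) (trioImgs.getD i 0) (trioImgs.getD ((row j).getD i 0) 0) = true := by
    intro j i hi
    have hqj : quotRowOk (trioGC.gens.getD j.val 0) (trioGenImgs.getD j.val 0) (packSlots 120 trioReps)
        (packSlots 16 trioImgs) trioN.tab trioReps trioImgs (row j) (rem j) = true := by
      fin_cases j
      exacts [hq0, hq1]
    obtain ⟨l1, l2⟩ := hrowlen j
    obtain ⟨h1, h2, h3, h4⟩ := quotRowOk_spec hqj i (by omega) (by omega) (by omega) (by omega) (by omega)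
    rw [List.getD_eq_getElem _ _ (by omega : i < (row j).length),
      List.getD_eq_getElem _ _ (by omega : i < (rem j).length),
      List.getD_eq_getElem _ _ (by omega : i < trioReps.length),
      List.getD_eq_getElem _ _ (by omega : i < trioImgs.length)]
    have s1 := slotsOk_spec _ _ hrsl ((row j)[i]) (by omega)
    have s2 := slotsOk_spec _ _ hisl ((row j)[i]) (by omega)
    rw [Nat.zero_add] at s1 s2
    rw [List.getD_eq_getElem _ _ (by omega : (row j)[i] < trioReps.length),
      List.getD_eq_getElem _ _ (by omega : (row j)[i] < trioImgs.length), ← s1, ← s2]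
    refine ⟨h1, h2, ?_, h4⟩
    rwa [List.getD_eq_getElem _ _ (by omega : j.val < trioGC.gens.length)] at h3
  refine nonempty_mulEquiv_of_tables a (fun j => decImg (trioGenImgs.getD j.val 0)) hgen
    (fun i => π (repPerm i)) (fun i => decImg (trioImgs.getD i.val 0))
    (fun j i => ⟨(row j).getD i.val 0, (hq j i.val i.isLt).1⟩) ?_ ?_ ⟨0, by norm_num⟩ ?_ ?_ ?_
    card_imgGroup ?_
  · intro j i
    obtain ⟨hr, hk, he, -⟩ := hq j i.val i.isLt
    set r := (row j).getD i.val 0
    set k := (rem j).getD i.val 0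
    rw [List.getD_eq_getElem _ _ (by omega : i.val < trioReps.length),
      List.getD_eq_getElem _ _ (by omega : r < trioReps.length)] at he
    have hkm := trioN.slot_mem hNok (k := k) (by rw [hNlen]; exact hk)
    have e := mul_eq_of_compP (valid_of_inM24 (trioGC_gens (List.getElem_mem _)).1)
      (valid_of_inM24 (hrep _ (List.getElem_mem _)).1) (valid_of_inM24 (hrep _ (List.getElem_mem _)).1)
      (trioN.valid hNok hkm).1 he
    rw [← map_mul]
    refine (QuotientGroup.eq).2 ?_
    rw [← map_inv, ← map_mul]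
    refine ⟨_, ?_, rfl⟩
    show (toPerm (trioReps[r]'(hrlen.symm ▸ hr)))⁻¹ * (toPerm (trioGC.gens[j.val]'(hgl.symm ▸ j.isLt)) *
      toPerm (trioReps[i.val]'(hrlen.symm ▸ i.isLt))) ∈ trioN.grp
    rw [e, inv_mul_cancel_left]
    exact trioN.elem_mem hNok hkm
  · intro j i
    exact decImg_mul (hgo _ (by
      rw [List.getD_eq_getElem _ _ (by omega : j.val < trioGenImgs.length)]; exact List.getElem_mem _))
      (hio _ (by rw [List.getD_eq_getElem _ _ (by omega : i.val < trioImgs.length)]; exact List.getElem_mem _))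
      (hio _ (by
        have := (hq j i.val i.isLt).1
        rw [List.getD_eq_getElem _ _ (by omega : (row j).getD i.val 0 < trioImgs.length)]
        exact List.getElem_mem _))
      (hq j i.val i.isLt).2.2.2
  · rw [← map_one π]
    refine congrArg π (Subtype.ext ?_)
    show toPerm trioReps[0] = 1
    rw [← List.getD_eq_getElem _ 0 (by omega : 0 < trioReps.length), hr0]
    exact toPerm_eq_one_of_isIdP (by decide +kernel) (by decide +kernel)
  · show decImg (trioImgs.getD 0 0) = 1
    rw [hi0, decImg_id]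
  · have h := Subgroup.card_eq_card_quotient_mul_card_subgroup N
    rw [hN64, ← Nat.card_congr (Equiv.ofBijective conj hconj), card_trioStab] at h
    omega
  · intro i i' h
    have hmem : ∀ i : Fin 1008, trioImgs.getD i.val 0 ∈ trioImgs := fun i => by
      rw [List.getD_eq_getElem _ _ (by omega : i.val < trioImgs.length)]; exact List.getElem_mem _
    exact Fin.ext (trioImgs_inj i.isLt i'.isLt (decImg_inj (hio _ (hmem i)) (hio _ (hmem i')) h))

end Cfsg.Agent.S1558
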