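import Cfsg.Statements.S1559
import Cfsg.Agent.Lib.Golay.TrioStab

set_option autoImplicit false
open scoped Pointwise
open Cfsg

namespace Cfsg.Agent.S1559

open scoped Pointwise
open Cfsg.Agent.Golay24

attribute [local irreducible] weightList codeList combTo

/-- A trio stabiliser has five orbits on the 3795 trios, of sizes 1, 42, 56, 1008, 2688; and the stabiliser is a maximal proper subgroup. -/
theorem result (T : Finset (Finset Cfsg.GolayPt)) (hT : T ∈ Cfsg.trios) : ∃ X₁ ∈ Cfsg.trios, ∃ X₂ ∈ Cfsg.trios, ∃ X₃ ∈ Cfsg.trios, ∃ X₄ ∈ Cfsg.trios, (MulAction.orbit ↥(MulAction.stabilizer Cfsg.M24 T) X₁).ncard = 42 ∧ (MulAction.orbit ↥(MulAction.stabilizer Cfsg.M24 T) X₂).ncard = 56 ∧ (MulAction.orbit ↥(MulAction.stabilizer Cfsg.M24 T) X₃).ncard = 1008 ∧ (MulAction.orbit ↥(MulAction.stabilizer Cfsg.M24 T) X₄).ncard = 2688 ∧ Cfsg.trios = {T} ∪ MulAction.orbit ↥(MulAction.stabilizer Cfsg.M24 T) X₁ ∪ MulAction.orbit ↥(MulAction.stabilizer Cfsg.M24 T) X₂ ∪ MulAction.orbit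 ↥(MulAction.stabilizer Cfsg.M24 T) X₃ ∪ MulAction.orbit ↥(MulAction.stabilizer Cfsg.M24 T) X₄ ∧ IsCoatom (MulAction.stabilizer Cfsg.M24 T) := by
  obtain ⟨σ, hσ, rfl⟩ := exists_trio_map hT
  have hX : ∀ c ∈ trioOrbs, σ • semTrio c.root ∈ trios ∧
      MulAction.orbit ↥(MulAction.stabilizer M24 (σ • stdTrio)) (σ • semTrio c.root) =
        (σ • ·) '' (semTrio '' {x | x ∈ c.orb}) := by
    intro c hc
    refine ⟨smul_mem_trios hσ ?_, ?_⟩
    · rw [trios_eq]
      have hroot : c.root ∈ c.orb := by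
        have h := List.all_eq_true.1 trioOrbs_ok c hc
        simp only [OrbCert.ok, Bool.and_eq_true, beq_iff_eq] at h
        have hlen : 0 < c.orb.length := by omega
        rw [OrbCert.root, List.getD_eq_getElem _ _ hlen]
        exact List.getElem_mem _
      refine ⟨_, trioCat_sub ?_, rfl⟩
      simp only [trioOrbs, List.mem_cons, List.not_mem_nil, or_false] at hc
      simp only [trioCat, List.mem_append]
      rcases hc with rfl | rfl | rfl | rfl | rfl <;> simp only [hroot, true_or, or_true]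
    · rw [orbit_stabilizer_smul hσ, (trioOrb_orbit hc).1]
  have hn : ∀ c ∈ trioOrbs,
      (MulAction.orbit ↥(MulAction.stabilizer M24 (σ • stdTrio)) (σ • semTrio c.root)).ncard =
        c.orb.length := by
    intro c hc
    rw [(hX c hc).2, Set.ncard_image_of_injective _ (MulAction.injective σ), (trioOrb_orbit hc).2]
  have h1 : trioOrb1 ∈ trioOrbs := by simp [trioOrbs]
  have h2 : trioOrb2 ∈ trioOrbs := by simp [trioOrbs]
  have h3 : trioOrb3 ∈ trioOrbs := by simp [trioOrbs]
  have h4 : trioOrb4 ∈ trioOrbs := by simp [trioOrbs]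
  refine ⟨_, (hX _ h1).1, _, (hX _ h2).1, _, (hX _ h3).1, _, (hX _ h4).1, ?_, ?_, ?_, ?_, ?_, trioStab_isCoatom hT⟩
  · rw [hn _ h1]; decide +kernel
  · rw [hn _ h2]; decide +kernel
  · rw [hn _ h3]; decide +kernel
  · rw [hn _ h4]; decide +kernel
  · rw [(hX _ h1).2, (hX _ h2).2, (hX _ h3).2, (hX _ h4).2]
    have hst : (σ • ·) '' trios = trios := by
      refine Set.eq_of_subset_of_ncard_le ?_
        (le_of_eq (Set.ncard_image_of_injective _ (MulAction.injective σ)).symm) (Set.toFinite _)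
      rintro _ ⟨y, hy, rfl⟩
      exact smul_mem_trios hσ hy
    conv_lhs => rw [← hst, trios_split]
    simp only [Set.image_union, Set.image_singleton]

end Cfsg.Agent.S1559
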