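import Cfsg.Statements.S1560
import Cfsg.Agent.Lib.Golay.Carry

set_option autoImplicit false
open scoped Pointwise
open Cfsg

namespace Cfsg.Agent.S1560

open scoped Pointwise
open Cfsg.Agent.Golay24

attribute [local irreducible] weightList codeList combTo

/-- Intersection numbers of dodecads: a dodecad meets every other dodecad in 0, 4, 6 or 8 points, meeting 495 of them in 4 points, 1584 in 6 points and 495 in 8 points. -/
theorem result (d : Finset Cfsg.GolayPt) (hd : d ∈ Cfsg.dodecads) : (∀ d' ∈ Cfsg.dodecads, d' ≠ d → (d ∩ d').card = 0 ∨ (d ∩ d').card = 4 ∨ (d ∩ d').card = 6 ∨ (d ∩ d').card = 8) ∧ {d' : Finset Cfsg.GolayPt | d' ∈ Cfsg.dodecads ∧ (d ∩ d').card = 4}.ncard = 495 ∧ {d' : Finset Cfsg.GolayPt | d' ∈ Cfsg.dodecads ∧ (d ∩ d').card = 6}.ncard = 1584 ∧ {d' : Finset Cfsg.GolayPt | d' ∈ Cfsg.dodecads ∧ (d ∩ d').card = 8}.ncard = 495 := by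
  refine ⟨fun d' hd' hne => ?_, ?_⟩
  · rcases card_dodecad_inter_cases hd hd' with hk | hk | hk | hk | hk
    · exact Or.inl hk
    · exact Or.inr (Or.inl hk)
    · exact Or.inr (Or.inr (Or.inl hk))
    · exact Or.inr (Or.inr (Or.inr hk))
    · exact absurd hk.symm hne
  obtain ⟨σ, hσ⟩ := carries_dodecad hd
  have key : ∀ k n : ℕ, (cutList (weightList 12) ([sqDod].zip [k])).length = n →
      {d' : Finset GolayPt | d' ∈ dodecads ∧ (d ∩ d').card = k}.ncard = n := by
    intro k n hn
    rw [ncard_of_pullback (σ := σ) (cutList (weightList 12) ([sqDod].zip [k]))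
      (cutList_nodup (weightList_nodup 12) _) (cutList_lt (fun _ => weightList_lt) _), hn]
    intro s
    rw [mem_cutList_carries hσ (by rfl), inv_smul_mem_dodecads_iff hσ.1]
    simp
  exact ⟨key 4 495 (by decide +kernel), key 6 1584 (by decide +kernel), key 8 495 (by decide +kernel)⟩

end Cfsg.Agent.S1560
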