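import Cfsg.Statements.S1561
import Cfsg.Agent.Lib.Golay.Carry
import Cfsg.Agent.Lib.Golay.StepsA

set_option autoImplicit false
open scoped Pointwise
open Cfsg

namespace Cfsg.Agent.S1561

open scoped Pointwise
open Cfsg.Agent.Golay24

attribute [local irreducible] weightList codeList combTo

/-- Two dodecads meeting a fixed dodecad in equally many points lie in one orbit of its stabiliser. -/
theorem result (d d' d'' : Finset Cfsg.GolayPt) (hd : d ∈ Cfsg.dodecads) (hd' : d' ∈ Cfsg.dodecads) (hd'' : d'' ∈ Cfsg.dodecads) (h : (d ∩ d').card = (d ∩ d'').card) : ∃ g : Equiv.Perm Cfsg.GolayPt, g ∈ Cfsg.M24 ∧ g • d = d ∧ g • d' = d'' := by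
  by_cases h12 : d = d'
  · subst h12
    have e : d'' = d := by
      refine (Finset.eq_of_subset_of_card_le ?_ (le_of_eq (hd''.2.trans hd.2.symm))).symm
      rw [Finset.inter_self] at h
      exact Finset.inter_eq_left.1 (Finset.eq_of_subset_of_card_le Finset.inter_subset_left (le_of_eq h))
    exact ⟨1, M24.one_mem, one_smul _ _, by rw [one_smul]; exact e.symm⟩
  obtain ⟨σ, hσ⟩ := carries_dodecad hd
  have key : ∀ {c : StepCert} {k : ℕ},
      c.ok [sqDod] (cutList (weightList 12) ([sqDod].zip [k])) = true →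
      (d ∩ d').card = k →
      ∃ g : Equiv.Perm GolayPt, g ∈ M24 ∧ g • d = d ∧ g • d' = d'' := by
    intro c k hc hk
    obtain ⟨g, hg, hf, he⟩ := c.exists_map hc hσ (x := d') (y := d'')
      ((mem_cutList_carries hσ (by rfl)).2 ⟨(inv_smul_mem_dodecads_iff hσ.1 _).2 hd', by simp [hk]⟩)
      ((mem_cutList_carries hσ (by rfl)).2 ⟨(inv_smul_mem_dodecads_iff hσ.1 _).2 hd'', by simp [← h, hk]⟩)
    exact ⟨g, hg, hf d (by simp), he⟩
  rcases card_dodecad_inter_cases hd hd' with hk | hk | hk | hk | hk
  · exact key (c := dodDod0) (by decide +kernel) hk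
  · exact key (c := dodDod4) (by decide +kernel) hk
  · exact key (c := dodDod6) (by decide +kernel) hk
  · exact key (c := dodDod8) (by decide +kernel) hk
  · exact absurd hk h12

end Cfsg.Agent.S1561
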