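import Cfsg.Statements.S1562
import Cfsg.Agent.Lib.Golay.Carry
import Cfsg.Agent.Lib.Golay.StepsB

set_option autoImplicit false
open scoped Pointwise
open Cfsg

namespace Cfsg.Agent.S1562

open scoped Pointwise
open Cfsg.Agent.Golay24

attribute [local irreducible] weightList codeList combTo

/-- Orbits of a triad stabiliser on the triads disjoint from it: the 210 triads inside a common octad with it form one orbit and the remaining 1120 another. -/
theorem result (T : Finset Cfsg.GolayPt) (hT : T.card = 3) : {U : Finset Cfsg.GolayPt | U.card = 3 ∧ Disjoint T U ∧ (∃ o ∈ Cfsg.octads, T ∪ U ⊆ o)}.ncard = 210 ∧ {U : Finset Cfsg.GolayPt | U.card = 3 ∧ Disjoint T U ∧ ¬ (∃ o ∈ Cfsg.octads, T ∪ U ⊆ o)}.ncard = 1120 ∧ ∀ U U' : Finset Cfsg.GolayPt, U.card = 3 → U'.card = 3 → Disjoint T U → Disjoint T U' → ((∃ o ∈ Cfsg.octads, T ∪ U ⊆ o) ↔ (∃ o ∈ Cfsg.octads, T ∪ U' ⊆ o)) → ∃ g : Equiv.Perm Cfsg.GolayPt, g ∈ Cfsg.M24 ∧ g • T = T ∧ g • U = U' := by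
  obtain ⟨σ, hσ⟩ := carries_triple hT
  have hσT : σ • Golay24.setOf 8388611 = T := by simpa using hσ.2
  let b : ℕ → Bool := fun u =>
    ([9347075, 14716939, 12656663, 8536111, 13893731, 9465987, 11010247, 11731203, 8421811, 8524371, 8716939, 13124355, 10765331, 8983587, 8398155, 9471495, 9963547, 8505411, 8657159, 10496547, 12717187] : List ℕ).any fun o => Nat.land o u == u
  have hlist : cutList (weightList 8) ([8388611].zip [3]) = [9347075, 14716939, 12656663, 8536111, 13893731, 9465987, 11010247, 11731203, 8421811, 8524371, 8716939, 13124355, 10765331, 8983587, 8398155, 9471495, 9963547, 8505411, 8657159, 10496547, 12717187] := by decide +kernel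
  have hb : ∀ U : Finset GolayPt,
      b (maskOf (σ⁻¹ • U)) = true ↔ ∃ o ∈ octads, T ∪ U ⊆ o := by
    intro U
    simp only [b, List.any_eq_true, beq_iff_eq]
    rw [← hlist]
    constructor
    · rintro ⟨m, hm, he⟩
      have hm' : maskOf (σ⁻¹ • (σ • Golay24.setOf m)) ∈ cutList (weightList 8) ([8388611].zip [3]) := by
        rwa [inv_smul_smul, maskOf_setOf (cutList_lt (fun _ => weightList_lt) _ m hm)]
      rw [mem_cutList_carries hσ (by rfl), inv_smul_mem_octads_iff hσ.1] at hm'
      refine ⟨σ • Golay24.setOf m, hm'.1, Finset.union_subset ?_ ?_⟩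
      · have h3 : (T ∩ σ • Golay24.setOf m).card = 3 := by simpa using hm'.2
        exact Finset.inter_eq_left.1
          (Finset.eq_of_subset_of_card_le Finset.inter_subset_left (le_of_eq (hT.trans h3.symm)))
      · have h1 : Golay24.setOf (m &&& maskOf (σ⁻¹ • U)) = Golay24.setOf (maskOf (σ⁻¹ • U)) :=
          congrArg Golay24.setOf he
        rw [setOf_land, setOf_maskOf, Finset.inter_eq_right] at h1
        have := Finset.smul_finset_subset_smul_finset (a := σ) h1
        rwa [smul_inv_smul] at this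
    · rintro ⟨o, ho, hsub⟩
      refine ⟨maskOf (σ⁻¹ • o), ?_, ?_⟩
      · rw [mem_cutList_carries hσ (by rfl), inv_smul_mem_octads_iff hσ.1]
        simp [ho, Finset.inter_eq_left.2 (Finset.union_subset_left hsub), hT]
      · show maskOf _ &&& maskOf _ = maskOf _
        rw [← maskOf_inter, Finset.inter_eq_right.2
          (Finset.smul_finset_subset_smul_finset (Finset.union_subset_right hsub))]
  have hmem : ∀ U : Finset GolayPt,
      maskOf (σ⁻¹ • U) ∈ cutList (combList 3) ([8388611].zip [0]) ↔ U.card = 3 ∧ Disjoint T U := by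
    intro U
    rw [mem_cutList_carries hσ (by rfl), inv_smul_mem_combList_iff]
    simp [Finset.disjoint_iff_inter_eq_empty]
  refine ⟨?_, ?_, fun U U' hU hU' hd hd' hiff => ?_⟩
  · rw [ncard_of_pullback (σ := σ) ((cutList (combList 3) ([8388611].zip [0])).filter b)
      ((cutList_nodup (combList_nodup 3) _).filter _)
      (fun m hm => combList_lt (List.mem_of_mem_filter (List.mem_of_mem_filter hm)))]
    · decide +kernel
    · intro U; rw [List.mem_filter, hmem, hb, and_assoc]
  · rw [ncard_of_pullback (σ := σ) ((cutList (combList 3) ([8388611].zip [0])).filter fun u => !b u)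
      ((cutList_nodup (combList_nodup 3) _).filter _)
      (fun m hm => combList_lt (List.mem_of_mem_filter (List.mem_of_mem_filter hm)))]
    · decide +kernel
    · intro U
      rw [List.mem_filter, hmem, and_assoc, Bool.not_eq_true', ← Bool.not_eq_true, hb]
  · by_cases hin : b (maskOf (σ⁻¹ • U)) = true
    · have hin' := (hb U').2 (hiff.1 ((hb U).1 hin))
      obtain ⟨g, hg, hf, he⟩ := triIn.exists_map
        (fam := (cutList (combList 3) ([8388611].zip [0])).filter b) (by decide +kernel) hσ
        (List.mem_filter.2 ⟨(hmem U).2 ⟨hU, hd⟩, hin⟩) (List.mem_filter.2 ⟨(hmem U').2 ⟨hU', hd'⟩, hin'⟩)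
      exact ⟨g, hg, hf T (by simp), he⟩
    · have hin' : ¬ b (maskOf (σ⁻¹ • U')) = true := fun h => hin ((hb U).2 (hiff.2 ((hb U').1 h)))
      rw [Bool.not_eq_true] at hin hin'
      obtain ⟨g, hg, hf, he⟩ := triOut.exists_map
        (fam := (cutList (combList 3) ([8388611].zip [0])).filter fun u => !b u) (by decide +kernel) hσ
        (List.mem_filter.2 ⟨(hmem U).2 ⟨hU, hd⟩, by rw [hin]; rfl⟩)
        (List.mem_filter.2 ⟨(hmem U').2 ⟨hU', hd'⟩, by rw [hin']; rfl⟩)
      exact ⟨g, hg, hf T (by simp), he⟩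

end Cfsg.Agent.S1562
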