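import Cfsg.Statements.S1563
import Cfsg.Agent.Lib.Golay.MaxData

set_option autoImplicit false
open scoped Pointwise
open Cfsg

namespace Cfsg.Agent.S1563

open scoped Pointwise
open Cfsg.Agent.Golay24

attribute [local irreducible] weightList codeList combTo

/-- The stabiliser of a pair of points (setwise) is a maximal proper subgroup of the group of the length-24 code. -/
theorem result (s : Finset Cfsg.GolayPt) (hs : s.card = 2) : IsCoatom (MulAction.stabilizer Cfsg.M24 s) := by
  obtain ⟨a, b, hab, rfl⟩ := Finset.card_eq_two.1 hs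
  obtain ⟨σ, hσ⟩ := carries_two_points hab
  have h2 : Carries σ [8388609] [{a, b}] := by
    refine ⟨hσ.1, ?_⟩
    have e : Golay24.setOf 8388609 = Golay24.setOf 8388608 ∪ Golay24.setOf 1 := setOf_lor 8388608 1
    have hh := hσ.2
    simp only [List.map_cons, List.map_nil, List.cons.injEq, and_true] at hh
    simp [e, Finset.smul_finset_union, hh.1, hh.2]
  refine isCoatom_stabilizer_of_grow h2 ?_ fun g hg hne => ?_
  · refine ⟨toPerm pairOutGrow.g, toPerm_mem_M24 (by decide +kernel), fun e => ?_⟩
    rw [smul_setOf (by decide +kernel)] at e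
    exact absurd (setOf_inj (by decide +kernel) (by decide +kernel) e) (by decide +kernel)
  have hc : (g • Golay24.setOf 8388609).card = 2 := by
    rw [Finset.card_smul_finset]; decide +kernel
  have hle : (Golay24.setOf 8388609 ∩ g • Golay24.setOf 8388609).card ≤ 2 :=
    (Finset.card_le_card Finset.inter_subset_right).trans_eq hc
  have h1 : Carries 1 [8388609] [Golay24.setOf 8388609] := ⟨M24.one_mem, by simp⟩
  have hmem : ∀ k, (Golay24.setOf 8388609 ∩ g • Golay24.setOf 8388609).card = k →
      maskOf (g • Golay24.setOf 8388609) ∈ cutList (combList 2) ([8388609].zip [k]) := fun k hk => by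
    have := (mem_cutList_carries (x := g • Golay24.setOf 8388609) (ks := [k]) h1 (by rfl)).2
      ⟨inv_smul_mem_combList_iff.2 hc, by simp [hk]⟩
    simpa using this
  rcases Nat.lt_or_ge (Golay24.setOf 8388609 ∩ g • Golay24.setOf 8388609).card 1 with h | h
  · exact ⟨pairOut, pairOutGrow, _, by decide +kernel, by decide +kernel, hmem 0 (by omega)⟩
  rcases Nat.lt_or_ge (Golay24.setOf 8388609 ∩ g • Golay24.setOf 8388609).card 2 with h' | h'
  · exact ⟨pairMeet, pairMeetGrow, _, by decide +kernel, by decide +kernel, hmem 1 (by omega)⟩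
  exfalso
  exact hne (Finset.eq_of_subset_of_card_le
    (Finset.inter_eq_right.1 (Finset.eq_of_subset_of_card_le Finset.inter_subset_right
      (hc.trans_le h'))) (le_of_eq (by rw [Finset.card_smul_finset])))

end Cfsg.Agent.S1563
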