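import Cfsg.Statements.S1564
import Cfsg.Agent.Lib.Golay.MaxData
import Cfsg.Agent.Lib.Golay.StepsB

set_option autoImplicit false
open scoped Pointwise
open Cfsg

namespace Cfsg.Agent.S1564

open scoped Pointwise
open Cfsg.Agent.Golay24

attribute [local irreducible] weightList codeList combTo

noncomputable section

/-- Octads through the standard triple. -/
def tOcts : List ℕ := [9347075, 14716939, 12656663, 8536111, 13893731, 9465987, 11010247, 11731203, 8421811, 8524371, 8716939, 13124355, 10765331, 8983587, 8398155, 9471495, 9963547, 8505411, 8657159, 10496547, 12717187]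

/-- The triple lies in an octad with the standard one. -/
def inOctT (u : ℕ) : Bool := tOcts.any fun o => pop24 (Nat.land o u) == 3

/-- Triples avoiding the standard one. -/
def farTriples : List ℕ := cutList (combList 3) ([8388611].zip [0])

/-- The stabiliser of a set of three points (setwise) is a maximal proper subgroup of the group of the length-24 code. -/
theorem result (s : Finset Cfsg.GolayPt) (hs : s.card = 3) : IsCoatom (MulAction.stabilizer Cfsg.M24 s) := by
  obtain ⟨σ, hσ⟩ := carries_triple hs
  refine isCoatom_stabilizer_of_grow hσ ?_ fun g hg hne => ?_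
  · refine ⟨toPerm triOutGrow.g, toPerm_mem_M24 (by decide +kernel), fun e => ?_⟩
    rw [smul_setOf (by decide +kernel)] at e
    exact absurd (setOf_inj (by decide +kernel) (by decide +kernel) e) (by decide +kernel)
  have hc : (g • Golay24.setOf 8388611).card = 3 := by
    rw [Finset.card_smul_finset]; decide +kernel
  have hle : (Golay24.setOf 8388611 ∩ g • Golay24.setOf 8388611).card ≤ 3 :=
    (Finset.card_le_card Finset.inter_subset_right).trans_eq hc
  have h1 : Carries 1 [8388611] [Golay24.setOf 8388611] := ⟨M24.one_mem, by simp⟩
  have hmem : ∀ k, (Golay24.setOf 8388611 ∩ g • Golay24.setOf 8388611).card = k →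
      maskOf (g • Golay24.setOf 8388611) ∈ cutList (combList 3) ([8388611].zip [k]) := fun k hk => by
    have := (mem_cutList_carries (x := g • Golay24.setOf 8388611) (ks := [k]) h1 (by rfl)).2
      ⟨inv_smul_mem_combList_iff.2 hc, by simp [hk]⟩
    simpa using this
  rcases Nat.lt_or_ge (Golay24.setOf 8388611 ∩ g • Golay24.setOf 8388611).card 1 with h | h
  · by_cases hb : inOctT (maskOf (g • Golay24.setOf 8388611)) = true
    · exact ⟨triIn, triInGrow, farTriples.filter inOctT, by decide +kernel, by decide +kernel,
        List.mem_filter.2 ⟨hmem 0 (by omega), hb⟩⟩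
    · exact ⟨triOut, triOutGrow, farTriples.filter fun u => !inOctT u, by decide +kernel,
        by decide +kernel, List.mem_filter.2 ⟨hmem 0 (by omega), by simpa using hb⟩⟩
  rcases Nat.lt_or_ge (Golay24.setOf 8388611 ∩ g • Golay24.setOf 8388611).card 2 with h' | h'
  · exact ⟨triMeet1, triMeet1Grow, _, by decide +kernel, by decide +kernel, hmem 1 (by omega)⟩
  rcases Nat.lt_or_ge (Golay24.setOf 8388611 ∩ g • Golay24.setOf 8388611).card 3 with h'' | h''
  · exact ⟨triMeet2, triMeet2Grow, _, by decide +kernel, by decide +kernel, hmem 2 (by omega)⟩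
  exfalso
  exact hne (Finset.eq_of_subset_of_card_le
    (Finset.inter_eq_right.1 (Finset.eq_of_subset_of_card_le Finset.inter_subset_right
      (hc.trans_le h''))) (le_of_eq (by rw [Finset.card_smul_finset])))

end

end Cfsg.Agent.S1564
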