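import Cfsg.Statements.S1566
import Cfsg.Agent.Lib.Golay.MaxData
import Cfsg.Agent.Lib.Golay.StepsA

set_option autoImplicit false
open scoped Pointwise
open Cfsg

namespace Cfsg.Agent.S1566

open scoped Pointwise
open Cfsg.Agent.Golay24

attribute [local irreducible] weightList codeList combTo

theorem smul_compl' (g : Equiv.Perm GolayPt) (s : Finset GolayPt) : g • sᶜ = (g • s)ᶜ := by
  ext z
  rw [Finset.mem_compl, ← Finset.inv_smul_mem_iff, ← Finset.inv_smul_mem_iff (s := s), Finset.mem_compl]

/-- The setwise stabiliser of a dodecad together with its complement is a maximal proper subgroup of the group of the length-24 code. -/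
theorem result (d : Finset Cfsg.GolayPt) (hd : d ∈ Cfsg.dodecads) : IsCoatom (MulAction.stabilizer Cfsg.M24 ({d, dᶜ} : Finset (Finset Cfsg.GolayPt))) := by
  obtain ⟨σ, hσ⟩ := carries_dodecad hd
  have hs : σ • Golay24.setOf sqDod = d := by simpa using hσ.2
  have hpair : ∀ g : Equiv.Perm GolayPt, g • d = d →
      g • ({d, dᶜ} : Finset (Finset GolayPt)) = {d, dᶜ} := fun g hg => by
    rw [Finset.smul_finset_insert, Finset.smul_finset_singleton, smul_compl', hg]
  have hdne : d ≠ dᶜ := fun e => by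
    obtain ⟨z, hz⟩ := Finset.card_pos.1 (by rw [hd.2]; norm_num : 0 < d.card)
    exact (Finset.mem_compl.1 (e ▸ hz)) hz
  constructor
  · intro htop
    obtain ⟨g, hgd, hg, hgne⟩ : ∃ g : Equiv.Perm GolayPt, g • Golay24.setOf sqDod = Golay24.setOf dodDod6.root ∧
        g ∈ M24 ∧ pop24 (Nat.land sqDod dodDod6.root) = 6 := by
      refine ⟨toPerm dodGrow6.g, ?_, toPerm_mem_M24 (by decide +kernel), by decide +kernel⟩
      rw [smul_setOf (by decide +kernel), show img dodGrow6.g sqDod = dodDod6.root by decide +kernel]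
    have := (Subgroup.eq_top_iff' _).1 htop
      ⟨σ * g * σ⁻¹, M24.mul_mem (M24.mul_mem hσ.1 hg) (M24.inv_mem hσ.1)⟩
    change (σ * g * σ⁻¹) • ({d, dᶜ} : Finset (Finset GolayPt)) = {d, dᶜ} at this
    have hmem : (σ * g * σ⁻¹) • d ∈ ({d, dᶜ} : Finset (Finset GolayPt)) :=
      this ▸ Finset.smul_mem_smul_finset (Finset.mem_insert_self _ _)
    rw [← hs, mul_smul, mul_smul, inv_smul_smul, hgd, Finset.mem_insert, Finset.mem_singleton,
      ← smul_compl', smul_left_cancel_iff, smul_left_cancel_iff] at hmem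
    rcases hmem with e | e
    · have := congrArg (fun s => (Golay24.setOf sqDod ∩ s).card) e
      simp only [Finset.inter_self, ← setOf_land, card_setOf] at this
      rw [show sqDod &&& dodDod6.root = Nat.land sqDod dodDod6.root from rfl, hgne] at this
      exact absurd this (by decide +kernel)
    · have := congrArg (fun s => (Golay24.setOf sqDod ∩ s).card) e
      simp only [Finset.inter_compl, Finset.card_empty, ← setOf_land, card_setOf] at this
      rw [show sqDod &&& dodDod6.root = Nat.land sqDod dodDod6.root from rfl, hgne] at this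
      exact absurd this (by decide)
  intro K hlt
  obtain ⟨hle, x, hxK, hxs⟩ := SetLike.lt_iff_le_and_exists.1 hlt
  let K' : Subgroup (Equiv.Perm GolayPt) :=
    (K.map M24.subtype).comap (MulAut.conj σ).toMonoidHom
  have hmem : ∀ u : Equiv.Perm GolayPt, u ∈ K' ↔ σ * u * σ⁻¹ ∈ K.map M24.subtype := fun u => Iff.rfl
  have hfix : fixSets [sqDod] ≤ K' := by
    intro u hu
    rw [hmem]
    refine ⟨⟨σ * u * σ⁻¹, M24.mul_mem (M24.mul_mem hσ.1 hu.1) (M24.inv_mem hσ.1)⟩, hle ?_, rfl⟩
    refine hpair (σ * u * σ⁻¹) ?_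
    have e : σ⁻¹ • d = Golay24.setOf sqDod := inv_smul_eq_iff.2 hs.symm
    rw [mul_smul, mul_smul, e, hu.2 sqDod (by simp), hs]
  set g := σ⁻¹ * (x : Equiv.Perm GolayPt) * σ with hgdef
  have hg : g ∈ M24 := M24.mul_mem (M24.mul_mem (M24.inv_mem hσ.1) x.2) hσ.1
  have hgK : g ∈ K' := by
    rw [hmem]
    exact ⟨x, hxK, by rw [hgdef]; simp [mul_assoc]⟩
  have hgx : σ • g • Golay24.setOf sqDod = (x : Equiv.Perm GolayPt) • d := by
    rw [hgdef, mul_smul, mul_smul, smul_inv_smul, hs]
  have h0 : Golay24.setOf sqDod ∈ dodecads := sqDod_mem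
  have hgd := smul_mem_dodecads hg h0
  have h1 : Carries 1 [sqDod] [Golay24.setOf sqDod] := ⟨M24.one_mem, by simp⟩
  have hm : ∀ k, (Golay24.setOf sqDod ∩ g • Golay24.setOf sqDod).card = k →
      maskOf (g • Golay24.setOf sqDod) ∈ cutList (weightList 12) ([sqDod].zip [k]) := fun k hk => by
    have := (mem_cutList_carries (x := g • Golay24.setOf sqDod) (ks := [k]) h1 (by rfl)).2
      ⟨(inv_smul_mem_dodecads_iff M24.one_mem _).2 hgd, by simp [hk]⟩
    simpa using this
  have fin : M24 ≤ K' → K = ⊤ := fun hall => by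
    rw [Subgroup.eq_top_iff']
    intro y
    obtain ⟨z, hz, hzy⟩ := (hmem _).1 (hall (M24.mul_mem (M24.mul_mem (M24.inv_mem hσ.1) y.2) hσ.1))
    rwa [show y = z from Subtype.ext (by
      have : (z : Equiv.Perm GolayPt) = σ * (σ⁻¹ * (y : Equiv.Perm GolayPt) * σ) * σ⁻¹ := hzy
      rw [this]; group)]
  rcases card_dodecad_inter_cases h0 hgd with h | h | h | h | h
  · exfalso
    apply hxs
    show (x : Equiv.Perm GolayPt) • ({d, dᶜ} : Finset (Finset GolayPt)) = {d, dᶜ}
    have e : g • Golay24.setOf sqDod = (Golay24.setOf sqDod)ᶜ := by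
      refine Finset.eq_of_subset_of_card_le ?_ ?_
      · intro z hz
        rw [Finset.mem_compl]
        intro hz'
        rw [Finset.card_eq_zero] at h
        exact Finset.notMem_empty z (h ▸ Finset.mem_inter.2 ⟨hz', hz⟩)
      · rw [Finset.card_compl, h0.2, hgd.2]
        simp
    rw [Finset.smul_finset_insert, Finset.smul_finset_singleton, smul_compl', ← hgx, e,
      smul_compl', hs, compl_compl, Finset.pair_comm]
  · exact fin (dodGrow4.M24_le (c := dodDod4) (by decide +kernel) (by decide +kernel) hfix hgK hg (hm 4 h))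
  · exact fin (dodGrow6.M24_le (c := dodDod6) (by decide +kernel) (by decide +kernel) hfix hgK hg (hm 6 h))
  · exact fin (dodGrow8.M24_le (c := dodDod8) (by decide +kernel) (by decide +kernel) hfix hgK hg (hm 8 h))
  · exfalso
    exact hxs (hpair _ (by rw [← hgx, ← h, hs]))

end Cfsg.Agent.S1566
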