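import Cfsg.Statements.S1568
import Cfsg.Agent.Lib.LeechCount.Counts

set_option autoImplicit false
open Cfsg

namespace Cfsg.Agent.S1568

open Cfsg.Agent.Leech Cfsg.Agent.LeechCount

theorem latM_of_mem' {x : GolayPt → ℤ} (hx : x ∈ leechLattice) (i : GolayPt) (h : (2 : ℤ) ∣ x i - 1) : LatM 1 x := by
  rcases exists_witness hx with h0 | h1
  · have := h0.1 i; omega
  · exact h1


/-- Shape census of the lattice vectors of sum of squares 48 (customary norm 6): the four families (2^12, 0^12), (±3^3, ±1^21), (±4, ±2^8, 0^15) and (±5, ±1^23) have 5275648, 8290304, 3108864 and 98304 members. -/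
theorem result : {x : Cfsg.GolayPt → ℤ | x ∈ Cfsg.leechLattice ∧ Cfsg.sqNorm x = 48 ∧ ∀ i, x i = 0 ∨ x i = 2 ∨ x i = -2}.ncard = 5275648 ∧ {x : Cfsg.GolayPt → ℤ | x ∈ Cfsg.leechLattice ∧ Cfsg.sqNorm x = 48 ∧ ∃ i j k, i ≠ j ∧ j ≠ k ∧ i ≠ k ∧ |x i| = 3 ∧ |x j| = 3 ∧ |x k| = 3}.ncard = 8290304 ∧ {x : Cfsg.GolayPt → ℤ | x ∈ Cfsg.leechLattice ∧ Cfsg.sqNorm x = 48 ∧ ∃ i, |x i| = 4}.ncard = 3108864 ∧ {x : Cfsg.GolayPt → ℤ | x ∈ Cfsg.leechLattice ∧ Cfsg.sqNorm x = 48 ∧ ∃ i, |x i| = 5}.ncard = 98304 := by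
  classical
  have hsplit : ∀ (ok : ℤ → Bool), {x : GolayPt → ℤ | x ∈ leechLattice ∧ sqNorm x = 48 ∧ ∃ i, ok (x i) = false}.ncard =
      16773120 - (shortSet 48 ok).ncard := by
    intro ok
    have e : {x : GolayPt → ℤ | x ∈ leechLattice ∧ sqNorm x = 48 ∧ ∃ i, ok (x i) = false} =
        shortSet 48 (fun _ => true) \ shortSet 48 ok := by
      ext x; simp [shortSet]; tauto
    have hfin : (shortSet 48 ok).Finite := by
      refine ((shortPar_finite 0 48 ok (by norm_num)).union (shortPar_finite 1 48 ok (by norm_num))).subset ?_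
      rintro x ⟨hx, hn, hok⟩
      rcases exists_witness hx with h | h
      exacts [Or.inl ⟨h, hn, hok⟩, Or.inr ⟨h, hn, hok⟩]
    rw [e, Set.ncard_sdiff (show shortSet 48 ok ⊆ shortSet 48 (fun _ => true) from fun x hx => ⟨hx.1, hx.2.1, fun _ => rfl⟩) hfin, short48]
  refine ⟨?_, ?_, ?_, ?_⟩
  · have e : {x : GolayPt → ℤ | x ∈ leechLattice ∧ sqNorm x = 48 ∧ ∀ i, x i = 0 ∨ x i = 2 ∨ x i = -2} =
        shortSet 48 (fun v => v == 0 || v == 2 || v == -2) := by
      ext x; simp [shortSet, or_assoc]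
    rw [e, shortSet_split _ _ (by norm_num),
      ncard_even _ 12 0 0 2048 0 0 (by norm_num) (by norm_num) (by decide +kernel),
      ncard_odd _ 3 0 0 0 0 0 (by norm_num) (by norm_num) (by decide +kernel)]
  · have e : {x : GolayPt → ℤ | x ∈ leechLattice ∧ sqNorm x = 48 ∧
        ∃ i j k, i ≠ j ∧ j ≠ k ∧ i ≠ k ∧ |x i| = 3 ∧ |x j| = 3 ∧ |x k| = 3} =
        shortPar 1 48 (fun v => !(v == 5 || v == -5)) := by
      ext x
      simp only [shortPar, Set.mem_setOf_eq, Bool.not_eq_true', Bool.or_eq_false_iff, beq_eq_false_iff_ne]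
      constructor
      · rintro ⟨hx, hn, i, j, k, hij, hjk, hik, hi, hj, hk⟩
        have hodd : LatM 1 x := latM_of_mem' hx i (by rcases abs_eq (by norm_num : (0:ℤ) ≤ 3) |>.1 hi with h | h <;> omega)
        refine ⟨hodd, hn, fun l => ?_⟩
        by_contra hl
        have hl5 : x l ^ 2 = 25 := by
          rcases not_and_or.1 hl with h | h <;> rw [not_not.1 h] <;> norm_num
        have hne : ∀ a, |x a| = 3 → a ≠ l := fun a ha e => by
          subst e
          rw [← sq_abs, ha] at hl5; norm_num at hl5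
        have hsub := Finset.sum_le_sum_of_subset_of_nonneg (f := fun a => x a ^ 2)
          (Finset.subset_univ ({i, j, k, l} : Finset GolayPt)) (fun a _ _ => sq_nonneg _)
        rw [Finset.sum_insert (by simp [hij, hik, hne i hi]), Finset.sum_insert (by simp [hjk, hne j hj]),
          Finset.sum_insert (by simp [hne k hk]), Finset.sum_singleton, hl5, ← sq_abs, hi, ← sq_abs (x j), hj,
          ← sq_abs (x k), hk] at hsub
        change _ ≤ sqNorm x at hsub
        omega
      · rintro ⟨hodd, hn, hok⟩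
        refine ⟨(mem_leech_iff x).2 ⟨1, hodd⟩, hn, ?_⟩
        have hb := entry_bound (x := x) (by omega)
        have hv : ∀ l, x l ^ 2 = 1 + if |x l| = 3 then 8 else 0 := fun l => by
          have h7 : x l ^ 2 ≤ 48 := hn ▸ Finset.single_le_sum (f := fun a => x a ^ 2) (fun a _ => sq_nonneg _) (Finset.mem_univ l)
          obtain ⟨h1, h2⟩ := hb l
          have h3 := hodd.1 l
          obtain ⟨h5, h6⟩ := hok l
          revert h3 h5 h6 h7
          generalize x l = v at h1 h2 ⊢
          interval_cases v <;> norm_num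
        have hsum : sqNorm x = 24 + 8 * ((Finset.univ.filter fun l => |x l| = 3).card : ℤ) := by
          rw [sqNorm, Finset.sum_congr rfl fun l _ => hv l, Finset.sum_add_distrib, ← Finset.sum_filter]
          simp [card_pt, mul_comm]
        obtain ⟨a, b, c, hab, hac, hbc, habc⟩ := Finset.card_eq_three.1
          (show (Finset.univ.filter fun l => |x l| = 3).card = 3 by omega)
        have hm : ∀ l ∈ ({a, b, c} : Finset GolayPt), |x l| = 3 := fun l hl => by
          rw [← habc] at hl; exact (Finset.mem_filter.1 hl).2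
        exact ⟨a, b, c, hab, hbc, hac, hm a (by simp), hm b (by simp), hm c (by simp)⟩
    rw [e, ncard_odd _ 3 2024 2024 2024 2024 2024 (by norm_num) (by norm_num) (by decide +kernel)]
  · have e : {x : GolayPt → ℤ | x ∈ leechLattice ∧ sqNorm x = 48 ∧ ∃ i, |x i| = 4} =
        {x : GolayPt → ℤ | x ∈ leechLattice ∧ sqNorm x = 48 ∧ ∃ i, (fun v => !(v == 4 || v == -4)) (x i) = false} := by
      ext x; simp [abs_eq, or_iff_not_imp_left]
    refine e ▸ (hsplit fun v => !(v == 4 || v == -4)).trans ?_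
    rw [shortSet_split _ _ (by norm_num),
      ncard_even _ 12 0 0 2048 0 0 (by norm_num) (by norm_num) (by decide +kernel),
      ncard_odd _ 3 2048 2048 2048 2048 2048 (by norm_num) (by norm_num) (by decide +kernel)]
  · have e : {x : GolayPt → ℤ | x ∈ leechLattice ∧ sqNorm x = 48 ∧ ∃ i, |x i| = 5} =
        {x : GolayPt → ℤ | x ∈ leechLattice ∧ sqNorm x = 48 ∧ ∃ i, (fun v => !(v == 5 || v == -5)) (x i) = false} := by
      ext x; simp [abs_eq, or_iff_not_imp_left]
    refine e ▸ (hsplit fun v => !(v == 5 || v == -5)).trans ?_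
    rw [shortSet_split _ _ (by norm_num),
      ncard_even _ 12 0 4096 2048 0 0 (by norm_num) (by norm_num) (by decide +kernel),
      ncard_odd _ 3 2024 2024 2024 2024 2024 (by norm_num) (by norm_num) (by decide +kernel)]

end Cfsg.Agent.S1568
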