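import Cfsg.Statements.S1570
import Cfsg.Agent.Lib.Leech.Classes
-- import your own Cfsg.Agent.* helpers here

set_option autoImplicit false
open Cfsg

namespace Cfsg.Agent.S1570

open Cfsg.Agent.Leech

theorem dot_smul_left (c : ℤ) (x y : Vec) : dotInt (c • x) y = c * dotInt x y := by
  simp only [dotInt, Pi.smul_apply, smul_eq_mul, Finset.mul_sum, mul_assoc]

theorem dot_add (x y u : Vec) : dotInt (x + y) u = dotInt x u + dotInt y u := by
  simp [dotInt, Finset.sum_add_distrib, add_mul]

/-- a vector with all products against minimal vectors divisible by 16 is singular -/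
theorem dvd_norm_of_dot {x : Vec} (hx : x ∈ leechLattice)
    (h : ∀ v, v ∈ leechLattice → sqNorm v = 32 → (16 : ℤ) ∣ dotInt x v) : (32 : ℤ) ∣ sqNorm x := by
  classical
  have hp : ∀ i, i ≠ none → (4 : ℤ) ∣ x i + x none ∧ (4 : ℤ) ∣ x i - x none := by
    intro i hi
    have h1 := h _ (e44_mem hi) (e44_norm hi)
    have h2 := h _ (d44_mem hi) (d44_norm hi)
    have e1 : dotInt x (e44 i none) = 4 * x i + 4 * x none := by
      simp only [dotInt, e44]
      rw [Finset.sum_eq_add i none hi (fun c _ hc => by simp [hc.1, hc.2])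
        (fun hc => absurd (Finset.mem_univ _) hc) (fun hc => absurd (Finset.mem_univ _) hc)]
      simp
      ring
    have e2 : dotInt x (d44 i none) = 4 * x i - 4 * x none := by
      simp only [dotInt, d44]
      rw [Finset.sum_eq_add i none hi (fun c _ hc => by simp [hc.1, hc.2])
        (fun hc => absurd (Finset.mem_univ _) hc) (fun hc => absurd (Finset.mem_univ _) hc)]
      simp [Ne.symm hi]
      ring
    rw [e1] at h1
    rw [e2] at h2
    omega
  have heven : (2 : ℤ) ∣ x none := by
    have := hp (some 0) (Option.some_ne_none 0)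
    omega
  have h4 : ∀ i, (4 : ℤ) ∣ x i - x none := fun i => by
    by_cases hi : i = none
    · simp [hi]
    · exact (hp i hi).2
  choose b hb using h4
  have hxi : ∀ i, x i = x none + 4 * b i := fun i => by have := hb i; omega
  obtain ⟨h1, -, h2⟩ := oddMin_latM
  have h3 := h _ ((mem_leech_iff _).2 ⟨1, h1⟩) h2
  have e3 : dotInt x oddMin = (∑ i, x i) - 4 * x none := by
    have : ∀ i, x i * oddMin i = x i - (if i = none then 4 * x i else 0) := fun i => by
      simp only [oddMin]
      split_ifs <;> ring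
    simp only [dotInt, this, Finset.sum_sub_distrib, Finset.sum_ite_eq', Finset.mem_univ, if_true]
  have hsum : ∑ i, x i = 24 * x none + 4 * ∑ i, b i := by
    rw [Finset.sum_congr rfl fun i _ => hxi i, Finset.sum_add_distrib, ← Finset.mul_sum,
      Finset.sum_const, Finset.card_univ, card_pt, nsmul_eq_mul]
    norm_num
  have hnorm : sqNorm x = 24 * x none ^ 2 + 8 * x none * (∑ i, b i) + 16 * ∑ i, b i ^ 2 := by
    simp only [sqNorm]
    rw [Finset.sum_congr rfl fun i _ => show x i ^ 2 =
      x none ^ 2 + 8 * x none * b i + 16 * b i ^ 2 by rw [hxi i]; ring,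
      Finset.sum_add_distrib, Finset.sum_add_distrib, ← Finset.mul_sum, ← Finset.mul_sum,
      Finset.sum_const, Finset.card_univ, card_pt, nsmul_eq_mul]
    norm_num
  have hsq : (2 : ℤ) ∣ (∑ i, b i ^ 2) - ∑ i, b i := by
    rw [← Finset.sum_sub_distrib]
    refine Finset.dvd_sum fun i _ => ?_
    have : b i ^ 2 - b i = b i * (b i - 1) := by ring
    rw [this]
    exact even_iff_two_dvd.1 (Int.even_mul_pred_self _)
  rw [e3, hsum] at h3
  obtain ⟨m, hm⟩ := heven
  rw [hm] at h3 hnorm
  obtain ⟨r, hr⟩ := hsq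
  have hs2 : (2 : ℤ) ∣ ∑ i, b i := by omega
  obtain ⟨s, hs⟩ := hs2
  have h5 : 24 * (2 * m) ^ 2 + 8 * (2 * m) * (∑ i, b i) + 16 * ∑ i, b i ^ 2 =
      32 * (3 * m ^ 2 + m * s + r + s) := by
    have : ∑ i, b i ^ 2 = 2 * r + 2 * s := by omega
    rw [this, hs]; ring
  rw [hnorm, h5]
  exact dvd_mul_right _ _

/-- an odd vector of minimal norm has an entry of absolute value three -/
theorem exists_three {v : Vec} (hv : v ∈ leechLattice) (hn : sqNorm v = 32) (i : GolayPt)
    (hi : ¬ (2 : ℤ) ∣ v i) : ∃ j, v j = 3 ∨ v j = -3 := by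
  classical
  obtain ⟨m, hm⟩ := (mem_leech_iff _).1 hv
  have hodd : ∀ j, ¬ (2 : ℤ) ∣ v j := fun j => by
    have := hm.1 j; have := hm.1 i; omega
  have h1 : ∀ j, 1 ≤ v j ^ 2 := fun j => by
    have := hodd j
    have h0 : v j ≠ 0 := by omega
    nlinarith [mul_self_pos.2 h0]
  by_contra hc
  simp only [not_exists, not_or] at hc
  have h2 : ∀ j, v j ^ 2 = 1 := by
    intro j
    by_contra hne
    have := hodd j
    have hge : 25 ≤ v j ^ 2 := by
      have h3 := hc j
      rcases le_or_gt (v j) 0 with hle | hle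
      · have : v j ≤ -5 ∨ v j = -1 := by omega
        rcases this with h5 | h5
        · nlinarith
        · rw [h5] at hne; norm_num at hne
      · have : 5 ≤ v j ∨ v j = 1 := by omega
        rcases this with h5 | h5
        · nlinarith
        · rw [h5] at hne; norm_num at hne
    have hsum : ∑ k, (if k = j then (24 : ℤ) else 0) + 24 ≤ sqNorm v := by
      have : ∑ k, ((if k = j then (24 : ℤ) else 0) + 1) ≤ sqNorm v :=
        Finset.sum_le_sum fun k _ => by
          split_ifs with hk
          · subst hk; linarith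
          · linarith [h1 k]
      simpa [Finset.sum_add_distrib, card_pt] using this
    simp [hn] at hsum
  simp only [sqNorm, h2] at hn
  simp [card_pt] at hn

/-- a nonsingular class next to a short singular one has a short representative -/
theorem finish {x v w : Vec} (hx : x ∈ leechLattice) (hv : v ∈ leechLattice) (hvn : sqNorm v = 32)
    (hvd : ¬ (16 : ℤ) ∣ dotInt x v) (g : ↥Cfsg.Co0) (hw : w ∈ leechLattice)
    (hwk : sqNorm w = 32 ∨ w = e8 none) (hg : Cong (ap g (x + v)) w) :
    ∃ y ∈ Cfsg.leechLattice, Cfsg.sqNorm y ≤ 64 ∧ Cong x y := by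
  classical
  set X := ap g x with hX
  set V := ap g v with hV
  have hXm : X ∈ leechLattice := ap_mem g hx
  have hVm : V ∈ leechLattice := ap_mem g hv
  have hVn : sqNorm V = 32 := by rw [hV, ap_norm g hv, hvn]
  rw [ap_add g hx hv, ← hX, ← hV] at hg
  have hd : ¬ (16 : ℤ) ∣ dotInt w V := by
    obtain ⟨z, hz, hzz⟩ := hg
    have h1 : w = X + V + (-2 : ℤ) • z := by
      funext i
      have := congrFun hzz i
      simp at this ⊢
      omega
    have h2 : dotInt w V = dotInt X V + dotInt V V + -2 * dotInt z V := by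
      rw [h1, dot_add, dot_add, dot_smul_left]
    have h3 : dotInt V V = sqNorm V := by simp [dotInt, sqNorm, sq]
    have h4 := dot_eight hz hVm
    have h5 : dotInt X V = dotInt x v := ap_dot g hx hv
    omega
  have hd8 := dot_eight hw hVm
  -- candidates congruent to X
  obtain ⟨y, hy, hyn, hyc⟩ : ∃ y ∈ leechLattice, sqNorm y ≤ 64 ∧ Cong X y := by
    have key : ∀ u, u ∈ leechLattice → Cong (X + V) u → Cong X (u - V) ∧ Cong X (u + V) := by
      intro u hu ⟨z, hz, hzz⟩
      refine ⟨⟨z, hz, ?_⟩, ⟨z - V, sub_mem hz hVm, ?_⟩⟩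
      · rw [← hzz]; abel
      · rw [smul_sub, ← hzz, two_nsmul]; abel
    rcases hwk with hwn | rfl
    · have hn1 := sqNorm_sub w V
      have hn2 := sqNorm_add w V
      obtain ⟨k1, k2⟩ := key w hw hg
      rcases le_or_gt (dotInt w V) 0 with hle | hle
      · refine ⟨w + V, add_mem hw hVm, ?_, k2⟩
        rw [hn2, hwn, hVn]; omega
      · refine ⟨w - V, sub_mem hw hVm, ?_, k1⟩
        rw [hn1, hwn, hVn]; omega
    · rw [dot_comm, dot_e8] at hd
      obtain ⟨j, hj⟩ := exists_three hVm hVn none (by omega)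
      obtain ⟨k1, k2⟩ := key (e8 j) (e8_mem j) (hg.trans (cong_e8 none j))
      have hn1 := sqNorm_sub (e8 j) V
      have hn2 := sqNorm_add (e8 j) V
      rw [dot_comm, dot_e8, e8_norm, hVn] at hn1 hn2
      rcases hj with hj | hj <;> rw [hj] at hn1 hn2
      · exact ⟨e8 j - V, sub_mem (e8_mem j) hVm, by omega, k1⟩
      · exact ⟨e8 j + V, add_mem (e8_mem j) hVm, by omega, k2⟩
  refine ⟨ap g⁻¹ y, ap_mem _ hy, by rw [ap_norm _ hy]; exact hyn, ?_⟩
  have := ap_cong g⁻¹ hXm hy hyc
  rwa [hX, ap_inv_ap g hx] at this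


/-- Every congruence class of the lattice modulo twice the lattice contains a vector of customary norm at most 8. -/
theorem result (x : Cfsg.GolayPt → ℤ) (hx : x ∈ Cfsg.leechLattice) : ∃ y ∈ Cfsg.leechLattice, Cfsg.sqNorm y ≤ 64 ∧ ∃ z ∈ Cfsg.leechLattice, x - y = 2 • z := by
  classical
  by_cases h32 : (32 : ℤ) ∣ sqNorm x
  · by_cases h0 : Cong x 0
    · exact ⟨0, zero_mem _, by simp [sqNorm], h0⟩
    · rcases class_normal hx h32 h0 with ⟨g, hg⟩ | ⟨g, hg⟩
      · refine ⟨ap g⁻¹ Spor.vecU, ap_mem _ (e44_mem (Option.some_ne_none 0).symm), ?_, ?_⟩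
        · change sqNorm (ap g⁻¹ (e44 none (some 0))) ≤ 64
          rw [ap_norm _ (e44_mem (Option.some_ne_none 0).symm)]
          exact le_of_eq_of_le (e44_norm (Option.some_ne_none 0).symm) (by norm_num)
        · have := ap_cong g⁻¹ (ap_mem g hx) (e44_mem (Option.some_ne_none 0).symm) hg
          rw [ap_inv_ap g hx] at this
          exact this
      · refine ⟨ap g⁻¹ (e8 none), ap_mem _ (e8_mem none), ?_, ?_⟩
        · rw [ap_norm _ (e8_mem none), e8_norm]
        · have := ap_cong g⁻¹ (ap_mem g hx) (e8_mem none) hg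
          rw [ap_inv_ap g hx] at this
          exact this
  obtain ⟨v, hv, hvn, hvd⟩ : ∃ v, v ∈ leechLattice ∧ sqNorm v = 32 ∧ ¬ (16 : ℤ) ∣ dotInt x v := by
    by_contra hc
    simp only [not_exists, not_and, not_not] at hc
    exact h32 (dvd_norm_of_dot hx hc)
  have hd8 := dot_eight hx hv
  have hxv : x + v ∈ leechLattice := add_mem hx hv
  have hs : (32 : ℤ) ∣ sqNorm (x + v) := by
    have h16 := sqNorm_sixteen hx
    rw [sqNorm_add, hvn]
    omega
  have hne : ¬ Cong (x + v) 0 := by
    rintro ⟨z, hz, hzz⟩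
    rw [sub_zero] at hzz
    have h1 : dotInt (x + v) v = 2 * dotInt z v := by
      rw [hzz, two_nsmul, dot_add]; ring
    have h2 : dotInt (x + v) v = dotInt x v + dotInt v v := by
      simp [dotInt, Finset.sum_add_distrib, add_mul]
    have h3 : dotInt v v = sqNorm v := by simp [dotInt, sqNorm, sq]
    have h4 := dot_eight hz hv
    omega
  rcases class_normal hxv hs hne with ⟨g, hg⟩ | ⟨g, hg⟩
  · exact finish hx hv hvn hvd g (e44_mem (Option.some_ne_none 0).symm)
      (Or.inl (e44_norm (Option.some_ne_none 0).symm)) hg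
  · exact finish hx hv hvn hvd g (e8_mem none) (Or.inr rfl) hg

end Cfsg.Agent.S1570
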