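import Cfsg.Statements.S1571
import Cfsg.Agent.Lib.Leech.Frame
import Cfsg.Agent.Lib.Leech.Stab

set_option autoImplicit false
open scoped Pointwise
open Cfsg

namespace Cfsg.Agent.S1571

open Cfsg.Agent.Leech

theorem single_eq (i : GolayPt) : (Pi.single i (8 : ℤ) : GolayPt → ℤ) = e8 i := funext fun j => by
  simp [e8, Pi.single_apply]

theorem single_eq_neg (i : GolayPt) : (Pi.single i (-8 : ℤ) : GolayPt → ℤ) = -e8 i := by
  rw [← single_eq, Pi.single_neg]


/-- The stabiliser of the standard cross in the automorphism group of the lattice is the monomial group of the code: each of its elements acts as a signed permutation with permutation part in the code's group and sign set a codeword, and it has order 4096 · 244823040. -/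
theorem result : (∀ g : ↥Cfsg.Co0, (∀ v : ↥Cfsg.leechLattice, (v : Cfsg.GolayPt → ℤ) ∈ Cfsg.stdCross → ((g • v : ↥Cfsg.leechLattice) : Cfsg.GolayPt → ℤ) ∈ Cfsg.stdCross) → ∃ f ∈ Cfsg.golayMonomialMaps, ∀ v : ↥Cfsg.leechLattice, ((g • v : ↥Cfsg.leechLattice) : Cfsg.GolayPt → ℤ) = f (v : Cfsg.GolayPt → ℤ)) ∧ Nat.card {g : ↥Cfsg.Co0 // (∀ v : ↥Cfsg.leechLattice, (v : Cfsg.GolayPt → ℤ) ∈ Cfsg.stdCross → ((g • v : ↥Cfsg.leechLattice) : Cfsg.GolayPt → ℤ) ∈ Cfsg.stdCross)} = 4096 * 244823040 := by
  classical
  have hiff : ∀ g : ↥Co0, (∀ v : ↥leechLattice, (v : GolayPt → ℤ) ∈ stdCross →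
      ((g • v : ↥leechLattice) : GolayPt → ℤ) ∈ stdCross) ↔ g ∈ frame := by
    intro g
    rw [mem_frame]
    constructor
    · intro h
      obtain ⟨i, s, hs, he⟩ := h ⟨e8 none, e8_mem none⟩ ⟨none, 8, Or.inl rfl, (single_eq none).symm⟩
      rw [← ap_coe] at he
      rw [he]
      rcases hs with rfl | rfl
      · rw [single_eq]; exact cong_e8 i none
      · rw [single_eq_neg]; exact (cong_neg (e8_mem i)).symm.trans (cong_e8 i none)
    · intro h v hv
      obtain ⟨σ, S, -, -, hm⟩ := stab_e8 g h
      obtain ⟨i, s, hs, he⟩ := hv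
      refine ⟨σ i, if σ i ∈ S then -s else s, ?_, ?_⟩
      · rcases hs with rfl | rfl <;> split <;> simp
      · rw [← ap_coe, hm _ v.2, he]
        funext k
        by_cases hk : k = σ i
        · subst hk; simp [mono, Pi.single_apply]
        · have : σ.symm k ≠ i := fun h => hk (by rw [← h]; simp)
          simp [mono, Pi.single_apply, hk, this]
  refine ⟨fun g hg => ?_, ?_⟩
  · obtain ⟨σ, S, hσ, hS, hm⟩ := stab_e8 g ((mem_frame).1 ((hiff g).1 hg))
    refine ⟨signedPerm σ S, ⟨σ, hσ, S, hS, rfl⟩, fun v => ?_⟩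
    rw [← ap_coe, hm _ v.2]; rfl
  · rw [Nat.card_congr (Equiv.subtypeEquivRight hiff)]
    have h := Subgroup.card_mul_index frameHom.ker
    rw [Subgroup.index_ker, MonoidHom.range_eq_top.2 frameHom_surjective, Subgroup.card_top,
      Golay24.card_M24] at h
    let f : Multiplicative ↥golayCode → ↥frameHom.ker := fun c =>
      ⟨⟨signHom c, signs_le_frame ⟨c, rfl⟩⟩, by
        obtain ⟨S, -, hh⟩ := frameHom_spec ⟨signHom c, signs_le_frame ⟨c, rfl⟩⟩
        refine Subtype.ext ((mono_unique (S := S) (S' := support₂ (wd c)) fun i => ?_).1)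
        rw [← hh _ (e8_mem i)]
        exact ap_signCo_mono (InC_support (Multiplicative.toAdd c)) (e8_mem i)⟩
    have hf : Function.Bijective f := by
      constructor
      · intro a b hab
        have e : signHom a = signHom b :=
          congrArg (fun z : ↥frameHom.ker => ((z : ↥frame) : ↥Co0)) hab
        have hs : support₂ (wd a) = support₂ (wd b) := by
          refine (mono_unique (σ := 1) (σ' := 1) fun i => ?_).2
          exact (ap_signCo_mono (InC_support (Multiplicative.toAdd a)) (e8_mem i)).symm.trans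
            ((congrArg (fun z => ap z (e8 i)) e).trans
              (ap_signCo_mono (InC_support (Multiplicative.toAdd b)) (e8_mem i)))
        apply Multiplicative.toAdd.injective
        refine Subtype.ext (funext fun p => ?_)
        have := Finset.ext_iff.1 hs p
        simp only [support₂, Finset.mem_filter, Finset.mem_univ, true_and] at this
        revert this
        show _ → wd a p = wd b p
        generalize wd a p = u, wd b p = w
        revert u w; decide
      · rintro ⟨z, hz⟩
        obtain ⟨S, hS, e⟩ := frameHom_ker hz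
        obtain ⟨w, hw, rfl⟩ := hS
        exact ⟨Multiplicative.ofAdd ⟨w, hw⟩, Subtype.ext (Subtype.ext e.symm)⟩
    rw [← h, ← Nat.card_congr (Equiv.ofBijective f hf), Nat.card_congr Multiplicative.toAdd,
      Module.natCard_eq_pow_finrank (K := ZMod 2), Golay24.golayCode_finrank, Nat.card_zmod]
    norm_num

end Cfsg.Agent.S1571
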