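import Cfsg.Statements.S1572
import Cfsg.Agent.Lib.Leech.Maximal
-- import your own Cfsg.Agent.* helpers here

set_option autoImplicit false
open scoped Pointwise
open Cfsg

namespace Cfsg.Agent.S1572

/-- The stabiliser of the standard cross is a maximal proper subgroup of the lattice's automorphism group. -/
theorem result (H : Subgroup ↥Cfsg.Co0) (hH : (H : Set ↥Cfsg.Co0) = {g : ↥Cfsg.Co0 | (∀ v : ↥Cfsg.leechLattice, (v : Cfsg.GolayPt → ℤ) ∈ Cfsg.stdCross → ((g • v : ↥Cfsg.leechLattice) : Cfsg.GolayPt → ℤ) ∈ Cfsg.stdCross)}) : IsCoatom H := by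
  open Cfsg.Agent.Leech in
  have single_eq : ∀ i : GolayPt, (Pi.single i (8 : ℤ) : GolayPt → ℤ) = e8 i := fun i => funext fun j => by
    simp [e8, Pi.single_apply]
  have hH' : H = frame := by
    ext g
    rw [← SetLike.mem_coe, hH, mem_frame]
    constructor
    · intro h
      obtain ⟨i, s, hs, he⟩ := h ⟨e8 none, e8_mem none⟩ ⟨none, 8, Or.inl rfl, (single_eq none).symm⟩
      rw [← ap_coe] at he
      rw [he]
      rcases hs with rfl | rfl
      · rw [single_eq]; exact cong_e8 i none
      · rw [Pi.single_neg, single_eq]; exact (cong_neg (e8_mem i)).symm.trans (cong_e8 i none)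
    · intro h v hv
      obtain ⟨σ, S, -, -, hm⟩ := stab_e8 g h
      obtain ⟨i, s, hs, he⟩ := hv
      refine ⟨σ i, if σ i ∈ S then -s else s, ?_, ?_⟩
      · rcases hs with rfl | rfl <;> split <;> simp
      · rw [← ap_coe, hm _ v.2, he]
        funext k
        by_cases hk : k = σ i
        · subst hk; simp [mono, Pi.single_apply]
        · have : σ.symm k ≠ i := fun h => hk (by rw [← h]; simp)
          simp [mono, Pi.single_apply, hk, this]
  rw [hH']
  exact isCoatom_frame

end Cfsg.Agent.S1572
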