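import Cfsg.Statements.S1578
import Cfsg.Agent.Lib.LeechCount.Moments
-- import your own Cfsg.Agent.* helpers here

set_option autoImplicit false
open Cfsg

namespace Cfsg.Agent.S1578

/-- A lattice vector of customary norm 6 is the sum of an unordered pair of minimal vectors in exactly 276 ways (552 ordered summands). -/
theorem result (u : ↥Cfsg.leechLattice) (hu : Cfsg.sqNorm (u : Cfsg.GolayPt → ℤ) = 48) : {v : ↥Cfsg.leechLattice | Cfsg.sqNorm (v : Cfsg.GolayPt → ℤ) = 32 ∧ Cfsg.sqNorm ((u - v) : Cfsg.GolayPt → ℤ) = 32}.ncard = 552 := by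
  rw [← Set.ncard_image_of_injective _ Subtype.val_injective, ← LeechCount.card_dot_twentyfour u.2 hu,
    ← Set.ncard_coe_finset]
  congr 1
  ext w
  simp only [Set.mem_image, Finset.mem_coe, LeechCount.mem_dotFS]
  constructor
  · rintro ⟨v, ⟨hv, hd⟩, rfl⟩
    refine ⟨⟨v.2, hv⟩, ?_⟩
    rw [Leech.sqNorm_sub, hu, hv] at hd
    omega
  · rintro ⟨⟨hw, hwn⟩, hd⟩
    refine ⟨⟨w, hw⟩, ⟨hwn, ?_⟩, rfl⟩
    rw [Leech.sqNorm_sub, hu, hwn, hd]
    norm_num

end Cfsg.Agent.S1578
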