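import Cfsg.Statements.S1579
import Cfsg.Agent.Lib.Leech.PairsAll
-- import your own Cfsg.Agent.* helpers here

set_option autoImplicit false
open Cfsg

namespace Cfsg.Agent.S1579

/-- The stabiliser of a vector of customary norm 6 is transitive on the 552 minimal vectors that complete it to a sum of two minimal vectors. -/
theorem result (u v v' : ↥Cfsg.leechLattice) (hu : Cfsg.sqNorm (u : Cfsg.GolayPt → ℤ) = 48) (hv : Cfsg.sqNorm (v : Cfsg.GolayPt → ℤ) = 32 ∧ Cfsg.sqNorm ((u - v) : Cfsg.GolayPt → ℤ) = 32) (hv' : Cfsg.sqNorm (v' : Cfsg.GolayPt → ℤ) = 32 ∧ Cfsg.sqNorm ((u - v') : Cfsg.GolayPt → ℤ) = 32) : ∃ g : ↥Cfsg.Co0, g • u = u ∧ g • v = v' := by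
  have key : ∀ x : ↥Cfsg.leechLattice, (Cfsg.sqNorm (x : Cfsg.GolayPt → ℤ) = 32 ∧
      Cfsg.sqNorm ((u - x) : Cfsg.GolayPt → ℤ) = 32) →
      Cfsg.dotInt (x : Cfsg.GolayPt → ℤ) ((u - x : ↥Cfsg.leechLattice) : Cfsg.GolayPt → ℤ) = -8 := by
    rintro x ⟨h1, h2⟩
    have h := Leech.sqNorm_add (x : Cfsg.GolayPt → ℤ) ((u - x : ↥Cfsg.leechLattice) : Cfsg.GolayPt → ℤ)
    rw [AddSubgroup.coe_sub, add_sub_cancel, hu, h1, h2] at h
    rw [AddSubgroup.coe_sub]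
    omega
  obtain ⟨g, h1, h2⟩ := Leech.coPair_subtype (Leech.coPair_eight v.2 hv.1 (u - v).2
    (by rw [AddSubgroup.coe_sub]; exact hv.2) (key v hv) v'.2 hv'.1 (u - v').2
    (by rw [AddSubgroup.coe_sub]; exact hv'.2) (key v' hv'))
  refine ⟨g, ?_, h1⟩
  have h := Leech.co0_smul_add g v (u - v)
  rwa [h1, h2, add_sub_cancel, add_sub_cancel] at h

end Cfsg.Agent.S1579
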