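import Cfsg.Statements.S1580
import Cfsg.Agent.Lib.LeechCount.McLData
-- import your own Cfsg.Agent.* helpers here

set_option autoImplicit false
open Cfsg

namespace Cfsg.Agent.S1580

/-- The McLaughlin configuration: for u of customary norm 6 and v minimal with u − v minimal, there are 275 further such summands x of customary inner product 2 with v, permuted transitively by the stabiliser of u and v. -/
theorem result (u v : ↥Cfsg.leechLattice) (hu : Cfsg.sqNorm (u : Cfsg.GolayPt → ℤ) = 48) (hv : Cfsg.sqNorm (v : Cfsg.GolayPt → ℤ) = 32 ∧ Cfsg.sqNorm ((u - v) : Cfsg.GolayPt → ℤ) = 32) : {x : ↥Cfsg.leechLattice | Cfsg.sqNorm (x : Cfsg.GolayPt → ℤ) = 32 ∧ Cfsg.sqNorm ((u - x) : Cfsg.GolayPt → ℤ) = 32 ∧ Cfsg.dotInt (v : Cfsg.GolayPt → ℤ) (x : Cfsg.GolayPt → ℤ) = 16}.ncard = 275 ∧ ∀ x ∈ {x : ↥Cfsg.leechLattice | Cfsg.sqNorm (x : Cfsg.GolayPt → ℤ) = 32 ∧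 Cfsg.sqNorm ((u - x) : Cfsg.GolayPt → ℤ) = 32 ∧ Cfsg.dotInt (v : Cfsg.GolayPt → ℤ) (x : Cfsg.GolayPt → ℤ) = 16}, ∀ x' ∈ {x : ↥Cfsg.leechLattice | Cfsg.sqNorm (x : Cfsg.GolayPt → ℤ) = 32 ∧ Cfsg.sqNorm ((u - x) : Cfsg.GolayPt → ℤ) = 32 ∧ Cfsg.dotInt (v : Cfsg.GolayPt → ℤ) (x : Cfsg.GolayPt → ℤ) = 16}, ∃ g : ↥Cfsg.Co0, g • u = u ∧ g • v = v ∧ g • x = x' := by
  classical
  have hd : Cfsg.dotInt (u : Cfsg.GolayPt → ℤ) (v : Cfsg.GolayPt → ℤ) = 24 := by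
    have h := hv.2
    rw [Leech.sqNorm_sub, hu, hv.1] at h
    omega
  have hiff : ∀ x : ↥Cfsg.leechLattice, (Cfsg.sqNorm (x : Cfsg.GolayPt → ℤ) = 32 ∧
      Cfsg.sqNorm ((u - x) : Cfsg.GolayPt → ℤ) = 32 ∧ Cfsg.dotInt (v : Cfsg.GolayPt → ℤ) (x : Cfsg.GolayPt → ℤ) = 16) ↔
      (x : Cfsg.GolayPt → ℤ) ∈ LeechCount.twoFS u 24 v 16 := fun x => by
    rw [LeechCount.mem_twoFS, Leech.sqNorm_sub, hu]
    exact ⟨fun ⟨a, b, c⟩ => ⟨⟨x.2, a⟩, by omega, c⟩, fun ⟨⟨_, a⟩, b, c⟩ => ⟨a, by omega, c⟩⟩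
  constructor
  · obtain ⟨g, g1, g2⟩ : ∃ g : ↥Cfsg.Co0, Leech.ap g (u : Cfsg.GolayPt → ℤ) = Spor.vecV ∧
        Leech.ap g (v : Cfsg.GolayPt → ℤ) = LeechCount.vecOf LeechCount.vList := by
      obtain ⟨v1, v2, v3⟩ := LeechCount.v0_facts
      obtain ⟨g, g1, g2⟩ := Leech.coPair_eight v.2 hv.1 (sub_mem u.2 v.2) hv.2
        (by rw [Leech.dot_comm, LeechCount.dot_sub_left, hd, LeechCount.dot_self, hv.1]; norm_num)
        v1 v2 (sub_mem LeechCount.vecV_leech v1)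
        (by rw [Leech.sqNorm_sub, LeechCount.vecV_norm, v2, v3]; norm_num)
        (by rw [Leech.dot_comm, LeechCount.dot_sub_left, v3, LeechCount.dot_self, v2]; norm_num)
      refine ⟨g, ?_, g1⟩
      have := Leech.ap_add g v.2 (sub_mem u.2 v.2)
      rwa [add_sub_cancel, g1, g2, add_sub_cancel] at this
    rw [← LeechCount.card_canon_275, ← LeechCount.card_twoFS_coPair u.2 v.2 ⟨g, g1, g2⟩ 24 16,
      ← Set.ncard_image_of_injective _ Subtype.val_injective, ← Set.ncard_coe_finset]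
    congr 1
    ext x
    constructor
    · rintro ⟨y, hy, rfl⟩
      exact Finset.mem_coe.2 ((hiff y).1 hy)
    · intro hx
      exact ⟨⟨x, (LeechCount.mem_twoFS.1 (Finset.mem_coe.1 hx)).1.1⟩, (hiff _).2 (Finset.mem_coe.1 hx), rfl⟩
  · intro x hx x' hx'
    obtain ⟨g, g1, g2, g3⟩ := LeechCount.exists_canon u.2 hu v.2 hv.1 hd ((hiff x).1 hx)
    obtain ⟨h, h1, h2, h3⟩ := LeechCount.exists_canon u.2 hu v.2 hv.1 hd ((hiff x').1 hx')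
    refine ⟨h⁻¹ * g, ?_, ?_, ?_⟩ <;> apply Subtype.ext
    · rw [← Leech.ap_coe, Leech.ap_mul _ _ u.2, g1, ← h1, Leech.ap_inv_ap h u.2]
    · rw [← Leech.ap_coe, Leech.ap_mul _ _ v.2, g2, ← h2, Leech.ap_inv_ap h v.2]
    · rw [← Leech.ap_coe, Leech.ap_mul _ _ x.2, g3, ← h3, Leech.ap_inv_ap h x'.2]

end Cfsg.Agent.S1580
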