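import Cfsg.Statements.S1581
import Cfsg.Agent.Lib.LeechCount.McLData
-- import your own Cfsg.Agent.* helpers here

set_option autoImplicit false
open Cfsg

namespace Cfsg.Agent.S1581

/-- The McLaughlin group acts with rank 3 and subdegrees 1, 112, 162 on its 275 points: the point stabiliser has two orbits on the remaining points, distinguished by customary inner product 1 or 2 with the fixed point. -/
theorem result (u v x : ↥Cfsg.leechLattice) (hu : Cfsg.sqNorm (u : Cfsg.GolayPt → ℤ) = 48) (hv : Cfsg.sqNorm (v : Cfsg.GolayPt → ℤ) = 32 ∧ Cfsg.sqNorm ((u - v) : Cfsg.GolayPt → ℤ) = 32) (hx : x ∈ {x : ↥Cfsg.leechLattice | Cfsg.sqNorm (x : Cfsg.GolayPt → ℤ) = 32 ∧ Cfsg.sqNorm ((u - x) : Cfsg.GolayPt → ℤ) = 32 ∧ Cfsg.dotInt (v : Cfsg.GolayPt → ℤ) (x : Cfsg.GolayPt → ℤ) = 16}) : {y : ↥Cfsg.leechLattice | y ∈ {x : ↥Cfsg.leechLattice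 | Cfsg.sqNorm (x : Cfsg.GolayPt → ℤ) = 32 ∧ Cfsg.sqNorm ((u - x) : Cfsg.GolayPt → ℤ) = 32 ∧ Cfsg.dotInt (v : Cfsg.GolayPt → ℤ) (x : Cfsg.GolayPt → ℤ) = 16} ∧ Cfsg.dotInt (x : Cfsg.GolayPt → ℤ) (y : Cfsg.GolayPt → ℤ) = 8}.ncard = 112 ∧ {y : ↥Cfsg.leechLattice | y ∈ {x : ↥Cfsg.leechLattice | Cfsg.sqNorm (x : Cfsg.GolayPt → ℤ) = 32 ∧ Cfsg.sqNorm ((u - x) : Cfsg.GolayPt → ℤ) = 32 ∧ Cfsg.dotInt (v : Cfsg.GolayPt → ℤ) (x : Cfsg.GolayPt → ℤ) = 16} ∧ y ≠ x ∧ Cfsg.dotInt (x : Cfsg.GolayPt → ℤ) (y : Cfsg.GolayPt → ℤ) = 16}.ncard = 162 ∧ ∀ y ∈ {x : ↥Cfsg.leechLattice | Cfsg.sqNorm (x : Cfsg.GolayPt → ℤ) = 32 ∧ Cfsg.sqNorm ((u - x) : Cfsg.GolayPt → ℤ) = 32 ∧ Cfsg.dotInt (v : Cfsg.GolayPt → ℤ) (x : Cfsg.GolayPt → ℤ) = 16}, ∀ y' ∈ {x : ↥Cfsg.leechLattice | Cfsg.sqNorm (x : Cfsg.GolayPt → ℤ) = 32 ∧ Cfsg.sqNorm ((u - x) : Cfsg.GolayPt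 → ℤ) = 32 ∧ Cfsg.dotInt (v : Cfsg.GolayPt → ℤ) (x : Cfsg.GolayPt → ℤ) = 16}, y ≠ x → y' ≠ x → Cfsg.dotInt (x : Cfsg.GolayPt → ℤ) (y : Cfsg.GolayPt → ℤ) = Cfsg.dotInt (x : Cfsg.GolayPt → ℤ) (y' : Cfsg.GolayPt → ℤ) → ∃ g : ↥Cfsg.Co0, g • u = u ∧ g • v = v ∧ g • x = x ∧ g • y = y' := by
  classical
  have hd : Cfsg.dotInt (u : Cfsg.GolayPt → ℤ) (v : Cfsg.GolayPt → ℤ) = 24 := by
    have h := hv.2
    rw [Leech.sqNorm_sub, hu, hv.1] at h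
    omega
  have hiff : ∀ x : ↥Cfsg.leechLattice, (Cfsg.sqNorm (x : Cfsg.GolayPt → ℤ) = 32 ∧
      Cfsg.sqNorm ((u - x) : Cfsg.GolayPt → ℤ) = 32 ∧ Cfsg.dotInt (v : Cfsg.GolayPt → ℤ) (x : Cfsg.GolayPt → ℤ) = 16) ↔
      (x : Cfsg.GolayPt → ℤ) ∈ LeechCount.twoFS u 24 v 16 := fun x => by
    rw [LeechCount.mem_twoFS, Leech.sqNorm_sub, hu]
    exact ⟨fun ⟨a, b, c⟩ => ⟨⟨x.2, a⟩, by omega, c⟩, fun ⟨⟨_, a⟩, b, c⟩ => ⟨a, by omega, c⟩⟩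
  have hxF := (hiff x).1 hx
  have hcard : ∀ (c : ℤ) (P : ↥Cfsg.leechLattice → Prop), (∀ y : ↥Cfsg.leechLattice,
      (y : Cfsg.GolayPt → ℤ) ∈ LeechCount.twoFS u 24 v 16 →
      (P y ↔ Cfsg.dotInt (x : Cfsg.GolayPt → ℤ) (y : Cfsg.GolayPt → ℤ) = c)) →
      {y : ↥Cfsg.leechLattice | (y : Cfsg.GolayPt → ℤ) ∈ LeechCount.twoFS u 24 v 16 ∧ P y}.ncard =
        (LeechCount.list275.filter fun l => LeechCount.dotL LeechCount.xList l == c).length := by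
    intro c P hP
    rw [← LeechCount.card_edge u.2 hu v.2 hv.1 hd hxF c, ← Set.ncard_image_of_injective _ Subtype.val_injective,
      ← Set.ncard_coe_finset]
    congr 1
    ext z
    constructor
    · rintro ⟨y, ⟨h1, h2⟩, rfl⟩
      exact Finset.mem_coe.2 (Finset.mem_filter.2 ⟨h1, (hP y h1).1 h2⟩)
    · intro hz
      obtain ⟨h1, h2⟩ := Finset.mem_filter.1 (Finset.mem_coe.1 hz)
      exact ⟨⟨z, (LeechCount.mem_twoFS.1 h1).1.1⟩, ⟨h1, (hP ⟨z, _⟩ h1).2 h2⟩, rfl⟩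
  obtain ⟨-, -, -, h112, h162⟩ := LeechCount.mcl_counts
  refine ⟨?_, ?_, ?_⟩
  · rw [← h112, ← hcard 8 (fun y => Cfsg.dotInt (x : Cfsg.GolayPt → ℤ) (y : Cfsg.GolayPt → ℤ) = 8) fun _ _ => Iff.rfl]
    congr 1
    ext y
    exact and_congr_left' (hiff y)
  · rw [← h162, ← hcard 16 (fun y => y ≠ x ∧ Cfsg.dotInt (x : Cfsg.GolayPt → ℤ) (y : Cfsg.GolayPt → ℤ) = 16)
      fun y _ => ⟨fun h => h.2, fun h => ⟨fun e => by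
        rw [e, LeechCount.dot_self, hx.1] at h
        norm_num at h, h⟩⟩]
    congr 1
    ext y
    exact and_congr_left' (hiff y)
  · intro y hy y' hy' hne hne' heq
    obtain ⟨g, g1, g2, g3⟩ := LeechCount.exists_canon u.2 hu v.2 hv.1 hd hxF
    have mv : ∀ z : ↥Cfsg.leechLattice, (z : Cfsg.GolayPt → ℤ) ∈ LeechCount.twoFS u 24 v 16 → z ≠ x →
        Leech.ap g (z : Cfsg.GolayPt → ℤ) ∈ LeechCount.twoFS Spor.vecV 24 (LeechCount.vecOf LeechCount.vList) 16 ∧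
        Leech.ap g (z : Cfsg.GolayPt → ℤ) ≠ LeechCount.vecOf LeechCount.xList := fun z hz hzne => by
      obtain ⟨⟨h1, h2⟩, h3, h4⟩ := LeechCount.mem_twoFS.1 hz
      refine ⟨LeechCount.mem_twoFS.2 ⟨⟨Leech.ap_mem g h1, by rw [Leech.ap_norm g h1, h2]⟩,
        by rw [← g1, Leech.ap_dot g u.2 h1, h3], by rw [← g2, Leech.ap_dot g v.2 h1, h4]⟩, ?_⟩
      rw [← g3]
      exact fun e => hzne (Subtype.ext (Leech.ap_inj g h1 x.2 e))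
    obtain ⟨a1, a2⟩ := mv y ((hiff y).1 hy) hne
    obtain ⟨b1, b2⟩ := mv y' ((hiff y').1 hy') hne'
    obtain ⟨k, k1, k2, k3, k4⟩ := LeechCount.canon_edge_trans a1 b1 a2 b2
      (by rw [← g3, Leech.ap_dot g x.2 y.2, Leech.ap_dot g x.2 y'.2, heq])
    refine ⟨g⁻¹ * k * g, ?_, ?_, ?_, ?_⟩ <;> apply Subtype.ext
    · rw [← Leech.ap_coe, Leech.ap_mul _ _ u.2, g1, Leech.ap_mul _ _ LeechCount.vecV_leech, k1, ← g1,
        Leech.ap_inv_ap g u.2]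
    · rw [← Leech.ap_coe, Leech.ap_mul _ _ v.2, g2, Leech.ap_mul _ _ LeechCount.v0_facts.1, k2, ← g2,
        Leech.ap_inv_ap g v.2]
    · rw [← Leech.ap_coe, Leech.ap_mul _ _ x.2, g3,
        Leech.ap_mul _ _ (LeechCount.mem_twoFS.1 LeechCount.x0_mem).1.1, k3, ← g3, Leech.ap_inv_ap g x.2]
    · rw [← Leech.ap_coe, Leech.ap_mul _ _ y.2, Leech.ap_mul _ _ (Leech.ap_mem g y.2), k4,
        Leech.ap_inv_ap g y'.2]

end Cfsg.Agent.S1581
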