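import Cfsg.Statements.S1583
import Cfsg.Agent.Lib.LeechCount.Config
import Cfsg.Agent.Lib.Leech.UStab
-- import your own Cfsg.Agent.* helpers here

set_option autoImplicit false
open Cfsg

namespace Cfsg.Agent.S1583

/-- The Higman–Sims configuration: for two vectors of customary norm 6 with inner product −4, exactly 100 minimal vectors have customary inner products 3 and −3 with them, and the joint stabiliser permutes these transitively. -/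
theorem result (v w : ↥Cfsg.leechLattice) (hv : Cfsg.sqNorm (v : Cfsg.GolayPt → ℤ) = 48) (hw : Cfsg.sqNorm (w : Cfsg.GolayPt → ℤ) = 48) (hvw : Cfsg.dotInt (v : Cfsg.GolayPt → ℤ) (w : Cfsg.GolayPt → ℤ) = -32) : {x : ↥Cfsg.leechLattice | Cfsg.sqNorm (x : Cfsg.GolayPt → ℤ) = 32 ∧ Cfsg.dotInt (v : Cfsg.GolayPt → ℤ) (x : Cfsg.GolayPt → ℤ) = 24 ∧ Cfsg.dotInt (w : Cfsg.GolayPt → ℤ) (x : Cfsg.GolayPt → ℤ) = -24}.ncard = 100 ∧ ∀ x ∈ {x : ↥Cfsg.leechLattice | Cfsg.sqNorm (x : Cfsg.GolayPt → ℤ) = 32 ∧ Cfsg.dotInt (v : Cfsg.GolayPt → ℤ) (x : Cfsg.GolayPt → ℤ) = 24 ∧ Cfsg.dotInt (w : Cfsg.GolayPt → ℤ) (x : Cfsg.GolayPt → ℤ) = -24}, ∀ x' ∈ {x : ↥Cfsg.leechLattice | Cfsg.sqNorm (x : Cfsg.GolayPt → ℤ) = 32 ∧ Cfsg.dotInt (v : Cfsg.GolayPt → ℤ) (x : Cfsg.GolayPt → ℤ) = 24 ∧ Cfsg.dotInt (w : Cfsg.GolayPt → ℤ) (x : Cfsg.GolayPt → ℤ) = -24}, ∃ g : ↥Cfsg.Co0, g • v = v ∧ g • w = w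 ∧ g • x = x' := by
  classical
  have hX : Cfsg.sqNorm ((-(v + w) : ↥Cfsg.leechLattice) : Cfsg.GolayPt → ℤ) = 32 := by
    rw [AddSubgroup.coe_neg, AddSubgroup.coe_add, Leech.sqNorm_neg, Leech.sqNorm_add, hv, hw, hvw]; norm_num
  have hlin : ∀ x : Cfsg.GolayPt → ℤ, Cfsg.dotInt ((-(v + w) : ↥Cfsg.leechLattice) : Cfsg.GolayPt → ℤ) x =
      -(Cfsg.dotInt (v : Cfsg.GolayPt → ℤ) x + Cfsg.dotInt (w : Cfsg.GolayPt → ℤ) x) := fun x => by
    rw [AddSubgroup.coe_neg, AddSubgroup.coe_add, Leech.dot_neg_left, Leech.dot_add_left]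
  have hXv : Cfsg.dotInt ((-(v + w) : ↥Cfsg.leechLattice) : Cfsg.GolayPt → ℤ) (v : Cfsg.GolayPt → ℤ) = -16 := by
    rw [hlin, Leech.dot_comm (w : Cfsg.GolayPt → ℤ), hvw,
      show Cfsg.dotInt (v : Cfsg.GolayPt → ℤ) (v : Cfsg.GolayPt → ℤ) = 48 by
        rw [← hv]; simp [Cfsg.dotInt, Cfsg.sqNorm, pow_two]]
    norm_num
  constructor
  · rw [← LeechCount.hs_count v.2 hv (-(v + w)).2 hX hXv, ← LeechCount.ncard_twoSet]
    congr 1
    ext x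
    simp only [Set.mem_setOf_eq, hlin]
    constructor <;> rintro ⟨h1, h2, h3⟩ <;> exact ⟨h1, h2, by omega⟩
  · rintro x ⟨hx, hx24, hxw⟩ x' ⟨hx', hx24', hxw'⟩
    obtain ⟨g, g1, g2, g3⟩ := LeechCount.frame_triple (a := 1) (b := -5) (N := 48) (-(v + w)).2 hX x.2 hx
      (by rw [hlin]; omega) v.2 hv (hXv.trans (by norm_num)) (by rw [Leech.dot_comm, hx24]; norm_num) (-(v + w)).2 hX x'.2 hx'
      (by rw [hlin]; omega) v.2 hv (hXv.trans (by norm_num)) (by rw [Leech.dot_comm, hx24']; norm_num) (by decide) (by norm_num)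
    rw [Leech.ap_coe] at g1 g2 g3
    have hgX := Subtype.ext g1
    refine ⟨g, Subtype.ext g3, ?_, Subtype.ext g2⟩
    rw [Leech.co0_smul_neg, neg_inj, Leech.co0_smul_add, Subtype.ext g3] at hgX
    exact add_left_cancel hgX

end Cfsg.Agent.S1583
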