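import Cfsg.Statements.S1584
import Cfsg.Agent.Lib.LeechCount.HSData
import Cfsg.Agent.Lib.Leech.UStab
-- import your own Cfsg.Agent.* helpers here

set_option autoImplicit false
open Cfsg

namespace Cfsg.Agent.S1584

/-- The Higman–Sims group acts with rank 3 and subdegrees 1, 22, 77 on its 100 points, the orbits of a point stabiliser being distinguished by customary inner product 1 with the fixed point. -/
theorem result (v w x : ↥Cfsg.leechLattice) (hv : Cfsg.sqNorm (v : Cfsg.GolayPt → ℤ) = 48) (hw : Cfsg.sqNorm (w : Cfsg.GolayPt → ℤ) = 48) (hvw : Cfsg.dotInt (v : Cfsg.GolayPt → ℤ) (w : Cfsg.GolayPt → ℤ) = -32) (hx : x ∈ {x : ↥Cfsg.leechLattice | Cfsg.sqNorm (x : Cfsg.GolayPt → ℤ) = 32 ∧ Cfsg.dotInt (v : Cfsg.GolayPt → ℤ) (x : Cfsg.GolayPt → ℤ) = 24 ∧ Cfsg.dotInt (w : Cfsg.GolayPt → ℤ) (x : Cfsg.GolayPt → ℤ) = -24}) : {y : ↥Cfsg.leechLattice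 | y ∈ {x : ↥Cfsg.leechLattice | Cfsg.sqNorm (x : Cfsg.GolayPt → ℤ) = 32 ∧ Cfsg.dotInt (v : Cfsg.GolayPt → ℤ) (x : Cfsg.GolayPt → ℤ) = 24 ∧ Cfsg.dotInt (w : Cfsg.GolayPt → ℤ) (x : Cfsg.GolayPt → ℤ) = -24} ∧ Cfsg.dotInt (x : Cfsg.GolayPt → ℤ) (y : Cfsg.GolayPt → ℤ) = 8}.ncard = 22 ∧ {y : ↥Cfsg.leechLattice | y ∈ {x : ↥Cfsg.leechLattice | Cfsg.sqNorm (x : Cfsg.GolayPt → ℤ) = 32 ∧ Cfsg.dotInt (v : Cfsg.GolayPt → ℤ) (x : Cfsg.GolayPt → ℤ) = 24 ∧ Cfsg.dotInt (w : Cfsg.GolayPt → ℤ) (x : Cfsg.GolayPt → ℤ) = -24} ∧ y ≠ x ∧ Cfsg.dotInt (x : Cfsg.GolayPt → ℤ) (y : Cfsg.GolayPt → ℤ) ≠ 8}.ncard = 77 ∧ ∀ y ∈ {x : ↥Cfsg.leechLattice | Cfsg.sqNorm (x : Cfsg.GolayPt → ℤ) = 32 ∧ Cfsg.dotInt (v : Cfsg.GolayPt → ℤ) (x : Cfsg.GolayPt → ℤ) = 24 ∧ Cfsg.dotInt (w : Cfsg.GolayPt → ℤ) (x : Cfsg.GolayPt → ℤ) = -24}, ∀ y' ∈ {x : ↥Cfsg.leechLattice | Cfsg.sqNorm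 (x : Cfsg.GolayPt → ℤ) = 32 ∧ Cfsg.dotInt (v : Cfsg.GolayPt → ℤ) (x : Cfsg.GolayPt → ℤ) = 24 ∧ Cfsg.dotInt (w : Cfsg.GolayPt → ℤ) (x : Cfsg.GolayPt → ℤ) = -24}, y ≠ x → y' ≠ x → (Cfsg.dotInt (x : Cfsg.GolayPt → ℤ) (y : Cfsg.GolayPt → ℤ) = 8 ↔ Cfsg.dotInt (x : Cfsg.GolayPt → ℤ) (y' : Cfsg.GolayPt → ℤ) = 8) → ∃ g : ↥Cfsg.Co0, g • v = v ∧ g • w = w ∧ g • x = x ∧ g • y = y' := by
  classical
  have hX : Cfsg.sqNorm ((-(v + w) : ↥Cfsg.leechLattice) : Cfsg.GolayPt → ℤ) = 32 := by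
    rw [AddSubgroup.coe_neg, AddSubgroup.coe_add, Leech.sqNorm_neg, Leech.sqNorm_add, hv, hw, hvw]; norm_num
  have hlin : ∀ x : Cfsg.GolayPt → ℤ, Cfsg.dotInt ((-(v + w) : ↥Cfsg.leechLattice) : Cfsg.GolayPt → ℤ) x =
      -(Cfsg.dotInt (v : Cfsg.GolayPt → ℤ) x + Cfsg.dotInt (w : Cfsg.GolayPt → ℤ) x) := fun x => by
    rw [AddSubgroup.coe_neg, AddSubgroup.coe_add, Leech.dot_neg_left, Leech.dot_add_left]
  have hXv : Cfsg.dotInt ((-(v + w) : ↥Cfsg.leechLattice) : Cfsg.GolayPt → ℤ) (v : Cfsg.GolayPt → ℤ) = -16 := by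
    rw [hlin, Leech.dot_comm (w : Cfsg.GolayPt → ℤ), hvw, LeechCount.dot_self, hv]
    norm_num
  have hiff : ∀ y : ↥Cfsg.leechLattice, (Cfsg.sqNorm (y : Cfsg.GolayPt → ℤ) = 32 ∧
      Cfsg.dotInt (v : Cfsg.GolayPt → ℤ) (y : Cfsg.GolayPt → ℤ) = 24 ∧
      Cfsg.dotInt (w : Cfsg.GolayPt → ℤ) (y : Cfsg.GolayPt → ℤ) = -24) ↔
      (y : Cfsg.GolayPt → ℤ) ∈ LeechCount.hsFS v (-(v + w) : ↥Cfsg.leechLattice) := fun y => by
    rw [LeechCount.hsFS, LeechCount.mem_twoFS, hlin]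
    exact ⟨fun ⟨a, b, c⟩ => ⟨⟨y.2, a⟩, b, by omega⟩, fun ⟨⟨_, a⟩, b, c⟩ => ⟨a, b, by omega⟩⟩
  have hframe : ∀ y : ↥Cfsg.leechLattice, (y : Cfsg.GolayPt → ℤ) ∈ LeechCount.hsFS v (-(v + w) : ↥Cfsg.leechLattice) →
      LeechCount.HSFrame v (-(v + w) : ↥Cfsg.leechLattice) y := fun y hy => by
    obtain ⟨⟨h1, h2⟩, h3, h4⟩ := LeechCount.mem_twoFS.1 hy
    exact ⟨v.2, hv, (-(v + w)).2, hX, hXv, y.2, h2, h4, h3⟩
  have hz := hframe x ((hiff x).1 hx)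
  have hcard : ∀ (P : ↥Cfsg.leechLattice → Prop) (Q : ℤ → Prop) [DecidablePred Q] (B : ℤ → Bool),
      (∀ d, Q d ↔ B d = true) → (∀ y : ↥Cfsg.leechLattice,
        (y : Cfsg.GolayPt → ℤ) ∈ LeechCount.hsFS v (-(v + w) : ↥Cfsg.leechLattice) →
        (P y ↔ Q (Cfsg.dotInt (x : Cfsg.GolayPt → ℤ) (y : Cfsg.GolayPt → ℤ)))) →
      {y : ↥Cfsg.leechLattice | (y : Cfsg.GolayPt → ℤ) ∈ LeechCount.hsFS v (-(v + w) : ↥Cfsg.leechLattice) ∧ P y}.ncard =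
        (LeechCount.list100.filter fun l => B (LeechCount.dotL LeechCount.vList l)).length := by
    intro P Q _ B hQB hP
    rw [← hz.point_count Q B hQB, ← Set.ncard_image_of_injective _ Subtype.val_injective, ← Set.ncard_coe_finset]
    congr 1
    ext z
    constructor
    · rintro ⟨y, ⟨h1, h2⟩, rfl⟩
      exact Finset.mem_coe.2 (Finset.mem_filter.2 ⟨h1, (hP y h1).1 h2⟩)
    · intro h
      obtain ⟨h1, h2⟩ := Finset.mem_filter.1 (Finset.mem_coe.1 h)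
      exact ⟨⟨z, (LeechCount.mem_twoFS.1 h1).1.1⟩, ⟨h1, (hP ⟨z, _⟩ h1).2 h2⟩, rfl⟩
  obtain ⟨-, h22, h77, -⟩ := LeechCount.hs_split
  refine ⟨?_, ?_, ?_⟩
  · refine Eq.trans ?_ h22
    rw [← hcard (fun y => Cfsg.dotInt (x : Cfsg.GolayPt → ℤ) (y : Cfsg.GolayPt → ℤ) = 8) (fun d => d = 8)
      (fun d => d == 8) (fun d => beq_iff_eq.symm) (fun y _ => Iff.rfl)]
    congr 1
    ext y
    exact and_congr_left' (hiff y)
  · refine Eq.trans ?_ h77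
    rw [← hcard (fun y => y ≠ x ∧ Cfsg.dotInt (x : Cfsg.GolayPt → ℤ) (y : Cfsg.GolayPt → ℤ) ≠ 8)
      (fun d => d ≠ 8 ∧ d ≠ 32) (fun d => d != 8 && d != 32) (fun d => by simp) fun y hy => ?_]
    · congr 1
      ext y
      exact and_congr_left' (hiff y)
    · constructor
      · rintro ⟨hne, h8⟩
        refine ⟨h8, fun h32 => hne (Subtype.ext ?_)⟩
        have : Cfsg.sqNorm ((y : Cfsg.GolayPt → ℤ) - (x : Cfsg.GolayPt → ℤ)) = 0 := by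
          rw [Leech.sqNorm_sub, (hframe y hy).nz, hx.1, Leech.dot_comm, h32]; norm_num
        exact sub_eq_zero.1 (Leech.sqNorm_eq_zero.1 this)
      · rintro ⟨h8, h32⟩
        exact ⟨fun e => h32 (by rw [e, LeechCount.dot_self, hx.1]), h8⟩
  · intro y hy y' hy' hne hne' heq
    have hy2 := (hiff y).1 hy
    have hy2' := (hiff y').1 hy'
    have hnot : ∀ z : ↥Cfsg.leechLattice, (z : Cfsg.GolayPt → ℤ) ∈ LeechCount.hsFS v (-(v + w) : ↥Cfsg.leechLattice) →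
        z ≠ x → Cfsg.dotInt (x : Cfsg.GolayPt → ℤ) (z : Cfsg.GolayPt → ℤ) = 8 ∨
          Cfsg.dotInt (x : Cfsg.GolayPt → ℤ) (z : Cfsg.GolayPt → ℤ) = 16 := fun z hz2 hzne => by
      rcases hz.dot_point hz2 with h | h | h
      · exact Or.inl h
      · exact Or.inr h
      · have : Cfsg.sqNorm ((z : Cfsg.GolayPt → ℤ) - (x : Cfsg.GolayPt → ℤ)) = 0 := by
          rw [Leech.sqNorm_sub, (hframe z hz2).nz, hx.1, Leech.dot_comm, h]; norm_num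
        exact absurd (Subtype.ext (sub_eq_zero.1 (Leech.sqNorm_eq_zero.1 this))) hzne
    obtain ⟨c, hc, h1, h2⟩ : ∃ c : ℤ, (c = 8 ∨ c = 16) ∧
        Cfsg.dotInt (x : Cfsg.GolayPt → ℤ) (y : Cfsg.GolayPt → ℤ) = c ∧
        Cfsg.dotInt (x : Cfsg.GolayPt → ℤ) (y' : Cfsg.GolayPt → ℤ) = c := by
      rcases hnot y hy2 hne with h | h <;> rcases hnot y' hy2' hne' with h' | h'
      · exact ⟨8, Or.inl rfl, h, h'⟩
      · exact absurd (heq.1 h) (by omega)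
      · exact absurd (heq.2 h') (by omega)
      · exact ⟨16, Or.inr rfl, h, h'⟩
    obtain ⟨g, g1, g2, g3, g4⟩ := hz.trans_edge (hframe y hy2) (hframe y' hy2') hc h1 h2
    rw [Leech.ap_coe] at g1 g2 g3 g4
    refine ⟨g, Subtype.ext g1, ?_, Subtype.ext g3, Subtype.ext g4⟩
    have h3 : g • (-(v + w)) = -(v + w) := Subtype.ext g2
    rw [Leech.co0_smul_neg, neg_inj, Leech.co0_smul_add, Subtype.ext g1] at h3
    exact add_left_cancel h3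

end Cfsg.Agent.S1584
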