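import Cfsg.Statements.S1585
import Cfsg.Agent.Lib.Leech.PairsAll
import Cfsg.Agent.Lib.Leech.UStab
-- import your own Cfsg.Agent.* helpers here

set_option autoImplicit false
open Cfsg

namespace Cfsg.Agent.S1585

/-- Two vectors of customary norm 6 with inner product −4 are exchanged by some automorphism of the lattice. -/
theorem result (v w : ↥Cfsg.leechLattice) (hv : Cfsg.sqNorm (v : Cfsg.GolayPt → ℤ) = 48) (hw : Cfsg.sqNorm (w : Cfsg.GolayPt → ℤ) = 48) (hvw : Cfsg.dotInt (v : Cfsg.GolayPt → ℤ) (w : Cfsg.GolayPt → ℤ) = -32) : ∃ g : ↥Cfsg.Co0, g • v = w ∧ g • w = v := by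
  have hy : Cfsg.sqNorm ((-(v + w) : ↥Cfsg.leechLattice) : Cfsg.GolayPt → ℤ) = 32 := by
    rw [AddSubgroup.coe_neg, AddSubgroup.coe_add, Leech.sqNorm_neg, Leech.sqNorm_add, hv, hw, hvw]; norm_num
  have hd : ∀ a b : ↥Cfsg.leechLattice, Cfsg.sqNorm (a : Cfsg.GolayPt → ℤ) = 48 →
      Cfsg.dotInt (a : Cfsg.GolayPt → ℤ) (b : Cfsg.GolayPt → ℤ) = -32 →
      Cfsg.dotInt ((-(a + b) : ↥Cfsg.leechLattice) : Cfsg.GolayPt → ℤ) (a : Cfsg.GolayPt → ℤ) = -16 := by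
    intro a b ha hab
    rw [AddSubgroup.coe_neg, AddSubgroup.coe_add, Leech.dot_neg_left, Leech.dot_add_left, Leech.dot_comm (b : Cfsg.GolayPt → ℤ), hab,
      show Cfsg.dotInt (a : Cfsg.GolayPt → ℤ) (a : Cfsg.GolayPt → ℤ) = 48 by
        rw [← ha]; simp [Cfsg.dotInt, Cfsg.sqNorm, pow_two]]
    norm_num
  have hd' := hd w v hw (by rw [Leech.dot_comm]; exact hvw)
  rw [add_comm w v] at hd'
  obtain ⟨g, h1, h2⟩ := Leech.coPair_subtype (Leech.coPair_six (-(v + w)).2 hy v.2 hv (hd v w hv hvw)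
    (-(v + w)).2 hy w.2 hw hd')
  refine ⟨g, h2, ?_⟩
  rw [Leech.co0_smul_neg, neg_inj, Leech.co0_smul_add, h2, add_comm v w] at h1
  exact add_left_cancel h1

end Cfsg.Agent.S1585
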