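import Cfsg.Statements.S1588
import Cfsg.Agent.Lib.LeechCount.Abstract

set_option autoImplicit false
open Matrix
open Cfsg

namespace Cfsg.Agent.S1588

open Cfsg.Agent.LeechCount


/-- Second step of the characterisation: under the vector counts of the rank-24 lattice, the norm-8 vectors fall into congruence classes of exactly 48 modulo twice the lattice. -/
theorem result (B : Matrix (Fin 24) (Fin 24) ℤ) (hsymm : B.IsSymm) (hpos : ∀ x : Fin 24 → ℤ, x ≠ 0 → 0 < x ⬝ᵥ (B *ᵥ x)) (heven : ∀ x : Fin 24 → ℤ, (2 : ℤ) ∣ x ⬝ᵥ (B *ᵥ x)) (h2 : ∀ x : Fin 24 → ℤ, x ⬝ᵥ (B *ᵥ x) ≠ 2) (h4 : {x : Fin 24 → ℤ | x ⬝ᵥ (B *ᵥ x) = 4}.ncard = 196560) (h6 : {x : Fin 24 → ℤ | x ⬝ᵥ (B *ᵥ x) = 6}.ncard = 16773120) (h8 : {x : Fin 24 → ℤ | x ⬝ᵥ (B *ᵥ x) = 8}.ncard = 398034000) (x : Fin 24 → ℤ) (hx : x ⬝ᵥ (B *ᵥ x) = 8) : {y : Fin 24 → ℤ | y ⬝ᵥ (B *ᵥ y) = 8 ∧ ∀ i, (2 : ℤ) ∣ (x - y) i}.ncard = 48 := by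
  classical
  let Q : (Fin 24 → ℤ) → ℤ := fun v => bil B v v
  let cl : (Fin 24 → ℤ) → (Fin 24 → ZMod 2) := fun v i => (v i : ZMod 2)
  have hcl : ∀ u v, cl u = cl v ↔ ∀ i, (2 : ℤ) ∣ (u - v) i := by
    intro u v
    constructor
    · intro h i
      exact (ZMod.intCast_eq_intCast_iff_dvd_sub (v i) (u i) 2).1 (congrFun h i).symm
    · intro h
      funext i
      exact ((ZMod.intCast_eq_intCast_iff_dvd_sub (v i) (u i) 2).2 (h i)).symm
  have hct : ∀ {u v}, Q u ≤ 8 → Q v ≤ 8 → cl u = cl v →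
      v = u ∨ v = -u ∨ (Q u = 8 ∧ Q v = 8 ∧ bil B u v = 0) := fun hu hv h =>
    cong_two hsymm hpos heven h2 hu hv ((hcl _ _).1 h)
  have f4 : {v : Fin 24 → ℤ | Q v = 4}.Finite := Set.finite_of_ncard_ne_zero (by rw [show {v : Fin 24 → ℤ | Q v = 4}.ncard = 196560 from h4]; norm_num)
  have f6 : {v : Fin 24 → ℤ | Q v = 6}.Finite := Set.finite_of_ncard_ne_zero (by rw [show {v : Fin 24 → ℤ | Q v = 6}.ncard = 16773120 from h6]; norm_num)
  have f8 : {v : Fin 24 → ℤ | Q v = 8}.Finite := Set.finite_of_ncard_ne_zero (by rw [show {v : Fin 24 → ℤ | Q v = 8}.ncard = 398034000 from h8]; norm_num)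
  let S4 := f4.toFinset
  let S6 := f6.toFinset
  let S8 := f8.toFinset
  have c4 : S4.card = 196560 := by rw [← Set.ncard_eq_toFinset_card _ f4]; exact h4
  have c6 : S6.card = 16773120 := by rw [← Set.ncard_eq_toFinset_card _ f6]; exact h6
  have c8 : S8.card = 398034000 := by rw [← Set.ncard_eq_toFinset_card _ f8]; exact h8
  have pair : ∀ (S : Finset (Fin 24 → ℤ)) (N : ℤ), N < 8 → (∀ v, v ∈ S ↔ Q v = N) →
      S.card ≤ 2 * (S.image cl).card := by
    intro S N hN hS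
    refine Finset.card_le_mul_card_image S 2 fun a ha => ?_
    obtain ⟨u, hu, rfl⟩ := Finset.mem_image.1 ha
    refine le_trans (Finset.card_le_card (t := {u, -u}) fun w hw => ?_) Finset.card_le_two
    obtain ⟨hw, he⟩ := Finset.mem_filter.1 hw
    have qu := (hS u).1 hu
    have qw := (hS w).1 hw
    rcases hct (u := u) (v := w) (by omega) (by omega) he.symm with h | h | h
    · simp [h]
    · simp [h]
    · omega
  have e4 := pair S4 4 (by norm_num) (fun v => f4.mem_toFinset)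
  have e6 := pair S6 6 (by norm_num) (fun v => f6.mem_toFinset)
  have fib : ∀ a ∈ S8.image cl, (S8.filter fun w => cl w = a).card ≤ 48 := by
    intro a _
    refine card_orth_le (B := B) (c := 8) (by norm_num) _
      (fun v hv => f8.mem_toFinset.1 (Finset.mem_filter.1 hv).1) fun u hu v hv => ?_
    obtain ⟨hu, eu⟩ := Finset.mem_filter.1 hu
    obtain ⟨hv, ev⟩ := Finset.mem_filter.1 hv
    rcases hct (le_of_eq (f8.mem_toFinset.1 hu)) (le_of_eq (f8.mem_toFinset.1 hv)) (eu.trans ev.symm) with h | h | h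
    exacts [Or.inl h, Or.inr (Or.inl h), Or.inr (Or.inr h.2.2)]
  have e8 : S8.card ≤ 48 * (S8.image cl).card := Finset.card_le_mul_card_image S8 48 fib
  have qz : Q 0 = 0 := by simp [Q, bil]
  have q4 : ∀ {v}, v ∈ S4 → Q v = 4 := fun h => f4.mem_toFinset.1 h
  have q6 : ∀ {v}, v ∈ S6 → Q v = 6 := fun h => f6.mem_toFinset.1 h
  have q8 : ∀ {v}, v ∈ S8 → Q v = 8 := fun h => f8.mem_toFinset.1 h
  have disj : ∀ (S T : Finset (Fin 24 → ℤ)) (N N' : ℤ), (∀ v ∈ S, Q v = N) → (∀ v ∈ T, Q v = N') →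
      N ≠ N' → N ≤ 8 → N' ≤ 8 → Disjoint (S.image cl) (T.image cl) := by
    intro S T N N' hS hT hne hN hN'
    rw [Finset.disjoint_left]
    intro a ha hb
    obtain ⟨u, hu, rfl⟩ := Finset.mem_image.1 ha
    obtain ⟨v, hv, he⟩ := Finset.mem_image.1 hb
    have qu := hS u hu
    have qv := hT v hv
    rcases hct (u := u) (v := v) (by omega) (by omega) he.symm with h | h | h
    · rw [h] at qv; omega
    · have : Q (-u) = Q u := by simp [Q, bil, Matrix.mulVec_neg]
      rw [h, this] at qv; omega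
    · omega
  have s0 : ∀ v ∈ ({0} : Finset (Fin 24 → ℤ)), Q v = 0 := by simp [qz]
  have htot : (({0} : Finset (Fin 24 → ℤ)).image cl ∪ S4.image cl ∪ (S6.image cl ∪ S8.image cl)).card ≤ 2 ^ 24 := by
    refine le_trans (Finset.card_le_univ _) (le_of_eq ?_)
    rw [Fintype.card_pi]; simp [ZMod.card]
  rw [Finset.card_union_of_disjoint ?_, Finset.card_union_of_disjoint
      (disj _ _ 0 4 s0 (fun v hv => q4 hv) (by norm_num) (by norm_num) (by norm_num)),
    Finset.card_union_of_disjoint (disj _ _ 6 8 (fun v hv => q6 hv) (fun v hv => q8 hv) (by norm_num) (by norm_num) le_rfl),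
    Finset.image_singleton, Finset.card_singleton] at htot
  swap
  · rw [Finset.disjoint_union_left, Finset.disjoint_union_right, Finset.disjoint_union_right]
    exact ⟨⟨disj _ _ 0 6 s0 (fun v hv => q6 hv) (by norm_num) (by norm_num) (by norm_num),
      disj _ _ 0 8 s0 (fun v hv => q8 hv) (by norm_num) (by norm_num) le_rfl⟩,
      ⟨disj _ _ 4 6 (fun v hv => q4 hv) (fun v hv => q6 hv) (by norm_num) (by norm_num) (by norm_num),
      disj _ _ 4 8 (fun v hv => q4 hv) (fun v hv => q8 hv) (by norm_num) (by norm_num) le_rfl⟩⟩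
  have k8 : (S8.image cl).card = 8292375 := by norm_num at htot; omega
  have hsum := Finset.card_eq_sum_card_image cl S8
  have hxS : x ∈ S8 := f8.mem_toFinset.2 hx
  have hfull : (S8.filter fun w => cl w = cl x).card = 48 := by
    by_contra hne
    have hlt := lt_of_le_of_ne (fib _ (Finset.mem_image_of_mem cl hxS)) hne
    have : ∑ a ∈ S8.image cl, (S8.filter fun w => cl w = a).card < ∑ _a ∈ S8.image cl, 48 :=
      Finset.sum_lt_sum fib ⟨_, Finset.mem_image_of_mem cl hxS, hlt⟩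
    rw [← hsum, Finset.sum_const, smul_eq_mul, k8, c8] at this
    omega
  rw [← hfull, ← Set.ncard_coe_finset]
  congr 1
  ext v
  simp only [Finset.coe_filter, Set.mem_setOf_eq, S8, Set.Finite.mem_toFinset]
  exact ⟨fun h => ⟨h.1, ((hcl x v).2 h.2).symm⟩, fun h => ⟨h.1, (hcl x v).1 h.2.symm⟩⟩

end Cfsg.Agent.S1588
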