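import Cfsg.Statements.S1590
import Cfsg.Agent.Lib.Steiner.Ternary

set_option autoImplicit false
open Cfsg

namespace Cfsg.Agent.S1590

open Cfsg.Agent.Steiner Cfsg.Agent.Steiner.Ternary

theorem enc_weights : ∀ a : Fin 6 → ZMod 3, a = 0 ∨ (ternarySupport (enc a)).card = 6 ∨
    (ternarySupport (enc a)).card = 9 ∨ (ternarySupport (enc a)).card = 12 := by decide +kernel

theorem enc_counts : (Finset.univ.filter fun a : Fin 6 → ZMod 3 => (ternarySupport (enc a)).card = 6).card = 264 ∧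
    (Finset.univ.filter fun a : Fin 6 → ZMod 3 => (ternarySupport (enc a)).card = 9).card = 440 ∧
    (Finset.univ.filter fun a : Fin 6 → ZMod 3 => (ternarySupport (enc a)).card = 12).card = 24 := by decide +kernel

/-- The length-12 ternary code has 729 words with weight distribution 0^1 6^264 9^440 12^24. -/
theorem result : Nat.card ↥Cfsg.ternaryGolayCode = 729 ∧ (∀ x ∈ Cfsg.ternaryGolayCode, x ≠ 0 → (Cfsg.ternarySupport x).card = 6 ∨ (Cfsg.ternarySupport x).card = 9 ∨ (Cfsg.ternarySupport x).card = 12) ∧ {x : Cfsg.ArrayPt → ZMod 3 | x ∈ Cfsg.ternaryGolayCode ∧ (Cfsg.ternarySupport x).card = 6}.ncard = 264 ∧ {x : Cfsg.ArrayPt → ZMod 3 | x ∈ Cfsg.ternaryGolayCode ∧ (Cfsg.ternarySupport x).card = 9}.ncard = 440 ∧ {x : Cfsg.ArrayPt → ZMod 3 | x ∈ Cfsg.ternaryGolayCode ∧ (Cfsg.ternarySupport x).card = 12}.ncard = 24 := by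
  obtain ⟨h6, h9, h12⟩ := enc_counts
  refine ⟨?_, fun x hx hx0 => ?_, by rw [setOf_eq]; exact h6, by rw [setOf_eq]; exact h9, by rw [setOf_eq]; exact h12⟩
  · have e : (fun a : Fin 6 → ZMod 3 => (⟨enc a, enc_mem a⟩ : Cfsg.ternaryGolayCode)).Bijective :=
      ⟨fun a b h => enc_injective (congrArg Subtype.val h), fun ⟨x, hx⟩ => by
        obtain ⟨a, ha⟩ := mem_iff.1 hx; exact ⟨a, Subtype.ext ha.symm⟩⟩
    rw [← Nat.card_congr (Equiv.ofBijective _ e), Nat.card_eq_fintype_card, Fintype.card_fun, Fintype.card_fin, ZMod.card]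
    norm_num
  · obtain ⟨a, rfl⟩ := mem_iff.1 hx
    rcases enc_weights a with h | h
    · exact absurd (by subst h; funext q; simp [enc]) hx0
    · exact h

end Cfsg.Agent.S1590
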