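import Cfsg.Statements.S1591
import Cfsg.Agent.Lib.Steiner.Ternary

set_option autoImplicit false
open Cfsg

namespace Cfsg.Agent.S1591

open Cfsg.Agent.Steiner Cfsg.Agent.Steiner.Ternary

theorem gen_dot : ∀ i j : Fin 6, ∑ q : ArrayPt, gen i (ix q) * gen j (ix q) = 0 := by decide +kernel

/-- Any two words of the length-12 ternary code have dot product zero. -/
theorem result (x y : Cfsg.ArrayPt → ZMod 3) (hx : x ∈ Cfsg.ternaryGolayCode) (hy : y ∈ Cfsg.ternaryGolayCode) : ∑ p, x p * y p = 0 := by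
  obtain ⟨a, rfl⟩ := mem_iff.1 hx
  obtain ⟨b, rfl⟩ := mem_iff.1 hy
  simp only [enc, Finset.sum_mul_sum]
  rw [Finset.sum_comm]
  refine Finset.sum_eq_zero fun i _ => ?_
  rw [Finset.sum_comm]
  refine Finset.sum_eq_zero fun j _ => ?_
  simp only [mul_mul_mul_comm (a i) (gen i _) (b j) (gen j _), ← Finset.mul_sum, gen_dot, mul_zero]

end Cfsg.Agent.S1591
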