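import Cfsg.Statements.S1592
import Cfsg.Agent.Lib.Steiner.Ternary
import Cfsg.Agent.Lib.Steiner.Counting

set_option autoImplicit false
open Cfsg

namespace Cfsg.Agent.S1592

open Cfsg.Agent.Steiner Cfsg.Agent.Steiner.Ternary

/-- The supports of the weight-6 words of the length-12 ternary code form a Steiner system S(5, 6, 12) with 132 blocks. -/
theorem result : Cfsg.IsSteinerSystem 5 6 {h : Finset Cfsg.ArrayPt | ∃ x ∈ Cfsg.ternaryGolayCode, Cfsg.ternarySupport x = h ∧ h.card = 6} ∧ {h : Finset Cfsg.ArrayPt | ∃ x ∈ Cfsg.ternaryGolayCode, Cfsg.ternarySupport x = h ∧ h.card = 6}.ncard = 132 := by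
  have hS := Search.steiner_image (Search.isSteiner_sysOf hexMasks_ok) ix.symm
  rw [← hexadSet_eq] at hS
  refine ⟨hS, ?_⟩
  classical
  show hexadSet.ncard = 132
  rw [ncard_eq_card]
  have h := card_through hS (v := 12) (by rfl) (s := (∅ : Finset Cfsg.ArrayPt)) 0 132 rfl (by omega) (by decide) (by decide +kernel)
  rwa [Finset.filter_true_of_mem fun b _ => Finset.empty_subset b] at h

end Cfsg.Agent.S1592
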