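import Cfsg.Statements.S1593
import Cfsg.Agent.Lib.Steiner.Ternary

set_option autoImplicit false
open Cfsg

namespace Cfsg.Agent.S1593

open Cfsg.Agent.Steiner Cfsg.Agent.Steiner.Ternary

theorem gen_pairs : ∀ (j : Fin 6) (a : Fin 6 → ZMod 3),
    ternarySupport (enc a) = ternarySupport (fun q => gen j (ix q)) →
      (∀ q, enc a q = gen j (ix q)) ∨ ∀ q, enc a q = -gen j (ix q) := by decide +kernel

theorem linked : ∀ p : ArrayPt, ∃ j : Fin 6, gen j (ix p) ≠ 0 ∧
    (gen j (ix (1, 0)) ≠ 0 ∨ ∃ (r : ArrayPt) (i : Fin 6), gen j (ix r) ≠ 0 ∧ gen i (ix r) ≠ 0 ∧ gen i (ix (1, 0)) ≠ 0) := by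
  decide +kernel

/-- The only sign changes preserving the length-12 ternary code are the identity and negation of all coordinates. -/
theorem result (c : Cfsg.ArrayPt → (ZMod 3)ˣ) (h : (∀ x ∈ Cfsg.ternaryGolayCode, Cfsg.monomialMap 1 c x ∈ Cfsg.ternaryGolayCode)) : (∀ p, c p = 1) ∨ (∀ p, c p = -1) := by
  have key : ∀ (j : Fin 6) (p q : Cfsg.ArrayPt), gen j (ix p) ≠ 0 → gen j (ix q) ≠ 0 → c p = c q := by
    intro j p q hp hq
    obtain ⟨a, ha⟩ := mem_iff.1 (h _ (gen_mem j))
    have hval : ∀ r, enc a r = (c r : ZMod 3) * gen j (ix r) := fun r => (congrFun ha r).symm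
    have hs : ternarySupport (enc a) = ternarySupport (fun r => gen j (ix r)) := by
      ext r
      simp only [Cfsg.ternarySupport, Finset.mem_filter, Finset.mem_univ, true_and, hval]
      exact ⟨fun e e' => e (by rw [e', mul_zero]), fun e => mul_ne_zero (c r).ne_zero e⟩
    rcases gen_pairs j a hs with e | e
    · have one : ∀ r, gen j (ix r) ≠ 0 → c r = 1 := fun r hr => Units.ext (mul_right_cancel₀ hr
        (((hval r).symm.trans (e r)).trans (one_mul _).symm))
      rw [one p hp, one q hq]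
    · have one : ∀ r, gen j (ix r) ≠ 0 → c r = -1 := fun r hr => Units.ext (mul_right_cancel₀ hr
        (((hval r).symm.trans (e r)).trans (by simp)))
      rw [one p hp, one q hq]
  have hconst : ∀ p, c p = c (1, 0) := by
    intro p
    obtain ⟨j, hp, h1 | ⟨r, i, hr, hr', h1⟩⟩ := linked p
    · exact key j p _ hp h1
    · exact (key j p r hp hr).trans (key i r _ hr' h1)
  have hu : ∀ u : (ZMod 3)ˣ, u = 1 ∨ u = -1 := by decide
  rcases hu (c (1, 0)) with e | e
  · exact Or.inl fun p => (hconst p).trans e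
  · exact Or.inr fun p => (hconst p).trans e

end Cfsg.Agent.S1593
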