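import Cfsg.Statements.S1594
import Cfsg.Agent.Lib.Steiner.Ternary
import Cfsg.Agent.Lib.Steiner.SmallAut
import Cfsg.Agent.S1593

set_option autoImplicit false
open Cfsg

namespace Cfsg.Agent.S1594

open Cfsg.Agent.Steiner Cfsg.Agent.Steiner.Ternary

/-- Fifty signed permutations: forward map, inverse map, negated positions. -/
def elems : List (ℕ × ℕ × ℕ) :=
  [(205163983024656, 205163983024656, 0), (114875801285121, 114875801285121, 0), (171143312191746, 186601419583521, 0), (203987229090051, 200838984500001, 2764), (149235455697156, 167656838677281, 1940), (188533650432261, 188465698652961, 3428), (203028566319366, 203798352446241, 2514), (111366534013191, 95138016215841, 3102), (98289112523016, 129331828900641, 1224), (134738834825481, 151774303765281, 3746), (77607836262666, 106195122340641, 2824), (163099914215691, 8479751947041, 430), (205163983024656, 205163983024656, 0), (148896472117536, 148896472117536, 0), (183040958800176, 118230153958176, 2764), (117199865061696, 134787001041696, 1940),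 (167587380142416, 148135453475616, 3428), (95969627808096, 113630368056096, 2514), (186389881889136, 100781785563936, 3102), (128339622961536, 164384360514336, 1224), (82852190560656, 184818442388256, 3746), (199520902390176, 195118630322976, 2824), (148040433476016, 27948870026016, 430), (205163983024656, 205163983024656, 0), (167926364906256, 167926364906256, 2764), (135818296632336, 184072505803536, 1940), (201938729903376, 203992259183376, 3428), (152511949514256, 169717554103056, 2514), (92816805144336, 97264529457936, 3102), (165301675304976, 111817503752976, 1224), (185219212847376, 135422825480976, 3746), (115772311677456, 143646984323856, 2824), (76520923278096, 42435747726096, 430), (205163983024656, 205163983024656, 0), (147865428247056, 147865428247056, 0), (186605193351696, 171139535290896, 0), (199605510955536, 202694063505936, 6), (116911320035856, 99399427965456, 4090), (96304787325456, 129277051159056, 4092), (128266436579856, 115692283773456, 6), (82916315210256, 179793663050256, 4092),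 (167424912765456, 61273455280656, 4090), (205163983024656, 205163983024656, 0), (132399770186256, 132399770186256, 0), (183942805598736, 153208536773136, 6), (80841396400656, 95285065495056, 4090), (110731096240656, 164327252963856, 4092), (153208536773136, 183942805598736, 6), (164327252963856, 110731096240656, 4092), (95285065495056, 80841396400656, 4090)]

/-- A packed map of the twelve positions. -/
def app4 (p : ℕ) (i : Fin 12) : Fin 12 := ⟨(p / 16 ^ i.val % 16) % 12, Nat.mod_lt _ (by norm_num)⟩

/-- Packed inverse maps. -/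
def invOk (e : ℕ × ℕ × ℕ) : Prop := ∀ i, app4 e.2.1 (app4 e.1 i) = i ∧ app4 e.1 (app4 e.2.1 i) = i

theorem elems_inv : ∀ e ∈ elems, invOk e := by
  unfold invOk; decide +kernel

theorem elems_code : ∀ e ∈ elems, ∀ (j : Fin 6) (k : Fin 12),
    chk (fun q => (if e.2.2.testBit (ix q).val then -1 else 1) * gen j (app4 e.2.1 (ix q))) k = 0 := by
  decide +kernel

theorem elems_reach : ∀ (k : Fin 5) (y : Fin 12), k.val ≤ y.val →
    ∃ e ∈ elems, app4 e.1 ⟨k.val, by omega⟩ = y ∧ ∀ i : Fin 12, i.val < k.val → app4 e.1 i = i := by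
  decide +kernel

theorem mem_of_chk {x : ArrayPt → ZMod 3} (hx : ∀ k, chk x k = 0) : x ∈ Cfsg.ternaryGolayCode := by
  refine mem_iff.2 ⟨fun j => x (ix.symm (free j)), funext fun q => ?_⟩
  have h0 : rebuildErr x q = 0 := by
    rw [pi_eq_sum_univ x, map_sum]
    simp only [map_smul, Finset.sum_apply, Pi.smul_apply, rebuildErr_single, smul_zero, Finset.sum_const_zero]
  have h1 : x q - enc (fun j => x (ix.symm (free j))) q - ∑ k, coef (ix q) k * chk x k = 0 := h0
  simpa [hx, sub_eq_zero] using h1

/-- Preserving the code. -/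
def Keeps (σ : Equiv.Perm ArrayPt) (c : ArrayPt → (ZMod 3)ˣ) : Prop :=
  ∀ x ∈ Cfsg.ternaryGolayCode, Cfsg.monomialMap σ c x ∈ Cfsg.ternaryGolayCode

theorem keeps_one : Keeps 1 1 := fun x hx => by
  have e : Cfsg.monomialMap 1 1 x = x := funext fun q => by simp [Cfsg.monomialMap, Equiv.Perm.one_def]
  rwa [e]

theorem keeps_mul {σ τ : Equiv.Perm ArrayPt} {c d : ArrayPt → (ZMod 3)ˣ} (h : Keeps σ c) (h' : Keeps τ d) :
    Keeps (σ * τ) (fun i => c i * d (σ.symm i)) := fun x hx => by
  have e : Cfsg.monomialMap (σ * τ) (fun i => c i * d (σ.symm i)) x = Cfsg.monomialMap σ c (Cfsg.monomialMap τ d x) :=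
    funext fun q => by
      show ((c q * d (σ.symm q) : (ZMod 3)ˣ) : ZMod 3) * x (τ.symm (σ.symm q)) =
        (c q : ZMod 3) * ((d (σ.symm q) : ZMod 3) * x (τ.symm (σ.symm q)))
      rw [Units.val_mul, mul_assoc]
  rw [e]
  exact h _ (h' x hx)

theorem keeps_hexads {σ : Equiv.Perm ArrayPt} {c : ArrayPt → (ZMod 3)ˣ} (h : Keeps σ c) :
    σ ∈ Cfsg.setSystemAut hexadSet := by
  rw [Search.mem_setSystemAut_iff]
  refine Set.eq_of_subset_of_ncard_le ?_
    (Set.ncard_image_of_injective _ (Finset.image_injective σ.injective)).ge (Set.toFinite _)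
  rintro _ ⟨b, ⟨x, hx, rfl, hc⟩, rfl⟩
  refine ⟨_, h x hx, ?_, ?_⟩
  · ext q
    simp only [Cfsg.ternarySupport, Cfsg.monomialMap, Finset.mem_filter_univ, Finset.mem_image, mul_ne_zero_iff,
      (c q).ne_zero, ne_eq, not_false_eq_true, true_and]
    exact ⟨fun hq => ⟨σ.symm q, hq, σ.apply_symm_apply q⟩, fun ⟨p, hp, e⟩ => by rwa [← e, Equiv.symm_apply_apply]⟩
  · rw [Finset.card_image_of_injective _ σ.injective, hc]

theorem elem_keeps {e : ℕ × ℕ × ℕ} (he : e ∈ elems) : ∃ σ : Equiv.Perm ArrayPt,
    (∀ q, σ q = ix.symm (app4 e.1 (ix q))) ∧ ∃ c, Keeps σ c := by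
  have hi := elems_inv e he
  refine ⟨⟨fun q => ix.symm (app4 e.1 (ix q)), fun q => ix.symm (app4 e.2.1 (ix q)),
    fun q => by simp [(hi (ix q)).1], fun q => by simp [(hi (ix q)).2]⟩, fun q => rfl,
    fun q => if e.2.2.testBit (ix q).val then -1 else 1, fun x hx => ?_⟩
  obtain ⟨a, rfl⟩ := mem_iff.1 hx
  have hb : ∀ j : Fin 6, (fun q => (if e.2.2.testBit (ix q).val then -1 else 1 : ZMod 3) * gen j (app4 e.2.1 (ix q)))
      ∈ Cfsg.ternaryGolayCode := fun j => mem_of_chk (elems_code e he j)
  have hsum := Submodule.sum_mem Cfsg.ternaryGolayCode (t := Finset.univ) fun j _ => Submodule.smul_mem _ (a j) (hb j)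
  convert hsum using 1
  funext q
  simp only [Cfsg.monomialMap, enc, Equiv.coe_fn_symm_mk, Equiv.apply_symm_apply, Finset.sum_apply, Pi.smul_apply,
    smul_eq_mul, Finset.mul_sum]
  refine Finset.sum_congr rfl fun j _ => ?_
  split <;> simp

theorem aut_lifts {σ : Equiv.Perm ArrayPt} (hσ : σ ∈ Cfsg.setSystemAut hexadSet) : ∃ c, Keeps σ c := by
  suffices H : ∀ k, k ≤ 5 → ∃ τ : Equiv.Perm ArrayPt, (∃ c, Keeps τ c) ∧
      ∀ i : Fin 12, i.val < k → τ (ix.symm i) = σ (ix.symm i) by
    obtain ⟨τ, ⟨c, hc⟩, hag⟩ := H 5 le_rfl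
    suffices e : τ = σ by exact ⟨c, e ▸ hc⟩
    obtain ⟨f, hf⟩ := Search.exists_std12_iso (α := ArrayPt) (by rfl) (B := hexadSet)
      (by rw [hexadSet_eq]; exact Search.steiner_image (Search.isSteiner_sysOf hexMasks_ok) ix.symm)
    obtain ⟨-, -, hfree⟩ := Search.aut12
    let z : setSystemAut hexadSet := ⟨τ⁻¹ * σ, mul_mem (inv_mem (keeps_hexads hc)) hσ⟩
    have h1 : autCongr f hf z ∈ MulAction.stabilizer (setSystemAut (Search.sysOf 12 Search.std12))
        (((Fin.castLEEmb (by norm_num : 5 ≤ 12)).trans ix.symm.toEmbedding).trans f.toEmbedding) :=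
      Function.Embedding.ext fun i => (autCongr_apply f hf z _).trans (congrArg f (by
        show τ.symm (σ (ix.symm _)) = ix.symm _
        rw [Equiv.symm_apply_eq]
        exact (hag _ i.isLt).symm))
    rw [hfree, Subgroup.mem_bot, EmbeddingLike.map_eq_one_iff] at h1
    exact inv_mul_eq_one.1 (congrArg Subtype.val h1)
  intro k hk
  induction k with
  | zero => exact ⟨1, ⟨1, keeps_one⟩, fun i hi => absurd hi (Nat.not_lt_zero _)⟩
  | succ k ih =>
    obtain ⟨τ, ⟨c, hc⟩, hag⟩ := ih (by omega)
    let y := ix (τ.symm (σ (ix.symm ⟨k, by omega⟩)))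
    have hy : k ≤ y.val := by
      by_contra hlt
      have h1 := hag y (by omega)
      simp only [y, Equiv.symm_apply_apply, Equiv.apply_symm_apply] at h1
      have h2 := congrArg (fun q => (ix q).val) (σ.injective h1)
      simp only [Equiv.apply_symm_apply] at h2
      simp only [y] at hlt
      omega
    obtain ⟨e, he, hek, hefix⟩ := elems_reach ⟨k, by omega⟩ y hy
    obtain ⟨ρ, hρ, d, hd⟩ := elem_keeps he
    refine ⟨τ * ρ, ⟨_, keeps_mul hc hd⟩, fun i hi => ?_⟩
    show τ (ρ (ix.symm i)) = _
    rw [hρ, Equiv.apply_symm_apply]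
    rcases Nat.lt_succ_iff_lt_or_eq.1 hi with h | h
    · rw [hefix i h]; exact hag i h
    · rw [show i = ⟨k, by omega⟩ from Fin.ext h, hek]
      simp [y]

/-- The monomial automorphism group of the length-12 ternary code has order 190080 and its permutation parts are exactly the automorphisms of its hexad system. -/
theorem result : Nat.card {f : Equiv.Perm Cfsg.ArrayPt × (Cfsg.ArrayPt → (ZMod 3)ˣ) // (∀ x ∈ Cfsg.ternaryGolayCode, Cfsg.monomialMap f.1 f.2 x ∈ Cfsg.ternaryGolayCode)} = 190080 ∧ {σ : Equiv.Perm Cfsg.ArrayPt | ∃ c : Cfsg.ArrayPt → (ZMod 3)ˣ, (∀ x ∈ Cfsg.ternaryGolayCode, Cfsg.monomialMap σ c x ∈ Cfsg.ternaryGolayCode)} = (Cfsg.setSystemAut {h : Finset Cfsg.ArrayPt | ∃ x ∈ Cfsg.ternaryGolayCode, Cfsg.ternarySupport x = h ∧ h.card = 6} : Set (Equiv.Perm Cfsg.ArrayPt)) := by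
  have hS : {σ : Equiv.Perm Cfsg.ArrayPt | ∃ c, Keeps σ c} = ↑(Cfsg.setSystemAut hexadSet) :=
    Set.Subset.antisymm (fun σ ⟨c, hc⟩ => keeps_hexads hc) fun σ hσ => aut_lifts hσ
  refine ⟨?_, hS⟩
  choose C hC using fun σ : Cfsg.setSystemAut hexadSet => aut_lifts σ.2
  have hneg : ∀ {σ : Equiv.Perm Cfsg.ArrayPt} {c : Cfsg.ArrayPt → (ZMod 3)ˣ}, Keeps σ c → Keeps σ (-c) :=
    fun {σ c} h x hx => by
      have e : Cfsg.monomialMap σ (-c) x = -Cfsg.monomialMap σ c x := funext fun q => by simp [Cfsg.monomialMap]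
      rw [e]; exact Submodule.neg_mem _ (h x hx)
  let F : Cfsg.setSystemAut hexadSet × Bool → {f : Equiv.Perm Cfsg.ArrayPt × (Cfsg.ArrayPt → (ZMod 3)ˣ) // Keeps f.1 f.2} :=
    fun p => ⟨(p.1.1, if p.2 then C p.1 else -C p.1), by
      dsimp only; split
      · exact hC p.1
      · exact hneg (hC p.1)⟩
  have hF : Function.Bijective F := by
    constructor
    · intro ⟨σ, b⟩ ⟨τ, b'⟩ h
      obtain ⟨e1, e2⟩ := Prod.ext_iff.1 (congrArg Subtype.val h)
      obtain rfl : σ = τ := Subtype.ext e1
      have hne : C σ ≠ -C σ := fun e => by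
        have h1 := congrFun e (0, 0)
        rcases (by decide : ∀ u : (ZMod 3)ˣ, u = 1 ∨ u = -1) (C σ (0, 0)) with e' | e' <;>
          rw [Pi.neg_apply, e'] at h1 <;> exact absurd h1 (by decide)
      cases b <;> cases b' <;> first
        | rfl
        | exact absurd e2 hne
        | exact absurd e2.symm hne
    · rintro ⟨⟨σ, c⟩, hc⟩
      let s : Cfsg.setSystemAut hexadSet := ⟨σ, keeps_hexads hc⟩
      -- the composite with the inverse map is diagonal
      have hdiag : ∀ x ∈ Cfsg.ternaryGolayCode, Cfsg.monomialMap 1 (fun i => c i * (C s i)⁻¹) x ∈ Cfsg.ternaryGolayCode := by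
        intro x hx
        obtain ⟨z, hz⟩ : ∃ z : Cfsg.ternaryGolayCode, Cfsg.monomialMap σ (C s) z.1 = x := by
          let M : Cfsg.ternaryGolayCode → Cfsg.ternaryGolayCode := fun z => ⟨_, hC s z.1 z.2⟩
          have hM : Function.Surjective M := Finite.injective_iff_surjective.1 fun z z' e => Subtype.ext (funext fun q => by
            have := congrFun (congrArg Subtype.val e) (σ q)
            simp only [M, Cfsg.monomialMap, Equiv.symm_apply_apply] at this
            exact mul_left_cancel₀ (C s (σ q)).ne_zero (by simpa [s] using this))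
          obtain ⟨z, hz⟩ := hM ⟨x, hx⟩
          exact ⟨z, congrArg Subtype.val hz⟩
        rw [← hz]
        have e : Cfsg.monomialMap 1 (fun i => c i * (C s i)⁻¹) (Cfsg.monomialMap σ (C s) z.1) = Cfsg.monomialMap σ c z.1 :=
          funext fun q => by
            show ((c q * (C s q)⁻¹ : (ZMod 3)ˣ) : ZMod 3) * (((C s q : (ZMod 3)ˣ) : ZMod 3) * z.1 (σ.symm q)) = _
            rw [← mul_assoc, ← Units.val_mul, inv_mul_cancel_right]
            rfl
        rw [e]
        exact hc z.1 z.2
      rcases S1593.result _ hdiag with h | h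
      · exact ⟨(s, true), Subtype.ext (Prod.ext rfl (funext fun q => (mul_inv_eq_one.1 (h q)).symm))⟩
      · refine ⟨(s, false), Subtype.ext (Prod.ext rfl (funext fun q => ?_))⟩
        show -C s q = c q
        rw [mul_inv_eq_iff_eq_mul.1 (h q), neg_one_mul]
  show Nat.card {f : Equiv.Perm Cfsg.ArrayPt × (Cfsg.ArrayPt → (ZMod 3)ˣ) // Keeps f.1 f.2} = 190080
  obtain ⟨f, hf⟩ := Search.exists_std12_iso (α := Cfsg.ArrayPt) (by rfl) (B := hexadSet)
    (by rw [hexadSet_eq]; exact Search.steiner_image (Search.isSteiner_sysOf hexMasks_ok) ix.symm)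
  obtain ⟨⟨u⟩, -, -⟩ := Search.aut12
  rw [← Nat.card_congr (Equiv.ofBijective F hF), Nat.card_prod, Nat.card_congr ((autCongr f hf).trans u).toEquiv,
    Golay24.card_M12, Nat.card_eq_fintype_card, Fintype.card_bool]

end Cfsg.Agent.S1594
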