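import Cfsg.Statements.S1595
import Cfsg.Agent.Lib.Steiner.Counting
import Mathlib.Combinatorics.SimpleGraph.StronglyRegular

set_option autoImplicit false
open Cfsg

namespace Cfsg.Agent.S1595

open Cfsg.Agent.Steiner


/-- Leech triangle of S(5, 6, 12): blocks meet in 0, 2, 3 or 4 points, and a block is met exactly in a given 2-, 3- or 4-subset by 3, 2, 3 blocks respectively. -/
theorem result {α : Type*} [Fintype α] [DecidableEq α] (hα : Fintype.card α = 12) {B : Set (Finset α)} (hB : Cfsg.IsSteinerSystem 5 6 B) (b : Finset α) (hb : b ∈ B) : (∀ c ∈ B, c ≠ b → (b ∩ c).card = 0 ∨ (b ∩ c).card = 2 ∨ (b ∩ c).card = 3 ∨ (b ∩ c).card = 4) ∧ ∀ s ⊆ b, (s.card = 2 → {c : Finset α | c ∈ B ∧ b ∩ c = s}.ncard = 3) ∧ (s.card = 3 → {c : Finset α | c ∈ B ∧ b ∩ c = s}.ncard = 2) ∧ (s.card = 4 → {c : Finset α | c ∈ B ∧ b ∩ c = s}.ncard = 3) := by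
  classical
  have hm : ∀ s, s ⊆ b → {c : Finset α | c ∈ B ∧ b ∩ c = s}.ncard = g12 s.card + if s = b then 1 else 0 := by
    intro s hs
    rw [ncard_filter_eq fun c => b ∩ c = s, ← meet12 hB hα hb s hs, meet]
    by_cases h : s = b
    · subst h
      rw [if_pos rfl]
      have hmem : s ∈ (blocks B).filter fun c => s ∩ c = s := by simp [hb]
      rw [← Finset.card_erase_add_one hmem]
      congr 2
      ext c; simp only [Finset.mem_filter, Finset.mem_erase]; tauto
    · rw [if_neg h, Nat.add_zero]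
      congr 1
      ext c
      simp only [Finset.mem_filter]
      refine ⟨fun hc => ⟨hc.1, ?_, hc.2⟩, fun hc => ⟨hc.1, hc.2.2⟩⟩
      rintro rfl
      exact h (hc.2.symm.trans (Finset.inter_self _))
  refine ⟨fun c hc hne => ?_, fun s hs => ⟨fun e => ?_, fun e => ?_, fun e => ?_⟩⟩
  · have h := meet_pos hc (Ne.symm hne)
    rw [meet12 hB hα hb _ Finset.inter_subset_left] at h
    generalize (b ∩ c).card = m at h ⊢
    match m, h with
    | 0, _ => omega
    | 1, h => exact absurd h (by decide)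
    | 2, _ => omega
    | 3, _ => omega
    | 4, _ => omega
    | n + 5, h => exact absurd h (by simp [g12])
  all_goals
    rw [hm s hs, if_neg (fun hh : s = b => by rw [hh, hB.1 b hb] at e; omega), e]
    rfl

end Cfsg.Agent.S1595
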