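import Cfsg.Statements.S1600
import Cfsg.Agent.Lib.Golay.Carry
import Cfsg.Agent.Lib.Golay.StepsC
import Cfsg.Agent.Lib.Golay.Conj

set_option autoImplicit false
open scoped Pointwise
open Cfsg

namespace Cfsg.Agent.S1600

open scoped Pointwise
open Cfsg.Agent.Golay24

attribute [local irreducible] weightList codeList combTo

/-- The pointwise stabiliser of three points of a dodecad inside the dodecad stabiliser (order 72) is transitive on the complementary dodecad. -/
theorem result (d : Finset Cfsg.GolayPt) (hd : d ∈ Cfsg.dodecads) (p q r : Cfsg.GolayPt) (hp : p ∈ d) (hq : q ∈ d) (hr : r ∈ d) (hpq : p ≠ q) (hpr : p ≠ r) (hqr : q ≠ r) : Nat.card ↥(MulAction.stabilizer Cfsg.M24 d ⊓ MulAction.stabilizer Cfsg.M24 p ⊓ MulAction.stabilizer Cfsg.M24 q ⊓ MulAction.stabilizer Cfsg.M24 r) = 72 ∧ ∀ x ∉ d, ∀ y ∉ d, ∃ g ∈ (MulAction.stabilizer Cfsg.M24 d ⊓ MulAction.stabilizer Cfsg.M24 p ⊓ MulAction.stabilizer Cfsg.M24 q ⊓ MulAction.stabilizer Cfsg.M24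 r), ((g : ↥Cfsg.M24) : Equiv.Perm Cfsg.GolayPt) x = y := by
  obtain ⟨σ₀, hσ₀⟩ := carries_dodecad hd
  have hc : ∀ (σ : Equiv.Perm GolayPt) (R : List ℕ) (ss : List (Finset GolayPt)), Carries σ R ss →
      ∀ ks : List ℕ, ks.length = R.length → ∀ x : GolayPt,
        ss.map (fun t => (t ∩ {x}).card) = ks →
        maskOf (σ⁻¹ • ({x} : Finset GolayPt)) ∈ cutList (combList 1) (R.zip ks) := fun σ R ss h ks hl x hx =>
    (mem_cutList_carries h hl).2 ⟨inv_smul_mem_combList_iff.2 (Finset.card_singleton x), hx⟩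
  obtain ⟨σ₁, hσ₁⟩ := dodP.extend (fam := cutList (combList 1) ([sqDod].zip [1])) (by decide +kernel)
    hσ₀ (s := {p}) (hc _ _ _ hσ₀ [1] (by rfl) p (by simp [hp]))
  obtain ⟨σ₂, hσ₂⟩ := dodPQ.extend (fam := cutList (combList 1) ([sqDod, 1].zip [1, 0])) (by decide +kernel)
    hσ₁ (s := {q}) (hc _ _ _ hσ₁ [1, 0] (by rfl) q (by simp [hq, hpq.symm]))
  obtain ⟨σ₃, hσ₃⟩ := dodPQR.extend (fam := cutList (combList 1) ([sqDod, 1, 2].zip [1, 0, 0]))
    (by decide +kernel) hσ₂ (s := {r}) (hc _ _ _ hσ₂ [1, 0, 0] (by rfl) r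
      (by simp [hr, hpr.symm, hqr.symm]))
  refine ⟨?_, fun x hx y hy => ?_⟩
  · have h12 : Nat.card ↥(MulAction.stabilizer M24 d) = 12 * 7920 := by
      obtain ⟨e⟩ := stab_dodecad_equiv d hd
      rw [Nat.card_congr e.toEquiv, card_M12]
    have hdk : ∀ (g : M24), g ∈ MulAction.stabilizer M24 d → ∀ z ∈ d, g • z ∈ d := by
      intro g hg z hz
      have := Finset.smul_mem_smul_finset (a := g) hz
      rwa [show g • d = d from hg] at this
    have hfix : ∀ (g : M24) (z : GolayPt), (g : Equiv.Perm GolayPt) • ({z} : Finset GolayPt) = {z} →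
        g ∈ MulAction.stabilizer M24 z := fun g z h => apply_eq_of_smul_single h
    have h1 : Nat.card ↥(MulAction.stabilizer M24 d ⊓ MulAction.stabilizer M24 p) = 11 * 720 := by
      refine card_inf_stabilizer (S := (d : Set GolayPt)) _ p hp hdk (fun y hy => ?_)
        (by rw [Set.ncard_coe_finset, hd.2]) h12 (by norm_num)
      obtain ⟨g, hg, hf, he⟩ := dodP.exists_map (fam := cutList (combList 1) ([sqDod].zip [1]))
        (by decide +kernel) hσ₀ (x := {p}) (y := {y}) (hc _ _ _ hσ₀ [1] (by rfl) p (by simp [hp]))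
        (hc _ _ _ hσ₀ [1] (by rfl) y (by simp [Finset.mem_coe.1 hy]))
      exact ⟨⟨g, hg⟩, hf d (by simp), apply_eq_of_smul_single he⟩
    have h2 : Nat.card ↥(MulAction.stabilizer M24 d ⊓ MulAction.stabilizer M24 p ⊓
        MulAction.stabilizer M24 q) = 10 * 72 := by
      refine card_inf_stabilizer (S := ((d.erase p : Finset GolayPt) : Set GolayPt)) _ q
        (by simp [hq, hpq.symm]) (fun g hg z hz => ?_) (fun y hy => ?_)
        (by rw [Set.ncard_coe_finset, Finset.card_erase_of_mem hp, hd.2]) h1 (by norm_num)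
      · simp only [Finset.coe_erase, Set.mem_sdiff, Finset.mem_coe, Set.mem_singleton_iff] at hz ⊢
        refine ⟨hdk g hg.1 z hz.1, fun e => hz.2 ?_⟩
        exact MulAction.injective g (e.trans hg.2.symm)
      · simp only [Finset.coe_erase, Set.mem_sdiff, Finset.mem_coe, Set.mem_singleton_iff] at hy
        obtain ⟨g, hg, hf, he⟩ := dodPQ.exists_map (fam := cutList (combList 1) ([sqDod, 1].zip [1, 0]))
          (by decide +kernel) hσ₁ (x := {q}) (y := {y})
          (hc _ _ _ hσ₁ [1, 0] (by rfl) q (by simp [hq, hpq.symm]))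
          (hc _ _ _ hσ₁ [1, 0] (by rfl) y (by simp [hy.1, hy.2]))
        exact ⟨⟨g, hg⟩, ⟨hf d (by simp), hfix _ _ (hf {p} (by simp))⟩, apply_eq_of_smul_single he⟩
    refine card_inf_stabilizer (S := (((d.erase p).erase q : Finset GolayPt) : Set GolayPt)) _ r
      (by simp [hr, hpr.symm, hqr.symm]) (fun g hg z hz => ?_) (fun y hy => ?_)
      (by rw [Set.ncard_coe_finset, Finset.card_erase_of_mem (by simp [hq, hpq.symm]),
        Finset.card_erase_of_mem hp, hd.2]) h2 (by norm_num)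
    · simp only [Finset.coe_erase, Set.mem_sdiff, Finset.mem_coe, Set.mem_singleton_iff] at hz ⊢
      refine ⟨⟨hdk g hg.1.1 z hz.1.1, fun e => hz.1.2 ?_⟩, fun e => hz.2 ?_⟩
      · exact MulAction.injective g (e.trans hg.1.2.symm)
      · exact MulAction.injective g (e.trans hg.2.symm)
    · simp only [Finset.coe_erase, Set.mem_sdiff, Finset.mem_coe, Set.mem_singleton_iff] at hy
      obtain ⟨g, hg, hf, he⟩ := dodPQR.exists_map
        (fam := cutList (combList 1) ([sqDod, 1, 2].zip [1, 0, 0]))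
        (by decide +kernel) hσ₂ (x := {r}) (y := {y})
        (hc _ _ _ hσ₂ [1, 0, 0] (by rfl) r (by simp [hr, hpr.symm, hqr.symm]))
        (hc _ _ _ hσ₂ [1, 0, 0] (by rfl) y (by simp [hy.1.1, hy.1.2, hy.2]))
      exact ⟨⟨g, hg⟩, ⟨⟨hf d (by simp), hfix _ _ (hf {p} (by simp))⟩, hfix _ _ (hf {q} (by simp))⟩,
        apply_eq_of_smul_single he⟩
  · have hne : ∀ z, z ∉ d → z ≠ p ∧ z ≠ q ∧ z ≠ r := fun z hz =>
      ⟨fun e => hz (e ▸ hp), fun e => hz (e ▸ hq), fun e => hz (e ▸ hr)⟩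
    obtain ⟨g, hg, hf, he⟩ := dodPQROut.exists_map
      (fam := cutList (combList 1) ([sqDod, 1, 2, 4].zip [0, 0, 0, 0]))
      (by decide +kernel) hσ₃ (x := {x}) (y := {y})
      (hc _ _ _ hσ₃ [0, 0, 0, 0] (by rfl) x (by simp [hx, hne x hx]))
      (hc _ _ _ hσ₃ [0, 0, 0, 0] (by rfl) y (by simp [hy, hne y hy]))
    exact ⟨⟨g, hg⟩, ⟨⟨⟨hf d (by simp), apply_eq_of_smul_single (hf {p} (by simp))⟩,
      apply_eq_of_smul_single (hf {q} (by simp))⟩, apply_eq_of_smul_single (hf {r} (by simp))⟩,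
      apply_eq_of_smul_single he⟩

end Cfsg.Agent.S1600
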