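import Cfsg.Statements.S1604
import Cfsg.Agent.Lib.Golay.Carry
import Cfsg.Agent.Lib.Golay.StepsB

set_option autoImplicit false
open scoped Pointwise
open Cfsg

namespace Cfsg.Agent.S1604

open scoped Pointwise
open Cfsg.Agent.Golay24

attribute [local irreducible] weightList codeList combTo

/-- A hexad stabiliser in the two-point stabiliser has orbits of sizes 1, 16, 60 on the 77 hexads: the 16 hexads disjoint from it and the 60 meeting it in two points. -/
theorem result (p q : Cfsg.GolayPt) (hpq : p ≠ q) (o o' o'' : Finset Cfsg.GolayPt) (ho : o ∈ Cfsg.octads) (ho' : o' ∈ Cfsg.octads) (ho'' : o'' ∈ Cfsg.octads) (hp : p ∈ o ∧ p ∈ o' ∧ p ∈ o'') (hq : q ∈ o ∧ q ∈ o' ∧ q ∈ o'') (h : (o ∩ o').card = (o ∩ o'').card) : {x : Finset Cfsg.GolayPt | x ∈ Cfsg.octads ∧ p ∈ x ∧ q ∈ x ∧ (o ∩ x).card = 2}.ncard = 16 ∧ {x : Finset Cfsg.GolayPt | x ∈ Cfsg.octads ∧ p ∈ x ∧ q ∈ x ∧ (o ∩ x).card = 4}.ncard = 60 ∧ ∃ g : Equiv.Perm Cfsg.GolayPt, g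 ∈ Cfsg.M24 ∧ g p = p ∧ g q = q ∧ g • o = o ∧ g • o' = o'' := by
  obtain ⟨σ₀, hσ₀⟩ := carries_two_points hpq
  obtain ⟨σ, hσ⟩ := pqOct.extend (fam := cutList (weightList 8) ([8388608, 1].zip [1, 1]))
    (by decide +kernel) hσ₀ (s := o) ((mem_cutList_carries hσ₀ (by rfl)).2
      ⟨(inv_smul_mem_octads_iff hσ₀.1 _).2 ho, by simp [hp.1, hq.1]⟩)
  have hmem : ∀ k x, maskOf (σ⁻¹ • x) ∈
      cutList (weightList 8) ([8388608, 1, m24Octad].zip [1, 1, k]) ↔
      x ∈ octads ∧ p ∈ x ∧ q ∈ x ∧ (o ∩ x).card = k := by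
    intro k x
    rw [mem_cutList_carries (R := [8388608, 1, m24Octad]) (ss := [{p}, {q}, o]) hσ (by rfl),
      inv_smul_mem_octads_iff hσ.1]
    simp [single_inter_card]
  refine ⟨?_, ?_, ?_⟩
  · rw [ncard_of_pullback (σ := σ) (cutList (weightList 8) ([8388608, 1, m24Octad].zip [1, 1, 2]))
      (cutList_nodup (weightList_nodup 8) _) (cutList_lt (fun _ => weightList_lt) _) fun s => (hmem 2 s).symm]
    decide +kernel
  · rw [ncard_of_pullback (σ := σ) (cutList (weightList 8) ([8388608, 1, m24Octad].zip [1, 1, 4]))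
      (cutList_nodup (weightList_nodup 8) _) (cutList_lt (fun _ => weightList_lt) _) fun s => (hmem 4 s).symm]
    decide +kernel
  have key : ∀ {c : StepCert} {k : ℕ},
      c.ok ([8388608, 1] ++ [pqOct.root])
        (cutList (weightList 8) ([8388608, 1, m24Octad].zip [1, 1, k])) = true →
      (o ∩ o').card = k →
      ∃ g : Equiv.Perm GolayPt, g ∈ M24 ∧ g p = p ∧ g q = q ∧ g • o = o ∧ g • o' = o'' := by
    intro c k hc hk
    obtain ⟨g, hg, hf, he⟩ := c.exists_map hc hσ ((hmem k o').2 ⟨ho', hp.2.1, hq.2.1, hk⟩)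
      ((hmem k o'').2 ⟨ho'', hp.2.2, hq.2.2, h ▸ hk⟩)
    exact ⟨g, hg, apply_eq_of_smul_single (hf {p} (by simp)),
      apply_eq_of_smul_single (hf {q} (by simp)), hf o (by simp), he⟩
  rcases card_octad_inter_cases ho ho' with hk | hk | hk | hk
  · exfalso
    have : p ∈ o ∩ o' := Finset.mem_inter.2 ⟨hp.1, hp.2.1⟩
    rw [Finset.card_eq_zero.1 hk] at this
    simp at this
  · exact key (c := pqOctOct2) (by decide +kernel) hk
  · exact key (c := pqOctOct4) (by decide +kernel) hk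
  · subst hk
    have := octad_unique ho ho'' (by rw [← h, Finset.inter_self, ho.2]; norm_num)
    exact ⟨1, M24.one_mem, rfl, rfl, one_smul _ _, by rw [one_smul]; exact this⟩

end Cfsg.Agent.S1604
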