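import Cfsg.Statements.S1605
import Cfsg.Agent.Lib.Golay.Carry
import Cfsg.Agent.Lib.Golay.StepsB

set_option autoImplicit false
open scoped Pointwise
open Cfsg

namespace Cfsg.Agent.S1605

open scoped Pointwise
open Cfsg.Agent.Golay24

attribute [local irreducible] weightList codeList combTo

/-- The two-point stabiliser acts on the 176 octads through the first point avoiding the second with rank 3 and subdegrees 1, 70, 105 (intersections 8, 2, 4). -/
theorem result (p q : Cfsg.GolayPt) (hpq : p ≠ q) : {x : Finset Cfsg.GolayPt | (x ∈ Cfsg.octads ∧ p ∈ x ∧ q ∉ x)}.ncard = 176 ∧ (∀ o o' : Finset Cfsg.GolayPt, (o ∈ Cfsg.octads ∧ p ∈ o ∧ q ∉ o) → (o' ∈ Cfsg.octads ∧ p ∈ o' ∧ q ∉ o') → ∃ g : Equiv.Perm Cfsg.GolayPt, g ∈ Cfsg.M24 ∧ g p = p ∧ g q = q ∧ g • o = o') ∧ ∀ o : Finset Cfsg.GolayPt, (o ∈ Cfsg.octads ∧ p ∈ o ∧ q ∉ o) → {x : Finset Cfsg.GolayPt | (x ∈ Cfsg.octads ∧ p ∈ x ∧ q ∉ x) ∧ (o ∩ x).card = 2}.ncard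 = 70 ∧ {x : Finset Cfsg.GolayPt | (x ∈ Cfsg.octads ∧ p ∈ x ∧ q ∉ x) ∧ (o ∩ x).card = 4}.ncard = 105 ∧ ∀ o' o'' : Finset Cfsg.GolayPt, (o' ∈ Cfsg.octads ∧ p ∈ o' ∧ q ∉ o') → (o'' ∈ Cfsg.octads ∧ p ∈ o'' ∧ q ∉ o'') → (o ∩ o').card = (o ∩ o'').card → ∃ g : Equiv.Perm Cfsg.GolayPt, g ∈ Cfsg.M24 ∧ g p = p ∧ g q = q ∧ g • o = o ∧ g • o' = o'' := by
  obtain ⟨σ₀, hσ₀⟩ := carries_two_points hpq
  have hmem₀ : ∀ x, maskOf (σ₀⁻¹ • x) ∈ cutList (weightList 8) ([8388608, 1].zip [1, 0]) ↔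
      (x ∈ octads ∧ p ∈ x ∧ q ∉ x) := by
    intro x
    rw [mem_cutList_carries hσ₀ (by rfl), inv_smul_mem_octads_iff hσ₀.1]
    simp [single_inter_card]
  have hc₀ : pnqOct.ok [8388608, 1] (cutList (weightList 8) ([8388608, 1].zip [1, 0])) = true := by
    decide +kernel
  refine ⟨?_, fun o o' ho ho' => ?_, fun o ho => ?_⟩
  · rw [ncard_of_pullback (σ := σ₀) (cutList (weightList 8) ([8388608, 1].zip [1, 0]))
      (cutList_nodup (weightList_nodup 8) _) (cutList_lt (fun _ => weightList_lt) _) fun s => (hmem₀ s).symm]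
    decide +kernel
  · obtain ⟨g, hg, hf, he⟩ := pnqOct.exists_map hc₀ hσ₀ ((hmem₀ o).2 ho) ((hmem₀ o').2 ho')
    exact ⟨g, hg, apply_eq_of_smul_single (hf {p} (by simp)),
      apply_eq_of_smul_single (hf {q} (by simp)), he⟩
  obtain ⟨σ, hσ⟩ := pnqOct.extend hc₀ hσ₀ (s := o) ((hmem₀ o).2 ho)
  have hmem : ∀ k x, maskOf (σ⁻¹ • x) ∈
      cutList (weightList 8) ([8388608, 1, pnqOct.root].zip [1, 0, k]) ↔
      (x ∈ octads ∧ p ∈ x ∧ q ∉ x) ∧ (o ∩ x).card = k := by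
    intro k x
    rw [mem_cutList_carries (R := [8388608, 1, pnqOct.root]) (ss := [{p}, {q}, o]) hσ (by rfl),
      inv_smul_mem_octads_iff hσ.1]
    simp [single_inter_card, and_assoc]
  refine ⟨?_, ?_, fun o' o'' ho' ho'' h => ?_⟩
  · rw [ncard_of_pullback (σ := σ) (cutList (weightList 8) ([8388608, 1, pnqOct.root].zip [1, 0, 2]))
      (cutList_nodup (weightList_nodup 8) _) (cutList_lt (fun _ => weightList_lt) _) fun s => (hmem 2 s).symm]
    decide +kernel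
  · rw [ncard_of_pullback (σ := σ) (cutList (weightList 8) ([8388608, 1, pnqOct.root].zip [1, 0, 4]))
      (cutList_nodup (weightList_nodup 8) _) (cutList_lt (fun _ => weightList_lt) _) fun s => (hmem 4 s).symm]
    decide +kernel
  have key : ∀ {c : StepCert} {k : ℕ},
      c.ok ([8388608, 1] ++ [pnqOct.root])
        (cutList (weightList 8) ([8388608, 1, pnqOct.root].zip [1, 0, k])) = true →
      (o ∩ o').card = k →
      ∃ g : Equiv.Perm GolayPt, g ∈ M24 ∧ g p = p ∧ g q = q ∧ g • o = o ∧ g • o' = o'' := by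
    intro c k hc hk
    obtain ⟨g, hg, hf, he⟩ := c.exists_map hc hσ ((hmem k o').2 ⟨ho', hk⟩)
      ((hmem k o'').2 ⟨ho'', h ▸ hk⟩)
    exact ⟨g, hg, apply_eq_of_smul_single (hf {p} (by simp)),
      apply_eq_of_smul_single (hf {q} (by simp)), hf o (by simp), he⟩
  rcases card_octad_inter_cases ho.1 ho'.1 with hk | hk | hk | hk
  · exfalso
    have : p ∈ o ∩ o' := Finset.mem_inter.2 ⟨ho.2.1, ho'.2.1⟩
    rw [Finset.card_eq_zero.1 hk] at this
    simp at this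
  · exact key (c := pnqOctOct2) (by decide +kernel) hk
  · exact key (c := pnqOctOct4) (by decide +kernel) hk
  · subst hk
    have := octad_unique ho.1 ho''.1 (by rw [← h, Finset.inter_self, ho.1.2]; norm_num)
    exact ⟨1, M24.one_mem, rfl, rfl, one_smul _ _, by rw [one_smul]; exact this⟩

end Cfsg.Agent.S1605
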