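import Cfsg.Statements.S1608
import Cfsg.Agent.Lib.Golay.Carry
import Cfsg.Agent.Lib.Golay.StepsB

set_option autoImplicit false
open scoped Pointwise
open Cfsg

namespace Cfsg.Agent.S1608

open scoped Pointwise
open Cfsg.Agent.Golay24

attribute [local irreducible] weightList codeList combTo

/-- The point stabiliser acts on the 506 octads avoiding the point with rank 4 and subdegrees 1, 15, 210, 280, the suborbits being given by intersection size with the fixed octad. -/
theorem result (x : Cfsg.GolayPt) (o : Finset Cfsg.GolayPt) (ho : o ∈ Cfsg.octads) (hx : x ∉ o) : {o' : Finset Cfsg.GolayPt | o' ∈ Cfsg.octads ∧ x ∉ o' ∧ (o ∩ o').card = 0}.ncard = 15 ∧ {o' : Finset Cfsg.GolayPt | o' ∈ Cfsg.octads ∧ x ∉ o' ∧ (o ∩ o').card = 4}.ncard = 210 ∧ {o' : Finset Cfsg.GolayPt | o' ∈ Cfsg.octads ∧ x ∉ o' ∧ (o ∩ o').card = 2}.ncard = 280 ∧ ∀ o' o'' : Finset Cfsg.GolayPt, o' ∈ Cfsg.octads → o'' ∈ Cfsg.octads → x ∉ o' → x ∉ o'' → (o ∩ o').card = (o ∩ o'').card → ∃ g : Equiv.Perm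 Cfsg.GolayPt, g ∈ Cfsg.M24 ∧ g x = x ∧ g • o = o ∧ g • o' = o'' := by
  obtain ⟨σ₀, hσ₀⟩ := carries_point x
  obtain ⟨σ, hσ⟩ := nxOct.extend (fam := cutList (weightList 8) ([8388608].zip [0])) (by decide +kernel)
    hσ₀ (s := o) ((mem_cutList_carries hσ₀ (by rfl)).2
      ⟨(inv_smul_mem_octads_iff hσ₀.1 _).2 ho, by simp [hx]⟩)
  have hmem : ∀ k o', maskOf (σ⁻¹ • o') ∈ cutList (weightList 8) ([8388608, nxOct.root].zip [0, k]) ↔
      o' ∈ octads ∧ x ∉ o' ∧ (o ∩ o').card = k := by
    intro k o'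
    rw [mem_cutList_carries (R := [8388608, nxOct.root]) (ss := [{x}, o]) hσ (by rfl), inv_smul_mem_octads_iff hσ.1]
    simp [single_inter_card]
  refine ⟨?_, ?_, ?_, fun o' o'' ho' ho'' hx' hx'' h => ?_⟩
  · rw [ncard_of_pullback (σ := σ) (cutList (weightList 8) ([8388608, nxOct.root].zip [0, 0]))
      (cutList_nodup (weightList_nodup 8) _) (cutList_lt (fun _ => weightList_lt) _) fun s => (hmem 0 s).symm]
    decide +kernel
  · rw [ncard_of_pullback (σ := σ) (cutList (weightList 8) ([8388608, nxOct.root].zip [0, 4]))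
      (cutList_nodup (weightList_nodup 8) _) (cutList_lt (fun _ => weightList_lt) _) fun s => (hmem 4 s).symm]
    decide +kernel
  · rw [ncard_of_pullback (σ := σ) (cutList (weightList 8) ([8388608, nxOct.root].zip [0, 2]))
      (cutList_nodup (weightList_nodup 8) _) (cutList_lt (fun _ => weightList_lt) _) fun s => (hmem 2 s).symm]
    decide +kernel
  have key : ∀ {c : StepCert} {k : ℕ},
      c.ok ([8388608] ++ [nxOct.root]) (cutList (weightList 8) ([8388608, nxOct.root].zip [0, k])) = true →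
      (o ∩ o').card = k →
      ∃ g : Equiv.Perm GolayPt, g ∈ M24 ∧ g x = x ∧ g • o = o ∧ g • o' = o'' := by
    intro c k hc hk
    obtain ⟨g, hg, hf, he⟩ := c.exists_map hc hσ ((hmem k o').2 ⟨ho', hx', hk⟩)
      ((hmem k o'').2 ⟨ho'', hx'', h ▸ hk⟩)
    exact ⟨g, hg, apply_eq_of_smul_single (hf {x} (by simp)), hf o (by simp), he⟩
  rcases card_octad_inter_cases ho ho' with hk | hk | hk | hk
  · exact key (c := nxOctOct0) (by decide +kernel) hk
  · exact key (c := nxOctOct2) (by decide +kernel) hk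
  · exact key (c := nxOctOct4) (by decide +kernel) hk
  · subst hk
    have := octad_unique ho ho'' (by rw [← h, Finset.inter_self, ho.2]; norm_num)
    exact ⟨1, M24.one_mem, rfl, one_smul _ _, by rw [one_smul]; exact this⟩

end Cfsg.Agent.S1608
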