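import Cfsg.Statements.S1610
import Cfsg.Agent.Lib.Steiner.Hexacode

set_option autoImplicit false
open Cfsg

namespace Cfsg.Agent.S1610

open Cfsg.Agent.Hexacode

theorem word_facts : (∀ a, a = (0, 0, 0) ∨ (Finset.univ.filter fun i => word a i ≠ 0).card = 4 ∨
      (Finset.univ.filter fun i => word a i ≠ 0).card = 6) ∧
    (Finset.univ.filter fun a => (Finset.univ.filter fun i => word a i ≠ 0).card = 4).card = 45 ∧
    (Finset.univ.filter fun a => (Finset.univ.filter fun i => word a i ≠ 0).card = 6).card = 18 := by decide +kernel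

/-- The hexacode has 64 words, minimum weight 4, and weight distribution 0^1 4^45 6^18. -/
theorem result (F : Type*) [Field F] [Fintype F] [DecidableEq F] (hF : Fintype.card F = 4) (ω : F) (hω : ω ^ 2 + ω + 1 = 0) : Nat.card ↥(Cfsg.hexacode F ω) = 64 ∧ (∀ x ∈ Cfsg.hexacode F ω, x ≠ 0 → (Finset.univ.filter fun i => x i ≠ 0).card = 4 ∨ (Finset.univ.filter fun i => x i ≠ 0).card = 6) ∧ {x : Fin 6 → F | x ∈ Cfsg.hexacode F ω ∧ (Finset.univ.filter fun i => x i ≠ 0).card = 4}.ncard = 45 ∧ {x : Fin 6 → F | x ∈ Cfsg.hexacode F ω ∧ (Finset.univ.filter fun i => x i ≠ 0).card = 6}.ncard = 18 := by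
  obtain ⟨hw, h4, h6⟩ := word_facts
  have hb := val_bijective hF hω
  refine ⟨?_, fun x hx hx0 => ?_, (count_eq hF hω 4).trans h4, (count_eq hF hω 6).trans h6⟩
  · let e : Fin 4 × Fin 4 × Fin 4 → Cfsg.hexacode F ω := fun a => ⟨_, (mem_iff hF hω).2 ⟨a, rfl⟩⟩
    have he : Function.Bijective e :=
      ⟨fun a b h => word_injective a b fun i => hb.1 (congrFun (congrArg Subtype.val h) i), fun ⟨x, hx⟩ => by
        obtain ⟨a, ha⟩ := (mem_iff hF hω).1 hx; exact ⟨a, Subtype.ext ha.symm⟩⟩
    rw [← Nat.card_congr (Equiv.ofBijective e he), Nat.card_eq_fintype_card]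
    rfl
  · obtain ⟨a, rfl⟩ := (mem_iff hF hω).1 hx
    have hs : (Finset.univ.filter fun i => val ω (word a i) ≠ 0) = Finset.univ.filter fun i => word a i ≠ 0 :=
      Finset.filter_congr fun i _ => not_congr ⟨fun h => hb.1 (h.trans (show (0 : F) = val ω 0 from rfl)),
        fun h => by rw [h]; rfl⟩
    rcases hw a with h | h
    · refine absurd ?_ hx0
      subst h
      funext i
      rw [(by decide : ∀ i, word (0, 0, 0) i = 0) i]
      rfl
    · rw [hs]; exact h

end Cfsg.Agent.S1610
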