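import Cfsg.Statements.S1611
import Cfsg.Agent.Lib.Steiner.Hexacode

set_option autoImplicit false
open Cfsg

namespace Cfsg.Agent.S1611

open Cfsg.Agent.Hexacode

/-- The coefficients read off from the first three entries. -/
def dec (w : Fin 6 → Fin 4) : Fin 4 × Fin 4 × Fin 4 :=
  (qadd (qadd (qmul (w 0) 2) (qmul (w 1) 3)) (qmul (w 2) 0),
   qadd (qadd (qmul (w 0) 3) (qmul (w 1) 3)) (qmul (w 2) 1),
   qadd (qadd (qmul (w 0) 0) (qmul (w 1) 1)) (qmul (w 2) 1))

theorem dec_word : ∀ a, dec (word a) = a := by decide +kernel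

/-- A word of labels is in the code. -/
def Good (w : Fin 6 → Fin 4) : Prop := ∀ i, word (dec w) i = w i

/-- Scaled and permuted spanning words are in the code. -/
def Fits (σ : Equiv.Perm (Fin 6)) (c : Fin 6 → Fin 4) : Prop :=
  ∀ j : Fin 3, Good fun i => qmul (c i) (rows j (σ.symm i))

/-- Six non-zero labels, the first being 1. -/
def normal (k : Fin 3 × Fin 3 × Fin 3 × Fin 3 × Fin 3) : Fin 6 → Fin 4 :=
  ![1, k.1.succ, k.2.1.succ, k.2.2.1.succ, k.2.2.2.1.succ, k.2.2.2.2.succ]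

/-- Scalars for each three-cycle, packed one byte each. -/
def pick : ℕ := 0xa1ca2d3f00ca00a1e4b000a1ca00968e003fc468002d002dd0803f000000caa13f2d000000000000a10000ca8068ca00a100d0c42d008eb0003f3f0096e42d0000a100cac4d0ca0000a18e96000000000000a1ca00000507e48000070005b0680005070000caa1006880a100ca00b0e4caa10000070500000000000096d0050000078ec407000500002de496003f3f0080d0002dc48e0005000768b0070000050000000000002d3f05070000003fb08e2d002d0068c43f00d0960007050080e4050007003f2d07050000000000000000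

/-- A base three digit. -/
def digit (n d : ℕ) : Fin 3 := ⟨(n / d) % 3, Nat.mod_lt _ (by norm_num)⟩

/-- The scalars of the three-cycle of `a`, `b`, `c`. -/
def kOf (a b c : Fin 6) : Fin 3 × Fin 3 × Fin 3 × Fin 3 × Fin 3 :=
  (fun n => (digit n 81, digit n 27, digit n 9, digit n 3, digit n 1))
    (Nat.land (Nat.shiftRight pick (8 * (36 * a.val + 6 * b.val + c.val))) 255)

set_option Elab.async false

theorem fits_pick : ∀ a b c : Fin 6, a ≠ b → a ≠ c → b ≠ c →
    Fits (Equiv.swap a b * Equiv.swap a c) (normal (kOf a b c)) := by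
  unfold Fits Good; decide +kernel

theorem fits_three (a b c : Fin 6) (hab : a ≠ b) (hac : a ≠ c) (hbc : b ≠ c) :
    ∃ k, Fits (Equiv.swap a b * Equiv.swap a c) (normal k) :=
  ⟨kOf a b c, fits_pick a b c hab hac hbc⟩

theorem three_cycle_eq : ∀ σ : Equiv.Perm (Fin 6), σ.support.card = 3 →
    ∃ a b c : Fin 6, a ≠ b ∧ a ≠ c ∧ b ≠ c ∧ σ = Equiv.swap a b * Equiv.swap a c := by
  decide +kernel

theorem fits_swap : ∀ k, ¬ Fits (Equiv.swap (0 : Fin 6) 1) (normal k) := by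
  unfold Fits Good; decide +kernel

theorem fits_diag : ∀ k, Fits 1 (normal k) → ∀ i, normal k i = 1 := by
  unfold Fits Good; decide +kernel

variable {F : Type*} [Field F] [Fintype F] [DecidableEq F] {ω : F}

/-- Preserving the code. -/
def Keeps (ω : F) (σ : Equiv.Perm (Fin 6)) (c : Fin 6 → Fˣ) : Prop :=
  ∀ x ∈ Cfsg.hexacode F ω, Cfsg.monomialMap σ c x ∈ Cfsg.hexacode F ω

theorem normal_val (hF : Fintype.card F = 4) (hω : ω ^ 2 + ω + 1 = 0) (c : Fin 6 → Fˣ) :
    ∃ k, ∀ i, (c i : F) = (c 0 : F) * val ω (normal k i) := by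
  have hb := val_bijective hF hω
  have key : ∀ i, ∃ u : Fin 3, (c i : F) = (c 0 : F) * val ω u.succ := fun i => by
    obtain ⟨u, hu⟩ := hb.2 ((c 0 : F)⁻¹ * (c i : F))
    have hu0 : u ≠ 0 := by
      rintro rfl
      exact mul_ne_zero (inv_ne_zero (c 0).ne_zero) (c i).ne_zero hu.symm
    exact ⟨u.pred hu0, by rw [Fin.succ_pred, hu, mul_inv_cancel_left₀ (c 0).ne_zero]⟩
  choose u hu using key
  refine ⟨(u 1, u 2, u 3, u 4, u 5), fun i => ?_⟩
  fin_cases i
  · show (c 0 : F) = (c 0 : F) * val ω 1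
    rw [show val ω 1 = 1 from rfl, mul_one]
  all_goals exact hu _

theorem keeps_iff_fits (hF : Fintype.card F = 4) (hω : ω ^ 2 + ω + 1 = 0) {σ : Equiv.Perm (Fin 6)}
    {c : Fin 6 → Fˣ} {l : Fin 6 → Fin 4} (u : Fˣ) (hl : ∀ i, (c i : F) = (u : F) * val ω (l i)) :
    Keeps ω σ c ↔ Fits σ l := by
  have hb := val_bijective hF hω
  have e : ∀ a, Cfsg.monomialMap σ c (fun i => val ω (word a i)) =
      (u : F) • fun i => val ω (qmul (l i) (word a (σ.symm i))) := fun a => funext fun i => by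
    simp [Cfsg.monomialMap, hl, val_mul hω, mul_assoc]
  have hgood : ∀ w : Fin 6 → Fin 4, (fun i => val ω (w i)) ∈ Cfsg.hexacode F ω ↔ Good w := by
    intro w
    constructor
    · intro h
      obtain ⟨a, ha⟩ := (mem_iff hF hω).1 h
      have hw : w = word a := funext fun i => hb.1 (congrFun ha i)
      intro i; rw [hw, dec_word]
    · exact fun h => (mem_iff hF hω).2 ⟨dec w, funext fun i => congrArg (val ω) (h i).symm⟩
  have hrow : ∀ j : Fin 3, ∃ a, ∀ i, word a i = rows j i := by decide +kernel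
  constructor
  · intro h j
    obtain ⟨a, ha⟩ := hrow j
    have h1 := h _ ((mem_iff hF hω).2 ⟨a, rfl⟩)
    rw [e, Submodule.smul_mem_iff _ u.ne_zero, hgood] at h1
    intro i
    simpa [ha] using h1 i
  · intro h x hx
    obtain ⟨a, rfl⟩ := (mem_iff hF hω).1 hx
    rw [e]
    refine Submodule.smul_mem _ _ ?_
    have hsum := Submodule.sum_mem (Cfsg.hexacode F ω) (t := Finset.univ)
      fun (j : Fin 3) _ => Submodule.smul_mem _ (val ω (![a.1, a.2.1, a.2.2] j)) ((hgood _).2 (h j))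
    convert hsum using 1
    funext i
    simp only [word, val_mul hω, val_add hω (two_eq_zero hF), Fin.sum_univ_three, Pi.add_apply, Pi.smul_apply,
      smul_eq_mul, Matrix.cons_val_zero, Matrix.cons_val_one, Matrix.cons_val]
    ring

theorem keeps_one : Keeps ω 1 1 := fun x hx => by
  have e : Cfsg.monomialMap 1 1 x = x := funext fun q => by simp [Cfsg.monomialMap, Equiv.Perm.one_def]
  rwa [e]

theorem keeps_mul {σ τ : Equiv.Perm (Fin 6)} {c d : Fin 6 → Fˣ} (h : Keeps ω σ c) (h' : Keeps ω τ d) :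
    Keeps ω (σ * τ) (fun i => c i * d (σ.symm i)) := fun x hx => by
  have e : Cfsg.monomialMap (σ * τ) (fun i => c i * d (σ.symm i)) x = Cfsg.monomialMap σ c (Cfsg.monomialMap τ d x) :=
    funext fun q => by
      show ((c q * d (σ.symm q) : Fˣ) : F) * x (τ.symm (σ.symm q)) = (c q : F) * ((d (σ.symm q) : F) * x (τ.symm (σ.symm q)))
      rw [Units.val_mul, mul_assoc]
  rw [e]
  exact h _ (h' x hx)

/-- The monomial automorphism group of the hexacode has order 1080: its diagonal part is the scalars and its permutation parts form the alternating group of degree 6. -/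
theorem result (F : Type*) [Field F] [Fintype F] [DecidableEq F] (hF : Fintype.card F = 4) (ω : F) (hω : ω ^ 2 + ω + 1 = 0) : Nat.card {f : Equiv.Perm (Fin 6) × (Fin 6 → Fˣ) // (∀ x ∈ Cfsg.hexacode F ω, Cfsg.monomialMap f.1 f.2 x ∈ Cfsg.hexacode F ω)} = 1080 ∧ (∀ c : Fin 6 → Fˣ, (∀ x ∈ Cfsg.hexacode F ω, Cfsg.monomialMap 1 c x ∈ Cfsg.hexacode F ω) → ∀ i j, c i = c j) ∧ {σ : Equiv.Perm (Fin 6) | ∃ c : Fin 6 → Fˣ, (∀ x ∈ Cfsg.hexacode F ω, Cfsg.monomialMap σ c x ∈ Cfsg.hexacode F ω)} = (alternatingGroup (Fin 6) : Set (Equiv.Perm (Fin 6))) := by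
  have hb := val_bijective hF hω
  let P : Submonoid (Equiv.Perm (Fin 6)) :=
    { carrier := {σ | ∃ c, Keeps ω σ c}
      one_mem' := ⟨1, keeps_one⟩
      mul_mem' := fun ⟨_, hc⟩ ⟨_, hd⟩ => ⟨_, keeps_mul hc hd⟩ }
  have hdiag : ∀ c : Fin 6 → Fˣ, Keeps ω 1 c → ∀ i j, c i = c j := by
    intro c hc i j
    obtain ⟨k, hk⟩ := normal_val hF hω c
    have h1 := fits_diag k ((keeps_iff_fits hF hω (c 0) hk).1 hc)
    exact Units.ext (by rw [hk i, hk j, h1, h1])
  have hthree : ∀ σ : Equiv.Perm (Fin 6), σ.IsThreeCycle → σ ∈ P := by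
    intro σ hσ
    obtain ⟨a, b, c, hab, hac, hbc, rfl⟩ : ∃ a b c : Fin 6, a ≠ b ∧ a ≠ c ∧ b ≠ c ∧ σ = Equiv.swap a b * Equiv.swap a c := by
      exact three_cycle_eq σ hσ.card_support
    obtain ⟨k, hk⟩ := fits_three a b c hab hac hbc
    have hne : ∀ i, val ω (normal k i) ≠ 0 := fun i e =>
      (by decide +kernel : ∀ k i, normal k i ≠ 0) k i (hb.1 (e.trans (show (0 : F) = val ω 0 from rfl)))
    exact ⟨fun i => Units.mk0 _ (hne i), (keeps_iff_fits hF hω 1 fun i => by simp).2 hk⟩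
  have halt : ∀ σ ∈ alternatingGroup (Fin 6), σ ∈ P := by
    intro σ hσ
    rw [← Equiv.Perm.closure_three_cycles_eq_alternating] at hσ
    exact Subgroup.closure_induction (p := fun z _ => z ∈ P) hthree P.one_mem (fun _ _ _ _ h h' => P.mul_mem h h')
      (fun z _ h => by
        have hpow : z⁻¹ = z ^ (orderOf z - 1) := by
          rw [inv_eq_iff_mul_eq_one, ← pow_succ', Nat.sub_add_cancel (orderOf_pos z), pow_orderOf_eq_one]
        rw [hpow]; exact P.pow_mem h _) hσ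
  have hswap : (Equiv.swap (0 : Fin 6) 1) ∉ P := by
    rintro ⟨c, hc⟩
    obtain ⟨k, hk⟩ := normal_val hF hω c
    exact fits_swap k ((keeps_iff_fits hF hω (c 0) hk).1 hc)
  have hP : ∀ σ, σ ∈ P ↔ σ ∈ alternatingGroup (Fin 6) := fun σ => by
    refine ⟨fun h => ?_, halt σ⟩
    by_contra hodd
    rw [Equiv.Perm.mem_alternatingGroup] at hodd
    have hs : Equiv.Perm.sign σ = -1 := (Int.units_eq_one_or _).resolve_left hodd
    have h1 : σ⁻¹ * Equiv.swap 0 1 ∈ alternatingGroup (Fin 6) := by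
      rw [Equiv.Perm.mem_alternatingGroup, map_mul, map_inv, hs, Equiv.Perm.sign_swap (by decide)]
      rfl
    have := P.mul_mem h (halt _ h1)
    rw [mul_inv_cancel_left] at this
    exact hswap this
  refine ⟨?_, hdiag, Set.ext fun σ => hP σ⟩
  choose C hC using fun σ : alternatingGroup (Fin 6) => halt σ.1 σ.2
  have hscale : ∀ {σ : Equiv.Perm (Fin 6)} {c : Fin 6 → Fˣ} (u : Fˣ), Keeps ω σ c → Keeps ω σ (fun i => u * c i) :=
    fun {σ c} u h x hx => by
      have e : Cfsg.monomialMap σ (fun i => u * c i) x = (u : F) • Cfsg.monomialMap σ c x :=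
        funext fun q => by simp [Cfsg.monomialMap, mul_assoc]
      rw [e]; exact Submodule.smul_mem _ _ (h x hx)
  let G : alternatingGroup (Fin 6) × Fˣ → {f : Equiv.Perm (Fin 6) × (Fin 6 → Fˣ) // Keeps ω f.1 f.2} :=
    fun p => ⟨(p.1.1, fun i => p.2 * C p.1 i), hscale p.2 (hC p.1)⟩
  have hG : Function.Bijective G := by
    constructor
    · intro ⟨σ, u⟩ ⟨τ, v⟩ h
      obtain ⟨e1, e2⟩ := Prod.ext_iff.1 (congrArg Subtype.val h)
      obtain rfl : σ = τ := Subtype.ext e1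
      have e3 : u * C σ 0 = v * C σ 0 := congrFun e2 0
      rw [mul_right_cancel e3]
    · rintro ⟨⟨σ, c⟩, hc⟩
      have hσ : σ ∈ alternatingGroup (Fin 6) := (hP σ).1 ⟨c, hc⟩
      have hinv : ∃ d, Keeps ω σ⁻¹ d := halt _ (inv_mem hσ)
      obtain ⟨d, hd⟩ := hinv
      have h1 := keeps_mul hc hd
      have h2 := keeps_mul (hC ⟨σ, hσ⟩) hd
      rw [mul_inv_cancel] at h1 h2
      refine ⟨(⟨σ, hσ⟩, c 0 * (C ⟨σ, hσ⟩ 0)⁻¹), Subtype.ext (Prod.ext rfl (funext fun i => ?_))⟩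
      show c 0 * (C ⟨σ, hσ⟩ 0)⁻¹ * C ⟨σ, hσ⟩ i = c i
      have e1 := hdiag _ h1 i 0
      have e2 := hdiag _ h2 i 0
      have key : c i * (C ⟨σ, hσ⟩ i)⁻¹ = c 0 * (C ⟨σ, hσ⟩ 0)⁻¹ := by
        calc c i * (C ⟨σ, hσ⟩ i)⁻¹ = (c i * d (σ.symm i)) * (C ⟨σ, hσ⟩ i * d (σ.symm i))⁻¹ := by
              rw [mul_inv, mul_mul_mul_comm, mul_inv_cancel, mul_one]
          _ = (c 0 * d (σ.symm 0)) * (C ⟨σ, hσ⟩ 0 * d (σ.symm 0))⁻¹ := by rw [e1, e2]
          _ = c 0 * (C ⟨σ, hσ⟩ 0)⁻¹ := by rw [mul_inv, mul_mul_mul_comm, mul_inv_cancel, mul_one]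
      rw [← key, inv_mul_cancel_right]
  show Nat.card {f : Equiv.Perm (Fin 6) × (Fin 6 → Fˣ) // Keeps ω f.1 f.2} = 1080
  rw [← Nat.card_congr (Equiv.ofBijective G hG), Nat.card_prod, nat_card_alternatingGroup, Nat.card_fin, Nat.card_units,
    Nat.card_eq_fintype_card, hF]
  decide

end Cfsg.Agent.S1611
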