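import Cfsg.Statements.S1615
import Cfsg.Agent.Lib.Recog.Fischer1615.Local

set_option autoImplicit false
open Cfsg

namespace Cfsg.Agent.S1615

/-- If O(⟨D_x⟩) is not central in ⟨D_x⟩ for some transposition x, the 3-transposition group is the symmetric group of degree 5. -/
theorem result {G : Type*} [Group G] [Finite G] (hsol : ∀ N : Subgroup G, N.Normal → Group.IsSolvable ↥N → N = ⊥) (hperf : ⁅commutator G, commutator G⁆ = commutator G) {D : Set G} (hD : Cfsg.IsThreeTranspositionClass D) (x : G) (hx : x ∈ D) (h : ¬ Cfsg.oddCore ↥(Subgroup.closure {y : G | y ∈ D ∧ y ≠ x ∧ Commute x y}) ≤ Subgroup.center ↥(Subgroup.closure {y : G | y ∈ D ∧ y ≠ x ∧ Commute x y})) : Nonempty (G ≃* Equiv.Perm (Fin 5)) := by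
  classical
  obtain ⟨hS, hsimple⟩ : ClassK.Fischer.Setup D ∧ True :=
    ⟨ClassK.Fischer.setup_of_fischer hsol hperf hD, trivial⟩
  haveI : Fact (Nat.Prime 3) := ⟨Nat.prime_three⟩
  have hcore : Cfsg.pCore 3 G = ⊥ := by
    haveI : Group.IsNilpotent ↥(Cfsg.pCore 3 G) := (Basics.pCore_isPGroup 3).isNilpotent
    exact hsol _ inferInstance inferInstance
  change ¬ Cfsg.oddCore ↥(Subgroup.closure (ClassK.Fischer.commSet D x)) ≤
    Subgroup.center ↥(Subgroup.closure (ClassK.Fischer.commSet D x)) at h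
  set H := Subgroup.closure (ClassK.Fischer.commSet D x) with hH
  obtain ⟨n, hn, hnc⟩ := SetLike.not_le_iff_exists.1 h
  obtain ⟨d, hd, hdn⟩ : ∃ d ∈ ClassK.Fischer.commSet D x, ¬ Commute (n : G) d := by
    by_contra hh
    push Not at hh
    refine hnc (Subgroup.mem_center_iff.2 fun g => Subtype.ext ?_)
    have hle : H ≤ Subgroup.centralizer ({(n : G)} : Set G) := (Subgroup.closure_le _).2 fun w hw =>
      Subgroup.mem_centralizer_singleton_iff.2 (hh w hw).symm.eq
    exact Subgroup.mem_centralizer_singleton_iff.1 (hle g.2)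
  have hcl : ∀ g ∈ H, ∀ c ∈ ClassK.Fischer.commSet D x, g * c * g⁻¹ ∈ ClassK.Fischer.commSet D x := by
    intro g hg c hc
    have hgx : Commute g x := by
      have hle : H ≤ Subgroup.centralizer ({x} : Set G) := (Subgroup.closure_le _).2 fun w hw =>
        Subgroup.mem_centralizer_singleton_iff.2 hw.2.2.symm.eq
      exact Subgroup.mem_centralizer_singleton_iff.1 (hle hg)
    have := ClassK.Fischer.commSet_conj hS g x hc
    rwa [Fischer1615.fix_of_commute hgx] at this
  set e := (n : G) * d * (n : G)⁻¹ with he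
  have heS : e ∈ ClassK.Fischer.commSet D x := hcl _ n.2 d hd
  have hne : d ≠ e := fun h' => hdn (mul_inv_eq_iff_eq_mul.1 h'.symm)
  have hdH : d ∈ H := Subgroup.subset_closure hd
  have heH : e ∈ H := Subgroup.subset_closure heS
  set N := Cfsg.oddCore ↥H with hN
  have hprod : (⟨d, hdH⟩ : ↥H) * ⟨e, heH⟩ ∈ N := by
    have hN' : (N : Subgroup ↥H).Normal := inferInstance
    have h1 : (⟨d, hdH⟩ : ↥H) * n * (⟨d, hdH⟩ : ↥H)⁻¹ * n⁻¹ ∈ N :=
      mul_mem (hN'.conj_mem n hn _) (inv_mem hn)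
    convert h1 using 1
    apply Subtype.ext
    show d * e = d * n * d⁻¹ * (n : G)⁻¹
    rw [he, ClassK.Fischer.inv_eq hS hd.1]
    group
  have hodd : ∀ w : ↥H, w ∈ N → w ^ 2 = 1 → w = 1 := fun w hw h2 => by
    refine orderOf_eq_one_iff.1 (Nat.eq_one_of_dvd_coprimes
      (Basics.pPrimeCore_coprime (G := ↥H) 2).symm (orderOf_dvd_of_pow_eq_one h2) ?_)
    exact Subgroup.orderOf_dvd_natCard _ hw
  have hsame : ∀ p, ∀ hp : p ∈ ClassK.Fischer.commSet D x, ∀ q,
      ∀ hq : q ∈ ClassK.Fischer.commSet D x, Commute p q →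
      (⟨p, Subgroup.subset_closure hp⟩ : ↥H) * ⟨q, Subgroup.subset_closure hq⟩ ∈ N → p = q := by
    intro p hp q hq hc hm
    have h1 := congrArg Subtype.val (hodd _ hm (Subtype.ext
      (show (p * q) ^ 2 = 1 from (ClassK.tt_commute_iff hS.cls.1 hp.1 hq.1).1 hc)))
    rw [eq_inv_of_mul_eq_one_left (show p * q = 1 from h1), ClassK.Fischer.inv_eq hS hq.1]
  have hone : ∀ p ∈ ({d, e} : Set G), ∀ q ∈ ({d, e} : Set G), ∀ a ∈ ClassK.Fischer.commSet D x,
      a ∈ ClassK.Fischer.commSet D p → a ∈ ClassK.Fischer.commSet D q := by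
    intro p hp q hq a ha hap
    have hpS : p ∈ ClassK.Fischer.commSet D x := by rcases hp with rfl | rfl <;> assumption
    have hqS : q ∈ ClassK.Fischer.commSet D x := by rcases hq with rfl | rfl <;> assumption
    have hpq : (⟨p, Subgroup.subset_closure hpS⟩ : ↥H) * ⟨q, Subgroup.subset_closure hqS⟩ ∈ N := by
      have hsq : ∀ r, ∀ hr : r ∈ ClassK.Fischer.commSet D x,
          (⟨r, Subgroup.subset_closure hr⟩ : ↥H) * ⟨r, Subgroup.subset_closure hr⟩ ∈ N := by
        intro r hr
        convert one_mem N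
        exact Subtype.ext (ClassK.Fischer.sq_eq hS hr.1)
      rcases hp with rfl | rfl <;> rcases hq with rfl | rfl
      · exact hsq _ hd
      · exact hprod
      · have := inv_mem hprod
        rw [mul_inv_rev] at this
        convert this using 2 <;> exact Subtype.ext (ClassK.Fischer.inv_eq hS (by first | exact hd.1 | exact heS.1)).symm
      · exact hsq _ heS
    refine ⟨ha.1, fun e' => ?_, ?_⟩
    · subst e'
      exact hap.2.1 (hsame _ hpS _ ha hap.2.2 hpq).symm
    · by_contra hqa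
      let π := QuotientGroup.mk' N
      set P : ↥H := ⟨p, Subgroup.subset_closure hpS⟩
      set Q : ↥H := ⟨q, Subgroup.subset_closure hqS⟩
      set A : ↥H := ⟨a, Subgroup.subset_closure ha⟩
      have hQP : π Q = π P := by
        have h1 : π P * π Q = 1 := by
          rw [← map_mul]; exact (QuotientGroup.eq_one_iff _).2 hpq
        rw [← inv_eq_of_mul_eq_one_right h1, ← map_inv]
        congr 1
        exact Subtype.ext (ClassK.Fischer.inv_eq hS hpS.1)
      have h3 : (π Q * π A) ^ 3 = 1 := by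
        rw [← map_mul, ← map_pow, show (Q * A) ^ 3 = 1 from
          Subtype.ext (ClassK.tt_noncommute_cube hS.cls.1 hqS.1 ha.1 hqa), map_one]
      have h2 : (π P * π A) ^ 2 = 1 := by
        rw [← map_mul, ← map_pow, show (P * A) ^ 2 = 1 from
          Subtype.ext ((ClassK.tt_commute_iff hS.cls.1 hpS.1 ha.1).1 hap.2.2), map_one]
      rw [hQP, pow_succ, h2, one_mul, ← map_mul] at h3
      exact hap.2.1 (hsame p hpS a ha hap.2.2 ((QuotientGroup.eq_one_iff _).1 h3)).symm
  refine Fischer1615.iso_sym_five hsol ⟨hS, hcore, x, hx, d, hd, e, heS, hne, Set.ext fun a => ?_⟩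
  exact ⟨fun ha => ⟨ha.1, hone d (Set.mem_insert _ _) e (Set.mem_insert_of_mem _ rfl) a ha.1 ha.2⟩,
    fun ha => ⟨ha.1, hone e (Set.mem_insert_of_mem _ rfl) d (Set.mem_insert _ _) a ha.1 ha.2⟩⟩

end Cfsg.Agent.S1615
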