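import Cfsg.Statements.S1620
import Cfsg.Agent.Lib.Icosian.Group

set_option autoImplicit false
open Quaternion
open Cfsg

namespace Cfsg.Agent.S1620

/-- The Hall–Janko group is simple and non-abelian. -/
theorem result : IsSimpleGroup Cfsg.Spor.J2 ∧ ∃ a b : Cfsg.Spor.J2, a * b ≠ b * a := by
  haveI := Cfsg.Agent.Icosian.range_simple
  obtain ⟨a, b, hab⟩ := Cfsg.Agent.Icosian.range_nonabelian
  refine ⟨Cfsg.Agent.Icosian.j2Equiv.isSimpleGroup, Cfsg.Agent.Icosian.j2Equiv.symm a,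
    Cfsg.Agent.Icosian.j2Equiv.symm b, fun h => hab ?_⟩
  simpa using congrArg Cfsg.Agent.Icosian.j2Equiv h

end Cfsg.Agent.S1620
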