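import Cfsg.Statements.S1624
import Cfsg.Agent.Lib.Icosian.Index100

set_option autoImplicit false
open Quaternion
open Cfsg

namespace Cfsg.Agent.S1624

/-- The Hall–Janko group contains PSU(3, 3) with index 100 and acts on the 100 cosets with rank 3 and subdegrees 1, 36, 63. -/
theorem result : ∃ H : Subgroup Cfsg.Spor.J2, H.index = 100 ∧ (∃ (F : Type) (_ : Field F) (_ : Fintype F), Fintype.card F = 9 ∧ Nonempty (↥H ≃* Cfsg.PSU 3 F 3)) ∧ ∃ c₁ c₂ : Cfsg.Spor.J2 ⧸ H, (MulAction.orbit ↥H c₁).ncard = 36 ∧ (MulAction.orbit ↥H c₂).ncard = 63 := by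
  obtain ⟨h36, h63, n36, n63, l36, l63⟩ := Cfsg.Agent.Icosian.Sub100.orbits_check
  obtain ⟨c₁, hc₁⟩ := Cfsg.Agent.Icosian.Sub100.ncard_coset_orbit h36 (by omega) n36
  obtain ⟨c₂, hc₂⟩ := Cfsg.Agent.Icosian.Sub100.ncard_coset_orbit h63 (by omega) n63
  refine ⟨Cfsg.Agent.Icosian.Sub100.subJ, Cfsg.Agent.Icosian.Sub100.index_subJ,
    ⟨Cfsg.Agent.Recog.PSUThreeThreeSpectrum.R9, inferInstance, inferInstance,
      Cfsg.Agent.Recog.PSUThreeThreeSpectrum.card_R9,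
      Cfsg.Agent.Icosian.Sub100.subJ_equiv⟩, c₁, c₂, by rw [hc₁, l36], by rw [hc₂, l63]⟩

end Cfsg.Agent.S1624
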