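import Cfsg.Statements.S1632
import Cfsg.Agent.Lib.Theta.Modular

set_option autoImplicit false
open Matrix
open Cfsg

namespace Cfsg.Agent.S1632

open UpperHalfPlane (qExpansion)
open ModularForm
open scoped MatrixGroups ModularForm ArithmeticFunction.sigma Matrix

/-- The weight 12 form `7/12 E₄³ + 5/12 E₆²`. -/
noncomputable def target : ModularForm 𝒮ℒ 12 :=
  (7 / 12 : ℂ) • ModularForm.mcast (by decide) (E₄.pow 3) +
    (5 / 12 : ℂ) • ModularForm.mcast (by decide) (E₆.pow 2)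

theorem qExpansion_target :
    qExpansion 1 target = (7 / 12 : ℂ) • qExpansion 1 E₄ ^ 3 + (5 / 12 : ℂ) • qExpansion 1 E₆ ^ 2 := by
  rw [target, FunLike.coe_add, ModularForm.qExpansion_add one_pos one_mem_strictPeriods_SL,
    FunLike.coe_smul, FunLike.coe_smul, ModularForm.qExpansion_smul one_pos one_mem_strictPeriods_SL,
    ModularForm.qExpansion_smul one_pos one_mem_strictPeriods_SL, coe_mcast, coe_mcast,
    ModularForm.qExpansion_pow one_pos one_mem_strictPeriods_SL,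
    ModularForm.qExpansion_pow one_pos one_mem_strictPeriods_SL]

theorem coeff_E₄ (m : ℕ) : (qExpansion 1 E₄).coeff m = if m = 0 then 1 else 240 * (σ 3 m : ℂ) := by
  norm_num [EisensteinSeries.E_qExpansion_coeff _ ⟨2, rfl⟩, show bernoulli 4 = -1 / 30 by decide +kernel]

theorem coeff_E₆ (m : ℕ) : (qExpansion 1 E₆).coeff m = if m = 0 then 1 else -504 * (σ 5 m : ℂ) := by
  norm_num [EisensteinSeries.E_qExpansion_coeff _ ⟨3, rfl⟩, show bernoulli 6 = 1 / 42 by decide +kernel]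

theorem coeff_target :
    (qExpansion 1 target).coeff 0 = 1 ∧ (qExpansion 1 target).coeff 1 = 0 ∧
    (qExpansion 1 target).coeff 2 = 196560 ∧ (qExpansion 1 target).coeff 3 = 16773120 ∧
    (qExpansion 1 target).coeff 4 = 398034000 := by
  have a2 : (σ 3 2 : ℕ) = 9 := by decide
  have a3 : (σ 3 3 : ℕ) = 28 := by decide
  have a4 : (σ 3 4 : ℕ) = 73 := by decide
  have b2 : (σ 5 2 : ℕ) = 33 := by decide
  have b3 : (σ 5 3 : ℕ) = 244 := by decide
  have b4 : (σ 5 4 : ℕ) = 1057 := by decide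
  rw [qExpansion_target]
  refine ⟨?_, ?_, ?_, ?_, ?_⟩ <;>
    norm_num [pow_succ, PowerSeries.coeff_mul, PowerSeries.coeff_smul, Finset.Nat.antidiagonal_succ,
      coeff_E₄, coeff_E₆, a2, a3, a4, b2, b3, b4, -PowerSeries.coeff_zero_eq_constantCoeff]

/-- An even unimodular lattice of rank 24 without roots has 196560, 16773120 and 398034000 vectors of norms 4, 6 and 8. -/
theorem result (B : Matrix (Fin 24) (Fin 24) ℤ) (hsymm : B.IsSymm) (hpos : ∀ x : Fin 24 → ℤ, x ≠ 0 → 0 < x ⬝ᵥ (B *ᵥ x)) (heven : ∀ x : Fin 24 → ℤ, (2 : ℤ) ∣ x ⬝ᵥ (B *ᵥ x)) (hdet : B.det = 1) (h2 : ∀ x : Fin 24 → ℤ, x ⬝ᵥ (B *ᵥ x) ≠ 2) : {x : Fin 24 → ℤ | x ⬝ᵥ (B *ᵥ x) = 4}.ncard = 196560 ∧ {x : Fin 24 → ℤ | x ⬝ᵥ (B *ᵥ x) = 6}.ncard = 16773120 ∧ {x : Fin 24 → ℤ | x ⬝ᵥ (B *ᵥ x) = 8}.ncard = 398034000 := by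
  have hpos0 : ∀ x, 0 ≤ Theta.qZ B x := fun x => by
    rcases eq_or_ne x 0 with rfl | hx
    · simp [Theta.qZ]
    · exact (hpos x hx).le
  obtain ⟨C, hBC⟩ := Theta.exists_factor hsymm hpos0
  set θ := Theta.thetaForm B C hBC hdet heven with hθ
  have hC0 : C.det ≠ 0 := fun h => by
    have h1 : (B.map (Int.cast : ℤ → ℝ)).det = (B.det : ℝ) := ((Int.castRingHom ℝ).map_det B).symm
    rw [hBC, Matrix.det_mul, h, hdet] at h1
    simp at h1
  have hcoef : ∀ m : ℕ, ({x | Theta.qZ B x = 2 * (m : ℤ)}.ncard : ℂ) = (qExpansion 1 θ).coeff m :=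
    ModularFormClass.qExpansion_coeff_unique one_pos one_mem_strictPeriods_SL
      (fun τ => Theta.hasSum_qParam hBC hC0 hpos0 heven τ)
  obtain ⟨t0, t1, t2, t3, t4⟩ := coeff_target
  have h0 : {x | Theta.qZ B x = 2 * ((0 : ℕ) : ℤ)} = {0} := by
    ext x
    rcases eq_or_ne x 0 with rfl | hx
    · simp [Theta.qZ]
    · have h := hpos x hx
      simp only [Theta.qZ, Set.mem_setOf_eq, Set.mem_singleton_iff, hx, iff_false]
      omega
  have h1 : {x | Theta.qZ B x = 2 * ((1 : ℕ) : ℤ)} = ∅ := by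
    ext x
    simpa [Theta.qZ] using h2 x
  have hc0 := hcoef 0
  have hc1 := hcoef 1
  rw [h0, Set.ncard_singleton] at hc0
  rw [h1, Set.ncard_empty] at hc1
  have hθt : θ - target = 0 := by
    refine ModularForm.sturm_bound_levelOne_nat (k := 12) ?_
    refine lt_of_lt_of_le (b := ((2 : ℕ) : ℕ∞)) (by norm_num) (PowerSeries.nat_le_order _ 2 ?_)
    intro i hi
    rw [FunLike.coe_sub, ModularForm.qExpansion_sub one_pos one_mem_strictPeriods_SL, map_sub]
    interval_cases i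
    · rw [← hc0, t0]; norm_num
    · rw [← hc1, t1]; norm_num
  rw [sub_eq_zero] at hθt
  have hall : ∀ m : ℕ, ({x | Theta.qZ B x = 2 * (m : ℤ)}.ncard : ℂ) = (qExpansion 1 target).coeff m :=
    fun m => by rw [hcoef m, hθt]
  have e2 := hall 2
  have e3 := hall 3
  have e4 := hall 4
  rw [t2] at e2
  rw [t3] at e3
  rw [t4] at e4
  exact ⟨by exact_mod_cast e2, by exact_mod_cast e3, by exact_mod_cast e4⟩

end Cfsg.Agent.S1632
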