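import Cfsg.Statements.S1633
import Cfsg.Agent.Lib.LeechCount.HSPlane.Main

set_option autoImplicit false
open Cfsg

namespace Cfsg.Agent.S1633

/-- The Higman–Sims group acts transitively on 352 vectors, a set closed under x ↦ −w − x, with vector stabiliser isomorphic to PSU(3, 5). -/
theorem result (v w : ↥Cfsg.leechLattice) (hv : Cfsg.sqNorm (v : Cfsg.GolayPt → ℤ) = 48) (hw : Cfsg.sqNorm (w : Cfsg.GolayPt → ℤ) = 48) (hvw : Cfsg.dotInt (v : Cfsg.GolayPt → ℤ) (w : Cfsg.GolayPt → ℤ) = -32) (F : Type) [Field F] [Fintype F] (hF : Fintype.card F = 25) : {x : ↥Cfsg.leechLattice | Cfsg.sqNorm (x : Cfsg.GolayPt → ℤ) = 32 ∧ Cfsg.dotInt (v : Cfsg.GolayPt → ℤ) (x : Cfsg.GolayPt → ℤ) = 16 ∧ Cfsg.dotInt (w : Cfsg.GolayPt → ℤ) (x : Cfsg.GolayPt → ℤ) = -24}.ncard = 352 ∧ (∀ x ∈ {x : ↥Cfsg.leechLattice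 | Cfsg.sqNorm (x : Cfsg.GolayPt → ℤ) = 32 ∧ Cfsg.dotInt (v : Cfsg.GolayPt → ℤ) (x : Cfsg.GolayPt → ℤ) = 16 ∧ Cfsg.dotInt (w : Cfsg.GolayPt → ℤ) (x : Cfsg.GolayPt → ℤ) = -24}, -w - x ∈ {x : ↥Cfsg.leechLattice | Cfsg.sqNorm (x : Cfsg.GolayPt → ℤ) = 32 ∧ Cfsg.dotInt (v : Cfsg.GolayPt → ℤ) (x : Cfsg.GolayPt → ℤ) = 16 ∧ Cfsg.dotInt (w : Cfsg.GolayPt → ℤ) (x : Cfsg.GolayPt → ℤ) = -24}) ∧ (∀ x ∈ {x : ↥Cfsg.leechLattice | Cfsg.sqNorm (x : Cfsg.GolayPt → ℤ) = 32 ∧ Cfsg.dotInt (v : Cfsg.GolayPt → ℤ) (x : Cfsg.GolayPt → ℤ) = 16 ∧ Cfsg.dotInt (w : Cfsg.GolayPt → ℤ) (x : Cfsg.GolayPt → ℤ) = -24}, ∀ x' ∈ {x : ↥Cfsg.leechLattice | Cfsg.sqNorm (x : Cfsg.GolayPt → ℤ) = 32 ∧ Cfsg.dotInt (v : Cfsg.GolayPt → ℤ) (x : Cfsg.GolayPt → ℤ) = 16 ∧ Cfsg.dotInt (w : Cfsg.GolayPt → ℤ) (x : Cfsg.GolayPt → ℤ) = -24},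 ∃ g : ↥Cfsg.Co0, g • v = v ∧ g • w = w ∧ g • x = x') ∧ ∀ x ∈ {x : ↥Cfsg.leechLattice | Cfsg.sqNorm (x : Cfsg.GolayPt → ℤ) = 32 ∧ Cfsg.dotInt (v : Cfsg.GolayPt → ℤ) (x : Cfsg.GolayPt → ℤ) = 16 ∧ Cfsg.dotInt (w : Cfsg.GolayPt → ℤ) (x : Cfsg.GolayPt → ℤ) = -24}, Nonempty (↥(MulAction.stabilizer ↥Cfsg.Co0 v ⊓ MulAction.stabilizer ↥Cfsg.Co0 w ⊓ MulAction.stabilizer ↥Cfsg.Co0 x) ≃* Cfsg.PSU 3 F 5) := by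
  refine ⟨LeechCount.HSPlane.count hv hw hvw, ?_, ?_, ?_⟩
  · rintro x ⟨hx, hxv, hxw⟩
    have e : ∀ a : Cfsg.GolayPt → ℤ, Cfsg.dotInt a ((-w - x : ↥Cfsg.leechLattice) : Cfsg.GolayPt → ℤ) =
        -Cfsg.dotInt a (w : Cfsg.GolayPt → ℤ) - Cfsg.dotInt a (x : Cfsg.GolayPt → ℤ) := fun a => by
      simp only [AddSubgroup.coe_sub, AddSubgroup.coe_neg, Cfsg.dotInt, Pi.sub_apply, Pi.neg_apply, mul_sub,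
        mul_neg, Finset.sum_sub_distrib, Finset.sum_neg_distrib]
    refine ⟨?_, ?_, ?_⟩
    · rw [show -w - x = -(w + x) by abel, AddSubgroup.coe_neg, AddSubgroup.coe_add, Leech.sqNorm_neg,
        Leech.sqNorm_add, hw, hx, hxw]; norm_num
    · rw [e, hvw, hxv]; norm_num
    · rw [e, LeechCount.dot_self, hw, hxw]; norm_num
  · rintro x ⟨hx, hxv, hxw⟩ x' ⟨hx', hxv', hxw'⟩
    obtain ⟨g, g1, g2, g3⟩ := LeechCount.HSPlane.move hv hw hvw hx hxv hxw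
    obtain ⟨h, h1, h2, h3⟩ := LeechCount.HSPlane.move hv hw hvw hx' hxv' hxw'
    refine ⟨h⁻¹ * g, ?_, ?_, ?_⟩
    · rw [mul_smul, g1, inv_smul_eq_iff, h1]
    · rw [mul_smul, g2, inv_smul_eq_iff, h2]
    · rw [mul_smul, g3, inv_smul_eq_iff, h3]
  · rintro x ⟨hx, hxv, hxw⟩
    obtain ⟨g, g1, g2, g3⟩ := LeechCount.HSPlane.move hv hw hvw hx hxv hxw
    obtain ⟨e1⟩ := LeechCount.HSPlane.stab_equiv g1 g2 g3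
    obtain ⟨e2⟩ := LeechCount.HSPlane.main_equiv
    obtain ⟨e3⟩ := LeechCount.HSPlane.psu_congr hF
    exact ⟨e1.trans (e2.trans e3)⟩

end Cfsg.Agent.S1633
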