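import Cfsg.Statements.S1634
import Cfsg.Agent.Lib.LeechCount.McLGroup
-- import your own Cfsg.Agent.* helpers here

set_option autoImplicit false
open Cfsg

namespace Cfsg.Agent.S1634

/-- The McLaughlin group acts on 2025 points (minimal vectors orthogonal to v with customary inner product 2 with w) transitively with rank 4 and subdegrees 1, 330, 462, 1232. -/
theorem result (v w : ↥Cfsg.leechLattice) (hv : Cfsg.sqNorm (v : Cfsg.GolayPt → ℤ) = 32) (hw : Cfsg.sqNorm (w : Cfsg.GolayPt → ℤ) = 32) (hvw : Cfsg.dotInt (v : Cfsg.GolayPt → ℤ) (w : Cfsg.GolayPt → ℤ) = -8) : {x : ↥Cfsg.leechLattice | Cfsg.sqNorm (x : Cfsg.GolayPt → ℤ) = 32 ∧ Cfsg.dotInt (v : Cfsg.GolayPt → ℤ) (x : Cfsg.GolayPt → ℤ) = 0 ∧ Cfsg.dotInt (w : Cfsg.GolayPt → ℤ) (x : Cfsg.GolayPt → ℤ) = 16}.ncard = 2025 ∧ (∀ x ∈ {x : ↥Cfsg.leechLattice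 | Cfsg.sqNorm (x : Cfsg.GolayPt → ℤ) = 32 ∧ Cfsg.dotInt (v : Cfsg.GolayPt → ℤ) (x : Cfsg.GolayPt → ℤ) = 0 ∧ Cfsg.dotInt (w : Cfsg.GolayPt → ℤ) (x : Cfsg.GolayPt → ℤ) = 16}, ∀ x' ∈ {x : ↥Cfsg.leechLattice | Cfsg.sqNorm (x : Cfsg.GolayPt → ℤ) = 32 ∧ Cfsg.dotInt (v : Cfsg.GolayPt → ℤ) (x : Cfsg.GolayPt → ℤ) = 0 ∧ Cfsg.dotInt (w : Cfsg.GolayPt → ℤ) (x : Cfsg.GolayPt → ℤ) = 16}, ∃ g : ↥Cfsg.Co0, g • v = v ∧ g • w = w ∧ g • x = x') ∧ ∀ x ∈ {x : ↥Cfsg.leechLattice | Cfsg.sqNorm (x : Cfsg.GolayPt → ℤ) = 32 ∧ Cfsg.dotInt (v : Cfsg.GolayPt → ℤ) (x : Cfsg.GolayPt → ℤ) = 0 ∧ Cfsg.dotInt (w : Cfsg.GolayPt → ℤ) (x : Cfsg.GolayPt → ℤ) = 16}, ∃ y₁ ∈ {x : ↥Cfsg.leechLattice | Cfsg.sqNorm (x : Cfsg.GolayPt → ℤ) = 32 ∧ Cfsg.dotInt (v : Cfsg.GolayPt → ℤ) (x : Cfsg.GolayPt → ℤ) = 0 ∧ Cfsg.dotInt (w : Cfsg.GolayPt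 → ℤ) (x : Cfsg.GolayPt → ℤ) = 16}, ∃ y₂ ∈ {x : ↥Cfsg.leechLattice | Cfsg.sqNorm (x : Cfsg.GolayPt → ℤ) = 32 ∧ Cfsg.dotInt (v : Cfsg.GolayPt → ℤ) (x : Cfsg.GolayPt → ℤ) = 0 ∧ Cfsg.dotInt (w : Cfsg.GolayPt → ℤ) (x : Cfsg.GolayPt → ℤ) = 16}, ∃ y₃ ∈ {x : ↥Cfsg.leechLattice | Cfsg.sqNorm (x : Cfsg.GolayPt → ℤ) = 32 ∧ Cfsg.dotInt (v : Cfsg.GolayPt → ℤ) (x : Cfsg.GolayPt → ℤ) = 0 ∧ Cfsg.dotInt (w : Cfsg.GolayPt → ℤ) (x : Cfsg.GolayPt → ℤ) = 16}, (MulAction.orbit ↥(MulAction.stabilizer ↥Cfsg.Co0 v ⊓ MulAction.stabilizer ↥Cfsg.Co0 w ⊓ MulAction.stabilizer ↥Cfsg.Co0 x) y₁).ncard = 330 ∧ (MulAction.orbit ↥(MulAction.stabilizer ↥Cfsg.Co0 v ⊓ MulAction.stabilizer ↥Cfsg.Co0 w ⊓ MulAction.stabilizer ↥Cfsg.Co0 x) y₂).ncard = 462 ∧ (MulAction.orbit ↥(MulAction.stabilizer ↥Cfsg.Co0 v ⊓ MulAction.stabilizer ↥Cfsg.Co0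 w ⊓ MulAction.stabilizer ↥Cfsg.Co0 x) y₃).ncard = 1232 := by
  classical
  set D : Set ↥Cfsg.leechLattice := {x : ↥Cfsg.leechLattice | Cfsg.sqNorm (x : Cfsg.GolayPt → ℤ) = 32 ∧ Cfsg.dotInt (v : Cfsg.GolayPt → ℤ) (x : Cfsg.GolayPt → ℤ) = 0 ∧ Cfsg.dotInt (w : Cfsg.GolayPt → ℤ) (x : Cfsg.GolayPt → ℤ) = 16} with hD
  have hmem : ∀ x ∈ D, (x : Cfsg.GolayPt → ℤ) ∈ LeechCount.twoFS v 0 w 16 := fun x hx =>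
    LeechCount.mem_twoFS.2 ⟨⟨x.2, hx.1⟩, hx.2.1, hx.2.2⟩
  have hpt := fun x (hx : x ∈ D) => LeechCount.McLPoint.of_mem v.2 hv w.2 hw hvw (hmem x hx)
  refine ⟨(LeechCount.ncard_twoSet v w 0 16).trans (LeechCount.card_2025 v.2 hv w.2 hw hvw),
    fun x hx x' hx' => ?_, fun x hx => ?_⟩
  · obtain ⟨g, g1, g2, g3⟩ := (hpt x hx).trans (hpt x' hx')
    exact ⟨g, (LeechCount.smul_eq_iff_ap g v v).2 g1, (LeechCount.smul_eq_iff_ap g w w).2 g2,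
      (LeechCount.smul_eq_iff_ap g x x').2 g3⟩
  · obtain ⟨-, n0, n16, n8⟩ := (hpt x hx).cls_card
    have key : ∀ (c : ℤ) (n : ℕ), (c = 0 ∨ c = 8 ∨ c = 16) → 0 < n →
        (LeechCount.clsFS v w x c).card = n → ∃ y ∈ D,
        (MulAction.orbit ↥(MulAction.stabilizer ↥Cfsg.Co0 v ⊓ MulAction.stabilizer ↥Cfsg.Co0 w ⊓
          MulAction.stabilizer ↥Cfsg.Co0 x) y).ncard = n := by
      intro c n hc hn hcard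
      obtain ⟨y0, hy0⟩ := Finset.card_pos.1 (hcard ▸ hn)
      obtain ⟨hy1, hy2⟩ := Finset.mem_filter.1 hy0
      obtain ⟨⟨hm, hn32⟩, h0, h16⟩ := LeechCount.mem_twoFS.1 hy1
      refine ⟨⟨y0, hm⟩, ⟨hn32, h0, h16⟩, ?_⟩
      rw [← hcard, ← Set.ncard_image_of_injective _ Subtype.val_injective, ← Set.ncard_coe_finset]
      congr 1
      ext z
      simp only [Set.mem_image, Finset.mem_coe]
      constructor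
      · rintro ⟨y, ⟨g, rfl⟩, rfl⟩
        show (((g : ↥Cfsg.Co0) • (⟨y0, hm⟩ : ↥Cfsg.leechLattice) : ↥Cfsg.leechLattice) : Cfsg.GolayPt → ℤ) ∈ LeechCount.clsFS v w x c
        refine Finset.mem_filter.2 ⟨LeechCount.mem_twoFS.2 ⟨⟨SetLike.coe_mem _, ?_⟩, ?_, ?_⟩, ?_⟩
        · rw [Leech.co0_smul_norm]; exact hn32
        · rw [LeechCount.dot_of_fix _ g.2.1.1]; exact h0
        · rw [LeechCount.dot_of_fix _ g.2.1.2]; exact h16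
        · rw [LeechCount.dot_of_fix _ g.2.2]; exact hy2
      · intro hz
        obtain ⟨hm', -⟩ := (LeechCount.mem_twoFS.1 (Finset.mem_filter.1 hz).1).1
        obtain ⟨k, k1, k2, k3, k4⟩ := (hpt x hx).cls_trans hc hy0 hz
        exact ⟨⟨z, hm'⟩, ⟨⟨k, ⟨(LeechCount.smul_eq_iff_ap k v v).2 k1, (LeechCount.smul_eq_iff_ap k w w).2 k2⟩,
          (LeechCount.smul_eq_iff_ap k x x).2 k3⟩, (LeechCount.smul_eq_iff_ap k _ _).2 k4⟩, rfl⟩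
    obtain ⟨y1, h1, o1⟩ := key 0 330 (Or.inl rfl) (by norm_num) n0
    obtain ⟨y2, h2, o2⟩ := key 16 462 (Or.inr (Or.inr rfl)) (by norm_num) n16
    obtain ⟨y3, h3, o3⟩ := key 8 1232 (Or.inr (Or.inl rfl)) (by norm_num) n8
    exact ⟨y1, h1, y2, h2, y3, h3, o1, o2, o3⟩

end Cfsg.Agent.S1634
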