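import Cfsg.Statements.S1635
import Cfsg.Agent.Lib.Golay.Cosets

set_option autoImplicit false
open Cfsg

namespace Cfsg.Agent.S1635

open scoped Pointwise
open Cfsg.Agent.Golay24

attribute [local irreducible] weightList codeList combTo

/-- Coset leaders of the length-24 code: a coset contains a unique word of weight ≤ 3, or else exactly six words of weight 4 and none lighter. -/
theorem result (w : Cfsg.GolayPt → ZMod 2) : ({v : Cfsg.GolayPt → ZMod 2 | hammingNorm v ≤ 4 ∧ w - v ∈ Cfsg.golayCode}.ncard = 1 ∧ ∃ v : Cfsg.GolayPt → ZMod 2, hammingNorm v ≤ 3 ∧ w - v ∈ Cfsg.golayCode) ∨ ({v : Cfsg.GolayPt → ZMod 2 | hammingNorm v ≤ 4 ∧ w - v ∈ Cfsg.golayCode}.ncard = 6 ∧ ∀ v : Cfsg.GolayPt → ZMod 2, w - v ∈ Cfsg.golayCode → hammingNorm v ≤ 4 → hammingNorm v = 4) := by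
  obtain ⟨v, hv, hcase⟩ := exists_leader w
  have hdiff : ∀ u : GolayPt → ZMod 2, w - u ∈ golayCode → u - v ∈ golayCode := fun u hu => by
    have := golayCode.sub_mem hv hu
    rwa [sub_sub_sub_cancel_left] at this
  rcases hcase with h3 | ⟨h4, -⟩
  · left
    refine ⟨?_, v, h3, hv⟩
    rw [Set.ncard_eq_one]
    refine ⟨v, Set.eq_singleton_iff_unique_mem.2 ⟨⟨by omega, hv⟩, fun u hu => ?_⟩⟩
    rcases short_words (by omega : hammingNorm v ≤ 4) hu.1 (hdiff u hu.2) with h | h
    · exact h
    · omega
  right
  refine ⟨?_, fun u hu hu4 => ?_⟩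
  · have hc4 : (support₂ v).card = 4 := h4
    set O := {o : Finset GolayPt | o ∈ octads ∧ support₂ v ⊆ o} with hO
    have himg : support₂ '' {u : GolayPt → ZMod 2 | hammingNorm u ≤ 4 ∧ w - u ∈ golayCode} =
        insert (support₂ v) ((fun o => o \ support₂ v) '' O) := by
      ext t
      simp only [Set.mem_image, Set.mem_ofPred_eq, Set.mem_insert_iff]
      constructor
      · rintro ⟨u, ⟨hu1, hu2⟩, rfl⟩
        rcases short_words (by omega : hammingNorm v ≤ 4) hu1 (hdiff u hu2) with h | ⟨-, -, hd, ho⟩
        · exact Or.inl (by rw [h])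
        · refine Or.inr ⟨_, ⟨ho, Finset.subset_union_left⟩, ?_⟩
          rw [Finset.union_sdiff_left, sdiff_eq_left.2 hd.symm]
      · rintro (rfl | ⟨o, ⟨ho, hsub⟩, rfl⟩)
        · exact ⟨v, ⟨by omega, hv⟩, rfl⟩
        · obtain ⟨c, hc, hco⟩ := ho.1
          refine ⟨v + c, ⟨?_, by rw [← sub_sub]; exact golayCode.sub_mem hv hc⟩, ?_⟩
          all_goals
            have hs : support₂ (v + c) = o \ support₂ v := by
              rw [show v + c = v - c by
                funext x; rcases zmod2_cases (c x) with h | h <;> rcases zmod2_cases (v x) with h' | h' <;>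
                  simp [h, h'] <;> decide,
                support₂_sub, hco, symmDiff_of_le hsub]
          · rw [hammingNorm_eq_card, hs, Finset.card_sdiff_of_subset hsub, ho.2]; omega
          · exact hs
    have hnot : support₂ v ∉ (fun o => o \ support₂ v) '' O := by
      rintro ⟨o, -, he⟩
      obtain ⟨x, hx⟩ := Finset.card_pos.1 (by omega : 0 < (support₂ v).card)
      have hx' : x ∈ (fun o => o \ support₂ v) o := by rw [he]; exact hx
      exact (Finset.mem_sdiff.1 hx').2 hx
    have hinj : Set.InjOn (fun o => o \ support₂ v) O := by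
      intro a ha b hb hab
      calc a = (a \ support₂ v) ∪ support₂ v := (Finset.sdiff_union_of_subset ha.2).symm
        _ = (b \ support₂ v) ∪ support₂ v := by rw [show a \ support₂ v = b \ support₂ v from hab]
        _ = b := Finset.sdiff_union_of_subset hb.2
    rw [← Set.ncard_image_of_injective _ support₂_injective, himg,
      Set.ncard_insert_of_notMem hnot ((Set.toFinite _)), hinj.ncard_image, five_octads _ hc4]
  · rcases short_words (by omega : hammingNorm v ≤ 4) hu4 (hdiff u hu) with h | h
    · rw [h, h4]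
    · exact h.2.1

end Cfsg.Agent.S1635
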