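import Cfsg.Statements.S1637
import Cfsg.Agent.Lib.Golay.Cosets

set_option autoImplicit false
open Cfsg

namespace Cfsg.Agent.S1637

open scoped Pointwise
open Cfsg.Agent.Golay24

attribute [local irreducible] weightList codeList combTo

/-- The punctured length-23 code is a perfect 3-error-correcting code: each word of length 23 is within distance 3 of exactly one codeword. -/
theorem result (u : ZMod 23 → ZMod 2) : ∃! c : ZMod 23 → ZMod 2, c ∈ {u : ZMod 23 → ZMod 2 | ∃ w ∈ Cfsg.golayCode, ∀ x : ZMod 23, u x = w (some x)} ∧ hammingDist u c ≤ 3 := by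
  let w : GolayPt → ZMod 2 := fun p => p.elim 0 u
  obtain ⟨v, hv, hcase⟩ := exists_leader w
  refine ⟨fun x => (w - v) (some x), ⟨⟨w - v, hv, fun _ => rfl⟩, ?_⟩, ?_⟩
  · rw [hammingDist_eq_hammingNorm, show -u + (fun x => (w - v) (some x)) = fun x : ZMod 23 => v (some x) by
      funext x; rcases zmod2_cases (v (some x)) with h | h <;> rcases zmod2_cases (u x) with h' | h' <;>
        simp [w, h, h'] <;> decide]
    have h := hammingNorm_split v
    rcases hcase with h3 | ⟨h4, hn⟩
    · omega
    · rw [if_pos hn] at h; omega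
  rintro c ⟨⟨z, hz, hc⟩, hd⟩
  have hd0 : hammingDist u (fun x => (w - v) (some x)) ≤ 3 := by
    rw [hammingDist_eq_hammingNorm, show -u + (fun x => (w - v) (some x)) = fun x : ZMod 23 => v (some x) by
      funext x; rcases zmod2_cases (v (some x)) with h | h <;> rcases zmod2_cases (u x) with h' | h' <;>
        simp [w, h, h'] <;> decide]
    have h := hammingNorm_split v
    rcases hcase with h3 | ⟨h4, hn⟩
    · omega
    · rw [if_pos hn] at h; omega
  have h6 : hammingDist c (fun x => (w - v) (some x)) ≤ 6 := by
    refine le_trans (hammingDist_triangle c u _) ?_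
    rw [hammingDist_comm c u]
    omega
  rw [hammingDist_eq_hammingNorm] at h6
  have hmem : (w - v) - z ∈ golayCode := golayCode.sub_mem hv hz
  have hsplit := hammingNorm_split ((w - v) - z)
  have he : (fun x : ZMod 23 => ((w - v) - z) (some x)) = -c + fun x => (w - v) (some x) := by
    funext x
    simp only [Pi.sub_apply, Pi.add_apply, Pi.neg_apply, hc, CharTwo.sub_eq_add, CharTwo.neg_eq]
    abel
  rw [he] at hsplit
  have hw := weight_of_mem hmem
  have h0 : hammingNorm ((w - v) - z) = 0 := by
    split at hsplit <;> omega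
  rw [hammingNorm_eq_zero, sub_eq_zero] at h0
  funext x
  rw [hc, ← h0]

end Cfsg.Agent.S1637
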