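import Cfsg.Statements.S1638
import Cfsg.Agent.Lib.Golay.Carry
import Cfsg.Agent.Lib.Golay.StepsC

set_option autoImplicit false
open scoped Pointwise
open Cfsg

namespace Cfsg.Agent.S1638

open scoped Pointwise
open Cfsg.Agent.Golay24

attribute [local irreducible] weightList codeList combTo

noncomputable section

/-- Octads through the standard two points and pair. -/
def pqsOcts : List ℕ := [12656663, 8536111, 11010247, 9471495, 8657159]

theorem pqsOcts_eq : cutList (weightList 8) ([8388608, 1, 6].zip [1, 1, 2]) = pqsOcts := by decide +kernel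

/-- The pair lies with the standard configuration in an octad. -/
def inOctB (t : ℕ) : Bool := pqsOcts.any fun o => pop24 (Nat.land o t) == 2

/-- Pairs avoiding the configuration. -/
def freePairs : List ℕ := cutList (combList 2) ([8388608, 1, 6].zip [0, 0, 0])

/-- Fix two points p ≠ q and a pair s of two further points. Among the pairs avoiding p, q and disjoint from s, exactly 30 lie in an octad together with p, q and s and exactly 160 do not; and any two pairs other than s that meet s in equally many points and agree on that octad property are carried to one another by an element of the group of the length-24 code fixing p, q and s. -/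
theorem result (p q : Cfsg.GolayPt) (hpq : p ≠ q) (s : Finset Cfsg.GolayPt) (hs : (s.card = 2 ∧ p ∉ s ∧ q ∉ s)) : {t : Finset Cfsg.GolayPt | (t.card = 2 ∧ p ∉ t ∧ q ∉ t) ∧ Disjoint s t ∧ (∃ o ∈ Cfsg.octads, p ∈ o ∧ q ∈ o ∧ s ∪ t ⊆ o)}.ncard = 30 ∧ {t : Finset Cfsg.GolayPt | (t.card = 2 ∧ p ∉ t ∧ q ∉ t) ∧ Disjoint s t ∧ ¬ (∃ o ∈ Cfsg.octads, p ∈ o ∧ q ∈ o ∧ s ∪ t ⊆ o)}.ncard = 160 ∧ ∀ t t' : Finset Cfsg.GolayPt, (t.card = 2 ∧ p ∉ t ∧ q ∉ t) → (t'.card = 2 ∧ p ∉ t' ∧ q ∉ t') → t ≠ s → t' ≠ s → (s ∩ t).card = (s ∩ t').card → ((∃ o ∈ Cfsg.octads, p ∈ o ∧ q ∈ o ∧ s ∪ t ⊆ o) ↔ (∃ o ∈ Cfsg.octads, p ∈ o ∧ q ∈ o ∧ s ∪ t' ⊆ o)) → ∃ g : Equiv.Perm Cfsg.GolayPt, g ∈ Cfsg.M24 ∧ g p = p ∧ g q = q ∧ g • s = s ∧ g • t = t' := by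
  obtain ⟨σ₀, hσ₀⟩ := carries_two_points hpq
  obtain ⟨σ, hσ⟩ := pqPair.extend (fam := cutList (combList 2) ([8388608, 1].zip [0, 0]))
    (by decide +kernel) hσ₀ (s := s) ((mem_cutList_carries hσ₀ (by rfl)).2
      ⟨inv_smul_mem_combList_iff.2 hs.1, by simp [hs.2.1, hs.2.2]⟩)
  have hmem : ∀ k t, maskOf (σ⁻¹ • t) ∈ cutList (combList 2) ([8388608, 1, 6].zip [0, 0, k]) ↔
      (t.card = 2 ∧ p ∉ t ∧ q ∉ t) ∧ (s ∩ t).card = k := by
    intro k t
    rw [mem_cutList_carries (R := [8388608, 1, 6]) (ss := [{p}, {q}, s]) hσ (by rfl),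
      inv_smul_mem_combList_iff]
    simp [single_inter_card, and_assoc]
  have hoct : ∀ o, maskOf (σ⁻¹ • o) ∈ pqsOcts ↔ o ∈ octads ∧ p ∈ o ∧ q ∈ o ∧ s ⊆ o := by
    intro o
    rw [← pqsOcts_eq, mem_cutList_carries (R := [8388608, 1, 6]) (ss := [{p}, {q}, s]) hσ (by rfl),
      inv_smul_mem_octads_iff hσ.1]
    simp only [List.map_cons, List.map_nil, List.cons.injEq, and_true, single_inter_card]
    refine and_congr Iff.rfl (and_congr (by simp) (and_congr (by simp) ⟨fun h => ?_, fun h => ?_⟩))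
    · exact Finset.inter_eq_left.1 (Finset.eq_of_subset_of_card_le Finset.inter_subset_left
        (by rw [h, hs.1]))
    · rw [Finset.inter_eq_left.2 h, hs.1]
  have hin : ∀ t : Finset GolayPt, t.card = 2 → (inOctB (maskOf (σ⁻¹ • t)) = true ↔
      ∃ o ∈ octads, p ∈ o ∧ q ∈ o ∧ s ∪ t ⊆ o) := by
    intro t ht
    simp only [inOctB, List.any_eq_true, beq_iff_eq]
    constructor
    · rintro ⟨m, hm, hc⟩
      have hlt : m < 2 ^ 24 := cutList_lt (fun _ => weightList_lt) _ m (pqsOcts_eq ▸ hm)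
      rw [card_inv_smul_inter] at hc
      obtain ⟨ho, hp', hq', hs'⟩ := (hoct (σ • Golay24.setOf m)).1 (by
        rw [inv_smul_smul, maskOf_setOf hlt]; exact hm)
      exact ⟨_, ho, hp', hq', Finset.union_subset hs' (Finset.inter_eq_right.1
        (Finset.eq_of_subset_of_card_le Finset.inter_subset_right (by rw [hc, ht])))⟩
    · rintro ⟨o, ho, hp', hq', hsub⟩
      refine ⟨_, (hoct o).2 ⟨ho, hp', hq', Finset.union_subset_left hsub⟩, ?_⟩
      rw [card_inv_smul_inter, setOf_maskOf, smul_inv_smul,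
        Finset.inter_eq_right.2 (Finset.union_subset_right hsub), ht]
  refine ⟨?_, ?_, ?_⟩
  · rw [ncard_of_pullback (σ := σ) (freePairs.filter inOctB) ((cutList_nodup (combList_nodup 2) _).filter _)
      (fun m hm => cutList_lt (fun _ => combList_lt) _ m (List.mem_filter.1 hm).1) fun t => by
        rw [List.mem_filter, freePairs, hmem 0 t, Finset.card_eq_zero, ← Finset.disjoint_iff_inter_eq_empty]
        constructor
        · exact fun h => ⟨⟨h.1, h.2.1⟩, (hin t h.1.1).2 h.2.2⟩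
        · exact fun h => ⟨h.1.1, h.1.2, (hin t h.1.1.1).1 h.2⟩]
    decide +kernel
  · rw [ncard_of_pullback (σ := σ) (freePairs.filter fun m => !inOctB m) ((cutList_nodup (combList_nodup 2) _).filter _)
      (fun m hm => cutList_lt (fun _ => combList_lt) _ m (List.mem_filter.1 hm).1) fun t => by
        rw [List.mem_filter, freePairs, hmem 0 t, Finset.card_eq_zero, ← Finset.disjoint_iff_inter_eq_empty,
          Bool.not_eq_true', Bool.eq_false_iff]
        constructor
        · exact fun h => ⟨⟨h.1, h.2.1⟩, fun hb => h.2.2 ((hin t h.1.1).1 hb)⟩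
        · exact fun h => ⟨h.1.1, h.1.2, fun ho => h.2 ((hin t h.1.1.1).2 ho)⟩]
    decide +kernel
  intro t t' ht ht' hts ht's hk hiff
  have key : ∀ {c : StepCert} {fam : List ℕ}, c.ok ([8388608, 1] ++ [pqPair.root]) fam = true →
      maskOf (σ⁻¹ • t) ∈ fam → maskOf (σ⁻¹ • t') ∈ fam →
      ∃ g : Equiv.Perm GolayPt, g ∈ M24 ∧ g p = p ∧ g q = q ∧ g • s = s ∧ g • t = t' := by
    intro c fam hc h1 h2
    obtain ⟨g, hg, hf, he⟩ := c.exists_map hc hσ h1 h2
    exact ⟨g, hg, apply_eq_of_smul_single (hf {p} (by simp)),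
      apply_eq_of_smul_single (hf {q} (by simp)), hf s (by simp), he⟩
  have hne : ∀ u : Finset GolayPt, u.card = 2 → u ≠ s → (s ∩ u).card = 0 ∨ (s ∩ u).card = 1 := by
    intro u hu hus
    have hle : (s ∩ u).card ≤ s.card := Finset.card_le_card Finset.inter_subset_left
    by_contra hc
    have h2 : (s ∩ u).card = 2 := by omega
    have e1 : s ∩ u = u := Finset.eq_of_subset_of_card_le Finset.inter_subset_right (by rw [h2, hu])
    have e2 : s ∩ u = s := Finset.eq_of_subset_of_card_le Finset.inter_subset_left (by rw [h2, hs.1])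
    exact hus (e1.symm.trans e2)
  rcases hne t ht.1 hts with h0 | h1
  · by_cases hb : inOctB (maskOf (σ⁻¹ • t)) = true
    · exact key (c := pqPairIn) (fam := freePairs.filter inOctB) (by decide +kernel)
        (List.mem_filter.2 ⟨(hmem 0 t).2 ⟨ht, h0⟩, hb⟩)
        (List.mem_filter.2 ⟨(hmem 0 t').2 ⟨ht', hk ▸ h0⟩,
          (hin t' ht'.1).2 (hiff.1 ((hin t ht.1).1 hb))⟩)
    · exact key (c := pqPairOut) (fam := freePairs.filter fun m => !inOctB m) (by decide +kernel)
        (List.mem_filter.2 ⟨(hmem 0 t).2 ⟨ht, h0⟩, by simpa using hb⟩)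
        (List.mem_filter.2 ⟨(hmem 0 t').2 ⟨ht', hk ▸ h0⟩,
          by simpa using fun hb' => hb ((hin t ht.1).2 (hiff.2 ((hin t' ht'.1).1 hb')))⟩)
  · exact key (c := pqPairMeet) (fam := cutList (combList 2) ([8388608, 1, 6].zip [0, 0, 1]))
      (by decide +kernel) ((hmem 1 t).2 ⟨ht, h1⟩) ((hmem 1 t').2 ⟨ht', hk ▸ h1⟩)

end

end Cfsg.Agent.S1638
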