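import Cfsg.Statements.S1639
import Cfsg.Agent.Lib.Golay.Carry
import Cfsg.Agent.Lib.Golay.StepsC

set_option autoImplicit false
open scoped Pointwise
open Cfsg

namespace Cfsg.Agent.S1639

open scoped Pointwise
open Cfsg.Agent.Golay24

attribute [local irreducible] weightList codeList combTo

/-- The point stabiliser acts on the 1288 dodecads through the point with rank 4 and subdegrees 1, 165, 330, 792, distinguished by intersection 4, 8, 6 with the fixed dodecad. -/
theorem result (x : Cfsg.GolayPt) (d : Finset Cfsg.GolayPt) (hd : d ∈ Cfsg.dodecads) (hx : x ∈ d) : {d' : Finset Cfsg.GolayPt | d' ∈ Cfsg.dodecads ∧ x ∈ d' ∧ (d ∩ d').card = 4}.ncard = 165 ∧ {d' : Finset Cfsg.GolayPt | d' ∈ Cfsg.dodecads ∧ x ∈ d' ∧ (d ∩ d').card = 8}.ncard = 330 ∧ {d' : Finset Cfsg.GolayPt | d' ∈ Cfsg.dodecads ∧ x ∈ d' ∧ (d ∩ d').card = 6}.ncard = 792 ∧ ∀ d' d'' : Finset Cfsg.GolayPt, d' ∈ Cfsg.dodecads → d'' ∈ Cfsg.dodecads → x ∈ d' → x ∈ d'' → (d ∩ d').card = (d ∩ d'').card → ∃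 g : Equiv.Perm Cfsg.GolayPt, g ∈ Cfsg.M24 ∧ g x = x ∧ g • d = d ∧ g • d' = d'' := by
  obtain ⟨σ₀, hσ₀⟩ := carries_point x
  obtain ⟨σ, hσ⟩ := xDod.extend (fam := cutList (weightList 12) ([8388608].zip [1])) (by decide +kernel)
    hσ₀ (s := d) ((mem_cutList_carries hσ₀ (by rfl)).2
      ⟨(inv_smul_mem_dodecads_iff hσ₀.1 _).2 hd, by simp [hx]⟩)
  have hmem : ∀ k d', maskOf (σ⁻¹ • d') ∈ cutList (weightList 12) ([8388608, xDod.root].zip [1, k]) ↔
      d' ∈ dodecads ∧ x ∈ d' ∧ (d ∩ d').card = k := by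
    intro k d'
    rw [mem_cutList_carries (R := [8388608, xDod.root]) (ss := [{x}, d]) hσ (by rfl), inv_smul_mem_dodecads_iff hσ.1]
    simp [single_inter_card]
  refine ⟨?_, ?_, ?_, fun d' d'' hd' hd'' hx' hx'' h => ?_⟩
  · rw [ncard_of_pullback (σ := σ) (cutList (weightList 12) ([8388608, xDod.root].zip [1, 4]))
      (cutList_nodup (weightList_nodup 12) _) (cutList_lt (fun _ => weightList_lt) _) fun s => (hmem 4 s).symm]
    decide +kernel
  · rw [ncard_of_pullback (σ := σ) (cutList (weightList 12) ([8388608, xDod.root].zip [1, 8]))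
      (cutList_nodup (weightList_nodup 12) _) (cutList_lt (fun _ => weightList_lt) _) fun s => (hmem 8 s).symm]
    decide +kernel
  · rw [ncard_of_pullback (σ := σ) (cutList (weightList 12) ([8388608, xDod.root].zip [1, 6]))
      (cutList_nodup (weightList_nodup 12) _) (cutList_lt (fun _ => weightList_lt) _) fun s => (hmem 6 s).symm]
    decide +kernel
  have key : ∀ {c : StepCert} {k : ℕ},
      c.ok ([8388608] ++ [xDod.root]) (cutList (weightList 12) ([8388608, xDod.root].zip [1, k])) = true →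
      (d ∩ d').card = k →
      ∃ g : Equiv.Perm GolayPt, g ∈ M24 ∧ g x = x ∧ g • d = d ∧ g • d' = d'' := by
    intro c k hc hk
    obtain ⟨g, hg, hf, he⟩ := c.exists_map hc hσ ((hmem k d').2 ⟨hd', hx', hk⟩)
      ((hmem k d'').2 ⟨hd'', hx'', h ▸ hk⟩)
    exact ⟨g, hg, apply_eq_of_smul_single (hf {x} (by simp)), hf d (by simp), he⟩
  rcases card_dodecad_inter_cases hd hd' with hk | hk | hk | hk | hk
  · exfalso
    have : x ∈ d ∩ d' := Finset.mem_inter.2 ⟨hx, hx'⟩
    rw [Finset.card_eq_zero.1 hk] at this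
    simp at this
  · exact key (c := xDodDod4) (by decide +kernel) hk
  · exact key (c := xDodDod6) (by decide +kernel) hk
  · exact key (c := xDodDod8) (by decide +kernel) hk
  · subst hk
    rcases card_dodecad_inter_cases hd hd'' with hk | hk | hk | hk | hk
    all_goals first
      | exact ⟨1, M24.one_mem, rfl, one_smul _ _, by rw [one_smul]; exact hk⟩
      | (exfalso; rw [Finset.inter_self, hd.2] at h; omega)

end Cfsg.Agent.S1639
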