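import Cfsg.Statements.S1640
import Cfsg.Agent.Lib.LeechCount.Config
-- import your own Cfsg.Agent.* helpers here

set_option autoImplicit false
open Cfsg

namespace Cfsg.Agent.S1640

/-- The stabiliser of a vector of customary norm 6 is transitive on the 11178 minimal vectors of customary inner product −2 with it. -/
theorem result (u : ↥Cfsg.leechLattice) (hu : Cfsg.sqNorm (u : Cfsg.GolayPt → ℤ) = 48) : {x : ↥Cfsg.leechLattice | Cfsg.sqNorm (x : Cfsg.GolayPt → ℤ) = 32 ∧ Cfsg.dotInt (u : Cfsg.GolayPt → ℤ) (x : Cfsg.GolayPt → ℤ) = -16}.ncard = 11178 ∧ ∀ x ∈ {x : ↥Cfsg.leechLattice | Cfsg.sqNorm (x : Cfsg.GolayPt → ℤ) = 32 ∧ Cfsg.dotInt (u : Cfsg.GolayPt → ℤ) (x : Cfsg.GolayPt → ℤ) = -16}, ∀ x' ∈ {x : ↥Cfsg.leechLattice | Cfsg.sqNorm (x : Cfsg.GolayPt → ℤ) = 32 ∧ Cfsg.dotInt (u : Cfsg.GolayPt → ℤ) (x : Cfsg.GolayPt → ℤ) = -16}, ∃ g : ↥Cfsg.Co0, g • u = u ∧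 g • x = x' := by
  constructor
  · rw [← Set.ncard_image_of_injective _ Subtype.val_injective, ← LeechCount.card_11178 u.2 hu,
      ← Set.ncard_coe_finset]
    congr 1
    ext x
    simp only [Set.mem_image, Finset.mem_coe, LeechCount.mem_dotFS]
    constructor
    · rintro ⟨y, ⟨h1, h2⟩, rfl⟩
      exact ⟨⟨y.2, h1⟩, h2⟩
    · rintro ⟨⟨h0, h1⟩, h2⟩
      exact ⟨⟨x, h0⟩, ⟨h1, h2⟩, rfl⟩
  · rintro x ⟨hx, hxd⟩ x' ⟨hx', hxd'⟩
    obtain ⟨g, g1, g2⟩ := Leech.coPair_subtype (Leech.coPair_six x.2 hx u.2 hu (by rw [Leech.dot_comm]; exact hxd)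
      x'.2 hx' u.2 hu (by rw [Leech.dot_comm]; exact hxd'))
    exact ⟨g, g2, g1⟩

end Cfsg.Agent.S1640
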