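import Cfsg.Statements.S1641
import Cfsg.Agent.Lib.LeechCount.Co3Rank.Orbits
-- import your own Cfsg.Agent.* helpers here

set_option autoImplicit false
open Cfsg

namespace Cfsg.Agent.S1641

open Cfsg.Agent.LeechCount.Co3Rank

/-- The third Conway group acts on the 11178 cosets of the Higman–Sims group with rank 5 and subdegrees 1, 352, 1100, 4125, 5600. -/
theorem result (u x : ↥Cfsg.leechLattice) (hu : Cfsg.sqNorm (u : Cfsg.GolayPt → ℤ) = 48) (hx : x ∈ {x : ↥Cfsg.leechLattice | Cfsg.sqNorm (x : Cfsg.GolayPt → ℤ) = 32 ∧ Cfsg.dotInt (u : Cfsg.GolayPt → ℤ) (x : Cfsg.GolayPt → ℤ) = -16}) : ∃ y₁ ∈ {x : ↥Cfsg.leechLattice | Cfsg.sqNorm (x : Cfsg.GolayPt → ℤ) = 32 ∧ Cfsg.dotInt (u : Cfsg.GolayPt → ℤ) (x : Cfsg.GolayPt → ℤ) = -16}, ∃ y₂ ∈ {x : ↥Cfsg.leechLattice | Cfsg.sqNorm (x : Cfsg.GolayPt → ℤ) = 32 ∧ Cfsg.dotInt (u : Cfsg.GolayPt →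 ℤ) (x : Cfsg.GolayPt → ℤ) = -16}, ∃ y₃ ∈ {x : ↥Cfsg.leechLattice | Cfsg.sqNorm (x : Cfsg.GolayPt → ℤ) = 32 ∧ Cfsg.dotInt (u : Cfsg.GolayPt → ℤ) (x : Cfsg.GolayPt → ℤ) = -16}, ∃ y₄ ∈ {x : ↥Cfsg.leechLattice | Cfsg.sqNorm (x : Cfsg.GolayPt → ℤ) = 32 ∧ Cfsg.dotInt (u : Cfsg.GolayPt → ℤ) (x : Cfsg.GolayPt → ℤ) = -16}, (MulAction.orbit ↥(MulAction.stabilizer ↥Cfsg.Co0 u ⊓ MulAction.stabilizer ↥Cfsg.Co0 x) y₁).ncard = 352 ∧ (MulAction.orbit ↥(MulAction.stabilizer ↥Cfsg.Co0 u ⊓ MulAction.stabilizer ↥Cfsg.Co0 x) y₂).ncard = 1100 ∧ (MulAction.orbit ↥(MulAction.stabilizer ↥Cfsg.Co0 u ⊓ MulAction.stabilizer ↥Cfsg.Co0 x) y₃).ncard = 4125 ∧ (MulAction.orbit ↥(MulAction.stabilizer ↥Cfsg.Co0 u ⊓ MulAction.stabilizer ↥Cfsg.Co0 x) y₄).ncard = 5600 ∧ {x : ↥Cfsg.leechLattice | Cfsg.sqNorm (x : Cfsg.GolayPt → ℤ) = 32 ∧ Cfsg.dotInt (u : Cfsg.GolayPt →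 ℤ) (x : Cfsg.GolayPt → ℤ) = -16} = {x} ∪ MulAction.orbit ↥(MulAction.stabilizer ↥Cfsg.Co0 u ⊓ MulAction.stabilizer ↥Cfsg.Co0 x) y₁ ∪ MulAction.orbit ↥(MulAction.stabilizer ↥Cfsg.Co0 u ⊓ MulAction.stabilizer ↥Cfsg.Co0 x) y₂ ∪ MulAction.orbit ↥(MulAction.stabilizer ↥Cfsg.Co0 u ⊓ MulAction.stabilizer ↥Cfsg.Co0 x) y₃ ∪ MulAction.orbit ↥(MulAction.stabilizer ↥Cfsg.Co0 u ⊓ MulAction.stabilizer ↥Cfsg.Co0 x) y₄ := by
  obtain ⟨⟨hxn, hxd⟩, -⟩ : (Cfsg.sqNorm (x : Cfsg.GolayPt → ℤ) = 32 ∧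
      Cfsg.dotInt (u : Cfsg.GolayPt → ℤ) (x : Cfsg.GolayPt → ℤ) = -16) ∧ True := ⟨hx, trivial⟩
  have hxu : Cfsg.dotInt (x : Cfsg.GolayPt → ℤ) (u : Cfsg.GolayPt → ℤ) = -16 := by
    rw [Agent.Leech.dot_comm]; exact hxd
  obtain ⟨g, gx, gu⟩ := Agent.Leech.coPair_subtype (Agent.Leech.coPair_six x.2 hxn u.2 hu hxu
    (v' := (X0 : Agent.Leech.Vec)) (w' := (U0 : Agent.Leech.Vec))
    Agent.LeechCount.vecU'_facts.1 Agent.LeechCount.vecU'_facts.2.1 Agent.LeechCount.vecV_leech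
    Agent.LeechCount.vecV_norm Agent.LeechCount.vecU'_facts.2.2)
  let y : Fin 11 → ↥Cfsg.leechLattice := fun r => g⁻¹ • ⟨root r, root_mem r⟩
  have hy : ∀ r, y r ∈ {z : ↥Cfsg.leechLattice | Cfsg.sqNorm (z : Cfsg.GolayPt → ℤ) = 32 ∧
      Cfsg.dotInt (u : Cfsg.GolayPt → ℤ) (z : Cfsg.GolayPt → ℤ) = -16} := fun r => by
    refine ⟨(Agent.Leech.co0_smul_norm _ _).trans (root_vals r).1, ?_⟩
    have : u = g⁻¹ • U0 := by rw [← gu, inv_smul_smul]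
    rw [this, Agent.Leech.co0_smul_dot]; exact (root_vals r).2.1
  have hn : ∀ r, rep r = r →
      (MulAction.orbit ↥(MulAction.stabilizer ↥Cfsg.Co0 u ⊓ MulAction.stabilizer ↥Cfsg.Co0 x) (y r)).ncard =
        ∑ k ∈ Finset.univ.filter (fun k => dd k = dd r), sz k := fun r hr => by
    rw [orbit_conj gu gx, Set.ncard_smul_set, orbit_ncard r hr]
  refine ⟨y 6, hy 6, y 1, hy 1, y 8, hy 8, y 4, hy 4, ?_, ?_, ?_, ?_, ?_⟩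
  · rw [hn 6 rfl]; decide +kernel
  · rw [hn 1 rfl]; decide +kernel
  · rw [hn 8 rfl]; decide +kernel
  · rw [hn 4 rfl]; decide +kernel
  refine Set.Subset.antisymm (fun z hz => ?_) ?_
  · have hgz : ((g • z : ↥Cfsg.leechLattice) : Agent.Leech.Vec) ∈ Agent.LeechCount.dotFS (-16) Cfsg.Spor.vecV := by
      refine Agent.LeechCount.mem_dotFS.2 ⟨⟨SetLike.coe_mem _, (Agent.Leech.co0_smul_norm _ _).trans hz.1⟩, ?_⟩
      show Cfsg.dotInt ((U0 : ↥Cfsg.leechLattice) : Agent.Leech.Vec) _ = -16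
      rw [← gu, Agent.Leech.co0_smul_dot]; exact hz.2
    rcases cover hgz with h | ⟨k, hk⟩
    · have : z = x := smul_left_cancel g ((Subtype.ext h).trans gx.symm)
      exact Or.inl (Or.inl (Or.inl (Or.inl this)))
    · have hmem : g • z ∈ MulAction.orbit
          ↥(MulAction.stabilizer ↥Cfsg.Co0 U0 ⊓ MulAction.stabilizer ↥Cfsg.Co0 X0)
          (⟨root (rep k), root_mem (rep k)⟩ : ↥Cfsg.leechLattice) := by
        obtain ⟨⟨a, a1, a2, a3⟩, -⟩ := (members_facts k).2 _ hk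
        exact ⟨⟨a, (Agent.LeechCount.smul_eq_iff_ap a U0 U0).2 a1, (Agent.LeechCount.smul_eq_iff_ap a X0 X0).2 a2⟩,
          Subtype.ext ((Agent.Leech.ap_coe a _).symm.trans a3)⟩
      have hz' : z ∈ MulAction.orbit
          ↥(MulAction.stabilizer ↥Cfsg.Co0 u ⊓ MulAction.stabilizer ↥Cfsg.Co0 x) (y (rep k)) := by
        rw [orbit_conj gu gx]; exact ⟨g • z, hmem, inv_smul_smul g z⟩
      have hk4 : rep k = 6 ∨ rep k = 1 ∨ rep k = 8 ∨ rep k = 4 :=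
        (show ∀ k : Fin 11, rep k = 6 ∨ rep k = 1 ∨ rep k = 8 ∨ rep k = 4 by decide +kernel) k
      rcases hk4 with e | e | e | e <;> rw [e] at hz'
      exacts [Or.inl (Or.inl (Or.inl (Or.inr hz'))), Or.inl (Or.inl (Or.inr hz')),
        Or.inl (Or.inr hz'), Or.inr hz']
  · have horb : ∀ r, MulAction.orbit
        ↥(MulAction.stabilizer ↥Cfsg.Co0 u ⊓ MulAction.stabilizer ↥Cfsg.Co0 x) (y r) ⊆
        {z : ↥Cfsg.leechLattice | Cfsg.sqNorm (z : Cfsg.GolayPt → ℤ) = 32 ∧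
          Cfsg.dotInt (u : Cfsg.GolayPt → ℤ) (z : Cfsg.GolayPt → ℤ) = -16} := by
      rintro r _ ⟨a, rfl⟩
      refine ⟨(Agent.Leech.co0_smul_norm _ _).trans (hy r).1, ?_⟩
      show Cfsg.dotInt (u : Cfsg.GolayPt → ℤ) (((a : ↥Cfsg.Co0) • y r : ↥Cfsg.leechLattice) : Agent.Leech.Vec) = -16
      rw [Agent.LeechCount.dot_of_fix _ (show (a : ↥Cfsg.Co0) • u = u from a.2.1)]; exact (hy r).2
    simp only [Set.union_subset_iff, Set.singleton_subset_iff]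
    exact ⟨⟨⟨⟨hx, horb 6⟩, horb 1⟩, horb 8⟩, horb 4⟩

end Cfsg.Agent.S1641
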