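import Cfsg.Statements.S1642
import Cfsg.Agent.Lib.LeechCount.HSGroup
import Cfsg.Agent.Lib.Leech.UStab
import Cfsg.Agent.Lib.Golay.Trans
-- import your own Cfsg.Agent.* helpers here

set_option autoImplicit false
open Cfsg
open scoped symmDiff

namespace Cfsg.Agent.S1642

/-- Some involution of the Higman–Sims group acts without fixed points on its 100 points. -/
theorem result (v w : ↥Cfsg.leechLattice) (hv : Cfsg.sqNorm (v : Cfsg.GolayPt → ℤ) = 48) (hw : Cfsg.sqNorm (w : Cfsg.GolayPt → ℤ) = 48) (hvw : Cfsg.dotInt (v : Cfsg.GolayPt → ℤ) (w : Cfsg.GolayPt → ℤ) = -32) : ∃ g : ↥Cfsg.Co0, g • v = v ∧ g • w = w ∧ orderOf g = 2 ∧ ∀ x ∈ {x : ↥Cfsg.leechLattice | Cfsg.sqNorm (x : Cfsg.GolayPt → ℤ) = 32 ∧ Cfsg.dotInt (v : Cfsg.GolayPt → ℤ) (x : Cfsg.GolayPt → ℤ) = 24 ∧ Cfsg.dotInt (w : Cfsg.GolayPt → ℤ) (x : Cfsg.GolayPt → ℤ) = -24}, g • x ≠ x := by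
  open Cfsg.Agent.Leech in
  classical
  -- the complement of a dodecad
  obtain ⟨D, hD, hDc⟩ : ∃ D, InC D ∧ D.card = 12 := ⟨_, Golay24.sqDod_mem.1, Golay24.sqDod_mem.2⟩
  obtain ⟨a, ha, b, hb, hab⟩ := Finset.one_lt_card.1 (by omega : 1 < D.card)
  set S : Finset GolayPt := Finset.univ ∆ D with hSdef
  have hmS : ∀ i, i ∈ S ↔ i ∉ D := fun i => by simp [hSdef, Finset.mem_symmDiff]
  have hS : InC S := InC_symmDiff InC_univ hD
  obtain ⟨hu1, -⟩ := twoVec_latM hD
  let u : ↥leechLattice := ⟨twoVec D, (mem_leech_iff _).2 ⟨0, hu1⟩⟩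
  let X : ↥leechLattice := ⟨-e44 a b, neg_mem (e44_mem hab)⟩
  have hun : sqNorm (u : Vec) = 48 := by
    show ∑ i, (twoVec D i) ^ 2 = 48
    simp only [twoVec, apply_ite (fun t : ℤ => t ^ 2)]
    norm_num [hDc]
  have hXn : sqNorm (X : Vec) = 32 := by
    show sqNorm (-e44 a b) = 32
    rw [sqNorm_neg, sqNorm, ← Finset.sum_subset (Finset.subset_univ ({a, b} : Finset GolayPt))
      (fun i _ hi => by simp only [Finset.mem_insert, Finset.mem_singleton] at hi; simp [e44, hi])]
    rw [Finset.sum_pair hab]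
    simp [e44]
  have hXu : dotInt (X : Vec) u = -16 := by
    show ∑ i, (-e44 a b) i * twoVec D i = -16
    rw [← Finset.sum_subset (Finset.subset_univ ({a, b} : Finset GolayPt))
      (fun i _ hi => by simp only [Finset.mem_insert, Finset.mem_singleton] at hi; simp [e44, hi])]
    rw [Finset.sum_pair hab]
    simp [e44, twoVec, ha, hb]
  -- move the given pair onto it
  let x : ↥leechLattice := -(v + w)
  have hxn : sqNorm (x : Vec) = 32 := by
    simp only [x]
    rw [AddSubgroup.coe_neg, AddSubgroup.coe_add, sqNorm_neg, sqNorm_add, hv, hw, hvw]; norm_num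
  have hxv : dotInt (x : Vec) v = -16 := by
    simp only [x]
    rw [AddSubgroup.coe_neg, AddSubgroup.coe_add, dot_neg_left, dot_add_left,
      dot_comm (w : Cfsg.GolayPt → ℤ), hvw, LeechCount.dot_self, hv]
    norm_num
  obtain ⟨h, h1, h2⟩ := coPair_subtype (coPair_six x.2 hxn v.2 hv hxv X.2 hXn u.2 hun hXu)
  let t : ↥Co0 := signCo S hS
  have ht : ∀ z : ↥leechLattice, ∀ i, ((t • z : ↥leechLattice) : Vec) i =
      if i ∈ S then -(z : Vec) i else (z : Vec) i := fun z i => by
    rw [← ap_coe]; exact ap_signCo hS z.2 i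
  have tu : t • u = u := Subtype.ext (funext fun i => by
    rw [ht]; by_cases hi : i ∈ S <;> simp [hi, u, twoVec, (hmS i).1])
  have tX : t • X = X := Subtype.ext (funext fun i => by
    rw [ht]; by_cases hi : i ∈ S
    · have := (hmS i).1 hi
      have : i ≠ a ∧ i ≠ b := ⟨fun e => this (e ▸ ha), fun e => this (e ▸ hb)⟩
      simp [hi, X, e44, this]
    · simp [hi])
  let g : ↥Co0 := h⁻¹ * t * h
  have gv : g • v = v := by simp only [g, mul_smul, h2, tu]; rw [← h2, inv_smul_smul]
  have gx : g • x = x := by simp only [g, mul_smul, h1, tX]; rw [← h1, inv_smul_smul]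
  have ht2 : t * t = 1 := ext_ap fun z hz => funext fun i => by
    rw [ap_mul _ _ hz, ap_signCo hS (ap_mem _ hz), ap_signCo hS hz, ap_one]
    by_cases hi : i ∈ S <;> simp [hi]
  have fix : ∀ z : ↥leechLattice, t • z = z → sqNorm (z : Vec) = 32 → dotInt (u : Vec) z ≠ 24 := by
    intro z hz hzn hd
    have h0 : ∀ i, i ∉ D → (z : Vec) i = 0 := fun i hi => by
      have := congrFun (congrArg Subtype.val hz) i
      rw [ht, if_pos ((hmS i).2 hi)] at this
      omega
    obtain ⟨p, hp⟩ : ∃ p, p ∉ D := by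
      by_contra hh; push Not at hh
      have : D = Finset.univ := Finset.eq_univ_of_forall hh
      rw [this, Finset.card_univ, card_pt] at hDc; omega
    have hM : LatM 0 (z : Vec) := latM_of_mem z.2 (i := p) (by rw [h0 p hp]; norm_num)
    have hsub : pat 0 (z : Vec) ⊆ D := fun i hi => by
      by_contra hn; rw [mem_pat, h0 i hn] at hi; exact hi (by norm_num)
    have hcard : (pat 0 (z : Vec)).card = 0 := by
      have w1 := InC_weights hM.2.2
      have w2 := InC_weights (InC_symmDiff hM.2.2 hD)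
      have hle' := Finset.card_le_card hsub
      rw [symmDiff_of_le hsub, Finset.card_sdiff_of_subset hsub] at w2
      rcases w1 with e | e | e | e | e <;> try omega
      exfalso
      have hlo : ∀ i ∈ pat 0 (z : Vec), (4 : ℤ) ≤ (z : Vec) i ^ 2 := fun i hi => by
        have := hM.1 i
        rw [mem_pat] at hi
        have : (2 : ℤ) ≤ |(z : Vec) i| := by rcases abs_cases ((z : Vec) i) with ⟨e', _⟩ | ⟨e', _⟩ <;> omega
        nlinarith [sq_abs ((z : Vec) i)]
      have := Finset.card_nsmul_le_sum _ _ _ hlo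
      have := Finset.sum_le_sum_of_subset_of_nonneg (Finset.subset_univ (pat 0 (z : Vec)))
        (f := fun i => (z : Vec) i ^ 2) (fun i _ _ => sq_nonneg _)
      rw [e, nsmul_eq_mul] at *
      simp only [sqNorm] at hzn
      norm_num at *
      omega
    have h4 : ∀ i, (4 : ℤ) ∣ (z : Vec) i := fun i => by
      have : i ∉ pat 0 (z : Vec) := by rw [Finset.card_eq_zero.1 hcard]; simp
      rw [mem_pat, not_not] at this; simpa using this
    have hlt : ∀ i, 2 * ((twoVec D i) * (z : Vec) i) ≤ (z : Vec) i ^ 2 := fun i => by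
      by_cases hi : i ∈ D
      · obtain ⟨k, hk⟩ := h4 i
        simp [twoVec, hi, hk]
        nlinarith [Int.le_self_sq k]
      · simp [h0 i hi]
    have := Finset.sum_le_sum fun i (_ : i ∈ Finset.univ) => hlt i
    rw [← Finset.mul_sum] at this
    simp only [dotInt] at hd
    simp only [sqNorm] at hzn
    simp only [u] at hd
    omega
  refine ⟨g, gv, ?_, ?_, ?_⟩
  · have e : w = -x + -v := by simp [x]
    calc g • w = g • (-x + -v) := congrArg _ e
      _ = -x + -v := by rw [co0_smul_add g (-x) (-v), co0_smul_neg g x, co0_smul_neg g v, gx, gv]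
      _ = w := e.symm
  · refine orderOf_eq_prime ?_ fun e => ?_
    · rw [pow_two]
      calc h⁻¹ * t * h * (h⁻¹ * t * h) = h⁻¹ * (t * t) * h := by group
        _ = 1 := by rw [ht2]; group
    · have t1 : t = 1 := by
        calc t = h * (h⁻¹ * t * h) * h⁻¹ := by group
          _ = 1 := by rw [show h⁻¹ * t * h = 1 from e]; group
      obtain ⟨p, hp⟩ : ∃ p, p ∈ S := by
        by_contra hh
        push Not at hh
        have : D = Finset.univ := Finset.eq_univ_of_forall fun i => by
          by_contra hi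
          exact hh i ((hmS i).2 hi)
        rw [this, Finset.card_univ, card_pt] at hDc
        omega
      have := congrFun (congrArg Subtype.val (show t • ⟨e8 p, e8_mem p⟩ = (⟨e8 p, e8_mem p⟩ : ↥leechLattice) by rw [t1, one_smul])) p
      rw [ht, if_pos hp] at this
      simp [e8] at this
  · rintro y ⟨hy1, hy2, -⟩ he
    refine fix (h • y) ?_ (by rw [co0_smul_norm, hy1]) ?_
    · simp only [g, mul_smul] at he
      conv_rhs => rw [← he, smul_inv_smul]
    · rw [← h2, co0_smul_dot, hy2]

end Cfsg.Agent.S1642
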