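import Cfsg.Statements.S1679
import Cfsg.Agent.Lib.G2Four.SuzSub
import Mathlib.FieldTheory.Finite.GaloisField

set_option autoImplicit false
open Cfsg

namespace Cfsg.Agent.S1679

/-- In the presented sporadic Suzuki group (generators a, …, g), the subgroup generated by the images of a, …, f is isomorphic to the adjoint Chevalley group of type G₂ over a field with four elements. -/
theorem result : ∃ (K : Type) (_ : Field K) (_ : Fintype K), Fintype.card K = 4 ∧ Nonempty ((((Subgroup.closure ({Cfsg.Spor.Suz.a, Cfsg.Spor.Suz.b, Cfsg.Spor.Suz.c, Cfsg.Spor.Suz.d, Cfsg.Spor.Suz.e, Cfsg.Spor.Suz.f} : Set (FreeGroup Cfsg.Spor.Suz.Gen))).map (PresentedGroup.mk (Cfsg.Spor.coxRelators Cfsg.Spor.Suz.edges ∪ {r | r ∈ Cfsg.Spor.Suz.extra})))) ≃* Cfsg.Lie.chevG2.group K) := by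
  haveI : Fact (Nat.Prime 2) := ⟨Nat.prime_two⟩
  let F := GaloisField 2 2
  letI : Fintype F := Fintype.ofFinite F
  have hF : Fintype.card F = 4 := by
    rw [← Nat.card_eq_fintype_card, GaloisField.card 2 2 (by norm_num)]
    norm_num
  obtain ⟨e⟩ := G2Four.sub_equiv hF
  refine ⟨F, inferInstance, inferInstance, hF, ⟨(MulEquiv.subgroupCongr ?_).trans e⟩⟩
  rw [MonoidHom.map_closure]
  show _ = Subgroup.closure _
  refine congrArg Subgroup.closure ?_
  ext x
  rw [show Enum.SuzA.data.subs = [[0], [1], [2], [3], [4], [5]] from rfl]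
  constructor
  · intro hx
    simp only [Set.image_insert_eq, Set.image_singleton, Set.mem_insert_iff, Set.mem_singleton_iff] at hx
    rcases hx with rfl | rfl | rfl | rfl | rfl | rfl
    · exact ⟨[0], by simp, (mul_one _).symm⟩
    · exact ⟨[1], by simp, (mul_one _).symm⟩
    · exact ⟨[2], by simp, (mul_one _).symm⟩
    · exact ⟨[3], by simp, (mul_one _).symm⟩
    · exact ⟨[4], by simp, (mul_one _).symm⟩
    · exact ⟨[5], by simp, (mul_one _).symm⟩
  · rintro ⟨w, hw, rfl⟩
    simp only [List.mem_cons, List.not_mem_nil, or_false] at hw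
    rcases hw with rfl | rfl | rfl | rfl | rfl | rfl
    · exact ⟨Cfsg.Spor.Suz.a, by simp, (mul_one _).symm⟩
    · exact ⟨Cfsg.Spor.Suz.b, by simp, (mul_one _).symm⟩
    · exact ⟨Cfsg.Spor.Suz.c, by simp, (mul_one _).symm⟩
    · exact ⟨Cfsg.Spor.Suz.d, by simp, (mul_one _).symm⟩
    · exact ⟨Cfsg.Spor.Suz.e, by simp, (mul_one _).symm⟩
    · exact ⟨Cfsg.Spor.Suz.f, by simp, (mul_one _).symm⟩

end Cfsg.Agent.S1679
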