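import Mathlib
import Cfsg.Statements.S1691
import Mathlib.GroupTheory.Abelianization.Defs

set_option autoImplicit false
open Cfsg

namespace Cfsg.Agent.S1691

/-- The commutator subgroup of the presented group Fi₂₄ has index 2 (the presented group is Fi₂₄′:2 with Fi₂₄′ its derived subgroup). -/
theorem result : (commutator Cfsg.Spor.Fi24).index = 2 := by
  open Cfsg.Spor.Fi24 in
  let φ : Cfsg.Spor.Fi24 →* ℤˣ := PresentedGroup.toGroup (f := fun _ : Gen => (-1 : ℤˣ)) (by
    intro r hr
    rcases hr with ⟨x, -, y, -, rfl⟩ | hr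
    · simp
    · simp only [Set.mem_ofPred_eq, extra, List.mem_cons, List.not_mem_nil, or_false] at hr
      rcases hr with rfl | rfl <;> simp <;> decide)
  have hφ : φ (PresentedGroup.of Cfsg.Spor.Fi24.Gen.a) = -1 := PresentedGroup.toGroup.of _
  let π : Cfsg.Spor.Fi24 →* Abelianization Cfsg.Spor.Fi24 := Abelianization.of
  let v : Cfsg.Spor.Fi24.Gen → Abelianization Cfsg.Spor.Fi24 := fun x => π (PresentedGroup.of x)
  have rel : ∀ x y, x ∈ Cfsg.Spor.coxNodes Cfsg.Spor.Fi24.edges → y ∈ Cfsg.Spor.coxNodes Cfsg.Spor.Fi24.edges →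
      (v x * v y) ^ Cfsg.Spor.coxLabel Cfsg.Spor.Fi24.edges x y = 1 := by
    intro x y hx hy
    have h0 := PresentedGroup.one_of_mem (rels := Cfsg.Spor.coxRelators Cfsg.Spor.Fi24.edges ∪ {r | r ∈ Cfsg.Spor.Fi24.extra})
      (Or.inl ⟨x, hx, y, hy, rfl⟩)
    have := congrArg π h0
    simpa [v, PresentedGroup.of] using this
  have sq1 : ∀ x, v x * v x = 1 := fun x => by
    have := rel x x (by cases x <;> decide) (by cases x <;> decide)
    simpa [Cfsg.Spor.coxLabel] using this
  have step : ∀ x y, Cfsg.Spor.coxLabel Cfsg.Spor.Fi24.edges x y = 3 → v x = v y := by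
    intro x y h
    have := rel x y (by cases x <;> decide) (by cases y <;> decide)
    rw [h, mul_pow, pow_succ (v x), pow_succ (v y), sq, sq, sq1, sq1, one_mul, one_mul] at this
    calc v x = v x * (v y * v y) := by rw [sq1, mul_one]
      _ = v y := by rw [← mul_assoc, this, one_mul]
  have all : ∀ x, v x = v .a := by
    have e1 := step .l .k (by decide); have e2 := step .k .a (by decide); have e3 := step .a .b (by decide)
    have e4 := step .b .c (by decide); have e5 := step .c .d (by decide); have e6 := step .d .e (by decide)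
    have e7 := step .d .h (by decide); have e8 := step .e .f (by decide); have e9 := step .f .g (by decide)
    have e10 := step .g .j (by decide); have e11 := step .h .i (by decide)
    intro x; cases x <;> simp_all
  have top : ∀ z : Abelianization Cfsg.Spor.Fi24, z = 1 ∨ z = v .a := by
    let H : Subgroup (Abelianization Cfsg.Spor.Fi24) := Subgroup.zpowers (v .a)
    have hgen : ∀ g, π g ∈ H := by
      intro g
      exact PresentedGroup.generated_by _ (H.comap π) (fun y => by
        show v y ∈ H
        rw [all y]; exact Subgroup.mem_zpowers _) g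
    intro z
    obtain ⟨g, rfl⟩ := QuotientGroup.mk_surjective z
    obtain ⟨k, hk⟩ := Subgroup.mem_zpowers_iff.mp (hgen g)
    change π g = 1 ∨ π g = v .a
    rcases Int.even_or_odd' k with ⟨m, rfl | rfl⟩
    · left; rw [← hk, zpow_mul, zpow_two, sq1, one_zpow]
    · right; rw [← hk, zpow_add, zpow_mul, zpow_two, sq1, one_zpow, one_mul, zpow_one]
  have hne : v .a ≠ 1 := fun h => by
    have := congrArg (Abelianization.lift φ) h
    simp [v, π, hφ] at this
  show Nat.card (Abelianization Cfsg.Spor.Fi24) = 2
  rw [Nat.card_eq_two_iff]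
  exact ⟨1, v .a, hne.symm, Set.eq_univ_of_forall fun z => by simpa using top z⟩

end Cfsg.Agent.S1691
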