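import Cfsg.Statements.S1717
-- import your own Cfsg.Agent.* helpers here

set_option autoImplicit false
open Cfsg

namespace Cfsg.Agent.S1717

/-- position of a basis index in the ordering `0,2,3,4,1` -/
def pos : Fin 5 → ℕ := ![0, 4, 1, 2, 3]

/-- upper unitriangular with respect to `pos` -/
def Uni (M : Matrix (Fin 5) (Fin 5) (ZMod 2)) : Prop :=
  ∀ i j, pos j ≤ pos i → M i j = if i = j then 1 else 0

theorem uni_one : Uni 1 := fun i j _ => by rw [Matrix.one_apply]

theorem uni_mul {M N : Matrix (Fin 5) (Fin 5) (ZMod 2)} (hM : Uni M) (hN : Uni N) :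
    Uni (M * N) := by
  intro i j hij
  rw [Matrix.mul_apply]
  by_cases h : i = j
  · subst h
    rw [if_pos rfl, Finset.sum_eq_single i]
    · rw [hM i i le_rfl, hN i i le_rfl, if_pos rfl, mul_one]
    · intro m _ hm
      rcases le_total (pos m) (pos i) with h1 | h1
      · rw [hM i m h1, if_neg (Ne.symm hm), zero_mul]
      · rw [hN m i h1, if_neg hm, mul_zero]
    · intro hh; exact absurd (Finset.mem_univ i) hh
  · rw [if_neg h]
    refine Finset.sum_eq_zero fun m _ => ?_
    rcases le_total (pos m) (pos i) with h1 | h1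
    · by_cases hm : i = m
      · subst hm; rw [hN i j hij, if_neg h, mul_zero]
      · rw [hM i m h1, if_neg hm, zero_mul]
    · by_cases hm : m = j
      · subst hm; rw [hM i m hij, if_neg h, zero_mul]
      · rw [hN m j (hij.trans h1), if_neg hm, mul_zero]

theorem uni_pow_two {M : Matrix (Fin 5) (Fin 5) (ZMod 2)} (hM : Uni M) : M ^ (2 ^ 3) = 1 := by
  have hN : ∀ k i j, pos j < pos i + k → ((M - 1) ^ k) i j = 0 := by
    intro k
    induction k with
    | zero =>
      intro i j h
      have hne : i ≠ j := fun e => by subst e; omega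
      rw [pow_zero, Matrix.one_apply_ne hne]
    | succ k ih =>
      intro i j h
      rw [pow_succ, Matrix.mul_apply]
      refine Finset.sum_eq_zero fun m _ => ?_
      by_cases h1 : pos m < pos i + k
      · rw [ih i m h1, zero_mul]
      · have h2 : pos j ≤ pos m := by omega
        rw [Matrix.sub_apply, hM m j h2, Matrix.one_apply, sub_self, mul_zero]
  have h8 : (M - 1) ^ (2 ^ 3) = 0 := by
    ext i j
    have hb : pos j < pos i + 2 ^ 3 := by revert i j; decide
    rw [hN _ i j hb]; rfl
  have := add_pow_char_pow_of_commute 2 3 (Commute.one_right (M - 1))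
  rw [sub_add_cancel, h8, one_pow, zero_add] at this
  exact this

theorem uni_transvection {i j : Fin 5} (h : pos i < pos j) :
    Uni (Matrix.transvection i j 1) := by
  intro a b hab
  have : ¬ (i = a ∧ j = b) := by rintro ⟨rfl, rfl⟩; omega
  simp [Matrix.transvection, Matrix.one_apply, this]

abbrev SL5 := Matrix.SpecialLinearGroup (Fin 5) (ZMod 2)

/-- the unitriangular submonoid -/
def uniM : Submonoid SL5 where
  carrier := {g | Uni (g : Matrix (Fin 5) (Fin 5) (ZMod 2))}
  one_mem' := uni_one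
  mul_mem' := fun {a b} ha hb => by
    show Uni ((a * b : SL5) : Matrix (Fin 5) (Fin 5) (ZMod 2))
    rw [Matrix.SpecialLinearGroup.coe_mul]; exact uni_mul ha hb

theorem uni_pow {g : SL5} (hg : g ∈ uniM) : g ^ (2 ^ 3) = 1 :=
  Subtype.ext (by rw [Matrix.SpecialLinearGroup.coe_pow]; exact uni_pow_two hg)

/-- the unitriangular subgroup -/
def uniG : Subgroup SL5 :=
  { uniM with
    inv_mem' := fun {g} hg => by
      have h : g⁻¹ = g ^ 7 := inv_eq_of_mul_eq_one_right (by rw [← pow_succ']; exact uni_pow hg)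
      show g⁻¹ ∈ uniM
      rw [h]; exact pow_mem hg 7 }

theorem mat_commute_single {i j : Fin 5} {g : Matrix (Fin 5) (Fin 5) (ZMod 2)}
    (h : g * Matrix.transvection i j 1 = Matrix.transvection i j 1 * g) :
    (∀ k, k ≠ i → g k i = 0) ∧ (∀ l, l ≠ j → g j l = 0) ∧ g i i = g j j := by
  rw [Matrix.transvection, mul_add, add_mul, mul_one, one_mul] at h
  have h' : g * Matrix.single i j 1 = Matrix.single i j 1 * g := add_left_cancel h
  refine ⟨fun k hk => ?_, fun l hl => ?_, ?_⟩
  · have := congrFun (congrFun h' k) j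
    rwa [Matrix.mul_single_apply_same, mul_one, Matrix.single_mul_apply_of_ne _ _ _ _ _ hk] at this
  · have := congrFun (congrFun h' i) l
    rw [Matrix.single_mul_apply_same, one_mul, Matrix.mul_single_apply_of_ne _ _ _ _ _ hl] at this
    exact this.symm
  · have := congrFun (congrFun h' i) j
    rwa [Matrix.mul_single_apply_same, Matrix.single_mul_apply_same, mul_one, one_mul] at this

theorem cent_uni {g : Matrix (Fin 5) (Fin 5) (ZMod 2)}
    (h : ∀ i j : Fin 5, pos i < pos j → g * Matrix.transvection i j 1 = Matrix.transvection i j 1 * g)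
    (hdet : g.det = 1) : g = 1 ∨ g = Matrix.transvection 0 1 1 := by
  obtain ⟨a1, b1, c1⟩ := mat_commute_single (h 0 2 (by decide))
  obtain ⟨a2, b2, c2⟩ := mat_commute_single (h 2 3 (by decide))
  obtain ⟨a3, b3, c3⟩ := mat_commute_single (h 3 4 (by decide))
  obtain ⟨a4, b4, c4⟩ := mat_commute_single (h 4 1 (by decide))
  have key : g = g 0 0 • 1 + g 0 1 • Matrix.single 0 1 1 := by
    ext k l
    fin_cases k <;> fin_cases l <;>
      simp_all [Matrix.single, Matrix.one_apply]
  have h01 : ∀ x : ZMod 2, x = 0 ∨ x = 1 := by decide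
  rcases h01 (g 0 0) with e | e
  · exfalso
    have hrow : ∀ l, g 2 l = 0 := by
      intro l
      by_cases hl : l = 2
      · subst hl; rw [← c1, e]
      · exact b1 l hl
    rw [Matrix.det_eq_zero_of_row_eq_zero 2 hrow] at hdet
    exact zero_ne_one hdet
  · rcases h01 (g 0 1) with e' | e'
    · left; rw [key, e, e']; simp
    · right; rw [key, e, e']; simp [Matrix.transvection]

theorem cent_sylow_center (s : SL5)
    (hs : (s : Matrix (Fin 5) (Fin 5) (ZMod 2)) = Matrix.transvection 0 1 1)
    (T : Sylow 2 (Subgroup.centralizer ({s} : Set SL5)))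
    (x : Subgroup.centralizer ({s} : Set SL5)) (hxc : ∀ t ∈ (T : Subgroup _), t * x = x * t) :
    x = 1 ∨ (x : SL5) = s := by
  have hle : uniG ≤ Subgroup.centralizer ({s} : Set SL5) := by
    intro g hg
    rw [Subgroup.mem_centralizer_iff]
    rintro y (rfl : y = s)
    apply Subtype.ext
    have hg' : Uni (g : Matrix (Fin 5) (Fin 5) (ZMod 2)) := hg
    rw [Matrix.SpecialLinearGroup.coe_mul, Matrix.SpecialLinearGroup.coe_mul, hs,
      Matrix.transvection, mul_add, add_mul, mul_one, one_mul]
    congr 1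
    ext k l
    by_cases hk : k = 0
    · subst hk
      by_cases hl : l = 1
      · subst hl
        rw [Matrix.single_mul_apply_same, Matrix.mul_single_apply_same, one_mul, mul_one,
          hg' 1 1 le_rfl, hg' 0 0 le_rfl, if_pos rfl, if_pos rfl]
      · rw [Matrix.single_mul_apply_same, Matrix.mul_single_apply_of_ne _ _ _ _ _ hl, one_mul,
          hg' 1 l (by revert l; decide), if_neg (Ne.symm hl)]
    · rw [Matrix.single_mul_apply_of_ne _ _ _ _ _ hk]
      by_cases hl : l = 1
      · subst hl
        rw [Matrix.mul_single_apply_same, mul_one, hg' k 0 (by revert k; decide), if_neg hk]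
      · rw [Matrix.mul_single_apply_of_ne _ _ _ _ _ hl]
  let V : Subgroup (Subgroup.centralizer ({s} : Set SL5)) :=
    uniG.subgroupOf (Subgroup.centralizer ({s} : Set SL5))
  have hV : IsPGroup 2 V := fun v => ⟨3, Subtype.ext (Subtype.ext (uni_pow v.2))⟩
  obtain ⟨P, hP⟩ := hV.exists_le_sylow
  obtain ⟨c, hc⟩ := MulAction.exists_smul_eq (Subgroup.centralizer ({s} : Set SL5)) T P
  have hx' : ∀ v ∈ V, v * (c * x * c⁻¹) = (c * x * c⁻¹) * v := by
    intro v hv
    have hv' : v ∈ ((c • T : Sylow 2 _) : Subgroup _) := by rw [hc]; exact hP hv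
    obtain ⟨t, ht, rfl⟩ := hv'
    have := hxc t ht
    show c * t * c⁻¹ * (c * x * c⁻¹) = (c * x * c⁻¹) * (c * t * c⁻¹)
    calc c * t * c⁻¹ * (c * x * c⁻¹) = c * (t * x) * c⁻¹ := by group
      _ = c * (x * t) * c⁻¹ := by rw [this]
      _ = _ := by group
  set y : SL5 := ((c * x * c⁻¹ : Subgroup.centralizer ({s} : Set SL5)) : SL5) with hy
  have hcomm : ∀ i j : Fin 5, pos i < pos j →
      (y : Matrix (Fin 5) (Fin 5) (ZMod 2)) * Matrix.transvection i j 1 =
        Matrix.transvection i j 1 * (y : Matrix (Fin 5) (Fin 5) (ZMod 2)) := by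
    intro i j hij
    have hne : i ≠ j := fun e => by subst e; omega
    let u : SL5 := ⟨Matrix.transvection i j 1, Matrix.det_transvection_of_ne i j hne 1⟩
    have hu : u ∈ uniG := uni_transvection hij
    have := congrArg Subtype.val (hx' ⟨u, hle hu⟩ hu)
    exact (congrArg Subtype.val this).symm
  rcases cent_uni hcomm y.2 with h | h
  · left
    have : c * x * c⁻¹ = 1 := Subtype.ext (Subtype.ext h)
    simpa [mul_assoc] using congrArg (fun w => c⁻¹ * w * c) this
  · right
    have hys : y = s := Subtype.ext (h.trans hs.symm)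
    have hc' : (c : SL5) * s = s * c :=
      ((Subgroup.mem_centralizer_iff.1 c.2) s rfl).symm
    have hy2 : (c : SL5) * (x : SL5) * (c : SL5)⁻¹ = s := (show _ = y from rfl).trans hys
    calc (x : SL5) = (c : SL5)⁻¹ * ((c : SL5) * (x : SL5) * (c : SL5)⁻¹) * c := by group
      _ = (c : SL5)⁻¹ * (s * c) := by rw [hy2]; group
      _ = s := by rw [← hc']; group


/-- Let G be a finite group with an involution z whose centraliser C is isomorphic to the centraliser of a transvection of SL(5, 2). Then a Sylow 2-subgroup of C, viewed in G, is a Sylow 2-subgroup of G (its index in G is odd). -/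
theorem result {G : Type*} [Group G] [Finite G] (s : Matrix.SpecialLinearGroup (Fin 5) (ZMod 2)) (hs : (s : Matrix (Fin 5) (Fin 5) (ZMod 2)) = Matrix.transvection 0 1 1) (z : G) (hz : orderOf z = 2) (e : (Subgroup.centralizer ({z} : Set G)) ≃* Subgroup.centralizer ({s} : Set (Matrix.SpecialLinearGroup (Fin 5) (ZMod 2)))) (T : Sylow 2 (Subgroup.centralizer ({z} : Set G))) : ¬ 2 ∣ ((T : Subgroup (Subgroup.centralizer ({z} : Set G))).map (Subgroup.subtype (Subgroup.centralizer ({z} : Set G)))).index := by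
  haveI : Fact (Nat.Prime 2) := ⟨Nat.prime_two⟩
  let C := Subgroup.centralizer ({z} : Set G)
  set TG : Subgroup G := (T : Subgroup C).map C.subtype with hTG
  have hTGp : IsPGroup 2 TG := T.isPGroup'.map _
  have hzC : z ∈ C := Subgroup.mem_centralizer_iff.2 (by rintro h (rfl : h = z); rfl)
  have hz1 : z ≠ 1 := fun h => by rw [h, orderOf_one] at hz; omega
  have hcen : ∀ c : C, c * ⟨z, hzC⟩ = ⟨z, hzC⟩ * c := fun c =>
    Subtype.ext ((Subgroup.mem_centralizer_iff.1 c.2) z rfl).symm
  have hzT : (⟨z, hzC⟩ : C) ∈ (T : Subgroup C) := by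
    have hp : IsPGroup 2 (Subgroup.zpowers (⟨z, hzC⟩ : C)) := by
      refine IsPGroup.of_card (n := 1) ?_
      rw [Nat.card_zpowers, ← Subgroup.orderOf_coe, hz, pow_one]
    obtain ⟨P, hP⟩ := hp.exists_le_sylow
    obtain ⟨c, hc⟩ := MulAction.exists_smul_eq C P T
    have h1 : (⟨z, hzC⟩ : C) ∈ (P : Subgroup C) := hP (Subgroup.mem_zpowers _)
    rw [← hc]
    exact ⟨⟨z, hzC⟩, h1, by
      show c * ⟨z, hzC⟩ * c⁻¹ = ⟨z, hzC⟩
      rw [hcen c, mul_inv_cancel_right]⟩
  have hzero : ∀ x : C, (∀ t ∈ (T : Subgroup C), t * x = x * t) → x ≠ 1 →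
      (x : G) = z := by
    intro x hx hx1
    let T' : Sylow 2 (Subgroup.centralizer ({s} : Set (Matrix.SpecialLinearGroup (Fin 5) (ZMod 2)))) :=
      T.mapSurjective (f := e.toMonoidHom) e.surjective
    have key : ∀ y : C, (∀ t ∈ (T : Subgroup C), t * y = y * t) → y ≠ 1 →
        ((e y : Subgroup.centralizer _) : Matrix.SpecialLinearGroup (Fin 5) (ZMod 2)) = s := by
      intro y hy hy1
      refine (cent_sylow_center s hs T' (e y) ?_).resolve_left (fun h => hy1 ?_)
      · rintro t ⟨t0, ht0, rfl⟩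
        show e t0 * e y = e y * e t0
        rw [← map_mul, ← map_mul, hy t0 ht0]
      · exact e.injective (h.trans e.map_one.symm)
    have hzc : ∀ t ∈ (T : Subgroup C), t * (⟨z, hzC⟩ : C) = ⟨z, hzC⟩ * t := fun t _ => hcen t
    have hz1' : (⟨z, hzC⟩ : C) ≠ 1 := fun h => hz1 (congrArg Subtype.val h)
    have := e.injective (Subtype.ext ((key x hx hx1).trans (key _ hzc hz1').symm))
    rw [this]
  obtain ⟨S, hS⟩ := hTGp.exists_le_sylow
  have hn : Subgroup.normalizer (TG : Set G) ≤ C := by
    intro n hn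
    have hzTG : z ∈ TG := ⟨⟨z, hzC⟩, hzT, rfl⟩
    have hw : n * z * n⁻¹ ∈ TG := (Subgroup.mem_normalizer_iff.1 hn z).1 hzTG
    obtain ⟨w, hwT, hwn⟩ := hw
    have hwc : ∀ t ∈ (T : Subgroup C), t * w = w * t := by
      intro t ht
      have htG : (t : G) ∈ TG := ⟨t, ht, rfl⟩
      have h2 : n⁻¹ * (t : G) * n ∈ TG := by
        have := (Subgroup.mem_normalizer_iff.1 (inv_mem hn) (t : G)).1 htG
        rwa [inv_inv] at this
      obtain ⟨t', _, ht'⟩ := h2
      have hzt : z * (t' : G) = (t' : G) * z :=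
        (Subgroup.mem_centralizer_iff.1 t'.2) z rfl
      apply Subtype.ext
      show (t : G) * (w : G) = (w : G) * (t : G)
      have ht'' : (t : G) = n * (t' : G) * n⁻¹ := by
        rw [show ((t' : G)) = n⁻¹ * (t : G) * n from ht']; group
      rw [ht'', show (w : G) = n * z * n⁻¹ from hwn]
      calc n * (t' : G) * n⁻¹ * (n * z * n⁻¹) = n * ((t' : G) * z) * n⁻¹ := by group
        _ = n * (z * (t' : G)) * n⁻¹ := by rw [hzt]
        _ = _ := by group
    have hw1 : w ≠ 1 := fun h => hz1 (by
      have : n * z * n⁻¹ = 1 := by rw [← hwn, h]; rfl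
      simpa [mul_assoc] using congrArg (fun u => n⁻¹ * u * n) this)
    have h3 : n * z * n⁻¹ = z := hwn.symm.trans (hzero w hwc hw1)
    refine Subgroup.mem_centralizer_iff.2 ?_
    rintro h (rfl : h = z)
    exact (mul_inv_eq_iff_eq_mul.1 h3).symm
  have hST : (S : Subgroup G) = TG := by
    by_contra hne
    have hlt' : TG.subgroupOf (S : Subgroup G) < ⊤ := by
      refine lt_top_iff_ne_top.2 fun h => hne (le_antisymm ?_ hS)
      exact Subgroup.subgroupOf_eq_top.1 h
    haveI : Group.IsNilpotent (S : Subgroup G) := S.isPGroup'.isNilpotent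
    have hgrow := Group.normalizerCondition_of_isNilpotent _ hlt'
    obtain ⟨m, hm, hm'⟩ := SetLike.exists_of_lt hgrow
    apply hm'
    show (m : G) ∈ TG
    have hmN : (m : G) ∈ Subgroup.normalizer (TG : Set G) := by
      rw [Subgroup.mem_normalizer_iff]
      intro h
      constructor
      · intro hh
        exact (Subgroup.mem_normalizer_iff.1 hm ⟨h, hS hh⟩).1 hh
      · intro hh
        have hS' : h ∈ (S : Subgroup G) := by
          have := mul_mem (mul_mem (inv_mem m.2) (hS hh)) m.2
          simpa [mul_assoc] using this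
        exact (Subgroup.mem_normalizer_iff.1 hm ⟨h, hS'⟩).2 hh
    have hR : IsPGroup 2 ((TG ⊔ Subgroup.zpowers (m : G)).subgroupOf C) := by
      refine (S.isPGroup'.to_le (sup_le hS (Subgroup.zpowers_le.2 m.2))).comap_of_injective
        C.subtype Subtype.coe_injective
    have hle : (T : Subgroup C) ≤ (TG ⊔ Subgroup.zpowers (m : G)).subgroupOf C := fun t ht =>
      Subgroup.mem_sup_left ⟨t, ht, rfl⟩
    have heq := T.is_maximal' hR hle
    have : (⟨m, hn hmN⟩ : C) ∈ (T : Subgroup C) := by
      rw [← heq]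
      exact Subgroup.mem_sup_right (Subgroup.mem_zpowers _)
    exact ⟨_, this, rfl⟩
  show ¬ 2 ∣ TG.index
  rw [← hST]
  exact S.not_dvd_index

end Cfsg.Agent.S1717
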