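import Cfsg.Statements.S1754
import Mathlib
import Cfsg.Agent.Lib.Components.Layer

set_option autoImplicit false
open Cfsg

namespace Cfsg.Agent.S1754

/-- Let A be a standard subgroup of the finite group G (A quasisimple, C_G(A) tightly embedded of even order, A commuting elementwise with no other conjugate of itself, and N_G(A) = N_G(C_G(A))), and let t be an involution of G centralizing A. Then the centralizer of t lies in the normalizer of A; in particular A, viewed inside C_G(t), is a component of C_G(t). -/
theorem result {G : Type*} [Group G] [Finite G]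
    (A : Subgroup G) (hA : Cfsg.IsStandardSubgroup A) (t : G) (ht : orderOf t = 2) (htA : t ∈ Subgroup.centralizer (A : Set G)) :
    Subgroup.centralizer ({t} : Set G) ≤ Subgroup.normalizer (A : Set G) ∧
      Cfsg.IsComponent (A.subgroupOf (Subgroup.centralizer ({t} : Set G))) := by
  obtain ⟨hqs, ⟨-, htight⟩, -, hN⟩ := hA
  set K := Subgroup.centralizer (A : Set G) with hK
  have hle : Subgroup.centralizer ({t} : Set G) ≤ Subgroup.normalizer (A : Set G) := by
    intro c hc
    rw [hN]
    by_contra hcn
    have hodd := htight c hcn
    have htc : t ∈ K ⊓ K.map (MulAut.conj c).toMonoidHom := by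
      refine ⟨htA, t, htA, ?_⟩
      show c * t * c⁻¹ = t
      rw [Subgroup.mem_centralizer_singleton_iff.mp hc, mul_inv_cancel_right]
    have hd : 2 ∣ Nat.card ↥(K ⊓ K.map (MulAut.conj c).toMonoidHom) := by
      have := orderOf_dvd_natCard (⟨t, htc⟩ : ↥(K ⊓ K.map (MulAut.conj c).toMonoidHom))
      rwa [Subgroup.orderOf_mk, ht] at this
    exact (Nat.not_even_iff_odd.mpr hodd) (even_iff_two_dvd.mpr hd)
  have hAC : A ≤ Subgroup.centralizer ({t} : Set G) := fun a ha =>
    Subgroup.mem_centralizer_singleton_iff.mpr (Subgroup.mem_centralizer_iff.mp htA a ha)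
  haveI : (A.subgroupOf (Subgroup.centralizer ({t} : Set G))).Normal :=
    Subgroup.normal_subgroupOf_of_le_normalizer hle
  exact ⟨hle, Components.isSubnormal_of_normal _,
    Components.qs_of_equiv hqs (Subgroup.subgroupOfEquivOfLe hAC).symm⟩

end Cfsg.Agent.S1754
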