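import Cfsg.Statements.S1755
import Mathlib
import Cfsg.Agent.Lib.Components.FStar
import Cfsg.Agent.Lib.Components.Subnormal

set_option autoImplicit false
open Cfsg

namespace Cfsg.Agent.S1755

/-- Let G be a finite group and let z be an involution of G such that Q, the generalized Fitting subgroup of the centralizer C of z, is a 2-group of symplectic type (every characteristic abelian subgroup of Q is cyclic). Let B be a characteristic abelian subgroup of Q, viewed as a subgroup of G. Then for every g in G, the conjugate of B by g either equals B or meets B trivially. -/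
theorem result {G : Type*} [Group G] [Finite G] (z : G) (hz : orderOf z = 2) (hQ : Cfsg.IsOfSymplecticType ↥(Cfsg.generalizedFittingSubgroup ↥(Subgroup.centralizer ({z} : Set G))))
    (B : Subgroup ↥(Cfsg.generalizedFittingSubgroup ↥(Subgroup.centralizer ({z} : Set G)))) (hBc : B.Characteristic) (hBa : IsMulCommutative ↥B) (g : G) :
    ((B.map (Cfsg.generalizedFittingSubgroup ↥(Subgroup.centralizer ({z} : Set G))).subtype).map (Subgroup.centralizer ({z} : Set G)).subtype).map (MulAut.conj g).toMonoidHom =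
        (B.map (Cfsg.generalizedFittingSubgroup ↥(Subgroup.centralizer ({z} : Set G))).subtype).map (Subgroup.centralizer ({z} : Set G)).subtype ∨
      ((B.map (Cfsg.generalizedFittingSubgroup ↥(Subgroup.centralizer ({z} : Set G))).subtype).map (Subgroup.centralizer ({z} : Set G)).subtype).map (MulAut.conj g).toMonoidHom ⊓
        (B.map (Cfsg.generalizedFittingSubgroup ↥(Subgroup.centralizer ({z} : Set G))).subtype).map (Subgroup.centralizer ({z} : Set G)).subtype = ⊥ := by
  haveI : Fact (Nat.Prime 2) := ⟨Nat.prime_two⟩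
  classical
  haveI := hBc
  set BG := (B.map (Cfsg.generalizedFittingSubgroup ↥(Subgroup.centralizer ({z} : Set G))).subtype).map (Subgroup.centralizer ({z} : Set G)).subtype with hBG
  have hzC : z ∈ (Subgroup.centralizer ({z} : Set G)) := Subgroup.mem_centralizer_singleton_iff.mpr rfl
  have hzo : orderOf (⟨z, hzC⟩ : ↥(Subgroup.centralizer ({z} : Set G))) = 2 := by rw [Subgroup.orderOf_mk]; exact hz
  have hzcen : (⟨z, hzC⟩ : ↥(Subgroup.centralizer ({z} : Set G))) ∈ Subgroup.center ↥(Subgroup.centralizer ({z} : Set G)) := Subgroup.mem_center_iff.mpr fun y =>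
    Subtype.ext (Subgroup.mem_centralizer_singleton_iff.mp y.2)
  have hzQ : (⟨z, hzC⟩ : ↥(Subgroup.centralizer ({z} : Set G))) ∈ (Cfsg.generalizedFittingSubgroup ↥(Subgroup.centralizer ({z} : Set G))) := by
    have hn : (Subgroup.zpowers (⟨z, hzC⟩ : ↥(Subgroup.centralizer ({z} : Set G)))).Normal := by
      refine ⟨fun a ha y => ?_⟩
      have hc : a ∈ Subgroup.center ↥(Subgroup.centralizer ({z} : Set G)) := Subgroup.zpowers_le.mpr hzcen ha
      rw [Subgroup.mem_center_iff.mp hc y, mul_inv_cancel_right]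
      exact ha
    exact (Components.le_pCore (p := 2) hn (IsPGroup.of_card (n := 1)
      (by rw [Nat.card_zpowers, hzo, pow_one]))).trans
        (Components.pCore_le_fitting.trans Components.fitting_le_fStar) (Subgroup.mem_zpowers _)
  set zQ : ↥(Cfsg.generalizedFittingSubgroup ↥(Subgroup.centralizer ({z} : Set G))) := ⟨⟨z, hzC⟩, hzQ⟩ with hzQdef
  have hzQo : orderOf zQ = 2 := by rw [hzQdef, Subgroup.orderOf_mk]; exact hzo
  have hzQc : zQ ∈ Subgroup.center ↥(Cfsg.generalizedFittingSubgroup ↥(Subgroup.centralizer ({z} : Set G))) := Subgroup.mem_center_iff.mpr fun y =>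
    Subtype.ext (Subgroup.mem_center_iff.mp hzcen y)
  haveI := hQ.2 B hBc hBa
  haveI := hQ.2 (Subgroup.center ↥(Cfsg.generalizedFittingSubgroup ↥(Subgroup.centralizer ({z} : Set G)))) inferInstance inferInstance
  have huniq : ∀ (A : Type _) [Group A] [Finite A] [IsCyclic A] (a b : A),
      orderOf a = 2 → orderOf b = 2 → a = b := by
    intro A _ _ _ a b ha hb
    haveI := Fintype.ofFinite A
    by_contra hab
    have h3 : ({1, a, b} : Finset A).card = 3 := by
      rw [Finset.card_eq_three]
      refine ⟨1, a, b, ?_, ?_, hab, rfl⟩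
      · rintro rfl; rw [orderOf_one] at ha; omega
      · rintro rfl; rw [orderOf_one] at hb; omega
    have h4 : ({1, a, b} : Finset A).card ≤ (Finset.univ.filter fun x : A => x ^ 2 = 1).card := by
      refine Finset.card_le_card fun x hx => ?_
      simp only [Finset.mem_insert, Finset.mem_singleton] at hx
      rw [Finset.mem_filter]
      refine ⟨Finset.mem_univ x, ?_⟩
      rcases hx with rfl | rfl | rfl
      · exact one_pow 2
      · rw [← ha]; exact pow_orderOf_eq_one _
      · rw [← hb]; exact pow_orderOf_eq_one _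
    have := IsCyclic.card_pow_eq_one_le (α := A) (n := 2) (by omega)
    omega
  have hinv : ∀ x ∈ BG, orderOf x = 2 → x = z := by
    rintro _ ⟨_, ⟨b, hb, rfl⟩, rfl⟩ hx
    rw [Subgroup.coe_subtype, Subgroup.coe_subtype, Subgroup.orderOf_coe, Subgroup.orderOf_coe] at hx
    have hbc : b ∈ Subgroup.center ↥(Cfsg.generalizedFittingSubgroup ↥(Subgroup.centralizer ({z} : Set G))) := by
      rw [Subgroup.mem_center_iff]
      intro y
      have hy : y * b * y⁻¹ ∈ B := (inferInstance : B.Normal).conj_mem b hb y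
      have := huniq ↥B ⟨y * b * y⁻¹, hy⟩ ⟨b, hb⟩
        (by rw [Subgroup.orderOf_mk, ← MulAut.conj_apply, MulEquiv.orderOf_eq]; exact hx)
        (by rw [Subgroup.orderOf_mk]; exact hx)
      exact mul_inv_eq_iff_eq_mul.mp (congrArg Subtype.val this)
    have := huniq ↥(Subgroup.center ↥(Cfsg.generalizedFittingSubgroup ↥(Subgroup.centralizer ({z} : Set G)))) ⟨b, hbc⟩ ⟨zQ, hzQc⟩
      (by rw [Subgroup.orderOf_mk]; exact hx) (by rw [Subgroup.orderOf_mk]; exact hzQo)
    have hb' : b = zQ := congrArg Subtype.val this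
    rw [hb', hzQdef]
    rfl
  by_cases hI : BG.map (MulAut.conj g).toMonoidHom ⊓ BG = ⊥
  · exact Or.inr hI
  left
  haveI : Nontrivial ↥(BG.map (MulAut.conj g).toMonoidHom ⊓ BG) :=
    (Subgroup.nontrivial_iff_ne_bot _).mpr hI
  have hp : IsPGroup 2 ↥(BG.map (MulAut.conj g).toMonoidHom ⊓ BG) :=
    (((hQ.1.to_subgroup B).map _).map _ : IsPGroup 2 ↥BG).to_le inf_le_right
  obtain ⟨k, hk0, hk⟩ : ∃ k, 0 < k ∧ Nat.card ↥(BG.map (MulAut.conj g).toMonoidHom ⊓ BG) = 2 ^ k :=
    hp.nontrivial_iff_card.mp inferInstance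
  obtain ⟨x, hx⟩ := exists_prime_orderOf_dvd_card'
    (G := ↥(BG.map (MulAut.conj g).toMonoidHom ⊓ BG)) 2 (hk ▸ dvd_pow_self 2 hk0.ne')
  have hxo : orderOf (x : G) = 2 := by rw [Subgroup.orderOf_coe, hx]
  have hxz := hinv _ x.2.2 hxo
  obtain ⟨w, hw, hwx⟩ := x.2.1
  have hwz : w = z := hinv w hw (by
    rw [← (MulAut.conj g).orderOf_eq w]
    exact (congrArg orderOf hwx).trans hxo)
  have hgC : g ∈ (Subgroup.centralizer ({z} : Set G)) := by
    rw [Subgroup.mem_centralizer_singleton_iff]
    have : g * z * g⁻¹ = z := by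
      rw [hwz] at hwx
      exact hwx.trans hxz
    exact mul_inv_eq_iff_eq_mul.mp this
  haveI : (Cfsg.generalizedFittingSubgroup ↥(Subgroup.centralizer ({z} : Set G))).Normal := inferInstance
  have hn : (B.map (Cfsg.generalizedFittingSubgroup ↥(Subgroup.centralizer ({z} : Set G))).subtype).map (MulAut.conj (⟨g, hgC⟩ : ↥(Subgroup.centralizer ({z} : Set G)))).toMonoidHom = B.map (Cfsg.generalizedFittingSubgroup ↥(Subgroup.centralizer ({z} : Set G))).subtype :=
    Components.map_conj_eq_of_mem_normalizer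
      (by rw [Subgroup.normalizer_eq_top]; exact Subgroup.mem_top _)
  conv_rhs => rw [hBG, ← hn]
  rw [hBG, Subgroup.map_map, Subgroup.map_map, Subgroup.map_map, Subgroup.map_map]
  rfl

end Cfsg.Agent.S1755
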