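import Cfsg.Statements.S1756
import Mathlib
import Cfsg.Agent.Lib.ClassK.Extraspecial

set_option autoImplicit false
open Cfsg

namespace Cfsg.Agent.S1756

/-- Let Q be an extraspecial 2-subgroup of the finite group G (special with centre of order 2) and t an involution of G normalizing Q such that the centralizer of t in Q has index at most 2 in Q. Then t lies in the product of Q with the centralizer of Q. -/
theorem result {G : Type*} [Group G] [Finite G] (Q : Subgroup G)
    (hQ : Cfsg.IsExtraspecial 2 ↥Q) (t : G) (ht : orderOf t = 2) (htN : t ∈ Subgroup.normalizer (Q : Set G))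
    (hi : (Subgroup.centralizer ({t} : Set G) ⊓ Q).relIndex Q ≤ 2) :
    t ∈ Q ⊔ Subgroup.centralizer (Q : Set G) := by
  haveI : Fact (Nat.Prime 2) := ⟨Nat.prime_two⟩
  have ht2 : t * t = 1 := by rw [← pow_two, ← ht]; exact pow_orderOf_eq_one t
  have htinv : t⁻¹ = t := inv_eq_of_mul_eq_one_left ht2
  have hmem : ∀ q ∈ Q, t * q * t⁻¹ ∈ Q := fun q hq => (Subgroup.mem_normalizer_iff.mp htN q).mp hq
  let α : ↥Q ≃* ↥Q :=
    { toFun := fun q => ⟨t * q * t⁻¹, hmem _ q.2⟩
      invFun := fun q => ⟨t * q * t⁻¹, hmem _ q.2⟩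
      left_inv := fun q => Subtype.ext (by
        show t * (t * (q : G) * t⁻¹) * t⁻¹ = q
        rw [htinv, ← mul_assoc, ← mul_assoc, ht2, one_mul, mul_assoc, ht2, mul_one])
      right_inv := fun q => Subtype.ext (by
        show t * (t * (q : G) * t⁻¹) * t⁻¹ = q
        rw [htinv, ← mul_assoc, ← mul_assoc, ht2, one_mul, mul_assoc, ht2, mul_one])
      map_mul' := fun a b => Subtype.ext (by
        show t * ((a : G) * b) * t⁻¹ = (t * a * t⁻¹) * (t * b * t⁻¹)
        group) }
  set R := (Subgroup.centralizer ({t} : Set G) ⊓ Q).subgroupOf Q with hR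
  have hfix : ∀ q : ↥Q, q ∈ R ↔ α q = q := by
    intro q
    rw [hR, Subgroup.mem_subgroupOf, Subgroup.mem_inf, Subgroup.mem_centralizer_singleton_iff,
      Subtype.ext_iff]
    show ((q : G) * t = t * q ∧ (q : G) ∈ Q) ↔ t * (q : G) * t⁻¹ = q
    rw [and_iff_left q.2, mul_inv_eq_iff_eq_mul, eq_comm]
  have hi' : R.index ≤ 2 := hi
  have hpos : R.index ≠ 0 := Subgroup.index_ne_zero_of_finite
  obtain ⟨c, hc⟩ : ∃ c : ↥Q, ∀ x, α x = c * x * c⁻¹ := by
    rcases eq_or_ne R.index 1 with h1 | h1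
    · refine ⟨1, fun x => ?_⟩
      rw [(hfix x).mp (by rw [Subgroup.index_eq_one.mp h1]; exact Subgroup.mem_top x)]
      simp
    · refine ClassK.exists_inner_of_index_two hQ α (fun x => α.left_inv x) (R := R) (by omega)
        (fun r hr => (hfix r).mp hr) (fun q hq => (hfix q).mpr hq)
  have hcen : (c : G)⁻¹ * t ∈ Subgroup.centralizer (Q : Set G) := by
    rw [Subgroup.mem_centralizer_iff]
    intro q hq
    have h1 : t * q * t⁻¹ = c * q * (c : G)⁻¹ := congrArg Subtype.val (hc ⟨q, hq⟩)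
    calc q * ((c : G)⁻¹ * t) = (c : G)⁻¹ * (c * q * (c : G)⁻¹) * t := by group
      _ = (c : G)⁻¹ * t * q := by rw [← h1]; group
  have := (Q ⊔ Subgroup.centralizer (Q : Set G)).mul_mem (Subgroup.mem_sup_left c.2)
    (Subgroup.mem_sup_right hcen)
  rwa [mul_inv_cancel_left] at this

end Cfsg.Agent.S1756
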