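import Mathlib
import Cfsg.Statements.S1757

set_option autoImplicit false
open Cfsg

namespace Cfsg.Agent.S1757

/-- Let p be a prime and A, B p-subgroups of the finite group G, each of which meets every conjugate of itself other than itself trivially. Suppose the order of A is at most that of B, A and B intersect trivially, and B normalizes A. Then A and B commute elementwise. -/
theorem result {G : Type*} [Group G] [Finite G] (p : ℕ) [Fact p.Prime] (A B : Subgroup G)
    (hA : IsPGroup p ↥A) (hB : IsPGroup p ↥B)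
    (hAti : ∀ g : G, A.map (MulAut.conj g).toMonoidHom = A ∨ A.map (MulAut.conj g).toMonoidHom ⊓ A = ⊥)
    (hBti : ∀ g : G, B.map (MulAut.conj g).toMonoidHom = B ∨ B.map (MulAut.conj g).toMonoidHom ⊓ B = ⊥)
    (hle : Nat.card ↥A ≤ Nat.card ↥B) (hAB : A ⊓ B = ⊥) (hN : B ≤ Subgroup.normalizer (A : Set G)) : ⁅A, B⁆ = ⊥ := by
  by_contra hne
  have hcomm : ∀ A B : Subgroup G, A ⊓ B = ⊥ → B ≤ Subgroup.normalizer (A : Set G) →
      A ≤ Subgroup.normalizer (B : Set G) → ⁅A, B⁆ = ⊥ := by
    intro A B h h1 h2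
    rw [eq_bot_iff, ← h]
    refine le_inf ?_ ?_
    · exact Subgroup.commutator_le.mpr fun a ha b hb => by
        have := (Subgroup.mem_normalizer_iff.mp (h1 hb) a⁻¹).mp (inv_mem ha)
        simpa [commutatorElement_def, mul_assoc] using mul_mem ha this
    · exact Subgroup.commutator_le.mpr fun a ha b hb => by
        have := (Subgroup.mem_normalizer_iff.mp (h2 ha) b).mp hb
        simpa [commutatorElement_def, mul_assoc] using mul_mem this (inv_mem hb)
  let M : Subgroup G := A ⊔ B
  have hM : IsPGroup p M := by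
    show IsPGroup p (A ⊔ B : Subgroup G)
    rw [sup_comm]
    exact IsPGroup.to_sup_of_normal_right' hB hA hN
  by_cases hnorm : A ≤ Subgroup.normalizer (B : Set G)
  · exact hne (hcomm A B hAB hN hnorm)
  -- some element of `M` normalizes `N_M(B)` without normalizing `B`
  let N : Subgroup M := (Subgroup.normalizer (B : Set G)).subgroupOf M
  haveI : Group.IsNilpotent M := hM.isNilpotent
  have hNtop : N ≠ ⊤ := fun h => hnorm (le_trans le_sup_left (Subgroup.subgroupOf_eq_top.mp h))
  obtain ⟨w, hwN, hw⟩ := SetLike.exists_of_lt ((Group.normalizerCondition_of_isNilpotent (G := M)) N (lt_top_iff_ne_top.mpr hNtop))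
  have hBle : B ≤ Subgroup.normalizer (B : Set G) := Subgroup.le_normalizer
  let B' : Subgroup G := B.map (MulAut.conj (w : G)).toMonoidHom
  have hB'ne : B' ≠ B := by
    intro h
    refine hw ?_
    show (w : G) ∈ Subgroup.normalizer (B : Set G)
    rw [Subgroup.mem_normalizer_iff]
    intro x
    have hx : (w : G) * x * (w : G)⁻¹ ∈ B' ↔ x ∈ B := by
      show MulAut.conj (w : G) x ∈ B.map (MulAut.conj (w : G)).toMonoidHom ↔ _
      exact Subgroup.mem_map_iff_mem (MulAut.conj (w : G)).injective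
    rw [h] at hx; exact hx.symm
  have hB'M : B' ≤ M := by
    rintro _ ⟨b, hb, rfl⟩
    exact M.mul_mem (M.mul_mem w.2 (le_sup_right (a := A) hb)) (M.inv_mem w.2)
  -- `B'` normalizes `B`, and conversely
  have h1 : B' ≤ Subgroup.normalizer (B : Set G) := by
    rintro _ ⟨b, hb, rfl⟩
    have hbM : b ∈ M := le_sup_right (a := A) hb
    exact (Subgroup.mem_normalizer_iff.mp hwN ⟨b, hbM⟩).mp (hBle hb)
  have h2 : B ≤ Subgroup.normalizer (B' : Set G) := by
    intro b hb
    have hbM : b ∈ M := le_sup_right (a := A) hb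
    have hc : (w : G)⁻¹ * b * w ∈ Subgroup.normalizer (B : Set G) := by
      have := (Subgroup.mem_normalizer_iff.mp (inv_mem hwN) ⟨b, hbM⟩).mp (hBle hb)
      simp [N, Subgroup.mem_subgroupOf] at this
      exact this
    rw [Subgroup.mem_normalizer_iff]
    intro x
    have e : ∀ y : G, y ∈ B' ↔ (w : G)⁻¹ * y * w ∈ B := by
      intro y
      constructor
      · rintro ⟨c, hc', rfl⟩; simpa [mul_assoc] using hc'
      · exact fun hy => ⟨_, hy, by simp [mul_assoc]⟩
    rw [e, e]
    refine (Subgroup.mem_normalizer_iff.mp hc _).trans ?_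
    simp [mul_assoc]
  have hint : B ⊓ B' = ⊥ := by rw [inf_comm]; exact (hBti _).resolve_left hB'ne
  have hBB' : ⁅B, B'⁆ = ⊥ := hcomm B B' hint h1 h2
  -- count: the product `B * B'` inside `A * B`
  let f : B × B' → M := fun q => ⟨(q.1 : G) * q.2, mul_mem (le_sup_right (a := A) q.1.2) (hB'M q.2.2)⟩
  have hf : Function.Injective f := by
    rintro ⟨b, c⟩ ⟨b', c'⟩ h
    have h' : (b : G) * c = b' * c' := congrArg Subtype.val h
    have h3 : (b' : G)⁻¹ * b = c' * (c : G)⁻¹ := by
      rw [inv_mul_eq_iff_eq_mul, ← mul_assoc, ← h', mul_inv_cancel_right]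
    have hm : (b' : G)⁻¹ * b ∈ B ⊓ B' :=
      ⟨B.mul_mem (B.inv_mem b'.2) b.2, h3 ▸ B'.mul_mem c'.2 (B'.inv_mem c.2)⟩
    rw [hint, Subgroup.mem_bot] at hm
    have hb : b = b' := Subtype.ext (inv_mul_eq_one.mp hm).symm
    subst hb
    exact Prod.ext rfl (Subtype.ext (mul_left_cancel h'))
  have cM : Nat.card M ≤ Nat.card A * Nat.card B := by
    have hmem : ∀ x : M, ∃ q : A × B, (q.1 : G) * q.2 = x := by
      intro x
      have hx : (x : G) ∈ ((A ⊔ B : Subgroup G) : Set G) := x.2
      rw [Subgroup.coe_mul_of_right_le_normalizer_left A B hN] at hx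
      obtain ⟨a, ha, b, hb, hab⟩ := hx
      exact ⟨(⟨a, ha⟩, ⟨b, hb⟩), hab⟩
    choose q hq using hmem
    rw [← Nat.card_prod]
    exact Nat.card_le_card_of_injective q fun x y h => Subtype.ext (by rw [← hq x, ← hq y, h])
  have cB' : Nat.card B' = Nat.card B :=
    Subgroup.card_map_of_injective (MulAut.conj (w : G)).injective
  have c1 := Nat.card_le_card_of_injective f hf
  rw [Nat.card_prod, cB'] at c1
  have hsurj : Function.Surjective f := by
    refine (Nat.bijective_iff_injective_and_card f).mpr ⟨hf, ?_⟩ |>.2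
    rw [Nat.card_prod, cB']
    exact le_antisymm c1 (cM.trans (Nat.mul_le_mul_right _ hle))
  refine hnorm fun a ha => ?_
  obtain ⟨⟨b, c⟩, hbc⟩ := hsurj ⟨a, le_sup_left (b := B) ha⟩
  rw [show a = (b : G) * c from (congrArg Subtype.val hbc).symm]
  exact mul_mem (hBle b.2) (h1 c.2)

end Cfsg.Agent.S1757
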