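import Cfsg.Statements.S1774
import Mathlib
import Cfsg.Prelude.Def_ClassificationK
import Cfsg.Agent.Lib.Components.FStar
import Cfsg.Agent.Lib.Components.Subnormal
import Cfsg.Agent.Lib.Invol.NormalFour

set_option autoImplicit false
open Cfsg

namespace Cfsg.Agent.S1774

open scoped commutatorElement Pointwise

theorem two_gen {Q : Type*} [Group Q] (h4 : ∀ q : Q, q ^ 4 = 1) (u v : Q)
    (hu : u * ⁅u, v⁆ * u⁻¹ = ⁅u, v⁆ ∨ u * ⁅u, v⁆ * u⁻¹ = ⁅u, v⁆⁻¹)
    (hv : v * ⁅u, v⁆ * v⁻¹ = ⁅u, v⁆ ∨ v * ⁅u, v⁆ * v⁻¹ = ⁅u, v⁆⁻¹) :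
    ⁅u, v⁆ * ⁅u, v⁆ = 1 := by
  set a := ⁅u, v⁆ with ha
  have p4 : ∀ q : Q, q * q * (q * q) = 1 := fun q => by
    have := h4 q
    rw [pow_succ, pow_succ, pow_succ, pow_one] at this
    simpa [mul_assoc] using this
  have ha2 : a⁻¹ * a⁻¹ = a * a := inv_eq_of_mul_eq_one_right (p4 a) ▸ by group
  have hvu : v * u = a⁻¹ * (u * v) := by rw [ha, commutatorElement_def]; group
  have sq : ∀ w : Q, (w * a * w⁻¹ = a ∨ w * a * w⁻¹ = a⁻¹) → w * w * a = a * (w * w) := by
    intro w hw
    have : w * (w * a * w⁻¹) * w⁻¹ = a := by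
      rcases hw with h | h
      · rw [h, h]
      · rw [h]
        calc w * a⁻¹ * w⁻¹ = (w * a * w⁻¹)⁻¹ := by group
          _ = a := by rw [h, inv_inv]
    calc w * w * a = w * (w * a * w⁻¹) * w⁻¹ * (w * w) := by group
      _ = a * (w * w) := by rw [this]
  have hconj2 : ∀ w : Q, (w * a * w⁻¹ = a ∨ w * a * w⁻¹ = a⁻¹) → w * (a * a) * w⁻¹ = a * a := by
    intro w hw
    rcases hw with h | h
    · calc w * (a * a) * w⁻¹ = (w * a * w⁻¹) * (w * a * w⁻¹) := by group
        _ = a * a := by rw [h]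
    · calc w * (a * a) * w⁻¹ = (w * a * w⁻¹) * (w * a * w⁻¹) := by group
        _ = a * a := by rw [h, ha2]
  set b := u * a⁻¹ * u⁻¹ with hb
  have hb' : b = a ∨ b = a⁻¹ := by
    rw [hb, show u * a⁻¹ * u⁻¹ = (u * a * u⁻¹)⁻¹ by group]
    rcases hu with h | h
    · right; rw [h]
    · left; rw [h, inv_inv]
  have cu : Commute (u * u) b := by
    rcases hb' with h | h <;> rw [h]
    · exact sq u hu
    · exact (show Commute (u * u) a from sq u hu).inv_right
  have cv : Commute (v * v) b := by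
    rcases hb' with h | h <;> rw [h]
    · exact sq v hv
    · exact (show Commute (v * v) a from sq v hv).inv_right
  -- `u²` and `v²` commute
  have c1 : v * (u * u) * v⁻¹ = u * u ∨ v * (u * u) * v⁻¹ = a * a * (u * u) := by
    have h0 : v * (u * u) * v⁻¹ = (a⁻¹ * u) * (a⁻¹ * u) := by
      calc v * (u * u) * v⁻¹ = (v * u) * v⁻¹ * ((v * u) * v⁻¹) := by group
        _ = (a⁻¹ * u) * (a⁻¹ * u) := by rw [hvu]; group
    rw [h0]
    rcases hu with h | h
    · right
      calc a⁻¹ * u * (a⁻¹ * u) = a⁻¹ * (u * a * u⁻¹)⁻¹ * (u * u) := by group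
        _ = a * a * (u * u) := by rw [h, ha2]
    · left
      calc a⁻¹ * u * (a⁻¹ * u) = a⁻¹ * (u * a * u⁻¹)⁻¹ * (u * u) := by group
        _ = u * u := by rw [h, inv_inv]; group
  have c2 : Commute (v * v) (u * u) := by
    have : v * (v * (u * u) * v⁻¹) * v⁻¹ = u * u := by
      rcases c1 with h | h
      · rw [h, h]
      · rw [h]
        calc v * (a * a * (u * u)) * v⁻¹ = (v * (a * a) * v⁻¹) * (v * (u * u) * v⁻¹) := by group
          _ = (a * a) * (a * a) * (u * u) := by rw [hconj2 v hv, h]; group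
          _ = u * u := by rw [p4 a, one_mul]
    show v * v * (u * u) = u * u * (v * v)
    calc v * v * (u * u) = v * (v * (u * u) * v⁻¹) * v⁻¹ * (v * v) := by group
      _ = u * u * (v * v) := by rw [this]
  have huv : u * v * (u * v) = b * (u * u) * (v * v) := by
    calc u * v * (u * v) = u * (v * u) * v := by group
      _ = b * (u * u) * (v * v) := by rw [hvu, hb]; group
  have := p4 (u * v)
  rw [huv] at this
  have hcomm : Commute (u * u * (v * v)) b := cu.mul_left cv
  have key : b * b = 1 := by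
    calc b * b = b * b * ((u * u) * (u * u)) * ((v * v) * (v * v)) := by rw [p4, p4, mul_one, mul_one]
      _ = b * b * ((u * u) * ((u * u) * (v * v)) * (v * v)) := by group
      _ = b * b * ((u * u) * ((v * v) * (u * u)) * (v * v)) := by rw [c2.eq]
      _ = b * (b * ((u * u) * (v * v))) * ((u * u) * (v * v)) := by group
      _ = b * (((u * u) * (v * v)) * b) * ((u * u) * (v * v)) := by rw [hcomm.eq]
      _ = b * (u * u) * (v * v) * (b * (u * u) * (v * v)) := by group
      _ = 1 := this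
  rcases hb' with h | h <;> rw [h] at key
  · exact key
  · rwa [ha2] at key

theorem comm_central {Q : Type*} [Group Q] [Finite Q] (hS : Cfsg.IsOfSymplecticType Q)
    (h4 : ∀ q : Q, q ^ 4 = 1) (u v : Q) :
    ⁅u, v⁆ ∈ Subgroup.center Q ∧ ⁅u, v⁆ * ⁅u, v⁆ = 1 := by
  classical
  suffices h : commutator Q ≤ Subgroup.center Q by
    have hc : ⁅u, v⁆ ∈ Subgroup.center Q :=
      h (Subgroup.commutator_mem_commutator (Subgroup.mem_top u) (Subgroup.mem_top v))
    refine ⟨hc, two_gen h4 u v (Or.inl ?_) (Or.inl ?_)⟩ <;>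
      rw [Subgroup.mem_center_iff.1 hc, mul_inv_cancel_right]
  by_contra hne
  haveI : Fact (Nat.Prime 2) := ⟨Nat.prime_two⟩
  haveI : Group.IsNilpotent Q := hS.1.isNilpotent
  obtain ⟨n, hn⟩ := Subgroup.nilpotent_iff_lowerCentralSeries.1 (inferInstance : Group.IsNilpotent Q)
  have hex : ∃ k, (⊤ : Subgroup Q).lowerCentralSeries k ≤ Subgroup.center Q :=
    ⟨n, hn.le.trans bot_le⟩
  obtain ⟨k, hk, hmin⟩ : ∃ k, (⊤ : Subgroup Q).lowerCentralSeries k ≤ Subgroup.center Q ∧
      ∀ m, m < k → ¬ (⊤ : Subgroup Q).lowerCentralSeries m ≤ Subgroup.center Q :=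
    ⟨_, Nat.find_spec hex, fun m hm => Nat.find_min hex hm⟩
  rcases k with _ | _ | j
  · exact hne fun x _ => hk (Subgroup.mem_top x)
  · rw [Subgroup.top_lowerCentralSeries_one] at hk; exact hne hk
  set A := (⊤ : Subgroup Q).lowerCentralSeries (j + 1) with hA
  have hAc : ¬ A ≤ Subgroup.center Q := hmin (j + 1) (Nat.lt_succ_self _)
  have hAA : ⁅A, (⊤ : Subgroup Q)⁆ ≤ Subgroup.center Q := by
    rw [← Subgroup.lowerCentralSeries_succ]; exact hk
  have hAeq : A = ⁅(⊤ : Subgroup Q).lowerCentralSeries j, (⊤ : Subgroup Q)⁆ :=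
    Subgroup.lowerCentralSeries_succ _ _
  have hle : A ≤ commutator Q := by
    rw [hAeq, commutator_def]; exact Subgroup.commutator_mono le_top le_rfl
  have hbot : ∀ X : Subgroup Q, X ≤ Subgroup.center Q → ⁅X, (⊤ : Subgroup Q)⁆ = ⊥ := fun X hX =>
    Subgroup.commutator_eq_bot_iff_le_centralizer.2 (hX.trans (Subgroup.center_le_centralizer _))
  have hab : ⁅commutator Q, A⁆ = ⊥ := by
    rw [commutator_def]
    refine Subgroup.commutator_commutator_eq_bot_of_rotate ?_ ?_
    · exact hbot _ ((Subgroup.commutator_comm _ _).le.trans hAA)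
    · exact hbot _ hAA
  have hcomm : ∀ x ∈ A, ∀ y ∈ A, x * y = y * x := fun x hx y hy =>
    ((Subgroup.commutator_eq_bot_iff_le_centralizer.1 hab (hle hx)) y hy).symm
  haveI : A.Characteristic := inferInstance
  have hcyc := hS.2 A inferInstance ⟨⟨fun x y => Subtype.ext (hcomm _ x.2 _ y.2)⟩⟩
  obtain ⟨d, hd⟩ := hcyc.exists_generator
  have hAmem : ∀ x ∈ A, x = 1 ∨ x = (d : Q) ∨ x = (d : Q) * d ∨ x = (d : Q)⁻¹ := by
    intro x hx
    obtain ⟨i, hi⟩ := hd ⟨x, hx⟩
    have hi' : x = (d : Q) ^ i := (congrArg Subtype.val hi).symm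
    have hd4 : (d : Q) ^ (4 : ℤ) = 1 := by exact_mod_cast h4 d
    have e : (d : Q) ^ i = (d : Q) ^ (i % 4) := by
      conv_lhs => rw [← Int.emod_add_mul_ediv i 4, zpow_add, zpow_mul, hd4, one_zpow, mul_one]
    have : i % 4 = 0 ∨ i % 4 = 1 ∨ i % 4 = 2 ∨ i % 4 = 3 := by omega
    rcases this with h | h | h | h <;> rw [hi', e, h]
    · exact Or.inl (zpow_zero _)
    · exact Or.inr (Or.inl (zpow_one _))
    · exact Or.inr (Or.inr (Or.inl (zpow_two _)))
    · refine Or.inr (Or.inr (Or.inr ?_))
      rw [show (3 : ℤ) = 4 + -1 by norm_num, zpow_add, hd4, one_mul, zpow_neg, zpow_one]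
  have hd2' : (d : Q) * d * ((d : Q) * d) = 1 := by
    have := h4 (d : Q)
    rw [pow_succ, pow_succ, pow_succ, pow_one] at this
    simpa [mul_assoc] using this
  have hconj : ∀ w, ∀ a ∈ A, a * a ≠ 1 → w * a * w⁻¹ = a ∨ w * a * w⁻¹ = a⁻¹ := by
    intro w a ha hne2
    have hwa : w * a * w⁻¹ ∈ A := (inferInstance : A.Normal).conj_mem a ha w
    have hne3 : (w * a * w⁻¹) * (w * a * w⁻¹) ≠ 1 := fun h => hne2 (by
      calc a * a = w⁻¹ * ((w * a * w⁻¹) * (w * a * w⁻¹)) * w := by group
        _ = 1 := by rw [h]; group)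
    rcases hAmem a ha with h | h | h | h
    · exact absurd (by rw [h, one_mul]) hne2
    · rcases hAmem _ hwa with h' | h' | h' | h'
      · exact absurd (by rw [h', one_mul]) hne3
      · left; rw [h', h]
      · exact absurd (by rw [h']; exact hd2') hne3
      · right; rw [h', h]
    · exact absurd (by rw [h]; exact hd2') hne2
    · rcases hAmem _ hwa with h' | h' | h' | h'
      · exact absurd (by rw [h', one_mul]) hne3
      · right; rw [h', h, inv_inv]
      · exact absurd (by rw [h']; exact hd2') hne3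
      · left; rw [h', h]
  have hsq : ∀ x ∈ A, x * x = 1 := by
    intro x hx
    have hx' : x ∈ Subgroup.closure {w : Q | ∃ p ∈ (⊤ : Subgroup Q).lowerCentralSeries j, ∃ q, ⁅p, q⁆ = w} := by
      rw [hAeq, Subgroup.commutator_def] at hx
      refine Subgroup.closure_mono ?_ hx
      rintro w ⟨p, hp, q, -, rfl⟩
      exact ⟨p, hp, q, rfl⟩
    refine (Subgroup.closure_induction (p := fun w _ => w ∈ A ∧ w * w = 1) ?_ ?_ ?_ ?_ hx').2
    · rintro _ ⟨p, hp, q, rfl⟩
      have hpA : ⁅p, q⁆ ∈ A := by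
        rw [hAeq]; exact Subgroup.commutator_mem_commutator hp (Subgroup.mem_top q)
      refine ⟨hpA, ?_⟩
      by_contra h
      exact h (two_gen h4 p q (hconj p _ hpA h) (hconj q _ hpA h))
    · exact ⟨one_mem _, one_mul 1⟩
    · rintro a b - - ⟨ha, ha2⟩ ⟨hb, hb2⟩
      refine ⟨mul_mem ha hb, ?_⟩
      rw [mul_assoc, ← mul_assoc b a b, hcomm b hb a ha, mul_assoc a b b, hb2, mul_one, ha2]
    · rintro a - ⟨ha, ha2⟩
      exact ⟨inv_mem ha, by rw [← mul_inv_rev, ha2, inv_one]⟩
  apply hAc
  intro x hx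
  have hd2 := hsq _ d.2
  have hdi : ((d : Q))⁻¹ = d := inv_eq_of_mul_eq_one_right hd2
  have two : ∀ y ∈ A, y = 1 ∨ y = (d : Q) := fun y hy => by
    rcases hAmem y hy with h | h | h | h
    · exact Or.inl h
    · exact Or.inr h
    · exact Or.inl (h.trans hd2)
    · exact Or.inr (h.trans hdi)
  rw [Subgroup.mem_center_iff]
  intro g
  have hg := (inferInstance : A.Normal).conj_mem x hx g
  have : g * x * g⁻¹ = x := by
    rcases two x hx with h | h
    · rw [h]; group
    · rcases two _ hg with h' | h'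
      · exfalso
        have : (d : Q) = 1 := by
          rw [← h]
          calc x = g⁻¹ * (g * x * g⁻¹) * g := by group
            _ = 1 := by rw [h']; group
        exact hAc fun y hy => by
          rcases two y hy with e | e <;> rw [e]
          exacts [one_mem _, this ▸ one_mem _]
      · rw [h', h]
  exact mul_inv_eq_iff_eq_mul.1 this

theorem core {G : Type*} [Group G] [Finite G] (z : G) (Q : Subgroup G)
    (hz2 : z * z = 1) (hzQ : z ∈ Q) (hQ2 : IsPGroup 2 Q)
    (hQC : ∀ q ∈ Q, q * z = z * q)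
    (hnorm : ∀ c, c * z = z * c → ∀ q ∈ Q, c * q * c⁻¹ ∈ Q)
    (hcentr : ∀ c, c * z = z * c → (∀ q ∈ Q, c * q = q * c) → c ∈ Q)
    (h4 : ∀ q ∈ Q, q ^ 4 = 1)
    (hcomm : ∀ a ∈ Q, ∀ b ∈ Q, a * b * a⁻¹ * b⁻¹ = 1 ∨ a * b * a⁻¹ * b⁻¹ = z)
    (hcen : ∀ f ∈ Q, (∀ q ∈ Q, f * q = q * f) → f * f = 1 → f = 1 ∨ f = z)
    (g z' : G) (hz' : g * z * g⁻¹ = z') (hne : z' ≠ z) (hin : z' ∈ Q) :
    z ∈ Q.map (MulAut.conj g).toMonoidHom ∧
      ∀ u ∈ Subgroup.closure ({z, z'} : Set G), ∀ v ∈ Subgroup.closure ({z, z'} : Set G),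
        u ≠ 1 → v ≠ 1 → u ≠ v →
          ∃ x ∈ Q ⊔ Q.map (MulAut.conj g).toMonoidHom, x * z * x⁻¹ = u ∧ x * z' * x⁻¹ = v := by
  haveI : Fact (Nat.Prime 2) := ⟨Nat.prime_two⟩
  have hz'2 : z' * z' = 1 := by
    rw [← hz', show g * z * g⁻¹ * (g * z * g⁻¹) = g * (z * z) * g⁻¹ by group, hz2]; group
  have hz1 : z ≠ 1 := fun h => hne (by rw [← hz', h]; group)
  have hz'1 : z' ≠ 1 := fun h => hz1 (by
    calc z = g⁻¹ * (g * z * g⁻¹) * g := by group
      _ = 1 := by rw [hz', h]; group)
  have hzz' : z * z' = z' * z := (hQC z' hin).symm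
  have hzz1 : z * z' ≠ 1 := fun h => hne (by
    calc z' = z * (z * z') := by rw [← mul_assoc, hz2, one_mul]
      _ = z := by rw [h, mul_one])
  -- an element of `Q` moving `z'`
  obtain ⟨q, hq, hqz⟩ : ∃ q ∈ Q, q * z' * q⁻¹ = z * z' := by
    by_contra hh
    push Not at hh
    rcases hcen z' hin (fun q hq => by
      rcases hcomm q hq z' hin with h | h
      · exact (mul_inv_eq_iff_eq_mul.1 (mul_inv_eq_one.1 h)).symm
      · exact absurd (mul_inv_eq_iff_eq_mul.1 h) (hh q hq)) hz'2 with h | h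
    · exact hz'1 h
    · exact hne h
  have hqzz : q * z * q⁻¹ = z := by rw [hQC q hq, mul_inv_cancel_right]
  have hq3 : q * (z * z') * q⁻¹ = z' := by
    calc q * (z * z') * q⁻¹ = (q * z * q⁻¹) * (q * z' * q⁻¹) := by group
      _ = z * (z * z') := by rw [hqzz, hqz]
      _ = z' := by rw [← mul_assoc, hz2, one_mul]
  -- the conjugate
  set P := Q.map (MulAut.conj g).toMonoidHom with hP
  have hPmem : ∀ x : G, x ∈ P ↔ g⁻¹ * x * g ∈ Q := by
    intro x
    constructor
    · rintro ⟨y, hy, rfl⟩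
      rwa [show g⁻¹ * (MulAut.conj g).toMonoidHom y * g = y by
        simp [mul_assoc]]
    · intro hx
      exact ⟨_, hx, by simp [mul_assoc]⟩
  have hz'P : z' ∈ P := (hPmem _).2 (by
    rw [← hz', show g⁻¹ * (g * z * g⁻¹) * g = z by group]; exact hzQ)
  have conjz : ∀ c, c * z' = z' * c → (g⁻¹ * c * g) * z = z * (g⁻¹ * c * g) := by
    intro c hc
    have e : z = g⁻¹ * z' * g := by rw [← hz']; group
    rw [e]
    calc g⁻¹ * c * g * (g⁻¹ * z' * g) = g⁻¹ * (c * z') * g := by group
      _ = g⁻¹ * (z' * c) * g := by rw [hc]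
      _ = _ := by group
  have hPC : ∀ p ∈ P, p * z' = z' * p := by
    intro p hp
    have h := hQC _ ((hPmem p).1 hp)
    rw [← hz']
    calc p * (g * z * g⁻¹) = g * ((g⁻¹ * p * g) * z) * g⁻¹ := by group
      _ = g * (z * (g⁻¹ * p * g)) * g⁻¹ := by rw [h]
      _ = _ := by group
  have hPnorm : ∀ c, c * z' = z' * c → ∀ p ∈ P, c * p * c⁻¹ ∈ P := by
    intro c hc p hp
    rw [hPmem]
    have := hnorm _ (conjz c hc) _ ((hPmem p).1 hp)
    rwa [show g⁻¹ * (c * p * c⁻¹) * g = g⁻¹ * c * g * (g⁻¹ * p * g) * (g⁻¹ * c * g)⁻¹ by group]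
  -- there is an element of `P` moving `z`
  obtain ⟨y, hy, hyz⟩ : ∃ y ∈ P, y * z * y⁻¹ = z * z' := by
    -- the two groups fixing both involutions
    set E := Q ⊓ Subgroup.centralizer ({z'} : Set G) with hE
    set R := P ⊓ Subgroup.centralizer ({z} : Set G) with hR
    have hER : R ⊔ E ≤ Subgroup.normalizer (P : Set G) := by
      have hn : ∀ c, c * z' = z' * c → c ∈ Subgroup.normalizer (P : Set G) := by
        intro c hc
        rw [Subgroup.mem_normalizer_iff]
        refine fun h => ⟨fun hh => hPnorm c hc h hh, fun hh => ?_⟩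
        have := hPnorm c⁻¹ ((show Commute c z' from hc).inv_left).eq _ hh
        rwa [show c⁻¹ * (c * h * c⁻¹) * c⁻¹⁻¹ = h by group] at this
      refine sup_le (fun r hr => hn r (hPC r hr.1)) (fun e he => hn e ?_)
      exact Subgroup.mem_centralizer_singleton_iff.1 he.2
    set T := R ⊔ E with hT
    have hTz : ∀ t ∈ T, t * z = z * t := by
      have : T ≤ Subgroup.centralizer ({z} : Set G) := sup_le inf_le_right fun e he =>
        Subgroup.mem_centralizer_singleton_iff.2 (hQC e he.1)
      exact fun t ht => Subgroup.mem_centralizer_singleton_iff.1 (this ht)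
    have hzT : z ∈ T := Subgroup.mem_sup_right
      ⟨hzQ, Subgroup.mem_centralizer_singleton_iff.2 hzz'⟩
    set U := P ⊔ T with hU
    have hUp : IsPGroup 2 U :=
      (hQ2.map _).to_sup_of_normal_left' (((hQ2.map _).to_le inf_le_left).to_sup_of_normal_left'
        (hQ2.to_le inf_le_left) (fun e he => ?_)) hER
    swap
    · rw [Subgroup.mem_normalizer_iff]
      have hc : ∀ c, c * z = z * c → c * z' = z' * c → ∀ r ∈ R, c * r * c⁻¹ ∈ R := fun c h1 h2 r hr =>
        ⟨hPnorm c h2 r hr.1, Subgroup.mem_centralizer_singleton_iff.2 (by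
          have h3 := Subgroup.mem_centralizer_singleton_iff.1 hr.2
          exact (((show Commute c z from h1).mul_left (show Commute r z from h3)).mul_left
            (show Commute c z from h1).inv_left).eq)⟩
      have h1 := hQC e he.1
      have h2 := Subgroup.mem_centralizer_singleton_iff.1 he.2
      refine fun h => ⟨fun hh => hc e h1 h2 h hh, fun hh => ?_⟩
      have := hc e⁻¹ ((show Commute e z from h1).inv_left).eq
        ((show Commute e z' from h2).inv_left).eq _ hh
      rwa [show e⁻¹ * (e * h * e⁻¹) * e⁻¹⁻¹ = h by group] at this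
    -- if `P` centralizes `z`, a contradiction
    have hne' : ¬ P ≤ T := fun h => by
      have hzP : z ∈ P := by
        rw [hPmem]
        refine hcentr _ (conjz z hzz') fun a ha => ?_
        have hp : g * a * g⁻¹ ∈ P := (hPmem _).2 (by
          rwa [show g⁻¹ * (g * a * g⁻¹) * g = a by group])
        have := hTz _ (h hp)
        calc g⁻¹ * z * g * a = g⁻¹ * (z * (g * a * g⁻¹)) * g := by group
          _ = g⁻¹ * ((g * a * g⁻¹) * z) * g := by rw [this]
          _ = a * (g⁻¹ * z * g) := by group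
      have hall : ∀ a ∈ Q, (g⁻¹ * z * g) * a = a * (g⁻¹ * z * g) := by
        intro a ha
        have hp : g * a * g⁻¹ ∈ P := (hPmem _).2 (by
          rwa [show g⁻¹ * (g * a * g⁻¹) * g = a by group])
        have := hTz _ (h hp)
        calc g⁻¹ * z * g * a = g⁻¹ * (z * (g * a * g⁻¹)) * g := by group
          _ = g⁻¹ * ((g * a * g⁻¹) * z) * g := by rw [this]
          _ = a * (g⁻¹ * z * g) := by group
      rcases hcen _ ((hPmem z).1 hzP) hall (by
        rw [show g⁻¹ * z * g * (g⁻¹ * z * g) = g⁻¹ * (z * z) * g by group, hz2]; group) with e | e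
      · exact hz1 (by
          calc z = g * (g⁻¹ * z * g) * g⁻¹ := by group
            _ = 1 := by rw [e]; group)
      · exact hne (by
          rw [← hz']
          calc g * z * g⁻¹ = g * (g⁻¹ * z * g) * g⁻¹ := by rw [e]
            _ = z := by group)
    have hlt : T.subgroupOf U < ⊤ := lt_top_iff_ne_top.2 fun h =>
      hne' (le_sup_left.trans (Subgroup.subgroupOf_eq_top.1 h))
    haveI : Group.IsNilpotent U := hUp.isNilpotent
    obtain ⟨m, hm, hm'⟩ := SetLike.exists_of_lt (Group.normalizerCondition_of_isNilpotent _ hlt)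
    have hmU : (m : G) ∈ (P : Set G) * (T : Set G) := by
      rw [← Subgroup.coe_mul_of_right_le_normalizer_left P T hER]
      exact m.2
    obtain ⟨y, hy, t, ht, hyt⟩ := hmU
    have hyT : y ∉ T := fun h => hm' (show (m : G) ∈ T by rw [← hyt]; exact mul_mem h ht)
    have hyzT : y * z * y⁻¹ ∈ T := by
      have h := (Subgroup.mem_normalizer_iff.1 hm ⟨z, Subgroup.mem_sup_right hzT⟩).1 hzT
      have h' : (m : G) * z * (m : G)⁻¹ ∈ T := h
      rw [← hyt] at h'
      rwa [show y * t * z * (y * t)⁻¹ = y * (t * z * t⁻¹) * y⁻¹ by group,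
        show t * z * t⁻¹ = z by rw [hTz t ht, mul_inv_cancel_right]] at h'
    have hnormT : ∀ e ∈ T, y⁻¹ * e * y ∈ T := by
      intro e he
      have h0 : t * e * t⁻¹ ∈ T := mul_mem (mul_mem ht he) (inv_mem ht)
      have h := (Subgroup.mem_normalizer_iff.1 (inv_mem hm) ⟨e, Subgroup.mem_sup_right he⟩).1 he
      have h' : (m : G)⁻¹ * e * (m : G)⁻¹⁻¹ ∈ T := h
      rw [← hyt] at h'
      have := mul_mem (mul_mem ht h') (inv_mem ht)
      rwa [show t * ((y * t)⁻¹ * e * (y * t)⁻¹⁻¹) * t⁻¹ = y⁻¹ * e * y by group] at this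
    set w := z * (y * z * y⁻¹) with hw
    have hwz : w * z = z * w := by
      rw [hw, mul_assoc, hTz _ hyzT]
    have hw2 : w * w = 1 := by
      calc w * w = z * (y * z * y⁻¹) * z * (y * z * y⁻¹) := by rw [hw]; group
        _ = z * ((y * z * y⁻¹) * z) * (y * z * y⁻¹) := by group
        _ = z * (z * (y * z * y⁻¹)) * (y * z * y⁻¹) := by rw [hTz _ hyzT]
        _ = (z * z) * (y * (z * z) * y⁻¹) := by group
        _ = 1 := by rw [hz2]; group
    have hwE : ∀ e ∈ E, w * e = e * w := by
      intro e he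
      have heT : e ∈ T := Subgroup.mem_sup_right he
      have h := hTz _ (hnormT e heT)
      have c1 : Commute (y * z * y⁻¹) e := by
        show y * z * y⁻¹ * e = e * (y * z * y⁻¹)
        calc y * z * y⁻¹ * e = y * (z * (y⁻¹ * e * y)) * y⁻¹ := by group
          _ = y * ((y⁻¹ * e * y) * z) * y⁻¹ := by rw [h]
          _ = e * (y * z * y⁻¹) := by group
      exact ((show Commute z e from (hQC e he.1).symm).mul_left c1).eq
    have hwP : w ∈ P := by
      have h1 := hPnorm z hzz' y hy
      have : w = (z * y * z⁻¹) * y⁻¹ := by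
        rw [hw, show z⁻¹ = z from inv_eq_of_mul_eq_one_right hz2]; group
      rw [this]; exact mul_mem h1 (inv_mem hy)
    have hqE : ∀ a ∈ Q, (a ∈ E ∨ q⁻¹ * a ∈ E) := by
      intro a ha
      rcases hcomm a ha z' hin with h | h
      · exact Or.inl ⟨ha, Subgroup.mem_centralizer_singleton_iff.2
          (mul_inv_eq_iff_eq_mul.1 (mul_inv_eq_one.1 h))⟩
      · refine Or.inr ⟨Q.mul_mem (Q.inv_mem hq) ha, Subgroup.mem_centralizer_singleton_iff.2 ?_⟩
        have h' : a * z' * a⁻¹ = z * z' := mul_inv_eq_iff_eq_mul.1 h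
        calc q⁻¹ * a * z' = q⁻¹ * (a * z' * a⁻¹) * a := by group
          _ = q⁻¹ * (q * z' * q⁻¹) * a := by rw [h', hqz]
          _ = z' * (q⁻¹ * a) := by group
    have hall : ∀ c, c * q = q * c → (∀ e ∈ E, c * e = e * c) → ∀ a ∈ Q, c * a = a * c := by
      intro c hcq hce a ha
      rcases hqE a ha with h | h
      · exact hce a h
      · have := ((show Commute c q from hcq).mul_right (hce _ h)).eq
        rwa [mul_inv_cancel_left] at this
    set d := w * q * w⁻¹ * q⁻¹ with hd
    have hdQ : d ∈ Q := mul_mem (hnorm w hwz q hq) (inv_mem hq)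
    have hwi : w⁻¹ = w := inv_eq_of_mul_eq_one_right hw2
    have hdE : ∀ e ∈ E, d * e = e * d := by
      intro e he
      have heq : q⁻¹ * e * q ∈ E := by
        refine ⟨Q.mul_mem (Q.mul_mem (Q.inv_mem hq) he.1) hq, Subgroup.mem_centralizer_singleton_iff.2 ?_⟩
        have h2 := Subgroup.mem_centralizer_singleton_iff.1 he.2
        have h1 := hQC e he.1
        have h3 : e * (z * z') = (z * z') * e :=
          ((show Commute e z from h1).mul_right (show Commute e z' from h2)).eq
        rw [← hqz] at h3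
        calc q⁻¹ * e * q * z' = q⁻¹ * (e * (q * z' * q⁻¹)) * q := by group
          _ = q⁻¹ * ((q * z' * q⁻¹) * e) * q := by rw [h3]
          _ = z' * (q⁻¹ * e * q) := by group
      have h1 := hwE _ heq
      have h2 := hwE e he
      calc d * e = w * q * (w⁻¹ * (q⁻¹ * e * q)) * q⁻¹ := by rw [hd]; group
        _ = w * q * ((q⁻¹ * e * q) * w⁻¹) * q⁻¹ := by
            rw [((show Commute w _ from h1).inv_left).eq]
        _ = (w * e) * (q * w⁻¹ * q⁻¹) := by group
        _ = (e * w) * (q * w⁻¹ * q⁻¹) := by rw [h2]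
        _ = e * d := by rw [hd]; group
    -- `d` is a central element, possibly times `z'`
    have hz'E : z' ∈ E := ⟨hin, Subgroup.mem_centralizer_singleton_iff.2 rfl⟩
    have hfix : ∀ f ∈ Q, (∀ a ∈ Q, f * a = a * f) → w * f = f * w := fun f hf hfc =>
      hwE f ⟨hf, Subgroup.mem_centralizer_singleton_iff.2 (hfc z' hin)⟩
    obtain ⟨f, hf, hfc, hdf⟩ : ∃ f ∈ Q, (∀ a ∈ Q, f * a = a * f) ∧ (d = f ∨ d = z' * f) := by
      rcases hcomm d hdQ q hq with h | h
      · exact ⟨d, hdQ, hall d (mul_inv_eq_iff_eq_mul.1 (mul_inv_eq_one.1 h)) hdE, Or.inl rfl⟩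
      · refine ⟨z' * d, mul_mem hin hdQ, hall _ ?_ ?_, Or.inr (by rw [← mul_assoc, hz'2, one_mul])⟩
        · have h1 : d * q = z * q * d := by
            have := mul_inv_eq_iff_eq_mul.1 h
            rw [← mul_inv_eq_iff_eq_mul.1 this]
          have h2 : z' * q * z = q * z' := by
            have e : z' * q = q * (z * z') := by
              calc z' * q = (q * (z * z') * q⁻¹) * q := by rw [hq3]
                _ = q * (z * z') := by group
            rw [e, hzz', mul_assoc q (z' * z) z, mul_assoc z' z z, hz2, mul_one]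
          calc z' * d * q = z' * (z * q * d) := by rw [mul_assoc, h1]
            _ = z' * q * z * d := by rw [← hQC q hq]; group
            _ = q * (z' * d) := by rw [h2, mul_assoc]
        · exact fun e he => ((show Commute z' e from
            (Subgroup.mem_centralizer_singleton_iff.1 he.2).symm).mul_left (hdE e he)).eq
    have hwd : w * d = d * w := by
      rcases hdf with h | h <;> rw [h]
      · exact hfix f hf hfc
      · exact ((show Commute w z' from hwE z' hz'E).mul_right (hfix f hf hfc)).eq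
    have hd2 : d * d = 1 := by
      have e : w * q * w⁻¹ = d * q := by rw [hd]; group
      calc d * d = d * (w * q * w⁻¹) * q⁻¹ := by rw [e]; group
        _ = (w * d) * q * w⁻¹ * q⁻¹ := by rw [hwd]; group
        _ = w * (w * q * w⁻¹ * q⁻¹) * q * w⁻¹ * q⁻¹ := rfl
        _ = (w * w) * q * (w * w)⁻¹ * q⁻¹ := by group
        _ = 1 := by rw [hw2]; group
    have hf2 : f * f = 1 := by
      rcases hdf with h | h
      · rwa [h] at hd2
      · rw [h] at hd2
        calc f * f = (z' * z') * (f * f) := by rw [hz'2, one_mul]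
          _ = z' * (z' * f) * f := by group
          _ = z' * (f * z') * f := by rw [hfc z' hin]
          _ = 1 := by rw [← hd2]; group
    have hf1 := hcen f hf hfc hf2
    -- `d` is one or `z`
    have hdz : d = 1 ∨ d = z := by
      rcases hdf with h | h
      · rw [h]; exact hf1
      · exfalso
        have hq2 : q * q ∈ E := by
          refine ⟨mul_mem hq hq, Subgroup.mem_centralizer_singleton_iff.2 ?_⟩
          calc q * q * z' = q * (q * z' * q⁻¹) * q := by group
            _ = q * (z * z') * q⁻¹ * (q * q) := by rw [hqz]; group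
            _ = z' * (q * q) := by rw [hq3]
        have e2 : d * q * (d * q) = q * q := by
          have e : w * q * w⁻¹ = d * q := by rw [hd]; group
          rw [← e]
          calc w * q * w⁻¹ * (w * q * w⁻¹) = w * (q * q) * w⁻¹ := by group
            _ = q * q := by rw [hwE _ hq2, mul_inv_cancel_right]
        have e3 : d * q * d = q := by
          calc d * q * d = d * q * (d * q) * q⁻¹ := by group
            _ = q := by rw [e2]; group
        rw [h] at e3
        have hfq := hfc q hq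
        have : z' * q * z' = q := by
          calc z' * q * z' = z' * q * z' * (f * f) := by rw [hf2, mul_one]
            _ = z' * (q * (z' * f)) * f := by group
            _ = z' * (q * (f * z')) * f := by rw [hfc z' hin]
            _ = z' * (q * f) * (z' * f) := by group
            _ = z' * (f * q) * (z' * f) := by rw [hfq]
            _ = z' * f * q * (z' * f) := by group
            _ = q := e3
        have : z * z' = z' := by
          rw [← hqz]
          calc q * z' * q⁻¹ = (z' * q * z') * z' * q⁻¹ := by rw [this]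
            _ = z' * q * (z' * z') * q⁻¹ := by group
            _ = z' := by rw [hz'2]; group
        exact hz1 (mul_eq_right.1 this)
    -- hence `w` is in the four-group
    have hwq : w * q = d * q * w := by rw [hd]; group
    have hwV : w = 1 ∨ w = z ∨ w = z' ∨ w = z' * z := by
      rcases hdz with h | h
      · have hc := hall w (by rw [hwq, h, one_mul]) hwE
        rcases hcen w (hcentr w hwz hc) hc hw2 with e | e
        · exact Or.inl e
        · exact Or.inr (Or.inl e)
      · have hzq : (z' * w) * q = q * (z' * w) := by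
          have h2 : z' * (z * q) = q * z' := by
            calc z' * (z * q) = z' * (q * z) := by rw [hQC q hq]
              _ = (q * (z * z') * q⁻¹) * (q * z) := by rw [hq3]
              _ = q * (z * z' * z) := by group
              _ = q * z' := by rw [hzz', mul_assoc, hz2, mul_one]
          rw [mul_assoc, hwq, h, ← mul_assoc, h2, mul_assoc]
        have hc := hall (z' * w) hzq fun e he => ((show Commute z' e from
          (Subgroup.mem_centralizer_singleton_iff.1 he.2).symm).mul_left (hwE e he)).eq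
        have hwz' : w * z' = z' * w := hwE z' hz'E
        have hc2 : z' * w * (z' * w) = 1 := by
          rw [mul_assoc, ← mul_assoc w z' w, hwz', mul_assoc z' w w, hw2, mul_one, hz'2]
        have hzw : z' * w * z = z * (z' * w) :=
          ((show Commute z' z from hzz'.symm).mul_left hwz).eq
        rcases hcen _ (hcentr _ hzw hc) hc hc2 with e | e
        · refine Or.inr (Or.inr (Or.inl ?_))
          calc w = z' * (z' * w) := by rw [← mul_assoc, hz'2, one_mul]
            _ = z' := by rw [e, mul_one]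
        · refine Or.inr (Or.inr (Or.inr ?_))
          calc w = z' * (z' * w) := by rw [← mul_assoc, hz'2, one_mul]
            _ = z' * z := by rw [e]
    have hyz' : y * z' = z' * y := hPC y hy
    have hyzy : y * z * y⁻¹ = z * w := by rw [hw, ← mul_assoc z z, hz2, one_mul]
    have hw1 : w ≠ 1 := fun h => hyT (Subgroup.mem_sup_left ⟨hy,
      Subgroup.mem_centralizer_singleton_iff.2 (mul_inv_eq_iff_eq_mul.1 (by rw [hyzy, h, mul_one]))⟩)
    refine ⟨y, hy, ?_⟩
    rcases hwV with h | h | h | h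
    · exact absurd h hw1
    · exfalso
      apply hz1
      calc z = y⁻¹ * (y * z * y⁻¹) * y := by group
        _ = 1 := by rw [hyzy, h, hz2]; group
    · rw [hyzy, h]
    · exfalso
      apply hne
      have e : y * z * y⁻¹ = z' := by rw [hyzy, h, hzz'.symm, ← mul_assoc, hz2, one_mul]
      calc z' = y⁻¹ * (z' * y) := by rw [← hyz']; group
        _ = z := by rw [← e]; group
  have hyz' : y * z' * y⁻¹ = z' := by rw [hPC y hy, mul_inv_cancel_right]
  have hy3 : y * (z * z') * y⁻¹ = z := by
    calc y * (z * z') * y⁻¹ = (y * z * y⁻¹) * (y * z' * y⁻¹) := by group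
      _ = z * (z' * z') := by rw [hyz, hyz']; group
      _ = z := by rw [hz'2, mul_one]
  have comp : ∀ a b x : G, a * b * x * (a * b)⁻¹ = a * (b * x * b⁻¹) * a⁻¹ := fun a b x => by group
  constructor
  · -- `k = q * y` permutes the three involutions cyclically
    rw [hPmem]
    have k1 : q * y * z * (q * y)⁻¹ = z' := by rw [comp, hyz, hq3]
    have k2 : q * y * z' * (q * y)⁻¹ = z * z' := by rw [comp, hyz', hqz]
    have hk : (g⁻¹ * (q * y)) * z = z * (g⁻¹ * (q * y)) := by
      calc g⁻¹ * (q * y) * z = g⁻¹ * (q * y * z * (q * y)⁻¹) * (q * y) := by group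
        _ = g⁻¹ * (g * z * g⁻¹) * (q * y) := by rw [k1, hz']
        _ = _ := by group
    have h1 := hnorm _ hk z' hin
    have h2 : g⁻¹ * (z * z') * g ∈ Q := by
      rw [← k2]
      rwa [show g⁻¹ * (q * y * z' * (q * y)⁻¹) * g = g⁻¹ * (q * y) * z' * (g⁻¹ * (q * y))⁻¹ by group]
    have h3 := mul_mem h2 ((hPmem z').1 hz'P)
    rwa [show g⁻¹ * (z * z') * g * (g⁻¹ * z' * g) = g⁻¹ * (z * (z' * z')) * g by group, hz'2,
      mul_one] at h3
  · intro u hu v hv hu1 hv1 huv
    let V := Invol.NormalFour.fourOf z z' hz2 hz'2 hzz'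
    have hV : Subgroup.closure ({z, z'} : Set G) ≤ V := by
      rw [Subgroup.closure_le]
      rintro x (rfl | rfl)
      · exact Or.inr (Or.inl rfl)
      · exact Or.inr (Or.inr (Or.inl rfl))
    have hqs : q ∈ Q ⊔ P := Subgroup.mem_sup_left hq
    have hys : y ∈ Q ⊔ P := Subgroup.mem_sup_right hy
    rcases hV hu with e1 | e1 | e1 | e1 <;> rcases hV hv with e2 | e2 | e2 | e2 <;>
      first
      | exact absurd e1 hu1
      | exact absurd e2 hv1
      | exact absurd (e1.trans e2.symm) huv
      | skip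
    · exact ⟨1, one_mem _, by rw [e1]; group, by rw [e2]; group⟩
    · exact ⟨q, hqs, by rw [e1, hqzz], by rw [e2, hqz]⟩
    · exact ⟨q * (y * q), mul_mem hqs (mul_mem hys hqs), by rw [comp, comp, hqzz, hyz, hq3, e1],
        by rw [comp, comp, hqz, hy3, hqzz, e2]⟩
    · exact ⟨q * y, mul_mem hqs hys, by rw [comp, hyz, hq3, e1], by rw [comp, hyz', hqz, e2]⟩
    · exact ⟨y * q, mul_mem hys hqs, by rw [comp, hqzz, hyz, e1], by rw [comp, hqz, hy3, e2]⟩
    · exact ⟨y, hys, by rw [hyz, e1], by rw [hyz', e2]⟩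


/-- Let G be a finite group and let z be an involution of G such that Q, the generalized Fitting subgroup of the centralizer C of z, is a 2-group of symplectic type (every characteristic abelian subgroup of Q is cyclic); suppose every element of Q has order dividing 4. Let g ∈ G with z' = g z g⁻¹ ≠ z and z' ∈ Q. Then z lies in the conjugate g Q g⁻¹, and the subgroup X generated by Q and g Q g⁻¹ induces every automorphism of the four-group generated by z and z': for any two distinct non-identity elements u, v of that four-group there is x ∈ X with x z x⁻¹ = u and x z' x⁻¹ = v. -/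
theorem result {G : Type*} [Group G] [Finite G] (z : G) (hz : orderOf z = 2) (hQ : Cfsg.IsOfSymplecticType ↥(Cfsg.generalizedFittingSubgroup ↥(Subgroup.centralizer ({z} : Set G))))
    (h4 : ∀ q ∈ (Cfsg.generalizedFittingSubgroup ↥(Subgroup.centralizer ({z} : Set G))).map (Subgroup.centralizer ({z} : Set G)).subtype, q ^ 4 = 1) (g : G) (hne : g * z * g⁻¹ ≠ z) (hin : g * z * g⁻¹ ∈ (Cfsg.generalizedFittingSubgroup ↥(Subgroup.centralizer ({z} : Set G))).map (Subgroup.centralizer ({z} : Set G)).subtype) :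
    z ∈ ((Cfsg.generalizedFittingSubgroup ↥(Subgroup.centralizer ({z} : Set G))).map (Subgroup.centralizer ({z} : Set G)).subtype).map (MulAut.conj g).toMonoidHom ∧
      ∀ u ∈ Subgroup.closure ({z, g * z * g⁻¹} : Set G), ∀ v ∈ Subgroup.closure ({z, g * z * g⁻¹} : Set G),
        u ≠ 1 → v ≠ 1 → u ≠ v →
          ∃ x ∈ (Cfsg.generalizedFittingSubgroup ↥(Subgroup.centralizer ({z} : Set G))).map (Subgroup.centralizer ({z} : Set G)).subtype ⊔ ((Cfsg.generalizedFittingSubgroup ↥(Subgroup.centralizer ({z} : Set G))).map (Subgroup.centralizer ({z} : Set G)).subtype).map (MulAut.conj g).toMonoidHom, x * z * x⁻¹ = u ∧ x * (g * z * g⁻¹) * x⁻¹ = v := by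
  haveI : Fact (Nat.Prime 2) := ⟨Nat.prime_two⟩
  set F := Cfsg.generalizedFittingSubgroup ↥(Subgroup.centralizer ({z} : Set G)) with hF
  set Q := F.map (Subgroup.centralizer ({z} : Set G)).subtype with hQdef
  have hz2 : z * z = 1 := by rw [← pow_two, ← hz]; exact pow_orderOf_eq_one z
  have hz1 : z ≠ 1 := fun h => by rw [h, orderOf_one] at hz; omega
  have hzC : z ∈ Subgroup.centralizer ({z} : Set G) := Subgroup.mem_centralizer_singleton_iff.mpr rfl
  have hQC : ∀ q ∈ Q, q * z = z * q := fun q hq =>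
    Subgroup.mem_centralizer_singleton_iff.1 (Subgroup.map_subtype_le _ hq)
  have hzQ : z ∈ Q := by
    refine ⟨⟨z, hzC⟩, Components.centralizer_fStar_le ?_, rfl⟩
    rw [Subgroup.mem_centralizer_iff]
    exact fun c _ => Subtype.ext (Subgroup.mem_centralizer_singleton_iff.1 c.2)
  have hQ4 : ∀ q : F, q ^ 4 = 1 := fun q =>
    Subtype.ext (Subtype.ext (h4 _ ⟨q.1, q.2, rfl⟩))
  have hcen : ∀ f ∈ Q, (∀ q ∈ Q, f * q = q * f) → f * f = 1 → f = 1 ∨ f = z := by
    rintro _ ⟨f, hf, rfl⟩ hc hf2
    haveI := hQ.2 (Subgroup.center ↥F) inferInstance inferInstance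
    haveI := Fintype.ofFinite (Subgroup.center ↥F)
    by_contra hcon
    push Not at hcon
    obtain ⟨zc, hzc, hzc'⟩ := hzQ
    have hfc : (⟨f, hf⟩ : F) ∈ Subgroup.center ↥F := Subgroup.mem_center_iff.2 fun a =>
      Subtype.ext (Subtype.ext (hc _ ⟨a.1, a.2, rfl⟩).symm)
    have hzcen : (⟨zc, hzc⟩ : F) ∈ Subgroup.center ↥F := Subgroup.mem_center_iff.2 fun a =>
      Subtype.ext (Subtype.ext (by
        show (a.1 : G) * (zc : G) = (zc : G) * (a.1 : G)
        rw [show (zc : G) = z from hzc']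
        exact hQC _ ⟨a.1, a.2, rfl⟩))
    set a : Subgroup.center ↥F := ⟨_, hfc⟩ with ha
    set b : Subgroup.center ↥F := ⟨_, hzcen⟩ with hb
    have ha1 : a ≠ 1 := fun h => hcon.1 (congrArg (fun x : Subgroup.center ↥F => ((x.1.1 : _) : G)) h)
    have hb1 : b ≠ 1 := fun h => hz1
      (hzc'.symm.trans (congrArg (fun x : Subgroup.center ↥F => ((x.1.1 : _) : G)) h))
    have hab : a ≠ b := fun h => hcon.2
      ((congrArg (fun x : Subgroup.center ↥F => ((x.1.1 : _) : G)) h).trans hzc')
    classical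
    have h3 : ({1, a, b} : Finset (Subgroup.center ↥F)).card = 3 :=
      Finset.card_eq_three.2 ⟨1, a, b, ha1.symm, hb1.symm, hab, rfl⟩
    have h4' : ({1, a, b} : Finset (Subgroup.center ↥F)).card ≤
        (Finset.univ.filter fun x : Subgroup.center ↥F => x ^ 2 = 1).card := by
      refine Finset.card_le_card fun x hx => ?_
      simp only [Finset.mem_insert, Finset.mem_singleton] at hx
      rw [Finset.mem_filter]
      refine ⟨Finset.mem_univ x, ?_⟩
      rcases hx with rfl | rfl | rfl
      · exact one_pow 2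
      · rw [pow_two]; exact Subtype.ext (Subtype.ext (Subtype.ext hf2))
      · rw [pow_two]
        refine Subtype.ext (Subtype.ext (Subtype.ext ?_))
        show (zc : G) * (zc : G) = 1
        rw [show (zc : G) = z from hzc']; exact hz2
    have := IsCyclic.card_pow_eq_one_le (α := Subgroup.center ↥F) (n := 2) (by omega)
    omega
  refine core z Q hz2 hzQ (hQ.1.map _) hQC ?_ ?_ h4 ?_ hcen g _ rfl hne hin
  · rintro c hc _ ⟨q, hq, rfl⟩
    exact ⟨⟨c, Subgroup.mem_centralizer_singleton_iff.2 hc⟩ * q *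
      (⟨c, Subgroup.mem_centralizer_singleton_iff.2 hc⟩ : Subgroup.centralizer ({z} : Set G))⁻¹,
      (inferInstance : F.Normal).conj_mem q hq _, rfl⟩
  · intro c hc hcq
    refine ⟨⟨c, Subgroup.mem_centralizer_singleton_iff.2 hc⟩, Components.centralizer_fStar_le ?_, rfl⟩
    rw [Subgroup.mem_centralizer_iff]
    exact fun a ha => Subtype.ext (hcq _ ⟨a, ha, rfl⟩).symm
  · rintro _ ⟨a, ha, rfl⟩ _ ⟨b, hb, rfl⟩
    have hm : a * b * a⁻¹ * b⁻¹ ∈ F :=
      mul_mem (mul_mem (mul_mem ha hb) (inv_mem ha)) (inv_mem hb)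
    obtain ⟨h1, h2⟩ := comm_central hQ hQ4 ⟨a, ha⟩ ⟨b, hb⟩
    refine hcen _ ⟨_, hm, rfl⟩ ?_ ?_
    · rintro _ ⟨c, hc, rfl⟩
      exact (congrArg (fun x : F => ((x.1 : _) : G)) (Subgroup.mem_center_iff.1 h1 ⟨c, hc⟩)).symm
    · exact congrArg (fun x : F => ((x.1 : _) : G)) h2

end Cfsg.Agent.S1774
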