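import Mathlib
import Cfsg.Statements.S1780

set_option autoImplicit false
open Cfsg

namespace Cfsg.Agent.S1780

/-- Let A be a finite abelian 2-group and t an automorphism of A whose order is a power of 2. If every element of A fixed by t² is fixed by t, then t fixes every element of A. -/
theorem result {A : Type*} [CommGroup A] [Finite A]
    (hA : IsPGroup 2 A) (t : MulAut A) (ht : ∃ k : ℕ, orderOf t = 2 ^ k) (hC : ∀ a : A, t (t a) = a → t a = a) :
    ∀ a : A, t a = a := by
  obtain ⟨k, hk⟩ := ht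
  haveI : Fact (Nat.Prime 2) := ⟨Nat.prime_two⟩
  intro a₀
  let D : A →* A := MonoidHom.mk' (fun a => t a / a) (fun a b => by simp only [map_mul]; rw [mul_div_mul_comm])
  have hD : ∀ a, t a = D a * a := fun a => by simp [D]
  -- squares of `t` iterate
  have hP : IsPGroup 2 (Subgroup.zpowers t) := IsPGroup.of_card (G := Subgroup.zpowers t) (n := k) (by rw [Nat.card_zpowers, hk])
  by_contra hne
  -- the fixed subgroup is proper; act on the quotient
  let F : Subgroup A := D.ker
  have hF : ∀ a, a ∈ F ↔ t a = a := fun a => by simp [F, D, MonoidHom.mem_ker, div_eq_one]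
  have hstab : ∀ g ∈ Subgroup.zpowers t, ∀ a ∈ F, g a ∈ F := by
    intro g hg a ha
    rw [hF] at ha ⊢
    have hc : t * g = g * t := by obtain ⟨j, rfl⟩ := Subgroup.mem_zpowers_iff.mp hg; exact ((Commute.refl t).zpow_right j).eq
    have := congrArg (fun f : MulAut A => f a) hc
    simp only [MulAut.mul_apply, ha] at this
    exact this
  letI : MulAction (Subgroup.zpowers t) (A ⧸ F) :=
    { smul := fun g => Quotient.map' (fun a => (g : MulAut A) a) (fun a b h => by
        rw [QuotientGroup.leftRel_apply] at h ⊢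
        have := hstab g g.2 _ h
        rwa [map_mul, map_inv] at this)
      one_smul := fun q => Quotient.inductionOn' q fun a => rfl
      mul_smul := fun g h q => Quotient.inductionOn' q fun a => rfl }
  have hFne : F ≠ ⊤ := fun h => hne ((hF a₀).mp (h ▸ Subgroup.mem_top a₀))
  haveI hnt : Nontrivial (A ⧸ F) := QuotientGroup.nontrivial_iff.mpr hFne
  obtain ⟨m, hm⟩ := IsPGroup.iff_card.mp (hA.to_quotient F)
  have hdvd : 2 ∣ Nat.card (A ⧸ F) := by
    rcases Nat.eq_zero_or_pos m with rfl | hpos
    · have h1 := Finite.one_lt_card (α := A ⧸ F); rw [hm, pow_zero] at h1; omega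
    · rw [hm]; exact dvd_pow_self 2 hpos.ne'
  have h1 : ((1 : A) : A ⧸ F) ∈ MulAction.fixedPoints (Subgroup.zpowers t) (A ⧸ F) := fun g => by
    show ((( g : MulAut A) 1 : A) : A ⧸ F) = _
    rw [map_one]
  obtain ⟨b, hb, hb1⟩ := hP.exists_fixed_point_of_prime_dvd_card_of_fixed_point (A ⧸ F) hdvd h1
  obtain ⟨a, rfl⟩ := QuotientGroup.mk_surjective b
  -- `D a` is fixed and nontrivial; replace `a` by a power so that `D a` has order two
  have hDa : D a ∈ F := by
    have := hb ⟨t, Subgroup.mem_zpowers t⟩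
    have h' : ((t a : A) : A ⧸ F) = (a : A ⧸ F) := this
    rw [eq_comm, QuotientGroup.eq] at h'
    simpa [D, div_eq_inv_mul] using h'
  have hDa1 : D a ≠ 1 := fun h => hb1 (by
    have ha : a ∈ F := h
    exact (QuotientGroup.eq.mpr (by simpa using inv_mem ha)).symm)
  obtain ⟨j, hj⟩ := (IsPGroup.iff_orderOf.mp hA) (D a)
  obtain ⟨i, rfl⟩ : ∃ i, j = i + 1 := Nat.exists_eq_succ_of_ne_zero (fun h => hDa1 (orderOf_eq_one_iff.mp (by rw [hj, h, pow_zero])))
  let c := a ^ 2 ^ i
  have hc1 : D c ≠ 1 := by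
    rw [map_pow]
    exact pow_ne_one_of_lt_orderOf (by positivity) (by rw [hj, pow_succ]; have := Nat.two_pow_pos i; omega)
  have hc2 : D c * D c = 1 := by
    rw [map_pow, ← pow_add, ← two_mul, ← pow_succ', ← hj, pow_orderOf_eq_one]
  have hcF : t (D c) = D c := (hF _).mp (by rw [map_pow]; exact pow_mem hDa _)
  have : t (t c) = c := by rw [hD c, map_mul, hcF, hD c, ← mul_assoc, hc2, one_mul]
  exact hc1 (by simp [D, hC c this])

end Cfsg.Agent.S1780
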