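import Cfsg.Statements.S1781
import Mathlib
import Cfsg.Agent.Lib.Components.Subnormal

set_option autoImplicit false
open Cfsg

namespace Cfsg.Agent.S1781

/-- Let A be an abelian 2-subgroup of the finite group G such that every conjugate of A equals A or meets A trivially, and let g ∈ G with g A g⁻¹ ≠ A. Then either the subgroup of those elements of A that normalize g A g⁻¹ is an elementary abelian 2-group, or A and g A g⁻¹ commute elementwise. -/
theorem result {G : Type*} [Group G] [Finite G] (A : Subgroup G)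
    (hA2 : IsPGroup 2 ↥A) (hAa : IsMulCommutative ↥A)
    (hti : ∀ h : G, A.map (MulAut.conj h).toMonoidHom = A ∨ A.map (MulAut.conj h).toMonoidHom ⊓ A = ⊥)
    (g : G) (hg : A.map (MulAut.conj g).toMonoidHom ≠ A) :
    Cfsg.IsElementaryAbelian 2 (A ⊓ Subgroup.normalizer ((A.map (MulAut.conj g).toMonoidHom : Subgroup G) : Set G)) ∨
      ⁅A, A.map (MulAut.conj g).toMonoidHom⁆ = ⊥ := by
  classical
  set φ := (MulAut.conj g).toMonoidHom with hφ
  set B := A.map φ with hB
  have hB2 : IsPGroup 2 ↥B := hA2.map φ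
  have comm : ∀ (X : Subgroup G), IsMulCommutative ↥X → ∀ x ∈ X, ∀ y ∈ X, x * y = y * x :=
    fun X hX x hx y hy => congrArg Subtype.val (hX.is_comm.comm ⟨x, hx⟩ ⟨y, hy⟩)
  have hcA := comm A hAa
  have hcB : ∀ x ∈ B, ∀ y ∈ B, x * y = y * x := by
    rintro _ ⟨a, ha, rfl⟩ _ ⟨b, hb, rfl⟩
    rw [← map_mul, ← map_mul, hcA a ha b hb]
  -- a TI pair: a non-involution of one subgroup normalising the other centralises it
  have main : ∀ X Y : Subgroup G, IsPGroup 2 ↥Y → (∀ u ∈ X, ∀ v ∈ X, u * v = v * u) →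
      (∀ u ∈ Y, ∀ v ∈ Y, u * v = v * u) →
      (∀ h : G, X.map (MulAut.conj h).toMonoidHom = X ∨ X.map (MulAut.conj h).toMonoidHom ⊓ X = ⊥) →
      X ⊓ Y = ⊥ → ∀ a ∈ X, IsPGroup 2 ↥(Subgroup.zpowers a) →
      a ∈ Subgroup.normalizer (Y : Set G) → a * a ≠ 1 →
      (∀ b ∈ Y, a * b = b * a) ∧ Y ≤ Subgroup.normalizer (X : Set G) := by
    intro X Y hY hcX hcY htiX hXY a ha hap haN ha2
    have hN : ∀ b : G, b * (a * a) * b⁻¹ = a * a → b ∈ Subgroup.normalizer (X : Set G) := by
      intro b hb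
      rcases htiX b with h | h
      · exact Components.mem_normalizer_of_map_conj_eq h
      · exfalso
        refine ha2 (Subgroup.mem_bot.mp (h ▸ ⟨?_, X.mul_mem ha ha⟩))
        exact ⟨a * a, X.mul_mem ha ha, hb⟩
    have hcross : ∀ b ∈ Y, b ∈ Subgroup.normalizer (X : Set G) → a * b = b * a := by
      intro b hb hbN
      have h1 : a * b * a⁻¹ * b⁻¹ ∈ X ⊓ Y := by
        refine ⟨?_, Y.mul_mem ((Subgroup.mem_normalizer_iff.mp haN b).mp hb) (Y.inv_mem hb)⟩
        have := X.mul_mem ha ((Subgroup.mem_normalizer_iff.mp hbN a⁻¹).mp (X.inv_mem ha))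
        simpa [mul_assoc] using this
      rw [hXY, Subgroup.mem_bot, mul_inv_eq_one, mul_inv_eq_iff_eq_mul] at h1
      exact h1
    let f : ↥Y →* ↥Y :=
      { toFun := fun b => ⟨(b : G)⁻¹ * (a * b * a⁻¹),
          Y.mul_mem (Y.inv_mem b.2) ((Subgroup.mem_normalizer_iff.mp haN _).mp b.2)⟩
        map_one' := Subtype.ext (by simp)
        map_mul' := fun x y => Subtype.ext (by
          have h1 := hcY _ (Y.inv_mem x.2) _ (Y.inv_mem y.2)
          have h2 := hcY _ (Y.inv_mem y.2) _ ((Subgroup.mem_normalizer_iff.mp haN _).mp x.2)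
          show ((x : G) * y)⁻¹ * (a * ((x : G) * y) * a⁻¹) =
            (x : G)⁻¹ * (a * x * a⁻¹) * ((y : G)⁻¹ * (a * y * a⁻¹))
          calc ((x : G) * y)⁻¹ * (a * ((x : G) * y) * a⁻¹)
              = (y : G)⁻¹ * (x : G)⁻¹ * (a * x * a⁻¹) * (a * y * a⁻¹) := by group
            _ = (x : G)⁻¹ * ((y : G)⁻¹ * (a * x * a⁻¹)) * (a * y * a⁻¹) := by rw [← h1]; group
            _ = _ := by rw [h2]; group) }
    have hcent : ∀ b ∈ Y, a * b = b * a := by
      by_contra hne
      push Not at hne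
      obtain ⟨b₀, hb₀, hb₀'⟩ := hne
      let R := (f.range).map Y.subtype
      let S : Set G := {r | r ∈ R ∧ r * r = 1}
      have hRY : R ≤ Y := Subgroup.map_subtype_le _
      have hSinv : ∀ c ∈ Subgroup.zpowers a, ∀ r ∈ S, c * r * c⁻¹ ∈ S := by
        have hR1 : ∀ c ∈ Subgroup.zpowers a, ∀ r ∈ R, c * r * c⁻¹ ∈ R := by
          intro c hc
          have hcN : c ∈ Subgroup.normalizer (Y : Set G) := Subgroup.zpowers_le.mpr haN hc
          rintro _ ⟨_, ⟨b, rfl⟩, rfl⟩
          refine ⟨f ⟨c * b * c⁻¹, (Subgroup.mem_normalizer_iff.mp hcN _).mp b.2⟩, ⟨_, rfl⟩, ?_⟩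
          obtain ⟨n, rfl⟩ := hc
          have hca : a * a ^ n = a ^ n * a := (Commute.self_zpow a n).eq
          show (a ^ n * b * (a ^ n)⁻¹)⁻¹ * (a * (a ^ n * b * (a ^ n)⁻¹) * a⁻¹) =
            a ^ n * ((b : G)⁻¹ * (a * b * a⁻¹)) * (a ^ n)⁻¹
          calc (a ^ n * b * (a ^ n)⁻¹)⁻¹ * (a * (a ^ n * b * (a ^ n)⁻¹) * a⁻¹)
              = a ^ n * (b : G)⁻¹ * (a ^ n)⁻¹ * (a * a ^ n) * b * ((a * a ^ n))⁻¹ := by group
            _ = a ^ n * (b : G)⁻¹ * (a ^ n)⁻¹ * (a ^ n * a) * b * ((a ^ n * a))⁻¹ := by rw [hca]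
            _ = _ := by group
        intro c hc r hr
        refine ⟨hR1 c hc r hr.1, ?_⟩
        calc c * r * c⁻¹ * (c * r * c⁻¹) = c * (r * r) * c⁻¹ := by group
          _ = 1 := by rw [hr.2]; group
      letI act : MulAction ↥(Subgroup.zpowers a) S :=
        { smul := fun c r => ⟨(c : G) * r * (c : G)⁻¹, hSinv c c.2 r r.2⟩
          one_smul := fun r => Subtype.ext (by show (1 : G) * r * (1 : G)⁻¹ = r; group)
          mul_smul := fun c d r => Subtype.ext (by
            show ((c : G) * d) * r * ((c : G) * d)⁻¹ = (c : G) * ((d : G) * r * (d : G)⁻¹) * (c : G)⁻¹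
            group) }
      have hRne : R ≠ ⊥ := by
        intro h
        apply hb₀'
        have h1 : ((f ⟨b₀, hb₀⟩ : ↥Y) : G) ∈ R := ⟨_, ⟨⟨b₀, hb₀⟩, rfl⟩, rfl⟩
        rw [h, Subgroup.mem_bot] at h1
        have h2 : b₀⁻¹ * (a * b₀ * a⁻¹) = 1 := h1
        rw [inv_mul_eq_one] at h2
        calc a * b₀ = a * b₀ * a⁻¹ * a := by group
          _ = b₀ * a := by rw [← h2]
      haveI := (Subgroup.nontrivial_iff_ne_bot R).mpr hRne
      have hR2 : IsPGroup 2 ↥R := hY.to_le hRY
      have hScard : 2 ∣ Nat.card S := by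
        -- `S` is the kernel of squaring on `R`
        let sq : ↥R →* ↥R :=
          { toFun := fun r => r * r
            map_one' := one_mul 1
            map_mul' := fun x y => Subtype.ext (by
              show (x : G) * y * ((x : G) * y) = (x : G) * x * ((y : G) * y)
              have := hcY _ (hRY y.2) _ (hRY x.2)
              calc (x : G) * y * ((x : G) * y) = (x : G) * ((y : G) * x) * y := by group
                _ = _ := by rw [this]; group) }
        obtain ⟨k, hk⟩ := hR2.exists_card_eq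
        have hk0 : k ≠ 0 := fun h => by
          have := Finite.one_lt_card (α := ↥R)
          rw [hk, h] at this
          simp at this
        obtain ⟨r, hr⟩ := exists_prime_orderOf_dvd_card' (G := ↥R) 2 (hk ▸ dvd_pow_self 2 hk0)
        have hrk : r ∈ sq.ker := by
          show r * r = 1
          rw [← pow_two, ← hr, pow_orderOf_eq_one]
        have e : ↥sq.ker ≃ S :=
          { toFun := fun x => ⟨x.1.1, x.1.2, congrArg Subtype.val x.2⟩
            invFun := fun s => ⟨⟨s.1, s.2.1⟩, Subtype.ext s.2.2⟩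
            left_inv := fun _ => rfl
            right_inv := fun _ => rfl }
        rw [← Nat.card_congr e, ← hr]
        have := orderOf_dvd_natCard (⟨r, hrk⟩ : sq.ker)
        rwa [← Subgroup.orderOf_coe] at this
      have hone : (⟨1, R.one_mem, one_mul 1⟩ : S) ∈ MulAction.fixedPoints ↥(Subgroup.zpowers a) S :=
        fun c => Subtype.ext (by show (c : G) * 1 * (c : G)⁻¹ = 1; group)
      obtain ⟨⟨r, hrR, hr2⟩, hrfix, hr1⟩ :=
        hap.exists_fixed_point_of_prime_dvd_card_of_fixed_point _ hScard hone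
      have hra : a * r * a⁻¹ = r :=
        congrArg Subtype.val (hrfix ⟨a, Subgroup.mem_zpowers a⟩)
      obtain ⟨_, ⟨b, rfl⟩, hbr⟩ := hrR
      have hbr' : (b : G)⁻¹ * (a * b * a⁻¹) = r := hbr
      -- `b` normalises `X`, hence centralises `a`
      have har : a * r = r * a := by
        calc a * r = a * r * a⁻¹ * a := by group
          _ = r * a := by rw [hra]
      have h4 : (b : G)⁻¹ * a * b = r * a := by rw [← hbr']; group
      have h5 : (b : G)⁻¹ * (a * a) * b = a * a := by
        calc (b : G)⁻¹ * (a * a) * b = ((b : G)⁻¹ * a * b) * ((b : G)⁻¹ * a * b) := by group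
          _ = r * (a * r) * a := by rw [h4]; group
          _ = (r * r) * (a * a) := by rw [har]; group
          _ = a * a := by rw [hr2, one_mul]
      have hbN := inv_mem (hN (b : G)⁻¹ (by rw [inv_inv]; exact h5))
      rw [inv_inv] at hbN
      have h6 := hcross b b.2 hbN
      apply hr1
      refine Subtype.ext ?_
      show (1 : G) = r
      rw [← hbr', h6]
      group
    exact ⟨hcent, fun b hb => hN b (by
      have h := hcent b hb
      calc b * (a * a) * b⁻¹ = (b * a) * a * b⁻¹ := by group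
        _ = (a * b) * a * b⁻¹ := by rw [h]
        _ = a * (b * a) * b⁻¹ := by group
        _ = a * (a * b) * b⁻¹ := by rw [h]
        _ = a * a := by group)⟩
  have hAB : A ⊓ B = ⊥ := by
    rcases hti g with h | h
    · exact absurd h hg
    · rw [inf_comm]; exact h
  by_cases hall : ∀ a ∈ A ⊓ Subgroup.normalizer (B : Set G), a * a = 1
  · left
    exact ⟨⟨⟨fun x y => Subtype.ext (hcA _ x.2.1 _ y.2.1)⟩⟩, fun a ha => by
      simpa [pow_two] using hall a ha⟩
  right
  push Not at hall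
  obtain ⟨a, ⟨ha, haN⟩, ha2⟩ := hall
  have hz : ∀ (X : Subgroup G) (x : G), IsPGroup 2 ↥X → x ∈ X → IsPGroup 2 ↥(Subgroup.zpowers x) :=
    fun X x hX hx => hX.to_le (Subgroup.zpowers_le.mpr hx)
  obtain ⟨-, hBN⟩ := main A B hB2 hcA hcB hti hAB a ha (hz A a hA2 ha) haN ha2
  have htiB : ∀ h : G, B.map (MulAut.conj h).toMonoidHom = B ∨
      B.map (MulAut.conj h).toMonoidHom ⊓ B = ⊥ := by
    intro h
    have e : B.map (MulAut.conj h).toMonoidHom =
        (A.map (MulAut.conj (g⁻¹ * h * g)).toMonoidHom).map φ := by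
      rw [hB, hφ, Subgroup.map_map, Subgroup.map_map]
      congr 1
      ext x
      simp [mul_assoc]
    rw [e]
    rcases hti (g⁻¹ * h * g) with h1 | h1
    · exact Or.inl (by rw [h1])
    · right
      rw [hB, ← Subgroup.map_inf _ _ _ (MulAut.conj g).injective, h1, Subgroup.map_bot]
  have hb2 : φ a * φ a ≠ 1 := by
    rw [← map_mul]
    exact fun h => ha2 ((MulAut.conj g).injective (h.trans (map_one φ).symm))
  have hb : φ a ∈ B := ⟨a, ha, rfl⟩
  obtain ⟨-, hAN⟩ := main B A hA2 hcB hcA htiB (by rw [inf_comm]; exact hAB) (φ a) hb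
    (hz B _ hB2 hb) (hBN hb) hb2
  rw [← le_bot_iff, ← hAB, Subgroup.commutator_le]
  intro x hx y hy
  refine ⟨?_, ?_⟩
  · have h := A.mul_mem hx ((Subgroup.mem_normalizer_iff.mp (hBN hy) x⁻¹).mp (A.inv_mem hx))
    simpa [commutatorElement_def, mul_assoc] using h
  · exact B.mul_mem ((Subgroup.mem_normalizer_iff.mp (hAN hx) y).mp hy) (B.inv_mem hy)

end Cfsg.Agent.S1781
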