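import Cfsg.Statements.S1783
import Mathlib
import Cfsg.Agent.Lib.ClassK.TICommute
import Cfsg.Agent.Lib.ClassK.Burnside

set_option autoImplicit false
open Cfsg

namespace Cfsg.Agent.S1783

/-- Let X be a finite group whose generalized Fitting subgroup equals its largest normal 2-subgroup Q, and let A be an abelian 2-subgroup of X such that every conjugate of A equals A or meets A trivially. Let B be the subgroup generated by the squares of the elements of A. Then B lies in Q, and if B is not an elementary abelian 2-group then the normal closure of B in X is commutative. -/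
theorem result {X : Type*} [Group X] [Finite X]
    (hX : Cfsg.generalizedFittingSubgroup X = Cfsg.pCore 2 X) (A : Subgroup X) (hA2 : IsPGroup 2 ↥A) (hAa : IsMulCommutative ↥A)
    (hti : ∀ h : X, A.map (MulAut.conj h).toMonoidHom = A ∨ A.map (MulAut.conj h).toMonoidHom ⊓ A = ⊥) :
    Subgroup.closure ((fun a : X => a ^ 2) '' (A : Set X)) ≤ Cfsg.pCore 2 X ∧
      (¬ Cfsg.IsElementaryAbelian 2 (Subgroup.closure ((fun a : X => a ^ 2) '' (A : Set X))) →
        IsMulCommutative ↥(Subgroup.normalClosure ((fun a : X => a ^ 2) '' (A : Set X)))) := by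
  haveI : Fact (Nat.Prime 2) := ⟨Nat.prime_two⟩
  have hchar : IsOfCharacteristicTwo X := ClassK.charTwo_of_fStar hX
  have hQp : IsPGroup 2 (Cfsg.pCore 2 X) := LocalEvenA.pCore_isPGroup' 2 X
  have hac : ∀ a ∈ A, ∀ b ∈ A, a * b = b * a := fun a ha b hb =>
    congrArg Subtype.val (hAa.is_comm.comm ⟨a, ha⟩ ⟨b, hb⟩)
  -- conjugates of `A` form a TI family
  have hti2 : ∀ g h : X, A.map (MulAut.conj g).toMonoidHom = A.map (MulAut.conj h).toMonoidHom ∨
      A.map (MulAut.conj g).toMonoidHom ⊓ A.map (MulAut.conj h).toMonoidHom = ⊥ := by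
    intro g h
    have e : A.map (MulAut.conj g).toMonoidHom =
        (A.map (MulAut.conj (h⁻¹ * g)).toMonoidHom).map (MulAut.conj h).toMonoidHom := by
      rw [Subgroup.map_map]
      congr 1
      ext x
      simp [mul_assoc]
    rcases hti (h⁻¹ * g) with hh | hh
    · left; rw [e, hh]
    · right
      rw [e, ← Subgroup.map_inf _ _ _ (MulAut.conj h).injective, hh, Subgroup.map_bot]
  have hsq : ∀ a ∈ A, a ^ 2 ∈ Cfsg.pCore 2 X := by
    intro a ha
    by_cases ha2 : a * a = 1
    · rw [pow_two, ha2]; exact one_mem _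
    have hS : IsPGroup 2 (A ⊔ Cfsg.pCore 2 X : Subgroup X) :=
      IsPGroup.to_sup_of_normal_right' hA2 hQp Subgroup.le_normalizer_of_normal
    set Δ : Set (Subgroup X) := {R | ∃ s ∈ (A ⊔ Cfsg.pCore 2 X : Subgroup X),
      R = A.map (MulAut.conj s).toMonoidHom} with hΔ
    have hcomm := ClassK.ti_family_commute hS Δ ?_ ?_ ?_ ?_ ?_
    rotate_left
    · rintro _ ⟨s, hs, rfl⟩ _ ⟨b, hb, rfl⟩
      exact Subgroup.mul_mem _ (Subgroup.mul_mem _ hs (Subgroup.mem_sup_left hb)) (Subgroup.inv_mem _ hs)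
    · rintro s hs _ ⟨u, hu, rfl⟩
      refine ⟨s * u, Subgroup.mul_mem _ hs hu, ?_⟩
      rw [Subgroup.map_map, map_mul]; rfl
    · rintro _ ⟨s, -, rfl⟩
      refine ⟨_, Subgroup.mem_map_of_mem _ ha, fun h => ha2 ?_⟩
      rw [← map_mul] at h
      exact (MulAut.conj s).injective (h.trans (map_one _).symm)
    · rintro _ ⟨s, -, rfl⟩ _ ⟨u, -, rfl⟩
      rw [Subgroup.card_map_of_injective (MulAut.conj s).injective,
        Subgroup.card_map_of_injective (MulAut.conj u).injective]
    · rintro _ ⟨s, -, rfl⟩ _ ⟨u, -, rfl⟩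
      exact hti2 s u
    have hA0 : A ∈ Δ := ⟨1, one_mem _, by ext x; simp⟩
    refine ClassK.mem_pCore_of_trivial_on_frattini_quotient hchar fun q hq => ?_
    have hqs : q⁻¹ ∈ (A ⊔ Cfsg.pCore 2 X : Subgroup X) := Subgroup.mem_sup_right (inv_mem hq)
    have hcq : Commute (q⁻¹ * a * q) a := by
      by_cases he : A.map (MulAut.conj q⁻¹).toMonoidHom = A
      · have hmem : q⁻¹ * a * q ∈ A := by
          have := Subgroup.mem_map_of_mem (MulAut.conj q⁻¹).toMonoidHom ha
          rw [he] at this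
          simpa using this
        exact hac _ hmem _ ha
      · have h := Subgroup.commutator_mem_commutator
          (Subgroup.mem_map_of_mem (MulAut.conj q⁻¹).toMonoidHom ha) ha
        rw [hcomm _ ⟨q⁻¹, hqs, rfl⟩ _ hA0 he, Subgroup.mem_bot,
          commutatorElement_eq_one_iff_commute] at h
        simpa using h
    set w := q⁻¹ * a * q * a⁻¹ with hw
    have hwQ : w ∈ Cfsg.pCore 2 X := by
      have := (Cfsg.pCore 2 X).mul_mem (inv_mem hq)
        ((inferInstance : (Cfsg.pCore 2 X).Normal).conj_mem q hq a)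
      simpa [hw, mul_assoc] using this
    have hwa : Commute a w := hcq.symm.mul_right (Commute.refl a).inv_right
    have key : a ^ 2 * q * (a ^ 2)⁻¹ * q⁻¹ = q * (w * w) * q⁻¹ := by
      have e1 : a * q * a⁻¹ = q * w := by rw [hw]; group
      calc a ^ 2 * q * (a ^ 2)⁻¹ * q⁻¹ = a * (a * q * a⁻¹) * a⁻¹ * q⁻¹ := by
            rw [pow_two]; group
        _ = a * q * (w * a⁻¹) * q⁻¹ := by rw [e1]; group
        _ = a * q * (a⁻¹ * w) * q⁻¹ := by rw [hwa.inv_left.eq]
        _ = (a * q * a⁻¹) * w * q⁻¹ := by group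
        _ = q * (w * w) * q⁻¹ := by rw [e1]; group
    rw [key]
    haveI : ((frattini ↥(Cfsg.pCore 2 X)).map (Cfsg.pCore 2 X).subtype).Normal := inferInstance
    exact ‹((frattini ↥(Cfsg.pCore 2 X)).map (Cfsg.pCore 2 X).subtype).Normal›.conj_mem _
      ⟨_, ClassK.mul_self_mem_frattini hQp ⟨w, hwQ⟩, rfl⟩ q
  have hle : Subgroup.closure ((fun a : X => a ^ 2) '' (A : Set X)) ≤ Cfsg.pCore 2 X :=
    (Subgroup.closure_le _).mpr fun x ⟨a, ha, hax⟩ => hax ▸ hsq a ha
  refine ⟨hle, fun hB => ?_⟩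
  set B := Subgroup.closure ((fun a : X => a ^ 2) '' (A : Set X)) with hBdef
  have hBA : B ≤ A := (Subgroup.closure_le _).mpr fun x ⟨a, ha, hax⟩ => hax ▸ A.pow_mem ha 2
  obtain ⟨b, hb, hb2⟩ : ∃ b ∈ B, b * b ≠ 1 := by
    by_contra hcon
    push Not at hcon
    exact hB ⟨⟨⟨fun x y => Subtype.ext (hac _ (hBA x.2) _ (hBA y.2))⟩⟩,
      fun x hx => by rw [pow_two]; exact hcon x hx⟩
  set Δ : Set (Subgroup X) := {R | ∃ g : X, R = B.map (MulAut.conj g).toMonoidHom} with hΔ
  have hmapA : ∀ g h : X, A.map (MulAut.conj g).toMonoidHom = A.map (MulAut.conj h).toMonoidHom →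
      B.map (MulAut.conj g).toMonoidHom = B.map (MulAut.conj h).toMonoidHom := by
    intro g h e
    have hBf : ∀ f : MulAut X, B.map f.toMonoidHom =
        Subgroup.closure ((fun a : X => a ^ 2) '' ((A.map f.toMonoidHom : Subgroup X) : Set X)) := by
      intro f
      rw [hBdef, MonoidHom.map_closure]
      congr 1
      rw [Subgroup.coe_map, Set.image_image, Set.image_image]
      simp [map_pow]
    rw [hBf, hBf, e]
  have hcomm := ClassK.ti_family_commute hQp Δ
    (by
      rintro _ ⟨g, rfl⟩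
      rintro _ ⟨x, hx, rfl⟩
      exact (inferInstance : (Cfsg.pCore 2 X).Normal).conj_mem x (hle hx) g)
    (by
      rintro s - _ ⟨g, rfl⟩
      exact ⟨s * g, by rw [Subgroup.map_map, map_mul]; rfl⟩)
    (by
      rintro _ ⟨g, rfl⟩
      refine ⟨_, Subgroup.mem_map_of_mem _ hb, fun h => hb2 ?_⟩
      rw [← map_mul] at h
      exact (MulAut.conj g).injective (h.trans (map_one _).symm))
    (by
      rintro _ ⟨g, rfl⟩ _ ⟨h, rfl⟩
      rw [Subgroup.card_map_of_injective (MulAut.conj g).injective,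
        Subgroup.card_map_of_injective (MulAut.conj h).injective])
    (by
      rintro _ ⟨g, rfl⟩ _ ⟨h, rfl⟩
      rcases hti2 g h with e | e
      · exact Or.inl (hmapA g h e)
      · exact Or.inr (le_bot_iff.mp ((inf_le_inf (Subgroup.map_mono hBA)
          (Subgroup.map_mono hBA)).trans e.le)))
  refine Subgroup.isMulCommutative_closure ?_
  intro x hx y hy
  simp only [Group.mem_conjugatesOfSet_iff, isConj_iff] at hx hy
  obtain ⟨_, ⟨a, ha, rfl⟩, g, rfl⟩ := hx
  obtain ⟨_, ⟨c, hc, rfl⟩, h, rfl⟩ := hy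
  have hga : g * a ^ 2 * g⁻¹ ∈ B.map (MulAut.conj g).toMonoidHom :=
    Subgroup.mem_map_of_mem (MulAut.conj g).toMonoidHom (Subgroup.subset_closure ⟨a, ha, rfl⟩)
  have hhc : h * c ^ 2 * h⁻¹ ∈ B.map (MulAut.conj h).toMonoidHom :=
    Subgroup.mem_map_of_mem (MulAut.conj h).toMonoidHom (Subgroup.subset_closure ⟨c, hc, rfl⟩)
  by_cases he : B.map (MulAut.conj g).toMonoidHom = B.map (MulAut.conj h).toMonoidHom
  · rw [← he] at hhc
    obtain ⟨u, hu, hu'⟩ := hga
    obtain ⟨v, hv, hv'⟩ := hhc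
    rw [← hu', ← hv', ← map_mul, ← map_mul, hac u (hBA hu) v (hBA hv)]
  · exact Components.commutator_eq_bot_iff_forall.mp (hcomm _ ⟨g, rfl⟩ _ ⟨h, rfl⟩ he) _ hga _ hhc

end Cfsg.Agent.S1783
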