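import Cfsg.Statements.S1784
import Mathlib
import Cfsg.Prelude.Def_ClassificationK
import Cfsg.Agent.Lib.ClassK.Extraspecial
import Cfsg.Agent.Lib.ClassK.Burnside
import Cfsg.Agent.Lib.LocalEvenB.Basic
import Cfsg.Agent.Lib.Components.FStar
import Cfsg.Agent.Lib.Components.Subnormal

set_option autoImplicit false
open Cfsg

namespace Cfsg.Agent.S1784

open Subgroup in
theorem upper_bound {Q : Type*} [Group Q] [Finite Q] (h : Cfsg.IsExtraspecial 2 Q) (R : Subgroup Q) :
    Nat.card (centralizer (R : Set Q)) * Nat.card R ≤ 2 * Nat.card Q := by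
  classical
  obtain ⟨M, ⟨hRM, hM⟩, hmax⟩ := (Set.toFinite {M : Subgroup Q | R ≤ M ∧
      Nat.card (centralizer (R : Set Q)) * Nat.card R ≤
        Nat.card (centralizer (M : Set Q)) * Nat.card M}).exists_maximal ⟨R, le_rfl, le_rfl⟩
  rcases eq_or_ne M ⊤ with rfl | hne
  · refine hM.trans (le_of_eq ?_)
    rw [show centralizer ((⊤ : Subgroup Q) : Set Q) = center Q by
      rw [coe_top, centralizer_univ], h.2, card_top]
  obtain ⟨r, -, hrM⟩ := SetLike.exists_of_lt (lt_top_iff_ne_top.2 hne)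
  exfalso
  set M' := M ⊔ zpowers r with hM'
  have hMM' : M ≤ M' := le_sup_left
  have hrM' : r ∈ M' := (le_sup_right : zpowers r ≤ M') (mem_zpowers r)
  refine hrM (hmax (y := M') ⟨hRM.trans hMM', hM.trans ?_⟩ hMM' hrM')
  have h1 : 2 * Nat.card M ≤ Nat.card M' := by
    obtain ⟨k, hk⟩ := card_dvd_of_le hMM'
    rcases k with _ | _ | k
    · exact absurd hk (by rw [mul_zero]; exact Nat.card_pos.ne')
    · exact absurd (eq_of_le_of_card_ge hMM' (by simp [hk]))
        (fun he => hrM (he ▸ hrM'))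
    · rw [hk, mul_comm 2]
      exact Nat.mul_le_mul_left _ (by omega)
  have h2 : Nat.card (centralizer (M : Set Q)) ≤ 2 * Nat.card (centralizer (M' : Set Q)) := by
    have hinf : centralizer (M : Set Q) ⊓ centralizer ({r} : Set Q) ≤ centralizer (M' : Set Q) := by
      intro c hc
      rw [hM', mem_centralizer_iff]
      have : M ⊔ zpowers r ≤ centralizer ({c} : Set Q) := by
        refine sup_le (fun m hm => ?_) (zpowers_le.mpr ?_)
        · exact mem_centralizer_singleton_iff.mpr (mem_centralizer_iff.mp hc.1 m hm)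
        · exact mem_centralizer_singleton_iff.mpr (mem_centralizer_singleton_iff.mp hc.2).symm
      exact fun m hm => mem_centralizer_singleton_iff.mp (this hm)
    have hri : (centralizer (M : Set Q) ⊓ centralizer ({r} : Set Q)).relIndex
        (centralizer (M : Set Q)) ≤ 2 := by
      rw [inf_relIndex_left]
      haveI : (centralizer ({r} : Set Q)).Normal := Subgroup.Normal.of_commutator_le Q
        (h.1.2.2.le.trans (center_le_centralizer _))
      exact le_trans (Nat.le_of_dvd (Nat.pos_of_ne_zero index_ne_zero_of_finite)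
        (relIndex_dvd_index_of_normal _ _)) (ClassK.centralizer_index_le_two h r)
    have hc := relIndex_mul_relIndex ⊥ _ _ bot_le
      (inf_le_left : centralizer (M : Set Q) ⊓ centralizer ({r} : Set Q) ≤ _)
    rw [relIndex_bot_left, relIndex_bot_left] at hc
    rw [← hc, mul_comm 2]
    exact Nat.mul_le_mul (Nat.le_of_dvd Nat.card_pos (card_dvd_of_le hinf)) hri
  calc Nat.card (centralizer (M : Set Q)) * Nat.card M
      ≤ 2 * Nat.card (centralizer (M' : Set Q)) * Nat.card M := Nat.mul_le_mul_right _ h2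
    _ = Nat.card (centralizer (M' : Set Q)) * (2 * Nat.card M) := by ring
    _ ≤ _ := Nat.mul_le_mul_left _ h1

open Subgroup in
theorem auto_core {Q : Type*} [Group Q] [Finite Q] (h : Cfsg.IsExtraspecial 2 Q) (a : Q ≃* Q)
    (ha : ∀ x, a (a x) = x) (hne : ∃ q, a q ≠ q) (Q₀ : Subgroup Q)
    (hQ₀ : ∀ q, q ∈ Q₀ ↔ a q * q⁻¹ ∈ center Q) :
    closure ((fun q => a q * q⁻¹) '' Set.univ) = Q₀ ⊓ centralizer (Q₀ : Set Q) := by
  haveI : Fact (Nat.Prime 2) := ⟨Nat.prime_two⟩
  set T := closure ((fun q => a q * q⁻¹) '' Set.univ) with hT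
  have hgen : ∀ q, a q * q⁻¹ ∈ T := fun q => subset_closure ⟨q, trivial, rfl⟩
  have hcm := ClassK.commutator_mem_center_of_special h.1
  have hfix : ∀ c ∈ center Q, a c = c := by
    intro c hc
    have hc' : a c ∈ center Q :=
      (characteristic_iff_map_eq.1 (centerCharacteristic (G := Q)) a).le ⟨c, hc, rfl⟩
    haveI := Fintype.ofFinite (center Q)
    by_contra hne'
    classical
    have hc1 : c ≠ 1 := fun e => hne' (by rw [e, map_one])
    have hac1 : a c ≠ 1 := fun e => hc1 (by rw [← ha c, e, map_one])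
    have h3 : ({1, ⟨c, hc⟩, ⟨a c, hc'⟩} : Finset (center Q)).card = 3 := by
      rw [Finset.card_eq_three]
      exact ⟨_, _, _, by simp [Subtype.ext_iff, Ne.symm hc1], by simp [Subtype.ext_iff, Ne.symm hac1],
        by simp [Subtype.ext_iff, Ne.symm hne'], rfl⟩
    have h4 := Finset.card_le_univ ({1, ⟨c, hc⟩, ⟨a c, hc'⟩} : Finset (center Q))
    rw [h3, ← Nat.card_eq_fintype_card, h.2] at h4
    omega
  -- commutators are invariant
  have hinv : ∀ x y, a x * a y * (a x)⁻¹ * (a y)⁻¹ = x * y * x⁻¹ * y⁻¹ := fun x y => by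
    rw [← hfix _ (hcm x y)]; simp [map_mul, map_inv]
  have key : ∀ r, (∀ q, (a q * q⁻¹) * r = r * (a q * q⁻¹)) ↔ a r * r⁻¹ ∈ center Q := by
    intro r
    have e : ∀ q, a q * q⁻¹ * r = r * (a q * q⁻¹) ↔
        q * a r * q⁻¹ * (a r)⁻¹ = q * r * q⁻¹ * r⁻¹ := by
      intro q
      have h1 := hinv (a q) r
      rw [ha] at h1
      rw [h1]
      have hc : r * q * r⁻¹ * q⁻¹ ∈ center Q := hcm r q
      constructor
      · intro hh
        calc a q * r * (a q)⁻¹ * r⁻¹ = (a q * q⁻¹ * r) * (r⁻¹ * q * r * (a q)⁻¹) * r⁻¹ := by group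
          _ = r * (a q * q⁻¹) * (r⁻¹ * q * r * (a q)⁻¹) * r⁻¹ := by rw [hh]
          _ = r * a q * (q⁻¹ * r⁻¹ * q * r) * (a q)⁻¹ * r⁻¹ := by group
          _ = r * (q⁻¹ * r⁻¹ * q * r) * r⁻¹ := by
            have hc2 : q⁻¹ * r⁻¹ * q * r ∈ center Q := by
              have := hcm q⁻¹ r⁻¹
              rwa [inv_inv, inv_inv] at this
            rw [mul_assoc r (a q) _, (mem_center_iff.1 hc2 (a q)), ← mul_assoc r,
              mul_assoc _ (a q) (a q)⁻¹, mul_inv_cancel, mul_one]
          _ = q * r * q⁻¹ * r⁻¹ := by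
            have hc2 : q⁻¹ * r⁻¹ * q * r ∈ center Q := by
              have := hcm q⁻¹ r⁻¹
              rwa [inv_inv, inv_inv] at this
            rw [(mem_center_iff.1 hc2 r), mul_assoc _ r r⁻¹, mul_inv_cancel, mul_one]
            have := mem_center_iff.1 hc2 (q * r)
            calc q⁻¹ * r⁻¹ * q * r = (r * q)⁻¹ * ((q * r) * (q⁻¹ * r⁻¹ * q * r)) * (r⁻¹ * q⁻¹ * r * q) := by group
              _ = (r * q)⁻¹ * ((q⁻¹ * r⁻¹ * q * r) * (q * r)) * (r⁻¹ * q⁻¹ * r * q) := by rw [this]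
              _ = (r * q)⁻¹ * (q⁻¹ * r⁻¹ * q * r * q * r) * r⁻¹ * q⁻¹ * r * q := by group
              _ = q * r * q⁻¹ * r⁻¹ := by
                have h3 := mem_center_iff.1 (hcm q r) (q * r)
                have h4 := mem_center_iff.1 hc2 q
                have h5 := mem_center_iff.1 (hcm q r) ((r * q)⁻¹)
                calc (r * q)⁻¹ * (q⁻¹ * r⁻¹ * q * r * q * r) * r⁻¹ * q⁻¹ * r * q
                    = (r * q)⁻¹ * (q⁻¹ * r⁻¹ * q * r) * (r * q) := by group
                  _ = (q⁻¹ * r⁻¹ * q * r) * ((r * q)⁻¹ * (r * q)) := by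
                      rw [mem_center_iff.1 hc2 ((r * q)⁻¹), mul_assoc]
                  _ = q * (q⁻¹ * r⁻¹ * q * r) * q⁻¹ := by
                      rw [h4]; group
                  _ = r⁻¹ * (q * r * q⁻¹ * r⁻¹) * r := by group
                  _ = q * r * q⁻¹ * r⁻¹ := by
                      rw [mem_center_iff.1 (hcm q r) r⁻¹, mul_assoc _ r⁻¹ r, inv_mul_cancel, mul_one]
      · intro hh
        have hz := hcm q r
        calc a q * q⁻¹ * r = (a q * r * (a q)⁻¹ * r⁻¹) * r * a q * (r⁻¹ * q⁻¹ * r) := by group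
          _ = (q * r * q⁻¹ * r⁻¹) * (r * a q * (r⁻¹ * q⁻¹ * r)) := by rw [hh]; group
          _ = (r * a q) * (q * r * q⁻¹ * r⁻¹) * (r⁻¹ * q⁻¹ * r) := by
              rw [← mul_assoc, mem_center_iff.1 hz (r * a q), mul_assoc]
          _ = (r * a q) * (r⁻¹ * q⁻¹ * r) * (q * r * q⁻¹ * r⁻¹) := by
              rw [mul_assoc, ← mem_center_iff.1 hz (r⁻¹ * q⁻¹ * r), ← mul_assoc]
          _ = r * (a q * q⁻¹) := by
              have h6 := mem_center_iff.1 hz q⁻¹
              have h7 : q * r * q⁻¹ * r⁻¹ = r⁻¹ * (q * r * q⁻¹ * r⁻¹) * r := by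
                rw [mem_center_iff.1 hz r⁻¹, mul_assoc _ r⁻¹ r, inv_mul_cancel, mul_one]
              rw [h7]; group
    constructor
    · intro hh
      rw [mem_center_iff]
      intro q
      have := (e q).1 (hh q)
      have hz := hcm q r
      have h8 : q * a r * q⁻¹ = (q * r * q⁻¹ * r⁻¹) * a r := mul_inv_eq_iff_eq_mul.1 this
      calc q * (a r * r⁻¹) = (q * a r * q⁻¹) * (q * r⁻¹ * q⁻¹) * q := by group
        _ = (q * r * q⁻¹ * r⁻¹) * (a r * (q * r⁻¹ * q⁻¹) * q) := by rw [h8]; group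
        _ = (a r * (q * r⁻¹ * q⁻¹) * q) * (q * r * q⁻¹ * r⁻¹) := by
            rw [mem_center_iff.1 hz]
        _ = (a r * (q * r⁻¹ * q⁻¹)) * (q * (q * r * q⁻¹ * r⁻¹)) := by group
        _ = (a r * (q * r⁻¹ * q⁻¹)) * ((q * r * q⁻¹ * r⁻¹) * q) := by
            rw [mem_center_iff.1 hz q]
        _ = a r * r⁻¹ * q := by group
    · intro hh q
      refine (e q).2 ?_
      have hz := mem_center_iff.1 hh
      calc q * a r * q⁻¹ * (a r)⁻¹ = (q * (a r * r⁻¹)) * r * q⁻¹ * (a r)⁻¹ := by group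
        _ = (a r * r⁻¹) * (q * r * q⁻¹ * r⁻¹) * (a r * r⁻¹)⁻¹ := by rw [hz q]; group
        _ = q * r * q⁻¹ * r⁻¹ := by
            rw [← hz, mul_assoc, mul_inv_cancel, mul_one]
  have hcent : centralizer (T : Set Q) = Q₀ := by
    ext r
    rw [hQ₀, ← key, hT, centralizer_closure, mem_centralizer_iff]
    exact ⟨fun hh q => hh _ ⟨q, trivial, rfl⟩, by rintro hh _ ⟨q, -, rfl⟩; exact hh q⟩
  have hTQ : T ≤ Q₀ := by
    rw [hT, closure_le]
    rintro _ ⟨q, -, rfl⟩
    rw [SetLike.mem_coe, hQ₀, map_mul, map_inv, ha, mul_inv_rev, inv_inv]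
    have : q * (a q)⁻¹ * (q * (a q)⁻¹) ∈ center Q := by
      rw [← h.1.2.1]; exact ClassK.mul_self_mem_frattini h.1.1 _
    exact this
  haveI : T.Normal := by
    refine ⟨fun t ht g => ?_⟩
    induction ht using closure_induction with
    | mem x hx =>
      obtain ⟨q, -, rfl⟩ := hx
      show g * (a q * q⁻¹) * g⁻¹ ∈ T
      rw [show g * (a q * q⁻¹) * g⁻¹ = (a g * g⁻¹)⁻¹ * (a (g * q) * (g * q)⁻¹) by
        rw [map_mul]; group]
      exact mul_mem (inv_mem (hgen g)) (hgen (g * q))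
    | one => simp
    | mul x y _ _ hx hy => rw [show g * (x * y) * g⁻¹ = (g * x * g⁻¹) * (g * y * g⁻¹) by group]; exact mul_mem hx hy
    | inv x _ hx => rw [show g * x⁻¹ * g⁻¹ = (g * x * g⁻¹)⁻¹ by group]; exact inv_mem hx
  have hTne : T ≠ ⊥ := by
    obtain ⟨q, hq⟩ := hne
    exact fun e => hq (mul_inv_eq_one.1 (Subgroup.mem_bot.1 (e ▸ hgen q)))
  have hZT : center Q ≤ T := by
    haveI : Nontrivial T := (nontrivial_iff_ne_bot T).2 hTne
    have hp := h.1.1
    haveI : Group.IsNilpotent Q := hp.isNilpotent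
    obtain ⟨x, hxT, hxZ, hx1⟩ := LocalEvenB.exists_mem_center_ne_one T hTne
    have hx : x ∈ T ⊓ center Q := ⟨hxT, hxZ⟩
    have hd : Nat.card (zpowers x) ∣ Nat.card (center Q) := card_dvd_of_le (zpowers_le.2 hx.2)
    rw [h.2] at hd
    have : zpowers x = center Q := by
      refine eq_of_le_of_card_ge (zpowers_le.2 hx.2) ?_
      rcases (Nat.dvd_prime Nat.prime_two).1 hd with e | e
      · exact absurd (zpowers_eq_bot.1 (eq_bot_of_card_eq _ e)) hx1
      · rw [e, h.2]
    rw [← this]; exact zpowers_le.2 hx.1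
  refine le_antisymm (le_inf hTQ ?_) ?_
  · rw [← hcent]
    exact fun t ht => mem_centralizer_iff.2 fun y hy => ((mem_centralizer_iff.1 hy) t ht).symm
  · intro x hx
    have hle : T ≤ centralizer (centralizer (T : Set Q) : Set Q) := fun t ht =>
      mem_centralizer_iff.2 fun y hy => ((mem_centralizer_iff.1 hy) t ht).symm
    have heq : T = centralizer (centralizer (T : Set Q) : Set Q) := by
      refine eq_of_le_of_card_ge hle ?_
      have h1 := upper_bound h (centralizer (T : Set Q))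
      have h2 := ClassK.card_centralizer_mul_card h T hZT
      have h3 : Nat.card (centralizer (centralizer (T : Set Q) : Set Q)) * Nat.card (centralizer (T : Set Q)) ≤
          Nat.card T * Nat.card (centralizer (T : Set Q)) := by
        calc _ ≤ 2 * Nat.card Q := h1
          _ = Nat.card Q * 2 := mul_comm _ _
          _ ≤ _ := h2
          _ = _ := mul_comm _ _
      exact Nat.le_of_mul_le_mul_right h3 Nat.card_pos
    rw [heq, hcent]
    exact hx.2


/-- Let G be a finite group and let z be an involution of G such that Q, the generalized Fitting subgroup of the centralizer C of z, is a 2-group of symplectic type (every characteristic abelian subgroup of Q is cyclic); suppose Q is extraspecial, and view Q inside G. Let α be an involution of C that is not in Q, and let Q₀ be the subgroup of those q ∈ Q whose commutator with α lies in the subgroup generated by z. Then (a) the subgroup generated by the commutators α q α⁻¹ q⁻¹, q ∈ Q, equals the centre of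 Q₀; and (b) if Q₀ is not contained in the product of the centralizer of α in Q with the subgroup generated by z, then some element of Q conjugates α to α z. -/
theorem result {G : Type*} [Group G] [Finite G] (z : G) (hz : orderOf z = 2) (hQ : Cfsg.IsOfSymplecticType ↥(Cfsg.generalizedFittingSubgroup ↥(Subgroup.centralizer ({z} : Set G)))) (hE : Cfsg.IsExtraspecial 2 ↥(Cfsg.generalizedFittingSubgroup ↥(Subgroup.centralizer ({z} : Set G))))
    (α : G) (hα : orderOf α = 2) (hαC : α ∈ Subgroup.centralizer ({z} : Set G)) (hαQ : α ∉ (Cfsg.generalizedFittingSubgroup ↥(Subgroup.centralizer ({z} : Set G))).map (Subgroup.centralizer ({z} : Set G)).subtype)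
    (Q₀ : Subgroup G) (hQ₀ : ∀ q : G, q ∈ Q₀ ↔ (q ∈ (Cfsg.generalizedFittingSubgroup ↥(Subgroup.centralizer ({z} : Set G))).map (Subgroup.centralizer ({z} : Set G)).subtype ∧ α * q * α⁻¹ * q⁻¹ ∈ Subgroup.zpowers z)) :
    Subgroup.closure ((fun q : G => α * q * α⁻¹ * q⁻¹) '' ((Cfsg.generalizedFittingSubgroup ↥(Subgroup.centralizer ({z} : Set G))).map (Subgroup.centralizer ({z} : Set G)).subtype : Set G)) = (Subgroup.center ↥Q₀).map Q₀.subtype ∧
      (¬ Q₀ ≤ ((Cfsg.generalizedFittingSubgroup ↥(Subgroup.centralizer ({z} : Set G))).map (Subgroup.centralizer ({z} : Set G)).subtype ⊓ Subgroup.centralizer ({α} : Set G)) ⊔ Subgroup.zpowers z →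
        ∃ q ∈ (Cfsg.generalizedFittingSubgroup ↥(Subgroup.centralizer ({z} : Set G))).map (Subgroup.centralizer ({z} : Set G)).subtype, q * α * q⁻¹ = α * z) := by
  classical
  haveI : Fact (Nat.Prime 2) := ⟨Nat.prime_two⟩
  set C := Subgroup.centralizer ({z} : Set G) with hC
  set F := Cfsg.generalizedFittingSubgroup ↥C with hF
  set Q := F.map C.subtype with hQdef
  let αC : C := ⟨α, hαC⟩
  have hα2 : α * α = 1 := by rw [← pow_two, ← hα]; exact pow_orderOf_eq_one α
  have hαi : α⁻¹ = α := inv_eq_of_mul_eq_one_right hα2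
  let a : F ≃* F :=
    { toFun := fun x => ⟨αC * x * αC⁻¹, (inferInstance : F.Normal).conj_mem _ x.2 αC⟩
      invFun := fun x => ⟨αC * x * αC⁻¹, (inferInstance : F.Normal).conj_mem _ x.2 αC⟩
      left_inv := fun x => Subtype.ext (Subtype.ext (by
        show α * (α * (x : C) * α⁻¹) * α⁻¹ = ((x : C) : G)
        rw [hαi, show α * (α * ((x : C) : G) * α) * α = (α * α) * ((x : C) : G) * (α * α) by group,
          hα2, one_mul, mul_one]))
      right_inv := fun x => Subtype.ext (Subtype.ext (by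
        show α * (α * (x : C) * α⁻¹) * α⁻¹ = ((x : C) : G)
        rw [hαi, show α * (α * ((x : C) : G) * α) * α = (α * α) * ((x : C) : G) * (α * α) by group,
          hα2, one_mul, mul_one]))
      map_mul' := fun x y => Subtype.ext (by
        show αC * ((x : C) * y) * αC⁻¹ = αC * (x : C) * αC⁻¹ * (αC * (y : C) * αC⁻¹)
        group) }
  have ha : ∀ x, a (a x) = x := fun x => a.left_inv x
  have hne : ∃ q, a q ≠ q := by
    by_contra hh
    push Not at hh
    apply hαQ
    refine ⟨αC, Components.centralizer_fStar_le ?_, rfl⟩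
    rw [Subgroup.mem_centralizer_iff]
    exact fun x hx => (mul_inv_eq_iff_eq_mul.1 (congrArg Subtype.val (hh ⟨x, hx⟩))).symm
  let ι : F →* G := C.subtype.comp F.subtype
  have hι : Function.Injective ι := Subtype.coe_injective.comp Subtype.coe_injective
  have hzC : z ∈ C := Subgroup.mem_centralizer_singleton_iff.mpr rfl
  have hz1 : z ≠ 1 := fun h => by rw [h, orderOf_one] at hz; omega
  have hzF : (⟨z, hzC⟩ : C) ∈ F := Components.centralizer_fStar_le (by
    rw [Subgroup.mem_centralizer_iff]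
    exact fun c _ => Subtype.ext (Subgroup.mem_centralizer_singleton_iff.1 c.2))
  let zF : F := ⟨⟨z, hzC⟩, hzF⟩
  have hzF2 : orderOf zF = 2 := by rw [← orderOf_injective ι hι, ← hz]; rfl
  have hcenter : Subgroup.center ↥F = Subgroup.zpowers zF := by
    symm
    refine Subgroup.eq_of_le_of_card_ge (Subgroup.zpowers_le.2 (Subgroup.mem_center_iff.2 fun y =>
      Subtype.ext (Subtype.ext (Subgroup.mem_centralizer_singleton_iff.1 y.1.2)))) ?_
    rw [hE.2, Nat.card_zpowers, hzF2]
  let R₀ : Subgroup F := Q₀.comap ι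
  have hι' : ∀ x : F, ι (a x * x⁻¹) = α * ι x * α⁻¹ * (ι x)⁻¹ := fun x => rfl
  have hR₀ : ∀ q, q ∈ R₀ ↔ a q * q⁻¹ ∈ Subgroup.center ↥F := by
    intro q
    rw [Subgroup.mem_comap, hQ₀, hcenter]
    constructor
    · rintro ⟨-, k, hk⟩
      exact ⟨k, hι ((map_zpow ι zF k).trans (hk.trans (hι' q).symm))⟩
    · rintro ⟨k, hk⟩
      exact ⟨⟨q.1, q.2, rfl⟩, k, ((map_zpow ι zF k).symm.trans (congrArg ι hk)).trans (hι' q)⟩
  have hcore := auto_core hE a ha hne R₀ hR₀
  have hQι : ∀ x ∈ Q, ∃ y : F, ι y = x := by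
    rintro _ ⟨y, hy, rfl⟩
    exact ⟨⟨y, hy⟩, rfl⟩
  have hQ₀Q : ∀ x ∈ Q₀, ∃ y ∈ R₀, ι y = x := by
    intro x hx
    obtain ⟨y, rfl⟩ := hQι x ((hQ₀ x).1 hx).1
    exact ⟨y, hx, rfl⟩
  constructor
  · have himg : Subgroup.closure ((fun q : G => α * q * α⁻¹ * q⁻¹) '' (Q : Set G)) =
        (R₀ ⊓ Subgroup.centralizer (R₀ : Set F)).map ι := by
      rw [← hcore, MonoidHom.map_closure, Set.image_image]
      congr 1
      ext x
      constructor
      · rintro ⟨q, hq, rfl⟩
        obtain ⟨y, rfl⟩ := hQι q hq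
        exact ⟨y, trivial, hι' y⟩
      · rintro ⟨y, -, rfl⟩
        exact ⟨ι y, ⟨y.1, y.2, rfl⟩, (hι' y).symm⟩
    rw [himg]
    ext x
    constructor
    · rintro ⟨y, ⟨hy, hyc⟩, rfl⟩
      refine ⟨⟨ι y, hy⟩, Subgroup.mem_center_iff.2 fun w => Subtype.ext ?_, rfl⟩
      obtain ⟨u, hu, huw⟩ := hQ₀Q w.1 w.2
      show (w : G) * ι y = ι y * (w : G)
      rw [← huw, ← map_mul, ← map_mul, (Subgroup.mem_centralizer_iff.1 hyc) u hu]
    · rintro ⟨w, hw, rfl⟩
      obtain ⟨y, hy, hyw⟩ := hQ₀Q w.1 w.2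
      refine ⟨y, ⟨hy, Subgroup.mem_centralizer_iff.2 fun u hu => hι ?_⟩, hyw⟩
      rw [map_mul, map_mul, hyw]
      exact congrArg Subtype.val (Subgroup.mem_center_iff.1 hw ⟨ι u, hu⟩)
  · intro hnle
    obtain ⟨q, hq, hqn⟩ := SetLike.not_le_iff_exists.1 hnle
    obtain ⟨hqQ, k, hk⟩ := (hQ₀ q).1 hq
    refine ⟨q, hqQ, ?_⟩
    have hne1 : α * q * α⁻¹ * q⁻¹ ≠ 1 := fun e => hqn (Subgroup.mem_sup_left
      ⟨hqQ, Subgroup.mem_centralizer_singleton_iff.2
        (mul_inv_eq_iff_eq_mul.1 (mul_inv_eq_one.1 e)).symm⟩)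
    have hkz : α * q * α⁻¹ * q⁻¹ = z := by
      rcases Int.even_or_odd k with ⟨m, rfl⟩ | ⟨m, rfl⟩
      · exfalso
        apply hne1
        rw [← hk]
        show z ^ (m + m) = 1
        rw [← two_mul, zpow_mul, zpow_ofNat, ← hz, pow_orderOf_eq_one, one_zpow]
      · rw [← hk]
        show z ^ (2 * m + 1) = z
        rw [zpow_add, zpow_mul, zpow_ofNat, ← hz, pow_orderOf_eq_one, one_zpow, one_mul, zpow_one]
    calc q * α * q⁻¹ = α * (α * q * α⁻¹ * q⁻¹) := by rw [hαi]; rw [show α * (α * q * α * q⁻¹) = (α * α) * q * α * q⁻¹ by group, hα2, one_mul]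
      _ = α * z := by rw [hkz]

end Cfsg.Agent.S1784
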