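import Cfsg.Statements.S1785
import Mathlib
import Cfsg.Prelude.Def_Transfer

set_option autoImplicit false
open Cfsg

namespace Cfsg.Agent.S1785

variable {X : Type*} [Group X]

theorem mul_self_of {A : Subgroup X} (hA : Cfsg.IsElementaryAbelian 2 A) {a : X} (ha : a ∈ A) :
    a * a = 1 := by rw [← pow_two]; exact hA.2 a ha

theorem comm_of {A : Subgroup X} (hA : Cfsg.IsElementaryAbelian 2 A) {a b : X} (ha : a ∈ A)
    (hb : b ∈ A) : a * b = b * a :=
  congrArg Subtype.val (hA.1.is_comm.comm ⟨a, ha⟩ ⟨b, hb⟩)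

theorem inv_of {A : Subgroup X} (hA : Cfsg.IsElementaryAbelian 2 A) {a : X} (ha : a ∈ A) :
    a⁻¹ = a := inv_eq_of_mul_eq_one_right (mul_self_of hA ha)

theorem comm_step {e x w : X} (hx : x * x = 1) (h1 : e * x = x * e)
    (h2 : e * (x * w) = x * w * e) : e * w = w * e := by
  have h : Commute e (x * (x * w)) := Commute.mul_right h1 h2
  rw [← mul_assoc, hx, one_mul] at h
  exact h.eq

theorem ext_one [Finite X] {V : Subgroup X} (hV : Cfsg.IsElementaryAbelian 2 V) {e : X} (he : e * e = 1)
    (hc : ∀ v ∈ V, e * v = v * e) (heV : e ∉ V) :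
    ∃ W : Subgroup X, V ≤ W ∧ e ∈ W ∧ Cfsg.IsElementaryAbelian 2 W ∧
      Nat.card W = 2 * Nat.card V ∧ ∀ w ∈ W, w ∈ V ∨ e * w ∈ V := by
  let W : Subgroup X :=
    { carrier := {w | w ∈ V ∨ e * w ∈ V}
      one_mem' := Or.inl (one_mem _)
      mul_mem' := by
        rintro a b (ha | ha) (hb | hb)
        · exact Or.inl (mul_mem ha hb)
        · refine Or.inr ?_
          have : e * (a * b) = a * (e * b) := by rw [← mul_assoc, hc a ha, mul_assoc]
          rw [this]; exact mul_mem ha hb
        · refine Or.inr ?_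
          rw [← mul_assoc]; exact mul_mem ha hb
        · refine Or.inl ?_
          have : a * b = (e * a) * (e * b) := by
            calc a * b = e * e * a * b := by rw [he, one_mul]
              _ = e * (e * a) * b := by group
              _ = (e * a) * e * b := by rw [hc _ ha]
              _ = (e * a) * (e * b) := by group
          rw [this]; exact mul_mem ha hb
      inv_mem' := by
        rintro a (ha | ha)
        · exact Or.inl (inv_mem ha)
        · refine Or.inr ?_
          have h1 : e⁻¹ = e := inv_eq_of_mul_eq_one_right he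
          have : e * a⁻¹ = (e * a)⁻¹ := by
            rw [mul_inv_rev, h1]
            have h2 := hc _ (inv_mem ha)
            rw [mul_inv_rev, h1] at h2
            calc e * a⁻¹ = e * (a⁻¹ * e) * e := by rw [mul_assoc e (a⁻¹ * e) e, mul_assoc a⁻¹ e e, he, mul_one]
              _ = a⁻¹ * e * e * e := by rw [h2]
              _ = a⁻¹ * e := by rw [mul_assoc (a⁻¹ * e) e e, he, mul_one]
          rw [this]; exact inv_mem ha }
  have hVW : V ≤ W := fun v hv => Or.inl hv
  have heW : e ∈ W := Or.inr (by rw [he]; exact one_mem V)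
  have key : ∀ w ∈ W, ∃ v ∈ V, w = v ∨ w = e * v := by
    rintro w (h | h)
    · exact ⟨w, h, Or.inl rfl⟩
    · exact ⟨e * w, h, Or.inr (by rw [← mul_assoc, he, one_mul])⟩
  refine ⟨W, hVW, heW, ⟨⟨⟨?_⟩⟩, ?_⟩, ?_, fun w hw => hw⟩
  · rintro ⟨a, ha⟩ ⟨b, hb⟩
    apply Subtype.ext
    show a * b = b * a
    obtain ⟨u, hu, hau | hau⟩ := key a ha <;> obtain ⟨v, hv, hbv | hbv⟩ := key b hb <;> rw [hau, hbv]
    · exact comm_of hV hu hv
    · rw [← mul_assoc, ← hc u hu, mul_assoc, comm_of hV hu hv, mul_assoc]
    · rw [mul_assoc, comm_of hV hu hv, ← mul_assoc, hc v hv, mul_assoc]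
    · calc e * u * (e * v) = u * v := by rw [hc u hu, mul_assoc, ← mul_assoc e e v, he, one_mul]
        _ = v * u := comm_of hV hu hv
        _ = e * v * (e * u) := by rw [hc v hv, mul_assoc v e, ← mul_assoc e e u, he, one_mul]
  · intro w hw
    obtain ⟨v, hv, hwv | hwv⟩ := key w hw <;> rw [hwv]
    · exact hV.2 _ hv
    · rw [pow_two]
      calc e * v * (e * v) = v * v := by
            rw [mul_assoc, ← mul_assoc v e v, ← hc v hv, ← mul_assoc, ← mul_assoc, he, one_mul]
        _ = 1 := mul_self_of hV hv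
  · let f : Bool × V → W := fun p =>
      bif p.1 then ⟨e * p.2, W.mul_mem heW (hVW p.2.2)⟩ else ⟨p.2, hVW p.2.2⟩
    have hf : Function.Bijective f := by
      constructor
      · rintro ⟨s, u, hu⟩ ⟨t, v, hv⟩ h
        have h' := congrArg Subtype.val h
        cases s <;> cases t <;> simp only [f, cond_true, cond_false] at h'
        · exact Prod.ext rfl (Subtype.ext h')
        · exact absurd (by rw [show e = u * v⁻¹ by rw [h']; group]; exact mul_mem hu (inv_mem hv)) heV
        · exact absurd (by rw [show e = v * u⁻¹ by rw [← h']; group]; exact mul_mem hv (inv_mem hu)) heV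
        · exact Prod.ext rfl (Subtype.ext (mul_left_cancel h'))
      · rintro ⟨w, hw⟩
        obtain ⟨v, hv, rfl | rfl⟩ := key w hw
        · exact ⟨(false, ⟨w, hv⟩), rfl⟩
        · exact ⟨(true, ⟨v, hv⟩), rfl⟩
    rw [← Nat.card_eq_of_bijective f hf, Nat.card_prod, Nat.card_eq_fintype_card (α := Bool),
      Fintype.card_bool]

/-- fixed points of an involution on an invariant elementary abelian group -/
theorem fix [Finite X] {E : Subgroup X} (hE : Cfsg.IsElementaryAbelian 2 E) {u : X} (hu : u * u = 1)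
    {A : Subgroup X} (hAE : A ≤ E) (hAu : ∀ a ∈ A, u * a * u⁻¹ ∈ A) :
    Nat.card A ≤ (Nat.card (A ⊓ Subgroup.centralizer ({u} : Set X) : Subgroup X)) ^ 2 := by
  set C := A ⊓ Subgroup.centralizer ({u} : Set X) with hC
  have hu' : u⁻¹ = u := inv_eq_of_mul_eq_one_right hu
  let f : A →* X :=
    { toFun := fun a => (a : X)⁻¹ * (u * a * u⁻¹)
      map_one' := by simp
      map_mul' := fun a b => by
        have h := comm_of hE (hAE (hAu a a.2)) (E.inv_mem (hAE b.2))
        show ((a : X) * b)⁻¹ * (u * ((a : X) * b) * u⁻¹) =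
          (a : X)⁻¹ * (u * a * u⁻¹) * ((b : X)⁻¹ * (u * b * u⁻¹))
        calc ((a : X) * b)⁻¹ * (u * ((a : X) * b) * u⁻¹)
            = (b : X)⁻¹ * (a : X)⁻¹ * (u * a * u⁻¹) * (u * b * u⁻¹) := by group
          _ = (a : X)⁻¹ * ((b : X)⁻¹ * (u * a * u⁻¹)) * (u * b * u⁻¹) := by
              rw [comm_of hE (E.inv_mem (hAE b.2)) (E.inv_mem (hAE a.2))]; group
          _ = _ := by rw [← h]; group }
  have hker : f.ker.map A.subtype = C := by
    ext a
    simp only [hC, Subgroup.mem_map, MonoidHom.mem_ker, Subgroup.mem_inf,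
      Subgroup.mem_centralizer_singleton_iff]
    constructor
    · rintro ⟨b, hb, rfl⟩
      refine ⟨b.2, ?_⟩
      have hb' : (b : X) = u * b * u⁻¹ := inv_mul_eq_one.mp hb
      show (b : X) * u = u * b
      calc (b : X) * u = u * b * u⁻¹ * u := by rw [← hb']
        _ = u * b := by group
    · rintro ⟨ha, hc⟩
      refine ⟨⟨a, ha⟩, ?_, rfl⟩
      show a⁻¹ * (u * a * u⁻¹) = 1
      rw [← hc]; group
  have hrange : f.range ≤ C := by
    rintro _ ⟨a, rfl⟩
    refine ⟨A.mul_mem (A.inv_mem a.2) (hAu a a.2), Subgroup.mem_centralizer_singleton_iff.mpr ?_⟩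
    show (a : X)⁻¹ * (u * a * u⁻¹) * u = u * ((a : X)⁻¹ * (u * a * u⁻¹))
    rw [hu', inv_of hE (hAE a.2)]
    have h := comm_of hE (hAE a.2) (hAE (hAu a a.2))
    rw [hu'] at h
    calc (a : X) * (u * a * u) * u = (u * a * u) * a * u := by rw [h]
      _ = u * (a * (u * a * u)) := by group
  have h1 : Nat.card f.ker = Nat.card C := by
    rw [← hker, Subgroup.card_map_of_injective A.subtype_injective]
  have h3 := Subgroup.card_le_of_le hrange
  rw [← Subgroup.index_mul_card f.ker, Subgroup.index_ker, h1, pow_two]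
  exact Nat.mul_le_mul_right _ h3

theorem exists_not_mem [Finite X] {C V : Subgroup X} (h : Nat.card V < Nat.card C) : ∃ e ∈ C, e ∉ V := by
  by_contra hh
  push Not at hh
  exact (Nat.lt_irrefl _) (h.trans_le (Subgroup.card_le_of_le hh))

/-- two-element subgroup -/
theorem exists_pair [Finite X] {a : X} (ha : a * a = 1) (ha1 : a ≠ 1) :
    ∃ V : Subgroup X, Cfsg.IsElementaryAbelian 2 V ∧ a ∈ V ∧ Nat.card V = 2 ∧ ∀ w ∈ V, w = 1 ∨ w = a := by
  obtain ⟨W, -, ha', hW, hcard, hall⟩ := ext_one (V := (⊥ : Subgroup X))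
    ⟨⟨⟨fun x y => Subsingleton.elim _ _⟩⟩, fun x hx => by rw [Subgroup.mem_bot.1 hx, one_pow]⟩ ha
    (fun v hv => by rw [Subgroup.mem_bot.1 hv, one_mul, mul_one])
    (fun h => ha1 (Subgroup.mem_bot.1 h))
  refine ⟨W, hW, ha', by simpa using hcard, fun w hw => ?_⟩
  rcases hall w hw with h | h
  · exact Or.inl (Subgroup.mem_bot.1 h)
  · right
    calc w = a * (a * w) := by rw [← mul_assoc, ha, one_mul]
      _ = a := by rw [Subgroup.mem_bot.1 h, mul_one]


/-- Let X be a finite 2-group having a normal elementary abelian subgroup of order at least 32. Then (a) for any two elementary abelian subgroups A, B of X of order 8 there is a chain A = A₁, A₂, …, Aₙ = B of elementary abelian subgroups of order 8 in which consecutive members commute elementwise; and (b) every elementary abelian subgroup of X of order 4 is contained in an elementary abelian subgroup of order 8. -/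
theorem result {X : Type*} [Group X] [Finite X]
    (hX : IsPGroup 2 X) (E : Subgroup X) [E.Normal] (hE : Cfsg.IsElementaryAbelian 2 E) (hE32 : 32 ≤ Nat.card ↥E) :
    (∀ A B : Subgroup X, Cfsg.IsElementaryAbelian 2 A → Nat.card ↥A = 8 → Cfsg.IsElementaryAbelian 2 B → Nat.card ↥B = 8 →
        Relation.ReflTransGen
          (fun C D : Subgroup X => Cfsg.IsElementaryAbelian 2 C ∧ Nat.card ↥C = 8 ∧ Cfsg.IsElementaryAbelian 2 D ∧ Nat.card ↥D = 8 ∧ ⁅C, D⁆ = ⊥)
          A B) ∧
      (∀ V : Subgroup X, Cfsg.IsElementaryAbelian 2 V → Nat.card ↥V = 4 →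
        ∃ A : Subgroup X, V ≤ A ∧ Cfsg.IsElementaryAbelian 2 A ∧ Nat.card ↥A = 8) := by
  classical
  haveI : Fact (Nat.Prime 2) := ⟨Nat.prime_two⟩
  let R : Subgroup X → Subgroup X → Prop := fun C D =>
    Cfsg.IsElementaryAbelian 2 C ∧ Nat.card ↥C = 8 ∧ Cfsg.IsElementaryAbelian 2 D ∧ Nat.card ↥D = 8 ∧ ⁅C, D⁆ = ⊥
  have mkR : ∀ C D : Subgroup X, Cfsg.IsElementaryAbelian 2 C → Nat.card ↥C = 8 →
      Cfsg.IsElementaryAbelian 2 D → Nat.card ↥D = 8 →
      (∀ c ∈ C, ∀ d ∈ D, c * d = d * c) → R C D := fun C D h1 h2 h3 h4 h5 =>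
    ⟨h1, h2, h3, h4, Subgroup.commutator_eq_bot_iff_le_centralizer.2 fun c hc =>
      Subgroup.mem_centralizer_iff.2 fun d hd => (h5 c hc d hd).symm⟩
  have hconjE : ∀ u : X, ∀ a ∈ E, u * a * u⁻¹ ∈ E := fun u a ha => (inferInstance : E.Normal).conj_mem a ha u
  have hfix1 : ∀ u : X, u * u = 1 →
      6 ≤ Nat.card (E ⊓ Subgroup.centralizer ({u} : Set X) : Subgroup X) := by
    intro u hu
    have h := fix hE hu (le_refl E) (hconjE u)
    by_contra hh
    push Not at hh
    have : Nat.card (E ⊓ Subgroup.centralizer ({u} : Set X) : Subgroup X) ^ 2 ≤ 5 ^ 2 :=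
      Nat.pow_le_pow_left (by omega) 2
    omega
  have hfix2 : ∀ u v : X, u * u = 1 → v * v = 1 → u * v = v * u →
      3 ≤ Nat.card (E ⊓ Subgroup.centralizer ({u} : Set X) ⊓ Subgroup.centralizer ({v} : Set X) :
        Subgroup X) := by
    intro u v hu hv huv
    have h := fix hE hv (A := E ⊓ Subgroup.centralizer ({u} : Set X)) inf_le_left fun a ha =>
      ⟨hconjE v a ha.1, by
        refine Subgroup.mem_centralizer_singleton_iff.mpr ?_
        have h1 := Subgroup.mem_centralizer_singleton_iff.mp ha.2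
        have hvv : v⁻¹ = v := inv_eq_of_mul_eq_one_right hv
        rw [hvv]
        calc v * a * v * u = v * (a * u) * v := by rw [mul_assoc _ v u, ← huv]; group
          _ = v * u * a * v := by rw [h1]; group
          _ = u * (v * a * v) := by rw [← huv]; group⟩
    have h6 := hfix1 u hu
    by_contra hh
    push Not at hh
    have := Nat.pow_le_pow_left (show Nat.card (E ⊓ Subgroup.centralizer ({u} : Set X) ⊓
      Subgroup.centralizer ({v} : Set X) : Subgroup X) ≤ 2 by omega) 2
    omega
  have four_gen : ∀ V : Subgroup X, Cfsg.IsElementaryAbelian 2 V → Nat.card ↥V = 4 →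
      ∃ u ∈ V, ∃ v ∈ V, ∀ w ∈ V, w = 1 ∨ w = u ∨ w = v ∨ w = v * u := by
    intro V hV h4
    obtain ⟨u, hu, hu1⟩ := exists_not_mem (C := V) (V := (⊥ : Subgroup X)) (by rw [h4]; simp)
    have hu1' : u ≠ 1 := fun h => hu1 (h ▸ one_mem _)
    obtain ⟨P, hP, huP, hP2, hPall⟩ := exists_pair (mul_self_of hV hu) hu1'
    obtain ⟨v, hv, hvP⟩ := exists_not_mem (C := V) (V := P) (by omega)
    obtain ⟨W, hPW, hvW, hW, hWc, hWall⟩ := ext_one hP (mul_self_of hV hv)
      (fun w hw => comm_of hV hv (by rcases hPall w hw with rfl | rfl; exacts [one_mem _, hu])) hvP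
    have hWV : W ≤ V := fun w hw => by
      rcases hWall w hw with h | h
      · rcases hPall w h with rfl | rfl; exacts [one_mem _, hu]
      · have : w = v * (v * w) := by rw [← mul_assoc, mul_self_of hV hv, one_mul]
        rw [this]
        refine mul_mem hv ?_
        rcases hPall _ h with h' | h' <;> rw [h']
        exacts [one_mem _, hu]
    have heq : W = V := Subgroup.eq_of_le_of_card_ge hWV (by omega)
    refine ⟨u, hu, v, hv, fun w hw => ?_⟩
    rw [← heq] at hw
    rcases hWall w hw with h | h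
    · rcases hPall w h with rfl | rfl <;> simp
    · have e : w = v * (v * w) := by rw [← mul_assoc, mul_self_of hV hv, one_mul]
      rcases hPall _ h with h' | h' <;> rw [h'] at e <;> simp [e]
  refine ⟨?_, ?_⟩
  · intro A B hA hA8 hB hB8
    have hrsymm : ∀ C D, Relation.ReflTransGen R C D → Relation.ReflTransGen R D C := by
      intro C D h
      induction h with
      | refl => exact .refl
      | tail _ h2 ih =>
        exact Relation.ReflTransGen.head
          ⟨h2.2.2.1, h2.2.2.2.1, h2.1, h2.2.1, by rw [Subgroup.commutator_comm]; exact h2.2.2.2.2⟩ ih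
    have key : ∀ A : Subgroup X, Cfsg.IsElementaryAbelian 2 A → Nat.card ↥A = 8 →
        ∃ W : Subgroup X, Cfsg.IsElementaryAbelian 2 W ∧ Nat.card ↥W = 8 ∧ W ≤ E ∧
          Relation.ReflTransGen R A W := by
      intro A hA hA8
      -- a fixed point of `A` in `E`
      obtain ⟨z, hzE, hz1, hzc⟩ : ∃ z ∈ E, z ≠ 1 ∧ ∀ a ∈ A, z * a = a * z := by
        obtain ⟨a, ha, ha1⟩ := exists_not_mem (C := A) (V := (⊥ : Subgroup X)) (by rw [hA8]; simp)
        have ha1' : a ≠ 1 := fun h => ha1 (h ▸ one_mem _)
        obtain ⟨P, hP, haP, hP2, hPall⟩ := exists_pair (mul_self_of hA ha) ha1'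
        obtain ⟨b, hb, hbP⟩ := exists_not_mem (C := A) (V := P) (by omega)
        obtain ⟨Q, hPQ, hbQ, hQ, hQc, hQall⟩ := ext_one hP (mul_self_of hA hb)
          (fun w hw => comm_of hA hb (by rcases hPall w hw with rfl | rfl; exacts [one_mem _, ha])) hbP
        have hQA : Q ≤ A := fun w hw => by
          have hPA : ∀ x ∈ P, x ∈ A := fun x hx => by
            rcases hPall x hx with rfl | rfl; exacts [one_mem _, ha]
          rcases hQall w hw with h | h
          · exact hPA w h
          · have : w = b * (b * w) := by rw [← mul_assoc, mul_self_of hA hb, one_mul]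
            rw [this]; exact mul_mem hb (hPA _ h)
        obtain ⟨c, hc, hcQ⟩ := exists_not_mem (C := A) (V := Q) (by omega)
        set C₂ := E ⊓ Subgroup.centralizer ({a} : Set X) ⊓ Subgroup.centralizer ({b} : Set X) with hC₂
        have h3 := fix hE (mul_self_of hA hc) (A := C₂) (inf_le_left.trans inf_le_left) fun x hx =>
          ⟨⟨hconjE c x hx.1.1, Subgroup.mem_centralizer_singleton_iff.mpr (by
            have h1 := Subgroup.mem_centralizer_singleton_iff.mp hx.1.2
            have e := comm_of hA hc ha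
            have e' : c⁻¹ * a = a * c⁻¹ := comm_of hA (inv_mem hc) ha
            calc c * x * c⁻¹ * a = c * (x * a) * c⁻¹ := by rw [mul_assoc _ c⁻¹ a, e']; group
              _ = (c * a) * (x * c⁻¹) := by rw [h1]; group
              _ = a * (c * x * c⁻¹) := by rw [e]; group)⟩,
          Subgroup.mem_centralizer_singleton_iff.mpr (by
            have h1 := Subgroup.mem_centralizer_singleton_iff.mp hx.2
            have e := comm_of hA hc hb
            have e' : c⁻¹ * b = b * c⁻¹ := comm_of hA (inv_mem hc) hb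
            calc c * x * c⁻¹ * b = c * (x * b) * c⁻¹ := by rw [mul_assoc _ c⁻¹ b, e']; group
              _ = (c * b) * (x * c⁻¹) := by rw [h1]; group
              _ = b * (c * x * c⁻¹) := by rw [e]; group)⟩
        have h32 : 3 ≤ Nat.card C₂ := hfix2 a b (mul_self_of hA ha) (mul_self_of hA hb) (comm_of hA ha hb)
        obtain ⟨z, hz, hz1⟩ := exists_not_mem
          (C := C₂ ⊓ Subgroup.centralizer ({c} : Set X)) (V := (⊥ : Subgroup X)) (by
            rw [Subgroup.card_bot]
            by_contra hh
            push Not at hh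
            have := Nat.pow_le_pow_left hh 2
            omega)
        refine ⟨z, hz.1.1.1, fun h => hz1 (h ▸ one_mem _), fun x hx => ?_⟩
        have hlt : Nat.card Q < Nat.card
            (A ⊓ Subgroup.centralizer ({z} : Set X) : Subgroup X) := by
          have hle : Q ≤ A ⊓ Subgroup.centralizer ({z} : Set X) := by
            refine le_inf hQA fun w hw => Subgroup.mem_centralizer_singleton_iff.2 ?_
            have hza := Subgroup.mem_centralizer_singleton_iff.mp hz.1.1.2
            have hzb := Subgroup.mem_centralizer_singleton_iff.mp hz.1.2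
            have hP' : ∀ x ∈ P, z * x = x * z := fun x hx => by
              rcases hPall x hx with rfl | rfl
              · simp
              · exact hza
            rcases hQall w hw with h | h
            · exact (hP' w h).symm
            · have e : w = b * (b * w) := by rw [← mul_assoc, mul_self_of hA hb, one_mul]
              rw [e, mul_assoc, ← hP' _ h, ← mul_assoc b z, ← hzb, mul_assoc]
          refine lt_of_le_of_ne (Subgroup.card_le_of_le hle) fun h => hcQ ?_
          rw [Subgroup.eq_of_le_of_card_ge hle h.ge]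
          exact ⟨hc, Subgroup.mem_centralizer_singleton_iff.2
            (Subgroup.mem_centralizer_singleton_iff.mp hz.2).symm⟩
        have hAc : A ≤ Subgroup.centralizer ({z} : Set X) := by
          obtain ⟨k, -, hk⟩ := (Nat.dvd_prime_pow Nat.prime_two).1
            ((show (8 : ℕ) = 2 ^ 3 by norm_num) ▸ hA8 ▸ Subgroup.card_dvd_of_le
              (inf_le_left : A ⊓ Subgroup.centralizer ({z} : Set X) ≤ A))
          have hk3 : 3 ≤ k := by
            by_contra hh
            push Not at hh
            have : 2 ^ k ≤ 2 ^ 2 := Nat.pow_le_pow_right (by norm_num) (by omega)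
            omega
          have : A ⊓ Subgroup.centralizer ({z} : Set X) = A :=
            Subgroup.eq_of_le_of_card_ge inf_le_left (by
              have : 2 ^ 3 ≤ 2 ^ k := Nat.pow_le_pow_right (by norm_num) hk3
              omega)
          rw [← this]; exact inf_le_right
        exact (Subgroup.mem_centralizer_singleton_iff.1 (hAc hx)).symm
      -- step 1: move to a group containing `z`
      obtain ⟨A₁, hA₁, hA₁8, hzA₁, hr₁⟩ : ∃ A₁ : Subgroup X, Cfsg.IsElementaryAbelian 2 A₁ ∧
          Nat.card ↥A₁ = 8 ∧ z ∈ A₁ ∧ Relation.ReflTransGen R A A₁ := by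
        by_cases hzA : z ∈ A
        · exact ⟨A, hA, hA8, hzA, .refl⟩
        obtain ⟨a, ha, ha1⟩ := exists_not_mem (C := A) (V := (⊥ : Subgroup X)) (by rw [hA8]; simp)
        have ha1' : a ≠ 1 := fun h => ha1 (h ▸ one_mem _)
        obtain ⟨P, hP, -, hP2, hPall⟩ := exists_pair (mul_self_of hA ha) ha1'
        have hPA : P ≤ A := fun w hw => by rcases hPall w hw with rfl | rfl; exacts [one_mem _, ha]
        obtain ⟨b, hb, hbP⟩ := exists_not_mem (C := A) (V := P) (by omega)
        obtain ⟨Q, -, -, hQ, hQc, hQall⟩ := ext_one hP (mul_self_of hA hb)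
          (fun w hw => comm_of hA hb (hPA hw)) hbP
        have hQA : Q ≤ A := fun w hw => by
          rcases hQall w hw with h | h
          · exact hPA h
          · have : w = b * (b * w) := by rw [← mul_assoc, mul_self_of hA hb, one_mul]
            rw [this]; exact mul_mem hb (hPA h)
        obtain ⟨A₁, hQA₁, hzA₁, hA₁, hA₁c, hA₁all⟩ := ext_one hQ (mul_self_of hE hzE)
          (fun w hw => hzc w (hQA hw)) (fun h => hzA (hQA h))
        refine ⟨A₁, hA₁, by omega, hzA₁, Relation.ReflTransGen.single (mkR _ _ hA hA8 hA₁ (by omega) ?_)⟩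
        intro x hx w hw
        rcases hA₁all w hw with h | h
        · exact comm_of hA hx (hQA h)
        · exact comm_step (mul_self_of hE hzE) (hzc x hx).symm (comm_of hA hx (hQA h))
      -- generators
      obtain ⟨Z, hZ, hzZ, hZ2, hZall⟩ := exists_pair (mul_self_of hE hzE) hz1
      have hZA : Z ≤ A₁ := fun w hw => by rcases hZall w hw with rfl | rfl; exacts [one_mem _, hzA₁]
      obtain ⟨x, hx, hxZ⟩ := exists_not_mem (C := A₁) (V := Z) (by omega)
      obtain ⟨V, hZV, hxV, hV, hVc, hVall⟩ := ext_one hZ (mul_self_of hA₁ hx)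
        (fun w hw => comm_of hA₁ hx (hZA hw)) hxZ
      have hVA : V ≤ A₁ := fun w hw => by
        rcases hVall w hw with h | h
        · exact hZA h
        · have : w = x * (x * w) := by rw [← mul_assoc, mul_self_of hA₁ hx, one_mul]
          rw [this]; exact mul_mem hx (hZA h)
      obtain ⟨y, hy, hyV⟩ := exists_not_mem (C := A₁) (V := V) (by omega)
      obtain ⟨W₁, hVW₁, hyW₁, hW₁, hW₁c, hW₁all⟩ := ext_one hV (mul_self_of hA₁ hy)
        (fun w hw => comm_of hA₁ hy (hVA hw)) hyV
      have hW₁A : W₁ = A₁ := Subgroup.eq_of_le_of_card_ge (fun w hw => by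
        rcases hW₁all w hw with h | h
        · exact hVA h
        · have : w = y * (y * w) := by rw [← mul_assoc, mul_self_of hA₁ hy, one_mul]
          rw [this]; exact mul_mem hy (hVA h)) (by omega)
      obtain ⟨e, he, heZ⟩ := exists_not_mem
        (C := E ⊓ Subgroup.centralizer ({x} : Set X) ⊓ Subgroup.centralizer ({y} : Set X)) (V := Z) (by
          have := hfix2 x y (mul_self_of hA₁ hx) (mul_self_of hA₁ hy) (comm_of hA₁ hx hy)
          omega)
      have hecV : ∀ w ∈ V, e * w = w * e := fun w hw => by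
        have hex := Subgroup.mem_centralizer_singleton_iff.mp he.1.2
        have hZc : ∀ w ∈ Z, e * w = w * e := fun w hw => by
          rcases hZall w hw with rfl | rfl
          · simp
          · exact comm_of hE he.1.1 hzE
        rcases hVall w hw with h | h
        · exact hZc w h
        · exact comm_step (mul_self_of hA₁ hx) hex (hZc _ h)
      have hecA : ∀ w ∈ A₁, e * w = w * e := fun w hw => by
        have hey := Subgroup.mem_centralizer_singleton_iff.mp he.2
        rw [← hW₁A] at hw
        rcases hW₁all w hw with h | h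
        · exact hecV w h
        · exact comm_step (mul_self_of hA₁ hy) hey (hecV _ h)
      obtain ⟨P₂, hZP₂, heP₂, hP₂, hP₂c, hP₂all⟩ := ext_one hZ (mul_self_of hE he.1.1)
        (fun w hw => hecA w (hZA hw)) heZ
      have hP₂E : P₂ ≤ E := fun w hw => by
        have hZE : ∀ w ∈ Z, w ∈ E := fun w hw => by
          rcases hZall w hw with rfl | rfl; exacts [one_mem _, hzE]
        rcases hP₂all w hw with h | h
        · exact hZE w h
        · have : w = e * (e * w) := by rw [← mul_assoc, mul_self_of hE he.1.1, one_mul]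
          rw [this]; exact mul_mem he.1.1 (hZE _ h)
      have hP₂cA : ∀ w ∈ P₂, ∀ a ∈ A₁, w * a = a * w := fun w hw a ha => by
        rcases hP₂all w hw with h | h
        · exact comm_of hA₁ (hZA h) ha
        · have : w = e * (e * w) := by rw [← mul_assoc, mul_self_of hE he.1.1, one_mul]
          rw [this, mul_assoc, comm_of hA₁ (hZA h) ha, ← mul_assoc, hecA a ha, mul_assoc]
      obtain ⟨x', hx', hx'P⟩ := exists_not_mem (C := A₁) (V := P₂) (by omega)
      obtain ⟨A₂, hPA₂, hxA₂, hA₂, hA₂c, hA₂all⟩ := ext_one hP₂ (mul_self_of hA₁ hx')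
        (fun w hw => (hP₂cA w hw x' hx').symm) hx'P
      have hR₂ : R A₁ A₂ := mkR _ _ hA₁ hA₁8 hA₂ (by omega) fun a ha w hw => by
        rcases hA₂all w hw with h | h
        · exact (hP₂cA w h a ha).symm
        · exact comm_step (mul_self_of hA₁ hx') (comm_of hA₁ ha hx') (hP₂cA _ h a ha).symm
      obtain ⟨f, hf, hfP⟩ := exists_not_mem (C := E ⊓ Subgroup.centralizer ({x'} : Set X)) (V := P₂) (by
        have := hfix1 x' (mul_self_of hA₁ hx')
        omega)
      obtain ⟨W, hPW, hfW, hW, hWc, hWall⟩ := ext_one hP₂ (mul_self_of hE hf.1)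
        (fun w hw => comm_of hE hf.1 (hP₂E hw)) hfP
      have hWE : W ≤ E := fun w hw => by
        rcases hWall w hw with h | h
        · exact hP₂E h
        · have : w = f * (f * w) := by rw [← mul_assoc, mul_self_of hE hf.1, one_mul]
          rw [this]; exact mul_mem hf.1 (hP₂E h)
      have hR₃ : R A₂ W := mkR _ _ hA₂ (by omega) hW (by omega) fun a ha w hw => by
        have hfx := Subgroup.mem_centralizer_singleton_iff.mp hf.2
        have h0 : ∀ q ∈ P₂, q * w = w * q := fun q hq => comm_of hE (hP₂E hq) (hWE hw)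
        have h1 : x' * w = w * x' := by
          rcases hWall w hw with h | h
          · exact (hP₂cA w h x' hx').symm
          · exact comm_step (mul_self_of hE hf.1) hfx.symm (hP₂cA _ h x' hx').symm
        rcases hA₂all a ha with h | h
        · exact h0 a h
        · have e' : a = x' * (x' * a) := by rw [← mul_assoc, mul_self_of hA₁ hx', one_mul]
          rw [e', mul_assoc, h0 _ h, ← mul_assoc, h1, mul_assoc]
      exact ⟨W, hW, by omega, hWE, (hr₁.trans (Relation.ReflTransGen.single hR₂)).tail hR₃⟩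
    obtain ⟨WA, hWA, hWA8, hWAE, hrA⟩ := key A hA hA8
    obtain ⟨WB, hWB, hWB8, hWBE, hrB⟩ := key B hB hB8
    exact (hrA.tail (mkR _ _ hWA hWA8 hWB hWB8 fun c hc d hd => comm_of hE (hWAE hc) (hWBE hd))).trans
      (hrsymm _ _ hrB)
  · intro V hV hV4
    obtain ⟨u, hu, v, hv, hall⟩ := four_gen V hV hV4
    obtain ⟨e, he, heV⟩ : ∃ e ∈ E ⊓ Subgroup.centralizer ({u} : Set X) ⊓ Subgroup.centralizer ({v} : Set X),
        e ∉ V := by
      by_contra hh
      push Not at hh
      set C₂ := E ⊓ Subgroup.centralizer ({u} : Set X) ⊓ Subgroup.centralizer ({v} : Set X) with hC₂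
      have h3 : 3 ≤ Nat.card C₂ := hfix2 u v (mul_self_of hV hu) (mul_self_of hV hv) (comm_of hV hu hv)
      have hle : C₂ ≤ V := hh
      obtain ⟨k, -, hk⟩ := (Nat.dvd_prime_pow Nat.prime_two).1
        ((show (4 : ℕ) = 2 ^ 2 by norm_num) ▸ hV4 ▸ Subgroup.card_dvd_of_le hle)
      have hk2 : 2 ≤ k := by
        by_contra hh'
        have : 2 ^ k ≤ 2 ^ 1 := Nat.pow_le_pow_right (by norm_num) (by omega)
        omega
      have h4 : 4 ≤ Nat.card C₂ := by
        have : 2 ^ 2 ≤ 2 ^ k := Nat.pow_le_pow_right (by norm_num) hk2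
        omega
      have heq : C₂ = V := Subgroup.eq_of_le_of_card_ge hle (by omega)
      have hVE : V ≤ E := heq ▸ inf_le_left.trans inf_le_left
      have hEC : E ≤ C₂ := fun x hx => ⟨⟨hx, Subgroup.mem_centralizer_singleton_iff.2
        (comm_of hE hx (hVE hu))⟩, Subgroup.mem_centralizer_singleton_iff.2 (comm_of hE hx (hVE hv))⟩
      have := Subgroup.card_le_of_le (hEC.trans hle)
      omega
    have heu := Subgroup.mem_centralizer_singleton_iff.mp he.1.2
    have hev := Subgroup.mem_centralizer_singleton_iff.mp he.2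
    obtain ⟨A, hVA, -, hA, hAc, -⟩ := ext_one hV (mul_self_of hE he.1.1) (fun w hw => by
      rcases hall w hw with rfl | rfl | rfl | rfl
      · simp
      · exact heu
      · exact hev
      · rw [← mul_assoc, hev, mul_assoc, heu, mul_assoc]) heV
    exact ⟨A, hVA, hA, by omega⟩

end Cfsg.Agent.S1785
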