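import Cfsg.Statements.S1786
import Cfsg.Agent.Lib.TILarge23.SL2
import Cfsg.Agent.Lib.Components.FStar

set_option autoImplicit false
open Cfsg

namespace Cfsg.Agent.S1786

/-- Let G be a finite group, V an elementary abelian 2-subgroup of G and M the normalizer of V; write Q for the largest normal 2-subgroup of M. Suppose (1) the generalized Fitting subgroup of M equals Q; (2) V is a maximal abelian normal subgroup of M; (3) every conjugate of V equals V or meets V trivially, and for some g ∈ G the conjugate V' = g V g⁻¹ is different from V and contained in Q. Let P be the centralizer of V in Q, W the subgroup generated by V and V', and H the subgroup generated by P and g P g⁻¹. Then: (a) V is contained in g Q g⁻¹; (b) every non-identity element of W lies in exactly one conjugate of V contained in W, H normalizes W, and H modulo the centralizer of W in H is isomorphic to the special linear group of dimension 2 over the field with |V| elements; (c) P = Q, and V equals the Frattini subgroup,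 the centre and the commutator subgroup of Q. -/
theorem result {G : Type*} [Group G] [Finite G] (V : Subgroup G)
    (hV : Cfsg.IsElementaryAbelian 2 V)
    (h1 : (Cfsg.generalizedFittingSubgroup ↥(Subgroup.normalizer (V : Set G))).map (Subgroup.normalizer (V : Set G)).subtype =
      (Cfsg.pCore 2 ↥(Subgroup.normalizer (V : Set G))).map (Subgroup.normalizer (V : Set G)).subtype)
    (h2 : ∀ A : Subgroup G, V ≤ A → A ≤ Subgroup.normalizer (V : Set G) → IsMulCommutative ↥A →
      (∀ m ∈ Subgroup.normalizer (V : Set G), ∀ a ∈ A, m * a * m⁻¹ ∈ A) → A = V)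
    (hti : ∀ x : G, V.map (MulAut.conj x).toMonoidHom = V ∨ V.map (MulAut.conj x).toMonoidHom ⊓ V = ⊥)
    (g : G) (hg : V.map (MulAut.conj g).toMonoidHom ≠ V)
    (hgQ : V.map (MulAut.conj g).toMonoidHom ≤ (Cfsg.pCore 2 ↥(Subgroup.normalizer (V : Set G))).map (Subgroup.normalizer (V : Set G)).subtype) :
    let Q : Subgroup G := (Cfsg.pCore 2 ↥(Subgroup.normalizer (V : Set G))).map (Subgroup.normalizer (V : Set G)).subtype
    let P : Subgroup G := Q ⊓ Subgroup.centralizer (V : Set G)
    let W : Subgroup G := V ⊔ V.map (MulAut.conj g).toMonoidHom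
    let H : Subgroup G := P ⊔ P.map (MulAut.conj g).toMonoidHom
    V ≤ Q.map (MulAut.conj g).toMonoidHom ∧
      (∀ w ∈ W, w ≠ 1 → ∃! U : Subgroup G, (∃ x : G, U = V.map (MulAut.conj x).toMonoidHom) ∧ U ≤ W ∧ w ∈ U) ∧
      H ≤ Subgroup.normalizer (W : Set G) ∧
      (∀ hN : ((Subgroup.centralizer (W : Set G)).subgroupOf H).Normal, ∃ (F : Type) (_ : Field F) (_ : Fintype F), Fintype.card F = Nat.card ↥V ∧
        Nonempty (↥H ⧸ (Subgroup.centralizer (W : Set G)).subgroupOf H ≃* Matrix.SpecialLinearGroup (Fin 2) F)) ∧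
      P = Q ∧ (frattini ↥Q).map Q.subtype = V ∧ (Subgroup.center ↥Q).map Q.subtype = V ∧ (commutator ↥Q).map Q.subtype = V := by
  classical
  intro Q P W H
  set X := TILarge23.cj g V with hXdef
  have hc : ∀ m ∈ Subgroup.normalizer (V : Set G),
      (∀ q ∈ TILarge23.Qn V, m * q = q * m) → m ∈ TILarge23.Qn V := by
    intro m hm hq
    have e := Subgroup.map_injective (Subgroup.normalizer (V : Set G)).subtype_injective h1
    refine ⟨⟨m, hm⟩, e.le (Components.centralizer_fStar_le ?_), rfl⟩
    rw [e, Subgroup.mem_centralizer_iff]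
    intro q hq'
    exact Subtype.ext (hq q ⟨q, hq', rfl⟩).symm
  have hT : TILarge23.TI V := ⟨hV, hc, h2, hti⟩
  have hpair : TILarge23.Pair V X := ⟨⟨g, rfl⟩, hg, hgQ⟩
  obtain ⟨A, T⟩ := TILarge23.exists_triple hT hpair
  obtain ⟨hN, F, iF, iFt, hcard, hiso, -⟩ := T.sl_two_action (g := g) rfl
  obtain ⟨hfr, hce, hco⟩ := T.frattini_center_commutator (g := g) rfl
  have hP : P.map (MulAut.conj g).toMonoidHom = TILarge23.Pn X := TILarge23.cj_Pn g V
  have hH : H = TILarge23.Pn V ⊔ TILarge23.Pn X := by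
    show P ⊔ P.map (MulAut.conj g).toMonoidHom = _
    rw [hP]; rfl
  refine ⟨?_, ?_, ?_, ?_, T.Pn_eq_Qn (g := g) rfl, hfr, hce, hco⟩
  · have := T.symmetry
    rwa [hXdef, ← TILarge23.cj_Qn] at this
  · intro w hw hw1
    obtain ⟨U, hU, hwU⟩ : ∃ U, (TILarge23.Conj V U ∧ U ≤ W) ∧ w ∈ U := by
      obtain ⟨v, hv, x, hx, rfl⟩ := T.mem_W.1 hw
      rcases eq_or_ne x 1 with rfl | hx1
      · exact ⟨V, ⟨TILarge23.Conj.refl V, le_sup_left⟩, by rw [mul_one]; exact hv⟩
      · obtain ⟨a, ha, hav⟩ := T.surjA hx hx1 hv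
        refine ⟨TILarge23.cj a X, ⟨T.pairX.1.cj_right a, T.cj_le_W ha⟩, ?_⟩
        rw [← hav, ← T.conj_eq ha hx]
        exact TILarge23.conj_mem_cj hx
    refine ⟨U, ⟨hU.1, hU.2, hwU⟩, ?_⟩
    rintro U' ⟨h', -, hw'⟩
    exact hT.eq_of_inf h' hU.1 hw1 hw' hwU
  · rw [hH]; exact hN
  · clear_value H
    subst hH
    intro hN'
    exact ⟨F, iF, iFt, hcard, hiso hN'⟩

end Cfsg.Agent.S1786
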