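import Cfsg.Statements.S1850
import Mathlib
import Cfsg.Agent.Lib.ClassK.CharTwo
import Cfsg.Agent.Lib.ClassK.Norm

set_option autoImplicit false
open Cfsg

namespace Cfsg.Agent.S1850

/-- Let G be a non-abelian finite simple QTKE-group and T a Sylow 2-subgroup of G. If U is a nontrivial 2-subgroup of G with U ∩ Z(T) ≠ 1, then F*(N_G(U)) = O₂(N_G(U)). -/
theorem result {G : Type*} [Group G] [Finite G] [IsSimpleGroup G]
    (hG : ¬ IsMulCommutative G) (hQ : Cfsg.IsQTKE G) (T : Sylow 2 G) (U : Subgroup G)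
    (hU : IsPGroup 2 ↥U) (hZ : U ⊓ ((T : Subgroup G) ⊓ Subgroup.centralizer ((T : Subgroup G) : Set G)) ≠ ⊥) :
    Subgroup.normalizer (U : Set G) ∈ Cfsg.calHe G := by
  haveI : Fact (Nat.Prime 2) := ⟨Nat.prime_two⟩
  set Z := (T : Subgroup G) ⊓ Subgroup.centralizer ((T : Subgroup G) : Set G) with hZdef
  have hUZ : IsPGroup 2 (U ⊓ Z : Subgroup G) := hU.to_le inf_le_left
  haveI : Nontrivial (U ⊓ Z : Subgroup G) := (Subgroup.nontrivial_iff_ne_bot _).mpr hZ
  obtain ⟨k, hk0, hk⟩ : ∃ k, 0 < k ∧ Nat.card (U ⊓ Z : Subgroup G) = 2 ^ k :=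
    hUZ.nontrivial_iff_card.mp inferInstance
  obtain ⟨z, hz⟩ := exists_prime_orderOf_dvd_card' (G := (U ⊓ Z : Subgroup G)) 2
    (hk ▸ dvd_pow_self 2 hk0.ne')
  have hzU : (z : G) ∈ U := z.2.1
  have hzZ : (z : G) ∈ Z := z.2.2
  have hzo : orderOf (z : G) = 2 := by rw [Subgroup.orderOf_coe, hz]
  have hC : ClassK.CharP 2 (Subgroup.centralizer ({(z : G)} : Set G)) := by
    rw [← ClassK.charTwo_iff]
    refine hQ.2.2 _ ⟨Subgroup.zpowers (z : G), hU.to_le (Subgroup.zpowers_le.mpr hzU), ?_,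
      (ClassK.normalizer_zpowers_of_orderOf_two hzo).symm⟩ ⟨T, ?_⟩
    · intro h
      rw [Subgroup.zpowers_eq_bot] at h
      rw [h, orderOf_one] at hzo
      omega
    · intro t ht
      rw [Subgroup.mem_centralizer_singleton_iff]
      exact Subgroup.mem_centralizer_iff.mp hzZ.2 t ht
  set S := {V : Subgroup G | V ≤ U ∧ (z : G) ∈ V ∧ ClassK.CharP 2 (Subgroup.normalizer (V : Set G))}
  have hne : S.Nonempty := by
    refine ⟨U ⊓ Subgroup.centralizer ({(z : G)} : Set G), inf_le_left,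
      ⟨hzU, Subgroup.mem_centralizer_singleton_iff.mpr rfl⟩,
      ClassK.charP_normalizer hC (hU.to_le inf_le_left) inf_le_right ?_⟩
    exact Subgroup.centralizer_le (Set.singleton_subset_iff.mpr
      ⟨hzU, Subgroup.mem_centralizer_singleton_iff.mpr rfl⟩)
  obtain ⟨V, ⟨hVU, hzV, hV⟩, hmax⟩ := S.toFinite.exists_maximal hne
  rw [ClassK.mem_calHe_iff, ClassK.charTwo_iff]
  rcases eq_or_ne V U with rfl | hne'
  · exact hV
  exfalso
  obtain ⟨x, hxU, hxn, hxV⟩ := ClassK.exists_mem_normalizer_notMem hU hVU hne'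
  have hle : V ≤ U ⊓ Subgroup.normalizer (V : Set G) := le_inf hVU Subgroup.le_normalizer
  have hV' := ClassK.charP_normalizer hV (hU.to_le inf_le_left)
    (inf_le_right : U ⊓ Subgroup.normalizer (V : Set G) ≤ _)
    ((Subgroup.centralizer_le hle).trans (Subgroup.centralizer_le_normalizer _))
  exact hxV (hmax ⟨inf_le_left, hle hzV, hV'⟩ hle ⟨hxU, hxn⟩)

end Cfsg.Agent.S1850
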