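import Cfsg.Statements.S1851
import Mathlib
import Cfsg.Agent.Lib.ClassK.CharTwo
import Cfsg.Agent.Lib.ClassK.SubnormalTwo

set_option autoImplicit false
open Cfsg

namespace Cfsg.Agent.S1851

/-- Let G be a non-abelian finite simple QTKE-group and T a Sylow 2-subgroup of G, and let L be a member of ℒ_f(G, T) (a member of ℒ(G, T) that lies in 𝒳 — L ≠ 1, L = O²(L), F*(L) = O₂(L) — and acts nontrivially on Ω₁(Z(O₂(L)))). Then (1) every member K of ℒ(G, T) containing L is again in ℒ_f(G, T) (a sharper form of (1) also compares the modules [Ω₁(Z(R)), L] and [Ω₁(Z(R')), K] for suitable 2-subgroups R, R'; that comparison is not included); and (2) if L is maximal under inclusion among the members of ℒ_f(G, T), then L is a maximal member of ℒ(G, T), hence a member of ℒ_f*(G, T). -/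
theorem result {G : Type*} [Group G] [Finite G] [IsSimpleGroup G]
    (hG : ¬ IsMulCommutative G) (hQ : Cfsg.IsQTKE G) (T : Sylow 2 G) (L : Subgroup G)
    (hL : L ∈ Cfsg.calLf (T : Subgroup G)) :
    (∀ K ∈ Cfsg.calL (T : Subgroup G), L ≤ K → K ∈ Cfsg.calLf (T : Subgroup G)) ∧
    ((∀ K ∈ Cfsg.calLf (T : Subgroup G), L ≤ K → K = L) → L ∈ Cfsg.calLfMax (T : Subgroup G)) := by
  haveI : Fact (Nat.Prime 2) := ⟨Nat.prime_two⟩
  have part1 : ∀ K ∈ Cfsg.calL (T : Subgroup G), L ≤ K → K ∈ Cfsg.calLf (T : Subgroup G) := by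
    intro K hKL hLK
    obtain ⟨⟨hLL, hLX⟩, hLV⟩ : (L ∈ Cfsg.calL (T : Subgroup G) ∧ L ∈ Cfsg.calX G) ∧ moduleV L ≠ ⊥ :=
      ⟨⟨hL.1, hL.2.1⟩, hL.2.2⟩
    have hKL' := hKL
    obtain ⟨⟨hKne', hKperf', hKsub, -⟩, -, hKO⟩ := hKL
    obtain ⟨⟨-, -, hLsub, -⟩, -, -⟩ := hLL
    obtain ⟨-, hLgen, -⟩ := hLX
    set Y := K ⊔ (T : Subgroup G) with hYdef
    set YL := L ⊔ (T : Subgroup G) with hYLdef
    have hKne : K ≠ ⊥ := fun h => hKne' (by rw [h]; exact Subgroup.bot_subgroupOf _)
    have hKperf : ⁅K, K⁆ = K := by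
      have := congrArg (Subgroup.map Y.subtype) hKperf'
      rwa [Subgroup.map_commutator, Subgroup.map_subgroupOf_eq_of_le le_sup_left] at this
    have hKgen : oddGenerated K = K := ClassK.oddGenerated_of_perfect hKperf
    set RY := pCoreOf 2 Y with hRYdef
    have hRYne : RY ≠ ⊥ := fun h =>
      hKO ((Subgroup.map_eq_bot_iff_of_injective _ Y.subtype_injective).mp h)
    have hTY : (T : Subgroup G) ≤ Y := le_sup_right
    have hYn : Y ≤ Subgroup.normalizer (RY : Set G) := LocalEvenA.le_normalizer_pCoreOf 2 Y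
    have hRYp : IsPGroup 2 RY := LocalEvenA.pCoreOf_isPGroup' 2 Y
    have hY : ClassK.CharP 2 Y := by
      refine ClassK.charP_of_pCoreOf_le ((ClassK.charTwo_iff _).mp
        (hQ.2.2 _ ⟨RY, hRYp, hRYne, rfl⟩ ⟨T, hTY.trans hYn⟩)) hYn ?_
      exact (ClassK.pCoreOf_le_sylow T (hTY.trans hYn)).trans hTY
    have hK2 : IsOfCharacteristicTwo ↥K := by
      have h := ClassK.charTwo_subnormal ((ClassK.charTwo_iff Y).mpr hY) hKsub
      have h' := congrArg (Subgroup.map (Subgroup.subgroupOfEquivOfLe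
        (le_sup_left : K ≤ Y)).toMonoidHom) (ClassK.fStar_eq_of_charTwo h)
      rw [Components.map_fStar_equiv, Components.map_pCore_equiv] at h'
      exact ClassK.charTwo_of_fStar h'
    refine ⟨hKL', ⟨hKne, hKgen, ?_⟩, ?_⟩
    · exact (ClassK.mem_calHe_iff K).mpr hK2
    intro hVK
    -- `K` centralizes `Ω₁(Z(O₂(K)))`
    set PL := pCoreOf 2 L with hPLdef
    set PK := pCoreOf 2 K with hPKdef
    set R := pCoreOf 2 YL with hRdef
    have hVK' : ∀ k ∈ K, ∀ b ∈ ClassK.omegaCenterTwo PK, Commute k b := by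
      intro k hk b hb
      rw [← ClassK.omegaOne_center_eq] at hb
      have := Subgroup.commutator_eq_bot_iff_le_centralizer.mp hVK hb
      exact Subgroup.mem_centralizer_iff.mp this k hk
    have hRYR : RY ≤ R := by
      refine LocalEvenA.le_pCoreOf ?_ ?_ hRYp
      · exact (ClassK.pCoreOf_le_sylow T hTY).trans le_sup_right
      · exact (sup_le_sup_right hLK _).trans hYn
    have hRT : R ≤ (T : Subgroup G) := ClassK.pCoreOf_le_sylow T le_sup_right
    have hRY' : R ≤ Y := hRT.trans hTY
    have hRp : IsPGroup 2 R := LocalEvenA.pCoreOf_isPGroup' 2 YL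
    have hYLn : YL ≤ Subgroup.normalizer (R : Set G) := LocalEvenA.le_normalizer_pCoreOf 2 YL
    have hRL : R ≤ Subgroup.normalizer (L : Set G) :=
      ClassK.le_normalizer_of_oddGenerated' le_sup_left (LocalEvenA.pCoreOf_le' 2 YL) hLsub hYLn
        hRp hLgen
    have hPLR : PL ≤ R := ClassK.pCoreOf_le_of_subnormal le_sup_left hLsub
    have hPKR : PK ≤ RY := ClassK.pCoreOf_le_of_subnormal le_sup_left hKsub
    have hRPL : R ≤ Subgroup.normalizer (PL : Set G) :=
      hRL.trans (LocalEvenA.pCoreOf_normalizer 2 L)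
    have hLR : L ⊓ R ≤ PL := by
      refine LocalEvenA.le_pCoreOf inf_le_left ?_ (hRp.to_le inf_le_right)
      intro g hg
      rw [Subgroup.mem_normalizer_iff]
      intro x
      simp only [Subgroup.mem_inf]
      exact and_congr (Subgroup.mem_normalizer_iff.mp (Subgroup.le_normalizer hg) x)
        (Subgroup.mem_normalizer_iff.mp (hYLn ((le_sup_left : L ≤ YL) hg)) x)
    have hodd : ∀ y ∈ L, Odd (orderOf y) → ∀ w ∈ ClassK.omegaCenterTwo PL, Commute y w := by
      intro y hy hyo w hw
      have hyo' : (orderOf y).Coprime 2 := Nat.coprime_two_right.mpr hyo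
      refine ClassK.axb_lemma (U := R) (P := ClassK.omegaCenterTwo PL) hRp
        ((LocalEvenA.pCoreOf_isPGroup' 2 L).to_le fun x hx => hx.1)
        (hRPL.trans (ClassK.normalizer_le_normalizer_omegaCenterTwo PL))
        (ClassK.normalizer_le_normalizer_omegaCenterTwo PL (LocalEvenA.le_normalizer_pCoreOf 2 L hy))
        hyo' ?_ ?_ w hw
      · intro u hu a ha
        have hc : y * u * y⁻¹ * u⁻¹ ∈ PL := by
          refine hLR ⟨?_, R.mul_mem ((Subgroup.mem_normalizer_iff.mp
            (hYLn ((le_sup_left : L ≤ YL) hy)) u).mp hu) (R.inv_mem hu)⟩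
          have h1 := (Subgroup.mem_normalizer_iff.mp (hRL hu) y⁻¹).mp (L.inv_mem hy)
          simpa [mul_assoc] using L.mul_mem hy h1
        exact (ha.2.1 _ hc).symm
      · intro a ha hau
        have haR : a ∈ R := hPLR ha.1
        have haY : a ∈ RY := hY ⟨hRY' haR, Subgroup.mem_centralizer_iff.mpr
          fun r hr => (hau r (hRYR hr)).eq⟩
        have hyY : y ∈ Y := (le_sup_left : K ≤ Y) (hLK hy)
        set b := a⁻¹ * (y * a * y⁻¹) with hb
        have hconj : y * a * y⁻¹ ∈ RY := (Subgroup.mem_normalizer_iff.mp (hYn hyY) a).mp haY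
        have hbR : b ∈ RY := RY.mul_mem (RY.inv_mem haY) hconj
        have hbK : b ∈ K := by
          have hKn : RY ≤ Subgroup.normalizer (K : Set G) :=
            ClassK.le_normalizer_of_oddGenerated' le_sup_left (LocalEvenA.pCoreOf_le' 2 Y) hKsub
              hYn hRYp hKgen
          have h1 := (Subgroup.mem_normalizer_iff.mp (hKn (RY.inv_mem haY)) y).mp (hLK hy)
          simpa [hb, mul_assoc] using K.mul_mem h1 (K.inv_mem (hLK hy))
        have hca : ∀ r ∈ RY, Commute (y * a * y⁻¹) r := by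
          intro r hr
          have hr' : y⁻¹ * r * y ∈ RY := by
            simpa using (Subgroup.mem_normalizer_iff.mp (inv_mem (hYn hyY)) r).mp hr
          have := (hau _ (hRYR hr')).symm.map (MulAut.conj y).toMonoidHom
          simpa [mul_assoc] using this
        have hbZ : b ∈ ClassK.omegaCenterTwo PK := by
          have hcomm : Commute a⁻¹ (y * a * y⁻¹) := (hau _ (hRYR hconj)).symm.inv_left
          have haa : a * a = 1 := ha.2.2
          refine ⟨LocalEvenA.le_pCoreOf (inf_le_left : K ⊓ RY ≤ K) ?_ (hRYp.to_le inf_le_right)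
            ⟨hbK, hbR⟩, fun r hr => ((hau r (hRYR (hPKR hr))).symm.inv_left).mul_left
              (hca r (hPKR hr)), ?_⟩
          · intro g hg
            rw [Subgroup.mem_normalizer_iff]
            intro x
            simp only [Subgroup.mem_inf]
            exact and_congr (Subgroup.mem_normalizer_iff.mp (Subgroup.le_normalizer hg) x)
              (Subgroup.mem_normalizer_iff.mp (hYn ((le_sup_left : K ≤ Y) hg)) x)
          · calc b * b = (a⁻¹ * a⁻¹) * ((y * a * y⁻¹) * (y * a * y⁻¹)) := by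
                  rw [hb]; exact hcomm.symm.mul_mul_mul_comm _ _
              _ = (a * a)⁻¹ * (y * (a * a) * y⁻¹) := by group
              _ = 1 := by rw [haa]; group
        refine LocalEvenA.comm_of_coprime_chain hyo' ?_ (hVK' y (hLK hy) b hbZ)
        obtain ⟨k, hk⟩ := hRYp ⟨b, hbR⟩
        exact ⟨k, congrArg Subtype.val hk⟩
    apply hLV
    refine Subgroup.commutator_eq_bot_iff_le_centralizer.mpr ?_
    intro w hw
    have hw' : w ∈ ClassK.omegaCenterTwo PL := ClassK.omegaOne_center_eq PL ▸ hw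
    rw [Subgroup.mem_centralizer_iff]
    intro l hl
    have hle : L ≤ Subgroup.centralizer ({w} : Set G) := by
      conv_lhs => rw [← hLgen]
      refine (Subgroup.closure_le _).mpr fun y hy => ?_
      exact Subgroup.mem_centralizer_singleton_iff.mpr (hodd y hy.1 hy.2 w hw').eq
    exact Subgroup.mem_centralizer_singleton_iff.mp (hle hl)
  refine ⟨part1, fun hmax => ⟨⟨hL.1, fun K hK hLK => ?_⟩, hL.2⟩⟩
  exact hmax K (part1 K hK hLK) hLK

end Cfsg.Agent.S1851
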