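import Cfsg.Statements.S1892
import Cfsg.Agent.Lib.Transfer.Constrained
import Cfsg.Agent.Lib.Transfer.SL2Props

set_option autoImplicit false
open Cfsg
open scoped commutatorElement

namespace Cfsg.Agent.S1892

/-- Let S be a finite p-solvable group with no nontrivial normal subgroup of order prime to p, A a p-subgroup of S, and Q a nontrivial A-invariant subgroup of order prime to p with [A, Q] = Q. Then the commutator [O_p(S), A, Q] is nontrivial. -/
theorem result {S : Type*} [Group S] [Finite S] {p : ℕ} [Fact p.Prime]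
    (hS : Cfsg.IsPSolvable p S) (hred : Cfsg.pPrimeCore p S = ⊥)
    (A Q : Subgroup S) (hA : IsPGroup p A) (hQ : ¬ p ∣ Nat.card Q) (hQ1 : Q ≠ ⊥)
    (hinv : ∀ a ∈ A, ∀ x ∈ Q, a * x * a⁻¹ ∈ Q) (hAQ : ⁅A, Q⁆ = Q) :
    ⁅⁅Cfsg.pCore p S, A⁆, Q⁆ ≠ ⊥ := by
  haveI := LocalEvenA.pCore_normal' p S
  have hP := LocalEvenA.pCore_isPGroup' p S
  set P := Cfsg.pCore p S
  intro hbot
  have hc : ∀ u ∈ ⁅P, A⁆, ∀ y ∈ Q, y * u = u * y := by
    intro u hu y hy
    have : ⁅u, y⁆ = 1 := Subgroup.mem_bot.1 (hbot ▸ Subgroup.commutator_mem_commutator hu hy)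
    exact (commutatorElement_eq_one_iff_mul_comm.1 this).symm
  have hnorm : ∀ g ∈ Subgroup.normalizer (Q : Set S), ∀ u : S,
      (∀ y ∈ Q, y * u = u * y) → ∀ y ∈ Q, y * (g * u * g⁻¹) = g * u * g⁻¹ * y := by
    intro g hg u hu y hy
    have h1 := hu _ ((Subgroup.mem_normalizer_iff''.1 hg y).1 hy)
    calc y * (g * u * g⁻¹) = g * ((g⁻¹ * y * g) * u) * g⁻¹ := by group
      _ = g * (u * (g⁻¹ * y * g)) * g⁻¹ := by rw [h1]
      _ = g * u * g⁻¹ * y := by group
  let D : Subgroup S :=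
    { carrier := {g | g ∈ Subgroup.normalizer (Q : Set S) ∧ ∀ x ∈ P, ∀ y ∈ Q, y * ⁅x, g⁆ = ⁅x, g⁆ * y}
      one_mem' := ⟨one_mem _, fun x _ y _ => by rw [commutatorElement_one_right, mul_one, one_mul]⟩
      mul_mem' := by
        rintro g h ⟨hg, hg'⟩ ⟨hh, hh'⟩
        refine ⟨mul_mem hg hh, fun x hx y hy => ?_⟩
        have e : ⁅x, g * h⁆ = ⁅x, g⁆ * (g * ⁅x, h⁆ * g⁻¹) := by
          simp only [commutatorElement_def]; group
        rw [e, ← mul_assoc, hg' x hx y hy, mul_assoc,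
          hnorm g hg _ (hh' x hx) y hy, ← mul_assoc]
      inv_mem' := by
        rintro g ⟨hg, hg'⟩
        refine ⟨inv_mem hg, fun x hx y hy => ?_⟩
        have hu : ∀ y ∈ Q, y * ⁅x, g⁆⁻¹ = ⁅x, g⁆⁻¹ * y := fun y hy =>
          (show Commute y ⁅x, g⁆ from hg' x hx y hy).inv_right
        have e : ⁅x, g⁻¹⁆ = g⁻¹ * ⁅x, g⁆⁻¹ * g⁻¹⁻¹ := by
          simp only [commutatorElement_def]; group
        rw [e]
        exact hnorm g⁻¹ (inv_mem hg) _ hu y hy }
  have hAN : A ≤ Subgroup.normalizer (Q : Set S) := by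
    intro a ha
    refine Subgroup.mem_normalizer_iff.2 fun x => ⟨hinv a ha x, fun hx => ?_⟩
    simpa [mul_assoc] using hinv a⁻¹ (inv_mem ha) _ hx
  have hAD : ∀ a ∈ A, a ∈ D := fun a ha => ⟨hAN ha, fun x hx y hy =>
    hc _ (Subgroup.commutator_mem_commutator hx ha) y hy⟩
  have hQD : ∀ q ∈ Q, ∀ a ∈ A, q * a * q⁻¹ ∈ D := by
    intro q hq a ha
    have hqN : q ∈ Subgroup.normalizer (Q : Set S) := Subgroup.le_normalizer hq
    refine ⟨mul_mem (mul_mem hqN (hAN ha)) (inv_mem hqN), fun x hx => ?_⟩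
    have e : ⁅x, q * a * q⁻¹⁆ = q * ⁅q⁻¹ * x * q, a⁆ * q⁻¹ := by
      simp only [commutatorElement_def]; group
    rw [e]
    refine hnorm q hqN _ (hc _ (Subgroup.commutator_mem_commutator ?_ ha))
    simpa using ‹P.Normal›.conj_mem x hx q⁻¹
  have hle : Q ≤ D := by
    refine hAQ.symm.le.trans (Subgroup.commutator_le.2 fun a ha q hq => ?_)
    have e : ⁅a, q⁆ = a * (q * a⁻¹ * q⁻¹) := by
      simp only [commutatorElement_def]; group
    rw [e]
    exact mul_mem (hAD a ha) (hQD q hq a⁻¹ (inv_mem ha))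
  have hQC : Q ≤ Subgroup.centralizer (P : Set S) := by
    intro y hy
    refine Subgroup.mem_centralizer_iff.2 fun x hx => ?_
    set z := ⁅y, x⁆ with hz
    have hzc : Commute y z := by
      rw [hz, ← commutatorElement_inv]
      exact (show Commute y ⁅x, y⁆ from (hle hy).2 x hx y hy).inv_right
    have hzP : z ∈ P := mul_mem (‹P.Normal›.conj_mem x hx y) (inv_mem hx)
    have hpow : ∀ n : ℕ, y ^ n * x * (y ^ n)⁻¹ = z ^ n * x := by
      intro n
      induction n with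
      | zero => simp
      | succ n ih =>
        calc y ^ (n + 1) * x * (y ^ (n + 1))⁻¹ = y * (y ^ n * x * (y ^ n)⁻¹) * y⁻¹ := by
              rw [pow_succ']; group
          _ = y * z ^ n * x * y⁻¹ := by rw [ih]; group
          _ = z ^ n * y * x * y⁻¹ := by rw [(hzc.pow_right n).eq]
          _ = z ^ n * (y * x * y⁻¹ * x⁻¹) * x := by group
          _ = z ^ (n + 1) * x := by rw [← commutatorElement_def, ← hz, pow_succ]
    have h1 := hpow (orderOf y)
    rw [pow_orderOf_eq_one, one_mul, inv_one, mul_one, eq_comm, mul_eq_right] at h1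
    obtain ⟨k, hk⟩ := hP ⟨z, hzP⟩
    have hd1 : orderOf z ∣ p ^ k := orderOf_dvd_of_pow_eq_one (congrArg Subtype.val hk)
    have hd2 : orderOf z ∣ orderOf y := orderOf_dvd_of_pow_eq_one h1
    have hd3 : orderOf y ∣ Nat.card Q := by
      have := orderOf_dvd_natCard (⟨y, hy⟩ : ↥Q)
      rwa [Subgroup.orderOf_mk] at this
    have hcop : (p ^ k).Coprime (Nat.card Q) :=
      ((Fact.out : p.Prime).coprime_iff_not_dvd.2 hQ).pow_left k
    have : z = 1 := orderOf_eq_one_iff.1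
      (Nat.eq_one_of_dvd_coprimes hcop hd1 (hd2.trans hd3))
    rw [hz, commutatorElement_eq_one_iff_mul_comm] at this
    exact this.symm
  have hCP : Subgroup.centralizer (P : Set S) ≤ P :=
    Transfer.centralizer_pCore_le_of_pSolvable hred
      (Transfer.isPSolvable_subgroup' hS _)
  apply hQ1
  refine (Subgroup.eq_bot_iff_forall _).2 fun y hy => ?_
  obtain ⟨k, hk⟩ := hP ⟨y, hCP (hQC hy)⟩
  have hd3 : orderOf y ∣ Nat.card Q := by
    have := orderOf_dvd_natCard (⟨y, hy⟩ : ↥Q)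
    rwa [Subgroup.orderOf_mk] at this
  exact orderOf_eq_one_iff.1 (Nat.eq_one_of_dvd_coprimes
    (((Fact.out : p.Prime).coprime_iff_not_dvd.2 hQ).pow_left k)
    (orderOf_dvd_of_pow_eq_one (congrArg Subtype.val hk)) hd3)

end Cfsg.Agent.S1892
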