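import Cfsg.Statements.S1894
import Mathlib
import Cfsg.Agent.Lib.LocalEvenB.Basic

set_option autoImplicit false
open Cfsg

namespace Cfsg.Agent.S1894

/-- Let P be a finite p-group, A a normal subgroup of P and B an abelian subgroup of A that is normal in P. Then some subgroup C of A containing B is normal in P and is self-centralizing and normal in A (C ∈ SCN(A)). -/
theorem result {P : Type*} [Group P] [Finite P] {p : ℕ} [Fact p.Prime] (hP : IsPGroup p P)
    (A : Subgroup P) [A.Normal] (B : Subgroup P) [B.Normal] (hBA : B ≤ A) (hB : IsMulCommutative B) :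
    ∃ C : Subgroup P, C.Normal ∧ B ≤ C ∧ Cfsg.IsSCN A C := by
  classical
  obtain ⟨C, ⟨hCn, hBC, hCA, hCab⟩, hmax⟩ := Set.Finite.exists_maximal
    (Set.toFinite {C : Subgroup P | C.Normal ∧ B ≤ C ∧ C ≤ A ∧ IsMulCommutative C})
    ⟨B, inferInstance, le_rfl, hBA, hB⟩
  haveI := hCn
  haveI := hCab
  refine ⟨C, hCn, hBC, hCA, by rw [Subgroup.normalizer_eq_top]; exact le_top, ?_⟩
  set D := A ⊓ Subgroup.centralizer (C : Set P) with hD
  have hCD : C ≤ D := le_inf hCA fun x hx y hy =>
    congrArg Subtype.val (mul_comm' (⟨y, hy⟩ : C) ⟨x, hx⟩)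
  refine le_antisymm ?_ hCD
  by_contra hDC
  haveI : (Subgroup.centralizer (C : Set P)).Normal := inferInstance
  set f := QuotientGroup.mk' C
  haveI hDn : (D.map f).Normal := Subgroup.Normal.map inferInstance f (QuotientGroup.mk'_surjective C)
  have hne : D.map f ≠ ⊥ := by
    rw [Ne, Subgroup.map_eq_bot_iff, QuotientGroup.ker_mk']
    exact hDC
  haveI : Nontrivial (D.map f) := (Subgroup.nontrivial_iff_ne_bot _).mpr hne
  have hQp : IsPGroup p (P ⧸ C) := hP.to_quotient C
  haveI := hQp.isNilpotent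
  obtain ⟨z, hzD, hzc', hz1⟩ := Cfsg.Agent.LocalEvenB.exists_mem_center_ne_one (D.map f) hne
  have hz : z ∈ D.map f ⊓ Subgroup.center (P ⧸ C) := ⟨hzD, hzc'⟩
  obtain ⟨⟨x, hx, rfl⟩, hzc⟩ := hz
  have hxC : x ∉ C := fun h => hz1 ((QuotientGroup.eq_one_iff x).mpr h)
  have hE : IsMulCommutative (C ⊔ Subgroup.zpowers x : Subgroup P) := by
    rw [Subgroup.le_centralizer_iff_isMulCommutative.symm]
    have h1 : C ≤ Subgroup.centralizer ((C ⊔ Subgroup.zpowers x : Subgroup P) : Set P) := by
      rw [Subgroup.le_centralizer_iff]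
      exact sup_le (fun a ha => (hCD ha).2) (Subgroup.zpowers_le.mpr hx.2)
    refine sup_le h1 (Subgroup.zpowers_le.mpr ?_)
    rw [← Subgroup.zpowers_le (H := Subgroup.centralizer _), Subgroup.le_centralizer_iff]
    exact sup_le (Subgroup.le_centralizer_iff.mp (Subgroup.zpowers_le.mpr hx.2))
      (Subgroup.zpowers_le.mpr fun a ha => by
        obtain ⟨k, rfl⟩ := Subgroup.mem_zpowers_iff.mp ha
        exact ((Commute.refl x).zpow_left k).eq)
  have hEn : (C ⊔ Subgroup.zpowers x).Normal := by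
    have hfx : (Subgroup.zpowers (f x)).Normal := ⟨fun y hy g => by
      obtain ⟨k, rfl⟩ := Subgroup.mem_zpowers_iff.mp hy
      have hk := (Subgroup.center (P ⧸ C)).zpow_mem hzc k
      rw [Subgroup.mem_center_iff.mp hk g, mul_inv_cancel_right]
      exact Subgroup.zpow_mem_zpowers _ _⟩
    have := hfx.comap f
    rwa [← MonoidHom.map_zpowers, Subgroup.comap_map_eq, QuotientGroup.ker_mk', sup_comm] at this
  exact hxC (hmax (y := C ⊔ Subgroup.zpowers x) ⟨hEn, hBC.trans le_sup_left,
    sup_le hCA (Subgroup.zpowers_le.mpr hx.1), hE⟩ le_sup_left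
    (Subgroup.mem_sup_right (Subgroup.mem_zpowers x)))

end Cfsg.Agent.S1894
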