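import Cfsg.Statements.S1896
import Cfsg.Agent.Lib.Tech.MetacyclicTwo

set_option autoImplicit false
open Cfsg
open Cfsg.Agent
open scoped commutatorElement

namespace Cfsg.Agent.S1896

/-- A finite metacyclic 2-group whose automorphism group is not a 2-group is isomorphic to the quaternion group of order 8 or to a homocyclic abelian group Z_{2^n} × Z_{2^n}. -/
theorem result {X : Type*} [Group X] [Finite X] (hX : IsPGroup 2 X)
    (hm : Cfsg.IsMetacyclic X) (hA : ¬ IsPGroup 2 (MulAut X)) :
    Nonempty (X ≃* QuaternionGroup 2) ∨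
      ∃ n : ℕ, Nonempty (X ≃* Multiplicative (ZMod (2 ^ n)) × Multiplicative (ZMod (2 ^ n))) := by
  haveI : Fact (Nat.Prime 2) := ⟨Nat.prime_two⟩
  obtain ⟨N, hN, hNc, hQc⟩ := hm
  obtain ⟨α, hαodd, hα1⟩ : ∃ α : MulAut X, Odd (orderOf α) ∧ α ≠ 1 := by
    by_contra hcon
    push Not at hcon
    refine hA fun φ => ?_
    obtain ⟨k, o, ho, hko⟩ := Nat.exists_eq_two_pow_mul_odd (orderOf_pos φ).ne'
    refine ⟨k, hcon (φ ^ 2 ^ k) ?_⟩
    rw [orderOf_pow' _ (by positivity), hko, Nat.gcd_mul_right_left, Nat.mul_div_cancel_left _ (by positivity)]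
    exact ho
  have hcomm : commutator X ≤ N := by
    haveI := hQc
    letI : CommGroup (X ⧸ N) := IsCyclic.commGroup
    refine Subgroup.Normal.quotient_commutative_iff_commutator_le.mp ?_
    exact ⟨⟨mul_comm⟩⟩
  -- the automorphism fixes the commutator subgroup
  have hfixC : ∀ c ∈ commutator X, α c = c := by
    intro c hc
    haveI := hNc
    haveI : IsCyclic ↥(commutator X) := Subgroup.isCyclic_of_le hcomm
    have hinv : ∀ u ∈ commutator X, α u ∈ commutator X := fun u hu =>
      Subgroup.characteristic_iff_map_le.mp inferInstance α ⟨u, hu, rfl⟩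
    have hn : ∀ (n : ℕ) (u : commutator X),
        (((Coprime23.restrictAut α _ hinv) ^ n) u : X) = (α ^ n) u := by
      intro n
      induction n with
      | zero => intro u; rfl
      | succ n ih =>
        intro u
        rw [pow_succ', pow_succ', MulAut.mul_apply, MulAut.mul_apply,
          Coprime23.restrictAut_apply, ih]
    have hodd : Odd (orderOf (Coprime23.restrictAut α _ hinv)) := hαodd.of_dvd_nat
      (orderOf_dvd_of_pow_eq_one (MulEquiv.ext fun u => Subtype.ext
        (by rw [hn, pow_orderOf_eq_one]; rfl)))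
    exact (Coprime23.restrictAut_apply α _ hinv ⟨c, hc⟩).symm.trans
      (congrArg Subtype.val (Tech.fix_cyclic_two (hX.to_subgroup _) _ hodd ⟨c, hc⟩))
  -- the abelianization
  let q : X →* Abelianization X := Abelianization.of
  have hq : Function.Surjective q := QuotientGroup.mk_surjective
  have hqk : ∀ x, q x = 1 ↔ x ∈ commutator X := QuotientGroup.eq_one_iff
  haveI hYf : Finite (Abelianization X) := Finite.of_surjective q hq
  have hY : IsPGroup 2 (Abelianization X) := hX.of_surjective q hq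
  let Φ : MulAut X →* MulAut (Abelianization X) :=
    MonoidHom.mk' (fun φ => MulEquiv.abelianizationCongr φ) fun a b => MulEquiv.ext fun y => by
      obtain ⟨x, rfl⟩ := hq y
      rfl
  have hΦ : ∀ (φ : MulAut X) (x : X), Φ φ (q x) = q (φ x) := fun _ _ => rfl
  have hβ1 : Φ α ≠ 1 := fun h => hα1 (MulEquiv.ext fun x => by
    have h1 : x⁻¹ * α x ∈ commutator X := by
      rw [← hqk, map_mul, map_inv, ← hΦ, h, MulAut.one_apply, inv_mul_cancel]
    exact Coprime23.eq_of_commutator_fixed hX α (Nat.coprime_two_right.mpr hαodd) (hfixC _ h1))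
  haveI : IsCyclic ↥(N.map q) := by
    haveI := hNc
    exact isCyclic_of_surjective (q.subgroupMap N) (q.subgroupMap_surjective N)
  haveI : IsCyclic (Abelianization X ⧸ N.map q) := by
    haveI := hQc
    refine isCyclic_of_surjective
      (QuotientGroup.map N (N.map q) q (Subgroup.le_comap_map _ _)) ?_
    intro y
    obtain ⟨w, rfl⟩ := QuotientGroup.mk'_surjective _ y
    obtain ⟨x, rfl⟩ := hq w
    exact ⟨(x : X ⧸ N), rfl⟩
  obtain ⟨n, u, hn1, hNu, hou, hcard, hexp, hdisj, hfix, hcube⟩ :=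
    Tech.homocyclic_of_aut hY (N.map q) (Φ α) (hαodd.of_dvd_nat (orderOf_map_dvd Φ α)) hβ1
  by_cases hab : IsMulCommutative X
  · right
    refine ⟨n, ?_⟩
    letI : CommGroup X := { (inferInstance : Group X) with mul_comm := mul_comm' }
    have hbij : Function.Bijective q := ⟨(injective_iff_map_eq_one q).mpr fun x hx => by
      rw [hqk, (commutator_eq_bot_iff X).mpr hab, Subgroup.mem_bot] at hx
      exact hx, hq⟩
    let e1 := MulEquiv.ofBijective q hbij
    haveI : IsCyclic ↥(Subgroup.zpowers u) := Subgroup.isCyclic_zpowers u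
    haveI : IsCyclic ↥(Subgroup.zpowers (Φ α u)) := Subgroup.isCyclic_zpowers _
    let f : ↥(Subgroup.zpowers u) × ↥(Subgroup.zpowers (Φ α u)) →* Abelianization X :=
      (Subgroup.zpowers u).subtype.coprod (Subgroup.zpowers (Φ α u)).subtype
    have hf : Function.Bijective f := by
      refine (Nat.bijective_iff_injective_and_card _).mpr ⟨?_, ?_⟩
      · exact Subgroup.mul_injective_of_disjoint (disjoint_iff.mpr hdisj)
      · rw [Nat.card_prod, Nat.card_zpowers, Nat.card_zpowers, MulEquiv.orderOf_eq, hou, hcard]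
    have c1 : Nat.card ↥(Subgroup.zpowers u) = 2 ^ n := by rw [Nat.card_zpowers, hou]
    have c2 : Nat.card ↥(Subgroup.zpowers (Φ α u)) = 2 ^ n := by
      rw [Nat.card_zpowers, MulEquiv.orderOf_eq, hou]
    exact ⟨(e1.trans (MulEquiv.ofBijective f hf).symm).trans
      ((zmodCyclicMulEquiv ‹IsCyclic ↥(Subgroup.zpowers u)›).symm.trans
          (AddEquiv.toMultiplicative (ZMod.ringEquivCongr c1).toAddEquiv) |>.prodCongr
        ((zmodCyclicMulEquiv ‹IsCyclic ↥(Subgroup.zpowers (Φ α u))›).symm.trans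
          (AddEquiv.toMultiplicative (ZMod.ringEquivCongr c2).toAddEquiv)))⟩
  · left
    refine Invol.MaxClassTwo.quaternion_of_aut hX hab ?_ hA
    have hidx : (commutator X).index = Nat.card (Abelianization X) := rfl
    rw [hidx, hcard]
    suffices hn : n = 1 by rw [hn]; norm_num
    -- the commutator subgroup is central
    have hcen : ∀ c ∈ commutator X, ∀ g : X, g * c = c * g := by
      intro c hc g
      let C : Subgroup X := Subgroup.centralizer ((commutator X : Subgroup X) : Set X)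
      suffices hC : g ∈ C from (Subgroup.mem_centralizer_iff.mp hC c hc).symm
      have h0 : commutator X ≤ C := fun a ha => Subgroup.mem_centralizer_iff.mpr fun b hb => by
        haveI := hNc
        haveI : IsCyclic ↥(commutator X) := Subgroup.isCyclic_of_le hcomm
        letI : CommGroup ↥(commutator X) := IsCyclic.commGroup
        exact congrArg Subtype.val (mul_comm (⟨b, hb⟩ : commutator X) ⟨a, ha⟩)
      have h1 : ∀ x : X, x⁻¹ * α x ∈ C := by
        intro x
        refine Subgroup.mem_centralizer_iff.mpr fun b hb => ?_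
        have h2 : x * b * x⁻¹ ∈ commutator X := (inferInstance : (commutator X).Normal).conj_mem b hb x
        have h3 : α x * b * (α x)⁻¹ = x * b * x⁻¹ := by
          have := hfixC _ h2
          rwa [map_mul, map_mul, map_inv, hfixC b hb] at this
        calc b * (x⁻¹ * α x) = x⁻¹ * (x * b * x⁻¹) * α x := by group
          _ = x⁻¹ * (α x * b * (α x)⁻¹) * α x := by rw [h3]
          _ = x⁻¹ * α x * b := by group
      have hinj : Function.Injective (fun y : Abelianization X => y⁻¹ * Φ α y) := by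
        intro a b h
        have h' : a⁻¹ * Φ α a = b⁻¹ * Φ α b := h
        have h2 : Φ α (a * b⁻¹) = a * b⁻¹ := by
          rw [map_mul, map_inv, ← mul_inv_eq_one]
          rw [mul_inv_eq_one, show Φ α a = a * (b⁻¹ * Φ α b) by rw [← h', mul_inv_cancel_left],
            mul_assoc, mul_assoc, mul_inv_cancel, mul_one]
        exact mul_inv_eq_one.mp (hfix _ h2)
      obtain ⟨y, hy⟩ := Finite.injective_iff_surjective.mp hinj (q g)
      obtain ⟨x, rfl⟩ := hq y
      have h4 : (x⁻¹ * α x)⁻¹ * g ∈ commutator X := by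
        rw [← hqk, map_mul, map_inv, map_mul, map_inv, ← hΦ]
        exact inv_mul_eq_one.mpr hy
      have := C.mul_mem (h1 x) (h0 h4)
      rwa [mul_inv_cancel_left] at this
    -- a generator of `N`
    haveI := hNc
    obtain ⟨u₀, hu₀⟩ := IsCyclic.exists_generator (α := N)
    have hgen : ∀ c ∈ N, ∃ i : ℤ, (u₀ : X) ^ i = c := fun c hc => by
      obtain ⟨i, hi⟩ := Subgroup.mem_zpowers_iff.mp (hu₀ ⟨c, hc⟩)
      exact ⟨i, by rw [← SubgroupClass.coe_zpow, hi]⟩
    obtain ⟨a, ha⟩ : ∃ a : X, a = u₀ := ⟨_, rfl⟩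
    rw [← ha] at hgen
    have hqa : Subgroup.zpowers (q a) = N.map q := by
      refine le_antisymm (Subgroup.zpowers_le.mpr ⟨a, ha ▸ u₀.2, rfl⟩) ?_
      rintro _ ⟨c, hc, rfl⟩
      obtain ⟨i, rfl⟩ := hgen c hc
      rw [map_zpow]
      exact Subgroup.mem_zpowers_iff.mpr ⟨i, rfl⟩
    have hoa : orderOf (q a) = 2 ^ n := by
      rw [← Nat.card_zpowers, hqa, hNu, Nat.card_zpowers, hou]
    obtain ⟨b, hb⟩ : ∃ b : X, b = α a := ⟨_, rfl⟩
    set c₀ := a ^ 2 ^ n with hc₀
    have hc₀C : c₀ ∈ commutator X := by rw [← hqk, map_pow, hexp]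
    have hbpow : b ^ 2 ^ n = c₀ := by rw [hb, ← map_pow, hfixC _ hc₀C]
    have hdpow : (α b) ^ 2 ^ n = c₀ := by rw [← map_pow, hbpow, hfixC _ hc₀C]
    set w := ⁅b, a⁆ with hw
    have hwC : w ∈ commutator X :=
      Subgroup.commutator_mem_commutator (Subgroup.mem_top b) (Subgroup.mem_top a)
    have hba : b * a = a * b * w := by
      calc b * a = ⁅b, a⁆ * (a * b) := by rw [commutatorElement_def]; group
        _ = a * b * w := (hcen w hwC (a * b)).symm
    have hwb : Commute w b := (hcen _ hwC b).symm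
    have hwa : Commute w a := (hcen _ hwC a).symm
    -- `a` and `b` generate
    have htop : ∀ x : X, ∃ i j : ℤ, ∃ c ∈ commutator X, x = a ^ i * b ^ j * c := by
      intro x
      have hnu : Subgroup.zpowers (q a) ⊓ Subgroup.zpowers (q b) = ⊥ := by
        have h1 : Subgroup.zpowers (q b) = (Subgroup.zpowers (q a)).map (Φ α).toMonoidHom := by
          rw [MonoidHom.map_zpowers, hb, ← hΦ]; rfl
        have h2 : Subgroup.zpowers (Φ α u) = (Subgroup.zpowers u).map (Φ α).toMonoidHom := by
          rw [MonoidHom.map_zpowers]; rfl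
        rw [h1, hqa, hNu, ← h2]
        exact hdisj
      have hbij : Function.Bijective (fun t : Subgroup.zpowers (q a) × Subgroup.zpowers (q b) =>
          (t.1 : Abelianization X) * (t.2 : Abelianization X)) := by
        refine (Nat.bijective_iff_injective_and_card _).mpr
          ⟨Subgroup.mul_injective_of_disjoint (disjoint_iff.mpr hnu), ?_⟩
        rw [Nat.card_prod, Nat.card_zpowers, Nat.card_zpowers, hcard, hb, ← hΦ, MulEquiv.orderOf_eq, hoa]
      obtain ⟨⟨⟨s, hs⟩, ⟨t, ht⟩⟩, hst⟩ := hbij.2 (q x)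
      obtain ⟨i, rfl⟩ := Subgroup.mem_zpowers_iff.mp hs
      obtain ⟨j, rfl⟩ := Subgroup.mem_zpowers_iff.mp ht
      refine ⟨i, j, (a ^ i * b ^ j)⁻¹ * x, ?_, by rw [mul_inv_cancel_left]⟩
      rw [← hqk, map_mul, map_inv, map_mul, map_zpow, map_zpow]
      exact inv_mul_eq_one.mpr hst
    have hgw : commutator X ≤ Subgroup.zpowers w := by
      haveI : (Subgroup.zpowers w).Normal := ⟨fun v hv g => by
        obtain ⟨i, rfl⟩ := Subgroup.mem_zpowers_iff.mp hv
        rw [hcen _ (zpow_mem hwC i) g, mul_inv_cancel_right]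
        exact Subgroup.mem_zpowers_iff.mpr ⟨i, rfl⟩⟩
      let r := QuotientGroup.mk' (Subgroup.zpowers w)
      have hab' : Commute (r a) (r b) := by
        refine (?_ : r b * r a = r a * r b).symm
        rw [← map_mul, hba, map_mul _ (a * b) w, show r w = 1 from
          (QuotientGroup.eq_one_iff w).mpr (Subgroup.mem_zpowers w), mul_one, map_mul]
      rw [commutator_def, Subgroup.commutator_le]
      intro x _ y _
      rw [← QuotientGroup.eq_one_iff]
      show r ⁅x, y⁆ = 1
      rw [map_commutatorElement, commutatorElement_eq_one_iff_mul_comm]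
      obtain ⟨i, j, c, hc, rfl⟩ := htop x
      obtain ⟨k, l, d, hd, rfl⟩ := htop y
      have hcr : ∀ e ∈ commutator X, ∀ z, Commute (r e) z := fun e he z => by
        obtain ⟨z, rfl⟩ := QuotientGroup.mk'_surjective _ z
        rw [commute_iff_eq, ← map_mul, ← map_mul, hcen e he z]
      have ha' : ∀ (i : ℤ) (z : X ⧸ Subgroup.zpowers w), Commute (r a) z → Commute (r a ^ i) z :=
        fun i z h => h.zpow_left i
      have h1 : ∀ (i j k l : ℤ), Commute (r a ^ i * r b ^ j) (r a ^ k * r b ^ l) := fun i j k l =>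
        ((((Commute.refl (r a)).zpow_zpow i k).mul_right (hab'.zpow_zpow i l))).mul_left
          (((hab'.symm.zpow_zpow j k).mul_right ((Commute.refl (r b)).zpow_zpow j l)))
      simp only [map_mul, map_zpow]
      exact (((h1 i j k l).mul_right (hcr d hd _).symm).mul_left (hcr c hc _)).eq
    -- the key relation
    have hcC : a * b * α b ∈ commutator X := by
      rw [← hqk, map_mul, map_mul, hb, ← hΦ, ← hΦ, ← hΦ]
      apply hfix
      rw [map_mul, map_mul, hcube]
      ac_rfl
    have hw2 : w ^ 2 ^ n = 1 := by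
      have h1 := Coprime23.pow_mul_eq_of_central hba hwb hwa (2 ^ n)
      rw [hbpow] at h1
      rw [← hcen _ hc₀C a] at h1
      exact left_eq_mul.mp h1
    have hz : (a * b * α b) ^ 2 ^ n = 1 := by
      obtain ⟨i, hi⟩ := Subgroup.mem_zpowers_iff.mp (hgw hcC)
      rw [← hi, ← zpow_natCast, ← zpow_mul, mul_comm, zpow_mul, zpow_natCast, hw2, one_zpow]
    have hrel : c₀ ^ 2 * w ^ (2 ^ n * (2 ^ n - 1) / 2) * c₀ = 1 := by
      rw [pow_two]
      conv_lhs => rw [show c₀ * c₀ = a ^ 2 ^ n * b ^ 2 ^ n by rw [hbpow],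
        ← Coprime23.mul_pow_of_central hba hwb hwa (2 ^ n), ← hdpow]
      have hcm : Commute (a * b) (α b) := by
        have h := hcen _ hcC (a * b)
        rw [commute_iff_eq]
        calc a * b * α b = (a * b)⁻¹ * (a * b * (a * b * α b)) := by group
          _ = (a * b)⁻¹ * ((a * b * α b) * (a * b)) := by rw [h]
          _ = α b * (a * b) := by group
      rw [← hcm.mul_pow, hz]
    -- conclude
    by_contra hne
    have hn2 : 2 ≤ n := by omega
    obtain ⟨i, hi⟩ := hgen w (hcomm hwC)
    obtain ⟨k, hk⟩ : ((2 : ℤ) ^ n) ∣ i := by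
      have h1 : q a ^ i = 1 := by rw [← map_zpow, hi]; exact (hqk w).mpr hwC
      rw [← orderOf_dvd_iff_zpow_eq_one, hoa] at h1
      exact_mod_cast h1
    obtain ⟨e, he⟩ := hX a
    have hwc : w = c₀ ^ k := by
      rw [← hi, hk, hc₀, zpow_mul, ← zpow_natCast]
      norm_num
    have hw' : w ^ (2 ^ n * (2 ^ n - 1) / 2) = c₀ ^ (k * (2 * (2 ^ (n - 2) * (2 ^ n - 1) : ℕ) : ℕ)) := by
      have he2 : 2 ^ n * (2 ^ n - 1) / 2 = 2 * (2 ^ (n - 2) * (2 ^ n - 1)) := by
        obtain ⟨m, rfl⟩ : ∃ m, n = m + 2 := ⟨n - 2, by omega⟩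
        rw [Nat.add_sub_cancel]
        generalize 2 ^ (m + 2) - 1 = B
        rw [pow_add, show 2 ^ m * 2 ^ 2 * B = 2 * (2 * (2 ^ m * B)) by ring,
          Nat.mul_div_cancel_left _ two_pos]
      rw [he2, hwc, ← zpow_natCast, ← zpow_mul]
    have hodd : c₀ ^ (3 + k * (2 * (2 ^ (n - 2) * (2 ^ n - 1) : ℕ) : ℕ) : ℤ) = 1 := by
      rw [← hrel, hw', ← zpow_natCast c₀ 2, ← zpow_add, ← zpow_add_one]
      congr 1
      push_cast
      ring
    have hc1 : c₀ = 1 := by
      obtain ⟨m, hm⟩ := (IsPGroup.iff_orderOf.mp hX) c₀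
      rw [← orderOf_dvd_iff_zpow_eq_one, hm] at hodd
      rcases m.eq_zero_or_pos with rfl | hm0
      · exact orderOf_eq_one_iff.mp (by simpa using hm)
      · exfalso
        have h2 : ((2 : ℕ) : ℤ) ∣ ((2 ^ m : ℕ) : ℤ) :=
          Int.natCast_dvd_natCast.mpr (dvd_pow_self 2 hm0.ne')
        have h3 := h2.trans hodd
        push_cast at h3
        have h4 : (2 : ℤ) ∣ k * (2 * (2 ^ (n - 2) * (((2 : ℕ) ^ n - 1 : ℕ) : ℤ))) :=
          ⟨k * (2 ^ (n - 2) * (((2 : ℕ) ^ n - 1 : ℕ) : ℤ)), by ring⟩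
        omega
    refine hab ⟨⟨fun x y => ?_⟩⟩
    have hw1 : w = 1 := by rw [hwc, hc1, one_zpow]
    have := hgw (Subgroup.commutator_mem_commutator (Subgroup.mem_top x) (Subgroup.mem_top y))
    rw [hw1, Subgroup.zpowers_one_eq_bot, Subgroup.mem_bot] at this
    exact commutatorElement_eq_one_iff_mul_comm.mp this

end Cfsg.Agent.S1896
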