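import Cfsg.Statements.S1897
import Cfsg.Agent.Lib.Tech.U3L27
import Cfsg.Agent.Lib.SmallSimple.RecognizeEven
-- import your own Cfsg.Agent.* helpers here

set_option autoImplicit false
open Cfsg

namespace Cfsg.Agent.S1897

/-- The projective special unitary group PSU₃(3) (realised over the field with 9 elements) has a subgroup isomorphic to PSL₂(7). -/
theorem result {F : Type*} [Field F] [Fintype F] (hF : Fintype.card F = 9)
    {K : Type*} [Field K] [Fintype K] (hK : Fintype.card K = 7) :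
    ∃ H : Subgroup (Cfsg.PSU 3 F 3), Nonempty (H ≃* Matrix.ProjectiveSpecialLinearGroup (Fin 2) K) := by
  haveI : Fact (Nat.Prime 3) := ⟨Nat.prime_three⟩
  haveI : CharP F 3 := charP_of_card_eq_prime_pow (f := 2) (by rw [hF]; rfl)
  obtain ⟨ι, hι⟩ : IsSquare (-1 : F) :=
    FiniteField.isSquare_neg_one_iff.mpr (by rw [hF]; norm_num)
  obtain ⟨H, ⟨e⟩⟩ := U3L27.exists_psl (F := F) (ι := ι) hι.symm
  obtain ⟨e'⟩ := RecognizeEven.psl_congr (ZMod.ringEquivOfPrime K (by norm_num) hK)
  exact ⟨H, ⟨e.trans e'⟩⟩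

end Cfsg.Agent.S1897
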