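import Cfsg.Statements.S1898
import Cfsg.Agent.Lib.LocalEvenB.FixedOrder

set_option autoImplicit false
open Cfsg
open scoped commutatorElement

namespace Cfsg.Agent.S1898

/-- Let X be a finite 2-group whose derived subgroup is elementary abelian and central. Then the subgroup generated by the elements of order dividing 4 has exponent dividing 4, and every automorphism of X fixing each element of order dividing 4 has 2-power order. -/
theorem result {X : Type*} [Group X] [Finite X] (hX : IsPGroup 2 X)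
    (hel : Cfsg.IsElementaryAbelian 2 (commutator X)) (hcen : commutator X ≤ Subgroup.center X) :
    (∀ x ∈ Subgroup.closure {g : X | g ^ 4 = 1}, x ^ 4 = 1) ∧
      ∀ φ : MulAut X, (∀ g : X, g ^ 4 = 1 → φ g = g) → ∃ k : ℕ, φ ^ (2 ^ k) = 1 := by
  have hc : ∀ a b c : X, ⁅a, b⁆ * c = c * ⁅a, b⁆ := fun a b c =>
    (Subgroup.mem_center_iff.mp (hcen (Subgroup.commutator_mem_commutator (Subgroup.mem_top a) (Subgroup.mem_top b))) c).symm
  have hc2 : ∀ a b : X, ⁅a, b⁆ * ⁅a, b⁆ = 1 := fun a b => by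
    rw [← sq]; exact hel.2 _ (Subgroup.commutator_mem_commutator (Subgroup.mem_top a) (Subgroup.mem_top b))
  have hsq : ∀ a b : X, a * a * b = b * (a * a) := by
    intro a b
    have e1 : a * b = ⁅a, b⁆ * (b * a) := by simp [commutatorElement_def, mul_assoc]
    calc a * a * b = a * (a * b) := mul_assoc _ _ _
      _ = a * (⁅a, b⁆ * (b * a)) := by rw [e1]
      _ = ⁅a, b⁆ * (a * b) * a := by rw [← mul_assoc, ← hc, mul_assoc, mul_assoc, mul_assoc]
      _ = b * (a * a) := by rw [e1, ← mul_assoc ⁅a, b⁆, hc2, one_mul, mul_assoc]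
  have hmul : ∀ a b : X, (a * b) ^ 4 = a ^ 4 * b ^ 4 := by
    intro a b
    have e : (a * b) ^ 2 = ⁅b, a⁆ * (a ^ 2 * b ^ 2) := by
      have e1 : b * a = ⁅b, a⁆ * (a * b) := by simp [commutatorElement_def, mul_assoc]
      calc (a * b) ^ 2 = a * (b * a) * b := by simp [sq, mul_assoc]
        _ = ⁅b, a⁆ * (a ^ 2 * b ^ 2) := by
          rw [e1, ← mul_assoc a, ← hc]; simp [sq, mul_assoc]
    have hcc : Commute ⁅b, a⁆ (a ^ 2 * b ^ 2) := hc _ _ _
    have hab : Commute (a ^ 2) (b ^ 2) := by rw [sq a]; exact hsq a _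
    rw [show (4 : ℕ) = 2 * 2 from rfl, pow_mul, e, hcc.mul_pow, hab.mul_pow, ← pow_mul, ← pow_mul]
    rw [sq ⁅b, a⁆, hc2, one_mul]
  let H : Subgroup X :=
    { carrier := {g : X | g ^ 4 = 1}
      one_mem' := one_pow 4
      mul_mem' := fun {a b} (ha : a ^ 4 = 1) (hb : b ^ 4 = 1) => by
        show (a * b) ^ 4 = 1
        rw [hmul, ha, hb, one_mul]
      inv_mem' := fun {a} (ha : a ^ 4 = 1) => by
        show a⁻¹ ^ 4 = 1
        rw [inv_pow, ha, inv_one] }
  refine ⟨fun x hx => (Subgroup.closure_le (K := H)).mpr (fun g hg => hg) hx, fun φ hφ => ?_⟩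
  obtain ⟨k, m, hm, hkm⟩ := Nat.exists_eq_two_pow_mul_odd (orderOf_pos φ).ne'
  refine ⟨k, ?_⟩
  have hord : (orderOf (φ ^ 2 ^ k)).Coprime 2 := by
    rw [orderOf_pow_of_dvd (by positivity) (hkm ▸ dvd_mul_right _ _), hkm,
      Nat.mul_div_cancel_left _ (by positivity)]
    exact Nat.coprime_two_right.mpr hm
  have hfixpow : ∀ (j : ℕ) (g : X), g ^ 4 = 1 → (φ ^ j) g = g := by
    intro j g hg
    induction j with
    | zero => simp
    | succ j ih => rw [pow_succ, MulAut.mul_apply, hφ g hg, ih]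
  exact MulEquiv.ext (Agent.LocalEvenB.fix_of_fix_four hX _ hord (hfixpow _))

end Cfsg.Agent.S1898
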