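import Cfsg.Statements.S1899


set_option autoImplicit false
open Cfsg

namespace Cfsg.Agent.S1899

/-- Let a dihedral group of order 2n, n odd and n > 1, act on a finite abelian 2-group A through automorphisms d and t with d^n = 1, t² = 1 and t d t⁻¹ = d⁻¹, and suppose that d fixes only the identity. Then A is the internal direct product of C_A(t) and its image under d. -/
theorem result {A : Type*} [CommGroup A] [Finite A] (hA : IsPGroup 2 A)
    {n : ℕ} (hn : Odd n) (hn1 : 1 < n) (d t : MulAut A) (hd : d ^ n = 1) (ht : t ^ 2 = 1) (hdt : t * d * t⁻¹ = d⁻¹)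
    (hfix : ∀ a : A, d a = a → a = 1) :
    (MulEquiv.toMonoidHom t).eqLocus (MonoidHom.id A) ⊓ ((MulEquiv.toMonoidHom t).eqLocus (MonoidHom.id A)).map d.toMonoidHom = ⊥ ∧
      (MulEquiv.toMonoidHom t).eqLocus (MonoidHom.id A) ⊔ ((MulEquiv.toMonoidHom t).eqLocus (MonoidHom.id A)).map d.toMonoidHom = ⊤ := by
  have hcomm : ∀ a, t (d a) = d⁻¹ (t a) := fun a => by
    have h := DFunLike.congr_fun (show t * d = d⁻¹ * t by rw [← hdt, inv_mul_cancel_right]) a
    simpa [MulAut.mul_apply] using h
  have hcomm' : ∀ a, t (d⁻¹ a) = d (t a) := fun a => by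
    have h := hcomm (d⁻¹ a)
    rw [MulAut.apply_inv_self] at h
    rw [h, MulAut.apply_inv_self]
  have hsq : ∀ a, d (d a) = a → a = 1 := by
    intro a ha
    obtain ⟨m, rfl⟩ := hn
    have h2 : ∀ j : ℕ, (d ^ (2 * j)) a = a := fun j => by
      induction j with
      | zero => simp
      | succ j ih => rw [show 2 * (j + 1) = 2 * j + 1 + 1 by ring, pow_succ, pow_succ,
          MulAut.mul_apply, MulAut.mul_apply, ha, ih]
    have h3 : (d ^ (2 * m + 1)) a = a := by rw [hd]; simp
    rw [pow_succ', MulAut.mul_apply, h2 m] at h3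
    exact hfix a h3
  let ψ : A →* A :=
    MonoidHom.mk' (fun a => d a / d⁻¹ a) (fun a b => by simp [div_mul_div_comm])
  have hψ : Function.Injective ψ := by
    refine (injective_iff_map_eq_one ψ).mpr fun a ha => ?_
    have h : d a = d⁻¹ a := div_eq_one.mp ha
    refine hsq a ?_
    rw [h, MulAut.apply_inv_self]
  have hmemC : ∀ a : A, a ∈ (MulEquiv.toMonoidHom t).eqLocus (MonoidHom.id A) ↔ t a = a :=
    fun a => Iff.rfl
  constructor
  · rw [Subgroup.eq_bot_iff_forall]
    intro a ha
    obtain ⟨ha1, c, hc, hca⟩ := ha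
    have e : d c = d⁻¹ c := by
      have h1 : t (d c) = d c := by
        have h0 := (hmemC a).mp ha1
        rw [← hca] at h0
        exact h0
      rw [hcomm, (hmemC c).mp hc] at h1
      exact h1.symm
    have hc1 : c = 1 := hsq c (by rw [e, MulAut.apply_inv_self])
    rw [← hca, hc1, map_one]
  · rw [eq_top_iff]
    intro a _
    obtain ⟨c, hc⟩ := (Finite.injective_iff_surjective.mp hψ) (a / t a)
    have hψc : d c / d⁻¹ c = a / t a := hc
    have htt : t (t a) = a := by
      rw [← MulAut.mul_apply, ← sq, ht]; rfl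
    have htc : t c = c := by
      apply hψ
      show d (t c) / d⁻¹ (t c) = d c / d⁻¹ c
      have h := congrArg t hψc
      rw [map_div, map_div, hcomm, hcomm', htt] at h
      rw [hψc, ← inv_div (d⁻¹ (t c)), h, inv_div]
    have hc' : t (a / d c) = a / d c := by
      rw [map_div, hcomm, htc]
      rw [div_eq_div_iff_mul_eq_mul] at hψc ⊢
      rw [mul_comm (t a) (d c), hψc]
    have hm : a / d c * d c = a := div_mul_cancel a (d c)
    rw [← hm]
    exact Subgroup.mul_mem_sup ((hmemC _).mpr hc') ⟨c, (hmemC c).mpr htc, rfl⟩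

end Cfsg.Agent.S1899
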