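import Cfsg.Statements.S1900
import Cfsg.Agent.Lib.Basics.CoprimeGen
import Cfsg.Agent.Lib.Tech.TwoFixed

set_option autoImplicit false
open Cfsg
open scoped commutatorElement

namespace Cfsg.Agent.S1900

/-- Let S = PQ be a finite group with P a normal Sylow p-subgroup and Q elementary abelian of order q², q a prime different from p. If exactly two subgroups X₁, X₂ of order q in Q have a nontrivial centralizer in P, then P is the internal direct product of C_P(X₁) and C_P(X₂): they commute elementwise, meet trivially and generate P. -/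
theorem result {S : Type*} [Group S] [Finite S] {p q : ℕ} [Fact p.Prime] [Fact q.Prime] (hpq : p ≠ q)
    (P : Sylow p S) [(P : Subgroup S).Normal] (Q : Subgroup S) (hQ : Cfsg.IsElementaryAbelian q Q) (hQc : Nat.card Q = q ^ 2)
    (hS : (P : Subgroup S) ⊔ Q = ⊤)
    (X₁ X₂ : Subgroup S) (h₁ : X₁ ≤ Q) (h₂ : X₂ ≤ Q) (h₁₂ : X₁ ≠ X₂) (hc₁ : Nat.card X₁ = q) (hc₂ : Nat.card X₂ = q)
    (hf₁ : (P : Subgroup S) ⊓ Subgroup.centralizer (X₁ : Set S) ≠ ⊥)
    (hf₂ : (P : Subgroup S) ⊓ Subgroup.centralizer (X₂ : Set S) ≠ ⊥)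
    (honly : ∀ X : Subgroup S, X ≤ Q → Nat.card X = q →
      (P : Subgroup S) ⊓ Subgroup.centralizer (X : Set S) ≠ ⊥ → X = X₁ ∨ X = X₂) :
    ⁅(P : Subgroup S) ⊓ Subgroup.centralizer (X₁ : Set S), (P : Subgroup S) ⊓ Subgroup.centralizer (X₂ : Set S)⁆ = ⊥ ∧
      ((P : Subgroup S) ⊓ Subgroup.centralizer (X₁ : Set S)) ⊓ ((P : Subgroup S) ⊓ Subgroup.centralizer (X₂ : Set S)) = ⊥ ∧
      ((P : Subgroup S) ⊓ Subgroup.centralizer (X₁ : Set S)) ⊔ ((P : Subgroup S) ⊓ Subgroup.centralizer (X₂ : Set S)) = P := by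
  have hq := Fact.out (p := q.Prime)
  have hQcomm : ∀ a ∈ Q, ∀ b ∈ Q, a * b = b * a := fun a ha b hb =>
    congrArg Subtype.val (hQ.1.is_comm.comm ⟨a, ha⟩ ⟨b, hb⟩)
  haveI : IsMulCommutative ↥Q := hQ.1
  have gen : ∀ X : Subgroup S, Nat.card X = q → ∃ a ∈ X, a ≠ 1 ∧ Subgroup.zpowers a = X := by
    intro X hX
    obtain ⟨g, hg⟩ : ∃ g : ↥X, g ≠ 1 := by
      by_contra h
      push Not at h
      have : Subsingleton ↥X := ⟨fun a b => (h a).trans (h b).symm⟩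
      have := Nat.card_of_subsingleton (1 : ↥X)
      have := hq.one_lt
      omega
    have ho : orderOf (g : S) = q := by
      have := orderOf_dvd_natCard g
      rw [hX] at this
      rcases (Nat.dvd_prime hq).1 this with h | h
      · exact absurd (orderOf_eq_one_iff.1 h) hg
      · rw [Subgroup.orderOf_coe, h]
    refine ⟨g, g.2, fun h => hg (Subtype.ext h), Subgroup.eq_of_le_of_card_ge
      (Subgroup.zpowers_le.2 g.2) ?_⟩
    rw [Nat.card_zpowers, ho, hX]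
  have hzc : ∀ a : S, Subgroup.centralizer ((Subgroup.zpowers a : Subgroup S) : Set S)
      = Subgroup.centralizer ({a} : Set S) := fun a => by
    rw [Subgroup.zpowers_eq_closure, Subgroup.centralizer_closure]
  have honly' : ∀ a ∈ Q, a ≠ 1 → (P : Subgroup S) ⊓ Subgroup.centralizer {a} ≠ ⊥ →
      Subgroup.zpowers a = X₁ ∨ Subgroup.zpowers a = X₂ := by
    intro a ha ha1 hne
    refine honly _ (Subgroup.zpowers_le.2 ha) ?_ (by rw [hzc]; exact hne)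
    rw [Nat.card_zpowers]
    exact orderOf_eq_prime (hQ.2 a ha) ha1
  obtain ⟨a₁, ha₁, ha₁1, hz₁⟩ := gen X₁ hc₁
  obtain ⟨a₂, ha₂, ha₂1, hz₂⟩ := gen X₂ hc₂
  set C₁ : Subgroup S := (P : Subgroup S) ⊓ Subgroup.centralizer (X₁ : Set S) with hC₁
  set C₂ : Subgroup S := (P : Subgroup S) ⊓ Subgroup.centralizer (X₂ : Set S) with hC₂
  have hm₁ : ∀ u, u ∈ C₁ ↔ u ∈ (P : Subgroup S) ∧ u * a₁ = a₁ * u := fun u => by
    rw [hC₁, Subgroup.mem_inf, ← hz₁, hzc, Subgroup.mem_centralizer_singleton_iff]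
  have hm₂ : ∀ u, u ∈ C₂ ↔ u ∈ (P : Subgroup S) ∧ u * a₂ = a₂ * u := fun u => by
    rw [hC₂, Subgroup.mem_inf, ← hz₂, hzc, Subgroup.mem_centralizer_singleton_iff]
  have hmeet : ∀ u, u ∈ C₁ → u ∈ C₂ → u = 1 := by
    intro u hu1 hu2
    rw [hm₁] at hu1; rw [hm₂] at hu2
    have h3Q : a₁ * a₂ ∈ Q := mul_mem (h₁ ha₁) (h₂ ha₂)
    have hn1 : Subgroup.zpowers (a₁ * a₂) ≠ X₁ := by
      intro h
      have hm : a₁ * a₂ ∈ X₁ := h ▸ Subgroup.mem_zpowers _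
      have ha21 : a₂ ∈ X₁ := (Subgroup.mul_mem_cancel_left _ ha₁).1 hm
      exact h₁₂ (Subgroup.eq_of_le_of_card_ge (hz₂ ▸ Subgroup.zpowers_le.2 ha21)
        (by rw [hc₁, hc₂])).symm
    have hn2 : Subgroup.zpowers (a₁ * a₂) ≠ X₂ := by
      intro h
      have hm : a₁ * a₂ ∈ X₂ := h ▸ Subgroup.mem_zpowers _
      have ha12 : a₁ ∈ X₂ := (Subgroup.mul_mem_cancel_right _ ha₂).1 hm
      exact h₁₂ (Subgroup.eq_of_le_of_card_ge (hz₁ ▸ Subgroup.zpowers_le.2 ha12)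
        (by rw [hc₁, hc₂]))
    have h31 : a₁ * a₂ ≠ 1 := by
      intro h
      have : a₂ ∈ X₁ := (eq_inv_of_mul_eq_one_right h) ▸ inv_mem ha₁
      exact h₁₂ (Subgroup.eq_of_le_of_card_ge (hz₂ ▸ Subgroup.zpowers_le.2 this)
        (by rw [hc₁, hc₂])).symm
    by_contra hu
    rcases honly' _ h3Q h31 (fun hb => hu (Subgroup.mem_bot.1 (hb ▸ Subgroup.mem_inf.2 ⟨hu1.1,
      Subgroup.mem_centralizer_singleton_iff.2 (by
        rw [← mul_assoc, hu1.2, mul_assoc, hu2.2, ← mul_assoc])⟩))) with h | h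
    · exact hn1 h
    · exact hn2 h
  have hnc : ¬ IsCyclic ↥Q := by
    intro hc
    obtain ⟨⟨g, hg⟩⟩ := hc
    have ho : orderOf g = q ^ 2 := by
      rw [← hQc]
      exact orderOf_eq_card_of_forall_mem_zpowers hg
    have : orderOf g ∣ q := orderOf_dvd_of_pow_eq_one (Subtype.ext (hQ.2 g g.2))
    rw [ho] at this
    have := Nat.le_of_dvd hq.pos this
    nlinarith [hq.one_lt]
  have hcardM : ∀ M : Subgroup S, M ≤ (P : Subgroup S) → (Nat.card ↥M).Coprime q := by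
    intro M hM
    obtain ⟨k, hk⟩ := IsPGroup.iff_card.1 P.isPGroup'
    refine Nat.Coprime.coprime_dvd_left (Subgroup.card_dvd_of_le hM) ?_
    rw [hk]
    exact ((Nat.coprime_primes Fact.out hq).2 hpq).pow_left _
  have hgen : ∀ M : Subgroup S, M.Normal → M ≤ (P : Subgroup S) →
      M ≤ (M ⊓ C₁) ⊔ (M ⊓ C₂) := by
    intro M hMn hMP
    have hc : (Nat.card ↥Q).Coprime (Nat.card ↥M) := by
      rw [hQc]; exact ((hcardM M hMP).symm).pow_left _
    have := Cfsg.Agent.Basics.iSup_inf_centralizer_eq Q M hnc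
      (by rw [M.normalizer_eq_top]; exact le_top) hc
    refine this.symm.le.trans (iSup₂_le fun a ha => ?_)
    by_cases hb : (P : Subgroup S) ⊓ Subgroup.centralizer {a} = ⊥
    · refine (inf_le_inf_right _ hMP).trans ?_
      rw [hb]; exact bot_le
    · rcases honly' a ha.1 ha.2 hb with h | h
      · refine le_trans ?_ le_sup_left
        intro u hu
        obtain ⟨huM, huc⟩ := Subgroup.mem_inf.1 hu
        refine Subgroup.mem_inf.2 ⟨huM, Subgroup.mem_inf.2 ⟨hMP huM, ?_⟩⟩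
        rwa [← h, hzc]
      · refine le_trans ?_ le_sup_right
        intro u hu
        obtain ⟨huM, huc⟩ := Subgroup.mem_inf.1 hu
        refine Subgroup.mem_inf.2 ⟨huM, Subgroup.mem_inf.2 ⟨hMP huM, ?_⟩⟩
        rwa [← h, hzc]
  have hbot : C₁ ⊓ C₂ = ⊥ := (Subgroup.eq_bot_iff_forall _).2 fun u hu =>
    hmeet u (Subgroup.mem_inf.1 hu).1 (Subgroup.mem_inf.1 hu).2
  refine ⟨?_, hbot, le_antisymm (sup_le inf_le_left inf_le_left)
    ((hgen _ inferInstance le_rfl).trans (sup_le_sup inf_le_right inf_le_right))⟩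
  have hq₁ : a₁ ^ q = 1 := hQ.2 _ (h₁ ha₁)
  have hq₂ : a₂ ^ q = 1 := hQ.2 _ (h₂ ha₂)
  have hcc : a₁ * a₂ = a₂ * a₁ := hQcomm _ (h₁ ha₁) _ (h₂ ha₂)
  have hconj : ∀ u ∈ C₁, a₂ * u * a₂⁻¹ ∈ C₁ := by
    intro u hu
    rw [hm₁] at hu ⊢
    refine ⟨‹(P : Subgroup S).Normal›.conj_mem _ hu.1 _, ?_⟩
    have hc' : Commute a₁ (a₂⁻¹) := (show Commute a₁ a₂ from hcc).inv_right
    calc a₂ * u * a₂⁻¹ * a₁ = a₂ * u * (a₂⁻¹ * a₁) := by group
      _ = a₂ * (u * a₁) * a₂⁻¹ := by rw [← hc'.eq]; group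
      _ = (a₂ * a₁) * u * a₂⁻¹ := by rw [hu.2]; group
      _ = a₁ * (a₂ * u * a₂⁻¹) := by rw [← hcc]; group
  have hconj' : ∀ u ∈ C₂, a₁ * u * a₁⁻¹ ∈ C₂ := by
    intro u hu
    rw [hm₂] at hu ⊢
    refine ⟨‹(P : Subgroup S).Normal›.conj_mem _ hu.1 _, ?_⟩
    have hc' : Commute a₂ (a₁⁻¹) := (show Commute a₂ a₁ from hcc.symm).inv_right
    calc a₁ * u * a₁⁻¹ * a₂ = a₁ * u * (a₁⁻¹ * a₂) := by group
      _ = a₁ * (u * a₂) * a₁⁻¹ := by rw [← hc'.eq]; group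
      _ = (a₁ * a₂) * u * a₁⁻¹ := by rw [hu.2]; group
      _ = a₂ * (a₁ * u * a₁⁻¹) := by rw [hcc]; group
  have hstep : ∀ M : Subgroup S, M.Normal → M ≤ (P : Subgroup S) →
      (∀ a ∈ C₁, ∀ c ∈ C₂, ⁅a, c⁆ ∈ M) → ∀ a ∈ C₁, ∀ c ∈ C₂, ⁅a, c⁆ ∈ ⁅M, (P : Subgroup S)⁆ := by
    intro M hMn hMP hM a ha c hc
    haveI := hMn
    set N : Subgroup S := ⁅M, (P : Subgroup S)⁆ with hN
    haveI hNn : N.Normal := Subgroup.commutator_normal M _
    have hcl₁ : ∀ u ∈ C₁, u * a₁ = a₁ * u := fun u hu => ((hm₁ u).1 hu).2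
    have hcl₂ : ∀ u ∈ C₂, u * a₂ = a₂ * u := fun u hu => ((hm₂ u).1 hu).2
    have hP₁ : C₁ ≤ (P : Subgroup S) := inf_le_left
    have hP₂ : C₂ ≤ (P : Subgroup S) := inf_le_left
    obtain ⟨v, hv, hv'⟩ := TwoFixed.oneSide N M (P : Subgroup S) C₁ C₂ a₁ le_rfl hP₁ hP₂ hMP
      (hgen M hMn hMP) hM hcl₁ hconj' (fun w hw hw' => hmeet w ((hm₁ w).2 ⟨hP₂ hw, hw'⟩) hw)
      a ha c hc
    obtain ⟨u, hu, hu'⟩ := TwoFixed.oneSide N M (P : Subgroup S) C₂ C₁ a₂ le_rfl hP₂ hP₁ hMP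
      ((hgen M hMn hMP).trans (sup_comm _ _).le)
      (fun x hx y hy => by rw [← commutatorElement_inv]; exact inv_mem (hM y hy x hx))
      hcl₂ hconj (fun w hw hw' => hmeet w hw ((hm₂ w).2 ⟨hP₁ hw, hw'⟩))
      c hc a ha
    rw [← commutatorElement_inv, map_inv] at hu'
    have hu'' : QuotientGroup.mk' N ⁅a, c⁆ = QuotientGroup.mk' N u⁻¹ := by
      rw [map_inv, ← hu', inv_inv]
    have huv : QuotientGroup.mk' N u⁻¹ = QuotientGroup.mk' N v := hu''.symm.trans hv'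
    have hcop : (Nat.card ↥(C₁ ⊓ N)).Coprime q := hcardM _ (inf_le_left.trans hP₁)
    have hmem : u⁻¹ ∈ N := TwoFixed.coset_mem N C₁ C₂ a₂ hq₂ hcop hcl₂ hconj
      (fun w hw hw' => hmeet w hw ((hm₂ w).2 ⟨hP₁ hw, hw'⟩)) (inv_mem hu) hv huv
    have h1 : QuotientGroup.mk' N ⁅a, c⁆ = 1 := by
      rw [hu'']; exact (QuotientGroup.eq_one_iff _).2 hmem
    exact (QuotientGroup.eq_one_iff _).1 h1
  have hind : ∀ k, ∀ a ∈ C₁, ∀ c ∈ C₂,
      ⁅a, c⁆ ∈ ((Subgroup.lowerCentralSeries (⊤ : Subgroup ↥(P : Subgroup S)) k).map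
        (P : Subgroup S).subtype) ∧
      ((Subgroup.lowerCentralSeries (⊤ : Subgroup ↥(P : Subgroup S)) k).map
        (P : Subgroup S).subtype).Normal := by
    intro k
    induction k with
    | zero =>
      intro a ha c hc
      rw [Subgroup.lowerCentralSeries_zero, ← MonoidHom.range_eq_map, Subgroup.range_subtype]
      exact ⟨mul_mem (mul_mem (mul_mem (Subgroup.mem_inf.1 ha).1 (Subgroup.mem_inf.1 hc).1)
        (inv_mem (Subgroup.mem_inf.1 ha).1)) (inv_mem (Subgroup.mem_inf.1 hc).1), inferInstance⟩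
    | succ k ih =>
      intro a ha c hc
      rw [Subgroup.lowerCentralSeries_succ, Subgroup.map_commutator, ← MonoidHom.range_eq_map,
        Subgroup.range_subtype]
      haveI := (ih a ha c hc).2
      exact ⟨hstep _ (ih a ha c hc).2 (Subgroup.map_subtype_le _) (fun x hx y hy => (ih x hx y hy).1)
        a ha c hc, Subgroup.commutator_normal _ _⟩
  haveI : Group.IsNilpotent ↥(P : Subgroup S) := P.isPGroup'.isNilpotent
  obtain ⟨n, hn⟩ := (Subgroup.isNilpotent_iff_lowerCentralSeries (⊤ : Subgroup ↥(P : Subgroup S))).1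
    (Group.isNilpotent_top.2 ‹_›)
  refine eq_bot_iff.2 (Subgroup.commutator_le.2 fun a ha c hc => ?_)
  have := (hind n a ha c hc).1
  rwa [hn, Subgroup.map_bot] at this

end Cfsg.Agent.S1900
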