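import Cfsg.Statements.S1901
import Mathlib

set_option autoImplicit false
open Cfsg

namespace Cfsg.Agent.S1901

/-- Let G be a finite p-solvable group and Q a subgroup of order prime to p such that p divides the index of C_G(Q) in N_G(Q). Then Q normalizes no Sylow p-subgroup of G. -/
theorem result {G : Type*} [Group G] [Finite G] {p : ℕ} [Fact p.Prime]
    (hG : Cfsg.IsPSolvable p G) (Q : Subgroup G) (hQ : ¬ p ∣ Nat.card Q)
    (hA : p ∣ (Subgroup.centralizer (Q : Set G)).relIndex (Subgroup.normalizer (Q : Set G)))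
    (P : Sylow p G) : ¬ Q ≤ Subgroup.normalizer ((P : Subgroup G) : Set G) := by
  intro hQP
  suffices H : ∀ y ∈ Subgroup.normalizer (Q : Set G), (∃ k, y ^ p ^ k = 1) → ∀ q ∈ Q, y * q = q * y by
    let N := Subgroup.normalizer (Q : Set G)
    obtain ⟨R⟩ : Nonempty (Sylow p N) := inferInstance
    have hR : (R : Subgroup N) ≤ (Subgroup.centralizer (Q : Set G)).subgroupOf N := by
      intro r hr
      obtain ⟨k, hk⟩ := R.2 ⟨r, hr⟩
      have hk' : (r : G) ^ p ^ k = 1 := congrArg (fun z => ((Subtype.val z : N) : G)) hk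
      exact Subgroup.mem_subgroupOf.mpr fun q hq => (H r r.2 ⟨k, hk'⟩ q hq).symm
    exact R.not_dvd_index (hA.trans (Subgroup.index_dvd_of_le hR))
  obtain ⟨n, H, h0, hn, hmono, hnormal, hfac⟩ := hG
  intro y hy hyp q hq
  suffices key : ∀ i : Fin (n + 1), ∀ q ∈ Q, q⁻¹ * (y * q * y⁻¹) ∈ H i by
    have := key 0 q hq
    rw [h0, Subgroup.mem_bot, inv_mul_eq_one] at this
    exact (mul_inv_eq_iff_eq_mul.mp this.symm)
  intro i
  induction i using Fin.reverseInduction with
  | last => intro q _; rw [hn]; exact Subgroup.mem_top _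
  | cast i ih =>
    intro q hq
    haveI := hnormal i.castSucc
    haveI := hnormal i.succ
    have hyq : ∀ q ∈ Q, y * q * y⁻¹ ∈ Q := fun q hq => (Subgroup.mem_normalizer_iff.mp hy q).mp hq
    let f := QuotientGroup.mk' (H i.castSucc)
    have hmem : ∀ z : G, z ∈ H i.castSucc ↔ f z = 1 := fun z => (QuotientGroup.eq_one_iff z).symm
    have hle : H i.castSucc ≤ H i.succ := hmono (Fin.castSucc_le_succ i)
    rcases hfac i with ⟨m, hm⟩ | hcop
    · have hb : q⁻¹ * (y * q * y⁻¹) ∈ Q := mul_mem (inv_mem hq) (hyq q hq)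
      set b := q⁻¹ * (y * q * y⁻¹)
      have hbH : b ∈ H i.succ := ih q hq
      have h1 : b ^ p ^ m ∈ H i.castSucc := by
        have h2 : (⟨b, hbH⟩ : H i.succ) ^ ((H i.castSucc).subgroupOf (H i.succ)).index
            ∈ (H i.castSucc).subgroupOf (H i.succ) := Subgroup.pow_index_mem _ _
        rw [show ((H i.castSucc).subgroupOf (H i.succ)).index = p ^ m from hm] at h2
        exact h2
      have h3 : b ^ Nat.card Q = 1 := congrArg Subtype.val (pow_card_eq_one' (x := (⟨b, hb⟩ : Q)))
      rw [hmem] at h1 ⊢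
      refine orderOf_eq_one_iff.mp (Nat.Coprime.eq_one_of_dvd
        (Nat.Coprime.coprime_dvd_left ?_ ((Nat.Prime.coprime_iff_not_dvd Fact.out).mpr hQ |>.symm.pow_right m))
        (orderOf_dvd_of_pow_eq_one (by rw [← map_pow]; exact h1)))
      exact orderOf_dvd_of_pow_eq_one (by rw [← map_pow, h3, map_one])
    · let Q0 : Subgroup G := Q ⊓ H i.succ
      let C := Subgroup.centralizer ((Q0.map f : Subgroup (G ⧸ H i.castSucc)) : Set (G ⧸ H i.castSucc))
      let P' : Sylow p (G ⧸ H i.castSucc) := P.mapSurjective (QuotientGroup.mk'_surjective _)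
      have hP'C : (P' : Subgroup (G ⧸ H i.castSucc)) ≤ C := by
        rintro _ ⟨u, hu, rfl⟩ _ ⟨v, hv, rfl⟩
        have hv' : v ∈ Q ∧ v ∈ H i.succ := hv
        have huv : v * u * v⁻¹ ∈ (P : Subgroup G) :=
          (Subgroup.mem_normalizer_iff.mp (hQP hv'.1) u).mp hu
        have hb : u⁻¹ * (v * u * v⁻¹) ∈ (P : Subgroup G) := mul_mem (inv_mem hu) huv
        have hbH : u⁻¹ * (v * u * v⁻¹) ∈ H i.succ := by
          have := mul_mem ((hnormal i.succ).conj_mem v hv'.2 u⁻¹) (inv_mem hv'.2)
          simpa [mul_assoc] using this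
        have h1 : u⁻¹ * (v * u * v⁻¹) ∈ H i.castSucc := by
          set b := u⁻¹ * (v * u * v⁻¹)
          obtain ⟨k, hk⟩ := P.2 ⟨b, hb⟩
          have hk' : b ^ p ^ k = 1 := congrArg Subtype.val hk
          have h2 : (⟨b, hbH⟩ : H i.succ) ^ ((H i.castSucc).subgroupOf (H i.succ)).index
              ∈ (H i.castSucc).subgroupOf (H i.succ) := Subgroup.pow_index_mem _ _
          have h2' : b ^ (H i.castSucc).relIndex (H i.succ) ∈ H i.castSucc := h2
          rw [hmem] at h2' ⊢
          refine orderOf_eq_one_iff.mp (Nat.Coprime.eq_one_of_dvd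
            (Nat.Coprime.coprime_dvd_left ?_ (hcop.symm.pow_left k))
            (orderOf_dvd_of_pow_eq_one (by rw [← map_pow]; exact h2')))
          exact orderOf_dvd_of_pow_eq_one (by rw [← map_pow, hk', map_one])
        rw [hmem, map_mul, map_inv, inv_mul_eq_one, map_mul, map_mul, map_inv] at h1
        exact (mul_inv_eq_iff_eq_mul.mp h1.symm)
      have hyN : f y ∈ Subgroup.normalizer ((Q0.map f : Subgroup (G ⧸ H i.castSucc)) : Set (G ⧸ H i.castSucc)) := by
        refine Subgroup.le_normalizer_map f ⟨y, Subgroup.mem_normalizer_iff.mpr fun z => ?_, rfl⟩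
        exact and_congr (Subgroup.mem_normalizer_iff.mp hy z)
          ⟨fun hz => (hnormal i.succ).conj_mem z hz y, fun hz => by
            simpa [mul_assoc] using (hnormal i.succ).conj_mem _ hz y⁻¹⟩
      have hyC : f y ∈ C := by
        obtain ⟨k, hk⟩ := hyp
        let N := Subgroup.normalizer ((Q0.map f : Subgroup (G ⧸ H i.castSucc)) : Set (G ⧸ H i.castSucc))
        have hCN : C ≤ N := Subgroup.centralizer_le_normalizer _
        have hind : ¬ p ∣ (C.subgroupOf N).index := fun hd =>
          P'.not_dvd_index (hd.trans ((Subgroup.relIndex_dvd_index_of_le hCN).trans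
            (Subgroup.index_dvd_of_le hP'C)))
        haveI : (C.subgroupOf N).Normal := inferInstance
        have h2 := Subgroup.pow_index_mem (C.subgroupOf N) (⟨f y, hyN⟩ : N)
        have h2' : f y ^ (C.subgroupOf N).index ∈ C := h2
        have hco : (C.subgroupOf N).index.Coprime (p ^ k) :=
          ((Nat.Prime.coprime_iff_not_dvd Fact.out).mpr hind).symm.pow_right k
        obtain ⟨u, v, huv⟩ := (Int.isCoprime_iff_gcd_eq_one.mpr hco :
          IsCoprime ((C.subgroupOf N).index : ℤ) ((p ^ k : ℕ) : ℤ))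
        have e : f y = (f y ^ (C.subgroupOf N).index) ^ u := by
          have hk' : f y ^ ((p ^ k : ℕ) : ℤ) = 1 := by rw [zpow_natCast, ← map_pow, hk, map_one]
          calc f y = f y ^ (u * (C.subgroupOf N).index + v * ((p ^ k : ℕ) : ℤ)) := by rw [huv, zpow_one]
            _ = f y ^ (u * ((C.subgroupOf N).index : ℤ)) := by
              rw [zpow_add, mul_comm v, zpow_mul (f y) _ v, hk', one_zpow, mul_one]
            _ = _ := by rw [mul_comm, zpow_mul, zpow_natCast]
        rw [e]; exact zpow_mem h2' u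
      rw [hmem]
      have hbc : f (q⁻¹ * (y * q * y⁻¹)) * f y = f y * f (q⁻¹ * (y * q * y⁻¹)) :=
        hyC _ ⟨_, Subgroup.mem_inf.mpr ⟨mul_mem (inv_mem hq) (hyq q hq), ih q hq⟩, rfl⟩
      set b := f (q⁻¹ * (y * q * y⁻¹)) with hbdef
      have hstep : f y * f q = f q * b * f y := by
        simp [hbdef, mul_assoc]
      have hpow : ∀ j : ℕ, f y ^ j * f q = f q * b ^ j * f y ^ j := by
        intro j
        induction j with
        | zero => simp
        | succ j ihj =>
          have hbj : f y ^ j * b = b * f y ^ j := (Commute.pow_left (Commute.symm hbc) j).eq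
          calc f y ^ (j + 1) * f q = f y ^ j * (f y * f q) := by rw [pow_succ, mul_assoc]
            _ = f y ^ j * f q * b * f y := by rw [hstep]; simp [mul_assoc]
            _ = f q * b ^ j * (f y ^ j * b) * f y := by rw [ihj]; simp [mul_assoc]
            _ = _ := by rw [hbj, pow_succ, pow_succ]; simp [mul_assoc]
      obtain ⟨k, hk⟩ := hyp
      have hbk : b ^ p ^ k = 1 := by
        have h := hpow (p ^ k)
        rw [← map_pow, hk, map_one, one_mul, mul_one] at h
        exact left_eq_mul.mp h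
      have hbQ : b ^ Nat.card Q = 1 := by
        rw [hbdef, ← map_pow, show (q⁻¹ * (y * q * y⁻¹)) ^ Nat.card Q = 1 from
          congrArg Subtype.val (pow_card_eq_one' (x := (⟨_, mul_mem (inv_mem hq) (hyq q hq)⟩ : Q))), map_one]
      exact orderOf_eq_one_iff.mp (Nat.Coprime.eq_one_of_dvd
        (Nat.Coprime.coprime_dvd_left (orderOf_dvd_of_pow_eq_one hbQ)
          (((Nat.Prime.coprime_iff_not_dvd Fact.out).mpr hQ).symm.pow_right k))
        (orderOf_dvd_of_pow_eq_one hbk))

end Cfsg.Agent.S1901
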