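import Cfsg.Statements.S1902
import Cfsg.Agent.Lib.Tech.OmegaCentralizerCore
-- import your own Cfsg.Agent.* helpers here

set_option autoImplicit false
open Cfsg

namespace Cfsg.Agent.S1902

/-- Let p be an odd prime, G a finite p-solvable group, and B an elementary abelian subgroup of order p² such that B is the subgroup generated by the elements of order p of some Sylow p-subgroup of C_G(b₀), for some nontrivial b₀ ∈ B. Then every B-invariant subgroup of G of order prime to p lies in O_{p'}(G). -/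
theorem result {G : Type*} [Group G] [Finite G] {p : ℕ} [Fact p.Prime] (hp : p ≠ 2)
    (hG : Cfsg.IsPSolvable p G) (B : Subgroup G) (hB : Cfsg.IsElementaryAbelian p B) (hBc : Nat.card B = p ^ 2)
    (b₀ : G) (hb₀ : b₀ ∈ B) (hb₁ : b₀ ≠ 1) (P : Sylow p ↥(Subgroup.centralizer ({b₀} : Set G)))
    (hBP : B = Subgroup.closure {x : G | x ∈ ((P : Subgroup ↥(Subgroup.centralizer ({b₀} : Set G))).map
      (Subgroup.centralizer ({b₀} : Set G)).subtype : Subgroup G) ∧ orderOf x = p})
    (Q : Subgroup G) (hQ : ¬ p ∣ Nat.card Q) (hinv : ∀ b ∈ B, ∀ x ∈ Q, b * x * b⁻¹ ∈ Q) :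
    Q ≤ Cfsg.pPrimeCore p G := by
  refine Cfsg.Agent.Tech.le_pPrimeCore_of_omega hp hG B hB hBc hb₀ hb₁ P (fun x hx hxp => ?_) Q
    ((Fact.out : p.Prime).coprime_iff_not_dvd.mpr hQ).symm (fun b hb => ?_)
  · rw [hBP]
    rcases eq_or_ne x 1 with h | h
    · rw [h]; exact one_mem _
    · exact Subgroup.subset_closure ⟨hx, orderOf_eq_prime hxp h⟩
  · refine Subgroup.mem_normalizer_iff.mpr fun x => ⟨hinv b hb x, fun h => ?_⟩
    simpa [mul_assoc] using hinv b⁻¹ (inv_mem hb) _ h

end Cfsg.Agent.S1902
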