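import Cfsg.Statements.S1903
import Cfsg.Agent.Lib.O320.Abstract
import Cfsg.Agent.Lib.O320.Unitary
-- import your own Cfsg.Agent.* helpers here

set_option autoImplicit false
open Cfsg

namespace Cfsg.Agent.S1903

/-- A finite group of order 320 whose derived subgroup has order 64 and has centre a Klein four-group is isomorphic to the centralizer of an involution in PSU₃(4). -/
theorem result {G : Type*} [Group G] [Finite G] (hG : Nat.card G = 320) (hD : Nat.card (commutator G) = 64)
    (hZ : IsKleinFour (Subgroup.center (commutator G)))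
    {F : Type*} [Field F] [Fintype F] (hF : Fintype.card F = 16) :
    ∃ t : Cfsg.PSU 3 F 4, orderOf t = 2 ∧ Nonempty (G ≃* Subgroup.centralizer ({t} : Set (Cfsg.PSU 3 F 4))) := by
  haveI : Finite F := inferInstance
  haveI : Agent.AutPSU.QField F 4 := Agent.AutPSU.QField.of_card (by rw [hF]; norm_num)
  obtain ⟨x, c, z, a, hrel, hgen⟩ := O320.exists_rel hG hD hZ
  obtain ⟨t, y, d, w, b, ht, hrel', hgen', hcard⟩ := O320.exists_model hF
  obtain ⟨e⟩ := hrel.mulEquiv hrel' hgen hgen' hG hcard
  have hcen : Subgroup.center (Cfsg.SU 3 F 4) = ⊥ := by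
    rw [← Subgroup.card_eq_one, AutPSU.card_center_SU (by norm_num)]
    norm_num
  let π : Cfsg.SU 3 F 4 ≃* Cfsg.PSU 3 F 4 := MulEquiv.ofBijective (QuotientGroup.mk' _)
    ⟨by rw [← MonoidHom.ker_eq_bot_iff, QuotientGroup.ker_mk', hcen], QuotientGroup.mk'_surjective _⟩
  have hmap : (Subgroup.centralizer ({t} : Set (Cfsg.SU 3 F 4))).map π.toMonoidHom =
      Subgroup.centralizer ({π t} : Set (Cfsg.PSU 3 F 4)) := by
    ext u
    obtain ⟨u, rfl⟩ := π.surjective u
    simp [Subgroup.mem_map_equiv, Subgroup.mem_centralizer_singleton_iff, ← map_mul]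
  exact ⟨π t, by rw [MulEquiv.orderOf_eq, ht],
    ⟨e.trans ((π.subgroupMap _).trans (MulEquiv.subgroupCongr hmap))⟩⟩

end Cfsg.Agent.S1903
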