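import Cfsg.Statements.S1904
import Cfsg.Agent.Lib.FGB.NoSCNOddFinal

set_option autoImplicit false
open Cfsg

namespace Cfsg.Agent.S1904

/-- Let X be a finite nonabelian 2-group with no normal abelian subgroup that is self-centralizing and contains an elementary abelian subgroup of order 8. Suppose a group A of automorphisms of X of odd order satisfies [X, A] = X. Then X is the quaternion group of order 8, or X is special of order 64 with exactly three involutions, all central, or X is extraspecial of order 32 with exactly eleven involutions (the central product of a quaternion group and a dihedral group of order 8). -/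
theorem result {X : Type*} [Group X] [Finite X] (hX : IsPGroup 2 X) (hna : ¬ IsMulCommutative X)
    (hscn : ¬ ∃ A : Subgroup X, A.Normal ∧ Subgroup.centralizer (A : Set X) = A ∧
      ∃ E : Subgroup X, E ≤ A ∧ Cfsg.IsElementaryAbelian 2 E ∧ Nat.card E = 8)
    (A : Subgroup (MulAut X)) (hA : Odd (Nat.card A))
    (hXA : Subgroup.closure {g : X | ∃ φ ∈ A, ∃ x : X, g = x⁻¹ * φ x} = ⊤) :
    Nonempty (X ≃* QuaternionGroup 2) ∨
      (Cfsg.IsSpecial 2 X ∧ Nat.card X = 64 ∧ Nat.card {x : X // orderOf x = 2} = 3 ∧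
        ∀ x : X, orderOf x = 2 → x ∈ Subgroup.center X) ∨
      (Cfsg.IsExtraspecial 2 X ∧ Nat.card X = 32 ∧ Nat.card {x : X // orderOf x = 2} = 11) := by
  haveI : Fact (Nat.Prime 2) := ⟨Nat.prime_two⟩
  refine Cfsg.Agent.NoSCNOdd.Hyp.conclusion (A := A) ⟨hX, fun h => hna ⟨⟨h⟩⟩, ?_, hA, hXA⟩
  intro M hMn hM
  by_contra hlt
  obtain ⟨W, hMW, ⟨hWn, hWc⟩, hWmax⟩ := (Set.toFinite
    {W : Subgroup X | W.Normal ∧ IsMulCommutative W}).exists_le_maximal (a := M)
      ⟨hMn, ⟨⟨fun a b => Subtype.ext (hM a a.2 b b.2)⟩⟩⟩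
  have hC : Subgroup.centralizer (W : Set X) = W := le_antisymm
    (Cfsg.Agent.Tech.exists_maximal_normal_abelian.centralizer_le_of_maximal hX hWn hWc
      fun B hB hB' h => le_antisymm (hWmax ⟨hB, hB'⟩ h) h)
    (Subgroup.le_centralizer_iff_isMulCommutative.mpr hWc)
  set Ω := Cfsg.Agent.NoSCNOdd.omega M hM
  obtain ⟨n, hn⟩ := IsPGroup.iff_card.mp (hX.to_subgroup Ω)
  have h3 : 3 ≤ n := by
    by_contra h
    have : 2 ^ n ≤ 2 ^ 2 := Nat.pow_le_pow_right two_pos (by omega)
    omega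
  obtain ⟨K, hK⟩ := Sylow.exists_subgroup_card_pow_prime 2 (G := ↥Ω) (n := 3)
    (hn ▸ pow_dvd_pow 2 h3)
  have hmem : ∀ a ∈ K.map Ω.subtype, a ∈ Ω := by
    rintro _ ⟨b, -, rfl⟩
    exact b.2
  refine hscn ⟨W, hWn, hC, K.map Ω.subtype, fun a ha => hMW (hmem a ha).1, ⟨⟨⟨fun a b =>
    Subtype.ext (hM _ (hmem _ a.2).1 _ (hmem _ b.2).1)⟩⟩,
    fun a ha => by rw [sq]; exact (hmem a ha).2⟩, ?_⟩
  rw [Subgroup.card_map_of_injective Ω.subtype_injective, hK]
  norm_num

end Cfsg.Agent.S1904
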