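import Cfsg.Statements.S1905
import Cfsg.Agent.Lib.Invol.SECount
import Cfsg.Agent.Lib.Tech.IsoPointInvol
import Cfsg.Agent.Lib.ConjFunctor.Basic

set_option autoImplicit false
open Cfsg

namespace Cfsg.Agent.S1905

/-- Let M be a subgroup of even order of a finite group S such that M contains the centralizer in S of each of its involutions and the normal core of M in S has odd order. Then all involutions of S are conjugate. If moreover N_S(X) ≤ M for a Sylow 2-subgroup X of M and I is an involution in the centre of X, then all involutions of M are conjugate in M and M = M₀ C_M(I) for some subgroup M₀ of M of odd order. -/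
theorem result {S : Type*} [Group S] [Finite S] (M : Subgroup S) (hM : Even (Nat.card M))
    (hC : ∀ i ∈ M, orderOf i = 2 → Subgroup.centralizer ({i} : Set S) ≤ M) (hcore : Odd (Nat.card M.normalCore)) :
    (∀ x y : S, orderOf x = 2 → orderOf y = 2 → IsConj x y) ∧
      ∀ (X : Sylow 2 M) (I : M), I ∈ (Subgroup.center ↥(X : Subgroup ↥M)).map (X : Subgroup ↥M).subtype → orderOf I = 2 →
        Subgroup.normalizer (((X : Subgroup M).map M.subtype : Subgroup S) : Set S) ≤ M →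
        (∀ x y : M, orderOf x = 2 → orderOf y = 2 → IsConj x y) ∧
          ∃ M₀ : Subgroup M, Odd (Nat.card M₀) ∧
            ∀ m : M, ∃ a ∈ M₀, ∃ c ∈ Subgroup.centralizer ({I} : Set M), m = a * c := by
  haveI : Fact (Nat.Prime 2) := ⟨Nat.prime_two⟩
  obtain ⟨i₀, hi₀⟩ := exists_prime_orderOf_dvd_card' (G := ↥M) 2 hM.two_dvd
  have hi₀' : orderOf (i₀ : S) = 2 := by rw [Subgroup.orderOf_coe]; exact hi₀
  obtain ⟨j, hj, hjM⟩ : ∃ j : S, orderOf j = 2 ∧ j ∉ M := by
    by_contra hcon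
    push Not at hcon
    set N : Subgroup S := Subgroup.closure {x : S | orderOf x = 2}
    haveI : N.Normal := by
      constructor
      intro n hn g
      have : N ≤ N.comap (MulAut.conj g).toMonoidHom := (Subgroup.closure_le _).2 fun x hx =>
        Subgroup.subset_closure (by
          show orderOf ((MulAut.conj g) x) = 2
          rw [MulEquiv.orderOf_eq]; exact hx)
      exact this hn
    have hle : N ≤ M.normalCore := Subgroup.normal_le_normalCore.2 ((Subgroup.closure_le _).2 hcon)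
    have h2 : 2 ∣ Nat.card ↥M.normalCore := by
      rw [← hi₀', ← Subgroup.orderOf_mk (i₀ : S) (hle (Subgroup.subset_closure hi₀'))]
      exact orderOf_dvd_natCard _
    exact (Nat.not_even_iff_odd.2 hcore) (even_iff_two_dvd.2 h2)
  have hpair : ∀ x y : S, orderOf x = 2 → orderOf y = 2 → x ∈ M → y ∉ M → IsConj x y := by
    intro x y hx hy hxM hyM
    by_contra hnc
    obtain ⟨k, -, hk2, hkx, hky⟩ := Invol.exists_commuting_involution_of_not_isConj
      (Invol.mul_self_of_orderOf_two hx) (Invol.mul_self_of_orderOf_two hy) hnc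
    have hkM : k ∈ M := hC x hxM hx (Subgroup.mem_centralizer_singleton_iff.2 hkx.eq)
    exact hyM (hC k hkM hk2 (Subgroup.mem_centralizer_singleton_iff.2 hky.symm.eq))
  have hall : ∀ x : S, orderOf x = 2 → IsConj x j := by
    intro x hx
    by_cases hxM : x ∈ M
    · exact hpair x j hx hj hxM hjM
    · exact (hpair (i₀ : S) x hi₀' hx i₀.2 hxM).symm.trans (hpair _ j hi₀' hj i₀.2 hjM)
  refine ⟨fun x y hx hy => (hall x hx).trans (hall y hy).symm, fun X I hI hI2 hN => ?_⟩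
  obtain ⟨⟨I', hI'X⟩, hI'c, rfl⟩ := hI
  change orderOf I' = 2 at hI2
  set I₀ : S := (I' : S) with hI₀
  have hI₀2 : orderOf I₀ = 2 := by rw [hI₀, Subgroup.orderOf_coe]; exact hI2
  set X' : Subgroup S := (X : Subgroup ↥M).map M.subtype with hX'
  have hXI : ∀ x ∈ X', x * I₀ = I₀ * x := by
    rintro _ ⟨x, hx, rfl⟩
    exact congrArg Subtype.val (congrArg Subtype.val (Subgroup.mem_center_iff.1 hI'c ⟨x, hx⟩))
  obtain ⟨P, hXP⟩ := (X.isPGroup'.map M.subtype).exists_le_sylow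
  have hPX : X' = (P : Subgroup S) := by
    by_contra hne
    obtain ⟨y, hyP, hyX, -, hyN⟩ := IsoPointInvol.exists_normalizing P.isPGroup' hXP hne
    refine hyX (IsoPointInvol.sylow_inter_eq X P hXP (hN ?_) hyP)
    refine ConjFunctor.cj_eq_iff.1 (Subgroup.eq_of_le_of_card_ge ?_ (by rw [ConjFunctor.cj_card]))
    rintro _ ⟨s, hs, rfl⟩
    exact hyN s hs
  have hmem : ∀ g : S, g * I₀ * g⁻¹ ∈ M → g ∈ M := by
    intro g hg
    have h2 : orderOf (g * I₀ * g⁻¹) = 2 := by rw [Invol.orderOf_conj]; exact hI₀2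
    have hle : ConjFunctor.cj g X' ≤ M := by
      rintro _ ⟨x, hx, rfl⟩
      refine hC _ hg h2 (Subgroup.mem_centralizer_singleton_iff.2 ?_)
      show g * x * g⁻¹ * (g * I₀ * g⁻¹) = g * I₀ * g⁻¹ * (g * x * g⁻¹)
      calc g * x * g⁻¹ * (g * I₀ * g⁻¹) = g * (x * I₀) * g⁻¹ := by group
        _ = g * (I₀ * x) * g⁻¹ := by rw [hXI x hx]
        _ = g * I₀ * g⁻¹ * (g * x * g⁻¹) := by group
    obtain ⟨m, hm, hmle⟩ := ConjFunctor.exists_conj_le_of_isSylIn
      (ConjFunctor.isSylIn_of_le (ConjFunctor.isSylIn_top P) (hPX ▸ Subgroup.map_subtype_le _) le_top)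
      hle (ConjFunctor.cj_isPGroup g (hPX ▸ P.isPGroup'))
    have hnorm : m * g ∈ Subgroup.normalizer ((X' : Subgroup S) : Set S) := by
      refine ConjFunctor.cj_eq_iff.1 (Subgroup.eq_of_le_of_card_ge ?_ (by rw [ConjFunctor.cj_card]))
      rw [ConjFunctor.cj_mul]
      exact hmle.trans hPX.symm.le
    exact (Subgroup.mul_mem_cancel_left _ hm).1 (hN hnorm)
  have hMconj : ∀ x : S, x ∈ M → orderOf x = 2 → ∃ m ∈ M, m * I₀ * m⁻¹ = x := by
    intro x hx hx2
    obtain ⟨g, hg⟩ := isConj_iff.1 ((hall I₀ hI₀2).trans (hall x hx2).symm)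
    exact ⟨g, hmem g (hg ▸ hx), hg⟩
  have hMne : M ≠ ⊤ := fun h => hjM (h ▸ Subgroup.mem_top j)
  have hSE : Cfsg.IsStronglyEmbedded M := by
    refine Invol.SE_of_mem_of_conj hMne hM fun t htM ht g hg => ?_
    obtain ⟨m, hm, hmt⟩ := hMconj t htM ht
    have h1 : g⁻¹ * m ∈ M := hmem _ (by
      have e : g⁻¹ * m * I₀ * (g⁻¹ * m)⁻¹ = g⁻¹ * t * g := by rw [← hmt]; group
      rw [e]; exact hg)
    have h3 := mul_mem hm (inv_mem h1)
    simpa using h3
  refine ⟨fun x y hx hy => ?_, ?_⟩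
  · obtain ⟨m, hm, hmx⟩ := hMconj x x.2 (by rw [Subgroup.orderOf_coe]; exact hx)
    obtain ⟨l, hl, hly⟩ := hMconj y y.2 (by rw [Subgroup.orderOf_coe]; exact hy)
    refine isConj_iff.2 ⟨⟨l * m⁻¹, mul_mem hl (inv_mem hm)⟩, Subtype.ext ?_⟩
    show l * m⁻¹ * (x : S) * (l * m⁻¹)⁻¹ = (y : S)
    rw [← hmx, ← hly]; group
  · refine ⟨(M ⊓ M.map (MulAut.conj j).toMonoidHom).subgroupOf M, ?_, fun m => ?_⟩
    · rw [Nat.card_congr (Subgroup.subgroupOfEquivOfLe inf_le_left).toEquiv]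
      exact hSE.2.2 j hjM
    · have hIM : (I₀ : S) ∈ M := I'.2
      obtain ⟨d, hd, hdI⟩ := Invol.SE_exists_conj_inf hSE hj hjM hI₀2 hIM
        (t := (m : S) * I₀ * (m : S)⁻¹) (by rw [Invol.orderOf_conj]; exact hI₀2)
        (mul_mem (mul_mem m.2 hIM) (inv_mem m.2))
      refine ⟨⟨d, (Subgroup.mem_inf.1 hd).1⟩, hd, (⟨d, (Subgroup.mem_inf.1 hd).1⟩ : ↥M)⁻¹ * m,
        Subgroup.mem_centralizer_singleton_iff.2 (Subtype.ext ?_), by group⟩
      show d⁻¹ * (m : S) * I₀ = I₀ * (d⁻¹ * (m : S))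
      calc d⁻¹ * (m : S) * I₀ = d⁻¹ * ((m : S) * I₀ * (m : S)⁻¹) * (m : S) := by group
        _ = d⁻¹ * (d * I₀ * d⁻¹) * (m : S) := by rw [hdI]
        _ = I₀ * (d⁻¹ * (m : S)) := by group

end Cfsg.Agent.S1905
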