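import Cfsg.Statements.S1906
import Cfsg.Agent.Lib.Transfer.SylowGLThree

set_option autoImplicit false
open Cfsg

namespace Cfsg.Agent.S1906

/-- Let G be a finite group with no subgroup of index 2 whose Sylow 2-subgroup X embeds in GL₃(F) for a finite field F of odd order. If X contains an elementary abelian subgroup of order 8, then X is abelian. -/
theorem result {G : Type*} [Group G] [Finite G] (hG : ∀ H : Subgroup G, H.index ≠ 2) (X : Sylow 2 G)
    {F : Type*} [Field F] [Fintype F] (hF : Odd (Fintype.card F))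
    (f : ↥(X : Subgroup G) →* GL (Fin 3) F) (hf : Function.Injective f)
    (E : Subgroup G) (hE : E ≤ (X : Subgroup G)) (hEa : Cfsg.IsElementaryAbelian 2 E) (hE8 : Nat.card E = 8) :
    IsMulCommutative (X : Subgroup G) := by
  classical
  by_contra hc
  have h2 : (2 : F) ≠ 0 := Ring.two_ne_zero fun h => by
    have := FiniteField.even_card_of_char_two h
    rw [Nat.odd_iff] at hF
    omega
  obtain ⟨K, hK⟩ := Cfsg.Agent.Transfer.exists_index_two_of_glThree X
    (fun h => hc ⟨⟨h⟩⟩) h2 f hf (E.subgroupOf (X : Subgroup G))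
    ⟨⟨fun a b => Subtype.ext (Subtype.ext (show a.1.1 * b.1.1 = b.1.1 * a.1.1 from by
      have := congrArg Subtype.val (hEa.1.is_comm.comm (⟨a.1.1, a.2⟩ : E) ⟨b.1.1, b.2⟩)
      exact this))⟩⟩
    (fun e he => Subtype.ext (hEa.2 e.1 he))
    (by rw [Nat.card_congr (Subgroup.subgroupOfEquivOfLe hE).toEquiv, hE8])
  exact hG K hK

end Cfsg.Agent.S1906
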