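import Cfsg.Statements.S1907
import Cfsg.Agent.Lib.OddLocal.MaxP
import Cfsg.Agent.Lib.Components.PConstrained
import Cfsg.Agent.Lib.Basics.CoprimeAction

set_option autoImplicit false
open Cfsg

namespace Cfsg.Agent.S1907

/-- Let P be a Sylow p-subgroup of a finite group G, H = P ∩ O_{p',p}(G), N = N_G(H) and D = O_{p'}(G). (a) If y is an element of p-power order of N and d ∈ D with d⁻¹ y d ∈ N, then d = d₁ d₂ with d₁ ∈ C_D(y) and d₂ ∈ C_D(H). (b) Two elements of P that are conjugate in G are conjugate in N. -/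
theorem result {G : Type*} [Group G] [Finite G] {p : ℕ} [Fact p.Prime] (P : Sylow p G) :
    (∀ y ∈ Subgroup.normalizer (((P : Subgroup G) ⊓ Cfsg.pPrimePCore p G : Subgroup G) : Set G), (∃ k : ℕ, orderOf y = p ^ k) →
      ∀ d ∈ Cfsg.pPrimeCore p G, d⁻¹ * y * d ∈ Subgroup.normalizer (((P : Subgroup G) ⊓ Cfsg.pPrimePCore p G : Subgroup G) : Set G) →
        ∃ d₁ ∈ Cfsg.pPrimeCore p G ⊓ Subgroup.centralizer ({y} : Set G),
          ∃ d₂ ∈ Cfsg.pPrimeCore p G ⊓ Subgroup.centralizer (((P : Subgroup G) ⊓ Cfsg.pPrimePCore p G : Subgroup G) : Set G), d = d₁ * d₂) ∧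
    ∀ x y : G, x ∈ (P : Subgroup G) → y ∈ (P : Subgroup G) → IsConj x y →
      ∃ n ∈ Subgroup.normalizer (((P : Subgroup G) ⊓ Cfsg.pPrimePCore p G : Subgroup G) : Set G), n * x * n⁻¹ = y := by
  obtain ⟨hOK, n, hn⟩ := OddLocal.le_pPrimePCore_iff_relIndex (G := G) (p := p)
  haveI : (Cfsg.pPrimePCore p G).Normal := Components.pPrimePCore_normal
  have hfr := OddLocal.sup_normalizer_sylow_inf P hOK hn
  set H := (P : Subgroup G) ⊓ Cfsg.pPrimePCore p G with hH
  set D := Cfsg.pPrimeCore p G with hD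
  set N := Subgroup.normalizer (H : Set G) with hN
  have hDn : D.Normal := inferInstance
  have hcopD : ∀ X : Subgroup G, IsPGroup p X → (Nat.card X).Coprime (Nat.card D) := by
    intro X hX
    obtain ⟨k, hk⟩ := IsPGroup.iff_card.mp hX
    rw [hk]
    exact (Components.pPrimeCore_coprime.pow_right k).symm
  have hHp : IsPGroup p H := P.2.to_le inf_le_left
  have hDN : D ⊓ N ≤ Subgroup.centralizer (H : Set G) := by
    intro d hd
    obtain ⟨hdD, hdN⟩ := Subgroup.mem_inf.mp hd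
    refine Subgroup.mem_centralizer_iff.mpr fun h hh => ?_
    have h1 : h * d * h⁻¹ * d⁻¹ ∈ H ⊓ D := by
      refine Subgroup.mem_inf.mpr ⟨?_, mul_mem (hDn.conj_mem d hdD h) (inv_mem hdD)⟩
      rw [mul_assoc h d, mul_assoc h]
      exact mul_mem hh ((Subgroup.mem_normalizer_iff.mp hdN _).mp (inv_mem hh))
    rw [Subgroup.inf_eq_bot_of_coprime (hcopD H hHp), Subgroup.mem_bot, mul_inv_eq_one,
      mul_inv_eq_iff_eq_mul] at h1
    exact h1
  have parta : ∀ y ∈ N, (∃ k : ℕ, orderOf y = p ^ k) → ∀ d ∈ D, d⁻¹ * y * d ∈ N →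
      ∃ d₁ ∈ D ⊓ Subgroup.centralizer ({y} : Set G), ∃ d₂ ∈ D ⊓ Subgroup.centralizer (H : Set G), d = d₁ * d₂ := by
    intro y hy ⟨k, hk⟩ d hd hdy
    have hyp : IsPGroup p (Subgroup.zpowers y) := IsPGroup.of_card (n := k) (by rw [Nat.card_zpowers, hk])
    haveI : IsMulCommutative (Subgroup.zpowers y) := inferInstance
    have hAN : Subgroup.zpowers y ≤ Subgroup.normalizer ((D ⊓ N : Subgroup G) : Set G) :=
      Subgroup.zpowers_le.mpr (Subgroup.mem_normalizer_iff.mpr fun z => and_congr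
        (Subgroup.mem_normalizer_iff.mp (by rw [Subgroup.normalizer_eq_top]; exact Subgroup.mem_top y) z)
        (Subgroup.mem_normalizer_iff.mp (Subgroup.le_normalizer hy) z))
    obtain ⟨c, hc, hcE⟩ := Basics.exists_centralizer_mem_leftCoset (Subgroup.zpowers y) (D ⊓ N) hAN
      ((hcopD _ hyp).coprime_dvd_right (Subgroup.card_dvd_of_le inf_le_left))
      (Or.inl (isSolvable_of_comm fun u v => mul_comm' u v)) d fun a ha => by
        have h1 : d⁻¹ * a * d ∈ N := by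
          have : Subgroup.zpowers y ≤ N.comap (MulAut.conj d⁻¹).toMonoidHom :=
            Subgroup.zpowers_le.mpr (by simpa using hdy)
          simpa using this ha
        refine Subgroup.mem_inf.mpr ⟨?_, mul_mem h1 (inv_mem ((Subgroup.zpowers_le.mpr hy) ha))⟩
        simpa [mul_assoc] using mul_mem (inv_mem hd) (hDn.conj_mem d hd a)
    have hcD : c ∈ D := by simpa using mul_mem hd (Subgroup.mem_inf.mp hcE).1
    refine ⟨c, Subgroup.mem_inf.mpr ⟨hcD, Subgroup.mem_centralizer_singleton_iff.mpr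
      (Subgroup.mem_centralizer_iff.mp hc y (Subgroup.mem_zpowers y)).symm⟩, c⁻¹ * d, ?_, by group⟩
    have hE : c⁻¹ * d ∈ D ⊓ N := by simpa using inv_mem hcE
    exact Subgroup.mem_inf.mpr ⟨(Subgroup.mem_inf.mp hE).1, hDN hE⟩
  refine ⟨parta, fun x y hx hy hxy => ?_⟩
  obtain ⟨g, hg⟩ := isConj_iff.mp hxy
  have hPN : (P : Subgroup G) ≤ N := fun s hs => Subgroup.mem_normalizer_iff.mpr fun z =>
    and_congr (Subgroup.mem_normalizer_iff.mp (Subgroup.le_normalizer hs) z)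
      (Subgroup.mem_normalizer_iff.mp (by rw [Subgroup.normalizer_eq_top]; exact Subgroup.mem_top s) z)
  obtain ⟨d, hd, m, hm, rfl⟩ := (Subgroup.mem_sup_of_normal_left (s := D)).mp
    (show g ∈ D ⊔ N by rw [hfr]; exact Subgroup.mem_top g)
  have e : d⁻¹ * y * d = m * x * m⁻¹ := by rw [← hg]; group
  obtain ⟨d₁, hd₁, d₂, hd₂, rfl⟩ := parta y (hPN hy)
    (by
      obtain ⟨k, hk⟩ := IsPGroup.iff_orderOf.mp P.2 ⟨y, hy⟩
      exact ⟨k, by rwa [Subgroup.orderOf_mk] at hk⟩)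
    d hd (e ▸ mul_mem (mul_mem hm (hPN hx)) (inv_mem hm))
  refine ⟨d₂ * m, mul_mem (Subgroup.centralizer_le_normalizer _ (Subgroup.mem_inf.mp hd₂).2) hm, ?_⟩
  have h1 := Subgroup.mem_centralizer_singleton_iff.mp (Subgroup.mem_inf.mp hd₁).2
  calc d₂ * m * x * (d₂ * m)⁻¹ = d₁⁻¹ * (d₁ * d₂ * (m * x * m⁻¹) * (d₁ * d₂)⁻¹ * d₁) := by group
    _ = d₁⁻¹ * (y * d₁) := by rw [← e]; group
    _ = y := by rw [← h1, inv_mul_cancel_left]

end Cfsg.Agent.S1907
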