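import Cfsg.Statements.S1910
import Cfsg.Agent.Lib.Tech.TightPair

set_option autoImplicit false
open Cfsg

namespace Cfsg.Agent.S1910

/-- Let Q be a tightly embedded subgroup of a finite group G, g an element outside N_G(Q), T a nontrivial Sylow 2-subgroup of Q^g ∩ N_G(Q), and S a Sylow 2-subgroup of QT containing T. Then T ∩ Q = 1, and N_S(T) is the direct product of T and N_S(T) ∩ Q, with N_S(T) ∩ Q isomorphic to T. -/
theorem result {G : Type*} [Group G] [Finite G] (Q : Subgroup G) (hQ : Cfsg.IsTightlyEmbedded Q)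
    (g : G) (hg : g ∉ Subgroup.normalizer (Q : Set G))
    (T : Subgroup G) (hT1 : T ≠ ⊥) (hT : T ≤ Q.map (MulAut.conj g).toMonoidHom ⊓ Subgroup.normalizer (Q : Set G))
    (hTsyl : IsPGroup 2 T ∧ ¬ 2 ∣ T.relIndex (Q.map (MulAut.conj g).toMonoidHom ⊓ Subgroup.normalizer (Q : Set G)))
    (S : Subgroup G) (hTS : T ≤ S) (hS : S ≤ Q ⊔ T) (hSsyl : IsPGroup 2 S ∧ ¬ 2 ∣ S.relIndex (Q ⊔ T)) :
    T ⊓ Q = ⊥ ∧
      T ⊓ (S ⊓ Subgroup.normalizer (T : Set G) ⊓ Q) = ⊥ ∧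
      ⁅T, S ⊓ Subgroup.normalizer (T : Set G) ⊓ Q⁆ = ⊥ ∧
      T ⊔ (S ⊓ Subgroup.normalizer (T : Set G) ⊓ Q) = S ⊓ Subgroup.normalizer (T : Set G) ∧
      Nonempty (↥(S ⊓ Subgroup.normalizer (T : Set G) ⊓ Q) ≃* T) := by
  set Q' := Q.map (MulAut.conj g).toMonoidHom with hQ'
  have hodd : Odd (Nat.card ↥(Q ⊓ Q')) := hQ.2 g hg
  have hte : ∀ (R : Subgroup G) (h : G), R = Q.map (MulAut.conj h).toMonoidHom → ∀ x : G,
      x ∉ Subgroup.normalizer (R : Set G) → Odd (Nat.card ↥(R ⊓ R.map (MulAut.conj x).toMonoidHom)) := by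
    rintro R h rfl x hx
    have hxn : h⁻¹ * x * h ∉ Subgroup.normalizer (Q : Set G) := fun hn => hx (by
      rw [← Subgroup.map_equiv_normalizer_eq]
      exact ⟨h⁻¹ * x * h, hn, by simp [mul_assoc]⟩)
    have e : (Q.map (MulAut.conj h).toMonoidHom).map (MulAut.conj x).toMonoidHom =
        (Q.map (MulAut.conj (h⁻¹ * x * h)).toMonoidHom).map (MulAut.conj h).toMonoidHom := by
      rw [Subgroup.map_map, Subgroup.map_map]
      congr 1
      ext z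
      simp [mul_assoc]
    rw [e, ← Subgroup.map_inf _ _ _ (MulAut.conj h).injective,
      Subgroup.card_map_of_injective (MulAut.conj h).injective]
    exact hQ.2 _ hxn
  have e : Q ≃* Q' := Q.equivMapOfInjective _ (MulAut.conj g).injective
  obtain ⟨h1, h2, h3, h4, h5, h6⟩ := Tech.tight_pair hodd (hte Q' g rfl) e
    ⟨hT, hTsyl.1, hTsyl.2⟩ hT1 ⟨hS, hSsyl.1, hSsyl.2⟩ hTS
  refine ⟨h1, ?_, h2, h3, h6 ?_⟩
  · exact le_bot_iff.mp ((inf_le_inf_left T inf_le_right).trans h1.le)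
  set U := S ⊓ Subgroup.normalizer (T : Set G) ⊓ Q
  haveI : Fact (Nat.Prime 2) := ⟨Nat.prime_two⟩
  have hUp : IsPGroup 2 U := hSsyl.1.to_le (inf_le_left.trans inf_le_left)
  obtain ⟨U₁, hU₁, hUU₁⟩ := ConjFunctor.exists_isSylIn_ge (p := 2)
    (le_inf inf_le_right h4 : U ≤ Q ⊓ Subgroup.normalizer (Q' : Set G)) hUp
  have hU₁ne : U₁ ≠ ⊥ := fun h => hT1 (Subgroup.eq_bot_of_card_le _ (h5.trans
    ((Subgroup.card_le_of_le hUU₁).trans (by rw [h, Subgroup.card_bot]))))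
  obtain ⟨S₁, hS₁, hUS₁⟩ := ConjFunctor.exists_isSylIn_ge (p := 2)
    (le_sup_right : U₁ ≤ Q' ⊔ U₁) hU₁.2.1
  obtain ⟨-, -, -, g4, g5, -⟩ := Tech.tight_pair (Q := Q') (Q' := Q) (by rw [inf_comm]; exact hodd)
    (hte Q 1 (by convert (Subgroup.map_id Q).symm using 2; ext; simp)) e.symm hU₁ hU₁ne hS₁ hUS₁
  obtain ⟨x, -, hx⟩ := ConjFunctor.exists_conj_le_of_isSylIn ⟨hT, hTsyl.1, hTsyl.2⟩
    (le_inf inf_le_right g4) (hS₁.2.1.to_le (inf_le_left.trans inf_le_left))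
  refine (Subgroup.card_le_of_le hUU₁).trans (g5.trans ?_)
  rw [← ConjFunctor.cj_card x]
  exact Subgroup.card_le_of_le hx

end Cfsg.Agent.S1910
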