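import Cfsg.Statements.S1915
import Cfsg.Agent.Lib.Tech.RankOneTools
-- import your own Cfsg.Agent.* helpers here

set_option autoImplicit false
open Cfsg Cfsg.Agent.Tech.FourFree

namespace Cfsg.Agent.S1915

/-- Let A be a semisimple subgroup (A = E(A)) of a finite group and U a Klein four-group normalizing A. If the subgroup of A generated by the normalizers N_A(V) of the nontrivial subgroups V of U has 2-rank exactly 1, then A has 2-rank exactly 1. -/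
theorem result {G : Type*} [Group G] [Finite G] (A : Subgroup G) (hA : Cfsg.layer ↥A = ⊤)
    (U : Subgroup G) (hU : IsKleinFour U) (hUA : U ≤ Subgroup.normalizer (A : Set G))
    (hΓ : Cfsg.PRankLE 2 1 ↥(⨆ V : {V : Subgroup G // V ≤ U ∧ V ≠ ⊥}, A ⊓ Subgroup.normalizer ((V : Subgroup G) : Set G)) ∧
      ¬ Cfsg.PRankLE 2 0 ↥(⨆ V : {V : Subgroup G // V ≤ U ∧ V ≠ ⊥}, A ⊓ Subgroup.normalizer ((V : Subgroup G) : Set G))) :
    Cfsg.PRankLE 2 1 A ∧ ¬ Cfsg.PRankLE 2 0 A := by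
  classical
  haveI := hU
  set Γ : Subgroup G := ⨆ V : {V : Subgroup G // V ≤ U ∧ V ≠ ⊥}, A ⊓ Subgroup.normalizer ((V : Subgroup G) : Set G)
  have hΓA : Γ ≤ A := iSup_le fun V => inf_le_left
  have hexp : ∀ u ∈ U, u * u = 1 := fun u hu => congrArg Subtype.val (IsKleinFour.mul_self (⟨u, hu⟩ : ↥U))
  have hfix : ∀ u ∈ U, u ≠ 1 → ∀ a ∈ A, u * a * u⁻¹ = a → a ∈ Γ := by
    intro u hu hu1 a ha hua
    have hV : Subgroup.zpowers u ≤ U ∧ Subgroup.zpowers u ≠ ⊥ :=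
      ⟨Subgroup.zpowers_le.2 hu, fun e => hu1 (Subgroup.zpowers_eq_bot.1 e)⟩
    have hcom : a * u * a⁻¹ = u := mul_inv_eq_iff_eq_mul.2 (mul_inv_eq_iff_eq_mul.1 hua).symm
    refine le_iSup (fun V : {V : Subgroup G // V ≤ U ∧ V ≠ ⊥} => A ⊓ Subgroup.normalizer ((V : Subgroup G) : Set G))
      ⟨Subgroup.zpowers u, hV⟩ (Subgroup.mem_inf.2 ⟨ha, Subgroup.mem_normalizer_iff.2 fun m => ?_⟩)
    constructor
    · rintro ⟨i, rfl⟩
      exact ⟨i, by show u ^ i = a * u ^ i * a⁻¹; rw [← conj_zpow, hcom]⟩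
    · rintro ⟨i, hi⟩
      refine ⟨i, ?_⟩
      have hi' : u ^ i = a * m * a⁻¹ := hi
      show u ^ i = m
      refine mul_left_cancel (a := a) (mul_right_cancel (b := a⁻¹) ?_)
      rw [← hi', ← conj_zpow, hcom]
  obtain ⟨e, he2, he1⟩ := exists_invol_of_rank hΓ.2
  have heven : ∃ e ∈ A, e * e = 1 ∧ e ≠ 1 := ⟨e, hΓA e.2, congrArg Subtype.val he2, fun h => he1 (Subtype.ext h)⟩
  obtain ⟨u₁, u₂, h1, h2, h12⟩ : ∃ u₁ u₂ : ↥U, u₁ ≠ 1 ∧ u₂ ≠ 1 ∧ u₁ * u₂ ≠ 1 := by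
    haveI : Fintype ↥U := Fintype.ofFinite _
    have hc : Fintype.card ↥U = 4 := by rw [← Nat.card_eq_fintype_card]; exact IsKleinFour.card_four
    obtain ⟨a, ha⟩ := Fintype.exists_ne_of_one_lt_card (show 1 < Fintype.card ↥U by omega) 1
    have hcard : ((Finset.univ.erase (1 : ↥U)).erase a).card = 2 := by
      rw [Finset.card_erase_of_mem (by simp [ha]), Finset.card_erase_of_mem (Finset.mem_univ _), Finset.card_univ, hc]
    obtain ⟨b, hb⟩ := Finset.card_pos.1 (hcard ▸ (by norm_num : 0 < 2))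
    simp only [Finset.mem_erase, Finset.mem_univ, and_true] at hb
    refine ⟨a, b, ha, hb.2, fun h => hb.1 ?_⟩
    exact (eq_inv_of_mul_eq_one_right h).trans (inv_eq_of_mul_eq_one_left (IsKleinFour.mul_self a))
  refine rank_exact (rank_one A U (perfect_of_layer A hA) hUA u₁ u₂ u₁.2 u₂.2 (fun h => h1 (Subtype.ext h))
    (fun h => h2 (Subtype.ext h)) (fun h => h12 (Subtype.ext h)) hexp heven ?_) heven
  intro u hu hu1 a ha b hb ha2 hb2 ha1 hb1 hab hua hub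
  exact eq_of_rank_one hΓ.1 (hfix u hu hu1 a ha hua) (hfix u hu hu1 b hb hub) ha2 hb2 ha1 hb1 hab

end Cfsg.Agent.S1915
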