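import Cfsg.Statements.S1921
import Cfsg.Agent.Lib.Components.Layer

set_option autoImplicit false
open Cfsg

namespace Cfsg.Agent.S1921

/-- Let a be an involution of a finite group H and L a component of H with a L a⁻¹ ≠ L; put M = ⟨L, aLa⁻¹⟩ and let J be the subgroup generated by the elements x · a x a⁻¹ with x ∈ L (the diagonal). Then every element of M outside J·Z(M) generates M together with J. -/
theorem result {H : Type*} [Group H] [Finite H] (a : H) (ha : orderOf a = 2) (L : Subgroup H) (hL : Cfsg.IsComponent L)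
    (hLa : L.map (MulAut.conj a).toMonoidHom ≠ L) (x : H) (hxM : x ∈ L ⊔ L.map (MulAut.conj a).toMonoidHom)
    (hxJ : x ∉ Subgroup.closure {y : H | ∃ l ∈ L, y = l * (a * l * a⁻¹)} ⊔
      ((L ⊔ L.map (MulAut.conj a).toMonoidHom) ⊓ Subgroup.centralizer ((L ⊔ L.map (MulAut.conj a).toMonoidHom : Subgroup H) : Set H))) :
    Subgroup.closure {y : H | ∃ l ∈ L, y = l * (a * l * a⁻¹)} ⊔ Subgroup.zpowers x = L ⊔ L.map (MulAut.conj a).toMonoidHom := by
  set La := L.map (MulAut.conj a).toMonoidHom with hLa'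
  have hLac : Cfsg.IsComponent La := Components.isComponent_conj a hL
  have hcomm : ⁅L, La⁆ = ⊥ := (Components.component_eq_or_commute hL hLac).resolve_left hLa.symm
  have hc : ∀ u ∈ L, ∀ v ∈ La, u * v = v * u :=
    Components.commutator_eq_bot_iff_forall.1 hcomm
  set J := Subgroup.closure {y : H | ∃ l ∈ L, y = l * (a * l * a⁻¹)} with hJ
  set M := L ⊔ La with hM
  set K := J ⊔ Subgroup.zpowers x with hK
  have hconj : ∀ l ∈ L, a * l * a⁻¹ ∈ La := fun l hl => ⟨l, hl, rfl⟩
  have hdJ : ∀ l ∈ L, l * (a * l * a⁻¹) ∈ K := fun l hl =>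
    (le_sup_left : J ≤ K) (Subgroup.subset_closure ⟨l, hl, rfl⟩)
  have hKM : K ≤ M := by
    refine sup_le ((Subgroup.closure_le _).2 ?_) (Subgroup.zpowers_le.2 hxM)
    rintro _ ⟨l, hl, rfl⟩
    exact mul_mem ((le_sup_left : L ≤ M) hl) ((le_sup_right : La ≤ M) (hconj l hl))
  refine le_antisymm hKM ?_
  -- `L` normalises `K ⊓ L`
  have hnorm : L ≤ Subgroup.normalizer ((K ⊓ L : Subgroup H) : Set H) := by
    have key : ∀ l ∈ L, ∀ y ∈ K ⊓ L, l * y * l⁻¹ ∈ K ⊓ L := by
      intro l hl y hy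
      obtain ⟨hyK, hyL⟩ := Subgroup.mem_inf.1 hy
      refine Subgroup.mem_inf.2 ⟨?_, mul_mem (mul_mem hl hyL) (inv_mem hl)⟩
      have h1 := mul_mem (mul_mem (hdJ l hl) hyK) (inv_mem (hdJ l hl))
      have h2 : a * l * a⁻¹ * y = y * (a * l * a⁻¹) := (hc y hyL _ (hconj l hl)).symm
      have e : l * (a * l * a⁻¹) * y * (l * (a * l * a⁻¹))⁻¹ = l * y * l⁻¹ := by
        calc l * (a * l * a⁻¹) * y * (l * (a * l * a⁻¹))⁻¹
            = l * ((a * l * a⁻¹) * y) * (a * l * a⁻¹)⁻¹ * l⁻¹ := by group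
          _ = l * y * l⁻¹ := by rw [h2]; group
      rwa [e] at h1
    intro l hl
    refine Subgroup.mem_normalizer_iff.2 fun y => ⟨key l hl y, fun hy => ?_⟩
    simpa [mul_assoc] using key l⁻¹ (inv_mem hl) _ hy
  have hLK : L ≤ K := by
    rcases Components.isQuasisimple_normalized_cases hL.2 hnorm with h | h
    · exact h.trans inf_le_left
    · exfalso
      apply hxJ
      have hLn : L ≤ Subgroup.normalizer (La : Set H) := by
        intro u hu
        refine Subgroup.mem_normalizer_iff.2 fun v => ⟨fun hv => ?_, fun hv => ?_⟩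
        · rw [hc u hu v hv, mul_inv_cancel_right]; exact hv
        · have := hc u hu _ hv
          have e : v = u * v * u⁻¹ := by
            calc v = u⁻¹ * (u * v * u⁻¹ * u) := by group
              _ = u⁻¹ * (u * (u * v * u⁻¹)) := by rw [this]
              _ = u * v * u⁻¹ := by group
          rw [e]; exact hv
      have hx' := hxM
      rw [← SetLike.mem_coe, hM, Subgroup.coe_mul_of_left_le_normalizer_right _ _ hLn] at hx'
      obtain ⟨l₁, hl₁, _, ⟨m, hm, rfl⟩, hxe⟩ := hx'
      change l₁ * (a * m * a⁻¹) = x at hxe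
      set y := x * (m * (a * m * a⁻¹))⁻¹ with hy
      have hyL : y = l₁ * m⁻¹ := by
        rw [hy, ← hxe]; group
      have hyK : y ∈ K ⊓ L := Subgroup.mem_inf.2
        ⟨mul_mem ((le_sup_right : _ ≤ K) (Subgroup.mem_zpowers x)) (inv_mem (hdJ m hm)),
          hyL ▸ mul_mem hl₁ (inv_mem hm)⟩
      have hyc : y ∈ M ⊓ Subgroup.centralizer (M : Set H) := by
        have hyL' := (Subgroup.mem_inf.1 hyK).2
        refine Subgroup.mem_inf.2 ⟨(le_sup_left : L ≤ M) hyL', ?_⟩
        have h1 : M ≤ Subgroup.centralizer {y} := sup_le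
          (fun u hu => Subgroup.mem_centralizer_singleton_iff.2
            (Subgroup.mem_centralizer_iff.1 (h ⟨hyK, hyL'⟩) u hu))
          (fun v hv => Subgroup.mem_centralizer_singleton_iff.2 (hc y hyL' v hv).symm)
        exact Subgroup.mem_centralizer_iff.2 fun v hv =>
          Subgroup.mem_centralizer_singleton_iff.1 (h1 hv)
      have e : x = y * (m * (a * m * a⁻¹)) := by rw [hy]; group
      rw [e]
      exact mul_mem ((le_sup_right : _ ≤ J ⊔ _) hyc)
        ((le_sup_left : J ≤ J ⊔ _) (Subgroup.subset_closure ⟨m, hm, rfl⟩))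
  refine sup_le hLK ?_
  rintro _ ⟨l, hl, rfl⟩
  have := mul_mem (inv_mem (hLK hl)) (hdJ l hl)
  rw [inv_mul_cancel_left] at this
  exact this

end Cfsg.Agent.S1921
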