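import Cfsg.Statements.S1922
import Cfsg.Agent.Lib.Tech.IsoPointInvol

set_option autoImplicit false
open Cfsg

namespace Cfsg.Agent.S1922

/-- Let z be an involution of a finite group G and H a proper subgroup such that z lies in gHg⁻¹ exactly when g ∈ H. Then the following are equivalent: (1) for every conjugate t ≠ z of z commuting with z, the product zt lies in gHg⁻¹ exactly when g ∈ H; (2) z lies in the centre of some Sylow 2-subgroup of G, and for every conjugate t ≠ z of z commuting with z, the centralizer of zt is contained in H. -/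
theorem result {G : Type*} [Group G] [Finite G] (z : G) (hz : orderOf z = 2) (H : Subgroup G) (hH : H ≠ ⊤)
    (h0 : ∀ g : G, z ∈ H.map (MulAut.conj g).toMonoidHom ↔ g ∈ H) :
    (∀ t : G, IsConj z t → t ≠ z → t * z = z * t → ∀ g : G, z * t ∈ H.map (MulAut.conj g).toMonoidHom ↔ g ∈ H) ↔
      ((∃ P : Sylow 2 G, z ∈ (Subgroup.center ↥(P : Subgroup G)).map (P : Subgroup G).subtype) ∧
        ∀ t : G, IsConj z t → t ≠ z → t * z = z * t → Subgroup.centralizer ({z * t} : Set G) ≤ H) := by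
  have hz2 : z * z = 1 := by rw [← sq, ← hz, pow_orderOf_eq_one]
  have hz1 : z ≠ 1 := by rintro rfl; simp at hz
  simp only [IsoPointInvol.mem_map_conj] at h0 ⊢
  have hzH : z ∈ H := by simpa using (h0 1).2 (one_mem H)
  have hCH : ∀ c : G, c * z = z * c → c ∈ H := fun c hc => by
    apply (h0 c).1
    rw [mul_assoc, ← hc, inv_mul_cancel_left]; exact hzH
  have : Fact (Nat.Prime 2) := ⟨Nat.prime_two⟩
  constructor
  · intro h1
    refine ⟨?_, ?_⟩
    · have hodd := IsoPointInvol.index_odd (Nat.card G) G rfl z H hz2 hz1 hH h0 h1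
      obtain ⟨P₀⟩ : Nonempty (Sylow 2 ↥(Subgroup.centralizer {z})) := inferInstance
      set C := Subgroup.centralizer {z} with hC
      set S : Subgroup G := (P₀ : Subgroup ↥C).map C.subtype with hS
      have hi : ¬ 2 ∣ S.index := by
        rw [hS, Subgroup.index_map_subtype]
        exact Nat.prime_two.not_dvd_mul P₀.not_dvd_index hodd
      refine ⟨(P₀.isPGroup'.map C.subtype).toSylow hi, ?_⟩
      have hzC : z ∈ C := Subgroup.mem_centralizer_singleton_iff.2 rfl
      let z' : ↥C := ⟨z, hzC⟩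
      have hcen : ∀ c : ↥C, c * z' = z' * c := fun c =>
        Subtype.ext (Subgroup.mem_centralizer_singleton_iff.1 c.2)
      have hnorm : (Subgroup.zpowers z').Normal := by
        refine ⟨fun x hx c => ?_⟩
        obtain ⟨k, rfl⟩ := Subgroup.mem_zpowers_iff.1 hx
        rw [((show Commute c z' from hcen c).zpow_right k).eq, mul_inv_cancel_right]
        exact zpow_mem (Subgroup.mem_zpowers z') k
      have hp : IsPGroup 2 ↥(Subgroup.zpowers z') := by
        refine IsPGroup.of_card (n := 1) ?_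
        rw [Nat.card_zpowers, pow_one]
        exact orderOf_eq_prime (Subtype.ext (by simpa [sq] using hz2))
          (fun h => hz1 (congrArg Subtype.val h))
      have hsup := P₀.is_maximal' (P₀.isPGroup'.to_sup_of_normal_right hp) le_sup_left
      have hzS : z ∈ S :=
        ⟨z', hsup ▸ (le_sup_right : _ ≤ (P₀ : Subgroup ↥C) ⊔ _) (Subgroup.mem_zpowers z'), rfl⟩
      refine ⟨⟨z, hzS⟩, Subgroup.mem_center_iff.2 fun s => Subtype.ext ?_, rfl⟩
      exact Subgroup.mem_centralizer_singleton_iff.1 (Subgroup.map_subtype_le _ s.2)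
    · intro t ht htne htc c hc
      have hw : z * t ∈ H := by simpa using (h1 t ht htne htc 1).2 (one_mem H)
      apply (h1 t ht htne htc c).1
      rw [mul_assoc, ← Subgroup.mem_centralizer_singleton_iff.1 hc, inv_mul_cancel_left]
      exact hw
  · rintro ⟨⟨P, hzP⟩, h2⟩ t ht htne htc g
    obtain ⟨⟨z₀, hz₀⟩, hcen, rfl⟩ := hzP
    have hPC : ∀ p ∈ (P : Subgroup G), p * z₀ = z₀ * p := fun p hp =>
      congrArg Subtype.val (Subgroup.mem_center_iff.1 hcen ⟨p, hp⟩)
    have hPH : (P : Subgroup G) ≤ H := fun p hp => hCH p (hPC p hp)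
    change t ≠ z₀ at htne
    change t * z₀ = z₀ * t at htc
    change IsConj z₀ t at ht
    change z₀ * z₀ = 1 at hz2
    change g⁻¹ * (z₀ * t) * g ∈ H ↔ g ∈ H
    have hwH : z₀ * t ∈ H := mul_mem hzH (hCH t htc)
    refine ⟨fun hg => ?_, fun hg => mul_mem (mul_mem (inv_mem hg) hwH) hg⟩
    set v : ↥H := ⟨g⁻¹ * (z₀ * t) * g, hg⟩ with hv
    have ht2 : t * t = 1 := by
      obtain ⟨a, rfl⟩ := isConj_iff.1 ht
      calc a * z₀ * a⁻¹ * (a * z₀ * a⁻¹) = a * (z₀ * z₀) * a⁻¹ := by group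
        _ = 1 := by rw [hz2]; group
    have hv2 : v * v = 1 := Subtype.ext (by
      show g⁻¹ * (z₀ * t) * g * (g⁻¹ * (z₀ * t) * g) = 1
      calc g⁻¹ * (z₀ * t) * g * (g⁻¹ * (z₀ * t) * g) = g⁻¹ * (z₀ * (t * z₀) * t) * g := by group
        _ = g⁻¹ * ((z₀ * z₀) * (t * t)) * g := by rw [htc]; group
        _ = 1 := by rw [hz2, ht2]; group)
    have hvp : IsPGroup 2 ↥(Subgroup.zpowers v) := by
      intro x
      obtain ⟨k, hk⟩ := Subgroup.mem_zpowers_iff.1 x.2
      refine ⟨1, Subtype.ext ?_⟩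
      rw [SubgroupClass.coe_pow, OneMemClass.coe_one, pow_one, ← hk, ← zpow_natCast, ← zpow_mul,
        mul_comm, zpow_mul, zpow_natCast, sq, hv2, one_zpow]
    obtain ⟨Q, hQ⟩ := hvp.exists_le_sylow
    obtain ⟨h, hh⟩ := MulAction.exists_smul_eq ↥H Q (P.subtype hPH)
    have hmem : h * v * h⁻¹ ∈ (P.subtype hPH : Subgroup ↥H) := by
      rw [← hh, Sylow.coe_subgroup_smul]
      exact ⟨v, hQ (Subgroup.mem_zpowers v), by simp [MulAut.smul_def]⟩
    have hc := hPC _ (show ((h * v * h⁻¹ : ↥H) : G) ∈ (P : Subgroup G) from hmem)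
    set x : G := g * (h : G)⁻¹ with hx
    have hc' : x⁻¹ * (z₀ * t) * x * z₀ = z₀ * (x⁻¹ * (z₀ * t) * x) := by
      have e : ((h * v * h⁻¹ : ↥H) : G) = x⁻¹ * (z₀ * t) * x := by
        rw [hv, hx]; push_cast; group
      rwa [e] at hc
    have hm : x * z₀ * x⁻¹ ∈ Subgroup.centralizer ({z₀ * t} : Set G) := by
      rw [Subgroup.mem_centralizer_singleton_iff]
      calc x * z₀ * x⁻¹ * (z₀ * t) = x * (z₀ * (x⁻¹ * (z₀ * t) * x)) * x⁻¹ := by group
        _ = x * (x⁻¹ * (z₀ * t) * x * z₀) * x⁻¹ := by rw [hc']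
        _ = z₀ * t * (x * z₀ * x⁻¹) := by group
    have hxH : x⁻¹ ∈ H := (h0 x⁻¹).1 (by rw [inv_inv]; exact h2 t ht htne htc hm)
    have e : g = x⁻¹⁻¹ * (h : G) := by rw [hx]; group
    rw [e]
    exact mul_mem (inv_mem hxH) h.2

end Cfsg.Agent.S1922
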