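import Cfsg.Statements.S1924
import Cfsg.Agent.Lib.Tech.SignTransfer

set_option autoImplicit false
open Cfsg
open Cfsg.Agent

namespace Cfsg.Agent.S1924

/-- A consequence of Thompson's transfer lemma. Let G be a finite group, L a subgroup with O²(L) = L, T a Sylow 2-subgroup of L and S a Sylow 2-subgroup of G containing T. Suppose D ≤ S is a dihedral subgroup of order at least 4 (the four-group counts) with D ∩ T = 1 and S = TD as a set of products (so |S| = |T|·|D|), and C ≤ D is cyclic of index 2 in D. If no involution of D outside C is G-conjugate to an involution of the subgroup generated by T and C, and the involution of C is not G-conjugate to any involution of T, then G has a normal subgroup K, containing every Sylow 2-subgroup of L as a Sylow 2-subgroup, with G = KD. -/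
theorem result {G : Type*} [Group G] [Finite G] (L T S D C : Subgroup G) (hL : Cfsg.pResidual 2 ↥L = ⊤)
    (hTL : T ≤ L) (hT2 : IsPGroup 2 T) (hTsyl : ¬ 2 ∣ T.relIndex L)
    (hS2 : IsPGroup 2 S) (hSsyl : ¬ 2 ∣ S.index) (hTS : T ≤ S)
    (hDS : D ≤ S) (hDih : ∃ n : ℕ, 2 ≤ n ∧ Nonempty (↥D ≃* DihedralGroup n)) (hDT : D ⊓ T = ⊥) (hTD : T ⊔ D = S) (hTDc : Nat.card T * Nat.card D = Nat.card S)
    (hCD : C ≤ D) (hC : IsCyclic ↥C) (hCi : C.relIndex D = 2)
    (h1 : ∀ x ∈ D, x ∉ C → orderOf x = 2 → ∀ g : G, g * x * g⁻¹ ∈ T ⊔ C → False)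
    (h2 : ∀ c ∈ C, orderOf c = 2 → ∀ g : G, g * c * g⁻¹ ∈ T → False) :
    ∃ K : Subgroup G, K.Normal ∧ K ⊔ D = ⊤ ∧
      ∀ T' : Subgroup G, T' ≤ L → IsPGroup 2 T' → ¬ 2 ∣ T'.relIndex L → T' ≤ K ∧ ¬ 2 ∣ T'.relIndex K := by
  haveI : Fact (Nat.Prime 2) := ⟨Nat.prime_two⟩
  obtain ⟨n, hn2, ⟨e⟩⟩ := hDih
  haveI : NeZero n := ⟨by omega⟩
  have hcardD : Nat.card D = 2 * n := by rw [Nat.card_congr e.toEquiv, DihedralGroup.nat_card]
  have hC2 : Nat.card C * 2 = Nat.card D := by
    rw [← hCi, ← Subgroup.relIndex_bot_left C, ← Subgroup.relIndex_bot_left D,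
      Subgroup.relIndex_mul_relIndex _ _ _ bot_le hCD]
  have hinv : ∀ y ∈ D, y ∉ C → orderOf y = 2 := by
    intro y hy hyC
    refine orderOf_eq_prime ?_ fun h => hyC (h ▸ one_mem C)
    by_contra hy2
    obtain ⟨c, hc⟩ := IsCyclic.exists_generator (α := C)
    have hoc : orderOf (c : G) = n := by
      rw [Subgroup.orderOf_coe, orderOf_eq_card_of_forall_mem_zpowers hc]; omega
    rcases hcase : e ⟨y, hy⟩ with i | i
    · rcases hcase' : e ⟨c, hCD c.2⟩ with j | j
      · refine hyC ?_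
        have ho : addOrderOf j = n := by
          have h3 := MulEquiv.orderOf_eq e (⟨c, hCD c.2⟩ : D)
          rwa [hcase', Subgroup.orderOf_mk, hoc, DihedralGroup.orderOf_r, ← ZMod.addOrderOf_coe _ (NeZero.ne n),
            ZMod.natCast_zmod_val] at h3
        have htop : AddSubgroup.zmultiples j = ⊤ :=
          AddSubgroup.eq_top_of_card_eq _ (by rw [Nat.card_zmultiples, ho, Nat.card_zmod])
        obtain ⟨l, hl⟩ := AddSubgroup.mem_zmultiples_iff.mp (htop ▸ AddSubgroup.mem_top i)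
        have h4 : (⟨y, hy⟩ : D) = (⟨c, hCD c.2⟩ : D) ^ l := by
          apply e.injective
          rw [map_zpow, hcase, hcase', DihedralGroup.r_zpow, ← hl, zsmul_eq_mul, mul_comm]
        have h5 := congrArg Subtype.val h4
        simp only [SubgroupClass.coe_zpow] at h5
        rw [h5]
        exact zpow_mem c.2 l
      · have h3 := MulEquiv.orderOf_eq e (⟨c, hCD c.2⟩ : D)
        rw [hcase', Subgroup.orderOf_mk, hoc, DihedralGroup.orderOf_sr] at h3
        subst h3
        refine hy2 ?_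
        have h6 : (⟨y, hy⟩ : D) ^ 2 = 1 := by
          apply e.injective
          rw [map_pow, hcase, DihedralGroup.r_pow, map_one, DihedralGroup.one_def]
          congr 1
        simpa using congrArg Subtype.val h6
    · refine hy2 ?_
      have h6 : (⟨y, hy⟩ : D) ^ 2 = 1 := by
        apply e.injective
        rw [map_pow, hcase, map_one, sq, DihedralGroup.sr_mul_self]
      simpa using congrArg Subtype.val h6
  obtain ⟨x₀, hx₀D, hx₀C⟩ : ∃ x ∈ D, x ∉ C := by
    by_contra hh
    push Not at hh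
    have := Subgroup.card_le_of_le (show D ≤ C from hh)
    have : 0 < Nat.card C := Nat.card_pos
    omega
  set H0 := T ⊔ C with hH0
  have hH0S : H0 ≤ S := sup_le hTS (hCD.trans hDS)
  have hx₀H : x₀ ∉ H0 := fun h => h1 x₀ hx₀D hx₀C (hinv x₀ hx₀D hx₀C) 1 (by simpa using h)
  have hTCdisj : Disjoint T C := disjoint_iff.mpr (eq_bot_iff.mpr fun z hz =>
    hDT ▸ Subgroup.mem_inf.mpr ⟨hCD (Subgroup.mem_inf.mp hz).2, (Subgroup.mem_inf.mp hz).1⟩)
  have hcardS : Nat.card S = Nat.card T * Nat.card C * 2 := by rw [← hTDc, ← hC2, mul_assoc]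
  have hH0card : Nat.card H0 = Nat.card T * Nat.card C := by
    refine le_antisymm ?_ ?_
    · obtain ⟨a, ha⟩ := hS2.exists_card_eq
      obtain ⟨b, hb⟩ := (hS2.to_le hH0S).exists_card_eq
      have hlt : Nat.card H0 < Nat.card S := by
        refine lt_of_le_of_ne (Subgroup.card_le_of_le hH0S) fun he => hx₀H ?_
        rw [Subgroup.eq_of_le_of_card_ge hH0S he.ge]
        exact hDS hx₀D
      rw [ha, hb] at hlt
      have hba : b + 1 ≤ a := (Nat.pow_lt_pow_iff_right (by norm_num)).mp hlt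
      have : 2 ^ (b + 1) ≤ 2 ^ a := Nat.pow_le_pow_right (by norm_num) hba
      rw [pow_succ, ← hb, ← ha, hcardS] at this
      omega
    · rw [← Nat.card_prod]
      exact Nat.card_le_card_of_injective
        (fun q : T × C => (⟨q.1 * q.2, mul_mem (Subgroup.mem_sup_left q.1.2) (Subgroup.mem_sup_right q.2.2)⟩ : H0))
        fun a b h => Subgroup.mul_injective_of_disjoint hTCdisj (congrArg Subtype.val h)
  have hSodd : Odd S.index := Nat.odd_iff.mpr (by omega)
  have hidx0 : H0.index = 2 ^ (0 + 1) * S.index := by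
    have h2' := H0.card_mul_index
    rw [← S.card_mul_index, hH0card, hcardS] at h2'
    rw [pow_one]
    refine Nat.eq_of_mul_eq_mul_left (show 0 < Nat.card T * Nat.card C from Nat.mul_pos Nat.card_pos Nat.card_pos) ?_
    rw [h2', mul_assoc]
  set f := Tech.cosetSign H0 with hf
  have hfneg : ∀ y ∈ D, y ∉ C → f y = -1 := fun y hy hyC =>
    Tech.cosetSign_eq_neg_one H0 y (k := 0)
      (by rw [show 2 ^ (0 + 1) = 2 from rfl, ← hinv y hy hyC, pow_orderOf_eq_one])
      ⟨_, hSodd, hidx0⟩ (fun g hg => h1 y hy hyC (hinv y hy hyC) g (by simpa using hg))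
  have hfC : ∀ c ∈ C, f c = 1 := by
    intro c hc
    have h3 : x₀ * c ∉ C := fun h => hx₀C (by simpa using mul_mem h (inv_mem hc))
    have h4 := hfneg _ (mul_mem hx₀D (hCD hc)) h3
    rw [map_mul, hfneg x₀ hx₀D hx₀C] at h4
    simpa using h4
  have hLR : L ≤ Cfsg.pResidual 2 G := by
    intro l hl
    have h5 : (⟨l, hl⟩ : L) ∈ Cfsg.pResidual 2 L := hL ▸ Subgroup.mem_top _
    exact Transfer.map_subtype_pResidual_le (p := 2) L ⟨⟨l, hl⟩, h5, rfl⟩
  have hTR : T ≤ Cfsg.pResidual 2 G := hTL.trans hLR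
  have hRf : Cfsg.pResidual 2 G ≤ f.ker := Tech.pResidual_le_ker_units f
  haveI hCp : IsPGroup 2 C := hS2.to_le (hCD.trans hDS)
  obtain ⟨k, hk⟩ := hCp.exists_card_eq
  obtain ⟨c, hc⟩ := IsCyclic.exists_generator (α := C)
  have hoc : orderOf (c : G) = 2 ^ k := by
    rw [Subgroup.orderOf_coe, orderOf_eq_card_of_forall_mem_zpowers hc, hk]
  have hkercard : Nat.card f.ker * 2 = Nat.card G := by
    have hsurj : Function.Surjective f := by
      intro u
      rcases Int.units_eq_one_or u with rfl | rfl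
      · exact ⟨1, map_one f⟩
      · exact ⟨_, hfneg x₀ hx₀D hx₀C⟩
    rw [← f.ker.card_mul_index, Subgroup.index_ker, MonoidHom.range_eq_top.mpr hsurj,
      Subgroup.card_top, Nat.card_eq_fintype_card (α := ℤˣ), Fintype.card_units_int]
  obtain ⟨H', hRH', m, hm, hH'⟩ := Tech.residual_card_le_of_cyclic T hT2 k f.ker c
    (hTR.trans hRf) (hfC c c.2) hoc
    (fun g _ hne hmem => by
      refine h2 _ (pow_mem c.2 _) (orderOf_eq_prime ?_ hne) g hmem
      rcases k with _ | j
      · refine absurd ?_ hne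
        rw [orderOf_eq_one_iff.mp (hoc.trans (pow_zero 2)), one_pow]
      · rw [Nat.add_sub_cancel, ← pow_mul, ← pow_succ, ← hoc, pow_orderOf_eq_one])
    ⟨S.index, hSodd, by
      refine Nat.eq_of_mul_eq_mul_right two_pos ?_
      rw [hkercard, ← S.card_mul_index, hcardS, hk]; ring⟩
    hRf hTR
  set K := Cfsg.pResidual 2 G with hK
  haveI := Transfer.pResidual_characteristic G 2
  refine ⟨K, inferInstance, ?_, fun T' hT'L hT'2 hT' => ?_⟩
  · obtain ⟨P, hP⟩ : ∃ P : Sylow 2 G, (P : Subgroup G) = S := ⟨hS2.toSylow hSsyl, rfl⟩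
    rw [eq_top_iff, ← Transfer.pResidual_sup_sylow P, hP, ← hTD]
    exact sup_le le_sup_left (sup_le (hTR.trans le_sup_left) le_sup_right)
  · have hT'K : T' ≤ K := hT'L.trans hLR
    refine ⟨hT'K, ?_⟩
    obtain ⟨a, ha⟩ := hT2.exists_card_eq
    obtain ⟨b, hb⟩ := hT'2.exists_card_eq
    have hrel : ∀ U V : Subgroup G, U ≤ V → Nat.card V = Nat.card U * U.relIndex V :=
      fun U V h => by
        rw [← Subgroup.relIndex_bot_left U, ← Subgroup.relIndex_bot_left V,
          Subgroup.relIndex_mul_relIndex _ _ _ bot_le h]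
    have hab : a = b := by
      have e1 := hrel T L hTL
      rw [hrel T' L hT'L, ha, hb] at e1
      rcases lt_trichotomy a b with h | h | h
      · exfalso
        obtain ⟨d, rfl⟩ : ∃ d, b = a + 1 + d := ⟨b - a - 1, by omega⟩
        exact hTsyl ⟨2 ^ d * T'.relIndex L, Nat.eq_of_mul_eq_mul_left (show 0 < 2 ^ a by positivity)
          (by rw [← e1, pow_add, pow_add]; ring)⟩
      · exact h
      · exfalso
        obtain ⟨d, rfl⟩ : ∃ d, a = b + 1 + d := ⟨a - b - 1, by omega⟩
        exact hT' ⟨2 ^ d * T.relIndex L, Nat.eq_of_mul_eq_mul_left (show 0 < 2 ^ b by positivity)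
          (by rw [e1, pow_add, pow_add]; ring)⟩
    intro hdvd
    have h3 := (hrel T' K hT'K)
    have h4 : Nat.card T' * 2 ∣ Nat.card T * m := by
      rw [← hH']
      exact (h3 ▸ Nat.mul_dvd_mul_left _ hdvd).trans (Subgroup.card_dvd_of_le hRH')
    rw [ha, hb, hab] at h4
    exact (Nat.not_even_iff_odd.mpr hm) (even_iff_two_dvd.mpr
      ((Nat.mul_dvd_mul_iff_left (show 0 < 2 ^ b by positivity)).mp h4))

end Cfsg.Agent.S1924
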