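import Cfsg.Statements.S1935
import Cfsg.Agent.Lib.TwoSubnormal.Step
import Cfsg.Agent.Lib.Components.FFModule
import Mathlib.Data.ZMod.Basic

set_option autoImplicit false
open Cfsg

namespace Cfsg.Agent.S1935

open Cfsg.Agent.TwoSubnormal
open scoped IsMulCommutative commutatorElement

variable {Ω : Type*} [Group Ω] {p : ℕ} {V G : Subgroup Ω}

/-- The operators: `G` acts on `V × ZMod p`, trivially on the second factor. -/
noncomputable def act [IsMulCommutative ↥V] (hGV : G ≤ Subgroup.normalizer (V : Set Ω)) :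
    ↥G →* AddMonoid.End (Additive ↥V × ZMod p) where
  toFun g :=
    { toFun := fun m => (Additive.ofMul (⟨(g : Ω) * ((Additive.toMul m.1 : ↥V) : Ω) * (g : Ω)⁻¹,
          (Subgroup.mem_normalizer_iff.mp (hGV g.2) _).mp (Additive.toMul m.1).2⟩ : ↥V), m.2)
      map_zero' := by
        refine Prod.ext (Subtype.ext ?_) rfl
        change (g : Ω) * 1 * (g : Ω)⁻¹ = 1
        simp
      map_add' := fun m n => by
        refine Prod.ext (Subtype.ext ?_) rfl
        change (g : Ω) * (((Additive.toMul m.1 : ↥V) : Ω) * ((Additive.toMul n.1 : ↥V) : Ω)) * (g : Ω)⁻¹ =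
          ((g : Ω) * ((Additive.toMul m.1 : ↥V) : Ω) * (g : Ω)⁻¹) *
            ((g : Ω) * ((Additive.toMul n.1 : ↥V) : Ω) * (g : Ω)⁻¹)
        group }
  map_one' := by
    refine AddMonoidHom.ext fun m => Prod.ext (Subtype.ext ?_) rfl
    change (1 : Ω) * ((Additive.toMul m.1 : ↥V) : Ω) * (1 : Ω)⁻¹ =
      ((Additive.toMul m.1 : ↥V) : Ω)
    simp
  map_mul' g h := by
    refine AddMonoidHom.ext fun m => Prod.ext (Subtype.ext ?_) rfl
    change (g : Ω) * (h : Ω) * _ * ((g : Ω) * (h : Ω))⁻¹ =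
      (g : Ω) * ((h : Ω) * _ * (h : Ω)⁻¹) * (g : Ω)⁻¹
    group

/-- The projection to the second factor. -/
def proj [IsMulCommutative ↥V] : AddMonoid.End (Additive ↥V × ZMod p) :=
  (AddMonoidHom.inr (Additive ↥V) (ZMod p)).comp (AddMonoidHom.snd (Additive ↥V) (ZMod p))

theorem act_apply_eq_self_iff [IsMulCommutative ↥V] (hGV : G ≤ Subgroup.normalizer (V : Set Ω))
    (g : ↥G) (m : Additive ↥V × ZMod p) :
    act hGV g m = m ↔ (g : Ω) * ((Additive.toMul m.1 : ↥V) : Ω) = ((Additive.toMul m.1 : ↥V) : Ω) * (g : Ω) := by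
  rw [← mul_inv_eq_iff_eq_mul]
  constructor
  · intro h
    exact congrArg (fun z : Additive ↥V × ZMod p => ((Additive.toMul z.1 : ↥V) : Ω)) h
  · intro h
    exact Prod.ext (Subtype.ext h) rfl

theorem kann_card [IsMulCommutative ↥V] [Finite Ω] [Fact p.Prime] (hV : ∀ v ∈ V, v ^ p = 1)
    (hGV : G ≤ Subgroup.normalizer (V : Set Ω)) (A : Subgroup ↥G) :
    Nat.card (kann (act (p := p) hGV) proj A) =
      Nat.card ↥(V ⊓ Subgroup.centralizer ((A.map G.subtype : Subgroup Ω) : Set Ω)) * p := by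
  set C := V ⊓ Subgroup.centralizer ((A.map G.subtype : Subgroup Ω) : Set Ω)
  have hfix : ∀ m : Additive ↥V × ZMod p,
      ((Additive.toMul m.1 : ↥V) : Ω) ∈ C ↔ ∀ a ∈ A, act hGV a m = m := by
    intro m
    constructor
    · intro h a ha
      rw [act_apply_eq_self_iff]
      exact h.2 a ⟨a, ha, rfl⟩
    · intro h
      refine ⟨(Additive.toMul m.1).2, ?_⟩
      rintro _ ⟨a, ha, rfl⟩
      exact (act_apply_eq_self_iff hGV a m).mp (h a ha)
  have hpm : ∀ m : Additive ↥V × ZMod p, (p : ℕ) • m = 0 := by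
    intro m
    refine Prod.ext (Subtype.ext ?_) (by simp)
    change (((Additive.toMul m.1) ^ p : ↥V) : Ω) = 1
    rw [SubgroupClass.coe_pow]
    exact hV _ (Additive.toMul m.1).2
  haveI : NeZero p := ⟨(Fact.out : p.Prime).ne_zero⟩
  let S := {m : Additive ↥V × ZMod p // ((Additive.toMul m.1 : ↥V) : Ω) ∈ C}
  have h1 : Nat.card (kann (act (p := p) hGV) proj A) = Nat.card S := by
    refine Nat.card_congr (Equiv.ofBijective
      (fun r => (⟨(r.1 : AddMonoid.End _) (0, 1), (hfix _).mpr fun a ha => ?_⟩ : S)) ⟨?_, ?_⟩)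
    · have := DFunLike.congr_fun (r.2.1 a ha) ((0, 1) : Additive ↥V × ZMod p)
      exact sub_eq_zero.mp this
    · intro r r' h
      have h' : (r.1 : AddMonoid.End _) (0, 1) = r'.1 (0, 1) := congrArg Subtype.val h
      refine Subtype.ext (AddMonoidHom.ext fun m => ?_)
      have hr : ∀ q : kann (act (p := p) hGV) proj A,
          (q.1 : AddMonoid.End _) m = m.2.val • q.1 (0, 1) := by
        intro q
        rw [← map_nsmul]
        conv_lhs => rw [← q.2.2]
        change q.1 (0, m.2) = _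
        congr 1
        refine Prod.ext (by simp) ?_
        simp
      exact (hr r).trans ((congrArg (fun z => m.2.val • z) h').trans (hr r').symm)
    · rintro ⟨s, hs⟩
      let f : ZMod p →+ Additive ↥V × ZMod p :=
        ZMod.lift p ⟨zmultiplesHom _ s, by
          simp only [zmultiplesHom_apply, natCast_zsmul]; exact hpm s⟩
      have hf : f 1 = s := by
        have := ZMod.lift_coe p ⟨zmultiplesHom _ s, by
          simp only [zmultiplesHom_apply, natCast_zsmul]; exact hpm s⟩ 1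
        simpa using this
      refine ⟨⟨f.comp (AddMonoidHom.snd _ _), fun a ha => AddMonoidHom.ext fun m => ?_, ?_⟩, ?_⟩
      · change act hGV a (f m.2) - f m.2 = 0
        rw [sub_eq_zero, ← ZMod.natCast_zmod_val m.2, ← nsmul_one, map_nsmul, hf, map_nsmul,
          (hfix s).mp hs a ha]
      · exact AddMonoidHom.ext fun m => rfl
      · exact Subtype.ext hf
  rw [h1]
  let e : S ≃ ↥C × ZMod p :=
    { toFun := fun s => (⟨((Additive.toMul s.1.1 : ↥V) : Ω), s.2⟩, s.1.2)
      invFun := fun q => ⟨(Additive.ofMul ⟨(q.1 : Ω), q.1.2.1⟩, q.2), q.1.2⟩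
      left_inv := fun s => rfl
      right_inv := fun q => rfl }
  rw [Nat.card_congr e, Nat.card_prod, Nat.card_zmod]

/-- Let p ≥ 5 be a prime and, inside an ambient finite group, let G be a p-subgroup acting faithfully by conjugation on an elementary abelian p-subgroup V that it normalizes (only the identity of G centralizes V). Suppose V is an F-module for G: some nontrivial elementary abelian subgroup E of G satisfies #E · #C_V(E) ≥ #V. Then G contains such an offender A that moreover acts quadratically on V ([V, A, A] = 1) and is normal in its normal closure in G. -/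
theorem result {Ω : Type*} [Group Ω] [Finite Ω] (p : ℕ) [Fact p.Prime] (hp : 5 ≤ p) (V G : Subgroup Ω) (hV : Cfsg.IsElementaryAbelian p V) (hG : IsPGroup p ↥G) (hGV : G ≤ Subgroup.normalizer (V : Set Ω)) (hfaith : G ⊓ Subgroup.centralizer (V : Set Ω) = ⊥) (hF : ∃ E : Subgroup Ω, E ≤ G ∧ E ≠ ⊥ ∧ Cfsg.IsElementaryAbelian p E ∧ Nat.card ↥V ≤ Nat.card ↥E * Nat.card ↥(V ⊓ Subgroup.centralizer (E : Set Ω))) : ∃ A : Subgroup Ω, A ≤ G ∧ A ≠ ⊥ ∧ Cfsg.IsElementaryAbelian p A ∧ Nat.card ↥V ≤ Nat.card ↥A * Nat.card ↥(V ⊓ Subgroup.centralizer (A : Set Ω)) ∧ ⁅⁅V, A⁆, A⁆ = ⊥ ∧ ∀ g ∈ Subgroup.closure {x : Ω | ∃ h ∈ G, ∃ a ∈ A, x = h * a * h⁻¹}, ∀ a ∈ A, g * a * g⁻¹ ∈ A := by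
  classical
  haveI := hV.1
  have hpr : p.Prime := Fact.out
  haveI : NeZero p := ⟨hpr.ne_zero⟩
  -- a quadratic offender
  obtain ⟨A0, hA0G, hA0ne, hA0ea, hA0m, hA0q⟩ : ∃ A : Subgroup Ω, A ≤ G ∧ A ≠ ⊥ ∧
      Cfsg.IsElementaryAbelian p A ∧ Nat.card ↥V ≤ Components.offMeasure V A ∧
      A ≤ Subgroup.centralizer ((⁅V, A⁆ : Subgroup Ω) : Set Ω) := by
    obtain ⟨E, hE⟩ := hF
    obtain ⟨A, ⟨hAG, hAne, hAea, hAm⟩, hmin⟩ :=
      Set.Finite.exists_minimal (s := {A : Subgroup Ω | A ≤ G ∧ A ≠ ⊥ ∧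
        Cfsg.IsElementaryAbelian p A ∧ Nat.card ↥V ≤ Components.offMeasure V A})
        (Set.toFinite _) ⟨E, hE⟩
    have hsub : ∀ B : Subgroup Ω, B ≤ A → Cfsg.IsElementaryAbelian p B := by
      intro B hB
      refine ⟨⟨⟨fun x y => Subtype.ext ?_⟩⟩, fun b hb => hAea.2 b (hB hb)⟩
      exact Transfer.ea_commute hAea (hB x.2) (hB y.2)
    have hab : ⁅A, A⁆ ≤ Subgroup.centralizer (V : Set Ω) := by
      rw [Subgroup.commutator_le]
      intro x hx y hy
      rw [commutatorElement_eq_one_iff_commute.mpr (Transfer.ea_commute hAea hx hy)]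
      exact one_mem _
    have hmax : ∀ B : Subgroup Ω, B ≤ A →
        Components.offMeasure V B ≤ Components.offMeasure V A := by
      intro B hB
      by_cases hle : Nat.card ↥V ≤ Components.offMeasure V B
      · by_cases hb : B = ⊥
        · rw [hb, Components.offMeasure_bot]; exact hAm
        · rw [le_antisymm hB (hmin ⟨hB.trans hAG, hb, hsub B hB, hle⟩ hB)]
      · exact (le_of_lt (not_le.mp hle)).trans hAm
    obtain ⟨h1, h2⟩ := Components.replacement hV (hAG.trans hGV) hab hmax (le_refl V)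
    refine ⟨A, hAG, hAne, hAea, hAm, ?_⟩
    by_cases hb : A ⊓ Subgroup.centralizer ((⁅V, A⁆ : Subgroup Ω) : Set Ω) = ⊥
    · exfalso
      apply hAne
      rw [hb, Components.fixed_bot] at h1
      have hVA : ⁅V, A⁆ ≤ V :=
        Subgroup.le_normalizer_iff_commutator_le_left.mp (hAG.trans hGV)
      have h3 : ⁅V, A⁆ = ⊥ := by
        refine Components.eq_bot_of_commutator_eq_self hV (hAG.trans hGV)
          (fun a ha => by rw [hAea.2 a ha]; exact one_mem _) hVA
          (le_antisymm (Subgroup.commutator_mono hVA le_rfl) (Subgroup.commutator_le.mpr ?_))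
        intro v hv a ha
        rw [h1] at hv
        have hn : V ⊓ Subgroup.centralizer (A : Set Ω) ≤
            Subgroup.normalizer ((⁅V, A⁆ : Subgroup Ω) : Set Ω) :=
          inf_le_left.trans (Components.ea_le_normalizer hV hVA)
        obtain ⟨x, hx, c, hc, rfl⟩ := (Basics.mem_sup_of_le_normalizer hn).mp hv
        rw [Components.commutatorElement_mul_left', commutatorElement_eq_one_iff_commute.mpr
          (show Commute c a from (hc.2 a ha).symm), mul_one, mul_inv_cancel, one_mul]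
        exact Subgroup.commutator_mem_commutator hx ha
      rw [eq_bot_iff, ← hfaith]
      exact le_inf hAG (Subgroup.commutator_eq_bot_iff_le_centralizer.mp
        (by rwa [Subgroup.commutator_comm]))
    · have := hmin ⟨inf_le_left.trans hAG, hb, hsub _ inf_le_left,
        hAm.trans h2.ge⟩ inf_le_left
      exact this.trans inf_le_right
  -- the representation
  let ρ := act (p := p) hGV
  haveI : Finite (AddMonoid.End (Additive ↥V × ZMod p)) :=
    Finite.of_injective _ DFunLike.coe_injective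
  have hR : ((p : ℕ) : AddMonoid.End (Additive ↥V × ZMod p)) = 0 := by
    refine AddMonoidHom.ext fun m => ?_
    change (p : ℕ) • m = 0
    refine Prod.ext (Subtype.ext ?_) (by simp)
    change (((Additive.toMul m.1) ^ p : ↥V) : Ω) = 1
    rw [SubgroupClass.coe_pow]
    exact hV.2 _ (Additive.toMul m.1).2
  have hinj : Function.Injective ρ := by
    rw [injective_iff_map_eq_one]
    intro g hg
    apply Subtype.ext
    rw [OneMemClass.coe_one, ← Subgroup.mem_bot, ← hfaith]
    refine ⟨g.2, fun v hv => ?_⟩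
    have h1 : act hGV g ((Additive.ofMul (⟨v, hv⟩ : ↥V), 0) : Additive ↥V × ZMod p) =
        (Additive.ofMul (⟨v, hv⟩ : ↥V), 0) := DFunLike.congr_fun hg _
    exact ((act_apply_eq_self_iff hGV g _).mp h1).symm
  -- quadratic subgroups
  have hquad : ∀ A : Subgroup ↥G, IsQuad ρ A ↔
      (A.map G.subtype) ≤ Subgroup.centralizer ((⁅V, A.map G.subtype⁆ : Subgroup Ω) : Set Ω) := by
    intro A
    constructor
    · intro hA
      rw [Subgroup.le_centralizer_iff, Subgroup.commutator_le]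
      rintro v hv _ ⟨b, hb, rfl⟩
      rintro _ ⟨a, ha, rfl⟩
      set m : Additive ↥V × ZMod p := (Additive.ofMul ⟨v, hv⟩, 0) with hm
      have h0 : ρ a (ρ b m - m) - (ρ b m - m) = 0 := DFunLike.congr_fun (hA a ha b hb) m
      have h1 : act hGV a (ρ b m - m) = ρ b m - m := sub_eq_zero.mp h0
      have h2 := (act_apply_eq_self_iff hGV a _).mp h1
      have h3 : ((Additive.toMul (ρ b m - m).1 : ↥V) : Ω) = ⁅(b : Ω), v⁆ := by
        rw [Prod.fst_sub, toMul_sub, Subgroup.coe_div, div_eq_mul_inv, commutatorElement_def]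
        rfl
      rw [h3] at h2
      have h4 : Commute (a : Ω) ⁅v, (b : Ω)⁆ := by
        rw [← commutatorElement_inv]; exact Commute.inv_right h2
      exact h4.eq
    · intro hA a ha b hb
      refine AddMonoidHom.ext fun m => ?_
      change ρ a (ρ b m - m) - (ρ b m - m) = 0
      rw [sub_eq_zero]
      refine (act_apply_eq_self_iff hGV a _).mpr ?_
      have h3 : ((Additive.toMul (ρ b m - m).1 : ↥V) : Ω) =
          ⁅(b : Ω), ((Additive.toMul m.1 : ↥V) : Ω)⁆ := by
        rw [Prod.fst_sub, toMul_sub, Subgroup.coe_div, div_eq_mul_inv, commutatorElement_def]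
        rfl
      rw [h3, ← commutatorElement_inv]
      have h4 : Commute (a : Ω) ⁅((Additive.toMul m.1 : ↥V) : Ω), (b : Ω)⁆ :=
        (hA ⟨a, ha, rfl⟩ _ (Subgroup.commutator_mem_commutator (Additive.toMul m.1).2
          ⟨b, hb, rfl⟩)).symm
      exact (Commute.inv_right h4).eq
  have hmap0 : (A0.subgroupOf G).map G.subtype = A0 := Subgroup.map_subgroupOf_eq_of_le hA0G
  obtain ⟨A, K, hK, hAK, hKA, hAq, hc1, hc2⟩ := exists_normalized (ρ := ρ) (e := proj) hpr hp hR
    hG hinj (A0 := A0.subgroupOf G) ((hquad _).mpr (by rw [hmap0]; exact hA0q))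
  rw [kann_card hV.2 hGV, kann_card hV.2 hGV, hmap0] at hc2
  have hc2' := Nat.le_of_mul_le_mul_right hc2 hpr.pos
  have hcA : Nat.card ↥(A.map G.subtype) = Nat.card A := Nat.card_congr
    (A.equivMapOfInjective _ G.subtype_injective).symm.toEquiv
  rw [← Nat.card_congr ((Subgroup.subgroupOfEquivOfLe hA0G).toEquiv).symm] at hc1
  have hq := (hquad A).mp hAq
  have hone : ∀ a ∈ A, a ^ p = 1 := by
    intro a ha
    apply hinj
    have hy : (ρ a - 1) * (ρ a - 1) = 0 := hAq a ha a ha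
    rw [← zpow_natCast, rho_zpow (y := ρ a - 1) (by abel) hy, map_one, zsmul_eq_mul,
      Int.cast_natCast, hR, zero_mul, add_zero]
  have hcomm : ∀ a ∈ A, ∀ b ∈ A, a * b = b * a := by
    intro a ha b hb
    apply hinj
    have e1 : ρ a * ρ b = (ρ a - 1) * (ρ b - 1) + (ρ a + ρ b - 1) := by
      simp only [sub_mul, mul_sub, one_mul, mul_one]; abel
    have e2 : ρ b * ρ a = (ρ b - 1) * (ρ a - 1) + (ρ a + ρ b - 1) := by
      simp only [sub_mul, mul_sub, one_mul, mul_one]; abel
    rw [map_mul, map_mul, e1, e2, hAq a ha b hb, hAq b hb a ha]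
  refine ⟨A.map G.subtype, Subgroup.map_subtype_le _, ?_, ⟨⟨⟨?_⟩⟩, ?_⟩, ?_, ?_, ?_⟩
  · intro h
    have h1 : 1 < Nat.card A0 := (Subgroup.one_lt_card_iff_ne_bot _).mpr hA0ne
    rw [h, Subgroup.card_bot] at hcA
    omega
  · rintro ⟨_, a, ha, rfl⟩ ⟨_, b, hb, rfl⟩
    exact Subtype.ext (congrArg G.subtype (hcomm a ha b hb))
  · rintro _ ⟨a, ha, rfl⟩
    rw [← map_pow, hone a ha, map_one]
  · refine hA0m.trans ?_
    rw [hcA]
    exact Nat.mul_le_mul hc1 hc2'
  · rw [Subgroup.commutator_eq_bot_iff_le_centralizer]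
    exact Subgroup.le_centralizer_iff.mp hq
  · intro g hg
    have hgen : Subgroup.closure {x : Ω | ∃ h ∈ G, ∃ a ∈ A.map G.subtype, x = h * a * h⁻¹} ≤
        K.map G.subtype := by
      rw [Subgroup.closure_le]
      rintro _ ⟨h, hh, _, ⟨a, ha, rfl⟩, rfl⟩
      exact ⟨⟨h, hh⟩ * a * ⟨h, hh⟩⁻¹, hK.conj_mem a (hAK ha) _, rfl⟩
    obtain ⟨k, hk, rfl⟩ := hgen hg
    rintro _ ⟨a, ha, rfl⟩
    exact ⟨k * a * k⁻¹, (Subgroup.mem_normalizer_iff.mp (hKA hk) a).mp ha, rfl⟩

end Cfsg.Agent.S1935
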