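import Cfsg.Statements.S1939
import Cfsg.Agent.Lib.ConjFunctor.Basic

set_option autoImplicit false
open Cfsg

namespace Cfsg.Agent.S1939

/-- Let S be a Sylow p-subgroup of the finite group G and a an element of S that is the only G-conjugate of a lying in S. Then every power of a has the same property: for every n, the only G-conjugate of a^n lying in S is a^n. -/
theorem result {G : Type*} [Group G] [Finite G] {p : ℕ} [Fact p.Prime] (S : Sylow p G) (a : G)
    (haS : a ∈ (S : Subgroup G)) (hwc : ∀ g : G, g * a * g⁻¹ ∈ (S : Subgroup G) → g * a * g⁻¹ = a) (n : ℕ) :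
    ∀ g : G, g * a ^ n * g⁻¹ ∈ (S : Subgroup G) → g * a ^ n * g⁻¹ = a ^ n := by
  open Cfsg.Agent.ConjFunctor in
  intro g hg
  have hcomm : ∀ s ∈ (S : Subgroup G), s * a = a * s := by
    intro s hs
    have := hwc s (mul_mem (mul_mem hs haS) (inv_mem hs))
    calc s * a = s * a * s⁻¹ * s := by group
      _ = a * s := by rw [this]
  set y := g * a ^ n * g⁻¹ with hy
  set C := Subgroup.centralizer ({y} : Set G) with hC
  have haC : a ∈ C := Subgroup.mem_centralizer_singleton_iff.mpr (hcomm y hg).symm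
  have hbC : g * a * g⁻¹ ∈ C := by
    refine Subgroup.mem_centralizer_singleton_iff.mpr ?_
    rw [hy]
    group
  obtain ⟨Q, hQ, haQ⟩ := exists_isSylIn_ge (p := p) ((Subgroup.zpowers_le).mpr haC)
    (S.2.to_le ((Subgroup.zpowers_le).mpr haS))
  have hbp : IsPGroup p (Subgroup.zpowers (g * a * g⁻¹)) := by
    refine IsPGroup.to_le (cj_isPGroup g (S.2.to_le ((Subgroup.zpowers_le).mpr haS)))
      ((Subgroup.zpowers_le).mpr (conj_mem_cj (Subgroup.mem_zpowers a)))
  obtain ⟨c, hc, hcQ⟩ := exists_conj_le_of_isSylIn hQ ((Subgroup.zpowers_le).mpr hbC) hbp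
  obtain ⟨t, -, htS⟩ := exists_conj_le_of_isSylIn (isSylIn_top S) le_top hQ.2.1
  have h1 : t * a * t⁻¹ = a := hwc t (htS (conj_mem_cj (haQ (Subgroup.mem_zpowers a))))
  have h2 : t * (c * g) * a * (t * (c * g))⁻¹ = a := by
    refine hwc _ ?_
    have h3 : t * (c * (g * a * g⁻¹) * c⁻¹) * t⁻¹ ∈ (S : Subgroup G) :=
      htS (conj_mem_cj (hcQ (conj_mem_cj (Subgroup.mem_zpowers (g * a * g⁻¹)))))
    convert h3 using 1
    group
  have h4 : c * g * a * (c * g)⁻¹ = a := by
    calc c * g * a * (c * g)⁻¹ = t⁻¹ * (t * (c * g) * a * (t * (c * g))⁻¹) * t := by group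
      _ = t⁻¹ * (t * a * t⁻¹) * t := by rw [h2, h1]
      _ = a := by group
  have h5 : (c * g * a * (c * g)⁻¹) ^ n = c * y * c⁻¹ := by
    rw [hy, conj_pow]
    group
  rw [h4, Subgroup.mem_centralizer_singleton_iff.mp hc] at h5
  rw [h5]
  group

end Cfsg.Agent.S1939
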