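import Cfsg.Statements.S1940
import Mathlib

set_option autoImplicit false
open Cfsg

namespace Cfsg.Agent.S1940

/-- Let the finite group L act by automorphisms on the finite abelian group M, and let N be an L-invariant subgroup of M such that M/N is a p-group on which L acts trivially (every l • m lies in the coset mN). If every element of M is a product of an element of N and an element fixed by a Sylow p-subgroup T of L, then every element of M is a product of an element of N and an element fixed by all of L. -/
theorem result {L : Type*} [Group L] [Finite L] {M : Type*} [CommGroup M] [Finite M] [MulDistribMulAction L M]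
    {p : ℕ} [Fact p.Prime] (N : Subgroup M) (hN : ∀ (l : L) (m : M), m ∈ N → l • m ∈ N)
    (hquot : IsPGroup p (M ⧸ N)) (htriv : ∀ (l : L) (m : M), (l • m) * m⁻¹ ∈ N) (T : Sylow p L)
    (hT : ∀ m : M, ∃ n ∈ N, ∃ c : M, (∀ t ∈ (T : Subgroup L), t • c = c) ∧ m = n * c) :
    ∀ m : M, ∃ n ∈ N, ∃ c : M, (∀ l : L, l • c = c) ∧ m = n * c := by
  classical
  intro m
  obtain ⟨n₀, hn₀, c, hc, rfl⟩ := hT m
  let f : L ⧸ (T : Subgroup L) → M := Quotient.lift (fun l : L => l • c) fun a b hab => by
    have hmem : a⁻¹ * b ∈ (T : Subgroup L) := QuotientGroup.leftRel_apply.mp hab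
    have h := hc _ hmem
    show a • c = b • c
    rw [mul_smul, inv_smul_eq_iff] at h
    exact h.symm
  haveI : Fintype (L ⧸ (T : Subgroup L)) := Fintype.ofFinite _
  set c' := ∏ q, f q with hc'
  have hfix : ∀ l : L, l • c' = c' := by
    intro l
    rw [hc', Finset.smul_prod']
    refine Fintype.prod_equiv (MulAction.toPerm l) _ _ fun q => ?_
    induction q using QuotientGroup.induction_on with
    | H a => exact (mul_smul l a c).symm
  set π := QuotientGroup.mk' N
  set i := (T : Subgroup L).index
  have hpc : π c' = π c ^ i := by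
    have h1 : ∀ q, π (f q) = π c := by
      intro q
      induction q using QuotientGroup.induction_on with
      | H a =>
        show π (a • c) = π c
        refine ((QuotientGroup.eq).mpr ?_).symm
        rw [mul_comm]
        exact htriv a c
    rw [hc', map_prod, Finset.prod_congr rfl fun q _ => h1 q, Finset.prod_const, Finset.card_univ,
      Fintype.card_eq_nat_card]
    rfl
  obtain ⟨e, he⟩ := hquot.exists_card_eq
  have hcop : i.Coprime (p ^ e) :=
    Nat.Coprime.pow_right e ((Nat.Prime.coprime_iff_not_dvd Fact.out).mpr T.not_dvd_index).symm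
  obtain ⟨k, hk⟩ := exists_pow_eq_self_of_coprime (Nat.Coprime.coprime_dvd_right
    (show orderOf (π c) ∣ p ^ e from he ▸ orderOf_dvd_natCard _) hcop)
  refine ⟨n₀ * (c * (c' ^ k)⁻¹), N.mul_mem hn₀ ?_, c' ^ k, fun l => by rw [smul_pow', hfix l], ?_⟩
  · apply (QuotientGroup.eq_one_iff _).mp
    show π (c * (c' ^ k)⁻¹) = 1
    rw [map_mul, map_inv, map_pow, hpc, hk, mul_inv_cancel]
  · rw [mul_assoc, inv_mul_cancel_right]

end Cfsg.Agent.S1940
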