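import Cfsg.Statements.S1941
import Cfsg.Agent.Lib.Components.FStar2
import Cfsg.Agent.Lib.Basics.Cores

set_option autoImplicit false
open Cfsg

namespace Cfsg.Agent.S1941

/-- Let G be a finite group with no nontrivial normal subgroup of order prime to p, T a Sylow p-subgroup of G and E(G) the layer of G (the subgroup generated by its components). An automorphism of G of p-power order that fixes T and E(G) elementwise is inner. -/
theorem result {G : Type*} [Group G] [Finite G] {p : ℕ} [Fact p.Prime] (hcore : Cfsg.pPrimeCore p G = ⊥)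
    (T : Sylow p G) (α : MulAut G) (hα : ∃ j : ℕ, orderOf α = p ^ j) (hfixT : ∀ x ∈ (T : Subgroup G), α x = x)
    (hfixE : ∀ x ∈ Cfsg.layer G, α x = x) : ∃ g : G, ∀ x : G, α x = g * x * g⁻¹ := by
  classical
  haveI : (Cfsg.generalizedFittingSubgroup G).Normal := Components.fStar_normal
  set F := Cfsg.generalizedFittingSubgroup G with hF
  set M := Subgroup.centralizer (F : Set G) with hM
  have hMF : M ≤ F := Components.centralizer_fStar_le
  haveI : M.Normal := Subgroup.normal_centralizer
  have hMab : M ≤ Subgroup.centralizer (M : Set G) := fun x hx =>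
    Subgroup.mem_centralizer_iff.2 fun y hy => (Subgroup.mem_centralizer_iff.1 hy x (hMF hx)).symm
  have hMp : IsPGroup p ↥M := by
    refine (Basics.pCore_isPGroup (G := G) p).to_le ?_
    rw [← Basics.fittingSubgroup_eq_pCore hcore]
    exact Components.abelian_normal_le_fitting hMab
  have hFfix : ∀ y ∈ F, α y = y := by
    let E : Subgroup G :=
      { carrier := {y | α y = y}
        one_mem' := map_one α
        mul_mem' := fun {a b} ha hb => by
          show α (a * b) = a * b
          rw [map_mul, show α a = a from ha, show α b = b from hb]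
        inv_mem' := fun {a} ha => by
          show α a⁻¹ = a⁻¹
          rw [map_inv, show α a = a from ha] }
    have : F ≤ E := by
      refine sup_le (fun y hy => hfixE y hy) ?_
      rw [Basics.fittingSubgroup_eq_pCore hcore]
      exact fun y hy => hfixT y (((Basics.pCore_isPGroup (G := G) p)).le_sylow_of_normal T hy)
    exact fun y hy => this hy
  have hφ : ∀ x : G, α x * x⁻¹ ∈ M := by
    intro x
    refine Subgroup.mem_centralizer_iff.2 fun y hy => ?_
    have h1 := hFfix _ ((Subgroup.mem_normalizer_iff''.1 (Subgroup.normalizer_eq_top F ▸ Subgroup.mem_top x) y).1 hy)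
    rw [map_mul, map_mul, map_inv, hFfix y hy] at h1
    calc y * (α x * x⁻¹) = α x * ((α x)⁻¹ * y * α x) * x⁻¹ := by group
      _ = α x * (x⁻¹ * y * x) * x⁻¹ := by rw [h1]
      _ = α x * x⁻¹ * y := by group
  letI : CommGroup ↥M := { (inferInstance : Group ↥M) with
    mul_comm := fun a b => Subtype.ext (Subgroup.mem_centralizer_iff.1 (hMab b.2) a a.2) }
  let f : G → ↥M := fun x => ⟨α x * x⁻¹, hφ x⟩
  let c : G → ↥M →* ↥M := fun g => ((MulAut.conjNormal g : MulAut ↥M) : ↥M ≃* ↥M).toMonoidHom
  have hfmul : ∀ g h : G, f (g * h) = f g * c g (f h) := by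
    intro g h
    refine Subtype.ext ?_
    show α (g * h) * (g * h)⁻¹ = α g * g⁻¹ * ((MulAut.conjNormal g (f h) : ↥M) : G)
    rw [MulAut.conjNormal_apply, map_mul]
    show _ = α g * g⁻¹ * (g * (α h * h⁻¹) * g⁻¹)
    group
  haveI : Fintype (G ⧸ (T : Subgroup G)) := Fintype.ofFinite _
  let F' : G ⧸ (T : Subgroup G) → ↥M := fun q => Quotient.liftOn' q f (by
    intro a b hab
    rw [QuotientGroup.leftRel_apply] at hab
    have hb : b = a * (a⁻¹ * b) := by group
    have h1 : f (a⁻¹ * b) = 1 := Subtype.ext (by
      show α (a⁻¹ * b) * (a⁻¹ * b)⁻¹ = 1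
      rw [hfixT _ hab, mul_inv_cancel])
    rw [hb, hfmul, h1, map_one, mul_one])
  set v : ↥M := ∏ q, F' q with hv
  have key : ∀ g : G, v = f g ^ Fintype.card (G ⧸ (T : Subgroup G)) * c g v := by
    intro g
    calc v = ∏ q : G ⧸ (T : Subgroup G), F' (g • q) :=
          (Equiv.prod_comp (MulAction.toPerm g) F').symm
      _ = ∏ q : G ⧸ (T : Subgroup G), f g * c g (F' q) := by
          refine Finset.prod_congr rfl fun q _ => ?_
          induction q using QuotientGroup.induction_on with
          | H x => exact hfmul g x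
      _ = f g ^ Fintype.card (G ⧸ (T : Subgroup G)) * c g v := by
          rw [Finset.prod_mul_distrib, Finset.prod_const, Finset.card_univ, map_prod]
  obtain ⟨k, hk⟩ := IsPGroup.iff_card.1 hMp
  have hcop : (Nat.card ↥M).Coprime (Fintype.card (G ⧸ (T : Subgroup G))) := by
    rw [hk, ← Nat.card_eq_fintype_card, ← Subgroup.index_eq_card]
    exact ((Fact.out : p.Prime).coprime_iff_not_dvd.2 T.not_dvd_index).pow_left k
  set w := (powCoprime hcop).symm v with hwdef
  have hw : w ^ Fintype.card (G ⧸ (T : Subgroup G)) = v := (powCoprime hcop).apply_symm_apply v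
  refine ⟨(w : G), fun x => ?_⟩
  have h2 : w = f x * c x w := by
    apply (powCoprime hcop).injective
    show w ^ _ = (f x * c x w) ^ _
    rw [hw, mul_pow, ← map_pow (c x), hw]
    exact key x
  have h3 : (w : G) = α x * x⁻¹ * (x * (w : G) * x⁻¹) := by
    have h4 := congrArg Subtype.val h2
    rw [Subgroup.coe_mul] at h4
    rw [show ((c x w : ↥M) : G) = x * (w : G) * x⁻¹ from MulAut.conjNormal_apply x w] at h4
    exact h4
  calc α x = (α x * x⁻¹ * (x * (w : G) * x⁻¹)) * x * (w : G)⁻¹ := by group
    _ = (w : G) * x * (w : G)⁻¹ := by rw [← h3]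

end Cfsg.Agent.S1941
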