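import Cfsg.Statements.S1944
import Cfsg.Agent.Lib.OddLocal.MaxP
import Cfsg.Agent.Lib.Components.PConstrained

set_option autoImplicit false
open Cfsg

namespace Cfsg.Agent.S1944

/-- Let S be a Sylow p-subgroup of the finite group G and suppose that the centre Z(S) lies in O_{p',p}(G). The elements of S each of which is its only G-conjugate in S form a subgroup W of Z(S); W is then a direct factor of Z(S): there is a subgroup K of Z(S) with W ∩ K = 1 and WK = Z(S). -/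
theorem result {G : Type*} [Group G] [Finite G] {p : ℕ} [Fact p.Prime] (S : Sylow p G)
    (hZ : ((S : Subgroup G) ⊓ Subgroup.centralizer ((S : Subgroup G) : Set G)) ≤ Cfsg.pPrimePCore p G) :
    ∃ W K : Subgroup G, (∀ x : G, x ∈ W ↔ (x ∈ (S : Subgroup G) ∧ ∀ g : G, g * x * g⁻¹ ∈ (S : Subgroup G) → g * x * g⁻¹ = x)) ∧
      K ≤ ((S : Subgroup G) ⊓ Subgroup.centralizer ((S : Subgroup G) : Set G)) ∧ W ⊓ K = ⊥ ∧ W ⊔ K = ((S : Subgroup G) ⊓ Subgroup.centralizer ((S : Subgroup G) : Set G)) := by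
  obtain ⟨hOK, n, hn⟩ := OddLocal.le_pPrimePCore_iff_relIndex (G := G) (p := p)
  haveI : (Cfsg.pPrimePCore p G).Normal := Components.pPrimePCore_normal
  have hfr := OddLocal.sup_normalizer_sylow_inf S hOK hn
  set H := (S : Subgroup G) ⊓ Cfsg.pPrimePCore p G with hH
  set D := Cfsg.pPrimeCore p G with hD
  set Z := (S : Subgroup G) ⊓ Subgroup.centralizer ((S : Subgroup G) : Set G) with hZdef
  set N := Subgroup.normalizer (H : Set G) with hN
  have hZH : Z ≤ H := le_inf inf_le_left hZ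
  have hSN : (S : Subgroup G) ≤ N := fun s hs => Subgroup.mem_normalizer_iff.mpr fun x =>
    and_congr (Subgroup.mem_normalizer_iff.mp (Subgroup.le_normalizer hs) x)
      (Subgroup.mem_normalizer_iff.mp (by rw [Subgroup.normalizer_eq_top]; exact Subgroup.mem_top s) x)
  have key : ∀ x ∈ Z, ∀ g : G, g * x * g⁻¹ ∈ (S : Subgroup G) →
      ∃ m ∈ N, g * x * g⁻¹ = m * x * m⁻¹ := by
    intro x hx g hg
    have hgT : g ∈ D ⊔ N := by rw [hfr]; exact Subgroup.mem_top g
    obtain ⟨o, ho, m, hm, rfl⟩ := (Subgroup.mem_sup_of_normal_left (s := D)).mp hgT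
    refine ⟨m, hm, ?_⟩
    have hy : m * x * m⁻¹ ∈ (S : Subgroup G) :=
      ((Subgroup.mem_normalizer_iff.mp hm x).mp (hZH hx)).1
    have h1 : (o * (m * x * m⁻¹) * o⁻¹) * (m * x * m⁻¹)⁻¹ ∈ (S : Subgroup G) ⊓ D := by
      refine Subgroup.mem_inf.mpr ⟨mul_mem (by simpa [mul_assoc] using hg) (inv_mem hy), ?_⟩
      have hDn : D.Normal := inferInstance
      have := mul_mem ho (hDn.conj_mem _ (inv_mem ho) (m * x * m⁻¹))
      simpa [mul_assoc] using this
    have hSD : (S : Subgroup G) ⊓ D = ⊥ := by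
      obtain ⟨k, hk⟩ := IsPGroup.iff_card.mp S.2
      refine Subgroup.inf_eq_bot_of_coprime ?_
      rw [hk]
      exact (Components.pPrimeCore_coprime.pow_right k).symm
    rw [hSD, Subgroup.mem_bot, mul_inv_eq_one] at h1
    rw [← h1]; group
  let A := H ⊓ Subgroup.centralizer (H : Set G)
  have hZA : Z ≤ A := fun x hx => Subgroup.mem_inf.mpr ⟨hZH hx,
    Subgroup.centralizer_le (show (H : Set G) ⊆ ((S : Subgroup G) : Set G) from fun _ h => h.1)
      (Subgroup.mem_inf.mp hx).2⟩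
  have hAn : ∀ m ∈ N, ∀ a ∈ A, m * a * m⁻¹ ∈ A := fun m hm a ha => by
    obtain ⟨ha1, ha2⟩ := Subgroup.mem_inf.mp ha
    refine Subgroup.mem_inf.mpr ⟨(Subgroup.mem_normalizer_iff.mp hm a).mp ha1,
      Subgroup.mem_centralizer_iff.mpr fun b hb => ?_⟩
    have hb' : m⁻¹ * b * m ∈ H := (Subgroup.mem_normalizer_iff'' (g := m)).mp hm b |>.mp hb
    have := Subgroup.mem_centralizer_iff.mp ha2 _ hb'
    calc b * (m * a * m⁻¹) = m * (m⁻¹ * b * m * a) * m⁻¹ := by group
      _ = m * a * m⁻¹ * b := by rw [this]; group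
  letI : CommGroup A :=
    { (inferInstance : Group A) with
      mul_comm := fun a b => Subtype.ext
        ((Subgroup.mem_centralizer_iff.mp (Subgroup.mem_inf.mp b.2).2) a (Subgroup.mem_inf.mp a.2).1) }
  let σ : N → A →* A := fun m => MonoidHom.mk'
    (fun a => ⟨(m : G) * a * (m : G)⁻¹, hAn m m.2 a a.2⟩)
    (fun a b => Subtype.ext (by simp [mul_assoc]))
  have hσ : ∀ (m m' : N) (a : A), σ (m * m') a = σ m (σ m' a) := fun m m' a =>
    Subtype.ext (by simp [σ, mul_assoc])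
  let S' : Subgroup N := (S : Subgroup G).subgroupOf N
  haveI : Fintype (N ⧸ S') := Fintype.ofFinite _
  let T : A →* A := ∏ q : N ⧸ S', σ q.out
  have hTdef : ∀ a : A, T a = ∏ q : N ⧸ S', σ q.out a := fun a => by
    simp [T, MonoidHom.finsetProd_apply]
  let W : Subgroup G := Z ⊓ Subgroup.centralizer (N : Set G)
  have hfix : ∀ a : A, (a : G) ∈ Z → ∀ (m : N) (s : N), s ∈ S' → σ (m * s) a = σ m a := fun a ha m s hs => by
    rw [hσ]
    refine congrArg _ (Subtype.ext ?_)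
    show (s : G) * a * (s : G)⁻¹ = a
    rw [(Subgroup.mem_centralizer_iff.mp (Subgroup.mem_inf.mp ha).2) (s : G) (Subgroup.mem_subgroupOf.mp hs),
      mul_inv_cancel_right]
  have hTinv : ∀ a : A, (a : G) ∈ Z → ∀ m : N, σ m (T a) = T a := by
    intro a ha m
    rw [hTdef, map_prod]
    refine Fintype.prod_equiv (MulAction.toPerm m) _ _ fun q => ?_
    rw [← hσ]
    obtain ⟨⟨s, hs⟩, e⟩ := QuotientGroup.mk_out_eq_mul S' (m * q.out)
    have e2 : (MulAction.toPerm m) q = ((m * q.out : N) : N ⧸ S') := by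
      conv_lhs => rw [← q.out_eq]
      rfl
    rw [e2, e, hfix a ha _ s hs]
  have hTW : ∀ a : A, (a : G) ∈ Z → (T a : G) ∈ W := by
    intro a ha
    have hcomm : ∀ m : N, (m : G) * (T a : G) = (T a : G) * m := fun m =>
      mul_inv_eq_iff_eq_mul.mp (congrArg Subtype.val (hTinv a ha m))
    refine Subgroup.mem_inf.mpr ⟨Subgroup.mem_inf.mpr ⟨(Subgroup.mem_inf.mp (T a).2).1.1,
      Subgroup.mem_centralizer_iff.mpr fun s hs => hcomm ⟨s, hSN hs⟩⟩,
      Subgroup.mem_centralizer_iff.mpr fun m hm => hcomm ⟨m, hm⟩⟩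
  have hTon : ∀ a : A, (a : G) ∈ W → T a = a ^ S'.index := by
    intro a ha
    rw [hTdef, Finset.prod_eq_pow_card (b := a) (fun q _ => ?_), Finset.card_univ,
      ← Nat.card_eq_fintype_card]
    · rfl
    refine Subtype.ext (mul_inv_eq_iff_eq_mul.mpr ?_)
    exact Subgroup.mem_centralizer_iff.mp (Subgroup.mem_inf.mp ha).2 _ q.out.2
  have hidx : ¬ p ∣ S'.index := fun hd => S.not_dvd_index
    (hd.trans (Subgroup.relIndex_dvd_index_of_le hSN))
  have hcop : (Nat.card W).Coprime S'.index := by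
    obtain ⟨k, hk⟩ := IsPGroup.iff_card.mp (S.2.to_le (inf_le_left.trans inf_le_left : W ≤ (S : Subgroup G)))
    rw [hk]
    exact ((Nat.Prime.coprime_iff_not_dvd Fact.out).mpr hidx).pow_left k
  refine ⟨W, T.ker.map A.subtype ⊓ Z, fun x => ?_, inf_le_right, ?_, ?_⟩
  · constructor
    · intro hx
      obtain ⟨hxZ, hxN⟩ := Subgroup.mem_inf.mp hx
      refine ⟨(Subgroup.mem_inf.mp hxZ).1, fun g hg => ?_⟩
      obtain ⟨m, hm, e⟩ := key x hxZ g hg
      rw [e, Subgroup.mem_centralizer_iff.mp hxN m hm, mul_inv_cancel_right]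
    · rintro ⟨hxS, hu⟩
      have hxZ : x ∈ Z := Subgroup.mem_inf.mpr ⟨hxS, Subgroup.mem_centralizer_iff.mpr fun s hs =>
        mul_inv_eq_iff_eq_mul.mp (hu s (mul_mem (mul_mem hs hxS) (inv_mem hs)))⟩
      exact Subgroup.mem_inf.mpr ⟨hxZ, Subgroup.mem_centralizer_iff.mpr fun m hm =>
        mul_inv_eq_iff_eq_mul.mp (hu m ((Subgroup.mem_normalizer_iff.mp hm x).mp (hZH hxZ)).1)⟩
  · rw [Subgroup.eq_bot_iff_forall]
    intro x hx
    obtain ⟨hxW, hxK⟩ := Subgroup.mem_inf.mp hx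
    obtain ⟨a, ha, rfl⟩ := (Subgroup.mem_inf.mp hxK).1
    have h1 : (a : G) ^ S'.index = 1 := by
      rw [← Subgroup.coe_pow, ← hTon a hxW, MonoidHom.mem_ker.mp ha]; rfl
    exact congrArg Subtype.val ((powCoprime hcop).injective
      (a₁ := (⟨(a : G), hxW⟩ : W)) (a₂ := 1)
      (Subtype.ext (show (a : G) ^ S'.index = (((1 : W) ^ S'.index : W) : G) by rw [h1, one_pow]; rfl)))
  · refine le_antisymm (sup_le inf_le_left inf_le_right) fun x hx => ?_
    obtain ⟨b, hb⟩ := (powCoprime hcop).surjective ⟨_, hTW ⟨x, hZA hx⟩ hx⟩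
    have hbZ : (b : G) ∈ Z := (Subgroup.mem_inf.mp b.2).1
    have hb' : T ⟨(b : G), hZA hbZ⟩ = T ⟨x, hZA hx⟩ := by
      rw [hTon _ b.2]
      refine Subtype.ext ?_
      have h2 := congrArg Subtype.val hb
      simpa using h2
    have hx' : x = (b : G) * ((b : G)⁻¹ * x) := by group
    rw [hx']
    refine Subgroup.mul_mem_sup b.2 (Subgroup.mem_inf.mpr ⟨?_, mul_mem (inv_mem hbZ) hx⟩)
    refine ⟨(⟨(b : G), hZA hbZ⟩ : A)⁻¹ * ⟨x, hZA hx⟩, ?_, rfl⟩
    show _ ∈ T.ker
    rw [MonoidHom.mem_ker, map_mul, map_inv, hb', inv_mul_cancel]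

end Cfsg.Agent.S1944
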