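import Cfsg.Statements.S1985
import Cfsg.Agent.Lib.ConjFunctor.KConsequences
import Cfsg.Agent.S1973

set_option autoImplicit false
universe u
open Cfsg

set_option linter.style.haveILetI false

namespace Cfsg.Agent.S1985

open Cfsg.Agent Subgroup

/-- Let p be an odd prime and G a finite group. Then the lower K-infinity subgroup controls weak closure of elements in G: the lower K-infinity subgroup of every p-subgroup P of G contains Z(P), and for some (equivalently, every) Sylow p-subgroup S of G, with K the lower K-infinity subgroup of S, every element of S commuting with all of N_G(K) is weakly closed in S with respect to G (every G-conjugate of it lying in S equals it). -/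
theorem result {G : Type u} [Group G] [Finite G] {p : ℕ} [Fact p.Prime] (hp : p ≠ 2) : Cfsg.ControlsWeakClosureOfElementsIn p (Cfsg.inducedFunctor (G := G) Cfsg.kInfLower) ⊤ := by
  have hW := (ConjFunctor.isCharPFunctor_kInf p).1
  refine Cfsg.Agent.S1973.result _ (ConjFunctor.isConjugacyFunctor_induced hW)
    (fun P _ => ConjFunctor.center_le_induced (fun Q _ _ => ConjFunctor.center_le_kInf.1) P)
    (fun H T hTH hTp hTi hn => ?_) ⊤
  obtain ⟨g, hgT, hgQ, hg⟩ := ConjFunctor.exists_element_rel hW ConjFunctor.hasElement_lower
    ⟨hTH, hTp, hTi⟩ hn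
  refine ⟨g, hgT, hgQ, fun U V hUV hU => ?_⟩
  have h2 : Cfsg.iterCommutator (U.map H.subtype) (zpowers g) 2 = ⊥ :=
    le_bot_iff.mp (hg ▸ commutator_mono (commutator_mono hU le_rfl) le_rfl)
  have h3 : ∀ n, Cfsg.iterCommutator (U.map H.subtype) (zpowers g) (2 + n) = ⊥ := by
    intro n
    induction n with
    | zero => exact h2
    | succ n ih =>
      show ⁅Cfsg.iterCommutator (U.map H.subtype) (zpowers g) (2 + n), zpowers g⁆ = ⊥
      rw [ih, commutator_bot_left]
  have h4 : p - 1 = 2 + (p - 3) := by
    have := (Fact.out : p.Prime).two_le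
    omega
  rw [h4, h3]
  exact bot_le

end Cfsg.Agent.S1985
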