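import Cfsg.Statements.S1945
import Cfsg.Agent.S1944
import Cfsg.Agent.S1985
import Cfsg.Agent.Lib.Basics.Cores

set_option autoImplicit false
open Cfsg
open Cfsg.Agent

namespace Cfsg.Agent.S1945

/-- Let S be a Sylow p-subgroup of the finite group G, and assume that p is odd or that G is solvable. The elements of S each of which is its only G-conjugate in S form a subgroup W of Z(S); W is then a direct factor of Z(S): there is a subgroup K of Z(S) with W ∩ K = 1 and WK = Z(S). (For p = 2 and G not solvable this can fail.) -/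
theorem result {G : Type*} [Group G] [Finite G] {p : ℕ} [Fact p.Prime] (S : Sylow p G) (h : p ≠ 2 ∨ Group.IsSolvable G) :
    ∃ W K : Subgroup G, (∀ x : G, x ∈ W ↔ (x ∈ (S : Subgroup G) ∧ ∀ g : G, g * x * g⁻¹ ∈ (S : Subgroup G) → g * x * g⁻¹ = x)) ∧
      K ≤ ((S : Subgroup G) ⊓ Subgroup.centralizer ((S : Subgroup G) : Set G)) ∧ W ⊓ K = ⊥ ∧ W ⊔ K = ((S : Subgroup G) ⊓ Subgroup.centralizer ((S : Subgroup G) : Set G)) := by
  set Z := (S : Subgroup G) ⊓ Subgroup.centralizer ((S : Subgroup G) : Set G) with hZdef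
  rcases eq_or_ne p 2 with hp2 | hp2
  · haveI : Group.IsSolvable G := h.resolve_left (fun h' => h' hp2)
    refine Cfsg.Agent.S1944.result S fun z hz => ?_
    haveI := LocalEvenA.pCore_normal' p (G ⧸ Cfsg.pPrimeCore p G)
    show QuotientGroup.mk' (Cfsg.pPrimeCore p G) z ∈ Cfsg.pCore p (G ⧸ Cfsg.pPrimeCore p G)
    refine Basics.centralizer_pCore_le (Basics.pPrimeCore_quotient_eq_bot p)
      (Subgroup.mem_centralizer_iff.mpr fun y hy => ?_)
    let S' := S.mapSurjective (QuotientGroup.mk'_surjective (Cfsg.pPrimeCore p G))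
    have hle : Cfsg.pCore p (G ⧸ Cfsg.pPrimeCore p G) ≤ (S' : Subgroup (G ⧸ Cfsg.pPrimeCore p G)) :=
      Basics.pCore_le_sylow p S'
    obtain ⟨s, hs, rfl⟩ := hle hy
    show QuotientGroup.mk' _ s * QuotientGroup.mk' _ z = _
    rw [← map_mul, ← map_mul, Subgroup.mem_centralizer_iff.mp (Subgroup.mem_inf.mp hz).2 s hs]
  have hW := (ConjFunctor.isCharPFunctor_kInf p).1
  have hWf := ConjFunctor.isConjugacyFunctor_induced (G := G) hW
  set F := Cfsg.inducedFunctor (G := G) Cfsg.kInfLower with hF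
  set N := Subgroup.normalizer ((F (S : Subgroup G) : Subgroup G) : Set G) with hN
  have hSN : (S : Subgroup G) ≤ N := ConjFunctor.self_le_normalizer_functor hWf S.2
  have hFS : F (S : Subgroup G) ≤ (S : Subgroup G) := (hWf _ S.2).1
  have hZF : Z ≤ F (S : Subgroup G) :=
    ConjFunctor.center_le_induced (fun Q _ _ => ConjFunctor.center_le_kInf.1) _
  have hnF : ∀ n ∈ N, ∀ z ∈ Z, n * z * n⁻¹ ∈ (S : Subgroup G) := fun n hn z hz =>
    hFS ((Subgroup.mem_normalizer_iff.mp hn z).mp (hZF hz))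
  -- elements of `S` centralizing `N` are weakly closed
  have hctrl : ∀ x ∈ (S : Subgroup G), (∀ n ∈ N, n * x = x * n) →
      ∀ g : G, g * x * g⁻¹ ∈ (S : Subgroup G) → g * x * g⁻¹ = x := by
    intro x hx hxN g hg
    obtain ⟨-, T, -, hTp, hTi, hT⟩ := Cfsg.Agent.S1985.result (G := G) hp2
    obtain ⟨c, -, hc⟩ := ConjFunctor.exists_conj_le_of_isSylIn (p := p) ⟨le_top, hTp, hTi⟩
      (le_top : (S : Subgroup G) ≤ ⊤) S.2
    have hmem : ∀ y ∈ (S : Subgroup G), c * y * c⁻¹ ∈ T := fun y hy => hc ⟨y, hy, rfl⟩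
    have hTS : T = (S : Subgroup G).map (MulAut.conj c).toMonoidHom :=
      (S.mapSurjective (f := (MulAut.conj c).toMonoidHom) (MulAut.conj c).surjective).is_maximal'
        hTp hc
    have key := hT (c * x * c⁻¹) (Subgroup.mem_inf.mpr ⟨hmem x hx, ?_⟩) (c * g * c⁻¹) (Subgroup.mem_top _) ?_
    · have h1 : c * (g * x * g⁻¹) * c⁻¹ = c * x * c⁻¹ := by rw [← key]; group
      exact mul_left_cancel (mul_right_cancel h1)
    · refine Subgroup.mem_centralizer_iff.mpr fun n hn => ?_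
      have hn' : n ∈ Subgroup.normalizer ((F T : Subgroup G) : Set G) := hn.2
      rw [hTS, (hWf _ S.2).2.2 c] at hn'
      have hn'' : c⁻¹ * n * c ∈ N := by
        refine Subgroup.mem_normalizer_iff.mpr fun y => ?_
        have hcy : ∀ y : G, c * y * c⁻¹ ∈ (F (S : Subgroup G)).map (MulAut.conj c).toMonoidHom ↔
            y ∈ F (S : Subgroup G) := fun y => Subgroup.mem_map_iff_mem (MulAut.conj c).injective
        rw [← hcy y, ← hcy (c⁻¹ * n * c * y * (c⁻¹ * n * c)⁻¹),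
          show c * (c⁻¹ * n * c * y * (c⁻¹ * n * c)⁻¹) * c⁻¹ = n * (c * y * c⁻¹) * n⁻¹ by group]
        exact Subgroup.mem_normalizer_iff.mp hn' _
      calc n * (c * x * c⁻¹) = c * (c⁻¹ * n * c * x) * c⁻¹ := by group
        _ = c * x * c⁻¹ * n := by rw [hxN _ hn'']; group
    · have h2 := hmem _ hg
      convert h2 using 1
      group
  -- the local subgroup
  have hSN' : ((S.subtype hSN : Sylow p N) : Subgroup N) = (S : Subgroup G).subgroupOf N :=
    Sylow.coe_subtype S hSN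
  set SN := S.subtype hSN with hSNdef
  set ZN := (SN : Subgroup N) ⊓ Subgroup.centralizer ((SN : Subgroup N) : Set N) with hZN
  have hmS : ∀ x : N, x ∈ (SN : Subgroup N) ↔ (x : G) ∈ (S : Subgroup G) := fun x => by
    rw [hSN']; exact Subgroup.mem_subgroupOf
  have hmZ : ∀ x : N, x ∈ ZN ↔ (x : G) ∈ Z := fun x => by
    constructor
    · intro hx
      obtain ⟨h1, h2⟩ := Subgroup.mem_inf.mp hx
      exact Subgroup.mem_inf.mpr ⟨(hmS x).mp h1, Subgroup.mem_centralizer_iff.mpr fun s hs =>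
        congrArg Subtype.val (Subgroup.mem_centralizer_iff.mp h2 ⟨s, hSN hs⟩ ((hmS _).mpr hs))⟩
    · intro hx
      obtain ⟨h1, h2⟩ := Subgroup.mem_inf.mp hx
      exact Subgroup.mem_inf.mpr ⟨(hmS x).mpr h1, Subgroup.mem_centralizer_iff.mpr fun s hs =>
        Subtype.ext (Subgroup.mem_centralizer_iff.mp h2 _ ((hmS s).mp hs))⟩
  have hZP : ZN ≤ Cfsg.pPrimePCore p N := by
    have hF' : (F (S : Subgroup G)).subgroupOf N ≤ Cfsg.pCore p N :=
      LocalEvenA.le_pCore_of_normal Subgroup.normal_in_normalizer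
        ((S.2.to_le hFS).comap_of_injective N.subtype N.subtype_injective)
    refine le_trans (fun x hx => hF' (hZF ((hmZ x).mp hx))) (Subgroup.map_le_iff_le_comap.mp ?_)
    exact LocalEvenA.le_pCore_of_normal
      (Subgroup.Normal.map (LocalEvenA.pCore_normal' p N) _ (QuotientGroup.mk'_surjective _))
      ((LocalEvenA.pCore_isPGroup' p N).map _)
  obtain ⟨W', K', hW', hK', hd, hj⟩ := Cfsg.Agent.S1944.result SN hZP
  refine ⟨W'.map N.subtype, K'.map N.subtype, fun x => ⟨?_, ?_⟩, ?_, ?_, ?_⟩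
  · rintro ⟨y, hy, rfl⟩
    obtain ⟨hyS, hyw⟩ := (hW' y).mp hy
    have hyZ : (y : G) ∈ Z := Subgroup.mem_inf.mpr ⟨(hmS y).mp hyS,
      Subgroup.mem_centralizer_iff.mpr fun s hs => by
        have h2 := congrArg Subtype.val (hyw ⟨s, hSN hs⟩ ((hmS _).mpr
          (mul_mem (mul_mem hs ((hmS y).mp hyS)) (inv_mem hs))))
        exact mul_inv_eq_iff_eq_mul.mp h2⟩
    refine ⟨(hmS y).mp hyS, hctrl _ ((hmS y).mp hyS) fun n hn => ?_⟩
    exact mul_inv_eq_iff_eq_mul.mp
      (congrArg Subtype.val (hyw ⟨n, hn⟩ ((hmS _).mpr (hnF n hn _ hyZ))))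
  · rintro ⟨hx, hxw⟩
    refine ⟨⟨x, hSN hx⟩, (hW' _).mpr ⟨(hmS _).mpr hx, fun g hg => Subtype.ext ?_⟩, rfl⟩
    exact hxw g ((hmS _).mp hg)
  · rintro _ ⟨y, hy, rfl⟩
    exact (hmZ y).mp (hK' hy)
  · rw [← Subgroup.map_inf _ _ _ N.subtype_injective, hd, Subgroup.map_bot]
  · rw [← Subgroup.map_sup, hj]
    ext x
    refine ⟨?_, fun hx => ⟨⟨x, hSN (Subgroup.mem_inf.mp hx).1⟩, (hmZ _).mpr hx, rfl⟩⟩
    rintro ⟨y, hy, rfl⟩
    exact (hmZ y).mp hy

end Cfsg.Agent.S1945
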