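import Cfsg.Statements.S1948
import Cfsg.Agent.Lib.Components.PConstrained
import Cfsg.Agent.Lib.Components.PLocal
import Cfsg.Agent.Lib.Basics.Cores
import Cfsg.Agent.Lib.LocalEvenA.Core

set_option autoImplicit false
open Cfsg

namespace Cfsg.Agent.S1948

/-- Let S be a Sylow p-subgroup of the finite group G. Then G = N_G(S)·O_{p'}(G) if and only if G is p-constrained and N_G(S) controls fusion in S, in the sense that whenever a subgroup Q of S has a conjugate g Q g⁻¹ inside S, the element g is a product n c with n normalizing S and c centralizing Q. -/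
theorem result {G : Type*} [Group G] [Finite G] {p : ℕ} [Fact p.Prime] (S : Sylow p G) :
    Subgroup.normalizer ((S : Subgroup G) : Set G) ⊔ Cfsg.pPrimeCore p G = ⊤ ↔
      (Cfsg.IsPConstrained p G ∧
        ∀ Q : Subgroup G, Q ≤ (S : Subgroup G) → ∀ g : G, Q.map (MulAut.conj g).toMonoidHom ≤ (S : Subgroup G) →
          ∃ n ∈ Subgroup.normalizer ((S : Subgroup G) : Set G), ∃ c ∈ Subgroup.centralizer (Q : Set G), g = n * c) := by
  haveI := Cfsg.Agent.LocalEvenA.pPrimeCore_normal' p G
  set O := Cfsg.pPrimeCore p G with hO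
  set π := QuotientGroup.mk' O with hπ
  have hsurj : Function.Surjective π := QuotientGroup.mk'_surjective O
  set S' : Sylow p (G ⧸ O) := S.mapSurjective hsurj with hS'def
  have hS' : (S' : Subgroup (G ⧸ O)) = (S : Subgroup G).map π := rfl
  have hOcop := Cfsg.Agent.LocalEvenA.pPrimeCore_coprime (G := G) p
  have hinj : ∀ x ∈ O, x ∈ (S : Subgroup G) → x = 1 := by
    intro x hx hxS
    have h := Cfsg.Agent.Components.inf_eq_bot_of_coprime_isPGroup hOcop S.isPGroup'
    exact Subgroup.mem_bot.mp (h ▸ ⟨hx, hxS⟩)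
  constructor
  · intro htop
    have hfac : ∀ g : G, ∃ n ∈ Subgroup.normalizer ((S : Subgroup G) : Set G), ∃ o ∈ O, n * o = g := by
      intro g
      have hg : g ∈ ((Subgroup.normalizer ((S : Subgroup G) : Set G) ⊔ O : Subgroup G) : Set G) := by
        rw [htop]; trivial
      rw [Subgroup.mul_normal] at hg
      exact hg
    refine ⟨?_, fun Q hQ g hg => ?_⟩
    · rw [Cfsg.Agent.Components.isPConstrained_iff]
      have hn : (S' : Subgroup (G ⧸ O)).Normal := by
        rw [← Subgroup.normalizer_eq_top_iff, hS', ← Cfsg.Agent.Components.map_normalizer_of_coprime hOcop S.isPGroup',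
          eq_top_iff]
        intro y _
        obtain ⟨g, rfl⟩ := hsurj y
        obtain ⟨n, hn, o, ho, rfl⟩ := hfac g
        exact ⟨n, hn, by
          show π n = π (n * o)
          rw [map_mul, (?_ : π o = 1), mul_one]
          exact (QuotientGroup.eq_one_iff o).mpr ho⟩
      haveI := hn
      have hle : (S' : Subgroup (G ⧸ O)) ≤ Cfsg.pCore p (G ⧸ O) :=
        Cfsg.Agent.LocalEvenA.le_pCore_of_normal hn S'.isPGroup'
      refine le_trans (Subgroup.centralizer_le (SetLike.coe_subset_coe.mpr hle)) (le_trans ?_ hle)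
      set C := Subgroup.centralizer ((S' : Subgroup (G ⧸ O)) : Set (G ⧸ O)) with hC
      set P0 := (S' : Subgroup (G ⧸ O)).subgroupOf C with hP0
      let P : Sylow p C := IsPGroup.toSylow (P := P0) S'.isPGroup'.comap_subtype fun h =>
        S'.not_dvd_index (h.trans (Subgroup.relIndex_dvd_index_of_normal _ _))
      have hPC : Subgroup.normalizer ((P : Subgroup C) : Set C) ≤ Subgroup.centralizer (P : Set C) :=
        fun c _ y hy => Subtype.ext (c.2 (y : G ⧸ O) hy)
      have hcompl := MonoidHom.ker_transferSylow_isComplement' P hPC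
      set K := (MonoidHom.transferSylow P hPC).ker
      haveI : C.Normal := inferInstance
      have hKcop : (Nat.card K).Coprime p := by
        rw [← hcompl.index_eq_card]
        exact ((Nat.Prime.coprime_iff_not_dvd Fact.out).mpr P.not_dvd_index).symm
      have hK : K.map C.subtype ≤ Cfsg.pPrimeCore p (G ⧸ O) := by
        refine Cfsg.Agent.Components.subnormal_coprime_le_pPrimeCore ?_ ?_
        · exact Subgroup.IsSubnormal.step _ C (Subgroup.map_subtype_le _)
            (Cfsg.Agent.Components.isSubnormal_of_normal C) (by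
              rw [Subgroup.subgroupOf, Subgroup.comap_map_eq_self_of_injective C.subtype_injective]
              infer_instance)
        · rwa [Subgroup.card_map_of_injective C.subtype_injective]
      rw [Cfsg.Agent.Basics.pPrimeCore_quotient_eq_bot p, le_bot_iff,
        Subgroup.map_eq_bot_iff_of_injective _ C.subtype_injective] at hK
      have hPtop : (P : Subgroup C) = ⊤ := by
        have := hcompl.sup_eq_top
        rwa [hK, bot_sup_eq] at this
      intro x hx
      exact (hPtop ▸ Subgroup.mem_top (⟨x, hx⟩ : C) : (⟨x, hx⟩ : C) ∈ (P : Subgroup C))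
    · obtain ⟨n, hn, o, ho, rfl⟩ := hfac g
      refine ⟨n, hn, o, fun q hq => ?_, rfl⟩
      have h1 : o * q * o⁻¹ ∈ (S : Subgroup G) := by
        have h2 : n * o * q * (n * o)⁻¹ ∈ (S : Subgroup G) := hg ⟨q, hq, rfl⟩
        refine (Subgroup.mem_normalizer_iff.mp hn _).mpr ?_
        simpa [mul_assoc] using h2
      have h3 : o * q * o⁻¹ * q⁻¹ ∈ O := by
        rw [mul_assoc, mul_assoc, ← mul_assoc q]
        exact O.mul_mem ho (Subgroup.Normal.conj_mem inferInstance _ (O.inv_mem ho) q)
      have h4 := hinj _ h3 ((S : Subgroup G).mul_mem h1 ((S : Subgroup G).inv_mem (hQ hq)))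
      exact (mul_inv_eq_iff_eq_mul.mp (mul_inv_eq_one.mp h4)).symm
  · rintro ⟨hcon, hctl⟩
    rw [Cfsg.Agent.Components.isPConstrained_iff] at hcon
    set Q := (S : Subgroup G) ⊓ (Cfsg.pCore p (G ⧸ O)).comap π with hQ
    have hQS : Cfsg.pCore p (G ⧸ O) ≤ (S' : Subgroup (G ⧸ O)) :=
      (Cfsg.Agent.LocalEvenA.pCore_isPGroup' p _).le_sylow_of_normal S'
    have hQmap : Q.map π = Cfsg.pCore p (G ⧸ O) := by
      refine le_antisymm ((Subgroup.map_mono inf_le_right).trans (Subgroup.map_comap_le _ _)) ?_
      intro y hy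
      obtain ⟨s, hs, rfl⟩ := hQS hy
      exact ⟨s, ⟨hs, hy⟩, rfl⟩
    haveI := Cfsg.Agent.LocalEvenA.pCore_normal' p (G ⧸ O)
    have hmap := Cfsg.Agent.Components.map_normalizer_of_coprime hOcop
      (P := Q) (S.isPGroup'.to_le inf_le_left)
    rw [hQmap, Subgroup.normalizer_eq_top (Cfsg.pCore p (G ⧸ O))] at hmap
    have hgoal : (Subgroup.normalizer ((S : Subgroup G) : Set G)).map π = ⊤ := by
      rw [eq_top_iff, ← hmap, Subgroup.map_le_iff_le_comap]
      intro g hg
      obtain ⟨n, hn, c, hc, rfl⟩ := hctl Q inf_le_left g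
        (le_trans (le_of_eq (Subgroup.mem_normalizer_iff_map_conj_eq.mp hg)) inf_le_left)
      have hcQ : π c ∈ Cfsg.pCore p (G ⧸ O) := hcon (by
        rw [← hQmap]
        rintro _ ⟨q, hq, rfl⟩
        rw [← map_mul, ← map_mul, hc q hq])
      obtain ⟨s, hs, hse⟩ := hQS hcQ
      refine Subgroup.mem_comap.mpr ⟨n * s, Subgroup.mul_mem _ hn (Subgroup.le_normalizer hs), ?_⟩
      rw [map_mul, map_mul, hse]
    have := congrArg (Subgroup.comap π) hgoal
    rwa [Subgroup.comap_map_eq, QuotientGroup.ker_mk', Subgroup.comap_top] at this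

end Cfsg.Agent.S1948
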