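import Cfsg.Statements.S1949
import Cfsg.Agent.Lib.Invol.CriticalExists
import Cfsg.Agent.Lib.ConjFunctor.CriticalChief
import Cfsg.Agent.Lib.LocalEvenB.FixedOrder

set_option autoImplicit false
open Cfsg
open Cfsg.Agent
open scoped commutatorElement

namespace Cfsg.Agent.S1949

/-- Let P be a finite p-group and G a group of automorphisms of P containing the inner automorphisms. Then there is a G-invariant subgroup D of P, contained in the subgroup generated by the elements x⁻¹α(x) with x in P and α in O^p(G), of exponent dividing p when p is odd and dividing 4 when p = 2, with [D, P] ≤ Z(D), such that every automorphism in G of order prime to p that fixes D elementwise is the identity; moreover every maximal abelian subgroup A of D is normal in P and every automorphism in G fixing A elementwise has p-power order. -/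
theorem result {P : Type*} [Group P] [Finite P] {p : ℕ} [Fact p.Prime] (hP : IsPGroup p P)
    (G : Subgroup (MulAut P)) (hG : Cfsg.Inn P ≤ G) :
    ∃ D : Subgroup P,
      (∀ α ∈ G, D.map α.toMonoidHom = D) ∧
      D ≤ Subgroup.closure {y : P | ∃ α ∈ Cfsg.pResidual p ↥G, ∃ x : P, y = x⁻¹ * (α : MulAut P) x} ∧
      (∀ d ∈ D, d ^ p = 1 ∨ (p = 2 ∧ d ^ 4 = 1)) ∧
      ⁅D, (⊤ : Subgroup P)⁆ ≤ D ⊓ Subgroup.centralizer (D : Set P) ∧
      (∀ α ∈ G, (orderOf α).Coprime p → (∀ d ∈ D, α d = d) → α = 1) ∧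
      ∀ A : Subgroup P, A ≤ D → IsMulCommutative ↥A →
        (∀ B : Subgroup P, A ≤ B → B ≤ D → IsMulCommutative ↥B → B = A) →
        A.Normal ∧ ∀ α ∈ G, (∀ a ∈ A, α a = a) → ∃ k : ℕ, orderOf α = p ^ k := by
  obtain ⟨C, hCchar, hCfr, hCP, hCC⟩ := Invol.CriticalExists.exists_critical hP
  haveI := hCchar
  have hp := (Fact.out : p.Prime)
  have hCmem : ∀ (φ : MulAut P) (c : P), c ∈ C → φ c ∈ C := fun φ c hc => by
    rw [← Subgroup.characteristic_iff_map_eq.mp hCchar φ]; exact ⟨c, hc, rfl⟩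
  set R := Cfsg.pResidual p ↥G with hR
  set C1 := Subgroup.closure {y : P | ∃ α ∈ R, ∃ c ∈ C, y = c⁻¹ * (α : MulAut P) c} with hC1
  have hC1C : C1 ≤ C := (Subgroup.closure_le _).mpr fun y ⟨α, _, c, hc, hy⟩ =>
    hy ▸ mul_mem (inv_mem hc) (hCmem _ c hc)
  have hRn : ∀ β : ↥G, ∀ α ∈ R, β * α * β⁻¹ ∈ R := fun β α hα => by
    suffices hle : R ≤ R.comap (MulAut.conj β).toMonoidHom from hle hα
    refine (Subgroup.closure_le _).mpr fun g hg => Subgroup.subset_closure ?_
    show (orderOf ((MulAut.conj β) g)).Coprime p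
    rw [show orderOf ((MulAut.conj β) g) = orderOf g from
      orderOf_injective (MulAut.conj β).toMonoidHom (MulAut.conj β).injective g]
    exact hg
  have hC1G : ∀ β ∈ G, ∀ y ∈ C1, β y ∈ C1 := fun β hβ y hy => by
    suffices hle : C1 ≤ C1.comap β.toMonoidHom from hle hy
    refine (Subgroup.closure_le _).mpr ?_
    rintro _ ⟨α, hα, c, hc, rfl⟩
    refine Subgroup.subset_closure ⟨_, hRn ⟨β, hβ⟩ α hα, β c, hCmem _ _ hc, ?_⟩
    simp
  set T := {x : P | x ∈ C1 ∧ (x ^ p = 1 ∨ (p = 2 ∧ x ^ 4 = 1))} with hT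
  set D := Subgroup.closure T with hD
  have hDC1 : D ≤ C1 := (Subgroup.closure_le _).mpr fun x hx => hx.1
  have hDC : D ≤ C := hDC1.trans hC1C
  have hDG : ∀ β ∈ G, ∀ y ∈ D, β y ∈ D := fun β hβ y hy => by
    suffices hle : D ≤ D.comap β.toMonoidHom from hle hy
    refine (Subgroup.closure_le _).mpr ?_
    rintro x ⟨hx, hx'⟩
    refine Subgroup.subset_closure ⟨hC1G β hβ x hx, ?_⟩
    rcases hx' with h | ⟨h2, h⟩
    · exact Or.inl (by rw [← map_pow]; simp [h])
    · exact Or.inr ⟨h2, by rw [← map_pow]; simp [h]⟩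
  haveI hDn : D.Normal := ⟨fun x hx g => hDG (MulAut.conj g) (hG ⟨g, rfl⟩) x hx⟩
  have hZC : ∀ a ∈ C, ∀ g : P, ⁅a, g⁆ ∈ C ⊓ Subgroup.centralizer (C : Set P) := fun a ha g =>
    hCP (Subgroup.commutator_mem_commutator ha (Subgroup.mem_top g))
  have hpowC : ∀ a ∈ C, a ^ p ∈ Subgroup.centralizer (C : Set P) := fun a ha => by
    refine hCfr ⟨(⟨a, ha⟩ : C) ^ p, ?_, rfl⟩
    simp only [frattini, Order.radical, SetLike.mem_coe, Subgroup.mem_iInf]
    intro K hK
    exact (Coprime23.normal_coatom (hP.to_subgroup C) hK).2.2 _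
  have hexp : ∀ d ∈ D, d ^ p = 1 ∨ (p = 2 ∧ d ^ 4 = 1) := by
    intro d hd
    refine (Subgroup.closure_induction (p := fun x _ => x ∈ C ∧ (x ^ p = 1 ∨ (p = 2 ∧ x ^ 4 = 1)))
      (fun x hx => ⟨hC1C hx.1, hx.2⟩) ⟨one_mem _, Or.inl (one_pow _)⟩ ?_ ?_ hd).2
    · rintro a b - - ⟨ha, ha'⟩ ⟨hb, hb'⟩
      refine ⟨mul_mem ha hb, ?_⟩
      have hz := (Subgroup.mem_inf.mp (hZC b hb a)).2
      set z := a⁻¹ * b⁻¹ * ⁅b, a⁆ * b * a with hzdef
      have hz' : z = ⁅b, a⁆ := by
        rw [hzdef, show a⁻¹ * b⁻¹ * ⁅b, a⁆ * b * a = (b * a)⁻¹ * (⁅b, a⁆ * (b * a)) by group,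
          ← Subgroup.mem_centralizer_iff.mp hz (b * a) (mul_mem hb ha), inv_mul_cancel_left]
      have hba : b * a = a * b * z := by
        rw [hz', mul_assoc, Subgroup.mem_centralizer_iff.mp hz b hb, ← mul_assoc,
          Subgroup.mem_centralizer_iff.mp hz a ha, commutatorElement_def]
        group
      rw [hz'] at hba
      have hzb : Commute ⁅b, a⁆ b := (Subgroup.mem_centralizer_iff.mp hz b hb).symm
      have hza : Commute ⁅b, a⁆ a := (Subgroup.mem_centralizer_iff.mp hz a ha).symm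
      have hzp : ⁅b, a⁆ ^ p = 1 := by
        have h1 := Coprime23.pow_mul_eq_of_central hba hzb hza p
        have h2 : b ^ p * a = a * b ^ p := (Subgroup.mem_centralizer_iff.mp (hpowC b hb) a ha).symm
        rwa [h2, left_eq_mul] at h1
      rcases eq_or_ne p 2 with hp2 | hp2
      · have h4 : ∀ x : P, (x ^ p = 1 ∨ (p = 2 ∧ x ^ 4 = 1)) → x ^ 4 = 1 := by
          rintro x (h | ⟨-, h⟩)
          · rw [hp2] at h; rw [show (4 : ℕ) = 2 * 2 from rfl, pow_mul, h, one_pow]
          · exact h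
        refine Or.inr ⟨hp2, ?_⟩
        rw [Coprime23.mul_pow_of_central hba hzb hza 4, h4 a ha', h4 b hb', one_mul, one_mul,
          show 4 * (4 - 1) / 2 = p * 3 by omega, pow_mul, hzp, one_pow]
      · have h1 : ∀ x : P, (x ^ p = 1 ∨ (p = 2 ∧ x ^ 4 = 1)) → x ^ p = 1 := by
          rintro x (h | ⟨h, -⟩)
          · exact h
          · exact absurd h hp2
        refine Or.inl ?_
        obtain ⟨m, hm⟩ := hp.odd_of_ne_two hp2
        have hm' : p * (p - 1) / 2 = p * m := by
          rw [show p - 1 = 2 * m by omega, ← mul_assoc, mul_comm p 2, mul_assoc,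
            Nat.mul_div_cancel_left _ two_pos]
        rw [Coprime23.mul_pow_of_central hba hzb hza p, h1 a ha', h1 b hb', one_mul, one_mul,
          hm', pow_mul, hzp, one_pow]
    · rintro a - ⟨ha, ha'⟩
      refine ⟨inv_mem ha, ?_⟩
      rcases ha' with h | ⟨h2, h⟩
      · exact Or.inl (by rw [inv_pow, h, inv_one])
      · exact Or.inr ⟨h2, by rw [inv_pow, h, inv_one]⟩
  have hDP : ⁅D, (⊤ : Subgroup P)⁆ ≤ D ⊓ Subgroup.centralizer (D : Set P) :=
    le_inf (Subgroup.commutator_le_left _ _)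
      (((Subgroup.commutator_mono hDC le_rfl).trans (hCP.trans inf_le_right)).trans
        (Subgroup.centralizer_le (show (D : Set P) ⊆ C from hDC)))
  have hfaith : ∀ α ∈ G, (orderOf α).Coprime p → (∀ d ∈ D, α d = d) → α = 1 := by
    intro α hα hcop hfix
    refine ConjFunctor.eq_one_of_fix_critical hP inferInstance hCC α hcop fun c hc => ?_
    have hαR : (⟨α, hα⟩ : ↥G) ∈ R :=
      Subgroup.subset_closure (show (orderOf (⟨α, hα⟩ : ↥G)).Coprime p by rwa [Subgroup.orderOf_mk])
    have hinv := hC1G α hα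
    have hα' : (orderOf (Coprime23.restrictAut α C1 hinv)).Coprime p := by
      refine hcop.coprime_dvd_left (orderOf_dvd_of_pow_eq_one ?_)
      have hn : ∀ (n : ℕ) (u : C1), (((Coprime23.restrictAut α C1 hinv) ^ n) u : P) = (α ^ n) u := by
        intro n
        induction n with
        | zero => intro u; rfl
        | succ n ih =>
          intro u
          rw [pow_succ', pow_succ', MulAut.mul_apply, MulAut.mul_apply,
            Coprime23.restrictAut_apply, ih]
      exact MulEquiv.ext fun u => Subtype.ext (by rw [hn, pow_orderOf_eq_one]; rfl)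
    have hsmall : ∀ x : C1, ((x : P) ^ p = 1 ∨ (p = 2 ∧ (x : P) ^ 4 = 1)) →
        Coprime23.restrictAut α C1 hinv x = x := fun x hx => Subtype.ext
      ((Coprime23.restrictAut_apply α C1 hinv x).trans
        (hfix _ (Subgroup.subset_closure ⟨x.2, hx⟩)))
    have hall : ∀ x : C1, Coprime23.restrictAut α C1 hinv x = x := by
      rcases eq_or_ne p 2 with hp2 | hp2
      · subst hp2
        exact LocalEvenB.fix_of_fix_four (hP.to_subgroup C1) _ hα' fun x hx =>
          hsmall x (Or.inr ⟨rfl, by simpa using congrArg Subtype.val hx⟩)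
      · exact Coprime23.fix_of_fix_omega (hP.to_subgroup C1) hp2 _ hα' fun x hx =>
          hsmall x (Or.inl (by simpa using congrArg Subtype.val hx))
    exact Coprime23.eq_of_commutator_fixed hP α hcop
      ((Coprime23.restrictAut_apply α C1 hinv ⟨_, Subgroup.subset_closure
        ⟨_, hαR, c, hc, rfl⟩⟩).symm.trans (congrArg Subtype.val (hall _)))
  refine ⟨D, fun α hα => ?_, ?_, hexp, hDP, hfaith, fun A hAD hAc hmax => ?_⟩
  · refine le_antisymm ?_ fun y hy => ⟨α⁻¹ y, hDG _ (inv_mem hα) y hy, by simp⟩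
    rintro _ ⟨y, hy, rfl⟩
    exact hDG α hα y hy
  · exact hDC1.trans (Subgroup.closure_mono fun y ⟨α, hα, c, _, hy⟩ => ⟨α, hα, c, hy⟩)
  have hAmax : ∀ x ∈ D, x ∈ Subgroup.centralizer (A : Set P) → x ∈ A := by
    intro x hx hxA
    have hab : IsMulCommutative ↥(Subgroup.closure (insert x (A : Set P))) := by
      refine Subgroup.isMulCommutative_closure ?_
      intro u hu v hv
      rcases hu with hu | hu <;> rcases hv with hv | hv
      · rw [hu, hv]
      · rw [hu]; exact (Subgroup.mem_centralizer_iff.mp hxA v hv).symm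
      · rw [hv]; exact Subgroup.mem_centralizer_iff.mp hxA u hu
      · exact congrArg Subtype.val (hAc.is_comm.comm ⟨u, hu⟩ ⟨v, hv⟩)
    have := hmax (Subgroup.closure (insert x (A : Set P)))
      (fun a ha => Subgroup.subset_closure (Set.mem_insert_of_mem _ ha))
      ((Subgroup.closure_le _).mpr (Set.insert_subset_iff.mpr ⟨hx, hAD⟩)) hab
    rw [← this]
    exact Subgroup.subset_closure (Set.mem_insert _ _)
  have hcA : ∀ d ∈ D, ∀ g : P, ⁅d, g⁆ ∈ A := fun d hd g => by
    obtain ⟨h1, h2⟩ := Subgroup.mem_inf.mp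
      (hDP (Subgroup.commutator_mem_commutator hd (Subgroup.mem_top g)))
    exact hAmax _ h1 (Subgroup.centralizer_le (show (A : Set P) ⊆ D from hAD) h2)
  refine ⟨⟨fun a ha g => ?_⟩, fun α hα hfix => ?_⟩
  · rw [show g * a * g⁻¹ = ⁅a, g⁆⁻¹ * a by rw [commutatorElement_def]; group]
    exact mul_mem (inv_mem (hcA a (hAD ha) g)) ha
  · obtain ⟨k, m, hm, he⟩ := Nat.exists_eq_pow_mul_and_not_dvd (orderOf_pos α).ne' p hp.ne_one
    set β := α ^ p ^ k with hβ
    have hβcop : (orderOf β).Coprime p := by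
      refine Nat.Coprime.coprime_dvd_left (orderOf_dvd_of_pow_eq_one ?_)
        ((hp.coprime_iff_not_dvd.mpr hm).symm)
      rw [hβ, ← pow_mul, ← he, pow_orderOf_eq_one]
    have hβA : ∀ a ∈ A, β a = a := by
      intro a ha
      have hn : ∀ n : ℕ, (α ^ n) a = a := fun n => by
        induction n with
        | zero => rfl
        | succ n ih => rw [pow_succ', MulAut.mul_apply, ih, hfix a ha]
      exact hn _
    have hβ1 : β = 1 := by
      refine hfaith β (pow_mem hα _) hβcop fun d hd => ?_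
      refine Coprime23.eq_of_commutator_fixed hP β hβcop (hβA _ ?_)
      refine hAmax _ (mul_mem (inv_mem hd) (hDG β (pow_mem hα _) d hd))
        (Subgroup.mem_centralizer_iff.mpr fun a ha => ?_)
      have h1 : β d * a * (β d)⁻¹ = d * a * d⁻¹ := by
        have h2 : d * a * d⁻¹ ∈ A := by
          rw [show d * a * d⁻¹ = ⁅d, a⁆ * a by rw [commutatorElement_def]; group]
          exact mul_mem (hcA d hd a) ha
        have h3 := hβA _ h2
        rwa [map_mul, map_mul, map_inv, hβA a ha] at h3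
      calc a * (d⁻¹ * β d) = d⁻¹ * (d * a * d⁻¹) * β d := by group
        _ = d⁻¹ * (β d * a * (β d)⁻¹) * β d := by rw [h1]
        _ = d⁻¹ * β d * a := by group
    obtain ⟨j, -, hj⟩ := (Nat.dvd_prime_pow hp).mp (orderOf_dvd_of_pow_eq_one hβ1)
    exact ⟨j, hj⟩

end Cfsg.Agent.S1949
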