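import Cfsg.Agent.Lib.PairSolv.Tools
-- Template for statement S1951 (row 1951; see /opt/grader/pristine/manifest.json for weights).
-- Copy to Cfsg/Agent/S1951.lean and replace the sorry. The statement below is byte-identical to the frozen
-- statement Cfsg.CfsgFrozen.S1951 (Cfsg/Statements/S1951.lean; the theorem Cfsg.tech8_elementary_sylow_one_class_with_local_conditions_forces_two);
-- the grader kernel-checks Cfsg.Agent.S1951.result against that frozen type. Keep the theorem IN THIS FILE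
-- (a `result` declared elsewhere and merely imported here is not credited); helpers may live anywhere
-- under Cfsg/Agent/.
import Cfsg.Statements.S1951
-- import your own Cfsg.Agent.* helpers here

set_option autoImplicit false
open Cfsg

namespace Cfsg.Agent.S1951

/-- Let p be a prime and P a nontrivial elementary abelian Sylow p-subgroup of a finite nonabelian simple group G whose nonidentity elements are all conjugate in G. Suppose that two elements of P are conjugate in G only if they are conjugate in N_G(P), that the centralizer of every element of order p of P has a normal p-complement, and that every two elements of order p of G generate a p-solvable subgroup. Then p = 2. -/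
theorem result {G : Type*} [Group G] [Finite G] [IsSimpleGroup G] (hG : ¬ IsMulCommutative G) {p : ℕ} [Fact p.Prime] (P : Sylow p G)
    (hP1 : (P : Subgroup G) ≠ ⊥) (hPe : Cfsg.IsElementaryAbelian p (P : Subgroup G))
    (hconj : ∀ x ∈ (P : Subgroup G), ∀ y ∈ (P : Subgroup G), x ≠ 1 → y ≠ 1 → ∃ g : G, g * x * g⁻¹ = y)
    (ha : ∀ x ∈ (P : Subgroup G), ∀ y ∈ (P : Subgroup G), (∃ g : G, g * x * g⁻¹ = y) →
      ∃ n ∈ Subgroup.normalizer ((P : Subgroup G) : Set G), n * x * n⁻¹ = y)
    (hb : ∀ x ∈ (P : Subgroup G), orderOf x = p → Cfsg.HasNormalPComplement p ↥(Subgroup.centralizer ({x} : Set G)))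
    (hc : ∀ x y : G, orderOf x = p → orderOf y = p → Cfsg.IsPSolvable p ↥(Subgroup.closure ({x, y} : Set G))) :
    p = 2 := by
  classical
  haveI := Fintype.ofFinite G
  have hp := (Fact.out : p.Prime)
  by_contra hp2
  have hp3 : 3 ≤ p := by have := hp.two_le; omega
  obtain ⟨M, hM⟩ := Cfsg.Agent.Blocks.exists_isPModular (p := p) hp
  haveI := hM.2.1.isPrime
  obtain ⟨hcomm, hexp⟩ := hPe
  have hab : ∀ a ∈ (P : Subgroup G), ∀ b ∈ (P : Subgroup G), a * b = b * a := fun a ha b hb =>
    congrArg Subtype.val (hcomm.is_comm.comm (⟨a, ha⟩ : (P : Subgroup G)) ⟨b, hb⟩)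
  obtain ⟨x, hxP, hx1⟩ : ∃ x ∈ (P : Subgroup G), x ≠ 1 := by
    by_contra hcon
    push Not at hcon
    exact hP1 ((Subgroup.eq_bot_iff_forall _).2 hcon)
  have hxO : x ∈ PairSolv.Om p G := PairSolv.mem_Om.2 ⟨hexp x hxP, hx1⟩
  -- a single class
  have hclass : ∀ u ∈ PairSolv.Om p G, ∃ g : G, g * x * g⁻¹ = u := by
    intro u hu
    have hup : IsPGroup p (Subgroup.zpowers u) := by
      refine IsPGroup.of_card (n := 1) ?_
      rw [Nat.card_zpowers, PairSolv.orderOf_of_mem_Om hu, pow_one]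
    obtain ⟨P', hP'⟩ := hup.exists_le_sylow
    obtain ⟨g, hg⟩ := MulAction.exists_smul_eq G P P'
    have h2 : u ∈ (P' : Subgroup G) := hP' (Subgroup.mem_zpowers u)
    rw [← hg, Sylow.coe_subgroup_smul] at h2
    have h3 := Subgroup.mem_pointwise_smul_iff_inv_smul_mem.1 h2
    rw [← map_inv, MulAut.smul_def, MulAut.conj_apply, inv_inv] at h3
    obtain ⟨a, ha⟩ := hconj x hxP _ h3 hx1 (fun e => (PairSolv.mem_Om.1 hu).2 (by
      calc u = g * (g⁻¹ * u * g) * g⁻¹ := by group
        _ = 1 := by rw [e]; group))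
    refine ⟨g * a, ?_⟩
    calc g * a * x * (g * a)⁻¹ = g * (a * x * a⁻¹) * g⁻¹ := by group
      _ = u := by rw [ha]; group
  set s := (Subgroup.centralizer ({x} : Set G)).index with hsdef
  have hxc := PairSolv.index_core_of_complement (hb x hxP (PairSolv.orderOf_of_mem_Om hxO))
  have H : PairSolv.Hyp P s := by
    refine ⟨hab, fun u hu => ?_, fun u hu => ?_, fun u hu v hv =>
      hc u v (PairSolv.orderOf_of_mem_Om hu) (PairSolv.orderOf_of_mem_Om hv)⟩
    · obtain ⟨g, rfl⟩ := hclass u hu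
      exact PairSolv.compl_conj g x hxc
    · obtain ⟨g, rfl⟩ := hclass u hu
      exact PairSolv.index_centralizer_conj g x
  have hne : (PairSolv.Om p G).Nonempty := ⟨x, hxO⟩
  have hNs : (PairSolv.Om p G).card = s := by
    rw [hsdef, ← CT.card_conj_class x, ← Nat.card_eq_finsetCard]
    refine Nat.card_congr
      { toFun := fun z => ⟨z.1, ?_⟩
        invFun := fun z => ⟨z.1, ?_⟩
        left_inv := fun z => rfl
        right_inv := fun z => rfl }
    · exact isConj_iff.mpr (hclass z.1 z.2)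
    · obtain ⟨a, ha⟩ := isConj_iff.mp z.2
      rw [← ha]; exact PairSolv.conj_mem_Om hxO a
  have hs0 : (s : ℝ) ≠ 0 := Nat.cast_ne_zero.2 Subgroup.index_ne_zero_of_finite
  set q := Nat.card (P : Subgroup G) with hqdef
  have hsq := PairSolv.sum_avg_sq hM H hne
  have hcube := PairSolv.sum_avg_cube hM H hne
  rw [hNs, mul_div_assoc, div_self hs0, mul_one, ← hqdef] at hsq hcube
  have hqp : p ∣ q := by
    have h := Subgroup.orderOf_dvd_natCard (P : Subgroup G) hxP
    rwa [PairSolv.orderOf_of_mem_Om hxO] at h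
  have hq3 : 3 ≤ q := le_trans hp3 (Nat.le_of_dvd Nat.card_pos hqp)
  -- integrality of the values
  have hint : ∀ χ : Cfsg.IrrCharacter G, ∃ c : ℤ, (χ : G → ℂ) x = (c : ℂ) ∧
      PairSolv.avg p (χ : G → ℂ) = (c : ℝ) ∧ (q : ℤ) ∣ ((CT.deg (χ : G → ℂ) : ℤ) - c) := by
    intro χ
    have hcl := CT.isClassFunction_of_isIrr χ.2
    have hc' := CT.isCharacter_of_isIrr χ.2
    haveI := Fintype.ofFinite (P : Subgroup G)
    obtain ⟨m, hm⟩ := CT.classInner_character_nat (CT.isCharacter_restrict (P : Subgroup G) hc')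
      (CT.isCharacter_one (G := (P : Subgroup G)))
    have hP : ∀ y : (P : Subgroup G), (χ : G → ℂ) y =
        (χ : G → ℂ) x + (if y = 1 then (χ : G → ℂ) 1 - (χ : G → ℂ) x else 0) := by
      intro y
      by_cases hy : y = 1
      · subst hy; simp
      · rw [if_neg hy, add_zero]
        obtain ⟨g, hg⟩ := hclass y (PairSolv.mem_Om.2 ⟨hexp _ y.2, fun e => hy (Subtype.ext e)⟩)
        exact (CT.isClassFunction_isConj hcl (isConj_iff.mpr ⟨g, hg⟩)).symm
    simp only [Cfsg.classInner, map_one, mul_one] at hm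
    rw [Finset.sum_congr rfl fun y _ => hP y, Finset.sum_add_distrib, Finset.sum_const,
      Finset.sum_ite_eq' Finset.univ (1 : (P : Subgroup G)), if_pos (Finset.mem_univ _),
      Finset.card_univ, ← Nat.card_eq_fintype_card, nsmul_eq_mul, ← hqdef,
      inv_mul_eq_iff_eq_mul₀ (Nat.cast_ne_zero.2 (by omega : q ≠ 0)), CT.deg_eq hc'] at hm
    have hr : (χ : G → ℂ) x = ((((q * m : ℕ) : ℚ) - CT.deg (χ : G → ℂ)) / ((q : ℚ) - 1) : ℚ) := by
      have h1 : ((q : ℂ) - 1) ≠ 0 := by
        rw [sub_ne_zero]; exact_mod_cast (by omega : q ≠ 1)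
      push_cast
      rw [eq_div_iff h1]
      linear_combination hm
    obtain ⟨c, hc''⟩ := PairSolv.exists_int_of_rat (CT.isIntegral_isCharacter hc' x) hr
    refine ⟨c, hc'', ?_, ⟨(m : ℤ) - c, ?_⟩⟩
    · have h2 : ∑ u ∈ PairSolv.Om p G, (χ : G → ℂ) u = ((PairSolv.Om p G).card : ℂ) * (c : ℂ) := by
        rw [Finset.sum_congr rfl fun u hu => ?_, Finset.sum_const, nsmul_eq_mul]
        obtain ⟨g, hg⟩ := hclass u hu
        rw [← hc'', CT.isClassFunction_isConj hcl (isConj_iff.mpr ⟨g, hg⟩)]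
      rw [PairSolv.avg, h2, ← Complex.ofReal_natCast, ← Complex.ofReal_intCast, ← Complex.ofReal_mul,
        Complex.ofReal_re, mul_div_cancel_left₀]
      exact Nat.cast_ne_zero.2 (Finset.card_ne_zero.2 hne)
    · apply Int.cast_injective (α := ℂ)
      push_cast
      rw [← hc'']
      linear_combination hm
  choose c hcx hca hcd using hint
  let d : Cfsg.IrrCharacter G → ℕ := fun χ => CT.deg (χ : G → ℂ)
  have hd : ∀ χ : Cfsg.IrrCharacter G, ((χ : G → ℂ) 1).re = (d χ : ℝ) := fun χ => by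
    rw [CT.deg_eq (CT.isCharacter_of_isIrr χ.2)]; simp [d]
  set B := (PairSolv.B0 M G).erase (CT.trivIrr G) with hBdef
  have htriv : c (CT.trivIrr G) = 1 := by
    have h := hcx (CT.trivIrr G)
    simp only [CT.trivIrr_apply] at h
    exact_mod_cast h.symm
  -- orthogonality with the degree
  have hort : ∑ χ ∈ B, (c χ : ℝ) * (d χ : ℝ) = -1 := by
    have h := (PairSolv.section_facts hM ⟨1, by rw [pow_one]; exact hexp x hxP⟩ hxc
      (PairSolv.hq_of_mem P hab hxO)).2.2.2 1 ⟨0, by simp⟩ inferInstance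
    rw [if_neg fun e => hx1 (isConj_one_left.mp e)] at h
    have h' : ∑ χ ∈ PairSolv.B0 M G, (((c χ : ℝ) * (d χ : ℝ) : ℝ) : ℂ) = 0 := by
      rw [← h]
      refine Finset.sum_congr rfl fun χ _ => ?_
      rw [hcx χ, CT.deg_eq (CT.isCharacter_of_isIrr χ.2)]
      simp [d]
    rw [← Complex.ofReal_sum, Complex.ofReal_eq_zero,
      ← Finset.add_sum_erase _ _ PairSolv.triv_mem_B0, htriv] at h'
    have : d (CT.trivIrr G) = 1 := by
      have h1 := hd (CT.trivIrr G)
      simp only [CT.trivIrr_apply, Complex.one_re] at h1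
      exact_mod_cast h1.symm
    rw [this] at h'
    push_cast at h'
    linarith
  have hsqB : ∑ χ ∈ B, (c χ : ℝ) ^ 2 = (q : ℝ) - 1 := by
    rw [Finset.sum_congr rfl fun χ _ => by rw [hca χ],
      ← Finset.add_sum_erase _ _ PairSolv.triv_mem_B0, htriv] at hsq
    push_cast at hsq
    linarith
  have hcubeB : (1 - 1 / ((p : ℝ) - 1)) * q - 1 ≤ ∑ χ ∈ B, (c χ : ℝ) ^ 3 / (d χ : ℝ) := by
    rw [Finset.sum_congr rfl fun χ _ => by rw [hca χ, hd χ],
      ← Finset.add_sum_erase _ _ PairSolv.triv_mem_B0, htriv] at hcube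
    have : d (CT.trivIrr G) = 1 := by
      have h1 := hd (CT.trivIrr G)
      simp only [CT.trivIrr_apply, Complex.one_re] at h1
      exact_mod_cast h1.symm
    rw [this] at hcube
    push_cast at hcube
    linarith
  have hhalf : (1 : ℝ) / 2 ≤ 1 - 1 / ((p : ℝ) - 1) := by
    have : (3 : ℝ) ≤ p := by exact_mod_cast hp3
    have h1 : 1 / ((p : ℝ) - 1) ≤ 1 / 2 := by
      apply one_div_le_one_div_of_le <;> linarith
    linarith
  have hqR : (3 : ℝ) ≤ q := by exact_mod_cast hq3
  -- degrees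
  have hdeg : ∀ χ ∈ B, 0 < c χ → c χ + q ≤ d χ := by
    intro χ hχ hpos
    have hne' := (Finset.mem_erase.1 hχ).1
    have hle : (c χ : ℝ) ≤ d χ := by
      have h := CT.norm_isCharacter_le (CT.isCharacter_of_isIrr χ.2) x
      rw [hcx χ, Complex.norm_intCast, hd χ] at h
      exact (le_abs_self _).trans h
    have hle' : c χ ≤ d χ := by exact_mod_cast hle
    have hlt : c χ < d χ := by
      refine lt_of_le_of_ne hle' fun e => PairSolv.apply_ne_one_deg hne' hx1 ?_
      rw [hcx χ, CT.deg_eq (CT.isCharacter_of_isIrr χ.2), e]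
      simp [d]
    have h2 : (q : ℤ) ∣ (d χ : ℤ) - c χ := hcd χ
    have := Int.le_of_dvd (by omega) h2
    omega
  have hcsq : ∀ χ ∈ B, c χ ^ 2 ≤ (q : ℤ) - 1 := by
    intro χ hχ
    have h := Finset.single_le_sum (f := fun χ => (c χ : ℝ) ^ 2) (fun _ _ => sq_nonneg _) hχ
    rw [hsqB] at h
    exact_mod_cast h
  rcases eq_or_lt_of_le hq3 with hq | hq
  · -- order three
    obtain ⟨χ₀, hχ₀, hneg⟩ : ∃ χ ∈ B, c χ < 0 := by
      by_contra hcon
      push Not at hcon
      have : (0 : ℝ) ≤ ∑ χ ∈ B, (c χ : ℝ) * (d χ : ℝ) :=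
        Finset.sum_nonneg fun χ hχ => mul_nonneg (by exact_mod_cast hcon χ hχ) (Nat.cast_nonneg _)
      linarith [hort]
    have hb : ∀ χ ∈ B, (c χ : ℝ) ^ 3 / (d χ : ℝ) ≤ (c χ : ℝ) ^ 2 / 4 := by
      intro χ hχ
      rcases le_or_gt (c χ) 0 with h | h
      · refine le_trans ?_ (by positivity)
        refine div_nonpos_of_nonpos_of_nonneg ?_ (Nat.cast_nonneg _)
        have : (c χ : ℝ) ≤ 0 := by exact_mod_cast h
        nlinarith [sq_nonneg (c χ : ℝ)]
      · have h1 := hdeg χ hχ h
        have hc1 : c χ = 1 := by have := hcsq χ hχ; nlinarith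
        rw [hc1] at h1 ⊢
        have h2 : (4 : ℝ) ≤ d χ := by
          have : 4 ≤ d χ := by omega
          exact_mod_cast this
        push_cast
        rw [one_pow, one_pow]
        exact one_div_le_one_div_of_le (by norm_num) h2
    have hlt : ∑ χ ∈ B, (c χ : ℝ) ^ 3 / (d χ : ℝ) < ∑ χ ∈ B, (c χ : ℝ) ^ 2 / 4 := by
      refine Finset.sum_lt_sum hb ⟨χ₀, hχ₀, ?_⟩
      have hc0 : (c χ₀ : ℝ) < 0 := by exact_mod_cast hneg
      refine lt_of_le_of_lt ?_ (show (0 : ℝ) < (c χ₀ : ℝ) ^ 2 / 4 by nlinarith)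
      refine div_nonpos_of_nonpos_of_nonneg ?_ (Nat.cast_nonneg _)
      nlinarith [sq_nonneg (c χ₀ : ℝ)]
    rw [← Finset.sum_div, hsqB] at hlt
    have hq' : (q : ℝ) = 3 := by exact_mod_cast hq.symm
    nlinarith [hcubeB]
  · have hq5 : 5 ≤ q := by
      rcases Nat.lt_or_ge q 5 with h | h
      · exfalso
        have h4 : p ≤ 4 := by have := Nat.le_of_dvd (by omega) hqp; omega
        have hp4 : p ≠ 4 := fun e => by rw [e] at hp; norm_num at hp
        have he : p = 3 := by omega
        rw [he] at hqp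
        omega
      · exact h
    have hb : ∀ χ ∈ B, (c χ : ℝ) ^ 3 / (d χ : ℝ) ≤ (c χ : ℝ) ^ 2 / 3 := by
      intro χ hχ
      rcases le_or_gt (c χ) 0 with h | h
      · refine le_trans ?_ (by positivity)
        refine div_nonpos_of_nonpos_of_nonneg ?_ (Nat.cast_nonneg _)
        have : (c χ : ℝ) ≤ 0 := by exact_mod_cast h
        nlinarith [sq_nonneg (c χ : ℝ)]
      · have h1 := hdeg χ hχ h
        have h2 := hcsq χ hχ
        have h3 : 3 * c χ ≤ (d χ : ℤ) := by
          have : 2 * c χ ≤ q := by nlinarith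
          omega
        have h3' : (3 : ℝ) * c χ ≤ d χ := by exact_mod_cast h3
        have hc0 : (0 : ℝ) < c χ := by exact_mod_cast h
        rw [div_le_div_iff₀ (by linarith) (by norm_num : (0 : ℝ) < 3)]
        nlinarith [sq_nonneg (c χ : ℝ)]
    have hle := Finset.sum_le_sum hb
    rw [← Finset.sum_div, hsqB] at hle
    have hq5' : (5 : ℝ) ≤ q := by exact_mod_cast hq5
    nlinarith [hcubeB]

end Cfsg.Agent.S1951
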