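import Cfsg.Agent.Lib.PairSolv.Cyclic
import Cfsg.Agent.S1951
import Cfsg.Agent.Lib.Fusion.PSolvableExt
import Cfsg.Agent.Lib.AutDiv.Main
-- Template for statement S1950 (row 1950; see /opt/grader/pristine/manifest.json for weights).
-- Copy to Cfsg/Agent/S1950.lean and replace the sorry. The statement below is byte-identical to the frozen
-- statement Cfsg.CfsgFrozen.S1950 (Cfsg/Statements/S1950.lean; the theorem Cfsg.tech8_cyclic_sylow_p_solvable_iff_order_p_pairs_generate_p_solvable);
-- the grader kernel-checks Cfsg.Agent.S1950.result against that frozen type. Keep the theorem IN THIS FILE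
-- (a `result` declared elsewhere and merely imported here is not credited); helpers may live anywhere
-- under Cfsg/Agent/.
import Cfsg.Statements.S1950
-- import your own Cfsg.Agent.* helpers here

set_option autoImplicit false
open Cfsg

namespace Cfsg.Agent.S1950

open Cfsg.Agent

universe u

/-- The cyclic Sylow data. -/
theorem exists_cyc {G : Type u} [Group G] [Fintype G] {p : ℕ} [hp : Fact p.Prime] (P : Sylow p G)
    (hP : IsCyclic ↥(P : Subgroup G)) (hd : p ∣ Nat.card G) :
    ∃ (g : G) (q r : ℕ) (_ : NeZero q), PairSolv.Cyc P g q r ∧ (r = 1 ∨ p ∣ r) ∧ ∃ e, q = p ^ e := by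
  obtain ⟨x, hx⟩ := hP.exists_generator
  have hgen : (P : Subgroup G) = Subgroup.zpowers (x : G) := by
    refine le_antisymm (fun y hy => ?_) (Subgroup.zpowers_le.2 x.2)
    obtain ⟨k, hk⟩ := Subgroup.mem_zpowers_iff.1 (hx ⟨y, hy⟩)
    exact Subgroup.mem_zpowers_iff.2 ⟨k, by simpa using congrArg Subtype.val hk⟩
  obtain ⟨e, he⟩ := IsPGroup.iff_card.mp P.isPGroup'
  have hord : orderOf (x : G) = p ^ e := by rw [← Nat.card_zpowers, ← hgen, he]
  have hpd : p ∣ p ^ e := by
    rw [← he]; exact P.dvd_card_of_dvd_card hd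
  obtain ⟨e', rfl⟩ : ∃ e', e = e' + 1 := by
    refine Nat.exists_eq_add_one.2 (Nat.pos_of_ne_zero fun h => ?_)
    rw [h, pow_zero, Nat.dvd_one] at hpd
    exact hp.out.ne_one hpd
  refine ⟨x, p ^ (e' + 1), p ^ e', ⟨pow_ne_zero _ hp.out.ne_zero⟩, ⟨by ring, hord, hgen⟩, ?_, _, rfl⟩
  rcases Nat.eq_zero_or_pos e' with h | h
  · left; rw [h, pow_zero]
  · right; exact dvd_pow_self p h.ne'

/-- A normal subgroup of order `p` makes the group `p`-solvable. -/
theorem psolv_of_normal {G : Type u} [Group G] [Fintype G] {p : ℕ} [hp : Fact p.Prime] (P : Sylow p G)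
    (hP : IsCyclic ↥(P : Subgroup G)) (U : Subgroup G) [U.Normal] (hU : IsPGroup p U) (hU1 : U ≠ ⊥) :
    IsPSolvable p G := by
  have hd : p ∣ Nat.card G := by
    obtain ⟨k, hk⟩ := IsPGroup.iff_card.mp hU
    have hk0 : k ≠ 0 := fun e => hU1 (Subgroup.eq_bot_of_card_eq _ (by rw [hk, e, pow_zero]))
    exact (dvd_pow_self p hk0).trans (hk ▸ Subgroup.card_subgroup_dvd_card U)
  obtain ⟨g, q, r, _, C, -, -⟩ := exists_cyc P hP hd
  obtain ⟨P', hP'⟩ := hU.exists_le_sylow
  obtain ⟨a, ha⟩ := MulAction.exists_smul_eq G P' P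
  have hUP : U ≤ (P : Subgroup G) := by
    intro x hx
    rw [← ha, Sylow.coe_subgroup_smul, Subgroup.mem_pointwise_smul_iff_inv_smul_mem, ← map_inv,
      MulAut.smul_def, MulAut.conj_apply, inv_inv]
    exact hP' (by simpa using (inferInstance : U.Normal).conj_mem x hx a⁻¹)
  obtain ⟨y, hyU, hy1⟩ : ∃ y ∈ U, y ≠ 1 := by
    by_contra hcon
    push Not at hcon
    exact hU1 ((Subgroup.eq_bot_iff_forall _).2 hcon)
  obtain ⟨b, rfl⟩ := C.exists_el (hUP hyU)
  have hb : b ≠ 0 := fun e => hy1 (by rw [e, C.el_zero])
  set Cy := Subgroup.centralizer (U : Set G)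
  haveI : Cy.Normal := inferInstance
  have hPC : (P : Subgroup G) ≤ Cy := fun x hx =>
    Subgroup.mem_centralizer_iff.2 fun z hz => C.comm z (hUP hz) x hx
  have hle : Cy ≤ Subgroup.centralizer ({PairSolv.el g b} : Set G) := fun x hx =>
    Subgroup.mem_centralizer_singleton_iff.mpr (Subgroup.mem_centralizer_iff.1 hx _ hyU).symm
  have hK : IsPSolvable p ↥(Subgroup.centralizer ({PairSolv.el g b} : Set G)) := by
    haveI := Basics.pPrimeCore_normal (G := ↥(Subgroup.centralizer ({PairSolv.el g b} : Set G))) p
    exact Fusion.isPSolvable_extension _ _ _ le_rfl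
      (Fusion.isPSolvable_of_coprime (Basics.pPrimeCore_coprime p)) (Or.inl (C.compl hb))
  have hCy : IsPSolvable p Cy := by
    have h := Blocks.isPSolvable_subgroup hK (Cy.subgroupOf _)
    exact AutDiv.isPSolvable_ext (Subgroup.subgroupOfEquivOfLe hle).symm.toMonoidHom
      (Subgroup.subgroupOfEquivOfLe hle).symm.surjective
      (Or.inr (by rw [MonoidHom.ker_eq_bot _ (Subgroup.subgroupOfEquivOfLe hle).symm.injective, Subgroup.card_bot]; exact Nat.coprime_one_left p)) h
  refine Fusion.isPSolvable_extension _ G Cy le_rfl hCy (Or.inr ?_)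
  exact ((hp.out.coprime_iff_not_dvd.mpr P.not_dvd_index).symm).coprime_dvd_left
    (Subgroup.index_dvd_of_le hPC)

theorem main {p : ℕ} [hp : Fact p.Prime] : ∀ (n : ℕ) (G : Type u) [Group G] [Fintype G]
    (P : Sylow p G), Nat.card G ≤ n → IsCyclic ↥(P : Subgroup G) →
    (∀ x y : G, orderOf x = p → orderOf y = p → IsPSolvable p ↥(Subgroup.closure ({x, y} : Set G))) →
    IsPSolvable p G := by
  intro n
  induction n with
  | zero => intro G _ _ P h; have := Nat.card_pos (α := G); omega
  | succ n ih =>
    intro G _ _ P hcard hP hpair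
    classical
    by_cases hd : p ∣ Nat.card G
    swap
    · exact Fusion.isPSolvable_of_coprime ((hp.out.coprime_iff_not_dvd.mpr hd).symm)
    haveI hOn : (pPrimeCore p G).Normal := Basics.pPrimeCore_normal p
    by_cases hO : pPrimeCore p G = ⊥
    swap
    · -- pass to the quotient
      set O := pPrimeCore p G with hOdef
      let S : Sylow p (G ⧸ O) := P.mapSurjective (QuotientGroup.mk'_surjective O)
      have hS : IsCyclic ↥(S : Subgroup (G ⧸ O)) := by
        rw [Sylow.coe_mapSurjective]
        exact isCyclic_of_surjective ((QuotientGroup.mk' O).subgroupMap (P : Subgroup G))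
          ((QuotientGroup.mk' O).subgroupMap_surjective _)
      letI := Fintype.ofFinite (G ⧸ O)
      have hlt : Nat.card (G ⧸ O) < Nat.card G := by
        rw [← Subgroup.index_eq_card]
        have h1 := O.index_mul_card
        have h2 : 1 < Nat.card O := (Subgroup.one_lt_card_iff_ne_bot O).2 hO
        have h3 : 0 < O.index := Nat.pos_of_ne_zero Subgroup.index_ne_zero_of_finite
        nlinarith
      have hlift : ∀ z : G ⧸ O, orderOf z = p → ∃ x : G, orderOf x = p ∧ (x : G ⧸ O) = z := by
        intro z hz
        obtain ⟨x₀, rfl⟩ := QuotientGroup.mk_surjective z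
        obtain ⟨x, hx, -⟩ := Blocks.exists_isPPart (p := p) x₀
        obtain ⟨y, hxy, hcom, ⟨k, hk⟩, hy⟩ := hx
        have hyO : ((y : G) : G ⧸ O) = 1 := by
          have h1 : orderOf ((y : G) : G ⧸ O) ∣ orderOf y := orderOf_map_dvd (QuotientGroup.mk' O) y
          have h2 : ((y : G) : G ⧸ O) ∈ Subgroup.zpowers ((x₀ : G) : G ⧸ O) := by
            have hyz : y ∈ Subgroup.zpowers x₀ := by
              have hxz := Blocks.ppart_mem_zpowers (p := p) (⟨y, hxy, hcom, ⟨k, hk⟩, hy⟩ : IsPPart p x₀ x)
              have : y = x⁻¹ * x₀ := by rw [← hxy, inv_mul_cancel_left]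
              rw [this]
              exact mul_mem (inv_mem hxz) (Subgroup.mem_zpowers x₀)
            obtain ⟨i, hi⟩ := Subgroup.mem_zpowers_iff.1 hyz
            exact Subgroup.mem_zpowers_iff.2 ⟨i, by rw [← QuotientGroup.mk_zpow, hi]⟩
          have h3 : orderOf ((y : G) : G ⧸ O) ∣ p := hz ▸ orderOf_dvd_of_mem_zpowers h2
          rcases (Nat.dvd_prime hp.out).1 h3 with h | h
          · exact orderOf_eq_one_iff.1 h
          · exact absurd (h ▸ h1) hy
        have himg : ((x : G) : G ⧸ O) = (x₀ : G ⧸ O) := by
          rw [← hxy, QuotientGroup.mk_mul, hyO, mul_one]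
        refine ⟨x, ?_, himg⟩
        have h1 : x ^ p ∈ O := by
          rw [← QuotientGroup.eq_one_iff, QuotientGroup.mk_pow, himg, ← hz, pow_orderOf_eq_one]
        have h2 : orderOf (x ^ p) ∣ p ^ k := hk ▸ orderOf_pow_dvd p
        have h4 := Nat.dvd_gcd h2 (Subgroup.orderOf_dvd_natCard O h1)
        rw [(Nat.Coprime.pow_left k (Basics.pPrimeCore_coprime p).symm).gcd_eq_one, Nat.dvd_one,
          orderOf_eq_one_iff] at h4
        refine orderOf_eq_prime h4 fun e => hp.out.ne_one ?_
        rw [← hz, ← himg, e, QuotientGroup.mk_one, orderOf_one]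
      have hQ : IsPSolvable p (G ⧸ O) := by
        refine ih (G ⧸ O) S (by omega) hS fun a b ha hb => ?_
        obtain ⟨x, hx, rfl⟩ := hlift a ha
        obtain ⟨y, hy, rfl⟩ := hlift b hb
        have hmap : (Subgroup.closure ({x, y} : Set G)).map (QuotientGroup.mk' O) =
            Subgroup.closure ({(x : G ⧸ O), (y : G ⧸ O)} : Set (G ⧸ O)) := by
          rw [MonoidHom.map_closure, Set.image_insert_eq, Set.image_singleton]; rfl
        rw [← hmap]
        exact Coprime23.isPSolvable_map ((QuotientGroup.mk' O).subgroupMap _)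
          ((QuotientGroup.mk' O).subgroupMap_surjective _) (hpair x y hx hy)
      exact Fusion.isPSolvable_of_normal_quotient O (Or.inr (Basics.pPrimeCore_coprime p)) hQ
    by_cases hN : ∃ N : Subgroup G, N.Normal ∧ N ≠ ⊥ ∧ N ≠ ⊤
    · obtain ⟨N, hNn, hN1, hN2⟩ := hN
      haveI := hNn
      letI := Fintype.ofFinite N
      let T : Sylow p N := default
      have hT : IsCyclic ↥(T : Subgroup N) := by
        obtain ⟨P', hP'⟩ := (T.isPGroup'.map N.subtype).exists_le_sylow
        haveI : IsCyclic ↥(P' : Subgroup G) := by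
          obtain ⟨a, ha⟩ := MulAction.exists_smul_eq G P P'
          rw [← ha, Sylow.coe_subgroup_smul]
          exact isCyclic_of_surjective (Subgroup.equivSMul (MulAut.conj a) (P : Subgroup G)).toMonoidHom
            (Subgroup.equivSMul (MulAut.conj a) (P : Subgroup G)).surjective
        haveI := Subgroup.isCyclic_of_le hP'
        exact isCyclic_of_surjective ((T : Subgroup N).equivMapOfInjective N.subtype N.subtype_injective).symm.toMonoidHom
          ((T : Subgroup N).equivMapOfInjective N.subtype N.subtype_injective).symm.surjective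
      have hlt : Nat.card N < Nat.card G := by
        refine lt_of_le_of_ne (Nat.le_of_dvd Nat.card_pos (Subgroup.card_subgroup_dvd_card N)) fun e => hN2 ?_
        exact Subgroup.eq_top_of_card_eq N e
      have hNs : IsPSolvable p N := by
        refine ih N T (by omega) hT fun x y hx hy => ?_
        have h := hpair (x : G) (y : G) (by rw [Subgroup.orderOf_coe, hx]) (by rw [Subgroup.orderOf_coe, hy])
        have hmap : (Subgroup.closure ({x, y} : Set N)).map N.subtype =
            Subgroup.closure ({(x : G), (y : G)} : Set G) := by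
          rw [MonoidHom.map_closure, Set.image_insert_eq, Set.image_singleton]; rfl
        rw [← hmap] at h
        exact AutDiv.isPSolvable_ext
          ((Subgroup.closure ({x, y} : Set N)).equivMapOfInjective N.subtype N.subtype_injective).toMonoidHom
          (MulEquiv.surjective _)
          (Or.inr (by rw [MonoidHom.ker_eq_bot _ (MulEquiv.injective _), Subgroup.card_bot]; exact Nat.coprime_one_left p)) h
      haveI : Nontrivial N := (Subgroup.nontrivial_iff_ne_bot N).2 hN1
      rcases Coprime23.exists_core_ne_bot hNs with h | h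
      · haveI := Basics.pCore_normal (G := N) p
        haveI hc : (pCore p N).Characteristic := Basics.pCore_characteristic p
        haveI : ((pCore p N).map N.subtype).Normal := inferInstance
        exact psolv_of_normal P hP ((pCore p N).map N.subtype) ((Basics.pCore_isPGroup p).map _)
          (fun e => h ((Subgroup.map_eq_bot_iff_of_injective _ N.subtype_injective).1 e))
      · exfalso
        haveI := Basics.pPrimeCore_normal (G := N) p
        haveI hc : (pPrimeCore p N).Characteristic := Basics.pPrimeCore_characteristic p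
        haveI : ((pPrimeCore p N).map N.subtype).Normal := inferInstance
        have hle : (pPrimeCore p N).map N.subtype ≤ pPrimeCore p G := Basics.le_pPrimeCore (by
          rw [Subgroup.card_map_of_injective N.subtype_injective]; exact Basics.pPrimeCore_coprime p)
        rw [hO, le_bot_iff] at hle
        exact h ((Subgroup.map_eq_bot_iff_of_injective _ N.subtype_injective).1 hle)
    -- the simple case
    push Not at hN
    haveI : Nontrivial G := by
      rw [← Finite.one_lt_card_iff_nontrivial]
      exact lt_of_lt_of_le hp.out.one_lt (Nat.le_of_dvd Nat.card_pos hd)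
    haveI : IsSimpleGroup G := ⟨fun H hH => or_iff_not_imp_left.2 fun h => hN H hH h⟩
    obtain ⟨g, q, r, _, C, hr, e, hqe⟩ := exists_cyc P hP hd
    by_cases hnt : ∀ h ∈ PairSolv.aut g q, h = 1
    · -- Burnside
      have hle : Subgroup.normalizer ((P : Subgroup G) : Set G) ≤
          Subgroup.centralizer ((P : Subgroup G) : Set G) := by
        intro x hx
        have h1 : x * g * x⁻¹ ∈ (P : Subgroup G) :=
          (Subgroup.mem_normalizer_iff.mp hx g).mp (by rw [C.gen]; exact Subgroup.mem_zpowers g)
        obtain ⟨k, hk⟩ := C.exists_el h1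
        rw [hnt k (PairSolv.mem_aut.2 (isConj_iff.2 ⟨x, hk.symm⟩)), C.el_one] at hk
        have hc : Commute x g := mul_inv_eq_iff_eq_mul.mp hk.symm
        refine Subgroup.mem_centralizer_iff.2 fun z hz => ?_
        obtain ⟨b, rfl⟩ := C.exists_el hz
        exact ((hc.pow_right b.val).symm).eq
      have hK := MonoidHom.ker_transferSylow_isComplement' P hle
      set K := (MonoidHom.transferSylow P hle).ker
      rcases (inferInstance : K.Normal).eq_bot_or_eq_top with h | h
      · have hidx : ∃ k, K.index = p ^ k := by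
          obtain ⟨k, hk⟩ := IsPGroup.iff_card.mp P.isPGroup'
          exact ⟨k, by rw [hK.symm.index_eq_card, hk]⟩
        refine Fusion.isPSolvable_extension _ G K le_rfl (Fusion.isPSolvable_of_coprime ?_) (Or.inl hidx)
        rw [h, Subgroup.card_bot]
        exact Nat.coprime_one_left p
      · exfalso
        rw [h] at hK
        have h1 : Nat.card (P : Subgroup G) = 1 := by
          rw [← hK.symm.index_eq_card, Subgroup.index_top]
        have h2 := P.dvd_card_of_dvd_card hd
        rw [h1, Nat.dvd_one] at h2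
        exact hp.out.ne_one h2
    push Not at hnt
    exfalso
    obtain ⟨h₁, hh₁, hh1⟩ := hnt
    have hp3 : 3 ≤ p := by
      by_contra hcon
      have hp2 : p = 2 := by have := hp.out.two_le; omega
      obtain ⟨m, hm, hpow⟩ := C.pow_eq_one
      obtain ⟨k, -, hk⟩ := C.inv_mem hh₁
      have hu : IsUnit h₁ := IsUnit.of_mul_eq_one_right _ hk
      obtain ⟨v, hv⟩ := hu
      have h1 : v ^ m = 1 := Units.ext (by rw [Units.val_pow_eq_pow_val, hv, hpow _ hh₁]; rfl)
      have h2 := orderOf_dvd_of_pow_eq_one h1
      have h3 : orderOf v ∣ Nat.totient q := by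
        have := orderOf_dvd_natCard v
        rwa [Nat.card_eq_fintype_card, ZMod.card_units_eq_totient] at this
      have hcop : Nat.Coprime m (Nat.totient q) := by
        rcases Nat.eq_zero_or_pos e with he | he
        · rw [hqe, he, pow_zero, Nat.totient_one]; exact Nat.coprime_one_right m
        · rw [hqe, Nat.totient_prime_pow hp.out he, hp2]
          norm_num
          subst hp2
          exact ((hp.out.coprime_iff_not_dvd.mpr hm).symm).pow_right _
      have h4 := Nat.dvd_gcd h2 h3
      rw [hcop.gcd_eq_one, Nat.dvd_one, orderOf_eq_one_iff] at h4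
      exact hh1 (by rw [← hv, h4]; rfl)
    obtain ⟨M, hM⟩ := Blocks.exists_isPModular (p := p) hp.out
    haveI := hM.2.1.isPrime
    have hpair' : ∀ u ∈ PairSolv.Om p G, ∀ v ∈ PairSolv.Om p G,
        IsPSolvable p ↥(Subgroup.closure ({u, v} : Set G)) := fun u hu v hv =>
      hpair u v (PairSolv.orderOf_of_mem_Om hu) (PairSolv.orderOf_of_mem_Om hv)
    by_cases hq3 : q = 3
    swap
    · exact C.contradiction hM hp3 ⟨h₁, hh₁, hh1⟩ hr hq3 hpair'
    -- Sylow subgroups of order three
    have hp' : p = 3 := by
      have h : p ∣ 3 := hq3 ▸ C.qeq ▸ dvd_mul_right p r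
      exact ((Nat.prime_dvd_prime_iff_eq hp.out Nat.prime_three).1 h)
    subst hq3
    have hdec : ∀ a : ZMod 3, a ≠ 0 → ∀ b : ZMod 3, b ≠ 0 → a ≠ 1 → b = a ∨ b = 1 := by decide
    have hnc : ¬ IsMulCommutative G := by
      intro hcm
      obtain ⟨c, hc⟩ := isConj_iff.1 (PairSolv.mem_aut.1 hh₁)
      refine hh1 (C.el_inj ?_)
      rw [C.el_one, ← hc, hcm.is_comm.comm c g, mul_inv_cancel_right]
    have hclass : ∀ x ∈ (P : Subgroup G), x ≠ 1 → IsConj g x := by
      intro x hx hx1
      obtain ⟨b, rfl⟩ := C.exists_el hx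
      have hh0 : h₁ ≠ 0 := fun e => by
        obtain ⟨k, -, hk⟩ := C.inv_mem hh₁
        rw [e, mul_zero] at hk
        exact absurd hk (by decide)
      rcases hdec h₁ hh0 b (fun e => hx1 (by rw [e, C.el_zero])) hh1 with e | e
      · rw [e]; exact PairSolv.mem_aut.1 hh₁
      · rw [e, C.el_one]
    have hcardP : Nat.card (P : Subgroup G) = 3 := by rw [C.gen, Nat.card_zpowers, C.ord]
    have := S1951.result hnc P
      (fun e => by rw [e, Subgroup.card_bot] at hcardP; omega)
      ⟨⟨⟨fun a b => Subtype.ext (C.comm _ a.2 _ b.2)⟩⟩, fun a ha => by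
        rw [hp', ← hcardP]
        exact congrArg Subtype.val (pow_card_eq_one' (x := (⟨a, ha⟩ : (P : Subgroup G))))⟩
      (fun x hx y hy hx1 hy1 => isConj_iff.1 ((hclass x hx hx1).symm.trans (hclass y hy hy1)))
      (fun x hx y hy hxy => by
        obtain ⟨a, rfl⟩ := C.exists_el hx
        obtain ⟨b, rfl⟩ := C.exists_el hy
        exact C.exists_norm (isConj_iff.2 hxy))
      (fun x hx hxo => by
        obtain ⟨a, rfl⟩ := C.exists_el hx
        have ha : a ≠ 0 := fun e => by
          rw [e, C.el_zero, orderOf_one] at hxo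
          omega
        set Cx := Subgroup.centralizer ({PairSolv.el g a} : Set G)
        haveI := Basics.pPrimeCore_normal (G := Cx) p
        refine ⟨P.subtype (C.le_centralizer a), pPrimeCore p Cx, inferInstance, ?_⟩
        obtain ⟨k, hk⟩ := C.compl ha
        refine Subgroup.isComplement'_of_coprime ?_ ?_
        · rw [(P.subtype (C.le_centralizer a)).card_eq_multiplicity, ← (pPrimeCore p Cx).card_mul_index,
            hk, Nat.factorization_mul Nat.card_pos.ne' (pow_ne_zero _ hp.out.ne_zero), Finsupp.coe_add,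
            Pi.add_apply, Nat.factorization_eq_zero_of_not_dvd (Basics.not_dvd_card_pPrimeCore p),
            hp.out.factorization_pow, Finsupp.single_eq_same, zero_add]
        · rw [(P.subtype (C.le_centralizer a)).card_eq_multiplicity]
          exact (Basics.pPrimeCore_coprime p).pow_right _)
      hpair
    omega

/-- Let G be a finite group whose Sylow p-subgroups are cyclic. Then G is p-solvable if and only if every two elements of order p of G generate a p-solvable subgroup. -/
theorem result {G : Type*} [Group G] [Finite G] {p : ℕ} [Fact p.Prime] (P : Sylow p G) (hP : IsCyclic ↥(P : Subgroup G)) :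
    Cfsg.IsPSolvable p G ↔ ∀ x y : G, orderOf x = p → orderOf y = p → Cfsg.IsPSolvable p ↥(Subgroup.closure ({x, y} : Set G)) := by
  classical
  haveI := Fintype.ofFinite G
  exact ⟨fun h x y _ _ => Blocks.isPSolvable_subgroup h _, fun h => main _ G P le_rfl hP h⟩

end Cfsg.Agent.S1950
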