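import Cfsg.Statements.S1952
import Mathlib

set_option autoImplicit false
open Cfsg

namespace Cfsg.Agent.S1952

section
open Polynomial

/-- For an additive endomorphism of an elementary abelian group with `s ^ p = 1`. -/
theorem sub_one_pow_of_pow_eq_one {R : Type*} [Ring R] {p : ℕ} [hp : Fact p.Prime] [CharP R p] (s : R)
    (hs : s ^ p = 1) : (s - 1) ^ p = 0 ∧ (s - 1) ^ (p - 1) = ∑ i ∈ Finset.range p, s ^ i := by
  refine ⟨by rw [sub_pow_char_of_commute p (Commute.one_right s), hs, one_pow, sub_self], ?_⟩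
  have key : ((X : (ZMod p)[X]) - 1) ^ (p - 1) = ∑ i ∈ Finset.range p, X ^ i := by
    have hX : ((X : (ZMod p)[X]) - 1) ≠ 0 := by
      simpa using X_sub_C_ne_zero (1 : ZMod p)
    refine mul_right_cancel₀ hX ?_
    rw [← pow_succ, Nat.sub_add_cancel hp.out.one_le, geom_sum_mul,
      sub_pow_char_of_commute p (Commute.one_right X), one_pow]
  letI := ZMod.algebra R p
  have := congrArg (aeval (R := ZMod p) s) key
  simpa using this

end

open Subgroup

/-- Counting along a nilpotent endomorphism of a `p`-group with index. -/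
theorem pow_le_relIndex_of_chain {G : Type*} [Group G] [Finite G] {p : ℕ} [hp : Fact p.Prime]
    (hG : IsPGroup p G) (K : Subgroup G) (B : ℕ → Subgroup G) (n : ℕ)
    (hK : ∀ j ≤ n, K ≤ B j) (hlt : ∀ j < n, B (j + 1) < B j) :
    p ^ n * Nat.card K ≤ Nat.card (B 0) := by
  suffices H : ∀ j, j ≤ n → p ^ j * Nat.card K ≤ Nat.card (B (n - j)) by
    simpa using H n le_rfl
  intro j
  induction j with
  | zero => intro _; simpa using Subgroup.card_le_of_le (hK n le_rfl)
  | succ j ih =>
    intro hj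
    have h := hlt (n - (j + 1)) (by omega)
    rw [show n - (j + 1) + 1 = n - j by omega] at h
    obtain ⟨a, ha⟩ := IsPGroup.iff_card.mp (hG.to_subgroup (B (n - (j + 1))))
    obtain ⟨b, hb⟩ := IsPGroup.iff_card.mp (hG.to_subgroup (B (n - j)))
    have hne : Nat.card (B (n - j)) < Nat.card (B (n - (j + 1))) := by
      refine lt_of_le_of_ne (Subgroup.card_le_of_le h.le) fun e => h.ne ?_
      exact Subgroup.eq_of_le_of_card_ge h.le e.ge
    rw [ha, hb] at hne
    have hab := (Nat.pow_lt_pow_iff_right hp.out.one_lt).mp hne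
    calc p ^ (j + 1) * Nat.card K = p * (p ^ j * Nat.card K) := by ring
      _ ≤ p * p ^ b := Nat.mul_le_mul_left p (hb ▸ ih (by omega))
      _ = p ^ (b + 1) := (pow_succ' p b).symm
      _ ≤ Nat.card (B (n - (j + 1))) := ha ▸ Nat.pow_le_pow_right hp.out.pos hab

/-- The core of a complement of a free generator has index at least `p ^ p`. -/
theorem pow_mul_card_le {G : Type*} [CommGroup G] [Finite G] {p : ℕ} [hp : Fact p.Prime]
    (hexp : ∀ a : G, a ^ p = 1) (s : MulAut G) (hs : s ^ p = 1) (K : Subgroup G)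
    (hKs : ∀ a ∈ K, s a ∈ K) (x : G) (hx : ∏ i ∈ Finset.range p, (s ^ i) x ∉ K) :
    p ^ p * Nat.card K ≤ Nat.card G := by
  haveI : Nontrivial G := ⟨∏ i ∈ Finset.range p, (s ^ i) x, 1, fun e => hx (e.symm ▸ one_mem K)⟩
  let σ : AddMonoid.End (Additive G) := MonoidHom.toAdditive s.toMonoidHom
  haveI : Nontrivial (AddMonoid.End (Additive G)) := by
    obtain ⟨a, ha⟩ := exists_ne (1 : G)
    exact ⟨1, 0, fun e => ha (DFunLike.congr_fun e (Additive.ofMul a))⟩
  haveI : CharP (AddMonoid.End (Additive G)) p := by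
    refine (CharP.charP_iff_prime_eq_zero hp.out).mpr ?_
    ext a
    exact hexp a.toMul
  have hσpow : ∀ (i : ℕ) (a : G), (σ ^ i) (Additive.ofMul a) = Additive.ofMul ((s ^ i) a) := by
    intro i
    induction i with
    | zero => intro a; rfl
    | succ i ih => intro a; rw [pow_succ', pow_succ', AddMonoid.End.coe_mul, Function.comp_apply, ih]; rfl
  have hσ : σ ^ p = 1 := by
    ext a
    have := hσpow p a.toMul
    rw [hs] at this
    simpa using this
  obtain ⟨h0, hN⟩ := sub_one_pow_of_pow_eq_one σ hσ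
  let D : ℕ → (G →* G) := fun j => AddMonoidHom.toMultiplicative ((σ - 1) ^ j : AddMonoid.End (Additive G))
  have hDsucc : ∀ j a, D (j + 1) a = s (D j a) / D j a := by
    intro j a
    show Additive.toMul (((σ - 1) ^ (j + 1)) (Additive.ofMul a)) = _
    rw [pow_succ', AddMonoid.End.coe_mul, Function.comp_apply]
    rfl
  let B : ℕ → Subgroup G := fun j => (D j).range ⊔ K
  have hD : ∀ j, ∀ b ∈ B j, s b / b ∈ B (j + 1) := by
    intro j b hb
    obtain ⟨u, ⟨a, rfl⟩, k, hk, rfl⟩ := mem_sup.mp hb
    rw [map_mul, mul_div_mul_comm, ← hDsucc]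
    exact mul_mem_sup ⟨a, rfl⟩ (div_mem (hKs k hk) hk)
  have hmono : ∀ j, B (j + 1) ≤ B j := by
    intro j
    refine sup_le ?_ le_sup_right
    rintro _ ⟨a, rfl⟩
    refine mem_sup_left ?_
    refine ⟨s a / a, ?_⟩
    show Additive.toMul (((σ - 1) ^ j) ((σ - 1) (Additive.ofMul a)))
      = Additive.toMul (((σ - 1) ^ (j + 1)) (Additive.ofMul a))
    rw [pow_succ, AddMonoid.End.coe_mul, Function.comp_apply]
  have hp0 : B p ≤ K := by
    refine sup_le ?_ le_rfl
    rintro _ ⟨a, rfl⟩
    show Additive.toMul (((σ - 1) ^ p) (Additive.ofMul a)) ∈ K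
    rw [h0]; exact one_mem K
  have hnot : ¬ B (p - 1) ≤ K := fun h => hx (by
    refine h (mem_sup_left ⟨x, ?_⟩)
    show Additive.toMul (((σ - 1) ^ (p - 1)) (Additive.ofMul x)) = _
    rw [hN]
    erw [AddMonoidHom.finsetSum_apply]
    show Additive.toMul (∑ i ∈ Finset.range p, (σ ^ i) (Additive.ofMul x)) = _
    rw [toMul_sum]
    exact Finset.prod_congr rfl fun i _ => congrArg Additive.toMul (hσpow i x))
  have hlt : ∀ j < p, B (j + 1) < B j := by
    intro j hj
    refine lt_of_le_of_ne (hmono j) fun e => hnot ?_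
    have hstat : ∀ m, B j ≤ B (j + m) := by
      intro m
      induction m with
      | zero => exact le_rfl
      | succ m ih =>
        rw [← add_assoc]
        calc B j = B (j + 1) := e.symm
          _ ≤ B (j + m + 1) := by
            refine sup_le ?_ le_sup_right
            rintro _ ⟨a, rfl⟩
            rw [hDsucc]
            exact hD (j + m) _ (ih (mem_sup_left ⟨a, rfl⟩))
    have hanti : Antitone B := antitone_nat_of_succ_le hmono
    calc B (p - 1) ≤ B j := hanti (by omega)
      _ ≤ B p := by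
        have := hstat (p - j)
        rwa [show j + (p - j) = p by omega] at this
      _ ≤ K := hp0
  have := pow_le_relIndex_of_chain (p := p) (fun a => ⟨1, by rw [pow_one]; exact hexp a⟩) K B p
    (fun j _ => le_sup_right) hlt
  exact this.trans (Subgroup.card_le_card_group _)

/-- A subgroup of index `p` of an elementary abelian group avoiding a given element. -/
theorem exists_index_le_avoid {A : Type*} [CommGroup A] [Finite A] {p : ℕ} [hp : Fact p.Prime]
    (hexp : ∀ a : A, a ^ p = 1) (z : A) (hz : z ≠ 1) :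
    ∃ M : Subgroup A, M.index = p ∧ z ∉ M := by
  obtain ⟨M, hzM, hmax⟩ := (Set.toFinite {M : Subgroup A | z ∉ M}).exists_maximal
    ⟨⊥, fun h => hz (mem_bot.mp h)⟩
  refine ⟨M, ?_, hzM⟩
  have hsup : M ⊔ zpowers z = ⊤ := by
    rw [eq_top_iff]
    intro a _
    by_cases ha : a ∈ M
    · exact mem_sup_left ha
    have hzS : z ∈ M ⊔ zpowers a := by
      by_contra h
      exact ha (hmax (y := M ⊔ zpowers a) h le_sup_left (mem_sup_right (mem_zpowers a)))
    obtain ⟨m, hm, w, hw, rfl⟩ := mem_sup.mp hzS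
    have hw1 : w ≠ 1 := fun e => hzM (by rw [e, mul_one]; exact hm)
    obtain ⟨k, rfl⟩ := mem_zpowers_iff.mp hw
    have haord : orderOf a = p := orderOf_eq_prime (hexp a) (fun e => hw1 (by simp [e]))
    have hk : ¬ (p : ℤ) ∣ k := fun hd => hw1 (by
      rw [← orderOf_dvd_iff_zpow_eq_one, haord]; exact hd)
    obtain ⟨u, v, huv⟩ := (Int.isCoprime_iff_gcd_eq_one.mpr (by
      rw [Int.gcd_comm]
      exact (Nat.Prime.coprime_iff_not_dvd hp.out).mpr
        (fun hd => hk (Int.natCast_dvd.mpr hd))) : IsCoprime k (p : ℤ))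
    have hap : a ^ (p : ℤ) = 1 := by rw [zpow_natCast]; exact hexp a
    have e : a = (m⁻¹ * (m * a ^ k)) ^ u := by
      rw [inv_mul_cancel_left, ← zpow_mul, mul_comm k u]
      calc a = a ^ (u * k + v * p) := by rw [huv, zpow_one]
        _ = a ^ (u * k) := by rw [zpow_add, mul_comm v (p : ℤ), zpow_mul a (p : ℤ) v, hap, one_zpow, mul_one]
    exact (congrArg (· ∈ M ⊔ zpowers (m * a ^ k)) e).mpr
      (zpow_mem (mul_mem (mem_sup_left (inv_mem hm)) (mem_sup_right (mem_zpowers _))) u)
  have hdis : Disjoint M (zpowers z) := by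
    rw [disjoint_iff, eq_bot_iff]
    intro w hw
    obtain ⟨k, rfl⟩ := mem_zpowers_iff.mp hw.2
    by_contra hne
    have hzord : orderOf z = p := orderOf_eq_prime (hexp z) hz
    have hk : ¬ (p : ℤ) ∣ k := fun hd => hne (by
      rw [mem_bot, ← orderOf_dvd_iff_zpow_eq_one, hzord]; exact hd)
    obtain ⟨u, v, huv⟩ := (Int.isCoprime_iff_gcd_eq_one.mpr (by
      rw [Int.gcd_comm]
      exact (Nat.Prime.coprime_iff_not_dvd hp.out).mpr
        (fun hd => hk (Int.natCast_dvd.mpr hd))) : IsCoprime k (p : ℤ))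
    have hzp : z ^ (p : ℤ) = 1 := by rw [zpow_natCast]; exact hexp z
    have e : z = (z ^ k) ^ u := by
      rw [← zpow_mul, mul_comm k u]
      calc z = z ^ (u * k + v * p) := by rw [huv, zpow_one]
        _ = z ^ (u * k) := by rw [zpow_add, mul_comm v (p : ℤ), zpow_mul z (p : ℤ) v, hzp, one_zpow, mul_one]
    exact hzM (e.symm ▸ zpow_mem (Subgroup.mem_inf.mp hw).1 u)
  have hc := (isComplement'_of_disjoint_and_mul_eq_univ hdis
    (by rw [← normal_mul, hsup, coe_top])).symm.index_eq_card
  rw [hc, Nat.card_zpowers, orderOf_eq_prime (hexp z) hz]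


/-- Let P be a finite p-group with a normal elementary abelian subgroup A of index p, and let x ∈ A and y ∈ P with y outside A. If the product of the p conjugates y^(-i) x y^i (i = 0, …, p−1) is not the identity, then the wreath product Z_p ≀ Z_p, realised as a Sylow p-subgroup of the symmetric group of degree p², is a homomorphic image of P. -/
theorem result {P : Type*} [Group P] [Finite P] {p : ℕ} [Fact p.Prime] (hP : IsPGroup p P) (A : Subgroup P) [A.Normal]
    (hA : Cfsg.IsElementaryAbelian p A) (hidx : A.index = p) (x y : P) (hx : x ∈ A) (hy : y ∉ A)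
    (hprod : ((List.range p).map (fun i => (y ^ i)⁻¹ * x * y ^ i)).prod ≠ 1) :
    ∃ (Q : Sylow p (Equiv.Perm (Fin (p ^ 2)))) (f : P →* ↥(Q : Subgroup (Equiv.Perm (Fin (p ^ 2))))), Function.Surjective f := by
  haveI := hA.1
  open scoped IsMulCommutative in
  have hP' : ∀ a : A, a ^ p = 1 := fun a => Subtype.ext (hA.2 a a.2)
  -- conjugation by `y⁻¹` on `A`
  let s : MulAut A := MulAut.conjNormal y⁻¹
  have hs : ∀ (i : ℕ) (a : A), (((s ^ i) a : A) : P) = (y ^ i)⁻¹ * a * y ^ i := by
    intro i a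
    show (((MulAut.conjNormal y⁻¹ : MulAut A) ^ i) a : P) = _
    rw [← map_pow, MulAut.conjNormal_apply, inv_pow, inv_inv]
  have hyp : y ^ p ∈ A := by
    have := QuotientGroup.eq_one_iff (N := A) (y ^ p)
    rw [← this, QuotientGroup.mk_pow, ← hidx, Subgroup.index]
    exact pow_card_eq_one'
  have hsp : s ^ p = 1 := by
    ext a
    rw [hs p a]
    have hc : ((a : P) * y ^ p) = y ^ p * a :=
      congrArg Subtype.val (mul_comm' a (⟨y ^ p, hyp⟩ : A))
    rw [mul_assoc, hc, inv_mul_cancel_left]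
    rfl
  letI : CommGroup A := { (inferInstance : Group A) with mul_comm := mul_comm' }
  let z : A := ∏ i ∈ Finset.range p, (s ^ i) ⟨x, hx⟩
  have hz : z ≠ 1 := by
    intro e
    apply hprod
    have h2 : ∀ n : ℕ, ((List.range n).map (fun i => (y ^ i)⁻¹ * x * y ^ i)).prod =
        ((∏ i ∈ Finset.range n, (s ^ i) ⟨x, hx⟩ : A) : P) := by
      intro n
      induction n with
      | zero => simp
      | succ n ih =>
        rw [List.range_succ, List.map_append, List.prod_append, ih, Finset.prod_range_succ]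
        simp [hs]
    rw [h2 p]
    exact congrArg Subtype.val e
  obtain ⟨M₀, hM₀, hzM⟩ := exists_index_le_avoid hP' z hz
  let M : Subgroup P := M₀.map A.subtype
  have hMA : M ≤ A := Subgroup.map_subtype_le _
  have hMidx : M.index = p ^ 2 := by
    rw [Subgroup.index_map_subtype, hM₀, hidx, sq]
  let K₀ : Subgroup A := M.normalCore.subgroupOf A
  have hKA : M.normalCore ≤ A := (Subgroup.normalCore_le M).trans hMA
  have hK₀z : z ∉ K₀ := fun h => by
    obtain ⟨m, hm, e⟩ := Subgroup.normalCore_le M (Subgroup.mem_subgroupOf.mp h)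
    exact hzM (Subtype.ext e ▸ hm)
  have hKs : ∀ a ∈ K₀, s a ∈ K₀ := fun a ha => by
    rw [Subgroup.mem_subgroupOf] at ha ⊢
    have h := hs 1 a
    rw [pow_one, pow_one] at h
    rw [h]
    simpa using (Subgroup.normalCore_normal M).conj_mem _ ha y⁻¹
  have hcount := pow_mul_card_le (p := p) hP' s hsp K₀ hKs ⟨x, hx⟩ hK₀z
  have hcardK : Nat.card K₀ = Nat.card M.normalCore :=
    Nat.card_congr (Subgroup.subgroupOfEquivOfLe hKA).toEquiv
  let e : (P ⧸ M) ≃ Fin (p ^ 2) := Finite.equivFinOfCardEq hMidx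
  let f₀ : P →* Equiv.Perm (Fin (p ^ 2)) :=
    e.permCongrHom.toMonoidHom.comp (MulAction.toPermHom P (P ⧸ M))
  have hker : f₀.ker = M.normalCore := by
    rw [Subgroup.normalCore_eq_ker]
    ext g
    simp [f₀, MonoidHom.mem_ker]
  have hrange : IsPGroup p f₀.range := hP.of_surjective f₀.rangeRestrict f₀.rangeRestrict_surjective
  have hfac : (Nat.card (Equiv.Perm (Fin (p ^ 2)))).factorization p = p + 1 := by
    rw [Nat.card_perm, Nat.card_fin, sq, Nat.factorization_factorial_mul Fact.out]
    have := Nat.factorization_factorial_mul (n := 1) (Fact.out : p.Prime)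
    rw [mul_one, Nat.factorial_one, Nat.factorization_one] at this
    rw [this, Finsupp.zero_apply]
    ring
  have hcard : Nat.card f₀.range = p ^ (Nat.card (Equiv.Perm (Fin (p ^ 2)))).factorization p := by
    rw [hfac]
    obtain ⟨n, hn⟩ := IsPGroup.iff_card.mp hrange
    have hle : n ≤ p + 1 := by
      rw [← hfac]
      refine (Nat.Prime.pow_dvd_iff_le_factorization Fact.out Nat.card_pos.ne').mp ?_
      rw [← hn]; exact Subgroup.card_subgroup_dvd_card _
    have hge : p ^ (p + 1) ≤ Nat.card f₀.range := by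
      rw [← Subgroup.index_ker, hker]
      refine le_of_mul_le_mul_left (a := Nat.card M.normalCore) ?_ Nat.card_pos
      rw [Subgroup.card_mul_index, ← hcardK, ← Subgroup.card_mul_index A, hidx, pow_succ]
      calc Nat.card K₀ * (p ^ p * p) = p ^ p * Nat.card K₀ * p := by ring
        _ ≤ Nat.card A * p := Nat.mul_le_mul_right p hcount
    rw [hn] at hge ⊢
    rw [le_antisymm hle ((Nat.pow_le_pow_iff_right (Fact.out : p.Prime).one_lt).mp hge)]
  exact ⟨Sylow.ofCard f₀.range hcard, f₀.rangeRestrict, f₀.rangeRestrict_surjective⟩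

end Cfsg.Agent.S1952
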