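import Cfsg.Statements.S1953
import Cfsg.Agent.Lib.ConjFunctor.KConsequences
import Cfsg.Agent.Lib.SL2Dickson.StableAutomizer
import Cfsg.Agent.Lib.Tech.CentricRadical

set_option autoImplicit false
open Cfsg

namespace Cfsg.Agent.S1953

/-- Let p be an odd prime and P a Sylow p-subgroup of the finite group G, and suppose that for no p-subgroup Q of G does N_G(Q)/C_G(Q) have a section isomorphic to SL₂(p). Call a subgroup Q of P centric-radical when Z(Q) is a Sylow p-subgroup of C_G(Q) and the only normal subgroup X of N_G(Q) containing Q·C_G(Q) such that the index of Q·C_G(Q) in X is a power of p is Q·C_G(Q) itself (that is, N_G(Q)/Q·C_G(Q) has no nontrivial normal p-subgroup). Then there is a centric-radical subgroup Q of P contained in every centric-radical subgroup of P; it is normal in P, and N_G(Q) controls strong fusion in P: whenever a subgroup A of P has g A g⁻¹ ≤ P, the element g is a product h c with h in N_G(Q) and c centralizing A. -/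
theorem result {G : Type*} [Group G] [Finite G] {p : ℕ} [Fact p.Prime] (hp : p ≠ 2) (P : Sylow p G)
    (hfree : ∀ Q : Subgroup G, IsPGroup p ↥Q → ¬ ∃ (H K : Subgroup G) (_ : (K.subgroupOf H).Normal),
      Subgroup.centralizer (Q : Set G) ≤ K ∧ K ≤ H ∧ H ≤ Subgroup.normalizer (Q : Set G) ∧
      Nonempty ((↥H ⧸ K.subgroupOf H) ≃* Matrix.SpecialLinearGroup (Fin 2) (ZMod p)))
    (cr : Subgroup G → Prop)
    (hcr : ∀ Q : Subgroup G, cr Q ↔ (Q ≤ (P : Subgroup G) ∧
      (∃ R : Sylow p ↥(Subgroup.centralizer (Q : Set G)),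
        (R : Subgroup ↥(Subgroup.centralizer (Q : Set G))).map (Subgroup.centralizer (Q : Set G)).subtype = Q ⊓ Subgroup.centralizer (Q : Set G)) ∧
      ∀ X : Subgroup G, X ≤ Subgroup.normalizer (Q : Set G) →
        (∀ n ∈ Subgroup.normalizer (Q : Set G), X.map (MulAut.conj n).toMonoidHom = X) →
        Q ⊔ Subgroup.centralizer (Q : Set G) ≤ X → (∃ k : ℕ, (Q ⊔ Subgroup.centralizer (Q : Set G)).relIndex X = p ^ k) →
        X = Q ⊔ Subgroup.centralizer (Q : Set G))) :
    ∃ Q : Subgroup G, cr Q ∧ (∀ R : Subgroup G, cr R → Q ≤ R) ∧ (∀ x ∈ (P : Subgroup G), Q.map (MulAut.conj x).toMonoidHom = Q) ∧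
      ∀ A : Subgroup G, A ≤ (P : Subgroup G) → ∀ g : G, A.map (MulAut.conj g).toMonoidHom ≤ (P : Subgroup G) →
        ∃ h ∈ Subgroup.normalizer (Q : Set G), ∃ c ∈ Subgroup.centralizer (A : Set G), g = h * c := by
  have hhyp : ∀ Q : Subgroup G, IsPGroup p ↥Q → ¬ Cfsg.Involves (Matrix.SpecialLinearGroup (Fin 2) (ZMod p))
      (↥(Subgroup.normalizer (Q : Set G)) ⧸
        (Subgroup.centralizer (Q : Set G)).subgroupOf (Subgroup.normalizer (Q : Set G))) := by
    intro Q hQ hinv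
    obtain ⟨H, K, hn, h1, h2, h3, h4⟩ :=
      SL2Dickson.exists_section_of_involves_mod (Subgroup.centralizer_le_normalizer (Q : Set G)) hinv
    exact hfree Q hQ ⟨H, K, hn, h1, h2, h3, h4⟩
  have hW := (ConjFunctor.isCharPFunctor_kInf p).2
  set K₀ := Cfsg.inducedFunctor Cfsg.kInfUpper (P : Subgroup G) with hK₀
  have hK₀S : K₀ ≤ (P : Subgroup G) := ConjFunctor.inducedFunctor_le _
  have hSK : (P : Subgroup G) ≤ Subgroup.normalizer (K₀ : Set G) :=
    ConjFunctor.self_le_normalizer_functor (ConjFunctor.isConjugacyFunctor_induced hW) P.2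
  have hcen : (P : Subgroup G) ⊓ Subgroup.centralizer (K₀ : Set G) ≤ K₀ := by
    intro s hs
    obtain ⟨hsP, hsc⟩ := Subgroup.mem_inf.1 hs
    refine ⟨⟨s, hsP⟩, (ConjFunctor.centralizer_kInf_le P.2).2 ?_, rfl⟩
    exact Subgroup.mem_centralizer_iff.2 fun z hz =>
      Subtype.ext (Subgroup.mem_centralizer_iff.1 hsc (z : G) ⟨z, hz, rfl⟩)
  have hCF := ConjFunctor.controlsFusion_of_stable (p := p) hW ConjFunctor.hasElement_upper
    (fun K R _ => SL2Dickson.stable_sections_of_automizer_free hp hhyp K R) P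
  obtain ⟨T, hK₀T, hT⟩ := hCF
  have hctl : ∀ (A : Set G) (g : G), A ⊆ (P : Subgroup G) →
      (fun a => g * a * g⁻¹) '' A ⊆ (P : Subgroup G) →
      ∃ x ∈ Subgroup.normalizer (K₀ : Set G), ∀ a ∈ A, g * a * g⁻¹ = x * a * x⁻¹ := by
    obtain ⟨c, hc⟩ := MulAction.exists_smul_eq G P T
    have hmem : ∀ y, y ∈ (T : Subgroup G) ↔ c⁻¹ * y * c ∈ (P : Subgroup G) := by
      intro y
      rw [← hc, Sylow.coe_subgroup_smul, Subgroup.mem_pointwise_smul_iff_inv_smul_mem]
      simp [MulAut.smul_def, mul_assoc]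
    intro A g hA hgA
    -- `c` may be replaced by an element of the normalizer of `K₀`
    obtain ⟨c', hc', hcc⟩ : ∃ c' ∈ Subgroup.normalizer (K₀ : Set G),
        ∀ y, y ∈ (T : Subgroup G) ↔ c'⁻¹ * y * c' ∈ (P : Subgroup G) := by
      have hTN : (T : Subgroup G) ≤ Subgroup.normalizer (K₀ : Set G) := by
        intro t ht
        refine Subgroup.mem_normalizer_iff.2 ?_
        have key : ∀ t ∈ (T : Subgroup G), ∀ k ∈ K₀, t * k * t⁻¹ ∈ K₀ := by
          intro t ht k hk
          obtain ⟨x, hx, hxe⟩ := (hT {k} (Set.singleton_subset_iff.2 (hK₀T hk))).2 t (by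
            rw [Set.image_singleton, Set.singleton_subset_iff]
            exact mul_mem (mul_mem ht (hK₀T hk)) (inv_mem ht))
          rw [hxe k rfl]
          exact (Subgroup.mem_normalizer_iff.1 hx k).1 hk
        exact fun k => ⟨key t ht k, fun h => by
          simpa [mul_assoc] using key t⁻¹ (inv_mem ht) _ h⟩
      obtain ⟨u, hu, hle⟩ := ConjFunctor.exists_conj_le_of_isSylIn
        (ConjFunctor.isSylIn_of_le (ConjFunctor.isSylIn_top T) hTN le_top) hSK P.2
      have heq : ConjFunctor.cj u (P : Subgroup G) = (T : Subgroup G) :=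
        Subgroup.eq_of_le_of_card_ge hle (by rw [ConjFunctor.cj_card, T.card_eq_multiplicity, P.card_eq_multiplicity])
      exact ⟨u, hu, fun y => by rw [← heq, ConjFunctor.mem_cj]⟩
    obtain ⟨x, hx, hxe⟩ := (hT ((fun a => c' * a * c'⁻¹) '' A) (by
      rintro _ ⟨a, ha, rfl⟩
      rw [SetLike.mem_coe, hcc]
      have e : c'⁻¹ * (c' * a * c'⁻¹) * c' = a := by group
      rw [e]; exact hA ha)).2 (c' * g * c'⁻¹) (by
      rintro _ ⟨_, ⟨a, ha, rfl⟩, rfl⟩
      rw [SetLike.mem_coe, hcc]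
      have e : c'⁻¹ * (c' * g * c'⁻¹ * (c' * a * c'⁻¹) * (c' * g * c'⁻¹)⁻¹) * c' = g * a * g⁻¹ := by
        group
      rw [e]; exact hgA ⟨a, ha, rfl⟩)
    refine ⟨c'⁻¹ * x * c', mul_mem (mul_mem (inv_mem hc') hx) hc', fun a ha => ?_⟩
    calc g * a * g⁻¹
        = c'⁻¹ * (c' * g * c'⁻¹ * (c' * a * c'⁻¹) * (c' * g * c'⁻¹)⁻¹) * c' := by group
      _ = c'⁻¹ * (x * (c' * a * c'⁻¹) * x⁻¹) * c' := by rw [hxe _ ⟨a, ha, rfl⟩]
      _ = c'⁻¹ * x * c' * a * (c'⁻¹ * x * c')⁻¹ := by group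
  obtain ⟨Q, hQP, hPQ, hcent, hrad, hfus⟩ :=
    CentricRadical.exists_model P K₀ hK₀S hSK hcen hctl
  have hPn : ∀ x ∈ (P : Subgroup G), Q.map (MulAut.conj x).toMonoidHom = Q := fun x hx =>
    ConjFunctor.cj_eq_iff.2 (hPQ hx)
  refine ⟨Q, (hcr Q).2 ⟨hQP, ?_, ?_⟩, fun R hR => ?_, hPn, ?_⟩
  · have hsyl : ConjFunctor.IsSylIn p
        ((P : Subgroup G) ⊓ Subgroup.centralizer (Q : Set G)) (Subgroup.centralizer (Q : Set G)) :=
      CentricRadical.sylIn_inf
        (ConjFunctor.isSylIn_of_le (ConjFunctor.isSylIn_top P) hPQ le_top)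
        (Subgroup.centralizer_le_normalizer _) (CentricRadical.centralizer_normalized Q)
    have he : (P : Subgroup G) ⊓ Subgroup.centralizer (Q : Set G)
        = Q ⊓ Subgroup.centralizer (Q : Set G) :=
      le_antisymm (le_inf hcent inf_le_right) (inf_le_inf_right _ hQP)
    rw [he] at hsyl
    obtain ⟨R₀, hR₀⟩ : ∃ R₀ : Sylow p ↥(Subgroup.centralizer (Q : Set G)),
        (R₀ : Subgroup _) = (Q ⊓ Subgroup.centralizer (Q : Set G)).subgroupOf
          (Subgroup.centralizer (Q : Set G)) :=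
      ⟨(hsyl.2.1.comap_subtype).toSylow hsyl.2.2, rfl⟩
    exact ⟨R₀, by rw [hR₀, Subgroup.map_subgroupOf_eq_of_le inf_le_right]⟩
  · intro X hXN hXn hQX hk
    refine hrad X hXN (fun n hn => ConjFunctor.cj_eq_iff.1 (hXn n hn)) hQX hk
  · obtain ⟨hRP, ⟨R₀, hR₀⟩, hrR⟩ := (hcr R).1 hR
    have hZ : (P : Subgroup G) ⊓ Subgroup.centralizer (R : Set G) ≤ R := by
      have hle : (R₀ : Subgroup ↥(Subgroup.centralizer (R : Set G))) ≤ (P : Subgroup G).comap (Subgroup.centralizer (R : Set G)).subtype := by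
        intro y hy
        have : (y : G) ∈ R ⊓ Subgroup.centralizer (R : Set G) := hR₀ ▸ Subgroup.mem_map_of_mem _ hy
        exact hRP (Subgroup.mem_inf.1 this).1
      have he := R₀.is_maximal' (P.isPGroup'.comap_of_injective _ (Subgroup.centralizer (R : Set G)).subtype_injective) hle
      intro s hs
      obtain ⟨hsP, hsC⟩ := Subgroup.mem_inf.1 hs
      have hm : (⟨s, hsC⟩ : ↥(Subgroup.centralizer (R : Set G))) ∈ (R₀ : Subgroup ↥(Subgroup.centralizer (R : Set G))) := he ▸ (show s ∈ (P : Subgroup G) from hsP)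
      have h2 : s ∈ R ⊓ Subgroup.centralizer (R : Set G) := hR₀ ▸ ⟨⟨s, hsC⟩, hm, rfl⟩
      exact (Subgroup.mem_inf.1 h2).1
    set T := Q ⊓ Subgroup.normalizer (R : Set G) with hT'
    set RC := R ⊔ Subgroup.centralizer (R : Set G) with hRC
    have hCn := CentricRadical.centralizer_normalized R
    have hnorm : ∀ n ∈ Subgroup.normalizer (R : Set G),
        n ∈ Subgroup.normalizer ((RC ⊔ T : Subgroup G) : Set G) := by
      intro n hn
      obtain ⟨h, hh, hhe⟩ := hfus (R : Set G) n hRP (by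
        rintro _ ⟨a, ha, rfl⟩
        exact hRP ((Subgroup.mem_normalizer_iff.1 hn a).1 ha))
      have hcC : h⁻¹ * n ∈ Subgroup.centralizer (R : Set G) := by
        refine Subgroup.mem_centralizer_iff.2 fun a ha => ?_
        calc a * (h⁻¹ * n) = h⁻¹ * (h * a * h⁻¹) * n := by group
          _ = h⁻¹ * (n * a * n⁻¹) * n := by rw [hhe a ha]
          _ = h⁻¹ * n * a := by group
      have hhR : h ∈ Subgroup.normalizer (R : Set G) := by
        have e : h = n * (h⁻¹ * n)⁻¹ := by group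
        rw [e]
        exact mul_mem hn (inv_mem (Subgroup.centralizer_le_normalizer _ hcC))
      have h1 : h ∈ Subgroup.normalizer ((RC ⊔ T : Subgroup G) : Set G) := by
        refine ConjFunctor.cj_eq_iff.1 ((Subgroup.map_sup _ _ _).trans (congrArg₂ (· ⊔ ·)
          ((Subgroup.map_sup _ _ _).trans (congrArg₂ (· ⊔ ·) (ConjFunctor.cj_eq_iff.2 hhR)
            (ConjFunctor.cj_eq_iff.2 (hCn hhR)))) ?_))
        show ConjFunctor.cj h T = T
        rw [hT', ConjFunctor.cj_inf, ConjFunctor.cj_eq_iff.2 hh,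
          ConjFunctor.cj_eq_iff.2 (Subgroup.le_normalizer hhR)]
      have e : n = h * (h⁻¹ * n) := by group
      rw [e]
      exact mul_mem h1 (Subgroup.le_normalizer
        ((le_sup_left : RC ≤ RC ⊔ T) ((le_sup_right : _ ≤ RC) hcC)))
    have hXN : RC ⊔ T ≤ Subgroup.normalizer (R : Set G) :=
      sup_le (sup_le Subgroup.le_normalizer (Subgroup.centralizer_le_normalizer _)) inf_le_right
    have hidx : ∃ k : ℕ, RC.relIndex (RC ⊔ T) = p ^ k := by
      set N := Subgroup.normalizer (R : Set G) with hN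
      have hRCN : RC ≤ N := sup_le Subgroup.le_normalizer (Subgroup.centralizer_le_normalizer _)
      haveI : (RC.subgroupOf N).Normal := by
        refine Subgroup.normal_subgroupOf_of_le_normalizer fun n hn => ?_
        exact ConjFunctor.cj_eq_iff.1 ((Subgroup.map_sup _ _ _).trans (congrArg₂ (· ⊔ ·)
          (ConjFunctor.cj_eq_iff.2 hn) (ConjFunctor.cj_eq_iff.2 (hCn hn))))
      have hTN : T ≤ N := inf_le_right
      have h1 : RC.relIndex (RC ⊔ T) = RC.relIndex T := by
        rw [← Subgroup.relIndex_subgroupOf (sup_le hRCN hTN), ← Subgroup.relIndex_subgroupOf hTN,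
          Subgroup.subgroupOf_sup hRCN hTN, Subgroup.relIndex_sup_left]
      have hTp : IsPGroup p ↥T := P.isPGroup'.to_le ((inf_le_left : T ≤ Q).trans hQP)
      obtain ⟨j, hj⟩ := IsPGroup.iff_card.1 hTp
      have h2 := Subgroup.relIndex_dvd_card RC T
      rw [hj] at h2
      obtain ⟨i, -, hi⟩ := (Nat.dvd_prime_pow (Fact.out : p.Prime)).1 h2
      exact ⟨i, h1.trans hi⟩
    have hX := hrR (RC ⊔ T) hXN (fun n hn => ConjFunctor.cj_eq_iff.2 (hnorm n hn))
      le_sup_left hidx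
    have hTR : T ≤ R := by
      intro t ht
      have htX : t ∈ RC := hX ▸ (le_sup_right : T ≤ RC ⊔ T) ht
      rw [← SetLike.mem_coe, hRC, sup_comm, Subgroup.coe_mul_of_left_le_normalizer_right _ _
        (Subgroup.centralizer_le_normalizer (R : Set G))] at htX
      obtain ⟨c, hc, r, hr, hcr'⟩ := htX
      change c * r = t at hcr'
      have hcP : c ∈ (P : Subgroup G) := by
        have e : c = t * r⁻¹ := by rw [← hcr']; group
        rw [e]
        exact mul_mem (hQP (Subgroup.mem_inf.1 ht).1) (inv_mem (hRP hr))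
      rw [← hcr']
      exact mul_mem (hZ (Subgroup.mem_inf.2 ⟨hcP, hc⟩)) hr
    have hQR : R ⊔ Q ≤ (P : Subgroup G) := sup_le hRP hQP
    by_contra hne
    have hne' : R ≠ R ⊔ Q := fun h => hne (h.symm ▸ le_sup_right)
    obtain ⟨y, hy, hyn⟩ := SetLike.exists_of_lt
      (ConjFunctor.lt_nS (P.isPGroup'.to_le hQR) (le_sup_left : R ≤ R ⊔ Q) hne')
    obtain ⟨hyRQ, hyN⟩ := Subgroup.mem_inf.1 hy
    rw [← SetLike.mem_coe, Subgroup.coe_mul_of_left_le_normalizer_right _ _ (hRP.trans hPQ)] at hyRQ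
    obtain ⟨r, hr, q, hq, rfl⟩ := hyRQ
    refine hyn (mul_mem hr (hTR (Subgroup.mem_inf.2 ⟨hq, ?_⟩)))
    exact (Subgroup.mul_mem_cancel_left _ (Subgroup.le_normalizer hr)).1 hyN
  · intro A hA g hgA
    obtain ⟨h, hh, he⟩ := hfus (A : Set G) g hA (fun y hy => hgA (by
      obtain ⟨a, ha, rfl⟩ := hy; exact ⟨a, ha, rfl⟩))
    refine ⟨h, hh, h⁻¹ * g, Subgroup.mem_centralizer_iff.2 fun a ha => ?_, by group⟩
    calc a * (h⁻¹ * g) = h⁻¹ * (h * a * h⁻¹) * g := by group
      _ = h⁻¹ * (g * a * g⁻¹) * g := by rw [he a ha]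
      _ = h⁻¹ * g * a := by group

end Cfsg.Agent.S1953
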