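import Cfsg.Statements.S1954
import Cfsg.Agent.Lib.Tech.AlperinGold
import Cfsg.Agent.Lib.LocalEvenA.Core
import Cfsg.Agent.Lib.Basics.Tools

set_option autoImplicit false
open Cfsg

namespace Cfsg.Agent.S1954

/-- Let N be a normal subgroup of the finite group G, P a Sylow p-subgroup of G, and V a subgroup of P ∩ N normal in P ∩ N such that N_N(V) controls strong fusion in P ∩ N with respect to N (whenever a subgroup A of P ∩ N has n A n⁻¹ ≤ P ∩ N for some n in N, then n = h c with h in N_N(V) and c in C_N(A)). Let W be the subgroup generated by the conjugates of V under N_G(P ∩ N). Then N_G(W) controls strong fusion in P with respect to G. -/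
theorem result {G : Type*} [Group G] [Finite G] {p : ℕ} [Fact p.Prime] (N : Subgroup G) [N.Normal] (P : Sylow p G) (V : Subgroup G)
    (hV : V ≤ (P : Subgroup G) ⊓ N) (hVn : ∀ x ∈ (P : Subgroup G) ⊓ N, V.map (MulAut.conj x).toMonoidHom = V)
    (hctrl : ∀ A : Subgroup G, A ≤ (P : Subgroup G) ⊓ N → ∀ n ∈ N, A.map (MulAut.conj n).toMonoidHom ≤ (P : Subgroup G) ⊓ N →
      ∃ h ∈ N ⊓ Subgroup.normalizer (V : Set G), ∃ c ∈ N ⊓ Subgroup.centralizer (A : Set G), n = h * c)
    (W : Subgroup G) (hW : W = Subgroup.closure (⋃ x ∈ Subgroup.normalizer (((P : Subgroup G) ⊓ N : Subgroup G) : Set G),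
      ((V.map (MulAut.conj x).toMonoidHom : Subgroup G) : Set G))) :
    ∀ A : Subgroup G, A ≤ (P : Subgroup G) → ∀ g : G, A.map (MulAut.conj g).toMonoidHom ≤ (P : Subgroup G) →
        ∃ h ∈ Subgroup.normalizer (W : Set G), ∃ c ∈ Subgroup.centralizer (A : Set G), g = h * c := by
  classical
  set Q := (P : Subgroup G) ⊓ N with hQ
  have hQP : Q ≤ (P : Subgroup G) := inf_le_left
  have hQN : Q ≤ N := inf_le_right
  obtain ⟨P₀, hP₀⟩ := LocalEvenA.exists_sylow_subgroupOf_normal P N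
  have hP₀Q : (P₀ : Subgroup N).map N.subtype = Q := by rw [hP₀, Subgroup.subgroupOf_map_subtype]
  have hfr : N ⊔ Subgroup.normalizer (Q : Set G) = ⊤ := by
    have := Sylow.normalizer_sup_eq_top P₀
    rwa [hP₀Q, sup_comm] at this
  let cV : G → Subgroup G := fun x => V.map (MulAut.conj x).toMonoidHom
  have hcV : ∀ x ∈ Subgroup.normalizer (Q : Set G), cV x ≤ Q := by
    rintro x hx _ ⟨v, hv, rfl⟩
    exact (Subgroup.mem_normalizer_iff.mp hx v).mp (hV hv)
  -- control is inherited by the conjugates of `V`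
  have hctrl' : ∀ x ∈ Subgroup.normalizer (Q : Set G), ∀ A : Subgroup G, A ≤ Q → ∀ n ∈ N,
      (∀ a ∈ A, n * a * n⁻¹ ∈ Q) → ∃ h ∈ N, h ∈ Subgroup.normalizer ((cV x : Subgroup G) : Set G) ∧
        ∃ c ∈ N, c ∈ Subgroup.centralizer (A : Set G) ∧ n = h * c := by
    intro x hx A hA n hn hnA
    have hx' := inv_mem hx
    obtain ⟨h, hh, c, hc, e⟩ := hctrl (A.map (MulAut.conj x⁻¹).toMonoidHom)
      ((Fusion.map_conj_le_iff _).mpr fun a ha => (Subgroup.mem_normalizer_iff.mp hx' a).mp (hA ha))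
      (x⁻¹ * n * x) (Subgroup.Normal.conj_mem' inferInstance n hn x)
      ((Fusion.map_conj_le_iff _).mpr fun b hb => by
        obtain ⟨a, ha, rfl⟩ := hb
        have h2 := (Subgroup.mem_normalizer_iff.mp hx' _).mp (hnA a ha)
        have e2 : (x⁻¹ * n * x) * (MulAut.conj x⁻¹).toMonoidHom a * (x⁻¹ * n * x)⁻¹ =
            x⁻¹ * (n * a * n⁻¹) * x⁻¹⁻¹ := by
          show (x⁻¹ * n * x) * (x⁻¹ * a * x⁻¹⁻¹) * (x⁻¹ * n * x)⁻¹ = _
          group
        rw [e2]
        exact h2)
    obtain ⟨hhN, hhV⟩ := Subgroup.mem_inf.mp hh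
    obtain ⟨hcN, hcA⟩ := Subgroup.mem_inf.mp hc
    refine ⟨x * h * x⁻¹, Subgroup.Normal.conj_mem inferInstance h hhN x, ?_, x * c * x⁻¹,
      Subgroup.Normal.conj_mem inferInstance c hcN x, ?_, ?_⟩
    · refine Fusion.mem_normalizer_of_forall ?_
      rintro _ ⟨v, hv, rfl⟩
      exact ⟨h * v * h⁻¹, (Subgroup.mem_normalizer_iff.mp hhV v).mp hv, by simp [mul_assoc]⟩
    · refine Subgroup.mem_centralizer_iff.mpr fun a ha => ?_
      have h2 := Subgroup.mem_centralizer_iff.mp hcA _ ⟨a, ha, rfl⟩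
      simp only [MulEquiv.coe_toMonoidHom, MulAut.conj_apply, inv_inv] at h2
      calc a * (x * c * x⁻¹) = x * (x⁻¹ * a * x * c) * x⁻¹ := by group
        _ = x * c * x⁻¹ * a := by rw [h2]; group
    · calc n = x * (x⁻¹ * n * x) * x⁻¹ := by group
        _ = x * h * x⁻¹ * (x * c * x⁻¹) := by rw [e]; group
  have hWgen : ∀ x ∈ Subgroup.normalizer (Q : Set G), cV x ≤ W := fun x hx v hv => by
    rw [hW]
    exact Subgroup.subset_closure (Set.mem_iUnion₂.mpr ⟨x, hx, hv⟩)
  have hWQ : W ≤ Q := by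
    rw [hW, Subgroup.closure_le]
    exact Set.iUnion₂_subset fun x hx => hcV x hx
  have hnormW : ∀ g : G, (∀ x ∈ Subgroup.normalizer (Q : Set G), ∀ v ∈ cV x, g * v * g⁻¹ ∈ W) →
      g ∈ Subgroup.normalizer (W : Set G) := by
    intro g hg
    refine Fusion.mem_normalizer_of_forall ?_
    have : W ≤ W.comap (MulAut.conj g).toMonoidHom := by
      conv_lhs => rw [hW]
      rw [Subgroup.closure_le]
      exact Set.iUnion₂_subset fun x hx v hv => Subgroup.mem_comap.mpr (hg x hx v hv)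
    exact fun w hw => this hw
  have hNQW : ∀ m ∈ Subgroup.normalizer (Q : Set G), m ∈ Subgroup.normalizer (W : Set G) :=
    fun m hm => hnormW m fun x hx v hv => by
      obtain ⟨v₀, hv₀, rfl⟩ := hv
      exact hWgen (m * x) (mul_mem hm hx) ⟨v₀, hv₀, by simp [mul_assoc]⟩
  have hlist : ∀ (L : List G), (∀ x ∈ L, x ∈ Subgroup.normalizer (Q : Set G)) →
      ∀ A : Subgroup G, A ≤ Q → ∀ n ∈ N, (∀ a ∈ A, n * a * n⁻¹ ∈ Q) →
        ∃ h ∈ N, (∀ x ∈ L, h ∈ Subgroup.normalizer ((cV x : Subgroup G) : Set G)) ∧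
          ∃ c ∈ N, c ∈ Subgroup.centralizer (A : Set G) ∧ n = h * c := by
    intro L
    induction L with
    | nil => exact fun _ A _ n hn _ => ⟨n, hn, by simp, 1, one_mem N, one_mem _, by simp⟩
    | cons x L ihL =>
      intro hL A hA n hn hnA
      have hx := hL x (List.mem_cons_self ..)
      obtain ⟨h₁, hh₁N, hh₁V, c₁, hc₁N, hc₁A, e₁⟩ := hctrl' x hx A hA n hn hnA
      have hA' : ∀ a ∈ A ⊔ cV x, h₁ * a * h₁⁻¹ ∈ Q := by
        have hle : A ⊔ cV x ≤ Q.comap (MulAut.conj h₁).toMonoidHom := sup_le (fun a ha => by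
          have h2 := hnA a ha
          have h3 := Subgroup.mem_centralizer_iff.mp hc₁A a ha
          have e : n * a * n⁻¹ = h₁ * a * h₁⁻¹ := by
            calc n * a * n⁻¹ = h₁ * (c₁ * a) * c₁⁻¹ * h₁⁻¹ := by rw [e₁]; group
              _ = h₁ * a * h₁⁻¹ := by rw [← h3]; group
          show h₁ * a * h₁⁻¹ ∈ Q; exact e ▸ h2)
          fun a ha => hcV x hx ((Subgroup.mem_normalizer_iff.mp hh₁V a).mp ha)
        exact fun a ha => hle ha
      obtain ⟨h₂, hh₂N, hh₂L, c₂, hc₂N, hc₂A, e₂⟩ :=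
        ihL (fun y hy => hL y (List.mem_cons_of_mem _ hy)) (A ⊔ cV x) (sup_le hA (hcV x hx)) h₁ hh₁N hA'
      refine ⟨h₂, hh₂N, ?_, c₂ * c₁, mul_mem hc₂N hc₁N,
        mul_mem (Subgroup.centralizer_le (show (A : Set G) ⊆ ((A ⊔ cV x : Subgroup G) : Set G) from fun a ha => Subgroup.mem_sup_left ha) hc₂A) hc₁A,
        by rw [e₁, e₂, mul_assoc]⟩
      intro y hy
      rcases List.mem_cons.mp hy with rfl | hy
      · have hc₂N' : c₂ ∈ Subgroup.normalizer ((cV y : Subgroup G) : Set G) :=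
          Subgroup.centralizer_le_normalizer _ (Subgroup.centralizer_le
            (show ((cV y : Subgroup G) : Set G) ⊆ ((A ⊔ cV y : Subgroup G) : Set G) from fun a ha => Subgroup.mem_sup_right ha) hc₂A)
        rw [show h₂ = h₁ * c₂⁻¹ by rw [e₂, mul_inv_cancel_right]]
        exact mul_mem hh₁V (inv_mem hc₂N')
      · exact hh₂L y hy
  have ctrlW : ∀ A : Subgroup G, A ≤ Q → ∀ n ∈ N, (∀ a ∈ A, n * a * n⁻¹ ∈ Q) →
      ∃ h ∈ N, h ∈ Subgroup.normalizer (W : Set G) ∧
        ∃ c ∈ N, c ∈ Subgroup.centralizer (A : Set G) ∧ n = h * c := by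
    intro A hA n hn hnA
    obtain ⟨h, hhN, hhL, hrest⟩ := hlist
      (Set.toFinite (Subgroup.normalizer (Q : Set G) : Set G)).toFinset.toList
      (fun x hx => by simpa using hx) A hA n hn hnA
    refine ⟨h, hhN, hnormW h fun x hx v hv => hWgen x hx ?_, hrest⟩
    exact (Subgroup.mem_normalizer_iff.mp (hhL x (by simpa using hx)) v).mp hv
  have hweak : ∀ g : G, (∀ w ∈ W, g * w * g⁻¹ ∈ Q) → g ∈ Subgroup.normalizer (W : Set G) := by
    intro g hg
    obtain ⟨n, hn, m, hm, rfl⟩ := (Subgroup.mem_sup_of_normal_left (s := N)).mp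
      (show g ∈ N ⊔ Subgroup.normalizer (Q : Set G) by rw [hfr]; exact Subgroup.mem_top g)
    obtain ⟨h, -, hhW, c, -, hc, rfl⟩ := ctrlW W hWQ n hn fun w hw => by
      have := hg (m⁻¹ * w * m) (by
        simpa using (Subgroup.mem_normalizer_iff.mp (hNQW _ (inv_mem hm)) w).mp hw)
      simpa [mul_assoc] using this
    exact mul_mem (mul_mem hhW (Subgroup.centralizer_le_normalizer _ hc)) (hNQW m hm)
  have hPQ : (P : Subgroup G) ≤ Subgroup.normalizer (Q : Set G) := fun s hs =>
    Subgroup.mem_normalizer_iff.mpr fun z => and_congr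
      (Subgroup.mem_normalizer_iff.mp (Subgroup.le_normalizer hs) z)
      (Subgroup.mem_normalizer_iff.mp (by rw [Subgroup.normalizer_eq_top]; exact Subgroup.mem_top s) z)
  have hWD : ∀ D : Subgroup G, Tech.AGGood P D → W ≤ D := by
    rintro D ⟨hDP, hCD, hdp, -, -⟩
    set D₀ := D ⊓ N with hD₀
    have hD₀Q : D₀ ≤ Q := inf_le_inf_right N hDP
    set W₀ := W ⊓ Subgroup.normalizer (D₀ : Set G)
    set C₀ := N ⊓ Subgroup.centralizer (D₀ : Set G)
    set ND := Subgroup.normalizer (D : Set G)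
    have hND₀ : ∀ g ∈ ND, g ∈ Subgroup.normalizer (D₀ : Set G) := fun g hg =>
      Subgroup.mem_normalizer_iff.mpr fun z => and_congr (Subgroup.mem_normalizer_iff.mp hg z)
        (Subgroup.mem_normalizer_iff.mp (by rw [Subgroup.normalizer_eq_top]; exact Subgroup.mem_top g) z)
    have hnL : ∀ g ∈ ND, g ∈ Subgroup.normalizer ((W₀ ⊔ C₀ : Subgroup G) : Set G) := by
      intro g hg
      have hgD₀ := hND₀ g hg
      obtain ⟨n, hn, m, hm, e⟩ := (Subgroup.mem_sup_of_normal_left (s := N)).mp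
        (show g ∈ N ⊔ Subgroup.normalizer (Q : Set G) by rw [hfr]; exact Subgroup.mem_top g)
      obtain ⟨h, hhN, hhW, c, hcN, hc, e'⟩ := ctrlW (D₀.map (MulAut.conj m).toMonoidHom)
        ((Fusion.map_conj_le_iff _).mpr fun d hd => (Subgroup.mem_normalizer_iff.mp hm d).mp (hD₀Q hd))
        n hn (fun a ha => by
          obtain ⟨d, hd, rfl⟩ := ha
          have h2 := hD₀Q ((Subgroup.mem_normalizer_iff.mp hgD₀ d).mp hd)
          rw [← e] at h2
          simpa [mul_assoc] using h2)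
      have hc' : m⁻¹ * c * m ∈ C₀ := Subgroup.mem_inf.mpr
        ⟨Subgroup.Normal.conj_mem' inferInstance c hcN m, Subgroup.mem_centralizer_iff.mpr fun d hd => by
          have h2 := Subgroup.mem_centralizer_iff.mp hc _ ⟨d, hd, rfl⟩
          simp only [MulEquiv.coe_toMonoidHom, MulAut.conj_apply] at h2
          calc d * (m⁻¹ * c * m) = m⁻¹ * (m * d * m⁻¹ * c) * m := by group
            _ = m⁻¹ * c * m * d := by rw [h2]; group⟩
      have hgeq : g = h * m * (m⁻¹ * c * m) := by rw [← e, e']; group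
      have hr : h * m ∈ Subgroup.normalizer (D₀ : Set G) := by
        rw [show h * m = g * (m⁻¹ * c * m)⁻¹ by rw [hgeq]; group]
        exact mul_mem hgD₀ (inv_mem (Subgroup.centralizer_le_normalizer _ (Subgroup.mem_inf.mp hc').2))
      have hrW : h * m ∈ Subgroup.normalizer (W : Set G) := mul_mem hhW (hNQW m hm)
      have hr₁ : h * m ∈ Subgroup.normalizer ((W₀ ⊔ C₀ : Subgroup G) : Set G) := by
        refine Fusion.mem_normalizer_of_forall ?_
        have hle : W₀ ⊔ C₀ ≤ (W₀ ⊔ C₀).comap (MulAut.conj (h * m)).toMonoidHom := sup_le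
          (fun w hw => Subgroup.mem_sup_left (Subgroup.mem_inf.mpr
            ⟨(Subgroup.mem_normalizer_iff.mp hrW w).mp (Subgroup.mem_inf.mp hw).1,
              mul_mem (mul_mem hr (Subgroup.mem_inf.mp hw).2) (inv_mem hr)⟩))
          (fun z hz => Subgroup.mem_sup_right (Subgroup.mem_inf.mpr
            ⟨Subgroup.Normal.conj_mem inferInstance z (Subgroup.mem_inf.mp hz).1 (h * m),
              Subgroup.mem_centralizer_iff.mpr fun d hd => by
                have h2 := Subgroup.mem_centralizer_iff.mp (Subgroup.mem_inf.mp hz).2 _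
                  ((Subgroup.mem_normalizer_iff''.mp hr d).mp hd)
                show d * ((h * m) * z * (h * m)⁻¹) = (h * m) * z * (h * m)⁻¹ * d
                calc d * ((h * m) * z * (h * m)⁻¹) = (h * m) * ((h * m)⁻¹ * d * (h * m) * z) * (h * m)⁻¹ := by group
                  _ = (h * m) * z * (h * m)⁻¹ * d := by rw [h2]; group⟩))
        exact fun z hz => hle hz
      rw [hgeq]
      exact mul_mem hr₁ (Subgroup.le_normalizer (Subgroup.mem_sup_right hc'))
    let L : Subgroup ND := (W₀ ⊔ C₀).subgroupOf ND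
    have hLn : L.Normal := ⟨fun l hl g => Subgroup.mem_subgroupOf.mpr
      ((Subgroup.mem_normalizer_iff.mp (hnL g g.2) l).mp (Subgroup.mem_subgroupOf.mp hl))⟩
    have hLN : W₀ ⊔ C₀ ≤ N := sup_le (inf_le_left.trans (hWQ.trans hQN)) inf_le_left
    have hW₀n : W₀ ≤ Subgroup.normalizer (C₀ : Set G) := fun w hw => by
      refine Fusion.mem_normalizer_of_forall fun z hz => Subgroup.mem_inf.mpr
        ⟨Subgroup.Normal.conj_mem inferInstance z (Subgroup.mem_inf.mp hz).1 w,
          Subgroup.mem_centralizer_iff.mpr fun d hd => ?_⟩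
      have h2 := Subgroup.mem_centralizer_iff.mp (Subgroup.mem_inf.mp hz).2 _
        ((Subgroup.mem_normalizer_iff''.mp (Subgroup.mem_inf.mp hw).2 d).mp hd)
      calc d * (w * z * w⁻¹) = w * (w⁻¹ * d * w * z) * w⁻¹ := by group
        _ = w * z * w⁻¹ * d := by rw [h2]; group
    set K := Cfsg.pPrimeCore p ↥ND
    set M := Cfsg.pPrimePCore p ↥ND
    have hpow : ∀ l ∈ L, ∃ k, l ^ p ^ k ∈ M := by
      intro l hl
      obtain ⟨w, hw, z, hz, ewz⟩ := (Basics.mem_sup_of_le_normalizer' hW₀n).mp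
        (show (l : G) ∈ C₀ ⊔ W₀ by rw [sup_comm]; exact Subgroup.mem_subgroupOf.mp hl)
      have hzN : z ∈ Subgroup.normalizer (D₀ : Set G) :=
        Subgroup.centralizer_le_normalizer _ (Subgroup.mem_inf.mp hz).2
      obtain ⟨a, ha⟩ := P.2 ⟨w, hQP (hWQ (Subgroup.mem_inf.mp hw).1)⟩
      have ha' : w ^ p ^ a = 1 := congrArg Subtype.val ha
      let νD := D₀.normalizerMonoidHom
      have hν : νD ⟨(l : G), hND₀ l l.2⟩ ^ p ^ a = 1 := by
        have e1 : (⟨(l : G), hND₀ l l.2⟩ : Subgroup.normalizer (D₀ : Set G)) =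
            ⟨w, (Subgroup.mem_inf.mp hw).2⟩ * ⟨z, hzN⟩ := Subtype.ext ewz
        have e2 : νD ⟨z, hzN⟩ = 1 := MulEquiv.ext fun d => Subtype.ext (by
          show z * (d : G) * z⁻¹ = d
          rw [← Subgroup.mem_centralizer_iff.mp (Subgroup.mem_inf.mp hz).2 (d : G) d.2,
            mul_inv_cancel_right])
        rw [e1, map_mul, e2, mul_one, ← map_pow, show (⟨w, (Subgroup.mem_inf.mp hw).2⟩ :
          Subgroup.normalizer (D₀ : Set G)) ^ p ^ a = 1 from Subtype.ext ha', map_one]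
      obtain ⟨b, hb⟩ := IsPGroup.iff_card.mp (P.2.to_le ((inf_le_left : D₀ ≤ D).trans hDP))
      set u := (l : G) ^ p ^ a with hu
      have huD₀ : ∀ d ∈ D₀, Commute u d := fun d hd => by
        have := congrArg Subtype.val (DFunLike.congr_fun ((map_pow νD _ _).trans hν) (⟨d, hd⟩ : D₀))
        exact mul_inv_eq_iff_eq_mul.mp this
      have huC : u ^ p ^ b ∈ Subgroup.centralizer (D : Set G) := Subgroup.mem_centralizer_iff.mpr fun d hd => by
        have hdd : d⁻¹ * (u * d * u⁻¹) ∈ D₀ := by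
          refine Subgroup.mem_inf.mpr ⟨mul_mem (inv_mem hd) ?_, ?_⟩
          · exact (Subgroup.mem_normalizer_iff.mp (pow_mem l.2 _) d).mp hd
          · have huN : u ∈ N := pow_mem (hLN (Subgroup.mem_subgroupOf.mp hl)) _
            have := mul_mem (Subgroup.Normal.conj_mem inferInstance u huN d⁻¹) (inv_mem huN)
            simpa [mul_assoc] using this
        set t := d⁻¹ * (u * d * u⁻¹) with ht
        have hut : Commute u t := huD₀ t hdd
        have step : ∀ j : ℕ, u ^ j * d = d * t ^ j * u ^ j := by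
          intro j
          induction j with
          | zero => simp
          | succ j ihj =>
            have e1 : u * d = d * t * u := by rw [ht]; group
            calc u ^ (j + 1) * d = u ^ j * (u * d) := by rw [pow_succ, mul_assoc]
              _ = u ^ j * d * t * u := by rw [e1]; simp [mul_assoc]
              _ = d * t ^ j * (u ^ j * t) * u := by rw [ihj]; simp [mul_assoc]
              _ = _ := by rw [(hut.pow_left j).eq, pow_succ, pow_succ]; simp [mul_assoc]
        have htb : t ^ p ^ b = 1 := by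
          rw [← hb]; exact congrArg Subtype.val (pow_card_eq_one' (x := (⟨t, hdd⟩ : D₀)))
        have := step (p ^ b)
        rw [htb, mul_one] at this
        exact this.symm
      refine ⟨a + b, ?_⟩
      obtain ⟨m, hm, hme⟩ := hCD huC
      have : m = l ^ p ^ (a + b) := Subtype.ext (by
        rw [SubmonoidClass.coe_pow, pow_add, pow_mul]; exact hme)
      exact this ▸ hm
    have hLM : L ≤ M := by
      intro l hl
      refine Components.le_pCore (Subgroup.Normal.map hLn _ (QuotientGroup.mk'_surjective K)) ?_ ⟨l, hl, rfl⟩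
      rintro ⟨_, l', hl', rfl⟩
      obtain ⟨k, hk⟩ := hpow l' hl'
      obtain ⟨j, hj⟩ := Components.sSup_isPGroup_of_normal (p := p) (G := ↥ND ⧸ K)
        ⟨QuotientGroup.mk' K (l' ^ p ^ k), hk⟩
      refine ⟨k + j, Subtype.ext ?_⟩
      have := congrArg Subtype.val hj
      simpa [pow_add, pow_mul] using this
    have hNW : W ⊓ ND ≤ D := by
      intro w hw
      obtain ⟨hwW, hwN⟩ := Subgroup.mem_inf.mp hw
      have hwM : w ∈ M.map ND.subtype := ⟨⟨w, hwN⟩, hLM (Subgroup.mem_subgroupOf.mpr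
        (Subgroup.mem_sup_left (Subgroup.mem_inf.mpr ⟨hwW, hND₀ w hwN⟩))), rfl⟩
      rw [← hdp.2.2.2.2, sup_comm] at hwM
      obtain ⟨d, hd, k, hk, rfl⟩ := (Basics.mem_sup_of_le_normalizer (fun k hk =>
        (show K.map ND.subtype ≤ ND from Subgroup.map_subtype_le _) hk)).mp hwM
      obtain ⟨i, hi⟩ := P.2 ⟨d * k, hQP (hWQ hwW)⟩
      obtain ⟨j, hj⟩ := P.2 ⟨d, hDP hd⟩
      have h1 : (d * k) ^ p ^ (i + j) = 1 := by
        have : (d * k) ^ p ^ i = 1 := congrArg Subtype.val hi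
        rw [pow_add, pow_mul, this, one_pow]
      have h2 : d ^ p ^ (i + j) = 1 := by
        have : d ^ p ^ j = 1 := congrArg Subtype.val hj
        rw [pow_add, mul_comm, pow_mul, this, one_pow]
      have hdk : Commute d k := (hdp.2.2.1 k hk d hd).symm
      rw [hdk.mul_pow, h2, one_mul] at h1
      obtain ⟨k', hk', rfl⟩ := hk
      have hk1 : k' = 1 := by
        refine orderOf_eq_one_iff.mp (Nat.Coprime.eq_one_of_dvd ?_ (orderOf_dvd_of_pow_eq_one
          (Subtype.ext (by simpa using h1) : k' ^ p ^ (i + j) = 1)))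
        exact (Nat.Coprime.pow_right _ Components.pPrimeCore_coprime).coprime_dvd_left
          (Nat.card_zpowers k' ▸ Subgroup.card_dvd_of_le ((Subgroup.zpowers_le).mpr hk'))
      rw [hk1, map_one, mul_one]
      exact hd
    have hDW : D ≤ Subgroup.normalizer (W : Set G) := hDP.trans (hPQ.trans hNQW)
    by_contra hnle
    have hlt : D < D ⊔ W := lt_of_le_not_ge le_sup_left fun h => hnle (le_sup_right.trans h)
    obtain ⟨y, hy, hyD, hyN⟩ := Fusion.exists_mem_not_mem_normalizer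
      (P.2.to_le (sup_le hDP (hWQ.trans hQP))) hlt
    obtain ⟨w, hw, d, hd, rfl⟩ := (Basics.mem_sup_of_le_normalizer hDW).mp
      (show y ∈ W ⊔ D by rw [sup_comm]; exact hy)
    refine hyD (mul_mem (hNW (Subgroup.mem_inf.mpr ⟨hw, ?_⟩)) hd)
    simpa using mul_mem hyN (inv_mem (Subgroup.le_normalizer hd))
  intro A hA g hg
  obtain ⟨l, -, hl, hlg⟩ := Tech.alperinGoldschmidt P (A : Set G) hA g⁻¹ fun a ha => by
    simpa using hg ⟨a, ha, rfl⟩
  have hsp := Tech.AGChain.spec P l hl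
  have hwW : (l.map Prod.snd).prod ∈ Subgroup.normalizer (W : Set G) := by
    refine list_prod_mem fun x hx => ?_
    obtain ⟨s, hs, rfl⟩ := List.mem_map.mp hx
    obtain ⟨i, hi, rfl⟩ := List.getElem_of_mem hs
    obtain ⟨hgood, hnorm, -⟩ := hsp i hi
    refine hweak _ fun w hw => Subgroup.mem_inf.mpr
      ⟨hgood.1 ((Subgroup.mem_normalizer_iff.mp hnorm w).mp (hWD _ hgood hw)),
        Subgroup.Normal.conj_mem inferInstance w (hQN (hWQ hw)) _⟩
  set w := (l.map Prod.snd).prod
  refine ⟨w⁻¹, inv_mem hwW, w * g, Subgroup.mem_centralizer_iff.mpr fun a ha => ?_, by group⟩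
  have h2 := hlg a ha
  rw [inv_inv] at h2
  calc a * (w * g) = w * (w⁻¹ * a * w) * g := by group
    _ = w * g * a := by rw [h2]; group

end Cfsg.Agent.S1954
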