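import Cfsg.Statements.S1956
import Mathlib

set_option autoImplicit false
open Cfsg

namespace Cfsg.Agent.S1956

/-- Let P be a Sylow p-subgroup of the finite group G such that every element of P of order dividing p (dividing 4 when p = 2) is central in P. Then the fusion of these elements is controlled by N_G(P): if such an element a of P has g a g⁻¹ in P, then g = n c with n normalizing P and c commuting with a. -/
theorem result {G : Type*} [Group G] [Finite G] {p : ℕ} [Fact p.Prime] (P : Sylow p G)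
    (hcen : ∀ a ∈ (P : Subgroup G), (a ^ p = 1 ∨ (p = 2 ∧ a ^ 4 = 1)) → ∀ y ∈ (P : Subgroup G), a * y = y * a) :
    ∀ a ∈ (P : Subgroup G), (a ^ p = 1 ∨ (p = 2 ∧ a ^ 4 = 1)) → ∀ g : G, g * a * g⁻¹ ∈ (P : Subgroup G) →
      ∃ n ∈ Subgroup.normalizer ((P : Subgroup G) : Set G), ∃ c : G, c * a = a * c ∧ g = n * c := by
  intro a ha hord g hg
  have hb : (g * a * g⁻¹) ^ p = 1 ∨ (p = 2 ∧ (g * a * g⁻¹) ^ 4 = 1) := by
    rcases hord with h | ⟨h2, h⟩
    · left; rw [conj_pow, h, mul_one, mul_inv_cancel]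
    · right; exact ⟨h2, by rw [conj_pow, h, mul_one, mul_inv_cancel]⟩
  have hca : a ∈ Subgroup.centralizer ((P : Subgroup G) : Set G) := fun y hy =>
    (hcen a ha hord y hy).symm
  have hcb : g⁻¹⁻¹ * a * g⁻¹ ∈ Subgroup.centralizer ((P : Subgroup G) : Set G) := fun y hy => by
    rw [inv_inv]; exact (hcen _ hg hb y hy).symm
  obtain ⟨m, hm, hme⟩ := P.conj_eq_normalizer_conj_of_mem_centralizer a g⁻¹ hca hcb
  rw [inv_inv] at hme
  refine ⟨m⁻¹, Subgroup.inv_mem _ hm, m * g, ?_, by group⟩
  calc m * g * a = m * (g * a * g⁻¹) * g := by group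
    _ = a * (m * g) := by rw [hme]; group

end Cfsg.Agent.S1956
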