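import Cfsg.Statements.S1957
import Cfsg.Agent.Lib.LocalEvenA.Core
import Cfsg.Agent.Lib.Basics.CoprimeGen
import Mathlib
-- import your own Cfsg.Agent.* helpers here

set_option autoImplicit false
open Cfsg

namespace Cfsg.Agent.S1957

/-- In a group of characteristic 2 type, an element stabilising the chain `O₂(C(u)) ≥ ⟨u⟩ ≥ 1`
lies in `O₂(C(u))`. -/
theorem mem_coreOf_centralizer {G : Type*} [Group G] [Finite G]
    (h2 : Cfsg.IsCharacteristicTwoType G) (u : G) (hu : orderOf u = 2) (w : G)
    (hw : w ∈ Subgroup.centralizer ({u} : Set G))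
    (hchain : ∀ q ∈ pCoreOf 2 (Subgroup.centralizer ({u} : Set G)),
      w * q * w⁻¹ * q⁻¹ ∈ Subgroup.zpowers u) :
    w ∈ pCoreOf 2 (Subgroup.centralizer ({u} : Set G)) := by
  classical
  haveI : Fact (Nat.Prime 2) := ⟨Nat.prime_two⟩
  set X := Subgroup.centralizer ({u} : Set G) with hX
  set Q := pCoreOf 2 X with hQ
  have hu1 : u ≠ 1 := by
    intro h; rw [h, orderOf_one] at hu; norm_num at hu
  have hu2 : u ^ 2 = 1 := hu ▸ pow_orderOf_eq_one u
  have hTp : IsPGroup 2 ↥(Subgroup.zpowers u) :=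
    IsPGroup.of_card (n := 1) (by rw [Nat.card_zpowers, hu, pow_one])
  have hN : Subgroup.normalizer (Subgroup.zpowers u : Set G) = X := by
    apply le_antisymm
    · intro g hg
      have hm : g * u * g⁻¹ ∈ Subgroup.zpowers u :=
        (Subgroup.mem_normalizer_iff.1 hg u).1 (Subgroup.mem_zpowers u)
      obtain ⟨k, hk⟩ := hm
      dsimp only at hk
      rcases Int.even_or_odd k with ⟨m, rfl⟩ | ⟨m, rfl⟩
      · have : g * u * g⁻¹ = 1 := by
          rw [← hk, ← two_mul, zpow_mul, zpow_ofNat, hu2, one_zpow]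
        exact absurd (by simpa using this) hu1
      · rw [hX, Subgroup.mem_centralizer_singleton_iff]
        have he : g * u * g⁻¹ = u := by
          rw [← hk, zpow_add, zpow_mul, zpow_ofNat, hu2, one_zpow, one_mul, zpow_one]
        exact mul_inv_eq_iff_eq_mul.1 he
    · intro g hg
      have hcm : ∀ c ∈ Subgroup.zpowers u, g * c * g⁻¹ = c := by
        rintro c ⟨k, rfl⟩
        have h : Commute g u := Subgroup.mem_centralizer_singleton_iff.1 hg
        dsimp only
        rw [(h.zpow_right k).eq]; simp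
      rw [Subgroup.mem_normalizer_iff]
      refine fun x => ⟨fun hx => by rw [hcm x hx]; exact hx, fun hx => ?_⟩
      have h1 := hcm _ hx
      have : g * x * g⁻¹ = x := by
        have h2 : g * (g * x * g⁻¹) * g⁻¹ = g * x * g⁻¹ := h1
        calc g * x * g⁻¹ = g⁻¹ * (g * (g * x * g⁻¹) * g⁻¹) * g := by group
          _ = g⁻¹ * (g * x * g⁻¹) * g := by rw [h2]
          _ = x := by group
      rwa [this] at hx
  have hT1 : Subgroup.zpowers u ≠ ⊥ := by simpa using hu1
  have hchar : X ⊓ Subgroup.centralizer (Q : Set G) ≤ Q := by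
    have := h2.2 _ hTp hT1
    rw [hN] at this
    exact (LocalEvenA.charP_iff 2 X).1 this
  have hQn : ∀ g ∈ X, ∀ q ∈ Q, g * q * g⁻¹ ∈ Q := fun g hg q hq =>
    (Subgroup.mem_normalizer_iff.1 (LocalEvenA.le_normalizer_pCoreOf 2 X hg) q).1 hq
  have hfix : ∀ g ∈ X, ∀ c ∈ Subgroup.zpowers u, g * c * g⁻¹ = c := by
    intro g hg c hc
    obtain ⟨k, rfl⟩ := hc
    have hcm : Commute g u := Subgroup.mem_centralizer_singleton_iff.1 hg
    rw [show g * u ^ k = u ^ k * g from (hcm.zpow_right k).eq]
    simp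
  let K0 : Subgroup G :=
    { carrier := {x | x ∈ X ∧ ∀ q ∈ Q, x * q * x⁻¹ * q⁻¹ ∈ Subgroup.zpowers u}
      one_mem' := ⟨X.one_mem, fun q _ => by simp⟩
      mul_mem' := by
        rintro x y ⟨hx, hx'⟩ ⟨hy, hy'⟩
        refine ⟨X.mul_mem hx hy, fun q hq => ?_⟩
        have e : x * y * q * (x * y)⁻¹ * q⁻¹ =
            x * (y * q * y⁻¹ * q⁻¹) * x⁻¹ * (x * q * x⁻¹ * q⁻¹) := by group
        rw [e, hfix x hx _ (hy' q hq)]
        exact mul_mem (hy' q hq) (hx' q hq)
      inv_mem' := by
        rintro x ⟨hx, hx'⟩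
        refine ⟨X.inv_mem hx, fun q hq => ?_⟩
        have e : x⁻¹ * q * x⁻¹⁻¹ * q⁻¹ = x⁻¹ * (x * q * x⁻¹ * q⁻¹)⁻¹ * x⁻¹⁻¹ := by group
        rw [e, hfix _ (X.inv_mem hx) _ (inv_mem (hx' q hq))]
        exact inv_mem (hx' q hq) }
  have hK0X : K0 ≤ X := fun x hx => hx.1
  have hn : X ≤ Subgroup.normalizer (K0 : Set G) := by
    have h' : ∀ g ∈ X, ∀ x ∈ K0, g * x * g⁻¹ ∈ K0 := by
      intro g hg x hx
      refine ⟨X.mul_mem (X.mul_mem hg hx.1) (X.inv_mem hg), fun q hq => ?_⟩
      have hq' : g⁻¹ * q * g ∈ Q := by simpa using hQn g⁻¹ (X.inv_mem hg) q hq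
      have e : g * x * g⁻¹ * q * (g * x * g⁻¹)⁻¹ * q⁻¹ =
          g * (x * (g⁻¹ * q * g) * x⁻¹ * (g⁻¹ * q * g)⁻¹) * g⁻¹ := by group
      rw [e, hfix g hg _ (hx.2 _ hq')]
      exact hx.2 _ hq'
    intro g hg
    rw [Subgroup.mem_normalizer_iff]
    refine fun x => ⟨h' g hg x, fun hx => ?_⟩
    have := h' g⁻¹ (X.inv_mem hg) _ hx
    simpa [mul_assoc] using this
  have hp : IsPGroup 2 ↥K0 := by
    refine LocalEvenA.isPGroup_of_forall_coprime fun x hx hc => ?_
    have hxQ : x ∈ Q := by
      refine hchar ⟨hx.1, ?_⟩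
      intro q hq
      obtain ⟨k, hk⟩ := hTp ⟨_, hx.2 q hq⟩
      have hxu : ∀ c ∈ Subgroup.zpowers u, Commute x c := fun c hcm =>
        (mul_inv_eq_iff_eq_mul.1 (hfix x hx.1 c hcm))
      have hc' : q⁻¹ * (x * q * x⁻¹) = q⁻¹ * (x * q * x⁻¹ * q⁻¹) * q := by group
      have hqX : q ∈ X := LocalEvenA.pCoreOf_le' 2 X hq
      have hc'' : q⁻¹ * (x * q * x⁻¹) = x * q * x⁻¹ * q⁻¹ := by
        rw [hc']
        simpa using hfix q⁻¹ (X.inv_mem hqX) _ (hx.2 q hq)
      exact (LocalEvenA.comm_of_coprime_chain hc ⟨k, by rw [hc'']; exact congrArg Subtype.val hk⟩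
        (by rw [hc'']; exact hxu _ (hx.2 q hq))).eq.symm
    obtain ⟨k, hk⟩ := LocalEvenA.pCoreOf_isPGroup' 2 X ⟨x, hxQ⟩
    exact LocalEvenA.eq_one_of_pPow_of_coprime (congrArg Subtype.val hk) hc
  exact LocalEvenA.le_pCoreOf hK0X hn hp ⟨hw, hchain⟩

/-- A cyclic subgroup has at most one involution. -/
theorem eq_of_cyclic {G : Type*} [Group G] [Finite G] (Z : Subgroup G) [IsCyclic ↥Z] {a b : G}
    (ha : a ∈ Z) (hb : b ∈ Z) (ha2 : a * a = 1) (hb2 : b * b = 1) (ha1 : a ≠ 1) (hb1 : b ≠ 1) :
    a = b := by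
  classical
  letI := Fintype.ofFinite ↥Z
  by_contra hne
  have h := IsCyclic.card_pow_eq_one_le (α := ↥Z) (n := 2) (by norm_num)
  have hsub : ({1, ⟨a, ha⟩, ⟨b, hb⟩} : Finset ↥Z) ⊆ Finset.univ.filter fun x : ↥Z => x ^ 2 = 1 := by
    intro x hx
    simp only [Finset.mem_insert, Finset.mem_singleton] at hx
    rcases hx with rfl | rfl | rfl <;> simp [Subtype.ext_iff, pow_two, ha2, hb2]
  have := Finset.card_le_card hsub
  have h3 : ({1, ⟨a, ha⟩, ⟨b, hb⟩} : Finset ↥Z).card = 3 := by
    rw [Finset.card_insert_of_notMem (by simp [Subtype.ext_iff, Ne.symm ha1, Ne.symm hb1]),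
      Finset.card_insert_of_notMem (by simp [Subtype.ext_iff, hne]), Finset.card_singleton]
  omega


/-- Let `G` be a finite non-abelian simple group in which every local subgroup is solvable and which is of characteristic 2 type. Let `P` be a Sylow 2-subgroup of `G` and `U` a normal subgroup of `P` that is a four-group, with `U` central in `P` if the centre of `P` is not cyclic. Then `U` centralizes every subgroup of odd order of `G` that it normalizes. -/
theorem result {G : Type*} [Group G] [Finite G]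
    [IsSimpleGroup G] (hna : ¬ IsMulCommutative G) (hN : Cfsg.IsNGroup G) (h2 : Cfsg.IsCharacteristicTwoType G)
    (P : Sylow 2 G) (U : Subgroup G) (hUP : U ≤ (P : Subgroup G)) (hUn : (P : Subgroup G) ≤ Subgroup.normalizer (U : Set G))
    (hU4 : IsKleinFour ↥U)
    (hUZ : ¬ IsCyclic ↥((P : Subgroup G) ⊓ Subgroup.centralizer ((P : Subgroup G) : Set G)) →
      U ≤ Subgroup.centralizer ((P : Subgroup G) : Set G))
    (K : Subgroup G) (hK : Odd (Nat.card K)) (hUK : U ≤ Subgroup.normalizer (K : Set G)) :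
    U ≤ Subgroup.centralizer (K : Set G) := by
  classical
  haveI : Fact (Nat.Prime 2) := ⟨Nat.prime_two⟩
  haveI := hU4
  haveI hUc : IsMulCommutative ↥U := IsKleinFour.isMulCommutative
  have hUsq : ∀ w ∈ U, w * w = 1 := fun w hw =>
    congrArg Subtype.val (IsKleinFour.mul_self (⟨w, hw⟩ : ↥U))
  have hUinv : ∀ w ∈ U, w⁻¹ = w := fun w hw => inv_eq_of_mul_eq_one_right (hUsq w hw)
  have hUcomm : ∀ a ∈ U, ∀ b ∈ U, a * b = b * a := fun a ha b hb => by
    have := hUc.is_comm.comm (⟨a, ha⟩ : ↥U) ⟨b, hb⟩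
    exact congrArg Subtype.val this
  have hUcases : ∀ a ∈ U, ∀ b ∈ U, a ≠ 1 → b ≠ 1 → a ≠ b → ∀ w ∈ U,
      w = 1 ∨ w = a ∨ w = b ∨ w = a * b := by
    intro a ha b hb ha1 hb1 hab w hw
    by_contra hcon
    push_neg at hcon
    have := IsKleinFour.eq_mul_of_ne_all (x := (⟨a, ha⟩ : ↥U)) (y := ⟨b, hb⟩) (z := ⟨w, hw⟩)
      (by simpa [Subtype.ext_iff] using ha1) (by simpa [Subtype.ext_iff] using hb1)
      (by simpa [Subtype.ext_iff] using hab) (by simpa [Subtype.ext_iff] using hcon.1)
      (by simpa [Subtype.ext_iff] using hcon.2.1) (by simpa [Subtype.ext_iff] using hcon.2.2.1)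
    exact hcon.2.2.2 (congrArg Subtype.val this)
  have hord : ∀ u ∈ U, u ≠ 1 → orderOf u = 2 := fun u hu hu1 =>
    orderOf_eq_prime (by rw [pow_two]; exact hUsq u hu) hu1
  have hUp : IsPGroup 2 ↥U := IsPGroup.of_card (n := 2) (by simp)
  have hPX : ∀ g : G, (∀ s ∈ (P : Subgroup G), s * g = g * s) →
      pCoreOf 2 (Subgroup.centralizer ({g} : Set G)) ≤ (P : Subgroup G) := by
    intro g hg
    set X := Subgroup.centralizer ({g} : Set G)
    have hle : (P : Subgroup G) ≤ X := fun s hs => Subgroup.mem_centralizer_singleton_iff.2 (hg s hs)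
    have hn := hle.trans (LocalEvenA.le_normalizer_pCoreOf 2 X)
    have hp : IsPGroup 2 ↥((P : Subgroup G) ⊔ pCoreOf 2 X) :=
      IsPGroup.to_sup_of_normal_right' P.isPGroup' (LocalEvenA.pCoreOf_isPGroup' 2 X) hn
    exact le_sup_right.trans_eq (P.is_maximal' hp le_sup_left)
  -- it suffices that every element of `U` lies in `O₂(C(u))`
  suffices hmain : ∀ u ∈ U, u ≠ 1 → U ≤ pCoreOf 2 (Subgroup.centralizer ({u} : Set G)) by
    have hcop : (Nat.card ↥U).Coprime (Nat.card ↥K) := by
      rw [IsKleinFour.card_four, show (4 : ℕ) = 2 ^ 2 by norm_num]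
      exact (Nat.coprime_two_left.2 hK).pow_left 2
    have hnc : ¬ IsCyclic ↥U := IsKleinFour.not_isCyclic
    rw [Subgroup.le_centralizer_iff, ← Basics.iSup_inf_centralizer_eq U K hnc hUK hcop]
    refine iSup₂_le fun u hu => ?_
    intro k hk
    intro w hw
    have hX := LocalEvenA.le_normalizer_pCoreOf 2 (Subgroup.centralizer ({u} : Set G)) hk.2
    set c := w * k * w⁻¹ * k⁻¹ with hc
    have hcK : c ∈ K := K.mul_mem ((Subgroup.mem_normalizer_iff.1 (hUK hw) k).1 hk.1) (K.inv_mem hk.1)
    have hwQ := hmain u hu.1 hu.2 hw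
    have hcQ : c ∈ pCoreOf 2 (Subgroup.centralizer ({u} : Set G)) := by
      rw [hc, show w * k * w⁻¹ * k⁻¹ = w * (k * w⁻¹ * k⁻¹) by group]
      exact mul_mem hwQ ((Subgroup.mem_normalizer_iff.1 hX _).1 (inv_mem hwQ))
    obtain ⟨n, hn⟩ := LocalEvenA.pCoreOf_isPGroup' 2 _ ⟨c, hcQ⟩
    have hc1 : c = 1 := by
      refine LocalEvenA.eq_one_of_pPow_of_coprime (congrArg Subtype.val hn) ?_
      refine (Nat.coprime_two_right.2 ?_)
      refine hK.of_dvd_nat ?_
      rw [← Subgroup.orderOf_mk c hcK]; exact orderOf_dvd_natCard _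
    calc w * k = c * (k * w) := by rw [hc]; group
      _ = k * w := by rw [hc1, one_mul]
  by_cases hZ : ∀ u ∈ U, ∀ s ∈ (P : Subgroup G), s * u = u * s
  · intro u hu hu1 w hw
    refine mem_coreOf_centralizer h2 u (hord u hu hu1) w
      (Subgroup.mem_centralizer_singleton_iff.2 (hUcomm w hw u hu)) fun q hq => ?_
    have hqP := hPX u (hZ u hu) hq
    rw [show w * q * w⁻¹ * q⁻¹ = 1 by rw [← hZ w hw q hqP]; group]
    exact one_mem _
  have hnle : ¬ U ≤ Subgroup.centralizer ((P : Subgroup G) : Set G) := fun h =>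
    hZ fun u hu s hs => h hu s hs
  set Z := (P : Subgroup G) ⊓ Subgroup.centralizer ((P : Subgroup G) : Set G) with hZdef
  have hcyc : IsCyclic ↥Z := by
    by_contra h
    exact hnle (hUZ h)
  -- a nontrivial element of `U` central in `P`
  obtain ⟨z, hzU, hz1, hzc⟩ : ∃ z ∈ U, z ≠ 1 ∧ ∀ s ∈ (P : Subgroup G), s * z = z * s := by
    haveI : Group.IsNilpotent ↥(P : Subgroup G) := P.isPGroup'.isNilpotent
    haveI : (U.subgroupOf (P : Subgroup G)).Normal :=
      Subgroup.normal_subgroupOf_of_le_normalizer hUn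
    have hne : U.subgroupOf (P : Subgroup G) ≠ ⊥ := by
      intro h
      have h' : U = ⊥ := by
        rw [← Subgroup.map_subgroupOf_eq_of_le hUP, h, Subgroup.map_bot]
      have := (IsKleinFour.card_four : Nat.card ↥U = 4)
      rw [h', Subgroup.card_bot] at this
      omega
    set N := U.subgroupOf (P : Subgroup G)
    have hPp : IsPGroup 2 (ConjAct ↥(P : Subgroup G)) := P.isPGroup'
    have hNcard : Nat.card ↥N = 4 := by
      rw [Nat.card_congr (Subgroup.subgroupOfEquivOfLe hUP).toEquiv, IsKleinFour.card_four]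
    obtain ⟨b, hb, hb1⟩ := hPp.exists_fixed_point_of_prime_dvd_card_of_fixed_point ↥N
      (by rw [hNcard]; norm_num) (a := 1) (by
        intro s; apply Subtype.ext; simp)
    refine ⟨((b : ↥(P : Subgroup G)) : G), Subgroup.mem_subgroupOf.1 b.2,
      fun h => hb1 (Subtype.ext (Subtype.ext h.symm)), fun s hs => ?_⟩
    have h := congrArg (fun x : ↥N => ((x : ↥(P : Subgroup G)) : G)) (hb (ConjAct.toConjAct ⟨s, hs⟩))
    simp [ConjAct.Subgroup.val_conj_smul, ConjAct.smul_def] at h
    exact mul_inv_eq_iff_eq_mul.1 h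
  have hzP : z ∈ (P : Subgroup G) := hUP hzU
  have hzZ : z ∈ Z := ⟨hzP, fun s hs => hzc s hs⟩
  have hconj : ∀ s ∈ (P : Subgroup G), ∀ w ∈ U, s * w * s⁻¹ ∈ U := fun s hs w hw =>
    (Subgroup.mem_normalizer_iff.1 (hUn hs) w).1 hw
  have hmove : ∀ s ∈ (P : Subgroup G), ∀ u ∈ U, u ≠ 1 → u ≠ z →
      s * u * s⁻¹ = u ∨ s * u * s⁻¹ = z * u := by
    intro s hs u hu hu1 huz
    rcases hUcases z hzU u hu hz1 hu1 (Ne.symm huz) _ (hconj s hs u hu) with h | h | h | h
    · exact absurd (by simpa using h) hu1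
    · exfalso
      have hzs : s * z * s⁻¹ = z := by rw [hzc s hs]; group
      exact huz (by simpa using (h.trans hzs.symm))
    · exact Or.inl h
    · exact Or.inr h
  intro u hu hu1
  set X := Subgroup.centralizer ({u} : Set G) with hXdef
  set Q := pCoreOf 2 X with hQdef
  have huX : ∀ w ∈ U, w ∈ X := fun w hw =>
    Subgroup.mem_centralizer_singleton_iff.2 (hUcomm w hw u hu)
  have hQX : ∀ q ∈ Q, q * u = u * q := fun q hq =>
    Subgroup.mem_centralizer_singleton_iff.1 (LocalEvenA.pCoreOf_le' 2 X hq)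
  by_cases huz : u = z
  · subst huz
    intro w hw
    refine mem_coreOf_centralizer h2 u (hord u hu hu1) w (huX w hw) fun q hq => ?_
    have hqP := hPX u hzc hq
    have e : w * q * w⁻¹ * q⁻¹ = w * (q * w * q⁻¹) := by
      conv_lhs => rw [hUinv w hw]
      group
    rw [e]
    by_cases hw1 : w = 1
    · subst hw1; simp
    by_cases hwz : w = u
    · rw [hwz, hQX q hq, show u * q * q⁻¹ = u by group, hUsq u hu]; exact one_mem _
    rcases hmove q hqP w hw hw1 hwz with h | h <;> rw [h]
    · rw [hUsq w hw]; exact one_mem _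
    · rw [hUcomm u hu w hw, ← mul_assoc, hUsq w hw, one_mul]; exact Subgroup.mem_zpowers u
  -- `u` is not central
  have hzQ : z ∈ Q := by
    refine mem_coreOf_centralizer h2 u (hord u hu hu1) z (huX z hzU) fun q hq => ?_
    obtain ⟨t, htP, htu⟩ : ∃ t ∈ (P : Subgroup G), t * u * t⁻¹ = z * u := by
      by_contra hcon
      push_neg at hcon
      have hall : ∀ s ∈ (P : Subgroup G), s * u = u * s := fun s hs => by
        rcases hmove s hs u hu hu1 huz with h | h
        · exact mul_inv_eq_iff_eq_mul.1 h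
        · exact absurd h (hcon s hs)
      haveI := hcyc
      exact huz (eq_of_cyclic Z ⟨hUP hu, fun s hs => hall s hs⟩ hzZ (hUsq u hu) (hUsq z hzU) hu1 hz1)
    set P0 := (P : Subgroup G) ⊓ X with hP0
    have hzP0 : z ∈ P0 := ⟨hzP, huX z hzU⟩
    have hdec : ∀ s ∈ (P : Subgroup G), s ∈ P0 ∨ t⁻¹ * s ∈ P0 := by
      intro s hs
      rcases hmove s hs u hu hu1 huz with h | h
      · exact Or.inl ⟨hs, Subgroup.mem_centralizer_singleton_iff.2 (mul_inv_eq_iff_eq_mul.1 h)⟩
      · refine Or.inr ⟨(P : Subgroup G).mul_mem ((P : Subgroup G).inv_mem htP) hs, Subgroup.mem_centralizer_singleton_iff.2 ?_⟩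
        apply mul_inv_eq_iff_eq_mul.1
        calc t⁻¹ * s * u * (t⁻¹ * s)⁻¹ = t⁻¹ * (s * u * s⁻¹) * t := by group
          _ = t⁻¹ * (t * u * t⁻¹) * t := by rw [h, htu]
          _ = u := by group
    set R := P0 ⊔ Q with hR
    have hP0X : P0 ≤ X := inf_le_right
    have hRp : IsPGroup 2 ↥R :=
      IsPGroup.to_sup_of_normal_right' (P.isPGroup'.to_le inf_le_left)
        (LocalEvenA.pCoreOf_isPGroup' 2 X) (hP0X.trans (LocalEvenA.le_normalizer_pCoreOf 2 X))
    have hqR : q ∈ R := (le_sup_right : Q ≤ R) hq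
    -- conjugates of `z` under `q` lie in `U`
    have hqzU : q * z * q⁻¹ ∈ U := by
      have hidx : P0.relIndex (P : Subgroup G) ≤ 2 := by
        rw [Subgroup.relIndex]
        have hsurj : Function.Surjective (fun b : Bool =>
            (QuotientGroup.mk (if b then (1 : ↥(P : Subgroup G)) else ⟨t, htP⟩) :
              ↥(P : Subgroup G) ⧸ P0.subgroupOf (P : Subgroup G))) := by
          intro c
          induction c using QuotientGroup.induction_on with
          | _ s =>
            rcases hdec s s.2 with h | h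
            · refine ⟨true, (QuotientGroup.eq).2 ?_⟩
              simpa [Subgroup.mem_subgroupOf] using h
            · refine ⟨false, (QuotientGroup.eq).2 ?_⟩
              simpa [Subgroup.mem_subgroupOf] using h
        exact (Nat.card_le_card_of_surjective _ hsurj).trans (by simp)
      have hcm : ∀ {A B : Subgroup G}, A ≤ B → Nat.card ↥A * A.relIndex B = Nat.card ↥B :=
        fun {A B} h => by
          rw [← Nat.card_congr (Subgroup.subgroupOfEquivOfLe h).toEquiv]
          exact Subgroup.card_mul_index _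
      have hnorm : q ∈ Subgroup.normalizer (P0 : Set G) := by
        obtain ⟨P', hP'⟩ := hRp.exists_le_sylow
        have hcard : Nat.card ↥R ≤ 2 * Nat.card ↥P0 := by
          refine (Subgroup.card_le_of_le hP').trans ?_
          rw [Sylow.card_eq_multiplicity, ← Sylow.card_eq_multiplicity P,
            ← hcm (inf_le_left : P0 ≤ (P : Subgroup G)), mul_comm 2]
          exact Nat.mul_le_mul_left _ hidx
        have hidx' : P0.relIndex R ≤ 2 := by
          rw [← hcm (le_sup_left : P0 ≤ R), mul_comm 2] at hcard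
          exact Nat.le_of_mul_le_mul_left hcard Nat.card_pos
        have hnorm' : R ≤ Subgroup.normalizer (P0 : Set G) := by
          rw [← Subgroup.normal_subgroupOf_iff_le_normalizer (le_sup_left : P0 ≤ R)]
          rcases Nat.lt_or_ge (P0.relIndex R) 2 with h | h
          · have h1 : P0.subgroupOf R = ⊤ := Subgroup.index_eq_one.1 (by
              have : P0.relIndex R ≠ 0 := Subgroup.index_ne_zero_of_finite
              rw [Subgroup.relIndex] at h this; omega)
            rw [h1]; infer_instance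
          · exact Subgroup.normal_of_index_eq_two (le_antisymm hidx' h)
        exact hnorm' hqR
      set w := q * z * q⁻¹ with hw
      have hwP0 : w ∈ P0 := (Subgroup.mem_normalizer_iff.1 hnorm z).1 hzP0
      have hw2 : w * w = 1 := by
        rw [hw, show q * z * q⁻¹ * (q * z * q⁻¹) = q * (z * z) * q⁻¹ by group, hUsq z hzU]
        group
      have hwc : ∀ s ∈ P0, s * w = w * s := by
        intro s hs
        have hs' : q⁻¹ * s * q ∈ P0 := by
          simpa using (Subgroup.mem_normalizer_iff.1 (inv_mem hnorm) s).1 hs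
        calc s * w = q * (q⁻¹ * s * q * z) * q⁻¹ := by rw [hw]; group
          _ = q * (z * (q⁻¹ * s * q)) * q⁻¹ := by rw [hzc _ hs'.1]
          _ = w * s := by rw [hw]; group
      have htn : ∀ s ∈ P0, t * s * t⁻¹ ∈ P0 := by
        intro s hs
        refine ⟨(P : Subgroup G).mul_mem ((P : Subgroup G).mul_mem htP hs.1) ((P : Subgroup G).inv_mem htP),
          Subgroup.mem_centralizer_singleton_iff.2 ?_⟩
        have hsz : Commute s (z * u) := Commute.mul_right (hzc s hs.1)
          (Subgroup.mem_centralizer_singleton_iff.1 hs.2)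
        rcases hmove t⁻¹ (inv_mem htP) u hu hu1 huz with h | h
        · exfalso
          have : t * u * t⁻¹ = u := by
            conv_lhs => rw [← h]
            group
          rw [htu] at this
          exact hz1 (mul_eq_right.1 this)
        · have hh : t⁻¹ * u * t = z * u := by simpa using h
          calc t * s * t⁻¹ * u = t * (s * (t⁻¹ * u * t)) * t⁻¹ := by group
            _ = t * ((z * u) * s) * t⁻¹ := by rw [hh, hsz.eq]
            _ = t * (t⁻¹ * u * t * s) * t⁻¹ := by rw [hh]
            _ = u * (t * s * t⁻¹) := by group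
      have ht2 : t * t ∈ P0 := by
        rcases hdec (t * t) (mul_mem htP htP) with h | h
        · exact h
        · exfalso
          have ht : t ∈ P0 := by simpa using h
          rw [Subgroup.mem_centralizer_singleton_iff.1 ht.2, show u * t * t⁻¹ = u by group] at htu
          exact hz1 (mul_eq_right.1 htu.symm)
      set c := t * w * t⁻¹ * w with hc
      have htw : t * w * t⁻¹ ∈ P0 := htn w hwP0
      have htwc : ∀ s ∈ P0, s * (t * w * t⁻¹) = t * w * t⁻¹ * s := by
        intro s hs
        have hs' : t⁻¹ * s * t ∈ P0 := by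
          have h1 := htn _ hs
          have e : t⁻¹ * s * t = (t * t)⁻¹ * (t * s * t⁻¹) * (t * t) := by group
          rw [e]; exact mul_mem (mul_mem (inv_mem ht2) h1) ht2
        calc s * (t * w * t⁻¹) = t * (t⁻¹ * s * t * w) * t⁻¹ := by group
          _ = t * (w * (t⁻¹ * s * t)) * t⁻¹ := by rw [hwc _ hs']
          _ = t * w * t⁻¹ * s := by group
      have hcc : ∀ s ∈ P0, s * c = c * s := fun s hs =>
        (Commute.mul_right (htwc s hs) (hwc s hs) : Commute s c).eq
      have hc2 : c * c = 1 := by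
        calc c * c = t * w * t⁻¹ * (w * (t * w * t⁻¹)) * w := by rw [hc]; group
          _ = t * w * t⁻¹ * (t * w * t⁻¹ * w) * w := by rw [htwc w hwP0]
          _ = t * (w * w) * t⁻¹ * (w * w) := by group
          _ = 1 := by rw [hw2]; group
      have hwtt : t * t * w * (t * t)⁻¹ = w := by rw [hwc _ ht2]; group
      have hct : t * c * t⁻¹ = c := by
        calc t * c * t⁻¹ = t * t * w * (t * t)⁻¹ * (t * w * t⁻¹) := by rw [hc]; group
          _ = w * (t * w * t⁻¹) := by rw [hwtt]
          _ = c := by rw [hc, htwc w hwP0]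
      have hcentral : ∀ x, (∀ s ∈ P0, s * x = x * s) → t * x * t⁻¹ = x →
          ∀ s ∈ (P : Subgroup G), s * x = x * s := by
        intro x hx htx s hs
        rcases hdec s hs with h | h
        · exact hx s h
        · calc s * x = t * (t⁻¹ * s * x) := by group
            _ = t * (x * (t⁻¹ * s)) := by rw [hx _ h]
            _ = t * x * t⁻¹ * s := by group
            _ = x * s := by rw [htx]
      haveI := hcyc
      have hin : ∀ x ∈ P0, (∀ s ∈ P0, s * x = x * s) → t * x * t⁻¹ = x → x * x = 1 → x ∈ U := by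
        intro x hx hx' htx hx2
        by_cases hx1 : x = 1
        · rw [hx1]; exact one_mem _
        · rw [eq_of_cyclic Z ⟨hx.1, fun s hs => hcentral x hx' htx s hs⟩ hzZ hx2 (hUsq z hzU) hx1 hz1]
          exact hzU
      have hcP : c ∈ P0 := mul_mem htw hwP0
      by_cases hc1 : c = 1
      · refine hin w hwP0 hwc ?_ hw2
        have : t * w * t⁻¹ = w⁻¹ := eq_inv_of_mul_eq_one_left (hc ▸ hc1)
        rw [this, inv_eq_of_mul_eq_one_right hw2]
      · have hcz : c = z :=
          eq_of_cyclic Z ⟨hcP.1, fun s hs => hcentral c hcc hct s hs⟩ hzZ hc2 (hUsq z hzU) hc1 hz1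
        have huP0 : u ∈ P0 := ⟨hUP hu, huX u hu⟩
        have htw' : t * w * t⁻¹ = z * w := by
          rw [← hcz, hc, mul_assoc _ w w, hw2, mul_one]
        have h5 : w * u ∈ U := by
          refine hin _ (mul_mem hwP0 huP0) (fun s hs => ?_) ?_ ?_
          · exact (Commute.mul_right (hwc s hs)
              (Subgroup.mem_centralizer_singleton_iff.1 hs.2) : Commute s (w * u)).eq
          · calc t * (w * u) * t⁻¹ = t * w * t⁻¹ * (t * u * t⁻¹) := by group
              _ = z * w * (z * u) := by rw [htw', htu]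
              _ = z * (w * z) * u := by group
              _ = z * (z * w) * u := by rw [hzc w hwP0.1]
              _ = (z * z) * (w * u) := by group
              _ = w * u := by rw [hUsq z hzU, one_mul]
          · calc w * u * (w * u) = w * (u * w) * u := by group
              _ = w * (w * u) * u := by rw [hwc u huP0]
              _ = (w * w) * (u * u) := by group
              _ = 1 := by rw [hw2, hUsq u hu, one_mul]
        have := mul_mem h5 hu
        rwa [mul_assoc, hUsq u hu, mul_one] at this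
    have e : z * q * z⁻¹ * q⁻¹ = z * (q * z * q⁻¹) := by
      conv_lhs => rw [hUinv z hzU]
      group
    rw [e]
    rcases hUcases z hzU u hu hz1 hu1 (Ne.symm huz) _ hqzU with h | h | h | h
    · exact absurd (by simpa using h) hz1
    · rw [h, hUsq z hzU]; exact one_mem _
    · exfalso
      refine huz ?_
      calc u = q⁻¹ * (q * u) := by group
        _ = q⁻¹ * u * q := by rw [hQX q hq]; group
        _ = q⁻¹ * (q * z * q⁻¹) * q := by rw [h]
        _ = z := by group
    · rw [h, ← mul_assoc, hUsq z hzU, one_mul]; exact Subgroup.mem_zpowers u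
  have huQ : u ∈ Q := by
    refine mem_coreOf_centralizer h2 u (hord u hu hu1) u (huX u hu) fun q hq => ?_
    rw [← hQX q hq]; simp
  intro w hw
  rcases hUcases z hzU u hu hz1 hu1 (Ne.symm huz) w hw with h | h | h | h <;> rw [h]
  exacts [one_mem _, hzQ, huQ, mul_mem hzQ huQ]

end Cfsg.Agent.S1957
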