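import Cfsg.Statements.S1958
import Cfsg.Agent.Lib.Components.PLocal2
import Cfsg.Agent.Lib.Components.PConstrained

set_option autoImplicit false
open Cfsg

namespace Cfsg.Agent.S1958

/-- Let `G` be a finite group, `p` a prime, and `x, y` commuting elements of order `p` whose centralizers `C_G(x)` and `C_G(y)` are both solvable. Then `O_{p'}(C_G(x)) ∩ C_G(y) = O_{p'}(C_G(y)) ∩ C_G(x)` (balance). -/
theorem result {G : Type*} [Group G] [Finite G]
    (p : ℕ) [Fact p.Prime] (x y : G) (hx : orderOf x = p) (hy : orderOf y = p) (hxy : x * y = y * x)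
    (hCx : Group.IsSolvable ↥(Subgroup.centralizer ({x} : Set G))) (hCy : Group.IsSolvable ↥(Subgroup.centralizer ({y} : Set G))) :
    Cfsg.centralizerPPrimeCore p x ⊓ Subgroup.centralizer {y} = Cfsg.centralizerPPrimeCore p y ⊓ Subgroup.centralizer {x} := by
  have key : ∀ a b : G, orderOf a = p → Commute a b →
      Group.IsSolvable ↥(Subgroup.centralizer ({b} : Set G)) →
      Cfsg.centralizerPPrimeCore p a ⊓ Subgroup.centralizer {b} ≤
        Cfsg.centralizerPPrimeCore p b := by
    intro a b ha hab hb
    haveI := hb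
    exact Cfsg.Agent.Components.centralizerPPrimeCore_inf_le hab
      (IsPGroup.of_card (n := 1) (by rw [Nat.card_zpowers, ha, pow_one]))
      Cfsg.Agent.Components.pLayer_eq_bot_of_isSolvable
  have hx1 : Cfsg.centralizerPPrimeCore p x ≤ Subgroup.centralizer {x} := Subgroup.map_subtype_le _
  have hy1 : Cfsg.centralizerPPrimeCore p y ≤ Subgroup.centralizer {y} := Subgroup.map_subtype_le _
  exact le_antisymm (le_inf (key x y hx hxy hCy) (inf_le_left.trans hx1))
    (le_inf (key y x hy hxy.symm hCx) (inf_le_left.trans hy1))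

end Cfsg.Agent.S1958
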