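import Cfsg.Statements.S1966
import Cfsg.Agent.Lib.ConjFunctor.Family

set_option autoImplicit false
open Cfsg

namespace Cfsg.Agent.S1966

/-- Let p be a prime, G a finite group with Sylow p-subgroup S and 𝓕 a conjugation family for S in G. Then the members of 𝓕 containing O_p(G) still form a conjugation family for S in G. -/
theorem result {G : Type*} [Group G] [Finite G] {p : ℕ} [Fact p.Prime] (S : Sylow p G) (𝓕 : Set (Subgroup G)) (h : Cfsg.IsConjugationFamily 𝓕 (S : Subgroup G)) : Cfsg.IsConjugationFamily {T : Subgroup G | T ∈ 𝓕 ∧ Cfsg.pCore p G ≤ T} (S : Subgroup G) := by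
  refine Cfsg.Agent.ConjFunctor.isConjugationFamily_of_steps _ (fun T hT => h.1 T hT.1)
    fun A g hA hg => ?_
  have hQn : (Cfsg.pCore p G).Normal := Cfsg.Agent.LocalEvenA.pCore_normal' p G
  have hQS : Cfsg.pCore p G ≤ (S : Subgroup G) :=
    (Cfsg.Agent.LocalEvenA.pCore_isPGroup' p G).le_sylow_of_normal S
  have hg' : Cfsg.Agent.ConjFunctor.cS g (A ∪ (Cfsg.pCore p G : Set G)) ⊆ (S : Subgroup G) := by
    rintro _ ⟨a, ha | ha, rfl⟩
    · exact hg ⟨a, ha, rfl⟩
    · exact hQS (hQn.conj_mem a ha g)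
  have hst := Cfsg.Agent.ConjFunctor.steps_of_isConjugationFamily h
    (A ∪ (Cfsg.pCore p G : Set G)) g ⟨1, Or.inr (one_mem _)⟩ (Set.union_subset hA hQS) hg'
  clear hg hg'
  induction hst with
  | one => exact .one
  | @step c x T _ hT hc hx ih =>
    refine .step ih ⟨hT, fun q hq => hc ⟨c⁻¹ * q * c, Or.inr ?_, by group⟩⟩
      ((Cfsg.Agent.ConjFunctor.mem_cS_mono Set.subset_union_left).trans hc) hx
    simpa using hQn.conj_mem q hq c⁻¹

end Cfsg.Agent.S1966
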