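import Cfsg.Statements.S1967
import Cfsg.Agent.Lib.ConjFunctor.Fusion

set_option autoImplicit false
open Cfsg

namespace Cfsg.Agent.S1967

/-- Let p be a prime, G a finite group with Sylow p-subgroup S and W a conjugacy functor for p on G. Then W controls strong fusion in G if and only if, whenever T ≤ S and g ∈ G satisfy gTg⁻¹ ≤ S, one can write g = n c with n ∈ N_G(W(S)) and c ∈ C_G(T). -/
theorem result {G : Type*} [Group G] [Finite G] {p : ℕ} [Fact p.Prime] (S : Sylow p G) (W : Subgroup G → Subgroup G) (hW : Cfsg.IsConjugacyFunctor p W) : Cfsg.ControlsStrongFusionIn p W ⊤ ↔ ∀ (T : Subgroup G) (g : G), T ≤ (S : Subgroup G) → T.map (MulAut.conj g).toMonoidHom ≤ (S : Subgroup G) → ∃ n ∈ Subgroup.normalizer ((W (S : Subgroup G) : Subgroup G) : Set G), ∃ c ∈ Subgroup.centralizer (T : Set G), g = n * c := by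
  constructor
  · intro h T g hT hg
    obtain ⟨T₀, hT₀, h0⟩ := Cfsg.Agent.ConjFunctor.at_of_singleFusion h
    have hS := h0.move (fun _ hW' => (Set.mem_singleton_iff.mp hW') ▸ hW) hT₀
      (Cfsg.Agent.ConjFunctor.isSylIn_top S)
    obtain ⟨n, hn, e⟩ := hS (T : Set G) g trivial hT (by
      rintro _ ⟨a, ha, rfl⟩
      exact hg (Cfsg.Agent.ConjFunctor.conj_mem_cj ha))
    refine ⟨n, hn.mem_single.2, n⁻¹ * g, ?_, by group⟩
    rw [Subgroup.mem_centralizer_iff]
    intro a ha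
    have h1 := e a ha
    calc a * (n⁻¹ * g) = n⁻¹ * (n * a * n⁻¹) * g := by group
      _ = n⁻¹ * (g * a * g⁻¹) * g := by rw [h1]
      _ = n⁻¹ * g * a := by group
  · intro h
    refine ⟨S, le_top, S.2, (Cfsg.Agent.ConjFunctor.isSylIn_top S).2.2, fun A g _ hA hgA => ?_⟩
    obtain ⟨n, hn, c, hc, hgc⟩ := h (Subgroup.closure A) g ((Subgroup.closure_le _).mpr hA)
      (Cfsg.Agent.ConjFunctor.cj_le_of_cS hgA)
    refine ⟨n, ⟨trivial, hn⟩, fun a ha => ?_⟩
    have h1 := Subgroup.mem_centralizer_iff.mp hc a (Subgroup.subset_closure ha)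
    calc n * a * n⁻¹ = n * (a * c) * c⁻¹ * n⁻¹ := by group
      _ = n * (c * a) * c⁻¹ * n⁻¹ := by rw [h1]
      _ = g * a * g⁻¹ := by rw [hgc]; group

end Cfsg.Agent.S1967
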