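import Cfsg.Statements.S1968
import Cfsg.Agent.Lib.ConjFunctor.Family

set_option autoImplicit false
open Cfsg

namespace Cfsg.Agent.S1968

/-- Let p be a prime, G a finite group with Sylow p-subgroup S and W a conjugacy functor for p on G with Z(P) ≤ W(P) for every p-subgroup P. Let A be a subgroup of Z(S) normalized by N_G(W(S)) that is not weakly closed in S with respect to G. Then there is a subgroup T of S, well placed in S with respect to W, such that: A ≤ T; N_G(W(N_S(T))) normalizes A; N_S(T) is a Sylow p-subgroup of N_G(T); A ≤ Z(N_S(T)); and A is not weakly closed in N_S(T) with respect to N_G(T), that is, some N_G(T)-conjugate of A other than A lies in N_S(T). -/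
theorem result {G : Type*} [Group G] [Finite G] {p : ℕ} [Fact p.Prime] (S : Sylow p G) (W : Subgroup G → Subgroup G) (hW : Cfsg.IsConjugacyFunctor p W) (hWZ : ∀ P : Subgroup G, IsPGroup p ↥P → P ⊓ Subgroup.centralizer (P : Set G) ≤ W P) (A : Subgroup G) (hAZ : A ≤ (S : Subgroup G) ⊓ Subgroup.centralizer ((S : Subgroup G) : Set G)) (hAN : Subgroup.normalizer ((W (S : Subgroup G) : Subgroup G) : Set G) ≤ Subgroup.normalizer ((A : Subgroup G) : Set G)) (hnwc : ¬ Cfsg.IsWeaklyClosed A (S : Subgroup G)) : ∃ T : Subgroup G, Cfsg.IsWellPlaced p W (S : Subgroup G) T ∧ A ≤ T ∧ Subgroup.normalizer ((W ((S : Subgroup G) ⊓ Subgroup.normalizer ((T : Subgroup G) : Set G)) : Subgroup G) : Set G) ≤ Subgroup.normalizer ((A : Subgroup G) : Set G) ∧ ¬ p ∣ ((S : Subgroup G) ⊓ Subgroup.normalizer ((T : Subgroup G) : Set G)).relIndex (Subgroup.normalizer ((T : Subgroup G) : Set G)) ∧ A ≤ Subgroup.centralizer (((S : Subgroup G) ⊓ Subgroup.normalizer ((T : Subgroup G) : Set G) : Subgroup G) : Set G) ∧ ∃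 g ∈ Subgroup.normalizer ((T : Subgroup G) : Set G), A.map (MulAut.conj g).toMonoidHom ≤ (S : Subgroup G) ⊓ Subgroup.normalizer ((T : Subgroup G) : Set G) ∧ A.map (MulAut.conj g).toMonoidHom ≠ A := by
  by_contra hcon
  have hAS : A ≤ (S : Subgroup G) := hAZ.trans inf_le_left
  have key : ∀ T, Cfsg.IsWellPlaced p W (S : Subgroup G) T → A ≤ T →
      Subgroup.normalizer (T : Set G) ≤ Subgroup.normalizer (A : Set G) := by
    intro T hT
    refine Cfsg.Agent.ConjFunctor.tower_induction S hW
      (fun T => A ≤ T → Subgroup.normalizer (T : Set G) ≤ Subgroup.normalizer (A : Set G))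
      ?_ ?_ T hT
    all_goals intro T hT hfix
    case refine_1 =>
      intro hAT g hg
      by_contra hgA
      apply hcon
      refine ⟨T, hT, hAT, ?_, hT.2 0, ?_, g, hg, ?_,
        fun he => hgA (Cfsg.Agent.ConjFunctor.cj_eq_iff.mp he)⟩
      · rw [show (S : Subgroup G) ⊓ Subgroup.normalizer (T : Set G) = (S : Subgroup G) from hfix]; exact hAN
      · rw [show (S : Subgroup G) ⊓ Subgroup.normalizer (T : Set G) = (S : Subgroup G) from hfix]
        exact hAZ.trans inf_le_right
      · rintro _ ⟨a, ha, rfl⟩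
        exact Cfsg.Agent.ConjFunctor.le_nS hT.1 ((Subgroup.mem_normalizer_iff.mp hg a).mp (hAT ha))
    case refine_2 =>
      intro ih hAT g hg
      have hAS1 : A ≤ (S : Subgroup G) ⊓ Subgroup.normalizer (T : Set G) :=
        le_inf hAS (hAT.trans Subgroup.le_normalizer)
      have hAC : A ≤ Subgroup.centralizer
          (((S : Subgroup G) ⊓ Subgroup.normalizer (T : Set G) : Subgroup G) : Set G) :=
        (hAZ.trans inf_le_right).trans (Subgroup.centralizer_le (fun x hx => hx.1))
      by_contra hgA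
      apply hcon
      refine ⟨T, hT, hAT, ih ?_, hT.2 0, hAC, g, hg, ?_,
        fun he => hgA (Cfsg.Agent.ConjFunctor.cj_eq_iff.mp he)⟩
      · exact (le_inf hAS1 hAC).trans (hWZ _ S.2.to_inf_left)
      · rintro _ ⟨a, ha, rfl⟩
        exact Cfsg.Agent.ConjFunctor.le_nS hT.1 ((Subgroup.mem_normalizer_iff.mp hg a).mp (hAT ha))
  refine hnwc ⟨hAS, fun g hg => ?_⟩
  have hst := Cfsg.Agent.ConjFunctor.alperin_wellPlaced S hW (A : Set G) g hAS (by
    rintro _ ⟨a, ha, rfl⟩
    exact hg (Cfsg.Agent.ConjFunctor.conj_mem_cj ha))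
  clear hg
  induction hst with
  | one => exact Cfsg.Agent.ConjFunctor.cj_one A
  | @step c x T _ hT hc hx ih =>
    have hAT : A ≤ T := by
      rw [← ih]
      rintro _ ⟨a, ha, rfl⟩
      exact hc ⟨a, ha, rfl⟩
    show Cfsg.Agent.ConjFunctor.cj (x * c) A = A
    rw [Cfsg.Agent.ConjFunctor.cj_mul]
    show Cfsg.Agent.ConjFunctor.cj x (A.map (MulAut.conj c).toMonoidHom) = A
    rw [ih]
    exact Cfsg.Agent.ConjFunctor.cj_eq_iff.mpr (key T hT hAT hx)

end Cfsg.Agent.S1968
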