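import Cfsg.Statements.S1971
import Cfsg.Agent.Lib.ConjFunctor.IndexP

set_option autoImplicit false
universe u
open Cfsg

set_option linter.style.haveILetI false

namespace Cfsg.Agent.S1971

open Cfsg.Agent Subgroup

/-- Let p be a prime, G a finite group with nontrivial Sylow p-subgroup S, and W an isomorphism-invariant p-group functor (W assigns to every group Q a subgroup W(Q), nontrivial whenever Q is a nontrivial finite p-group, and every isomorphism from a finite p-group Q onto a group R carries W(Q) onto W(R)) that controls transfer in every section of G. If N_G(S)/C_G(S) is a p-group (every element of N_G(S) of order prime to p centralizes S), then G has a normal subgroup of index p. -/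
theorem result {G : Type u} [Group G] [Finite G] {p : ℕ} [Fact p.Prime] (W : ∀ (Q : Type u) [Group Q], Subgroup Q) (hW : Cfsg.IsCharPFunctor.{u} p W) (hctl : ∀ (K R : Subgroup G) [hR : (R.subgroupOf K).Normal], Cfsg.ControlsTransferIn p (Cfsg.inducedFunctor (G := (↥K ⧸ R.subgroupOf K)) W) ⊤) (S : Sylow p G) (hS : (S : Subgroup G) ≠ ⊥) (hN : ∀ g ∈ Subgroup.normalizer (((S : Subgroup G) : Subgroup G) : Set G), (orderOf g).Coprime p → g ∈ Subgroup.centralizer ((S : Subgroup G) : Set G)) : ∃ N : Subgroup G, N.Normal ∧ N.index = p := by
  have main : ∀ S : Sylow p G, (S : Subgroup G) ≠ ⊥ →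
      (∀ g ∈ normalizer ((S : Subgroup G) : Set G), (orderOf g).Coprime p →
        g ∈ centralizer ((S : Subgroup G) : Set G)) →
      ¬ (S : Subgroup G) ≤ _root_.commutator G := by
    refine (ConjFunctor.section_induction (fun X _ => ∀ S : Sylow p X, (S : Subgroup X) ≠ ⊥ →
      (∀ g ∈ normalizer ((S : Subgroup X) : Set X), (orderOf g).Coprime p →
        g ∈ centralizer ((S : Subgroup X) : Set X)) →
      ¬ (S : Subgroup X) ≤ _root_.commutator X) ?_ ?_).2
    · intro X Y _ _ _ e h S hS hN hle
      haveI : Finite Y := Finite.of_equiv X e.toEquiv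
      have hes : Function.Surjective e.symm.toMonoidHom := e.symm.surjective
      refine h (S.mapSurjective hes) ?_ ?_ ?_
      · rw [Sylow.coe_mapSurjective, Ne, map_eq_bot_iff_of_injective _ e.symm.injective]
        exact hS
      · intro g hg hgo
        rw [Sylow.coe_mapSurjective] at hg ⊢
        have hg' : e g ∈ normalizer ((S : Subgroup Y) : Set Y) := by
          refine mem_normalizer_iff.mpr fun y => ?_
          have h2 := mem_normalizer_iff.mp hg (e.symm y)
          rw [show g * e.symm y * g⁻¹ = e.symm.toMonoidHom (e g * y * (e g)⁻¹) by simp,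
            show (e.symm y) = e.symm.toMonoidHom y from rfl, mem_map_iff_mem e.symm.injective,
            mem_map_iff_mem e.symm.injective] at h2
          exact h2
        have h3 := hN _ hg' (by rwa [MulEquiv.orderOf_eq])
        refine mem_centralizer_iff.mpr ?_
        rintro _ ⟨y, hy, rfl⟩
        have h4 := congrArg e.symm (mem_centralizer_iff.mp h3 y hy)
        simpa using h4
      · rw [Sylow.coe_mapSurjective, _root_.commutator_def,
          ← map_top_of_surjective _ hes, ← map_commutator, ← _root_.commutator_def]
        exact map_mono hle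
    · intro K R hR hsub hquot S hS hN hle
      have hW' := ConjFunctor.isConjugacyFunctor_induced (G := ↥K ⧸ R.subgroupOf K) hW
      obtain ⟨T₀, hT₀, h₀⟩ := ConjFunctor.at_of_singleTransfer (hctl K R)
      have hx : ConjFunctor.XferAt {Cfsg.inducedFunctor W} ⊤
          (S : Subgroup (↥K ⧸ R.subgroupOf K)) :=
        h₀.move (by rintro _ rfl; exact hW') hT₀ (ConjFunctor.isSylIn_top S)
      set U := Cfsg.inducedFunctor W (S : Subgroup (↥K ⧸ R.subgroupOf K)) with hU
      set N := normalizer (U : Set (↥K ⧸ R.subgroupOf K)) with hN'
      have hUS : U ≤ (S : Subgroup (↥K ⧸ R.subgroupOf K)) := ConjFunctor.functor_le hW' S.2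
      have hSN : (S : Subgroup (↥K ⧸ R.subgroupOf K)) ≤ N :=
        ConjFunctor.self_le_normalizer_functor hW' S.2
      by_cases hNt : N = ⊤
      · haveI hUn : U.Normal := normalizer_eq_top_iff.mp hNt
        set q := QuotientGroup.mk' U
        have hq : Function.Surjective q := QuotientGroup.mk'_surjective _
        by_cases hSU : (S : Subgroup (↥K ⧸ R.subgroupOf K)) ≤ U
        · haveI : (S : Subgroup (↥K ⧸ R.subgroupOf K)).Normal :=
            le_antisymm hSU hUS ▸ hUn
          exact ConjFunctor.not_le_commutator_of_normal S hS
            (fun g hg => hN g (by rw [normalizer_eq_top]; trivial) hg) hle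
        refine hquot U (ConjFunctor.functor_ne_bot hW' S.2 hS) (S.mapSurjective hq) ?_ ?_ ?_
        · rw [Sylow.coe_mapSurjective, Ne, Subgroup.map_eq_bot_iff, QuotientGroup.ker_mk']
          exact hSU
        · intro y hy hyo
          obtain ⟨g, rfl⟩ := hq y
          rw [Sylow.coe_mapSurjective] at hy ⊢
          have hgN : g ∈ normalizer ((S : Subgroup (↥K ⧸ R.subgroupOf K)) : Set _) := by
            refine mem_normalizer_iff.mpr fun x => ?_
            have h2 := mem_normalizer_iff.mp hy (q x)
            rw [← map_inv, ← map_mul, ← map_mul, ← mem_comap, ← mem_comap, comap_map_eq,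
              QuotientGroup.ker_mk', sup_eq_left.mpr hUS] at h2
            exact h2
          obtain ⟨a, b, ha, hb, hab, ⟨k, hk⟩, hbo⟩ := Transfer.exists_pPart_mul (p := p) g
          have hqa : q a = 1 := by
            refine Transfer.eq_one_of_pow_of_coprime (p := p)
              ⟨k, (orderOf_map_dvd q _).trans hk⟩ ?_
            refine Nat.Coprime.coprime_dvd_left (orderOf_dvd_of_mem_zpowers ?_) hyo
            obtain ⟨i, rfl⟩ := mem_zpowers_iff.mp ha
            rw [map_zpow]
            exact zpow_mem (mem_zpowers _) i
          have hbN : b ∈ normalizer ((S : Subgroup (↥K ⧸ R.subgroupOf K)) : Set _) :=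
            (zpowers_le.mpr hgN) hb
          have h3 := hN b hbN hbo
          rw [← hab, map_mul, hqa, one_mul]
          refine mem_centralizer_iff.mpr ?_
          rintro _ ⟨s, hs, rfl⟩
          rw [← map_mul, ← map_mul, mem_centralizer_iff.mp h3 s hs]
        · rw [Sylow.coe_mapSurjective, _root_.commutator_def,
            ← map_top_of_surjective q hq, ← map_commutator, ← _root_.commutator_def]
          exact map_mono hle
      · refine hsub N hNt (S.subtype hSN) ?_ ?_ ?_
        · rw [Sylow.coe_subtype, Ne, subgroupOf_eq_bot, disjoint_iff, inf_eq_left.mpr hSN]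
          exact hS
        · intro g hg hgo
          rw [Sylow.coe_subtype] at hg ⊢
          have hg' : (g : ↥K ⧸ R.subgroupOf K) ∈
              normalizer ((S : Subgroup (↥K ⧸ R.subgroupOf K)) : Set _) := by
            refine mem_normalizer_iff.mpr fun x => ⟨fun hx => ?_, fun hx => ?_⟩
            · exact (mem_normalizer_iff.mp hg ⟨x, hSN hx⟩).mp hx
            · have hxN : x ∈ N := by
                have := N.mul_mem (N.mul_mem (N.inv_mem g.2) (hSN hx)) g.2
                simpa [mul_assoc] using this
              exact (mem_normalizer_iff.mp hg ⟨x, hxN⟩).mpr hx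
          refine mem_centralizer_iff.mpr fun s hs => Subtype.ext ?_
          exact mem_centralizer_iff.mp (hN _ hg' (by rwa [Subgroup.orderOf_coe])) _ hs
        · rw [Sylow.coe_subtype, ← map_le_map_iff_of_injective N.subtype_injective,
            map_subtype_commutator, subgroupOf_map_subtype, inf_eq_left.mpr hSN]
          intro s hs
          rw [_root_.commutator_def] at hle
          have h2 := hx ⟨hs, hle hs⟩
          rw [ConjFunctor.xCtl_single, top_inf_eq] at h2
          exact h2.2
  exact ConjFunctor.exists_index_p_of_not_le S (main S hS hN)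

end Cfsg.Agent.S1971
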