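import Cfsg.Statements.S1981
import Cfsg.Agent.Lib.ConjFunctor.KSeq

set_option autoImplicit false
open Cfsg

namespace Cfsg.Agent.S1981

/-- Let P be a finite p-group generated by its abelian normal subgroups. Then both K-infinity subgroups of P equal P. -/
theorem result {P : Type*} [Group P] [Finite P] {p : ℕ} [Fact p.Prime] (hP : IsPGroup p P) (hgen : ⨆ A ∈ {A : Subgroup P | A.Normal ∧ IsMulCommutative ↥A}, A = ⊤) : Cfsg.kInfLower P = ⊤ ∧ Cfsg.kInfUpper P = ⊤ := by
  have h1 : ∀ n, ⊤ ≤ Cfsg.kSeqEven P n := fun n => hgen.symm.le.trans <|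
    iSup₂_le fun A hA => by
      haveI := hA.1
      exact le_sSup (Cfsg.Agent.ConjFunctor.normal_abelian_mem_lower A hA.2 _)
  have h2 : ∀ n, ⊤ ≤ Cfsg.kSeqOdd P n := fun n => by
    cases n with
    | zero => exact le_rfl
    | succ n =>
      exact hgen.symm.le.trans <| iSup₂_le fun A hA => by
        haveI := hA.1
        exact le_sSup (Cfsg.Agent.ConjFunctor.normal_abelian_mem_upper A hA.2 _)
  exact ⟨top_le_iff.mp ((h1 0).trans (le_iSup (Cfsg.kSeqEven P) 0)), top_le_iff.mp (le_iInf h2)⟩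

end Cfsg.Agent.S1981
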