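import Cfsg.Statements.S1988
import Cfsg.Agent.Lib.ConjFunctor.ComplementControl

set_option autoImplicit false
universe u
open Cfsg

namespace Cfsg.Agent.S1988

/-- Let p be an odd prime, G a finite group with Sylow p-subgroup S and K the lower K-infinity subgroup of S. If N_G(K) has a normal p-complement, or if N_G(K)/C_G(K) is a p-group (every element of N_G(K) of order prime to p centralizes K), then G has a normal p-complement. -/
theorem result {G : Type u} [Group G] [Finite G] {p : ℕ} [Fact p.Prime] (hp : p ≠ 2) (S : Sylow p G) (h : Cfsg.HasNormalPComplement p ↥(Subgroup.normalizer ((Cfsg.inducedFunctor Cfsg.kInfLower (S : Subgroup G) : Subgroup G) : Set G)) ∨ ∀ g ∈ Subgroup.normalizer ((Cfsg.inducedFunctor Cfsg.kInfLower (S : Subgroup G) : Subgroup G) : Set G), (orderOf g).Coprime p → g ∈ Subgroup.centralizer ((Cfsg.inducedFunctor Cfsg.kInfLower (S : Subgroup G) : Subgroup G) : Set G)) : Cfsg.HasNormalPComplement p G := by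
  have hW := (Cfsg.Agent.ConjFunctor.isCharPFunctor_kInf.{u} p).1
  refine Cfsg.Agent.ConjFunctor.complement_of_control hp hW (fun K R hR hst T =>
    Cfsg.Agent.ConjFunctor.controlsFusion_of_stable hW Cfsg.Agent.ConjFunctor.hasElement_lower hst T)
    S (h.elim id fun hN => ?_)
  refine Cfsg.Agent.ConjFunctor.complement_normalizer_of_coprime_central S _
    (Cfsg.Agent.ConjFunctor.inducedFunctor_le _)
    (Cfsg.Agent.ConjFunctor.self_le_normalizer_functor
      (Cfsg.Agent.ConjFunctor.isConjugacyFunctor_induced hW) S.2) ?_ hN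
  intro x hx
  refine ⟨⟨x, hx.1⟩, (Cfsg.Agent.ConjFunctor.centralizer_kInf_le S.2).1
    (Subgroup.mem_centralizer_iff.mpr fun y hy => Subtype.ext ?_), rfl⟩
  exact Subgroup.mem_centralizer_iff.mp hx.2 (y : G) ⟨y, hy, rfl⟩

end Cfsg.Agent.S1988
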