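import Cfsg.Statements.S1992
import Cfsg.Agent.Lib.ConjFunctor.KConsequences
import Cfsg.Agent.Lib.ConjFunctor.IndexP
import Cfsg.Agent.S1991
import Cfsg.Agent.Lib.CT.Integral

set_option autoImplicit false
open Cfsg

set_option linter.style.haveILetI false

namespace Cfsg.Agent.S1992

open Cfsg.Agent Subgroup

/-- Let G be a finite group in which, for every prime q dividing the order of G, every Sylow q-subgroup is its own normalizer. Then the order of G is a power of a single prime (G is a q-group for some prime q; for G trivial any prime works). -/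
theorem result {G : Type*} [Group G] [Finite G] (h : ∀ q : ℕ, q.Prime → q ∣ Nat.card G → ∀ Q : Sylow q G, Subgroup.normalizer ((Q : Subgroup G) : Set G) = Q) : ∃ q : ℕ, q.Prime ∧ IsPGroup q G := by
  have key : ∀ r : ℕ, r.Prime → (∃ N : Subgroup G, N.Normal ∧ N.index = r) → IsPGroup r G := by
    rintro r hr ⟨N, hN, hidx⟩
    haveI := Fact.mk hr
    haveI := hN
    have hone : ∀ q : ℕ, q.Prime → q ∣ Nat.card G → q = r := by
      intro q hq hqd
      by_contra hne
      haveI := Fact.mk hq
      obtain ⟨Q⟩ : Nonempty (Sylow q G) := inferInstance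
      have hQN : (Q : Subgroup G) ≤ N := by
        intro x hx
        obtain ⟨k, hk⟩ := Q.2 ⟨x, hx⟩
        have hk' : x ^ q ^ k = 1 := by simpa using congrArg Subtype.val hk
        refine (QuotientGroup.eq_one_iff x).mp (orderOf_eq_one_iff.mp ?_)
        have h1 : orderOf (x : G ⧸ N) ∣ q ^ k := orderOf_dvd_of_pow_eq_one (by
          rw [← QuotientGroup.mk_pow, hk']; rfl)
        have h2 : orderOf (x : G ⧸ N) ∣ r := hidx ▸ orderOf_dvd_natCard (x : G ⧸ N)
        exact ((Nat.Coprime.pow_left k ((Nat.coprime_primes hq hr).mpr hne)).coprime_dvd_left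
          h1).eq_one_of_dvd h2
      obtain ⟨P, hP⟩ := LocalEvenA.exists_sylow_subgroupOf_normal Q N
      have hfr := Sylow.normalizer_sup_eq_top P
      rw [hP, subgroupOf_map_subtype, inf_eq_left.mpr hQN, h q hq hqd Q, sup_eq_right.mpr hQN]
        at hfr
      rw [hfr, index_top] at hidx
      exact hr.one_lt.ne hidx
    refine IsPGroup.of_card (n := (Nat.card G).primeFactorsList.length)
      (Nat.eq_prime_pow_of_unique_prime_dvd Nat.card_pos.ne' fun {d} hd hdd => hone d hd hdd)
  rcases eq_or_ne (Nat.card G) 1 with hc | hc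
  · exact ⟨2, Nat.prime_two, IsPGroup.of_card (n := 0) (by simpa using hc)⟩
  by_cases h5 : ∃ r : ℕ, r.Prime ∧ 5 ≤ r ∧ r ∣ Nat.card G
  · obtain ⟨r, hr, h5, hrd⟩ := h5
    haveI := Fact.mk hr
    obtain ⟨S⟩ : Nonempty (Sylow r G) := inferInstance
    have hS : (S : Subgroup G) ≠ ⊥ := S.ne_bot_of_dvd_card hrd
    refine ⟨r, hr, key r hr (Cfsg.Agent.S1991.result h5 S hS fun g hg hgo => ?_)⟩
    rw [h r hr hrd S] at hg
    obtain ⟨k, hk⟩ := S.2 ⟨g, hg⟩
    rw [LocalEvenA.eq_one_of_pPow_of_coprime (by simpa using congrArg Subtype.val hk) hgo]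
    exact one_mem _
  · haveI : Group.IsSolvable G := by
      obtain ⟨a, m, hm2, hn⟩ := Nat.exists_eq_pow_mul_and_not_dvd
        (Nat.card_pos (α := G)).ne' 2 (by norm_num)
      obtain ⟨b, k, hk3, hm⟩ := Nat.exists_eq_pow_mul_and_not_dvd
        (fun e => hm2 (e ▸ dvd_zero 2) : m ≠ 0) 3 (by norm_num)
      have hk1 : k = 1 := by
        by_contra hk
        obtain ⟨r, hr, hrk⟩ := Nat.exists_prime_and_dvd hk
        have hkm : k ∣ m := ⟨3 ^ b, by rw [hm, mul_comm]⟩
        refine h5 ⟨r, hr, ?_, hrk.trans (hkm.trans ⟨2 ^ a, by rw [hn, mul_comm]⟩)⟩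
        have h2 : r ≠ 2 := fun e => hm2 (e ▸ hrk.trans hkm)
        have h3 : r ≠ 3 := fun e => hk3 (e ▸ hrk)
        have := hr.two_le
        by_contra h4
        interval_cases r
        · exact h2 rfl
        · exact h3 rfl
        · exact absurd hr (by decide)
      exact CT.isSolvable_of_card_two_primes Nat.prime_two Nat.prime_three (Nat.card G) G a b rfl
        (by rw [hn, hm, hk1, mul_one])
    haveI : Nontrivial G := Finite.one_lt_card_iff_nontrivial.mp
      (by have : 0 < Nat.card G := Nat.card_pos; omega)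
    have hne : _root_.commutator G ≠ ⊤ := (Group.IsSolvable.commutator_lt_top_of_nontrivial G).ne
    obtain ⟨r, hr, hrd⟩ := Nat.exists_prime_and_dvd
      (fun e => hne (index_eq_one.mp e) : (_root_.commutator G).index ≠ 1)
    haveI := Fact.mk hr
    obtain ⟨S⟩ : Nonempty (Sylow r G) := inferInstance
    exact ⟨r, hr, key r hr (ConjFunctor.exists_index_p_of_not_le S fun hle =>
      S.not_dvd_index (hrd.trans (index_dvd_of_le hle)))⟩

end Cfsg.Agent.S1992
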