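import Cfsg.Statements.S1997
import Cfsg.Agent.Lib.ConjFunctor.CentralFactor
import Cfsg.Agent.Lib.ConjFunctor.Factor

set_option autoImplicit false
universe u
open Cfsg

namespace Cfsg.Agent.S1997

/-- Let p be a prime, G a finite group with Sylow p-subgroup S, and W₁, W₂ two isomorphism-invariant p-group functors (W assigns to every group Q a subgroup W(Q), nontrivial whenever Q is a nontrivial finite p-group, and every isomorphism from a finite p-group Q onto a group R carries W(Q) onto W(R)). Suppose that G* = C_{G*}(Ω₁Z(S*)) N_{G*}(W₁(S*)) = C_{G*}(Ω₁Z(S*)) N_{G*}(W₂(S*)) = N_{G*}(W₁(S*)) N_{G*}(W₂(S*)) whenever G* = K/R is a section of G with C_{G*}(O_p(G*)) ≤ O_p(G*) and S* is a Sylow p-subgroup of G*, where Ω₁Z denotes the subgroup generated by the elements of order dividing p in the centre. Suppose also Ω₁Z(S) ≤ W₁(S) ∩ W₂(S), and let A be the normal closure of Ω₁Z(S) in N_G(W₁(S)). Then A is an elementary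 abelian subgroup of S, strongly closed in S with respect to G, and A controls strong fusion in G. -/
theorem result {G : Type u} [Group G] [Finite G] {p : ℕ} [Fact p.Prime] (S : Sylow p G) (W₁ W₂ : ∀ (Q : Type u) [Group Q], Subgroup Q) (hW₁ : Cfsg.IsCharPFunctor.{u} p W₁) (hW₂ : Cfsg.IsCharPFunctor.{u} p W₂) (hfac : ∀ (K R : Subgroup G) [hR : (R.subgroupOf K).Normal], Subgroup.centralizer ((Cfsg.pCore p (↥K ⧸ R.subgroupOf K) : Subgroup (↥K ⧸ R.subgroupOf K)) : Set (↥K ⧸ R.subgroupOf K)) ≤ Cfsg.pCore p (↥K ⧸ R.subgroupOf K) → ∀ T : Sylow p (↥K ⧸ R.subgroupOf K), (∀ x : (↥K ⧸ R.subgroupOf K), ∃ a ∈ Subgroup.centralizer ((Cfsg.omegaOne p ((T : Subgroup (↥K ⧸ R.subgroupOf K)) ⊓ Subgroup.centralizer (((T : Subgroup (↥K ⧸ R.subgroupOf K)) : Subgroup (↥K ⧸ R.subgroupOf K)) : Set (↥K ⧸ R.subgroupOf K))) : Subgroup (↥K ⧸ R.subgroupOf K)) : Set (↥K ⧸ R.subgroupOf K)), ∃ b ∈ Subgroup.normalizer ((Cfsg.inducedFunctor (G := (↥K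 ⧸ R.subgroupOf K)) W₁ (T : Subgroup (↥K ⧸ R.subgroupOf K)) : Subgroup (↥K ⧸ R.subgroupOf K)) : Set (↥K ⧸ R.subgroupOf K)), x = a * b) ∧ (∀ x : (↥K ⧸ R.subgroupOf K), ∃ a ∈ Subgroup.centralizer ((Cfsg.omegaOne p ((T : Subgroup (↥K ⧸ R.subgroupOf K)) ⊓ Subgroup.centralizer (((T : Subgroup (↥K ⧸ R.subgroupOf K)) : Subgroup (↥K ⧸ R.subgroupOf K)) : Set (↥K ⧸ R.subgroupOf K))) : Subgroup (↥K ⧸ R.subgroupOf K)) : Set (↥K ⧸ R.subgroupOf K)), ∃ b ∈ Subgroup.normalizer ((Cfsg.inducedFunctor (G := (↥K ⧸ R.subgroupOf K)) W₂ (T : Subgroup (↥K ⧸ R.subgroupOf K)) : Subgroup (↥K ⧸ R.subgroupOf K)) : Set (↥K ⧸ R.subgroupOf K)), x = a * b) ∧ (∀ x : (↥K ⧸ R.subgroupOf K), ∃ a ∈ Subgroup.normalizer ((Cfsg.inducedFunctor (G := (↥K ⧸ R.subgroupOf K)) W₁ (T : Subgroup (↥K ⧸ R.subgroupOf K)) : Subgroup (↥K ⧸ R.subgroupOf K)) : Set (↥K ⧸ R.subgroupOf K)), ∃ b ∈ Subgroup.normalizer ((Cfsg.inducedFunctor (G := (↥K ⧸ R.subgroupOf K)) W₂ (T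 : Subgroup (↥K ⧸ R.subgroupOf K)) : Subgroup (↥K ⧸ R.subgroupOf K)) : Set (↥K ⧸ R.subgroupOf K)), x = a * b)) (hZ : Cfsg.omegaOne p ((S : Subgroup G) ⊓ Subgroup.centralizer (((S : Subgroup G) : Subgroup G) : Set G)) ≤ Cfsg.inducedFunctor (G := G) W₁ (S : Subgroup G) ⊓ Cfsg.inducedFunctor (G := G) W₂ (S : Subgroup G)) (N₁ : Subgroup G) (hN₁ : N₁ = Subgroup.normalizer ((Cfsg.inducedFunctor (G := G) W₁ (S : Subgroup G) : Subgroup G) : Set G)) (A : Subgroup G) (hA : A = (Subgroup.normalClosure (((Cfsg.omegaOne p ((S : Subgroup G) ⊓ Subgroup.centralizer (((S : Subgroup G) : Subgroup G) : Set G))).subgroupOf N₁ : Subgroup ↥N₁) : Set ↥N₁)).map N₁.subtype) : A ≤ (S : Subgroup G) ∧ Cfsg.IsElementaryAbelian p A ∧ Cfsg.IsStronglyClosed A (S : Subgroup G) ∧ Cfsg.ControlsStrongFusion p A := by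
  subst hN₁
  set Z := Cfsg.omegaOne p ((S : Subgroup G) ⊓ Subgroup.centralizer (((S : Subgroup G)) : Set G))
  set Wa := Cfsg.inducedFunctor (G := G) W₁ (S : Subgroup G)
  set Wb := Cfsg.inducedFunctor (G := G) W₂ (S : Subgroup G)
  set N₁ := Subgroup.normalizer (Wa : Set G)
  set N₂ := Subgroup.normalizer (Wb : Set G)
  have hcW₁ := ConjFunctor.isConjugacyFunctor_induced (G := G) hW₁
  have hcW₂ := ConjFunctor.isConjugacyFunctor_induced (G := G) hW₂
  have hS₁ : (S : Subgroup G) ≤ N₁ := ConjFunctor.self_le_normalizer_functor hcW₁ S.2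
  have hS₂ : (S : Subgroup G) ≤ N₂ := ConjFunctor.self_le_normalizer_functor hcW₂ S.2
  have hWaS : Wa ≤ (S : Subgroup G) := ConjFunctor.inducedFunctor_le _
  have hWbS : Wb ≤ (S : Subgroup G) := ConjFunctor.inducedFunctor_le _
  have hZa : Z ≤ Wa := hZ.trans inf_le_left
  have hZb : Z ≤ Wb := hZ.trans inf_le_right
  have hZS : Z ≤ (S : Subgroup G) := hZa.trans hWaS
  have hZN : Z ≤ N₁ := hZS.trans hS₁
  have hZc : ∀ z ∈ Z, ∀ s ∈ (S : Subgroup G), s * z = z * s := by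
    intro z hz s hs
    have h1 : z ∈ (S : Subgroup G) ⊓ Subgroup.centralizer (((S : Subgroup G)) : Set G) :=
      (Subgroup.closure_le _).2 (fun y hy => hy.1) hz
    exact Subgroup.mem_centralizer_iff.1 (Subgroup.mem_inf.1 h1).2 s hs
  have hZp : ∀ z ∈ Z, z ^ p = 1 := by
    intro z hz
    induction hz using Subgroup.closure_induction with
    | mem y hy => exact hy.2
    | one => exact one_pow p
    | mul a b ha hb iha ihb =>
      have hc : Commute a b :=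
        hZc b hb a (hZS ha)
      rw [hc.mul_pow, iha, ihb, one_mul]
    | inv a _ iha => rw [inv_pow, iha, inv_one]
  -- the members of `A`
  have hgen : ∀ n ∈ N₁, ∀ z ∈ Z, n * z * n⁻¹ ∈ A := by
    intro n hn z hz
    rw [hA]
    have hm : (⟨z, hZN hz⟩ : ↥N₁) ∈
        Subgroup.normalClosure ((Z.subgroupOf N₁ : Subgroup ↥N₁) : Set ↥N₁) :=
      Subgroup.subset_normalClosure (show (⟨z, hZN hz⟩ : ↥N₁) ∈ Z.subgroupOf N₁ from hz)
    exact Subgroup.mem_map.2 ⟨_, Subgroup.normalClosure_normal.conj_mem _ hm (⟨n, hn⟩ : ↥N₁), rfl⟩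
  have hmin : ∀ D : Subgroup G, (∀ n ∈ N₁, ∀ z ∈ Z, n * z * n⁻¹ ∈ D) → A ≤ D := by
    intro D hD
    rw [hA, Subgroup.map_le_iff_le_comap, Subgroup.normalClosure, Subgroup.closure_le]
    intro y hy
    obtain ⟨z, hz, hc⟩ := Group.mem_conjugatesOfSet_iff.1 hy
    obtain ⟨n, rfl⟩ := isConj_iff.1 hc
    exact hD n n.2 z hz
  have hAS : A ≤ (S : Subgroup G) := hmin _ fun n hn z hz => hWaS
    ((Subgroup.mem_normalizer_iff.1 hn z).1 (hZa hz))
  have hnormA : ∀ g : G, (∀ n ∈ N₁, ∀ z ∈ Z, g * (n * z * n⁻¹) * g⁻¹ ∈ A) →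
      g ∈ Subgroup.normalizer (A : Set G) := by
    intro g hg
    refine ConjFunctor.cj_eq_iff.1 (Subgroup.eq_of_le_of_card_ge ?_ ?_)
    · refine Subgroup.map_le_iff_le_comap.2 (hmin _ fun n hn z hz => ?_)
      exact hg n hn z hz
    · rw [ConjFunctor.cj_card]
  have hN₁A : N₁ ≤ Subgroup.normalizer (A : Set G) := by
    intro g hg
    refine hnormA g fun n hn z hz => ?_
    have e : g * (n * z * n⁻¹) * g⁻¹ = (g * n) * z * (g * n)⁻¹ := by group
    rw [e]
    exact hgen _ (mul_mem hg hn) z hz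
  have hact : ∀ m h : G, m⁻¹ * h ∈ Subgroup.centralizer (Z : Set G) →
      ∀ z ∈ Z, h * z * h⁻¹ = m * z * m⁻¹ := by
    intro m h hc z hz
    have h1 := Subgroup.mem_centralizer_iff.1 hc z hz
    calc h * z * h⁻¹ = m * ((m⁻¹ * h) * z) * h⁻¹ := by group
      _ = m * (z * (m⁻¹ * h)) * h⁻¹ := by rw [h1]
      _ = m * z * m⁻¹ := by group
  have f₁ := fun (K R : Subgroup G) [hR : (R.subgroupOf K).Normal] hc T => (hfac K R hc T).1
  have f₂ := fun (K R : Subgroup G) [hR : (R.subgroupOf K).Normal] hc T => (hfac K R hc T).2.1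
  have hN₂A : N₂ ≤ Subgroup.normalizer (A : Set G) := by
    intro g hg
    refine hnormA g fun n hn z hz => ?_
    obtain ⟨m, hm, hmc⟩ := ConjFunctor.exists_same_action S W₂ hW₂ f₂ hS₁ hWaS le_rfl hZa n hn
    obtain ⟨k, hk, hkc⟩ := ConjFunctor.exists_same_action S W₁ hW₁ f₁ hS₂ hWbS le_rfl hZb
      (g * m) (mul_mem hg hm)
    have e : g * (n * z * n⁻¹) * g⁻¹ = k * z * k⁻¹ := by
      rw [hact m n hmc z hz, ← hact k (g * m) hkc z hz]
      group
    rw [e]
    exact hgen k hk z hz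
  have hcomm : A ≤ Subgroup.centralizer (A : Set G) := by
    have key : ∀ n ∈ N₁, ∀ z ∈ Z, A ≤ Subgroup.centralizer {n * z * n⁻¹} := by
      intro n hn z hz
      refine hmin _ fun m hm y hy => Subgroup.mem_centralizer_singleton_iff.2 ?_
      have h1 : n⁻¹ * m * y * (n⁻¹ * m)⁻¹ ∈ (S : Subgroup G) :=
        hAS (hgen _ (mul_mem (inv_mem hn) hm) y hy)
      have h2 := hZc z hz _ h1
      calc m * y * m⁻¹ * (n * z * n⁻¹) = n * ((n⁻¹ * m * y * (n⁻¹ * m)⁻¹) * z) * n⁻¹ := by group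
        _ = n * (z * (n⁻¹ * m * y * (n⁻¹ * m)⁻¹)) * n⁻¹ := by rw [h2]
        _ = n * z * n⁻¹ * (m * y * m⁻¹) := by group
    intro a ha
    refine Subgroup.mem_centralizer_iff.2 fun b hb => ?_
    have : A ≤ Subgroup.centralizer {a} := hmin _ fun n hn z hz =>
      Subgroup.mem_centralizer_singleton_iff.2
        (Subgroup.mem_centralizer_singleton_iff.1 (key n hn z hz ha)).symm
    exact Subgroup.mem_centralizer_singleton_iff.1 (this hb)
  have hpow : ∀ a ∈ A, a ^ p = 1 := by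
    intro a ha
    let D : Subgroup G :=
      { carrier := {x | x ∈ A ∧ x ^ p = 1}
        one_mem' := ⟨one_mem A, one_pow p⟩
        mul_mem' := by
          rintro x y ⟨hx, hx'⟩ ⟨hy, hy'⟩
          refine ⟨mul_mem hx hy, ?_⟩
          have hc : Commute x y := Subgroup.mem_centralizer_iff.1 (hcomm hy) x hx
          rw [hc.mul_pow, hx', hy', one_mul]
        inv_mem' := fun {x} hx => ⟨inv_mem hx.1, by rw [inv_pow, hx.2, inv_one]⟩ }
    have : A ≤ D := hmin D fun n hn z hz =>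
      ⟨hgen n hn z hz, by rw [conj_pow, hZp z hz, mul_one, mul_inv_cancel]⟩
    exact (this ha).2
  -- control of fusion by the pair
  have hfus : ∀ (B : Set G) (g : G), B ⊆ (S : Subgroup G) →
      (fun a => g * a * g⁻¹) '' B ⊆ (S : Subgroup G) →
      ∃ x ∈ Subgroup.normalizer (A : Set G), ∀ a ∈ B, g * a * g⁻¹ = x * a * x⁻¹ := by
    have h𝒲 : ∀ W ∈ ({W₁, W₂} : Set (∀ (Q : Type u) [Group Q], Subgroup Q)),
        Cfsg.IsCharPFunctor.{u} p W := by
      rintro _ (rfl | rfl)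
      · exact hW₁
      · exact hW₂
    have h := (ConjFunctor.fusion_of_sections h𝒲 fun K R hR hc S' => by
      rw [ConjFunctor.indFam, Set.image_pair]
      exact ConjFunctor.fusionAt_of_factor
        (ConjFunctor.isConjugacyFunctor_induced hW₁)
        (ConjFunctor.isConjugacyFunctor_induced hW₂) (hfac K R hc S').2.2).2
    rw [ConjFunctor.indFam, Set.image_pair] at h
    obtain ⟨T, hT, hat⟩ := ConjFunctor.at_of_familyFusion h
    have hat' : ConjFunctor.FusionAt {Cfsg.inducedFunctor (G := G) W₁,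
        Cfsg.inducedFunctor (G := G) W₂} ⊤ (S : Subgroup G) :=
      hat.move (by rintro _ (rfl | rfl) <;> assumption) hT (ConjFunctor.isSylIn_top S)
    intro B g hB hgB
    obtain ⟨c, hc, e⟩ := hat' B g (Subgroup.mem_top g) hB hgB
    refine ⟨c, ?_, fun a ha => (e a ha).symm⟩
    clear e
    induction hc with
    | one => exact one_mem _
    | step _ hW hx _ ih =>
      refine mul_mem ?_ ih
      rcases hW with rfl | rfl
      · exact hN₁A (Subgroup.mem_inf.1 hx).2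
      · exact hN₂A (Subgroup.mem_inf.1 hx).2
  refine ⟨hAS, ⟨⟨⟨fun a b => Subtype.ext
    (Subgroup.mem_centralizer_iff.1 (hcomm b.2) a a.2)⟩⟩, hpow⟩, ⟨hAS, ?_⟩, S, hAS,
    fun B hB => ⟨hB, fun g hg => hfus B g hB hg⟩⟩
  intro x hx g hgx
  obtain ⟨c, hc, e⟩ := hfus {x} g (Set.singleton_subset_iff.2 (hAS hx))
    (by rw [Set.image_singleton, Set.singleton_subset_iff]; exact hgx)
  rw [e x rfl]
  exact (Subgroup.mem_normalizer_iff.1 hc x).1 hx

end Cfsg.Agent.S1997
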