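import Cfsg.Statements.S1998
import Cfsg.Agent.Lib.ConjFunctor.Orbit

set_option autoImplicit false
universe u
open Cfsg

set_option linter.style.haveILetI false

namespace Cfsg.Agent.S1998

open Cfsg.Agent Subgroup
open scoped commutatorElement

/-- Let p be a prime, G a finite group with Sylow p-subgroup S, and 𝓦 a nonempty set of isomorphism-invariant p-group functors (W assigns to every group Q a subgroup W(Q), nontrivial whenever Q is a nontrivial finite p-group, and every isomorphism from a finite p-group Q onto a group R carries W(Q) onto W(R)). Suppose the induced conjugacy functors control transfer in every section of G other than G itself, but not in G. Let T be the subgroup generated by the S ∩ (N_G(W(S)))', W ∈ 𝓦, and M = N_G(T ∩ O_p(G)). Then: C_G(O_p(G)) ≤ O_p(G); M is a proper subgroup of G containing every proper subgroup of G that contains S (the unique maximal subgroup over S); [O_p(G), M] ≤ O_p(G) ∩ M' ≤ O_p(G) ∩ T; and every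 element u of S outside O_p(G) satisfies [X, u, …, u] ≰ Y with p − 1 entries u, for some chief factor X/Y of G with X ≤ O_p(G). -/
theorem result {G : Type u} [Group G] [Finite G] {p : ℕ} [Fact p.Prime] (S : Sylow p G) (𝓦 : Set (∀ (Q : Type u) [Group Q], Subgroup Q)) (h𝓦 : ∀ W ∈ 𝓦, Cfsg.IsCharPFunctor.{u} p W) (hne : 𝓦.Nonempty) (hsec : ∀ (K R : Subgroup G) [hR : (R.subgroupOf K).Normal], (K = ⊤ → R ≠ ⊥) → Cfsg.FamilyControlsTransferIn p ((fun W => Cfsg.inducedFunctor (G := (↥K ⧸ R.subgroupOf K)) W) '' 𝓦) ⊤) (hG : ¬ Cfsg.FamilyControlsTransferIn p ((fun W => Cfsg.inducedFunctor (G := G) W) '' 𝓦) ⊤) (T M : Subgroup G) (hT : T = (⨆ W ∈ 𝓦, (S : Subgroup G) ⊓ ⁅Subgroup.normalizer ((Cfsg.inducedFunctor (G := G) W (S : Subgroup G) : Subgroup G) : Set G), Subgroup.normalizer ((Cfsg.inducedFunctor (G := G) W (S : Subgroup G) : Subgroup G) : Set G)⁆)) (hM : M = Subgroup.normalizer ((T ⊓ Cfsg.pCore p G : Subgroup G) : Set G)) : Subgroup.centralizer ((Cfsg.pCore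 p G : Subgroup G) : Set G) ≤ Cfsg.pCore p G ∧ (M ≠ ⊤ ∧ ∀ H : Subgroup G, (S : Subgroup G) ≤ H → H ≠ ⊤ → H ≤ M) ∧ (⁅Cfsg.pCore p G, M⁆ ≤ Cfsg.pCore p G ⊓ ⁅M, M⁆ ∧ Cfsg.pCore p G ⊓ ⁅M, M⁆ ≤ Cfsg.pCore p G ⊓ T) ∧ ∀ u : G, u ∈ (S : Subgroup G) → u ∉ Cfsg.pCore p G → ∃ U V : Subgroup G, Cfsg.IsChiefFactor U V ∧ U ≤ Cfsg.pCore p G ∧ ¬ Cfsg.iterCommutator U (Subgroup.zpowers u) (p - 1) ≤ V := by
  have hsub : ∀ H : Subgroup G, H ≠ ⊤ →
      Cfsg.FamilyControlsTransferIn p (ConjFunctor.indFam 𝓦 ↥H) ⊤ := by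
    intro H hH
    haveI : ((⊥ : Subgroup G).subgroupOf H).Normal := by
      rw [bot_subgroupOf]; infer_instance
    exact ConjFunctor.familyTransfer_congr h𝓦
      ((QuotientGroup.quotientMulEquivOfEq (bot_subgroupOf (H := H))).trans QuotientGroup.quotientBot)
      (hsec H ⊥ fun h => absurd h hH)
  have hquot : ∀ (N : Subgroup G) [N.Normal], N ≠ ⊥ →
      Cfsg.FamilyControlsTransferIn p (ConjFunctor.indFam 𝓦 (G ⧸ N)) ⊤ := by
    intro N _ hN
    exact ConjFunctor.familyTransfer_congr h𝓦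
      (QuotientGroup.congr (N.subgroupOf ⊤) N topEquiv (by
        ext x
        simp [mem_subgroupOf]))
      (hsec ⊤ N fun _ => hN)
  have hsubS : ∀ H : Subgroup G, H ≠ ⊤ → (S : Subgroup G) ≤ H →
      ConjFunctor.XferAt (ConjFunctor.indFam 𝓦 G) H (S : Subgroup G) := fun H hH hSH =>
    ConjFunctor.xfer_move_sub h𝓦
      (ConjFunctor.isSylIn_of_le (ConjFunctor.isSylIn_top S) hSH le_top) (hsub H hH)
  have hno : ¬ ConjFunctor.XferAt (ConjFunctor.indFam 𝓦 G) ⊤ (S : Subgroup G) := fun h =>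
    hG (ConjFunctor.familyTransfer_of_at (ConjFunctor.isSylIn_top S) h)
  have hT' : T = ConjFunctor.xCtl (ConjFunctor.indFam 𝓦 G) ⊤ (S : Subgroup G) := by
    rw [hT, ConjFunctor.xCtl, iSup_image]
    simp only [top_inf_eq]
  have hc : centralizer ((Cfsg.pCore p G : Subgroup G) : Set G) ≤ Cfsg.pCore p G := by
    by_contra hc
    exact hno (ConjFunctor.xfer_step h𝓦 S hsub hquot fun h _ => absurd h hc)
  obtain ⟨W, hW⟩ := hne
  have hWn : normalizer ((Cfsg.inducedFunctor W (S : Subgroup G) : Subgroup G) : Set G) ≠ ⊤ :=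
    fun h => hno fun x hx => by
      refine ConjFunctor.inf_le_xCtl_top (𝒲 := ConjFunctor.indFam 𝓦 G) (W := Cfsg.inducedFunctor W) ⟨W, hW, rfl⟩ ?_
      rw [h]
      exact hx
  have hWS : normalizer ((S : Subgroup G) : Set G) ≤
      normalizer ((Cfsg.inducedFunctor W (S : Subgroup G) : Subgroup G) : Set G) :=
    ConjFunctor.normalizer_le_functor (ConjFunctor.isConjugacyFunctor_induced (h𝓦 W hW)) S.2
  have hST : (S : Subgroup G) ≠ ⊤ := fun h => hWn
    (top_le_iff.mp (by rw [← h]; exact le_normalizer.trans hWS))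
  have hSD := ConjFunctor.xfer_commutator_le S hsubS hST
  have hDn := ConjFunctor.xCtl_normalized S hSD
  haveI := LocalEvenA.pCore_normal' p G
  have hQS := ConjFunctor.pCore_le_sylow (p := p) (X := G) S
  have hcomm : ∀ H : Subgroup G, (S : Subgroup G) ≤ H → H ≠ ⊤ →
      ∀ h ∈ H, ∀ x ∈ Cfsg.pCore p G, ⁅h, x⁆ ∈ T ⊓ Cfsg.pCore p G := by
    intro H hSH hH h hh x hx
    have h1 : ⁅h, x⁆ ∈ Cfsg.pCore p G :=
      commutator_le_right (⊤ : Subgroup G) _ (commutator_mem_commutator (mem_top h) hx)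
    refine ⟨hT' ▸ ConjFunctor.proper_le_xCtl S hSH (hsubS H hH hSH) ⟨hQS h1, ?_⟩, h1⟩
    exact commutator_mem_commutator hh (hSH (hQS hx))
  have hle : ∀ H : Subgroup G, (S : Subgroup G) ≤ H → H ≠ ⊤ → H ≤ M := by
    intro H hSH hH h hh
    rw [hM]
    refine ConjFunctor.cj_eq_iff.mp (eq_of_le_of_card_ge ?_ (ConjFunctor.cj_card h _).ge)
    rintro _ ⟨x, hx, rfl⟩
    have h2 := (T ⊓ Cfsg.pCore p G).mul_mem (hcomm H hSH hH h hh x hx.2) hx
    simpa [commutatorElement_def] using h2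
  have hSM : (S : Subgroup G) ≤ M := hle _ le_rfl hST
  have hMtop : M ≠ ⊤ := by
    intro hMt
    haveI hn : (T ⊓ Cfsg.pCore p G).Normal := normalizer_eq_top_iff.mp (hM ▸ hMt)
    set E := T ⊓ Cfsg.pCore p G with hE
    set q := QuotientGroup.mk' E
    set K := (centralizer (((Cfsg.pCore p G).map q : Subgroup (G ⧸ E)) : Set (G ⧸ E))).comap q
      with hK
    haveI : ((Cfsg.pCore p G).map q).Normal :=
      Normal.map inferInstance q (QuotientGroup.mk'_surjective E)
    haveI : K.Normal := by rw [hK]; infer_instance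
    have hHK : ∀ H : Subgroup G, (S : Subgroup G) ≤ H → H ≠ ⊤ → H ≤ K := by
      intro H hSH hH h hh
      refine mem_comap.mpr (mem_centralizer_iff.mpr ?_)
      rintro _ ⟨x, hx, rfl⟩
      have h3 : q ⁅h, x⁆ = 1 := (QuotientGroup.eq_one_iff _).mpr (hcomm H hSH hH h hh x hx)
      rw [map_commutatorElement, commutatorElement_eq_one_iff_mul_comm] at h3
      exact h3.symm
    obtain ⟨P, hP⟩ := LocalEvenA.exists_sylow_subgroupOf_normal S K
    have hfr := Sylow.normalizer_sup_eq_top P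
    rw [hP, subgroupOf_map_subtype, inf_eq_left.mpr (hHK _ le_rfl hST)] at hfr
    have hKt : K = ⊤ := top_le_iff.mp (hfr ▸ sup_le
      (hWS.trans (hHK _ (le_normalizer.trans hWS) hWn)) le_rfl)
    refine hno (ConjFunctor.xfer_constrained h𝓦 S hsub hquot hc fun x hx => ?_)
    refine ConjFunctor.mem_of_transfer S _ hDn hSD x (hQS hx.1)
      (by rw [_root_.commutator_def]; exact hx.2) (fun t => hQS (by
        simpa using ‹(Cfsg.pCore p G).Normal›.conj_mem x hx.1 t⁻¹)) fun t => ?_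
    have h4 : t⁻¹ ∈ K := hKt ▸ mem_top _
    have h5 := mem_centralizer_iff.mp h4 (q x) (mem_map_of_mem q hx.1)
    rw [← hT']
    refine (mem_inf.mp ((QuotientGroup.eq_one_iff (N := E) _).mp ?_)).1
    show q (x⁻¹ * (t⁻¹ * x * t)) = 1
    calc q (x⁻¹ * (t⁻¹ * x * t)) = (q x)⁻¹ * (q t⁻¹ * q x) * q t := by
          simp [map_mul, mul_assoc]
      _ = 1 := by rw [← h5]; simp [map_inv]
  refine ⟨hc, ⟨hMtop, hle⟩, ⟨?_, ?_⟩, fun u huS huQ => ?_⟩
  · exact le_inf (commutator_le_left _ _) (commutator_mono (hQS.trans hSM) le_rfl)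
  · refine le_inf inf_le_left ?_
    rw [hT']
    exact le_trans (inf_le_inf_right _ hQS)
      (ConjFunctor.proper_le_xCtl S hSM (hsubS M hMtop hSM))
  · by_contra hcon
    push_neg at hcon
    exact hno (ConjFunctor.xfer_of_element h𝓦 S hsub hquot hc u huS huQ hcon)

end Cfsg.Agent.S1998
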