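import Cfsg.Statements.S2001
import Cfsg.Agent.Lib.Tech.LocalToGlobal
import Cfsg.Agent.Lib.Basics.Tools
import Mathlib

set_option autoImplicit false
open Cfsg
open scoped commutatorElement

namespace Cfsg.Agent.S2001

/-- Let p be a prime dividing the order of the finite group G, P a Sylow p-subgroup, W a conjugacy functor for p on G with Z(H) ≤ W(H) for every nontrivial p-subgroup H, and V a central functor: a conjugacy functor with V(H) ≤ Z(H), and V(H) ≤ V(K) whenever Z(H) ≤ Z(K), for nontrivial p-subgroups H, K. Say that W with V controls transfer in a subgroup L when some Sylow p-subgroup Q of L satisfies Q ∩ L' = (Q ∩ (N_L(W(Q)))')·(Q ∩ (C_L(V(Q)))') as a product of two subgroups. If W with V controls transfer in N_G(H) for every subgroup H with Z(P) ≤ H ≤ P, then W with V controls transfer in G. -/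
theorem result {G : Type*} [Group G] [Finite G] {p : ℕ} [Fact p.Prime] (hdiv : p ∣ Nat.card G) (P : Sylow p G) (W V : Subgroup G → Subgroup G) (hW : Cfsg.IsConjugacyFunctor p W) (hV : Cfsg.IsConjugacyFunctor p V) (hWZ : ∀ H : Subgroup G, IsPGroup p ↥H → H ⊓ Subgroup.centralizer ((H : Subgroup G) : Set G) ≤ W H) (hVZ : ∀ H : Subgroup G, IsPGroup p ↥H → V H ≤ H ⊓ Subgroup.centralizer ((H : Subgroup G) : Set G)) (hVmono : ∀ H K : Subgroup G, IsPGroup p ↥H → IsPGroup p ↥K → H ≠ ⊥ → K ≠ ⊥ → H ⊓ Subgroup.centralizer ((H : Subgroup G) : Set G) ≤ K ⊓ Subgroup.centralizer ((K : Subgroup G) : Set G) → V H ≤ V K) (hloc : ∀ H : Subgroup G, (P : Subgroup G) ⊓ Subgroup.centralizer (((P : Subgroup G) : Subgroup G) : Set G) ≤ H → H ≤ (P : Subgroup G) → ∃ Q : Subgroup G, Q ≤ Subgroup.normalizer ((H : Subgroup G) : Set G) ∧ IsPGroup p ↥Q ∧ ¬ p ∣ (Q).relIndex (Subgroup.normalizer ((H : Subgroup G) : Set G)) ∧ ∀ x : G, x ∈ Q ⊓ ⁅Subgroup.normalizer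 ((H : Subgroup G) : Set G), Subgroup.normalizer ((H : Subgroup G) : Set G)⁆ ↔ ∃ a ∈ Q ⊓ ⁅Subgroup.normalizer ((H : Subgroup G) : Set G) ⊓ Subgroup.normalizer ((W Q : Subgroup G) : Set G), Subgroup.normalizer ((H : Subgroup G) : Set G) ⊓ Subgroup.normalizer ((W Q : Subgroup G) : Set G)⁆, ∃ b ∈ Q ⊓ ⁅Subgroup.normalizer ((H : Subgroup G) : Set G) ⊓ Subgroup.centralizer ((V Q : Subgroup G) : Set G), Subgroup.normalizer ((H : Subgroup G) : Set G) ⊓ Subgroup.centralizer ((V Q : Subgroup G) : Set G)⁆, x = a * b) : ∃ Q : Subgroup G, IsPGroup p ↥Q ∧ ¬ p ∣ Q.index ∧ ∀ x : G, x ∈ Q ⊓ commutator G ↔ ∃ a ∈ Q ⊓ ⁅Subgroup.normalizer ((W Q : Subgroup G) : Set G), Subgroup.normalizer ((W Q : Subgroup G) : Set G)⁆, ∃ b ∈ Q ⊓ ⁅Subgroup.centralizer ((V Q : Subgroup G) : Set G), Subgroup.centralizer ((V Q : Subgroup G) : Set G)⁆, x = a * b := by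
  have hP : (P : Subgroup G) ≠ ⊥ := P.ne_bot_of_dvd_card hdiv
  set N₁ := Subgroup.normalizer ((W (P : Subgroup G) : Subgroup G) : Set G) with hN₁
  set C₁ := Subgroup.centralizer ((V (P : Subgroup G) : Subgroup G) : Set G) with hC₁
  set A₁ := (P : Subgroup G) ⊓ ⁅N₁, N₁⁆
  set B₁ := (P : Subgroup G) ⊓ ⁅C₁, C₁⁆
  have hPN : (P : Subgroup G) ≤ N₁ := ConjFunctor.self_le_normalizer_functor hW P.2
  have hPA : (P : Subgroup G) ≤ Subgroup.normalizer (A₁ : Set G) := fun s hs => by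
    refine Subgroup.mem_normalizer_iff.mpr fun z => ?_
    refine and_congr (Subgroup.mem_normalizer_iff.mp (Subgroup.le_normalizer hs) z) ?_
    refine Subgroup.mem_normalizer_iff.mp ?_ z
    exact Subgroup.normalizer_commutator_ge_left _ _ (hPN hs)
  set K := A₁ ⊔ B₁ with hK
  let R : Set G → G → Prop := fun A g => A ⊆ (P : Set G) ∧ ConjFunctor.cS g A ⊆ (P : Set G) ∧
    ∀ u ∈ A, u⁻¹ * (g * u * g⁻¹) ∈ K
  have hfocal : ∀ (M : Subgroup G), ¬ p ∣ ((P : Subgroup G) ⊓ M).relIndex M →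
      (∀ u ∈ (P : Subgroup G) ⊓ M, ∀ y ∈ M, y * u * y⁻¹ ∈ (P : Subgroup G) → u⁻¹ * (y * u * y⁻¹) ∈ K) →
      (P : Subgroup G) ⊓ M ⊓ ⁅M, M⁆ ≤ K := by
    intro M hM hu
    let S : Sylow p M := ((P.2.to_le (inf_le_left : (P : Subgroup G) ⊓ M ≤ P)).comap_subtype (K := M)).toSylow hM
    intro z hz
    obtain ⟨hz1, hz2⟩ := Subgroup.mem_inf.mp hz
    have hzM : z ∈ M := (Subgroup.mem_inf.mp hz1).2
    have h1 : (⟨z, hzM⟩ : M) ∈ _root_.commutator M ⊓ (S : Subgroup M) := by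
      refine Subgroup.mem_inf.mpr ⟨?_, Subgroup.mem_subgroupOf.mpr hz1⟩
      obtain ⟨z', hz', e⟩ : z ∈ (_root_.commutator M).map M.subtype := by
        rw [_root_.commutator_def, Subgroup.map_commutator, ← MonoidHom.range_eq_map, Subgroup.range_subtype]
        exact hz2
      have : z' = ⟨z, hzM⟩ := Subtype.ext e
      exact this ▸ hz'
    rw [Subgroup.commutator_inf_eq_focalSubgroup S, Subgroup.focalSubgroup_def] at h1
    suffices h : (⟨z, hzM⟩ : M) ∈ K.subgroupOf M from Subgroup.mem_subgroupOf.mp h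
    refine (Subgroup.closure_le _).mpr ?_ h1
    rintro w ⟨hw, x, hx, v, rfl⟩
    have hwP : ((x * v * x⁻¹ * v⁻¹ : M) : G) ∈ (P : Subgroup G) := (Subgroup.mem_inf.mp hw).1
    have hxP : (x : G) ∈ (P : Subgroup G) ⊓ M := hx
    have h2 : (v : G) * (x : G)⁻¹ * (v : G)⁻¹ ∈ (P : Subgroup G) := by
      have := mul_mem (inv_mem (Subgroup.mem_inf.mp hxP).1) hwP
      simpa [mul_assoc] using this
    show ((⁅x, v⁆ : M) : G) ∈ K
    have h3 := hu _ (inv_mem hxP) v v.2 h2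
    simpa [commutatorElement_def, mul_assoc] using h3
  have main : ∀ (A : Set G) (g : G), A ⊆ (P : Set G) → ConjFunctor.cS g A ⊆ (P : Set G) → R A g := by
    intro A g hA hg
    refine Tech.local_to_global P hW hWZ R ?_ ?_ ?_ ?_ ?_ ?_ A g hA hg
    · exact fun hAB ⟨h1, h2, h3⟩ => ⟨hAB.trans h1, (Set.image_mono hAB).trans h2, fun u hu => h3 u (hAB hu)⟩
    · rintro A g h hgh ⟨h1, h2, h3⟩
      refine ⟨h1, ?_, fun u hu => hgh u hu ▸ h3 u hu⟩
      rintro _ ⟨u, hu, rfl⟩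
      exact h2 ⟨u, hu, hgh u hu⟩
    · rintro A g h ⟨h1, h2, h3⟩ ⟨-, h5, h6⟩
      refine ⟨h1, by rw [ConjFunctor.cS_mul]; exact h5, fun u hu => ?_⟩
      have e : u⁻¹ * (h * g * u * (h * g)⁻¹) =
          (u⁻¹ * (g * u * g⁻¹)) * ((g * u * g⁻¹)⁻¹ * (h * (g * u * g⁻¹) * h⁻¹)) := by group
      rw [e]
      exact mul_mem (h3 u hu) (h6 _ ⟨u, hu, rfl⟩)
    · rintro A g ⟨h1, h2, h3⟩
      refine ⟨h2, by rw [ConjFunctor.cS_inv_cS]; exact h1, ?_⟩
      rintro _ ⟨u, hu, rfl⟩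
      have := inv_mem (h3 u hu)
      simpa [mul_assoc] using this
    · intro A hA y hy hyA
      refine ⟨hA, hyA, fun u hu => Subgroup.mem_sup_left (Subgroup.mem_inf.mpr
        ⟨mul_mem (inv_mem (hA hu)) (hyA ⟨u, hu, rfl⟩), ?_⟩)⟩
      have := Subgroup.commutator_mem_commutator (inv_mem (hPN (hA hu))) hy
      simpa [commutatorElement_def, mul_assoc] using this
    · intro T hTP hZT hT A hA x hx hxA hT' hN
      refine ⟨fun v hv => (Subgroup.mem_inf.mp (hA hv)).1, hxA, fun u hu => ?_⟩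
      set Q₀ := ConjFunctor.nS (P : Subgroup G) T
      set N := Subgroup.normalizer (T : Set G)
      have hQp : IsPGroup p Q₀ := P.2.to_le inf_le_left
      have hQne : Q₀ ≠ ⊥ := fun h => hP (by
        have hT0 : T = ⊥ := le_bot_iff.mp (h ▸ ConjFunctor.le_nS hTP)
        rw [← h]
        show _ = (P : Subgroup G) ⊓ Subgroup.normalizer (T : Set G)
        rw [hT0, Subgroup.normalizer_eq_top, inf_top_eq])
      have hVle : V (P : Subgroup G) ≤ V Q₀ := hVmono _ _ P.2 hQp hP hQne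
        (Tech.center_le_center P inf_le_left (hZT.trans (ConjFunctor.le_nS hTP)))
      obtain ⟨Q, hQN, hQp', hQi, hQ⟩ := hloc T hZT hTP
      obtain ⟨n, hn, hnQ⟩ := ConjFunctor.isSylIn_conj (p := p) (T := Q) (T' := Q₀) (H := N)
        ⟨hQN, hQp', hQi⟩ (hT.sylIn P.2)
      have hWQ : W Q = (W Q₀).map (MulAut.conj n).toMonoidHom := hnQ ▸ ConjFunctor.functor_cj hW hQp n
      have hVQ : V Q = (V Q₀).map (MulAut.conj n).toMonoidHom := hnQ ▸ ConjFunctor.functor_cj hV hQp n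
      have hback : ∀ v ∈ Q, n⁻¹ * v * n ∈ Q₀ := fun v hv => ConjFunctor.mem_cj.mp (hnQ ▸ hv)
      set z := u⁻¹ * (x * u * x⁻¹)
      have huQ : u ∈ Q₀ := hA hu
      have hxu : x * u * x⁻¹ ∈ Q₀ := Subgroup.mem_inf.mpr
        ⟨hxA ⟨u, hu, rfl⟩, mul_mem (mul_mem hx (Subgroup.mem_inf.mp huQ).2) (inv_mem hx)⟩
      have hzN : z ∈ ⁅N, N⁆ := by
        have := Subgroup.commutator_mem_commutator (inv_mem (Subgroup.mem_inf.mp huQ).2) hx
        simpa [z, commutatorElement_def, mul_assoc] using this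
      have hzQ₀ : z ∈ Q₀ := mul_mem (inv_mem huQ) hxu
      have hzQ : n * z * n⁻¹ ∈ Q := by
        rw [← hnQ]
        exact ConjFunctor.conj_mem_cj hzQ₀
      have hnn : n ∈ Subgroup.normalizer ((⁅N, N⁆ : Subgroup G) : Set G) :=
        Subgroup.normalizer_commutator_ge_left N N hn
      have hzN' : n * z * n⁻¹ ∈ ⁅N, N⁆ := (Subgroup.mem_normalizer_iff.mp hnn z).mp hzN
      obtain ⟨a, ha, b, hb, hab⟩ := (hQ (n * z * n⁻¹)).mp (Subgroup.mem_inf.mpr ⟨hzQ, hzN'⟩)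
      have hconj : ∀ (M M' : Subgroup G), M ≤ M'.map (MulAut.conj n).toMonoidHom → ∀ v ∈ ⁅M, M⁆, n⁻¹ * v * n ∈ ⁅M', M'⁆ := by
        intro M M' hMM v hv
        have h2 := Subgroup.commutator_mono hMM hMM hv
        rw [← Subgroup.map_commutator] at h2
        exact ConjFunctor.mem_cj.mp h2
      have hze : z = (n⁻¹ * a * n) * (n⁻¹ * b * n) := by
        calc z = n⁻¹ * (n * z * n⁻¹) * n := by group
          _ = _ := by rw [hab]; group
      rw [hze]
      refine mul_mem ?_ (Subgroup.mem_sup_right (Subgroup.mem_inf.mpr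
        ⟨(Subgroup.mem_inf.mp (hback b (Subgroup.mem_inf.mp hb).1)).1, ?_⟩))
      · set N' := Subgroup.normalizer ((W Q₀ : Subgroup G) : Set G)
        refine hfocal N' hT'.2 (fun v hv y hy hyv => ?_) ?_
        · obtain ⟨-, -, h3⟩ := hN {v} (Set.singleton_subset_iff.mpr hv) y hy (by rintro _ ⟨_, rfl, rfl⟩; exact hyv)
          exact h3 v rfl
        · obtain ⟨haQ, haC⟩ := Subgroup.mem_inf.mp ha
          have hQ₀' := ConjFunctor.nS_le_nS_next P hW T (hback a haQ)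
          refine Subgroup.mem_inf.mpr ⟨hQ₀', hconj _ N' ?_ a haC⟩
          rw [show N'.map (MulAut.conj n).toMonoidHom = Subgroup.normalizer ((W Q : Subgroup G) : Set G) by
            rw [hWQ, ← Subgroup.map_equiv_normalizer_eq]]
          exact inf_le_right
      · refine hconj _ C₁ ?_ b (Subgroup.mem_inf.mp hb).2
        intro y hy
        refine ⟨n⁻¹ * y * n, Subgroup.mem_centralizer_iff.mpr fun v hv => ?_, by simp [mul_assoc]⟩
        have h2 := Subgroup.mem_centralizer_iff.mp (Subgroup.mem_inf.mp hy).2 (n * v * n⁻¹)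
          (by rw [hVQ]; exact ⟨v, hVle hv, rfl⟩)
        calc v * (n⁻¹ * y * n) = n⁻¹ * (n * v * n⁻¹ * y) * n := by group
          _ = n⁻¹ * y * n * v := by rw [h2]; group
  have htop : (P : Subgroup G) ⊓ _root_.commutator G ≤ K := by
    have := hfocal ⊤ (by rw [inf_top_eq, Subgroup.relIndex_top_right]; exact P.not_dvd_index)
      (fun u hu y _ hy => by
        obtain ⟨-, -, h3⟩ := main {u} y (Set.singleton_subset_iff.mpr (Subgroup.mem_inf.mp hu).1) (by rintro _ ⟨_, rfl, rfl⟩; exact hy)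
        exact h3 u rfl)
    rwa [inf_top_eq, ← _root_.commutator_def] at this
  refine ⟨(P : Subgroup G), P.2, P.not_dvd_index, fun x => ⟨fun hx => ?_, ?_⟩⟩
  · obtain ⟨a, ha, b, hb, e⟩ := (Basics.mem_sup_of_le_normalizer
      ((inf_le_left : B₁ ≤ (P : Subgroup G)).trans hPA)).mp (htop hx)
    exact ⟨a, ha, b, hb, e⟩
  · rintro ⟨a, ha, b, hb, rfl⟩
    refine Subgroup.mem_inf.mpr ⟨mul_mem (Subgroup.mem_inf.mp ha).1 (Subgroup.mem_inf.mp hb).1, ?_⟩
    rw [_root_.commutator_def]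
    exact mul_mem (Subgroup.commutator_mono le_top le_top (Subgroup.mem_inf.mp ha).2)
      (Subgroup.commutator_mono le_top le_top (Subgroup.mem_inf.mp hb).2)

end Cfsg.Agent.S2001
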