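import Cfsg.Statements.S2002
import Cfsg.Agent.Lib.Tech.LocalMoves

set_option autoImplicit false
open Cfsg

namespace Cfsg.Agent.S2002

/-- Let p be a prime dividing the order of the finite group G, P a Sylow p-subgroup, W a conjugacy functor for p on G with Z(H) ≤ W(H) for every nontrivial p-subgroup H, and V a central functor (a conjugacy functor with V(H) ≤ Z(H), and V(H) ≤ V(K) whenever Z(H) ≤ Z(K)). Say that W with V controls strong fusion in a subgroup L when some Sylow p-subgroup Q of L has the property: whenever X ⊆ Q and a ∈ L with a⁻¹Xa ⊆ Q, then a = c b with c ∈ C_L(X) and b = b₁ ⋯ bₙ a product of elements each in N_L(W(Q)) or in C_L(V(Q)) such that every partial conjugate (b₁ ⋯ bₖ)⁻¹ X (b₁ ⋯ bₖ) lies in Q. If W with V controls strong fusion in N_G(H) for every subgroup H with Z(P) ≤ H ≤ P, then W with V controls strong fusion in G. -/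
theorem result {G : Type*} [Group G] [Finite G] {p : ℕ} [Fact p.Prime] (hdiv : p ∣ Nat.card G) (P : Sylow p G) (W V : Subgroup G → Subgroup G) (hW : Cfsg.IsConjugacyFunctor p W) (hV : Cfsg.IsConjugacyFunctor p V) (hWZ : ∀ H : Subgroup G, IsPGroup p ↥H → H ⊓ Subgroup.centralizer ((H : Subgroup G) : Set G) ≤ W H) (hVZ : ∀ H : Subgroup G, IsPGroup p ↥H → V H ≤ H ⊓ Subgroup.centralizer ((H : Subgroup G) : Set G)) (hVmono : ∀ H K : Subgroup G, IsPGroup p ↥H → IsPGroup p ↥K → H ≠ ⊥ → K ≠ ⊥ → H ⊓ Subgroup.centralizer ((H : Subgroup G) : Set G) ≤ K ⊓ Subgroup.centralizer ((K : Subgroup G) : Set G) → V H ≤ V K) (hloc : ∀ H : Subgroup G, (P : Subgroup G) ⊓ Subgroup.centralizer (((P : Subgroup G) : Subgroup G) : Set G) ≤ H → H ≤ (P : Subgroup G) → ∃ Q : Subgroup G, Q ≤ Subgroup.normalizer ((H : Subgroup G) : Set G) ∧ IsPGroup p ↥Q ∧ ¬ p ∣ (Q).relIndex (Subgroup.normalizer ((H : Subgroup G) : Set G)) ∧ ∀ (X : Set G)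 (a : G), X ⊆ Q → a ∈ Subgroup.normalizer ((H : Subgroup G) : Set G) → (fun x => a⁻¹ * x * a) '' X ⊆ Q → ∃ c ∈ Subgroup.normalizer ((H : Subgroup G) : Set G) ⊓ Subgroup.centralizer X, ∃ (n : ℕ) (b : Fin n → G), (∀ i, b i ∈ Subgroup.normalizer ((H : Subgroup G) : Set G) ⊓ Subgroup.normalizer ((W Q : Subgroup G) : Set G) ∨ b i ∈ Subgroup.normalizer ((H : Subgroup G) : Set G) ⊓ Subgroup.centralizer ((V Q : Subgroup G) : Set G)) ∧ a = c * (List.ofFn b).prod ∧ ∀ k : ℕ, k ≤ n → (fun x => (((List.ofFn b).take k).prod)⁻¹ * x * ((List.ofFn b).take k).prod) '' ((fun x => c⁻¹ * x * c) '' X) ⊆ Q) : ∃ Q : Subgroup G, IsPGroup p ↥Q ∧ ¬ p ∣ Q.index ∧ ∀ (X : Set G) (a : G), X ⊆ Q → (fun x => a⁻¹ * x * a) '' X ⊆ Q → ∃ c ∈ Subgroup.centralizer X, ∃ (n : ℕ) (b : Fin n → G), (∀ i, b i ∈ ⊤ ⊓ Subgroup.normalizer ((W Q : Subgroup G) : Set G) ∨ b i ∈ ⊤ ⊓ Subgroup.centralizer ((V Q : Subgroup G) : Set G)) ∧ a = c * (List.ofFn b).prod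 ∧ ∀ k : ℕ, k ≤ n → (fun x => (((List.ofFn b).take k).prod)⁻¹ * x * ((List.ofFn b).take k).prod) '' ((fun x => c⁻¹ * x * c) '' X) ⊆ Q := by
  have hP : (P : Subgroup G) ≠ ⊥ := P.ne_bot_of_dvd_card hdiv
  refine ⟨(P : Subgroup G), P.2, P.not_dvd_index, fun X a hX hXa => ?_⟩
  let U : Set G := {b | b ∈ (⊤ : Subgroup G) ⊓ Subgroup.normalizer ((W (P : Subgroup G) : Subgroup G) : Set G) ∨
    b ∈ (⊤ : Subgroup G) ⊓ Subgroup.centralizer ((V (P : Subgroup G) : Subgroup G) : Set G)}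
  have hUinv : ∀ b ∈ U, b⁻¹ ∈ U := fun b hb => hb.imp inv_mem inv_mem
  have hcomp : ∀ {A : Set G} {g h : G}, Tech.MovesTo (P : Subgroup G) U A g →
      Tech.MovesTo (P : Subgroup G) U (ConjFunctor.cS g A) h → Tech.MovesTo (P : Subgroup G) U A (h * g) := by
    rintro A g h ⟨l, hl, hlg⟩ ⟨l', hl', hlh⟩
    refine ⟨l ++ l', Tech.Moves.append l l' hl (Tech.Moves.mono l' ?_ hl'), fun a ha => ?_⟩
    · rintro _ ⟨a, ha, rfl⟩
      exact ⟨a, ha, hlg a ha⟩
    · calc h * g * a * (h * g)⁻¹ = h * (g * a * g⁻¹) * h⁻¹ := by group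
        _ = l'.prod⁻¹ * (g * a * g⁻¹) * l'.prod := hlh _ ⟨a, ha, rfl⟩
        _ = (l ++ l').prod⁻¹ * a * (l ++ l').prod := by rw [hlg a ha, List.prod_append]; group
  have hsingle : ∀ (A : Set G) (y : G), y⁻¹ ∈ U → A ⊆ (P : Set G) →
      ConjFunctor.cS y A ⊆ (P : Set G) → Tech.MovesTo (P : Subgroup G) U A y := fun A y hy hA hyA =>
    ⟨[y⁻¹], ⟨hA, hy, by simpa [ConjFunctor.cS, Tech.Moves] using hyA⟩, fun a _ => by simp⟩
  obtain ⟨l, hl, hla⟩ : Tech.MovesTo (P : Subgroup G) U X a⁻¹ := by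
    refine Tech.local_to_global P hW hWZ _ ?_ ?_ hcomp ?_ ?_ ?_ X a⁻¹ hX
      (by simpa [ConjFunctor.cS] using hXa)
    · rintro A B g hAB ⟨l, hl, hlg⟩
      exact ⟨l, Tech.Moves.mono l hAB hl, fun a ha => hlg a (hAB ha)⟩
    · rintro A g h hgh ⟨l, hl, hlg⟩
      exact ⟨l, hl, fun a ha => (hgh a ha).symm.trans (hlg a ha)⟩
    · rintro A g ⟨l, hl, hlg⟩
      obtain ⟨l', hl'e, hl'⟩ := Tech.Moves.reverse hUinv l hl
      refine ⟨l', Tech.Moves.mono l' ?_ hl', ?_⟩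
      · rintro _ ⟨a, ha, rfl⟩
        exact ⟨a, ha, (hlg a ha).symm⟩
      · rintro _ ⟨a, ha, rfl⟩
        show g⁻¹ * (g * a * g⁻¹) * g⁻¹⁻¹ = l'.prod⁻¹ * (g * a * g⁻¹) * l'.prod
        rw [hlg a ha, hl'e, ← hlg a ha]
        calc g⁻¹ * (g * a * g⁻¹) * g⁻¹⁻¹ = a := by group
          _ = l.prod⁻¹⁻¹ * (l.prod⁻¹ * a * l.prod) * l.prod⁻¹ := by group
          _ = _ := by rw [hlg a ha]
    · exact fun A hA y hy hyA => hsingle A y (Or.inl (Subgroup.mem_inf.mpr ⟨Subgroup.mem_top _, inv_mem hy⟩)) hA hyA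
    · intro T hTP hZT hT A hA x hx hxA _ hN
      set Q₀ := ConjFunctor.nS (P : Subgroup G) T
      set N := Subgroup.normalizer (T : Set G)
      have hQp : IsPGroup p Q₀ := P.2.to_le inf_le_left
      have hQne : Q₀ ≠ ⊥ := fun h => hP (by
        have hT0 : T = ⊥ := le_bot_iff.mp (h ▸ ConjFunctor.le_nS hTP)
        rw [← h]
        show _ = (P : Subgroup G) ⊓ Subgroup.normalizer (T : Set G)
        rw [hT0, Subgroup.normalizer_eq_top, inf_top_eq])
      have hVle : V (P : Subgroup G) ≤ V Q₀ := hVmono _ _ P.2 hQp hP hQne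
        (Tech.center_le_center P inf_le_left (hZT.trans (ConjFunctor.le_nS hTP)))
      obtain ⟨Q, hQN, hQp', hQi, hQ⟩ := hloc T hZT hTP
      obtain ⟨n, hn, hnQ⟩ := ConjFunctor.isSylIn_conj (p := p) (T := Q) (T' := Q₀) (H := N)
        ⟨hQN, hQp', hQi⟩ (hT.sylIn P.2)
      have hxQ : ∀ u ∈ A, x * u * x⁻¹ ∈ Q₀ := fun u hu => Subgroup.mem_inf.mpr
        ⟨hxA ⟨u, hu, rfl⟩, mul_mem (mul_mem hx (Subgroup.mem_inf.mp (hA hu)).2) (inv_mem hx)⟩
      have hback : ∀ u ∈ Q, n⁻¹ * u * n ∈ Q₀ := fun u hu => ConjFunctor.mem_cj.mp (hnQ ▸ hu)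
      obtain ⟨c, hc, m, b, hb, hab, hk⟩ := hQ (ConjFunctor.cS n A) (n * x⁻¹ * n⁻¹)
        (by rintro _ ⟨u, hu, rfl⟩; exact hnQ ▸ ConjFunctor.conj_mem_cj (hA hu))
        (mul_mem (mul_mem hn (inv_mem hx)) (inv_mem hn))
        (by
          rintro _ ⟨_, ⟨u, hu, rfl⟩, rfl⟩
          have h2 : n * (x * u * x⁻¹) * n⁻¹ ∈ Q := hnQ ▸ ConjFunctor.conj_mem_cj (hxQ u hu)
          show (n * x⁻¹ * n⁻¹)⁻¹ * (n * u * n⁻¹) * (n * x⁻¹ * n⁻¹) ∈ Q
          rw [show (n * x⁻¹ * n⁻¹)⁻¹ * (n * u * n⁻¹) * (n * x⁻¹ * n⁻¹) = n * (x * u * x⁻¹) * n⁻¹ by group]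
          exact h2)
      have hcX : ∀ v ∈ ConjFunctor.cS n A, c⁻¹ * v * c = v := fun v hv => by
        rw [mul_assoc, Subgroup.mem_centralizer_iff.mp (Subgroup.mem_inf.mp hc).2 v hv, inv_mul_cancel_left]
      have hWQ : W Q = (W Q₀).map (MulAut.conj n).toMonoidHom := hnQ ▸ ConjFunctor.functor_cj hW hQp n
      have hVQ : V Q = (V Q₀).map (MulAut.conj n).toMonoidHom := hnQ ▸ ConjFunctor.functor_cj hV hQp n
      let π : ℕ → G := fun k => n⁻¹ * ((List.ofFn b).take k).prod * n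
      have key : ∀ k, k ≤ m → Tech.MovesTo (P : Subgroup G) U A (π k)⁻¹ ∧
          ∀ u ∈ A, (π k)⁻¹ * u * π k ∈ Q₀ := by
        have hmem : ∀ k, k ≤ m → ∀ u ∈ A, (π k)⁻¹ * u * π k ∈ Q₀ := fun k hk' u hu => by
          have h2 := hk k hk' ⟨_, ⟨n * u * n⁻¹, ⟨u, hu, rfl⟩, rfl⟩, rfl⟩
          simp only [hcX _ ⟨u, hu, rfl⟩] at h2
          have h3 := hback _ h2
          rw [show (π k)⁻¹ * u * π k = n⁻¹ * ((((List.ofFn b).take k).prod)⁻¹ * (n * u * n⁻¹) *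
            ((List.ofFn b).take k).prod) * n by simp only [π]; group]
          exact h3
        intro k
        induction k with
        | zero =>
          refine fun _ => ⟨⟨[], fun u hu => (Subgroup.mem_inf.mp (hA hu)).1, fun u _ => ?_⟩, hmem 0 (Nat.zero_le _)⟩
          simp [π]
        | succ k ih =>
          intro hk'
          obtain ⟨hMk, hQk⟩ := ih (by omega)
          refine ⟨?_, hmem (k + 1) hk'⟩
          set β := n⁻¹ * b ⟨k, by omega⟩ * n with hβ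
          have hπ : π (k + 1) = π k * β := by
            simp only [π, hβ]
            rw [List.take_add_one, List.getElem?_ofFn, dif_pos (by omega), Option.toList_some,
              List.prod_append, List.prod_singleton]
            group
          rw [hπ, mul_inv_rev]
          refine hcomp hMk ?_
          have hB : ConjFunctor.cS (π k)⁻¹ A ⊆ (Q₀ : Set G) := by
            rintro _ ⟨u, hu, rfl⟩; simpa using hQk u hu
          have hy : ConjFunctor.cS β⁻¹ (ConjFunctor.cS (π k)⁻¹ A) ⊆ (P : Set G) := by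
            rintro _ ⟨_, ⟨u, hu, rfl⟩, rfl⟩
            have := hmem (k + 1) hk' u hu
            rw [hπ] at this
            show β⁻¹ * ((π k)⁻¹ * u * (π k)⁻¹⁻¹) * β⁻¹⁻¹ ∈ (P : Subgroup G)
            have h2 := (Subgroup.mem_inf.mp this).1
            have e : β⁻¹ * ((π k)⁻¹ * u * (π k)⁻¹⁻¹) * β⁻¹⁻¹ = (π k * β)⁻¹ * u * (π k * β) := by group
            rw [e]; exact h2
          have hB' := hB.trans (fun v hv => (Subgroup.mem_inf.mp hv).1)
          rcases hb ⟨k, by omega⟩ with hb' | hb'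
          · refine hN _ (hB.trans (ConjFunctor.nS_le_nS_next P hW T)) β⁻¹ (inv_mem ?_) hy
            have h2 := (Subgroup.mem_inf.mp hb').2
            rw [hWQ, ← Subgroup.map_equiv_normalizer_eq] at h2
            obtain ⟨w, hw, hwb⟩ := h2
            rw [hβ, ← hwb]
            simpa [mul_assoc] using hw
          · refine hsingle _ β⁻¹ ?_ hB' hy
            rw [inv_inv]
            refine Or.inr (Subgroup.mem_inf.mpr ⟨Subgroup.mem_top _, Subgroup.mem_centralizer_iff.mpr fun v hv => ?_⟩)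
            have h2 := Subgroup.mem_centralizer_iff.mp (Subgroup.mem_inf.mp hb').2 (n * v * n⁻¹)
              (by rw [hVQ]; exact ⟨v, hVle hv, rfl⟩)
            calc v * β = n⁻¹ * (n * v * n⁻¹ * b ⟨k, by omega⟩) * n := by rw [hβ]; group
              _ = β * v := by rw [h2, hβ]; group
      obtain ⟨l, hl, hlx⟩ := (key m le_rfl).1
      refine ⟨l, hl, fun u hu => ?_⟩
      rw [← hlx u hu, inv_inv]
      have e : π m = n⁻¹ * (List.ofFn b).prod * n := by
        simp only [π]; rw [List.take_of_length_le (by simp)]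
      have h2 := hcX _ ⟨u, hu, rfl⟩
      calc x * u * x⁻¹ = n⁻¹ * ((n * x⁻¹ * n⁻¹)⁻¹ * (n * u * n⁻¹) * (n * x⁻¹ * n⁻¹)) * n := by group
        _ = n⁻¹ * ((List.ofFn b).prod⁻¹ * (c⁻¹ * (n * u * n⁻¹) * c) * (List.ofFn b).prod) * n := by
          rw [hab]; group
        _ = (π m)⁻¹ * u * π m := by rw [h2, e]; group
  have hc : a * l.prod⁻¹ ∈ Subgroup.centralizer X := Subgroup.mem_centralizer_iff.mpr fun x hx => by
    have h := hla x hx
    rw [inv_inv] at h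
    calc x * (a * l.prod⁻¹) = a * (a⁻¹ * x * a) * l.prod⁻¹ := by group
      _ = a * l.prod⁻¹ * x := by rw [h]; group
  refine ⟨a * l.prod⁻¹, hc, l.length, fun i => l[(i : ℕ)]'i.2, ?_, ?_, ?_⟩
  · exact fun i => Tech.Moves.mem l hl _ (List.getElem_mem i.2)
  · rw [show List.ofFn (fun i : Fin l.length => l[(i : ℕ)]'i.2) = l from List.ofFn_getElem]
    group
  · intro k _
    rw [show List.ofFn (fun i : Fin l.length => l[(i : ℕ)]'i.2) = l from List.ofFn_getElem]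
    rintro _ ⟨_, ⟨x, hx, rfl⟩, rfl⟩
    refine Tech.Moves.spec l hl k ⟨x, hx, ?_⟩
    have h2 : (a * l.prod⁻¹)⁻¹ * x * (a * l.prod⁻¹) = x := by
      rw [mul_assoc, Subgroup.mem_centralizer_iff.mp hc x hx, inv_mul_cancel_left]
    show ((l.take k).prod)⁻¹ * x * (l.take k).prod =
      ((l.take k).prod)⁻¹ * ((a * l.prod⁻¹)⁻¹ * x * (a * l.prod⁻¹)) * (l.take k).prod
    rw [h2]

end Cfsg.Agent.S2002
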