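import Cfsg.Statements.S2011
import Cfsg.Agent.Lib.Fusion.Group
import Cfsg.Agent.Lib.Components.PPrimeCore
import Cfsg.Agent.Lib.Basics.Tools

set_option autoImplicit false
open Cfsg
open scoped Pointwise

namespace Cfsg.Agent.S2011

/-- Let G be a finite group with Sylow p-subgroup P and Q ≤ P. Then Q is centric in the fusion system of G on P (C_P(R) ≤ R for every G-conjugate R of Q lying in P) if and only if C_G(Q) is the internal direct product of Z(Q) = Q ∩ C_G(Q) and the largest normal subgroup of C_G(Q) of order prime to p. -/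
theorem result {G : Type*} [Group G] [Finite G] (p : ℕ) [Fact p.Prime] (P : Sylow p G) (Q : Subgroup G) (hQ : Q ≤ P) : (Cfsg.groupFusionSystem (P : Subgroup G)).IsCentric Q ↔ Cfsg.IsInternalDirectProduct (Q ⊓ Subgroup.centralizer (Q : Set G)) ((Cfsg.pPrimeCore p ↥(Subgroup.centralizer (Q : Set G))).map (Subgroup.centralizer (Q : Set G)).subtype) (Subgroup.centralizer (Q : Set G)) := by
  set C := Subgroup.centralizer (Q : Set G) with hCdef
  set K := (Cfsg.pPrimeCore p ↥C).map C.subtype with hKdef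
  set Z := Q ⊓ C with hZdef
  have hQp : IsPGroup p Q := P.2.to_le hQ
  have hKcop : (Nat.card K).Coprime p := by
    rw [hKdef, Subgroup.card_map_of_injective C.subtype_injective]
    exact Components.pPrimeCore_coprime
  have hZK : Z ⊓ K = ⊥ := by
    rw [Subgroup.eq_bot_iff_forall]
    intro x hx
    obtain ⟨hxQ, hxK⟩ := Subgroup.mem_inf.mp hx
    obtain ⟨k, hk⟩ := hQp ⟨x, (Subgroup.mem_inf.mp hxQ).1⟩
    refine orderOf_eq_one_iff.mp (Nat.Coprime.eq_one_of_dvd ?_
      (orderOf_dvd_of_pow_eq_one (congrArg Subtype.val hk : x ^ p ^ k = 1)))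
    exact (Nat.Coprime.pow_right k hKcop).coprime_dvd_left
      (Nat.card_zpowers x ▸ Subgroup.card_dvd_of_le ((Subgroup.zpowers_le).mpr hxK))
  have hcomm : ∀ a ∈ Z, ∀ b ∈ C, a * b = b * a := fun a ha b hb =>
    Subgroup.mem_centralizer_iff.mp hb a (Subgroup.mem_inf.mp ha).1
  constructor
  · rintro ⟨-, hcen⟩
    have hel : ∀ c ∈ C, (∃ k, c ^ p ^ k = 1) → c ∈ Q := by
      intro c hc ⟨k, hk⟩
      have hcp : IsPGroup p (Subgroup.zpowers c) :=
        IsPGroup.of_card_dvd_pow (n := k)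
          ((Nat.card_zpowers c).symm ▸ orderOf_dvd_of_pow_eq_one hk)
      have hXp : IsPGroup p ↥(Q ⊔ Subgroup.zpowers c) :=
        hQp.to_sup_of_normal_left' hcp
          ((Subgroup.zpowers_le.mpr hc).trans (Subgroup.centralizer_le_normalizer _))
      obtain ⟨R, hR⟩ := hXp.exists_le_sylow
      obtain ⟨g, hg⟩ := MulAction.exists_smul_eq G R P
      have hmem : ∀ x ∈ Q ⊔ Subgroup.zpowers c, g * x * g⁻¹ ∈ (P : Subgroup G) := fun x hx => by
        rw [← hg, Sylow.coe_subgroup_smul]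
        exact Subgroup.smul_mem_pointwise_smul _ _ _ (hR hx)
      have hQR : Q.map (MulAut.conj g).toMonoidHom ≤ (P : Subgroup G) := by
        rintro _ ⟨x, hx, rfl⟩
        exact hmem x (Subgroup.mem_sup_left hx)
      have hin := hcen _ (Fusion.isConj_gfs_iff.mpr ⟨hQ, hQR, g, rfl⟩)
        (show g * c * g⁻¹ ∈ FusionSystem.centralizerIn (P : Subgroup G) (Q.map (MulAut.conj g).toMonoidHom) from
          Subgroup.mem_inf.mpr ⟨hmem c (Subgroup.mem_sup_right (Subgroup.mem_zpowers c)), by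
            refine Subgroup.mem_centralizer_iff.mpr ?_
            rintro _ ⟨x, hx, rfl⟩
            show g * x * g⁻¹ * (g * c * g⁻¹) = g * c * g⁻¹ * (g * x * g⁻¹)
            have := Subgroup.mem_centralizer_iff.mp hc x hx
            calc g * x * g⁻¹ * (g * c * g⁻¹) = g * (x * c) * g⁻¹ := by group
              _ = g * c * g⁻¹ * (g * x * g⁻¹) := by rw [this]; group⟩)
      obtain ⟨x, hx, e⟩ := hin
      have : x = c := (MulAut.conj g).injective e
      exact this ▸ hx
    obtain ⟨T⟩ : Nonempty (Sylow p C) := inferInstance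
    let Z' : Subgroup C := Z.subgroupOf C
    have hTZ : (T : Subgroup C) ≤ Z' := fun x hx => by
      obtain ⟨k, hk⟩ := T.2 ⟨x, hx⟩
      exact Subgroup.mem_subgroupOf.mpr (Subgroup.mem_inf.mpr
        ⟨hel x x.2 ⟨k, congrArg (fun z => ((Subtype.val z : C) : G)) hk⟩, x.2⟩)
    have hZ'p : IsPGroup p Z' :=
      (hQp.to_le (inf_le_left : Z ≤ Q)).of_equiv (Subgroup.subgroupOfEquivOfLe inf_le_right).symm
    have hidx : ¬ p ∣ Z'.index := fun hd =>
      T.not_dvd_index (hd.trans (Subgroup.index_dvd_of_le hTZ))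
    have hcent : ∀ z ∈ Z', ∀ b : C, z * b = b * z := fun z hz b =>
      Subtype.ext (hcomm z (Subgroup.mem_subgroupOf.mp hz) b b.2)
    haveI : Z'.Normal := ⟨fun z hz b => by rwa [← hcent z hz b, mul_inv_cancel_right]⟩
    obtain ⟨k, hk⟩ := IsPGroup.iff_card.mp hZ'p
    have hidx' : Z'.index.Coprime p := ((Nat.Prime.coprime_iff_not_dvd Fact.out).mpr hidx).symm
    obtain ⟨L, hL⟩ := Subgroup.exists_right_complement'_of_coprime (N := Z')
      (hk ▸ (hidx'.pow_right k).symm)
    haveI : L.Normal := ⟨fun l hl b => by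
      have hb : b ∈ ((Z' : Set C) * (L : Set C)) := by
        rw [hL.mul_eq]; trivial
      obtain ⟨z, hz, l', hl', rfl⟩ := Set.mem_mul.mp hb
      have h2 : z * l' * l * (z * l')⁻¹ = z * (l' * l * l'⁻¹) * z⁻¹ := by group
      rw [h2, hcent z hz, mul_inv_cancel_right]
      exact mul_mem (mul_mem hl' hl) (inv_mem hl')⟩
    have hLcore : L ≤ Cfsg.pPrimeCore p ↥C :=
      Components.le_pPrimeCore inferInstance (hL.symm.index_eq_card ▸ hidx')
    refine ⟨inf_le_right, Subgroup.map_subtype_le _,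
      fun a ha b hb => hcomm a ha b (Subgroup.map_subtype_le _ hb), hZK, ?_⟩
    refine le_antisymm (sup_le inf_le_right (Subgroup.map_subtype_le _)) fun c hc => ?_
    have hb : (⟨c, hc⟩ : C) ∈ ((Z' : Set C) * (L : Set C)) := by
      rw [hL.mul_eq]; trivial
    obtain ⟨z, hz, l, hl, e⟩ := Set.mem_mul.mp hb
    rw [show c = (z : G) * (l : G) from (congrArg Subtype.val e).symm]
    exact Subgroup.mul_mem_sup (Subgroup.mem_subgroupOf.mp hz) ⟨l, hLcore hl, rfl⟩
  · rintro ⟨-, hKC, hZKc, -, hsup⟩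
    refine ⟨hQ, fun R hR => ?_⟩
    obtain ⟨-, -, g, rfl⟩ := Fusion.isConj_gfs_iff.mp hR
    intro c hc
    obtain ⟨hcP, hcC⟩ := Subgroup.mem_inf.mp hc
    have hc' : g⁻¹ * c * g ∈ C := by
      refine Subgroup.mem_centralizer_iff.mpr fun x hx => ?_
      have h := Subgroup.mem_centralizer_iff.mp hcC (g * x * g⁻¹) ⟨x, hx, rfl⟩
      calc x * (g⁻¹ * c * g) = g⁻¹ * (g * x * g⁻¹ * c) * g := by group
        _ = g⁻¹ * c * g * x := by rw [h]; group
    have hc'' : g⁻¹ * c * g ∈ K ⊔ Z := by rw [sup_comm, hsup]; exact hc'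
    obtain ⟨z, hz, k, hk, e⟩ := (Basics.mem_sup_of_le_normalizer' (fun a ha =>
      Subgroup.mem_normalizer_iff.mpr fun b => ⟨fun hb => by rwa [hZKc a ha b hb, mul_inv_cancel_right],
        fun hb => by
          have h2 := hZKc a ha _ hb
          have : b = a * b * a⁻¹ := by
            have h3 : a * (a * b * a⁻¹) = a * b := by rw [h2]; group
            exact (mul_left_cancel h3).symm
          rwa [this]⟩)).mp hc''
    obtain ⟨n, hn⟩ := P.2 ⟨c, hcP⟩
    obtain ⟨m, hm⟩ := hQp ⟨z, (Subgroup.mem_inf.mp hz).1⟩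
    have hcn : c ^ p ^ (n + m) = 1 := by
      have hn' : c ^ p ^ n = 1 := congrArg Subtype.val hn
      rw [pow_add, pow_mul, hn', one_pow]
    have hzn : z ^ p ^ (n + m) = 1 := by
      have hm' : z ^ p ^ m = 1 := congrArg Subtype.val hm
      rw [pow_add, mul_comm, pow_mul, hm', one_pow]
    have hkn : k ^ p ^ (n + m) = 1 := by
      have hzk : Commute z k := hZKc z hz k hk
      have := congrArg (· ^ p ^ (n + m)) e.symm
      simp only [hzk.mul_pow, hzn, one_mul] at this
      rw [this, show g⁻¹ * c * g = g⁻¹ * c * g⁻¹⁻¹ by rw [inv_inv], conj_pow, hcn]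
      group
    have hk1 : k = 1 := by
      refine orderOf_eq_one_iff.mp (Nat.Coprime.eq_one_of_dvd ?_ (orderOf_dvd_of_pow_eq_one hkn))
      exact (Nat.Coprime.pow_right _ hKcop).coprime_dvd_left
        (Nat.card_zpowers k ▸ Subgroup.card_dvd_of_le ((Subgroup.zpowers_le).mpr hk))
    refine ⟨g⁻¹ * c * g, ?_, by show g * (g⁻¹ * c * g) * g⁻¹ = c; group⟩
    rw [e, hk1, mul_one]
    exact (Subgroup.mem_inf.mp hz).1

end Cfsg.Agent.S2011
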