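import Cfsg.Statements.S2012
import Cfsg.Agent.Lib.Tech.AlperinP

set_option autoImplicit false
open Cfsg

namespace Cfsg.Agent.S2012

/-- Alperin's fusion Theorem with the factors taken to be p-elements: let P be a Sylow p-subgroup of a finite group G, A a subset of P and g an element with g⁻¹Ag ⊆ P. Then g = x_1 ⋯ x_n where, for each i, Q_i is a Sylow p-subgroup with P ∩ Q_i a tame intersection (the normalizers in P and in Q_i of P ∩ Q_i are Sylow in N_G(P ∩ Q_i)), x_i normalizes P ∩ Q_i, x_i has p-power order unless Q_i = P, A ⊆ P ∩ Q_1, and (x_1 ⋯ x_i)⁻¹ A (x_1 ⋯ x_i) lies in P ∩ Q_{i+1} for i < n. -/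
theorem result {G : Type*} [Group G] [Finite G] {p : ℕ} [Fact p.Prime] (P : Sylow p G) (A : Set G) (g : G) (hA : A ⊆ (P : Set G)) (hAg : (fun a => g⁻¹ * a * g) '' A ⊆ (P : Set G)) : ∃ (n : ℕ) (Q : Fin n → Sylow p G) (x : Fin n → G), (List.ofFn x).prod = g ∧ (∀ i : Fin n, x i ∈ Subgroup.normalizer ((((P : Subgroup G) ⊓ (Q i : Subgroup G)) : Subgroup G) : Set G) ∧ ¬ p ∣ ((P : Subgroup G) ⊓ Subgroup.normalizer ((((P : Subgroup G) ⊓ (Q i : Subgroup G)) : Subgroup G) : Set G)).relIndex (Subgroup.normalizer ((((P : Subgroup G) ⊓ (Q i : Subgroup G)) : Subgroup G) : Set G)) ∧ ¬ p ∣ ((Q i : Subgroup G) ⊓ Subgroup.normalizer ((((P : Subgroup G) ⊓ (Q i : Subgroup G)) : Subgroup G) : Set G)).relIndex (Subgroup.normalizer ((((P : Subgroup G) ⊓ (Q i : Subgroup G)) : Subgroup G) : Set G)) ∧ ((Q i : Subgroup G) = (P : Subgroup G) ∨ ∃ k : ℕ, orderOf (x i) = p ^ k)) ∧ (∀ h : 0 < n, A ⊆ (((P : Subgroup G) ⊓ (Q ⟨0, h⟩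 : Subgroup G) : Subgroup G) : Set G)) ∧ ∀ i : Fin n, ∀ h : i.val + 1 < n, (fun a => (((List.ofFn x).take (i.val + 1)).prod)⁻¹ * a * ((List.ofFn x).take (i.val + 1)).prod) '' A ⊆ (((P : Subgroup G) ⊓ (Q ⟨i.val + 1, h⟩ : Subgroup G) : Subgroup G) : Set G) := by
  let D := (P : Subgroup G) ⊓ (P : Subgroup G).map (MulAut.conj g).toMonoidHom
  have hAD : A ⊆ (D : Set G) := fun a ha => Subgroup.mem_inf.mpr
    ⟨hA ha, ⟨g⁻¹ * a * g, hAg ⟨a, ha, rfl⟩, by simp [mul_assoc]⟩⟩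
  obtain ⟨l, hl, hc⟩ := (Tech.reach_of_conj_mem P _ D inf_le_left rfl g (fun a ha => by
    obtain ⟨c, hc, rfl⟩ := (Subgroup.mem_inf.mp ha).2
    have e : g⁻¹ * (g * c * g⁻¹) * g = c := by group
    exact e.symm ▸ hc)).mono hAD
  have hsp := Tech.Chain.spec P l hc
  have hof : List.ofFn (fun i : Fin l.length => (l[(i : ℕ)]'i.2).2) = l.map Prod.snd := by
    refine List.ext_getElem (by simp) fun i h1 h2 => by simp
  refine ⟨l.length, fun i => (l[(i : ℕ)]'i.2).1, fun i => (l[(i : ℕ)]'i.2).2, ?_, ?_, ?_, ?_⟩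
  · rw [hof, hl]
  · exact fun i => (hsp i i.2).1
  · intro h
    have := (hsp 0 h).2
    simpa [Tech.rconj_one] using this
  · intro i h
    rw [hof]
    exact (hsp (i.val + 1) h).2

end Cfsg.Agent.S2012
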