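import Cfsg.Statements.S2014
import Cfsg.Agent.Lib.Transfer.Residual
import Cfsg.Agent.Lib.LocalEvenA.Core

set_option autoImplicit false
open Cfsg

namespace Cfsg.Agent.S2014

/-- Let P be a Sylow p-subgroup of a finite group G and A, C ≤ P subgroups conjugate in G, with C extremal: N_P(C) is a Sylow p-subgroup of N_G(C). Then there is g with gAg⁻¹ = C and g N_P(A) g⁻¹ ≤ N_P(C); moreover, given any h with hAh⁻¹ = C, g can be chosen so that h g⁻¹ lies in O^p(N_G(C)), the subgroup of N_G(C) generated by its elements of order prime to p. -/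
theorem result {G : Type*} [Group G] [Finite G] (p : ℕ) [Fact p.Prime] (P : Sylow p G) (A C : Subgroup G) (hA : A ≤ P) (hC : C ≤ P) (hext : ¬ p ∣ ((P : Subgroup G) ⊓ Subgroup.normalizer ((C : Subgroup G) : Set G)).relIndex (Subgroup.normalizer ((C : Subgroup G) : Set G))) (h : G) (hh : A.map (MulAut.conj h).toMonoidHom = C) : ∃ g : G, A.map (MulAut.conj g).toMonoidHom = C ∧ ((P : Subgroup G) ⊓ Subgroup.normalizer ((A : Subgroup G) : Set G)).map (MulAut.conj g).toMonoidHom ≤ (P : Subgroup G) ⊓ Subgroup.normalizer ((C : Subgroup G) : Set G) ∧ h * g⁻¹ ∈ (Cfsg.pResidual p ↥(Subgroup.normalizer ((C : Subgroup G) : Set G))).map (Subgroup.normalizer ((C : Subgroup G) : Set G)).subtype := by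
  classical
  haveI hp : Fact p.Prime := inferInstance
  set N := Subgroup.normalizer ((C : Subgroup G) : Set G) with hN
  set S := (P : Subgroup G) ⊓ N with hS
  set R := ((P : Subgroup G) ⊓ Subgroup.normalizer ((A : Subgroup G) : Set G)).map
    (MulAut.conj h).toMonoidHom with hR
  have hRN : R ≤ N := by
    rintro _ ⟨y, hy, rfl⟩
    have h1 := Subgroup.mem_map_of_mem (MulAut.conj h).toMonoidHom hy.2
    have h2 := Subgroup.le_normalizer_map (MulAut.conj h).toMonoidHom h1
    rwa [hh] at h2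
  have hSp : IsPGroup p (S.subgroupOf N) :=
    (P.isPGroup'.to_le inf_le_left).comap_of_injective N.subtype N.subtype_injective
  let S' : Sylow p N := IsPGroup.toSylow hSp hext
  have hRp : IsPGroup p (R.subgroupOf N) :=
    ((P.isPGroup'.to_le inf_le_left).map _).comap_of_injective N.subtype N.subtype_injective
  obtain ⟨T, hT⟩ := hRp.exists_le_sylow
  obtain ⟨x, hx⟩ := MulAction.exists_smul_eq N T S'
  have hsup := Cfsg.Agent.Transfer.pResidual_sup_sylow S'
  haveI := Cfsg.Agent.LocalEvenA.pResidual_characteristic' p N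
  have hxm : x ∈ ((Cfsg.pResidual p N ⊔ (S' : Subgroup N) : Subgroup N) : Set N) := by
    rw [hsup]; trivial
  rw [sup_comm, Subgroup.mul_normal] at hxm
  obtain ⟨s, hs, k, hk, rfl⟩ := hxm
  have hkey : ∀ r ∈ R, (k : G) * r * (k : G)⁻¹ ∈ S := by
    intro r hr
    have h1 : (⟨r, hRN hr⟩ : N) ∈ (T : Subgroup N) := hT hr
    have h2 : (s * k) * ⟨r, hRN hr⟩ * (s * k)⁻¹ ∈ (S' : Subgroup N) := by
      rw [← hx]
      exact ⟨_, h1, rfl⟩
    have h3 := (S' : Subgroup N).mul_mem ((S' : Subgroup N).mul_mem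
      ((S' : Subgroup N).inv_mem hs) h2) hs
    have h4 : k * ⟨r, hRN hr⟩ * k⁻¹ ∈ (S' : Subgroup N) := by
      have e : s⁻¹ * (s * k * ⟨r, hRN hr⟩ * (s * k)⁻¹) * s = k * ⟨r, hRN hr⟩ * k⁻¹ := by group
      rwa [e] at h3
    exact h4
  have hkC : C.map (MulAut.conj (k : G)).toMonoidHom = C :=
    Subgroup.mem_normalizer_iff_map_conj_eq.mp k.2
  have hcomp : (MulAut.conj ((k : G) * h)).toMonoidHom =
      (MulAut.conj (k : G)).toMonoidHom.comp (MulAut.conj h).toMonoidHom := by
    ext y; simp [mul_assoc]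
  refine ⟨(k : G) * h, ?_, ?_, ?_⟩
  · rw [hcomp, ← Subgroup.map_map, hh, hkC]
  · rw [hcomp, ← Subgroup.map_map, ← hR]
    rintro _ ⟨r, hr, rfl⟩
    exact hkey r hr
  · refine ⟨k⁻¹, Subgroup.inv_mem _ hk, ?_⟩
    simp

end Cfsg.Agent.S2014
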