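import Cfsg.Statements.S2066
import Cfsg.Agent.Lib.Icosian.Outer

set_option autoImplicit false
open Cfsg

namespace Cfsg.Agent.S2066

/-- The outer automorphism group of the Hall–Janko group J₂ (the icosian reflection group modulo its centre) has order 2. -/
theorem result : Nat.card (Cfsg.Out Cfsg.Spor.J2) = 2 := by
  let e := Cfsg.Agent.Icosian.j2Equiv
  have hA : Nat.card (MulAut Cfsg.Spor.J2) = 1209600 := by
    rw [Nat.card_congr (MulAut.congr e).toEquiv]
    exact Cfsg.Agent.Icosian.Outer.card_mulAut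
  have hinj : Function.Injective (MulAut.conj : Cfsg.Spor.J2 →* MulAut Cfsg.Spor.J2) := by
    rw [injective_iff_map_eq_one]
    intro g hg
    apply e.injective
    rw [map_one]
    apply Subtype.ext
    refine Cfsg.Agent.Icosian.eq_one_of_commute fun r hr => ?_
    obtain ⟨x, hx⟩ := e.surjective ⟨r, hr⟩
    have h1 : g * x * g⁻¹ = x := congrArg (fun a : MulAut Cfsg.Spor.J2 => a x) hg
    have h2 := congrArg (fun y => ((e y : Cfsg.Agent.Icosian.rho.range) : Equiv.Perm (Fin 315)))
      (mul_inv_eq_iff_eq_mul.1 h1)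
    simp only [map_mul, Subgroup.coe_mul, hx] at h2
    exact h2.symm
  have hI : Nat.card (Cfsg.Inn Cfsg.Spor.J2) = 604800 := by
    show Nat.card (MulAut.conj : Cfsg.Spor.J2 →* MulAut Cfsg.Spor.J2).range = 604800
    rw [← Nat.card_congr (MonoidHom.ofInjective hinj).toEquiv, Nat.card_congr e.toEquiv]
    exact Cfsg.Agent.Icosian.card_range_rho
  have h := (Cfsg.Inn Cfsg.Spor.J2).index_mul_card
  rw [Subgroup.index_eq_card, hI, hA] at h
  show Nat.card (MulAut Cfsg.Spor.J2 ⧸ Cfsg.Inn Cfsg.Spor.J2) = 2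
  exact Nat.eq_of_mul_eq_mul_right (m := 604800) (by norm_num) (h.trans (by norm_num))

end Cfsg.Agent.S2066
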