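import Cfsg.Statements.S2069
import Cfsg.Agent.Lib.LeechCount.Co1Out.Main

set_option autoImplicit false
open Cfsg

namespace Cfsg.Agent.S2069

/-- The outer automorphism group of the Conway group Co₁ (the automorphism group of the rank-24 lattice modulo its centre) is trivial: every automorphism is inner. -/
theorem result : Nat.card (Cfsg.Out Cfsg.Spor.Co1) = 1 := by
  exact Agent.LeechCount.Co1Out.card_out

end Cfsg.Agent.S2069
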