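import Cfsg.Statements.S3958
import Cfsg.Agent.Lib.SchurMult.Cover

set_option autoImplicit false
universe u v
open Cfsg

namespace Cfsg.Agent.S3958

/-- Let `σ : Γ →* Q` be a finite stem extension of the finite group `Q` with `Γ` of trivial Schur multiplier. Then `σ` is a Schur covering group of `Q`: for every finite stem extension `τ : Δ →* Q` with `Δ` in the same universe as `Q`, the kernel of `τ` is a homomorphic image of the kernel of `σ`. -/
theorem result {Q : Type u} [Group Q] [Finite Q] {Γ : Type v} [Group Γ] [Finite Γ] (σ : Γ →* Q) (hσ : Cfsg.IsStemExtension σ) (hΓ : Cfsg.HasCyclicSchurMultiplier Γ 1) (Δ : Type u) [Group Δ] [Finite Δ] (τ : Δ →* Q) (hτ : Cfsg.IsStemExtension τ) : ∃ π : σ.ker →* τ.ker, Function.Surjective π := by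
  obtain ⟨β, hβ⟩ := Agent.SchurMult.exists_lift_id σ hσ.1 hσ.2.1
  have hker : β.ker ≤ (Agent.SchurMult.cov Q).ker := fun x hx => by
    rw [MonoidHom.mem_ker, ← hβ, MonoidHom.comp_apply, MonoidHom.mem_ker.mp hx, map_one]
  have hc := hker.trans (Agent.SchurMult.cov_ker_le_center Q)
  obtain ⟨g, hg⟩ := Agent.SchurMult.exists_lift_id β (Agent.SchurMult.stem_surjective hσ hβ) hc
  have h0 := Agent.SchurMult.map_mult hc hg
  rw [Agent.SchurMult.hasCyclicSchurMultiplier_one_iff.mp hΓ, Subgroup.map_bot, eq_comm,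
    Subgroup.eq_bot_iff_forall] at h0
  refine Agent.SchurMult.exists_surjection_of_injective hσ hβ
    ((injective_iff_map_eq_one _).mpr fun x hx => Subtype.ext (h0 x ⟨congrArg Subtype.val hx, x.2.2⟩)) hτ

end Cfsg.Agent.S3958
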