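import Cfsg.Statements.S2087
import Cfsg.Agent.S2117
import Cfsg.Agent.S3958
import Cfsg.Agent.Lib.PermGp.CleanEight

set_option autoImplicit false
open Cfsg

namespace Cfsg.Agent.S2087

/-- Exceptional Schur multiplier: over the field with 2 elements, PSL₃ has Schur multiplier cyclic of order 2 (here the Schur multiplier is described through stem extensions, as in the definitions). -/
theorem result {F : Type*} [Field F] [Fintype F] (hF : Fintype.card F = 2) : Cfsg.HasCyclicSchurMultiplier (Matrix.ProjectiveSpecialLinearGroup (Fin 3) F) 2 := by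
  classical
  haveI : Fact (Nat.Prime 7) := ⟨by norm_num⟩
  have hcardF : Nat.card F = 2 := by rw [Nat.card_eq_fintype_card, hF]
  haveI : IsSimpleGroup (Matrix.ProjectiveSpecialLinearGroup (Fin 3) F) := LinGrp.isSimpleGroup_PSL (by simp)
  haveI : IsSimpleGroup (Matrix.ProjectiveSpecialLinearGroup (Fin 2) (ZMod 7)) :=
    Matrix.ProjectiveSpecialLinearGroup.rank_two_simple (by rw [Nat.card_zmod]; norm_num)
  have h168 : Nat.card (Matrix.ProjectiveSpecialLinearGroup (Fin 3) F) = 168 := by
    have h1 := LinGrp.natCard_SL_mul (F := F) 3 (by norm_num)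
    have h2 := LinGrp.natCard_PSL_mul (n := Fin 3) (F := F)
    rw [hF, Fin.prod_univ_three] at h1
    rw [hcardF, Fintype.card_fin, show Nat.gcd 3 (2 - 1) = 1 from rfl, one_mul] at h2
    rw [h2]
    simpa using h1
  have h168' : Nat.card (Matrix.ProjectiveSpecialLinearGroup (Fin 2) (ZMod 7)) = 168 := by
    have h1 := LinGrp.natCard_SL_mul (F := ZMod 7) 2 (by norm_num)
    have h2 := LinGrp.natCard_PSL_mul (n := Fin 2) (F := ZMod 7)
    rw [ZMod.card, Fin.prod_univ_two] at h1
    rw [Nat.card_zmod, Fintype.card_fin, show Nat.gcd 2 (7 - 1) = 2 from rfl] at h2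
    simp only [Fin.val_zero, Fin.val_one, pow_zero, pow_one] at h1
    omega
  obtain ⟨e1⟩ := PermGp.nonempty_equiv_GL32 h168
  obtain ⟨e2⟩ := PermGp.nonempty_equiv_GL32 h168'
  let σ : Matrix.SpecialLinearGroup (Fin 2) (ZMod 7) →* Matrix.ProjectiveSpecialLinearGroup (Fin 3) F :=
    ((e2.trans e1.symm).toMonoidHom).comp (QuotientGroup.mk' _)
  have hker : σ.ker = Subgroup.center (Matrix.SpecialLinearGroup (Fin 2) (ZMod 7)) := by
    ext x
    rw [MonoidHom.mem_ker, MonoidHom.comp_apply, MulEquiv.coe_toMonoidHom, MulEquiv.map_eq_one_iff,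
      QuotientGroup.mk'_apply, QuotientGroup.eq_one_iff]
  have hσ : Cfsg.IsStemExtension σ := by
    refine ⟨(e2.trans e1.symm).surjective.comp (QuotientGroup.mk'_surjective _), hker.le, ?_⟩
    intro x _
    rw [Matrix.SL2.commutator_eq_top (F := ZMod 7) (a := 2) (by decide +revert) (by decide +revert)]
    exact Subgroup.mem_top x
  have hk2 : Nat.card σ.ker = 2 := by
    rw [hker, LinGrp.natCard_center_SL, Fintype.card_fin, Nat.card_zmod]
    rfl
  have e : σ.ker ≃* Multiplicative (ZMod 2) := by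
    haveI : Fact (Nat.Prime 2) := ⟨Nat.prime_two⟩
    exact mulEquivOfPrimeCardEq hk2 (by simp)
  let u : ULift (Matrix.SpecialLinearGroup (Fin 2) (ZMod 7)) →* Matrix.SpecialLinearGroup (Fin 2) (ZMod 7) :=
    MulEquiv.ulift.toMonoidHom
  refine ⟨⟨ULift (Matrix.SpecialLinearGroup (Fin 2) (ZMod 7)), inferInstance, inferInstance, σ.comp u, ?_, ?_⟩, ?_⟩
  · refine ⟨hσ.1.comp MulEquiv.ulift.surjective, ?_, ?_⟩
    · intro x hx
      rw [Subgroup.mem_center_iff]
      intro y
      exact MulEquiv.ulift.injective (Subgroup.mem_center_iff.1 (hσ.2.1 hx) y.down)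
    · intro x hx
      have h : commutator (ULift (Matrix.SpecialLinearGroup (Fin 2) (ZMod 7))) =
          (commutator (Matrix.SpecialLinearGroup (Fin 2) (ZMod 7))).map MulEquiv.ulift.symm.toMonoidHom := by
        simp only [commutator, Subgroup.map_commutator]
        rw [Subgroup.map_top_of_surjective _ MulEquiv.ulift.symm.surjective]
      rw [h]
      exact ⟨u x, hσ.2.2 hx, MulEquiv.ulift.symm_apply_apply x⟩
  · refine ⟨MulEquiv.trans ?_ e⟩
    exact
      { toFun := fun x => ⟨u x, x.2⟩
        invFun := fun x => ⟨⟨x.1⟩, x.2⟩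
        left_inv := fun _ => rfl
        right_inv := fun _ => rfl
        map_mul' := fun _ _ => rfl }
  · intro Δ _ _ τ hτ
    obtain ⟨π, hπ⟩ := Cfsg.Agent.S3958.result σ hσ (Cfsg.Agent.S2117.result (by rw [ZMod.card]; norm_num)
      (by rw [ZMod.card]; norm_num)) Δ τ hτ
    exact ⟨π.comp e.symm.toMonoidHom, hπ.comp e.symm.surjective⟩

end Cfsg.Agent.S2087
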