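import Cfsg.Statements.S2093
import Cfsg.Agent.Lib.ExtCert.SpSixMult
-- import your own Cfsg.Agent.* helpers here

set_option autoImplicit false
open Cfsg

namespace Cfsg.Agent.S2093

theorem map_mem_sp {F F' : Type*} [Field F] [Field F'] (φ : F ≃+* F')
    (A : Matrix (Fin 3 ⊕ Fin 3) (Fin 3 ⊕ Fin 3) F) (hA : A ∈ Matrix.symplecticGroup (Fin 3) F) :
    A.map φ ∈ Matrix.symplecticGroup (Fin 3) F' := by
  rw [SymplecticGroup.mem_iff] at hA ⊢
  have hJ : (Matrix.J (Fin 3) F).map φ = Matrix.J (Fin 3) F' := by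
    ext a b; cases a <;> cases b <;> simp [Matrix.J, Matrix.one_apply, apply_ite φ]
  have h := congrArg (fun M : Matrix (Fin 3 ⊕ Fin 3) (Fin 3 ⊕ Fin 3) F => M.map φ) hA
  rw [← hJ, ← Matrix.transpose_map]
  simpa only [Matrix.map_mul] using h

/-- Change of field in the symplectic group. -/
def spMap {F F' : Type*} [Field F] [Field F'] (φ : F ≃+* F') :
    Matrix.symplecticGroup (Fin 3) F ≃* Matrix.symplecticGroup (Fin 3) F' where
  toFun A := ⟨A.1.map φ, map_mem_sp φ A.1 A.2⟩
  invFun A := ⟨A.1.map φ.symm, map_mem_sp φ.symm A.1 A.2⟩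
  left_inv A := Subtype.ext (by ext a b; simp)
  right_inv A := Subtype.ext (by ext a b; simp)
  map_mul' A B := Subtype.ext Matrix.map_mul


/-- Exceptional Schur multiplier: over the field with 2 elements, PSp₆ has Schur multiplier cyclic of order 2 (here the Schur multiplier is described through stem extensions, as in the definitions). -/
theorem result {F : Type*} [Field F] [Fintype F] (hF : Fintype.card F = 2) : Cfsg.HasCyclicSchurMultiplier (Cfsg.PSp 3 F) 2 := by
  haveI : Fact (Nat.Prime 2) := ⟨Nat.prime_two⟩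
  let φ : F ≃+* ZMod 2 := (ZMod.ringEquivOfPrime F Nat.prime_two hF).symm
  have hc : Subgroup.center (Matrix.symplecticGroup (Fin 3) F) = ⊥ := by
    rw [Subgroup.eq_bot_iff_forall]
    intro x hx
    have hx' : (Cfsg.Agent.FormsLib.spEquiv 3 F) x ∈
        Subgroup.center (Cfsg.Agent.FormsLib.SpIso 3 F) := by
      rw [Subgroup.mem_center_iff]
      intro g
      obtain ⟨y, rfl⟩ := (Cfsg.Agent.FormsLib.spEquiv 3 F).surjective g
      rw [← map_mul, ← map_mul, Subgroup.mem_center_iff.1 hx y]
    have h2 : (-1 : F) = 1 := φ.injective (by rw [map_neg, map_one]; rfl)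
    have hn : (Cfsg.Agent.FormsLib.spNeg : Cfsg.Agent.FormsLib.SpIso 3 F) = 1 :=
      Subtype.ext (LinearEquiv.ext fun v => by
        show -v = v
        rw [← neg_one_smul F v, h2, one_smul])
    rw [Cfsg.Agent.FormsLib.center_spIso, hn, Subgroup.zpowers_one_eq_bot, Subgroup.mem_bot] at hx'
    exact (MulEquiv.map_eq_one_iff _).1 hx'
  exact ExtCert.SpSix.hasMultiplier_two
    (((QuotientGroup.quotientMulEquivOfEq hc).trans QuotientGroup.quotientBot).trans
      ((spMap φ).trans (Cfsg.Agent.FormsLib.spEquiv 3 (ZMod 2))))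

end Cfsg.Agent.S2093
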