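import Cfsg.Statements.S2098
import Cfsg.Agent.Lib.SchurOEight.Main
import Cfsg.Agent.Lib.F2Perm.Basic
-- import your own Cfsg.Agent.* helpers here

set_option autoImplicit false
open Cfsg

namespace Cfsg.Agent.S2098

/-- Exceptional Schur multiplier: over the field with 2 elements, PΩ⁺₈ (for the form Σ xᵢyᵢ) has Schur multiplier a four-group, the product of two cyclic groups of order 2 (here the Schur multiplier is described through stem extensions, as in the definitions). -/
theorem result {F : Type*} [Field F] [Fintype F] (hF : Fintype.card F = 2) : Cfsg.HasSchurMultiplier (Cfsg.POmega F (Cfsg.quadFormPlus 4 F)) (Multiplicative (ZMod 2 × ZMod 2)) := by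
  classical
  haveI : Fact (Nat.Prime 2) := ⟨Nat.prime_two⟩
  let e : ZMod 2 ≃+* F := ZMod.ringEquivOfPrime F Nat.prime_two hF
  obtain ⟨φ⟩ := F2Perm.isometryGroup_congr (Q := Cfsg.quadFormPlus 4 (ZMod 2)) e (Cfsg.quadFormPlus 4 F)
    (fun v => by simp only [Cfsg.quadFormPlus, map_sum, map_mul])
  have h : (Cfsg.Omega (ZMod 2) (Cfsg.quadFormPlus 4 (ZMod 2))).map φ.toMonoidHom =
      Cfsg.Omega F (Cfsg.quadFormPlus 4 F) := by
    show (commutator (Cfsg.isometryGroup (ZMod 2) (Cfsg.quadFormPlus 4 (ZMod 2)))).map φ.toMonoidHom =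
      commutator (Cfsg.isometryGroup F (Cfsg.quadFormPlus 4 F))
    rw [commutator_def, commutator_def, Subgroup.map_commutator]
    exact congrArg₂ _ (Subgroup.map_top_of_surjective _ φ.surjective)
      (Subgroup.map_top_of_surjective _ φ.surjective)
  let ψ := ((Cfsg.Omega (ZMod 2) (Cfsg.quadFormPlus 4 (ZMod 2))).equivMapOfInjective _ φ.injective).trans
    (MulEquiv.subgroupCongr h)
  refine Cfsg.Agent.SchurOEight.main (QuotientGroup.congr _ _ ψ ?_)
  ext z
  constructor
  · rintro ⟨w, hw, rfl⟩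
    exact (Subgroup.centerCongr ψ ⟨w, hw⟩).2
  · exact fun hz => ⟨ψ.symm z, ((Subgroup.centerCongr ψ).symm ⟨z, hz⟩).2, ψ.apply_symm_apply z⟩

end Cfsg.Agent.S2098
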