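import Cfsg.Statements.S2100
import Cfsg.Agent.Lib.CurtisTits.SchurLift
import Cfsg.Agent.S1078

set_option autoImplicit false
open Cfsg
open Cfsg.Agent.Chev.CT

namespace Cfsg.Agent.S2100

/-- Schur multipliers of the Chevalley groups of type G₂: over a field with q ≥ 5 elements the Schur multiplier of G₂(q) is trivial (here the Schur multiplier is described through stem extensions, as in the definitions); the cases q = 3 and q = 4 are exceptional and q = 2 gives a non-simple group. -/
theorem result {F : Type*} [Field F] [Fintype F] (hF : 5 ≤ Fintype.card F) : Cfsg.HasCyclicSchurMultiplier ↥(Cfsg.Lie.chevG2.group F) 1 := by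
  classical
  have h : Full Cfsg.Lie.chevG2 Cfsg.Agent.Chev.G2.pk :=
    ⟨Cfsg.Agent.Chev.G2.ok, Cfsg.Agent.Chev.ckComm_G2, UpG2.up_ok, UpG2.eta_sim⟩
  have h5 : ∃ s : Finset F, 4 < s.card := ⟨Finset.univ, by rw [Finset.card_univ]; omega⟩
  have hperf : commutator (Cfsg.Lie.chevG2.SteinbergCover F) = ⊤ :=
    perfect_of_check (cov_Sc h) Perf.okG2 (fun _ => exists_ne01_of_big h5)
  refine schur_chev h hperf (lift_big h ckGen_G2 hperf h5) (Or.inl rfl) ?_
  rw [center_eq_bot h Cfsg.Agent.S1078.g2_d Cfsg.Agent.Chev.G2.cinv Cfsg.Agent.S1078.g2_inv]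
  exact Nat.card_unique

end Cfsg.Agent.S2100
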