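import Cfsg.Statements.S2101
import Cfsg.Agent.Lib.StemCert.G2ThreeCover

set_option autoImplicit false
open Cfsg

namespace Cfsg.Agent.S2101

open Cfsg.Agent.StemCert Cfsg.Agent.StemCert.G2Three

/-- Exceptional Schur multiplier: over the field with 3 elements the Chevalley group of type G₂ has Schur multiplier cyclic of order 3 (here the Schur multiplier is described through stem extensions, as in the definitions). -/
theorem result {F : Type*} [Field F] [Fintype F] (hF : Fintype.card F = 3) : Cfsg.HasCyclicSchurMultiplier ↥(Cfsg.Lie.chevG2.group F) 3 := by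
  haveI : Fact (Nat.Prime 3) := ⟨Nat.prime_three⟩
  haveI := Cover.finite_group hF
  refine ⟨⟨Cor.Ext (Cover.datum hF), inferInstance, inferInstance, _, Cover.stem hF,
    ⟨mulEquivOfPrimeCardEq (p := 3) (Cor.card_ker _) (by simp)⟩⟩, ?_⟩
  intro Γ _ _ σ hσ
  obtain ⟨hs, hc, hd⟩ := hσ
  rcases card_ker hF σ hs hc hd with h | h
  · haveI := (Nat.card_eq_one_iff_unique.1 h).1
    exact ⟨1, fun x => ⟨1, Subsingleton.elim _ _⟩⟩
  · have e : Multiplicative (ZMod 3) ≃* σ.ker := mulEquivOfPrimeCardEq (p := 3) (by simp) h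
    exact ⟨e.toMonoidHom, e.surjective⟩

end Cfsg.Agent.S2101
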