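import Cfsg.Statements.S2102
import Cfsg.Agent.Lib.G2Four.Upper
import Cfsg.Agent.Lib.G2Four.Cover

set_option autoImplicit false
open Cfsg

namespace Cfsg.Agent.S2102

open Cfsg.Agent.G2Four

/-- Exceptional Schur multiplier: over the field with 4 elements the Chevalley group of type G₂ has Schur multiplier cyclic of order 2 (here the Schur multiplier is described through stem extensions, as in the definitions). -/
theorem result {F : Type*} [Field F] [Fintype F] (hF : Fintype.card F = 4) : Cfsg.HasCyclicSchurMultiplier ↥(Cfsg.Lie.chevG2.group F) 2 := by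
  classical
  haveI : Fact (Nat.Prime 2) := ⟨Nat.prime_two⟩
  haveI : CharP F 2 := charP_of_card_eq_prime_pow (f := 2) (by rw [hF]; norm_num)
  obtain ⟨ω, hω⟩ : ∃ ω : F, ω ^ 2 + ω + 1 = 0 := by
    obtain ⟨x, hx0, hx1⟩ : ∃ x : F, x ≠ 0 ∧ x ≠ 1 := by
      obtain ⟨x, hx⟩ := Finset.card_pos.1 (show 0 < ((Finset.univ.erase (0 : F)).erase 1).card by
        rw [Finset.card_erase_of_mem (by simp), Finset.card_erase_of_mem (by simp), Finset.card_univ, hF]
        norm_num)
      simp only [Finset.mem_erase, Finset.mem_univ, and_true] at hx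
      exact ⟨x, hx.2, hx.1⟩
    have h3 : x ^ 3 = 1 := by
      have := FiniteField.pow_card_sub_one_eq_one x hx0
      rwa [hF] at this
    refine ⟨x, (mul_eq_zero.1 ?_).resolve_left (sub_ne_zero.2 hx1)⟩
    linear_combination h3
  obtain ⟨e⟩ := pairG_equiv (F := F)
  have hcard : Nat.card (PG F) = 251596800 := by
    rw [Nat.card_congr e.toEquiv, S1059.result hF]
    norm_num
  haveI : Finite (PG F) := Nat.finite_of_card_ne_zero (by rw [hcard]; norm_num)
  refine ⟨?_, ?_⟩
  · obtain ⟨σ, ⟨hs, hc, hm⟩, ⟨i⟩⟩ := exists_cover hω hF hcard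
    have hk : (e.toMonoidHom.comp σ).ker = σ.ker := MonoidHom.ker_mulEquiv_comp σ e
    exact ⟨↥(Cov ω), inferInstance, inferInstance, e.toMonoidHom.comp σ,
      ⟨e.surjective.comp hs, hk.trans_le hc, hk.trans_le hm⟩,
      ⟨(MulEquiv.subgroupCongr hk).trans i⟩⟩
  · intro Γ _ _ σ hσ
    obtain ⟨hs, hc, hm⟩ := hσ
    have hk : (e.symm.toMonoidHom.comp σ).ker = σ.ker := MonoidHom.ker_mulEquiv_comp σ e.symm
    obtain ⟨z, hz2, hz1, hle⟩ := stem_ker_le (σ := e.symm.toMonoidHom.comp σ) hF hω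
      (e.symm.surjective.comp hs) (hk.trans_le hc) (hk.trans_le hm) hcard
    rw [hk] at hle
    have hzk : z ∈ σ.ker := hk ▸ hz1
    let z' : σ.ker := ⟨z, hzk⟩
    let π : Multiplicative (ZMod 2) →* σ.ker :=
      (ZMod.lift 2 ⟨(zmultiplesHom (Additive σ.ker) (Additive.ofMul z')), by
        apply Additive.toMul.injective
        exact Subtype.ext (show z ^ (2 : ℤ) = 1 by rw [zpow_two, hz2])⟩).toMultiplicativeLeft
    refine ⟨π, fun x => ?_⟩
    obtain ⟨n, hn⟩ := Subgroup.mem_zpowers_iff.1 (hle x.2)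
    refine ⟨Multiplicative.ofAdd (n : ZMod 2), Subtype.ext ?_⟩
    simp [π, z', hn]

end Cfsg.Agent.S2102
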