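import Cfsg.Statements.S2103
import Cfsg.Agent.Lib.CurtisTits.UniF4
import Cfsg.Agent.S1078

set_option autoImplicit false
open Cfsg
open Cfsg.Agent.Chev.CT

namespace Cfsg.Agent.S2103

/-- Schur multipliers of the Chevalley groups of type F₄: over a finite field with more than 2 elements the Schur multiplier of F₄(q) is trivial (here the Schur multiplier is described through stem extensions, as in the definitions); q = 2 is exceptional. -/
theorem result {F : Type*} [Field F] [Fintype F] (hF : 3 ≤ Fintype.card F) : Cfsg.HasCyclicSchurMultiplier ↥(Cfsg.Lie.chevF4.group F) 1 := by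
  classical
  have h : Full Cfsg.Lie.chevF4 Cfsg.Agent.Chev.F4.pk :=
    ⟨Cfsg.Agent.Chev.F4.ok, Cfsg.Agent.Chev.ckComm_F4, UpF4.up_ok, UpF4.eta_sim⟩
  have hperf : commutator (Cfsg.Lie.chevF4.SteinbergCover F) = ⊤ :=
    perfect_of_check (cov_Sc h) Perf.okF4 (fun e => absurd e (by simp))
  refine schur_chev h hperf (lift_F4 hF h hperf) (Or.inl rfl) ?_
  rw [center_eq_bot h Cfsg.Agent.S1078.f4_d Cfsg.Agent.Chev.F4.cinv Cfsg.Agent.S1078.f4_inv]
  exact Nat.card_unique

end Cfsg.Agent.S2103
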