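import Cfsg.Statements.S2106
import Cfsg.Agent.Lib.CurtisTits.SchurLift
import Cfsg.Agent.Lib.CurtisTits.UniCheckE7
import Cfsg.Agent.Lib.CurtisTits.MinRep
import Cfsg.Agent.Lib.CurtisTits.MinCheckE7

set_option autoImplicit false
open Cfsg
open Cfsg.Agent.Chev.CT

namespace Cfsg.Agent.S2106

/-- Schur multipliers of the (adjoint, simple) Chevalley groups of type E₇: over a field with q elements the Schur multiplier is cyclic of order gcd(2, q − 1) (here the Schur multiplier is described through stem extensions, as in the definitions). -/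
theorem result {F : Type*} [Field F] [Fintype F] {q : ℕ} (hF : Fintype.card F = q) : Cfsg.HasCyclicSchurMultiplier ↥(Cfsg.Lie.chevE7.group F) (Nat.gcd 2 (q - 1)) := by
  classical
  subst hF
  have h : Full Cfsg.Lie.chevE7 Cfsg.Agent.Chev.E7.pk :=
    ⟨Cfsg.Agent.Chev.E7.ok, Cfsg.Agent.Chev.ckComm_E7, UpE7.up_ok, UpE7.eta_sim⟩
  have hperf : commutator (Cfsg.Lie.chevE7.SteinbergCover F) = ⊤ :=
    perfect_of_check (cov_Sc h) Perf.okE7 (fun e => absurd e (by simp))
  refine schur_chev h hperf (lift_simplyLaced h hperf (orth := false) (fun e => absurd e (by simp))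
    UniE7.uni_ok UniE7.link_ok) ?_ ?_
  · rcases (Nat.dvd_prime (by norm_num : Nat.Prime 2)).1 (Nat.gcd_dvd_left 2 (Fintype.card F - 1)) with e | e
    · exact Or.inl e
    · exact Or.inr (by rw [e]; norm_num)
  · rw [← Fintype.card_units, ← Nat.card_eq_fintype_card]
    exact card_center h ⟨MinE7.rootOk, MinE7.torOk⟩ MinE7.wtOk rfl MinE7.zOk

end Cfsg.Agent.S2106
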