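import Cfsg.Statements.S2107
import Cfsg.Agent.Lib.CurtisTits.SchurLift
import Cfsg.Agent.Lib.CurtisTits.UniCheckE8
import Cfsg.Agent.S1078

set_option autoImplicit false
open Cfsg
open Cfsg.Agent.Chev.CT

namespace Cfsg.Agent.S2107

/-- Schur multipliers of the Chevalley groups of type E₈: over every finite field the Schur multiplier of E₈(q) is trivial (here the Schur multiplier is described through stem extensions, as in the definitions). -/
theorem result {F : Type*} [Field F] [Fintype F] : Cfsg.HasCyclicSchurMultiplier ↥(Cfsg.Lie.chevE8.group F) 1 := by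
  classical
  have h : Full Cfsg.Lie.chevE8 Cfsg.Agent.Chev.E8.pk :=
    ⟨Cfsg.Agent.Chev.E8.ok, Cfsg.Agent.Chev.ckComm_E8, UpE8.up_ok, UpE8.eta_sim⟩
  have hperf : commutator (Cfsg.Lie.chevE8.SteinbergCover F) = ⊤ :=
    perfect_of_check (cov_Sc h) Perf.okE8 (fun e => absurd e (by simp))
  refine schur_chev h hperf (lift_simplyLaced h hperf (orth := false) (fun e => absurd e (by simp))
    UniE8.uni_ok UniE8.link_ok) (Or.inl rfl) ?_
  rw [center_eq_bot h Cfsg.Agent.S1078.e8_d Cfsg.Agent.Chev.E8.cinv Cfsg.Agent.S1078.e8_inv]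
  exact Nat.card_unique

end Cfsg.Agent.S2107
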