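import Cfsg.Statements.S2112
import Cfsg.Agent.Lib.SchurSzEight.Bound
-- import your own Cfsg.Agent.* helpers here

set_option autoImplicit false
open Cfsg

namespace Cfsg.Agent.S2112

/-- Exceptional Schur multiplier: the Suzuki group Sz(8), built over the field with 8 elements using the map x ↦ x⁴, has Schur multiplier a four-group, the product of two cyclic groups of order 2 (here the Schur multiplier is described through stem extensions, as in the definitions). -/
theorem result {F : Type*} [Field F] [Fintype F] (hF : Fintype.card F = 8) : Cfsg.HasSchurMultiplier ↥(Cfsg.Lie.Sz F 4) (Multiplicative (ZMod 2 × ZMod 2)) := by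
  obtain ⟨D⟩ := Cfsg.Agent.Suzuki.exists_dat (m := 1) le_rfl (by rw [hF]; norm_num)
  open Cfsg.Agent.SchurSzEight in
  have hcard : Nat.card (V F) = 4 := by
    have h := AddSubgroup.card_mul_index (unitLine F)
    have h2 : Nat.card (unitLine F) = 2 := by
      rw [Nat.card_zmultiples]
      haveI := D.char2
      exact addOrderOf_eq_prime (by rw [two_nsmul, D.add_self]) one_ne_zero
    rw [h2, Nat.card_eq_fintype_card (α := F), hF, AddSubgroup.index_eq_card] at h
    exact Nat.eq_of_mul_eq_mul_left (n := 2) (by norm_num) h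
  haveI : IsAddKleinFour (Cfsg.Agent.SchurSzEight.V F) :=
    ⟨hcard, by
      refine ((Nat.prime_two.eq_one_or_self_of_dvd _ ?_).resolve_left ?_)
      · refine AddMonoid.exponent_dvd_of_forall_nsmul_eq_zero fun v => ?_
        rw [two_nsmul]
        exact Cfsg.Agent.SchurSzEight.add_self_V D hF v
      · intro h
        haveI := AddMonoid.exp_eq_one_iff.1 h
        rw [Nat.card_eq_one_iff_unique.2 ⟨inferInstance, ⟨0⟩⟩] at hcard
        exact absurd hcard (by decide)⟩
  obtain ⟨i⟩ := IsKleinFour.nonempty_mulEquiv (G₁ := Multiplicative (Cfsg.Agent.SchurSzEight.V F))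
    (G₂ := Multiplicative (ZMod 2 × ZMod 2))
  let e : Cfsg.Sz F 1 ≃* Cfsg.Lie.Sz F 4 :=
    Cfsg.Agent.Suzuki.lieEquiv D (by rw [hF]; norm_num)
  refine ⟨?_, ?_⟩
  · obtain ⟨hs, hc, hd⟩ := Cfsg.Agent.SchurSzEight.proj_stem D hF
    let σ := e.toMonoidHom.comp (Cfsg.Agent.SchurSzEight.proj D hF)
    have hk : σ.ker = (Cfsg.Agent.SchurSzEight.proj D hF).ker := by
      ext x; simp [σ, MonoidHom.mem_ker]
    exact ⟨Cfsg.Agent.SchurSzEight.Ext D hF, inferInstance, inferInstance, σ,
      ⟨e.surjective.comp hs, hk ▸ hc, hk ▸ hd⟩,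
      ⟨(MulEquiv.subgroupCongr hk).trans ((Cfsg.Agent.SchurSzEight.kerEquiv D hF).trans i)⟩⟩
  · intro Γ _ _ σ hσ
    obtain ⟨hs, hc, hd⟩ := hσ
    let σ' := e.symm.toMonoidHom.comp σ
    have hk : σ'.ker = σ.ker := by
      ext x; simp [σ', MonoidHom.mem_ker]
    obtain ⟨π, hπ⟩ := Cfsg.Agent.SchurSzEight.kernel_image D hF σ'
      ⟨e.symm.surjective.comp hs, hk ▸ hc, hk ▸ hd⟩
    exact ⟨((MulEquiv.subgroupCongr hk).toMonoidHom.comp π).comp i.symm.toMonoidHom,
      ((MulEquiv.subgroupCongr hk).surjective.comp hπ).comp i.symm.surjective⟩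

end Cfsg.Agent.S2112
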