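import Cfsg.Statements.S2115
import Cfsg.Agent.Lib.TitsMult.Odd

set_option autoImplicit false
open Cfsg

namespace Cfsg.Agent.S2115

/-- The Tits group, the commutator subgroup of ²F₄(2), has trivial Schur multiplier (here the Schur multiplier is described through stem extensions, as in the definitions). -/
theorem result : Cfsg.HasCyclicSchurMultiplier Cfsg.Lie.TitsGroup 1 := by
  haveI := Fact.mk Nat.prime_two
  have hK : Fintype.card (ZMod 2) = 2 := ZMod.card 2
  haveI : Finite Cfsg.Lie.TitsGroup :=
    Nat.finite_of_card_ne_zero (by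
      show Nat.card ↥(Cfsg.Agent.Chev.TwF4.Two.Der (ZMod 2)) ≠ 0
      rw [Cfsg.Agent.Chev.TwF4.Two.card_Der hK]; norm_num)
  exact Cfsg.Agent.SchurSplit.trivial_of_noExt
    (fun p hp => Cfsg.Agent.TitsMult.noExt_all (K := ZMod 2) hK p hp)

end Cfsg.Agent.S2115
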