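import Cfsg.Statements.S2119
import Cfsg.Agent.Lib.FGS.AutAlt

set_option autoImplicit false
open Cfsg
open scoped Pointwise
set_option linter.all false

namespace Cfsg.Agent.S2119

open Equiv Equiv.Perm Cfsg.Agent.FGS.AutAlt

/-- Automorphisms of the alternating groups: for n ≥ 4 with n ≠ 6, every automorphism of the alternating group of degree n is conjugation by a unique permutation, i.e. conjugation induces an isomorphism from the symmetric group of degree n onto the automorphism group of the alternating group (so the outer automorphism group has order 2). -/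
theorem result (n : ℕ) (hn : 4 ≤ n) (h6 : n ≠ 6) : Function.Bijective (MulAut.conjNormal : Equiv.Perm (Fin n) →* MulAut ↥(alternatingGroup (Fin n))) := by
  classical
  haveI : Nontrivial (Fin n) := Fin.nontrivial_iff_two_le.2 (by omega)
  have mem3 : ∀ a b c : Fin n, a ≠ b → a ≠ c → b ≠ c → c3 a b c ∈ alternatingGroup (Fin n) :=
    fun a b c h1 h2 h3 => (c3_three h1 h2 h3).mem_alternatingGroup
  have avoid : ∀ s : Finset (Fin n), s.card ≤ 3 → ∃ d, d ∉ s := fun s hs => by
    by_contra h
    push Not at h
    have := Finset.card_le_card (show (Finset.univ : Finset (Fin n)) ⊆ s from fun d _ => h d)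
    rw [Finset.card_univ, Fintype.card_fin] at this
    omega
  refine ⟨(injective_iff_map_eq_one _).2 fun g hg => ?_, fun σ => ?_⟩
  · -- injective
    refine Perm.ext fun a => ?_
    by_contra hga
    rw [Perm.one_apply] at hga
    obtain ⟨b, hb⟩ := avoid {a, g a} (Finset.card_le_two.trans (by omega))
    obtain ⟨c, hc⟩ := avoid {a, g a, b} Finset.card_le_three
    simp only [Finset.mem_insert, Finset.mem_singleton, not_or] at hb hc
    have h := congrArg (fun e : MulAut (alternatingGroup (Fin n)) =>
      ((e ⟨_, mem3 a b c (Ne.symm hb.1) (Ne.symm hc.1) (Ne.symm hc.2.2)⟩ : alternatingGroup (Fin n)) : Perm (Fin n)) (g a)) hg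
    simp only [MulAut.conjNormal_apply, MulAut.one_apply, Perm.mul_apply, Perm.coe_inv, Equiv.symm_apply_apply] at h
    rw [c3_a (Ne.symm hb.1) (Ne.symm hc.1), c3_other hga (Ne.symm hb.2) (Ne.symm hc.2.1)] at h
    exact hb.1 (g.injective h)
  · exact of_preserves hn σ fun t ht => three_to_three hn h6 σ t ht

end Cfsg.Agent.S2119
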