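import Cfsg.Statements.S2126
import Cfsg.Agent.Lib.Suzuki.AutSz
import Cfsg.Agent.Lib.Suzuki.LieIso

set_option autoImplicit false
open Cfsg

namespace Cfsg.Agent.S2126

/-- Outer automorphisms of the Suzuki groups: for q = 2^(2m+1) with m ≥ 1 the outer automorphism group of Sz(q) has order 2m + 1 (field automorphisms only). -/
theorem result {F : Type*} [Field F] [Fintype F] {m : ℕ} (hm : 1 ≤ m) (hF : Fintype.card F = 2 ^ (2 * m + 1)) : Nat.card (Cfsg.Out ↥(Cfsg.Lie.Sz F (2 ^ (m + 1)))) = 2 * m + 1 := by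
  obtain ⟨D⟩ := Cfsg.Agent.Suzuki.exists_dat (F := F) hm hF
  have e := Cfsg.Agent.Suzuki.lieEquiv D hF
  have hmap : Subgroup.map (MulAut.congr e).toMonoidHom (Cfsg.Inn ↥(Cfsg.Sz F m)) =
      Cfsg.Inn ↥(Cfsg.Lie.Sz F (2 ^ (m + 1))) := by
    ext α
    constructor
    · rintro ⟨_, ⟨x, rfl⟩, rfl⟩
      exact ⟨e x, MulEquiv.ext fun g => by simp [MulAut.congr]⟩
    · rintro ⟨y, rfl⟩
      exact ⟨MulAut.conj (e.symm y), ⟨e.symm y, rfl⟩, MulEquiv.ext fun g => by simp [MulAut.congr]⟩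
  rw [← Nat.card_congr (QuotientGroup.congr _ _ (MulAut.congr e) hmap).toEquiv]
  exact Cfsg.Agent.Suzuki.card_out D hF

end Cfsg.Agent.S2126
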