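import Cfsg.Statements.S2127
import Cfsg.Agent.Lib.Ree.FieldAuto
import Cfsg.Agent.Lib.Ree.AutClass
import Cfsg.Agent.Lib.AutPSL.Counts



set_option autoImplicit false
open Cfsg

namespace Cfsg.Agent.S2127

/-- Outer automorphisms of the small Ree groups: for q = 3^(2m+1) with m ≥ 1 the outer automorphism group of ²G₂(q) has order 2m + 1 (field automorphisms only). -/
theorem result {K : Type*} [Field K] [Fintype K] {m : ℕ} (hm : 1 ≤ m) (hK : Fintype.card K = 3 ^ (2 * m + 1)) : Nat.card (Cfsg.Out ↥(Cfsg.Lie.twistedG2 K (3 ^ m))) = 2 * m + 1 := by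
  classical
  haveI := Cfsg.Agent.Chev.TwRee.charP_three hK
  haveI := Fact.mk Nat.prime_three
  obtain ⟨D, hfield⟩ := Cfsg.Agent.Ree.exists_dat_field hK
  choose β hU hH hw using hfield
  rw [← Cfsg.Agent.AutPSL.card_ringAut 3 (2 * m + 1) hK]
  symm
  refine Nat.card_eq_of_bijective (fun τ => (QuotientGroup.mk (β τ) : Cfsg.Out _)) ⟨fun τ τ' h => ?_, fun x => ?_⟩
  · obtain ⟨g, hg⟩ := QuotientGroup.eq.1 h.symm
    exact D.field_aut_eq_of_inner hm (hU τ) (hH τ) (hU τ') (hH τ') (g := g) (by rw [hg]; group)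
  · obtain ⟨α, rfl⟩ := QuotientGroup.mk_surjective x
    obtain ⟨τ, γ, g, h, hγU, hγH, hγw, rfl⟩ := D.exists_inner_field hm α
      (fun τ => ⟨β τ, hU τ, hH τ, hw τ⟩)
    refine ⟨τ, ?_⟩
    have hγ : γ = β τ := MulEquiv.ext fun x => by
      rcases D.cases x with ⟨a, b, c, z, rfl⟩ | ⟨a, b, c, z, p, r, s, rfl⟩ <;>
        simp [hγU, hγH, hγw, hU, hH, hw]
    have hi : ∀ g : ↥(Cfsg.Lie.twistedG2 K (3 ^ m)), (QuotientGroup.mk (MulAut.conj g) : Cfsg.Out ↥(Cfsg.Lie.twistedG2 K (3 ^ m))) = 1 := fun g =>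
      (QuotientGroup.eq_one_iff _).2 ⟨g, rfl⟩
    rw [QuotientGroup.mk_mul, QuotientGroup.mk_mul, hi, hi, one_mul, mul_one, hγ]

end Cfsg.Agent.S2127
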