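import Cfsg.Statements.S2134
import Cfsg.Agent.Lib.HeInvCent.Iso
import Cfsg.Agent.Lib.HeInvCent.Transvection
-- import your own Cfsg.Agent.* helpers here

set_option autoImplicit false
open Cfsg

namespace Cfsg.Agent.S2134

open Cfsg.Agent.HeInvCent Cfsg.Agent.Enum

theorem centralizer_equiv (s : SL5) (hs : (s : M5) = Matrix.transvection 0 1 1) :
    ∃ z : HG, orderOf z = 2 ∧
      Nonempty (↥(Subgroup.centralizer ({z} : Set HG)) ≃* ↥(Subgroup.centralizer ({s} : Set SL5))) := by
  set CG := Subgroup.centralizer ({zel} : Set HG) with hCG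
  set CX := Subgroup.centralizer ({s} : Set SL5) with hCX
  have hle := Dg_le s hs
  have g1 : Dg.map (MonoidHom.fst HG SL5) ≤ CG := by
    rintro _ ⟨x, hx, rfl⟩
    exact (hle hx).1
  have g2 : Dg.map (MonoidHom.snd HG SL5) ≤ CX := by
    rintro _ ⟨x, hx, rfl⟩
    exact (hle hx).2
  have c1 : Dg.map (MonoidHom.fst HG SL5) = CG :=
    Subgroup.eq_of_le_of_card_ge g1 (card_centralizer_le.trans card_fst)
  have c2 : Dg.map (MonoidHom.snd HG SL5) = CX :=
    Subgroup.eq_of_le_of_card_ge g2 ((card_transvection_centralizer_le s hs).trans card_snd)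
  let p1 : Dg →* CG := ((MonoidHom.fst HG SL5).comp Dg.subtype).codRestrict CG fun x => g1 ⟨x, x.2, rfl⟩
  let p2 : Dg →* CX := ((MonoidHom.snd HG SL5).comp Dg.subtype).codRestrict CX fun x => g2 ⟨x, x.2, rfl⟩
  have hsur1 : Function.Surjective p1 := by
    rintro ⟨y, hy⟩
    rw [← c1] at hy
    obtain ⟨x, hx, rfl⟩ := hy
    exact ⟨⟨x, hx⟩, rfl⟩
  have hsur2 : Function.Surjective p2 := by
    rintro ⟨y, hy⟩
    rw [← c2] at hy
    obtain ⟨x, hx, rfl⟩ := hy
    exact ⟨⟨x, hx⟩, rfl⟩
  have b1 : Function.Bijective p1 :=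
    (Nat.bijective_iff_surjective_and_card p1).2 ⟨hsur1, le_antisymm
      (card_Dg_le.trans (card_fst.trans (c1 ▸ le_rfl)))
      (Nat.card_le_card_of_surjective _ hsur1)⟩
  have b2 : Function.Bijective p2 :=
    (Nat.bijective_iff_surjective_and_card p2).2 ⟨hsur2, le_antisymm
      (card_Dg_le.trans (card_snd.trans (c2 ▸ le_rfl)))
      (Nat.card_le_card_of_surjective _ hsur2)⟩
  refine ⟨zel, ?_, ⟨(MulEquiv.ofBijective p1 b1).symm.trans (MulEquiv.ofBijective p2 b2)⟩⟩
  refine orderOf_eq_prime (by rw [pow_two]; exact gg 4) fun h => ?_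
  have h2 : (act zel ⟨80, by decide +kernel⟩ : ℕ) = zi 80 := act_z _
  rw [h, map_one] at h2
  revert h2
  decide +kernel


/-- The Held group (presented on seven involutions, as in the definitions) has an involution whose centraliser is isomorphic to the centraliser of a transvection in SL(5, 2) (a group of shape 2^{1+6}:GL(3, 2)). -/
theorem result (s : Matrix.SpecialLinearGroup (Fin 5) (ZMod 2)) (hs : (s : Matrix (Fin 5) (Fin 5) (ZMod 2)) = Matrix.transvection 0 1 1) : ∃ z : Cfsg.Spor.He, orderOf z = 2 ∧ Nonempty (↥(Subgroup.centralizer ({z} : Set Cfsg.Spor.He)) ≃* ↥(Subgroup.centralizer ({s} : Set (Matrix.SpecialLinearGroup (Fin 5) (ZMod 2))))) := by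
  exact centralizer_equiv s hs

end Cfsg.Agent.S2134
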