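import Cfsg.Statements.S2140
import Cfsg.Agent.Lib.MinDeg.SLMinIndex

set_option autoImplicit false
set_option linter.style.haveILetI false
open Cfsg

namespace Cfsg.Agent.S2140

/-- Minimal index of a proper subgroup of the linear groups: for n ≥ 3 and a field F with q elements, (n, q) ≠ (4, 2), every proper subgroup of PSL_n(F) has index at least (q^n − 1)/(q − 1), and some subgroup has exactly that index (the stabiliser of a point of the projective space). -/
theorem result {F : Type*} [Field F] [Fintype F] {q : ℕ} (hF : Fintype.card F = q) (n : ℕ) (hn : 3 ≤ n) (hexc : ¬ (n = 4 ∧ q = 2)) : (∀ H : Subgroup (Matrix.ProjectiveSpecialLinearGroup (Fin n) F), H ≠ ⊤ → (q ^ n - 1) / (q - 1) ≤ H.index) ∧ (∃ H : Subgroup (Matrix.ProjectiveSpecialLinearGroup (Fin n) F), H.index = (q ^ n - 1) / (q - 1)) := by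
  classical
  obtain ⟨m, rfl⟩ : ∃ m, n = m + 1 := ⟨n - 1, by omega⟩
  have hq2 : 2 ≤ q := hF ▸ Fintype.one_lt_card
  have hsc : (q ^ (m + 1) - 1) / (q - 1) = SLMinDeg.sc q (m + 1) := (Nat.geomSum_eq hq2 _).symm
  rw [hsc]
  set π := QuotientGroup.mk' (Subgroup.center (Matrix.SpecialLinearGroup (Fin (m + 1)) F))
  have hπ : Function.Surjective π := QuotientGroup.mk'_surjective _
  refine ⟨fun H hH => ?_, ?_⟩
  · have hidx : (H.comap π).index = H.index := Subgroup.index_comap_of_surjective H hπ
    have h := SLMinIndex.sl_index_ge (F := F) (m := m) (by omega)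
      (fun h => hexc ⟨by omega, hF ▸ h.2⟩) (H.comap π) (fun e => hH (by
        rw [← Subgroup.map_comap_eq_self_of_surjective hπ H, e, Subgroup.map_top_of_surjective π hπ]))
    rw [hF, hidx] at h
    exact h
  · letI := S2336.actNZ (F := F) (n := m + 1)
    haveI := S2336.pretransitive (F := F) (n := m + 1) hn
    set L := S2336.lineStab (F := F) (0 : Fin (m + 1)) with hL
    have hker : π.ker ≤ L := by
      intro g hg
      rw [QuotientGroup.ker_mk', Matrix.SpecialLinearGroup.mem_center_iff] at hg
      obtain ⟨r, hr, hrg⟩ := hg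
      have hr0 : r ≠ 0 := by rintro rfl; simp at hr
      refine ⟨Units.mk0 r hr0, ?_⟩
      rw [← hrg]
      funext i
      simp [Matrix.scalar_apply, Matrix.mulVec_diagonal, Pi.single_apply]
    refine ⟨L.map π, ?_⟩
    rw [Subgroup.index_map_eq _ hπ hker]
    have h1 := S2336.card_lineStab (F := F) (n := m + 1) 0 hn
    have h2 := MulAction.index_stabilizer_of_transitive
      (G := Matrix.SpecialLinearGroup (Fin (m + 1)) F) (S2336.base (F := F) (0 : Fin (m + 1)))
    have hX : Nat.card {v : Fin (m + 1) → F // v ≠ 0} = q ^ (m + 1) - 1 := by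
      rw [Nat.card_eq_fintype_card, Fintype.card_subtype_compl, Fintype.card_subtype_eq,
        Fintype.card_fun, Fintype.card_fin, hF]
    rw [hX] at h2
    rw [Nat.card_units, Nat.card_eq_fintype_card (α := F), hF, ← hL] at h1
    have h3 := L.card_mul_index
    have h4 := (MulAction.stabilizer (Matrix.SpecialLinearGroup (Fin (m + 1)) F)
      (S2336.base (F := F) (0 : Fin (m + 1)))).card_mul_index
    rw [h2] at h4
    rw [h1, mul_assoc, mul_comm (q - 1), mul_assoc, ← h4] at h3
    have h5 := Nat.eq_of_mul_eq_mul_left Nat.card_pos h3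
    refine Nat.eq_of_mul_eq_mul_right (show 0 < q - 1 by omega) ?_
    rw [h5]
    zify [Nat.one_le_pow (m + 1) q (by omega), show 1 ≤ q by omega]
    rw [SLMinDeg.sc]; push_cast
    exact (geom_sum_mul _ _).symm

end Cfsg.Agent.S2140
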