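import Cfsg.Statements.S2141
import Cfsg.Agent.Lib.SpMinIndex.Main
import Cfsg.Agent.Lib.Forms.SpSimple
-- import your own Cfsg.Agent.* helpers here

set_option autoImplicit false
set_option maxHeartbeats 400000
set_option synthInstance.maxHeartbeats 100000
open Cfsg
open scoped LinearAlgebra.Projectivization

namespace Cfsg.Agent.S2141

/-- Minimal index of a proper subgroup of the symplectic groups over fields with at least 3 elements: for m ≥ 2 and a field F with q ≥ 3 elements, (m, q) ≠ (2, 3), every proper subgroup of PSp_2m(F) has index at least (q^(2m) − 1)/(q − 1), and that index is attained. -/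
theorem result {F : Type*} [Field F] [Fintype F] {q : ℕ} (hF : Fintype.card F = q) (m : ℕ) (hm : 2 ≤ m) (hq : 3 ≤ q) (hexc : ¬ (m = 2 ∧ q = 3)) : (∀ H : Subgroup (Cfsg.PSp m F), H ≠ ⊤ → (q ^ (2 * m) - 1) / (q - 1) ≤ H.index) ∧ (∃ H : Subgroup (Cfsg.PSp m F), H.index = (q ^ (2 * m) - 1) / (q - 1)) := by
  classical
  obtain ⟨k, rfl⟩ : ∃ k, m = k + 1 := ⟨m - 1, by omega⟩
  set G := Matrix.symplecticGroup (Fin (k + 1)) F
  have hπ : Function.Surjective (QuotientGroup.mk' (Subgroup.center G)) := QuotientGroup.mk'_surjective _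
  refine ⟨fun H hH => ?_, ?_⟩
  · rw [← Subgroup.index_comap_of_surjective H hπ]
    set K := H.comap (QuotientGroup.mk' (Subgroup.center G)) with hKdef
    have hK : K ≠ ⊤ := fun h => hH (Subgroup.comap_injective hπ (by rw [← hKdef, h, Subgroup.comap_top]))
    obtain ⟨g, hg⟩ : ∃ g, g ∉ K := by
      by_contra! h
      exact hK (eq_top_iff.mpr fun x _ => h x)
    letI : Fintype (G ⧸ K) := Fintype.ofFinite _
    have h := SpMinIndex.card_ge (F := F) (k := k) (Ω := G ⧸ K) (by omega) (by omega)
      (fun e => hexc ⟨by omega, hF ▸ e.2⟩)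
      ⟨g, QuotientGroup.mk 1, fun e => hg (by
        rw [MulAction.Quotient.smul_mk, QuotientGroup.eq] at e
        simp only [smul_eq_mul, mul_one] at e
        exact (Subgroup.inv_mem_iff K).mp e)⟩
    rw [← Nat.card_eq_fintype_card (α := G ⧸ K), hF, ← Subgroup.index_eq_card] at h
    exact Nat.div_le_of_le_mul h
  · let V := Fin (k + 1) ⊕ Fin (k + 1) → F
    have hv : (Pi.single (Sum.inl 0) 1 : V) ≠ 0 := by simp
    set p : ℙ F V := Projectivization.mk F _ hv
    set S : Subgroup G := (MulAction.stabilizer (FormsLib.SpIso (k + 1) F) p).comap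
      (FormsLib.spEquiv (k + 1) F).toMonoidHom with hS
    have hker : (QuotientGroup.mk' (Subgroup.center G)).ker ≤ S := by
      rw [QuotientGroup.ker_mk']
      intro z hz
      have hz' : (FormsLib.spEquiv (k + 1) F) z ∈ Subgroup.center (FormsLib.SpIso (k + 1) F) := by
        rw [Subgroup.mem_center_iff]
        intro g
        obtain ⟨g', rfl⟩ := (FormsLib.spEquiv (k + 1) F).surjective g
        rw [← map_mul, ← map_mul, Subgroup.mem_center_iff.mp hz g']
      rw [hS, Subgroup.mem_comap, MulAction.mem_stabilizer_iff]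
      show (FormsLib.spEquiv (k + 1) F) z • p = p
      rcases FormsLib.center_le_pm hz' with h | h
      · rw [h, one_smul]
      · rw [FormsLib.sp_smul_mk]
        exact (Projectivization.mk_eq_mk_iff' F _ _ _ _).2 ⟨-1, by rw [neg_one_smul, h]⟩
    refine ⟨S.map (QuotientGroup.mk' (Subgroup.center G)), ?_⟩
    rw [Subgroup.index_map_eq _ hπ hker, hS,
      Subgroup.index_comap_of_surjective _ (FormsLib.spEquiv (k + 1) F).surjective,
      MulAction.index_stabilizer]
    have horb : MulAction.orbit (FormsLib.SpIso (k + 1) F) p = Set.univ := by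
      refine Set.eq_univ_of_forall fun x => ?_
      induction x using Projectivization.ind with
      | h w hw =>
        obtain ⟨g, hg⟩ := FormsLib.spIso_exists_map_vec hv hw
        refine ⟨g, ?_⟩
        show g • p = _
        rw [FormsLib.sp_smul_mk]
        simp [hg]
    rw [horb, Set.ncard_univ]
    have hc := Projectivization.card F V
    rw [Nat.card_pi, Finset.prod_const, Finset.card_univ, Fintype.card_sum, Fintype.card_fin, ← two_mul,
      Nat.card_eq_fintype_card (α := F), hF] at hc
    rw [hc, Nat.mul_div_cancel _ (by omega : 0 < q - 1)]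

end Cfsg.Agent.S2141
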