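import Cfsg.Statements.S2142
import Cfsg.Agent.Lib.MinDeg.SpTwoMinIndex
import Cfsg.Agent.S0246

set_option autoImplicit false
open Cfsg

namespace Cfsg.Agent.S2142

/-- Minimal index of a proper subgroup of the symplectic groups over the field with 2 elements: for m ≥ 3, every proper subgroup of Sp_2m(2) has index at least 2^(m−1)(2^m − 1), and that index is attained. -/
theorem result {F : Type*} [Field F] [Fintype F] (hF : Fintype.card F = 2) (m : ℕ) (hm : 3 ≤ m) : (∀ H : Subgroup (Cfsg.PSp m F), H ≠ ⊤ → 2 ^ (m - 1) * (2 ^ m - 1) ≤ H.index) ∧ (∃ H : Subgroup (Cfsg.PSp m F), H.index = 2 ^ (m - 1) * (2 ^ m - 1)) := by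
  classical
  have : CharP F 2 := charP_of_card_eq_prime hF
  have hcen : Subgroup.center (Matrix.symplecticGroup (Fin m) F) = ⊥ :=
    Subgroup.eq_bot_of_card_eq _ (by rw [S0246.result hF m (by omega)]; norm_num)
  have hbij : Function.Bijective (QuotientGroup.mk' (Subgroup.center (Matrix.symplecticGroup (Fin m) F))) :=
    ⟨(MonoidHom.ker_eq_bot_iff _).mp (by rw [QuotientGroup.ker_mk', hcen]), QuotientGroup.mk'_surjective _⟩
  constructor
  · intro H hH
    rw [← Subgroup.index_comap_of_surjective H hbij.2]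
    set K := H.comap (QuotientGroup.mk' (Subgroup.center (Matrix.symplecticGroup (Fin m) F))) with hKdef
    have hK : K ≠ ⊤ := fun h => hH (Subgroup.comap_injective hbij.2 (by rw [← hKdef, h, Subgroup.comap_top]))
    obtain ⟨k, rfl⟩ : ∃ k, m = k + 1 := ⟨m - 1, by omega⟩
    obtain ⟨g, hg⟩ : ∃ g, g ∉ K := by
      by_contra! h
      exact hK (eq_top_iff.mpr fun x _ => h x)
    letI : Fintype (Matrix.symplecticGroup (Fin (k + 1)) F ⧸ K) := Fintype.ofFinite _
    have h := SpTwo.card_action_ge hF (Ω := Matrix.symplecticGroup (Fin (k + 1)) F ⧸ K) (by omega)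
      ⟨g, QuotientGroup.mk 1, fun e => hg (by
        rw [MulAction.Quotient.smul_mk, QuotientGroup.eq] at e
        simpa using e)⟩
    rw [← Nat.card_eq_fintype_card] at h
    rw [Nat.add_sub_cancel]
    exact h
  · obtain ⟨H, hH⟩ := SpTwo.exists_index hF (m := m) (by omega)
    exact ⟨H.map (QuotientGroup.mk' _), by rw [Subgroup.index_map_of_bijective hbij, hH]⟩

end Cfsg.Agent.S2142
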