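import Cfsg.Statements.S2159
import Cfsg.Agent.Lib.Chev.Aut.OutD4
-- import your own Cfsg.Agent.* helpers here

set_option autoImplicit false
open Cfsg

namespace Cfsg.Agent.S2159

/-- Structure of the outer automorphism group of the Chevalley group `G` of type G₂, B₂, D₄, F₄, E₆, E₇ or E₈ over a finite field. Let `D̄` be the image in `Out(G)` of the subgroup generated by the diagonal automorphisms and `F̄` the image of the subgroup generated by the field automorphisms. Then `D̄` is a normal abelian subgroup of `Out(G)`, `F̄` is cyclic, `D̄F̄` is a normal subgroup, and the quotient of `Out(G)` by `D̄F̄` is trivial, of order 2, or non-abelian of order 6 (so isomorphic to the symmetric group on three letters): its index is 1 or 2, or it is 6 with the commutator subgroup of `Out(G)` not inside `D̄F̄`. -/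
theorem result {F : Type*} [Field F] [Finite F] (D : Cfsg.Lie.ChevalleyDatum) (hD : D ∈ [Cfsg.Lie.chevG2, Cfsg.Lie.chevB2, Cfsg.Lie.chevD4, Cfsg.Lie.chevF4, Cfsg.Lie.chevE6, Cfsg.Lie.chevE7, Cfsg.Lie.chevE8])
    (Dbar Fbar : Subgroup (Cfsg.Out ↥(D.group F)))
    (hDbar : Dbar = (Subgroup.closure {φ : MulAut ↥(D.group F) | D.IsDiagonalAut φ}).map (QuotientGroup.mk' (Cfsg.Inn ↥(D.group F))))
    (hFbar : Fbar = (Subgroup.closure {φ : MulAut ↥(D.group F) | D.IsFieldAut φ}).map (QuotientGroup.mk' (Cfsg.Inn ↥(D.group F)))) :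
    Dbar.Normal ∧ IsMulCommutative ↥Dbar ∧ IsCyclic ↥Fbar ∧ (Dbar ⊔ Fbar).Normal ∧
      ((Dbar ⊔ Fbar).index = 1 ∨ (Dbar ⊔ Fbar).index = 2 ∨
        ((Dbar ⊔ Fbar).index = 6 ∧ ¬ commutator (Cfsg.Out ↥(D.group F)) ≤ Dbar ⊔ Fbar)) := by
  classical
  haveI := Fintype.ofFinite F
  haveI := ringChar.charP F
  haveI : Fact (ringChar F).Prime := ⟨CharP.char_is_prime F (ringChar F)⟩
  haveI : IsCyclic (F ≃+* F) := Cfsg.Agent.AutPSL.isCyclic_ringAut (ringChar F)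
  have key : ∀ {P : Cfsg.Agent.Chev.Pk} (h : Cfsg.Agent.Chev.Ok D P), P.ckComm = true →
      Cfsg.Agent.Chev.Aut.ckAut P →
      (((Cfsg.Agent.Chev.Aut.dOut (F := F) h).range ⊔ (Cfsg.Agent.Chev.Aut.fOut (F := F) h).range).index = 1 ∨
        ((Cfsg.Agent.Chev.Aut.dOut (F := F) h).range ⊔ (Cfsg.Agent.Chev.Aut.fOut (F := F) h).range).index = 2 ∨
        (((Cfsg.Agent.Chev.Aut.dOut (F := F) h).range ⊔ (Cfsg.Agent.Chev.Aut.fOut (F := F) h).range).index = 6 ∧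
          ¬ commutator (Cfsg.Out ↥(D.group F)) ≤
            (Cfsg.Agent.Chev.Aut.dOut (F := F) h).range ⊔ (Cfsg.Agent.Chev.Aut.fOut (F := F) h).range)) →
      Dbar.Normal ∧ IsMulCommutative ↥Dbar ∧ IsCyclic ↥Fbar ∧ (Dbar ⊔ Fbar).Normal ∧
        ((Dbar ⊔ Fbar).index = 1 ∨ (Dbar ⊔ Fbar).index = 2 ∨
          ((Dbar ⊔ Fbar).index = 6 ∧ ¬ commutator (Cfsg.Out ↥(D.group F)) ≤ Dbar ⊔ Fbar)) := by
    intro P h hC hA hI
    rw [Cfsg.Agent.Chev.Aut.dbar_eq h] at hDbar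
    rw [Cfsg.Agent.Chev.Aut.fbar_eq h] at hFbar
    subst hDbar hFbar
    refine ⟨Cfsg.Agent.Chev.Aut.dOut_normal h hC hA, ⟨⟨?_⟩⟩, ?_, Cfsg.Agent.Chev.Aut.sup_normal h hC hA, hI⟩
    · rintro ⟨_, a, rfl⟩ ⟨_, b, rfl⟩
      exact Subtype.ext (by show _ * _ = _ * _; rw [← map_mul, ← map_mul, mul_comm])
    · exact isCyclic_of_surjective _ (Cfsg.Agent.Chev.Aut.fOut (F := F) h).rangeRestrict_surjective
  have low : ∀ {P : Cfsg.Agent.Chev.Pk} (h : Cfsg.Agent.Chev.Ok D P), P.ckComm = true →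
      Cfsg.Agent.Chev.Aut.ckAut P → ∀ {l₁ l₂ : List ℕ}, Cfsg.Agent.Chev.Aut.symsP P ⊆ [l₁, l₂] →
      Dbar.Normal ∧ IsMulCommutative ↥Dbar ∧ IsCyclic ↥Fbar ∧ (Dbar ⊔ Fbar).Normal ∧
        ((Dbar ⊔ Fbar).index = 1 ∨ (Dbar ⊔ Fbar).index = 2 ∨
          ((Dbar ⊔ Fbar).index = 6 ∧ ¬ commutator (Cfsg.Out ↥(D.group F)) ≤ Dbar ⊔ Fbar)) := by
    intro P h hC hA l₁ l₂ hs
    exact key h hC hA ((Cfsg.Agent.Chev.Aut.index_le_two h hC hA hs).elim Or.inl fun e => Or.inr (Or.inl e))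
  simp only [List.mem_cons, List.not_mem_nil, or_false] at hD
  open Cfsg.Agent.Chev Cfsg.Agent.Chev.Aut in
  rcases hD with rfl | rfl | rfl | rfl | rfl | rfl | rfl
  · exact low G2.ok ckComm_G2 ckAut_G2 (l₁ := [0, 1]) (l₂ := [1, 0]) (by rw [syms_G2]; simp)
  · exact low B2.ok ckComm_B2 ckAut_B2 (l₁ := [0, 1]) (l₂ := [1, 0]) (by rw [syms_B2]; simp)
  · exact key D4.ok ckComm_D4 ckAut_D4 index_D4
  · exact low F4.ok ckComm_F4 ckAut_F4 (l₁ := [0, 1, 2, 3]) (l₂ := [3, 2, 1, 0]) (by rw [syms_F4]; simp)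
  · exact low E6.ok ckComm_E6 ckAut_E6 (l₁ := [0, 1, 2, 3, 4, 5]) (l₂ := [5, 1, 4, 3, 2, 0]) (by rw [syms_E6]; simp)
  · exact low E7.ok ckComm_E7 ckAut_E7 (l₁ := [0, 1, 2, 3, 4, 5, 6]) (l₂ := []) (by rw [syms_E7]; simp)
  · exact low E8.ok ckComm_E8 ckAut_E8 (l₁ := [0, 1, 2, 3, 4, 5, 6, 7]) (l₂ := []) (by rw [syms_E8]; simp)

end Cfsg.Agent.S2159
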