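import Cfsg.Statements.S2162
import Cfsg.Agent.S2570

set_option autoImplicit false
open Cfsg

namespace Cfsg.Agent.S2162

open Cfsg.Agent.S2570 Cfsg.Agent.JordanType


theorem conj_GL {F : Type*} [Field F] {n t t' : ℕ} (A B : GL (Fin n) F) {d : Fin t → ℕ} {d' : Fin t' → ℕ}
    {σ : Idx d ≃ Fin n} {σ' : Idx d' ≃ Fin n} {P P' : GL (Fin n) F}
    (hA : (A : Matrix (Fin n) (Fin n) F) * (P : Matrix (Fin n) (Fin n) F) =
      P * Matrix.reindex σ σ (Cfsg.jordanTypeMatrix d F))
    (hB : (B : Matrix (Fin n) (Fin n) F) * (P' : Matrix (Fin n) (Fin n) F) =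
      P' * Matrix.reindex σ' σ' (Cfsg.jordanTypeMatrix d' F))
    (h : ∀ i, 1 ≤ i → (Finset.univ.filter fun k => d k = i).card = (Finset.univ.filter fun k => d' k = i).card) :
    IsConj A B := by
  classical
  obtain ⟨τ, hτ⟩ := exists_idx_equiv (F := F) d d' h
  let π : Fin n ≃ Fin n := σ.symm.trans (τ.trans σ')
  let Q : GL (Fin n) F := ⟨π.toPEquiv.toMatrix, π.symm.toPEquiv.toMatrix,
      by rw [← PEquiv.toMatrix_trans, ← Equiv.toPEquiv_trans]; simp,
      by rw [← PEquiv.toMatrix_trans, ← Equiv.toPEquiv_trans]; simp⟩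
  have hq : Matrix.reindex σ σ (Cfsg.jordanTypeMatrix d F) * (Q : Matrix (Fin n) (Fin n) F) =
      Q * Matrix.reindex σ' σ' (Cfsg.jordanTypeMatrix d' F) := by
    show _ * π.toPEquiv.toMatrix = π.toPEquiv.toMatrix * _
    rw [PEquiv.mul_toMatrix_toPEquiv, PEquiv.toMatrix_toPEquiv_mul]
    ext x y
    have hh := hτ (σ.symm x) (σ.symm (π.symm y))
    simp only [shift, Matrix.sub_apply, Matrix.one_apply, τ.injective.eq_iff] at hh
    simp only [Matrix.submatrix_apply, Matrix.reindex_apply, id_eq, π, Equiv.trans_apply,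
      Equiv.symm_trans_apply, Equiv.symm_symm, Equiv.symm_apply_apply] at hh ⊢
    rw [← sub_left_inj.1 hh, Equiv.apply_symm_apply]
  have hJ : (P⁻¹ * A * P : GL (Fin n) F).1 = Matrix.reindex σ σ (Cfsg.jordanTypeMatrix d F) := by
    rw [mul_assoc, Units.val_mul, Units.val_mul, hA, ← mul_assoc, ← Units.val_mul, inv_mul_cancel, Units.val_one,
      one_mul]
  have hJ' : (P'⁻¹ * B * P' : GL (Fin n) F).1 = Matrix.reindex σ' σ' (Cfsg.jordanTypeMatrix d' F) := by
    rw [mul_assoc, Units.val_mul, Units.val_mul, hB, ← mul_assoc, ← Units.val_mul, inv_mul_cancel, Units.val_one,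
      one_mul]
  have hu : (P⁻¹ * A * P) * Q = Q * (P'⁻¹ * B * P') := Units.ext (by
    rw [Units.val_mul, Units.val_mul Q, hJ, hJ']; exact hq)
  have key : (B * (P' * Q⁻¹ * P⁻¹) : GL (Fin n) F) = P' * Q⁻¹ * P⁻¹ * A := by
    calc B * (P' * Q⁻¹ * P⁻¹) = P' * Q⁻¹ * (Q * (P'⁻¹ * B * P')) * Q⁻¹ * P⁻¹ := by group
      _ = P' * Q⁻¹ * ((P⁻¹ * A * P) * Q) * Q⁻¹ * P⁻¹ := by rw [hu]
      _ = P' * Q⁻¹ * P⁻¹ * A := by group
  refine isConj_iff.2 ⟨P' * Q⁻¹ * P⁻¹, ?_⟩
  rw [mul_inv_eq_iff_eq_mul]
  exact key.symm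

/-- Conjugacy of involutions in the special linear group over a finite field of characteristic two, in dimension at least 3: two elements of order 2 of SL_n(F) are conjugate in SL_n(F) exactly when the matrices a − 1 and b − 1 have the same rank (the rank of a − 1 is the dimension of the commutator space [V, a]). -/
theorem result {F : Type*} [Field F] [Fintype F] [CharP F 2] {n : ℕ} (hn : 3 ≤ n) (a b : Matrix.SpecialLinearGroup (Fin n) F) (ha : orderOf a = 2) (hb : orderOf b = 2) :
    IsConj a b ↔ ((a : Matrix (Fin n) (Fin n) F) - 1).rank = ((b : Matrix (Fin n) (Fin n) F) - 1).rank := by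
  classical
  haveI : Fact (Nat.Prime 2) := ⟨Nat.prime_two⟩
  let ι := Matrix.SpecialLinearGroup.toGL (n := Fin n) (R := F)
  constructor
  · intro h
    have := S2570.isConj_rank (ι.map_isConj h) 1
    rw [pow_one, pow_one] at this
    exact this
  · intro hr
    have key : ∀ x : Matrix.SpecialLinearGroup (Fin n) F, orderOf x = 2 →
        ∃ (t : ℕ) (d : Fin t → ℕ) (σ : Idx d ≃ Fin n) (P : GL (Fin n) F), (∀ k, d k ≤ 2) ∧
          x.1 * (P : Matrix (Fin n) (Fin n) F) = P * Matrix.reindex σ σ (Cfsg.jordanTypeMatrix d F) ∧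
          (Finset.univ.filter fun k => d k = 2).card = (x.1 - 1).rank ∧
          (Finset.univ.filter fun k => d k = 1).card + 2 * (x.1 - 1).rank = n := by
      intro x hx
      have h2 : (x.1 - 1) ^ 2 = 0 := by
        rw [S2570.sub_one_pow_eq (p := 2), ← Matrix.SpecialLinearGroup.coe_pow, ← hx, pow_orderOf_eq_one,
          Matrix.SpecialLinearGroup.coe_one, sub_self]
      obtain ⟨t, d, σ, P, hd, hP⟩ := exists_normal_form x.1 2 h2
      refine ⟨t, d, σ, P, hd, hP, ?_⟩
      have hrank : (x.1 - 1).rank = ∑ k, (d k - 1) := by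
        have e : (x.1 - 1) * (P : Matrix (Fin n) (Fin n) F) = P * Matrix.reindexAlgEquiv F F σ (shift F d) := by
          rw [shift, map_sub, map_one, mul_sub, mul_one, sub_mul, one_mul]
          exact congrArg (· - _) hP
        have h' := congrArg Matrix.rank e
        rw [Matrix.rank_mul_eq_left_of_isUnit_det _ _ ((Matrix.isUnit_iff_isUnit_det _).1 P.isUnit),
          Matrix.rank_mul_eq_right_of_isUnit_det _ _ ((Matrix.isUnit_iff_isUnit_det _).1 P.isUnit),
          Matrix.coe_reindexAlgEquiv, Matrix.rank_reindex, ← pow_one (shift F d), rank_shift_pow] at h'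
        exact h'
      have hn' : ∑ k, d k = n := by
        have h0 := Fintype.card_congr σ
        simpa using h0
      have c2 : (Finset.univ.filter fun k => d k = 2).card = ∑ k, (d k - 1) := by
        rw [Finset.card_filter]
        exact Finset.sum_congr rfl fun k _ => by have := hd k; split_ifs <;> omega
      refine ⟨c2.trans hrank.symm, ?_⟩
      rw [hrank, Finset.card_filter, Finset.mul_sum, ← Finset.sum_add_distrib]
      refine Eq.trans (Finset.sum_congr rfl fun k _ => ?_) hn'
      have := hd k; split_ifs <;> omega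
    obtain ⟨t, d, σ, P, hd, hP, hA2, hA1⟩ := key a ha
    obtain ⟨t', d', σ', P', hd', hP', hB2, hB1⟩ := key b hb
    have hconj : IsConj (ι a) (ι b) := by
      refine conj_GL (ι a) (ι b) hP hP' fun i hi => ?_
      rcases (show i = 1 ∨ i = 2 ∨ 3 ≤ i by omega) with rfl | rfl | h3
      · omega
      · omega
      · rw [Finset.filter_eq_empty_iff.2, Finset.filter_eq_empty_iff.2]
        · simp
        · intro k _ e; have := hd' k; omega
        · intro k _ e; have := hd k; omega
    obtain ⟨c, hc⟩ := isConj_iff.1 hconj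
    obtain ⟨s, hs⟩ := FiniteField.isSquare_of_char_two (ringChar.eq F 2) (c.1.det)⁻¹
    have hdet0 : c.1.det ≠ 0 := ((Matrix.isUnit_iff_isUnit_det _).1 c.isUnit).ne_zero
    obtain ⟨k0, x, hx⟩ : ∃ (k0 : Fin t) (x : F), x ^ d k0 = (c.1.det)⁻¹ := by
      by_cases h1 : ∃ k, d k = 1
      · obtain ⟨k, hk⟩ := h1
        exact ⟨k, _, by rw [hk, pow_one]⟩
      · obtain ⟨k, hk⟩ : ∃ k, d k ≠ 0 := by
          by_contra h
          push Not at h
          have h0 := Fintype.card_congr σ
          simp [h] at h0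
          omega
        exact ⟨k, s, by rw [show d k = 2 by have := hd k; push Not at h1; have := h1 k; omega, sq, hs]⟩
    let w : Idx d → F := fun i => if i.1 = k0 then x else 1
    have hJ : Matrix.diagonal w * Cfsg.jordanTypeMatrix d F = Cfsg.jordanTypeMatrix d F * Matrix.diagonal w := by
      ext i j
      rw [Matrix.diagonal_mul, Matrix.mul_diagonal]
      by_cases hij : i.1 = j.1
      · rw [show w i = w j by simp [w, hij], mul_comm]
      · obtain ⟨k, i⟩ := i
        obtain ⟨l, j⟩ := j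
        rw [Cfsg.jordanTypeMatrix, Matrix.blockDiagonal'_apply_ne _ _ _ hij, mul_zero, zero_mul]
    set D := Matrix.reindexAlgEquiv F F σ (Matrix.diagonal w)
    have hDdet : D.det = (c.1.det)⁻¹ := by
      rw [Matrix.det_reindexAlgEquiv, Matrix.det_diagonal, Fintype.prod_sigma, Finset.prod_eq_single k0]
      · simp [w, hx]
      · intro k _ hk; simp [w, hk]
      · simp
    let C : GL (Fin n) F := Matrix.GeneralLinearGroup.mk'' D (by rw [hDdet]; exact (inv_ne_zero hdet0).isUnit)
    set z := P * C * P⁻¹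
    have hz : z * ι a = ι a * z := by
      have e : (ι a * P : GL (Fin n) F).1 = P.1 * Matrix.reindexAlgEquiv F F σ (Cfsg.jordanTypeMatrix d F) := hP
      have e' : C * (P⁻¹ * (ι a * P)) = (P⁻¹ * (ι a * P)) * C := by
        refine Units.ext ?_
        simp only [Units.val_mul _ (ι a * P), Units.val_mul C, Units.val_mul (P⁻¹ * (ι a * P)), e]
        rw [← mul_assoc (P⁻¹ : GL (Fin n) F).1, ← Units.val_mul, inv_mul_cancel, Units.val_one, one_mul]
        show D * _ = _ * D
        rw [← map_mul, ← map_mul, hJ]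
      calc z * ι a = P * (C * (P⁻¹ * (ι a * P))) * P⁻¹ := by simp only [z]; group
        _ = P * ((P⁻¹ * (ι a * P)) * C) * P⁻¹ := by rw [e']
        _ = ι a * z := by simp only [z]; group
    have hdz : (c * z).1.det = 1 := by
      rw [Units.val_mul, Matrix.det_mul, Units.val_mul, Units.val_mul, Matrix.coe_units_inv,
        Matrix.det_conj P.isUnit]
      show c.1.det * D.det = 1
      rw [hDdet, mul_inv_cancel₀ hdet0]
    have hι : Function.Injective ι := fun u v h => Subtype.ext (congrArg Units.val h)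
    let h' : Matrix.SpecialLinearGroup (Fin n) F := ⟨(c * z).1, hdz⟩
    refine isConj_iff.2 ⟨h', hι ?_⟩
    rw [map_mul, map_mul, map_inv, show ι h' = c * z from Units.ext rfl, mul_inv_rev, ← hc]
    rw [mul_assoc c z, hz]
    group

end Cfsg.Agent.S2162
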