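import Cfsg.Statements.S2163
import Cfsg.Agent.Lib.Invol.SelMatrix
-- import your own Cfsg.Agent.* helpers here

set_option autoImplicit false
open Cfsg

namespace Cfsg.Agent.S2163

open Matrix in
theorem core {F : Type*} [Field F] {n : ℕ} (ℓ : ℕ) (h2 : 2 * ℓ ≤ n) :
    (Matrix.of fun i j : Fin n => if j.val < ℓ ∧ i.val = j.val + (n - ℓ) then (1 : F) else 0) =
      SelMatrix.sel F n ℓ (n - ℓ) * (SelMatrix.sel F n ℓ 0)ᵀ := by
  ext i j
  rw [SelMatrix.sel_mul_transpose, Matrix.of_apply]
  congr 1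
  apply propext
  have := i.isLt
  have := j.isLt
  constructor
  · rintro ⟨a, b⟩; refine ⟨?_, ?_, ?_⟩ <;> omega
  · rintro ⟨a, b, c⟩; refine ⟨?_, ?_⟩ <;> omega

/-- Over a finite field of characteristic two and for n ≥ 3: for every ℓ with 1 ≤ ℓ and 2ℓ ≤ n, the matrix j_ℓ that is the identity plus the entries 1 in positions (n − ℓ + i, i) for i < ℓ (an identity block of size ℓ in the lower left corner) lies in SL_n(F), has order 2, and j_ℓ − 1 has rank ℓ. Together with the conjugacy criterion by rank, these matrices represent the conjugacy classes of involutions of SL_n(F). -/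
theorem result {F : Type*} [Field F] [Fintype F] [CharP F 2] {n : ℕ} (hn : 3 ≤ n) (ℓ : ℕ) (h1 : 1 ≤ ℓ) (h2 : 2 * ℓ ≤ n) :
    ∃ a : Matrix.SpecialLinearGroup (Fin n) F, (a : Matrix (Fin n) (Fin n) F) = 1 + Matrix.of (fun i j : Fin n => if j.val < ℓ ∧ i.val = j.val + (n - ℓ) then (1 : F) else 0) ∧ orderOf a = 2 ∧ ((a : Matrix (Fin n) (Fin n) F) - 1).rank = ℓ := by
  rw [core ℓ h2]
  set X := SelMatrix.sel F n ℓ (n - ℓ)
  set Y := SelMatrix.sel F n ℓ 0
  have hXX : Matrix.transpose X * X = 1 := SelMatrix.sel_transpose_mul_self _ (by omega)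
  have hYY : Matrix.transpose Y * Y = 1 := SelMatrix.sel_transpose_mul_self _ (by omega)
  have hYX : Matrix.transpose Y * X = 0 := SelMatrix.sel_transpose_mul_disjoint _ _ (by omega)
  have hrank : (X * Matrix.transpose Y).rank = ℓ := SelMatrix.rank_mul_eq X Y hXX hYY
  have hsq : (X * Matrix.transpose Y) * (X * Matrix.transpose Y) = 0 := by
    rw [Matrix.mul_assoc X, ← Matrix.mul_assoc (Matrix.transpose Y), hYX, Matrix.zero_mul, Matrix.mul_zero]
  have hdet : (1 + X * Matrix.transpose Y).det = 1 := by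
    rw [Matrix.det_one_add_mul_comm, hYX, add_zero, Matrix.det_one]
  refine ⟨⟨1 + X * Matrix.transpose Y, hdet⟩, rfl, ?_, ?_⟩
  · refine orderOf_eq_prime ?_ ?_
    · apply Subtype.ext
      show (1 + X * Matrix.transpose Y) ^ 2 = 1
      rw [pow_two, add_mul, mul_add, mul_add, hsq, one_mul, one_mul, mul_one, add_zero]
      rw [add_assoc, add_eq_left, ← two_smul F, show (2 : F) = 0 from CharP.cast_eq_zero F 2, zero_smul]
    · intro h
      have h' := congrArg (fun a : Matrix.SpecialLinearGroup (Fin n) F => (a : Matrix (Fin n) (Fin n) F)) h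
      simp at h'
      rw [h', Matrix.rank_zero] at hrank
      omega
  · show (1 + X * Matrix.transpose Y - 1).rank = ℓ
    rw [add_sub_cancel_left, hrank]

end Cfsg.Agent.S2163
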