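import Cfsg.Statements.S2164
import Cfsg.Agent.S2162
import Cfsg.Agent.Lib.FormCentral.SUConj
import Cfsg.Agent.Lib.AutPSU.Basic

set_option autoImplicit false
open Cfsg

namespace Cfsg.Agent.S2164

open scoped Matrix
open Cfsg.Agent.AutPSU

theorem cent {F : Type*} [Field F] [Fintype F] [CharP F 2] {n q : ℕ} (hF : Fintype.card F = q ^ 2)
    (a : ↥(Cfsg.SU n F q)) (ha : orderOf a = 2) (x : F) (hx : x ^ (q + 1) = 1) :
    ∃ C : GL (Fin n) F, C ∈ Cfsg.GU n F q ∧
      C * Matrix.SpecialLinearGroup.toGL (a : Matrix.SpecialLinearGroup (Fin n) F) =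
        Matrix.SpecialLinearGroup.toGL (a : Matrix.SpecialLinearGroup (Fin n) F) * C ∧
      (C : Matrix (Fin n) (Fin n) F).det = x := by
  classical
  have hQ : QField F q := QField.of_card hF
  set A := ((a : Matrix.SpecialLinearGroup (Fin n) F) : Matrix (Fin n) (Fin n) F) with hA
  have haa : a * a = 1 := by rw [← pow_two, ← ha]; exact pow_orderOf_eq_one a
  have hAA : A * A = 1 := congrArg (fun z : ↥(Cfsg.SU n F q) =>
    ((z : Matrix.SpecialLinearGroup (Fin n) F) : Matrix (Fin n) (Fin n) F)) haa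
  have hpres : ∀ u v, Cfsg.hermForm n F q (A *ᵥ u) (A *ᵥ v) = Cfsg.hermForm n F q u v := fun u v => a.2 u v
  have hadj : ∀ u v, Cfsg.hermForm n F q (A *ᵥ u) v = Cfsg.hermForm n F q u (A *ᵥ v) := fun u v => by
    rw [← hpres (A *ᵥ u) v, Matrix.mulVec_mulVec, hAA, Matrix.one_mulVec]
  -- an anisotropic vector for `(u, v) ↦ H(N u, v)`
  obtain ⟨u, hu⟩ : ∃ u, Cfsg.hermForm n F q (A *ᵥ u - u) u ≠ 0 := by
    by_contra hcon
    push Not at hcon
    obtain ⟨k, hk⟩ := qb_ne (F := F) (q := q)
    have hX : ∀ u v, Cfsg.hermForm n F q (A *ᵥ u - u) v = 0 := by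
      intro u v
      have hN : Cfsg.hermForm n F q (A *ᵥ v - v) u = qb q (Cfsg.hermForm n F q (A *ᵥ u - u) v) := by
        rw [H_sub_left, H_sub_left, map_sub, H_flip, H_flip, hadj v u]
      have h1 := hcon (u + v)
      have h2 := hcon (k • u + v)
      rw [show A *ᵥ (u + v) - (u + v) = (A *ᵥ u - u) + (A *ᵥ v - v) by rw [Matrix.mulVec_add]; abel] at h1
      rw [show A *ᵥ (k • u + v) - (k • u + v) = k • (A *ᵥ u - u) + (A *ᵥ v - v) by
        rw [Matrix.mulVec_add, Matrix.mulVec_smul]; module] at h2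
      simp only [H_add_left, H_add_right, H_smul_left, H_smul_right, hcon u, hcon v, hN] at h1 h2
      have h3 : (k - qb q k) * Cfsg.hermForm n F q (A *ᵥ u - u) v = 0 := by
        linear_combination h2 - qb q k * h1
      exact (mul_eq_zero.1 h3).resolve_left (sub_ne_zero.2 (Ne.symm hk))
    have hA1 : a = 1 := su_ext fun v => by
      have := eq_zero_of_orth' (q := q) (x := A *ᵥ v - v) (hX v)
      rw [sub_eq_zero] at this
      simpa using this
    rw [hA1, orderOf_one] at ha
    omega
  have h2 : (2 : F) = 0 := CharTwo.two_eq_zero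
  set w := A *ᵥ u - u with hw
  have hAu : A *ᵥ u = u + w := by rw [hw]; abel
  have hAw : A *ᵥ w = w := by
    rw [hw, Matrix.mulVec_sub, Matrix.mulVec_mulVec, hAA, Matrix.one_mulVec]
    linear_combination (norm := module) h2 • (u - A *ᵥ u)
  set c := Cfsg.hermForm n F q w u with hc
  have hww : Cfsg.hermForm n F q w w = 0 := by
    nth_rewrite 2 [hw]
    rw [H_sub_right, ← hadj, hAw, sub_self]
  have huw : Cfsg.hermForm n F q u w = c := by rw [hc, hw, H_sub_right, H_sub_left, hadj]
  have hsc : qb q c = c := by rw [hc, H_flip, huw]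
  set d := Cfsg.hermForm n F q u u with hd
  have hsd : qb q d = d := H_flip u u
  -- a square root of `x` of norm one
  have hq : Even q := by
    rcases Nat.even_or_odd q with h | h
    · exact h
    · exfalso
      have hc2 : (((q ^ 2 : ℕ)) : F) = 0 := by rw [← hF]; exact FiniteField.cast_card_eq_zero F
      rw [CharP.cast_eq_zero_iff F 2] at hc2
      exact (Nat.not_even_iff_odd.2 h) (Nat.even_pow.1 (even_iff_two_dvd.2 hc2)).1
  obtain ⟨r, hr⟩ := hq
  set μ := x ^ (r + 1) with hμ
  have hμn : μ * qb q μ = 1 := by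
    rw [qb_apply, ← pow_succ', hμ, ← pow_mul, mul_comm, pow_mul, hx, one_pow]
  have hμ2 : μ * μ = x := by
    rw [hμ, ← pow_add, show r + 1 + (r + 1) = (q + 1) + 1 by omega, pow_succ, hx, one_mul]
  set e := μ - 1 with he
  have hen : e + qb q e + e * qb q e = 0 := by
    rw [he, map_sub, map_one]; linear_combination hμn
  let U : Matrix (Fin n) (Fin 2) F := Matrix.of fun i j => ![u i, w i] j
  let Vt : Matrix (Fin 2) (Fin n) F :=
    Matrix.of fun j i => ![e / c * qb q (w i), e / c * (qb q (u i) - d / c * qb q (w i))] j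
  have happ : ∀ v, (1 + U * Vt) *ᵥ v = v + (e / c * Cfsg.hermForm n F q v w) • u +
      (e / c * (Cfsg.hermForm n F q v u - d / c * Cfsg.hermForm n F q v w)) • w := by
    intro v
    have hVt : Vt *ᵥ v = ![e / c * Cfsg.hermForm n F q v w,
        e / c * (Cfsg.hermForm n F q v u - d / c * Cfsg.hermForm n F q v w)] := by
      funext j
      fin_cases j <;>
        simp [Matrix.mulVec, dotProduct, Vt, H_eq, Finset.mul_sum, mul_sub, sub_mul, ← Finset.sum_sub_distrib] <;>
        exact Finset.sum_congr rfl fun i _ => by ring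
    have hU : ∀ z : Fin 2 → F, U *ᵥ z = z 0 • u + z 1 • w := fun z => by
      funext i
      simp [Matrix.mulVec, dotProduct, U, Fin.sum_univ_two, mul_comm]
    rw [Matrix.add_mulVec, Matrix.one_mulVec, ← Matrix.mulVec_mulVec, hVt, hU]
    simp [add_assoc]
  have hdet : (1 + U * Vt).det = x := by
    rw [Matrix.det_one_add_mul_comm, Matrix.det_fin_two]
    have hVU : ∀ v : Fin n → F, Vt *ᵥ v = ![e / c * Cfsg.hermForm n F q v w,
        e / c * (Cfsg.hermForm n F q v u - d / c * Cfsg.hermForm n F q v w)] := by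
      intro v
      funext j
      fin_cases j <;>
        simp [Matrix.mulVec, dotProduct, Vt, H_eq, Finset.mul_sum, mul_sub, sub_mul, ← Finset.sum_sub_distrib] <;>
        exact Finset.sum_congr rfl fun i _ => by ring
    have h0 : ∀ j, (Vt * U) j 0 = (Vt *ᵥ u) j := fun j => by simp [Matrix.mul_apply, Matrix.mulVec, dotProduct, U]
    have h1 : ∀ j, (Vt * U) j 1 = (Vt *ᵥ w) j := fun j => by simp [Matrix.mul_apply, Matrix.mulVec, dotProduct, U]
    simp only [Matrix.add_apply, h0, h1, hVU]
    simp [huw, hww, ← hd, ← hc]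
    field_simp
    rw [← hμ2, he]
    ring
  have hx0 : x ≠ 0 := fun h => by rw [h, zero_pow (by omega)] at hx; exact zero_ne_one hx
  obtain ⟨g, hg⟩ : ∃ g : GL (Fin n) F, g.1 = 1 + U * Vt :=
    (Matrix.isUnit_iff_isUnit_det _).2 (isUnit_iff_ne_zero.2 (by rw [hdet]; exact hx0))
  refine ⟨g, Cfsg.Agent.UnitaryOrder.mem_GU_iff.2 fun y z => ?_, Units.ext (Matrix.ext_iff_mulVec.2 fun v => ?_),
    by rw [hg, hdet]⟩
  · rw [hg, happ, happ]
    simp only [H_add_left, H_add_right, H_smul_left, H_smul_right, hww, huw, ← hd, ← hc, map_mul, map_sub,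
      map_div₀, hsc, hsd, H_flip]
    field_simp
    linear_combination c ^ 2 * (Cfsg.hermForm n F q y w * Cfsg.hermForm n F q u z * c +
      (Cfsg.hermForm n F q y u * c - d * Cfsg.hermForm n F q y w) * Cfsg.hermForm n F q w z) * hen
  · rw [Units.val_mul, Units.val_mul, hg, ← Matrix.mulVec_mulVec, ← Matrix.mulVec_mulVec]
    show (1 + U * Vt) *ᵥ (A *ᵥ v) = A *ᵥ ((1 + U * Vt) *ᵥ v)
    rw [happ, happ, hadj, hadj, hAw, hAu, H_add_right, Matrix.mulVec_add, Matrix.mulVec_add, Matrix.mulVec_smul,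
      Matrix.mulVec_smul, hAu, hAw]
    module

/-- Conjugacy of involutions in the special unitary group SU_n(q), q even, n ≥ 3, realised over the field F with q² elements as the matrices of determinant 1 preserving the form Σ u_i v_i^q: for two elements of order 2 of SU_n(q) the following are equivalent — they are conjugate in SU_n(q); they are conjugate in SL_n(F); the matrices a − 1 and b − 1 have the same rank. -/
theorem result {F : Type*} [Field F] [Fintype F] [CharP F 2] {n q : ℕ} (hF : Fintype.card F = q ^ 2) (hn : 3 ≤ n) (a b : ↥(Cfsg.SU n F q)) (ha : orderOf a = 2) (hb : orderOf b = 2) :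
    (IsConj a b ↔ IsConj (a : Matrix.SpecialLinearGroup (Fin n) F) (b : Matrix.SpecialLinearGroup (Fin n) F)) ∧
    (IsConj a b ↔ (((a : Matrix.SpecialLinearGroup (Fin n) F) : Matrix (Fin n) (Fin n) F) - 1).rank = (((b : Matrix.SpecialLinearGroup (Fin n) F) : Matrix (Fin n) (Fin n) F) - 1).rank) := by
  classical
  have ha' : orderOf (a : Matrix.SpecialLinearGroup (Fin n) F) = 2 := (Subgroup.orderOf_coe a).trans ha
  have hb' : orderOf (b : Matrix.SpecialLinearGroup (Fin n) F) = 2 := (Subgroup.orderOf_coe b).trans hb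
  have h62 := S2162.result hn (a : Matrix.SpecialLinearGroup (Fin n) F) (b : Matrix.SpecialLinearGroup (Fin n) F) ha' hb'
  have h1 : IsConj a b ↔ IsConj (a : Matrix.SpecialLinearGroup (Fin n) F) (b : Matrix.SpecialLinearGroup (Fin n) F) := by
    refine ⟨fun h => (Cfsg.SU n F q).subtype.map_isConj h, fun h => ?_⟩
    obtain ⟨c, hc⟩ := isConj_iff.1 h
    refine Cfsg.Agent.FormCentral.su_isConj hF a b (Matrix.SpecialLinearGroup.toGL c) ?_ (cent hF a ha)
    rw [← map_mul, ← map_mul, ← hc]
    congr 1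
    group
  exact ⟨h1, h1.trans h62⟩

end Cfsg.Agent.S2164
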