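import Cfsg.Statements.S2165
import Cfsg.Agent.Lib.Invol.SelMatrix
-- import your own Cfsg.Agent.* helpers here

set_option autoImplicit false
open Cfsg

namespace Cfsg.Agent.S2165

/-- The involution of `Fin n` exchanging the first `ℓ` and the last `ℓ` points. -/
def swapFun (n ℓ : ℕ) (i : Fin n) : Fin n :=
  if h : i.val < ℓ ∧ i.val + (n - ℓ) < n then ⟨i.val + (n - ℓ), h.2⟩
  else if n - ℓ ≤ i.val ∧ i.val - (n - ℓ) < ℓ then ⟨i.val - (n - ℓ), by omega⟩ else i

theorem swapFun_val {n ℓ : ℕ} (h2 : 2 * ℓ ≤ n) (i : Fin n) :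
    (swapFun n ℓ i).val =
      if i.val < ℓ then i.val + (n - ℓ) else if n - ℓ ≤ i.val then i.val - (n - ℓ) else i.val := by
  have := i.isLt
  unfold swapFun
  split_ifs <;> (try simp only) <;> omega

theorem swapFun_involutive {n ℓ : ℕ} (h2 : 2 * ℓ ≤ n) : Function.Involutive (swapFun n ℓ) := by
  intro i
  have := i.isLt
  apply Fin.ext
  rw [swapFun_val h2, swapFun_val h2]
  split_ifs <;> omega

/-- In SU_n(q), q even, n ≥ 3 (matrices of determinant 1 over the field with q² elements preserving Σ u_i v_i^q): for every ℓ with 1 ≤ ℓ and 2ℓ ≤ n, the permutation matrix of the involution of {0, …, n−1} exchanging i and n − ℓ + i for each i < ℓ lies in SU_n(q), has order 2, and differs from the identity by a matrix of rank ℓ. So every rank between 1 and n/2 occurs for involutions of SU_n(q). -/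
theorem result {F : Type*} [Field F] [Fintype F] [CharP F 2] {n q : ℕ} (hF : Fintype.card F = q ^ 2) (hn : 3 ≤ n) (ℓ : ℕ) (h1 : 1 ≤ ℓ) (h2 : 2 * ℓ ≤ n) :
    ∃ a : ↥(Cfsg.SU n F q), (((a : Matrix.SpecialLinearGroup (Fin n) F) : Matrix (Fin n) (Fin n) F) = Matrix.of (fun i j : Fin n => if (j.val < ℓ ∧ i.val = j.val + (n - ℓ)) ∨ (i.val < ℓ ∧ j.val = i.val + (n - ℓ)) ∨ (i = j ∧ ℓ ≤ i.val ∧ i.val < n - ℓ) then (1 : F) else 0)) ∧ orderOf a = 2 ∧ ((((a : Matrix.SpecialLinearGroup (Fin n) F) : Matrix (Fin n) (Fin n) F)) - 1).rank = ℓ := by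
  set σ : Equiv.Perm (Fin n) := (swapFun_involutive h2).toPerm with hσ
  have hσv : ∀ i, σ i = swapFun n ℓ i := fun i => rfl
  have hσσ : σ * σ = 1 := Equiv.ext fun i => swapFun_involutive h2 i
  set M : Matrix (Fin n) (Fin n) F := σ.permMatrix F with hM
  have hMM : M * M = 1 := by rw [hM, ← Matrix.permMatrix_mul, hσσ, Matrix.permMatrix_one]
  have hMdet : M.det = 1 := by
    rw [hM, Matrix.det_permutation]
    rcases Int.units_eq_one_or (Equiv.Perm.sign σ) with h | h <;> simp [h, CharTwo.neg_eq]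
  have hentry : M = Matrix.of (fun i j : Fin n => if (j.val < ℓ ∧ i.val = j.val + (n - ℓ)) ∨ (i.val < ℓ ∧ j.val = i.val + (n - ℓ)) ∨ (i = j ∧ ℓ ≤ i.val ∧ i.val < n - ℓ) then (1 : F) else 0) := by
    ext i j
    have := i.isLt
    have := j.isLt
    rw [hM, Equiv.Perm.permMatrix, PEquiv.toMatrix_apply, Matrix.of_apply, Equiv.toPEquiv_apply]
    congr 1
    apply propext
    simp only [Option.mem_def, Option.some.injEq, Fin.ext_iff, hσv, swapFun_val h2]
    split_ifs <;> omega
  let C : Matrix (Fin n) (Fin ℓ) F := SelMatrix.sel F n ℓ 0 + SelMatrix.sel F n ℓ (n - ℓ)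
  have hdecomp : M - 1 = C * Matrix.transpose C := by
    rw [hentry]
    ext i j
    have := i.isLt
    have := j.isLt
    simp only [C, Matrix.transpose_add, Matrix.add_mul, Matrix.mul_add, Matrix.add_apply, Matrix.sub_apply,
      SelMatrix.sel_mul_transpose, Matrix.of_apply, Matrix.one_apply, Fin.ext_iff, sub_eq_add_neg, CharTwo.neg_eq]
    split_ifs <;> first | (exfalso; omega) | simp [CharTwo.add_self_eq_zero]
  have hrank : (M - 1).rank = ℓ := by
    rw [hdecomp]
    have hL : Matrix.transpose (SelMatrix.sel F n ℓ 0) * C = 1 := by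
      rw [Matrix.mul_add, SelMatrix.sel_transpose_mul_self _ (by omega),
        SelMatrix.sel_transpose_mul_disjoint _ _ (by omega), add_zero]
    refine SelMatrix.rank_mul_eq (SelMatrix.sel F n ℓ 0) (SelMatrix.sel F n ℓ 0) hL ?_
    have := congrArg Matrix.transpose hL
    simpa using this
  have hmem : (⟨M, hMdet⟩ : Matrix.SpecialLinearGroup (Fin n) F) ∈ Cfsg.SU n F q := by
    intro u v
    show Cfsg.hermForm n F q (Matrix.mulVec M u) (Matrix.mulVec M v) = Cfsg.hermForm n F q u v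
    rw [hM, Matrix.permMatrix_mulVec, Matrix.permMatrix_mulVec]
    exact Equiv.sum_comp σ (fun i => u i * v i ^ q)
  refine ⟨⟨⟨M, hMdet⟩, hmem⟩, hentry, ?_, hrank⟩
  refine orderOf_eq_prime ?_ ?_
  · apply Subtype.ext; apply Subtype.ext
    show M ^ 2 = 1
    rw [pow_two, hMM]
  · intro h
    have h' : M = 1 := congrArg (fun a : ↥(Cfsg.SU n F q) => ((a : Matrix.SpecialLinearGroup (Fin n) F) : Matrix (Fin n) (Fin n) F)) h
    rw [h', sub_self, Matrix.rank_zero] at hrank
    omega

end Cfsg.Agent.S2165
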