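import Cfsg.Statements.S2166
import Cfsg.Agent.Lib.Forms.SpInvolTwo
import Cfsg.Agent.Lib.Forms.Sp

set_option autoImplicit false
open Cfsg

namespace Cfsg.Agent.S2166

open scoped Matrix
open Cfsg.Agent.FormsLib

theorem conj {F : Type*} [Field F] [Fintype F] [CharP F 2] {m : ℕ}
    (hfun : ∀ (A : Matrix (Fin m ⊕ Fin m) (Fin m ⊕ Fin m) F) v,
      Cfsg.sympForm m F v (A *ᵥ v) = spB m F ((A - 1) *ᵥ v) v)
    (a b : ↥(Matrix.symplecticGroup (Fin m) F)) (ha : orderOf a = 2) (hb : orderOf b = 2)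
    (hrank : (a.1 - 1).rank = (b.1 - 1).rank)
    (hcard : Even (a.1 - 1).rank → Nat.card {v : Fin m ⊕ Fin m → F // Cfsg.sympForm m F v (a.1 *ᵥ v) = 0} =
      Nat.card {v : Fin m ⊕ Fin m → F // Cfsg.sympForm m F v (b.1 *ᵥ v) = 0}) : IsConj a b := by
  classical
  let N : Matrix.symplecticGroup (Fin m) F → Module.End F (Fin m ⊕ Fin m → F) := fun c => (c.1 - 1).mulVecLin
  have props : ∀ c : Matrix.symplecticGroup (Fin m) F, orderOf c = 2 →
      (∀ u v, spB m F (N c u) v = spB m F u (N c v)) ∧ ∀ u, N c (N c u) = 0 := by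
    intro c hc
    have hcc : c.1 * c.1 = 1 := congrArg Subtype.val
      (show c * c = 1 by rw [← pow_two, ← hc]; exact pow_orderOf_eq_one c)
    have hadj : ∀ u v, spB m F (c.1 *ᵥ u) v = spB m F u (c.1 *ᵥ v) := fun u v => by
      rw [← (mem_symplectic_iff c.1).1 c.2 (c.1 *ᵥ u) v, Matrix.mulVec_mulVec, hcc, Matrix.one_mulVec]
    refine ⟨fun u v => ?_, fun u => ?_⟩
    · simp only [N, Matrix.mulVecLin_apply, Matrix.one_mulVec, map_sub, LinearMap.sub_apply, hadj]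
    · simp only [N, Matrix.mulVecLin_apply]
      rw [Matrix.mulVec_mulVec]
      have : (c.1 - 1) * (c.1 - 1) = 0 := by
        have h2 : (2 : F) = 0 := CharTwo.two_eq_zero
        simp only [mul_sub, sub_mul, hcc, mul_one, one_mul]
        linear_combination (norm := module) h2 • (1 - c.1)
      rw [this, Matrix.zero_mulVec]
  obtain ⟨haN, haN2⟩ := props a ha
  obtain ⟨hbN, hbN2⟩ := props b hb
  have hq : ∀ c v, Cfsg.sympForm m F v (c.1 *ᵥ v) = spB m F (N c v) v := fun c v => hfun c.1 v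
  have hda := SpInvolTwo.exists_data spB_alt spB_nondeg haN (a.1 - 1).rank rfl
  have hdb := SpInvolTwo.exists_data spB_alt spB_nondeg hbN (a.1 - 1).rank hrank.symm
  have witt : ∀ (X : Submodule F (Fin m ⊕ Fin m → F)) (φ : X →ₗ[F] (Fin m ⊕ Fin m → F)), Function.Injective φ →
      (∀ x y, spB m F (φ x) (φ y) = spB m F (x : Fin m ⊕ Fin m → F) (y : Fin m ⊕ Fin m → F)) →
      ∃ g : (Fin m ⊕ Fin m → F) ≃ₗ[F] (Fin m ⊕ Fin m → F), (∀ u v, spB m F (g u) (g v) = spB m F u v) ∧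
        ∀ x : X, g x = φ x := by
    intro X φ h1 h2
    obtain ⟨g, hg, hgx⟩ := spB_trace.witt X φ h1 h2
    exact ⟨g, hg, hgx⟩
  suffices h : ∃ g : (Fin m ⊕ Fin m → F) ≃ₗ[F] (Fin m ⊕ Fin m → F), (∀ u v, spB m F (g u) (g v) = spB m F u v) ∧
      ∀ v, g (N a v) = N b (g v) by
    obtain ⟨g, hg, hgN⟩ := h
    refine isConj_iff.2 ⟨(spEquiv m F).symm ⟨g, hg⟩, mul_inv_eq_iff_eq_mul.2 (Subtype.ext
      (Matrix.ext_iff_mulVec.2 fun v => ?_))⟩
    rw [Submonoid.coe_mul, Submonoid.coe_mul, ← Matrix.mulVec_mulVec, ← Matrix.mulVec_mulVec,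
      spEquiv_symm_mulVec, spEquiv_symm_mulVec]
    have h1 := hgN v
    change g ((a.1 - 1) *ᵥ v) = (b.1 - 1) *ᵥ g v at h1
    rw [Matrix.sub_mulVec, Matrix.sub_mulVec, Matrix.one_mulVec, Matrix.one_mulVec, map_sub, sub_left_inj] at h1
    exact h1
  -- the two types agree
  have htype : (∀ v, spB m F (N a v) v = 0) ↔ ∀ v, spB m F (N b v) v = 0 := by
    have hall : ∀ c, (∀ v, spB m F (N c v) v = 0) ↔
        Nat.card {v : Fin m ⊕ Fin m → F // Cfsg.sympForm m F v (c.1 *ᵥ v) = 0} = Nat.card (Fin m ⊕ Fin m → F) := by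
      intro c
      refine ⟨fun h => Nat.card_congr (Equiv.subtypeUnivEquiv fun v => (hq c v).trans (h v)), fun h v => ?_⟩
      obtain ⟨⟨w, hw⟩, hwv⟩ := ((Function.Injective.bijective_of_nat_card_le
        (f := fun w : {v : Fin m ⊕ Fin m → F // Cfsg.sympForm m F v (c.1 *ᵥ v) = 0} => w.1)
        Subtype.val_injective h.ge)).2 v
      rw [← hq, ← hwv]
      exact hw
    constructor
    · intro h
      obtain ⟨k, -, hk, -⟩ := hda.2 h
      rw [hall, ← hcard ⟨k, hk⟩, ← hall]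
      exact h
    · intro h
      obtain ⟨k, -, hk, -⟩ := hdb.2 h
      rw [hall, hcard ⟨k, hk⟩, ← hall]
      exact h
  by_cases hcase : ∀ v, spB m F (N a v) v = 0
  · obtain ⟨k, x, hk, hx, hsx⟩ := hda.2 hcase
    obtain ⟨k', y, hk', hy, hsy⟩ := hdb.2 (htype.1 hcase)
    obtain rfl : k = k' := by omega
    set σ := finSumFinEquiv (m := k) (n := k)
    refine SpInvolTwo.exists_intertwine spB_alt spB_nondeg haN haN2 hbN hbN2 (x ∘ σ.symm) (y ∘ σ.symm)
      ((Matrix.fromBlocks (0 : Matrix (Fin k) (Fin k) F) 1 1 0).submatrix σ.symm σ.symm) ?_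
      (fun i j => hx _ _) (fun i j => hy _ _) (fun v => ?_) (fun v => ?_) witt
    · rw [Matrix.submatrix_mul_equiv, Matrix.fromBlocks_multiply]
      simp
    · obtain ⟨c, hc⟩ := hsx v
      exact ⟨c ∘ σ.symm, hc.trans (Fintype.sum_equiv σ _ _ fun i => by simp)⟩
    · obtain ⟨c, hc⟩ := hsy v
      exact ⟨c ∘ σ.symm, hc.trans (Fintype.sum_equiv σ _ _ fun i => by simp)⟩
  · have hb' : ∃ v, spB m F (N b v) v ≠ 0 := not_forall.1 (fun h => hcase (htype.2 h))
    obtain ⟨x, hx, hsx⟩ := hda.1 (not_forall.1 hcase)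
    obtain ⟨y, hy, hsy⟩ := hdb.1 hb'
    exact SpInvolTwo.exists_intertwine spB_alt spB_nondeg haN haN2 hbN hbN2 x y 1 (mul_one 1)
      (fun i j => by rw [hx, Matrix.one_apply]) (fun i j => by rw [hy, Matrix.one_apply]) hsx hsy witt

/-- Conjugacy of involutions in the symplectic group Sp_{2m}(F), F a finite field of characteristic two, m ≥ 2 (Sp taken as the matrices A with A J Aᵀ = J, acting on column vectors, with the alternating form f(u, v) = u ⬝ (J v)). For an involution t write V(t) for the set of vectors v with f(v, t v) = 0 (a subspace). Two involutions a, b are conjugate in Sp_{2m}(F) exactly when a − 1 and b − 1 have the same rank and, in case that rank is even, V(a) and V(b) have the same number of elements. -/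
theorem result {F : Type*} [Field F] [Fintype F] [CharP F 2] {m : ℕ} (hm : 2 ≤ m) (a b : ↥(Matrix.symplecticGroup (Fin m) F)) (ha : orderOf a = 2) (hb : orderOf b = 2) :
    IsConj a b ↔ ((((a : ↥(Matrix.symplecticGroup (Fin m) F)) : Matrix (Fin m ⊕ Fin m) (Fin m ⊕ Fin m) F) - 1).rank = (((b : ↥(Matrix.symplecticGroup (Fin m) F)) : Matrix (Fin m ⊕ Fin m) (Fin m ⊕ Fin m) F) - 1).rank ∧
      (Even (((a : ↥(Matrix.symplecticGroup (Fin m) F)) : Matrix (Fin m ⊕ Fin m) (Fin m ⊕ Fin m) F) - 1).rank → Nat.card {v : Fin m ⊕ Fin m → F // Cfsg.sympForm m F v (Matrix.mulVec ((a : ↥(Matrix.symplecticGroup (Fin m) F)) : Matrix (Fin m ⊕ Fin m) (Fin m ⊕ Fin m) F) v) = 0} = Nat.card {v : Fin m ⊕ Fin m → F // Cfsg.sympForm m F v (Matrix.mulVec ((b : ↥(Matrix.symplecticGroup (Fin m) F)) : Matrix (Fin m ⊕ Fin m) (Fin m ⊕ Fin m) F) v) = 0})) := by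
  classical
  have hfun : ∀ (A : Matrix (Fin m ⊕ Fin m) (Fin m ⊕ Fin m) F) v, Cfsg.sympForm m F v (A *ᵥ v) = spB m F ((A - 1) *ᵥ v) v := by
    intro A v
    rw [Cfsg.sympForm, ← spB_apply, Matrix.sub_mulVec, Matrix.one_mulVec, map_sub, LinearMap.sub_apply, spB_alt v, sub_zero,
      SpInvolTwo.pair_symm spB_alt]
  constructor
  · intro h
    obtain ⟨g, hg⟩ := isConj_iff.1 h
    have hgg : (g : Matrix (Fin m ⊕ Fin m) (Fin m ⊕ Fin m) F) * a.1 = b.1 * g.1 := by
      have := congrArg Subtype.val (mul_inv_eq_iff_eq_mul.1 hg)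
      simpa using this
    have hu : IsUnit g.1.det := by rw [SymplecticGroup.det_eq_one g.2]; exact isUnit_one
    have e : g.1 * (a.1 - 1) = (b.1 - 1) * g.1 := by rw [mul_sub, sub_mul, hgg, mul_one, one_mul]
    refine ⟨?_, fun _ => ?_⟩
    · have h1 := congrArg Matrix.rank e
      rwa [Matrix.rank_mul_eq_right_of_isUnit_det _ _ hu, Matrix.rank_mul_eq_left_of_isUnit_det _ _ hu] at h1
    · have hinv : ∀ v, (g⁻¹).1 *ᵥ (g.1 *ᵥ v) = v := fun v => by
        rw [Matrix.mulVec_mulVec, ← Submonoid.coe_mul, inv_mul_cancel, Submonoid.coe_one, Matrix.one_mulVec]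
      have hinv' : ∀ v, g.1 *ᵥ ((g⁻¹).1 *ᵥ v) = v := fun v => by
        rw [Matrix.mulVec_mulVec, ← Submonoid.coe_mul, mul_inv_cancel, Submonoid.coe_one, Matrix.one_mulVec]
      let E : (Fin m ⊕ Fin m → F) ≃ (Fin m ⊕ Fin m → F) :=
        ⟨fun v => g.1 *ᵥ v, fun v => (g⁻¹).1 *ᵥ v, hinv, hinv'⟩
      refine Nat.card_congr (E.subtypeEquiv fun v => ?_)
      show _ ↔ Cfsg.sympForm m F (g.1 *ᵥ v) (b.1 *ᵥ (g.1 *ᵥ v)) = 0
      rw [hfun, hfun, Matrix.mulVec_mulVec, ← e, ← Matrix.mulVec_mulVec,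
        (mem_symplectic_iff g.1).1 g.2]
  · rintro ⟨hrank, hcard⟩
    exact conj hfun a b ha hb hrank hcard

end Cfsg.Agent.S2166
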