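import Cfsg.Statements.S2167
import Cfsg.Agent.Lib.Forms.Alt
-- import your own Cfsg.Agent.* helpers here

set_option autoImplicit false
open Cfsg

namespace Cfsg.Agent.S2167

open Matrix

lemma even_finrank_sub_ker {F : Type*} [Field F] {V : Type*} [AddCommGroup V] [Module F V]
    [FiniteDimensional F V] {B : LinearMap.BilinForm F V} (hA : LinearMap.IsAlt B) :
    Even (Module.finrank F V - Module.finrank F (LinearMap.ker B)) := by
  obtain ⟨m, k, b, hef, hee, hff, hrad⟩ := FormsLib.exists_symplectic_basis hA
  have hker : LinearMap.ker B = Submodule.span F (Set.range fun j => b (.inr j)) := by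
    apply le_antisymm
    · intro v hv
      have hv' : ∀ w, B v w = 0 := fun w => by rw [LinearMap.mem_ker.1 hv]; rfl
      have hfe : ∀ i j, B (b (.inl (.inr i))) (b (.inl (.inl j))) = if i = j then -1 else 0 := by
        intro i j
        rw [FormsLib.alt_swap hA (b (.inl (.inl j))) (b (.inl (.inr i))), hef]
        rcases eq_or_ne i j with h | h
        · simp [h]
        · simp [h, h.symm]
      have hswap : ∀ j w, B w (b (.inr j)) = 0 := fun j w => by
        rw [FormsLib.alt_swap hA (b (.inr j)) w, hrad, neg_zero]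
      have h1 : ∀ i, b.repr v (.inl (.inl i)) = 0 := fun i => by
        have h : B (∑ x, b.repr v x • b x) (b (.inl (.inr i))) = 0 := by
          rw [b.sum_repr v]; exact hv' _
        simpa [-Module.Basis.sum_repr, map_sum, Fintype.sum_sum_type, hef, hff, hrad] using h
      have h2 : ∀ i, b.repr v (.inl (.inr i)) = 0 := fun i => by
        have h : B (∑ x, b.repr v x • b x) (b (.inl (.inl i))) = 0 := by
          rw [b.sum_repr v]; exact hv' _
        simpa [-Module.Basis.sum_repr, map_sum, Fintype.sum_sum_type, hfe, hee, hrad] using h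
      rw [← b.sum_repr v]
      refine Submodule.sum_mem _ fun x _ => ?_
      rcases x with (i | i) | j
      · simp [h1]
      · simp [h2]
      · exact Submodule.smul_mem _ _ (Submodule.subset_span ⟨j, rfl⟩)
    · rw [Submodule.span_le]
      rintro _ ⟨j, rfl⟩
      exact LinearMap.ext (hrad j)
  rw [hker, show (fun j => b (Sum.inr j)) = ⇑b ∘ Sum.inr from rfl,
    finrank_span_eq_card (b.linearIndependent.comp _ Sum.inr_injective),
    Module.finrank_eq_card_basis b]
  simp


/-- For an involution t of the symplectic group Sp_{2m}(F), m ≥ 2, F a finite field of characteristic two (matrices A with A J Aᵀ = J acting on column vectors, alternating form f(u, v) = u ⬝ (J v)): the set V(t) of vectors v with f(v, t v) = 0 has either q^{2m} or q^{2m−1} elements, q the order of F (it is a subspace of codimension at most 1), and if it is the whole space then t − 1 has even rank. -/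
theorem result {F : Type*} [Field F] [Fintype F] [CharP F 2] {m : ℕ} (hm : 2 ≤ m) (a : ↥(Matrix.symplecticGroup (Fin m) F)) (ha : orderOf a = 2) :
    (Nat.card {v : Fin m ⊕ Fin m → F // Cfsg.sympForm m F v (Matrix.mulVec ((a : ↥(Matrix.symplecticGroup (Fin m) F)) : Matrix (Fin m ⊕ Fin m) (Fin m ⊕ Fin m) F) v) = 0} = Fintype.card F ^ (2 * m) ∨ Nat.card {v : Fin m ⊕ Fin m → F // Cfsg.sympForm m F v (Matrix.mulVec ((a : ↥(Matrix.symplecticGroup (Fin m) F)) : Matrix (Fin m ⊕ Fin m) (Fin m ⊕ Fin m) F) v) = 0} * Fintype.card F = Fintype.card F ^ (2 * m)) ∧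
    ((∀ v : Fin m ⊕ Fin m → F, Cfsg.sympForm m F v (Matrix.mulVec ((a : ↥(Matrix.symplecticGroup (Fin m) F)) : Matrix (Fin m ⊕ Fin m) (Fin m ⊕ Fin m) F) v) = 0) → Even (((a : ↥(Matrix.symplecticGroup (Fin m) F)) : Matrix (Fin m ⊕ Fin m) (Fin m ⊕ Fin m) F) - 1).rank) := by
  classical
  set A : Matrix (Fin m ⊕ Fin m) (Fin m ⊕ Fin m) F := Subtype.val a with hA
  set f := Cfsg.sympForm m F with hf
  have hpres : ∀ u v, f (A *ᵥ u) (A *ᵥ v) = f u v := by
    intro u v
    have h := SymplecticGroup.mem_iff'.1 a.2
    simp only [hf, Cfsg.sympForm]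
    rw [← vecMul_transpose A u, ← dotProduct_mulVec,
      mulVec_mulVec, mulVec_mulVec, h]
  have hA2 : A * A = 1 := by
    have h : a * a = 1 := by rw [← pow_two, ← ha]; exact pow_orderOf_eq_one a
    exact congrArg Subtype.val h
  have hswap : ∀ u v, f u v = f v u := by
    intro u v
    simp only [hf, Cfsg.sympForm]
    rw [dotProduct_mulVec, ← mulVec_transpose, dotProduct_comm, Matrix.J_transpose]
    rw [neg_mulVec, dotProduct_neg, CharTwo.neg_eq]
  have hself : ∀ v, f v v = 0 := by
    intro v
    simp only [hf, Cfsg.sympForm, dotProduct, Matrix.J, mulVec, Fintype.sum_sum_type,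
      Matrix.fromBlocks_apply₁₁, Matrix.fromBlocks_apply₁₂, Matrix.fromBlocks_apply₂₁,
      Matrix.fromBlocks_apply₂₂, Matrix.zero_apply, Matrix.neg_apply, Matrix.one_apply,
      zero_mul, Finset.sum_const_zero, zero_add, add_zero, CharTwo.neg_eq]
    simp only [ite_mul, one_mul, zero_mul, Finset.sum_ite_eq, Finset.mem_univ, if_true]
    rw [← Finset.sum_add_distrib]
    exact Finset.sum_eq_zero fun i _ => by rw [mul_comm]; exact CharTwo.add_self_eq_zero _
  have hadd_left : ∀ u u' v, f (u + u') v = f u v + f u' v := fun u u' v => add_dotProduct _ _ _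
  have hadd_right : ∀ u v v', f u (v + v') = f u v + f u v' := fun u v v' => by
    simp only [hf, Cfsg.sympForm, mulVec_add, dotProduct_add]
  have hQadd : ∀ u v, f (u + v) (A *ᵥ (u + v)) = f u (A *ᵥ u) + f v (A *ᵥ v) := by
    intro u v
    have h1 : f v (A *ᵥ u) = f u (A *ᵥ v) := by
      have h := hpres v (A *ᵥ u)
      rw [mulVec_mulVec, hA2, one_mulVec] at h
      rw [← h, hswap]
    rw [mulVec_add, hadd_left, hadd_right, hadd_right, h1]
    have h0 : f u (A *ᵥ v) + f u (A *ᵥ v) = 0 := CharTwo.add_self_eq_zero _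
    linear_combination h0
  let Q : (Fin m ⊕ Fin m → F) →+ F := AddMonoidHom.mk' (fun v => f v (A *ᵥ v)) hQadd
  have hsmul : ∀ (c : F) v, Q (c • v) = c ^ 2 * Q v := by
    intro c v
    simp only [Q, AddMonoidHom.mk'_apply, hf, Cfsg.sympForm, mulVec_smul, dotProduct_smul,
      smul_dotProduct, smul_eq_mul]
    ring
  have hV : Nat.card (Fin m ⊕ Fin m → F) = Fintype.card F ^ (2 * m) := by
    simp [two_mul]
  refine ⟨?_, fun hall => ?_⟩
  · by_cases hz : ∀ v, Q v = 0
    · left
      rw [← hV]
      exact Nat.card_congr ((Equiv.subtypeUnivEquiv hz))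
    · right
      push Not at hz
      obtain ⟨v0, hv0⟩ := hz
      have hr : Q.range = ⊤ := by
        rw [AddMonoidHom.range_eq_top]
        intro x
        obtain ⟨c, hc⟩ := FiniteField.isSquare_of_char_two (ringChar.eq F 2) (x / Q v0)
        refine ⟨c • v0, ?_⟩
        rw [hsmul, pow_two, ← hc, div_mul_cancel₀ x hv0]
      have h := Q.ker.card_mul_index
      rw [AddSubgroup.index_ker, hr, hV] at h
      rw [← h, AddSubgroup.card_top, Nat.card_eq_fintype_card (α := F)]
      rfl
  · let B : LinearMap.BilinForm F (Fin m ⊕ Fin m → F) :=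
      Matrix.toBilin' (Matrix.J (Fin m) F * (A - 1))
    have hB : ∀ u v, B u v = f u ((A - 1) *ᵥ v) := fun u v => by
      simp only [B, Matrix.toBilin'_apply', hf, Cfsg.sympForm, mulVec_mulVec]
    have halt : LinearMap.IsAlt B := fun v => by
      rw [hB, sub_mulVec, one_mulVec]
      have h : f v (A *ᵥ v - v) = f v (A *ᵥ v) - f v v := by
        simp only [hf, Cfsg.sympForm, mulVec_sub, dotProduct_sub]
      rw [h, hall v, hself, sub_zero]
    have hk : LinearMap.ker B = LinearMap.ker (A - 1).mulVecLin := by
      ext w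
      rw [LinearMap.mem_ker, LinearMap.mem_ker, mulVecLin_apply]
      constructor
      · intro h
        have h' : (Matrix.J (Fin m) F) *ᵥ ((A - 1) *ᵥ w) = 0 := dotProduct_eq_zero _ fun u => by
          rw [dotProduct_comm]
          show f u ((A - 1) *ᵥ w) = 0
          rw [← hB, FormsLib.alt_swap halt w u, h]
          simp
        have h'' := congrArg (Matrix.J (Fin m) F *ᵥ ·) h'
        simp only [mulVec_mulVec, ← mul_assoc, Matrix.J_squared, mulVec_zero] at h''
        rw [neg_mul, one_mul, neg_mulVec, neg_eq_zero] at h''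
        exact h''
      · intro h
        refine LinearMap.ext fun u => ?_
        rw [FormsLib.alt_swap halt u w, hB, h]
        simp [hf, Cfsg.sympForm]
    have hev := even_finrank_sub_ker halt
    rw [hk] at hev
    have := LinearMap.finrank_range_add_finrank_ker (A - 1).mulVecLin
    rw [Matrix.rank]
    convert hev using 1
    omega

end Cfsg.Agent.S2167
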