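import Cfsg.Statements.S2173
import Cfsg.Agent.Lib.Spinor.Char2Invol
import Cfsg.Agent.Lib.LinearGroups.OrthForms
import Cfsg.Agent.Lib.Spinor.TSMinus
-- import your own Cfsg.Agent.* helpers here

set_option autoImplicit false
open Cfsg

namespace Cfsg.Agent.S2173

/-- For the quadratic form Σ x_i y_i + (z₁² + c z₁ z₂ + d z₂²) in dimension 2m with anisotropic binary part over a finite field F of characteristic two, m ≥ 4 (minus type): two involutions of the commutator subgroup Ω that are conjugate in the full isometry group O are conjugate by an element of Ω (no class of involutions of O inside Ω splits). -/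
theorem result {F : Type*} [Field F] [Fintype F] [CharP F 2] {m : ℕ} (hm : 4 ≤ m) (c d : F) (hcd : ∀ z₁ z₂ : F, z₁ ^ 2 + c * z₁ * z₂ + d * z₂ ^ 2 = 0 → z₁ = 0 ∧ z₂ = 0) (t s : ↥(Cfsg.isometryGroup F (Cfsg.quadFormMinus (m - 1) F c d))) (ht : orderOf t = 2) (hs : orderOf s = 2) (htO : t ∈ Cfsg.Omega F (Cfsg.quadFormMinus (m - 1) F c d)) (hsO : s ∈ Cfsg.Omega F (Cfsg.quadFormMinus (m - 1) F c d)) (hconj : IsConj t s) :
    ∃ g ∈ Cfsg.Omega F (Cfsg.quadFormMinus (m - 1) F c d), g * t * g⁻¹ = s := by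
  obtain ⟨Q, hq, hQ⟩ := OrthForms.exists_qMinus (m - 1) c d hcd
  have hexc : Fintype.card F ≠ 2 ∨ Fintype.card ((Fin (m - 1) ⊕ Fin (m - 1)) ⊕ Fin 2) ≠ 4 := Or.inr (by simp; omega)
  have hcard : Fintype.card ((Fin (m - 1) ⊕ Fin (m - 1)) ⊕ Fin 2) = 2 * m := by simp; omega
  have hts := fun T hT => Spinor.minus_ts_finrank_le (k := m - 1) c d hcd T hT
  revert t s hts
  rw [← hq]
  intro t s ht hs htO hsO hconj hts
  have ht' : t * t = 1 := (pow_two t).symm.trans (orderOf_dvd_iff_pow_eq_one.1 (dvd_of_eq ht))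
  obtain ⟨v, hv, htv⟩ := OrthChar2.exists_fixed_nonsingular hQ hcard t ht' fun h => by
    have hle := hts (LinearMap.range (Matrix.toLin' ((t.1 : Matrix ((Fin (m - 1) ⊕ Fin (m - 1)) ⊕ Fin 2) ((Fin (m - 1) ⊕ Fin (m - 1)) ⊕ Fin 2) F) - 1))) (by
      rintro _ ⟨y, rfl⟩
      rw [Matrix.toLin'_apply, Matrix.sub_mulVec, Matrix.one_mulVec, ← h.2 y]
      congr 1
      have h2 : (2 : F) = 0 := CharTwo.two_eq_zero
      funext i
      simp only [Pi.add_apply, Pi.sub_apply]
      linear_combination -(y i) * h2)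
    rw [Matrix.toLin'_apply'] at hle
    have := h.1
    unfold Matrix.rank at this
    exact absurd (this.symm.trans_le hle) (by omega)
  exact OrthChar2.exists_omega_conj hQ hexc hconj hv htv

end Cfsg.Agent.S2173
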