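import Cfsg.Statements.S2177
import Cfsg.Agent.Lib.Chev.Invol2.G2Main

set_option autoImplicit false
open Cfsg
open Cfsg.Agent Cfsg.Agent.Chev

namespace Cfsg.Agent.S2177

/-- Conjugacy classes of involutions in the Chevalley group of type G₂ over a finite field F of characteristic two with at least four elements (the matrix group generated by the root elements x_r(t)). In this problem's root numbering for type G₂ (the Chevalley data module; p₁ = a short, p₂ = b long; roots indexed by coefficient vectors in increasing order) let 11 be the highest root 3a + 2b (long) and 9 the short root 2a + b; consider x_{3a+2b}(1) and x_{2a+b}(1). Then: each invertible matrix equal to one of these two products lies in the group and has order 2; every element of order 2 of the group is conjugate in the group to one of them; and no two of them are conjugate in the group (so, the two matrices being distinct, the group has exactly two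 conjugacy classes of involutions). -/
theorem result {F : Type*} [Field F] [Fintype F] [CharP F 2] (hF : 4 ≤ Fintype.card F) :
    (∀ y : GL Cfsg.Lie.chevG2.Idx F, ((y : GL Cfsg.Lie.chevG2.Idx F) : Matrix Cfsg.Lie.chevG2.Idx Cfsg.Lie.chevG2.Idx F) ∈ [Cfsg.Lie.chevG2.x F 11 1, Cfsg.Lie.chevG2.x F 9 1] → y ∈ Cfsg.Lie.chevG2.group F ∧ orderOf y = 2) ∧
    (∀ g ∈ Cfsg.Lie.chevG2.group F, orderOf g = 2 → ∃ y ∈ Cfsg.Lie.chevG2.group F, ((y : GL Cfsg.Lie.chevG2.Idx F) : Matrix Cfsg.Lie.chevG2.Idx Cfsg.Lie.chevG2.Idx F) ∈ [Cfsg.Lie.chevG2.x F 11 1, Cfsg.Lie.chevG2.x F 9 1] ∧ ∃ h ∈ Cfsg.Lie.chevG2.group F, h * g * h⁻¹ = y) ∧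
    (∀ y₁ ∈ Cfsg.Lie.chevG2.group F, ∀ y₂ ∈ Cfsg.Lie.chevG2.group F, ((y₁ : GL Cfsg.Lie.chevG2.Idx F) : Matrix Cfsg.Lie.chevG2.Idx Cfsg.Lie.chevG2.Idx F) ∈ [Cfsg.Lie.chevG2.x F 11 1, Cfsg.Lie.chevG2.x F 9 1] → ((y₂ : GL Cfsg.Lie.chevG2.Idx F) : Matrix Cfsg.Lie.chevG2.Idx Cfsg.Lie.chevG2.Idx F) ∈ [Cfsg.Lie.chevG2.x F 11 1, Cfsg.Lie.chevG2.x F 9 1] →
      (∃ h ∈ Cfsg.Lie.chevG2.group F, h * y₁ * h⁻¹ = y₂) → ((y₁ : GL Cfsg.Lie.chevG2.Idx F) : Matrix Cfsg.Lie.chevG2.Idx Cfsg.Lie.chevG2.Idx F) = ((y₂ : GL Cfsg.Lie.chevG2.Idx F) : Matrix Cfsg.Lie.chevG2.Idx Cfsg.Lie.chevG2.Idx F)) := by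
  haveI : Fact (Nat.Prime 2) := ⟨Nat.prime_two⟩
  have key : ∀ y : GL Cfsg.Lie.chevG2.Idx F,
      ((y : Matrix Cfsg.Lie.chevG2.Idx Cfsg.Lie.chevG2.Idx F) ∈ [Cfsg.Lie.chevG2.x F 11 1, Cfsg.Lie.chevG2.x F 9 1]) ↔
        y = G2.ok.xG 11 1 ∨ y = G2.ok.xG 9 1 := by
    intro y
    simp only [List.mem_cons, List.not_mem_nil, or_false, G2.ok.eq_xG_iff]
  refine ⟨fun y hy => ?_, fun g hg ho => ?_, fun y₁ _ y₂ _ h1 h2 hc => ?_⟩
  · obtain ⟨r, hr, rfl⟩ : ∃ r, r < G2.pk.nroots ∧ y = G2.ok.xG r 1 := by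
      rcases (key y).1 hy with e | e
      · exact ⟨11, by decide +kernel, e⟩
      · exact ⟨9, by decide +kernel, e⟩
    refine ⟨G2.ok.mem_group_of_xG _ _, orderOf_eq_prime (by rw [pow_two]; exact G2.ok.xG_two r 1) fun e => ?_⟩
    rw [← G2.ok.xG_zero r] at e
    exact one_ne_zero (G2.ok.xG_inj_param hr e)
  · obtain ⟨r, hr, x, hx, e⟩ := G2Inv.exists_class hg ho
    refine ⟨G2.ok.xG r 1, G2.ok.mem_group_of_xG _ _, (key _).2 ?_, x, hx, e⟩
    simp only [List.mem_cons, List.not_mem_nil, or_false] at hr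
    rcases hr with rfl | rfl
    · exact Or.inl rfl
    · exact Or.inr rfl
  · obtain ⟨h, hh, e⟩ := hc
    rcases (key y₁).1 h1 with rfl | rfl <;> rcases (key y₂).1 h2 with rfl | rfl
    · rfl
    · exact absurd e (G2Inv.not_conj hh)
    · refine absurd ?_ (G2Inv.not_conj (inv_mem hh))
      rw [← e]; group
    · rfl

end Cfsg.Agent.S2177
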