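import Cfsg.Statements.S2179
import Cfsg.Agent.Lib.Chev.AllC
import Cfsg.Agent.Lib.Chev.Cent2

set_option autoImplicit false
open Cfsg

namespace Cfsg.Agent.S2179

def dW : Chev.CData := ⟨[(47, 1), (44, 1)], [47, 44], [1, 2], [], [(0, [0, 1]), (3, [1, 0])]⟩

def dV : Chev.CData := ⟨[(39, 3), (45, 2)], [39, 40, 44, 45, 46, 47], [0, 3],
  [(27, 40, 39), (25, 46, 45), (34, 44, 39), (26, 47, 45)], [(1, [1, 1]), (2, [2, 1])]⟩

theorem ckw : Chev.F4.pk.ckC dW = true := by decide +kernel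
theorem ckv : Chev.F4.pk.ckC dV = true := by decide +kernel
theorem gw : Chev.posL Chev.F4.pk = Chev.F4.pk.goodL dW := by decide +kernel
theorem gv : Chev.F4.pk.goodL dV = Chev.F4.pk.goodL dV := rfl
theorem nw : [20, 22] = dW.J.map fun i => Chev.F4.pk.ng (Chev.F4.pk.sim i) := by decide +kernel
theorem nv : [14, 23] = dV.J.map fun i => Chev.F4.pk.ng (Chev.F4.pk.sim i) := by decide +kernel
theorem g33 : 33 ∈ Chev.F4.pk.goodL dV := Chev.any_beq.1 (by decide +kernel)
theorem g24 : 24 ∈ Chev.F4.pk.goodL dV := Chev.any_beq.1 (by decide +kernel)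

/-- Centralizers of the two remaining classes of involutions in the Chevalley group G of type F₄ over a finite field F of characteristic two (this problem's root numbering for type F₄, from the Chevalley data module: p₁, p₂ short, p₃, p₄ long with indices 33, 27, 25, 24 and negatives 14, 20, 22, 23; U generated by the positive root subgroups). For an element of G with matrix x_47(1)x_44(1) (highest root times highest short root): its centralizer in G is generated by U, X_{−p₂} and X_{−p₃}. For an element of G with matrix x_39(1)x_45(1) (roots (1,2,2,1) and (2,4,2,1), an orthogonal short/long pair): its centralizer in G is generated by X_{p₁}, X_{−p₁}, X_{p₄}, X_{−p₄} and the root subgroups of all positive roots other than p₂ (27), p₃ (25), p₁ + p₂ (34) and p₃ + p₄ (26). -/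
theorem result {F : Type*} [Field F] [Fintype F] [CharP F 2] (w v : GL Cfsg.Lie.chevF4.Idx F) (hw : (w : Matrix Cfsg.Lie.chevF4.Idx Cfsg.Lie.chevF4.Idx F) = Cfsg.Lie.chevF4.x F 47 1 * Cfsg.Lie.chevF4.x F 44 1) (hv : (v : Matrix Cfsg.Lie.chevF4.Idx Cfsg.Lie.chevF4.Idx F) = Cfsg.Lie.chevF4.x F 39 1 * Cfsg.Lie.chevF4.x F 45 1) :
    Cfsg.Lie.chevF4.group F ⊓ Subgroup.centralizer {w} = Cfsg.Lie.chevF4.posUnipotent F ⊔ Cfsg.Lie.chevF4.rootSubgroup F 20 ⊔ Cfsg.Lie.chevF4.rootSubgroup F 22 ∧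
    Cfsg.Lie.chevF4.group F ⊓ Subgroup.centralizer {v} = Cfsg.Lie.chevF4.rootSubgroup F 33 ⊔ Cfsg.Lie.chevF4.rootSubgroup F 14 ⊔ Cfsg.Lie.chevF4.rootSubgroup F 24 ⊔ Cfsg.Lie.chevF4.rootSubgroup F 23 ⊔
      Subgroup.closure {g : GL Cfsg.Lie.chevF4.Idx F | ∃ (r : ℕ) (c : F), Cfsg.Lie.chevF4.IsPosRoot r ∧ r ∉ [27, 25, 34, 26] ∧ (g : Matrix Cfsg.Lie.chevF4.Idx Cfsg.Lie.chevF4.Idx F) = Cfsg.Lie.chevF4.x F r c} := by
  refine ⟨?_, ?_⟩
  · have e : w = Chev.F4.ok.pi' (dW.Rs.map Prod.fst) (1 : ℕ → F) := by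
      apply Units.ext
      rw [hw]
      simp [Chev.Ok.pi', dW, Chev.F4.ok.coe_xG]
    rw [e, Chev.F4.ok.centralizer_weight_list Chev.ckComm_F4 dW ckw gw nw, Chev.F4.ok.genR_posL,
      Chev.F4.ok.genR_list_eq]
    simp [sup_assoc]
  · have e : v = Chev.F4.ok.pi' (dV.Rs.map Prod.fst) (1 : ℕ → F) := by
      apply Units.ext
      rw [hv]
      simp [Chev.Ok.pi', dV, Chev.F4.ok.coe_xG]
    rw [e, Chev.F4.ok.centralizer_weight_list Chev.ckComm_F4 dV ckv gv nv]
    refine le_antisymm (sup_le ?_ ?_) ?_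
    · refine Chev.F4.ok.genR_le fun r hr c => Subgroup.mem_sup_right (Subgroup.subset_closure ⟨r, c, ?_⟩)
      rw [Chev.Pk.goodL, List.mem_filter, Bool.and_eq_true] at hr
      refine ⟨(Chev.F4.ok.isPosRoot_iff r).2 hr.2.1, ?_, Chev.F4.ok.coe_xG r c⟩
      intro hm
      have := hr.2.2
      simp only [List.mem_cons, List.not_mem_nil, or_false] at hm
      rcases hm with rfl | rfl | rfl | rfl <;> simp [dV] at this
    · refine Chev.F4.ok.genR_le fun r hr c => ?_
      have := Chev.F4.ok.mem_rootSubgroup (r := r) c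
      simp only [List.mem_cons, List.not_mem_nil, or_false] at hr
      rcases hr with rfl | rfl
      · exact Subgroup.mem_sup_left (Subgroup.mem_sup_left (Subgroup.mem_sup_left (Subgroup.mem_sup_right this)))
      · exact Subgroup.mem_sup_left (Subgroup.mem_sup_right this)
    · have key : ∀ r, r ∈ Chev.F4.pk.goodL dV ∨ r ∈ [14, 23] → ∀ g ∈ Cfsg.Lie.chevF4.rootSubgroup F r,
          g ∈ Chev.F4.ok.genR (F := F) (· ∈ Chev.F4.pk.goodL dV) ⊔ Chev.F4.ok.genR (· ∈ [14, 23]) := by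
        intro r hr g hg
        rw [← SetLike.mem_coe, Chev.F4.ok.rootSubgroup_eq] at hg
        obtain ⟨c, rfl⟩ := hg
        rcases hr with hr | hr
        · exact Subgroup.mem_sup_left (Chev.F4.ok.xG_mem_genR hr c)
        · exact Subgroup.mem_sup_right (Chev.F4.ok.xG_mem_genR hr c)
      refine sup_le (sup_le (sup_le (sup_le (key 33 (Or.inl g33)) (key 14 (Or.inr (by simp)))) (key 24 (Or.inl g24)))
        (key 23 (Or.inr (by simp)))) ((Subgroup.closure_le _).2 ?_)
      rintro g ⟨r, c, hr, hne, hg⟩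
      rw [Chev.F4.ok.eq_xG_iff.1 hg]
      have hp := (Chev.F4.ok.isPosRoot_iff r).1 hr
      refine Subgroup.mem_sup_left (Chev.F4.ok.xG_mem_genR (List.mem_filter.2
        ⟨List.mem_range.2 (Chev.F4.pk.isPos_iff.1 hp).2, ?_⟩) c)
      rw [hp, Bool.true_and, Bool.not_eq_true', ← Bool.not_eq_true, Chev.any_beq]
      simpa [dV] using hne


end Cfsg.Agent.S2179
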