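import Cfsg.Statements.S2180
import Cfsg.Agent.Lib.Chev.AllC
import Cfsg.Agent.Lib.Chev.Cent2

set_option autoImplicit false
open Cfsg

namespace Cfsg.Agent.S2180

def dG : Chev.CData := ⟨[(9, 1)], [9, 10, 11], [1], [(7, 10, 9), (8, 11, 9)], [(0, [1])]⟩

theorem ckz : Chev.G2.pk.ckCent 11 1 [0] = true := by decide +kernel
theorem lz : [4] = [0].map fun i => Chev.G2.pk.ng (Chev.G2.pk.sim i) := by decide +kernel
theorem ckt : Chev.G2.pk.ckC dG = true := by decide +kernel
theorem gt : [6, 9, 10, 11] = Chev.G2.pk.goodL dG := by decide +kernel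
theorem nt' : [5] = dG.J.map fun i => Chev.G2.pk.ng (Chev.G2.pk.sim i) := by decide +kernel

/-- Centralizers of involutions in the Chevalley group G of type G₂ over a finite field F of characteristic two with at least four elements (this problem's root numbering for type G₂, from the Chevalley data module: a = p₁ short with index 7, b = p₂ long with index 6, −a = 4, −b = 5, 2a + b = 9, 3a + b = 10, 3a + 2b = 11; U generated by the positive root subgroups). For an element z of G with matrix x_{3a+2b}(1): the centralizer of z in G is generated by U and X_{−a}. For an element t of G with matrix x_{2a+b}(1): the centralizer of t in G is generated by X_{2a+b}, X_{3a+b}, X_{3a+2b}, X_b and X_{−b}. -/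
theorem result {F : Type*} [Field F] [Fintype F] [CharP F 2] (hF : 4 ≤ Fintype.card F) (z t : GL Cfsg.Lie.chevG2.Idx F) (hz : (z : Matrix Cfsg.Lie.chevG2.Idx Cfsg.Lie.chevG2.Idx F) = Cfsg.Lie.chevG2.x F 11 1) (ht : (t : Matrix Cfsg.Lie.chevG2.Idx Cfsg.Lie.chevG2.Idx F) = Cfsg.Lie.chevG2.x F 9 1) :
    Cfsg.Lie.chevG2.group F ⊓ Subgroup.centralizer {z} = Cfsg.Lie.chevG2.posUnipotent F ⊔ Cfsg.Lie.chevG2.rootSubgroup F 4 ∧
    Cfsg.Lie.chevG2.group F ⊓ Subgroup.centralizer {t} = Cfsg.Lie.chevG2.rootSubgroup F 9 ⊔ Cfsg.Lie.chevG2.rootSubgroup F 10 ⊔ Cfsg.Lie.chevG2.rootSubgroup F 11 ⊔ Cfsg.Lie.chevG2.rootSubgroup F 6 ⊔ Cfsg.Lie.chevG2.rootSubgroup F 5 := by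
  refine ⟨?_, ?_⟩
  · rw [Chev.G2.ok.centralizer_list Chev.ckComm_G2 ckz lz hz, Chev.G2.ok.closure_list_eq]
    simp
  · have e : t = Chev.G2.ok.pi' (dG.Rs.map Prod.fst) (1 : ℕ → F) := by
      rw [Chev.G2.ok.eq_xG_iff.1 ht]
      simp [Chev.Ok.pi', dG]
    rw [e, Chev.G2.ok.centralizer_weight_list Chev.ckComm_G2 dG ckt gt nt', Chev.G2.ok.genR_list_eq,
      Chev.G2.ok.genR_list_eq]
    simp only [List.foldr_cons, List.foldr_nil, sup_bot_eq]
    ac_rfl


end Cfsg.Agent.S2180
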