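import Cfsg.Statements.S2182
import Cfsg.Agent.Lib.Chev.InvolCert.Tw.E6Main

set_option autoImplicit false
open Cfsg

namespace Cfsg.Agent.S2182

/-- The twisted group ²E₆(q), q even, realised inside the Chevalley group of type E₆ over the field K with q² elements, has exactly three conjugacy classes of elements of order 2. -/
theorem result {K : Type*} [Field K] [Fintype K] [CharP K 2] (q : ℕ) (hK : Fintype.card K = q ^ 2) :
    (ConjClasses.mk '' {g : ↥(Cfsg.Lie.twistedE6 K q) | orderOf g = 2}).ncard = 3 := by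
  classical
  obtain ⟨n, -, hn⟩ := FiniteField.card K 2
  obtain ⟨k, -, rfl⟩ := (Nat.dvd_prime_pow Nat.prime_two).1
    (show q ∣ 2 ^ (n : ℕ) by rw [← hn, hK]; exact dvd_pow_self q (by omega))
  have hk : k ≠ 0 := fun e => by
    rw [e, pow_zero, one_pow] at hK
    exact absurd hK Fintype.one_lt_card.ne'
  have hq : IsPrimePow (2 ^ k) := Nat.prime_two.isPrimePow.pow hk
  set φ : K →+* K := iterateFrobenius K 2 k
  have hφ : ∀ t, φ t = t ^ 2 ^ k := fun t => iterateFrobenius_def (R := K) (p := 2) k t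
  obtain ⟨G, hG, hO⟩ := Agent.Chev.TwE6.exists_grp φ hφ hK
  exact Agent.Chev.InvolCert.Tw.E6.ncard_eq φ hφ hK hq G hG hO

end Cfsg.Agent.S2182
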