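import Cfsg.Statements.S2186
import Cfsg.Agent.Lib.Chev.AllC
import Cfsg.Agent.Lib.Chev.Cent

set_option autoImplicit false
open Cfsg

namespace Cfsg.Agent.S2186

theorem pG2 : Chev.G2.pk.ckPair (Chev.G2.pk.nroots - 1) = true := by decide +kernel
theorem pD4 : Chev.D4.pk.ckPair (Chev.D4.pk.nroots - 1) = true := by decide +kernel
theorem pE6 : Chev.E6.pk.ckPair (Chev.E6.pk.nroots - 1) = true := by decide +kernel
theorem pE7 : Chev.E7.pk.ckPair (Chev.E7.pk.nroots - 1) = true := by decide +kernel
theorem pE8 : Chev.E8.pk.ckPair (Chev.E8.pk.nroots - 1) = true := by decide +kernel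

theorem fin {F : Type*} [Field F] [Fintype F] [CharP F 2] {D : Cfsg.Lie.ChevalleyDatum} {P : Chev.Pk}
    (h : Chev.Ok D P) (hC : P.ckComm = true) (hP : P.ckPair (P.nroots - 1) = true)
    {g : GL D.Idx F} (hg : g ∈ D.group F) :
    IsPGroup 2 ↥(D.rootSubgroup F (D.nroots - 1) ⊔ (D.rootSubgroup F (D.nroots - 1)).map (MulAut.conj g).toMonoidHom) ∨
    ∃ x ∈ D.group F, (D.rootSubgroup F (D.nroots - 1) ⊔ (D.rootSubgroup F (D.nroots - 1)).map (MulAut.conj g).toMonoidHom).map (MulAut.conj x).toMonoidHom = D.rootSubgroup F (D.nroots - 1) ⊔ D.rootSubgroup F 0 := by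
  have e : D.nroots - 1 = P.nroots - 1 := congrArg (· - 1) h.nroots
  have h0 : P.ng (P.nroots - 1) = 0 := by simp [Chev.Pk.ng]
  rw [e, ← h0]
  exact h.pair_highest hC hP hg

/-- Let G be the Chevalley group of type G₂ (over a field with at least four elements), D₄, E₆, E₇ or E₈ over a finite field F of characteristic two, and let X be the root subgroup of the highest root (the last root index) — a long root subgroup, of order |F|. For every g in G, the subgroup generated by X and its conjugate g X g⁻¹ is either a 2-group or is conjugate by an element of G to the subgroup generated by X and the root subgroup of the lowest root (index 0, the negative of the highest root), which is a copy of SL₂(F). -/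
theorem result {F : Type*} [Field F] [Fintype F] [CharP F 2] (D : Cfsg.Lie.ChevalleyDatum) (hD : D ∈ [Cfsg.Lie.chevG2, Cfsg.Lie.chevD4, Cfsg.Lie.chevE6, Cfsg.Lie.chevE7, Cfsg.Lie.chevE8]) (hF : D = Cfsg.Lie.chevG2 → 4 ≤ Fintype.card F) (g : GL D.Idx F) (hg : g ∈ D.group F) :
    IsPGroup 2 ↥(D.rootSubgroup F (D.nroots - 1) ⊔ (D.rootSubgroup F (D.nroots - 1)).map (MulAut.conj g).toMonoidHom) ∨
    ∃ h ∈ D.group F, (D.rootSubgroup F (D.nroots - 1) ⊔ (D.rootSubgroup F (D.nroots - 1)).map (MulAut.conj g).toMonoidHom).map (MulAut.conj h).toMonoidHom = D.rootSubgroup F (D.nroots - 1) ⊔ D.rootSubgroup F 0 := by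
  simp only [List.mem_cons, List.not_mem_nil, or_false] at hD
  rcases hD with rfl | rfl | rfl | rfl | rfl
  · exact fin Chev.G2.ok Chev.ckComm_G2 pG2 hg
  · exact fin Chev.D4.ok Chev.ckComm_D4 pD4 hg
  · exact fin Chev.E6.ok Chev.ckComm_E6 pE6 hg
  · exact fin Chev.E7.ok Chev.ckComm_E7 pE7 hg
  · exact fin Chev.E8.ok Chev.ckComm_E8 pE8 hg


end Cfsg.Agent.S2186
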