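import Cfsg.Statements.S2190
import Cfsg.Agent.Lib.Chev.BGL.All

set_option autoImplicit false
open Cfsg

namespace Cfsg.Agent.S2190

/-- Subfield subgroups of prime degree are maximal. Let K be a finite field with q^r elements, r a prime, q a power of the characteristic, and G the Chevalley group of type G₂, B₂, D₄, F₄, E₆, E₇ or E₈ over K (the matrix group generated by the root elements). Let M be the subgroup of G consisting of the matrices all of whose entries lie in the subfield with q elements (entries c with c^q = c). Then M is a proper subgroup of G and is maximal: every subgroup of G containing M is M or G. -/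
theorem result {K : Type*} [Field K] [Fintype K] (p : ℕ) [Fact p.Prime] [CharP K p] (D : Cfsg.Lie.ChevalleyDatum) (hD : D ∈ [Cfsg.Lie.chevG2, Cfsg.Lie.chevB2, Cfsg.Lie.chevD4, Cfsg.Lie.chevF4, Cfsg.Lie.chevE6, Cfsg.Lie.chevE7, Cfsg.Lie.chevE8]) (a r : ℕ) (ha : 1 ≤ a) (hr : r.Prime) (hK : Fintype.card K = (p ^ a) ^ r) (M : Subgroup (GL D.Idx K))
    (hM : ∀ g : GL D.Idx K, g ∈ M ↔ g ∈ D.group K ∧ ∀ i j : D.Idx, ((g : Matrix D.Idx D.Idx K) i j) ^ (p ^ a) = (g : Matrix D.Idx D.Idx K) i j) :
    M ≠ D.group K ∧ ∀ H : Subgroup (GL D.Idx K), M ≤ H → H ≤ D.group K → H = M ∨ H = D.group K := by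
  classical
  set q := p ^ a with hq_def
  have hp := (Fact.out : p.Prime)
  have hq1 : 1 < q := Nat.one_lt_pow (by omega) hp.one_lt
  let σ : K →+* K := iterateFrobenius K p a
  have hσ : ∀ t : K, σ t = t ^ q := fun t => iterateFrobenius_def p a t
  obtain ⟨P, hok, hpos⟩ := Chev.BGL.exists_ok_pos hD
  have hMfix : ∀ g : GL D.Idx K, g ∈ M ↔ g ∈ D.group K ∧ Chev.gmap D σ g = g := fun g => by
    rw [hM g, Chev.BGL.gmap_fixed_iff hok σ g]
    simp only [hσ]
  have hMroot : ∀ (r : ℕ) (t : K), r < P.nroots → t ^ q = t → hok.xG r t ∈ M := fun r t hr ht =>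
    (hMfix _).2 ⟨hok.mem_group_of_xG r t, by rw [hok.gmap_xG σ hr, hσ, ht]⟩
  have hcardq : Nat.card {t : K // t ^ q = t} = q := by
    have h1 : ∀ d, q - 1 ∣ q ^ d - 1 := fun d => by simpa using Nat.sub_dvd_pow_sub_pow q 1 d
    have hK' : Nat.card K = q ^ r := by rw [Nat.card_eq_fintype_card, hK]
    let e : {t : K // t ^ q = t} ≃ Option {u : Kˣ // u ^ (q - 1) = 1} :=
      { toFun := fun t => if ht : t.1 = 0 then none else some ⟨Units.mk0 t.1 ht, by
          apply Units.ext
          have e : t.1 ^ (q - 1) * t.1 = t.1 := by rw [← pow_succ, Nat.sub_add_cancel hq1.le]; exact t.2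
          simpa using (mul_eq_right₀ ht).1 e⟩
        invFun := fun o => o.elim ⟨0, zero_pow (by omega)⟩ fun u => ⟨(u.1 : K), by
          have e := congrArg Units.val u.2
          rw [Units.val_pow_eq_pow_val, Units.val_one] at e
          have e' := pow_succ (u.1 : K) (q - 1)
          rwa [Nat.sub_add_cancel hq1.le, e, one_mul] at e'⟩
        left_inv := fun t => by
          dsimp only
          by_cases ht : t.1 = 0
          · rw [dif_pos ht]; exact Subtype.ext ht.symm
          · rw [dif_neg ht]; rfl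
        right_inv := fun o => by
          rcases o with _ | u
          · simp
          · simp [u.1.ne_zero] }
    rw [Nat.card_congr e, Finite.card_option]
    have hdvd : q - 1 ∣ Nat.card Kˣ := by rw [Nat.card_units, hK']; exact h1 r
    have e2 : {u : Kˣ // u ^ (q - 1) = 1} ≃ (powMonoidHom (q - 1) : Kˣ →* Kˣ).ker :=
      Equiv.subtypeEquivRight fun u => Iff.rfl
    rw [Nat.card_congr e2, IsCyclic.card_powMonoidHom_ker, Nat.gcd_eq_right hdvd]
    omega
  have hMG : ∀ g ∈ M, g ∈ D.group K := fun g hg => ((hMfix g).1 hg).1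
  refine ⟨fun hEq => ?_, fun H hMH hHG => ?_⟩
  · have hall : ∀ t : K, t ^ q = t := fun t => by
      have hm := ((hMfix _).1 (hEq ▸ hok.mem_group_of_xG 0 t : hok.xG 0 t ∈ M)).2
      rw [hok.gmap_xG σ hpos, hσ] at hm
      exact hok.xG_inj_param hpos hm
    have e := hcardq
    rw [Nat.card_congr (Equiv.subtypeUnivEquiv hall), Nat.card_eq_fintype_card, hK] at e
    exact absurd (Nat.pow_right_injective hq1 (show q ^ r = q ^ 1 by rw [pow_one]; exact e)) hr.ne_one
  obtain ⟨P', h', n, hn, -, hroots, hent, m, hm⟩ := Chev.BGL.main hD p ha hcardq hHG (fun g s t ht hg => by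
    rw [hok.eq_xG_iff.1 hg]
    by_cases hs : s < P.nroots
    · exact hMH (hMroot s t hs ht)
    · rw [Chev.Ok.xG, dif_neg hs]; exact one_mem _)
  rw [Nat.card_eq_fintype_card, hK] at hm
  have hnm : r = n * m := Nat.pow_right_injective hq1 (show q ^ r = q ^ (n * m) by rw [pow_mul]; exact hm)
  rcases hr.eq_one_or_self_of_dvd n ⟨m, hnm⟩ with rfl | rfl
  · refine Or.inl (le_antisymm (fun g hg => (hM g).2 ⟨hHG hg, fun i j => ?_⟩) hMH)
    simpa using hent g hg i j
  · refine Or.inr (le_antisymm hHG (h'.group_le fun s hs t => hroots s hs t ?_))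
    rw [← hK, FiniteField.pow_card]

end Cfsg.Agent.S2190
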