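import Cfsg.Statements.S2192
import Cfsg.Agent.Lib.Chev.TwSub.Final
-- import your own Cfsg.Agent.* helpers here

set_option autoImplicit false
open Cfsg

namespace Cfsg.Agent.S2192

/-- In the twisted group ³D₄(q), realised inside the Chevalley group of type D₄ over the field K with q³ elements (q a power of the characteristic) as the subgroup generated by the root elements, and products of root elements, that the twisting map fixes, the subgroup of matrices all of whose entries lie in the subfield with q elements (it contains the subgroup of type G₂ over that subfield) is a proper maximal subgroup. -/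
theorem result {K : Type*} [Field K] [Fintype K] (p : ℕ) [Fact p.Prime] [CharP K p] (q : ℕ) (hq : ∃ a : ℕ, 1 ≤ a ∧ q = p ^ a) (hK : Fintype.card K = q ^ 3) (M : Subgroup (GL Cfsg.Lie.chevD4.Idx K))
    (hM : ∀ g : GL Cfsg.Lie.chevD4.Idx K, g ∈ M ↔ g ∈ Cfsg.Lie.twistedD4 K q ∧ ∀ i j : Cfsg.Lie.chevD4.Idx, ((g : Matrix Cfsg.Lie.chevD4.Idx Cfsg.Lie.chevD4.Idx K) i j) ^ q = (g : Matrix Cfsg.Lie.chevD4.Idx Cfsg.Lie.chevD4.Idx K) i j) :
    M ≠ Cfsg.Lie.twistedD4 K q ∧ ∀ H : Subgroup (GL Cfsg.Lie.chevD4.Idx K), M ≤ H → H ≤ Cfsg.Lie.twistedD4 K q → H = M ∨ H = Cfsg.Lie.twistedD4 K q := by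
  classical
  obtain ⟨a, ha, rfl⟩ := hq
  let φ : K →+* K := iterateFrobenius K p a
  have hφ : ∀ t, φ t = t ^ p ^ a := fun t => iterateFrobenius_def p a t
  have hp := Chev.TwD4.phi3 φ hφ hK
  obtain ⟨G, hG, hO⟩ := Chev.TwD4.exists_grp φ hφ hK
  have hT : Cfsg.Lie.twistedD4 K (p ^ a) = (Chev.TwD4.T φ).fixed := hG.symm.trans (G.eq_fixed Chev.ckComm_D4)
  have hFx : ∀ g, g ∈ M ↔ g ∈ (Chev.TwD4.T φ).fixed ⊓ Chev.TwSubD4.Fx φ := fun g => by
    rw [hM g, Subgroup.mem_inf, hT, Chev.TwSubD4.mem_Fx, Units.ext_iff, Chev.coe_gmap, ← Matrix.ext_iff]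
    simp only [Matrix.map_apply, hφ]
  refine ⟨fun hEq => ?_, fun H hMH hHG => ?_⟩
  · have hall : ∀ t, φ t = t := fun t => by
      have h1 := ((hFx _).1 (hEq ▸ hT ▸ Chev.TwSubD4.dT_T φ hp t : Chev.TwD4.dT φ t ∈ M)).2
      replace h1 := (Chev.TwSubD4.mem_Fx φ).1 h1
      rw [Chev.TwD4.dT, map_mul, map_mul, Chev.D4.ok.gmap_xG φ (by decide),
        Chev.D4.ok.gmap_xG φ (by decide), Chev.D4.ok.gmap_xG φ (by decide)] at h1
      obtain ⟨o1, o2, o3⟩ := Chev.TwD4.orth 18 (by simp) 13 (by simp) 12 (by simp)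
      exact (Chev.Std.triple_unique Chev.ckComm_D4 (by decide) (by decide) (by decide) o1 o3 o2 h1).1
    have hq2 : 2 ≤ p ^ a := Nat.one_lt_pow (by omega) (Fact.out : p.Prime).one_lt
    obtain ⟨e, -⟩ := Chev.Std.fixed_field_card (F := K) hq2 (by omega : 1 ≤ 3) hK
    rw [Nat.card_congr (Equiv.subtypeUnivEquiv fun t => (hφ t).symm.trans (hall t)), Nat.card_eq_fintype_card, hK] at e
    have := Nat.pow_right_injective hq2 (show (p ^ a) ^ 3 = (p ^ a) ^ 1 by rw [pow_one]; exact e)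
    omega
  · have hMH' : (Chev.TwD4.T φ).fixed ⊓ Chev.TwSubD4.Fx φ ≤ H := fun g hg => hMH ((hFx g).2 hg)
    by_cases ht : Chev.TwSubD4.Target φ H
    · exact Or.inr (le_antisymm hHG (Chev.TwSubD4.twisted_le_of_target φ hφ hK G hO hp hMH' ht))
    · refine Or.inl (le_antisymm (fun g hg => (hFx g).2 ⟨hT ▸ hHG hg, ?_⟩) hMH)
      exact Chev.TwSubD4.rational_of_no_target φ G hO hp (hT ▸ hHG) hMH' ht hg

end Cfsg.Agent.S2192
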