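import Cfsg.Statements.S2202
import Cfsg.Agent.Lib.Invol.AbelianCentMain

set_option autoImplicit false
open Cfsg

namespace Cfsg.Agent.S2202

/-- Finite groups in which the centralizer of every involution is abelian. Let G be a finite group of even order in which the centralizer of every element of order 2 is abelian. Then the Sylow 2-subgroups of G are cyclic, or a Sylow 2-subgroup of G is normal, or G is isomorphic to the direct product of SL₂(F) for a finite field F of characteristic two and an abelian group of odd order. -/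
theorem result {G : Type*} [Group G] [Finite G] (heven : Even (Nat.card G)) (h : ∀ t : G, orderOf t = 2 → IsMulCommutative ↥(Subgroup.centralizer ({t} : Set G))) :
    (∀ P : Sylow 2 G, IsCyclic ↥P) ∨ (∀ P : Sylow 2 G, (P : Subgroup G).Normal) ∨
    (∃ (F : Type) (_ : Field F) (_ : Fintype F) (A : Type) (_ : CommGroup A) (_ : Finite A), CharP F 2 ∧ Odd (Nat.card A) ∧ Nonempty (G ≃* Matrix.SpecialLinearGroup (Fin 2) F × A)) := by
  classical
  haveI : Fact (Nat.Prime 2) := ⟨Nat.prime_two⟩
  rw [or_iff_not_imp_left]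
  intro hcyc
  rw [not_forall] at hcyc
  obtain ⟨P, hPc⟩ := hcyc
  by_cases hPn : (P : Subgroup G).Normal
  · exact Or.inl fun Q => by
      haveI := Sylow.unique_of_normal P hPn
      exact Subsingleton.elim P Q ▸ hPn
  refine Or.inr ?_
  -- an involution central in `P`
  have hP1 : Nontrivial (P : Subgroup G) := by
    by_contra hnt
    haveI := not_nontrivial_iff_subsingleton.1 hnt
    exact hPc isCyclic_of_subsingleton
  haveI := P.2.center_nontrivial
  obtain ⟨n, hn⟩ := (P.2.to_subgroup (Subgroup.center (P : Subgroup G))).exists_card_eq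
  obtain ⟨z, hz⟩ := exists_prime_orderOf_dvd_card' (G := Subgroup.center (P : Subgroup G)) 2 (by
    rw [hn]
    refine dvd_pow_self 2 fun h0 => ?_
    rw [h0, pow_zero] at hn
    exact absurd hn (Finite.one_lt_card_iff_nontrivial.2 inferInstance).ne')
  have ht : orderOf ((z : (P : Subgroup G)) : G) = 2 := by rw [Subgroup.orderOf_coe, Subgroup.orderOf_coe, hz]
  set A := Subgroup.centralizer ({((z : (P : Subgroup G)) : G)} : Set G) with hAdef
  have hcommC : ∀ v : G, orderOf v = 2 → ∀ a b : G, Commute a v → Commute b v → a * b = b * a := fun v hv a b ha hb => by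
    haveI := h v hv
    exact congrArg Subtype.val (isMulCommutative_iff.1 this
      (⟨a, Subgroup.mem_centralizer_singleton_iff.2 ha⟩ : Subgroup.centralizer ({v} : Set G))
      ⟨b, Subgroup.mem_centralizer_singleton_iff.2 hb⟩)
  have hPA : (P : Subgroup G) ≤ A := fun s hs => Subgroup.mem_centralizer_singleton_iff.2
    (congrArg Subtype.val (Subgroup.mem_center_iff.1 z.2 ⟨s, hs⟩))
  have hA : ∀ a ∈ A, ∀ b ∈ A, a * b = b * a := fun a ha b hb => hcommC _ ht a b
    (Subgroup.mem_centralizer_singleton_iff.1 ha) (Subgroup.mem_centralizer_singleton_iff.1 hb)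
  -- two-elements normalising `P` lie in `P`
  have hin : ∀ x : G, IsPGroup 2 (Subgroup.zpowers x) → x ∈ Subgroup.normalizer ((P : Subgroup G) : Set G) →
      x ∈ (P : Subgroup G) := fun x hx hn' =>
    (P.3 (IsPGroup.to_sup_of_normal_right' hx P.2 (Subgroup.zpowers_le.2 hn')) le_sup_right).le
      (Subgroup.mem_sup_left (Subgroup.mem_zpowers x))
  have hAN : A ≤ Subgroup.normalizer ((P : Subgroup G) : Set G) := fun a ha =>
    Subgroup.mem_normalizer_iff.2 fun s => ⟨fun hs => by rwa [hA a ha s (hPA hs), mul_inv_cancel_right], fun hs => by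
      have e := hA a ha _ (hPA hs)
      have hx : a * s * a⁻¹ = s := by
        calc a * s * a⁻¹ = a⁻¹ * (a * (a * s * a⁻¹)) := by group
          _ = a⁻¹ * (a * s * a⁻¹ * a) := by rw [e]
          _ = s := by group
      rwa [hx] at hs⟩
  have hNN : Subgroup.normalizer (A : Set G) ≤ Subgroup.normalizer ((P : Subgroup G) : Set G) := fun g hg => by
    have hfw : ∀ w ∈ Subgroup.normalizer (A : Set G), ∀ s ∈ (P : Subgroup G), w * s * w⁻¹ ∈ (P : Subgroup G) := by
      intro w hw s hs
      have hsA := (Subgroup.mem_normalizer_iff.1 hw s).1 (hPA hs)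
      refine hin _ ?_ (hAN hsA)
      have h2 : IsPGroup 2 (Subgroup.zpowers s) := P.2.to_le (Subgroup.zpowers_le.2 hs)
      have := h2.map (MulAut.conj w).toMonoidHom
      rwa [MonoidHom.map_zpowers] at this
    refine Subgroup.mem_normalizer_iff.2 fun s => ⟨hfw g hg s, fun hs => ?_⟩
    have := hfw g⁻¹ (inv_mem hg) _ hs
    rwa [show g⁻¹ * (g * s * g⁻¹) * g⁻¹⁻¹ = s by group] at this
  have hinv : ∀ v : G, orderOf v = 2 → v ∈ Subgroup.normalizer ((P : Subgroup G) : Set G) → v ∈ (P : Subgroup G) :=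
    fun v hv hvN => hin v (IsPGroup.of_card (n := 1) (by rw [Nat.card_zpowers, hv, pow_one])) hvN
  obtain ⟨a, b, ha, hb, hne⟩ : ∃ a b : (P : Subgroup G), orderOf a = 2 ∧ orderOf b = 2 ∧ a ≠ b := by
    by_contra hu
    push Not at hu
    letI : CommGroup (P : Subgroup G) :=
      { (inferInstance : Group (P : Subgroup G)) with
        mul_comm := fun a b => Subtype.ext (hA a (hPA a.2) b (hPA b.2)) }
    exact hPc (Cfsg.Agent.AbCent.isCyclic_of_unique_invol P.2 hu)
  let c : Cfsg.Agent.AbCent.Cfg G :=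
    { A := A
      comm := hA
      cent := fun v hv hv2 w hw => by
        have hvt : Commute ((z : (P : Subgroup G)) : G) v := (Subgroup.mem_centralizer_singleton_iff.1 hv).symm
        exact Subgroup.mem_centralizer_singleton_iff.2 (hcommC v hv2 w _ hw hvt)
      t₀ := a
      ht₀ := by rw [Subgroup.orderOf_coe, ha]
      ht₀A := hPA a.2
      t₁ := b
      ht₁ := by rw [Subgroup.orderOf_coe, hb]
      ht₁A := hPA b.2
      hne := fun e => hne (Subtype.ext e.symm)
      invol := fun v hv hvN => hPA (hinv v hv (hNN hvN))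
      ne_top := fun e => hPn (Subgroup.normalizer_eq_top_iff.1 (top_le_iff.1 (e.symm.le.trans hNN))) }
  obtain ⟨-, -, F, iF, iFF, f, hf, hF, ⟨e⟩⟩ := Cfsg.Agent.AbCent.Cfg.classify (Cfsg.Agent.AbCent.good c)
  haveI : CharP F 2 := by
    obtain ⟨r, hr, hn'⟩ := FiniteField.card F (ringChar F)
    have : ringChar F = 2 := (Nat.prime_dvd_prime_iff_eq hr Nat.prime_two).1
      (hr.dvd_of_dvd_pow (n := f) (hF ▸ hn' ▸ dvd_pow_self _ r.ne_zero))
    exact this ▸ ringChar.charP F
  obtain ⟨e'⟩ := Cfsg.Agent.AbCent.sl_equiv_psl (F := F)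
  have hq : 4 ≤ Nat.card F := by
    rw [Nat.card_eq_fintype_card, hF]; exact Nat.pow_le_pow_right (by norm_num : 0 < 2) hf
  haveI : IsSimpleGroup (Matrix.ProjectiveSpecialLinearGroup (Fin 2) F) :=
    Matrix.ProjectiveSpecialLinearGroup.rank_two_simple hq
  haveI : IsSimpleGroup (Matrix.SpecialLinearGroup (Fin 2) F) := e'.isSimpleGroup
  obtain ⟨A', iA, iAf, hA', ⟨e''⟩⟩ := Cfsg.Agent.AbCent.split (Cfsg.Agent.AbCent.SL2_not_comm (F := F))
    c.odd_center (e.trans e'.symm)
  exact ⟨F, iF, iFF, A', iA, iAf, inferInstance, hA', ⟨e''⟩⟩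

end Cfsg.Agent.S2202
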