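import Cfsg.Statements.S2205
import Cfsg.Agent.Lib.Recog.SquarePlusOne.Main
import Mathlib.GroupTheory.GroupAction.SubMulAction.OfStabilizer

set_option autoImplicit false
open Cfsg
open scoped Pointwise

namespace Cfsg.Agent.S2205

/-- A finite group acting faithfully and 2-transitively on a set with p² + 1 points, p a prime, is doubly primitive — a point stabilizer acts primitively on the remaining p² points — unless p = 2 and the group is the Frobenius group of order 20. -/
theorem result {G Ω : Type*} [Group G] [Finite G] [Fintype Ω] [MulAction G Ω] [FaithfulSMul G Ω] (p : ℕ) (hp : p.Prime) (hΩ : Fintype.card Ω = p ^ 2 + 1) (h2 : MulAction.IsMultiplyPretransitive G Ω 2) (a : Ω) :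
    MulAction.IsPreprimitive ↥(MulAction.stabilizer G a) ↥(SubMulAction.ofStabilizer G a) ∨ (p = 2 ∧ Nat.card G = 20) := by
  classical
  haveI := Fact.mk hp
  have h2' : Cfsg.Agent.SquarePlusOne.TwoTrans G Ω := fun x y x' y' hxy hxy' =>
    MulAction.is_two_pretransitive_iff.mp h2 hxy hxy'
  by_cases hprim : MulAction.IsPreprimitive ↥(MulAction.stabilizer G a) ↥(SubMulAction.ofStabilizer G a)
  · exact Or.inl hprim
  haveI hT : MulAction.IsPretransitive ↥(MulAction.stabilizer G a) ↥(SubMulAction.ofStabilizer G a) := by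
    refine ⟨fun x y => ?_⟩
    obtain ⟨g, hga, hgx⟩ := h2' a x a y (Ne.symm x.2) (Ne.symm y.2)
    exact ⟨⟨g, hga⟩, Subtype.ext hgx⟩
  obtain ⟨B, hB, hBnt⟩ : ∃ B : Set ↥(SubMulAction.ofStabilizer G a),
      MulAction.IsBlock ↥(MulAction.stabilizer G a) B ∧ ¬ MulAction.IsTrivialBlock B := by
    by_contra! h
    exact hprim { isTrivialBlock_of_isBlock := fun {B} hB => h B hB }
  have hBne : B.Nonempty := by
    by_contra h
    rw [Set.not_nonempty_iff_eq_empty] at h
    exact hBnt (Or.inl (by rw [h]; exact Set.subsingleton_empty))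
  have hcard : Nat.card ↥(SubMulAction.ofStabilizer G a) = p ^ 2 := by
    show Nat.card ↥(({a}ᶜ : Set Ω)) = p ^ 2
    rw [Nat.card_coe_set_eq, Set.ncard_compl, Set.ncard_singleton, Nat.card_eq_fintype_card, hΩ]
    omega
  have hBp : B.ncard = p := by
    have hmul := hB.ncard_block_mul_ncard_orbit_eq hBne
    rw [hcard] at hmul
    obtain ⟨k, hk, hBk⟩ := (Nat.dvd_prime_pow hp).mp (Dvd.intro _ hmul)
    have hk0 : k ≠ 0 := by
      rintro rfl
      rw [pow_zero] at hBk
      obtain ⟨z, hz⟩ := Set.ncard_eq_one.mp hBk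
      exact hBnt (Or.inl (by rw [hz]; exact Set.subsingleton_singleton))
    have hk2 : k ≠ 2 := by
      rintro rfl
      refine hBnt (Or.inr (Set.eq_univ_of_forall fun z => ?_))
      have := Set.eq_of_subset_of_ncard_le (Set.subset_univ B) (by rw [Set.ncard_univ, hcard, hBk]) (Set.toFinite _)
      rw [this]; trivial
    rw [hBk, show k = 1 by omega, pow_one]
  obtain ⟨b0, hb0⟩ := hBne
  let s : Cfsg.Agent.SquarePlusOne.Sys G p a :=
    { r := fun x y => ∃ (g : ↥(MulAction.stabilizer G a)) (u : ↥(SubMulAction.ofStabilizer G a))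
        (w : ↥(SubMulAction.ofStabilizer G a)), u ∈ g • B ∧ w ∈ g • B ∧ (u : Ω) = x ∧ (w : Ω) = y
      ne := by
        rintro x y ⟨g, u, w, -, -, rfl, rfl⟩
        exact ⟨u.2, w.2⟩
      refl := fun x hx => by
        obtain ⟨g, hg⟩ := MulAction.exists_smul_eq ↥(MulAction.stabilizer G a) b0
          (⟨x, hx⟩ : ↥(SubMulAction.ofStabilizer G a))
        exact ⟨g, _, _, ⟨b0, hb0, hg⟩, ⟨b0, hb0, hg⟩, rfl, rfl⟩
      symm := by
        rintro x y ⟨g, u, w, hu, hw, rfl, rfl⟩
        exact ⟨g, w, u, hw, hu, rfl, rfl⟩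
      trans := by
        rintro x y z ⟨g, u, w, hu, hw, rfl, rfl⟩ ⟨g', u', w', hu', hw', he, rfl⟩
        obtain rfl : u' = w := Subtype.ext he
        rcases MulAction.isBlock_iff_smul_eq_or_disjoint.mp (hB.translate g) (g' * g⁻¹) with h | h
        · rw [smul_smul, inv_mul_cancel_right] at h
          exact ⟨g, u, w', hu, h ▸ hw', rfl, rfl⟩
        · rw [smul_smul, inv_mul_cancel_right] at h
          exact absurd hw (Set.disjoint_left.mp h hu')
      inv := by
        rintro k hk x y ⟨g, u, w, hu, hw, rfl, rfl⟩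
        refine ⟨⟨k, hk⟩ * g, (⟨k, hk⟩ : ↥(MulAction.stabilizer G a)) • u,
          (⟨k, hk⟩ : ↥(MulAction.stabilizer G a)) • w, ?_, ?_, rfl, rfl⟩
        · rw [mul_smul]; exact Set.smul_mem_smul_set hu
        · rw [mul_smul]; exact Set.smul_mem_smul_set hw
      card := fun x hx => by
        obtain ⟨g, hg⟩ := MulAction.exists_smul_eq ↥(MulAction.stabilizer G a) b0
          (⟨x, hx⟩ : ↥(SubMulAction.ofStabilizer G a))
        have hxg : (⟨x, hx⟩ : ↥(SubMulAction.ofStabilizer G a)) ∈ g • B := ⟨b0, hb0, hg⟩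
        have himg : {y | ∃ (g : ↥(MulAction.stabilizer G a)) (u : ↥(SubMulAction.ofStabilizer G a))
            (w : ↥(SubMulAction.ofStabilizer G a)), u ∈ g • B ∧ w ∈ g • B ∧ (u : Ω) = x ∧ (w : Ω) = y} =
            Subtype.val '' (g • B) := by
          ext y
          constructor
          · rintro ⟨g', u, w, hu, hw, he, rfl⟩
            obtain rfl : u = ⟨x, hx⟩ := Subtype.ext he
            rcases MulAction.isBlock_iff_smul_eq_or_disjoint.mp (hB.translate g) (g' * g⁻¹) with h | h
            · rw [smul_smul, inv_mul_cancel_right] at h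
              exact ⟨w, h ▸ hw, rfl⟩
            · rw [smul_smul, inv_mul_cancel_right] at h
              exact absurd hxg (Set.disjoint_left.mp h hu)
          · rintro ⟨w, hw, rfl⟩
            exact ⟨g, _, w, hxg, hw, rfl, rfl⟩
        rw [himg, Set.ncard_image_of_injective _ Subtype.val_injective, Set.ncard_smul_set, hBp] }
  obtain ⟨b, hb⟩ : ∃ b : Ω, b ≠ a := ⟨b0, b0.2⟩
  obtain ⟨C⟩ := Cfsg.Agent.SquarePlusOne.exists_ctx s h2' hΩ hb
  by_cases hp2 : p = 2
  · exact Or.inr ⟨hp2, C.card_of_two hp2⟩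
  · exact (C.odd_absurd hp2).elim

end Cfsg.Agent.S2205
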