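import Cfsg.Statements.S2214
import Cfsg.Agent.Lib.Chev.AllC
import Cfsg.Agent.Lib.Chev.Normal

set_option autoImplicit false
open Cfsg

namespace Cfsg.Agent.S2214

/-- Let k be an algebraically closed field of prime characteristic p, G the adjoint Chevalley group of type G₂, B₂, D₄, F₄, E₆, E₇ or E₈ over k (the matrix group generated by the root elements x_s(t), t ∈ k, acting on the Lie algebra), q = p^a with a ≥ 1, and K a subgroup of G containing every root element x_s(t) with t^q = t and consisting of matrices all of whose entries c satisfy c^q = c. Then the centralizer of K in G is trivial, and the normalizer of K in G is exactly the set of elements of G all of whose entries c satisfy c^q = c. -/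
theorem result {k : Type*} [Field k] [IsAlgClosed k] (p : ℕ) [Fact p.Prime] [CharP k p] (D : Cfsg.Lie.ChevalleyDatum) (hD : D ∈ [Cfsg.Lie.chevG2, Cfsg.Lie.chevB2, Cfsg.Lie.chevD4, Cfsg.Lie.chevF4, Cfsg.Lie.chevE6, Cfsg.Lie.chevE7, Cfsg.Lie.chevE8]) (a : ℕ) (ha : 1 ≤ a) (K : Subgroup (GL D.Idx k)) (hKG : K ≤ D.group k)
    (hLK : Subgroup.closure {g : GL D.Idx k | ∃ (s : ℕ) (t : k), t ^ (p ^ a) = t ∧ (g : Matrix D.Idx D.Idx k) = D.x k s t} ≤ K)
    (hKfix : ∀ g ∈ K, ∀ i j : D.Idx, ((g : Matrix D.Idx D.Idx k) i j) ^ (p ^ a) = (g : Matrix D.Idx D.Idx k) i j) :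
    D.group k ⊓ Subgroup.centralizer (K : Set (GL D.Idx k)) = ⊥ ∧
    ∀ g : GL D.Idx k, g ∈ D.group k → (g ∈ Subgroup.normalizer (K : Set (GL D.Idx k)) ↔ ∀ i j : D.Idx, ((g : Matrix D.Idx D.Idx k) i j) ^ (p ^ a) = (g : Matrix D.Idx D.Idx k) i j) := by
  obtain ⟨P, h, -, hC⟩ := Chev.exists_okC hD
  set σ : k →+* k := iterateFrobenius k p a
  have hσ : ∀ x : k, σ x = x ^ p ^ a := fun x => iterateFrobenius_def ..
  have hmap : ∀ g : GL D.Idx k, Units.map σ.mapMatrix.toMonoidHom g = g ↔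
      ∀ i j : D.Idx, ((g : Matrix D.Idx D.Idx k) i j) ^ (p ^ a) = (g : Matrix D.Idx D.Idx k) i j := by
    intro g
    rw [Units.ext_iff, ← Matrix.ext_iff]
    simp [hσ]
  have hL : h.fixGen σ ≤ K := by
    refine le_trans (le_of_eq ?_) hLK
    rw [Chev.Ok.fixGen]
    congr 1
    ext g
    simp [hσ, h.eq_xG_iff]
  refine ⟨?_, fun g hg => (h.normalizer_fixed hC σ hKG hL (fun x hx => (hmap x).2 (hKfix x hx)) hg).trans (hmap g)⟩
  rw [eq_bot_iff]
  intro g hg
  obtain ⟨hg1, hg2⟩ := Subgroup.mem_inf.1 hg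
  rw [Subgroup.mem_bot]
  exact h.centralizer_fixGen hC σ hg1 fun x hx => (Subgroup.mem_centralizer_iff.1 hg2 x (hL hx)).symm


end Cfsg.Agent.S2214
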