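import Cfsg.Statements.S2221
import Cfsg.Agent.Lib.SymSylow.BlockProd
-- import your own Cfsg.Agent.* helpers here

set_option autoImplicit false
open Cfsg

namespace Cfsg.Agent.S2221

open SylBlocks Equiv Equiv.Perm

theorem dec_iff_of_hom {n N : ℕ} {H : Type*} [Group H] [Finite H]
    (P : Sylow 2 (alternatingGroup (Fin n))) (hN : (Nat.card (alternatingGroup (Fin n))).factorization 2 = N)
    (g : H →* alternatingGroup (Fin n)) (hg : Function.Injective g) (hH : Nat.card H = 2 ^ N) :
    Dec (P : Subgroup (alternatingGroup (Fin n))) ↔ Dec H := by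
  let Q : Sylow 2 (alternatingGroup (Fin n)) := Sylow.ofCard g.range (by
    rw [hN, Nat.card_congr (MonoidHom.ofInjective hg).symm.toEquiv, hH])
  let e : H ≃* (P : Subgroup (alternatingGroup (Fin n))) :=
    (MonoidHom.ofInjective hg).trans (Sylow.equiv Q P)
  exact ⟨dec_congr e.symm, dec_congr e⟩

theorem card_alt_factor {n : ℕ} (hn : 4 ≤ n) :
    (Nat.card (alternatingGroup (Fin n))).factorization 2 + 1 + (n / 4).bitIndices.length =
      4 * (n / 4) + n % 4 / 2 := by
  haveI : Nontrivial (Fin n) := Fin.nontrivial_iff_two_le.2 (by omega)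
  have h2 := two_mul_nat_card_alternatingGroup (α := Fin n)
  rw [Nat.card_perm, Nat.card_fin] at h2
  have h3 : (Nat.card (alternatingGroup (Fin n))).factorization 2 + 1 = padicValNat 2 n.factorial := by
    rw [← Nat.factorization_def _ Nat.prime_two, ← h2,
      Nat.factorization_mul two_ne_zero Nat.card_pos.ne', Finsupp.add_apply,
      Nat.Prime.factorization_self Nat.prime_two, add_comm]
  have hv := padicValNat_factorial_add_length (n / 4)
  have e1 : padicValNat 2 n.factorial = padicValNat 2 (n / 2).factorial + n / 2 := by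
    conv_lhs => rw [← Nat.div_add_mod n 2]
    rw [padicValNat_factorial_mul_add (p := 2) (n / 2) (Nat.mod_lt _ two_pos), padicValNat_factorial_mul]
  have e2 : padicValNat 2 (n / 2).factorial = padicValNat 2 (n / 4).factorial + n / 4 := by
    rw [show n / 4 = n / 2 / 2 by omega]
    conv_lhs => rw [← Nat.div_add_mod (n / 2) 2]
    rw [padicValNat_factorial_mul_add (p := 2) (n / 2 / 2) (Nat.mod_lt _ two_pos),
      padicValNat_factorial_mul]
  omega

theorem small_dec {n : ℕ} (hn : n = 4 ∨ n = 5) (P : Sylow 2 (alternatingGroup (Fin n))) :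
    Dec (P : Subgroup (alternatingGroup (Fin n))) := by
  have hexp : ∀ g : Equiv.Perm (Fin n), sign g = 1 → g * g * (g * g) = 1 → g * g = 1 := by
    rcases hn with rfl | rfl <;> decide +kernel
  have h4 : Nat.card (P : Subgroup (alternatingGroup (Fin n))) = 4 := by
    have h := card_alt_factor (n := n) (by omega)
    rw [show n / 4 = 1 by omega, Nat.bitIndices_one] at h
    simp only [List.length_singleton] at h
    rw [P.card_eq_multiplicity,
      show (Nat.card (alternatingGroup (Fin n))).factorization 2 = 2 by omega]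
    norm_num
  have hsq : ∀ x : (P : Subgroup (alternatingGroup (Fin n))), x * x = 1 := fun x => by
    have h := pow_card_eq_one' (x := x)
    rw [h4] at h
    refine Subtype.ext (Subtype.ext (hexp x.1.1 (Equiv.Perm.mem_alternatingGroup.1 x.1.2) ?_))
    have h' := congrArg (fun y : (P : Subgroup (alternatingGroup (Fin n))) => y.1.1) h
    simpa [pow_succ, mul_assoc] using h'
  haveI : Nontrivial (P : Subgroup (alternatingGroup (Fin n))) :=
    Finite.one_lt_card_iff_nontrivial.1 (by omega)
  obtain ⟨x, hx⟩ := exists_ne (1 : (P : Subgroup (alternatingGroup (Fin n))))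
  have hx2 : Nat.card (Subgroup.zpowers x) = 2 := by
    rw [Nat.card_zpowers]; exact orderOf_eq_prime (by rw [sq, hsq]) hx
  obtain ⟨y, hy⟩ : ∃ y, y ∉ Subgroup.zpowers x := by
    by_contra h
    simp only [not_exists, not_not] at h
    rw [(eq_top_iff.2 fun y _ => h y : Subgroup.zpowers x = ⊤), Subgroup.card_top, h4] at hx2
    omega
  have hy1 : y ≠ 1 := fun h => hy (h ▸ one_mem _)
  have hy2 : Nat.card (Subgroup.zpowers y) = 2 := by
    rw [Nat.card_zpowers]; exact orderOf_eq_prime (by rw [sq, hsq]) hy1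
  have hcomm : ∀ a b : (P : Subgroup (alternatingGroup (Fin n))), a * b = b * a := fun a b => by
    have i : ∀ c : (P : Subgroup (alternatingGroup (Fin n))), c⁻¹ = c := fun c =>
      inv_eq_of_mul_eq_one_right (hsq c)
    calc a * b = (a * b)⁻¹ := (i _).symm
      _ = b⁻¹ * a⁻¹ := mul_inv_rev a b
      _ = b * a := by rw [i, i]
  refine ⟨Subgroup.zpowers x, Subgroup.zpowers y, ?_, ?_, fun a _ b _ => hcomm a b, ?_, ?_⟩
  · rwa [Ne, Subgroup.zpowers_eq_bot]
  · rwa [Ne, Subgroup.zpowers_eq_bot]
  · by_contra h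
    have h1 := Subgroup.card_dvd_of_le (inf_le_left : Subgroup.zpowers x ⊓ Subgroup.zpowers y ≤ _)
    rw [hx2] at h1
    rcases (Nat.dvd_prime Nat.prime_two).1 h1 with e | e
    · exact h (Subgroup.card_eq_one.1 e)
    · have := Subgroup.eq_of_le_of_card_ge
        (inf_le_left : Subgroup.zpowers x ⊓ Subgroup.zpowers y ≤ _) (by rw [e, hx2])
      have h' := Subgroup.eq_of_le_of_card_ge
        (inf_le_right : Subgroup.zpowers x ⊓ Subgroup.zpowers y ≤ _) (by rw [e, hy2])
      exact hy ((this.symm.trans h').symm.le (Subgroup.mem_zpowers y))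
  · refine Subgroup.eq_top_of_le_card _ ?_
    rw [h4]
    have hd := Subgroup.card_dvd_of_le (le_sup_left : _ ≤ Subgroup.zpowers x ⊔ Subgroup.zpowers y)
    rw [hx2] at hd
    have hd4 := Subgroup.card_subgroup_dvd_card (Subgroup.zpowers x ⊔ Subgroup.zpowers y)
    rw [h4] at hd4
    have hne : Nat.card ↥(Subgroup.zpowers x ⊔ Subgroup.zpowers y) ≠ 2 := fun e => by
      have := Subgroup.eq_of_le_of_card_ge (le_sup_left :
        _ ≤ Subgroup.zpowers x ⊔ Subgroup.zpowers y) (by rw [e, hx2])
      exact hy (this ▸ (le_sup_right : Subgroup.zpowers y ≤ Subgroup.zpowers x ⊔ Subgroup.zpowers y)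
        (Subgroup.mem_zpowers y))
    have := Nat.le_of_dvd (by norm_num) hd4
    interval_cases h : Nat.card ↥(Subgroup.zpowers x ⊔ Subgroup.zpowers y) <;> omega

theorem main (n : ℕ) (hn : 4 ≤ n) (P : Sylow 2 (alternatingGroup (Fin n))) :
    Dec (P : Subgroup (alternatingGroup (Fin n))) ↔
      (n = 4 ∨ n = 5 ∨ ((n % 4 = 2 ∨ n % 4 = 3) ∧ ∀ r : ℕ, 4 * (n / 4) ≠ 2 ^ r)) := by
  by_cases h45 : n = 4 ∨ n = 5
  · exact iff_of_true (small_dec h45 P) (by omega)
  obtain ⟨m, hm⟩ : ∃ m, n / 4 = m := ⟨_, rfl⟩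
  set L := m.bitIndices with hL
  set B := L.toFinset with hB
  have hnd : L.Nodup := Nat.bitIndices_nodup
  have hsum : ∑ i ∈ B, 2 ^ i = m := by
    rw [hB, List.sum_toFinset _ hnd, hL, Nat.sum_map_two_pow_bitIndices]
  have hk : B.card = L.length := List.toFinset_card_of_nodup hnd
  have hexp : ∑ i ∈ B, (2 ^ (i + 2) - 1) + L.length = 4 * m := by
    rw [← hk, Finset.card_eq_sum_ones, ← Finset.sum_add_distrib]
    conv_rhs => rw [← hsum, Finset.mul_sum]
    refine Finset.sum_congr rfl fun i _ => ?_
    rw [Nat.sub_add_cancel Nat.one_le_two_pow, pow_add]; ring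
  have hm1 : 1 ≤ m := by omega
  have hBne : B.Nonempty := by
    rw [← Finset.card_pos]
    by_contra h
    have : B = ∅ := Finset.card_eq_zero.1 (by omega)
    rw [this, Finset.sum_empty] at hsum
    omega
  have hpow : (∀ r : ℕ, 4 * m ≠ 2 ^ r) ↔ ∃ i j : B, i ≠ j := by
    constructor
    · intro h
      by_contra hc
      simp only [not_exists, not_not] at hc
      obtain ⟨i, hi⟩ := hBne
      have : B = {i} := Finset.eq_singleton_iff_unique_mem.2
        ⟨hi, fun j hj => congrArg Subtype.val (hc ⟨j, hj⟩ ⟨i, hi⟩)⟩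
      rw [this, Finset.sum_singleton] at hsum
      exact h (i + 2) (by rw [← hsum, pow_add]; ring)
    · rintro ⟨⟨i, hi⟩, ⟨j, hj⟩, hij⟩ r hr
      obtain ⟨s, hs⟩ : ∃ s, r = s + 2 := ⟨r - 2, by
        rcases r with _ | _ | r <;> simp at hr ⊢; omega⟩
      rw [hs, pow_add] at hr
      have hms : m = 2 ^ s := by omega
      have hL' : L = [s] := by rw [hL, hms, Nat.bitIndices_two_pow]
      rw [hB, hL'] at hi hj
      simp at hi hj
      exact hij (Subtype.ext (hi.trans hj.symm))
  have hfac := card_alt_factor hn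
  rw [hm, ← hL] at hfac
  let X := Σ i : B, Pts (i.1 + 1)
  have hcardX : Fintype.card X = 4 * m := by
    rw [Fintype.card_sigma]
    conv_rhs => rw [← hsum, Finset.mul_sum]
    rw [← Finset.sum_coe_sort B]
    refine Finset.sum_congr rfl fun i _ => ?_
    rw [card_pts, pow_add, pow_add]; ring
  obtain ⟨e⟩ : Nonempty (X ⊕ Fin (n % 4) ≃ Fin n) :=
    Fintype.card_eq.1 (by rw [Fintype.card_sum, hcardX, Fintype.card_fin, Fintype.card_fin]; omega)
  let Φ : Perm X × Perm (Fin (n % 4)) →* Perm (Fin n) :=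
    e.permCongrHom.toMonoidHom.comp (Equiv.Perm.sumCongrHom X (Fin (n % 4)))
  have hΦi : Function.Injective Φ := e.permCongrHom.injective.comp Equiv.Perm.sumCongrHom_injective
  have hΦs : ∀ p, sign (Φ p) = sign p.1 * sign p.2 := fun p =>
    (sign_permCongr e (Equiv.sumCongr p.1 p.2)).trans (sign_sumCongr p.1 p.2)
  by_cases h23 : n % 4 = 2 ∨ n % 4 = 3
  · let a : Fin (n % 4) := ⟨0, by omega⟩
    let b : Fin (n % 4) := ⟨1, by omega⟩
    let χ : ℤˣ →* Perm (Fin (n % 4)) :=
      { toFun := fun u => if u = 1 then 1 else Equiv.swap a b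
        map_one' := if_pos rfl
        map_mul' := fun u v => by
          rcases Int.units_eq_one_or u with rfl | rfl <;> rcases Int.units_eq_one_or v with rfl | rfl <;>
            simp }
    have hχ : ∀ u, sign (χ u) = u := fun u => by
      rcases Int.units_eq_one_or u with rfl | rfl
      · simp [χ]
      · have : a ≠ b := fun h => absurd (congrArg Fin.val h) (by norm_num [a, b])
        simp [χ, sign_swap this]
    let F : W B →* Perm (Fin n) := Φ.comp ((iotaW B).prod (χ.comp (sgnW B)))
    have hFs : ∀ x, F x ∈ alternatingGroup (Fin n) := fun x => by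
      rw [Equiv.Perm.mem_alternatingGroup]
      show sign (Φ (iotaW B x, χ (sgnW B x))) = 1
      rw [hΦs, sign_iotaW, hχ, Int.units_mul_self]
    have hFi : Function.Injective (F.codRestrict _ hFs) := fun x y h =>
      iotaW_injective B (congrArg Prod.fst (hΦi (congrArg Subtype.val h)))
    rw [dec_iff_of_hom P rfl (F.codRestrict _ hFs) hFi (by rw [card_W]; congr 1; omega)]
    constructor
    · intro h
      refine Or.inr (Or.inr ⟨h23, ?_⟩)
      rw [hm, hpow]
      by_contra hc
      simp only [not_exists, not_not] at hc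
      exact not_dec_W B hc hBne h
    · rintro (h | h | ⟨-, h⟩)
      · omega
      · omega
      · rw [hm, hpow] at h
        obtain ⟨i, j, hij⟩ := h
        exact dec_W B hij
  · refine iff_of_false ?_ (by omega)
    let F : (sgnW B).ker →* Perm (Fin n) := Φ.comp (((iotaW B).comp (sgnW B).ker.subtype).prod 1)
    have hFs : ∀ x, F x ∈ alternatingGroup (Fin n) := fun x => by
      rw [Equiv.Perm.mem_alternatingGroup]
      show sign (Φ (iotaW B x.1, 1)) = 1
      rw [hΦs, sign_iotaW, map_one, mul_one]; exact x.2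
    have hFi : Function.Injective (F.codRestrict _ hFs) := fun x y h =>
      Subtype.ext (iotaW_injective B (congrArg Prod.fst (hΦi (congrArg Subtype.val h))))
    rw [dec_iff_of_hom P rfl (F.codRestrict _ hFs) hFi (by rw [card_ker B hBne]; congr 1; omega)]
    by_cases hmany : ∃ i j : B, i ≠ j
    · obtain ⟨i, j, hij⟩ := hmany
      exact not_dec_ker_many B hij
    · simp only [not_exists, not_not] at hmany
      obtain ⟨i, hi⟩ := hBne
      have hBi : B = {i} := Finset.eq_singleton_iff_unique_mem.2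
        ⟨hi, fun j hj => congrArg Subtype.val (hmany ⟨j, hj⟩ ⟨i, hi⟩)⟩
      refine not_dec_ker_single B ?_ hBi
      rw [hBi, Finset.sum_singleton] at hsum
      by_contra h
      rw [show i = 0 by omega] at hsum
      omega


/-- Direct decomposability of the Sylow 2-subgroups of the alternating groups. Let n ≥ 4 and let P be a Sylow 2-subgroup of the alternating group of degree n. Then P is the internal direct product of two nontrivial subgroups if and only if n = 4, n = 5, or n ≡ 2, 3 (mod 4) with 4⌊n/4⌋ not a power of 2. In the remaining cases (n ≡ 0, 1 (mod 4) with n ≥ 8, or n ≡ 2, 3 (mod 4) with 4⌊n/4⌋ a power of 2) P is directly indecomposable. -/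
theorem result (n : ℕ) (hn : 4 ≤ n)
    (P : Sylow 2 (alternatingGroup (Fin n))) :
    (∃ S₁ S₂ : Subgroup (alternatingGroup (Fin n)), S₁ ≠ ⊥ ∧ S₂ ≠ ⊥ ∧
        Cfsg.IsInternalDirectProduct S₁ S₂ (P : Subgroup (alternatingGroup (Fin n)))) ↔
      (n = 4 ∨ n = 5 ∨ ((n % 4 = 2 ∨ n % 4 = 3) ∧ ∀ r : ℕ, 4 * (n / 4) ≠ 2 ^ r)) := by
  exact (SylBlocks.dec_iff _).trans (main n hn P)

end Cfsg.Agent.S2221
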