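import Cfsg.Statements.S2222
import Cfsg.Agent.Lib.SymSylow.Two

set_option autoImplicit false
open Cfsg

namespace Cfsg.Agent.S2222

set_option synthInstance.maxSize 2000
set_option synthInstance.maxHeartbeats 400000

theorem five_check : ∀ v : alternatingGroup (Fin 5), v * v = 1 → v ≠ 1 → ∀ w : alternatingGroup (Fin 5),
    w * w = 1 → w ≠ 1 → w ≠ v → v * w = w * v → ∀ x : alternatingGroup (Fin 5), x * x * x = 1 →
    (x * v * x⁻¹ = v ∨ x * v * x⁻¹ = w ∨ x * v * x⁻¹ = v * w) ∨
    (x * v) * (x * v) * (x * v) * (x * v) * (x * v) = 1 ∨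
    (x * w) * (x * w) * (x * w) * (x * w) * (x * w) = 1 ∨
    (x * (v * w)) * (x * (v * w)) * (x * (v * w)) * (x * (v * w)) * (x * (v * w)) = 1 := by decide +kernel

theorem small_orders : ∀ x : alternatingGroup (Fin 5),
    x * x * x = 1 ∨ x * x = 1 ∨ x * x * x * x * x = 1 := by decide +kernel

/-- A subgroup containing a Sylow subgroup `S` and stable under its normaliser is pronormal. -/
theorem pronormal_of_sylow {G : Type*} [Group G] [Finite G] {p : ℕ} [Fact p.Prime] {H : Subgroup G}
    (S : Sylow p G) (hS : (S : Subgroup G) ≤ H)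
    (hN : ∀ n ∈ Subgroup.normalizer ((S : Subgroup G) : Set G), H.map (MulAut.conj n).toMonoidHom = H) :
    Cfsg.IsPronormal H := by
  intro g
  set K := H ⊔ H.map (MulAut.conj g).toMonoidHom
  have h1 : ((g • S : Sylow p G) : Subgroup G) ≤ K := by
    rw [Sylow.coe_subgroup_smul]
    exact le_trans (Subgroup.map_mono hS) le_sup_right
  obtain ⟨k, hk⟩ := MulAction.exists_smul_eq K ((g • S).subtype h1) (S.subtype (hS.trans le_sup_left))
  rw [Sylow.smul_subtype] at hk
  have e : (k : G) • g • S = S := Sylow.subtype_injective hk
  rw [smul_smul] at e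
  refine ⟨(k : G)⁻¹, inv_mem k.2, ?_⟩
  conv_rhs => rw [← hN _ (Sylow.smul_eq_iff_mem_normalizer.1 e), Subgroup.map_map]
  congr 1
  ext y
  simp [mul_assoc]

theorem map_eq_of_mem {G : Type*} [Group G] [Finite G] {H : Subgroup G} {n : G} (hn : n ∈ H) :
    H.map (MulAut.conj n).toMonoidHom = H := by
  ext y
  simp only [Subgroup.mem_map, MulEquiv.coe_toMonoidHom, MulAut.conj_apply]
  constructor
  · rintro ⟨h, hh, rfl⟩; exact mul_mem (mul_mem hn hh) (inv_mem hn)
  · intro hy; exact ⟨n⁻¹ * y * n, mul_mem (mul_mem (inv_mem hn) hy) hn, by group⟩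

theorem five (H : Subgroup (alternatingGroup (Fin 5))) (S : Sylow 2 (alternatingGroup (Fin 5)))
    (hS : (S : Subgroup (alternatingGroup (Fin 5))) ≤ H) : Cfsg.IsPronormal H := by
  haveI := Fact.mk Nat.prime_two
  have hG : Nat.card (alternatingGroup (Fin 5)) = 60 := by
    rw [nat_card_alternatingGroup, Nat.card_fin]; rfl
  have hsim : IsSimpleGroup (alternatingGroup (Fin 5)) := alternatingGroup.isSimpleGroup_five
  have hS4 : Nat.card S = 4 := by
    rw [S.card_eq_multiplicity, hG]
    have e : (60 : ℕ).factorization 2 = 2 := by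
      rw [show (60 : ℕ) = 2 ^ 2 * 15 by norm_num, Nat.factorization_mul (by norm_num) (by norm_num),
        Finsupp.add_apply, Nat.prime_two.factorization_pow, Finsupp.single_eq_same,
        Nat.factorization_eq_zero_of_not_dvd (by norm_num)]
    rw [e]; rfl
  have hHdvd : Nat.card H ∣ 60 := hG ▸ Subgroup.card_subgroup_dvd_card H
  have h4 : 4 ∣ Nat.card H := hS4 ▸ Subgroup.card_dvd_of_le hS
  set N := Subgroup.normalizer ((S : Subgroup (alternatingGroup (Fin 5))) : Set (alternatingGroup (Fin 5)))
  by_cases h3 : 3 ∣ Nat.card H
  · obtain ⟨⟨x, hxH⟩, hx⟩ := exists_prime_orderOf_dvd_card' 3 h3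
    rw [Subgroup.orderOf_mk] at hx
    have hx3 : x * x * x = 1 := by
      have := pow_orderOf_eq_one x
      rw [hx, pow_succ, pow_two] at this
      exact this
    have hxS : ∀ z ∈ (S : Subgroup (alternatingGroup (Fin 5))), x ≠ z := by
      rintro z hz rfl
      have := Subgroup.orderOf_dvd_natCard _ hz
      rw [hx, hS4] at this
      norm_num at this
    have hsq : ∀ z ∈ (S : Subgroup (alternatingGroup (Fin 5))), z * z = 1 := by
      intro z hz
      have h1 := Subgroup.orderOf_dvd_natCard _ hz
      rw [hS4] at h1
      rcases small_orders z with e | e | e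
      · have h2 : orderOf z ∣ 3 := orderOf_dvd_of_pow_eq_one (by rw [pow_succ, pow_two]; exact e)
        have h3 : orderOf z = 1 := Nat.dvd_one.1 (by simpa using Nat.dvd_gcd h1 h2)
        rw [orderOf_eq_one_iff.1 h3, one_mul]
      · exact e
      · have h2 : orderOf z ∣ 5 := orderOf_dvd_of_pow_eq_one (by simp only [pow_succ, pow_zero, one_mul]; exact e)
        have h3 : orderOf z = 1 := Nat.dvd_one.1 (by simpa using Nat.dvd_gcd h1 h2)
        rw [orderOf_eq_one_iff.1 h3, one_mul]
    by_cases hxN : x ∈ N
    · have hNlt : N ≠ ⊤ := by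
        intro e
        haveI : (S : Subgroup (alternatingGroup (Fin 5))).Normal := Subgroup.normalizer_eq_top_iff.1 e
        rcases hsim.eq_bot_or_eq_top_of_normal (S : Subgroup (alternatingGroup (Fin 5))) inferInstance with e | e
        · rw [e, Subgroup.card_bot] at hS4; omega
        · rw [e, Subgroup.card_top, hG] at hS4; omega
      have hN12 : Nat.card N = 12 := by
        have d1 : Nat.card N ∣ 60 := hG ▸ Subgroup.card_subgroup_dvd_card N
        have d2 : 4 ∣ Nat.card N := hS4 ▸ Subgroup.card_dvd_of_le Subgroup.le_normalizer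
        have d3 : 3 ∣ Nat.card N := hx ▸ Subgroup.orderOf_dvd_natCard _ hxN
        have d4 : Nat.card N ≠ 60 := fun e => hNlt (Subgroup.eq_top_of_card_eq N (e.trans hG.symm))
        obtain ⟨c, hc⟩ := Nat.Coprime.mul_dvd_of_dvd_of_dvd (by norm_num : Nat.Coprime 4 3) d2 d3
        rw [hc] at d1 d4 ⊢
        have hc5 : c ∣ 5 := Nat.dvd_of_mul_dvd_mul_left (by norm_num : 0 < 4 * 3) (by simpa using d1)
        rcases (Nat.dvd_prime Nat.prime_five).1 hc5 with rfl | rfl
        · rfl
        · omega
      have hle : N ≤ H := by
        have d2 : 4 ∣ Nat.card (H ⊓ N : Subgroup _) := hS4 ▸ Subgroup.card_dvd_of_le (le_inf hS Subgroup.le_normalizer)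
        have d3 : 3 ∣ Nat.card (H ⊓ N : Subgroup _) := hx ▸ Subgroup.orderOf_dvd_natCard _ ⟨hxH, hxN⟩
        have d4 := Nat.Coprime.mul_dvd_of_dvd_of_dvd (by norm_num : Nat.Coprime 4 3) d2 d3
        have d5 := Subgroup.card_le_of_le (inf_le_right : H ⊓ N ≤ N)
        have := Subgroup.eq_of_le_of_card_ge (inf_le_right : H ⊓ N ≤ N)
          (by rw [hN12]; exact Nat.le_of_dvd Nat.card_pos d4)
        exact this ▸ inf_le_left
      exact pronormal_of_sylow S hS fun n hn => map_eq_of_mem (hle hn)
    · have h5 : 5 ∣ Nat.card H := by
        obtain ⟨v, hv, hv1⟩ : ∃ v ∈ (S : Subgroup (alternatingGroup (Fin 5))), v ≠ 1 := by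
          refine Subgroup.bot_or_exists_ne_one _ |>.resolve_left fun e => ?_
          rw [e, Subgroup.card_bot] at hS4; omega
        obtain ⟨w, hw, hw1, hwv⟩ : ∃ w ∈ (S : Subgroup (alternatingGroup (Fin 5))), w ≠ 1 ∧ w ≠ v := by
          by_contra hh
          push_neg at hh
          have : Nat.card S ≤ 2 := by
            refine le_trans (le_of_eq (Nat.card_coe_set_eq _)) (le_trans (Set.ncard_le_ncard (t := {1, v})
              (fun z hz => ?_)) (le_trans (Set.ncard_insert_le _ _) (by simp)))
            by_cases e : z = 1
            · exact Or.inl e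
            · exact Or.inr (hh z hz e)
          omega
        have hvw : v * w = w * v := by
          have h1 := hsq _ (mul_mem hv hw)
          calc v * w = (v * w)⁻¹ := eq_inv_of_mul_eq_one_left h1
            _ = w * v := by rw [mul_inv_rev, inv_eq_of_mul_eq_one_right (hsq v hv), inv_eq_of_mul_eq_one_right (hsq w hw)]
        have find : ∀ z ∈ (S : Subgroup (alternatingGroup (Fin 5))),
            (x * z) * (x * z) * (x * z) * (x * z) * (x * z) = 1 → 5 ∣ Nat.card H := by
          intro z hz h
          haveI := Fact.mk Nat.prime_five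
          have ho : orderOf (x * z) = 5 := orderOf_eq_prime (by simp only [pow_succ, pow_zero, one_mul]; exact h)
            fun e => hxS z⁻¹ (inv_mem hz) (eq_inv_of_mul_eq_one_left e)
          have hd := Subgroup.orderOf_dvd_natCard _ (mul_mem hxH (hS hz))
          rw [ho] at hd
          exact hd
        rcases five_check v (hsq v hv) hv1 w (hsq w hw) hw1 hwv hvw x hx3 with e | e | e | e
        · rcases five_check w (hsq w hw) hw1 v (hsq v hv) hv1 (Ne.symm hwv) hvw.symm x hx3 with e' | e' | e' | e'
          · exfalso
            refine hxN ?_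
            have hmap : (S : Subgroup (alternatingGroup (Fin 5))).map (MulAut.conj x).toMonoidHom ≤ S := by
              have hcl : ∀ z ∈ (S : Subgroup (alternatingGroup (Fin 5))), z = 1 ∨ z = v ∨ z = w ∨ z = v * w := by
                intro z hz
                by_contra hh
                push_neg at hh
                have hsub : ({1, v, w, v * w, z} : Finset (alternatingGroup (Fin 5))).card = 5 := by
                  have n1 : v * w ≠ 1 := fun e => hwv (by
                    rw [eq_inv_of_mul_eq_one_right e, inv_eq_of_mul_eq_one_right (hsq v hv)])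
                  have n2 : v * w ≠ v := fun e => hw1 (by simpa using e)
                  have n3 : v * w ≠ w := fun e => hv1 (by simpa using e)
                  simp [Ne.symm hv1, Ne.symm hw1, Ne.symm hwv, Ne.symm n1, Ne.symm n2, Ne.symm n3,
                    Ne.symm hh.1, Ne.symm hh.2.1, Ne.symm hh.2.2.1, Ne.symm hh.2.2.2]
                have hle : (↑({1, v, w, v * w, z} : Finset (alternatingGroup (Fin 5))) : Set (alternatingGroup (Fin 5))) ⊆
                    ((S : Subgroup (alternatingGroup (Fin 5))) : Set _) := by
                  intro y hy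
                  simp only [Finset.coe_insert, Finset.coe_singleton, Set.mem_insert_iff, Set.mem_singleton_iff] at hy
                  rcases hy with rfl | rfl | rfl | rfl | rfl
                  exacts [one_mem _, hv, hw, mul_mem hv hw, hz]
                have := Set.ncard_le_ncard hle
                rw [Set.ncard_coe_finset, hsub, ← Nat.card_coe_set_eq] at this
                change 5 ≤ Nat.card S at this
                omega
              rintro _ ⟨z, hz, rfl⟩
              simp only [MulEquiv.coe_toMonoidHom, MulAut.conj_apply]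
              have iv : x * v * x⁻¹ ∈ (S : Subgroup (alternatingGroup (Fin 5))) := by
                rcases e with e | e | e <;> rw [e]
                exacts [hv, hw, mul_mem hv hw]
              have iw : x * w * x⁻¹ ∈ (S : Subgroup (alternatingGroup (Fin 5))) := by
                rcases e' with e' | e' | e' <;> rw [e']
                exacts [hw, hv, mul_mem hw hv]
              rcases hcl z hz with rfl | rfl | rfl | rfl
              · simp
              · exact iv
              · exact iw
              · rw [show x * (v * w) * x⁻¹ = (x * v * x⁻¹) * (x * w * x⁻¹) by group]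
                exact mul_mem iv iw
            exact Subgroup.mem_normalizer_iff_map_conj_eq.2 (Subgroup.eq_of_le_of_card_ge hmap
              (by rw [Subgroup.card_map_of_injective (MulAut.conj x).injective]))
          · exact find w hw e'
          · exact find v hv e'
          · exact find (w * v) (mul_mem hw hv) e'
        · exact find v hv e
        · exact find w hw e
        · exact find (v * w) (mul_mem hv hw) e
      have : H = ⊤ := by
        refine Subgroup.eq_top_of_card_eq H (Nat.dvd_antisymm (Subgroup.card_subgroup_dvd_card H) ?_)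
        rw [hG]
        exact Nat.Coprime.mul_dvd_of_dvd_of_dvd (by norm_num : Nat.Coprime 12 5)
          (Nat.Coprime.mul_dvd_of_dvd_of_dvd (by norm_num : Nat.Coprime 4 3) h4 h3) h5
      subst this
      exact pronormal_of_sylow S le_top fun n _ => map_eq_of_mem (Subgroup.mem_top n)
  · have hne : Nat.card H ≠ 20 := by
      intro h20
      have hi : H.index = 3 := by
        have := H.card_mul_index
        rw [h20, hG] at this
        omega
      have hcore : H.normalCore = ⊥ := by
        refine (hsim.eq_bot_or_eq_top_of_normal _ inferInstance).resolve_right fun e => ?_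
        have : H = ⊤ := top_le_iff.1 (e ▸ H.normalCore_le)
        rw [this, Subgroup.card_top, hG] at h20
        omega
      have := Nat.card_le_card_of_injective _
        ((MonoidHom.ker_eq_bot_iff _).1 ((Subgroup.normalCore_eq_ker H).symm.trans hcore))
      rw [hG, Nat.card_perm] at this
      change 60 ≤ Nat.factorial H.index at this
      rw [hi] at this
      norm_num [Nat.factorial] at this
    have hc4 : Nat.card H = 4 := by
      obtain ⟨c, hc⟩ := h4
      rw [hc] at hHdvd h3 hne ⊢
      have hc15 : c ∣ 15 := Nat.dvd_of_mul_dvd_mul_left (by norm_num : 0 < 4) (by simpa using hHdvd)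
      have : c ≤ 15 := Nat.le_of_dvd (by norm_num) hc15
      interval_cases c <;> simp_all
    have hHS : H = S := (Subgroup.eq_of_le_of_card_ge hS (by rw [hc4, hS4])).symm
    subst hHS
    exact pronormal_of_sylow S le_rfl fun n hn => Subgroup.mem_normalizer_iff_map_conj_eq.1 hn

/-- In the alternating group of degree n ≥ 5 every subgroup H of odd index is pronormal: for every element g, the subgroups H and gHg⁻¹ are conjugate by an element of the subgroup they generate. -/
theorem result (n : ℕ) (hn : 5 ≤ n)
    (H : Subgroup (alternatingGroup (Fin n))) (hH : Odd H.index) : Cfsg.IsPronormal H := by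
  haveI := Fact.mk Nat.prime_two
  have hS : ∃ S : Sylow 2 (alternatingGroup (Fin n)), (S : Subgroup (alternatingGroup (Fin n))) ≤ H := by
    obtain ⟨T⟩ : Nonempty (Sylow 2 H) := inferInstance
    obtain ⟨S, hS⟩ := (T.2.map H.subtype).exists_le_sylow
    refine ⟨S, ?_⟩
    have hcard : Nat.card S ≤ Nat.card ((T : Subgroup H).map H.subtype) := by
      rw [Subgroup.card_map_of_injective Subtype.val_injective, T.card_eq_multiplicity, S.card_eq_multiplicity]
      refine Nat.le_of_eq (congrArg (2 ^ ·) ?_)
      rw [← H.card_mul_index, Nat.factorization_mul Nat.card_pos.ne' Subgroup.index_ne_zero_of_finite,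
        Finsupp.add_apply, Nat.factorization_eq_zero_of_not_dvd hH.not_two_dvd_nat, add_zero]
    rw [← Subgroup.eq_of_le_of_card_ge hS hcard]
    exact Subgroup.map_subtype_le _
  obtain ⟨S, hS⟩ := hS
  rcases Nat.lt_or_ge n 6 with h6 | h6
  · obtain rfl : n = 5 := by omega
    exact five H S hS
  · exact pronormal_of_sylow S hS fun m hm =>
      map_eq_of_mem (hS (SymSylow.normalizer_sylow_alt (by simpa using h6) S hm))


end Cfsg.Agent.S2222
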