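import Cfsg.Statements.S2225
import Cfsg.Agent.Lib.Pronormal.SylowLinear
import Cfsg.Agent.Lib.Pronormal.TwoOdd
import Cfsg.Agent.Lib.Pronormal.EvenChar

set_option autoImplicit false
open Cfsg

namespace Cfsg.Agent.S2225

/-- Let F be a finite field and d = 2^w ≥ 2 a power of 2 such that PSL_d(F) is simple. Then every subgroup H of PSL_d(F) of odd index is pronormal: for every g, H and gHg⁻¹ are conjugate by an element of the subgroup they generate. -/
theorem result {F : Type*} [Field F] [Fintype F]
    (w : ℕ) (hw : 1 ≤ w) (hs : IsSimpleGroup (Matrix.ProjectiveSpecialLinearGroup (Fin (2 ^ w)) F))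
    (H : Subgroup (Matrix.ProjectiveSpecialLinearGroup (Fin (2 ^ w)) F)) (hH : Odd H.index) : Cfsg.IsPronormal H := by
  classical
  haveI : Fact (Nat.Prime 2) := ⟨Nat.prime_two⟩
  by_cases hc : ringChar F = 2
  · haveI : CharP F 2 := hc ▸ ringChar.charP F
    exact Pronormal.isPronormal_even H hH
  have hodd : Odd (Fintype.card F) := Nat.odd_iff.2 (FiniteField.odd_card_of_char_ne_two hc)
  by_cases hw1 : w = 1
  · subst hw1
    exact Pronormal.isPronormal_two hodd H hH
  haveI : Finite (Matrix.ProjectiveSpecialLinearGroup (Fin (2 ^ w)) F) :=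
    Finite.of_surjective _ (QuotientGroup.mk'_surjective _)
  obtain ⟨S, hS⟩ := Pronormal.exists_sylow_le (p := 2) (H := H)
    (fun h => (Nat.not_even_iff_odd.2 hH) (even_iff_two_dvd.2 h))
  exact Pronormal.isPronormal_of_selfNormalizing S hS
    (Pronormal.normalizer_sylow_le hodd (by omega) S)

end Cfsg.Agent.S2225
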