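import Cfsg.Statements.S2226
import Cfsg.Agent.Lib.Pronormal.SylowUnitary
import Cfsg.Agent.Lib.Pronormal.EvenHerm

set_option autoImplicit false
open Cfsg

namespace Cfsg.Agent.S2226

/-- Let F be a finite field with q² elements and d = 2^w ≥ 4 a power of 2 such that the unitary group PSU_d(q) (realised over F) is simple. Then every subgroup H of PSU_d(q) of odd index is pronormal: for every g, H and gHg⁻¹ are conjugate by an element of the subgroup they generate. -/
theorem result {F : Type*} [Field F] [Fintype F] (q : ℕ)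
    (hF : Fintype.card F = q ^ 2) (w : ℕ) (hw : 2 ≤ w) (hs : IsSimpleGroup (Cfsg.PSU (2 ^ w) F q))
    (H : Subgroup (Cfsg.PSU (2 ^ w) F q)) (hH : Odd H.index) : Cfsg.IsPronormal H := by
  classical
  haveI : Fact (Nat.Prime 2) := ⟨Nat.prime_two⟩
  haveI : Agent.AutPSU.QField F q := Agent.AutPSU.QField.of_card hF
  by_cases hc : ringChar F = 2
  · haveI : CharP F 2 := hc ▸ ringChar.charP F
    exact Pronormal.HermEven.isPronormal_even (m := 2 ^ (w - 1)) (le_trans (by norm_num) (Nat.pow_le_pow_right two_pos hw))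
      (by rw [← pow_succ', Nat.sub_add_cancel (by omega)]) H hH
  have hodd : Odd (Fintype.card F) := Nat.odd_iff.2 (FiniteField.odd_card_of_char_ne_two hc)
  have hq : Odd q := (Nat.odd_pow_iff two_ne_zero).1 (hF ▸ hodd)
  haveI : Finite (Cfsg.PSU (2 ^ w) F q) := Finite.of_surjective _ (QuotientGroup.mk'_surjective _)
  obtain ⟨S, hS⟩ := Pronormal.exists_sylow_le (p := 2) (H := H)
    (fun h => (Nat.not_even_iff_odd.2 hH) (even_iff_two_dvd.2 h))
  exact Pronormal.isPronormal_of_selfNormalizing S hS
    (Pronormal.Herm.normalizer_sylow_le q hF hq ((Agent.AutPSU.qb (F := F) q) : F →+* F)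
      (fun x => Agent.AutPSU.qb_apply x) hw S)

end Cfsg.Agent.S2226
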