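import Cfsg.Statements.S2231
import Cfsg.Agent.Lib.SL2Dickson.QdFacts
import Cfsg.Agent.Lib.SL2Dickson.Sylow

set_option autoImplicit false
open Cfsg

namespace Cfsg.Agent.S2231

/-- The p-subgroups of `PSL₂(K)` are abelian in odd characteristic `p`. -/
theorem psl_pgroup_comm {p : ℕ} [Fact p.Prime] (hp : p ≠ 2) {K : Type*} [Field K] [Fintype K] [CharP K p]
    (P : Subgroup (Matrix.ProjectiveSpecialLinearGroup (Fin 2) K)) (hP : IsPGroup p P) :
    ∀ a ∈ P, ∀ b ∈ P, a * b = b * a := by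
  have h2 : (2 : K) ≠ 0 := fun e => hp (by
    have h : ((2 : ℕ) : K) = 0 := by simpa using e
    rw [CharP.cast_eq_zero_iff K p] at h
    exact (Nat.prime_dvd_prime_iff_eq Fact.out Nat.prime_two).1 h)
  set Z := Subgroup.center (Matrix.SpecialLinearGroup (Fin 2) K)
  set Q := P.comap (QuotientGroup.mk' Z)
  obtain ⟨S⟩ : Nonempty (Sylow p Q) := inferInstance
  let π : Q →* P := (QuotientGroup.mk' Z).subgroupComap P
  have hπ : Function.Surjective π :=
    (QuotientGroup.mk' Z).subgroupComap_surjective_of_surjective P (QuotientGroup.mk'_surjective Z)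
  have htop : ((S.mapSurjective hπ : Sylow p P) : Subgroup P) = ⊤ :=
    ((S.mapSurjective hπ).3 (hP.to_subgroup ⊤) le_top).symm
  have hScomm : ∀ x ∈ (S : Subgroup Q), ∀ y ∈ (S : Subgroup Q), x * y = y * x := by
    intro x hx y hy
    have pp : ∀ z ∈ (S : Subgroup Q), ∃ k : ℕ, (z : Matrix.SpecialLinearGroup (Fin 2) K) ^ p ^ k = 1 := by
      intro z hz
      obtain ⟨k, hk⟩ := S.2 ⟨z, hz⟩
      refine ⟨k, ?_⟩
      have := congrArg (fun w : (S : Subgroup Q) => ((w : Q) : Matrix.SpecialLinearGroup (Fin 2) K)) hk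
      simpa using this
    obtain ⟨i, hi⟩ := pp x hx
    obtain ⟨j, hj⟩ := pp y hy
    obtain ⟨l, hl⟩ := pp _ (mul_mem hx hy)
    exact Subtype.ext (SL2Dickson.commute_of_tr_two h2 (SL2Dickson.isUnip_of_pPow hi)
      (SL2Dickson.isUnip_of_pPow hj) (SL2Dickson.isUnip_of_pPow hl).tr_eq)
  intro a ha b hb
  obtain ⟨x, hx, ex⟩ := htop.ge (Subgroup.mem_top ⟨a, ha⟩)
  obtain ⟨y, hy, ey⟩ := htop.ge (Subgroup.mem_top ⟨b, hb⟩)
  have : (⟨a, ha⟩ : P) * ⟨b, hb⟩ = ⟨b, hb⟩ * ⟨a, ha⟩ := by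
    rw [← ex, ← ey, ← map_mul, ← map_mul, hScomm x hx y hy]
  exact congrArg Subtype.val this

/-- Let p be an odd prime and K a finite field of characteristic p. Then Qd(p) (the natural semidirect product of an elementary abelian group of order p² by SL₂(p)) is not involved in the projective special linear group PSL₂(K). -/
theorem result {p : ℕ} [Fact p.Prime] (hp : p ≠ 2) {K : Type*} [Field K] [Fintype K] [CharP K p] : ¬ Cfsg.Involves ↥(Cfsg.qd p) (Matrix.ProjectiveSpecialLinearGroup (Fin 2) K) := by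
  rintro ⟨H, R, hR, ⟨e⟩⟩
  haveI := hR
  have habel : ∀ P : Subgroup (Matrix.ProjectiveSpecialLinearGroup (Fin 2) K), IsPGroup p P →
      ∀ a ∈ P, ∀ b ∈ P, a * b = b * a := psl_pgroup_comm hp
  obtain ⟨P₀⟩ : Nonempty (Sylow p H) := inferInstance
  let φ : H →* ↥(Cfsg.qd p) := e.toMonoidHom.comp (QuotientGroup.mk' _)
  have hφ : Function.Surjective φ := e.surjective.comp (QuotientGroup.mk'_surjective _)
  have himg : ∀ a ∈ (P₀.mapSurjective hφ : Subgroup ↥(Cfsg.qd p)),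
      ∀ b ∈ (P₀.mapSurjective hφ : Subgroup ↥(Cfsg.qd p)), a * b = b * a := by
    rintro _ ⟨a, ha, rfl⟩ _ ⟨b, hb, rfl⟩
    have := habel ((P₀ : Subgroup H).map H.subtype) (P₀.2.map _) a ⟨a, ha, rfl⟩ b ⟨b, hb, rfl⟩
    rw [← map_mul, ← map_mul, show a * b = b * a from Subtype.ext this]
  obtain ⟨S, hS⟩ := SL2Dickson.exists_sylow_sylQd (p := p)
  obtain ⟨g, hg⟩ := MulAction.exists_smul_eq ↥(Cfsg.qd p) (P₀.mapSurjective hφ) S
  have hScomm : ∀ a ∈ SL2Dickson.sylQd p, ∀ b ∈ SL2Dickson.sylQd p, a * b = b * a := by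
    intro a ha b hb
    rw [← hS, ← hg, Sylow.coe_subgroup_smul] at ha hb
    obtain ⟨a', ha', rfl⟩ := ha
    obtain ⟨b', hb', rfl⟩ := hb
    change g * a' * g⁻¹ * (g * b' * g⁻¹) = g * b' * g⁻¹ * (g * a' * g⁻¹)
    rw [conj_mul, conj_mul, himg a' ha' b' hb']
  have := hScomm (SL2Dickson.qdMk ![0, 1] (SL2Dickson.upper 0)) (SL2Dickson.qdMk_mem_sylQd.2 ⟨0, rfl⟩)
    (SL2Dickson.qdMk 0 (SL2Dickson.upper 1)) (SL2Dickson.qdMk_mem_sylQd.2 ⟨1, rfl⟩)
  rw [SL2Dickson.qdMk_mul, SL2Dickson.qdMk_mul] at this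
  have h0 := congrFun (SL2Dickson.qdMk_inj this).1 0
  simp [Matrix.mulVec, dotProduct, Fin.sum_univ_two] at h0


end Cfsg.Agent.S2231
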