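import Cfsg.Statements.S2232
import Cfsg.Agent.Lib.LocalEvenA.ModUnitary
import Cfsg.Agent.Lib.SL2Dickson.Sylow
import Cfsg.Agent.Lib.SL2Dickson.QdFacts
-- import your own Cfsg.Agent.* helpers here

set_option autoImplicit false
open Cfsg

namespace Cfsg.Agent.S2232

open LocalEvenA.UThree
open scoped MatrixGroups

variable {F : Type*} [Field F] {q : ℕ} [hQ : AutPSU.QField F q]

/-- A non-trivial element of the root group fixes one isotropic line. -/
theorem fixed_line [Fintype F] {e f w : Fin 3 → F} (hF : Frame q e f w) {a : ↥(Cfsg.SU 3 F q)}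
    (ha : a ∈ rootGroup hF) (ha1 : a ≠ 1) {v : Fin 3 → F} (hv : Cfsg.hermForm 3 F q v v = 0)
    {μ : F} (hμ : AutPSU.app a v = μ • v) : ∃ x : F, v = x • e := by
  obtain ⟨b, t, h, rfl⟩ := (mem_rootGroup hF).1 ha
  have hd := frame_decomp hF v
  set x := Cfsg.hermForm 3 F q v f
  set y := Cfsg.hermForm 3 F q v w
  set z := Cfsg.hermForm 3 F q v e
  have hiso : x * AutPSU.qb q z + y * AutPSU.qb q y + z * AutPSU.qb q x = 0 := by
    rw [← hv]
    conv_rhs => rw [hd]
    simp [hF.ee, hF.ff, hF.ef, hF.fe, hF.we, hF.ew, hF.wf, hF.fw, hF.ww]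
    ring
  conv at hμ => rw [hd, app_qe hF]
  have c0 := congrArg (fun u => Cfsg.hermForm 3 F q u e) hμ
  have c1 := congrArg (fun u => Cfsg.hermForm 3 F q u w) hμ
  have c2 := congrArg (fun u => Cfsg.hermForm 3 F q u f) hμ
  simp [hF.ee, hF.ff, hF.ef, hF.fe, hF.we, hF.ew, hF.wf, hF.fw, hF.ww] at c0 c1 c2
  have hz : z = 0 := by
    by_contra hz
    have hμ1 : μ = 1 := mul_right_cancel₀ hz (by linear_combination -c0)
    subst hμ1
    have hb : b = 0 := (mul_eq_zero.1 (show z * b = 0 by linear_combination c1)).resolve_left hz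
    subst hb
    simp at c2
    have ht : t = 0 := c2.resolve_right hz
    subst ht
    exact ha1 ((AutPSU.qE_congr (zero_smul F w) rfl).trans (AutPSU.qE_one hF.ee))
  have hy : y = 0 := by simpa [hz] using hiso
  exact ⟨x, by rw [hd, hz, hy]; simp⟩

/-- The stabiliser of the line of `e` normalises the root group. -/
theorem rootGroup_conj [Fintype F] {e f w : Fin 3 → F} (hF : Frame q e f w) {s : ↥(Cfsg.SU 3 F q)}
    {c : F} (hs : AutPSU.app s e = c • e) {a : ↥(Cfsg.SU 3 F q)} (ha : a ∈ rootGroup hF) :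
    s * a * s⁻¹ ∈ rootGroup hF := by
  obtain ⟨b, t, h, rfl⟩ := (mem_rootGroup hF).1 ha
  set a' := AutPSU.app s (b • w) with ha'
  have hc : c ≠ 0 := fun h0 => by
    have := congrArg (AutPSU.app s⁻¹) hs
    rw [h0, zero_smul, AutPSU.app_inv, AutPSU.app_zero] at this
    exact one_ne_zero (hF.ef.symm.trans (by rw [this]; simp))
  have hae : Cfsg.hermForm 3 F q a' e = 0 := by
    have h1 : Cfsg.hermForm 3 F q a' (AutPSU.app s e) = 0 := by
      rw [ha', AutPSU.app_H]; simp [hF.we]
    rw [hs, AutPSU.H_smul_right] at h1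
    rcases mul_eq_zero.1 h1 with h2 | h2
    · exact absurd h2 (by simpa using hc)
    · exact h2
  have hd := frame_decomp hF a'
  rw [hae, zero_smul, add_zero] at hd
  set x := Cfsg.hermForm 3 F q a' f
  set y := Cfsg.hermForm 3 F q a' w
  -- pass to the point `e`
  have hA : ∀ v : Fin 3 → F, AutPSU.app (s * AutPSU.qE e (b • w) t h * s⁻¹) v =
      v + (Cfsg.hermForm 3 F q v e * (AutPSU.qb q c * y)) • w
        - (Cfsg.hermForm 3 F q v w * (AutPSU.qb q y * c)) • e
        + ((t * AutPSU.qb q c * c + (x * AutPSU.qb q c - AutPSU.qb q x * c)) * Cfsg.hermForm 3 F q v e) • e := by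
    intro v
    rw [AutPSU.qE_conj, AutPSU.qE_apply, hs, ← ha']
    conv_lhs => rw [hd]
    simp only [AutPSU.H_smul_right, AutPSU.H_add_right]
    module
  set t' := t * AutPSU.qb q c * c + (x * AutPSU.qb q c - AutPSU.qb q x * c) with ht'
  have hn := h.2.2
  simp [hF.ww] at hn
  have hnorm : y * AutPSU.qb q y = b * AutPSU.qb q b := by
    have h1 : Cfsg.hermForm 3 F q a' a' = b * AutPSU.qb q b := by
      rw [ha', AutPSU.app_H]; simp [hF.ww]; ring
    rw [← h1, hd]
    simp [hF.ee, hF.we, hF.ew, hF.ww]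
    ring
  have hq : AutPSU.IsQ q e ((AutPSU.qb q c * y) • w) t' := by
    refine ⟨hF.ee, by simp [hF.we], ?_⟩
    simp [hF.ww, ht', map_add, map_sub, map_mul, AutPSU.qb_qb]
    linear_combination (c * AutPSU.qb q c) * hn + (c * AutPSU.qb q c) * hnorm
  refine (mem_rootGroup hF).2 ⟨_, _, hq, AutPSU.su_ext fun v => ?_⟩
  show AutPSU.app _ v = AutPSU.app _ v
  rw [hA, AutPSU.qE_apply]
  simp only [AutPSU.H_smul_right, map_mul, AutPSU.qb_qb]
  module


/-- Let p be an odd prime, q a power of p and K a finite field with q² elements. Then Qd(p) (the natural semidirect product of an elementary abelian group of order p² by SL₂(p)) is not involved in the projective special unitary group PSU₃(q) realised over K. -/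
theorem result {p : ℕ} [Fact p.Prime] (hp : p ≠ 2) {K : Type*} [Field K] [Fintype K] [CharP K p] (n : ℕ) (hn : 1 ≤ n) (hK : Fintype.card K = (p ^ n) ^ 2) : ¬ Cfsg.Involves ↥(Cfsg.qd p) (Cfsg.PSU 3 K (p ^ n)) := by
  rintro ⟨H, R, hR, ⟨E⟩⟩
  haveI := hR
  classical
  haveI : AutPSU.QField K (p ^ n) := AutPSU.QField.of_card hK
  obtain ⟨e, f, w, hF⟩ := exists_frame (F := K) (q := p ^ n)
  set Z := Subgroup.center ↥(Cfsg.SU 3 K (p ^ n))
  let X : Subgroup ↥(Cfsg.SU 3 K (p ^ n)) := H.comap (QuotientGroup.mk' Z)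
  let φ : X →* ↥(Cfsg.qd p) :=
    (E.toMonoidHom.comp (QuotientGroup.mk' _)).comp ((QuotientGroup.mk' Z).subgroupComap H)
  have hφ : Function.Surjective φ :=
    (E.surjective.comp (QuotientGroup.mk'_surjective _)).comp
      ((QuotientGroup.mk' Z).subgroupComap_surjective_of_surjective H (QuotientGroup.mk'_surjective Z))
  let ψ : X →* SL(2, ZMod p) := (SL2Dickson.qdProj (F := ZMod p)).comp φ
  have hψ : Function.Surjective ψ := SL2Dickson.qdProj_surjective.comp hφ
  let M : Subgroup X := ψ.ker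
  obtain ⟨P⟩ : Nonempty (Sylow p M) := inferInstance
  set P' : Subgroup X := (P : Subgroup M).map M.subtype with hP'
  have hfrat : Subgroup.normalizer (P' : Set X) ⊔ M = ⊤ := Sylow.normalizer_sup_eq_top P
  set Q : Subgroup ↥(Cfsg.SU 3 K (p ^ n)) := P'.map X.subtype with hQdef
  have hQp : IsPGroup p Q := (P.2.map _).map _
  have hQne : Q ≠ ⊥ := by
    intro hb
    rw [hQdef, Subgroup.map_eq_bot_iff_of_injective _ X.subtype_injective, hP',
      Subgroup.map_eq_bot_iff_of_injective _ M.subtype_injective] at hb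
    have hdvd : p ∣ Nat.card M := by
      let v : ↥(Cfsg.qdOver (ZMod p)) := SL2Dickson.qdTr (Multiplicative.ofAdd ![1, 0])
      obtain ⟨x, hx⟩ := hφ v
      have hxM : x ∈ M := by
        show SL2Dickson.qdProj (φ x) = 1
        rw [hx]; exact SL2Dickson.qdProj_mk _ _
      let χ : M →* ↥(Cfsg.qd p) := φ.comp M.subtype
      have hv : orderOf v = p := by
        refine orderOf_eq_prime ?_ ?_
        · rw [← map_pow, ← ofAdd_nsmul,
            show p • (![1, 0] : Fin 2 → ZMod p) = 0 by ext i; simp [nsmul_eq_mul], ofAdd_zero, map_one]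
        · intro h
          have := congrFun (SL2Dickson.qdMk_inj (h.trans SL2Dickson.qdMk_one.symm)).1 0
          simp at this
      have h1 : orderOf (χ ⟨x, hxM⟩) ∣ orderOf (⟨x, hxM⟩ : M) := orderOf_map_dvd χ _
      rw [show χ ⟨x, hxM⟩ = v from hx] at h1
      exact (hv.symm.dvd.trans h1).trans (orderOf_dvd_natCard _)
    have := P.card_eq_multiplicity
    rw [hb, Subgroup.card_bot] at this
    have h2 : (Nat.card M).factorization p = 0 := by
      by_contra h0
      exact absurd this.symm (Nat.one_lt_pow h0 (Fact.out : p.Prime).one_lt).ne'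
    exact absurd ((Fact.out : p.Prime).factorization_pos_of_dvd Nat.card_pos.ne' hdvd) (by omega)
  have hn0 : n ≠ 0 := by omega
  let R₀ : Sylow p ↥(Cfsg.SU 3 K (p ^ n)) := Sylow.ofCard (rootGroup hF) (by
    rw [card_rootGroup hF, sylow_card rfl hn0, ← pow_mul, mul_comm])
  obtain ⟨S, hS⟩ := hQp.exists_le_sylow
  obtain ⟨g, hg⟩ := MulAction.exists_smul_eq ↥(Cfsg.SU 3 K (p ^ n)) R₀ S
  have hQR : ∀ a ∈ Q, g⁻¹ * a * g ∈ rootGroup hF := by
    intro a ha
    have h1 := hS ha
    rw [← hg, Sylow.coe_subgroup_smul] at h1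
    obtain ⟨r, hr, rfl⟩ := h1
    show g⁻¹ * (g * r * g⁻¹) * g ∈ _
    rw [show g⁻¹ * (g * r * g⁻¹) * g = r by group]
    exact hr
  obtain ⟨a, haQ, ha1⟩ := Q.bot_or_exists_ne_one.resolve_left hQne
  -- the normalizer fixes the line of `g e`
  let U : Subgroup X := ((rootGroup hF).map (MulAut.conj g).toMonoidHom).comap X.subtype
  have hline : ∀ x ∈ Subgroup.normalizer (P' : Set X),
      ∃ c : K, AutPSU.app (g⁻¹ * (x : ↥(Cfsg.SU 3 K (p ^ n))) * g) e = c • e := by
    intro x hx
    set s := g⁻¹ * (x : ↥(Cfsg.SU 3 K (p ^ n))) * g with hs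
    set a₁ := g⁻¹ * a * g with ha₁
    have hb : (x : ↥(Cfsg.SU 3 K (p ^ n)))⁻¹ * a * x ∈ Q := by
      obtain ⟨a', ha', rfl⟩ := haQ
      refine ⟨x⁻¹ * a' * x, ?_, rfl⟩
      have := (Subgroup.mem_normalizer_iff.1 (inv_mem hx) a').1 ha'
      simpa using this
    set b₁ := g⁻¹ * ((x : ↥(Cfsg.SU 3 K (p ^ n)))⁻¹ * a * x) * g with hb₁
    have hsb : a₁ * s = s * b₁ := by rw [hb₁, ha₁, hs]; group
    obtain ⟨b, t, hh, hb'⟩ := (mem_rootGroup hF).1 (hQR _ hb)
    have hfix : AutPSU.app b₁ e = e := by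
      rw [hb₁, hb', AutPSU.qE_apply, hF.ee]
      simp [hF.ew]
    have h2 : AutPSU.app a₁ (AutPSU.app s e) = (1 : K) • AutPSU.app s e := by
      rw [one_smul, ← AutPSU.app_mul, hsb, AutPSU.app_mul, hfix]
    exact fixed_line hF (hQR a haQ) (fun h1 => ha1 (by
      have := congrArg (fun z => g * z * g⁻¹) h1
      simpa [ha₁, mul_assoc] using this)) (by rw [AutPSU.app_H, hF.ee]) h2
  set N := Subgroup.normalizer (P' : Set X) with hN
  have hsurjN : ∀ y : SL(2, ZMod p), ∃ x ∈ N, ψ x = y := by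
    intro y
    obtain ⟨x, rfl⟩ := hψ y
    have hx : x ∈ N ⊔ M := hfrat ▸ Subgroup.mem_top x
    rw [← SetLike.mem_coe, Subgroup.mul_normal N M] at hx
    obtain ⟨x₁, h1, m, hm, rfl⟩ := hx
    exact ⟨x₁, h1, by rw [map_mul, show ψ m = 1 from hm, mul_one]⟩
  -- every `p`-element of `N` lies in `U`
  have hroot : IsPGroup p (rootGroup hF) := R₀.2
  let W : Subgroup SL(2, ZMod p) := (U ⊓ N).map ψ
  have hWp : IsPGroup p W :=
    ((((hroot.map _).comap_of_injective X.subtype X.subtype_injective)).to_le inf_le_left).map ψ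
  have hall : ∀ y : SL(2, ZMod p), y ^ p = 1 → y ∈ W := by
    intro y hy
    obtain ⟨x, hx, rfl⟩ := hsurjN y
    -- replace `x` by a `p`-power order element
    set o := orderOf x with ho
    obtain ⟨k, m, hm, hkm⟩ := Nat.exists_eq_pow_mul_and_not_dvd (orderOf_pos x).ne' p (Fact.out : p.Prime).ne_one
    obtain ⟨i, hi⟩ : ∃ i, m * i ≡ 1 [MOD p] := by
      have hcop : Nat.Coprime m p := ((Fact.out : p.Prime).coprime_iff_not_dvd.2 hm).symm
      obtain ⟨i, -, hi⟩ := Nat.exists_mul_mod_eq_one_of_coprime hcop (Fact.out : p.Prime).one_lt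
      exact ⟨i, by rw [Nat.ModEq, hi, Nat.mod_eq_of_lt (Fact.out : p.Prime).one_lt]⟩
    have hxp : (x ^ (m * i)) ^ p ^ k = 1 := by
      rw [← pow_mul, show m * i * p ^ k = (p ^ k * m) * i by ring, ← hkm, pow_mul, pow_orderOf_eq_one,
        one_pow]
    have hψx : ψ (x ^ (m * i)) = ψ x := by
      rw [map_pow]
      conv_rhs => rw [← pow_one (ψ x)]
      exact pow_eq_pow_iff_modEq.2 (hi.of_dvd (orderOf_dvd_of_pow_eq_one hy))
    refine ⟨x ^ (m * i), ⟨?_, pow_mem hx _⟩, hψx⟩
    -- `U` is the unique Sylow subgroup of `⟨U, N⟩`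
    set z : ↥(Cfsg.SU 3 K (p ^ n)) := g⁻¹ * ((x ^ (m * i) : X) : ↥(Cfsg.SU 3 K (p ^ n))) * g with hz
    obtain ⟨c, hc⟩ := hline _ (pow_mem hx (m * i))
    have hzp : z ^ p ^ k = 1 := by
      rw [hz, show g⁻¹ * ((x ^ (m * i) : X) : ↥(Cfsg.SU 3 K (p ^ n))) * g =
        MulAut.conj g⁻¹ ((x ^ (m * i) : X) : ↥(Cfsg.SU 3 K (p ^ n))) by simp, ← map_pow,
        ← Subgroup.coe_pow, hxp]
      simp
    have hzn : z ∈ Subgroup.normalizer (rootGroup hF : Set ↥(Cfsg.SU 3 K (p ^ n))) := by
      have hzc : AutPSU.app z e = c • e := hc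
      rw [Subgroup.mem_normalizer_iff]
      intro u
      refine ⟨fun hu => rootGroup_conj hF hzc hu, fun hu => ?_⟩
      have hc0 : c ≠ 0 := fun h0 => by
        have := congrArg (AutPSU.app z⁻¹) hzc
        rw [h0, zero_smul, AutPSU.app_inv, AutPSU.app_zero] at this
        exact one_ne_zero (hF.ef.symm.trans (by rw [this]; simp))
      have hinv : AutPSU.app z⁻¹ e = c⁻¹ • e := by
        have := congrArg (AutPSU.app z⁻¹) hzc
        rw [AutPSU.app_inv, AutPSU.app_smul] at this
        rw [eq_inv_smul_iff₀ hc0]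
        exact this.symm
      simpa [mul_assoc] using rootGroup_conj hF hinv hu
    have hzR : Subgroup.zpowers z ≤ rootGroup hF := by
      have hzg : IsPGroup p (Subgroup.zpowers z) := by
        rintro ⟨u, hu⟩
        obtain ⟨j, rfl⟩ := Subgroup.mem_zpowers_iff.1 hu
        exact ⟨k, Subtype.ext (by
          show (z ^ j) ^ p ^ k = 1
          rw [← zpow_natCast, ← zpow_mul, mul_comm, zpow_mul, zpow_natCast, hzp, one_zpow])⟩
      have hle := hzg.to_sup_of_normal_right' hroot (Subgroup.zpowers_le.2 hzn)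
      exact le_trans le_sup_left (R₀.3 hle (le_sup_right)).le
    refine ⟨z, hzR (Subgroup.mem_zpowers z), ?_⟩
    simp [hz, mul_assoc]
  -- contradiction in `SL₂(p)`
  have hu : ∀ j : ZMod p, (SL2Dickson.upper j) ^ p = 1 ∧ (SL2Dickson.lower j) ^ p = 1 := by
    intro j
    have key : ∀ r : ℕ, ((SL2Dickson.upper j) ^ r : SL(2, ZMod p)) = SL2Dickson.upper (r * j) ∧
        ((SL2Dickson.lower j) ^ r : SL(2, ZMod p)) = SL2Dickson.lower (r * j) := by
      intro r
      induction r with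
      | zero =>
        rw [pow_zero, pow_zero]
        constructor <;> ext a b <;> fin_cases a <;> fin_cases b <;>
          simp [SL2Dickson.upper, SL2Dickson.lower]
      | succ r ih =>
        constructor
        · rw [pow_succ, ih.1]
          ext a b
          rw [Matrix.SpecialLinearGroup.coe_mul]
          fin_cases a <;> fin_cases b <;> simp [SL2Dickson.upper, Matrix.mul_apply, Fin.sum_univ_two] <;> ring
        · rw [pow_succ, ih.2]
          ext a b
          rw [Matrix.SpecialLinearGroup.coe_mul]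
          fin_cases a <;> fin_cases b <;> simp [SL2Dickson.lower, Matrix.mul_apply, Fin.sum_univ_two] <;> ring
    constructor
    · rw [(key p).1]
      ext a b
      fin_cases a <;> fin_cases b <;> simp [SL2Dickson.upper]
    · rw [(key p).2]
      ext a b
      fin_cases a <;> fin_cases b <;> simp [SL2Dickson.lower]
  obtain ⟨k, hk⟩ := hWp ⟨_, mul_mem (hall _ (hu 1).1) (hall _ (hu 1).2)⟩
  have htr := (SL2Dickson.isUnip_of_pPow (p := p)
    (h := SL2Dickson.upper 1 * SL2Dickson.lower 1) (congrArg Subtype.val hk)).tr_eq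
  rw [SL2Dickson.tr, Matrix.SpecialLinearGroup.coe_mul] at htr
  simp [SL2Dickson.upper, SL2Dickson.lower, Matrix.trace_fin_two, Matrix.mul_apply,
    Fin.sum_univ_two] at htr
  exact one_ne_zero (α := ZMod p) (by linear_combination htr)

end Cfsg.Agent.S2232
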