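import Cfsg.Statements.S2238
import Cfsg.Agent.Lib.Suzuki.Partition

set_option autoImplicit false
open Cfsg

namespace Cfsg.Agent.S2238

/-- The partition of the Suzuki group: with q = 2^(2m+1), m ≥ 1, r = 2^m and the Suzuki group realised as the stabiliser in SL₄ of the Suzuki–Tits ovoid, every non-identity element lies in exactly one subgroup that is either a Sylow 2-subgroup or a cyclic subgroup of order q − 1, q + 2r + 1 or q − 2r + 1. -/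
theorem result {F : Type*} [Field F] [Fintype F] {m : ℕ} (hm : 1 ≤ m) (hF : Fintype.card F = 2 ^ (2 * m + 1)) (g : ↥(Cfsg.Sz F m)) (hg : g ≠ 1) :
    ∃! U : Subgroup ↥(Cfsg.Sz F m), ((∃ P : Sylow 2 ↥(Cfsg.Sz F m), U = (P : Subgroup ↥(Cfsg.Sz F m))) ∨
      (IsCyclic ↥U ∧ Nat.card ↥U ∈ ({2 ^ (2 * m + 1) - 1, 2 ^ (2 * m + 1) + 2 ^ (m + 1) + 1, 2 ^ (2 * m + 1) - 2 ^ (m + 1) + 1} : Set ℕ))) ∧ g ∈ U := by
  obtain ⟨D⟩ := Cfsg.Agent.Suzuki.exists_dat hm hF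
  have hk : Fintype.card F - 1 = 2 ^ (2 * m + 1) - 1 := by rw [hF]
  have hmemK : ∀ x : ℕ, x ∈ ({2 ^ (2 * m + 1) - 1, 2 ^ (2 * m + 1) + 2 ^ (m + 1) + 1, 2 ^ (2 * m + 1) - 2 ^ (m + 1) + 1} : Set ℕ) ↔
      x = Fintype.card F - 1 ∨ x = Fintype.card F + 2 ^ (m + 1) + 1 ∨ x = Fintype.card F - 2 ^ (m + 1) + 1 := by
    intro x; rw [hF]; simp
  -- the three kinds of members
  have hkind : ∀ U : Subgroup ↥(Cfsg.Sz F m),
      ((∃ P : Sylow 2 ↥(Cfsg.Sz F m), U = (P : Subgroup ↥(Cfsg.Sz F m))) ∨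
      (IsCyclic ↥U ∧ Nat.card ↥U ∈ ({2 ^ (2 * m + 1) - 1, 2 ^ (2 * m + 1) + 2 ^ (m + 1) + 1, 2 ^ (2 * m + 1) - 2 ^ (m + 1) + 1} : Set ℕ))) →
      (∃ a : Cfsg.suzukiOvoid F m, ∀ x, x ∈ U ↔ x = 1 ∨ (x • a = a ∧ ∀ p, x • p = p → p = a)) ∨
      (∃ a b, a ≠ b ∧ U = Cfsg.Agent.Suzuki.pairStab a b) ∨ Cfsg.Agent.Suzuki.IsTorus U := by
    rintro U (⟨P, rfl⟩ | ⟨hc, hcard⟩)
    · exact Or.inl (Cfsg.Agent.Suzuki.sylow_point D hF P)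
    · rcases (hmemK _).1 hcard with h | h
      · exact Or.inr (Or.inl ((Cfsg.Agent.Suzuki.cyclic_card_cases D hF hc).1 h))
      · exact Or.inr (Or.inr ((Cfsg.Agent.Suzuki.cyclic_card_cases D hF hc).2 h))
  rcases Cfsg.Agent.Suzuki.fix_trichotomy g with h0 | h1 | h2
  · obtain ⟨U, hU, hgU⟩ := Cfsg.Agent.Suzuki.exists_torus_mem D hF hg h0
    refine ⟨U, ⟨Or.inr ⟨hU.isCyclic D hF, (hmemK _).2 (Or.inr (Cfsg.Agent.Suzuki.torus_card D hF hU))⟩, hgU⟩, ?_⟩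
    rintro V ⟨hV, hgV⟩
    rcases hkind V hV with ⟨a, ha⟩ | ⟨a, b, -, rfl⟩ | hT
    · exact absurd (((ha g).1 hgV).resolve_left hg).1 (h0 a)
    · exact absurd hgV.1 (h0 a)
    · exact hT.eq_of_mem D hF hU hgV hgU hg
  · obtain ⟨a, ha, hu⟩ := h1
    obtain ⟨P, hP⟩ := Cfsg.Agent.Suzuki.exists_sylow_point D hF a
    refine ⟨P, ⟨Or.inl ⟨P, rfl⟩, (hP g).2 (Or.inr ⟨ha, hu⟩)⟩, ?_⟩
    rintro V ⟨hV, hgV⟩
    rcases hkind V hV with ⟨c, hc⟩ | ⟨c, d, hcd, rfl⟩ | hT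
    · obtain ⟨hgc, -⟩ := ((hc g).1 hgV).resolve_left hg
      obtain rfl := hu c hgc
      ext x; rw [hc, hP]
    · exact absurd ((hu c hgV.1).trans (hu d hgV.2).symm) hcd
    · exact absurd ha (hT.fpf D hF hgV hg a)
  · obtain ⟨a, b, hab, ha, hb⟩ := h2
    refine ⟨Cfsg.Agent.Suzuki.pairStab a b, ⟨Or.inr ⟨Cfsg.Agent.Suzuki.pair_cyclic D hF hab _ (fun c hc => hc),
      (hmemK _).2 (Or.inl (Cfsg.Agent.Suzuki.card_pairStab D hF hab))⟩, ⟨ha, hb⟩⟩, ?_⟩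
    rintro V ⟨hV, hgV⟩
    rcases hkind V hV with ⟨c, hc⟩ | ⟨c, d, hcd, rfl⟩ | hT
    · obtain ⟨-, hu⟩ := ((hc g).1 hgV).resolve_left hg
      exact absurd ((hu a ha).trans (hu b hb).symm) hab
    · rcases Cfsg.Agent.Suzuki.eq_pair_or D hF hg hab ha hb hgV.1 with rfl | rfl <;>
        rcases Cfsg.Agent.Suzuki.eq_pair_or D hF hg hab ha hb hgV.2 with rfl | rfl
      · exact absurd rfl hcd
      · rfl
      · exact inf_comm _ _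
      · exact absurd rfl hcd
    · exact absurd ha (hT.fpf D hF hgV hg a)


end Cfsg.Agent.S2238
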