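import Cfsg.Statements.S2239
import Cfsg.Agent.Lib.Suzuki.SubField

set_option autoImplicit false
open Cfsg

namespace Cfsg.Agent.S2239

/-- Subfield subgroups of the Suzuki group: let q = 2^(2m+1) and s = 2^(2k+1) with m, k ≥ 1 and 2k+1 dividing 2m+1 (so q is a power of s), both groups realised as stabilisers in SL₄ of the Suzuki–Tits ovoid. Then Sz(q) has a subgroup isomorphic to Sz(s), and any two subgroups of Sz(q) isomorphic to Sz(s) are conjugate. -/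
theorem result {F : Type*} [Field F] [Fintype F] {m : ℕ} (hm : 1 ≤ m) (hF : Fintype.card F = 2 ^ (2 * m + 1)) {K : Type*} [Field K] [Fintype K] {k : ℕ} (hk : 1 ≤ k) (hK : Fintype.card K = 2 ^ (2 * k + 1)) (hdiv : 2 * k + 1 ∣ 2 * m + 1) :
    (∃ S : Subgroup ↥(Cfsg.Sz F m), Nonempty (↥S ≃* ↥(Cfsg.Sz K k))) ∧
    ∀ S₁ S₂ : Subgroup ↥(Cfsg.Sz F m), Nonempty (↥S₁ ≃* ↥(Cfsg.Sz K k)) → Nonempty (↥S₂ ≃* ↥(Cfsg.Sz K k)) →
      ∃ g : ↥(Cfsg.Sz F m), S₂ = S₁.map (MulAut.conj g).toMonoidHom := by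
  open Cfsg.Agent.Suzuki in
  classical
  obtain ⟨D⟩ := exists_dat (F := F) hm hF
  obtain ⟨DK⟩ := exists_dat (F := K) hk hK
  obtain ⟨σ⟩ := exists_ringHom (F := F) (K := K) hF hK hdiv
  refine ⟨⟨(subHom D hF DK hK hdiv σ).range,
    ⟨(MonoidHom.ofInjective (subHom_injective D hF DK hK hdiv σ)).symm⟩⟩, ?_⟩
  have key : ∀ S : Subgroup (Cfsg.Sz F m), Nonempty (S ≃* Cfsg.Sz K k) →
      ∃ g, S.map (MulAut.conj g).toMonoidHom = (subHom D hF DK hK hdiv σ).range := by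
    rintro S ⟨e⟩
    haveI := simple DK hK
    haveI : IsSimpleGroup S := e.isSimpleGroup
    obtain ⟨a, b, hab⟩ := not_commutative DK hK
    have hS : S ≠ ⊥ := by
      intro h
      subst h
      have : e.symm a = e.symm b := Subsingleton.elim _ _
      exact hab (by rw [e.symm.injective this])
    have hA : ∀ A : Subgroup (Cfsg.Sz F m), A ≤ S → S ≤ Subgroup.normalizer (A : Set (Cfsg.Sz F m)) →
        (∀ a ∈ A, ∀ b ∈ A, Commute a b) → A = ⊥ := by
      intro A hAS hSA hAc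
      have hn : (A.subgroupOf S).Normal := ⟨fun x hx y => by
        rw [Subgroup.mem_subgroupOf] at hx ⊢
        exact (Subgroup.mem_normalizer_iff.1 (hSA y.2) x).1 hx⟩
      rcases hn.eq_bot_or_eq_top with h | h
      · rw [Subgroup.subgroupOf_eq_bot, disjoint_iff, inf_eq_left.2 hAS] at h
        exact h
      · exfalso
        apply hab
        have hmem : ∀ x : S, (x : Cfsg.Sz F m) ∈ A := fun x => by
          have : x ∈ A.subgroupOf S := h ▸ Subgroup.mem_top x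
          exact this
        have hc : Commute (e.symm a) (e.symm b) := Subtype.ext (hAc _ (hmem _) _ (hmem _)).eq
        simpa using hc.map e.toMonoidHom
    obtain ⟨d, g, hd, -, hcard, hw, hT, hH⟩ := classify D hF S hS hA
    have h1 : Nat.card S = ((2 ^ (2 * k + 1)) ^ 2 + 1) * ((2 ^ (2 * k + 1)) ^ 2 * (2 ^ (2 * k + 1) - 1)) := by
      rw [Nat.card_congr e.toEquiv, card_sz DK hK, hK]; ring
    have mono : ∀ p r : ℕ, p < r → ((2 ^ (2 * p + 1)) ^ 2 + 1) * ((2 ^ (2 * p + 1)) ^ 2 * (2 ^ (2 * p + 1) - 1)) <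
        ((2 ^ (2 * r + 1)) ^ 2 + 1) * ((2 ^ (2 * r + 1)) ^ 2 * (2 ^ (2 * r + 1) - 1)) := by
      intro p r hpr
      have h2 : 2 ^ (2 * p + 1) < 2 ^ (2 * r + 1) := Nat.pow_lt_pow_right (by norm_num) (by omega)
      have h3 : (2 ^ (2 * p + 1)) ^ 2 < (2 ^ (2 * r + 1)) ^ 2 := Nat.pow_lt_pow_left h2 two_ne_zero
      have h4 : 2 ^ (2 * p + 1) - 1 < 2 ^ (2 * r + 1) - 1 := by
        have := Nat.one_le_two_pow (n := 2 * p + 1)
        omega
      exact Nat.mul_lt_mul_of_lt_of_lt (by omega) (Nat.mul_lt_mul_of_lt_of_lt h3 h4)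
    have hdk : d = k := by
      rcases lt_trichotomy d k with h | h | h
      · exact absurd (mono d k h) (by rw [← hcard, ← h1]; exact lt_irrefl _)
      · exact h
      · exact absurd (mono k d h) (by rw [← hcard, ← h1]; exact lt_irrefl _)
    subst hdk
    exact ⟨g, eq_range_subHom D hF DK hK hdiv σ hw hT hH (by rw [card_map_conj, hcard])⟩
  intro S₁ S₂ h₁ h₂
  obtain ⟨g₁, e₁⟩ := key S₁ h₁
  obtain ⟨g₂, e₂⟩ := key S₂ h₂
  refine ⟨g₂⁻¹ * g₁, ?_⟩
  ext y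
  rw [mem_map_conj, show (g₂⁻¹ * g₁)⁻¹ * y * (g₂⁻¹ * g₁) = g₁⁻¹ * (g₂ * y * g₂⁻¹) * g₁ by group,
    ← mem_map_conj, e₁, ← e₂, mem_map_conj, show g₂⁻¹ * (g₂ * y * g₂⁻¹) * g₂ = y by group]

end Cfsg.Agent.S2239
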