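import Cfsg.Statements.S2240
import Cfsg.Agent.Lib.Suzuki.Partition

set_option autoImplicit false
open Cfsg

namespace Cfsg.Agent.S2240

/-- Elementary abelian TI-subgroups of the Suzuki group: let q = 2^(2m+1) with m ≥ 1, the group realised as the stabiliser in SL₄ of the Suzuki–Tits ovoid, and n ≥ 2. There is an elementary abelian 2-subgroup E of order 2^n that is a TI-subgroup (every conjugate of E meeting E nontrivially is E itself) if and only if n divides 2m + 1. -/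
theorem result {F : Type*} [Field F] [Fintype F] {m : ℕ} (hm : 1 ≤ m) (hF : Fintype.card F = 2 ^ (2 * m + 1)) (n : ℕ) (hn : 2 ≤ n) :
    (∃ E : Subgroup ↥(Cfsg.Sz F m), Cfsg.IsElementaryAbelian 2 E ∧ Nat.card ↥E = 2 ^ n ∧
      ∀ x : ↥(Cfsg.Sz F m), E ⊓ E.map (MulAut.conj x).toMonoidHom ≠ ⊥ → x ∈ Subgroup.normalizer (E : Set ↥(Cfsg.Sz F m))) ↔ n ∣ 2 * m + 1 := by
  obtain ⟨D⟩ := Cfsg.Agent.Suzuki.exists_dat hm hF
  haveI := D.char2
  classical
  have hscale : ∀ l : F, l ≠ 0 → ∃ u : Fˣ, D.θ u ^ 2 * (u : F) ^ 2 = l := by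
    have hinj : Function.Injective (fun u : Fˣ => Units.mk0 (D.θ u ^ 2 * (u : F) ^ 2)
        (mul_ne_zero (pow_ne_zero 2 ((map_ne_zero D.θ).2 u.ne_zero)) (pow_ne_zero 2 u.ne_zero))) := by
      intro u v h
      have h' : D.θ u ^ 2 * (u : F) ^ 2 = D.θ v ^ 2 * (v : F) ^ 2 := congrArg Units.val h
      rw [← mul_pow, ← mul_pow] at h'
      have h2 := D.sq_inj h'
      refine Units.ext ((div_eq_one_iff_eq v.ne_zero).1 (Cfsg.Agent.Suzuki.scale_eq_one D hF
        (div_ne_zero u.ne_zero v.ne_zero) ?_))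
      rw [map_div₀, div_mul_div_comm, h2, div_self (mul_ne_zero ((map_ne_zero D.θ).2 v.ne_zero) v.ne_zero)]
    intro l hl
    obtain ⟨u, hu⟩ := Finite.injective_iff_surjective.1 hinj (Units.mk0 l hl)
    exact ⟨u, congrArg Units.val hu⟩
  have hmap : ∀ (E : Subgroup ↥(Cfsg.Sz F m)) (x y : ↥(Cfsg.Sz F m)),
      y ∈ E.map (MulAut.conj x).toMonoidHom ↔ x⁻¹ * y * x ∈ E := by
    intro E x y
    constructor
    · rintro ⟨z, hz, rfl⟩
      show x⁻¹ * (x * z * x⁻¹) * x ∈ E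
      rwa [show x⁻¹ * (x * z * x⁻¹) * x = z by group]
    · exact fun h => ⟨_, h, show x * (x⁻¹ * y * x) * x⁻¹ = y by group⟩
  constructor
  · rintro ⟨E, ⟨hcomm, hexp⟩, hcard, hTI⟩
    haveI : Nontrivial E := Finite.one_lt_card_iff_nontrivial.1 (by
      rw [hcard]; exact Nat.one_lt_two_pow (by omega))
    obtain ⟨⟨e, he⟩, he1⟩ := exists_ne (1 : E)
    have he1' : e ≠ 1 := fun h => he1 (Subtype.ext h)
    have hord : ∀ x ∈ E, x ≠ 1 → orderOf x = 2 := by
      intro x hx hx1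
      exact orderOf_eq_prime (by rw [pow_two]; simpa [pow_two] using hexp x hx) hx1
    have hone : ∀ x ∈ E, x ≠ 1 → Cfsg.Agent.Suzuki.OneFix x := by
      intro x hx hx1
      rcases Cfsg.Agent.Suzuki.fix_trichotomy x with h0 | h1 | h2
      · exact absurd h0 (Cfsg.Agent.Suzuki.not_fpf_of_orderOf_two D hF (hord x hx hx1))
      · exact h1
      · exact absurd (Cfsg.Agent.Suzuki.odd_orderOf_of_twoFix D hF h2) (by rw [hord x hx hx1]; decide)
    obtain ⟨a, ha, hu⟩ := hone e he he1'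
    obtain ⟨k, hk⟩ := Cfsg.Agent.Suzuki.transitive D a
    have hform : ∀ x ∈ E, ∃ b, x = k * Cfsg.Agent.Suzuki.gT D 0 b * k⁻¹ := by
      intro x hx
      have hQ : k⁻¹ * x * k ∈ Cfsg.Agent.Suzuki.Q D := by
        by_cases hx1 : x = 1
        · rw [hx1, mul_one, inv_mul_cancel]; exact one_mem _
        obtain ⟨c, hc, hcu⟩ := hone x hx hx1
        have hxe : Commute x e := by
          have := congrArg Subtype.val ((isMulCommutative_iff.1 hcomm) ⟨x, hx⟩ ⟨e, he⟩)
          exact this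
        have hca : c = a := hu c (Cfsg.Agent.Suzuki.smul_fix_of_commute hxe.symm hc |> fun h => hcu _ h)
        subst hca
        refine (Cfsg.Agent.Suzuki.mem_Q_iff D hF).2 (Or.inr ⟨?_, fun p hp => ?_⟩)
        · rw [mul_smul, mul_smul, hk, hc, ← hk, inv_smul_smul]
        · rw [mul_smul, mul_smul, inv_smul_eq_iff] at hp
          exact MulAction.injective k ((hcu _ hp).trans hk.symm)
      obtain ⟨c, b, hb⟩ := hQ
      refine ⟨b, ?_⟩
      have h2 : (k⁻¹ * x * k) * (k⁻¹ * x * k) = 1 := by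
        rw [show (k⁻¹ * x * k) * (k⁻¹ * x * k) = k⁻¹ * (x * x) * k by group,
          show x * x = 1 by simpa [pow_two] using hexp x hx]
        group
      rw [hb, Cfsg.Agent.Suzuki.gT_mul, ← Cfsg.Agent.Suzuki.gT_zero D] at h2
      have h3 := (Cfsg.Agent.Suzuki.gT_inj D h2).2
      have hc0 : c = 0 := by
        have : D.θ c * c = 0 := by linear_combination h3 - b * D.two
        rcases mul_eq_zero.1 this with h | h
        exacts [D.theta_eq_zero.1 h, h]
      subst hc0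
      rw [← hb]; group
    let A : Set F := {b | k * Cfsg.Agent.Suzuki.gT D 0 b * k⁻¹ ∈ E}
    have hAadd : ∀ {b c}, b ∈ A → c ∈ A → b + c ∈ A := by
      intro b c hb hc
      have := E.mul_mem hb hc
      rw [show k * Cfsg.Agent.Suzuki.gT D 0 b * k⁻¹ * (k * Cfsg.Agent.Suzuki.gT D 0 c * k⁻¹) =
        k * (Cfsg.Agent.Suzuki.gT D 0 b * Cfsg.Agent.Suzuki.gT D 0 c) * k⁻¹ by group, Cfsg.Agent.Suzuki.gT_mul,
        add_zero, mul_zero, add_zero] at this
      exact this
    have hA0 : (0 : F) ∈ A := by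
      show k * Cfsg.Agent.Suzuki.gT D 0 0 * k⁻¹ ∈ E
      rw [Cfsg.Agent.Suzuki.gT_zero, mul_one, mul_inv_cancel]; exact E.one_mem
    have hAcard : Nat.card A = 2 ^ n := by
      rw [← hcard]
      refine Nat.card_eq_of_bijective (fun b => ⟨_, b.2⟩) ⟨fun b c h => ?_, fun x => ?_⟩
      · exact Subtype.ext (Cfsg.Agent.Suzuki.gT_inj D (mul_left_cancel (mul_right_cancel (congrArg Subtype.val h)))).2
      · obtain ⟨b, hb⟩ := hform x x.2
        exact ⟨⟨b, show _ ∈ E from hb ▸ x.2⟩, Subtype.ext hb.symm⟩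
    have hTIA : ∀ b ∈ A, b ≠ 0 → ∀ c ∈ A, ∀ d ∈ A, c / b * d ∈ A := by
      intro b hb hb0 c hc d hd
      by_cases hc0 : c = 0
      · rw [hc0, zero_div, zero_mul]; exact hA0
      obtain ⟨u, hu'⟩ := hscale (c / b) (div_ne_zero hc0 hb0)
      set x := k * Cfsg.Agent.Suzuki.gH D u * k⁻¹ with hx
      have hconj : ∀ f, x * (k * Cfsg.Agent.Suzuki.gT D 0 f * k⁻¹) * x⁻¹ =
          k * Cfsg.Agent.Suzuki.gT D 0 (c / b * f) * k⁻¹ := by
        intro f
        rw [hx, show k * Cfsg.Agent.Suzuki.gH D u * k⁻¹ * (k * Cfsg.Agent.Suzuki.gT D 0 f * k⁻¹) *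
          (k * Cfsg.Agent.Suzuki.gH D u * k⁻¹)⁻¹ = k * (Cfsg.Agent.Suzuki.gH D u * Cfsg.Agent.Suzuki.gT D 0 f *
          (Cfsg.Agent.Suzuki.gH D u)⁻¹) * k⁻¹ by group, Cfsg.Agent.Suzuki.gH_gT, mul_zero, hu']
      have hN := hTI x (fun hbot => by
        have hmem : k * Cfsg.Agent.Suzuki.gT D 0 c * k⁻¹ ∈ E ⊓ E.map (MulAut.conj x).toMonoidHom := by
          refine ⟨hc, ⟨_, hb, ?_⟩⟩
          show x * _ * x⁻¹ = _
          rw [hconj, div_mul_cancel₀ _ hb0]
        rw [hbot, Subgroup.mem_bot, conj_eq_one_iff] at hmem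
        exact hc0 (Cfsg.Agent.Suzuki.gT_inj D (hmem.trans (Cfsg.Agent.Suzuki.gT_zero D).symm)).2)
      show k * Cfsg.Agent.Suzuki.gT D 0 (c / b * d) * k⁻¹ ∈ E
      rw [← hconj]
      exact (Subgroup.mem_normalizer_iff.1 hN _).1 hd
    obtain ⟨a0, ha0, ha00⟩ : ∃ a0 ∈ A, a0 ≠ (0 : F) := by
      obtain ⟨b, hb⟩ := hform e he
      exact ⟨b, show _ ∈ E from hb ▸ he, fun h => he1' (by
        rw [hb, h, Cfsg.Agent.Suzuki.gT_zero, mul_one, mul_inv_cancel])⟩
    let K : Subring F :=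
      { carrier := {l | l * a0 ∈ A}
        one_mem' := by simpa using ha0
        zero_mem' := by simpa using hA0
        add_mem' := fun {x y} hx hy => by
          show (x + y) * a0 ∈ A
          rw [add_mul]; exact hAadd hx hy
        neg_mem' := fun {x} hx => by
          show -x * a0 ∈ A
          rwa [CharTwo.neg_eq x]
        mul_mem' := fun {x y} hx hy => by
          show x * y * a0 ∈ A
          have := hTIA a0 ha0 ha00 _ hx _ hy
          rwa [show x * a0 / a0 * (y * a0) = x * y * a0 by field_simp] at this }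
    have hKcard : Nat.card K = 2 ^ n := by
      rw [← hAcard]
      refine Nat.card_eq_of_bijective (fun l : K => (⟨(l : F) * a0, l.2⟩ : A)) ⟨fun l l' h => ?_, fun b => ?_⟩
      · exact Subtype.ext (mul_right_cancel₀ ha00 (congrArg Subtype.val h))
      · exact ⟨⟨(b : F) / a0, by show _ ∈ A; rw [div_mul_cancel₀ _ ha00]; exact b.2⟩,
          Subtype.ext (div_mul_cancel₀ _ ha00)⟩
    letI : Field K := (Finite.isDomain_to_isField K).toField
    have h1 := Module.natCard_eq_pow_finrank (K := K) (V := F)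
    rw [hKcard, Nat.card_eq_fintype_card, hF, ← pow_mul] at h1
    exact ⟨_, Nat.pow_right_injective le_rfl h1⟩
  · intro hdvd
    let f : Multiplicative F →* ↥(Cfsg.Sz F m) :=
      { toFun := fun b => Cfsg.Agent.Suzuki.gT D 0 (Multiplicative.toAdd b)
        map_one' := Cfsg.Agent.Suzuki.gT_zero D
        map_mul' := fun b c => by rw [Cfsg.Agent.Suzuki.gT_mul]; simp }
    let A : AddSubgroup F :=
      { carrier := {b | b ^ 2 ^ n = b}
        zero_mem' := by simp
        add_mem' := fun {x y} hx hy => by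
          show (x + y) ^ 2 ^ n = x + y
          rw [add_pow_char_pow, hx, hy]
        neg_mem' := fun {x} hx => by
          show (-x) ^ 2 ^ n = -x
          rw [CharTwo.neg_eq x]; exact hx }
    let E := (AddSubgroup.toSubgroup A).map f
    have hfinj : Function.Injective f := fun b c h => (Cfsg.Agent.Suzuki.gT_inj D h).2
    have hE : ∀ {x}, x ∈ E ↔ ∃ b, b ^ 2 ^ n = b ∧ x = Cfsg.Agent.Suzuki.gT D 0 b := fun {x} =>
      ⟨fun ⟨b, hb, e⟩ => ⟨_, hb, e.symm⟩, fun ⟨b, hb, e⟩ => ⟨Multiplicative.ofAdd b, hb, e.symm⟩⟩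
    refine ⟨E, ⟨?_, fun x hx => ?_⟩, ?_, fun x hx => ?_⟩
    · rw [isMulCommutative_iff]
      intro x y
      obtain ⟨b, -, hb⟩ := hE.1 x.2
      obtain ⟨c, -, hc⟩ := hE.1 y.2
      refine Subtype.ext ?_
      rw [Subgroup.coe_mul, Subgroup.coe_mul, hb, hc, Cfsg.Agent.Suzuki.gT_mul, Cfsg.Agent.Suzuki.gT_mul]
      simp [add_comm]
    · obtain ⟨b, -, rfl⟩ := hE.1 hx
      rw [pow_two, Cfsg.Agent.Suzuki.gT_mul, ← Cfsg.Agent.Suzuki.gT_zero D]
      simp [D.add_self]
    · rw [Subgroup.card_map_of_injective hfinj]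
      show Nat.card {b : F // b ^ 2 ^ n = b} = 2 ^ n
      obtain ⟨d, hd⟩ : ∃ d, 2 ^ n = d + 1 := ⟨2 ^ n - 1, (Nat.sub_add_cancel Nat.one_le_two_pow).symm⟩
      have hker : Nat.card (powMonoidHom d : Fˣ →* Fˣ).ker = d := by
        rw [IsCyclic.card_powMonoidHom_ker, Nat.card_eq_fintype_card, Fintype.card_units, hF]
        refine Nat.gcd_eq_right ?_
        obtain ⟨j, hj⟩ := hdvd
        have hh := Nat.sub_dvd_pow_sub_pow (2 ^ n) 1 j
        rwa [one_pow, ← pow_mul, ← hj, hd, Nat.add_sub_cancel] at hh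
      have hsplit : {b : F | b ^ 2 ^ n = b} = insert 0 ((fun u : Fˣ => (u : F)) '' {u | u ^ d = 1}) := by
        ext b
        simp only [Set.mem_setOf_eq, Set.mem_insert_iff, Set.mem_image, hd, pow_succ]
        constructor
        · intro hb
          by_cases hb0 : b = 0
          · exact Or.inl hb0
          · exact Or.inr ⟨Units.mk0 b hb0, Units.ext (by simpa [hb0] using hb), rfl⟩
        · rintro (rfl | ⟨u, hu, rfl⟩)
          · simp
          · rw [← Units.val_pow_eq_pow_val, hu, Units.val_one, one_mul]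
      rw [show Nat.card {b : F // b ^ 2 ^ n = b} = Set.ncard {b : F | b ^ 2 ^ n = b} from
        Nat.card_coe_set_eq _, hsplit, Set.ncard_insert_of_notMem (by simp),
        Set.ncard_image_of_injective _ Units.val_injective, ← Nat.card_coe_set_eq, hd]
      conv_rhs => rw [← hker]
      rfl
    · obtain ⟨y, ⟨hy1, hy2⟩, hy0⟩ := (Subgroup.bot_or_exists_ne_one _).resolve_left hx
      replace hy2 : x⁻¹ * y * x ∈ E := (hmap E x y).1 hy2
      obtain ⟨b, hb, rfl⟩ := hE.1 hy1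
      obtain ⟨c, hc, hce⟩ := hE.1 hy2
      have hb0 : b ≠ 0 := fun e => hy0 (by rw [e, Cfsg.Agent.Suzuki.gT_zero])
      have hc0 : c ≠ 0 := fun e => hy0 (by
        rw [e, Cfsg.Agent.Suzuki.gT_zero, show x⁻¹ * Cfsg.Agent.Suzuki.gT D 0 b * x =
          x⁻¹ * Cfsg.Agent.Suzuki.gT D 0 b * x⁻¹⁻¹ by group, conj_eq_one_iff] at hce
        exact hce)
      have hconj : x * Cfsg.Agent.Suzuki.gT D 0 c * x⁻¹ = Cfsg.Agent.Suzuki.gT D 0 b := by rw [← hce]; group
      have huniq : ∀ p, Cfsg.Agent.Suzuki.gT D 0 b • p = p → p = Cfsg.Agent.Suzuki.oI D :=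
        (((Cfsg.Agent.Suzuki.mem_Q_iff D hF).1 ⟨0, b, rfl⟩).resolve_left hy0).2
      have hxI : x • Cfsg.Agent.Suzuki.oI D = Cfsg.Agent.Suzuki.oI D :=
        huniq _ (by rw [← hconj]; exact (Cfsg.Agent.Suzuki.conj_fix x _).2 (Cfsg.Agent.Suzuki.gT_oI D 0 c))
      obtain ⟨p, r, u, hxf⟩ := Cfsg.Agent.Suzuki.gfix_inf D hF hxI
      have hact : ∀ f, x * Cfsg.Agent.Suzuki.gT D 0 f * x⁻¹ =
          Cfsg.Agent.Suzuki.gT D 0 (D.θ u ^ 2 * (u : F) ^ 2 * f) := by
        intro f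
        rw [hxf, show Cfsg.Agent.Suzuki.gT D p r * Cfsg.Agent.Suzuki.gH D u * Cfsg.Agent.Suzuki.gT D 0 f *
          (Cfsg.Agent.Suzuki.gT D p r * Cfsg.Agent.Suzuki.gH D u)⁻¹ = Cfsg.Agent.Suzuki.gT D p r *
          (Cfsg.Agent.Suzuki.gH D u * Cfsg.Agent.Suzuki.gT D 0 f * (Cfsg.Agent.Suzuki.gH D u)⁻¹) *
          (Cfsg.Agent.Suzuki.gT D p r)⁻¹ by group, Cfsg.Agent.Suzuki.gH_gT, Cfsg.Agent.Suzuki.gT_inv,
          Cfsg.Agent.Suzuki.gT_mul, Cfsg.Agent.Suzuki.gT_mul]
        congr 1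
        · simp [D.add_self]
        · simp only [mul_zero, add_zero]; grind [D.two]
      rw [hact] at hconj
      set l := D.θ u ^ 2 * (u : F) ^ 2 with hl
      have hlc : l * c = b := (Cfsg.Agent.Suzuki.gT_inj D hconj).2
      have hlK : l ^ 2 ^ n = l := mul_right_cancel₀ hc0 (by
        rw [hlc]; nth_rewrite 1 [← hc]; rw [← mul_pow, hlc, hb])
      rw [Subgroup.mem_normalizer_iff]
      intro z
      constructor
      · intro hz
        obtain ⟨f', hf', rfl⟩ := hE.1 hz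
        exact hE.2 ⟨_, by rw [mul_pow, hlK, hf'], hact f'⟩
      · intro hz
        obtain ⟨f', hf', he⟩ := hE.1 hz
        have hl0 : l ≠ 0 := fun e => hb0 (by rw [← hlc, e, zero_mul])
        have : z = Cfsg.Agent.Suzuki.gT D 0 (f' / l) := by
          have h9 := hact (f' / l)
          rw [mul_div_cancel₀ _ hl0, ← he] at h9
          exact (mul_left_cancel (mul_right_cancel h9)).symm
        exact hE.2 ⟨_, by rw [div_pow, hlK, hf'], this⟩

end Cfsg.Agent.S2240
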