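import Cfsg.Statements.S2241
import Cfsg.Agent.Lib.Suzuki.Partition

set_option autoImplicit false
open Cfsg

namespace Cfsg.Agent.S2241

/-- Real 2-elements of the Suzuki group: with q = 2^(2m+1), m ≥ 1, and the group realised as the stabiliser in SL₄ of the Suzuki–Tits ovoid, a non-identity element of a Sylow 2-subgroup is conjugate to its inverse if and only if it is an involution; in particular no element of order 4 is conjugate to its inverse. -/
theorem result {F : Type*} [Field F] [Fintype F] {m : ℕ} (hm : 1 ≤ m) (hF : Fintype.card F = 2 ^ (2 * m + 1)) (P : Sylow 2 ↥(Cfsg.Sz F m)) (g : ↥(Cfsg.Sz F m)) (hg : g ∈ (P : Subgroup ↥(Cfsg.Sz F m))) (h1 : g ≠ 1) :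
    IsConj g g⁻¹ ↔ orderOf g = 2 := by
  obtain ⟨D⟩ := Cfsg.Agent.Suzuki.exists_dat hm hF
  constructor
  · intro hc
    have hone : Cfsg.Agent.Suzuki.OneFix g := by
      obtain ⟨a, ha⟩ := Cfsg.Agent.Suzuki.sylow_point D hF P
      exact ⟨a, ((ha g).1 hg).resolve_left h1⟩
    obtain ⟨a, ha, hu⟩ := hone
    obtain ⟨k₀, hk₀⟩ := Cfsg.Agent.Suzuki.transitive D a
    obtain ⟨c₀, hc₀⟩ := isConj_iff.1 hc
    have hmem : k₀⁻¹ * g * k₀ ∈ Cfsg.Agent.Suzuki.Q D := by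
      refine (Cfsg.Agent.Suzuki.mem_Q_iff D hF).2 (Or.inr ⟨?_, fun p hp => ?_⟩)
      · rw [mul_smul, mul_smul, hk₀, ha, ← hk₀, inv_smul_smul]
      · rw [mul_smul, mul_smul, inv_smul_eq_iff] at hp
        exact MulAction.injective k₀ ((hu _ hp).trans hk₀.symm)
    obtain ⟨x, y, e⟩ := hmem
    set k := k₀⁻¹ * c₀ * k₀ with hk
    have hkc : k * Cfsg.Agent.Suzuki.gT D x y * k⁻¹ = (Cfsg.Agent.Suzuki.gT D x y)⁻¹ := by
      rw [← e, hk, show k₀⁻¹ * c₀ * k₀ * (k₀⁻¹ * g * k₀) * (k₀⁻¹ * c₀ * k₀)⁻¹ = k₀⁻¹ * (c₀ * g * c₀⁻¹) * k₀ by group,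
        hc₀]
      group
    have hx : x = 0 := by
      by_contra hx
      have hne : Cfsg.Agent.Suzuki.gT D x y ≠ 1 := fun h =>
        hx (Cfsg.Agent.Suzuki.gT_inj D (h.trans (Cfsg.Agent.Suzuki.gT_zero D).symm)).1
      have hkI : k • Cfsg.Agent.Suzuki.oI D = Cfsg.Agent.Suzuki.oI D := by
        have h2 : (Cfsg.Agent.Suzuki.gT D x y)⁻¹ • k • Cfsg.Agent.Suzuki.oI D = k • Cfsg.Agent.Suzuki.oI D := by
          rw [← hkc, Cfsg.Agent.Suzuki.conj_fix, Cfsg.Agent.Suzuki.gT_oI]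
        rw [inv_smul_eq_iff, eq_comm] at h2
        exact (((Cfsg.Agent.Suzuki.mem_Q_iff D hF).1 ⟨x, y, rfl⟩).resolve_left hne).2 _ h2
      obtain ⟨c, d, u, hku⟩ := Cfsg.Agent.Suzuki.gfix_inf D hF hkI
      rw [hku, show Cfsg.Agent.Suzuki.gT D c d * Cfsg.Agent.Suzuki.gH D u * Cfsg.Agent.Suzuki.gT D x y *
        (Cfsg.Agent.Suzuki.gT D c d * Cfsg.Agent.Suzuki.gH D u)⁻¹ = Cfsg.Agent.Suzuki.gT D c d *
        (Cfsg.Agent.Suzuki.gH D u * Cfsg.Agent.Suzuki.gT D x y * (Cfsg.Agent.Suzuki.gH D u)⁻¹) *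
        (Cfsg.Agent.Suzuki.gT D c d)⁻¹ by group, Cfsg.Agent.Suzuki.gH_gT, Cfsg.Agent.Suzuki.gT_inv,
        Cfsg.Agent.Suzuki.gT_inv, Cfsg.Agent.Suzuki.gT_mul, Cfsg.Agent.Suzuki.gT_mul] at hkc
      obtain ⟨e1, e2⟩ := Cfsg.Agent.Suzuki.gT_inj D hkc
      have hu1 : (u : F) ^ 2 = 1 := by
        refine mul_right_cancel₀ hx ?_
        rw [one_mul]
        linear_combination e1 - c * D.two
      rw [hu1] at e2
      have hθu : D.θ (u : F) ^ 2 = 1 := by rw [← map_pow, hu1, map_one]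
      rw [hθu] at e2
      have h3 : D.θ x * c + D.θ c * x = D.θ x * x := by
        simp only [one_mul, map_add, map_mul] at e2
        grind [D.two]
      obtain ⟨z, rfl⟩ : ∃ z, c = z * x := ⟨c / x, by rw [div_mul_cancel₀ _ hx]⟩
      have hθx : D.θ x ≠ 0 := (map_ne_zero D.θ).2 hx
      have h4 : z + D.θ z = 1 := by
        rw [map_mul] at h3
        refine mul_right_cancel₀ (mul_ne_zero hθx hx) ?_
        linear_combination h3
      have h5 : D.θ z = 1 + z := by linear_combination h4 - z * D.two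
      have h6 := D.sq z
      rw [h5, map_add, map_one, h5] at h6
      have h7 : z * (z + 1) = 0 := by linear_combination (-1 : F) * h6 + (1 + z) * D.two
      rcases mul_eq_zero.1 h7 with h | h
      · rw [h] at h4; simp at h4
      · rw [D.eq_of_add h, map_one] at h4; exact one_ne_zero (h4.symm.trans (D.add_self 1))
    subst hx
    refine orderOf_eq_prime ?_ h1
    have h2 : (k₀⁻¹ * g * k₀) ^ 2 = 1 := by
      rw [e, pow_two, Cfsg.Agent.Suzuki.gT_mul, ← Cfsg.Agent.Suzuki.gT_zero D]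
      congr 1 <;> simp [D.add_self]
    rwa [show k₀⁻¹ * g * k₀ = k₀⁻¹ * g * k₀⁻¹⁻¹ by group, conj_pow, conj_eq_one_iff] at h2
  · intro h2
    have hgg : g⁻¹ = g := inv_eq_of_mul_eq_one_right (by rw [← pow_two, ← h2, pow_orderOf_eq_one])
    rw [hgg]


end Cfsg.Agent.S2241
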