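import Cfsg.Statements.S2244
import Cfsg.Agent.Lib.Chev.WeakClosedCheck
import Cfsg.Agent.Lib.Chev.AllC

set_option autoImplicit false
open Cfsg

namespace Cfsg.Agent.S2244

/-- Weakly closed unipotent subgroups of Chevalley groups: let G be the Chevalley group of type G₂, B₂, D₄, F₄, E₆, E₇ or E₈ over a finite field F (the matrix group generated by the root elements), with |F| ≠ 2, and |F| ≠ 3 as well for the types G₂, B₂, D₄, F₄. Let U be the subgroup generated by the positive root subgroups. If X ≤ U is weakly closed in U with respect to G (every G-conjugate of X lying in U equals X), then X is the unipotent radical U_J of a standard parabolic subgroup for some set J of fundamental roots. -/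
theorem result {F : Type*} [Field F] [Fintype F] (D : Cfsg.Lie.ChevalleyDatum) (hD : D ∈ [Cfsg.Lie.chevG2, Cfsg.Lie.chevB2, Cfsg.Lie.chevD4, Cfsg.Lie.chevF4, Cfsg.Lie.chevE6, Cfsg.Lie.chevE7, Cfsg.Lie.chevE8])
    (h2 : Fintype.card F ≠ 2) (h3 : D ∈ [Cfsg.Lie.chevG2, Cfsg.Lie.chevB2, Cfsg.Lie.chevD4, Cfsg.Lie.chevF4] → Fintype.card F ≠ 3)
    (X : Subgroup (GL D.Idx F)) (hXU : X ≤ D.posUnipotent F)
    (hwc : ∀ g ∈ D.group F, X.map (MulAut.conj g).toMonoidHom ≤ D.posUnipotent F → X.map (MulAut.conj g).toMonoidHom = X) :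
    ∃ J : Set ℕ, (∀ j ∈ J, j < D.rank) ∧ X = D.unipotentRadical F J := by
  classical
  open Cfsg.Agent.Chev in
  have hex : ∃ (P : Pk) (_ : Ok D P), P.ckComm = true ∧ P.ckSepFour = true ∧
      P.ckReach 2 false = true ∧ P.ckReach 3 false = true ∧ P.ckReach 5 false = true ∧
      (Fintype.card F = 3 → P.ckReach 3 true = true ∧ P.ckSepThree = true) := by
    simp only [List.mem_cons, List.not_mem_nil, or_false] at hD h3
    rcases hD with rfl | rfl | rfl | rfl | rfl | rfl | rfl
    · exact ⟨_, G2.ok, ckComm_G2, sepFour_G2, reach_G2_2, reach_G2_3, reach_G2_5,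
        fun e => absurd e (h3 (Or.inl rfl))⟩
    · exact ⟨_, B2.ok, ckComm_B2, sepFour_B2, reach_B2_2, reach_B2_3, reach_B2_5,
        fun e => absurd e (h3 (Or.inr (Or.inl rfl)))⟩
    · exact ⟨_, D4.ok, ckComm_D4, sepFour_D4, reach_D4_2, reach_D4_3, reach_D4_5,
        fun e => absurd e (h3 (Or.inr (Or.inr (Or.inl rfl))))⟩
    · exact ⟨_, F4.ok, ckComm_F4, sepFour_F4, reach_F4_2, reach_F4_3, reach_F4_5,
        fun e => absurd e (h3 (Or.inr (Or.inr (Or.inr rfl))))⟩
    · exact ⟨_, E6.ok, ckComm_E6, sepFour_E6, reach_E6_2, reach_E6_3, reach_E6_5,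
        fun _ => ⟨reachStrict_E6, sepThree_E6⟩⟩
    · exact ⟨_, E7.ok, ckComm_E7, sepFour_E7, reach_E7_2, reach_E7_3, reach_E7_5,
        fun _ => ⟨reachStrict_E7, sepThree_E7⟩⟩
    · exact ⟨_, E8.ok, ckComm_E8, sepFour_E8, reach_E8_2, reach_E8_3, reach_E8_5,
        fun _ => ⟨reachStrict_E8, sepThree_E8⟩⟩
  obtain ⟨P, h, hC, hsep, hr2, hr3, hr5, hq3⟩ := hex
  have hq : 2 < Fintype.card F := by
    have := Fintype.one_lt_card (α := F)
    omega
  obtain ⟨p, hp⟩ := CharP.exists F
  haveI : Fact p.Prime := ⟨CharP.char_is_prime F p⟩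
  open Cfsg.Agent.Chev in
  have hsimple : ∀ r, P.isPos r = true → P.ht r = 1 → ∃ i < P.rank, P.sim i = r := by
    intro r hr h1
    have := List.all_eq_true.1 hr5 r (List.mem_filter.2 ⟨List.mem_range.2 (P.isPos_iff.1 hr).2, hr⟩)
    rw [Bool.or_eq_true] at this
    rcases this with e | e
    · rw [Bool.and_eq_true] at e
      obtain ⟨i, hi, e'⟩ := List.any_eq_true.1 e.2
      exact ⟨i, List.mem_range.1 hi, Nat.eq_of_beq_eq_true e'⟩
    · exfalso
      obtain ⟨x, hx, hxr⟩ := List.any_eq_true.1 e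
      obtain rfl : x = r := Nat.eq_of_beq_eq_true hxr
      simp only [Pk.reached, List.mem_flatMap, List.mem_range, List.mem_filter] at hx
      obtain ⟨i, hi, s, ⟨-, hs⟩, hx⟩ := hx
      by_cases hsi : s = P.sim i
      · simp [nbeq, hsi] at hx
      · rw [nbeq, decide_eq_false hsi] at hx
        obtain ⟨g, hg, rfl⟩ := List.mem_map.1 hx
        obtain ⟨c, hc, rfl⟩ := List.mem_map.1 (List.mem_filter.1 hg).1
        have := (h.cterms_ht (h.sim_pos hi) hs c hc).2
        have := h.ht_pos (h.sim_pos hi)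
        have := h.ht_pos hs
        simp only at h1
        omega
  open Cfsg.Agent.Chev in
  have hboth : (∀ r, P.isPos r = true → 2 ≤ P.ht r → ∀ t, h.psiU (F := F) r t = 0) ∧
      ((Fintype.card F = 3 ∧ P.ckSepThree = true) ∨ (4 ≤ Fintype.card F ∧ P.ckSepFour = true)) := by
    by_cases e3 : Fintype.card F = 3
    · obtain rfl : p = 3 := by
        have hd : p ∣ 3 := by
          rw [← CharP.cast_eq_zero_iff F p, ← e3]
          exact Nat.cast_card_eq_zero F
        exact (Nat.prime_dvd_prime_iff_eq Fact.out Nat.prime_three).1 hd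
      exact ⟨h.psiU_high hC 3 3 (Or.inl rfl) true (hq3 e3).1 (fun e => absurd e (by simp)),
        Or.inl ⟨e3, (hq3 e3).2⟩⟩
    · have hlam : false = false → ∃ lam : F, lam ≠ 0 ∧ lam ^ 1 ≠ 1 ∧ lam ^ 2 ≠ 1 := fun _ => by
        have hc : ({0, 1, -1} : Finset F).card < (Finset.univ : Finset F).card :=
          lt_of_le_of_lt Finset.card_le_three (by rw [Finset.card_univ]; omega)
        obtain ⟨lam, -, hl⟩ := Finset.exists_mem_notMem_of_card_lt_card hc
        simp only [Finset.mem_insert, Finset.mem_singleton, not_or] at hl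
        refine ⟨lam, hl.1, by rw [pow_one]; exact hl.2.1, fun e => ?_⟩
        rcases mul_self_eq_one_iff.1 (sq lam ▸ e) with e' | e'
        · exact hl.2.1 e'
        · exact hl.2.2 e'
      refine ⟨?_, Or.inr ⟨by omega, hsep⟩⟩
      have hpp : p.Prime := Fact.out
      rcases Nat.lt_or_ge p 5 with hlt | hge
      · have : p = 2 ∨ p = 3 := by
          have := hpp.two_le
          interval_cases p <;> first | omega | (exfalso; revert hpp; decide)
        rcases this with rfl | rfl
        · exact h.psiU_high hC 2 2 (Or.inl rfl) false hr2 hlam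
        · exact h.psiU_high hC 3 3 (Or.inl rfl) false hr3 hlam
      · exact h.psiU_high hC p 5 (Or.inr ⟨rfl, hge⟩) false hr5 hlam
  exact h.weakly_closed_eq_radical hC hboth.1 hsimple hboth.2 X hXU hwc

end Cfsg.Agent.S2244
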