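import Cfsg.Statements.S2245
import Cfsg.Agent.Lib.PermGp.SylowTwoMax
-- import your own Cfsg.Agent.* helpers here

set_option autoImplicit false
open Cfsg

namespace Cfsg.Agent.S2245

open SylTwoMax in
theorem main (n : ℕ) (hn : 5 ≤ n) (h6 : n ≠ 6) (P : Sylow 2 (Equiv.Perm (Fin n)))
    (R : Subgroup ↥(alternatingGroup (Fin n)))
    (hR : ∀ r : ↥(alternatingGroup (Fin n)), r ∈ R ↔ (r : Equiv.Perm (Fin n)) ∈ (P : Subgroup (Equiv.Perm (Fin n)))) :
    (UniqueOver (P : Subgroup (Equiv.Perm (Fin n))) ↔ ∃ k : ℕ, 2 ≤ k ∧ n = 2 ^ k + 1) ∧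
    (UniqueOver R ↔ ∃ k : ℕ, 2 ≤ k ∧ n = 2 ^ k + 1) := by
  classical
  have hle : R.map (alternatingGroup (Fin n)).subtype ≤ P := by
    rintro _ ⟨r, hr, rfl⟩
    exact (hR r).1 hr
  by_cases hk : ∃ k : ℕ, 2 ≤ k ∧ n = 2 ^ k + 1
  · obtain ⟨k, hk2, hkn⟩ := hk
    have hcard : Fintype.card (Fin n) = 2 ^ k + 1 := by rw [Fintype.card_fin]; exact hkn
    exact ⟨iff_of_true (unique_sym P hk2 hcard) ⟨k, hk2, hkn⟩,
      iff_of_true (unique_alt P R hR hk2 hcard) ⟨k, hk2, hkn⟩⟩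
  have h5 : 5 ≤ Fintype.card (Fin n) := by rwa [Fintype.card_fin]
  obtain ⟨h1, h2⟩ : ¬ UniqueOver (P : Subgroup (Equiv.Perm (Fin n))) ∧ ¬ UniqueOver R := by
    rcases Nat.even_or_odd n with he | ho
    · by_cases hp : ∃ k, n = 2 ^ k
      · obtain ⟨k, rfl⟩ := hp
        refine two_pow_not_unique P R hle (k := k) ?_ (Fintype.card_fin _)
        by_contra hk3
        have : 2 ^ k ≤ 2 ^ 2 := Nat.pow_le_pow_right (by norm_num) (by omega)
        omega
      · exact even_set_not_unique P R hle (by rwa [Fintype.card_fin]) h5 (by rwa [Fintype.card_fin])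
    · exact odd_not_unique P R hle h5 (by rwa [Fintype.card_fin]) (by rwa [Fintype.card_fin])
  exact ⟨iff_of_false h1 hk, iff_of_false h2 hk⟩


/-- For n ≥ 5 with n ≠ 6, a Sylow 2-subgroup of the alternating group A_n lies in exactly one maximal subgroup of A_n if and only if n = 2^k + 1 for some k ≥ 2; the same holds for the symmetric group S_n. -/
theorem result (n : ℕ) (hn : 5 ≤ n) (h6 : n ≠ 6) :
    ((∀ R : Sylow 2 ↥(alternatingGroup (Fin n)), (∃! M : Subgroup ↥(alternatingGroup (Fin n)), IsCoatom M ∧ (R : Subgroup ↥(alternatingGroup (Fin n))) ≤ M) ↔ ∃ k : ℕ, 2 ≤ k ∧ n = 2 ^ k + 1) ∧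
    (∀ R : Sylow 2 (Equiv.Perm (Fin n)), (∃! M : Subgroup (Equiv.Perm (Fin n)), IsCoatom M ∧ (R : Subgroup (Equiv.Perm (Fin n))) ≤ M) ↔ ∃ k : ℕ, 2 ≤ k ∧ n = 2 ^ k + 1)) := by
  have exA : ∀ R : Sylow 2 ↥(alternatingGroup (Fin n)), ∃ P : Sylow 2 (Equiv.Perm (Fin n)),
      ∀ r : ↥(alternatingGroup (Fin n)), r ∈ (R : Subgroup ↥(alternatingGroup (Fin n))) ↔
        (r : Equiv.Perm (Fin n)) ∈ (P : Subgroup (Equiv.Perm (Fin n))) := by
    intro R
    obtain ⟨P, hP⟩ := (R.isPGroup'.map (alternatingGroup (Fin n)).subtype).exists_le_sylow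
    refine ⟨P, fun r => ?_⟩
    have h : (P : Subgroup (Equiv.Perm (Fin n))).subgroupOf (alternatingGroup (Fin n)) =
        (R : Subgroup ↥(alternatingGroup (Fin n))) :=
      R.is_maximal' (P.isPGroup'.comap_of_injective _ (Subgroup.subtype_injective _))
        fun x hx => hP ⟨x, hx, rfl⟩
    rw [← h]; rfl
  refine ⟨fun R => ?_, fun P => ?_⟩
  · obtain ⟨P, hP⟩ := exA R
    exact (main n hn h6 P _ hP).2
  · exact (main n hn h6 P
      ((P : Subgroup (Equiv.Perm (Fin n))).subgroupOf (alternatingGroup (Fin n))) fun r => Iff.rfl).1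

end Cfsg.Agent.S2245
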