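import Cfsg.Statements.S2247
import Cfsg.Agent.Lib.Suzuki.Partition

set_option autoImplicit false
open Cfsg

namespace Cfsg.Agent.S2247

/-- In the Suzuki group with q = 2^(2m+1), m ≥ 1 (realised as the stabiliser in SL₄ of the Suzuki–Tits ovoid), the normalizer of a Sylow 2-subgroup P is a maximal subgroup and is the only maximal subgroup containing P. -/
theorem result {F : Type*} [Field F] [Fintype F] {m : ℕ} (hm : 1 ≤ m) (hF : Fintype.card F = 2 ^ (2 * m + 1)) (P : Sylow 2 ↥(Cfsg.Sz F m)) :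
    IsCoatom (Subgroup.normalizer ((P : Subgroup ↥(Cfsg.Sz F m)) : Set ↥(Cfsg.Sz F m))) ∧
    ∀ M : Subgroup ↥(Cfsg.Sz F m), IsCoatom M → (P : Subgroup ↥(Cfsg.Sz F m)) ≤ M → M = Subgroup.normalizer ((P : Subgroup ↥(Cfsg.Sz F m)) : Set ↥(Cfsg.Sz F m)) := by
  obtain ⟨D⟩ := Cfsg.Agent.Suzuki.exists_dat hm hF
  obtain ⟨a, ha⟩ := Cfsg.Agent.Suzuki.sylow_point D hF P
  rw [Cfsg.Agent.Suzuki.normalizer_sylow D hF ha]
  have hle : (P : Subgroup ↥(Cfsg.Sz F m)) ≤ MulAction.stabilizer _ a := fun x hx => by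
    rcases (ha x).1 hx with rfl | h
    · exact one_mem _
    · exact MulAction.mem_stabilizer_iff.2 h.1
  haveI : MulAction.IsPreprimitive ↥(Cfsg.Sz F m) (Cfsg.suzukiOvoid F m) :=
    MulAction.isPreprimitive_of_is_two_pretransitive (Cfsg.Agent.Suzuki.two_transitive D)
  haveI : Nontrivial (Cfsg.suzukiOvoid F m) :=
    ⟨⟨_, _, Cfsg.Agent.Suzuki.oI_ne_oP D 0 0⟩⟩
  have hco : IsCoatom (MulAction.stabilizer ↥(Cfsg.Sz F m) a) := MulAction.IsPreprimitive.isCoatom_stabilizer_of_isPreprimitive _ a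
  refine ⟨hco, fun M hM hPM => ?_⟩
  by_contra hne
  have hnle : ¬ M ≤ MulAction.stabilizer ↥(Cfsg.Sz F m) a := fun h =>
    hne (eq_of_le_of_not_lt h fun hlt => hco.1 (hM.2 _ hlt))
  obtain ⟨x, hxM, hx⟩ := SetLike.not_le_iff_exists.1 hnle
  exact hM.1 (Cfsg.Agent.Suzuki.eq_top_of_sylow_le D hF ha hPM hxM hx)


end Cfsg.Agent.S2247
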