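import Cfsg.Statements.S2249
import Cfsg.Agent.Lib.TwoRank.NormalRank

set_option autoImplicit false
open Cfsg

namespace Cfsg.Agent.S2249

/-- The normal 2-rank of the general linear group over a finite field of odd order q: for n ≥ 1 and S a Sylow 2-subgroup of GL_n(F), the largest rank of an elementary abelian subgroup of S that is normal in S equals n when q ≡ 1 (mod 4) and ⌊(n + 1)/2⌋ when q ≡ 3 (mod 4). -/
theorem result {F : Type*} [Field F] [Fintype F] {q : ℕ} (hF : Fintype.card F = q) (hodd : Odd q) (n : ℕ) (hn : 1 ≤ n) (S : Sylow 2 (Matrix.GeneralLinearGroup (Fin n) F)) :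
    (q % 4 = 1 → ((∃ E : Subgroup ↥(S : Subgroup (Matrix.GeneralLinearGroup (Fin n) F)), E.Normal ∧ Cfsg.IsElementaryAbelian 2 E ∧ 2 ^ (n) ≤ Nat.card ↥E) ∧
      ∀ E : Subgroup ↥(S : Subgroup (Matrix.GeneralLinearGroup (Fin n) F)), E.Normal → Cfsg.IsElementaryAbelian 2 E → Nat.card ↥E ≤ 2 ^ (n))) ∧
    (q % 4 = 3 → ((∃ E : Subgroup ↥(S : Subgroup (Matrix.GeneralLinearGroup (Fin n) F)), E.Normal ∧ Cfsg.IsElementaryAbelian 2 E ∧ 2 ^ ((n + 1) / 2) ≤ Nat.card ↥E) ∧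
      ∀ E : Subgroup ↥(S : Subgroup (Matrix.GeneralLinearGroup (Fin n) F)), E.Normal → Cfsg.IsElementaryAbelian 2 E → Nat.card ↥E ≤ 2 ^ ((n + 1) / 2))) := by
  subst hF
  constructor
  · intro h1
    exact ⟨Cfsg.Agent.TwoRankNormal.exists_normal_gl_one hodd h1 n S,
      fun E _ hE => Cfsg.Agent.TwoRankNormal.gl_le hodd _ E hE⟩
  · intro h3
    refine ⟨Cfsg.Agent.TwoRankNormal.exists_normal_gl_blocks hodd n S, fun E hn' hE => ?_⟩
    obtain ⟨M, ε, hM, hε⟩ := Cfsg.Agent.TwoRankNormal.exists_diag hodd _ E hE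
    haveI := hn'
    refine Cfsg.Agent.TwoRankNormal.normal_le_three hodd h3 ?_ M hM E ε hε
    haveI : Fact (Nat.Prime 2) := ⟨Nat.prime_two⟩
    rw [S.card_eq_multiplicity, Nat.factorization_def _ Nat.prime_two]

end Cfsg.Agent.S2249
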