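import Cfsg.Statements.S2251
import Cfsg.Agent.Lib.Suzuki.SubField

set_option autoImplicit false
open Cfsg

namespace Cfsg.Agent.S2251

/-- The subgroups of the Suzuki group: with q = 2^(2m+1), m ≥ 1, r = 2^m and the group realised as the stabiliser in SL₄ of the Suzuki–Tits ovoid, every proper subgroup is contained in the normalizer of a Sylow 2-subgroup, or in the normalizer of a cyclic subgroup of order q − 1, q + 2r + 1 or q − 2r + 1, or in a subgroup isomorphic to a smaller Suzuki group Sz(s) with s = 2^(2k+1) ≥ 8 and 2k+1 a proper divisor of 2m+1. -/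
theorem result {F : Type*} [Field F] [Fintype F] {m : ℕ} (hm : 1 ≤ m) (hF : Fintype.card F = 2 ^ (2 * m + 1)) (M : Subgroup ↥(Cfsg.Sz F m)) (hM : M ≠ ⊤) :
    (∃ P : Sylow 2 ↥(Cfsg.Sz F m), M ≤ Subgroup.normalizer ((P : Subgroup ↥(Cfsg.Sz F m)) : Set ↥(Cfsg.Sz F m))) ∨
    (∃ U : Subgroup ↥(Cfsg.Sz F m), IsCyclic ↥U ∧ Nat.card ↥U ∈ ({2 ^ (2 * m + 1) - 1, 2 ^ (2 * m + 1) + 2 ^ (m + 1) + 1, 2 ^ (2 * m + 1) - 2 ^ (m + 1) + 1} : Set ℕ) ∧
      M ≤ Subgroup.normalizer (U : Set ↥(Cfsg.Sz F m))) ∨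
    (∃ (K : Type) (_ : Field K) (_ : Fintype K) (k : ℕ), 1 ≤ k ∧ k < m ∧ Fintype.card K = 2 ^ (2 * k + 1) ∧ 2 * k + 1 ∣ 2 * m + 1 ∧
      ∃ S : Subgroup ↥(Cfsg.Sz F m), Nonempty (↥S ≃* ↥(Cfsg.Sz K k)) ∧ M ≤ S) := by
  open Cfsg.Agent.Suzuki in
  classical
  obtain ⟨D⟩ := exists_dat (F := F) hm hF
  by_cases hbot : M = ⊥
  · obtain ⟨P⟩ : Nonempty (Sylow 2 (Cfsg.Sz F m)) := inferInstance
    exact Or.inl ⟨P, hbot ▸ bot_le⟩
  by_cases hA : ∀ A : Subgroup (Cfsg.Sz F m), A ≤ M → M ≤ Subgroup.normalizer (A : Set (Cfsg.Sz F m)) →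
      (∀ a ∈ A, ∀ b ∈ A, Commute a b) → A = ⊥
  · obtain ⟨d, g, hd, hdvd, hcard, hw, hT, hH⟩ := classify D hF M hbot hA
    have hle : d ≤ m := by have := Nat.le_of_dvd (by omega) hdvd; omega
    have hlt : d < m := by
      rcases hle.lt_or_eq with h | h
      · exact h
      · exfalso
        subst h
        refine hM (Subgroup.eq_top_of_card_eq M ?_)
        rw [hcard, card_sz D hF, hF]
        ring
    let K := GaloisField 2 (2 * d + 1)
    letI : Fintype K := Fintype.ofFinite K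
    have hK : Fintype.card K = 2 ^ (2 * d + 1) := by
      rw [← Nat.card_eq_fintype_card]; exact GaloisField.card 2 _ (by omega)
    obtain ⟨DK⟩ := exists_dat (F := K) hd hK
    obtain ⟨σ⟩ := exists_ringHom (F := F) (K := K) hF hK hdvd
    have e := eq_range_subHom D hF DK hK hdvd σ hw hT hH (by rw [card_map_conj, hcard])
    refine Or.inr (Or.inr ⟨K, inferInstance, inferInstance, d, hd, hlt, hK, hdvd, M, ?_, le_rfl⟩)
    exact ⟨((Subgroup.equivMapOfInjective M _ (MulAut.conj g).injective).trans (MulEquiv.subgroupCongr e)).trans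
      (MonoidHom.ofInjective (subHom_injective D hF DK hK hdvd σ)).symm⟩
  · push_neg at hA
    obtain ⟨A, -, hMA, hAc, hA⟩ := hA
    rcases local_cases D hF M A hMA hAc hA with ⟨p, hp⟩ | ⟨U, hU, hMU⟩
    · obtain ⟨P, hP⟩ := stabilizer_eq_normalizer D hF p
      exact Or.inl ⟨P, hP ▸ hp⟩
    · refine Or.inr (Or.inl ⟨U, ?_, ?_, hMU⟩)
      · rcases hU with ⟨p, p', hpp, rfl⟩ | hU
        · exact pair_cyclic D hF hpp _ fun c hc => hc
        · exact hU.isCyclic D hF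
      · simp only [Set.mem_insert_iff, Set.mem_singleton_iff, ← hF]
        rcases hU with ⟨p, p', hpp, rfl⟩ | hU
        · exact Or.inl (card_pairStab D hF hpp)
        · exact Or.inr (torus_card D hF hU)

end Cfsg.Agent.S2251
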