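import Cfsg.Statements.S2254
import Cfsg.Agent.Lib.PermNil.Extremal
-- import your own Cfsg.Agent.* helpers here

set_option autoImplicit false
open Cfsg

namespace Cfsg.Agent.S2254

/-- Let n ≡ 3 (mod 4). Then every nilpotent subgroup of the symmetric group on n letters has order at most 3 times the order of a Sylow 2-subgroup of the symmetric group on n − 3 letters; the bound is attained by a nilpotent subgroup isomorphic to the direct product of such a Sylow 2-subgroup with a cyclic group of order 3; and any two nilpotent subgroups attaining the bound are conjugate. -/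
theorem result  (n : ℕ) (hn : n % 4 = 3)
    (P : Sylow 2 (Equiv.Perm (Fin (n - 3)))) :
    (∀ N : Subgroup (Equiv.Perm (Fin n)), Group.IsNilpotent N → Nat.card N ≤ 3 * Nat.card P) ∧
    (∃ M : Subgroup (Equiv.Perm (Fin n)), Group.IsNilpotent M ∧ Nat.card M = 3 * Nat.card P ∧
      Nonempty (M ≃* (↥(P : Subgroup (Equiv.Perm (Fin (n - 3)))) × Multiplicative (ZMod 3)))) ∧
    (∀ N₁ N₂ : Subgroup (Equiv.Perm (Fin n)), Group.IsNilpotent N₁ → Group.IsNilpotent N₂ →
      Nat.card N₁ = 3 * Nat.card P → Nat.card N₂ = 3 * Nat.card P →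
      ∃ g : Equiv.Perm (Fin n), N₂ = N₁.map (MulAut.conj g).toMonoidHom) := by
  haveI : Fact (Nat.Prime 2) := ⟨Nat.prime_two⟩
  have hP : Nat.card P = 2 ^ PermNil.e (n - 3) := by
    rw [P.card_eq_multiplicity, PermNil.perm_factorization]
  have hr : n - 3 + 3 = n := by omega
  have hr4 : (n - 3) % 4 = 0 := by omega
  refine ⟨fun N hN => ?_, ?_, fun N₁ N₂ hN₁ hN₂ h₁ h₂ => ?_⟩
  · have h := (PermNil.bound.{0} n N (Fintype.card_fin n) hN).1
    unfold PermNil.F at h
    rw [if_pos hn] at h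
    rwa [hP]
  · let θ : Fin (n - 3) ⊕ Fin 3 ≃ Fin n := finSumFinEquiv.trans (finCongr hr)
    exact ⟨PermNil.model θ (P : Subgroup _), PermNil.model_nilpotent θ _ P.2,
      PermNil.card_model θ _, PermNil.model_equiv θ _⟩
  · rw [hP] at h₁ h₂
    haveI := hN₁
    haveI := hN₂
    obtain ⟨θ₁, P₁, e₁, c₁⟩ := PermNil.eq_sym N₁ (r := n - 3) (by rw [Fintype.card_fin]; exact hr) hr4 h₁
    obtain ⟨θ₂, P₂, e₂, c₂⟩ := PermNil.eq_sym N₂ (r := n - 3) (by rw [Fintype.card_fin]; exact hr) hr4 h₂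
    obtain ⟨σ, hσ⟩ := PermNil.conj_of_card (p := 2) P₁ P₂ (by rw [PermNil.perm_factorization, c₁])
      (by rw [PermNil.perm_factorization, c₂])
    exact ⟨_, by rw [e₂, ← hσ, e₁]; exact PermNil.model_conj θ₁ θ₂ P₁ σ 1⟩

end Cfsg.Agent.S2254
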