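import Cfsg.Statements.S2255
import Cfsg.Agent.Lib.PermNil.Extremal
-- import your own Cfsg.Agent.* helpers here

set_option autoImplicit false
open Cfsg

namespace Cfsg.Agent.S2255

/-- Let n be a natural number not congruent to 3 modulo 4, with n ∉ {5, 6, 9}. Then every nilpotent subgroup of the alternating group on n letters has order at most the order of a Sylow 2-subgroup of the alternating group (so the nilpotent subgroups of largest order are exactly the Sylow 2-subgroups). -/
theorem result  (n : ℕ) (hn : n % 4 ≠ 3)
    (h5 : n ≠ 5) (h6 : n ≠ 6) (h9 : n ≠ 9)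
    (N : Subgroup (alternatingGroup (Fin n))) (hN : Group.IsNilpotent N)
    (P : Sylow 2 (alternatingGroup (Fin n))) :
    Nat.card N ≤ Nat.card P := by
  haveI : Fact (Nat.Prime 2) := ⟨Nat.prime_two⟩
  rw [P.card_eq_multiplicity, PermNil.alt_factorization]
  let f := (alternatingGroup (Fin n)).subtype
  haveI : Group.IsNilpotent (N.map f) :=
    Group.nilpotent_of_mulEquiv (N.equivMapOfInjective f (Subgroup.subtype_injective _))
  have h := (PermNil.bound.{0} n (N.map f) (Fintype.card_fin n) inferInstance).2 (Subgroup.map_subtype_le N)
  rw [Subgroup.card_map_of_injective (Subgroup.subtype_injective _)] at h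
  unfold PermNil.H at h
  rwa [if_neg hn, if_neg h5, if_neg h6, if_neg h9] at h

end Cfsg.Agent.S2255
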