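import Cfsg.Statements.S2256
import Cfsg.Agent.Lib.PermNil.Extremal
-- import your own Cfsg.Agent.* helpers here

set_option autoImplicit false
open Cfsg

namespace Cfsg.Agent.S2256

/-- Let n ≡ 3 (mod 4) with n ≥ 7. Then every nilpotent subgroup of the alternating group on n letters has order at most 3 times the order of a Sylow 2-subgroup of the alternating group on n − 3 letters; the bound is attained by a nilpotent subgroup isomorphic to the direct product of such a Sylow 2-subgroup with a cyclic group of order 3; and any two nilpotent subgroups of the alternating group attaining the bound are conjugate in it. -/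
theorem result  (n : ℕ) (hn : n % 4 = 3) (h7 : 7 ≤ n)
    (P : Sylow 2 (alternatingGroup (Fin (n - 3)))) :
    (∀ N : Subgroup (alternatingGroup (Fin n)), Group.IsNilpotent N → Nat.card N ≤ 3 * Nat.card P) ∧
    (∃ M : Subgroup (alternatingGroup (Fin n)), Group.IsNilpotent M ∧ Nat.card M = 3 * Nat.card P ∧
      Nonempty (M ≃* (↥(P : Subgroup (alternatingGroup (Fin (n - 3)))) × Multiplicative (ZMod 3)))) ∧
    (∀ N₁ N₂ : Subgroup (alternatingGroup (Fin n)), Group.IsNilpotent N₁ → Group.IsNilpotent N₂ →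
      Nat.card N₁ = 3 * Nat.card P → Nat.card N₂ = 3 * Nat.card P →
      ∃ g : alternatingGroup (Fin n), N₂ = N₁.map (MulAut.conj g).toMonoidHom) := by
  haveI : Fact (Nat.Prime 2) := ⟨Nat.prime_two⟩
  have hP : Nat.card P = 2 ^ (PermNil.e (n - 3) - 1) := by
    rw [P.card_eq_multiplicity, PermNil.alt_factorization]
  have hr : n - 3 + 3 = n := by omega
  have hr4 : (n - 3) % 4 = 0 := by omega
  have hr3 : Nontrivial (Fin (n - 3)) := Fin.nontrivial_iff_two_le.mpr (by omega)
  let f := (alternatingGroup (Fin n)).subtype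
  have hf : Function.Injective f := Subgroup.subtype_injective _
  have hmap : ∀ N : Subgroup (alternatingGroup (Fin n)), Group.IsNilpotent N →
      Group.IsNilpotent (N.map f) := fun N hN => haveI := hN
    Group.nilpotent_of_mulEquiv (N.equivMapOfInjective f hf)
  refine ⟨fun N hN => ?_, ?_, fun N₁ N₂ hN₁ hN₂ h₁ h₂ => ?_⟩
  · have h := (PermNil.bound.{0} n (N.map f) (Fintype.card_fin n) (hmap N hN)).2 (Subgroup.map_subtype_le N)
    rw [Subgroup.card_map_of_injective hf] at h
    unfold PermNil.H at h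
    rw [if_pos hn, if_neg (by omega)] at h
    rwa [hP]
  · let θ : Fin (n - 3) ⊕ Fin 3 ≃ Fin n := finSumFinEquiv.trans (finCongr hr)
    let g := (alternatingGroup (Fin (n - 3))).subtype
    let Q := (P : Subgroup (alternatingGroup (Fin (n - 3)))).map g
    have hQ : Q ≤ alternatingGroup (Fin (n - 3)) := Subgroup.map_subtype_le _
    have hle := PermNil.model_le_alt θ Q hQ
    let ε := Subgroup.subgroupOfEquivOfLe hle
    obtain ⟨d⟩ := PermNil.model_equiv θ Q
    haveI := PermNil.model_nilpotent θ Q (P.2.map g)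
    refine ⟨(PermNil.model θ Q).subgroupOf _, Group.nilpotent_of_mulEquiv ε.symm, ?_, ⟨?_⟩⟩
    · rw [Nat.card_congr ε.toEquiv, PermNil.card_model,
        Subgroup.card_map_of_injective (Subgroup.subtype_injective _)]
    · exact ε.trans (d.trans (MulEquiv.prodCongr
        ((P : Subgroup _).equivMapOfInjective g (Subgroup.subtype_injective _)).symm (MulEquiv.refl _)))
  · rw [hP] at h₁ h₂
    haveI := hmap N₁ hN₁
    haveI := hmap N₂ hN₂
    obtain ⟨θ₁, P₁, e₁, c₁, a₁⟩ := PermNil.eq_alt (N₁.map f) (Subgroup.map_subtype_le _) (r := n - 3)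
      (by rw [Fintype.card_fin]; exact hr) hr4 (by rw [Subgroup.card_map_of_injective hf, h₁])
    obtain ⟨θ₂, P₂, e₂, c₂, a₂⟩ := PermNil.eq_alt (N₂.map f) (Subgroup.map_subtype_le _) (r := n - 3)
      (by rw [Fintype.card_fin]; exact hr) hr4 (by rw [Subgroup.card_map_of_injective hf, h₂])
    obtain ⟨σ, hσ⟩ := PermNil.conj_of_card (p := 2) (P₁.subgroupOf (alternatingGroup (Fin (n - 3))))
      (P₂.subgroupOf (alternatingGroup (Fin (n - 3))))
      (by rw [Nat.card_congr (Subgroup.subgroupOfEquivOfLe a₁).toEquiv, c₁, PermNil.alt_factorization])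
      (by rw [Nat.card_congr (Subgroup.subgroupOfEquivOfLe a₂).toEquiv, c₂, PermNil.alt_factorization])
    have hσ' : P₁.map (MulAut.conj (σ : Equiv.Perm (Fin (n - 3)))).toMonoidHom = P₂ := by
      rw [← Subgroup.map_subgroupOf_eq_of_le a₂, ← hσ, Subgroup.map_map]
      conv_lhs => rw [← Subgroup.map_subgroupOf_eq_of_le a₁, Subgroup.map_map]
      congr 1
    obtain ⟨τ, hτ⟩ : ∃ τ : Equiv.Perm (Fin 3), Equiv.Perm.sign τ = Equiv.Perm.sign (θ₁.symm.trans θ₂) := by
      rcases Int.units_eq_one_or (Equiv.Perm.sign (θ₁.symm.trans θ₂)) with h | h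
      · exact ⟨1, by rw [h, map_one]⟩
      · exact ⟨Equiv.swap 0 1, by rw [h]; decide⟩
    have hmem : (θ₁.symm.trans θ₂ : Equiv.Perm (Fin n)) * PermNil.emb θ₁ ((σ : Equiv.Perm _), τ) ∈
        alternatingGroup (Fin n) := by
      rw [Equiv.Perm.mem_alternatingGroup, map_mul, PermNil.sign_emb,
        Equiv.Perm.mem_alternatingGroup.mp σ.2, one_mul, hτ]
      exact Int.units_mul_self _
    refine ⟨⟨_, hmem⟩, Subgroup.map_injective hf ?_⟩
    rw [e₂, ← hσ', PermNil.model_conj θ₁ θ₂ P₁ (σ : Equiv.Perm _) τ, ← e₁, Subgroup.map_map,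
      Subgroup.map_map]
    congr 1

end Cfsg.Agent.S2256
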