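import Cfsg.Statements.S2257
import Cfsg.Agent.Lib.SL2.Solvabilizer
-- import your own Cfsg.Agent.* helpers here

set_option autoImplicit false
open Cfsg

namespace Cfsg.Agent.S2257

/-- Let G = PSL_2(F) with F a field of order q = 2^p, p prime, and for x ∈ G call the solubilizer of x the set of y ∈ G such that x and y generate a solvable subgroup. Then the solubilizer of an involution has 3q(q − 1) elements; that of a non-identity element of order dividing q − 1 has 2q(q − 1) elements; and that of a non-identity element of order dividing q + 1 has 2(q + 1) elements. -/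
theorem result (p : ℕ) (hp : p.Prime) {F : Type*} [Field F] [Fintype F]
    (hF : Fintype.card F = 2 ^ p) (x : Matrix.ProjectiveSpecialLinearGroup (Fin 2) F) :
    (orderOf x = 2 → Nat.card {y : Matrix.ProjectiveSpecialLinearGroup (Fin 2) F // Group.IsSolvable ↥(Subgroup.closure ({x, y} : Set (Matrix.ProjectiveSpecialLinearGroup (Fin 2) F)))} = 3 * 2 ^ p * (2 ^ p - 1)) ∧
    (x ≠ 1 → orderOf x ∣ 2 ^ p - 1 → Nat.card {y : Matrix.ProjectiveSpecialLinearGroup (Fin 2) F // Group.IsSolvable ↥(Subgroup.closure ({x, y} : Set (Matrix.ProjectiveSpecialLinearGroup (Fin 2) F)))} = 2 * 2 ^ p * (2 ^ p - 1)) ∧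
    (x ≠ 1 → orderOf x ∣ 2 ^ p + 1 → Nat.card {y : Matrix.ProjectiveSpecialLinearGroup (Fin 2) F // Group.IsSolvable ↥(Subgroup.closure ({x, y} : Set (Matrix.ProjectiveSpecialLinearGroup (Fin 2) F)))} = 2 * (2 ^ p + 1)) := by
  classical
  haveI : Fact (Nat.Prime 2) := ⟨Nat.prime_two⟩
  haveI : CharP F 2 := by
    obtain ⟨r, hr⟩ := CharP.exists F
    obtain ⟨m, hrp, hm⟩ := FiniteField.card F r
    have h2 : 2 ∣ r := Nat.prime_two.dvd_of_dvd_pow
      ((dvd_pow_self 2 hp.ne_zero).trans (dvd_of_eq (hF.symm.trans hm)))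
    rwa [← (Nat.prime_dvd_prime_iff_eq Nat.prime_two hrp).1 h2] at hr
  have heven : 2 ∣ 2 ^ p := dvd_pow_self 2 hp.ne_zero
  have h4 := SL2.four_le hp hF
  refine ⟨fun h2 => ?_, fun hx hd => ?_, fun hx hd => ?_⟩
  · obtain ⟨g, b, hb, hgx⟩ := SL2.exists_conj_uu (p := 2) (x := x) (k := 1)
      (fun h => by rw [h, orderOf_one] at h2; omega) (orderOf_dvd_iff_pow_eq_one.1 (by rw [pow_one, h2]))
    rw [← SL2.card_solvabilizer_conj g x, hgx, SL2.solvabilizer_uu hp hF hb, hF]
  · have hodd : ¬ 2 ∣ orderOf x := fun h => by have := h.trans hd; omega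
    rcases SL2.orderOf_dvd_cases hp hF hx hodd with ⟨g, a, ha, hgx, -⟩ | ⟨r, hr, hr2, hxr, hd'⟩
    · rw [← SL2.card_solvabilizer_conj g x, hgx, SL2.solvabilizer_dd hp hF ha, hF]
    · exfalso
      rw [hF] at hd' h4
      refine hx (orderOf_eq_one_iff.1 ?_)
      have h2 := Nat.dvd_sub hd' hd
      rw [show 2 ^ p + 1 - (2 ^ p - 1) = 2 by omega] at h2
      rcases (Nat.dvd_prime Nat.prime_two).1 h2 with h | h
      · exact h
      · exact absurd (by rw [h]) hodd
  · have hodd : ¬ 2 ∣ orderOf x := fun h => by have := h.trans hd; omega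
    rcases SL2.orderOf_dvd_cases hp hF hx hodd with ⟨g, a, ha, hgx, hd'⟩ | ⟨r, hr, hr2, hxr, -⟩
    · exfalso
      rw [hF] at hd' h4
      refine hx (orderOf_eq_one_iff.1 ?_)
      have h2 := Nat.dvd_sub hd hd'
      rw [show 2 ^ p + 1 - (2 ^ p - 1) = 2 by omega] at h2
      rcases (Nat.dvd_prime Nat.prime_two).1 h2 with h | h
      · exact h
      · exact absurd (by rw [h]) hodd
    · rw [hxr, SL2.solvabilizer_noEig hp hF hr hr2, hF]

end Cfsg.Agent.S2257
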