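import Cfsg.Statements.S2258
import Cfsg.Agent.Lib.SL2.SolvabilizerThree

set_option autoImplicit false
open Cfsg

namespace Cfsg.Agent.S2258

/-- Let G = PSL_2(F) with F a field of order q = 3^p, p an odd prime, and for x ∈ G call the solubilizer of x the set of y ∈ G such that x and y generate a solvable subgroup. Then the solubilizer of an involution has q(q + 1) elements; that of an element of order 3 has q(q + 5)/2 elements; that of an element of order neither 1 nor 2 dividing q − 1 has q(q − 1) elements; and that of an element of order neither 1 nor 2 dividing q + 1 has q + 1 elements. -/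
theorem result (p : ℕ) (hp : p.Prime) (hodd : Odd p) {F : Type*} [Field F] [Fintype F]
    (hF : Fintype.card F = 3 ^ p) (x : Matrix.ProjectiveSpecialLinearGroup (Fin 2) F) :
    (orderOf x = 2 → Nat.card {y : Matrix.ProjectiveSpecialLinearGroup (Fin 2) F // Group.IsSolvable ↥(Subgroup.closure ({x, y} : Set (Matrix.ProjectiveSpecialLinearGroup (Fin 2) F)))} = 3 ^ p * (3 ^ p + 1)) ∧
    (orderOf x = 3 → 2 * Nat.card {y : Matrix.ProjectiveSpecialLinearGroup (Fin 2) F // Group.IsSolvable ↥(Subgroup.closure ({x, y} : Set (Matrix.ProjectiveSpecialLinearGroup (Fin 2) F)))} = 3 ^ p * (3 ^ p + 5)) ∧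
    (x ≠ 1 → orderOf x ≠ 2 → orderOf x ∣ 3 ^ p - 1 → Nat.card {y : Matrix.ProjectiveSpecialLinearGroup (Fin 2) F // Group.IsSolvable ↥(Subgroup.closure ({x, y} : Set (Matrix.ProjectiveSpecialLinearGroup (Fin 2) F)))} = 3 ^ p * (3 ^ p - 1)) ∧
    (x ≠ 1 → orderOf x ≠ 2 → orderOf x ∣ 3 ^ p + 1 → Nat.card {y : Matrix.ProjectiveSpecialLinearGroup (Fin 2) F // Group.IsSolvable ↥(Subgroup.closure ({x, y} : Set (Matrix.ProjectiveSpecialLinearGroup (Fin 2) F)))} = 3 ^ p + 1) := by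
  classical
  haveI : Fact (Nat.Prime 3) := ⟨Nat.prime_three⟩
  haveI : CharP F 3 := by
    obtain ⟨r, hr⟩ := CharP.exists F
    obtain ⟨m, hrp, hm⟩ := FiniteField.card F r
    have h3 : 3 ∣ r := Nat.prime_three.dvd_of_dvd_pow
      ((dvd_pow_self 3 hp.ne_zero).trans (dvd_of_eq (hF.symm.trans hm)))
    rwa [← (Nat.prime_dvd_prime_iff_eq Nat.prime_three hrp).1 h3] at hr
  obtain ⟨h27, h4, hq3, -⟩ := SL2.Three.q_facts hp hodd hF
  rw [hF] at h27 h4 hq3
  have h3n : x ≠ 1 → (orderOf x ∣ 3 ^ p - 1 ∨ orderOf x ∣ 3 ^ p + 1) → x ^ 3 ≠ 1 := by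
    intro hx hd h
    rw [orderOf_eq_prime h hx] at hd
    omega
  have h2n : x ≠ 1 → orderOf x ≠ 2 → x * x ≠ 1 := fun hx h2 h => h2 (orderOf_eq_prime (by rw [pow_two]; exact h) hx)
  have hgcd : ∀ n : ℕ, n ∣ 3 ^ p - 1 → n ∣ 3 ^ p + 1 → n ∣ 2 := fun n h h2 => by
    have := Nat.dvd_sub h2 h
    rwa [show 3 ^ p + 1 - (3 ^ p - 1) = 2 by omega] at this
  refine ⟨fun h2 => ?_, fun h3 => ?_, fun hx hx2 hd => ?_, fun hx hx2 hd => ?_⟩
  · have hsq : x * x = 1 := by rw [← pow_two]; exact orderOf_dvd_iff_pow_eq_one.1 h2.dvd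
    obtain ⟨s, rfl⟩ := SL2.π_surjective x
    rcases (SL2.Three.sq_iff s).1 hsq with h | h
    · obtain ⟨g, hg⟩ := SL2.Three.exists_conj_ww hodd hF h
      show Nat.card {y // SL2.Three.Sol _ y} = _
      rw [← SL2.Three.card_sol_conj g, hg, SL2.Three.solvabilizer_ww hp hodd hF, hF]
    · rw [SL2.π_eq_one.2 h, orderOf_one] at h2
      omega
  · obtain ⟨g, b, hb, hgx⟩ := SL2.exists_conj_uu (p := 3) (x := x) (k := 1)
      (fun h => by rw [h, orderOf_one] at h3; omega) (orderOf_dvd_iff_pow_eq_one.1 (by rw [pow_one, h3]))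
    show 2 * Nat.card {y // SL2.Three.Sol x y} = _
    rw [← SL2.Three.card_sol_conj g, hgx, SL2.Three.solvabilizer_uu hp hodd hF hb, hF]
  · show Nat.card {y // SL2.Three.Sol x y} = _
    rcases SL2.Three.semisimple_cases hp hodd hF (h3n hx (Or.inl hd)) (h2n hx hx2) with
      ⟨g, a, ha, h6, hgx, -⟩ | ⟨r, -, -, -, -, hd2⟩
    · rw [← SL2.Three.card_sol_conj g, hgx, SL2.Three.solvabilizer_dd hp hodd hF ha h6, hF]
    · rw [hF] at hd2
      rcases (Nat.dvd_prime Nat.prime_two).1 (hgcd _ hd hd2) with h | h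
      · exact absurd (orderOf_eq_one_iff.1 h) hx
      · exact absurd h hx2
  · show Nat.card {y // SL2.Three.Sol x y} = _
    rcases SL2.Three.semisimple_cases hp hodd hF (h3n hx (Or.inr hd)) (h2n hx hx2) with
      ⟨g, a, -, -, -, hd2⟩ | ⟨r, hr, h2, h3, hxr, -⟩
    · rw [hF] at hd2
      rcases (Nat.dvd_prime Nat.prime_two).1 (hgcd _ hd2 hd) with h | h
      · exact absurd (orderOf_eq_one_iff.1 h) hx
      · exact absurd h hx2
    · rw [hxr, SL2.Three.solvabilizer_noEig hp hodd hF hr h2 h3, hF]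

end Cfsg.Agent.S2258
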