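import Cfsg.Statements.S2259
import Cfsg.Agent.Lib.Suzuki.SolubCount
import Cfsg.Agent.Lib.Suzuki.LieIso

set_option autoImplicit false
open Cfsg

namespace Cfsg.Agent.S2259

/-- Let G be the Suzuki group Sz(q), q = 2^(2m+1) with 2m + 1 prime and m ≥ 1, realised inside Sp_4(F) for F the field of order q, write r = 2^(m+1) (so r² = 2q), and for x ∈ G call the solubilizer of x the set of y ∈ G such that x and y generate a solvable subgroup. Then the solubilizer of an involution has q²(4q − 3) elements; that of an element of order 4 has q²(q + 3) elements; that of a non-identity element of order dividing q − 1 has 2q²(q − 1) elements; that of a non-identity element of order dividing q + r + 1 has 4(q + r + 1) elements; and that of a non-identity element of order dividing q − r + 1 has 4(q − r + 1) elements. -/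
theorem result {F : Type*} [Field F] [Fintype F] {m : ℕ} (hm : 1 ≤ m)
    (hp : (2 * m + 1).Prime) (hF : Fintype.card F = 2 ^ (2 * m + 1)) (x : ↥(Cfsg.Lie.Sz F (2 ^ (m + 1)))) :
    (orderOf x = 2 → Nat.card {y : ↥(Cfsg.Lie.Sz F (2 ^ (m + 1))) // Group.IsSolvable ↥(Subgroup.closure ({x, y} : Set (↥(Cfsg.Lie.Sz F (2 ^ (m + 1))))))} = (2 ^ (2 * m + 1)) ^ 2 * (4 * 2 ^ (2 * m + 1) - 3)) ∧
    (orderOf x = 4 → Nat.card {y : ↥(Cfsg.Lie.Sz F (2 ^ (m + 1))) // Group.IsSolvable ↥(Subgroup.closure ({x, y} : Set (↥(Cfsg.Lie.Sz F (2 ^ (m + 1))))))} = (2 ^ (2 * m + 1)) ^ 2 * (2 ^ (2 * m + 1) + 3)) ∧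
    (x ≠ 1 → orderOf x ∣ 2 ^ (2 * m + 1) - 1 →
      Nat.card {y : ↥(Cfsg.Lie.Sz F (2 ^ (m + 1))) // Group.IsSolvable ↥(Subgroup.closure ({x, y} : Set (↥(Cfsg.Lie.Sz F (2 ^ (m + 1))))))} = 2 * (2 ^ (2 * m + 1)) ^ 2 * (2 ^ (2 * m + 1) - 1)) ∧
    (x ≠ 1 → orderOf x ∣ 2 ^ (2 * m + 1) + 2 ^ (m + 1) + 1 → Nat.card {y : ↥(Cfsg.Lie.Sz F (2 ^ (m + 1))) // Group.IsSolvable ↥(Subgroup.closure ({x, y} : Set (↥(Cfsg.Lie.Sz F (2 ^ (m + 1))))))} = 4 * (2 ^ (2 * m + 1) + 2 ^ (m + 1) + 1)) ∧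
    (x ≠ 1 → orderOf x ∣ 2 ^ (2 * m + 1) - 2 ^ (m + 1) + 1 → Nat.card {y : ↥(Cfsg.Lie.Sz F (2 ^ (m + 1))) // Group.IsSolvable ↥(Subgroup.closure ({x, y} : Set (↥(Cfsg.Lie.Sz F (2 ^ (m + 1))))))} = 4 * (2 ^ (2 * m + 1) - 2 ^ (m + 1) + 1)) := by
  open Cfsg.Agent.Suzuki in
  classical
  obtain ⟨D⟩ := exists_dat (F := F) hm hF
  set e := lieEquiv D hF
  obtain ⟨x, rfl⟩ := e.surjective x
  have hcard : Nat.card {y // Group.IsSolvable ↥(Subgroup.closure ({e x, y} : Set ↥(Cfsg.Lie.Sz F (2 ^ (m + 1)))))} =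
      Nat.card (solSet x) := by
    refine (Nat.card_congr (e.toEquiv.subtypeEquiv fun y => ?_)).symm
    show Group.IsSolvable (Subgroup.closure ({x, y} : Set (Cfsg.Sz F m))) ↔
      Group.IsSolvable (Subgroup.closure ({e x, e y} : Set (Cfsg.Lie.Sz F (2 ^ (m + 1)))))
    have hmap : (Subgroup.closure ({x, y} : Set (Cfsg.Sz F m))).map e.toMonoidHom =
        Subgroup.closure ({e x, e y} : Set (Cfsg.Lie.Sz F (2 ^ (m + 1)))) := by
      rw [MonoidHom.map_closure, Set.image_pair]; rfl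
    rw [← hmap]
    set E := Subgroup.equivMapOfInjective (Subgroup.closure ({x, y} : Set (Cfsg.Sz F m))) e.toMonoidHom e.injective
    exact ⟨fun h => by haveI := h; exact solvable_of_solvable_injective (f := E.symm.toMonoidHom) E.symm.injective,
      fun h => by haveI := h; exact solvable_of_solvable_injective (f := E.toMonoidHom) E.injective⟩
  simp only [hcard, MulEquiv.orderOf_eq, ← hF]
  refine ⟨fun h => card_sol_invol D hF hp h, fun h => card_sol_four D hF hp h, fun h1 h2 => ?_, fun h1 h2 => ?_,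
    fun h1 h2 => ?_⟩
  · exact card_sol_split D hF hp (fun h => h1 (by rw [h, map_one])) h2
  · exact card_sol_torus D hF hp (fun h => h1 (by rw [h, map_one])) (Or.inl rfl) h2
  · exact card_sol_torus D hF hp (fun h => h1 (by rw [h, map_one])) (Or.inr rfl) h2

end Cfsg.Agent.S2259
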