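import Cfsg.Statements.S2261
import Cfsg.Agent.Lib.GLOrders.Semisimple
import Mathlib

set_option autoImplicit false
open Cfsg

namespace Cfsg.Agent.S2261

/-- Let F be a finite field with q elements and d ≥ 1. Then every element of PGL_d(F) = GL_d(F)/Z has order at most (q^d − 1)/(q − 1), and some element (the image of a Singer cycle) has exactly this order. -/
theorem result {F : Type*} [Field F] [Fintype F] (d : ℕ) (hd : 1 ≤ d) :
    (∀ g : (GL (Fin d) F ⧸ Subgroup.center (GL (Fin d) F)), (Fintype.card F - 1) * orderOf g ≤ Fintype.card F ^ d - 1) ∧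
    (∃ g : (GL (Fin d) F ⧸ Subgroup.center (GL (Fin d) F)), (Fintype.card F - 1) * orderOf g = Fintype.card F ^ d - 1) := by
  classical
  have hub : ∀ g : (GL (Fin d) F ⧸ Subgroup.center (GL (Fin d) F)),
      (Fintype.card F - 1) * orderOf g ≤ Fintype.card F ^ d - 1 := by
    intro g
    obtain ⟨A, rfl⟩ := QuotientGroup.mk_surjective g
    set o := orderOf (QuotientGroup.mk A : GL (Fin d) F ⧸ Subgroup.center (GL (Fin d) F))
    let P : Fˣ × Fin o → Polynomial F := fun x =>
      (Polynomial.C (x.1 : F) * Polynomial.X ^ (x.2 : ℕ)) %ₘ A.1.charpoly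
    have hP : ∀ x, Polynomial.aeval A.1 (P x) = (x.1 : F) • (A ^ (x.2 : ℕ) : GL (Fin d) F).1 := fun x => by
      show Polynomial.aeval A.1 ((Polynomial.C (x.1 : F) * Polynomial.X ^ (x.2 : ℕ)) %ₘ A.1.charpoly) = _
      rw [Polynomial.modByMonic_eq_sub_mul_div, map_sub, map_mul (Polynomial.aeval A.1) A.1.charpoly,
        Matrix.aeval_self_charpoly, zero_mul, sub_zero, map_mul, Polynomial.aeval_C, map_pow, Polynomial.aeval_X,
        Units.val_pow_eq_pow_val]
      exact (Algebra.smul_def _ _).symm
    haveI : Nonempty (Fin d) := ⟨⟨0, hd⟩⟩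
    let Φ : Fˣ × Fin o → {v : Fin d → F // v ≠ 0} := fun x => ⟨fun i => (P x).coeff i, fun h0 => by
      have hz : P x = 0 := by
        ext m
        rw [Polynomial.coeff_zero]
        by_cases hm : m < d
        · exact congrFun h0 ⟨m, hm⟩
        · refine Polynomial.coeff_eq_zero_of_degree_lt (lt_of_lt_of_le
            (Polynomial.degree_modByMonic_lt _ (Matrix.charpoly_monic _)) ?_)
          rw [Polynomial.degree_eq_natDegree (Matrix.charpoly_monic _).ne_zero, Matrix.charpoly_natDegree_eq_dim,
            Fintype.card_fin]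
          exact_mod_cast (not_lt.1 hm)
      have := hP x
      rw [hz, map_zero, eq_comm, smul_eq_zero] at this
      rcases this with h | h
      · exact x.1.ne_zero h
      · exact (A ^ (x.2 : ℕ)).ne_zero h⟩
    have hΦ : Function.Injective Φ := by
      intro x y h
      have hPe : P x = P y := by
        ext m
        by_cases hm : m < d
        · exact congrFun (congrArg Subtype.val h) ⟨m, hm⟩
        · have hlt : ∀ z, (P z).coeff m = 0 := fun z => by
            refine Polynomial.coeff_eq_zero_of_degree_lt (lt_of_lt_of_le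
              (Polynomial.degree_modByMonic_lt _ (Matrix.charpoly_monic _)) ?_)
            rw [Polynomial.degree_eq_natDegree (Matrix.charpoly_monic _).ne_zero, Matrix.charpoly_natDegree_eq_dim,
              Fintype.card_fin]
            exact_mod_cast (not_lt.1 hm)
          rw [hlt, hlt]
      have he := hP x
      rw [hPe, hP y] at he
      have hmk : (QuotientGroup.mk A : GL (Fin d) F ⧸ Subgroup.center (GL (Fin d) F)) ^ (x.2 : ℕ) =
          QuotientGroup.mk A ^ (y.2 : ℕ) := by
        rw [← QuotientGroup.mk_pow, ← QuotientGroup.mk_pow, QuotientGroup.eq,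
          Matrix.GeneralLinearGroup.center_eq_range_scalar]
        refine ⟨x.1 * y.1⁻¹, ?_⟩
        rw [eq_inv_mul_iff_mul_eq]
        refine Units.ext ?_
        show (A ^ (x.2 : ℕ) : GL (Fin d) F).1 * Matrix.scalar (Fin d) ((x.1 * y.1⁻¹ : Fˣ) : F) = _
        rw [show Matrix.scalar (Fin d) ((x.1 * y.1⁻¹ : Fˣ) : F) = ((x.1 * y.1⁻¹ : Fˣ) : F) • 1 by
            rw [Matrix.smul_one_eq_diagonal]; rfl, mul_smul_comm, mul_one, mul_comm x.1, Units.val_mul, mul_smul,
          ← he, smul_smul, Units.inv_mul, one_smul]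
      have h2 : x.2 = y.2 := Fin.ext (pow_injOn_Iio_orderOf x.2.2 y.2.2 hmk)
      refine Prod.ext (Units.ext ?_) h2
      rw [h2] at he
      have := congrArg (fun M => M * ((A ^ (y.2 : ℕ))⁻¹ : GL (Fin d) F).1) he
      simp only [smul_mul_assoc, Units.mul_inv] at this
      have h3 := congrFun (congrFun this ⟨0, hd⟩) ⟨0, hd⟩
      simpa using h3.symm
    have hcard := Nat.card_le_card_of_injective Φ hΦ
    rw [Nat.card_prod, Nat.card_units, Nat.card_fin, Nat.card_eq_fintype_card (α := F), Nat.card_eq_fintype_card,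
      Fintype.card_subtype_compl, Fintype.card_subtype_eq, Fintype.card_fun, Fintype.card_fin] at hcard
    exact hcard
  refine ⟨hub, ?_⟩
  obtain ⟨A, hA⟩ := GLOrders.exists_orderOf_eq_pow_sub_one (F := F) hd le_rfl
  refine ⟨QuotientGroup.mk A, le_antisymm (hub _) (Nat.le_of_dvd ?_ ?_)⟩
  · exact Nat.mul_pos (Nat.sub_pos_of_lt Fintype.one_lt_card) (orderOf_pos _)
  rw [← hA]
  refine orderOf_dvd_of_pow_eq_one ?_
  rw [mul_comm, pow_mul]
  have h1 := pow_orderOf_eq_one (QuotientGroup.mk A : GL (Fin d) F ⧸ Subgroup.center (GL (Fin d) F))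
  rw [← QuotientGroup.mk_pow, QuotientGroup.eq_one_iff] at h1
  obtain ⟨c, hc⟩ := (SetLike.ext_iff.1 Matrix.GeneralLinearGroup.center_eq_range_scalar _).1 h1
  rw [← hc, ← map_pow, ← Fintype.card_units, pow_card_eq_one, map_one]

end Cfsg.Agent.S2261
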