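import Cfsg.Statements.S2263
import Cfsg.Agent.Lib.PGUOrder.Upper
import Cfsg.Agent.Lib.PGUOrder.Lower
-- import your own Cfsg.Agent.* helpers here

set_option autoImplicit false
open Cfsg

namespace Cfsg.Agent.S2263

/-- Let q = p^f with p prime and f ≥ 1, F a field with q² elements, d ≥ 3 with (d, q) ≠ (3, 2), and PGU_d(q) the general unitary group of the standard Hermitian form modulo its centre. Then the largest order of an element of PGU_d(q) is: q^(d−1) − 1 if d is odd and f ≥ 2; (p^(d−2) + 1)p if d is odd and f = 1; q^(d−1) + 1 if d is even and q > 2; 4(2^(d−3) + 1) if d is even and q = 2. -/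
theorem result {F : Type*} [Field F] [Fintype F] (p f d : ℕ) (hp : p.Prime) (hf : 1 ≤ f) (q : ℕ) (hq : q = p ^ f)
    (hF : Fintype.card F = q ^ 2) (hd : 3 ≤ d) (h32 : ¬ (d = 3 ∧ q = 2)) :
    (Odd d → 2 ≤ f → (∀ g : (↥(Cfsg.GU d F q) ⧸ Subgroup.center ↥(Cfsg.GU d F q)), orderOf g ≤ q ^ (d - 1) - 1) ∧ ∃ g : (↥(Cfsg.GU d F q) ⧸ Subgroup.center ↥(Cfsg.GU d F q)), orderOf g = q ^ (d - 1) - 1) ∧
    (Odd d → f = 1 → (∀ g : (↥(Cfsg.GU d F q) ⧸ Subgroup.center ↥(Cfsg.GU d F q)), orderOf g ≤ (p ^ (d - 2) + 1) * p) ∧ ∃ g : (↥(Cfsg.GU d F q) ⧸ Subgroup.center ↥(Cfsg.GU d F q)), orderOf g = (p ^ (d - 2) + 1) * p) ∧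
    (Even d → 2 < q → (∀ g : (↥(Cfsg.GU d F q) ⧸ Subgroup.center ↥(Cfsg.GU d F q)), orderOf g ≤ q ^ (d - 1) + 1) ∧ ∃ g : (↥(Cfsg.GU d F q) ⧸ Subgroup.center ↥(Cfsg.GU d F q)), orderOf g = q ^ (d - 1) + 1) ∧
    (Even d → q = 2 → (∀ g : (↥(Cfsg.GU d F q) ⧸ Subgroup.center ↥(Cfsg.GU d F q)), orderOf g ≤ 4 * (2 ^ (d - 3) + 1)) ∧ ∃ g : (↥(Cfsg.GU d F q) ⧸ Subgroup.center ↥(Cfsg.GU d F q)), orderOf g = 4 * (2 ^ (d - 3) + 1)) := by
  classical
  haveI := Fact.mk hp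
  haveI : Cfsg.Agent.AutPSU.QField F q := Cfsg.Agent.AutPSU.QField.of_card hF
  haveI : CharP F p := by
    obtain ⟨r, hr⟩ := CharP.exists F
    obtain ⟨⟨e, he⟩, hrp, hcard⟩ := FiniteField.card F r
    have h1 : r ^ e = p ^ (f * 2) := by rw [pow_mul, ← hq, ← hF, hcard]; rfl
    obtain rfl : r = p := (Nat.prime_dvd_prime_iff_eq hrp hp).1
      (hrp.dvd_of_dvd_pow (h1 ▸ dvd_pow_self r (Nat.pos_iff_ne_zero.1 he)))
    exact hr
  set σ : F →+* F := ((Cfsg.Agent.AutPSU.qb (F := F) q : F ≃+* F) : F →+* F)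
  have hσ : ∀ x, σ x = x ^ q := fun x => Cfsg.Agent.AutPSU.qb_apply x
  have hup : ∀ g : (↥(Cfsg.GU d F q) ⧸ Subgroup.center ↥(Cfsg.GU d F q)),
      (Odd d → 2 ≤ f → orderOf g ≤ q ^ (d - 1) - 1) ∧
      (Odd d → f = 1 → orderOf g ≤ (p ^ (d - 2) + 1) * p) ∧
      (Even d → 2 < q → orderOf g ≤ q ^ (d - 1) + 1) ∧
      (Even d → q = 2 → orderOf g ≤ 4 * (2 ^ (d - 3) + 1)) := by
    intro g
    obtain ⟨z, rfl⟩ := QuotientGroup.mk_surjective g
    set A : GL (Fin d) F := (z : GL (Fin d) F)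
    have hA : (A : Matrix (Fin d) (Fin d) F).transpose * (A : Matrix (Fin d) (Fin d) F).map σ = 1 := by
      ext i j
      have := z.2 (Pi.single i 1) (Pi.single j 1)
      simp only [Units.coeHom_apply, Cfsg.hermForm, Matrix.mulVec_single_one, Matrix.col_apply] at this
      rw [Matrix.mul_apply, Matrix.one_apply]
      simp only [Matrix.transpose_apply, Matrix.map_apply, hσ]
      rw [this, Finset.sum_eq_single i (by intro b _ hb; simp [hb]) (by simp)]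
      by_cases h : i = j
      · subst h; simp
      · simp [h, zero_pow (show q ≠ 0 by have := Cfsg.Agent.AutPSU.QField.two_le F (q := q); omega)]
    have hinv : (((A⁻¹ : GL (Fin d) F) : Matrix (Fin d) (Fin d) F).map σ).charpoly =
        (A : Matrix (Fin d) (Fin d) F).charpoly := by
      have h1 : (A : Matrix (Fin d) (Fin d) F).map σ * ((A⁻¹ : GL (Fin d) F) : Matrix (Fin d) (Fin d) F).map σ = 1 := by
        rw [← Matrix.map_mul, ← Units.val_mul, mul_inv_cancel, Units.val_one, Matrix.map_one _ (map_zero _) (map_one _)]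
      rw [← left_inv_eq_right_inv hA h1, Matrix.charpoly_transpose]
    obtain ⟨L, D, c, a, hL, hD, hDd, hc, hSS, hpow⟩ :=
      Cfsg.Agent.PGUOrder.exponent_bound p f (by omega) hf hq hF A σ hσ hinv
    have hle : orderOf (QuotientGroup.mk z : ↥(Cfsg.GU d F q) ⧸ Subgroup.center ↥(Cfsg.GU d F q)) ≤ L * p ^ c := by
      refine Nat.le_of_dvd (Nat.mul_pos hL (pow_pos hp.pos _)) (orderOf_dvd_of_pow_eq_one ?_)
      rw [← QuotientGroup.mk_pow, QuotientGroup.eq_one_iff]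
      refine Subgroup.mem_center_iff.2 fun h => Subtype.ext (Units.ext ?_)
      simp only [Subgroup.coe_mul, Units.val_mul, Subgroup.coe_pow, Units.val_pow_eq_pow_val]
      rw [hpow, Matrix.mul_smul, Matrix.mul_one, Matrix.smul_mul, Matrix.one_mul]
    obtain ⟨h1, h2, h3, h4⟩ := Cfsg.Agent.PGUOrder.bound_cases hp hf hq hd h32 hD hDd hc hSS
    exact ⟨fun a b => hle.trans (h1 a b), fun a b => hle.trans (h2 a b), fun a b => hle.trans (h3 a b),
      fun a b => hle.trans (h4 a b)⟩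
  have hlow : ∀ m, 1 ≤ m → m < d → ∃ g : (↥(Cfsg.GU d F q) ⧸ Subgroup.center ↥(Cfsg.GU d F q)),
      orderOf g = Cfsg.Agent.PGUOrder.tT q (d - m) * p ^ Nat.clog p m := by
    intro m hm hmd
    obtain ⟨k, rfl⟩ : ∃ k, d = k + m := ⟨d - m, by omega⟩
    rw [Nat.add_sub_cancel]
    exact Cfsg.Agent.PGUOrder.exists_element p f hq hf (by omega) hm
  refine ⟨fun ho hf2 => ⟨fun g => (hup g).1 ho hf2, ?_⟩, fun ho hf1 => ⟨fun g => (hup g).2.1 ho hf1, ?_⟩,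
    fun he hq2 => ⟨fun g => (hup g).2.2.1 he hq2, ?_⟩, fun he hq2 => ⟨fun g => (hup g).2.2.2 he hq2, ?_⟩⟩
  · obtain ⟨g, hg⟩ := hlow 1 le_rfl (by omega)
    refine ⟨g, ?_⟩
    rw [hg, Cfsg.Agent.PGUOrder.tT, if_neg (by obtain ⟨k, hk⟩ := ho; exact Nat.not_odd_iff_even.2 ⟨k, by omega⟩),
      Nat.clog_one_right, pow_zero, mul_one]
  · obtain ⟨g, hg⟩ := hlow 2 (by omega) (by omega)
    refine ⟨g, ?_⟩
    rw [hg, Cfsg.Agent.PGUOrder.tT, if_pos (by obtain ⟨k, hk⟩ := ho; exact ⟨k - 1, by omega⟩),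
      Nat.clog_eq_one le_rfl hp.two_le, pow_one, hq, hf1, pow_one]
  · obtain ⟨g, hg⟩ := hlow 1 le_rfl (by omega)
    refine ⟨g, ?_⟩
    rw [hg, Cfsg.Agent.PGUOrder.tT, if_pos (by obtain ⟨k, hk⟩ := he; exact ⟨k - 1, by omega⟩),
      Nat.clog_one_right, pow_zero, mul_one]
  · obtain ⟨g, hg⟩ := hlow 3 (by omega) (by obtain ⟨k, hk⟩ := he; omega)
    obtain rfl : p = 2 := (Nat.prime_dvd_prime_iff_eq hp Nat.prime_two).1 (hq2 ▸ hq ▸ dvd_pow_self p (by omega))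
    refine ⟨g, ?_⟩
    rw [hg, Cfsg.Agent.PGUOrder.tT, if_pos (by obtain ⟨k, hk⟩ := he; exact ⟨k - 2, by omega⟩), hq2,
      show Nat.clog 2 3 = 2 by norm_num [Nat.clog]]
    ring

end Cfsg.Agent.S2263
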