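import Cfsg.Statements.S2265
import Cfsg.Agent.Lib.OrthOrders.Bound
import Cfsg.Agent.Lib.Forms.OddInvol
import Cfsg.Agent.Lib.AutPOmega.Plus
import Cfsg.Agent.Lib.AutPOmega.MinusClass

set_option autoImplicit false
open Cfsg

namespace Cfsg.Agent.S2265

/-- Let F be a finite field with q elements. Every element g of PΩ_(2m+1)(F) (m ≥ 3, q odd), of PΩ⁺_2m(F) (m ≥ 4), or of PΩ⁻_2m(F) (m ≥ 4, the form having an anisotropic binary part) satisfies (q − 1)·|g| ≤ q^(m+1), i.e. has order at most q^(m+1)/(q − 1). -/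
theorem result {F : Type*} [Field F] [Fintype F] (m : ℕ) :
    (3 ≤ m → Odd (Fintype.card F) → ∀ g : Cfsg.POmega F (Cfsg.quadFormOdd m F),
      (Fintype.card F - 1) * orderOf g ≤ Fintype.card F ^ (m + 1)) ∧
    (4 ≤ m → ∀ g : Cfsg.POmega F (Cfsg.quadFormPlus m F),
      (Fintype.card F - 1) * orderOf g ≤ Fintype.card F ^ (m + 1)) ∧
    (4 ≤ m → ∀ a b : F, (∀ z₁ z₂ : F, z₁ ^ 2 + a * z₁ * z₂ + b * z₂ ^ 2 = 0 → z₁ = 0 ∧ z₂ = 0) →
      ∀ g : Cfsg.POmega F (Cfsg.quadFormMinus (m - 1) F a b),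
      (Fintype.card F - 1) * orderOf g ≤ Fintype.card F ^ (m + 1)) := by
  have key : ∀ {ι : Type} [Fintype ι] [DecidableEq ι] (f : (ι → F) → F) (Q : QuadraticForm F (ι → F)), ⇑Q = f →
      (QuadraticMap.polarBilin Q).Nondegenerate → 3 ≤ m → Fintype.card ι ≤ 2 * m + 1 →
      ((2 : F) = 0 → Fintype.card ι ≤ 2 * m) →
      ∀ g : Cfsg.POmega F f, (Fintype.card F - 1) * orderOf g ≤ Fintype.card F ^ (m + 1) := by
    intro ι _ _ f Q hf hQ hm hn hev g
    obtain ⟨⟨⟨a, ha⟩, h⟩, rfl⟩ := QuotientGroup.mk_surjective g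
    refine le_trans (Nat.mul_le_mul_left _ (Nat.le_of_dvd (orderOf_pos a) ?_))
      (Cfsg.Agent.OrthOrders.orderOf_le Q hQ a (fun v => by rw [hf]; exact ha v v) hm hn hev)
    refine (orderOf_map_dvd (QuotientGroup.mk' _) _).trans ?_
    rw [← orderOf_injective ((Cfsg.isometryGroup F f).subtype.comp (Cfsg.Omega F f).subtype)
      (Subtype.val_injective.comp Subtype.val_injective)]
    rfl
  refine ⟨fun hm hodd => ?_, fun hm => ?_, fun hm a b hab => ?_⟩
  · have h2 : (2 : F) ≠ 0 := Ring.two_ne_zero fun h => by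
      have := FiniteField.even_card_of_char_two h
      rw [Nat.odd_iff] at hodd
      omega
    exact key _ (Cfsg.Agent.FormsLib.qOdd m F) Cfsg.Agent.FormsLib.coe_qOdd
      (Cfsg.Agent.FormsLib.qOdd_nondeg h2) hm (by simp [Fintype.card_sum]; omega) (fun h => absurd h h2)
  · exact key _ (Cfsg.Agent.OrthOrder.qPlus m F) Cfsg.Agent.AutPOmega.coe_qPlus
      (Cfsg.Agent.AutPOmega.qset_plus hm).nondeg (by omega) (by simp [Fintype.card_sum]; omega)
      (fun _ => by simp [Fintype.card_sum]; omega)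
  · obtain ⟨Q, hQ, S⟩ := Cfsg.Agent.AutPOmega.exists_minus_setting (k := m - 1) (by omega) a b hab
    exact key _ Q hQ S.nondeg (by omega) (by simp [Fintype.card_sum]; omega)
      (fun _ => by simp [Fintype.card_sum]; omega)

end Cfsg.Agent.S2265
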