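import Cfsg.Statements.S2268
import Cfsg.Agent.Lib.SylAbelian.Fusion

set_option autoImplicit false
open Cfsg

namespace Cfsg.Agent.S2268

/-- Let G be a finite group with an abelian Sylow p-subgroup P and let Q ≤ P. Then N_G(Q) = (N_G(Q) ∩ N_G(P))·C_G(Q), so that N_G(Q)/C_G(Q) is a homomorphic image of the subgroup (N_G(Q) ∩ N_G(P))/C_G(P) of N_G(P)/C_G(P); in particular the order of N_G(Q)/C_G(Q) divides the order of N_G(P)/C_G(P). -/
theorem result {G : Type*} [Group G] [Finite G] {p : ℕ} [Fact p.Prime]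
    (P : Sylow p G) (hP : IsMulCommutative (P : Subgroup G)) (Q : Subgroup G) (hQ : Q ≤ (P : Subgroup G)) :
    Subgroup.normalizer (Q : Set G) =
      (Subgroup.normalizer (Q : Set G) ⊓ Subgroup.normalizer ((P : Subgroup G) : Set G)) ⊔ Subgroup.centralizer (Q : Set G) ∧
    ((Subgroup.centralizer (Q : Set G)).subgroupOf (Subgroup.normalizer (Q : Set G))).index ∣ ((Subgroup.centralizer ((P : Subgroup G) : Set G)).subgroupOf (Subgroup.normalizer ((P : Subgroup G) : Set G))).index := by
  set M := Subgroup.normalizer (Q : Set G) ⊓ Subgroup.normalizer ((P : Subgroup G) : Set G)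
  set NP := Subgroup.normalizer ((P : Subgroup G) : Set G)
  set NQ := Subgroup.normalizer (Q : Set G)
  set CP := Subgroup.centralizer ((P : Subgroup G) : Set G)
  set CQ := Subgroup.centralizer (Q : Set G)
  have hCN : CQ ≤ NQ := Subgroup.centralizer_le_normalizer (Q : Set G)
  have hsup : NQ = M ⊔ CQ := by
    refine le_antisymm (fun g hg => ?_) (sup_le inf_le_left hCN)
    obtain ⟨c, hc, hcg⟩ := SylAbelian.exists_centralizer_mul_mem_normalizer P hP (Q := (Q : Set G))
      (fun x hx => hQ hx) (g := g)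
      (fun x hx => hQ ((Subgroup.mem_normalizer_iff''.1 hg x).1 hx))
    rw [show g = c⁻¹ * (c * g) by group]
    exact mul_mem (Subgroup.mem_sup_right (inv_mem hc)) (Subgroup.mem_sup_left ⟨mul_mem (hCN hc) hg, hcg⟩)
  refine ⟨hsup, ?_⟩
  change CQ.relIndex NQ ∣ CP.relIndex NP
  have e1 : CQ.relIndex NQ = CQ.relIndex M := by
    haveI : (CQ.subgroupOf NQ).Normal := Subgroup.normal_subgroupOf_centralizer_normalizer _
    have htop : M.subgroupOf NQ ⊔ CQ.subgroupOf NQ = ⊤ := by
      rw [← Subgroup.subgroupOf_sup inf_le_left hCN, ← hsup, Subgroup.subgroupOf_self]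
    have h3 : (CQ.subgroupOf NQ).relIndex (M.subgroupOf NQ ⊔ CQ.subgroupOf NQ) =
        (CQ.subgroupOf NQ).relIndex (M.subgroupOf NQ) := Subgroup.relIndex_sup_right _ _
    rw [htop, Subgroup.relIndex_top_right, Subgroup.relIndex_subgroupOf (inf_le_left : M ≤ NQ)] at h3
    exact h3
  rw [e1]
  have hCP : CP ≤ CQ := Subgroup.centralizer_le hQ
  refine (Subgroup.relIndex_dvd_of_le_left M hCP).trans ?_
  haveI hn : (CP.subgroupOf NP).Normal := Subgroup.normal_subgroupOf_centralizer_normalizer _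
  have := Subgroup.relIndex_dvd_index_of_normal (CP.subgroupOf NP) (M.subgroupOf NP)
  rwa [Subgroup.relIndex_subgroupOf (inf_le_right : M ≤ NP)] at this


end Cfsg.Agent.S2268
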