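import Cfsg.Statements.S2269
import Cfsg.Agent.Lib.SylAbelian.Fusion
-- import your own Cfsg.Agent.* helpers here

set_option autoImplicit false
open Cfsg

namespace Cfsg.Agent.S2269

/-- A real non-involutory `p`-element gives an automizer of even order. -/
theorem even_of_real {G : Type*} [Group G] [Finite G] {p : ℕ} [Fact p.Prime] (P : Sylow p G)
    (hP : IsMulCommutative (P : Subgroup G)) {y t : G} {i : ℕ} (hy : y ^ p ^ i = 1) (h2 : y * y ≠ 1)
    (ht : t * y * t⁻¹ = y⁻¹) :
    2 ∣ ((Subgroup.centralizer ((P : Subgroup G) : Set G)).subgroupOf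
      (Subgroup.normalizer ((P : Subgroup G) : Set G))).index := by
  have hpg : IsPGroup p (Subgroup.zpowers y) := by
    obtain ⟨j, -, hj⟩ := (Nat.dvd_prime_pow Fact.out).1 (orderOf_dvd_of_pow_eq_one hy)
    exact IsPGroup.of_card (n := j) (by rw [Nat.card_zpowers, hj])
  obtain ⟨Q, hQ⟩ := hpg.exists_le_sylow
  obtain ⟨h, hh⟩ := MulAction.exists_smul_eq G Q P
  set x := h * y * h⁻¹ with hx
  have hxP : x ∈ (P : Subgroup G) := by
    rw [← hh]
    exact ⟨y, hQ (Subgroup.mem_zpowers y), rfl⟩
  set g := h * t * h⁻¹ with hgdef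
  have hg : g * x * g⁻¹ = x⁻¹ := by
    calc g * x * g⁻¹ = h * (t * y * t⁻¹) * h⁻¹ := by simp only [hx, hgdef]; group
      _ = x⁻¹ := by rw [ht, hx]; group
  have hx2 : x * x ≠ 1 := fun e => h2 (by
    calc y * y = h⁻¹ * (x * x) * h := by rw [hx]; group
      _ = 1 := by rw [e]; group)
  obtain ⟨c, hc, hcg⟩ := SylAbelian.exists_centralizer_mul_mem_normalizer P hP (Q := {x⁻¹}) (g := g)
    (fun y hy => by rw [Set.mem_singleton_iff.1 hy]; exact inv_mem hxP)
    (fun y hy => by
      rw [Set.mem_singleton_iff.1 hy, ← hg]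
      simpa [mul_assoc] using hxP)
  set m := c * g
  have hm : m * x * m⁻¹ = x⁻¹ := by
    have h1 := Subgroup.mem_centralizer_iff.1 hc x⁻¹ rfl
    calc m * x * m⁻¹ = c * (g * x * g⁻¹) * c⁻¹ := by simp only [m, mul_inv_rev, mul_assoc]
      _ = x⁻¹ := by rw [hg, ← h1, mul_inv_cancel_right]
  set NP := Subgroup.normalizer ((P : Subgroup G) : Set G)
  set C := (Subgroup.centralizer ((P : Subgroup G) : Set G)).subgroupOf NP
  haveI : C.Normal := Subgroup.normal_subgroupOf_centralizer_normalizer _
  by_contra hodd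
  have hpow : (⟨m, hcg⟩ : NP) ^ C.index ∈ C := Subgroup.pow_index_mem C _
  rw [Subgroup.mem_subgroupOf, Subgroup.coe_pow] at hpow
  have key : ∀ k : ℕ, m ^ k * x * (m ^ k)⁻¹ = if Even k then x else x⁻¹ := by
    intro k
    induction k with
    | zero => simp
    | succ k ih =>
      rw [pow_succ', show m * m ^ k * x * (m * m ^ k)⁻¹ = m * (m ^ k * x * (m ^ k)⁻¹) * m⁻¹ by group, ih]
      by_cases hk : Even k
      · rw [if_pos hk, if_neg (by simp [Nat.even_add_one, hk]), hm]
      · rw [if_neg hk, if_pos (by simp [Nat.even_add_one, hk]), ← conj_inv, hm, inv_inv]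
  have h3 := key C.index
  rw [if_neg (fun h => hodd h.two_dvd), ← Subgroup.mem_centralizer_iff.1 hpow x hxP,
    mul_inv_cancel_right] at h3
  exact hx2 (by nth_rewrite 1 [h3]; exact inv_mul_cancel x)

/-- A real `p`-element of order at least three in a smaller alternating group moves up. -/
theorem even_of_model {n p : ℕ} [Fact p.Prime] (P : Sylow p (alternatingGroup (Fin n)))
    (hP : IsMulCommutative (P : Subgroup (alternatingGroup (Fin n)))) {β : Type*} [Fintype β]
    [DecidableEq β] (ι : β ↪ Fin n) {a r : Equiv.Perm β} (ha : a ∈ alternatingGroup β)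
    (hr : r ∈ alternatingGroup β) {i : ℕ} (hi : a ^ p ^ i = 1) (h2 : a * a ≠ 1)
    (hra : r * a * r⁻¹ = a⁻¹) :
    2 ∣ ((Subgroup.centralizer ((P : Subgroup (alternatingGroup (Fin n))) : Set (alternatingGroup (Fin n)))).subgroupOf
      (Subgroup.normalizer ((P : Subgroup (alternatingGroup (Fin n))) : Set (alternatingGroup (Fin n))))).index := by
  let f := Equiv.Perm.extendDomainHom (Equiv.ofInjective ι ι.injective)
  have hf : Function.Injective f := Equiv.Perm.extendDomainHom_injective _
  have hs : ∀ e : Equiv.Perm β, e ∈ alternatingGroup β → f e ∈ alternatingGroup (Fin n) := fun e he => by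
    rw [Equiv.Perm.mem_alternatingGroup] at he ⊢
    exact (Equiv.Perm.sign_extendDomain _ _).trans he
  refine even_of_real P hP (y := ⟨f a, hs a ha⟩) (t := ⟨f r, hs r hr⟩) (i := i)
    (Subtype.ext ?_) (fun h => h2 (hf ?_)) (Subtype.ext ?_)
  · show f a ^ p ^ i = 1
    rw [← map_pow, hi, map_one]
  · rw [map_mul, map_one]; exact congrArg Subtype.val h
  · show f r * f a * (f r)⁻¹ = (f a)⁻¹
    rw [← map_inv, ← map_mul, ← map_mul, hra, map_inv]

theorem odd_case {n p : ℕ} [hp : Fact p.Prime] (hp2 : p ≠ 2) (hn : 2 * p ≤ n)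
    (P : Sylow p (alternatingGroup (Fin n)))
    (hP : IsMulCommutative (P : Subgroup (alternatingGroup (Fin n)))) :
    2 ∣ ((Subgroup.centralizer ((P : Subgroup (alternatingGroup (Fin n))) : Set (alternatingGroup (Fin n)))).subgroupOf
      (Subgroup.normalizer ((P : Subgroup (alternatingGroup (Fin n))) : Set (alternatingGroup (Fin n))))).index := by
  haveI : NeZero p := ⟨hp.out.ne_zero⟩
  obtain ⟨ι⟩ : Nonempty (Fin 2 × ZMod p ↪ Fin n) :=
    Function.Embedding.nonempty_of_card_le (by simpa using hn)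
  let a : Equiv.Perm (Fin 2 × ZMod p) := Equiv.prodCongrRight fun _ => Equiv.addRight 1
  let r : Equiv.Perm (Fin 2 × ZMod p) := Equiv.prodCongrRight fun _ => Equiv.neg _
  have key : ∀ e : Equiv.Perm (ZMod p),
      (Equiv.prodCongrRight fun _ : Fin 2 => e) ∈ alternatingGroup (Fin 2 × ZMod p) := fun e => by
    rw [Equiv.Perm.mem_alternatingGroup, Equiv.Perm.sign_prodCongrRight, Fin.prod_univ_two,
      Int.units_mul_self]
  have hpow : ∀ (j : ℕ) (x : Fin 2 × ZMod p), (a ^ j) x = (x.1, x.2 + (j : ZMod p)) := by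
    intro j
    induction j with
    | zero => intro x; simp
    | succ j ih =>
      intro x
      rw [pow_succ', Equiv.Perm.mul_apply, ih]
      simp [a, add_assoc]
  refine even_of_model P hP ι (a := a) (r := r) (key _) (key _) (i := 1) ?_ ?_ ?_
  · rw [pow_one]; ext x <;> simp [hpow]
  · intro h
    have h' := congrArg (fun e : Equiv.Perm _ => e ((0 : Fin 2), (0 : ZMod p))) h
    rw [show a * a = a ^ 2 from (sq a).symm] at h'
    simp only [hpow, Equiv.Perm.one_apply, Prod.mk.injEq, zero_add, true_and] at h'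
    rw [ZMod.natCast_eq_zero_iff] at h'
    exact hp2 ((Nat.prime_dvd_prime_iff_eq hp.out Nat.prime_two).1 h')
  · rw [mul_inv_eq_iff_eq_mul, eq_inv_mul_iff_mul_eq]
    ext x
    · simp [a, r]
    · simp [a, r]

theorem isCyclic_small {n p : ℕ} [hp : Fact p.Prime] (hn : n < 2 * p)
    (P : Sylow p (alternatingGroup (Fin n))) :
    IsCyclic (P : Subgroup (alternatingGroup (Fin n))) := by
  obtain ⟨i, hi⟩ := IsPGroup.iff_card.1 P.isPGroup'
  have h1 : p ^ i ∣ Nat.factorial n := by
    rw [← hi]
    refine (Subgroup.card_subgroup_dvd_card _).trans ((Subgroup.card_subgroup_dvd_card _).trans ?_)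
    rw [Nat.card_perm, Nat.card_fin]
  have h2 : i ≤ 1 := by
    have h := (padicValNat_dvd_iff_le (Nat.factorial_ne_zero n)).1 h1
    rcases lt_or_ge n p with hlt | hge
    · have : padicValNat p (Nat.factorial n) = 0 := padicValNat.eq_zero_of_not_dvd
        (fun hd => absurd ((hp.out.dvd_factorial).1 hd) (not_le.2 hlt))
      omega
    · obtain ⟨m, rfl⟩ : ∃ m, n = p * 1 + m := ⟨n - p, by omega⟩
      rw [padicValNat_factorial_mul_add 1 (by omega), padicValNat_factorial_mul] at h
      simpa using h
  interval_cases i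
  · haveI : Subsingleton (P : Subgroup (alternatingGroup (Fin n))) :=
      (Nat.card_eq_one_iff_unique.1 (by simpa using hi)).1
    infer_instance
  · exact isCyclic_of_prime_card (by simpa using hi)

theorem five_four' : ∀ g : Equiv.Perm (Fin 5), Equiv.Perm.sign g = 1 →
    g * g * (g * g) = 1 → g * g = 1 := by
  decide +kernel

theorem five_cent' : ∀ g h : Equiv.Perm (Fin 5), Equiv.Perm.sign g = 1 → Equiv.Perm.sign h = 1 →
    g * g = 1 → g ≠ 1 → g * h = h * g → h * h = 1 := by
  decide +kernel

theorem five_four (g : alternatingGroup (Fin 5)) (h : g * g * (g * g) = 1) : g * g = 1 :=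
  Subtype.ext (five_four' g.1 (Equiv.Perm.mem_alternatingGroup.1 g.2) (congrArg Subtype.val h))

theorem five_cent (g h : alternatingGroup (Fin 5)) (h1 : g * g = 1) (h2 : g ≠ 1)
    (h3 : g * h = h * g) : h * h = 1 :=
  Subtype.ext (five_cent' g.1 h.1 (Equiv.Perm.mem_alternatingGroup.1 g.2)
    (Equiv.Perm.mem_alternatingGroup.1 h.2) (congrArg Subtype.val h1)
    (fun e => h2 (Subtype.ext e)) (congrArg Subtype.val h3))

theorem five_case (P : Sylow 2 (alternatingGroup (Fin 5))) :
    ((Subgroup.centralizer ((P : Subgroup (alternatingGroup (Fin 5))) : Set (alternatingGroup (Fin 5)))).subgroupOf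
      (Subgroup.normalizer ((P : Subgroup (alternatingGroup (Fin 5))) : Set (alternatingGroup (Fin 5))))).index = 3 ∧
      IsKleinFour (P : Subgroup (alternatingGroup (Fin 5))) := by
  have hG : Nat.card (alternatingGroup (Fin 5)) = 60 := by
    rw [nat_card_alternatingGroup, Nat.card_fin]; rfl
  have d1 : ∀ g : alternatingGroup (Fin 5), g * g * (g * g) = 1 → g * g = 1 := five_four
  have d2 : ∀ g h : alternatingGroup (Fin 5), g * g = 1 → g ≠ 1 → g * h = h * g → h * h = 1 := five_cent
  obtain ⟨i, hi⟩ := IsPGroup.iff_card.1 P.isPGroup'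
  have h4 : Nat.card (P : Subgroup (alternatingGroup (Fin 5))) = 4 := by
    have h1 : 2 ^ i ∣ 60 := hi ▸ hG ▸ Subgroup.card_subgroup_dvd_card _
    have h2 : 2 ^ 2 ∣ 2 ^ i := hi ▸ P.pow_dvd_card_of_pow_dvd_card (n := 2) (by rw [hG]; norm_num)
    have h3 : 2 ≤ i := (Nat.pow_dvd_pow_iff_le_right (by norm_num)).1 h2
    have : i < 3 := by
      by_contra hc
      have := (pow_dvd_pow 2 (not_lt.1 hc)).trans h1
      norm_num at this
    rw [hi, show i = 2 by omega]; norm_num
  have hexp : ∀ x : (P : Subgroup (alternatingGroup (Fin 5))), x * x = 1 := fun x => Subtype.ext (d1 x.1 (by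
    have := pow_card_eq_one' (x := x)
    rw [h4] at this
    have e := congrArg Subtype.val this
    simpa [pow_succ, mul_assoc] using e))
  have hk : IsKleinFour (P : Subgroup (alternatingGroup (Fin 5))) := by
    refine ⟨h4, ?_⟩
    have hd := Monoid.exponent_dvd_of_forall_pow_eq_one (G := (P : Subgroup (alternatingGroup (Fin 5)))) (n := 2)
      (fun x => by rw [sq]; exact hexp x)
    rcases (Nat.dvd_prime Nat.prime_two).1 hd with h | h
    · haveI := Monoid.exp_eq_one_iff.1 h
      rw [Nat.card_of_subsingleton (1 : (P : Subgroup (alternatingGroup (Fin 5))))] at h4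
      omega
    · exact h
  refine ⟨?_, hk⟩
  obtain ⟨x, hxP, hx1⟩ : ∃ x ∈ (P : Subgroup (alternatingGroup (Fin 5))), x ≠ 1 := by
    by_contra h
    simp only [not_exists, not_and, not_not] at h
    haveI : Subsingleton (P : Subgroup (alternatingGroup (Fin 5))) :=
      ⟨fun a b => Subtype.ext ((h a a.2).trans (h b b.2).symm)⟩
    rw [Nat.card_of_subsingleton (1 : (P : Subgroup (alternatingGroup (Fin 5))))] at h4
    omega
  have hC : Subgroup.centralizer ((P : Subgroup (alternatingGroup (Fin 5))) : Set (alternatingGroup (Fin 5))) = (P : Subgroup (alternatingGroup (Fin 5))) := by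
    refine P.is_maximal' ?_ ?_
    · intro h
      refine ⟨1, Subtype.ext ?_⟩
      rw [Subgroup.coe_pow, pow_one, sq]
      exact d2 x h (congrArg Subtype.val (hexp ⟨x, hxP⟩)) hx1 (Subgroup.mem_centralizer_iff.1 h.2 x hxP)
    · intro a ha
      refine Subgroup.mem_centralizer_iff.2 fun b hb => ?_
      have h1 := congrArg Subtype.val (hexp ⟨a, ha⟩)
      have h2 := congrArg Subtype.val (hexp ⟨b, hb⟩)
      have h3 := congrArg Subtype.val (hexp ⟨b * a, mul_mem hb ha⟩)
      simp only [Subgroup.coe_mul, Subgroup.coe_one] at h1 h2 h3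
      calc b * a = b * a * 1 := (mul_one _).symm
        _ = b * a * (b * b) := by rw [h2]
        _ = b * a * b * (a * a) * b := by rw [h1]; group
        _ = (b * a * (b * a)) * (a * b) := by group
        _ = a * b := by rw [h3, one_mul]
  set N := Subgroup.normalizer ((P : Subgroup (alternatingGroup (Fin 5))) : Set (alternatingGroup (Fin 5)))
  have hCN : ((Subgroup.centralizer ((P : Subgroup (alternatingGroup (Fin 5))) : Set (alternatingGroup (Fin 5)))).subgroupOf N) =
      (P : Subgroup (alternatingGroup (Fin 5))).subgroupOf N := by rw [hC]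
  rw [hCN]
  set j := ((P : Subgroup (alternatingGroup (Fin 5))).subgroupOf N).index with hj
  have e1 : Nat.card N = 4 * j := by
    rw [hj, ← Subgroup.card_mul_index ((P : Subgroup (alternatingGroup (Fin 5))).subgroupOf N),
      Nat.card_congr (Subgroup.subgroupOfEquivOfLe Subgroup.le_normalizer).toEquiv, h4]
  have hdvd : 4 * j ∣ 60 := e1 ▸ hG ▸ Subgroup.card_subgroup_dvd_card N
  have hN : N.index * (4 * j) = 60 := by rw [← e1, Subgroup.index_mul_card, hG]
  have hodd : ¬ 2 ∣ j := by
    intro h
    obtain ⟨k, hk'⟩ := h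
    obtain ⟨l, hl⟩ := hdvd
    rw [hk', show 4 * (2 * k) * l = 8 * (k * l) by ring] at hl
    omega
  have hne : j ≠ 1 := by
    intro h1
    have hNP : N = (P : Subgroup (alternatingGroup (Fin 5))) := le_antisymm (Subgroup.subgroupOf_eq_top.1
      (Subgroup.index_eq_one.1 (hj ▸ h1))) Subgroup.le_normalizer
    have hle : Subgroup.normalizer ((P : Subgroup (alternatingGroup (Fin 5))) : Set (alternatingGroup (Fin 5))) ≤
        Subgroup.centralizer ((P : Subgroup (alternatingGroup (Fin 5))) : Set (alternatingGroup (Fin 5))) := by rw [hC]; exact hNP.le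
    have hc := MonoidHom.ker_transferSylow_isComplement' P hle
    have hcard := hc.card_mul
    rw [h4, hG] at hcard
    rcases IsSimpleGroup.eq_bot_or_eq_top_of_normal (MonoidHom.ker (MonoidHom.transferSylow P hle)) inferInstance with e | e
    · rw [e, Subgroup.card_bot] at hcard; omega
    · rw [e, Subgroup.card_top, hG] at hcard; omega
  have hle : 4 * j ≤ 60 := Nat.le_of_dvd (by norm_num) hdvd
  have h15 : j ≠ 15 := by
    intro h
    rw [h] at e1
    have hNt : N = ⊤ := Subgroup.eq_top_of_card_eq N (by rw [e1, hG])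
    haveI : (P : Subgroup (alternatingGroup (Fin 5))).Normal := Subgroup.normalizer_eq_top_iff.1 hNt
    rcases IsSimpleGroup.eq_bot_or_eq_top_of_normal (P : Subgroup (alternatingGroup (Fin 5))) inferInstance with e | e
    · rw [e, Subgroup.card_bot] at h4; omega
    · rw [e, Subgroup.card_top, hG] at h4; omega
  have h5 : j ≠ 5 := by
    intro h
    rw [h] at hN e1
    have hker : (MulAction.toPermHom (alternatingGroup (Fin 5)) ((alternatingGroup (Fin 5)) ⧸ N)).ker = ⊥ := by
      refine (IsSimpleGroup.eq_bot_or_eq_top_of_normal (MulAction.toPermHom (alternatingGroup (Fin 5)) ((alternatingGroup (Fin 5)) ⧸ N)).ker inferInstance).resolve_right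
        fun e => ?_
      rw [← Subgroup.normalCore_eq_ker] at e
      have : N = ⊤ := top_le_iff.1 (e ▸ Subgroup.normalCore_le N)
      rw [this, Subgroup.card_top, hG] at e1
      omega
    have := Nat.card_le_card_of_injective _ ((MonoidHom.ker_eq_bot_iff _).1 hker)
    rw [hG, Nat.card_perm, ← Subgroup.index_eq_card, show N.index = 3 by omega] at this
    norm_num [Nat.factorial] at this
  obtain ⟨l, hl⟩ := hdvd
  have hj15 : j ≤ 15 := by omega
  clear_value j
  interval_cases j <;> omega


/-- Let n ≥ 5 and let P be an abelian Sylow p-subgroup of the alternating group A_n. Then N(P)/C(P) (taken in A_n) has even order, or P is cyclic, except when n = 5 and p = 2, where P is a four-group and N(P)/C(P) has order 3. -/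
theorem result (n : ℕ) (hn : 5 ≤ n) {p : ℕ} [Fact p.Prime]
    (P : Sylow p (alternatingGroup (Fin n))) (hP : IsMulCommutative (P : Subgroup (alternatingGroup (Fin n)))) :
    (¬ (n = 5 ∧ p = 2) → 2 ∣ ((Subgroup.centralizer ((P : Subgroup (alternatingGroup (Fin n))) : Set (alternatingGroup (Fin n)))).subgroupOf (Subgroup.normalizer ((P : Subgroup (alternatingGroup (Fin n))) : Set (alternatingGroup (Fin n))))).index ∨ IsCyclic (P : Subgroup (alternatingGroup (Fin n)))) ∧
    ((n = 5 ∧ p = 2) → ((Subgroup.centralizer ((P : Subgroup (alternatingGroup (Fin n))) : Set (alternatingGroup (Fin n)))).subgroupOf (Subgroup.normalizer ((P : Subgroup (alternatingGroup (Fin n))) : Set (alternatingGroup (Fin n))))).index = 3 ∧ IsKleinFour (P : Subgroup (alternatingGroup (Fin n)))) := by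
  refine ⟨fun h => ?_, fun h => ?_⟩
  · rcases eq_or_ne p 2 with rfl | hp2
    · have hn6 : 6 ≤ n := by omega
      refine Or.inl (even_of_model P hP (Fin.castLEEmb hn6) (a := c[(0 : Fin 6), 1, 2, 3] * c[4, 5])
        (r := Equiv.swap 1 3 * Equiv.swap 4 5) (i := 2) ?_ ?_ ?_ ?_ ?_) <;>
        (try rw [Equiv.Perm.mem_alternatingGroup]) <;> decide +kernel
    · rcases lt_or_ge n (2 * p) with hlt | hge
      · exact Or.inr (isCyclic_small hlt P)
      · exact Or.inl (odd_case hp2 hge P hP)
  · obtain ⟨rfl, rfl⟩ := h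
    exact five_case P

end Cfsg.Agent.S2269
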