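import Cfsg.Statements.S2270
import Cfsg.Agent.Lib.SylAbelian.Fusion

set_option autoImplicit false
open Cfsg

namespace Cfsg.Agent.S2270

/-- Let n ≥ 3, p an odd prime, and P an abelian Sylow p-subgroup of the symmetric group S_n (with p dividing n!, so that P ≠ 1). Then N(P)/C(P) has even order. -/
theorem result (n : ℕ) (hn : 3 ≤ n) {p : ℕ} [Fact p.Prime] (hp : p ≠ 2) (hpn : p ≤ n)
    (P : Sylow p (Equiv.Perm (Fin n))) (hP : IsMulCommutative (P : Subgroup (Equiv.Perm (Fin n)))) :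
    2 ∣ ((Subgroup.centralizer ((P : Subgroup (Equiv.Perm (Fin n))) : Set (Equiv.Perm (Fin n)))).subgroupOf (Subgroup.normalizer ((P : Subgroup (Equiv.Perm (Fin n))) : Set (Equiv.Perm (Fin n))))).index := by
  set G := Equiv.Perm (Fin n)
  obtain ⟨⟨x, hxP⟩, hx⟩ : ∃ x : (P : Subgroup G), orderOf x = p := by
    refine exists_prime_orderOf_dvd_card' p (Sylow.dvd_card_of_dvd_card P ?_)
    rw [Nat.card_perm, Nat.card_fin]
    exact Nat.dvd_factorial (Fact.out : p.Prime).pos hpn
  rw [Subgroup.orderOf_mk] at hx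
  obtain ⟨g, hg⟩ : ∃ g : G, g * x * g⁻¹ = x⁻¹ := by
    have : IsConj x x⁻¹ := Equiv.Perm.isConj_iff_cycleType_eq.2 (Equiv.Perm.cycleType_inv x).symm
    exact isConj_iff.1 this
  obtain ⟨c, hc, hcg⟩ := SylAbelian.exists_centralizer_mul_mem_normalizer P hP (Q := {x⁻¹}) (g := g)
    (fun y hy => by rw [Set.mem_singleton_iff.1 hy]; exact inv_mem hxP)
    (fun y hy => by
      rw [Set.mem_singleton_iff.1 hy, ← hg]
      simpa [mul_assoc] using hxP)
  set m := c * g
  have hm : m * x * m⁻¹ = x⁻¹ := by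
    have h1 := Subgroup.mem_centralizer_iff.1 hc x⁻¹ rfl
    calc m * x * m⁻¹ = c * (g * x * g⁻¹) * c⁻¹ := by simp only [m, mul_inv_rev, mul_assoc]
      _ = x⁻¹ := by rw [hg, ← h1, mul_inv_cancel_right]
  set NP := Subgroup.normalizer ((P : Subgroup G) : Set G)
  set C := (Subgroup.centralizer ((P : Subgroup G) : Set G)).subgroupOf NP
  haveI : C.Normal := Subgroup.normal_subgroupOf_centralizer_normalizer _
  by_contra hodd
  have hpow : (⟨m, hcg⟩ : NP) ^ C.index ∈ C := Subgroup.pow_index_mem C _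
  rw [Subgroup.mem_subgroupOf, Subgroup.coe_pow] at hpow
  have key : ∀ k : ℕ, m ^ k * x * (m ^ k)⁻¹ = if Even k then x else x⁻¹ := by
    intro k
    induction k with
    | zero => simp
    | succ k ih =>
      rw [pow_succ', show m * m ^ k * x * (m * m ^ k)⁻¹ = m * (m ^ k * x * (m ^ k)⁻¹) * m⁻¹ by group, ih]
      by_cases hk : Even k
      · rw [if_pos hk, if_neg (by simp [Nat.even_add_one, hk]), hm]
      · rw [if_neg hk, if_pos (by simp [Nat.even_add_one, hk]), ← conj_inv, hm, inv_inv]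
  have h2 := key C.index
  rw [if_neg (fun h => hodd h.two_dvd), ← Subgroup.mem_centralizer_iff.1 hpow x hxP, mul_inv_cancel_right] at h2
  have : orderOf x ∣ 2 := orderOf_dvd_of_pow_eq_one (by rw [pow_two]; nth_rewrite 1 [h2]; exact inv_mul_cancel x)
  rw [hx] at this
  exact hp ((Nat.prime_dvd_prime_iff_eq Fact.out Nat.prime_two).1 this)


end Cfsg.Agent.S2270
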