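import Cfsg.Statements.S2271
-- import your own Cfsg.Agent.* helpers here

set_option autoImplicit false
open Cfsg

namespace Cfsg.Agent.S2271

variable {α : Type*} [Fintype α] [DecidableEq α]

open Equiv Equiv.Perm

/-- Number of arrows of `b` carried by `g` to arrows of `c`. -/
def common (c b g : Perm α) : ℕ := (Finset.univ.filter fun y => g (b y) = c (g y)).card

theorem common_symm (c b g : Perm α) : common b c g⁻¹ = common c b g := by
  refine Finset.card_nbij' (fun x => g⁻¹ x) (fun y => g y) ?_ ?_ ?_ ?_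
  · intro x hx
    simp only [Finset.coe_filter, Finset.mem_univ, true_and, Set.mem_ofPred_eq] at hx ⊢
    have := congrArg g hx
    simp only [Equiv.Perm.coe_inv, Equiv.apply_symm_apply] at this ⊢
    exact this.symm
  · intro y hy
    simp only [Finset.coe_filter, Finset.mem_univ, true_and, Set.mem_ofPred_eq] at hy ⊢
    rw [← hy]; simp
  · intro x _; simp
  · intro y _; simp

theorem common_mul_right (c b g h : Perm α) (hh : h * b = b * h) : common c b (g * h) = common c b g := by
  have e : ∀ y, h (b y) = b (h y) := fun y => congrArg (fun p : Perm α => p y) hh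
  refine Finset.card_nbij' (fun y => h y) (fun y => h⁻¹ y) ?_ ?_ ?_ ?_
  · intro x hx
    simp only [Finset.coe_filter, Finset.mem_univ, true_and, Set.mem_ofPred_eq, Perm.mul_apply, e] at hx ⊢
    exact hx
  · intro x hx
    simp only [Finset.coe_filter, Finset.mem_univ, true_and, Set.mem_ofPred_eq, Perm.mul_apply, e,
      Equiv.Perm.coe_inv, Equiv.apply_symm_apply] at hx ⊢
    simpa using hx
  · intro x _; simp
  · intro y _; simp

theorem common_mul_left (c b g h : Perm α) (hh : h * c = c * h) : common c b (h * g) = common c b g := by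
  have e : ∀ y, c (h y) = h (c y) := fun y => (congrArg (fun p : Perm α => p y) hh).symm
  unfold common
  congr 1
  ext y
  simp [Perm.mul_apply, e]

/-- Flip the parity with an odd permutation commuting with one of the two. -/
theorem even_of_odd_commute {c b g h : Perm α} (hodd : sign h = -1)
    (hh : h * b = b * h ∨ h * c = c * h) {k : ℕ} (hk : k ≤ common c b g) :
    ∃ g' ∈ alternatingGroup α, k ≤ common c b g' := by
  rcases Int.units_eq_one_or (sign g) with hg | hg
  · exact ⟨g, mem_alternatingGroup.2 hg, hk⟩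
  rcases hh with hh | hh
  · exact ⟨g * h, mem_alternatingGroup.2 (by rw [map_mul, hg, hodd]; rfl),
      by rwa [common_mul_right c b g h hh]⟩
  · exact ⟨h * g, mem_alternatingGroup.2 (by rw [map_mul, hg, hodd]; rfl),
      by rwa [common_mul_left c b g h hh]⟩

theorem swap_comm_of_pair {b : Perm α} {p q : α} (hp : b p = p ∨ b p = q) (hq : b q = q ∨ b q = p)
    : Equiv.swap p q * b = b * Equiv.swap p q := by
  have : ({b p, b q} : Set α) = {p, q} ∨ p = q := by
    rcases eq_or_ne p q with h | h
    · exact Or.inr h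
    left
    have hne : b p ≠ b q := fun e => h (b.injective e)
    rcases hp with hp | hp <;> rcases hq with hq | hq <;> rw [hp, hq] at hne ⊢
    · exact absurd rfl hne
    · exact absurd rfl hne
    · exact Set.pair_comm q p
  rcases this with h | h
  · rw [mul_swap_eq_swap_mul]
    rcases (Set.pair_eq_pair_iff.1 h) with ⟨h1, h2⟩ | ⟨h1, h2⟩
    · rw [h1, h2]
    · rw [h1, h2, Equiv.swap_comm]
  · subst h
    rw [Equiv.swap_self]; rfl

theorem exists_perm_extend {m : ℕ} {u v : Fin m → α} (hu : Function.Injective u)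
    (hv : Function.Injective v) : ∃ g : Perm α, ∀ i, g (u i) = v i := by
  classical
  refine ⟨Equiv.extendSubtype
    (p := fun x => x ∈ Set.range u) (q := fun x => x ∈ Set.range v)
    ((Equiv.ofInjective u hu).symm.trans (Equiv.ofInjective v hv)), fun i => ?_⟩
  rw [Equiv.extendSubtype_apply_of_mem _ _ ⟨i, rfl⟩]
  simp

/-- A partial map on few points extends to an even permutation. -/
theorem exists_even_extend {m : ℕ} (hm : m + 2 ≤ Fintype.card α) {u v : Fin m → α}
    (hu : Function.Injective u) (hv : Function.Injective v) :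
    ∃ g ∈ alternatingGroup α, ∀ i, g (u i) = v i := by
  classical
  obtain ⟨g, hg⟩ := exists_perm_extend hu hv
  rcases Int.units_eq_one_or (sign g) with h | h
  · exact ⟨g, mem_alternatingGroup.2 h, hg⟩
  obtain ⟨p, hp, q, hq, hpq⟩ := Finset.one_lt_card.1 (show 1 < (Finset.univ.image u)ᶜ.card by
    rw [Finset.card_compl, Finset.card_image_of_injective _ hu, Finset.card_univ, Fintype.card_fin]
    omega)
  simp only [Finset.mem_compl, Finset.mem_image, Finset.mem_univ, true_and, not_exists] at hp hq
  exact ⟨g * Equiv.swap p q, mem_alternatingGroup.2 (by rw [map_mul, h, sign_swap hpq]; rfl),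
    fun i => by rw [Perm.mul_apply, Equiv.swap_apply_of_ne_of_ne (hp i) (hq i), hg]⟩

theorem le_common {m : ℕ} {c b g : Perm α} {w : Fin m → α} (hw : Function.Injective w)
    (h : ∀ i, g (b (w i)) = c (g (w i))) : m ≤ common c b g := by
  classical
  refine le_trans (le_of_eq ?_) (Finset.card_le_card (s := Finset.univ.image w) ?_)
  · rw [Finset.card_image_of_injective _ hw, Finset.card_univ, Fintype.card_fin]
  · intro y hy
    obtain ⟨i, -, rfl⟩ := Finset.mem_image.1 hy
    simp [h i]

/-- Fixed points of a permutation. -/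
def nfix (c : Perm α) : ℕ := (Finset.univ.filter fun x => c x = x).card

theorem exists_moved {c : Perm α} (hc : c ≠ 1) : ∃ x, c x ≠ x := by
  by_contra h; exact hc (Equiv.ext fun x => not_not.1 fun hx => h ⟨x, hx⟩)

theorem exists_large (h5 : 5 ≤ Fintype.card α) {c b : Perm α} (hc : c ≠ 1) (hb : b ≠ 1)
    (hle : nfix c ≤ nfix b) : ∃ g ∈ alternatingGroup α, nfix c + 1 ≤ common c b g := by
  classical
  obtain ⟨x, hx⟩ := exists_moved hc
  obtain ⟨y, hy⟩ := exists_moved hb
  obtain ⟨F, hF⟩ : ∃ F, nfix c = F := ⟨_, rfl⟩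
  obtain ⟨p⟩ : Nonempty (Fin F ↪ {z // c z = z}) :=
    Function.Embedding.nonempty_of_card_le (by
      rw [Fintype.card_fin, Fintype.card_subtype, ← hF]; rfl)
  obtain ⟨q⟩ : Nonempty (Fin F ↪ {z // b z = z}) :=
    Function.Embedding.nonempty_of_card_le (by
      rw [Fintype.card_fin, Fintype.card_subtype, ← hF]; exact hle)
  have inj : ∀ {d : Perm α} {z : α} (r : Fin F ↪ {w // d w = w}), d z ≠ z →
      Function.Injective (Fin.cons z (Fin.cons (d z) (fun i => (r i).1)) : Fin (F + 2) → α) := by
    intro d z r hz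
    refine Fin.cons_injective_iff.2 ⟨?_, Fin.cons_injective_iff.2 ⟨?_, fun i j e => r.injective (Subtype.ext e)⟩⟩
    · rintro ⟨i, hi⟩
      revert hi
      refine Fin.cases ?_ (fun i => ?_) i
      · exact fun h => hz h
      · intro h
        simp only [Fin.cons_succ] at h
        exact hz (h ▸ (r i).2)
    · rintro ⟨i, hi⟩
      simp only at hi
      have := (r i).2
      rw [hi] at this
      exact hz (d.injective this)
  have main : ∀ g : Perm α,
      (∀ i, g ((Fin.cons y (Fin.cons (b y) (fun i => (q i).1)) : Fin (F + 2) → α) i) =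
        (Fin.cons x (Fin.cons (c x) (fun i => (p i).1)) : Fin (F + 2) → α) i) →
      F + 1 ≤ common c b g := by
    intro g hg
    refine le_common (w := Fin.cons y (fun i => (q i).1))
      (Fin.cons_injective_iff.2 ⟨fun ⟨i, hi⟩ => hy (hi ▸ (q i).2), fun i j e => q.injective (Subtype.ext e)⟩)
      (fun i => ?_)
    have h0 := hg 0
    have h1 := hg (Fin.succ 0)
    simp only [Fin.cons_zero, Fin.cons_succ] at h0 h1
    refine Fin.cases ?_ (fun i => ?_) i
    · simp only [Fin.cons_zero]; rw [h1, h0]
    · have h2 := hg i.succ.succ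
      simp only [Fin.cons_succ] at h2 ⊢
      rw [(q i).2, h2, (p i).2]
  rw [hF]
  by_cases h2 : 2 ≤ F
  · obtain ⟨g, hg⟩ := exists_perm_extend (inj q hy) (inj p hx)
    refine even_of_odd_commute (h := Equiv.swap (p ⟨0, by omega⟩).1 (p ⟨1, h2⟩).1)
      (sign_swap fun e => by
        have := p.injective (Subtype.ext e)
        simp at this) (Or.inr (swap_comm_of_pair (Or.inl (p _).2) (Or.inl (p _).2))) (main g hg)
  · obtain ⟨g, hg', hg⟩ := exists_even_extend (by omega) (inj q hy) (inj p hx)
    exact ⟨g, hg', main g hg⟩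

theorem exists_two (h5 : 5 ≤ Fintype.card α) {c b : Perm α} (hc : nfix c ≤ 1) (hb : nfix b ≤ 1) :
    ∃ g ∈ alternatingGroup α, 2 ≤ common c b g := by
  classical
  have moved : ∀ {d : Perm α}, nfix d ≤ 1 → 4 ≤ (Finset.univ.filter fun z => ¬ d z = z).card := by
    intro d hd
    have := Finset.card_filter_add_card_filter_not (s := (Finset.univ : Finset α)) (fun z => d z = z)
    rw [Finset.card_univ] at this
    unfold nfix at hd
    omega
  by_cases hp : (∃ x, c x ≠ x ∧ c (c x) ≠ x) ∧ (∃ y, b y ≠ y ∧ b (b y) ≠ y)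
  · obtain ⟨⟨x, x1, x2⟩, ⟨y, y1, y2⟩⟩ := hp
    have inj : ∀ {d : Perm α} {z : α}, d z ≠ z → d (d z) ≠ z →
        Function.Injective (![z, d z, d (d z)] : Fin 3 → α) := by
      intro d z h1 h2
      apply List.nodup_ofFn.1
      simp [Ne.symm h1, Ne.symm h2]
    obtain ⟨g, hg', hg⟩ := exists_even_extend (by omega) (inj y1 y2) (inj x1 x2)
    refine ⟨g, hg', le_common (w := ![y, b y]) (List.nodup_ofFn.1 (by simp [Ne.symm y1])) ?_⟩
    have h0 := hg 0; have h1 := hg 1; have h2 := hg 2
    simp at h0 h1 h2
    intro i; fin_cases i <;> simp [h0, h1, h2]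
  · -- one of the two is an involution
    have edges : ∀ {d : Perm α}, nfix d ≤ 1 → ∃ z w, d z ≠ z ∧ d w ≠ w ∧
        Function.Injective (![z, d z, w, d w] : Fin 4 → α) := by
      intro d hd
      obtain ⟨z, hz⟩ : (Finset.univ.filter fun z => ¬ d z = z).Nonempty :=
        Finset.card_pos.1 (by have := moved hd; omega)
      obtain ⟨w, hw, hw'⟩ := Finset.exists_mem_notMem_of_card_lt_card
        (s := ({z, d z, d⁻¹ z} : Finset α)) (t := Finset.univ.filter fun z => ¬ d z = z) (by
          have := moved hd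
          have : ({z, d z, d⁻¹ z} : Finset α).card ≤ 3 := Finset.card_le_three
          omega)
      simp only [Finset.mem_filter, Finset.mem_univ, true_and] at hz hw
      simp only [Finset.mem_insert, Finset.mem_singleton, not_or] at hw'
      obtain ⟨w1, w2, w3⟩ := hw'
      refine ⟨z, w, hz, hw, List.nodup_ofFn.1 ?_⟩
      have e1 : d w ≠ z := fun e => w3 (by rw [← e]; simp)
      have e2 : d z ≠ d w := fun e => w1 (d.injective e).symm
      simp [Ne.symm hz, Ne.symm w1, Ne.symm w2, Ne.symm hw, Ne.symm e1, e2]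
    obtain ⟨x, x', -, -, hxi⟩ := edges hc
    obtain ⟨y, y', -, -, hyi⟩ := edges hb
    obtain ⟨g, hg⟩ := exists_perm_extend hyi hxi
    have hk : 2 ≤ common c b g := by
      refine le_common (w := ![y, y']) (fun i j e => ?_) ?_
      · have h02 : y ≠ y' := fun e' => absurd (@hyi 0 2 (by simpa using e')) (by decide)
        fin_cases i <;> fin_cases j <;> simp at e <;> first | rfl | exact absurd e h02 | exact absurd e.symm h02
      · have h0 := hg 0; have h1 := hg 1; have h2 := hg 2; have h3 := hg 3
        simp at h0 h1 h2 h3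
        intro i; fin_cases i <;> simp [h0, h1, h2, h3]
    have pick : ∀ {d : Perm α}, nfix d ≤ 1 → ∃ z, d z ≠ z := fun {d} hd => by
      obtain ⟨z, hz⟩ : (Finset.univ.filter fun z => ¬ d z = z).Nonempty :=
        Finset.card_pos.1 (by have := moved hd; omega)
      exact ⟨z, (Finset.mem_filter.1 hz).2⟩
    rcases not_and_or.1 hp with h | h
    · simp only [not_exists, not_and, not_not] at h
      obtain ⟨z, hz⟩ := pick hc
      exact even_of_odd_commute (h := Equiv.swap z (c z)) (sign_swap (Ne.symm hz))
        (Or.inr (swap_comm_of_pair (Or.inr rfl) (Or.inr (h z hz)))) hk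
    · simp only [not_exists, not_and, not_not] at h
      obtain ⟨z, hz⟩ := pick hb
      exact even_of_odd_commute (h := Equiv.swap z (b z)) (sign_swap (Ne.symm hz))
        (Or.inl (swap_comm_of_pair (Or.inr rfl) (Or.inr (h z hz)))) hk

theorem sum_common (h5 : 5 ≤ Fintype.card α) (c b : Perm α) [DecidablePred (· ∈ alternatingGroup α)] :
    Fintype.card α * (Fintype.card α - 1) *
        (∑ g ∈ Finset.univ.filter (· ∈ alternatingGroup α), common c b g) =
      (Finset.univ.filter (· ∈ alternatingGroup α)).card *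
        ((Fintype.card α - 1) * (nfix c * nfix b) +
          (Fintype.card α - nfix c) * (Fintype.card α - nfix b)) := by
  classical
  set A := Finset.univ.filter (· ∈ alternatingGroup α) with hA
  set n := Fintype.card α with hn
  let K : α → α → α → α → ℕ := fun y y' x x' => (A.filter fun g => g y = x ∧ g y' = x').card
  have trans : ∀ y y' z z' : α, (y = y' ↔ z = z') → ∃ h ∈ alternatingGroup α, h y = z ∧ h y' = z' := by
    intro y y' z z' hiff
    rcases eq_or_ne y y' with rfl | hne
    · obtain ⟨h, hh, e⟩ := exists_even_extend (m := 1) (u := fun _ => y) (v := fun _ => z) (by omega)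
        (fun i j _ => Subsingleton.elim i j) (fun i j _ => Subsingleton.elim i j)
      exact ⟨h, hh, e 0, (e 0).trans (hiff.1 rfl)⟩
    · obtain ⟨h, hh, e⟩ := exists_even_extend (m := 2) (u := ![y, y']) (v := ![z, z']) (by omega)
        (List.nodup_ofFn.1 (by simp [hne]))
        (List.nodup_ofFn.1 (by simp; exact fun e => hne (hiff.2 e)))
      exact ⟨h, hh, by simpa using e 0, by simpa using e 1⟩
  have Kconst : ∀ y y' x x' z z' : α, (x = x' ↔ z = z') → K y y' x x' ≤ K y y' z z' := by
    intro y y' x x' z z' hiff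
    obtain ⟨h, hh, e, e'⟩ := trans x x' z z' hiff
    refine Finset.card_le_card_of_injOn (fun g => h * g) (fun g hg => ?_) (fun g _ g' _ e => mul_left_cancel e)
    obtain ⟨hgA, g1, g2⟩ := Finset.mem_filter.1 hg
    exact Finset.mem_filter.2 ⟨Finset.mem_filter.2 ⟨Finset.mem_univ _,
      Subgroup.mul_mem _ hh (Finset.mem_filter.1 hgA).2⟩, by simp [g1, e], by simp [g2, e']⟩
  have Kval : ∀ y y' x x' : α, (y = y' ↔ x = x') →
      (if y = y' then n else n * (n - 1)) * K y y' x x' = A.card := by
    intro y y' x x' hiff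
    let S : Finset (α × α) := if y = y' then Finset.univ.diag else Finset.univ.offDiag
    have hS : ∀ p, p ∈ S ↔ (p.1 = p.2 ↔ y = y') := by
      intro p; by_cases h : y = y' <;> simp [S, h]
    have hcardS : S.card = if y = y' then n else n * (n - 1) := by
      by_cases h : y = y' <;> simp [S, h, Finset.offDiag_card, Nat.mul_sub_one, hn]
    rw [← hcardS, ← Finset.sum_const_nat (f := fun p => K y y' p.1 p.2) (s := S) (fun p hp => by
      have h1 := (hS p).1 hp
      exact le_antisymm (Kconst _ _ _ _ _ _ (h1.trans hiff)) (Kconst _ _ _ _ _ _ (h1.trans hiff).symm))]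
    refine (Finset.card_eq_sum_card_fiberwise (f := fun g : Perm α => (g y, g y')) (s := A) (t := S)
      (fun g _ => (hS _).2 ⟨fun e => g.injective e, fun e => congrArg g e⟩)).trans
      (Finset.sum_congr rfl fun p _ => ?_) |>.symm
    congr 1
    ext g
    simp [Prod.ext_iff]
  have hsum : ∑ g ∈ A, common c b g = ∑ y, ∑ x, K y (b y) x (c x) := by
    simp only [common, K, Finset.card_filter]
    rw [Finset.sum_comm]
    refine Finset.sum_congr rfl fun y _ => ?_
    rw [Finset.sum_comm]
    refine Finset.sum_congr rfl fun g _ => ?_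
    rw [Finset.sum_eq_single (g y) (fun x _ hx => by simp [Ne.symm hx]) (by simp)]
    simp
  rw [hsum, Finset.mul_sum]
  have hy : ∀ y, n * (n - 1) * ∑ x, K y (b y) x (c x) =
      A.card * (if b y = y then (n - 1) * nfix c else n - nfix c) := by
    intro y
    have hcompl : (Finset.univ.filter fun x => ¬ c x = x).card = n - nfix c := by
      have := Finset.card_filter_add_card_filter_not (s := (Finset.univ : Finset α)) (fun z => c z = z)
      rw [Finset.card_univ] at this
      unfold nfix
      omega
    have hzero : ∀ x, ¬ (y = b y ↔ x = c x) → K y (b y) x (c x) = 0 := by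
      intro x hne
      refine Finset.card_eq_zero.2 (Finset.filter_eq_empty_iff.2 fun g _ hg => hne ?_)
      exact ⟨fun e => hg.1.symm.trans ((congrArg g e).trans hg.2),
        fun e => g.injective (hg.1.trans (e.trans hg.2.symm))⟩
    rw [Finset.mul_sum]
    by_cases h : b y = y
    · rw [if_pos h]
      calc ∑ x, n * (n - 1) * K y (b y) x (c x)
          = ∑ x, if c x = x then A.card * (n - 1) else 0 := Finset.sum_congr rfl fun x _ => by
            by_cases hx : c x = x
            · rw [if_pos hx]
              have hk := Kval y (b y) x (c x) (by simp [h, hx])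
              rw [if_pos h.symm] at hk
              rw [← hk]; ring
            · rw [if_neg hx, hzero x (by simp [h, Ne.symm hx]), mul_zero]
        _ = (Finset.univ.filter fun x => c x = x).card * (A.card * (n - 1)) := by
            rw [← Finset.sum_filter, Finset.sum_const, smul_eq_mul]
        _ = _ := by rw [nfix]; ring
    · rw [if_neg h]
      calc ∑ x, n * (n - 1) * K y (b y) x (c x)
          = ∑ x, if ¬ c x = x then A.card else 0 := Finset.sum_congr rfl fun x _ => by
            by_cases hx : c x = x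
            · rw [if_neg (not_not.2 hx), hzero x (by simp [Ne.symm h, hx]), mul_zero]
            · rw [if_pos hx]
              have hk := Kval y (b y) x (c x) (by simp [Ne.symm h, Ne.symm hx])
              rw [if_neg (Ne.symm h)] at hk
              exact hk
        _ = (Finset.univ.filter fun x => ¬ c x = x).card * A.card := by
            rw [← Finset.sum_filter, Finset.sum_const, smul_eq_mul]
        _ = _ := by rw [hcompl]; ring
  rw [Finset.sum_congr rfl fun y _ => hy y, ← Finset.mul_sum]
  congr 1
  rw [← Finset.sum_filter_add_sum_filter_not Finset.univ (fun y => b y = y),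
    Finset.sum_congr rfl (fun y hy => if_pos (Finset.mem_filter.1 hy).2),
    Finset.sum_congr rfl (fun y hy => if_neg (Finset.mem_filter.1 hy).2), Finset.sum_const,
    Finset.sum_const, smul_eq_mul, smul_eq_mul]
  have hb' : (Finset.univ.filter fun x => ¬ b x = x).card = n - nfix b := by
    have := Finset.card_filter_add_card_filter_not (s := (Finset.univ : Finset α)) (fun z => b z = z)
    rw [Finset.card_univ] at this
    unfold nfix
    omega
  rw [hb', show (Finset.univ.filter fun y => b y = y).card = nfix b from rfl]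
  ring

theorem not_constant (h5 : 5 ≤ Fintype.card α) {c b : Perm α} (hc : c ≠ 1) (hb : b ≠ 1)
    (hle : nfix c ≤ nfix b) :
    ∃ g ∈ alternatingGroup α, ∃ h ∈ alternatingGroup α, common c b g ≠ common c b h := by
  classical
  by_contra hcon
  simp only [not_exists, not_and, not_not] at hcon
  obtain ⟨g, hg, hbig⟩ := exists_large h5 hc hb hle
  have hs := sum_common h5 c b
  set A := Finset.univ.filter (· ∈ alternatingGroup α) with hA
  rw [Finset.sum_const_nat (fun h hh => hcon h (Finset.mem_filter.1 hh).2 g hg)] at hs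
  have hA0 : 0 < A.card := Finset.card_pos.2 ⟨g, Finset.mem_filter.2 ⟨Finset.mem_univ _, hg⟩⟩
  have hbn : nfix b ≤ Fintype.card α - 1 := by
    obtain ⟨y, hy⟩ := exists_moved hb
    have : (Finset.univ.filter fun x => b x = x) ⊆ Finset.univ.erase y := fun z hz =>
      Finset.mem_erase.2 ⟨fun e => hy (e ▸ (Finset.mem_filter.1 hz).2), Finset.mem_univ _⟩
    have := Finset.card_le_card this
    rwa [Finset.card_erase_of_mem (Finset.mem_univ _), Finset.card_univ] at this
  have hk : Fintype.card α * (Fintype.card α - 1) * common c b g =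
      (Fintype.card α - 1) * (nfix c * nfix b) +
        (Fintype.card α - nfix c) * (Fintype.card α - nfix b) :=
    Nat.eq_of_mul_eq_mul_left hA0 (by rw [← hs]; ring)
  obtain ⟨k, hk0⟩ : ∃ k, common c b g = k := ⟨_, rfl⟩
  obtain ⟨F, hF0⟩ : ∃ F, nfix c = F := ⟨_, rfl⟩
  obtain ⟨Φ, hP0⟩ : ∃ Φ, nfix b = Φ := ⟨_, rfl⟩
  obtain ⟨n, hn0⟩ : ∃ n, Fintype.card α = n := ⟨_, rfl⟩
  rw [hk0, hF0, hP0, hn0] at hk
  rw [hk0, hF0] at hbig
  rw [hF0, hP0] at hle
  rw [hP0, hn0] at hbn
  rw [hn0] at h5
  obtain ⟨m, rfl⟩ : ∃ m, n = m + 1 := ⟨n - 1, by omega⟩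
  simp only [Nat.add_sub_cancel] at hk hbn
  zify [show F ≤ m + 1 by omega, show Φ ≤ m + 1 by omega] at hk hle hbn hbig h5
  by_cases h2 : F = 0 ∧ Φ ≤ 1
  · obtain ⟨rfl, hΦ⟩ := h2
    obtain ⟨g', hg', h2'⟩ := exists_two (by omega : 5 ≤ Fintype.card α) (c := c) (b := b)
      (by omega) (by omega)
    rw [hcon g' hg' g hg, hk0] at h2'
    zify at h2'
    interval_cases Φ <;> push_cast at hk <;>
      nlinarith [mul_le_mul_of_nonneg_left h2' (by positivity : (0 : ℤ) ≤ (↑m + 1) * ↑m),
        mul_nonneg (sub_nonneg.2 h5) (by positivity : (0 : ℤ) ≤ (↑m + 1))]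
  · rcases Nat.eq_zero_or_pos F with rfl | hF
    · have : 2 ≤ Φ := by omega
      zify at this
      push_cast at hk hbig
      nlinarith [mul_le_mul_of_nonneg_left hbig (by positivity : (0 : ℤ) ≤ (↑m + 1) * ↑m),
        mul_le_mul_of_nonneg_left this (by positivity : (0 : ℤ) ≤ (↑m + 1))]
    · zify at hF
      have hP1 : (1 : ℤ) ≤ Φ := by linarith
      have e1 := mul_le_mul_of_nonneg_left hbig (by positivity : (0 : ℤ) ≤ (↑m + 1) * ↑m)
      have e2 := mul_le_mul (show (↑m : ℤ) + 1 - F ≤ m by linarith) (show (↑m : ℤ) + 1 - Φ ≤ m by linarith)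
        (by linarith) (by linarith)
      have e3 := mul_nonneg (mul_nonneg (show (0 : ℤ) ≤ m by linarith) hF.le)
        (show (0 : ℤ) ≤ ↑m + 1 - Φ by linarith)
      nlinarith

/-- Let n ≥ 5 and let a, b be non-identity permutations in the symmetric group S_n. Then the number of fixed points is not constant on the set of products a′b′ with a′ conjugate to a and b′ conjugate to b under the alternating group: there are even permutations g₁, h₁, g₂, h₂ such that (g₁ a g₁⁻¹)(h₁ b h₁⁻¹) and (g₂ a g₂⁻¹)(h₂ b h₂⁻¹) have different numbers of fixed points. -/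
theorem result (n : ℕ) (hn : 5 ≤ n) (a b : Equiv.Perm (Fin n)) (ha : a ≠ 1) (hb : b ≠ 1) :
    ∃ g₁ h₁ g₂ h₂ : Equiv.Perm (Fin n), g₁ ∈ alternatingGroup (Fin n) ∧ h₁ ∈ alternatingGroup (Fin n) ∧ g₂ ∈ alternatingGroup (Fin n) ∧ h₂ ∈ alternatingGroup (Fin n) ∧
      Nat.card (Function.fixedPoints ⇑(g₁ * a * g₁⁻¹ * (h₁ * b * h₁⁻¹))) ≠
        Nat.card (Function.fixedPoints ⇑(g₂ * a * g₂⁻¹ * (h₂ * b * h₂⁻¹))) := by
  classical
  have hfix : ∀ g : Equiv.Perm (Fin n),
      Nat.card (Function.fixedPoints ⇑(1 * a * (1 : Equiv.Perm (Fin n))⁻¹ * (g * b * g⁻¹))) =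
        common a⁻¹ b g := by
    intro g
    unfold common
    rw [← Fintype.card_subtype, ← Nat.card_eq_fintype_card]
    refine Nat.card_congr ((Equiv.subtypeEquiv g fun y => ?_).symm)
    simp [Function.mem_fixedPoints, Function.IsFixedPt, Equiv.eq_symm_apply]
  have ha' : a⁻¹ ≠ 1 := inv_ne_one.2 ha
  have h5 : 5 ≤ Fintype.card (Fin n) := by rwa [Fintype.card_fin]
  obtain ⟨g, hg, h, hh, hne⟩ : ∃ g ∈ alternatingGroup (Fin n), ∃ h ∈ alternatingGroup (Fin n),
      common a⁻¹ b g ≠ common a⁻¹ b h := by
    rcases le_total (nfix a⁻¹) (nfix b) with hle | hle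
    · exact not_constant h5 ha' hb hle
    · obtain ⟨g, hg, h, hh, hne⟩ := not_constant h5 hb ha' hle
      exact ⟨g⁻¹, inv_mem hg, h⁻¹, inv_mem hh, by rwa [common_symm, common_symm]⟩
  exact ⟨1, g, 1, h, one_mem _, hg, one_mem _, hh, by rwa [hfix, hfix]⟩

end Cfsg.Agent.S2271
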