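import Cfsg.Statements.S2272
-- import your own Cfsg.Agent.* helpers here

set_option autoImplicit false
open Cfsg

namespace Cfsg.Agent.S2272

open Matrix

variable {F : Type*} [Field F] {d : ℕ}

theorem exists_rows {k : ℕ} (v : Fin k → Fin d → F) (hv : LinearIndependent F v) :
    ∃ P : Matrix (Fin d) (Fin d) F, P.det ≠ 0 ∧ ∀ i : Fin k, ∀ j : Fin d, j.val = i.val → P j = v i := by
  classical
  let b := Module.Basis.sumExtend hv
  haveI : Fintype (Fin k ⊕ _) := FiniteDimensional.fintypeBasisIndex b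
  haveI := Fintype.sumRight (α := Fin k) (β := Module.Basis.sumExtendIndex hv)
  have hcard : k + Fintype.card (Module.Basis.sumExtendIndex hv) = d := by
    have := Module.finrank_eq_card_basis b
    rw [Module.finrank_fin_fun] at this
    rw [← Nat.card_eq_fintype_card, Nat.card_sum, Nat.card_eq_fintype_card, Fintype.card_fin,
      Nat.card_eq_fintype_card] at this
    exact this.symm
  let e : Fin k ⊕ _ ≃ Fin d :=
    (Equiv.sumCongr (Equiv.refl (Fin k)) (Fintype.equivFin (Module.Basis.sumExtendIndex hv))).trans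
      (finSumFinEquiv.trans (finCongr hcard))
  refine ⟨Matrix.of fun j => b (e.symm j), ?_, fun i j hij => ?_⟩
  · rw [← isUnit_iff_ne_zero, ← Matrix.isUnit_iff_isUnit_det, ← Matrix.linearIndependent_rows_iff_isUnit]
    exact b.linearIndependent.comp e.symm e.symm.injective
  · have : j = e (Sum.inl i) := Fin.ext (by simp [e, hij])
    show b (e.symm j) = v i
    rw [this, Equiv.symm_apply_apply]
    simp [b, Module.Basis.sumExtend, Trans.trans]
    rfl

theorem exists_rows_SL (hd : 3 ≤ d) (v : Fin 2 → Fin d → F) (hv : LinearIndependent F v) :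
    ∃ P : Matrix.SpecialLinearGroup (Fin d) F,
      Pi.single ⟨0, by omega⟩ 1 ᵥ* (P : Matrix (Fin d) (Fin d) F) = v 0 ∧
        Pi.single ⟨1, by omega⟩ 1 ᵥ* (P : Matrix (Fin d) (Fin d) F) = v 1 := by
  obtain ⟨P, hP, hrow⟩ := exists_rows v hv
  refine ⟨⟨P.updateRow ⟨2, by omega⟩ (P.det⁻¹ • P ⟨2, by omega⟩), ?_⟩, ?_, ?_⟩
  · rw [Matrix.det_updateRow_smul, Matrix.updateRow_eq_self, inv_mul_cancel₀ hP]
  all_goals
    rw [Matrix.single_one_vecMul]
    show P.updateRow _ _ _ = _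
    rw [Matrix.updateRow_ne (by simp [Fin.ext_iff])]
  · exact hrow 0 _ rfl
  · exact hrow 1 _ rfl

theorem exists_noneigen (M : Matrix (Fin d) (Fin d) F) (hM : ∀ r : F, M ≠ Matrix.scalar (Fin d) r) :
    ∃ φ : Fin d → F, LinearIndependent F ![φ, φ ᵥ* M] := by
  classical
  by_contra hc
  push Not at hc
  have h : ∀ φ : Fin d → F, φ ≠ 0 → ∃ a : F, a • φ = φ ᵥ* M := by
    intro φ hφ
    have := hc φ
    rw [LinearIndependent.pair_iff] at this
    push Not at this
    obtain ⟨s, t, hst, hne⟩ := this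
    have ht : t ≠ 0 := fun ht => by
      rw [ht, zero_smul, add_zero, smul_eq_zero] at hst
      exact hne (hst.resolve_right hφ) ht
    refine ⟨-t⁻¹ * s, ?_⟩
    rw [← smul_smul, eq_neg_of_add_eq_zero_left hst, smul_neg, smul_smul, neg_mul, inv_mul_cancel₀ ht]
    simp
  choose! a ha using h
  rcases isEmpty_or_nonempty (Fin d) with he | ⟨⟨i0⟩⟩
  · exact hM 1 (Matrix.ext fun i => isEmptyElim i)
  have hne : ∀ i : Fin d, (Pi.single i 1 : Fin d → F) ≠ 0 := fun i h => by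
    have := congrFun h i; simp at this
  have hdiag : ∀ i j, M i j = if i = j then a (Pi.single i 1) else 0 := by
    intro i j
    have := congrFun (ha _ (hne i)) j
    rw [Matrix.single_one_vecMul] at this
    rw [show M i j = M.row i j from rfl, ← this]
    by_cases h : i = j
    · subst h; simp
    · simp [h, Ne.symm h]
  refine hM (a (Pi.single i0 1)) (Matrix.ext fun i j => ?_)
  rw [hdiag, Matrix.scalar_apply, Matrix.diagonal_apply]
  split_ifs with h
  swap
  · rfl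
  by_cases hi : i = i0
  · rw [hi]
  have hsum : (Pi.single i 1 + Pi.single i0 1 : Fin d → F) ≠ 0 := fun h0 => by
    have := congrFun h0 i; simp [hi] at this
  have h1 := congrFun (ha _ hsum) i
  have h2 := congrFun (ha _ hsum) i0
  rw [Matrix.add_vecMul, Matrix.single_one_vecMul, Matrix.single_one_vecMul] at h1 h2
  simp [show M.row i i = M i i from rfl, show M.row i0 i = M i0 i from rfl, show M.row i i0 = M i i0 from rfl,
    show M.row i0 i0 = M i0 i0 from rfl, hdiag, hi, Ne.symm hi] at h1 h2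
  rw [← h1, ← h2]

theorem conj_scalar {C M N : Matrix.SpecialLinearGroup (Fin d) F}
    (h : IsConj (QuotientGroup.mk M : Matrix.ProjectiveSpecialLinearGroup (Fin d) F) (QuotientGroup.mk N))
    (hM : (M : Matrix (Fin d) (Fin d) F).trace = 0) : (N : Matrix (Fin d) (Fin d) F).trace = 0 := by
  obtain ⟨g, hg⟩ := isConj_iff.1 h
  obtain ⟨D, rfl⟩ := QuotientGroup.mk_surjective g
  rw [← QuotientGroup.mk_inv, ← QuotientGroup.mk_mul, ← QuotientGroup.mk_mul, QuotientGroup.eq] at hg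
  obtain ⟨r, -, hr⟩ := Matrix.SpecialLinearGroup.mem_center_iff.1 hg
  have e : (N : Matrix (Fin d) (Fin d) F) =
      ((D * M * D⁻¹ : Matrix.SpecialLinearGroup (Fin d) F) : Matrix (Fin d) (Fin d) F) * Matrix.scalar (Fin d) r := by
    rw [hr, ← Matrix.SpecialLinearGroup.coe_mul]
    exact congrArg (fun X : Matrix.SpecialLinearGroup (Fin d) F => (X : Matrix (Fin d) (Fin d) F)) (mul_inv_cancel_left _ _).symm
  rw [e, Matrix.scalar_apply, ← Matrix.smul_one_eq_diagonal, Matrix.mul_smul, mul_one, Matrix.trace_smul,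
    Matrix.SpecialLinearGroup.coe_mul, Matrix.SpecialLinearGroup.coe_mul, Matrix.trace_mul_cycle,
    ← Matrix.SpecialLinearGroup.coe_mul, inv_mul_cancel, Matrix.SpecialLinearGroup.coe_one, one_mul, hM, smul_zero]

theorem trace_vecMulVec' (u v : Fin d → F) : (Matrix.vecMulVec u v).trace = u ⬝ᵥ v := by
  simp [Matrix.trace, Matrix.vecMulVec_apply, dotProduct]

/-- Let F be a finite field and d ≥ 3, and let a, b be non-identity elements of PSL_d(F). Then the product of the conjugacy classes of a and b is not a single conjugacy class: there are conjugates a′ of a and b′ of b such that a′b′ is not conjugate to ab. -/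
theorem result {F : Type*} [Field F] [Fintype F] (d : ℕ) (hd : 3 ≤ d)
    (a b : Matrix.ProjectiveSpecialLinearGroup (Fin d) F) (ha : a ≠ 1) (hb : b ≠ 1) :
    ∃ g h : Matrix.ProjectiveSpecialLinearGroup (Fin d) F, ¬ IsConj (a * b) (g * a * g⁻¹ * (h * b * h⁻¹)) := by
  classical
  obtain ⟨A, rfl⟩ := QuotientGroup.mk_surjective a
  obtain ⟨B, rfl⟩ := QuotientGroup.mk_surjective b
  have hns : ∀ M : Matrix.SpecialLinearGroup (Fin d) F, (QuotientGroup.mk M : Matrix.ProjectiveSpecialLinearGroup (Fin d) F) ≠ 1 →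
      ∀ r : F, (M : Matrix (Fin d) (Fin d) F) ≠ Matrix.scalar (Fin d) r := fun M hM r hr => by
    refine hM ((QuotientGroup.eq_one_iff _).2 (Matrix.SpecialLinearGroup.mem_center_iff.2 ⟨r, ?_, hr.symm⟩))
    have := M.det_coe
    rw [hr, Matrix.scalar_apply, Matrix.det_diagonal, Finset.prod_const, Finset.card_univ] at this
    exact this
  obtain ⟨φ, hφ⟩ := exists_noneigen _ (hns A ha)
  obtain ⟨ψ, hψ⟩ := exists_noneigen _ (hns B hb)
  obtain ⟨P3, hP3, hrow3⟩ := exists_rows _ hφ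
  obtain ⟨w, hw⟩ : ∃ w : Fin d → F, w = P3 ⟨2, by omega⟩ := ⟨_, rfl⟩
  have hli : LinearIndependent F P3 := by
    have := (Matrix.linearIndependent_rows_iff_isUnit (A := P3)).2
      ((Matrix.isUnit_iff_isUnit_det _).2 (isUnit_iff_ne_zero.2 hP3))
    exact this
  have hφw : LinearIndependent F ![φ, w] := by
    have h := hli.comp (![(⟨0, by omega⟩ : Fin d), ⟨2, by omega⟩]) (fun i j h => by
      fin_cases i <;> fin_cases j <;> simp_all [Fin.ext_iff])
    convert h using 1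
    funext i
    fin_cases i
    · exact (hrow3 0 ⟨0, by omega⟩ rfl).symm
    · exact hw
  obtain ⟨Q1, q10, q11⟩ := exists_rows_SL hd _ hφw
  obtain ⟨Q2, q20, q21⟩ := exists_rows_SL hd _ hψ
  obtain ⟨C, hC⟩ : ∃ C, C = Q1⁻¹ * Q2 := ⟨_, rfl⟩
  obtain ⟨B', hB'⟩ : ∃ B', B' = C * B * C⁻¹ := ⟨_, rfl⟩
  simp only [Matrix.cons_val_zero, Matrix.cons_val_one, Matrix.head_cons] at q10 q11 q20 q21
  have hφB : φ ᵥ* (B' : Matrix (Fin d) (Fin d) F) = w := by
    rw [hB', hC, ← q10, Matrix.vecMul_vecMul, ← Matrix.SpecialLinearGroup.coe_mul,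
      show Q1 * (Q1⁻¹ * Q2 * B * (Q1⁻¹ * Q2)⁻¹) = Q2 * B * (Q2⁻¹ * Q1) by group,
      Matrix.SpecialLinearGroup.coe_mul, ← Matrix.vecMul_vecMul, Matrix.SpecialLinearGroup.coe_mul,
      ← Matrix.vecMul_vecMul, q20, ← q21, Matrix.vecMul_vecMul, ← Matrix.SpecialLinearGroup.coe_mul, mul_inv_cancel_left,
      q11]
  -- the test function
  have hu : ∀ x y : F, ∃ u : Fin d → F, φ ⬝ᵥ u = 0 ∧ (φ ᵥ* (A : Matrix (Fin d) (Fin d) F)) ⬝ᵥ u = x ∧
      w ⬝ᵥ u = y ∧ u = P3⁻¹ *ᵥ (x • Pi.single ⟨1, by omega⟩ 1 + y • Pi.single ⟨2, by omega⟩ 1) := by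
    intro x y
    refine ⟨_, ?_, ?_, ?_, rfl⟩
    all_goals
      first
      | rw [show φ = P3 ⟨0, by omega⟩ from (hrow3 0 _ rfl).symm]
      | skip
    · show (P3 *ᵥ (P3⁻¹ *ᵥ _)) ⟨0, by omega⟩ = 0
      rw [Matrix.mulVec_mulVec, Matrix.mul_nonsing_inv _ (isUnit_iff_ne_zero.2 hP3), Matrix.one_mulVec]
      simp [Pi.single_apply, Fin.ext_iff]
    · rw [show P3 ⟨0, by omega⟩ = φ from hrow3 0 _ rfl,
        show φ ᵥ* (A : Matrix (Fin d) (Fin d) F) = P3 ⟨1, by omega⟩ from (hrow3 1 _ rfl).symm]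
      show (P3 *ᵥ (P3⁻¹ *ᵥ _)) ⟨1, by omega⟩ = x
      rw [Matrix.mulVec_mulVec, Matrix.mul_nonsing_inv _ (isUnit_iff_ne_zero.2 hP3), Matrix.one_mulVec]
      simp [Pi.single_apply, Fin.ext_iff]
    · rw [hw]
      show (P3 *ᵥ (P3⁻¹ *ᵥ _)) ⟨2, by omega⟩ = y
      rw [Matrix.mulVec_mulVec, Matrix.mul_nonsing_inv _ (isUnit_iff_ne_zero.2 hP3), Matrix.one_mulVec]
      simp [Pi.single_apply, Fin.ext_iff]
  obtain ⟨z, hz⟩ : ∃ z : Fin d → F, z =
      φ ᵥ* ((B' : Matrix (Fin d) (Fin d) F) * (A : Matrix (Fin d) (Fin d) F)) - φ ᵥ* ((A : Matrix (Fin d) (Fin d) F) * (B' : Matrix (Fin d) (Fin d) F)) := ⟨_, rfl⟩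
  obtain ⟨α, hα⟩ : ∃ α, α = z ⬝ᵥ (P3⁻¹ *ᵥ Pi.single ⟨1, by omega⟩ 1) := ⟨_, rfl⟩
  obtain ⟨β, hβ⟩ : ∃ β, β = z ⬝ᵥ (P3⁻¹ *ᵥ Pi.single ⟨2, by omega⟩ 1) := ⟨_, rfl⟩
  have hval : ∀ x y : F, ∃ D : Matrix.SpecialLinearGroup (Fin d) F,
      ((A * (D * B' * D⁻¹) : Matrix.SpecialLinearGroup (Fin d) F) : Matrix (Fin d) (Fin d) F).trace =
        ((A : Matrix (Fin d) (Fin d) F) * (B' : Matrix (Fin d) (Fin d) F)).trace + α * x + β * y - x * y := by
    intro x y
    obtain ⟨u, h0, hx, hy, hueq⟩ := hu x y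
    have hdet : (1 + Matrix.vecMulVec u φ).det = 1 := by
      rw [Matrix.vecMulVec_eq Unit, Matrix.det_one_add_replicateCol_mul_replicateRow, h0, add_zero]
    obtain ⟨D, hD⟩ : ∃ D : Matrix.SpecialLinearGroup (Fin d) F, D = ⟨1 + Matrix.vecMulVec u φ, hdet⟩ := ⟨_, rfl⟩
    refine ⟨D, ?_⟩
    have hDc : (D : Matrix (Fin d) (Fin d) F) = 1 + Matrix.vecMulVec u φ := by rw [hD]
    have hinv : ((D⁻¹ : Matrix.SpecialLinearGroup (Fin d) F) : Matrix (Fin d) (Fin d) F) = 1 - Matrix.vecMulVec u φ := by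
      have h1 : (1 - Matrix.vecMulVec u φ) * (D : Matrix (Fin d) (Fin d) F) = 1 := by
        rw [hDc, sub_mul, one_mul, mul_add, mul_one, Matrix.vecMulVec_mul_vecMulVec, h0, zero_smul]
        simp
      calc ((D⁻¹ : Matrix.SpecialLinearGroup (Fin d) F) : Matrix (Fin d) (Fin d) F)
          = (1 - Matrix.vecMulVec u φ) * ((D * D⁻¹ : Matrix.SpecialLinearGroup (Fin d) F) : Matrix (Fin d) (Fin d) F) := by
            rw [Matrix.SpecialLinearGroup.coe_mul, ← mul_assoc, h1, one_mul]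
        _ = _ := by rw [mul_inv_cancel, Matrix.SpecialLinearGroup.coe_one, mul_one]
    rw [Matrix.SpecialLinearGroup.coe_mul, Matrix.SpecialLinearGroup.coe_mul, Matrix.SpecialLinearGroup.coe_mul, hDc, hinv]
    obtain ⟨MA, hMA⟩ : ∃ MA, MA = (A : Matrix (Fin d) (Fin d) F) := ⟨_, rfl⟩
    obtain ⟨MB, hMB⟩ : ∃ MB, MB = (B' : Matrix (Fin d) (Fin d) F) := ⟨_, rfl⟩
    rw [← hMA, ← hMB] at hz ⊢
    rw [← hMA] at hx
    rw [← hMB] at hφB
    have hzu : z ⬝ᵥ u = α * x + β * y := by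
      rw [hueq, Matrix.mulVec_add, Matrix.mulVec_smul, Matrix.mulVec_smul, dotProduct_add, dotProduct_smul,
        dotProduct_smul, ← hα, ← hβ, smul_eq_mul, smul_eq_mul]
      ring
    have e : MA * ((1 + Matrix.vecMulVec u φ) * MB * (1 - Matrix.vecMulVec u φ)) =
        MA * MB + Matrix.vecMulVec (MA *ᵥ u) (φ ᵥ* MB) - Matrix.vecMulVec ((MA * MB) *ᵥ u) φ
          - Matrix.vecMulVec (MA *ᵥ u) (φ ᵥ* MB) * Matrix.vecMulVec u φ := by
      rw [← Matrix.mul_vecMulVec, ← Matrix.vecMulVec_mul, ← Matrix.mul_vecMulVec]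
      noncomm_ring
    rw [e, Matrix.vecMulVec_mul_vecMulVec, hφB, Matrix.trace_sub, Matrix.trace_sub, Matrix.trace_add,
      Matrix.vecMulVec_smul, Matrix.trace_smul, trace_vecMulVec', trace_vecMulVec', trace_vecMulVec', dotProduct_comm (MA *ᵥ u) w,
      Matrix.dotProduct_mulVec, dotProduct_comm ((MA * MB) *ᵥ u), Matrix.dotProduct_mulVec, dotProduct_comm (MA *ᵥ u) φ,
      Matrix.dotProduct_mulVec, hx, hy, smul_eq_mul]
    rw [hz, sub_dotProduct, ← Matrix.vecMul_vecMul, hφB] at hzu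
    linear_combination hzu
  obtain ⟨t, ht⟩ : ∃ t, t = ((A : Matrix (Fin d) (Fin d) F) * (B' : Matrix (Fin d) (Fin d) F)).trace := ⟨_, rfl⟩
  rw [← ht] at hval
  by_contra hall
  push Not at hall
  have hconj : ∀ D : Matrix.SpecialLinearGroup (Fin d) F,
      IsConj (QuotientGroup.mk A * QuotientGroup.mk B : Matrix.ProjectiveSpecialLinearGroup (Fin d) F)
        (QuotientGroup.mk (A * (D * B' * D⁻¹))) := fun D => by
    have := hall 1 (QuotientGroup.mk (D * C))
    rw [one_mul, inv_one, mul_one, ← QuotientGroup.mk_inv, ← QuotientGroup.mk_mul, ← QuotientGroup.mk_mul,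
      ← QuotientGroup.mk_mul, ← QuotientGroup.mk_mul] at this
    rw [hB', ← QuotientGroup.mk_mul, show D * (C * B * C⁻¹) * D⁻¹ = D * C * B * (D * C)⁻¹ by group]
    exact this
  obtain ⟨D0, hD0⟩ := hval (β + 1) (t + α * (β + 1))
  have h0 : ((A * (D0 * B' * D0⁻¹) : Matrix.SpecialLinearGroup (Fin d) F) : Matrix (Fin d) (Fin d) F).trace = 0 := by
    rw [hD0]; ring
  have hzero : ∀ x y : F, t + α * x + β * y - x * y = 0 := fun x y => by
    obtain ⟨D, hD⟩ := hval x y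
    rw [← hD]
    exact conj_scalar (C := 1) ((hconj D0).symm.trans (hconj D)) h0
  exact one_ne_zero (α := F) (by linear_combination -(hzero 1 1) + hzero 1 0 + hzero 0 1 - hzero 0 0)

end Cfsg.Agent.S2272
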