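import Cfsg.Statements.S2276
import Cfsg.Agent.Lib.AltPairs.Models
-- import your own Cfsg.Agent.* helpers here

set_option autoImplicit false
open Cfsg

namespace Cfsg.Agent.S2276

open AltPairs Equiv

variable {α : Type*} [Fintype α] [DecidableEq α]

theorem exists_even_conj {p q : ℕ} (hp : p.Prime) {u w : Perm α} {ιu ιw : ZMod q ↪ α} [NeZero q]
    {u₀ w₀ : Perm (ZMod q)} (hu : Along ιu u u₀) (hw : Along ιw w w₀) {h : Perm (ZMod q)}
    (hg : Good p u₀ (h * w₀ * h⁻¹))
    (par : q + 2 ≤ Fintype.card α ∨ (∃ z : Perm α, Perm.sign z = -1 ∧ z * w = w * z) ∨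
      ∃ h' : Perm (ZMod q), Perm.sign h' ≠ Perm.sign h ∧ Good p u₀ (h' * w₀ * h'⁻¹)) :
    ∃ g ∈ alternatingGroup α, Good p u (g * w * g⁻¹) := by
  classical
  have key : ∀ (k : Perm (ZMod q)) (g : Perm α), Good p u₀ (k * w₀ * k⁻¹) →
      (∀ x, g (ιw x) = ιu (k x)) → Good p u (g * w * g⁻¹) := by
    intro k g hk hgk
    refine Good.along hp ιu.injective hu (fun y => ?_) hk
    have : g⁻¹ (ιu y) = ιw (k⁻¹ y) := by rw [Perm.inv_eq_iff_eq, hgk]; simp
    rw [Perm.mul_apply, Perm.mul_apply, this, hw, hgk]; rfl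
  obtain ⟨g, hgx⟩ : ∃ g : Perm α, ∀ x, g (ιw x) = ιu (h x) := by
    refine ⟨Equiv.extendSubtype (p := fun a => a ∈ Set.range ιw) (q := fun a => a ∈ Set.range ιu)
      ((Equiv.ofInjective ιw ιw.injective).symm.trans (h.trans (Equiv.ofInjective ιu ιu.injective))),
      fun x => ?_⟩
    rw [Equiv.extendSubtype_apply_of_mem _ _ ⟨x, rfl⟩]
    simp
  rcases Int.units_eq_one_or (Perm.sign g) with hs | hs
  · exact ⟨g, Perm.mem_alternatingGroup.2 hs, key h g hg hgx⟩
  rcases par with hn | ⟨z, hz, hzw⟩ | ⟨h', hh', hg'⟩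
  · obtain ⟨a, ha, b, hb, hab⟩ := Finset.one_lt_card.1 (show 1 < (Finset.univ.map ιw)ᶜ.card by
      rw [Finset.card_compl, Finset.card_map, Finset.card_univ, ZMod.card]; omega)
    simp only [Finset.mem_compl, Finset.mem_map, Finset.mem_univ, true_and, not_exists] at ha hb
    exact ⟨g * Equiv.swap a b, Perm.mem_alternatingGroup.2 (by rw [map_mul, hs, Perm.sign_swap hab]; rfl),
      key h _ hg fun x => by rw [Perm.mul_apply, Equiv.swap_apply_of_ne_of_ne (ha x) (hb x), hgx]⟩
  · refine ⟨g * z, Perm.mem_alternatingGroup.2 (by rw [map_mul, hs, hz]; rfl), ?_⟩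
    rw [show g * z * w * (g * z)⁻¹ = g * (z * w * z⁻¹) * g⁻¹ by group, hzw, mul_inv_cancel_right]
    exact key h g hg hgx
  · set e := (h' * h⁻¹).extendDomain (Equiv.ofInjective ιu ιu.injective) with he
    refine ⟨e * g, Perm.mem_alternatingGroup.2 ?_, key h' _ hg' fun x => ?_⟩
    · rw [map_mul, hs, he, Perm.sign_extendDomain, map_mul, Perm.sign_inv]
      rcases Int.units_eq_one_or (Perm.sign h) with e1 | e1 <;>
        rcases Int.units_eq_one_or (Perm.sign h') with e2 | e2 <;> simp_all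
    · rw [Perm.mul_apply, hgx, he]
      exact (Perm.extendDomain_apply_image _ (Equiv.ofInjective ιu ιu.injective) (h x)).trans (by simp)

theorem exists_sum_eq {ι : Type*} [DecidableEq ι] {p a : ℕ} (hp : p.Prime) (r : ι → ℕ)
    (hr : ∀ i, ∃ k, r i = p ^ k) (i₁ : ι) (hmax : ∀ i, r i ≤ r i₁) :
    ∀ S : Finset ι, i₁ ∈ S → (∀ i ∈ S, r i ≤ p ^ a) → p ^ a ≤ ∑ i ∈ S, r i →
      ∃ T : Finset ι, i₁ ∈ T ∧ (∀ i ∈ T, r i ≤ p ^ a) ∧ ∑ i ∈ T, r i = p ^ a := by
  intro S
  induction S using Finset.strongInduction with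
  | _ S ih =>
    intro hi1 hle hsum
    rcases eq_or_ne S {i₁} with hS | hS
    · refine ⟨S, hi1, hle, le_antisymm ?_ hsum⟩
      rw [hS, Finset.sum_singleton]; exact hle i₁ hi1
    obtain ⟨m, hm, hmin⟩ := Finset.exists_min_image (S.erase i₁) r
      (Finset.erase_nonempty hi1 |>.2 (by
        by_contra hnt
        exact hS (Finset.eq_singleton_iff_unique_mem.2 ⟨hi1, fun x hx => by
          by_contra hx'
          exact hnt ⟨x, hx, i₁, hi1, hx'⟩⟩)))
    obtain ⟨hm1, hmS⟩ := Finset.mem_erase.1 hm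
    by_cases hbig : p ^ a ≤ ∑ i ∈ S.erase m, r i
    · exact ih (S.erase m) (Finset.erase_ssubset hmS) (Finset.mem_erase.2 ⟨hm1.symm, hi1⟩)
        (fun i hi => hle i (Finset.mem_of_mem_erase hi)) hbig
    refine ⟨S, hi1, hle, ?_⟩
    by_contra hne
    have hlt : p ^ a < ∑ i ∈ S, r i := lt_of_le_of_ne hsum (Ne.symm hne)
    have h1 := Finset.add_sum_erase S r hmS
    obtain ⟨k, hk⟩ := hr m
    have hka : k ≤ a := (Nat.pow_le_pow_iff_right hp.one_lt).1 (hk ▸ hle m hmS)
    have hmn : r m ≤ r i₁ := hmax m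
    have hd : ∀ i ∈ S, r m ∣ r i := fun i hi => by
      obtain ⟨l, hl⟩ := hr i
      have : r m ≤ r i := by
        rcases eq_or_ne i i₁ with rfl | hne'
        exacts [hmn, hmin i (Finset.mem_erase.2 ⟨hne', hi⟩)]
      rw [hk, hl] at this ⊢
      exact pow_dvd_pow p ((Nat.pow_le_pow_iff_right hp.one_lt).1 this)
    have hds : r m ∣ ∑ i ∈ S, r i := Finset.dvd_sum hd
    have hda : r m ∣ p ^ a := hk ▸ pow_dvd_pow p hka
    have := Nat.le_of_dvd (by omega) (Nat.dvd_sub hds hda)
    omega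

theorem lay_of_emb {q : ℕ} [NeZero q] {w : Perm α} (D : Dec w) {K : ℕ} (f : Fin K ↪ Fin D.K)
    (hsum : ∑ i, D.r (f i) = q) :
    ∃ L : Lay q, L.K = K ∧ (∀ i : Fin K, L.r i.1 = D.r (f i)) ∧ ∃ ι : ZMod q ↪ α, Along ι w L.back := by
  let r' : ℕ → ℕ := fun i => if h : i < K then D.r (f ⟨i, h⟩) else 1
  have hr' : ∀ i : Fin K, r' i.1 = D.r (f i) := fun i => by simp [r', i.2]
  let L : Lay q :=
    { K := K
      r := r'
      pos := fun i hi => by simp only [r', dif_pos hi]; exact D.pos _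
      sum := by
        rw [← Fin.sum_univ_eq_sum_range r']
        exact (Finset.sum_congr rfl fun i _ => hr' i).trans hsum }
  exact ⟨L, rfl, hr', D.exists_emb L f fun i => (hr' i).symm⟩

theorem back_five (L : Lay 5) (hK : L.K = 3) (h0 : L.r 0 = 3) (h1 : L.r 1 = 1) (h2 : L.r 2 = 1) :
    L.back = cyc3 (0 : ZMod 5) 2 1 := by
  have a0 := L.back_zero (i := 0) (by omega)
  have a1 := L.back_succ (i := 0) (j := 0) (by omega) (by omega)
  have a2 := L.back_succ (i := 0) (j := 1) (by omega) (by omega)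
  have a3 := L.back_one (i := 1) (by omega) h1
  have a4 := L.back_one (i := 2) (by omega) h2
  simp [Lay.s, Finset.sum_range_succ, h0, h1] at a0 a1 a2 a3 a4
  apply Equiv.ext
  intro x
  fin_cases x
  exacts [a0.trans (by decide), a1.trans (by decide), a2.trans (by decide), a3.trans (by decide),
    a4.trans (by decide)]

theorem back_six_one (L : Lay 6) (hK : L.K = 4) (h0 : L.r 0 = 3) (h1 : L.r 1 = 1) (h2 : L.r 2 = 1)
    (h3 : L.r 3 = 1) : L.back = cyc3 (0 : ZMod 6) 2 1 := by
  have a0 := L.back_zero (i := 0) (by omega)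
  have a1 := L.back_succ (i := 0) (j := 0) (by omega) (by omega)
  have a2 := L.back_succ (i := 0) (j := 1) (by omega) (by omega)
  have a3 := L.back_one (i := 1) (by omega) h1
  have a4 := L.back_one (i := 2) (by omega) h2
  have a5 := L.back_one (i := 3) (by omega) h3
  simp [Lay.s, Finset.sum_range_succ, h0, h1, h2] at a0 a1 a2 a3 a4 a5
  apply Equiv.ext
  intro x
  fin_cases x
  exacts [a0.trans (by decide), a1.trans (by decide), a2.trans (by decide), a3.trans (by decide),
    a4.trans (by decide), a5.trans (by decide)]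

theorem back_six_two (L : Lay 6) (hK : L.K = 2) (h0 : L.r 0 = 3) (h1 : L.r 1 = 3) :
    L.back = cyc3 (0 : ZMod 6) 2 1 * cyc3 (3 : ZMod 6) 5 4 := by
  have a0 := L.back_zero (i := 0) (by omega)
  have a1 := L.back_succ (i := 0) (j := 0) (by omega) (by omega)
  have a2 := L.back_succ (i := 0) (j := 1) (by omega) (by omega)
  have a3 := L.back_zero (i := 1) (by omega)
  have a4 := L.back_succ (i := 1) (j := 0) (by omega) (by omega)
  have a5 := L.back_succ (i := 1) (j := 1) (by omega) (by omega)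
  simp [Lay.s, h0, h1] at a0 a1 a2 a3 a4 a5
  apply Equiv.ext
  intro x
  fin_cases x
  exacts [a0.trans (by decide), a1.trans (by decide), a2.trans (by decide), a3.trans (by decide),
    a4.trans (by decide), a5.trans (by decide)]

theorem good_small {β : Type*} [DecidableEq β] {u w : Perm β} (h5 : (u * w) ^ 5 = 1)
    (h1 : u * w ≠ 1) {x y : Perm β} (hx : x ∈ Subgroup.closure ({u, w} : Set (Perm β)))
    (hy : y ∈ Subgroup.closure ({u, w} : Set (Perm β))) (hrel : Rel x y) : Good 3 u w := by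
  haveI : Fact (Nat.Prime 5) := ⟨by norm_num⟩
  refine ⟨?_, hrel.not_solvable hx hy⟩
  rintro ⟨k, hk⟩
  rw [orderOf_eq_prime h5 h1] at hk
  rcases k with _ | k
  · simp at hk
  · rw [pow_succ] at hk; omega

/-- Both have largest cycles of length three. -/
theorem case_three {u w : Perm α} (hn : 5 ≤ Fintype.card α) (Du : Dec u⁻¹) (Dw : Dec w)
    (hru : ∀ i, Du.r i = 1 ∨ Du.r i = 3) (hrw : ∀ i, Dw.r i = 1 ∨ Dw.r i = 3) (hu : u ≠ 1) (hw : w ≠ 1) :
    ∃ g ∈ alternatingGroup α, Good 3 u (g * w * g⁻¹) ∨ Good 3 w (g * u * g⁻¹) := by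
  classical
  -- three-cycles and fixed points
  have split : ∀ {v : Perm α} (D : Dec v), (∀ i, D.r i = 1 ∨ D.r i = 3) →
      (∀ i j, D.r i = 3 → D.r j = 3 → i = j) → ∀ i₀, D.r i₀ = 3 →
      (Finset.univ.filter fun i => D.r i = 1).card = Fintype.card α - 3 := by
    intro v D hr huniq i₀ hi₀
    have : Finset.univ.filter (fun i => D.r i = 1) = Finset.univ.erase i₀ := by
      ext i
      simp only [Finset.mem_filter, Finset.mem_univ, true_and, Finset.mem_erase, and_true]
      exact ⟨fun h e => by subst e; omega, fun h => (hr i).resolve_right fun e => h (huniq i i₀ e hi₀)⟩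
    have e := Finset.add_sum_erase Finset.univ D.r (Finset.mem_univ i₀)
    rw [← this, Finset.sum_congr rfl (fun i hi => (Finset.mem_filter.1 hi).2), Finset.sum_const,
      smul_eq_mul, mul_one, D.sum_r, hi₀] at e
    omega
  have three : ∀ {v : Perm α} (D : Dec v), (∀ i, D.r i = 1 ∨ D.r i = 3) → v ≠ 1 → ∃ i, D.r i = 3 :=
    fun D hr hv => by
      obtain ⟨i, hi⟩ := D.exists_ne_one hv
      exact ⟨i, (hr i).resolve_left (by omega)⟩
  -- the degree six models
  have six : ∀ {u w : Perm α} (Du : Dec u⁻¹) (Dw : Dec w), (∀ i, Dw.r i = 1 ∨ Dw.r i = 3) → w ≠ 1 →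
      ∀ i j, i ≠ j → Du.r i = 3 → Du.r j = 3 → ∃ g ∈ alternatingGroup α, Good 3 u (g * w * g⁻¹) := by
    intro u w Du Dw hrw hw i j hij hi hj
    obtain ⟨L, hLK, hLr, ιu, hιu⟩ := lay_of_emb (q := 6) Du (K := 2)
      ⟨![i, j], List.nodup_ofFn.1 (by simp [hij])⟩ (by simp [Fin.sum_univ_two, hi, hj])
    have hu0 : Along ιu u (cyc3 (0 : ZMod 6) 2 1 * cyc3 (3 : ZMod 6) 5 4)⁻¹ := by
      rw [← back_six_two L hLK (by simpa [hi] using hLr 0) (by simpa [hj] using hLr 1)]
      simpa using hιu.inv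
    have h6 : 6 ≤ Fintype.card α := by simpa using Fintype.card_le_of_embedding ιu
    obtain ⟨i', hi'⟩ := three Dw hrw hw
    by_cases h2 : ∃ j', j' ≠ i' ∧ Dw.r j' = 3
    · obtain ⟨j', hne, hj'⟩ := h2
      obtain ⟨M, hMK, hMr, ιw, hιw⟩ := lay_of_emb (q := 6) Dw (K := 2)
        ⟨![i', j'], List.nodup_ofFn.1 (by simp [hne.symm])⟩ (by simp [Fin.sum_univ_two, hi', hj'])
      rw [back_six_two M hMK (by simpa [hi'] using hMr 0) (by simpa [hj'] using hMr 1)] at hιw
      refine exists_even_conj Nat.prime_three hu0 hιw (h := cyc3 (2 : ZMod 6) 3 4) ?_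
        (Or.inr (Or.inl (Dw.exists_odd_commute hne.symm (hi'.trans hj'.symm) (by rw [hi']; decide))))
      refine good_small (by decide +kernel) (by decide +kernel)
        (Subgroup.inv_mem _ (Subgroup.subset_closure (Set.mem_insert _ _)))
        (Subgroup.inv_mem _ (Subgroup.subset_closure (Set.mem_insert_of_mem _ rfl))) ?_
      unfold AltPairs.Rel; decide +kernel
    · simp only [not_exists, not_and] at h2
      have hc := split Dw hrw (fun a b ha hb => by
        have ha' : a = i' := by by_contra h; exact h2 a h ha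
        have hb' : b = i' := by by_contra h; exact h2 b h hb
        rw [ha', hb']) i' hi'
      obtain ⟨a, b, c, ha, hb, hc', hab, hac, hbc⟩ := Finset.two_lt_card_iff.1
        (show 2 < (Finset.univ.filter fun i => Dw.r i = 1).card by omega)
      simp only [Finset.mem_filter, Finset.mem_univ, true_and] at ha hb hc'
      have ne : ∀ x, Dw.r x = 1 → i' ≠ x := fun x hx e => by subst e; omega
      obtain ⟨M, hMK, hMr, ιw, hιw⟩ := lay_of_emb (q := 6) Dw (K := 4)
        ⟨![i', a, b, c], List.nodup_ofFn.1 (by simp [ne a ha, ne b hb, ne c hc', hab, hac, hbc])⟩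
        (by simp [Fin.sum_univ_four, hi', ha, hb, hc'])
      rw [back_six_one M hMK (by simpa [hi'] using hMr 0) (by simpa [ha] using hMr 1)
        (by simpa [hb] using hMr 2) (by simpa [hc'] using hMr 3)] at hιw
      refine exists_even_conj Nat.prime_three hu0 hιw (h := Equiv.swap (2 : ZMod 6) 3) ?_
        (Or.inr (Or.inl (Dw.exists_odd_commute hab (ha.trans hb.symm) (by rw [ha]; decide))))
      refine good_small (by decide +kernel) (by decide +kernel)
        (x := (cyc3 (0 : ZMod 6) 2 1 * cyc3 (3 : ZMod 6) 5 4)⁻¹ *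
          (Equiv.swap (2 : ZMod 6) 3 * cyc3 (0 : ZMod 6) 2 1 * (Equiv.swap (2 : ZMod 6) 3)⁻¹) *
          (cyc3 (0 : ZMod 6) 2 1 * cyc3 (3 : ZMod 6) 5 4)⁻¹⁻¹)
        (Subgroup.mul_mem _ (Subgroup.mul_mem _ (Subgroup.subset_closure (Set.mem_insert _ _))
          (Subgroup.subset_closure (Set.mem_insert_of_mem _ rfl)))
          (Subgroup.inv_mem _ (Subgroup.subset_closure (Set.mem_insert _ _))))
        (Subgroup.subset_closure (Set.mem_insert_of_mem _ rfl)) ?_
      unfold AltPairs.Rel; decide +kernel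
  by_cases hu2 : ∃ i j, i ≠ j ∧ Du.r i = 3 ∧ Du.r j = 3
  · obtain ⟨i, j, hij, hi, hj⟩ := hu2
    obtain ⟨g, hg, h⟩ := six Du Dw hrw hw i j hij hi hj
    exact ⟨g, hg, Or.inl h⟩
  by_cases hw2 : ∃ i j, i ≠ j ∧ Dw.r i = 3 ∧ Dw.r j = 3
  · obtain ⟨i, j, hij, hi, hj⟩ := hw2
    obtain ⟨Dw'⟩ := exists_dec w⁻¹
    obtain ⟨Du'⟩ := exists_dec u
    have hw3 : ∀ k, Dw.r k = 3 → orderOf w = 3 → True := fun _ _ _ => trivial
    have lens : ∀ {v : Perm α} (D : Dec v), (orderOf v = 3) → ∀ k, D.r k = 1 ∨ D.r k = 3 :=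
      fun D h k => (Nat.dvd_prime Nat.prime_three).1 (h ▸ D.dvd k)
    have ord : ∀ {v : Perm α} (D : Dec v), (∀ k, D.r k = 1 ∨ D.r k = 3) → v ≠ 1 → orderOf v = 3 := by
      intro v D hr hv
      refine orderOf_eq_prime (Equiv.ext fun x => ?_) hv
      obtain ⟨⟨k, l⟩, rfl⟩ := D.e.surjective x
      rw [pow_succ, pow_two, Perm.mul_apply, Perm.mul_apply, D.apply_e, D.apply_e, D.apply_e,
        Perm.one_apply]
      refine congrArg D.e (Sigma.ext rfl (heq_of_eq ?_))
      rcases hr k with e | e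
      · haveI : Subsingleton (Fin (D.r k)) := Fin.subsingleton_iff_le_one.2 e.le
        exact Subsingleton.elim _ _
      · apply Fin.ext
        have := l.2
        simp only [prev, Equiv.coe_fn_mk, e]
        omega
    have hu3 : orderOf u = 3 := by rw [← orderOf_inv]; exact ord Du hru (inv_ne_one.2 hu)
    -- two three-cycles of `w`, hence of `w⁻¹`
    obtain ⟨i', hi'⟩ := three Dw' (lens Dw' (by rw [orderOf_inv]; exact ord Dw hrw hw)) (inv_ne_one.2 hw)
    by_cases h' : ∃ j', i' ≠ j' ∧ Dw'.r j' = 3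
    · obtain ⟨j', hne, hj'⟩ := h'
      obtain ⟨g, hg, h⟩ := six Dw' Du' (lens Du' hu3) hu i' j' hne hi' hj'
      exact ⟨g, hg, Or.inr h⟩
    exfalso
    simp only [not_exists, not_and] at h'
    -- `w⁻¹` moves three points, `w` at least six
    have moved : ∀ {v : Perm α} (D : Dec v), (∀ k, D.r k = 1 ∨ D.r k = 3) →
        ∀ x, v (D.e x) = D.e x ↔ D.r x.1 = 1 := by
      rintro v D hr ⟨k, l⟩
      rw [D.apply_e]
      constructor
      · intro h
        have := congrArg (fun y : Σ i, Fin (D.r i) => y.2.1) (D.e.injective h)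
        have hl := l.2
        rcases hr k with e | e
        · exact e
        · simp only [prev, Equiv.coe_fn_mk, e] at this; omega
      · intro h
        haveI : Subsingleton (Fin (D.r k)) := Fin.subsingleton_iff_le_one.2 h.le
        rw [Subsingleton.elim (prev (D.r k) l) l]
    have hfix : ∀ {v : Perm α} (D : Dec v), (∀ k, D.r k = 1 ∨ D.r k = 3) →
        (Finset.univ.filter fun x => v x = x).card = (Finset.univ.filter fun k => D.r k = 1).card := by
      intro v D hr
      refine (Finset.card_bij (fun k _ => D.e ⟨k, ⟨0, D.pos k⟩⟩) ?_ ?_ ?_).symm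
      · intro k hk
        simp [(moved D hr ⟨k, ⟨0, D.pos k⟩⟩).2 (Finset.mem_filter.1 hk).2]
      · intro a _ b _ h
        exact congrArg Sigma.fst (D.e.injective h)
      · intro x hx
        obtain ⟨⟨k, l⟩, rfl⟩ := D.e.surjective x
        have hk := (moved D hr ⟨k, l⟩).1 (Finset.mem_filter.1 hx).2
        refine ⟨k, by simpa using hk, ?_⟩
        haveI : Subsingleton (Fin (D.r k)) := Fin.subsingleton_iff_le_one.2 hk.le
        rw [Subsingleton.elim l ⟨0, D.pos k⟩]
    have hw'3 := lens Dw' (by rw [orderOf_inv]; exact ord Dw hrw hw)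
    have e1 := split Dw' hw'3 (fun a b ha hb => by
      have ha' : i' = a := by by_contra h; exact h' a h ha
      have hb' : i' = b := by by_contra h; exact h' b h hb
      rw [← ha', ← hb']) i' hi'
    have efix : (Finset.univ.filter fun x => w⁻¹ x = x) = Finset.univ.filter fun x => w x = x := by
      ext x
      simp only [Finset.mem_filter, Finset.mem_univ, true_and]
      rw [Perm.inv_eq_iff_eq]; exact eq_comm
    rw [← hfix Dw' hw'3, efix, hfix Dw hrw] at e1
    have e2 : Fintype.card α = (Finset.univ.filter fun k => Dw.r k = 1).card +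
        3 * (Finset.univ.filter fun k => ¬ Dw.r k = 1).card := by
      rw [← Dw.sum_r, ← Finset.sum_filter_add_sum_filter_not Finset.univ (fun k => Dw.r k = 1),
        Finset.sum_const_nat (fun k hk => (Finset.mem_filter.1 hk).2),
        Finset.sum_const_nat (fun k hk => ((hrw k).resolve_left (Finset.mem_filter.1 hk).2)), mul_one,
        mul_comm]
    have : 1 < (Finset.univ.filter fun k => ¬ Dw.r k = 1).card :=
      Finset.one_lt_card.2 ⟨i, by simp [hi], j, by simp [hj], hij⟩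
    omega
  -- both are three-cycles
  simp only [not_exists, not_and] at hu2 hw2
  obtain ⟨i, hi⟩ := three Du hru (inv_ne_one.2 hu)
  obtain ⟨i', hi'⟩ := three Dw hrw hw
  have cu := split Du hru (fun a b ha hb => by by_contra h; exact hu2 a b h ha hb) i hi
  have cw := split Dw hrw (fun a b ha hb => by by_contra h; exact hw2 a b h ha hb) i' hi'
  obtain ⟨a, ha, b, hb, hab⟩ := Finset.one_lt_card.1 (show 1 < (Finset.univ.filter fun k => Du.r k = 1).card by omega)
  obtain ⟨a', ha', b', hb', hab'⟩ := Finset.one_lt_card.1 (show 1 < (Finset.univ.filter fun k => Dw.r k = 1).card by omega)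
  simp only [Finset.mem_filter, Finset.mem_univ, true_and] at ha hb ha' hb'
  obtain ⟨L, hLK, hLr, ιu, hιu⟩ := lay_of_emb (q := 5) Du (K := 3)
    ⟨![i, a, b], List.nodup_ofFn.1 (by
      have h1 : i ≠ a := fun e => by subst e; omega
      have h2 : i ≠ b := fun e => by subst e; omega
      simp [h1, h2, hab])⟩ (by simp [Fin.sum_univ_three, hi, ha, hb])
  obtain ⟨M, hMK, hMr, ιw, hιw⟩ := lay_of_emb (q := 5) Dw (K := 3)
    ⟨![i', a', b'], List.nodup_ofFn.1 (by
      have h1 : i' ≠ a' := fun e => by subst e; omega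
      have h2 : i' ≠ b' := fun e => by subst e; omega
      simp [h1, h2, hab'])⟩ (by simp [Fin.sum_univ_three, hi', ha', hb'])
  rw [back_five M hMK (by simpa [hi'] using hMr 0) (by simpa [ha'] using hMr 1) (by simpa [hb'] using hMr 2)]
    at hιw
  have hu0 : Along ιu u (cyc3 (0 : ZMod 5) 2 1)⁻¹ := by
    rw [← back_five L hLK (by simpa [hi] using hLr 0) (by simpa [ha] using hLr 1) (by simpa [hb] using hLr 2)]
    simpa using hιu.inv
  obtain ⟨g, hg, h⟩ := exists_even_conj Nat.prime_three hu0 hιw (h := Lay.c 5 ^ 2) (good_small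
    (by decide +kernel) (by decide +kernel) (Subgroup.subset_closure (Set.mem_insert _ _))
    (Subgroup.subset_closure (Set.mem_insert_of_mem _ rfl)) (by unfold AltPairs.Rel; decide +kernel))
    (Or.inr (Or.inl (Dw.exists_odd_commute hab' (ha'.trans hb'.symm) (by rw [ha']; decide))))
  exact ⟨g, hg, Or.inl h⟩

/-- The largest cycle is at least five and belongs to `u`. -/
theorem case_large {p : ℕ} (hp : p.Prime) (hp3 : 3 ≤ p) {u w : Perm α} (Du : Dec u⁻¹) (Dw : Dec w)
    (hw : w ≠ 1) (hpu : ∀ i, ∃ k, Du.r i = p ^ k) (hpw : ∀ i, ∃ k, Dw.r i = p ^ k) (i₀ : Fin Du.K)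
    (h5 : 5 ≤ Du.r i₀) (hmax : ∀ i, Dw.r i ≤ Du.r i₀) :
    ∃ g ∈ alternatingGroup α, Good p u (g * w * g⁻¹) := by
  classical
  obtain ⟨a, ha⟩ := hpu i₀
  obtain ⟨q, hq⟩ : ∃ q, Du.r i₀ = q := ⟨_, rfl⟩
  haveI : NeZero q := ⟨by omega⟩
  have ha' : q = p ^ a := hq ▸ ha
  obtain ⟨Lu, hLuK, hLur, ιu, hιu⟩ := lay_of_emb (q := q) Du (K := 1)
    ⟨fun _ => i₀, fun x y _ => Subsingleton.elim x y⟩ (by rw [Fin.sum_univ_one]; exact hq)
  have hu0 : Along ιu u (Lay.c q) := by
    have h := Lu.skel_pow_K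
    rw [hLuK, pow_one, Lay.skel] at h
    rw [eq_inv_of_mul_eq_one_left h]
    simpa using hιu.inv
  have hqn : q ≤ Fintype.card α := by simpa using Fintype.card_le_of_embedding ιu
  have hodd : ∀ i, Odd (Dw.r i) := fun i => by
    obtain ⟨k, hk⟩ := hpw i; rw [hk]; exact (hp.odd_of_ne_two (by omega)).pow
  have hqodd : Odd q := ha' ▸ (hp.odd_of_ne_two (by omega)).pow
  have h9 : p = 3 → 9 ≤ q := by
    rintro rfl
    have : 2 ≤ a := by
      by_contra h
      interval_cases a <;> simp at ha' <;> omega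
    have := Nat.pow_le_pow_right (show 0 < 3 by norm_num) this
    omega
  obtain ⟨i₁, hi₁⟩ := Dw.exists_ne_one hw
  obtain ⟨m, -, hm⟩ := Finset.exists_max_image Finset.univ Dw.r ⟨i₁, Finset.mem_univ _⟩
  obtain ⟨T, hmT, hTle, hTsum⟩ := exists_sum_eq hp Dw.r hpw m (fun i => hm i (Finset.mem_univ _)) Finset.univ (Finset.mem_univ _)
    (fun i _ => ha' ▸ hq ▸ hmax i) (by rw [Dw.sum_r, ← ha']; exact hqn) (a := a)
  rw [← ha'] at hTsum hTle
  have hm1 : 1 < Dw.r m := lt_of_lt_of_le hi₁ (hm i₁ (Finset.mem_univ _))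
  -- parity
  have par0 : (q + 2 ≤ Fintype.card α ∨ ∃ z : Perm α, Perm.sign z = -1 ∧ z * w = w * z) ∨ T = {m} := by
    by_cases hdis : ∃ i j, i ≠ j ∧ Dw.r i = Dw.r j
    · obtain ⟨i, j, hne, he⟩ := hdis
      exact Or.inl (Or.inr (Dw.exists_odd_commute hne he (hodd i)))
    · right
      simp only [not_exists, not_and] at hdis
      by_contra hT
      obtain ⟨x, hx, hxmin⟩ := Finset.exists_min_image T Dw.r ⟨m, hmT⟩
      obtain ⟨k, hk⟩ := hpw x
      have hne2 : (T.erase x).Nonempty := by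
        by_contra h
        rw [Finset.not_nonempty_iff_eq_empty, Finset.erase_eq_empty_iff] at h
        rcases h with h | h
        · rw [h] at hmT; exact absurd hmT (Finset.notMem_empty m)
        · rw [h, Finset.mem_singleton] at hmT; exact hT (h.trans (by rw [hmT]))
      have hgt : ∀ y ∈ T.erase x, p ^ (k + 1) ∣ Dw.r y := fun y hy => by
        obtain ⟨l, hl⟩ := hpw y
        obtain ⟨hyx, hyT⟩ := Finset.mem_erase.1 hy
        have h1 := hxmin y hyT
        rw [hk, hl] at h1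
        have h1' := (Nat.pow_le_pow_iff_right hp.one_lt).1 h1
        have h2 : k ≠ l := fun e => hdis x y (Ne.symm hyx) (by rw [hk, hl, e])
        rw [hl]; exact pow_dvd_pow p (by omega)
      have e := Finset.add_sum_erase T Dw.r hx
      rw [hTsum] at e
      obtain ⟨y, hy⟩ := hne2
      have hka : k < a := by
        have h3 : Dw.r x < q := by
          have : Dw.r y ≤ ∑ i ∈ T.erase x, Dw.r i :=
            Finset.single_le_sum (fun i _ => Nat.zero_le (Dw.r i)) hy
          have := Dw.pos y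
          omega
        rw [hk, ha'] at h3
        exact (Nat.pow_lt_pow_iff_right hp.one_lt).1 h3
      have hd : p ^ (k + 1) ∣ Dw.r x := by
        have hq' : p ^ (k + 1) ∣ q := ha' ▸ pow_dvd_pow p hka
        rw [← e] at hq'
        exact (Nat.dvd_add_left (Finset.dvd_sum hgt)).1 hq'
      rw [hk] at hd
      have := (Nat.pow_dvd_pow_iff_le_right hp.one_lt).1 hd
      omega
  by_cases h5' : ∃ i ∈ T, 5 ≤ Dw.r i
  · obtain ⟨i, hiT, hi5⟩ := h5'
    have hTc : 0 < T.card := Finset.card_pos.2 ⟨i, hiT⟩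
    let e₀ := T.equivFin.symm
    let f : Fin T.card ↪ Fin Dw.K :=
      (((Equiv.swap (⟨0, hTc⟩ : Fin T.card) (e₀.symm ⟨i, hiT⟩)).trans e₀).toEmbedding).trans
        (Function.Embedding.subtype _)
    have hf0 : f ⟨0, hTc⟩ = i := by simp [f]
    obtain ⟨L, hLK, hLr, ιw, hιw⟩ := lay_of_emb (q := q) Dw f (by
      rw [← hTsum, ← Finset.sum_coe_sort T]
      exact Equiv.sum_comp ((Equiv.swap (⟨0, hTc⟩ : Fin T.card) (e₀.symm ⟨i, hiT⟩)).trans e₀)
        (fun j : T => Dw.r j.1))
    have hgood := model_long hp hp3 L hqodd (fun j hj => by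
      have := hLr ⟨j, hLK ▸ hj⟩
      exact this ▸ hodd _) (by have := hLr ⟨0, hTc⟩; rw [hf0] at this; simp only at this; omega)
    refine exists_even_conj hp hu0 hιw hgood ?_
    rcases par0 with (h | h) | h
    · exact Or.inl h
    · exact Or.inr (Or.inl h)
    · obtain ⟨h', hs', hg'⟩ := model_single hp hp3 (hq ▸ h5) h9 L (by rw [hLK, h, Finset.card_singleton])
      have h13 : ((1 : ℕ) : ZMod q) ≠ ((3 : ℕ) : ZMod q) := fun e => by
        have := (cast_inj (q := q) (by omega) (by omega)).1 e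
        omega
      exact Or.inr (Or.inr ⟨h', by rw [hs', Perm.sign_swap h13]; decide, hg'⟩)
  · simp only [not_exists, not_and, not_le] at h5'
    have hcase : ∀ i ∈ T, Dw.r i = 1 ∨ (Dw.r i = 3 ∧ p = 3) := fun i hi => by
      obtain ⟨k, hk⟩ := hpw i
      have := h5' i hi
      rcases k with _ | _ | k
      · left; simpa using hk
      · right; rw [pow_one] at hk; have := hodd i; rw [Nat.odd_iff] at this; omega
      · exfalso
        have : p ^ 2 ≤ Dw.r i := hk ▸ Nat.pow_le_pow_right hp.pos (by omega)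
        nlinarith
    have hp' : p = 3 := ((hcase m hmT).resolve_left (by omega)).2
    subst hp'
    have hne : T ≠ {m} := fun h => by
      rw [h, Finset.sum_singleton] at hTsum
      have := h5' m hmT
      omega
    have par := par0.resolve_right hne
    set A := T.filter (fun i => Dw.r i = 3) with hA
    set B := T.filter (fun i => ¬ Dw.r i = 3) with hB
    let f : Fin (A.card + B.card) ↪ Fin Dw.K :=
      ⟨fun x => Sum.elim (fun y => (A.equivFin.symm y).1) (fun y => (B.equivFin.symm y).1)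
        (finSumFinEquiv.symm x), by
        refine Function.Injective.comp ?_ (Equiv.injective _)
        refine Function.Injective.sumElim (Subtype.val_injective.comp (Equiv.injective _))
          (Subtype.val_injective.comp (Equiv.injective _)) fun y z e => ?_
        exact (Finset.mem_filter.1 (B.equivFin.symm z).2).2 (e ▸ (Finset.mem_filter.1 (A.equivFin.symm y).2).2)⟩
    have hf : ∀ x, Dw.r (f x) = if x.1 < A.card then 3 else 1 := by
      intro x
      obtain ⟨y, rfl⟩ := finSumFinEquiv.surjective x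
      have hfy : f (finSumFinEquiv y) =
          Sum.elim (fun y => (A.equivFin.symm y).1) (fun y => (B.equivFin.symm y).1) y :=
        congrArg _ (Equiv.symm_apply_apply _ _)
      rw [hfy]
      rcases y with y | y
      · simp [(Finset.mem_filter.1 (A.equivFin.symm y).2).2, y.2]
      · have := Finset.mem_filter.1 (B.equivFin.symm y).2
        simp [(hcase _ this.1).resolve_right fun h => this.2 h.1]
    have hsum3 : A.card * 3 + B.card = q := by
      rw [← hTsum, ← Finset.sum_filter_add_sum_filter_not T (fun i => Dw.r i = 3), ← hA, ← hB,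
        Finset.sum_const_nat (fun i hi => (Finset.mem_filter.1 hi).2),
        Finset.sum_const_nat (s := B) (m := 1) (fun i hi => (hcase i (Finset.mem_filter.1 hi).1).resolve_right
          fun h => (Finset.mem_filter.1 hi).2 h.1), mul_one]
    obtain ⟨L, hLK, hLr, ιw, hιw⟩ := lay_of_emb (q := q) Dw f (by
      simp only [hf]
      rw [Fin.sum_univ_add]
      simpa using hsum3)
    have hr : ∀ i < L.K, L.r i = if i < A.card then 3 else 1 := fun i hi =>
      (hLr ⟨i, hLK ▸ hi⟩).trans (hf _)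
    have hA1 : 1 ≤ A.card := Finset.card_pos.2
      ⟨m, Finset.mem_filter.2 ⟨hmT, ((hcase m hmT).resolve_left (by omega)).1⟩⟩
    have h3q : 3 ∣ q := ha' ▸ dvd_pow_self 3 (by rintro rfl; simp at ha'; omega)
    have par' := par.imp_right (fun h => (Or.inl h : _ ∨
      ∃ h' : Perm (ZMod q), Perm.sign h' ≠ Perm.sign (1 : Perm (ZMod q)) ∧
        Good 3 (Lay.c q) (h' * L.back * h'⁻¹)))
    rcases Nat.eq_zero_or_pos B.card with hb | hb
    · have hd3 : 3 ∣ A.card := by
        obtain ⟨l, hl⟩ := h3q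
        rcases a with _ | _ | a
        · simp at ha'; omega
        · simp at ha'; omega
        · rw [show q = 3 ^ a * 3 * 3 by rw [ha']; ring] at hsum3; omega
      refine exists_even_conj hp hu0 hιw (model_threes L (fun i hi => by rw [hr i hi, if_pos (by omega)])
        (by have := h9 rfl; omega) (by rw [hLK, hb]; simpa using hd3)) ?_
      rcases par with h | h
      exacts [Or.inl h, Or.inr (Or.inl h)]
    · have hd : 3 ∣ B.card := by omega
      have hgood := model_mixed L A.card B.card hLK hr hA1 (Nat.le_of_dvd hb hd) (h9 rfl) hd ⟨a, ha'⟩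
      exact exists_even_conj hp hu0 hιw (h := 1) (by simpa using hgood) par'

theorem exists_good {n p : ℕ} (hn : 5 ≤ n) (hp : p.Prime) (hp3 : 3 ≤ p) (u w : Perm (Fin n))
    (hu : u ≠ 1) (hw : w ≠ 1) {k l : ℕ} (hk : orderOf u = p ^ k) (hl : orderOf w = p ^ l) :
    ∃ g ∈ alternatingGroup (Fin n), Good p u (g * w * g⁻¹) := by
  classical
  have flip : ∀ {u w : Perm (Fin n)}, (∃ g ∈ alternatingGroup (Fin n), Good p w (g * u * g⁻¹)) →
      ∃ g ∈ alternatingGroup (Fin n), Good p u (g * w * g⁻¹) := by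
    rintro u w ⟨g, hg, h⟩
    refine ⟨g⁻¹, inv_mem hg, ?_⟩
    have h' := (h.conj g⁻¹).symm
    rwa [show g⁻¹ * (g * u * g⁻¹) * g⁻¹⁻¹ = u by group] at h'
  obtain ⟨Du⟩ := exists_dec u⁻¹
  obtain ⟨Dw⟩ := exists_dec w
  have pu : ∀ i, ∃ j, Du.r i = p ^ j := fun i => by
    obtain ⟨j, -, hj⟩ := (Nat.dvd_prime_pow hp).1 (hk ▸ orderOf_inv u ▸ Du.dvd i); exact ⟨j, hj⟩
  have pw : ∀ i, ∃ j, Dw.r i = p ^ j := fun i => by
    obtain ⟨j, -, hj⟩ := (Nat.dvd_prime_pow hp).1 (hl ▸ Dw.dvd i); exact ⟨j, hj⟩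
  obtain ⟨Du'⟩ := exists_dec u
  obtain ⟨Dw'⟩ := exists_dec w⁻¹
  have pu' : ∀ i, ∃ j, Du'.r i = p ^ j := fun i => by
    obtain ⟨j, -, hj⟩ := (Nat.dvd_prime_pow hp).1 (hk ▸ Du'.dvd i); exact ⟨j, hj⟩
  have pw' : ∀ i, ∃ j, Dw'.r i = p ^ j := fun i => by
    obtain ⟨j, -, hj⟩ := (Nat.dvd_prime_pow hp).1 (hl ▸ orderOf_inv w ▸ Dw'.dvd i); exact ⟨j, hj⟩
  obtain ⟨i₀, hi₀⟩ := Du.exists_ne_one (inv_ne_one.2 hu)
  obtain ⟨j₀, hj₀⟩ := Dw.exists_ne_one hw
  obtain ⟨mu, -, hmu⟩ := Finset.exists_max_image Finset.univ Du.r ⟨i₀, Finset.mem_univ _⟩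
  obtain ⟨mw, -, hmw⟩ := Finset.exists_max_image Finset.univ Dw.r ⟨j₀, Finset.mem_univ _⟩
  -- the cycle lengths of an element and its inverse agree
  have maxeq : ∀ {v : Perm (Fin n)} (D : Dec v) (D' : Dec v⁻¹), (∀ i, ∃ j, D.r i = p ^ j) →
      (∀ i, ∃ j, D'.r i = p ^ j) → ∀ i, ∃ i', D.r i ≤ D'.r i' := by
    intro v D D' hD hD' i
    by_contra h
    simp only [not_exists, not_le] at h
    obtain ⟨j, hj⟩ := hD i
    have key : ∀ {v : Perm (Fin n)} (D : Dec v) (x : Σ i, Fin (D.r i)) (t : ℕ),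
        (v ^ t) (D.e x) = D.e ⟨x.1, ((prev (D.r x.1)) ^ t) x.2⟩ := by
      intro v D x t
      induction t with
      | zero => simp
      | succ t ih =>
        rw [pow_succ', Perm.mul_apply, ih, D.apply_e, pow_succ' (prev (D.r x.1)), Perm.mul_apply]
    have kv : ∀ (m t : ℕ) (hm : 0 < m) (x : Fin m), ((prev m ^ t) x).1 = (x.1 + (m - 1) * t) % m := by
      intro m t hm x
      induction t with
      | zero => simp [Nat.mod_eq_of_lt x.2]
      | succ t ih =>
        rw [pow_succ', Perm.mul_apply]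
        show (((prev m ^ t) x).1 + m - 1) % m = _
        rw [ih, show (x.1 + (m - 1) * t) % m + m - 1 = (x.1 + (m - 1) * t) % m + (m - 1) by omega,
          Nat.mod_add_mod, mul_add, mul_one, add_assoc]
    rcases j with _ | j
    · rw [pow_zero] at hj
      obtain ⟨⟨i', -⟩, -⟩ := D'.e.surjective (D.e ⟨i, ⟨0, D.pos i⟩⟩)
      have := h i'; have := D'.pos i'; omega
    have hN : ∀ x, (v⁻¹ ^ (p ^ j)) x = x := by
      intro x
      obtain ⟨⟨i', x'⟩, rfl⟩ := D'.e.surjective x
      obtain ⟨j', hj'⟩ := hD' i'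
      have hle : j' < j + 1 := (Nat.pow_lt_pow_iff_right hp.one_lt).1 (hj' ▸ hj ▸ h i')
      rw [key]
      refine congrArg D'.e (Sigma.ext rfl (heq_of_eq (Fin.ext ?_)))
      rw [kv _ _ (D'.pos i')]
      obtain ⟨d, hd⟩ : D'.r i' ∣ p ^ j := hj' ▸ pow_dvd_pow p (by omega)
      rw [hd, show x'.1 + (D'.r i' - 1) * (D'.r i' * d) = x'.1 + D'.r i' * ((D'.r i' - 1) * d) by ring,
        Nat.add_mul_mod_self_left, Nat.mod_eq_of_lt x'.2]
    have h0 := hN (D.e ⟨i, ⟨0, D.pos i⟩⟩)
    rw [inv_pow, Perm.inv_eq_iff_eq, key] at h0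
    have := congrArg (fun y : Σ i, Fin (D.r i) => y.2.1) (D.e.injective h0)
    simp only [kv _ _ (D.pos i)] at this
    have hdvd : D.r i ∣ (D.r i - 1) * p ^ j := Nat.dvd_of_mod_eq_zero (by simpa using this.symm)
    have hcop : Nat.Coprime (D.r i) (D.r i - 1) := by
      have := D.pos i
      rw [Nat.coprime_self_sub_right (by omega)]
      exact Nat.coprime_one_right _
    have := Nat.le_of_dvd (pow_pos hp.pos _) (hcop.dvd_of_dvd_mul_left hdvd)
    rw [hj, pow_succ] at this
    have := pow_pos hp.pos j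
    nlinarith
  by_cases hbig : 5 ≤ Du.r mu ∧ ∀ i, Dw.r i ≤ Du.r mu
  · exact case_large hp hp3 Du Dw hw pu pw mu hbig.1 hbig.2
  by_cases hbig' : 5 ≤ Dw.r mw ∧ ∀ i, Du.r i ≤ Dw.r mw
  · obtain ⟨mw', hmw'⟩ := maxeq Dw Dw' pw pw' mw
    refine flip (case_large hp hp3 Dw' Du' hu pw' pu' mw' (hbig'.1.trans hmw') fun i => ?_)
    obtain ⟨i', hi'⟩ := maxeq Du' Du pu' pu i
    exact hi'.trans ((hbig'.2 i').trans hmw')
  have hsmall : Du.r mu < 5 ∧ Dw.r mw < 5 := by
    by_cases hle : Dw.r mw ≤ Du.r mu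
    · have : Du.r mu < 5 := by
        by_contra h
        exact hbig ⟨not_lt.1 h, fun i => (hmw i (Finset.mem_univ _)).trans hle⟩
      exact ⟨this, by omega⟩
    · have : Dw.r mw < 5 := by
        by_contra h
        exact hbig' ⟨not_lt.1 h, fun i => (hmu i (Finset.mem_univ _)).trans (by omega)⟩
      exact ⟨by omega, this⟩
  have hp' : p = 3 := by
    obtain ⟨j, hj⟩ := pu i₀
    have := hmu i₀ (Finset.mem_univ _)
    rcases j with _ | j
    · simp at hj; omega
    · have : p ≤ Du.r i₀ := hj ▸ Nat.le_self_pow (by omega) p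
      have hne : p ≠ 4 := fun e => by rw [e] at hp; exact absurd hp (by norm_num)
      omega
  subst hp'
  have small : ∀ {r : ℕ}, r < 5 → (∃ j, r = 3 ^ j) → r = 1 ∨ r = 3 := by
    rintro r h ⟨j, rfl⟩
    rcases j with _ | _ | j
    · simp
    · simp
    · exfalso
      have := Nat.pow_le_pow_right (show 0 < 3 by norm_num) (show 2 ≤ j + 1 + 1 by omega)
      omega
  obtain ⟨g, hg, h | h⟩ := case_three (by rwa [Fintype.card_fin]) Du Dw
    (fun i => small ((hmu i (Finset.mem_univ _)).trans_lt hsmall.1) (pu i))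
    (fun i => small ((hmw i (Finset.mem_univ _)).trans_lt hsmall.2) (pw i)) hu hw
  · exact ⟨g, hg, h⟩
  · exact flip ⟨g, hg, h⟩


/-- Let n ≥ 5, p ≥ 3 a prime, and u, w non-identity elements of p-power order in the alternating group A_n. Then there is g ∈ A_n such that u·(g w g⁻¹) does not have p-power order and ⟨u, g w g⁻¹⟩ is not solvable. -/
theorem result (n : ℕ) (hn : 5 ≤ n) (p : ℕ) (hp : p.Prime) (hp3 : 3 ≤ p) (u w : alternatingGroup (Fin n)) (hu : u ≠ 1) (hw : w ≠ 1)
    (hu' : ∃ k : ℕ, orderOf u = p ^ k) (hw' : ∃ k : ℕ, orderOf w = p ^ k) :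
    ∃ g : alternatingGroup (Fin n), (¬ ∃ k : ℕ, orderOf (u * (g * w * g⁻¹)) = p ^ k) ∧
      ¬ Group.IsSolvable ↥(Subgroup.closure ({u, g * w * g⁻¹} : Set (alternatingGroup (Fin n)))) := by
  obtain ⟨k, hk⟩ := hu'
  obtain ⟨l, hl⟩ := hw'
  obtain ⟨g, hg, h1, h2⟩ := exists_good hn hp hp3 u.1 w.1 (fun e => hu (Subtype.ext e))
    (fun e => hw (Subtype.ext e)) ((Subgroup.orderOf_coe u).trans hk) ((Subgroup.orderOf_coe w).trans hl)
  refine ⟨⟨g, hg⟩, fun ⟨j, hj⟩ => h1 ⟨j, ?_⟩, fun hs => h2 ?_⟩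
  · rw [← Subgroup.orderOf_coe] at hj; exact hj
  · have e : Subgroup.closure ({u.1, g * w.1 * g⁻¹} : Set (Equiv.Perm (Fin n))) =
        (Subgroup.closure ({u, ⟨g, hg⟩ * w * ⟨g, hg⟩⁻¹} : Set (alternatingGroup (Fin n)))).map
          (alternatingGroup (Fin n)).subtype := by
      rw [MonoidHom.map_closure, Set.image_pair]; rfl
    rw [e]
    haveI := hs
    exact Group.isSolvable_of_surjective
      (f := ((Subgroup.closure ({u, ⟨g, hg⟩ * w * ⟨g, hg⟩⁻¹} : Set (alternatingGroup (Fin n)))).equivMapOfInjective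
        _ (alternatingGroup (Fin n)).subtype_injective).toMonoidHom) (MulEquiv.surjective _)

end Cfsg.Agent.S2276
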