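import Cfsg.Statements.S2277
import Cfsg.Agent.Lib.Transfer.SpanFixed
import Cfsg.Agent.Lib.ConjFunctor.Basic
import Cfsg.Agent.Lib.Basics.CoprimeAction
-- import your own Cfsg.Agent.* helpers here

set_option autoImplicit false
open Cfsg

namespace Cfsg.Agent.S2277

open Subgroup
open scoped commutatorElement
open Cfsg.Agent.ConjFunctor (cj)

theorem commute_invariant_pgroup {G : Type*} [Group G] [Finite G] (p : ℕ) [Fact p.Prime] (hp3 : 3 ≤ p)
    (P S : Subgroup G) (hP : IsPGroup p P) {q : ℕ} [Fact q.Prime] (hS : IsPGroup q S)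
    (hqp : (Nat.card S).Coprime p) (hPS : P ≤ normalizer (S : Set G))
    (C D : Set G) (hC : closure C = P) (hD : closure D = P)
    (h : ∀ x ∈ S, ∀ c ∈ C, ∀ d ∈ D, IsPGroup p ↥(closure ({x * c * x⁻¹, d} : Set G))) :
    S ≤ centralizer (P : Set G) := by
  classical
  have hcop : (Nat.card P).Coprime (Nat.card S) := by
    obtain ⟨k, hk⟩ := IsPGroup.iff_card.mp hP
    rw [hk]; exact (hqp.symm).pow_left k
  have hdisj : ∀ t, t ∈ P → t ∈ S → t = 1 := fun t ht ht' =>
    mem_bot.mp ((disjoint_iff.mp (disjoint_of_coprime_natCard hcop)).le ⟨ht, ht'⟩)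
  haveI := hS.isNilpotent
  let Φ : Subgroup S := frattini S
  letI : CommGroup (S ⧸ Φ) :=
    { mul_comm := fun a b => by
        induction a using QuotientGroup.induction_on with
        | H a => induction b using QuotientGroup.induction_on with
          | H b => exact QuotientGroup.eq.mpr (Basics.commutator_le_frattini (G := S) (by
              rw [show (a * b)⁻¹ * (b * a) = ⁅b⁻¹, a⁻¹⁆ by rw [commutatorElement_def]; group]
              exact commutator_mem_commutator (mem_top _) (mem_top _))) }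
  let ρ₀ : P →* MulAut S := S.normalizerMonoidHom.comp (inclusion hPS)
  have hmap : ∀ g : P, Φ.map (ρ₀ g).toMonoidHom = Φ := fun g =>
    characteristic_iff_map_eq.mp inferInstance (ρ₀ g)
  let ρ : P →* MulAut (S ⧸ Φ) :=
    { toFun := fun g => QuotientGroup.congr Φ Φ (ρ₀ g) (hmap g)
      map_one' := MulEquiv.ext fun t => by
        induction t using QuotientGroup.induction_on with
        | H v => show ((ρ₀ 1 v : S) : S ⧸ Φ) = _; rw [map_one]; rfl
      map_mul' := fun a b => MulEquiv.ext fun t => by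
        induction t using QuotientGroup.induction_on with
        | H v =>
          show ((ρ₀ (a * b) v : S) : S ⧸ Φ) = ((ρ₀ a (ρ₀ b v) : S) : S ⧸ Φ)
          rw [map_mul]; rfl }
  have hρ₀ : ∀ (g : P) (v : S), ((ρ₀ g v : S) : G) = (g : G) * v * (g : G)⁻¹ := fun _ _ => rfl
  have hfix : ∀ (g : P) (v : S), Commute (g : G) v →
      (v : S ⧸ Φ) ∈ Transfer.SpanFixed.fx (ρ g) := fun g v hgv => by
    show ((ρ₀ g v : S) : S ⧸ Φ) = (v : S ⧸ Φ)
    rw [show ρ₀ g v = v from Subtype.ext (by rw [hρ₀, hgv.eq, mul_inv_cancel_right])]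
  have hgenP : ∀ K : Set G, closure K = P → closure {t : P | (t : G) ∈ K} = ⊤ := fun K hK => by
    refine map_injective P.subtype_injective ?_
    rw [MonoidHom.map_closure, ← MonoidHom.range_eq_map, range_subtype]
    conv_rhs => rw [← hK]
    congr 1
    ext t
    exact ⟨fun ⟨u, hu, e⟩ => e ▸ hu, fun ht => ⟨⟨t, hK ▸ subset_closure ht⟩, ht, rfl⟩⟩
  have key := Transfer.SpanFixed.trivial_action (p := p) (by omega) hP _ _ (hgenP C hC) (hgenP D hD)
    _ rfl (hqp.coprime_dvd_left (card_quotient_dvd_card Φ)) ρ (by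
      intro c hc d hd t
      induction t using QuotientGroup.induction_on with
      | H x =>
        set T := closure ({(x : G) * c * (x : G)⁻¹, (d : G)} : Set G)
        have hTle : T ≤ S ⊔ P := (closure_le _).mpr (by
          rintro t (rfl | rfl)
          · exact mul_mem (mul_mem (mem_sup_left x.2) (mem_sup_right c.2))
              (inv_mem (mem_sup_left x.2))
          · exact mem_sup_right d.2)
        have hsyl : ConjFunctor.IsSylIn p P (S ⊔ P) := by
          refine ⟨le_sup_right, hP, ?_⟩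
          have h1 := relIndex_mul_relIndex ⊥ P (S ⊔ P) bot_le le_sup_right
          rw [relIndex_bot_left, relIndex_bot_left, Basics.card_sup_of_coprime hPS hcop.symm,
            mul_comm (Nat.card S)] at h1
          rw [Nat.eq_of_mul_eq_mul_left Nat.card_pos h1]
          exact fun hd => (Fact.out : p.Prime).ne_one (Nat.dvd_one.mp (hqp ▸ Nat.dvd_gcd hd dvd_rfl))
        obtain ⟨b, hb, hbT⟩ := ConjFunctor.exists_conj_le_of_isSylIn hsyl hTle (h x x.2 c hc d hd)
        obtain ⟨a, ha, n, hn, rfl⟩ := (Basics.mem_sup_of_le_normalizer' hPS).mp hb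
        have hnT : ∀ t ∈ T, n * t * n⁻¹ ∈ P := fun t ht => by
          have h1 : a * n * t * (a * n)⁻¹ ∈ P := hbT ⟨t, ht, rfl⟩
          have h2 := mul_mem (mul_mem (inv_mem ha) h1) ha
          rwa [show a⁻¹ * (a * n * t * (a * n)⁻¹) * a = n * t * n⁻¹ by group] at h2
        have hcomm : ∀ u : S, ∀ g : P, (u : G) * g * (u : G)⁻¹ ∈ P → Commute (g : G) u := by
          intro u g hu
          have h1 := hdisj ((u : G) * g * (u : G)⁻¹ * (g : G)⁻¹) (mul_mem hu (inv_mem g.2)) (by
            rw [mul_assoc (u : G), mul_assoc (u : G)]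
            exact mul_mem u.2 ((mem_normalizer_iff.mp (hPS g.2) _).mp (inv_mem u.2)))
          rw [mul_inv_eq_one, mul_inv_eq_iff_eq_mul] at h1
          exact h1.symm
        have h1 := hcomm ⟨n, hn⟩ d (hnT _ (subset_closure (by simp)))
        have h2 := hcomm (⟨n, hn⟩ * x) c (by
          have h3 := hnT _ (subset_closure (show (x : G) * c * (x : G)⁻¹ ∈
            ({(x : G) * c * (x : G)⁻¹, (d : G)} : Set G) by simp))
          rw [show ((⟨n, hn⟩ * x : S) : G) * c * ((⟨n, hn⟩ * x : S) : G)⁻¹ =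
            n * ((x : G) * c * (x : G)⁻¹) * n⁻¹ by simp only [Subgroup.coe_mul]; group]
          exact h3)
        refine ⟨_, hfix c _ h2, _, hfix d (⟨n, hn⟩⁻¹) h1.inv_right, ?_⟩
        rw [mul_comm ((⟨n, hn⟩ * x : S) : S ⧸ Φ), ← QuotientGroup.mk_mul, inv_mul_cancel_left])
  have htop : ((S ⊓ centralizer (P : Set G)).subgroupOf S) ⊔ Φ = ⊤ := by
    refine eq_top_iff.mpr fun k _ => ?_
    obtain ⟨c, hc, hcN⟩ := Basics.exists_inf_centralizer_mem_coset P S (Φ.map S.subtype)
      (map_subtype_le Φ) (le_normalizer.trans (fun s hs => by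
        refine mem_normalizer_iff_map_conj_eq.mpr ?_
        rw [Subgroup.map_map]
        conv_rhs => rw [← characteristic_iff_map_eq.mp (inferInstance : Φ.Characteristic)
          (S.normalizerMonoidHom ⟨s, hs⟩), Subgroup.map_map]
        rfl))
      (fun g hg => by
        refine mem_normalizer_iff_map_conj_eq.mpr ?_
        rw [Subgroup.map_map]
        conv_rhs => rw [← hmap ⟨g, hg⟩, Subgroup.map_map]
        rfl)
      hcop (Or.inr (haveI := hS.isNilpotent; inferInstance)) k k.2 (fun a ha => by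
        have h1 := (QuotientGroup.eq_iff_div_mem).mp (key ⟨a, ha⟩ (k : S ⧸ Φ))
        exact ⟨_, h1, by rw [coe_subtype, div_eq_mul_inv, Subgroup.coe_mul, Subgroup.coe_inv]; rfl⟩)
    obtain ⟨f, hf, hfe⟩ := hcN
    have : k = ⟨c, hc.1⟩ * f⁻¹ := Subtype.ext (by
      show (k : G) = c * (f : G)⁻¹
      rw [show ((f : S) : G) = (k : G)⁻¹ * c from hfe]
      group)
    rw [this]
    exact mul_mem (mem_sup_left (mem_subgroupOf.mpr hc)) (mem_sup_right (inv_mem hf))
  intro k hk
  exact ((frattini_nongenerating htop).ge (mem_top (⟨k, hk⟩ : S)) : _ ∈ _).2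

/-- Let p ≥ 3 be prime and G a finite group with a Sylow p-subgroup P and a normal p-complement N (N normal, of order prime to p, with NP = G). Suppose P is generated by a subset C and also by a subset D, and that ⟨x c x⁻¹, d⟩ is a p-group for all x ∈ N, c ∈ C, d ∈ D. Then P centralizes N, so that G = N × P. -/
theorem result {G : Type*} [Group G] [Finite G] (p : ℕ) [Fact p.Prime] (hp3 : 3 ≤ p) (P : Sylow p G)
    (N : Subgroup G) [N.Normal] (hN : (Nat.card N).Coprime p) (hNP : N ⊔ (P : Subgroup G) = ⊤)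
    (C D : Set G) (hC : Subgroup.closure C = (P : Subgroup G)) (hD : Subgroup.closure D = (P : Subgroup G))
    (h : ∀ x ∈ N, ∀ c ∈ C, ∀ d ∈ D, IsPGroup p ↥(Subgroup.closure ({x * c * x⁻¹, d} : Set G))) :
    ⁅(P : Subgroup G), N⁆ = ⊥ := by
  have hPN : (P : Subgroup G) ≤ normalizer (N : Set G) := fun x _ => by
    rw [normalizer_eq_top_iff.mpr inferInstance]; exact mem_top x
  have hcop : (Nat.card (P : Subgroup G)).Coprime (Nat.card N) := by
    obtain ⟨k, hk⟩ := IsPGroup.iff_card.mp P.2
    rw [hk]; exact hN.symm.pow_left k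
  haveI := P.2.isNilpotent
  have hdvd : Nat.card N ∣ Nat.card (N ⊓ centralizer ((P : Subgroup G) : Set G) : Subgroup G) := by
    refine (Nat.dvd_iff_prime_pow_dvd_dvd _ _).mpr fun q k hq hdk => ?_
    haveI := Fact.mk hq
    obtain ⟨S, hS, hPS⟩ := Basics.exists_invariant_isSylowIn (P : Subgroup G) N hPN hcop
      (Or.inl inferInstance) q
    have hle : S ≤ N ⊓ centralizer ((P : Subgroup G) : Set G) := le_inf hS.1
      (commute_invariant_pgroup p hp3 P S P.2 hS.isPGroup
        (hN.coprime_dvd_left (card_dvd_of_le hS.1)) hPS C D hC hD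
        fun x hx => h x (hS.1 hx))
    refine dvd_trans ?_ (card_dvd_of_le hle)
    rw [hS.2]
    exact pow_dvd_pow q ((hq.pow_dvd_iff_le_factorization Nat.card_pos.ne').mp hdk)
  rw [commutator_eq_bot_iff_le_centralizer, le_centralizer_iff]
  rw [← eq_of_le_of_card_ge inf_le_left (Nat.le_of_dvd Nat.card_pos hdvd)]
  exact inf_le_right

end Cfsg.Agent.S2277
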