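import Cfsg.Statements.S2278
import Cfsg.Agent.Lib.SLGen.TwoGen

set_option autoImplicit false
open Cfsg

namespace Cfsg.Agent.S2278

open Matrix Cfsg.Agent.SLGen

set_option maxHeartbeats 2000000

theorem small_four {F : Type*} [Field F] [CharP F 2] (ω : F) (hω : ω * ω = ω + 1)
    (hall : ∀ x : F, x = 0 ∨ x = 1 ∨ x = ω ∨ x = ω + 1) :
    ∃ g : SpecialLinearGroup (Fin 3) F,
      Subgroup.closure ({lowS 3 F, g * lowS 3 F * g⁻¹} : Set (SpecialLinearGroup (Fin 3) F)) = ⊤ := by
  have h2 : (2 : F) = 0 := CharTwo.two_eq_zero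
  let g : SpecialLinearGroup (Fin 3) F :=
    ⟨!![0, 0, 1; ω, 1, 0; 1, 0, 0], by simp [Matrix.det_fin_three, CharTwo.neg_eq]⟩
  refine ⟨g, ?_⟩
  have hL : (lowS 3 F : Matrix (Fin 3) (Fin 3) F) = !![1, 0, 0; 1, 1, 0; 0, 1, 1] := by
    ext i j; fin_cases i <;> fin_cases j <;> simp [coe_lowS, low_apply]
  let vM : SpecialLinearGroup (Fin 3) F := ⟨!![1, 1, ω; 0, 1, 1; 0, 0, 1], by simp [Matrix.det_fin_three]⟩
  let uI : SpecialLinearGroup (Fin 3) F := ⟨!![1, 0, 0; 1, 1, 0; 1, 1, 1], by simp [Matrix.det_fin_three]⟩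
  let vI : SpecialLinearGroup (Fin 3) F := ⟨!![1, 1, ω + 1; 0, 1, 1; 0, 0, 1], by simp [Matrix.det_fin_three]⟩
  have hv : g * lowS 3 F * g⁻¹ = vM := by
    rw [mul_inv_eq_iff_eq_mul]
    apply coe_ext
    rw [cmul, cmul, hL]
    show !![0, 0, 1; ω, 1, 0; 1, 0, 0] * _ = !![1, 1, ω; 0, 1, 1; 0, 0, 1] * !![0, 0, 1; ω, 1, 0; 1, 0, 0]
    ext i j; fin_cases i <;> fin_cases j <;> simp [Matrix.mul_apply, Fin.sum_univ_three] <;> grind
  rw [hv]
  set u := lowS 3 F with hu
  set v := vM with hv'
  have hui : u⁻¹ = uI := by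
    refine inv_eq_of_mul_eq_one_right (coe_ext ?_)
    rw [cmul, cone, hL]
    show _ * !![1, 0, 0; 1, 1, 0; 1, 1, 1] = _
    ext i j; fin_cases i <;> fin_cases j <;> simp [Matrix.mul_apply, Fin.sum_univ_three] <;> grind
  have hvi : v⁻¹ = vI := by
    refine inv_eq_of_mul_eq_one_right (coe_ext ?_)
    rw [cmul, cone]
    show !![1, 1, ω; 0, 1, 1; 0, 0, 1] * !![1, 1, ω + 1; 0, 1, 1; 0, 0, 1] = _
    ext i j; fin_cases i <;> fin_cases j <;> simp [Matrix.mul_apply, Fin.sum_univ_three] <;> grind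
  have cv : (v : Matrix (Fin 3) (Fin 3) F) = !![1, 1, ω; 0, 1, 1; 0, 0, 1] := rfl
  have cu' : (uI : Matrix (Fin 3) (Fin 3) F) = !![1, 0, 0; 1, 1, 0; 1, 1, 1] := rfl
  have cv' : (vI : Matrix (Fin 3) (Fin 3) F) = !![1, 1, ω + 1; 0, 1, 1; 0, 0, 1] := rfl
  set H := Subgroup.closure ({u, v} : Set (SpecialLinearGroup (Fin 3) F)) with hH
  have mu : u ∈ H := Subgroup.subset_closure (by simp)
  have mv : v ∈ H := Subgroup.subset_closure (by simp)
  have mu' : u⁻¹ ∈ H := H.inv_mem mu
  have mv' : v⁻¹ ∈ H := H.inv_mem mv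
  have hd : ∀ (a : F) (k : ℕ), k = 1 ∨ k = 2 → (a • E 3 F k) ⬝ᵥ E 3 F 0 = 0 := by
    intro a k hk
    rw [smul_dotProduct, E_dot_E (by omega), smul_zero]
  have w1 : Has H (E 3 F 0) ((1 : F) • E 3 F 1) := by
    refine has_of_mem (g := u⁻¹ * v * v * u * v * v * u⁻¹ * v * v * u) (by apply_rules [H.mul_mem]) (hd _ _ (Or.inl rfl)) ?_
    rw [hui]
    simp only [cmul, hL, cv, cu', Matrix.mul_fin_three, mul_zero, zero_mul, mul_one, one_mul, add_zero, zero_add]
    ext i j; fin_cases i <;> fin_cases j <;> simp [E_apply, vecMulVec_apply] <;> grind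
  have w2 : Has H (E 3 F 0) (ω • E 3 F 1) := by
    refine has_of_mem (g := u * v * v * u * v⁻¹ * u * v⁻¹ * u * v * v * u * v⁻¹ * u * v⁻¹) (by apply_rules [H.mul_mem]) (hd _ _ (Or.inl rfl)) ?_
    rw [hvi]
    simp only [cmul, hL, cv, cv', Matrix.mul_fin_three, mul_zero, zero_mul, mul_one, one_mul, add_zero, zero_add]
    ext i j; fin_cases i <;> fin_cases j <;> simp [E_apply, vecMulVec_apply] <;> grind
  have w3 : Has H (E 3 F 0) ((1 : F) • E 3 F 2) := by
    refine has_of_mem (g := v * v) (by apply_rules [H.mul_mem]) (hd _ _ (Or.inr rfl)) ?_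
    simp only [cmul, cv, Matrix.mul_fin_three, mul_zero, zero_mul, mul_one, one_mul, add_zero, zero_add]
    ext i j; fin_cases i <;> fin_cases j <;> simp [E_apply, vecMulVec_apply] <;> grind
  refine eq_top_of_low le_rfl H mu (fun t => ?_) 1 one_ne_zero w3
  rcases hall t with rfl | rfl | rfl | rfl
  · rw [zero_smul]; exact has_zero_right
  · exact w1
  · exact w2
  · rw [add_smul]; exact w2.add_right w1

theorem small_two {F : Type*} [Field F] [CharP F 2] (hall : ∀ x : F, x = 0 ∨ x = 1) :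
    ∃ g : SpecialLinearGroup (Fin 3) F,
      Subgroup.closure ({lowS 3 F, g * lowS 3 F * g⁻¹} : Set (SpecialLinearGroup (Fin 3) F)) = ⊤ := by
  have h2 : (2 : F) = 0 := CharTwo.two_eq_zero
  let g : SpecialLinearGroup (Fin 3) F :=
    ⟨!![0, 0, 1; 0, 1, 0; 1, 0, 0], by simp [Matrix.det_fin_three, CharTwo.neg_eq]⟩
  refine ⟨g, ?_⟩
  have hL : (lowS 3 F : Matrix (Fin 3) (Fin 3) F) = !![1, 0, 0; 1, 1, 0; 0, 1, 1] := by
    ext i j; fin_cases i <;> fin_cases j <;> simp [coe_lowS, low_apply]
  let vM : SpecialLinearGroup (Fin 3) F := ⟨!![1, 1, 0; 0, 1, 1; 0, 0, 1], by simp [Matrix.det_fin_three]⟩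
  have hv : g * lowS 3 F * g⁻¹ = vM := by
    rw [mul_inv_eq_iff_eq_mul]
    apply coe_ext
    rw [cmul, cmul, hL]
    show !![0, 0, 1; 0, 1, 0; 1, 0, 0] * _ = !![1, 1, 0; 0, 1, 1; 0, 0, 1] * !![0, 0, 1; 0, 1, 0; 1, 0, 0]
    ext i j; fin_cases i <;> fin_cases j <;> simp [Matrix.mul_apply, Fin.sum_univ_three]
  rw [hv]
  set u := lowS 3 F with hu
  set v := vM with hv'
  have cv : (v : Matrix (Fin 3) (Fin 3) F) = !![1, 1, 0; 0, 1, 1; 0, 0, 1] := rfl
  set H := Subgroup.closure ({u, v} : Set (SpecialLinearGroup (Fin 3) F)) with hH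
  have mu : u ∈ H := Subgroup.subset_closure (by simp)
  have mv : v ∈ H := Subgroup.subset_closure (by simp)
  have w1 : Has H (E 3 F 0) ((1 : F) • E 3 F 1) := by
    refine has_of_mem (g := u * v * u * v * v * u) (by apply_rules [H.mul_mem])
      (by rw [smul_dotProduct, E_dot_E (by omega), smul_zero]) ?_
    simp only [cmul, hL, cv, Matrix.mul_fin_three, mul_zero, zero_mul, mul_one, one_mul, add_zero, zero_add]
    ext i j; fin_cases i <;> fin_cases j <;> simp [E_apply, vecMulVec_apply] <;> grind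
  have w3 : Has H (E 3 F 0) ((1 : F) • E 3 F 2) := by
    refine has_of_mem (g := v * v) (by apply_rules [H.mul_mem])
      (by rw [smul_dotProduct, E_dot_E (by omega), smul_zero]) ?_
    simp only [cmul, cv, Matrix.mul_fin_three, mul_zero, zero_mul, mul_one, one_mul, add_zero, zero_add]
    ext i j; fin_cases i <;> fin_cases j <;> simp [E_apply, vecMulVec_apply] <;> grind
  refine eq_top_of_low le_rfl H mu (fun t => ?_) 1 one_ne_zero w3
  rcases hall t with rfl | rfl
  · rw [zero_smul]; exact has_zero_right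
  · exact w1

/-- Let F be a finite field. Then SL_3(F) is generated by two conjugate regular unipotent elements: there are u with u − 1 nilpotent and (u − 1)² ≠ 0, and g, such that u and g u g⁻¹ generate SL_3(F). -/
theorem result {F : Type*} [Field F] [Fintype F] :
    ∃ u g : Matrix.SpecialLinearGroup (Fin 3) F, IsNilpotent ((u : Matrix (Fin 3) (Fin 3) F) - 1) ∧ ((u : Matrix (Fin 3) (Fin 3) F) - 1) ^ (3 - 1) ≠ 0 ∧
      Subgroup.closure ({u, g * u * g⁻¹} : Set (Matrix.SpecialLinearGroup (Fin 3) F)) = ⊤ := by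
  classical
  have key : ∃ g : SpecialLinearGroup (Fin 3) F,
      Subgroup.closure ({lowS 3 F, g * lowS 3 F * g⁻¹} : Set (SpecialLinearGroup (Fin 3) F)) = ⊤ := by
    obtain ⟨a, ha⟩ := IsCyclic.exists_generator (α := Fˣ)
    have hord : orderOf a = Fintype.card F - 1 := by
      rw [orderOf_eq_card_of_forall_mem_zpowers ha, Nat.card_eq_fintype_card, Fintype.card_units]
    have huniv : ∀ s : Finset F, s.card = Fintype.card F → ∀ x, x ∈ s := by
      intro s hs x
      rw [Finset.eq_univ_of_card s hs]; exact Finset.mem_univ x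
    have hchar : Fintype.card F = 2 ∨ Fintype.card F = 4 → CharP F 2 := by
      intro h
      obtain ⟨p, hp⟩ := CharP.exists F
      haveI := hp
      obtain ⟨k, hpp, hk⟩ := FiniteField.card F p
      have hdvd : p ∣ 2 ^ 2 := by
        have : p ∣ Fintype.card F := by rw [hk]; exact dvd_pow_self _ k.ne_zero
        rcases h with h | h <;> rw [h] at this
        · exact this.trans (by norm_num)
        · simpa using this
      have : p = 2 := (Nat.prime_dvd_prime_iff_eq hpp Nat.prime_two).1 (hpp.dvd_of_dvd_pow hdvd)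
      exact this ▸ hp
    by_cases h2 : Fintype.card F = 2
    · haveI := hchar (Or.inl h2)
      refine small_two fun x => ?_
      simpa using huniv {0, 1} (by rw [Finset.card_pair zero_ne_one, h2]) x
    by_cases h4 : Fintype.card F = 4
    · haveI := hchar (Or.inr h4)
      have hone : (a : F) ≠ 1 := by
        intro h
        have : a = 1 := Units.ext h
        rw [this, orderOf_one] at hord
        omega
      have h3 : (a : F) ^ 3 = 1 := by
        rw [← Units.val_pow_eq_pow_val, show 3 = orderOf a by omega, pow_orderOf_eq_one, Units.val_one]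
      have hω : (a : F) * a = a + 1 := by
        have hq : ((a : F) - 1) * ((a : F) * a + a + 1) = 0 := by linear_combination h3
        have h5 := (mul_eq_zero.1 hq).resolve_left (sub_ne_zero.2 hone)
        have h6 : (2 : F) = 0 := CharTwo.two_eq_zero
        linear_combination h5 - (a + 1) * h6
      refine small_four (a : F) hω fun x => ?_
      have hcard : ({0, 1, (a : F), (a : F) + 1} : Finset F).card = Fintype.card F := by
        rw [h4]
        have e1 : (a : F) ≠ 0 := a.ne_zero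
        have e2 : (a : F) + 1 ≠ 0 := fun h => hone (by rwa [CharTwo.add_eq_zero] at h)
        rw [Finset.card_insert_of_notMem, Finset.card_insert_of_notMem, Finset.card_pair]
        · intro h; simp at h
        · simp only [Finset.mem_insert, Finset.mem_singleton, not_or]
          exact ⟨hone.symm, fun h => e1 (by linear_combination -h)⟩
        · simp only [Finset.mem_insert, Finset.mem_singleton, not_or]
          exact ⟨zero_ne_one, e1.symm, e2.symm⟩
      simpa using huniv _ hcard x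
    set g : F := (a : F) with hg
    let d : ℕ → F := fun i => if i = 1 then (g ^ 2)⁻¹ else g
    have hg0 : g ≠ 0 := a.ne_zero
    have hd : ∀ i < 3, d i ≠ 0 := fun i _ => by
      simp only [d]; split_ifs
      · exact inv_ne_zero (pow_ne_zero _ hg0)
      · exact hg0
    have hprod : ∏ i : Fin 3, d i.val = 1 := by
      simp [d, Fin.prod_univ_three]; field_simp
    have hlast : d (3 - 1) = d 0 := by simp [d]
    have hcard := Fintype.one_lt_card (α := F)
    have hα1 : d 0 ≠ 1 := by
      simp only [d, if_neg (show (0 : ℕ) ≠ 1 by omega)]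
      intro h
      have : a = 1 := Units.ext h
      rw [this, orderOf_one] at hord
      omega
    have hmid : ∀ i, 1 ≤ i → i + 1 < 3 → d i ≠ d 0 := by
      intro i h1 h2'
      obtain rfl : i = 1 := by omega
      simp only [d, if_true, if_neg (show (0 : ℕ) ≠ 1 by omega)]
      intro h
      have h3 : a ^ 3 = 1 := Units.ext (by
        rw [Units.val_pow_eq_pow_val, Units.val_one, ← hg, pow_succ]
        conv_lhs => arg 2; rw [← h]
        exact mul_inv_cancel₀ (pow_ne_zero _ hg0))
      have := Nat.le_of_dvd (by omega) (orderOf_dvd_of_pow_eq_one h3)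
      rw [hord] at this
      have hdvd := orderOf_dvd_of_pow_eq_one h3
      rw [hord] at hdvd
      rcases (Nat.dvd_prime Nat.prime_three).1 hdvd with h5 | h5 <;> omega
    have hγ : Subring.closure ({d 0 / d (3 - 2)} : Set F) = ⊤ := by
      rw [show d 0 / d (3 - 2) = (a : F) ^ 3 by simp [d, ← hg]; ring]
      exact closure_cube_generator a ha h2 h4
    obtain ⟨g', hg'⟩ := vS_isConj hd 1 (by
      rw [one_pow, one_mul, det_cyc]
      simp [d, Fin.prod_univ_three, Finset.prod_range_succ]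
      field_simp)
    exact ⟨g', hg' ▸ two_gen le_rfl hd hprod hlast hα1 hmid hγ⟩
  obtain ⟨g, hg⟩ := key
  refine ⟨lowS 3 F, g, ?_⟩
  exact ⟨(low_regular (by omega)).1, (low_regular (by omega)).2, hg⟩

end Cfsg.Agent.S2278
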