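import Cfsg.Statements.S2279
import Cfsg.Agent.Lib.SLGen.TwoGenPrime
import Cfsg.Agent.Lib.SLGen.TwoGenBinary

set_option autoImplicit false
open Cfsg

namespace Cfsg.Agent.S2279

open Matrix Cfsg.Agent.SLGen

/-- Regular unipotent generating pair when `q > 3` is arbitrary. -/
theorem pair_general {F : Type*} [Field F] [Fintype F] {n : ℕ} (hn : 4 ≤ n) (hq2 : Fintype.card F ≠ 2)
    (hq3 : Fintype.card F ≠ 3) :
    ∃ u v : SpecialLinearGroup (Fin n) F,
      (IsNilpotent ((u : Matrix (Fin n) (Fin n) F) - 1) ∧ ((u : Matrix (Fin n) (Fin n) F) - 1) ^ (n - 1) ≠ 0) ∧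
      (IsNilpotent ((v : Matrix (Fin n) (Fin n) F) - 1) ∧ ((v : Matrix (Fin n) (Fin n) F) - 1) ^ (n - 1) ≠ 0) ∧
      Subgroup.closure ({u, v} : Set (SpecialLinearGroup (Fin n) F)) = ⊤ := by
  classical
  obtain ⟨g, hg⟩ := IsCyclic.exists_generator (α := Fˣ)
  have hord : orderOf g = Fintype.card F - 1 := by
    rw [orderOf_eq_card_of_forall_mem_zpowers hg, Nat.card_eq_fintype_card, Fintype.card_units]
  have hcard := Fintype.one_lt_card (α := F)
  have hpow : ∀ k, 0 < k → k < Fintype.card F - 1 → (g : F) ^ k ≠ 1 := by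
    intro k h1 h2 h
    have : g ^ k = 1 := Units.ext (by simpa using h)
    have := Nat.le_of_dvd h1 (orderOf_dvd_of_pow_eq_one this)
    omega
  have hg0 : (g : F) ≠ 0 := g.ne_zero
  have hg1 : (g : F) ≠ 1 := by simpa using hpow 1 one_pos (by omega)
  have hg2 : (g : F) ^ 2 ≠ 1 := hpow 2 two_pos (by omega)
  have hγ : Subring.closure ({(g : F)} : Set F) = ⊤ := by
    rw [eq_top_iff]
    intro x _
    exact closed_generator (fun x => x ∈ Subring.closure ({(g : F)} : Set F)) (Subring.zero_mem _)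
      (fun a b => Subring.mul_mem _) g hg (Subring.subset_closure rfl) x
  suffices h : ∃ d : ℕ → F, ∃ _ : ∀ i < n, d i ≠ 0, (∏ i : Fin n, d i.val = 1) ∧ d (n - 1) = d 0 ∧ d 0 ≠ 1 ∧
      (∀ i, 1 ≤ i → i + 1 < n → d i ≠ d 0) ∧ d 0 / d (n - 2) = g by
    obtain ⟨d, hd, hprod, hlast, hα, hmid, hdiv⟩ := h
    exact ⟨lowS n F, vS hd, low_regular (by omega), vS_regular hd (by omega),
      two_gen (by omega) hd hprod hlast hα hmid (by rw [hdiv]; exact hγ)⟩
  -- patterns with two outer and two inner exceptional entries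
  have pattern : ∀ a b c : F, a ≠ 0 → b ≠ 0 → c ≠ 0 → a * a * b * c = 1 → a ≠ 1 → b ≠ a → c ≠ a →
      (if n = 4 then a / c else a) = g →
      ∃ d : ℕ → F, ∃ _ : ∀ i < n, d i ≠ 0, (∏ i : Fin n, d i.val = 1) ∧ d (n - 1) = d 0 ∧ d 0 ≠ 1 ∧
        (∀ i, 1 ≤ i → i + 1 < n → d i ≠ d 0) ∧ d 0 / d (n - 2) = g := by
    intro a b c ha hb hc hp ha1 hba hca hdiv
    let d : ℕ → F := fun i => if i = 0 ∨ i = n - 1 then a else if i = 1 then b else if i = 2 then c else 1
    refine ⟨d, fun i _ => ?_, ?_, by simp [d], by simp [d, ha1], fun i h1 h2 => ?_, ?_⟩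
    · simp only [d]; split_ifs <;> simp [ha, hb, hc]
    · have hsplit : ∀ i, d i = (if i = 0 then a else 1) * (if i = n - 1 then a else 1) *
          (if i = 1 then b else 1) * (if i = 2 then c else 1) := by
        intro i; simp only [d]; split_ifs <;> first | omega | simp
      rw [Fin.prod_univ_eq_prod_range d n]
      simp only [hsplit, Finset.prod_mul_distrib, Finset.prod_ite_eq', Finset.mem_range]
      rw [if_pos (by omega), if_pos (by omega), if_pos (by omega), if_pos (by omega)]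
      exact hp
    · simp only [d]
      rw [if_neg (by omega), if_pos (Or.inl trivial)]
      split_ifs
      · exact hba
      · exact hca
      · exact Ne.symm ha1
    · simp only [d]
      rw [if_pos (Or.inl trivial), if_neg (by omega), if_neg (by omega : ¬ n - 2 = 1)]
      split_ifs at hdiv ⊢ <;> first | omega | simpa using hdiv
  by_cases h4 : Fintype.card F = 4
  · have hg3 : (g : F) ^ 3 = 1 := by
      rw [← Units.val_pow_eq_pow_val, show 3 = orderOf g by omega, pow_orderOf_eq_one, Units.val_one]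
    by_cases hn4 : n = 4
    · refine pattern ((g : F) ^ 2) g g (pow_ne_zero _ hg0) hg0 hg0
        (by linear_combination ((g : F) ^ 3 + 1) * hg3) hg2 ?_ ?_ (by rw [if_pos hn4]; field_simp) <;>
        · intro h
          exact hg1 (mul_left_cancel₀ hg0 (show (g : F) * g = g * 1 by linear_combination -h))
    · refine pattern g ((g : F) ^ 2) ((g : F) ^ 2) hg0 (pow_ne_zero _ hg0) (pow_ne_zero _ hg0)
        (by linear_combination ((g : F) ^ 3 + 1) * hg3) hg1 ?_ ?_ (by rw [if_neg hn4]) <;>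
        · intro h
          exact hg1 (mul_left_cancel₀ hg0 (show (g : F) * g = g * 1 by linear_combination h))
  · refine pattern g ((g : F)⁻¹ ^ 2) 1 hg0 (pow_ne_zero _ (inv_ne_zero hg0)) one_ne_zero (by field_simp) hg1 ?_
      (Ne.symm hg1) (by split_ifs <;> simp)
    intro h
    refine hpow 3 (by norm_num) (by omega) ?_
    field_simp at h
    linear_combination -h

/-- Let F be a finite field with q elements and n ≥ 4. Then SL_n(F) is generated by two regular unipotent elements (elements u with u − 1 nilpotent and (u − 1)^(n−1) ≠ 0); if q is prime, the two can be taken conjugate in SL_n(F). -/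
theorem result {F : Type*} [Field F] [Fintype F] (n : ℕ) (hn : 4 ≤ n) :
    (∃ u v : Matrix.SpecialLinearGroup (Fin n) F, (IsNilpotent ((u : Matrix (Fin n) (Fin n) F) - 1) ∧ ((u : Matrix (Fin n) (Fin n) F) - 1) ^ (n - 1) ≠ 0) ∧ (IsNilpotent ((v : Matrix (Fin n) (Fin n) F) - 1) ∧ ((v : Matrix (Fin n) (Fin n) F) - 1) ^ (n - 1) ≠ 0) ∧
      Subgroup.closure ({u, v} : Set (Matrix.SpecialLinearGroup (Fin n) F)) = ⊤) ∧
    ((Fintype.card F).Prime → ∃ u g : Matrix.SpecialLinearGroup (Fin n) F, (IsNilpotent ((u : Matrix (Fin n) (Fin n) F) - 1) ∧ ((u : Matrix (Fin n) (Fin n) F) - 1) ^ (n - 1) ≠ 0) ∧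
      Subgroup.closure ({u, g * u * g⁻¹} : Set (Matrix.SpecialLinearGroup (Fin n) F)) = ⊤) := by
  have hprime : (Fintype.card F).Prime → ∃ u g : SpecialLinearGroup (Fin n) F,
      (IsNilpotent ((u : Matrix (Fin n) (Fin n) F) - 1) ∧ ((u : Matrix (Fin n) (Fin n) F) - 1) ^ (n - 1) ≠ 0) ∧
      Subgroup.closure ({u, g * u * g⁻¹} : Set (SpecialLinearGroup (Fin n) F)) = ⊤ := by
    intro hp
    by_cases h2 : Fintype.card F = 2
    · exact two_gen_binary h2 hn
    · obtain ⟨g, hg⟩ := two_gen_prime hp h2 hn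
      exact ⟨_, g, low_regular (by omega), hg⟩
  refine ⟨?_, hprime⟩
  by_cases hp : (Fintype.card F).Prime
  · obtain ⟨u, g, hu, hgen⟩ := hprime hp
    exact ⟨u, g * u * g⁻¹, hu, regular_conj g u hu, hgen⟩
  · exact pair_general hn (fun h => hp (h ▸ Nat.prime_two)) (fun h => hp (h ▸ Nat.prime_three))

end Cfsg.Agent.S2279
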