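import Cfsg.Statements.S2280
import Cfsg.Agent.Lib.SLGen.Basis

set_option autoImplicit false
open Cfsg

namespace Cfsg.Agent.S2280

open Matrix Cfsg.Agent.SLGen

/-- The criterion: one highest root element and two opposite bidiagonal unipotent elements. -/
theorem eq_top_of_chain {F : Type*} [Field F] [Finite F] {n : ℕ} (hn : 3 ≤ n)
    (H : Subgroup (SpecialLinearGroup (Fin n) F)) (u v : SpecialLinearGroup (Fin n) F) (hu : u ∈ H) (hv : v ∈ H)
    (hu0 : (u : Matrix (Fin n) (Fin n) F) *ᵥ E n F 0 = E n F 0)
    (hu1 : (u : Matrix (Fin n) (Fin n) F) *ᵥ E n F 1 = E n F 1 + E n F 0)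
    (huL : E n F (n - 1) ᵥ* ((u⁻¹ : SpecialLinearGroup (Fin n) F) : Matrix (Fin n) (Fin n) F) = E n F (n - 1))
    (c : ℕ → F) (hc : ∀ j, c j * c j = 1)
    (hvE : ∀ j, j < n → (v : Matrix (Fin n) (Fin n) F) *ᵥ E n F j = E n F j + c j • E n F (j + 1))
    (hk : ((E n F (n - 1) ᵥ* ((v⁻¹ : SpecialLinearGroup (Fin n) F) : Matrix (Fin n) (Fin n) F)) ⬝ᵥ E n F 0) *
      ((E n F (n - 1) ᵥ* ((v⁻¹ : SpecialLinearGroup (Fin n) F) : Matrix (Fin n) (Fin n) F)) ⬝ᵥ E n F 0) = 1)
    (a : Fˣ) (ha : ∀ x : Fˣ, x ∈ Subgroup.zpowers a) (hseed : Has H ((a : F) • E n F 0) (E n F (n - 1))) :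
    H = ⊤ := by
  set L := E n F (n - 1) with hL
  set ψ := L ᵥ* ((v⁻¹ : SpecialLinearGroup (Fin n) F) : Matrix (Fin n) (Fin n) F) with hψ
  set k := ψ ⬝ᵥ E n F 0 with hkk
  have step : ∀ j, j + 2 < n → ∀ s t : F, Has H (s • E n F j) L → Has H (t • E n F 0) L →
      Has H ((t * k * s) • (E n F j + c j • E n F (j + 1))) L := by
    intro j hj s t hs ht
    have h1 := hs.conj hv
    rw [mulVec_smul, hvE j (by omega), ← hψ] at h1
    have hz : L ⬝ᵥ (s • (E n F j + c j • E n F (j + 1))) = 0 := by
      rw [dotProduct_smul, dotProduct_add, dotProduct_smul, hL, E_dot_E (by omega), E_dot_E (by omega)]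
      simp
    have h2 := ht.comm_left h1 hz
    rw [dotProduct_smul, smul_eq_mul, ← hkk, smul_smul] at h2
    exact h2
  have hmul : ∀ s t : F, Has H (s • E n F 0) L → Has H (t • E n F 0) L →
      Has H ((t * k * s * c 0) • E n F 0) L := by
    intro s t hs ht
    have h1 := step 0 (by omega) s t hs ht
    have h2 := h1.conj hu
    rw [mulVec_smul, mulVec_add, mulVec_smul, hu0, hu1, huL] at h2
    have h3 := h2.sub_left h1
    convert h3 using 1
    module
  have hK : ∀ x : F, Has H (x • E n F 0) L := by
    refine closed_generator (fun x => Has H (x • E n F 0) L) (by rw [zero_smul]; exact has_zero_left)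
      (fun x y hx hy => ?_) a ha hseed
    have h1 := hmul x y hx hy
    -- the constant `k * c 0` is a sign
    have hkc : (k * c 0) * (k * c 0) = 1 := by linear_combination (c 0 * c 0) * hk + hc 0
    rcases mul_self_eq_one_iff.1 hkc with h | h
    · convert h1 using 2; linear_combination (-(x * y)) * h
    · have h2 := h1.neg_left
      rw [← neg_smul] at h2
      convert h2 using 2; linear_combination (x * y) * h
  have hk0 : k ≠ 0 := fun h => by rw [h] at hk; simp at hk
  have hall : ∀ j, j + 1 < n → ∀ x : F, Has H (x • E n F j) L := by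
    intro j
    induction j with
    | zero => exact fun _ => hK
    | succ j ih =>
      intro hj x
      have hc0 : c j ≠ 0 := fun h => by have := hc j; rw [h] at this; simp at this
      have h1 := step j (by omega) (x / c j) k⁻¹ (ih (by omega) _) (hK _)
      have h2 := h1.sub_left (ih (by omega) (x / c j))
      convert h2 using 1
      rw [inv_mul_cancel₀ hk0, one_mul, smul_add, smul_smul, div_mul_cancel₀ x hc0]
      abel
  have hLax : L ∈ axes H := by
    intro y hy
    have hy' : y = ∑ i : Fin n, y i • E n F i.val := by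
      funext j
      simp [E_apply, Finset.sum_apply, Fin.val_inj]
    rw [hy']
    refine Finset.sum_induction _ (fun z => Has H z L) (fun p q hp hq => hp.add_left hq) has_zero_left ?_
    intro i _
    rcases eq_or_ne i.val (n - 1) with h | h
    · have : y i = 0 := by
        rw [hL, E_dot _ (by omega : n - 1 < n)] at hy
        rw [← hy]; congr 1; exact Fin.ext h
      rw [this, zero_smul]; exact has_zero_left
    · exact hall _ (by have := i.isLt; omega) _
  have hdown : ∀ d, d < n → E n F (n - 1 - d) ∈ axes H := by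
    intro d
    induction d with
    | zero => exact fun _ => hLax
    | succ d ih =>
      intro hd
      set j := n - 1 - (d + 1) with hj
      have hjd : n - 1 - d = j + 1 := by omega
      have h1 := axes_vecMul hv (ih (by omega))
      rw [hjd] at h1
      have hcol : E n F (j + 1) ᵥ* (v : Matrix (Fin n) (Fin n) F) = E n F (j + 1) + c j • E n F j := by
        funext i
        rw [vecMul_E _ (by omega : j + 1 < n)]
        have h2 := congrFun (hvE i.val i.isLt) ⟨j + 1, by omega⟩
        rw [mulVec_E _ i.isLt] at h2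
        rw [h2]
        by_cases h3 : i.val = j
        · simp [E_apply, h3]
        · simp only [Pi.add_apply, Pi.smul_apply, E_apply, smul_eq_mul]
          split_ifs <;> first | omega | simp
      rw [hcol] at h1
      have hmem : E n F (j + 1) ∈ axes H := hjd ▸ ih (by omega)
      have h4 := (axes H).smul_mem (c j) ((axes H).sub_mem h1 hmem)
      rwa [add_sub_cancel_left, smul_smul, hc j, one_smul] at h4
  refine eq_top_of_axes fun i => ?_
  rw [← E_eq_single]
  have := hdown (n - 1 - i.val) (by have := i.isLt; omega)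
  rwa [show n - 1 - (n - 1 - i.val) = i.val by have := i.isLt; omega] at this

/-- Let F be a finite field and n ≥ 3. Then SL_n(F) is generated by three conjugate regular unipotent elements: there are u with u − 1 nilpotent and (u − 1)^(n−1) ≠ 0, and g, h, such that u, g u g⁻¹ and h u h⁻¹ generate SL_n(F). -/
theorem result {F : Type*} [Field F] [Fintype F] (n : ℕ) (hn : 3 ≤ n) :
    ∃ u g h : Matrix.SpecialLinearGroup (Fin n) F, (IsNilpotent ((u : Matrix (Fin n) (Fin n) F) - 1) ∧ ((u : Matrix (Fin n) (Fin n) F) - 1) ^ (n - 1) ≠ 0) ∧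
      Subgroup.closure ({u, g * u * g⁻¹, h * u * h⁻¹} : Set (Matrix.SpecialLinearGroup (Fin n) F)) = ⊤ := by
  classical
  obtain ⟨a, ha⟩ := IsCyclic.exists_generator (α := Fˣ)
  let u : SpecialLinearGroup (Fin n) F := ⟨bidiag n F, det_bidiag⟩
  have hu : (u : Matrix (Fin n) (Fin n) F) = bidiag n F := rfl
  -- the shear conjugating `u` to `u * (highest root element)`
  let w : SpecialLinearGroup (Fin n) F :=
    tv ((a : F) • E n F 0) (E n F (n - 2)) (by rw [dotProduct_smul, E_dot_E (by omega), smul_zero])
  let x : SpecialLinearGroup (Fin n) F :=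
    tv ((a : F) • E n F 0) (E n F (n - 1)) (by rw [dotProduct_smul, E_dot_E (by omega), smul_zero])
  have hu0 : bidiag n F *ᵥ E n F 0 = E n F 0 := by
    funext i
    rw [mulVec_E _ (by omega : 0 < n), bidiag_apply, E_apply]
    by_cases h : i.val = 0 <;> simp [Fin.ext_iff, h]
  have hu1 : bidiag n F *ᵥ E n F 1 = E n F 1 + E n F 0 := by
    funext i
    rw [mulVec_E _ (by omega : 1 < n), bidiag_apply, Pi.add_apply, E_apply, E_apply]
    by_cases h : i.val = 0
    · simp [Fin.ext_iff, h]
    · by_cases h' : i.val = 1 <;> simp [Fin.ext_iff, h, h']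
  have hrowL : E n F (n - 1) ᵥ* bidiag n F = E n F (n - 1) := by
    funext i
    rw [vecMul_E _ (by omega : n - 1 < n), bidiag_apply, E_apply]
    have := i.isLt
    by_cases h : i.val = n - 1
    · simp [Fin.ext_iff, h]
    · simp [Fin.ext_iff, h, Ne.symm h]; omega
  have hrow2 : E n F (n - 2) ᵥ* bidiag n F = E n F (n - 2) + E n F (n - 1) := by
    funext i
    rw [vecMul_E _ (by omega : n - 2 < n), bidiag_apply, Pi.add_apply, E_apply, E_apply]
    have := i.isLt
    by_cases h : i.val = n - 2
    · simp [Fin.ext_iff, h]; omega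
    · by_cases h' : i.val = n - 1
      · simp [Fin.ext_iff, h']
        split_ifs <;> first | omega | simp
      · simp [Fin.ext_iff, h, h', Ne.symm h]
        omega
  have hxw : w * u = u * x * w := by
    apply coe_ext
    have h1 : E n F (n - 1) ⬝ᵥ ((a : F) • E n F 0) = 0 := by
      rw [dotProduct_smul, E_dot_E (by omega), smul_zero]
    have h2 : bidiag n F * (1 + vecMulVec ((a : F) • E n F 0) (E n F (n - 1))) =
        bidiag n F + vecMulVec ((a : F) • E n F 0) (E n F (n - 1)) := by
      rw [mul_add, mul_one, mul_vecMulVec, mulVec_smul, hu0]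
    rw [cmul, cmul, cmul, coe_tv, coe_tv, hu, h2, add_mul, one_mul, vecMulVec_mul, hrow2, vecMulVec_add,
      mul_add, mul_one, add_mul, mul_vecMulVec, mulVec_smul, hu0, vecMulVec_mul_vecMulVec, h1, zero_smul,
      vecMulVec_zero, add_zero]
    abel
  -- the monomial element
  let σ : Equiv.Perm (Fin n) := Fin.revPerm
  let d : ℕ → F := fun j => if j = 0 then ((Equiv.Perm.sign σ : ℤ) : F) else 1
  have hd : ∀ j, d j * d j = 1 := by
    intro j
    simp only [d]
    split_ifs
    · rw [← Int.cast_mul, ← Units.val_mul, Int.units_mul_self, Units.val_one, Int.cast_one]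
    · exact one_mul 1
  let g : SpecialLinearGroup (Fin n) F :=
    ⟨σ.permMatrix F * Matrix.diagonal (fun i : Fin n => d i.val), by
      rw [det_mul, det_permutation, det_diagonal, Finset.prod_eq_single ⟨0, by omega⟩]
      · simp only [d, if_true, ← Int.cast_mul, ← Units.val_mul, Int.units_mul_self, Units.val_one,
          Int.cast_one]
      · intro b _ hb
        have : b.val ≠ 0 := fun h => hb (Fin.ext h)
        simp [d, this]
      · simp⟩
  have hg : ∀ j, j < n → (g : Matrix (Fin n) (Fin n) F) *ᵥ E n F j = d j • E n F (n - 1 - j) := by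
    intro j hj
    show (σ.permMatrix F * Matrix.diagonal (fun i : Fin n => d i.val)) *ᵥ E n F j = _
    rw [← mulVec_mulVec, permMatrix_mulVec]
    funext i
    simp only [Function.comp_apply, mulVec_diagonal, E_apply, Pi.smul_apply, smul_eq_mul, σ,
      Fin.revPerm_apply, Fin.val_rev]
    have := i.isLt
    by_cases h : n - (i.val + 1) = j
    · rw [if_pos h, if_pos (by omega), h]
    · rw [if_neg h, if_neg (by omega), mul_zero, mul_zero]
  let v := g * u * g⁻¹
  refine ⟨u, w, g, bidiag_regular (by omega), ?_⟩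
  set H := Subgroup.closure ({u, w * u * w⁻¹, g * u * g⁻¹} : Set (SpecialLinearGroup (Fin n) F)) with hH
  have huH : u ∈ H := Subgroup.subset_closure (by simp)
  have hvH : v ∈ H := Subgroup.subset_closure (by simp [v])
  have hwH : w * u * w⁻¹ ∈ H := Subgroup.subset_closure (by simp)
  have hxH : x ∈ H := by
    have : u⁻¹ * (w * u * w⁻¹) = x := by rw [hxw]; group
    exact this ▸ H.mul_mem (H.inv_mem huH) hwH
  let c : ℕ → F := fun j => if j + 1 < n then d (n - 1 - j) * d (n - 2 - j) else 1
  have hvg : (v : Matrix (Fin n) (Fin n) F) * (g : Matrix (Fin n) (Fin n) F) =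
      (g : Matrix (Fin n) (Fin n) F) * bidiag n F := by
    rw [← cmul, show v * g = g * u by simp [v], cmul, hu]
  refine eq_top_of_chain hn H u v huH hvH hu0 hu1 ?_ c ?_ ?_ ?_ a ha ⟨_, hxH⟩
  · calc E n F (n - 1) ᵥ* ((u⁻¹ : SpecialLinearGroup (Fin n) F) : Matrix (Fin n) (Fin n) F)
        = (E n F (n - 1) ᵥ* (u : Matrix (Fin n) (Fin n) F)) ᵥ*
            ((u⁻¹ : SpecialLinearGroup (Fin n) F) : Matrix (Fin n) (Fin n) F) := by rw [hu, hrowL]
      _ = _ := by rw [vecMul_vecMul, ← cmul, mul_inv_cancel, cone, vecMul_one]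
  · intro j
    simp only [c]
    split_ifs
    · rw [mul_mul_mul_comm, hd, hd, one_mul]
    · exact one_mul 1
  · intro j hj
    obtain ⟨k, hk, rfl⟩ : ∃ k, k < n ∧ j = n - 1 - k := ⟨n - 1 - j, by omega, by omega⟩
    have h1 : (v : Matrix (Fin n) (Fin n) F) *ᵥ ((g : Matrix (Fin n) (Fin n) F) *ᵥ E n F k) =
        (g : Matrix (Fin n) (Fin n) F) *ᵥ (bidiag n F *ᵥ E n F k) := by
      rw [mulVec_mulVec, hvg, mulVec_mulVec]
    have hbk : bidiag n F *ᵥ E n F k = E n F k + (if k = 0 then (0 : F) else 1) • E n F (k - 1) := by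
      funext i
      rw [mulVec_E _ hk, bidiag_apply, Pi.add_apply, E_apply, Pi.smul_apply, E_apply, smul_eq_mul]
      by_cases h : i.val = k
      · rw [if_pos (Fin.ext h), if_pos h]
        by_cases hk0 : k = 0
        · simp [hk0]
        · rw [if_neg hk0, if_neg (show i.val ≠ k - 1 by omega)]; simp
      · rw [if_neg (fun e => h (congrArg Fin.val e)), if_neg h]
        by_cases hk0 : k = 0
        · rw [if_pos hk0, if_neg (by simp; omega)]; simp
        · rw [if_neg hk0]
          by_cases h2 : i.val + 1 = k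
          · rw [if_pos h2, if_pos (show i.val = k - 1 by omega)]; simp
          · rw [if_neg h2, if_neg (show i.val ≠ k - 1 by omega)]; simp
    rw [hbk, mulVec_add, mulVec_smul, hg k hk, mulVec_smul, hg (k - 1) (by omega)] at h1
    have h2 := congrArg (fun z => d k • z) h1
    simp only [smul_smul, hd, one_smul, smul_add] at h2
    rw [h2]
    congr 1
    rcases Nat.eq_zero_or_pos k with rfl | hk0
    · rw [show n - 1 - 0 + 1 = n by omega]
      have : E n F n = 0 := by funext i; simp [E_apply, i.isLt.ne]
      rw [this, smul_zero]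
      simp
    · rw [if_neg hk0.ne', one_mul, show n - 1 - (k - 1) = n - 1 - k + 1 by omega]
      congr 1
      simp only [c]
      rw [if_pos (by omega), show n - 1 - (n - 1 - k) = k by omega, show n - 2 - (n - 1 - k) = k - 1 by omega]
  · -- `ψ = L v⁻¹` has sign entry at `0`
    set ρ : Fin n → F := fun i => (-1 : F) ^ i.val with hρ
    have hρu : ρ ᵥ* bidiag n F = E n F 0 := by
      funext i
      rw [E_apply]
      rcases Nat.eq_zero_or_pos i.val with h | h
      · rw [if_pos h]
        show ∑ l, ρ l * bidiag n F l i = 1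
        rw [Finset.sum_eq_single i]
        · simp [hρ, bidiag_apply, h]
        · intro l _ hl
          rw [bidiag_apply, if_neg hl, if_neg (by omega), mul_zero]
        · simp
      · rw [if_neg (by omega)]
        show ∑ l, ρ l * bidiag n F l i = 0
        have hp : i.val - 1 < n := by have := i.isLt; omega
        rw [Finset.sum_eq_add i ⟨i.val - 1, hp⟩ (by intro e; have := congrArg Fin.val e; simp at this; omega)]
        · simp only [hρ, bidiag_apply]
          rw [if_true, if_neg (by intro e; have := congrArg Fin.val e; simp at this; omega),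
            if_pos (show i.val - 1 + 1 = i.val by omega)]
          obtain ⟨m, hm⟩ : ∃ m, i.val = m + 1 := ⟨i.val - 1, by omega⟩
          rw [hm, Nat.add_sub_cancel, pow_succ]
          ring
        · intro l _ hl
          rw [bidiag_apply, if_neg hl.1, if_neg, mul_zero]
          intro e
          exact hl.2 (Fin.ext (by simp; omega))
        · simp
        · simp
    have hρinv : E n F 0 ᵥ* ((u⁻¹ : SpecialLinearGroup (Fin n) F) : Matrix (Fin n) (Fin n) F) = ρ := by
      rw [← hρu, vecMul_vecMul, ← hu, ← cmul, mul_inv_cancel, cone, vecMul_one]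
    have hLg : E n F (n - 1) ᵥ* (g : Matrix (Fin n) (Fin n) F) = d 0 • E n F 0 := by
      funext i
      rw [vecMul_E _ (by omega : n - 1 < n)]
      have h2 := congrFun (hg i.val i.isLt) ⟨n - 1, by omega⟩
      rw [mulVec_E _ i.isLt] at h2
      rw [h2]
      simp only [Pi.smul_apply, E_apply, smul_eq_mul]
      have := i.isLt
      by_cases h : i.val = 0
      · simp [h]
      · rw [if_neg h, if_neg (by omega), mul_zero, mul_zero]
    have hval : (E n F (n - 1) ᵥ* ((v⁻¹ : SpecialLinearGroup (Fin n) F) : Matrix (Fin n) (Fin n) F)) ⬝ᵥ E n F 0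
        = d 0 * (-1 : F) ^ (n - 1) * d (n - 1) := by
      have hg0 : d (n - 1) • ((g : Matrix (Fin n) (Fin n) F) *ᵥ E n F (n - 1)) = E n F 0 := by
        rw [hg _ (by omega), smul_smul, hd, one_smul, show n - 1 - (n - 1) = 0 by omega]
      have hvi : v⁻¹ = g * u⁻¹ * g⁻¹ := by simp [v, mul_assoc]
      have hgg : (((g⁻¹ : SpecialLinearGroup (Fin n) F)) : Matrix (Fin n) (Fin n) F) *
          (g : Matrix (Fin n) (Fin n) F) = 1 := by rw [← cmul, inv_mul_cancel, cone]
      rw [← hg0, hvi, cmul, cmul, ← vecMul_vecMul, ← vecMul_vecMul, hLg, smul_vecMul, hρinv,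
        dotProduct_smul, ← dotProduct_mulVec, mulVec_mulVec, hgg, one_mulVec, smul_dotProduct,
        dot_E _ (by omega : n - 1 < n)]
      simp only [hρ, smul_eq_mul]
      ring
    rw [hval]
    have hs : ((-1 : F) ^ (n - 1)) * ((-1 : F) ^ (n - 1)) = 1 := by rw [← mul_pow]; simp
    linear_combination (((-1 : F) ^ (n - 1)) * ((-1 : F) ^ (n - 1)) * (d (n - 1) * d (n - 1))) * hd 0 +
      (d (n - 1) * d (n - 1)) * hs + hd (n - 1)

end Cfsg.Agent.S2280
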