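import Cfsg.Statements.S2298
import Cfsg.Agent.Lib.SL2.GLTable

set_option autoImplicit false
open Cfsg

namespace Cfsg.Agent.S2298

/-- Over a finite field F with q elements, every irreducible complex character of GL₂ has degree 1, q − 1, q or q + 1; and when q ≥ 3 (so that these four numbers are distinct) there are exactly q − 1 irreducible characters of degree 1, exactly q − 1 of degree q, exactly (q − 1)(q − 2)/2 of degree q + 1 and exactly q(q − 1)/2 of degree q − 1. -/
theorem result {F : Type*} [Field F] [Fintype F] :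
    (∀ χ : Matrix.GeneralLinearGroup (Fin 2) F → ℂ, Cfsg.IsIrrCharacter (Matrix.GeneralLinearGroup (Fin 2) F) χ →
      χ 1 = 1 ∨ χ 1 = (Fintype.card F : ℂ) - 1 ∨ χ 1 = (Fintype.card F : ℂ) ∨ χ 1 = (Fintype.card F : ℂ) + 1) ∧
    (3 ≤ Fintype.card F →
      Nat.card {χ : Cfsg.IrrCharacter (Matrix.GeneralLinearGroup (Fin 2) F) // (χ : Matrix.GeneralLinearGroup (Fin 2) F → ℂ) 1 = 1} = Fintype.card F - 1 ∧
      Nat.card {χ : Cfsg.IrrCharacter (Matrix.GeneralLinearGroup (Fin 2) F) // (χ : Matrix.GeneralLinearGroup (Fin 2) F → ℂ) 1 = (Fintype.card F : ℂ)} = Fintype.card F - 1 ∧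
      Nat.card {χ : Cfsg.IrrCharacter (Matrix.GeneralLinearGroup (Fin 2) F) // (χ : Matrix.GeneralLinearGroup (Fin 2) F → ℂ) 1 = (Fintype.card F : ℂ) + 1} = (Fintype.card F - 1) * (Fintype.card F - 2) / 2 ∧
      Nat.card {χ : Cfsg.IrrCharacter (Matrix.GeneralLinearGroup (Fin 2) F) // (χ : Matrix.GeneralLinearGroup (Fin 2) F → ℂ) 1 = (Fintype.card F : ℂ) - 1} = Fintype.card F * (Fintype.card F - 1) / 2) := by
  classical
  refine ⟨fun χ hχ => ?_, fun hq => ?_⟩
  · rcases (GL2T.table (F := F)).1 ⟨χ, hχ⟩ with ⟨μ, e⟩ | ⟨μ, e⟩ | ⟨α, β, -, e⟩ | ⟨-, h⟩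
    · change χ = _ at e
      exact Or.inl (by rw [e, GL2T.detChar_apply]; simp [GL2T.dt])
    · change χ = _ at e
      exact Or.inr (Or.inr (Or.inl (by rw [e, GL2T.st_one])))
    · change χ = _ at e
      exact Or.inr (Or.inr (Or.inr (by rw [e, GL2T.princ_one])))
    · exact Or.inr (Or.inl h)
  · have hne : ∀ n m : ℕ, n ≠ m → (n : ℂ) ≠ (m : ℂ) := fun n m h e => h (Nat.cast_inj.1 e)
    have key : ∀ c : ℂ, 2 * Nat.card {χ : Cfsg.IrrCharacter (Matrix.GeneralLinearGroup (Fin 2) F) //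
        (χ : Matrix.GeneralLinearGroup (Fin 2) F → ℂ) 1 = c} =
        2 * (Fintype.card F - 1) * (if (1 : ℂ) = c then 1 else 0) +
        2 * (Fintype.card F - 1) * (if (Fintype.card F : ℂ) = c then 1 else 0) +
        (Fintype.card F - 1) * (Fintype.card F - 2) *
          (if (Fintype.card F : ℂ) + 1 = c then 1 else 0) +
        Fintype.card F * (Fintype.card F - 1) *
          (if (Fintype.card F : ℂ) - 1 = c then 1 else 0) := by
      intro c
      rw [← (GL2T.table (F := F)).2 fun x => if x = c then 1 else 0, Nat.card_eq_fintype_card,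
        Fintype.card_subtype, Finset.card_filter]
    obtain ⟨j, hj⟩ : ∃ j, Fintype.card F = j + 1 := ⟨Fintype.card F - 1, by omega⟩
    have e0 : (1 : ℂ) = ((1 : ℕ) : ℂ) := Nat.cast_one.symm
    have e1 : (Fintype.card F : ℂ) - 1 = (j : ℕ) := by rw [hj]; push_cast; ring
    have e2 : (Fintype.card F : ℂ) + 1 = ((j + 2 : ℕ) : ℂ) := by rw [hj]; push_cast; ring
    have a : (1 : ℂ) ≠ Fintype.card F := e0 ▸ hne 1 _ (by omega)
    have b : (1 : ℂ) ≠ (Fintype.card F : ℂ) + 1 := by
      rw [e2, e0]; exact hne _ _ (by omega)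
    have c : (1 : ℂ) ≠ (Fintype.card F : ℂ) - 1 := by
      rw [e1, e0]; exact hne _ _ (by omega)
    have d : (Fintype.card F : ℂ) ≠ (Fintype.card F : ℂ) + 1 := fun h =>
      one_ne_zero (α := ℂ) (by linear_combination -h)
    have e : (Fintype.card F : ℂ) ≠ (Fintype.card F : ℂ) - 1 := fun h =>
      one_ne_zero (α := ℂ) (by linear_combination h)
    have f : (Fintype.card F : ℂ) + 1 ≠ (Fintype.card F : ℂ) - 1 := by
      rw [e1, e2]; exact hne _ _ (by omega)
    have k1 := key 1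
    have k2 := key (Fintype.card F : ℂ)
    have k3 := key ((Fintype.card F : ℂ) + 1)
    have k4 := key ((Fintype.card F : ℂ) - 1)
    simp only [if_pos, if_neg a, if_neg a.symm, if_neg b, if_neg b.symm, if_neg c, if_neg c.symm,
      if_neg d, if_neg d.symm, if_neg e, if_neg e.symm, if_neg f, if_neg f.symm, mul_zero, mul_one,
      add_zero, zero_add] at k1 k2 k3 k4
    refine ⟨by omega, by omega, ?_, ?_⟩
    · rw [← k3, Nat.mul_div_cancel_left _ two_pos]
    · rw [← k4, Nat.mul_div_cancel_left _ two_pos]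

end Cfsg.Agent.S2298
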