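import Cfsg.Statements.S2299
import Cfsg.Agent.Lib.SL2.DegreeRows
import Cfsg.Agent.Lib.SL2.DegreeRowsEven

set_option autoImplicit false
open Cfsg

namespace Cfsg.Agent.S2299

/-- Over a finite field F with q elements, q odd, every irreducible complex character of SL₂ has degree 1, q, q + 1, q − 1, (q + 1)/2 or (q − 1)/2; and when q ≥ 5 (so that these six numbers are distinct) there are exactly one irreducible character of degree 1, one of degree q, (q − 3)/2 of degree q + 1, (q − 1)/2 of degree q − 1, two of degree (q + 1)/2 and two of degree (q − 1)/2. -/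
theorem result {F : Type*} [Field F] [Fintype F] (hodd : Odd (Fintype.card F)) :
    (∀ χ : Matrix.SpecialLinearGroup (Fin 2) F → ℂ, Cfsg.IsIrrCharacter (Matrix.SpecialLinearGroup (Fin 2) F) χ →
      χ 1 = 1 ∨ χ 1 = (Fintype.card F : ℂ) ∨ χ 1 = (Fintype.card F : ℂ) + 1 ∨ χ 1 = (Fintype.card F : ℂ) - 1 ∨
        χ 1 = (((Fintype.card F + 1) / 2 : ℕ) : ℂ) ∨ χ 1 = (((Fintype.card F - 1) / 2 : ℕ) : ℂ)) ∧
    (5 ≤ Fintype.card F →
      Nat.card {χ : Cfsg.IrrCharacter (Matrix.SpecialLinearGroup (Fin 2) F) // (χ : Matrix.SpecialLinearGroup (Fin 2) F → ℂ) 1 = 1} = 1 ∧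
      Nat.card {χ : Cfsg.IrrCharacter (Matrix.SpecialLinearGroup (Fin 2) F) // (χ : Matrix.SpecialLinearGroup (Fin 2) F → ℂ) 1 = (Fintype.card F : ℂ)} = 1 ∧
      Nat.card {χ : Cfsg.IrrCharacter (Matrix.SpecialLinearGroup (Fin 2) F) // (χ : Matrix.SpecialLinearGroup (Fin 2) F → ℂ) 1 = (Fintype.card F : ℂ) + 1} = (Fintype.card F - 3) / 2 ∧
      Nat.card {χ : Cfsg.IrrCharacter (Matrix.SpecialLinearGroup (Fin 2) F) // (χ : Matrix.SpecialLinearGroup (Fin 2) F → ℂ) 1 = (Fintype.card F : ℂ) - 1} = (Fintype.card F - 1) / 2 ∧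
      Nat.card {χ : Cfsg.IrrCharacter (Matrix.SpecialLinearGroup (Fin 2) F) // (χ : Matrix.SpecialLinearGroup (Fin 2) F → ℂ) 1 = (((Fintype.card F + 1) / 2 : ℕ) : ℂ)} = 2 ∧
      Nat.card {χ : Cfsg.IrrCharacter (Matrix.SpecialLinearGroup (Fin 2) F) // (χ : Matrix.SpecialLinearGroup (Fin 2) F → ℂ) 1 = (((Fintype.card F - 1) / 2 : ℕ) : ℂ)} = 2) := by
  classical
  refine ⟨fun χ hχ => SL2.degree_list hodd hχ, fun h5 => ?_⟩
  obtain ⟨k, hk⟩ := hodd
  have hodd : Odd (Fintype.card F) := ⟨k, hk⟩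
  rw [hk] at h5
  have e1 : ((Fintype.card F : ℂ) + 1) / 2 = ((k + 1 : ℕ) : ℂ) := by rw [hk]; push_cast; ring
  have e2 : ((Fintype.card F : ℂ) - 1) / 2 = ((k : ℕ) : ℂ) := by rw [hk]; push_cast; ring
  have e3 : (Fintype.card F : ℂ) + 1 = ((2 * k + 2 : ℕ) : ℂ) := by rw [hk]; push_cast; ring
  have e4 : (Fintype.card F : ℂ) - 1 = ((2 * k : ℕ) : ℂ) := by rw [hk]; push_cast; ring
  have e5 : (Fintype.card F : ℂ) = ((2 * k + 1 : ℕ) : ℂ) := by rw [hk]
  have e6 : (1 : ℂ) = ((1 : ℕ) : ℂ) := by simp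
  have key : ∀ (n m : ℕ) (x : ℂ), x = (n : ℂ) →
      ((2 * (if 1 = n then 1 else 0) + 2 * (if 2 * k + 1 = n then 1 else 0) +
        (2 * k - 2) * (if 2 * k + 2 = n then 1 else 0) + 2 * k * (if 2 * k = n then 1 else 0) +
        4 * (if k + 1 = n then 1 else 0) + 4 * (if k = n then 1 else 0) : ℕ) = 2 * m) →
      Nat.card {χ : Cfsg.IrrCharacter (Matrix.SpecialLinearGroup (Fin 2) F) //
        (χ : Matrix.SpecialLinearGroup (Fin 2) F → ℂ) 1 = x} = m := by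
    intro n m x hx hm
    have h := SL2.card_degree hodd x
    rw [e1, e2, e4, e3, e5, show (1 : ℂ) = ((1 : ℕ) : ℂ) from e6] at h
    rw [hx] at h ⊢
    simp only [Nat.cast_inj] at h
    have hm' := congrArg (fun t : ℕ => (t : ℂ)) hm
    simp only [Nat.cast_add, Nat.cast_mul, Nat.cast_ite, Nat.cast_one, Nat.cast_zero,
      Nat.cast_ofNat, Nat.cast_sub (show 2 ≤ 2 * k by omega)] at hm' h
    have h' : (Nat.card {χ : Cfsg.IrrCharacter (Matrix.SpecialLinearGroup (Fin 2) F) //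
        (χ : Matrix.SpecialLinearGroup (Fin 2) F → ℂ) 1 = (n : ℂ)} : ℂ) = (m : ℂ) := by
      linear_combination h / 2 + hm' / 2
    exact_mod_cast h'
  have d1 : (2 * k + 1 + 1) / 2 = k + 1 := by omega
  have d2 : (2 * k + 1 - 1) / 2 = k := by omega
  rw [hk, d1, d2, Nat.cast_add, Nat.cast_mul, Nat.cast_ofNat, Nat.cast_one]
  refine ⟨key 1 1 _ (by simp) ?_, key (2 * k + 1) 1 _ (by push_cast; ring) ?_,
    key (2 * k + 2) _ _ (by push_cast; ring) ?_, key (2 * k) _ _ (by push_cast; ring) ?_,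
    key (k + 1) 2 _ rfl ?_, key k 2 _ rfl ?_⟩
  all_goals split_ifs <;> omega

end Cfsg.Agent.S2299
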