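import Cfsg.Statements.S2300
import Cfsg.Agent.Lib.SL2.DegreeRows
import Cfsg.Agent.Lib.SL2.DegreeRowsEven

set_option autoImplicit false
open Cfsg

namespace Cfsg.Agent.S2300

/-- Over a finite field F with q elements, q even, every irreducible complex character of SL₂ has degree 1, q − 1, q or q + 1; and when q ≥ 4 (so that these four numbers are distinct) there are exactly one irreducible character of degree 1, one of degree q, (q − 2)/2 of degree q + 1 and q/2 of degree q − 1. -/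
theorem result {F : Type*} [Field F] [Fintype F] [CharP F 2] :
    (∀ χ : Matrix.SpecialLinearGroup (Fin 2) F → ℂ, Cfsg.IsIrrCharacter (Matrix.SpecialLinearGroup (Fin 2) F) χ →
      χ 1 = 1 ∨ χ 1 = (Fintype.card F : ℂ) - 1 ∨ χ 1 = (Fintype.card F : ℂ) ∨ χ 1 = (Fintype.card F : ℂ) + 1) ∧
    (4 ≤ Fintype.card F →
      Nat.card {χ : Cfsg.IrrCharacter (Matrix.SpecialLinearGroup (Fin 2) F) // (χ : Matrix.SpecialLinearGroup (Fin 2) F → ℂ) 1 = 1} = 1 ∧
      Nat.card {χ : Cfsg.IrrCharacter (Matrix.SpecialLinearGroup (Fin 2) F) // (χ : Matrix.SpecialLinearGroup (Fin 2) F → ℂ) 1 = (Fintype.card F : ℂ)} = 1 ∧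
      Nat.card {χ : Cfsg.IrrCharacter (Matrix.SpecialLinearGroup (Fin 2) F) // (χ : Matrix.SpecialLinearGroup (Fin 2) F → ℂ) 1 = (Fintype.card F : ℂ) + 1} = (Fintype.card F - 2) / 2 ∧
      Nat.card {χ : Cfsg.IrrCharacter (Matrix.SpecialLinearGroup (Fin 2) F) // (χ : Matrix.SpecialLinearGroup (Fin 2) F → ℂ) 1 = (Fintype.card F : ℂ) - 1} = Fintype.card F / 2) := by
  classical
  have h2 : (2 : F) = 0 := CharTwo.two_eq_zero
  refine ⟨fun χ hχ => ?_, fun h4 => SL2.counts_even h2 h4⟩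
  have hc := CT.deg_eq (CT.isCharacter_of_isIrr hχ)
  rcases SL2.deg_cases_even h2 ⟨χ, hχ⟩ with h | h | h | h
  · simp only at h; rw [h]; exact Or.inl rfl
  · simp only at h; rw [h]
    refine Or.inr (Or.inr (Or.inl ?_))
    rw [Pi.sub_apply, SL2.princ_one']; ring
  · refine Or.inr (Or.inr (Or.inr ?_))
    rw [hc, show CT.deg χ = Fintype.card F + 1 from h]; push_cast; ring
  · refine Or.inr (Or.inl ?_)
    rw [hc, show CT.deg χ = Fintype.card F - 1 from h, Nat.cast_sub Fintype.card_pos, Nat.cast_one]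

end Cfsg.Agent.S2300
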