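import Cfsg.Statements.S2301
import Cfsg.Agent.Lib.SL2.Halves
-- import your own Cfsg.Agent.* helpers here

set_option autoImplicit false
open Cfsg

namespace Cfsg.Agent.S2301

open Cfsg.Agent.SL2 Matrix

section

variable {F : Type*} [Field F]

local notation "G" => Matrix.SpecialLinearGroup (Fin 2) F
local notation "M2" => Matrix (Fin 2) (Fin 2) F

lemma uu_pow (s : F) : ∀ n : ℕ, (uu s) ^ n = uu ((n : F) * s)
  | 0 => by simp [uu_zero]
  | n + 1 => by rw [pow_succ, uu_pow s n, uu_mul]; congr 1; push_cast; ring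

lemma isConj_uu_iff {b b' : F} (hb : b ≠ 0) (hb' : b' ≠ 0) :
    IsConj (uu b) (uu b') ↔ IsSquare (b * b') := by
  constructor
  · intro h
    obtain ⟨P, hP⟩ := isConj_iff.1 h
    rw [mul_inv_eq_iff_eq_mul] at hP
    have h1 : ((P * uu b : G) : M2) = ((uu b' * P : G) : M2) := by rw [hP]
    have hd := det_eq P
    have e00 := congrFun (congrFun h1 0) 0
    have e01 := congrFun (congrFun h1 0) 1
    rw [Matrix.SpecialLinearGroup.coe_mul, Matrix.SpecialLinearGroup.coe_mul] at e00 e01
    simp [uu, Matrix.mul_apply, Fin.sum_univ_two] at e00 e01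
    have h10 : (P : M2) 1 0 = 0 := e00.resolve_left hb'
    rw [h10, mul_zero, sub_zero] at hd
    exact ⟨b * (P : M2) 0 0, by linear_combination (-b * b') * hd - b * (P : M2) 0 0 * e01⟩
  · rintro ⟨r, hr⟩
    have hr0 : r ≠ 0 := fun h => mul_ne_zero hb hb' (by rw [hr, h, mul_zero])
    refine isConj_iff.2 ⟨dd (Units.mk0 (r / b) (div_ne_zero hr0 hb)), ?_⟩
    rw [dd_uu_dd]
    congr 1
    rw [Units.val_mk0]
    field_simp
    linear_combination -hr

variable [Fintype F]

lemma isSquare_mul_of_not (h2 : (2 : F) ≠ 0) {a b : F} (ha0 : a ≠ 0) (hb0 : b ≠ 0)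
    (ha : ¬ IsSquare a) (hb : ¬ IsSquare b) : IsSquare (a * b) := by
  classical
  have hc : ringChar F ≠ 2 := fun h => h2 (by haveI := ringChar.of_eq h; exact CharTwo.two_eq_zero)
  rw [← quadraticChar_one_iff_isSquare (mul_ne_zero ha0 hb0), map_mul,
    quadraticChar_neg_one_iff_not_isSquare.2 ha, quadraticChar_neg_one_iff_not_isSquare.2 hb]
  norm_num

variable (p : ℕ) [Fact p.Prime] [CharP F p]

lemma two_ne (hp : p ≠ 2) : (2 : F) ≠ 0 := by
  intro h
  have h' : ((2 : ℕ) : F) = 0 := by exact_mod_cast h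
  rw [CharP.cast_eq_zero_iff F p] at h'
  exact hp ((Nat.prime_dvd_prime_iff_eq Fact.out Nat.prime_two).1 h')

lemma not_scal_of (hp : p ≠ 2) {g : G} (h1 : g ≠ 1) (ht : tr g = 2) : ¬ Scal g := by
  rintro ⟨h01, h10, h00⟩
  refine h1 (Matrix.SpecialLinearGroup.ext _ _ fun i j => ?_)
  have h2 : (g : M2) 0 0 = 1 := by
    rw [tr, ← h00] at ht
    exact mul_left_cancel₀ (two_ne (F := F) p hp) (by linear_combination ht)
  fin_cases i <;> fin_cases j <;> simp [h01, h10, h2, ← h00]

lemma exists_conj_uu (hp : p ≠ 2) {g : G} (h1 : g ≠ 1) (ht : tr g = 2) :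
    ∃ s : F, s ≠ 0 ∧ IsConj (uu s) g := by
  obtain ⟨ε, s, P, hε, hs, hte, hP⟩ :=
    exists_unip_conj (not_scal_of p hp h1 ht) (by rw [ht]; norm_num)
  obtain rfl : ε = 1 := mul_left_cancel₀ (two_ne (F := F) p hp) (by rw [← hte, ht, mul_one])
  have hP' : P⁻¹ * g * P = uu s := Subtype.ext hP
  exact ⟨s, hs, isConj_iff.2 ⟨P, by rw [← hP']; group⟩⟩

lemma orderOf_uu {s : F} (hs : s ≠ 0) : orderOf (uu s) = p := by
  refine orderOf_eq_prime ?_ fun h => hs ?_
  · rw [uu_pow, CharP.cast_eq_zero, zero_mul, uu_zero]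
  · simpa [uu] using congrArg (fun x : G => (x : M2) 0 1) h

lemma tr_of_order {g : G} (hg : orderOf g = p) : tr g = 2 := by
  have h : g ^ p = 1 := hg ▸ pow_orderOf_eq_one g
  have h' : (g : M2) ^ p = 1 := by rw [← Matrix.SpecialLinearGroup.coe_pow, h]; rfl
  have hn : IsNilpotent ((g : M2) - 1) := ⟨p, by
    rw [sub_pow_char_of_commute _ (Commute.one_right _), h', one_pow, sub_self]⟩
  have h2 := (Matrix.isNilpotent_trace_of_isNilpotent hn).eq_zero
  rw [Matrix.trace_sub, Matrix.trace_one, Matrix.trace_fin_two, Fintype.card_fin] at h2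
  rw [tr]
  push_cast at h2
  linear_combination h2

end

/-- Over a finite field with q elements of odd characteristic p, the elements of order p of SL₂ (the non-identity unipotent elements) fall into exactly two conjugacy classes, each of size (q² − 1)/2; two upper unitriangular matrices with non-zero off-diagonal entries b and b′ are conjugate exactly when bb′ is a square. -/
theorem result {F : Type*} [Field F] [Fintype F] (p : ℕ) [Fact p.Prime] [CharP F p] (hp : p ≠ 2) :
    Nat.card {C : ConjClasses (Matrix.SpecialLinearGroup (Fin 2) F) // ∃ g : Matrix.SpecialLinearGroup (Fin 2) F, orderOf g = p ∧ ConjClasses.mk g = C} = 2 ∧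
    (∀ g : Matrix.SpecialLinearGroup (Fin 2) F, orderOf g = p → Nat.card (ConjClasses.mk g).carrier = (Fintype.card F ^ 2 - 1) / 2) ∧
    ∀ g h : Matrix.SpecialLinearGroup (Fin 2) F, (g : Matrix (Fin 2) (Fin 2) F) 0 0 = 1 → (g : Matrix (Fin 2) (Fin 2) F) 1 1 = 1 → (g : Matrix (Fin 2) (Fin 2) F) 1 0 = 0 → (g : Matrix (Fin 2) (Fin 2) F) 0 1 ≠ 0 →
      (h : Matrix (Fin 2) (Fin 2) F) 0 0 = 1 → (h : Matrix (Fin 2) (Fin 2) F) 1 1 = 1 → (h : Matrix (Fin 2) (Fin 2) F) 1 0 = 0 → (h : Matrix (Fin 2) (Fin 2) F) 0 1 ≠ 0 →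
      (IsConj g h ↔ IsSquare ((g : Matrix (Fin 2) (Fin 2) F) 0 1 * (h : Matrix (Fin 2) (Fin 2) F) 0 1)) := by
  have hq : Odd (Fintype.card F) := by
    rw [← Nat.not_even_iff_odd, even_iff_two_dvd]
    intro h2
    obtain ⟨n, hpr, hn⟩ := FiniteField.card F p
    rw [hn] at h2
    exact hp ((Nat.prime_dvd_prime_iff_eq Nat.prime_two hpr).1
      (Nat.prime_two.dvd_of_dvd_pow h2)).symm
  have h2 := two_ne (F := F) p hp
  refine ⟨?_, ?_, ?_⟩
  · obtain ⟨ν, hν⟩ := FiniteField.exists_nonsquare (F := F) (fun h => h2 (by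
      haveI := ringChar.of_eq h; exact CharTwo.two_eq_zero))
    have hν0 : ν ≠ 0 := fun h => hν (h ▸ ⟨0, by simp⟩)
    have hset : {C : ConjClasses (Matrix.SpecialLinearGroup (Fin 2) F) |
        ∃ g : Matrix.SpecialLinearGroup (Fin 2) F, orderOf g = p ∧ ConjClasses.mk g = C} =
        {ConjClasses.mk (uu (1 : F)), ConjClasses.mk (uu ν)} := by
      ext C
      constructor
      · rintro ⟨g, hg, rfl⟩
        have h1 : g ≠ 1 := fun h => (Fact.out : p.Prime).ne_one (by rw [← hg, h, orderOf_one])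
        obtain ⟨s, hs, hc⟩ := exists_conj_uu p hp h1 (tr_of_order p hg)
        rw [Set.mem_insert_iff, Set.mem_singleton_iff, ← ConjClasses.mk_eq_mk_iff_isConj.2 hc,
          ConjClasses.mk_eq_mk_iff_isConj, ConjClasses.mk_eq_mk_iff_isConj,
          isConj_uu_iff hs one_ne_zero, isConj_uu_iff hs hν0, mul_one]
        by_cases h : IsSquare s
        · exact Or.inl h
        · exact Or.inr (isSquare_mul_of_not h2 hs hν0 h hν)
      · rintro (rfl | rfl)
        · exact ⟨_, orderOf_uu p one_ne_zero, rfl⟩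
        · exact ⟨_, orderOf_uu p hν0, rfl⟩
    rw [← Set.coe_setOf, Nat.card_coe_set_eq, hset, Set.ncard_pair]
    rw [Ne, ConjClasses.mk_eq_mk_iff_isConj, isConj_uu_iff one_ne_zero hν0, one_mul]
    exact hν
  · intro g hg
    have h1 : g ≠ 1 := fun h => (Fact.out : p.Prime).ne_one (by rw [← hg, h, orderOf_one])
    have ht := tr_of_order p hg
    have hm := (cent g).card_mul_index
    rw [card_cent_unip (not_scal_of p hp h1 ht) (by rw [ht]; norm_num), card_sq_one hq,
      index_cent, SL2.card_G] at hm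
    have e : Nat.card (ConjClasses.mk g).carrier =
        Nat.card {h // ∃ P : Matrix.SpecialLinearGroup (Fin 2) F, P * g * P⁻¹ = h} :=
      Nat.card_congr (Equiv.subtypeEquivRight fun h => by
        rw [← isConj_iff]; exact ConjClasses.mem_carrier_iff_mk_eq.trans
          (ConjClasses.mk_eq_mk_iff_isConj.trans isConj_comm))
    rw [e]
    have hqq : Fintype.card F ^ 2 - 1 = (Fintype.card F - 1) * (Fintype.card F + 1) := by
      rw [← one_pow 2, Nat.sq_sub_sq, one_pow, mul_comm]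
    rw [hqq]
    have hq0 : 0 < Fintype.card F := Fintype.card_pos
    generalize Nat.card {h // ∃ P : Matrix.SpecialLinearGroup (Fin 2) F, P * g * P⁻¹ = h} = x at hm
    have : 2 * x = (Fintype.card F - 1) * (Fintype.card F + 1) := by
      refine Nat.eq_of_mul_eq_mul_left hq0 ?_
      linarith [hm]
    omega
  · intro g h g00 g11 g10 g01 h00 h11 h10 h01
    have eg : g = uu ((g : Matrix (Fin 2) (Fin 2) F) 0 1) :=
      Matrix.SpecialLinearGroup.ext _ _ fun i j => by
        fin_cases i <;> fin_cases j <;> simp [uu, g00, g11, g10]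
    have eh : h = uu ((h : Matrix (Fin 2) (Fin 2) F) 0 1) :=
      Matrix.SpecialLinearGroup.ext _ _ fun i j => by
        fin_cases i <;> fin_cases j <;> simp [uu, h00, h11, h10]
    conv_lhs => rw [eg, eh]
    exact isConj_uu_iff g01 h01

end Cfsg.Agent.S2301
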