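import Cfsg.Statements.S2302
-- import your own Cfsg.Agent.* helpers here

set_option autoImplicit false
open Cfsg

namespace Cfsg.Agent.S2302

theorem mem_iff {F : Type*} [Field F] [CharP F 2] (x : Matrix.SpecialLinearGroup (Fin 2) F) :
    x ^ 2 = 1 ↔ (x : Matrix (Fin 2) (Fin 2) F) 0 0 = (x : Matrix (Fin 2) (Fin 2) F) 1 1 := by
  rw [pow_two, mul_eq_one_iff_eq_inv]
  constructor
  · intro h
    have h' := congrArg (fun a : Matrix.SpecialLinearGroup (Fin 2) F => (a : Matrix (Fin 2) (Fin 2) F) 0 0) h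
    simpa [Matrix.adjugate_fin_two] using h'
  · intro h
    apply Subtype.ext
    rw [Matrix.SpecialLinearGroup.coe_inv, Matrix.adjugate_fin_two]
    ext i j
    fin_cases i <;> fin_cases j <;> simp [h, CharTwo.neg_eq]

theorem exists_root {F : Type*} [Field F] [Fintype F] [CharP F 2] (a : F) : ∃ s : F, s * s = a := by
  obtain ⟨s, hs⟩ := FiniteField.isSquare_of_char_two (ringChar.eq F 2) a
  exact ⟨s, hs.symm⟩

theorem to_normal {F : Type*} [Field F] [Fintype F] [CharP F 2] (x : Matrix.SpecialLinearGroup (Fin 2) F)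
    (hx : orderOf x = 2) :
    ∃ P : Matrix.SpecialLinearGroup (Fin 2) F, (x : Matrix (Fin 2) (Fin 2) F) * (P : Matrix (Fin 2) (Fin 2) F) = (P : Matrix (Fin 2) (Fin 2) F) * !![1, 1; 0, 1] := by
  have h2 : x ^ 2 = 1 := by have := pow_orderOf_eq_one x; rwa [hx] at this
  have hd := (mem_iff x).1 h2
  have hne : x ≠ 1 := fun h => by rw [h, orderOf_one] at hx; omega
  set a := (x : Matrix (Fin 2) (Fin 2) F) 0 0 with ha
  set b := (x : Matrix (Fin 2) (Fin 2) F) 0 1 with hb
  set c := (x : Matrix (Fin 2) (Fin 2) F) 1 0 with hc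
  have hX : (x : Matrix (Fin 2) (Fin 2) F) = !![a, b; c, a] := by
    rw [Matrix.eta_fin_two (x : Matrix (Fin 2) (Fin 2) F)]; simp [ha, hb, hc]; exact (ha ▸ hd).symm
  have hdet : a * a - b * c = 1 := by
    have := x.det_coe
    rw [hX, Matrix.det_fin_two_of] at this
    exact this
  by_cases hc0 : c = 0
  · have hb0 : b ≠ 0 := by
      intro hb0
      apply hne
      apply Subtype.ext
      have ha1 : a = 1 := by
        rw [hc0, mul_zero, sub_zero, ← pow_two, ← one_pow 2] at hdet
        exact (CharTwo.sq_inj).1 hdet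
      rw [hX, hb0, hc0, ha1, Matrix.SpecialLinearGroup.coe_one, Matrix.one_fin_two]
    obtain ⟨s, hs⟩ := exists_root b
    have hs0 : s ≠ 0 := fun h => hb0 (by rw [← hs, h, mul_zero])
    refine ⟨⟨!![s, 0; 0, s⁻¹], by simp [Matrix.det_fin_two_of, hs0]⟩, ?_⟩
    have ha1 : a = 1 := by
      rw [hc0, mul_zero, sub_zero, ← pow_two, ← one_pow 2] at hdet
      exact (CharTwo.sq_inj).1 hdet
    rw [hX, hc0, ha1]
    ext i j
    fin_cases i <;> fin_cases j <;> simp [Matrix.mul_apply, Fin.sum_univ_two] <;> field_simp <;> grind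
  · obtain ⟨s, hs⟩ := exists_root c
    have hs0 : s ≠ 0 := fun h => hc0 (by rw [← hs, h, mul_zero])
    refine ⟨⟨!![(a + 1) / s, s⁻¹; s, 0], ?_⟩, ?_⟩
    · rw [Matrix.det_fin_two_of, mul_zero, zero_sub, inv_mul_cancel₀ hs0, CharTwo.neg_eq]
    rw [hX]
    have h20 : (2 : F) = 0 := CharTwo.two_eq_zero
    ext i j
    fin_cases i <;> fin_cases j <;> simp [Matrix.mul_apply, Fin.sum_univ_two] <;> field_simp <;> grind

theorem conj_of_order_two {F : Type*} [Field F] [Fintype F] [CharP F 2]
    (g h : Matrix.SpecialLinearGroup (Fin 2) F) (hg : orderOf g = 2) (hh : orderOf h = 2) : IsConj g h := by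
  obtain ⟨P, hP⟩ := to_normal g hg
  obtain ⟨Q, hQ⟩ := to_normal h hh
  let t : Matrix.SpecialLinearGroup (Fin 2) F := ⟨!![1, 1; 0, 1], by simp [Matrix.det_fin_two_of]⟩
  have h1 : g * P = P * t := Subtype.ext hP
  have h2 : h * Q = Q * t := Subtype.ext hQ
  refine isConj_iff.2 ⟨Q * P⁻¹, ?_⟩
  rw [eq_mul_inv_of_mul_eq h1, eq_mul_inv_of_mul_eq h2]
  group

/-- Over a finite field with q elements of characteristic 2, the involutions of SL₂ (the non-identity unipotent elements) form a single conjugacy class, of size q² − 1. -/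
theorem result {F : Type*} [Field F] [Fintype F] [CharP F 2] (g h : Matrix.SpecialLinearGroup (Fin 2) F) (hg : orderOf g = 2) (hh : orderOf h = 2) :
    IsConj g h ∧ Nat.card (ConjClasses.mk g).carrier = Fintype.card F ^ 2 - 1 := by
  refine ⟨conj_of_order_two g h hg hh, ?_⟩
  classical
  have hcar : (ConjClasses.mk g).carrier = {x | x ^ 2 = 1} \ {1} := by
    ext x
    rw [ConjClasses.mem_carrier_iff_mk_eq, ConjClasses.mk_eq_mk_iff_isConj, Set.mem_diff, Set.mem_setOf_eq,
      Set.mem_singleton_iff]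
    constructor
    · intro hx
      obtain ⟨c, hc⟩ := isConj_iff.1 hx
      have : orderOf x = 2 := Eq.trans
        (((orderOf_injective (MulAut.conj c).toMonoidHom (MulAut.conj c).injective x).symm).trans
          (congrArg orderOf (show (MulAut.conj c).toMonoidHom x = g from hc))) hg
      exact ⟨by have h3 := pow_orderOf_eq_one x; rwa [this] at h3, fun h => by rw [h, orderOf_one] at this; omega⟩
    · rintro ⟨h2, h1⟩
      exact conj_of_order_two x g (orderOf_eq_prime h2 h1) hg
  have hcard : Nat.card ({x : Matrix.SpecialLinearGroup (Fin 2) F | x ^ 2 = 1}) = Fintype.card F ^ 2 := by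
    choose r hr using exists_root (F := F)
    let e : {x : Matrix.SpecialLinearGroup (Fin 2) F | x ^ 2 = 1} ≃ F × F :=
      { toFun := fun x => ((x.1 : Matrix (Fin 2) (Fin 2) F) 0 1, (x.1 : Matrix (Fin 2) (Fin 2) F) 1 0)
        invFun := fun y => ⟨⟨!![r (1 + y.1 * y.2), y.1; y.2, r (1 + y.1 * y.2)], by
            rw [Matrix.det_fin_two_of, hr, add_sub_cancel_right]⟩, (mem_iff _).2 (by simp)⟩
        left_inv := fun x => by
          have hd := (mem_iff x.1).1 x.2
          have hdet := x.1.det_coe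
          rw [Matrix.det_fin_two] at hdet
          have h20 : (2 : F) = 0 := CharTwo.two_eq_zero
          have hroot : r (1 + (x.1 : Matrix (Fin 2) (Fin 2) F) 0 1 * (x.1 : Matrix (Fin 2) (Fin 2) F) 1 0) =
              (x.1 : Matrix (Fin 2) (Fin 2) F) 0 0 := by
            apply (CharTwo.sq_inj).1
            rw [pow_two, hr, pow_two]
            grind
          apply Subtype.ext; apply Subtype.ext
          ext i j
          fin_cases i <;> fin_cases j <;> simp [hroot, ← hd]
        right_inv := fun y => by simp }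
    rw [Nat.card_congr e, Nat.card_prod, Nat.card_eq_fintype_card, pow_two]
  rw [hcar, Nat.card_coe_set_eq, Set.ncard_diff_singleton_of_mem (by simp), ← Nat.card_coe_set_eq, hcard]

end Cfsg.Agent.S2302
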