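import Cfsg.Statements.S2306
import Cfsg.Agent.Lib.SL2.DegreeRows
import Cfsg.Agent.Lib.SL2.DegreeRowsEven

set_option autoImplicit false
open Cfsg

namespace Cfsg.Agent.S2306

/-- Over a finite field F, for a multiplicative character α of F, the function induced to SL₂ from the linear character b ↦ α(b₁₁) of the upper triangular subgroup is an irreducible character if and only if α² ≠ 1. -/
theorem result {F : Type*} [Field F] [Fintype F] [DecidableEq F] (α : MulChar F ℂ) :
    Cfsg.IsIrrCharacter (Matrix.SpecialLinearGroup (Fin 2) F) (Cfsg.indFun ((Cfsg.upperTriangularGL 2 F).comap Matrix.SpecialLinearGroup.toGL) (fun b => α (((b : Matrix.SpecialLinearGroup (Fin 2) F) : Matrix (Fin 2) (Fin 2) F) 0 0))) ↔ α ^ 2 ≠ 1 := by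
  classical
  have key : Cfsg.classInner (SL2.princ α) (SL2.princ α) = 1 + if α = α⁻¹ then 1 else 0 := by
    rcases Nat.even_or_odd (Fintype.card F) with he | ho
    · have h2 : (2 : F) = 0 := by
        have h : ringChar F = 2 := FiniteField.even_card_iff_char_two.2 (Nat.even_iff.1 he)
        haveI : CharP F 2 := h ▸ ringChar.charP F
        exact CharTwo.two_eq_zero
      rw [SL2.inner_princ_even h2, if_pos rfl]
    · rw [SL2.inner_princ ho, if_pos rfl]
  have hsq : α = α⁻¹ ↔ α ^ 2 = 1 := by rw [eq_inv_iff_mul_eq_one, pow_two]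
  change Cfsg.IsIrrCharacter _ (SL2.princ α) ↔ _
  constructor
  · intro hirr h
    rw [if_pos (hsq.2 h), CT.irr_inner_self hirr] at key
    norm_num at key
  · intro h
    exact CT.isIrr_of_inner_self (SL2.isCharacter_princ' α)
      (by rw [key, if_neg fun e => h (hsq.1 e), add_zero])

end Cfsg.Agent.S2306
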