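import Cfsg.Statements.S2307
import Cfsg.Agent.Lib.SL2.DegreeHalves

set_option autoImplicit false
open Cfsg

namespace Cfsg.Agent.S2307

/-- Over a finite field F with q elements, q odd, let α be the multiplicative character of F of order 2. The character of SL₂ induced from the linear character b ↦ α(b₁₁) of the upper triangular subgroup is the sum of two distinct irreducible characters, each of degree (q + 1)/2, which are conjugate under GL₂: some fixed element of GL₂ conjugates the one into the other. -/
theorem result {F : Type*} [Field F] [Fintype F] [DecidableEq F] (hodd : Odd (Fintype.card F)) (α : MulChar F ℂ)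
    (hα : α ^ 2 = 1) (hα1 : α ≠ 1) :
    ∃ χ₁ χ₂ : Matrix.SpecialLinearGroup (Fin 2) F → ℂ, Cfsg.IsIrrCharacter (Matrix.SpecialLinearGroup (Fin 2) F) χ₁ ∧ Cfsg.IsIrrCharacter (Matrix.SpecialLinearGroup (Fin 2) F) χ₂ ∧ χ₁ ≠ χ₂ ∧
      Cfsg.indFun ((Cfsg.upperTriangularGL 2 F).comap Matrix.SpecialLinearGroup.toGL) (fun b => α (((b : Matrix.SpecialLinearGroup (Fin 2) F) : Matrix (Fin 2) (Fin 2) F) 0 0)) = χ₁ + χ₂ ∧
      χ₁ 1 = (((Fintype.card F + 1) / 2 : ℕ) : ℂ) ∧ χ₂ 1 = (((Fintype.card F + 1) / 2 : ℕ) : ℂ) ∧
      ∃ x : Matrix.GeneralLinearGroup (Fin 2) F, ∀ g h : Matrix.SpecialLinearGroup (Fin 2) F,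
        Matrix.SpecialLinearGroup.toGL h = x * Matrix.SpecialLinearGroup.toGL g * x⁻¹ → χ₂ h = χ₁ g := by
  obtain ⟨a, b, ha, hb, hne, hsum, ha1, hb1, hswap⟩ := SL2.induced_sgn_split hodd α hα hα1
  refine ⟨a, b, ha, hb, hne, hsum, by rw [SL2.half_add hodd]; exact ha1,
    by rw [SL2.half_add hodd]; exact hb1, ?_⟩
  let ν := SL2.nsqU (F := F) hodd
  let d : Matrix.GeneralLinearGroup (Fin 2) F :=
    Matrix.GeneralLinearGroup.mkOfDetNeZero !![(ν : F), 0; 0, 1] (by simp [Matrix.det_fin_two_of])
  refine ⟨d⁻¹, fun g h e => ?_⟩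
  rw [← hswap h]
  congr 1
  have e' : d * Matrix.SpecialLinearGroup.toGL h = Matrix.SpecialLinearGroup.toGL g * d := by
    rw [e]; group
  have em := congrArg (fun x : Matrix.GeneralLinearGroup (Fin 2) F => (x : Matrix (Fin 2) (Fin 2) F)) e'
  have hν : (ν : F) ≠ 0 := ν.ne_zero
  apply SL2.ext4
  all_goals
    first
      | (have := congrFun (congrFun em 0) 0
         simp [d, Matrix.mul_apply, Fin.sum_univ_two, SL2.coe_diagAut, hν, ν] at this ⊢
         first | exact this | exact this.symm | linear_combination this | (field_simp at this ⊢; linear_combination this))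
      | (have := congrFun (congrFun em 0) 1
         simp [d, Matrix.mul_apply, Fin.sum_univ_two, SL2.coe_diagAut, hν, ν] at this ⊢
         first | exact this | exact this.symm | linear_combination this | (field_simp at this ⊢; linear_combination this))
      | (have := congrFun (congrFun em 1) 0
         simp [d, Matrix.mul_apply, Fin.sum_univ_two, SL2.coe_diagAut, hν, ν] at this ⊢
         first | exact this | exact this.symm | linear_combination this | (field_simp at this ⊢; linear_combination this))
      | (have := congrFun (congrFun em 1) 1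
         simp [d, Matrix.mul_apply, Fin.sum_univ_two, SL2.coe_diagAut, hν, ν] at this ⊢
         first | exact this | exact this.symm | linear_combination this | (field_simp at this ⊢; linear_combination this))

end Cfsg.Agent.S2307
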