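import Cfsg.Statements.S2308
import Cfsg.Agent.Lib.SL2.GLTable

set_option autoImplicit false
open Cfsg

namespace Cfsg.Agent.S2308

/-- Values of the permutation character of GL₂ over a finite field F with q elements on the cosets of its upper triangular subgroup (equivalently, the number of lines of F² that an element maps to themselves): q + 1 at a scalar matrix, 2 at a diagonal matrix with two different diagonal entries, 0 at an element with no eigenvector in F², and 1 at an upper triangular matrix with equal diagonal entries and non-zero upper right entry. -/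
theorem result {F : Type*} [Field F] [Fintype F] (g : Matrix.GeneralLinearGroup (Fin 2) F) :
    ((∃ a : F, (g : Matrix (Fin 2) (Fin 2) F) = a • (1 : Matrix (Fin 2) (Fin 2) F)) → Cfsg.fixedPointCharacter (Cfsg.upperTriangularGL 2 F) g = Fintype.card F + 1) ∧
    ((g : Matrix (Fin 2) (Fin 2) F) 0 1 = 0 → (g : Matrix (Fin 2) (Fin 2) F) 1 0 = 0 → (g : Matrix (Fin 2) (Fin 2) F) 0 0 ≠ (g : Matrix (Fin 2) (Fin 2) F) 1 1 →
      Cfsg.fixedPointCharacter (Cfsg.upperTriangularGL 2 F) g = 2) ∧
    ((∀ (c : F) (v : Fin 2 → F), v ≠ 0 → (g : Matrix (Fin 2) (Fin 2) F).mulVec v ≠ c • v) → Cfsg.fixedPointCharacter (Cfsg.upperTriangularGL 2 F) g = 0) ∧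
    ((g : Matrix (Fin 2) (Fin 2) F) 1 0 = 0 → (g : Matrix (Fin 2) (Fin 2) F) 0 0 = (g : Matrix (Fin 2) (Fin 2) F) 1 1 → (g : Matrix (Fin 2) (Fin 2) F) 0 1 ≠ 0 →
      Cfsg.fixedPointCharacter (Cfsg.upperTriangularGL 2 F) g = 1) := by
  classical
  have hd := GL2T.det_ne g
  refine ⟨?_, ?_, ?_, ?_⟩
  · rintro ⟨a, ha⟩
    simp [ha] at hd
    rw [GL2T.fixedPointCharacter_eq, GL2T.princ_apply, ha]
    simp [mul_comm, MulChar.one_apply (Ne.isUnit hd)]
    ring
  · intro h01 h10 hne
    rw [h01, zero_mul, sub_zero] at hd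
    rw [GL2T.fixedPointCharacter_eq, GL2T.princ_diag _ _ h01 h10 hne,
      MulChar.one_apply (left_ne_zero_of_mul hd).isUnit,
      MulChar.one_apply (right_ne_zero_of_mul hd).isUnit]
    norm_num
  · intro hg
    rw [GL2T.fixedPointCharacter_eq, GL2T.princ_noEig _ _ hg]
  · intro h10 he h01
    rw [h10, mul_zero, sub_zero] at hd
    rw [GL2T.fixedPointCharacter_eq, GL2T.princ_transvection _ _ h10 he h01,
      MulChar.one_apply (left_ne_zero_of_mul hd).isUnit, one_mul]

end Cfsg.Agent.S2308
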