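import Cfsg.Statements.S2309
import Cfsg.Agent.Lib.SL2.GLTable

set_option autoImplicit false
open Cfsg

namespace Cfsg.Agent.S2309

/-- Over a finite field F with q elements: every irreducible complex character of GL₂ of degree q − 1 vanishes at every diagonal matrix with two distinct entries, and every irreducible complex character of degree q + 1 vanishes at every element with no eigenvector in F². -/
theorem result {F : Type*} [Field F] [Fintype F] (χ : Matrix.GeneralLinearGroup (Fin 2) F → ℂ) (hχ : Cfsg.IsIrrCharacter (Matrix.GeneralLinearGroup (Fin 2) F) χ) (g : Matrix.GeneralLinearGroup (Fin 2) F) :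
    (χ 1 = (Fintype.card F : ℂ) - 1 → (g : Matrix (Fin 2) (Fin 2) F) 0 1 = 0 → (g : Matrix (Fin 2) (Fin 2) F) 1 0 = 0 → (g : Matrix (Fin 2) (Fin 2) F) 0 0 ≠ (g : Matrix (Fin 2) (Fin 2) F) 1 1 → χ g = 0) ∧
    (χ 1 = (Fintype.card F : ℂ) + 1 → (∀ (c : F) (v : Fin 2 → F), v ≠ 0 → (g : Matrix (Fin 2) (Fin 2) F).mulVec v ≠ c • v) → χ g = 0) := by
  classical
  have hq : (2 : ℝ) ≤ Fintype.card F := by exact_mod_cast GL2T.two_le_q (F := F)
  constructor
  · intro hdeg h01 h10 hne
    have hd := GL2T.det_ne g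
    rw [h01, zero_mul, sub_zero] at hd
    have h3 : 3 ≤ Fintype.card F := by
      have h : ({0, (g : Matrix (Fin 2) (Fin 2) F) 0 0, (g : Matrix (Fin 2) (Fin 2) F) 1 1} :
          Finset F).card ≤ Fintype.card F := Finset.card_le_univ _
      rwa [Finset.card_insert_of_notMem (by
        simp [(left_ne_zero_of_mul hd).symm, (right_ne_zero_of_mul hd).symm]),
        Finset.card_pair hne] at h
    rcases (GL2T.table (F := F)).1 ⟨χ, hχ⟩ with ⟨μ, e⟩ | ⟨μ, e⟩ | ⟨α, β, -, e⟩ | ⟨hc, -⟩
    · change χ = _ at e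
      rw [e, GL2T.detChar_apply] at hdeg
      simp [GL2T.dt] at hdeg
      have hdeg' : ((2 : ℕ) : ℂ) = (Fintype.card F : ℕ) := by push_cast; linear_combination hdeg
      exact absurd (Nat.cast_inj.1 hdeg') (by omega)
    · change χ = _ at e
      rw [e, GL2T.st_one] at hdeg
      exact absurd (show (1 : ℂ) = 0 by linear_combination hdeg) one_ne_zero
    · change χ = _ at e
      rw [e, GL2T.princ_one] at hdeg
      exfalso
      have : (2 : ℂ) = 0 := by linear_combination hdeg
      norm_num at this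
    · exact GL2T.cusp_diag hχ hc h01 h10 hne
  · intro hdeg hg
    rcases (GL2T.table (F := F)).1 ⟨χ, hχ⟩ with ⟨μ, e⟩ | ⟨μ, e⟩ | ⟨α, β, -, e⟩ | ⟨-, h⟩
    · change χ = _ at e
      rw [e, GL2T.detChar_apply] at hdeg
      simp [GL2T.dt] at hdeg
    · change χ = _ at e
      rw [e, GL2T.st_one] at hdeg
      simp at hdeg
    · change χ = _ at e
      rw [e, GL2T.princ_noEig _ _ hg]
    · change χ 1 = _ at h
      rw [h] at hdeg
      exfalso
      have : (2 : ℂ) = 0 := by linear_combination -hdeg
      norm_num at this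

end Cfsg.Agent.S2309
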