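import Cfsg.Statements.S2310
import Cfsg.Agent.Lib.SL2.GLTable

set_option autoImplicit false
open Cfsg

namespace Cfsg.Agent.S2310

/-- Over a finite field F with q ≥ 3 elements, let u be the upper unitriangular matrix of GL₂ with off-diagonal entry 1. An irreducible complex character χ of GL₂ takes at u the value 1 if χ has degree 1 or q + 1, the value −1 if χ has degree q − 1, and the value 0 if χ has degree q. -/
theorem result {F : Type*} [Field F] [Fintype F] (hq : 3 ≤ Fintype.card F) (χ : Matrix.GeneralLinearGroup (Fin 2) F → ℂ) (hχ : Cfsg.IsIrrCharacter (Matrix.GeneralLinearGroup (Fin 2) F) χ)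
    (u : Matrix.GeneralLinearGroup (Fin 2) F) (hu : (u : Matrix (Fin 2) (Fin 2) F) = !![1, 1; 0, 1]) :
    (χ 1 = 1 → χ u = 1) ∧ (χ 1 = (Fintype.card F : ℂ) + 1 → χ u = 1) ∧
    (χ 1 = (Fintype.card F : ℂ) - 1 → χ u = -1) ∧ (χ 1 = (Fintype.card F : ℂ) → χ u = 0) := by
  classical
  have hne : ∀ n m : ℕ, n ≠ m → (n : ℂ) ≠ (m : ℂ) := fun n m h e => h (Nat.cast_inj.1 e)
  have hu' : u = GL2T.uu1 F := Units.ext hu
  subst hu'
  have h1 : GL2T.dt (GL2T.uu1 F) = 1 := by simp [GL2T.dt, GL2T.uu1]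
  have hp : ∀ α β : MulChar F ℂ, GL2T.princ α β (GL2T.uu1 F) = 1 := fun α β => by
    rw [GL2T.princ_transvection α β (by simp [GL2T.uu1]) (by simp [GL2T.uu1])
      (by simp [GL2T.uu1])]
    simp [GL2T.uu1]
  obtain ⟨j, hj⟩ : ∃ j, Fintype.card F = j + 1 := ⟨Fintype.card F - 1, by omega⟩
  have e1 : (Fintype.card F : ℂ) - 1 = (j : ℕ) := by rw [hj]; push_cast; ring
  have e2 : (Fintype.card F : ℂ) + 1 = ((j + 2 : ℕ) : ℂ) := by rw [hj]; push_cast; ring
  have e0 : (1 : ℂ) = ((1 : ℕ) : ℂ) := Nat.cast_one.symm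
  rcases (GL2T.table (F := F)).1 ⟨χ, hχ⟩ with ⟨μ, e⟩ | ⟨μ, e⟩ | ⟨α, β, -, e⟩ | ⟨hc, h⟩
  · change χ = _ at e
    have hd : χ 1 = 1 := by rw [e, GL2T.detChar_apply]; simp [GL2T.dt]
    have hv : χ (GL2T.uu1 F) = 1 := by rw [e, GL2T.detChar_apply, h1, map_one]
    refine ⟨fun _ => hv, fun _ => hv, fun hh => ?_, fun hh => ?_⟩ <;> rw [hd] at hh
    · rw [e1, e0] at hh; exact absurd hh (hne _ _ (by omega))
    · rw [e0] at hh; exact absurd hh (hne _ _ (by omega))
  · change χ = _ at e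
    have hd : χ 1 = (Fintype.card F : ℂ) := by rw [e, GL2T.st_one]
    have hv : χ (GL2T.uu1 F) = 0 := by
      rw [e, GL2T.st, Pi.sub_apply, hp, GL2T.detChar_apply, h1, map_one, sub_self]
    refine ⟨fun hh => ?_, fun hh => ?_, fun hh => ?_, fun _ => hv⟩ <;> rw [hd] at hh
    · rw [e0] at hh; exact absurd hh (hne _ _ (by omega))
    · rw [e2] at hh; exact absurd hh (hne _ _ (by omega))
    · rw [e1] at hh; exact absurd hh (hne _ _ (by omega))
  · change χ = _ at e
    have hd : χ 1 = ((j + 2 : ℕ) : ℂ) := by rw [e, GL2T.princ_one, e2]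
    have hv : χ (GL2T.uu1 F) = 1 := by rw [e, hp]
    refine ⟨fun hh => ?_, fun _ => hv, fun hh => ?_, fun hh => ?_⟩ <;> rw [hd] at hh
    · rw [e0] at hh; exact absurd hh (hne _ _ (by omega))
    · rw [e1] at hh; exact absurd hh (hne _ _ (by omega))
    · exact absurd hh (hne _ _ (by omega))
  · change χ 1 = _ at h
    have hd : χ 1 = (j : ℕ) := by rw [h, e1]
    have hv : χ (GL2T.uu1 F) = -1 := by
      have hx := GL2T.cusp_transvection hχ hc
      rw [h] at hx
      exact mul_left_cancel₀ (GL2T.q_sub_one_ne (F := F)) (by linear_combination hx)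
    refine ⟨fun hh => ?_, fun hh => ?_, fun _ => hv, fun hh => ?_⟩ <;> rw [hd] at hh
    · rw [e0] at hh; exact absurd hh (hne _ _ (by omega))
    · rw [e2] at hh; exact absurd hh (hne _ _ (by omega))
    · exact absurd hh (hne _ _ (by omega))

end Cfsg.Agent.S2310
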