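import Cfsg.Statements.S2315
import Mathlib.LinearAlgebra.Matrix.GeneralLinearGroup.Card
import Mathlib

set_option autoImplicit false
open Cfsg

namespace Cfsg.Agent.S2315


open scoped Matrix

variable (F : Type*) [Field F]

/-- Nilpotent matrices. -/
abbrev Nil (n : ℕ) := {N : Matrix (Fin n) (Fin n) F // IsNilpotent N}

/-- Independent tuples. -/
abbrev Frame (n j : ℕ) := {e : Fin j → (Fin n → F) // LinearIndependent F e}

variable {F}

/-- `N` shifts the tuple `e`. -/
def Adapt {n j : ℕ} (N : Matrix (Fin n) (Fin n) F) (e : Fin j → (Fin n → F)) : Prop :=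
  ∀ i : Fin j, N *ᵥ e i = if h : (i : ℕ) + 1 < j then e ⟨(i : ℕ) + 1, h⟩ else 0

/-- The first vector of a tuple. -/
def firstVec {n j : ℕ} (e : Fin j → (Fin n → F)) : Fin n → F := if h : 0 < j then e ⟨0, h⟩ else 0

theorem adapt_pow {n j : ℕ} {N : Matrix (Fin n) (Fin n) F} {e : Fin j → (Fin n → F)} (h : Adapt N e) :
    (∀ i : Fin j, N ^ (i : ℕ) *ᵥ firstVec e = e i) ∧ N ^ j *ᵥ firstVec e = 0 := by
  have key : ∀ i, ∀ hi : i < j, N ^ i *ᵥ firstVec e = e ⟨i, hi⟩ := by
    intro i
    induction i with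
    | zero => intro hi; rw [pow_zero, Matrix.one_mulVec, firstVec, dif_pos hi]
    | succ i ih =>
      intro hi
      rw [pow_succ', ← Matrix.mulVec_mulVec, ih (by omega), h ⟨i, by omega⟩, dif_pos hi]
  refine ⟨fun i => key i i.2, ?_⟩
  rcases Nat.eq_zero_or_pos j with rfl | hj
  · rw [pow_zero, Matrix.one_mulVec, firstVec, dif_neg (by omega)]
  · obtain ⟨i, rfl⟩ : ∃ i, j = i + 1 := ⟨j - 1, by omega⟩
    rw [pow_succ', ← Matrix.mulVec_mulVec, key i (by omega), h ⟨i, by omega⟩, dif_neg (by simp)]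

/-- Pairs of a nilpotent matrix and a vector, sorted by the cyclic subspace. -/
abbrev Sorted (F : Type*) [Field F] (n : ℕ) :=
  Σ j : Fin (n + 1), Σ e : Frame F n j, {N : Nil F n // Adapt N.1 e.1}

theorem sorted_bij (n : ℕ) :
    Function.Bijective (fun x : Sorted F n => ((x.2.2.1, firstVec x.2.1.1) : Nil F n × (Fin n → F))) := by
  classical
  constructor
  · rintro ⟨j, e, N, hN⟩ ⟨j', e', N', hN'⟩ h
    obtain ⟨h1, h2⟩ := Prod.ext_iff.1 h
    dsimp only at h1 h2
    subst h1
    obtain ⟨p1, p2⟩ := adapt_pow hN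
    obtain ⟨p1', p2'⟩ := adapt_pow hN'
    have hjj : (j : ℕ) = j' := by
      rcases lt_trichotomy (j : ℕ) j' with hl | hl | hl
      · exact absurd ((p1' ⟨j, hl⟩).symm.trans (by rw [← h2]; exact p2)) (e'.2.ne_zero _)
      · exact hl
      · exact absurd ((p1 ⟨j', hl⟩).symm.trans (by rw [h2]; exact p2')) (e.2.ne_zero _)
    have hj : j = j' := Fin.ext hjj
    subst hj
    have he : e = e' := Subtype.ext (funext fun i => by rw [← p1, ← p1', h2])
    subst he
    rfl
  · rintro ⟨N, v⟩
    have hex : ∃ k, N.1 ^ k *ᵥ v = 0 := by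
      obtain ⟨k, hk⟩ := N.2
      exact ⟨k, by rw [hk, Matrix.zero_mulVec]⟩
    let j := Nat.find hex
    have hmax : ∀ k, j ≤ k → N.1 ^ k *ᵥ v = 0 := fun k hk => by
      obtain ⟨d, rfl⟩ := Nat.exists_eq_add_of_le' hk
      rw [pow_add, ← Matrix.mulVec_mulVec, Nat.find_spec hex, Matrix.mulVec_zero]
    have hli : LinearIndependent F (fun i : Fin j => N.1 ^ (i : ℕ) *ᵥ v) := by
      rw [Fintype.linearIndependent_iff]
      intro c hc i
      induction hi : (i : ℕ) using Nat.strong_induction_on generalizing i with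
      | _ k ih =>
        subst hi
        have h1 := congrArg (fun w => N.1 ^ (j - 1 - (i : ℕ)) *ᵥ w) hc
        simp only [Matrix.mulVec_sum, Matrix.mulVec_smul, Matrix.mulVec_mulVec, ← pow_add,
          Matrix.mulVec_zero] at h1
        rw [Finset.sum_eq_single i] at h1
        · rcases smul_eq_zero.1 h1 with h2 | h2
          · exact h2
          · have := Nat.find_min' hex h2
            have := i.2
            omega
        · intro l _ hl
          rcases lt_or_gt_of_ne hl with hlt | hlt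
          · rw [ih l hlt l rfl, zero_smul]
          · have := l.2
            have : (i : ℕ) < (l : ℕ) := hlt
            rw [hmax _ (by omega), smul_zero]
        · simp
    have hjn : j ≤ n := by
      have := hli.fintype_card_le_finrank
      simpa using this
    refine ⟨⟨⟨j, Nat.lt_succ_of_le hjn⟩, ⟨_, hli⟩, N, fun i => ?_⟩, Prod.ext rfl ?_⟩
    · show N.1 *ᵥ (N.1 ^ (i : ℕ) *ᵥ v) = _
      rw [Matrix.mulVec_mulVec, ← pow_succ']
      split_ifs with h
      · rfl
      · exact hmax _ (by simpa using h)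
    · show firstVec (fun i : Fin j => N.1 ^ (i : ℕ) *ᵥ v) = v
      unfold firstVec
      split_ifs with h
      · simp
      · have := Nat.find_spec hex
        rw [show Nat.find hex = 0 by omega, pow_zero, Matrix.one_mulVec] at this
        exact this.symm

/-- The shift block. -/
def shiftBlock (F : Type*) [Field F] (j : ℕ) : Matrix (Fin j) (Fin j) F :=
  fun a i => if (a : ℕ) = i + 1 then 1 else 0

theorem shiftBlock_pow (j : ℕ) : shiftBlock F j ^ j = 0 := by
  have key : ∀ k (a i : Fin j), (a : ℕ) < i + k → (shiftBlock F j ^ k) a i = 0 := by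
    intro k
    induction k with
    | zero =>
      intro a i h
      rw [pow_zero, Matrix.one_apply_ne]
      intro e; subst e; omega
    | succ k ih =>
      intro a i h
      rw [pow_succ, Matrix.mul_apply]
      refine Finset.sum_eq_zero fun l _ => ?_
      by_cases hl : (l : ℕ) = i + 1
      · rw [ih a l (by omega), zero_mul]
      · rw [shiftBlock, if_neg hl, mul_zero]
  ext a i
  exact key j a i (by have := a.2; omega)

theorem fromBlocks_pow {α β : Type*} [Fintype α] [Fintype β] [DecidableEq α] [DecidableEq β] (S : Matrix α α F)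
    (X : Matrix α β F) (Y : Matrix β β F) (k : ℕ) :
    ∃ Z, Matrix.fromBlocks S X 0 Y ^ k = Matrix.fromBlocks (S ^ k) Z 0 (Y ^ k) := by
  induction k with
  | zero => exact ⟨0, by rw [pow_zero, pow_zero, pow_zero, Matrix.fromBlocks_one]⟩
  | succ k ih =>
    obtain ⟨Z, hZ⟩ := ih
    exact ⟨S ^ k * X + Z * Y, by rw [pow_succ, hZ, Matrix.fromBlocks_multiply, pow_succ, pow_succ]; simp⟩

/-- The standard fibre. -/
abbrev Std (F : Type*) [Field F] (j m : ℕ) :=
  {M : Matrix (Fin j ⊕ Fin m) (Fin j ⊕ Fin m) F //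
    IsNilpotent M ∧ M.toBlocks₁₁ = shiftBlock F j ∧ M.toBlocks₂₁ = 0}

/-- The standard fibre as a product. -/
def stdEquiv (j m : ℕ) : Std F j m ≃ Matrix (Fin j) (Fin m) F × Nil F m where
  toFun M := (M.1.toBlocks₁₂, ⟨M.1.toBlocks₂₂, by
    obtain ⟨⟨k, hk⟩, -, h2⟩ := M.2
    rw [← Matrix.fromBlocks_toBlocks M.1, h2] at hk
    obtain ⟨Z, hZ⟩ := fromBlocks_pow M.1.toBlocks₁₁ M.1.toBlocks₁₂ M.1.toBlocks₂₂ k
    rw [hZ, ← Matrix.fromBlocks_zero] at hk
    exact ⟨k, (Matrix.fromBlocks_inj.1 hk).2.2.2⟩⟩)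
  invFun x := ⟨Matrix.fromBlocks (shiftBlock F j) x.1 0 x.2.1, by
    obtain ⟨k, hk⟩ := x.2.2
    refine ⟨⟨(j + k) + (j + k), ?_⟩, by simp, by simp⟩
    obtain ⟨Z, hZ⟩ := fromBlocks_pow (shiftBlock F j) x.1 x.2.1 (j + k)
    have h1 : shiftBlock F j ^ (j + k) = 0 := by rw [pow_add, shiftBlock_pow, zero_mul]
    have h2 : x.2.1 ^ (j + k) = 0 := by rw [pow_add, hk, mul_zero]
    rw [h1, h2] at hZ
    rw [pow_add, hZ, Matrix.fromBlocks_multiply]
    simp⟩
  left_inv M := Subtype.ext (by
    show Matrix.fromBlocks _ _ _ _ = M.1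
    conv_rhs => rw [← Matrix.fromBlocks_toBlocks M.1, M.2.2.1, M.2.2.2])
  right_inv x := Prod.ext (by simp) (Subtype.ext (by simp))

theorem fibre_card [Fintype F] {n : ℕ} (j : ℕ) (e : Frame F n j) :
    Nat.card {N : Nil F n // Adapt N.1 e.1} =
      Fintype.card F ^ (j * (n - j)) * Nat.card (Nil F (n - j)) := by
  classical
  let b0 := Module.Basis.sumExtend e.2
  haveI : Finite (Fin j ⊕ Module.Basis.sumExtendIndex e.2) := Module.Finite.finite_basis b0
  haveI : Finite (Module.Basis.sumExtendIndex e.2) :=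
    Finite.of_injective (Sum.inr : _ → Fin j ⊕ Module.Basis.sumExtendIndex e.2) Sum.inr_injective
  haveI := Fintype.ofFinite (Module.Basis.sumExtendIndex e.2)
  have hc : Fintype.card (Module.Basis.sumExtendIndex e.2) = n - j := by
    have := Module.finrank_eq_card_basis b0
    rw [Module.finrank_fin_fun, Fintype.card_sum, Fintype.card_fin] at this
    omega
  let b := b0.reindex (Equiv.sumCongr (Equiv.refl (Fin j)) (Fintype.equivFinOfCardEq hc))
  have hb : ∀ i, b (.inl i) = e.1 i := fun i => by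
    simp [b, b0, Module.Basis.sumExtend]
    rfl
  let Ψ : Matrix (Fin n) (Fin n) F ≃ₐ[F] Matrix (Fin j ⊕ Fin (n - j)) (Fin j ⊕ Fin (n - j)) F :=
    Matrix.toLinAlgEquiv'.trans (LinearMap.toMatrixAlgEquiv b)
  have hΨ : ∀ N a i, Ψ N a (.inl i) = b.repr (N *ᵥ e.1 i) a := fun N a i => by
    show LinearMap.toMatrixAlgEquiv b (Matrix.toLinAlgEquiv' N) a (.inl i) = _
    rw [LinearMap.toMatrixAlgEquiv_apply, hb, Matrix.toLinAlgEquiv'_apply]
  have hnil : ∀ N, IsNilpotent (Ψ N) ↔ IsNilpotent N := fun N =>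
    ⟨fun h => by simpa using h.map Ψ.symm, fun h => h.map Ψ⟩
  have hadapt : ∀ N : Matrix (Fin n) (Fin n) F, Adapt N e.1 ↔
      ((Ψ N).toBlocks₁₁ = shiftBlock F j ∧ (Ψ N).toBlocks₂₁ = 0) := by
    intro N
    have hv : ∀ i : Fin j, (if h : (i : ℕ) + 1 < j then e.1 ⟨(i : ℕ) + 1, h⟩ else 0) =
        b.repr.symm (Finsupp.equivFunOnFinite.symm (Sum.elim (fun a => shiftBlock F j a i) 0)) := by
      intro i
      apply b.repr.injective
      rw [LinearEquiv.apply_symm_apply]
      ext a
      split_ifs with h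
      · rw [← hb, Module.Basis.repr_self, Finsupp.single_apply]
        cases a with
        | inl a =>
          simp only [Finsupp.coe_equivFunOnFinite_symm, Sum.elim_inl, shiftBlock, Sum.inl.injEq, Fin.ext_iff]
          exact if_congr eq_comm rfl rfl
        | inr a => simp
      · cases a with
        | inl a =>
          simp only [map_zero, Finsupp.coe_zero, Pi.zero_apply, Finsupp.coe_equivFunOnFinite_symm,
            Sum.elim_inl, shiftBlock]
          rw [if_neg (by omega)]
        | inr a => simp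
    constructor
    · intro h
      refine ⟨?_, ?_⟩ <;> ext a i <;> simp [Matrix.toBlocks₁₁, Matrix.toBlocks₂₁, hΨ, h i, hv]
    · rintro ⟨h1, h2⟩ i
      rw [hv]
      apply b.repr.injective
      rw [LinearEquiv.apply_symm_apply]
      ext a
      rw [← hΨ]
      cases a with
      | inl a => simpa [Matrix.toBlocks₁₁] using congrFun (congrFun h1 a) i
      | inr a => simpa [Matrix.toBlocks₂₁] using congrFun (congrFun h2 a) i
  let E : {N : Nil F n // Adapt N.1 e.1} ≃ Std F j (n - j) :=
    (Equiv.subtypeSubtypeEquivSubtypeInter (fun N => IsNilpotent N) (fun N => Adapt N e.1)).trans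
      (Ψ.toEquiv.subtypeEquiv fun N => and_congr (hnil N).symm (hadapt N))
  rw [Nat.card_congr (E.trans (stdEquiv j (n - j))), Nat.card_prod]
  congr 1
  rw [show Nat.card (Matrix (Fin j) (Fin (n - j)) F) = Nat.card (Fin j → Fin (n - j) → F) from rfl, Nat.card_fun, Nat.card_fun,
    Nat.card_fin, Nat.card_fin, Nat.card_eq_fintype_card, ← pow_mul, mul_comm (n - j)]

theorem identity (q n : ℕ) (hq : 1 ≤ q) :
    ∑ j ∈ Finset.range (n + 1), (∏ i : Fin j, (q ^ n - q ^ (i : ℕ))) * q ^ ((n - j) * (n - 1)) = q ^ (n * n) := by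
  set f : ℕ → ℕ := fun j => ∏ i : Fin j, (q ^ n - q ^ (i : ℕ)) with hf
  have key : ∀ m, m ≤ n →
      ∑ j ∈ Finset.range m, f j * q ^ ((n - j) * (n - 1)) + f m * q ^ ((n - m) * n) = q ^ (n * n) := by
    intro m
    induction m with
    | zero => intro _; simp [f]
    | succ m ih =>
      intro hm
      rw [← ih (by omega), Finset.sum_range_succ, add_assoc]
      congr 1
      have hfs : f (m + 1) = f m * (q ^ n - q ^ m) := by
        simp only [f, Fin.prod_univ_castSucc, Fin.val_castSucc, Fin.val_last]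
      obtain ⟨d, hd⟩ := Nat.exists_eq_add_of_le hm
      subst hd
      rw [hfs, show m + 1 + d - m = d + 1 by omega, show m + 1 + d - (m + 1) = d by omega,
        show m + 1 + d - 1 = m + d by omega]
      have h2 : q ^ ((d + 1) * (m + d)) = q ^ m * q ^ (d * (m + 1 + d)) := by rw [← pow_add]; ring_nf
      have h3 : q ^ ((d + 1) * (m + 1 + d)) = q ^ (m + 1 + d) * q ^ (d * (m + 1 + d)) := by
        rw [← pow_add]; ring_nf
      rw [h2, h3, mul_assoc (f m), ← mul_add, ← add_mul,
        Nat.add_sub_cancel' (Nat.pow_le_pow_right hq (by omega))]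
  rw [Finset.sum_range_succ]
  have := key n le_rfl
  simpa using this

theorem card_nil [Fintype F] (n : ℕ) : Nat.card (Nil F n) = Fintype.card F ^ (n * (n - 1)) := by
  classical
  induction n using Nat.strong_induction_on with
  | _ n ih =>
  rcases Nat.eq_zero_or_pos n with rfl | hn
  · haveI : Unique (Nil F 0) :=
      { default := ⟨0, IsNilpotent.zero⟩
        uniq := fun N => Subtype.ext (Subsingleton.elim _ _) }
    simp
  set q := Fintype.card F with hqdef
  have hcount : Nat.card (Nil F n) * q ^ n = ∑ j ∈ Finset.range (n + 1),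
      (∏ i : Fin j, (q ^ n - q ^ (i : ℕ))) * (q ^ (j * (n - j)) * Nat.card (Nil F (n - j))) := by
    have h := Nat.card_congr (Equiv.ofBijective _ (sorted_bij (F := F) n))
    rw [Nat.card_prod, Nat.card_fun, Nat.card_fin, Nat.card_eq_fintype_card (α := F), Nat.card_sigma] at h
    rw [← h, Finset.sum_range (f := fun j => (∏ i : Fin j, (q ^ n - q ^ (i : ℕ))) *
      (q ^ (j * (n - j)) * Nat.card (Nil F (n - j))))]
    refine Finset.sum_congr rfl fun j _ => ?_
    rw [Nat.card_sigma, Finset.sum_congr rfl (fun e _ => fibre_card (j : ℕ) e), Finset.sum_const, Finset.card_univ,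
      smul_eq_mul]
    congr 1
    have hcard := card_linearIndependent (K := F) (V := Fin n → F) (k := (j : ℕ))
      (by simp only [Module.finrank_fin_fun]; omega)
    rw [Nat.card_eq_fintype_card, Module.finrank_fin_fun] at hcard
    convert hcard using 1
  have hid := identity q n Fintype.card_pos
  rw [Finset.sum_range_succ'] at hcount hid
  have hrest : ∀ j ∈ Finset.range n,
      (∏ i : Fin (j + 1), (q ^ n - q ^ (i : ℕ))) * (q ^ ((j + 1) * (n - (j + 1))) * Nat.card (Nil F (n - (j + 1)))) =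
        (∏ i : Fin (j + 1), (q ^ n - q ^ (i : ℕ))) * q ^ ((n - (j + 1)) * (n - 1)) := by
    intro j hj
    simp only [Finset.mem_range] at hj
    rw [ih _ (by omega), ← pow_add]
    obtain ⟨d, rfl⟩ := Nat.exists_eq_add_of_le hj
    congr 2
    rw [show j.succ + d - (j + 1) = d by omega, show j.succ + d - 1 = j + d by omega]
    rcases Nat.eq_zero_or_pos d with rfl | hd
    · simp
    · obtain ⟨c, rfl⟩ : ∃ c, d = c + 1 := ⟨d - 1, by omega⟩
      simp only [Nat.add_sub_cancel]
      ring
  rw [Finset.sum_congr rfl hrest] at hcount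
  simp only [Finset.univ_eq_empty, Finset.prod_empty, one_mul, Nat.sub_zero, zero_mul, pow_zero] at hcount hid
  have hsq : n * n = n * (n - 1) + n := by
    obtain ⟨m, rfl⟩ : ∃ m, n = m + 1 := ⟨n - 1, by omega⟩
    simp only [Nat.add_sub_cancel]; ring
  rw [hsq, pow_add] at hid
  have hq2 : 2 ≤ q ^ n :=
    le_trans Fintype.one_lt_card (Nat.le_self_pow hn.ne' q)
  set R := Nat.card (Nil F n)
  set A := q ^ (n * (n - 1))
  rcases lt_trichotomy R A with hl | hl | hl
  · obtain ⟨d, hd, hd'⟩ : ∃ d, 0 < d ∧ A = R + d := ⟨A - R, by omega, by omega⟩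
    rw [hd', add_mul] at hid
    have : d * 2 ≤ d * q ^ n := Nat.mul_le_mul_left _ hq2
    omega
  · exact hl
  · obtain ⟨d, hd, hd'⟩ : ∃ d, 0 < d ∧ R = A + d := ⟨R - A, by omega, by omega⟩
    rw [hd', add_mul] at hcount
    have : d * 2 ≤ d * q ^ n := Nat.mul_le_mul_left _ hq2
    omega

/-- Steinberg's count of unipotent elements for the general linear group: over a finite field with q elements of characteristic p, the number of elements of GL_n of p-power order (the unipotent matrices) is q^(n(n−1)). -/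
theorem result {F : Type*} [Field F] [Fintype F] (p : ℕ) [Fact p.Prime] [CharP F p] (n : ℕ) :
    Nat.card {g : Matrix.GeneralLinearGroup (Fin n) F // ∃ k : ℕ, orderOf g = p ^ k} = Fintype.card F ^ (n * (n - 1)) := by
  classical
  rw [← card_nil (F := F) n]
  have hsub : ∀ (A : Matrix (Fin n) (Fin n) F) (j : ℕ), (A - 1) ^ (p ^ j) = A ^ (p ^ j) - 1 := fun A j => by
    have h : ((Polynomial.X : Polynomial F) - 1) ^ (p ^ j) = Polynomial.X ^ (p ^ j) - 1 := by
      rw [sub_pow_char_pow, one_pow]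
    simpa using congrArg (Polynomial.aeval A) h
  refine Nat.card_congr (Equiv.ofBijective (fun g => ⟨g.1.1 - 1, ?_⟩) ⟨?_, ?_⟩)
  · obtain ⟨j, hj⟩ := g.2
    exact ⟨p ^ j, by rw [hsub, ← Units.val_pow_eq_pow_val, ← hj, pow_orderOf_eq_one, Units.val_one, sub_self]⟩
  · intro g h e
    exact Subtype.ext (Units.ext (sub_left_inj.1 (congrArg Subtype.val e)))
  · rintro ⟨N, k, hk⟩
    have hN : (N + 1) ^ (p ^ k) = 1 := by
      rw [← sub_eq_zero, ← hsub, add_sub_cancel_right]
      exact pow_eq_zero_of_le (Nat.lt_pow_self (Fact.out : p.Prime).one_lt).le hk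
    let g : GL (Fin n) F := Units.ofPowEqOne (N + 1) (p ^ k) hN (pow_ne_zero _ (Fact.out : p.Prime).ne_zero)
    refine ⟨⟨g, ?_⟩, Subtype.ext (show N + 1 - 1 = N from add_sub_cancel_right _ _)⟩
    obtain ⟨i, -, hi⟩ := (Nat.dvd_prime_pow (Fact.out : p.Prime)).1
      (orderOf_dvd_of_pow_eq_one (Units.pow_ofPowEqOne _ _) : orderOf g ∣ p ^ k)
    exact ⟨i, hi⟩

end Cfsg.Agent.S2315
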