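import Cfsg.Statements.S2316
import Cfsg.Agent.Lib.Forms.SpUnipotent

set_option autoImplicit false
open Cfsg

namespace Cfsg.Agent.S2316

open Cfsg.Agent.SpUnipotent Cfsg.Agent.FormsLib Matrix

/-- `∏_{i<k} (q^(2(m-i)) - 1)`. -/
def P (q : ℚ) : ℕ → ℕ → ℚ
  | _, 0 => 1
  | 0, _ + 1 => 0
  | m + 1, k + 1 => (q ^ (2 * m + 2) - 1) * P q m k

/-- `∏_{i=1..k} (q^i - 1)`. -/
def D (q : ℚ) : ℕ → ℚ
  | 0 => 1
  | k + 1 => D q k * (q ^ (k + 1) - 1)

/-- Signed number of totally isotropic `k`-subspaces. -/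
def A (q : ℚ) (m k : ℕ) : ℚ := (-1) ^ k * P q m k / D q k

theorem P_zero (q : ℚ) (m : ℕ) : P q m 0 = 1 := by cases m <;> rfl

theorem P_succ_right (q : ℚ) : ∀ (k j : ℕ), P q (k + j) (k + 1) = P q (k + j) k * (q ^ (2 * j) - 1) := by
  intro k
  induction k with
  | zero =>
    intro j
    rw [zero_add, P_zero, one_mul]
    cases j with
    | zero => simp [P]
    | succ j => rw [P, P_zero, mul_one, show 2 * (j + 1) = 2 * j + 2 by ring]
  | succ k ih =>
    intro j
    rw [show k + 1 + j = (k + j) + 1 by ring, P, P, ih, mul_assoc]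

theorem P_vanish (q : ℚ) : ∀ (m k : ℕ), m < k → P q m k = 0 := by
  intro m
  induction m with
  | zero => intro k hk; obtain ⟨k, rfl⟩ := Nat.exists_eq_add_of_lt hk; simp [P]
  | succ m ih =>
    intro k hk
    obtain ⟨k, rfl⟩ := Nat.exists_eq_add_of_lt (show 0 < k by omega)
    rw [P, ih (0 + k) (by omega), mul_zero]

theorem D_ne (q : ℚ) (hq : 1 < q) : ∀ k, D q k ≠ 0 := by
  intro k
  induction k with
  | zero => exact one_ne_zero
  | succ k ih => exact mul_ne_zero ih (sub_ne_zero.mpr (one_lt_pow₀ hq (Nat.succ_ne_zero k)).ne')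

theorem A_rec (q : ℚ) (hq : 1 < q) (k j : ℕ) :
    A q (k + j + 1) (k + 1)
      = q ^ (k + 1) * A q (k + j) (k + 1) - (1 + q ^ (k + 2 * j + 1)) * A q (k + j) k := by
  simp only [A, D, P, P_succ_right, pow_succ (-1 : ℚ) k]
  have h1 := D_ne q hq k
  have h2 : q ^ (k + 1) - 1 ≠ 0 := sub_ne_zero.mpr (one_lt_pow₀ hq (Nat.succ_ne_zero k)).ne'
  field_simp
  ring

theorem sum_rec (q : ℚ) (hq : 1 < q) (m : ℕ) (f : ℕ → ℚ) :
    ∑ k ∈ Finset.range (m + 2), A q (m + 1) k * f k =
      ∑ k ∈ Finset.range (m + 1),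
        A q m k * (q ^ k * f k - (1 + q ^ (2 * m + 1 - k)) * f (k + 1)) := by
  have hA0 : ∀ n, A q n 0 = 1 := fun n => by simp [A, P_zero, D]
  rw [Finset.sum_range_succ', hA0]
  rw [Finset.sum_congr rfl (g := fun k => q ^ (k + 1) * A q m (k + 1) * f (k + 1)
      - A q m k * (1 + q ^ (2 * m + 1 - k)) * f (k + 1)) fun k hk => by
    obtain ⟨j, rfl⟩ := Nat.exists_eq_add_of_le (Nat.lt_succ_iff.mp (Finset.mem_range.mp hk))
    rw [A_rec q hq, show 2 * (k + j) + 1 - k = k + 2 * j + 1 by omega]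
    ring]
  rw [Finset.sum_sub_distrib]
  have hlast : A q m (m + 1) = 0 := by simp [A, P_vanish q m (m + 1) (Nat.lt_succ_self m)]
  have hshift : ∑ k ∈ Finset.range (m + 1), q ^ (k + 1) * A q m (k + 1) * f (k + 1) + 1 * f 0
      = ∑ k ∈ Finset.range (m + 1), A q m k * (q ^ k * f k) := by
    rw [Finset.sum_range_succ, hlast, mul_zero, zero_mul, add_zero,
      Finset.sum_range_succ' (fun k => A q m k * (q ^ k * f k)) m, hA0, pow_zero]
    congr 1
    · exact Finset.sum_congr rfl fun k _ => by ring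
    · ring
  simp only [mul_sub, Finset.sum_sub_distrib, ← mul_assoc]
  simp only [← mul_assoc] at hshift
  linear_combination hshift

theorem sum_sq (q : ℚ) (hq : 1 < q) : ∀ m,
    ∑ k ∈ Finset.range (m + 1), A q m k * q ^ ((m - k) ^ 2) = (-1) ^ m := by
  intro m
  induction m with
  | zero => simp [A, P, D]
  | succ m ih =>
    rw [sum_rec q hq m fun k => q ^ ((m + 1 - k) ^ 2), pow_succ, ← ih, Finset.sum_mul]
    refine Finset.sum_congr rfl fun k hk => ?_
    obtain ⟨j, rfl⟩ := Nat.exists_eq_add_of_le (Nat.lt_succ_iff.mp (Finset.mem_range.mp hk))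
    rw [show k + j + 1 - k = j + 1 by omega, show k + j - k = j by omega,
      show k + j + 1 - (k + 1) = j by omega, show 2 * (k + j) + 1 - k = k + 2 * j + 1 by omega]
    ring

theorem sum_choose (q : ℚ) (hq : 1 < q) : ∀ m,
    ∑ k ∈ Finset.range (m + 1), A q m k * q ^ k.choose 2 = (-1) ^ m * q ^ (m ^ 2) := by
  intro m
  induction m with
  | zero => simp [A, P, D]
  | succ m ih =>
    rw [sum_rec q hq m fun k => q ^ k.choose 2,
      show (-1 : ℚ) ^ (m + 1) * q ^ ((m + 1) ^ 2)
        = ((-1 : ℚ) ^ m * q ^ (m ^ 2)) * (-q ^ (2 * m + 1)) by ring, ← ih, Finset.sum_mul]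
    refine Finset.sum_congr rfl fun k hk => ?_
    obtain ⟨j, rfl⟩ := Nat.exists_eq_add_of_le (Nat.lt_succ_iff.mp (Finset.mem_range.mp hk))
    rw [show 2 * (k + j) + 1 - k = k + 2 * j + 1 by omega,
      show (k + 1).choose 2 = k.choose 2 + k by
        rw [Nat.choose_succ_succ' k 1, Nat.choose_one_right]; ring]
    ring

variable {F : Type*} [Field F] [Fintype F]

theorem card_zero (m : ℕ) (g : Module.End F (Fin m ⊕ Fin m → F)) : Nat.card (Fr g 0) = 1 := by
  rw [Nat.card_eq_one_iff_unique]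
  exact ⟨⟨fun a b => Subtype.ext (funext fun i => i.elim0)⟩,
    ⟨⟨fun i => i.elim0, linearIndependent_empty_type, fun i => i.elim0, fun i => i.elim0⟩⟩⟩

theorem card_one_frames : ∀ (m k : ℕ),
    (Nat.card (Fr (1 : Module.End F (Fin m ⊕ Fin m → F)) k) : ℚ)
      = (Nat.card F : ℚ) ^ k.choose 2 * P (Nat.card F : ℚ) m k := by
  intro m
  induction m with
  | zero =>
    intro k
    cases k with
    | zero => simp [card_zero, P]
    | succ k =>
      haveI : IsEmpty (Fr (1 : Module.End F (Fin 0 ⊕ Fin 0 → F)) (k + 1)) :=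
        ⟨fun v => v.2.1.ne_zero 0 (Subsingleton.elim _ _)⟩
      simp [P]
  | succ m ih =>
    intro k
    cases k with
    | zero => simp [card_zero, P_zero]
    | succ k =>
      rw [step_T, P, Nat.choose_succ_succ' k 1, Nat.choose_one_right, Nat.cast_mul, Nat.cast_mul,
        Nat.cast_sub (Nat.one_le_pow _ _ Nat.card_pos), ih]
      push_cast
      ring

theorem pairs_vanish : ∀ (m k : ℕ), m < k → pairCount F m k = 0 := by
  intro m
  induction m with
  | zero =>
    intro k hk
    obtain ⟨k, rfl⟩ := Nat.exists_eq_add_of_lt hk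
    haveI : IsEmpty (Σ g : Uni F 0, Fr g.1 (0 + k + 1)) :=
      ⟨fun v => v.2.2.1.ne_zero 0 (Subsingleton.elim _ _)⟩
    exact Nat.card_of_isEmpty
  | succ m ih =>
    intro k hk
    obtain ⟨k, rfl⟩ := Nat.exists_eq_add_of_lt (show 0 < k by omega)
    rw [step_pairs, ih (0 + k) (by omega), mul_zero, mul_zero]

theorem pairs_eq : ∀ (k j : ℕ), (pairCount F (k + j) k : ℚ)
    = (Nat.card F : ℚ) ^ (k * (2 * j + k)) * P (Nat.card F : ℚ) (k + j) k
      * (Nat.card (Uni F j) : ℚ) := by
  intro k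
  induction k with
  | zero =>
    intro j
    haveI : Finite (Module.End F (Fin j ⊕ Fin j → F)) := Module.finite_of_finite F
    haveI := Fintype.ofFinite (Uni F j)
    rw [zero_mul, pow_zero, P_zero, one_mul, one_mul, zero_add, pairCount, Nat.card_sigma,
      Finset.sum_congr rfl (g := fun _ => 1) fun g _ => card_zero j g.1]
    simp
  | succ k ih =>
    intro j
    rw [show k + 1 + j = (k + j) + 1 by ring, step_pairs, P, Nat.cast_mul, Nat.cast_mul,
      Nat.cast_sub (Nat.one_le_pow _ _ Nat.card_pos), ih]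
    push_cast
    ring

theorem alternating_zero {m : ℕ} (g : Uni F m) (hg : g.1 ≠ 1) :
    ∑ k ∈ Finset.range (2 * m + 1),
      (-1 : ℚ) ^ k / D (Nat.card F : ℚ) k * (Nat.card (Fr g.1 k) : ℚ) = 0 := by
  classical
  obtain ⟨⟨g, hiso, hnil⟩, rfl⟩ : ∃ g' : Uni F m, g' = g := ⟨g, rfl⟩
  dsimp only at hg ⊢
  -- a non-zero vector in the kernel and in the image of `g - 1`
  obtain ⟨e, he0, hge, z, hze⟩ : ∃ e, e ≠ 0 ∧ g e = e ∧ ∃ z, (g - 1) z = e := by
    have hex : ∃ n, (g - 1) ^ n = 0 := hnil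
    obtain ⟨n, hn⟩ : ∃ n, Nat.find hex = n + 2 := by
      have h0 : ¬ ((g - 1) ^ 0 = 0) := by
        intro h
        apply hg
        have : ∀ x : Module.End F (Fin m ⊕ Fin m → F), x = 0 := fun x => by
          rw [← one_mul x, ← pow_zero (g - 1), h, zero_mul]
        rw [this g, this 1]
      have h1 : ¬ ((g - 1) ^ 1 = 0) := by
        rw [pow_one]
        exact sub_ne_zero.mpr hg
      have : 2 ≤ Nat.find hex := by
        by_contra h
        rcases (show Nat.find hex = 0 ∨ Nat.find hex = 1 by omega) with h' | h'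
        · exact h0 (h' ▸ Nat.find_spec hex)
        · exact h1 (h' ▸ Nat.find_spec hex)
      exact ⟨Nat.find hex - 2, by omega⟩
    have hne : (g - 1) ^ (n + 1) ≠ 0 := Nat.find_min hex (by omega)
    obtain ⟨v, hv⟩ : ∃ v, ((g - 1) ^ (n + 1)) v ≠ 0 := by
      by_contra h
      push Not at h
      exact hne (LinearMap.ext h)
    refine ⟨_, hv, ?_, ((g - 1) ^ n) v, by rw [pow_succ', Module.End.mul_apply]⟩
    have h2 : ((g - 1) ^ (n + 2)) v = 0 := by rw [← hn, Nat.find_spec hex]; rfl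
    rw [pow_succ', Module.End.mul_apply, LinearMap.sub_apply, Module.End.one_apply, sub_eq_zero] at h2
    exact h2
  have hperp : ∀ x, g x = x → spB m F e x = 0 := by
    intro x hx
    rw [← hze, LinearMap.sub_apply, Module.End.one_apply, map_sub, LinearMap.sub_apply, sub_eq_zero]
    conv_lhs => rw [← hx]
    exact hiso z x
  set q : ℚ := (Nat.card F : ℚ) with hqdef
  have hq : 1 < q := by rw [hqdef]; exact_mod_cast Finite.one_lt_card (α := F)
  set T : ℕ → ℚ := fun k => (-1 : ℚ) ^ k / D q k * (Nat.card (FrE g e k) : ℚ) with hT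
  have hterm : ∀ k, (-1 : ℚ) ^ (k + 1) / D q (k + 1) * (Nat.card (Fr g (k + 1)) : ℚ)
      = T (k + 1) - T k := by
    intro k
    rw [card_fr_succ he0 hge hperp, Nat.cast_add, Nat.cast_mul,
      Nat.cast_sub (Nat.one_le_pow _ _ Nat.card_pos), hT]
    simp only [D, pow_succ (-1 : ℚ) k]
    have h1 := D_ne q hq k
    have h2 : q ^ (k + 1) - 1 ≠ 0 := sub_ne_zero.mpr (one_lt_pow₀ hq (Nat.succ_ne_zero k)).ne'
    push_cast
    rw [← hqdef]
    field_simp
    ring
  rw [Finset.sum_range_succ', Finset.sum_congr rfl fun k _ => hterm k, Finset.sum_range_sub]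
  have htop : T (2 * m) = 0 := by
    haveI : IsEmpty (FrE g e (2 * m)) := ⟨fun v => by
      have h := v.2.1.fintype_card_le_finrank
      simp at h
      omega⟩
    simp [hT]
  have hbot : T 0 = 1 := by
    have : Nat.card (FrE g e 0) = 1 := by
      rw [Nat.card_eq_one_iff_unique]
      refine ⟨⟨fun a b => Subtype.ext (funext fun i => i.elim0)⟩,
        ⟨⟨fun i => i.elim0, ?_, fun i => i.elim0, fun i => i.elim0⟩⟩⟩
      exact linearIndependent_finCons.mpr ⟨linearIndependent_empty_type, by simp [Set.range_eq_empty, he0]⟩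
    rw [hT]
    dsimp only
    rw [this]
    simp [D]
  rw [htop, hbot, card_zero]
  simp [D]

theorem card_uni : ∀ m : ℕ, (Nat.card (Uni F m) : ℚ) = (Nat.card F : ℚ) ^ (2 * m ^ 2) := by
  classical
  intro m
  induction m using Nat.strong_induction_on with
  | _ m ih =>
    set q : ℚ := (Nat.card F : ℚ) with hqdef
    have hq : 1 < q := by rw [hqdef]; exact_mod_cast Finite.one_lt_card (α := F)
    haveI : Finite (Module.End F (Fin m ⊕ Fin m → F)) := Module.finite_of_finite F
    haveI := Fintype.ofFinite (Uni F m)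
    have hsub : Finset.range (m + 1) ⊆ Finset.range (2 * m + 1) :=
      Finset.range_mono (by omega)
    let one : Uni F m := ⟨1, fun u v => rfl, by rw [sub_self]; exact IsNilpotent.zero⟩
    have hS : ∑ k ∈ Finset.range (2 * m + 1), (-1 : ℚ) ^ k / D q k * (pairCount F m k : ℚ)
        = (-1) ^ m * q ^ (m ^ 2) := by
      rw [Finset.sum_congr rfl (g := fun k => ∑ g : Uni F m,
          (-1 : ℚ) ^ k / D q k * (Nat.card (Fr g.1 k) : ℚ)) fun k _ => by
        rw [pairCount, Nat.card_sigma, Nat.cast_sum, Finset.mul_sum], Finset.sum_comm,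
        Fintype.sum_eq_single one fun g hg => alternating_zero g fun h => hg (Subtype.ext h),
        ← sum_choose q hq m]
      symm
      refine (Finset.sum_subset hsub fun k _ hk => ?_).trans
        (Finset.sum_congr rfl fun k _ => ?_)
      · rw [A, P_vanish q m k (by simpa using hk)]; simp
      · rw [show (one.1) = 1 from rfl, card_one_frames, ← hqdef, A]; ring
    have hz : ∀ k ∈ Finset.range (2 * m + 1), k ∉ Finset.range (m + 1) →
        (-1 : ℚ) ^ k / D q k * (pairCount F m k : ℚ) = 0 := fun k _ hk => by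
      rw [pairs_vanish m k (by simpa using hk)]; simp
    rw [← Finset.sum_subset hsub hz] at hS
    have hcal : ∑ k ∈ Finset.range (m + 1), A q m k * q ^ ((m - k) ^ 2) * q ^ (m ^ 2)
        = (-1) ^ m * q ^ (m ^ 2) := by rw [← Finset.sum_mul, sum_sq q hq]
    rw [Finset.sum_range_succ'] at hS hcal
    rw [Finset.sum_congr rfl (g := fun k => A q m (k + 1) * q ^ ((m - (k + 1)) ^ 2) * q ^ (m ^ 2))
      fun k hk => by
        obtain ⟨j, rfl⟩ := Nat.exists_eq_add_of_le (show k + 1 ≤ m from Finset.mem_range.mp hk)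
        rw [pairs_eq, ih j (by omega), A, show k + 1 + j - (k + 1) = j by omega]
        ring] at hS
    have h0 : (pairCount F m 0 : ℚ) = (Nat.card (Uni F m) : ℚ) := by
      have := pairs_eq (F := F) 0 m
      simpa [P_zero] using this
    rw [h0] at hS
    simp only [A, P_zero, D, pow_zero, Nat.sub_zero, one_mul, div_one] at hS hcal
    rw [two_mul, pow_add]
    linear_combination hS - hcal

/-- Steinberg's count of unipotent elements for the symplectic group: over a finite field with q elements of characteristic p, the number of elements of Sp_{2m} of p-power order is q^(2m²). -/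
theorem result {F : Type*} [Field F] [Fintype F] (p : ℕ) [Fact p.Prime] [CharP F p] (m : ℕ) :
    Nat.card {g : ↥(Matrix.symplecticGroup (Fin m) F) // ∃ k : ℕ, orderOf g = p ^ k} = Fintype.card F ^ (2 * m ^ 2) := by
  classical
  have hp : p.Prime := Fact.out
  rw [← Nat.card_eq_fintype_card]
  have key := card_uni (F := F) m
  have key' : Nat.card (Uni F m) = Nat.card F ^ (2 * m ^ 2) := by exact_mod_cast key
  rw [← key']
  have hsub : ∀ (x : Module.End F (Fin m ⊕ Fin m → F)) (j : ℕ),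
      (x - 1) ^ (p ^ j) = x ^ (p ^ j) - 1 := fun x j => by
    have h : ((Polynomial.X : Polynomial F) - 1) ^ (p ^ j) = Polynomial.X ^ (p ^ j) - 1 := by
      rw [sub_pow_char_pow, one_pow]
    simpa using congrArg (Polynomial.aeval x) h
  let φ : Matrix (Fin m ⊕ Fin m) (Fin m ⊕ Fin m) F ≃ₐ[F] Module.End F (Fin m ⊕ Fin m → F) :=
    Matrix.toLinAlgEquiv'
  have hφ : ∀ A v, φ A v = A *ᵥ v := fun A v => Matrix.toLinAlgEquiv'_apply A v
  have hiff : ∀ A : Matrix.symplecticGroup (Fin m) F,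
      (∃ k, orderOf A = p ^ k) ↔ IsNilpotent (φ A.1 - 1) := by
    intro A
    have hpow : ∀ j, A ^ (p ^ j) = 1 ↔ (φ A.1 - 1) ^ (p ^ j) = 0 := by
      intro j
      rw [hsub, sub_eq_zero, ← map_pow, ← SubmonoidClass.coe_pow, map_eq_one_iff φ φ.injective,
        Subtype.ext_iff]
      rfl
    constructor
    · rintro ⟨k, hk⟩
      exact ⟨p ^ k, (hpow k).mp (by rw [← hk, pow_orderOf_eq_one])⟩
    · rintro ⟨n, hn⟩
      have h1 : A ^ (p ^ n) = 1 :=
        (hpow n).mpr (pow_eq_zero_of_le (Nat.lt_pow_self hp.one_lt).le hn)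
      obtain ⟨k, -, hk⟩ := (Nat.dvd_prime_pow hp).mp (orderOf_dvd_of_pow_eq_one h1)
      exact ⟨k, hk⟩
  refine Nat.card_congr (Equiv.ofBijective
    (fun A => ⟨φ A.1.1, fun u v => by
      rw [hφ, hφ]; exact (mem_symplectic_iff A.1.1).mp A.1.2 u v, (hiff A.1).mp A.2⟩) ⟨?_, ?_⟩)
  · intro A B h
    exact Subtype.ext (Subtype.ext (φ.injective (congrArg Subtype.val h)))
  · rintro ⟨g, hg, hn⟩
    obtain ⟨A, rfl⟩ := φ.surjective g
    refine ⟨⟨⟨A, (mem_symplectic_iff A).mpr fun u v => ?_⟩, (hiff _).mpr hn⟩, rfl⟩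
    rw [← hφ, ← hφ]
    exact hg u v

end Cfsg.Agent.S2316
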