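import Cfsg.Statements.S2317
import Cfsg.Agent.S2570

set_option autoImplicit false
open Cfsg

namespace Cfsg.Agent.S2317

open Cfsg.Agent.S2570 Cfsg.Agent.JordanType

/-- Over a finite field of characteristic p, the conjugacy classes of GL_n consisting of elements of p-power order (the unipotent classes) are as many as the partitions of n. -/
theorem result {F : Type*} [Field F] [Fintype F] (p : ℕ) [Fact p.Prime] [CharP F p] (n : ℕ) :
    Nat.card {C : ConjClasses (Matrix.GeneralLinearGroup (Fin n) F) //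
      ∃ g : Matrix.GeneralLinearGroup (Fin n) F, (∃ k : ℕ, orderOf g = p ^ k) ∧ ConjClasses.mk g = C} =
      Fintype.card (Nat.Partition n) := by
  classical
  have hp := (Fact.out : p.Prime)
  have hsub : ∀ (A : Matrix (Fin n) (Fin n) F) (j : ℕ), (A - 1) ^ (p ^ j) = A ^ (p ^ j) - 1 := fun A j => by
    have h : ((Polynomial.X : Polynomial F) - 1) ^ (p ^ j) = Polynomial.X ^ (p ^ j) - 1 := by
      rw [sub_pow_char_pow, one_pow]
    simpa using congrArg (Polynomial.aeval A) h
  have hpow : ∀ μ : Nat.Partition n, rep F μ ^ (p ^ n) = 1 := fun μ => by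
    rw [← sub_eq_zero, ← hsub, rep_sub_one, ← map_pow, shift_pow_zero _ _ fun k => ?_, map_zero]
    refine le_trans ?_ (Nat.lt_pow_self hp.one_lt).le
    exact le_trans (Multiset.le_sum_of_mem (dd_mem μ k)) μ.parts_sum.le
  let G : Nat.Partition n → GL (Fin n) F := fun μ =>
    Units.ofPowEqOne (rep F μ) (p ^ n) (hpow μ) (pow_ne_zero _ hp.ne_zero)
  have hG : ∀ μ, (G μ : Matrix (Fin n) (Fin n) F) = rep F μ := fun μ => rfl
  have hord : ∀ μ, ∃ k, orderOf (G μ) = p ^ k := fun μ => by
    obtain ⟨k, -, hk⟩ := (Nat.dvd_prime_pow hp).1 (orderOf_dvd_of_pow_eq_one (Units.pow_ofPowEqOne _ _) :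
      orderOf (G μ) ∣ p ^ n)
    exact ⟨k, hk⟩
  rw [← Nat.card_eq_fintype_card]
  refine (Nat.card_eq_of_bijective
    (fun μ => (⟨ConjClasses.mk (G μ), G μ, hord μ, rfl⟩ :
      {C : ConjClasses (Matrix.GeneralLinearGroup (Fin n) F) //
        ∃ g : Matrix.GeneralLinearGroup (Fin n) F, (∃ k : ℕ, orderOf g = p ^ k) ∧ ConjClasses.mk g = C}))
    ⟨?_, ?_⟩).symm
  · intro μ ν h
    have hc := ConjClasses.mk_eq_mk_iff_isConj.1 (congrArg Subtype.val h)
    refine Nat.Partition.ext (Multiset.ext.2 fun i => ?_)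
    rcases Nat.eq_zero_or_pos i with rfl | hi
    · rw [Multiset.count_eq_zero_of_notMem fun h0 => absurd (μ.parts_pos h0) (lt_irrefl _),
        Multiset.count_eq_zero_of_notMem fun h0 => absurd (ν.parts_pos h0) (lt_irrefl _)]
    · have hr : ∀ j, (μ.parts.map (· - j)).sum = (ν.parts.map (· - j)).sum := fun j => by
        rw [← rank_rep (F := F), ← rank_rep (F := F), ← hG, ← hG, isConj_rank hc]
      have h1 := count_identity μ.parts i hi
      have h2 := count_identity ν.parts i hi
      rw [hr, hr, hr] at h1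
      omega
  · rintro ⟨C, g, ⟨j, hg⟩, rfl⟩
    have hgp : ((g : Matrix (Fin n) (Fin n) F) - 1) ^ (p ^ j) = 0 := by
      rw [hsub, ← Units.val_pow_eq_pow_val, ← hg, pow_orderOf_eq_one, Units.val_one, sub_self]
    obtain ⟨t, d, σ, P, hd, hAP⟩ := exists_normal_form (g : Matrix (Fin n) (Fin n) F) _ hgp
    have hsum : (Finset.univ.val.map d).sum = n := by
      rw [← Finset.sum_eq_multiset_sum]
      have h0 := Fintype.card_congr σ
      simpa using h0
    set μ := Nat.Partition.ofSums n (Finset.univ.val.map d) hsum with hμdef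
    have hcnt : ∀ i, 1 ≤ i → (Finset.univ.filter fun k => dd μ k = i).card =
        (Finset.univ.filter fun k => d k = i).card := fun i hi => by
      rw [← count_eq_card, ← count_eq_card, map_dd]
      show (Multiset.filter _ (Finset.univ.val.map d)).count i = _
      exact Multiset.count_filter_of_pos (show i ≠ 0 by omega)
    obtain ⟨τ, hτ⟩ := exists_idx_equiv (F := F) (dd μ) d hcnt
    set s := Fintype.equivFinOfCardEq (card_idx μ)
    let π : Fin n ≃ Fin n := s.symm.trans (τ.trans σ)
    have hJ : ∀ x y, rep F μ x y =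
        Matrix.reindex σ σ (Cfsg.jordanTypeMatrix d F) (π x) (π y) := by
      intro x y
      show Cfsg.jordanTypeMatrix (dd μ) F (s.symm x) (s.symm y) =
        Cfsg.jordanTypeMatrix d F (σ.symm (σ (τ (s.symm x)))) (σ.symm (σ (τ (s.symm y))))
      rw [Equiv.symm_apply_apply, Equiv.symm_apply_apply]
      have h := hτ (s.symm x) (s.symm y)
      simp only [shift, Matrix.sub_apply, Matrix.one_apply, τ.injective.eq_iff] at h
      exact (sub_left_inj.1 h).symm
    let Q : GL (Fin n) F := ⟨π.toPEquiv.toMatrix, π.symm.toPEquiv.toMatrix,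
      by rw [← PEquiv.toMatrix_trans, ← Equiv.toPEquiv_trans]; simp,
      by rw [← PEquiv.toMatrix_trans, ← Equiv.toPEquiv_trans]; simp⟩
    set B := Matrix.reindex σ σ (Cfsg.jordanTypeMatrix d F)
    have hrep : rep F μ * (Q : Matrix (Fin n) (Fin n) F) = (Q : Matrix (Fin n) (Fin n) F) * B := by
      show rep F μ * π.toPEquiv.toMatrix = π.toPEquiv.toMatrix * B
      rw [PEquiv.mul_toMatrix_toPEquiv, PEquiv.toMatrix_toPEquiv_mul]
      ext x y
      simp [hJ]
    refine ⟨μ, Subtype.ext (ConjClasses.mk_eq_mk_iff_isConj.2 ?_)⟩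
    refine isConj_iff.2 ⟨P * Q⁻¹, ?_⟩
    rw [mul_inv_rev, inv_inv, ← mul_assoc, mul_inv_eq_iff_eq_mul]
    refine Units.ext ?_
    simp only [Units.val_mul, hG]
    rw [hAP, mul_assoc (P : Matrix (Fin n) (Fin n) F) _ (rep F μ), mul_assoc]
    congr 1
    rw [mul_assoc, hrep, ← mul_assoc, ← Units.val_mul, inv_mul_cancel, Units.val_one, one_mul]

end Cfsg.Agent.S2317
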