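import Cfsg.Statements.S2318
import Cfsg.Agent.Lib.Chev.DefectZero
import Cfsg.Agent.Lib.Chev.SteinbergIrr
import Cfsg.Agent.Lib.Chev.AllC
import Cfsg.Agent.Lib.Chev.Normal
import Cfsg.Agent.S0914

set_option autoImplicit false
open Cfsg

namespace Cfsg.Agent.S2318

open Cfsg.Agent in
/-- A character of defect zero is a block of defect zero by itself. -/
theorem block_of_defect_zero {G : Type*} [Group G] [Finite G] {p : ℕ} [Fact p.Prime]
    {M : Ideal AlgInt} (hM : IsPModular p M) (c : IrrCharacter G)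
    (hc : p ^ (Nat.card G).factorization p ∣ charDegree (c : G → ℂ)) :
    blockOf M (c : G → ℂ) = {c} ∧ blockDefect p ({c} : Set (IrrCharacter G)) = 0 := by
  refine ⟨(Cfsg.Agent.S0914.result p M hM c).1 fun hp => ?_, ?_⟩
  · obtain ⟨q, hq⟩ := Blocks.charDegree_dvd_card c
    rw [hq, Nat.mul_div_cancel_left _ (Blocks.charDegree_pos c)] at hp
    refine Nat.pow_succ_factorization_not_dvd (Nat.card_pos (α := G)).ne' (Fact.out : p.Prime) ?_
    rw [pow_succ, hq]
    exact mul_dvd_mul (hq ▸ hc) hp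
  · rw [blockDefect, Set.image_singleton, csInf_singleton]
    have h1 := Nat.Prime.pow_dvd_iff_le_factorization (k := (Nat.card G).factorization p)
      (Fact.out : p.Prime) (Blocks.charDegree_pos c).ne'
    have h2 := h1.1 hc
    omega


/-- In a Chevalley group of type G₂, B₂, D₄, F₄, E₆, E₇ or E₈ over a finite field of characteristic p (for types G₂ and B₂ the field is assumed to have at least 3 elements, so that the group is perfect), the Steinberg character is the only irreducible complex character whose degree is divisible by the full power of p dividing the group order (the only irreducible character of p-defect zero). -/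
theorem result {F : Type*} [Field F] [Fintype F] (p : ℕ) [Fact p.Prime] [CharP F p] (D : Cfsg.Lie.ChevalleyDatum) (hD : D ∈ [Cfsg.Lie.chevG2, Cfsg.Lie.chevB2, Cfsg.Lie.chevD4, Cfsg.Lie.chevF4, Cfsg.Lie.chevE6, Cfsg.Lie.chevE7, Cfsg.Lie.chevE8]) (hq : (D = Cfsg.Lie.chevG2 ∨ D = Cfsg.Lie.chevB2) → 3 ≤ Fintype.card F)
    (χ : ↥(D.group F) → ℂ) (hχ : Cfsg.IsIrrCharacter ↥(D.group F) χ)
    (hdeg : ∃ d : ℕ, χ 1 = (d : ℂ) ∧ p ^ (Nat.card ↥(D.group F)).factorization p ∣ d) :
    χ = D.steinbergCharacter F := by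
  classical
  obtain ⟨P, h, -, hC⟩ := Cfsg.Agent.Chev.exists_okC hD
  have hirr := h.steinberg_irr (F := F) hC
  obtain ⟨M, hM⟩ := Cfsg.Agent.Blocks.exists_isPModular (p := p) Fact.out
  haveI := hM.2.1.isPrime
  obtain ⟨S, hS⟩ := h.pos_sylow (F := F) p hC
  have hUG : D.posUnipotent F ≤ D.group F := fun x hx => h.borel_le_group (Subgroup.mem_sup_left hx)
  have hcard : Nat.card (S : Subgroup ↥(D.group F)) = Fintype.card F ^ (P.nroots / 2) := by
    rw [hS, Nat.card_congr (Subgroup.subgroupOfEquivOfLe hUG).toEquiv, h.card_pos hC]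
  have deg : ∀ (ψ : ↥(D.group F) → ℂ) (hψ : Cfsg.IsIrrCharacter ↥(D.group F) ψ) (d : ℕ), ψ 1 = (d : ℂ) →
      charDegree ψ = d := fun ψ hψ d e => by
    have h1 := Cfsg.Agent.CT.deg_eq (Cfsg.Agent.CT.isCharacter_of_isIrr hψ)
    exact_mod_cast h1.symm.trans e
  obtain ⟨d, hd1, hd2⟩ := hdeg
  obtain ⟨hb, hz⟩ := block_of_defect_zero hM ⟨χ, hχ⟩ (by rw [deg χ hχ d hd1]; exact hd2)
  obtain ⟨hb', hz'⟩ := block_of_defect_zero (p := p) hM ⟨_, hirr⟩ (by
    rw [deg _ hirr (Fintype.card F ^ (P.nroots / 2)) (by rw [h.steinberg_one hC]; push_cast; rfl),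
      ← hcard, S.card_eq_multiplicity])
  obtain ⟨l, hl, hneg⟩ := h.exists_longest
  have hB := Cfsg.Agent.Blocks.isPBlock_blockOf (M := M) (⟨χ, hχ⟩ : IrrCharacter ↥(D.group F))
  have hB' := Cfsg.Agent.Blocks.isPBlock_blockOf (M := M) (⟨_, hirr⟩ : IrrCharacter ↥(D.group F))
  rw [hb] at hB
  rw [hb'] at hB'
  have e := h.defectZero_unique p hl (h.asc_empty_of_neg hneg) hC hM hB hz hB' hz'
  exact congrArg Subtype.val (Set.singleton_eq_singleton_iff.1 e)

end Cfsg.Agent.S2318
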