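import Cfsg.Statements.S2320
import Cfsg.Agent.Lib.SL2.GLTable

set_option autoImplicit false
open Cfsg

namespace Cfsg.Agent.S2320

/-- Over a finite field F with q elements, every irreducible complex character of GL₂ of degree q takes a value of absolute value 1 at every diagonal matrix with two different diagonal entries and at every element with no eigenvector in F². -/
theorem result {F : Type*} [Field F] [Fintype F] (χ : Matrix.GeneralLinearGroup (Fin 2) F → ℂ) (hχ : Cfsg.IsIrrCharacter (Matrix.GeneralLinearGroup (Fin 2) F) χ) (hdeg : χ 1 = (Fintype.card F : ℂ)) (g : Matrix.GeneralLinearGroup (Fin 2) F) :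
    ((g : Matrix (Fin 2) (Fin 2) F) 0 1 = 0 → (g : Matrix (Fin 2) (Fin 2) F) 1 0 = 0 → (g : Matrix (Fin 2) (Fin 2) F) 0 0 ≠ (g : Matrix (Fin 2) (Fin 2) F) 1 1 → ‖χ g‖ = 1) ∧
    ((∀ (c : F) (v : Fin 2 → F), v ≠ 0 → (g : Matrix (Fin 2) (Fin 2) F).mulVec v ≠ c • v) → ‖χ g‖ = 1) := by
  classical
  have hq : (Fintype.card F : ℂ) ≠ 1 := by
    exact_mod_cast (by have := GL2T.two_le_q (F := F); omega : Fintype.card F ≠ 1)
  have hnorm : ∀ (μ : MulChar F ℂ) {x : F}, x ≠ 0 → ‖μ x‖ = 1 := fun μ x hx =>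
    Complex.norm_eq_one_of_pow_eq_one (n := Fintype.card F - 1)
      (by rw [← map_pow, FiniteField.pow_card_sub_one_eq_one x hx, map_one])
      (by have := GL2T.two_le_q (F := F); omega)
  rcases (GL2T.table (F := F)).1 ⟨χ, hχ⟩ with ⟨μ, e⟩ | ⟨μ, e⟩ | ⟨α, β, -, e⟩ | ⟨-, h⟩
  · change χ = _ at e
    rw [e, GL2T.detChar_apply] at hdeg
    simp [GL2T.dt] at hdeg
    exact absurd hdeg.symm (by exact_mod_cast hq)
  · change χ = _ at e
    constructor
    · intro h01 h10 hne
      have hd := GL2T.det_ne g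
      rw [h01, zero_mul, sub_zero] at hd
      rw [e, GL2T.st, Pi.sub_apply, GL2T.princ_diag _ _ h01 h10 hne, GL2T.detChar_apply,
        GL2T.dt, h01, zero_mul, sub_zero, map_mul, mul_comm (μ ((g : Matrix (Fin 2) (Fin 2) F) 1 1)),
        add_sub_cancel_left, norm_mul, hnorm μ (left_ne_zero_of_mul hd),
        hnorm μ (right_ne_zero_of_mul hd), one_mul]
    · intro hg
      rw [e, GL2T.st, Pi.sub_apply, GL2T.princ_noEig _ _ hg, zero_sub, norm_neg,
        GL2T.detChar_apply, hnorm μ (GL2T.dt_ne g)]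
  · change χ = _ at e
    rw [e, GL2T.princ_one] at hdeg
    simp at hdeg
  · change χ 1 = _ at h
    rw [h] at hdeg
    simp at hdeg

end Cfsg.Agent.S2320
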