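import Cfsg.Statements.S2321
import Cfsg.Agent.Lib.SL2.DegreeRows
import Cfsg.Agent.Lib.SL2.DegreeRowsEven

set_option autoImplicit false
open Cfsg

namespace Cfsg.Agent.S2321

/-- Over a finite field F with q elements, an irreducible complex character of SL₂ of degree q (the Steinberg character) takes the value 1 at every diagonal matrix whose diagonal entry a has a² ≠ 1, the value −1 at every element with no eigenvector in F², and the value 0 at every upper triangular matrix with equal diagonal entries and non-zero upper right entry. -/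
theorem result {F : Type*} [Field F] [Fintype F] (χ : Matrix.SpecialLinearGroup (Fin 2) F → ℂ) (hχ : Cfsg.IsIrrCharacter (Matrix.SpecialLinearGroup (Fin 2) F) χ) (hdeg : χ 1 = (Fintype.card F : ℂ)) (g : Matrix.SpecialLinearGroup (Fin 2) F) :
    ((g : Matrix (Fin 2) (Fin 2) F) 0 1 = 0 → (g : Matrix (Fin 2) (Fin 2) F) 1 0 = 0 → (g : Matrix (Fin 2) (Fin 2) F) 0 0 ^ 2 ≠ 1 → χ g = 1) ∧
    ((∀ (c : F) (v : Fin 2 → F), v ≠ 0 → (g : Matrix (Fin 2) (Fin 2) F).mulVec v ≠ c • v) → χ g = -1) ∧
    ((g : Matrix (Fin 2) (Fin 2) F) 1 0 = 0 → (g : Matrix (Fin 2) (Fin 2) F) 0 0 = (g : Matrix (Fin 2) (Fin 2) F) 1 1 → (g : Matrix (Fin 2) (Fin 2) F) 0 1 ≠ 0 → χ g = 0) := by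
  classical
  have hq := SL2.two_le_q (F := F)
  have hst : χ = SL2.princ 1 - fun _ => 1 := by
    rcases Nat.even_or_odd (Fintype.card F) with he | ho
    · have h2 : (2 : F) = 0 := by
        have h : ringChar F = 2 := FiniteField.even_card_iff_char_two.2 (Nat.even_iff.1 he)
        haveI : CharP F 2 := h ▸ ringChar.charP F
        exact CharTwo.two_eq_zero
      have hd : Cfsg.charDegree χ = Fintype.card F := SL2.charDegree_of_one hdeg
      rcases SL2.deg_cases_even h2 ⟨χ, hχ⟩ with h | h | h | h
      · simp only at h; rw [h] at hdeg; dsimp only at hdeg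
        exact absurd (by exact_mod_cast hdeg.symm : Fintype.card F = 1) (by omega)
      · exact h
      · simp only at h; omega
      · simp only at h; omega
    · obtain ⟨g0, h0⟩ := SL2.exists_noEig (F := F)
      obtain ⟨θ0, h01, h02, -⟩ := SL2.exists_theta0 h0 ho
      rcases (SL2.table h0 ho h01 h02).1 ⟨χ, hχ⟩ with h | h | ⟨α, -, h⟩ | ⟨θ, -, h⟩ | h | h
      · simp only at h; rw [h] at hdeg; dsimp only at hdeg
        exact absurd (by exact_mod_cast hdeg.symm : Fintype.card F = 1) (by omega)
      · exact h
      · simp only at h; rw [h, SL2.princ_one] at hdeg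
        exact absurd (by linear_combination hdeg : (1 : ℂ) = 0) one_ne_zero
      · simp only at h; rw [h, SL2.cusp_one θ ho h0] at hdeg
        exact absurd (by linear_combination -hdeg : (1 : ℂ) = 0) one_ne_zero
      · have h1 := h.1
        simp only at h1; rw [hdeg] at h1
        exact absurd (by exact_mod_cast (by linear_combination 2 * h1 : (Fintype.card F : ℂ) = 1) :
          Fintype.card F = 1) (by omega)
      · have h1 := h.1
        simp only at h1; rw [hdeg] at h1
        have : (Fintype.card F : ℂ) + 1 = 0 := by linear_combination 2 * h1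
        exact absurd (by exact_mod_cast this : Fintype.card F + 1 = 0) (by omega)
  subst hst
  refine ⟨fun h01 h10 ha => ?_, fun h => ?_, fun h10 he hs => ?_⟩
  · obtain ⟨a, ha', rfl⟩ := SL2.eq_dd_of_diag h01 h10
    rw [← ha'] at ha
    rw [Pi.sub_apply, SL2.princ_diag _ ha, MulChar.one_apply (a.isUnit),
      MulChar.one_apply (inv_ne_zero a.ne_zero).isUnit]
    ring
  · rw [Pi.sub_apply, SL2.princ_noEig _ h, zero_sub]
  · rw [Pi.sub_apply, SL2.princ_upper_unip _ h10 he hs,
      MulChar.one_apply (SL2.upper_root h10).2.1.isUnit, sub_self]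

end Cfsg.Agent.S2321
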