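import Cfsg.Statements.S2322
import Cfsg.Agent.Lib.SL2.DegreeRows
import Cfsg.Agent.Lib.SL2.DegreeRowsEven

set_option autoImplicit false
open Cfsg

namespace Cfsg.Agent.S2322

/-- Over a finite field F with q elements, q odd: every irreducible complex character of SL₂ of degree q − 1 or (q − 1)/2 vanishes at every diagonal matrix whose diagonal entry a has a² ≠ 1, and every irreducible complex character of degree q + 1 or (q + 1)/2 vanishes at every element with no eigenvector in F². -/
theorem result {F : Type*} [Field F] [Fintype F] (hodd : Odd (Fintype.card F)) (χ : Matrix.SpecialLinearGroup (Fin 2) F → ℂ) (hχ : Cfsg.IsIrrCharacter (Matrix.SpecialLinearGroup (Fin 2) F) χ) (g : Matrix.SpecialLinearGroup (Fin 2) F) :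
    ((χ 1 = (Fintype.card F : ℂ) - 1 ∨ χ 1 = (((Fintype.card F - 1) / 2 : ℕ) : ℂ)) →
      (g : Matrix (Fin 2) (Fin 2) F) 0 1 = 0 → (g : Matrix (Fin 2) (Fin 2) F) 1 0 = 0 → (g : Matrix (Fin 2) (Fin 2) F) 0 0 ^ 2 ≠ 1 → χ g = 0) ∧
    ((χ 1 = (Fintype.card F : ℂ) + 1 ∨ χ 1 = (((Fintype.card F + 1) / 2 : ℕ) : ℂ)) →
      (∀ (c : F) (v : Fin 2 → F), v ≠ 0 → (g : Matrix (Fin 2) (Fin 2) F).mulVec v ≠ c • v) → χ g = 0) := by
  classical
  have hq := SL2.two_le_q (F := F)
  obtain ⟨g0, h0⟩ := SL2.exists_noEig (F := F)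
  obtain ⟨θ0, h01, h02, -⟩ := SL2.exists_theta0 h0 hodd
  rw [SL2.half_add hodd, SL2.half_sub hodd]
  have hne : ∀ n : ℕ, (n = 0 ∨ n = 1) → (Fintype.card F : ℂ) ≠ (n : ℂ) := fun n hn h => by
    have : Fintype.card F = n := by exact_mod_cast h
    omega
  have hcomm := hodd
  refine ⟨fun hd hg01 hg10 ha => ?_, fun hd hno => ?_⟩
  · obtain ⟨a, ha', rfl⟩ := SL2.eq_dd_of_diag hg01 hg10
    rw [← ha'] at ha
    have hF : Fintype.card F ≠ 3 := fun h3 => by
      have h := FiniteField.pow_card_sub_one_eq_one (a : F) a.ne_zero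
      rw [h3] at h
      exact ha h
    rcases (SL2.table h0 hodd h01 h02).1 ⟨χ, hχ⟩ with h | h | ⟨α, -, h⟩ | ⟨θ, -, h⟩ | h | h
    · simp only at h; rw [h] at hd
      exfalso
      rcases hd with hd | hd
      · have : Fintype.card F = 2 := by exact_mod_cast (by linear_combination -hd : (Fintype.card F : ℂ) = 2)
        rw [this] at hcomm; exact absurd hcomm (by decide)
      · exact hF (by exact_mod_cast (by linear_combination -2 * hd : (Fintype.card F : ℂ) = 3))
    · simp only at h; rw [h, SL2.st_one] at hd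
      exfalso
      rcases hd with hd | hd
      · exact one_ne_zero (by linear_combination hd : (1 : ℂ) = 0)
      · have : (Fintype.card F : ℂ) + 1 = 0 := by linear_combination 2 * hd
        exact absurd (by exact_mod_cast this : Fintype.card F + 1 = 0) (by omega)
    · simp only at h; rw [h, SL2.princ_one] at hd
      exfalso
      rcases hd with hd | hd
      · exact two_ne_zero (by linear_combination hd : (2 : ℂ) = 0)
      · have : (Fintype.card F : ℂ) + 3 = 0 := by linear_combination 2 * hd
        exact absurd (by exact_mod_cast this : Fintype.card F + 3 = 0) (by omega)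
    · simp only at h; rw [h]
      exact SL2.cusp_diag θ h0 ha
    · have h1 := h.1
      simp only at h1; rw [h1] at hd
      exfalso
      rcases hd with hd | hd
      · exact hF (by exact_mod_cast (by linear_combination -2 * hd : (Fintype.card F : ℂ) = 3))
      · exact one_ne_zero (by linear_combination hd : (1 : ℂ) = 0)
    · exact (h.2.1 _ (Or.inr (SL2.tr_sq_dd ha))).trans (by rw [SL2.cusp_diag θ0 h0 ha, zero_div])
  · rcases (SL2.table h0 hodd h01 h02).1 ⟨χ, hχ⟩ with h | h | ⟨α, -, h⟩ | ⟨θ, hθ, h⟩ | h | h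
    · simp only at h; rw [h] at hd
      exfalso
      rcases hd with hd | hd
      · exact hne 0 (Or.inl rfl) (by rw [Nat.cast_zero]; linear_combination -hd)
      · exact hne 1 (Or.inr rfl) (by rw [Nat.cast_one]; linear_combination -2 * hd)
    · simp only at h; rw [h, SL2.st_one] at hd
      exfalso
      rcases hd with hd | hd
      · exact one_ne_zero (by linear_combination -hd : (1 : ℂ) = 0)
      · exact hne 1 (Or.inr rfl) (by rw [Nat.cast_one]; linear_combination 2 * hd)
    · simp only at h; rw [h]
      exact SL2.princ_noEig α hno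
    · simp only at h; rw [h, SL2.cusp_one θ hodd h0] at hd
      rw [h]
      have h3 : Fintype.card F = 3 := by
        rcases hd with hd | hd
        · exact absurd (by linear_combination -hd : (2 : ℂ) = 0) two_ne_zero
        · exact_mod_cast (by linear_combination 2 * hd : (Fintype.card F : ℂ) = 3)
      obtain ⟨P, hP⟩ := SL2.exists_conj_mem_cent hodd h0 hno
      rw [← SL2.cusp_conj θ g P]
      have hns : ¬ SL2.Scal ((⟨_, hP⟩ : SL2.cent g0) : Matrix.SpecialLinearGroup (Fin 2) F) :=
        fun hs => SL2.NoEig.tr_sq hno (by rw [← SL2.tr_conj g P]; exact SL2.tr_sq_of_scal hs)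
      rw [show P * g * P⁻¹ = ((⟨_, hP⟩ : SL2.cent g0) : Matrix.SpecialLinearGroup (Fin 2) F) from rfl,
        SL2.cusp_cent θ h0 _ hns]
      exact SL2.cusp_cent_three h0 hodd h3 hθ ⟨_, hP⟩ hns
    · exact (h.2.1 _ (Or.inr (SL2.NoEig.tr_sq hno))).trans (by rw [SL2.princ_noEig _ hno, zero_div])
    · have h1 := h.1
      simp only at h1; rw [h1] at hd
      exfalso
      rcases hd with hd | hd
      · have : (Fintype.card F : ℂ) + 3 = 0 := by linear_combination -2 * hd
        exact absurd (by exact_mod_cast this : Fintype.card F + 3 = 0) (by omega)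
      · exact one_ne_zero (by linear_combination -hd : (1 : ℂ) = 0)

end Cfsg.Agent.S2322
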