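import Cfsg.Statements.S2323
import Cfsg.Agent.Lib.SL2.DegreeRows
import Cfsg.Agent.Lib.SL2.DegreeRowsEven

set_option autoImplicit false
open Cfsg

namespace Cfsg.Agent.S2323

/-- Over a finite field F with q ≥ 4 elements, let u be the upper unitriangular matrix of SL₂ with off-diagonal entry 1. An irreducible complex character of SL₂ takes at u the value 1 if its degree is q + 1 and the value −1 if its degree is q − 1. -/
theorem result {F : Type*} [Field F] [Fintype F] (hq : 4 ≤ Fintype.card F) (χ : Matrix.SpecialLinearGroup (Fin 2) F → ℂ) (hχ : Cfsg.IsIrrCharacter (Matrix.SpecialLinearGroup (Fin 2) F) χ)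
    (u : Matrix.SpecialLinearGroup (Fin 2) F) (hu : (u : Matrix (Fin 2) (Fin 2) F) = !![1, 1; 0, 1]) :
    (χ 1 = (Fintype.card F : ℂ) + 1 → χ u = 1) ∧ (χ 1 = (Fintype.card F : ℂ) - 1 → χ u = -1) := by
  classical
  have hu' : u = SL2.uu 1 := Subtype.ext (by rw [hu, SL2.coe_uu'])
  subst hu'
  rcases Nat.even_or_odd (Fintype.card F) with he | ho
  · have h2 : (2 : F) = 0 := by
      have h : ringChar F = 2 := FiniteField.even_card_iff_char_two.2 (Nat.even_iff.1 he)
      haveI : CharP F 2 := h ▸ ringChar.charP F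
      exact CharTwo.two_eq_zero
    exact SL2.value_transvection_even h2 hq hχ
  obtain ⟨g0, h0⟩ := SL2.exists_noEig (F := F)
  obtain ⟨θ0, h01, h02, -⟩ := SL2.exists_theta0 h0 ho
  have hne : ∀ n : ℕ, n ≤ 3 → (Fintype.card F : ℂ) ≠ (n : ℂ) := fun n hn h => by
    have : Fintype.card F = n := by exact_mod_cast h
    omega
  rcases (SL2.table h0 ho h01 h02).1 ⟨χ, hχ⟩ with h | h | ⟨α, -, h⟩ | ⟨θ, -, h⟩ | h | h
  · simp only at h; rw [h]
    exact ⟨fun e => absurd (by linear_combination -e : (Fintype.card F : ℂ) = ((0 : ℕ) : ℂ)) (by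
        simpa using hne 0 (by omega)),
      fun e => absurd (by linear_combination -e : (Fintype.card F : ℂ) = 2) (by
        simpa using hne 2 (by omega))⟩
  · simp only at h; rw [h, SL2.st_one]
    exact ⟨fun e => absurd (by linear_combination -e : (1 : ℂ) = 0) one_ne_zero,
      fun e => absurd (by linear_combination e : (1 : ℂ) = 0) one_ne_zero⟩
  · simp only at h; rw [h, SL2.princ_one]
    exact ⟨fun _ => SL2.princ_uu ho α one_ne_zero,
      fun e => absurd (by linear_combination e : (2 : ℂ) = 0) two_ne_zero⟩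
  · simp only at h; rw [h, SL2.cusp_one θ ho h0]
    exact ⟨fun e => absurd (by linear_combination -e : (2 : ℂ) = 0) two_ne_zero,
      fun _ => SL2.cusp_uu h0 ho θ one_ne_zero⟩
  · have h1 := h.1
    simp only at h1; rw [h1]
    refine ⟨fun e => ?_, fun e => ?_⟩
    · have : (Fintype.card F : ℂ) + 1 = 0 := by linear_combination -2 * e
      exact absurd (by exact_mod_cast this : Fintype.card F + 1 = 0) (by omega)
    · exact absurd (by linear_combination -2 * e : (Fintype.card F : ℂ) = 3) (by
        simpa using hne 3 le_rfl)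
  · have h1 := h.1
    simp only at h1; rw [h1]
    refine ⟨fun e => ?_, fun e => ?_⟩
    · have : (Fintype.card F : ℂ) + 3 = 0 := by linear_combination -2 * e
      exact absurd (by exact_mod_cast this : Fintype.card F + 3 = 0) (by omega)
    · exact absurd (by linear_combination -2 * e : (Fintype.card F : ℂ) = ((1 : ℕ) : ℂ)) (hne 1 (by omega))

end Cfsg.Agent.S2323
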