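import Cfsg.Statements.S2324
import Cfsg.Agent.Lib.SL2.DegreeHalves

set_option autoImplicit false
open Cfsg

namespace Cfsg.Agent.S2324

/-- Over a finite field F with q elements, q odd and q ≥ 5, let u be the upper unitriangular matrix of SL₂ with off-diagonal entry 1 and let δ = (−1)^((q−1)/2). Every irreducible complex character χ of SL₂ of degree (q + 1)/2 satisfies (2χ(u) − 1)² = δq, and every irreducible complex character χ of degree (q − 1)/2 satisfies (2χ(u) + 1)² = δq; that is, χ(u) = (1 ± √(δq))/2 in the first case and χ(u) = (−1 ± √(δq))/2 in the second. Moreover two different irreducible characters of degree (q + 1)/2 take the two different values (their values at u add up to 1), and likewise for degree (q − 1)/2 (values adding up to −1). -/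
theorem result {F : Type*} [Field F] [Fintype F] (hodd : Odd (Fintype.card F)) (hq : 5 ≤ Fintype.card F)
    (u : Matrix.SpecialLinearGroup (Fin 2) F) (hu : (u : Matrix (Fin 2) (Fin 2) F) = !![1, 1; 0, 1]) :
    (∀ χ : Matrix.SpecialLinearGroup (Fin 2) F → ℂ, Cfsg.IsIrrCharacter (Matrix.SpecialLinearGroup (Fin 2) F) χ → χ 1 = (((Fintype.card F + 1) / 2 : ℕ) : ℂ) → (2 * χ u - 1) ^ 2 = (-1 : ℂ) ^ ((Fintype.card F - 1) / 2) * (Fintype.card F : ℂ)) ∧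
    (∀ χ : Matrix.SpecialLinearGroup (Fin 2) F → ℂ, Cfsg.IsIrrCharacter (Matrix.SpecialLinearGroup (Fin 2) F) χ → χ 1 = (((Fintype.card F - 1) / 2 : ℕ) : ℂ) → (2 * χ u + 1) ^ 2 = (-1 : ℂ) ^ ((Fintype.card F - 1) / 2) * (Fintype.card F : ℂ)) ∧
    (∀ χ₁ χ₂ : Matrix.SpecialLinearGroup (Fin 2) F → ℂ, Cfsg.IsIrrCharacter (Matrix.SpecialLinearGroup (Fin 2) F) χ₁ → Cfsg.IsIrrCharacter (Matrix.SpecialLinearGroup (Fin 2) F) χ₂ → χ₁ ≠ χ₂ →
      χ₁ 1 = (((Fintype.card F + 1) / 2 : ℕ) : ℂ) → χ₂ 1 = (((Fintype.card F + 1) / 2 : ℕ) : ℂ) → χ₁ u + χ₂ u = 1) ∧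
    (∀ χ₁ χ₂ : Matrix.SpecialLinearGroup (Fin 2) F → ℂ, Cfsg.IsIrrCharacter (Matrix.SpecialLinearGroup (Fin 2) F) χ₁ → Cfsg.IsIrrCharacter (Matrix.SpecialLinearGroup (Fin 2) F) χ₂ → χ₁ ≠ χ₂ →
      χ₁ 1 = (((Fintype.card F - 1) / 2 : ℕ) : ℂ) → χ₂ 1 = (((Fintype.card F - 1) / 2 : ℕ) : ℂ) → χ₁ u + χ₂ u = -1) := by
  classical
  have hu' : u = SL2.uu 1 := Subtype.ext (by rw [hu, SL2.coe_uu'])
  subst hu'
  obtain ⟨g0, h0⟩ := SL2.exists_noEig (F := F)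
  obtain ⟨θ0, h01, h02, -⟩ := SL2.exists_theta0 h0 hodd
  rw [SL2.half_add hodd, SL2.half_sub hodd]
  have hP : ∀ χ, Cfsg.IsIrrCharacter _ χ → χ 1 = ((Fintype.card F : ℂ) + 1) / 2 → SL2.IsHalfP χ :=
    fun χ hχ => (SL2.half_of_deg h0 hodd hq h01 h02 hχ).1
  have hC : ∀ χ, Cfsg.IsIrrCharacter _ χ → χ 1 = ((Fintype.card F : ℂ) - 1) / 2 → SL2.IsHalfC θ0 χ :=
    fun χ hχ => (SL2.half_of_deg h0 hodd hq h01 h02 hχ).2
  have d1 : ((Fintype.card F : ℂ) + 1) / 2 = ((1 : ℕ) : ℂ) + ((Fintype.card F : ℂ) - 1) / 2 := by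
    push_cast; ring
  have d0 : ((Fintype.card F : ℂ) - 1) / 2 = ((0 : ℕ) : ℂ) + ((Fintype.card F : ℂ) - 1) / 2 := by
    push_cast; ring
  refine ⟨fun χ hχ h => ?_, fun χ hχ h => ?_, fun χ₁ χ₂ h₁ h₂ hne e₁ e₂ => ?_,
    fun χ₁ χ₂ h₁ h₂ hne e₁ e₂ => ?_⟩
  · have := (SL2.half_values hodd hχ 1 le_rfl (h.trans d1)
      (by rw [(hP χ hχ h).2.2, Nat.cast_one, one_mul])).1
    rw [← this]; push_cast; ring
  · have := (SL2.half_values hodd hχ 0 zero_le_one (h.trans d0)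
      (by rw [(hC χ hχ h).2.2, Nat.cast_zero, zero_mul])).1
    rw [← this]; push_cast; ring
  · have := SL2.sum_eq_of_ne hodd h₁ h₂ hne (fun g hg => by
        rw [(hP χ₁ h₁ e₁).2.1 g hg, (hP χ₂ h₂ e₂).2.1 g hg]) le_rfl (e₁.trans d1)
      (by rw [(hP χ₁ h₁ e₁).2.2, Nat.cast_one, one_mul]) (e₂.trans d1)
      (by rw [(hP χ₂ h₂ e₂).2.2, Nat.cast_one, one_mul])
    rw [this]; push_cast; ring
  · have := SL2.sum_eq_of_ne hodd h₁ h₂ hne (fun g hg => by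
        rw [(hC χ₁ h₁ e₁).2.1 g hg, (hC χ₂ h₂ e₂).2.1 g hg]) zero_le_one (e₁.trans d0)
      (by rw [(hC χ₁ h₁ e₁).2.2, Nat.cast_zero, zero_mul]) (e₂.trans d0)
      (by rw [(hC χ₂ h₂ e₂).2.2, Nat.cast_zero, zero_mul])
    rw [this]; push_cast; ring

end Cfsg.Agent.S2324
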