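import Cfsg.Statements.S2328
import Cfsg.Agent.Lib.Chev.SteinbergIrr
import Cfsg.Agent.Lib.Chev.AllC
import Cfsg.Agent.Lib.Chev.Normal

set_option autoImplicit false
open Cfsg

namespace Cfsg.Agent.S2328

/-- In a Chevalley group of type G₂, B₂, D₄, F₄, E₆, E₇ or E₈ over a finite field of characteristic p, the Steinberg character vanishes at every element whose order is divisible by p (every element that is not semisimple). -/
theorem result {F : Type*} [Field F] [Fintype F] (p : ℕ) [Fact p.Prime] [CharP F p] (D : Cfsg.Lie.ChevalleyDatum) (hD : D ∈ [Cfsg.Lie.chevG2, Cfsg.Lie.chevB2, Cfsg.Lie.chevD4, Cfsg.Lie.chevF4, Cfsg.Lie.chevE6, Cfsg.Lie.chevE7, Cfsg.Lie.chevE8]) (g : ↥(D.group F)) (hg : p ∣ orderOf g) :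
    D.steinbergCharacter F g = 0 := by
  obtain ⟨P, h, -, hC⟩ := Cfsg.Agent.Chev.exists_okC hD
  obtain ⟨S, hS⟩ := h.pos_sylow (F := F) p hC
  have hUG : D.posUnipotent F ≤ D.group F := fun x hx => h.borel_le_group (Subgroup.mem_sup_left hx)
  have hcard : Nat.card (S : Subgroup ↥(D.group F)) = Fintype.card F ^ (P.nroots / 2) := by
    rw [hS, Nat.card_congr (Subgroup.subgroupOfEquivOfLe hUG).toEquiv, h.card_pos hC]
  refine Cfsg.Agent.Chev.irr_vanish_of_defect_zero (h.steinberg_irr hC)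
    (d := Fintype.card F ^ (P.nroots / 2)) ?_ ?_ S.not_dvd_index hg
  · rw [h.steinberg_one hC, Nat.cast_pow]
  · rw [← hcard, Subgroup.card_mul_index]

end Cfsg.Agent.S2328
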