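import Cfsg.Statements.S2329
import Cfsg.Agent.Lib.Invol.CharPow
-- import your own Cfsg.Agent.* helpers here

set_option autoImplicit false
open Cfsg

namespace Cfsg.Agent.S2329

theorem to_normal {F : Type*} [Field F] [Fintype F] (p : ℕ) [Fact p.Prime] [CharP F p]
    (g : Matrix.GeneralLinearGroup (Fin 2) F) (hg : orderOf g = p) :
    ∃ P : Matrix.GeneralLinearGroup (Fin 2) F,
      (g : Matrix (Fin 2) (Fin 2) F) * (P : Matrix (Fin 2) (Fin 2) F) =
        (P : Matrix (Fin 2) (Fin 2) F) * !![1, 1; 0, 1] := by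
  have hp : p.Prime := Fact.out
  set N : Matrix (Fin 2) (Fin 2) F := (g : Matrix (Fin 2) (Fin 2) F) - 1 with hN
  have hnil : IsNilpotent N := CharPow.isNilpotent_of_orderOf p (j := 1) g (by rw [hg, pow_one])
  have hN2 : N * N = 0 := by rw [← pow_two]; exact CharPow.nilpotent_pow_dim hnil
  have hN0 : N ≠ 0 := by
    intro h
    have : g = 1 := Units.ext (sub_eq_zero.1 h)
    rw [this, orderOf_one] at hg
    exact hp.one_lt.ne hg
  obtain ⟨v, hv⟩ : ∃ v, Matrix.mulVec N v ≠ 0 := by
    by_contra h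
    push_neg at h
    exact hN0 (Matrix.ext_of_mulVec_single fun i => by rw [h, Matrix.zero_mulVec])
  set w := Matrix.mulVec N v with hw
  let P : Matrix (Fin 2) (Fin 2) F := Matrix.of fun i j => if j = 0 then w i else v i
  have hPc : ∀ c : Fin 2 → F, Matrix.mulVec P c = c 0 • w + c 1 • v := by
    intro c; ext i
    simp [P, Matrix.mulVec, dotProduct, Fin.sum_univ_two, mul_comm]
  have hNw : Matrix.mulVec N w = 0 := by rw [hw, Matrix.mulVec_mulVec, hN2, Matrix.zero_mulVec]
  have hP : IsUnit P := by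
    rw [Matrix.isUnit_iff_isUnit_det, isUnit_iff_ne_zero, Ne, ← Matrix.exists_mulVec_eq_zero_iff]
    rintro ⟨c, hc, hc0⟩
    rw [hPc] at hc0
    have h1 := congrArg (Matrix.mulVec N) hc0
    rw [Matrix.mulVec_add, Matrix.mulVec_smul, Matrix.mulVec_smul, hNw, smul_zero, zero_add,
      Matrix.mulVec_zero, ← hw, smul_eq_zero] at h1
    have hc1 : c 1 = 0 := h1.resolve_right hv
    rw [hc1, zero_smul, add_zero, smul_eq_zero] at hc0
    have hc00 : c 0 = 0 := hc0.resolve_right hv
    exact hc (funext fun i => by fin_cases i <;> assumption)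
  refine ⟨hP.unit, ?_⟩
  rw [IsUnit.unit_spec, show (g : Matrix (Fin 2) (Fin 2) F) = N + 1 by rw [hN, sub_add_cancel], add_mul, one_mul]
  ext i j
  have a := congrFun hNw i
  have b := congrFun hw i
  simp only [Matrix.mulVec, dotProduct, Fin.sum_univ_two, Pi.zero_apply] at a b
  fin_cases j <;> simp [P, Matrix.mul_apply, Fin.sum_univ_two] <;> grind

/-- Over a finite field of characteristic p, any two elements of order p of GL₂ are conjugate: there is a single conjugacy class of non-identity unipotent elements. -/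
theorem result {F : Type*} [Field F] [Fintype F] (p : ℕ) [Fact p.Prime] [CharP F p] (g h : Matrix.GeneralLinearGroup (Fin 2) F)
    (hg : orderOf g = p) (hh : orderOf h = p) : IsConj g h := by
  obtain ⟨P, hP⟩ := to_normal p g hg
  obtain ⟨Q, hQ⟩ := to_normal p h hh
  refine isConj_iff.2 ⟨Q * P⁻¹, ?_⟩
  have hU : IsUnit (!![1, 1; 0, 1] : Matrix (Fin 2) (Fin 2) F) := by
    rw [Matrix.isUnit_iff_isUnit_det]; simp
  have h1 : g * P = P * hU.unit := Units.ext (by simpa using hP)
  have h2 : h * Q = Q * hU.unit := Units.ext (by simpa using hQ)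
  have : (hU.unit : Matrix.GeneralLinearGroup (Fin 2) F) = P⁻¹ * g * P := by
    rw [mul_assoc, h1, inv_mul_cancel_left]
  rw [eq_mul_inv_of_mul_eq h2, this]
  group

end Cfsg.Agent.S2329
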