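import Cfsg.Statements.S2332
import Cfsg.Agent.Lib.MinDeg.SLMinDeg

set_option autoImplicit false
open Cfsg

namespace Cfsg.Agent.S2332

/-- Smallest degree of a non-linear irreducible complex representation of SL_n over a finite field with q elements, for n ≥ 3 and (n, q) not one of (3, 2), (3, 4), (4, 2), (4, 3): every irreducible complex representation of SL_n(F) of degree at least 2 has degree at least (q^n − q)/(q − 1), and there is an irreducible complex representation of exactly that degree. -/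
theorem result {F : Type*} [Field F] [Fintype F] [DecidableEq F] (n : ℕ) (hn : 3 ≤ n)
    (hex : (n, Fintype.card F) ≠ (3, 2) ∧ (n, Fintype.card F) ≠ (3, 4) ∧ (n, Fintype.card F) ≠ (4, 2) ∧ (n, Fintype.card F) ≠ (4, 3)) :
    (∀ (k : ℕ) (ρ : Representation ℂ (Matrix.SpecialLinearGroup (Fin n) F) (Fin k → ℂ)), ρ.IsIrreducible → 2 ≤ k → (Fintype.card F ^ n - Fintype.card F) / (Fintype.card F - 1) ≤ k) ∧
    (∃ ρ : Representation ℂ (Matrix.SpecialLinearGroup (Fin n) F) (Fin ((Fintype.card F ^ n - Fintype.card F) / (Fintype.card F - 1)) → ℂ), ρ.IsIrreducible) := by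
  obtain ⟨m, rfl⟩ : ∃ m, n = m + 1 := ⟨n - 1, by omega⟩
  set q := Fintype.card F with hq
  have hq2 : 2 ≤ q := Fintype.one_lt_card
  have htar : (q ^ (m + 1) - q) / (q - 1) + 1 = SLMinDeg.sc q (m + 1) := by
    have h1 : SLMinDeg.sc q (m + 1) * (q - 1) = q ^ (m + 1) - 1 := by
      zify [Nat.one_le_pow (m + 1) q (by omega), show 1 ≤ q by omega]
      rw [SLMinDeg.sc]; push_cast
      exact geom_sum_mul _ _
    have hpos : 1 ≤ SLMinDeg.sc q (m + 1) := by
      rw [SLMinDeg.sc_succ']; omega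
    have h2 : q ^ (m + 1) - q = (SLMinDeg.sc q (m + 1) - 1) * (q - 1) := by
      rw [Nat.sub_mul, h1, one_mul]
      have := Nat.le_self_pow (show m + 1 ≠ 0 by omega) q
      omega
    rw [h2, Nat.mul_div_cancel _ (by omega)]
    omega
  refine ⟨fun k ρ hρ hk => ?_, ?_⟩
  · have hk' : Module.finrank ℂ (Fin k → ℂ) = k := Module.finrank_fin_fun ℂ
    have hmain := SLMinDeg.main m ρ (by omega) hρ (by omega)
      (fun h => ⟨fun e => hex.1 (by rw [hq, h, e]), fun e => hex.2.1 (by rw [hq, h, e])⟩)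
      (fun h => ⟨fun e => hex.2.2.1 (by rw [hq, h, e]), fun e => hex.2.2.2 (by rw [hq, h, e])⟩)
    rw [hk', ← hq] at hmain
    omega
  · obtain ⟨χ, hirr, -, ⟨i, hi⟩, -⟩ := SLPerm.exists_perm (F := F) (m := m) (by omega)
    obtain ⟨k, ρ, hρ, hρχ⟩ := hirr i
    have hk : k = (q ^ (m + 1) - q) / (q - 1) := by
      rw [← hρχ, CT.deg_eq_finrank, Module.finrank_fin_fun, ← hq] at hi
      change k + 1 = SLMinDeg.sc q (m + 1) at hi
      omega
    subst hk
    exact ⟨ρ, hρ⟩

end Cfsg.Agent.S2332
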