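import Cfsg.Statements.S2336
import Cfsg.Agent.Lib.CT.Induced
import Cfsg.Agent.Lib.CT.Clifford

set_option autoImplicit false
open Cfsg

namespace Cfsg.Agent.S2336

open Cfsg.Agent.CT Matrix
open scoped ComplexConjugate

universe u

section Action

variable {F : Type u} [Field F] {n : ℕ}

local notation "SL" => Matrix.SpecialLinearGroup (Fin n) F
local notation "X" => {v : Fin n → F // v ≠ 0}

theorem mulVec_ne_zero (g : SL) {v : Fin n → F} (hv : v ≠ 0) :
    (g : Matrix (Fin n) (Fin n) F) *ᵥ v ≠ 0 := by
  intro h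
  apply hv
  have := congrArg (fun w => ((g⁻¹ : SL) : Matrix (Fin n) (Fin n) F) *ᵥ w) h
  simpa only [Matrix.mulVec_mulVec, ← Matrix.SpecialLinearGroup.coe_mul, inv_mul_cancel,
    Matrix.SpecialLinearGroup.coe_one, Matrix.one_mulVec, Matrix.mulVec_zero] using this

/-- The action on non-zero vectors. -/
local instance actNZ : MulAction SL X where
  smul g v := ⟨(g : Matrix (Fin n) (Fin n) F) *ᵥ v.1, mulVec_ne_zero g v.2⟩
  one_smul v := Subtype.ext (by
    show ((1 : SL) : Matrix (Fin n) (Fin n) F) *ᵥ v.1 = v.1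
    simp)
  mul_smul g h v := Subtype.ext (by
    show ((g * h : SL) : Matrix (Fin n) (Fin n) F) *ᵥ v.1 = _
    rw [Matrix.SpecialLinearGroup.coe_mul, ← Matrix.mulVec_mulVec]
    rfl)

theorem coe_smul (g : SL) (v : X) :
    ((g • v : X) : Fin n → F) = (g : Matrix (Fin n) (Fin n) F) *ᵥ v.1 := rfl

theorem exists_moving (hn : 3 ≤ n) {a b i : Fin n} (hab : a ≠ b) (hib : i ≠ b)
    {v : Fin n → F} (hv : v i ≠ 0) :
    ∃ g : SL, (g : Matrix (Fin n) (Fin n) F) *ᵥ Pi.single a 1 = v ∧
      (g : Matrix (Fin n) (Fin n) F) *ᵥ Pi.single b 1 = Pi.single b 1 := by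
  obtain ⟨k, -, hk⟩ := Finset.exists_mem_notMem_of_card_lt_card
    (t := (Finset.univ : Finset (Fin n))) (s := {b, i}) (by
      have := Finset.card_le_two (a := b) (b := i)
      simp only [Finset.card_univ, Fintype.card_fin]
      omega)
  simp only [Finset.mem_insert, Finset.mem_singleton, not_or] at hk
  let σ : Equiv.Perm (Fin n) := Equiv.swap a i
  let A : Matrix (Fin n) (Fin n) F := (1 : Matrix (Fin n) (Fin n) F).updateCol i v
  let M := A * Equiv.Perm.permMatrix F σ
  have hA : A.det = v i := by
    have : A.det = (1 : Matrix (Fin n) (Fin n) F).cramer v i := rfl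
    rw [this, Matrix.cramer_one]
    rfl
  have hdet : M.det ≠ 0 := by
    rw [Matrix.det_mul, hA, Matrix.det_permutation]
    refine mul_ne_zero hv ?_
    rcases Int.units_eq_one_or (Equiv.Perm.sign σ) with h | h <;> simp [h]
  let D : Matrix (Fin n) (Fin n) F := Matrix.diagonal (Function.update 1 k M.det⁻¹)
  have hD : D.det = M.det⁻¹ := by
    rw [Matrix.det_diagonal, Finset.prod_update_of_mem (Finset.mem_univ k)]
    simp
  refine ⟨⟨A * D * Equiv.Perm.permMatrix F σ, ?_⟩, ?_, ?_⟩
  · rw [Matrix.det_mul, Matrix.det_mul, hD, mul_assoc, mul_comm M.det⁻¹, ← mul_assoc,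
      ← Matrix.det_mul]
    exact mul_inv_cancel₀ hdet
  · show (A * D * Equiv.Perm.permMatrix F σ) *ᵥ Pi.single a 1 = v
    rw [← Matrix.mulVec_mulVec, Matrix.permMatrix_mulVec,
      show (Pi.single a (1 : F)) ∘ σ = Pi.single i 1 from funext fun j => by
        simp only [Function.comp_apply, σ, Pi.single_apply, Equiv.swap_apply_eq_iff]
        simp [Equiv.swap_apply_left],
      ← Matrix.mulVec_mulVec, show D *ᵥ Pi.single i (1 : F) = Pi.single i 1 from funext fun j => by
        rw [Matrix.mulVec_diagonal]
        by_cases hj : j = i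
        · subst hj; simp [Function.update_of_ne (Ne.symm hk.2)]
        · simp [hj]]
    funext j
    simp [A]
  · show (A * D * Equiv.Perm.permMatrix F σ) *ᵥ Pi.single b 1 = Pi.single b 1
    rw [← Matrix.mulVec_mulVec, Matrix.permMatrix_mulVec,
      show (Pi.single b (1 : F)) ∘ σ = Pi.single b 1 from funext fun j => by
        simp only [Function.comp_apply, σ, Pi.single_apply, Equiv.swap_apply_eq_iff]
        simp [Equiv.swap_apply_of_ne_of_ne hab.symm hib.symm],
      ← Matrix.mulVec_mulVec, show D *ᵥ Pi.single b (1 : F) = Pi.single b 1 from funext fun j => by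
        rw [Matrix.mulVec_diagonal]
        by_cases hj : j = b
        · subst hj; simp [Function.update_of_ne (Ne.symm hk.1)]
        · simp [hj]]
    funext j
    simp [A, Matrix.updateCol_ne hib.symm, Matrix.one_apply, Pi.single_apply]

variable (i₀ : Fin n)

/-- The standard base point. -/
def base : X := ⟨Pi.single i₀ 1, by simp⟩

/-- The stabiliser of the line through the base point. -/
def lineStab : Subgroup SL where
  carrier := {g | ∃ c : Fˣ, (g : Matrix (Fin n) (Fin n) F) *ᵥ Pi.single i₀ 1
    = (c : F) • Pi.single i₀ 1}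
  one_mem' := ⟨1, by rw [Units.val_one, one_smul, Matrix.SpecialLinearGroup.coe_one, Matrix.one_mulVec]⟩
  mul_mem' := by
    rintro g h ⟨c, hc⟩ ⟨d, hd⟩
    refine ⟨c * d, ?_⟩
    rw [Matrix.SpecialLinearGroup.coe_mul, ← Matrix.mulVec_mulVec, hd, Matrix.mulVec_smul, hc,
      smul_smul, Units.val_mul, mul_comm]
  inv_mem' := by
    rintro g ⟨c, hc⟩
    refine ⟨c⁻¹, ?_⟩
    have h := congrArg (fun w => ((g⁻¹ : SL) : Matrix (Fin n) (Fin n) F) *ᵥ w) hc
    simp only [Matrix.mulVec_mulVec, ← Matrix.SpecialLinearGroup.coe_mul, inv_mul_cancel,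
      Matrix.SpecialLinearGroup.coe_one, Matrix.one_mulVec, Matrix.mulVec_smul] at h
    conv_rhs => rw [h]
    rw [smul_smul, Units.inv_mul, one_smul]

/-- The eigenvalue on the base line. -/
noncomputable def lam : lineStab (F := F) i₀ →* Fˣ :=
  MonoidHom.mk' (fun g => Classical.choose g.2) (fun g h => by
    have key : ∀ (A B : Matrix (Fin n) (Fin n) F) (a b c : Fˣ),
        A *ᵥ Pi.single i₀ 1 = (a : F) • Pi.single i₀ 1 →
        B *ᵥ Pi.single i₀ 1 = (b : F) • Pi.single i₀ 1 →
        (A * B) *ᵥ Pi.single i₀ 1 = (c : F) • Pi.single i₀ 1 → c = a * b := by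
      intro A B a b c ha hb hc
      rw [← Matrix.mulVec_mulVec, hb, Matrix.mulVec_smul, ha, smul_smul] at hc
      have h1 := congrFun hc i₀
      simp only [Pi.smul_apply, Pi.single_eq_same, smul_eq_mul, mul_one] at h1
      exact Units.ext (by rw [Units.val_mul, ← h1, mul_comm])
    exact key _ _ _ _ _ (Classical.choose_spec g.2) (Classical.choose_spec h.2)
      (Classical.choose_spec (g * h).2))

theorem lam_spec (g : lineStab (F := F) i₀) :
    ((g : SL) : Matrix (Fin n) (Fin n) F) *ᵥ Pi.single i₀ 1
      = (lam i₀ g : F) • Pi.single i₀ 1 :=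
  Classical.choose_spec g.2

theorem stab_le_lineStab :
    MulAction.stabilizer SL (base (F := F) i₀) ≤ lineStab i₀ := by
  intro g hg
  refine ⟨1, ?_⟩
  rw [Units.val_one, one_smul]
  exact congrArg Subtype.val hg

theorem lam_eq_one_iff (g : lineStab (F := F) i₀) :
    lam i₀ g = 1 ↔ (g : SL) ∈ MulAction.stabilizer SL (base (F := F) i₀) := by
  rw [MulAction.mem_stabilizer_iff]
  constructor
  · intro h
    exact Subtype.ext (by rw [coe_smul]; show _ *ᵥ Pi.single i₀ 1 = _; rw [lam_spec, h]; simp [base])
  · intro h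
    have h1 := congrFun ((lam_spec i₀ g).symm.trans (congrArg Subtype.val h)) i₀
    exact Units.ext (by simpa [base] using h1)

theorem pretransitive (hn : 3 ≤ n) : MulAction.IsPretransitive SL X := by
  let i₀ : Fin n := ⟨0, by omega⟩
  have key : ∀ v : X, ∃ g : SL, g • base (F := F) i₀ = v := by
    intro v
    obtain ⟨i, hi⟩ := Function.ne_iff.mp v.2
    obtain ⟨b, -, hb⟩ := Finset.exists_mem_notMem_of_card_lt_card
      (t := (Finset.univ : Finset (Fin n))) (s := {i₀, i}) (by
        have := Finset.card_le_two (a := i₀) (b := i)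
        simp only [Finset.card_univ, Fintype.card_fin]
        omega)
    simp only [Finset.mem_insert, Finset.mem_singleton, not_or] at hb
    obtain ⟨g, hg, -⟩ := exists_moving hn (a := i₀) (Ne.symm hb.1) (Ne.symm hb.2) (by simpa using hi)
    exact ⟨g, Subtype.ext hg⟩
  refine ⟨fun v w => ?_⟩
  obtain ⟨g, rfl⟩ := key v
  obtain ⟨h, rfl⟩ := key w
  exact ⟨h * g⁻¹, by rw [mul_smul, inv_smul_smul]⟩

theorem lam_surjective (hn : 3 ≤ n) : Function.Surjective (lam (F := F) i₀) := by
  intro c
  obtain ⟨b, -, hb⟩ := Finset.exists_mem_notMem_of_card_lt_card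
    (t := (Finset.univ : Finset (Fin n))) (s := {i₀}) (by simp; omega)
  have hb' : i₀ ≠ b := by simpa [eq_comm] using hb
  obtain ⟨g, hg, -⟩ := exists_moving hn hb' hb'
    (v := (c : F) • Pi.single (M := fun _ => F) i₀ 1) (by simp)
  refine ⟨⟨g, c, hg⟩, Units.ext ?_⟩
  have := congrFun ((lam_spec i₀ ⟨g, c, hg⟩).symm.trans hg) i₀
  simpa using this

variable [Fintype F]

theorem card_lineStab (hn : 3 ≤ n) :
    Nat.card (lineStab (F := F) i₀)
      = Nat.card Fˣ * Nat.card (MulAction.stabilizer SL (base (F := F) i₀)) := by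
  rw [← Subgroup.index_mul_card (lam (F := F) i₀).ker, Subgroup.index_ker,
    MonoidHom.range_eq_top.mpr (lam_surjective i₀ hn), Subgroup.card_top]
  congr 1
  rw [← Nat.card_congr (Subgroup.subgroupOfEquivOfLe (stab_le_lineStab (F := F) i₀)).toEquiv]
  exact Nat.card_congr (Equiv.setCongr (Set.ext fun g => by
    exact lam_eq_one_iff i₀ g))

theorem lineStab_ne_top (hn : 3 ≤ n) : lineStab (F := F) i₀ ≠ ⊤ := by
  intro h
  obtain ⟨b, -, hb⟩ := Finset.exists_mem_notMem_of_card_lt_card
    (t := (Finset.univ : Finset (Fin n))) (s := {i₀}) (by simp; omega)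
  have hb' : i₀ ≠ b := by simpa [eq_comm] using hb
  haveI := pretransitive (F := F) hn
  obtain ⟨g, hg⟩ := MulAction.exists_smul_eq SL (base (F := F) i₀) (base b)
  obtain ⟨c, hc⟩ : g ∈ lineStab (F := F) i₀ := h ▸ Subgroup.mem_top g
  have := congrFun (hc.symm.trans (congrArg Subtype.val hg)) i₀
  simp [base, hb'] at this

variable [DecidableEq F]

/-- The orbits of the point stabiliser. -/
theorem card_orbits (hn : 3 ≤ n) :
    Nat.card (MulAction.orbitRel.Quotient (MulAction.stabilizer SL (base (F := F) i₀)) X)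
      = Nat.card Fˣ + 1 := by
  classical
  set P := MulAction.stabilizer SL (base (F := F) i₀) with hP
  have hfix : ∀ g : P, ((g : SL) : Matrix (Fin n) (Fin n) F) *ᵥ Pi.single i₀ 1
      = Pi.single i₀ 1 := fun g => congrArg Subtype.val g.2
  obtain ⟨b, -, hbspec⟩ := Finset.exists_mem_notMem_of_card_lt_card
      (t := (Finset.univ : Finset (Fin n))) (s := {i₀}) (by simp; omega)
  have hb : b ≠ i₀ := by simpa using hbspec
  let f : Option Fˣ → MulAction.orbitRel.Quotient P X := fun o => Quotient.mk''
    (o.elim (base b) (fun c => ⟨(c : F) • Pi.single i₀ 1, by simp⟩))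
  have hline : ∀ (g : P) (c : F), ((g : SL) : Matrix (Fin n) (Fin n) F) *ᵥ (c • Pi.single i₀ 1)
      = c • Pi.single i₀ 1 := fun g c => by rw [Matrix.mulVec_smul, hfix]
  have hbij : Function.Bijective f := by
    constructor
    · rintro (_ | c) (_ | d) h
      · rfl
      all_goals obtain ⟨g, hg⟩ := MulAction.orbitRel_apply.mp (Quotient.eq''.mp h)
      all_goals have hg' := congrArg Subtype.val hg
      · have := congrFun ((hline g d).symm.trans hg') b
        simp [base, hb] at this
      · have hg2 := congrArg Subtype.val (inv_smul_eq_iff.mpr hg.symm)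
        have := congrFun ((hline g⁻¹ c).symm.trans hg2) b
        simp [base, hb] at this
      · have := congrFun ((hline g d).symm.trans hg') i₀
        simp at this
        exact congrArg some (Units.ext this.symm)
    · intro q
      induction q using Quotient.inductionOn' with
      | h v =>
        by_cases hv : ∃ i, i ≠ i₀ ∧ v.1 i ≠ 0
        · obtain ⟨i, hi, hvi⟩ := hv
          obtain ⟨g, hg, hg0⟩ := exists_moving hn hb hi hvi
          have hgP : g⁻¹ ∈ P := inv_mem (show g ∈ P from Subtype.ext hg0)
          have hgb : g • base (F := F) b = v := Subtype.ext hg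
          have hgv : g⁻¹ • v = base b := by rw [← hgb, inv_smul_smul]
          exact ⟨none, Quotient.eq''.mpr
            (MulAction.orbitRel_apply.mpr ⟨⟨g⁻¹, hgP⟩, hgv⟩)⟩
        · push_neg at hv
          have hc : v.1 i₀ ≠ 0 := by
            intro h0
            apply v.2
            funext j
            by_cases hj : j = i₀
            · subst hj; exact h0
            · exact hv j hj
          refine ⟨some (Units.mk0 _ hc), ?_⟩
          show Quotient.mk'' _ = Quotient.mk'' v
          congr 1
          refine Subtype.ext (funext fun j => ?_)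
          by_cases hj : j = i₀
          · subst hj; simp
          · simp [hj, hv j hj]
  rw [← Nat.card_congr (Equiv.ofBijective f hbij), Finite.card_option]

end Action

theorem result_aux {G : Type u} [Group G] [Fintype G] {ι : Type} [Fintype ι] [DecidableEq ι]
    (θ : ι → G → ℂ) (hθ : ∀ i, IsCharacter G (θ i)) (hne : ∀ i, θ i ≠ 0) (π : G → ℂ)
    (hπ : π = (fun _ => 1) + ∑ i, θ i) (h1 : classInner π (fun _ => 1) = 1)
    (hq : classInner π π = (Fintype.card ι : ℂ) + 1) :
    (∀ i, IsIrrCharacter G (θ i)) ∧ Function.Injective θ := by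
  choose m hm using fun i j => classInner_character_nat (hθ i) (hθ j)
  choose k hk using fun i => classInner_character_nat (hθ i) (isCharacter_one (G := G))
  have hk' : ∀ i, classInner (fun _ : G => (1 : ℂ)) (θ i) = k i := fun i => by
    rw [classInner_comm_of_char isCharacter_one (hθ i), hk]
  have h11 : classInner (fun _ : G => (1 : ℂ)) (fun _ => 1) = 1 :=
    irr_inner_self isIrrCharacter_one
  rw [hπ, classInner_add_left, classInner_sum_left, h11] at h1
  simp only [hk, ← Nat.cast_sum, add_eq_left, Nat.cast_eq_zero, Finset.sum_eq_zero_iff] at h1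
  rw [hπ] at hq
  simp only [classInner_add_left, classInner_add_right, classInner_sum_left, classInner_sum_right,
    h11, hk, hk', hm] at hq
  simp only [h1 _ (Finset.mem_univ _), Nat.cast_zero, Finset.sum_const_zero, add_zero, zero_add] at hq
  have hq' : ∑ i, ∑ j, m i j = Fintype.card ι := by
    have : (∑ i, ∑ j, (m i j : ℂ)) = Fintype.card ι := by
      rw [Finset.sum_comm]
      linear_combination hq
    exact_mod_cast this
  have hpos : ∀ i, 1 ≤ m i i := by
    intro i
    by_contra h
    apply hne i
    apply classInner_self_eq_zero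
    rw [hm, show m i i = 0 by omega, Nat.cast_zero]
  have hrow : ∀ i, ∑ j, m i j = 1 := by
    have hle : ∀ i ∈ (Finset.univ : Finset ι), 1 ≤ ∑ j, m i j := fun i _ =>
      (hpos i).trans (Finset.single_le_sum (fun j _ => Nat.zero_le (m i j)) (Finset.mem_univ i))
    have := (Finset.sum_eq_sum_iff_of_le hle).mp (by simpa using hq'.symm)
    exact fun i => (this i (Finset.mem_univ i)).symm
  have hdiag : ∀ i, m i i = 1 ∧ ∀ j, j ≠ i → m i j = 0 := by
    intro i
    have h := hrow i
    rw [← Finset.add_sum_erase _ _ (Finset.mem_univ i)] at h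
    have := hpos i
    refine ⟨by omega, fun j hj => ?_⟩
    have : m i j ≤ ∑ j ∈ Finset.univ.erase i, m i j :=
      Finset.single_le_sum (fun j _ => Nat.zero_le (m i j)) (by simp [hj])
    omega
  refine ⟨fun i => isIrr_of_inner_self (hθ i) (by rw [hm, (hdiag i).1, Nat.cast_one]),
    fun i j hij => ?_⟩
  by_contra hne'
  have h0 := (hdiag i).2 j (Ne.symm hne')
  have := hm i j
  rw [← hij, hm, (hdiag i).1, h0] at this
  simp at this

/-- Let F be a finite field with q elements and n ≥ 3. The permutation character of SL_n(F) on the non-zero vectors of F^n (the function sending a matrix to the number of non-zero vectors it fixes) is the sum of the principal character and q − 1 pairwise distinct irreducible complex characters. -/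
theorem result {F : Type*} [Field F] [Fintype F] [DecidableEq F] (n : ℕ) (hn : 3 ≤ n) :
    ∃ χ : Fin (Fintype.card F - 1) → (Matrix.SpecialLinearGroup (Fin n) F → ℂ),
      (∀ i, Cfsg.IsIrrCharacter (Matrix.SpecialLinearGroup (Fin n) F) (χ i)) ∧ Function.Injective χ ∧
      ∀ g : Matrix.SpecialLinearGroup (Fin n) F,
        (Nat.card {v : Fin n → F // v ≠ 0 ∧ (g : Matrix (Fin n) (Fin n) F).mulVec v = v} : ℂ) = 1 + ∑ i, χ i g := by
  classical
  letI := actNZ (F := F) (n := n)
  let i₀ : Fin n := ⟨0, by omega⟩
  haveI := pretransitive (F := F) hn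
  set P := MulAction.stabilizer (Matrix.SpecialLinearGroup (Fin n) F) (base (F := F) i₀) with hP
  set L := lineStab (F := F) i₀
  set l := lam (F := F) i₀
  set d := Fintype.card F - 1 with hd
  have hcard : Nat.card Fˣ = d := by
    rw [Nat.card_units, Nat.card_eq_fintype_card]
  have hdpos : 0 < d := by
    have := Fintype.one_lt_card (α := F)
    omega
  haveI : NeZero d := ⟨hdpos.ne'⟩
  -- an injective character of the multiplicative group
  have hroots : Nat.card Fˣ = Nat.card (rootsOfUnity d ℂ) := by
    rw [hcard, Complex.card_rootsOfUnity]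
  let j : Fˣ →* ℂˣ :=
    (rootsOfUnity d ℂ).subtype.comp (mulEquivOfCyclicCardEq hroots).toMonoidHom
  have hj : Function.Injective j :=
    (rootsOfUnity d ℂ).subtype_injective.comp (mulEquivOfCyclicCardEq hroots).injective
  let θ : Fin d → L → ℂ := fun i h => ((j (l h) : ℂˣ) : ℂ) ^ (i : ℕ)
  have hθchar : ∀ i, IsCharacter L (θ i) := fun i => by
    have := isCharacter_lin ((powMonoidHom (i : ℕ)).comp (j.comp l))
    simpa [θ, powMonoidHom] using this
  let η : Fin d → Matrix.SpecialLinearGroup (Fin n) F → ℂ := fun i => indFun L (θ i)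
  have hηchar : ∀ i, IsCharacter _ (η i) := fun i => isCharacter_indFun L (hθchar i)
  let z : Fin d := ⟨0, hdpos⟩
  have hηz : η z = indFun L (fun _ => 1) := by simp [η, θ, z]
  have hη1 : ∀ i, η i 1 = L.index := fun i => by simp [η, indFun_one_eval, θ]
  have hindex : 2 ≤ L.index := by
    have h0 : L.index ≠ 0 := Subgroup.index_ne_zero_of_finite
    have h1 : L.index ≠ 1 := fun h => lineStab_ne_top i₀ hn (Subgroup.index_eq_one.mp h)
    omega
  -- the permutation character
  set π : Matrix.SpecialLinearGroup (Fin n) F → ℂ := fun g =>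
    (Nat.card (MulAction.fixedBy {v : Fin n → F // v ≠ 0} g) : ℂ) with hπdef
  have hπind : π = indFun P (fun _ => 1) :=
    funext fun g => (indFun_one_eq_fixedBy _ (base (F := F) i₀) g).symm
  have hπsum : π = ∑ i, η i := by
    rw [hπind]
    funext g
    simp only [Finset.sum_apply, η, indFun, ← Finset.mul_sum]
    rw [Finset.sum_comm]
    have hinner : ∀ y, ∑ i, extendByZero L (θ i) y
        = (d : ℂ) * extendByZero P (fun _ => 1) y := by
      intro y
      by_cases hy : y ∈ L
      · simp only [extendByZero_mem L _ hy, θ]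
        by_cases h1 : l ⟨y, hy⟩ = 1
        · rw [extendByZero_mem P _ ((lam_eq_one_iff i₀ ⟨y, hy⟩).mp h1), h1]
          simp
        · rw [extendByZero_not_mem P _ fun h => h1 ((lam_eq_one_iff i₀ ⟨y, hy⟩).mpr h), mul_zero,
            Fin.sum_univ_eq_sum_range (fun k => ((j (l ⟨y, hy⟩) : ℂˣ) : ℂ) ^ k)]
          have hne : ((j (l ⟨y, hy⟩) : ℂˣ) : ℂ) ≠ 1 := fun h =>
            h1 (hj (by rw [map_one]; exact Units.ext h))
          rw [geom_sum_eq hne, ← Units.val_pow_eq_pow_val, ← map_pow,
            show l ⟨y, hy⟩ ^ d = 1 by rw [← hcard, pow_card_eq_one'], map_one, Units.val_one,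
            sub_self, zero_div]
      · rw [extendByZero_not_mem P _ fun h => hy (stab_le_lineStab i₀ h), mul_zero]
        exact Finset.sum_eq_zero fun i _ => extendByZero_not_mem L _ hy
    simp only [hinner, ← Finset.mul_sum]
    rw [card_lineStab i₀ hn, ← hP, hcard, ← mul_assoc, Nat.cast_mul, mul_inv]
    have : (d : ℂ) ≠ 0 := Nat.cast_ne_zero.mpr hdpos.ne'
    field_simp
  have hone : classInner π (fun _ => 1) = 1 := by
    rw [hπind, frobenius_reciprocity P _ (fun _ _ => rfl)]
    exact irr_inner_self isIrrCharacter_one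
  have hnorm : classInner π π = (d : ℂ) + 1 := by
    conv_lhs => rw [hπind]; arg 2; rw [← hπind]
    rw [frobenius_reciprocity P _ (by rw [hπind]; exact isClassFunction_indFun P _)]
    have hB := MulAction.sum_card_fixedBy_eq_card_orbits_mul_card_group P
      {v : Fin n → F // v ≠ 0}
    simp only [← Nat.card_eq_fintype_card] at hB
    rw [card_orbits i₀ hn, hcard] at hB
    simp only [classInner, π, one_mul, map_natCast]
    rw [← Nat.cast_sum]
    have hB' : ∑ h : P, Nat.card (MulAction.fixedBy {v : Fin n → F // v ≠ 0}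
        (h : Matrix.SpecialLinearGroup (Fin n) F)) = (d + 1) * Nat.card P := hB
    rw [hB', Nat.cast_mul]
    have : (Nat.card P : ℂ) ≠ 0 := card_ne_zero
    push_cast
    field_simp
  -- split off the principal character
  let χ : Fin d → Matrix.SpecialLinearGroup (Fin n) F → ℂ := Function.update η z (η z - fun _ => 1)
  have hz1 : classInner (η z) (fun _ => 1) = 1 := by
    rw [hηz, frobenius_reciprocity L _ (fun _ _ => rfl)]
    exact irr_inner_self isIrrCharacter_one
  have hχz : IsCharacter _ (η z - fun _ => (1 : ℂ)) := by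
    have hm : 1 ≤ mult (η z) (fun _ => (1 : ℂ)) := by
      have := mult_spec (hηchar z) isCharacter_one
      rw [hz1] at this
      have : mult (η z) (fun _ => (1 : ℂ)) = 1 := by exact_mod_cast this.symm
      omega
    simpa using isCharacter_sub_constituent (hηchar z) isIrrCharacter_one (k := 1) hm
  have hχchar : ∀ i, IsCharacter _ (χ i) := by
    intro i
    by_cases hi : i = z
    · subst hi; simpa [χ] using hχz
    · simpa [χ, hi] using hηchar i
  have hχne : ∀ i, χ i ≠ 0 := by
    intro i h
    have h' := congrFun h 1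
    by_cases hi : i = z
    · subst hi
      simp [χ, hη1, sub_eq_zero] at h'
      exact lineStab_ne_top i₀ hn h'
    · simp [χ, hi, hη1] at h'
      omega
  have hsum : π = (fun _ => 1) + ∑ i, χ i := by
    rw [hπsum, Finset.sum_update_of_mem (Finset.mem_univ z), ← add_assoc, add_sub_cancel,
      ← Finset.sum_eq_add_sum_sdiff_singleton_of_mem (Finset.mem_univ z)]
  obtain ⟨hirr, hinj⟩ := result_aux χ hχchar hχne π hsum hone (by rw [hnorm, Fintype.card_fin])
  refine ⟨χ, hirr, hinj, fun g => ?_⟩
  have h := congrFun hsum g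
  simp only [Pi.add_apply, Finset.sum_apply] at h
  rw [← h, hπdef]
  refine congrArg Nat.cast (Nat.card_congr ?_)
  exact
    { toFun := fun v => ⟨⟨v.1, v.2.1⟩, Subtype.ext v.2.2⟩
      invFun := fun v => ⟨v.1.1, v.1.2, congrArg Subtype.val v.2⟩
      left_inv := fun v => rfl
      right_inv := fun v => rfl }

end Cfsg.Agent.S2336
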