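import Cfsg.Statements.S2337
import Cfsg.Agent.Lib.Suzuki.MinDeg
import Cfsg.Agent.Lib.Suzuki.LieIso
-- import your own Cfsg.Agent.* helpers here

set_option autoImplicit false
open Cfsg

namespace Cfsg.Agent.S2337

/-- For the Suzuki group Sz(q), q = 2^(2m+1) with m ≥ 1 (realised inside Sp₄ over the field with q elements), every irreducible complex representation of degree at least 2 has degree at least 2^m·(q − 1). -/
theorem result {F : Type*} [Field F] [Fintype F] (m : ℕ) (hm : 1 ≤ m) (hF : Fintype.card F = 2 ^ (2 * m + 1)) :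
    (∀ (k : ℕ) (ρ : Representation ℂ (Cfsg.Lie.Sz F (2 ^ (m + 1))) (Fin k → ℂ)), ρ.IsIrreducible → 2 ≤ k → 2 ^ m * (2 ^ (2 * m + 1) - 1) ≤ k) := by
  open Cfsg.Agent.Suzuki in
  classical
  intro k ρ hρ hk
  obtain ⟨D⟩ := exists_dat (F := F) hm hF
  haveI := simple_lieSz D hF
  have hker : ρ.ker ≠ ⊤ := by
    intro e
    have hall : ∀ g, ρ g = 1 := fun g => MonoidHom.mem_ker.1 (e ▸ Subgroup.mem_top g)
    let v : Fin k → ℂ := Pi.single ⟨0, by omega⟩ 1
    have hv : v ≠ 0 := fun h => by simpa [v] using congrFun h ⟨0, by omega⟩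
    let W : Subrepresentation ρ := ⟨Submodule.span ℂ {v}, fun g w hw => by rw [hall g]; exact hw⟩
    have h1 : Module.finrank ℂ W.toSubmodule = 1 := finrank_span_singleton hv
    rcases hρ.eq_bot_or_eq_top W with h | h
    · rw [h, show (⊥ : Subrepresentation ρ).toSubmodule = ⊥ from rfl, finrank_bot] at h1
      exact Nat.zero_ne_one h1
    · rw [h] at h1
      have : Module.finrank ℂ (⊤ : Subrepresentation ρ).toSubmodule = k := by
        rw [show (⊤ : Subrepresentation ρ).toSubmodule = ⊤ from rfl, finrank_top, Module.finrank_pi, Fintype.card_fin]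
      omega
  have hbot : ρ.ker = ⊥ := ((inferInstance : ρ.ker.Normal).eq_bot_or_eq_top).resolve_right hker
  have hc : (ρ.comp (lieEquiv D hF).toMonoidHom) (gT D 0 1) ≠ 1 := by
    intro e
    have h1 : lieEquiv D hF (gT D 0 1) ∈ ρ.ker := e
    rw [hbot, Subgroup.mem_bot, MulEquiv.map_eq_one_iff] at h1
    exact one_ne_zero (gT_inj D (h1.trans (gT_zero D).symm)).2
  have h := min_degree D hF (ρ.comp (lieEquiv D hF).toMonoidHom) hc
  rwa [Module.finrank_pi, Fintype.card_fin, hF] at h

end Cfsg.Agent.S2337
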