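import Cfsg.Statements.S2343
import Cfsg.Agent.Lib.Ree.MinDegree
import Cfsg.Agent.Lib.Ree.Bridge
import Cfsg.Agent.Lib.Ree.Perfect

set_option autoImplicit false
open Cfsg

namespace Cfsg.Agent.S2343

/-- For the Ree group ²G₂(q), q = 3^(2m+1) with m ≥ 1 (realised over the field with q elements), every irreducible complex representation of degree at least 2 has degree at least q² − q + 1. -/
theorem result {K : Type*} [Field K] [Fintype K] (m : ℕ) (hm : 1 ≤ m) (hK : Fintype.card K = 3 ^ (2 * m + 1)) :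
    (∀ (k : ℕ) (ρ : Representation ℂ (Cfsg.Lie.twistedG2 K (3 ^ m)) (Fin k → ℂ)), ρ.IsIrreducible → 2 ≤ k → (3 ^ (2 * m + 1)) ^ 2 - 3 ^ (2 * m + 1) + 1 ≤ k) := by
  classical
  intro k ρ hρ hk
  obtain ⟨D, -, -, -⟩ := Cfsg.Agent.Ree.exists_dat hK
  obtain ⟨hperf, hsimple⟩ := Cfsg.Agent.Ree.perfect_and_simple hm hK
  have h8 : Fintype.card K % 8 = 3 := by
    rw [hK, pow_succ, pow_mul]; simp [Nat.mul_mod, Nat.pow_mod]
  rw [← hK]
  refine D.degree_bound hperf h8 ρ fun h1 => ?_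
  have hker : ρ.ker = ⊤ := by
    refine (hsimple.eq_bot_or_eq_top_of_normal _ (MonoidHom.normal_ker ρ)).resolve_left fun hb => ?_
    have : D.U 0 0 1 ∈ ρ.ker := MonoidHom.mem_ker.2 h1
    rw [hb, Subgroup.mem_bot, D.U_eq_one] at this
    exact one_ne_zero this.2.2
  have htriv : ∀ g, ρ g = 1 := fun g => MonoidHom.mem_ker.1 (hker ▸ Subgroup.mem_top g)
  let i0 : Fin k := ⟨0, by omega⟩
  let W : Subrepresentation ρ :=
    ⟨Submodule.span ℂ {Pi.single i0 1}, fun g v hv => by rw [htriv g]; exact hv⟩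
  rcases hρ.eq_bot_or_eq_top W with hW | hW
  · have h0 : (Pi.single i0 (1 : ℂ) : Fin k → ℂ) ∈ W.toSubmodule := Submodule.mem_span_singleton_self _
    rw [hW] at h0
    have := congrFun ((Submodule.mem_bot ℂ).1 h0) i0
    simp at this
  · let i1 : Fin k := ⟨1, by omega⟩
    have h0 : (Pi.single i1 (1 : ℂ) : Fin k → ℂ) ∈ W.toSubmodule := by rw [hW]; trivial
    obtain ⟨c, hc⟩ := Submodule.mem_span_singleton.1 h0
    have := congrFun hc i1
    simp [i0, i1, Pi.single_apply, Fin.ext_iff] at this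

end Cfsg.Agent.S2343
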