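import Cfsg.Statements.S2347
import Cfsg.Agent.Lib.MinDeg.WeilRep

set_option autoImplicit false
open Cfsg

namespace Cfsg.Agent.S2347

/-- Smallest degree of a non-linear irreducible complex representation of the symplectic group Sp_{2n} over a finite field of odd order q, n ≥ 2: every irreducible complex representation of degree at least 2 has degree at least (q^n − 1)/2, and there is an irreducible complex representation of exactly that degree (a Weil representation). -/
theorem result {F : Type*} [Field F] [Fintype F] [DecidableEq F] (n : ℕ) (hn : 2 ≤ n) (hodd : Odd (Fintype.card F)) :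
    (∀ (k : ℕ) (ρ : Representation ℂ (Matrix.symplecticGroup (Fin n) F) (Fin k → ℂ)), ρ.IsIrreducible → 2 ≤ k → (Fintype.card F ^ n - 1) / 2 ≤ k) ∧
    (∃ ρ : Representation ℂ (Matrix.symplecticGroup (Fin n) F) (Fin ((Fintype.card F ^ n - 1) / 2) → ℂ), ρ.IsIrreducible) := by
  refine ⟨fun k ρ hρ hk => ?_, WeilRep.exists_irreducible hn hodd⟩
  have h := SpOddMinDeg.main hn hodd ρ (by
    by_contra! h1
    obtain ⟨hV, h⟩ := (CT.isIrreducible_iff ρ).mp hρ
    obtain ⟨v, hv⟩ := exists_ne (0 : Fin k → ℂ)
    rcases h (Submodule.span ℂ {v}) (fun g w hw => by rw [h1 g]; exact hw) with h2 | h2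
    · exact hv (Submodule.span_singleton_eq_bot.mp h2)
    · have := finrank_span_singleton (K := ℂ) hv
      rw [h2, finrank_top, Module.finrank_fin_fun] at this
      omega)
  rwa [Module.finrank_fin_fun] at h

end Cfsg.Agent.S2347
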