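import Cfsg.Statements.S2355
import Cfsg.Agent.Lib.WordLaws.Alternating

set_option autoImplicit false
open Cfsg

namespace Cfsg.Agent.S2355

open Cfsg.Agent.WordLaws
open scoped commutatorElement MatrixGroups

theorem not_law {G H : Type*} [Group G] [Group H] (e : G ≃* H) {w : FreeGroup ℕ}
    (h : ∃ f : ℕ → H, FreeGroup.lift f w ≠ 1) : ¬ ∀ f : ℕ → G, FreeGroup.lift f w = 1 := by
  obtain ⟨f, hf⟩ := h
  intro hlaw
  have : e.toMonoidHom.comp (FreeGroup.lift fun i => e.symm (f i)) = FreeGroup.lift f :=
    FreeGroup.ext_hom _ _ fun i => by simp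
  rw [← this, MonoidHom.comp_apply, hlaw, map_one] at hf
  exact hf rfl

theorem quot_card_le {T ι F : Type*} [Group T] [Fintype ι] [Fintype F] (N : Subgroup T) [N.Normal]
    (i : T → Matrix ι ι F) (hi : Function.Injective i) (Q E : ℕ) (hQ : Fintype.card F ≤ Q) (hQ1 : 1 ≤ Q)
    (hE : Fintype.card ι ≤ E) : Nat.card (T ⧸ N) ≤ Q ^ (E * E) := by
  haveI : Finite T := Finite.of_injective i hi
  refine (Nat.card_le_card_of_surjective _ (QuotientGroup.mk'_surjective N)).trans ?_
  refine (Nat.card_le_card_of_injective i hi).trans ?_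
  rw [show Nat.card (Matrix ι ι F) = Nat.card (ι → ι → F) from rfl]
  simp only [Nat.card_fun, Nat.card_eq_fintype_card]
  rw [← pow_mul]
  calc Fintype.card F ^ (Fintype.card ι * Fintype.card ι) ≤ Q ^ (Fintype.card ι * Fintype.card ι) :=
        Nat.pow_le_pow_left hQ _
    _ ≤ Q ^ (E * E) := Nat.pow_le_pow_right hQ1 (Nat.mul_le_mul hE hE)


/-- A non-trivial law is satisfied by only finitely many finite simple groups that are alternating or classical, up to isomorphism: for every non-trivial element w of the free group on countably many generators there is a bound N such that every alternating group of degree ≥ 5 and every simple classical group (linear, symplectic, unitary or orthogonal, in this problem's sense) in which w is a law has order at most N. -/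
theorem result (w : FreeGroup ℕ) (hw : w ≠ 1) :
    ∃ N : ℕ, ∀ (G : Type*) [Group G] [Finite G],
      (Cfsg.IsAlternating G ∨ Cfsg.IsPSL G ∨ Cfsg.IsPSp G ∨ Cfsg.IsPSU G ∨ Cfsg.IsPOmegaOdd G ∨
          Cfsg.IsPOmegaPlus G ∨ Cfsg.IsPOmegaMinus G) →
      (∀ f : ℕ → G, FreeGroup.lift f w = 1) → Nat.card G ≤ N := by
  obtain ⟨N, hN⟩ := sl_two_nonlaw.{0} w hw
  obtain ⟨D, hD⟩ := perm_strongNonLaw w hw
  obtain ⟨Q, hQ⟩ : ∃ Q, Q = (N + 2) ^ 2 := ⟨_, rfl⟩
  obtain ⟨E, hE⟩ : ∃ E, E = 2 * D + 6 := ⟨_, rfl⟩
  have hNQ : N ≤ Q := by rw [hQ]; nlinarith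
  have hQ1 : 1 ≤ Q := by rw [hQ]; nlinarith
  refine ⟨max (Q ^ (E * E)) E.factorial, fun G _ _ hcl hlaw => ?_⟩
  -- linear groups of dimension ≥ 2
  have hgl : ∀ (F : Type) [Field F] [Fintype F] (m : ℕ), 2 ≤ m → (N ≤ Fintype.card F ∨ D ≤ m) →
      StrongNonLaw (GL (Fin m) F) w := by
    intro F _ _ m hm h
    rcases h with h | h
    · obtain ⟨r, rfl⟩ : ∃ r, m = 2 + r := ⟨m - 2, by omega⟩
      exact (show StrongNonLaw (Matrix.SpecialLinearGroup (Fin 2) F) w from hN F h).map
        ((padGL r).comp Matrix.SpecialLinearGroup.toGL)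
        ((padGL_injective r).comp Matrix.SpecialLinearGroup.toGL_injective)
    · exact (hD m h).map (permGL m) (permGL_injective m)
  rcases hcl with ⟨n, hn, ⟨e⟩⟩ | ⟨F, _, _, n, hn, -, ⟨e⟩⟩ | ⟨F, _, _, m, hm, -, ⟨e⟩⟩ |
      ⟨F, _, _, n, q, hFq, hn, -, ⟨e⟩⟩ | ⟨F, _, _, m, hm, -, ⟨e⟩⟩ | ⟨F, _, _, m, hm, ⟨e⟩⟩ |
      ⟨F, _, _, m, a, b, hm, hab, ⟨e⟩⟩
  · rcases Nat.lt_or_ge n E with h | h
    · refine le_max_of_le_right ?_
      rw [Nat.card_congr e.toEquiv]
      refine (Nat.card_le_card_of_injective _ Subtype.val_injective).trans ?_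
      rw [Nat.card_perm, Nat.card_eq_fintype_card, Fintype.card_fin]
      exact Nat.factorial_le h.le
    · exact absurd hlaw (not_law e (exists_nonlaw_of_quotient _ (alt_nonlaw w n (hD n (by omega)))))
  · rcases Classical.em (N ≤ Fintype.card F ∨ D ≤ n) with h | h
    · refine absurd hlaw (not_law e ((hgl F n hn h).quotient_center
        Matrix.SpecialLinearGroup.toGL fun x y => ⟨⟨_, det_commutator x y⟩, Units.ext rfl⟩))
    · push Not at h
      refine le_max_of_le_left ?_
      rw [Nat.card_congr e.toEquiv]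
      exact quot_card_le _ (fun g : Matrix.SpecialLinearGroup (Fin n) F => (g : Matrix (Fin n) (Fin n) F))
        Subtype.val_injective Q E (by omega) (by omega) (by simp; omega)
  · rcases Classical.em (N ≤ Fintype.card F ∨ D ≤ m) with h | h
    · refine absurd hlaw (not_law e (((hgl F m hm h).map (leviSp m) (leviSp_injective m)).quotient_center
        (MonoidHom.id _) fun x y => ⟨_, rfl⟩))
    · push Not at h
      refine le_max_of_le_left ?_
      rw [Nat.card_congr e.toEquiv]
      exact quot_card_le _ (fun g : Matrix.symplecticGroup (Fin m) F => (g : Matrix (Fin m ⊕ Fin m) _ F))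
        Subtype.val_injective Q E (by omega) (by omega) (by simp; omega)
  · rcases Classical.em (N < q ∨ D ≤ n) with h | h
    · have hgu : StrongNonLaw (GU n F q) w := by
        rcases h with h | h
        · obtain ⟨K, ⟨φ, hφ⟩, hK⟩ := exists_slTwo_GU hFq
          obtain ⟨r, rfl⟩ : ∃ r, n = 2 + r := ⟨n - 2, by omega⟩
          letI : Fintype K := Fintype.ofFinite K
          rw [Nat.card_eq_fintype_card] at hK
          exact (show StrongNonLaw (Matrix.SpecialLinearGroup (Fin 2) K) w from hN K (by omega)).map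
            ((padGU r q).comp φ) ((padGU_injective r q).comp hφ)
        · exact (hD n h).map (permGU n q) (permGU_injective n q)
      refine absurd hlaw (not_law e (hgu.quotient_center
        ((Matrix.SpecialLinearGroup.toGL.comp (SU n F q).subtype).codRestrict _ fun g => g.2) fun x y =>
          ⟨⟨⟨_, det_commutator (x : GL (Fin n) F) y⟩, (⁅x, y⁆ : GU n F q).2⟩, Subtype.ext (Units.ext rfl)⟩))
    · push Not at h
      refine le_max_of_le_left ?_
      rw [Nat.card_congr e.toEquiv]
      have : Fintype.card F ≤ Q := by rw [hFq, hQ]; exact Nat.pow_le_pow_left (by omega) 2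
      exact quot_card_le _ (fun g : SU n F q => ((g : Matrix.SpecialLinearGroup (Fin n) F) : Matrix (Fin n) (Fin n) F))
        (fun x y h => Subtype.ext (Subtype.ext h)) Q E this (by omega) (by simp; omega)
  · rcases Classical.em (N ≤ Fintype.card F ∨ D ≤ m) with h | h
    · refine absurd hlaw (not_law e (((hgl F m (by omega) h).map (leviOdd m) (leviOdd_injective m)).quotient_center
        (Omega F (quadFormOdd m F)).subtype fun x y =>
          ⟨⟨_, Subgroup.commutator_mem_commutator (Subgroup.mem_top x) (Subgroup.mem_top y)⟩, rfl⟩))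
    · push Not at h
      refine le_max_of_le_left ?_
      rw [Nat.card_congr e.toEquiv]
      exact quot_card_le _ (fun g : Omega F (quadFormOdd m F) =>
          (((g : isometryGroup F (quadFormOdd m F)) : GL (Unit ⊕ (Fin m ⊕ Fin m)) F) : Matrix (Unit ⊕ (Fin m ⊕ Fin m)) (Unit ⊕ (Fin m ⊕ Fin m)) F))
        (fun x y h => Subtype.ext (Subtype.ext (Units.ext h))) Q E (by omega) (by omega) (by simp; omega)
  · rcases Classical.em (N ≤ Fintype.card F ∨ D ≤ m) with h | h
    · refine absurd hlaw (not_law e (((hgl F m (by omega) h).map (leviPlus m) (leviPlus_injective m)).quotient_center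
        (Omega F (quadFormPlus m F)).subtype fun x y =>
          ⟨⟨_, Subgroup.commutator_mem_commutator (Subgroup.mem_top x) (Subgroup.mem_top y)⟩, rfl⟩))
    · push Not at h
      refine le_max_of_le_left ?_
      rw [Nat.card_congr e.toEquiv]
      exact quot_card_le _ (fun g : Omega F (quadFormPlus m F) =>
          (((g : isometryGroup F (quadFormPlus m F)) : GL (Fin m ⊕ Fin m) F) : Matrix (Fin m ⊕ Fin m) (Fin m ⊕ Fin m) F))
        (fun x y h => Subtype.ext (Subtype.ext (Units.ext h))) Q E (by omega) (by omega) (by simp; omega)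
  · rcases Classical.em (N ≤ Fintype.card F ∨ D ≤ m - 1) with h | h
    · refine absurd hlaw (not_law e (((hgl F (m - 1) (by omega) h).map (leviMinus (m - 1) a b)
        (leviMinus_injective (m - 1) a b)).quotient_center
        (Omega F (quadFormMinus (m - 1) F a b)).subtype fun x y =>
          ⟨⟨_, Subgroup.commutator_mem_commutator (Subgroup.mem_top x) (Subgroup.mem_top y)⟩, rfl⟩))
    · push Not at h
      refine le_max_of_le_left ?_
      rw [Nat.card_congr e.toEquiv]
      exact quot_card_le _ (fun g : Omega F (quadFormMinus (m - 1) F a b) =>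
          (((g : isometryGroup F (quadFormMinus (m - 1) F a b)) : GL ((Fin (m - 1) ⊕ Fin (m - 1)) ⊕ Fin 2) F) : Matrix ((Fin (m - 1) ⊕ Fin (m - 1)) ⊕ Fin 2) ((Fin (m - 1) ⊕ Fin (m - 1)) ⊕ Fin 2) F))
        (fun x y h => Subtype.ext (Subtype.ext (Units.ext h))) Q E (by omega) (by omega) (by simp; omega)

end Cfsg.Agent.S2355
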