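import Cfsg.Statements.S2356
import Cfsg.Agent.Lib.Invol.SU3Graph
-- import your own Cfsg.Agent.* helpers here

set_option autoImplicit false
open Cfsg

namespace Cfsg.Agent.S2356

/-- Let q be odd, F the field with q² elements, S = SU_3(F) (determinant-one isometries of the standard Hermitian form) and t an involution of S. Then: exactly q(q−1) involutions other than t commute with t; exactly q(q−2)(q²−1) involutions do not commute with t but commute with some involution commuting with t; exactly (q+1)(q²−1) involutions x do not commute with t and admit no involution commuting with both t and x; and every involution can be reached from t in at most three steps, each step going to an involution that commutes with the previous one (the commuting involution graph is connected of diameter 3). -/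
theorem result {F : Type*} [Field F] [Fintype F] {q : ℕ} (hq : Odd q)
    (hF : Fintype.card F = q ^ 2) (t : ↥(Cfsg.SU 3 F q)) (ht : t ≠ 1) (ht2 : t * t = 1) :
    Nat.card {x : ↥(Cfsg.SU 3 F q) // x ≠ 1 ∧ x * x = 1 ∧ x ≠ t ∧ Commute t x} = q * (q - 1) ∧
    Nat.card {x : ↥(Cfsg.SU 3 F q) // x ≠ 1 ∧ x * x = 1 ∧ ¬ Commute t x ∧
        ∃ y : ↥(Cfsg.SU 3 F q), y ≠ 1 ∧ y * y = 1 ∧ Commute t y ∧ Commute y x} = q * (q - 2) * (q ^ 2 - 1) ∧
    Nat.card {x : ↥(Cfsg.SU 3 F q) // x ≠ 1 ∧ x * x = 1 ∧ ¬ Commute t x ∧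
        ∀ y : ↥(Cfsg.SU 3 F q), y ≠ 1 → y * y = 1 → ¬ (Commute t y ∧ Commute y x)} = (q + 1) * (q ^ 2 - 1) ∧
    ∀ x : ↥(Cfsg.SU 3 F q), x ≠ 1 → x * x = 1 →
      ∃ y z : ↥(Cfsg.SU 3 F q), y ≠ 1 ∧ y * y = 1 ∧ z ≠ 1 ∧ z * z = 1 ∧
        Commute t y ∧ Commute y z ∧ Commute z x := by
  haveI := AutPSU.QField.of_card hF
  have hq2 := AutPSU.two_le_q (F := F) (q := q)
  obtain ⟨v, hv⟩ := SU3Inv.exists_R hq ⟨t, ht, ht2⟩
  simp only at hv
  subst hv
  have hq0 : 0 < q + 1 := Nat.succ_pos q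
  have hle2 : 1 ≤ q ^ 2 := Nat.one_le_pow _ _ (by omega)
  -- neighbours
  have hd1 : Nat.card {x : ↥(Cfsg.SU 3 F q) // x ≠ 1 ∧ x * x = 1 ∧ x ≠ SU3Inv.R v ∧
      Commute (SU3Inv.R v) x} = q * (q - 1) := by
    refine Nat.eq_of_mul_eq_mul_right hq0 ?_
    rw [SU3Inv.card_mul hq (fun x => x ≠ SU3Inv.R v ∧ Commute (SU3Inv.R v) x),
      Nat.card_congr (Equiv.subtypeEquivRight (SU3Inv.near_iff hq v)), SU3Inv.card_near, mul_assoc]
    congr 1
    rw [← one_pow 2, Nat.sq_sub_sq, one_pow, mul_comm]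
  -- opposite involutions
  have hd3 : Nat.card {x : ↥(Cfsg.SU 3 F q) // x ≠ 1 ∧ x * x = 1 ∧ ¬ Commute (SU3Inv.R v) x ∧
      ∀ y : ↥(Cfsg.SU 3 F q), y ≠ 1 → y * y = 1 → ¬ (Commute (SU3Inv.R v) y ∧ Commute y x)} =
      (q + 1) * (q ^ 2 - 1) := by
    refine Nat.eq_of_mul_eq_mul_right hq0 ?_
    rw [SU3Inv.card_mul hq (fun x => ¬ Commute (SU3Inv.R v) x ∧
        ∀ y : ↥(Cfsg.SU 3 F q), y ≠ 1 → y * y = 1 → ¬ (Commute (SU3Inv.R v) y ∧ Commute y x)),
      Nat.card_congr (Equiv.subtypeEquivRight (SU3Inv.far_iff hq v)), SU3Inv.card_far]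
    ring
  refine ⟨hd1, ?_, hd3, fun x hx hx2 => ?_⟩
  · have hall := SU3Inv.card_inv (F := F) hq
    have hsplit : Nat.card (SU3Inv.Inv F q) =
        1 + Nat.card {x : ↥(Cfsg.SU 3 F q) // x ≠ 1 ∧ x * x = 1 ∧ x ≠ SU3Inv.R v ∧ Commute (SU3Inv.R v) x} +
        Nat.card {x : ↥(Cfsg.SU 3 F q) // x ≠ 1 ∧ x * x = 1 ∧ ¬ Commute (SU3Inv.R v) x ∧
          ∃ y : ↥(Cfsg.SU 3 F q), y ≠ 1 ∧ y * y = 1 ∧ Commute (SU3Inv.R v) y ∧ Commute y x} +
        Nat.card {x : ↥(Cfsg.SU 3 F q) // x ≠ 1 ∧ x * x = 1 ∧ ¬ Commute (SU3Inv.R v) x ∧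
          ∀ y : ↥(Cfsg.SU 3 F q), y ≠ 1 → y * y = 1 → ¬ (Commute (SU3Inv.R v) y ∧ Commute y x)} := by
      set tt := SU3Inv.R v
      have e : ∀ P : ↥(Cfsg.SU 3 F q) → Prop, Nat.card {x // P x} = {x | P x}.ncard := fun P =>
        Nat.card_coe_set_eq {x | P x}
      rw [e, e, e, e]
      rw [show (1 : ℕ) = ({tt} : Set ↥(Cfsg.SU 3 F q)).ncard from (Set.ncard_singleton _).symm,
        ← Set.ncard_union_eq, ← Set.ncard_union_eq, ← Set.ncard_union_eq]
      · congr 1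
        ext x
        simp only [Set.mem_setOf_eq, Set.mem_union, Set.mem_singleton_iff]
        constructor
        · rintro ⟨h1, h2⟩
          by_cases hxt : x = tt
          · exact Or.inl (Or.inl (Or.inl hxt))
          by_cases hc : Commute tt x
          · exact Or.inl (Or.inl (Or.inr ⟨h1, h2, hxt, hc⟩))
          by_cases he : ∃ y, y ≠ 1 ∧ y * y = 1 ∧ Commute tt y ∧ Commute y x
          · exact Or.inl (Or.inr ⟨h1, h2, hc, he⟩)
          · exact Or.inr ⟨h1, h2, hc, fun y a b c => he ⟨y, a, b, c⟩⟩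
        · rintro (((rfl | h) | h) | h)
          · exact ⟨SU3Inv.R_ne_one hq v, SU3Inv.R_sq v⟩
          all_goals exact ⟨h.1, h.2.1⟩
      all_goals simp only [Set.disjoint_left, Set.mem_union, Set.mem_setOf_eq, Set.mem_singleton_iff]
      · rintro x ((rfl | h) | h) ⟨-, -, hn, hno⟩
        · exact hn (Commute.refl _)
        · exact hn h.2.2.2
        · obtain ⟨y, a, b, c⟩ := h.2.2.2
          exact hno y a b c
      · rintro x (rfl | h) ⟨-, -, hn, -⟩
        · exact hn (Commute.refl _)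
        · exact hn h.2.2.2
      · rintro x rfl ⟨-, -, hn, -⟩
        exact hn rfl
    rw [hall, hd1, hd3] at hsplit
    have h2 : 2 ≤ q := hq2
    have hle : q ≤ q ^ 2 := Nat.le_self_pow two_ne_zero q
    generalize Nat.card _ = N at hsplit ⊢
    have h1 : ((q ^ 2 * (q ^ 2 - q + 1) : ℕ) : ℤ) = ((1 + q * (q - 1) + N + (q + 1) * (q ^ 2 - 1) : ℕ) : ℤ) := by
      rw [hsplit]
    have : (N : ℤ) = ((q * (q - 2) * (q ^ 2 - 1) : ℕ) : ℤ) := by
      push_cast [Nat.cast_sub hle, Nat.cast_sub hle2, Nat.cast_sub h2, Nat.cast_sub (show 1 ≤ q by omega)] at h1 ⊢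
      linear_combination -h1
    exact_mod_cast this
  · obtain ⟨w, hw⟩ := SU3Inv.exists_R hq ⟨x, hx, hx2⟩
    simp only at hw
    subst hw
    exact SU3Inv.connected hq v w

end Cfsg.Agent.S2356
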