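import Cfsg.Statements.S2357
import Cfsg.Agent.Lib.Ree.Toral

set_option autoImplicit false
open Cfsg

namespace Cfsg.Agent.S2357

/-- Let R be the small Ree group over the field with q = 3^(2m+1) ≥ 27 elements and write φ for Euler's totient function. Then R has exactly q²(q²−q+1) involutions, (q²−1)(q³+1) elements of order 3, and q²(q−1)(q³+1) elements of order 6 and as many of order 9; for i > 2 dividing q−1 it has φ(i)q³(q³+1)/2 elements of order i; for i > 1 dividing (q+1)/4 it has φ(i)q³(q−1)(q²−q+1)/6 elements of order i and φ(i)q³(q−1)(q²−q+1)/2 elements of order 2i; and for i > 1 dividing q − 3^(m+1) + 1 (respectively q + 3^(m+1) + 1) it has φ(i)q³(q²−1)(q + 3^(m+1) + 1)/6 (respectively φ(i)q³(q²−1)(q − 3^(m+1) + 1)/6) elements of order i. -/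
theorem result {K : Type*} [Field K] [Fintype K] {m : ℕ} (hm : 1 ≤ m)
    (hK : Fintype.card K = 3 ^ (2 * m + 1)) :
    Nat.card {g : ↥(Cfsg.Lie.twistedG2 K (3 ^ m)) // orderOf g = 2} = (3 ^ (2 * m + 1)) ^ 2 * ((3 ^ (2 * m + 1)) ^ 2 - 3 ^ (2 * m + 1) + 1) ∧
    Nat.card {g : ↥(Cfsg.Lie.twistedG2 K (3 ^ m)) // orderOf g = 3} = ((3 ^ (2 * m + 1)) ^ 2 - 1) * ((3 ^ (2 * m + 1)) ^ 3 + 1) ∧
    Nat.card {g : ↥(Cfsg.Lie.twistedG2 K (3 ^ m)) // orderOf g = 6} = (3 ^ (2 * m + 1)) ^ 2 * (3 ^ (2 * m + 1) - 1) * ((3 ^ (2 * m + 1)) ^ 3 + 1) ∧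
    Nat.card {g : ↥(Cfsg.Lie.twistedG2 K (3 ^ m)) // orderOf g = 9} = (3 ^ (2 * m + 1)) ^ 2 * (3 ^ (2 * m + 1) - 1) * ((3 ^ (2 * m + 1)) ^ 3 + 1) ∧
    (∀ i : ℕ, 2 < i → i ∣ 3 ^ (2 * m + 1) - 1 →
      2 * Nat.card {g : ↥(Cfsg.Lie.twistedG2 K (3 ^ m)) // orderOf g = i} = Nat.totient i * (3 ^ (2 * m + 1)) ^ 3 * ((3 ^ (2 * m + 1)) ^ 3 + 1)) ∧
    (∀ i : ℕ, 1 < i → i ∣ (3 ^ (2 * m + 1) + 1) / 4 →
      6 * Nat.card {g : ↥(Cfsg.Lie.twistedG2 K (3 ^ m)) // orderOf g = i} =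
          Nat.totient i * (3 ^ (2 * m + 1)) ^ 3 * (3 ^ (2 * m + 1) - 1) * ((3 ^ (2 * m + 1)) ^ 2 - 3 ^ (2 * m + 1) + 1) ∧
        2 * Nat.card {g : ↥(Cfsg.Lie.twistedG2 K (3 ^ m)) // orderOf g = 2 * i} =
          Nat.totient i * (3 ^ (2 * m + 1)) ^ 3 * (3 ^ (2 * m + 1) - 1) * ((3 ^ (2 * m + 1)) ^ 2 - 3 ^ (2 * m + 1) + 1)) ∧
    (∀ i : ℕ, 1 < i → i ∣ 3 ^ (2 * m + 1) - 3 ^ (m + 1) + 1 →
      6 * Nat.card {g : ↥(Cfsg.Lie.twistedG2 K (3 ^ m)) // orderOf g = i} =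
        Nat.totient i * (3 ^ (2 * m + 1)) ^ 3 * ((3 ^ (2 * m + 1)) ^ 2 - 1) * (3 ^ (2 * m + 1) + 3 ^ (m + 1) + 1)) ∧
    (∀ i : ℕ, 1 < i → i ∣ 3 ^ (2 * m + 1) + 3 ^ (m + 1) + 1 →
      6 * Nat.card {g : ↥(Cfsg.Lie.twistedG2 K (3 ^ m)) // orderOf g = i} =
        Nat.totient i * (3 ^ (2 * m + 1)) ^ 3 * ((3 ^ (2 * m + 1)) ^ 2 - 1) * (3 ^ (2 * m + 1) - 3 ^ (m + 1) + 1)) := by
  classical
  obtain ⟨D, R⟩ := Cfsg.Agent.Ree.exists_reg hm hK
  haveI := D.finite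
  obtain ⟨A, B, hA, hB, cA, cB, nA, nB, hAB⟩ := D.exists_two_tori R
  have hq := D.q_ge hm
  have eG := D.card_eq_phi
  have e2 := D.card_involutions R.hperf
  rw [D.card_CJ] at e2
  have e3 := D.card_unipotent_class 3 (Or.inl rfl)
  rw [D.card_UG_three] at e3
  have e9 := D.card_unipotent_class 9 (Or.inr rfl)
  rw [D.card_UG_nine] at e9
  have e6 := D.card_order_six
  have hcube := D.cube_add_one
  rw [← hK, ← cA, ← cB]
  simp only [Cfsg.Agent.Ree.Dat.phi] at eG hcube hAB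
  set q := Fintype.card K with hqd
  set F := q ^ 2 - q + 1 with hFd
  have hq1 : 0 < q - 1 := by omega
  have hq3 : 0 < q ^ 3 * (q - 1) := by positivity
  have hF1 : q ^ 2 - 1 = (q - 1) * (q + 1) := by
    have := Nat.sq_sub_sq q 1
    rw [one_pow] at this
    rw [this, mul_comm]
  refine ⟨?_, ?_, ?_, ?_, fun i hi hid => ?_, fun i hi hid => ⟨?_, ?_⟩, fun i hi hid => ?_, fun i hi hid => ?_⟩
  · refine Nat.eq_of_mul_eq_mul_right (by positivity : 0 < q * (q - 1) * (q + 1)) ?_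
    rw [e2, eG]; ring
  · refine Nat.eq_of_mul_eq_mul_right hq3 ?_
    rw [e3, eG, hcube]; ring
  · refine Nat.eq_of_mul_eq_mul_right hq3 ?_
    rw [e6, eG, hcube]; ring
  · refine Nat.eq_of_mul_eq_mul_right hq3 ?_
    rw [e9, eG, hcube]; ring
  · refine Nat.eq_of_mul_eq_mul_right hq1 ?_
    have h := D.count_split R hi hid
    rw [eG] at h
    rw [mul_comm 2, mul_assoc, h, hcube]; ring
  · refine Nat.eq_of_mul_eq_mul_right (show 0 < q + 1 by omega) ?_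
    have h := (D.isTorus_AP R).count D hi hid
    rw [(D.normalizer_AP' R).1, eG] at h
    rw [mul_comm 6, mul_assoc, h]; ring
  · refine Nat.eq_of_mul_eq_mul_right (show 0 < 3 * (q + 1) by omega) ?_
    have h := D.count_double R hi hid
    rw [eG] at h
    rw [mul_comm 2, mul_assoc, ← mul_assoc 2 3, show (2 : ℕ) * 3 = 6 from rfl, h]; ring
  · refine Nat.eq_of_mul_eq_mul_right (Nat.card_pos (α := A)) ?_
    have h := (hA.isTorus D R).count D hi hid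
    rw [nA, eG, ← hAB] at h
    rw [mul_comm 6, mul_assoc, h, hF1]; ring
  · refine Nat.eq_of_mul_eq_mul_right (Nat.card_pos (α := B)) ?_
    have h := (hB.isTorus D R).count D hi hid
    rw [nB, eG, ← hAB] at h
    rw [mul_comm 6, mul_assoc, h, hF1]; ring

end Cfsg.Agent.S2357
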