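import Cfsg.Statements.S2359
import Cfsg.Agent.Lib.Ree.Toral

set_option autoImplicit false
open Cfsg

namespace Cfsg.Agent.S2359

/-- Let R be the small Ree group over the field with q = 3^(2m+1) ≥ 27 elements. If H is a cyclic subgroup of R of order (q−1)/2, then the centralizer of H in R is cyclic of order q−1, and every non-trivial subgroup of H has the same centralizer as H. If H is a cyclic subgroup of order (q+1)/4, then the centralizer of H is abelian of order q+1 with no element of order 4 (so it is the direct product of H and a group of order 4 whose non-identity elements all have order 2), and every non-trivial subgroup of H has the same centralizer as H. -/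
theorem result {K : Type*} [Field K] [Fintype K] {m : ℕ} (hm : 1 ≤ m)
    (hK : Fintype.card K = 3 ^ (2 * m + 1)) (H : Subgroup ↥(Cfsg.Lie.twistedG2 K (3 ^ m))) (hH : IsCyclic H) :
    (Nat.card H = (3 ^ (2 * m + 1) - 1) / 2 →
      IsCyclic ↥(Subgroup.centralizer (H : Set ↥(Cfsg.Lie.twistedG2 K (3 ^ m)))) ∧
        Nat.card ↥(Subgroup.centralizer (H : Set ↥(Cfsg.Lie.twistedG2 K (3 ^ m)))) = 3 ^ (2 * m + 1) - 1 ∧
        ∀ A : Subgroup ↥(Cfsg.Lie.twistedG2 K (3 ^ m)), A ≤ H → A ≠ ⊥ →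
          Subgroup.centralizer (A : Set ↥(Cfsg.Lie.twistedG2 K (3 ^ m))) = Subgroup.centralizer (H : Set ↥(Cfsg.Lie.twistedG2 K (3 ^ m)))) ∧
    (Nat.card H = (3 ^ (2 * m + 1) + 1) / 4 →
      IsMulCommutative ↥(Subgroup.centralizer (H : Set ↥(Cfsg.Lie.twistedG2 K (3 ^ m)))) ∧
        Nat.card ↥(Subgroup.centralizer (H : Set ↥(Cfsg.Lie.twistedG2 K (3 ^ m)))) = 3 ^ (2 * m + 1) + 1 ∧
        (∀ x ∈ Subgroup.centralizer (H : Set ↥(Cfsg.Lie.twistedG2 K (3 ^ m))), orderOf x ≠ 4) ∧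
        ∀ A : Subgroup ↥(Cfsg.Lie.twistedG2 K (3 ^ m)), A ≤ H → A ≠ ⊥ →
          Subgroup.centralizer (A : Set ↥(Cfsg.Lie.twistedG2 K (3 ^ m))) = Subgroup.centralizer (H : Set ↥(Cfsg.Lie.twistedG2 K (3 ^ m)))) := by
  classical
  obtain ⟨D, R⟩ := Cfsg.Agent.Ree.exists_reg hm hK
  haveI := D.finite
  have key : ∀ (T X : Subgroup ↥(Cfsg.Lie.twistedG2 K (3 ^ m))) (k : ℕ), D.IsTorus T k → T ≤ X →
      (∀ a ∈ X, ∀ b ∈ X, a * b = b * a) →
      (∀ x ∈ T, x ≠ 1 → Subgroup.centralizer {x} = X) → T ≠ ⊥ → Nat.card H = k →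
      ∃ g : ↥(Cfsg.Lie.twistedG2 K (3 ^ m)),
        Subgroup.centralizer (H : Set ↥(Cfsg.Lie.twistedG2 K (3 ^ m))) = X.map (MulAut.conj g).toMonoidHom ∧
        ∀ A : Subgroup ↥(Cfsg.Lie.twistedG2 K (3 ^ m)), A ≤ H → A ≠ ⊥ →
          Subgroup.centralizer (A : Set ↥(Cfsg.Lie.twistedG2 K (3 ^ m))) =
            Subgroup.centralizer (H : Set ↥(Cfsg.Lie.twistedG2 K (3 ^ m))) := by
    intro T X k hT hTX hX hTc hTne hHk
    obtain ⟨g, hg⟩ := hT.cyclic_conjugate D hT.cyclic hH (dvd_of_eq hT.card) (hT.card.trans hHk.symm)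
    refine ⟨g, ?_⟩
    have main : ∀ A : Subgroup ↥(Cfsg.Lie.twistedG2 K (3 ^ m)), A ≤ H → A ≠ ⊥ →
        Subgroup.centralizer (A : Set ↥(Cfsg.Lie.twistedG2 K (3 ^ m))) = X.map (MulAut.conj g).toMonoidHom := by
      intro A hA hne
      obtain ⟨⟨a, ha⟩, hane⟩ := (nontrivial_iff_exists_ne (1 : A)).1 ((Subgroup.nontrivial_iff_ne_bot _).2 hne)
      have hmem := hA ha
      rw [hg] at hmem
      obtain ⟨x, hx, hxa⟩ := hmem
      have hxa' : g * x * g⁻¹ = a := hxa
      have hx1 : x ≠ 1 := fun e => hane (Subtype.ext (by simp only [← hxa', e]; group; rfl))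
      ext c
      rw [Subgroup.mem_map_equiv, MulAut.conj_symm_apply]
      constructor
      · intro hc
        rw [← hTc x hx hx1, Subgroup.mem_centralizer_singleton_iff]
        have h := Subgroup.mem_centralizer_iff.1 hc a ha
        rw [← hxa'] at h
        calc g⁻¹ * c * g * x = g⁻¹ * (c * (g * x * g⁻¹)) * g := by group
          _ = g⁻¹ * (g * x * g⁻¹ * c) * g := by rw [h]
          _ = x * (g⁻¹ * c * g) := by group
      · intro hc
        rw [Subgroup.mem_centralizer_iff]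
        intro b hb
        have hb' := hA hb
        rw [hg] at hb'
        obtain ⟨y, hy, rfl⟩ := hb'
        show g * y * g⁻¹ * c = c * (g * y * g⁻¹)
        calc g * y * g⁻¹ * c = g * (y * (g⁻¹ * c * g)) * g⁻¹ := by group
          _ = g * (g⁻¹ * c * g * y) * g⁻¹ := by rw [hX y (hTX hy) _ hc]
          _ = c * (g * y * g⁻¹) := by group
    have hHne : H ≠ ⊥ := fun e => hTne (Subgroup.eq_bot_of_card_eq _ (by
      rw [hT.card, ← hHk, e, Subgroup.card_bot]))
    exact ⟨main H le_rfl hHne, fun A hA hne => (main A hA hne).trans (main H le_rfl hHne).symm⟩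
  constructor
  · intro h
    obtain ⟨g, hg, hsub⟩ := key D.oddTorus D.H.range _ (D.isTorus_oddTorus R) (Subgroup.map_le_range _ _)
      (by rintro _ ⟨a, rfl⟩ _ ⟨b, rfl⟩; rw [← map_mul, ← map_mul, mul_comm])
      (fun x hx hx1 => by
        obtain ⟨z, rfl, h1, h2⟩ := D.mem_oddTorus_ne hx hx1
        exact D.centralizer_H h1 h2) (D.oddTorus_ne_bot hm) (by rw [h, hK])
    haveI := D.isCyclic_H
    refine ⟨?_, ?_, hsub⟩
    · rw [hg]
      exact (MulEquiv.isCyclic (Subgroup.equivMapOfInjective D.H.range _ (MulAut.conj g).injective)).1 inferInstance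
    · rw [hg, Nat.card_congr (Subgroup.equivMapOfInjective D.H.range _ (MulAut.conj g).injective).toEquiv.symm,
        D.card_range_H, hK]
  · intro h
    obtain ⟨g, hg, hsub⟩ := key D.AP D.C0 _ (D.isTorus_AP R) (fun x hx => hx.1)
      (fun a ha b hb => (D.C0_comm ha hb).eq)
      (fun x hx hx1 => D.centralizer_AP' R hx hx1) (D.AP_ne_bot hm) (by rw [h, hK])
    refine ⟨?_, ?_, ?_, hsub⟩
    · refine ⟨⟨fun a b => Subtype.ext ?_⟩⟩
      have hmem : ∀ c : Subgroup.centralizer (H : Set ↥(Cfsg.Lie.twistedG2 K (3 ^ m))),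
          (c : ↥(Cfsg.Lie.twistedG2 K (3 ^ m))) ∈ D.C0.map (MulAut.conj g).toMonoidHom := fun c => hg.le c.2
      have ha := hmem a
      have hb := hmem b
      obtain ⟨x, hx, hxa⟩ := ha
      obtain ⟨y, hy, hyb⟩ := hb
      rw [Subgroup.coe_mul, Subgroup.coe_mul, ← hxa, ← hyb, ← map_mul, ← map_mul, (D.C0_comm hx hy).eq]
    · rw [hg, Nat.card_congr (Subgroup.equivMapOfInjective D.C0 _ (MulAut.conj g).injective).toEquiv.symm,
        D.card_C0, hK]
    · intro x hx hx4
      rw [hg] at hx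
      obtain ⟨y, hy, rfl⟩ := hx
      have hy4 : orderOf y = 4 := by
        rw [← orderOf_injective (MulAut.conj g).toMonoidHom (MulAut.conj g).injective y]; exact hx4
      have hd : orderOf y ∣ 2 * D.kp := orderOf_dvd_of_pow_eq_one (by
        rw [pow_mul, pow_two]; exact (D.sq_mem_AP hy).2)
      rw [hy4] at hd
      have := Nat.odd_iff.1 D.kp_odd
      omega

end Cfsg.Agent.S2359
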