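import Cfsg.Statements.S2360
import Cfsg.Agent.Lib.Invol.SU3Graph
import Cfsg.Agent.Lib.LinearGroups.UnitaryOrder
-- import your own Cfsg.Agent.* helpers here

set_option autoImplicit false
open Cfsg

namespace Cfsg.Agent.S2360

/-- Let q be odd, F the field with q² elements and S = SU_3(F) (determinant-one isometries of the standard Hermitian form). Then all involutions of S are conjugate; there are exactly q²(q²−q+1) of them; the centralizer of an involution has order q(q+1)(q²−1), the order of the full unitary group of degree 2; and for two distinct commuting involutions t and x there is exactly one further involution commuting with both. -/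
theorem result {F : Type*} [Field F] [Fintype F] {q : ℕ} (hq : Odd q)
    (hF : Fintype.card F = q ^ 2) (t : ↥(Cfsg.SU 3 F q)) (ht : t ≠ 1) (ht2 : t * t = 1) :
    (∀ x : ↥(Cfsg.SU 3 F q), x ≠ 1 → x * x = 1 → ∃ g : ↥(Cfsg.SU 3 F q), g * t * g⁻¹ = x) ∧
    Nat.card {x : ↥(Cfsg.SU 3 F q) // x ≠ 1 ∧ x * x = 1} = q ^ 2 * (q ^ 2 - q + 1) ∧
    Nat.card ↥(Subgroup.centralizer ({t} : Set ↥(Cfsg.SU 3 F q))) = q * (q + 1) * (q ^ 2 - 1) ∧
    ∀ x : ↥(Cfsg.SU 3 F q), x ≠ 1 → x * x = 1 → x ≠ t → Commute t x →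
      Nat.card {y : ↥(Cfsg.SU 3 F q) // y ≠ 1 ∧ y * y = 1 ∧ y ≠ t ∧ y ≠ x ∧ Commute t y ∧ Commute x y} = 1 := by
  haveI := AutPSU.QField.of_card hF
  have hq2 := AutPSU.two_le_q (F := F) (q := q)
  set T : SU3Inv.Inv F q := ⟨t, ht, ht2⟩
  have hinv := SU3Inv.card_inv (F := F) hq
  refine ⟨fun x hx hx2 => SU3Inv.isConj_all hq T ⟨x, hx, hx2⟩, hinv, ?_, ?_⟩
  · set C := Subgroup.centralizer ({t} : Set ↥(Cfsg.SU 3 F q)) with hC
    have hidx : C.index = Nat.card (SU3Inv.Inv F q) := by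
      let f : ↥(Cfsg.SU 3 F q) ⧸ C → SU3Inv.Inv F q :=
        Quotient.lift (fun g => ⟨g * t * g⁻¹, by
            intro h; apply ht; simpa [mul_inv_eq_one] using h, by
            rw [show g * t * g⁻¹ * (g * t * g⁻¹) = g * (t * t) * g⁻¹ by group, ht2]; group⟩)
          fun a b hab => by
            have h := Subgroup.mem_centralizer_singleton_iff.1 (QuotientGroup.leftRel_apply.1 hab)
            apply Subtype.ext
            calc a * t * a⁻¹ = a * (t * (a⁻¹ * b)) * b⁻¹ := by group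
              _ = a * (a⁻¹ * b * t) * b⁻¹ := by rw [h]
              _ = b * t * b⁻¹ := by group
      refine Nat.card_congr (Equiv.ofBijective f ⟨fun a b => ?_, fun y => ?_⟩)
      · induction a using QuotientGroup.induction_on with | _ a => ?_
        induction b using QuotientGroup.induction_on with | _ b => ?_
        intro hab
        have h : a * t * a⁻¹ = b * t * b⁻¹ := congrArg Subtype.val hab
        refine QuotientGroup.eq.2 (Subgroup.mem_centralizer_singleton_iff.2 ?_)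
        calc a⁻¹ * b * t = a⁻¹ * (b * t * b⁻¹) * b := by group
          _ = a⁻¹ * (a * t * a⁻¹) * b := by rw [h]
          _ = t * (a⁻¹ * b) := by group
      · obtain ⟨g, hg⟩ := SU3Inv.isConj_all hq T y
        exact ⟨QuotientGroup.mk g, Subtype.ext hg⟩
    have h1 := C.card_mul_index
    rw [hidx, hinv] at h1
    have h2 := UnitaryOrder.card_SU hF 3 (by norm_num)
    rw [UnitaryOrder.card_GU hF 3, Finset.prod_range_succ, Finset.prod_range_succ,
      Finset.prod_range_one, ← h1] at h2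
    norm_num at h2
    have hle : q ≤ q ^ 2 := Nat.le_self_pow two_ne_zero q
    have hle2 : 1 ≤ q ^ 2 := Nat.one_le_pow _ _ (by omega)
    have hpos : 0 < (q + 1) * (q ^ 2 * (q ^ 2 - q + 1)) := by
      have : 0 < q ^ 2 := by omega
      positivity
    refine Nat.eq_of_mul_eq_mul_left hpos ?_
    have h3 := SU3Inv.card_inv_aux (F := F) (q := q)
    linear_combination h2 + q * (q + 1) * (q ^ 2 - 1) * h3
  · intro x hx hx2 hxt hc
    obtain ⟨v, hv⟩ := SU3Inv.exists_R hq T
    obtain ⟨w, hw⟩ := SU3Inv.exists_R hq ⟨x, hx, hx2⟩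
    simp only [T] at hv hw
    subst hv hw
    have hvw := ((SU3Inv.commute_R_iff hq v w).1 hc).resolve_left (Ne.symm hxt)
    obtain ⟨u, huv, hux, huniq⟩ := SU3Inv.exists_unique_third hq v w hvw
    refine Nat.card_eq_one_iff_unique.2 ⟨⟨fun a b => ?_⟩, ⟨⟨SU3Inv.R u, SU3Inv.R_ne_one hq u,
      SU3Inv.R_sq u, ?_, ?_, ?_, ?_⟩⟩⟩
    · have key : ∀ a : {y : ↥(Cfsg.SU 3 F q) // y ≠ 1 ∧ y * y = 1 ∧ y ≠ SU3Inv.R v ∧
          y ≠ SU3Inv.R w ∧ Commute (SU3Inv.R v) y ∧ Commute (SU3Inv.R w) y}, a.1 = SU3Inv.R u := by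
        rintro ⟨y, h1, h2, h3, h4, h5, h6⟩
        obtain ⟨z, hz⟩ := SU3Inv.exists_R hq ⟨y, h1, h2⟩
        simp only at hz ⊢
        subst hz
        exact huniq z ((SU3Inv.near_iff hq v z).1 ⟨h3, h5⟩) ((SU3Inv.near_iff hq w z).1 ⟨h4, h6⟩)
      exact Subtype.ext ((key a).trans (key b).symm)
    · exact ((SU3Inv.near_iff hq v u).2 huv).1
    · exact ((SU3Inv.near_iff hq w u).2 hux).1
    · exact ((SU3Inv.near_iff hq v u).2 huv).2
    · exact ((SU3Inv.near_iff hq w u).2 hux).2

end Cfsg.Agent.S2360
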