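import Cfsg.Statements.S2362
import Cfsg.Agent.Lib.Recog.SpectrumBC
import Cfsg.Agent.Lib.Forms.OddInvol
-- import your own Cfsg.Agent.* helpers here

set_option autoImplicit false
open Cfsg

namespace Cfsg.Agent.S2362

/-- Let F be a finite field of odd order and n ≥ 3. The simple orthogonal group PΩ(2n+1, F) (type B_n) and the projective symplectic group PSp(2n, F) (type C_n), which have the same order, do not have the same set of element orders. -/
theorem result {F : Type*} [Field F] [Fintype F] (hodd : Odd (Fintype.card F)) (n : ℕ) (hn : 3 ≤ n) :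
    Set.range (orderOf : Cfsg.POmega F (Cfsg.quadFormOdd n F) → ℕ) ≠ Set.range (orderOf : Cfsg.PSp n F → ℕ) := by
  classical
  obtain ⟨p, hchar⟩ := CharP.exists F
  haveI := hchar
  have hpp : p.Prime := CharP.char_is_prime F p
  haveI : Fact p.Prime := ⟨hpp⟩
  obtain ⟨f, -, hqp⟩ := FiniteField.card F p
  have hp2 : p ≠ 2 := by
    rintro rfl
    rw [hqp] at hodd
    exact Nat.not_even_iff_odd.2 hodd (Nat.even_pow.2 ⟨even_two, f.ne_zero⟩)
  have h2 : (2 : F) ≠ 0 := fun h => by
    have h' : ((2 : ℕ) : F) = 0 := by exact_mod_cast h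
    rw [CharP.cast_eq_zero_iff F p, Nat.prime_dvd_prime_iff_eq hpp Nat.prime_two] at h'
    exact hp2 h'
  obtain ⟨m, rfl⟩ : ∃ m, n = m + 1 := ⟨n - 1, by omega⟩
  set M := Fintype.card F ^ m + 1 with hM
  -- the element of the symplectic group
  obtain ⟨g₁, hg₁, hj₁⟩ := GLOrders.exists_sp_iso (F := F) p (e := 1) (o := p) le_rfl (Or.inl rfl)
  obtain ⟨g₂, hg₂, hj₂⟩ := GLOrders.exists_sp_iso (F := F) p (e := m) (o := M) (by omega)
    (Or.inr (Or.inl dvd_rfl))
  obtain ⟨x, hx⟩ : ∃ x : Cfsg.PSp (m + 1) F, p * M ∣ orderOf x := by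
    let B := FormTorus.prodB (RingHom.id F) (FormsLib.spB 1 F) (FormsLib.spB m F)
    have hA : LinearMap.IsAlt B := fun v => by
      rw [FormTorus.prodB_apply, FormsLib.spB_alt, FormsLib.spB_alt, add_zero]
    have hN1 : ∀ u, (∀ v, B u v = 0) → u = 0 := fun u hu =>
      Prod.ext (FormsLib.spB_nondeg.1 _ fun w => by simpa [B, FormTorus.prodB_apply] using hu (w, 0))
        (FormsLib.spB_nondeg.1 _ fun w => by simpa [B, FormTorus.prodB_apply] using hu (0, w))
    have hN : LinearMap.Nondegenerate B :=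
      ⟨hN1, fun v hv => hN1 v fun u => by rw [← hA.neg u v, hv u, neg_zero]⟩
    have hdim : Module.finrank F ((Fin 1 ⊕ Fin 1 → F) × (Fin m ⊕ Fin m → F)) = 2 * (m + 1) := by
      simp [Module.finrank_prod]; omega
    obtain ⟨x, hx⟩ := FormTorus.exists_psp hA hN hdim (g₁.prodCongr g₂)
      (FormTorus.preserves_prodCongr hg₁ hg₂)
    refine ⟨x, ?_⟩
    set j := orderOf x
    have hpow : ∀ (i : ℕ) v, (FormTorus.en (g₁.prodCongr g₂) ^ i) v =
        ((FormTorus.en g₁ ^ i) v.1, (FormTorus.en g₂ ^ i) v.2) := by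
      intro i
      induction i with
      | zero => intro v; simp
      | succ i ih => intro v; rw [pow_succ, Module.End.mul_apply, ih, pow_succ, pow_succ]; rfl
    have hsplit : ∀ i (ε : F), FormTorus.en (g₁.prodCongr g₂) ^ i = ε • 1 →
        FormTorus.en g₁ ^ i = ε • 1 ∧ FormTorus.en g₂ ^ i = ε • 1 := by
      intro i ε hi
      refine ⟨LinearMap.ext fun u => ?_, LinearMap.ext fun u => ?_⟩
      · have h' := congrArg Prod.fst (hpow i (u, 0))
        rw [hi] at h'
        exact h'.symm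
      · have h' := congrArg Prod.snd (hpow i (0, u))
        rw [hi] at h'
        exact h'.symm
    have hcop : Nat.Coprime p M := by
      refine (hpp.coprime_iff_not_dvd).2 fun h => hpp.not_dvd_one ?_
      have h1 : p ∣ Fintype.card F ^ m := hqp ▸ dvd_pow (dvd_pow_self p f.ne_zero) (by omega)
      exact (Nat.dvd_add_right h1).1 h
    rcases (hx j).1 (pow_orderOf_eq_one x) with h | h
    · obtain ⟨e1, e2⟩ := hsplit j 1 (by rw [one_smul]; exact h)
      rw [one_smul] at e1 e2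
      exact hcop.mul_dvd_of_dvd_of_dvd ((hj₁ j).1 e1) ((hj₂ j).1 e2)
    · exfalso
      obtain ⟨e1, -⟩ := hsplit j (-1) (h.trans (neg_one_smul F _).symm)
      have h2' : FormTorus.en g₁ ^ (2 * j) = 1 := by
        rw [mul_comm, pow_mul, e1, pow_two]
        simp [smul_smul]
      have hpj : p ∣ j := ((hpp.coprime_iff_not_dvd).2 fun h => hp2
        ((Nat.prime_dvd_prime_iff_eq hpp Nat.prime_two).1 h)).dvd_of_dvd_mul_left ((hj₁ _).1 h2')
      rw [(hj₁ j).2 hpj] at e1
      have := LinearMap.congr_fun e1 (Pi.single (Sum.inl 0) 1)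
      have h' := congrFun this (Sum.inl 0)
      simp at h'
      exact h2 (by linear_combination h')
  intro heq
  obtain ⟨y, hy⟩ : p * M ∈ Set.range (orderOf : Cfsg.POmega F (Cfsg.quadFormOdd (m + 1) F) → ℕ) := by
    rw [heq]
    exact ⟨_, orderOf_pow_orderOf_div (orderOf_pos x).ne' hx⟩
  have hQ := FormsLib.qOdd_nondeg (m := m + 1) h2
  have hcoe := FormsLib.coe_qOdd (m := m + 1) (F := F)
  have hS := SpectrumBC.card_sphere h2 (m + 1)
  rw [← hcoe] at hS
  revert y
  rw [← hcoe]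
  intro y hy
  obtain ⟨g₀, rfl⟩ := QuotientGroup.mk'_surjective _ y
  have hdvd : p * M ∣ orderOf g₀.1 := by
    rw [← hy, Subgroup.orderOf_coe]
    exact orderOf_map_dvd _ _
  have hexc : Fintype.card F ≠ 2 ∨ Fintype.card (Unit ⊕ (Fin (m + 1) ⊕ Fin (m + 1))) ≠ 4 :=
    Or.inr (by simp; omega)
  haveI : Finite (Cfsg.isometryGroup F ⇑(FormsLib.qOdd (m + 1) F)) := inferInstance
  set g := g₀.1 ^ (orderOf g₀.1 / (p * M)) with hg
  have hgΩ : g ∈ Cfsg.Omega F ⇑(FormsLib.qOdd (m + 1) F) := pow_mem g₀.2 _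
  obtain ⟨hd, hs⟩ := (OrthRows.mem_omega hQ hexc).1 hgΩ
  refine SpectrumBC.no_element hQ (m := m) hp2 (by omega) ?_ (OrthRows.gen_top hQ hexc)
    (FormsLib.oEquiv _ g) hd hs ?_ ?_
  · rw [Module.finrank_fintype_fun_eq_card]; simp; omega
  · rw [MulEquiv.orderOf_eq, hg, orderOf_pow_orderOf_div (orderOf_pos _).ne' hdvd]
  · rw [hS, show 2 * (m + 1) = 2 * m + 2 by ring]

end Cfsg.Agent.S2362
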