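import Cfsg.Statements.S2363
import Cfsg.Agent.Lib.LieBound.Exceptional

set_option autoImplicit false
open Cfsg

namespace Cfsg.Agent.S2363

/-- Let G be a finite simple group of Lie type in characteristic p and let p^k be the exact power of p dividing the order of G. Then the order of G is less than p^(3k); and unless G is isomorphic to PSL(2, F) for the field F with p^k elements, the cube of the order of G is less than p^(8k) (that is, the order is below p^(8k/3)). -/
theorem result {G : Type*} [Group G] [Finite G] (p : ℕ) (hp : p.Prime) (hG : Cfsg.IsLieTypeChar p G) :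
    Nat.card G < p ^ (3 * (Nat.card G).factorization p) ∧
      ((¬ ∃ (F : Type) (_ : Field F) (_ : Fintype F), Fintype.card F = p ^ (Nat.card G).factorization p ∧
          Nonempty (G ≃* Matrix.ProjectiveSpecialLinearGroup (Fin 2) F)) →
        Nat.card G ^ 3 < p ^ (8 * (Nat.card G).factorization p)) := by
  classical
  haveI := Fact.mk hp
  have key : ∀ {H : Type} [Group H], Nonempty (G ≃* H) → Cfsg.Agent.LieBound.Small p (Nat.card H) →
      Nat.card G < p ^ (3 * (Nat.card G).factorization p) ∧ Nat.card G ^ 3 < p ^ (8 * (Nat.card G).factorization p) := by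
    rintro H _ ⟨e⟩ h
    rw [Nat.card_congr e.toEquiv]; exact h
  have fin : (Nat.card G < p ^ (3 * (Nat.card G).factorization p) ∧ Nat.card G ^ 3 < p ^ (8 * (Nat.card G).factorization p)) →
      Nat.card G < p ^ (3 * (Nat.card G).factorization p) ∧
      ((¬ ∃ (F : Type) (_ : Field F) (_ : Fintype F), Fintype.card F = p ^ (Nat.card G).factorization p ∧
          Nonempty (G ≃* Matrix.ProjectiveSpecialLinearGroup (Fin 2) F)) →
        Nat.card G ^ 3 < p ^ (8 * (Nat.card G).factorization p)) :=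
    fun h => ⟨h.1, fun _ => h.2⟩
  rcases hG with ⟨F, i1, i2, i3, n, hn, h4, ⟨e⟩⟩ | ⟨F, i1, i2, i3, m, hm, h3, he⟩ | ⟨F, i1, i2, i3, n, q, hF, hn, hx, he⟩ |
    ⟨F, i1, i2, i3, m, hm, ho, he⟩ | ⟨F, i1, i2, i3, m, hm, he⟩ | ⟨F, i1, i2, i3, m, a, b, hm, hab, he⟩ |
    ⟨F, i1, i2, i3, he⟩ | ⟨K, i1, i2, i3, q, hq, he⟩ | ⟨rfl, K, i1, i2, m, hm, hK, he⟩ |
    ⟨rfl, K, i1, i2, m, hm, hK, he⟩ | ⟨rfl, K, i1, i2, m, hm, hK, he⟩
  · obtain ⟨h1, h2, h3⟩ := Cfsg.Agent.LieBound.psl (F := F) hp n hn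
    rw [← Nat.card_congr e.toEquiv] at h1 h2 h3
    refine ⟨h1, fun hne => (h3 ?_).2⟩
    by_contra hn3
    obtain rfl : n = 2 := by omega
    exact hne ⟨F, i1, i2, h2 rfl, ⟨e⟩⟩
  · exact fin (key he (Cfsg.Agent.LieBound.psp hp m hm))
  · exact fin (key he (Cfsg.Agent.LieBound.psu hp n q hF hn))
  · exact fin (key he (Cfsg.Agent.LieBound.omega_odd hp m hm ho))
  · exact fin (key he (Cfsg.Agent.LieBound.omega_plus hp m hm))
  · exact fin (key he (Cfsg.Agent.LieBound.omega_minus hp m hm a b hab))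
  · obtain ⟨c1, c2, c3, c4, c5⟩ := Cfsg.Agent.LieBound.chev (F := F) hp
    rcases he with ⟨-, he⟩ | he | he | he | he
    exacts [fin (key he c1), fin (key he c2), fin (key he c3), fin (key he c4), fin (key he c5)]
  · rcases he with ⟨hK, he⟩ | ⟨hK, he⟩
    exacts [fin (key he (Cfsg.Agent.LieBound.twE6 hp hq hK)), fin (key he (Cfsg.Agent.LieBound.twD4 hp hq hK))]
  · exact fin (key he (Cfsg.Agent.LieBound.suzuki hm hK))
  · exact fin (key he (Cfsg.Agent.LieBound.twF4 hK))
  · exact fin (key he (Cfsg.Agent.LieBound.ree hK))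

end Cfsg.Agent.S2363
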