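import Cfsg.Statements.S2364
import Mathlib.LinearAlgebra.Matrix.GeneralLinearGroup.Card
import Mathlib

set_option autoImplicit false
open Cfsg

namespace Cfsg.Agent.S2364


variable {F : Type*} [Field F] [Fintype F]

theorem card_GL_eq (m : ℕ) : Nat.card (GL (Fin m) F) = ∏ i : Fin m, (Fintype.card F ^ m - Fintype.card F ^ (i : ℕ)) :=
  Matrix.card_GL_field m

theorem factor_eq (q m i : ℕ) (hi : i < m) : q ^ m - q ^ i = q ^ i * (q ^ (m - i) - 1) := by
  rw [Nat.mul_sub, mul_one, ← pow_add, Nat.add_sub_cancel' hi.le]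

theorem dvd_GL {r m : ℕ} (hr : r.Prime) (hrq : ¬ r ∣ Fintype.card F) (h : r ∣ Nat.card (GL (Fin m) F)) :
    ∃ i, 1 ≤ i ∧ i ≤ m ∧ r ∣ Fintype.card F ^ i - 1 := by
  rw [card_GL_eq] at h
  obtain ⟨i, -, hi⟩ := (Prime.dvd_finset_prod_iff hr.prime _).1 h
  rw [factor_eq _ _ _ i.2] at hi
  refine ⟨m - i, by omega, by omega, (hr.dvd_mul.1 hi).resolve_left fun h' => hrq (hr.dvd_of_dvd_pow h')⟩

theorem GL_dvd_of {r m i : ℕ} (hi : 1 ≤ i) (him : i ≤ m) (h : r ∣ Fintype.card F ^ i - 1) :
    r ∣ Nat.card (GL (Fin m) F) := by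
  rw [card_GL_eq]
  refine Dvd.dvd.trans ?_ (Finset.dvd_prod_of_mem _ (Finset.mem_univ (⟨m - i, by omega⟩ : Fin m)))
  rw [factor_eq _ _ _ (show m - i < m by omega), show m - (m - i) = i by omega]
  exact h.mul_left _

theorem card_SL (m : ℕ) (hm : 1 ≤ m) : Nat.card (Matrix.SpecialLinearGroup (Fin m) F) * (Fintype.card F - 1) =
    Nat.card (GL (Fin m) F) := by
  classical
  haveI : Nonempty (Fin m) := ⟨⟨0, hm⟩⟩
  let D : GL (Fin m) F →* Fˣ := Matrix.GeneralLinearGroup.det
  have hker : D.ker = (Matrix.SpecialLinearGroup.toGL (n := Fin m) (R := F)).range := by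
    ext g
    constructor
    · intro h
      exact ⟨⟨g.1, congrArg Units.val h⟩, Units.ext rfl⟩
    · rintro ⟨s, rfl⟩; exact Units.ext s.2
  have hsur : Function.Surjective D := by
    intro c
    let M : Matrix (Fin m) (Fin m) F := Matrix.diagonal fun i => if (i : ℕ) = 0 then (c : F) else 1
    have hM : M.det = c := by
      rw [Matrix.det_diagonal, Finset.prod_eq_single (⟨0, hm⟩ : Fin m)]
      · simp
      · intro i _ hi
        rw [if_neg (fun e => hi (Fin.ext e))]
      · simp
    exact ⟨Matrix.GeneralLinearGroup.mk'' M (by rw [hM]; exact c.isUnit), Units.ext hM⟩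
  have hinj : Function.Injective (Matrix.SpecialLinearGroup.toGL (n := Fin m) (R := F)) :=
    fun a b h => Subtype.ext (congrArg Units.val h)
  have h := Subgroup.card_mul_index D.ker
  rw [Subgroup.index_ker, MonoidHom.range_eq_top.2 hsur, Subgroup.card_top, Nat.card_units,
    Nat.card_eq_fintype_card (α := F), hker, ← Nat.card_congr (MonoidHom.ofInjective hinj).toEquiv] at h
  exact h

/-- An element of order `r` is trivial on small invariant subspaces. -/
theorem fix_small {V : Type*} [AddCommGroup V] [Module F V] [FiniteDimensional F V] {r : ℕ} (hr : r.Prime)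
    (hrq : ¬ r ∣ Fintype.card F) {k : ℕ} (hsmall : ∀ i, 1 ≤ i → i ≤ k → ¬ r ∣ Fintype.card F ^ i - 1)
    (f : Module.End F V) (hf : f ^ r = 1) (hd : Module.finrank F V ≤ k) : f = 1 := by
  classical
  obtain ⟨e⟩ : Nonempty (V ≃ₗ[F] (Fin (Module.finrank F V) → F)) :=
    ⟨(Module.finBasis F V).equivFun⟩
  let Ψ : Module.End F V ≃ₐ[F] Matrix (Fin (Module.finrank F V)) (Fin (Module.finrank F V)) F :=
    LinearMap.toMatrixAlgEquiv (Module.finBasis F V)
  have hu : (Ψ f) ^ r = 1 := by rw [← map_pow, hf, map_one]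
  let u : GL (Fin (Module.finrank F V)) F := Units.ofPowEqOne _ r hu hr.ne_zero
  rcases (Nat.dvd_prime hr).1 (orderOf_dvd_of_pow_eq_one (Units.pow_ofPowEqOne _ _) : orderOf u ∣ r) with h | h
  · have h1 := congrArg Units.val (orderOf_eq_one_iff.1 h)
    exact Ψ.injective (h1.trans (map_one Ψ).symm)
  · obtain ⟨i, h1, h2, h3⟩ := dvd_GL hr hrq (h ▸ orderOf_dvd_natCard u)
    exact absurd h3 (hsmall i h1 (h2.trans hd))

theorem chain_trivial {p : ℕ} [Fact p.Prime] [CharP F p] {V : Type*} [AddCommGroup V] [Module F V]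
    [FiniteDimensional F V] {r : ℕ} (hr : r.Prime) (hrq : ¬ r ∣ Fintype.card F) (hrp : r ≠ p) {k : ℕ}
    (hsmall : ∀ i, 1 ≤ i → i ≤ k → ¬ r ∣ Fintype.card F ^ i - 1) (f : Module.End F V) (hf : f ^ r = 1)
    (W₁ W₂ : Submodule F V) (h12 : W₁ ≤ W₂) (hW₁ : ∀ x ∈ W₁, f x ∈ W₁) (hW₂ : ∀ x ∈ W₂, f x ∈ W₂)
    (d1 : Module.finrank F W₁ ≤ k) (d2 : Module.finrank F W₂ ≤ Module.finrank F W₁ + k)
    (d3 : Module.finrank F V ≤ Module.finrank F W₂ + k) : f = 1 := by
  classical
  have hres : ∀ (W : Submodule F V) (h : ∀ x ∈ W, f x ∈ W), (f.restrict h) ^ r = 1 := fun W h => by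
    rw [Module.End.pow_restrict _]
    exact LinearMap.ext fun x => Subtype.ext (by simp [hf])
  have e1 : ∀ x ∈ W₁, f x = x := fun x hx =>
    congrArg Subtype.val (LinearMap.congr_fun (fix_small hr hrq hsmall _ (hres W₁ hW₁) d1) ⟨x, hx⟩)
  have e3 : ∀ x, f x - x ∈ W₂ := by
    have hq : (W₂.mapQ W₂ f hW₂) ^ r = 1 := by
      refine Submodule.linearMap_qext _ (LinearMap.ext fun x => ?_)
      show ((W₂.mapQ W₂ f hW₂) ^ r) (W₂.mkQ x) = W₂.mkQ x
      have : ∀ j, ((W₂.mapQ W₂ f hW₂) ^ j) (W₂.mkQ x) = W₂.mkQ ((f ^ j) x) := by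
        intro j
        induction j with
        | zero => rfl
        | succ j ih => rw [pow_succ', pow_succ', Module.End.mul_apply, ih, Module.End.mul_apply]; rfl
      rw [this, hf]; rfl
    intro x
    have hd : Module.finrank F (V ⧸ W₂) ≤ k := by
      have := W₂.finrank_quotient_add_finrank
      omega
    have h := LinearMap.congr_fun (fix_small hr hrq hsmall _ hq hd) (W₂.mkQ x)
    exact (Submodule.Quotient.eq W₂).1 h
  have e2 : ∀ x ∈ W₂, f x - x ∈ W₁ := by
    let g := f.restrict hW₂
    let U : Submodule F W₂ := W₁.comap W₂.subtype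
    have hU : U ≤ U.comap g := fun x hx => hW₁ _ hx
    have hq : (U.mapQ U g hU) ^ r = 1 := by
      refine Submodule.linearMap_qext _ (LinearMap.ext fun x => ?_)
      show ((U.mapQ U g hU) ^ r) (U.mkQ x) = U.mkQ x
      have : ∀ j, ((U.mapQ U g hU) ^ j) (U.mkQ x) = U.mkQ ((g ^ j) x) := by
        intro j
        induction j with
        | zero => rfl
        | succ j ih => rw [pow_succ', pow_succ', Module.End.mul_apply, ih, Module.End.mul_apply]; rfl
      rw [this, hres W₂ hW₂]; rfl
    intro x hx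
    have hd : Module.finrank F (W₂ ⧸ U) ≤ k := by
      have := U.finrank_quotient_add_finrank
      have hU' : Module.finrank F U = Module.finrank F W₁ :=
        (Submodule.comapSubtypeEquivOfLe h12).finrank_eq
      omega
    have h := LinearMap.congr_fun (fix_small hr hrq hsmall _ hq hd) (U.mkQ ⟨x, hx⟩)
    exact (Submodule.Quotient.eq U).1 h
  have h3 : (f - 1) ^ 3 = 0 := by
    refine LinearMap.ext fun x => ?_
    show (f - 1) ((f - 1) ((f - 1) x)) = 0
    have a := e2 _ (e3 x)
    show f _ - _ = 0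
    exact sub_eq_zero.2 (e1 _ a)
  have h4 : f ^ (p ^ 3) = 1 := by
    have h := congrArg (Polynomial.aeval f) (show ((Polynomial.X : Polynomial F) - 1) ^ (p ^ 3) =
      Polynomial.X ^ (p ^ 3) - 1 by rw [sub_pow_char_pow, one_pow])
    simp only [map_pow, map_sub, Polynomial.aeval_X, map_one] at h
    rw [pow_eq_zero_of_le (Nat.lt_pow_self (Fact.out : p.Prime).one_lt).le h3] at h
    exact sub_eq_zero.1 h.symm
  have hg := pow_gcd_eq_one.2 ⟨hf, h4⟩
  rw [Nat.Coprime.pow_right 3 ((Nat.coprime_primes hr (Fact.out : p.Prime)).2 hrp), pow_one] at hg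
  exact hg

/-- Let F be a finite field of characteristic p, n ≥ 4, and let a, b be commuting elements of PSL(n, F) with a of order p. Then every prime divisor of the order of b divides the order of SL(n − 2, F). -/
theorem result {F : Type*} [Field F] [Fintype F] (p : ℕ) [Fact p.Prime] [CharP F p] (n : ℕ) (hn : 4 ≤ n)
    (a b : Matrix.ProjectiveSpecialLinearGroup (Fin n) F) (ha : orderOf a = p) (hab : Commute a b) :
    (orderOf b).primeFactors ⊆ (Nat.card (Matrix.SpecialLinearGroup (Fin (n - 2)) F)).primeFactors := by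
  classical
  have hp := (Fact.out : p.Prime)
  set q := Fintype.card F with hq
  obtain ⟨f, -, hF⟩ := FiniteField.card F p
  have hq1 : 1 < q := Fintype.one_lt_card
  have hpq1 : ¬ p ∣ q - 1 := fun h => hp.not_dvd_one (by
    have h2 : p ∣ q := by rw [hq, hF]; exact dvd_pow_self p f.ne_zero
    have h3 := Nat.dvd_sub h2 h
    rwa [show q - (q - 1) = 1 by omega] at h3)
  intro r hr
  rw [Nat.mem_primeFactors] at hr ⊢
  obtain ⟨hr, hrb, -⟩ := hr
  refine ⟨hr, ?_, Nat.card_pos.ne'⟩
  have hSL := card_SL (F := F) (n - 2) (by omega)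
  rw [← hq] at hSL
  by_cases hr1 : r ∣ q - 1
  · have h2 : r * (q - 1) ∣ Nat.card (GL (Fin (n - 2)) F) := by
      rw [card_GL_eq, ← Finset.mul_prod_erase _ _ (Finset.mem_univ (⟨n - 4, by omega⟩ : Fin (n - 2)))]
      refine mul_dvd_mul ?_ (Dvd.dvd.trans ?_ (Finset.dvd_prod_of_mem _
        (show (⟨n - 3, by omega⟩ : Fin (n - 2)) ∈ _ from Finset.mem_erase.2
          ⟨by simp [Fin.ext_iff]; omega, Finset.mem_univ _⟩)))
      · rw [factor_eq _ _ _ (show n - 4 < n - 2 by omega), show n - 2 - (n - 4) = 2 by omega]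
        exact (hr1.trans ⟨q + 1, by rw [mul_comm, ← Nat.sq_sub_sq, one_pow]⟩).mul_left _
      · rw [factor_eq _ _ _ (show n - 3 < n - 2 by omega), show n - 2 - (n - 3) = 1 by omega, pow_one]
        exact dvd_mul_left _ _
    rw [← hSL] at h2
    exact (mul_dvd_mul_iff_right (by omega : q - 1 ≠ 0)).1 h2
  suffices hgoal : r ∣ Nat.card (GL (Fin (n - 2)) F) by
    rw [← hSL] at hgoal
    exact (hr.dvd_mul.1 hgoal).resolve_right hr1
  by_cases hrq : r ∣ q
  · rw [card_GL_eq]
    refine Dvd.dvd.trans ?_ (Finset.dvd_prod_of_mem _ (Finset.mem_univ (⟨n - 3, by omega⟩ : Fin (n - 2))))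
    rw [factor_eq _ _ _ (show n - 3 < n - 2 by omega)]
    exact (hrq.trans (dvd_pow_self _ (by omega : n - 3 ≠ 0))).mul_right _
  by_contra hno
  have hsmall : ∀ i, 1 ≤ i → i ≤ n - 2 → ¬ r ∣ q ^ i - 1 := fun i h1 h2 h3 => hno (GL_dvd_of h1 h2 h3)
  have hrp : r ≠ p := fun e => hrq (by rw [e, hq, hF]; exact dvd_pow_self p f.ne_zero)
  obtain ⟨A, rfl⟩ := QuotientGroup.mk_surjective a
  obtain ⟨B, rfl⟩ := QuotientGroup.mk_surjective b
  set Z := Subgroup.center (Matrix.SpecialLinearGroup (Fin n) F)
  have hZq : ∀ z ∈ Z, z ^ (q - 1) = 1 := by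
    intro z hz
    obtain ⟨c, -, hc⟩ := Matrix.SpecialLinearGroup.mem_center_iff.1 hz
    refine Subtype.ext ?_
    rw [Matrix.SpecialLinearGroup.coe_pow, ← hc, ← map_pow, Matrix.SpecialLinearGroup.coe_one]
    have hc0 : c ≠ 0 := by
      intro e
      have hd := z.2
      haveI : Nonempty (Fin n) := ⟨⟨0, by omega⟩⟩
      rw [← hc, e, map_zero, Matrix.det_zero] at hd
      exact zero_ne_one hd
    rw [FiniteField.pow_card_sub_one_eq_one c hc0, map_one]
  set u := A ^ (q - 1) with hu
  have hup : u ^ p = 1 := by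
    rw [hu, ← pow_mul, mul_comm, pow_mul]
    refine hZq _ ((QuotientGroup.eq_one_iff _).1 ?_)
    rw [QuotientGroup.mk_pow, ← ha, pow_orderOf_eq_one]
  have hco : Nat.Coprime p (q - 1) := (Nat.Prime.coprime_iff_not_dvd hp).2 hpq1
  have hu1 : u ≠ 1 := by
    intro e
    have h1 : (QuotientGroup.mk A : _ ⧸ Z) ^ (q - 1) = 1 := by rw [← QuotientGroup.mk_pow, ← hu, e, QuotientGroup.mk_one]
    have h2 := orderOf_dvd_of_pow_eq_one h1
    rw [ha] at h2
    exact hpq1 h2
  have huB : Commute u B := by
    have hm : ((QuotientGroup.mk (u * B) : _ ⧸ Z)) = QuotientGroup.mk (B * u) := by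
      rw [QuotientGroup.mk_mul, QuotientGroup.mk_mul, hu, QuotientGroup.mk_pow]
      exact (hab.pow_left _).eq
    have hz : (B * u)⁻¹ * (u * B) ∈ Z := QuotientGroup.eq.1 hm.symm
    set z := (B * u)⁻¹ * (u * B) with hzdef
    have hzc : Commute u z := Subgroup.mem_center_iff.1 hz u
    have h1 : u * z = B⁻¹ * u * B := by rw [hzdef]; group
    have h2 : (B⁻¹ * u * B⁻¹⁻¹) ^ p = 1 := by rw [conj_pow, hup, mul_one, mul_inv_cancel]
    rw [inv_inv, ← h1, hzc.mul_pow, hup, one_mul] at h2
    have h3 : z = 1 := by rw [← pow_one z, ← hco.gcd_eq_one]; exact pow_gcd_eq_one.2 ⟨h2, hZq z hz⟩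
    rw [h3, mul_one] at h1
    show u * B = B * u
    calc u * B = B * (B⁻¹ * u * B) := by group
      _ = B * u := by rw [← h1]
  have hrB : r ∣ orderOf B := hrb.trans (orderOf_map_dvd (QuotientGroup.mk' Z) B)
  set B' := B ^ (orderOf B / r)
  have hB' : orderOf B' = r := orderOf_pow_orderOf_div (orderOf_pos B).ne' hrB
  have huB' : Commute u B' := huB.pow_right _
  let L : Matrix (Fin n) (Fin n) F ≃ₐ[F] Module.End F (Fin n → F) := Matrix.toLinAlgEquiv'
  set N := L (u.1 - 1) with hN
  set fB := L B'.1 with hfB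
  have hfr : fB ^ r = 1 := by
    rw [hfB, ← map_pow, ← Matrix.SpecialLinearGroup.coe_pow, ← hB', pow_orderOf_eq_one,
      Matrix.SpecialLinearGroup.coe_one, map_one]
  have hcomm : Commute fB N := by
    refine Commute.map ?_ L
    have h := congrArg Subtype.val huB'.eq
    simp only [Matrix.SpecialLinearGroup.coe_mul] at h
    exact (Commute.sub_right h.symm (Commute.one_right _))
  have hNp : N ^ p = 0 := by
    rw [hN, ← map_pow]
    have h := congrArg (Polynomial.aeval u.1) (show ((Polynomial.X : Polynomial F) - 1) ^ p =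
      Polynomial.X ^ p - 1 by rw [sub_pow_char, one_pow])
    simp only [map_pow, map_sub, Polynomial.aeval_X, map_one] at h
    rw [h, ← Matrix.SpecialLinearGroup.coe_pow, hup, Matrix.SpecialLinearGroup.coe_one, sub_self, map_zero]
  have hN0 : N ≠ 0 := fun e => hu1 (Subtype.ext (sub_eq_zero.1 (L.injective (e.trans (map_zero L).symm))))
  have hinv : ∀ (M : Module.End F (Fin n → F)), Commute fB M → ∀ x ∈ LinearMap.ker M, fB x ∈ LinearMap.ker M :=
    fun M h x hx => by
      rw [LinearMap.mem_ker] at hx ⊢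
      rw [← Module.End.mul_apply, ← h.eq, Module.End.mul_apply, hx, map_zero]
  have hfin : Module.finrank F (Fin n → F) = n := Module.finrank_fin_fun F
  set K := LinearMap.ker N
  have hK1 : K ≠ ⊥ := fun e => by
    have hi : Function.Injective (N ^ p) := by
      rw [Module.End.coe_pow]; exact (LinearMap.ker_eq_bot.1 e).iterate p
    rw [hNp] at hi
    haveI : Nonempty (Fin n) := ⟨⟨0, by omega⟩⟩
    exact one_ne_zero (congrFun (hi (a₁ := fun _ => (1 : F)) (a₂ := 0) rfl) ⟨0, by omega⟩)
  have hk1 : 1 ≤ Module.finrank F K := Nat.one_le_iff_ne_zero.2 fun e => hK1 (Submodule.finrank_eq_zero.1 e)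
  have hk2 : Module.finrank F K < n := by
    by_contra h
    exact hN0 (LinearMap.ker_eq_top.1 (Submodule.eq_top_of_finrank_eq
      (le_antisymm (Submodule.finrank_le _) (hfin.le.trans (not_lt.1 h)))))
  have hrk := N.finrank_range_add_finrank_ker
  rw [hfin] at hrk
  change _ + Module.finrank F K = n at hrk
  have hfin1 : fB = 1 := by
    rcases (show Module.finrank F K = 1 ∨ (2 ≤ Module.finrank F K ∧ Module.finrank F K ≤ n - 2) ∨
      Module.finrank F K = n - 1 by omega) with h | h | h
    · set K2 := LinearMap.ker (N ^ 2)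
      have hle : K ≤ K2 := fun x hx => by
        rw [LinearMap.mem_ker] at hx ⊢
        rw [pow_two, Module.End.mul_apply, hx, map_zero]
      have hlt : K ≠ K2 := fun e => by
        have hall : ∀ j, LinearMap.ker (N ^ (j + 1)) ≤ K := by
          intro j
          induction j with
          | zero => rw [zero_add, pow_one]
          | succ j ih =>
            intro x hx
            rw [LinearMap.mem_ker, pow_succ, Module.End.mul_apply] at hx
            have h1 : N x ∈ K := ih hx
            rw [e, LinearMap.mem_ker, pow_two, Module.End.mul_apply]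
            exact h1
        have h2 := hall (p - 1)
        rw [Nat.sub_add_cancel hp.one_le, hNp, LinearMap.ker_zero] at h2
        exact hN0 (LinearMap.ker_eq_top.1 (top_le_iff.1 h2))
      have hlt2 := Submodule.finrank_lt_finrank_of_lt (lt_of_le_of_ne hle hlt)
      have hub : Module.finrank F K2 ≤ 2 := by
        let g : K2 →ₗ[F] K := (N ∘ₗ K2.subtype).codRestrict K fun x => by
          have := x.2
          rw [LinearMap.mem_ker, pow_two, Module.End.mul_apply] at this
          exact this
        have hg := g.finrank_range_add_finrank_ker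
        have hr' := Submodule.finrank_le (LinearMap.range g)
        have hkk : Module.finrank F (LinearMap.ker g) ≤ Module.finrank F K := by
          have hmap : ((LinearMap.ker g).map K2.subtype) ≤ K := by
            rintro _ ⟨x, hx, rfl⟩
            have hx' : g x = 0 := hx
            exact congrArg Subtype.val hx'
          rw [← (Submodule.equivMapOfInjective _ K2.subtype_injective (LinearMap.ker g)).finrank_eq.symm]
          exact Submodule.finrank_mono hmap
        omega
      exact chain_trivial hr hrq hrp hsmall fB hfr K K2 hle (hinv N hcomm) (hinv _ (hcomm.pow_right 2))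
        (by omega) (by omega) (by omega)
    · exact chain_trivial hr hrq hrp hsmall fB hfr K K le_rfl (hinv N hcomm) (hinv N hcomm)
        (by omega) (by omega) (by omega)
    · have hR : Module.finrank F (LinearMap.range N) = 1 := by omega
      have hle : LinearMap.range N ≤ K := by
        rintro _ ⟨x, rfl⟩
        rw [LinearMap.mem_ker]
        by_contra hne
        have hx0 : N x ≠ 0 := fun e => hne (by rw [e, map_zero])
        obtain ⟨c, hc⟩ := (finrank_eq_one_iff_of_nonzero' (⟨N x, x, rfl⟩ : LinearMap.range N)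
          (fun e => hx0 (congrArg Subtype.val e))).1 hR ⟨N (N x), N x, rfl⟩
        have hc' : c • N x = N (N x) := congrArg Subtype.val hc
        have hpow : ∀ j, (N ^ j) (N x) = c ^ j • N x := by
          intro j
          induction j with
          | zero => simp
          | succ j ih => rw [pow_succ', Module.End.mul_apply, ih, map_smul, ← hc', smul_smul, pow_succ]
        have h0 := hpow p
        rw [hNp, LinearMap.zero_apply, eq_comm, smul_eq_zero] at h0
        rcases h0 with h0 | h0
        · exact hne (by rw [← hc', pow_eq_zero_iff hp.ne_zero |>.1 h0, zero_smul])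
        · exact hx0 h0
      refine chain_trivial hr hrq hrp hsmall fB hfr (LinearMap.range N) K hle ?_ (hinv N hcomm)
        (by omega) (by omega) (by omega)
      rintro _ ⟨x, rfl⟩
      exact ⟨fB x, by rw [← Module.End.mul_apply, ← hcomm.eq, Module.End.mul_apply]⟩
  have : B' = 1 := Subtype.ext (L.injective (hfin1.trans (map_one L).symm))
  rw [this, orderOf_one] at hB'
  exact hr.ne_one hB'.symm

end Cfsg.Agent.S2364
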