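import Cfsg.Statements.S2365
import Cfsg.Agent.Lib.LinearGroups.UnitaryOrder

set_option autoImplicit false
set_option maxHeartbeats 1000000
open Cfsg

namespace Cfsg.Agent.S2365

open Matrix Module

section Count

variable {K : Type*} [Field K] {m : ℕ}

theorem pow_val {M : Type*} [Monoid M] {r : ℕ} [NeZero r] {x : M} (hx : x ^ r = 1) (a : ℕ) :
    x ^ a = x ^ ((a : ZMod r)).val := by
  rw [ZMod.val_natCast, ← pow_eq_pow_mod a hx]

/-- Twice the projection to an eigenspace. -/
def proj (r : ℕ) [NeZero r] (M : Matrix (Fin m) (Fin m) K) (ν : K) : Matrix (Fin m) (Fin m) K :=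
  ∑ j : ZMod r, ν ^ j.val • M ^ j.val

theorem proj_shift {r : ℕ} [NeZero r] {M : Matrix (Fin m) (Fin m) K} (hM : M ^ r = 1) {ν : K}
    (hν : ν ^ r = 1) : M * proj r M ν = ν⁻¹ • proj r M ν := by
  have hν0 : ν ≠ 0 := fun e => by rw [e, zero_pow (NeZero.ne r)] at hν; exact zero_ne_one hν
  have e : ν • (M * proj r M ν) = proj r M ν := by
    rw [proj, Finset.mul_sum, Finset.smul_sum]
    refine Fintype.sum_equiv (Equiv.addRight 1) _ _ fun j => ?_
    rw [mul_smul_comm, smul_smul, ← pow_succ', ← pow_succ', pow_val hν, pow_val hM]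
    simp
  calc M * proj r M ν = ν⁻¹ • (ν • (M * proj r M ν)) := (inv_smul_smul₀ hν0 _).symm
    _ = ν⁻¹ • proj r M ν := by rw [e]

theorem proj_mulVec {r : ℕ} [NeZero r] {M : Matrix (Fin m) (Fin m) K} {v : Fin m → K} {c : K}
    (hv : M *ᵥ v = c • v) (κ : K) : proj r M κ *ᵥ v = (∑ j : ZMod r, (κ * c) ^ j.val) • v := by
  have hp : ∀ k : ℕ, (M ^ k) *ᵥ v = c ^ k • v := by
    intro k
    induction k with
    | zero => simp
    | succ k ih => rw [pow_succ', ← mulVec_mulVec, ih, mulVec_smul, hv, smul_smul, pow_succ]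
  rw [proj, sum_mulVec, Finset.sum_smul]
  exact Finset.sum_congr rfl fun j _ => by rw [smul_mulVec, hp, smul_smul, mul_pow]

theorem geom_val [DecidableEq K] {r : ℕ} [NeZero r] {x : K} (hx : x ^ r = 1) :
    ∑ j : ZMod r, x ^ j.val = if x = 1 then (r : K) else 0 := by
  split_ifs with h
  · subst h; simp [ZMod.card]
  · have e : x * ∑ j : ZMod r, x ^ j.val = ∑ j : ZMod r, x ^ j.val := by
      rw [Finset.mul_sum]
      refine Fintype.sum_equiv (Equiv.addRight 1) _ _ fun j => ?_
      rw [← pow_succ', pow_val hx]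
      simp
    exact (mul_left_eq_self₀.1 e).resolve_left h

/-- Independent eigenvectors, two for some eigenvalues. -/
theorem count {r : ℕ} [NeZero r] (hr : (r : K) ≠ 0) (M N : Matrix (Fin m) (Fin m) K) (hMN : Commute M N)
    (T : Finset (K × Bool)) (vec : K → Fin m → K)
    (h1 : ∀ t ∈ T, t.1 ^ r = 1 ∧ M *ᵥ vec t.1 = t.1⁻¹ • vec t.1 ∧ vec t.1 ≠ 0)
    (h2 : ∀ ν, (ν, true) ∈ T → N *ᵥ vec ν ≠ 0 ∧ N *ᵥ (N *ᵥ vec ν) = 0) : T.card ≤ m := by
  classical
  let w : K × Bool → Fin m → K := fun t => if t.2 then N *ᵥ vec t.1 else vec t.1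
  have hli : LinearIndependent K (fun t : T => w t.1) := by
    rw [Fintype.linearIndependent_iff]
    intro g hg t
    let G : K × Bool → K := fun x => if h : x ∈ T then g ⟨x, h⟩ else 0
    have hsum : ∑ x ∈ T, G x • w x = 0 := by
      rw [← Finset.sum_coe_sort, ← hg]
      exact Finset.sum_congr rfl fun x _ => by simp only [G, dif_pos x.2, Subtype.coe_eta]
    have hfib : ∀ ν : K, (ν, true) ∈ T ∨ (ν, false) ∈ T →
        G (ν, false) • vec ν + G (ν, true) • (N *ᵥ vec ν) = 0 := by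
      intro ν hν
      have hν1 : ν ^ r = 1 := hν.elim (fun h => (h1 _ h).1) (fun h => (h1 _ h).1)
      have hν0 : ν ≠ 0 := fun e => by rw [e, zero_pow (NeZero.ne r)] at hν1; exact zero_ne_one hν1
      have e := congrArg (proj r M ν *ᵥ ·) hsum
      simp only [mulVec_sum, mulVec_zero, mulVec_smul] at e
      have hx : ∀ x ∈ T, proj r M ν *ᵥ w x = if x.1 = ν then (r : K) • w x else 0 := by
        intro x hx
        obtain ⟨a1, a2, -⟩ := h1 x hx
        have a0 : x.1 ≠ 0 := fun e => by rw [e, zero_pow (NeZero.ne r)] at a1; exact zero_ne_one a1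
        have hw : M *ᵥ w x = x.1⁻¹ • w x := by
          simp only [w]
          split_ifs with h
          · rw [mulVec_mulVec, hMN.eq, ← mulVec_mulVec, a2, mulVec_smul]
          · exact a2
        rw [proj_mulVec hw, geom_val (by rw [mul_pow, hν1, inv_pow, a1, inv_one, mul_one])]
        by_cases h : x.1 = ν
        · rw [if_pos h, if_pos (by simp [h, hν0] : ν * x.1⁻¹ = 1)]
        · rw [if_neg h, if_neg (fun e => h ((mul_inv_eq_one₀ a0).1 e).symm), zero_smul]
      rw [Finset.sum_congr rfl fun x hx' => by rw [hx x hx', smul_ite, smul_zero, smul_comm], ← Finset.sum_filter,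
        ← Finset.smul_sum, smul_eq_zero, or_iff_right hr] at e
      rw [← e, Finset.sum_filter]
      rw [Finset.sum_subset (Finset.subset_union_left (s₂ := {(ν, false), (ν, true)}))
        (fun x _ hx' => by simp [G, hx']),
        ← Finset.sum_subset (Finset.subset_union_right (s₁ := T)) (fun x _ hx' => by
          rw [if_neg]
          intro h
          apply hx'
          rcases x with ⟨a, b⟩
          subst h
          cases b <;> simp)]
      simp [w]
    obtain ⟨⟨ν, b⟩, ht⟩ := t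
    have hG : g ⟨(ν, b), ht⟩ = G (ν, b) := by simp [G, ht]
    rw [hG]
    obtain ⟨-, -, hne⟩ := h1 _ ht
    by_cases htt : (ν, true) ∈ T
    · have e := hfib ν (Or.inl htt)
      obtain ⟨b1, b2⟩ := h2 ν htt
      have e' := congrArg (N *ᵥ ·) e
      simp only [mulVec_add, mulVec_smul, b2, smul_zero, add_zero, mulVec_zero, smul_eq_zero, or_iff_left b1] at e'
      rw [e', zero_smul, zero_add, smul_eq_zero, or_iff_left b1] at e
      cases b
      · exact e'
      · exact e
    · cases b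
      · have e := hfib ν (Or.inr ht)
        rw [show G (ν, true) = 0 by simp [G, htt], zero_smul, add_zero, smul_eq_zero] at e
        exact e.resolve_right hne
      · exact absurd ht htt
  simpa using hli.fintype_card_le_finrank

/-- The eigenvalue orbit of an element of prime order centralising a unipotent element of a unitary group. -/
theorem core {p r q : ℕ} (hp : p.Prime) [CharP K p] [IsAlgClosed K] (hr : r.Prime) (hrp : r ≠ p)
    (hrq : ¬ r ∣ q) (hm : 4 ≤ m) (τ : K →+* K) (hτ : ∀ x, τ x = x ^ q)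
    (M U : Matrix (Fin m) (Fin m) K) (hM : Mᵀ * M.map τ = 1) (hU : Uᵀ * U.map τ = 1) (hMU : Commute M U)
    (hMr : M ^ r = 1) (hUp : U ^ p = 1) (hM1 : M ≠ 1) (hU1 : U ≠ 1) :
    ∃ o, 1 ≤ o ∧ o ≤ m - 2 ∧ (r : ℤ) ∣ (q : ℤ) ^ o - (-1) ^ o := by
  classical
  have : Fact p.Prime := ⟨hp⟩
  have : Fact r.Prime := ⟨hr⟩
  have hrK : (r : K) ≠ 0 := by
    rw [Ne, CharP.cast_eq_zero_iff K p]
    exact fun h => hrp ((Nat.prime_dvd_prime_iff_eq hp hr).1 h).symm
  let f : Matrix (Fin m) (Fin m) K → Matrix (Fin m) (Fin m) K := fun X => (X.map τ)ᵀ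
  have f_mul : ∀ X Y, f (X * Y) = f Y * f X := fun X Y => by simp [f, Matrix.map_mul]
  have f_pow : ∀ X (k : ℕ), f (X ^ k) = f X ^ k := fun X k => by
    simp only [f]; rw [← RingHom.mapMatrix_apply, map_pow, transpose_pow, RingHom.mapMatrix_apply]
  have hfM : f M = M ^ (r - 1) := by
    have e : f M * M = 1 := by
      have := congrArg transpose hM
      rwa [transpose_mul, transpose_transpose, transpose_one] at this
    calc f M = f M * M ^ r := by rw [hMr, mul_one]
      _ = f M * M * M ^ (r - 1) := by rw [mul_assoc, ← pow_succ', Nat.sub_add_cancel hr.one_le]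
      _ = _ := by rw [e, one_mul]
  have hfU : f U = U ^ (p - 1) := by
    have e : f U * U = 1 := by
      have := congrArg transpose hU
      rwa [transpose_mul, transpose_transpose, transpose_one] at this
    calc f U = f U * U ^ p := by rw [hUp, mul_one]
      _ = f U * U * U ^ (p - 1) := by rw [mul_assoc, ← pow_succ', Nat.sub_add_cancel hp.one_le]
      _ = _ := by rw [e, one_mul]
  obtain ⟨N, hN⟩ : ∃ N, N = U - 1 := ⟨_, rfl⟩
  have hMN : Commute M N := by rw [hN]; exact hMU.sub_right (Commute.one_right _)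
  have hNp : N ^ p = 0 := by
    have : Nonempty (Fin m) := ⟨⟨0, by omega⟩⟩
    have : CharP (Matrix (Fin m) (Fin m) K) p := charP_of_injective_ringHom (f := Matrix.scalar (Fin m)) (fun a b h => Matrix.scalar_inj.1 h) p
    rw [hN, sub_pow_char_of_commute p (Commute.one_right U), hUp, one_pow, sub_self]
  have hN0 : N ≠ 0 := by rw [hN]; exact sub_ne_zero.2 hU1
  let c := q * (r - 1)
  have hc : (c : ZMod r) = -(q : ZMod r) := by
    simp only [c, Nat.cast_mul, Nat.cast_sub hr.one_le, ZMod.natCast_self]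
    ring
  let e := proj r M
  have he : ∀ ν : K, ν ^ r = 1 → f (e ν) = e (ν ^ c) := by
    intro ν hν
    have h0 : f (e ν) = ∑ j : ZMod r, (ν ^ q) ^ j.val • (M ^ (r - 1)) ^ j.val := by
      show (Matrix.map (∑ j : ZMod r, ν ^ j.val • M ^ j.val) τ)ᵀ = _
      rw [← RingHom.mapMatrix_apply, map_sum, transpose_sum]
      refine Finset.sum_congr rfl fun j _ => ?_
      rw [RingHom.mapMatrix_apply, Matrix.map_smul' _ _ _ (fun a b => map_mul τ a b), transpose_smul,
        map_pow, hτ, show ((M ^ j.val).map τ)ᵀ = f (M ^ j.val) from rfl, f_pow, hfM]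
    rw [h0]
    refine Fintype.sum_equiv (Equiv.neg (ZMod r)) _ _ fun j => ?_
    rw [← pow_mul, ← pow_mul, ← pow_mul, pow_val hν (q * j.val), pow_val hν (c * _), pow_val hMr]
    simp [hc, Nat.cast_sub hr.one_le, mul_comm]
  have hMe : ∀ ν, Commute U (e ν) := fun ν => Commute.sum_right _ _ _ fun j _ => ((hMU.symm).pow_right _).smul_right _
  have hfN : f N = -(U ^ (p - 1)) * N := by
    have h1 : f N = f U - 1 := by
      rw [hN]
      show ((U - 1).map τ)ᵀ = (U.map τ)ᵀ - 1
      rw [← RingHom.mapMatrix_apply, map_sub, map_one, transpose_sub, transpose_one, RingHom.mapMatrix_apply]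
    rw [h1, hfU, hN, mul_sub, mul_one, neg_mul, ← pow_succ, Nat.sub_add_cancel hp.one_le, hUp]
    abel
  have clN : ∀ ν : K, ν ^ r = 1 → N * e ν = 0 → N * e (ν ^ c) = 0 := by
    intro ν hν h
    have h1 : f (N * e ν) = 0 := by rw [h]; simp [f]
    rw [f_mul, he ν hν, hfN, ← mul_assoc] at h1
    have hu : Commute (U ^ (p - 1)) (e (ν ^ c)) := (hMe _).pow_left _
    rw [mul_neg, ← hu.eq, neg_mul, neg_eq_zero, mul_assoc] at h1
    have hNe : e (ν ^ c) * N = N * e (ν ^ c) := by
      rw [hN, mul_sub, sub_mul, mul_one, one_mul, (hMe _).eq]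
    rw [← hNe, ← one_mul (e (ν ^ c) * N), ← hUp, ← Nat.sub_add_cancel hp.one_le, pow_succ', mul_assoc, h1, mul_zero]
  have cl1 : ∀ ν : K, ν ^ r = 1 → e ν = 0 → e (ν ^ c) = 0 := fun ν hν h => by
    rw [← he ν hν, h]; simp [f]
  -- a primitive root
  obtain ⟨ζ, hζ⟩ := IsAlgClosed.exists_root (Polynomial.cyclotomic r K) (by
    rw [Polynomial.degree_cyclotomic]; exact_mod_cast (Nat.totient_pos.2 hr.pos).ne')
  have : NeZero (r : K) := ⟨hrK⟩
  have hζ' : IsPrimitiveRoot ζ r := Polynomial.isRoot_cyclotomic_iff.1 hζ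
  have htot : ∀ X : Matrix (Fin m) (Fin m) K, X ≠ 0 → ∃ ν : K, ν ^ r = 1 ∧ X * e ν ≠ 0 := by
    intro X hX
    by_contra hcon
    push Not at hcon
    have hs : ∑ k : ZMod r, e (ζ ^ k.val) = (r : K) • 1 := by
      show ∑ k : ZMod r, ∑ j : ZMod r, (ζ ^ k.val) ^ j.val • M ^ j.val = _
      rw [Finset.sum_comm]
      simp_rw [← Finset.sum_smul, pow_right_comm ζ]
      rw [Finset.sum_eq_single (0 : ZMod r)]
      · simp [ZMod.card]
      · intro j _ hj
        rw [geom_val (by rw [← pow_mul, mul_comm, pow_mul, hζ'.pow_eq_one, one_pow]), if_neg, zero_smul]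
        intro h1
        exact hj ((ZMod.val_eq_zero j).1 (Nat.eq_zero_of_dvd_of_lt ((hζ'.pow_eq_one_iff_dvd _).1 h1) (ZMod.val_lt j)))
      · simp
    have h2 : (r : K) • X = 0 := by
      rw [← mul_one X, ← mul_smul_comm, ← hs, Finset.mul_sum]
      exact Finset.sum_eq_zero fun k _ => hcon _ (by rw [← pow_mul, mul_comm, pow_mul, hζ'.pow_eq_one, one_pow])
    exact hX ((smul_eq_zero.1 h2).resolve_left hrK)
  -- orbits
  have hc0 : (c : ZMod r) ≠ 0 := by
    rw [hc, neg_ne_zero, Ne, ZMod.natCast_eq_zero_iff]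
    exact hrq
  obtain ⟨o, ho⟩ : ∃ o, o = orderOf (c : ZMod r) := ⟨_, rfl⟩
  have ho1 : 1 ≤ o := by
    rw [ho]
    exact orderOf_pos_iff.2 (isOfFinOrder_iff_pow_eq_one.2 ⟨r - 1, by have := hr.two_le; omega,
      ZMod.pow_card_sub_one_eq_one hc0⟩)
  have hdvd : (r : ℤ) ∣ (q : ℤ) ^ o - (-1) ^ o := by
    rw [← ZMod.intCast_zmod_eq_zero_iff_dvd]
    push_cast
    have h1 : (-(q : ZMod r)) ^ o = 1 := by rw [← hc, ho, pow_orderOf_eq_one]
    rw [neg_pow] at h1
    have h2 : ((-1 : ZMod r) ^ o) * ((-1 : ZMod r) ^ o) = 1 := by rw [← mul_pow]; simp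
    linear_combination ((-1 : ZMod r) ^ o) * h1 - (q : ZMod r) ^ o * h2
  refine ⟨o, ho1, ?_, hdvd⟩
  have orb : ∀ ν : K, ν ^ r = 1 → ν ≠ 1 → ((Finset.range o).image fun i => ν ^ c ^ i).card = o ∧
      ∀ x ∈ (Finset.range o).image (fun i => ν ^ c ^ i), x ^ r = 1 ∧ x ≠ 1 := by
    intro ν hν hν1
    have hord : orderOf ν = r := orderOf_eq_prime hν hν1
    constructor
    · rw [Finset.card_image_of_injOn, Finset.card_range]
      intro i hi j hj h
      have hh : c ^ i ≡ c ^ j [MOD r] := by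
        have h' : ν ^ c ^ i = ν ^ c ^ j := h
        rw [pow_eq_pow_mod _ hν, pow_eq_pow_mod (c ^ j) hν] at h'
        exact pow_injOn_Iio_orderOf (by rw [hord]; exact Nat.mod_lt _ hr.pos)
          (by rw [hord]; exact Nat.mod_lt _ hr.pos) h'
      rw [← ZMod.natCast_eq_natCast_iff, Nat.cast_pow, Nat.cast_pow] at hh
      exact pow_injOn_Iio_orderOf (by simpa [← ho] using hi) (by simpa [← ho] using hj) hh
    · intro x hx
      obtain ⟨i, -, rfl⟩ := Finset.mem_image.1 hx
      refine ⟨by rw [← pow_mul, mul_comm, pow_mul, hν, one_pow], fun h => ?_⟩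
      have h2 := orderOf_dvd_of_pow_eq_one h
      rw [hord] at h2
      exact hc0 ((ZMod.natCast_eq_zero_iff _ r).2 (hr.dvd_of_dvd_pow h2))
  -- going forwards along the orbit: `c` has finite order modulo `r`
  have fwd : ∀ P : K → Prop, (∀ ν : K, ν ^ r = 1 → P ν → P (ν ^ c)) → ∀ ν : K, ν ^ r = 1 → ∀ i, P (ν ^ c ^ i) → P ν := by
    intro P hP ν hν i h
    have step : ∀ k, P (ν ^ c ^ (i + k)) := by
      intro k
      induction k with
      | zero => exact h
      | succ k ih =>
        rw [← add_assoc, pow_succ, pow_mul]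
        exact hP _ (by rw [← pow_mul, mul_comm, pow_mul, hν, one_pow]) ih
    have h2 := step (i * (o - 1))
    rwa [show i + i * (o - 1) = o * i by
        rw [Nat.mul_sub, mul_one, Nat.add_sub_cancel' (Nat.le_mul_of_pos_right i ho1), mul_comm],
      pow_val hν, Nat.cast_pow, pow_mul, show (c : ZMod r) ^ o = 1 by rw [ho, pow_orderOf_eq_one], one_pow,
      ZMod.val_one, pow_one] at h2
  have special : ∀ ν : K, ∃ v : Fin m → K, ν ^ r = 1 →
      (e ν ≠ 0 → M *ᵥ v = ν⁻¹ • v ∧ v ≠ 0 ∧ (N * e ν ≠ 0 → N *ᵥ v ≠ 0 ∧ N *ᵥ (N *ᵥ v) = 0)) := by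
    intro ν
    by_cases hν : ν ^ r = 1
    swap
    · exact ⟨0, fun h => absurd h hν⟩
    by_cases hne : e ν = 0
    · exact ⟨0, fun _ h => absurd hne h⟩
    have hnz : ∀ X : Matrix (Fin m) (Fin m) K, X ≠ 0 → ∃ w, X *ᵥ w ≠ 0 := by
      intro X hX
      by_contra hcon
      push Not at hcon
      exact hX (Matrix.toLin'.injective (LinearMap.ext fun w => by simp [hcon w]))
    by_cases hNe : N * e ν = 0
    · obtain ⟨w, hw⟩ := hnz _ hne
      exact ⟨e ν *ᵥ w, fun _ _ => ⟨by rw [mulVec_mulVec, proj_shift hMr hν, smul_mulVec], hw,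
        fun h => absurd hNe h⟩⟩
    · obtain ⟨w, hw⟩ := hnz _ hNe
      let z : ℕ → Fin m → K := fun k => (N ^ k) *ᵥ (e ν *ᵥ w)
      have hex : ∃ k, z k = 0 := ⟨p, by simp [z, hNp]⟩
      have hz1 : z 1 ≠ 0 := by simpa [z, mulVec_mulVec] using hw
      have hz0 : z 0 ≠ 0 := fun h => hz1 (by
        simp only [z, pow_zero, one_mulVec] at h
        simp [z, h])
      obtain ⟨k, hk, hmin⟩ : ∃ k, z k = 0 ∧ ∀ j < k, z j ≠ 0 := ⟨Nat.find hex, Nat.find_spec hex, fun j => Nat.find_min hex⟩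
      obtain ⟨d, rfl⟩ : ∃ d, k = d + 2 := by
        rcases k with _ | _ | d
        · exact absurd hk hz0
        · exact absurd hk hz1
        · exact ⟨d, rfl⟩
      refine ⟨z d, fun _ _ => ⟨?_, hmin d (by omega), fun _ => ⟨?_, ?_⟩⟩⟩
      · show M *ᵥ ((N ^ d) *ᵥ _) = _
        rw [mulVec_mulVec, mulVec_mulVec, (hMN.pow_right d).eq, mul_assoc, proj_shift hMr hν, mul_smul_comm,
          smul_mulVec, ← mulVec_mulVec]
      · rw [mulVec_mulVec, ← pow_succ']
        exact hmin (d + 1) (by omega)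
      · rw [mulVec_mulVec, mulVec_mulVec, mul_assoc, ← pow_succ', ← pow_succ']
        exact hk
  choose vec hvec using special
  obtain ⟨ν₀, hν₀, hν₀N⟩ := htot N hN0
  by_cases h0 : ν₀ = 1
  · subst h0
    obtain ⟨ν₁, hν₁, hν₁M⟩ := htot (M - 1) (sub_ne_zero.2 hM1)
    have hν₁1 : ν₁ ≠ 1 := fun h => hν₁M (by
      subst h
      rw [sub_mul, one_mul, proj_shift hMr (one_pow r), inv_one, one_smul, sub_self])
    obtain ⟨hcard, horb⟩ := orb ν₁ hν₁ hν₁1
    set S := (Finset.range o).image fun i => ν₁ ^ c ^ i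
    have hSe : ∀ x ∈ S, e x ≠ 0 := by
      intro x hx h
      obtain ⟨i, -, rfl⟩ := Finset.mem_image.1 hx
      exact hν₁M (by rw [fwd (fun y => e y = 0) cl1 ν₁ hν₁ i h, mul_zero])
    let T : Finset (K × Bool) := S ×ˢ {false} ∪ {1} ×ˢ Finset.univ
    have hT : T.card = o + 2 := by
      rw [Finset.card_union_of_disjoint, Finset.card_product, Finset.card_product, hcard]
      · simp
      · rw [Finset.disjoint_left]
        rintro ⟨a, b⟩ ha hb
        simp only [Finset.mem_product, Finset.mem_singleton] at ha hb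
        exact (horb a ha.1).2 hb.1
    have := count hrK M N hMN T vec (fun t ht => ?_) (fun ν ht => ?_)
    · omega
    · simp only [T, Finset.mem_union, Finset.mem_product, Finset.mem_singleton] at ht
      rcases ht with ⟨h1, -⟩ | ⟨h1, -⟩
      · obtain ⟨a, b, -⟩ := hvec t.1 (horb _ h1).1 (hSe _ h1)
        exact ⟨(horb _ h1).1, a, b⟩
      · obtain ⟨a, b, -⟩ := hvec t.1 (by rw [h1, one_pow]) (fun h => hν₀N (by rw [← h1, h, mul_zero]))
        exact ⟨by rw [h1, one_pow], a, b⟩
    · simp [T] at ht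
      subst ht
      exact (hvec 1 (one_pow r) (fun h => hν₀N (by rw [h, mul_zero]))).2.2 hν₀N
  · obtain ⟨hcard, horb⟩ := orb ν₀ hν₀ h0
    set S := (Finset.range o).image fun i => ν₀ ^ c ^ i
    have hSN : ∀ x ∈ S, N * e x ≠ 0 := by
      intro x hx h
      obtain ⟨i, -, rfl⟩ := Finset.mem_image.1 hx
      exact hν₀N (fwd (fun y => N * e y = 0) clN ν₀ hν₀ i h)
    have := count hrK M N hMN (S ×ˢ Finset.univ) vec (fun t ht => ?_) (fun ν ht => ?_)
    · rw [Finset.card_product, hcard, Finset.card_univ, Fintype.card_bool] at this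
      omega
    · simp only [Finset.mem_product] at ht
      obtain ⟨a, b, -⟩ := hvec t.1 (horb _ ht.1).1 (fun h => hSN _ ht.1 (by rw [h, mul_zero]))
      exact ⟨(horb _ ht.1).1, a, b⟩
    · simp only [Finset.mem_product] at ht
      exact (hvec ν (horb _ ht.1).1 (fun h => hSN _ ht.1 (by rw [h, mul_zero]))).2.2 (hSN _ ht.1)

end Count

/-- Let q be a power of the prime p, F the field with q² elements, m ≥ 4, and let a, b be commuting elements of PSU(m, q) with a of order p. Then every prime divisor of the order of b divides the order of SU(m − 2, q). -/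
theorem result {F : Type*} [Field F] [Fintype F] (p : ℕ) [Fact p.Prime] [CharP F p] (m q : ℕ) (hm : 4 ≤ m) (hF : Fintype.card F = q ^ 2)
    (a b : Cfsg.PSU m F q) (ha : orderOf a = p) (hab : Commute a b) :
    (orderOf b).primeFactors ⊆ (Nat.card ↥(Cfsg.SU (m - 2) F q)).primeFactors := by
  classical
  have hp := (Fact.out : p.Prime)
  obtain ⟨⟨f₀, hf₀⟩, -, hpow⟩ := FiniteField.card F p
  rw [hF] at hpow
  change q ^ 2 = p ^ f₀ at hpow
  obtain ⟨f, -, hqf⟩ := (Nat.dvd_prime_pow hp).1 (hpow ▸ dvd_pow_self q two_ne_zero)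
  have hq2 := FormCount.two_le_q hF
  have hpq : p ∣ q := by
    rcases f with _ | f
    · rw [pow_zero] at hqf; omega
    · rw [hqf]; exact dvd_pow_self p f.succ_ne_zero
  have hpq1 : ¬ p ∣ q + 1 := fun h => hp.not_dvd_one (by
    have := Nat.dvd_sub h hpq; rwa [Nat.add_sub_cancel_left] at this)
  intro r hr
  rw [Nat.mem_primeFactors] at hr ⊢
  obtain ⟨hr, hrb, -⟩ := hr
  refine ⟨hr, ?_, Nat.card_pos.ne'⟩
  -- primes of the order
  obtain ⟨k, hk⟩ : ∃ k, m - 2 = k + 2 := ⟨m - 4, by omega⟩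
  have hSU := UnitaryOrder.card_SU (q := q) hF (m - 2) (by omega)
  rw [UnitaryOrder.card_GU hF, hk, Finset.prod_range_succ' _ (k + 1), if_pos (by simp : Even 0), zero_add, pow_one,
    ← mul_assoc, mul_comm (q + 1)] at hSU
  have hSU' := Nat.eq_of_mul_eq_mul_right (Nat.succ_pos q) hSU
  rw [hk, hSU']
  have hfac : ∀ o, 1 ≤ o → o ≤ k + 2 → (r : ℤ) ∣ (q : ℤ) ^ o - (-1) ^ o →
      r ∣ ∏ i ∈ Finset.range (k + 1), if Even (i + 1) then q ^ (i + 1 + 1) + 1 else q ^ (i + 1 + 1) - 1 := by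
    intro o h1 h2 h3
    obtain ⟨i, hi, h4⟩ : ∃ i, i < k + 1 ∧ (r : ℤ) ∣ (q : ℤ) ^ (i + 2) - (-1) ^ (i + 2) := by
      rcases Nat.lt_or_ge o 2 with h | h
      · obtain rfl : o = 1 := by omega
        refine ⟨0, by omega, h3.trans ⟨(q : ℤ) - 1, ?_⟩⟩
        ring
      · exact ⟨o - 2, by omega, by rwa [Nat.sub_add_cancel h]⟩
    refine Dvd.dvd.trans ?_ (Finset.dvd_prod_of_mem _ (Finset.mem_range.2 hi))
    rw [← Int.natCast_dvd_natCast]
    split_ifs with he
    · push_cast
      rwa [show i + 1 + 1 = i + 2 by rfl, show (-1 : ℤ) ^ (i + 2) = -1 from Odd.neg_one_pow (by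
        simpa [parity_simps] using he), sub_neg_eq_add] at *
    · rw [Nat.cast_sub (Nat.one_le_pow _ _ (by omega))]
      push_cast
      rwa [show i + 1 + 1 = i + 2 by rfl, show (-1 : ℤ) ^ (i + 2) = 1 from Even.neg_one_pow (by
        simpa [parity_simps] using he)] at *
  by_cases hrq : r ∣ q
  · refine Dvd.dvd.mul_right ?_ _
    exact hrq.trans (dvd_pow_self q (by
      have : 1 ≤ (k + 2) * (k + 2 - 1) / 2 := by
        rw [Nat.le_div_iff_mul_le two_pos, show k + 2 - 1 = k + 1 by omega]; nlinarith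
      omega))
  refine Dvd.dvd.mul_left ?_ _
  by_cases hr1 : r ∣ q + 1
  · exact hfac 1 le_rfl (by omega) (by simpa using Int.natCast_dvd_natCast.2 hr1)
  have hrp : r ≠ p := fun e => hrq (e ▸ hpq)
  obtain ⟨A, rfl⟩ := QuotientGroup.mk_surjective a
  obtain ⟨B, rfl⟩ := QuotientGroup.mk_surjective b
  set Z := Subgroup.center (Cfsg.SU m F q)
  have hZq : ∀ z ∈ Z, z ^ (q + 1) = 1 := by
    intro z hz
    have h1 : orderOf z ∣ Nat.card Z := by
      rw [← Subgroup.orderOf_mk z hz]; exact orderOf_dvd_natCard _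
    rw [UnitaryOrder.card_center_SU hF m (by omega)] at h1
    exact orderOf_dvd_iff_pow_eq_one.1 (h1.trans (Nat.gcd_dvd_right _ _))
  set u := A ^ (q + 1) with hu
  have hup : u ^ p = 1 := by
    rw [hu, ← pow_mul, mul_comm, pow_mul]
    refine hZq _ ((QuotientGroup.eq_one_iff _).1 ?_)
    rw [QuotientGroup.mk_pow, ← ha, pow_orderOf_eq_one]
  have hco : Nat.Coprime p (q + 1) := (Nat.Prime.coprime_iff_not_dvd hp).2 hpq1
  have hu1 : u ≠ 1 := by
    intro e
    have h1 : (QuotientGroup.mk A : _ ⧸ Z) ^ (q + 1) = 1 := by rw [← QuotientGroup.mk_pow, ← hu, e, QuotientGroup.mk_one]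
    have h2 := orderOf_dvd_of_pow_eq_one h1
    rw [ha] at h2
    exact hpq1 h2
  have huB : Commute u B := by
    have hm : ((QuotientGroup.mk (u * B) : _ ⧸ Z)) = QuotientGroup.mk (B * u) := by
      rw [QuotientGroup.mk_mul, QuotientGroup.mk_mul, hu, QuotientGroup.mk_pow]
      exact (hab.pow_left _).eq
    have hz : (B * u)⁻¹ * (u * B) ∈ Z := QuotientGroup.eq.1 hm.symm
    set z := (B * u)⁻¹ * (u * B) with hzdef
    have hzc : Commute u z := Subgroup.mem_center_iff.1 hz u
    have h1 : u * z = B⁻¹ * u * B := by rw [hzdef]; group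
    have h2 : (B⁻¹ * u * B⁻¹⁻¹) ^ p = 1 := by rw [conj_pow, hup, mul_one, mul_inv_cancel]
    rw [inv_inv, ← h1, hzc.mul_pow, hup, one_mul] at h2
    have h3 : z = 1 := by rw [← pow_one z, ← hco.gcd_eq_one]; exact pow_gcd_eq_one.2 ⟨h2, hZq z hz⟩
    rw [h3, mul_one] at h1
    show u * B = B * u
    calc u * B = B * (B⁻¹ * u * B) := by group
      _ = B * u := by rw [← h1]
  have hrB : r ∣ orderOf B := hrb.trans (orderOf_map_dvd (QuotientGroup.mk' Z) B)
  set B' := B ^ (orderOf B / r)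
  have hB' : orderOf B' = r := orderOf_pow_orderOf_div (orderOf_pos B).ne' hrB
  -- pass to the algebraic closure
  let L := AlgebraicClosure F
  have : CharP L p := charP_of_injective_algebraMap (algebraMap F L).injective p
  have : ExpChar L p := ExpChar.prime hp
  let τ : L →+* L := iterateFrobenius L p f
  have hτ : ∀ x, τ x = x ^ q := fun x => by rw [hqf]; exact iterateFrobenius_def p f x
  let Φ : Cfsg.SU m F q →* Matrix (Fin m) (Fin m) L :=
    ((algebraMap F L).mapMatrix.toMonoidHom).comp ((Cfsg.slToMat m F).comp (Subgroup.subtype _))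
  have hΦ : Function.Injective Φ := fun x y h => Subtype.ext (Subtype.ext
    (Matrix.map_injective (algebraMap F L).injective h))
  have huni : ∀ g, (Φ g)ᵀ * (Φ g).map τ = 1 := by
    intro g
    have h : ∀ i j, ∑ k, g.1.1 k i * (g.1.1 k j) ^ q = if i = j then 1 else 0 := by
      intro i j
      have := g.2 (Pi.single i 1) (Pi.single j 1)
      rw [UnitaryOrder.hermForm_single (by omega)] at this
      simpa [Cfsg.hermForm, Cfsg.slToMat, Matrix.mulVec_single, Pi.single_apply, eq_comm] using this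
    ext i j
    simp only [Matrix.mul_apply, Matrix.transpose_apply, Matrix.map_apply, hτ, Matrix.one_apply]
    show ∑ k, algebraMap F L (g.1.1 k i) * algebraMap F L (g.1.1 k j) ^ q = _
    simp_rw [← map_pow, ← map_mul, ← map_sum, h]
    split_ifs <;> simp
  obtain ⟨o, ho1, ho2, ho3⟩ := core hp hr hrp hrq hm τ hτ (Φ B') (Φ u) (huni _) (huni _)
    (((huB.pow_right _).symm).map Φ) (by rw [← map_pow, ← hB', pow_orderOf_eq_one, map_one])
    (by rw [← map_pow, hup, map_one])
    (fun h => by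
      rw [hΦ (h.trans (map_one Φ).symm), orderOf_one] at hB'
      exact hr.ne_one hB'.symm)
    (fun h => hu1 (hΦ (h.trans (map_one Φ).symm)))
  exact hfac o ho1 (by omega) ho3

end Cfsg.Agent.S2365
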