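import Cfsg.Statements.S2366
import Cfsg.Agent.Lib.Recog.PSUThreeSpectrum
-- import your own Cfsg.Agent.* helpers here

set_option autoImplicit false
open Cfsg

namespace Cfsg.Agent.S2366

open scoped Matrix

/-- The set of element orders of PSU(3, q) for an odd prime power q = p^n: writing d = gcd(3, q + 1), a positive integer is the order of some element exactly when it divides one of q + 1, p(q + 1)/d, (q² − 1)/d, (q² − q + 1)/d. -/
theorem result {F : Type*} [Field F] [Fintype F] (p : ℕ) [Fact p.Prime] [CharP F p] (hp : p ≠ 2) (q : ℕ) (hF : Fintype.card F = q ^ 2) :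
    Set.range (orderOf : Cfsg.PSU 3 F q → ℕ) =
      {s : ℕ | s ∣ q + 1} ∪ {s : ℕ | s ∣ p * (q + 1) / Nat.gcd 3 (q + 1)} ∪
        {s : ℕ | s ∣ (q ^ 2 - 1) / Nat.gcd 3 (q + 1)} ∪ {s : ℕ | s ∣ (q ^ 2 - q + 1) / Nat.gcd 3 (q + 1)} := by
  classical
  haveI : AutPSU.QField F q := AutPSU.QField.of_card hF
  have hq : 2 ≤ q := AutPSU.two_le_q (F := F) (q := q)
  obtain ⟨f, hpf, hf⟩ := U3Spectrum.q_eq (F := F) (q := q) p
  have hqodd : q % 2 = 1 := by
    rw [hpf]; exact Nat.odd_iff.1 (((Fact.out : p.Prime).odd_of_ne_two hp).pow)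
  have hpq : p ∣ q := hpf ▸ dvd_pow_self p hf
  set d := Nat.gcd 3 (q + 1) with hd
  obtain ⟨hd1, hd2, hd3, hd4⟩ := U3Spectrum.dvd_d (q := q)
  rw [← hd] at hd1 hd2 hd3 hd4
  have hd0 : 0 < d := Nat.gcd_pos_of_pos_left _ (by norm_num)
  let π := QuotientGroup.mk' (Subgroup.center ↥(Cfsg.SU 3 F q))
  have key : ∀ {N : ℕ}, (∃ g : ↥(Cfsg.SU 3 F q), orderOf (π g) = N) → ∀ {k : ℕ}, k ∣ N →
      ∃ x : Cfsg.PSU 3 F q, orderOf x = k := by
    rintro N ⟨g, rfl⟩ k hk
    exact ⟨_, orderOf_pow_orderOf_div (orderOf_pos (π g)).ne' hk⟩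
  have hF' : Nat.card Fˣ = q ^ 2 - 1 := by
    rw [Nat.card_units, Nat.card_eq_fintype_card, hF]
  obtain ⟨c, hc⟩ := IsCyclic.exists_ofOrder_eq_natCard (α := Fˣ)
  have hq1 : (q ^ 2 - 1) = (q - 1) * (q + 1) := by
    have := Nat.sq_sub_sq q 1
    simpa [mul_comm] using this
  set u := c ^ (q - 1) with hu
  have hu0 : orderOf u = q + 1 := by
    rw [hu, orderOf_pow_of_dvd (by omega) (by rw [hc, hF', hq1]; exact Dvd.intro _ rfl), hc, hF', hq1,
      Nat.mul_div_cancel_left _ (by omega)]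
  have huq : (u : F) ^ (q + 1) = 1 := by
    rw [← Units.val_pow_eq_pow_val, ← hu0, pow_orderOf_eq_one, Units.val_one]
  set ζ := (u : F) with hζ
  have hζo : ∀ j : ℕ, ζ ^ j = 1 → q + 1 ∣ j := by
    intro j hj
    rw [← hu0]
    exact orderOf_dvd_of_pow_eq_one (Units.ext (by rw [Units.val_pow_eq_pow_val]; exact hj))
  have hζ0 : ζ ≠ 0 := Units.ne_zero u
  have hζi : ζ ^ q = ζ⁻¹ := eq_inv_of_mul_eq_one_left (by rw [← pow_succ]; exact huq)
  -- diagonal elements
  have hdiag : ∀ w : Fin 3 → F, (∀ i, w i * w i ^ q = 1) → w 0 * w 1 * w 2 = 1 →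
      ∃ g : ↥(Cfsg.SU 3 F q), ∀ (v : Fin 3 → F) (i : Fin 3), AutPSU.app g v i = w i * v i := by
    intro w hw hdet
    have hdet' : (Matrix.diagonal w).det = 1 := by
      rw [Matrix.det_diagonal, Fin.prod_univ_three]; exact hdet
    refine ⟨⟨⟨Matrix.diagonal w, hdet'⟩, fun a b => ?_⟩, fun v i => Matrix.mulVec_diagonal w v i⟩
    show Cfsg.hermForm 3 F q (Matrix.diagonal w *ᵥ a) (Matrix.diagonal w *ᵥ b) = Cfsg.hermForm 3 F q a b
    simp only [Cfsg.hermForm, Matrix.mulVec_diagonal, mul_pow]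
    exact Finset.sum_congr rfl fun i _ => by linear_combination (a i * b i ^ q) * hw i
  have hscal : ∀ {g : ↥(Cfsg.SU 3 F q)} {j : ℕ}, π g ^ j = 1 → ∃ s : F, ∀ v, AutPSU.app (g ^ j) v = s • v := by
    intro g j hj
    rw [← map_pow, QuotientGroup.mk'_apply, QuotientGroup.eq_one_iff] at hj
    exact AutPSU.scalar_of_mem_center (by norm_num) hj
  -- order q + 1
  have e1 : ∃ g : ↥(Cfsg.SU 3 F q), orderOf (π g) = q + 1 := by
    obtain ⟨g, hg⟩ := hdiag ![ζ, ζ⁻¹, 1] (fun i => by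
        fin_cases i
        · simp [hζi, hζ0]
        · simp [inv_pow, hζi, hζ0]
        · simp)
      (by simp [hζ0])
    have hpow : ∀ (j : ℕ) (v : Fin 3 → F) (i : Fin 3), AutPSU.app (g ^ j) v i = (![ζ, ζ⁻¹, 1] i) ^ j * v i := by
      intro j
      induction j with
      | zero => intro v i; simp [AutPSU.app_one]
      | succ j ih => intro v i; rw [pow_succ, AutPSU.app_mul, ih, hg, pow_succ]; ring
    refine ⟨g, Nat.dvd_antisymm (orderOf_dvd_of_pow_eq_one ?_) ?_⟩
    · rw [← map_pow, show g ^ (q + 1) = 1 from AutPSU.su_ext fun v => funext fun i => by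
        show AutPSU.app (g ^ (q + 1)) v i = AutPSU.app 1 v i
        rw [hpow, AutPSU.app_one]
        fin_cases i <;> simp [inv_pow, huq], map_one]
    · obtain ⟨s, hs⟩ := hscal (pow_orderOf_eq_one (π g))
      have h0 := congrFun (hs 1) 0
      have h2 := congrFun (hs 1) 2
      rw [hpow] at h0 h2
      simp at h0 h2
      exact hζo _ (h0.trans h2.symm)
  -- order p (q + 1) / d
  have e2 : ∃ g : ↥(Cfsg.SU 3 F q), orderOf (π g) = p * (q + 1) / d := by
    obtain ⟨g₀, hg₀⟩ := hdiag ![ζ, ζ, (ζ ^ 2)⁻¹] (fun i => by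
        fin_cases i
        · simp [hζi, hζ0]
        · simp [hζi, hζ0]
        · simp [inv_pow, ← pow_mul]
          rw [← mul_inv, ← pow_add, show 2 + 2 * q = (q + 1) * 2 by ring, pow_mul, huq, one_pow, inv_one])
      (by simp; field_simp)
    obtain ⟨α, hα⟩ := AutPSU.exists_norm (F := F) (q := q) (c := -1) (by rw [map_neg, map_one])
    obtain ⟨t, ht0, htσ⟩ := AutPSU.exists_skew (F := F) (q := q)
    set x : Fin 3 → F := ![1, α, 0] with hx
    have hxx : Cfsg.hermForm 3 F q x x = 0 := by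
      simp [Cfsg.hermForm, Fin.sum_univ_three, hx, zero_pow (show q ≠ 0 by omega), ← AutPSU.qb_apply, hα]
    have hxt : AutPSU.IsT q x t := ⟨hxx, htσ⟩
    set T := AutPSU.tr x t hxt with hT
    set g := g₀ * T with hg
    have hHx : ∀ v, Cfsg.hermForm 3 F q v x = v 0 + v 1 * α ^ q := fun v => by
      simp [Cfsg.hermForm, Fin.sum_univ_three, hx, zero_pow (show q ≠ 0 by omega)]
    have hgx : ∀ v, AutPSU.app g v = fun i => ![ζ, ζ, (ζ ^ 2)⁻¹] i * (v i + t * (v 0 + v 1 * α ^ q) * x i) := by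
      intro v
      funext i
      rw [hg, AutPSU.app_mul, hg₀, hT, AutPSU.tr_apply, hHx]
      simp
    have hα' : α * α ^ q = -1 := by rw [← AutPSU.qb_apply]; exact hα
    have hpow : ∀ (j : ℕ) (v : Fin 3 → F) (i : Fin 3), AutPSU.app (g ^ j) v i =
        (![ζ, ζ, (ζ ^ 2)⁻¹] i) ^ j * (v i + (j : F) * t * (v 0 + v 1 * α ^ q) * x i) := by
      intro j
      induction j with
      | zero => intro v i; simp [AutPSU.app_one]
      | succ j ih =>
        intro v i
        rw [pow_succ', AutPSU.app_mul, hgx]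
        simp only [ih]
        fin_cases i
        · simp [hx]; push_cast; rw [pow_succ]
          linear_combination ((ζ ^ j * ζ) * t * (j : F) * t * (v 0 + v 1 * α ^ q)) * hα'
        · simp [hx]; push_cast; rw [pow_succ]
          linear_combination ((ζ ^ j * ζ) * α * t * (j : F) * t * (v 0 + v 1 * α ^ q)) * hα'
        · simp [hx]; ring
    rw [Nat.mul_div_assoc p hd1]
    set k := (q + 1) / d with hk
    have hdk : d * k = q + 1 := Nat.mul_div_cancel' hd1
    refine ⟨g, Nat.dvd_antisymm (orderOf_dvd_of_pow_eq_one ?_) ?_⟩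
    · have h3 : (ζ ^ (p * k)) ^ 3 = 1 := by
        obtain ⟨e, he⟩ := hd4
        rw [← pow_mul, show p * k * 3 = (d * k) * (p * e) by rw [he]; ring, hdk, pow_mul, huq, one_pow]
      rw [← map_pow, QuotientGroup.mk'_apply, QuotientGroup.eq_one_iff]
      refine AutPSU.mem_center_of_scalar (c := ζ ^ (p * k)) fun v => funext fun i => ?_
      rw [hpow, Nat.cast_mul, CharP.cast_eq_zero F p]
      fin_cases i <;> simp
      rw [← pow_mul, mul_comm 2, pow_mul]
      left
      exact inv_eq_of_mul_eq_one_left (by linear_combination h3)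
    · obtain ⟨s, hs⟩ := hscal (pow_orderOf_eq_one (π g))
      set j := orderOf (π g)
      have a0 := congrFun (hs ![1, 0, 0]) 0
      have a1 := congrFun (hs ![1, 0, 0]) 1
      have a2 := congrFun (hs ![0, 0, 1]) 2
      rw [hpow] at a0 a1 a2
      simp [hx] at a0 a1 a2
      have hα0 : α ≠ 0 := fun h => by rw [h, zero_mul] at hα; exact one_ne_zero (by linear_combination hα)
      have hj : (j : F) = 0 := by
        rcases a1 with h | h <;> simp [hζ0, ht0, hα0] at h ⊢ <;> exact h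
      rw [hj] at a0
      simp at a0
      have h3 : ζ ^ (3 * j) = 1 := by
        have hne : (ζ ^ 2) ^ j ≠ 0 := pow_ne_zero _ (pow_ne_zero _ hζ0)
        rw [← a0] at a2
        rw [show 3 * j = 2 * j + j by ring, pow_add, pow_mul, ← a2, mul_inv_cancel₀ hne]
      have hjp : p ∣ j := (CharP.cast_eq_zero_iff F p j).1 hj
      have hkj : k ∣ j := by
        have h1 : d * k ∣ 3 * j := hdk ▸ hζo _ h3
        rcases (Nat.dvd_prime Nat.prime_three).1 hd4 with e | e
        · rw [e, one_mul] at h1 hdk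
          exact (Nat.Coprime.dvd_of_dvd_mul_left (by
            rw [hdk, Nat.coprime_comm]
            exact (Nat.coprime_iff_gcd_eq_one.2 (hd ▸ e))) h1)
        · rw [e] at h1
          exact Nat.dvd_of_mul_dvd_mul_left (by norm_num) h1
      refine Nat.Coprime.mul_dvd_of_dvd_of_dvd (((Fact.out : p.Prime).coprime_iff_not_dvd).2 fun h => ?_) hjp hkj
      exact (Fact.out : p.Prime).not_dvd_one
        ((Nat.dvd_add_right hpq).1 (h.trans (hk ▸ Nat.div_dvd_of_dvd hd1)))
  -- order (q² - 1) / d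
  have hpm : ∀ {M : ℕ}, M ∣ q ^ 6 - 1 → ¬ p ∣ M := fun {M} hM h => by
    have h1 : p ∣ q ^ 6 := hpq.trans (dvd_pow_self q (by norm_num))
    have h2 := Nat.dvd_sub h1 (h.trans hM)
    rw [Nat.sub_sub_self (Nat.one_le_pow _ _ (by omega))] at h2
    exact (Fact.out : p.Prime).not_dvd_one h2
  obtain ⟨hadd, -⟩ := U3Spectrum.frob_facts (F := F) (q := q) p
  have hpowsq : ∀ a b c : AlgebraicClosure F,
      (a + b + c) ^ (q ^ 2) = a ^ (q ^ 2) + b ^ (q ^ 2) + c ^ (q ^ 2) := fun a b c => by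
    rw [pow_two, pow_mul, pow_mul, pow_mul, pow_mul, hadd, hadd, hadd, hadd]
  have hmain : ∀ {M : ℕ} {x y z : AlgebraicClosure F}, IsPrimitiveRoot x M → x * y * z = 1 →
      x ≠ 1 → y ≠ 1 → z ≠ 1 → (x + y + z) ^ (q ^ 2) = x + y + z →
      (x + y + z) ^ q = x * y + y * z + z * x →
      (∀ j : ℕ, y ^ j = x ^ j → z ^ j = x ^ j → M / d ∣ j) →
      ∃ g : ↥(Cfsg.SU 3 F q), M / d ∣ orderOf (π g) := by
    intro M x y z _ hxyz hx1 hy1 hz1 hfix hconj hlast
    obtain ⟨g, hg⟩ := U3Spectrum.exists_eigen p hxyz hx1 hy1 hz1 hfix hconj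
    obtain ⟨h1, h2⟩ := hg _ (pow_orderOf_eq_one (π g))
    exact ⟨g, hlast _ h1 h2⟩
  have e3 : ∃ g : ↥(Cfsg.SU 3 F q), (q ^ 2 - 1) / d ∣ orderOf (π g) := by
    set M := q ^ 2 - 1 with hM
    obtain ⟨x, hx⟩ := U3Spectrum.exists_root (F := F) (q := q) p (M := M) (hpm (by
      have := Nat.sub_one_dvd_pow_sub_one (q ^ 2) 3
      rw [← pow_mul] at this
      exact this))
    have hq3 : 3 ≤ q := by omega
    have hMpos : 8 ≤ M := by
      have : 9 ≤ q ^ 2 := by nlinarith
      omega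
    have hx0 : x ≠ 0 := hx.ne_zero (by omega)
    have hxM : x ^ (q ^ 2) = x := by
      rw [show q ^ 2 = M + 1 by omega, pow_succ, hx.pow_eq_one, one_mul]
    set y := (x ^ q)⁻¹ with hy
    set z := x ^ (q - 1) with hz
    have hzq : z * x = x ^ q := by rw [hz, ← pow_succ, Nat.sub_add_cancel (by omega)]
    have hxyz : x * y * z = 1 := by
      rw [hy, mul_right_comm, mul_comm x z, hzq, mul_inv_cancel₀ (pow_ne_zero _ hx0)]
    have hxq : (x ^ q) ^ q = x := by rw [← pow_mul, ← pow_two]; exact hxM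
    have hyq : y ^ q = x⁻¹ := by rw [hy, inv_pow, hxq]
    have hzq' : z ^ q * x ^ q = x := by rw [← mul_pow, hzq, hxq]
    refine hmain hx hxyz (fun h => ?_) (fun h => ?_) (fun h => ?_) ?_ ?_ (fun j h1 h2 => ?_)
    · have := hx.dvd_of_pow_eq_one 1 (by rw [pow_one, h]); have := Nat.le_of_dvd one_pos this; omega
    · have := hx.dvd_of_pow_eq_one q (by rw [← inv_inv (x ^ q), ← hy, h, inv_one])
      have := Nat.le_of_dvd (by omega) this
      have : q * q ≥ 3 * q := Nat.mul_le_mul_right q hq3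
      rw [hM, pow_two] at *; omega
    · have := hx.dvd_of_pow_eq_one (q - 1) h
      have := Nat.le_of_dvd (by omega) this
      have : q * q ≥ 3 * q := Nat.mul_le_mul_right q hq3
      rw [hM, pow_two] at *; omega
    · rw [hpowsq, hxM]
      congr 1
      · rw [hy, inv_pow, ← pow_mul, mul_comm, pow_mul, hxM]
      · rw [hz, ← pow_mul, mul_comm, pow_mul, hxM]
    · rw [hadd, hadd, hyq]
      have hy' : y * x ^ q = 1 := inv_mul_cancel₀ (pow_ne_zero _ hx0)
      refine mul_right_cancel₀ (pow_ne_zero q hx0) ?_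
      have e : x⁻¹ * x = 1 := inv_mul_cancel₀ hx0
      linear_combination hzq' - (x + z) * hy' - x ^ q * hzq - x⁻¹ * hzq + z * e
    · -- exponent
      have a1 : x ^ ((q + 1) * j) = 1 := by
        rw [add_mul, one_mul, pow_add, pow_mul, ← h1, hy, inv_pow, mul_inv_cancel₀ (pow_ne_zero _ (pow_ne_zero _ hx0))]
      have a2 : x ^ ((q - 2) * j) = 1 := by
        refine mul_right_cancel₀ (pow_ne_zero j hx0) ?_
        rw [← pow_add, one_mul, show (q - 2) * j + j = (q - 1) * j by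
          rw [show q - 1 = q - 2 + 1 by omega, add_mul, one_mul], pow_mul, ← hz, h2]
      have b1 := hx.dvd_of_pow_eq_one _ a1
      have b2 := hx.dvd_of_pow_eq_one _ a2
      have b3 : M ∣ 3 * j := by
        rw [show 3 * j = (q + 1) * j - (q - 2) * j by rw [← Nat.sub_mul]; congr 1; omega]
        exact Nat.dvd_sub b1 b2
      have b4 : M ∣ d * j := by
        rw [hd, ← Nat.gcd_mul_right]
        exact Nat.dvd_gcd b3 b1
      rw [← Nat.mul_div_cancel' (hM ▸ hd2 : d ∣ M)] at b4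
      exact Nat.dvd_of_mul_dvd_mul_left hd0 b4
  have e4 : ∃ g : ↥(Cfsg.SU 3 F q), (q ^ 2 - q + 1) / d ∣ orderOf (π g) := by
    set M := q ^ 2 - q + 1 with hM
    have hqq : q ≤ q ^ 2 := Nat.le_self_pow two_ne_zero q
    have hM3 : M * (q + 1) = q ^ 3 + 1 := by
      have : (q ^ 2 - q) + q = q ^ 2 := Nat.sub_add_cancel hqq
      rw [hM]; nlinarith
    obtain ⟨x, hx⟩ := U3Spectrum.exists_root (F := F) (q := q) p (M := M) (hpm (by
      have := Nat.sq_sub_sq (q ^ 3) 1
      rw [← pow_mul, one_pow] at this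
      rw [this, ← hM3]
      exact (dvd_mul_right M (q + 1)).mul_right _))
    have hq3 : 3 ≤ q := by omega
    have hMpos : 2 * q + 1 ≤ M := by
      have : q * q ≥ 3 * q := Nat.mul_le_mul_right q hq3
      rw [hM, pow_two]; omega
    have hx0 : x ≠ 0 := hx.ne_zero (by omega)
    have hx3 : x ^ (q ^ 3) * x = 1 := by rw [← pow_succ, ← hM3, pow_mul, hx.pow_eq_one, one_pow]
    have hxq2 : x ^ (q ^ 2) * x = x ^ q := by
      rw [← pow_succ, show q ^ 2 + 1 = M + q by omega, pow_add, hx.pow_eq_one, one_mul]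
    set y := (x ^ q)⁻¹ with hy
    set z := x ^ (q ^ 2) with hz
    have hxyz : x * y * z = 1 := by
      rw [hy, mul_right_comm, mul_comm x z, hxq2, mul_inv_cancel₀ (pow_ne_zero _ hx0)]
    have hyq : y ^ q = z⁻¹ := by rw [hy, inv_pow, ← pow_mul, ← pow_two]
    have hzq : z ^ q = x⁻¹ := by
      rw [hz, ← pow_mul, ← pow_succ]; exact eq_inv_of_mul_eq_one_left hx3
    have hy2 : y ^ (q ^ 2) = x := by rw [pow_two, pow_mul, hyq, inv_pow, hzq, inv_inv]
    have hz2 : z ^ (q ^ 2) = y := by rw [pow_two, pow_mul, hzq, inv_pow, hy]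
    refine hmain hx hxyz (fun h => ?_) (fun h => ?_) (fun h => ?_) ?_ ?_ (fun j h1 h2 => ?_)
    · have := hx.dvd_of_pow_eq_one 1 (by rw [pow_one, h]); have := Nat.le_of_dvd one_pos this; omega
    · have := hx.dvd_of_pow_eq_one q (by rw [← inv_inv (x ^ q), ← hy, h, inv_one])
      have := Nat.le_of_dvd (by omega) this
      omega
    · have h' : x ^ q = x := by rw [← hxq2, h, one_mul]
      have : x ^ (q - 1) = 1 := mul_right_cancel₀ hx0
        (by rw [← pow_succ, Nat.sub_add_cancel (by omega), h', one_mul])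
      have := Nat.le_of_dvd (by omega) (hx.dvd_of_pow_eq_one _ this)
      omega
    · rw [hpowsq, ← hz, hy2, hz2]; ring
    · rw [hadd, hadd, hyq, hzq, show x ^ q = y⁻¹ by rw [hy, inv_inv]]
      have hy0 : y ≠ 0 := inv_ne_zero (pow_ne_zero _ hx0)
      have hz0 : z ≠ 0 := pow_ne_zero _ hx0
      field_simp
      linear_combination -(x * y + y * z + z * x) * hxyz
    · have a1 : x ^ ((q + 1) * j) = 1 := by
        rw [add_mul, one_mul, pow_add, pow_mul, ← h1, hy, inv_pow, mul_inv_cancel₀ (pow_ne_zero _ (pow_ne_zero _ hx0))]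
      have b1 := hx.dvd_of_pow_eq_one _ a1
      have b2 : M ∣ M * j := dvd_mul_right M j
      have b3 : M ∣ 3 * j := by
        have e : M * j = (q + 1) * j * (q - 2) + 3 * j := by
          have : M = (q + 1) * (q - 2) + 3 := by
            obtain ⟨k, rfl⟩ := Nat.exists_eq_add_of_le hq
            rw [Nat.add_sub_cancel_left, hM]
            have : (2 + k) ^ 2 = (2 + k + 1) * k + 2 + (2 + k) := by ring
            omega
          rw [this]; ring
        rw [e] at b2
        exact (Nat.dvd_add_right (b1.mul_right _)).1 b2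
      have b4 : M ∣ d * j := by
        rw [hd, ← Nat.gcd_mul_right]
        exact Nat.dvd_gcd b3 b1
      rw [← Nat.mul_div_cancel' (hM ▸ hd3 : d ∣ M)] at b4
      exact Nat.dvd_of_mul_dvd_mul_left hd0 b4
  ext N
  simp only [Set.mem_range, Set.mem_union, Set.mem_setOf_eq]
  constructor
  · rintro ⟨x, rfl⟩
    obtain ⟨g, rfl⟩ := QuotientGroup.mk'_surjective (Subgroup.center ↥(Cfsg.SU 3 F q)) x
    have h := U3Spectrum.order_bound p hp g
    tauto
  · rintro (((h | h) | h) | h)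
    · exact key e1 h
    · exact key e2 h
    · obtain ⟨g, hg⟩ := e3
      exact key ⟨g, rfl⟩ (h.trans hg)
    · obtain ⟨g, hg⟩ := e4
      exact key ⟨g, rfl⟩ (h.trans hg)

end Cfsg.Agent.S2366
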