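import Cfsg.Statements.S2367
-- import your own Cfsg.Agent.* helpers here

set_option autoImplicit false
open Cfsg

namespace Cfsg.Agent.S2367

lemma two_pow_mul_factorial_dvd : ∀ m : ℕ, 2 ^ m * m.factorial ∣ (2 * m).factorial
  | 0 => by simp
  | m + 1 => by
    have ih := two_pow_mul_factorial_dvd m
    rw [show 2 * (m + 1) = 2 * m + 1 + 1 by ring, Nat.factorial_succ (2 * m + 1), Nat.factorial_succ (2 * m),
      Nat.factorial_succ m]
    have : 2 ^ (m + 1) * ((m + 1) * m.factorial) = (2 * m + 1 + 1) * (2 ^ m * m.factorial) := by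
      ring
    rw [this]
    exact Nat.mul_dvd_mul_left _ (Dvd.dvd.mul_left ih _)

lemma two_pow_dvd_factorial (m : ℕ) : 2 ^ (m + m / 2) ∣ (2 * m).factorial := by
  refine dvd_trans ?_ (two_pow_mul_factorial_dvd m)
  rw [pow_add]
  exact Nat.mul_dvd_mul_left _ ((dvd_mul_right _ (m / 2).factorial).trans
    ((two_pow_mul_factorial_dvd (m / 2)).trans (Nat.factorial_dvd_factorial (by omega))))

lemma cube_lt_four_pow (p : ℕ) (hp : 5 ≤ p) : p ^ 3 < 2 ^ (2 * p - 2) := by
  induction p, hp using Nat.le_induction with
  | base => norm_num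
  | succ p hp ih =>
    rw [show 2 * (p + 1) - 2 = (2 * p - 2) + 2 by omega, pow_add]
    have : (p + 1) ^ 3 ≤ 4 * p ^ 3 := by
      have h1 : 5 * (p + 1) ≤ 6 * p := by omega
      have h2 : (5 * (p + 1)) ^ 3 ≤ (6 * p) ^ 3 := Nat.pow_le_pow_left h1 3
      nlinarith [h2]
    omega

lemma alternating_case (n p : ℕ) (hn : 5 ≤ n) (hp : p.Prime) (hodd : p ≠ 2) (N : ℕ)
    (hN : 2 * N = n.factorial) (h3 : N.factorization p = 3) :
    p ^ 3 < 2 ^ N.factorization 2 := by
  have hN0 : N ≠ 0 := by
    rintro rfl; simp only [mul_zero] at hN; exact Nat.factorial_ne_zero n hN.symm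
  have hfac : ∀ r, (n.factorial).factorization r = (2 : ℕ).factorization r + N.factorization r := by
    intro r; rw [← hN, Nat.factorization_mul two_ne_zero hN0]; rfl
  have hp3 : (n.factorial).factorization p = 3 := by
    rw [hfac, h3, Nat.prime_two.factorization, Finsupp.single_apply, if_neg (Ne.symm hodd)]
  have hsum : ∀ r : ℕ, n < p ^ 3 → (p ^ r ∣ n.factorial ↔ r ≤ n / p + n / p ^ 2) := by
    intro r hlt
    rw [hp.pow_dvd_factorial_iff (n := n) (b := 3) (Nat.log_lt_of_lt_pow (by omega) hlt),
      show Finset.Ico 1 3 = {1, 2} by rfl, Finset.sum_pair (by norm_num), pow_one]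
  have hdvd : p ^ 3 ∣ n.factorial := by
    rw [hp.pow_dvd_iff_le_factorization (Nat.factorial_ne_zero n)]; omega
  have hndvd : ¬ p ^ 4 ∣ n.factorial := by
    rw [hp.pow_dvd_iff_le_factorization (Nat.factorial_ne_zero n)]; omega
  rcases eq_or_ne p 3 with rfl | hp3'
  · exfalso
    rcases lt_or_ge n 9 with h9 | h9
    · have := (hsum 3 (by norm_num; omega)).1 hdvd
      norm_num at this; omega
    · exact hndvd (dvd_trans (by decide) (Nat.factorial_dvd_factorial h9))
  have hp5 : 5 ≤ p := by
    have h2 := hp.two_le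
    rcases eq_or_ne p 4 with rfl | h4
    · norm_num at hp
    · omega
  have h3p : 3 * p ≤ n := by
    by_contra hlt
    push Not at hlt
    have hsq : 3 * p < p ^ 2 := by nlinarith
    have hlt3 : n < p ^ 3 := by nlinarith
    have := (hsum 3 hlt3).1 hdvd
    rw [Nat.div_eq_of_lt (show n < p ^ 2 by omega)] at this
    have : n / p < 3 := (Nat.div_lt_iff_lt_mul (by omega)).2 hlt
    omega
  set m := (3 * p - 1) / 2 with hm
  have h2dvd : 2 ^ (m + m / 2) ∣ n.factorial :=
    (two_pow_dvd_factorial m).trans (Nat.factorial_dvd_factorial (by omega))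
  rw [Nat.prime_two.pow_dvd_iff_le_factorization (Nat.factorial_ne_zero n), hfac,
    Nat.prime_two.factorization, Finsupp.single_eq_same] at h2dvd
  exact (cube_lt_four_pow p hp5).trans_le (Nat.pow_le_pow_right (by omega) (by omega))

lemma order_case (N a : ℕ) (L : List ℕ) (hL : ∀ r ∈ L, r.Prime) (ha : 2 ^ a ∣ N)
    (hsupp : N ∣ (2 * L.prod) ^ 50) (hN0 : N ≠ 0)
    (hchk : ∀ r ∈ L, r ^ 4 ∣ N ∨ ¬ r ^ 3 ∣ N ∨ r ^ 3 < 2 ^ a)
    (p : ℕ) (hp : p.Prime) (hodd : p ≠ 2) (h3 : N.factorization p = 3) :
    p ^ 3 < 2 ^ N.factorization 2 := by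
  have hdvd : p ^ 3 ∣ N := by rw [hp.pow_dvd_iff_le_factorization hN0]; omega
  have hndvd : ¬ p ^ 4 ∣ N := by rw [hp.pow_dvd_iff_le_factorization hN0]; omega
  have hpN : p ∣ (2 * L.prod) ^ 50 :=
    ((dvd_pow_self p (by norm_num : (3 : ℕ) ≠ 0)).trans hdvd).trans hsupp
  rcases hp.dvd_mul.1 (hp.dvd_of_dvd_pow hpN) with h | h
  · exact absurd ((Nat.prime_dvd_prime_iff_eq hp Nat.prime_two).1 h) hodd
  · have hmem : p ∈ L := mem_list_primes_of_dvd_prod hp.prime
      (fun r hr => (hL r hr).prime) h
    rcases hchk p hmem with h | h | h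
    · exact absurd h hndvd
    · exact absurd hdvd h
    · refine h.trans_le (Nat.pow_le_pow_right (by omega) ?_)
      rwa [← Nat.prime_two.pow_dvd_iff_le_factorization hN0]


/-- Let G be an alternating group of degree at least 5 or a simple group with the order of one of the 26 sporadic groups, and let p be an odd prime such that p³ is the exact power of p dividing the order of G. Then p³ is less than the 2-part of the order of G. -/
theorem result {G : Type*} [Group G] [Finite G] (hG : Cfsg.IsAlternating G ∨ Cfsg.IsSporadic G)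
    (p : ℕ) (hp : p.Prime) (hodd : p ≠ 2) (h3 : (Nat.card G).factorization p = 3) :
    p ^ 3 < 2 ^ (Nat.card G).factorization 2 := by
  rcases hG with ⟨n, hn, ⟨e⟩⟩ | hG
  · have hc : 2 * Nat.card G = n.factorial := by
      have : Nontrivial (Fin n) := Fin.nontrivial_iff_two_le.2 (by omega)
      rw [Nat.card_congr e.toEquiv]
      rw [two_mul_nat_card_alternatingGroup, Nat.card_perm, Nat.card_fin]
    exact alternating_case n p hn hp hodd _ hc h3
  have key : ∀ N a : ℕ, 2 ^ a ∣ N →
      N ∣ (2 * [3, 5, 7, 11, 13, 17, 19, 23, 29, 31, 37, 41, 43, 47, 59, 67, 71].prod) ^ 50 →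
      N ≠ 0 →
      (∀ r ∈ [3, 5, 7, 11, 13, 17, 19, 23, 29, 31, 37, 41, 43, 47, 59, 67, 71],
        r ^ 4 ∣ N ∨ ¬ r ^ 3 ∣ N ∨ r ^ 3 < 2 ^ a) →
      Nat.card G = N → p ^ 3 < 2 ^ (Nat.card G).factorization 2 := by
    intro N a ha hsupp hN0 hchk hc
    rw [hc] at h3 ⊢
    refine order_case N a _ ?_ ha hsupp hN0 hchk p hp hodd h3
    simp only [List.forall_mem_cons, List.not_mem_nil, IsEmpty.forall_iff, implies_true, and_true]
    norm_num
  simp only [IsSporadic] at hG
  obtain h | h | h | h | h | h | h | h | h | h | h | h | h | h | h | h | h | h | h | h | h | h |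
    h | h | h | h := hG
  · exact key _ 4 (by decide +kernel) (by decide +kernel) (by decide) (by decide +kernel) h.2
  · exact key _ 6 (by decide +kernel) (by decide +kernel) (by decide) (by decide +kernel) h.2
  · exact key _ 7 (by decide +kernel) (by decide +kernel) (by decide) (by decide +kernel) h.2
  · exact key _ 7 (by decide +kernel) (by decide +kernel) (by decide) (by decide +kernel) h.2
  · exact key _ 10 (by decide +kernel) (by decide +kernel) (by decide) (by decide +kernel) h.2
  · exact key _ 3 (by decide +kernel) (by decide +kernel) (by decide) (by decide +kernel) h.2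
  · exact key _ 7 (by decide +kernel) (by decide +kernel) (by decide) (by decide +kernel) h.2
  · exact key _ 7 (by decide +kernel) (by decide +kernel) (by decide) (by decide +kernel) h.2
  · exact key _ 21 (by decide +kernel) (by decide +kernel) (by decide) (by decide +kernel) h.2
  · exact key _ 21 (by decide +kernel) (by decide +kernel) (by decide) (by decide +kernel) h.2
  · exact key _ 18 (by decide +kernel) (by decide +kernel) (by decide) (by decide +kernel) h.2
  · exact key _ 10 (by decide +kernel) (by decide +kernel) (by decide) (by decide +kernel) h.2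
  · exact key _ 17 (by decide +kernel) (by decide +kernel) (by decide) (by decide +kernel) h.2
  · exact key _ 18 (by decide +kernel) (by decide +kernel) (by decide) (by decide +kernel) h.2
  · exact key _ 21 (by decide +kernel) (by decide +kernel) (by decide) (by decide +kernel) h.2
  · exact key _ 9 (by decide +kernel) (by decide +kernel) (by decide) (by decide +kernel) h.2
  · exact key _ 7 (by decide +kernel) (by decide +kernel) (by decide) (by decide +kernel) h.2
  · exact key _ 10 (by decide +kernel) (by decide +kernel) (by decide) (by decide +kernel) h.2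
  · exact key _ 14 (by decide +kernel) (by decide +kernel) (by decide) (by decide +kernel) h.2
  · exact key _ 13 (by decide +kernel) (by decide +kernel) (by decide) (by decide +kernel) h.2
  · exact key _ 9 (by decide +kernel) (by decide +kernel) (by decide) (by decide +kernel) h.2
  · exact key _ 14 (by decide +kernel) (by decide +kernel) (by decide) (by decide +kernel) h.2
  · exact key _ 8 (by decide +kernel) (by decide +kernel) (by decide) (by decide +kernel) h.2
  · exact key _ 15 (by decide +kernel) (by decide +kernel) (by decide) (by decide +kernel) h.2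
  · exact key _ 41 (by decide +kernel) (by decide +kernel) (by decide) (by decide +kernel) h.2
  · exact key _ 46 (by decide +kernel) (by decide +kernel) (by decide) (by decide +kernel) h.2

end Cfsg.Agent.S2367
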