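import Cfsg.Statements.S2368
import Cfsg.Agent.Lib.Invol.CharPow
import Cfsg.Agent.Lib.GLOrders.PSLOrders
-- import your own Cfsg.Agent.* helpers here

set_option autoImplicit false
open Cfsg

namespace Cfsg.Agent.S2368

/-- Let F be a finite field of characteristic p and m ≥ 1. Every element of GL(m, F) of p-power order has order less than p·m, and GL(m, F) has an element of p-power order at least m; so the largest order of a p-element of GL(m, F) is the least power of p that is at least m. -/
theorem result {F : Type*} [Field F] [Fintype F] (p : ℕ) [Fact p.Prime] [CharP F p] (m : ℕ) (hm : 1 ≤ m) :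
    (∀ g : Matrix.GeneralLinearGroup (Fin m) F, (∃ j : ℕ, orderOf g = p ^ j) → orderOf g < p * m) ∧
      ∃ g : Matrix.GeneralLinearGroup (Fin m) F, (∃ j : ℕ, orderOf g = p ^ j) ∧ m ≤ orderOf g := by
  have hp : p.Prime := Fact.out
  refine ⟨?_, ?_⟩
  · rintro g ⟨j, hj⟩
    have h1 : orderOf g ≤ p ^ Nat.clog p m :=
      Nat.le_of_dvd (pow_pos hp.pos _)
        (orderOf_dvd_of_pow_eq_one (CharPow.pow_clog_eq_one p g (CharPow.isNilpotent_of_orderOf p g hj)))
    refine lt_of_le_of_lt h1 ?_
    rcases Nat.eq_zero_or_pos (Nat.clog p m) with h0 | hpos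
    · rw [h0, pow_zero]
      calc 1 < p := hp.one_lt
        _ ≤ p * m := Nat.le_mul_of_pos_right p hm
    · obtain ⟨c, hc⟩ := Nat.exists_eq_succ_of_ne_zero hpos.ne'
      have hlt : p ^ c < m := by
        by_contra hle
        have := (Nat.clog_le_iff_le_pow hp.one_lt).2 (not_lt.1 hle)
        omega
      rw [hc, pow_succ, mul_comm]
      exact Nat.mul_lt_mul_of_pos_left hlt hp.pos
  · set J := GLOrders.jordanOne F m with hJ
    have hdet : IsUnit J := by
      rw [Matrix.isUnit_iff_isUnit_det, GLOrders.jordanOne_det]; exact isUnit_one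
    have hnil : IsNilpotent ((hdet.unit : Matrix (Fin m) (Fin m) F) - 1) := by
      refine ⟨m, ?_⟩
      ext a b
      rw [IsUnit.unit_spec, hJ, GLOrders.jordanOne_sub_one_pow, if_neg (by omega), Matrix.zero_apply]
    have hne : ((hdet.unit : Matrix (Fin m) (Fin m) F) - 1) ^ (m - 1) ≠ 0 := by
      intro h
      have h' := congrFun (congrFun h ⟨0, by omega⟩) ⟨m - 1, by omega⟩
      rw [IsUnit.unit_spec, hJ, GLOrders.jordanOne_sub_one_pow] at h'
      simp at h'
    have ho := CharPow.orderOf_eq_of_ne p hdet.unit hnil hne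
    exact ⟨hdet.unit, ⟨_, ho⟩, by rw [ho]; exact Nat.le_pow_clog hp.one_lt m⟩

end Cfsg.Agent.S2368
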