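import Cfsg.Statements.S2369
import Cfsg.Agent.Lib.Chev.TwF4InvolClass

set_option autoImplicit false
open Cfsg

namespace Cfsg.Agent.S2369

/-- Let q = 2^(2m+1) with m ≥ 1 and let a, b be commuting elements of the large Ree group ²F₄(q) with a an involution. Then every prime divisor of the order of b divides q(q⁴ − 1). -/
theorem result {K : Type*} [Field K] [Fintype K] (m : ℕ) (hm : 1 ≤ m) (hK : Fintype.card K = 2 ^ (2 * m + 1))
    (a b : ↥(Cfsg.Lie.twistedF4 K (2 ^ m))) (ha : orderOf a = 2) (hab : Commute a b) :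
    (orderOf b).primeFactors ⊆ (2 ^ (2 * m + 1) * ((2 ^ (2 * m + 1)) ^ 4 - 1)).primeFactors := by
  haveI := Cfsg.Agent.Chev.TwF4.charP_two hK
  obtain ⟨φ, G, -, hφ, hG, hO⟩ := Cfsg.Agent.Chev.TwF4.setup (m := m) hK
  set q := 2 ^ (2 * m + 1)
  have h2 : a * a = 1 := by
    have h := pow_orderOf_eq_one a
    rwa [ha, sq] at h
  have h1 : a ≠ 1 := fun h => by simp [h] at ha
  have h := Cfsg.Agent.Chev.TwF4.Gen.commuting_dvd φ hφ G hO (hG.ge a.2) (congrArg Subtype.val h2)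
    (fun h => h1 (Subtype.ext h)) (hG.ge b.2) (congrArg Subtype.val hab.eq.symm)
  rw [Subgroup.orderOf_coe, hK] at h
  have hq : 2 ≤ q := Nat.le_self_pow (by omega) 2
  have hne : q * (q ^ 4 - 1) ≠ 0 := by
    have : 2 ^ 4 ≤ q ^ 4 := Nat.pow_le_pow_left hq 4
    exact Nat.mul_ne_zero (by omega) (by omega)
  intro p hp
  rw [Nat.mem_primeFactors] at hp ⊢
  refine ⟨hp.1, ?_, hne⟩
  obtain ⟨k, hk⟩ : ∃ k, q = k + 1 := ⟨q - 1, by omega⟩
  have e4 : q ^ 4 - 1 = (q - 1) * ((1 + q) * (1 + q ^ 2)) := by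
    have h4 : 1 ≤ q ^ 4 := Nat.one_le_pow _ _ (by omega)
    zify [h4, show 1 ≤ q by omega]
    ring
  have hdvd : p ∣ q ^ 12 * (q - 1) ^ 2 * ((1 + q) * (1 + q ^ 2)) := by
    rcases h with h | h
    · exact (hp.2.1.trans h).trans (Dvd.intro (1 + q ^ 2) (by ring))
    · exact (hp.2.1.trans h).trans (Dvd.intro_left (1 + q) (by ring))
  rw [e4]
  rcases hp.1.dvd_mul.1 hdvd with h | h
  · rcases hp.1.dvd_mul.1 h with h | h
    · exact (hp.1.dvd_of_dvd_pow h).trans (dvd_mul_right _ _)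
    · exact ((hp.1.dvd_of_dvd_pow h).trans (dvd_mul_right _ _)).trans (dvd_mul_left _ _)
  · exact (h.trans (dvd_mul_left _ _)).trans (dvd_mul_left _ _)

end Cfsg.Agent.S2369
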