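import Cfsg.Statements.S2372
import Cfsg.Agent.Lib.Chev.CyclTorus.Main
import Cfsg.Agent.Lib.Chev.AllW
import Cfsg.Agent.Lib.Chev.Smith

set_option autoImplicit false
open Cfsg

namespace Cfsg.Agent.S2372
open Cfsg.Agent

theorem eval_eight (a : ℤ) : (Polynomial.cyclotomic 8 ℤ).eval a = a ^ 4 + 1 := by
  haveI : Fact (Nat.Prime 2) := ⟨Nat.prime_two⟩
  rw [show (8 : ℕ) = 2 ^ (2 + 1) by norm_num, Polynomial.cyclotomic_prime_pow_eq_geom_sum Nat.prime_two]
  simp [Finset.sum_range_succ, add_comm]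

theorem exists_odd_prime {q : ℕ} (hq : 2 ≤ q) : ∃ r, r.Prime ∧ r ≠ 2 ∧ r ∣ q ^ 4 + 1 := by
  have h4 : (q ^ 4 + 1) % 4 = 1 ∨ (q ^ 4 + 1) % 4 = 2 := by
    have := Nat.mod_lt q (by norm_num : 4 > 0)
    rw [Nat.add_mod, Nat.pow_mod]
    interval_cases q % 4 <;> norm_num
  have h16 : 16 ≤ q ^ 4 := le_trans (by norm_num : 16 ≤ 2 ^ 4) (Nat.pow_le_pow_left hq 4)
  obtain ⟨N, hN1, hN2, hN⟩ : ∃ N, 1 < N ∧ N % 2 = 1 ∧ N ∣ q ^ 4 + 1 := by
    rcases h4 with e | e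
    · exact ⟨q ^ 4 + 1, by omega, by omega, dvd_rfl⟩
    · exact ⟨(q ^ 4 + 1) / 2, by omega, by omega, Nat.div_dvd_of_dvd (by omega)⟩
  refine ⟨N.minFac, Nat.minFac_prime (by omega), fun e => ?_, (Nat.minFac_dvd N).trans hN⟩
  have := Nat.minFac_dvd N
  rw [e] at this
  omega

/-- The group F₄(q) contains a cyclic subgroup of order q⁴ + 1 which is its own centralizer. -/
theorem result {F : Type*} [Field F] [Fintype F] (q : ℕ) (hF : Fintype.card F = q) :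
    ∃ H : Subgroup ↥(Cfsg.Lie.chevF4.group F), IsCyclic ↥H ∧ Nat.card ↥H = q ^ 4 + 1 ∧
      Subgroup.centralizer (H : Set ↥(Cfsg.Lie.chevF4.group F)) = H := by
  classical
  subst hF
  set q := Fintype.card F with hF
  have hq : 2 ≤ q := Fintype.one_lt_card
  obtain ⟨p, hp⟩ := CharP.exists F
  haveI := hp
  haveI : Fact p.Prime := ⟨CharP.char_is_prime F p⟩
  let L := FiniteField.Extension F p 8
  haveI : Fintype L := Fintype.ofFinite _
  obtain ⟨r, hr, hr2, hrd⟩ := exists_odd_prime hq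
  haveI : Fact r.Prime := ⟨hr⟩
  have hL : Fintype.card L = q ^ 8 := by
    rw [← Nat.card_eq_fintype_card, FiniteField.natCard_extension, Nat.card_eq_fintype_card]
  refine Exists.elim (Chev.CyclTorus.exists_torus Chev.F4.ok (L := L) (algebraMap F L) Chev.ckComm_F4
    (J := [3, 2, 1, 0]) (by decide) Chev.ckOrb_F4 Chev.poinP_F4 rfl Chev.smith_F4 (by decide) hF.symm hL
    (by norm_num) (by decide) (d0 := 8) (by decide) dvd_rfl (r := r) ?_ ?_ ?_ ?_) ?_
  · rw [eval_eight]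
    exact_mod_cast hrd
  · intro h
    rw [show (8 : ℕ) = 2 ^ 3 by norm_num] at h
    exact hr2 ((Nat.prime_dvd_prime_iff_eq hr Nat.prime_two).1 (hr.dvd_of_dvd_pow h))
  · intro h8 h
    rw [Chev.poinP_F4, show Chev.pev 1 (Chev.pgeom [2, 6, 8, 12]) = 2 ^ 7 * 3 ^ 2 by decide +kernel] at h
    rcases hr.dvd_mul.1 h with e | e <;> have := Nat.le_of_dvd (by norm_num) (hr.dvd_of_dvd_pow e) <;> omega
  · intro s hs hs8 hsA
    rw [show (8 : ℕ) = 2 ^ 3 by norm_num] at hs8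
    obtain rfl := (Nat.prime_dvd_prime_iff_eq hs Nat.prime_two).1 (hs.dvd_of_dvd_pow hs8)
    refine ⟨1, ?_, ?_⟩
    · have h1 : 1 ≤ q ^ 8 := Nat.one_le_pow _ _ (by omega)
      rw [← ZMod.natCast_eq_zero_iff, Nat.cast_sub h1, sub_eq_zero, Nat.cast_pow, Nat.cast_one] at hsA
      rw [Int.cast_one]
      revert hsA
      generalize (q : ZMod 2) = x
      revert x
      decide
    · rw [eval_eight]
      norm_num
  · rintro H ⟨h1, h2, h3⟩
    refine ⟨H, h1, ?_, h3⟩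
    rw [h2, eval_eight]
    rfl

end Cfsg.Agent.S2372
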