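import Cfsg.Statements.S2373
import Cfsg.Agent.Lib.Chev.CyclTorus.E6Key
import Cfsg.Agent.Lib.Chev.AllW
import Cfsg.Agent.Lib.CurtisTits.MinCheckE6

set_option autoImplicit false
open Cfsg

namespace Cfsg.Agent.S2373
open Cfsg.Agent

open Polynomial in
theorem eval_P (a : ℤ) : (cyclotomic 12 ℤ * cyclotomic 3 ℤ).eval a = (a ^ 4 - a ^ 2 + 1) * (a ^ 2 + a + 1) := by
  rw [Chev.CyclTorus.cyclotomic_twelve, cyclotomic_three]
  simp

theorem P_dvd : (Polynomial.cyclotomic 12 ℤ * Polynomial.cyclotomic 3 ℤ) ∣ Polynomial.X ^ 12 - 1 := by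
  rw [← Polynomial.prod_cyclotomic_eq_X_pow_sub_one (by norm_num : 0 < 12),
    ← Finset.prod_pair (by norm_num : (12 : ℕ) ≠ 3) (f := fun i => Polynomial.cyclotomic i ℤ)]
  exact Finset.prod_dvd_prod_of_subset _ _ _ (by decide)

theorem no_small (n q : ℕ) (hn : n.Prime) (h : n ∣ 12) : (q : ZMod n) ^ 4 - (q : ZMod n) ^ 2 + 1 ≠ 0 := by
  have hle : n ≤ 12 := Nat.le_of_dvd (by norm_num) h
  generalize (q : ZMod n) = x
  revert x hn h
  interval_cases n <;> intro hn h <;> first | (norm_num at hn; done) | (norm_num at h; done) | decide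

/-- The group E₆(q) (the simple Chevalley group of type E₆) contains a cyclic subgroup of order (q⁴ − q² + 1)(q² + q + 1)/gcd(3, q − 1) which is its own centralizer. -/
theorem result {F : Type*} [Field F] [Fintype F] (q : ℕ) (hF : Fintype.card F = q) :
    ∃ H : Subgroup ↥(Cfsg.Lie.chevE6.group F), IsCyclic ↥H ∧ Nat.card ↥H = (q ^ 4 - q ^ 2 + 1) * (q ^ 2 + q + 1) / Nat.gcd 3 (q - 1) ∧
      Subgroup.centralizer (H : Set ↥(Cfsg.Lie.chevE6.group F)) = H := by
  classical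
  subst hF
  set q := Fintype.card F with hF
  have hq : 2 ≤ q := Fintype.one_lt_card
  obtain ⟨p, hp⟩ := CharP.exists F
  haveI := hp
  haveI : Fact p.Prime := ⟨CharP.char_is_prime F p⟩
  let L := FiniteField.Extension F p 12
  haveI : Fintype L := Fintype.ofFinite _
  set T := q ^ 4 - q ^ 2 + 1 with hT
  have hq4 : q ^ 2 < q ^ 4 := Nat.pow_lt_pow_right (by omega) (by norm_num)
  have hTc : (T : ℤ) = (q : ℤ) ^ 4 - (q : ℤ) ^ 2 + 1 := by
    rw [hT, Nat.cast_add, Nat.cast_sub hq4.le]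
    push_cast
    ring
  have hr : T.minFac.Prime := Nat.minFac_prime (by omega)
  set r := T.minFac
  haveI : Fact r.Prime := ⟨hr⟩
  have hrz : (q : ZMod r) ^ 4 - (q : ZMod r) ^ 2 + 1 = 0 := by
    have h1 : ((T : ℤ) : ZMod r) = 0 := by
      rw [Int.cast_natCast, ZMod.natCast_eq_zero_iff]
      exact Nat.minFac_dvd T
    rw [hTc] at h1
    push_cast at h1
    exact h1
  have hr5 : ¬ r ∣ 12 := fun h => no_small r q hr h hrz
  haveI : NeZero ((12 : ℕ) : ZMod r) := ⟨fun e => hr5 ((ZMod.natCast_eq_zero_iff _ _).1 e)⟩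
  have hprim : IsPrimitiveRoot (q : ZMod r) 12 := by
    rw [← Polynomial.isRoot_cyclotomic_iff, ← Polynomial.map_cyclotomic_int 12 (ZMod r),
      Chev.CyclTorus.cyclotomic_twelve, Polynomial.IsRoot]
    simpa using hrz
  have hq0 : (q : ZMod r) ≠ 0 := hprim.ne_zero (by norm_num)
  have hr12 : 12 < r := by
    have h1 := Nat.le_of_dvd (by have := hr.two_le; omega) (hprim.eq_orderOf ▸ ZMod.orderOf_dvd_card_sub_one hq0)
    omega
  have hL : Fintype.card L = q ^ 12 := by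
    rw [← Nat.card_eq_fintype_card, FiniteField.natCard_extension, Nat.card_eq_fintype_card]
  have hg : ((List.range Chev.E6.pk.rank).map fun k =>
      (q - 1).gcd (([-1, -1, -1, -1, -1, -3] : List ℤ).getD k 0).natAbs).prod = Nat.gcd 3 (q - 1) := by
    rw [show Chev.E6.pk.rank = 6 from rfl]
    simp [List.range_succ, Nat.gcd_comm (q - 1)]
  refine Exists.elim (Chev.CyclTorus.exists_torus_sc
    (⟨Chev.E6.ok, Chev.ckComm_E6, Chev.CT.UpE6.up_ok, Chev.CT.UpE6.eta_sim⟩ : Chev.CT.Full Cfsg.Lie.chevE6 Chev.E6.pk)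
    (L := L) ⟨Chev.CT.MinE6.rootOk, Chev.CT.MinE6.torOk⟩ Chev.CT.MinE6.wtOk rfl (algebraMap F L)
    (J := [5, 4, 3, 2, 1, 0]) (by decide) Chev.ckOrb_E6 Chev.poinP_E6 rfl Chev.smith_E6 hF.symm hL
    (by norm_num) P_dvd ?_ (by decide +kernel) (d0 := 12) (by decide) dvd_rfl hprim ?_ ?_ ?_
    (fun l hl e he0 he => Chev.CyclTorus.key_E6 hr12 hprim l hl e he0 he) ?_) ?_
  · rw [Polynomial.mul_coeff_zero, Polynomial.cyclotomic_coeff_zero ℤ (by norm_num : 1 < 12),
      Polynomial.cyclotomic_coeff_zero ℤ (by norm_num : 1 < 3)]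
    norm_num
  · rw [show Chev.E6.pk.rank = 6 from rfl]
    omega
  · rw [hg]
    intro h
    have := Nat.le_of_dvd (by norm_num) (h.trans (Nat.gcd_dvd_left 3 (q - 1)))
    omega
  · intro h
    rw [Chev.poinP_E6, show Chev.pev 1 (Chev.pgeom [2, 5, 6, 8, 9, 12]) = 2 ^ 7 * 3 ^ 4 * 5 by decide +kernel] at h
    rcases hr.dvd_mul.1 h with e | e
    · rcases hr.dvd_mul.1 e with e | e <;> have := Nat.le_of_dvd (by norm_num) (hr.dvd_of_dvd_pow e) <;> omega
    · have := Nat.le_of_dvd (by norm_num) e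
      omega
  · intro s hs h12 hsA
    have h1 : 1 ≤ q ^ 12 := Nat.one_le_pow _ _ (by omega)
    rw [← ZMod.natCast_eq_zero_iff, Nat.cast_sub h1, sub_eq_zero, Nat.cast_pow, Nat.cast_one] at hsA
    refine ⟨((q % s : ℕ) : ℤ), by rw [Int.cast_natCast, ZMod.natCast_mod], ?_⟩
    have hlt := Nat.mod_lt q hs.pos
    have hne : q % s ≠ 0 := fun e => by
      haveI := Fact.mk hs
      rw [← ZMod.natCast_mod, e, Nat.cast_zero, zero_pow (by norm_num)] at hsA
      exact zero_ne_one hsA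
    rw [eval_P]
    generalize q % s = a at hlt hne ⊢
    have hle : s ≤ 12 := Nat.le_of_dvd (by norm_num) h12
    interval_cases s <;> first | (norm_num at hs; done) | (norm_num at h12; done) | (interval_cases a <;> norm_num)
  · rintro H ⟨h1, h2, h3⟩
    refine ⟨H, h1, ?_, h3⟩
    rw [hg, eval_P] at h2
    have hN : ((q : ℤ) ^ 4 - (q : ℤ) ^ 2 + 1) * ((q : ℤ) ^ 2 + q + 1) = ((T * (q ^ 2 + q + 1) : ℕ) : ℤ) := by
      push_cast
      rw [hTc]
    rw [hN, Int.natAbs_natCast] at h2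
    rw [← h2, Nat.mul_div_cancel _ (Nat.gcd_pos_of_pos_left _ (by norm_num))]

end Cfsg.Agent.S2373
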