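import Cfsg.Statements.S2374
import Cfsg.Agent.Lib.Chev.CyclTorus.E7Lin
import Cfsg.Agent.Lib.Chev.CyclTorus.E7Twist
import Cfsg.Agent.Lib.Chev.AllW
import Cfsg.Agent.Lib.Chev.AllW7

set_option autoImplicit false
open Cfsg

namespace Cfsg.Agent.S2374
open Cfsg.Agent Cfsg.Agent.Chev Cfsg.Agent.Chev.CyclTorus

attribute [local irreducible] V1 embL

open Polynomial in
theorem eval_P (a : ℤ) : (cyclotomic 12 ℤ * cyclotomic 6 ℤ * cyclotomic 2 ℤ).eval a =
    (a ^ 4 - a ^ 2 + 1) * (a ^ 3 + 1) := by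
  rw [cyclotomic_twelve, cyclotomic_six, cyclotomic_two]
  simp only [eval_mul, eval_add, eval_sub, eval_pow, eval_X, eval_one]
  ring

theorem P_dvd : (Polynomial.cyclotomic 12 ℤ * Polynomial.cyclotomic 6 ℤ * Polynomial.cyclotomic 2 ℤ) ∣
    Polynomial.X ^ 12 - 1 := by
  rw [← Polynomial.prod_cyclotomic_eq_X_pow_sub_one (by norm_num : 0 < 12), mul_assoc,
    ← Finset.prod_pair (by norm_num : (6 : ℕ) ≠ 2) (f := fun i => Polynomial.cyclotomic i ℤ),
    ← Finset.prod_insert (by decide : (12 : ℕ) ∉ ({6, 2} : Finset ℕ)) (f := fun i => Polynomial.cyclotomic i ℤ)]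
  exact Finset.prod_dvd_prod_of_subset _ _ _ (by decide)

theorem no_small (n q : ℕ) (hn : n.Prime) (h : n ∣ 12) : (q : ZMod n) ^ 4 - (q : ZMod n) ^ 2 + 1 ≠ 0 := by
  have hle : n ≤ 12 := Nat.le_of_dvd (by norm_num) h
  generalize (q : ZMod n) = x
  revert x hn h
  interval_cases n <;> intro hn h <;> first | (norm_num at hn; done) | (norm_num at h; done) | decide

theorem two_cases : ∀ z : ZMod 2, z ≠ 0 → z = 1 := by decide

theorem three_cases : ∀ z : ZMod 3, z ≠ 0 → z = 1 ∨ z = -1 := by decide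

/-- The six values at the killed roots. -/
def six (q : ℤ) : Fin 6 → ℤ := ![2, 2 * q, 2 * q ^ 2, -2, -(2 * q), -(2 * q ^ 2)]

theorem six_inj {q : ℤ} (hq : 2 ≤ q) {i j : Fin 6} (h : q ^ 3 + 1 ∣ six q i - six q j) : i = j := by
  rcases lt_or_ge q 4 with h4 | h4
  · interval_cases q <;> fin_cases i <;> fin_cases j <;> simp [six] at h ⊢ <;> norm_num at h
  · have hb : ∀ k, -(2 * q ^ 2) ≤ six q k ∧ six q k ≤ 2 * q ^ 2 := by
      intro k
      fin_cases k <;> simp [six, abs_of_pos (show (0 : ℤ) < q by linarith)] <;> (try constructor) <;> nlinarith [mul_le_mul hq hq (by norm_num : (0 : ℤ) ≤ 2) (by linarith : (0 : ℤ) ≤ q)]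
    have h0 : six q i - six q j = 0 := by
      refine Int.eq_zero_of_abs_lt_dvd h ?_
      rw [abs_lt]
      constructor <;> nlinarith [hb i, hb j]
    fin_cases i <;> fin_cases j <;> simp [six] at h0 ⊢ <;> nlinarith

theorem six_ne {q : ℤ} (hq : 2 ≤ q) (i : Fin 6) : ¬ q ^ 3 + 1 ∣ six q i := by
  intro h
  have e : six q i - six q (i + 3) = 2 * six q i := by
    fin_cases i <;> simp [six] <;> ring
  have := six_inj hq (e ▸ h.mul_left 2)
  revert this
  fin_cases i <;> decide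

theorem cC_ng {R : Type*} [CommRing R] (x : Fin E7.pk.rank → R) {b : ℕ} (hb : b < E7.pk.nroots) :
    cC x (E7.pk.ng b) = -cC x b := by
  rw [cC_dot _ (Ok.ng_lt hb), cC_dot _ hb, dot_ng E7.ok _ hb]

theorem cC_smul' {R : Type*} [CommRing R] (a : R) (x : Fin E7.pk.rank → R) (b : ℕ) :
    cC (a • x) b = a * cC x b := cC_smul a x b

theorem hchar_cofx {L : Type*} [Field L] {A : ℕ} (Z : Multiplicative (ZMod A) →* Lˣ)
    (x : Fin E7.pk.rank → ZMod A) (s : ℕ) :
    hchar E7.pk (cofx Z x) s = (Z (Multiplicative.ofAdd (cC x s)) : L) := by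
  rw [← coe_prod_zpow, cC, ofAdd_sum, map_prod]
  congr 1
  refine Finset.prod_congr rfl fun i _ => ?_
  rw [cofx, ← map_zpow, ← ofAdd_zsmul, zsmul_eq_mul, mul_comm]

/-- Transfer of exponents. -/
theorem exists_eta {A r : ℕ} [NeZero A] (h : r ∣ A) : ∃ η : ZMod r →+ ZMod A, Function.Injective η := by
  obtain ⟨B, hB⟩ := h
  let η : ZMod r →+ ZMod A := ZMod.lift r ⟨(Int.castAddHom (ZMod A)).comp (AddMonoidHom.mulLeft (B : ℤ)), by
    show (((B : ℤ) * (r : ℤ) : ℤ) : ZMod A) = 0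
    rw [ZMod.intCast_zmod_eq_zero_iff_dvd, hB]
    exact ⟨1, by push_cast; ring⟩⟩
  have hη : ∀ z : ℤ, η (z : ZMod r) = ((B * z : ℤ) : ZMod A) := fun z => by simp [η]
  have hB0 : B ≠ 0 := fun e => NeZero.ne A (by rw [hB, e, mul_zero])
  refine ⟨η, (injective_iff_map_eq_zero _).2 fun v hv => ?_⟩
  obtain ⟨z, rfl⟩ := ZMod.intCast_surjective v
  rw [hη, ZMod.intCast_zmod_eq_zero_iff_dvd, hB, Nat.cast_mul, mul_comm (r : ℤ)] at hv
  rw [ZMod.intCast_zmod_eq_zero_iff_dvd]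
  exact (mul_dvd_mul_iff_left (by exact_mod_cast hB0)).1 hv

theorem eta_int {A r : ℕ} (η : ZMod r →+ ZMod A) (n : ℤ) (v : ZMod r) :
    η ((n : ZMod r) * v) = (n : ZMod A) * η v := by
  rw [← zsmul_eq_mul, map_zsmul, zsmul_eq_mul]

theorem eta_mulVec {A r : ℕ} (η : ZMod r →+ ZMod A) (M : Matrix (Fin E7.pk.rank) (Fin E7.pk.rank) ℤ)
    (v : Fin E7.pk.rank → ZMod r) :
    (M.map (Int.castRingHom (ZMod A))).mulVec (η ∘ v) = η ∘ (M.map (Int.castRingHom (ZMod r))).mulVec v := by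
  funext k
  simp only [Matrix.mulVec, dotProduct, Function.comp_apply, map_sum, Matrix.map_apply, eq_intCast, eta_int]

theorem eta_cC {A r : ℕ} (η : ZMod r →+ ZMod A) (v : Fin E7.pk.rank → ZMod r) (b : ℕ) :
    cC (η ∘ v) b = η (cC v b) := by
  simp only [cC, map_sum, Function.comp_apply]
  refine Finset.sum_congr rfl fun j _ => ?_
  rw [mul_comm (v j), eta_int, mul_comm]

theorem RM_append (a b : List ℕ) : RM E7.pk (a ++ b) = RM E7.pk a * RM E7.pk b := by
  simp [RM, List.map_append, List.prod_append]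

/-- The kernel modulo three is small. -/
theorem card_three {q : ℕ} (hq : (q : ZMod 3) = -1) {l : List ℕ} (hl : WordOk E6.pk l)
    (hchp : (WM E6.pk l).charpoly = Polynomial.cyclotomic 12 ℤ * Polynomial.cyclotomic 3 ℤ) {b : List ℕ} {i a : ℕ}
    (hb : WordOk E7.pk b) (hi : i < E7.pk.rank) (hbi : wl E7.pk b (E7.pk.sim i) = a) :
    Nat.card {x : Fin E7.pk.rank → ZMod 3 // ((RM E7.pk (b ++ [i] ++ b.reverse ++ l).reverse - (q : ℤ) • 1).map
      (Int.castRingHom (ZMod 3))).mulVec x = 0} ≤ 3 := by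
  have key : ((-1 : ZMod 3) ^ 4 - (-1) ^ 2 + 1) * ((-1) ^ 2 + -1 + 1) * (-1 - 1) ≠ 0 := fun e =>
    absurd e (by decide)
  haveI : Fact (Nat.Prime 3) := ⟨Nat.prime_three⟩
  have hlr : WordOk E6.pk l.reverse := fun x hx => hl x (List.mem_reverse.1 hx)
  have hrev : (b ++ [i] ++ b.reverse ++ l).reverse = l.reverse ++ (b ++ [i] ++ b.reverse) := by simp
  set R := RM E7.pk l.reverse with hR
  set φ3 := Int.castRingHom (ZMod 3)
  have hker : ∀ x : Fin E7.pk.rank → ZMod 3,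
      ((RM E7.pk (b ++ [i] ++ b.reverse ++ l).reverse - (q : ℤ) • 1).map φ3).mulVec x = 0 →
      (R.map φ3).mulVec (fun k => x k - cC x a * rvz (ZMod 3) a k) = -x := by
    intro x hx
    rw [hrev, RM_append, Matrix.map_sub _ (map_sub _), Matrix.sub_mulVec, sub_eq_zero, Matrix.map_mul,
      ← Matrix.mulVec_mulVec, RM_refl hb hi hbi] at hx
    rw [hx]
    funext k
    rw [Matrix.smul_one_eq_diagonal, Matrix.diagonal_map (map_zero _), Matrix.mulVec_diagonal]
    simp [φ3, hq]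
  refine le_trans (Nat.card_le_card_of_injective (fun x => cC x.1 a) fun x y e => Subtype.ext ?_)
    (le_of_eq (Nat.card_zmod 3))
  have hz : (R.map φ3).mulVec (x.1 - y.1) = (-1 : ZMod 3) • (x.1 - y.1) := by
    have ex := hker _ x.2
    have ey := hker _ y.2
    have e' : (x.1 - y.1) = (fun k => x.1 k - cC x.1 a * rvz (ZMod 3) a k) -
        (fun k => y.1 k - cC y.1 a * rvz (ZMod 3) a k) := by
      funext k
      simp only [Pi.sub_apply, show cC x.1 a = cC y.1 a from e]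
      ring
    conv_lhs => rw [e', Matrix.mulVec_sub, ex, ey]
    funext k
    simp only [Pi.sub_apply, Pi.neg_apply, Pi.smul_apply, smul_eq_mul]
    ring
  have h := aeval_mulVec R hz R.charpoly
  rw [Matrix.aeval_self_charpoly, Matrix.map_zero _ (map_zero _), Matrix.zero_mulVec, eq_comm, smul_eq_zero] at h
  refine sub_eq_zero.1 (h.resolve_left ?_)
  rw [hR, charpoly_RM7 hlr, RM_charpoly E6.ok hB6 hl, hchp, cyclotomic_twelve, Polynomial.cyclotomic_three]
  simp only [Polynomial.map_mul, Polynomial.map_add, Polynomial.map_sub, Polynomial.map_pow, Polynomial.map_X,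
    Polynomial.map_one, Polynomial.eval_mul, Polynomial.eval_add, Polynomial.eval_sub, Polynomial.eval_pow,
    Polynomial.eval_X, Polynomial.eval_one]
  exact key

/-- The group E₇(q) (the simple Chevalley group of type E₇) contains a cyclic subgroup of order (q⁴ − q² + 1)(q³ + 1)/gcd(2, q − 1) which is its own centralizer. -/
theorem result {F : Type*} [Field F] [Fintype F] (q : ℕ) (hF : Fintype.card F = q) :
    ∃ H : Subgroup ↥(Cfsg.Lie.chevE7.group F), IsCyclic ↥H ∧ Nat.card ↥H = (q ^ 4 - q ^ 2 + 1) * (q ^ 3 + 1) / Nat.gcd 2 (q - 1) ∧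
      Subgroup.centralizer (H : Set ↥(Cfsg.Lie.chevE7.group F)) = H := by
  classical
  subst hF
  set q := Fintype.card F with hF
  have hq : 2 ≤ q := Fintype.one_lt_card
  obtain ⟨p, hp⟩ := CharP.exists F
  haveI := hp
  haveI : Fact p.Prime := ⟨CharP.char_is_prime F p⟩
  let L := FiniteField.Extension F p 12
  haveI : Fintype L := Fintype.ofFinite _
  set T := q ^ 4 - q ^ 2 + 1 with hT
  have hq4 : q ^ 2 < q ^ 4 := Nat.pow_lt_pow_right (by omega) (by norm_num)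
  have hTc : (T : ℤ) = (q : ℤ) ^ 4 - (q : ℤ) ^ 2 + 1 := by
    rw [hT, Nat.cast_add, Nat.cast_sub hq4.le]
    push_cast
    ring
  have hr : T.minFac.Prime := Nat.minFac_prime (by omega)
  set r := T.minFac
  haveI : Fact r.Prime := ⟨hr⟩
  have hrz : (q : ZMod r) ^ 4 - (q : ZMod r) ^ 2 + 1 = 0 := by
    have h1 : ((T : ℤ) : ZMod r) = 0 := by
      rw [Int.cast_natCast, ZMod.natCast_eq_zero_iff]
      exact Nat.minFac_dvd T
    rw [hTc] at h1
    push_cast at h1
    exact h1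
  have hr5 : ¬ r ∣ 12 := fun h => no_small r q hr h hrz
  haveI : NeZero ((12 : ℕ) : ZMod r) := ⟨fun e => hr5 ((ZMod.natCast_eq_zero_iff _ _).1 e)⟩
  have hprim : IsPrimitiveRoot (q : ZMod r) 12 := by
    rw [← Polynomial.isRoot_cyclotomic_iff, ← Polynomial.map_cyclotomic_int 12 (ZMod r),
      cyclotomic_twelve, Polynomial.IsRoot]
    simpa using hrz
  have hq0 : (q : ZMod r) ≠ 0 := hprim.ne_zero (by norm_num)
  have hr12 : 12 < r := by
    have h1 := Nat.le_of_dvd (by have := hr.two_le; omega) (hprim.eq_orderOf ▸ ZMod.orderOf_dvd_card_sub_one hq0)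
    omega
  have hL : Fintype.card L = q ^ 12 := by
    rw [← Nat.card_eq_fintype_card, FiniteField.natCard_extension, Nat.card_eq_fintype_card]
  have hg6 : ((List.range E6.pk.rank).map fun k =>
      (q - 1).gcd (([-1, -1, -1, -1, -1, -3] : List ℤ).getD k 0).natAbs).prod = Nat.gcd 3 (q - 1) := by
    rw [show E6.pk.rank = 6 from rfl]
    simp [List.range_succ, Nat.gcd_comm (q - 1)]
  have hg7 : ((List.range E7.pk.rank).map fun k =>
      (q - 1).gcd (([-1, -1, -1, -1, -1, -1, -2] : List ℤ).getD k 0).natAbs).prod = Nat.gcd 2 (q - 1) := by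
    rw [show E7.pk.rank = 7 from rfl]
    simp [List.range_succ, Nat.gcd_comm (q - 1)]
  set A := q ^ 12 - 1 with hA
  have hA2 : 2 ≤ q ^ 12 := le_trans hq (Nat.le_self_pow (by norm_num) q)
  haveI : NeZero A := ⟨by omega⟩
  obtain ⟨Z, hZ⟩ : ∃ Z : Multiplicative (ZMod A) →* Lˣ, Function.Bijective Z := by
    rw [hA, ← hL, ← Fintype.card_units, ← Nat.card_eq_fintype_card]
    exact ⟨(zmodCyclicMulEquiv inferInstance).toMonoidHom, (zmodCyclicMulEquiv inferInstance).bijective⟩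
  have hZ0 : ∀ z : ZMod A, ((Z (Multiplicative.ofAdd z) : Lˣ) : L) = 1 → z = 0 := fun z e =>
    Multiplicative.ofAdd.injective ((hZ.1 ((Units.ext e : Z (Multiplicative.ofAdd z) = 1).trans (map_one Z).symm)).trans
      ofAdd_zero.symm)
  obtain ⟨σ, hσ⟩ : ∃ σ : L →+* L, ∀ x, σ x = x ^ q := by
    haveI : CharP L p := charP_of_injective_algebraMap (algebraMap F L).injective p
    obtain ⟨k, -, hk⟩ := FiniteField.card F p
    exact ⟨iterateFrobenius L p k, fun x => by rw [iterateFrobenius_def, ← hk]⟩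
  -- the torus of E6
  obtain ⟨τ6, hτ6⟩ := exists_stMap full6 σ
  obtain ⟨f6, hfi6, hfr6, hfT6, hfθ6, hfs6⟩ :=
    exists_tor (K := L) full6 ⟨CT.MinE6.rootOk, CT.MinE6.torOk⟩ CT.MinE6.wtOk rfl
  obtain ⟨yl, l, cd', e, hl, hcd', he0, heig, hchp, hreg⟩ := exists_twist full6 (algebraMap F L)
    (J := [5, 4, 3, 2, 1, 0]) (by decide) ckOrb_E6 poinP_E6 rfl smith_E6 hF.symm hL (by norm_num)
    (P0 := Polynomial.cyclotomic 12 ℤ * Polynomial.cyclotomic 3 ℤ)
    (by
      rw [Polynomial.mul_coeff_zero, Polynomial.cyclotomic_coeff_zero ℤ (by norm_num : 1 < 12),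
        Polynomial.cyclotomic_coeff_zero ℤ (by norm_num : 1 < 3)]
      norm_num)
    (d0 := 12) (by decide) dvd_rfl hprim
    (by rw [show E6.pk.rank = 6 from rfl]; omega)
    (by
      rw [hg6]
      intro h
      have := Nat.le_of_dvd (by norm_num) (h.trans (Nat.gcd_dvd_left 3 (q - 1)))
      omega)
    (by
      intro h
      rw [poinP_E6, show pev 1 (pgeom [2, 5, 6, 8, 9, 12]) = 2 ^ 7 * 3 ^ 4 * 5 by decide +kernel] at h
      rcases hr.dvd_mul.1 h with e | e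
      · rcases hr.dvd_mul.1 e with e | e <;> have := Nat.le_of_dvd (by norm_num) (hr.dvd_of_dvd_pow e) <;> omega
      · have := Nat.le_of_dvd (by norm_num) e
        omega)
    (fun l hl e he0 he => key_E6 hr12 hprim l hl e he0 he) hσ hτ6 hfr6 hfθ6
  obtain ⟨φ, hφ⟩ := exists_emb (L := L)
  have hl7 := word67 hl
  obtain ⟨cd, hcd⟩ := E7.ok.mem_diagonal_iff.1 (emb_tor hφ (hfT6 cd'))
  have hrel : (φ yl)⁻¹ * gmap Cfsg.Lie.chevE7 σ (φ yl) = E7.ok.hHom cd * E7.ok.nW l := by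
    rw [← emb_map hφ hτ6, ← map_inv, ← map_mul, hcd', map_mul, emb_nWC hφ hl, hcd]
  -- the eigenvector
  set cr := Int.castRingHom (ZMod r) with hcr
  have hdet : IsUnit ((Bm E6.pk).map cr).det := by
    rw [← RingHom.mapMatrix_apply, ← RingHom.map_det, det_Bm6, isUnit_iff_ne_zero, hcr, eq_intCast, ne_eq,
      ZMod.intCast_zmod_eq_zero_iff_dvd]
    intro h
    have := Int.le_of_dvd (by norm_num) h
    omega
  set u := ((Bm E6.pk).map cr)⁻¹.mulVec e with hu
  have hBu : ((Bm E6.pk).map cr).mulVec u = e := by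
    rw [hu, Matrix.mulVec_mulVec, Matrix.mul_nonsing_inv _ hdet, Matrix.one_mulVec]
  have hlr : WordOk E6.pk l.reverse := fun x hx => hl x (List.mem_reverse.1 hx)
  have hRu : ((RM E6.pk l).map cr).mulVec ((q : ZMod r) • u) = u := by
    have h1 : ((RM E6.pk l.reverse).map cr).mulVec u = (q : ZMod r) • u := by
      refine Matrix.mulVec_injective_iff_isUnit.2 ((Matrix.isUnit_iff_isUnit_det _).2 hdet) ?_
      rw [Matrix.mulVec_smul, hBu, Matrix.mulVec_mulVec, ← Matrix.map_mul, Bm_RM E6.ok hl, Matrix.map_mul,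
        ← Matrix.mulVec_mulVec, hBu]
      exact heig
    rw [← h1, Matrix.mulVec_mulVec, ← Matrix.map_mul, mul_eq_one_comm.1 (RM_inverse E6.ok hB6 hl),
      Matrix.map_one _ (map_zero _) (map_one _), Matrix.one_mulVec]
  set u7 := pad u with hu7
  have hu7x : ((RM E7.pk l).map cr).mulVec ((q : ZMod r) • u7) = u7 := by
    rw [Matrix.mulVec_smul, hu7, hcr, RM_pad hl, ← hcr]
    have e1 := hRu
    rw [Matrix.mulVec_smul] at e1
    conv_rhs => rw [← e1]
    funext k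
    rcases index_cases k with ⟨k', rfl⟩ | hk
    · simp [pad_up6]
    · simp [pad_top _ hk]
  have hrA : r ∣ A := by
    rw [hA, ← ZMod.natCast_eq_zero_iff, Nat.cast_sub (by omega), Nat.cast_pow, hprim.pow_eq_one, Nat.cast_one,
      sub_self]
  obtain ⟨η, hη⟩ := exists_eta hrA
  have hη0 : ∀ {z : ZMod r}, η z = 0 → z = 0 := fun hz => hη (hz.trans (map_zero η).symm)
  set π := Int.castRingHom (ZMod A) with hπ
  set x1 : Fin E7.pk.rank → ZMod A := η ∘ u7 with hx1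
  have hx1q : ((RM E7.pk l).map π).mulVec ((q : ZMod A) • x1) = x1 := by
    have e1 : (q : ZMod A) • x1 = η ∘ ((q : ZMod r) • u7) := by
      funext k
      simp only [hx1, Pi.smul_apply, Function.comp_apply, smul_eq_mul]
      simpa using (eta_int η (q : ℤ) (u7 k)).symm
    rw [e1, hπ, eta_mulVec, ← hcr, hu7x]
  have hrx : ∀ k, (r : ZMod A) * x1 k = 0 := fun k => by
    have e1 := eta_int η (r : ℤ) (u7 k)
    simp only [Int.cast_natCast, ZMod.natCast_self, zero_mul, map_zero] at e1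
    exact e1.symm
  have hreg1 : ∀ s < E6.pk.nroots, cC x1 (emb s) ≠ 0 := fun s hs h0 => by
    rw [hx1, eta_cC, hu7, cC_pad u hs, ← hcr, hBu] at h0
    exact hreg s hs (hη0 h0)
  obtain ⟨a, haV, h1V, h2V, h3, o1, o2, o3, hCa, huniq⟩ :=
    exists_killed hprim hB7 hl hchp (x := x1) hx1q hrx hreg1
  obtain ⟨b, i, hb, hi, hbi⟩ := exists_conj_sim E7.ok (mem_V1.1 haV).1
  obtain ⟨y', hy', cd2, hrel'⟩ := exists_reflect_twist hq hL hσ (emb_range hφ yl) hl7 hrel haV hb hi hbi h3 h1V h2V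
    o1 o2
  set w := b ++ [i] ++ b.reverse ++ l with hw
  have hwok : WordOk E7.pk w := fun x hx => by
    simp only [hw, List.mem_append, List.mem_reverse, List.mem_singleton] at hx
    rcases hx with ((hx | hx) | hx) | hx
    exacts [hb x hx, hx ▸ hi, hb x hx, hl7 x hx]
  -- the lift
  obtain ⟨τ7, hτ7⟩ := exists_stMap full7 σ
  obtain ⟨f7, hfi7, hfr7, hfT7, hfθ7, hfs7⟩ :=
    exists_tor (K := L) full7 ⟨CT.MinE7.rootOk, CT.MinE7.torOk⟩ CT.MinE7.wtOk rfl
  obtain ⟨yl7, hyl7⟩ : ∃ v, CT.thSt L full7 v = y' := by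
    rw [show Cfsg.Lie.chevE7.group L = (CT.thSt L full7).range from (CT.thSt_range full7).symm] at hy'
    exact hy'
  obtain ⟨cd7, hcd7⟩ : ∃ cd7, yl7⁻¹ * τ7 yl7 = f7 cd7 * CT.nWC E7.pk (Cfsg.Lie.chevE7.stGen L) w := by
    have Hc := CT.cov_St (K := L) full7
    have e1 : CT.thSt L full7 ((f7 cd2)⁻¹ * (yl7⁻¹ * τ7 yl7) * (CT.nWC E7.pk (Cfsg.Lie.chevE7.stGen L) w)⁻¹) = 1 := by
      rw [map_mul, map_mul, map_inv, map_inv, map_mul, map_inv, map_thSt full7 hτ7, hyl7, hfθ7,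
        CT.img_nWC Hc w hwok, hrel']
      group
    obtain ⟨hzT, -⟩ := CT.ker_spec Hc e1
    obtain ⟨cz, hcz⟩ := hfr7 hzT
    exact ⟨cd2 * cz, by rw [map_mul, hcz]; group⟩
  have hchp7 := charpoly_twist hl hchp hb hi hbi haV h3 o1 o2
  -- the regular fixed element
  set a1 := wl E7.pk l a with ha1
  set a2 := wl E7.pk l a1 with ha2
  have hlt : ∀ {c : ℕ}, c ∈ V1 → c < E7.pk.nroots := fun hc => (mem_V1.1 hc).1
  have hself : ∀ c ∈ V1, pr c c = 2 := fun c hc => by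
    have h2 := List.all_eq_true.1 ckSelf c hc
    simp only [Bool.and_eq_true, decide_eq_true_eq] at h2
    exact h2.1
  have horth : ∀ c d : ℕ, c ∈ V1 → d ∈ V1 → orB c d = true → pr c d = 0 ∧ pr d c = 0 ∧ c ≠ d := fun c d hc hd ho => by
    have hs := List.all_eq_true.1 (List.all_eq_true.1 ckPrSymm c hc) d hd
    simp only [decide_eq_true_eq] at hs
    simp only [orB, Bool.and_eq_true, decide_eq_true_eq, Bool.not_eq_true'] at ho
    exact ⟨ho.2, hs ▸ ho.2, fun e => by simp [e] at ho⟩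
  obtain ⟨p01, p10, n01⟩ := horth a a1 haV h1V o1
  obtain ⟨p02, p20, n02⟩ := horth a a2 haV h2V o2
  obtain ⟨p12, p21, n12⟩ := horth a1 a2 h1V h2V o3
  obtain ⟨B, hB⟩ : (q ^ 3 + 1) ∣ A := by
    have e1 : (q ^ 3 + 1) * ((q ^ 3 - 1) * (q ^ 6 + 1)) = A := by
      have h1 : 1 ≤ q ^ 3 := Nat.one_le_pow _ _ (by omega)
      rw [hA]
      zify [h1, (show 1 ≤ q ^ 12 by omega)]
      ring
    exact ⟨_, e1.symm⟩
  set c : ZMod A := (B : ZMod A) with hc
  have hcz : ∀ n : ℤ, c * (n : ZMod A) = 0 → (q : ℤ) ^ 3 + 1 ∣ n := fun n hn => by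
    rw [hc, ← Int.cast_natCast B, ← Int.cast_mul, ZMod.intCast_zmod_eq_zero_iff_dvd, hB] at hn
    push_cast at hn
    rw [mul_comm ((q : ℤ) ^ 3 + 1)] at hn
    exact (mul_dvd_mul_iff_left (by
      have : B ≠ 0 := fun e => NeZero.ne A (by rw [hB, e, mul_zero])
      exact_mod_cast this)).1 hn
  have hc3 : c * ((q : ZMod A) ^ 3 + 1) = 0 := by
    have e1 : ((((q ^ 3 + 1) * B : ℕ)) : ZMod A) = 0 := by rw [← hB, ZMod.natCast_self]
    push_cast at e1
    rw [mul_comm]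
    exact e1
  set x2 : Fin E7.pk.rank → ZMod A := c • (rvz (ZMod A) a + (q : ZMod A) • rvz (ZMod A) a1 +
    ((q : ZMod A) ^ 2) • rvz (ZMod A) a2) with hx2
  have hC2 : ∀ β, cC x2 β = c * ((pr β a + (q : ℤ) * pr β a1 + (q : ℤ) ^ 2 * pr β a2 : ℤ) : ZMod A) := fun β => by
    simp only [hx2, cC_smul', cC_add, cC_rvz]
    push_cast
    ring
  set x0 := x1 + x2 with hx0d
  have hx0 : ((RM E7.pk w).map π).mulVec (fun k => (q : ZMod A) * x0 k) = x0 := by
    have hRv : ∀ d < E7.pk.nroots, ((RM E7.pk l).map π).mulVec (rvz (ZMod A) d) = rvz (ZMod A) (wl E7.pk l d) :=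
      fun d hd => RM_rv hl7 d hd
    have hv : ((RM E7.pk l).map π).mulVec ((q : ZMod A) • x2) = c • ((q : ZMod A) • rvz (ZMod A) a1 +
        ((q : ZMod A) ^ 2) • rvz (ZMod A) a2 + ((q : ZMod A) ^ 3) • rvz (ZMod A) a) := by
      simp only [hx2, Matrix.mulVec_smul, Matrix.mulVec_add, hRv _ (hlt haV), hRv _ (hlt h1V), hRv _ (hlt h2V),
        ← ha1, ← ha2, h3]
      funext k
      simp only [Pi.add_apply, Pi.smul_apply, smul_eq_mul]
      ring
    rw [show (fun k => (q : ZMod A) * x0 k) = (q : ZMod A) • x1 + (q : ZMod A) • x2 by rw [← smul_add]; rfl,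
      hw, RM_append, Matrix.map_mul, ← Matrix.mulVec_mulVec, Matrix.mulVec_add, hx1q, hv, hπ, RM_refl hb hi hbi]
    funext k
    simp only [cC_add, cC_smul', cC_rvz, hCa, p01, p02, hself a haV, Pi.add_apply, Pi.smul_apply, smul_eq_mul,
      Int.cast_zero, hx0d, hx2]
    push_cast
    linear_combination (-(rvz (ZMod A) a k)) * hc3
  -- the values at the roots
  have hC1r : ∀ β, (r : ZMod A) * cC x1 β = 0 := fun β => by
    rw [← cC_smul, show (fun k => (r : ZMod A) * x1 k) = fun _ => 0 from funext hrx]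
    simp [cC]
  have hC2q : ∀ β, ((((q : ℤ) ^ 3 + 1 : ℤ)) : ZMod A) * cC x2 β = 0 := fun β => by
    rw [hC2]
    push_cast
    rw [← mul_assoc, mul_comm _ c, hc3, zero_mul]
  have hrn : ¬ (r : ℤ) ∣ (q : ℤ) ^ 3 + 1 := by
    rw [← ZMod.intCast_zmod_eq_zero_iff_dvd]
    push_cast
    intro h0
    have := hprim.eq_orderOf
    have h6 : (q : ZMod r) ^ 6 = 1 := by linear_combination ((q : ZMod r) ^ 3 - 1) * h0
    have := Nat.le_of_dvd (by norm_num) (orderOf_dvd_of_pow_eq_one h6)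
    omega
  have hsplit : ∀ β γ, cC x0 β = cC x0 γ → cC x1 β = cC x1 γ ∧ cC x2 β = cC x2 γ := fun β γ he => by
    simp only [hx0d, cC_add] at he
    have e1 : cC x1 β - cC x1 γ = 0 := by
      refine kill hr ?_ hrn ?_
      · rw [mul_sub, hC1r, hC1r, sub_self]
      · rw [show cC x1 β - cC x1 γ = cC x2 γ - cC x2 β by linear_combination he, mul_sub, hC2q, hC2q, sub_self]
    exact ⟨sub_eq_zero.1 e1, by linear_combination he - e1⟩
  set rt : Fin 6 → ℕ := ![a, a1, a2, E7.pk.ng a, E7.pk.ng a1, E7.pk.ng a2] with hrt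
  have hrt2 : ∀ j, cC x2 (rt j) = c * ((six (q : ℤ) j : ℤ) : ZMod A) := by
    have hp : ∀ d ∈ V1, cC x2 (E7.pk.ng d) = -cC x2 d := fun d hd => cC_ng _ (hlt hd)
    have e0 : cC x2 a = c * (2 : ZMod A) := by
      rw [hC2, p01, p02, hself a haV]; push_cast; ring
    have e1 : cC x2 a1 = c * (2 * (q : ZMod A)) := by
      rw [hC2, p10, p12, hself a1 h1V]; push_cast; ring
    have e2 : cC x2 a2 = c * (2 * (q : ZMod A) ^ 2) := by
      rw [hC2, p20, p21, hself a2 h2V]; push_cast; ring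
    intro j
    fin_cases j <;> simp [hrt, six, hp _ haV, hp _ h1V, hp _ h2V, e0, e1, e2]
  have hrt1 : ∀ j, rt j < E7.pk.nroots := by
    intro j
    fin_cases j <;> simp [hrt, hlt haV, hlt h1V, hlt h2V, Ok.ng_lt (hlt haV), Ok.ng_lt (hlt h1V), Ok.ng_lt (hlt h2V)]
  have hval : ∀ β < E7.pk.nroots, cC x1 β = 0 → ∃ j, rt j = β := by
    intro β hβ h0
    rcases root_cases hβ with ⟨s, hs, rfl⟩ | h | h
    · exact absurd h0 (hreg1 s hs)
    · rcases huniq β (mem_V1.2 ⟨hβ, h⟩) h0 with e | e | e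
      exacts [⟨0, e.symm⟩, ⟨1, e.symm⟩, ⟨2, e.symm⟩]
    · rcases huniq _ (mem_V1.2 ⟨Ok.ng_lt hβ, h⟩) (by rw [cC_ng _ hβ, h0, neg_zero]) with e | e | e
      · exact ⟨3, by show E7.pk.ng a = β; rw [← e, Ok.ng_ng hβ]⟩
      · exact ⟨4, by show E7.pk.ng a1 = β; rw [← e, Ok.ng_ng hβ]⟩
      · exact ⟨5, by show E7.pk.ng a2 = β; rw [← e, Ok.ng_ng hβ]⟩
  have hq2 : (2 : ℤ) ≤ (q : ℤ) := by exact_mod_cast hq
  have h1 : ∀ s < E7.pk.nroots, hchar E7.pk (cofx Z x0) s ≠ 1 := fun s hs e1 => by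
    rw [hchar_cofx] at e1
    have h0 := hZ0 _ e1
    have hz : cC x0 s = cC (0 : Fin E7.pk.rank → ZMod A) s := by rw [h0]; simp [cC]
    have e10 : cC x1 s = 0 := by
      refine kill hr (hC1r s) hrn ?_
      rw [show cC x1 s = -cC x2 s by rw [hx0d, cC_add] at h0; linear_combination h0, mul_neg, hC2q, neg_zero]
    obtain ⟨j, rfl⟩ := hval s hs e10
    refine six_ne hq2 j (hcz _ ?_)
    rw [← hrt2]
    rw [hx0d, cC_add, e10, zero_add] at h0
    exact h0
  have hst : ∀ l', WordOk E7.pk l' →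
      (∀ s < E7.pk.nroots, hchar E7.pk (cofx Z x0) (wl E7.pk l' s) = hchar E7.pk (cofx Z x0) s) →
      ∀ s < E7.pk.nroots, wl E7.pk l' s = s := by
    intro l' hl' he
    have he' : ∀ s < E7.pk.nroots, cC x1 (wl E7.pk l' s) = cC x1 s ∧ cC x2 (wl E7.pk l' s) = cC x2 s :=
      fun s hs => hsplit _ _ (by
        have e1 := he s hs
        rw [hchar_cofx, hchar_cofx] at e1
        exact Multiplicative.ofAdd.injective (hZ.1 (Units.ext e1)))
    have hz1 : cC x1 a = 0 ∧ cC x1 a1 = 0 ∧ cC x1 a2 = 0 := by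
      have hst : ∀ d < E7.pk.nroots, cC x1 d = 0 → cC x1 (wl E7.pk l d) = 0 := fun d hd h0 => by
        have e1 := cC_wl hB7 hl7 ((q : ZMod A) • x1) hd
        rw [← hπ, hx1q, cC_smul', h0, mul_zero] at e1
        exact e1
      exact ⟨hCa, hst _ (hlt haV) hCa, hst _ (hlt h1V) (hst _ (hlt haV) hCa)⟩
    have hKfix : ∀ j : Fin 6, cC x1 (rt j) = 0 → wl E7.pk l' (rt j) = rt j := by
      intro j h0
      obtain ⟨k, hk⟩ := hval _ (E7.ok.wl_lt l' hl' _ (hrt1 j)) ((he' _ (hrt1 j)).1.trans h0)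
      have e2 := (he' _ (hrt1 j)).2
      rw [← hk, hrt2, hrt2, ← sub_eq_zero, ← mul_sub, ← Int.cast_sub] at e2
      rw [← hk, six_inj hq2 (hcz _ e2)]
    set e7 := ((Bm E7.pk).map cr).mulVec u7 with he7
    have hd7 : ∀ β < E7.pk.nroots, dot E7.pk e7 β = cC u7 β := fun β hβ => by rw [he7, hcr, cC_dot _ hβ]
    have hC1 : ∀ β, cC x1 β = η (cC u7 β) := fun β => by rw [hx1, eta_cC]
    refine fix_id (r := r) (by rw [show E7.pk.rank = 7 from rfl]; omega) (e := e7) (K := [a, a1, a2]) ?_ ?_ ?_ ?_ hl' ?_ ?_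
    · simp [haV, h1V, h2V]
    · simp [n01, n02, n12]
    · simp only [List.mem_cons, List.not_mem_nil, or_false]
      rintro x (rfl | rfl | rfl) y (rfl | rfl | rfl) hxy <;>
        first | exact absurd rfl hxy | assumption
    · intro β hβ hn1 hn2 h0
      rw [hd7 β hβ] at h0
      obtain ⟨j, rfl⟩ := hval β hβ (by rw [hC1, h0, map_zero])
      fin_cases j <;> simp [hrt, Ok.ng_ng (hlt haV), Ok.ng_ng (hlt h1V), Ok.ng_ng (hlt h2V)] at hn1 hn2
    · funext k
      have hk := E7.ok.sim_lt k.isLt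
      rw [tr_apply, hd7 _ (E7.ok.wl_lt l' hl' _ hk), hη ((hC1 _).symm.trans (((he' _ hk).1).trans (hC1 _))), ← hd7 _ hk,
        dot_sim E7.ok]
    · simp only [List.mem_cons, List.not_mem_nil, or_false]
      rintro x (rfl | rfl | rfl)
      exacts [hKfix 0 hz1.1, hKfix 1 hz1.2.1, hKfix 2 hz1.2.2]
  have hsep : ∀ s : ℕ, s.Prime → s ∣ 12 → s ∣ q ^ 12 - 1 →
      (∃ a : ℤ, (a : ZMod s) = (q : ZMod s) ∧ ¬ ((s : ℤ) ^ 2) ∣
        (Polynomial.cyclotomic 12 ℤ * Polynomial.cyclotomic 6 ℤ * Polynomial.cyclotomic 2 ℤ).eval a) ∨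
        Nat.card {x : Fin E7.pk.rank → ZMod s //
          ((RM E7.pk w.reverse - (q : ℤ) • 1).map (Int.castRingHom (ZMod s))).mulVec x = 0} ≤ s := by
    intro s hs h12 hsA
    haveI := Fact.mk hs
    have h1 : 1 ≤ q ^ 12 := by omega
    rw [← ZMod.natCast_eq_zero_iff, Nat.cast_sub h1, sub_eq_zero, Nat.cast_pow, Nat.cast_one] at hsA
    have hne : (q : ZMod s) ≠ 0 := fun e => by
      rw [e, zero_pow (by norm_num)] at hsA
      exact zero_ne_one hsA
    obtain rfl | rfl : s = 2 ∨ s = 3 := by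
      have hle : s ≤ 12 := Nat.le_of_dvd (by norm_num) h12
      interval_cases s <;> first | (norm_num at hs; done) | (norm_num at h12; done) | omega
    · left
      refine ⟨1, ?_, by rw [eval_P]; norm_num⟩
      rw [Int.cast_one]
      exact (two_cases _ hne).symm
    · have hz : (q : ZMod 3) = 1 ∨ (q : ZMod 3) = -1 :=
        three_cases _ hne
      rcases hz with hz | hz
      · exact Or.inl ⟨1, by rw [Int.cast_one, hz], by rw [eval_P]; norm_num⟩
      · exact Or.inr (card_three hz hl hchp hb hi hbi)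
  obtain ⟨H, k1, k2, k3⟩ := torus_tail full7 (algebraMap F L) smith_E7 hF.symm hL (by norm_num) P_dvd hB7 hσ hτ7
    hfi7 hfr7 hfT7 hfθ7 hfs7 hA hZ hwok hcd7 hchp7 hsep x0 hx0 h1 hst
  refine ⟨H, k1, ?_, k3⟩
  rw [hg7, eval_P] at k2
  have hN : ((q : ℤ) ^ 4 - (q : ℤ) ^ 2 + 1) * ((q : ℤ) ^ 3 + 1) = ((T * (q ^ 3 + 1) : ℕ) : ℤ) := by
    push_cast
    rw [hTc]
  rw [hN, Int.natAbs_natCast] at k2
  rw [← k2, Nat.mul_div_cancel _ (Nat.gcd_pos_of_pos_left _ (by norm_num))]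

end Cfsg.Agent.S2374
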