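import Cfsg.Statements.S2375
import Cfsg.Agent.Lib.Chev.CyclTorus.Main
import Cfsg.Agent.Lib.Chev.AllW8
import Cfsg.Agent.Lib.Chev.Smith

set_option autoImplicit false
open Cfsg

namespace Cfsg.Agent.S2375
open Cfsg.Agent

open Polynomial in
theorem cyclotomic_thirty :
    cyclotomic 30 ℤ = X ^ 8 + X ^ 7 - X ^ 5 - X ^ 4 - X ^ 3 + X + 1 := by
  haveI : Fact (Nat.Prime 5) := ⟨by norm_num⟩
  have h5 : cyclotomic 5 ℤ = X ^ 4 + X ^ 3 + X ^ 2 + X + 1 := by
    rw [cyclotomic_prime]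
    simp only [Finset.sum_range_succ, Finset.sum_range_zero]
    ring
  have h15 : cyclotomic 15 ℤ = X ^ 8 - X ^ 7 + X ^ 5 - X ^ 4 + X ^ 3 - X + 1 := by
    have h := cyclotomic_expand_eq_cyclotomic_mul (p := 3) (n := 5) Nat.prime_three (by norm_num) ℤ
    refine mul_right_cancel₀ (cyclotomic_ne_zero 5 ℤ) ?_
    rw [show 15 = 5 * 3 by norm_num, ← h, h5]
    simp only [map_add, map_pow, expand_X, map_one]
    ring
  have h := cyclotomic_expand_eq_cyclotomic_mul (p := 2) (n := 15) Nat.prime_two (by norm_num) ℤ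
  refine mul_right_cancel₀ (cyclotomic_ne_zero 15 ℤ) ?_
  rw [show 30 = 15 * 2 by norm_num, ← h, h15]
  simp only [map_add, map_sub, map_pow, expand_X, map_one]
  ring

theorem eval_thirty (a : ℤ) :
    (Polynomial.cyclotomic 30 ℤ).eval a = a ^ 8 + a ^ 7 - a ^ 5 - a ^ 4 - a ^ 3 + a + 1 := by
  simp [cyclotomic_thirty]

theorem eval_cast (q : ℕ) (hq : 2 ≤ q) :
    ((q ^ 8 + q ^ 7 - q ^ 5 - q ^ 4 - q ^ 3 + q + 1 : ℕ) : ℤ) =
      (Polynomial.cyclotomic 30 ℤ).eval (q : ℤ) := by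
  have h4 : q ^ 4 ≤ q ^ 5 := Nat.pow_le_pow_right (by omega) (by norm_num)
  have h3 : q ^ 3 ≤ q ^ 5 := Nat.pow_le_pow_right (by omega) (by norm_num)
  have h7 : 4 * q ^ 5 ≤ q ^ 7 := by
    rw [show q ^ 7 = q ^ 2 * q ^ 5 by ring]
    exact Nat.mul_le_mul_right _ (le_trans (by norm_num : 4 ≤ 2 ^ 2) (Nat.pow_le_pow_left hq 2))
  rw [eval_thirty, Nat.cast_add, Nat.cast_add, Nat.cast_sub (by omega), Nat.cast_sub (by omega),
    Nat.cast_sub (by omega)]
  push_cast
  ring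

theorem not_dvd_small (q : ℕ) {s : ℕ} (hs : s.Prime) (h : s ∣ 30) :
    ¬ (s : ℤ) ∣ (Polynomial.cyclotomic 30 ℤ).eval (q : ℤ) := by
  rw [← ZMod.intCast_zmod_eq_zero_iff_dvd, eval_thirty]
  push_cast
  generalize (q : ZMod s) = x
  have hle : s ≤ 30 := Nat.le_of_dvd (by norm_num) h
  revert x hs h
  interval_cases s <;> intro hs h <;> first | (norm_num at hs; done) | (norm_num at h; done) | decide

/-- The group E₈(q) contains a cyclic subgroup of order q⁸ + q⁷ − q⁵ − q⁴ − q³ + q + 1 which is its own centralizer. -/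
theorem result {F : Type*} [Field F] [Fintype F] (q : ℕ) (hF : Fintype.card F = q) :
    ∃ H : Subgroup ↥(Cfsg.Lie.chevE8.group F), IsCyclic ↥H ∧ Nat.card ↥H = q ^ 8 + q ^ 7 - q ^ 5 - q ^ 4 - q ^ 3 + q + 1 ∧
      Subgroup.centralizer (H : Set ↥(Cfsg.Lie.chevE8.group F)) = H := by
  classical
  subst hF
  set q := Fintype.card F with hF
  have hq : 2 ≤ q := Fintype.one_lt_card
  set N := q ^ 8 + q ^ 7 - q ^ 5 - q ^ 4 - q ^ 3 + q + 1 with hN
  obtain ⟨p, hp⟩ := CharP.exists F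
  haveI := hp
  haveI : Fact p.Prime := ⟨CharP.char_is_prime F p⟩
  let L := FiniteField.Extension F p 30
  haveI : Fintype L := Fintype.ofFinite _
  have hN1 : 1 < N := by omega
  have hr : N.minFac.Prime := Nat.minFac_prime (by omega)
  set r := N.minFac with hrdef
  haveI : Fact r.Prime := ⟨hr⟩
  have hrd : (r : ℤ) ∣ (Polynomial.cyclotomic 30 ℤ).eval (q : ℤ) := by
    rw [← eval_cast q hq]
    exact_mod_cast Nat.minFac_dvd N
  have hL : Fintype.card L = q ^ 30 := by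
    rw [← Nat.card_eq_fintype_card, FiniteField.natCard_extension, Nat.card_eq_fintype_card]
  refine Exists.elim (Chev.CyclTorus.exists_torus Chev.E8.ok (L := L) (algebraMap F L) Chev.ckComm_E8
    (J := [7, 6, 5, 4, 3, 2, 1, 0]) (by decide) Chev.ckOrb_E8 Chev.poinP_E8 rfl Chev.smith_E8 (by decide) hF.symm hL
    (by norm_num) (by decide +kernel) (d0 := 30) (by decide) dvd_rfl (r := r) hrd ?_ ?_ ?_) ?_
  · exact fun h => not_dvd_small q hr h hrd
  · intro h30 h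
    rw [Chev.poinP_E8, show Chev.pev 1 (Chev.pgeom [2, 8, 12, 14, 18, 20, 24, 30]) = 2 ^ 14 * 3 ^ 5 * 5 ^ 2 * 7 by
      decide +kernel] at h
    rcases hr.dvd_mul.1 h with e | e
    · rcases hr.dvd_mul.1 e with e | e
      · rcases hr.dvd_mul.1 e with e | e <;> have := Nat.le_of_dvd (by norm_num) (hr.dvd_of_dvd_pow e) <;> omega
      · have := Nat.le_of_dvd (by norm_num) (hr.dvd_of_dvd_pow e)
        omega
    · have := Nat.le_of_dvd (by norm_num) e
      omega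
  · exact fun s hs h30 _ => ⟨q, by simp, fun h => not_dvd_small q hs h30 (dvd_trans (dvd_pow_self _ two_ne_zero) h)⟩
  · rintro H ⟨h1, h2, h3⟩
    refine ⟨H, h1, ?_, h3⟩
    rw [h2, ← eval_cast q hq, Int.natAbs_natCast]

end Cfsg.Agent.S2375
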