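import Cfsg.Statements.S2383
import Cfsg.Agent.Lib.Chev.CurtisRichenCount

set_option autoImplicit false
open Cfsg

namespace Cfsg.Agent.S2383

/-- Steinberg's count of semisimple classes in characteristic 2 for the types B₂, D₄, E₇, where the finite simply connected group has trivial centre and so coincides with the Chevalley group: for the Chevalley group of type B₂, D₄ or E₇ over a field with `q` elements of characteristic 2, the conjugacy classes of elements of odd order number exactly `q^l`, `l` the rank. -/
theorem result {F : Type*} [Field F] [Fintype F] {q : ℕ} (hq : Fintype.card F = q) [CharP F 2]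
    (D : Cfsg.Lie.ChevalleyDatum) (hD : D ∈ [Cfsg.Lie.chevB2, Cfsg.Lie.chevD4, Cfsg.Lie.chevE7]) :
    Nat.card {c : ConjClasses ↥(D.group F) // ∃ g : ↥(D.group F), ConjClasses.mk g = c ∧ Odd (orderOf g)} = q ^ D.rank := by
  classical
  subst hq
  have hodd : Odd (Fintype.card F - 1) := by
    obtain ⟨n, hn, hcard⟩ := FiniteField.card F 2
    rw [hcard]
    refine Nat.Even.sub_odd ?_ (Nat.even_pow.2 ⟨even_two, n.ne_zero⟩) odd_one
    exact Nat.one_le_two_pow
  have hcop : ∀ k : ℕ, k = 1 ∨ k = 2 → Nat.Coprime (Fintype.card F - 1) k := by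
    rintro k (rfl | rfl)
    · exact Nat.coprime_one_right _
    · exact Nat.coprime_two_right.2 hodd
  have hodd_iff : ∀ n : ℕ, Odd n ↔ n.Coprime 2 := fun n => Nat.coprime_two_right.symm
  simp only [hodd_iff]
  simp only [List.mem_cons, List.not_mem_nil, or_false] at hD
  open Cfsg.Agent.Chev in
  rcases hD with rfl | rfl | rfl
  · exact B2.ok.card_regular ckComm_B2 2 (B2.ok.hHom_injective' smith_B2
      fun k hk => hcop _ (by revert k; decide +kernel))
  · exact D4.ok.card_regular ckComm_D4 2 (D4.ok.hHom_injective' smith_D4
      fun k hk => hcop _ (by revert k; decide +kernel))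
  · exact E7.ok.card_regular ckComm_E7 2 (E7.ok.hHom_injective' smith_E7
      fun k hk => hcop _ (by revert k; decide +kernel))

end Cfsg.Agent.S2383
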