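import Cfsg.Statements.S2389
import Cfsg.Agent.Lib.FormCentral.SpMatrix
import Cfsg.Agent.Lib.FormCentral.CharpolyConj
-- import your own Cfsg.Agent.* helpers here

set_option autoImplicit false
open Cfsg

namespace Cfsg.Agent.S2389

/-- In the symplectic group `Sp_{2n}(q)`, `q` a power of the prime `p`, two elements of order prime to `p` with the same characteristic polynomial are conjugate in `Sp_{2n}(q)`. -/
theorem result {F : Type*} [Field F] [Fintype F] (p : ℕ) [Fact p.Prime] [CharP F p] (n : ℕ)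
    (g h : ↥(Matrix.symplecticGroup (Fin n) F)) (hg : (orderOf g).Coprime p) (hh : (orderOf h).Coprime p)
    (hc : (g : Matrix (Fin n ⊕ Fin n) (Fin n ⊕ Fin n) F).charpoly = (h : Matrix (Fin n ⊕ Fin n) (Fin n ⊕ Fin n) F).charpoly) :
    IsConj g h := by
  have hk : ∀ X : Matrix.symplecticGroup (Fin n) F, (orderOf X).Coprime p →
      Module.End.IsSemisimple (Matrix.toLinAlgEquiv' (X : Matrix (Fin n ⊕ Fin n) (Fin n ⊕ Fin n) F)) := by
    intro X hX
    refine FormCentral.isSemisimple_of_pow (k := orderOf X) ?_ ?_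
    · rw [Ne, CharP.cast_eq_zero_iff F p]
      exact fun h => (Fact.out : p.Prime).not_dvd_one (hX ▸ Nat.dvd_gcd h dvd_rfl)
    · rw [← map_pow, show ((X : Matrix (Fin n ⊕ Fin n) (Fin n ⊕ Fin n) F)) ^ orderOf X = 1 from
        (SubmonoidClass.coe_pow X _).symm.trans (congrArg Subtype.val (pow_orderOf_eq_one X)), map_one]
  obtain ⟨P, hP⟩ := FormCentral.exists_intertwine_of_charpoly _ _ (hk g hg) (hk h hh) (by
    show LinearMap.charpoly (Matrix.toLin' (g : Matrix (Fin n ⊕ Fin n) (Fin n ⊕ Fin n) F)) =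
      LinearMap.charpoly (Matrix.toLin' (h : Matrix (Fin n ⊕ Fin n) (Fin n ⊕ Fin n) F))
    rw [Matrix.charpoly_toLin', Matrix.charpoly_toLin', hc])
  exact FormCentral.sp_isConj_of_intertwine g h hg P hP

end Cfsg.Agent.S2389
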