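import Cfsg.Statements.S2385
import Cfsg.Agent.S2387
import Cfsg.Agent.S2389

set_option autoImplicit false
open Cfsg

namespace Cfsg.Agent.S2385

open Polynomial Matrix

variable {F : Type*} [Field F]

local notation "K" => RatFunc F

/-- The element `x + x⁻¹`. -/
noncomputable def yEl : RatFunc F := RatFunc.X + (RatFunc.X)⁻¹

theorem aeval_y_ne {h : F[X]} (hh : h ≠ 0) : aeval (yEl (F := F)) h ≠ 0 := by
  intro h0
  let P : F[X] := ∑ k ∈ Finset.range (h.natDegree + 1),
    C (h.coeff k) * (X ^ 2 + 1) ^ k * X ^ (h.natDegree - k)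
  have hX : (RatFunc.X : RatFunc F) ≠ 0 := RatFunc.X_ne_zero
  have hmap : algebraMap F[X] (RatFunc F) P = RatFunc.X ^ h.natDegree * aeval (yEl (F := F)) h := by
    rw [map_sum, aeval_eq_sum_range, Finset.mul_sum]
    refine Finset.sum_congr rfl fun k hk => ?_
    obtain ⟨j, hj⟩ := Nat.exists_eq_add_of_le (Nat.lt_succ_iff.mp (Finset.mem_range.mp hk))
    rw [map_mul, map_mul, map_pow, map_pow, map_add, map_pow, map_one, RatFunc.algebraMap_X,
      RatFunc.algebraMap_C, Algebra.smul_def, ← RatFunc.algebraMap_C,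
      show algebraMap F (RatFunc F) (h.coeff k) = algebraMap F[X] (RatFunc F) (C (h.coeff k)) from rfl,
      hj, Nat.add_sub_cancel_left, pow_add,
      show (RatFunc.X : RatFunc F) ^ 2 + 1 = RatFunc.X * yEl by rw [yEl]; field_simp, mul_pow]
    ring
  rw [h0, mul_zero, map_eq_zero_iff _ (RatFunc.algebraMap_injective F)] at hmap
  have h1 := congrArg (Polynomial.eval 0) hmap
  simp only [P, eval_finsetSum, eval_mul, eval_pow, eval_add, eval_X, eval_C, eval_one,
    eval_zero] at h1
  rw [Finset.sum_eq_single h.natDegree] at h1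
  · simp [hh] at h1
  · intro k hk hne
    rw [zero_pow (show h.natDegree - k ≠ 0 by simp at hk; omega), mul_zero]
  · simp

/-- A symmetric invertible matrix making the regular matrix of `h` self-adjoint. -/
theorem exists_pair {n : ℕ} (h : F[X]) (hm : h.Monic) (hd : h.natDegree = n) :
    ∃ A S : Matrix (Fin n) (Fin n) F, A.charpoly = h ∧ IsUnit S ∧ Sᵀ = S ∧ Aᵀ * S = S * A := by
  classical
  subst hd
  let pb := AdjoinRoot.powerBasis hm.ne_zero
  have hdim : pb.dim = h.natDegree := rfl
  let b : Module.Basis (Fin h.natDegree) F (AdjoinRoot h) := pb.basis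
  have hb : ∀ i, b i = pb.gen ^ (i : ℕ) := fun i => pb.basis_eq_pow i
  rcases Nat.eq_zero_or_pos h.natDegree with h0 | h0
  · haveI : IsEmpty (Fin h.natDegree) := by rw [h0]; infer_instance
    refine ⟨1, 1, ?_, isUnit_one, Matrix.transpose_one, by simp⟩
    rw [Matrix.charpoly_one, Fintype.card_fin, h0, pow_zero, hm.natDegree_eq_zero.mp h0]
  let lst : Fin h.natDegree := ⟨h.natDegree - 1, by omega⟩
  let S : Matrix (Fin h.natDegree) (Fin h.natDegree) F := Matrix.of fun i j => b.coord lst (b i * b j)
  let A := Algebra.leftMulMatrix b pb.gen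
  refine ⟨A, S, ?_, ?_, ?_, ?_⟩
  · exact (charpoly_leftMulMatrix pb).trans (AdjoinRoot.minpoly_powerBasis_gen_of_monic hm _)
  · rw [← Matrix.mulVec_injective_iff_isUnit]
    intro v w hvw
    rw [← sub_eq_zero]
    set z := v - w with hz
    have hSz : S *ᵥ z = 0 := by rw [hz, Matrix.mulVec_sub]; exact sub_eq_zero.mpr hvw
    by_contra hne
    obtain ⟨i₀, hi₀⟩ := Function.ne_iff.mp hne
    have hne' : (Finset.univ.filter fun i => z i ≠ 0).Nonempty := ⟨i₀, by simpa using hi₀⟩
    set top := (Finset.univ.filter fun i => z i ≠ 0).max' hne' with htop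
    have htop0 : z top ≠ 0 := (Finset.mem_filter.mp (Finset.max'_mem _ hne')).2
    have habove : ∀ j, top < j → z j = 0 := fun j hj => by
      by_contra hzj
      exact absurd (Finset.le_max' _ j (by simpa using hzj)) (not_le.mpr hj)
    let i : Fin h.natDegree := ⟨h.natDegree - 1 - top, by omega⟩
    apply htop0
    have h1 : (S *ᵥ z) i = 0 := congrFun hSz i
    show z top = 0
    rw [← h1]
    show z top = ∑ j, S i j * z j
    rw [Finset.sum_eq_single top]
    · have : b i * b top = b lst := by
        rw [hb, hb, hb, ← pow_add]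
        congr 1
        simp only [i, lst]
        omega
      simp [S, this]
    · intro j _ hj
      rcases lt_or_gt_of_ne hj with hlt | hgt
      · have hk : (i : ℕ) + j < h.natDegree - 1 := by
          have := Fin.lt_def.mp hlt
          simp only [i]
          omega
        have : b i * b j = b ⟨i + j, by omega⟩ := by rw [hb, hb, hb, ← pow_add]
        have hne2 : (⟨i + j, by omega⟩ : Fin h.natDegree) ≠ lst := fun e => by
          have := congrArg Fin.val e
          simp only [lst] at this
          omega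
        simp [S, this, hne2]
      · rw [habove j hgt, mul_zero]
    · simp
  · ext i j
    simp [S, mul_comm]
  · have key : ∀ i j, ∑ k, A k i * S k j = b.coord lst (pb.gen * b i * b j) := by
      intro i j
      conv_rhs => rw [← b.sum_repr (pb.gen * b i), Finset.sum_mul, map_sum]
      refine Finset.sum_congr rfl fun k _ => ?_
      rw [smul_mul_assoc, map_smul]
      exact congrArg (· * _) (Algebra.leftMulMatrix_eq_repr_mul b pb.gen k i)
    have hsym : ∀ i j, S i j = S j i := fun i j => by simp [S, mul_comm]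
    ext i j
    rw [Matrix.mul_apply, Matrix.mul_apply]
    simp only [Matrix.transpose_apply]
    rw [key, Finset.sum_congr rfl fun k _ => by rw [hsym i k, mul_comm], key, mul_right_comm]

/-- An element of `Sp` whose characteristic polynomial is `x^n h(x + 1/x)`. -/
theorem exists_element {n : ℕ} (h : F[X]) (hm : h.Monic) (hd : h.natDegree = n) :
    ∃ g : Matrix.symplecticGroup (Fin n) F,
      algebraMap F[X] (RatFunc F) g.1.charpoly = RatFunc.X ^ n * aeval (yEl (F := F)) h := by
  classical
  obtain ⟨A, S, hA, hS, hSt, hAS⟩ := exists_pair h hm hd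
  have hSd : IsUnit S.det := (Matrix.isUnit_iff_isUnit_det S).mp hS
  let g : Matrix (Fin n ⊕ Fin n) (Fin n ⊕ Fin n) F := Matrix.fromBlocks A (-S⁻¹) S 0
  have hmem : g ∈ Matrix.symplecticGroup (Fin n) F := by
    rw [SymplecticGroup.mem_iff']
    simp only [g, Matrix.J, Matrix.fromBlocks_transpose, Matrix.fromBlocks_multiply]
    simp [Matrix.transpose_nonsing_inv, hSt, hAS, Matrix.mul_nonsing_inv S hSd,
      Matrix.nonsing_inv_mul S hSd]
  refine ⟨⟨g, hmem⟩, ?_⟩
  show algebraMap F[X] (RatFunc F) g.charpoly = _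
  let φ : F →+* RatFunc F := algebraMap F (RatFunc F)
  have hX : (RatFunc.X : RatFunc F) ≠ 0 := RatFunc.X_ne_zero
  have he : ∀ P : F[X], algebraMap F[X] (RatFunc F) P = (P.map φ).eval RatFunc.X := fun P => by
    rw [Polynomial.eval_map, ← Polynomial.aeval_def]
    conv_lhs => rw [← Polynomial.aeval_X_left_apply P]
    rw [← Polynomial.aeval_algebraMap_apply, RatFunc.algebraMap_X]
  rw [he, ← Matrix.charpoly_map, Matrix.eval_charpoly]
  have hblk : Matrix.scalar (Fin n ⊕ Fin n) (RatFunc.X : RatFunc F) - g.map φ =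
      Matrix.fromBlocks (Matrix.scalar (Fin n) RatFunc.X - A.map φ) (S⁻¹.map φ) (-S.map φ)
        (Matrix.scalar (Fin n) RatFunc.X) := by
    rw [show g.map φ = Matrix.fromBlocks (A.map φ) ((-S⁻¹).map φ) (S.map φ) ((0 : Matrix _ _ F).map φ)
      from Matrix.fromBlocks_map _ _ _ _ _]
    rw [← Matrix.ext_iff]
    rintro (i | i) (j | j) <;>
      simp [Matrix.scalar_apply, Matrix.diagonal_apply, Sum.inl.injEq]
  rw [hblk]
  haveI : Invertible (Matrix.scalar (Fin n) (RatFunc.X : RatFunc F)) :=
    ⟨Matrix.scalar (Fin n) (RatFunc.X)⁻¹, by rw [← map_mul, inv_mul_cancel₀ hX, map_one],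
      by rw [← map_mul, mul_inv_cancel₀ hX, map_one]⟩
  rw [Matrix.det_fromBlocks₂₂]
  have hinv : ⅟(Matrix.scalar (Fin n) (RatFunc.X : RatFunc F)) = Matrix.scalar (Fin n) (RatFunc.X)⁻¹ := invOf_eq_right_inv (by rw [← map_mul, mul_inv_cancel₀ hX, map_one])
  rw [hinv]
  have hScomm : S⁻¹.map φ * Matrix.scalar (Fin n) (RatFunc.X)⁻¹ * (-S.map φ)
      = -Matrix.scalar (Fin n) (RatFunc.X : RatFunc F)⁻¹ := by
    rw [(Matrix.scalar_commute (RatFunc.X : RatFunc F)⁻¹ (fun r => Commute.all _ _) (S⁻¹.map φ)).symm.eq,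
      mul_assoc, mul_neg, ← Matrix.map_mul, Matrix.nonsing_inv_mul S hSd,
      Matrix.map_one φ φ.map_zero φ.map_one, mul_neg, mul_one]
  rw [hScomm, sub_neg_eq_add,
    show Matrix.scalar (Fin n) (RatFunc.X : RatFunc F) - A.map φ + Matrix.scalar (Fin n) (RatFunc.X)⁻¹
      = Matrix.scalar (Fin n) (yEl (F := F)) - A.map φ by rw [yEl, map_add]; abel,
    ← Matrix.eval_charpoly, Matrix.charpoly_map, hA, Polynomial.eval_map, ← Polynomial.aeval_def,
    Matrix.scalar_apply, Matrix.det_diagonal, Finset.prod_const, Finset.card_univ, Fintype.card_fin]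

theorem charpoly_palindromic {n : ℕ} (g : Matrix.symplecticGroup (Fin n) F) {i : ℕ} (hi : i ≤ 2 * n) :
    g.1.charpoly.coeff (2 * n - i) = g.1.charpoly.coeff i := by
  classical
  set M := g.1
  have hdet : M.det = 1 := SymplecticGroup.det_eq_one g.2
  have hu : IsUnit M := (Matrix.isUnit_iff_isUnit_det M).mpr (by rw [hdet]; exact isUnit_one)
  let Ju : (Matrix (Fin n ⊕ Fin n) (Fin n ⊕ Fin n) F)ˣ :=
    ⟨-Matrix.J (Fin n) F, Matrix.J (Fin n) F, by rw [neg_mul, Matrix.J_squared, neg_neg],
      by rw [mul_neg, Matrix.J_squared, neg_neg]⟩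
  have h1 : M⁻¹.charpoly = M.charpoly := by
    rw [← SymplecticGroup.coe_inv', SymplecticGroup.coe_inv]
    show (Ju.val * Mᵀ * (Ju⁻¹).val).charpoly = _
    rw [← Matrix.charpoly_transpose M]
    simp
  rw [Matrix.charpoly_inv M hu, hdet, Fintype.card_sum, Fintype.card_fin,
    show (-1 : F[X]) ^ (n + n) = 1 by rw [← two_mul, pow_mul]; simp, Ring.inverse_one, map_one,
    one_mul, one_mul, ← Matrix.reverse_charpoly] at h1
  have hdeg : M.charpoly.natDegree = 2 * n := by
    rw [Matrix.charpoly_natDegree_eq_dim, Fintype.card_sum, Fintype.card_fin, two_mul]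
  conv_rhs => rw [← h1, Polynomial.coeff_reverse, hdeg, Polynomial.revAt_le hi]

end Cfsg.Agent.S2385

namespace Cfsg.Agent.S2385

/-- In the symplectic group `Sp_{2n}(q)`, `q` a power of the prime `p`, the number of conjugacy classes of elements of order prime to `p` is `q^n`. -/
theorem result {F : Type*} [Field F] [Fintype F] {q : ℕ} (hq : Fintype.card F = q) (p : ℕ) [Fact p.Prime] [CharP F p] (n : ℕ) :
    Nat.card {c : ConjClasses ↥(Matrix.symplecticGroup (Fin n) F) //
      ∃ g : ↥(Matrix.symplecticGroup (Fin n) F), ConjClasses.mk g = c ∧ (orderOf g).Coprime p} = q ^ n := by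
  classical
  let V := (Fin n → F)
  have hV : Nat.card V = q ^ n := by
    rw [Nat.card_fun, Nat.card_fin, Nat.card_eq_fintype_card, hq]
  choose rep hrep hcop using fun c : {c : ConjClasses ↥(Matrix.symplecticGroup (Fin n) F) //
      ∃ g : ↥(Matrix.symplecticGroup (Fin n) F), ConjClasses.mk g = c ∧ (orderOf g).Coprime p} => c.2
  refine le_antisymm ?_ ?_
  · -- the class is determined by half of the coefficients
    rw [← hV]
    refine Nat.card_le_card_of_injective (fun c => fun i : Fin n => (rep c).1.charpoly.coeff (i + 1))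
      fun a b hab => ?_
    refine Subtype.ext ?_
    rw [← hrep a, ← hrep b, ConjClasses.mk_eq_mk_iff_isConj]
    refine S2389.result p n _ _ (hcop a) (hcop b) (Polynomial.ext fun i => ?_)
    have hdeg : ∀ g : ↥(Matrix.symplecticGroup (Fin n) F), g.1.charpoly.natDegree = 2 * n := fun g => by
      rw [Matrix.charpoly_natDegree_eq_dim, Fintype.card_sum, Fintype.card_fin, two_mul]
    have hone : ∀ g : ↥(Matrix.symplecticGroup (Fin n) F), g.1.charpoly.coeff 0 = 1 := fun g => by
      rw [← charpoly_palindromic g (Nat.zero_le _), Nat.sub_zero, ← hdeg g]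
      exact g.1.charpoly_monic.coeff_natDegree
    have hlow : ∀ j, j ≤ n → (rep a).1.charpoly.coeff j = (rep b).1.charpoly.coeff j := by
      intro j hj
      rcases Nat.eq_zero_or_pos j with rfl | hj0
      · rw [hone, hone]
      · have := congrFun hab ⟨j - 1, by omega⟩
        simp only at this
        rwa [show j - 1 + 1 = j by omega] at this
    rcases le_or_gt i n with hin | hin
    · exact hlow i hin
    rcases le_or_gt i (2 * n) with hi2 | hi2
    · rw [← charpoly_palindromic (rep a) hi2, ← charpoly_palindromic (rep b) hi2]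
      exact hlow _ (by omega)
    · rw [Polynomial.coeff_eq_zero_of_natDegree_lt (by rw [hdeg]; omega),
        Polynomial.coeff_eq_zero_of_natDegree_lt (by rw [hdeg]; omega)]
  · -- every `x^n h(x + 1/x)` occurs
    let hpoly : V → Polynomial F := fun v =>
      (((Polynomial.monicEquivDegreeLT n).trans (Polynomial.degreeLTEquiv F n).toEquiv).symm v).1
    have hpoly' : ∀ v, (hpoly v).Monic ∧ (hpoly v).natDegree = n := fun v =>
      (((Polynomial.monicEquivDegreeLT n).trans (Polynomial.degreeLTEquiv F n).toEquiv).symm v).2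
    choose g hg using fun v => exists_element (hpoly v) (hpoly' v).1 (hpoly' v).2
    -- pass to the semisimple part
    let s : V → ↥(Matrix.symplecticGroup (Fin n) F) := fun v => g v ^ (Fintype.card F ^ orderOf (g v))
    have hs : ∀ v, (orderOf (s v)).Coprime p := by
      intro v
      obtain ⟨f', hpos, hF⟩ := FiniteField.card F p
      by_contra hc
      have hdvd : p ∣ orderOf (s v) :=
        (Fact.out : p.Prime).coprime_iff_not_dvd.not_left.1 (fun h => hc h.symm)
      rw [orderOf_pow, hF, ← pow_mul] at hdvd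
      set o := orderOf (g v)
      have ho : 0 < o := orderOf_pos (g v)
      set d := o.gcd (p ^ ((f' : ℕ) * o))
      have h1 : d * p ∣ o := by
        conv_rhs => rw [← Nat.mul_div_cancel' (Nat.gcd_dvd_left o (p ^ ((f' : ℕ) * o)))]
        exact Nat.mul_dvd_mul_left _ hdvd
      obtain ⟨j, hj, hdj⟩ := (Nat.dvd_prime_pow (Fact.out : p.Prime)).1
        (show d ∣ p ^ ((f' : ℕ) * o) from Nat.gcd_dvd_right _ _)
      have hjo : p ^ (j + 1) ≤ o := Nat.le_of_dvd ho (by rw [pow_succ, ← hdj]; exact h1)
      have h2 : d * p ∣ p ^ ((f' : ℕ) * o) := by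
        rw [hdj, ← pow_succ]
        refine pow_dvd_pow _ ?_
        have hlt : j + 1 < p ^ (j + 1) := Nat.lt_pow_self (Fact.out : p.Prime).one_lt
        have : o ≤ (f' : ℕ) * o := Nat.le_mul_of_pos_left _ f'.pos
        omega
      have := Nat.le_of_dvd (Nat.gcd_pos_of_pos_left _ ho) (Nat.dvd_gcd h1 h2)
      have h3 := (Fact.out : p.Prime).two_le
      have h4 : 0 < d := Nat.gcd_pos_of_pos_left _ ho
      nlinarith
    have hcp : ∀ v, (s v).1.charpoly = (g v).1.charpoly := by
      intro v
      have key : ∀ k, ((g v).1 ^ (Fintype.card F ^ k)).charpoly = (g v).1.charpoly := by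
        intro k
        induction k with
        | zero => simp
        | succ k ih => rw [pow_succ, pow_mul, FiniteField.Matrix.charpoly_pow_card, ih]
      exact (congrArg Matrix.charpoly (SubmonoidClass.coe_pow (g v) _)).trans (key _)
    rw [← hV]
    refine Nat.card_le_card_of_injective (fun v => ⟨ConjClasses.mk (s v), s v, rfl, hs v⟩) fun v w hvw => ?_
    obtain ⟨c, hc⟩ := isConj_iff.1 (ConjClasses.mk_eq_mk_iff_isConj.1 (congrArg Subtype.val hvw))
    have hceq : (g v).1.charpoly = (g w).1.charpoly := by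
      rw [← hcp v, ← hcp w, ← hc, Submonoid.coe_mul, Submonoid.coe_mul]
      let cu : (Matrix (Fin n ⊕ Fin n) (Fin n ⊕ Fin n) F)ˣ :=
        ⟨c.1, (c⁻¹).1, by rw [← Submonoid.coe_mul, mul_inv_cancel]; rfl,
          by rw [← Submonoid.coe_mul, inv_mul_cancel]; rfl⟩
      show _ = (cu.val * (s v).1 * (cu⁻¹).val).charpoly
      simp
    have h1 := congrArg (algebraMap (Polynomial F) (RatFunc F)) hceq
    rw [hg, hg, mul_right_inj' (pow_ne_zero _ RatFunc.X_ne_zero)] at h1
    have hpe : hpoly v = hpoly w := by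
      by_contra hne
      exact aeval_y_ne (sub_ne_zero.mpr hne) (by rw [map_sub, h1, sub_self])
    exact ((Polynomial.monicEquivDegreeLT n).trans (Polynomial.degreeLTEquiv F n).toEquiv).symm.injective
      (Subtype.ext hpe)

end Cfsg.Agent.S2385
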