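import Cfsg.Statements.S2390
import Cfsg.Agent.Lib.FormCentral.SUConj
-- import your own Cfsg.Agent.* helpers here

set_option autoImplicit false
open Cfsg

namespace Cfsg.Agent.S2390

/-- In the special unitary group `SU_n(q)` (inside `SL_n` over the field with `q²` elements), `q` a power of the prime `p`, two elements of order prime to `p` with the same characteristic polynomial are conjugate in `SU_n(q)`. -/
theorem result {F : Type*} [Field F] [Fintype F] {q : ℕ} (hF : Fintype.card F = q ^ 2) (p : ℕ) [Fact p.Prime] [CharP F p] (n : ℕ)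
    (g h : ↥(Cfsg.SU n F q)) (hg : (orderOf g).Coprime p) (hh : (orderOf h).Coprime p)
    (hc : ((g : Matrix.SpecialLinearGroup (Fin n) F) : Matrix (Fin n) (Fin n) F).charpoly =
      ((h : Matrix.SpecialLinearGroup (Fin n) F) : Matrix (Fin n) (Fin n) F).charpoly) : IsConj g h := by
  classical
  rcases Nat.eq_zero_or_pos n with rfl | hn
  · exact (IsConj.refl g).trans (by rw [show g = h from Subtype.ext (Subtype.ext (Matrix.ext fun i => i.elim0))])
  let H : ↥(Cfsg.SU n F q) →* GL (Fin n) F := Matrix.SpecialLinearGroup.toGL.comp (Cfsg.SU n F q).subtype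
  have hk : ∀ X : ↥(Cfsg.SU n F q), (orderOf X).Coprime p →
      Module.End.IsSemisimple (Matrix.toLinAlgEquiv' ((H X : GL (Fin n) F) : Matrix (Fin n) (Fin n) F)) := by
    intro X hX
    refine FormCentral.isSemisimple_of_pow (k := orderOf X) ?_ ?_
    · rw [Ne, CharP.cast_eq_zero_iff F p]
      exact fun h => (Fact.out : p.Prime).not_dvd_one (hX ▸ Nat.dvd_gcd h dvd_rfl)
    · rw [← map_pow, ← Units.val_pow_eq_pow_val, ← map_pow H, pow_orderOf_eq_one, map_one, Units.val_one, map_one]
  obtain ⟨P, hP⟩ := FormCentral.exists_intertwine_of_charpoly _ _ (hk g hg) (hk h hh) (by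
    show LinearMap.charpoly (Matrix.toLin' ((g : Matrix.SpecialLinearGroup (Fin n) F) : Matrix (Fin n) (Fin n) F)) =
      LinearMap.charpoly (Matrix.toLin' ((h : Matrix.SpecialLinearGroup (Fin n) F) : Matrix (Fin n) (Fin n) F))
    rw [Matrix.charpoly_toLin', Matrix.charpoly_toLin', hc])
  let C : GL (Fin n) F := Matrix.GeneralLinearGroup.toLin.symm (LinearMap.GeneralLinearGroup.ofLinearEquiv P)
  have hC : ∀ v, (C : Matrix (Fin n) (Fin n) F).mulVec v = P v := fun v =>
    LinearMap.toMatrix'_mulVec (P.toLinearMap : (Fin n → F) →ₗ[F] (Fin n → F)) v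
  refine FormCentral.su_isConj hF g h C ?_ fun x hx =>
    FormCentral.gu_centraliser_det hF hn (FormCentral.su_toGL_mem g) (hk g hg) hx
  refine Units.ext (Matrix.ext_of_mulVec_single fun j => ?_)
  rw [Units.val_mul, Units.val_mul, ← Matrix.mulVec_mulVec, ← Matrix.mulVec_mulVec, hC, hC]
  exact hP _

end Cfsg.Agent.S2390
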