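import Cfsg.Statements.S2386
import Cfsg.Agent.S2390
import Cfsg.Agent.Lib.FormTorus.Dual
import Cfsg.Agent.Lib.FormTorus.Irred
import Cfsg.Agent.Lib.FormTorus.Realize

set_option autoImplicit false
open Cfsg

namespace Cfsg.Agent.S2386

open Polynomial Cfsg.Agent.FormTorus Cfsg.Agent.FormsLib

variable {F : Type*} [Field F] {q : ℕ} [hQ : Cfsg.Agent.AutPSU.QField F q]

local notation "σ" => ((Cfsg.Agent.AutPSU.qb (F := F) q : F ≃+* F) : F →+* F)

/-- A unitary matrix with characteristic polynomial `f`. -/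
def Realised (q n : ℕ) (f : F[X]) : Prop :=
  ∃ A : Matrix (Fin n) (Fin n) F,
    (∀ u v, hermForm n F q (A.mulVec u) (A.mulVec v) = hermForm n F q u v) ∧ A.charpoly = f

theorem hermForm_append {a b : ℕ} (u v : Fin (a + b) → F) :
    hermForm (a + b) F q u v = hermForm a F q (fun i => u (Fin.castAdd b i)) (fun i => v (Fin.castAdd b i))
      + hermForm b F q (fun i => u (Fin.natAdd a i)) (fun i => v (Fin.natAdd a i)) := by
  simp only [hermForm, Fin.sum_univ_add]

theorem realised_mul {a b : ℕ} {f g : F[X]} (hf : Realised q a f) (hg : Realised q b g) :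
    Realised q (a + b) (f * g) := by
  obtain ⟨A, hA, rfl⟩ := hf
  obtain ⟨B, hB, rfl⟩ := hg
  refine ⟨Matrix.reindex finSumFinEquiv finSumFinEquiv (Matrix.fromBlocks A 0 0 B), fun u v => ?_, ?_⟩
  · have hc : ∀ w : Fin (a + b) → F, ∀ s,
        (Matrix.reindex finSumFinEquiv finSumFinEquiv (Matrix.fromBlocks A 0 0 B)).mulVec w (finSumFinEquiv s)
          = Sum.elim (A.mulVec fun i => w (Fin.castAdd b i)) (B.mulVec fun i => w (Fin.natAdd a i)) s := by
      intro w s
      simp only [Matrix.mulVec, dotProduct, ← finSumFinEquiv.sum_comp, Fintype.sum_sum_type,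
        Matrix.reindex_apply, Matrix.submatrix_apply, Equiv.symm_apply_apply,
        finSumFinEquiv_apply_left, finSumFinEquiv_apply_right]
      rcases s with s | s <;> simp [Matrix.mulVec, dotProduct]
    rw [hermForm_append, hermForm_append u v]
    conv_rhs => rw [← hA, ← hB]
    congr 2 <;> funext i
    · exact hc _ (.inl i)
    · exact hc _ (.inl i)
    · exact hc _ (.inr i)
    · exact hc _ (.inr i)
  · rw [Matrix.charpoly_reindex, Matrix.charpoly_fromBlocks_zero₁₂]

theorem realised_of_isometry {V : Type*} [AddCommGroup V] [Module F V] [FiniteDimensional F V]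
    {B : V →ₛₗ[σ] V →ₗ[F] F} (hB : IsFlipForm σ 1 B) {n : ℕ} (hn : Module.finrank F V = n)
    (g : V →ₗ[F] V) (hg : ∀ u v, B (g u) (g v) = B u v) : Realised q n g.charpoly := by
  obtain ⟨Φ, hΦ⟩ := exists_isometry_fin hB hn
  refine ⟨LinearMap.toMatrix' (Φ.conj g), fun u v => ?_, ?_⟩
  · rw [LinearMap.toMatrix'_mulVec, LinearMap.toMatrix'_mulVec]
    show hermForm n F q (Φ (g (Φ.symm u))) (Φ (g (Φ.symm v))) = _
    rw [← hΦ, hg, hΦ, Φ.apply_symm_apply, Φ.apply_symm_apply]
  · rw [← Matrix.charpoly_toLin', Matrix.toLin'_toMatrix', LinearEquiv.charpoly_conj]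

theorem charpoly_mulLeft {K : Type*} [Field K] [Algebra F K] [FiniteDimensional F K] (x : K)
    {P : F[X]} (hP : Irreducible P) (hPm : P.Monic) (hdeg : Module.finrank F K = P.natDegree)
    (hroot : aeval x P = 0) : (LinearMap.mulLeft F x).charpoly = P := by
  have h1 : aeval x (LinearMap.mulLeft F x).charpoly = 0 := by
    have h := LinearMap.aeval_self_charpoly (LinearMap.mulLeft F x)
    have h2 : aeval (Algebra.lmul F K x) (LinearMap.mulLeft F x).charpoly = 0 := h
    rw [Polynomial.aeval_algHom_apply] at h2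
    exact (injective_iff_map_eq_zero (Algebra.lmul F K)).mp Algebra.lmul_injective _ h2
  have hdvd : P ∣ (LinearMap.mulLeft F x).charpoly := by
    rw [minpoly.eq_of_irreducible_of_monic hP hroot hPm]
    exact minpoly.dvd F x h1
  refine Polynomial.eq_of_monic_of_dvd_of_natDegree_le hPm (LinearMap.charpoly_monic _) hdvd ?_
  rw [LinearMap.charpoly_natDegree, hdeg]

theorem dual_irreducible {h : F[X]} (hh : Irreducible h) (hm : h.Monic) (h0 : h.coeff 0 ≠ 0) :
    Irreducible (dualPoly σ h) := by
  have h0' : (dualPoly σ h).coeff 0 ≠ 0 := by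
    rw [coeff_zero_dualPoly hm h0]; exact inv_ne_zero ((_root_.map_ne_zero σ).2 h0)
  refine ⟨fun hu => ?_, fun a b hab => ?_⟩
  · have := Polynomial.natDegree_eq_zero_of_isUnit hu
    rw [natDegree_dualPoly h0] at this
    exact absurd (hh.natDegree_pos) (by omega)
  · have ha0 : a.coeff 0 ≠ 0 := fun h => h0' (by rw [hab, Polynomial.mul_coeff_zero, h, zero_mul])
    have hb0 : b.coeff 0 ≠ 0 := fun h => h0' (by rw [hab, Polynomial.mul_coeff_zero, h, mul_zero])
    have hh' : h = dualPoly σ a * dualPoly σ b := by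
      rw [← dualPoly_mul, ← hab, dualPoly_dualPoly (sigma_sigma (F := F) (q := q)) hm h0]
    rcases hh.isUnit_or_isUnit hh' with hu | hu
    · left
      have := Polynomial.natDegree_eq_zero_of_isUnit hu
      rw [natDegree_dualPoly ha0] at this
      rw [Polynomial.eq_C_of_natDegree_eq_zero this]
      exact Polynomial.isUnit_C.mpr (isUnit_iff_ne_zero.mpr ha0)
    · right
      have := Polynomial.natDegree_eq_zero_of_isUnit hu
      rw [natDegree_dualPoly hb0] at this
      rw [Polynomial.eq_C_of_natDegree_eq_zero this]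
      exact Polynomial.isUnit_C.mpr (isUnit_iff_ne_zero.mpr hb0)

theorem trace_semilinear {K : Type*} [Field K] [Finite K] [Algebra F K] (τ : K →+* K)
    (hτ : ∀ c, τ (algebraMap F K c) = algebraMap F K (σ c)) (z : K) :
    Algebra.trace F K (τ z) = σ (Algebra.trace F K z) := by
  let e : K ≃+* K := RingEquiv.ofBijective τ (Finite.injective_iff_bijective.1 τ.injective)
  have h := Algebra.trace_eq_of_equiv_equiv (Cfsg.Agent.AutPSU.qb (F := F) q) e
    (RingHom.ext fun c => (hτ c).symm) z
  rw [h]
  exact ((Cfsg.Agent.AutPSU.qb (F := F) q).apply_symm_apply _).symm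

theorem block_self [Finite F] {h : F[X]} [Fact (Irreducible h)] (hm : h.Monic) (h0 : h.coeff 0 ≠ 0)
    (hd : dualPoly σ h = h) : Realised q h.natDegree h := by
  obtain ⟨τ, hτc, hτx, hττ⟩ := exists_conj (sigma_sigma (F := F) (q := q)) h0 hd
  haveI := (natCard_adjoinRoot (F := F) hm.ne_zero).1
  haveI : FiniteDimensional F (AdjoinRoot h) := (AdjoinRoot.powerBasis hm.ne_zero).finite
  have hτc' : ∀ c, τ (algebraMap F (AdjoinRoot h) c) = algebraMap F (AdjoinRoot h) (σ c) := hτc
  have hB := fieldB_isFlip σ (1 : F) τ hτc' (fun z => trace_semilinear τ hτc' z) hττ 1 (by simp)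
    one_ne_zero
  have hy : τ (AdjoinRoot.root h) * AdjoinRoot.root h = 1 := by
    rw [hτx, inv_mul_cancel₀ (root_ne_zero h0)]
  have hfr : Module.finrank F (AdjoinRoot h) = h.natDegree := by
    rw [(AdjoinRoot.powerBasis hm.ne_zero).finrank, AdjoinRoot.powerBasis_dim]
  have hc := charpoly_mulLeft (AdjoinRoot.root h) (Fact.out : Irreducible h) hm hfr
    (by rw [AdjoinRoot.aeval_eq, AdjoinRoot.mk_self])
  rw [← hc]
  rw [hc]
  have := realised_of_isometry hB hfr (LinearMap.mulLeft F (AdjoinRoot.root h))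
    (fun u v => fieldB_mul σ τ hτc' 1 _ hy u v)
  rwa [hc] at this

theorem block_pair [Finite F] {h : F[X]} [Fact (Irreducible h)] (hm : h.Monic) (h0 : h.coeff 0 ≠ 0) :
    Realised q (h.natDegree + h.natDegree) (h * dualPoly σ h) := by
  obtain ⟨p, hchar⟩ := CharP.exists F
  haveI := Fintype.ofFinite F
  obtain ⟨⟨k, hk⟩, hp, hcard⟩ := FiniteField.card F p
  haveI := Fact.mk hp
  have hq2 : q ^ 2 = p ^ k := by
    rw [← hQ.card, Nat.card_eq_fintype_card, hcard]; rfl
  obtain ⟨a, -, hqa⟩ := (Nat.dvd_prime_pow hp).1 (hq2 ▸ dvd_pow_self q two_ne_zero)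
  haveI : CharP (AdjoinRoot h) p :=
    charP_of_injective_algebraMap (algebraMap F (AdjoinRoot h)).injective p
  haveI : ExpChar (AdjoinRoot h) p := ExpChar.prime hp
  haveI := (natCard_adjoinRoot (F := F) hm.ne_zero).1
  haveI : FiniteDimensional F (AdjoinRoot h) := (AdjoinRoot.powerBasis hm.ne_zero).finite
  let τ : AdjoinRoot h →+* AdjoinRoot h := iterateFrobenius (AdjoinRoot h) p a
  have hτ : ∀ z, τ z = z ^ q := fun z => by rw [hqa, iterateFrobenius_def]
  have hτc : ∀ c, τ (algebraMap F (AdjoinRoot h) c) = algebraMap F (AdjoinRoot h) (σ c) := fun c => by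
    rw [hτ, sigma_apply, map_pow]
  have hss := sigma_sigma (F := F) (q := q)
  have hB := pairB_isFlip σ (1 : F) τ hτc hss (by simp)
  set y := AdjoinRoot.root h with hy
  have hy0 : y ≠ 0 := root_ne_zero h0
  set w := (τ y)⁻¹ with hw
  have hyw : τ y * w = 1 := mul_inv_cancel₀ ((_root_.map_ne_zero τ).2 hy0)
  have hfr : Module.finrank F (AdjoinRoot h) = h.natDegree := by
    rw [(AdjoinRoot.powerBasis hm.ne_zero).finrank, AdjoinRoot.powerBasis_dim]
  have hc1 := charpoly_mulLeft y (Fact.out : Irreducible h) hm hfr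
    (by rw [hy, AdjoinRoot.aeval_eq, AdjoinRoot.mk_self])
  have hroot : aeval w (dualPoly σ h) = 0 := by
    haveI : Invertible (τ y) := invertibleOfNonzero ((_root_.map_ne_zero τ).2 hy0)
    have h1 : Polynomial.eval₂ (algebraMap F (AdjoinRoot h)) (τ y) (h.map σ) = 0 := by
      rw [Polynomial.eval₂_map,
        show (algebraMap F (AdjoinRoot h)).comp σ = τ.comp (algebraMap F (AdjoinRoot h)) from
          RingHom.ext fun c => (hτc c).symm,
        ← Polynomial.hom_eval₂, show Polynomial.eval₂ (algebraMap F (AdjoinRoot h)) y h = 0 from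
          AdjoinRoot.eval₂_root h, map_zero]
    rw [dualPoly, map_mul, Polynomial.aeval_def, hw, ← invOf_eq_inv (τ y),
      (Polynomial.eval₂_reverse_eq_zero_iff _ _ _).2 h1, zero_mul]
  have hc2 := charpoly_mulLeft w (dual_irreducible (Fact.out : Irreducible h) hm h0)
    (monic_dualPoly h0) (by rw [natDegree_dualPoly h0, hfr]) hroot
  have hdim : Module.finrank F (AdjoinRoot h × AdjoinRoot h) = h.natDegree + h.natDegree := by
    rw [Module.finrank_prod, hfr]
  have := realised_of_isometry hB hdim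
    ((LinearMap.mulLeft F y).prodMap (LinearMap.mulLeft F w))
    (fun u v => pairB_mul σ 1 τ hτc hss _ _ hyw u v)
  rwa [LinearMap.charpoly_prodMap, hc1, hc2] at this

/-- Every self-dual monic polynomial is the characteristic polynomial of a unitary matrix. -/
theorem exists_realised [Finite F] : ∀ (n : ℕ) (f : F[X]), f.Monic → f.natDegree = n → f.coeff 0 ≠ 0 →
    dualPoly σ f = f → Realised q n f := by
  intro n
  induction n using Nat.strong_induction_on with
  | _ n ih =>
    intro f hm hdeg h0 hd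
    rcases Nat.eq_zero_or_pos n with rfl | hn
    · refine ⟨1, fun u v => by simp [hermForm], ?_⟩
      rw [hm.natDegree_eq_zero.mp hdeg, Matrix.charpoly_one, Fintype.card_fin, pow_zero]
    obtain ⟨h, hhm, hhi, hdvd⟩ := Polynomial.exists_monic_irreducible_factor f
      (Polynomial.not_isUnit_of_natDegree_pos f (by omega))
    haveI := Fact.mk hhi
    have hh0 : h.coeff 0 ≠ 0 := fun e => by
      obtain ⟨c, rfl⟩ := hdvd
      exact h0 (by rw [Polynomial.mul_coeff_zero, e, zero_mul])
    have hpos := hhi.natDegree_pos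
    have main : ∀ (blk : F[X]) (d : ℕ), blk.Monic → blk.natDegree = d → 0 < d →
        dualPoly σ blk = blk → Realised q d blk → blk ∣ f → Realised q n f := by
      intro blk d hbm hbd hdp hbdual hreal hbdvd
      obtain ⟨f', rfl⟩ := hbdvd
      have hf'm : f'.Monic := hbm.of_mul_monic_left hm
      have hf'0 : f'.coeff 0 ≠ 0 := fun e => h0 (by rw [Polynomial.mul_coeff_zero, e, mul_zero])
      have hsum : d + f'.natDegree = n := by
        rw [← hdeg, hbm.natDegree_mul hf'm, hbd]
      rw [dualPoly_mul, hbdual] at hd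
      have hf'd := mul_left_cancel₀ hbm.ne_zero hd
      have := realised_mul hreal (ih f'.natDegree (by omega) f' hf'm rfl hf'0 hf'd)
      rwa [hsum] at this
    by_cases hself : dualPoly σ h = h
    · exact main h _ hhm rfl hpos hself (block_self hhm hh0 hself) hdvd
    · have hd2 : dualPoly σ h ∣ f := by
        obtain ⟨c, hc⟩ := hdvd
        refine ⟨dualPoly σ c, ?_⟩
        rw [← dualPoly_mul, ← hc, hd]
      have hcop : IsCoprime h (dualPoly σ h) := by
        refine (hhi.coprime_iff_not_dvd).mpr fun hdd => hself ?_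
        exact (Polynomial.eq_of_monic_of_associated hhm (monic_dualPoly hh0)
          (hhi.associated_of_dvd (dual_irreducible hhi hhm hh0) hdd)).symm
      refine main (h * dualPoly σ h) _ (hhm.mul (monic_dualPoly hh0)) ?_ (Nat.add_pos_left hpos h.natDegree) ?_
        (block_pair hhm hh0) (hcop.mul_dvd hdvd hd2)
      · rw [hhm.natDegree_mul (monic_dualPoly hh0), natDegree_dualPoly hh0]
      · rw [dualPoly_mul, dualPoly_dualPoly (sigma_sigma (F := F) (q := q)) hhm hh0, mul_comm]

/-- The number of twisted-symmetric coefficient vectors. -/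
theorem card_twisted [Finite F] (m : ℕ) :
    Nat.card {w : Fin m → F // ∀ i, σ (w i) = (-1 : F) ^ (m + 1) * w i.rev} = q ^ m := by
  classical
  haveI := Fintype.ofFinite F
  obtain ⟨θ, hθ⟩ := exists_sigma_ne (F := F) (q := q)
  have hss := sigma_sigma (F := F) (q := q)
  set ε : F := (-1) ^ (m + 1) with hε
  have hε2 : ε * ε = 1 := by rw [hε, ← mul_pow, neg_one_mul, neg_neg, one_pow]
  have hεσ : σ ε = ε := by rw [hε, map_pow, map_neg, map_one]
  set S := {w : Fin m → F // ∀ i, σ (w i) = ε * w i.rev}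
  -- the involution whose fixed points are `S`
  let T : (Fin m → F) → (Fin m → F) := fun w i => ε * σ (w i.rev)
  have hTT : ∀ w i, T (T w) i = w i := fun w i => by
    simp only [T, Fin.rev_rev, map_mul, hεσ, hss, ← mul_assoc, hε2, one_mul]
  have hTS : ∀ w, T w = w → ∀ i, σ (w i) = ε * w i.rev := fun w hw i => by
    have h := congrFun hw i.rev
    simp only [T, Fin.rev_rev] at h
    rw [← h, ← mul_assoc, hε2, one_mul]
  have hST : ∀ w : S, ∀ i, ε * σ (w.1 i.rev) = w.1 i := fun w i => by
    rw [w.2, Fin.rev_rev, ← mul_assoc, hε2, one_mul]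
  have hne : θ - σ θ ≠ 0 := sub_ne_zero.mpr hθ.symm
  let e : S × S → (Fin m → F) := fun p i => p.1.1 i + θ * p.2.1 i
  have hTe : ∀ p i, T (e p) i = p.1.1 i + σ θ * p.2.1 i := fun p i => by
    simp only [T, e, map_add, map_mul, mul_add]
    rw [hST p.1 i, mul_left_comm, hST p.2 i]
  have hinj : Function.Injective e := by
    intro p r hpr
    have h2 : ∀ i, p.2.1 i = r.2.1 i := fun i => by
      have h1 := congrFun hpr i
      have h3 := hTe p i
      rw [hpr, hTe r i] at h3
      simp only [e] at h1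
      refine mul_left_cancel₀ hne ?_
      linear_combination h1 + h3
    refine Prod.ext (Subtype.ext (funext fun i => ?_)) (Subtype.ext (funext h2))
    have h1 := congrFun hpr i
    simp only [e, h2 i, add_left_inj] at h1
    exact h1
  have hsurj : Function.Surjective e := by
    intro w
    let b : Fin m → F := fun i => (w i - T w i) / (θ - σ θ)
    have hb : T b = b := by
      funext i
      show ε * σ ((w i.rev - T w i.rev) / (θ - σ θ)) = (w i - T w i) / (θ - σ θ)
      rw [map_div₀, map_sub, map_sub, hss θ, ← mul_div_assoc, mul_sub,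
        show ε * σ (w i.rev) = T w i from rfl, show ε * σ (T w i.rev) = T (T w) i from rfl, hTT,
        ← neg_sub (w i) (T w i), ← neg_sub θ (σ θ), neg_div_neg_eq]
    have hwb : ∀ i, w i - T w i = (θ - σ θ) * b i := fun i => (mul_div_cancel₀ _ hne).symm
    let a : Fin m → F := fun i => w i - θ * b i
    have ha : T a = a := by
      funext i
      show ε * σ (w i.rev - θ * b i.rev) = w i - θ * b i
      rw [map_sub, map_mul, mul_sub, mul_left_comm]
      have hb' : ε * σ (b i.rev) = b i := congrFun hb i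
      have hw' : ε * σ (w i.rev) = T w i := rfl
      rw [hb', hw']
      linear_combination -(hwb i)
    exact ⟨(⟨a, hTS a ha⟩, ⟨b, hTS b hb⟩), funext fun i => sub_add_cancel _ _⟩
  have hcard := Nat.card_congr (Equiv.ofBijective e ⟨hinj, hsurj⟩)
  rw [Nat.card_prod, Nat.card_fun, Nat.card_fin, hQ.card, ← pow_mul, mul_comm 2 m, pow_mul, sq] at hcard
  exact Nat.mul_self_inj.mp hcard

/-- The characteristic polynomial of a special unitary matrix is twisted-symmetric. -/
theorem charpoly_twisted {n : ℕ} (g : ↥(Cfsg.SU n F q)) {i : ℕ} (hi : i ≤ n) :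
    σ (((g : Matrix.SpecialLinearGroup (Fin n) F) : Matrix (Fin n) (Fin n) F).charpoly.coeff i) =
      (-1) ^ n * ((g : Matrix.SpecialLinearGroup (Fin n) F) : Matrix (Fin n) (Fin n) F).charpoly.coeff (n - i) := by
  classical
  set A := ((g : Matrix.SpecialLinearGroup (Fin n) F) : Matrix (Fin n) (Fin n) F) with hA
  have hdet : A.det = 1 := (g : Matrix.SpecialLinearGroup (Fin n) F).2
  have hu : IsUnit A := (Matrix.isUnit_iff_isUnit_det A).mpr (by rw [hdet]; exact isUnit_one)
  have key : A.transpose * A.map σ = 1 := by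
    ext i j
    have h : hermForm n F q (A.mulVec (Pi.single i 1)) (A.mulVec (Pi.single j 1))
        = hermForm n F q (Pi.single i 1) (Pi.single j 1) := g.2 _ _
    have hqpos : q ≠ 0 := by have := hQ.two_le; omega
    simp only [hermForm, Matrix.mulVec_single_one, Matrix.col_apply, Pi.single_apply, ite_pow,
      one_pow, zero_pow hqpos, mul_ite, mul_one, mul_zero, Finset.sum_ite_eq', Finset.mem_univ,
      if_true] at h
    simp only [Matrix.mul_apply, Matrix.transpose_apply, Matrix.map_apply, Matrix.one_apply,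
      sigma_apply (F := F) (q := q)]
    rw [h]
    exact if_congr eq_comm rfl rfl
  have h1 : A.transpose⁻¹ = A.map σ := Matrix.inv_eq_right_inv key
  have h2 : (A.map σ).charpoly = A⁻¹.charpoly := by
    rw [← h1, ← Matrix.transpose_nonsing_inv, Matrix.charpoly_transpose]
  rw [Matrix.charpoly_map, Matrix.charpoly_inv A hu, hdet, Ring.inverse_one, map_one, mul_one,
    Fintype.card_fin, ← Matrix.reverse_charpoly] at h2
  have h3 := congrArg (fun P => Polynomial.coeff P i) h2
  rw [Polynomial.coeff_map, show ((-1 : F[X]) ^ n) = C ((-1 : F) ^ n) by simp,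
    Polynomial.coeff_C_mul, Polynomial.coeff_reverse, Matrix.charpoly_natDegree_eq_dim,
    Fintype.card_fin, Polynomial.revAt_le hi] at h3
  exact h3

end Cfsg.Agent.S2386

namespace Cfsg.Agent.S2386

/-- In the special unitary group `SU_n(q)` (matrices of determinant one over the field with `q²` elements preserving the standard Hermitian form), `q` a power of the prime `p`, the number of conjugacy classes of elements of order prime to `p` is `q^(n-1)`. -/
theorem result {F : Type*} [Field F] [Fintype F] {q : ℕ} (hF : Fintype.card F = q ^ 2) (p : ℕ) [Fact p.Prime] [CharP F p] (n : ℕ) (hn : 1 ≤ n) :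
    Nat.card {c : ConjClasses ↥(Cfsg.SU n F q) // ∃ g : ↥(Cfsg.SU n F q), ConjClasses.mk g = c ∧ (orderOf g).Coprime p} = q ^ (n - 1) := by
  classical
  haveI := Cfsg.Agent.AutPSU.QField.of_card hF
  obtain ⟨m, rfl⟩ : ∃ m, n = m + 1 := ⟨n - 1, by omega⟩
  rw [Nat.add_sub_cancel, ← card_twisted (F := F) (q := q) m]
  set s : F →+* F := ((Cfsg.Agent.AutPSU.qb (F := F) q : F ≃+* F) : F →+* F) with hsdef
  have hsgn : ((-1 : F) ^ (m + 1)) * (-1) ^ (m + 1) = 1 := by
    rw [← mul_pow, neg_one_mul, neg_neg, one_pow]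
  choose rep hrep hcop using fun c : {c : ConjClasses ↥(Cfsg.SU (m + 1) F q) //
      ∃ g : ↥(Cfsg.SU (m + 1) F q), ConjClasses.mk g = c ∧ (orderOf g).Coprime p} => c.2
  let cp : ↥(Cfsg.SU (m + 1) F q) → Polynomial F := fun g =>
    ((g : Matrix.SpecialLinearGroup (Fin (m + 1)) F) : Matrix (Fin (m + 1)) (Fin (m + 1)) F).charpoly
  have hdeg : ∀ g, (cp g).natDegree = m + 1 := fun g => by
    rw [Matrix.charpoly_natDegree_eq_dim, Fintype.card_fin]
  refine Nat.card_congr (Equiv.ofBijective
    (fun c => ⟨fun i => (cp (rep c)).coeff (i + 1), fun i => ?_⟩) ⟨?_, ?_⟩)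
  · rw [charpoly_twisted _ (by omega)]
    congr 2
    simp only [Fin.val_rev]
    omega
  · intro a b hab
    have hab' := congrArg Subtype.val hab
    refine Subtype.ext ?_
    rw [← hrep a, ← hrep b, ConjClasses.mk_eq_mk_iff_isConj]
    refine S2390.result hF p _ _ _ (hcop a) (hcop b) (Polynomial.ext fun i => ?_)
    show (cp (rep a)).coeff i = (cp (rep b)).coeff i
    rcases Nat.eq_zero_or_pos i with rfl | hi0
    · have h : ∀ g, (cp g).coeff 0 = (-1 : F) ^ (m + 1) := fun g => by
        have h1 := Matrix.det_eq_sign_charpoly_coeff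
          ((g : Matrix.SpecialLinearGroup (Fin (m + 1)) F) : Matrix (Fin (m + 1)) (Fin (m + 1)) F)
        rw [(g : Matrix.SpecialLinearGroup (Fin (m + 1)) F).2, Fintype.card_fin] at h1
        calc (cp g).coeff 0 = ((-1 : F) ^ (m + 1) * (-1) ^ (m + 1)) * (cp g).coeff 0 := by
              rw [hsgn, one_mul]
          _ = (-1) ^ (m + 1) := by rw [mul_assoc, ← h1, mul_one]
      rw [h, h]
    rcases le_or_gt i m with him | him
    · have := congrFun hab' ⟨i - 1, by omega⟩
      simp only at this
      rwa [show i - 1 + 1 = i by omega] at this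
    rcases eq_or_lt_of_le (show m + 1 ≤ i by omega) with rfl | hlt
    · have h : ∀ g, (cp g).coeff (m + 1) = 1 := fun g => by
        rw [← hdeg g]; exact (Matrix.charpoly_monic _).coeff_natDegree
      rw [h, h]
    · rw [Polynomial.coeff_eq_zero_of_natDegree_lt (by rw [hdeg]; omega),
        Polynomial.coeff_eq_zero_of_natDegree_lt (by rw [hdeg]; omega)]
  · rintro ⟨w, hw⟩
    -- the polynomial with these coefficients
    let e := (Polynomial.monicEquivDegreeLT (R := F) (m + 1)).trans (Polynomial.degreeLTEquiv F (m + 1)).toEquiv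
    let f : Polynomial F := (e.symm (Fin.cons ((-1 : F) ^ (m + 1)) w)).1
    have hfm : f.Monic := (e.symm (Fin.cons ((-1 : F) ^ (m + 1)) w)).2.1
    have hfd : f.natDegree = m + 1 := (e.symm (Fin.cons ((-1 : F) ^ (m + 1)) w)).2.2
    have hfc : ∀ j : Fin (m + 1), f.coeff (j : ℕ) = (Fin.cons ((-1 : F) ^ (m + 1)) w : Fin (m + 1) → F) j := by
      intro j
      have h1 := congrFun (e.apply_symm_apply (Fin.cons ((-1 : F) ^ (m + 1)) w)) j
      rw [← h1]
      show f.coeff (j : ℕ) = f.eraseLead.coeff (j : ℕ)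
      rw [Polynomial.eraseLead_coeff_of_ne _ (by omega)]
    have hf0 : f.coeff 0 = (-1 : F) ^ (m + 1) := by simpa using hfc 0
    have hfi : ∀ i : Fin m, f.coeff ((i : ℕ) + 1) = w i := fun i => by simpa using hfc i.succ
    have hsε : s ((-1 : F) ^ (m + 1)) = (-1) ^ (m + 1) := by rw [map_pow, map_neg, map_one]
    have hdual : FormTorus.dualPoly s f = f := by
      have h0' : f.coeff 0 ≠ 0 := by rw [hf0]; exact pow_ne_zero _ (neg_ne_zero.2 one_ne_zero)
      ext i
      rw [FormTorus.coeff_dualPoly f h0', hf0, hsε, hfd]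
      rw [div_eq_iff (pow_ne_zero _ (neg_ne_zero.2 one_ne_zero))]
      rcases le_or_gt i (m + 1) with hi | hi
      · rw [Polynomial.revAt_le hi]
        rcases Nat.eq_zero_or_pos i with rfl | hi0
        · rw [Nat.sub_zero, show f.coeff (m + 1) = 1 by rw [← hfd]; exact hfm.coeff_natDegree,
            map_one, hf0, hsgn]
        rcases eq_or_lt_of_le hi with rfl | hlt
        · rw [Nat.sub_self, hf0, hsε, show f.coeff (m + 1) = 1 by rw [← hfd]; exact hfm.coeff_natDegree,
            one_mul]
        · have h := hw ⟨m - i, by omega⟩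
          rw [← hfi, ← hfi] at h
          simp only [Fin.val_rev] at h
          rw [show m + 1 - i = m - i + 1 by omega, h, mul_comm]
          congr 2
          omega
      · have hrev : Polynomial.revAt (m + 1) i = i := by
          rw [Polynomial.revAt_eq_self_of_lt hi]
        rw [hrev, Polynomial.coeff_eq_zero_of_natDegree_lt (by omega), map_zero, zero_mul]
    obtain ⟨A, hA, hAf⟩ := exists_realised (F := F) (q := q) (m + 1) f hfm hfd
      (by rw [hf0]; exact pow_ne_zero _ (neg_ne_zero.2 one_ne_zero)) hdual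
    have hdet : A.det = 1 := by
      rw [Matrix.det_eq_sign_charpoly_coeff, hAf, hf0, Fintype.card_fin, hsgn]
    let g : ↥(Cfsg.SU (m + 1) F q) := ⟨⟨A, hdet⟩, hA⟩
    -- the semisimple part
    let u := g ^ (Fintype.card F ^ orderOf g)
    have hu : (orderOf u).Coprime p := by
      obtain ⟨f', hpos, hFc⟩ := FiniteField.card F p
      by_contra hc
      have hdvd : p ∣ orderOf u :=
        (Fact.out : p.Prime).coprime_iff_not_dvd.not_left.1 (fun h => hc h.symm)
      rw [orderOf_pow, hFc, ← pow_mul] at hdvd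
      set o := orderOf g
      have ho : 0 < o := orderOf_pos g
      set d := o.gcd (p ^ ((f' : ℕ) * o))
      have h1 : d * p ∣ o := by
        conv_rhs => rw [← Nat.mul_div_cancel' (Nat.gcd_dvd_left o (p ^ ((f' : ℕ) * o)))]
        exact Nat.mul_dvd_mul_left _ hdvd
      obtain ⟨j, hj, hdj⟩ := (Nat.dvd_prime_pow (Fact.out : p.Prime)).1
        (show d ∣ p ^ ((f' : ℕ) * o) from Nat.gcd_dvd_right _ _)
      have hjo : p ^ (j + 1) ≤ o := Nat.le_of_dvd ho (by rw [pow_succ, ← hdj]; exact h1)
      have h2 : d * p ∣ p ^ ((f' : ℕ) * o) := by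
        rw [hdj, ← pow_succ]
        refine pow_dvd_pow _ ?_
        have hlt : j + 1 < p ^ (j + 1) := Nat.lt_pow_self (Fact.out : p.Prime).one_lt
        have : o ≤ (f' : ℕ) * o := Nat.le_mul_of_pos_left _ f'.pos
        omega
      have := Nat.le_of_dvd (Nat.gcd_pos_of_pos_left _ ho) (Nat.dvd_gcd h1 h2)
      have h3 := (Fact.out : p.Prime).two_le
      have h4 : 0 < d := Nat.gcd_pos_of_pos_left _ ho
      nlinarith
    have hpow : ∀ j : ℕ, (((g ^ j : ↥(Cfsg.SU (m + 1) F q)) : Matrix.SpecialLinearGroup (Fin (m + 1)) F) :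
        Matrix (Fin (m + 1)) (Fin (m + 1)) F) = A ^ j := fun j => rfl
    have hcu : cp u = f := by
      have key : ∀ k, (A ^ (Fintype.card F ^ k)).charpoly = A.charpoly := by
        intro k
        induction k with
        | zero => simp
        | succ k ih => rw [pow_succ, pow_mul, FiniteField.Matrix.charpoly_pow_card, ih]
      exact ((congrArg Matrix.charpoly (hpow _)).trans (key _)).trans hAf
    refine ⟨⟨ConjClasses.mk u, u, rfl, hu⟩, Subtype.ext (funext fun i => ?_)⟩
    obtain ⟨c, hc⟩ := isConj_iff.1 (ConjClasses.mk_eq_mk_iff_isConj.1 (hrep ⟨ConjClasses.mk u, u, rfl, hu⟩))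
    show (cp (rep _)).coeff ((i : ℕ) + 1) = w i
    rw [← hfi, ← hcu]
    refine congrArg (fun P => Polynomial.coeff P ((i : ℕ) + 1)) ?_
    refine Eq.trans ?_ (congrArg cp hc)
    let H : ↥(Cfsg.SU (m + 1) F q) →* GL (Fin (m + 1)) F :=
      Matrix.SpecialLinearGroup.toGL.comp (Cfsg.SU (m + 1) F q).subtype
    have hH : ∀ x, cp x = (H x).val.charpoly := fun x => rfl
    rw [hH, hH, map_mul, map_mul, map_inv, Units.val_mul, Units.val_mul, Matrix.coe_units_inv,
      Matrix.charpoly_units_conj]

end Cfsg.Agent.S2386
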