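import Cfsg.Statements.S2388
import Cfsg.Agent.S2569
import Cfsg.Agent.Lib.FormCentral.CharpolyConj
-- import your own Cfsg.Agent.* helpers here

set_option autoImplicit false
open Cfsg

namespace Cfsg.Agent.S2388

/-- In `SL_n(q)`, `q` a power of the prime `p`, two elements of order prime to `p` with the same characteristic polynomial are conjugate in `SL_n(q)` (not merely in `GL_n`). -/
theorem result {F : Type*} [Field F] [Fintype F] (p : ℕ) [Fact p.Prime] [CharP F p] (n : ℕ)
    (g h : Matrix.SpecialLinearGroup (Fin n) F) (hg : (orderOf g).Coprime p) (hh : (orderOf h).Coprime p)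
    (hc : (g : Matrix (Fin n) (Fin n) F).charpoly = (h : Matrix (Fin n) (Fin n) F).charpoly) : IsConj g h := by
  classical
  have hord : ∀ X : Matrix.SpecialLinearGroup (Fin n) F,
      orderOf (Matrix.SpecialLinearGroup.toGL X) = orderOf X := fun X =>
    orderOf_injective (Matrix.SpecialLinearGroup.toGL (n := Fin n) (R := F)) Matrix.SpecialLinearGroup.toGL_injective X
  have hk : ∀ X : Matrix.SpecialLinearGroup (Fin n) F, (orderOf X).Coprime p →
      Module.End.IsSemisimple (Matrix.toLinAlgEquiv' (X : Matrix (Fin n) (Fin n) F)) := by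
    intro X hX
    refine FormCentral.isSemisimple_of_pow (k := orderOf X) ?_ ?_
    · rw [Ne, CharP.cast_eq_zero_iff F p]
      exact fun h => (Fact.out : p.Prime).not_dvd_one (hX ▸ Nat.dvd_gcd h dvd_rfl)
    · rw [← map_pow, show ((X : Matrix (Fin n) (Fin n) F)) ^ orderOf X = 1 from
        (Matrix.SpecialLinearGroup.coe_pow X _).symm.trans (congrArg Subtype.val (pow_orderOf_eq_one X)), map_one]
  obtain ⟨P, hP⟩ := FormCentral.exists_intertwine_of_charpoly _ _ (hk g hg) (hk h hh) (by
    show LinearMap.charpoly (Matrix.toLin' (g : Matrix (Fin n) (Fin n) F)) =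
      LinearMap.charpoly (Matrix.toLin' (h : Matrix (Fin n) (Fin n) F))
    rw [Matrix.charpoly_toLin', Matrix.charpoly_toLin', hc])
  let C : GL (Fin n) F := Matrix.GeneralLinearGroup.toLin.symm (LinearMap.GeneralLinearGroup.ofLinearEquiv P)
  have hC : ∀ v, (C : Matrix (Fin n) (Fin n) F).mulVec v = P v := fun v =>
    LinearMap.toMatrix'_mulVec (P.toLinearMap : (Fin n → F) →ₗ[F] (Fin n → F)) v
  have hCg : C * Matrix.SpecialLinearGroup.toGL g = Matrix.SpecialLinearGroup.toGL h * C := by
    refine Units.ext (Matrix.ext_of_mulVec_single fun j => ?_)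
    rw [Units.val_mul, Units.val_mul, ← Matrix.mulVec_mulVec, ← Matrix.mulVec_mulVec, hC, hC]
    exact hP _
  obtain ⟨D, hD, hD'⟩ := S2569.result (p := p) (Matrix.SpecialLinearGroup.toGL g) C (by rw [hord]; exact hg)
  rw [hCg, mul_inv_cancel_right, mul_inv_eq_iff_eq_mul] at hD'
  exact isConj_iff.2 ⟨⟨_, hD⟩, mul_inv_eq_iff_eq_mul.2 (Subtype.ext (congrArg Units.val hD'))⟩

end Cfsg.Agent.S2388
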