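import Cfsg.Statements.S2391
import Mathlib

set_option autoImplicit false
open Cfsg

namespace Cfsg.Agent.S2391

section Aux

variable {F : Type*} [Field F] {n : ℕ}

/-- Vectors fixed by `U` modulo `S`. -/
def fixMod (U : Subgroup (Matrix.SpecialLinearGroup (Fin n) F)) (S : Submodule F (Fin n → F)) :
    Submodule F (Fin n → F) where
  carrier := {v | ∀ u ∈ U, (u : Matrix (Fin n) (Fin n) F).mulVec v - v ∈ S}
  add_mem' {v w} hv hw u hu := by
    rw [Matrix.mulVec_add, add_sub_add_comm]
    exact S.add_mem (hv u hu) (hw u hu)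
  zero_mem' u _ := by rw [Matrix.mulVec_zero, sub_zero]; exact S.zero_mem
  smul_mem' c v hv u hu := by
    rw [Matrix.mulVec_smul, ← smul_sub]
    exact S.smul_mem c (hv u hu)

theorem exists_fixed [Fintype F] {p : ℕ} [Fact p.Prime] [CharP F p]
    {U : Subgroup (Matrix.SpecialLinearGroup (Fin n) F)} (hU : IsPGroup p U)
    {S : Submodule F (Fin n → F)}
    (hS : ∀ u ∈ U, ∀ v ∈ S, (u : Matrix (Fin n) (Fin n) F).mulVec v ∈ S) (hne : S ≠ ⊤) :
    ∃ v, v ∉ S ∧ v ∈ fixMod U S := by
  classical
  let f : U → ((Fin n → F) ⧸ S) →ₗ[F] (Fin n → F) ⧸ S := fun u =>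
    S.mapQ S (Matrix.mulVecLin ((u : Matrix.SpecialLinearGroup (Fin n) F) : Matrix (Fin n) (Fin n) F))
      (fun v hv => hS u u.2 v hv)
  letI : MulAction U ((Fin n → F) ⧸ S) :=
    { smul := fun u x => f u x
      one_smul := fun x => by
        obtain ⟨v, rfl⟩ := Submodule.Quotient.mk_surjective S x
        show f 1 (Submodule.Quotient.mk v) = _
        simp [f]
      mul_smul := fun a b x => by
        obtain ⟨v, rfl⟩ := Submodule.Quotient.mk_surjective S x
        show f (a * b) (Submodule.Quotient.mk v) = f a (f b (Submodule.Quotient.mk v))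
        show Submodule.Quotient.mk (((a * b : U).1 : Matrix (Fin n) (Fin n) F).mulVec v) =
          Submodule.Quotient.mk ((a.1 : Matrix (Fin n) (Fin n) F).mulVec ((b.1 : Matrix (Fin n) (Fin n) F).mulVec v))
        rw [Matrix.mulVec_mulVec, Subgroup.coe_mul, Matrix.SpecialLinearGroup.coe_mul] }
  haveI : Finite ((Fin n → F) ⧸ S) := Finite.of_surjective _ (Submodule.Quotient.mk_surjective S)
  have hp : p ∣ Nat.card ((Fin n → F) ⧸ S) := by
    rw [Module.natCard_eq_pow_finrank (K := F)]
    obtain ⟨k, -, hk⟩ := FiniteField.card F p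
    have hpos : Module.finrank F ((Fin n → F) ⧸ S) ≠ 0 := by
      have h1 := Submodule.finrank_quotient_add_finrank S
      have h2 := Submodule.finrank_lt hne
      omega
    refine (dvd_pow_self p k.ne_zero).trans ?_
    rw [Nat.card_eq_fintype_card, hk]
    exact dvd_pow_self _ hpos
  have h0 : (0 : (Fin n → F) ⧸ S) ∈ MulAction.fixedPoints U ((Fin n → F) ⧸ S) := fun u => by
    show f u 0 = 0
    rw [map_zero]
  obtain ⟨x, hx, hx0⟩ := hU.exists_fixed_point_of_prime_dvd_card_of_fixed_point _ hp h0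
  obtain ⟨v, rfl⟩ := Submodule.Quotient.mk_surjective S x
  refine ⟨v, fun hv => hx0 ((Submodule.Quotient.mk_eq_zero S).2 hv).symm, fun u hu => ?_⟩
  exact (Submodule.Quotient.eq S).1 (hx ⟨u, hu⟩)

end Aux

/-- The Borel–Tits property of `SL_n(q)` in flag form: for a field `F` of characteristic `p` with finitely many elements and a non-trivial `p`-subgroup `U` of `SL_n(F)`, there is a flag `0 = V₀ < V₁ < ⋯ < V_{k+1} = F^n` with at least one proper non-zero member such that every element of the normaliser of `U` maps each `V_i` onto itself and every element of `U` acts trivially on each quotient `V_{i+1}/V_i` (so the normaliser lies in the parabolic subgroup of the flag and `U` in its unipotent radical). -/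
theorem result {F : Type*} [Field F] [Fintype F] (p : ℕ) [Fact p.Prime] [CharP F p] (n : ℕ)
    (U : Subgroup (Matrix.SpecialLinearGroup (Fin n) F)) (hU : IsPGroup p ↥U) (hne : U ≠ ⊥) :
    ∃ (k : ℕ) (V : Fin (k + 2) → Submodule F (Fin n → F)), 1 ≤ k ∧ StrictMono V ∧ V 0 = ⊥ ∧ V (Fin.last (k + 1)) = ⊤ ∧
      (∀ g ∈ Subgroup.normalizer (U : Set (Matrix.SpecialLinearGroup (Fin n) F)), ∀ i, (V i).map (Matrix.mulVecLin (g : Matrix (Fin n) (Fin n) F)) = V i) ∧
      (∀ u ∈ U, ∀ i : Fin (k + 1), ∀ v ∈ V i.succ, (u : Matrix (Fin n) (Fin n) F).mulVec v - v ∈ V (Fin.castSucc i)) := by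
  classical
  let W : ℕ → Submodule F (Fin n → F) := fun j => (fun S => fixMod U S)^[j] (⊥ : Submodule F (Fin n → F))
  have hW0 : W 0 = ⊥ := rfl
  have hWs : ∀ j, W (j + 1) = fixMod U (W j) := fun j => Function.iterate_succ_apply' (fun S => fixMod U S) j (⊥ : Submodule F (Fin n → F))
  have hUW : ∀ j, ∀ u ∈ U, ∀ v ∈ W j, (u : Matrix (Fin n) (Fin n) F).mulVec v ∈ W j := by
    intro j
    induction j with
    | zero =>
      intro u _ v hv
      rw [hW0, Submodule.mem_bot] at hv ⊢
      rw [hv, Matrix.mulVec_zero]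
    | succ j ih =>
      intro u hu v hv
      rw [hWs] at hv ⊢
      intro u' hu'
      have e : (u' : Matrix (Fin n) (Fin n) F).mulVec ((u : Matrix (Fin n) (Fin n) F).mulVec v) -
          (u : Matrix (Fin n) (Fin n) F).mulVec v =
          (((u' * u : Matrix.SpecialLinearGroup (Fin n) F) : Matrix (Fin n) (Fin n) F).mulVec v - v) -
            ((u : Matrix (Fin n) (Fin n) F).mulVec v - v) := by
        rw [Matrix.SpecialLinearGroup.coe_mul, Matrix.mulVec_mulVec]; abel
      rw [e]
      exact Submodule.sub_mem _ (hv _ (U.mul_mem hu' hu)) (hv _ hu)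
  have hmono : ∀ j, W j ≤ W (j + 1) := fun j v hv => by
    rw [hWs]
    exact fun u hu => Submodule.sub_mem _ (hUW j u hu v hv) hv
  have hstrict : ∀ j, W j ≠ ⊤ → W j < W (j + 1) := by
    intro j hj
    obtain ⟨v, hv, hfix⟩ := exists_fixed hU (hUW j) hj
    exact lt_of_le_of_ne (hmono j) fun h => hv (by rw [h, hWs]; exact hfix)
  have hN : ∃ L, W L = ⊤ := by
    by_contra hcon
    push Not at hcon
    have hgrow : ∀ j : ℕ, j ≤ Module.finrank F ↥(W j) := by
      intro j
      induction j with
      | zero => exact Nat.zero_le _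
      | succ j ih => exact ih.trans_lt (Submodule.finrank_lt_finrank_of_lt (hstrict j (hcon j)))
    have h1 := (hgrow (n + 1)).trans (Submodule.finrank_le _)
    rw [Module.finrank_fin_fun] at h1
    omega
  set L := Nat.find hN with hL
  have hLtop : W L = ⊤ := Nat.find_spec hN
  have hbelow : ∀ j, j < L → W j ≠ ⊤ := fun j hj => Nat.find_min hN hj
  have hL2 : 2 ≤ L := by
    by_contra h
    have h1 : W 1 = ⊤ := by
      rcases Nat.lt_or_ge L 1 with h0 | h0
      · rw [show L = 0 by omega] at hLtop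
        exact eq_top_iff.2 (hLtop ▸ hmono 0)
      · rwa [show L = 1 by omega] at hLtop
    refine hne ((Subgroup.eq_bot_iff_forall U).2 fun u hu => Subtype.ext ?_)
    refine Matrix.ext_iff_mulVec.2 fun v => ?_
    have hv : v ∈ W 1 := h1 ▸ Submodule.mem_top
    rw [hWs, hW0] at hv
    have := hv u hu
    rw [Submodule.mem_bot, sub_eq_zero] at this
    rw [this, Matrix.SpecialLinearGroup.coe_one, Matrix.one_mulVec]
  refine ⟨L - 1, fun i => W i, by omega, Fin.strictMono_iff_lt_succ.2 fun i => ?_, rfl, ?_, ?_, ?_⟩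
  · simpa using hstrict i (hbelow i (by omega))
  · show W ((Fin.last (L - 1 + 1) : Fin (L - 1 + 2)) : ℕ) = ⊤
    rw [Fin.val_last, show L - 1 + 1 = L by omega, hLtop]
  · intro g hg
    have hmap : ∀ j, ∀ g ∈ Subgroup.normalizer (U : Set (Matrix.SpecialLinearGroup (Fin n) F)), ∀ v ∈ W j,
        (g : Matrix (Fin n) (Fin n) F).mulVec v ∈ W j := by
      intro j
      induction j with
      | zero =>
        intro g _ v hv
        rw [hW0, Submodule.mem_bot] at hv ⊢
        rw [hv, Matrix.mulVec_zero]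
      | succ j ih =>
        intro g hg v hv
        rw [hWs] at hv ⊢
        intro u hu
        have hu' : g⁻¹ * u * g ∈ U := (Subgroup.mem_normalizer_iff''.1 hg u).1 hu
        have e : (u : Matrix (Fin n) (Fin n) F).mulVec ((g : Matrix (Fin n) (Fin n) F).mulVec v) -
            (g : Matrix (Fin n) (Fin n) F).mulVec v =
            (g : Matrix (Fin n) (Fin n) F).mulVec
              (((g⁻¹ * u * g : Matrix.SpecialLinearGroup (Fin n) F) : Matrix (Fin n) (Fin n) F).mulVec v - v) := by
          have hg' : u * g = g * (g⁻¹ * u * g) := by group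
          rw [Matrix.mulVec_sub, Matrix.mulVec_mulVec, Matrix.mulVec_mulVec, ← Matrix.SpecialLinearGroup.coe_mul,
            ← Matrix.SpecialLinearGroup.coe_mul, ← hg']
        rw [e]
        exact ih g hg _ (hv _ hu')
    intro i
    refine le_antisymm (Submodule.map_le_iff_le_comap.2 (hmap i g hg)) fun v hv => ?_
    refine ⟨(g⁻¹ : Matrix.SpecialLinearGroup (Fin n) F).1.mulVec v, hmap i g⁻¹ (Subgroup.inv_mem _ hg) v hv, ?_⟩
    rw [Matrix.mulVecLin_apply, Matrix.mulVec_mulVec, ← Matrix.SpecialLinearGroup.coe_mul, mul_inv_cancel,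
      Matrix.SpecialLinearGroup.coe_one, Matrix.one_mulVec]
  · intro u hu i v hv
    have hv' : v ∈ W ((i : ℕ) + 1) := by simpa using hv
    rw [hWs] at hv'
    simpa using hv' u hu

end Cfsg.Agent.S2391
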