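import Cfsg.Statements.S2400
import Cfsg.Agent.Lib.CurtisTits.UniAll

set_option autoImplicit false
open Cfsg
open Cfsg.Agent.Chev.CT

namespace Cfsg.Agent.S2400

/-- Over a finite field `K`, the group presented by Steinberg's relators (R1)–(R3) (the universal Chevalley group) of type E₆ or E₇, or of type B₂ or D₄ with `K` of more than two elements, has trivial Schur multiplier: every finite stem extension of it is an isomorphism (Schur multiplier described through stem extensions as in the definitions). Types G₂, F₄ and E₈ are not covered here. -/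
theorem result {K : Type*} [Field K] [Fintype K] (e : Cfsg.Lie.ChevalleyDatum × ℕ)
    (he : e ∈ [(Cfsg.Lie.chevE6, 0), (Cfsg.Lie.chevE7, 0), (Cfsg.Lie.chevB2, 2), (Cfsg.Lie.chevD4, 2)]) (hK : Fintype.card K ≠ e.2) :
    Cfsg.HasCyclicSchurMultiplier (e.1.SteinbergGroup K) 1 := by
  simp only [List.mem_cons, List.not_mem_nil, or_false] at he
  rcases he with rfl | rfl | rfl | rfl
  · exact schur_of_ker (finite_St ⟨Cfsg.Agent.Chev.E6.ok, Cfsg.Agent.Chev.ckComm_E6, UpE6.up_ok, UpE6.eta_sim⟩)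
      fun Γ _ _ σ hσ => ker_eq_bot_simplyLaced ⟨Cfsg.Agent.Chev.E6.ok, Cfsg.Agent.Chev.ckComm_E6, UpE6.up_ok, UpE6.eta_sim⟩
        (orth := false) (fun h => absurd h (by simp)) UniE6.uni_ok UniE6.link_ok hσ.1 hσ.2.1 hσ.2.2
  · exact schur_of_ker (finite_St ⟨Cfsg.Agent.Chev.E7.ok, Cfsg.Agent.Chev.ckComm_E7, UpE7.up_ok, UpE7.eta_sim⟩)
      fun Γ _ _ σ hσ => ker_eq_bot_simplyLaced ⟨Cfsg.Agent.Chev.E7.ok, Cfsg.Agent.Chev.ckComm_E7, UpE7.up_ok, UpE7.eta_sim⟩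
        (orth := false) (fun h => absurd h (by simp)) UniE7.uni_ok UniE7.link_ok hσ.1 hσ.2.1 hσ.2.2
  · exact schur_of_ker (finite_St ⟨Cfsg.Agent.Chev.B2.ok, Cfsg.Agent.Chev.ckComm_B2, UpB2.up_ok, UpB2.eta_sim⟩)
      fun Γ _ _ σ hσ => ker_eq_bot_B2 ⟨Cfsg.Agent.Chev.B2.ok, Cfsg.Agent.Chev.ckComm_B2, UpB2.up_ok, UpB2.eta_sim⟩
        UniB2.ok (exists_ne01 hK) hσ.1 hσ.2.1 hσ.2.2
  · exact schur_of_ker (finite_St ⟨Cfsg.Agent.Chev.D4.ok, Cfsg.Agent.Chev.ckComm_D4, UpD4.up_ok, UpD4.eta_sim⟩)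
      fun Γ _ _ σ hσ => ker_eq_bot_simplyLaced ⟨Cfsg.Agent.Chev.D4.ok, Cfsg.Agent.Chev.ckComm_D4, UpD4.up_ok, UpD4.eta_sim⟩
        (orth := true) (fun _ => exists_ne01 hK) UniD4.uni_ok UniD4.link_ok hσ.1 hσ.2.1 hσ.2.2

end Cfsg.Agent.S2400
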