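import Cfsg.Statements.S2405
import Cfsg.Agent.Lib.Chev.Gen.TwoGenMain
import Cfsg.Agent.Lib.Chev.Gen.TwoGenData
import Cfsg.Agent.Lib.CurtisTits.UniGenMain

set_option autoImplicit false
open Cfsg
open Cfsg.Agent Cfsg.Agent.Chev Cfsg.Agent.Chev.CT Cfsg.Agent.Chev.TwoGen

namespace Cfsg.Agent.S2405

/-- Each Chevalley group of type G₂, B₂, D₄, F₄, E₆, E₇ or E₈ over a finite field is generated by two of its elements (types B₂ and G₂ over the field with two elements, where the group is not simple, excepted). -/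
theorem result {F : Type*} [Field F] [Finite F] (D : Cfsg.Lie.ChevalleyDatum) (hD : D ∈ [Cfsg.Lie.chevG2, Cfsg.Lie.chevB2, Cfsg.Lie.chevD4, Cfsg.Lie.chevF4, Cfsg.Lie.chevE6, Cfsg.Lie.chevE7, Cfsg.Lie.chevE8])
    (hF : D ∈ [Cfsg.Lie.chevB2, Cfsg.Lie.chevG2] → ∃ x : F, x ≠ 0 ∧ x ≠ 1) :
    ∃ a b : ↥(D.group F), Subgroup.closure ({a, b} : Set ↥(D.group F)) = ⊤ := by
  simp only [List.mem_cons, List.not_mem_nil, or_false] at hD
  by_cases h3 : ∃ x : F, x ≠ 0 ∧ x ≠ 1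
  · rcases hD with rfl | rfl | rfl | rfl | rfl | rfl | rfl
    · exact exists_torus ⟨Chev.G2.ok, ckComm_G2, UpG2.up_ok, UpG2.eta_sim⟩ ckTorus_G2 h3
    · exact exists_torus ⟨Chev.B2.ok, ckComm_B2, UpB2.up_ok, UpB2.eta_sim⟩ ckTorus_B2 h3
    · exact exists_torus ⟨Chev.D4.ok, ckComm_D4, UpD4.up_ok, UpD4.eta_sim⟩ ckTorus_D4 h3
    · exact exists_torus ⟨Chev.F4.ok, ckComm_F4, UpF4.up_ok, UpF4.eta_sim⟩ ckTorus_F4 h3
    · exact exists_torus ⟨Chev.E6.ok, ckComm_E6, UpE6.up_ok, UpE6.eta_sim⟩ ckTorus_E6 h3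
    · exact exists_torus ⟨Chev.E7.ok, ckComm_E7, UpE7.up_ok, UpE7.eta_sim⟩ ckTorus_E7 h3
    · exact exists_torus ⟨Chev.E8.ok, ckComm_E8, UpE8.up_ok, UpE8.eta_sim⟩ ckTorus_E8 h3
  · have h2 : ∀ t : F, t = 0 ∨ t = 1 := fun t => by
      by_contra hc
      exact h3 ⟨t, fun e => hc (Or.inl e), fun e => hc (Or.inr e)⟩
    rcases hD with rfl | rfl | rfl | rfl | rfl | rfl | rfl
    · exact absurd (hF (by simp)) h3
    · exact absurd (hF (by simp)) h3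
    · exact exists_prime ⟨Chev.D4.ok, ckComm_D4, UpD4.up_ok, UpD4.eta_sim⟩ ckPrime_D4 h2
    · exact exists_prime ⟨Chev.F4.ok, ckComm_F4, UpF4.up_ok, UpF4.eta_sim⟩ ckPrime_F4 h2
    · exact exists_prime ⟨Chev.E6.ok, ckComm_E6, UpE6.up_ok, UpE6.eta_sim⟩ ckPrime_E6 h2
    · exact exists_prime ⟨Chev.E7.ok, ckComm_E7, UpE7.up_ok, UpE7.eta_sim⟩ ckPrime_E7 h2
    · exact exists_prime ⟨Chev.E8.ok, ckComm_E8, UpE8.up_ok, UpE8.eta_sim⟩ ckPrime_E8 h2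

end Cfsg.Agent.S2405
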