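import Cfsg.Statements.S2410
import Cfsg.Agent.Lib.Suzuki.Partition

set_option autoImplicit false
open Cfsg

namespace Cfsg.Agent.S2410

/-- The Suzuki group over the field with `2^(2m+1)` elements, `m ≥ 1` (realised as the stabiliser in `SL₄` of the Suzuki–Tits ovoid), is generated by two of its elements. -/
theorem result {F : Type*} [Field F] [Fintype F] {m : ℕ} (hm : 1 ≤ m) (hF : Fintype.card F = 2 ^ (2 * m + 1)) :
    ∃ a b : ↥(Cfsg.Sz F m), Subgroup.closure ({a, b} : Set ↥(Cfsg.Sz F m)) = ⊤ := by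
  obtain ⟨D⟩ := Cfsg.Agent.Suzuki.exists_dat hm hF
  obtain ⟨u, hu⟩ := IsCyclic.exists_generator (α := Fˣ)
  refine ⟨Cfsg.Agent.Suzuki.gH D u, Cfsg.Agent.Suzuki.gT D 1 0 * Cfsg.Agent.Suzuki.gw D, ?_⟩
  set M := Subgroup.closure ({Cfsg.Agent.Suzuki.gH D u, Cfsg.Agent.Suzuki.gT D 1 0 * Cfsg.Agent.Suzuki.gw D} : Set ↥(Cfsg.Sz F m)) with hMdef
  have hb : Cfsg.Agent.Suzuki.gT D 1 0 * Cfsg.Agent.Suzuki.gw D ∈ M := Subgroup.subset_closure (Or.inr rfl)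
  have ha : Cfsg.Agent.Suzuki.gH D u ∈ M := Subgroup.subset_closure (Or.inl rfl)
  let f : Fˣ →* ↥(Cfsg.Sz F m) :=
    { toFun := Cfsg.Agent.Suzuki.gH D
      map_one' := Cfsg.Agent.Suzuki.gH_one D
      map_mul' := fun u v => (Cfsg.Agent.Suzuki.gH_mul D u v).symm }
  have hH : ∀ v, Cfsg.Agent.Suzuki.gH D v ∈ M := by
    intro v
    obtain ⟨j, rfl⟩ := Subgroup.mem_zpowers_iff.1 (hu v)
    show f (u ^ j) ∈ M
    rw [map_zpow]
    exact M.zpow_mem ha j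
  obtain ⟨v, hv⟩ := Cfsg.Agent.Suzuki.exists_u D hF
  have hs : ∃ x y, x ≠ 0 ∧ Cfsg.Agent.Suzuki.gT D x y ∈ M := by
    set w := Cfsg.Agent.Suzuki.gw D
    set t := Cfsg.Agent.Suzuki.gT D 1 0
    have h1 : t * w * Cfsg.Agent.Suzuki.gH D v⁻¹ * (t * w)⁻¹ * (Cfsg.Agent.Suzuki.gH D v)⁻¹ ∈ M :=
      M.mul_mem (M.mul_mem (M.mul_mem hb (hH _)) (M.inv_mem hb)) (M.inv_mem (hH v))
    rw [show t * w * Cfsg.Agent.Suzuki.gH D v⁻¹ * (t * w)⁻¹ * (Cfsg.Agent.Suzuki.gH D v)⁻¹ =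
      t * (w * Cfsg.Agent.Suzuki.gH D v⁻¹ * w⁻¹ * t⁻¹ * (Cfsg.Agent.Suzuki.gH D v)⁻¹) by group,
      show w⁻¹ = w from inv_eq_of_mul_eq_one_right (Cfsg.Agent.Suzuki.gw_sq D), Cfsg.Agent.Suzuki.gw_gH, inv_inv,
      Cfsg.Agent.Suzuki.gT_inv, Cfsg.Agent.Suzuki.gH_gT, Cfsg.Agent.Suzuki.gT_mul] at h1
    refine ⟨_, _, fun h => hv (Units.ext (D.sq_inj ?_)), h1⟩
    rw [Units.val_one, one_pow]
    linear_combination h - D.two
  obtain ⟨x, y, hx, hxy⟩ := hs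
  have hscale : ∀ x' : F, x' ≠ 0 → ∃ y', Cfsg.Agent.Suzuki.gT D x' y' ∈ M := by
    intro x' hx'
    obtain ⟨r, hr⟩ := D.theta_surj (x' / x)
    obtain ⟨s, hs⟩ := D.theta_surj r
    have hs2 : s ^ 2 = x' / x := by rw [← D.sq, hs, hr]
    have hs0 : s ≠ 0 := fun e => by
      rw [e] at hs2
      exact div_ne_zero hx' hx (by rw [← hs2]; ring)
    have h1 := M.mul_mem (M.mul_mem (hH (Units.mk0 s hs0)) hxy) (M.inv_mem (hH (Units.mk0 s hs0)))
    rw [Cfsg.Agent.Suzuki.gH_gT, Units.val_mk0, hs2, div_mul_cancel₀ _ hx] at h1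
    exact ⟨_, h1⟩
  have hcen : ∀ b', Cfsg.Agent.Suzuki.gT D 0 b' ∈ M := by
    have hsurj : Function.Surjective (fun c : F => D.θ c * c) := by
      refine Finite.injective_iff_surjective.1 fun c d h => ?_
      change D.θ c * c = D.θ d * d at h
      by_cases hd : d = 0
      · subst hd; simpa [D.theta_eq_zero] using h
      · refine (div_eq_one_iff_eq hd).1 (Cfsg.Agent.Suzuki.scale_eq_one D hF ?_ ?_)
        · refine div_ne_zero (fun hc => hd ?_) hd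
          subst hc; simpa [D.theta_eq_zero, eq_comm] using h
        · rw [map_div₀, div_mul_div_comm, h, div_self (mul_ne_zero ((map_ne_zero D.θ).2 hd) hd)]
    intro b'
    obtain ⟨c, hc⟩ := hsurj b'
    change D.θ c * c = b' at hc
    by_cases hc0 : c = 0
    · subst hc0
      rw [← hc, mul_zero, Cfsg.Agent.Suzuki.gT_zero]; exact M.one_mem
    · obtain ⟨y', hy'⟩ := hscale c hc0
      have h2 := M.mul_mem hy' hy'
      rw [Cfsg.Agent.Suzuki.gT_mul, D.add_self, D.add_self, zero_add, hc] at h2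
      exact h2
  have hQ : ∀ a' b', Cfsg.Agent.Suzuki.gT D a' b' ∈ M := by
    intro a' b'
    by_cases ha' : a' = 0
    · subst ha'; exact hcen b'
    · obtain ⟨y', hy'⟩ := hscale a' ha'
      have h2 := M.mul_mem hy' (hcen (b' + y'))
      rw [Cfsg.Agent.Suzuki.gT_mul] at h2
      convert h2 using 2
      · simp
      · simp only [mul_zero, add_zero]; linear_combination (-y') * D.two
  obtain ⟨P, hP⟩ := Cfsg.Agent.Suzuki.exists_sylow_point D hF (Cfsg.Agent.Suzuki.oI D)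
  refine Cfsg.Agent.Suzuki.eq_top_of_sylow_le D hF hP (fun g hg => ?_) hb (fun e => ?_)
  · obtain ⟨a', b', rfl⟩ := (Cfsg.Agent.Suzuki.mem_Q_iff D hF).2 ((hP g).1 hg)
    exact hQ a' b'
  · rw [mul_smul, Cfsg.Agent.Suzuki.gw_oI, Cfsg.Agent.Suzuki.gT_oP] at e
    exact Cfsg.Agent.Suzuki.oI_ne_oP D _ _ e.symm


end Cfsg.Agent.S2410
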