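import Cfsg.Statements.S2411
import Cfsg.Agent.Lib.ClassTwoGen.Sp

set_option autoImplicit false
open Cfsg

namespace Cfsg.Agent.S2411

open Matrix Cfsg.Agent.AutPSp Cfsg.Agent.ClassTwoGen.SpGen

universe u

variable {k : ℕ} {F : Type u} [Field F] [Fintype F]

theorem tr_add {m : ℕ} (x : Fin m ⊕ Fin m → F) (c d : F) :
    (tr x c * tr x d : Matrix.symplecticGroup (Fin m) F) = tr x (c + d) := by
  rw [tr, tr, tr, qE_mul]
  exact qE_congr (add_zero _) (by simp)

theorem tr_pow {m : ℕ} (x : Fin m ⊕ Fin m → F) (c : F) (n : ℕ) :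
    (tr x c : Matrix.symplecticGroup (Fin m) F) ^ n = tr x (n * c) := by
  induction n with
  | zero => simp [tr_zero]
  | succ n ih => rw [pow_succ, ih, tr_add]; push_cast; ring_nf

/-- An additive subgroup containing all squares is everything. -/
theorem addSubgroup_eq_univ (S : AddSubgroup F) (h : ∀ a : F, a * a ∈ S) (x : F) : x ∈ S := by
  by_cases h2 : (2 : F) = 0
  · have : ringChar F = 2 := by
      haveI : CharP F 2 := CharTwo.of_one_ne_zero_of_two_eq_zero one_ne_zero h2
      exact ringChar.eq F 2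
    obtain ⟨a, rfl⟩ := FiniteField.isSquare_of_char_two this x
    exact h a
  · have e : x = (x + 1) / 2 * ((x + 1) / 2) - (x - 1) / 2 * ((x - 1) / 2) := by
      field_simp
      ring
    rw [e]
    exact S.sub_mem (h _) (h _)

open scoped Classical in
theorem exists_gen_big (hq : 2 < Fintype.card F) :
    ∃ a b : Matrix.symplecticGroup (Fin (k + 2)) F, Subgroup.closure {a, b} = ⊤ := by
  obtain ⟨l, hl⟩ := IsCyclic.exists_generator (α := Fˣ)
  have hl1 : (l : F) ≠ 1 := by
    intro e
    have hu : ∀ x : Fˣ, x = 1 := fun x => by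
      obtain ⟨n, rfl⟩ := Subgroup.mem_zpowers_iff.1 (hl x)
      rw [Units.ext (e.trans Units.val_one.symm), _root_.one_zpow]
    haveI : Subsingleton Fˣ := ⟨fun x y => (hu x).trans (hu y).symm⟩
    have h1 := Fintype.card_le_one_iff_subsingleton.2 this
    rw [Fintype.card_units] at h1
    omega
  let e0 : Fin (k + 2) ⊕ Fin (k + 2) → F := bv (Sum.inl 0)
  let e1 : Fin (k + 2) ⊕ Fin (k + 2) → F := bv (Sum.inl 1)
  let T := tor (F := F) (k := k) 0
  let a : Matrix.symplecticGroup (Fin (k + 2)) F := T l * tr e1 1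
  let b : Matrix.symplecticGroup (Fin (k + 2)) F := shear 1 * cyc
  refine ⟨a, b, ?_⟩
  set M := Subgroup.closure ({a, b} : Set (Matrix.symplecticGroup (Fin (k + 2)) F))
  have ha : a ∈ M := Subgroup.subset_closure (Set.mem_insert _ _)
  have hb : b ∈ M := Subgroup.subset_closure (Set.mem_insert_of_mem _ rfl)
  have hcomm : Commute (T l) (tr e1 1) := by
    have h := tr_conj (T l) e1 1
    rw [tor_apply_inl, if_neg (by simp), one_smul] at h
    exact mul_inv_eq_iff_eq_mul.1 h
  have hpow : a ^ (Fintype.card Fˣ) = tr e1 (-1) := by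
    rw [hcomm.mul_pow, ← map_pow, pow_card_eq_one, map_one, one_mul, tr_pow, Fintype.card_units,
      Nat.cast_sub Fintype.card_pos, Nat.cast_card_eq_zero]
    simp
  have ht1 : tr e1 1 ∈ M := by
    have h := M.inv_mem (M.pow_mem ha (Fintype.card Fˣ))
    rwa [hpow, inv_eq_of_mul_eq_one_right (b := tr e1 1)
      (by rw [tr_add, neg_add_cancel, tr_zero])] at h
  have hT : T l ∈ M := by
    have h := M.mul_mem ha (M.inv_mem ht1)
    rwa [mul_inv_cancel_right] at h
  have hTall : ∀ x : Fˣ, T x ∈ M := fun x => by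
    obtain ⟨n, rfl⟩ := Subgroup.mem_zpowers_iff.1 (hl x)
    rw [map_zpow]
    exact M.zpow_mem hT n
  -- the commutator of the torus element with its conjugate is a root element
  have hconj : b * T l * b⁻¹ = shear 1 * tor 1 l * (shear 1)⁻¹ := by
    show shear 1 * cyc * T l * (shear 1 * cyc)⁻¹ = _
    rw [_root_.mul_inv_rev, mul_assoc (shear 1) cyc, cyc_tor_zero]
    group
  let t0 : F := (l : F) + (↑l⁻¹ : F) * (1 - l) - 1
  have hcomm' : T l * (b * T l * b⁻¹) * (T l)⁻¹ * (b * T l * b⁻¹)⁻¹ = shear t0 := by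
    have h1 := tor_shear_conj (k := k) 0 (Or.inl rfl) l (1 : F)
    rw [if_pos rfl, mul_one] at h1
    have h2 := tor_shear_conj (k := k) 1 (Or.inr rfl) l (1 - (l : F))
    rw [if_neg (by simp)] at h2
    rw [hconj]
    calc T l * (shear 1 * tor 1 l * (shear 1)⁻¹) * (T l)⁻¹ *
          (shear 1 * tor 1 l * (shear 1)⁻¹)⁻¹
        = (T l * shear 1 * (T l)⁻¹) * (T l * tor 1 l * (T l)⁻¹) *
            ((T l * shear 1 * (T l)⁻¹)⁻¹ * shear 1) * (tor 1 l)⁻¹ * (shear 1)⁻¹ := by group
      _ = shear (l : F) * tor 1 l * (shear (-(l : F)) * shear 1) * (tor 1 l)⁻¹ * shear (-1) := by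
          rw [h1, shear_inv, shear_inv]
          congr 4
          rw [show T l = tor 0 l from rfl, tor_comm, mul_inv_cancel_right]
      _ = shear (l : F) * (tor 1 l * shear (1 - (l : F)) * (tor 1 l)⁻¹) * shear (-1) := by
          rw [shear_mul, neg_add_eq_sub]; group
      _ = shear t0 := by
          rw [h2, shear_mul, shear_mul]
          congr 1
          exact (sub_eq_add_neg _ _).symm
  have ht0 : t0 ≠ 0 := by
    have e : (l : F) * t0 = ((l : F) - 1) * ((l : F) - 1) := by
      simp only [t0]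
      linear_combination (1 - (l : F)) * Units.mul_inv l
    intro h
    rw [h, mul_zero] at e
    exact hl1 (sub_eq_zero.1 (mul_self_eq_zero.1 e.symm))
  have hs0 : shear t0 ∈ M := by
    rw [← hcomm']
    have hg := M.mul_mem (M.mul_mem hb hT) (M.inv_mem hb)
    exact M.mul_mem (M.mul_mem (M.mul_mem hT hg) (M.inv_mem hT)) (M.inv_mem hg)
  have hshear : ∀ t : F, shear t ∈ M := by
    intro t
    by_cases ht : t = 0
    · rw [ht, shear_zero]; exact M.one_mem
    have h := tor_shear_conj (k := k) 0 (Or.inl rfl) (Units.mk0 (t / t0) (div_ne_zero ht ht0)) t0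
    rw [if_pos rfl, Units.val_mk0, div_mul_cancel₀ _ ht0] at h
    rw [← h]
    exact M.mul_mem (M.mul_mem (hTall _) hs0) (M.inv_mem (hTall _))
  have hc : cyc ∈ M := by
    have h := M.mul_mem (M.inv_mem (hshear 1)) hb
    rwa [inv_mul_cancel_left] at h
  have ht : tr e0 1 ∈ M := by
    have h := M.mul_mem (M.mul_mem (M.inv_mem hc) ht1) hc
    have e : (cyc : Matrix.symplecticGroup (Fin (k + 2)) F).1 *ᵥ e0 = e1 := by
      simpa using cyc_bv_inl (k := k) (F := F) 0
    rw [show e1 = (cyc : Matrix.symplecticGroup (Fin (k + 2)) F).1 *ᵥ e0 from e.symm, ← tr_conj] at h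
    simpa [mul_assoc] using h
  let S : AddSubgroup F :=
    { carrier := {c | tr e0 c ∈ M}
      zero_mem' := by show tr e0 0 ∈ M; rw [tr_zero]; exact M.one_mem
      add_mem' := fun {c d} hc hd => by
        show tr e0 (c + d) ∈ M; rw [← tr_add]; exact M.mul_mem hc hd
      neg_mem' := fun {c} hc => by
        show tr e0 (-c) ∈ M
        have e : (tr e0 c)⁻¹ = tr e0 (-c) :=
          inv_eq_of_mul_eq_one_right (by rw [tr_add, add_neg_cancel, tr_zero])
        rw [← e]; exact M.inv_mem hc }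
  have hsq : ∀ x : F, x * x ∈ S := by
    intro x
    by_cases hx : x = 0
    · rw [hx, mul_zero]; exact S.zero_mem
    show tr e0 (x * x) ∈ M
    have e := tr_conj (T (Units.mk0 x hx)) e0 1
    rw [tor_apply_inl, if_pos rfl, Units.val_mk0, tr_smul, mul_one] at e
    rw [← e]
    exact M.mul_mem (M.mul_mem (hTall _) ht) (M.inv_mem (hTall _))
  have h0 : InW M e0 := fun c => addSubgroup_eq_univ S hsq c
  refine eq_top_of_cyc hc h0 (j0 := 0) ?_
  have h1 : InW M e1 := by
    have h := h0.map hc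
    have e : (cyc : Matrix.symplecticGroup (Fin (k + 2)) F).1 *ᵥ e0 = e1 := by
      simpa using cyc_bv_inl (k := k) (F := F) 0
    rwa [e] at h
  have h := h1.map (hshear 1)
  rw [shear_apply_one, one_smul, add_comm (bv (Sum.inl 1) : Fin (k + 2) ⊕ Fin (k + 2) → F)] at h
  simpa using h

theorem exists_gen_two (hk : 1 ≤ k) (hq : Fintype.card F = 2) :
    ∃ a b : Matrix.symplecticGroup (Fin (k + 2)) F, Subgroup.closure {a, b} = ⊤ := by
  classical
  let p : Fin (k + 2) := ⟨1, by omega⟩
  let q : Fin (k + 2) := ⟨2, by omega⟩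
  have hne : p ≠ q := fun e => by simpa [p, q] using congrArg Fin.val e
  have h2 : (2 : F) = 0 := by
    have h := Nat.cast_card_eq_zero F
    rw [hq] at h
    exact_mod_cast h
  have hF : ∀ x : F, x = 0 ∨ x = 1 := by
    intro x
    by_contra hx
    push Not at hx
    have h3 : ({0, 1, x} : Finset F).card = 3 :=
      Finset.card_eq_three.2 ⟨0, 1, x, zero_ne_one, hx.1.symm, hx.2.symm, rfl⟩
    have := Finset.card_le_univ ({0, 1, x} : Finset F)
    omega
  let e0 : Fin (k + 2) ⊕ Fin (k + 2) → F := bv (Sum.inl 0)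
  let a : Matrix.symplecticGroup (Fin (k + 2)) F := tr e0 1 * tri hne
  refine ⟨a, cyc, ?_⟩
  set M := Subgroup.closure ({a, cyc} : Set (Matrix.symplecticGroup (Fin (k + 2)) F))
  have ha : a ∈ M := Subgroup.subset_closure (Set.mem_insert _ _)
  have hb : cyc ∈ M := Subgroup.subset_closure (Set.mem_insert_of_mem _ rfl)
  have hfix := tri_fix (F := F) hne (i := 0)
    (fun e => by simpa [p] using congrArg Fin.val e) (fun e => by simpa [q] using congrArg Fin.val e)
  have hcomm : Commute (tr e0 1) (tri hne) := by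
    have h := tr_conj (tri hne) e0 1
    rw [hfix] at h
    exact (mul_inv_eq_iff_eq_mul.1 h).symm
  have hr2 : tr e0 1 * tr e0 1 = 1 := by
    rw [tr_add, one_add_one_eq_two, h2, tr_zero]
  have hr : tr e0 1 ∈ M := by
    have h := M.pow_mem ha 3
    rwa [hcomm.mul_pow, tri_pow_three, mul_one, pow_succ, pow_two, hr2, one_mul] at h
  have hy : tri hne ∈ M := by
    have h := M.mul_mem hr ha
    rwa [← mul_assoc, hr2, one_mul] at h
  have h0 : InW M e0 := fun c => by
    rcases hF c with rfl | rfl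
    · rw [tr_zero]; exact M.one_mem
    · exact hr
  refine eq_top_of_cyc hb h0 (j0 := ⟨1, by omega⟩) ?_
  have hq' : InW M (bv (Sum.inl q) : Fin (k + 2) ⊕ Fin (k + 2) → F) := by
    have h := (h0.map hb).map hb
    have e1 : (cyc : Matrix.symplecticGroup (Fin (k + 2)) F).1 *ᵥ e0 = bv (Sum.inl p) :=
      cyc_bv_inl (k := k) (F := F) ⟨0, by omega⟩
    have e2 : (cyc : Matrix.symplecticGroup (Fin (k + 2)) F).1 *ᵥ bv (Sum.inl p) = bv (Sum.inl q) :=
      cyc_bv_inl (k := k) (F := F) ⟨1, by omega⟩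
    rwa [e1, e2] at h
  have h := (hq'.map hy).smul (-1)
  rw [tri_snd, neg_one_smul, neg_neg] at h
  exact h

/-- The projective symplectic group `PSp_{2m}(q)` with `m ≥ 2` (and `q > 2` if `m = 2`) is generated by two of its elements. -/
theorem result {F : Type*} [Field F] [Fintype F] (m : ℕ) (hm : 2 ≤ m) (hF : m = 2 → 2 < Fintype.card F) :
    ∃ a b : Cfsg.PSp m F, Subgroup.closure ({a, b} : Set (Cfsg.PSp m F)) = ⊤ := by
  obtain ⟨k, rfl⟩ := Nat.exists_eq_add_of_le hm
  rw [add_comm] at hF ⊢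
  obtain ⟨a, b, hab⟩ : ∃ a b : Matrix.symplecticGroup (Fin (k + 2)) F,
      Subgroup.closure {a, b} = ⊤ := by
    rcases lt_or_ge 2 (Fintype.card F) with h | h
    · exact exists_gen_big h
    · have h1 := Fintype.one_lt_card (α := F)
      refine exists_gen_two ?_ (by omega)
      by_contra hk
      have := hF (by omega)
      omega
  refine ⟨proj (k + 2) F a, proj (k + 2) F b, ?_⟩
  have h := congrArg (Subgroup.map (proj (k + 2) F)) hab
  rw [MonoidHom.map_closure, Set.image_pair,
    Subgroup.map_top_of_surjective _ proj_surjective] at h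
  exact h

end Cfsg.Agent.S2411
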