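import Cfsg.Statements.S2412
import Cfsg.Agent.Lib.ClassTwoGen.SUGen

set_option autoImplicit false
open Cfsg

namespace Cfsg.Agent.S2412

open Cfsg.Agent Cfsg.Agent.ClassTwoGen.SUGen

universe u

variable {F : Type u} [Field F] [Fintype F] {q n : ℕ} (U : UD F q)

theorem pr_single (i : Fin n) (c : F) (u : Fin n → F) :
    pr U (Pi.single i c) u = c * U.σ (u i) := by
  classical
  simp [pr, FormsLib.hermB, Pi.single_apply, Finset.sum_ite_eq']

/-- First coordinate of a pair. -/
def cA {k : ℕ} (hn : 2 * (k + 1) ≤ n) (i : Fin (k + 1)) : Fin n := ⟨2 * i.val, by omega⟩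

/-- Second coordinate of a pair. -/
def cB {k : ℕ} (hn : 2 * (k + 1) ≤ n) (i : Fin (k + 1)) : Fin n := ⟨2 * i.val + 1, by omega⟩

theorem coord_facts {k : ℕ} (hn : 2 * (k + 1) ≤ n) (i j : Fin (k + 1)) :
    (cA hn i = cA hn j ↔ i = j) ∧ (cB hn i = cB hn j ↔ i = j) ∧ cA hn i ≠ cB hn j ∧
      cB hn i ≠ cA hn j := by
  simp only [cA, cB, ne_eq, Fin.ext_iff]
  omega

theorem exists_hyp (hF : Fintype.card F = q ^ 2) (hq : 2 ≤ q) {k : ℕ} (hn : 2 * (k + 1) ≤ n) :
    ∃ H : HypU U n (k + 1), ∀ v,
      (∀ i, v (cA hn i) = 0 ∧ v (cB hn i) = 0) ↔ H.Perp v := by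
  classical
  obtain ⟨a, ha⟩ := (FormsLib.hermB_isUnitary hF 1 U.pow U.inv hq).1.norm_surj (-1 : F)
    (by rw [map_neg, map_one])
  obtain ⟨g, hg⟩ := IsCyclic.exists_generator (α := Fˣ)
  set ν : F := U.σ (g : F) * (↑g⁻¹ : F) with hν
  have hνν : ν * U.σ ν = 1 := by
    have h2 : U.σ (g : F) * U.σ (↑g⁻¹ : F) = 1 := by rw [← map_mul, Units.mul_inv, map_one]
    rw [hν, map_mul, U.inv]
    linear_combination (U.σ (g : F) * U.σ (↑g⁻¹ : F)) * Units.inv_mul g + h2
  have hν1 : ν ≠ 1 := by
    intro e
    have e1 : U.σ (g : F) = g := by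
      linear_combination (g : F) * e - U.σ (g : F) * Units.mul_inv g
    rw [U.pow] at e1
    have e2 : (g : F) * (g : F) ^ (q - 1) = (g : F) * 1 := by
      rw [← pow_succ', mul_one, show q - 1 + 1 = q by omega, e1]
    have : q * 2 ≤ q ^ 2 := by rw [pow_two]; exact Nat.mul_le_mul_left q hq
    exact gen_pow_ne_one hF hg (j := q - 1) (by omega) (by omega)
      (mul_left_cancel₀ (Units.ne_zero g) e2)
  have hσν1 : U.σ ν ≠ 1 := fun e => hν1 (U.σ.injective (by rw [e, map_one]))
  have ha0 : a ≠ 0 := fun e => by simp [e] at ha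
  set c : F := (1 - ν)⁻¹ with hc
  have hc0 : c ≠ 0 := inv_ne_zero (sub_ne_zero.2 (Ne.symm hν1))
  have hcν : U.σ c * (1 - U.σ ν) = 1 := by
    rw [hc, map_inv₀, map_sub, map_one, inv_mul_cancel₀ (sub_ne_zero.2 (Ne.symm hσν1))]
  let e' : Fin (k + 1) → Fin n → F := fun i => Pi.single (cA hn i) 1 + Pi.single (cB hn i) a
  let f' : Fin (k + 1) → Fin n → F := fun i =>
    Pi.single (cA hn i) c + Pi.single (cB hn i) (c * (a * ν))
  have key : ∀ i j : Fin (k + 1), ∀ x y x' y' : F,
      pr U (Pi.single (cA hn i) x + Pi.single (cB hn i) y)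
        (Pi.single (cA hn j) x' + Pi.single (cB hn j) y') =
      if i = j then x * U.σ x' + y * U.σ y' else 0 := by
    intro i j x y x' y'
    obtain ⟨h1, h2, h3, h4⟩ := coord_facts hn i j
    rw [pr_add_left, pr_single, pr_single]
    by_cases h : i = j
    · subst h
      simp [Pi.single_apply, h3, h4]
    · simp [Pi.single_apply, h1, h2, h3, h4, h]
  have keyv : ∀ (v : Fin n → F) (i : Fin (k + 1)) (x y : F),
      pr U v (Pi.single (cA hn i) x + Pi.single (cB hn i) y) =
        U.σ x * v (cA hn i) + U.σ y * v (cB hn i) := by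
    intro v i x y
    rw [pr_swap, pr_add_left, pr_single, pr_single, map_add, map_mul, map_mul, U.inv, U.inv]
  refine ⟨⟨e', f', fun i j => ?_, fun i j => ?_, fun i j => ?_⟩, fun v => ?_⟩
  · simp only [e', key]
    split_ifs
    · rw [map_one]; linear_combination ha
    · rfl
  · simp only [f', key]
    split_ifs
    · simp only [map_mul]
      linear_combination (c * U.σ c * ν * U.σ ν) * ha - c * U.σ c * hνν
    · rfl
  · simp only [e', f', key]
    split_ifs
    · simp only [map_mul]
      linear_combination (U.σ c * U.σ ν) * ha + hcν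
    · rfl
  · constructor
    · intro h i
      show pr U v (e' i) = 0 ∧ pr U v (f' i) = 0
      simp only [e', f', keyv, (h i).1, (h i).2]
      simp
    · intro h i
      have h' : pr U v (e' i) = 0 ∧ pr U v (f' i) = 0 := h i
      simp only [e', f', keyv, map_mul, map_one] at h'
      obtain ⟨he, hf⟩ := h'
      have hB : v (cB hn i) = 0 := by
        have : (U.σ c * U.σ a * (1 - U.σ ν)) * v (cB hn i) = 0 := by
          linear_combination U.σ c * he - hf
        refine (mul_eq_zero.1 this).resolve_left ?_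
        exact mul_ne_zero (mul_ne_zero ((map_ne_zero U.σ).2 hc0) ((map_ne_zero U.σ).2 ha0))
          (sub_ne_zero.2 (Ne.symm hσν1))
      refine ⟨?_, hB⟩
      rw [hB] at he
      linear_combination he

/-- The projective special unitary group `PSU_n(q)` with `n ≥ 3`, realised over the field with `q²` elements, `(n, q) ≠ (3, 2)`, is generated by two of its elements. -/
theorem result {F : Type*} [Field F] [Fintype F] {q : ℕ} (hq : IsPrimePow q) (hF : Fintype.card F = q ^ 2) (n : ℕ) (hn : 3 ≤ n) (h32 : n = 3 → q ≠ 2) :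
    ∃ a b : Cfsg.PSU n F q, Subgroup.closure ({a, b} : Set (Cfsg.PSU n F q)) = ⊤ := by
  classical
  obtain ⟨σ, hσ, hinv, hq2⟩ := FormsLib.exists_qhom hF
  let U : UD F q := ⟨σ, hσ, hinv⟩
  have h32' : ¬ (n = 3 ∧ q = 2) := fun h => h32 h.1 h.2
  obtain ⟨a, b, hab⟩ : ∃ a b : Cfsg.SU n F q,
      Subgroup.closure ({a, b} : Set (Cfsg.SU n F q)) = ⊤ := by
    obtain ⟨k, hk⟩ : ∃ k, n = 2 * (k + 1) ∨ n = 2 * (k + 1) + 1 := ⟨n / 2 - 1, by omega⟩
    obtain ⟨H, hH⟩ := exists_hyp U hF hq2 (k := k) (n := n) (by omega)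
    rcases hk with hk | hk
    · refine exists_two_gen_even hF hq2 h32' H (by omega) fun v hv => funext fun x => ?_
      have h := (hH v).2 hv ⟨x.val / 2, by omega⟩
      rcases Nat.mod_two_eq_zero_or_one x.val with e | e
      · rw [show x = cA (n := n) (k := k) (by omega) ⟨x.val / 2, by omega⟩ from
          Fin.ext (by simp only [cA]; omega)]
        exact h.1
      · rw [show x = cB (n := n) (k := k) (by omega) ⟨x.val / 2, by omega⟩ from
          Fin.ext (by simp only [cB]; omega)]
        exact h.2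
    · let last : Fin n := ⟨2 * (k + 1), by omega⟩
      let w : Fin n → F := Pi.single last 1
      have hne : ∀ i : Fin (k + 1), cA (n := n) (k := k) (by omega) i ≠ last ∧
          cB (n := n) (k := k) (by omega) i ≠ last := fun i => by
        simp only [cA, cB, last, ne_eq, Fin.ext_iff]; omega
      have hw : H.Perp w := (hH w).1 fun i => by simp [w, (hne i).1, (hne i).2]
      refine exists_two_gen_odd hF hq2 h32' H (fun e => ?_) hw ?_ fun v hv => ⟨v last, funext fun x => ?_⟩
      · by_contra hk0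
        exact h32 (by omega) e
      · rw [pr_single, one_mul]; simp [w]
      · by_cases hx : x = last
        · subst hx; simp [w]
        · have hx' : x.val < 2 * (k + 1) := by
            have : x.val ≠ 2 * (k + 1) := fun e => hx (Fin.ext e)
            omega
          have h := (hH v).2 hv ⟨x.val / 2, by omega⟩
          simp only [w, Pi.smul_apply, Pi.single_eq_of_ne hx, smul_zero]
          rcases Nat.mod_two_eq_zero_or_one x.val with e | e
          · rw [show x = cA (n := n) (k := k) (by omega) ⟨x.val / 2, by omega⟩ from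
              Fin.ext (by simp only [cA]; omega)]
            exact h.1
          · rw [show x = cB (n := n) (k := k) (by omega) ⟨x.val / 2, by omega⟩ from
              Fin.ext (by simp only [cB]; omega)]
            exact h.2
  let π : Cfsg.SU n F q →* Cfsg.PSU n F q := QuotientGroup.mk' _
  refine ⟨π a, π b, ?_⟩
  have h := congrArg (Subgroup.map π) hab
  rwa [MonoidHom.map_closure, Set.image_pair,
    Subgroup.map_top_of_surjective π (QuotientGroup.mk'_surjective _)] at h

end Cfsg.Agent.S2412
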