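import Cfsg.Statements.S2413
import Cfsg.Agent.Lib.ClassTwoGen.OmProj
import Cfsg.Agent.Lib.ClassTwoGen.OmAniso
import Cfsg.Agent.Lib.Forms.OddInvol
import Cfsg.Agent.S0301
import Cfsg.Agent.S2411

set_option autoImplicit false
open Cfsg

namespace Cfsg.Agent.S2413

open Cfsg.Agent Cfsg.Agent.TransvMax Cfsg.Agent.QMax Cfsg.Agent.ClassTwoGen

universe u

variable {F : Type u} [Field F] {m : ℕ}

theorem polar_odd (v w : Unit ⊕ (Fin m ⊕ Fin m) → F) :
    QuadraticMap.polar (FormsLib.qOdd m F) v w =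
      2 * v (.inl ()) * w (.inl ()) +
      ∑ i, (v (.inr (.inl i)) * w (.inr (.inr i)) + w (.inr (.inl i)) * v (.inr (.inr i))) := by
  simp only [QuadraticMap.polar, FormsLib.coe_qOdd, Cfsg.quadFormOdd, Pi.add_apply, mul_add,
    add_mul, Finset.sum_add_distrib]
  ring

/-- The standard hyperbolic system. -/
noncomputable def stdHyp (m : ℕ) : Hyp (FormsLib.qOdd m F) m where
  e i := Pi.single (.inr (.inl i)) 1
  f i := Pi.single (.inr (.inr i)) 1
  qe i := by simp [FormsLib.coe_qOdd, Cfsg.quadFormOdd]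
  qf i := by simp [FormsLib.coe_qOdd, Cfsg.quadFormOdd]
  ee i j := by simp [QuadraticMap.polarBilin_apply_apply, polar_odd]
  ff i j := by simp [QuadraticMap.polarBilin_apply_apply, polar_odd]
  ef i j := by simp [QuadraticMap.polarBilin_apply_apply, polar_odd, Pi.single_apply, eq_comm]

theorem perp_iff {v : Unit ⊕ (Fin m ⊕ Fin m) → F} :
    (stdHyp m).Perp v ↔ ∀ x, v (.inr x) = 0 := by
  constructor
  · rintro h (i | i)
    · simpa [QuadraticMap.polarBilin_apply_apply, polar_odd, stdHyp, Pi.single_apply] using (h i).2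
    · simpa [QuadraticMap.polarBilin_apply_apply, polar_odd, stdHyp, Pi.single_apply] using (h i).1
  · intro h i
    simp [QuadraticMap.polarBilin_apply_apply, polar_odd, stdHyp, Pi.single_apply, h]

/-- The simple orthogonal group `PΩ_{2m+1}(q)` (commutator subgroup of the orthogonal group of `x₀² + Σ x_i y_i` modulo its centre) with `m ≥ 2` and `q` odd is generated by two of its elements. -/
theorem result {F : Type*} [Field F] [Fintype F] (hodd : Odd (Fintype.card F)) (m : ℕ) (hm : 2 ≤ m) :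
    ∃ a b : Cfsg.POmega F (Cfsg.quadFormOdd m F), Subgroup.closure ({a, b} : Set (Cfsg.POmega F (Cfsg.quadFormOdd m F))) = ⊤ := by
  classical
  have h2 : (2 : F) ≠ 0 := by
    intro h
    haveI : CharP F 2 := CharTwo.of_one_ne_zero_of_two_eq_zero one_ne_zero h
    have := FiniteField.even_card_iff_char_two.1 (ringChar.eq F 2)
    rw [Nat.odd_iff] at hodd
    omega
  rcases Nat.eq_or_lt_of_le hm with rfl | hm3
  · obtain ⟨e⟩ := S0301.result (F := F) hodd
    obtain ⟨x, y, hxy⟩ := S2411.result (F := F) 2 le_rfl (fun _ => by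
      have := Fintype.one_lt_card (α := F)
      rw [Nat.odd_iff] at hodd
      omega)
    refine ⟨e.symm x, e.symm y, ?_⟩
    have h := congrArg (Subgroup.map e.symm.toMonoidHom) hxy
    rwa [MonoidHom.map_closure, Set.image_pair, Subgroup.map_top_of_surjective _ e.symm.surjective] at h
  obtain ⟨k, rfl⟩ : ∃ k, m = k + 1 := ⟨m - 1, by omega⟩
  have S : QSetting (FormsLib.qOdd (k + 1) F) :=
    ⟨FormsLib.qOdd_nondeg h2, by simp [Fintype.card_sum]; omega⟩
  refine exists_two_gen_POmega FormsLib.coe_qOdd ?_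
  let z : Unit ⊕ (Fin (k + 1) ⊕ Fin (k + 1)) → F := Pi.single (.inl ()) 1
  have h1 : FormsLib.qOdd (k + 1) F z = 1 := by simp [z, FormsLib.coe_qOdd, Cfsg.quadFormOdd]
  have hp : (stdHyp (k + 1)).Perp z := perp_iff.2 fun x => by simp [z]
  refine exists_two_gen_aniso S (stdHyp (k + 1)) (by omega) h1 hp hp (fun v hv => ?_) (Or.inl ?_)
  · refine ⟨v (.inl ()), 0, ?_⟩
    funext x
    rcases x with x | x
    · simp [z]
    · simp [z, perp_iff.1 hv x]
  · rw [QuadraticMap.polarBilin_apply_apply, polar_odd]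
    simp [z, h2]

end Cfsg.Agent.S2413
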