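import Cfsg.Statements.S2414
import Cfsg.Agent.Lib.ClassTwoGen.OmProj
import Cfsg.Agent.Lib.LinearGroups.OrthForms

set_option autoImplicit false
open Cfsg

namespace Cfsg.Agent.S2414

open Cfsg.Agent Cfsg.Agent.TransvMax Cfsg.Agent.QMax Cfsg.Agent.ClassTwoGen

universe u

variable {F : Type u} [Field F]

theorem pB_plus (m : ℕ) (v w : Fin m ⊕ Fin m → F) :
    QuadraticMap.polar (OrthOrder.qPlus m F) v w =
      ∑ i, (v (.inl i) * w (.inr i) + w (.inl i) * v (.inr i)) := by
  simp only [QuadraticMap.polar, OrthOrder.qPlus_apply,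
    Cfsg.quadFormPlus, Pi.add_apply, mul_add, add_mul, Finset.sum_add_distrib]
  ring

/-- The standard hyperbolic system. -/
noncomputable def stdHyp (m : ℕ) : Hyp (OrthOrder.qPlus m F) m where
  e i := Pi.single (.inl i) 1
  f i := Pi.single (.inr i) 1
  qe i := by simp [OrthOrder.qPlus_apply, Cfsg.quadFormPlus]
  qf i := by simp [OrthOrder.qPlus_apply, Cfsg.quadFormPlus]
  ee i j := by simp [QuadraticMap.polarBilin_apply_apply, pB_plus]
  ff i j := by simp [QuadraticMap.polarBilin_apply_apply, pB_plus]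
  ef i j := by simp [QuadraticMap.polarBilin_apply_apply, pB_plus, Pi.single_apply, eq_comm]

theorem stdHyp_perp (m : ℕ) (v : Fin m ⊕ Fin m → F) (hv : (stdHyp m).Perp v) : v = 0 := by
  funext x
  rcases x with i | i
  · simpa [QuadraticMap.polarBilin_apply_apply, pB_plus, stdHyp, Pi.single_apply] using (hv i).2
  · simpa [QuadraticMap.polarBilin_apply_apply, pB_plus, stdHyp, Pi.single_apply] using (hv i).1

/-- The simple orthogonal group `PΩ⁺_{2m}(q)` (commutator subgroup of the orthogonal group of `Σ x_i y_i` modulo its centre) with `m ≥ 4` is generated by two of its elements. -/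
theorem result {F : Type*} [Field F] [Fintype F] (m : ℕ) (hm : 4 ≤ m) :
    ∃ a b : Cfsg.POmega F (Cfsg.quadFormPlus m F), Subgroup.closure ({a, b} : Set (Cfsg.POmega F (Cfsg.quadFormPlus m F))) = ⊤ := by
  classical
  obtain ⟨k, rfl⟩ : ∃ k, m = k + 1 := ⟨m - 1, by omega⟩
  have S : QSetting (OrthOrder.qPlus (k + 1) F) :=
    ⟨OrthForms.qPlus_nondeg _, by simp [Fintype.card_sum]; omega⟩
  exact exists_two_gen_POmega (funext (OrthOrder.qPlus_apply _))
    (exists_two_gen_plus S (stdHyp (k + 1)) (by omega) (stdHyp_perp _))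

end Cfsg.Agent.S2414
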