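import Cfsg.Statements.S2415
import Cfsg.Agent.Lib.ClassTwoGen.OmProj
import Cfsg.Agent.Lib.ClassTwoGen.OmAniso
import Cfsg.Agent.Lib.LinearGroups.OrthForms

set_option autoImplicit false
open Cfsg

namespace Cfsg.Agent.S2415

open Cfsg.Agent Cfsg.Agent.TransvMax Cfsg.Agent.QMax Cfsg.Agent.ClassTwoGen

universe u

variable {F : Type u} [Field F] {k : ℕ} {a b : F}
  {Q : QuadraticForm F ((Fin k ⊕ Fin k) ⊕ Fin 2 → F)}

theorem polar_minus (hQ : ⇑Q = Cfsg.quadFormMinus k F a b) (v w : (Fin k ⊕ Fin k) ⊕ Fin 2 → F) :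
    QuadraticMap.polar Q v w =
      ∑ i, (v (.inl (.inl i)) * w (.inl (.inr i)) + w (.inl (.inl i)) * v (.inl (.inr i))) +
      (2 * v (.inr 0) * w (.inr 0) + a * (v (.inr 0) * w (.inr 1) + w (.inr 0) * v (.inr 1)) +
        2 * b * (v (.inr 1) * w (.inr 1))) := by
  simp only [QuadraticMap.polar, hQ, Cfsg.quadFormMinus, Pi.add_apply, mul_add, add_mul,
    Finset.sum_add_distrib]
  ring

/-- The standard hyperbolic system. -/
noncomputable def stdHyp (hQ : ⇑Q = Cfsg.quadFormMinus k F a b) : Hyp Q k where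
  e i := Pi.single (.inl (.inl i)) 1
  f i := Pi.single (.inl (.inr i)) 1
  qe i := by simp [hQ, Cfsg.quadFormMinus]
  qf i := by simp [hQ, Cfsg.quadFormMinus]
  ee i j := by simp [QuadraticMap.polarBilin_apply_apply, polar_minus hQ]
  ff i j := by simp [QuadraticMap.polarBilin_apply_apply, polar_minus hQ]
  ef i j := by simp [QuadraticMap.polarBilin_apply_apply, polar_minus hQ, Pi.single_apply, eq_comm]

theorem perp_iff (hQ : ⇑Q = Cfsg.quadFormMinus k F a b) {v : (Fin k ⊕ Fin k) ⊕ Fin 2 → F} :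
    (stdHyp hQ).Perp v ↔ ∀ x, v (.inl x) = 0 := by
  constructor
  · rintro h (i | i)
    · simpa [QuadraticMap.polarBilin_apply_apply, polar_minus hQ, stdHyp, Pi.single_apply] using (h i).2
    · simpa [QuadraticMap.polarBilin_apply_apply, polar_minus hQ, stdHyp, Pi.single_apply] using (h i).1
  · intro h i
    simp [QuadraticMap.polarBilin_apply_apply, polar_minus hQ, stdHyp, Pi.single_apply, h]

/-- The simple orthogonal group `PΩ⁻_{2m}(q)` with `m ≥ 4` (commutator subgroup, modulo its centre, of the orthogonal group of `Σ_{i<m−1} x_i y_i + z₁² + a z₁z₂ + b z₂²` with the binary part anisotropic) is generated by two of its elements. -/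
theorem result {F : Type*} [Field F] [Fintype F] (m : ℕ) (hm : 4 ≤ m) (a b : F)
    (hab : ∀ z₁ z₂ : F, z₁ ^ 2 + a * z₁ * z₂ + b * z₂ ^ 2 = 0 → z₁ = 0 ∧ z₂ = 0) :
    ∃ g h : Cfsg.POmega F (Cfsg.quadFormMinus (m - 1) F a b),
      Subgroup.closure ({g, h} : Set (Cfsg.POmega F (Cfsg.quadFormMinus (m - 1) F a b))) = ⊤ := by
  classical
  obtain ⟨k, hk⟩ : ∃ k, m - 1 = k + 1 := ⟨m - 2, by omega⟩
  rw [hk]
  have hab' := hab
  obtain ⟨Q, hQ, hnd⟩ := OrthForms.exists_qMinus (k + 1) a b hab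
  have S : QSetting Q := ⟨hnd, by simp [Fintype.card_sum]; omega⟩
  refine exists_two_gen_POmega hQ ?_
  let z₁ : (Fin (k + 1) ⊕ Fin (k + 1)) ⊕ Fin 2 → F := Pi.single (.inr 0) 1
  let z₂ : (Fin (k + 1) ⊕ Fin (k + 1)) ⊕ Fin 2 → F := Pi.single (.inr 1) 1
  have h1 : Q z₁ = 1 := by simp [z₁, hQ, Cfsg.quadFormMinus]
  have hp1 : (stdHyp hQ).Perp z₁ := (perp_iff hQ).2 fun x => by simp [z₁]
  have hp2 : (stdHyp hQ).Perp z₂ := (perp_iff hQ).2 fun x => by simp [z₂]
  have hb : b ≠ 0 := fun h => one_ne_zero (hab 0 1 (by rw [h]; ring)).2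
  by_cases ha : a = 0
  · subst ha
    have h2 : (2 : F) ≠ 0 := by
      intro h2
      haveI : CharP F 2 := CharTwo.of_one_ne_zero_of_two_eq_zero one_ne_zero h2
      obtain ⟨s, hs⟩ := FiniteField.isSquare_of_char_two (ringChar.eq F 2) b
      exact one_ne_zero (hab s 1 (by linear_combination hs + s * s * h2)).2
    have hb1 : 1 + b ≠ 0 := fun h => one_ne_zero (hab 1 1 (by linear_combination h)).1
    have hp : (stdHyp hQ).Perp (z₁ + z₂) := (perp_iff hQ).2 fun x => by simp [z₁, z₂]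
    have hwz : pB Q (z₁ + z₂) z₁ = 2 := by
      rw [QuadraticMap.polarBilin_apply_apply, polar_minus hQ]; simp [z₁, z₂]
    refine exists_two_gen_aniso S (stdHyp hQ) (by omega) h1 hp1 hp (fun v hv => ?_) (Or.inl ?_)
    · refine ⟨(v (.inr 0) + v (.inr 1)) / 2, (v (.inr 1) - v (.inr 0)) / 2, ?_⟩
      rw [hwz]
      funext x
      rcases x with x | x
      · simp [z₁, z₂, (perp_iff hQ).1 hv x]
      · fin_cases x <;> simp [z₁, z₂] <;> field_simp <;> ring
    · rw [QuadraticMap.polarBilin_apply_apply, polar_minus hQ]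
      simp only [z₁, z₂, Pi.add_apply, Pi.single_apply]
      simp
      intro e
      exact mul_ne_zero h2 hb1 (by linear_combination e)
  · have hwz : pB Q z₂ z₁ = a := by
      rw [QuadraticMap.polarBilin_apply_apply, polar_minus hQ]; simp [z₁, z₂]
    refine exists_two_gen_aniso S (stdHyp hQ) (by omega) h1 hp1 hp2 (fun v hv => ?_) ?_
    · refine ⟨v (.inr 1) + v (.inr 0) / a, -(v (.inr 0) / a), ?_⟩
      rw [hwz]
      funext x
      rcases x with x | x
      · simp [z₁, z₂, (perp_iff hQ).1 hv x]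
      · fin_cases x <;> simp [z₁, z₂] <;> field_simp <;> ring
    · rw [hwz, map_sub, map_smul, hwz]
      have h22 : pB Q z₂ z₂ = 2 * b := by
        rw [QuadraticMap.polarBilin_apply_apply, polar_minus hQ]; simp [z₂]
      by_cases h2 : (2 : F) = 0
      · right
        rw [h22, h2, zero_mul, zero_sub, smul_eq_mul]
        exact neg_ne_zero.2 (mul_ne_zero ha ha)
      · left
        rw [h22]
        exact mul_ne_zero h2 hb

end Cfsg.Agent.S2415
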