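import Cfsg.Statements.S2418
import Cfsg.Agent.Lib.ClassK.WeylCert
import Cfsg.Agent.Lib.ClassK.WeylData

set_option autoImplicit false
open Cfsg

namespace Cfsg.Agent.S2418

open Cfsg.Agent.Chev Cfsg.Agent.ClassK

theorem sign_B2 : WeylCert.signOk B2.pk = true := by decide +kernel

theorem neg_B2 : WeylCert.negOk B2.pk 2 2 = true := by decide +kernel

theorem sign_G2 : WeylCert.signOk G2.pk = true := by decide +kernel

theorem neg_G2 : WeylCert.negOk G2.pk 2 3 = true := by decide +kernel

theorem sign_D4 : WeylCert.signOk D4.pk = true := by decide +kernel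

theorem neg_D4 : WeylCert.negOk D4.pk 4 3 = true := by decide +kernel

theorem sign_F4 : WeylCert.signOk F4.pk = true := by decide +kernel

theorem neg_F4 : WeylCert.negOk F4.pk 4 6 = true := by decide +kernel

theorem sign_E6 : WeylCert.signOk E6.pk = true := by decide +kernel

theorem noNeg_E6 : WeylCert.noNegOk E6.pk [5, 4, 3, 2, 1, 0] = true := by decide +kernel

theorem sign_E7 : WeylCert.signOk E7.pk = true := by decide +kernel

theorem neg_E7 : WeylCert.negOk E7.pk 7 9 = true := by decide +kernel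

theorem sign_E8 : WeylCert.signOk E8.pk = true := by decide +kernel

theorem neg_E8 : WeylCert.negOk E8.pk 8 15 = true := by decide +kernel

/-- For the Coxeter groups of types B₂, G₂, D₄, F₄, E₇, E₈ the centre has order 2 (the element acting as −1 on the root system) and is generated by a power of the Coxeter element `s₁ s₂ ⋯ s_l`; the Coxeter group of type E₆ has trivial centre. -/
theorem result (c : (Σ n : ℕ, CoxeterMatrix (Fin n)) × ℕ)
    (hc : c ∈ [(⟨2, CoxeterMatrix.B 2⟩, 2), (⟨2, CoxeterMatrix.G₂⟩, 2), (⟨4, Cfsg.Lie.coxeterD4⟩, 2), (⟨4, CoxeterMatrix.F₄⟩, 2),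
      (⟨6, CoxeterMatrix.E₆⟩, 1), (⟨7, CoxeterMatrix.E₇⟩, 2), (⟨8, CoxeterMatrix.E₈⟩, 2)]) :
    Nat.card (Subgroup.center c.1.2.Group) = c.2 ∧
      Subgroup.center c.1.2.Group ≤ Subgroup.zpowers ((List.finRange c.1.1).map c.1.2.simple).prod := by
  simp only [List.mem_cons, List.not_mem_nil, or_false] at hc
  rcases hc with rfl | rfl | rfl | rfl | rfl | rfl | rfl
  · exact WeylCert.center_two B2.ok ckComm_B2 ckCox_B2 sign_B2 neg_B2
  · exact WeylCert.center_two G2.ok ckComm_G2 ckCox_G2 sign_G2 neg_G2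
  · exact WeylCert.center_two D4.ok ckComm_D4 ckCox_D4 sign_D4 neg_D4
  · exact WeylCert.center_two F4.ok ckComm_F4 ckCox_F4 sign_F4 neg_F4
  · have h1 := WeylCert.center_one E6.ok ckComm_E6 ckCox_E6 sign_E6 noNeg_E6
    refine ⟨h1, ?_⟩
    rw [Subgroup.card_eq_one.1 h1]
    exact bot_le
  · exact WeylCert.center_two E7.ok ckComm_E7 ckCox_E7 sign_E7 neg_E7
  · exact WeylCert.center_two E8.ok ckComm_E8 ckCox_E8 sign_E8 neg_E8

end Cfsg.Agent.S2418
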