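import Cfsg.Statements.S2419
import Cfsg.Agent.Lib.ClassK.WeylCert
import Cfsg.Agent.Lib.ClassK.WeylData

set_option autoImplicit false
open Cfsg

namespace Cfsg.Agent.S2419

open Cfsg.Agent.Chev Cfsg.Agent.ClassK

theorem build {D : Cfsg.Lie.ChevalleyDatum} {P : Pk} {n : ℕ} {M : CoxeterMatrix (Fin n)} (h : Ok D P)
    (hC : P.ckComm = true) (hck : ckCox P M.M = true) (ts : List (Fin n))
    (hne : ts.Pairwise fun i j => WeylCert.sameB P [i.val] [j.val] = false)
    (steps : List ((ℕ × ℕ × ℕ) × List ℕ))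
    (hg : WeylCert.genOk P ((WeylCert.coxW n).map Fin.val) ((ts.map fun i => [i]).map (List.map Fin.val))
      [] steps = true) :
    ∃ T : Finset M.Group, T.card = ts.length ∧
      (∀ t ∈ T, ∃ (g : M.Group) (i : Fin n), t = g * M.simple i * g⁻¹) ∧
      Subgroup.closure (({((List.finRange n).map M.simple).prod} : Set M.Group) ∪ ↑T) = ⊤ := by
  classical
  have hnd : (ts.map M.simple).Nodup := by
    refine List.pairwise_map.2 (hne.imp fun {i j} hij e => ?_)
    rw [← WeylCert.wd_singleton, ← WeylCert.wd_singleton, WeylCert.wd_eq_iff h hC hck] at e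
    have : WeylCert.sameB P [i.val] [j.val] = true := by
      simp only [WeylCert.sameB, List.all_eq_true, Pk.mem_allRoots, nbeq, decide_eq_true_eq]
      exact e
    rw [this] at hij
    exact Bool.noConfusion hij
  refine ⟨(ts.map M.simple).toFinset, ?_, ?_, ?_⟩
  · rw [List.toFinset_card_of_nodup hnd, List.length_map]
  · intro t ht
    obtain ⟨i, -, rfl⟩ := List.mem_map.1 (List.mem_toFinset.1 ht)
    exact ⟨1, i, by simp⟩
  · refine WeylCert.closure_top h hC hck (Subgroup.subset_closure (Or.inl rfl)) (ts.map fun i => [i])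
      (fun t ht => ?_) steps hg
    obtain ⟨i, hi, rfl⟩ := List.mem_map.1 ht
    rw [WeylCert.wd_singleton]
    exact Subgroup.subset_closure (Or.inr (Finset.mem_coe.2 (List.mem_toFinset.2 (List.mem_map_of_mem hi))))

theorem gen_B2 : WeylCert.genOk B2.pk ((WeylCert.coxW 2).map Fin.val)
    ((([1] : List (Fin 2)).map fun i => [i]).map (List.map Fin.val)) [] WeylCert.stepsB2 = true := by
  decide +kernel

theorem gen_G2 : WeylCert.genOk G2.pk ((WeylCert.coxW 2).map Fin.val)
    ((([1] : List (Fin 2)).map fun i => [i]).map (List.map Fin.val)) [] WeylCert.stepsG2 = true := by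
  decide +kernel

theorem gen_D4 : WeylCert.genOk D4.pk ((WeylCert.coxW 4).map Fin.val)
    ((([0, 2] : List (Fin 4)).map fun i => [i]).map (List.map Fin.val)) [] WeylCert.stepsD4 = true := by
  decide +kernel

theorem gen_F4 : WeylCert.genOk F4.pk ((WeylCert.coxW 4).map Fin.val)
    ((([0, 2] : List (Fin 4)).map fun i => [i]).map (List.map Fin.val)) [] WeylCert.stepsF4 = true := by
  decide +kernel

theorem gen_E6 : WeylCert.genOk E6.pk ((WeylCert.coxW 6).map Fin.val)
    ((([0] : List (Fin 6)).map fun i => [i]).map (List.map Fin.val)) [] WeylCert.stepsE6 = true := by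
  decide +kernel

theorem gen_E7 : WeylCert.genOk E7.pk ((WeylCert.coxW 7).map Fin.val)
    ((([3] : List (Fin 7)).map fun i => [i]).map (List.map Fin.val)) [] WeylCert.stepsE7 = true := by
  decide +kernel

theorem gen_E8 : WeylCert.genOk E8.pk ((WeylCert.coxW 8).map Fin.val)
    ((([0] : List (Fin 8)).map fun i => [i]).map (List.map Fin.val)) [] WeylCert.stepsE8 = true := by
  decide +kernel

/-- The Coxeter groups of types B₂, G₂, E₆, E₇, E₈ are generated by the Coxeter element `s₁ s₂ ⋯ s_l` together with one suitable reflection (a conjugate of a simple reflection); for types D₄ and F₄ the Coxeter element together with two suitable reflections suffices. -/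
theorem result (c : (Σ n : ℕ, CoxeterMatrix (Fin n)) × ℕ)
    (hc : c ∈ [(⟨2, CoxeterMatrix.B 2⟩, 1), (⟨2, CoxeterMatrix.G₂⟩, 1), (⟨4, Cfsg.Lie.coxeterD4⟩, 2), (⟨4, CoxeterMatrix.F₄⟩, 2),
      (⟨6, CoxeterMatrix.E₆⟩, 1), (⟨7, CoxeterMatrix.E₇⟩, 1), (⟨8, CoxeterMatrix.E₈⟩, 1)]) :
    ∃ T : Finset c.1.2.Group, T.card = c.2 ∧ (∀ t ∈ T, ∃ (g : c.1.2.Group) (i : Fin c.1.1), t = g * c.1.2.simple i * g⁻¹) ∧
      Subgroup.closure (({((List.finRange c.1.1).map c.1.2.simple).prod} : Set c.1.2.Group) ∪ ↑T) = ⊤ := by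
  simp only [List.mem_cons, List.not_mem_nil, or_false] at hc
  rcases hc with rfl | rfl | rfl | rfl | rfl | rfl | rfl
  · exact build B2.ok ckComm_B2 ckCox_B2 [1] (by decide +kernel) _ gen_B2
  · exact build G2.ok ckComm_G2 ckCox_G2 [1] (by decide +kernel) _ gen_G2
  · exact build D4.ok ckComm_D4 ckCox_D4 [0, 2] (by decide +kernel) _ gen_D4
  · exact build F4.ok ckComm_F4 ckCox_F4 [0, 2] (by decide +kernel) _ gen_F4
  · exact build E6.ok ckComm_E6 ckCox_E6 [0] (by decide +kernel) _ gen_E6
  · exact build E7.ok ckComm_E7 ckCox_E7 [3] (by decide +kernel) _ gen_E7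
  · exact build E8.ok ckComm_E8 ckCox_E8 [0] (by decide +kernel) _ gen_E8

end Cfsg.Agent.S2419
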