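import Cfsg.Statements.S2425
import Cfsg.Agent.Lib.GLUnipotent.SemisimpleMu
import Cfsg.Agent.Lib.GLUnipotent.SteinbergChains

set_option autoImplicit false
open scoped MatrixGroups
open Cfsg

namespace Cfsg.Agent.S2425

/-- Values of the Steinberg character of `GL_n(q)` (the partition-indexed character for `ν = (1,…,1)`, of degree `q^(n(n−1)/2)`) at elements of order prime to the characteristic: if the characteristic polynomial of such an element is `∏ f^(m_f)` over distinct monic irreducible `f`, the value is `∏_f (−1)^((deg f − 1) m_f) q^(deg f · m_f (m_f − 1)/2)`. (At elements of order divisible by the characteristic the value is 0; that is not part of this statement.) -/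
theorem result {F : Type*} [Field F] [Fintype F] [DecidableEq F] {q : ℕ} (hq : Fintype.card F = q) (p : ℕ) [Fact p.Prime] [CharP F p]
    {n : ℕ} (x : GL (Fin n) F) (hx : (orderOf x).Coprime p) :
    Cfsg.unipotentCharacterGL n F (fun _ => 1) x =
      ∏ f ∈ (UniqueFactorizationMonoid.normalizedFactors (x : Matrix (Fin n) (Fin n) F).charpoly).toFinset,
        (-1 : ℂ) ^ ((f.natDegree - 1) * (UniqueFactorizationMonoid.normalizedFactors (x : Matrix (Fin n) (Fin n) F).charpoly).count f) *
          (q : ℂ) ^ (f.natDegree * (UniqueFactorizationMonoid.normalizedFactors (x : Matrix (Fin n) (Fin n) F).charpoly).count f *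
            ((UniqueFactorizationMonoid.normalizedFactors (x : Matrix (Fin n) (Fin n) F).charpoly).count f - 1) / 2) := by
  classical
  letI := Fintype.ofFinite (Submodule F (Fin n → F))
  set A : Matrix (Fin n) (Fin n) F := (x : Matrix (Fin n) (Fin n) F) with hA
  set g := Matrix.toLin' A with hg
  have hss : Module.End.IsSemisimple g := by
    have hN : ((orderOf x : ℕ) : F) ≠ 0 := fun h => by
      have := (CharP.cast_eq_zero_iff F p _).1 h
      exact (Fact.out : p.Prime).one_lt.ne' (Nat.dvd_one.1 (hx ▸ Nat.dvd_gcd this dvd_rfl))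
    refine Module.End.isSemisimple_of_squarefree_aeval_eq_zero
      (Polynomial.separable_X_pow_sub_C (1 : F) hN one_ne_zero).squarefree ?_
    rw [map_sub, map_pow, Polynomial.aeval_X, Polynomial.aeval_C, map_one, sub_eq_zero, hg]
    rw [← Matrix.toLin'_pow, hA, ← Units.val_pow_eq_pow_val, pow_orderOf_eq_one, Units.val_one, Matrix.toLin'_one]
    rfl
  have htop : StPolar.Stb g (⊤ : Submodule F (Fin n → F)) := fun _ _ => Submodule.mem_top
  have hch : (GLUnipotent.res htop).charpoly = A.charpoly := by
    rw [← LinearEquiv.charpoly_conj Submodule.topEquiv]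
    rw [show Submodule.topEquiv.conj (GLUnipotent.res htop) = g from LinearMap.ext fun v => by
      rw [LinearEquiv.conj_apply_apply]
      rfl, hg, Matrix.charpoly_toLin']
  have hμ := (GLUnipotent.mu_semisimple hss hq ⊤ htop).1
  rw [hch] at hμ
  rw [GLUnipotent.StChains.steinberg_eq_mu, ← hA, ← hg, hμ, GLUnipotent.muVal]
  set M := UniqueFactorizationMonoid.normalizedFactors A.charpoly with hM
  have hne : A.charpoly ≠ 0 := (Matrix.charpoly_monic A).ne_zero
  have hn : n = ∑ f ∈ M.toFinset, M.count f * f.natDegree := by
    have hprod : M.prod = A.charpoly := by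
      refine Polynomial.eq_of_monic_of_associated ?_ (Matrix.charpoly_monic A)
        (UniqueFactorizationMonoid.prod_normalizedFactors hne)
      have := Polynomial.monic_multiset_prod_of_monic M id fun f hf => by
        have h1 := UniqueFactorizationMonoid.normalize_normalized_factor f hf
        exact h1 ▸ Polynomial.monic_normalize (UniqueFactorizationMonoid.prime_of_normalized_factor f hf).ne_zero
      rwa [Multiset.map_id] at this
    have h1 : A.charpoly.natDegree = n := by rw [Matrix.charpoly_natDegree_eq_dim, Fintype.card_fin]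
    conv_lhs => rw [← h1, ← hprod]
    rw [Polynomial.natDegree_multiset_prod M (UniqueFactorizationMonoid.zero_notMem_normalizedFactors _),
      Finset.sum_multiset_map_count]
    exact Finset.sum_congr rfl fun f _ => smul_eq_mul _ _
  conv_lhs => rw [show ((-1 : ℂ) ^ n) = ∏ f ∈ M.toFinset, (-1 : ℂ) ^ (M.count f * f.natDegree) by
    rw [Finset.prod_pow_eq_pow_sum, ← hn]]
  push_cast
  rw [← Finset.prod_mul_distrib]
  refine Finset.prod_congr rfl fun f hf => ?_
  have hf' := Multiset.mem_toFinset.1 hf
  have hd : 0 < f.natDegree :=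
    (UniqueFactorizationMonoid.irreducible_of_normalized_factor f hf').natDegree_pos
  obtain ⟨k, hk⟩ : ∃ k, f.natDegree = k + 1 := ⟨_, (Nat.sub_add_cancel hd).symm⟩
  rw [← mul_assoc, ← pow_add]
  congr 1
  rw [hk, Nat.add_sub_cancel, show M.count f * (k + 1) + M.count f = k * M.count f + 2 * M.count f by ring,
    pow_add, pow_mul (-1 : ℂ) 2, neg_one_sq, one_pow, mul_one]

end Cfsg.Agent.S2425
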