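import Cfsg.Statements.S2426
import Cfsg.Agent.Lib.Root.SLTwoField

set_option autoImplicit false
open Cfsg

namespace Cfsg.Agent.S2426

open Cfsg.Agent.RootLib Cfsg.Agent.RootLibK

/-- The rank-one Steinberg presentation of `SL₂` over a finite field `K`: generators `x(t)`, `y(t)` (`t ∈ K`; the two opposite root subgroups) subject to additivity `x(t)x(u) = x(t+u)`, `y(t)y(u) = y(t+u)` and, with `w(t) = x(t) y(−t⁻¹) x(t)` and `w'(t) = y(t) x(−t⁻¹) y(t)` for `t ≠ 0`, the relations `w(t) x(u) w(t)⁻¹ = y(−t⁻² u)` and `w'(t) y(u) w'(t)⁻¹ = x(−t⁻² u)`, present `SL₂(K)`, with `x(t) ↦ (1 t; 0 1)` and `y(t) ↦ (1 0; t 1)`. -/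
theorem result {K : Type*} [Field K] [Finite K] :
    ∃ e : PresentedGroup
        ({g : FreeGroup (Bool × K) | ∃ (b : Bool) (t u : K), g = FreeGroup.of (b, t) * FreeGroup.of (b, u) * (FreeGroup.of (b, t + u))⁻¹} ∪
          {g | ∃ (b : Bool) (t u : K), t ≠ 0 ∧
            g = (FreeGroup.of (b, t) * FreeGroup.of (!b, -t⁻¹) * FreeGroup.of (b, t)) * FreeGroup.of (b, u) *
                  (FreeGroup.of (b, t) * FreeGroup.of (!b, -t⁻¹) * FreeGroup.of (b, t))⁻¹ * (FreeGroup.of (!b, -(t⁻¹ ^ 2 * u)))⁻¹})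
        ≃* Matrix.SpecialLinearGroup (Fin 2) K,
      (∀ t : K, ((e (PresentedGroup.of (true, t)) : Matrix (Fin 2) (Fin 2) K)) = !![1, t; 0, 1]) ∧
      (∀ t : K, ((e (PresentedGroup.of (false, t)) : Matrix (Fin 2) (Fin 2) K)) = !![1, 0; t, 1]) := by
  set S : Set (FreeGroup (Bool × K)) := ({g : FreeGroup (Bool × K) | ∃ (b : Bool) (t u : K), g = FreeGroup.of (b, t) * FreeGroup.of (b, u) * (FreeGroup.of (b, t + u))⁻¹} ∪
          {g | ∃ (b : Bool) (t u : K), t ≠ 0 ∧
            g = (FreeGroup.of (b, t) * FreeGroup.of (!b, -t⁻¹) * FreeGroup.of (b, t)) * FreeGroup.of (b, u) *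
                  (FreeGroup.of (b, t) * FreeGroup.of (!b, -t⁻¹) * FreeGroup.of (b, t))⁻¹ * (FreeGroup.of (!b, -(t⁻¹ ^ 2 * u)))⁻¹}) with hS
  let g : Bool → K → PresentedGroup S := fun b t => PresentedGroup.of (b, t)
  have hof : ∀ z : Bool × K, PresentedGroup.mk S (FreeGroup.of z) = g z.1 z.2 := fun z => rfl
  have hadd : ∀ b t u, g b (t + u) = g b t * g b u := fun b t u => by
    have h := PresentedGroup.one_of_mem (rels := S)
      (x := FreeGroup.of (b, t) * FreeGroup.of (b, u) * (FreeGroup.of (b, t + u))⁻¹)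
      (Or.inl ⟨b, t, u, rfl⟩)
    simp only [map_mul, map_inv, hof, mul_inv_eq_one] at h
    exact h.symm
  have hrel : ∀ b t u, t ≠ 0 → g b t * g (!b) (-t⁻¹) * g b t * g b u =
      g (!b) (-(t⁻¹ ^ 2 * u)) * (g b t * g (!b) (-t⁻¹) * g b t) := fun b t u ht => by
    have h := PresentedGroup.one_of_mem (rels := S)
      (x := (FreeGroup.of (b, t) * FreeGroup.of (!b, -t⁻¹) * FreeGroup.of (b, t)) * FreeGroup.of (b, u) *
        (FreeGroup.of (b, t) * FreeGroup.of (!b, -t⁻¹) * FreeGroup.of (b, t))⁻¹ * (FreeGroup.of (!b, -(t⁻¹ ^ 2 * u)))⁻¹)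
      (Or.inr ⟨b, t, u, ht, rfl⟩)
    simp only [map_mul, map_inv, hof, mul_inv_eq_one] at h
    rw [← h]; group
  obtain ⟨x, hx⟩ : ∃ x : K → PresentedGroup S, x = fun t => g true t := ⟨_, rfl⟩
  obtain ⟨y, hy⟩ : ∃ y : K → PresentedGroup S, y = fun t => g false (-t) := ⟨_, rfl⟩
  have hmx : ∀ {r : K}, r ≠ 0 → ∀ t, RootLibK.monEl x y r * x t = y (t / r ^ 2) * RootLibK.monEl x y r := by
    intro r hr t
    have h := hrel true r t hr
    simp only [RootLibK.monEl, hx, hy, Bool.not_true] at h ⊢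
    rwa [show t / r ^ 2 = r⁻¹ ^ 2 * t by field_simp]
  have hbraid : ∀ {r : K}, r ≠ 0 → RootLibK.monEl x y r = y r⁻¹ * x r * y r⁻¹ := by
    intro r hr
    have h := hmx hr r
    rw [RootLibK.monEl, show r / r ^ 2 = r⁻¹ by field_simp] at h
    rw [RootLibK.monEl]
    apply mul_right_cancel (b := x r)
    rw [h]; group
  have R : RootLibK.Rels x y := ⟨fun s t => by rw [hx]; exact hadd true s t,
    fun s t => by rw [hy]; simp only [neg_add]; exact hadd false _ _, hmx, fun {r} hr t => by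
      have h := hrel false (-r⁻¹) (-t) (neg_ne_zero.2 (inv_ne_zero hr))
      rw [hbraid hr]
      simp only [hx, hy, Bool.not_false] at h ⊢
      simpa [mul_comm t] using h⟩
  obtain ⟨φ, hu, hl⟩ := R.exists_hom
  have hlr : ∀ b t, FreeGroup.lift (fun z : Bool × K => if z.1 then uEl z.2 else lEl z.2) (FreeGroup.of (b, t)) =
      if b then uEl t else lEl t := fun b t => FreeGroup.lift_apply_of
  have hψ : ∀ r ∈ S, FreeGroup.lift (fun z : Bool × K => if z.1 then uEl z.2 else lEl z.2) r = 1 := by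
    intro r hr
    rcases hr with ⟨b, t, u, rfl⟩ | ⟨b, t, u, ht, rfl⟩
    · rw [map_mul, map_mul, map_inv, mul_inv_eq_one, hlr, hlr, hlr]
      cases b
      · exact lEl_mul _ _
      · exact uEl_mul _ _
    · simp only [map_mul, map_inv, hlr, mul_inv_eq_one]
      cases b
      · have h := (rels_sl_two (K := K)).mon_y (neg_ne_zero.2 (inv_ne_zero ht)) (-u)
        rw [RootLibK.monEl, (rels_sl_two (K := K)).braid (neg_ne_zero.2 (inv_ne_zero ht))] at h
        simp only [Bool.false_eq_true, if_false, Bool.not_false, if_true]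
        rw [mul_inv_eq_iff_eq_mul]
        simpa [inv_neg, mul_comm u] using h
      · have h := (rels_sl_two (K := K)).mon_x ht u
        simp only [if_true, Bool.not_true, Bool.false_eq_true, if_false]
        rw [mul_inv_eq_iff_eq_mul]
        rw [show t⁻¹ ^ 2 * u = u / t ^ 2 by field_simp]
        exact h
  let ψ : PresentedGroup S →* Matrix.SpecialLinearGroup (Fin 2) K := PresentedGroup.toGroup hψ
  have hψg : ∀ b t, ψ (g b t) = if b then uEl t else lEl t := fun b t => PresentedGroup.toGroup.of hψ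
  have h1 : φ.comp ψ = MonoidHom.id _ := by
    refine PresentedGroup.ext fun z => ?_
    obtain ⟨b, t⟩ := z
    show φ (ψ (g b t)) = g b t
    rw [hψg]
    cases b
    · have := hl (-t)
      rw [neg_neg] at this
      simp only [Bool.false_eq_true, if_false]
      rw [this, hy]; simp
    · simp only [if_true]
      rw [hu, hx]
  have hsurj : Function.Surjective ψ := fun M => by
    obtain ⟨w, rfl⟩ := bform_bijective.2 M
    have hX : ∀ s, (uEl s : Matrix.SpecialLinearGroup (Fin 2) K) ∈ ψ.range := fun s => ⟨g true s, by simp [hψg]⟩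
    have hY : ∀ s, (lEl (-s) : Matrix.SpecialLinearGroup (Fin 2) K) ∈ ψ.range := fun s => ⟨g false (-s), by simp [hψg]⟩
    have hle : Subgroup.closure (Set.range (fun t : K => uEl t) ∪ Set.range fun t : K => lEl (-t)) ≤ ψ.range :=
      (Subgroup.closure_le _).2 (by rintro _ (⟨s, rfl⟩ | ⟨s, rfl⟩); exacts [hX s, hY s])
    exact hle ((rels_sl_two (K := K)).bform_mem w)
  refine ⟨MulEquiv.ofBijective ψ ⟨fun u v h => ?_, hsurj⟩, fun t => ?_, fun t => ?_⟩
  · have hu' := DFunLike.congr_fun h1 u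
    have hv' := DFunLike.congr_fun h1 v
    simp only [MonoidHom.comp_apply, MonoidHom.id_apply] at hu' hv'
    rw [← hu', ← hv', h]
  · show ((ψ (g true t) : Matrix.SpecialLinearGroup (Fin 2) K) : Matrix (Fin 2) (Fin 2) K) = _
    rw [hψg]; rfl
  · show ((ψ (g false t) : Matrix.SpecialLinearGroup (Fin 2) K) : Matrix (Fin 2) (Fin 2) K) = _
    rw [hψg]; rfl

end Cfsg.Agent.S2426
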