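import Cfsg.Statements.S2427
import Cfsg.Agent.Lib.SL2.SylowTwo
-- import your own Cfsg.Agent.* helpers here

set_option autoImplicit false
open Cfsg

namespace Cfsg.Agent.S2427

/-- The group SL₂ over the field with 3 elements has order 24 and centre of order 2; its commutator subgroup has order 8, is isomorphic to the quaternion group of order 8 and is complemented by every Sylow 3-subgroup (so the group is a semidirect product of a quaternion group of order 8 by a cyclic group of order 3); and its only normal subgroups besides the trivial subgroup and the whole group are the centre and the commutator subgroup. -/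
theorem result :
    Nat.card (Matrix.SpecialLinearGroup (Fin 2) (ZMod 3)) = 24 ∧
    Nat.card (Subgroup.center (Matrix.SpecialLinearGroup (Fin 2) (ZMod 3))) = 2 ∧
    Nat.card (commutator (Matrix.SpecialLinearGroup (Fin 2) (ZMod 3))) = 8 ∧
    Nonempty (commutator (Matrix.SpecialLinearGroup (Fin 2) (ZMod 3)) ≃* QuaternionGroup 2) ∧
    (∀ P : Sylow 3 (Matrix.SpecialLinearGroup (Fin 2) (ZMod 3)),
      Subgroup.IsComplement' (commutator (Matrix.SpecialLinearGroup (Fin 2) (ZMod 3)))
        (P : Subgroup (Matrix.SpecialLinearGroup (Fin 2) (ZMod 3)))) ∧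
    ∀ N : Subgroup (Matrix.SpecialLinearGroup (Fin 2) (ZMod 3)), N.Normal →
      N = ⊥ ∨ N = ⊤ ∨ N = Subgroup.center (Matrix.SpecialLinearGroup (Fin 2) (ZMod 3)) ∨
        N = commutator (Matrix.SpecialLinearGroup (Fin 2) (ZMod 3)) := by
  classical
  have : Fact (Nat.Prime 3) := ⟨Nat.prime_three⟩
  have hodd : Odd (Fintype.card (ZMod 3)) := by rw [ZMod.card]; decide
  have h2 : (2 : ZMod 3) ≠ 0 := SL2.two_ne_zero' hodd
  have hG : Nat.card (Matrix.SpecialLinearGroup (Fin 2) (ZMod 3)) = 24 := by
    rw [SL2.card_G, ZMod.card]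
  set i : Matrix.SpecialLinearGroup (Fin 2) (ZMod 3) := SL2.comp 0 with hidef
  have hi : i * i = -1 := SL2.sq_neg_one_of_tr (SL2.tr_comp 0)
  obtain ⟨j, hp⟩ := SL2.exists_qpair hodd hi
  have hQ8 := hp.card_Q h2
  have hQn : hp.Q.Normal := by
    rw [← Subgroup.normalizer_eq_top_iff]
    refine Subgroup.eq_top_of_card_eq _ ?_
    rw [hG]
    have h1 := hp.dvd_card_normalizer h2
    have h3 := Subgroup.card_subgroup_dvd_card (Subgroup.normalizer
      (hp.Q : Set (Matrix.SpecialLinearGroup (Fin 2) (ZMod 3))))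
    rw [hG] at h3
    exact Nat.dvd_antisymm h3 h1
  have hidx : hp.Q.index = 3 := by
    have := hp.Q.card_mul_index
    rw [hQ8, hG] at this
    omega
  obtain ⟨w, hw3, hwi, hwj, hwk⟩ := hp.exists_omega h2
  have hneg : (-1 : Matrix.SpecialLinearGroup (Fin 2) (ZMod 3)) ∈ hp.Q := hp.isq ▸ mul_mem hp.i_mem hp.i_mem
  have hgen : ∀ K : Subgroup (Matrix.SpecialLinearGroup (Fin 2) (ZMod 3)), i ∈ K → j ∈ K → hp.Q ≤ K := by
    intro K hiK hjK x hx
    obtain ⟨y, hy, hxy⟩ := hp.mem_Q_cases h2 hx
    have hy' : y ∈ K := by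
      simp only [Set.mem_insert_iff, Set.mem_singleton_iff] at hy
      rcases hy with rfl | rfl | rfl | rfl
      exacts [one_mem _, hiK, hjK, mul_mem hiK hjK]
    rcases hxy with rfl | rfl
    · exact hy'
    · rw [← neg_one_mul]; exact mul_mem (hp.isq ▸ mul_mem hiK hiK) hy'
  have hnegJ : ∀ K : Subgroup (Matrix.SpecialLinearGroup (Fin 2) (ZMod 3)), ∀ x, x * x = -1 → -x ∈ K → x ∈ K := by
    intro K x hx hK
    have : x = (-x)⁻¹ := by rw [inv_neg, SL2.inv_of_sq hx, neg_neg]
    rw [this]; exact inv_mem hK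
  have hkinv : i * j * i⁻¹ = -j := hp.conj_ij
  have hiw : i * j * (i⁻¹) = w * i * w⁻¹ * i⁻¹ := by rw [hwi]
  have hjw : i * j⁻¹ = w * j * w⁻¹ * j⁻¹ := by rw [hwj]
  have hgenK : ∀ K : Subgroup (Matrix.SpecialLinearGroup (Fin 2) (ZMod 3)),
      w * i * w⁻¹ * i⁻¹ ∈ K → w * j * w⁻¹ * j⁻¹ ∈ K → hp.Q ≤ K := by
    intro K hK1 hK2
    rw [← hiw, hkinv] at hK1
    have hj : j ∈ K := hnegJ K j hp.jsq hK1
    rw [← hjw] at hK2
    have hiK : i ∈ K := by
      have := mul_mem hK2 hj
      rwa [inv_mul_cancel_right] at this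
    exact hgen K hiK hj
  have hcomm : commutator (Matrix.SpecialLinearGroup (Fin 2) (ZMod 3)) = hp.Q := by
    refine le_antisymm ?_ (hgenK _ ?_ ?_)
    · rw [← QuotientGroup.ker_mk' hp.Q]
      have hcy : IsCyclic (Matrix.SpecialLinearGroup (Fin 2) (ZMod 3) ⧸ hp.Q) :=
        isCyclic_of_prime_card (p := 3) hidx
      let : CommGroup (Matrix.SpecialLinearGroup (Fin 2) (ZMod 3) ⧸ hp.Q) := IsCyclic.commGroup
      exact Abelianization.commutator_subset_ker _
    · exact Subgroup.commutator_mem_commutator (Subgroup.mem_top w) (Subgroup.mem_top i)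
    · exact Subgroup.commutator_mem_commutator (Subgroup.mem_top w) (Subgroup.mem_top j)
  have hZ : ∀ x : Matrix.SpecialLinearGroup (Fin 2) (ZMod 3),
      x ∈ Subgroup.center (Matrix.SpecialLinearGroup (Fin 2) (ZMod 3)) ↔ x = 1 ∨ x = -1 :=
    fun x => (SL2.scal_iff_mem_center x).symm.trans (SL2.scal_iff x)
  have hne1 : (-1 : Matrix.SpecialLinearGroup (Fin 2) (ZMod 3)) ≠ 1 :=
    SL2.QPair.eq_scal_of_commute.neg_ne_self' h2 _
  refine ⟨hG, ?_, by rw [hcomm, hQ8], ?_, ?_, ?_⟩
  · have : ((Subgroup.center (Matrix.SpecialLinearGroup (Fin 2) (ZMod 3))) :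
        Set (Matrix.SpecialLinearGroup (Fin 2) (ZMod 3))) = {1, -1} := by
      ext x; simpa using hZ x
    rw [← SetLike.coe_sort_coe, this, Nat.card_coe_set_eq, Set.ncard_pair hne1.symm]
  · rw [hcomm]
    have hi4 : i ^ 4 = 1 := by rw [show 4 = 2 * 2 from rfl, pow_mul, pow_two, pow_two, hi]; simp
    have hpow : ∀ a b : ZMod 4, i ^ (a + b).val = i ^ a.val * i ^ b.val := by
      intro a b
      rw [← pow_add, ZMod.val_add]
      exact (pow_eq_pow_mod _ hi4).symm
    have hji : ∀ n : ℕ, j * i ^ n = (i ^ n)⁻¹ * j := by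
      intro n
      have e : j * i * j⁻¹ = i⁻¹ := by rw [hp.conj_ji, SL2.inv_of_sq hi]
      rw [← inv_pow, ← e, ← mul_inv_eq_iff_eq_mul]
      exact conj_pow.symm
    have hneg4 : ∀ a : ZMod 4, i ^ (-a).val = (i ^ a.val)⁻¹ := by
      intro a
      refine (inv_eq_of_mul_eq_one_right ?_).symm
      rw [← hpow, add_neg_cancel, ZMod.val_zero, pow_zero]
    let f : QuaternionGroup 2 →* hp.Q :=
      { toFun := fun x => match x with
          | QuaternionGroup.a m => ⟨i ^ (m : ZMod 4).val, pow_mem hp.i_mem _⟩
          | QuaternionGroup.xa m => ⟨j * i ^ (m : ZMod 4).val, mul_mem hp.j_mem (pow_mem hp.i_mem _)⟩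
        map_one' := by
          rw [QuaternionGroup.one_def]
          exact Subtype.ext (by simp)
        map_mul' := by
          rintro (a | a) (b | b)
          · rw [QuaternionGroup.a_mul_a]
            exact Subtype.ext (hpow a b)
          · rw [QuaternionGroup.a_mul_xa]
            refine Subtype.ext ?_
            show j * i ^ (b - a : ZMod 4).val = i ^ (a : ZMod 4).val * (j * i ^ (b : ZMod 4).val)
            rw [sub_eq_add_neg, add_comm, hpow, hneg4, ← mul_assoc, ← mul_assoc, ← inv_pow]
            congr 1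
            have := hji a.val
            rw [inv_pow]
            calc j * (i ^ a.val)⁻¹ = i ^ a.val * ((i ^ a.val)⁻¹ * j) * (i ^ a.val)⁻¹ := by group
              _ = i ^ a.val * (j * i ^ a.val) * (i ^ a.val)⁻¹ := by rw [this]
              _ = i ^ a.val * j := by group
          · rw [QuaternionGroup.xa_mul_a]
            refine Subtype.ext ?_
            show j * i ^ (a + b : ZMod 4).val = j * i ^ (a : ZMod 4).val * i ^ (b : ZMod 4).val
            rw [hpow, mul_assoc]
          · rw [QuaternionGroup.xa_mul_xa]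
            refine Subtype.ext ?_
            show i ^ ((2 : ℕ) + b - a : ZMod 4).val = j * i ^ (a : ZMod 4).val * (j * i ^ (b : ZMod 4).val)
            rw [sub_eq_add_neg, hpow, hpow, hneg4, show i ^ ((2 : ℕ) : ZMod 4).val = -1 by
              rw [show ((2 : ℕ) : ZMod 4).val = 2 from rfl, pow_two, hi], hji a.val,
              show (i ^ a.val)⁻¹ * j * (j * i ^ b.val) = (i ^ a.val)⁻¹ * (j * j) * i ^ b.val by group, hp.jsq]
            simp only [mul_neg, neg_mul, one_mul, mul_one, neg_inj]
            have hc : Commute (i ^ a.val)⁻¹ (i ^ b.val) := ((Commute.refl i).pow_pow _ _).inv_left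
            exact hc.symm.eq }
    have hf : Function.Surjective f := by
      rw [← MonoidHom.range_eq_top]
      refine eq_top_iff.2 fun x _ => ?_
      have hle : hp.Q ≤ f.range.map hp.Q.subtype := hgen _
        ⟨_, ⟨QuaternionGroup.a 1, rfl⟩, pow_one i⟩
        ⟨_, ⟨QuaternionGroup.xa 0, rfl⟩, by show j * i ^ 0 = j; rw [pow_zero, mul_one]⟩
      obtain ⟨y, hy, hyx⟩ := hle x.2
      rwa [← show y = x from Subtype.ext hyx]
    exact ⟨(MulEquiv.ofBijective f ((Nat.bijective_iff_surjective_and_card f).2 ⟨hf, by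
      rw [hQ8, Nat.card_eq_fintype_card, QuaternionGroup.card]⟩)).symm⟩
  · intro P
    have hP : Nat.card (P : Subgroup (Matrix.SpecialLinearGroup (Fin 2) (ZMod 3))) = 3 := by
      rw [P.card_eq_multiplicity, hG, show (24 : ℕ) = 3 * 8 from rfl,
        Nat.factorization_mul (by norm_num) (by norm_num), Finsupp.add_apply,
        Nat.prime_three.factorization_self, Nat.factorization_eq_zero_of_not_dvd (by norm_num)]
      norm_num
    rw [hcomm]
    refine Subgroup.isComplement'_of_coprime ?_ ?_
    · rw [hQ8, hP, hG]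
    · rw [hQ8, hP]; norm_num
  · intro N hN
    have hdiv := Subgroup.card_subgroup_dvd_card N
    rw [hG] at hdiv
    by_cases h3 : 3 ∣ Nat.card N
    · right; left
      obtain ⟨y, hy⟩ := exists_prime_orderOf_dvd_card' 3 h3
      have hwo : orderOf w = 3 := orderOf_eq_prime (p := 3) (by rw [pow_succ, pow_two, hw3]) fun e => by
        rw [e, one_mul, inv_one, mul_one] at hwj
        have h0 := SL2.tr_conj j w
        subst e
        have hk := hp.anti
        rw [hwj] at hk
        exact SL2.QPair.eq_scal_of_commute.neg_ne_self' h2 _ hk.symm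
      have hy' : orderOf (y : Matrix.SpecialLinearGroup (Fin 2) (ZMod 3)) = 3 := by
        rw [Subgroup.orderOf_coe, hy]
      have e24 : Nat.card (Matrix.SpecialLinearGroup (Fin 2) (ZMod 3)) = 3 * 8 := hG
      let P1 : Sylow 3 (Matrix.SpecialLinearGroup (Fin 2) (ZMod 3)) := Sylow.ofCard (Subgroup.zpowers w) (by
        rw [Nat.card_zpowers, hwo, e24, Nat.factorization_mul (by norm_num) (by norm_num), Finsupp.add_apply,
          Nat.prime_three.factorization_self, Nat.factorization_eq_zero_of_not_dvd (by norm_num)]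
        norm_num)
      let P2 : Sylow 3 (Matrix.SpecialLinearGroup (Fin 2) (ZMod 3)) :=
        Sylow.ofCard (Subgroup.zpowers (y : Matrix.SpecialLinearGroup (Fin 2) (ZMod 3))) (by
        rw [Nat.card_zpowers, hy', e24, Nat.factorization_mul (by norm_num) (by norm_num), Finsupp.add_apply,
          Nat.prime_three.factorization_self, Nat.factorization_eq_zero_of_not_dvd (by norm_num)]
        norm_num)
      obtain ⟨g, hg⟩ := MulAction.exists_smul_eq (Matrix.SpecialLinearGroup (Fin 2) (ZMod 3)) P2 P1
      have hwN : w ∈ N := by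
        have hw1 : w ∈ (P1 : Subgroup (Matrix.SpecialLinearGroup (Fin 2) (ZMod 3))) := Subgroup.mem_zpowers w
        rw [← hg, Sylow.coe_subgroup_smul, Subgroup.mem_pointwise_smul_iff_inv_smul_mem] at hw1
        have hle : (P2 : Subgroup (Matrix.SpecialLinearGroup (Fin 2) (ZMod 3))) ≤ N :=
          Subgroup.zpowers_le.2 y.2
        have h' := hle hw1
        simp only [MulAut.smul_def, MulAut.conj_inv_apply] at h'
        have := hN.conj_mem _ h' g
        rwa [show g * (g⁻¹ * w * g) * g⁻¹ = w by group] at this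
      have hQN : hp.Q ≤ N := hgenK N
        (by rw [mul_assoc, mul_assoc, ← mul_assoc i]; exact mul_mem hwN (hN.conj_mem _ (inv_mem hwN) i))
        (by rw [mul_assoc, mul_assoc, ← mul_assoc j]; exact mul_mem hwN (hN.conj_mem _ (inv_mem hwN) j))
      refine Subgroup.eq_top_of_card_eq N (hG.symm ▸ Nat.dvd_antisymm hdiv ?_)
      exact Nat.Coprime.mul_dvd_of_dvd_of_dvd (m := 8) (n := 3) (by norm_num)
        (hQ8 ▸ Subgroup.card_dvd_of_le hQN) h3
    · have hNQ : N ≤ hp.Q := by
        intro x hx
        rw [← QuotientGroup.eq_one_iff x, ← orderOf_eq_one_iff]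
        have h1 : orderOf (QuotientGroup.mk' hp.Q x) ∣ Nat.card N :=
          (orderOf_map_dvd _ x).trans (Subgroup.orderOf_dvd_natCard N hx)
        have h2' : orderOf (QuotientGroup.mk' hp.Q x) ∣ 3 := (orderOf_dvd_natCard _).trans (dvd_of_eq hidx)
        rcases (Nat.dvd_prime Nat.prime_three).1 h2' with e | e
        · exact e
        · rw [e] at h1; exact absurd h1 h3
      by_cases hc : N ≤ Subgroup.center (Matrix.SpecialLinearGroup (Fin 2) (ZMod 3))
      · by_cases hm : (-1 : Matrix.SpecialLinearGroup (Fin 2) (ZMod 3)) ∈ N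
        · exact Or.inr (Or.inr (Or.inl (le_antisymm hc fun x hx => by
            rcases (hZ x).1 hx with rfl | rfl
            · exact one_mem N
            · exact hm)))
        · refine Or.inl ((Subgroup.eq_bot_iff_forall N).2 fun x hx => ?_)
          rcases (hZ x).1 (hc hx) with rfl | rfl
          · rfl
          · exact absurd hx hm
      · right; right; right
        rw [hcomm]
        refine le_antisymm hNQ ?_
        obtain ⟨x, hxN, hxc⟩ := SetLike.not_le_iff_exists.1 hc
        obtain ⟨y, hy, hxy⟩ := hp.mem_Q_cases h2 (hNQ hxN)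
        simp only [Set.mem_insert_iff, Set.mem_singleton_iff] at hy
        have hyN : y * y = -1 → y ∈ N := fun hsq => by
          rcases hxy with rfl | rfl
          · exact hxN
          · exact hnegJ N y hsq hxN
        have step : ∀ u, u ∈ N → w * u * w⁻¹ ∈ N := fun u hu => hN.conj_mem u hu w
        rcases hy with rfl | rfl | rfl | rfl
        · exfalso
          apply hxc
          rw [hZ]
          exact hxy
        · have hk := step _ (hyN hi)
          rw [hwi] at hk
          have hj' := step _ hk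
          rw [hwk] at hj'
          exact hgen N (hyN hi) hj'
        · have hi' := step _ (hyN hp.jsq)
          rw [hwj] at hi'
          exact hgen N hi' (hyN hp.jsq)
        · have hj' := step _ (hyN hp.ksq)
          rw [hwk] at hj'
          have hi' := step _ hj'
          rw [hwj] at hi'
          exact hgen N hi' hj'

end Cfsg.Agent.S2427
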