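import Cfsg.Statements.S2428
import Cfsg.Agent.Lib.SL2.Tori
-- import your own Cfsg.Agent.* helpers here

set_option autoImplicit false
open Cfsg

namespace Cfsg.Agent.S2428

/-- Let F be a finite field with q elements, q odd, and let d be a diagonal element of SL₂ over F whose diagonal entry a has a² ≠ 1 (such d exist exactly when q > 3). Then the centraliser of d is precisely the diagonal subgroup T; the normaliser of T has order 2(q − 1) and exactly (q + 5)/2 conjugacy classes; and every element of that normaliser outside T has square equal to −1. -/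
theorem result {F : Type*} [Field F] [Fintype F] (hodd : Odd (Fintype.card F))
    (d : Matrix.SpecialLinearGroup (Fin 2) F) (hd01 : (d : Matrix (Fin 2) (Fin 2) F) 0 1 = 0) (hd10 : (d : Matrix (Fin 2) (Fin 2) F) 1 0 = 0) (hda : (d : Matrix (Fin 2) (Fin 2) F) 0 0 ^ 2 ≠ 1) :
    (∀ g : Matrix.SpecialLinearGroup (Fin 2) F, g ∈ Subgroup.centralizer ({d} : Set (Matrix.SpecialLinearGroup (Fin 2) F)) ↔ ((g : Matrix (Fin 2) (Fin 2) F) 0 1 = 0 ∧ (g : Matrix (Fin 2) (Fin 2) F) 1 0 = 0)) ∧
    Nat.card (Subgroup.normalizer ((Subgroup.centralizer ({d} : Set (Matrix.SpecialLinearGroup (Fin 2) F))) : Set (Matrix.SpecialLinearGroup (Fin 2) F))) = 2 * (Fintype.card F - 1) ∧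
    Nat.card (ConjClasses (Subgroup.normalizer ((Subgroup.centralizer ({d} : Set (Matrix.SpecialLinearGroup (Fin 2) F))) : Set (Matrix.SpecialLinearGroup (Fin 2) F)))) = (Fintype.card F + 5) / 2 ∧
    ∀ g : Matrix.SpecialLinearGroup (Fin 2) F, g ∈ Subgroup.normalizer ((Subgroup.centralizer ({d} : Set (Matrix.SpecialLinearGroup (Fin 2) F))) : Set (Matrix.SpecialLinearGroup (Fin 2) F)) →
      g ∉ Subgroup.centralizer ({d} : Set (Matrix.SpecialLinearGroup (Fin 2) F)) → ((g * g) : Matrix (Fin 2) (Fin 2) F) = -1 := by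
  obtain ⟨u, rfl⟩ : ∃ u : Fˣ, d = SL2.dd u := by
    have hd := SL2.det_eq d
    rw [hd01, hd10, mul_zero, sub_zero] at hd
    refine ⟨Units.mk0 _ (left_ne_zero_of_mul_eq_one hd), ?_⟩
    apply SL2.ext4 <;> simp [SL2.dd, hd01, hd10, eq_inv_of_mul_eq_one_right hd]
  have h1 : (u : F) ^ 2 ≠ 1 := hda
  have ht := SL2.tr_sq_dd h1
  obtain ⟨hc, -⟩ := SL2.card_cent_split ht (a := (u : F))
    (by rw [SL2.tr_dd, add_sub_cancel_left, mul_inv_cancel₀ u.ne_zero])
  refine ⟨fun g => SL2.mem_cent_dd h1, ?_, ?_, fun g hg hgT => ?_⟩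
  · rw [SL2.card_normalizer_cent ht, hc]
  · rw [SL2.card_classes_normalizer hodd ht, hc]
    obtain ⟨k, hk⟩ := hodd
    omega
  · have h := (SL2.sq_of_mem_normalizer ht hg hgT).2
    have h' := congrArg Subtype.val h
    simpa using h'

end Cfsg.Agent.S2428
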