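import Cfsg.Statements.S2429
import Cfsg.Agent.Lib.SL2.Tori
-- import your own Cfsg.Agent.* helpers here

set_option autoImplicit false
open Cfsg

namespace Cfsg.Agent.S2429

/-- Let F be a finite field with q elements, q odd. Then SL₂ over F contains a cyclic subgroup T′ of order q + 1 (a non-split torus) with the following properties: T′ is its own centraliser, and indeed the centraliser of each element of T′ other than 1 and −1 is exactly T′; every element of SL₂ having no eigenvector in F² is conjugate to an element of T′; the normaliser of T′ has order 2(q + 1) and exactly (q + 7)/2 conjugacy classes; and every element of that normaliser outside T′ has square −1. -/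
theorem result {F : Type*} [Field F] [Fintype F] (hodd : Odd (Fintype.card F)) :
    ∃ T' : Subgroup (Matrix.SpecialLinearGroup (Fin 2) F), IsCyclic T' ∧ Nat.card T' = Fintype.card F + 1 ∧
      Subgroup.centralizer ((T' : Set (Matrix.SpecialLinearGroup (Fin 2) F))) = T' ∧
      (∀ g : Matrix.SpecialLinearGroup (Fin 2) F, g ∈ T' → (g : Matrix (Fin 2) (Fin 2) F) ≠ 1 → (g : Matrix (Fin 2) (Fin 2) F) ≠ -1 → Subgroup.centralizer ({g} : Set (Matrix.SpecialLinearGroup (Fin 2) F)) = T') ∧
      (∀ g : Matrix.SpecialLinearGroup (Fin 2) F, (∀ (c : F) (v : Fin 2 → F), v ≠ 0 → (g : Matrix (Fin 2) (Fin 2) F).mulVec v ≠ c • v) → ∃ h : Matrix.SpecialLinearGroup (Fin 2) F, h * g * h⁻¹ ∈ T') ∧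
      Nat.card (Subgroup.normalizer (T' : Set (Matrix.SpecialLinearGroup (Fin 2) F))) = 2 * (Fintype.card F + 1) ∧
      Nat.card (ConjClasses (Subgroup.normalizer (T' : Set (Matrix.SpecialLinearGroup (Fin 2) F)))) = (Fintype.card F + 7) / 2 ∧
      ∀ g : Matrix.SpecialLinearGroup (Fin 2) F, g ∈ Subgroup.normalizer (T' : Set (Matrix.SpecialLinearGroup (Fin 2) F)) → g ∉ T' → ((g * g) : Matrix (Fin 2) (Fin 2) F) = -1 := by
  obtain ⟨g0, h0⟩ := SL2.exists_noEig (F := F)
  have ht := h0.tr_sq
  have hg0 := SL2.scal_of_tr_sq_ne ht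
  obtain ⟨hc, -⟩ := SL2.card_cent_noEig h0
  refine ⟨SL2.cent g0, SL2.isCyclic_cent ht, by rw [hc], SL2.centralizer_cent hg0,
    fun g hg h1 h2 => SL2.cent_eq hg0 hg fun hs => ?_, fun g hg => SL2.exists_conj_mem_cent hodd h0 hg,
    ?_, ?_, fun g hg hgT => ?_⟩
  · rcases (SL2.scal_iff g).1 hs with h | h
    · exact h1 (by rw [h]; simp)
    · exact h2 (by rw [h]; simp)
  · rw [SL2.card_normalizer_cent ht, hc]
  · rw [SL2.card_classes_normalizer hodd ht, hc]
    obtain ⟨k, hk⟩ := hodd
    omega
  · have h := (SL2.sq_of_mem_normalizer ht hg hgT).2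
    have h' := congrArg Subtype.val h
    simpa using h'

end Cfsg.Agent.S2429
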