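import Cfsg.Statements.S2434
import Cfsg.Agent.Lib.SL2.TableUse
-- import your own Cfsg.Agent.* helpers here

set_option autoImplicit false
open Cfsg

namespace Cfsg.Agent.S2434

/-- Let F be a finite field with q elements, q odd, and C a cyclic subgroup of order q + 1 of SL₂ over F (a non-split torus; it contains the centre). For every homomorphism θ from C to the non-zero complex numbers with θ² ≠ 1 there is an irreducible complex character χ of degree q − 1 such that χ(c) = −θ(c) − θ(c)⁻¹ for every non-central c in C, χ(zg) = θ(z)χ(g) for central z in C, χ vanishes at diagonal elements with entry a, a² ≠ 1, and χ takes the value −1 at every upper unitriangular element other than 1. Conversely every irreducible character of degree q − 1 has, for some such θ, the values −θ(c) − θ(c)⁻¹ at the non-central elements c of C (for q ≥ 5 these are exactly the cuspidal characters of degree q − 1). -/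
theorem result {F : Type*} [Field F] [Fintype F] (hodd : Odd (Fintype.card F))
    (C : Subgroup (Matrix.SpecialLinearGroup (Fin 2) F)) (hC : IsCyclic C) (hcard : Nat.card C = Fintype.card F + 1) :
    (∀ θ : C →* ℂˣ, (∃ c : C, θ c ^ 2 ≠ 1) →
      ∃ χ : Matrix.SpecialLinearGroup (Fin 2) F → ℂ, Cfsg.IsIrrCharacter (Matrix.SpecialLinearGroup (Fin 2) F) χ ∧ χ 1 = (Fintype.card F : ℂ) - 1 ∧
        (∀ c : C, (c : Matrix.SpecialLinearGroup (Fin 2) F) ∉ Subgroup.center (Matrix.SpecialLinearGroup (Fin 2) F) → χ c = -((θ c).val + (θ c)⁻¹.val)) ∧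
        (∀ c : C, (c : Matrix.SpecialLinearGroup (Fin 2) F) ∈ Subgroup.center (Matrix.SpecialLinearGroup (Fin 2) F) → ∀ g : Matrix.SpecialLinearGroup (Fin 2) F, χ ((c : Matrix.SpecialLinearGroup (Fin 2) F) * g) = (θ c).val * χ g) ∧
        (∀ g : Matrix.SpecialLinearGroup (Fin 2) F, (g : Matrix (Fin 2) (Fin 2) F) 0 1 = 0 → (g : Matrix (Fin 2) (Fin 2) F) 1 0 = 0 → (g : Matrix (Fin 2) (Fin 2) F) 0 0 ^ 2 ≠ 1 → χ g = 0) ∧
        (∀ g : Matrix.SpecialLinearGroup (Fin 2) F, (g : Matrix (Fin 2) (Fin 2) F) 1 0 = 0 → (g : Matrix (Fin 2) (Fin 2) F) 0 0 = 1 → (g : Matrix (Fin 2) (Fin 2) F) 1 1 = 1 → (g : Matrix (Fin 2) (Fin 2) F) 0 1 ≠ 0 → χ g = -1)) ∧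
    (∀ χ : Matrix.SpecialLinearGroup (Fin 2) F → ℂ, Cfsg.IsIrrCharacter (Matrix.SpecialLinearGroup (Fin 2) F) χ → χ 1 = (Fintype.card F : ℂ) - 1 →
      ∃ θ : C →* ℂˣ, (∃ c : C, θ c ^ 2 ≠ 1) ∧
        ∀ c : C, (c : Matrix.SpecialLinearGroup (Fin 2) F) ∉ Subgroup.center (Matrix.SpecialLinearGroup (Fin 2) F) → χ c = -((θ c).val + (θ c)⁻¹.val)) := by
  classical
  obtain ⟨g0, h0, rfl⟩ := SL2.exists_gen_noEig hodd C hC hcard
  have hq := SL2.two_le_q (F := F)
  refine ⟨fun θ ⟨c, hc⟩ => ?_, fun χ hχ h1 => ?_⟩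
  · have hθ : θ ≠ θ⁻¹ := fun e => hc (by
      have e' : θ c = (θ c)⁻¹ := congrArg (fun f : SL2.cent g0 →* ℂˣ => f c) e
      rw [pow_two]
      nth_rewrite 2 [e']
      exact mul_inv_cancel (θ c))
    refine ⟨SL2.cusp θ, SL2.isIrr_cusp hodd h0 hθ, SL2.cusp_one θ hodd h0, ?_, ?_, ?_, ?_⟩
    · intro c hc
      rw [SL2.cusp_cent θ h0 c (fun h => hc ((SL2.scal_iff_mem_center _).1 h)), map_inv]
    · intro z hz g
      have h := SL2.irr_central_mul (SL2.isIrr_cusp hodd h0 hθ) hz g
      have hs : SL2.Scal (z : Matrix.SpecialLinearGroup (Fin 2) F) :=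
        (SL2.scal_iff_mem_center _).2 hz
      rw [SL2.cusp_one θ hodd h0, SL2.cusp_scal θ hodd h0 hs, ← SL2.theta_scal θ z hs] at h
      have hne : (Fintype.card F : ℂ) - 1 ≠ 0 :=
        sub_ne_zero.2 (by exact_mod_cast (by omega : Fintype.card F ≠ 1))
      exact mul_right_cancel₀ hne (by linear_combination h)
    · intro g h01 h10 h00
      obtain ⟨a, ha, rfl⟩ := SL2.eq_dd_of_diag h01 h10
      exact SL2.cusp_diag θ h0 (by rw [ha]; exact h00)
    · intro g h10 h00 h11 h01
      rw [SL2.eq_uu_of_unitri h10 h00 h11, SL2.cusp_uu h0 hodd θ h01]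
  · obtain ⟨θ0, h01, h02, -⟩ := SL2.exists_theta0 h0 hodd
    have hex : ∀ θ : SL2.cent g0 →* ℂˣ, θ ≠ θ⁻¹ → ∃ c, θ c ^ 2 ≠ 1 := fun θ hθ => by
      by_contra hh
      push Not at hh
      exact hθ (MonoidHom.ext fun c => eq_inv_of_mul_eq_one_left (by rw [← pow_two]; exact hh c))
    have hqne : ∀ n : ℕ, Fintype.card F ≠ n → (Fintype.card F : ℂ) ≠ n := fun n h => by
      exact_mod_cast h
    rcases (SL2.table h0 hodd h01 h02).1 ⟨χ, hχ⟩ with h | h | ⟨α, -, h⟩ | ⟨θ, hθ, h⟩ | h | h
    · simp only at h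
      rw [h] at h1
      obtain ⟨k, hk⟩ := hodd
      exact absurd (by linear_combination -h1) (hqne 2 (by omega))
    · simp only at h
      rw [h, SL2.st_one] at h1
      exact absurd (show (1 : ℂ) = 0 by linear_combination h1) one_ne_zero
    · simp only at h
      rw [h, SL2.princ_one] at h1
      exact absurd (show (2 : ℂ) = 0 by linear_combination h1) two_ne_zero
    · simp only at h
      refine ⟨θ, hex θ hθ, fun c hc => ?_⟩
      rw [h, SL2.cusp_cent θ h0 c (fun h => hc ((SL2.scal_iff_mem_center _).1 h)), map_inv]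
    · have h : SL2.IsHalfP χ := h
      have h3 : (Fintype.card F : ℂ) = ((3 : ℕ) : ℂ) := by
        have := h.1.symm.trans h1
        push_cast
        linear_combination -2 * this
      have h3' : Fintype.card F = 3 := by exact_mod_cast h3
      haveI : Finite (SL2.cent g0 →* ℂˣ) := by
        haveI := SL2.isCyclic_cent h0.tr_sq
        letI : CommGroup (SL2.cent g0) := IsCyclic.commGroup
        exact Finite.of_equiv _
          (CommGroup.monoidHom_mulEquiv_of_hasEnoughRootsOfUnity (SL2.cent g0) ℂ).some.symm.toEquiv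
      haveI : Fintype (SL2.cent g0 →* ℂˣ) := Fintype.ofFinite _
      obtain ⟨hcnt, -⟩ := SL2.fibres_theta h0 hodd h01 h02
      obtain ⟨θ, hθ⟩ : ∃ θ : SL2.cent g0 →* ℂˣ, θ ≠ θ⁻¹ := by
        by_contra hh
        push Not at hh
        rw [Finset.filter_false_of_mem (fun θ _ => not_not.2 (hh θ)), Finset.image_empty,
          Finset.card_empty] at hcnt
        omega
      refine ⟨θ, hex θ hθ, fun c hc => ?_⟩
      have hcs : ¬ SL2.Scal (c : Matrix.SpecialLinearGroup (Fin 2) F) :=
        fun h => hc ((SL2.scal_iff_mem_center _).1 h)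
      obtain ⟨ht, -⟩ := SL2.tr_sq_of_cent h0 c.2 hcs
      rw [h.2.1 _ (Or.inr ht), SL2.princ_noEig _ (SL2.noEig_of_mem_cent h0 c.2 hcs), zero_div]
      have hsq : ∀ d : SL2.cent g0, d ^ 2 = 1 ∨ d ^ 2 = SL2.negOne g0 := fun d => by
        have := SL2.pow_half h0 hodd d
        rwa [h3'] at this
      have hneg : ((θ (SL2.negOne g0) : ℂˣ) : ℂ) = -1 := by
        refine (SL2.theta_neg_sign θ).resolve_left fun h1 => ?_
        obtain ⟨d, hd⟩ := hex θ hθ
        apply hd
        rw [← map_pow]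
        rcases hsq d with e | e <;> rw [e]
        · exact map_one θ
        · exact Units.ext h1
      have hc2 : c ^ 2 = SL2.negOne g0 := (hsq c).resolve_left fun e => by
        refine SL2.ne_inv ht (eq_inv_of_mul_eq_one_left ?_)
        rw [← pow_two]
        exact congrArg Subtype.val e
      have h4 : ((θ c : ℂˣ) : ℂ) * ((θ c : ℂˣ) : ℂ) = -1 := by
        rw [← Units.val_mul, ← map_mul, ← pow_two, hc2, hneg]
      have h5 : (((θ c)⁻¹ : ℂˣ) : ℂ) = -((θ c : ℂˣ) : ℂ) := by
        rw [Units.val_inv_eq_inv_val]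
        refine inv_eq_of_mul_eq_one_right ?_
        linear_combination -h4
      rw [h5]
      ring
    · have := h.1.symm.trans h1
      exact absurd (show (Fintype.card F : ℂ) = ((1 : ℕ) : ℂ) by
        push_cast; linear_combination -2 * this) (hqne 1 (by omega))

end Cfsg.Agent.S2434
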