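import Cfsg.Statements.S2435
import Cfsg.Agent.Lib.SL2.TableUse
-- import your own Cfsg.Agent.* helpers here

set_option autoImplicit false
open Cfsg

namespace Cfsg.Agent.S2435

/-- Let F be a finite field with q elements, q odd and q ≥ 5, and χ an irreducible complex character of SL₂ over F. If χ has degree (q + 1)/2, then at a diagonal element with entry a, a² ≠ 1, χ takes the value 1 when a is a square in F and −1 otherwise. If χ has degree (q − 1)/2, then at an element g with no eigenvector in F² (so g has order dividing q + 1), χ takes the value −1 when g raised to the power (q + 1)/2 is the identity and the value 1 otherwise. -/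
theorem result {F : Type*} [Field F] [Fintype F] (hodd : Odd (Fintype.card F)) (hq : 5 ≤ Fintype.card F)
    (χ : Matrix.SpecialLinearGroup (Fin 2) F → ℂ) (hχ : Cfsg.IsIrrCharacter (Matrix.SpecialLinearGroup (Fin 2) F) χ) (g : Matrix.SpecialLinearGroup (Fin 2) F) :
    (χ 1 = (((Fintype.card F + 1) / 2 : ℕ) : ℂ) → (g : Matrix (Fin 2) (Fin 2) F) 0 1 = 0 → (g : Matrix (Fin 2) (Fin 2) F) 1 0 = 0 → (g : Matrix (Fin 2) (Fin 2) F) 0 0 ^ 2 ≠ 1 →
      (IsSquare ((g : Matrix (Fin 2) (Fin 2) F) 0 0) → χ g = 1) ∧ (¬ IsSquare ((g : Matrix (Fin 2) (Fin 2) F) 0 0) → χ g = -1)) ∧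
    (χ 1 = (((Fintype.card F - 1) / 2 : ℕ) : ℂ) → (∀ (c : F) (v : Fin 2 → F), v ≠ 0 → (g : Matrix (Fin 2) (Fin 2) F).mulVec v ≠ c • v) →
      (((g ^ ((Fintype.card F + 1) / 2)) : Matrix (Fin 2) (Fin 2) F) = 1 → χ g = -1) ∧ (((g ^ ((Fintype.card F + 1) / 2)) : Matrix (Fin 2) (Fin 2) F) ≠ 1 → χ g = 1)) := by
  classical
  have hqne : ∀ n : ℕ, n ≤ 4 → (Fintype.card F : ℂ) ≠ n := fun n h => by
    exact_mod_cast (by omega : Fintype.card F ≠ n)
  refine ⟨fun h1 h01 h10 h00 => ?_, fun h1 hno => ?_⟩
  · obtain ⟨g0, h0⟩ := SL2.exists_noEig (F := F)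
    obtain ⟨θ0, t1, t2, -⟩ := SL2.exists_theta0 h0 hodd
    rw [SL2.half_add hodd] at h1
    have hP : SL2.IsHalfP χ := by
      rcases (SL2.table h0 hodd t1 t2).1 ⟨χ, hχ⟩ with h | h | ⟨α, -, h⟩ | ⟨θ, -, h⟩ | h | h
      · simp only at h
        rw [h] at h1
        exact absurd (show (Fintype.card F : ℂ) = ((1 : ℕ) : ℂ) by
          push_cast; linear_combination -2 * h1) (hqne 1 (by omega))
      · simp only at h
        rw [h, SL2.st_one] at h1
        exact absurd (show (Fintype.card F : ℂ) = ((1 : ℕ) : ℂ) by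
          push_cast; linear_combination 2 * h1) (hqne 1 (by omega))
      · simp only at h
        rw [h, SL2.princ_one] at h1
        have hz : (Fintype.card F : ℂ) + 1 = 0 := by linear_combination 2 * h1
        exact absurd hz (by exact_mod_cast Nat.succ_ne_zero (Fintype.card F))
      · simp only at h
        rw [h, SL2.cusp_one θ hodd h0] at h1
        exact absurd (show (Fintype.card F : ℂ) = ((3 : ℕ) : ℂ) by
          push_cast; linear_combination 2 * h1) (hqne 3 (by omega))
      · exact h
      · exact absurd (h.1.symm.trans h1) fun e => two_ne_zero (α := ℂ)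
          (by linear_combination -2 * e)
    obtain ⟨a, ha, rfl⟩ := SL2.eq_dd_of_diag h01 h10
    rw [← ha] at h00 ⊢
    rw [SL2.halfP_diag hP h00]
    refine ⟨fun hs => ?_, fun hs => ?_⟩
    · rw [(quadraticChar_one_iff_isSquare a.ne_zero).2 hs, Int.cast_one]
    · rw [quadraticChar_neg_one_iff_not_isSquare.2 hs]; norm_num
  · have h0 : SL2.NoEig g := hno
    obtain ⟨θ0, t1, t2, t3⟩ := SL2.exists_theta0 h0 hodd
    rw [SL2.half_sub hodd] at h1
    have hC : SL2.IsHalfC θ0 χ := by
      rcases (SL2.table h0 hodd t1 t2).1 ⟨χ, hχ⟩ with h | h | ⟨α, -, h⟩ | ⟨θ, -, h⟩ | h | h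
      · simp only at h
        rw [h] at h1
        exact absurd (show (Fintype.card F : ℂ) = ((3 : ℕ) : ℂ) by
          push_cast; linear_combination -2 * h1) (hqne 3 (by omega))
      · simp only at h
        rw [h, SL2.st_one] at h1
        have hz : (Fintype.card F : ℂ) + 1 = 0 := by linear_combination 2 * h1
        exact absurd hz (by exact_mod_cast Nat.succ_ne_zero (Fintype.card F))
      · simp only at h
        rw [h, SL2.princ_one] at h1
        have hz : ((Fintype.card F + 3 : ℕ) : ℂ) = 0 := by push_cast; linear_combination 2 * h1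
        exact absurd hz (by exact_mod_cast (by omega : Fintype.card F + 3 ≠ 0))
      · simp only at h
        rw [h, SL2.cusp_one θ hodd h0] at h1
        exact absurd (show (Fintype.card F : ℂ) = ((1 : ℕ) : ℂ) by
          push_cast; linear_combination 2 * h1) (hqne 1 (by omega))
      · exact absurd (h.1.symm.trans h1) fun e => two_ne_zero (α := ℂ)
          (by linear_combination 2 * e)
      · exact h
    have hns : ¬ SL2.Scal g := SL2.scal_of_tr_sq_ne h0.tr_sq
    have hval := SL2.halfC_torus h0 t2 hC ⟨g, SL2.self_mem_cent g⟩ hns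
    simp only at hval
    rw [hval, t3]
    have hpow : ((⟨g, SL2.self_mem_cent g⟩ : SL2.cent g) ^ ((Fintype.card F + 1) / 2) = 1) ↔
        ((g ^ ((Fintype.card F + 1) / 2)) : Matrix (Fin 2) (Fin 2) F) = 1 := by
      rw [← Matrix.SpecialLinearGroup.coe_pow]
      exact ⟨fun h => congrArg (fun x : SL2.cent g => ((x : Matrix.SpecialLinearGroup (Fin 2) F) : Matrix (Fin 2) (Fin 2) F)) h,
        fun h => Subtype.ext (Subtype.ext h)⟩
    refine ⟨fun h => ?_, fun h => ?_⟩
    · rw [if_pos (hpow.2 h)]
    · rw [if_neg (fun e => h (hpow.1 e))]; norm_num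

end Cfsg.Agent.S2435
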