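import Cfsg.Statements.S2436
import Cfsg.Agent.Lib.SL2.McKayTwo
-- import your own Cfsg.Agent.* helpers here

set_option autoImplicit false
open Cfsg

namespace Cfsg.Agent.S2436

/-- Let F be a finite field with q elements, q odd, ℓ any prime and S a Sylow ℓ-subgroup of SL₂ over F with normaliser N. Then SL₂ and N have the same number of irreducible complex characters of degree not divisible by ℓ (the McKay equality holds for SL₂ over F at every prime). -/
theorem result {F : Type*} [Field F] [Fintype F] (hodd : Odd (Fintype.card F)) (ℓ : ℕ) [Fact ℓ.Prime] (S : Sylow ℓ (Matrix.SpecialLinearGroup (Fin 2) F)) :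
    Nat.card {χ : Cfsg.IrrCharacter (Matrix.SpecialLinearGroup (Fin 2) F) // ¬ ℓ ∣ Cfsg.charDegree (χ : Matrix.SpecialLinearGroup (Fin 2) F → ℂ)} =
      Nat.card {ψ : Cfsg.IrrCharacter (Subgroup.normalizer ((S : Subgroup (Matrix.SpecialLinearGroup (Fin 2) F)) : Set (Matrix.SpecialLinearGroup (Fin 2) F))) //
        ¬ ℓ ∣ Cfsg.charDegree (ψ : Subgroup.normalizer ((S : Subgroup (Matrix.SpecialLinearGroup (Fin 2) F)) : Set (Matrix.SpecialLinearGroup (Fin 2) F)) → ℂ)} := by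
  classical
  show SL2.pdeg ℓ (Matrix.SpecialLinearGroup (Fin 2) F) = SL2.pdeg ℓ _
  have hl : ℓ.Prime := Fact.out
  obtain ⟨p, hchar⟩ := CharP.exists F
  obtain ⟨n, hp, hn⟩ := FiniteField.card F p
  haveI : Fact p.Prime := ⟨hp⟩
  obtain ⟨k, hk⟩ := id hodd
  have hq := SL2.two_le_q (F := F)
  have hh1 : (Fintype.card F + 1) / 2 = k + 1 := by omega
  have hh2 : (Fintype.card F - 1) / 2 = k := by omega
  have hG := SL2.two_mul_pdeg (F := F) hodd ℓ
  rw [hh1, hh2, show Fintype.card F - 1 = 2 * k by omega,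
    show Fintype.card F + 1 = 2 * (k + 1) by omega, show Fintype.card F - 3 = 2 * (k - 1) by omega] at hG
  have hk1 : 1 ≤ k := by omega
  by_cases hℓp : ℓ = p
  · subst hℓp
    rw [SL2.pdeg_normalizer_defining hodd S]
    have hqd : ℓ ∣ Fintype.card F := by rw [hn]; exact dvd_pow_self ℓ n.ne_zero
    have h1 : ¬ ℓ ∣ 2 * k := fun h => hl.not_dvd_one
      ((Nat.dvd_add_right h).1 (by rwa [← hk]))
    have h2 : ¬ ℓ ∣ 2 * (k + 1) := fun h => hl.not_dvd_one
      ((Nat.dvd_add_right hqd).1 (by rwa [hk, show 2 * k + 1 + 1 = 2 * (k + 1) by ring]))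
    have h3 : ¬ ℓ ∣ k := fun h => h1 (h.mul_left 2)
    have h4 : ¬ ℓ ∣ k + 1 := fun h => h2 (h.mul_left 2)
    rw [if_pos hqd, if_neg h1, if_neg h2, if_neg h3, if_neg h4] at hG
    omega
  have hnq : ¬ ℓ ∣ Fintype.card F := fun h => by
    rw [hn] at h
    exact hℓp ((Nat.prime_dvd_prime_iff_eq hl hp).1 (hl.dvd_of_dvd_pow h))
  rw [if_neg hnq] at hG
  by_cases h2 : ℓ = 2
  · subst h2
    rw [SL2.pdeg_normalizer_two hodd S]
    rw [if_pos (dvd_mul_right 2 k), if_pos (dvd_mul_right 2 (k + 1))] at hG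
    rcases Nat.even_or_odd k with ⟨j, hj⟩ | ⟨j, hj⟩
    · rw [if_pos (show 2 ∣ k by omega), if_neg (show ¬ 2 ∣ k + 1 by omega)] at hG
      omega
    · rw [if_neg (show ¬ 2 ∣ k by omega), if_pos (show 2 ∣ k + 1 by omega)] at hG
      omega
  have hl2 : ¬ ℓ ∣ 2 := fun h => h2 ((Nat.prime_dvd_prime_iff_eq hl Nat.prime_two).1 h)
  have hmul : ∀ m : ℕ, ℓ ∣ 2 * m ↔ ℓ ∣ m :=
    fun m => ⟨fun h => (hl.dvd_mul.1 h).resolve_left hl2, fun h => h.mul_left 2⟩
  by_cases hk0 : ℓ ∣ k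
  · have hk1' : ¬ ℓ ∣ k + 1 := fun h => hl.not_dvd_one ((Nat.dvd_add_right hk0).1 h)
    rw [SL2.pdeg_normalizer_torus hodd h2
      (Or.inl ⟨rfl, by rw [show Fintype.card F - 1 = 2 * k by omega]; exact hk0.mul_left 2⟩) S,
      hh2]
    rw [if_pos (hk0.mul_left 2), if_neg (fun h => hk1' ((hmul _).1 h)), if_neg hk1', if_pos hk0] at hG
    omega
  by_cases hk1' : ℓ ∣ k + 1
  · rw [SL2.pdeg_normalizer_torus hodd h2
      (Or.inr ⟨rfl, by rw [show Fintype.card F + 1 = 2 * (k + 1) by omega]; exact hk1'.mul_left 2⟩) S,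
      hh1]
    rw [if_pos (hk1'.mul_left 2), if_neg (fun h => hk0 ((hmul _).1 h)), if_pos hk1', if_neg hk0] at hG
    omega
  have hndvd : ¬ ℓ ∣ Nat.card (Matrix.SpecialLinearGroup (Fin 2) F) := by
    rw [SL2.card_G, show Fintype.card F - 1 = 2 * k by omega,
      show Fintype.card F + 1 = 2 * (k + 1) by omega, hl.dvd_mul, hl.dvd_mul, hmul, hmul]
    rintro (h | h | h)
    · exact hnq h
    · exact hk0 h
    · exact hk1' h
  have hbot : (S : Subgroup (Matrix.SpecialLinearGroup (Fin 2) F)) = ⊥ :=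
    Subgroup.eq_bot_of_card_eq _ (by
      rw [S.card_eq_multiplicity, Nat.factorization_eq_zero_of_not_dvd hndvd, pow_zero])
  have htop : Subgroup.normalizer
      ((S : Subgroup (Matrix.SpecialLinearGroup (Fin 2) F)) : Set (Matrix.SpecialLinearGroup (Fin 2) F)) = ⊤ := by
    rw [hbot]; exact Subgroup.normalizer_eq_top _
  exact SL2.pdeg_congr ℓ (Subgroup.topEquiv.symm.trans (MulEquiv.subgroupCongr htop.symm))

end Cfsg.Agent.S2436
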