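import Cfsg.Statements.S2439
import Cfsg.Agent.Lib.SL2.TableUse
import Cfsg.Agent.Lib.Blocks.Regular
import Cfsg.Agent.Lib.Blocks.BrauerFeit
import Cfsg.Agent.S0914
import Cfsg.Agent.Lib.SL2.BlocksOdd
-- import your own Cfsg.Agent.* helpers here

set_option autoImplicit false
open Cfsg

namespace Cfsg.Agent.S2439

/-- Let F be a finite field with q elements of odd characteristic p, and M a maximal ideal of the algebraic integers containing p. Then SL₂ over F has exactly three p-blocks relative to M: the irreducible character of degree q (the Steinberg character) alone; the other irreducible characters taking the same value at −1 as at 1 (the principal block); and the irreducible characters χ with χ(−1) = −χ(1). Every Sylow p-subgroup is a defect group of each of the last two blocks. -/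
theorem result {F : Type*} [Field F] [Fintype F] (p : ℕ) [Fact p.Prime] [CharP F p] (hp : p ≠ 2)
    (M : Ideal Cfsg.AlgInt) (hM : Cfsg.IsPModular p M) :
    (∀ B : Set (Cfsg.IrrCharacter (Matrix.SpecialLinearGroup (Fin 2) F)), Cfsg.IsPBlock M B ↔
      (B = {χ : Cfsg.IrrCharacter (Matrix.SpecialLinearGroup (Fin 2) F) | (χ : Matrix.SpecialLinearGroup (Fin 2) F → ℂ) 1 = (Fintype.card F : ℂ)} ∨
       B = {χ : Cfsg.IrrCharacter (Matrix.SpecialLinearGroup (Fin 2) F) | (χ : Matrix.SpecialLinearGroup (Fin 2) F → ℂ) (-1) = (χ : Matrix.SpecialLinearGroup (Fin 2) F → ℂ) 1 ∧ (χ : Matrix.SpecialLinearGroup (Fin 2) F → ℂ) 1 ≠ (Fintype.card F : ℂ)} ∨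
       B = {χ : Cfsg.IrrCharacter (Matrix.SpecialLinearGroup (Fin 2) F) | (χ : Matrix.SpecialLinearGroup (Fin 2) F → ℂ) (-1) = -(χ : Matrix.SpecialLinearGroup (Fin 2) F → ℂ) 1})) ∧
    Nat.card {B : Set (Cfsg.IrrCharacter (Matrix.SpecialLinearGroup (Fin 2) F)) // Cfsg.IsPBlock M B} = 3 ∧
    ∀ P : Sylow p (Matrix.SpecialLinearGroup (Fin 2) F),
      Cfsg.IsDefectGroup p M {χ : Cfsg.IrrCharacter (Matrix.SpecialLinearGroup (Fin 2) F) | (χ : Matrix.SpecialLinearGroup (Fin 2) F → ℂ) (-1) = (χ : Matrix.SpecialLinearGroup (Fin 2) F → ℂ) 1 ∧ (χ : Matrix.SpecialLinearGroup (Fin 2) F → ℂ) 1 ≠ (Fintype.card F : ℂ)} (P : Subgroup (Matrix.SpecialLinearGroup (Fin 2) F)) ∧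
      Cfsg.IsDefectGroup p M {χ : Cfsg.IrrCharacter (Matrix.SpecialLinearGroup (Fin 2) F) | (χ : Matrix.SpecialLinearGroup (Fin 2) F → ℂ) (-1) = -(χ : Matrix.SpecialLinearGroup (Fin 2) F → ℂ) 1} (P : Subgroup (Matrix.SpecialLinearGroup (Fin 2) F)) := by
  classical
  haveI := hM.2.1.isPrime
  have hp' : p.Prime := Fact.out
  obtain ⟨n, -, hn⟩ := FiniteField.card F p
  have hodd : Odd (Fintype.card F) := by rw [hn]; exact (hp'.odd_of_ne_two hp).pow
  have hpq : p ∣ Fintype.card F := by rw [hn]; exact dvd_pow_self p n.ne_zero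
  have hq := SL2.two_le_q (F := F)
  obtain ⟨g0, h0⟩ := SL2.exists_noEig (F := F)
  have hdeg : ∀ χ : Cfsg.IrrCharacter (Matrix.SpecialLinearGroup (Fin 2) F),
      (χ : Matrix.SpecialLinearGroup (Fin 2) F → ℂ) 1 =
        (Cfsg.charDegree (χ : Matrix.SpecialLinearGroup (Fin 2) F → ℂ) : ℂ) :=
    fun χ => CT.deg_eq (CT.isCharacter_of_isIrr χ.2)
  have hreg : ∀ χ : Cfsg.IrrCharacter (Matrix.SpecialLinearGroup (Fin 2) F),
      (χ : Matrix.SpecialLinearGroup (Fin 2) F → ℂ) 1 ≠ (Fintype.card F : ℂ) →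
      ¬ p ∣ Cfsg.charDegree (χ : Matrix.SpecialLinearGroup (Fin 2) F → ℂ) := fun χ h =>
    SL2.not_dvd_degree hodd hp' hpq χ fun e => h (by rw [hdeg χ, e])
  have hone : (Cfsg.Agent.CT.trivIrr (Matrix.SpecialLinearGroup (Fin 2) F) :
      Matrix.SpecialLinearGroup (Fin 2) F → ℂ) 1 ≠ (Fintype.card F : ℂ) := by
    rw [CT.trivIrr_apply]
    exact fun e => by
      have : (1 : ℕ) = Fintype.card F := by exact_mod_cast e
      omega
  let St : Cfsg.IrrCharacter (Matrix.SpecialLinearGroup (Fin 2) F) := ⟨SL2.st, SL2.isIrr_st hodd⟩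
  let one' := CT.trivIrr (Matrix.SpecialLinearGroup (Fin 2) F)
  set A : Set (Cfsg.IrrCharacter (Matrix.SpecialLinearGroup (Fin 2) F)) :=
    {χ | (χ : Matrix.SpecialLinearGroup (Fin 2) F → ℂ) 1 = (Fintype.card F : ℂ)} with hA
  set P : Set (Cfsg.IrrCharacter (Matrix.SpecialLinearGroup (Fin 2) F)) :=
    {χ | (χ : Matrix.SpecialLinearGroup (Fin 2) F → ℂ) (-1) =
      (χ : Matrix.SpecialLinearGroup (Fin 2) F → ℂ) 1 ∧
      (χ : Matrix.SpecialLinearGroup (Fin 2) F → ℂ) 1 ≠ (Fintype.card F : ℂ)} with hPdef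
  set N : Set (Cfsg.IrrCharacter (Matrix.SpecialLinearGroup (Fin 2) F)) :=
    {χ | (χ : Matrix.SpecialLinearGroup (Fin 2) F → ℂ) (-1) =
      -(χ : Matrix.SpecialLinearGroup (Fin 2) F → ℂ) 1} with hNdef
  -- the Steinberg character
  obtain ⟨θ0, t1, t2, -⟩ := SL2.exists_theta0 h0 hodd
  have hStA : A = {St} := by
    ext χ
    simp only [hA, Set.mem_setOf_eq, Set.mem_singleton_iff]
    refine ⟨fun h => ?_, fun h => by rw [h]; exact SL2.st_one⟩
    rcases (SL2.table h0 hodd t1 t2).1 χ with e | e | ⟨α, -, e⟩ | ⟨θ, -, e⟩ | e | e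
    · rw [e] at h
      exact absurd (show (1 : ℕ) = Fintype.card F by simp only at h; exact_mod_cast h) (by omega)
    · exact Subtype.ext e
    · rw [e, SL2.princ_one] at h
      exact absurd (add_left_cancel (h.trans (add_zero _).symm)) one_ne_zero
    · rw [e, SL2.cusp_one θ hodd h0] at h
      exact absurd (show (1 : ℂ) = 0 by linear_combination -h) one_ne_zero
    · have := e.1.symm.trans h
      exact absurd (show (1 : ℕ) = Fintype.card F by
        exact_mod_cast (show (1 : ℂ) = (Fintype.card F : ℂ) by linear_combination 2 * this)) (by omega)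
    · have := e.1.symm.trans h
      have h2 : ((Fintype.card F + 1 : ℕ) : ℂ) = 0 := by push_cast; linear_combination -2 * this
      exact absurd h2 (Nat.cast_ne_zero.2 (Nat.succ_ne_zero _))
  have hStq : (St : Matrix.SpecialLinearGroup (Fin 2) F → ℂ) 1 = (Fintype.card F : ℂ) := SL2.st_one
  have hStsign : (St : Matrix.SpecialLinearGroup (Fin 2) F → ℂ) (-1) =
      (St : Matrix.SpecialLinearGroup (Fin 2) F → ℂ) 1 := by
    simp only [St, SL2.st, SL2.princ_one,
      SL2.princ_scal (1 : MulChar F ℂ) ((SL2.scal_iff (-1 : Matrix.SpecialLinearGroup (Fin 2) F)).2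
        (Or.inr rfl))]
    simp [MulChar.one_apply]
  have hStblock : Cfsg.blockOf M (St : Matrix.SpecialLinearGroup (Fin 2) F → ℂ) = A := by
    rw [hStA]
    refine (Cfsg.Agent.S0914.result p M hM St).1 ?_
    have hd : Cfsg.charDegree (St : Matrix.SpecialLinearGroup (Fin 2) F → ℂ) = Fintype.card F := by
      exact_mod_cast (hdeg St).symm.trans hStq
    rw [hd, SL2.card_G, Nat.mul_div_cancel_left _ (by omega)]
    intro h
    rcases (hp'.dvd_mul).1 h with h | h
    · have := (Nat.dvd_add_right h).1 (by rwa [Nat.sub_add_cancel (by omega)] : p ∣ Fintype.card F - 1 + 1)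
      exact hp'.not_dvd_one this
    · exact hp'.not_dvd_one ((Nat.dvd_add_right hpq).1 h)
  -- signs
  have hsep : ∀ χ ψ : Cfsg.IrrCharacter (Matrix.SpecialLinearGroup (Fin 2) F),
      Cfsg.SameBlock M (χ : Matrix.SpecialLinearGroup (Fin 2) F → ℂ) (ψ : _ → ℂ) →
      (χ : Matrix.SpecialLinearGroup (Fin 2) F → ℂ) (-1) =
        (χ : Matrix.SpecialLinearGroup (Fin 2) F → ℂ) 1 →
      (ψ : Matrix.SpecialLinearGroup (Fin 2) F → ℂ) (-1) =
        -(ψ : Matrix.SpecialLinearGroup (Fin 2) F → ℂ) 1 → False := by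
    intro χ ψ h hχ hψ
    have h' := h (-1)
    have hi : (Subgroup.centralizer ({(-1 : Matrix.SpecialLinearGroup (Fin 2) F)} :
        Set (Matrix.SpecialLinearGroup (Fin 2) F))).index = 1 := by
      rw [Subgroup.index_eq_one, Subgroup.centralizer_eq_top_iff_subset, Set.singleton_subset_iff]
      exact SL2.neg_one_central
    simp only [Cfsg.centralChar, hi, Nat.cast_one, one_mul, hχ, hψ] at h'
    rw [div_self (CT.irr_one_ne_zero χ.2), neg_div, div_self (CT.irr_one_ne_zero ψ.2),
      show (1 : ℂ) - -1 = ((2 : ℕ) : ℂ) by norm_num, Blocks.memLocalIdeal_natCast hM] at h'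
    exact hp ((Nat.prime_dvd_prime_iff_eq hp' Nat.prime_two).1 h')
  have hNq : ∀ χ ∈ N, (χ : Matrix.SpecialLinearGroup (Fin 2) F → ℂ) 1 ≠ (Fintype.card F : ℂ) := by
    intro χ hχ e
    have : χ ∈ A := e
    rw [hStA, Set.mem_singleton_iff] at this
    subst this
    have h' : (St : Matrix.SpecialLinearGroup (Fin 2) F → ℂ) 1 =
        -(St : Matrix.SpecialLinearGroup (Fin 2) F → ℂ) 1 := hStsign.symm.trans hχ
    exact CT.irr_one_ne_zero St.2 (by linear_combination h' / 2)
  have hblockP : ∀ χ ∈ P, Cfsg.blockOf M (χ : Matrix.SpecialLinearGroup (Fin 2) F → ℂ) = P := by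
    intro χ hχ
    ext ψ
    refine ⟨fun h => ?_, fun h => SL2.centralChar_congr_sign hodd hp hM hpq χ ψ (hreg χ hχ.2)
      (hreg ψ h.2) (by rw [hχ.1, h.1, mul_comm])⟩
    rcases SL2.irr_neg_one ψ.2 with e | e
    · refine ⟨e, fun e' => hχ.2 ?_⟩
      have : ψ ∈ A := e'
      rw [← hStblock] at this
      have h3 : χ ∈ A := by
        rw [← hStblock]
        exact Blocks.sameBlock_trans this (Blocks.sameBlock_symm h)
      exact h3
    · exact (hsep χ ψ h hχ.1 e).elim
  have hblockN : ∀ χ ∈ N, Cfsg.blockOf M (χ : Matrix.SpecialLinearGroup (Fin 2) F → ℂ) = N := by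
    intro χ hχ
    ext ψ
    refine ⟨fun h => ?_, fun h => SL2.centralChar_congr_sign hodd hp hM hpq χ ψ
      (hreg χ (hNq χ hχ)) (hreg ψ (hNq ψ h)) (by
        rw [show _ = _ from hχ, show _ = _ from h]; ring)⟩
    rcases SL2.irr_neg_one ψ.2 with e | e
    · exact (hsep ψ χ (Blocks.sameBlock_symm h) e hχ).elim
    · exact e
  have h1P : one' ∈ P := ⟨rfl, hone⟩
  obtain ⟨χm, hm⟩ : N.Nonempty := by
    by_contra hh
    rw [Set.not_nonempty_iff_eq_empty] at hh
    have hall : ∀ χ : Cfsg.IrrCharacter (Matrix.SpecialLinearGroup (Fin 2) F),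
        (χ : Matrix.SpecialLinearGroup (Fin 2) F → ℂ) (-1) =
          (χ : Matrix.SpecialLinearGroup (Fin 2) F → ℂ) 1 := fun χ =>
      (SL2.irr_neg_one χ.2).resolve_right fun e => by
        have : χ ∈ N := e
        rw [hh] at this
        exact this
    have h := CT.regular_eq_sum (-1 : Matrix.SpecialLinearGroup (Fin 2) F)
    rw [if_neg (SL2.neg_one_ne_one' hodd)] at h
    simp only [hall, ← pow_two] at h
    rw [CT.sum_degree_sq] at h
    exact Nat.card_pos.ne' (by exact_mod_cast h)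
  have hblocks : ∀ B, Cfsg.IsPBlock M B ↔ B = A ∨ B = P ∨ B = N := by
    intro B
    constructor
    · rintro ⟨χ, rfl⟩
      by_cases hq' : (χ : Matrix.SpecialLinearGroup (Fin 2) F → ℂ) 1 = (Fintype.card F : ℂ)
      · have : χ = St := by
          have : χ ∈ A := hq'
          rwa [hStA, Set.mem_singleton_iff] at this
        subst this
        exact Or.inl hStblock
      · rcases SL2.irr_neg_one χ.2 with e | e
        · exact Or.inr (Or.inl (hblockP χ ⟨e, hq'⟩))
        · exact Or.inr (Or.inr (hblockN χ e))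
    · rintro (rfl | rfl | rfl)
      · exact ⟨St, hStblock.symm⟩
      · exact ⟨one', (hblockP one' h1P).symm⟩
      · exact ⟨χm, (hblockN χm hm).symm⟩
  refine ⟨hblocks, ?_, fun S => ?_⟩
  · show Nat.card ↥{B | Cfsg.IsPBlock M B} = 3
    rw [Nat.card_coe_set_eq, Set.ncard_eq_three]
    refine ⟨A, P, N, fun e => ?_, fun e => ?_, fun e => ?_, Set.ext fun B => by simp [hblocks]⟩
    · have : St ∈ P := e ▸ hStq
      exact this.2 hStq
    · have : St ∈ N := e ▸ hStq
      exact hNq St this hStq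
    · have : one' ∈ N := e ▸ h1P
      have h' : (1 : ℂ) = -1 := this
      norm_num at h'
  · have key : ∀ (B : Set (Cfsg.IrrCharacter (Matrix.SpecialLinearGroup (Fin 2) F)))
        (χ : Cfsg.IrrCharacter (Matrix.SpecialLinearGroup (Fin 2) F)), Cfsg.IsPBlock M B → χ ∈ B →
        ¬ p ∣ Cfsg.charDegree (χ : Matrix.SpecialLinearGroup (Fin 2) F → ℂ) →
        Cfsg.IsDefectGroup p M B (S : Subgroup (Matrix.SpecialLinearGroup (Fin 2) F)) := by
      intro B χ hB hχ hd
      obtain ⟨D, hD⟩ := Blocks.exists_defectGroup (p := p) hB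
      have hfull : Cfsg.blockDefect p B =
          (Nat.card (Matrix.SpecialLinearGroup (Fin 2) F)).factorization p := by
        refine le_antisymm (Blocks.blockDefect_le p B) ?_
        have := Blocks.le_blockDefect_add (p := p) hχ
        rw [Nat.factorization_eq_zero_of_not_dvd hd] at this
        omega
      have hc := Blocks.card_defectGroup hM hB hD
      rw [hfull] at hc
      obtain ⟨x, hx⟩ := MulAction.exists_smul_eq (Matrix.SpecialLinearGroup (Fin 2) F)
        (Sylow.ofCard D hc) S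
      have := Blocks.isDefectGroup_conj hD x
      convert this using 1
      rw [← hx]
      rfl
    exact ⟨key P one' ((hblocks P).2 (Or.inr (Or.inl rfl))) h1P (hreg one' hone),
      key N χm ((hblocks N).2 (Or.inr (Or.inr rfl))) hm (hreg χm (hNq χm hm))⟩

end Cfsg.Agent.S2439
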