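import Cfsg.Statements.S2444
import Cfsg.Agent.Lib.SLComm23.Main
-- import your own Cfsg.Agent.* helpers here

set_option autoImplicit false
open Cfsg

namespace Cfsg.Agent.S2444

/-- In the special linear group SL(n,F) over a finite field F, with n ≥ 2 and (n, |F|) not (2,2) or (2,3), every element is a commutator a·b·a⁻¹·b⁻¹ of two elements of SL(n,F). -/
theorem result {F : Type*} [Field F] [Fintype F] (n : ℕ) (hn : 2 ≤ n) (hex : n = 2 → 4 ≤ Fintype.card F) :
    ∀ g : Matrix.SpecialLinearGroup (Fin n) F, ∃ a b : Matrix.SpecialLinearGroup (Fin n) F, g = a * b * a⁻¹ * b⁻¹ := by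
  intro g
  have hdim : Module.finrank F (Fin n → F) = n := Module.finrank_fin_fun F
  obtain ⟨a, b, ha, hb, hab⟩ := Cfsg.Agent.SLComm23.isComm_of_det_one
    (g := Matrix.toLin' g.1) (by rw [LinearMap.det_toLin', g.2]) hdim hn hex
  obtain ⟨A, hA⟩ : ∃ A : Matrix.SpecialLinearGroup (Fin n) F, A.1 = LinearMap.toMatrix' a :=
    ⟨⟨LinearMap.toMatrix' a, by rw [LinearMap.det_toMatrix', ha]⟩, rfl⟩
  obtain ⟨B, hB⟩ : ∃ B : Matrix.SpecialLinearGroup (Fin n) F, B.1 = LinearMap.toMatrix' b :=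
    ⟨⟨LinearMap.toMatrix' b, by rw [LinearMap.det_toMatrix', hb]⟩, rfl⟩
  refine ⟨A, B, ?_⟩
  have h : g.1 * (LinearMap.toMatrix' b * LinearMap.toMatrix' a) =
      LinearMap.toMatrix' a * LinearMap.toMatrix' b := by
    have h' := congrArg LinearMap.toMatrix' hab
    rw [LinearMap.toMatrix'_mul, LinearMap.toMatrix'_mul, LinearMap.toMatrix'_mul,
      LinearMap.toMatrix'_toLin'] at h'
    exact h'
  have h2 : g * (B * A) = A * B := by
    apply Subtype.ext
    rw [Matrix.SpecialLinearGroup.coe_mul, Matrix.SpecialLinearGroup.coe_mul,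
      Matrix.SpecialLinearGroup.coe_mul, hA, hB]
    exact h
  rw [← h2]
  group

end Cfsg.Agent.S2444
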