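import Cfsg.Statements.S2459
import Mathlib

/-!
# Covering PSL(3,q) by the square of a semisimple class

For `q ≥ 4` the class of `h = diag(1,b,b⁻¹)` with three distinct eigenvalues is used: every
non-scalar matrix of determinant `1` is similar to some `L * h ^ 2 * U` with `L`, `U`
unitriangular, and `L * h`, `h * U` are conjugates of `h`.  For `q = 3` the class of a Singer
element of order 13 is used, checked on the normal forms.
-/

set_option autoImplicit false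
open Cfsg Matrix

namespace Cfsg.Agent.S2459

local notation "M3" => Matrix (Fin 3) (Fin 3)

section Field

variable {F : Type*} [Field F]

/-- A non-scalar matrix moves some vector off its line. -/
lemma exists_frame (g : M3 F) (hg : ¬ ∃ s : F, g = Matrix.scalar (Fin 3) s) :
    ∃ v w : Fin 3 → F, (!![v 0, (g *ᵥ v) 0, w 0; v 1, (g *ᵥ v) 1, w 1;
      v 2, (g *ᵥ v) 2, w 2]).det ≠ 0 := by
  by_contra hcon
  push Not at hcon
  apply hg
  refine ⟨g 0 0, ?_⟩
  have h1 := hcon ![1, 0, 0] ![0, 1, 0]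
  have h2 := hcon ![1, 0, 0] ![0, 0, 1]
  have h3 := hcon ![0, 1, 0] ![1, 0, 0]
  have h4 := hcon ![0, 1, 0] ![0, 0, 1]
  have h5 := hcon ![0, 0, 1] ![1, 0, 0]
  have h6 := hcon ![0, 0, 1] ![0, 1, 0]
  have h7 := hcon ![1, 1, 0] ![0, 0, 1]
  have h8 := hcon ![1, 0, 1] ![0, 1, 0]
  simp [Matrix.det_fin_three, Matrix.mulVec, dotProduct, Fin.sum_univ_three]
    at h1 h2 h3 h4 h5 h6 h7 h8
  simp [h1, h2, h4, h6, sub_eq_zero] at h7 h8
  have h8' : g 2 2 = g 0 0 := by linear_combination -h8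
  ext i j
  fin_cases i <;> fin_cases j <;> simp [h1, h2, h3, h4, h5, h6, h7, h8']

/-- Read off a column of a conjugate. -/
lemma col_of_mul (g P : M3 F) (hP : P.det ≠ 0) (j : Fin 3) (c : Fin 3 → F)
    (h : ∀ i, (g * P) i j = (P *ᵥ c) i) : ∀ i, (P⁻¹ * g * P) i j = c i := by
  intro i
  have h' : (fun i => (g * P) i j) = P *ᵥ c := funext h
  calc (P⁻¹ * g * P) i j = (P⁻¹ *ᵥ (fun i => (g * P) i j)) i := by
        rw [Matrix.mul_assoc]; rfl
    _ = c i := by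
        rw [h', Matrix.mulVec_mulVec, Matrix.nonsing_inv_mul _ (isUnit_iff_ne_zero.2 hP),
          Matrix.one_mulVec]

/-- First column `(d, 1, 0)` can always be reached by similarity. -/
lemma exists_col_form (g : M3 F) (hg : ¬ ∃ s : F, g = Matrix.scalar (Fin 3) s) (d : F) :
    ∃ P : M3 F, P.det ≠ 0 ∧ (P⁻¹ * g * P) 0 0 = d ∧ (P⁻¹ * g * P) 1 0 = 1 ∧
      (P⁻¹ * g * P) 2 0 = 0 := by
  obtain ⟨v, w, hdet⟩ := exists_frame g hg
  let P : M3 F := !![v 0, (g *ᵥ v) 0 - d * v 0, w 0; v 1, (g *ᵥ v) 1 - d * v 1, w 1;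
      v 2, (g *ᵥ v) 2 - d * v 2, w 2]
  have hP : P.det ≠ 0 := by
    convert hdet using 1
    simp [P, Matrix.det_fin_three]
    ring
  have hc := col_of_mul g P hP 0 ![d, 1, 0] (by
    intro i
    fin_cases i <;>
      simp [P, Matrix.mul_apply, Matrix.mulVec, dotProduct, Fin.sum_univ_three] <;> ring)
  exact ⟨P, hP, hc 0, hc 1, hc 2⟩

/-- A `2 × 2` non-scalar matrix: a vector `u` such that `u`, `S u - d u` is a basis. -/
lemma exists_two_frame (a b c e d : F) (h : ¬ (b = 0 ∧ c = 0 ∧ a = e)) :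
    ∃ u0 u1 : F, u0 * (c * u0 + e * u1 - d * u1) - u1 * (a * u0 + b * u1 - d * u0) ≠ 0 := by
  by_cases hc : c = 0
  · by_cases hb : b = 0
    · refine ⟨1, 1, fun h' => h ⟨hb, hc, ?_⟩⟩
      subst hb hc
      linear_combination -h'
    · refine ⟨0, 1, fun h' => hb ?_⟩
      linear_combination -h'
  · refine ⟨1, 0, fun h' => hc ?_⟩
    linear_combination h'

/-- The Schur complement step, for a non-scalar complement. -/
lemma minor_step (M : M3 F) {d1 d2 : F} (hd1 : d1 ≠ 0) (h0 : M 0 0 = d1) (h1 : M 1 0 = 1)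
    (h2 : M 2 0 = 0)
    (hS : ¬ (M 1 2 - M 0 2 / d1 = 0 ∧ M 2 1 = 0 ∧ M 1 1 - M 0 1 / d1 = M 2 2)) :
    ∃ Q : M3 F, Q.det ≠ 0 ∧ (Q⁻¹ * M * Q) 0 0 = d1 ∧
      (Q⁻¹ * M * Q) 0 0 * (Q⁻¹ * M * Q) 1 1 - (Q⁻¹ * M * Q) 0 1 * (Q⁻¹ * M * Q) 1 0
        = d1 * d2 := by
  obtain ⟨u0, u1, hu⟩ := exists_two_frame _ _ _ _ d2 hS
  set c0 := (M 1 1 - M 0 1 / d1) * u0 + (M 1 2 - M 0 2 / d1) * u1 - d2 * u0 with hc0
  set c1 := M 2 1 * u0 + M 2 2 * u1 - d2 * u1 with hc1
  set δ := u0 * c1 - u1 * c0 with hδ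
  let Q : M3 F := !![1, 0, 0; 0, u0, c0; 0, u1, c1]
  have hQ : Q.det ≠ 0 := by
    have : Q.det = δ := by simp [Q, Matrix.det_fin_three, hδ]; ring
    rwa [this]
  set r := M 0 1 * u0 + M 0 2 * u1 with hr
  have hδ0 : δ ≠ 0 := hu
  have hcol0 := col_of_mul M Q hQ 0 ![d1, c1 / δ, -u1 / δ] (by
    intro i
    fin_cases i <;>
      simp [Q, Matrix.mul_apply, Matrix.mulVec, dotProduct, Fin.sum_univ_three, h0, h1, h2] <;>
      field_simp <;> simp [hδ] <;> ring)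
  have hcol1 := col_of_mul M Q hQ 1 ![r, d2 + c1 / δ * (r / d1), 1 + -u1 / δ * (r / d1)] (by
    intro i
    fin_cases i
    · simp [Q, hr, Matrix.mul_apply, Matrix.mulVec, dotProduct, Fin.sum_univ_three]
    · simp [Q, Matrix.mul_apply, Matrix.mulVec, dotProduct, Fin.sum_univ_three]
      field_simp
      simp only [hr, hδ, hc0]
      field_simp
      ring
    · simp [Q, Matrix.mul_apply, Matrix.mulVec, dotProduct, Fin.sum_univ_three]
      field_simp
      simp only [hr, hδ, hc1]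
      field_simp
      ring)
  refine ⟨Q, hQ, hcol0 0, ?_⟩
  rw [hcol0 0, hcol0 1, hcol1 0, hcol1 1]
  simp
  field_simp
  ring

/-- Any non-scalar invertible matrix is similar to one with prescribed leading minors. -/
lemma exists_minor_form (g : M3 F) (hg : ¬ ∃ s : F, g = Matrix.scalar (Fin 3) s)
    (hdet : g.det ≠ 0) {d1 d2 : F} (hd1 : d1 ≠ 0) :
    ∃ P : M3 F, P.det ≠ 0 ∧ (P⁻¹ * g * P) 0 0 = d1 ∧
      (P⁻¹ * g * P) 0 0 * (P⁻¹ * g * P) 1 1 - (P⁻¹ * g * P) 0 1 * (P⁻¹ * g * P) 1 0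
        = d1 * d2 := by
  obtain ⟨P, hP, h0, h1, h2⟩ := exists_col_form g hg d1
  have hPu : IsUnit P.det := isUnit_iff_ne_zero.2 hP
  set M := P⁻¹ * g * P with hM
  have key : ∀ R : M3 F, R.det ≠ 0 → (R⁻¹ * M * R) = (P * R)⁻¹ * g * (P * R) := by
    intro R _
    rw [Matrix.mul_inv_rev, hM]
    simp only [Matrix.mul_assoc]
  by_cases hS : M 1 2 - M 0 2 / d1 = 0 ∧ M 2 1 = 0 ∧ M 1 1 - M 0 1 / d1 = M 2 2
  · obtain ⟨s1, s2, s3⟩ := hS
    have hdetM : M.det ≠ 0 := by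
      rw [hM, Matrix.det_mul, Matrix.det_mul]
      exact mul_ne_zero (mul_ne_zero ((Matrix.isUnit_nonsing_inv_det _ hPu).ne_zero) hdet) hP
    have hw : M 2 2 ≠ 0 := by
      intro h22
      apply hdetM
      simp [Matrix.det_fin_three, h2, s2, h22]
    let R : M3 F := !![1, 0, 1; 0, 1, 0; 0, 0, 1]
    have hR : R.det ≠ 0 := by simp [R, Matrix.det_fin_three]
    have hc0 := col_of_mul M R hR 0 ![d1, 1, 0] (by
      intro i
      fin_cases i <;>
        simp [R, Matrix.mul_apply, Matrix.mulVec, dotProduct, Fin.sum_univ_three, h0, h1, h2])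
    have hc2 := col_of_mul M R hR 2 ![M 0 2 + d1 - M 2 2, M 1 2 + 1, M 2 2] (by
      intro i
      fin_cases i <;>
        simp [R, Matrix.mul_apply, Matrix.mulVec, dotProduct, Fin.sum_univ_three, h0, h1, h2] <;>
        ring)
    have hne : ¬ ((R⁻¹ * M * R) 1 2 - (R⁻¹ * M * R) 0 2 / d1 = 0 ∧ (R⁻¹ * M * R) 2 1 = 0 ∧
        (R⁻¹ * M * R) 1 1 - (R⁻¹ * M * R) 0 1 / d1 = (R⁻¹ * M * R) 2 2) := by
      rintro ⟨e1, -, -⟩
      rw [hc2 0, hc2 1] at e1
      simp at e1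
      apply hw
      field_simp at e1 s1
      linear_combination e1 - s1
    obtain ⟨Q, hQ, q0, q1⟩ := minor_step (d2 := d2) _ hd1 (hc0 0) (hc0 1) (hc0 2) hne
    refine ⟨P * (R * Q), ?_, ?_⟩
    · simp [Matrix.det_mul, hP, hR, hQ]
    · have e : Q⁻¹ * (R⁻¹ * M * R) * Q = (P * (R * Q))⁻¹ * g * (P * (R * Q)) := by
        rw [← key _ (by simp [Matrix.det_mul, hR, hQ]), Matrix.mul_inv_rev]
        simp only [Matrix.mul_assoc]
      rw [← e]
      exact ⟨q0, q1⟩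
  · obtain ⟨Q, hQ, q0, q1⟩ := minor_step (d2 := d2) M hd1 h0 h1 h2 hS
    refine ⟨P * Q, by simp [Matrix.det_mul, hP, hQ], ?_⟩
    rw [← key Q hQ]
    exact ⟨q0, q1⟩

/-- `L * diag(a,b,c)` is a conjugate of the diagonal matrix for distinct `a, b, c`. -/
lemma lower_conj {a b c : F} (ha : a ≠ 0) (hab : a ≠ b) (hac : a ≠ c) (hbc : b ≠ c)
    (hb : b ≠ 0) (hc : c ≠ 0) (x y z : F) :
    ∃ A : M3 F, A.det = 1 ∧
      (!![1, 0, 0; x, 1, 0; y, z, 1] * !![a, 0, 0; 0, b, 0; 0, 0, c]) * A =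
        A * !![a, 0, 0; 0, b, 0; 0, 0, c] := by
  have h1 : a - b ≠ 0 := sub_ne_zero.2 hab
  have h2 : a - c ≠ 0 := sub_ne_zero.2 hac
  have h3 : b - c ≠ 0 := sub_ne_zero.2 hbc
  refine ⟨!![1, 0, 0; x * a / (a - b), 1, 0;
    (y * a + z * b * (x * a / (a - b))) / (a - c), z * b / (b - c), 1], ?_, ?_⟩
  · simp [Matrix.det_fin_three]
  · ext i j
    fin_cases i <;> fin_cases j <;> simp [Matrix.mul_apply, Fin.sum_univ_three] <;>
      field_simp <;> ring

/-- `diag(a,b,c) * U` is a conjugate of the diagonal matrix for distinct `a, b, c`. -/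
lemma upper_conj {a b c : F} (hab : a ≠ b) (hac : a ≠ c) (hbc : b ≠ c) (x y z : F) :
    ∃ A : M3 F, A.det = 1 ∧
      (!![a, 0, 0; 0, b, 0; 0, 0, c] * !![1, x, y; 0, 1, z; 0, 0, 1]) * A =
        A * !![a, 0, 0; 0, b, 0; 0, 0, c] := by
  have h1 : b - a ≠ 0 := sub_ne_zero.2 hab.symm
  have h2 : c - a ≠ 0 := sub_ne_zero.2 hac.symm
  have h3 : c - b ≠ 0 := sub_ne_zero.2 hbc.symm
  refine ⟨!![1, a * x / (b - a), (a * y + a * x * (b * z / (c - b))) / (c - a);
    0, 1, b * z / (c - b); 0, 0, 1], ?_, ?_⟩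
  · simp [Matrix.det_fin_three]
  · ext i j
    fin_cases i <;> fin_cases j <;> simp [Matrix.mul_apply, Fin.sum_univ_three] <;>
      field_simp <;> ring

/-- The matrix identity behind the covering for `q ≥ 4`. -/
lemma cover_diag (g : M3 F) (hg : ¬ ∃ s : F, g = Matrix.scalar (Fin 3) s) (hdet : g.det = 1)
    {b : F} (hb0 : b ≠ 0) (hb1 : b ≠ 1) (hb2 : b * b ≠ 1) :
    ∃ A B : M3 F, A.det ≠ 0 ∧ B.det ≠ 0 ∧
      g = (A * !![1, 0, 0; 0, b, 0; 0, 0, b⁻¹] * A⁻¹) *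
        (B * !![1, 0, 0; 0, b, 0; 0, 0, b⁻¹] * B⁻¹) := by
  obtain ⟨P, hP, h00, hmin⟩ := exists_minor_form g hg (by rw [hdet]; exact one_ne_zero)
    (d1 := 1) (d2 := b * b) one_ne_zero
  have hPu : IsUnit P.det := isUnit_iff_ne_zero.2 hP
  set M := P⁻¹ * g * P with hM
  have hMdet : M.det = 1 := by
    rw [hM, Matrix.det_mul, Matrix.det_mul, hdet, mul_one, Matrix.det_nonsing_inv,
      Ring.inverse_eq_inv', inv_mul_cancel₀ hP]
  rw [h00] at hmin
  set z' := (M 2 1 - M 2 0 * M 0 1) / (b * b) with hz'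
  set w' := (M 1 2 - M 1 0 * M 0 2) / (b * b) with hw'
  have hLDU : M = (!![1, 0, 0; M 1 0, 1, 0; M 2 0, z', 1] * !![1, 0, 0; 0, b, 0; 0, 0, b⁻¹]) *
      (!![1, 0, 0; 0, b, 0; 0, 0, b⁻¹] * !![1, M 0 1, M 0 2; 0, 1, w'; 0, 0, 1]) := by
    ext i j
    fin_cases i <;> fin_cases j <;>
      simp [Matrix.mul_apply, Fin.sum_univ_three, h00, hz', hw'] <;> field_simp
    · linear_combination hmin
    · ring
    · ring
    · rw [Matrix.det_fin_three, h00] at hMdet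
      have h11 : M 1 1 = b * b + M 0 1 * M 1 0 := by linear_combination hmin
      rw [h11] at hMdet
      linear_combination hMdet
  have h1c : (1 : F) ≠ b⁻¹ := fun h => hb1 (inv_eq_one.1 h.symm)
  have hbc : b ≠ b⁻¹ := fun h => hb2 (by nth_rewrite 2 [h]; exact mul_inv_cancel₀ hb0)
  obtain ⟨A, hA, hA'⟩ := lower_conj one_ne_zero hb1.symm h1c hbc hb0 (inv_ne_zero hb0)
    (M 1 0) (M 2 0) z'
  obtain ⟨B, hB, hB'⟩ := upper_conj hb1.symm h1c hbc (M 0 1) (M 0 2) w'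
  refine ⟨P * A, P * B, by simp [Matrix.det_mul, hP, hA], by simp [Matrix.det_mul, hP, hB], ?_⟩
  set D : M3 F := !![1, 0, 0; 0, b, 0; 0, 0, b⁻¹]
  have hAu : IsUnit A.det := by rw [hA]; exact isUnit_one
  have hBu : IsUnit B.det := by rw [hB]; exact isUnit_one
  have hg' : g = P * M * P⁻¹ := by
    rw [hM]
    simp only [Matrix.mul_assoc, Matrix.mul_nonsing_inv _ hPu, Matrix.mul_one]
    rw [Matrix.mul_nonsing_inv_cancel_left _ _ hPu]
  have a1 : A * D * A⁻¹ = !![1, 0, 0; M 1 0, 1, 0; M 2 0, z', 1] * D := by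
    rw [← hA', Matrix.mul_nonsing_inv_cancel_right _ _ hAu]
  have b1 : B * D * B⁻¹ = D * !![1, M 0 1, M 0 2; 0, 1, w'; 0, 0, 1] := by
    rw [← hB', Matrix.mul_nonsing_inv_cancel_right _ _ hBu]
  rw [← a1, ← b1] at hLDU
  rw [hg', hLDU, Matrix.mul_inv_rev, Matrix.mul_inv_rev]
  simp only [Matrix.mul_assoc, Matrix.nonsing_inv_mul_cancel_left _ _ hPu]

end Field

section Three

/-- The Singer element of order 13. -/
def singer : M3 (ZMod 3) := !![0, 0, 1; 1, 0, 1; 0, 1, 0]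

/-- Its inverse. -/
def singerInv : M3 (ZMod 3) := !![2, 1, 0; 0, 0, 1; 1, 0, 0]

/-- Conjugators (with inverses) covering all normal forms. -/
def cands : List (M3 (ZMod 3) × M3 (ZMod 3)) :=
  [(!![0, 0, 1; 0, 1, 0; 2, 0, 0], !![0, 0, 2; 0, 1, 0; 1, 0, 0]),
   (!![0, 0, 1; 0, 1, 2; 2, 1, 1], !![2, 1, 2; 1, 1, 0; 1, 0, 0]),
   (!![0, 0, 1; 1, 2, 1; 2, 2, 1], !![0, 2, 1; 1, 1, 1; 1, 0, 0]),
   (!![0, 0, 1; 1, 1, 0; 1, 2, 2], !![2, 2, 2; 1, 2, 1; 1, 0, 0]),
   (!![0, 0, 1; 1, 0, 2; 0, 1, 1], !![1, 1, 0; 2, 0, 1; 1, 0, 0]),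
   (!![0, 0, 1; 1, 0, 2; 1, 1, 1], !![1, 1, 0; 1, 2, 1; 1, 0, 0]),
   (!![0, 0, 2; 2, 1, 1; 1, 0, 2], !![2, 0, 1; 0, 1, 1; 2, 0, 0]),
   (!![0, 0, 1; 2, 2, 2; 2, 1, 2], !![2, 1, 1; 0, 1, 2; 1, 0, 0]),
   (!![0, 0, 1; 2, 1, 0; 1, 1, 2], !![2, 1, 2; 2, 2, 2; 1, 0, 0]),
   (!![0, 0, 1; 0, 2, 0; 1, 0, 2], !![1, 0, 1; 0, 2, 0; 1, 0, 0]),
   (!![0, 0, 2; 0, 1, 1; 1, 1, 1], !![0, 2, 1; 1, 1, 0; 2, 0, 0]),
   (!![0, 0, 1; 0, 2, 2; 1, 2, 1], !![1, 2, 1; 2, 2, 0; 1, 0, 0]),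
   (!![0, 0, 2; 0, 2, 0; 2, 0, 2], !![1, 0, 2; 0, 2, 0; 2, 0, 0]),
   (!![0, 0, 2; 2, 0, 0; 2, 1, 1], !![0, 2, 0; 1, 2, 1; 2, 0, 0]),
   (!![0, 0, 1; 1, 0, 0; 2, 1, 1], !![0, 1, 0; 2, 1, 1; 1, 0, 0]),
   (!![0, 0, 1; 1, 0, 1; 2, 1, 1], !![2, 1, 0; 1, 1, 1; 1, 0, 0]),
   (!![0, 0, 1; 1, 1, 2; 0, 1, 1], !![2, 1, 2; 2, 0, 1; 1, 0, 0]),
   (!![0, 0, 1; 0, 2, 2; 1, 1, 2], !![2, 1, 1; 2, 2, 0; 1, 0, 0]),
   (!![0, 0, 1; 1, 1, 0; 2, 0, 2], !![2, 0, 2; 1, 1, 1; 1, 0, 0]),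
   (!![0, 0, 1; 1, 1, 1; 1, 2, 1], !![2, 2, 2; 0, 2, 1; 1, 0, 0]),
   (!![0, 0, 1; 0, 2, 2; 1, 1, 1], !![0, 1, 1; 2, 2, 0; 1, 0, 0]),
   (!![0, 0, 1; 2, 0, 0; 1, 2, 1], !![0, 2, 0; 1, 2, 2; 1, 0, 0]),
   (!![0, 0, 1; 0, 1, 1; 2, 1, 1], !![0, 1, 2; 2, 1, 0; 1, 0, 0]),
   (!![0, 0, 1; 0, 1, 2; 2, 0, 0], !![0, 0, 2; 1, 1, 0; 1, 0, 0])]

/-- Three by three product, unfolded for evaluation by the kernel. -/
def mul3 (A B : M3 (ZMod 3)) : M3 (ZMod 3) :=
  Matrix.of fun i j => A i 0 * B 0 j + A i 1 * B 1 j + A i 2 * B 2 j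

lemma mul3_eq (A B : M3 (ZMod 3)) : mul3 A B = A * B := by
  ext i j
  simp [mul3, Matrix.mul_apply, Fin.sum_univ_three]

/-- Three by three determinant, unfolded for evaluation by the kernel. -/
def det3 (A : M3 (ZMod 3)) : ZMod 3 :=
  A 0 0 * A 1 1 * A 2 2 - A 0 0 * A 1 2 * A 2 1 - A 0 1 * A 1 0 * A 2 2
    + A 0 1 * A 1 2 * A 2 0 + A 0 2 * A 1 0 * A 2 1 - A 0 2 * A 1 1 * A 2 0

lemma det3_eq (A : M3 (ZMod 3)) : det3 A = A.det := (Matrix.det_fin_three A).symm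

/-- The Krylov matrix of the first basis vector. -/
def krylov (C : M3 (ZMod 3)) : M3 (ZMod 3) :=
  !![1, C 0 0, C 0 0 * C 0 0 + C 0 1 * C 1 0 + C 0 2 * C 2 0;
     0, C 1 0, C 1 0 * C 0 0 + C 1 1 * C 1 0 + C 1 2 * C 2 0;
     0, C 2 0, C 2 0 * C 0 0 + C 2 1 * C 1 0 + C 2 2 * C 2 0]

/-- What is verified for one normal form and one candidate. -/
def good (p : M3 (ZMod 3) × M3 (ZMod 3)) (M : M3 (ZMod 3)) : Bool :=
  let C := mul3 (mul3 (mul3 p.1 singerInv) p.2) M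
  let K := krylov C
  decide (det3 K ≠ 0) &&
    decide (mul3 C K = mul3 K singer)

set_option maxRecDepth 10000 in
lemma cands_inv : cands.all (fun p => decide (mul3 p.1 p.2 = 1))
    = true := by decide +kernel

set_option maxRecDepth 10000 in
lemma normal_forms_good : ∀ a b x y z w : ZMod 3,
    det3 !![0, a, b; 1, x, y; 0, z, w] = 1 →
      cands.any (fun p => good p !![0, a, b; 1, x, y; 0, z, w]) = true := by decide +kernel

/-- The covering identity over the field with three elements. -/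
lemma cover_three (g : M3 (ZMod 3)) (hg : ¬ ∃ s, g = Matrix.scalar (Fin 3) s) (hdet : g.det = 1) :
    ∃ A B : M3 (ZMod 3), A.det ≠ 0 ∧ B.det ≠ 0 ∧
      g = (A * singer * A⁻¹) * (B * singer * B⁻¹) := by
  obtain ⟨P, hP, h0, h1, h2⟩ := exists_col_form g hg 0
  have hPu : IsUnit P.det := isUnit_iff_ne_zero.2 hP
  set M := P⁻¹ * g * P with hM
  have hMdet : M.det = 1 := by
    rw [hM, Matrix.det_mul, Matrix.det_mul, hdet, mul_one, Matrix.det_nonsing_inv,
      Ring.inverse_eq_inv', inv_mul_cancel₀ hP]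
  have hMe : M = !![0, M 0 1, M 0 2; 1, M 1 1, M 1 2; 0, M 2 1, M 2 2] := by
    ext i j
    fin_cases i <;> fin_cases j <;> simp [h0, h1, h2]
  have := normal_forms_good (M 0 1) (M 0 2) (M 1 1) (M 1 2) (M 2 1) (M 2 2)
  rw [← hMe, det3_eq] at this
  obtain ⟨⟨u, ui⟩, hmem, hgood⟩ := List.any_eq_true.1 (this hMdet)
  have hui := List.all_eq_true.1 cands_inv _ hmem
  simp only [decide_eq_true_eq] at hui
  have hu1 : u * ui = 1 := by rw [← mul3_eq]; exact hui
  have hu : IsUnit u.det := isUnit_det_of_right_inverse hu1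
  have hinv : u⁻¹ = ui := Matrix.inv_eq_right_inv hu1
  simp only [good, Bool.and_eq_true, decide_eq_true_eq, det3_eq] at hgood
  simp only [mul3_eq] at hgood
  obtain ⟨hK, hCK⟩ := hgood
  set C := u * singerInv * ui * M with hC
  set K := krylov C
  have hCK' : C * K = K * singer := hCK
  have hC' : C = K * singer * K⁻¹ := by
    rw [← hCK', Matrix.mul_nonsing_inv_cancel_right _ _ (isUnit_iff_ne_zero.2 hK)]
  have hs : singer * singerInv = 1 := by rw [← mul3_eq]; decide +kernel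
  have hMC : M = (u * singer * ui) * C := by
    rw [hC]
    calc M = 1 * M := (one_mul M).symm
      _ = (u * (singer * ((ui * u) * singerInv)) * ui) * M := by
          simp only [mul_eq_one_comm.1 hu1, one_mul, hs, mul_one, hu1]
      _ = _ := by simp only [Matrix.mul_assoc]
  refine ⟨P * u, P * K, by simp [Matrix.det_mul, hP, hu.ne_zero],
    by simp [Matrix.det_mul, hP, hK], ?_⟩
  have hg' : g = P * M * P⁻¹ := by
    rw [hM]
    simp only [Matrix.mul_assoc, Matrix.mul_nonsing_inv _ hPu, Matrix.mul_one]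
    rw [Matrix.mul_nonsing_inv_cancel_left _ _ hPu]
  rw [hg', hMC, Matrix.mul_inv_rev, Matrix.mul_inv_rev, hinv]
  nth_rewrite 1 [hC']
  simp only [Matrix.mul_assoc, Matrix.nonsing_inv_mul_cancel_left _ _ hPu]

end Three

section Final

variable {F : Type*} [Field F]

/-- A conjugator can be corrected to determinant one by an element commuting with `D`. -/
lemma exists_sl_conjugator (D A C : M3 F) (hA : A.det ≠ 0)
    (hC : ∀ t : F, t ≠ 0 → ∃ E : M3 F, E.det = t ∧ E * D = D * E) (hAC : C = A * D * A⁻¹) :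
    ∃ u : Matrix.SpecialLinearGroup (Fin 3) F, C = (u : M3 F) * D * (u⁻¹ : Matrix.SpecialLinearGroup (Fin 3) F) := by
  obtain ⟨E, hE, hED⟩ := hC A.det⁻¹ (inv_ne_zero hA)
  have hdet : (A * E).det = 1 := by rw [Matrix.det_mul, hE, mul_inv_cancel₀ hA]
  refine ⟨⟨A * E, hdet⟩, ?_⟩
  have hu : IsUnit (A * E).det := by rw [hdet]; exact isUnit_one
  have h1 : ((⟨A * E, hdet⟩ : Matrix.SpecialLinearGroup (Fin 3) F)⁻¹ : Matrix.SpecialLinearGroup (Fin 3) F).1
      = (A * E)⁻¹ := by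
    show Matrix.adjugate (A * E) = (A * E)⁻¹
    rw [Matrix.inv_def, hdet, Ring.inverse_one, one_smul]
  rw [h1, hAC]
  show A * D * A⁻¹ = A * E * D * (A * E)⁻¹
  have hEu : IsUnit E.det := by rw [hE]; exact isUnit_iff_ne_zero.2 (inv_ne_zero hA)
  rw [mul_assoc A E D, hED, Matrix.mul_inv_rev]
  simp only [Matrix.mul_assoc, Matrix.mul_nonsing_inv_cancel_left _ _ hEu]

/-- A non-trivial element of PSL(3) lifts to a non-scalar matrix. -/
lemma not_scalar_of_ne_one (g : Matrix.SpecialLinearGroup (Fin 3) F)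
    (hg : (QuotientGroup.mk g : ProjectiveSpecialLinearGroup (Fin 3) F) ≠ 1) :
    ¬ ∃ s : F, (g : M3 F) = Matrix.scalar (Fin 3) s := by
  rintro ⟨s, hs⟩
  apply hg
  rw [QuotientGroup.eq_one_iff, Matrix.SpecialLinearGroup.mem_center_iff]
  refine ⟨s, ?_, hs.symm⟩
  have := g.2
  rw [hs] at this
  simpa [Matrix.scalar_apply, Matrix.det_diagonal] using this

/-- Transfer of a covering identity in SL(3) to PSL(3). -/
lemma cover_psl (h : Matrix.SpecialLinearGroup (Fin 3) F)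
    (hC : ∀ t : F, t ≠ 0 → ∃ E : M3 F, E.det = t ∧ E * (h : M3 F) = (h : M3 F) * E)
    (hcov : ∀ g : M3 F, (¬ ∃ s : F, g = Matrix.scalar (Fin 3) s) → g.det = 1 →
      ∃ A B : M3 F, A.det ≠ 0 ∧ B.det ≠ 0 ∧
        g = (A * (h : M3 F) * A⁻¹) * (B * (h : M3 F) * B⁻¹))
    (g : ProjectiveSpecialLinearGroup (Fin 3) F) (hg : g ≠ 1) :
    ∃ u v : ProjectiveSpecialLinearGroup (Fin 3) F,
      g = (u * QuotientGroup.mk h * u⁻¹) * (v * QuotientGroup.mk h * v⁻¹) := by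
  obtain ⟨g', rfl⟩ := QuotientGroup.mk_surjective g
  obtain ⟨A, B, hA, hB, e⟩ := hcov g' (not_scalar_of_ne_one g' hg) g'.2
  obtain ⟨u, hu⟩ := exists_sl_conjugator _ A _ hA hC rfl
  obtain ⟨v, hv⟩ := exists_sl_conjugator _ B _ hB hC rfl
  refine ⟨QuotientGroup.mk u, QuotientGroup.mk v, ?_⟩
  have hge : g' = (u * h * u⁻¹) * (v * h * v⁻¹) := by
    apply Subtype.ext
    show (g' : M3 F) = (u : M3 F) * h * (u⁻¹ : Matrix.SpecialLinearGroup (Fin 3) F) *
      ((v : M3 F) * h * (v⁻¹ : Matrix.SpecialLinearGroup (Fin 3) F))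
    rw [← hu, ← hv]
    exact e
  nth_rewrite 1 [hge]
  simp

end Final

/-- A form of Thompson's conjecture for PSL(3,q), q > 2 (covering the non-identity elements), with a semisimple class: for F a finite field of characteristic p with more than 2 elements there is an element x of PSL(3,F) of order prime to p such that every non-identity element of PSL(3,F) is a product of two conjugates of x. -/
theorem result {F : Type*} [Field F] [Fintype F] (p : ℕ) [Fact p.Prime] [CharP F p] (h3 : 3 ≤ Fintype.card F) :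
    ∃ x : Matrix.ProjectiveSpecialLinearGroup (Fin 3) F, ¬ p ∣ orderOf x ∧ ∀ g : Matrix.ProjectiveSpecialLinearGroup (Fin 3) F, g ≠ 1 → ∃ u v : Matrix.ProjectiveSpecialLinearGroup (Fin 3) F, g = (u * x * u⁻¹) * (v * x * v⁻¹) := by
  classical
  by_cases h4 : Fintype.card F = 3
  · -- the field with three elements
    have hp3 : p = 3 := by
      obtain ⟨n, hp, hn⟩ := FiniteField.card F p
      rw [h4] at hn
      have : p ∣ 3 := hn ▸ dvd_pow_self p n.ne_zero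
      exact (Nat.prime_dvd_prime_iff_eq hp Nat.prime_three).1 this
    let e : ZMod 3 ≃+* F := ZMod.ringEquivOfPrime F Nat.prime_three h4
    let φ : M3 (ZMod 3) →+* M3 F := (e : ZMod 3 →+* F).mapMatrix
    have hφdet : ∀ M : M3 (ZMod 3), (φ M).det = e M.det := fun M =>
      ((e : ZMod 3 →+* F).map_det M).symm
    have hφinv : ∀ M : M3 (ZMod 3), M.det ≠ 0 → φ M⁻¹ = (φ M)⁻¹ := fun M hM =>
      (Matrix.inv_eq_right_inv (by
        rw [← map_mul, Matrix.mul_nonsing_inv _ (isUnit_iff_ne_zero.2 hM), map_one])).symm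
    have hs1 : (φ singer).det = 1 := by
      rw [hφdet, show singer.det = 1 by rw [← det3_eq]; decide +kernel, map_one]
    let h : Matrix.SpecialLinearGroup (Fin 3) F := ⟨φ singer, hs1⟩
    have h13 : singer ^ 13 = 1 := by
      simp only [pow_succ, pow_zero, one_mul, ← mul3_eq]
      decide +kernel
    refine ⟨QuotientGroup.mk h, ?_, cover_psl h ?_ ?_⟩
    · have hh : h ^ 13 = 1 := by
        apply Subtype.ext
        show φ singer ^ 13 = 1
        rw [← map_pow, h13, map_one]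
      have hd : orderOf (QuotientGroup.mk h : ProjectiveSpecialLinearGroup (Fin 3) F) ∣ 13 :=
        orderOf_dvd_of_pow_eq_one (by rw [← QuotientGroup.mk_pow, hh, QuotientGroup.mk_one])
      intro hp
      have := hp.trans hd
      rw [hp3] at this
      omega
    · intro t ht
      obtain ⟨s, rfl⟩ := e.surjective t
      refine ⟨Matrix.scalar (Fin 3) (e s), ?_,
        (Matrix.scalar_commute _ (fun r => Commute.all _ r) _).eq⟩
      rw [Matrix.scalar_apply, Matrix.det_diagonal, Fin.prod_const, ← map_pow, ZMod.pow_card]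
    · intro g hg hdet
      set g₀ : M3 (ZMod 3) := (e.symm : F →+* ZMod 3).mapMatrix g with hg₀
      have hgφ : g = φ g₀ := by
        ext i j
        simp [φ, hg₀]
      obtain ⟨A, B, hA, hB, hAB⟩ := cover_three g₀ (by
        rintro ⟨s, hs⟩
        refine hg ⟨e s, ?_⟩
        rw [hgφ, hs]
        ext i j
        by_cases hij : i = j <;> simp [φ, Matrix.diagonal, hij]) (by
        apply e.injective
        rw [map_one, ← hφdet, ← hgφ, hdet])
      refine ⟨φ A, φ B, ?_, ?_, ?_⟩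
      · rwa [hφdet, ne_eq, map_eq_zero_iff e e.injective]
      · rwa [hφdet, ne_eq, map_eq_zero_iff e e.injective]
      · show g = φ A * φ singer * (φ A)⁻¹ * (φ B * φ singer * (φ B)⁻¹)
        rw [hgφ, ← hφinv A hA, ← hφinv B hB, hAB]
        simp only [map_mul]
  · -- at least four elements
    obtain ⟨b, hb0, hb1, hb2⟩ : ∃ b : F, b ≠ 0 ∧ b ≠ 1 ∧ b * b ≠ 1 := by
      by_contra hcon
      push Not at hcon
      have hsub : (Finset.univ : Finset F) ⊆ {0, 1, -1} := by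
        intro b _
        by_cases h0 : b = 0
        · simp [h0]
        · by_cases h1 : b = 1
          · simp [h1]
          · rcases mul_self_eq_one_iff.1 (hcon b h0 h1) with h | h
            · exact absurd h h1
            · simp [h]
      have := (Finset.card_le_card hsub).trans Finset.card_le_three
      rw [Finset.card_univ] at this
      omega
    have hD : (!![1, 0, 0; 0, b, 0; 0, 0, b⁻¹] : M3 F) = Matrix.diagonal ![1, b, b⁻¹] := by
      ext i j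
      fin_cases i <;> fin_cases j <;> simp
    have hdet : (!![1, 0, 0; 0, b, 0; 0, 0, b⁻¹] : M3 F).det = 1 := by
      simp [Matrix.det_fin_three, hb0]
    let h : Matrix.SpecialLinearGroup (Fin 3) F := ⟨!![1, 0, 0; 0, b, 0; 0, 0, b⁻¹], hdet⟩
    refine ⟨QuotientGroup.mk h, ?_, cover_psl h ?_ (fun g hg hd => cover_diag g hg hd hb0 hb1 hb2)⟩
    · have hh : h ^ (Fintype.card F - 1) = 1 := by
        apply Subtype.ext
        show (!![1, 0, 0; 0, b, 0; 0, 0, b⁻¹] : M3 F) ^ (Fintype.card F - 1) = 1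
        rw [hD, Matrix.diagonal_pow, ← Matrix.diagonal_one]
        congr 1
        funext i
        fin_cases i
        · simp
        · simpa using FiniteField.pow_card_sub_one_eq_one b hb0
        · simpa using FiniteField.pow_card_sub_one_eq_one b hb0
      have hd : orderOf (QuotientGroup.mk h : ProjectiveSpecialLinearGroup (Fin 3) F) ∣
          Fintype.card F - 1 :=
        orderOf_dvd_of_pow_eq_one (by rw [← QuotientGroup.mk_pow, hh, QuotientGroup.mk_one])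
      intro hp
      have h1 : p ∣ Fintype.card F - 1 := hp.trans hd
      obtain ⟨n, hpp, hn⟩ := FiniteField.card F p
      have h2 : p ∣ Fintype.card F := hn ▸ dvd_pow_self p n.ne_zero
      have h5 : p ∣ 1 := (Nat.dvd_add_right h1).1 (by rwa [Nat.sub_add_cancel (by omega)])
      exact hpp.not_dvd_one h5
    · intro t _
      refine ⟨Matrix.diagonal ![t, 1, 1], ?_, ?_⟩
      · simp [Matrix.det_diagonal, Fin.prod_univ_three]
      · show _ * !![1, 0, 0; 0, b, 0; 0, 0, b⁻¹] = !![1, 0, 0; 0, b, 0; 0, 0, b⁻¹] * _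
        rw [hD, Matrix.diagonal_mul_diagonal, Matrix.diagonal_mul_diagonal]
        simp only [mul_comm]

end Cfsg.Agent.S2459
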