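import Cfsg.Statements.S2466
import Cfsg.Agent.Lib.PermGp.CycleOrders
import Mathlib.Tactic.Linarith
import Mathlib.Tactic.Ring

set_option autoImplicit false
open Cfsg

namespace Cfsg.Agent.S2466

/-- Adjacency of odd primes in the prime graph of the alternating groups: let r ≠ s be odd primes at most n. The alternating group of degree n has an element of order r·s if and only if r + s ≤ n. -/
theorem result (n r s : ℕ) (hr : r.Prime) (hs : s.Prime) (hr2 : r ≠ 2) (hs2 : s ≠ 2) (hrs : r ≠ s) (hrn : r ≤ n) (hsn : s ≤ n) :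
    (r * s ∈ Set.range (orderOf : alternatingGroup (Fin n) → ℕ)) ↔ r + s ≤ n := by
  constructor
  · rintro ⟨g, hg⟩
    rw [← Subgroup.orderOf_coe, ← Equiv.Perm.lcm_cycleType] at hg
    have hsum := Equiv.Perm.sum_cycleType_le (g : Equiv.Perm (Fin n))
    rw [Fintype.card_fin] at hsum
    generalize (g : Equiv.Perm (Fin n)).cycleType = m at hg hsum
    obtain ⟨a, ha, hra⟩ := PermGp.exists_dvd_of_prime_dvd_lcm hr m (hg ▸ dvd_mul_right r s)
    obtain ⟨b, hb, hsb⟩ := PermGp.exists_dvd_of_prime_dvd_lcm hs m (hg ▸ dvd_mul_left s r)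
    have hpos : ∀ c ∈ m, 0 < c := fun c hc => Nat.pos_of_ne_zero fun h => by
      have h0 := Multiset.dvd_lcm hc
      rw [h, hg, zero_dvd_iff, mul_eq_zero] at h0
      exact h0.elim hr.ne_zero hs.ne_zero
    have hra' := Nat.le_of_dvd (hpos a ha) hra
    have hsb' := Nat.le_of_dvd (hpos b hb) hsb
    by_cases hab : b = a
    · subst hab
      have := Nat.le_of_dvd (hpos b hb) (((Nat.coprime_primes hr hs).mpr hrs).mul_dvd_of_dvd_of_dvd hra hsb)
      have := Multiset.le_sum_of_mem hb
      nlinarith [hr.two_le, hs.two_le]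
    · have hb' : b ∈ m.erase a := (Multiset.mem_erase_of_ne hab).mpr hb
      have h1 := Multiset.le_sum_of_mem hb'
      rw [← Multiset.cons_erase ha, Multiset.sum_cons] at hsum
      omega
  · intro h
    apply PermGp.mem_orders_of_cycleType (m := {r, s})
    · simpa using h
    · intro a ha; simp at ha; rcases ha with rfl | rfl <;> [exact hr.two_le; exact hs.two_le]
    · obtain ⟨k, rfl⟩ := hr.eq_two_or_odd'.resolve_left hr2
      obtain ⟨l, rfl⟩ := hs.eq_two_or_odd'.resolve_left hs2
      simp only [Multiset.insert_eq_cons, Multiset.sum_cons, Multiset.sum_singleton, Multiset.card_cons,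
        Multiset.card_singleton]
      exact ⟨k + l + 2, by ring⟩
    · simp only [Multiset.insert_eq_cons, Multiset.lcm_cons, Multiset.lcm_singleton, normalize_eq, lcm_eq_nat_lcm]
      exact Nat.Coprime.lcm_eq_mul ((Nat.coprime_primes hr hs).mpr hrs)

end Cfsg.Agent.S2466
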