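import Cfsg.Statements.S2467
import Cfsg.Agent.Lib.PermGp.CycleOrders

set_option autoImplicit false
open Cfsg

namespace Cfsg.Agent.S2467

/-- Adjacency of 2 and an odd prime in the prime graph of the alternating groups: let r be an odd prime at most n, with n ≥ 4. The alternating group of degree n has an element of order 2r if and only if r + 4 ≤ n. -/
theorem result (n r : ℕ) (hn : 4 ≤ n) (hr : r.Prime) (hr2 : r ≠ 2) (hrn : r ≤ n) :
    (2 * r ∈ Set.range (orderOf : alternatingGroup (Fin n) → ℕ)) ↔ r + 4 ≤ n := by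
  constructor
  · rintro ⟨g, hg⟩
    rw [← Subgroup.orderOf_coe, ← Equiv.Perm.lcm_cycleType] at hg
    have hsum := Equiv.Perm.sum_cycleType_le (g : Equiv.Perm (Fin n))
    rw [Fintype.card_fin] at hsum
    have heven := Equiv.Perm.mem_alternatingGroup.mp g.2
    rw [Equiv.Perm.sign_of_cycleType, neg_one_pow_eq_one_iff_even (by decide)] at heven
    generalize (g : Equiv.Perm (Fin n)).cycleType = m at hg hsum heven
    have hpos : ∀ c ∈ m, 0 < c := fun c hc => Nat.pos_of_ne_zero fun h => by
      have h0 := Multiset.dvd_lcm hc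
      rw [h, hg, zero_dvd_iff] at h0
      have := hr.two_le
      omega
    obtain ⟨e₀, he₀, he₀'⟩ := PermGp.exists_dvd_of_prime_dvd_lcm Nat.prime_two m (hg ▸ dvd_mul_right 2 r)
    obtain ⟨f, hf, hrf⟩ := PermGp.exists_dvd_of_prime_dvd_lcm hr m (hg ▸ dvd_mul_left r 2)
    have hrodd := hr.eq_two_or_odd'.resolve_left hr2
    have hr3 : 3 ≤ r := by have := hr.two_le; omega
    by_cases hfe : 2 ∣ f
    · obtain ⟨e, he, hee⟩ := PermGp.exists_second_even hf hfe heven
      have h1 := Nat.le_of_dvd (hpos f hf)
        (((Nat.coprime_primes Nat.prime_two hr).mpr (Ne.symm hr2)).mul_dvd_of_dvd_of_dvd hfe hrf)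
      have h2 := Nat.le_of_dvd (hpos e (Multiset.mem_of_mem_erase he)) hee
      have h3 := Multiset.le_sum_of_mem he
      rw [← Multiset.cons_erase hf, Multiset.sum_cons] at hsum
      omega
    · obtain ⟨e, he, hee⟩ := PermGp.exists_second_even he₀ he₀' heven
      have hf' : f ∈ m.erase e₀ := (Multiset.mem_erase_of_ne (fun h => hfe (by rw [h]; exact he₀'))).mpr hf
      have hf'' : f ∈ (m.erase e₀).erase e := (Multiset.mem_erase_of_ne (fun h => hfe (by rw [h]; exact hee))).mpr hf'
      have h1 := Nat.le_of_dvd (hpos f hf) hrf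
      have h2 := Nat.le_of_dvd (hpos e (Multiset.mem_of_mem_erase he)) hee
      have h4 := Nat.le_of_dvd (hpos e₀ he₀) he₀'
      have h3 := Multiset.le_sum_of_mem hf''
      rw [← Multiset.cons_erase he₀, Multiset.sum_cons, ← Multiset.cons_erase he, Multiset.sum_cons] at hsum
      omega
  · intro h
    apply PermGp.mem_orders_of_cycleType (m := {r, 2, 2})
    · simp only [Multiset.insert_eq_cons, Multiset.sum_cons, Multiset.sum_singleton]; omega
    · intro a ha; simp at ha; rcases ha with rfl | rfl <;> [exact hr.two_le; exact le_rfl]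
    · obtain ⟨k, rfl⟩ := hr.eq_two_or_odd'.resolve_left hr2
      simp only [Multiset.insert_eq_cons, Multiset.sum_cons, Multiset.sum_singleton, Multiset.card_cons,
        Multiset.card_singleton]
      exact ⟨k + 4, by ring⟩
    · simp only [Multiset.insert_eq_cons, Multiset.lcm_cons, Multiset.lcm_singleton, normalize_eq, lcm_eq_nat_lcm,
        Nat.lcm_self]
      rw [Nat.Coprime.lcm_eq_mul ((Nat.coprime_primes hr Nat.prime_two).mpr hr2), mul_comm]

end Cfsg.Agent.S2467
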