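import Cfsg.Statements.S2469
import Cfsg.Agent.Lib.GLOrders.SympElems

-- import your own Cfsg.Agent.* helpers here

set_option autoImplicit false
open Cfsg

namespace Cfsg.Agent.S2469

/-- Adjacency of two odd primes in the prime graph of PSp(2n,q): let F be a finite field of characteristic p with q elements, n ≥ 2 with PSp(2n,F) simple, and let r ≠ s be odd primes different from p dividing the order of PSp(2n,F). Let k, l be the multiplicative orders of q modulo r and s, put η(m) = m for odd m and η(m) = m/2 for even m, and suppose η(k) ≤ η(l). Then PSp(2n,F) has NO element of order r·s if and only if η(k) + η(l) > n and l/k is not an odd integer. -/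
theorem result {F : Type*} [Field F] [Fintype F] (p : ℕ) [Fact p.Prime] [CharP F p] (n : ℕ) (hn : 2 ≤ n) (hsmall : n = 2 → 3 ≤ Fintype.card F)
    (r s : ℕ) (hr : r.Prime) (hs : s.Prime) (hr2 : r ≠ 2) (hs2 : s ≠ 2) (hrp : r ≠ p) (hsp : s ≠ p) (hrs : r ≠ s)
    (hrG : r ∣ Nat.card (Cfsg.PSp n F)) (hsG : s ∣ Nat.card (Cfsg.PSp n F))
    (k l ηk ηl : ℕ) (hk : k = orderOf ((Fintype.card F : ℕ) : ZMod r)) (hl : l = orderOf ((Fintype.card F : ℕ) : ZMod s))
    (hηk : (Odd k ∧ ηk = k) ∨ (Even k ∧ 2 * ηk = k)) (hηl : (Odd l ∧ ηl = l) ∨ (Even l ∧ 2 * ηl = l)) (hkl : ηk ≤ ηl) :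
    (r * s ∉ Set.range (orderOf : Cfsg.PSp n F → ℕ)) ↔ (n < ηk + ηl ∧ ¬ ∃ t : ℕ, Odd t ∧ l = k * t) := by
  classical
  haveI := Fact.mk hr
  haveI := Fact.mk hs
  open Cfsg.Agent.GLOrders in
  have hrF : (r : F) ≠ 0 := natCast_ne_zero_of_ne_char hr p hrp
  open Cfsg.Agent.GLOrders in
  have hsF : (s : F) ≠ 0 := natCast_ne_zero_of_ne_char hs p hsp
  open Cfsg.Agent.GLOrders in
  have hk0 : 0 < k := hk ▸ pos_orderOf_card (F := F) hr p hrp
  open Cfsg.Agent.GLOrders in
  have hl0 : 0 < l := hl ▸ pos_orderOf_card (F := F) hs p hsp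
  have hodd : Odd r ∧ Odd s := ⟨hr.odd_of_ne_two hr2, hs.odd_of_ne_two hs2⟩
  have hηkpos : 0 < ηk := by rcases hηk with ⟨_, rfl⟩ | ⟨_, h⟩ <;> omega
  have hηlpos : 0 < ηl := by omega
  constructor
  · intro hnot
    refine ⟨?_, ?_⟩
    · by_contra hle
      push Not at hle
      refine hnot ?_
      open Cfsg.Agent.GLOrders in
      obtain ⟨g₁, hg₁, h₁⟩ := exists_sp_iso (F := F) p (e := ηk) (o := r) hηkpos
        (by
          obtain ⟨ho, he⟩ := dvd_pow_eta (F := F) hk hk0 hηk odd_one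
          rw [mul_one] at ho he
          rcases Nat.even_or_odd k with h | h
          · exact Or.inr (Or.inl (he h))
          · exact Or.inr (Or.inr (ho h)))
      open Cfsg.Agent.GLOrders in
      obtain ⟨g₂', hg₂', h₂'⟩ := exists_sp_iso (F := F) p (e := ηl) (o := s) hηlpos
        (by
          obtain ⟨ho, he⟩ := dvd_pow_eta (F := F) hl hl0 hηl odd_one
          rw [mul_one] at ho he
          rcases Nat.even_or_odd l with h | h
          · exact Or.inr (Or.inl (he h))
          · exact Or.inr (Or.inr (ho h)))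
      open Cfsg.Agent.GLOrders in
      obtain ⟨g₂, hg₂, h₂⟩ := extend_iso (m := n - ηk) (by omega) hg₂' h₂'
      open Cfsg.Agent.GLOrders in
      obtain ⟨x, hx⟩ := exists_two_block (F := F) p (n := n) (e := ηk) (by omega)
        ((Nat.coprime_primes hr hs).2 hrs) (Or.inl hodd) hg₁ hg₂ h₁ h₂
      exact Cfsg.Agent.GLOrders.mem_range_orderOf_of_dvd x hx
    · rintro ⟨t, ht, hlt⟩
      refine hnot ?_
      open Cfsg.Agent.GLOrders in
      have hle : ηl ≤ n := eta_le p hsp hsG hl hηl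
      have hηlt : ηl = ηk * t := by
        rcases hηk with ⟨ho, rfl⟩ | ⟨he, h⟩ <;> rcases hηl with ⟨lo, rfl⟩ | ⟨le, h'⟩
        · exact hlt
        · exact absurd (hlt ▸ le) (Nat.not_even_iff_odd.2 (ho.mul ht))
        · exact absurd (hlt ▸ lo) (Nat.not_odd_iff_even.2 (he.mul_right t))
        · exact Nat.eq_of_mul_eq_mul_left two_pos (by rw [h', hlt, ← h]; ring)
      open Cfsg.Agent.GLOrders in
      obtain ⟨g₁, hg₁, h₁⟩ := exists_sp_iso (F := F) p (e := ηl) (o := r * s) hηlpos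
        (by
          right
          obtain ⟨ho, he⟩ := dvd_pow_eta (F := F) hk hk0 hηk ht
          obtain ⟨ho', he'⟩ := dvd_pow_eta (F := F) hl hl0 hηl odd_one
          rw [mul_one] at ho' he'
          rw [← hηlt] at ho he
          have hco := (Nat.coprime_primes hr hs).2 hrs
          rcases Nat.even_or_odd k with h | h
          · exact Or.inl (hco.mul_dvd_of_dvd_of_dvd (he h) (he' (hlt ▸ h.mul_right t)))
          · exact Or.inr (hco.mul_dvd_of_dvd_of_dvd (ho h) (ho' (hlt ▸ h.mul ht))))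
      open Cfsg.Agent.GLOrders in
      obtain ⟨x, hx⟩ := exists_two_block (F := F) p (n := n) (e := ηl) (o₂ := 1) hle (Nat.coprime_one_right _)
        (Or.inl ⟨hodd.1.mul hodd.2, odd_one⟩) hg₁ Cfsg.Agent.FormsLib.preserves_one h₁
        (fun j => ⟨fun _ => one_dvd j, fun _ => one_pow j⟩)
      exact Cfsg.Agent.GLOrders.mem_range_orderOf_of_dvd x (by rwa [mul_one] at hx)
  · rintro ⟨hlt, hnt⟩ ⟨x, hx⟩
    open Cfsg.Agent.GLOrders in
    obtain ⟨S, T, hc, hS, hT, hS1, hT1, hpS, hpT⟩ := split_of_order (F := F) p x hx hr.one_lt hs.one_lt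
      (Or.inl (hodd.1.mul hodd.2))
    open Cfsg.Agent.GLOrders Cfsg.Agent.FormsLib in
    exact hnt (symp_rs hr2 hs2 hrF hsF spB_alt spB_nondeg hc hS hT hS1 hT1 hpS hpT hk hl hηk hηl hkl
      (by simp; omega))

end Cfsg.Agent.S2469
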