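import Cfsg.Statements.S2471
import Cfsg.Agent.Lib.Recog.PGLTwoOrders
-- import your own Cfsg.Agent.* helpers here

set_option autoImplicit false
open Cfsg

namespace Cfsg.Agent.S2471

/-- In PSL(2,q) with q odd, the characteristic p is isolated from 2 in the prime graph: for F a finite field of odd characteristic p with at least 5 elements, PSL(2,F) has no element of order 2p. -/
theorem result {F : Type*} [Field F] [Fintype F] (p : ℕ) [Fact p.Prime] [CharP F p] (hp : p ≠ 2) (h5 : 5 ≤ Fintype.card F) (g : Matrix.ProjectiveSpecialLinearGroup (Fin 2) F) :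
    orderOf g ≠ 2 * p := by
  intro h
  have hodd : Odd (Fintype.card F) := Nat.odd_iff.2 (FiniteField.odd_card_of_char_ne_two
    (by rw [ringChar.eq F p]; exact hp))
  obtain ⟨k, hk⟩ := hodd
  have hp' : p.Prime := Fact.out
  have hpq : p ∣ Fintype.card F :=
    (FiniteField.card F p).elim fun n hn => hn.2 ▸ dvd_pow_self _ n.pos.ne'
  rcases Recog.PGLTwo.psl_orders (p := p) ⟨k, hk⟩ g with ⟨h', -⟩ | h' | h'
  · have := hp'.pos; omega
  · have h1 : p ∣ Fintype.card F - 1 :=
      ((Dvd.intro_left 2 h.symm).trans h').trans (Nat.div_dvd_of_dvd ⟨k, by omega⟩)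
    have h2 := Nat.dvd_sub hpq h1
    rw [show Fintype.card F - (Fintype.card F - 1) = 1 by omega] at h2
    exact hp'.one_lt.ne' (Nat.dvd_one.1 h2)
  · have h1 : p ∣ Fintype.card F + 1 :=
      ((Dvd.intro_left 2 h.symm).trans h').trans (Nat.div_dvd_of_dvd ⟨k + 1, by omega⟩)
    exact hp'.one_lt.ne' (Nat.dvd_one.1 ((Nat.dvd_add_right hpq).1 h1))

end Cfsg.Agent.S2471
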