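import Cfsg.Statements.S2472
import Cfsg.Agent.Lib.GLOrders.SympElems

-- import your own Cfsg.Agent.* helpers here

set_option autoImplicit false
open Cfsg

namespace Cfsg.Agent.S2472

/-- Adjacency of a prime and the characteristic in the prime graph of PSp(2n,q): let F be a finite field of characteristic p with q elements, n ≥ 2 with PSp(2n,F) simple, and let r ≠ p be an odd prime dividing the order of PSp(2n,F), with k the multiplicative order of q modulo r and η(k) = k for odd k, k/2 for even k. Then PSp(2n,F) has NO element of order r·p if and only if η(k) > n − 1. -/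
theorem result {F : Type*} [Field F] [Fintype F] (p : ℕ) [Fact p.Prime] [CharP F p] (n : ℕ) (hn : 2 ≤ n) (hsmall : n = 2 → 3 ≤ Fintype.card F)
    (r : ℕ) (hr : r.Prime) (hr2 : r ≠ 2) (hrp : r ≠ p) (hrG : r ∣ Nat.card (Cfsg.PSp n F))
    (k ηk : ℕ) (hk : k = orderOf ((Fintype.card F : ℕ) : ZMod r)) (hηk : (Odd k ∧ ηk = k) ∨ (Even k ∧ 2 * ηk = k)) :
    (r * p ∉ Set.range (orderOf : Cfsg.PSp n F → ℕ)) ↔ n - 1 < ηk := by
  classical
  haveI := Fact.mk hr
  open Cfsg.Agent.GLOrders Cfsg.Agent.FormsLib in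
  have hrF : (r : F) ≠ 0 := natCast_ne_zero_of_ne_char hr p hrp
  open Cfsg.Agent.GLOrders in
  have hk0 : 0 < k := hk ▸ pos_orderOf_card (F := F) hr p hrp
  have hp2 : Odd p ∨ (-1 : F) = 1 := by
    rcases (Fact.out : p.Prime).eq_two_or_odd' with rfl | h
    · exact Or.inr (CharTwo.neg_eq 1)
    · exact Or.inl h
  constructor
  · intro hnot
    by_contra hle
    push Not at hle
    refine hnot ?_
    open Cfsg.Agent.GLOrders Cfsg.Agent.FormsLib Cfsg.Agent.FormTorus in
    obtain ⟨g₁, hg₁, h₁⟩ := exists_sp_iso (F := F) p (e := ηk) (o := r)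
      (by rcases hηk with ⟨_, rfl⟩ | ⟨_, h⟩ <;> omega)
      (by
        obtain ⟨ho, he⟩ := dvd_pow_eta (F := F) hk hk0 hηk odd_one
        rw [mul_one] at ho he
        rcases Nat.even_or_odd k with h | h
        · exact Or.inr (Or.inl (he h))
        · exact Or.inr (Or.inr (ho h)))
    open Cfsg.Agent.GLOrders Cfsg.Agent.FormsLib Cfsg.Agent.FormTorus in
    obtain ⟨g₂, hg₂, h₂⟩ := exists_sp_iso (F := F) p (e := n - ηk) (o := p) (by omega) (Or.inl rfl)
    open Cfsg.Agent.GLOrders in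
    obtain ⟨x, hx⟩ := exists_two_block (F := F) p (n := n) (e := ηk) (by omega)
      ((Nat.coprime_primes hr Fact.out).2 hrp)
      (hp2.imp (fun h => ⟨hr.odd_of_ne_two hr2, h⟩) id) hg₁ hg₂ h₁ h₂
    exact Cfsg.Agent.GLOrders.mem_range_orderOf_of_dvd x hx
  · rintro hlt ⟨x, hx⟩
    open Cfsg.Agent.GLOrders in
    obtain ⟨S, U, hc, hS, hU, hS1, hU1, hpS, hpU⟩ := split_of_order (F := F) p x hx hr.one_lt
      (Fact.out : p.Prime).one_lt (hp2.imp (fun h => (hr.odd_of_ne_two hr2).mul h) id)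
    open Cfsg.Agent.GLOrders Cfsg.Agent.FormsLib in
    have h := symp_rp (p := p) (e := 1) hr2 hrF spB_alt spB_nondeg hc hS hS1 (by rwa [pow_one]) hU1 hpS hpU hk hηk
    simp at h
    omega

end Cfsg.Agent.S2472
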