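import Cfsg.Statements.S2474
import Cfsg.Agent.Lib.PrimeGraphBC.Count

set_option autoImplicit false
open Cfsg

namespace Cfsg.Agent.S2474

/-- For q odd and n ≥ 3 the simple groups PΩ(2n+1,q) and PSp(2n,q) (which have the same order but different sets of element orders) have the same prime graph: for all distinct primes r, s, one of them has an element of order r·s if and only if the other does. -/
theorem result {F : Type*} [Field F] [Fintype F] (hodd : Odd (Fintype.card F)) (n : ℕ) (hn : 3 ≤ n) (r s : ℕ) (hr : r.Prime) (hs : s.Prime) (hrs : r ≠ s) :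
    (r * s ∈ Set.range (orderOf : Cfsg.POmega F (Cfsg.quadFormOdd n F) → ℕ)) ↔ (r * s ∈ Set.range (orderOf : Cfsg.PSp n F → ℕ)) := by
  classical
  obtain ⟨p, hp⟩ := CharP.exists F
  haveI := hp
  haveI : Fact p.Prime := ⟨CharP.char_is_prime F p⟩
  have h2 : (2 : F) ≠ 0 := by
    intro h
    have hF : ringChar F = 2 := Cfsg.Agent.Spinor.ringChar_eq_two h
    have := FiniteField.even_card_of_char_two hF
    rw [Nat.odd_iff] at hodd
    omega
  have hchar : ∀ t : ℕ, t.Prime → (t : F) ≠ 0 ∨ t = p := fun t ht => by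
    by_cases h : (t : F) = 0
    · right
      have := (CharP.cast_eq_zero_iff F p t).1 h
      exact ((Nat.prime_dvd_prime_iff_eq (Fact.out : p.Prime) ht).1 this).symm
    · exact Or.inl h
  have two : ∀ t : ℕ, t.Prime → Odd t →
      ((2 * t ∈ Set.range (orderOf : Cfsg.POmega F (Cfsg.quadFormOdd n F) → ℕ)) ↔
        (2 * t ∈ Set.range (orderOf : Cfsg.PSp n F → ℕ))) := fun t ht hto => by
    open Cfsg.Agent.PrimeGraphBC in
    rcases hchar t ht with htF | rfl
    · exact ⟨psp_of_pomega_two (p := p) h2 hn ht hto htF, pomega_of_psp_two (p := p) h2 hn ht hto htF⟩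
    · open Cfsg.Agent.PrimeGraphBC in
      exact iff_of_true (pomega_two_of_elem h2 hn ht hto (elem_three t h2) (by omega))
        (psp_two_of_elem h2 ht hto (elem_two t) (by omega))
  have odd : ∀ a b : ℕ, a.Prime → b.Prime → Odd a → Odd b → a ≠ b → (a : F) ≠ 0 →
      ((a * b ∈ Set.range (orderOf : Cfsg.POmega F (Cfsg.quadFormOdd n F) → ℕ)) ↔
        (a * b ∈ Set.range (orderOf : Cfsg.PSp n F → ℕ))) := fun a b ha hb hao hbo hab haF => by
    open Cfsg.Agent.PrimeGraphBC in
    exact ⟨fun h => psp_of_pair h2 ha hb hao hbo hab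
        (pair_orth_to_sp (p := p) h2 hao hbo haF (hchar b hb) (pair_of_pomega h2 hn ha hb h)),
      fun h => pomega_of_pair h2 hn ha hb hao hbo hab
        (pair_sp_to_orth (p := p) h2 hao hbo haF (hchar b hb) (pair_of_psp ha hb hao hbo h))⟩
  rcases hr.eq_two_or_odd' with rfl | hro
  · exact two s hs (hs.odd_of_ne_two hrs.symm)
  rcases hs.eq_two_or_odd' with rfl | hso
  · rw [mul_comm]; exact two r hr hro
  rcases hchar r hr with hrF | rfl
  · exact odd r s hr hs hro hso hrs hrF
  · rw [mul_comm]
    refine odd s r hs hr hso hro hrs.symm fun h => hrs ?_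
    exact (Nat.prime_dvd_prime_iff_eq hr hs).1 ((CharP.cast_eq_zero_iff F r s).1 h)

end Cfsg.Agent.S2474
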