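import Cfsg.Statements.S2475
import Cfsg.Agent.Lib.Recog.PGLTwoOrders
import Cfsg.Agent.Lib.SL2.Tori
-- import your own Cfsg.Agent.* helpers here

set_option autoImplicit false
open Cfsg

namespace Cfsg.Agent.S2475

/-- The set of element orders of PSL(2,q): let F be a finite field of characteristic p with q ≥ 4 elements and d = gcd(2, q − 1). The orders of elements of PSL(2,F) are exactly the divisors of p, of (q − 1)/d and of (q + 1)/d. -/
theorem result {F : Type*} [Field F] [Fintype F] (p : ℕ) [Fact p.Prime] [CharP F p] (h4 : 4 ≤ Fintype.card F) :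
    Set.range (orderOf : Matrix.ProjectiveSpecialLinearGroup (Fin 2) F → ℕ) =
      {m : ℕ | m ∣ p ∨ m ∣ (Fintype.card F - 1) / Nat.gcd 2 (Fintype.card F - 1) ∨ m ∣ (Fintype.card F + 1) / Nat.gcd 2 (Fintype.card F - 1)} := by
  classical
  have hp : p.Prime := Fact.out
  set q := Fintype.card F with hqdef
  have hdiv : ∀ (y : Matrix.ProjectiveSpecialLinearGroup (Fin 2) F) (d : ℕ), d ∣ orderOf y →
      d ∈ Set.range (orderOf : Matrix.ProjectiveSpecialLinearGroup (Fin 2) F → ℕ) := by
    intro y d hd
    refine ⟨y ^ (orderOf y / d), ?_⟩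
    rw [orderOf_pow_of_dvd (Nat.div_pos (Nat.le_of_dvd (orderOf_pos y) hd)
      (Nat.pos_of_dvd_of_pos hd (orderOf_pos y))).ne' (Nat.div_dvd_of_dvd hd),
      Nat.div_div_self hd (orderOf_pos y).ne']
  obtain ⟨yp, hyp⟩ := Recog.PGLTwo.exists_psl_order_char (F := F) (p := p)
  rcases Nat.even_or_odd q with heven | hodd
  · have hp2 : p = 2 := by
      by_contra h
      have := FiniteField.odd_card_of_char_ne_two (F := F) (by rw [ringChar.eq F p]; exact h)
      rw [Nat.even_iff] at heven
      omega
    subst hp2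
    have h2 : (2 : F) = 0 := CharTwo.two_eq_zero
    have hgcd : Nat.gcd 2 (q - 1) = 1 := by
      refine Nat.coprime_comm.1 (Nat.coprime_two_right.2 ?_)
      rw [Nat.odd_iff]; rw [Nat.even_iff] at heven; omega
    rw [hgcd, Nat.div_one, Nat.div_one]
    have hinj : ∀ s : Matrix.SpecialLinearGroup (Fin 2) F,
        orderOf (QuotientGroup.mk s : Matrix.ProjectiveSpecialLinearGroup (Fin 2) F) = orderOf s := by
      intro s
      refine orderOf_injective (QuotientGroup.mk' (Subgroup.center _)) (fun a b h => ?_) s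
      have h' := QuotientGroup.eq.1 h
      rw [← SL2.scal_iff_mem_center, SL2.scal_iff] at h'
      have h1 : (-1 : Matrix.SpecialLinearGroup (Fin 2) F) = 1 := by
        apply SL2.ext4 <;> simp [CharTwo.neg_eq]
      rw [h1, or_self] at h'
      exact inv_mul_eq_one.1 h'
    apply Set.Subset.antisymm
    · rintro _ ⟨x, rfl⟩
      obtain ⟨s, rfl⟩ := QuotientGroup.mk_surjective x
      rw [hinj, Set.mem_setOf_eq]
      by_cases hs : SL2.Scal s
      · rcases (SL2.scal_iff s).1 hs with h | h <;> left <;> rw [h]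
        · simp
        · exact orderOf_dvd_of_pow_eq_one (by rw [pow_two]; simp)
      by_cases ht : SL2.tr s ^ 2 = 4
      · left
        refine orderOf_dvd_of_pow_eq_one (Subtype.ext ?_)
        have h0 : SL2.tr s = 0 := pow_eq_zero_iff two_ne_zero |>.1 (by linear_combination ht + 2 * h2)
        rw [pow_two, Matrix.SpecialLinearGroup.coe_mul, SL2.mul_self, h0]
        simp [CharTwo.sub_eq_add]
      · right
        have hd := Subgroup.orderOf_dvd_natCard _ (SL2.self_mem_cent s)
        rcases SL2.card_cent_regular ht with ⟨-, hc, -⟩ | ⟨-, hc, -⟩ <;> rw [hc] at hd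
        · exact Or.inr hd
        · exact Or.inl hd
    · rintro m (h | h | h)
      · exact hdiv yp m (hyp.symm ▸ h)
      · obtain ⟨ω, hω⟩ := IsCyclic.exists_generator (α := Fˣ)
        refine hdiv (QuotientGroup.mk (SL2.dd ω)) m ?_
        rw [hinj, show SL2.dd ω = SL2.ddHom ω from rfl,
          orderOf_injective SL2.ddHom SL2.dd_injective,
          orderOf_eq_card_of_forall_mem_zpowers hω, Nat.card_units, Nat.card_eq_fintype_card]
        exact h
      · obtain ⟨g, hg⟩ := SL2.exists_noEig (F := F)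
        have := SL2.isCyclic_cent hg.tr_sq
        obtain ⟨c, hc⟩ := IsCyclic.exists_ofOrder_eq_natCard (α := SL2.cent g)
        refine hdiv (QuotientGroup.mk (c : Matrix.SpecialLinearGroup (Fin 2) F)) m ?_
        rw [hinj, Subgroup.orderOf_coe, hc, (SL2.card_cent_noEig hg).1]
        exact h
  · obtain ⟨k, hk⟩ := id hodd
    have hgcd : Nat.gcd 2 (q - 1) = 2 := Nat.gcd_eq_left ⟨k, by omega⟩
    rw [hgcd]
    apply Set.Subset.antisymm
    · rintro _ ⟨x, rfl⟩
      rcases Recog.PGLTwo.psl_orders (p := p) hodd x with ⟨h, -⟩ | h | h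
      · exact Or.inl (h ▸ dvd_rfl)
      · exact Or.inr (Or.inl h)
      · exact Or.inr (Or.inr h)
    · rintro m (h | h | h)
      · exact hdiv yp m (hyp.symm ▸ h)
      · obtain ⟨s, hs, -⟩ := Recog.PGLTwo.exists_psl_split (F := F) hodd (by omega)
        exact hdiv _ m (hs.symm ▸ h)
      · obtain ⟨s, hs, -⟩ := Recog.PGLTwo.exists_psl_elliptic (F := F) hodd (by omega)
        exact hdiv _ m (hs.symm ▸ h)

end Cfsg.Agent.S2475
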