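import Cfsg.Statements.S2476
import Cfsg.Agent.Lib.GLOrders.PSLThree
-- import your own Cfsg.Agent.* helpers here

set_option autoImplicit false
open Cfsg

namespace Cfsg.Agent.S2476

/-- The set of element orders of PSL(3,q): let F be a finite field of characteristic p with q elements and d = gcd(3, q − 1). The orders of elements of PSL(3,F) are exactly the divisors of (q² + q + 1)/d, of (q² − 1)/d, of q − 1, of p(q − 1)/d, and, when p = 2, of 4. -/
theorem result {F : Type*} [Field F] [Fintype F] (p : ℕ) [Fact p.Prime] [CharP F p] :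
    Set.range (orderOf : Matrix.ProjectiveSpecialLinearGroup (Fin 3) F → ℕ) =
      {m : ℕ | m ∣ (Fintype.card F ^ 2 + Fintype.card F + 1) / Nat.gcd 3 (Fintype.card F - 1) ∨
        m ∣ (Fintype.card F ^ 2 - 1) / Nat.gcd 3 (Fintype.card F - 1) ∨ m ∣ Fintype.card F - 1 ∨
        m ∣ p * (Fintype.card F - 1) / Nat.gcd 3 (Fintype.card F - 1) ∨ (p = 2 ∧ m ∣ 4)} := by
  classical
  set q := Fintype.card F with hq
  set g := Nat.gcd 3 (q - 1) with hg
  have hgq : g ∣ q - 1 := Nat.gcd_dvd_right _ _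
  have hg0 : 0 < g := Nat.gcd_pos_of_pos_left _ (by norm_num)
  have hq1 : 1 < q := Fintype.one_lt_card
  have hpd : p * (q - 1) / g = p * ((q - 1) / g) := Nat.mul_div_assoc p hgq
  ext m
  simp only [Set.mem_ofPred_eq]
  constructor
  · rintro ⟨x, rfl⟩
    obtain ⟨A, rfl⟩ := QuotientGroup.mk_surjective x
    obtain ⟨N, e, hN, hdvd⟩ := Cfsg.Agent.GLOrders.exists_exp p (Nat.gcd_dvd_left 3 (q - 1)) hgq A.1 A.2
    have hord : orderOf (Cfsg.Agent.GLOrders.PSLmk A) ∣ N := orderOf_dvd_of_pow_eq_one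
      ((Cfsg.Agent.GLOrders.mk_pow_eq_one_iff A N).2
        ⟨e, Cfsg.Agent.GLOrders.pow_eq_scalar_of_charpoly_dvd A.1 hdvd⟩)
    rcases hN with h | h | h | ⟨N', h, rfl⟩ | ⟨h2, rfl⟩
    · exact Or.inl (by rw [← h, Nat.mul_div_cancel _ hg0]; exact hord)
    · exact Or.inr (Or.inl (by rw [← h, Nat.mul_div_cancel _ hg0]; exact hord))
    · exact Or.inr (Or.inr (Or.inl (h ▸ hord)))
    · exact Or.inr (Or.inr (Or.inr (Or.inl (by rw [hpd, ← h, Nat.mul_div_cancel _ hg0]; exact hord))))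
    · exact Or.inr (Or.inr (Or.inr (Or.inr ⟨h2, hord⟩)))
  · intro hm
    obtain ⟨M₁, x₁, hM₁, h₁a, h₁b, -⟩ := Cfsg.Agent.GLOrders.exists_torus_unipotent (F := F) (n := 3) p (d := 1) le_rfl (by norm_num)
    obtain ⟨M₂, x₂, hM₂, h₂a, -, -⟩ := Cfsg.Agent.GLOrders.exists_torus_unipotent (F := F) (n := 3) p (d := 2) (by norm_num) (by norm_num)
    obtain ⟨M₃, x₃, -, -, -, h₃⟩ := Cfsg.Agent.GLOrders.exists_torus_unipotent (F := F) (n := 3) p (d := 3) (by norm_num) le_rfl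
    rw [← hq, ← hg] at hM₁ hM₂ h₃
    rw [pow_one] at hM₁
    rcases hm with h | h | h | h | ⟨h2, h⟩
    · refine Cfsg.Agent.GLOrders.mem_range_orderOf_of_dvd' (Cfsg.Agent.GLOrders.PSLmk x₃) (h.trans (h₃ rfl _ ?_))
      have hgd : g ∣ q ^ 2 + q + 1 := by
        have h1 : q ^ 2 + q + 1 = (q - 1) * (q + 2) + 3 := by
          obtain ⟨u, hu⟩ : ∃ u, q = u + 1 := ⟨q - 1, by omega⟩
          rw [hu]; simp only [Nat.add_sub_cancel]; ring
        rw [h1]
        exact Nat.dvd_add (hgq.mul_right _) (Nat.gcd_dvd_left 3 (q - 1))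
      rw [Nat.div_mul_cancel hgd]
      obtain ⟨u, hu⟩ : ∃ u, q = u + 1 := ⟨q - 1, by omega⟩
      rw [hu, Nat.add_sub_cancel]
      refine (Nat.sub_eq_of_eq_add ?_).symm
      ring
    · refine Cfsg.Agent.GLOrders.mem_range_orderOf_of_dvd' (Cfsg.Agent.GLOrders.PSLmk x₂) (h.trans ?_)
      rw [← hM₂, Nat.mul_div_cancel _ hg0]
      exact h₂a (by norm_num)
    · obtain ⟨x, hx⟩ := Cfsg.Agent.GLOrders.exists_sub_one (F := F)
      exact Cfsg.Agent.GLOrders.mem_range_orderOf_of_dvd' (Cfsg.Agent.GLOrders.PSLmk x) (h.trans hx)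
    · refine Cfsg.Agent.GLOrders.mem_range_orderOf_of_dvd' (Cfsg.Agent.GLOrders.PSLmk x₁) (h.trans ?_)
      rw [hpd, ← hM₁, Nat.mul_div_cancel _ hg0]
      have hp := h₁b 0 (by norm_num)
      rw [zero_add, pow_one] at hp
      refine Nat.Coprime.mul_dvd_of_dvd_of_dvd ?_ hp (h₁a (by norm_num))
      refine (Nat.Prime.coprime_iff_not_dvd Fact.out).2 fun hd => ?_
      obtain ⟨e, -, hc⟩ := FiniteField.card F p
      have hpq : p ∣ q := by rw [hq, hc]; exact dvd_pow_self p e.ne_zero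
      have := Nat.dvd_sub hpq (hd.trans (Dvd.intro g hM₁))
      rw [Nat.sub_sub_self hq1.le] at this
      exact (Fact.out : p.Prime).one_lt.ne' (Nat.dvd_one.1 this)
    · subst h2
      obtain ⟨x, hx⟩ := Cfsg.Agent.GLOrders.exists_four (F := F)
      exact Cfsg.Agent.GLOrders.mem_range_orderOf_of_dvd' (Cfsg.Agent.GLOrders.PSLmk x) (h.trans hx)

end Cfsg.Agent.S2476
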