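import Cfsg.Statements.S2478
import Cfsg.Agent.S2387
import Mathlib

set_option autoImplicit false
open Cfsg

namespace Cfsg.Agent.S2478


open Polynomial DirectSum

universe u

variable {F : Type u} [Field F]

/-- `s` is the multiset of elementary divisors of `A`. -/
def IsData {n : ℕ} (A : Matrix (Fin n) (Fin n) F) (s : Multiset (F[X] × ℕ)) : Prop :=
  ∃ (ι : Type u) (_ : Fintype ι) (p : ι → F[X]) (e : ι → ℕ),
    Nonempty (Module.AEval' (Matrix.toLin' A) ≃ₗ[F[X]] ((i : ι) → F[X] ⧸ F[X] ∙ p i ^ e i)) ∧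
      (∀ i, Irreducible (p i) ∧ (p i).Monic ∧ 1 ≤ e i) ∧
      s = Finset.univ.val.map fun i => (p i, e i)

/-- The span of a power only depends on the normalised base. -/
theorem span_normalize [DecidableEq F] (p : F[X]) (e : ℕ) :
    F[X] ∙ p ^ e = F[X] ∙ normalize p ^ e := by
  rw [Ideal.submodule_span_eq, Ideal.submodule_span_eq, Ideal.span_singleton_eq_span_singleton]
  exact (associated_normalize p).pow_pow

theorem exists_data {n : ℕ} (A : Matrix (Fin n) (Fin n) F) : ∃ s, IsData A s := by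
  classical
  obtain ⟨ι, _, p, hp, e, ⟨Φ⟩⟩ := Module.equiv_directSum_of_isTorsion
    (Module.AEval.isTorsion_of_finiteDimensional F (Fin n → F) (Matrix.toLin' A))
  refine ⟨_, {i // e i ≠ 0}, inferInstance, fun i => normalize (p i.1), fun i => e i.1, ⟨?_⟩, fun i =>
    ⟨(associated_normalize _).irreducible (hp i.1), monic_normalize (hp i.1).ne_zero, by
      have := i.2; show 1 ≤ e i.1; omega⟩, rfl⟩
  have hz : ∀ i, e i = 0 → ∀ x : F[X] ⧸ F[X] ∙ p i ^ e i, x = 0 := by
    intro i hi x
    obtain ⟨Q, rfl⟩ := Submodule.Quotient.mk_surjective _ x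
    rw [Submodule.Quotient.mk_eq_zero, hi, pow_zero, Ideal.submodule_span_eq, Ideal.span_singleton_one]
    trivial
  let R : ((i : ι) → F[X] ⧸ F[X] ∙ p i ^ e i) ≃ₗ[F[X]] ((i : {i // e i ≠ 0}) → F[X] ⧸ F[X] ∙ p i.1 ^ e i.1) :=
    { toFun := fun f i => f i.1
      map_add' := fun _ _ => rfl
      map_smul' := fun _ _ => rfl
      invFun := fun f i => if h : e i ≠ 0 then f ⟨i, h⟩ else 0
      left_inv := fun f => funext fun i => by
        by_cases h : e i ≠ 0
        · simp [h]
        · simp only [dif_neg h]; exact (hz i (not_not.1 h) _).symm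
      right_inv := fun f => funext fun i => by simp only [dif_pos i.2] }
  exact ((Φ.trans (DirectSum.linearEquivFunOnFintype F[X] ι _)).trans R).trans
    (LinearEquiv.piCongrRight fun i => Submodule.quotEquivOfEq _ _ (span_normalize (p i.1) (e i.1)))

theorem conj_of_data {n : ℕ} (g h : GL (Fin n) F) {s : Multiset (F[X] × ℕ)} (hg : IsData g.1 s)
    (hh : IsData h.1 s) : IsConj g h := by
  classical
  obtain ⟨ι, _, p, e, ⟨Φ⟩, -, rfl⟩ := hg
  obtain ⟨ι', _, p', e', ⟨Φ'⟩, -, hs⟩ := hh
  have hfib : ∀ c : F[X] × ℕ, Nonempty ({i // (p i, e i) = c} ≃ {i // (p' i, e' i) = c}) := fun c => by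
    refine ⟨Fintype.equivOfCardEq ?_⟩
    have h' := congrArg (Multiset.count c) hs
    rw [Multiset.count_map, Multiset.count_map] at h'
    simp only [Fintype.card_subtype]
    convert h' using 1 <;> simp [Finset.card_def, eq_comm]
  let σ : ι ≃ ι' := Equiv.ofFiberEquiv (f := fun i => (p i, e i)) (g := fun i => (p' i, e' i))
    fun c => (hfib c).some
  have hσ : ∀ i, (p' (σ i), e' (σ i)) = (p i, e i) := fun i =>
    Equiv.ofFiberEquiv_map (f := fun i => (p i, e i)) (g := fun i => (p' i, e' i)) _ i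
  let E : ((i : ι) → F[X] ⧸ F[X] ∙ p i ^ e i) ≃ₗ[F[X]] ((j : ι') → F[X] ⧸ F[X] ∙ p' j ^ e' j) :=
    (LinearEquiv.piCongrRight fun i => Submodule.quotEquivOfEq _ _ (by
      have h1 := Prod.ext_iff.1 (hσ i)
      dsimp only at h1
      rw [h1.1, h1.2])).trans
      (LinearEquiv.piCongrLeft F[X] (fun j => F[X] ⧸ F[X] ∙ p' j ^ e' j) σ)
  let Ψ := (Φ.trans E).trans Φ'.symm
  let P : (Fin n → F) ≃ₗ[F] (Fin n → F) :=
    ((Module.AEval'.of (Matrix.toLin' g.1)).trans (Ψ.restrictScalars F)).trans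
      (Module.AEval'.of (Matrix.toLin' h.1)).symm
  have hP : ∀ v, P (Matrix.toLin' g.1 v) = Matrix.toLin' h.1 (P v) := fun v => by
    show (Module.AEval'.of _).symm (Ψ (Module.AEval'.of _ (Matrix.toLin' g.1 v))) = _
    rw [← Module.AEval'.X_smul_of, map_smul]
    refine (Module.AEval'.of (Matrix.toLin' h.1)).injective ?_
    rw [LinearEquiv.apply_symm_apply, ← Module.AEval'.X_smul_of]
    show _ = X • Module.AEval'.of _ ((Module.AEval'.of _).symm (Ψ (Module.AEval'.of _ v)))
    rw [LinearEquiv.apply_symm_apply]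
  let c : GL (Fin n) F := ⟨LinearMap.toMatrixAlgEquiv' P.toLinearMap,
    LinearMap.toMatrixAlgEquiv' P.symm.toLinearMap,
    by rw [← map_mul, show P.toLinearMap * P.symm.toLinearMap = 1 from LinearMap.ext P.apply_symm_apply, map_one],
    by rw [← map_mul, show P.symm.toLinearMap * P.toLinearMap = 1 from LinearMap.ext P.symm_apply_apply, map_one]⟩
  refine isConj_iff.2 ⟨c, mul_inv_eq_iff_eq_mul.2 (Units.ext ?_)⟩
  show LinearMap.toMatrixAlgEquiv' P.toLinearMap * g.1 = h.1 * LinearMap.toMatrixAlgEquiv' P.toLinearMap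
  apply (Matrix.toLinAlgEquiv' (R := F) (n := Fin n)).injective
  rw [map_mul, map_mul, Matrix.toLinAlgEquiv'_toMatrixAlgEquiv']
  exact LinearMap.ext hP

theorem data_good {n : ℕ} (g : GL (Fin n) F) {s : Multiset (F[X] × ℕ)} (hs : IsData g.1 s) :
    (∀ x ∈ s, Irreducible x.1 ∧ x.1.Monic ∧ 1 ≤ x.2 ∧ x.1.coeff 0 ≠ 0) ∧
      (s.map fun x => x.2 * x.1.natDegree).sum = n := by
  classical
  obtain ⟨ι, _, p, e, ⟨Φ⟩, hp, rfl⟩ := hs
  refine ⟨fun x hx => ?_, ?_⟩
  · obtain ⟨i, -, rfl⟩ := Multiset.mem_map.1 hx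
    refine ⟨(hp i).1, (hp i).2.1, (hp i).2.2, fun h0 => ?_⟩
    have hpX : p i = X := by
      obtain ⟨r, hr⟩ := Polynomial.X_dvd_iff.2 h0
      rcases (hp i).1.isUnit_or_isUnit hr with h | h
      · exact absurd h not_isUnit_X
      · exact eq_of_monic_of_associated (hp i).2.1 monic_X ⟨h.unit⁻¹, by
          rw [show p i = X * r from hr, mul_assoc, IsUnit.mul_val_inv, mul_one]⟩
    let y := Φ.symm (Pi.single i (Submodule.Quotient.mk (X ^ (e i - 1))))
    have hXy : (X : F[X]) • y = 0 := by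
      rw [← map_smul, ← Pi.single_smul, ← Submodule.Quotient.mk_smul, smul_eq_mul, ← pow_succ',
        Nat.sub_add_cancel (hp i).2.2, (Submodule.Quotient.mk_eq_zero _).2, Pi.single_zero, map_zero]
      rw [hpX]
      exact Submodule.mem_span_singleton_self _
    obtain ⟨v, hv⟩ := (Module.AEval'.of (Matrix.toLin' g.1)).surjective y
    rw [← hv, Module.AEval'.X_smul_of, LinearEquiv.map_eq_zero_iff, Matrix.toLin'_apply] at hXy
    have hv0 : v = 0 := Matrix.mulVec_injective_iff_isUnit.2 g.isUnit (hXy.trans (Matrix.mulVec_zero _).symm)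
    rw [hv0, map_zero] at hv
    have h1 := congrFun ((Φ.apply_symm_apply _).symm.trans ((congrArg Φ hv.symm).trans (map_zero _))) i
    rw [Pi.single_eq_same, Pi.zero_apply, Submodule.Quotient.mk_eq_zero, hpX, Ideal.submodule_span_eq,
      Ideal.mem_span_singleton, pow_dvd_pow_iff X_ne_zero not_isUnit_X] at h1
    have := (hp i).2.2
    omega
  · have hfin : ∀ i, Module.Finite F (F[X] ⧸ F[X] ∙ p i ^ e i) := fun i =>
      Module.Finite.of_basis (AdjoinRoot.powerBasis ((hp i).2.1.pow (e i)).ne_zero).basis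
    have hrank := ((Module.AEval'.of (Matrix.toLin' g.1)).trans (Φ.restrictScalars F)).finrank_eq
    rw [Module.finrank_fin_fun, Module.finrank_pi_fintype] at hrank
    rw [Multiset.map_map, ← Finset.sum_eq_multiset_sum]
    refine Eq.trans (Finset.sum_congr rfl fun i _ => ?_) hrank.symm
    show e i * (p i).natDegree = Module.finrank F (AdjoinRoot (p i ^ e i))
    rw [PowerBasis.finrank (AdjoinRoot.powerBasis ((hp i).2.1.pow (e i)).ne_zero), AdjoinRoot.powerBasis_dim,
      natDegree_pow]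

variable (F) in
/-- Monic polynomials with non-zero constant term. -/
abbrev Good := {f : F[X] // f.Monic ∧ f.coeff 0 ≠ 0}

variable (F) in
/-- Sequences of polynomials of weighted degree `k`. -/
abbrev S (m k : ℕ) := {g : Fin m → Good F // ∑ j : Fin m, ((j : ℕ) + 1) * (g j).1.natDegree = k}

variable (F) in
/-- Good polynomials of given degree. -/
abbrev Pd (a : ℕ) := {f : Good F // f.1.natDegree = a}

theorem ext' {m k N : ℕ} (x y : Σ a : Fin N, Pd F a × S F m (k - (m + 1) * a)) :
    x.2.1.1 = y.2.1.1 → x.2.2.1 = y.2.2.1 → x = y := by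
  obtain ⟨⟨a, ha⟩, ⟨f, hf⟩, ⟨r, hr⟩⟩ := x
  obtain ⟨⟨b, hb⟩, ⟨f', hf'⟩, ⟨r', hr'⟩⟩ := y
  intro e1 e2
  dsimp only at e1 e2 hf hf'
  subst e1 e2
  obtain rfl : a = b := hf.symm.trans hf'
  rfl

/-- The recursion. -/
def splitEquiv (m k : ℕ) :
    S F (m + 1) k ≃ Σ a : Fin (k / (m + 1) + 1), Pd F a × S F m (k - (m + 1) * a) where
  toFun g := ⟨⟨(g.1 (Fin.last m)).1.natDegree, by
      have h := g.2
      rw [Fin.sum_univ_castSucc, Fin.val_last] at h
      exact Nat.lt_succ_of_le ((Nat.le_div_iff_mul_le (Nat.succ_pos m)).2 (by rw [mul_comm, Nat.succ_eq_add_one]; omega))⟩,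
    ⟨g.1 (Fin.last m), rfl⟩, ⟨fun j => g.1 j.castSucc, by
      have h := g.2
      rw [Fin.sum_univ_castSucc, Fin.val_last] at h
      simp only [Fin.val_castSucc] at h
      dsimp only
      omega⟩⟩
  invFun x := ⟨Fin.snoc x.2.2.1 x.2.1.1, by
    rw [Fin.sum_univ_castSucc, Fin.val_last]
    simp only [Fin.snoc_castSucc, Fin.snoc_last, Fin.val_castSucc, x.2.2.2, x.2.1.2]
    have := (Nat.le_div_iff_mul_le (Nat.succ_pos m)).1 (Nat.le_of_lt_succ x.1.2)
    rw [mul_comm, Nat.succ_eq_add_one] at this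
    omega⟩
  left_inv g := Subtype.ext (Fin.snoc_init_self g.1)
  right_inv := by
    intro x
    refine ext' _ x ?_ (funext fun j => ?_) <;> dsimp only
    · exact Fin.snoc_last (α := fun _ => Good F) _ _
    · exact Fin.snoc_castSucc (α := fun _ => Good F) _ _ _

/-- Weights. -/
def cw (q : ℕ) : ℕ → ℕ
  | 0 => 1
  | a + 1 => (q - 1) * q ^ a

/-- The count. -/
def cnt (q : ℕ) : ℕ → ℕ → ℕ
  | 0, k => if k = 0 then 1 else 0
  | m + 1, k => ∑ a ∈ Finset.range (k / (m + 1) + 1), cw q a * cnt q m (k - (m + 1) * a)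

theorem card_Pd [Fintype F] (a : ℕ) : Nat.card (Pd F a) = cw (Fintype.card F) a ∧ Finite (Pd F a) := by
  classical
  cases a with
  | zero =>
    have h1 : ∀ f : Pd F 0, f.1.1 = 1 := fun f => Polynomial.eq_one_of_monic_natDegree_zero f.1.2.1 f.2
    haveI : Unique (Pd F 0) :=
      { default := ⟨⟨1, monic_one, by simp⟩, natDegree_one⟩
        uniq := fun f => Subtype.ext (Subtype.ext (h1 f)) }
    exact ⟨Nat.card_unique, inferInstance⟩
  | succ m =>
    let e0 : Pd F (m + 1) ≃ {f : {f : F[X] // f.Monic ∧ f.natDegree = m + 1} // f.1.coeff 0 ≠ 0} :=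
      { toFun := fun f => ⟨⟨f.1.1, f.1.2.1, f.2⟩, f.1.2.2⟩
        invFun := fun f => ⟨⟨f.1.1, f.1.2.1, f.2⟩, f.1.2.2⟩
        left_inv := fun _ => rfl
        right_inv := fun _ => rfl }
    let e : Pd F (m + 1) ≃ {v : Fin (m + 1) → F // v 0 ≠ 0} :=
      e0.trans (((monicEquivDegreeLT (m + 1)).trans (degreeLTEquiv F (m + 1)).toEquiv).subtypeEquiv
        (fun f => by
          show f.1.coeff 0 ≠ 0 ↔ (f.1.eraseLead.coeff ((0 : Fin (m + 1)) : ℕ)) ≠ 0
          rw [Fin.val_zero, eraseLead_coeff_of_ne 0 (by rw [f.2.2]; omega)]))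
    let e' : {v : Fin (m + 1) → F // v 0 ≠ 0} ≃ {x : F // x ≠ 0} × (Fin m → F) :=
      { toFun := fun v => (⟨v.1 0, v.2⟩, Fin.tail v.1)
        invFun := fun x => ⟨Fin.cons x.1.1 x.2, by simpa using x.1.2⟩
        left_inv := fun v => Subtype.ext (Fin.cons_self_tail v.1)
        right_inv := fun x => Prod.ext (Subtype.ext (by simp)) (by simp) }
    refine ⟨?_, Finite.of_equiv _ (e.trans e').symm⟩
    rw [Nat.card_congr (e.trans e'), Nat.card_prod, Nat.card_fun, Nat.card_fin,
      ← Nat.card_congr unitsEquivNeZero, Nat.card_units, Nat.card_eq_fintype_card]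
    rfl

theorem card_S [Fintype F] : ∀ m k, Nat.card (S F m k) = cnt (Fintype.card F) m k ∧ Finite (S F m k)
  | 0, k => by
    haveI : Subsingleton (S F 0 k) := ⟨fun a b => Subtype.ext (funext fun j => j.elim0)⟩
    refine ⟨?_, Finite.of_subsingleton⟩
    by_cases hk : k = 0
    · subst hk
      haveI : Unique (S F 0 0) :=
        { default := ⟨Fin.elim0, by simp⟩
          uniq := fun f => Subtype.ext (Subsingleton.elim _ _) }
      simp [cnt]
    · haveI : IsEmpty (S F 0 k) := ⟨fun f => hk (by simpa using f.2.symm)⟩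
      simp [cnt, hk]
  | m + 1, k => by
    haveI : ∀ a, Finite (Pd F a) := fun a => (card_Pd a).2
    haveI : ∀ j, Finite (S F m j) := fun j => (card_S m j).2
    refine ⟨?_, Finite.of_equiv _ (splitEquiv m k).symm⟩
    rw [Nat.card_congr (splitEquiv m k), Nat.card_sigma, cnt,
      Finset.sum_range (f := fun a => cw (Fintype.card F) a * cnt (Fintype.card F) m (k - (m + 1) * a))]
    exact Finset.sum_congr rfl fun a _ => by rw [Nat.card_prod, (card_Pd _).1, (card_S m _).1]

/-- The main inequality. -/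
theorem cnt_le (q : ℕ) (hq : 1 ≤ q) : ∀ m, 1 ≤ m →
    ∀ k, cnt q m k ≤ q ^ k ∧ (m ≤ k → cnt q m k + q ^ (k - m) ≤ q ^ k) := by
  intro m hm
  induction m, hm using Nat.le_induction with
  | base =>
    intro k
    have h1 : cnt q 1 k = cw q k := by
      rw [cnt, Nat.div_one, Finset.sum_range_succ, Finset.sum_eq_zero, zero_add]
      · simp [cnt]
      · intro a ha
        simp only [Finset.mem_range] at ha
        simp [cnt, show k - a ≠ 0 by omega]
    rw [h1]
    cases k with
    | zero => simp [cw]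
    | succ j =>
      have : cw q (j + 1) + q ^ j = q ^ (j + 1) := by
        show (q - 1) * q ^ j + q ^ j = _
        rw [← Nat.succ_mul, pow_succ', Nat.succ_eq_add_one, Nat.sub_add_cancel hq]
      exact ⟨by omega, fun _ => by simpa using this.le⟩
  | succ m hm ih =>
    intro k
    let G : ℕ → ℕ := fun k =>
      ∑ a ∈ Finset.range (k / (m + 1)), cw q (a + 1) * cnt q m (k - (m + 1) * (a + 1))
    have hcnt : ∀ k, cnt q (m + 1) k = cnt q m k + G k := fun k => by
      rw [cnt, Finset.sum_range_succ']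
      simp [cw, G, add_comm]
    have hG0 : ∀ k, k < m + 1 → G k = 0 := fun k hk => by simp [G, Nat.div_eq_of_lt hk]
    have hG : ∀ j, G (j + (m + 1)) = (q - 1) * cnt q m j + q * G j := by
      intro j
      show Finset.sum (Finset.range ((j + (m + 1)) / (m + 1))) _ = _
      rw [Nat.add_div_right _ (Nat.succ_pos m), Finset.sum_range_succ', Finset.mul_sum]
      rw [add_comm]
      congr 1
      · simp [cw]
      · refine Finset.sum_congr rfl fun a _ => ?_
        rw [show j + (m + 1) - (m + 1) * (a + 1 + 1) = j - (m + 1) * (a + 1) by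
          rw [Nat.mul_succ (m + 1) (a + 1)]; omega]
        show (q - 1) * q ^ (a + 1) * _ = q * ((q - 1) * q ^ a * _)
        ring
    have hGb : ∀ j, G (j + (m + 1)) ≤ (q - 1) * q ^ j := by
      intro j
      induction j using Nat.strong_induction_on with
      | _ j ihj =>
        rw [hG]
        by_cases hj : j < m + 1
        · rw [hG0 j hj, mul_zero, add_zero]
          exact Nat.mul_le_mul_left _ (ih j).1
        · obtain ⟨i, rfl⟩ := Nat.exists_eq_add_of_le' (not_lt.1 hj)
          calc (q - 1) * cnt q m (i + (m + 1)) + q * G (i + (m + 1))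
              ≤ (q - 1) * cnt q m (i + (m + 1)) + q * ((q - 1) * q ^ i) :=
                Nat.add_le_add_left (Nat.mul_le_mul_left _ (ihj i (by omega))) _
            _ = (q - 1) * (cnt q m (i + (m + 1)) + q ^ (i + (m + 1) - m)) := by
                rw [show i + (m + 1) - m = i + 1 by omega, pow_succ]; ring
            _ ≤ _ := Nat.mul_le_mul_left _ ((ih _).2 (by omega))
    by_cases hk : k < m + 1
    · rw [hcnt, hG0 k hk, add_zero]
      exact ⟨(ih k).1, fun h => absurd h (by omega)⟩
    · obtain ⟨i, rfl⟩ := Nat.exists_eq_add_of_le' (not_lt.1 hk)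
      have h2 := (ih (i + (m + 1))).2 (by omega)
      have h3 : (q - 1) * q ^ i + q ^ i = q ^ (i + 1) := by
        rw [← Nat.succ_mul, pow_succ', Nat.succ_eq_add_one, Nat.sub_add_cancel hq]
      have h4 := hGb i
      rw [show i + (m + 1) - m = i + 1 by omega] at h2
      rw [hcnt, Nat.add_sub_cancel]
      exact ⟨by omega, fun _ => by omega⟩

theorem sum_split {β : Type*} (f : β × ℕ → ℕ) (n : ℕ) (s : Multiset (β × ℕ))
    (h : ∀ x ∈ s, 1 ≤ x.2 ∧ x.2 ≤ n) :
    ∑ j : Fin n, ((s.filter fun x => x.2 = (j : ℕ) + 1).map f).sum = (s.map f).sum := by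
  induction s using Multiset.induction with
  | empty => simp
  | cons a t ih =>
    have hj : ∀ j : Fin n, (((a ::ₘ t).filter fun x => x.2 = (j : ℕ) + 1).map f).sum =
        (if a.2 = (j : ℕ) + 1 then f a else 0) + ((t.filter fun x => x.2 = (j : ℕ) + 1).map f).sum := by
      intro j
      by_cases hh : a.2 = (j : ℕ) + 1 <;> simp [hh]
    simp only [hj, Finset.sum_add_distrib, ih fun x hx => h x (Multiset.mem_cons_of_mem hx),
      Multiset.map_cons, Multiset.sum_cons]
    obtain ⟨h1, h2⟩ := h a (Multiset.mem_cons_self _ _)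
    rw [Finset.sum_eq_single (⟨a.2 - 1, by omega⟩ : Fin n)]
    · rw [if_pos (by simp only; omega)]
    · intro j _ hne
      exact if_neg fun e => hne (Fin.ext (by simp only; omega))
    · simp

theorem upper [Fintype F] (n : ℕ) (hn : 1 ≤ n) :
    Nat.card (ConjClasses (GL (Fin n) F)) ≤ Fintype.card F ^ n := by
  classical
  choose rep hrep using ConjClasses.exists_rep (α := GL (Fin n) F)
  choose dat hdat using fun c => exists_data (rep c : Matrix (Fin n) (Fin n) F)
  have hgood := fun c => data_good (rep c) (hdat c)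
  have hbd : ∀ c, ∀ x ∈ dat c, 1 ≤ x.2 ∧ x.2 ≤ n := by
    intro c x hx
    refine ⟨((hgood c).1 x hx).2.2.1, ?_⟩
    have h1 := Multiset.le_sum_of_mem
      (Multiset.mem_map_of_mem (fun x : F[X] × ℕ => x.2 * x.1.natDegree) hx)
    rw [(hgood c).2] at h1
    exact le_trans (Nat.le_mul_of_pos_right _ ((hgood c).1 x hx).1.natDegree_pos) h1
  let tup : ConjClasses (GL (Fin n) F) → S F n n := fun c =>
    ⟨fun j => ⟨(((dat c).filter fun x => x.2 = (j : ℕ) + 1).map Prod.fst).prod, by
      refine ⟨monic_multiset_prod_of_monic _ _ fun x hx =>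
        ((hgood c).1 x (Multiset.mem_filter.1 hx).1).2.1, ?_⟩
      rw [coeff_zero_multiset_prod, Ne, Multiset.prod_eq_zero_iff, Multiset.map_map]
      intro h0
      obtain ⟨x, hx, hx0⟩ := Multiset.mem_map.1 h0
      exact ((hgood c).1 x (Multiset.mem_filter.1 hx).1).2.2.2 hx0⟩, by
      refine Eq.trans (Finset.sum_congr rfl fun j _ => ?_) ((sum_split _ n _ (hbd c)).trans (hgood c).2)
      rw [natDegree_multiset_prod_of_monic, Multiset.map_map, ← Multiset.sum_map_mul_left]
      · refine congrArg Multiset.sum (Multiset.map_congr rfl fun x hx => ?_)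
        simp only [Function.comp, (Multiset.mem_filter.1 hx).2]
      · intro x hx
        obtain ⟨y, hy, rfl⟩ := Multiset.mem_map.1 hx
        exact ((hgood c).1 y (Multiset.mem_filter.1 hy).1).2.1⟩
  haveI := (card_S (F := F) n n).2
  refine le_trans (Nat.card_le_card_of_injective tup ?_) ((card_S n n).1.trans_le (cnt_le _ Fintype.card_pos n hn n).1)
  intro c d hcd
  suffices hs : dat c = dat d by
    rw [← hrep c, ← hrep d, ConjClasses.mk_eq_mk_iff_isConj]
    exact conj_of_data _ _ (hdat c) (hs ▸ hdat d)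
  have hfac : ∀ c (j : Fin n), UniqueFactorizationMonoid.normalizedFactors ((tup c).1 j).1 =
      ((dat c).filter fun x => x.2 = (j : ℕ) + 1).map Prod.fst := by
    intro c j
    show UniqueFactorizationMonoid.normalizedFactors (Multiset.prod _) = _
    rw [UniqueFactorizationMonoid.normalizedFactors_prod_eq]
    · conv_rhs => rw [← Multiset.map_id (((dat c).filter fun x => x.2 = (j : ℕ) + 1).map Prod.fst)]
      refine Multiset.map_congr rfl fun x hx => ?_
      obtain ⟨y, hy, rfl⟩ := Multiset.mem_map.1 hx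
      exact ((hgood c).1 y (Multiset.mem_filter.1 hy).1).2.1.normalize_eq_self
    · intro x hx
      obtain ⟨y, hy, rfl⟩ := Multiset.mem_map.1 hx
      exact ((hgood c).1 y (Multiset.mem_filter.1 hy).1).1
  have hfilt : ∀ c (j : Fin n), (dat c).filter (fun x => x.2 = (j : ℕ) + 1) =
      (UniqueFactorizationMonoid.normalizedFactors ((tup c).1 j).1).map fun p => (p, (j : ℕ) + 1) := by
    intro c j
    rw [hfac, Multiset.map_map]
    conv_lhs => rw [← Multiset.map_id ((dat c).filter fun x => x.2 = (j : ℕ) + 1)]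
    exact Multiset.map_congr rfl fun x hx => Prod.ext rfl (Multiset.mem_filter.1 hx).2
  refine Multiset.ext.2 fun x => ?_
  by_cases hx : 1 ≤ x.2 ∧ x.2 ≤ n
  · have h := congrArg (Multiset.count x) ((hfilt c ⟨x.2 - 1, by omega⟩).trans
      ((congrArg (fun T : S F n n => (UniqueFactorizationMonoid.normalizedFactors (T.1 ⟨x.2 - 1, by omega⟩).1).map fun p => (p, x.2 - 1 + 1)) hcd).trans (hfilt d ⟨x.2 - 1, by omega⟩).symm))
    rwa [Multiset.count_filter_of_pos (p := fun y : F[X] × ℕ => y.2 = x.2 - 1 + 1) (show x.2 = x.2 - 1 + 1 by omega),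
      Multiset.count_filter_of_pos (p := fun y : F[X] × ℕ => y.2 = x.2 - 1 + 1) (show x.2 = x.2 - 1 + 1 by omega)] at h
  · rw [Multiset.count_eq_zero_of_notMem fun h => hx (hbd c x h),
      Multiset.count_eq_zero_of_notMem fun h => hx (hbd d x h)]

/-- The number of conjugacy classes of GL(n,q): for F a finite field with q elements and n ≥ 1, the number k of conjugacy classes of GL(n,F) satisfies q^n − q^(n−1) ≤ k ≤ q^n. -/
theorem result {F : Type*} [Field F] [Fintype F] (n : ℕ) (hn : 1 ≤ n) :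
    Fintype.card F ^ n - Fintype.card F ^ (n - 1) ≤ Nat.card (ConjClasses (Matrix.GeneralLinearGroup (Fin n) F)) ∧ Nat.card (ConjClasses (Matrix.GeneralLinearGroup (Fin n) F)) ≤ Fintype.card F ^ n := by
  refine ⟨?_, upper n hn⟩
  obtain ⟨p, hp⟩ := CharP.exists F
  haveI := hp
  haveI : Fact p.Prime := ⟨CharP.char_is_prime F p⟩
  have h := S2387.result (F := F) rfl p n hn
  have e : Fintype.card F ^ n - Fintype.card F ^ (n - 1) = (Fintype.card F - 1) * Fintype.card F ^ (n - 1) := by
    obtain ⟨m, rfl⟩ : ∃ m, n = m + 1 := ⟨n - 1, by omega⟩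
    rw [Nat.add_sub_cancel, pow_succ, Nat.sub_mul, one_mul, mul_comm]
  rw [e, ← h]
  classical
  exact Nat.card_le_card_of_injective _ Subtype.val_injective

end Cfsg.Agent.S2478
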