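import Cfsg.Statements.S2485
import Cfsg.Agent.Lib.SL2.PGLSylow
-- import your own Cfsg.Agent.* helpers here

set_option autoImplicit false
open scoped Pointwise
open Cfsg

namespace Cfsg.Agent.S2485

/-- Let q = 2^k − 1 ≥ 7 be a prime and let G = PGL(2,q), the general linear group of degree 2 over the field with q elements modulo its centre. Then any two Sylow 2-subgroups of G have a non-trivial intersection: for a Sylow 2-subgroup H and every x ∈ G, H ∩ H^x ≠ 1. -/
theorem result {q k : ℕ} [Fact q.Prime] (hk : q + 1 = 2 ^ k) (hq : 7 ≤ q)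
    (H : Sylow 2 (GL (Fin 2) (ZMod q) ⧸ Subgroup.center (GL (Fin 2) (ZMod q))))
    (x : GL (Fin 2) (ZMod q) ⧸ Subgroup.center (GL (Fin 2) (ZMod q))) :
    (H : Subgroup (GL (Fin 2) (ZMod q) ⧸ Subgroup.center (GL (Fin 2) (ZMod q)))) ⊓ MulAut.conj x • (H : Subgroup _) ≠ ⊥ := by
  classical
  have hk3 : 3 ≤ k := by
    by_contra h
    have : 2 ^ k ≤ 2 ^ 2 := Nat.pow_le_pow_right two_pos (by omega)
    omega
  obtain ⟨j, rfl⟩ : ∃ j, k = j + 3 := ⟨k - 3, by omega⟩
  have h8 : q + 1 = 8 * 2 ^ j := by rw [hk, pow_add]; ring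
  have hns : ¬ IsSquare (-1 : ZMod q) := by
    rw [ZMod.exists_sq_eq_neg_one_iff]
    omega
  let π := QuotientGroup.mk' (Subgroup.center (GL (Fin 2) (ZMod q)))
  have hπ : Function.Surjective π := QuotientGroup.mk'_surjective _
  set w : GL (Fin 2) (ZMod q) := Matrix.GeneralLinearGroup.mkOfDetNeZero !![0, -1; 1, 0]
    (by simp [Matrix.det_fin_two]) with hwdef
  have hw : (w : Matrix (Fin 2) (Fin 2) (ZMod q)) = !![0, -1; 1, 0] := rfl
  set H0 := Subgroup.centralizer ({π w} : Set (GL (Fin 2) (ZMod q) ⧸ Subgroup.center (GL (Fin 2) (ZMod q))))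
    with hH0
  have hq2 : (2 : ZMod q) ≠ 0 := fun h2 => hns ⟨1, by linear_combination -h2⟩
  have hcom : Nat.card (H0.comap π) = (q ^ 2 - 1) * 2 := by
    have hpre := SL2.card_preimage hns hw
    rw [Nat.card_zmod] at hpre
    refine Eq.trans ?_ hpre
    refine Nat.card_congr (Equiv.subtypeEquivRight fun h => ?_)
    rw [Subgroup.mem_comap, hH0, Subgroup.mem_centralizer_singleton_iff]
    constructor
    · intro e
      rw [← map_mul, ← map_mul] at e
      obtain ⟨c, hc⟩ := SL2.exists_smul_of_mk_eq e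
      have hd := congrArg Matrix.det hc
      rw [Units.val_mul, Units.val_mul, Matrix.det_mul, Matrix.det_smul, Matrix.det_mul,
        Fintype.card_fin] at hd
      have hne : (w : Matrix (Fin 2) (Fin 2) (ZMod q)).det * (h : Matrix (Fin 2) (Fin 2) (ZMod q)).det ≠ 0 :=
        mul_ne_zero (w.isUnit.map Matrix.detMonoidHom).ne_zero (h.isUnit.map Matrix.detMonoidHom).ne_zero
      have hc2 : (1 : ZMod q) = c ^ 2 := mul_right_cancel₀ hne (by linear_combination hd)
      rw [Units.val_mul, Units.val_mul] at hc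
      rcases sq_eq_one_iff.1 hc2.symm with rfl | rfl
      · left; rw [one_smul] at hc; exact hc.symm
      · right; rw [neg_one_smul] at hc; rw [hc, neg_neg]
    · intro e
      rw [← map_mul, ← map_mul]
      rcases e with e | e
      · exact SL2.mk_eq_mk_of_smul 1 (by rw [Units.val_mul, Units.val_mul, e, one_smul])
      · exact SL2.mk_eq_mk_of_smul (-1) (by rw [Units.val_mul, Units.val_mul, e, neg_one_smul, neg_neg])
  have hidx : (H0.comap π).index = H0.index := H0.index_comap_of_surjective hπ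
  have hGL : Nat.card (GL (Fin 2) (ZMod q)) = (q ^ 2 - 1) * (q ^ 2 - q) := by
    rw [Matrix.card_GL_field, Fin.prod_univ_two, ZMod.card]
    simp
  have hm := (H0.comap π).card_mul_index
  rw [hidx, hcom, hGL, mul_assoc] at hm
  have h2i : 2 * H0.index = q ^ 2 - q :=
    Nat.eq_of_mul_eq_mul_left (Nat.sub_pos_of_lt (Nat.one_lt_pow two_ne_zero (by omega))) hm
  have hqq : q ^ 2 - q = q * (q - 1) := by rw [Nat.mul_sub_one, pow_two]
  have hi : H0.index = q * (4 * 2 ^ j - 1) := by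
    rw [hqq, show q - 1 = 2 * (4 * 2 ^ j - 1) by omega] at h2i
    refine Nat.eq_of_mul_eq_mul_left two_pos ?_
    rw [h2i]; ring
  have hodd : ¬ 2 ∣ H0.index := by
    rw [hi]
    intro h
    rcases (Nat.Prime.dvd_mul Nat.prime_two).1 h with h | h <;> omega
  have hcen : Nat.card (Subgroup.center (GL (Fin 2) (ZMod q))) = q - 1 := by
    have e : Subgroup.center (GL (Fin 2) (ZMod q)) =
        (Units.map (Matrix.scalar (Fin 2) : ZMod q →+* Matrix (Fin 2) (Fin 2) (ZMod q)).toMonoidHom).range := by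
      ext x
      rw [Matrix.GeneralLinearGroup.mem_center_iff_val_mem_range_scalar]
      constructor
      · rintro ⟨c, hc⟩
        have hc0 : c ≠ 0 := by
          rintro rfl
          rw [map_zero] at hc
          exact x.ne_zero hc.symm
        exact ⟨Units.mk0 c hc0, Units.ext hc⟩
      · rintro ⟨u, rfl⟩
        exact ⟨u, rfl⟩
    rw [e, ← Nat.card_congr (MonoidHom.ofInjective ?_).toEquiv, Nat.card_units, Nat.card_zmod]
    intro u v huv
    have := congrArg (fun g : GL (Fin 2) (ZMod q) => (g : Matrix (Fin 2) (Fin 2) (ZMod q)) 0 0) huv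
    exact Units.ext (by simpa using this)
  have hH : IsPGroup 2 H0 := by
    refine IsPGroup.of_card (n := j + 4) ?_
    have hP := Subgroup.card_eq_card_quotient_mul_card_subgroup (Subgroup.center (GL (Fin 2) (ZMod q)))
    rw [hGL, hcen, ← H0.card_mul_index, hi, hqq,
      show q ^ 2 - 1 = (q + 1) * (q - 1) by rw [← one_pow 2, Nat.sq_sub_sq, one_pow]] at hP
    have e1 : q - 1 = 2 * (4 * 2 ^ j - 1) := by omega
    refine Nat.eq_of_mul_eq_mul_right (m := q * (4 * 2 ^ j - 1) * (q - 1))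
      (Nat.mul_pos (Nat.mul_pos (by omega) (by omega)) (by omega)) ?_
    calc Nat.card H0 * (q * (4 * 2 ^ j - 1) * (q - 1))
        = Nat.card H0 * (q * (4 * 2 ^ j - 1)) * (q - 1) := by ring
      _ = (q + 1) * (q - 1) * (q * (q - 1)) := hP.symm
      _ = (q + 1) * (q * (2 * (4 * 2 ^ j - 1))) * (q - 1) := by rw [← e1]; ring
      _ = 2 ^ (j + 4) * (q * (4 * 2 ^ j - 1) * (q - 1)) := by
        rw [show 2 ^ (j + 4) = (q + 1) * 2 by rw [h8, pow_add]; ring]; ring
  let S0 := hH.toSylow hodd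
  have hS0 : (S0 : Subgroup (GL (Fin 2) (ZMod q) ⧸ Subgroup.center (GL (Fin 2) (ZMod q)))) = H0 := rfl
  obtain ⟨g, hg⟩ := MulAction.exists_smul_eq
    (GL (Fin 2) (ZMod q) ⧸ Subgroup.center (GL (Fin 2) (ZMod q))) S0 H
  obtain ⟨g, rfl⟩ := hπ g
  obtain ⟨y, rfl⟩ := hπ x
  have hconj : ∀ (z : GL (Fin 2) (ZMod q)), (((z * w * z⁻¹ : GL (Fin 2) (ZMod q))) :
      Matrix (Fin 2) (Fin 2) (ZMod q)) 1 1 = -((z * w * z⁻¹ : GL (Fin 2) (ZMod q)) :
      Matrix (Fin 2) (Fin 2) (ZMod q)) 0 0 ∧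
      ((z * w * z⁻¹ : GL (Fin 2) (ZMod q)) : Matrix (Fin 2) (Fin 2) (ZMod q)) *
        ((z * w * z⁻¹ : GL (Fin 2) (ZMod q)) : Matrix (Fin 2) (Fin 2) (ZMod q)) = -1 := by
    intro z
    constructor
    · have h0 : ((z * w * z⁻¹ : GL (Fin 2) (ZMod q)) : Matrix (Fin 2) (Fin 2) (ZMod q)).trace = 0 := by
        rw [Units.val_mul, Units.val_mul, Matrix.trace_units_conj, hw, Matrix.trace_fin_two]; simp
      rw [Matrix.trace_fin_two] at h0
      exact eq_neg_of_add_eq_zero_right h0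
    · have hww : (w : Matrix (Fin 2) (Fin 2) (ZMod q)) * (w : Matrix (Fin 2) (Fin 2) (ZMod q)) = -1 := by
        rw [hw]; ext i k; fin_cases i <;> fin_cases k <;> simp [Matrix.mul_apply, Fin.sum_univ_two]
      rw [← Units.val_mul, show z * w * z⁻¹ * (z * w * z⁻¹) = z * (w * w) * z⁻¹ by group,
        Units.val_mul, Units.val_mul, Units.val_mul, hww, mul_neg, mul_one, neg_mul,
        ← Units.val_mul, mul_inv_cancel, Units.val_one]
  have key : ∀ z : GL (Fin 2) (ZMod q), Subgroup.centralizer ({π (z * w * z⁻¹)} :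
      Set (GL (Fin 2) (ZMod q) ⧸ Subgroup.center (GL (Fin 2) (ZMod q)))) = MulAut.conj (π z) • H0 := by
    intro z
    ext v
    rw [Subgroup.mem_pointwise_smul_iff_inv_smul_mem, hH0, Subgroup.mem_centralizer_singleton_iff,
      Subgroup.mem_centralizer_singleton_iff, MulAut.smul_def, MulAut.conj_inv_apply, map_mul, map_mul, map_inv]
    constructor
    · intro e
      calc (π z)⁻¹ * v * π z * π w = (π z)⁻¹ * (v * (π z * π w * (π z)⁻¹)) * π z := by group
        _ = (π z)⁻¹ * (π z * π w * (π z)⁻¹ * v) * π z := by rw [e]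
        _ = π w * ((π z)⁻¹ * v * π z) := by group
    · intro e
      calc v * (π z * π w * (π z)⁻¹) = π z * ((π z)⁻¹ * v * π z * π w) * (π z)⁻¹ := by group
        _ = π z * (π w * ((π z)⁻¹ * v * π z)) * (π z)⁻¹ := by rw [e]
        _ = π z * π w * (π z)⁻¹ * v := by group
  obtain ⟨z, hz1, hza, hzb⟩ := SL2.exists_inter hns (hconj g).1 (hconj g).2
    (hconj (y * g)).1 (hconj (y * g)).2
  intro hbot
  refine hz1 ?_
  have hHeq : (H : Subgroup (GL (Fin 2) (ZMod q) ⧸ Subgroup.center (GL (Fin 2) (ZMod q)))) =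
      MulAut.conj (π g) • H0 := by rw [← hg, Sylow.coe_subgroup_smul, hS0]
  have hz : z ∈ (H : Subgroup (GL (Fin 2) (ZMod q) ⧸ Subgroup.center (GL (Fin 2) (ZMod q)))) ⊓
      MulAut.conj (π y) • (H : Subgroup _) := by
    refine ⟨?_, ?_⟩
    · rw [hHeq, ← key]; exact hza
    · show z ∈ MulAut.conj (π y) • (H : Subgroup _)
      rw [hHeq, ← mul_smul, ← map_mul, ← map_mul, ← key]; exact hzb
  rw [hbot, Subgroup.mem_bot] at hz
  exact hz

end Cfsg.Agent.S2485
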