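import Cfsg.Statements.S2486
import Cfsg.Agent.Lib.GLUnipotent.Bruhat

set_option autoImplicit false
open scoped Pointwise
open Cfsg

namespace Cfsg.Agent.S2486

open Matrix Cfsg.Agent.GLUnipotent

variable {n : ℕ}

local notation "GL₂" n => GL (Fin n) (ZMod 2)

/-- Upper triangular (= unitriangular) subgroup of `GL_n(2)`. -/
def upper (n : ℕ) : Subgroup (GL₂ n) where
  carrier := {g | g.val.BlockTriangular id}
  one_mem' := blockTriangular_one
  mul_mem' := fun ha hb => ha.mul hb
  inv_mem' := fun ha => inv_blockTriangular ha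

theorem mem_upper {g : GL₂ n} : g ∈ upper n ↔ g.val.BlockTriangular id := Iff.rfl

/-- A transvection as an element of `GL_n(2)`. -/
def trans (i j : Fin n) (hij : i ≠ j) : GL₂ n :=
  ⟨transvection i j 1, transvection i j (-1),
    by rw [transvection_mul_transvection_same i j hij, add_neg_cancel, transvection_zero],
    by rw [transvection_mul_transvection_same i j hij, neg_add_cancel, transvection_zero]⟩

theorem trans_ne_one (i j : Fin n) (hij : i ≠ j) : trans i j hij ≠ 1 := by
  intro h
  have h1 := congrArg (fun g : GL₂ n => g.val i j) h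
  simp [trans, transvection, Matrix.one_apply, hij] at h1

theorem trans_mem_iff (i j : Fin n) (hij : i ≠ j) : trans i j hij ∈ upper n ↔ i < j := by
  constructor
  · intro h
    by_contra hlt
    have h1 := h (show id j < id i from lt_of_le_of_ne (not_lt.mp hlt) hij.symm)
    simp [trans, transvection, Matrix.one_apply, hij] at h1
  · intro h
    exact blockTriangular_transvection (le_of_lt h) 1

theorem perm_trans (w : Equiv.Perm (Fin n)) (a b : Fin n) (hab : a ≠ b) :
    permGL w * trans a b hab * (permGL w)⁻¹ = trans (w a) (w b) (w.injective.ne hab) := by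
  rw [mul_inv_eq_iff_eq_mul]
  ext i j
  simp only [Units.val_mul, trans, transvection]
  rw [Matrix.mul_add, Matrix.add_mul, Matrix.mul_one, Matrix.one_mul, Matrix.add_apply,
    Matrix.add_apply]
  congr 1
  by_cases hj : j = b
  · subst hj
    by_cases hi : i = w a
    · subst hi
      simp [permGL_apply]
    · simp [permGL_apply, hi]
  · by_cases hi : i = w a
    · subst hi
      simp [permGL_apply, hj, Ne.symm hj]
    · simp [permGL_apply, hi, hj]

/-- Equal normaliser: `upper n` is self normalising. -/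
theorem normalizer_upper (g : GL₂ n) (h : ∀ u ∈ upper n, g * u * g⁻¹ ∈ upper n) :
    g ∈ upper n := by
  obtain ⟨w, p, q, hp, hq, rfl⟩ := exists_bruhat g
  have hmono : StrictMono w := by
    intro a b hab
    have hu : q⁻¹ * trans a b hab.ne * q ∈ upper n :=
      mul_mem (mul_mem (inv_mem (mem_upper.mpr hq)) ((trans_mem_iff _ _ _).mpr hab))
        (mem_upper.mpr hq)
    have h1 := h _ hu
    have h2 : p * permGL w * q * (q⁻¹ * trans a b hab.ne * q) * (p * permGL w * q)⁻¹
        = p * (permGL w * trans a b hab.ne * (permGL w)⁻¹) * p⁻¹ := by group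
    rw [h2, perm_trans] at h1
    have h3 := mul_mem (mul_mem (inv_mem (mem_upper.mpr hp)) h1) (mem_upper.mpr hp)
    rw [show p⁻¹ * (p * trans (w a) (w b) (w.injective.ne hab.ne) * p⁻¹) * p
        = trans (w a) (w b) (w.injective.ne hab.ne) by group] at h3
    exact (trans_mem_iff _ _ _).mp h3
  have hid : w = 1 := by
    ext a
    exact congrArg Fin.val (congrFun ((hmono.range_inj strictMono_id).mp
      (by rw [w.surjective.range_eq, Set.range_id])) a)
  subst hid
  rw [map_one, mul_one]
  exact mul_mem (mem_upper.mpr hp) (mem_upper.mpr hq)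

/-- Only the big cell moves `upper n` to a subgroup meeting it trivially. -/
theorem eq_rev_of_disjoint (g : GL₂ n)
    (h : ∀ u ∈ upper n, g * u * g⁻¹ ∈ upper n → u = 1) :
    ∃ p q : GL₂ n, p ∈ upper n ∧ q ∈ upper n ∧ g = p * permGL Fin.revPerm * q := by
  obtain ⟨w, p, q, hp, hq, rfl⟩ := exists_bruhat g
  refine ⟨p, q, hp, hq, ?_⟩
  have hanti : StrictAnti w := by
    intro a b hab
    refine lt_of_le_of_ne (not_lt.mp fun hlt => ?_) (w.injective.ne hab.ne')
    have hu : q⁻¹ * trans a b hab.ne * q ∈ upper n :=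
      mul_mem (mul_mem (inv_mem (mem_upper.mpr hq)) ((trans_mem_iff _ _ _).mpr hab))
        (mem_upper.mpr hq)
    have h2 : p * permGL w * q * (q⁻¹ * trans a b hab.ne * q) * (p * permGL w * q)⁻¹
        = p * (permGL w * trans a b hab.ne * (permGL w)⁻¹) * p⁻¹ := by group
    have h1 := h _ hu (by
      rw [h2, perm_trans]
      exact mul_mem (mul_mem (mem_upper.mpr hp) ((trans_mem_iff _ _ _).mpr hlt))
        (inv_mem (mem_upper.mpr hp)))
    apply trans_ne_one a b hab.ne
    calc trans a b hab.ne = q * (q⁻¹ * trans a b hab.ne * q) * q⁻¹ := by group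
      _ = 1 := by rw [h1]; group
  have hrev : w = Fin.revPerm := by
    ext a
    exact congrArg Fin.val (congrFun ((hanti.range_inj Fin.rev_strictAnti).mp
      (by rw [w.surjective.range_eq, Fin.rev_surjective.range_eq])) a)
  rw [hrev]

theorem upper_isPGroup : IsPGroup 2 (upper n) := by
  intro g
  refine ⟨n, Subtype.ext (Units.ext ?_)⟩
  set u : Matrix (Fin n) (Fin n) (ZMod 2) := g.1.val with hu
  show u ^ 2 ^ n = 1
  have hdiag : ∀ i, u i i = 1 := by
    intro i
    have hdet : u.det ≠ 0 := by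
      have := (Matrix.isUnit_iff_isUnit_det u).mp g.1.isUnit
      exact this.ne_zero
    rw [Matrix.det_of_upperTriangular g.2, Finset.prod_ne_zero_iff] at hdet
    have := hdet i (Finset.mem_univ i)
    exact (by decide : ∀ x : ZMod 2, x ≠ 0 → x = 1) _ this
  have hpow : (u - 1) ^ n = 0 := by
    have hc : u.charpoly = ((1 : Matrix (Fin n) (Fin n) (ZMod 2))).charpoly := by
      rw [Matrix.charpoly_of_upperTriangular u g.2,
        Matrix.charpoly_of_upperTriangular _ blockTriangular_one]
      simp [hdiag, Matrix.one_apply_eq]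
    have h1 := Matrix.aeval_self_charpoly u
    rw [hc, Matrix.charpoly_one] at h1
    simpa using h1
  have hpow2 : (u - 1) ^ 2 ^ n = 0 := pow_eq_zero_of_le Nat.lt_two_pow_self.le hpow
  haveI : Fact (Nat.Prime 2) := ⟨Nat.prime_two⟩
  rcases Nat.eq_zero_or_pos n with rfl | hn
  · exact Subsingleton.elim _ _
  haveI : NeZero n := ⟨hn.ne'⟩
  haveI : CharP (Matrix (Fin n) (Fin n) (ZMod 2)) 2 := inferInstance
  rw [sub_pow_char_pow_of_commute (p := 2) (h := Commute.one_right u), one_pow, sub_eq_zero] at hpow2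
  exact hpow2

theorem exists_equiv {G : Type*} [Group G] [Finite G] (N : Subgroup G) [N.Normal]
    (e : N ≃* Matrix.SpecialLinearGroup (Fin n) (ZMod 2)) (hidx : N.index = 2) (H : Sylow 2 G) :
    (¬ (H : Subgroup G) ≤ N) ∧ ∃ φ : N ≃* GL (Fin n) (ZMod 2),
      ∀ a : N, (a : G) ∈ (H : Subgroup G) ↔ φ a ∈ upper n := by
  have hodd : ¬ 2 ∣ (H : Subgroup G).index := H.not_dvd_index
  have hHN : ¬ (H : Subgroup G) ≤ N := fun hle => hodd (by
    have := Subgroup.index_dvd_of_le hle
    rwa [hidx] at this)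
  refine ⟨hHN, ?_⟩
  have hrel : N.relIndex H = 2 := by
    have h1 : N.relIndex H ∣ 2 :=
      (Subgroup.relIndex_dvd_index_of_normal N H).trans hidx.dvd
    rcases (Nat.dvd_prime Nat.prime_two).mp h1 with h | h
    · exact absurd (Subgroup.relIndex_eq_one.mp h) hHN
    · exact h
  have hind : ((H : Subgroup G).subgroupOf N).index = (H : Subgroup G).index := by
    have h1 := Subgroup.relIndex_mul_index (inf_le_left : (H : Subgroup G) ⊓ N ≤ H)
    have h2 := Subgroup.relIndex_mul_index (inf_le_right : (H : Subgroup G) ⊓ N ≤ N)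
    rw [Subgroup.inf_relIndex_left, hrel] at h1
    rw [Subgroup.inf_relIndex_right, hidx] at h2
    show (H : Subgroup G).relIndex N = _
    omega
  have hU : IsPGroup 2 ((H : Subgroup G).subgroupOf N) :=
    H.2.comap_of_injective _ N.subtype_injective
  have hbij : Function.Bijective
      (Matrix.SpecialLinearGroup.toGL : Matrix.SpecialLinearGroup (Fin n) (ZMod 2) → GL₂ n) := by
    refine ⟨Matrix.SpecialLinearGroup.toGL_injective, fun g => ⟨⟨g.val, ?_⟩, Units.ext rfl⟩⟩
    have h := ((Matrix.isUnit_iff_isUnit_det g.val).mp g.isUnit).ne_zero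
    exact (by decide : ∀ x : ZMod 2, x ≠ 0 → x = 1) _ h
  let f : N ≃* GL₂ n := e.trans (MulEquiv.ofBijective _ hbij)
  have hV : IsPGroup 2 (((H : Subgroup G).subgroupOf N).map f.toMonoidHom) := hU.map _
  have hVi : ¬ 2 ∣ (((H : Subgroup G).subgroupOf N).map f.toMonoidHom).index := by
    rw [Subgroup.index_map_of_bijective (show Function.Bijective f.toMonoidHom from f.bijective),
      hind]
    exact hodd
  obtain ⟨P, hP⟩ := (upper_isPGroup (n := n)).exists_le_sylow
  have hPeq : upper n = P := by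
    by_contra hne
    have hlt : upper n < P := lt_of_le_of_ne hP hne
    haveI : Fact (Nat.Prime 2) := ⟨Nat.prime_two⟩
    haveI : Group.IsNilpotent P := P.2.isNilpotent
    have hnc := (Group.normalizerCondition_of_isNilpotent (G := P)) ((upper n).subgroupOf P)
      (lt_top_iff_ne_top.mpr fun h => hlt.not_ge (Subgroup.subgroupOf_eq_top.mp h))
    obtain ⟨y, hy, hy'⟩ := SetLike.exists_of_lt hnc
    refine hy' (normalizer_upper (y : GL₂ n) fun u hu => ?_)
    exact ((Subgroup.mem_normalizer_iff.mp hy) ⟨u, hP hu⟩).mp hu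
  haveI : Fact (Nat.Prime 2) := ⟨Nat.prime_two⟩
  obtain ⟨c, hc⟩ := MulAction.exists_smul_eq (GL₂ n) (hV.toSylow hVi) P
  refine ⟨f.trans (MulAut.conj c), fun a => ?_⟩
  have hc' : MulAut.conj c • ((H : Subgroup G).subgroupOf N).map f.toMonoidHom = upper n := by
    rw [hPeq]
    exact congrArg (fun Q : Sylow 2 (GL₂ n) => (Q : Subgroup (GL₂ n))) hc
  rw [← hc']
  show (a : G) ∈ (H : Subgroup G) ↔
    MulAut.conj c (f a) ∈ MulAut.conj c • ((H : Subgroup G).subgroupOf N).map f.toMonoidHom
  rw [← MulAut.smul_def, Subgroup.smul_mem_pointwise_smul_iff,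
    show f a = f.toMonoidHom a from rfl,
    Subgroup.mem_map_iff_mem (show Function.Injective f.toMonoidHom from f.injective)]
  exact Iff.rfl

/-- Let n ≥ 4 and let G be a finite group with a normal subgroup N of index 2 isomorphic to SL(n,2) and with trivial centralizer in G (so G is the extension of the simple group L_n(2) by its inverse-transpose automorphism, its full automorphism group). Then any two Sylow 2-subgroups of G have a non-trivial intersection: for a Sylow 2-subgroup H and every x ∈ G, H ∩ H^x ≠ 1. -/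
theorem result {G : Type*} [Group G] [Finite G] {n : ℕ} (hn : 4 ≤ n) (N : Subgroup G) [N.Normal]
    (e : N ≃* Matrix.SpecialLinearGroup (Fin n) (ZMod 2)) (hidx : N.index = 2)
    (hC : Subgroup.centralizer (N : Set G) = ⊥)
    (H : Sylow 2 G) (x : G) :
    (H : Subgroup G) ⊓ MulAut.conj x • (H : Subgroup G) ≠ ⊥ := by
  classical
  obtain ⟨hHN, φ, hφ⟩ := exists_equiv N e hidx H
  -- it suffices to treat `x ∈ N`
  suffices key : ∀ m ∈ N, (H : Subgroup G) ⊓ MulAut.conj m • (H : Subgroup G) ≠ ⊥ by
    by_cases hx : x ∈ N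
    · exact key x hx
    · obtain ⟨t, htH, htN⟩ := SetLike.not_le_iff_exists.mp hHN
      have hm : x * t ∈ N := by
        rw [Subgroup.mul_mem_iff_of_index_two hidx]
        exact ⟨fun h => absurd h hx, fun h => absurd h htN⟩
      have := key (x * t) hm
      rwa [map_mul, mul_smul, Subgroup.conj_smul_eq_self_of_mem htH] at this
  intro m hm hbot
  obtain ⟨t, htH, htN⟩ := SetLike.not_le_iff_exists.mp hHN
  have htriv : ∀ a : G, a ∈ (H : Subgroup G) → m⁻¹ * a * m ∈ (H : Subgroup G) → a = 1 := by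
    intro a ha hb
    rw [← Subgroup.mem_bot, ← hbot, Subgroup.mem_inf]
    refine ⟨ha, ?_⟩
    rw [show a = MulAut.conj m • (m⁻¹ * a * m) by simp [MulAut.smul_def, mul_assoc]]
    exact Subgroup.smul_mem_pointwise_smul _ _ _ hb
  -- `m` and `t m t⁻¹` lie in the big cell
  have hcell : ∀ b : N, (∀ a ∈ N, a ∈ (H : Subgroup G) →
      (b : G) * a * (b : G)⁻¹ ∈ (H : Subgroup G) → a = 1) →
      ∃ p q, p ∈ upper n ∧ q ∈ upper n ∧ φ b = p * permGL Fin.revPerm * q := by
    intro b hb
    refine eq_rev_of_disjoint _ fun u hu hbu => ?_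
    obtain ⟨a, rfl⟩ := φ.surjective u
    rw [← map_mul, ← map_inv, ← map_mul, ← hφ] at hbu
    rw [show a = 1 from Subtype.ext (hb a a.2 ((hφ a).mpr hu) hbu), map_one]
  obtain ⟨p, q, hp, hq, he⟩ := hcell ⟨m, hm⟩ fun a _ ha hma => by
    have := htriv (m * a * m⁻¹) hma (by simpa [mul_assoc] using ha)
    exact conj_eq_one_iff.mp this
  have hm' : t * m * t⁻¹ ∈ N := ‹N.Normal›.conj_mem m hm t
  obtain ⟨p', q', hp', hq', he'⟩ := hcell ⟨_, hm'⟩ fun a _ ha hma => by
    have h1 : m * (t⁻¹ * a * t) * m⁻¹ ∈ (H : Subgroup G) := by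
      have := mul_mem (mul_mem (inv_mem htH) hma) htH
      convert this using 1
      group
    have h2 : t⁻¹ * a * t ∈ (H : Subgroup G) := mul_mem (mul_mem (inv_mem htH) ha) htH
    have := conj_eq_one_iff.mp (htriv _ h1 (by simpa [mul_assoc] using h2))
    calc a = t * (t⁻¹ * a * t) * t⁻¹ := by group
      _ = 1 := by rw [this]; group
  -- hence `t m t⁻¹ = u m v` with `u, v ∈ H ∩ N`
  obtain ⟨u, hu⟩ := φ.surjective (p' * p⁻¹)
  obtain ⟨v, hv⟩ := φ.surjective (q⁻¹ * q')
  have huH : (u : G) ∈ (H : Subgroup G) := (hφ u).mpr (hu ▸ mul_mem hp' (inv_mem hp))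
  have hvH : (v : G) ∈ (H : Subgroup G) := (hφ v).mpr (hv ▸ mul_mem (inv_mem hq) hq')
  have hrel : t * m * t⁻¹ = (u : G) * m * v := by
    have : (⟨_, hm'⟩ : N) = u * ⟨m, hm⟩ * v := φ.injective (by
      rw [map_mul, map_mul, hu, hv, he, he']; group)
    exact congrArg Subtype.val this
  -- so `u⁻¹ t` lies in both Sylow subgroups
  set s : G := (u : G)⁻¹ * t with hs
  have hsH : s ∈ (H : Subgroup G) := mul_mem (inv_mem huH) htH
  have hsm : m⁻¹ * s * m = (v : G) * t := by
    have h1 : t * m = (u : G) * m * v * t := by rw [← hrel]; group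
    rw [hs, show m⁻¹ * ((u : G)⁻¹ * t) * m = m⁻¹ * (u : G)⁻¹ * (t * m) by group, h1]
    group
  have := htriv s hsH (hsm ▸ mul_mem hvH htH)
  apply htN
  have ht : t = (u : G) := by
    rw [hs, inv_mul_eq_one] at this
    exact this.symm
  rw [ht]
  exact u.2

end Cfsg.Agent.S2486
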