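import Cfsg.Statements.S2487
-- import your own Cfsg.Agent.* helpers here

set_option autoImplicit false
open scoped Pointwise
open Cfsg

namespace Cfsg.Agent.S2487

open Matrix

variable {F : Type*} [Field F] [Fintype F] {m : ℕ}

/-- The polar form. -/
def bil (u v : Fin m ⊕ Fin m → F) : F := ∑ i, (u (.inl i) * v (.inr i) + v (.inl i) * u (.inr i))

local notation "qf" => Cfsg.quadFormPlus m F
local notation "GO" => Cfsg.isometryGroup F (Cfsg.quadFormPlus m F)

omit [Fintype F] in
theorem q_add (u v : Fin m ⊕ Fin m → F) : qf (u + v) = qf u + qf v + bil u v := by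
  simp only [Cfsg.quadFormPlus, bil, Pi.add_apply, ← Finset.sum_add_distrib]
  exact Finset.sum_congr rfl fun i _ => by ring

omit [Fintype F] in
theorem q_smul (c : F) (u : Fin m ⊕ Fin m → F) : qf (c • u) = c * c * qf u := by
  simp only [Cfsg.quadFormPlus, Pi.smul_apply, smul_eq_mul, Finset.mul_sum]
  exact Finset.sum_congr rfl fun i _ => by ring

omit [Fintype F] in
theorem bil_comm (u v : Fin m ⊕ Fin m → F) : bil u v = bil v u :=
  Finset.sum_congr rfl fun i _ => by ring

omit [Fintype F] in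
theorem bil_add (u u' v : Fin m ⊕ Fin m → F) : bil (u + u') v = bil u v + bil u' v := by
  simp only [bil, Pi.add_apply, ← Finset.sum_add_distrib]
  exact Finset.sum_congr rfl fun i _ => by ring

omit [Fintype F] in
theorem bil_smul (c : F) (u v : Fin m ⊕ Fin m → F) : bil (c • u) v = c * bil u v := by
  simp only [bil, Pi.smul_apply, smul_eq_mul, Finset.mul_sum]
  exact Finset.sum_congr rfl fun i _ => by ring

omit [Fintype F] in
theorem bil_single (u : Fin m ⊕ Fin m → F) (i : Fin m) :
    bil u (Pi.single (Sum.inl i) 1) = u (Sum.inr i) ∧ bil u (Pi.single (Sum.inr i) 1) = u (Sum.inl i) := by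
  constructor <;>
  · simp only [bil]
    rw [Finset.sum_eq_single i (fun j _ hj => by simp [hj]) (by simp)]
    simp

omit [Fintype F] in
theorem exists_bil_ne (v : Fin m ⊕ Fin m → F) (hv : v ≠ 0) : ∃ u, bil u v ≠ 0 := by
  by_contra h
  push Not at h
  refine hv (funext fun x => ?_)
  rcases x with i | i
  · rw [← (bil_single v i).2, bil_comm]; exact h _
  · rw [← (bil_single v i).1, bil_comm]; exact h _

/-- An involutive linear isometry as a group element. -/
theorem exists_elt (L : (Fin m ⊕ Fin m → F) →ₗ[F] (Fin m ⊕ Fin m → F)) (hq : ∀ u, qf (L u) = qf u)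
    (hL : ∀ u, L (L u) = u) (hne : ∃ u, L u ≠ u) : ∃ t : GO, t ≠ 1 ∧ ∀ u, t.1.1 *ᵥ u = L u := by
  classical
  have h2 : LinearMap.toMatrix' L * LinearMap.toMatrix' L = 1 := by
    rw [← LinearMap.toMatrix'_comp, ← LinearMap.toMatrix'_id]
    congr 1
    exact LinearMap.ext hL
  have hap : ∀ u, LinearMap.toMatrix' L *ᵥ u = L u := fun u => by
    rw [← Matrix.toLin'_apply, Matrix.toLin'_toMatrix']
  refine ⟨⟨⟨LinearMap.toMatrix' L, LinearMap.toMatrix' L, h2, h2⟩, fun u _ => ?_⟩, fun h => ?_, hap⟩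
  · show qf (LinearMap.toMatrix' L *ᵥ u) = qf u
    rw [hap, hq]
  · obtain ⟨u, hu⟩ := hne
    refine hu ?_
    rw [← hap]
    have : LinearMap.toMatrix' L = 1 := congrArg (fun t : GO => t.1.1) h
    rw [this, Matrix.one_mulVec]

theorem eq_zero_or_one (hF : Fintype.card F = 2) (x : F) : x = 0 ∨ x = 1 := by
  classical
  by_contra h
  push Not at h
  have h1 := Finset.card_le_univ ({0, 1, x} : Finset F)
  rw [hF, Finset.card_insert_of_notMem (by simp [h.1.symm]), Finset.card_insert_of_notMem (by simp [h.2.symm]),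
    Finset.card_singleton] at h1
  omega

theorem charP_two (hF : Fintype.card F = 2) : CharP F 2 := by
  have h : (2 : F) = 0 := by
    have := Nat.cast_card_eq_zero F
    rw [hF] at this
    exact_mod_cast this
  exact CharTwo.of_one_ne_zero_of_two_eq_zero one_ne_zero h

/-- A non-trivial isometry fixing the vectors of a family pointwise. -/
theorem exists_fixing (hF : Fintype.card F = 2) {ι : Type} [Fintype ι] (w : ι → Fin m ⊕ Fin m → F)
    (hι : Fintype.card ι + 2 ≤ 2 * m) : ∃ t : GO, t ≠ 1 ∧ ∀ i, t.1.1 *ᵥ w i = w i := by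
  classical
  haveI := charP_two hF
  have htwo : (2 : F) = 0 := CharTwo.two_eq_zero
  let Φ : (Fin m ⊕ Fin m → F) →ₗ[F] ι → F :=
    { toFun := fun v i => bil v (w i)
      map_add' := fun a b => funext fun i => bil_add a b _
      map_smul' := fun c a => funext fun i => bil_smul c a _ }
  set P := LinearMap.ker Φ
  have hP : ∀ v ∈ P, ∀ i, bil (w i) v = 0 := fun v hv i => by
    rw [bil_comm]; exact congrFun (LinearMap.mem_ker.1 hv) i
  have hdim : 2 ≤ Module.finrank F P := by
    have h1 := LinearMap.finrank_range_add_finrank_ker Φ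
    have h2 := Submodule.finrank_le (LinearMap.range Φ)
    rw [Module.finrank_fintype_fun_eq_card] at h1 h2
    rw [Fintype.card_sum, Fintype.card_fin] at h1
    change 2 ≤ Module.finrank F (LinearMap.ker Φ)
    omega
  by_cases hns : ∃ v ∈ P, qf v = 1
  · -- a reflection
    obtain ⟨v, hv, hqv⟩ := hns
    have hvv : bil v v = 0 := by
      simp only [bil]
      exact Finset.sum_eq_zero fun i _ => by linear_combination (v (Sum.inl i) * v (Sum.inr i)) * htwo
    let L : (Fin m ⊕ Fin m → F) →ₗ[F] (Fin m ⊕ Fin m → F) :=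
      { toFun := fun u => u + bil u v • v
        map_add' := fun a b => by simp only [bil_add, add_smul]; abel
        map_smul' := fun c a => by simp only [bil_smul, smul_add, smul_smul, RingHom.id_apply] }
    have hLap : ∀ u, L u = u + bil u v • v := fun u => rfl
    obtain ⟨u₀, hu₀⟩ := exists_bil_ne v (fun h => by
      rw [h] at hqv
      simp [Cfsg.quadFormPlus] at hqv)
    obtain ⟨t, ht, hap⟩ := exists_elt L (fun u => by
        rw [hLap, q_add, q_smul, hqv, bil_comm u (bil u v • v), bil_smul, bil_comm v u]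
        linear_combination (bil u v * bil u v) * htwo)
      (fun u => by
        rw [hLap, hLap, bil_add, bil_smul, hvv, mul_zero, add_zero, add_assoc, ← two_smul F, htwo, zero_smul,
          add_zero])
      ⟨u₀, fun h => hu₀ (by
        rw [hLap, add_eq_left, smul_eq_zero] at h
        exact h.resolve_right fun hv0 => by rw [hv0] at hqv; simp [Cfsg.quadFormPlus] at hqv)⟩
    exact ⟨t, ht, fun i => by rw [hap, hLap, hP v hv i, zero_smul, add_zero]⟩
  · -- a Siegel transformation
    push Not at hns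
    have hq0 : ∀ v ∈ P, qf v = 0 := fun v hv => (eq_zero_or_one hF _).resolve_right (hns v hv)
    let bP := Module.finBasis F P
    set a : Fin m ⊕ Fin m → F := (bP ⟨0, by omega⟩ : Fin m ⊕ Fin m → F)
    set b : Fin m ⊕ Fin m → F := (bP ⟨1, by omega⟩ : Fin m ⊕ Fin m → F)
    have ha : a ∈ P := (bP ⟨0, by omega⟩).2
    have hb : b ∈ P := (bP ⟨1, by omega⟩).2
    have hli : LinearIndependent F ![a, b] := by
      have h := (bP.linearIndependent.map' P.subtype P.ker_subtype).comp ![⟨0, by omega⟩, ⟨1, by omega⟩]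
        (by intro i j; fin_cases i <;> fin_cases j <;> simp)
      rw [show ![a, b] = (⇑P.subtype ∘ ⇑bP) ∘ ![⟨0, by omega⟩, ⟨1, by omega⟩] by funext i; fin_cases i <;> rfl]
      exact h
    have hab : bil a b = 0 := by
      have := q_add (F := F) a b
      rw [hq0 a ha, hq0 b hb, hq0 _ (P.add_mem ha hb), zero_add, zero_add] at this
      exact this.symm
    have hself : ∀ v, qf v = 0 → bil v v = 0 := fun v _ => by
      simp only [bil]
      exact Finset.sum_eq_zero fun i _ => by linear_combination (v (Sum.inl i) * v (Sum.inr i)) * htwo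
    let L : (Fin m ⊕ Fin m → F) →ₗ[F] (Fin m ⊕ Fin m → F) :=
      { toFun := fun u => u + (bil u b • a + bil u a • b)
        map_add' := fun x y => by simp only [bil_add, add_smul]; abel
        map_smul' := fun c x => by simp only [bil_smul, smul_add, smul_smul, RingHom.id_apply] }
    have hLap : ∀ u, L u = u + (bil u b • a + bil u a • b) := fun u => rfl
    obtain ⟨u₀, hu₀⟩ := exists_bil_ne b (by simpa using hli.ne_zero 1)
    have hB : ∀ (u : Fin m ⊕ Fin m → F) (x y : F),
        bil u (x • a + y • b) = x * bil u a + y * bil u b := fun u x y => by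
      rw [bil_comm, bil_add, bil_smul, bil_smul, bil_comm a, bil_comm b]
    obtain ⟨t, ht, hap⟩ := exists_elt L (fun u => by
        rw [hLap, q_add, q_add, q_smul, q_smul, hq0 a ha, hq0 b hb, bil_smul, bil_comm a, bil_smul, bil_comm b a,
          hab, hB]
        linear_combination (bil u a * bil u b) * htwo)
      (fun u => by
        have e1 : bil (L u) b = bil u b := by
          rw [hLap, bil_add, bil_add, bil_smul, bil_smul, hab, hself b (hq0 b hb)]; ring
        have e2 : bil (L u) a = bil u a := by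
          rw [hLap, bil_add, bil_add, bil_smul, bil_smul, hself a (hq0 a ha), bil_comm b a, hab]; ring
        rw [hLap (L u), e1, e2, hLap, add_assoc, ← two_smul F, htwo, zero_smul, add_zero])
      ⟨u₀, fun h => hu₀ (by
        rw [hLap, add_eq_left] at h
        have := LinearIndependent.pair_iff.1 hli _ _ h
        exact this.1)⟩
    exact ⟨t, ht, fun i => by
      rw [hap, hLap, hP a ha i, hP b hb i, zero_smul, zero_smul, add_zero, add_zero]⟩

/-- The pointwise stabiliser of `e_1, …, e_{m-1}`. -/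
def fixGroup : Subgroup GO where
  carrier := {g | ∀ i : Fin (m - 1), g.1.1 *ᵥ Pi.single (Sum.inl ⟨i, by omega⟩) 1 = Pi.single (Sum.inl ⟨i, by omega⟩) 1}
  one_mem' := fun i => Matrix.one_mulVec _
  mul_mem' {a b} ha hb := fun i => by
    show (a.1.1 * b.1.1) *ᵥ _ = _
    rw [← Matrix.mulVec_mulVec, hb, ha]
  inv_mem' {a} ha := fun i => by
    show (a.1⁻¹).1 *ᵥ _ = _
    conv_lhs => rw [← ha i]
    rw [Matrix.mulVec_mulVec, Units.inv_mul, Matrix.one_mulVec]

theorem isPGroup_fixGroup (hF : Fintype.card F = 2) (hm : 1 ≤ m) :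
    IsPGroup 2 (fixGroup (F := F) (m := m)) := by
  classical
  haveI := charP_two hF
  have htwo : (2 : F) = 0 := CharTwo.two_eq_zero
  intro x
  obtain ⟨g, hg⟩ := x
  refine ⟨3, Subtype.ext (Subtype.ext (Units.ext ?_))⟩
  show (g.1.1) ^ 2 ^ 3 = 1
  set A := g.1.1 with hA
  let k : Fin m := ⟨m - 1, by omega⟩
  let e : Fin m → Fin m ⊕ Fin m → F := fun i => Pi.single (Sum.inl i) 1
  let f : Fin m ⊕ Fin m → F := Pi.single (Sum.inr k) 1
  have hfix : ∀ i, i ≠ k → A *ᵥ e i = e i := fun i hi => by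
    have hik : i.val < m - 1 := by
      have := i.2
      have : i.val ≠ m - 1 := fun h => hi (Fin.ext h)
      omega
    exact hg ⟨i, hik⟩
  have hq : ∀ u, qf (A *ᵥ u) = qf u := fun u => g.2 u u
  have hbil : ∀ u v, bil (A *ᵥ u) (A *ᵥ v) = bil u v := fun u v => by
    have h1 := hq (u + v)
    rw [Matrix.mulVec_add, q_add, q_add, hq, hq] at h1
    exact add_left_cancel h1
  -- `U` is the orthogonal of the fixed vectors
  have hU : ∀ u i, i ≠ k → (A *ᵥ u) (Sum.inr i) = u (Sum.inr i) := fun u i hi => by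
    have := hbil u (e i)
    rw [hfix i hi] at this
    rwa [(bil_single _ _).1, (bil_single _ _).1] at this
  have hW : ∀ z : Fin m ⊕ Fin m → F, (∀ i, z (Sum.inr i) = 0) → z (Sum.inl k) = 0 → A *ᵥ z = z := by
    intro z h1 h2
    have hz : z = ∑ i, z (Sum.inl i) • e i := by
      funext x
      rw [Finset.sum_apply]
      rcases x with j | j
      · simp [e, Pi.single_apply]
      · simp [e, Pi.single_apply, h1]
    rw [hz, Matrix.mulVec_sum]
    refine Finset.sum_congr rfl fun i _ => ?_
    rw [Matrix.mulVec_smul]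
    by_cases hi : i = k
    · rw [hi, h2, zero_smul, zero_smul]
    · rw [hfix i hi]
  have hUdec : ∀ u : Fin m ⊕ Fin m → F, (∀ i, i ≠ k → u (Sum.inr i) = 0) →
      A *ᵥ u = u + (u (Sum.inl k) • (A *ᵥ e k - e k) + u (Sum.inr k) • (A *ᵥ f - f)) := by
    intro u hu
    have h := hW (u - u (Sum.inl k) • e k - u (Sum.inr k) • f) (fun i => by
        by_cases hi : i = k
        · subst hi; simp [e, f]
        · simp [e, f, hu i hi, hi])
      (by simp [e, f])
    rw [Matrix.mulVec_sub, Matrix.mulVec_sub, Matrix.mulVec_smul, Matrix.mulVec_smul] at h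
    rw [smul_sub, smul_sub]
    linear_combination (norm := abel) h
  set p := (A *ᵥ e k) (Sum.inl k) with hp
  set r := (A *ᵥ e k) (Sum.inr k) with hr
  set s := (A *ᵥ f) (Sum.inl k) with hs
  set t := (A *ᵥ f) (Sum.inr k) with ht
  have hek : ∀ i, i ≠ k → (A *ᵥ e k) (Sum.inr i) = 0 := fun i hi => by rw [hU _ i hi]; simp [e]
  have hfk : ∀ i, i ≠ k → (A *ᵥ f) (Sum.inr i) = 0 := fun i hi => by rw [hU _ i hi]; simp [f, hi]
  have hpr : p * r = 0 := by
    have h1 := hq (e k)
    rw [Cfsg.quadFormPlus, Cfsg.quadFormPlus, Finset.sum_eq_single k (fun j _ hj => by rw [hek j hj, mul_zero])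
      (by simp), Finset.sum_eq_single k (fun j _ hj => by simp [e, hj]) (by simp)] at h1
    simpa [e, hp, hr] using h1
  have hst : s * t = 0 := by
    have h1 := hq f
    rw [Cfsg.quadFormPlus, Cfsg.quadFormPlus, Finset.sum_eq_single k (fun j _ hj => by rw [hfk j hj, mul_zero])
      (by simp), Finset.sum_eq_single k (fun j _ hj => by simp [f, hj]) (by simp)] at h1
    simpa [f, hs, ht] using h1
  have hpt : p * t + s * r = 1 := by
    have h1 := hbil (e k) f
    rw [bil, bil, Finset.sum_eq_single k (fun j _ hj => by rw [hek j hj, hfk j hj, mul_zero, mul_zero, add_zero])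
      (by simp), Finset.sum_eq_single k (fun j _ hj => by simp [e, f, hj]) (by simp)] at h1
    simpa [e, f, hp, hr, hs, ht] using h1
  -- the square acts trivially on `U` modulo the fixed vectors
  set h := A * A with hh
  have hN2 : ∀ u : Fin m ⊕ Fin m → F, (∀ i, i ≠ k → u (Sum.inr i) = 0) → h *ᵥ (h *ᵥ u - u) = h *ᵥ u - u := by
    intro u hu
    have hAu : ∀ i, i ≠ k → (A *ᵥ u) (Sum.inr i) = 0 := fun i hi => by rw [hU u i hi, hu i hi]
    have hl : ∀ w : Fin m ⊕ Fin m → F, (∀ i, i ≠ k → w (Sum.inr i) = 0) →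
        (A *ᵥ w) (Sum.inl k) = w (Sum.inl k) * p + w (Sum.inr k) * s ∧
        (A *ᵥ w) (Sum.inr k) = w (Sum.inl k) * r + w (Sum.inr k) * t := by
      intro w hw
      rw [hUdec w hw]
      simp [e, f, hp, hr, hs, ht]
      constructor <;> ring
    have hWm : ∀ i, (h *ᵥ u - u) (Sum.inr i) = 0 := by
      intro i
      rw [Pi.sub_apply, hh, ← Matrix.mulVec_mulVec]
      by_cases hi : i = k
      · subst hi
        rw [(hl _ hAu).2, (hl u hu).1, (hl u hu).2]
        rcases eq_zero_or_one hF p with h1 | h1 <;> rcases eq_zero_or_one hF r with h2 | h2 <;>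
          rcases eq_zero_or_one hF s with h3 | h3 <;> rcases eq_zero_or_one hF t with h4 | h4 <;>
          simp [h1, h2, h3, h4, htwo, one_add_one_eq_two] at hpr hst hpt ⊢
      · rw [hU _ i hi, hU _ i hi, sub_self]
    have hWl : (h *ᵥ u - u) (Sum.inl k) = 0 := by
      rw [Pi.sub_apply, hh, ← Matrix.mulVec_mulVec, (hl _ hAu).1, (hl u hu).1, (hl u hu).2]
      rcases eq_zero_or_one hF p with h1 | h1 <;> rcases eq_zero_or_one hF r with h2 | h2 <;>
        rcases eq_zero_or_one hF s with h3 | h3 <;> rcases eq_zero_or_one hF t with h4 | h4 <;>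
        simp [h1, h2, h3, h4, htwo, one_add_one_eq_two] at hpr hst hpt ⊢
    have hz := hW _ hWm hWl
    conv_lhs => rw [hh, ← Matrix.mulVec_mulVec, hz, hz]
  have hN : (h - 1) ^ 3 = 0 := by
    refine Matrix.ext_of_mulVec_single fun x => ?_
    set u : Fin m ⊕ Fin m → F := Pi.single x 1
    rw [Matrix.zero_mulVec, pow_succ, pow_succ, pow_one, ← Matrix.mulVec_mulVec, ← Matrix.mulVec_mulVec]
    have h1 : ∀ i, i ≠ k → ((h - 1) *ᵥ u) (Sum.inr i) = 0 := fun i hi => by
      rw [Matrix.sub_mulVec, Matrix.one_mulVec, Pi.sub_apply, hh, ← Matrix.mulVec_mulVec, hU _ i hi, hU _ i hi,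
        sub_self]
    set v := (h - 1) *ᵥ u
    have h2 := hN2 v h1
    rw [Matrix.sub_mulVec h 1 v, Matrix.one_mulVec, Matrix.sub_mulVec, Matrix.one_mulVec, h2, sub_self]
  haveI : Nonempty (Fin m ⊕ Fin m) := ⟨Sum.inl k⟩
  haveI : Fact (Nat.Prime 2) := ⟨Nat.prime_two⟩
  have hN4 : (h - 1) ^ 2 ^ 2 = 0 := by
    rw [show (2 : ℕ) ^ 2 = 3 + 1 by norm_num, pow_succ, hN, zero_mul]
  rw [sub_pow_char_pow_of_commute (p := 2) (n := 2) (h := Commute.one_right h), one_pow, sub_eq_zero] at hN4
  rw [show (2 : ℕ) ^ 3 = 2 * 2 ^ 2 by norm_num, pow_mul, pow_two, ← hh]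
  exact hN4

/-- Let m ≥ 4 and let G be the full isometry group of the hyperbolic quadratic form x₁y₁ + ⋯ + x_m y_m on the 2m-dimensional space over the field with 2 elements (the orthogonal group O⁺(2m,2), which contains Ω⁺(2m,2) with index 2). Then any two Sylow 2-subgroups of G have a non-trivial intersection: for a Sylow 2-subgroup H and every x ∈ G, H ∩ H^x ≠ 1. -/
theorem result {F : Type*} [Field F] [Fintype F] (hF : Fintype.card F = 2) {m : ℕ} (hm : 4 ≤ m)
    (H : Sylow 2 (Cfsg.isometryGroup F (Cfsg.quadFormPlus m F)))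
    (x : Cfsg.isometryGroup F (Cfsg.quadFormPlus m F)) :
    (H : Subgroup (Cfsg.isometryGroup F (Cfsg.quadFormPlus m F))) ⊓ MulAut.conj x • (H : Subgroup _) ≠ ⊥ := by
  classical
  haveI : Fact (Nat.Prime 2) := ⟨Nat.prime_two⟩
  obtain ⟨P₀, hP₀⟩ := (isPGroup_fixGroup (F := F) (m := m) hF (by omega)).exists_le_sylow
  obtain ⟨y, hy⟩ := MulAction.exists_smul_eq (Cfsg.isometryGroup F (Cfsg.quadFormPlus m F)) P₀ H
  let e : Fin (m - 1) → Fin m ⊕ Fin m → F := fun i => Pi.single (Sum.inl ⟨i, by omega⟩) 1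
  let w : Fin (m - 1) ⊕ Fin (m - 1) → Fin m ⊕ Fin m → F :=
    Sum.elim (fun i => y.1.1 *ᵥ e i) (fun i => (x * y).1.1 *ᵥ e i)
  obtain ⟨t, ht, htw⟩ := exists_fixing hF w (by simp; omega)
  have hmem : ∀ z : Cfsg.isometryGroup F (Cfsg.quadFormPlus m F),
      (∀ i, t.1.1 *ᵥ (z.1.1 *ᵥ e i) = z.1.1 *ᵥ e i) → z⁻¹ * t * z ∈ (P₀ : Subgroup _) := by
    intro z hz
    refine hP₀ fun i => ?_
    show ((z.1⁻¹).1 * t.1.1 * z.1.1) *ᵥ e i = e i
    rw [← Matrix.mulVec_mulVec, ← Matrix.mulVec_mulVec, hz, Matrix.mulVec_mulVec, Units.inv_mul,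
      Matrix.one_mulVec]
  have h1 := hmem y fun i => htw (Sum.inl i)
  have h2 := hmem (x * y) fun i => htw (Sum.inr i)
  intro hbot
  refine ht ((Subgroup.mem_bot).1 (hbot ▸ Subgroup.mem_inf.2 ⟨?_, ?_⟩))
  · rw [← hy, Sylow.coe_subgroup_smul, Subgroup.mem_pointwise_smul_iff_inv_smul_mem, MulAut.smul_def]
    simpa using h1
  · rw [← hy, Sylow.coe_subgroup_smul, smul_smul, ← map_mul, Subgroup.mem_pointwise_smul_iff_inv_smul_mem,
      MulAut.smul_def]
    simpa [mul_assoc] using h2

end Cfsg.Agent.S2487
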