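import Cfsg.Statements.S2488
import Cfsg.Agent.Lib.PermGp.SylowASix
import Mathlib.GroupTheory.Sylow

set_option autoImplicit false
open scoped Pointwise
open Cfsg
open Cfsg.Agent.PermGp

namespace Cfsg.Agent.S2488

/-- Let G be a finite group with a normal subgroup N of index 4 isomorphic to the alternating group of degree 6 and with trivial centralizer in G (so G is the full automorphism group of A₆). Then any two Sylow 2-subgroups of G have a non-trivial intersection: for a Sylow 2-subgroup H and every x ∈ G, H ∩ H^x ≠ 1. -/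
theorem result {G : Type*} [Group G] [Finite G] (N : Subgroup G) [N.Normal]
    (e : N ≃* alternatingGroup (Fin 6)) (hidx : N.index = 4)
    (hC : Subgroup.centralizer (N : Set G) = ⊥)
    (H : Sylow 2 G) (x : G) :
    (H : Subgroup G) ⊓ MulAut.conj x • (H : Subgroup G) ≠ ⊥ := by
  haveI : Fact (Nat.Prime 2) := ⟨Nat.prime_two⟩
  haveI : Finite N := Subtype.finite
  set A := alternatingGroup (Fin 6) with hA
  let c : G →* MulAut A := (MulAut.congr e).toMonoidHom.comp MulAut.conjNormal
  have hcapp : ∀ g a, c g a = e (MulAut.conjNormal g (e.symm a)) := fun g a => rfl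
  have hinner : ∀ (n : N) a, c (n : G) a = e n * a * (e n)⁻¹ := fun n a => by
    rw [hcapp, show MulAut.conjNormal (n : G) (e.symm a) = n * e.symm a * n⁻¹ from Subtype.ext rfl,
      map_mul, map_mul, map_inv, e.apply_symm_apply]
  have hinj : Function.Injective c := (injective_iff_map_eq_one c).mpr fun g hg => by
    refine (Subgroup.mem_bot).mp (hC ▸ Subgroup.mem_centralizer_iff.mpr fun n hn => ?_)
    have h1 := congrArg (fun f : MulAut A => f (e ⟨n, hn⟩)) hg
    simp only [hcapp, MulAut.one_apply, e.symm_apply_apply] at h1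
    have h2 : g * n * g⁻¹ = n := congrArg Subtype.val (e.injective h1)
    calc n * g = g * n * g⁻¹ * g := by rw [h2]
      _ = g * n := by group
  have hN : Nat.card N = 360 := by rw [Nat.card_congr e.toEquiv]; exact SylowASix.card_A
  have hG : Nat.card G = 1440 := by rw [← N.card_mul_index, hN, hidx]
  have hHc : Nat.card (H : Subgroup G) = 32 := by
    rw [H.card_eq_multiplicity, hG]
    have : (1440 : ℕ).factorization 2 = 5 := by
      rw [show 1440 = 2 ^ 5 * 45 by norm_num, Nat.factorization_mul (by norm_num) (by norm_num), Finsupp.add_apply,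
        Nat.Prime.factorization_pow Nat.prime_two, Finsupp.single_eq_same,
        Nat.factorization_eq_zero_of_not_dvd (by norm_num)]
    rw [this]; rfl
  -- the trace on the normal subgroup
  set M := ((H : Subgroup G).subgroupOf N).map e.toMonoidHom with hM
  have hMc : Nat.card M = 8 := by
    rw [hM, Subgroup.card_map_of_injective (f := e.toMonoidHom) e.injective]
    have h1 := Subgroup.relIndex_mul_relIndex ⊥ ((H : Subgroup G) ⊓ N) H bot_le inf_le_left
    rw [Subgroup.relIndex_bot_left, Subgroup.relIndex_bot_left, inf_comm, Subgroup.inf_relIndex_right, hHc,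
      inf_comm, ← Subgroup.subgroupOf_map_subtype, Subgroup.card_map_of_injective N.subtype_injective] at h1
    have h2 : N.relIndex (H : Subgroup G) ∣ 4 := hidx ▸ Subgroup.relIndex_dvd_index_of_normal N H
    have h3 : Nat.card ((H : Subgroup G).subgroupOf N) ∣ 360 := hN ▸ Subgroup.card_subgroup_dvd_card _
    have h4 := Nat.le_of_dvd (by norm_num) h2
    generalize Nat.card ((H : Subgroup G).subgroupOf N) = m at *
    have h5 : m ∣ 32 := ⟨_, h1.symm⟩
    have h6 : m ∣ 8 := (Nat.dvd_gcd h3 h5).trans (by decide)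
    have := Nat.le_of_dvd (by norm_num) h6
    interval_cases m <;> omega
  have hsyl : ∀ (K : Subgroup A), Nat.card K = 8 → ∃ P : Sylow 2 A, (P : Subgroup A) = K := fun K hK =>
    ⟨Sylow.ofCard K (by
      rw [hK, SylowASix.card_A, show 360 = 2 ^ 3 * 45 by norm_num, Nat.factorization_mul (by norm_num) (by norm_num),
        Finsupp.add_apply, Nat.Prime.factorization_pow Nat.prime_two, Finsupp.single_eq_same,
        Nat.factorization_eq_zero_of_not_dvd (by norm_num)]
      rfl), rfl⟩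
  obtain ⟨PA, hPA⟩ := hsyl _ SylowASix.card_PP
  obtain ⟨PM, hPM⟩ := hsyl _ hMc
  obtain ⟨a, ha⟩ := MulAction.exists_smul_eq A PM PA
  set n0 : G := ((e.symm a : N) : G) with hn0
  set H1 : Subgroup G := MulAut.conj n0 • (H : Subgroup G) with hH1
  have hmem1 : ∀ g, g ∈ H1 ↔ n0⁻¹ * g * n0 ∈ (H : Subgroup G) := fun g => by
    rw [hH1, Subgroup.mem_pointwise_smul_iff_inv_smul_mem, MulAut.smul_def, MulAut.conj_inv_apply]
  have hPP : ∀ p : A, p ∈ SylowASix.PP ↔ ((e.symm p : N) : G) ∈ H1 := fun p => by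
    rw [← hPA, ← ha, Sylow.coe_subgroup_smul, hPM, Subgroup.mem_pointwise_smul_iff_inv_smul_mem,
      MulAut.smul_def, MulAut.conj_inv_apply, hM, hmem1]
    rw [Subgroup.mem_map_equiv, Subgroup.mem_subgroupOf, map_mul, map_mul, map_inv]
    rfl
  have hnorm : ∀ g ∈ H1, ∀ p ∈ SylowASix.PP, c g p ∈ SylowASix.PP := fun g hg p hp => by
    rw [hPP] at hp ⊢
    rw [hcapp, e.symm_apply_apply, MulAut.conjNormal_apply]
    exact H1.mul_mem (H1.mul_mem hg hp) (H1.inv_mem hg)
  have hH1c : Nat.card H1 = 32 := by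
    rw [hH1, ← hHc]; exact Subgroup.card_map_of_injective (MulAut.conj n0).injective
  -- the stabiliser of the Sylow subgroup
  have hstab : ∀ g, (∀ p ∈ SylowASix.PP, c g p ∈ SylowASix.PP) → g ∈ H1 := by
    let S : Subgroup G :=
      { carrier := {g | ∀ p ∈ SylowASix.PP, c g p ∈ SylowASix.PP}
        one_mem' := fun p hp => by rw [map_one]; exact hp
        mul_mem' := fun {g h} hg hh p hp => by rw [map_mul]; exact hg _ (hh p hp)
        inv_mem' := fun {g} hg p hp => by
          let f : SylowASix.PP → SylowASix.PP := fun q => ⟨c g q, hg q q.2⟩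
          have hf : Function.Injective f := fun q r h => Subtype.ext ((c g).injective (congrArg Subtype.val h))
          obtain ⟨q, hq⟩ := (Finite.injective_iff_surjective.mp hf) ⟨p, hp⟩
          have hq' : c g q = p := congrArg Subtype.val hq
          rw [map_inv, ← hq', MulAut.inv_apply_self]
          exact q.2 }
    have hHS : H1 ≤ S := fun g hg => hnorm g hg
    have hSN : S ⊓ N ≤ H1 := fun g hg => by
      have h1 := (hPP (e ⟨g, hg.2⟩)).mp (SylowASix.normalizer_le fun p hp => by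
        rw [← hinner]; exact hg.1 p hp)
      rwa [e.symm_apply_apply] at h1
    intro g hg
    suffices hEq : H1 = S by rw [hEq]; exact hg
    refine Subgroup.eq_of_le_of_card_ge hHS ?_
    have h1 := Subgroup.relIndex_mul_relIndex ⊥ (S ⊓ N) S bot_le inf_le_left
    rw [Subgroup.relIndex_bot_left, Subgroup.relIndex_bot_left, inf_comm, Subgroup.inf_relIndex_right, inf_comm] at h1
    have h2 : N.relIndex S ≤ 4 := Nat.le_of_dvd (by norm_num) (hidx ▸ Subgroup.relIndex_dvd_index_of_normal N S)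
    have h3 : Nat.card ↥(S ⊓ N) ≤ Nat.card SylowASix.PP := by
      refine Nat.card_le_card_of_injective (fun g => ⟨e ⟨g.1, g.2.2⟩, (hPP _).mpr (by
        rw [e.symm_apply_apply]; exact hSN g.2)⟩) fun g h he => ?_
      exact Subtype.ext (congrArg Subtype.val (e.injective (congrArg Subtype.val he)) :)
    rw [SylowASix.card_PP] at h3
    rw [hH1c, ← h1]
    exact Nat.mul_le_mul h3 h2
  -- reduce to the conjugate
  suffices key : ∀ y : G, ∃ g, g ≠ 1 ∧ g ∈ H1 ∧ y⁻¹ * g * y ∈ H1 by
    obtain ⟨g, hg1, hg, hgy⟩ := key (n0 * x * n0⁻¹)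
    rw [Subgroup.ne_bot_iff_exists_ne_one]
    refine ⟨⟨n0⁻¹ * g * n0, (hmem1 g).mp hg, ?_⟩, fun h => hg1 ?_⟩
    · show n0⁻¹ * g * n0 ∈ MulAut.conj x • (H : Subgroup G)
      rw [Subgroup.mem_pointwise_smul_iff_inv_smul_mem, MulAut.smul_def, MulAut.conj_inv_apply]
      have := (hmem1 _).mp hgy
      rwa [show n0⁻¹ * ((n0 * x * n0⁻¹)⁻¹ * g * (n0 * x * n0⁻¹)) * n0 = x⁻¹ * (n0⁻¹ * g * n0) * x by group] at this
    · have h' : n0⁻¹ * g * n0 = 1 := congrArg Subtype.val h
      calc g = n0 * (n0⁻¹ * g * n0) * n0⁻¹ := by group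
        _ = 1 := by rw [h', mul_one, mul_inv_cancel]
  intro y
  by_contra! hno
  -- the images of the Sylow subgroup
  have himg : ∀ g : G, ∃ P : Sylow 2 A, (P : Subgroup A) = SylowASix.PP.map (c g).toMonoidHom := fun g =>
    hsyl _ (by rw [Subgroup.card_map_of_injective (f := (c g).toMonoidHom) (c g).injective, SylowASix.card_PP])
  choose Φ hΦ using himg
  have hΦmem : ∀ g (a : A), a ∈ (Φ g : Subgroup A) ↔ c g⁻¹ a ∈ SylowASix.PP := fun g a => by
    rw [hΦ, Subgroup.mem_map_equiv, map_inv]; rfl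
  have hΦeq : ∀ g g', Φ g = Φ g' → g'⁻¹ * g ∈ H1 := fun g g' h => hstab _ fun p hp => by
    have h1 : c g p ∈ (Φ g' : Subgroup A) := by
      rw [← h, hΦmem, map_inv, MulAut.inv_apply_self]; exact hp
    rw [hΦmem] at h1
    rwa [map_mul]
  classical
  haveI := Fintype.ofFinite H1
  haveI := Fintype.ofFinite (Sylow 2 A)
  set I : Finset (Sylow 2 A) := Finset.univ.image (fun h : H1 => Φ (h * y)) with hI
  have hIc : I.card = 32 := by
    rw [hI, Finset.card_image_of_injective, Finset.card_univ, ← Nat.card_eq_fintype_card, hH1c]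
    intro h k he
    have h1 := hΦeq _ _ he
    by_contra hne
    refine hno ((k : G)⁻¹ * h) (fun e1 => hne (Subtype.ext (inv_mul_eq_one.mp e1).symm))
      (H1.mul_mem (H1.inv_mem k.2) h.2) ?_
    rwa [show y⁻¹ * ((k : G)⁻¹ * h) * y = (k * y)⁻¹ * (h * y) by group]
  have hmeet : ∀ g : G, (∃ p ∈ SylowASix.PP, p ≠ 1 ∧ c g⁻¹ p ∈ SylowASix.PP) →
      ∃ n : G, n ≠ 1 ∧ n ∈ H1 ∧ g⁻¹ * n * g ∈ H1 := by
    rintro g ⟨p, hp, hp1, hgp⟩
    refine ⟨(e.symm p : N), ?_, (hPP p).mp hp, ?_⟩
    · intro h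
      exact hp1 (e.symm.injective ((Subtype.ext h : e.symm p = 1).trans (map_one e.symm).symm))
    · have := (hPP _).mp hgp
      rwa [hcapp, e.symm_apply_apply, MulAut.conjNormal_apply, inv_inv] at this
  have hnomeet : ∀ h : H1, ¬ ∃ p ∈ SylowASix.PP, p ≠ 1 ∧ c ((h : G) * y)⁻¹ p ∈ SylowASix.PP := fun h hh => by
    obtain ⟨n, hn1, hn, hny⟩ := hmeet _ hh
    refine hno ((h : G)⁻¹ * n * h) ?_ (H1.mul_mem (H1.mul_mem (H1.inv_mem h.2) hn) h.2) ?_
    · intro h2
      exact hn1 (by rw [show n = (h : G) * ((h : G)⁻¹ * n * h) * (h : G)⁻¹ by group, h2, mul_one, mul_inv_cancel])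
    · rwa [show y⁻¹ * ((h : G)⁻¹ * n * h) * y = ((h : G) * y)⁻¹ * n * (h * y) by group]
  -- the thirteen others
  let lift : Equiv.Perm (Fin 6) → A := fun q => if hq : Equiv.Perm.sign q = 1 then ⟨q, Equiv.Perm.mem_alternatingGroup.mpr hq⟩ else 1
  have hlift : ∀ q ∈ SylowASix.reps, (lift q : Equiv.Perm (Fin 6)) = q := fun q hq => by
    simp only [lift, dif_pos (SylowASix.sign_data.2.2.2.2 q hq)]
  set R : Finset (Sylow 2 A) := (SylowASix.reps.map fun q => Φ (e.symm (lift q) : N)).toFinset with hR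
  have hRmem : ∀ (q : Equiv.Perm (Fin 6)) (a : A), q ∈ SylowASix.reps →
      (a ∈ (Φ (e.symm (lift q) : N) : Subgroup A) ↔ (q⁻¹ * a * q : Equiv.Perm (Fin 6)) ∈ SylowASix.els) := fun q a hq => by
    rw [hΦmem, ← Subgroup.coe_inv, hinner, map_inv, e.apply_symm_apply, inv_inv, SylowASix.mem_PP,
      Subgroup.coe_mul, Subgroup.coe_mul, Subgroup.coe_inv, hlift q hq]
  have hRc : R.card = 13 := by
    rw [hR, List.toFinset_card_of_nodup]
    · rw [List.length_map]; rfl
    rw [List.Nodup, List.pairwise_map]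
    refine SylowASix.reps_data.2.imp_of_mem fun {q r} hq hr hne he => hne fun p hp => ?_
    have hp' : Equiv.Perm.sign (r * p * r⁻¹) = 1 := by
      rw [map_mul, map_mul, SylowASix.sign_els p hp, mul_one, map_inv, mul_inv_cancel]
    have h1 := (hRmem r ⟨_, Equiv.Perm.mem_alternatingGroup.mpr hp'⟩ hr).mpr (by simpa [mul_assoc] using hp)
    rw [← he, hRmem q _ hq] at h1
    simpa [mul_assoc] using h1
  have hdisj : Disjoint I R := Finset.disjoint_left.mpr fun P hPI hPR => by
    obtain ⟨h, -, rfl⟩ := Finset.mem_image.mp hPI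
    obtain ⟨q, hq, he⟩ := List.mem_map.mp (List.mem_toFinset.mp hPR)
    obtain ⟨p, hp, hp1, hpq⟩ := SylowASix.reps_data.1 q hq
    refine hnomeet h ⟨⟨p, Equiv.Perm.mem_alternatingGroup.mpr (SylowASix.sign_els p hp)⟩, hp,
      fun e1 => hp1 (congrArg Subtype.val e1), ?_⟩
    rw [← hΦmem, ← he, hRmem q _ hq]
    exact hpq
  have htotal : Fintype.card (Sylow 2 A) ≤ 45 := by
    rw [← Nat.card_eq_fintype_card]
    refine Nat.le_of_dvd (by norm_num) ((Sylow.card_dvd_index PA).trans ?_)
    have h1 := (PA : Subgroup A).card_mul_index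
    rw [hPA, SylowASix.card_PP, SylowASix.card_A] at h1
    rw [hPA]; exact ⟨1, by omega⟩
  have huniv : I ∪ R = Finset.univ := Finset.eq_univ_of_card _ (le_antisymm (Finset.card_le_univ _) (by
    rw [Finset.card_union_of_disjoint hdisj, hIc, hRc]; exact htotal))
  -- the special pair
  have hz : Φ ((e.symm SylowASix.aZ : N) : G) ∉ R := fun hmem => by
    obtain ⟨q, hq, he⟩ := List.mem_map.mp (List.mem_toFinset.mp hmem)
    obtain ⟨p, hp, hp1, hpq⟩ := SylowASix.reps_data.1 q hq
    have h1 := (hRmem q ⟨p, Equiv.Perm.mem_alternatingGroup.mpr (SylowASix.sign_els p hp)⟩ hq).mpr hpq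
    rw [he, hΦmem, ← Subgroup.coe_inv, hinner, map_inv, e.apply_symm_apply, inv_inv] at h1
    exact hp1 (SylowASix.zz_data p hp h1)
  obtain ⟨h, -, hh⟩ := Finset.mem_image.mp ((Finset.mem_union.mp (huniv ▸ Finset.mem_univ _)).resolve_right hz)
  -- the element inducing a transposition
  obtain ⟨ht1, ht2, htg, htr, htt, htz, htP⟩ := SylowASix.tt_data
  haveI : (alternatingGroup (Fin 6)).Normal := Equiv.Perm.sign.normal_ker
  set τ : MulAut A := MulAut.conjNormal SylowASix.tt with hτ
  have hτv : ∀ a : A, (τ a : Equiv.Perm (Fin 6)) = SylowASix.tt * a * SylowASix.tt := fun a => by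
    rw [hτ, MulAut.conjNormal_apply, inv_eq_of_mul_eq_one_right htt]
  have hτP : ∀ p ∈ SylowASix.PP, τ p ∈ SylowASix.PP := fun p hp => by
    rw [SylowASix.mem_PP, hτv]; exact htP _ hp
  have hrP : SylowASix.aR ∈ SylowASix.PP := by rw [SylowASix.mem_PP]; show SylowASix.rr ∈ SylowASix.els; decide +kernel
  have hsP : SylowASix.aS ∈ SylowASix.PP := by rw [SylowASix.mem_PP]; show SylowASix.ss ∈ SylowASix.els; decide +kernel
  have hg1 : SylowASix.aG ^ 3 = 1 := Subtype.ext SylowASix.gg_rel.1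
  have hg2 : (SylowASix.aS * SylowASix.aG) ^ 3 = 1 := Subtype.ext SylowASix.gg_rel.2.1
  have hg3 : (SylowASix.aR * SylowASix.aR * SylowASix.aG) ^ 2 = 1 := Subtype.ext SylowASix.gg_rel.2.2
  obtain ⟨t, htR, htS, htG⟩ := SylowASix.aut_count (c.comp H1.subtype) (hinj.comp H1.subtype_injective)
    (u := τ SylowASix.aR) (v := τ SylowASix.aS) (w := τ SylowASix.aG)
    (fun g p hp => hnorm g.1 g.2 p hp) hH1c (hτP _ hrP) (hτP _ hsP)
    (by rw [← map_mul]; intro e1; exact SylowASix.pair_rel.1 (congrArg Subtype.val (τ.injective (e1.trans (map_one τ).symm))))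
    (by rw [← map_mul]; rw [show SylowASix.aS * SylowASix.aS = 1 from Subtype.ext SylowASix.pair_rel.2.1, map_one])
    (by rw [← map_mul, ← map_mul]; intro e1; exact SylowASix.pair_rel.2.2 (congrArg Subtype.val (τ.injective e1)))
    (by rw [← map_pow, hg1, map_one]) (by rw [← map_mul, ← map_pow, hg2, map_one])
    (by rw [← map_mul, ← map_mul, ← map_pow, hg3, map_one])
  have hcτ : ∀ a, c (t : G) a = τ a := fun a => DFunLike.congr_fun (MonoidHom.eq_of_eqOn_dense SylowASix.gen_top
    (f := (c (t : G)).toMonoidHom) (g := τ.toMonoidHom) (by rintro _ (rfl | rfl | rfl) <;> assumption)) a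
  have ht_ne : (t : G) ≠ 1 := fun e1 => htr (by
    have := hcτ SylowASix.aR
    rw [e1, map_one] at this
    exact (hτv _).symm.trans (congrArg Subtype.val this.symm))
  set z : G := ((e.symm SylowASix.aZ : N) : G) with hzdef
  have hconj : z⁻¹ * t * z ∈ H1 := hstab _ fun p hp => by
    rw [map_mul, map_mul, MulAut.mul_apply, MulAut.mul_apply, hcτ, hzdef, hinner, e.apply_symm_apply, map_inv,
      ← map_inv, ← Subgroup.coe_inv, hinner, map_inv, e.apply_symm_apply, inv_inv, map_mul, map_mul, map_inv]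
    have hτz : τ SylowASix.aZ = SylowASix.aZ := Subtype.ext (by
      rw [hτv]; show SylowASix.tt * SylowASix.zz * SylowASix.tt = SylowASix.zz
      rw [htz, mul_assoc, htt, mul_one])
    rw [hτz, show SylowASix.aZ⁻¹ * (SylowASix.aZ * τ p * SylowASix.aZ⁻¹) * SylowASix.aZ = τ p by group]
    exact hτP p hp
  have hw := hΦeq _ _ hh
  refine hno ((h : G)⁻¹ * t * h) ?_ (H1.mul_mem (H1.mul_mem (H1.inv_mem h.2) t.2) h.2) ?_
  · intro e1
    exact ht_ne (by rw [show (t : G) = (h : G) * ((h : G)⁻¹ * t * h) * (h : G)⁻¹ by group, e1, mul_one, mul_inv_cancel])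
  · have := H1.mul_mem (H1.mul_mem (H1.inv_mem hw) hconj) hw
    rwa [show (z⁻¹ * ((h : G) * y))⁻¹ * (z⁻¹ * t * z) * (z⁻¹ * ((h : G) * y)) = y⁻¹ * ((h : G)⁻¹ * t * h) * y by group] at this

end Cfsg.Agent.S2488
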