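import Cfsg.Statements.S2495
import Cfsg.Agent.Lib.GLOrders.SingerCore
import Cfsg.Agent.Lib.GLOrders.PrimeGraphRS
import Cfsg.Agent.Lib.GLOrders.HalfTorusArith
import Cfsg.Agent.Lib.Recog.Zsigmondy
-- import your own Cfsg.Agent.* helpers here

set_option autoImplicit false
open Cfsg

namespace Cfsg.Agent.S2495

/-- Let q be an odd prime power, n ≥ 4 even, and L = PSL(n,q). Then L has an element of order q^(n/2) + 1 if and only if the 2-part of n exceeds the 2-part of q − 1. -/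
theorem result {F : Type*} [Field F] [Fintype F] {q : ℕ} (hF : Fintype.card F = q) (hodd : Odd q)
    {n : ℕ} (hn : 4 ≤ n) (heven : Even n) :
    (∃ g : Matrix.ProjectiveSpecialLinearGroup (Fin n) F, orderOf g = q ^ (n / 2) + 1) ↔
      padicValNat 2 (q - 1) < padicValNat 2 n := by
  classical
  obtain ⟨m, hm⟩ := heven
  have hnm : n = 2 * m := by omega
  subst hnm
  have hm0 : 0 < m := by omega
  rw [show 2 * m / 2 = m by omega]
  subst hF
  obtain ⟨p, hchar⟩ := CharP.exists F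
  haveI : Fact p.Prime := ⟨CharP.char_is_prime F p⟩
  set q := Fintype.card F with hq
  have hq2 : 2 ≤ q := Fintype.one_lt_card
  set G := Nat.gcd (2 * m) (q - 1) with hG
  have hGn : G ∣ ∑ i ∈ Finset.range (2 * m), q ^ i :=
    (Cfsg.Agent.GLOrders.geom_dvd_iff (by omega) (Nat.gcd_dvd_right _ _)).2 (Nat.gcd_dvd_left _ _)
  have hG0 : 0 < G := Nat.gcd_pos_of_pos_left _ (by omega)
  set N := (∑ i ∈ Finset.range (2 * m), q ^ i) / G with hN
  constructor
  · rintro ⟨x, hx⟩
    refine (Cfsg.Agent.GLOrders.half_dvd_iff hq2 hm0).1 (hx ▸ orderOf_dvd_of_pow_eq_one (x := x) ?_)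
    obtain ⟨A, rfl⟩ := QuotientGroup.mk_surjective x
    obtain ⟨r, hr, hrd, hrn⟩ := Cfsg.Agent.Recog.Zsig.exists_primitive_prime q (2 * m) (by omega) (by omega)
      (fun h => by rw [h.1] at hodd; exact absurd hodd (by decide)) (fun h => by omega)
    haveI := Fact.mk hr
    have hord : orderOf ((q : ℕ) : ZMod r) = 2 * m := by
      refine (orderOf_eq_iff (by omega)).2 ⟨?_, fun j hj hj0 h => ?_⟩
      · rw [← orderOf_dvd_iff_pow_eq_one]; exact (Cfsg.Agent.GLOrders.orderOf_card_dvd_iff _).2 hrd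
      · exact hrn j hj0 hj ((Cfsg.Agent.GLOrders.orderOf_card_dvd_iff _).1 (orderOf_dvd_of_pow_eq_one h))
    have hrq : ¬ r ∣ q - 1 := fun h => hrn 1 one_pos (by omega) (by rwa [pow_one])
    have hro : r ∣ q ^ m + 1 := by
      have h1 : r ∣ (q ^ m - 1) * (q ^ m + 1) := by
        rw [mul_comm, ← Nat.sq_sub_sq, ← pow_mul, mul_comm m 2, one_pow]
        exact hrd
      exact (hr.dvd_mul.1 h1).resolve_left (hrn m hm0 (by omega))
    have hrF : (r : F) ≠ 0 := by
      refine Cfsg.Agent.GLOrders.natCast_ne_zero_of_ne_char hr p fun h => ?_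
      subst h
      obtain ⟨e, -, hc⟩ := FiniteField.card F r
      have hpq : r ∣ q ^ m := by rw [hq, hc]; exact dvd_pow (dvd_pow_self r e.ne_zero) hm0.ne'
      exact hr.one_lt.ne' (Nat.dvd_one.1 ((Nat.dvd_add_right hpq).1 hro))
    let ι := Matrix.toLinAlgEquiv' (R := F) (n := Fin (2 * m))
    set T : Module.End F (Fin (2 * m) → F) := ι A.1 with hT
    have hdetT : LinearMap.det T = 1 := (LinearMap.det_toLin' A.1).trans A.2
    change orderOf (Cfsg.Agent.GLOrders.PSLmk A) = _ at hx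
    have hiff : ∀ j, Cfsg.Agent.GLOrders.PSLmk A ^ j = 1 ↔ ∃ c : F, T ^ j = c • 1 := by
      intro j
      rw [Cfsg.Agent.GLOrders.mk_pow_eq_one_iff]
      refine exists_congr fun c => ?_
      rw [hT, ← map_pow, ← Algebra.algebraMap_eq_smul_one, ← AlgEquiv.commutes ι c, ι.injective.eq_iff]
      rfl
    obtain ⟨c, hc⟩ := (hiff _).1 (pow_orderOf_eq_one _)
    rw [hx] at hc
    have hc0 : c ≠ 0 := by
      intro h0
      have := congrArg LinearMap.det hc
      rw [map_pow, hdetT, one_pow, h0, zero_smul, LinearMap.det_zero] at this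
      exact one_ne_zero (this.trans (zero_pow (by rw [Module.finrank_fin_fun]; omega)))
    have hTall : T ^ ((q ^ m + 1) * (q - 1)) = 1 := by
      rw [pow_mul, hc, _root_.smul_pow, one_pow, hq, FiniteField.pow_card_sub_one_eq_one c hc0, one_smul]
    obtain ⟨d, hd⟩ := hro
    set C := T ^ (d * (q - 1)) with hC
    have hCr : C ^ r = 1 := by
      rw [hC, ← pow_mul, show d * (q - 1) * r = r * d * (q - 1) by ring, ← hd, hTall]
    have hC1 : C ≠ 1 := fun h => by
      have h1 : Cfsg.Agent.GLOrders.PSLmk A ^ (d * (q - 1)) = 1 := (hiff _).2 ⟨1, by rw [one_smul]; exact h⟩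
      have h2 := orderOf_dvd_of_pow_eq_one h1
      rw [hx, hd, mul_comm r d] at h2
      exact hrq (Nat.dvd_of_mul_dvd_mul_left (Nat.pos_of_ne_zero fun h0 => by rw [h0, mul_zero] at hd; omega) h2)
    obtain ⟨h1, h2⟩ := Cfsg.Agent.GLOrders.singer_core hrF hCr hC1 (by rw [Module.finrank_fin_fun]; exact hord)
      (T := T) (Commute.pow_self T _) (by rw [hdetT]; exact one_ne_zero)
    show Cfsg.Agent.GLOrders.PSLmk A ^ N = 1
    refine (hiff N).2 (h2 N ?_)
    have h3 := h1 1 (by rw [hdetT, one_pow])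
    rw [Module.finrank_fin_fun, mul_one, ← hq] at h3
    obtain ⟨w, hw⟩ : G ∣ q - 1 := Nat.gcd_dvd_right _ _
    rw [← hq, hw, ← mul_assoc, hN, Nat.div_mul_cancel hGn, pow_mul, h3, one_pow]
  · intro h
    obtain ⟨M, x, -, -, -, hx⟩ :=
      Cfsg.Agent.GLOrders.exists_torus_unipotent (F := F) (n := 2 * m) p (d := 2 * m) (by omega) le_rfl
    refine Cfsg.Agent.GLOrders.mem_range_orderOf_of_dvd' (Cfsg.Agent.GLOrders.PSLmk x)
      (((Cfsg.Agent.GLOrders.half_dvd_iff hq2 hm0).2 h).trans (hx rfl N ?_))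
    rw [hN, hG, Nat.div_mul_cancel hGn, hq, Nat.geomSum_eq (by omega)]
    exact Nat.div_mul_cancel (Nat.sub_one_dvd_pow_sub_one _ _)

end Cfsg.Agent.S2495
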