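import Cfsg.Statements.S2496
import Cfsg.Agent.Lib.GLOrders.HalfTorusUnitary
import Cfsg.Agent.Lib.GLOrders.PrimeGraphRS
import Cfsg.Agent.Lib.Recog.Zsigmondy
-- import your own Cfsg.Agent.* helpers here

set_option autoImplicit false
open Cfsg

namespace Cfsg.Agent.S2496

/-- Let q be an odd prime power, n ≥ 4 even, and U = PSU(n,q) (realised over the field with q² elements). Then U has an element of order q^(n/2) + (−1)^(n/2) — that is, q^(n/2) + 1 when n/2 is even and q^(n/2) − 1 when n/2 is odd — if and only if the 2-part of n exceeds the 2-part of q + 1. -/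
theorem result {F : Type*} [Field F] [Fintype F] {q : ℕ} (hF : Fintype.card F = q ^ 2) (hodd : Odd q)
    {n : ℕ} (hn : 4 ≤ n) (heven : Even n) :
    (∃ g : Cfsg.PSU n F q, orderOf g = if Even (n / 2) then q ^ (n / 2) + 1 else q ^ (n / 2) - 1) ↔
      padicValNat 2 (q + 1) < padicValNat 2 n := by
  classical
  obtain ⟨m, hm⟩ := heven
  have hnm : n = 2 * m := by omega
  subst hnm
  have hm2 : 2 ≤ m := by omega
  rw [show 2 * m / 2 = m by omega]
  haveI hQ : Cfsg.Agent.AutPSU.QField F q := Cfsg.Agent.AutPSU.QField.of_card hF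
  have hq2 : 2 ≤ q := hQ.two_le
  obtain ⟨p, hchar⟩ := CharP.exists F
  haveI : Fact p.Prime := ⟨CharP.char_is_prime F p⟩
  obtain ⟨e, -, hc⟩ := FiniteField.card F p
  obtain ⟨a, -, hqa⟩ := (Nat.dvd_prime_pow (Fact.out : p.Prime)).1
    (show q ∣ p ^ (e : ℕ) by rw [← hc, hF]; exact dvd_pow_self q two_ne_zero)
  have ha : 1 ≤ a := Nat.one_le_iff_ne_zero.2 fun h => by rw [h, pow_zero] at hqa; omega
  constructor
  · rintro ⟨x, hx⟩
    refine (Cfsg.Agent.GLOrders.half_dvd_tM_iff hq2 (by omega)).1 (hx ▸ ?_)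
    suffices h : ∃ r, r.Prime ∧ orderOf ((Fintype.card F : ℕ) : ZMod r) = m ∧ (Odd m → ¬ r ∣ q ^ m + 1) ∧
        ¬ r ∣ q + 1 ∧ r ∣ (if Even m then q ^ m + 1 else q ^ m - 1) by
      obtain ⟨r, hr, hk, hnsd, hrq, hro⟩ := h
      haveI := Fact.mk hr
      refine Cfsg.Agent.GLOrders.dvd_tM_of_primitive hm2 ?_ hk hnsd hrq x (hx ▸ hro)
      refine Cfsg.Agent.GLOrders.natCast_ne_zero_of_ne_char hr p fun h => ?_
      subst h
      have hpq : r ∣ q ^ m := dvd_pow (hqa ▸ dvd_pow_self r (by omega)) (by omega)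
      split_ifs at hro with h2
      · exact hr.one_lt.ne' (Nat.dvd_one.1 ((Nat.dvd_add_right hpq).1 hro))
      · have hh := Nat.dvd_sub hpq hro
        rw [Nat.sub_sub_self (Nat.one_le_pow _ _ (by omega))] at hh
        exact hr.one_lt.ne' (Nat.dvd_one.1 hh)
    have hord : ∀ r j, r.Prime → (((q : ℕ) : ZMod r) ^ j = 1 ↔ r ∣ q ^ j - 1) := by
      intro r j _
      rw [← ZMod.natCast_eq_zero_iff, Nat.cast_sub (Nat.one_le_pow _ _ (by omega)), Nat.cast_pow, Nat.cast_one,
        sub_eq_zero]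
    rcases Nat.even_or_odd m with hev | hmodd
    · obtain ⟨r, hr, hrd, hrn⟩ := Cfsg.Agent.Recog.Zsig.exists_primitive_prime q (2 * m) (by omega) (by omega)
        (fun h => by rw [h.1] at hodd; exact absurd hodd (by decide)) (fun h => by omega)
      refine ⟨r, hr, ?_, fun h => absurd hev (Nat.not_even_iff_odd.2 h), fun h => ?_, ?_⟩
      · rw [hF, Nat.cast_pow]
        refine (orderOf_eq_iff (by omega)).2 ⟨?_, fun j hj hj0 h => ?_⟩
        · rw [← pow_mul]; exact (hord r _ hr).2 hrd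
        · rw [← pow_mul] at h; exact hrn (2 * j) (by omega) (by omega) ((hord r _ hr).1 h)
      · exact hrn 2 two_pos (by omega) (h.trans ⟨q - 1, by rw [← Nat.sq_sub_sq, one_pow]⟩)
      · rw [if_pos hev]
        have h1 : r ∣ (q ^ m - 1) * (q ^ m + 1) := by
          rw [mul_comm, ← Nat.sq_sub_sq, ← pow_mul, mul_comm m 2, one_pow]
          exact hrd
        exact (hr.dvd_mul.1 h1).resolve_left (hrn m (by omega) (by omega))
    · have hm3 : 3 ≤ m := by obtain ⟨w, hw⟩ := hmodd; omega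
      obtain ⟨r, hr, hrd, hrn⟩ := Cfsg.Agent.Recog.Zsig.exists_primitive_prime q m (by omega) (by omega)
        (fun h => by rw [h.1] at hodd; exact absurd hodd (by decide)) (fun h => by omega)
      refine ⟨r, hr, ?_, fun _ h => ?_, fun h => ?_, by rwa [if_neg (Nat.not_even_iff_odd.2 hmodd)]⟩
      · rw [hF, Nat.cast_pow]
        refine (orderOf_eq_iff (by omega)).2 ⟨?_, fun j hj hj0 h => ?_⟩
        · rw [← pow_mul, mul_comm, pow_mul, (hord r _ hr).2 hrd, one_pow]
        · rw [← pow_mul] at h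
          have hkq : orderOf ((q : ℕ) : ZMod r) = m :=
            (orderOf_eq_iff (by omega)).2 ⟨(hord r _ hr).2 hrd, fun i hi hi0 h' => hrn i hi0 hi ((hord r _ hr).1 h')⟩
          have h2 := hkq ▸ orderOf_dvd_of_pow_eq_one h
          have := Nat.le_of_dvd hj0 ((Nat.coprime_two_right.2 hmodd).dvd_of_dvd_mul_left h2)
          omega
      · have h1 := Nat.dvd_sub h hrd
        rw [show q ^ m + 1 - (q ^ m - 1) = 2 by have := Nat.one_le_pow m q (by omega); omega] at h1
        have hr2 := (Nat.prime_dvd_prime_iff_eq hr Nat.prime_two).1 h1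
        subst hr2
        refine hrn 1 one_pos (by omega) ?_
        rw [pow_one]
        obtain ⟨w, hw⟩ := hodd
        exact ⟨w, by omega⟩
      · exact hrn 2 two_pos (by omega) (h.trans ⟨q - 1, by rw [← Nat.sq_sub_sq, one_pow]⟩)
  · intro h
    obtain ⟨x, hx⟩ := Cfsg.Agent.FormTorus.exists_torus (F := F) (q := q) p a hqa ha (show 2 ≤ 2 * m by omega)
    exact Cfsg.Agent.GLOrders.mem_range_orderOf_of_dvd' x
      (hx ▸ (Cfsg.Agent.GLOrders.half_dvd_tM_iff hq2 (by omega)).2 h)

end Cfsg.Agent.S2496
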