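import Cfsg.Statements.S2503
import Cfsg.Agent.Lib.SL2.ABA
-- import your own Cfsg.Agent.* helpers here

set_option autoImplicit false
open Cfsg

namespace Cfsg.Agent.S2503

/-- Let F be a finite field with q = 2^t ≥ 4 elements and L = PSL(2,F). Then L has a cyclic subgroup A of order q + 1 and an elementary abelian 2-subgroup B of order q such that L = ABA: every element of L is a product a·b·a' with a, a' ∈ A and b ∈ B. -/
theorem result {F : Type*} [Field F] [Fintype F]
    (h2 : 2 ∣ Fintype.card F) (h4 : 4 ≤ Fintype.card F) :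
    ∃ A B : Subgroup (Matrix.ProjectiveSpecialLinearGroup (Fin 2) F),
      IsCyclic A ∧ Nat.card A = Fintype.card F + 1 ∧ IsMulCommutative B ∧ (∀ b ∈ B, b * b = 1) ∧
        Nat.card B = Fintype.card F ∧
        ∀ g : Matrix.ProjectiveSpecialLinearGroup (Fin 2) F, ∃ a ∈ A, ∃ b ∈ B, ∃ c ∈ A, g = a * b * c := by
  classical
  have : CharP F 2 := by
    have h : ringChar F = 2 := by
      by_contra h
      have := FiniteField.odd_card_of_char_ne_two h
      omega
    exact h ▸ ringChar.charP F
  obtain ⟨g0, h0⟩ := SL2.exists_noEig (F := F)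
  have hn : SL2.NoEig (SL2.comp (SL2.tr g0)) := by
    rw [SL2.noEig_iff, SL2.tr_comp, ← SL2.noEig_iff]; exact h0
  have hinj : Function.Injective (SL2.π (F := F)) := fun a b h => by
    rcases SL2.π_eq_iff.1 h with e | e
    · exact e.symm
    · rw [e, SL2.neg_eq_self]
  have := SL2.isCyclic_cent hn.tr_sq
  let uH : Multiplicative F →* Matrix.ProjectiveSpecialLinearGroup (Fin 2) F :=
    { toFun := fun v => SL2.π (SL2.uu v.toAdd)
      map_one' := by rw [show (1 : Multiplicative F).toAdd = 0 from rfl, SL2.uu_zero, map_one]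
      map_mul' := fun v w => by rw [toAdd_mul, ← SL2.uu_mul, map_mul] }
  have huH : Function.Injective uH := fun v w h => by
    have := congrArg (fun g : Matrix.SpecialLinearGroup (Fin 2) F =>
      (g : Matrix (Fin 2) (Fin 2) F) 0 1) (hinj h)
    simpa [SL2.uu] using this
  refine ⟨(SL2.cent (SL2.comp (SL2.tr g0))).map SL2.π, uH.range, ?_, ?_, ?_, ?_, ?_, fun x => ?_⟩
  · exact isCyclic_of_surjective _ (MonoidHom.subgroupMap_surjective SL2.π _)
  · rw [← Nat.card_congr (Subgroup.equivMapOfInjective _ SL2.π hinj).toEquiv,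
      (SL2.card_cent_noEig hn).1]
  · infer_instance
  · rintro b ⟨v, rfl⟩
    rw [← map_mul, show v * v = 1 from toAdd_eq_zero.1 (CharTwo.add_self_eq_zero (Multiplicative.toAdd v)),
      map_one]
  · rw [← Nat.card_congr (MonoidHom.ofInjective huH).toEquiv]
    exact (Nat.card_congr Multiplicative.toAdd).trans Nat.card_eq_fintype_card
  · obtain ⟨g, rfl⟩ := SL2.π_surjective x
    obtain ⟨a, ha, v, c, hc, e⟩ := SL2.exists_aba hn g
    exact ⟨SL2.π a, ⟨a, ha, rfl⟩, uH (Multiplicative.ofAdd v), ⟨_, rfl⟩, SL2.π c, ⟨c, hc, rfl⟩, by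
      rw [e, map_mul, map_mul]; rfl⟩

end Cfsg.Agent.S2503
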