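import Cfsg.Statements.S2506
import Cfsg.Agent.Lib.PermGp.AbelianPerm.Opt
import Mathlib.Algebra.Group.Subgroup.Pointwise
import Mathlib.Tactic.Group

set_option autoImplicit false
open scoped Pointwise
open Cfsg
open scoped Pointwise

namespace Cfsg.Agent.S2506

/-- In the alternating group of any degree, any two abelian subgroups of the largest possible order (among abelian subgroups) are conjugate. -/
theorem result (n : ℕ)
    (A B : Subgroup (alternatingGroup (Fin n))) (hA : IsMulCommutative A) (hB : IsMulCommutative B)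
    (hAmax : ∀ C : Subgroup (alternatingGroup (Fin n)), IsMulCommutative C → Nat.card C ≤ Nat.card A)
    (hBmax : ∀ C : Subgroup (alternatingGroup (Fin n)), IsMulCommutative C → Nat.card C ≤ Nat.card B) :
    ∃ g : alternatingGroup (Fin n), B = MulAut.conj g • A := by
  classical
  have hAo : PermGp.AbelianPerm.IsOpt Finset.univ (A.map (alternatingGroup (Fin n)).subtype) ∧
      PermGp.AbelianPerm.IsOpt Finset.univ (B.map (alternatingGroup (Fin n)).subtype) := by
    obtain ⟨⟨C, hC, hc⟩, hub⟩ := PermGp.AbelianPerm.isGreatest_alternating n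
    refine ⟨⟨PermGp.AbelianPerm.isEvAb_map hA, ?_⟩, ⟨PermGp.AbelianPerm.isEvAb_map hB, ?_⟩⟩
    · rw [Subgroup.card_map_of_injective Subtype.val_injective, Finset.card_univ, Fintype.card_fin]
      exact le_antisymm (hub ⟨A, hA, rfl⟩) (hc ▸ hAmax C hC)
    · rw [Subgroup.card_map_of_injective Subtype.val_injective, Finset.card_univ, Fintype.card_fin]
      exact le_antisymm (hub ⟨B, hB, rfl⟩) (hc ▸ hBmax C hC)
  obtain ⟨hAo, hBo⟩ := hAo
  obtain ⟨σ, hσ, hσA⟩ : ∃ σ : Equiv.Perm (Fin n), Equiv.Perm.sign σ = 1 ∧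
      ∀ g ∈ A.map (alternatingGroup (Fin n)).subtype, σ * g * σ⁻¹ ∈ B.map (alternatingGroup (Fin n)).subtype := by
    obtain ⟨σ, -, hσ⟩ := PermGp.AbelianPerm.IsOpt.exists_conj n Finset.univ Finset.univ _ _ (Finset.card_fin n)
      (Finset.card_fin n) hAo hBo
    rcases Nat.lt_or_ge n 3 with hn | hn
    · refine ⟨1, map_one _, fun g hg => ?_⟩
      have h1 : Nat.card (A.map (alternatingGroup (Fin n)).subtype) = 1 := by
        rw [hAo.card_eq, Finset.card_fin]; interval_cases n <;> rfl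
      rw [Subgroup.eq_bot_of_card_eq _ h1, Subgroup.mem_bot] at hg
      rw [hg, mul_one, mul_inv_cancel]
      exact one_mem _
    rcases Int.units_eq_one_or (Equiv.Perm.sign σ) with h | h
    · exact ⟨σ, h, hσ⟩
    · obtain ⟨τ, hτ, hτA⟩ := hAo.exists_odd_normalizing (by rw [Finset.card_fin]; exact hn)
      refine ⟨σ * τ, by rw [map_mul, h, hτ]; rfl, fun g hg => ?_⟩
      rw [show σ * τ * g * (σ * τ)⁻¹ = σ * (τ * g * τ⁻¹) * σ⁻¹ by group]
      exact hσ _ (hτA g hg)
  refine ⟨⟨σ, hσ⟩, (Subgroup.eq_of_le_of_card_ge ?_ ?_).symm⟩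
  · intro b hb
    rw [Subgroup.mem_pointwise_smul_iff_inv_smul_mem, ← map_inv, MulAut.smul_def] at hb
    obtain ⟨b', hb', e⟩ := hσA _ ⟨_, hb, rfl⟩
    have : b' = b := Subtype.ext (e.trans (by simp [mul_assoc]))
    exact this ▸ hb'
  · rw [Nat.card_congr (Subgroup.equivSMul (MulAut.conj (⟨σ, hσ⟩ : alternatingGroup (Fin n))) A).toEquiv.symm]
    exact hAmax B hB

end Cfsg.Agent.S2506
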