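import Cfsg.Statements.S2507
import Cfsg.Agent.Lib.SL2.Psl
-- import your own Cfsg.Agent.* helpers here

set_option autoImplicit false
open Cfsg

namespace Cfsg.Agent.S2507

/-- Let F be a finite field with q = 2^f ≥ 4 elements. The conjugacy class sizes of PSL(2,F) are exactly 1, q(q − 1), q² − 1 and q(q + 1). -/
theorem result {F : Type*} [Field F] [Fintype F]
    (h2 : 2 ∣ Fintype.card F) (h4 : 4 ≤ Fintype.card F) :
    Set.range (fun g : (Matrix.ProjectiveSpecialLinearGroup (Fin 2) F) => (Subgroup.centralizer ({g} : Set (Matrix.ProjectiveSpecialLinearGroup (Fin 2) F))).index) =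
      {1, Fintype.card F * (Fintype.card F - 1), Fintype.card F ^ 2 - 1, Fintype.card F * (Fintype.card F + 1)} := by
  classical
  have hchar : ringChar F = 2 := by
    by_contra h
    have := FiniteField.odd_card_of_char_ne_two h
    omega
  have : CharP F 2 := hchar ▸ ringChar.charP F
  have h2' : (2 : F) = 0 := CharTwo.two_eq_zero
  have key : ∀ g : Matrix.SpecialLinearGroup (Fin 2) F,
      (Subgroup.centralizer ({SL2.π g} : Set (Matrix.ProjectiveSpecialLinearGroup (Fin 2) F))).index =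
        (SL2.cent g).index :=
    fun g => SL2.index_psl_of_not_conj fun P _ => SL2.neg_eq_self g
  have hsq : Nat.card {s : F // s ^ 2 = 1} = 1 := by
    rw [Nat.card_eq_one_iff_unique]
    refine ⟨⟨fun a b => ?_⟩, ⟨⟨1, one_pow 2⟩⟩⟩
    have k : ∀ a : {s : F // s ^ 2 = 1}, a.1 = 1 := fun a => by
      rcases sq_eq_one_iff.1 a.2 with h | h
      · exact h
      · rw [h, CharTwo.neg_eq]
    exact Subtype.ext ((k a).trans (k b).symm)
  apply Set.Subset.antisymm
  · rintro _ ⟨x, rfl⟩
    obtain ⟨g, rfl⟩ := SL2.π_surjective x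
    show _ ∈ _
    dsimp only
    rw [key]
    by_cases hs : SL2.Scal g
    · left
      refine Subgroup.index_eq_one.2 (eq_top_iff.2 fun z _ => SL2.mem_cent.2 ?_)
      exact (Subgroup.mem_center_iff.1 ((SL2.scal_iff_mem_center g).1 hs) z).symm
    by_cases ht : SL2.tr g ^ 2 = 4
    · right; right; left
      have hm := (SL2.cent g).card_mul_index
      rw [SL2.card_cent_unip hs ht, hsq, one_mul, SL2.card_G] at hm
      rw [Nat.eq_of_mul_eq_mul_left (by omega) hm, ← one_pow 2, Nat.sq_sub_sq, one_pow, mul_comm]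
    · rcases SL2.card_cent_regular ht with ⟨-, -, h⟩ | ⟨-, -, h⟩ <;> rw [h] <;> simp
  · rintro n (rfl | rfl | rfl | rfl)
    · refine ⟨1, Subgroup.index_eq_one.2 (eq_top_iff.2 fun z _ => ?_)⟩
      simp [Subgroup.mem_centralizer_iff]
    · obtain ⟨g, hg⟩ := SL2.exists_noEig (F := F)
      exact ⟨SL2.π g, (key g).trans (SL2.card_cent_noEig hg).2⟩
    · refine ⟨SL2.π (SL2.uu 1), (key _).trans ?_⟩
      have hs : ¬ SL2.Scal (SL2.uu (1 : F)) := SL2.not_scal_uu one_ne_zero
      have ht : SL2.tr (SL2.uu (1 : F)) ^ 2 = 4 := by rw [SL2.tr_uu]; ring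
      have hm := (SL2.cent (SL2.uu (1 : F))).card_mul_index
      rw [SL2.card_cent_unip hs ht, hsq, one_mul, SL2.card_G] at hm
      rw [Nat.eq_of_mul_eq_mul_left (by omega) hm, ← one_pow 2, Nat.sq_sub_sq, one_pow, mul_comm]
    · obtain ⟨ω, hω⟩ := IsCyclic.exists_generator (α := Fˣ)
      have hord : orderOf ω = Fintype.card F - 1 := by
        rw [orderOf_eq_card_of_forall_mem_zpowers hω, Nat.card_units, Nat.card_eq_fintype_card]
      have hw2 : (ω : F) ^ 2 ≠ 1 := fun h => by
        have := Nat.le_of_dvd two_pos (orderOf_dvd_of_pow_eq_one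
          (show ω ^ 2 = 1 from Units.ext (by rw [Units.val_pow_eq_pow_val, h, Units.val_one])))
        omega
      exact ⟨SL2.π (SL2.dd ω), (key _).trans (SL2.card_cent_split (SL2.tr_sq_dd hw2) (a := (ω : F))
        (by rw [SL2.tr_dd, add_sub_cancel_left, mul_inv_cancel₀ ω.ne_zero])).2⟩

end Cfsg.Agent.S2507
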