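import Cfsg.Statements.S2508
import Cfsg.Agent.Lib.SL2.Psl
import Cfsg.Agent.Lib.SL2.Summation
-- import your own Cfsg.Agent.* helpers here

set_option autoImplicit false
open Cfsg

namespace Cfsg.Agent.S2508

/-- Let F be a finite field with q elements, q odd and q ≥ 7. If q ≡ 1 (mod 4) the conjugacy class sizes of PSL(2,F) are exactly 1, (q² − 1)/2, q(q + 1)/2, q(q − 1) and q(q + 1); if q ≡ 3 (mod 4) they are exactly 1, (q² − 1)/2, q(q − 1)/2, q(q + 1) and q(q − 1). -/
theorem result {F : Type*} [Field F] [Fintype F]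
    (hodd : ¬ 2 ∣ Fintype.card F) (h7 : 7 ≤ Fintype.card F) :
    (Fintype.card F % 4 = 1 →
      Set.range (fun g : (Matrix.ProjectiveSpecialLinearGroup (Fin 2) F) => (Subgroup.centralizer ({g} : Set (Matrix.ProjectiveSpecialLinearGroup (Fin 2) F))).index) =
        {1, (Fintype.card F ^ 2 - 1) / 2, Fintype.card F * (Fintype.card F + 1) / 2,
          Fintype.card F * (Fintype.card F - 1), Fintype.card F * (Fintype.card F + 1)}) ∧
    (Fintype.card F % 4 = 3 →
      Set.range (fun g : (Matrix.ProjectiveSpecialLinearGroup (Fin 2) F) => (Subgroup.centralizer ({g} : Set (Matrix.ProjectiveSpecialLinearGroup (Fin 2) F))).index) =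
        {1, (Fintype.card F ^ 2 - 1) / 2, Fintype.card F * (Fintype.card F - 1) / 2,
          Fintype.card F * (Fintype.card F + 1), Fintype.card F * (Fintype.card F - 1)}) := by
  classical
  have hodd' : Odd (Fintype.card F) := Nat.odd_iff.2 (by omega)
  have h2 := SL2.two_ne_zero' hodd'
  set q := Fintype.card F with hqd
  have hchar : ringChar F ≠ 2 := fun h => by
    have := FiniteField.even_card_of_char_two h
    omega
  have hm1 : IsSquare (-1 : F) ↔ q % 4 = 1 := by
    rw [FiniteField.isSquare_neg_one_iff]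
    have := Nat.odd_iff.1 hodd'
    omega
  have hroot : (∃ a : F, a * (0 - a) = 1) ↔ q % 4 = 1 := by
    rw [← hm1]
    exact ⟨fun ⟨a, ha⟩ => ⟨a, by linear_combination ha⟩, fun ⟨a, ha⟩ => ⟨a, by linear_combination ha⟩⟩
  have e0 : ∀ g : Matrix.SpecialLinearGroup (Fin 2) F, ¬ SL2.Scal g → SL2.tr g ≠ 0 →
      (Subgroup.centralizer ({SL2.π g} : Set (Matrix.ProjectiveSpecialLinearGroup (Fin 2) F))).index =
        (SL2.cent g).index := by
    refine fun g _ ht => SL2.index_psl_of_not_conj fun P hP => absurd ?_ ht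
    have := SL2.tr_conj g P
    rw [hP, SL2.tr_neg] at this
    exact (mul_eq_zero.1 (show (2 : F) * SL2.tr g = 0 by linear_combination -this)).resolve_left h2
  have e1 : ∀ g : Matrix.SpecialLinearGroup (Fin 2) F, SL2.tr g = 0 →
      2 * (Subgroup.centralizer ({SL2.π g} : Set (Matrix.ProjectiveSpecialLinearGroup (Fin 2) F))).index =
        (SL2.cent g).index := by
    intro g ht
    have h4 : SL2.tr g ^ 2 ≠ 4 := by
      rw [ht]; intro h
      exact mul_ne_zero h2 h2 (by linear_combination -h)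
    obtain ⟨P, hP⟩ := SL2.exists_invert h4
    refine SL2.index_psl_of_conj (P₀ := P) (hP.trans (Subtype.ext ?_)) (SL2.neg_ne_self h2 g)
    rw [SL2.coe_inv', ht]; simp
  have hunip : ∀ g : Matrix.SpecialLinearGroup (Fin 2) F, ¬ SL2.Scal g → SL2.tr g ^ 2 = 4 →
      (Subgroup.centralizer ({SL2.π g} : Set (Matrix.ProjectiveSpecialLinearGroup (Fin 2) F))).index =
        (q ^ 2 - 1) / 2 := by
    intro g hs ht
    have ht0 : SL2.tr g ≠ 0 := fun h => mul_ne_zero h2 h2 (by rw [h] at ht; linear_combination -ht)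
    have hm := (SL2.cent g).card_mul_index
    rw [SL2.card_cent_unip hs ht, SL2.card_sq_one hodd', SL2.card_G, mul_comm 2 q, mul_assoc] at hm
    rw [e0 g hs ht0, ← one_pow 2, Nat.sq_sub_sq, mul_comm (q + 1),
      ← Nat.eq_of_mul_eq_mul_left (by omega) hm]
    omega
  obtain ⟨g0, hg0⟩ := SL2.exists_noEig (F := F)
  obtain ⟨hc0, -⟩ := SL2.card_cent_noEig hg0
  have := SL2.isCyclic_cent hg0.tr_sq
  obtain ⟨c, hc⟩ := IsCyclic.exists_ofOrder_eq_natCard (α := SL2.cent g0)
  rw [hc0] at hc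
  have hne : ∀ m : ℕ, 0 < m → m ≤ 4 → (c : Matrix.SpecialLinearGroup (Fin 2) F) ^ m ≠ 1 :=
    fun m h0 h5 hh => by
      have h := Nat.le_of_dvd h0 (orderOf_dvd_of_pow_eq_one hh)
      rw [Subgroup.orderOf_coe, hc] at h
      omega
  have hcs : ¬ SL2.Scal (c : Matrix.SpecialLinearGroup (Fin 2) F) := fun h => by
    rcases (SL2.scal_iff _).1 h with h | h
    · exact hne 1 one_pos (by omega) (by rw [pow_one, h])
    · exact hne 2 two_pos (by omega) (by rw [h, pow_two]; simp)
  have hcn := SL2.noEig_of_mem_cent hg0 c.2 hcs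
  have hct0 : SL2.tr (c : Matrix.SpecialLinearGroup (Fin 2) F) ≠ 0 := fun h0 => by
    have h2c : (c : Matrix.SpecialLinearGroup (Fin 2) F) ^ 2 = -1 := Subtype.ext (by
      rw [pow_two, Matrix.SpecialLinearGroup.coe_mul, SL2.mul_self, h0]; simp)
    exact hne 4 (by omega) le_rfl (by rw [show 4 = 2 * 2 from rfl, pow_mul, h2c, pow_two]; simp)
  have hE : q * (q - 1) ∈ Set.range fun g : Matrix.ProjectiveSpecialLinearGroup (Fin 2) F =>
      (Subgroup.centralizer ({g} : Set (Matrix.ProjectiveSpecialLinearGroup (Fin 2) F))).index :=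
    ⟨_, (e0 _ hcs hct0).trans (SL2.card_cent_noEig hcn).2⟩
  obtain ⟨ω, hω⟩ := IsCyclic.exists_generator (α := Fˣ)
  have hord : orderOf ω = q - 1 := by
    rw [orderOf_eq_card_of_forall_mem_zpowers hω, Nat.card_units, Nat.card_eq_fintype_card]
  have hw4 : (ω : F) ^ 4 ≠ 1 := fun h => by
    have := Nat.le_of_dvd (by omega) (orderOf_dvd_of_pow_eq_one
      (show ω ^ 4 = 1 from Units.ext (by rw [Units.val_pow_eq_pow_val, h, Units.val_one])))
    omega
  have hw2 : (ω : F) ^ 2 ≠ 1 := fun h => hw4 (by rw [show 4 = 2 * 2 from rfl, pow_mul, h, one_pow])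
  have hwr : (ω : F) * (SL2.tr (SL2.dd ω) - (ω : F)) = 1 := by
    rw [SL2.tr_dd, add_sub_cancel_left, mul_inv_cancel₀ ω.ne_zero]
  have hwt : SL2.tr (SL2.dd ω) ≠ 0 := fun h => hw4 (by
    rw [h] at hwr
    linear_combination ((ω : F) ^ 2 - 1) * (-hwr))
  have hS : q * (q + 1) ∈ Set.range fun g : Matrix.ProjectiveSpecialLinearGroup (Fin 2) F =>
      (Subgroup.centralizer ({g} : Set (Matrix.ProjectiveSpecialLinearGroup (Fin 2) F))).index :=
    ⟨_, (e0 _ (SL2.scal_of_tr_sq_ne (SL2.tr_sq_dd hw2)) hwt).trans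
      (SL2.card_cent_split (SL2.tr_sq_dd hw2) hwr).2⟩
  have hU : (q ^ 2 - 1) / 2 ∈ Set.range fun g : Matrix.ProjectiveSpecialLinearGroup (Fin 2) F =>
      (Subgroup.centralizer ({g} : Set (Matrix.ProjectiveSpecialLinearGroup (Fin 2) F))).index :=
    ⟨_, hunip _ (SL2.not_scal_uu one_ne_zero) (by rw [SL2.tr_uu]; ring)⟩
  have h1 : (1 : ℕ) ∈ Set.range fun g : Matrix.ProjectiveSpecialLinearGroup (Fin 2) F =>
      (Subgroup.centralizer ({g} : Set (Matrix.ProjectiveSpecialLinearGroup (Fin 2) F))).index :=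
    ⟨1, Subgroup.index_eq_one.2 (eq_top_iff.2 fun z _ => by simp [Subgroup.mem_centralizer_iff])⟩
  have hall : ∀ g : Matrix.SpecialLinearGroup (Fin 2) F,
      (Subgroup.centralizer ({SL2.π g} : Set (Matrix.ProjectiveSpecialLinearGroup (Fin 2) F))).index = 1 ∨
      (Subgroup.centralizer ({SL2.π g} : Set (Matrix.ProjectiveSpecialLinearGroup (Fin 2) F))).index =
        (q ^ 2 - 1) / 2 ∨
      (Subgroup.centralizer ({SL2.π g} : Set (Matrix.ProjectiveSpecialLinearGroup (Fin 2) F))).index =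
        q * (q - 1) ∨
      (Subgroup.centralizer ({SL2.π g} : Set (Matrix.ProjectiveSpecialLinearGroup (Fin 2) F))).index =
        q * (q + 1) ∨
      (SL2.tr g = 0 ∧ 2 * (Subgroup.centralizer
        ({SL2.π g} : Set (Matrix.ProjectiveSpecialLinearGroup (Fin 2) F))).index =
        if q % 4 = 1 then q * (q + 1) else q * (q - 1)) := by
    intro g
    by_cases hs : SL2.Scal g
    · left
      rw [SL2.π_eq_one.2 hs]
      exact Subgroup.index_eq_one.2 (eq_top_iff.2 fun z _ => by simp [Subgroup.mem_centralizer_iff])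
    by_cases ht : SL2.tr g ^ 2 = 4
    · exact Or.inr (Or.inl (hunip g hs ht))
    by_cases h0 : SL2.tr g = 0
    · refine Or.inr (Or.inr (Or.inr (Or.inr ⟨h0, ?_⟩)))
      rw [e1 g h0]
      rcases SL2.card_cent_regular ht with ⟨hno, -, h⟩ | ⟨hex, -, h⟩
      · rw [if_neg, h]
        intro h4
        obtain ⟨a, ha⟩ := hroot.2 h4
        exact hno a (by rw [h0]; exact ha)
      · rw [if_pos, h]
        obtain ⟨a, ha⟩ := hex
        exact hroot.1 ⟨a, by rw [h0] at ha; exact ha⟩
    · rcases SL2.card_cent_regular ht with ⟨-, -, h⟩ | ⟨-, -, h⟩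
      · exact Or.inr (Or.inr (Or.inl ((e0 g hs h0).trans h)))
      · exact Or.inr (Or.inr (Or.inr (Or.inl ((e0 g hs h0).trans h))))
  have hq4 : q % 4 = 1 ∨ q % 4 = 3 := by omega
  have h00 : SL2.tr (SL2.comp (0 : F)) = 0 := SL2.tr_comp 0
  have hI : (if q % 4 = 1 then q * (q + 1) else q * (q - 1)) / 2 ∈
      Set.range fun g : Matrix.ProjectiveSpecialLinearGroup (Fin 2) F =>
      (Subgroup.centralizer ({g} : Set (Matrix.ProjectiveSpecialLinearGroup (Fin 2) F))).index := by
    refine ⟨SL2.π (SL2.comp 0), ?_⟩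
    have h4 : SL2.tr (SL2.comp (0 : F)) ^ 2 ≠ 4 := by
      rw [h00]; intro h; exact mul_ne_zero h2 h2 (by linear_combination -h)
    show (Subgroup.centralizer ({SL2.π (SL2.comp (0 : F))} :
      Set (Matrix.ProjectiveSpecialLinearGroup (Fin 2) F))).index = _
    have he := e1 _ h00
    rcases SL2.card_cent_regular h4 with ⟨hno, -, h⟩ | ⟨hex, -, h⟩
    · rw [if_neg, ← h, ← he, Nat.mul_div_cancel_left _ two_pos]
      intro h4
      obtain ⟨a, ha⟩ := hroot.2 h4
      exact hno a (by rw [h00]; exact ha)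
    · rw [if_pos, ← h, ← he, Nat.mul_div_cancel_left _ two_pos]
      obtain ⟨a, ha⟩ := hex
      exact hroot.1 ⟨a, by rw [h00] at ha; exact ha⟩
  constructor <;> intro hmod <;> (apply Set.Subset.antisymm)
  · rintro _ ⟨x, rfl⟩
    obtain ⟨g, rfl⟩ := SL2.π_surjective x
    simp only [Set.mem_insert_iff, Set.mem_singleton_iff]
    rcases hall g with h | h | h | h | ⟨-, h⟩
    · exact Or.inl h
    · exact Or.inr (Or.inl h)
    · exact Or.inr (Or.inr (Or.inr (Or.inl h)))
    · exact Or.inr (Or.inr (Or.inr (Or.inr h)))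
    · rw [if_pos hmod] at h
      exact Or.inr (Or.inr (Or.inl (by omega)))
  · rintro n (rfl | rfl | rfl | rfl | rfl)
    · exact h1
    · exact hU
    · rwa [if_pos hmod] at hI
    · exact hE
    · exact hS
  · rintro _ ⟨x, rfl⟩
    obtain ⟨g, rfl⟩ := SL2.π_surjective x
    simp only [Set.mem_insert_iff, Set.mem_singleton_iff]
    rcases hall g with h | h | h | h | ⟨-, h⟩
    · exact Or.inl h
    · exact Or.inr (Or.inl h)
    · exact Or.inr (Or.inr (Or.inr (Or.inr h)))
    · exact Or.inr (Or.inr (Or.inr (Or.inl h)))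
    · rw [if_neg (by omega)] at h
      exact Or.inr (Or.inr (Or.inl (by omega)))
  · rintro n (rfl | rfl | rfl | rfl | rfl)
    · exact h1
    · exact hU
    · rwa [if_neg (by omega)] at hI
    · exact hS
    · exact hE

end Cfsg.Agent.S2508
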