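import Cfsg.Statements.S2510
import Cfsg.Agent.Lib.GLOrders.PSLOrders
import Cfsg.Agent.Lib.GLOrders.DirectPowers

set_option autoImplicit false
open Cfsg

namespace Cfsg.Agent.S2510

/-- Let F be a finite field with q = p^a elements, n ≥ 2 (with q ≥ 4 when n = 2), L = PSL(n, F), and let r be a prime dividing q − 1 and not dividing n. Then for every m the direct product L × L × L × (ℤ/r)^m has the same set of element orders as L × L × L; and if n − 1 ≠ p^j for every j ≥ 0 (so never when n = 2, since 1 = p^0), then already L × L × (ℤ/r)^m has the same set of element orders as L × L. -/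
theorem result {F : Type*} [Field F] [Fintype F] (p a n r m : ℕ) (hp : p.Prime) (ha : 1 ≤ a) (hF : Fintype.card F = p ^ a)
    (hn : 2 ≤ n) (hn2 : n = 2 → 4 ≤ Fintype.card F) (hr : r.Prime) (hrq : r ∣ Fintype.card F - 1) (hrn : ¬ r ∣ n) :
    Set.range (orderOf : Matrix.ProjectiveSpecialLinearGroup (Fin n) F × Matrix.ProjectiveSpecialLinearGroup (Fin n) F × Matrix.ProjectiveSpecialLinearGroup (Fin n) F × Multiplicative (Fin m → ZMod r) → ℕ) =
      Set.range (orderOf : Matrix.ProjectiveSpecialLinearGroup (Fin n) F × Matrix.ProjectiveSpecialLinearGroup (Fin n) F × Matrix.ProjectiveSpecialLinearGroup (Fin n) F → ℕ) ∧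
    ((¬ ∃ j : ℕ, n - 1 = p ^ j) →
      Set.range (orderOf : Matrix.ProjectiveSpecialLinearGroup (Fin n) F × Matrix.ProjectiveSpecialLinearGroup (Fin n) F × Multiplicative (Fin m → ZMod r) → ℕ) =
        Set.range (orderOf : Matrix.ProjectiveSpecialLinearGroup (Fin n) F × Matrix.ProjectiveSpecialLinearGroup (Fin n) F → ℕ)) := by
  classical
  haveI : Fact p.Prime := ⟨hp⟩
  haveI : CharP F p := by
    obtain ⟨p', hp'⟩ := CharP.exists F
    have hp'' : p'.Prime := CharP.char_is_prime F p'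
    obtain ⟨e, he, hc⟩ := FiniteField.card F p'
    rw [hF] at hc
    have h1 : p ∣ p' ^ (e : ℕ) := hc ▸ dvd_pow_self p (by omega)
    have h2 := (Nat.prime_dvd_prime_iff_eq hp hp'').mp (hp.dvd_of_dvd_pow h1)
    exact h2 ▸ hp'
  haveI : Fact r.Prime := ⟨hr⟩
  set q := Fintype.card F with hq
  have hq2 : 2 ≤ q := Fintype.one_lt_card
  -- the Singer order
  obtain ⟨Q, hQ⟩ : q - 1 ∣ q ^ n - 1 := Nat.sub_one_dvd_pow_sub_one q n
  have hex : ∀ u : Matrix.ProjectiveSpecialLinearGroup (Fin n) F, ∀ k, k ∣ orderOf u →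
      ∃ v : Matrix.ProjectiveSpecialLinearGroup (Fin n) F, orderOf v = k := fun u k hk =>
    ⟨u ^ (orderOf u / k), orderOf_pow_orderOf_div (orderOf_pos u).ne' hk⟩
  have hG0 : 0 < Nat.gcd n (q - 1) := Nat.gcd_pos_of_pos_left _ (by omega)
  obtain ⟨t, ht⟩ : ∃ t, ∀ s, n - 1 = p ^ s → s = t := by
    by_cases h : ∃ s, n - 1 = p ^ s
    · obtain ⟨t, ht⟩ := h
      exact ⟨t, fun s hs => Nat.pow_right_injective hp.two_le (hs.symm.trans ht)⟩
    · exact ⟨0, fun s hs => absurd ⟨s, hs⟩ h⟩
  have hone : ¬ r ∣ orderOf (1 : Matrix.ProjectiveSpecialLinearGroup (Fin n) F) := by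
    simp [hr.one_lt.ne']
  have hr' : ∃ x : Matrix.ProjectiveSpecialLinearGroup (Fin n) F, orderOf x = r := by
    obtain ⟨M, h', hM, hM1, -, -⟩ :=
      GLOrders.exists_torus_unipotent (F := F) p (d := 1) (n := n) le_rfl (by omega)
    refine hex (QuotientGroup.mk h') r ((?_ : r ∣ M).trans (hM1 (by omega)))
    have h1 : r ∣ M * Nat.gcd n (q - 1) := by rw [hM, pow_one]; exact hrq
    rcases hr.dvd_mul.mp h1 with h | h
    · exact h
    · exact absurd (h.trans (Nat.gcd_dvd_left _ _)) hrn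
  -- class bound
  obtain ⟨M₀, h₀, -, -, -, hM₀⟩ :=
    GLOrders.exists_torus_unipotent (F := F) p (d := n) (n := n) (by omega) le_rfl
  have key := GLOrders.abstract_eq (L := Matrix.ProjectiveSpecialLinearGroup (Fin n) F)
    (Z := Multiplicative (Fin m → ZMod r)) hr ?_ (Q / Nat.gcd n (q - 1)) (p ^ (t + 1)) ?_ ?_ hr'
  refine ⟨key.1, fun hj => key.2 ?_⟩
  · intro a ha hac
    -- with `n - 1` not a power of `p` the exceptional order also extends or is a Singer order
    obtain ⟨g, rfl⟩ := QuotientGroup.mk_surjective a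
    rcases GLOrders.order_trichotomy p hr hrq hrn hn g ha with ⟨h, hh⟩ | ⟨N, hN, hN'⟩ | ⟨s, hs, -⟩
    · exact Or.inr (hex _ _ hh)
    · left
      have : N = Q / Nat.gcd n (q - 1) := by
        rw [hQ, mul_comm _ (q - 1)] at hN
        rw [← Nat.eq_of_mul_eq_mul_left (by omega) hN, Nat.mul_div_cancel _ hG0]
      exact this ▸ hN'
    · exact absurd ⟨s, hs⟩ hj
  · intro z
    apply Multiplicative.toAdd.injective
    funext i
    rw [toAdd_pow, Pi.smul_apply, toAdd_one, Pi.zero_apply, nsmul_eq_mul, ZMod.natCast_self,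
      zero_mul]
  · intro a ha
    obtain ⟨g, rfl⟩ := QuotientGroup.mk_surjective a
    rcases GLOrders.order_trichotomy p hr hrq hrn hn g ha with ⟨h, hh⟩ | ⟨N, hN, hN'⟩ | ⟨s, hs, hs'⟩
    · exact Or.inl (hex _ _ hh)
    · refine Or.inr (Or.inl ?_)
      have : N = Q / Nat.gcd n (q - 1) := by
        rw [hQ, mul_comm _ (q - 1)] at hN
        rw [← Nat.eq_of_mul_eq_mul_left (by omega) hN, Nat.mul_div_cancel _ hG0]
      exact this ▸ hN'
    · exact Or.inr (Or.inr (ht s hs ▸ hs'))
  · intro a b ha hb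
    refine hex (QuotientGroup.mk h₀) _ ((Nat.lcm_dvd ha hb).trans ?_)
    -- the Singer element attains the bound
    have hGQ : Nat.gcd n (q - 1) ∣ Q := by
      have h2 : Q = ∑ i ∈ Finset.range n, q ^ i := by
        rw [Nat.geomSum_eq hq2 n, hQ, Nat.mul_div_cancel_left _ (by omega)]
      have h3 : (Q : ZMod (Nat.gcd n (q - 1))) = 0 := by
        have hq1 : (q : ZMod (Nat.gcd n (q - 1))) = 1 := by
          have h4 : ((q - 1 : ℕ) : ZMod (Nat.gcd n (q - 1))) = 0 := by
            rw [ZMod.natCast_eq_zero_iff]; exact Nat.gcd_dvd_right _ _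
          rw [Nat.cast_sub (by omega), Nat.cast_one, sub_eq_zero] at h4
          exact h4
        have hn0 : (n : ZMod (Nat.gcd n (q - 1))) = 0 := by
          rw [ZMod.natCast_eq_zero_iff]; exact Nat.gcd_dvd_left _ _
        simp [h2, hq1, hn0]
      rwa [ZMod.natCast_eq_zero_iff] at h3
    refine hM₀ rfl _ ?_
    rw [Nat.div_mul_cancel hGQ, hQ, mul_comm]

end Cfsg.Agent.S2510
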