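import Cfsg.Statements.S2511
import Cfsg.Agent.Lib.FormTorus.UnitaryOrders

set_option autoImplicit false
open Cfsg

namespace Cfsg.Agent.S2511

open Cfsg.Agent.FormTorus

section Combine

variable {G : Type*} [Group G] [Finite G] {r P P' M : ℕ}

theorem three (hr : r.Prime) (hPM : Nat.Coprime P M) (hrP : P' ∣ P)
    (hcl : ∀ x : G, ¬ r ∣ orderOf x → (∃ y : G, orderOf y = r * orderOf x) ∨ orderOf x ∣ P * M)
    (hM : ∃ y : G, orderOf y = M) (hP : ∃ y : G, orderOf y = P)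
    (hz : ∃ y : G, orderOf y = r * P') (a : G × G × G) (ha : ¬ r ∣ orderOf a) :
    ∃ a' : G × G × G, orderOf a' = r * orderOf a := by
  obtain ⟨x, y, z⟩ := a
  simp only [Prod.orderOf] at ha
  have hx : ¬ r ∣ orderOf x := fun h => ha (h.trans (Nat.dvd_lcm_left _ _))
  have hy : ¬ r ∣ orderOf y := fun h => ha (h.trans ((Nat.dvd_lcm_left _ _).trans (Nat.dvd_lcm_right _ _)))
  have hz' : ¬ r ∣ orderOf z := fun h => ha (h.trans ((Nat.dvd_lcm_right _ _).trans (Nat.dvd_lcm_right _ _)))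
  have hco := fun (k : ℕ) (hk : ¬ r ∣ k) => (hr.coprime_iff_not_dvd.2 hk)
  have key : ∀ k, ¬ r ∣ k → Nat.lcm r k = r * k := fun k hk => (hco k hk).lcm_eq_mul
  rcases hcl x hx with ⟨w, hw⟩ | dx
  · refine ⟨(w, y, z), ?_⟩
    simp only [Prod.orderOf]
    rw [hw, ← key _ hx, Nat.lcm_assoc, key _ ha]
  rcases hcl y hy with ⟨w, hw⟩ | dy
  · refine ⟨(x, w, z), ?_⟩
    simp only [Prod.orderOf]
    rw [hw, ← key _ hy, Nat.lcm_assoc, ← Nat.lcm_assoc (orderOf x), Nat.lcm_comm (orderOf x) r,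
      Nat.lcm_assoc, key _ ha]
  rcases hcl z hz' with ⟨w, hw⟩ | dz
  · refine ⟨(x, y, w), ?_⟩
    simp only [Prod.orderOf]
    rw [hw, ← key _ hz', ← Nat.lcm_assoc (orderOf y), Nat.lcm_comm (orderOf y) r, Nat.lcm_assoc,
      ← Nat.lcm_assoc (orderOf x), Nat.lcm_comm (orderOf x) r, Nat.lcm_assoc, key _ ha]
  · set L := orderOf x |>.lcm ((orderOf y).lcm (orderOf z)) with hL
    have hLd : L ∣ P * M := Nat.lcm_dvd dx (Nat.lcm_dvd dy dz)
    obtain ⟨y₀, hy₀⟩ := hM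
    obtain ⟨u₀, hu₀⟩ := hP
    obtain ⟨z₀, hz₀⟩ := hz
    obtain ⟨y₁, hy₁⟩ := exists_orderOf_eq y₀ (d := L.gcd M) (hy₀ ▸ Nat.gcd_dvd_right _ _)
    obtain ⟨u₁, hu₁⟩ := exists_orderOf_eq u₀ (d := L.gcd P) (hu₀ ▸ Nat.gcd_dvd_right _ _)
    obtain ⟨z₁, hz₁⟩ := exists_orderOf_eq z₀ (d := r) (hz₀ ▸ Dvd.intro _ rfl)
    refine ⟨(z₁, u₁, y₁), ?_⟩
    simp only [Prod.orderOf]
    rw [hz₁, hy₁, hu₁, ← hL, Nat.Coprime.lcm_eq_mul (hPM.coprime_dvd_left (Nat.gcd_dvd_right _ _)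
      |>.coprime_dvd_right (Nat.gcd_dvd_right _ _)), ← Nat.Coprime.gcd_mul L hPM,
      Nat.gcd_eq_left hLd, key _ ha]

theorem two (hr : r.Prime) (hPM : Nat.Coprime P M)
    (hcl : ∀ x : G, ¬ r ∣ orderOf x → (∃ y : G, orderOf y = r * orderOf x) ∨ orderOf x ∣ P * M)
    (hM : ∃ y : G, orderOf y = M) (hz : ∃ y : G, orderOf y = r * P) (a : G × G)
    (ha : ¬ r ∣ orderOf a) :
    ∃ a' : G × G, orderOf a' = r * orderOf a := by
  obtain ⟨x, y⟩ := a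
  simp only [Prod.orderOf] at ha
  have hx : ¬ r ∣ orderOf x := fun h => ha (h.trans (Nat.dvd_lcm_left _ _))
  have hy : ¬ r ∣ orderOf y := fun h => ha (h.trans (Nat.dvd_lcm_right _ _))
  have key : ∀ k, ¬ r ∣ k → Nat.lcm r k = r * k :=
    fun k hk => (hr.coprime_iff_not_dvd.2 hk).lcm_eq_mul
  rcases hcl x hx with ⟨w, hw⟩ | dx
  · refine ⟨(w, y), ?_⟩
    simp only [Prod.orderOf]
    rw [hw, ← key _ hx, Nat.lcm_assoc, key _ ha]
  rcases hcl y hy with ⟨w, hw⟩ | dy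
  · refine ⟨(x, w), ?_⟩
    simp only [Prod.orderOf]
    rw [hw, ← key _ hy, ← Nat.lcm_assoc (orderOf x), Nat.lcm_comm (orderOf x) r, Nat.lcm_assoc,
      key _ ha]
  · set L := (orderOf x).lcm (orderOf y) with hL
    have hLd : L ∣ P * M := Nat.lcm_dvd dx dy
    obtain ⟨y₀, hy₀⟩ := hM
    obtain ⟨z₀, hz₀⟩ := hz
    obtain ⟨y₁, hy₁⟩ := exists_orderOf_eq y₀ (d := L.gcd M) (hy₀ ▸ Nat.gcd_dvd_right _ _)
    obtain ⟨z₁, hz₁⟩ := exists_orderOf_eq z₀ (d := r * L.gcd P)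
      (hz₀ ▸ Nat.mul_dvd_mul_left r (Nat.gcd_dvd_right _ _))
    refine ⟨(z₁, y₁), ?_⟩
    simp only [Prod.orderOf]
    rw [hz₁, hy₁, ← hL, ← key _ (fun h => ha (h.trans (Nat.gcd_dvd_left _ _))), Nat.lcm_assoc,
      Nat.Coprime.lcm_eq_mul (hPM.coprime_dvd_left (Nat.gcd_dvd_right _ _)
      |>.coprime_dvd_right (Nat.gcd_dvd_right _ _)), ← Nat.Coprime.gcd_mul L hPM,
      Nat.gcd_eq_left hLd, key _ ha]

end Combine

theorem elem_pow {m r : ℕ} (e : Multiplicative (Fin m → ZMod r)) : e ^ r = 1 := by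
  refine Multiplicative.toAdd.injective (funext fun i => ?_)
  simp

/-- Let F be a finite field with q² elements, q = p^a, n ≥ 3 with (n, q) ≠ (3, 2), L = PSU(n, q) realised over F, and let r be a prime dividing q + 1 and not dividing n. Then for every m the direct product L × L × L × (ℤ/r)^m has the same set of element orders as L × L × L; and if n − 1 is not a power of p, then already L × L × (ℤ/r)^m has the same set of element orders as L × L. -/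
theorem result {F : Type*} [Field F] [Fintype F] (p a n q r m : ℕ) (hp : p.Prime) (ha : 1 ≤ a) (hq : q = p ^ a) (hF : Fintype.card F = q ^ 2)
    (hn : 3 ≤ n) (hn3 : ¬ (n = 3 ∧ q = 2)) (hr : r.Prime) (hrq : r ∣ q + 1) (hrn : ¬ r ∣ n) :
    Set.range (orderOf : Cfsg.PSU n F q × Cfsg.PSU n F q × Cfsg.PSU n F q × Multiplicative (Fin m → ZMod r) → ℕ) = Set.range (orderOf : Cfsg.PSU n F q × Cfsg.PSU n F q × Cfsg.PSU n F q → ℕ) ∧
    ((¬ ∃ j : ℕ, n - 1 = p ^ j) →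
      Set.range (orderOf : Cfsg.PSU n F q × Cfsg.PSU n F q × Multiplicative (Fin m → ZMod r) → ℕ) = Set.range (orderOf : Cfsg.PSU n F q × Cfsg.PSU n F q → ℕ)) := by
  haveI : Fact p.Prime := ⟨hp⟩
  haveI := AutPSU.QField.of_card hF
  have hF' : Fintype.card F = p ^ (a * 2) := by rw [hF, hq, pow_mul]
  haveI : CharP F p := charP_of_card_eq_prime_pow hF'
  have hrp : r ≠ p := by
    rintro rfl
    have hdq : r ∣ q := hq ▸ dvd_pow_self r (by omega)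
    exact hr.not_dvd_one ((Nat.dvd_add_right hdq).1 hrq)
  have hn2 : 2 ≤ n := by omega
  have hPM : Nat.Coprime (p ^ Nat.clog p n) (tM q n) :=
    (tM_coprime hp hq ha (by omega)).pow_left _
  have hcl := classify p (F := F) hn2 hr hrq hrn
  obtain ⟨u, hu⟩ := exists_unipotent p (F := F) (q := q) hn2
  obtain ⟨y, hy⟩ := exists_torus p a (F := F) hq ha hn2
  obtain ⟨z, hz⟩ := exists_unipotent_mul p (F := F) (q := q) hn hr hrq hrn hrp
  have hdvd : p ^ Nat.clog p (n - 1) ∣ p ^ Nat.clog p n :=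
    pow_dvd_pow p (Nat.clog_mono_right p (Nat.sub_le n 1))
  have h3 := three (G := Cfsg.PSU n F q) hr hPM hdvd hcl ⟨y, hy⟩ ⟨u, hu⟩ ⟨z, hz⟩
  constructor
  · refine Set.Subset.antisymm ?_ ?_
    · rintro _ ⟨⟨x₁, x₂, x₃, e⟩, rfl⟩
      obtain ⟨v, hv⟩ := range_orderOf_absorb (A := Cfsg.PSU n F q × Cfsg.PSU n F q × Cfsg.PSU n F q)
        (E := Multiplicative (Fin m → ZMod r)) hr elem_pow h3 (x₁, x₂, x₃) e
      refine ⟨v, hv.trans ?_⟩
      simp only [Prod.orderOf, Nat.lcm_assoc]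
    · rintro _ ⟨⟨x₁, x₂, x₃⟩, rfl⟩
      exact ⟨(x₁, x₂, x₃, 1), by simp [Prod.orderOf]⟩
  · intro hnp
    have hclog : Nat.clog p (n - 1) = Nat.clog p n := by
      refine le_antisymm (Nat.clog_mono_right p (Nat.sub_le n 1)) ?_
      refine (Nat.clog_le_iff_le_pow hp.one_lt).2 ?_
      have h1 := Nat.le_pow_clog hp.one_lt (n - 1)
      have h2 : n - 1 ≠ p ^ Nat.clog p (n - 1) := fun h => hnp ⟨_, h⟩
      omega
    rw [hclog] at hz
    have h2 := two (G := Cfsg.PSU n F q) hr hPM hcl ⟨y, hy⟩ ⟨z, hz⟩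
    refine Set.Subset.antisymm ?_ ?_
    · rintro _ ⟨⟨x₁, x₂, e⟩, rfl⟩
      obtain ⟨v, hv⟩ := range_orderOf_absorb (A := Cfsg.PSU n F q × Cfsg.PSU n F q)
        (E := Multiplicative (Fin m → ZMod r)) hr elem_pow h2 (x₁, x₂) e
      refine ⟨v, hv.trans ?_⟩
      simp only [Prod.orderOf, Nat.lcm_assoc]
    · rintro _ ⟨⟨x₁, x₂⟩, rfl⟩
      exact ⟨(x₁, x₂, 1), by simp [Prod.orderOf]⟩

end Cfsg.Agent.S2511
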