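import Cfsg.Statements.S2512
import Cfsg.Agent.Lib.FormTorus.SymplecticClassify

set_option autoImplicit false
open Cfsg

namespace Cfsg.Agent.S2512

open Cfsg.Agent.FormTorus Cfsg.Agent.FormsLib

section Combine

variable {G : Type*} [Group G] [Finite G] {P H : ℕ}

theorem three (hPH : Nat.Coprime P H)
    (hcl : ∀ x : G, ¬ 2 ∣ orderOf x → (∃ y : G, orderOf y = 2 * orderOf x) ∨ orderOf x ∣ P ∨ orderOf x ∣ H)
    (hH : ∀ d, Odd d → d ∣ H → ∃ y : G, orderOf y = d) (hP : ∀ d, Odd d → d ∣ P → ∃ y : G, orderOf y = d)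
    (hi : ∃ y : G, orderOf y = 2) (a : G × G × G) (ha : ¬ 2 ∣ orderOf a) :
    ∃ a' : G × G × G, orderOf a' = 2 * orderOf a := by
  obtain ⟨x, y, z⟩ := a
  simp only [Prod.orderOf] at ha
  have hx : ¬ 2 ∣ orderOf x := fun h => ha (h.trans (Nat.dvd_lcm_left _ _))
  have hy : ¬ 2 ∣ orderOf y := fun h =>
    ha (h.trans ((Nat.dvd_lcm_left _ _).trans (Nat.dvd_lcm_right _ _)))
  have hz : ¬ 2 ∣ orderOf z := fun h =>
    ha (h.trans ((Nat.dvd_lcm_right _ _).trans (Nat.dvd_lcm_right _ _)))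
  have key : ∀ k, ¬ 2 ∣ k → Nat.lcm 2 k = 2 * k :=
    fun k hk => (Nat.prime_two.coprime_iff_not_dvd.2 hk).lcm_eq_mul
  rcases hcl x hx with ⟨w, hw⟩ | dx
  · refine ⟨(w, y, z), ?_⟩
    simp only [Prod.orderOf]
    rw [hw, ← key _ hx, Nat.lcm_assoc, key _ ha]
  rcases hcl y hy with ⟨w, hw⟩ | dy
  · refine ⟨(x, w, z), ?_⟩
    simp only [Prod.orderOf]
    rw [hw, ← key _ hy, Nat.lcm_assoc, ← Nat.lcm_assoc (orderOf x), Nat.lcm_comm (orderOf x) 2,
      Nat.lcm_assoc, key _ ha]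
  rcases hcl z hz with ⟨w, hw⟩ | dz
  · refine ⟨(x, y, w), ?_⟩
    simp only [Prod.orderOf]
    rw [hw, ← key _ hz, ← Nat.lcm_assoc (orderOf y), Nat.lcm_comm (orderOf y) 2, Nat.lcm_assoc,
      ← Nat.lcm_assoc (orderOf x), Nat.lcm_comm (orderOf x) 2, Nat.lcm_assoc, key _ ha]
  · set L := orderOf x |>.lcm ((orderOf y).lcm (orderOf z)) with hL
    have hf : ∀ k, k ∣ P ∨ k ∣ H → k ∣ P * H := fun k hk =>
      hk.elim (fun h => h.mul_right H) (fun h => h.mul_left P)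
    have hLd : L ∣ P * H := Nat.lcm_dvd (hf _ dx) (Nat.lcm_dvd (hf _ dy) (hf _ dz))
    have hLodd : Odd L := Nat.not_even_iff_odd.1 (fun h => ha (even_iff_two_dvd.1 h))
    obtain ⟨y₁, hy₁⟩ := hH (L.gcd H) (hLodd.of_dvd_nat (Nat.gcd_dvd_left _ _)) (Nat.gcd_dvd_right _ _)
    obtain ⟨u₁, hu₁⟩ := hP (L.gcd P) (hLodd.of_dvd_nat (Nat.gcd_dvd_left _ _)) (Nat.gcd_dvd_right _ _)
    obtain ⟨z₁, hz₁⟩ := hi
    refine ⟨(z₁, u₁, y₁), ?_⟩
    simp only [Prod.orderOf]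
    rw [hz₁, hy₁, hu₁, ← hL, Nat.Coprime.lcm_eq_mul (hPH.coprime_dvd_left (Nat.gcd_dvd_right _ _)
      |>.coprime_dvd_right (Nat.gcd_dvd_right _ _)), ← Nat.Coprime.gcd_mul L hPH,
      Nat.gcd_eq_left hLd, key _ ha]

theorem two
    (hcl : ∀ x : G, ¬ 2 ∣ orderOf x → (∃ y : G, orderOf y = 2 * orderOf x) ∨ orderOf x ∣ H)
    (hH : ∀ d, Odd d → d ∣ H → ∃ y : G, orderOf y = d)
    (hi : ∃ y : G, orderOf y = 2) (a : G × G) (ha : ¬ 2 ∣ orderOf a) :
    ∃ a' : G × G, orderOf a' = 2 * orderOf a := by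
  obtain ⟨x, y⟩ := a
  simp only [Prod.orderOf] at ha
  have hx : ¬ 2 ∣ orderOf x := fun h => ha (h.trans (Nat.dvd_lcm_left _ _))
  have hy : ¬ 2 ∣ orderOf y := fun h => ha (h.trans (Nat.dvd_lcm_right _ _))
  have key : ∀ k, ¬ 2 ∣ k → Nat.lcm 2 k = 2 * k :=
    fun k hk => (Nat.prime_two.coprime_iff_not_dvd.2 hk).lcm_eq_mul
  rcases hcl x hx with ⟨w, hw⟩ | dx
  · refine ⟨(w, y), ?_⟩
    simp only [Prod.orderOf]
    rw [hw, ← key _ hx, Nat.lcm_assoc, key _ ha]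
  rcases hcl y hy with ⟨w, hw⟩ | dy
  · refine ⟨(x, w), ?_⟩
    simp only [Prod.orderOf]
    rw [hw, ← key _ hy, ← Nat.lcm_assoc (orderOf x), Nat.lcm_comm (orderOf x) 2, Nat.lcm_assoc,
      key _ ha]
  · set L := (orderOf x).lcm (orderOf y) with hL
    have hLodd : Odd L := Nat.not_even_iff_odd.1 (fun h => ha (even_iff_two_dvd.1 h))
    obtain ⟨y₁, hy₁⟩ := hH L hLodd (Nat.lcm_dvd dx dy)
    obtain ⟨z₁, hz₁⟩ := hi
    refine ⟨(z₁, y₁), ?_⟩
    simp only [Prod.orderOf]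
    rw [hz₁, hy₁, ← hL, key _ ha]

end Combine

theorem elem_pow {m : ℕ} (e : Multiplicative (Fin m → ZMod 2)) : e ^ 2 = 1 := by
  refine Multiplicative.toAdd.injective (funext fun i => ?_)
  rw [toAdd_pow, Pi.smul_apply, nsmul_eq_mul, ZMod.natCast_self, zero_mul]
  rfl

/-- Let F be a finite field of odd order q = p^a, n ≥ 2 (with q ≥ 3 automatic), and L = PSp(2n, F). Then for every m the direct product L × L × L × (ℤ/2)^m has the same set of element orders as L × L × L; and if 2n − 1 is not a power of p, then already L × L × (ℤ/2)^m has the same set of element orders as L × L. -/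
theorem result {F : Type*} [Field F] [Fintype F] (p a n m : ℕ) (hp : p.Prime) (ha : 1 ≤ a) (hF : Fintype.card F = p ^ a) (hodd : Odd (Fintype.card F))
    (hn : 2 ≤ n) :
    Set.range (orderOf : Cfsg.PSp n F × Cfsg.PSp n F × Cfsg.PSp n F × Multiplicative (Fin m → ZMod 2) → ℕ) = Set.range (orderOf : Cfsg.PSp n F × Cfsg.PSp n F × Cfsg.PSp n F → ℕ) ∧
    ((¬ ∃ j : ℕ, 2 * n - 1 = p ^ j) →
      Set.range (orderOf : Cfsg.PSp n F × Cfsg.PSp n F × Multiplicative (Fin m → ZMod 2) → ℕ) = Set.range (orderOf : Cfsg.PSp n F × Cfsg.PSp n F → ℕ)) := by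
  haveI : Fact p.Prime := ⟨hp⟩
  haveI : CharP F p := charP_of_card_eq_prime_pow hF
  have hpodd : p ≠ 2 := by
    rintro rfl
    rw [hF] at hodd
    exact (Nat.not_even_iff_odd.2 hodd) ((Nat.even_pow).2 ⟨even_two, by omega⟩)
  have h2 : (2 : F) ≠ 0 := by
    have : ((2 : ℕ) : F) ≠ 0 := fun h =>
      hpodd ((Nat.prime_dvd_prime_iff_eq hp Nat.prime_two).1 ((CharP.cast_eq_zero_iff F p 2).1 h))
    exact_mod_cast this
  set q := Nat.card F with hq
  have hqodd : Odd (q ^ n) := (show Odd q by rwa [hq, Nat.card_eq_fintype_card]).pow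
  classical
  set H := if 4 ∣ q ^ n + 1 then q ^ n - 1 else q ^ n + 1 with hH
  have hHc : H = q ^ n + 1 ∨ H = q ^ n - 1 := by
    rw [hH]; split_ifs
    · exact Or.inr rfl
    · exact Or.inl rfl
  have hPH : Nat.Coprime (p ^ Nat.clog p (2 * n)) H :=
    (coprime_p_qe p (F := F) (by omega) hHc).pow_left _
  have hcl0 : ∀ x : Cfsg.PSp n F, ¬ 2 ∣ orderOf x → (∃ y : Cfsg.PSp n F, orderOf y = 2 * orderOf x) ∨
      orderOf x ∣ p ^ Nat.clog p (2 * n) ∨ orderOf x ∣ H := by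
    intro x hx
    have hNodd : Odd (orderOf x) := Nat.not_even_iff_odd.1 (fun h => hx (even_iff_two_dvd.1 h))
    rcases classifySp p h2 (by omega) x hx with h | h | ⟨e, k, S, P, hnk, he, hN, hS, hP⟩
    · exact Or.inl h
    · exact Or.inr (Or.inl h)
    have hSodd : Odd S := hNodd.of_dvd_nat (hN ▸ Nat.dvd_lcm_left _ _)
    have hPodd : Odd P := hNodd.of_dvd_nat (hN ▸ Nat.dvd_lcm_right _ _)
    rcases Nat.lt_or_ge k 2 with hk | hk
    · have hk1 : k = 1 := by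
        rcases Nat.eq_zero_or_pos k with rfl | h
        · rw [mul_zero] at hnk; omega
        · omega
      subst hk1
      rw [mul_one] at hnk
      subst hnk
      rw [Nat.clog_one_right, pow_zero, Nat.dvd_one] at hP
      rw [hP, Nat.lcm_one_right] at hN
      rw [hN]
      have hfour : ∀ X, 4 ∣ X → S ∣ X → (X = q ^ n + 1 ∨ X = q ^ n - 1) →
          ∃ y : Cfsg.PSp n F, orderOf y = 2 * S := by
        intro X h4 hSX hX
        have h4S : 4 * S ∣ X := (Nat.Coprime.pow_left 2 (Nat.coprime_two_left.2 hSodd) :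
          Nat.Coprime (2 ^ 2) S).mul_dvd_of_dvd_of_dvd h4 hSX
        obtain ⟨y, hy⟩ := exists_torus_psp p h2 (n := n) (o := 4 * S) (by omega)
          (by rcases hX with rfl | rfl <;> [exact Or.inl h4S; exact Or.inr h4S])
        refine ⟨y, ?_⟩
        rw [hy, if_pos ⟨2 * S, by ring⟩]
        omega
      by_cases h4 : 4 ∣ q ^ n + 1
      · rcases hS with hS | hS
        · exact Or.inl (hfour _ h4 hS (Or.inl rfl))
        · exact Or.inr (Or.inr (by rw [hH, if_pos h4]; exact hS))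
      · rcases hS with hS | hS
        · exact Or.inr (Or.inr (by rw [hH, if_neg h4]; exact hS))
        · refine Or.inl (hfour _ ?_ hS (Or.inr rfl))
          obtain ⟨w, hw⟩ := hqodd
          have hw' : Nat.card F ^ n = 2 * w + 1 := hw
          have h4' : ¬ 4 ∣ Nat.card F ^ n + 1 := h4
          show 4 ∣ Nat.card F ^ n - 1
          omega
    · have h2e : e + e ≤ n := by
        have := Nat.mul_le_mul_left e hk
        omega
      have hk' : k ≤ 2 * (n - e) := by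
        have hkn : k ≤ n := hnk ▸ Nat.le_mul_of_pos_left k he
        omega
      obtain ⟨y, hy⟩ := exists_block p h2 (n := n) he (by omega) hS
        (hP.trans (pow_dvd_pow p (Nat.clog_mono_right p hk'))) hSodd hPodd
      exact Or.inl ⟨y, hy.trans (by rw [hN])⟩
  have hHel : ∀ d, Odd d → d ∣ H → ∃ y : Cfsg.PSp n F, orderOf y = d := by
    intro d hd hdH
    obtain ⟨y, hy⟩ := exists_torus_psp p h2 (n := n) (o := d) (by omega)
      (by rcases hHc with h | h <;> [exact Or.inl (h ▸ hdH); exact Or.inr (h ▸ hdH)])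
    exact ⟨y, by rw [hy, if_neg (Nat.not_even_iff_odd.2 hd)]⟩
  have hPel : ∀ d, Odd d → d ∣ p ^ Nat.clog p (2 * n) → ∃ y : Cfsg.PSp n F, orderOf y = d := by
    intro d hd hdP
    obtain ⟨g, hg, hgj⟩ := exists_unipotent_iso p h2 (m := n) (by omega) hdP
    obtain ⟨y, hy⟩ := exists_psp (m := n) (spB_alt (m := n) (F := F)) spB_nondeg (by simp [two_mul]) g hg
    refine ⟨y, Nat.dvd_antisymm (orderOf_dvd_of_pow_eq_one ((hy _).2 (Or.inl ((hgj _).2 dvd_rfl)))) ?_⟩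
    exact (Nat.coprime_two_right.2 hd).dvd_of_dvd_mul_left
      ((hgj _).1 (pow_two_mul_of_pm ((hy _).1 (pow_orderOf_eq_one y))))
  have hinv : ∃ y : Cfsg.PSp n F, orderOf y = 2 := by
    obtain ⟨y, hy⟩ := exists_block p h2 (n := n) (e := 1) (S := 1) (P := 1) le_rfl (by omega)
      (Or.inl (one_dvd _)) (one_dvd _) odd_one odd_one
    exact ⟨y, hy.trans (by simp)⟩
  have h3 := three (G := Cfsg.PSp n F) hPH hcl0 hHel hPel hinv
  constructor
  · refine Set.Subset.antisymm ?_ ?_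
    · rintro _ ⟨⟨x₁, x₂, x₃, e⟩, rfl⟩
      obtain ⟨v, hv⟩ := range_orderOf_absorb (A := Cfsg.PSp n F × Cfsg.PSp n F × Cfsg.PSp n F)
        (E := Multiplicative (Fin m → ZMod 2)) Nat.prime_two elem_pow h3 (x₁, x₂, x₃) e
      refine ⟨v, hv.trans ?_⟩
      simp only [Prod.orderOf, Nat.lcm_assoc]
    · rintro _ ⟨⟨x₁, x₂, x₃⟩, rfl⟩
      exact ⟨(x₁, x₂, x₃, 1), by simp [Prod.orderOf]⟩
  · intro hnp
    have hclog : Nat.clog p (2 * n) = Nat.clog p (2 * (n - 1)) := by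
      refine le_antisymm ?_ (Nat.clog_mono_right p (by omega))
      refine (Nat.clog_le_iff_le_pow hp.one_lt).2 ?_
      have h1 := Nat.le_pow_clog hp.one_lt (2 * (n - 1))
      have h2' : 2 * n - 1 ≠ p ^ Nat.clog p (2 * (n - 1)) := fun h => hnp ⟨_, h⟩
      obtain ⟨w, hw⟩ : Odd (p ^ Nat.clog p (2 * (n - 1))) := (hp.odd_of_ne_two hpodd).pow
      omega
    have hcl1 : ∀ x : Cfsg.PSp n F, ¬ 2 ∣ orderOf x →
        (∃ y : Cfsg.PSp n F, orderOf y = 2 * orderOf x) ∨ orderOf x ∣ H := by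
      intro x hx
      have hNodd : Odd (orderOf x) := Nat.not_even_iff_odd.1 (fun h => hx (even_iff_two_dvd.1 h))
      rcases hcl0 x hx with h | h | h
      · exact Or.inl h
      · rw [hclog] at h
        obtain ⟨y, hy⟩ := exists_block p h2 (n := n) (e := 1) (S := 1) le_rfl (by omega)
          (Or.inl (one_dvd _)) h odd_one hNodd
        exact Or.inl ⟨y, hy.trans (by rw [Nat.lcm_one_left])⟩
      · exact Or.inr h
    have h2c := two (G := Cfsg.PSp n F) hcl1 hHel hinv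
    refine Set.Subset.antisymm ?_ ?_
    · rintro _ ⟨⟨x₁, x₂, e⟩, rfl⟩
      obtain ⟨v, hv⟩ := range_orderOf_absorb (A := Cfsg.PSp n F × Cfsg.PSp n F)
        (E := Multiplicative (Fin m → ZMod 2)) Nat.prime_two elem_pow h2c (x₁, x₂) e
      refine ⟨v, hv.trans ?_⟩
      simp only [Prod.orderOf, Nat.lcm_assoc]
    · rintro _ ⟨⟨x₁, x₂⟩, rfl⟩
      exact ⟨(x₁, x₂, 1), by simp [Prod.orderOf]⟩

end Cfsg.Agent.S2512
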