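import Cfsg.Statements.S2513
import Cfsg.Agent.Lib.GLOrders.Semisimple

set_option autoImplicit false
open Cfsg

namespace Cfsg.Agent.S2513

theorem dvd_orderOf_coord {ι : Type*} {G : Type*} [Group G] [Finite ι] [Finite G] (f : ι → G) (p : ℕ)
    (hp : p.Prime) (a : ℕ) (ha : p ^ a ∣ orderOf f) (ha0 : a ≠ 0) :
    ∃ i, p ^ a ∣ orderOf (f i) := by
  by_contra hne
  push Not at hne
  obtain ⟨k, hk⟩ := ha
  obtain ⟨b, rfl⟩ : ∃ b, a = b + 1 := ⟨a - 1, by omega⟩
  have hpos : 0 < orderOf f := orderOf_pos f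
  have hdvd : ∀ i, orderOf (f i) ∣ p ^ b * k := by
    intro i
    have h1 : orderOf (f i) ∣ p ^ (b + 1) * k := by
      rw [← hk]; exact orderOf_map_dvd (Pi.evalMonoidHom (fun _ : ι => G) i) f
    obtain ⟨c, hc⟩ := h1
    have hpc : p ∣ c := by
      by_contra hpc
      have hco : Nat.Coprime (p ^ (b + 1)) c :=
        Nat.Coprime.pow_left _ ((Nat.Prime.coprime_iff_not_dvd hp).mpr hpc)
      exact hne i (hco.dvd_of_dvd_mul_right ⟨k, hc.symm⟩)
    obtain ⟨e, rfl⟩ := hpc
    refine ⟨e, Nat.eq_of_mul_eq_mul_left hp.pos ?_⟩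
    calc p * (p ^ b * k) = p ^ (b + 1) * k := by ring
      _ = orderOf (f i) * (p * e) := hc
      _ = p * (orderOf (f i) * e) := by ring
  have h2 : orderOf f ∣ p ^ b * k := by
    rw [orderOf_dvd_iff_pow_eq_one]
    funext i
    exact orderOf_dvd_iff_pow_eq_one.mp (hdvd i)
  rw [hk] at h2 hpos
  have hk0 : 0 < k := Nat.pos_of_mul_pos_left hpos
  have := Nat.le_of_dvd (Nat.mul_pos (pow_pos hp.pos b) hk0) h2
  have hlt : p ^ b * k < p ^ (b + 1) * k :=
    Nat.mul_lt_mul_of_pos_right (Nat.pow_lt_pow_right hp.one_lt (by omega)) hk0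
  omega

theorem exists_equiv {F : Type*} [Field F] [Fintype F] (hF : Fintype.card F = 2) (n : ℕ) (hn : 2 ≤ n) :
    Nonempty (Matrix.ProjectiveSpecialLinearGroup (Fin n) F ≃* GL (Fin n) F) := by
  have h1 : ∀ x : F, x ≠ 0 → x = 1 := fun x hx => by
    simpa [hF] using FiniteField.pow_card_sub_one_eq_one x hx
  have hc : Subgroup.center (Matrix.SpecialLinearGroup (Fin n) F) = ⊥ := by
    rw [Subgroup.eq_bot_iff_forall]
    intro A hA
    obtain ⟨r, hr, hr'⟩ := Matrix.SpecialLinearGroup.mem_center_iff.mp hA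
    have : r = 1 := h1 r (by
      intro h0
      rw [h0, Fintype.card_fin, zero_pow (by omega)] at hr
      exact zero_ne_one hr)
    apply Subtype.ext
    simp [← hr', this]
  refine ⟨(QuotientGroup.quotientMulEquivOfEq hc).trans
    (QuotientGroup.quotientBot.trans (MulEquiv.ofBijective Matrix.SpecialLinearGroup.toGL ⟨?_, ?_⟩))⟩
  · exact Matrix.SpecialLinearGroup.toGL_injective
  · intro g
    refine ⟨⟨(g : Matrix (Fin n) (Fin n) F), h1 _ (Matrix.isUnits_det_units g).ne_zero⟩, ?_⟩
    exact Units.ext rfl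

theorem key {F : Type*} [Field F] [Fintype F] (hF : Fintype.card F = 2) (n k : ℕ) (_hn : 2 ≤ n)
    (f : Fin k → GL (Fin n) F) :
    ∃ f' : Fin ((n + 3) / 2) → GL (Fin n) F, orderOf f' = orderOf f := by
  classical
  obtain ⟨a, m, hm, hN⟩ := Nat.exists_eq_two_pow_mul_odd (orderOf_pos f).ne'
  -- the two-part
  obtain ⟨x, hx⟩ : ∃ x : GL (Fin n) F, orderOf x = 2 ^ a := by
    rcases Nat.eq_zero_or_pos a with ha | ha
    · exact ⟨1, by simp [ha]⟩
    · obtain ⟨i, hi⟩ := dvd_orderOf_coord f 2 Nat.prime_two a ⟨m, hN⟩ ha.ne'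
      refine ⟨f i ^ (orderOf (f i) / 2 ^ a), ?_⟩
      exact orderOf_pow_orderOf_div (orderOf_pos _).ne' hi
  -- one Singer element in each degree above n / 2
  let s := n - n / 2
  choose z hz using fun j : Fin s =>
    GLOrders.exists_orderOf_eq_pow_sub_one (F := F) (d := n / 2 + 1 + j.val) (n := n)
      (by omega) (by have := j.isLt; omega)
  have hchar : ringChar F = 2 := by
    obtain ⟨p, hp⟩ := CharP.exists F
    have hp' : p.Prime := CharP.char_is_prime F p
    obtain ⟨e, he, hc⟩ := FiniteField.card F p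
    rw [hF] at hc
    have : p ∣ 2 := hc.symm ▸ dvd_pow_self p e.ne_zero
    rw [ringChar.eq_iff.mpr hp]
    exact (Nat.prime_dvd_prime_iff_eq hp' Nat.prime_two).mp this
  have hmL : m ∣ orderOf z := by
    have hLd : ∀ d, 1 ≤ d → d ≤ n → (Fintype.card F ^ d - 1) ∣ orderOf z := by
      intro d hd hd'
      -- some multiple of d lies in (n/2, n]
      obtain ⟨e, he1, he2⟩ : ∃ e, n / 2 < d * e ∧ d * e ≤ n := by
        refine ⟨n / d, ?_, Nat.mul_div_le n d⟩
        have h1 : n < d * (n / d) + d := by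
          have := Nat.div_add_mod n d; have := Nat.mod_lt n hd; omega
        have h2 : d * 1 ≤ d * (n / d) := Nat.mul_le_mul_left d (Nat.div_pos hd' hd)
        omega
      have h4 := orderOf_map_dvd
        (Pi.evalMonoidHom (fun _ : Fin s => GL (Fin n) F) ⟨d * e - n / 2 - 1, by omega⟩) z
      rw [Pi.evalMonoidHom_apply, hz] at h4
      simp only at h4
      rw [show n / 2 + 1 + (d * e - n / 2 - 1) = d * e by omega] at h4
      exact (Nat.pow_sub_one_dvd_pow_sub_one _ (dvd_mul_right d e)).trans h4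
    have h5 : ∀ i, (f i ^ 2 ^ a) ^ orderOf z = 1 := by
      intro i
      refine GLOrders.pow_eq_one_of_multiple _ ?_ _ hLd
      have : CharP F 2 := ringChar.of_eq hchar
      rw [Ne, CharP.cast_eq_zero_iff F 2]
      intro h
      have h6 : orderOf (f i ^ 2 ^ a) ∣ m := by
        rw [orderOf_dvd_iff_pow_eq_one, ← pow_mul, ← hN]
        exact orderOf_dvd_iff_pow_eq_one.mp
          (orderOf_map_dvd (Pi.evalMonoidHom (fun _ : Fin k => GL (Fin n) F) i) f)
      exact Nat.not_even_iff_odd.mpr hm (even_iff_two_dvd.mpr (h.trans h6))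
    have h7 : 2 ^ a * m ∣ 2 ^ a * orderOf z := by
      rw [← hN, orderOf_dvd_iff_pow_eq_one]
      funext i
      simpa [pow_mul] using h5 i
    exact Nat.dvd_of_mul_dvd_mul_left (by positivity) h7
  refine ⟨fun i => (Fin.cons x (z ^ (orderOf z / m)) : Fin (s + 1) → GL (Fin n) F)
    (Fin.cast (by omega) i), ?_⟩
  have hy : orderOf (z ^ (orderOf z / m)) = m := orderOf_pow_orderOf_div (orderOf_pos z).ne' hmL
  rw [orderOf_eq_iff (orderOf_pos f)]
  refine ⟨?_, ?_⟩
  · funext i
    simp only [Pi.pow_apply, Pi.one_apply]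
    refine Fin.cases ?_ ?_ (Fin.cast (show (n + 3) / 2 = s + 1 by omega) i)
    · simp [hN, pow_mul, ← hx, pow_orderOf_eq_one]
    · intro j
      rw [Fin.cons_succ, hN, mul_comm, pow_mul]
      have : (z ^ (orderOf z / m)) j ^ m = 1 := by
        have := congrFun (pow_orderOf_eq_one (z ^ (orderOf z / m))) j
        rwa [hy] at this
      rw [this, one_pow]
  · intro t ht ht0 hpow
    have hxt : x ^ t = 1 := by
      have := congrFun hpow (Fin.cast (show s + 1 = (n + 3) / 2 by omega) 0)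
      simpa using this
    have hyt : (z ^ (orderOf z / m)) ^ t = 1 := by
      funext j
      have := congrFun hpow (Fin.cast (show s + 1 = (n + 3) / 2 by omega) j.succ)
      simpa using this
    have h1 := orderOf_dvd_of_pow_eq_one hxt
    have h2 := orderOf_dvd_of_pow_eq_one hyt
    rw [hx] at h1; rw [hy] at h2
    have : orderOf f ∣ t := hN ▸
      Nat.Coprime.mul_dvd_of_dvd_of_dvd (Nat.Coprime.pow_left _ (Nat.coprime_two_left.mpr hm)) h1 h2
    exact absurd (Nat.le_of_dvd ht0 this) (by omega)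

/-- Let F be the field with two elements, n ≥ 2, L = PSL(n, F) and k₀ = ⌊(n + 3)/2⌋. Then for every k ≥ k₀ the direct product of k copies of L has the same set of element orders as the direct product of k₀ copies of L. -/
theorem result {F : Type*} [Field F] [Fintype F] (hF : Fintype.card F = 2) (n k : ℕ) (hn : 2 ≤ n) (hk : (n + 3) / 2 ≤ k) :
    Set.range (orderOf : (Fin k → Matrix.ProjectiveSpecialLinearGroup (Fin n) F) → ℕ) = Set.range (orderOf : (Fin ((n + 3) / 2) → Matrix.ProjectiveSpecialLinearGroup (Fin n) F) → ℕ) := by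
  obtain ⟨e⟩ := exists_equiv hF n hn
  apply Set.Subset.antisymm
  · rintro _ ⟨f, rfl⟩
    obtain ⟨f', hf'⟩ := key hF n k hn (fun i => e (f i))
    refine ⟨fun i => e.symm (f' i), ?_⟩
    exact ((MulEquiv.piCongrRight fun _ : Fin ((n + 3) / 2) => e.symm).orderOf_eq f').trans
      (hf'.trans ((MulEquiv.piCongrRight fun _ : Fin k => e).orderOf_eq f))
  · rintro _ ⟨f, rfl⟩
    refine ⟨fun i => if h : i.val < (n + 3) / 2 then f ⟨i.val, h⟩ else 1, ?_⟩
    rw [orderOf_eq_orderOf_iff]
    intro t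
    constructor
    · intro h; funext i
      have := congrFun h ⟨i.val, lt_of_lt_of_le i.isLt hk⟩
      simpa [i.isLt] using this
    · intro h; funext i
      by_cases hi : i.val < (n + 3) / 2
      · simpa [hi] using congrFun h ⟨i.val, hi⟩
      · simp [hi]

end Cfsg.Agent.S2513
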