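import Cfsg.Statements.S2514
import Mathlib.GroupTheory.OrderOfElement
import Mathlib.Data.Set.Card
import Mathlib.Data.Fin.Tuple.Basic

set_option autoImplicit false
open Cfsg

namespace Cfsg.Agent.S2514

theorem exists_maximal_order {G : Type*} [Group G] [Finite G] (g : G) :
    ∃ m ∈ {n : ℕ | n ∈ Set.range (orderOf : G → ℕ) ∧
      ∀ m ∈ Set.range (orderOf : G → ℕ), n ∣ m → m = n}, orderOf g ∣ m := by
  have hfin := (Set.toFinite {x : G | orderOf g ∣ orderOf x})
  obtain ⟨x, hx, hmax⟩ := hfin.exists_maximalFor orderOf _ ⟨g, dvd_rfl⟩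
  refine ⟨orderOf x, ⟨⟨x, rfl⟩, ?_⟩, hx⟩
  rintro _ ⟨y, rfl⟩ hy
  exact le_antisymm (hmax (hx.trans hy) (Nat.le_of_dvd (orderOf_pos y) hy))
    (Nat.le_of_dvd (orderOf_pos y) hy)

theorem exists_order_of_dvd {G : Type*} [Group G] [Finite G] {d : ℕ} {z : G} (hd : d ∣ orderOf z) :
    ∃ y : G, orderOf y = d := by
  refine ⟨z ^ (orderOf z / d), ?_⟩
  rw [orderOf_pow_of_dvd (Nat.div_pos (Nat.le_of_dvd (orderOf_pos z) hd)
    (Nat.pos_of_dvd_of_pos hd (orderOf_pos z))).ne' (Nat.div_dvd_of_dvd hd),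
    Nat.div_div_self hd (orderOf_pos z).ne']

theorem pow_eq_one_congr {G H : Type*} [Monoid G] [Monoid H] {x : G} {y : H}
    (h : orderOf x = orderOf y) (n : ℕ) : x ^ n = 1 ↔ y ^ n = 1 := by
  rw [← orderOf_dvd_iff_pow_eq_one, ← orderOf_dvd_iff_pow_eq_one, h]

/-- For a finite group X write μ(X) for the set of element orders of X that are maximal under divisibility. Let G and H be finite groups and k ≥ 1 such that μ(H) ⊆ μ(G) and μ(G) has fewer than k elements outside μ(H). Then the direct product of k copies of G has the same set of element orders as the direct product of k − 1 copies of G with H. -/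
theorem result {G H : Type*} [Group G] [Finite G] [Group H] [Finite H] (k : ℕ) (hk : 1 ≤ k)
    (hsub : {n : ℕ | n ∈ Set.range (orderOf : H → ℕ) ∧ ∀ m ∈ Set.range (orderOf : H → ℕ), n ∣ m → m = n} ⊆ {n : ℕ | n ∈ Set.range (orderOf : G → ℕ) ∧ ∀ m ∈ Set.range (orderOf : G → ℕ), n ∣ m → m = n})
    (hfew : ({n : ℕ | n ∈ Set.range (orderOf : G → ℕ) ∧ ∀ m ∈ Set.range (orderOf : G → ℕ), n ∣ m → m = n} \ {n : ℕ | n ∈ Set.range (orderOf : H → ℕ) ∧ ∀ m ∈ Set.range (orderOf : H → ℕ), n ∣ m → m = n}).ncard < k) :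
    Set.range (orderOf : (Fin k → G) → ℕ) = Set.range (orderOf : (Fin (k - 1) → G) × H → ℕ) := by
  obtain ⟨j, rfl⟩ : ∃ j, k = j + 1 := ⟨k - 1, by omega⟩
  rw [show j + 1 - 1 = j from rfl]
  apply Set.Subset.antisymm
  · rintro _ ⟨f, rfl⟩
    choose m hm hdvd using fun i => exists_maximal_order (f i)
    by_cases hH : ∃ i, m i ∈ {n : ℕ | n ∈ Set.range (orderOf : H → ℕ) ∧
        ∀ m ∈ Set.range (orderOf : H → ℕ), n ∣ m → m = n}
    · obtain ⟨i, ⟨y, hy⟩, -⟩ := hH
      obtain ⟨h, hh⟩ := exists_order_of_dvd (z := y) (d := orderOf (f i)) (hy ▸ hdvd i)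
      refine ⟨(fun t => f (i.succAbove t), h), orderOf_eq_orderOf_iff.mpr fun n => ?_⟩
      rw [Prod.pow_mk, Prod.mk_eq_one, funext_iff, funext_iff, Fin.forall_iff_succAbove i,
        pow_eq_one_congr hh n]
      simp only [Pi.pow_apply, Pi.one_apply]
      exact and_comm
    · obtain ⟨i, -, l, -, hil, hml⟩ := Set.exists_ne_map_eq_of_ncard_lt_of_maps_to
        (s := (Set.univ : Set (Fin (j + 1))))
        (t := {n : ℕ | n ∈ Set.range (orderOf : G → ℕ) ∧ ∀ m ∈ Set.range (orderOf : G → ℕ), n ∣ m → m = n} \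
          {n : ℕ | n ∈ Set.range (orderOf : H → ℕ) ∧ ∀ m ∈ Set.range (orderOf : H → ℕ), n ∣ m → m = n})
        (f := m) (by rwa [Set.ncard_univ, Nat.card_fin])
        (fun i _ => ⟨hm i, fun h => hH ⟨i, h⟩⟩) ((Set.finite_range (orderOf : G → ℕ)).subset fun n hn => hn.1.1)
      obtain ⟨y, hy⟩ := (hm i).1
      obtain ⟨z, hz⟩ := exists_order_of_dvd (z := y) (d := Nat.lcm (orderOf (f i)) (orderOf (f l)))
        (hy ▸ Nat.lcm_dvd (hdvd i) (hml ▸ hdvd l))
      refine ⟨(fun t => Function.update f l z (i.succAbove t), 1), orderOf_eq_orderOf_iff.mpr fun n => ?_⟩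
      have hzn : z ^ n = 1 ↔ f i ^ n = 1 ∧ f l ^ n = 1 := by
        rw [← orderOf_dvd_iff_pow_eq_one, ← orderOf_dvd_iff_pow_eq_one, ← orderOf_dvd_iff_pow_eq_one, hz,
          Nat.lcm_dvd_iff]
      rw [Prod.pow_mk, Prod.mk_eq_one, one_pow, funext_iff, funext_iff]
      simp only [Pi.pow_apply, Pi.one_apply, and_true]
      refine ⟨fun h t => ?_, fun h t => ?_⟩
      · obtain ⟨u, hu⟩ := Fin.exists_succAbove_eq (x := l) (y := i) (Ne.symm hil)
        have hu' := h u
        rw [hu, Function.update_self] at hu'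
        rcases eq_or_ne t i with rfl | hti
        · exact (hzn.mp hu').1
        · rcases eq_or_ne t l with rfl | htl
          · exact (hzn.mp hu').2
          · obtain ⟨v, rfl⟩ := Fin.exists_succAbove_eq (x := t) (y := i) hti
            have := h v
            rwa [Function.update_of_ne htl] at this
      · rcases eq_or_ne (i.succAbove t) l with e | e
        · rw [e, Function.update_self]; exact hzn.mpr ⟨h i, h l⟩
        · rw [Function.update_of_ne e]; exact h _
  · rintro _ ⟨⟨f, h⟩, rfl⟩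
    obtain ⟨m, hm, hdvd⟩ := exists_maximal_order h
    obtain ⟨y, hy⟩ := (hsub hm).1
    obtain ⟨z, hz⟩ := exists_order_of_dvd (z := y) (d := orderOf h) (hy ▸ hdvd)
    refine ⟨Fin.cons z f, orderOf_eq_orderOf_iff.mpr fun n => ?_⟩
    rw [Prod.pow_mk, Prod.mk_eq_one, funext_iff, funext_iff, Fin.forall_fin_succ, ← pow_eq_one_congr hz n]
    simp only [Pi.pow_apply, Pi.one_apply, Fin.cons_zero, Fin.cons_succ]
    exact and_comm

end Cfsg.Agent.S2514
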