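import Cfsg.Statements.S2515
import Cfsg.Agent.Lib.Recog.TwistedModuleThree
-- import your own Cfsg.Agent.* helpers here

set_option autoImplicit false
open Cfsg

namespace Cfsg.Agent.S2515

/-- Let q = 3^α with α ≥ 3 odd. There is a finite group H having a non-trivial normal 3-subgroup and whose element orders maximal under divisibility are exactly 6, 9, q − 1 and (q + 1)/2. -/
theorem result (α : ℕ) (hα : 3 ≤ α) (hodd : Odd α) :
    ∃ (H : Type) (_ : Group H) (_ : Fintype H), (∃ P : Subgroup H, P.Normal ∧ P ≠ ⊥ ∧ IsPGroup 3 ↥P) ∧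
      {n : ℕ | n ∈ Set.range (orderOf : H → ℕ) ∧ ∀ m ∈ Set.range (orderOf : H → ℕ), n ∣ m → m = n} = ({6, 9, 3 ^ α - 1, (3 ^ α + 1) / 2} : Set ℕ) := by
  classical
  haveI : Fact (Nat.Prime 3) := ⟨Nat.prime_three⟩
  let K := GaloisField 3 α
  haveI : Fintype K := Fintype.ofFinite K
  have hK : Fintype.card K = 3 ^ α := by
    rw [← Nat.card_eq_fintype_card]; exact GaloisField.card 3 α (by omega)
  obtain ⟨a, ha⟩ := hodd
  have hmod : 3 ^ α % 4 = 3 := by
    rw [ha, pow_succ, pow_mul, Nat.mul_mod, Nat.pow_mod]; norm_num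
  have h27 : 27 ≤ 3 ^ α := le_trans (by norm_num) (Nat.pow_le_pow_right (by norm_num) hα)
  have h3d : 3 ∣ 3 ^ α := dvd_pow_self 3 (by omega)
  let W := Multiplicative (Matrix (Fin 2) (Fin 2) K)
  let G := ℤˣ × Matrix.ProjectiveSpecialLinearGroup (Fin 2) K
  let H := W ⋊[Cfsg.Agent.Recog.TwistThree.phi (K := K)] G
  haveI : Finite H := Finite.of_equiv _ SemidirectProduct.equivProd.symm
  refine ⟨H, inferInstance, Fintype.ofFinite H, ⟨(SemidirectProduct.inl : W →* H).range, ?_, ?_, ?_⟩, ?_⟩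
  · rw [SemidirectProduct.range_inl_eq_ker_rightHom]; infer_instance
  · intro hbot
    have h1 : (SemidirectProduct.inl (Multiplicative.ofAdd (1 : Matrix (Fin 2) (Fin 2) K)) : H) ∈
        (SemidirectProduct.inl : W →* H).range := ⟨_, rfl⟩
    rw [hbot, Subgroup.mem_bot] at h1
    have h2 := congrArg (fun x : H => x.left.toAdd) h1
    simp at h2
  · rintro ⟨x, v, rfl⟩
    refine ⟨1, Subtype.ext ?_⟩
    show (SemidirectProduct.inl v : H) ^ 3 ^ 1 = 1
    rw [pow_one, ← map_pow, ← map_one (SemidirectProduct.inl : W →* H)]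
    congr 1
    refine toAdd_eq_zero.1 ?_
    rw [toAdd_pow]
    ext i j
    simp only [Matrix.smul_apply, Matrix.zero_apply, nsmul_eq_mul, CharP.cast_eq_zero, zero_mul]
  have hall : ∀ h : H, orderOf h ∣ 6 ∨ orderOf h ∣ 9 ∨ orderOf h ∣ 3 ^ α - 1 ∨ orderOf h ∣ (3 ^ α + 1) / 2 := by
    intro h
    have := Cfsg.Agent.Recog.TwistThree.orders (K := K) (by rw [hK]; exact hmod) h
    rwa [hK] at this
  have hord : ∀ (e : ℤˣ) (g : Matrix.ProjectiveSpecialLinearGroup (Fin 2) K),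
      orderOf (SemidirectProduct.inr (e, g) : H) = Nat.lcm (orderOf e) (orderOf g) := fun e g => by
    rw [orderOf_injective _ SemidirectProduct.inr_injective, Prod.orderOf]
  have hneg : orderOf (-1 : ℤˣ) = 2 := orderOf_eq_prime (Int.units_sq _) (by decide)
  have hodd' : Odd (Fintype.card K) := by rw [hK]; exact Nat.odd_iff.2 (by omega)
  obtain ⟨u, hu⟩ := Cfsg.Agent.Recog.PGLTwo.exists_psl_order_char (F := K) (p := 3)
  obtain ⟨s₁, hs₁, -⟩ := Cfsg.Agent.Recog.PGLTwo.exists_psl_split (F := K) hodd' (by omega)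
  obtain ⟨s₂, hs₂, -⟩ := Cfsg.Agent.Recog.PGLTwo.exists_psl_elliptic (F := K) hodd' (by omega)
  rw [hK] at hs₁ hs₂
  have hmem : ∀ n ∈ ({6, 9, 3 ^ α - 1, (3 ^ α + 1) / 2} : Set ℕ), n ∈ Set.range (orderOf : H → ℕ) := by
    rintro n (rfl | rfl | rfl | hn)
    · exact ⟨SemidirectProduct.inr (-1, u), by rw [hord, hneg, hu]; rfl⟩
    · exact Cfsg.Agent.Recog.TwistThree.exists_nine (K := K)
    · refine ⟨SemidirectProduct.inr (-1, QuotientGroup.mk s₁), ?_⟩
      rw [hord, hneg, hs₁, Nat.Coprime.lcm_eq_mul (Nat.coprime_two_left.2 (Nat.odd_iff.2 (by omega)))]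
      omega
    · rw [Set.mem_singleton_iff.1 hn]
      refine ⟨SemidirectProduct.inr (1, QuotientGroup.mk s₂), ?_⟩
      rw [hord, orderOf_one, hs₂, Nat.lcm_one_left]
  have hnd : ∀ d n : ℕ, n % d ≠ 0 → ¬ d ∣ n := fun d n h hd => h (Nat.mod_eq_zero_of_dvd hd)
  have hanti : ∀ a ∈ ({6, 9, 3 ^ α - 1, (3 ^ α + 1) / 2} : Set ℕ),
      ∀ b ∈ ({6, 9, 3 ^ α - 1, (3 ^ α + 1) / 2} : Set ℕ), a ∣ b → a = b := by
    have e1 : ¬ 3 ∣ 3 ^ α - 1 := fun h => by omega
    have e2 : ¬ 3 ∣ (3 ^ α + 1) / 2 := fun h => by omega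
    have e3 : ¬ (3 ^ α - 1) ∣ (3 ^ α + 1) / 2 := fun h => by have := Nat.le_of_dvd (by omega) h; omega
    have e4 : ¬ ((3 ^ α + 1) / 2) ∣ 3 ^ α - 1 := fun h => by
      have h1 := Nat.dvd_sub (Nat.dvd_mul_left ((3 ^ α + 1) / 2) 2) h
      rw [show 2 * ((3 ^ α + 1) / 2) - (3 ^ α - 1) = 2 by omega] at h1
      have := Nat.le_of_dvd two_pos h1
      omega
    rintro a (rfl | rfl | rfl | ha) b (rfl | rfl | rfl | hb) hab <;>
      first
      | rfl
      | (rw [Set.mem_singleton_iff] at *; subst_vars; first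
          | rfl
          | exact absurd hab (by decide)
          | exact absurd ((show 3 ∣ 6 by norm_num).trans hab) e1
          | exact absurd ((show 3 ∣ 6 by norm_num).trans hab) e2
          | exact absurd ((show 3 ∣ 9 by norm_num).trans hab) e1
          | exact absurd ((show 3 ∣ 9 by norm_num).trans hab) e2
          | exact absurd hab e3
          | exact absurd hab e4
          | (exfalso; have := Nat.le_of_dvd (by norm_num) hab; omega))
      | exact absurd hab (by decide)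
      | exact absurd ((show 3 ∣ 6 by norm_num).trans hab) e1
      | exact absurd ((show 3 ∣ 9 by norm_num).trans hab) e1
      | (exfalso; have := Nat.le_of_dvd (by norm_num) hab; omega)
  ext n
  constructor
  · rintro ⟨⟨h, rfl⟩, hmax⟩
    rcases hall h with h' | h' | h' | h'
    · exact hmax 6 (hmem _ (Or.inl rfl)) h' ▸ Or.inl rfl
    · exact hmax 9 (hmem _ (Or.inr (Or.inl rfl))) h' ▸ Or.inr (Or.inl rfl)
    · exact hmax _ (hmem _ (Or.inr (Or.inr (Or.inl rfl)))) h' ▸ Or.inr (Or.inr (Or.inl rfl))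
    · exact hmax _ (hmem _ (Or.inr (Or.inr (Or.inr rfl)))) h' ▸ Or.inr (Or.inr (Or.inr rfl))
  · intro hn
    refine ⟨hmem n hn, ?_⟩
    rintro m ⟨h, rfl⟩ hdvd
    rcases hall h with h' | h' | h' | h'
    · exact Nat.dvd_antisymm (hanti n hn 6 (Or.inl rfl) (hdvd.trans h') ▸ h') hdvd
    · exact Nat.dvd_antisymm (hanti n hn 9 (Or.inr (Or.inl rfl)) (hdvd.trans h') ▸ h') hdvd
    · exact Nat.dvd_antisymm (hanti n hn _ (Or.inr (Or.inr (Or.inl rfl))) (hdvd.trans h') ▸ h') hdvd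
    · exact Nat.dvd_antisymm (hanti n hn _ (Or.inr (Or.inr (Or.inr rfl))) (hdvd.trans h') ▸ h') hdvd

end Cfsg.Agent.S2515
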