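import Cfsg.Statements.S2516
import Mathlib

set_option autoImplicit false
open Cfsg

namespace Cfsg.Agent.S2516

/-- Let F be a field of characteristic p > 0, V a non-zero finite-dimensional F-vector space, G a finite group and ρ a representation of G on V; form the semidirect product V ⋊ G. For g ∈ G of order k, the coset Vg contains an element of order pk if and only if the minimal polynomial of ρ(g) does not divide 1 + X + ⋯ + X^(k−1). -/
theorem result {F : Type*} [Field F] (p : ℕ) [Fact p.Prime] [CharP F p] {V : Type*} [AddCommGroup V] [Module F V] [FiniteDimensional F V] [Nontrivial V]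
    {G : Type*} [Group G] [Finite G] (ρ : Representation F G V) (g : G) :
    (∃ x : Multiplicative V ⋊[(MulAutMultiplicative V).symm.toMonoidHom.comp
        ((DistribMulAction.toAddAut ((V →ₗ[F] V)ˣ) V).comp ρ.asGroupHom)] G,
        x.right = g ∧ orderOf x = p * orderOf g) ↔
      ¬ (minpoly F (ρ g) ∣ ∑ i ∈ Finset.range (orderOf g), (Polynomial.X : Polynomial F) ^ i) := by
  classical
  set φ := ((MulAutMultiplicative V).symm.toMonoidHom.comp
        ((DistribMulAction.toAddAut ((V →ₗ[F] V)ˣ) V).comp ρ.asGroupHom)) with hφ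
  set k := orderOf g
  have hk : 0 < k := orderOf_pos g
  have hφa : ∀ (h : G) (v : Multiplicative V), φ h v = Multiplicative.ofAdd (ρ h v.toAdd) :=
    fun h v => rfl
  have hpow : ∀ (x : Multiplicative V ⋊[φ] G), x.right = g → ∀ i : ℕ, (x ^ i).right = g ^ i ∧
      ((x ^ i).left).toAdd = (∑ j ∈ Finset.range i, (ρ g) ^ j) x.left.toAdd := by
    intro x hx i
    induction i with
    | zero => exact ⟨by simp, by simp⟩
    | succ i ih =>
      refine ⟨by rw [pow_succ, SemidirectProduct.mul_right, ih.1, hx, pow_succ], ?_⟩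
      rw [pow_succ, SemidirectProduct.mul_left, ih.1, toAdd_mul, ih.2, hφa, toAdd_ofAdd,
        Finset.sum_range_succ, LinearMap.add_apply, map_pow]
  have key : (∑ j ∈ Finset.range k, (ρ g) ^ j) ≠ 0 ↔
      ¬ (minpoly F (ρ g) ∣ ∑ i ∈ Finset.range k, (Polynomial.X : Polynomial F) ^ i) := by
    rw [minpoly.dvd_iff, map_sum]
    simp only [map_pow, Polynomial.aeval_X, ne_eq]
  have hord : ∀ x : Multiplicative V ⋊[φ] G, x.right = g → ∀ i, x ^ i = 1 →
      k ∣ i := by
    intro x hx i hi
    refine orderOf_dvd_of_pow_eq_one ?_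
    rw [← (hpow x hx i).1, hi]; rfl
  have hxk : ∀ x : Multiplicative V ⋊[φ] G, x.right = g →
      x ^ k = SemidirectProduct.inl (Multiplicative.ofAdd
        ((∑ j ∈ Finset.range k, (ρ g) ^ j) x.left.toAdd)) := fun x hx =>
    SemidirectProduct.ext (by rw [SemidirectProduct.left_inl, ← (hpow x hx k).2, ofAdd_toAdd])
      (by rw [(hpow x hx k).1, pow_orderOf_eq_one, SemidirectProduct.right_inl])
  rw [← key]
  constructor
  · rintro ⟨x, hx, hxo⟩ h0
    have : x ^ k = 1 := by rw [hxk x hx, h0]; simp
    have h1 := Nat.le_of_dvd hk (orderOf_dvd_of_pow_eq_one this)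
    rw [hxo] at h1
    have := Nat.mul_le_mul_right k (Fact.out : p.Prime).two_le
    omega
  · intro hne
    obtain ⟨v, hv⟩ : ∃ v, (∑ j ∈ Finset.range k, (ρ g) ^ j) v ≠ 0 := by
      by_contra h
      push Not at h
      exact hne (LinearMap.ext h)
    refine ⟨⟨Multiplicative.ofAdd v, g⟩, rfl, ?_⟩
    set x : Multiplicative V ⋊[φ] G := ⟨Multiplicative.ofAdd v, g⟩ with hxdef
    set w := Multiplicative.ofAdd ((∑ j ∈ Finset.range k, (ρ g) ^ j) v)
    have hw : orderOf w = p := by
      refine orderOf_eq_prime ?_ (fun h => hv (Multiplicative.ofAdd.injective h))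
      refine Multiplicative.toAdd.injective ?_
      rw [toAdd_pow, toAdd_one]
      show p • _ = (0 : V)
      rw [← Nat.cast_smul_eq_nsmul F, CharP.cast_eq_zero, zero_smul]
    refine Nat.dvd_antisymm (orderOf_dvd_of_pow_eq_one ?_) ?_
    · rw [mul_comm, pow_mul, hxk x rfl, ← map_pow]
      show SemidirectProduct.inl (w ^ p) = 1
      rw [← hw, pow_orderOf_eq_one, map_one]
    · obtain ⟨c, hc⟩ := hord x rfl _ (pow_orderOf_eq_one x)
      have h1 : x ^ (k * c) = 1 := by rw [← hc, pow_orderOf_eq_one]
      rw [pow_mul, hxk x rfl, ← map_pow] at h1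
      have h2 : w ^ c = 1 := SemidirectProduct.inl_injective (h1.trans (map_one _).symm)
      rw [hc, mul_comm k c]
      exact Nat.mul_dvd_mul_right (hw ▸ orderOf_dvd_of_pow_eq_one h2) k

end Cfsg.Agent.S2516
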