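import Cfsg.Statements.S2518
import Cfsg.Agent.Lib.G2Three.Graph
import Cfsg.Agent.Lib.G2Three.Thirteen

set_option autoImplicit false
open Cfsg

namespace Cfsg.Agent.S2518

/-- Let F₃ be the field with 3 elements and F₁₃ the field with 13 elements. The Chevalley group G₂(F₃) and PSL(2, F₁₃) have the same prime graph: the same prime divisors of their orders, and for distinct primes r, s an element of order rs in one iff in the other. -/
theorem result {F : Type*} [Field F] [Fintype F] (hF : Fintype.card F = 3) {E : Type*} [Field E] [Fintype E] (hE : Fintype.card E = 13) :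
    ((∀ r : ℕ, r.Prime → (r ∣ Nat.card ↥(Cfsg.Lie.chevG2.group F) ↔ r ∣ Nat.card (Matrix.ProjectiveSpecialLinearGroup (Fin 2) E))) ∧
      (∀ r s : ℕ, r.Prime → s.Prime → r ≠ s → ((∃ x : ↥(Cfsg.Lie.chevG2.group F), orderOf x = r * s) ↔ (∃ y : (Matrix.ProjectiveSpecialLinearGroup (Fin 2) E), orderOf y = r * s)))) := by
  classical
  have hP := G2Three.card_thirteen hE
  have hG := G2Three.card_group hF
  refine ⟨fun r hr => ?_, fun r s hr hs hne => ?_⟩
  · rw [hP, hG, show (1092 : ℕ) = 2 ^ 2 * 3 * 7 * 13 by norm_num]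
    have e : ∀ k : ℕ, ∀ n : ℕ, r ∣ n ^ (k + 1) ↔ r ∣ n := fun k n =>
      ⟨hr.dvd_of_dvd_pow, fun h => h.trans (dvd_pow_self n k.succ_ne_zero)⟩
    simp only [hr.dvd_mul, e 5, e 1]
  · rw [G2Three.edge_iff hF hr hs hne]
    refine ⟨fun h => h ▸ G2Three.exists_order_six hE, fun ⟨y, hy⟩ => ?_⟩
    have hnp : ¬ (r * s).Prime := Nat.not_prime_mul hr.ne_one hs.ne_one
    have h1 : r * s ≠ 1 := fun h => hr.ne_one (Nat.eq_one_of_mul_eq_one_right h)
    rcases G2Three.orders_thirteen hE y with h | h | h <;> rw [hy] at h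
    · rcases (Nat.dvd_prime (by norm_num)).1 h with e | e
      · exact absurd e h1
      · exact absurd (e ▸ (by norm_num : Nat.Prime 13)) hnp
    · rcases (Nat.dvd_prime (by norm_num)).1 h with e | e
      · exact absurd e h1
      · exact absurd (e ▸ (by norm_num : Nat.Prime 7)) hnp
    · have := Nat.le_of_dvd (by norm_num) h
      have h2r := hr.two_le
      have h2s := hs.two_le
      have key : ∀ n ∈ Nat.divisors 6, 4 ≤ n → n = 6 := by decide
      exact key _ (Nat.mem_divisors.2 ⟨h, by norm_num⟩) (Nat.mul_le_mul h2r h2s)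

end Cfsg.Agent.S2518
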