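import Cfsg.Statements.S2519
import Cfsg.Agent.Lib.G2Odd.Witness

set_option autoImplicit false
open Cfsg

namespace Cfsg.Agent.S2519

/-- Let F be a finite field of odd order q = p^a ≥ 5. The element orders of the Chevalley group G₂(F) that are maximal under divisibility are exactly p(q + 1), p(q − 1), q² − 1, q² + q + 1, q² − q + 1, together with p² when p is 3 or 5. -/
theorem result {F : Type*} [Field F] [Fintype F] (p a : ℕ) (hp : p.Prime) (hp2 : p ≠ 2) (ha : 1 ≤ a) (hF : Fintype.card F = p ^ a) (hq5 : 5 ≤ Fintype.card F) :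
    {n : ℕ | n ∈ Set.range (orderOf : ↥(Cfsg.Lie.chevG2.group F) → ℕ) ∧ ∀ m ∈ Set.range (orderOf : ↥(Cfsg.Lie.chevG2.group F) → ℕ), n ∣ m → m = n} =
      ({p * (p ^ a + 1), p * (p ^ a - 1), p ^ (2 * a) - 1, p ^ (2 * a) + p ^ a + 1, p ^ (2 * a) - p ^ a + 1} : Set ℕ) ∪
        (if p = 3 ∨ p = 5 then ({p ^ 2} : Set ℕ) else ∅) := by
  classical
  haveI : Fact p.Prime := ⟨hp⟩
  haveI : CharP F p := charP_of_card_eq_prime_pow hF
  haveI : CharP (AlgebraicClosure F) p :=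
    charP_of_injective_algebraMap (algebraMap F (AlgebraicClosure F)).injective p
  have h2 : (2 : F) ≠ 0 := Ring.two_ne_zero (by rwa [ringChar.eq F p])
  let S : G2Odd.Setup F (AlgebraicClosure F) :=
    ⟨p, a, hp, hp2, ha, hF, hF ▸ hq5, h2, algebraMap F (AlgebraicClosure F), iterateFrobenius (AlgebraicClosure F) p a,
      fun t => iterateFrobenius_def (R := AlgebraicClosure F) p a t⟩
  haveI : CharP (AlgebraicClosure F) S.p := ‹CharP (AlgebraicClosure F) p›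
  have hsq : p ^ (2 * a) = p ^ a * p ^ a := by rw [two_mul, pow_add]
  have occurs : ∀ N, G2Odd.Bound (p ^ a) p N →
      N ∈ Set.range (orderOf : ↥(Cfsg.Lie.chevG2.group F) → ℕ) := by
    intro N hN
    rcases hN with rfl | rfl | rfl | rfl | rfl | ⟨h35, rfl⟩
    exacts [G2Odd.occurs_plus S, G2Odd.occurs_minus S, G2Odd.occurs_sq S, G2Odd.occurs_cubic_plus S,
      G2Odd.occurs_cubic_minus S, G2Odd.occurs_square S h35]
  have hq : 5 ≤ p ^ a := hF ▸ hq5
  have hdvd : p ∣ p ^ a := dvd_pow_self p (by omega)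
  have hset : ∀ n, n ∈ (({p * (p ^ a + 1), p * (p ^ a - 1), p ^ a * p ^ a - 1, p ^ a * p ^ a + p ^ a + 1,
      p ^ a * p ^ a - p ^ a + 1} : Set ℕ) ∪ (if p = 3 ∨ p = 5 then ({p ^ 2} : Set ℕ) else ∅)) ↔
      G2Odd.Bound (p ^ a) p n := by
    intro n
    by_cases h35 : p = 3 ∨ p = 5 <;> simp [G2Odd.Bound, h35, or_assoc, pow_two] <;> tauto
  rw [hsq]
  refine Set.ext fun n => ?_
  rw [hset n]
  constructor
  · rintro ⟨⟨g, rfl⟩, hmax⟩
    obtain ⟨N, hN, hd⟩ := G2Odd.upper p a hp hp2 ha hF hq5 g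
    rw [← hmax N (occurs N hN) hd]
    exact hN
  · intro hn
    refine ⟨occurs n hn, ?_⟩
    rintro m ⟨g, rfl⟩ hd
    obtain ⟨N, hN, hdN⟩ := G2Odd.upper p a hp hp2 ha hF hq5 g
    obtain rfl : n = N := G2Odd.antichain hp hdvd hq hn hN (hd.trans hdN)
    exact Nat.dvd_antisymm hdN hd

end Cfsg.Agent.S2519
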