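import Cfsg.Statements.S2520
import Cfsg.Agent.Lib.G2Spec.Witness

set_option autoImplicit false
open Cfsg

namespace Cfsg.Agent.S2520

/-- Let F be a finite field with q = 2^a ≥ 4 elements and G₂(F) the Chevalley group of type G₂ over it. Every element order of G₂(F) maximal under divisibility lies in the set {8, 12, 2(q + 1), 2(q − 1), q² − 1, q² + q + 1, q² − q + 1}, and every member of that set is an element order of G₂(F). -/
theorem result {F : Type*} [Field F] [Fintype F] (a : ℕ) (ha : 2 ≤ a) (hF : Fintype.card F = 2 ^ a) :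
    {n : ℕ | n ∈ Set.range (orderOf : ↥(Cfsg.Lie.chevG2.group F) → ℕ) ∧ ∀ m ∈ Set.range (orderOf : ↥(Cfsg.Lie.chevG2.group F) → ℕ), n ∣ m → m = n} ⊆ ({8, 12, 2 * (2 ^ a + 1), 2 * (2 ^ a - 1), 2 ^ (2 * a) - 1, 2 ^ (2 * a) + 2 ^ a + 1, 2 ^ (2 * a) - 2 ^ a + 1} : Set ℕ) ∧
    ({8, 12, 2 * (2 ^ a + 1), 2 * (2 ^ a - 1), 2 ^ (2 * a) - 1, 2 ^ (2 * a) + 2 ^ a + 1, 2 ^ (2 * a) - 2 ^ a + 1} : Set ℕ) ⊆ Set.range (orderOf : ↥(Cfsg.Lie.chevG2.group F) → ℕ) := by
  classical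
  haveI : Fact (Nat.Prime 2) := ⟨Nat.prime_two⟩
  haveI : CharP F 2 := charP_of_card_eq_prime_pow hF
  haveI : CharP (AlgebraicClosure F) 2 :=
    charP_of_injective_algebraMap (algebraMap F (AlgebraicClosure F)).injective 2
  let S : G2Spec.Setup F (AlgebraicClosure F) :=
    ⟨a, ha, hF, algebraMap F (AlgebraicClosure F), iterateFrobenius (AlgebraicClosure F) 2 a,
      fun t => iterateFrobenius_def (R := AlgebraicClosure F) 2 a t⟩
  have hsq : (2 : ℕ) ^ (2 * a) = 2 ^ a * 2 ^ a := by rw [two_mul, pow_add]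
  have occurs : ∀ N, G2Spec.Bound (2 ^ a) N →
      N ∈ Set.range (orderOf : ↥(Cfsg.Lie.chevG2.group F) → ℕ) := by
    intro N hN
    rcases hN with rfl | rfl | rfl | rfl | rfl | rfl | rfl
    exacts [G2Spec.occurs_eight S, G2Spec.occurs_twelve S, G2Spec.occurs_plus S, G2Spec.occurs_minus S,
      G2Spec.occurs_sq S, G2Spec.occurs_cubic_plus S, G2Spec.occurs_cubic_minus S]
  rw [hsq]
  refine ⟨?_, fun N hN => occurs N (by simpa [G2Spec.Bound] using hN)⟩
  rintro n ⟨⟨g, rfl⟩, hmax⟩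
  obtain ⟨N, hN, hd⟩ := G2Spec.upper a ha hF g
  rw [← hmax N (occurs N hN) hd]
  simpa [G2Spec.Bound] using hN

end Cfsg.Agent.S2520
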