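import Cfsg.Statements.S2521
import Mathlib

set_option autoImplicit false
open Cfsg

namespace Cfsg.Agent.S2521

/-- Let B be a finite group that is the semidirect product of a nilpotent normal subgroup U by an abelian subgroup T (U ∩ T = 1, UT = B), and let t ∈ T have centralizer exactly T. Then every element of the coset tU is conjugate to t in B: for each u ∈ U there is b ∈ B with b t b⁻¹ = t u. -/
theorem result {B : Type*} [Group B] [Finite B] (U T : Subgroup B) [U.Normal] (hU : Group.IsNilpotent ↥U) (hT : IsMulCommutative ↥T)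
    (hcompl : Subgroup.IsComplement' U T) (t : B) (ht : t ∈ T) (hreg : Subgroup.centralizer ({t} : Set B) = T) (u : B) (hu : u ∈ U) :
    ∃ b : B, b * t * b⁻¹ = t * u := by
  classical
  have hcomm : ∀ b : B, b * t * b⁻¹ ∈ {x : B | ∃ u ∈ U, x = t * u} := by
    intro b
    obtain ⟨⟨⟨u₁, hu₁⟩, ⟨s, hs⟩⟩, rfl⟩ := hcompl.surjective b
    refine ⟨t⁻¹ * u₁ * t * u₁⁻¹, U.mul_mem (by
      simpa using (‹U.Normal›.conj_mem u₁ hu₁ t⁻¹)) (U.inv_mem hu₁), ?_⟩
    have hst : s * t = t * s := congrArg Subtype.val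
      (mul_comm' (⟨s, hs⟩ : T) ⟨t, ht⟩)
    show u₁ * s * t * (u₁ * s)⁻¹ = _
    rw [mul_assoc u₁ s t, hst]
    group
  let φ : U → {x : B | ∃ u ∈ U, x = t * u} := fun v => ⟨(v : B) * t * (v : B)⁻¹, hcomm v⟩
  have hinj : Function.Injective φ := by
    intro v w h
    have h' : (v : B) * t * (v : B)⁻¹ = (w : B) * t * (w : B)⁻¹ := congrArg Subtype.val h
    have hmem : (w : B)⁻¹ * v ∈ Subgroup.centralizer ({t} : Set B) := by
      rw [Subgroup.mem_centralizer_singleton_iff]
      calc (w : B)⁻¹ * v * t = (w : B)⁻¹ * ((v : B) * t * (v : B)⁻¹) * v := by group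
        _ = t * ((w : B)⁻¹ * v) := by rw [h']; group
    rw [hreg] at hmem
    have h1 : (w : B)⁻¹ * v ∈ U ⊓ T := ⟨U.mul_mem (U.inv_mem w.2) v.2, hmem⟩
    rw [hcompl.disjoint.eq_bot, Subgroup.mem_bot, inv_mul_eq_one] at h1
    exact (Subtype.ext h1).symm
  let ψ : {x : B | ∃ u ∈ U, x = t * u} → U := fun x => ⟨t⁻¹ * x.1, by
    obtain ⟨u, hu, h⟩ := x.2; rw [h, inv_mul_cancel_left]; exact hu⟩
  have hψ : Function.Injective ψ := fun x y h => Subtype.ext (mul_left_cancel (congrArg Subtype.val h))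
  have hsurj : Function.Surjective φ := by
    have : Function.Injective (ψ ∘ φ) := hψ.comp hinj
    intro x
    obtain ⟨v, hv⟩ := Finite.injective_iff_surjective.1 this (ψ x)
    exact ⟨v, hψ hv⟩
  obtain ⟨v, hv⟩ := hsurj ⟨t * u, u, hu, rfl⟩
  exact ⟨v, congrArg Subtype.val hv⟩

end Cfsg.Agent.S2521
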