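import Cfsg.Statements.S2531
-- import your own Cfsg.Agent.* helpers here

set_option autoImplicit false
open Cfsg

namespace Cfsg.Agent.S2531

variable {F : Type*} [Field F] [Finite F] {V : Type*} [AddCommGroup V] [Module F V]

/-- Counting the points of a non-zero subspace modulo the characteristic. -/
theorem card_points [Fintype F] [Fintype V] [DecidableEq V] [Fintype (Projectivization F V)] (p : ℕ) [Fact p.Prime]
    [CharP F p] (U : Submodule F V) [DecidablePred (fun x : Projectivization F V => x.rep ∈ U)] (hU : U ≠ ⊥) :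
    (((Finset.univ.filter (fun x : Projectivization F V => x.rep ∈ U)).card : ℕ) : ZMod p) = 1 := by
  classical
  haveI := Fintype.ofFinite (Projectivization F U)
  have e : (Finset.univ.filter (fun x : Projectivization F V => x.rep ∈ U)).card = Nat.card (Projectivization F U) := by
    rw [Nat.card_eq_fintype_card, ← Finset.card_univ, eq_comm]
    refine Finset.card_bij (fun y _ => Projectivization.map U.subtype U.injective_subtype y) ?_ ?_ ?_
    · intro y _
      induction y using Projectivization.ind with
      | h v hv =>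
        refine Finset.mem_filter.2 ⟨Finset.mem_univ _, ?_⟩
        rw [Projectivization.map_mk]
        obtain ⟨c, hc⟩ := (Projectivization.mk_eq_mk_iff' F _ _ (Projectivization.rep_nonzero _)
          (by simpa using hv)).1 (Projectivization.mk_rep (Projectivization.mk F (U.subtype v) (by simpa using hv)))
        rw [← hc]
        exact U.smul_mem c v.2
    · intro y _ y' _ h
      exact Projectivization.map_injective _ U.injective_subtype h
    · intro x hx
      refine ⟨Projectivization.mk F ⟨x.rep, (Finset.mem_filter.1 hx).2⟩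
        (fun h => x.rep_nonzero (congrArg Subtype.val h)), Finset.mem_univ _, ?_⟩
      rw [Projectivization.map_mk]
      exact x.mk_rep
  rw [e]
  obtain ⟨k, hk1, hk⟩ := FiniteField.card F p
  have h1 := Projectivization.card' F U
  rw [Nat.card_eq_fintype_card (α := F), Module.natCard_eq_pow_finrank (K := F), Nat.card_eq_fintype_card (α := F)] at h1
  have h2 := congrArg (fun n : ℕ => (n : ZMod p)) h1
  have hq : ((Fintype.card F : ℕ) : ZMod p) = 0 := by
    rw [hk, Nat.cast_pow, ZMod.natCast_self, zero_pow k.ne_zero]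
  have hd : Module.finrank F U ≠ 0 := fun h => hU (Submodule.finrank_eq_zero.1 h)
  simp only [Nat.cast_pow, Nat.cast_add, Nat.cast_mul, Nat.cast_sub (Fintype.card_pos (α := F)), hq,
    zero_pow hd, Nat.cast_one] at h2
  linear_combination h2

/-- Let `F` be a finite field and `n ≥ 3`. No set of permutations of the points of the projective space of `Fⁿ`, each induced by an invertible semilinear transformation of `Fⁿ` (so a subset of the full projective semilinear group), is sharply 2-transitive on the points: it is impossible that for all pairs of distinct points `(a, b)` and `(c, d)` exactly one member of the set sends `a` to `c` and `b` to `d`. -/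
theorem result {F : Type*} [Field F] [Finite F]
    (n : ℕ) (hn : 3 ≤ n) (S : Set (Equiv.Perm (Projectivization F (Fin n → F))))
    (hS : ∀ s ∈ S, ∃ (σ : F ≃+* F) (f : (Fin n → F) →ₛₗ[(σ : F →+* F)] (Fin n → F)) (hf : Function.Injective f),
      ∀ x, s x = Projectivization.map f hf x) :
    ¬ (∀ a b c d : Projectivization F (Fin n → F), a ≠ b → c ≠ d →
        ∃! s, s ∈ S ∧ s a = c ∧ s b = d) := by
  classical
  intro hsharp
  haveI := Fintype.ofFinite F
  haveI : Fintype (Projectivization F (Fin n → F)) := Fintype.ofFinite _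
  obtain ⟨p, hchar⟩ := CharP.exists F
  haveI : Fact p.Prime := ⟨CharP.char_is_prime F p⟩
  have hne : ∀ i : Fin n, (Pi.single i (1 : F) : Fin n → F) ≠ 0 := fun i h => by simpa using congrFun h i
  let i₀ : Fin n := ⟨0, by omega⟩
  set a := Projectivization.mk F (Pi.single i₀ (1 : F) : Fin n → F) (hne i₀) with ha
  obtain ⟨ca, hca⟩ := (Projectivization.mk_eq_mk_iff' F _ _ a.rep_nonzero (hne i₀)).1 a.mk_rep
  set H : Submodule F (Fin n → F) := LinearMap.ker (LinearMap.proj i₀ : (Fin n → F) →ₗ[F] F) with hH
  have hHdim : n - 1 ≤ Module.finrank F H := by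
    have h1 := LinearMap.finrank_range_add_finrank_ker (LinearMap.proj i₀ : (Fin n → F) →ₗ[F] F)
    have h2 := Submodule.finrank_le (LinearMap.range (LinearMap.proj i₀ : (Fin n → F) →ₗ[F] F))
    rw [Module.finrank_fin_fun] at h1
    rw [Module.finrank_self] at h2
    change n - 1 ≤ Module.finrank F (LinearMap.ker _)
    omega
  have haH : a.rep ∉ H := by
    intro h
    rw [← hca, hH, LinearMap.mem_ker] at h
    simp at h
    exact a.rep_nonzero (by rw [← hca, h, zero_smul])
  set Hs := Finset.univ.filter (fun x : Projectivization F (Fin n → F) => x.rep ∈ H) with hHs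
  have hHcard : ((Hs.card : ℕ) : ZMod p) = 1 := card_points p H (fun h => by
    rw [h, finrank_bot] at hHdim; omega)
  have hHne : ∀ x ∈ Hs, x ≠ a := fun x hx h => haH (h ▸ (Finset.mem_filter.1 hx).2)
  obtain ⟨b₀, hb₀⟩ : Hs.Nonempty := Finset.card_ne_zero.1 fun h => by rw [h, Nat.cast_zero] at hHcard; exact zero_ne_one hHcard
  set T := (Finset.univ : Finset (Equiv.Perm (Projectivization F (Fin n → F)))).filter
    (fun s => s ∈ S ∧ s a = a) with hT
  have hone : ∀ x y, x ≠ a → y ≠ a → (T.filter (fun s => s x = y)).card = 1 := by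
    intro x y hx hy
    obtain ⟨s, ⟨hs1, hs2, hs3⟩, huniq⟩ := hsharp a x a y (Ne.symm hx) (Ne.symm hy)
    refine Finset.card_eq_one.2 ⟨s, Finset.ext fun s' => ?_⟩
    simp only [hT, Finset.mem_filter, Finset.mem_univ, true_and, Finset.mem_singleton]
    exact ⟨fun h => huniq s' ⟨h.1.1, h.1.2, h.2⟩, fun h => h ▸ ⟨⟨hs1, hs2⟩, hs3⟩⟩
  have hTcard : ((T.card : ℕ) : ZMod p) = 0 := by
    have hN : ((Fintype.card (Projectivization F (Fin n → F)) : ℕ) : ZMod p) = 1 := by
      have := card_points (F := F) (V := Fin n → F) p (⊤ : Submodule F (Fin n → F)) (fun h => by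
        have := congrArg (fun W : Submodule F (Fin n → F) => Module.finrank F W) h
        simp at this; omega)
      simpa using this
    have hmap : T.card = ((Finset.univ : Finset (Projectivization F (Fin n → F))).erase a).card := by
      refine Finset.card_bij (fun s _ => s b₀) ?_ ?_ ?_
      · intro s hs
        refine Finset.mem_erase.2 ⟨fun h => hHne b₀ hb₀ (s.injective ?_), Finset.mem_univ _⟩
        rw [h, (Finset.mem_filter.1 hs).2.2]
      · intro s hs s' hs' h
        have hy : s b₀ ≠ a := fun h0 => hHne b₀ hb₀ (s.injective (by rw [h0, (Finset.mem_filter.1 hs).2.2]))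
        exact Finset.card_le_one.1 (hone b₀ (s b₀) (hHne b₀ hb₀) hy).le s (Finset.mem_filter.2 ⟨hs, rfl⟩)
          s' (Finset.mem_filter.2 ⟨hs', h.symm⟩)
      · intro y hy
        obtain ⟨s, hs⟩ := Finset.card_eq_one.1 (hone b₀ y (hHne b₀ hb₀) (Finset.mem_erase.1 hy).1)
        have := hs ▸ Finset.mem_singleton_self s
        exact ⟨s, (Finset.mem_filter.1 this).1, (Finset.mem_filter.1 this).2⟩
    rw [hmap, Finset.card_erase_of_mem (Finset.mem_univ a), Finset.card_univ,
      Nat.cast_sub (Fintype.card_pos_iff.2 ⟨a⟩), hN, Nat.cast_one, sub_self]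
  have hdouble : ∑ s ∈ T, (Hs.filter (fun x => s x ∈ Hs)).card = Hs.card * Hs.card := by
    calc ∑ s ∈ T, (Hs.filter (fun x => s x ∈ Hs)).card
        = ∑ s ∈ T, ∑ x ∈ Hs, ∑ y ∈ Hs, (if s x = y then 1 else 0) := by
          refine Finset.sum_congr rfl fun s _ => ?_
          rw [Finset.card_filter]
          exact Finset.sum_congr rfl fun x _ => by rw [Finset.sum_ite_eq]
      _ = ∑ x ∈ Hs, ∑ y ∈ Hs, ∑ s ∈ T, (if s x = y then 1 else 0) := by
          rw [Finset.sum_comm]
          exact Finset.sum_congr rfl fun x _ => Finset.sum_comm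
      _ = ∑ x ∈ Hs, ∑ y ∈ Hs, 1 := by
          refine Finset.sum_congr rfl fun x hx => Finset.sum_congr rfl fun y hy => ?_
          rw [← Finset.card_filter, hone x y (hHne x hx) (hHne y hy)]
      _ = Hs.card * Hs.card := by simp
  have heach : ∀ s ∈ T, (((Hs.filter (fun x => s x ∈ Hs)).card : ℕ) : ZMod p) = 1 := by
    intro s hs
    obtain ⟨σ, f, hf, hsf⟩ := hS s (Finset.mem_filter.1 hs).2.1
    set U := H ⊓ Submodule.comap f H with hU
    have hUne : U ≠ ⊥ := by
      intro hbot
      have hinj : Function.Injective (fun v : H => (f (v : Fin n → F)) i₀) := by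
        intro v w h
        have h' : ((v : Fin n → F) - w) ∈ U := ⟨H.sub_mem v.2 w.2, by
          show (LinearMap.proj i₀ : (Fin n → F) →ₗ[F] F) (f ((v : Fin n → F) - w)) = 0
          rw [map_sub, map_sub, LinearMap.proj_apply, LinearMap.proj_apply]
          exact sub_eq_zero.2 h⟩
        rw [hbot, Submodule.mem_bot, sub_eq_zero] at h'
        exact Subtype.ext h'
      have h1 := Nat.card_le_card_of_injective _ hinj
      rw [Module.natCard_eq_pow_finrank (K := F)] at h1
      have h2 : Nat.card F ^ 2 ≤ Nat.card F := le_trans (Nat.pow_le_pow_right Nat.card_pos (by omega)) h1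
      have := Finite.one_lt_card (α := F)
      nlinarith
    rw [← card_points p U hUne]
    congr 2
    ext x
    simp only [Hs, Finset.mem_filter, Finset.mem_univ, true_and]
    refine and_congr_right fun _ => ?_
    have e : s x = Projectivization.mk F (f x.rep) (fun h => x.rep_nonzero (hf (h.trans (map_zero f).symm))) := by
      conv_lhs => rw [hsf, ← x.mk_rep]
      rw [Projectivization.map_mk]
    obtain ⟨c, hc⟩ := (Projectivization.mk_eq_mk_iff' F _ _ (s x).rep_nonzero
      (fun h => x.rep_nonzero (hf (h.trans (map_zero f).symm)))).1 ((s x).mk_rep.trans e)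
    have hc0 : c ≠ 0 := fun h => (s x).rep_nonzero (by rw [← hc, h, zero_smul])
    rw [← hc, Submodule.smul_mem_iff _ hc0]
    rfl
  have h := congrArg (fun k : ℕ => (k : ZMod p)) hdouble
  simp only [Nat.cast_sum, Nat.cast_mul, hHcard, one_mul] at h
  rw [Finset.sum_congr rfl heach, Finset.sum_const, nsmul_eq_mul, hTcard, zero_mul] at h
  exact zero_ne_one h

end Cfsg.Agent.S2531
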