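import Cfsg.Statements.S2532
import Mathlib.GroupTheory.GroupAction.Quotient
import Mathlib.GroupTheory.SpecificGroups.Alternating
import Mathlib.GroupTheory.Perm.ViaEmbedding
import Mathlib.Data.Finset.Card
import Mathlib.Combinatorics.Pigeonhole

set_option autoImplicit false
open Cfsg

namespace Cfsg.Agent.S2532

/-- A homomorphism from a symmetric group to `ℤˣ` kills the alternating group. -/
theorem hom_units_eq_one {r : ℕ} (φ : Equiv.Perm (Fin r) →* ℤˣ) {σ : Equiv.Perm (Fin r)}
    (hσ : σ ∈ alternatingGroup (Fin r)) : φ σ = 1 := by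
  have h : alternatingGroup (Fin r) ≤ φ.ker := by
    rw [← Equiv.Perm.closure_three_cycles_eq_alternating, Subgroup.closure_le]
    intro τ hτ
    show φ τ = 1
    have h3 : φ τ ^ 3 = 1 := by
      rw [← map_pow, ← (Equiv.Perm.IsThreeCycle.orderOf hτ), pow_orderOf_eq_one, map_one]
    rcases Int.units_eq_one_or (φ τ) with h | h
    · exact h
    · rw [h] at h3; exact absurd h3 (by decide)
  exact h hσ

/-- There is a function `f` of two natural-number arguments such that, whenever `m ≥ f(n, r)`, every subgroup of order `n` of the alternating group of degree `m` centralizes some subgroup of that alternating group isomorphic to the alternating group of degree `r`. -/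
theorem result :
    ∃ f : ℕ → ℕ → ℕ, ∀ (m r : ℕ) (H : Subgroup ↥(alternatingGroup (Fin m))), f (Nat.card H) r ≤ m →
      ∃ K : Subgroup ↥(alternatingGroup (Fin m)), Nonempty (↥K ≃* ↥(alternatingGroup (Fin r))) ∧
        K ≤ Subgroup.centralizer (H : Set ↥(alternatingGroup (Fin m))) := by
  classical
  refine ⟨fun N r => 2 ^ N * (r * N) + 1, fun m r H hm => ?_⟩
  -- many points with a common stabiliser
  haveI : Fintype (Subgroup H) := Fintype.ofFinite _
  have hsub : Fintype.card (Subgroup H) ≤ 2 ^ Nat.card H := by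
    haveI : Fintype H := Fintype.ofFinite _
    rw [Nat.card_eq_fintype_card, ← Fintype.card_set]
    exact Fintype.card_le_of_injective _ (SetLike.coe_injective)
  obtain ⟨S, -, hS⟩ := Finset.exists_lt_card_fiber_of_mul_lt_card_of_maps_to
    (s := (Finset.univ : Finset (Fin m))) (t := (Finset.univ : Finset (Subgroup H)))
    (f := fun x => MulAction.stabilizer H x) (n := r * Nat.card H) (fun _ _ => Finset.mem_univ _) (by
      rw [Finset.card_univ, Finset.card_univ, Fintype.card_fin]
      exact lt_of_le_of_lt (Nat.mul_le_mul hsub le_rfl) hm)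
  set P := Finset.univ.filter fun x : Fin m => MulAction.stabilizer H x = S with hP
  -- they meet at least `r` orbits
  let q : Fin m → MulAction.orbitRel.Quotient H (Fin m) := Quotient.mk''
  have hq : r ≤ (P.image q).card := by
    by_contra! hlt
    have h1 : P.card ≤ Nat.card H * (P.image q).card :=
      Finset.card_le_mul_card_image P _ fun o ho => by
        obtain ⟨x, hx, rfl⟩ := Finset.mem_image.mp ho
        haveI : Fintype H := Fintype.ofFinite _
        rw [Nat.card_eq_fintype_card, ← Finset.card_univ]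
        refine (Finset.card_le_card (t := Finset.univ.image fun h : H => h • x) fun y hy => ?_).trans
          Finset.card_image_le
        obtain ⟨h, rfl⟩ : y ∈ MulAction.orbit H x :=
          (MulAction.orbitRel_apply (G := H) (α := Fin m)).mp (Quotient.eq''.mp (Finset.mem_filter.mp hy).2)
        exact Finset.mem_image.mpr ⟨h, Finset.mem_univ _, rfl⟩
    have : (P.image q).card * Nat.card H ≤ r * Nat.card H := Nat.mul_le_mul hlt.le le_rfl
    rw [mul_comm] at h1
    exact absurd (lt_of_lt_of_le hS (h1.trans this)) (lt_irrefl _)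
  obtain ⟨O, hO, hOc⟩ := Finset.exists_subset_card_eq hq
  let e : Fin r ≃ O := (Fintype.equivFinOfCardEq (by rw [Fintype.card_coe, hOc])).symm
  have hx : ∀ i : Fin r, ∃ x, MulAction.stabilizer H x = S ∧ q x = (e i : _) := fun i => by
    obtain ⟨x, hx, hx'⟩ := Finset.mem_image.mp (hO (e i).2)
    exact ⟨x, (Finset.mem_filter.mp hx).2, hx'⟩
  choose x hxS hxq using hx
  let ι₀ : Fin r × (H ⧸ S) → Fin m := fun p =>
    Quotient.liftOn' p.2 (fun h => h • x p.1) fun a b hab => by
      have h1 := QuotientGroup.leftRel_apply.mp hab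
      rw [← hxS p.1, MulAction.mem_stabilizer_iff, mul_smul, inv_smul_eq_iff] at h1
      exact h1.symm
  have hι : ∀ (i : Fin r) (h : H), ι₀ (i, (h : H ⧸ S)) = h • x i := fun _ _ => rfl
  have hinj : Function.Injective ι₀ := by
    rintro ⟨i, a⟩ ⟨j, b⟩ h
    induction a using QuotientGroup.induction_on with
    | H a =>
      induction b using QuotientGroup.induction_on with
      | H b =>
        rw [hι, hι] at h
        have hij : i = j := by
          apply e.injective
          apply Subtype.ext
          rw [← hxq i, ← hxq j]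
          apply Quotient.sound'
          rw [MulAction.orbitRel_apply]
          exact ⟨a⁻¹ * b, by show (a⁻¹ * b) • x j = x i; rw [mul_smul, ← h, inv_smul_smul]⟩
        subst hij
        refine Prod.ext rfl (QuotientGroup.eq.mpr ?_)
        rw [← hxS i, MulAction.mem_stabilizer_iff, mul_smul, inv_smul_eq_iff]
        exact h.symm
  let ι : Fin r × (H ⧸ S) ↪ Fin m := ⟨ι₀, hinj⟩
  have hequiv : ∀ (h : H) i y, ι (i, h • y) = h • ι (i, y) := fun h i y => by
    induction y using QuotientGroup.induction_on with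
    | H y => exact mul_smul h y (x i)
  let δ : Equiv.Perm (Fin r) →* Equiv.Perm (Fin r × (H ⧸ S)) :=
    { toFun := fun σ => σ.prodCongr (Equiv.refl _)
      map_one' := Equiv.ext fun _ => rfl
      map_mul' := fun σ τ => Equiv.ext fun _ => rfl }
  let ρ : Equiv.Perm (Fin r) →* Equiv.Perm (Fin m) := (Equiv.Perm.viaEmbeddingHom ι).comp δ
  let ψ : alternatingGroup (Fin r) →* alternatingGroup (Fin m) :=
    (ρ.comp (alternatingGroup (Fin r)).subtype).codRestrict _ fun σ => by
      show ρ σ ∈ alternatingGroup (Fin m)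
      exact Equiv.Perm.mem_alternatingGroup.mpr (hom_units_eq_one (Equiv.Perm.sign.comp ρ) σ.2)
  have hψ : Function.Injective ψ := by
    intro σ τ h
    have h' : ρ σ = ρ τ := congrArg Subtype.val h
    have h'' := Equiv.Perm.viaEmbeddingHom_injective ι h'
    refine Subtype.ext (Equiv.ext fun i => ?_)
    exact congrArg Prod.fst (Equiv.congr_fun h'' (i, ((1 : H) : H ⧸ S)))
  refine ⟨ψ.range, ⟨(MonoidHom.ofInjective hψ).symm⟩, ?_⟩
  rintro _ ⟨σ, rfl⟩ h hh
  apply Subtype.ext
  apply Equiv.ext
  intro y
  show ((h : ↥(alternatingGroup (Fin m))) : Equiv.Perm (Fin m)) (ρ σ y) = ρ σ ((h : Equiv.Perm (Fin m)) y)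
  show (⟨h, hh⟩ : H) • ρ σ y = ρ σ ((⟨h, hh⟩ : H) • y)
  generalize (⟨h, hh⟩ : H) = k
  show k • (δ σ).viaEmbedding ι y = (δ σ).viaEmbedding ι (k • y)
  by_cases hy : y ∈ Set.range ι
  · obtain ⟨⟨i, a⟩, rfl⟩ := hy
    rw [← hequiv, Equiv.Perm.viaEmbedding_apply, Equiv.Perm.viaEmbedding_apply]
    exact (hequiv k _ a).symm
  · rw [Equiv.Perm.viaEmbedding_apply_of_notMem _ _ _ hy, Equiv.Perm.viaEmbedding_apply_of_notMem]
    rintro ⟨⟨i, a⟩, ha⟩
    exact hy ⟨(i, k⁻¹ • a), by rw [hequiv, ha, inv_smul_smul]⟩

end Cfsg.Agent.S2532
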