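import Cfsg.Statements.S2540
import Mathlib
import Cfsg.Agent.Lib.LinearGroups.PSL

set_option autoImplicit false
open Cfsg
open scoped commutatorElement

namespace Cfsg.Agent.S2540

/-- Let F be a finite field and n ≥ 1, excluding the case n = 2 with #F ≤ 3. A subgroup of GL_n(F) that is normalized by every element of SL_n(F) either consists of scalar matrices or contains SL_n(F). -/
theorem result {F : Type*} [Field F] [Fintype F] (n : ℕ) (hn : 1 ≤ n) (hex : ¬ (n = 2 ∧ Fintype.card F ≤ 3)) (G : Subgroup (Matrix.GeneralLinearGroup (Fin n) F)) (hG : ∀ s : Matrix.SpecialLinearGroup (Fin n) F, ∀ g ∈ G, (Matrix.SpecialLinearGroup.toGL s) * g * (Matrix.SpecialLinearGroup.toGL s)⁻¹ ∈ G) : (∀ g ∈ G, ∃ c : F, (g : Matrix (Fin n) (Fin n) F) = c • (1 : Matrix (Fin n) (Fin n) F)) ∨ (Matrix.SpecialLinearGroup.toGL : Matrix.SpecialLinearGroup (Fin n) F →* _).range ≤ G := by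
  classical
  rcases (by omega : n = 1 ∨ 2 ≤ n) with rfl | hn2
  · left
    intro g _
    refine ⟨g.1 0 0, ?_⟩
    ext i j
    rw [Subsingleton.elim i 0, Subsingleton.elim j 0]
    simp
  set ι : Matrix.SpecialLinearGroup (Fin n) F →* GL (Fin n) F :=
    Matrix.SpecialLinearGroup.toGL with hι
  have hperf : commutator (Matrix.SpecialLinearGroup (Fin n) F) = ⊤ := by
    rcases (by omega : n = 2 ∨ 3 ≤ n) with rfl | h3
    · have hq : 4 ≤ Fintype.card F := by
        by_contra h
        exact hex ⟨rfl, by omega⟩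
      have : ¬ (Finset.univ : Finset F) ⊆ {0, 1, -1} := fun h => by
        have h1 := Finset.card_le_card h
        rw [Finset.card_univ] at h1
        have h2 : ({0, 1, -1} : Finset F).card ≤ 3 := Finset.card_le_three
        omega
      obtain ⟨a, -, ha⟩ := Finset.not_subset.1 this
      simp only [Finset.mem_insert, Finset.mem_singleton, not_or] at ha
      refine Matrix.SL2.commutator_eq_top ha.1 fun h => ?_
      rcases sq_eq_one_iff.1 h with h | h
      · exact ha.2.1 h
      · exact ha.2.2 h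
    · exact LinGrp.commutator_SL_eq_top (by simpa using h3)
  have hsimp : IsSimpleGroup (Matrix.ProjectiveSpecialLinearGroup (Fin n) F) :=
    LinGrp.isSimpleGroup_PSL_fin n hn2 fun h2 => by
      rw [Nat.card_eq_fintype_card]
      by_contra h
      exact hex ⟨h2, by omega⟩
  let N : Subgroup (Matrix.SpecialLinearGroup (Fin n) F) := G.comap ι
  have : N.Normal := ⟨fun g hg s => by
    show ι (s * g * s⁻¹) ∈ G
    rw [map_mul, map_mul, map_inv]
    exact hG s _ hg⟩
  set Z := Subgroup.center (Matrix.SpecialLinearGroup (Fin n) F) with hZ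
  have : (N.map (QuotientGroup.mk' Z)).Normal :=
    Subgroup.Normal.map inferInstance _ (QuotientGroup.mk'_surjective _)
  rcases hsimp.eq_bot_or_eq_top_of_normal _ this with h | h
  · left
    have hNZ : N ≤ Z := by
      rwa [Subgroup.map_eq_bot_iff, QuotientGroup.ker_mk'] at h
    intro g hg
    have hdet : ∀ s, g * ι s * g⁻¹ * (ι s)⁻¹ ∈ ι.range := fun s => by
      rw [hι, LinGrp.range_toGL_eq_ker_det, MonoidHom.mem_ker]
      simp [mul_comm]
    choose c hc using hdet
    have hcZ : ∀ s, c s ∈ Z := fun s => hNZ (by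
      show ι (c s) ∈ G
      rw [hc s, show g * ι s * g⁻¹ * (ι s)⁻¹ = g * (ι s * g⁻¹ * (ι s)⁻¹) by group]
      exact G.mul_mem hg (hG s _ (G.inv_mem hg)))
    have hinj : Function.Injective ι := fun a b h => Subtype.ext (congrArg Units.val h)
    let f : Matrix.SpecialLinearGroup (Fin n) F →* Z := MonoidHom.mk' (fun s => ⟨c s, hcZ s⟩)
      fun a b => Subtype.ext (hinj (by
        show ι (c (a * b)) = ι (c a * c b)
        have hb : ι a * ι (c b) = ι (c b) * ι a := by
          rw [← map_mul, ← map_mul, Subgroup.mem_center_iff.1 (hcZ b) a]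
        rw [map_mul, hc, map_mul, mul_inv_rev]
        rw [hc a]
        calc g * (ι a * ι b) * g⁻¹ * ((ι b)⁻¹ * (ι a)⁻¹)
            = g * ι a * g⁻¹ * ((g * ι b * g⁻¹ * (ι b)⁻¹) * (ι a)⁻¹) := by group
          _ = g * ι a * g⁻¹ * ((ι a)⁻¹ * ι (c b)) := by
              rw [← hc b]
              congr 1
              rw [eq_inv_mul_iff_mul_eq, ← mul_assoc, hb]
              group
          _ = _ := by group))
    have hf : ∀ s, f s = 1 := fun s =>
      by
      have hle : commutator (Matrix.SpecialLinearGroup (Fin n) F) ≤ f.ker := by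
        rw [commutator_def, Subgroup.commutator_le]
        intro a _ b _
        rw [MonoidHom.mem_ker, map_commutatorElement, commutatorElement_eq_one_iff_mul_comm]
        exact Subtype.ext (Subgroup.mem_center_iff.1 (f b).2 (f a).1)
      rw [hperf] at hle
      exact MonoidHom.mem_ker.1 (hle (Subgroup.mem_top s))
    have hcomm : ∀ s, g * ι s = ι s * g := fun s => by
      have e := hc s
      rw [show c s = 1 from congrArg Subtype.val (hf s), map_one] at e
      calc g * ι s = g * ι s * g⁻¹ * (ι s)⁻¹ * (ι s * g) := by group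
        _ = ι s * g := by rw [← e, one_mul]
    obtain ⟨r, hr⟩ := Matrix.mem_range_scalar_of_commute_transvectionStruct (M := g.1) fun t => by
      have e := congrArg Units.val (hcomm ⟨t.toMatrix, t.det⟩)
      exact e.symm
    exact ⟨r, by rw [← hr, Matrix.scalar_apply, Matrix.smul_one_eq_diagonal]⟩
  · right
    have hcov : ∀ s, ∃ m ∈ N, ∃ z ∈ Z, s = m * z := fun s => by
      obtain ⟨m, hm, hme⟩ : (QuotientGroup.mk' Z) s ∈ N.map (QuotientGroup.mk' Z) := by
        rw [h]; exact Subgroup.mem_top _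
      exact ⟨m, hm, m⁻¹ * s, QuotientGroup.eq.1 hme, by group⟩
    have hN : N = ⊤ := by
      rw [eq_top_iff, ← hperf, commutator_def, Subgroup.commutator_le]
      intro a _ b _
      obtain ⟨m, hm, z, hz, rfl⟩ := hcov a
      obtain ⟨m', hm', z', hz', rfl⟩ := hcov b
      have key : ⁅m * z, m' * z'⁆ = ⁅m, m'⁆ := by
        simp only [commutatorElement_def]
        have e1 := Subgroup.mem_center_iff.1 hz
        have e2 := Subgroup.mem_center_iff.1 hz'
        calc m * z * (m' * z') * (m * z)⁻¹ * (m' * z')⁻¹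
            = m * (z * m') * (z' * z⁻¹) * m⁻¹ * z'⁻¹ * m'⁻¹ := by group
          _ = m * (m' * z) * (z⁻¹ * z') * m⁻¹ * z'⁻¹ * m'⁻¹ := by
              rw [← e1 m', e2 z⁻¹]
          _ = m * m' * (z' * m⁻¹) * z'⁻¹ * m'⁻¹ := by group
          _ = m * m' * (m⁻¹ * z') * z'⁻¹ * m'⁻¹ := by rw [← e2 m⁻¹]
          _ = m * m' * m⁻¹ * m'⁻¹ := by group
      rw [key]
      exact N.mul_mem (N.mul_mem (N.mul_mem hm hm') (N.inv_mem hm)) (N.inv_mem hm')
    rintro _ ⟨s, rfl⟩
    show s ∈ N
    rw [hN]; exact Subgroup.mem_top s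

end Cfsg.Agent.S2540
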