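import Cfsg.Statements.S2541
import Cfsg.Agent.Lib.PermGp.CycleOrders
import Cfsg.Agent.Lib.Recog.PGLTwoOrders

set_option autoImplicit false
open Cfsg

namespace Cfsg.Agent.S2541

/-- Let F be a field with 9 elements. The symmetric group S_6 is not isomorphic to PGL_2(F) (although both have index-2 subgroups isomorphic to A_6). -/
theorem result {F : Type*} [Field F] [Fintype F] (hF : Fintype.card F = 9) : ¬ Nonempty (Equiv.Perm (Fin 6) ≃* Matrix.ProjGenLinGroup (Fin 2) F) := by
  rintro ⟨e⟩
  obtain ⟨p, hchar⟩ := CharP.exists F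
  haveI := Fact.mk (CharP.char_is_prime F p)
  obtain ⟨x, hx⟩ := Recog.PGLTwo.exists_pgl_order_add_one (F := F)
  rw [hF] at hx
  have hord : orderOf (e.symm x) = 10 := (MulEquiv.orderOf_eq e.symm x).trans hx
  rw [← Equiv.Perm.lcm_cycleType] at hord
  have hsum := Equiv.Perm.sum_cycleType_le (e.symm x)
  rw [Fintype.card_fin] at hsum
  generalize (e.symm x).cycleType = m at hord hsum
  obtain ⟨a, ha, h5⟩ := PermGp.exists_dvd_of_prime_dvd_lcm (p := 5) (by norm_num) m (hord ▸ by norm_num)
  obtain ⟨b, hb, h2⟩ := PermGp.exists_dvd_of_prime_dvd_lcm (p := 2) (by norm_num) m (hord ▸ by norm_num)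
  have hd : ∀ c ∈ m, c ∣ 10 := fun c hc => hord ▸ Multiset.dvd_lcm hc
  have hpos : ∀ c ∈ m, 0 < c := fun c hc => Nat.pos_of_dvd_of_pos (hd c hc) (by norm_num)
  have := Nat.le_of_dvd (hpos a ha) h5
  have := Nat.le_of_dvd (hpos b hb) h2
  have := Multiset.le_sum_of_mem ha
  have hda := hd a ha
  have ha5 : a = 5 := by
    have : a ≤ 6 := by omega
    interval_cases a <;> omega
  by_cases hab : b = a
  · omega
  · have hb' : b ∈ m.erase a := (Multiset.mem_erase_of_ne hab).mpr hb
    have h1 := Multiset.le_sum_of_mem hb'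
    rw [← Multiset.cons_erase ha, Multiset.sum_cons] at hsum
    omega

end Cfsg.Agent.S2541
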