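import Cfsg.Statements.S2542
import Cfsg.Agent.Lib.SL2.Eleven

set_option autoImplicit false
open Cfsg

namespace Cfsg.Agent.S2542

/-- Let F be a field with 11 elements. PSL_2(F) has a subgroup H of index 11 isomorphic to the alternating group A_5, and the action of PSL_2(F) on the cosets of H is 2-transitive (of degree 11). -/
theorem result {F : Type*} [Field F] [Fintype F] (hF : Fintype.card F = 11) : ∃ H : Subgroup (Matrix.ProjectiveSpecialLinearGroup (Fin 2) F), H.index = 11 ∧ Nonempty (H ≃* alternatingGroup (Fin 5)) ∧ MulAction.IsMultiplyPretransitive (Matrix.ProjectiveSpecialLinearGroup (Fin 2) F) ((Matrix.ProjectiveSpecialLinearGroup (Fin 2) F) ⧸ H) 2 := by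
  obtain ⟨e⟩ := Eleven.exists_iso F hF
  obtain ⟨f⟩ := Eleven.iso_A5 Eleven.good_T1
  obtain ⟨u, hu⟩ := Eleven.exists_mover Eleven.good_T1
  refine ⟨(Eleven.sub Eleven.T1).map e.toMonoidHom, ?_, ⟨(e.subgroupMap _).symm.trans f⟩, ?_⟩
  · exact (Subgroup.index_map_of_bijective (f := e.toMonoidHom) e.bijective _).trans
      (Eleven.index_sub Eleven.good_T1)
  · refine Eleven.two_pretransitive (u := e u) fun x hx => ?_
    obtain ⟨h, hh, hh'⟩ := hu (e.symm x) fun h => hx ⟨_, h, e.apply_symm_apply x⟩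
    refine ⟨e h, ⟨h, hh, rfl⟩, ⟨_, hh', ?_⟩⟩
    simp

end Cfsg.Agent.S2542
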