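import Cfsg.Statements.S2543
import Cfsg.Agent.Lib.SL2.Eleven

set_option autoImplicit false
open scoped Pointwise
open Cfsg

namespace Cfsg.Agent.S2543

/-- Let F be a field with 11 elements. PSL_2(F) has exactly 22 subgroups isomorphic to the alternating group A_5, and they form two conjugacy classes: there are two such subgroups that are not conjugate, and every such subgroup is conjugate to one of these two. -/
theorem result {F : Type*} [Field F] [Fintype F] (hF : Fintype.card F = 11) : Nat.card {H : Subgroup (Matrix.ProjectiveSpecialLinearGroup (Fin 2) F) // Nonempty (H ≃* alternatingGroup (Fin 5))} = 22 ∧ ∃ H K : Subgroup (Matrix.ProjectiveSpecialLinearGroup (Fin 2) F), Nonempty (H ≃* alternatingGroup (Fin 5)) ∧ Nonempty (K ≃* alternatingGroup (Fin 5)) ∧ (∀ g : Matrix.ProjectiveSpecialLinearGroup (Fin 2) F, MulAut.conj g • H ≠ K) ∧ ∀ L : Subgroup (Matrix.ProjectiveSpecialLinearGroup (Fin 2) F), Nonempty (L ≃* alternatingGroup (Fin 5)) → ∃ g : Matrix.ProjectiveSpecialLinearGroup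 (Fin 2) F, MulAut.conj g • L = H ∨ MulAut.conj g • L = K := by
  obtain ⟨e⟩ := Eleven.exists_iso F hF
  let m : Subgroup Eleven.P11 ≃o Subgroup (Matrix.ProjectiveSpecialLinearGroup (Fin 2) F) :=
    e.mapSubgroup
  have hiso : ∀ H : Subgroup Eleven.P11,
      Nonempty (H ≃* alternatingGroup (Fin 5)) ↔ Nonempty (m H ≃* alternatingGroup (Fin 5)) :=
    fun H => ⟨fun ⟨f⟩ => ⟨(e.subgroupMap H).symm.trans f⟩, fun ⟨f⟩ => ⟨(e.subgroupMap H).trans f⟩⟩
  have hconj : ∀ (g : Eleven.P11) (H : Subgroup Eleven.P11),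
      MulAut.conj (e g) • m H = m (MulAut.conj g • H) := by
    intro g H
    ext y
    rw [Subgroup.mem_pointwise_smul_iff_inv_smul_mem]
    show _ ∈ H.map e.toMonoidHom ↔ y ∈ (MulAut.conj g • H).map e.toMonoidHom
    constructor
    · rintro ⟨x, hx, hxy⟩
      refine ⟨g * x * g⁻¹, Subgroup.smul_mem_pointwise_smul x (MulAut.conj g) H hx, ?_⟩
      simp at hxy ⊢
      simp [hxy, mul_assoc]
    · rintro ⟨x, hx, rfl⟩
      rw [SetLike.mem_coe, Subgroup.mem_pointwise_smul_iff_inv_smul_mem] at hx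
      refine ⟨_, hx, ?_⟩
      simp [mul_assoc]
  refine ⟨?_, m (Eleven.sub Eleven.T1), m (Eleven.sub Eleven.T2),
    (hiso _).1 (Eleven.iso_A5 Eleven.good_T1), (hiso _).1 (Eleven.iso_A5 Eleven.good_T2),
    fun g hg => Eleven.not_conj (e.symm g) (m.injective ?_), fun L hL => ?_⟩
  · rw [← Eleven.count]
    exact (Nat.card_congr (m.toEquiv.subtypeEquiv hiso)).symm
  · rw [← hconj, e.apply_symm_apply, hg]
  · obtain ⟨g, hg⟩ := Eleven.conj_cases (m.symm L)
      ((hiso _).2 (by rw [m.apply_symm_apply]; exact hL))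
    refine ⟨e g, hg.imp (fun h => ?_) fun h => ?_⟩
    · rw [← h, ← hconj, m.apply_symm_apply]
    · rw [← h, ← hconj, m.apply_symm_apply]

end Cfsg.Agent.S2543
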