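import Cfsg.Statements.S2547
import Cfsg.Agent.Lib.SteinbergPolar.Orth
import Cfsg.Agent.Lib.Forms.OddInvol

set_option autoImplicit false
open Cfsg

namespace Cfsg.Agent.S2547

/-- Let F be a finite field of characteristic p and consider the group PΩ_{2m+1}(F) of the quadratic form x₀² + Σ x_i y_i, where m ≥ 1 and #F is odd. This group has an irreducible complex character χ whose degree equals the order of a Sylow p-subgroup (namely q^(m²) when #F = q) and whose restriction to any Sylow p-subgroup P is the regular character of P: χ vanishes on the non-identity elements of P. (This is the Steinberg character.) -/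
theorem result {F : Type*} [Field F] [Fintype F] (p : ℕ) [Fact p.Prime] [CharP F p] (hodd : Odd (Fintype.card F)) (m : ℕ) (hm : 1 ≤ m) : ∃ χ : Cfsg.POmega F (Cfsg.quadFormOdd m F) → ℂ, Cfsg.IsIrrCharacter (Cfsg.POmega F (Cfsg.quadFormOdd m F)) χ ∧ ∀ P : Sylow p (Cfsg.POmega F (Cfsg.quadFormOdd m F)), χ 1 = Nat.card P ∧ ∀ x : Cfsg.POmega F (Cfsg.quadFormOdd m F), x ∈ P → x ≠ 1 → χ x = 0 := by
  classical
  have h2 : (2 : F) ≠ 0 := fun h => by
    obtain ⟨k, hp, hk⟩ := FiniteField.card F p
    have hp2 : p = 2 := CharP.eq F (inferInstance : CharP F p)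
      (ringChar.of_eq (Spinor.ringChar_eq_two h))
    rw [hk, hp2, Nat.odd_pow_iff k.pos.ne'] at hodd
    exact absurd hodd (by decide)
  have hexc : Fintype.card F ≠ 2 ∨ Module.finrank F (Unit ⊕ (Fin m ⊕ Fin m) → F) ≠ 4 :=
    Or.inl (Spinor.card_ne_two h2)
  have hQ := FormsLib.qOdd_nondeg (F := F) (m := m) h2
  rw [← FormsLib.coe_qOdd]
  refine StPolar.steinberg_pomega hQ p (v₀ := Pi.single (Sum.inl ()) 1) ?_
    (Spinor.reflGroup_eq_top hQ hexc)
  rw [FormsLib.qOdd_apply]
  simp

end Cfsg.Agent.S2547
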