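import Cfsg.Statements.S2548
import Cfsg.Agent.Lib.SteinbergPolar.Orth
import Cfsg.Agent.Lib.SteinbergPolar.PlusFourTwo
import Cfsg.Agent.Lib.LinearGroups.OrthForms
import Cfsg.Agent.Lib.F2Perm.Basic

set_option autoImplicit false
open Cfsg

namespace Cfsg.Agent.S2548

/-- Let F be a finite field of characteristic p and consider the group PΩ⁺_{2m}(F) of the hyperbolic quadratic form Σ x_i y_i with m ≥ 1, where Ω denotes the commutator subgroup of the full isometry group. This group has an irreducible complex character χ whose degree equals the order of a Sylow p-subgroup (equal to q^(m(m−1)) when #F = q, except in the degenerate case m = 2, q = 2, where this commutator subgroup has order 18 and its Sylow 2-subgroups have order 2) and whose restriction to any Sylow p-subgroup P is the regular character of P: χ vanishes on the non-identity elements of P. (This is the Steinberg character.) -/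
theorem result {F : Type*} [Field F] [Fintype F] (p : ℕ) [Fact p.Prime] [CharP F p] (m : ℕ) (hm : 1 ≤ m) : ∃ χ : Cfsg.POmega F (Cfsg.quadFormPlus m F) → ℂ, Cfsg.IsIrrCharacter (Cfsg.POmega F (Cfsg.quadFormPlus m F)) χ ∧ ∀ P : Sylow p (Cfsg.POmega F (Cfsg.quadFormPlus m F)), χ 1 = Nat.card P ∧ ∀ x : Cfsg.POmega F (Cfsg.quadFormPlus m F), x ∈ P → x ≠ 1 → χ x = 0 := by
  classical
  by_cases hexc : Fintype.card F ≠ 2 ∨ Module.finrank F (Fin m ⊕ Fin m → F) ≠ 4
  · have hQ := OrthForms.qPlus_nondeg (F := F) m
    rw [show Cfsg.quadFormPlus m F = ⇑(OrthOrder.qPlus m F) from funext fun v => (OrthOrder.qPlus_apply m v).symm]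
    refine StPolar.steinberg_pomega hQ p
      (v₀ := Pi.single (Sum.inl ⟨0, hm⟩) 1 + Pi.single (Sum.inr ⟨0, hm⟩) 1) ?_
      (Spinor.reflGroup_eq_top hQ hexc)
    rw [OrthOrder.qPlus_apply]
    simp [Cfsg.quadFormPlus, Pi.single_apply]
  · push Not at hexc
    obtain ⟨hF2, hm4⟩ := hexc
    obtain rfl : m = 2 := by
      rw [Module.finrank_fintype_fun_eq_card, Fintype.card_sum, Fintype.card_fin] at hm4
      omega
    obtain rfl : p = 2 := by
      obtain ⟨k, hp, hk⟩ := FiniteField.card F p
      rw [hF2] at hk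
      exact (Nat.prime_dvd_prime_iff_eq hp Nat.prime_two).1 (hk ▸ dvd_pow_self p k.pos.ne')
    let e : ZMod 2 ≃+* F := ZMod.ringEquivOfPrime F Nat.prime_two hF2
    obtain ⟨φ⟩ := F2Perm.isometryGroup_congr (Q := Cfsg.quadFormPlus 2 (ZMod 2)) e (Cfsg.quadFormPlus 2 F)
      fun v => by simp [Cfsg.quadFormPlus]
    exact StPolar.steinberg_plus_four_two φ

end Cfsg.Agent.S2548
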