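import Cfsg.Statements.S2549
import Cfsg.Agent.Lib.SteinbergPolar.Orth
import Cfsg.Agent.Lib.LinearGroups.OrthForms

set_option autoImplicit false
open Cfsg

namespace Cfsg.Agent.S2549

/-- Let F be a finite field of characteristic p and consider the group PΩ⁻_{2m+2}(F) of the quadratic form Σ_{i<m} x_i y_i + (z₁² + a z₁ z₂ + b z₂²) with anisotropic binary part, m ≥ 0. This group has an irreducible complex character χ whose degree equals the order of a Sylow p-subgroup (namely q^(m(m+1)) when #F = q) and whose restriction to any Sylow p-subgroup P is the regular character of P: χ vanishes on the non-identity elements of P. (This is the Steinberg character.) -/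
theorem result {F : Type*} [Field F] [Fintype F] (p : ℕ) [Fact p.Prime] [CharP F p] (m : ℕ) (a b : F) (hab : ∀ z₁ z₂ : F, z₁ ^ 2 + a * z₁ * z₂ + b * z₂ ^ 2 = 0 → z₁ = 0 ∧ z₂ = 0) : ∃ χ : Cfsg.POmega F (Cfsg.quadFormMinus m F a b) → ℂ, Cfsg.IsIrrCharacter (Cfsg.POmega F (Cfsg.quadFormMinus m F a b)) χ ∧ ∀ P : Sylow p (Cfsg.POmega F (Cfsg.quadFormMinus m F a b)), χ 1 = Nat.card P ∧ ∀ x : Cfsg.POmega F (Cfsg.quadFormMinus m F a b), x ∈ P → x ≠ 1 → χ x = 0 := by
  classical
  obtain ⟨Q, hQe, hQ⟩ := OrthForms.exists_qMinus m a b hab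
  have hgen : Spinor.reflGroup Q = ⊤ := by
    by_cases hm : m = 1
    · subst hm
      refine StPolar.gen_of_no_plane hQ fun W hW => ?_
      by_contra hlt
      have hmeet : ∀ s, ∃ w ∈ W, w ≠ 0 ∧ w (Sum.inl s) = 0 := fun s => by
        by_contra hc
        push Not at hc
        let L : W →ₗ[F] F := (LinearMap.proj (Sum.inl s)).comp W.subtype
        have hL : Function.Injective L := by
          rw [injective_iff_map_eq_zero]
          intro w hw
          by_contra hw0
          exact hc w.1 w.2 (fun e => hw0 (Subtype.ext e)) hw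
        have := LinearMap.finrank_le_finrank_of_injective hL
        rw [Module.finrank_self] at this
        omega
      obtain ⟨w, hw, hw0, hwx⟩ := hmeet (Sum.inl 0)
      obtain ⟨w', hw', hw0', hwy⟩ := hmeet (Sum.inr 0)
      have e1 := hW w hw
      have e2 := hW w' hw'
      have e3 := hW (w + w') (Submodule.add_mem _ hw hw')
      simp only [hQe, Cfsg.quadFormMinus, Fin.sum_univ_one, Pi.add_apply, hwx, hwy, zero_mul, mul_zero, zero_add,
        add_zero] at e1 e2 e3
      obtain ⟨z1, z2⟩ := hab _ _ e1
      obtain ⟨z1', z2'⟩ := hab _ _ e2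
      simp only [z1, z2, z1', z2', add_zero, mul_zero, ne_eq, OfNat.ofNat_ne_zero, not_false_eq_true, zero_pow]
        at e3
      rcases mul_eq_zero.1 e3 with h | h
      · refine hw0' (funext fun i => ?_)
        rcases i with (i | i) | i <;> fin_cases i
        exacts [h, hwy, z1', z2']
      · refine hw0 (funext fun i => ?_)
        rcases i with (i | i) | i <;> fin_cases i
        exacts [hwx, h, z1, z2]
    · refine Spinor.reflGroup_eq_top hQ (Or.inr ?_)
      rw [Module.finrank_fintype_fun_eq_card]
      simp only [Fintype.card_sum, Fintype.card_fin]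
      omega
  rw [← hQe]
  refine StPolar.steinberg_pomega hQ p (v₀ := Pi.single (Sum.inr 0) 1) ?_ hgen
  rw [hQe]
  simp [Cfsg.quadFormMinus, Pi.single_apply]

end Cfsg.Agent.S2549
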