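import Cfsg.Statements.S2551
import Cfsg.Agent.Lib.PermGp.ASevenGL
import Mathlib.GroupTheory.PGroup
import Mathlib.GroupTheory.Sylow
import Mathlib.GroupTheory.Perm.Cycle.Type
import Mathlib.FieldTheory.Finite.Basic
import Mathlib.Tactic.IntervalCases

set_option autoImplicit false
open Cfsg

namespace Cfsg.Agent.S2551

open Matrix MulAction in
theorem two_transitive {F : Type*} [Field F] [Fintype F] (hF : Fintype.card F = 2)
    (H : Subgroup (Matrix.GeneralLinearGroup (Fin 4) F)) (iso : H ≃* alternatingGroup (Fin 7))
    (v w v' w' : Fin 4 → F) (hv : v ≠ 0) (hw : w ≠ 0) (hvw : v ≠ w) (hv' : v' ≠ 0) (hw' : w' ≠ 0)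
    (hvw' : v' ≠ w') :
    ∃ g ∈ H, (g : Matrix (Fin 4) (Fin 4) F).mulVec v = v' ∧ (g : Matrix (Fin 4) (Fin 4) F).mulVec w = w' := by
  classical
  haveI : Nontrivial F := inferInstance
  haveI : Finite H := Finite.of_equiv _ iso.symm.toEquiv
  haveI : IsSimpleGroup H := by
    haveI := alternatingGroup.isSimpleGroup (α := Fin 7) (by rw [Nat.card_fin]; omega)
    haveI : Nontrivial H := iso.toEquiv.nontrivial
    exact IsSimpleGroup.isSimpleGroup_of_surjective iso.symm.toMonoidHom iso.symm.surjective
  have hcard : Nat.card H = 2520 := by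
    rw [Nat.card_congr iso.toEquiv, nat_card_alternatingGroup, Nat.card_fin]; decide
  let X := {u : Fin 4 → F // u ≠ 0}
  letI : MulAction H X :=
    { smul := fun g u => ⟨(g : Matrix.GeneralLinearGroup (Fin 4) F).1 *ᵥ u.1, fun h => u.2 (by
        have := congrArg (((g : Matrix.GeneralLinearGroup (Fin 4) F)⁻¹).1 *ᵥ ·) h
        simpa [mulVec_mulVec] using this)⟩
      one_smul := fun u => Subtype.ext (one_mulVec _)
      mul_smul := fun g k u => Subtype.ext (mulVec_mulVec u.1 (g : Matrix.GeneralLinearGroup (Fin 4) F).1 (k : Matrix.GeneralLinearGroup (Fin 4) F).1).symm }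
  have hsmul : ∀ (g : H) (u : X), (g • u).1 = (g : Matrix.GeneralLinearGroup (Fin 4) F).1 *ᵥ u.1 := fun _ _ => rfl
  have hfaith : ∀ g : H, (∀ u : X, g • u = u) → g = 1 := fun g h => by
    refine Subtype.ext (Units.ext (Matrix.ext_iff_mulVec.mpr fun u => ?_))
    rcases eq_or_ne u 0 with rfl | hu
    · simp
    · rw [OneMemClass.coe_one, Units.val_one, one_mulVec]
      exact congrArg Subtype.val (h ⟨u, hu⟩)
  have hV : Nat.card (Fin 4 → F) = 16 := by simp [hF]
  have hX : Nat.card X = 15 := by
    simp [X, Nat.card_eq_fintype_card, Fintype.card_subtype_compl, hF]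
  -- fixed vectors of an element of prime order
  have hfix : ∀ (p : ℕ) [Fact p.Prime] (g : H), orderOf g = p →
      ∃ k : ℕ, k ∣ 16 ∧ k < 16 ∧ 15 ≡ Nat.card {u : X // g • u = u} [MOD p] ∧
        Nat.card {u : X // g • u = u} + 1 = k := by
    intro p _ g hg
    let A : AddSubgroup (Fin 4 → F) :=
      { carrier := {u | (g : Matrix.GeneralLinearGroup (Fin 4) F).1 *ᵥ u = u}
        zero_mem' := mulVec_zero _
        add_mem' := fun {a b} (ha : _ = a) (hb : _ = b) => by
          show _ *ᵥ (a + b) = a + b
          rw [mulVec_add, ha, hb]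
        neg_mem' := fun {a} (ha : _ = a) => by
          show _ *ᵥ (-a) = -a
          rw [mulVec_neg, ha] }
    have hA : Nat.card {u : X // g • u = u} + 1 = Nat.card A := by
      rw [← Finite.card_option]
      refine Nat.card_congr
        { toFun := fun o => o.elim (0 : A) fun u => ⟨u.1.1, congrArg Subtype.val u.2⟩
          invFun := fun a => if h : a.1 = 0 then none else some ⟨⟨a.1, h⟩, Subtype.ext a.2⟩
          left_inv := ?_
          right_inv := ?_ }
      · rintro (_ | u)
        · simp
        · simp [u.1.2]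
      · intro a
        by_cases h : a.1 = 0
        · simp [h, Subtype.ext_iff]
        · simp [h]
    refine ⟨Nat.card A, ?_, ?_, ?_, hA⟩
    · rw [← hV]; exact AddSubgroup.card_addSubgroup_dvd_card A
    · refine lt_of_le_of_ne (hV ▸ Nat.card_le_card_of_injective _ Subtype.val_injective) fun e => ?_
      have hA' : A = ⊤ := AddSubgroup.eq_top_of_card_eq A (e.trans hV.symm)
      have : g = 1 := hfaith g fun u => Subtype.ext (show u.1 ∈ A from hA' ▸ AddSubgroup.mem_top _)
      rw [this, orderOf_one] at hg
      exact (Fact.out : p.Prime).ne_one hg.symm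
    · have hP : IsPGroup p (Subgroup.zpowers g) := IsPGroup.of_card (n := 1) (by
        rw [Nat.card_zpowers, hg, pow_one])
      have := hP.card_modEq_card_fixedPoints X
      rw [hX] at this
      have he : Nat.card (MulAction.fixedPoints (Subgroup.zpowers g) X) = Nat.card {u : X // g • u = u} := by
        refine Nat.card_congr (Equiv.subtypeEquivRight fun u => ?_)
        constructor
        · intro h; exact h ⟨g, Subgroup.mem_zpowers g⟩
        · intro h k
          have hmem : g ∈ MulAction.stabilizer H u := h
          exact Subgroup.zpowers_le.mpr hmem k.2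
      rwa [he] at this
  have h5 : ∀ g : H, orderOf g = 5 → ∀ u : X, g • u ≠ u := by
    intro g hg u hu
    haveI : Fact (Nat.Prime 5) := ⟨by norm_num⟩
    obtain ⟨k, hk, hk', hmod, he⟩ := hfix 5 g hg
    haveI : Nonempty {u : X // g • u = u} := ⟨⟨u, hu⟩⟩
    have : 0 < Nat.card {u : X // g • u = u} := Nat.card_pos
    unfold Nat.ModEq at hmod
    have := Nat.le_of_dvd (by norm_num) hk
    interval_cases k <;> omega
  obtain ⟨g₅, hg₅⟩ : ∃ g : H, orderOf g = 5 := by
    haveI : Fact (Nat.Prime 5) := ⟨by norm_num⟩
    exact exists_prime_orderOf_dvd_card' 5 (by rw [hcard]; norm_num)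
  have h7 : ∀ g : H, orderOf g = 7 → ∀ a b : X, g • a = a → g • b = b → a = b := by
    intro g hg a b ha hb
    haveI : Fact (Nat.Prime 7) := ⟨by norm_num⟩
    obtain ⟨k, hk, hk', hmod, he⟩ := hfix 7 g hg
    unfold Nat.ModEq at hmod
    have := Nat.le_of_dvd (by norm_num) hk
    have h1 : Nat.card {u : X // g • u = u} = 1 := by interval_cases k <;> omega
    haveI := (Nat.card_eq_one_iff_unique.mp h1).1
    exact congrArg Subtype.val (Subsingleton.elim (⟨a, ha⟩ : {u : X // g • u = u}) ⟨b, hb⟩)
  -- every orbit has a multiple of five elements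
  have hinv5 : ∀ a : X, 5 ∣ (MulAction.orbit H a).ncard := by
    intro a
    haveI : Fact (Nat.Prime 5) := ⟨by norm_num⟩
    have hP : IsPGroup 5 (Subgroup.zpowers g₅) := IsPGroup.of_card (n := 1) (by
      rw [Nat.card_zpowers, hg₅, pow_one])
    have := hP.card_modEq_card_fixedPoints (MulAction.orbit H a)
    rw [show Nat.card (MulAction.fixedPoints (Subgroup.zpowers g₅) (MulAction.orbit H a)) = 0 from
      Nat.card_eq_zero.mpr (Or.inl ⟨fun u => h5 g₅ hg₅ u.1.1
        (congrArg Subtype.val (u.2 ⟨g₅, Subgroup.mem_zpowers g₅⟩))⟩), Nat.card_coe_set_eq] at this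
    exact Nat.modEq_zero_iff_dvd.mp this
  -- transitivity
  have htrans : ∀ a b : X, ∃ g : H, g • a = b := by
    intro a
    suffices h : (MulAction.orbit H a).ncard = 15 by
      intro b
      have : MulAction.orbit H a = Set.univ :=
        Set.eq_of_subset_of_ncard_le (Set.subset_univ _) (by rw [Set.ncard_univ, hX, h])
      exact (this ▸ Set.mem_univ b : b ∈ MulAction.orbit H a)
    have key : ∀ c : X, (MulAction.orbit H c).ncard ≠ 5 := by
      intro c hc
      haveI : Fintype (MulAction.orbit H c) := Fintype.ofFinite _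
      let φ := MulAction.toPermHom H (MulAction.orbit H c)
      rcases IsSimpleGroup.eq_bot_or_eq_top_of_normal φ.ker inferInstance with h | h
      · have := Nat.card_le_card_of_injective φ ((MonoidHom.ker_eq_bot_iff φ).mp h)
        rw [hcard, Nat.card_perm, Nat.card_coe_set_eq, hc] at this
        exact absurd this (by decide)
      · have hm : φ g₅ = 1 := (h ▸ Subgroup.mem_top g₅ : g₅ ∈ φ.ker)
        exact h5 g₅ hg₅ c (congrArg Subtype.val (Equiv.congr_fun hm ⟨c, MulAction.mem_orbit_self c⟩))
    obtain ⟨q, hq⟩ := hinv5 a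
    have hle : (MulAction.orbit H a).ncard ≤ 15 :=
      hX ▸ (Set.ncard_univ X ▸ Set.ncard_le_ncard (Set.subset_univ _))
    have hne : (MulAction.orbit H a).Nonempty := ⟨a, MulAction.mem_orbit_self a⟩
    have hpos := (Set.ncard_pos).mpr hne
    by_contra hne15
    have h10 : (MulAction.orbit H a).ncard = 10 := by have := key a; omega
    have hc : ((MulAction.orbit H a)ᶜ).ncard = 5 := by
      have := Set.ncard_add_ncard_compl (MulAction.orbit H a); omega
    obtain ⟨c, hc'⟩ := Set.nonempty_of_ncard_ne_zero (by rw [hc]; norm_num : ((MulAction.orbit H a)ᶜ).ncard ≠ 0)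
    have hsub : MulAction.orbit H c ⊆ (MulAction.orbit H a)ᶜ := fun u hu hu' => hc' (by
      rw [← MulAction.orbit_eq_iff.mpr hu'] ; rw [MulAction.orbit_eq_iff.mpr hu]; exact MulAction.mem_orbit_self c)
    obtain ⟨q', hq'⟩ := hinv5 c
    have := Set.ncard_le_ncard hsub
    have := key c
    have := (Set.ncard_pos).mpr (⟨c, MulAction.mem_orbit_self c⟩ : (MulAction.orbit H c).Nonempty)
    omega
  -- the stabiliser of a point is transitive on the others
  have h2trans : ∀ a b c : X, b ≠ a → c ≠ a → ∃ g : H, g • a = a ∧ g • b = c := by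
    intro a b c hba hca
    haveI : MulAction.IsPretransitive H X := ⟨htrans⟩
    set S := MulAction.stabilizer H a with hS
    have hScard : Nat.card S * 15 = 2520 := by
      rw [← hX, ← MulAction.index_stabilizer_of_transitive H a, Subgroup.card_mul_index, hcard]
    haveI : Fact (Nat.Prime 7) := ⟨by norm_num⟩
    obtain ⟨s₇, hs₇⟩ : ∃ g : S, orderOf g = 7 := exists_prime_orderOf_dvd_card' 7 (by omega)
    rw [← Subgroup.orderOf_coe] at hs₇
    have horb : ∀ d : X, d ≠ a → (MulAction.orbit S d).ncard = 14 := by
      intro d hd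
      have hmod : 7 ∣ (MulAction.orbit S d).ncard := by
        haveI : Fintype (MulAction.orbit S d) := Fintype.ofFinite _
        have hP : IsPGroup 7 (Subgroup.zpowers s₇) := IsPGroup.of_card (n := 1) (by
          rw [Nat.card_zpowers, ← Subgroup.orderOf_coe, hs₇, pow_one])
        have := hP.card_modEq_card_fixedPoints (MulAction.orbit S d)
        rw [show Nat.card (MulAction.fixedPoints (Subgroup.zpowers s₇) (MulAction.orbit S d)) = 0 from
          Nat.card_eq_zero.mpr (Or.inl ⟨fun u => by
            have hu : (s₇ : H) • u.1.1 = u.1.1 := congrArg Subtype.val (u.2 ⟨s₇, Subgroup.mem_zpowers s₇⟩)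
            have := h7 _ hs₇ _ _ hu s₇.2
            obtain ⟨g, hg⟩ := u.1.2
            apply hd
            have hg' : (g : H) • d = a := hg.trans this
            exact MulAction.injective (g : H) (hg'.trans g.2.symm)⟩), Nat.card_coe_set_eq] at this
        exact Nat.modEq_zero_iff_dvd.mp this
      have hle : (MulAction.orbit S d).ncard ≤ 14 := by
        have hsub : MulAction.orbit S d ⊆ ({a}ᶜ : Set X) := by
          rintro _ ⟨g, rfl⟩ (e : (g : H) • d = a)
          exact hd (MulAction.injective (g : H) (e.trans g.2.symm))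
        have h14 : ({a}ᶜ : Set X).ncard = 14 := by
          have := Set.ncard_add_ncard_compl ({a} : Set X)
          rw [Set.ncard_singleton, hX] at this; omega
        exact h14 ▸ Set.ncard_le_ncard hsub
      have hpos := (Set.ncard_pos).mpr (⟨d, MulAction.mem_orbit_self d⟩ : (MulAction.orbit S d).Nonempty)
      by_contra hne14
      have h7d : (MulAction.orbit S d).ncard = 7 := by obtain ⟨q, hq⟩ := hmod; omega
      -- an involution exchanging two points
      obtain ⟨t, ht⟩ : ∃ t : H, orderOf t = 2 := by
        haveI : Fact (Nat.Prime 2) := ⟨Nat.prime_two⟩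
        exact exists_prime_orderOf_dvd_card' 2 (by rw [hcard]; norm_num)
      obtain ⟨x, hx⟩ : ∃ x : X, t • x ≠ x := by
        by_contra! h
        rw [hfaith t h, orderOf_one] at ht
        exact absurd ht (by norm_num)
      obtain ⟨h, hh⟩ := htrans x a
      set u := h • t • x with hu
      set t' := h * t * h⁻¹ with ht'
      have htt : ∀ y : X, t • t • y = y := fun y => by
        rw [← mul_smul, ← pow_two, ← ht, pow_orderOf_eq_one, one_smul]
      have hta : t' • a = u := by rw [ht', mul_smul, mul_smul, ← hh, inv_smul_smul]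
      have htu : t' • u = a := by rw [ht', hu, mul_smul, mul_smul, inv_smul_smul, htt, hh]
      have hua : u ≠ a := fun e => hx (MulAction.injective h (e.trans hh.symm))
      -- the other orbit of the stabiliser
      have hu7 : (MulAction.orbit S u).ncard = 7 := by
        by_cases hm : u ∈ MulAction.orbit S d
        · rw [MulAction.orbit_eq_iff.mpr hm, h7d]
        · have hmod' : 7 ∣ (MulAction.orbit S u).ncard ∧ (MulAction.orbit S u).ncard ≤ 7 := by
            refine ⟨?_, ?_⟩
            · haveI : Fintype (MulAction.orbit S u) := Fintype.ofFinite _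
              have hP : IsPGroup 7 (Subgroup.zpowers s₇) := IsPGroup.of_card (n := 1) (by
                rw [Nat.card_zpowers, ← Subgroup.orderOf_coe, hs₇, pow_one])
              have := hP.card_modEq_card_fixedPoints (MulAction.orbit S u)
              rw [show Nat.card (MulAction.fixedPoints (Subgroup.zpowers s₇) (MulAction.orbit S u)) = 0 from
                Nat.card_eq_zero.mpr (Or.inl ⟨fun w => by
                  have hw : (s₇ : H) • w.1.1 = w.1.1 := congrArg Subtype.val (w.2 ⟨s₇, Subgroup.mem_zpowers s₇⟩)
                  have := h7 _ hs₇ _ _ hw s₇.2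
                  obtain ⟨g, hg⟩ := w.1.2
                  apply hua
                  have hg' : (g : H) • u = a := hg.trans this
                  exact MulAction.injective (g : H) (hg'.trans g.2.symm)⟩), Nat.card_coe_set_eq] at this
              exact Nat.modEq_zero_iff_dvd.mp this
            · have hsub : MulAction.orbit S u ⊆ (insert a (MulAction.orbit S d))ᶜ := by
                intro w hw hw'
                rcases hw' with rfl | hw'
                · obtain ⟨g, hg⟩ := hw
                  exact hua (MulAction.injective (g : H) (hg.trans g.2.symm))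
                · exact hm (MulAction.orbit_eq_iff.mpr hw' ▸ (MulAction.orbit_eq_iff.mpr hw) ▸ MulAction.mem_orbit_self u)
              have hd' : a ∉ MulAction.orbit S d := by
                rintro ⟨g, hg⟩; exact hd (MulAction.injective (g : H) (hg.trans g.2.symm))
              have := Set.ncard_le_ncard hsub
              have h2 := Set.ncard_add_ncard_compl (insert a (MulAction.orbit S d))
              rw [Set.ncard_insert_of_notMem hd', h7d, hX] at h2
              omega
          have := (Set.ncard_pos).mpr (⟨u, MulAction.mem_orbit_self u⟩ : (MulAction.orbit S u).Nonempty)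
          obtain ⟨⟨q, hq⟩, hle'⟩ := hmod'
          omega
      -- the orbital of `(a, u)` has odd size but is exchanged by swapping
      let E := MulAction.orbit H (a, u)
      have hstab : MulAction.stabilizer H (a, u) = (MulAction.stabilizer S u).map S.subtype := by
        ext g
        constructor
        · intro hg
          exact ⟨⟨g, congrArg Prod.fst hg⟩, (congrArg Prod.snd hg : _), rfl⟩
        · rintro ⟨g, hg, rfl⟩
          exact Prod.ext g.2 hg
      have hE : E.ncard = 105 := by
        have h1 := Subgroup.card_mul_index (MulAction.stabilizer H (a, u))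
        rw [MulAction.index_stabilizer, hcard] at h1
        have h2 := Subgroup.card_mul_index (MulAction.stabilizer S u)
        rw [MulAction.index_stabilizer, hu7] at h2
        have h3 : Nat.card (MulAction.stabilizer H (a, u)) = Nat.card (MulAction.stabilizer S u) := by
          rw [hstab, Subgroup.card_map_of_injective S.subtype_injective]
        rw [h3] at h1
        have h4 : Nat.card (MulAction.stabilizer S u) = 24 := by omega
        rw [h4] at h1
        exact Nat.eq_of_mul_eq_mul_left (by norm_num : 0 < 24) (h1.trans (by norm_num))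
      have hswap : ∀ p ∈ E, Prod.swap p ∈ E := by
        rintro _ ⟨g, rfl⟩
        exact ⟨g * t', Prod.ext (by show (g * t') • a = g • u; rw [mul_smul, hta])
          (by show (g * t') • u = g • a; rw [mul_smul, htu])⟩
      haveI : Fact (Nat.Prime 2) := ⟨Nat.prime_two⟩
      let σ : Equiv.Perm E := ⟨fun p => ⟨_, hswap _ p.2⟩, fun p => ⟨_, hswap _ p.2⟩,
        fun p => Subtype.ext p.1.swap_swap, fun p => Subtype.ext p.1.swap_swap⟩
      have hσ := Equiv.Perm.card_compl_support_modEq (p := 2) (n := 1) (σ := σ) (by
        ext p <;> rw [pow_one, pow_two] <;> rfl)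
      rw [Finset.card_eq_zero.mpr (Finset.eq_empty_of_forall_notMem fun p hp => by
        rw [Finset.mem_compl, Equiv.Perm.notMem_support] at hp
        obtain ⟨g, hg⟩ := p.2
        have e := congrArg (fun z : E => z.1.1) hp
        change p.1.2 = p.1.1 at e
        rw [← hg] at e
        exact hua (MulAction.injective g e))] at hσ
      rw [← Nat.card_eq_fintype_card, Nat.card_coe_set_eq, hE] at hσ
      exact absurd hσ (by decide)
    have hb := horb b hba
    have hsub : MulAction.orbit S b ⊆ ({a}ᶜ : Set X) := by
      rintro _ ⟨g, rfl⟩ (e : (g : H) • b = a)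
      exact hba (MulAction.injective (g : H) (e.trans g.2.symm))
    have h14 : ({a}ᶜ : Set X).ncard = 14 := by
      have := Set.ncard_add_ncard_compl ({a} : Set X)
      rw [Set.ncard_singleton, hX] at this; omega
    have hc' : c ∈ MulAction.orbit S b := by
      rw [Set.eq_of_subset_of_ncard_le hsub (by omega)]; exact hca
    obtain ⟨g, hg⟩ := hc'
    exact ⟨g, g.2, hg⟩
  obtain ⟨g, hg⟩ := htrans ⟨v, hv⟩ ⟨v', hv'⟩
  obtain ⟨k, hk1, hk2⟩ := h2trans ⟨v', hv'⟩ (g • ⟨w, hw⟩) ⟨w', hw'⟩
    (fun e => hvw (congrArg Subtype.val (MulAction.injective g (e.trans hg.symm))).symm)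
    (fun e => hvw' (congrArg Subtype.val e).symm)
  refine ⟨k * g, (k * g).2, ?_, ?_⟩
  · exact (congrArg Subtype.val (show (k * g) • (⟨v, hv⟩ : X) = ⟨v', hv'⟩ by rw [mul_smul, hg, hk1]) : _)
  · exact (congrArg Subtype.val (show (k * g) • (⟨w, hw⟩ : X) = ⟨w', hw'⟩ by rw [mul_smul, hk2]) : _)

/-- Let F be the field with 2 elements. GL_4(F) (≅ A_8) has a subgroup isomorphic to the alternating group A_7, and every such subgroup acts 2-transitively on the 15 non-zero vectors of F⁴: any ordered pair of distinct non-zero vectors is carried to any other by some element of the subgroup. -/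
theorem result {F : Type*} [Field F] [Fintype F] (hF : Fintype.card F = 2) : (∃ H : Subgroup (Matrix.GeneralLinearGroup (Fin 4) F), Nonempty (H ≃* alternatingGroup (Fin 7))) ∧ ∀ H : Subgroup (Matrix.GeneralLinearGroup (Fin 4) F), Nonempty (H ≃* alternatingGroup (Fin 7)) → ∀ v w v' w' : Fin 4 → F, v ≠ 0 → w ≠ 0 → v ≠ w → v' ≠ 0 → w' ≠ 0 → v' ≠ w' → ∃ g ∈ H, (g : Matrix (Fin 4) (Fin 4) F).mulVec v = v' ∧ (g : Matrix (Fin 4) (Fin 4) F).mulVec w = w' := by
  refine ⟨?_, fun H hH v w v' w' h1 h2 h3 h4 h5 h6 => two_transitive hF H hH.some v w v' w' h1 h2 h3 h4 h5 h6⟩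
  let e : ZMod 2 ≃+* F := ZMod.ringEquivOfPrime F Nat.prime_two hF
  let φ : GL (Fin 4) (ZMod 2) →* GL (Fin 4) F := Units.map e.toRingHom.mapMatrix.toMonoidHom
  have hφ : Function.Injective φ := fun a b h => by
    apply Units.ext
    ext i j
    exact e.injective (congrArg (fun m : GL (Fin 4) F => m.1 i j) h)
  let ψ := φ.comp PermGp.ASeven.toGL
  exact ⟨ψ.range, ⟨(MonoidHom.ofInjective (f := ψ) (hφ.comp PermGp.ASeven.toGL_injective)).symm⟩⟩

end Cfsg.Agent.S2551
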