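import Cfsg.Statements.S2552
import Mathlib

set_option autoImplicit false
open Cfsg Matrix

namespace Cfsg.Agent.S2552

/-- Let F be a finite field and n ≥ 1. For every k, the special linear group SL_n(F) acts transitively on the set of k-dimensional subspaces of F^n: any two subspaces of the same dimension are carried onto each other by some matrix of determinant 1. -/
theorem result {F : Type*} [Field F] [Fintype F] (n : ℕ) (hn : 1 ≤ n) (U₁ U₂ : Submodule F (Fin n → F)) (h : Module.finrank F U₁ = Module.finrank F U₂) : ∃ g : Matrix.SpecialLinearGroup (Fin n) F, U₁.map ((Matrix.SpecialLinearGroup.toLin' g : (Fin n → F) ≃ₗ[F] (Fin n → F)) : (Fin n → F) →ₗ[F] (Fin n → F)) = U₂ := by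
  classical
  obtain ⟨C₁, hC₁⟩ := U₁.exists_isCompl
  obtain ⟨C₂, hC₂⟩ := U₂.exists_isCompl
  have hC : Module.finrank F C₁ = Module.finrank F C₂ := by
    have := Submodule.finrank_add_eq_of_isCompl hC₁
    have := Submodule.finrank_add_eq_of_isCompl hC₂
    omega
  let e₁ := LinearEquiv.ofFinrankEq U₁ U₂ h
  let e₂ := LinearEquiv.ofFinrankEq C₁ C₂ hC
  let P₂ := Submodule.prodEquivOfIsCompl U₂ C₂ hC₂
  let E := ((Submodule.prodEquivOfIsCompl U₁ C₁ hC₁).symm.trans (e₁.prodCongr e₂)).trans P₂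
  have hE : ∀ u : U₁, E u = (e₁ u : Fin n → F) := by
    intro u
    show P₂ ((e₁.prodCongr e₂) ((Submodule.prodEquivOfIsCompl U₁ C₁ hC₁).symm u)) = _
    rw [Submodule.prodEquivOfIsCompl_symm_apply_left]
    simp [P₂]
  have hEU : U₁.map (E : (Fin n → F) →ₗ[F] (Fin n → F)) = U₂ := by
    refine le_antisymm (Submodule.map_le_iff_le_comap.2 fun u hu => ?_) fun v hv => ?_
    · show E u ∈ U₂
      rw [hE ⟨u, hu⟩]; exact (e₁ _).2
    · exact ⟨e₁.symm ⟨v, hv⟩, (e₁.symm _).2, (hE _).trans (by rw [e₁.apply_symm_apply])⟩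
  -- correct the determinant
  let b := ((Module.finBasis F U₂).prod (Module.finBasis F C₂)).map P₂
  obtain ⟨i₀⟩ : Nonempty (Fin (Module.finrank F U₂) ⊕ Fin (Module.finrank F C₂)) := by
    rw [← Fintype.card_pos_iff, ← Module.finrank_eq_card_basis b, Module.finrank_fin_fun]
    omega
  set d : F := (LinearMap.det (E : (Fin n → F) →ₗ[F] (Fin n → F)))⁻¹
  let D : (Fin n → F) →ₗ[F] (Fin n → F) :=
    Matrix.toLin b b (Matrix.diagonal (Function.update (fun _ => (1 : F)) i₀ d))
  have hDdet : LinearMap.det D = d := by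
    rw [LinearMap.det_toLin, Matrix.det_diagonal, Finset.prod_update_of_mem (Finset.mem_univ _)]
    simp
  have hDU : ∀ v ∈ U₂, D v ∈ U₂ := by
    intro v hv
    obtain ⟨c, rfl⟩ : ∃ c : Fin (Module.finrank F U₂) → F, ∑ i, c i • (b (Sum.inl i) : Fin n → F) = v := by
      refine ⟨fun i => (Module.finBasis F U₂).repr ⟨v, hv⟩ i, ?_⟩
      have h1 := congrArg Subtype.val ((Module.finBasis F U₂).sum_repr ⟨v, hv⟩)
      rw [Submodule.coe_sum] at h1
      simpa [b, P₂] using h1
    rw [map_sum]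
    refine U₂.sum_mem fun i _ => ?_
    rw [map_smul]
    refine U₂.smul_mem _ ?_
    rw [Matrix.toLin_self]
    refine U₂.sum_mem fun j _ => ?_
    by_cases hj : j = Sum.inl i
    · subst hj
      exact U₂.smul_mem _ (by simp [b, P₂])
    · rw [Matrix.diagonal_apply_ne _ hj, zero_smul]
      exact U₂.zero_mem
  let L := D ∘ₗ (E : (Fin n → F) →ₗ[F] (Fin n → F))
  have hLdet : LinearMap.det L = 1 := by
    rw [LinearMap.det_comp, hDdet, inv_mul_cancel₀]
    exact (LinearEquiv.isUnit_det' E).ne_zero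
  refine ⟨⟨LinearMap.toMatrix' L, by rw [LinearMap.det_toMatrix', hLdet]⟩, ?_⟩
  have hg : ((Matrix.SpecialLinearGroup.toLin' (⟨LinearMap.toMatrix' L,
      by rw [LinearMap.det_toMatrix', hLdet]⟩ : Matrix.SpecialLinearGroup (Fin n) F) :
      (Fin n → F) ≃ₗ[F] (Fin n → F)) : (Fin n → F) →ₗ[F] (Fin n → F)) = L :=
    LinearMap.ext fun v => (Matrix.SpecialLinearGroup.toLin'_apply _ v).trans (by
      show LinearMap.toMatrix' L *ᵥ v = L v
      rw [LinearMap.toMatrix'_mulVec])
  rw [hg, Submodule.map_comp, hEU]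
  refine Submodule.eq_of_le_of_finrank_eq (Submodule.map_le_iff_le_comap.2 hDU) ?_
  have hinj : Function.Injective D := by
    refine LinearMap.ker_eq_bot.1 (not_not.1 fun hk => ?_)
    refine absurd (LinearMap.det_eq_zero_iff_ker_ne_bot.2 hk) ?_
    rw [hDdet]
    exact inv_ne_zero (LinearEquiv.isUnit_det' E).ne_zero
  exact (Submodule.equivMapOfInjective D hinj U₂).finrank_eq.symm

end Cfsg.Agent.S2552
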