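import Cfsg.Statements.S2553
import Cfsg.Agent.Lib.PermGp.CleanEight
import Cfsg.Agent.Lib.PermGp.GLFourAltEight

set_option autoImplicit false
open Cfsg

namespace Cfsg.Agent.S2553

/-- Let H be a nontrivial subgroup of GL(4,2) (a group isomorphic to the alternating group of degree 8) whose largest normal 2-subgroup and largest normal subgroup of odd order are both trivial. Then H is isomorphic to an alternating group of degree n for some 5 ≤ n ≤ 8, to the symmetric group of degree 5 or 6, or to GL(3,2). -/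
theorem result (H : Subgroup (GL (Fin 4) (ZMod 2))) (hH : H ≠ ⊥) (hO : Cfsg.pPrimeCore 2 ↥H = ⊥) (hO2 : Cfsg.pCore 2 ↥H = ⊥) :
    (∃ n : ℕ, 5 ≤ n ∧ n ≤ 8 ∧ Nonempty (↥H ≃* alternatingGroup (Fin n))) ∨
    Nonempty (↥H ≃* Equiv.Perm (Fin 5)) ∨ Nonempty (↥H ≃* Equiv.Perm (Fin 6)) ∨ Nonempty (↥H ≃* GL (Fin 3) (ZMod 2)) := by
  obtain ⟨f, hf⟩ := PermGp.GLFour.exists_embedding
  let F : ↥H →* Equiv.Perm (Fin 8) := ((alternatingGroup (Fin 8)).subtype.comp f).comp H.subtype
  have hF : Function.Injective F := (Subtype.val_injective.comp hf).comp Subtype.val_injective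
  have e : ↥H ≃* F.range := MonoidHom.ofInjective hF
  have hne : F.range ≠ ⊥ := fun h => hH (by
    rw [MonoidHom.range_eq_bot_iff] at h
    refine eq_bot_iff.2 fun x hx => ?_
    have : (⟨x, hx⟩ : ↥H) = 1 := hF (by rw [h]; rfl)
    exact Subgroup.mem_bot.2 (congrArg Subtype.val this))
  refine PermGp.IsGL4TwoType.of_equiv e (PermGp.type_of_clean ?_ (PermGp.clean_of_equiv e (PermGp.clean_of_cores hO hO2)) hne)
  rintro _ ⟨x, rfl⟩
  exact (f (H.subtype x)).2

end Cfsg.Agent.S2553
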