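import Cfsg.Statements.S2556
import Cfsg.Agent.Lib.Suzuki.AutQCore
import Cfsg.Agent.Lib.Suzuki.LieIso
import Cfsg.Agent.Lib.Components.NormalizerLayer

set_option autoImplicit false
open Cfsg

namespace Cfsg.Agent.S2556

/-- Let S be a Sylow 2-subgroup of the Suzuki group Sz(q), q = 2ⁿ with n = 2m + 1 ≥ 3 (realised as 4 × 4 matrices over the field with q elements). Then the largest normal 2-subgroup of the automorphism group of S is elementary abelian of order 2^(n²), and the automorphism group of S has order 2^(n²) · n · (q − 1). -/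
theorem result {S : Type*} [Group S] [Finite S] (m : ℕ) (hm : 1 ≤ m)
    {F : Type*} [Field F] [Fintype F] (hF : Fintype.card F = 2 ^ (2 * m + 1))
    (P : Sylow 2 ↥(Cfsg.Lie.Sz F (2 ^ (m + 1)))) (hS : Nonempty (S ≃* ↥(P : Subgroup ↥(Cfsg.Lie.Sz F (2 ^ (m + 1)))))) :
    Cfsg.IsElementaryAbelian 2 (Cfsg.pCore 2 (MulAut S)) ∧ Nat.card ↥(Cfsg.pCore 2 (MulAut S)) = 2 ^ ((2 * m + 1) ^ 2) ∧
      Nat.card (MulAut S) = 2 ^ ((2 * m + 1) ^ 2) * ((2 * m + 1) * (2 ^ (2 * m + 1) - 1)) := by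
  obtain ⟨D⟩ := Cfsg.Agent.Suzuki.exists_dat hm hF
  obtain ⟨eS⟩ := hS
  let e := Cfsg.Agent.Suzuki.lieEquiv D hF
  let P' : Sylow 2 ↥(Cfsg.Sz F m) :=
    P.mapSurjective (f := e.symm.toMonoidHom) (by exact e.symm.surjective : Function.Surjective e.symm.toMonoidHom)
  obtain ⟨eP⟩ := Cfsg.Agent.Suzuki.sylow_equiv D hF P'
  let e2 : ↥(P : Subgroup ↥(Cfsg.Lie.Sz F (2 ^ (m + 1)))) ≃* ↥(P' : Subgroup ↥(Cfsg.Sz F m)) :=
    Subgroup.equivMapOfInjective _ e.symm.toMonoidHom e.symm.injective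
  let E : MulAut S ≃* MulAut ↥(Cfsg.Agent.Suzuki.Q D) := MulAut.congr ((eS.trans e2).trans eP.symm)
  obtain ⟨K, hKn, ⟨hKc, hKe⟩, hKcard, hKidx⟩ := Cfsg.Agent.Suzuki.exists_core D hF
  haveI := hKn
  haveI : Finite (MulAut S) := Finite.of_injective (fun f => (f : S → S)) DFunLike.coe_injective
  haveI : Fact (Nat.Prime 2) := ⟨Nat.prime_two⟩
  set K' := K.comap E.toMonoidHom with hK'
  haveI : K'.Normal := hKn.comap _
  have hK'idx : K'.index = (2 * m + 1) * (2 ^ (2 * m + 1) - 1) := by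
    rw [hK', Subgroup.index_comap_of_surjective (f := E.toMonoidHom) K E.surjective, hKidx]
  have hK'card : Nat.card K' = 2 ^ ((2 * m + 1) ^ 2) := by
    rw [← hKcard]
    exact Nat.card_congr (E.toEquiv.subtypeEquiv fun x => Iff.rfl)
  have hpK : IsPGroup 2 K' := IsPGroup.of_card hK'card
  have hcore : Cfsg.pCore 2 (MulAut S) = K' := by
    refine le_antisymm (fun x hx => ?_) (Cfsg.Agent.Components.le_pCore inferInstance hpK)
    obtain ⟨k, hk⟩ := (IsPGroup.iff_orderOf.1 (Cfsg.Agent.Components.isPGroup_pCore (p := 2)) ⟨x, hx⟩)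
    rw [Subgroup.orderOf_mk] at hk
    have h1 : orderOf (x : MulAut S ⧸ K') ∣ 2 ^ k := hk ▸ orderOf_map_dvd (QuotientGroup.mk' K') x
    have h2 : orderOf (x : MulAut S ⧸ K') ∣ (2 * m + 1) * (2 ^ (2 * m + 1) - 1) := by
      rw [← hK'idx]; exact orderOf_dvd_natCard _
    have hodd : Odd ((2 * m + 1) * (2 ^ (2 * m + 1) - 1)) := by
      refine (odd_two_mul_add_one m).mul ?_
      rw [Nat.odd_iff]
      have : 2 ∣ 2 ^ (2 * m + 1) := dvd_pow_self 2 (by omega)
      have := Nat.one_le_two_pow (n := 2 * m + 1)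
      omega
    have h3 : orderOf (x : MulAut S ⧸ K') = 1 :=
      Nat.Coprime.eq_one_of_dvd ((Nat.coprime_two_left.2 hodd).pow_left k |>.coprime_dvd_left h1) h2
    exact (QuotientGroup.eq_one_iff x).1 (orderOf_eq_one_iff.1 h3)
  rw [hcore]
  refine ⟨⟨?_, fun a ha => E.injective ?_⟩, hK'card, ?_⟩
  · rw [isMulCommutative_iff]
    intro a b
    refine Subtype.ext (E.injective ?_)
    rw [Subgroup.coe_mul, Subgroup.coe_mul, map_mul, map_mul]
    exact congrArg Subtype.val ((isMulCommutative_iff.1 hKc) ⟨E a, a.2⟩ ⟨E b, b.2⟩)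
  · rw [map_pow, map_one]
    exact hKe _ ha
  · rw [← Subgroup.card_mul_index K', hK'card, hK'idx]

end Cfsg.Agent.S2556
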