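import Cfsg.Statements.S2558
import Cfsg.Agent.Lib.ClassNum.OrthCount
import Cfsg.Agent.Lib.ClassNum.OrthLower
-- import your own Cfsg.Agent.* helpers here

set_option autoImplicit false
open Cfsg

namespace Cfsg.Agent.S2558


open scoped Matrix

theorem bounds {F : Type*} [Field F] [Fintype F] (hodd : Odd (Fintype.card F)) {n : ℕ} (hn : 2 ≤ n)
    {ι : Type} [Fintype ι] [DecidableEq ι] (hι : Fintype.card ι = n + n) (Q : (ι → F) → F)
    (G : Matrix ι ι F) (hG : Gᵀ = G) (hdet : G.det ≠ 0) (hQ : ∀ v, 2 * Q v = v ⬝ᵥ (G *ᵥ v)) :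
    Fintype.card F ^ n ≤ 2 * Nat.card (ConjClasses ↥(Cfsg.isometryGroup F Q)) ∧
      2 * Nat.card (ConjClasses ↥(Cfsg.isometryGroup F Q)) ≤ 19 * Fintype.card F ^ n := by
  let e : ι ≃ Fin (n + n) := Fintype.equivFinOfCardEq hι
  rw [ClassNum.card_classes_transport (Disc.two_ne_zero_of_odd hodd) e Q G hG hQ]
  have h1 : (Matrix.reindex e e G)ᵀ = Matrix.reindex e e G := by rw [Matrix.transpose_reindex, hG]
  have h2 : (Matrix.reindex e e G).det ≠ 0 := by rwa [Matrix.det_reindex_self]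
  exact ⟨ClassNum.classes_orth_ge hodd hn _ h1 h2,
    ClassNum.classes_orth_le hodd (by omega) (two_mul n).symm _ h1 h2⟩

/-- The number of conjugacy classes of the full orthogonal groups O⁺(2n,q) and O⁻(2n,q), q odd, 2n ≥ 4: for F a finite field of odd order q and n ≥ 2, the number k of conjugacy classes of the isometry group of the hyperbolic quadratic form Σ xᵢyᵢ on F^{2n}, and likewise of the elliptic form Σ xᵢyᵢ + (z₁² + a z₁z₂ + b z₂²) with anisotropic binary part, satisfies q^n/2 ≤ k ≤ 9.5·q^n. -/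
theorem result {F : Type*} [Field F] [Fintype F] (hodd : Odd (Fintype.card F)) (n : ℕ) (hn : 2 ≤ n) (a b : F) (hab : ∀ z₁ z₂ : F, z₁ ^ 2 + a * z₁ * z₂ + b * z₂ ^ 2 = 0 → z₁ = 0 ∧ z₂ = 0) :
    (Fintype.card F ^ n ≤ 2 * Nat.card (ConjClasses ↥(Cfsg.isometryGroup F (Cfsg.quadFormPlus n F))) ∧
      2 * Nat.card (ConjClasses ↥(Cfsg.isometryGroup F (Cfsg.quadFormPlus n F))) ≤ 19 * Fintype.card F ^ n) ∧
    (Fintype.card F ^ n ≤ 2 * Nat.card (ConjClasses ↥(Cfsg.isometryGroup F (Cfsg.quadFormMinus (n - 1) F a b))) ∧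
      2 * Nat.card (ConjClasses ↥(Cfsg.isometryGroup F (Cfsg.quadFormMinus (n - 1) F a b))) ≤ 19 * Fintype.card F ^ n) := by
  classical
  obtain ⟨k, rfl⟩ : ∃ k, n = k + 1 := ⟨n - 1, by omega⟩
  have hH : ∀ j : ℕ, (Matrix.fromBlocks (0 : Matrix (Fin j) (Fin j) F) (1 : Matrix (Fin j) (Fin j) F) (1 : Matrix (Fin j) (Fin j) F) (0 : Matrix (Fin j) (Fin j) F)).det = (-1 : F) ^ j := by
    intro j
    have h : Matrix.fromBlocks (0 : Matrix (Fin j) (Fin j) F) (1 : Matrix (Fin j) (Fin j) F) (1 : Matrix (Fin j) (Fin j) F) (0 : Matrix (Fin j) (Fin j) F) * Matrix.fromBlocks 1 0 1 1 =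
        Matrix.fromBlocks (1 : Matrix (Fin j) (Fin j) F) 1 1 0 := by simp [Matrix.fromBlocks_multiply]
    have h' := congrArg Matrix.det h
    rw [Matrix.det_mul, Matrix.det_fromBlocks_zero₁₂, Matrix.det_one, mul_one, mul_one,
      Matrix.det_fromBlocks_one₁₁, Matrix.mul_one, zero_sub, Matrix.det_neg, Matrix.det_one, mul_one,
      Fintype.card_fin] at h'
    exact h'
  refine ⟨bounds hodd hn (by simp) _ (Matrix.fromBlocks (0 : Matrix (Fin (k + 1)) (Fin (k + 1)) F) 1 (1 : Matrix (Fin (k + 1)) (Fin (k + 1)) F) 0) (by simp [Matrix.fromBlocks_transpose])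
    (by rw [hH]; exact pow_ne_zero _ (neg_ne_zero.2 one_ne_zero)) fun v => ?_, ?_⟩
  · simp only [Cfsg.quadFormPlus, Matrix.fromBlocks_mulVec, Matrix.zero_mulVec, Matrix.one_mulVec, zero_add,
      add_zero, dotProduct, Fintype.sum_sum_type, Sum.elim_inl, Sum.elim_inr, Function.comp_apply]
    rw [two_mul]
    simp only [mul_comm (v (Sum.inr _))]
  · show Fintype.card F ^ (k + 1) ≤ 2 * Nat.card (ConjClasses ↥(Cfsg.isometryGroup F (Cfsg.quadFormMinus k F a b))) ∧
      2 * Nat.card (ConjClasses ↥(Cfsg.isometryGroup F (Cfsg.quadFormMinus k F a b))) ≤ 19 * Fintype.card F ^ (k + 1)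
    refine bounds hodd hn (by simp; omega) _
      (Matrix.fromBlocks (Matrix.fromBlocks (0 : Matrix (Fin k) (Fin k) F) 1 (1 : Matrix (Fin k) (Fin k) F) 0) 0 0 !![2, a; a, 2 * b]) ?_ ?_
      fun v => ?_
    · rw [Matrix.fromBlocks_transpose, Matrix.fromBlocks_transpose]
      congr 1
      · simp
      · ext i j; fin_cases i <;> fin_cases j <;> rfl
    · rw [Matrix.det_fromBlocks_zero₁₂, hH, Matrix.det_fin_two_of]
      refine mul_ne_zero (pow_ne_zero _ (neg_ne_zero.2 one_ne_zero)) fun h0 => ?_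
      have h2 : (2 : F) ≠ 0 := Disc.two_ne_zero_of_odd hodd
      refine one_ne_zero (hab (-a / 2) 1 ?_).2
      field_simp
      linear_combination h0
    · have hG' : Matrix.fromBlocks (Matrix.fromBlocks (0 : Matrix (Fin k) (Fin k) F) 1 (1 : Matrix (Fin k) (Fin k) F) 0)
          0 0 !![2, a; a, 2 * b] *ᵥ v =
          Sum.elim (Sum.elim (fun i => v (.inl (.inr i))) fun i => v (.inl (.inl i)))
            ![2 * v (.inr 0) + a * v (.inr 1), a * v (.inr 0) + 2 * b * v (.inr 1)] := by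
        simp only [Matrix.fromBlocks_mulVec, Matrix.zero_mulVec, Matrix.one_mulVec, zero_add, add_zero]
        ext (x | x)
        · rfl
        · fin_cases x <;> simp [Matrix.mulVec, dotProduct, Fin.sum_univ_two]
      simp only [hG', Cfsg.quadFormMinus, dotProduct, Fintype.sum_sum_type, Sum.elim_inl, Sum.elim_inr,
        Fin.sum_univ_two, Matrix.cons_val_zero, Matrix.cons_val_one]
      simp only [mul_comm (v (Sum.inl (Sum.inr _)))]
      ring

end Cfsg.Agent.S2558
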