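import Cfsg.Statements.S2562
import Cfsg.Agent.Lib.Spinor.TSMinus
import Cfsg.Agent.Lib.Spinor.Plus
-- import your own Cfsg.Agent.* helpers here

set_option autoImplicit false
open Cfsg

namespace Cfsg.Agent.S2562

/-- Witt indices over the field of two elements, m ≥ 1: for the plus-type form Σ xᵢyᵢ in dimension 2m some m-dimensional subspace is totally singular and no totally singular subspace has larger dimension; for the minus-type form Σ xᵢyᵢ + (z₁² + z₁z₂ + z₂²) in dimension 2m the maximal dimension of a totally singular subspace is m − 1. -/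
theorem result (m : ℕ) (hm : 1 ≤ m) :
    (∃ U : Submodule (ZMod 2) (Fin m ⊕ Fin m → ZMod 2), (∀ u ∈ U, Cfsg.quadFormPlus m (ZMod 2) u = 0) ∧ Module.finrank (ZMod 2) ↥U = m) ∧
    (∀ U : Submodule (ZMod 2) (Fin m ⊕ Fin m → ZMod 2), (∀ u ∈ U, Cfsg.quadFormPlus m (ZMod 2) u = 0) → Module.finrank (ZMod 2) ↥U ≤ m) ∧
    (∃ U : Submodule (ZMod 2) ((Fin (m - 1) ⊕ Fin (m - 1)) ⊕ Fin 2 → ZMod 2), (∀ u ∈ U, Cfsg.quadFormMinus (m - 1) (ZMod 2) 1 1 u = 0) ∧ Module.finrank (ZMod 2) ↥U = m - 1) ∧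
    (∀ U : Submodule (ZMod 2) ((Fin (m - 1) ⊕ Fin (m - 1)) ⊕ Fin 2 → ZMod 2), (∀ u ∈ U, Cfsg.quadFormMinus (m - 1) (ZMod 2) 1 1 u = 0) → Module.finrank (ZMod 2) ↥U ≤ m - 1) := by
  have hab : ∀ z₁ z₂ : ZMod 2, z₁ ^ 2 + 1 * z₁ * z₂ + 1 * z₂ ^ 2 = 0 → z₁ = 0 ∧ z₂ = 0 := by decide
  refine ⟨⟨Spinor.halfX (ZMod 2) m, fun u hu => ?_, Spinor.finrank_halfX⟩, fun U hU => ?_, ?_,
    fun U hU => Spinor.minus_ts_finrank_le 1 1 hab U hU⟩
  · rw [← OrthOrder.qPlus_apply]; exact Spinor.halfX_singular u hu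
  · have hQ := OrthForms.qPlus_nondeg (F := ZMod 2) m
    have hle : U ≤ LinearMap.BilinForm.orthogonal (QuadraticMap.polarBilin (OrthOrder.qPlus m (ZMod 2))) U :=
      fun x hx y hy => Spinor.polar_of_singular
        (fun z hz => by rw [OrthOrder.qPlus_apply]; exact hU z hz) hy hx
    have h1 := Submodule.finrank_mono hle
    rw [Spinor.finrank_orth hQ, Spinor.finrank_plus] at h1
    omega
  · let E : (Fin (m - 1) → ZMod 2) →ₗ[ZMod 2] ((Fin (m - 1) ⊕ Fin (m - 1)) ⊕ Fin 2 → ZMod 2) :=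
      { toFun := fun x => Sum.elim (Sum.elim x 0) 0
        map_add' := fun x y => by ext i; rcases i with (i | i) | i <;> simp
        map_smul' := fun c x => by ext i; rcases i with (i | i) | i <;> simp }
    refine ⟨LinearMap.range E, ?_, ?_⟩
    · rintro _ ⟨x, rfl⟩
      simp [E, Cfsg.quadFormMinus]
    · rw [LinearMap.finrank_range_of_inj (fun x y hxy => funext fun i => congrFun hxy (Sum.inl (Sum.inl i))),
        Module.finrank_fin_fun]

end Cfsg.Agent.S2562
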