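import Cfsg.Statements.S2563
import Mathlib

set_option autoImplicit false
open Cfsg

namespace Cfsg.Agent.S2563


open scoped Matrix

variable (k : ℕ)

/-- The points: `k + 1` groups of four. -/
abbrev X := Fin (k + 1) × Fin 4

/-- The planes. -/
abbrev J := Fin k ⊕ Fin (k + 1)

/-- Coordinates in planes. -/
abbrev V := J k → ZMod 2 × ZMod 2

variable {k}

/-- First vector of a plane. -/
def vA : J k → X k → ZMod 2
  | .inl j => fun x => if x.1 = j.castSucc then 1 else 0
  | .inr j => fun x => if x.1 = j then ![1, 1, 0, 0] x.2 else 0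

/-- Second vector of a plane. -/
def vB : J k → X k → ZMod 2
  | .inl j => fun x => if x.1 < j.castSucc then 1 else if x.1 = j.castSucc then ![1, 1, 1, 0] x.2
      else if x.1 = Fin.last k then ![0, 0, 0, 1] x.2 else 0
  | .inr j => fun x => if x.1 = j then ![0, 1, 1, 0] x.2 else 0

/-- The number of ones. -/
def num (w : X k → ZMod 2) : ℕ := ∑ x, if w x = 1 then 1 else 0

/-- Half of the weight, mod 2. -/
def half (w : X k → ZMod 2) : ZMod 2 := ((num w / 2 : ℕ) : ZMod 2)

theorem zmod_sq : ∀ a : ZMod 2, a * a = a := by decide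

theorem num_cast (w : X k → ZMod 2) : (num w : ZMod 2) = ∑ x, w x := by
  rw [num, Nat.cast_sum]
  refine Finset.sum_congr rfl fun x _ => ?_
  exact (by decide : ∀ a : ZMod 2, ((if a = 1 then 1 else 0 : ℕ) : ZMod 2) = a) (w x)

theorem num_even {w : X k → ZMod 2} (h : ∑ x, w x = 0) : 2 ∣ num w :=
  (ZMod.natCast_eq_zero_iff _ _).1 (by rw [num_cast, h])

theorem half_add {w w' : X k → ZMod 2} (h : ∑ x, w x = 0) (h' : ∑ x, w' x = 0) :
    half (w + w') = half w + half w' + w ⬝ᵥ w' := by
  have hid : num (w + w') + 2 * num (w * w') = num w + num w' := by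
    simp only [num, Finset.mul_sum, ← Finset.sum_add_distrib, Pi.add_apply, Pi.mul_apply]
    refine Finset.sum_congr rfl fun x _ => ?_
    exact (by decide : ∀ a b : ZMod 2, (if a + b = 1 then 1 else 0) + 2 * (if a * b = 1 then 1 else 0)
      = (if a = 1 then 1 else 0) + (if b = 1 then 1 else 0)) (w x) (w' x)
  obtain ⟨a, ha⟩ := num_even h
  obtain ⟨b, hb⟩ := num_even h'
  have h1 : num (w + w') / 2 + num (w * w') = a + b := by omega
  have h2 : half (w + w') + w ⬝ᵥ w' = half w + half w' := by
    have := congrArg (fun n : ℕ => (n : ZMod 2)) h1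
    simp only [Nat.cast_add, num_cast] at this
    rw [half, half, half, ha, hb, Nat.mul_div_cancel_left _ two_pos, Nat.mul_div_cancel_left _ two_pos]
    exact this
  rw [← h2]
  exact (by decide : ∀ x y : ZMod 2, x = x + y + y) _ _

theorem sum_vA (i : J k) : ∑ x, vA i x = 0 := by
  rw [Fintype.sum_prod_type]
  refine Finset.sum_eq_zero fun g _ => ?_
  cases i <;> simp only [vA, Fin.sum_univ_four] <;> split_ifs <;> decide

theorem half_vA (i : J k) : half (vA i) = Sum.elim (fun _ => 0) (fun _ => 1) i := by
  cases i with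
  | inl j =>
    have : num (vA (Sum.inl j)) = 4 := by
      rw [num, Fintype.sum_prod_type, Finset.sum_eq_single j.castSucc]
      · simp [vA]
      · intro g _ hg; simp [vA, hg]
      · simp
    rw [half, this]; rfl
  | inr j =>
    have : num (vA (Sum.inr j)) = 2 := by
      rw [num, Fintype.sum_prod_type, Finset.sum_eq_single j]
      · simp [vA]; decide
      · intro g _ hg; simp [vA, hg]
      · simp
    rw [half, this]; rfl

theorem dot_vA (i : J k) (w : X k → ZMod 2) : vA i ⬝ᵥ w =
    Sum.elim (fun j : Fin k => ∑ t, w (j.castSucc, t))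
      (fun j => w (j, 0) + w (j, 1)) i := by
  rw [dotProduct, Fintype.sum_prod_type]
  cases i with
  | inl j =>
    rw [Finset.sum_eq_single j.castSucc]
    · simp [vA]
    · intro g _ hg; simp [vA, hg]
    · simp
  | inr j =>
    rw [Finset.sum_eq_single j]
    · simp [vA, Fin.sum_univ_four]
    · intro g _ hg; simp [vA, hg]
    · simp

theorem dot_vB_inr (j : Fin (k + 1)) (w : X k → ZMod 2) :
    vB (Sum.inr j) ⬝ᵥ w = w (j, 1) + w (j, 2) := by
  rw [dotProduct, Fintype.sum_prod_type, Finset.sum_eq_single j]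
  · simp [vB, Fin.sum_univ_four]
  · intro g _ hg; simp [vB, hg]
  · simp

theorem row_vB (j : Fin k) (g : Fin (k + 1)) : ∑ t, vB (Sum.inl j) (g, t) =
    (if g = j.castSucc then 1 else 0) + (if g = Fin.last k then 1 else 0) := by
  have hne : j.castSucc ≠ Fin.last k := (Fin.castSucc_lt_last j).ne
  rcases lt_trichotomy g j.castSucc with h | h | h
  · have h1 : g ≠ Fin.last k := (h.trans (Fin.castSucc_lt_last j)).ne
    simp [vB, h, h.ne, h1]
    decide
  · subst h
    simp [vB, Fin.sum_univ_four, hne]
    decide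
  · by_cases h1 : g = Fin.last k
    · simp [vB, not_lt.2 h.le, h.ne', h1, Fin.sum_univ_four, hne.symm, not_lt.2 (Fin.le_last _)]
    · simp [vB, not_lt.2 h.le, h.ne', h1]

theorem sum_vB (i : J k) : ∑ x, vB i x = 0 := by
  rw [Fintype.sum_prod_type]
  cases i with
  | inl j => simp only [row_vB, Finset.sum_add_distrib, Finset.sum_ite_eq', Finset.mem_univ, if_true]; decide
  | inr j => refine Finset.sum_eq_zero fun g _ => ?_; simp only [vB, Fin.sum_univ_four]; split_ifs <;> decide

theorem half_vB (i : J k) : half (vB i) = Sum.elim (fun _ => 0) (fun _ => 1) i := by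
  cases i with
  | inl j =>
    have hne : j.castSucc ≠ Fin.last k := (Fin.castSucc_lt_last j).ne
    have hrow : ∀ g, (∑ t, if vB (Sum.inl j) (g, t) = 1 then 1 else 0 : ℕ) =
        4 * (if g < j.castSucc then 1 else 0) + 3 * (if g = j.castSucc then 1 else 0) +
          (if g = Fin.last k then 1 else 0) := by
      intro g
      rcases lt_trichotomy g j.castSucc with h | h | h
      · have h1 : g ≠ Fin.last k := (h.trans (Fin.castSucc_lt_last j)).ne
        simp [vB, h, h.ne, h1]
      · subst h
        simp [vB, hne]; decide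
      · by_cases h1 : g = Fin.last k
        · simp [vB, h1, hne.symm, not_lt.2 (Fin.le_last _)]; decide
        · simp [vB, not_lt.2 h.le, h.ne', h1]
    have : num (vB (Sum.inl j)) = 4 * ((∑ g : Fin (k + 1), if g < j.castSucc then 1 else 0) + 1) := by
      rw [num, Fintype.sum_prod_type]
      simp only [hrow, Finset.sum_add_distrib, ← Finset.mul_sum, Finset.sum_ite_eq', Finset.mem_univ,
        if_true]
      ring
    rw [half, this, show ∀ s, 4 * s / 2 = 2 * s from fun s => by omega, Nat.cast_mul]
    exact zero_mul _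
  | inr j =>
    have : num (vB (Sum.inr j)) = 2 := by
      rw [num, Fintype.sum_prod_type, Finset.sum_eq_single j]
      · simp [vB]; decide
      · intro g _ hg; simp [vB, hg]
      · simp
    rw [half, this]; rfl

theorem dot_self {w : X k → ZMod 2} (h : ∑ x, w x = 0) : w ⬝ᵥ w = 0 := by
  rw [dotProduct]; simp only [zmod_sq]; exact h

theorem two_zero : ∀ a : ZMod 2, a + a = 0 := by decide

theorem AA (i l : J k) : vA i ⬝ᵥ vA l = 0 := by
  rw [dot_vA]
  rcases i with i | i <;> rcases l with l | l <;> simp only [Sum.elim_inl, Sum.elim_inr, vA, Fin.sum_univ_four] <;>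
    split_ifs <;> decide

theorem AB (i l : J k) : vA i ⬝ᵥ vB l = if i = l then 1 else 0 := by
  rw [dot_vA]
  rcases i with i | i <;> rcases l with l | l
  · simp only [Sum.elim_inl, row_vB, Sum.inl.injEq, Fin.castSucc_inj,
      (Fin.castSucc_lt_last i).ne, if_false, add_zero]
  · simp only [Sum.elim_inl, vB, Fin.sum_univ_four, reduceCtorEq, if_false]
    split_ifs <;> decide
  · simp only [Sum.elim_inr, vB, reduceCtorEq, if_false]
    rcases lt_trichotomy i l.castSucc with h | h | h
    · simp [h, two_zero]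
    · simp [h, two_zero]
    · simp only [not_lt.2 h.le, h.ne', if_false]; split_ifs <;> decide
  · simp only [Sum.elim_inr, vB, Sum.inr.injEq]
    split_ifs <;> decide

theorem BB (i l : J k) (hil : i ≠ l) : vB i ⬝ᵥ vB l = 0 := by
  rcases i with i | i <;> rcases l with l | l
  · have key : ∀ a b : Fin k, a < b → vB (Sum.inl a) ⬝ᵥ vB (Sum.inl b) = 0 := by
      intro a b hab
      rw [dotProduct, ← sum_vB (Sum.inl a)]
      refine Finset.sum_congr rfl fun x _ => ?_
      have hab' : a.castSucc < b.castSucc := Fin.castSucc_lt_castSucc_iff.2 hab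
      rcases lt_trichotomy x.1 a.castSucc with h | h | h
      · simp [vB, h, h.trans hab']
      · simp [vB, h, hab']
      · by_cases h1 : x.1 = Fin.last k
        · simp [vB, h1, not_lt.2 (Fin.le_last _), (Fin.castSucc_lt_last a).ne', (Fin.castSucc_lt_last b).ne',
            zmod_sq]
        · simp [vB, not_lt.2 h.le, h.ne', h1]
    rcases lt_or_gt_of_ne (fun e => hil (congrArg Sum.inl e)) with h | h
    · exact key i l h
    · rw [dotProduct_comm]; exact key l i h
  · rw [dotProduct_comm, dot_vB_inr]
    rcases lt_trichotomy l i.castSucc with h | h | h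
    · simp [vB, h, two_zero]
    · simp [vB, h, two_zero]
    · simp only [vB, not_lt.2 h.le, h.ne', if_false]; split_ifs <;> decide
  · rw [dot_vB_inr]
    rcases lt_trichotomy i l.castSucc with h | h | h
    · simp [vB, h, two_zero]
    · simp [vB, h, two_zero]
    · simp only [vB, not_lt.2 h.le, h.ne', if_false]; split_ifs <;> decide
  · rw [dot_vB_inr]
    simp only [vB, show i ≠ l from fun e => hil (congrArg Sum.inr e), if_false, add_zero]

/-- The plane part of a vector. -/
def pl (i : J k) (p : ZMod 2 × ZMod 2) : X k → ZMod 2 := p.1 • vA i + p.2 • vB i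

/-- The form on a plane. -/
def qp : J k → ZMod 2 × ZMod 2 → ZMod 2
  | .inl _, p => p.1 * p.2
  | .inr _, p => p.1 + p.2 + p.1 * p.2

theorem sum_pl (i : J k) (p : ZMod 2 × ZMod 2) : ∑ x, pl i p x = 0 := by
  simp [pl, Finset.sum_add_distrib, ← Finset.mul_sum, sum_vA, sum_vB]

theorem half_zero : half (0 : X k → ZMod 2) = 0 := by simp [half, num]

theorem half_smul (c : ZMod 2) (w : X k → ZMod 2) : half (c • w) = c * half w := by
  rcases (by decide : ∀ a : ZMod 2, a = 0 ∨ a = 1) c with rfl | rfl <;> simp [half_zero]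

theorem half_pl (i : J k) (p : ZMod 2 × ZMod 2) : half (pl i p) = qp i p := by
  rw [pl, half_add (by simp [← Finset.mul_sum, sum_vA]) (by simp [← Finset.mul_sum, sum_vB]),
    half_smul, half_smul, half_vA, half_vB, smul_dotProduct, dotProduct_smul, AB, if_pos rfl]
  cases i <;> simp [qp]

theorem pl_orth {i l : J k} (h : i ≠ l) (p p' : ZMod 2 × ZMod 2) : pl i p ⬝ᵥ pl l p' = 0 := by
  simp only [pl, add_dotProduct, dotProduct_add, smul_dotProduct, dotProduct_smul, AA, BB i l h,
    AB i l, if_neg h]
  rw [dotProduct_comm (vB i) (vA l), AB l i, if_neg h.symm]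
  simp

/-- The subset of a vector. -/
def emb : V k →ₗ[ZMod 2] (X k → ZMod 2) where
  toFun v := ∑ i, pl i (v i)
  map_add' v v' := by
    rw [← Finset.sum_add_distrib]
    refine Finset.sum_congr rfl fun i _ => ?_
    simp only [pl, Pi.add_apply, Prod.fst_add, Prod.snd_add, add_smul]
    abel
  map_smul' c v := by
    rw [RingHom.id_apply, Finset.smul_sum]
    refine Finset.sum_congr rfl fun i _ => ?_
    simp only [pl, Pi.smul_apply, Prod.smul_fst, Prod.smul_snd, smul_add, smul_smul, smul_eq_mul]

/-- The form in coordinates. -/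
def Q (v : V k) : ZMod 2 := ∑ i, qp i (v i)

theorem sum_emb_on (v : V k) (s : Finset (J k)) : ∑ x, (∑ i ∈ s, pl i (v i)) x = 0 := by
  simp only [Finset.sum_apply]
  rw [Finset.sum_comm]
  exact Finset.sum_eq_zero fun i _ => sum_pl i (v i)

theorem half_emb (v : V k) : half (emb v) = Q v := by
  show half (∑ i, pl i (v i)) = ∑ i, qp i (v i)
  induction (Finset.univ : Finset (J k)) using Finset.induction with
  | empty => simp [half_zero]
  | insert a s ha ih =>
    rw [Finset.sum_insert ha, Finset.sum_insert ha, half_add (sum_pl _ _) (sum_emb_on v s), half_pl, ih,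
      dotProduct_sum, Finset.sum_eq_zero (fun i hi => pl_orth (fun e => ha (by rw [e]; exact hi)) _ _), add_zero]

variable (k) in
/-- The even subsets. -/
def ev : Submodule (ZMod 2) (X k → ZMod 2) where
  carrier := {w | ∑ x, w x = 0}
  add_mem' {a b} (ha hb) := by simp_all [Finset.sum_add_distrib]
  zero_mem' := by simp
  smul_mem' c a (ha) := by simp_all [← Finset.mul_sum]

theorem sum_one : ∑ _x : X k, (1 : ZMod 2) = 0 := by
  simp [Finset.card_univ, show (4 : ZMod 2) = 0 from rfl]

/-- All the even subsets, parametrised. -/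
def psi : V k × ZMod 2 →ₗ[ZMod 2] ev k where
  toFun p := ⟨emb p.1 + p.2 • 1, (ev k).add_mem (sum_emb_on p.1 Finset.univ)
    ((ev k).smul_mem _ sum_one)⟩
  map_add' p p' := Subtype.ext (by simp [add_smul]; abel)
  map_smul' c p := Subtype.ext (by simp [smul_smul, smul_add])

theorem psi_inj : Function.Injective (psi (k := k)) := by
  rw [injective_iff_map_eq_zero]
  rintro ⟨v, c⟩ h
  replace h : emb v + c • 1 = 0 := congrArg Subtype.val h
  have hA : ∀ i, vA i ⬝ᵥ emb v = (v i).2 := fun i => by
    show vA i ⬝ᵥ (∑ l, pl l (v l)) = _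
    simp only [dotProduct_sum, pl, dotProduct_add, dotProduct_smul, AA, AB]
    simp
  have hB : ∀ i, vB i ⬝ᵥ emb v = (v i).1 := fun i => by
    show vB i ⬝ᵥ (∑ l, pl l (v l)) = _
    rw [dotProduct_sum, Finset.sum_eq_single i]
    · simp only [pl, dotProduct_add, dotProduct_smul, dot_self (sum_vB i), dotProduct_comm (vB i) (vA i), AB]
      simp
    · intro l _ hl
      simp only [pl, dotProduct_add, dotProduct_smul, BB i l hl.symm, dotProduct_comm (vB i) (vA l), AB,
        if_neg hl]
      simp
    · simp
  have hv : v = 0 := by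
    funext i
    have h1 := congrArg (vA i ⬝ᵥ ·) h
    have h2 := congrArg (vB i ⬝ᵥ ·) h
    simp only [dotProduct_add, dotProduct_smul, dotProduct_zero, dotProduct_one, sum_vA, sum_vB, smul_zero,
      add_zero, hA, hB] at h1 h2
    exact Prod.ext h2 h1
  subst hv
  have := congrFun h (0, 0)
  simp only [map_zero, Pi.add_apply, Pi.zero_apply, Pi.smul_apply, Pi.one_apply, zero_add, smul_eq_mul,
    mul_one] at this
  rw [this]; rfl

theorem psi_bij : Function.Bijective (psi (k := k)) := by
  refine ⟨psi_inj, ?_⟩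
  have hr : LinearMap.range (psi (k := k)) = ⊤ := by
    refine Submodule.eq_top_of_finrank_eq ?_
    rw [LinearMap.finrank_range_of_inj psi_inj]
    refine le_antisymm (LinearMap.finrank_le_finrank_of_injective psi_inj) ?_
    have hlt : Module.finrank (ZMod 2) (ev k) < Module.finrank (ZMod 2) (X k → ZMod 2) := by
      refine Submodule.finrank_lt fun e => ?_
      have : (Pi.single (0, 0) 1 : X k → ZMod 2) ∈ ev k := by rw [e]; trivial
      have h0 : ∑ x, (Pi.single (0, 0) 1 : X k → ZMod 2) x = 0 := this
      rw [Finset.sum_pi_single', if_pos (Finset.mem_univ _)] at h0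
      exact one_ne_zero h0
    rw [Module.finrank_pi, Fintype.card_prod, Fintype.card_fin, Fintype.card_fin] at hlt
    rw [Module.finrank_prod, Module.finrank_pi_fintype]
    simp only [Module.finrank_prod, Module.finrank_self, Finset.sum_const, Finset.card_univ,
      Fintype.card_sum, Fintype.card_fin, smul_eq_mul]
    omega
  exact LinearMap.range_eq_top.1 hr

/-- The parametrisation as an equivalence. -/
noncomputable def psiE : (V k × ZMod 2) ≃ₗ[ZMod 2] ev k := LinearEquiv.ofBijective psi psi_bij

/-- The coordinates of an even subset. -/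
noncomputable def coo : ev k →ₗ[ZMod 2] V k :=
  (LinearMap.fst (ZMod 2) (V k) (ZMod 2)).comp psiE.symm.toLinearMap

/-- The subset of a vector, as an even subset. -/
noncomputable def embE : V k →ₗ[ZMod 2] ev k := psi.comp (LinearMap.inl (ZMod 2) (V k) (ZMod 2))

theorem embE_val (v : V k) : (embE v : X k → ZMod 2) = emb v := by
  show emb v + (0 : ZMod 2) • (1 : X k → ZMod 2) = _
  rw [zero_smul, add_zero]

theorem coo_embE (v : V k) : coo (embE v) = v := by
  show (psiE.symm (psiE (v, 0))).1 = v
  rw [LinearEquiv.symm_apply_apply]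

variable (k) in
/-- The full set. -/
def oneE : ev k := ⟨1, sum_one⟩

theorem psi_eq (v : V k) (c : ZMod 2) : psi (v, c) = embE v + c • oneE k :=
  Subtype.ext (by rw [Submodule.coe_add, Submodule.coe_smul, embE_val]; rfl)

theorem coo_oneE : coo (oneE k) = 0 := by
  have : oneE k = psiE ((0, 1) : V k × ZMod 2) := by
    show _ = psi ((0, 1) : V k × ZMod 2)
    rw [psi_eq, map_zero, zero_add, one_smul]
  show (psiE.symm (oneE k)).1 = 0
  rw [this, LinearEquiv.symm_apply_apply]

theorem embE_coo (w : ev k) : ∃ c : ZMod 2, embE (coo w) = w + c • oneE k := by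
  refine ⟨(psiE.symm w).2, ?_⟩
  have h : w = embE (coo w) + (psiE.symm w).2 • oneE k := by
    rw [← psi_eq]
    exact (psiE.apply_symm_apply w).symm
  calc embE (coo w) = embE (coo w) + (((psiE.symm w).2 + (psiE.symm w).2) • oneE k) := by
        rw [two_zero, zero_smul, add_zero]
    _ = (embE (coo w) + (psiE.symm w).2 • oneE k) + (psiE.symm w).2 • oneE k := by rw [add_smul, add_assoc]
    _ = w + (psiE.symm w).2 • oneE k := by rw [← h]

/-- Permutations act on even subsets. -/
def perm (σ : Equiv.Perm (X k)) : ev k →ₗ[ZMod 2] ev k where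
  toFun w := ⟨(w : X k → ZMod 2) ∘ σ.symm,
    (Equiv.sum_comp σ.symm (w : X k → ZMod 2)).trans w.2⟩
  map_add' _ _ := rfl
  map_smul' _ _ := rfl

/-- The action on coordinates. -/
noncomputable def act (σ : Equiv.Perm (X k)) : Module.End (ZMod 2) (V k) :=
  coo ∘ₗ perm σ ∘ₗ embE

theorem act_coo (σ : Equiv.Perm (X k)) (w : ev k) : act σ (coo w) = coo (perm σ w) := by
  obtain ⟨c, hc⟩ := embE_coo w
  show coo (perm σ (embE (coo w))) = _
  rw [hc, map_add, map_smul, show perm σ (oneE k) = oneE k from rfl, map_add, map_smul, coo_oneE,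
    smul_zero, add_zero]

/-- The action as a hom. -/
noncomputable def actHom : Equiv.Perm (X k) →* Module.End (ZMod 2) (V k) where
  toFun := act
  map_one' := LinearMap.ext fun v => coo_embE v
  map_mul' σ τ := LinearMap.ext fun v => by
    show act (σ * τ) v = act σ (coo (perm τ (embE v)))
    rw [act_coo]
    rfl

theorem half_one : half (1 : X k → ZMod 2) = 0 := by
  have : num (1 : X k → ZMod 2) = 4 * (k + 1) := by simp [num, mul_comm]
  rw [half, this, show 4 * (k + 1) / 2 = 2 * (k + 1) by omega, Nat.cast_mul]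
  exact zero_mul _

theorem Q_coo (w : ev k) : Q (coo w) = half (w : X k → ZMod 2) := by
  obtain ⟨c, hc⟩ := embE_coo w
  rw [← half_emb, ← embE_val, hc, Submodule.coe_add, Submodule.coe_smul, show
    ((oneE k : ev k) : X k → ZMod 2) = 1 from rfl]
  have h1 : ∑ x, (c • (1 : X k → ZMod 2)) x = 0 := (ev k).smul_mem c sum_one
  rw [half_add w.2 h1, half_smul]
  show half (w : X k → ZMod 2) + c * half (1 : X k → ZMod 2) + _ ⬝ᵥ (c • (1 : X k → ZMod 2)) = _
  rw [half_one, dotProduct_smul, dotProduct_one, show ∑ x, (w : X k → ZMod 2) x = 0 from w.2]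
  simp

theorem Q_act (σ : Equiv.Perm (X k)) (v : V k) : Q (act σ v) = Q v := by
  show Q (coo (perm σ (embE v))) = _
  rw [Q_coo, ← half_emb, ← embE_val]
  show half ((embE v : X k → ZMod 2) ∘ σ.symm) = _
  simp only [half, num, Function.comp]
  rw [Equiv.sum_comp σ.symm (fun x => if (embE v : X k → ZMod 2) x = 1 then 1 else 0)]

theorem act_inj (hk : 1 ≤ k) (σ : Equiv.Perm (X k)) (hσ : act σ = 1) : σ = 1 := by
  refine Equiv.ext fun i => ?_
  show σ i = i
  by_contra hne
  obtain ⟨l, hl⟩ : ∃ l, l ∉ ({i, σ i} : Finset (X k)) := by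
    by_contra hall
    push Not at hall
    have := (Finset.card_le_card (s := Finset.univ) fun z _ => hall z).trans Finset.card_le_two
    simp at this
    omega
  simp only [Finset.mem_insert, Finset.mem_singleton, not_or] at hl
  let pr : ∀ a b : X k, a ≠ b → ev k := fun a b hab => ⟨Pi.single a 1 + Pi.single b 1, by
    show ∑ x, _ = (0 : ZMod 2)
    simp [Finset.sum_add_distrib, two_zero]⟩
  set w := pr i l (fun e => hl.1 e.symm) with hw
  have h := act_coo σ w
  rw [hσ, Module.End.one_apply] at h
  obtain ⟨c, hc⟩ := embE_coo w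
  obtain ⟨d, hd⟩ := embE_coo (perm σ w)
  rw [← h, hc] at hd
  have hd' := congrArg (fun u : ev k => (u : X k → ZMod 2)) hd
  simp only [Submodule.coe_add, Submodule.coe_smul] at hd'
  have hcard : 8 ≤ Fintype.card (X k) := by simp; omega
  obtain ⟨z, hz⟩ : ∃ z, z ∉ ({i, l, σ i, σ l} : Finset (X k)) := by
    by_contra hall
    push Not at hall
    have := Finset.card_le_card (s := Finset.univ) (fun z _ => hall z)
    rw [Finset.card_univ] at this
    have := this.trans Finset.card_le_four
    omega
  simp only [Finset.mem_insert, Finset.mem_singleton, not_or] at hz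
  have hz' := congrFun hd' z
  have hval : ∀ x, (perm σ w : ev k).1 x = (Pi.single i 1 : X k → ZMod 2) (σ.symm x) +
      (Pi.single l 1 : X k → ZMod 2) (σ.symm x) := fun x => rfl
  have hwv : ∀ x, w.1 x = (Pi.single i 1 : X k → ZMod 2) x + (Pi.single l 1 : X k → ZMod 2) x :=
    fun x => rfl
  simp [hval, hwv, oneE, hz.1, hz.2.1, Pi.single_apply, Equiv.symm_apply_eq, hz.2.2.1, hz.2.2.2] at hz'
  have hi' := congrFun hd' (σ i)
  simp [hval, hwv, oneE, hne, Ne.symm hl.2, hz', Pi.single_apply, Equiv.symm_apply_eq,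
    Ne.symm hl.1, σ.injective.eq_iff] at hi'

/-- The four-dimensional change of coordinates: two elliptic planes as two hyperbolic ones. -/
def tw (p q : ZMod 2 × ZMod 2) : (ZMod 2 × ZMod 2) × (ZMod 2 × ZMod 2) :=
  ((p.1 + q.1 + q.2, p.2 + q.1 + q.2), (p.1 + p.2 + q.2, q.1 + q.2))

theorem tw_form : ∀ p q : ZMod 2 × ZMod 2,
    p.1 * p.2 + q.1 * q.2 =
      ((tw p q).1.1 + (tw p q).1.2 + (tw p q).1.1 * (tw p q).1.2) +
        ((tw p q).2.1 + (tw p q).2.2 + (tw p q).2.1 * (tw p q).2.2) := by decide

theorem tw_zero : ∀ p q : ZMod 2 × ZMod 2, tw p q = 0 → p = 0 ∧ q = 0 := by decide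

/-- An embedding into an isometry group from an isometric linear bijection. -/
theorem exists_hom (hk : 1 ≤ k) {ι : Type} [Fintype ι] [DecidableEq ι] (Q' : (ι → ZMod 2) → ZMod 2)
    (L : (ι → ZMod 2) →ₗ[ZMod 2] V k) (hL : Function.Injective L) (hcard : Fintype.card ι = 4 * k + 2)
    (hQ : ∀ u, Q (L u) = Q' u) :
    ∃ φ : Equiv.Perm (Fin (4 * k + 4)) →* ↥(Cfsg.isometryGroup (ZMod 2) Q'), Function.Injective φ := by
  have hfr : Module.finrank (ZMod 2) (ι → ZMod 2) = Module.finrank (ZMod 2) (V k) := by
    rw [Module.finrank_pi, hcard, Module.finrank_pi_fintype]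
    simp only [Module.finrank_prod, Module.finrank_self, Finset.sum_const, Finset.card_univ,
      Fintype.card_sum, Fintype.card_fin, smul_eq_mul]
    omega
  have hsur : Function.Surjective L :=
    (LinearMap.injective_iff_surjective_of_finrank_eq_finrank hfr).1 hL
  let e := LinearEquiv.ofBijective L ⟨hL, hsur⟩
  let f : Fin (4 * k + 4) ≃ X k := (finCongr (by ring)).trans finProdFinEquiv.symm
  let A : Equiv.Perm (Fin (4 * k + 4)) →* Module.End (ZMod 2) (ι → ZMod 2) :=
    { toFun := fun σ => e.symm.toLinearMap ∘ₗ act (f.permCongr σ) ∘ₗ e.toLinearMap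
      map_one' := LinearMap.ext fun v => by
        show e.symm (act (f.permCongr 1) (e v)) = v
        rw [show f.permCongr 1 = 1 from Equiv.permCongr_refl f, show act (1 : Equiv.Perm (X k)) = 1
          from actHom.map_one, Module.End.one_apply, LinearEquiv.symm_apply_apply]
      map_mul' := fun σ τ => LinearMap.ext fun v => by
        show e.symm (act (f.permCongr (σ * τ)) (e v)) =
          e.symm (act (f.permCongr σ) (e (e.symm (act (f.permCongr τ) (e v)))))
        rw [LinearEquiv.apply_symm_apply, show f.permCongr (σ * τ) = f.permCongr σ * f.permCongr τ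
          from f.permCongrHom.map_mul σ τ, show act (f.permCongr σ * f.permCongr τ) =
            act (f.permCongr σ) * act (f.permCongr τ) from actHom.map_mul _ _, Module.End.mul_apply] }
  refine ⟨((Units.map (LinearMap.toMatrixAlgEquiv' (R := ZMod 2) (n := ι)).toMonoidHom).comp
      A.toHomUnits).codRestrict _ fun σ u _ => ?_, ?_⟩
  · show Q' (LinearMap.toMatrixAlgEquiv' (A σ) *ᵥ u) = _
    have : LinearMap.toMatrixAlgEquiv' (A σ) *ᵥ u = A σ u :=
      (Matrix.toLinAlgEquiv'_apply _ _).symm.trans (by rw [Matrix.toLinAlgEquiv'_toMatrixAlgEquiv'])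
    rw [this]
    show Q' (A σ u) = Q' u
    rw [← hQ, ← hQ]
    show Q (e (e.symm (act (f.permCongr σ) (e u)))) = Q (e u)
    rw [LinearEquiv.apply_symm_apply, Q_act]
  · rw [injective_iff_map_eq_one]
    intro σ hσ
    have hA : A σ = 1 := by
      have h := congrArg (fun g : ↥(Cfsg.isometryGroup (ZMod 2) Q') => (g : GL ι (ZMod 2)).1) hσ
      exact (LinearMap.toMatrixAlgEquiv' (R := ZMod 2) (n := ι)).injective (h.trans (map_one _).symm)
    have hact : act (f.permCongr σ) = 1 := LinearMap.ext fun v => by
      have h := congrArg e (LinearMap.congr_fun hA (e.symm v))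
      simpa [A] using h
    exact f.permCongr.injective ((act_inj hk _ hact).trans (Equiv.permCongr_refl f).symm)

/-- For k ≥ 1 the symmetric group of degree 4k + 4 embeds in a full orthogonal group in dimension 4k + 2 over the field of two elements: in the isometry group of the plus-type form Σ xᵢyᵢ when k is odd, and in that of the minus-type form Σ xᵢyᵢ + (z₁² + z₁z₂ + z₂²) when k is even (through its action on even partitions of a (4k+4)-set, with the form 'half the size of a part, modulo 2'). -/
theorem result (k : ℕ) (hk : 1 ≤ k) :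
    (Odd k → ∃ φ : Equiv.Perm (Fin (4 * k + 4)) →* ↥(Cfsg.isometryGroup (ZMod 2) (Cfsg.quadFormPlus (2 * k + 1) (ZMod 2))), Function.Injective φ) ∧
    (Even k → ∃ φ : Equiv.Perm (Fin (4 * k + 4)) →* ↥(Cfsg.isometryGroup (ZMod 2) (Cfsg.quadFormMinus (2 * k) (ZMod 2) 1 1)), Function.Injective φ) := by
  refine ⟨fun ho => ?_, fun he => ?_⟩
  · obtain ⟨r, hr⟩ := ho
    have e1 : Fin k ⊕ (Fin (r + 1) ⊕ Fin (r + 1)) ≃ Fin (2 * k + 1) :=
      Fintype.equivFinOfCardEq (by simp; omega)
    have e2 : Fin (r + 1) ⊕ Fin (r + 1) ≃ Fin (k + 1) := Fintype.equivFinOfCardEq (by simp; omega)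
    let c : (Fin (2 * k + 1) ⊕ Fin (2 * k + 1) → ZMod 2) →
        Fin k ⊕ (Fin (r + 1) ⊕ Fin (r + 1)) → ZMod 2 × ZMod 2 :=
      fun u s => (u (.inl (e1 s)), u (.inr (e1 s)))
    let L : (Fin (2 * k + 1) ⊕ Fin (2 * k + 1) → ZMod 2) →ₗ[ZMod 2] V k :=
      AddMonoidHom.toZModLinearMap 2 (AddMonoidHom.mk' (fun u => Sum.elim (fun j => c u (.inl j))
        (fun j => Sum.elim (fun i => (tw (c u (.inr (.inl i))) (c u (.inr (.inr i)))).1)
          (fun i => (tw (c u (.inr (.inl i))) (c u (.inr (.inr i)))).2) (e2.symm j)))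
        fun u u' => by
          funext s
          rcases s with j | j
          · rfl
          · simp only [Sum.elim_inr, Pi.add_apply]
            rcases e2.symm j with i | i <;> simp [c, tw] <;> constructor <;> abel)
    refine exists_hom hk _ L ?_ (by simp; omega) fun u => ?_
    · rw [injective_iff_map_eq_zero]
      intro u hu
      have hc : c u = 0 := by
        funext s
        rcases s with j | i | i
        · exact congrFun hu (.inl j)
        all_goals
          have h1 := congrFun hu (.inr (e2 (.inl i)))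
          have h2 := congrFun hu (.inr (e2 (.inr i)))
          simp [L] at h1 h2
          have := tw_zero _ _ (Prod.ext h1 h2)
        exacts [this.1, this.2]
      funext s
      rcases s with j | j
      · simpa [c] using congrArg Prod.fst (congrFun hc (e1.symm j))
      · simpa [c] using congrArg Prod.snd (congrFun hc (e1.symm j))
    · rw [quadFormPlus, ← e1.sum_comp, Fintype.sum_sum_type, Fintype.sum_sum_type, Q, Fintype.sum_sum_type,
        ← e2.sum_comp (fun i => qp (Sum.inr i) (L u (Sum.inr i))), Fintype.sum_sum_type]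
      refine congrArg₂ (· + ·) rfl ?_
      rw [← Finset.sum_add_distrib, ← Finset.sum_add_distrib]
      refine Finset.sum_congr rfl fun i _ => ?_
      simp only [L, AddMonoidHom.coe_toZModLinearMap, AddMonoidHom.mk'_apply, Sum.elim_inr, Sum.elim_inl,
        Equiv.symm_apply_apply, qp]
      exact (tw_form _ _).symm
  · obtain ⟨r, hr⟩ := he
    have e1 : Fin k ⊕ (Fin r ⊕ Fin r) ≃ Fin (2 * k) := Fintype.equivFinOfCardEq (by simp; omega)
    have e2 : (Fin r ⊕ Fin r) ⊕ Unit ≃ Fin (k + 1) := Fintype.equivFinOfCardEq (by simp; omega)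
    let c : ((Fin (2 * k) ⊕ Fin (2 * k)) ⊕ Fin 2 → ZMod 2) →
        Fin k ⊕ (Fin r ⊕ Fin r) → ZMod 2 × ZMod 2 :=
      fun u s => (u (.inl (.inl (e1 s))), u (.inl (.inr (e1 s))))
    let L : ((Fin (2 * k) ⊕ Fin (2 * k)) ⊕ Fin 2 → ZMod 2) →ₗ[ZMod 2] V k :=
      AddMonoidHom.toZModLinearMap 2 (AddMonoidHom.mk' (fun u => Sum.elim (fun j => c u (.inl j))
        (fun j => Sum.elim (Sum.elim (fun i => (tw (c u (.inr (.inl i))) (c u (.inr (.inr i)))).1)
          (fun i => (tw (c u (.inr (.inl i))) (c u (.inr (.inr i)))).2))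
            (fun _ => (u (.inr 0), u (.inr 1))) (e2.symm j)))
        fun u u' => by
          funext s
          rcases s with j | j
          · rfl
          · simp only [Sum.elim_inr, Pi.add_apply]
            rcases e2.symm j with (i | i) | _ <;> simp [c, tw] <;> constructor <;> abel)
    refine exists_hom hk _ L ?_ (by simp; omega) fun u => ?_
    · rw [injective_iff_map_eq_zero]
      intro u hu
      have hc : c u = 0 := by
        funext s
        rcases s with j | i | i
        · exact congrFun hu (.inl j)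
        all_goals
          have h1 := congrFun hu (.inr (e2 (.inl (.inl i))))
          have h2 := congrFun hu (.inr (e2 (.inl (.inr i))))
          simp [L] at h1 h2
          have := tw_zero _ _ (Prod.ext h1 h2)
        exacts [this.1, this.2]
      funext s
      rcases s with (j | j) | j
      · simpa [c] using congrArg Prod.fst (congrFun hc (e1.symm j))
      · simpa [c] using congrArg Prod.snd (congrFun hc (e1.symm j))
      · have h1 := congrFun hu (.inr (e2 (.inr ())))
        simp [L, Prod.ext_iff] at h1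
        fin_cases j <;> simp [h1.1, h1.2]
    · rw [quadFormMinus, ← e1.sum_comp, Fintype.sum_sum_type, Fintype.sum_sum_type, Q, Fintype.sum_sum_type,
        ← e2.sum_comp (fun i => qp (Sum.inr i) (L u (Sum.inr i))), Fintype.sum_sum_type, Fintype.sum_sum_type]
      refine (add_assoc _ _ _).symm.trans (congrArg₂ (· + ·) (congrArg₂ (· + ·) rfl ?_) ?_)
      · rw [← Finset.sum_add_distrib, ← Finset.sum_add_distrib]
        refine Finset.sum_congr rfl fun i _ => ?_
        simp only [L, AddMonoidHom.coe_toZModLinearMap, AddMonoidHom.mk'_apply, Sum.elim_inr, Sum.elim_inl,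
          Equiv.symm_apply_apply, qp]
        exact (tw_form _ _).symm
      · simp [L, qp, sq, zmod_sq]
        ring

end Cfsg.Agent.S2563
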