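import Cfsg.Statements.S2564
import Cfsg.Agent.Lib.Spinor.F2Forms
-- import your own Cfsg.Agent.* helpers here

set_option autoImplicit false
open Cfsg

namespace Cfsg.Agent.S2564

/-- On the 2m-dimensional space over the field of two elements (m ≥ 1) let f be the alternating form obtained by polarizing the plus-type form Σ xᵢyᵢ, and let q be any quadratic form polarizing to f. For a vector w, the function q + f(·, w) again polarizes to f, and it is equivalent to q under an invertible linear map (that is, has the same type) if and only if q(w) = 0. -/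
theorem result (m : ℕ) (hm : 1 ≤ m) (q : (Fin m ⊕ Fin m → ZMod 2) → ZMod 2) (hq : (∀ u v : (Fin m ⊕ Fin m → ZMod 2), q (u + v) = q u + q v + (Cfsg.quadFormPlus m (ZMod 2) (u + v) - Cfsg.quadFormPlus m (ZMod 2) u - Cfsg.quadFormPlus m (ZMod 2) v))) (w : (Fin m ⊕ Fin m → ZMod 2)) :
    (∀ u v : (Fin m ⊕ Fin m → ZMod 2), (q (u + v) + (Cfsg.quadFormPlus m (ZMod 2) (u + v + w) - Cfsg.quadFormPlus m (ZMod 2) (u + v) - Cfsg.quadFormPlus m (ZMod 2) w)) =
        (q u + (Cfsg.quadFormPlus m (ZMod 2) (u + w) - Cfsg.quadFormPlus m (ZMod 2) u - Cfsg.quadFormPlus m (ZMod 2) w)) + (q v + (Cfsg.quadFormPlus m (ZMod 2) (v + w) - Cfsg.quadFormPlus m (ZMod 2) v - Cfsg.quadFormPlus m (ZMod 2) w)) +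
        (Cfsg.quadFormPlus m (ZMod 2) (u + v) - Cfsg.quadFormPlus m (ZMod 2) u - Cfsg.quadFormPlus m (ZMod 2) v)) ∧
    ((∃ g : (Fin m ⊕ Fin m → ZMod 2) ≃ₗ[ZMod 2] (Fin m ⊕ Fin m → ZMod 2), ∀ v, q v + (Cfsg.quadFormPlus m (ZMod 2) (v + w) - Cfsg.quadFormPlus m (ZMod 2) v - Cfsg.quadFormPlus m (ZMod 2) w) = q (g v)) ↔ q w = 0) := by
  refine ⟨fun u v => ?_, ?_⟩
  · have hf : ∀ a b c : Fin m ⊕ Fin m → ZMod 2,
        QuadraticMap.polar (OrthOrder.qPlus m (ZMod 2)) (a + b) c =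
          QuadraticMap.polar (OrthOrder.qPlus m (ZMod 2)) a c +
            QuadraticMap.polar (OrthOrder.qPlus m (ZMod 2)) b c := fun a b c =>
      QuadraticMap.polar_add_left _ _ _ _
    have := hf u v w
    simp only [QuadraticMap.polar, OrthOrder.qPlus_apply] at this
    rw [hq u v, this]
    ring
  obtain ⟨w₀, rfl⟩ := Spinor.exists_shift hq
  have e : ∀ v, Spinor.shiftForm (w₀ + w) v = Spinor.shiftForm w₀ v +
      (Cfsg.quadFormPlus m (ZMod 2) (v + w) - Cfsg.quadFormPlus m (ZMod 2) v -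
        Cfsg.quadFormPlus m (ZMod 2) w) := fun v => by
    rw [Spinor.shiftForm_apply, Spinor.shiftForm_apply, QuadraticMap.polar_add_right]
    simp only [QuadraticMap.polar, OrthOrder.qPlus_apply]
    ring
  have hw : Spinor.shiftForm w₀ w = Cfsg.quadFormPlus m (ZMod 2) (w₀ + w) - Cfsg.quadFormPlus m (ZMod 2) w₀ := by
    rw [Spinor.shiftForm_eq_translate, add_comm w]
  simp only [← e, hw, sub_eq_zero]
  have P₀ := Spinor.isPlus_iff hm w₀
  have P₁ := Spinor.isPlus_iff hm (w₀ + w)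
  constructor
  · rintro ⟨g, hg⟩
    by_cases h0 : Cfsg.quadFormPlus m (ZMod 2) w₀ = 0
    · obtain ⟨g', hg'⟩ := P₀.1.2 h0
      rw [h0, P₁.1.1 ⟨g.trans g', fun v => (hg v).trans (hg' (g v))⟩]
    · obtain ⟨g', hg'⟩ := P₀.2.2 h0
      have h1 := P₁.2.1 ⟨g.trans g', fun v => (hg v).trans (hg' (g v))⟩
      exact (by decide : ∀ x y : ZMod 2, x ≠ 0 → y ≠ 0 → x = y) _ _ h1 h0
  · intro h
    by_cases h0 : Cfsg.quadFormPlus m (ZMod 2) w₀ = 0
    · obtain ⟨g₀, hg₀⟩ := P₀.1.2 h0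
      obtain ⟨g₁, hg₁⟩ := P₁.1.2 (h.trans h0)
      exact ⟨g₁.trans g₀.symm, fun v => (hg₁ v).trans ((hg₀ _).trans (by simp)).symm⟩
    · obtain ⟨g₀, hg₀⟩ := P₀.2.2 h0
      obtain ⟨g₁, hg₁⟩ := P₁.2.2 (h ▸ h0)
      exact ⟨g₁.trans g₀.symm, fun v => (hg₁ v).trans ((hg₀ _).trans (by simp)).symm⟩

end Cfsg.Agent.S2564
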