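import Cfsg.Statements.S2565
import Mathlib
import Cfsg.Agent.S0287

set_option autoImplicit false
open Cfsg

namespace Cfsg.Agent.S2565

open scoped Matrix

/-- Coordinates of the six-dimensional space. -/
abbrev I6 := Fin 3 ⊕ Fin 3

/-- Basis subsets of the eight points. -/
def basS : I6 → ℕ
  | .inl i => ![15, 57, 92] i
  | .inr i => ![23, 58, 99] i

/-- Partner index. -/
def swapI : I6 → I6
  | .inl i => .inr i
  | .inr i => .inl i

/-- Characteristic vector of a mask. -/
def ch (m : ℕ) (x : Fin 8) : ZMod 2 := if m.testBit x then 1 else 0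

/-- The subset of a vector. -/
def emb (v : I6 → ZMod 2) (x : Fin 8) : ZMod 2 := ∑ i, v i * ch (basS i) x

/-- The coordinates of a subset. -/
def coo (w : Fin 8 → ZMod 2) (i : I6) : ZMod 2 := ∑ x, w x * ch (basS (swapI i)) x

/-- Half the weight, mod 2. -/
def half (w : Fin 8 → ZMod 2) : ZMod 2 := (((Finset.univ.filter fun x => w x = 1).card / 2 : ℕ) : ZMod 2)

/-- The parity. -/
def par (w : Fin 8 → ZMod 2) : ZMod 2 := ∑ x, w x

theorem coo_emb : ∀ v, coo (emb v) = v := by decide +kernel

theorem emb_coo : ∀ w, par w = 0 → emb (coo w) = w ∨ emb (coo w) = w + 1 := by decide +kernel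

theorem quad_coo : ∀ w, par w = 0 →
    quadFormPlus 3 (ZMod 2) (coo w) = half w := by decide +kernel

theorem par_emb : ∀ v, par (emb v) = 0 := by decide +kernel

theorem coo_add_one : ∀ w, coo (w + 1) = coo w := by decide +kernel

theorem coo_add (w w' : Fin 8 → ZMod 2) : coo (w + w') = coo w + coo w' := by
  funext i; simp [coo, add_mul, Finset.sum_add_distrib]

/-- The action on coordinates. -/
def act (σ : Equiv.Perm (Fin 8)) : (I6 → ZMod 2) →ₗ[ZMod 2] (I6 → ZMod 2) where
  toFun v := coo (emb v ∘ σ.symm)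
  map_add' v v' := by
    rw [← coo_add]
    congr 1
    funext x
    simp [emb, add_mul, Finset.sum_add_distrib]
  map_smul' c v := by
    funext i
    simp only [coo, emb, Function.comp, Pi.smul_apply, smul_eq_mul, RingHom.id_apply, mul_assoc,
      ← Finset.mul_sum]

theorem par_perm (σ : Equiv.Perm (Fin 8)) (w : Fin 8 → ZMod 2) : par (w ∘ σ.symm) = par w :=
  Equiv.sum_comp σ.symm w

theorem act_coo (σ : Equiv.Perm (Fin 8)) {w : Fin 8 → ZMod 2} (hw : par w = 0) :
    act σ (coo w) = coo (w ∘ σ.symm) := by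
  show coo (emb (coo w) ∘ σ.symm) = _
  rcases emb_coo w hw with h | h
  · rw [h]
  · rw [h, show (w + 1) ∘ σ.symm = (w ∘ σ.symm) + 1 from rfl, coo_add_one]

/-- The action as a hom. -/
def actHom : Equiv.Perm (Fin 8) →* Module.End (ZMod 2) (I6 → ZMod 2) where
  toFun := act
  map_one' := by
    refine LinearMap.ext fun v => ?_
    exact coo_emb v
  map_mul' σ τ := by
    refine LinearMap.ext fun v => ?_
    show act (σ * τ) v = act σ (act τ v)
    rw [show act τ v = coo (emb v ∘ τ.symm) from rfl,
      act_coo σ (by rw [par_perm, par_emb])]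
    rfl

theorem act_quad (σ : Equiv.Perm (Fin 8)) (v : I6 → ZMod 2) :
    quadFormPlus 3 (ZMod 2) (act σ v) = quadFormPlus 3 (ZMod 2) v := by
  conv_rhs => rw [← coo_emb v]
  show quadFormPlus 3 (ZMod 2) (coo (emb v ∘ σ.symm)) = _
  rw [quad_coo _ (by rw [par_perm, par_emb]), quad_coo _ (par_emb v), half, half]
  congr 2
  exact Finset.card_equiv σ.symm (fun x => by simp)

/-- The orthogonal group. -/
abbrev O6 := isometryGroup (ZMod 2) (quadFormPlus 3 (ZMod 2))

/-- The hom to the orthogonal group. -/
noncomputable def toO : Equiv.Perm (Fin 8) →* O6 :=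
  ((Units.map (LinearMap.toMatrixAlgEquiv' (R := ZMod 2) (n := I6)).toMonoidHom).comp
      actHom.toHomUnits).codRestrict O6 fun σ u v => by
    show quadFormPlus 3 (ZMod 2) (LinearMap.toMatrixAlgEquiv' (act σ) *ᵥ u) = _
    have : LinearMap.toMatrixAlgEquiv' (act σ) *ᵥ u = act σ u :=
      (Matrix.toLinAlgEquiv'_apply _ _).symm.trans (by rw [Matrix.toLinAlgEquiv'_toMatrixAlgEquiv'])
    rw [this, act_quad]

theorem pair_par : ∀ i k : Fin 8, i ≠ k →
    par (fun x => if x = i ∨ x = k then 1 else 0) = 0 := by decide +kernel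

theorem pair_ne_compl : ∀ i k : Fin 8, i ≠ k → ∀ a b : Fin 8, a ≠ b →
    (fun x => if x = a ∨ x = b then (1 : ZMod 2) else 0) ≠
      (fun x => if x = i ∨ x = k then (1 : ZMod 2) else 0) + 1 := by decide +kernel

theorem toO_inj : Function.Injective toO := by
  rw [injective_iff_map_eq_one]
  intro σ hσ
  have hact : act σ = 1 := by
    have h := congrArg (fun g : O6 => (g : GL I6 (ZMod 2)).1) hσ
    exact (LinearMap.toMatrixAlgEquiv' (R := ZMod 2) (n := I6)).injective
      (h.trans (map_one _).symm)
  ext i : 1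
  by_contra hne
  obtain ⟨k, hk1, hk2⟩ : ∃ k, k ≠ i ∧ k ≠ σ i :=
    (by decide : ∀ a b : Fin 8, ∃ k, k ≠ a ∧ k ≠ b) i (σ i)
  set w : Fin 8 → ZMod 2 := fun x => if x = i ∨ x = k then 1 else 0 with hw
  set w' : Fin 8 → ZMod 2 := fun x => if x = σ i ∨ x = σ k then 1 else 0 with hw'
  have e : w ∘ σ.symm = w' := by
    funext x
    simp [w, w', Function.comp, Equiv.symm_apply_eq]
  have hp := pair_par i k hk1.symm
  have h := act_coo σ hp
  rw [hact, Module.End.one_apply, e] at h
  have hp' : par w' = 0 := pair_par _ _ fun he => hk1 (σ.injective he).symm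
  have h2 : w' = w ∨ w' = w + 1 := by
    rcases emb_coo w hp with a | a <;> rcases emb_coo w' hp' with b | b <;> rw [h, b] at a
    · exact Or.inl a
    · right
      rw [← a]
      funext x
      simp [add_assoc, show (1 : ZMod 2) + 1 = 0 from rfl]
    · exact Or.inr a
    · exact Or.inl (add_right_cancel a)
  rcases h2 with h2 | h2
  · have := congrFun h2 (σ i)
    simp [w, w', hk2.symm] at this
    exact hne this
  · exact pair_ne_compl i k hk1.symm (σ i) (σ k) (fun he => hk1 (σ.injective he).symm) h2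

/-- The commutator subgroup of the full orthogonal group of the plus-type form Σ xᵢyᵢ in dimension 6 over the field of two elements (the group Ω⁺₆(2), of index 2) is isomorphic to the alternating group of degree 8. -/
theorem result :
    (Cfsg.Omega (ZMod 2) (Cfsg.quadFormPlus 3 (ZMod 2))).index = 2 ∧
    Nonempty (↥(Cfsg.Omega (ZMod 2) (Cfsg.quadFormPlus 3 (ZMod 2))) ≃* alternatingGroup (Fin 8)) := by
  have hcard : Nat.card O6 = 40320 :=
    (Cfsg.Agent.S0287.result (F := ZMod 2) (q := 2) (by simp) 3 (by norm_num)).trans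
      (by norm_num [Finset.prod_range_succ])
  have hS : Nat.card (Equiv.Perm (Fin 8)) = 40320 := by
    rw [Nat.card_perm, Nat.card_fin]; rfl
  have hbij : Function.Bijective toO := (Nat.bijective_iff_injective_and_card toO).2
    ⟨toO_inj, by rw [hS, hcard]⟩
  let e : Equiv.Perm (Fin 8) ≃* O6 := MulEquiv.ofBijective toO hbij
  have hcomm : commutator (Equiv.Perm (Fin 8)) = alternatingGroup (Fin 8) :=
    alternatingGroup.commutator_perm_eq (by simp)
  have hmap : Cfsg.Omega (ZMod 2) (Cfsg.quadFormPlus 3 (ZMod 2)) =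
      (alternatingGroup (Fin 8)).map e.toMonoidHom := by
    show commutator O6 = _
    rw [← hcomm, commutator_def, commutator_def, Subgroup.map_commutator,
      Subgroup.map_top_of_surjective e.toMonoidHom e.surjective]
  refine ⟨?_, ⟨(MulEquiv.subgroupCongr hmap).trans (e.subgroupMap _).symm⟩⟩
  rw [hmap]
  exact (Subgroup.index_map_equiv (alternatingGroup (Fin 8)) e).trans alternatingGroup.index_eq_two

end Cfsg.Agent.S2565
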