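import Cfsg.Statements.S2567
import Mathlib

set_option autoImplicit false
open Cfsg

namespace Cfsg.Agent.S2567

/-- Lifting elements of prime order from PGL to GL: let F be a finite field with q elements, r a prime not dividing q − 1, and x an element of order r in GL_n(F) modulo its centre (the scalar matrices). Then x has exactly one preimage in GL_n(F) of order r. -/
theorem result {F : Type*} [Field F] [Fintype F] {q n r : ℕ} (hF : Fintype.card F = q) (hr : r.Prime) (hdiv : ¬ r ∣ q - 1) (x : GL (Fin n) F ⧸ Subgroup.center (GL (Fin n) F)) (hx : orderOf x = r) : ∃! g : GL (Fin n) F, (QuotientGroup.mk g : GL (Fin n) F ⧸ Subgroup.center (GL (Fin n) F)) = x ∧ orderOf g = r := by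
  classical
  obtain ⟨g₀, hg₀⟩ := QuotientGroup.mk_surjective x
  subst hg₀
  set Z := Subgroup.center (GL (Fin n) F) with hZ
  have hcZ : ∀ z ∈ Z, z ^ (q - 1) = 1 := by
    intro z hz
    rw [hZ, Matrix.GeneralLinearGroup.center_eq_range_scalar] at hz
    obtain ⟨u, rfl⟩ := hz
    rw [← map_pow, ← hF, ← Fintype.card_units, pow_card_eq_one, map_one]
  have hco : Nat.Coprime r (q - 1) := (Nat.Prime.coprime_iff_not_dvd hr).2 hdiv
  have huniq1 : ∀ z ∈ Z, z ^ r = 1 → z = 1 := fun z hz hzr => by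
    rw [← pow_one z, ← hco.gcd_eq_one]
    exact pow_gcd_eq_one.2 ⟨hzr, hcZ z hz⟩
  have hz : g₀ ^ r ∈ Z := by
    rw [← QuotientGroup.eq_one_iff, QuotientGroup.mk_pow, ← hx, pow_orderOf_eq_one]
  set a := Nat.gcdA r (q - 1)
  have hbez : (1 : ℤ) = r * a + (q - 1 : ℕ) * Nat.gcdB r (q - 1) := by
    have := Nat.gcd_eq_gcd_ab r (q - 1)
    rw [hco.gcd_eq_one] at this
    exact_mod_cast this
  set w := ((g₀ ^ r) ^ a)⁻¹ with hw
  have hwZ : w ∈ Z := Z.inv_mem (Z.zpow_mem hz a)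
  have hgr : (g₀ * w) ^ r = 1 := by
    have hc : Commute g₀ w := (Subgroup.mem_center_iff.1 hwZ g₀)
    have h1 : (g₀ ^ r) ^ ((r : ℤ) * a + (q - 1 : ℕ) * Nat.gcdB r (q - 1)) =
        ((g₀ ^ r) ^ a) ^ r := by
      rw [zpow_add, zpow_mul, zpow_natCast, zpow_mul, zpow_natCast, ← hF, hF, hcZ _ hz, one_zpow,
        mul_one, ← zpow_natCast, ← zpow_mul, mul_comm, zpow_mul, zpow_natCast]
    rw [← hbez, zpow_one] at h1
    rw [hc.mul_pow, hw, inv_pow, ← h1, mul_inv_cancel]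
  have hmk : (QuotientGroup.mk (g₀ * w) : GL (Fin n) F ⧸ Z) = QuotientGroup.mk g₀ := by
    rw [QuotientGroup.eq, mul_inv_rev, inv_mul_cancel_right]; exact Z.inv_mem hwZ
  refine ⟨g₀ * w, ⟨hmk, ?_⟩, ?_⟩
  · refine ((Nat.dvd_prime hr).1 (orderOf_dvd_of_pow_eq_one hgr)).resolve_left fun h => ?_
    rw [orderOf_eq_one_iff] at h
    rw [← hmk, h, QuotientGroup.mk_one, orderOf_one] at hx
    exact hr.ne_one hx.symm
  · rintro g ⟨hg, hgo⟩
    have hd : (g₀ * w)⁻¹ * g ∈ Z := by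
      rw [← QuotientGroup.eq]; exact hmk.trans hg.symm
    have hcm : Commute (g₀ * w)⁻¹ g := by
      have h2 : g = (g₀ * w) * ((g₀ * w)⁻¹ * g) := by group
      rw [h2]
      exact ((Commute.refl (g₀ * w)).inv_left).mul_right (Subgroup.mem_center_iff.1 hd _)
    have := huniq1 _ hd (by rw [hcm.mul_pow, inv_pow, hgr, ← hgo, pow_orderOf_eq_one, inv_one, one_mul])
    exact (inv_mul_eq_one.1 this).symm

end Cfsg.Agent.S2567
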