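import Cfsg.Statements.S2571
import Cfsg.Agent.Lib.Transvection.Regular

set_option autoImplicit false
open Cfsg

namespace Cfsg.Agent.S2571

open Cfsg.Agent.TransvGL Matrix

/-- Centraliser of a regular unipotent element in GL_n(q): if u is an invertible n × n matrix over the field with q elements, n ≥ 1, with (u − 1)^n = 0 and rank(u − 1) = n − 1 (a single unipotent Jordan block), then its centraliser in GL_n(q) has order (q − 1) q^(n−1). -/
theorem result {F : Type*} [Field F] [Fintype F] {q n : ℕ} (hF : Fintype.card F = q) (hn : 1 ≤ n) (u : GL (Fin n) F) (hnil : ((u : Matrix (Fin n) (Fin n) F) - 1) ^ n = 0) (hreg : ((u : Matrix (Fin n) (Fin n) F) - 1).rank = n - 1) : Nat.card ↥(Subgroup.centralizer ({u} : Set (GL (Fin n) F))) = (q - 1) * q ^ (n - 1) := by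
  classical
  subst hF
  set N : Module.End F (Fin n → F) := Matrix.mulVecLin ((u : Matrix (Fin n) (Fin n) F) - 1) with hN
  have hpow : ∀ j, Matrix.mulVecLin (((u : Matrix (Fin n) (Fin n) F) - 1) ^ j) = N ^ j := fun j => by
    induction j with
    | zero => rw [pow_zero, pow_zero, Matrix.mulVecLin_one]; rfl
    | succ j ih => rw [pow_succ, pow_succ, Matrix.mulVecLin_mul, ih]; rfl
  have hNn : N ^ n = 0 := by rw [← hpow, hnil, Matrix.mulVecLin_zero]
  have hker : Module.finrank F (LinearMap.ker N) ≤ 1 := by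
    have := N.finrank_range_add_finrank_ker
    rw [Module.finrank_fin_fun] at this
    have hr : Module.finrank F (LinearMap.range N) = n - 1 := hreg
    omega
  have hV : Module.finrank F (Fin n → F) = n := Module.finrank_fin_fun F
  set K := LinearMap.ker (N ^ (n - 1)) with hK
  have hKd : Module.finrank F K = n - 1 := by
    have h1 := finrank_ker_pow_le hker (n - 1)
    have h2 := finrank_ker_pow_succ_le N (n - 1)
    rw [Nat.sub_add_cancel hn, hNn, LinearMap.ker_zero, finrank_top, hV] at h2
    rw [hK]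
    omega
  obtain ⟨v, hv⟩ : ∃ v, (N ^ (n - 1)) v ≠ 0 := by
    by_contra h
    push Not at h
    have : K = ⊤ := eq_top_iff.2 fun x _ => h x
    rw [this, finrank_top, hV] at hKd
    omega
  have hcN : ∀ g : Subgroup.centralizer ({u} : Set (GL (Fin n) F)),
      Commute (Matrix.mulVecLin ((g : GL (Fin n) F) : Matrix (Fin n) (Fin n) F)) N := by
    intro g
    have h := congrArg (fun x : GL (Fin n) F => (x : Matrix (Fin n) (Fin n) F))
      (Subgroup.mem_centralizer_singleton_iff.1 g.2)
    simp only [Units.val_mul] at h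
    show _ * _ = _ * _
    rw [hN, Module.End.mul_eq_comp, Module.End.mul_eq_comp, ← Matrix.mulVecLin_mul, ← Matrix.mulVecLin_mul,
      mul_sub, sub_mul, h, mul_one, one_mul]
  let f : Subgroup.centralizer ({u} : Set (GL (Fin n) F)) → {w : Fin n → F // w ∉ K} := fun g =>
    ⟨((g : GL (Fin n) F) : Matrix (Fin n) (Fin n) F).mulVec v, fun h => hv (by
      have h1 : (N ^ (n - 1)) (((g : GL (Fin n) F) : Matrix (Fin n) (Fin n) F).mulVec v) = 0 := h
      rw [← Matrix.mulVecLin_apply, ← apply_pow_comm (hcN g)] at h1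
      exact Matrix.mulVec_injective_of_isUnit (g : GL (Fin n) F).isUnit (h1.trans (Matrix.mulVec_zero _).symm))⟩
  have hbij : Function.Bijective f := by
    constructor
    · intro g g' h
      have h' : ((g : GL (Fin n) F) : Matrix (Fin n) (Fin n) F).mulVec v =
          ((g' : GL (Fin n) F) : Matrix (Fin n) (Fin n) F).mulVec v := congrArg Subtype.val h
      obtain ⟨Φ, hΦ⟩ := exists_cyclic hV hNn hv
      refine Subtype.ext (Units.ext (Matrix.ext_iff_mulVec.2 fun x => ?_))
      obtain ⟨c, rfl⟩ := Φ.surjective x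
      rw [hΦ, ← Matrix.mulVecLin_apply, ← Matrix.mulVecLin_apply, map_sum, map_sum]
      refine Finset.sum_congr rfl fun i _ => ?_
      rw [map_smul, map_smul, apply_pow_comm (hcN g), apply_pow_comm (hcN g'), Matrix.mulVecLin_apply,
        Matrix.mulVecLin_apply, h']
    · rintro ⟨w, hw⟩
      obtain ⟨G, hG, hGc⟩ := exists_commute hV hNn hv hw
      have hd : (LinearMap.toMatrix' (G : (Fin n → F) →ₗ[F] (Fin n → F))).det ≠ 0 := by
        rw [LinearMap.det_toMatrix']; exact (LinearEquiv.isUnit_det' G).ne_zero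
      refine ⟨⟨GeneralLinearGroup.mkOfDetNeZero _ hd, ?_⟩, Subtype.ext ?_⟩
      · rw [Subgroup.mem_centralizer_singleton_iff]
        refine Units.ext (Matrix.ext_iff_mulVec.2 fun x => ?_)
        have h1 : G (((u : Matrix (Fin n) (Fin n) F) - 1).mulVec x) =
            ((u : Matrix (Fin n) (Fin n) F) - 1).mulVec (G x) := LinearMap.congr_fun hGc.eq x
        rw [Matrix.sub_mulVec, Matrix.sub_mulVec, map_sub, Matrix.one_mulVec, Matrix.one_mulVec,
          sub_left_inj] at h1
        rw [Units.val_mul, Units.val_mul, ← Matrix.mulVec_mulVec, ← Matrix.mulVec_mulVec]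
        show LinearMap.toMatrix' _ *ᵥ ((u : Matrix (Fin n) (Fin n) F) *ᵥ x) =
          (u : Matrix (Fin n) (Fin n) F) *ᵥ (LinearMap.toMatrix' _ *ᵥ x)
        rw [LinearMap.toMatrix'_mulVec, LinearMap.toMatrix'_mulVec]
        exact h1
      · show LinearMap.toMatrix' _ *ᵥ v = w
        rw [LinearMap.toMatrix'_mulVec]
        exact hG
  rw [Nat.card_eq_of_bijective f hbij, Nat.card_eq_fintype_card, Fintype.card_subtype_compl,
    Fintype.card_fun, Fintype.card_fin, Module.card_eq_pow_finrank (K := F) (V := K), hKd, Nat.sub_mul,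
    one_mul, ← pow_succ', Nat.sub_add_cancel hn]

end Cfsg.Agent.S2571
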