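import Cfsg.Statements.S2572
import Cfsg.Agent.Lib.Transvection.GL
import Cfsg.Agent.Lib.Invol.Count

set_option autoImplicit false
open Cfsg

namespace Cfsg.Agent.S2572

open Cfsg.Agent.TransvGL Matrix

/-- Centraliser of a transvection in GL_n(q), n ≥ 2: if t − 1 has rank one and square zero, the centraliser of t in GL_n(q) has order q^(2n−3) (q − 1) |GL_(n−2)(q)| (a group of order q^(2n−3) extended by GL_1(q) × GL_(n−2)(q)). -/
theorem result {F : Type*} [Field F] [Fintype F] {q n : ℕ} (hF : Fintype.card F = q) (hn : 2 ≤ n) (t : GL (Fin n) F) (ht : Cfsg.IsTransvection (t : Matrix (Fin n) (Fin n) F)) : Nat.card ↥(Subgroup.centralizer ({t} : Set (GL (Fin n) F))) = q ^ (2 * n - 3) * (q - 1) * ∏ i : Fin (n - 2), (q ^ (n - 2) - q ^ (i : ℕ)) := by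
  classical
  subst hF
  have hclass : Nat.card {y : GL (Fin n) F // IsConj t y} =
      Nat.card {y : GL (Fin n) F // Cfsg.IsTransvection (y : Matrix (Fin n) (Fin n) F)} := by
    refine Nat.card_congr (Equiv.subtypeEquivRight fun y => ⟨fun h => ?_, fun h => ?_⟩)
    · obtain ⟨c, rfl⟩ := isConj_iff.1 h
      have e : ((c * t * c⁻¹ : GL (Fin n) F) : Matrix (Fin n) (Fin n) F) - 1 =
          (c : Matrix (Fin n) (Fin n) F) * ((t : Matrix (Fin n) (Fin n) F) - 1) * (c⁻¹ : GL (Fin n) F) := by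
        rw [Units.val_mul, Units.val_mul, mul_sub, mul_one, sub_mul, ← Units.val_mul c c⁻¹, mul_inv_cancel,
          Units.val_one]
      refine ⟨?_, ?_⟩
      · rw [e, Matrix.rank_mul_eq_left_of_isUnit_det _ _ (Matrix.isUnits_det_units c⁻¹),
          Matrix.rank_mul_eq_right_of_isUnit_det _ _ (Matrix.isUnits_det_units c), ht.1]
      · rw [e, show ∀ a b d : Matrix (Fin n) (Fin n) F, a * b * d * (a * b * d) = a * (b * (d * a) * b) * d from
          fun a b d => by noncomm_ring, ← Units.val_mul, inv_mul_cancel, Units.val_one, mul_one, ht.2,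
          mul_zero, zero_mul]
    · obtain ⟨g, hg, -⟩ := exists_conj ht h
      exact isConj_iff.2 ⟨g, mul_inv_eq_iff_eq_mul.2 (Units.ext hg)⟩
  have hcount := Cfsg.Agent.Invol.card_class_mul_card_centralizer t
  rw [hclass, Matrix.card_GL_field] at hcount
  set q := Fintype.card F
  set T := Nat.card {y : GL (Fin n) F // Cfsg.IsTransvection (y : Matrix (Fin n) (Fin n) F)}
  set C := Nat.card (Subgroup.centralizer ({t} : Set (GL (Fin n) F)))
  have hT : T * (q - 1) = (q ^ n - 1) * (q ^ (n - 1) - 1) := card_transvections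
  obtain ⟨k, rfl⟩ : ∃ k, n = k + 2 := ⟨n - 2, by omega⟩
  simp only [Nat.add_sub_cancel, show k + 2 - 1 = k + 1 by omega] at hT ⊢
  have hprod : ∏ i : Fin (k + 2), (q ^ (k + 2) - q ^ (i : ℕ)) =
      (q ^ (k + 2) - 1) * (q ^ (k + 1) - 1) * (q ^ (2 * k + 1) * ∏ i : Fin k, (q ^ k - q ^ (i : ℕ))) := by
    rw [Fin.prod_univ_succ, Fin.prod_univ_succ]
    simp only [Fin.val_zero, pow_zero, Fin.val_succ]
    have e1 : q ^ (k + 2) - q ^ (0 + 1) = q * (q ^ (k + 1) - 1) := by
      rw [Nat.mul_sub, ← pow_succ', mul_one, zero_add, pow_one]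
    have e2 : ∀ i : Fin k, q ^ (k + 2) - q ^ ((i : ℕ) + 1 + 1) = q ^ 2 * (q ^ k - q ^ (i : ℕ)) := fun i => by
      rw [Nat.mul_sub, ← pow_add, ← pow_add]
      congr 2 <;> ring
    rw [e1, Finset.prod_congr rfl fun i _ => e2 i, Finset.prod_mul_distrib, Finset.prod_const,
      Finset.card_univ, Fintype.card_fin, ← pow_mul, pow_succ q (2 * k)]
    ring
  rw [hprod] at hcount
  have hq2 : 2 ≤ q := Fintype.one_lt_card
  have hA : 0 < (q ^ (k + 2) - 1) * (q ^ (k + 1) - 1) := by
    have : 2 ≤ q ^ (k + 2) := le_trans hq2 (Nat.le_self_pow (by omega) q)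
    have : 2 ≤ q ^ (k + 1) := le_trans hq2 (Nat.le_self_pow (by omega) q)
    exact Nat.mul_pos (by omega) (by omega)
  refine Nat.eq_of_mul_eq_mul_left hA ?_
  rw [show 2 * (k + 2) - 3 = 2 * k + 1 by omega]
  calc (q ^ (k + 2) - 1) * (q ^ (k + 1) - 1) * C = T * C * (q - 1) := by rw [← hT]; ring
    _ = _ := by rw [hcount]; simp only [mul_comm, mul_left_comm, mul_assoc]; congr 4

end Cfsg.Agent.S2572
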