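import Cfsg.Statements.S2573
import Cfsg.Agent.Lib.Transvection.Regular

set_option autoImplicit false
open Cfsg

namespace Cfsg.Agent.S2573

open Cfsg.Agent.TransvGL Matrix

/-- The invariant subspaces of a regular unipotent matrix form a chain: over a finite field, if u is an n × n matrix with (u − 1)^n = 0 and rank(u − 1) = n − 1, then every subspace W of F^n with u W ⊆ W is the kernel of (u − 1)^(dim W); so u has at most one invariant subspace of each dimension. -/
theorem result {F : Type*} [Field F] [Finite F] {n : ℕ} (u : Matrix (Fin n) (Fin n) F) (hnil : (u - 1) ^ n = 0) (hreg : (u - 1).rank = n - 1) (W : Submodule F (Fin n → F)) (hW : ∀ v ∈ W, u.mulVec v ∈ W) : W = LinearMap.ker (Matrix.mulVecLin ((u - 1) ^ Module.finrank F W)) := by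
  classical
  set N := Matrix.mulVecLin (u - 1) with hN
  have hpow : ∀ j, Matrix.mulVecLin ((u - 1) ^ j) = N ^ j := fun j => by
    induction j with
    | zero => rw [pow_zero, pow_zero, Matrix.mulVecLin_one]; rfl
    | succ j ih => rw [pow_succ, pow_succ, Matrix.mulVecLin_mul, ih]; rfl
  have hker : Module.finrank F (LinearMap.ker N) ≤ 1 := by
    have := N.finrank_range_add_finrank_ker
    rw [Module.finrank_fin_fun] at this
    have hr : Module.finrank F (LinearMap.range N) = n - 1 := hreg
    omega
  have hWN : ∀ v ∈ W, N v ∈ W := fun v hv => by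
    show (u - 1).mulVec v ∈ W
    rw [Matrix.sub_mulVec, Matrix.one_mulVec]
    exact W.sub_mem (hW v hv) hv
  set k := Module.finrank F W
  have hnilW : (N.restrict hWN) ^ k = 0 := by
    set R : Module.End F W := N.restrict hWN
    have hnilR : R ^ n = 0 := LinearMap.ext fun v => Subtype.ext (by
      rw [Module.End.pow_restrict n (h := hWN)]
      show (N ^ n) (v : Fin n → F) = 0
      rw [← hpow, hnil, Matrix.mulVecLin_zero]; rfl)
    obtain ⟨i, hi, hass⟩ := (dvd_prime_pow Polynomial.prime_X n).1
      (minpoly.dvd F R (show Polynomial.aeval R (Polynomial.X ^ n : Polynomial F) = 0 by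
        rw [Polynomial.aeval_X_pow, hnilR]))
    have heq : minpoly F R = Polynomial.X ^ i :=
      Polynomial.eq_of_monic_of_associated (minpoly.monic (Algebra.IsIntegral.isIntegral R))
        (Polynomial.monic_X_pow i) hass
    have hdeg : i ≤ k := by
      have h1 := Polynomial.natDegree_le_of_dvd (minpoly.dvd F R R.aeval_self_charpoly)
        R.charpoly_monic.ne_zero
      rwa [heq, Polynomial.natDegree_X_pow, LinearMap.charpoly_natDegree] at h1
    have h0 := minpoly.aeval F R
    rw [heq, Polynomial.aeval_X_pow] at h0
    exact pow_eq_zero_of_le hdeg h0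
  have hle : W ≤ LinearMap.ker (N ^ k) := by
    intro v hv
    rw [LinearMap.mem_ker]
    have := congrArg Subtype.val (LinearMap.congr_fun hnilW ⟨v, hv⟩)
    rw [Module.End.pow_restrict k (h := hWN)] at this
    exact this
  rw [hpow]
  exact Submodule.eq_of_le_of_finrank_le hle (finrank_ker_pow_le hker k)

end Cfsg.Agent.S2573
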