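import Cfsg.Statements.S2574
import Cfsg.Agent.Lib.Transvection.Regular
-- import your own Cfsg.Agent.* helpers here

set_option autoImplicit false
open Cfsg

namespace Cfsg.Agent.S2574

theorem transpose_pow_mul {ι R : Type*} [Fintype ι] [DecidableEq ι] [CommRing R] (A J B : Matrix ι ι R)
    (h : Matrix.transpose A * J = J * B) : ∀ k : ℕ, Matrix.transpose (A ^ k) * J = J * B ^ k
  | 0 => by simp
  | k + 1 => by
    rw [pow_succ', Matrix.transpose_mul, Matrix.mul_assoc, h, ← Matrix.mul_assoc, transpose_pow_mul A J B h k,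
      Matrix.mul_assoc, ← pow_succ]


/-- A regular unipotent element of the symplectic group has totally isotropic small invariant subspaces: over a finite field, if u ∈ Sp_2m(F) satisfies (u − 1)^(2m) = 0 and rank(u − 1) = 2m − 1, and W is a u-invariant subspace with 2 dim W ≤ 2m, then the alternating form vanishes identically on W. -/
theorem result {F : Type*} [Field F] [Finite F] {m : ℕ} (u : Matrix.symplecticGroup (Fin m) F) (hnil : ((u : Matrix (Fin m ⊕ Fin m) (Fin m ⊕ Fin m) F) - 1) ^ (2 * m) = 0) (hreg : ((u : Matrix (Fin m ⊕ Fin m) (Fin m ⊕ Fin m) F) - 1).rank = 2 * m - 1) (W : Submodule F (Fin m ⊕ Fin m → F)) (hW : ∀ v ∈ W, (u : Matrix (Fin m ⊕ Fin m) (Fin m ⊕ Fin m) F).mulVec v ∈ W) (hdim : 2 * Module.finrank F W ≤ 2 * m) : ∀ v ∈ W, ∀ w ∈ W, Cfsg.sympForm m F v w = 0 := by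
  intro v hv w hw
  set A := (u : Matrix (Fin m ⊕ Fin m) (Fin m ⊕ Fin m) F) with hA
  set N := A - 1 with hN
  set d := Module.finrank F W with hd
  set Nl := Matrix.mulVecLin N with hNl
  have hWN : ∀ x ∈ W, Nl x ∈ W := fun x hx => by
    rw [hNl, Matrix.mulVecLin_apply, hN, Matrix.sub_mulVec, Matrix.one_mulVec]
    exact W.sub_mem (hW x hx) hx
  have hNnil : Nl ^ (2 * m) = 0 := by
    show (Matrix.toLinAlgEquiv' N) ^ (2 * m) = 0
    rw [← map_pow, hnil, map_zero]
  have hker1 : Module.finrank F (LinearMap.ker Nl) ≤ 1 := by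
    have h1 := Nl.finrank_range_add_finrank_ker
    have h2 : Module.finrank F (LinearMap.range Nl) = 2 * m - 1 := hreg
    simp only [Module.finrank_pi, Fintype.card_sum, Fintype.card_fin] at h1
    omega
  have hWle : W ≤ LinearMap.ker (Nl ^ d) := by
    intro x hx
    have hres : IsNilpotent (Nl.restrict hWN) := Module.End.isNilpotent.restrict hWN ⟨_, hNnil⟩
    have h0 : (Nl.restrict hWN) ^ d = 0 := by
      have h := LinearMap.aeval_self_charpoly (Nl.restrict hWN)
      rw [hres.charpoly_eq_X_pow_finrank, map_pow, Polynomial.aeval_X] at h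
      exact h
    have h3 := congrArg (fun f : Module.End F W => ((f ⟨x, hx⟩ : W) : Fin m ⊕ Fin m → F)) h0
    simp only [Module.End.pow_restrict d, LinearMap.restrict_apply, LinearMap.zero_apply,
      Submodule.coe_zero] at h3
    exact LinearMap.mem_ker.2 h3
  have hk : ∀ j, Module.finrank F (LinearMap.ker (Nl ^ j)) ≤ j :=
    TransvGL.finrank_ker_pow_le hker1
  have hWeq : W = LinearMap.ker (Nl ^ d) := Submodule.eq_of_le_of_finrank_le hWle (hk d)
  have hrange : LinearMap.range (Nl ^ (2 * m - d)) = W := by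
    refine (Submodule.eq_of_le_of_finrank_le ?_ ?_)
    · rintro _ ⟨x, rfl⟩
      rw [hWeq, LinearMap.mem_ker, ← Module.End.mul_apply, ← pow_add,
        show d + (2 * m - d) = 2 * m by omega, hNnil, LinearMap.zero_apply]
    · have h1 := (Nl ^ (2 * m - d)).finrank_range_add_finrank_ker
      have h2 := hk (2 * m - d)
      simp only [Module.finrank_pi, Fintype.card_sum, Fintype.card_fin] at h1
      omega
  obtain ⟨x, hx⟩ : v ∈ LinearMap.range (Nl ^ (2 * m - d)) := hrange.symm ▸ hv
  have hw0 : (N ^ (2 * m - d)).mulVec w = 0 := by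
    have h1 : (Nl ^ d) w = 0 := LinearMap.mem_ker.1 (hWle hw)
    have h2 : (Nl ^ (2 * m - d)) w = 0 := by
      rw [show 2 * m - d = (2 * m - d - d) + d by omega, pow_add, Module.End.mul_apply, h1, map_zero]
    have h3 : (Matrix.toLinAlgEquiv' N) ^ (2 * m - d) = Matrix.toLinAlgEquiv' (N ^ (2 * m - d)) :=
      (map_pow _ _ _).symm
    exact (LinearMap.congr_fun h3 w).symm.trans h2
  have hv' : v = (N ^ (2 * m - d)).mulVec x := by
    rw [← hx]
    exact LinearMap.congr_fun (map_pow (Matrix.toLinAlgEquiv' (R := F)) N (2 * m - d)).symm x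
  set B := ((u⁻¹ : Matrix.symplecticGroup (Fin m) F) : Matrix (Fin m ⊕ Fin m) (Fin m ⊕ Fin m) F) with hB
  have hAB : A * B = 1 := by
    exact congrArg Subtype.val (mul_inv_cancel u)
  have hBA : B * A = 1 := mul_eq_one_comm.1 hAB
  have hJ : Matrix.transpose A * Matrix.J (Fin m) F = Matrix.J (Fin m) F * B := by
    calc Matrix.transpose A * Matrix.J (Fin m) F
        = Matrix.transpose A * Matrix.J (Fin m) F * (A * B) := by rw [hAB, mul_one]
      _ = Matrix.J (Fin m) F * B := by
        rw [← Matrix.mul_assoc, SymplecticGroup.mem_iff'.1 u.2]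
  have hNJ : Matrix.transpose N * Matrix.J (Fin m) F = Matrix.J (Fin m) F * (-B * N) := by
    rw [hN, Matrix.transpose_sub, Matrix.transpose_one, sub_mul, hJ, one_mul, mul_sub, mul_one,
      neg_mul, hBA, mul_sub, mul_neg, mul_neg, mul_one]
    abel
  have hc : Commute (-B) N := by
    show -B * N = N * -B
    rw [hN, mul_sub, sub_mul, neg_mul, mul_neg, hBA, hAB, mul_one, one_mul]
  show v ⬝ᵥ (Matrix.J (Fin m) F).mulVec w = 0
  rw [hv', dotProduct_comm, Matrix.dotProduct_mulVec, ← Matrix.mulVec_transpose, Matrix.mulVec_mulVec,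
    transpose_pow_mul _ _ _ hNJ, hc.mul_pow, ← Matrix.mulVec_mulVec, ← Matrix.mulVec_mulVec, hw0,
    Matrix.mulVec_zero, Matrix.mulVec_zero, zero_dotProduct]

end Cfsg.Agent.S2574
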