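import Cfsg.Statements.S2575
import Mathlib

set_option autoImplicit false
open Cfsg

namespace Cfsg.Agent.S2575

/-- Which diagonal involutions of PGL_n(q) lie in PSL_n(q), q odd: for the diagonal matrix t with i entries −1 and n − i entries 1, some non-zero scalar multiple of t has determinant one if and only if i is even or the 2-part of q − 1 exceeds the 2-part of n (that is, −1 is an n-th power in the field exactly in the latter case). -/
theorem result {F : Type*} [Field F] [Fintype F] {q : ℕ} (hF : Fintype.card F = q) (hq : Odd q) {n : ℕ} (hn : 1 ≤ n) (i : ℕ) (hi : i ≤ n) : (∃ c : F, c ≠ 0 ∧ (c • Matrix.diagonal (fun j : Fin n => if (j : ℕ) < i then (-1 : F) else 1)).det = 1) ↔ (Even i ∨ padicValNat 2 n < padicValNat 2 (q - 1)) := by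
  classical
  subst hF
  have hdet : ∀ c : F, (c • Matrix.diagonal (fun j : Fin n => if (j : ℕ) < i then (-1 : F) else 1)).det =
      c ^ n * (-1) ^ i := by
    intro c
    rw [Matrix.det_smul, Fintype.card_fin, Matrix.det_diagonal, Finset.prod_ite, Finset.prod_const,
      Finset.prod_const_one, mul_one, Fin.card_filter_val_lt, min_eq_right hi]
  simp only [hdet]
  rcases Nat.even_or_odd i with he | ho
  · exact iff_of_true ⟨1, one_ne_zero, by rw [he.neg_one_pow, one_pow, one_mul]⟩ (Or.inl he)
  simp only [ho.neg_one_pow, mul_neg_one, Nat.not_even_iff_odd.2 ho, false_or]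
  obtain ⟨g, hg⟩ := IsCyclic.exists_generator (α := Fˣ)
  set N := Fintype.card F - 1 with hN
  have hgo : orderOf g = N := by
    rw [orderOf_eq_card_of_forall_mem_zpowers hg, Nat.card_units, Nat.card_eq_fintype_card]
  have h2F : (2 : F) ≠ 0 := Ring.two_ne_zero fun h => by
    have := FiniteField.even_card_of_char_two h
    obtain ⟨w, hw⟩ := hq
    omega
  have hN0 : 0 < N := by have := Fintype.one_lt_card (α := F); omega
  have hN2 : 2 ∣ N := by obtain ⟨w, hw⟩ := hq; omega
  have hneg : (g : F) ^ (N / 2) = -1 := by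
    have h1 : (g : F) ^ (N / 2) * (g : F) ^ (N / 2) = 1 := by
      rw [← pow_add, show N / 2 + N / 2 = N by omega, ← Units.val_pow_eq_pow_val, ← hgo, pow_orderOf_eq_one,
        Units.val_one]
    refine (mul_self_eq_one_iff.1 h1).resolve_left fun h => ?_
    have := Nat.le_of_dvd (by omega) (orderOf_dvd_of_pow_eq_one (x := g) (n := N / 2)
      (Units.ext (by rw [Units.val_pow_eq_pow_val, h, Units.val_one])))
    omega
  set d := Nat.gcd n N with hd
  have key : (∃ c : F, c ≠ 0 ∧ -(c ^ n) = 1) ↔ d ∣ N / 2 := by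
    constructor
    · rintro ⟨c, hc0, hc⟩
      obtain ⟨k, hk⟩ := mem_powers_iff_mem_zpowers.2 (hg (Units.mk0 c hc0))
      have hk' : (g : F) ^ k = c := by
        have := congrArg Units.val hk
        simpa using this
      have h1 : g ^ (k * n) = g ^ (N / 2) := Units.ext (by
        rw [Units.val_pow_eq_pow_val, Units.val_pow_eq_pow_val, pow_mul, hk', hneg]
        linear_combination -hc)
      rw [pow_eq_pow_iff_modEq, hgo] at h1
      have h2 : d ∣ k * n := (Nat.gcd_dvd_left n N).mul_left k
      exact ((h1.of_dvd (Nat.gcd_dvd_right n N)).dvd_iff dvd_rfl).1 h2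
    · rintro ⟨t, ht⟩
      set u : Fˣ := g ^ (Nat.gcdA n N * (t : ℤ)) with hu
      refine ⟨(u : F), Units.ne_zero _, ?_⟩
      have hb := Nat.gcd_eq_gcd_ab n N
      rw [← hd] at hb
      have h1 : u ^ n = g ^ (N / 2) := by
        rw [hu, ← zpow_natCast, ← zpow_mul, ← zpow_natCast, ht, zpow_eq_zpow_iff_modEq, hgo,
          Int.modEq_iff_dvd]
        refine ⟨Nat.gcdB n N * t, ?_⟩
        push_cast
        linear_combination (t : ℤ) * hb
      rw [← Units.val_pow_eq_pow_val, h1, Units.val_pow_eq_pow_val, hneg, neg_neg]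
  rw [key]
  haveI : Fact (Nat.Prime 2) := ⟨Nat.prime_two⟩
  have hn0 : n ≠ 0 := by omega
  constructor
  · intro h
    have h1 : 2 * d ∣ N := by
      rw [← Nat.mul_div_cancel' hN2]; exact Nat.mul_dvd_mul_left 2 h
    by_contra hle
    push Not at hle
    have h2 : 2 ^ padicValNat 2 N ∣ d :=
      Nat.dvd_gcd ((pow_dvd_pow 2 hle).trans pow_padicValNat_dvd) pow_padicValNat_dvd
    have h3 : 2 ^ (padicValNat 2 N + 1) ∣ N := by
      rw [pow_succ']; exact (Nat.mul_dvd_mul_left 2 h2).trans h1
    exact pow_succ_padicValNat_not_dvd hN0.ne' h3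
  · intro hlt
    obtain ⟨t, ht⟩ : d ∣ N := Nat.gcd_dvd_right n N
    rcases Nat.even_or_odd t with ⟨w, hw⟩ | hodd
    · refine ⟨w, ?_⟩
      rw [ht, hw, ← two_mul, mul_left_comm, Nat.mul_div_cancel_left _ two_pos]
    · exfalso
      have hco : Nat.Coprime (2 ^ padicValNat 2 N) t := (Nat.coprime_two_left.2 hodd).pow_left _
      have hdn : 2 ^ padicValNat 2 N ∣ n :=
        (hco.dvd_of_dvd_mul_right (ht ▸ pow_padicValNat_dvd)).trans (Nat.gcd_dvd_left n N)
      have := (padicValNat_dvd_iff_le hn0).1 hdn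
      omega

end Cfsg.Agent.S2575
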