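import Cfsg.Statements.S2576
import Cfsg.Agent.Lib.Discriminant.Gram
-- import your own Cfsg.Agent.* helpers here

set_option autoImplicit false
open Cfsg

namespace Cfsg.Agent.S2576

/-- Which involutions of PGL_2m(q) coming from a scalar of the quadratic extension field lie in PSL_2m(q), q odd: let μ generate the Sylow 2-subgroup of the multiplicative group of the field with q elements (μ has order the 2-part of q − 1) and let t be the block-diagonal matrix with m diagonal blocks [[0, 1], [μ, 0]] (so t² is the scalar μ and t is an involution modulo scalars). Then some non-zero scalar multiple of t has determinant one if and only if q ≡ 3 (mod 4) or the 2-part of q − 1 is less than the 2-part of 2m. -/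
theorem result {F : Type*} [Field F] [Fintype F] {q : ℕ} (hF : Fintype.card F = q) (hq : Odd q) {m : ℕ} (hm : 1 ≤ m) (μ : F) (hμ : orderOf μ = 2 ^ padicValNat 2 (q - 1)) : (∃ c : F, c ≠ 0 ∧ (c • Matrix.blockDiagonal (fun _ : Fin m => !![(0 : F), 1; μ, 0])).det = 1) ↔ (q % 4 = 3 ∨ padicValNat 2 (q - 1) < padicValNat 2 (2 * m)) := by
  classical
  subst hF
  set N := Fintype.card F - 1 with hN
  set a := padicValNat 2 N with ha
  have hdet : ∀ c : F, (c • Matrix.blockDiagonal (fun _ : Fin m => !![(0 : F), 1; μ, 0])).det =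
      c ^ (2 * m) * (-μ) ^ m := by
    intro c
    rw [Matrix.det_smul, Fintype.card_prod, Fintype.card_fin, Fintype.card_fin, Matrix.det_blockDiagonal,
      Finset.prod_const, Finset.card_univ, Fintype.card_fin, Matrix.det_fin_two_of]
    ring
  simp only [hdet]
  haveI : Fact (Nat.Prime 2) := ⟨Nat.prime_two⟩
  obtain ⟨w, hw⟩ := hq
  have hNw : N = 2 * w := by omega
  have hw0 : w ≠ 0 := by have := Fintype.one_lt_card (α := F); omega
  have ha1 : a = padicValNat 2 w + 1 := by
    rw [ha, hNw, padicValNat.mul two_ne_zero hw0, padicValNat.self one_lt_two, add_comm]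
  have hneg : μ ^ 2 ^ (a - 1) = -1 := by
    have h1 : (μ ^ 2 ^ (a - 1)) * μ ^ 2 ^ (a - 1) = 1 := by
      rw [← pow_add, ← two_mul, ← pow_succ', show a - 1 + 1 = a by omega, ← hμ, pow_orderOf_eq_one]
    refine (mul_self_eq_one_iff.1 h1).resolve_left fun h => ?_
    have h2 := orderOf_dvd_of_pow_eq_one h
    rw [hμ] at h2
    have := (Nat.pow_dvd_pow_iff_le_right one_lt_two).1 h2
    omega
  by_cases h4 : Fintype.card F % 4 = 3
  · refine iff_of_true ⟨1, one_ne_zero, ?_⟩ (Or.inl h4)
    have ha0 : a = 1 := by rw [ha1, padicValNat.eq_zero_of_not_dvd (by omega : ¬ 2 ∣ w)]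
    rw [show a - 1 = 0 by omega, pow_zero, pow_one] at hneg
    rw [hneg, neg_neg, one_pow, one_pow, one_mul]
  simp only [h4, false_or]
  have ha2 : 2 ≤ a := by
    have : padicValNat 2 w ≠ 0 := by
      rw [← dvd_iff_padicValNat_ne_zero hw0]; omega
    omega
  have hm0 : m ≠ 0 := by omega
  rw [padicValNat.mul two_ne_zero hm0, padicValNat.self one_lt_two]
  have hμa : (-μ) ^ 2 ^ (a - 1) = -1 := by
    rw [(Nat.even_pow.2 ⟨even_two, by omega⟩).neg_pow, hneg]
  constructor
  · rintro ⟨c, hc0, hc⟩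
    by_contra hle
    obtain ⟨s, hs⟩ : 2 ^ padicValNat 2 m ∣ m := pow_padicValNat_dvd
    obtain ⟨r, hr⟩ : 2 ^ a ∣ N := pow_padicValNat_dvd
    set e := padicValNat 2 m
    have hso : Odd s := by
      rw [← Nat.not_even_iff_odd, even_iff_two_dvd]
      rintro ⟨t, rfl⟩
      exact pow_succ_padicValNat_not_dvd (p := 2) hm0 ⟨t, show m = 2 ^ (e + 1) * t by rw [hs]; ring⟩
    have hro : Odd r := by
      rw [← Nat.not_even_iff_odd, even_iff_two_dvd]
      rintro ⟨t, rfl⟩
      exact pow_succ_padicValNat_not_dvd (p := 2) (show N ≠ 0 by omega) ⟨t, by rw [← ha, pow_succ, hr]; ring⟩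
    have h1 := congrArg (· ^ (2 ^ (a - 1 - e) * r)) hc
    simp only [one_pow] at h1
    have he1 : m * (2 ^ (a - 1 - e) * r) = 2 ^ (a - 1) * (s * r) := by
      have h2 : 2 ^ (a - 1) = 2 ^ e * 2 ^ (a - 1 - e) := by rw [← pow_add]; congr 1; omega
      rw [h2, hs]; ring
    have he2 : 2 * m * (2 ^ (a - 1 - e) * r) = N * s := by
      rw [mul_assoc 2, he1, hr, show 2 ^ a = 2 * 2 ^ (a - 1) by rw [← pow_succ']; congr 1; omega]
      ring
    rw [mul_pow, ← pow_mul c, he2, pow_mul, FiniteField.pow_card_sub_one_eq_one c hc0, one_pow, one_mul,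
      ← pow_mul, he1, pow_mul, hμa, (hso.mul hro).neg_one_pow] at h1
    exact Disc.two_ne_zero_of_odd (F := F) ⟨w, hw⟩ (by linear_combination -h1)
  · intro hlt
    refine ⟨1, one_ne_zero, ?_⟩
    have h1 : 2 ^ a ∣ m := (pow_dvd_pow 2 (by omega)).trans pow_padicValNat_dvd
    obtain ⟨t, rfl⟩ := h1
    rw [one_pow, one_mul, pow_mul, show 2 ^ a = 2 ^ (a - 1) * 2 by rw [← pow_succ]; congr 1; omega, pow_mul, hμa,
      neg_one_sq, one_pow]

end Cfsg.Agent.S2576
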