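import Cfsg.Statements.S2577
import Cfsg.Agent.S2387
import Mathlib

set_option autoImplicit false
open Cfsg

namespace Cfsg.Agent.S2577


open Polynomial

variable {F : Type*} [Field F] [Fintype F] {n : ℕ}

omit [Fintype F] in
theorem sc_val (c : Fˣ) : ((Matrix.GeneralLinearGroup.scalar (Fin n)) c : Matrix (Fin n) (Fin n) F) = (c : F) • 1 := by
  rw [Matrix.smul_one_eq_diagonal]; rfl

omit [Fintype F] in
theorem charpoly_dvd (A : Matrix (Fin n) (Fin n) F) (c : F) (h : A * A = c • 1) :
    A.charpoly ∣ (X ^ 2 - C c) ^ n := by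
  classical
  let K := AlgebraicClosure F
  rw [← Polynomial.map_dvd_map (algebraMap F K) (algebraMap F K).injective (Matrix.charpoly_monic A)]
  have hs : (A.charpoly.map (algebraMap F K)).Splits := IsAlgClosed.splits _
  rw [hs.eq_prod_roots_of_monic ((Matrix.charpoly_monic A).map _)]
  have hcard : Multiset.card (A.charpoly.map (algebraMap F K)).roots ≤ n := by
    refine (Polynomial.card_roots' _).trans ?_
    rw [Polynomial.natDegree_map, Matrix.charpoly_natDegree_eq_dim, Fintype.card_fin]
  have key : ∀ M : Multiset K, (∀ r ∈ M, X - C r ∣ ((X ^ 2 - C c) : F[X]).map (algebraMap F K)) →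
      (M.map fun r => X - C r).prod ∣ (((X ^ 2 - C c) : F[X]).map (algebraMap F K)) ^ Multiset.card M := by
    intro M
    induction M using Multiset.induction with
    | empty => simp
    | cons a s ih =>
      intro hM
      rw [Multiset.map_cons, Multiset.prod_cons, Multiset.card_cons, pow_succ']
      exact mul_dvd_mul (hM a (Multiset.mem_cons_self _ _)) (ih fun r hr => hM r (Multiset.mem_cons_of_mem hr))
  rw [Polynomial.map_pow]
  refine (key _ fun r hr => ?_).trans (pow_dvd_pow _ hcard)
  rw [Polynomial.dvd_iff_isRoot, Polynomial.IsRoot, Polynomial.eval_map]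
  have hr' : r ∈ spectrum K (A.map (algebraMap F K)) := by
    rw [Matrix.mem_spectrum_iff_isRoot_charpoly, Matrix.charpoly_map]
    exact (Polynomial.mem_roots'.1 hr).2
  have h2 := spectrum.subset_polynomial_aeval (A.map (algebraMap F K))
    (((X ^ 2 - C c) : F[X]).map (algebraMap F K)) ⟨r, hr', rfl⟩
  have h0 : aeval (A.map (algebraMap F K)) (((X ^ 2 - C c) : F[X]).map (algebraMap F K)) = 0 := by
    have h' := congrArg (fun B => B.map (algebraMap F K)) h
    simp only [Matrix.map_mul] at h'
    rw [Polynomial.map_sub, Polynomial.map_pow, map_X, map_C, map_sub, map_pow, aeval_X, aeval_C, sq, h',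
      sub_eq_zero, Matrix.algebraMap_eq_diagonal, Matrix.smul_one_eq_diagonal, Matrix.diagonal_map (map_zero _)]
    rfl
  rw [h0] at h2
  obtain rfl | hn := Nat.eq_zero_or_pos n
  · exact absurd hr' (by simp [Subsingleton.elim (A.map (algebraMap F K)) 0, spectrum.of_subsingleton])
  haveI : NeZero n := ⟨by omega⟩
  rw [spectrum.zero_eq] at h2
  simpa [Polynomial.eval_map] using h2

open scoped Classical in
theorem isConj_of_sq (hodd : Odd (Fintype.card F)) (g h : GL (Fin n) F) (c : Fˣ) (hg : g ^ 2 = (Matrix.GeneralLinearGroup.scalar (Fin n)) c)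
    (hh : h ^ 2 = (Matrix.GeneralLinearGroup.scalar (Fin n)) c) (he : g.1.charpoly = h.1.charpoly) : IsConj g h := by
  obtain ⟨p, hp⟩ := CharP.exists F
  haveI := hp
  haveI : Fact p.Prime := ⟨CharP.char_is_prime F p⟩
  obtain ⟨f, -, hF⟩ := FiniteField.card F p
  have key : ∀ x : GL (Fin n) F, x ^ 2 = (Matrix.GeneralLinearGroup.scalar (Fin n)) c → (orderOf x).Coprime p := by
    intro x hx
    have h1 : x ^ (2 * (Fintype.card F - 1)) = 1 := by
      rw [pow_mul, hx, ← map_pow, ← Fintype.card_units, pow_card_eq_one, map_one]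
    refine Nat.Coprime.coprime_dvd_left (orderOf_dvd_of_pow_eq_one h1)
      (((Fact.out : p.Prime).coprime_iff_not_dvd.2 fun hd => ?_).symm)
    have hpF : p ∣ Fintype.card F := hF ▸ dvd_pow_self p f.ne_zero
    rcases (Fact.out : p.Prime).dvd_mul.1 hd with h2 | h2
    · have := (Nat.prime_dvd_prime_iff_eq Fact.out Nat.prime_two).1 h2
      subst this
      exact (Nat.not_even_iff_odd.2 hodd) (even_iff_two_dvd.2 hpF)
    · have h3 : Fintype.card F - (Fintype.card F - 1) = 1 := by
        have := Fintype.card_pos (α := F)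
        omega
      exact (Fact.out : p.Prime).not_dvd_one (h3 ▸ Nat.dvd_sub hpF h2)
  exact S2387.isConj_of_charpoly g h (key g hg) (key h hh) he

omit [Fintype F] in
theorem charpoly_square (g : GL (Fin n) F) (hg : g ^ 2 = 1) :
    ∃ a b, g.1.charpoly = (X + 1) ^ a * (X - 1) ^ b ∧ a + b = n := by
  have h := charpoly_dvd g.1 1 (by rw [one_smul, ← Units.val_mul, ← sq, hg, Units.val_one])
  rw [show (X ^ 2 - C (1 : F)) = (X + 1) * (X - 1) by rw [map_one]; ring, mul_pow] at h
  obtain ⟨u, v, hu, hv, huv⟩ := exists_dvd_and_dvd_of_dvd_mul h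
  obtain ⟨a, -, ha⟩ := (dvd_prime_pow (show Prime (X + 1 : F[X]) by
    simpa using prime_X_sub_C (-1 : F)) n).1 hu
  obtain ⟨b, -, hb⟩ := (dvd_prime_pow (show Prime (X - 1 : F[X]) by
    simpa using prime_X_sub_C (1 : F)) n).1 hv
  have hm1 : (X + 1 : F[X]).Monic := by simpa using monic_X_sub_C (-1 : F)
  have hm2 : (X - 1 : F[X]).Monic := by simpa using monic_X_sub_C (1 : F)
  have he : g.1.charpoly = (X + 1) ^ a * (X - 1) ^ b :=
    eq_of_monic_of_associated (Matrix.charpoly_monic _) ((hm1.pow a).mul (hm2.pow b))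
      (huv ▸ ha.mul_mul hb)
  refine ⟨a, b, he, ?_⟩
  have hdeg := congrArg natDegree he
  have d1 : (X + 1 : F[X]).natDegree = 1 := by simpa using natDegree_X_sub_C (-1 : F)
  have d2 : (X - 1 : F[X]).natDegree = 1 := by simpa using natDegree_X_sub_C (1 : F)
  rw [(hm1.pow a).natDegree_mul (hm2.pow b), hm1.natDegree_pow, hm2.natDegree_pow, d1, d2,
    Matrix.charpoly_natDegree_eq_dim, Fintype.card_fin] at hdeg
  omega

omit [Fintype F] in
theorem charpoly_nonsquare (g : GL (Fin n) F) (μ : Fˣ) (hμ : ¬ IsSquare (μ : F)) (hg : g ^ 2 = (Matrix.GeneralLinearGroup.scalar (Fin n)) μ) :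
    g.1.charpoly = (X ^ 2 - C (μ : F)) ^ (n / 2) ∧ Even n := by
  have h := charpoly_dvd g.1 μ (by rw [← Units.val_mul, ← sq, hg, sc_val])
  have hirr : Irreducible (X ^ 2 - C (μ : F)) :=
    X_pow_sub_C_irreducible_of_prime Nat.prime_two fun b hb => hμ ⟨b, by rw [← hb, sq]⟩
  obtain ⟨j, -, hj⟩ := (dvd_prime_pow hirr.prime n).1 h
  have hm : (X ^ 2 - C (μ : F)).Monic := monic_X_pow_sub_C _ two_ne_zero
  have he := eq_of_monic_of_associated (Matrix.charpoly_monic _) (hm.pow j) hj
  have hd := congrArg natDegree he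
  rw [hm.natDegree_pow, natDegree_X_pow_sub_C, Matrix.charpoly_natDegree_eq_dim, Fintype.card_fin] at hd
  refine ⟨?_, ⟨j, by omega⟩⟩
  rw [he]
  congr 1
  omega

variable (F)

/-- Diagonal entries. -/
def sgn (i : ℕ) (j : Fin n) : Fˣ := if (j : ℕ) < i then -1 else 1

/-- Diagonal involutions. -/
noncomputable def diagInv (n i : ℕ) : GL (Fin n) F :=
  Units.map (Matrix.diagonalRingHom (Fin n) F).toMonoidHom (MulEquiv.piUnits.symm (sgn F i))

variable {F}

omit [Fintype F] in
theorem diagInv_val (i : ℕ) : (diagInv F n i : Matrix (Fin n) (Fin n) F) =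
    Matrix.diagonal fun j => (sgn F i j : F) := rfl

omit [Fintype F] in
theorem diagInv_sq (i : ℕ) : diagInv F n i ^ 2 = 1 := by
  refine Units.ext ?_
  rw [Units.val_pow_eq_pow_val, diagInv_val, Matrix.diagonal_pow, Units.val_one, ← Matrix.diagonal_one]
  congr 1
  funext j
  by_cases h : (j : ℕ) < i <;> simp [sgn, h]

omit [Fintype F] in
theorem diagInv_charpoly (i : ℕ) (hi : i ≤ n) :
    (diagInv F n i).1.charpoly = (X + 1) ^ i * (X - 1) ^ (n - i) := by
  rw [diagInv_val, Matrix.charpoly_diagonal]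
  have : ∀ j : Fin n, X - C ((sgn F i j : F)) = if (j : ℕ) < i then X + 1 else X - 1 := fun j => by
    by_cases h : (j : ℕ) < i <;> simp [sgn, h]
  simp only [this]
  rw [Finset.prod_ite, Finset.prod_const, Finset.prod_const, Fin.card_filter_val_lt, min_eq_right hi]
  congr 2
  rw [Finset.filter_not, Finset.card_sdiff]
  simp [Fin.card_filter_val_lt, min_eq_right hi]

omit [Fintype F] in
theorem rootMult (h2 : (2 : F) ≠ 0) (a b : ℕ) :
    ((X + 1 : F[X]) ^ a * (X - 1) ^ b).rootMultiplicity (-1) = a := by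
  have e : (X + 1 : F[X]) = X - C (-1) := by simp
  rw [e, mul_comm, rootMultiplicity_mul_X_sub_C_pow (pow_ne_zero _ (by simpa using X_sub_C_ne_zero (1 : F))),
    rootMultiplicity_eq_zero, zero_add]
  simp only [IsRoot, eval_pow, eval_sub, eval_X, eval_one]
  refine pow_ne_zero _ ?_
  rw [show (-1 : F) - 1 = -2 by ring]
  exact neg_ne_zero.2 h2

omit [Fintype F] in
theorem exists_nonsquare_root {n : ℕ} (hn : Even n) (μ : Fˣ) : ∃ g : GL (Fin n) F, g ^ 2 = (Matrix.GeneralLinearGroup.scalar (Fin n)) μ := by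
  obtain ⟨m, rfl⟩ := hn
  let B : Matrix (Fin 2 × Fin m) (Fin 2 × Fin m) F :=
    Matrix.blockDiagonal fun _ => !![0, (μ : F); 1, 0]
  have hB : B * B = (μ : F) • 1 := by
    rw [← Matrix.blockDiagonal_mul, ← Matrix.blockDiagonal_one, ← Matrix.blockDiagonal_smul]
    congr 1
    funext _
    ext a b
    fin_cases a <;> fin_cases b <;> simp [Matrix.mul_apply]
  let e : Fin 2 × Fin m ≃ Fin (m + m) := finProdFinEquiv.trans (finCongr (by ring))
  have hA : Matrix.reindexAlgEquiv F F e B * Matrix.reindexAlgEquiv F F e B = (μ : F) • 1 := by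
    rw [← map_mul, hB, map_smul, map_one]
  refine ⟨⟨Matrix.reindexAlgEquiv F F e B, (μ : F)⁻¹ • Matrix.reindexAlgEquiv F F e B, ?_, ?_⟩, ?_⟩
  · rw [mul_smul_comm, hA, smul_smul, inv_mul_cancel₀ μ.ne_zero, one_smul]
  · rw [smul_mul_assoc, hA, smul_smul, inv_mul_cancel₀ μ.ne_zero, one_smul]
  · refine Units.ext ?_
    rw [sq, Units.val_mul, sc_val]
    exact hA

/-- Number of conjugacy classes of involutions in PGL_n(q) for q odd and n ≥ 2: there are ⌊n/2⌋ classes represented by diagonal matrices with i entries −1 (1 ≤ i ≤ n/2) and, when n is even, one more class represented by a block-diagonal matrix of 2 × 2 blocks [[0, 1], [μ, 0]] with μ a non-square (a matrix squaring to a scalar but having no eigenvalue in the field); in all ⌊n/2⌋ + 1 classes if n is even and ⌊n/2⌋ if n is odd. -/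
theorem result {F : Type*} [Field F] [Fintype F] {q : ℕ} (hF : Fintype.card F = q) (hq : Odd q) {n : ℕ} (hn : 2 ≤ n) : Nat.card {C : ConjClasses (GL (Fin n) F ⧸ Subgroup.center (GL (Fin n) F)) // ∃ g : GL (Fin n) F ⧸ Subgroup.center (GL (Fin n) F), ConjClasses.mk g = C ∧ orderOf g = 2} = n / 2 + (if Even n then 1 else 0) := by
  classical
  subst hF
  have h2 : (2 : F) ≠ 0 := by
    intro h
    obtain ⟨p, hp⟩ := CharP.exists F
    obtain ⟨f, hpp, hF⟩ := FiniteField.card F p
    have hd : p ∣ 2 := (CharP.cast_eq_zero_iff F p 2).1 (by exact_mod_cast h)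
    have := (Nat.prime_dvd_prime_iff_eq hpp Nat.prime_two).1 hd
    subst this
    rw [hF] at hq
    exact (Nat.not_even_iff_odd.2 hq) (even_iff_two_dvd.2 (dvd_pow_self 2 f.ne_zero))
  set G := GL (Fin n) F
  set Z := Subgroup.center G
  have hmemZ : ∀ x : G, x ∈ Z ↔ ∃ c : Fˣ, (Matrix.GeneralLinearGroup.scalar (Fin n)) c = x := fun x => by
    show x ∈ Subgroup.center (GL (Fin n) F) ↔ _
    rw [Matrix.GeneralLinearGroup.center_eq_range_scalar]; exact MonoidHom.mem_range
  have hscZ : ∀ c : Fˣ, (Matrix.GeneralLinearGroup.scalar (Fin n)) c ∈ Z := fun c => (hmemZ _).2 ⟨c, rfl⟩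
  have hcomm : ∀ (c : Fˣ) (x : G), (Matrix.GeneralLinearGroup.scalar (Fin n)) c * x = x * (Matrix.GeneralLinearGroup.scalar (Fin n)) c := fun c x =>
    (Subgroup.mem_center_iff.1 (hscZ c) x).symm
  have hsc1 : ∀ c : Fˣ, (Matrix.GeneralLinearGroup.scalar (Fin n)) c = 1 → c = 1 := fun c h => by
    have h' := congrFun (congrFun (congrArg (Units.val : GL (Fin n) F → Matrix (Fin n) (Fin n) F) h) ⟨0, by omega⟩) ⟨0, by omega⟩
    rw [sc_val] at h'
    exact Units.ext (by simpa using h')
  have hscinj : ∀ c d : Fˣ, (Matrix.GeneralLinearGroup.scalar (Fin n)) c = (Matrix.GeneralLinearGroup.scalar (Fin n)) d → c = d := fun c d h =>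
    inv_mul_eq_one.1 (hsc1 _ (by rw [map_mul, map_inv, h, inv_mul_cancel])) |> fun e => e
  obtain ⟨μ, hμ⟩ : ∃ μ : Fˣ, ¬ IsSquare (μ : F) := by
    obtain ⟨a, ha⟩ := FiniteField.exists_nonsquare (F := F) (fun hc => h2 (by
      have := CharP.cast_eq_zero F (ringChar F); rw [hc] at this; exact_mod_cast this))
    exact ⟨Units.mk0 a (fun h0 => ha (h0 ▸ IsSquare.zero)), ha⟩
  have hord : ∀ g : G, orderOf (QuotientGroup.mk g : G ⧸ Z) = 2 ↔
      (∃ c, g ^ 2 = (Matrix.GeneralLinearGroup.scalar (Fin n)) c) ∧ g ∉ Z := by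
    intro g
    rw [orderOf_eq_prime_iff, ← QuotientGroup.mk_pow, QuotientGroup.eq_one_iff, Ne, QuotientGroup.eq_one_iff]
    refine and_congr_left fun _ => ⟨fun h => ?_, ?_⟩
    · rw [hmemZ] at h
      obtain ⟨c, hc⟩ := h
      exact ⟨c, hc.symm⟩
    · rintro ⟨c, hc⟩; rw [hc]; exact hscZ c
  have hD : ∀ i, 1 ≤ i → i < n → diagInv F n i ∉ Z := by
    intro i hi hin h
    rw [hmemZ] at h
    obtain ⟨c, hc⟩ := h
    have hv : ((Matrix.GeneralLinearGroup.scalar (Fin n)) c : Matrix (Fin n) (Fin n) F) = (diagInv F n i : G).1 := congrArg Units.val hc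
    rw [sc_val, diagInv_val] at hv
    have e0 := congrFun (congrFun hv ⟨0, by omega⟩) ⟨0, by omega⟩
    have e1 := congrFun (congrFun hv ⟨n - 1, by omega⟩) ⟨n - 1, by omega⟩
    rw [Matrix.smul_apply, Matrix.one_apply_eq, Matrix.diagonal_apply_eq, sgn, if_pos (show ((⟨0, _⟩ : Fin n) : ℕ) < i from hi),
      smul_eq_mul, mul_one, Units.val_neg, Units.val_one] at e0
    rw [Matrix.smul_apply, Matrix.one_apply_eq, Matrix.diagonal_apply_eq, sgn,
      if_neg (show ¬ n - 1 < i by omega), smul_eq_mul, mul_one, Units.val_one] at e1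
    rw [e1] at e0
    exact h2 (by linear_combination e0)
  have hconjq : ∀ {x y : G}, IsConj x y → ∀ c : Fˣ,
      ConjClasses.mk (QuotientGroup.mk ((Matrix.GeneralLinearGroup.scalar (Fin n)) c * x) : G ⧸ Z) = ConjClasses.mk (QuotientGroup.mk y) := by
    intro x y h c
    rw [QuotientGroup.mk_mul, (QuotientGroup.eq_one_iff _).2 (hscZ c), one_mul]
    exact ConjClasses.mk_eq_mk_iff_isConj.2 ((QuotientGroup.mk' Z).map_isConj h)
  have hlift : ∀ x y : G, ConjClasses.mk (QuotientGroup.mk x : G ⧸ Z) = ConjClasses.mk (QuotientGroup.mk y) →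
      ∃ c : Fˣ, IsConj x ((Matrix.GeneralLinearGroup.scalar (Fin n)) c * y) := by
    intro x y h
    obtain ⟨k, hk⟩ := isConj_iff.1 (ConjClasses.mk_eq_mk_iff_isConj.1 h)
    obtain ⟨k, rfl⟩ := QuotientGroup.mk_surjective k
    rw [← QuotientGroup.mk_inv, ← QuotientGroup.mk_mul, ← QuotientGroup.mk_mul, QuotientGroup.eq] at hk
    rw [hmemZ] at hk
    obtain ⟨c, hc⟩ := hk
    refine ⟨c⁻¹, isConj_iff.2 ⟨k, ?_⟩⟩
    rw [map_inv, eq_inv_mul_iff_mul_eq, hcomm, show (Matrix.GeneralLinearGroup.scalar (Fin n)) c = _ from hc, mul_inv_cancel_left]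
  let M : Fin (if Even n then 1 else 0) → G := fun x =>
    (exists_nonsquare_root (show Even n by by_contra h; rw [if_neg h] at x; exact x.elim0) μ).choose
  have hM : ∀ x, M x ^ 2 = (Matrix.GeneralLinearGroup.scalar (Fin n)) μ := fun x =>
    (exists_nonsquare_root (show Even n by by_contra h; rw [if_neg h] at x; exact x.elim0) μ).choose_spec
  have hMZ : ∀ x, M x ∉ Z := fun x h => by
    rw [hmemZ] at h
    obtain ⟨c, hc⟩ := h
    refine hμ ⟨c, ?_⟩
    have := hscinj (c ^ 2) μ (by rw [map_pow, show (Matrix.GeneralLinearGroup.scalar (Fin n)) c = M x from hc, hM x])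
    rw [← this, Units.val_pow_eq_pow_val, sq]
  let rep : Fin (n / 2) ⊕ Fin (if Even n then 1 else 0) → G :=
    Sum.elim (fun j => diagInv F n (j + 1)) M
  have hrep : ∀ s, orderOf (QuotientGroup.mk (rep s) : G ⧸ Z) = 2 := by
    rintro (j | x)
    · exact (hord _).2 ⟨⟨1, by rw [map_one]; exact diagInv_sq _⟩, hD _ (by omega) (by have := j.2; omega)⟩
    · exact (hord _).2 ⟨⟨μ, hM x⟩, hMZ x⟩
  rw [← Nat.card_eq_of_bijective (fun s => (⟨ConjClasses.mk (QuotientGroup.mk (rep s)), _, rfl, hrep s⟩ :
    {C : ConjClasses (G ⧸ Z) // ∃ g : G ⧸ Z, ConjClasses.mk g = C ∧ orderOf g = 2})) ⟨?_, ?_⟩,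
    Nat.card_sum, Nat.card_fin, Nat.card_fin]
  · intro s s' h
    obtain ⟨c, hc⟩ := hlift _ _ (congrArg Subtype.val h)
    obtain ⟨k, hk⟩ := isConj_iff.1 hc
    have hsq : ∀ d e : Fˣ, rep s ^ 2 = (Matrix.GeneralLinearGroup.scalar (Fin n)) d → rep s' ^ 2 = (Matrix.GeneralLinearGroup.scalar (Fin n)) e → d = c * c * e := by
      intro d e hd he
      refine hscinj _ _ ?_
      have h1 : k * rep s ^ 2 * k⁻¹ = ((Matrix.GeneralLinearGroup.scalar (Fin n)) c * rep s') ^ 2 := by rw [← hk, conj_pow]
      rw [hd, ← hcomm, mul_inv_cancel_right, (show Commute ((Matrix.GeneralLinearGroup.scalar (Fin n)) c) (rep s') from hcomm c _).mul_pow, he] at h1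
      rw [h1, sq, map_mul, map_mul]
    rcases s with j | x <;> rcases s' with j' | x'
    · have hcc := hsq 1 1 (by rw [map_one]; exact diagInv_sq _) (by rw [map_one]; exact diagInv_sq _)
      rw [mul_one] at hcc
      have hc' : (c : F) = 1 ∨ (c : F) = -1 := mul_self_eq_one_iff.1 (by
        rw [← Units.val_mul, ← hcc, Units.val_one])
      have hchar : (diagInv F n (j + 1)).1.charpoly =
          ((c : F) • (diagInv F n (j' + 1)).1).charpoly := by
        have hk' : k * diagInv F n (j + 1) * k⁻¹ = (Matrix.GeneralLinearGroup.scalar (Fin n)) c * diagInv F n (j' + 1) := hk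
        have := congrArg (fun g : G => g.1.charpoly) hk'
        change (k.1 * (diagInv F n ((j : ℕ) + 1)).1 * (k⁻¹ : GL (Fin n) F).1).charpoly =
          (((Matrix.GeneralLinearGroup.scalar (Fin n)) c).1 * (diagInv F n ((j' : ℕ) + 1)).1).charpoly at this
        rwa [sc_val, smul_mul_assoc, one_mul, Matrix.coe_units_inv, Matrix.charpoly_units_conj] at this
      congr 1
      refine Fin.ext ?_
      have hj := j.2
      have hj' := j'.2
      rcases hc' with e | e
      · rw [e, one_smul, diagInv_charpoly _ (by omega), diagInv_charpoly _ (by omega)] at hchar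
        have := congrArg (rootMultiplicity (-1 : F)) hchar
        rw [rootMult h2, rootMult h2] at this
        omega
      · have e' : ((-1 : F) • (diagInv F n (j' + 1)).1).charpoly = (X + 1) ^ (n - (j' + 1)) * (X - 1) ^ ((j' : ℕ) + 1) := by
          rw [diagInv_val, ← Matrix.diagonal_smul, Matrix.charpoly_diagonal]
          have : ∀ i : Fin n, X - C (((-1 : F) • fun j => (sgn F ((j' : ℕ) + 1) j : F)) i) =
              if (i : ℕ) < j' + 1 then X - 1 else X + 1 := fun i => by
            by_cases h : (i : ℕ) < j' + 1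
            · rw [Pi.smul_apply, sgn, if_pos h, if_pos h]; simp
            · rw [Pi.smul_apply, sgn, if_neg h, if_neg h]; simp
          simp only [this]
          rw [Finset.prod_ite, Finset.prod_const, Finset.prod_const, Fin.card_filter_val_lt,
            min_eq_right (by omega), mul_comm]
          congr 2
          rw [Finset.filter_not, Finset.card_sdiff, Finset.inter_univ, Fin.card_filter_val_lt, Finset.card_univ,
            Fintype.card_fin]
          omega
        rw [e, e', diagInv_charpoly _ (by omega)] at hchar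
        have := congrArg (rootMultiplicity (-1 : F)) hchar
        rw [rootMult h2, rootMult h2] at this
        omega
    · exfalso
      have h1 := hsq 1 μ (by rw [map_one]; exact diagInv_sq _) (hM x')
      refine hμ ⟨(c : F)⁻¹, ?_⟩
      have h1' := congrArg (Units.val) h1
      simp only [Units.val_one, Units.val_mul] at h1'
      field_simp
      linear_combination -h1'
    · exfalso
      have h1 := hsq μ 1 (hM x) (by rw [map_one]; exact diagInv_sq _)
      exact hμ ⟨c, by rw [h1, mul_one, Units.val_mul]⟩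
    · congr 1
      by_cases hev : Even n
      · exact Fin.ext (by have := x.2; have := x'.2; simp only [if_pos hev] at *; omega)
      · have := x.2; simp only [if_neg hev] at this; omega
  · rintro ⟨C, g, rfl, hg⟩
    obtain ⟨g, rfl⟩ := QuotientGroup.mk_surjective g
    obtain ⟨⟨c, hc⟩, hgZ⟩ := (hord g).1 hg
    by_cases hcs : IsSquare (c : F)
    · obtain ⟨s, hs⟩ := hcs
      set s' : Fˣ := Units.mk0 s (fun h0 => c.ne_zero (by rw [hs, h0, mul_zero])) with hs'
      have hc' : c = s' * s' := Units.ext hs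
      set h := (Matrix.GeneralLinearGroup.scalar (Fin n)) s'⁻¹ * g with hh
      have hh2 : h ^ 2 = 1 := by
        rw [(show Commute ((Matrix.GeneralLinearGroup.scalar (Fin n)) s'⁻¹) g from hcomm _ g).mul_pow, hc, hc', ← map_pow, ← map_mul, inv_pow, ← sq,
          inv_mul_cancel, map_one]
      have hgh : g = (Matrix.GeneralLinearGroup.scalar (Fin n)) s' * h := by rw [hh, ← mul_assoc, ← map_mul, mul_inv_cancel, map_one, one_mul]
      obtain ⟨a, b, hab, hn'⟩ := charpoly_square h hh2
      have hhZ : ∀ d : Fˣ, ¬ IsConj h ((Matrix.GeneralLinearGroup.scalar (Fin n)) d) := fun d hd => by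
        obtain ⟨k, hk⟩ := isConj_iff.1 hd.symm
        rw [← hcomm, mul_inv_cancel_right] at hk
        exact hgZ (hgh ▸ Subgroup.mul_mem _ (hscZ s') (hk ▸ hscZ d))
      have hsc : ∀ d : Fˣ, d * d = 1 → (Matrix.GeneralLinearGroup.scalar (Fin n)) d ^ 2 = 1 := fun d hd => by rw [← map_pow, sq, hd, map_one]
      have hcs : ∀ d : Fˣ, ((Matrix.GeneralLinearGroup.scalar (Fin n)) d).1.charpoly = (X - C (d : F)) ^ n := fun d => by
        rw [sc_val, Matrix.smul_one_eq_diagonal, Matrix.charpoly_diagonal, Finset.prod_const, Finset.card_univ,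
          Fintype.card_fin]
      have ha : 1 ≤ a := by
        by_contra h0
        refine hhZ 1 (isConj_of_sq hq h _ 1 (by rw [map_one]; exact hh2) (by rw [map_one]; exact hsc 1 (mul_one 1)) ?_)
        rw [hab, hcs, show a = 0 by omega, show b = n by omega, Units.val_one, map_one, pow_zero, one_mul]
      have hb : 1 ≤ b := by
        by_contra h0
        refine hhZ (-1) (isConj_of_sq hq h _ 1 (by rw [map_one]; exact hh2) (by rw [map_one]; exact hsc (-1) (by simp)) ?_)
        rw [hab, hcs, show a = n by omega, show b = 0 by omega, Units.val_neg, Units.val_one, map_neg, map_one,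
          pow_zero, mul_one, sub_neg_eq_add]
      by_cases hle : a ≤ n / 2
      · refine ⟨Sum.inl ⟨a - 1, by omega⟩, Subtype.ext ?_⟩
        have hconj : IsConj (diagInv F n a) h := isConj_of_sq hq _ _ 1 (by rw [map_one]; exact diagInv_sq _)
          (by rw [map_one]; exact hh2) (by rw [hab, diagInv_charpoly _ (by omega), show n - a = b by omega])
        show ConjClasses.mk (QuotientGroup.mk (diagInv F n (a - 1 + 1)) : G ⧸ Z) = ConjClasses.mk (QuotientGroup.mk g)
        rw [Nat.sub_add_cancel ha, hgh, hconjq (IsConj.refl h) s']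
        exact ConjClasses.mk_eq_mk_iff_isConj.2 ((QuotientGroup.mk' Z).map_isConj hconj)
      · refine ⟨Sum.inl ⟨b - 1, by omega⟩, Subtype.ext ?_⟩
        have hn2 : ((Matrix.GeneralLinearGroup.scalar (Fin n)) (-1) * diagInv F n b) ^ 2 = 1 := by
          rw [(show Commute ((Matrix.GeneralLinearGroup.scalar (Fin n)) (-1)) (diagInv F n b) from hcomm _ _).mul_pow, diagInv_sq, hsc (-1) (by simp), mul_one]
        have hconj : IsConj ((Matrix.GeneralLinearGroup.scalar (Fin n)) (-1) * diagInv F n b) h := by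
          refine isConj_of_sq hq _ _ 1 (by rw [map_one]; exact hn2) (by rw [map_one]; exact hh2) ?_
          rw [hab, Units.val_mul, sc_val, smul_mul_assoc, one_mul, diagInv_val, ← Matrix.diagonal_smul,
            Matrix.charpoly_diagonal]
          have : ∀ i : Fin n, X - C ((((-1 : Fˣ) : F) • fun j => (sgn F b j : F)) i) =
              if (i : ℕ) < b then X - 1 else X + 1 := fun i => by
            by_cases h : (i : ℕ) < b
            · rw [Pi.smul_apply, sgn, if_pos h, if_pos h]; simp
            · rw [Pi.smul_apply, sgn, if_neg h, if_neg h]; simp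
          simp only [this]
          rw [Finset.prod_ite, Finset.prod_const, Finset.prod_const, Fin.card_filter_val_lt,
            min_eq_right (by omega), mul_comm]
          congr 2
          rw [Finset.filter_not, Finset.card_sdiff, Finset.inter_univ, Fin.card_filter_val_lt, Finset.card_univ,
            Fintype.card_fin]
          omega
        show ConjClasses.mk (QuotientGroup.mk (diagInv F n (b - 1 + 1)) : G ⧸ Z) = ConjClasses.mk (QuotientGroup.mk g)
        rw [Nat.sub_add_cancel hb, hgh, hconjq (IsConj.refl h) s',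
          ← hconjq (IsConj.refl (diagInv F n b)) (-1)]
        exact ConjClasses.mk_eq_mk_iff_isConj.2 ((QuotientGroup.mk' Z).map_isConj hconj)
    · have hmul : IsSquare ((c : F) / (μ : F)) := by
        have hring : ringChar F ≠ 2 := fun hh => h2 (by
          have := CharP.cast_eq_zero F (ringChar F); rw [hh] at this; exact_mod_cast this)
        have := FiniteField.isSquare_iff hring (a := (c : F) / μ) (div_ne_zero c.ne_zero μ.ne_zero)
        rw [this, div_pow]
        have e1 := FiniteField.pow_dichotomy hring c.ne_zero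
        have e2 := FiniteField.pow_dichotomy hring μ.ne_zero
        rw [FiniteField.isSquare_iff hring c.ne_zero] at hcs
        rw [FiniteField.isSquare_iff hring μ.ne_zero] at hμ
        rw [e1.resolve_left hcs, e2.resolve_left hμ, div_self (neg_ne_zero.2 one_ne_zero)]
      obtain ⟨s, hs⟩ := hmul
      set s' : Fˣ := Units.mk0 s (fun h0 => div_ne_zero c.ne_zero μ.ne_zero (by rw [hs, h0, mul_zero]))
      have hc' : c = s' * s' * μ := Units.ext (by
        show (c : F) = s * s * μ
        rw [← hs, div_mul_cancel₀ _ μ.ne_zero])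
      set h := (Matrix.GeneralLinearGroup.scalar (Fin n)) s'⁻¹ * g with hh
      have hh2 : h ^ 2 = (Matrix.GeneralLinearGroup.scalar (Fin n)) μ := by
        rw [(show Commute ((Matrix.GeneralLinearGroup.scalar (Fin n)) s'⁻¹) g from hcomm _ g).mul_pow, hc, hc', ← map_pow, ← map_mul, inv_pow, ← sq,
          ← mul_assoc, inv_mul_cancel, one_mul]
      have hgh : g = (Matrix.GeneralLinearGroup.scalar (Fin n)) s' * h := by rw [hh, ← mul_assoc, ← map_mul, mul_inv_cancel, map_one, one_mul]
      obtain ⟨hcp, hev⟩ := charpoly_nonsquare h μ hμ hh2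
      let x : Fin (if Even n then 1 else 0) := ⟨0, by rw [if_pos hev]; exact one_pos⟩
      refine ⟨Sum.inr x, Subtype.ext ?_⟩
      have hconj : IsConj (M x) h := isConj_of_sq hq _ _ μ (hM x) hh2
        (by rw [hcp, (charpoly_nonsquare (M x) μ hμ (hM x)).1])
      show ConjClasses.mk (QuotientGroup.mk (M x) : G ⧸ Z) = ConjClasses.mk (QuotientGroup.mk g)
      rw [hgh, hconjq (IsConj.refl h) s']
      exact ConjClasses.mk_eq_mk_iff_isConj.2 ((QuotientGroup.mk' Z).map_isConj hconj)

end Cfsg.Agent.S2577
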