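import Cfsg.Statements.S2578
import Cfsg.Agent.Lib.Transvection.Regular
-- import your own Cfsg.Agent.* helpers here

set_option autoImplicit false
open Cfsg

namespace Cfsg.Agent.S2578

open Matrix

variable {F : Type*} [Field F]

/-- The lower shift matrix. -/
def shift (F : Type*) [Field F] (n : ℕ) : Matrix (Fin n) (Fin n) F :=
  Matrix.of fun i j => if (i : ℕ) = (j : ℕ) + 1 then 1 else 0

theorem shift_single {n : ℕ} (j : Fin n) :
    (shift F n) *ᵥ (Pi.single j 1) =
      if h : (j : ℕ) + 1 < n then Pi.single ⟨(j : ℕ) + 1, h⟩ 1 else 0 := by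
  ext i
  rw [Matrix.mulVec_single_one]
  show shift F n i j = _
  split_ifs with h
  · simp [shift, Pi.single_apply, Fin.ext_iff]
  · have : (i : ℕ) ≠ (j : ℕ) + 1 := by omega
    simp [shift, this]

theorem exists_det_pow {V : Type*} [AddCommGroup V] [Module F V] [FiniteDimensional F V] {N : Module.End F V} {n : ℕ}
    (hV : Module.finrank F V = n) (hn : 1 ≤ n) (hnil : N ^ n = 0) {v : V} (hv : (N ^ (n - 1)) v ≠ 0)
    {g : Module.End F V} (hg : Commute g N) : ∃ a : F, LinearMap.det g = a ^ n := by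
  obtain ⟨Φ, hΦ⟩ := TransvGL.exists_cyclic hV hnil hv
  obtain ⟨c, hc⟩ := Φ.surjective (g v)
  rw [hΦ] at hc
  set h : Module.End F V := ∑ i : Fin n, c i • N ^ (i : ℕ)
  have hgh : g = h := by
    refine LinearMap.ext fun x => ?_
    obtain ⟨d, rfl⟩ := Φ.surjective x
    rw [hΦ, map_sum, map_sum]
    refine Finset.sum_congr rfl fun i _ => ?_
    rw [map_smul, map_smul, TransvGL.apply_pow_comm hg, ← hc]
    simp only [h, map_sum, map_smul, LinearMap.sum_apply, LinearMap.smul_apply]
    congr 1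
    refine Finset.sum_congr rfl fun k _ => ?_
    rw [← Module.End.mul_apply, ← pow_add, ← Module.End.mul_apply, ← pow_add, add_comm]
  set a := c ⟨0, hn⟩
  set R : Module.End F V := ∑ i ∈ Finset.univ.erase (⟨0, hn⟩ : Fin n), c i • N ^ ((i : ℕ) - 1)
  have hhR : h = algebraMap F (Module.End F V) a + N * R := by
    simp only [h, a, R, Finset.mul_sum, mul_smul_comm, ← pow_succ']
    rw [Algebra.algebraMap_eq_smul_one, ← Finset.add_sum_erase _ _ (Finset.mem_univ (⟨0, hn⟩ : Fin n)), pow_zero]
    congr 1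
    refine Finset.sum_congr rfl fun i hi => ?_
    have : (i : ℕ) ≠ 0 := fun h => (Finset.mem_erase.1 hi).1 (Fin.ext h)
    rw [show (i : ℕ) - 1 + 1 = i by omega]
  have hRN : Commute N R := Commute.sum_right _ _ _ fun i _ => ((Commute.refl N).pow_right _).smul_right _
  have hnilM : IsNilpotent (-(N * R)) := (hRN.isNilpotent_mul_right ⟨n, hnil⟩).neg
  refine ⟨a, ?_⟩
  classical
  let b := Module.finBasisOfFinrankEq F V hV
  have h2 : LinearMap.toMatrix b b h = Matrix.scalar (Fin n) a - LinearMap.toMatrix b b (-(N * R)) := by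
    rw [hhR, map_add, map_neg, sub_neg_eq_add, Algebra.algebraMap_eq_smul_one, map_smul, LinearMap.toMatrix_one,
      Matrix.scalar_apply, Matrix.smul_one_eq_diagonal]
  rw [hgh, ← LinearMap.det_toMatrix b, h2, ← Matrix.eval_charpoly, LinearMap.charpoly_toMatrix,
    hnilM.charpoly_eq_X_pow_finrank, Polynomial.eval_pow, Polynomial.eval_X, hV]

theorem shift_pow_single {n : ℕ} (j : Fin n) : ∀ k : ℕ,
    ((Matrix.mulVecLin (shift F n)) ^ k) (Pi.single j 1) =
      if h : (j : ℕ) + k < n then Pi.single ⟨(j : ℕ) + k, h⟩ 1 else 0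
  | 0 => by simp
  | k + 1 => by
    rw [pow_succ', Module.End.mul_apply, shift_pow_single j k]
    split_ifs with h1 h2
    · rw [Matrix.mulVecLin_apply, shift_single, dif_pos (by simpa [add_assoc] using h2)]
      simp [add_assoc]
    · rw [Matrix.mulVecLin_apply, shift_single, dif_neg (by simpa [add_assoc] using h2)]
    · omega
    · exact map_zero _

theorem shift_nil (n : ℕ) : (shift F n) ^ n = 0 := by
  apply Matrix.toLinAlgEquiv'.injective
  rw [map_pow, map_zero]
  refine LinearMap.pi_ext' fun j => LinearMap.ext_ring ?_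
  show ((Matrix.mulVecLin (shift F n)) ^ n) (Pi.single j 1) = 0
  rw [shift_pow_single, dif_neg (by omega)]

theorem shift_rank {n : ℕ} (hn : 1 ≤ n) : (shift F n).rank = n - 1 := by
  classical
  have hK : LinearMap.ker (shift F n).mulVecLin = F ∙ (Pi.single (⟨n - 1, by omega⟩ : Fin n) (1 : F)) := by
    refine le_antisymm (fun v hv => ?_) ((Submodule.span_singleton_le_iff_mem _ _).2 ?_)
    · refine Submodule.mem_span_singleton.2 ⟨v ⟨n - 1, by omega⟩, funext fun i => ?_⟩
      by_cases hi : (i : ℕ) + 1 < n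
      · have h1 := congrFun (LinearMap.mem_ker.1 hv) ⟨(i : ℕ) + 1, hi⟩
        simp [Matrix.mulVec, dotProduct, shift, ← Fin.ext_iff] at h1
        have : i ≠ ⟨n - 1, by omega⟩ := fun h => by rw [h] at hi; simp at hi; omega
        simp [this, h1]
      · have : i = ⟨n - 1, by omega⟩ := Fin.ext (by simp; omega)
        simp [this]
    · rw [LinearMap.mem_ker, Matrix.mulVecLin_apply, shift_single, dif_neg (by simp; omega)]
  have h1 := (shift F n).mulVecLin.finrank_range_add_finrank_ker
  rw [hK, finrank_span_singleton (by simp), Module.finrank_fin_fun] at h1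
  show Module.finrank F (LinearMap.range (shift F n).mulVecLin) = n - 1
  omega

theorem exists_conj_shift {n : ℕ} (hn : 1 ≤ n) (M : Matrix (Fin n) (Fin n) F) (hnil : M ^ n = 0)
    (hrank : M.rank = n - 1) : ∃ P : GL (Fin n) F, (P : Matrix (Fin n) (Fin n) F) * shift F n = M * P := by
  classical
  set N := Matrix.mulVecLin M
  have hN : N ^ n = 0 := by
    show (Matrix.toLinAlgEquiv' M) ^ n = 0
    rw [← map_pow, hnil, map_zero]
  have hker : Module.finrank F (LinearMap.ker N) ≤ 1 := by
    have h1 := N.finrank_range_add_finrank_ker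
    have h2 : Module.finrank F (LinearMap.range N) = n - 1 := hrank
    rw [Module.finrank_fin_fun] at h1
    omega
  obtain ⟨v, hv⟩ : ∃ v, (N ^ (n - 1)) v ≠ 0 := by
    by_contra hcon
    push Not at hcon
    have h1 := TransvGL.finrank_ker_pow_le hker (n - 1)
    rw [show LinearMap.ker (N ^ (n - 1)) = ⊤ from eq_top_iff.2 fun v _ => hcon v, finrank_top,
      Module.finrank_fin_fun] at h1
    omega
  obtain ⟨Φ, hΦ⟩ := TransvGL.exists_cyclic (Module.finrank_fin_fun F) hN hv
  have hΦ1 : ∀ j : Fin n, Φ (Pi.single j 1) = (N ^ (j : ℕ)) v := by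
    intro j
    rw [hΦ, Finset.sum_eq_single j (fun i _ hi => by simp [hi]) (by simp)]
    simp
  refine ⟨Matrix.GeneralLinearGroup.mk'' (LinearMap.toMatrix' (Φ : (Fin n → F) →ₗ[F] _))
    (Matrix.isUnit_det_of_right_inverse (B := LinearMap.toMatrix' (Φ.symm : (Fin n → F) →ₗ[F] _)) (by
      rw [← LinearMap.toMatrix'_comp, Φ.comp_symm, LinearMap.toMatrix'_id])), ?_⟩
  show LinearMap.toMatrix' (Φ : (Fin n → F) →ₗ[F] _) * shift F n = M * LinearMap.toMatrix' (Φ : (Fin n → F) →ₗ[F] _)
  apply Matrix.ext_of_mulVec_single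
  intro j
  rw [← Matrix.mulVec_mulVec, ← Matrix.mulVec_mulVec, LinearMap.toMatrix'_mulVec, LinearMap.toMatrix'_mulVec,
    shift_single, LinearEquiv.coe_coe, hΦ1]
  show _ = N ((N ^ (j : ℕ)) v)
  rw [← Module.End.mul_apply, ← pow_succ']
  split_ifs with h
  · rw [hΦ1]
  · rw [map_zero, pow_eq_zero_of_le (not_lt.1 h) hN, LinearMap.zero_apply]

theorem det_eq_pow {n : ℕ} (hn : 1 ≤ n) {M : Matrix (Fin n) (Fin n) F} (h : M * shift F n = shift F n * M) :
    ∃ a : F, M.det = a ^ n := by
  obtain ⟨a, ha⟩ := exists_det_pow (N := Matrix.toLinAlgEquiv' (shift F n)) (v := Pi.single ⟨0, hn⟩ 1)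
    (g := Matrix.toLinAlgEquiv' M) (Module.finrank_fin_fun F) hn (by rw [← map_pow, shift_nil, map_zero])
    (by
      show ((Matrix.mulVecLin (shift F n)) ^ (n - 1)) _ ≠ 0
      rw [shift_pow_single, dif_pos (by simp; omega)]
      simp)
    (by rw [commute_iff_eq, ← map_mul, ← map_mul, h])
  exact ⟨a, by rw [← ha]; exact (LinearMap.det_toLin' M).symm⟩


/-- Regular unipotent classes of SL_n(q): for n ≥ 2 over the field with q elements, the matrices u of determinant one with (u − 1)^n = 0 and rank(u − 1) = n − 1 form a single GL_n(q)-class which splits into exactly gcd(n, q − 1) conjugacy classes of SL_n(q). -/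
theorem result {F : Type*} [Field F] [Fintype F] {q : ℕ} (hF : Fintype.card F = q) {n : ℕ} (hn : 2 ≤ n) : Nat.card {C : ConjClasses (Matrix.SpecialLinearGroup (Fin n) F) // ∃ u : Matrix.SpecialLinearGroup (Fin n) F, ConjClasses.mk u = C ∧ ((u : Matrix (Fin n) (Fin n) F) - 1) ^ n = 0 ∧ ((u : Matrix (Fin n) (Fin n) F) - 1).rank = n - 1} = Nat.gcd n (q - 1) := by
  classical
  subst hF
  have hn1 : 1 ≤ n := by omega
  have hu0det : (1 + shift F n).det = 1 := by
    rw [Matrix.det_of_lowerTriangular]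
    · simp [shift]
    · intro i j hij
      have : (i : ℕ) < j := hij
      have h2 : (i : ℕ) ≠ (j : ℕ) + 1 := by omega
      have h3 : i ≠ j := fun e => by subst e; omega
      simp [shift, h2, h3]
  let u₀ : GL (Fin n) F := Matrix.GeneralLinearGroup.mk'' (1 + shift F n) (by rw [hu0det]; exact isUnit_one)
  let z : Fin n := ⟨0, hn1⟩
  let D : Fˣ → GL (Fin n) F := fun d => Matrix.GeneralLinearGroup.mk''
    (Matrix.diagonal (Function.update (fun _ => (1 : F)) z d)) (by simp [Matrix.det_diagonal, Finset.prod_update_of_mem])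
  have hD : ∀ d : Fˣ, (D d : Matrix (Fin n) (Fin n) F).det = d := fun d => by
    show (Matrix.diagonal _).det = _
    simp [Matrix.det_diagonal, Finset.prod_update_of_mem]
  have hdinv : ∀ g : GL (Fin n) F, (g : Matrix (Fin n) (Fin n) F).det * (↑g⁻¹ : Matrix (Fin n) (Fin n) F).det = 1 :=
    fun g => by rw [← Matrix.det_mul, ← Units.val_mul, mul_inv_cancel, Units.val_one, Matrix.det_one]
  have hw : ∀ d : Fˣ, ((D d * u₀ * (D d)⁻¹ : GL (Fin n) F) : Matrix (Fin n) (Fin n) F).det = 1 := fun d => by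
    rw [Units.val_mul, Units.val_mul, Matrix.det_mul, Matrix.det_mul, mul_right_comm, hdinv, one_mul]
    exact hu0det
  let w : Fˣ → Matrix.SpecialLinearGroup (Fin n) F := fun d => ⟨_, hw d⟩
  have hwm : ∀ d, ((w d : Matrix (Fin n) (Fin n) F) - 1) =
      (D d : Matrix (Fin n) (Fin n) F) * shift F n * (↑(D d)⁻¹ : Matrix (Fin n) (Fin n) F) := fun d => by
    show (D d : Matrix (Fin n) (Fin n) F) * (1 + shift F n) * (↑(D d)⁻¹ : Matrix (Fin n) (Fin n) F) - 1 = _
    rw [mul_add, mul_one, add_mul, Units.mul_inv, add_sub_cancel_left]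
  let P := fun C : ConjClasses (Matrix.SpecialLinearGroup (Fin n) F) => ∃ u : Matrix.SpecialLinearGroup (Fin n) F,
    ConjClasses.mk u = C ∧ ((u : Matrix (Fin n) (Fin n) F) - 1) ^ n = 0 ∧ ((u : Matrix (Fin n) (Fin n) F) - 1).rank = n - 1
  have hwP : ∀ d, P (ConjClasses.mk (w d)) := fun d => ⟨w d, rfl, by
    rw [hwm, Units.conj_pow, shift_nil, mul_zero, zero_mul], by
    rw [hwm, Matrix.rank_mul_eq_left_of_isUnit_det _ _ ((Matrix.isUnit_iff_isUnit_det _).1 (D d)⁻¹.isUnit),
      Matrix.rank_mul_eq_right_of_isUnit_det _ _ ((Matrix.isUnit_iff_isUnit_det _).1 (D d).isUnit), shift_rank hn1]⟩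
  let R : Subgroup Fˣ := (powMonoidHom n : Fˣ →* Fˣ).range
  have hiff : ∀ d d' : Fˣ, IsConj (w d) (w d') ↔ d⁻¹ * d' ∈ R := by
    intro d d'
    rw [isConj_iff]
    constructor
    · rintro ⟨h, hh⟩
      rw [mul_inv_eq_iff_eq_mul] at hh
      have hh' : (Matrix.SpecialLinearGroup.toGL h) * (D d * u₀ * (D d)⁻¹) =
          (D d' * u₀ * (D d')⁻¹) * Matrix.SpecialLinearGroup.toGL h :=
        Units.ext (congrArg Subtype.val hh)
      set H := (D d')⁻¹ * Matrix.SpecialLinearGroup.toGL h * D d with hH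
      have hc : H * u₀ = u₀ * H := by
        calc H * u₀ = (D d')⁻¹ * (Matrix.SpecialLinearGroup.toGL h * (D d * u₀ * (D d)⁻¹)) * D d := by
              rw [hH]; group
          _ = u₀ * H := by rw [hh', hH]; group
      have hc' : (H : Matrix (Fin n) (Fin n) F) * shift F n = shift F n * H := by
        have := congrArg Units.val hc
        simp only [Units.val_mul] at this
        change (H : Matrix (Fin n) (Fin n) F) * (1 + shift F n) = (1 + shift F n) * H at this
        rwa [mul_add, add_mul, mul_one, one_mul, add_right_inj] at this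
      obtain ⟨a, ha⟩ := det_eq_pow hn1 hc'
      have hHdet : (H : Matrix (Fin n) (Fin n) F).det = (d'⁻¹ * d : Fˣ) := by
        have h1 := hdinv (D d')
        rw [hD] at h1
        have hh1 : (Matrix.SpecialLinearGroup.toGL h : Matrix (Fin n) (Fin n) F).det = 1 := h.2
        rw [hH, Units.val_mul, Units.val_mul, Matrix.det_mul, Matrix.det_mul, hD, hh1, mul_one,
          Units.val_mul, eq_comm]
        congr 1
        rw [Units.val_inv_eq_inv_val, eq_comm]
        exact eq_inv_of_mul_eq_one_right h1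
      have ha0 : a ≠ 0 := fun h0 => (d'⁻¹ * d : Fˣ).ne_zero (by rw [← hHdet, ha, h0, zero_pow (by omega)])
      refine (Subgroup.inv_mem_iff R).1 ⟨Units.mk0 a ha0, Units.ext ?_⟩
      rw [_root_.mul_inv_rev, inv_inv, powMonoidHom_apply, Units.val_pow_eq_pow_val, Units.val_mk0, ← ha, hHdet]
    · rintro ⟨t, ht⟩
      let T : GL (Fin n) F := Units.map (Matrix.scalar (Fin n)).toMonoidHom t⁻¹
      have hT : ∀ g : GL (Fin n) F, T * g = g * T := fun g => Units.ext
        (Matrix.scalar_commute _ (fun r => Commute.all _ r) _).eq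
      set H := D d' * T * (D d)⁻¹ with hH
      have hHd : (H : Matrix (Fin n) (Fin n) F).det = 1 := by
        have h1 := hdinv (D d)
        rw [hD] at h1
        have hT' : (T : Matrix (Fin n) (Fin n) F).det = ((t⁻¹ : Fˣ) : F) ^ n := by
          show (Matrix.scalar (Fin n) ((t⁻¹ : Fˣ) : F)).det = _
          simp [Matrix.det_diagonal]
        rw [hH, Units.val_mul, Units.val_mul, Matrix.det_mul, Matrix.det_mul, hD, hT',
          eq_inv_of_mul_eq_one_right h1, ← Units.val_inv_eq_inv_val, ← Units.val_pow_eq_pow_val, ← Units.val_mul,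
          ← Units.val_mul, ← Units.val_one, inv_pow, show t ^ n = d⁻¹ * d' from ht, _root_.mul_inv_rev, inv_inv,
          ← mul_assoc, mul_inv_cancel, one_mul, mul_inv_cancel]
      refine ⟨(⟨_, hHd⟩ : Matrix.SpecialLinearGroup (Fin n) F), ?_⟩
      refine mul_inv_eq_iff_eq_mul.2 ?_
      refine Subtype.ext (congrArg Units.val (?_ : H * (D d * u₀ * (D d)⁻¹) = D d' * u₀ * (D d')⁻¹ * H))
      rw [hH]
      calc D d' * T * (D d)⁻¹ * (D d * u₀ * (D d)⁻¹) = D d' * (T * u₀) * (D d)⁻¹ := by group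
        _ = _ := by rw [hT u₀]; group
  let ψ : Fˣ ⧸ R → {C // P C} := Quotient.lift (fun d => ⟨ConjClasses.mk (w d), hwP d⟩) fun a b hab =>
    Subtype.ext (ConjClasses.mk_eq_mk_iff_isConj.2 ((hiff a b).2 (QuotientGroup.leftRel_apply.1 hab)))
  have hψ : Function.Bijective ψ := by
    constructor
    · intro x y
      induction x using QuotientGroup.induction_on with
      | H a =>
        induction y using QuotientGroup.induction_on with
        | H b => exact fun h => QuotientGroup.eq.2 ((hiff a b).1 (ConjClasses.mk_eq_mk_iff_isConj.1 (congrArg Subtype.val h)))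
    · rintro ⟨C, u, rfl, hnil, hrank⟩
      obtain ⟨Q, hQ⟩ := exists_conj_shift hn1 _ hnil hrank
      let d : Fˣ := Units.mk0 (Q : Matrix (Fin n) (Fin n) F).det ((Matrix.isUnit_iff_isUnit_det _).1 Q.isUnit).ne_zero
      refine ⟨QuotientGroup.mk d, Subtype.ext (ConjClasses.mk_eq_mk_iff_isConj.2 (isConj_iff.2 ?_))⟩
      set H := Q * (D d)⁻¹ with hH
      have hHd : (H : Matrix (Fin n) (Fin n) F).det = 1 := by
        have h1 := hdinv (D d)
        rw [hD] at h1
        rw [hH, Units.val_mul, Matrix.det_mul]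
        exact h1
      refine ⟨(⟨_, hHd⟩ : Matrix.SpecialLinearGroup (Fin n) F), ?_⟩
      refine mul_inv_eq_iff_eq_mul.2 ?_
      have hu : Q * u₀ = Matrix.SpecialLinearGroup.toGL u * Q := Units.ext (by
        show (Q : Matrix (Fin n) (Fin n) F) * (1 + shift F n) = (u : Matrix (Fin n) (Fin n) F) * Q
        rw [mul_add, mul_one, hQ, sub_mul, one_mul, add_sub_cancel])
      refine Subtype.ext (congrArg Units.val (?_ : H * (D d * u₀ * (D d)⁻¹) = Matrix.SpecialLinearGroup.toGL u * H))
      rw [hH, ← mul_assoc (Matrix.SpecialLinearGroup.toGL u), ← hu]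
      group
  rw [← Nat.card_congr (Equiv.ofBijective ψ hψ), ← Subgroup.index_eq_card, IsCyclic.index_powMonoidHom_range,
    Nat.card_units, Nat.card_eq_fintype_card, Nat.gcd_comm]

end Cfsg.Agent.S2578
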