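import Cfsg.Statements.S2581
import Cfsg.Agent.Lib.GLUnipotent.JordanType
import Mathlib.LinearAlgebra.Matrix.GeneralLinearGroup.Card

set_option autoImplicit false
open Cfsg

namespace Cfsg.Agent.S2581


open scoped Matrix
open Cfsg.Agent.JordanType

variable {F : Type*} [Field F] {t : ℕ} {d : Fin t → ℕ}

/-- Free entries of the first columns of a commuting matrix. -/
abbrev adm (d : Fin t → ℕ) (p : Idx d × Fin t) : Prop := d p.1.1 ≤ (p.1.2 : ℕ) + d p.2

/-- Leading entries. -/
abbrev lead (d : Fin t → ℕ) (p : Idx d × Fin t) : Prop := d p.1.1 = d p.2 ∧ (p.1.2 : ℕ) = 0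

/-- The commuting matrix with given first columns. -/
def ofCols (c : Idx d × Fin t → F) : Matrix (Idx d) (Idx d) F := fun a b =>
  if h : (b.2 : ℕ) ≤ a.2 then c (⟨a.1, ⟨a.2 - b.2, by omega⟩⟩, b.1) else 0

theorem shift_mul (X : Matrix (Idx d) (Idx d) F) (a b : Idx d) : (shift F d * X) a b =
    if (a.2 : ℕ) = 0 then 0 else X ⟨a.1, ⟨a.2 - 1, by omega⟩⟩ b := by
  rw [Matrix.mul_apply]
  split_ifs with h
  · refine Finset.sum_eq_zero fun c _ => ?_
    rw [shift_apply, if_neg, zero_mul]
    rintro ⟨-, e⟩; omega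
  · rw [Finset.sum_eq_single (⟨a.1, ⟨a.2 - 1, by omega⟩⟩ : Idx d)]
    · rw [shift_apply, if_pos ⟨rfl, by show (a.2 : ℕ) = a.2 - 1 + 1; omega⟩, one_mul]
    · intro c _ hc
      rw [shift_apply, if_neg, zero_mul]
      rintro ⟨e1, e2⟩
      obtain ⟨k, i⟩ := c
      change a.1 = k at e1
      subst e1
      change (a.2 : ℕ) = i + 1 at e2
      exact hc (congrArg (Sigma.mk _) (Fin.ext (show (i : ℕ) = a.2 - 1 by omega)))
    · simp

theorem mul_shift (X : Matrix (Idx d) (Idx d) F) (a b : Idx d) : (X * shift F d) a b =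
    if h : (b.2 : ℕ) + 1 < d b.1 then X a ⟨b.1, ⟨b.2 + 1, h⟩⟩ else 0 := by
  rw [Matrix.mul_apply]
  split_ifs with h
  · rw [Finset.sum_eq_single (⟨b.1, ⟨b.2 + 1, h⟩⟩ : Idx d)]
    · rw [shift_apply, if_pos ⟨rfl, rfl⟩, mul_one]
    · intro c _ hc
      rw [shift_apply, if_neg, mul_zero]
      rintro ⟨e1, e2⟩
      obtain ⟨k, i⟩ := c
      change k = b.1 at e1
      subst e1
      exact hc (congrArg (Sigma.mk _) (Fin.ext e2))
    · simp
  · refine Finset.sum_eq_zero fun c _ => ?_
    rw [shift_apply, if_neg, mul_zero]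
    rintro ⟨e1, e2⟩
    have h1 : (c.2 : ℕ) < d b.1 := e1 ▸ c.2.2
    omega

theorem ofCols_commute {c : Idx d × Fin t → F} (hc : ∀ p, ¬ adm d p → c p = 0) :
    Commute (shift F d) (ofCols c) := by
  ext a b
  rw [shift_mul, mul_shift]
  simp only [ofCols]
  split_ifs <;> (try rfl) <;> (try omega)
  all_goals first
    | (refine congrArg c (Prod.ext (congrArg (Sigma.mk _) (Fin.ext ?_)) rfl); simp only; omega)
    | (refine hc _ ?_; simp only [adm]; omega)
    | (refine (hc _ ?_).symm; simp only [adm]; omega)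

variable (hd : ∀ k, 1 ≤ d k)

include hd in
/-- A commuting matrix is determined by its first columns. -/
theorem apply_of_commute {X : Matrix (Idx d) (Idx d) F} (hX : Commute (shift F d) X) :
    ∀ (j : ℕ) (a b : Idx d), (b.2 : ℕ) = j → X a b =
      if h : (b.2 : ℕ) ≤ a.2 then X ⟨a.1, ⟨a.2 - b.2, by omega⟩⟩ ⟨b.1, ⟨0, hd b.1⟩⟩ else 0 := by
  intro j
  induction j with
  | zero =>
    intro a b hb
    rw [dif_pos (by omega)]
    obtain ⟨k, i⟩ := a
    obtain ⟨l, m⟩ := b
    change (m : ℕ) = 0 at hb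
    have hm : m = ⟨0, hd l⟩ := Fin.ext hb
    subst hm
    rfl
  | succ j ih =>
    intro a b hb
    have hlt : j + 1 < d b.1 := hb ▸ b.2.2
    have h := congrFun (congrFun hX a) (⟨b.1, ⟨j, by omega⟩⟩ : Idx d)
    rw [shift_mul, mul_shift, dif_pos (show (j + 1 < d b.1) from hlt)] at h
    have hbe : b = ⟨b.1, ⟨j + 1, hlt⟩⟩ := by
      obtain ⟨l, m⟩ := b
      exact congrArg (Sigma.mk _) (Fin.ext hb)
    conv_lhs => rw [hbe]
    refine h.symm.trans ?_
    by_cases ha : (a.2 : ℕ) = 0
    · rw [if_pos ha, dif_neg (by omega)]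
    · rw [if_neg ha, ih _ _ rfl]
      split_ifs with h1 h2 h3
      · congr 2
        exact Fin.ext (by dsimp only; omega)
      · exfalso; dsimp only at h1; omega
      · exfalso; dsimp only at h1; omega
      · rfl

include hd in
theorem adm_of_commute {X : Matrix (Idx d) (Idx d) F} (hX : Commute (shift F d) X) (p : Idx d × Fin t)
    (hp : ¬ adm d p) : X p.1 ⟨p.2, ⟨0, hd p.2⟩⟩ = 0 := by
  obtain ⟨⟨l, i⟩, k⟩ := p
  show X ⟨l, i⟩ ⟨k, ⟨0, hd k⟩⟩ = 0
  have hlt : (i : ℕ) + d k < d l := not_le.1 hp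
  have hk := hd k
  have h := congrFun (congrFun hX ⟨l, ⟨i + d k, hlt⟩⟩) (⟨k, ⟨d k - 1, by omega⟩⟩ : Idx d)
  rw [shift_mul, mul_shift, if_neg (by simp only; omega), dif_neg (by simp only; omega),
    apply_of_commute hd hX _ _ _ rfl, dif_pos (by simp only; omega)] at h
  refine Eq.trans (congrFun (congrArg X ?_) _) h
  exact congrArg (Sigma.mk _) (Fin.ext (by simp only; omega))

variable (d)

/-- Blocks of equal size. -/
abbrev KB (i : Fin (Finset.univ.sup d + 1)) := {k : Fin t // d k = i}

variable {d}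

/-- The size index of a block. -/
abbrev idx (k : Fin t) : Fin (Finset.univ.sup d + 1) :=
  ⟨d k, Nat.lt_succ_of_le (Finset.le_sup (Finset.mem_univ k))⟩

/-- The leading part. -/
def proj (X : Matrix (Idx d) (Idx d) F) (i : Fin (Finset.univ.sup d + 1)) : Matrix (KB d i) (KB d i) F :=
  fun l k => X ⟨l.1, ⟨0, hd l.1⟩⟩ ⟨k.1, ⟨0, hd k.1⟩⟩

include hd in
theorem proj_mul {X Y : Matrix (Idx d) (Idx d) F} (hX : Commute (shift F d) X) (hY : Commute (shift F d) Y)
    (i : Fin (Finset.univ.sup d + 1)) : proj hd (X * Y) i = proj hd X i * proj hd Y i := by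
  classical
  ext l k
  show (X * Y) _ _ = _
  rw [Matrix.mul_apply, Matrix.mul_apply]
  refine (Fintype.sum_of_injective (fun m : KB d i => (⟨m.1, ⟨0, hd m.1⟩⟩ : Idx d))
    (fun m m' e => Subtype.ext (congrArg Sigma.fst e)) _ _ ?_ (fun _ => rfl)).symm
  intro a ha
  by_cases h0 : (a.2 : ℕ) = 0
  · obtain ⟨m, j⟩ := a
    change (j : ℕ) = 0 at h0
    have hj : j = ⟨0, hd m⟩ := Fin.ext h0
    subst hj
    have hm : d m ≠ i := fun e => ha ⟨⟨m, e⟩, rfl⟩
    rcases lt_or_gt_of_ne hm with h | h
    · rw [adm_of_commute hd hX (⟨l.1, ⟨0, hd l.1⟩⟩, m) (by simp only [adm]; have := l.2; omega), zero_mul]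
    · rw [adm_of_commute hd hY (⟨m, ⟨0, hd m⟩⟩, k.1) (by simp only [adm]; have := k.2; omega), mul_zero]
  · rw [apply_of_commute hd hX _ _ a rfl, dif_neg (by simp only; omega), zero_mul]

include hd in
theorem proj_one (i : Fin (Finset.univ.sup d + 1)) : proj hd (1 : Matrix (Idx d) (Idx d) F) i = 1 := by
  ext l k
  show (1 : Matrix (Idx d) (Idx d) F) _ _ = _
  rw [Matrix.one_apply, Matrix.one_apply]
  refine if_congr ⟨fun e => Subtype.ext (congrArg Sigma.fst e), fun e => by rw [e]⟩ rfl rfl

include hd in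
theorem isUnit_of_proj {X : Matrix (Idx d) (Idx d) F} (hX : Commute (shift F d) X)
    (h : ∀ i, IsUnit (proj hd X i)) : IsUnit X := by
  classical
  rw [← Matrix.mulVec_injective_iff_isUnit]
  suffices key : ∀ c, X *ᵥ c = 0 → c = 0 by
    intro u v huv
    exact sub_eq_zero.1 (key _ (by rw [Matrix.mulVec_sub, huv, sub_self]))
  intro c hc
  by_contra hc0
  obtain ⟨m, hm⟩ : ∃ m, shift F d ^ m = 0 := ⟨Finset.univ.sup d, by
    ext a b
    rw [shift_pow_apply, if_neg, Matrix.zero_apply]
    rintro ⟨-, e⟩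
    have := Finset.le_sup (f := d) (Finset.mem_univ a.1)
    omega⟩
  obtain ⟨r, hr, hr'⟩ : ∃ r, shift F d ^ r *ᵥ c ≠ 0 ∧ shift F d ^ (r + 1) *ᵥ c = 0 := by
    by_contra hne
    push Not at hne
    have hall : ∀ r, shift F d ^ r *ᵥ c ≠ 0 := by
      intro r
      induction r with
      | zero => simpa using hc0
      | succ r ih => exact hne r ih
    exact hall m (by rw [hm, Matrix.zero_mulVec])
  set v := shift F d ^ r *ᵥ c
  have hXv : X *ᵥ v = 0 := by
    rw [Matrix.mulVec_mulVec, ← (hX.pow_left r).eq, ← Matrix.mulVec_mulVec, hc, Matrix.mulVec_zero]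
  have hNv : shift F d *ᵥ v = 0 := by rw [Matrix.mulVec_mulVec, ← pow_succ']; exact hr'
  have hsupp : ∀ a : Idx d, (a.2 : ℕ) + 1 < d a.1 → v a = 0 := by
    intro a ha
    have h1 := congrFun hNv (⟨a.1, ⟨a.2 + 1, ha⟩⟩ : Idx d)
    rw [Matrix.mulVec, dotProduct, Finset.sum_eq_single a] at h1
    · simpa [shift_apply] using h1
    · intro b _ hb
      rw [shift_apply, if_neg, zero_mul]
      rintro ⟨e1, e2⟩
      obtain ⟨k, i⟩ := b
      change a.1 = k at e1
      subst e1
      change (a.2 : ℕ) + 1 = i + 1 at e2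
      exact hb (congrArg (Sigma.mk _) (Fin.ext (show (i : ℕ) = a.2 by omega)))
    · simp
  let w : Fin t → F := fun k => v ⟨k, ⟨d k - 1, by have := hd k; omega⟩⟩
  suffices hw : ∀ n k, d k = n → w k = 0 by
    refine hr (funext fun a => ?_)
    by_cases ha : (a.2 : ℕ) + 1 < d a.1
    · exact hsupp a ha
    · obtain ⟨k, i⟩ := a
      change ¬ (i : ℕ) + 1 < d k at ha
      have hi : i = ⟨d k - 1, by have := hd k; omega⟩ := Fin.ext (by have := i.2; simp only; omega)
      rw [hi]
      exact hw _ k rfl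
  intro n
  induction n using Nat.strong_induction_on with
  | _ n ih =>
    intro k hk
    subst hk
    have h0 : proj hd X (idx k) *ᵥ (fun m : KB d (idx k) => w m.1) = 0 := by
      funext l
      have h1 := congrFun hXv (⟨l.1, ⟨d l.1 - 1, by have := hd l.1; omega⟩⟩ : Idx d)
      refine Eq.trans ?_ h1
      rw [Matrix.mulVec, dotProduct, Matrix.mulVec, dotProduct]
      refine Fintype.sum_of_injective
        (fun m : KB d (idx k) => (⟨m.1, ⟨d m.1 - 1, by have := hd m.1; omega⟩⟩ : Idx d))
        (fun m m' e => Subtype.ext (congrArg Sigma.fst e)) _ _ ?_ ?_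
      · intro a ha
        by_cases hlt : (a.2 : ℕ) + 1 < d a.1
        · rw [hsupp a hlt, mul_zero]
        obtain ⟨m, j⟩ := a
        change ¬ (j : ℕ) + 1 < d m at hlt
        have hj : j = ⟨d m - 1, by have := hd m; omega⟩ := Fin.ext (by have := j.2; simp only; omega)
        rw [hj] at ha ⊢
        have hml : d m ≠ d k := fun e => ha ⟨⟨m, e⟩, rfl⟩
        rcases lt_or_gt_of_ne hml with h' | h'
        · rw [show v _ = w m from rfl, ih _ h' m rfl, mul_zero]
        · rw [apply_of_commute hd hX _ _ _ rfl, dif_neg, zero_mul]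
          have : d l.1 = d k := l.2
          have := hd l.1
          simp only
          omega
      · intro m
        show proj hd X (idx k) l m * w m.1 = X _ _ * w m.1
        have e1 : d l.1 = d k := l.2
        have e2 : d m.1 = d k := m.2
        rw [apply_of_commute hd hX _ ⟨l.1, ⟨d l.1 - 1, _⟩⟩ ⟨m.1, ⟨d m.1 - 1, _⟩⟩ rfl,
          dif_pos (by simp only; omega)]
        congr 1
        show X _ _ = X _ _
        congr 2
        exact Fin.ext (by simp only; omega)
    have := (Matrix.mulVec_injective_iff_isUnit.2 (h (idx k))) (h0.trans (Matrix.mulVec_zero _).symm)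
    exact congrFun this ⟨k, rfl⟩

theorem commute_iff (g : Matrix (Idx d) (Idx d) F) :
    g * Cfsg.jordanTypeMatrix d F = Cfsg.jordanTypeMatrix d F * g ↔ Commute (shift F d) g := by
  rw [shift]
  constructor
  · intro h
    exact ((show Commute (Cfsg.jordanTypeMatrix d F) g from h.symm).sub_left (Commute.one_left g))
  · intro h
    have := h.add_left (Commute.one_left g)
    rw [sub_add_cancel] at this
    exact this.symm.eq

variable (d) in
/-- Non-leading free entries. -/
abbrev Rest := {p : Idx d × Fin t // adm d p ∧ ¬ lead d p}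

/-- First columns from the parameters. -/
def cols (r : Rest d → F) (G : ∀ i, GL (KB d i) F) (p : Idx d × Fin t) : F :=
  if h : lead d p then (G (idx p.2) : Matrix (KB d (idx p.2)) (KB d (idx p.2)) F) ⟨p.1.1, h.1⟩ ⟨p.2, rfl⟩
  else if h' : adm d p then r ⟨p, h', h⟩ else 0

theorem cols_adm (r : Rest d → F) (G : ∀ i, GL (KB d i) F) (p : Idx d × Fin t) (hp : ¬ adm d p) :
    cols r G p = 0 := by
  rw [cols, dif_neg, dif_neg hp]
  rintro ⟨h1, h2⟩
  exact hp (by simp only [adm]; omega)

theorem proj_cols (r : Rest d → F) (G : ∀ i, GL (KB d i) F) (i : Fin (Finset.univ.sup d + 1)) :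
    proj hd (ofCols (cols r G)) i = (G i : Matrix (KB d i) (KB d i) F) := by
  ext l k
  show ofCols (cols r G) _ _ = _
  rw [ofCols, dif_pos (by simp)]
  obtain ⟨k, hk⟩ := k
  obtain ⟨i, hi⟩ := i
  change d k = i at hk
  subst hk
  rw [cols, dif_pos ⟨l.2, by simp⟩]

/-- The centraliser parametrised. -/
noncomputable def paramEquiv :
    {g : GL (Idx d) F // (g : Matrix (Idx d) (Idx d) F) * Cfsg.jordanTypeMatrix d F =
      Cfsg.jordanTypeMatrix d F * (g : Matrix (Idx d) (Idx d) F)} ≃
    (Rest d → F) × (∀ i, GL (KB d i) F) where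
  toFun g := (fun p => (g.1 : Matrix (Idx d) (Idx d) F) p.1.1 ⟨p.1.2, ⟨0, hd p.1.2⟩⟩, fun i =>
    ⟨proj hd g.1 i, proj hd (g.1⁻¹ : GL (Idx d) F) i, by
      rw [← proj_mul hd ((commute_iff _).1 g.2) (Commute.units_inv_right ((commute_iff _).1 g.2)),
        ← Units.val_mul, mul_inv_cancel, Units.val_one, proj_one hd], by
      rw [← proj_mul hd (Commute.units_inv_right ((commute_iff _).1 g.2)) ((commute_iff _).1 g.2),
        ← Units.val_mul, inv_mul_cancel, Units.val_one, proj_one hd]⟩)
  invFun x := ⟨(isUnit_of_proj hd (ofCols_commute (cols_adm x.1 x.2))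
      (fun i => by rw [proj_cols hd]; exact Units.isUnit _)).unit,
    (commute_iff _).2 (by rw [IsUnit.unit_spec]; exact ofCols_commute (cols_adm x.1 x.2))⟩
  left_inv g := by
    refine Subtype.ext (Units.ext ?_)
    rw [IsUnit.unit_spec]
    ext a b
    rw [apply_of_commute hd ((commute_iff _).1 g.2) _ a b rfl, ofCols]
    split_ifs with hab
    · generalize ha : (⟨a.1, ⟨a.2 - b.2, by omega⟩⟩ : Idx d) = a'
      unfold cols
      split_ifs with h1 h2
      · obtain ⟨k, i⟩ := a'
        have hi : i = ⟨0, hd k⟩ := Fin.ext h1.2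
        subst hi
        rfl
      · rfl
      · exact (adm_of_commute hd ((commute_iff _).1 g.2) (a', b.1) h2).symm
    · rfl
  right_inv x := by
    refine Prod.ext (funext fun p => ?_) (funext fun i => Units.ext ?_)
    · show ofCols (cols x.1 x.2) p.1.1 ⟨p.1.2, ⟨0, hd p.1.2⟩⟩ = _
      rw [ofCols, dif_pos (by simp)]
      show cols x.1 x.2 p.1 = _
      rw [cols, dif_neg p.2.2, dif_pos p.2.1]
    · show proj hd (ofCols (cols x.1 x.2)) i = _
      rw [proj_cols hd]

theorem card_fin_filter (a b : ℕ) :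
    ((Finset.univ : Finset (Fin a)).filter fun i : Fin a => a ≤ i.1 + b).card = min a b := by
  rw [← Finset.card_range (min a b)]
  refine Finset.card_bij (fun i _ => a - 1 - i.1) ?_ ?_ ?_
  · intro i hi; simp only [Finset.mem_filter] at hi; simp only [Finset.mem_range]; omega
  · intro i hi j hj e; exact Fin.ext (by omega)
  · intro c hc
    simp only [Finset.mem_range] at hc
    exact ⟨⟨a - 1 - c, by omega⟩, by simp only [Finset.mem_filter, Finset.mem_univ, true_and]; omega,
      by simp only; omega⟩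

theorem sum_sym (s : Finset ℕ) (f : ℕ → ℕ → ℕ) (hf : ∀ i j, f i j = f j i) :
    ∑ i ∈ s, ∑ j ∈ s, f i j = 2 * (∑ i ∈ s, ∑ j ∈ s, if i < j then f i j else 0) + ∑ i ∈ s, f i i := by
  have h : ∀ i j, f i j = (if i < j then f i j else 0) + (if j < i then f j i else 0) +
      (if i = j then f i j else 0) := by
    intro i j
    rcases lt_trichotomy i j with h | h | h
    · simp [h, not_lt.2 h.le, h.ne]
    · simp [h]
    · simp [h, not_lt.2 h.le, h.ne', hf i j]
  conv_lhs => arg 2; ext i; arg 2; ext j; rw [h i j]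
  simp only [Finset.sum_add_distrib]
  rw [Finset.sum_comm (f := fun i j => if j < i then f j i else 0), two_mul]
  congr 1
  exact Finset.sum_congr rfl fun i hi => by rw [Finset.sum_ite_eq, if_pos hi]

/-- Order of the centraliser in GL of a unipotent matrix of given Jordan type over the field with q elements: if the type has a_i blocks of size i (all block sizes at least 1), the invertible matrices commuting with it number q^γ · Π_i |GL_(a_i)(q)| with γ = 2 Σ_(i<j) i a_i a_j + Σ_i (i − 1) a_i² (a group of order q^γ extended by Π GL_(a_i)(q)). -/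
theorem result {F : Type*} [Field F] [Fintype F] {q : ℕ} (hF : Fintype.card F = q) {t : ℕ} (d : Fin t → ℕ) (hd : ∀ k, 1 ≤ d k) : Nat.card {g : GL ((k : Fin t) × Fin (d k)) F // (g : Matrix ((k : Fin t) × Fin (d k)) ((k : Fin t) × Fin (d k)) F) * Cfsg.jordanTypeMatrix d F = Cfsg.jordanTypeMatrix d F * (g : Matrix ((k : Fin t) × Fin (d k)) ((k : Fin t) × Fin (d k)) F)} = q ^ (2 * (∑ i ∈ Finset.range (Finset.univ.sup d + 1), ∑ j ∈ Finset.range (Finset.univ.sup d + 1), if i < j then i * (Finset.univ.filter (fun k : Fin t => d k = i)).card * (Finset.univ.filter (fun k : Fin t => d k = j)).card else 0) + ∑ i ∈ Finset.range (Finset.univ.sup d + 1), (i - 1) * (Finset.univ.filter (fun k : Fin t => d k = i)).card ^ 2) * ∏ i ∈ Finset.range (Finset.univ.sup d + 1), ∏ j : Fin ((Finset.univ.filter (fun k : Fin t => d k = i)).card), (q ^ (Finset.univ.filter (fun k : Fin t => d k = i)).card - q ^ (j : ℕ)) := by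
  classical
  subst hF
  rw [Nat.card_congr (paramEquiv hd), Nat.card_prod, Nat.card_fun, Nat.card_eq_fintype_card (α := F),
    Nat.card_pi]
  set s := Finset.range (Finset.univ.sup d + 1) with hs
  set a : ℕ → ℕ := fun i => (Finset.univ.filter fun k : Fin t => d k = i).card with ha
  have hfib : ∀ g : ℕ → ℕ, ∑ k, g (d k) = ∑ i ∈ s, a i * g i := fun g => by
    rw [← Finset.sum_fiberwise_of_maps_to (g := d) (t := s) fun k _ => Finset.mem_range.2
      (Nat.lt_succ_of_le (Finset.le_sup (Finset.mem_univ k)))]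
    refine Finset.sum_congr rfl fun i _ => ?_
    rw [Finset.sum_congr rfl (g := fun _ => g i) fun k hk => by rw [(Finset.mem_filter.1 hk).2],
      Finset.sum_const, smul_eq_mul]
  congr 1
  · congr 1
    rw [Nat.card_eq_fintype_card, Fintype.card_subtype]
    have hadm : (Finset.univ.filter fun p => adm d p).card = ∑ i ∈ s, ∑ j ∈ s, min i j * a i * a j := by
      rw [Finset.card_filter, Fintype.sum_prod_type, Fintype.sum_sigma]
      refine (Finset.sum_congr rfl fun l _ => Finset.sum_comm).trans ?_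
      refine (Finset.sum_congr rfl (g := fun l => ∑ k, min (d l) (d k)) fun l _ =>
        Finset.sum_congr rfl fun k _ => ?_).trans ?_
      · rw [← Finset.card_filter]; exact card_fin_filter (d l) (d k)
      · rw [hfib (fun i => ∑ k, min i (d k))]
        refine Finset.sum_congr rfl fun i _ => ?_
        rw [hfib (fun j => min i j), Finset.mul_sum]
        exact Finset.sum_congr rfl fun j _ => by ring
    have hlead : (Finset.univ.filter fun p => lead d p).card = ∑ i ∈ s, a i * a i := by
      rw [Finset.card_filter, Fintype.sum_prod_type, Fintype.sum_sigma, ← hfib a]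
      refine Finset.sum_congr rfl fun l _ => ?_
      rw [Finset.sum_eq_single (⟨0, hd l⟩ : Fin (d l))]
      · rw [← Finset.card_filter]
        simp only [a, lead, and_true, eq_comm]
      · intro j _ hj
        refine Finset.sum_eq_zero fun k _ => if_neg fun h => hj (Fin.ext h.2)
      · simp
    have hsplit : (Finset.univ.filter fun p => adm d p).card =
        (Finset.univ.filter fun p => adm d p ∧ ¬ lead d p).card + (Finset.univ.filter fun p => lead d p).card := by
      rw [← Finset.card_union_of_disjoint]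
      · congr 1
        ext p
        simp only [Finset.mem_filter, Finset.mem_univ, true_and, Finset.mem_union, adm, lead]
        constructor
        · intro h; by_cases h' : d p.1.1 = d p.2 ∧ (p.1.2 : ℕ) = 0
          exacts [Or.inr h', Or.inl ⟨h, h'⟩]
        · rintro (h | h) <;> omega
      · rw [Finset.disjoint_filter]; intro p _ h h'; exact h.2 h'
    rw [hadm, hlead, sum_sym s _ (fun i j => by rw [min_comm]; ring)] at hsplit
    have h2 : ∑ i ∈ s, min i i * a i * a i = (∑ i ∈ s, (i - 1) * a i ^ 2) + ∑ i ∈ s, a i * a i := by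
      rw [← Finset.sum_add_distrib]
      refine Finset.sum_congr rfl fun i _ => ?_
      rcases Nat.eq_zero_or_pos i with rfl | hi
      · have : a 0 = 0 := Finset.card_eq_zero.2 (Finset.filter_eq_empty_iff.2 fun k _ e => by
          have := hd k; omega)
        simp [this]
      · obtain ⟨j, rfl⟩ := Nat.exists_eq_add_of_le hi
        simp only [min_self, Nat.add_sub_cancel_left]; ring
    have h3 : (∑ i ∈ s, ∑ j ∈ s, if i < j then min i j * a i * a j else 0) =
        ∑ i ∈ s, ∑ j ∈ s, if i < j then i * a i * a j else 0 := by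
      refine Finset.sum_congr rfl fun i _ => Finset.sum_congr rfl fun j _ => ?_
      split_ifs with h
      · rw [min_eq_left h.le]
      · rfl
    rw [h2, h3] at hsplit
    simp only [a] at hsplit ⊢
    omega
  · rw [hs, Finset.prod_range]
    refine Finset.prod_congr rfl fun i _ => ?_
    rw [show (Finset.univ.filter fun k : Fin t => d k = (i : ℕ)).card = Fintype.card (KB d i) from
        (Fintype.card_subtype _).symm]
    rw [← Matrix.card_GL_field (𝔽 := F) (Fintype.card (KB d i))]
    exact Nat.card_congr (Units.mapEquiv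
      (Matrix.reindexAlgEquiv F F (Fintype.equivFin (KB d i))).toMulEquiv).toEquiv

end Cfsg.Agent.S2581
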