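import Cfsg.Statements.S2582
import Cfsg.Agent.Lib.Forms.UnipotentForms

set_option autoImplicit false
open Cfsg

namespace Cfsg.Agent.S2582

open scoped Matrix
open Cfsg.Agent.JordanType Cfsg.Agent.UnipotentForms

theorem aux {F : Type*} [Field F] [Fintype F] {m t : ℕ} (d : Fin t → ℕ) (hd : ∀ k, 1 ≤ d k) (hsum : ∑ k, d k = 2 * m) : (∃ e : ((k : Fin t) × Fin (d k)) ≃ (Fin m ⊕ Fin m), ∃ A : Matrix.symplecticGroup (Fin m) F, IsConj (Matrix.reindex e e (Cfsg.jordanTypeMatrix d F)) (A : Matrix (Fin m ⊕ Fin m) (Fin m ⊕ Fin m) F)) ↔ ∀ j : ℕ, Odd j → Even (Finset.univ.filter (fun k : Fin t => d k = j)).card := by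
  classical
  constructor
  · rintro ⟨e, A, c, hc⟩ j hj
    by_cases hjd : j ≤ Finset.univ.sup d
    · set M : Matrix (Fin m ⊕ Fin m) (Idx d) F := c.1.submatrix id e
      set N : Matrix (Idx d) (Fin m ⊕ Fin m) F := (c⁻¹).1.submatrix e id
      have hMN : M * N = 1 := by
        rw [show M * N = c.1 * (c⁻¹).1 from Matrix.submatrix_mul_equiv c.1 (c⁻¹).1 id e id, Units.mul_inv]
      have hNM : N * M = 1 := by
        rw [show N * M = ((c⁻¹).1 * c.1).submatrix e e from
          (Matrix.submatrix_mul_equiv (c⁻¹).1 c.1 e (Equiv.refl _) e), Units.inv_mul, Matrix.submatrix_one_equiv]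
      have hAM : (A : Matrix (Fin m ⊕ Fin m) (Fin m ⊕ Fin m) F) * M = M * Cfsg.jordanTypeMatrix d F := by
        change c.1 * Matrix.reindex e e (Cfsg.jordanTypeMatrix d F) = _ * c.1 at hc
        rw [show M * Cfsg.jordanTypeMatrix d F =
          (c.1 * Matrix.reindex e e (Cfsg.jordanTypeMatrix d F)).submatrix id e by
            ext a b
            simp only [M, Matrix.mul_apply, Matrix.submatrix_apply, id, Matrix.reindex_apply]
            exact Fintype.sum_equiv e _ _ fun k => by simp, hc]
        rfl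
      obtain ⟨h1, h2, h3⟩ := form_of_symplectic A M N hMN hAM
      have := even_card_of_odd hd h1 h2 (h3 hNM) ⟨j, by omega⟩ hj
      rwa [Fintype.card_subtype] at this
    · rw [Finset.card_eq_zero.2 ((Finset.filter_eq_empty_iff (p := fun k : Fin t => d k = j)).2 fun k _ (he : d k = j) =>
        hjd (he ▸ Finset.le_sup (Finset.mem_univ k)))]
      exact ⟨0, rfl⟩
  · intro h
    obtain ⟨G, hG, hu, hJ, -⟩ := exists_model (K := F) d hd h (fun _ => 1) (fun _ => one_ne_zero)
    have hcard : Fintype.card (Idx d) = m + m := by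
      rw [Fintype.card_sigma]; simp only [Fintype.card_fin]; omega
    obtain ⟨M, N, A, hMN, hNM, -, hA⟩ := exists_symplectic_of_form hcard hJ hG hu
    let e : Idx d ≃ Fin m ⊕ Fin m := Fintype.equivOfCardEq (by
      rw [hcard, Fintype.card_sum, Fintype.card_fin])
    let c : GL (Fin m ⊕ Fin m) F := ⟨N.submatrix id e.symm, M.submatrix e.symm id,
      by rw [Matrix.submatrix_mul_equiv, hNM]; rfl,
      by rw [show M.submatrix e.symm id * N.submatrix id e.symm = (M * N).submatrix e.symm e.symm from
          (Matrix.submatrix_mul_equiv M N e.symm (Equiv.refl _) e.symm), hMN, Matrix.submatrix_one_equiv]⟩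
    refine ⟨e, A, c, ?_⟩
    show N.submatrix id e.symm * Matrix.reindex e e (Cfsg.jordanTypeMatrix d F) = _ * N.submatrix id e.symm
    rw [hA, Matrix.reindex_apply, Matrix.submatrix_mul_equiv,
      show N * Cfsg.jordanTypeMatrix d F * M * N.submatrix id e.symm =
        (N * Cfsg.jordanTypeMatrix d F * M * N).submatrix id e.symm from rfl,
      Matrix.mul_assoc (N * _), hMN, Matrix.mul_one]

/-- Which unipotent Jordan types occur in the finite symplectic group: over a finite field, a unipotent matrix with Jordan block sizes d_1, …, d_t (sum 2m, all at least 1) is similar to an element of Sp_2m(F) if and only if every odd block size occurs an even number of times. -/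
theorem result {F : Type*} [Field F] [Fintype F] {m t : ℕ} (d : Fin t → ℕ) (hd : ∀ k, 1 ≤ d k) (hsum : ∑ k, d k = 2 * m) : (∃ e : ((k : Fin t) × Fin (d k)) ≃ (Fin m ⊕ Fin m), ∃ A : Matrix.symplecticGroup (Fin m) F, IsConj (Matrix.reindex e e (Cfsg.jordanTypeMatrix d F)) (A : Matrix (Fin m ⊕ Fin m) (Fin m ⊕ Fin m) F)) ↔ ∀ j : ℕ, Odd j → Even (Finset.univ.filter (fun k : Fin t => d k = j)).card := by
  exact aux d hd hsum

end Cfsg.Agent.S2582
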