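import Cfsg.Statements.S2583
import Cfsg.Agent.Lib.Forms.UnipotentSym
-- import your own Cfsg.Agent.* helpers here

set_option autoImplicit false
open Cfsg

namespace Cfsg.Agent.S2583

open scoped Matrix
open Cfsg.Agent.JordanType Cfsg.Agent.UnipotentForms

theorem ext_form' {ι F : Type*} [Fintype ι] [DecidableEq ι] [Field F] {M N : Matrix ι ι F}
    (h : ∀ u v, u ⬝ᵥ (M *ᵥ v) = u ⬝ᵥ (N *ᵥ v)) : M = N := by
  ext i j
  simpa [Matrix.mulVec_single] using h (Pi.single i 1) (Pi.single j 1)

/-- Which unipotent Jordan types occur in a finite orthogonal group in odd characteristic: over a finite field of odd order, a unipotent matrix with Jordan block sizes d_1, …, d_t (sum n, all at least 1) is similar to an isometry of some quadratic form on F^n with non-degenerate polar form if and only if every even block size occurs an even number of times. -/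
theorem result {F : Type*} [Field F] [Fintype F] (h2 : (2 : F) ≠ 0) {n t : ℕ} (d : Fin t → ℕ) (hd : ∀ k, 1 ≤ d k) (hsum : ∑ k, d k = n) : (∃ Q : QuadraticForm F (Fin n → F), (QuadraticMap.polarBilin Q).Nondegenerate ∧ ∃ e : ((k : Fin t) × Fin (d k)) ≃ Fin n, ∃ A : ↥(Cfsg.isometryGroup F ⇑Q), IsConj (Matrix.reindex e e (Cfsg.jordanTypeMatrix d F)) ((A : Matrix.GeneralLinearGroup (Fin n) F) : Matrix (Fin n) (Fin n) F)) ↔ ∀ j : ℕ, Even j → 0 < j → Even (Finset.univ.filter (fun k : Fin t => d k = j)).card := by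
  classical
  constructor
  · rintro ⟨Q, hQ, e, A, c, hc⟩ j hj hj0
    by_cases hjd : j ≤ Finset.univ.sup d
    · set M : Matrix (Fin n) (Idx d) F := c.1.submatrix id e
      set N : Matrix (Idx d) (Fin n) F := (c⁻¹).1.submatrix e id
      have hNM : N * M = 1 := by
        rw [show N * M = ((c⁻¹).1 * c.1).submatrix e e from
          (Matrix.submatrix_mul_equiv (c⁻¹).1 c.1 e (Equiv.refl _) e), Units.inv_mul, Matrix.submatrix_one_equiv]
      set B : Matrix (Fin n) (Fin n) F := ((A : GL (Fin n) F) : Matrix (Fin n) (Fin n) F)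
      have hAM : B * M = M * (1 + shift F d) := by
        rw [shift, add_sub_cancel]
        change c.1 * Matrix.reindex e e (Cfsg.jordanTypeMatrix d F) = _ * c.1 at hc
        rw [show M * Cfsg.jordanTypeMatrix d F =
          (c.1 * Matrix.reindex e e (Cfsg.jordanTypeMatrix d F)).submatrix id e by
            ext a b
            simp only [M, Matrix.mul_apply, Matrix.submatrix_apply, id, Matrix.reindex_apply]
            exact Fintype.sum_equiv e _ _ fun k => by simp, hc]
        rfl
      have hAv : ∀ v, Q (B *ᵥ v) = Q v := fun v => A.2 v v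
      set P := LinearMap.toMatrix₂' F (QuadraticMap.polarBilin Q) with hP
      have hPapp : ∀ u v, u ⬝ᵥ (P *ᵥ v) = QuadraticMap.polar Q u v := fun u v => by
        rw [← Matrix.toLinearMap₂'_apply' P u v, hP, Matrix.toLinearMap₂'_toMatrix']
        rfl
      have hMinj : Function.Injective (M *ᵥ ·) := fun u v h => by
        have := congrArg (N *ᵥ ·) h
        simpa [Matrix.mulVec_mulVec, hNM] using this
      have hMsurj : Function.Surjective (M *ᵥ ·) := by
        intro v
        refine ⟨N *ᵥ v, ?_⟩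
        show M *ᵥ (N *ᵥ v) = v
        rw [Matrix.mulVec_mulVec, show M * N = c.1 * (c⁻¹).1 from Matrix.submatrix_mul_equiv c.1 (c⁻¹).1 id e id,
          Units.mul_inv, Matrix.one_mulVec]
      set G := Mᵀ * P * M
      have hGapp : ∀ u v, u ⬝ᵥ (G *ᵥ v) = QuadraticMap.polar Q (M *ᵥ u) (M *ᵥ v) := fun u v => by
        rw [← hPapp, ← Matrix.mulVec_mulVec, ← Matrix.mulVec_mulVec, Matrix.dotProduct_mulVec,
          Matrix.vecMul_transpose]
      have hJ : (1 + (shift F d)ᵀ) * G * (1 + shift F d) = G := by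
        refine ext_form' fun u v => ?_
        rw [show (1 + (shift F d)ᵀ) = (1 + shift F d)ᵀ by rw [Matrix.transpose_add, Matrix.transpose_one],
          ← Matrix.mulVec_mulVec, ← Matrix.mulVec_mulVec, Matrix.dotProduct_mulVec, Matrix.vecMul_transpose,
          hGapp, hGapp, Matrix.mulVec_mulVec, Matrix.mulVec_mulVec, ← hAM, ← Matrix.mulVec_mulVec,
          ← Matrix.mulVec_mulVec]
        simp only [QuadraticMap.polar, ← Matrix.mulVec_add, hAv]
      have hent : ∀ a b, G a b = QuadraticMap.polar Q (M *ᵥ Pi.single a 1) (M *ᵥ Pi.single b 1) := fun a b => by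
        rw [← hGapp, Matrix.mulVec_single_one, single_one_dotProduct, Matrix.col_apply]
      have hsymG : Gᵀ = G := by
        ext a b
        rw [Matrix.transpose_apply, hent, hent, QuadraticMap.polar_comm]
      have hu : IsUnit G := by
        rw [← Matrix.mulVec_injective_iff_isUnit]
        intro u v huv
        refine hMinj (sub_eq_zero.1 (hQ.2 _ fun w => ?_))
        obtain ⟨z, rfl⟩ := hMsurj w
        show QuadraticMap.polar Q (M *ᵥ z) (M *ᵥ u - M *ᵥ v) = 0
        rw [← Matrix.mulVec_sub, ← hGapp, Matrix.mulVec_sub, huv, sub_self, dotProduct_zero]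
      have := even_card_of_even h2 hd hJ hsymG hu ⟨j, by omega⟩ hj
      rwa [Fintype.card_subtype] at this
    · rw [Finset.card_eq_zero.2 ((Finset.filter_eq_empty_iff (p := fun k : Fin t => d k = j)).2 fun k _ (he : d k = j) =>
        hjd (he ▸ Finset.le_sup (Finset.mem_univ k)))]
      exact ⟨0, rfl⟩
  · intro h
    obtain ⟨G, hG, hu, hJ⟩ := exists_model_sym (K := F) h2 d hd h
    let e : Idx d ≃ Fin n := Fintype.equivOfCardEq (by
      rw [Fintype.card_sigma]; simp only [Fintype.card_fin]; exact hsum)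
    let R := Matrix.reindexAlgEquiv F F e
    have hT : ∀ X : Matrix (Idx d) (Idx d) F, (R X)ᵀ = R Xᵀ := fun X => rfl
    set G' := R G
    let Q : QuadraticForm F (Fin n → F) := (Matrix.toBilin' ((2 : F)⁻¹ • G')).toQuadraticMap
    have hQapp : ∀ v, Q v = 2⁻¹ * (v ⬝ᵥ (G' *ᵥ v)) := fun v => by
      show Matrix.toBilin' ((2 : F)⁻¹ • G') v v = _
      rw [Matrix.toBilin'_apply', Matrix.smul_mulVec, dotProduct_smul, smul_eq_mul]
    have hpol : ∀ u v, QuadraticMap.polar Q u v = u ⬝ᵥ (G' *ᵥ v) := fun u v => by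
      have hc : v ⬝ᵥ (G' *ᵥ u) = u ⬝ᵥ (G' *ᵥ v) := by
        rw [dotProduct_comm, ← Matrix.vecMul_transpose, hT, hG, ← Matrix.dotProduct_mulVec]
      simp only [QuadraticMap.polar, hQapp, Matrix.mulVec_add, dotProduct_add, add_dotProduct, hc]
      field_simp
      ring
    have hGu : IsUnit G' := hu.map R
    set B := R (1 + shift F d)
    have hBG : Bᵀ * G' * B = G' := by
      rw [hT, ← map_mul, ← map_mul, Matrix.transpose_add, Matrix.transpose_one, hJ]
    have hBu : IsUnit B := by
      refine IsUnit.map R ?_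
      have h1 := UnipotentCentralizer.isUnit_trans hJ hu
      rw [← Matrix.transpose_one, ← Matrix.transpose_add] at h1
      exact (Matrix.isUnit_transpose _).1 h1
    refine ⟨Q, ?_, e, ⟨hBu.unit, fun v _ => ?_⟩, ?_⟩
    · have hb : QuadraticMap.polarBilin Q = Matrix.toBilin' G' :=
        LinearMap.ext₂ fun u v => (hpol u v).trans (Matrix.toBilin'_apply' _ _ _).symm
      rw [hb]
      exact Matrix.nondegenerate_toBilin'_iff.2 (Matrix.nondegenerate_of_det_ne_zero
        ((Matrix.isUnit_iff_isUnit_det _).1 hGu).ne_zero)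
    · show Q (B *ᵥ v) = Q v
      rw [hQapp, hQapp]
      congr 1
      conv_rhs => rw [← hBG]
      rw [← Matrix.mulVec_mulVec, ← Matrix.mulVec_mulVec, Matrix.dotProduct_mulVec v Bᵀ, Matrix.vecMul_transpose]
    · show IsConj (R (Cfsg.jordanTypeMatrix d F)) B
      rw [show Cfsg.jordanTypeMatrix d F = 1 + shift F d by rw [shift, add_sub_cancel]]

end Cfsg.Agent.S2583
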