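import Cfsg.Statements.S2585
-- import your own Cfsg.Agent.* helpers here

set_option autoImplicit false
open Cfsg

namespace Cfsg.Agent.S2585

/-- Over a finite field of characteristic two every element of the symplectic group is orthogonal for a suitable quadratic form: for each A in Sp_2m(F) there is a quadratic form Q on F^(2m) whose polar form is the alternating form defining Sp_2m(F) (so Q is non-degenerate) and which A preserves. Equivalently, for m ≥ 1, Sp_2m(F) is the union of the conjugates of its two orthogonal subgroups O⁺_2m(F) and O⁻_2m(F). -/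
theorem result {F : Type*} [Field F] [Fintype F] [CharP F 2] {m : ℕ} (A : Matrix.symplecticGroup (Fin m) F) : ∃ Q : QuadraticForm F (Fin m ⊕ Fin m → F), (∀ u v : Fin m ⊕ Fin m → F, QuadraticMap.polar ⇑Q u v = Cfsg.sympForm m F u v) ∧ ∀ v : Fin m ⊕ Fin m → F, Q ((A : Matrix (Fin m ⊕ Fin m) (Fin m ⊕ Fin m) F).mulVec v) = Q v := by
  classical
  set M := (A : Matrix (Fin m ⊕ Fin m) (Fin m ⊕ Fin m) F)
  let Q₀ : QuadraticForm F (Fin m ⊕ Fin m → F) :=
    ∑ i : Fin m, QuadraticMap.linMulLin (LinearMap.proj (Sum.inl i)) (LinearMap.proj (Sum.inr i))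
  have hQ₀ : ∀ v, Q₀ v = ∑ i, v (Sum.inl i) * v (Sum.inr i) := fun v => by
    simp [Q₀, QuadraticMap.sum_apply]
  have hpol : ∀ u v, QuadraticMap.polar ⇑Q₀ u v = Cfsg.sympForm m F u v := by
    intro u v
    simp only [QuadraticMap.polar, hQ₀, Cfsg.sympForm, Matrix.J, Matrix.fromBlocks_mulVec, Matrix.zero_mulVec,
      Matrix.one_mulVec, Matrix.neg_mulVec, zero_add, add_zero, dotProduct, Fintype.sum_sum_type, Sum.elim_inl,
      Sum.elim_inr, Pi.add_apply, Pi.neg_apply, Function.comp, add_mul, mul_add, Finset.sum_add_distrib,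
      CharTwo.neg_eq]
    simp only [mul_comm (v (Sum.inl _))]
    ring
  have hinv : ∀ u v, Cfsg.sympForm m F (M.mulVec u) (M.mulVec v) = Cfsg.sympForm m F u v := by
    intro u v
    rw [Cfsg.sympForm, Cfsg.sympForm, Matrix.mulVec_mulVec, ← Matrix.vecMul_transpose,
      ← Matrix.dotProduct_mulVec, Matrix.mulVec_mulVec, ← Matrix.mul_assoc, SymplecticGroup.mem_iff'.1 A.2]
  let s : F ≃+* F := frobeniusEquiv F 2
  have hs : ∀ x, s x = x * x := fun x => by simp [s, frobenius_def, sq]
  have hadd : ∀ u v, Q₀ (u + v) - Q₀ (M.mulVec (u + v)) =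
      (Q₀ u - Q₀ (M.mulVec u)) + (Q₀ v - Q₀ (M.mulVec v)) := by
    intro u v
    have h1 : QuadraticMap.polar ⇑Q₀ (M.mulVec u) (M.mulVec v) = QuadraticMap.polar ⇑Q₀ u v := by
      rw [hpol, hpol, hinv]
    simp only [QuadraticMap.polar, ← Matrix.mulVec_add] at h1
    linear_combination -h1
  let l₀ : (Fin m ⊕ Fin m → F) →ₗ[F] F :=
    { toFun := fun v => s.symm (Q₀ v - Q₀ (M.mulVec v))
      map_add' := fun u v => by simp only [hadd, map_add]
      map_smul' := fun c v => by
        simp only [Matrix.mulVec_smul, QuadraticMap.map_smul, ← smul_sub, RingHom.id_apply, smul_eq_mul]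
        rw [← mul_sub, ← hs c, map_mul, RingEquiv.symm_apply_apply] }
  have hker : LinearMap.ker (Matrix.mulVecLin (M - 1)) ≤ LinearMap.ker l₀ := by
    intro v hv
    have hv' : M.mulVec v = v := by
      rw [LinearMap.mem_ker, Matrix.mulVecLin_apply, Matrix.sub_mulVec, Matrix.one_mulVec, sub_eq_zero] at hv
      exact hv
    show s.symm (Q₀ v - Q₀ (M.mulVec v)) = 0
    rw [hv', sub_self, map_zero]
  obtain ⟨l, hl⟩ : l₀ ∈ LinearMap.range (Matrix.mulVecLin (M - 1)).dualMap := by
    rw [LinearMap.range_dualMap_eq_dualAnnihilator_ker, Submodule.mem_dualAnnihilator]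
    exact fun v hv => LinearMap.mem_ker.1 (hker hv)
  refine ⟨Q₀ + QuadraticMap.linMulLin l l, fun u v => ?_, fun v => ?_⟩
  · rw [QuadraticMap.coeFn_add, QuadraticMap.polar_add, hpol]
    simp only [add_eq_left, QuadraticMap.polar, QuadraticMap.linMulLin_apply, map_add]
    linear_combination CharTwo.add_self_eq_zero (l u * l v)
  · have h1 : s (l ((M - 1).mulVec v)) = Q₀ v - Q₀ (M.mulVec v) := by
      have h2 : l ((M - 1).mulVec v) = l₀ v := LinearMap.congr_fun hl v
      rw [h2]
      exact s.apply_symm_apply _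
    rw [hs, Matrix.sub_mulVec, Matrix.one_mulVec, map_sub] at h1
    simp only [QuadraticMap.add_apply, QuadraticMap.linMulLin_apply]
    have h4 := CharTwo.add_self_eq_zero (l (M.mulVec v) * l v)
    have h5 := CharTwo.add_self_eq_zero (l v * l v)
    linear_combination h1 + h4 - h5

end Cfsg.Agent.S2585
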