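import Cfsg.Statements.S2584
import Cfsg.Agent.S2582
import Cfsg.Agent.S2585
-- import your own Cfsg.Agent.* helpers here

set_option autoImplicit false
open Cfsg

namespace Cfsg.Agent.S2584

open scoped Matrix
open Cfsg.Agent.JordanType Cfsg.Agent.UnipotentForms

theorem ext_form' {ι F : Type*} [Fintype ι] [DecidableEq ι] [Field F] {M N : Matrix ι ι F}
    (h : ∀ u v, u ⬝ᵥ (M *ᵥ v) = u ⬝ᵥ (N *ᵥ v)) : M = N := by
  ext i j
  simpa [Matrix.mulVec_single] using h (Pi.single i 1) (Pi.single j 1)

/-- Which unipotent Jordan types occur in a finite orthogonal group in characteristic two: over a finite field of characteristic 2 and in even dimension 2m, a unipotent matrix with Jordan block sizes d_1, …, d_t (sum 2m, all at least 1) is similar to an isometry of some quadratic form on F^(2m) with non-degenerate polar form if and only if every odd block size occurs an even number of times (the same condition as for the symplectic group, which contains these orthogonal groups). -/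
theorem result {F : Type*} [Field F] [Fintype F] [CharP F 2] {m t : ℕ} (d : Fin t → ℕ) (hd : ∀ k, 1 ≤ d k) (hsum : ∑ k, d k = 2 * m) : (∃ Q : QuadraticForm F (Fin (2 * m) → F), (QuadraticMap.polarBilin Q).Nondegenerate ∧ ∃ e : ((k : Fin t) × Fin (d k)) ≃ Fin (2 * m), ∃ A : ↥(Cfsg.isometryGroup F ⇑Q), IsConj (Matrix.reindex e e (Cfsg.jordanTypeMatrix d F)) ((A : Matrix.GeneralLinearGroup (Fin (2 * m)) F) : Matrix (Fin (2 * m)) (Fin (2 * m)) F)) ↔ ∀ j : ℕ, Odd j → Even (Finset.univ.filter (fun k : Fin t => d k = j)).card := by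
  classical
  constructor
  · rintro ⟨Q, hQ, e, A, c, hc⟩ j hj
    by_cases hjd : j ≤ Finset.univ.sup d
    · set M : Matrix (Fin (2 * m)) (Idx d) F := c.1.submatrix id e
      set N : Matrix (Idx d) (Fin (2 * m)) F := (c⁻¹).1.submatrix e id
      have hNM : N * M = 1 := by
        rw [show N * M = ((c⁻¹).1 * c.1).submatrix e e from
          (Matrix.submatrix_mul_equiv (c⁻¹).1 c.1 e (Equiv.refl _) e), Units.inv_mul, Matrix.submatrix_one_equiv]
      set B : Matrix (Fin (2 * m)) (Fin (2 * m)) F := ((A : GL (Fin (2 * m)) F) : Matrix (Fin (2 * m)) (Fin (2 * m)) F)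
      have hAM : B * M = M * (1 + shift F d) := by
        rw [shift, add_sub_cancel]
        change c.1 * Matrix.reindex e e (Cfsg.jordanTypeMatrix d F) = _ * c.1 at hc
        rw [show M * Cfsg.jordanTypeMatrix d F =
          (c.1 * Matrix.reindex e e (Cfsg.jordanTypeMatrix d F)).submatrix id e by
            ext a b
            simp only [M, Matrix.mul_apply, Matrix.submatrix_apply, id, Matrix.reindex_apply]
            exact Fintype.sum_equiv e _ _ fun k => by simp, hc]
        rfl
      have hAv : ∀ v, Q (B *ᵥ v) = Q v := fun v => A.2 v v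
      set P := LinearMap.toMatrix₂' F (QuadraticMap.polarBilin Q) with hP
      have hPapp : ∀ u v, u ⬝ᵥ (P *ᵥ v) = QuadraticMap.polar Q u v := fun u v => by
        rw [← Matrix.toLinearMap₂'_apply' P u v, hP, Matrix.toLinearMap₂'_toMatrix']
        rfl
      have hMinj : Function.Injective (M *ᵥ ·) := fun u v h => by
        have := congrArg (N *ᵥ ·) h
        simpa [Matrix.mulVec_mulVec, hNM] using this
      have hMsurj : Function.Surjective (M *ᵥ ·) := by
        intro v
        refine ⟨N *ᵥ v, ?_⟩
        show M *ᵥ (N *ᵥ v) = v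
        rw [Matrix.mulVec_mulVec, show M * N = c.1 * (c⁻¹).1 from Matrix.submatrix_mul_equiv c.1 (c⁻¹).1 id e id,
          Units.mul_inv, Matrix.one_mulVec]
      set G := Mᵀ * P * M
      have hGapp : ∀ u v, u ⬝ᵥ (G *ᵥ v) = QuadraticMap.polar Q (M *ᵥ u) (M *ᵥ v) := fun u v => by
        rw [← hPapp, ← Matrix.mulVec_mulVec, ← Matrix.mulVec_mulVec, Matrix.dotProduct_mulVec,
          Matrix.vecMul_transpose]
      have hJ : (1 + (shift F d)ᵀ) * G * (1 + shift F d) = G := by
        refine ext_form' fun u v => ?_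
        rw [show (1 + (shift F d)ᵀ) = (1 + shift F d)ᵀ by rw [Matrix.transpose_add, Matrix.transpose_one],
          ← Matrix.mulVec_mulVec, ← Matrix.mulVec_mulVec, Matrix.dotProduct_mulVec, Matrix.vecMul_transpose,
          hGapp, hGapp, Matrix.mulVec_mulVec, Matrix.mulVec_mulVec, ← hAM, ← Matrix.mulVec_mulVec,
          ← Matrix.mulVec_mulVec]
        simp only [QuadraticMap.polar, ← Matrix.mulVec_add, hAv]
      have hent : ∀ a b, G a b = QuadraticMap.polar Q (M *ᵥ Pi.single a 1) (M *ᵥ Pi.single b 1) := fun a b => by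
        rw [← hGapp, Matrix.mulVec_single_one, single_one_dotProduct, Matrix.col_apply]
      have hAlt : Alt G := by
        refine ⟨?_, fun a => ?_⟩
        · ext a b
          rw [Matrix.transpose_apply, Matrix.neg_apply, hent, hent, CharTwo.neg_eq, QuadraticMap.polar_comm]
        · rw [hent, QuadraticMap.polar_self, two_smul, CharTwo.add_self_eq_zero]
      have hu : IsUnit G := by
        rw [← Matrix.mulVec_injective_iff_isUnit]
        intro u v huv
        refine hMinj (sub_eq_zero.1 (hQ.2 _ fun w => ?_))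
        obtain ⟨z, rfl⟩ := hMsurj w
        show QuadraticMap.polar Q (M *ᵥ z) (M *ᵥ u - M *ᵥ v) = 0
        rw [← Matrix.mulVec_sub, ← hGapp, Matrix.mulVec_sub, huv, sub_self, dotProduct_zero]
      have := even_card_of_odd hd hJ hAlt hu ⟨j, by omega⟩ hj
      rwa [Fintype.card_subtype] at this
    · rw [Finset.card_eq_zero.2 ((Finset.filter_eq_empty_iff (p := fun k : Fin t => d k = j)).2 fun k _ (he : d k = j) =>
        hjd (he ▸ Finset.le_sup (Finset.mem_univ k)))]
      exact ⟨0, rfl⟩
  · intro h
    obtain ⟨e₀, A, hA⟩ := (S2582.result (F := F) d hd hsum).2 h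
    obtain ⟨Q, hQ, hinv⟩ := S2585.result A
    let f : Fin m ⊕ Fin m ≃ Fin (2 * m) := finSumFinEquiv.trans (finCongr (two_mul m).symm)
    let R := Matrix.reindexAlgEquiv F F f
    have hL : ∀ v : Fin (2 * m) → F, LinearMap.funLeft F F f v = fun i => v (f i) := fun v => rfl
    let Q' : QuadraticForm F (Fin (2 * m) → F) := Q.comp (LinearMap.funLeft F F f)
    have hu : IsUnit (R (A : Matrix (Fin m ⊕ Fin m) (Fin m ⊕ Fin m) F)) :=
      ((Matrix.isUnit_iff_isUnit_det _).2 (SymplecticGroup.symplectic_det A.2)).map R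
    refine ⟨Q', ?_, e₀.trans f, ⟨hu.unit, fun v _ => ?_⟩, ?_⟩
    · have key : ∀ u v, QuadraticMap.polarBilin Q' u v = Cfsg.sympForm m F (fun i => u (f i)) (fun i => v (f i)) :=
        fun u v => by
          rw [← hQ]
          rfl
      have hl : ∀ u, (∀ v, QuadraticMap.polarBilin Q' u v = 0) → u = 0 := fun u hu => by
        have h0 : (fun i => u (f i)) = 0 := (FormsLib.spB_nondeg (m := m) (F := F)).1 _ fun v => by
          have h1 := hu (fun i => v (f.symm i))
          rw [key] at h1
          simp only [Equiv.symm_apply_apply] at h1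
          exact (FormsLib.spB_apply _ _).trans h1
        funext i
        simpa using congrFun h0 (f.symm i)
      refine ⟨hl, fun v hv => hl v fun u => ?_⟩
      rw [QuadraticMap.polarBilin_apply_apply, QuadraticMap.polar_comm]
      exact hv u
    · show Q' (R (A : Matrix (Fin m ⊕ Fin m) (Fin m ⊕ Fin m) F) *ᵥ v) = Q' v
      show Q (fun i => (Matrix.reindex f f (A : Matrix (Fin m ⊕ Fin m) (Fin m ⊕ Fin m) F) *ᵥ v) (f i)) = Q fun i => v (f i)
      rw [← hinv fun i => v (f i)]
      congr 1
      funext i
      simp only [Matrix.mulVec, dotProduct, Matrix.reindex_apply, Matrix.submatrix_apply, Equiv.symm_apply_apply]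
      exact (Fintype.sum_equiv f _ _ fun k => by simp).symm
    · obtain ⟨c, hc⟩ := hA
      refine ⟨Units.map R.toAlgHom.toRingHom.toMonoidHom c, ?_⟩
      show R c.1 * Matrix.reindex (e₀.trans f) (e₀.trans f) (Cfsg.jordanTypeMatrix d F) =
        R (A : Matrix (Fin m ⊕ Fin m) (Fin m ⊕ Fin m) F) * R c.1
      rw [show Matrix.reindex (e₀.trans f) (e₀.trans f) (Cfsg.jordanTypeMatrix d F) =
        R (Matrix.reindex e₀ e₀ (Cfsg.jordanTypeMatrix d F)) from rfl, ← map_mul, ← map_mul]
      exact congrArg R hc

end Cfsg.Agent.S2584
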