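import Cfsg.Statements.S2588
import Cfsg.Agent.Lib.FormCentral.Unitary
import Cfsg.Agent.Lib.FormTorus.Realize
-- import your own Cfsg.Agent.* helpers here

set_option autoImplicit false
open Cfsg

namespace Cfsg.Agent.S2588

open Matrix FormsLib

variable {K : Type*} [Field K] {n : ℕ} (σ : K →+* K)

theorem st_mul (X Y : Matrix (Fin n) (Fin n) K) :
    ((X * Y).map σ).transpose = (Y.map σ).transpose * (X.map σ).transpose := by
  rw [Matrix.map_mul, transpose_mul]

theorem hermB_compl (M : Matrix (Fin n) (Fin n) K) (u v : Fin n → K) :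
    hermB n σ u (M *ᵥ v) = (σ ∘ u) ⬝ᵥ (M *ᵥ v) := by
  simp [hermB, dotProduct, mul_comm]

theorem hermB_sigma (hσσ : ∀ a, σ (σ a) = a) (M : Matrix (Fin n) (Fin n) K) (u v : Fin n → K) :
    σ (hermB n σ v (M *ᵥ u)) = hermB n σ u ((M.map σ).transpose *ᵥ v) := by
  simp only [hermB_compl, dotProduct_mulVec, vecMul_transpose]
  simp only [dotProduct, mulVec, vecMul, map_sum, map_mul, Finset.mul_sum, Finset.sum_mul,
    Function.comp, Matrix.map_apply, transpose_apply, hσσ]
  rw [Finset.sum_comm]
  refine Finset.sum_congr rfl fun i _ => Finset.sum_congr rfl fun j _ => ?_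
  ring


/-- An invertible matrix A over the field with q² elements is conjugate in GL_n(q²) to an element of the general unitary group GU_n(q) (isometries of the Hermitian form Σ u_i v_i^q) if and only if A is similar to the inverse transpose of its entrywise q-th power (A ~ A^(−qT), the image of A under the map sending a matrix to the inverse transpose of its entrywise q-th power — inverse transpose composed with the field automorphism — whose fixed points form GU_n(q)). -/
theorem result {K : Type*} [Field K] [Fintype K] {q n : ℕ} (hK : Fintype.card K = q ^ 2) (A : GL (Fin n) K) : (∃ B : ↥(Cfsg.GU n K q), IsConj A (B : GL (Fin n) K)) ↔ IsConj (A : Matrix (Fin n) (Fin n) K) (((A : Matrix (Fin n) (Fin n) K).map (fun x : K => x ^ q)).transpose)⁻¹ := by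
  classical
  obtain ⟨σ, hσ, hσσ, hq2⟩ := exists_qhom hK
  haveI := AutPSU.QField.of_card hK
  have hqmap : ∀ X : Matrix (Fin n) (Fin n) K, X.map (fun x : K => x ^ q) = X.map σ := fun X => by
    ext i j; simp [hσ]
  rw [hqmap]
  have hmem : ∀ X : GL (Fin n) K, X ∈ Cfsg.GU n K q ↔
      ((X : Matrix (Fin n) (Fin n) K).map σ).transpose * (X : Matrix (Fin n) (Fin n) K) = 1 := by
    intro X
    constructor
    · intro h
      ext i j
      have h1 := h (Pi.single j 1) (Pi.single i 1)
      simp only [hermForm, Units.coeHom_apply, Matrix.mulVec_single_one, Matrix.col_apply] at h1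
      have h4 : ∑ k, (Pi.single j 1 : Fin n → K) k * (Pi.single i 1 : Fin n → K) k ^ q =
          if i = j then 1 else 0 := by
        rcases eq_or_ne i j with rfl | hne
        · rw [if_pos rfl, Finset.sum_eq_single i (fun k _ hk => by simp [hk]) (by simp)]
          simp
        · rw [if_neg hne]
          refine Finset.sum_eq_zero fun k _ => ?_
          rcases eq_or_ne k j with rfl | hk
          · simp [hne.symm, zero_pow (show q ≠ 0 by omega)]
          · simp [hk]
      rw [h4] at h1
      rw [Matrix.mul_apply, Matrix.one_apply, ← h1]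
      exact Finset.sum_congr rfl fun k _ => by simp [hσ, mul_comm]
    · intro h u v
      show hermForm n K q _ _ = hermForm n K q u v
      rw [← hermB_apply hσ, ← hermB_apply hσ, hermB_compl]
      simp only [Units.coeHom_apply]
      rw [dotProduct_mulVec]
      have h3 : (σ ∘ ((X : Matrix (Fin n) (Fin n) K) *ᵥ v)) =
          (σ ∘ v) ᵥ* ((X : Matrix (Fin n) (Fin n) K).map σ).transpose := by
        rw [vecMul_transpose]
        ext k
        simp [mulVec, dotProduct, map_sum]
      rw [h3, vecMul_vecMul, h, vecMul_one]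
      simp [hermB, dotProduct, mul_comm]
  constructor
  · rintro ⟨⟨B, hB⟩, hc⟩
    obtain ⟨c, hc⟩ := isConj_iff.1 hc
    change c * A * c⁻¹ = B at hc
    have hdet := (Matrix.isUnit_iff_isUnit_det _).1 A.isUnit
    obtain ⟨S, hS⟩ : ∃ S : GL (Fin n) K, (S : Matrix (Fin n) (Fin n) K) =
        ((c : Matrix (Fin n) (Fin n) K).map σ).transpose := by
      refine ⟨Matrix.GeneralLinearGroup.mk'' ((c : Matrix (Fin n) (Fin n) K).map σ).transpose ?_, rfl⟩
      rw [det_transpose, ← RingHom.mapMatrix_apply, ← RingHom.map_det]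
      exact ((Matrix.isUnit_iff_isUnit_det _).1 c.isUnit).map σ
    refine ⟨S * c, ?_⟩
    show ((S * c : GL (Fin n) K) : Matrix (Fin n) (Fin n) K) * A = _ * ((S * c : GL (Fin n) K) : Matrix (Fin n) (Fin n) K)
    have h1 := (hmem B).1 hB
    have hcA : (c : Matrix (Fin n) (Fin n) K) * A = (B : Matrix (Fin n) (Fin n) K) * c := by
      rw [← Units.val_mul, ← Units.val_mul, ← hc]; congr 1; group
    have h2 : ((A : Matrix (Fin n) (Fin n) K).map σ).transpose * ((S * c : GL (Fin n) K) : Matrix (Fin n) (Fin n) K) * A =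
        ((S * c : GL (Fin n) K) : Matrix (Fin n) (Fin n) K) := by
      rw [Units.val_mul, hS, mul_assoc, mul_assoc, hcA, ← mul_assoc _ _ ((B : Matrix (Fin n) (Fin n) K) * c), ← st_mul,
        hcA, st_mul, mul_assoc, ← mul_assoc _ (B : Matrix (Fin n) (Fin n) K), h1, one_mul]
    have hu : IsUnit ((A : Matrix (Fin n) (Fin n) K).map σ).transpose.det := by
      rw [det_transpose, ← RingHom.mapMatrix_apply, ← RingHom.map_det]
      exact hdet.map σ
    conv_rhs => rw [← h2]
    rw [mul_assoc _ _ (A : Matrix (Fin n) (Fin n) K), ← mul_assoc, nonsing_inv_mul _ hu, one_mul]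
  · rintro ⟨P, hP⟩
    change (P : Matrix (Fin n) (Fin n) K) * A = _ * (P : Matrix (Fin n) (Fin n) K) at hP
    have hdetP := (Matrix.isUnit_iff_isUnit_det _).1 P.isUnit
    have hu : IsUnit ((A : Matrix (Fin n) (Fin n) K).map σ).transpose.det := by
      rw [det_transpose, ← RingHom.mapMatrix_apply, ← RingHom.map_det]
      exact ((Matrix.isUnit_iff_isUnit_det _).1 A.isUnit).map σ
    have hAP : ((A : Matrix (Fin n) (Fin n) K).map σ).transpose * P * A = P := by
      rw [mul_assoc, hP, ← mul_assoc, mul_nonsing_inv _ hu, one_mul]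
    obtain ⟨S, hS⟩ : ∃ S : GL (Fin n) K, (S : Matrix (Fin n) (Fin n) K) =
        ((P : Matrix (Fin n) (Fin n) K).map σ).transpose := by
      refine ⟨Matrix.GeneralLinearGroup.mk'' ((P : Matrix (Fin n) (Fin n) K).map σ).transpose ?_, rfl⟩
      rw [det_transpose, ← RingHom.mapMatrix_apply, ← RingHom.map_det]
      exact hdetP.map σ
    have hstst : ∀ X : Matrix (Fin n) (Fin n) K, (((X.map σ).transpose).map σ).transpose = X := fun X => by
      ext i j; simp [hσσ]
    have hAS : ((A : Matrix (Fin n) (Fin n) K).map σ).transpose * S * A = S := by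
      conv_rhs => rw [hS, ← hAP, st_mul, st_mul, hstst]
      rw [hS, mul_assoc]
    set U : GL (Fin n) K := P⁻¹ * S with hU
    have hUA : Commute (U : Matrix (Fin n) (Fin n) K) A := by
      have h1 : (P : Matrix (Fin n) (Fin n) K) * ((U : Matrix (Fin n) (Fin n) K) * A) =
          (P : Matrix (Fin n) (Fin n) K) * ((A : Matrix (Fin n) (Fin n) K) * U) := by
        rw [hU, Units.val_mul, ← mul_assoc, ← mul_assoc, Units.mul_inv, one_mul, ← mul_assoc, ← mul_assoc]
        have h := congrArg (fun Y => (((A : Matrix (Fin n) (Fin n) K).map σ).transpose)⁻¹ * Y) hAS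
        simp only [← mul_assoc, nonsing_inv_mul _ hu, one_mul] at h
        rw [h, hP, mul_assoc (((A : Matrix (Fin n) (Fin n) K).map σ).transpose)⁻¹, Units.mul_inv, mul_one]
      exact P.isUnit.mul_left_cancel h1
    let t : Matrix (Fin n) (Fin n) K → Matrix (Fin n) (Fin n) K := fun X =>
      ((P⁻¹ : GL (Fin n) K) : Matrix (Fin n) (Fin n) K) * (X.map σ).transpose * P
    have ht_mul : ∀ X Y, t (X * Y) = t Y * t X := fun X Y => by
      simp only [t, st_mul, mul_assoc, Units.mul_inv_cancel_left]
    let E := Algebra.adjoin K {(U : Matrix (Fin n) (Fin n) K)}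
    have hUE : (U : Matrix (Fin n) (Fin n) K) ∈ E := Algebra.self_mem_adjoin_singleton _ _
    have htU : t U * U = 1 := by
      have hstP : ∀ X : GL (Fin n) K, ((((X⁻¹ : GL (Fin n) K)) : Matrix (Fin n) (Fin n) K).map σ).transpose *
          ((X : Matrix (Fin n) (Fin n) K).map σ).transpose = 1 := fun X => by
        rw [← st_mul, Units.mul_inv, Matrix.map_one σ (map_zero σ) (map_one σ), transpose_one]
      show ((P⁻¹ : GL (Fin n) K) : Matrix (Fin n) (Fin n) K) * ((U : Matrix (Fin n) (Fin n) K).map σ).transpose * P * U = 1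
      rw [hU, Units.val_mul, st_mul, show ((S : Matrix (Fin n) (Fin n) K).map σ).transpose = P by rw [hS, hstst],
        Units.inv_mul_cancel_left, mul_assoc, Units.mul_inv_cancel_left, hS, hstP]
    haveI : Finite (Matrix (Fin n) (Fin n) K) := inferInstance
    have hUinv : ((U⁻¹ : GL (Fin n) K) : Matrix (Fin n) (Fin n) K) ∈ E := by
      have hmem := Subalgebra.pow_mem E hUE (orderOf U - 1)
      have h1 : U⁻¹ = U ^ (orderOf U - 1) := by
        rw [inv_eq_iff_mul_eq_one, ← pow_succ', Nat.sub_add_cancel (orderOf_pos U), pow_orderOf_eq_one]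
      rw [h1, Units.val_pow_eq_pow_val]
      exact hmem
    have htUE : t U = ((U⁻¹ : GL (Fin n) K) : Matrix (Fin n) (Fin n) K) := by
      have h := congrArg (· * ((U⁻¹ : GL (Fin n) K) : Matrix (Fin n) (Fin n) K)) htU
      simpa [mul_assoc] using h
    have htc : ∀ c : K, t (algebraMap K _ c) = algebraMap K _ (σ c) := fun c => by
      show _ * ((algebraMap K (Matrix (Fin n) (Fin n) K) c).map σ).transpose * _ = _
      rw [show ((algebraMap K (Matrix (Fin n) (Fin n) K) c).map σ).transpose =
          algebraMap K _ (σ c) by ext i j; simp [Matrix.algebraMap_matrix_apply, apply_ite σ, eq_comm],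
        mul_assoc, Algebra.commutes, ← mul_assoc, Units.inv_mul, one_mul]
    have htE : ∀ X ∈ E, t X ∈ E := by
      intro X hX
      induction hX using Algebra.adjoin_induction with
      | mem X hX => rw [Set.mem_singleton_iff.1 hX, htUE]; exact hUinv
      | algebraMap c => rw [htc]; exact E.algebraMap_mem _
      | add X Y _ _ hX hY =>
        have : t (X + Y) = t X + t Y := by
          simp [t, Matrix.map_add, mul_add, add_mul]
        rw [this]; exact E.add_mem hX hY
      | mul X Y _ _ hX hY => rw [ht_mul]; exact E.mul_mem hY hX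
    letI : CommRing E := Algebra.adjoinCommRingOfComm K (fun a ha b hb => by
      rw [Set.mem_singleton_iff.1 ha, Set.mem_singleton_iff.1 hb])
    let θ : E →+* E :=
      { toFun := fun X => ⟨t X, htE _ X.2⟩
        map_one' := Subtype.ext (by
          show t 1 = 1
          simp [t, Matrix.map_one σ (map_zero σ) (map_one σ)])
        map_mul' := fun X Y => by
          rw [mul_comm X Y]
          exact Subtype.ext (ht_mul _ _)
        map_zero' := Subtype.ext (by show t 0 = 0; simp [t])
        map_add' := fun X Y => Subtype.ext (by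
          show t ((X : Matrix (Fin n) (Fin n) K) + Y) = t X + t Y
          simp [t, Matrix.map_add, mul_add, add_mul]) }
    have hθ : ∀ X, θ (θ X) = X := by
      rintro ⟨X, hX⟩
      refine Subtype.ext ?_
      show t (t X) = X
      induction hX using Algebra.adjoin_induction with
      | mem X hX =>
        rw [Set.mem_singleton_iff.1 hX, htUE]
        have h1 := congrArg t (Units.inv_mul U)
        rw [ht_mul, htUE] at h1
        have h0 : t 1 = 1 := by simp [t, Matrix.map_one σ (map_zero σ) (map_one σ)]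
        rw [h0] at h1
        have h2 := congrArg ((U : Matrix (Fin n) (Fin n) K) * ·) h1
        simpa [← mul_assoc] using h2
      | algebraMap c => rw [htc, htc, hσσ]
      | add X Y _ _ hX hY =>
        have hadd : ∀ X Y, t (X + Y) = t X + t Y := fun X Y => by simp [t, Matrix.map_add, mul_add, add_mul]
        rw [hadd, hadd, hX, hY]
      | mul X Y _ _ hX hY =>
        have h := congrArg t (ht_mul X Y)
        rw [ht_mul (t Y), hX, hY] at h
        exact h
    obtain ⟨c, hc⟩ := AutPSU.qb_ne (F := K) (q := q)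
    rw [AutPSU.qb_apply, ← hσ] at hc
    obtain ⟨y, hy, hyz⟩ := FormCentral.exists_of_norm_one θ hθ (c := algebraMap K E c) (by
      have h : θ (algebraMap K E c) = algebraMap K E (σ c) := Subtype.ext (htc c)
      rw [h, ← map_sub]
      exact (sub_ne_zero.2 (Ne.symm hc)).isUnit.map _) (z := (⟨U, hUE⟩ : E)) (by
      rw [mul_comm]; exact Subtype.ext htU)
    have hyz' : (y : Matrix (Fin n) (Fin n) K) = t y * U := congrArg Subtype.val hyz
    set M := (P : Matrix (Fin n) (Fin n) K) * (y : Matrix (Fin n) (Fin n) K) with hM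
    have hMh : (M.map σ).transpose = M := by
      rw [hM, st_mul, ← hS]
      conv_rhs => rw [hyz']
      simp [t, hU, mul_assoc]
    have hyA : Commute (y : Matrix (Fin n) (Fin n) K) A := by
      refine (Algebra.commute_of_mem_adjoin_of_forall_mem_commute (a := (A : Matrix (Fin n) (Fin n) K)) y.2 ?_).symm
      intro b hb
      rw [Set.mem_singleton_iff.1 hb]
      exact hUA.symm
    have hMA : ((A : Matrix (Fin n) (Fin n) K).map σ).transpose * M * A = M := by
      rw [hM, mul_assoc, mul_assoc, hyA.eq, ← mul_assoc _ (A : Matrix (Fin n) (Fin n) K), ← mul_assoc, ← mul_assoc,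
        hAP]
    let BM : (Fin n → K) →ₛₗ[σ] (Fin n → K) →ₗ[K] K := (hermB n σ).compl₂ M.mulVecLin
    have hBM : ∀ u v, BM u v = hermB n σ u (M *ᵥ v) := fun u v => rfl
    have hMu : IsUnit M := P.isUnit.mul (hy.map E.val)
    have hflip : FormTorus.IsFlipForm σ 1 BM := by
      constructor
      · intro u v
        rw [hBM, hBM, one_mul]
        first
          | rw [hermB_sigma σ hσσ, hMh]
          | rw [hermB_sigma σ hσσ]; rw [hMh]
      · intro u hu
        refine (hermB_isUnitary hK n hσ hσσ hq2).1.tf.nondeg u fun w => ?_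
        obtain ⟨v, rfl⟩ := Matrix.mulVec_surjective_iff_isUnit.2 hMu w
        exact hu v
    have hσ' : σ = ((AutPSU.qb (F := K) q : K ≃+* K) : K →+* K) := RingHom.ext fun a => by
      rw [hσ]; exact (AutPSU.qb_apply a).symm
    subst hσ'
    obtain ⟨Φ, hΦ⟩ := FormTorus.exists_isometry_fin (q := q) hflip (n := n) (Module.finrank_fin_fun K)
    let C : GL (Fin n) K := Matrix.GeneralLinearGroup.toLin.symm (LinearMap.GeneralLinearGroup.ofLinearEquiv Φ)
    have hC : ∀ v, (C : Matrix (Fin n) (Fin n) K) *ᵥ v = Φ v := fun v =>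
      LinearMap.toMatrix'_mulVec (Φ.toLinearMap : (Fin n → K) →ₗ[K] (Fin n → K)) v
    refine ⟨⟨C * A * C⁻¹, ?_⟩, isConj_iff.2 ⟨C, rfl⟩⟩
    intro u v
    have hu' : ∀ w, ((C * A * C⁻¹ : GL (Fin n) K) : Matrix (Fin n) (Fin n) K) *ᵥ (Φ w) =
        Φ ((A : Matrix (Fin n) (Fin n) K) *ᵥ w) := fun w => by
      rw [← hC, ← hC, mulVec_mulVec, mulVec_mulVec, ← Units.val_mul, ← Units.val_mul, inv_mul_cancel_right]
    obtain ⟨u', rfl⟩ := Φ.surjective u
    obtain ⟨v', rfl⟩ := Φ.surjective v
    show hermForm n K q (((C * A * C⁻¹ : GL (Fin n) K) : Matrix (Fin n) (Fin n) K) *ᵥ Φ u')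
      (((C * A * C⁻¹ : GL (Fin n) K) : Matrix (Fin n) (Fin n) K) *ᵥ Φ v') = hermForm n K q (Φ u') (Φ v')
    rw [hu', hu', ← hΦ, ← hΦ, hBM, hBM, hermB_compl, hermB_compl, mulVec_mulVec, dotProduct_mulVec, dotProduct_mulVec]
    have h3 : (((AutPSU.qb (F := K) q : K ≃+* K) : K →+* K) ∘ ((A : Matrix (Fin n) (Fin n) K) *ᵥ v')) =
        (((AutPSU.qb (F := K) q : K ≃+* K) : K →+* K) ∘ v') ᵥ*
          ((A : Matrix (Fin n) (Fin n) K).map ((AutPSU.qb (F := K) q : K ≃+* K) : K →+* K)).transpose := by
      rw [vecMul_transpose]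
      ext k
      simp [mulVec, dotProduct, map_sum]
    rw [h3,
      vecMul_vecMul, ← mul_assoc, hMA]

end Cfsg.Agent.S2588
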