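import Cfsg.Statements.S2589
import Cfsg.Agent.Lib.FormCentral.SpMatrix
-- import your own Cfsg.Agent.* helpers here

set_option autoImplicit false
open Cfsg

namespace Cfsg.Agent.S2589

/-- Two semisimple elements of the finite symplectic group Sp_2m(F) (elements of order prime to the characteristic) are conjugate in Sp_2m(F) if and only if they are conjugate in GL_2m(F). -/
theorem result {F : Type*} [Field F] [Fintype F] {p : ℕ} [Fact p.Prime] [CharP F p] {m : ℕ} (A B : Matrix.symplecticGroup (Fin m) F) (hA : (orderOf A).Coprime p) : IsConj A B ↔ IsConj (A : Matrix (Fin m ⊕ Fin m) (Fin m ⊕ Fin m) F) (B : Matrix (Fin m ⊕ Fin m) (Fin m ⊕ Fin m) F) := by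
  constructor
  · intro h
    obtain ⟨c, hc⟩ := isConj_iff.1 h
    refine ⟨⟨(c : Matrix (Fin m ⊕ Fin m) (Fin m ⊕ Fin m) F), ((c⁻¹ : Matrix.symplecticGroup (Fin m) F) :
      Matrix (Fin m ⊕ Fin m) (Fin m ⊕ Fin m) F), congrArg Subtype.val (mul_inv_cancel c),
      congrArg Subtype.val (inv_mul_cancel c)⟩, ?_⟩
    exact congrArg Subtype.val (mul_inv_eq_iff_eq_mul.1 hc)
  · rintro ⟨P, hP⟩
    let Pe : (Fin m ⊕ Fin m → F) ≃ₗ[F] (Fin m ⊕ Fin m → F) :=
      (Matrix.GeneralLinearGroup.toLin P).toLinearEquiv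
    refine FormCentral.sp_isConj_of_intertwine A B hA Pe fun v => ?_
    show Matrix.mulVec (P : Matrix (Fin m ⊕ Fin m) (Fin m ⊕ Fin m) F) _ =
      Matrix.mulVec (B : Matrix (Fin m ⊕ Fin m) (Fin m ⊕ Fin m) F)
        (Matrix.mulVec (P : Matrix (Fin m ⊕ Fin m) (Fin m ⊕ Fin m) F) v)
    rw [Matrix.mulVec_mulVec, Matrix.mulVec_mulVec]
    exact congrArg (fun M => Matrix.mulVec M v) hP

end Cfsg.Agent.S2589
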