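import Cfsg.Statements.S2590
import Cfsg.Agent.Lib.FormCentral.Bilin
-- import your own Cfsg.Agent.* helpers here

set_option autoImplicit false
open Cfsg

namespace Cfsg.Agent.S2590

/-- Two semisimple elements of odd order of a finite orthogonal group (isometry group of a quadratic form on F^n with non-degenerate polar form, F finite of characteristic p; the elements have odd order prime to p) are conjugate in the orthogonal group if and only if they are conjugate in GL_n(F). -/
theorem result {F : Type*} [Field F] [Fintype F] {p : ℕ} [Fact p.Prime] [CharP F p] {n : ℕ} (Q : QuadraticForm F (Fin n → F)) (hQ : (QuadraticMap.polarBilin Q).Nondegenerate) (A B : ↥(Cfsg.isometryGroup F ⇑Q)) (hodd : Odd (orderOf A)) (hA : (orderOf A).Coprime p) : IsConj A B ↔ IsConj ((A : Matrix.GeneralLinearGroup (Fin n) F) : Matrix (Fin n) (Fin n) F) ((B : Matrix.GeneralLinearGroup (Fin n) F) : Matrix (Fin n) (Fin n) F) := by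
  constructor
  · intro h
    obtain ⟨c, hc⟩ := isConj_iff.1 h
    refine ⟨(c : Matrix.GeneralLinearGroup (Fin n) F), ?_⟩
    exact congrArg Units.val (congrArg Subtype.val (mul_inv_eq_iff_eq_mul.1 hc) :)
  · rintro ⟨P, hP⟩
    have hk : ((orderOf A : ℕ) : F) ≠ 0 := by
      rw [Ne, CharP.cast_eq_zero_iff F p]
      exact fun h => (Fact.out : p.Prime).not_dvd_one (hA ▸ Nat.dvd_gcd h dvd_rfl)
    have hAk : (Matrix.toLinAlgEquiv' ((A : Matrix.GeneralLinearGroup (Fin n) F) : Matrix (Fin n) (Fin n) F)) ^
        orderOf A = 1 := by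
      rw [← map_pow, ← Units.val_pow_eq_pow_val, ← SubmonoidClass.coe_pow, pow_orderOf_eq_one]
      exact map_one _
    obtain ⟨g, hg, hgA⟩ := FormCentral.exists_orth_intertwine hQ _
      (Matrix.toLinAlgEquiv' ((B : Matrix.GeneralLinearGroup (Fin n) F) : Matrix (Fin n) (Fin n) F))
      (fun v => A.2 v v) (fun v => B.2 v v) (Matrix.GeneralLinearGroup.toLin P).toLinearEquiv (fun v => by
        show Matrix.mulVec (P : Matrix (Fin n) (Fin n) F) _ =
          Matrix.mulVec ((B : Matrix.GeneralLinearGroup (Fin n) F) : Matrix (Fin n) (Fin n) F)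
            (Matrix.mulVec (P : Matrix (Fin n) (Fin n) F) v)
        rw [Matrix.mulVec_mulVec]
        exact (Matrix.mulVec_mulVec _ _ _).trans (congrArg (fun M => Matrix.mulVec M v) hP)) hodd hk hAk
    refine isConj_iff.2 ⟨(FormsLib.oEquiv Q).symm ⟨g, hg⟩, mul_inv_eq_iff_eq_mul.2 ?_⟩
    apply (FormsLib.oEquiv Q).injective
    rw [map_mul, map_mul, MulEquiv.apply_symm_apply]
    exact Subtype.ext (LinearEquiv.ext fun v => hgA v)

end Cfsg.Agent.S2590
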