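import Cfsg.Statements.S2676
import Cfsg.Agent.Lib.Forms.UnipotentForms
import Cfsg.Agent.S2570

set_option autoImplicit false
open Classical
open Cfsg

namespace Cfsg.Agent.S2676

open scoped Matrix
open Cfsg.Agent.JordanType Cfsg.Agent.S2581 Cfsg.Agent.UnipotentForms
open Cfsg.Agent.UnipotentCentralizer (block)
open Cfsg.Agent.S2570 (dd map_dd dd_mem card_idx count_identity count_eq_card exists_idx_equiv sub_one_pow_eq shift_pow_zero)

variable {F : Type*} [Field F] [Fintype F] {m : ℕ}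

omit [Fintype F] in
theorem conj_pow' {ι κ : Type*} [Fintype ι] [DecidableEq ι] [Fintype κ] [DecidableEq κ]
    (M : Matrix ι κ F) (N : Matrix κ ι F) (hMN : M * N = 1) (hNM : N * M = 1) (X : Matrix ι ι F) (k : ℕ) :
    (N * X * M) ^ k = N * X ^ k * M := by
  induction k with
  | zero => rw [pow_zero, pow_zero, Matrix.mul_one, hNM]
  | succ k ih =>
    rw [pow_succ, ih, pow_succ]
    calc N * X ^ k * M * (N * X * M) = N * X ^ k * (M * N) * X * M := by simp only [Matrix.mul_assoc]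
      _ = _ := by rw [hMN, Matrix.mul_one]; simp only [Matrix.mul_assoc]

theorem isSquare_mul_nonsquares (h2 : (2 : F) ≠ 0) {a b : F} (ha : ¬ IsSquare a) (hb : ¬ IsSquare b) :
    IsSquare (a * b) := by
  have hring : ringChar F ≠ 2 := fun hh => h2 (by
    have := CharP.cast_eq_zero F (ringChar F); rw [hh] at this; exact_mod_cast this)
  have ha0 : a ≠ 0 := fun h => ha (h ▸ IsSquare.zero)
  have hb0 : b ≠ 0 := fun h => hb (h ▸ IsSquare.zero)
  rw [FiniteField.isSquare_iff hring (mul_ne_zero ha0 hb0), mul_pow]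
  rw [FiniteField.isSquare_iff hring ha0] at ha
  rw [FiniteField.isSquare_iff hring hb0] at hb
  rw [(FiniteField.pow_dichotomy hring ha0).resolve_left ha, (FiniteField.pow_dichotomy hring hb0).resolve_left hb]
  ring

variable (m) in
/-- The even parts. -/
def evenParts (μ : Nat.Partition (2 * m)) : Finset ℕ := μ.parts.toFinset.filter fun j => Even j

omit [Fintype F] in
theorem exists_block (μ : Nat.Partition (2 * m)) {i : ℕ} (hi : i ∈ evenParts m μ) : ∃ k, dd μ k = i := by
  have h : i ∈ μ.parts := Multiset.mem_toFinset.1 (Finset.mem_filter.1 hi).1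
  rw [← map_dd μ, Multiset.mem_map] at h
  obtain ⟨k, -, hk⟩ := h
  exact ⟨k, hk⟩

/-- Scalings of the blocks. -/
noncomputable def scal (μ : Nat.Partition (2 * m)) (ν : F) (b : ↥(evenParts m μ) → Bool)
    (k : Fin μ.parts.toList.length) : F :=
  if h : dd μ k ∈ evenParts m μ then
    (if b ⟨dd μ k, h⟩ = true ∧ k = (exists_block μ h).choose then ν else 1) else 1

theorem scal_ne (μ : Nat.Partition (2 * m)) {ν : F} (hν : ν ≠ 0) (b : ↥(evenParts m μ) → Bool) (k) :
    scal μ ν b k ≠ 0 := by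
  unfold scal
  split_ifs <;> simp [hν]

theorem prod_scal (μ : Nat.Partition (2 * m)) (ν : F) (b : ↥(evenParts m μ) → Bool)
    (i : Fin (Finset.univ.sup (dd μ) + 1)) (hi : (i : ℕ) ∈ evenParts m μ) :
    ∏ k : KB (dd μ) i, scal μ ν b k.1 = if b ⟨i, hi⟩ = true then ν else 1 := by
  classical
  have hk0 := (exists_block μ hi).choose_spec
  have key : ∀ (k : KB (dd μ) i), scal μ ν b k.1 =
      if b ⟨i, hi⟩ = true ∧ k.1 = (exists_block μ hi).choose then ν else 1 := by
    rintro ⟨k, hk⟩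
    obtain ⟨i, hi'⟩ := i
    change dd μ k = i at hk
    subst hk
    show scal μ ν b k = _
    rw [scal, dif_pos hi]
  rw [Finset.prod_congr rfl fun k _ => key k, Finset.prod_eq_single ⟨_, hk0⟩]
  · simp
  · intro k _ hne
    rw [if_neg]
    exact fun h => hne (Subtype.ext h.2)
  · simp

omit [Fintype F] in
theorem conj_of_congr {t : ℕ} {d : Fin t → ℕ} {G G' X : Matrix (Idx d) (Idx d) F}
    {M : Matrix (Idx d) (Fin m ⊕ Fin m) F} {N : Matrix (Fin m ⊕ Fin m) (Idx d) F}
    {M' : Matrix (Idx d) (Fin m ⊕ Fin m) F} {N' : Matrix (Fin m ⊕ Fin m) (Idx d) F}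
    (A A' : Matrix.symplecticGroup (Fin m) F) (hMN : M * N = 1) (hMN' : M' * N' = 1)
    (hG : Mᵀ * G * M = Matrix.J (Fin m) F) (hG' : M'ᵀ * G' * M' = Matrix.J (Fin m) F)
    (hA : (A : Matrix (Fin m ⊕ Fin m) (Fin m ⊕ Fin m) F) = N * Cfsg.jordanTypeMatrix d F * M)
    (hA' : (A' : Matrix (Fin m ⊕ Fin m) (Fin m ⊕ Fin m) F) = N' * Cfsg.jordanTypeMatrix d F * M')
    (hX : Commute (shift F d) X) (hXG : Xᵀ * G * X = G') : IsConj A' A := by
  classical
  have hP : N * X * M' ∈ Matrix.symplecticGroup (Fin m) F := by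
    rw [SymplecticGroup.mem_iff', ← hG]
    calc (N * X * M')ᵀ * (Mᵀ * G * M) * (N * X * M') = M'ᵀ * (Xᵀ * (M * N)ᵀ * G * (M * N) * X) * M' := by
          simp only [Matrix.transpose_mul, Matrix.mul_assoc]
      _ = M'ᵀ * G' * M' := by rw [hMN, Matrix.transpose_one, Matrix.mul_one, Matrix.mul_one, hXG]
      _ = _ := by rw [hG', hG]
  refine isConj_iff.2 ⟨⟨_, hP⟩, mul_inv_eq_iff_eq_mul.2 (Subtype.ext ?_)⟩
  show N * X * M' * (A' : Matrix (Fin m ⊕ Fin m) (Fin m ⊕ Fin m) F) = (A : Matrix (Fin m ⊕ Fin m) (Fin m ⊕ Fin m) F) * (N * X * M')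
  have hXJ : X * Cfsg.jordanTypeMatrix d F = Cfsg.jordanTypeMatrix d F * X := (commute_iff X).2 hX
  rw [hA, hA']
  calc N * X * M' * (N' * Cfsg.jordanTypeMatrix d F * M')
      = N * (X * (M' * N') * Cfsg.jordanTypeMatrix d F) * M' := by simp only [Matrix.mul_assoc]
    _ = N * (Cfsg.jordanTypeMatrix d F * (M * N) * X) * M' := by
        rw [hMN', Matrix.mul_one, hXJ, hMN, Matrix.mul_one]
    _ = _ := by simp only [Matrix.mul_assoc]

theorem sub_one_eq {t : ℕ} {d : Fin t → ℕ} {M : Matrix (Idx d) (Fin m ⊕ Fin m) F}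
    {N : Matrix (Fin m ⊕ Fin m) (Idx d) F} (hNM : N * M = 1) :
    N * Cfsg.jordanTypeMatrix d F * M - 1 = N * shift F d * M := by
  rw [shift, Matrix.mul_sub, Matrix.sub_mul, Matrix.mul_one, hNM]

theorem rank_eq {t : ℕ} {d : Fin t → ℕ} {M : Matrix (Idx d) (Fin m ⊕ Fin m) F}
    {N : Matrix (Fin m ⊕ Fin m) (Idx d) F} (hMN : M * N = 1) (hNM : N * M = 1) (j : ℕ) :
    ((N * Cfsg.jordanTypeMatrix d F * M - 1) ^ j).rank = ∑ k, (d k - j) := by
  classical
  rw [sub_one_eq hNM, conj_pow' M N hMN hNM, ← rank_shift_pow (F := F)]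
  refine le_antisymm ((Matrix.rank_mul_le_left _ _).trans (Matrix.rank_mul_le_right _ _)) ?_
  conv_lhs => rw [show shift F d ^ j = M * (N * shift F d ^ j * M) * N by
    rw [← Matrix.mul_assoc, ← Matrix.mul_assoc, hMN, Matrix.one_mul, Matrix.mul_assoc, hMN, Matrix.mul_one]]
  exact (Matrix.rank_mul_le_left _ _).trans (Matrix.rank_mul_le_right _ _)

/-- Number of conjugacy classes of elements of order p in Sp_2m(q), q a power of the odd prime p: the classes correspond to the signed partitions of 2m — partitions with all parts at most p in which every odd part has even multiplicity, each even part size that occurs carrying a sign — other than the all-ones partition; so the count is the sum over such partitions of 2^(number of distinct even parts), minus one. -/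
theorem result {F : Type*} [Field F] [Fintype F] {p : ℕ} [Fact p.Prime] [CharP F p] (hp : p ≠ 2) (m : ℕ) : Nat.card {C : ConjClasses ↥(Matrix.symplecticGroup (Fin m) F) // ∃ g : Matrix.symplecticGroup (Fin m) F, ConjClasses.mk g = C ∧ orderOf g = p} = (∑ μ ∈ Finset.univ.filter (fun μ : Nat.Partition (2 * m) => (∀ a ∈ μ.parts, a ≤ p) ∧ ∀ j : ℕ, Odd j → Even (μ.parts.count j)), 2 ^ ((μ.parts.toFinset.filter (fun j : ℕ => Even j)).card)) - 1 := by
  classical
  have hpp : p.Prime := Fact.out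
  have h2 : (2 : F) ≠ 0 := fun h => hp ((Nat.prime_dvd_prime_iff_eq hpp Nat.prime_two).1
    ((CharP.cast_eq_zero_iff F p 2).1 (by exact_mod_cast h)))
  obtain ⟨ν, hν⟩ := FiniteField.exists_nonsquare (F := F) (fun hc => hp ((ringChar.eq F p).symm.trans hc))
  have hν0 : ν ≠ 0 := fun h => hν (h ▸ IsSquare.zero)
  set S := Finset.univ.filter (fun μ : Nat.Partition (2 * m) =>
    (∀ a ∈ μ.parts, a ≤ p) ∧ ∀ j : ℕ, Odd j → Even (μ.parts.count j)) with hS
  let ones : Nat.Partition (2 * m) := ⟨Multiset.replicate (2 * m) 1, fun h => by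
    rw [Multiset.eq_of_mem_replicate h]; exact one_pos, by simp⟩
  have hones : ones ∈ S := by
    simp only [hS, Finset.mem_filter, Finset.mem_univ, true_and]
    refine ⟨fun a ha => by rw [Multiset.eq_of_mem_replicate ha]; exact hpp.one_le, fun j _ => ?_⟩
    show Even ((Multiset.replicate (2 * m) 1).count j)
    rw [Multiset.count_replicate]
    split_ifs
    exacts [even_two_mul m, ⟨0, rfl⟩]
  have hE1 : evenParts m ones = ∅ := Finset.filter_eq_empty_iff.2 fun j hj => by
    rw [Multiset.eq_of_mem_replicate (Multiset.mem_toFinset.1 hj)]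
    decide
  let T := (μ : ↥(S.erase ones)) × (↥(evenParts m μ.1) → Bool)
  have hT : Nat.card T = (∑ μ ∈ S, 2 ^ (evenParts m μ).card) - 1 := by
    rw [Nat.card_sigma, ← Finset.add_sum_erase S _ hones, hE1, Finset.card_empty, pow_zero,
      Nat.add_sub_cancel_left, Finset.sum_coe_sort (S.erase ones) fun μ => Nat.card (↥(evenParts m μ) → Bool)]
    refine Finset.sum_congr rfl fun μ _ => ?_
    rw [Nat.card_fun, Nat.card_eq_fintype_card, Fintype.card_bool, Nat.card_eq_finsetCard]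
  rw [show (∑ μ ∈ S, 2 ^ ((μ.parts.toFinset.filter (fun j : ℕ => Even j)).card)) - 1 = Nat.card T from hT.symm]
  -- representatives
  have hd : ∀ μ : Nat.Partition (2 * m), ∀ k, 1 ≤ dd μ k := fun μ k => μ.parts_pos (dd_mem μ k)
  have hcard : ∀ μ : Nat.Partition (2 * m), Fintype.card (Idx (dd μ)) = m + m := fun μ => by
    rw [card_idx μ, two_mul]
  have hSmem : ∀ μ : ↥(S.erase ones), (∀ a ∈ μ.1.parts, a ≤ p) ∧ ∀ j : ℕ, Odd j → Even (μ.1.parts.count j) :=
    fun μ => (Finset.mem_filter.1 (Finset.mem_erase.1 μ.2).2).2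
  have hrep : ∀ x : T, ∃ (G : Matrix (Idx (dd x.1.1)) (Idx (dd x.1.1)) F)
      (M : Matrix (Idx (dd x.1.1)) (Fin m ⊕ Fin m) F) (N : Matrix (Fin m ⊕ Fin m) (Idx (dd x.1.1)) F)
      (A : Matrix.symplecticGroup (Fin m) F),
      (Alt G ∧ IsUnit G ∧ (1 + (shift F (dd x.1.1))ᵀ) * G * (1 + shift F (dd x.1.1)) = G) ∧
      (∀ i : Fin (Finset.univ.sup (dd x.1.1) + 1), Even (i : ℕ) → block (hd x.1.1) G i =
        Matrix.diagonal fun k : KB (dd x.1.1) i => scal x.1.1 ν x.2 k.1 * (-1) ^ ((i : ℕ) - 1)) ∧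
      M * N = 1 ∧ N * M = 1 ∧ Mᵀ * G * M = Matrix.J (Fin m) F ∧
      (A : Matrix (Fin m ⊕ Fin m) (Fin m ⊕ Fin m) F) = N * Cfsg.jordanTypeMatrix (dd x.1.1) F * M := by
    intro x
    obtain ⟨G, hG, hu, hJ, hB⟩ := exists_model (K := F) (dd x.1.1) (hd x.1.1) (fun j hj => by
      rw [← count_eq_card, map_dd]; exact (hSmem x.1).2 j hj) (scal x.1.1 ν x.2) (scal_ne _ hν0 _)
    obtain ⟨M, N, A, h1, h2, h3, h4⟩ := exists_symplectic_of_form (hcard x.1.1) hJ hG hu
    exact ⟨G, M, N, A, ⟨hG, hu, hJ⟩, hB, h1, h2, h3, h4⟩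
  choose G M N A hG hB hMN hNM hMG hA using hrep
  have hAo : ∀ x, orderOf (A x) = p := by
    intro x
    refine orderOf_eq_prime (Subtype.ext ?_) fun h1 => ?_
    · rw [SubmonoidClass.coe_pow]
      show (A x : Matrix (Fin m ⊕ Fin m) (Fin m ⊕ Fin m) F) ^ p = 1
      rw [← sub_eq_zero, ← sub_one_pow_eq, hA, sub_one_eq (hNM x), conj_pow' _ _ (hMN x) (hNM x),
        shift_pow_zero _ _ (fun k => (hSmem x.1).1 _ (dd_mem _ k)), Matrix.mul_zero, Matrix.zero_mul]
    · have h2 := rank_eq (hMN x) (hNM x) 1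
      rw [← hA, h1, OneMemClass.coe_one, sub_self, pow_one, Matrix.rank_zero] at h2
      refine (Finset.mem_erase.1 x.1.2).1 (Nat.Partition.ext ?_)
      have hall : ∀ a ∈ x.1.1.parts, a = 1 := fun a ha => by
        rw [← map_dd x.1.1, Multiset.mem_map] at ha
        obtain ⟨k, -, rfl⟩ := ha
        have h3 := (Finset.sum_eq_zero_iff.1 h2.symm) k (Finset.mem_univ k)
        have := hd x.1.1 k
        omega
      have hc := Multiset.eq_replicate_card.2 hall
      have hsum := x.1.1.parts_sum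
      rw [hc, Multiset.sum_replicate, smul_eq_mul, mul_one] at hsum
      rw [hc, hsum]
  refine (Nat.card_eq_of_bijective (fun x => (⟨ConjClasses.mk (A x), A x, rfl, hAo x⟩ :
    {C : ConjClasses ↥(Matrix.symplecticGroup (Fin m) F) // ∃ g : Matrix.symplecticGroup (Fin m) F,
      ConjClasses.mk g = C ∧ orderOf g = p})) ⟨?_, ?_⟩).symm
  · intro x y hxy
    obtain ⟨P, hP⟩ := isConj_iff.1 (ConjClasses.mk_eq_mk_iff_isConj.1 (congrArg Subtype.val hxy))
    have hP' : (P : Matrix (Fin m ⊕ Fin m) (Fin m ⊕ Fin m) F) * (A x : Matrix (Fin m ⊕ Fin m) (Fin m ⊕ Fin m) F) =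
        (A y : Matrix (Fin m ⊕ Fin m) (Fin m ⊕ Fin m) F) * (P : Matrix (Fin m ⊕ Fin m) (Fin m ⊕ Fin m) F) := by
      rw [← Submonoid.coe_mul, ← Submonoid.coe_mul, mul_inv_eq_iff_eq_mul.1 hP]
    have hμ : x.1 = y.1 := by
      have hPu : IsUnit (P : Matrix (Fin m ⊕ Fin m) (Fin m ⊕ Fin m) F).det :=
        SymplecticGroup.symplectic_det P.2
      have hr : ∀ j, ((Finset.univ.val.map (dd x.1.1)).map (· - j)).sum =
          ((Finset.univ.val.map (dd y.1.1)).map (· - j)).sum := fun j => by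
        rw [Multiset.map_map, Multiset.map_map]
        refine (rank_eq (hMN x) (hNM x) j).symm.trans (Eq.trans ?_ (rank_eq (hMN y) (hNM y) j))
        rw [← hA, ← hA]
        have h1 : ((A y : Matrix (Fin m ⊕ Fin m) (Fin m ⊕ Fin m) F) - 1) ^ j * (P : Matrix (Fin m ⊕ Fin m) (Fin m ⊕ Fin m) F) =
            (P : Matrix (Fin m ⊕ Fin m) (Fin m ⊕ Fin m) F) * ((A x : Matrix (Fin m ⊕ Fin m) (Fin m ⊕ Fin m) F) - 1) ^ j := by
          refine (SemiconjBy.pow_right (show SemiconjBy (P : Matrix (Fin m ⊕ Fin m) (Fin m ⊕ Fin m) F)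
            ((A x : Matrix (Fin m ⊕ Fin m) (Fin m ⊕ Fin m) F) - 1) ((A y : Matrix (Fin m ⊕ Fin m) (Fin m ⊕ Fin m) F) - 1) from ?_) j).symm
          show _ * _ = _ * _
          rw [mul_sub, sub_mul, mul_one, one_mul, hP']
        rw [← Matrix.rank_mul_eq_right_of_isUnit_det _ _ hPu, ← h1,
          Matrix.rank_mul_eq_left_of_isUnit_det _ _ hPu]
      refine Subtype.ext (Nat.Partition.ext (Multiset.ext.2 fun i => ?_))
      rcases Nat.eq_zero_or_pos i with rfl | hi
      · rw [Multiset.count_eq_zero_of_notMem fun h0 => absurd (x.1.1.parts_pos h0) (lt_irrefl _),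
          Multiset.count_eq_zero_of_notMem fun h0 => absurd (y.1.1.parts_pos h0) (lt_irrefl _)]
      · rw [← map_dd x.1.1, ← map_dd y.1.1]
        have h1 := count_identity (Finset.univ.val.map (dd x.1.1)) i hi
        have h2 := count_identity (Finset.univ.val.map (dd y.1.1)) i hi
        rw [hr, hr, hr] at h1
        omega
    obtain ⟨μ, b⟩ := x
    obtain ⟨μ', b'⟩ := y
    change μ = μ' at hμ
    subst hμ
    set x : T := ⟨μ, b⟩
    set y : T := ⟨μ, b'⟩
    set X := M y * (P : Matrix (Fin m ⊕ Fin m) (Fin m ⊕ Fin m) F) * N x with hX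
    have hXc : Commute (shift F (dd μ.1)) X := by
      refine (commute_iff X).1 ?_
      have e1 : (A x : Matrix (Fin m ⊕ Fin m) (Fin m ⊕ Fin m) F) * N x = N x * Cfsg.jordanTypeMatrix (dd μ.1) F := by
        rw [hA x, Matrix.mul_assoc, hMN x, Matrix.mul_one]
      have e2 : M y * (A y : Matrix (Fin m ⊕ Fin m) (Fin m ⊕ Fin m) F) = Cfsg.jordanTypeMatrix (dd μ.1) F * M y := by
        rw [hA y, ← Matrix.mul_assoc, ← Matrix.mul_assoc, hMN y, Matrix.one_mul]
      calc X * Cfsg.jordanTypeMatrix (dd μ.1) F = M y * ((P : Matrix (Fin m ⊕ Fin m) (Fin m ⊕ Fin m) F) * (A x : Matrix (Fin m ⊕ Fin m) (Fin m ⊕ Fin m) F)) * N x := by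
            rw [hX, Matrix.mul_assoc _ (N x), ← e1]; simp only [Matrix.mul_assoc]
        _ = M y * (A y : Matrix (Fin m ⊕ Fin m) (Fin m ⊕ Fin m) F) * ((P : Matrix (Fin m ⊕ Fin m) (Fin m ⊕ Fin m) F) * N x) := by rw [hP']; simp only [Matrix.mul_assoc]
        _ = _ := by rw [e2, hX]; simp only [Matrix.mul_assoc]; rfl
    have hXG : Xᵀ * G y * X = G x := by
      have e : ∀ z : T, G z = (N z)ᵀ * Matrix.J (Fin m) F * N z := fun z => by
        rw [← hMG z]
        calc G z = (M z * N z)ᵀ * G z * (M z * N z) := by rw [hMN z, Matrix.transpose_one, Matrix.one_mul, Matrix.mul_one]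
          _ = _ := by simp only [Matrix.transpose_mul, Matrix.mul_assoc]
      rw [hX, e x, e y]
      calc (M y * (P : Matrix (Fin m ⊕ Fin m) (Fin m ⊕ Fin m) F) * N x)ᵀ * ((N y)ᵀ * Matrix.J (Fin m) F * N y) * (M y * (P : Matrix (Fin m ⊕ Fin m) (Fin m ⊕ Fin m) F) * N x)
          = (N x)ᵀ * ((P : Matrix (Fin m ⊕ Fin m) (Fin m ⊕ Fin m) F)ᵀ * (N y * M y)ᵀ * Matrix.J (Fin m) F * (N y * M y) * (P : Matrix (Fin m ⊕ Fin m) (Fin m ⊕ Fin m) F)) * N x := by
            simp only [Matrix.transpose_mul, Matrix.mul_assoc]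
        _ = _ := by rw [hNM y, Matrix.transpose_one, Matrix.mul_one, Matrix.mul_one, SymplecticGroup.mem_iff'.1 P.2]
    have hb : b = b' := by
      funext ⟨i, hi⟩
      have hisup : i < Finset.univ.sup (dd μ.1) + 1 := by
        obtain ⟨k, hk⟩ := exists_block μ.1 hi
        rw [← hk]
        exact Nat.lt_succ_of_le (Finset.le_sup (Finset.mem_univ k))
      have hev : Even i := (Finset.mem_filter.1 hi).2
      have hbt := block_transform (hd μ.1) (hG y).2.2 (hG y).1.sym (hG y).2.1 hXc ⟨i, hisup⟩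
      rw [hXG, hB x _ hev, hB y _ hev] at hbt
      have hdet := congrArg Matrix.det hbt
      rw [Matrix.det_mul, Matrix.det_mul, Matrix.det_transpose, Matrix.det_diagonal, Matrix.det_diagonal,
        Finset.prod_mul_distrib, Finset.prod_mul_distrib, prod_scal _ _ _ _ hi, prod_scal _ _ _ _ hi] at hdet
      have hc0 : (∏ _k : KB (dd μ.1) (⟨i, hisup⟩ : Fin (Finset.univ.sup (dd μ.1) + 1)), (-1 : F) ^ (i - 1)) ≠ 0 :=
        Finset.prod_ne_zero_iff.2 fun _ _ => pow_ne_zero _ (neg_ne_zero.2 one_ne_zero)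
      set D := Matrix.det (proj (hd μ.1) X ⟨i, hisup⟩)
      have h3 : (if b ⟨i, hi⟩ = true then ν else 1) = (if b' ⟨i, hi⟩ = true then ν else 1) * (D * D) :=
        mul_right_cancel₀ hc0 (hdet.trans (by ring))
      cases hb1 : b ⟨i, hi⟩ <;> cases hb2 : b' ⟨i, hi⟩ <;> simp only [hb1, hb2, Bool.false_eq_true, if_true, if_false] at h3 <;> first
        | rfl
        | exact absurd ⟨D, by rw [h3, one_mul]⟩ hν
        | (exfalso
           have hD : D ≠ 0 := fun h0 => by rw [h0] at h3; simp at h3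
           exact hν ⟨D⁻¹, by field_simp; linear_combination -h3⟩)
    subst hb
    rfl
  · rintro ⟨C, g, rfl, hg⟩
    have hgp : ((g : Matrix (Fin m ⊕ Fin m) (Fin m ⊕ Fin m) F) - 1) ^ p = 0 := by
      rw [sub_one_pow_eq, ← SubmonoidClass.coe_pow, ← hg, pow_orderOf_eq_one, OneMemClass.coe_one, sub_self]
    obtain ⟨t, d, σ, P, hdp, hAP⟩ := exists_normal_form (g : Matrix (Fin m ⊕ Fin m) (Fin m ⊕ Fin m) F) p hgp
    have hsum : (Finset.univ.val.map d).sum = 2 * m := by
      rw [← Finset.sum_eq_multiset_sum]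
      have h0 := Fintype.card_congr σ
      rw [Fintype.card_sum, Fintype.card_fin] at h0
      simpa [two_mul] using h0
    set μ := Nat.Partition.ofSums (2 * m) (Finset.univ.val.map d) hsum with hμdef
    have hcnt : ∀ i, 1 ≤ i → (Finset.univ.filter fun k => dd μ k = i).card =
        (Finset.univ.filter fun k => d k = i).card := fun i hi => by
      rw [← count_eq_card, ← count_eq_card, map_dd]
      show (Multiset.filter _ (Finset.univ.val.map d)).count i = _
      exact Multiset.count_filter_of_pos (show i ≠ 0 by omega)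
    obtain ⟨τ, hτ⟩ := exists_idx_equiv (F := F) (dd μ) d hcnt
    set π : Idx (dd μ) ≃ Fin m ⊕ Fin m := τ.trans σ
    set U : Matrix (Fin m ⊕ Fin m) (Idx (dd μ)) F := P.1.submatrix id π
    set V : Matrix (Idx (dd μ)) (Fin m ⊕ Fin m) F := (P⁻¹).1.submatrix π id
    have hUV : U * V = 1 := by
      rw [show U * V = P.1 * (P⁻¹).1 from Matrix.submatrix_mul_equiv P.1 (P⁻¹).1 id π id, Units.mul_inv]
    have hVU : V * U = 1 := by
      rw [show V * U = ((P⁻¹).1 * P.1).submatrix π π from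
        (Matrix.submatrix_mul_equiv (P⁻¹).1 P.1 π (Equiv.refl _) π), Units.inv_mul, Matrix.submatrix_one_equiv]
    have hgU : (g : Matrix (Fin m ⊕ Fin m) (Fin m ⊕ Fin m) F) * U = U * Cfsg.jordanTypeMatrix (dd μ) F := by
      rw [show (g : Matrix (Fin m ⊕ Fin m) (Fin m ⊕ Fin m) F) * U =
        ((g : Matrix (Fin m ⊕ Fin m) (Fin m ⊕ Fin m) F) * P.1).submatrix id π from rfl, hAP]
      ext a b
      simp only [U, Matrix.mul_apply, Matrix.submatrix_apply, id, Matrix.reindex_apply]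
      refine (Fintype.sum_equiv π _ _ fun k => ?_).symm
      have h := hτ k b
      simp only [shift, Matrix.sub_apply, Matrix.one_apply, τ.injective.eq_iff] at h
      simp [π, sub_left_inj.1 h]
    obtain ⟨hJg, hGg, hug⟩ := form_of_symplectic g U V hUV hgU
    set Gg := Uᵀ * Matrix.J (Fin m) F * U with hGgdef
    have hμS : μ ∈ S := by
      simp only [hS, Finset.mem_filter, Finset.mem_univ, true_and]
      refine ⟨fun a ha => ?_, fun j hj => ?_⟩
      · simp only [μ, Nat.Partition.ofSums] at ha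
        obtain ⟨k, -, rfl⟩ := Multiset.mem_map.1 (Multiset.mem_filter.1 ha).1
        exact hdp k
      · by_cases hjm : j ∈ μ.parts
        · have hjs : j < Finset.univ.sup (dd μ) + 1 := by
            rw [← map_dd μ, Multiset.mem_map] at hjm
            obtain ⟨k, -, rfl⟩ := hjm
            exact Nat.lt_succ_of_le (Finset.le_sup (Finset.mem_univ k))
          have h := even_card_of_odd (hd μ) hJg hGg (hug hVU) ⟨j, hjs⟩ hj
          rwa [Fintype.card_subtype, ← count_eq_card, map_dd] at h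
        · rw [Multiset.count_eq_zero_of_notMem hjm]; exact ⟨0, rfl⟩
    have hne : μ ≠ ones := by
      intro e
      have h1 : shift F (dd μ) ^ 1 = 0 := shift_pow_zero _ _ fun k => by
        have h5 : dd μ k ∈ ones.parts := e ▸ dd_mem μ k
        exact (Multiset.eq_of_mem_replicate h5).le
      rw [pow_one, shift, sub_eq_zero] at h1
      rw [h1, Matrix.mul_one] at hgU
      have : g = 1 := Subtype.ext (by
        calc (g : Matrix (Fin m ⊕ Fin m) (Fin m ⊕ Fin m) F) = (g : Matrix (Fin m ⊕ Fin m) (Fin m ⊕ Fin m) F) * U * V := by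
              rw [Matrix.mul_assoc, hUV, Matrix.mul_one]
          _ = 1 := by rw [hgU, hUV])
      rw [this, orderOf_one] at hg
      exact hpp.ne_one hg.symm
    let b : ↥(evenParts m μ) → Bool := fun i => decide (¬ IsSquare
      (Matrix.det (block (hd μ) Gg ⟨i.1, by
        obtain ⟨k, hk⟩ := exists_block μ i.2
        rw [← hk]; exact Nat.lt_succ_of_le (Finset.le_sup (Finset.mem_univ k))⟩) *
        ((-1 : F) ^ (i.1 - 1)) ^ (Finset.univ.filter fun k => dd μ k = i.1).card))
    refine ⟨⟨⟨μ, Finset.mem_erase.2 ⟨hne, hμS⟩⟩, b⟩, Subtype.ext (ConjClasses.mk_eq_mk_iff_isConj.2 ?_)⟩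
    set x : T := ⟨⟨μ, Finset.mem_erase.2 ⟨hne, hμS⟩⟩, b⟩
    have hblk : ∀ i, ∃ y, yᵀ * block (hd μ) Gg i * y = block (hd μ) (G x) i := by
      intro i
      have hu1 := ((Matrix.isUnit_iff_isUnit_det _).1 (block_isUnit (hd μ) hJg hGg.sym (hug hVU) i)).ne_zero
      have hu2 := ((Matrix.isUnit_iff_isUnit_det _).1 (block_isUnit (hd μ) (hG x).2.2 (hG x).1.sym (hG x).2.1 i)).ne_zero
      have ht1 := hGg.block_transpose (hd μ) hJg i
      have ht2 := (hG x).1.block_transpose (hd μ) (hG x).2.2 i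
      rcases Nat.even_or_odd (i : ℕ) with hev | hodd
      · by_cases hi : (i : ℕ) ∈ evenParts m μ
        · refine exists_congr_sym h2 _ _ (by rw [ht1.1, hev.neg_one_pow, one_smul])
            (by rw [ht2.1, hev.neg_one_pow, one_smul]) hu1 hu2 ?_
          rw [hB x i hev, Matrix.det_diagonal, Finset.prod_mul_distrib, prod_scal μ ν b i hi, Finset.prod_const,
            Finset.card_univ, Fintype.card_subtype]
          have hbi : b ⟨i, hi⟩ = decide (¬ IsSquare (Matrix.det (block (hd μ) Gg i) *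
              ((-1 : F) ^ ((i : ℕ) - 1)) ^ (Finset.univ.filter fun k => dd μ k = (i : ℕ)).card)) := rfl
          rw [mul_left_comm]
          by_cases hsq : IsSquare (Matrix.det (block (hd μ) Gg i) *
              ((-1 : F) ^ ((i : ℕ) - 1)) ^ (Finset.univ.filter fun k => dd μ k = (i : ℕ)).card)
          · rw [hbi, decide_eq_false (not_not_intro hsq), if_neg (by simp), one_mul]
            exact hsq
          · rw [hbi, decide_eq_true hsq, if_pos rfl]
            exact isSquare_mul_nonsquares h2 hν hsq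
        · haveI : IsEmpty (KB (dd μ) i) := ⟨fun k => hi (Finset.mem_filter.2
            ⟨Multiset.mem_toFinset.2 (k.2 ▸ dd_mem μ k.1), hev⟩)⟩
          exact ⟨1, Subsingleton.elim _ _⟩
      · exact exists_congr_alt _ _ ⟨by rw [ht1.1, hodd.neg_one_pow, neg_smul, one_smul], ht1.2 hodd⟩
          ⟨by rw [ht2.1, hodd.neg_one_pow, neg_smul, one_smul], ht2.2 hodd⟩ hu1 hu2
    obtain ⟨X, hXc, -, hXG⟩ := exists_congr h2 (hd μ) hJg hGg (hug hVU) (hG x).2.2 (hG x).1 (hG x).2.1 hblk
    refine conj_of_congr g (A x) (M := V) (N := U) hVU (hMN x) ?_ (hMG x) ?_ (hA x) hXc hXG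
    · calc Vᵀ * Gg * V = (U * V)ᵀ * Matrix.J (Fin m) F * (U * V) := by
            rw [hGgdef]; simp only [Matrix.transpose_mul, Matrix.mul_assoc]
        _ = _ := by rw [hUV, Matrix.transpose_one, Matrix.one_mul, Matrix.mul_one]
    · rw [← hgU, Matrix.mul_assoc, hUV, Matrix.mul_one]

end Cfsg.Agent.S2676
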