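import Cfsg.Statements.S2591
import Cfsg.Agent.Lib.Forms.SpRegular
import Cfsg.Agent.S2676
-- import your own Cfsg.Agent.* helpers here

set_option autoImplicit false
open Cfsg

namespace Cfsg.Agent.S2591

open scoped Matrix
open Cfsg.Agent.JordanType Cfsg.Agent.S2581 Cfsg.Agent.UnipotentForms Cfsg.Agent.SpRegular
open Cfsg.Agent.UnipotentCentralizer (block)
open Cfsg.Agent.S2676 (conj_of_congr sub_one_eq conj_pow' rank_eq isSquare_mul_nonsquares)

set_option maxHeartbeats 1000000 in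
/-- Over a finite field of odd order and for m ≥ 1, the regular unipotent elements of Sp_2m(F) (u − 1 nilpotent of rank 2m − 1, a single Jordan block) form exactly two conjugacy classes of Sp_2m(F) (one class under the similarity group, which splits in two). -/
theorem result {F : Type*} [Field F] [Fintype F] {q : ℕ} (hF : Fintype.card F = q) (hq : Odd q) {m : ℕ} (hm : 1 ≤ m) : Nat.card {C : ConjClasses ↥(Matrix.symplecticGroup (Fin m) F) // ∃ u : Matrix.symplecticGroup (Fin m) F, ConjClasses.mk u = C ∧ ((u : Matrix (Fin m ⊕ Fin m) (Fin m ⊕ Fin m) F) - 1) ^ (2 * m) = 0 ∧ ((u : Matrix (Fin m ⊕ Fin m) (Fin m ⊕ Fin m) F) - 1).rank = 2 * m - 1} = 2 := by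
  classical
  have h2 : (2 : F) ≠ 0 := Ring.two_ne_zero fun h => by
    have := FiniteField.even_card_of_char_two h
    rw [hF] at this
    exact absurd hq (Nat.not_odd_iff.2 this)
  obtain ⟨ν, hν⟩ := FiniteField.exists_nonsquare (F := F) (fun h => by
    have := CharP.cast_eq_zero F (ringChar F)
    rw [h] at this
    exact h2 (by exact_mod_cast this))
  have hν0 : ν ≠ 0 := fun e => hν (e ▸ IsSquare.zero)
  set d := one1 (2 * m)
  have hd : ∀ k, 1 ≤ d k := fun _ => show 1 ≤ 2 * m by omega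
  have hodd : ∀ j : ℕ, Odd j → Even (Finset.univ.filter (fun k : Fin 1 => d k = j)).card := fun j hj => by
    rw [Finset.filter_eq_empty_iff.2 (fun k _ (e : d k = j) => Nat.not_odd_iff_even.2 ⟨m, two_mul m⟩
      (show Odd (2 * m) by rw [← e] at hj; exact hj))]
    simp
  let sc : Bool → F := fun b => if b then ν else 1
  have hsc : ∀ b, sc b ≠ 0 := fun b => by cases b <;> simp [sc, hν0]
  have hcard : Fintype.card (Idx d) = m + m := by rw [Fintype.card_sigma]; simp [d, two_mul]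
  have hrep : ∀ b, ∃ (G : Matrix (Idx d) (Idx d) F) (M : Matrix (Idx d) (Fin m ⊕ Fin m) F)
      (N : Matrix (Fin m ⊕ Fin m) (Idx d) F) (A : Matrix.symplecticGroup (Fin m) F),
      (Alt G ∧ IsUnit G ∧ (1 + (shift F d)ᵀ) * G * (1 + shift F d) = G) ∧
      (block hd G i0 = Matrix.diagonal fun _ : KB d i0 => sc b * (-1) ^ (2 * m - 1)) ∧
      M * N = 1 ∧ N * M = 1 ∧ Mᵀ * G * M = Matrix.J (Fin m) F ∧
      (A : Matrix (Fin m ⊕ Fin m) (Fin m ⊕ Fin m) F) = N * Cfsg.jordanTypeMatrix d F * M := by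
    intro b
    obtain ⟨G, hG, hu, hJ, hB⟩ := exists_model (K := F) d hd hodd (fun _ => sc b) (fun _ => hsc b)
    obtain ⟨M, N, A, h1, h3, h4, h5⟩ := exists_symplectic_of_form hcard hJ hG hu
    exact ⟨G, M, N, A, ⟨hG, hu, hJ⟩, hB i0 ⟨m, two_mul m⟩, h1, h3, h4, h5⟩
  choose G M N A hG hB hMN hNM hMG hA using hrep
  have hreg : ∀ b, ((A b : Matrix (Fin m ⊕ Fin m) (Fin m ⊕ Fin m) F) - 1) ^ (2 * m) = 0 ∧
      ((A b : Matrix (Fin m ⊕ Fin m) (Fin m ⊕ Fin m) F) - 1).rank = 2 * m - 1 := fun b => by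
    refine ⟨?_, ?_⟩
    · rw [hA, sub_one_eq (hNM b), conj_pow' _ _ (hMN b) (hNM b), S2570.shift_pow_zero _ _ (fun _ => le_refl _),
        Matrix.mul_zero, Matrix.zero_mul]
    · have h := rank_eq (hMN b) (hNM b) 1
      rw [← hA, pow_one] at h
      rw [h]
      simp [d]
  have hG' : ∀ b, G b = (N b)ᵀ * Matrix.J (Fin m) F * N b := fun b => by
    rw [← hMG b]
    calc G b = (M b * N b)ᵀ * G b * (M b * N b) := by
          rw [hMN b, Matrix.transpose_one, Matrix.one_mul, Matrix.mul_one]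
      _ = _ := by simp only [Matrix.transpose_mul, Matrix.mul_assoc]
  letI : Unique (KB d i0) := ⟨⟨⟨0, rfl⟩⟩, fun ⟨k, hk⟩ => Subtype.ext (Subsingleton.elim _ _)⟩
  refine Eq.trans (Nat.card_eq_of_bijective (fun b => (⟨ConjClasses.mk (A b), A b, rfl, hreg b⟩ :
    {C : ConjClasses ↥(Matrix.symplecticGroup (Fin m) F) // ∃ u : Matrix.symplecticGroup (Fin m) F,
      ConjClasses.mk u = C ∧ ((u : Matrix (Fin m ⊕ Fin m) (Fin m ⊕ Fin m) F) - 1) ^ (2 * m) = 0 ∧
        ((u : Matrix (Fin m ⊕ Fin m) (Fin m ⊕ Fin m) F) - 1).rank = 2 * m - 1})) ⟨?_, ?_⟩).symm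
    (by rw [Nat.card_eq_fintype_card, Fintype.card_bool])
  · intro x y hxy
    obtain ⟨P, hP⟩ := isConj_iff.1 (ConjClasses.mk_eq_mk_iff_isConj.1 (congrArg Subtype.val hxy))
    have hP' : (P : Matrix (Fin m ⊕ Fin m) (Fin m ⊕ Fin m) F) * (A x : Matrix (Fin m ⊕ Fin m) (Fin m ⊕ Fin m) F) =
        (A y : Matrix (Fin m ⊕ Fin m) (Fin m ⊕ Fin m) F) * (P : Matrix (Fin m ⊕ Fin m) (Fin m ⊕ Fin m) F) := by
      rw [← Submonoid.coe_mul, ← Submonoid.coe_mul, mul_inv_eq_iff_eq_mul.1 hP]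
    set X := M y * (P : Matrix (Fin m ⊕ Fin m) (Fin m ⊕ Fin m) F) * N x with hX
    have hXc : Commute (shift F d) X := by
      refine (commute_iff X).1 ?_
      have e1 : (A x : Matrix (Fin m ⊕ Fin m) (Fin m ⊕ Fin m) F) * N x = N x * Cfsg.jordanTypeMatrix d F := by
        rw [hA x, Matrix.mul_assoc, hMN x, Matrix.mul_one]
      have e2 : M y * (A y : Matrix (Fin m ⊕ Fin m) (Fin m ⊕ Fin m) F) = Cfsg.jordanTypeMatrix d F * M y := by
        rw [hA y, ← Matrix.mul_assoc, ← Matrix.mul_assoc, hMN y, Matrix.one_mul]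
      calc X * Cfsg.jordanTypeMatrix d F =
            M y * ((P : Matrix (Fin m ⊕ Fin m) (Fin m ⊕ Fin m) F) * (A x : Matrix (Fin m ⊕ Fin m) (Fin m ⊕ Fin m) F)) * N x := by
            rw [hX, Matrix.mul_assoc _ (N x), ← e1]; simp only [Matrix.mul_assoc]
        _ = M y * (A y : Matrix (Fin m ⊕ Fin m) (Fin m ⊕ Fin m) F) * ((P : Matrix (Fin m ⊕ Fin m) (Fin m ⊕ Fin m) F) * N x) := by
            rw [hP']; simp only [Matrix.mul_assoc]
        _ = _ := by rw [e2, hX]; simp only [Matrix.mul_assoc]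
    have hXG : Xᵀ * G y * X = G x := by
      rw [hX, hG' x, hG' y]
      calc (M y * (P : Matrix (Fin m ⊕ Fin m) (Fin m ⊕ Fin m) F) * N x)ᵀ * ((N y)ᵀ * Matrix.J (Fin m) F * N y) * (M y * (P : Matrix (Fin m ⊕ Fin m) (Fin m ⊕ Fin m) F) * N x)
          = (N x)ᵀ * ((P : Matrix (Fin m ⊕ Fin m) (Fin m ⊕ Fin m) F)ᵀ * (N y * M y)ᵀ * Matrix.J (Fin m) F * (N y * M y) * (P : Matrix (Fin m ⊕ Fin m) (Fin m ⊕ Fin m) F)) * N x := by
            simp only [Matrix.transpose_mul, Matrix.mul_assoc]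
        _ = _ := by rw [hNM y, Matrix.transpose_one, Matrix.mul_one, Matrix.mul_one, SymplecticGroup.mem_iff'.1 P.2]
    have hbt := block_transform hd (hG y).2.2 (hG y).1.sym (hG y).2.1 hXc i0
    rw [hXG, hB x, hB y] at hbt
    have hdet := congrArg Matrix.det hbt
    rw [Matrix.det_mul, Matrix.det_mul, Matrix.det_transpose, Matrix.det_diagonal, Matrix.det_diagonal,
      Fintype.prod_unique, Fintype.prod_unique] at hdet
    set D := Matrix.det (proj hd X i0)
    have h3 : sc x = sc y * (D * D) :=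
      mul_right_cancel₀ (pow_ne_zero _ (neg_ne_zero.2 (one_ne_zero (α := F)))) (hdet.trans (by ring))
    cases x <;> cases y <;> simp only [sc, Bool.false_eq_true, if_true, if_false] at h3 <;> first
      | rfl
      | exact absurd ⟨D, by rw [h3, one_mul]⟩ hν
      | (exfalso
         have hD : D ≠ 0 := fun h0 => by rw [h0] at h3; simp at h3
         exact hν ⟨D⁻¹, by field_simp; linear_combination -h3⟩)
  · rintro ⟨C, u, rfl, hnil, hrk⟩
    obtain ⟨Gu, V, U, ⟨hGu, huu, hJu⟩, hVU, hUV, hVG, hu⟩ := exists_coords hm u hnil hrk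
    set bu := (block hd Gu i0).det * (-1 : F) ^ (2 * m - 1)
    have hbu : bu ≠ 0 := mul_ne_zero
      ((Matrix.isUnit_iff_isUnit_det _).1 (block_isUnit hd hJu hGu.sym huu i0)).ne_zero
      (pow_ne_zero _ (neg_ne_zero.2 one_ne_zero))
    refine ⟨decide (¬ IsSquare bu), Subtype.ext (ConjClasses.mk_eq_mk_iff_isConj.2 ?_)⟩
    set x := decide (¬ IsSquare bu) with hx
    have hblk : ∀ i, ∃ y, yᵀ * block hd Gu i * y = block hd (G x) i := by
      intro i
      by_cases hi : i = i0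
      · subst hi
        have hev : Even ((i0 (n := 2 * m) : Fin _) : ℕ) := ⟨m, two_mul m⟩
        refine exists_congr_sym h2 _ _ (by rw [(hGu.block_transpose hd hJu i0).1, hev.neg_one_pow, one_smul])
          (by rw [((hG x).1.block_transpose hd (hG x).2.2 i0).1, hev.neg_one_pow, one_smul])
          ((Matrix.isUnit_iff_isUnit_det _).1 (block_isUnit hd hJu hGu.sym huu i0)).ne_zero
          ((Matrix.isUnit_iff_isUnit_det _).1 (block_isUnit hd (hG x).2.2 (hG x).1.sym (hG x).2.1 i0)).ne_zero ?_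
        rw [hB x, Matrix.det_diagonal, Fintype.prod_unique]
        by_cases hsq : IsSquare bu
        · rw [show sc x = 1 by simp [sc, hx, hsq], one_mul]
          exact hsq
        · rw [show sc x = ν by simp [sc, hx, hsq], mul_left_comm]
          exact isSquare_mul_nonsquares h2 hν hsq
      · haveI : IsEmpty (KB d i) := ⟨fun k => hi (Fin.ext k.2.symm)⟩
        exact ⟨1, Subsingleton.elim _ _⟩
    obtain ⟨X, hXc, -, hXG⟩ := exists_congr h2 hd hJu hGu huu (hG x).2.2 (hG x).1 (hG x).2.1 hblk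
    exact conj_of_congr u (A x) (M := V) (N := U) hVU (hMN x) hVG (hMG x) hu (hA x) hXc hXG

end Cfsg.Agent.S2591
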