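import Cfsg.Statements.S2592
import Cfsg.Agent.Lib.Forms.SpRegular
-- import your own Cfsg.Agent.* helpers here

set_option autoImplicit false
open Cfsg

namespace Cfsg.Agent.S2592

open scoped Matrix
open Cfsg.Agent.JordanType Cfsg.Agent.S2581 Cfsg.Agent.UnipotentForms Cfsg.Agent.SpRegular

set_option maxHeartbeats 1000000 in
/-- Over a finite field with q elements, q odd, the centraliser in Sp_2m(F) (m ≥ 1) of a regular unipotent element (u − 1 nilpotent of rank 2m − 1) has order 2 q^m. -/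
theorem result {F : Type*} [Field F] [Fintype F] {q : ℕ} (hF : Fintype.card F = q) (hq : Odd q) {m : ℕ} (hm : 1 ≤ m) (u : Matrix.symplecticGroup (Fin m) F) (hnil : ((u : Matrix (Fin m ⊕ Fin m) (Fin m ⊕ Fin m) F) - 1) ^ (2 * m) = 0) (hreg : ((u : Matrix (Fin m ⊕ Fin m) (Fin m ⊕ Fin m) F) - 1).rank = 2 * m - 1) : Nat.card ↥(Subgroup.centralizer ({u} : Set ↥(Matrix.symplecticGroup (Fin m) F))) = 2 * q ^ m := by
  classical
  have h2 : (2 : F) ≠ 0 := Ring.two_ne_zero fun h => by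
    have := FiniteField.even_card_of_char_two h
    rw [hF] at this
    exact absurd hq (Nat.not_odd_iff.2 this)
  obtain ⟨G, M, N, ⟨hG, hu, hJ⟩, hMN, hNM, hMG, hA⟩ := exists_coords hm u hnil hreg
  rw [← hF, ← card_cent (show 1 ≤ 2 * m by omega) h2 hJ hu hG (two_mul m)]
  have hJ1 : Cfsg.jordanTypeMatrix (one1 (2 * m)) F = 1 + shift F (one1 (2 * m)) := by rw [shift, add_sub_cancel]
  have hG' : G = Nᵀ * Matrix.J (Fin m) F * N := by
    rw [← hMG]
    calc G = (M * N)ᵀ * G * (M * N) := by rw [hMN, Matrix.transpose_one, Matrix.one_mul, Matrix.mul_one]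
      _ = _ := by simp only [Matrix.transpose_mul, Matrix.mul_assoc]
  refine Nat.card_eq_of_bijective (fun g => (⟨M * (g.1 : Matrix (Fin m ⊕ Fin m) (Fin m ⊕ Fin m) F) * N, ?_, ?_⟩ : Cent G)) ⟨?_, ?_⟩
  · have hg := congrArg Subtype.val (Subgroup.mem_centralizer_singleton_iff.1 g.2)
    change (g.1 : Matrix (Fin m ⊕ Fin m) (Fin m ⊕ Fin m) F) * (u : Matrix (Fin m ⊕ Fin m) (Fin m ⊕ Fin m) F) = (u : Matrix (Fin m ⊕ Fin m) (Fin m ⊕ Fin m) F) * (g.1 : Matrix (Fin m ⊕ Fin m) (Fin m ⊕ Fin m) F) at hg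
    refine (commute_iff _).1 ?_
    have e := congrArg (fun X => M * X * N) hg
    rw [hA] at e
    calc M * (g.1 : Matrix (Fin m ⊕ Fin m) (Fin m ⊕ Fin m) F) * N * Cfsg.jordanTypeMatrix (one1 (2 * m)) F
        = M * ((g.1 : Matrix (Fin m ⊕ Fin m) (Fin m ⊕ Fin m) F) * (N * Cfsg.jordanTypeMatrix (one1 (2 * m)) F * M)) * N := by
          simp only [Matrix.mul_assoc, hMN, Matrix.mul_one]
      _ = M * (N * Cfsg.jordanTypeMatrix (one1 (2 * m)) F * M * (g.1 : Matrix (Fin m ⊕ Fin m) (Fin m ⊕ Fin m) F)) * N := e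
      _ = M * N * Cfsg.jordanTypeMatrix (one1 (2 * m)) F * (M * (g.1 : Matrix (Fin m ⊕ Fin m) (Fin m ⊕ Fin m) F) * N) := by
          simp only [Matrix.mul_assoc]
      _ = _ := by rw [hMN, Matrix.one_mul]
  · rw [hG']
    calc (M * (g.1 : Matrix (Fin m ⊕ Fin m) (Fin m ⊕ Fin m) F) * N)ᵀ * (Nᵀ * Matrix.J (Fin m) F * N) * (M * (g.1 : Matrix (Fin m ⊕ Fin m) (Fin m ⊕ Fin m) F) * N)
        = Nᵀ * ((g.1 : Matrix (Fin m ⊕ Fin m) (Fin m ⊕ Fin m) F)ᵀ * (N * M)ᵀ * Matrix.J (Fin m) F * (N * M) * (g.1 : Matrix (Fin m ⊕ Fin m) (Fin m ⊕ Fin m) F)) * N := by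
          simp only [Matrix.transpose_mul, Matrix.mul_assoc]
      _ = _ := by rw [hNM, Matrix.transpose_one, Matrix.mul_one, Matrix.mul_one, SymplecticGroup.mem_iff'.1 g.1.2]
  · intro g g' h
    have h' : M * (g.1 : Matrix (Fin m ⊕ Fin m) (Fin m ⊕ Fin m) F) * N = M * (g'.1 : Matrix (Fin m ⊕ Fin m) (Fin m ⊕ Fin m) F) * N := congrArg Subtype.val h
    have h'' := congrArg (fun X => N * X * M) h'
    have key : ∀ g : Matrix (Fin m ⊕ Fin m) (Fin m ⊕ Fin m) F, N * (M * g * N) * M = g := fun g => by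
      calc N * (M * g * N) * M = N * M * g * (N * M) := by simp only [Matrix.mul_assoc]
        _ = g := by rw [hNM, Matrix.one_mul, Matrix.mul_one]
    simp only [key] at h''
    exact Subtype.ext (Subtype.ext h'')
  · rintro ⟨X, hX, hXG⟩
    have hmem : N * X * M ∈ Matrix.symplecticGroup (Fin m) F := by
      rw [SymplecticGroup.mem_iff', ← hMG]
      calc (N * X * M)ᵀ * (Mᵀ * G * M) * (N * X * M) = Mᵀ * (Xᵀ * (M * N)ᵀ * G * (M * N) * X) * M := by
            simp only [Matrix.transpose_mul, Matrix.mul_assoc]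
        _ = _ := by rw [hMN, Matrix.transpose_one, Matrix.mul_one, Matrix.mul_one, hXG]
    refine ⟨⟨⟨_, hmem⟩, Subgroup.mem_centralizer_singleton_iff.2 (Subtype.ext ?_)⟩, Subtype.ext ?_⟩
    · show N * X * M * (u : Matrix (Fin m ⊕ Fin m) (Fin m ⊕ Fin m) F) = (u : Matrix (Fin m ⊕ Fin m) (Fin m ⊕ Fin m) F) * (N * X * M)
      have hXJ : X * Cfsg.jordanTypeMatrix (one1 (2 * m)) F = Cfsg.jordanTypeMatrix (one1 (2 * m)) F * X :=
        (commute_iff X).2 hX
      rw [hA]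
      calc N * X * M * (N * Cfsg.jordanTypeMatrix (one1 (2 * m)) F * M)
          = N * (X * (M * N) * Cfsg.jordanTypeMatrix (one1 (2 * m)) F) * M := by simp only [Matrix.mul_assoc]
        _ = N * (Cfsg.jordanTypeMatrix (one1 (2 * m)) F * (M * N) * X) * M := by
          rw [hMN, Matrix.mul_one, hXJ, Matrix.mul_one]
        _ = _ := by simp only [Matrix.mul_assoc]
    · show M * (N * X * M) * N = X
      calc M * (N * X * M) * N = M * N * X * (M * N) := by simp only [Matrix.mul_assoc]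
        _ = X := by rw [hMN, Matrix.one_mul, Matrix.mul_one]

end Cfsg.Agent.S2592
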