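import Cfsg.Statements.S2593
import Cfsg.Agent.Lib.Forms.SpInvolCent

set_option autoImplicit false
open Cfsg

namespace Cfsg.Agent.S2593

open scoped Matrix
open Cfsg.Agent.FormsLib

variable {F : Type*} [Field F] [Fintype F] [CharP F 2] {m : ℕ}

local notation "Mat" => Matrix (Fin m ⊕ Fin m) (Fin m ⊕ Fin m) F

/-- Involutions with the same rank and the same type are conjugate. -/
theorem conj_type (a b : Matrix.symplecticGroup (Fin m) F) (ha : a ^ 2 = 1) (hb : b ^ 2 = 1)
    (hrank : ((a : Mat) - 1).rank = ((b : Mat) - 1).rank)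
    (htype : (∀ v, spB m F (((a : Mat) - 1) *ᵥ v) v = 0) ↔ ∀ v, spB m F (((b : Mat) - 1) *ᵥ v) v = 0) :
    IsConj a b := by
  classical
  let N : Matrix.symplecticGroup (Fin m) F → Module.End F (Fin m ⊕ Fin m → F) := fun c => ((c : Mat) - 1).mulVecLin
  obtain ⟨haN, haN2, -⟩ := SpInvolCent.props a ha
  obtain ⟨hbN, hbN2, -⟩ := SpInvolCent.props b hb
  have hda := SpInvolTwo.exists_data (N := N a) spB_alt spB_nondeg haN ((a : Mat) - 1).rank rfl
  have hdb := SpInvolTwo.exists_data (N := N b) spB_alt spB_nondeg hbN ((a : Mat) - 1).rank hrank.symm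
  have witt : ∀ (X : Submodule F (Fin m ⊕ Fin m → F)) (φ : X →ₗ[F] (Fin m ⊕ Fin m → F)), Function.Injective φ →
      (∀ x y, spB m F (φ x) (φ y) = spB m F (x : Fin m ⊕ Fin m → F) (y : Fin m ⊕ Fin m → F)) →
      ∃ g : (Fin m ⊕ Fin m → F) ≃ₗ[F] (Fin m ⊕ Fin m → F), (∀ u v, spB m F (g u) (g v) = spB m F u v) ∧
        ∀ x : X, g x = φ x := by
    intro X φ h1 h2
    obtain ⟨g, hg, hgx⟩ := spB_trace.witt X φ h1 h2
    exact ⟨g, hg, hgx⟩
  suffices h : ∃ g : (Fin m ⊕ Fin m → F) ≃ₗ[F] (Fin m ⊕ Fin m → F), (∀ u v, spB m F (g u) (g v) = spB m F u v) ∧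
      ∀ v, g (N a v) = N b (g v) by
    obtain ⟨g, hg, hgN⟩ := h
    refine isConj_iff.2 ⟨(spEquiv m F).symm ⟨g, hg⟩, mul_inv_eq_iff_eq_mul.2 (Subtype.ext
      (Matrix.ext_iff_mulVec.2 fun v => ?_))⟩
    rw [Submonoid.coe_mul, Submonoid.coe_mul, ← Matrix.mulVec_mulVec, ← Matrix.mulVec_mulVec,
      spEquiv_symm_mulVec, spEquiv_symm_mulVec]
    have h1 := hgN v
    change g (((a : Mat) - 1) *ᵥ v) = ((b : Mat) - 1) *ᵥ g v at h1
    rw [Matrix.sub_mulVec, Matrix.sub_mulVec, Matrix.one_mulVec, Matrix.one_mulVec, map_sub, sub_left_inj] at h1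
    exact h1
  by_cases hcase : ∀ v, spB m F (N a v) v = 0
  · obtain ⟨k, x, hk, hx, hsx⟩ := hda.2 hcase
    obtain ⟨k', y, hk', hy, hsy⟩ := hdb.2 (htype.1 hcase)
    obtain rfl : k = k' := by omega
    set σ := finSumFinEquiv (m := k) (n := k)
    refine SpInvolTwo.exists_intertwine spB_alt spB_nondeg haN haN2 hbN hbN2 (x ∘ σ.symm) (y ∘ σ.symm)
      ((Matrix.fromBlocks (0 : Matrix (Fin k) (Fin k) F) 1 1 0).submatrix σ.symm σ.symm) ?_
      (fun i j => hx _ _) (fun i j => hy _ _) (fun v => ?_) (fun v => ?_) witt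
    · rw [Matrix.submatrix_mul_equiv, Matrix.fromBlocks_multiply]
      simp
    · obtain ⟨c, hc⟩ := hsx v
      exact ⟨c ∘ σ.symm, hc.trans (Fintype.sum_equiv σ _ _ fun i => by simp)⟩
    · obtain ⟨c, hc⟩ := hsy v
      exact ⟨c ∘ σ.symm, hc.trans (Fintype.sum_equiv σ _ _ fun i => by simp)⟩
  · obtain ⟨x, hx, hsx⟩ := hda.1 (not_forall.1 hcase)
    obtain ⟨y, hy, hsy⟩ := hdb.1 (not_forall.1 (fun h => hcase (htype.2 h)))
    exact SpInvolTwo.exists_intertwine spB_alt spB_nondeg haN haN2 hbN hbN2 x y 1 (mul_one 1)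
      (fun i j => by rw [hx, Matrix.one_apply]) (fun i j => by rw [hy, Matrix.one_apply]) hsx hsy witt

/-- Conjugation keeps the rank and the type. -/
theorem invariants (a b : Matrix.symplecticGroup (Fin m) F) (h : IsConj a b) :
    ((a : Mat) - 1).rank = ((b : Mat) - 1).rank ∧
      ((∀ v, spB m F (((a : Mat) - 1) *ᵥ v) v = 0) ↔ ∀ v, spB m F (((b : Mat) - 1) *ᵥ v) v = 0) := by
  obtain ⟨g, hg⟩ := isConj_iff.1 h
  have hgg : (g : Mat) * a.1 = b.1 * g.1 := by
    have := congrArg Subtype.val (mul_inv_eq_iff_eq_mul.1 hg)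
    simpa using this
  have hu : IsUnit g.1.det := by rw [SymplecticGroup.det_eq_one g.2]; exact isUnit_one
  have e : g.1 * (a.1 - 1) = (b.1 - 1) * g.1 := by rw [mul_sub, sub_mul, hgg, mul_one, one_mul]
  have key : ∀ v, spB m F ((b.1 - 1) *ᵥ (g.1 *ᵥ v)) (g.1 *ᵥ v) = spB m F ((a.1 - 1) *ᵥ v) v := fun v => by
    rw [Matrix.mulVec_mulVec, ← e, ← Matrix.mulVec_mulVec, (mem_symplectic_iff g.1).1 g.2]
  refine ⟨?_, fun h1 w => ?_, fun h1 v => by rw [← key]; exact h1 _⟩
  · have h1 := congrArg Matrix.rank e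
    rwa [Matrix.rank_mul_eq_right_of_isUnit_det _ _ hu, Matrix.rank_mul_eq_left_of_isUnit_det _ _ hu] at h1
  · obtain ⟨v, rfl⟩ : ∃ v, g.1 *ᵥ v = w := ⟨(g⁻¹).1 *ᵥ w, by
      rw [Matrix.mulVec_mulVec, ← Submonoid.coe_mul, mul_inv_cancel, Submonoid.coe_one, Matrix.one_mulVec]⟩
    rw [key]
    exact h1 v

/-- The involution with upper corner `M`. -/
theorem exists_model (M : Matrix (Fin m) (Fin m) F) (hM : Mᵀ = M) :
    ∃ t : Matrix.symplecticGroup (Fin m) F, t ^ 2 = 1 ∧ (M ≠ 0 → t ≠ 1) ∧ ((t : Mat) - 1).rank = M.rank ∧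
      ((∀ v, spB m F (((t : Mat) - 1) *ᵥ v) v = 0) ↔ ∀ w : Fin m → F, w ⬝ᵥ (M *ᵥ w) = 0) := by
  classical
  set T : Mat := Matrix.fromBlocks 1 M 0 1 with hT
  have h2 : ∀ {n : Type} (X : Matrix n n F), X + X = 0 := fun X => by
    ext i j; simp [CharTwo.add_self_eq_zero]
  have hmem : T ∈ Matrix.symplecticGroup (Fin m) F := by
    rw [SymplecticGroup.mem_iff, hT, Matrix.J, Matrix.fromBlocks_transpose, Matrix.fromBlocks_multiply,
      Matrix.fromBlocks_multiply, hM]
    simp [h2]
  have hsub : T - 1 = Matrix.fromBlocks 0 M 0 0 := by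
    rw [hT]
    ext (i | i) (j | j) <;> simp [Matrix.one_apply]
  refine ⟨⟨T, hmem⟩, Subtype.ext ?_, fun hne h => ?_, ?_, ?_⟩
  · show ((⟨T, hmem⟩ : Matrix.symplecticGroup (Fin m) F) ^ 2).1 = 1
    rw [pow_two, Submonoid.coe_mul]
    show T * T = 1
    rw [hT, Matrix.fromBlocks_multiply]
    simp [h2]
  · have h1 : T - 1 = 0 := by rw [show T = 1 from congrArg Subtype.val h, sub_self]
    rw [hsub] at h1
    exact hne (by ext i j; simpa using congrFun (congrFun h1 (Sum.inl i)) (Sum.inr j))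
  · show (T - 1).rank = M.rank
    rw [hsub]
    let P : Mat := (1 : Mat).submatrix (Equiv.sumComm (Fin m) (Fin m)) id
    refine le_antisymm ?_ ?_
    · calc (Matrix.fromBlocks 0 M 0 0 : Mat).rank
          = ((Matrix.fromRows (1 : Matrix (Fin m) (Fin m) F) (0 : Matrix (Fin m) (Fin m) F)) *
              (M * Matrix.fromCols (0 : Matrix (Fin m) (Fin m) F) (1 : Matrix (Fin m) (Fin m) F))).rank := by
            rw [Matrix.mul_fromCols, Matrix.fromRows_mul_fromCols]
            simp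
        _ ≤ (M * Matrix.fromCols (0 : Matrix (Fin m) (Fin m) F) (1 : Matrix (Fin m) (Fin m) F)).rank := Matrix.rank_mul_le_right _ _
        _ ≤ M.rank := Matrix.rank_mul_le_left _ _
    · calc M.rank
          = ((Matrix.fromCols (1 : Matrix (Fin m) (Fin m) F) (0 : Matrix (Fin m) (Fin m) F)) * (Matrix.fromBlocks 0 M 0 0 : Mat) *
              (Matrix.fromRows (0 : Matrix (Fin m) (Fin m) F) (1 : Matrix (Fin m) (Fin m) F))).rank := by
            rw [Matrix.fromCols_mul_fromBlocks, Matrix.fromCols_mul_fromRows]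
            simp
        _ ≤ ((Matrix.fromCols (1 : Matrix (Fin m) (Fin m) F) (0 : Matrix (Fin m) (Fin m) F)) * (Matrix.fromBlocks 0 M 0 0 : Mat)).rank :=
            Matrix.rank_mul_le_left _ _
        _ ≤ _ := Matrix.rank_mul_le_right _ _
  · show (∀ v, spB m F ((T - 1) *ᵥ v) v = 0) ↔ _
    have key : ∀ v : Fin m ⊕ Fin m → F, spB m F ((T - 1) *ᵥ v) v =
        -((v ∘ Sum.inr) ⬝ᵥ (M *ᵥ (v ∘ Sum.inr))) := fun v => by
      rw [hsub, spB_expand, Matrix.fromBlocks_mulVec]
      simp [dotProduct, mul_comm]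
    refine ⟨fun h w => ?_, fun h v => by rw [key, h, neg_zero]⟩
    simpa [key, Function.comp_def] using h (Sum.elim 0 w)

theorem rank_diag_ind {s : ℕ} (hs : s ≤ m) :
    (Matrix.diagonal fun i : Fin m => if (i : ℕ) < s then (1 : F) else 0).rank = s := by
  classical
  rw [Matrix.rank_diagonal]
  calc Fintype.card {i : Fin m // (if (i : ℕ) < s then (1 : F) else 0) ≠ 0}
      = Fintype.card (Fin s) := Fintype.card_congr
        { toFun := fun i => ⟨i.1, by have := i.2; simp at this; exact this⟩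
          invFun := fun i => ⟨⟨i, lt_of_lt_of_le i.2 hs⟩, by simp [i.2]⟩
          left_inv := fun i => rfl
          right_inv := fun i => rfl }
    _ = s := Fintype.card_fin s

/-- A representative of each type. -/
theorem exists_rep (i : Fin m ⊕ Fin (m / 2)) :
    ∃ t : Matrix.symplecticGroup (Fin m) F, orderOf t = 2 ∧
      ((t : Mat) - 1).rank = Sum.elim (fun a : Fin m => (a : ℕ) + 1) (fun b : Fin (m / 2) => 2 * ((b : ℕ) + 1)) i ∧
      ((∀ v, spB m F (((t : Mat) - 1) *ᵥ v) v = 0) ↔ i.isRight = true) := by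
  classical
  rcases i with a | b
  · set s := (a : ℕ) + 1
    let d : Fin m → F := fun i => if (i : ℕ) < s then 1 else 0
    obtain ⟨t, ht, hne, hr, htype⟩ := exists_model (Matrix.diagonal d) (Matrix.diagonal_transpose d)
    rw [rank_diag_ind (s := s) (by omega)] at hr
    refine ⟨t, orderOf_eq_prime ht (fun h => ?_), hr, ?_⟩
    · subst h; simp [s] at hr
    · rw [htype]
      simp only [Sum.isRight_inl, Bool.false_eq_true, iff_false, not_forall]
      exact ⟨Pi.single a 1, by simp [d, s]⟩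
  · set s := 2 * ((b : ℕ) + 1)
    have hs : s ≤ m := by omega
    let σf : Fin m → Fin m := fun i => if h : (i : ℕ) < s then
      ⟨if (i : ℕ) % 2 = 0 then i + 1 else i - 1, by split_ifs <;> omega⟩ else i
    have hσ : Function.Involutive σf := fun i => by
      by_cases h : (i : ℕ) < s
      · apply Fin.ext
        simp only [σf, dif_pos h]
        have h' : (if (i : ℕ) % 2 = 0 then (i : ℕ) + 1 else (i : ℕ) - 1) < s := by split_ifs <;> omega
        rw [dif_pos h']
        simp only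
        split_ifs <;> omega
      · simp only [σf, dif_neg h]
    have hlt : ∀ i : Fin m, (σf i : ℕ) < s ↔ (i : ℕ) < s := fun i => by
      by_cases h : (i : ℕ) < s
      · simp only [σf, dif_pos h]; split_ifs <;> omega
      · simp only [σf, dif_neg h]
    have hfix : ∀ i : Fin m, (i : ℕ) < s → σf i ≠ i := fun i h he => by
      have := congrArg Fin.val he
      simp only [σf, dif_pos h] at this
      split_ifs at this <;> omega
    let M : Matrix (Fin m) (Fin m) F := Matrix.of fun i j => if (i : ℕ) < s ∧ j = σf i then 1 else 0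
    have hM : Mᵀ = M := by
      ext i j
      simp only [M, Matrix.transpose_apply, Matrix.of_apply]
      refine if_congr ⟨?_, ?_⟩ rfl rfl <;> rintro ⟨h, rfl⟩ <;> exact ⟨(hlt _).2 h, (hσ _).symm⟩
    have hrank : M.rank = s := by
      have e : M = (Matrix.diagonal fun i : Fin m => if (i : ℕ) < s then (1 : F) else 0) *
          (1 : Matrix (Fin m) (Fin m) F).submatrix σf id := by
        ext i j
        simp only [M, Matrix.of_apply, Matrix.diagonal_mul, Matrix.submatrix_apply, id_eq, Matrix.one_apply]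
        split_ifs <;> simp_all
      have hdet : IsUnit ((1 : Matrix (Fin m) (Fin m) F).submatrix σf id).det := by
        rw [show σf = ⇑(hσ.toPerm σf) from rfl, Matrix.det_permute, Matrix.det_one, mul_one]
        rcases Int.units_eq_one_or (Equiv.Perm.sign (hσ.toPerm σf)) with h | h <;> simp [h]
      rw [e, Matrix.rank_mul_eq_left_of_isUnit_det _ _ hdet, rank_diag_ind hs]
    obtain ⟨t, ht, hne, hr, htype⟩ := exists_model M hM
    rw [hrank] at hr
    refine ⟨t, orderOf_eq_prime ht (fun h => ?_), hr, ?_⟩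
    · subst h; simp [s] at hr
    · rw [htype]
      simp only [Sum.isRight_inr, iff_true]
      intro w
      have e : w ⬝ᵥ (M *ᵥ w) = ∑ i : Fin m, if (i : ℕ) < s then w i * w (σf i) else 0 := by
        refine Finset.sum_congr rfl fun i _ => ?_
        simp only [Matrix.mulVec, dotProduct, M, Matrix.of_apply]
        split_ifs with h <;> simp [h]
      rw [e]
      refine Finset.sum_involution (fun i _ => σf i) (fun i _ => ?_) (fun i _ hi => ?_) (fun i _ => Finset.mem_univ _)
        (fun i _ => hσ i)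
      · by_cases h : (i : ℕ) < s
        · rw [if_pos h, if_pos ((hlt i).2 h), hσ i, mul_comm (w (σf i)), CharTwo.add_self_eq_zero]
        · rw [if_neg h, if_neg (mt (hlt i).1 h), add_zero]
      · by_cases h : (i : ℕ) < s
        · exact hfix i h
        · simp [h] at hi

/-- Number of conjugacy classes of involutions in the symplectic group Sp_2m(F) over a finite field of characteristic two (m ≥ 1): for each s with 1 ≤ s ≤ m there is one class with rank(t − 1) = s if s is odd and two if s is even (according as v ↦ f(v, tv), f the symplectic form, vanishes identically or not), so m + ⌊m/2⌋ classes in all. -/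
theorem result {F : Type*} [Field F] [Fintype F] [CharP F 2] {m : ℕ} (hm : 1 ≤ m) : Nat.card {C : ConjClasses ↥(Matrix.symplecticGroup (Fin m) F) // ∃ g : Matrix.symplecticGroup (Fin m) F, ConjClasses.mk g = C ∧ orderOf g = 2} = m + m / 2 := by
  classical
  choose rep hord hr htype using exists_rep (F := F) (m := m)
  let T := {C : ConjClasses ↥(Matrix.symplecticGroup (Fin m) F) //
    ∃ g : Matrix.symplecticGroup (Fin m) F, ConjClasses.mk g = C ∧ orderOf g = 2}
  let f : Fin m ⊕ Fin (m / 2) → T := fun i => ⟨ConjClasses.mk (rep i), rep i, rfl, hord i⟩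
  have hinj : Function.Injective f := by
    intro i j h
    obtain ⟨h1, h2⟩ := invariants _ _ (ConjClasses.mk_eq_mk_iff_isConj.1 (congrArg Subtype.val h))
    rw [htype, htype] at h2
    rw [hr, hr] at h1
    rcases i with i | i <;> rcases j with j | j <;> simp at h1 h2
    · exact congrArg Sum.inl (Fin.ext h1)
    · exact congrArg Sum.inr (Fin.ext h1)
  have hsurj : Function.Surjective f := by
    rintro ⟨C, g, rfl, hg⟩
    have hg2 : g ^ 2 = 1 := hg ▸ pow_orderOf_eq_one g
    have hpos : 0 < ((g : Matrix (Fin m ⊕ Fin m) (Fin m ⊕ Fin m) F) - 1).rank := by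
      refine Nat.pos_of_ne_zero fun h0 => ?_
      have h0' : ((g : Matrix (Fin m ⊕ Fin m) (Fin m ⊕ Fin m) F) - 1).mulVecLin = 0 :=
        LinearMap.range_eq_bot.1 (Submodule.finrank_eq_zero.1 h0)
      have : g = 1 := Subtype.ext (Matrix.ext_iff_mulVec.2 fun v => (by
        rw [OneMemClass.coe_one, Matrix.one_mulVec]
        have h1 := LinearMap.congr_fun h0' v
        rw [Matrix.mulVecLin_apply, Matrix.sub_mulVec, Matrix.one_mulVec, LinearMap.zero_apply, sub_eq_zero] at h1
        exact h1))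
      rw [this, orderOf_one] at hg
      omega
    have hfin : ∀ i, ((rep i : Matrix (Fin m ⊕ Fin m) (Fin m ⊕ Fin m) F) - 1).rank =
        ((g : Matrix (Fin m ⊕ Fin m) (Fin m ⊕ Fin m) F) - 1).rank →
        ((i.isRight = true) ↔ ∀ v, Cfsg.Agent.FormsLib.spB m F
          (((g : Matrix (Fin m ⊕ Fin m) (Fin m ⊕ Fin m) F) - 1).mulVec v) v = 0) → ∃ i, f i = ⟨_, g, rfl, hg⟩ :=
      fun i h1 h2 => ⟨i, Subtype.ext (ConjClasses.mk_eq_mk_iff_isConj.2 (conj_type _ _
        (hord i ▸ pow_orderOf_eq_one (rep i)) hg2 h1 ((htype i).trans h2)))⟩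
    by_cases halt : ∀ v, Cfsg.Agent.FormsLib.spB m F
        (((g : Matrix (Fin m ⊕ Fin m) (Fin m ⊕ Fin m) F) - 1).mulVec v) v = 0
    · obtain ⟨hle, ⟨k, hk⟩, -⟩ := Cfsg.Agent.FormsLib.SpInvolCent.card_of_alt g hg2 rfl halt
      exact hfin (.inr ⟨k - 1, by omega⟩) (by rw [hr]; simp; omega) (by simp [halt])
    · obtain ⟨hle, -, -⟩ := Cfsg.Agent.FormsLib.SpInvolCent.card_of_nonalt g hg2 rfl (not_forall.1 halt)
      exact hfin (.inl ⟨((g : Matrix (Fin m ⊕ Fin m) (Fin m ⊕ Fin m) F) - 1).rank - 1, by omega⟩) (by rw [hr]; simp; omega) (by simp [halt])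
  rw [← Nat.card_congr (Equiv.ofBijective f ⟨hinj, hsurj⟩)]
  simp

end Cfsg.Agent.S2593
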