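import Cfsg.Statements.S2594
import Cfsg.Agent.Lib.Forms.SpOrder
import Cfsg.Agent.Lib.Forms.Sp
-- import your own Cfsg.Agent.* helpers here

set_option autoImplicit false
open Cfsg

namespace Cfsg.Agent.S2594

/-- Over a finite field with q elements, q even, an element t of Sp_2m(F) with rank(t − 1) = 1 (a symplectic transvection) has centraliser in Sp_2m(F) of order q^(2m−1) · |Sp_(2m−2)(q)| = q^(2m−1) · q^((m−1)²) · Π_(i=1)^(m−1) (q^(2i) − 1). -/
theorem result {F : Type*} [Field F] [Fintype F] [CharP F 2] {q : ℕ} (hF : Fintype.card F = q) {m : ℕ} (hm : 1 ≤ m) (t : Matrix.symplecticGroup (Fin m) F) (ht : ((t : Matrix (Fin m ⊕ Fin m) (Fin m ⊕ Fin m) F) - 1).rank = 1) : Nat.card ↥(Subgroup.centralizer ({t} : Set ↥(Matrix.symplecticGroup (Fin m) F))) = q ^ (2 * m - 1) * (q ^ ((m - 1) ^ 2) * ∏ i : Fin (m - 1), (q ^ (2 * ((i : ℕ) + 1)) - 1)) := by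
  classical
  subst hF
  set B := FormsLib.spB m F with hB
  have hA := FormsLib.spB_alt (m := m) (F := F)
  set N := Matrix.mulVecLin ((t : Matrix (Fin m ⊕ Fin m) (Fin m ⊕ Fin m) F) - 1) with hN
  obtain ⟨⟨w, hwN⟩, hw, hgen⟩ := finrank_eq_one_iff'.1 (show Module.finrank F (LinearMap.range N) = 1 from ht)
  have hw0 : w ≠ 0 := fun h => hw (Subtype.ext h)
  choose φ hφ using fun x => hgen ⟨N x, LinearMap.mem_range_self N x⟩
  have hφ' : ∀ x, (FormsLib.spEquiv m F t).1 x = x + φ x • w := fun x => by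
    have h1 : φ x • w = N x := congrArg Subtype.val (hφ x)
    rw [h1, hN, FormsLib.spEquiv_apply, Matrix.mulVecLin_apply, Matrix.sub_mulVec, Matrix.one_mulVec]
    abel
  obtain ⟨y₀, hy₀⟩ : ∃ y, B w y ≠ 0 := by
    by_contra h
    push Not at h
    exact hw0 ((FormsLib.spB_nondeg (m := m) (F := F)).1 w h)
  set c := - φ y₀ / B w y₀ with hc
  have hpres : ∀ x y, φ x * B w y + φ y * B x w = 0 := fun x y => by
    have h1 := (FormsLib.spEquiv m F t).2 x y
    rw [hφ', hφ'] at h1
    simp only [map_add, map_smul, LinearMap.add_apply, LinearMap.smul_apply, smul_eq_mul, hA w] at h1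
    linear_combination h1
  have hφc : ∀ x, φ x = c * B x w := fun x => by
    rw [hc]
    field_simp
    linear_combination hpres x y₀
  have hc0 : c ≠ 0 := by
    intro h0
    have h1 : N = 0 := LinearMap.ext fun x => by
      rw [← show φ x • w = N x from congrArg Subtype.val (hφ x), hφc x, h0, zero_mul, zero_smul]
      rfl
    rw [h1] at hwN
    obtain ⟨x, hx⟩ := hwN
    exact hw0 hx.symm
  obtain ⟨s, hs⟩ := FiniteField.isSquare_of_char_two (F := F) (by rw [ringChar.eq_iff]; infer_instance) c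
  have hs0 : s ≠ 0 := fun h => hc0 (by rw [hs, h, mul_zero])
  set v := s • w with hv
  have hv0 : v ≠ 0 := smul_ne_zero hs0 hw0
  have htv : (FormsLib.spEquiv m F t).1 = FormsLib.tau hA v 1 := LinearEquiv.ext fun x => by
    rw [hφ', FormsLib.tau_apply, hv, map_smul, smul_smul, smul_eq_mul, hφc, hs]
    congr 2
    ring
  have hstab : (Subgroup.centralizer ({t} : Set (Matrix.symplecticGroup (Fin m) F))).map
      (FormsLib.spEquiv m F).toMonoidHom = MulAction.stabilizer (FormsLib.SpIso m F) v := by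
    ext g
    rw [Subgroup.mem_map_equiv, Subgroup.mem_centralizer_singleton_iff,
      MulAction.mem_stabilizer_iff, ← (FormsLib.spEquiv m F).injective.eq_iff,
      map_mul, map_mul, MulEquiv.apply_symm_apply]
    change g * FormsLib.spEquiv m F t = FormsLib.spEquiv m F t * g ↔ g.1 v = v
    rw [← mul_inv_eq_iff_eq_mul, ← Subtype.coe_inj, Subgroup.coe_mul, Subgroup.coe_mul, Subgroup.coe_inv,
      htv, FormsLib.tau_conj hA g.2]
    refine ⟨fun h => ?_, fun h => by rw [h]⟩
    obtain ⟨y, hy⟩ : ∃ y, B y v ≠ 0 := by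
      by_contra hh
      push Not at hh
      exact hv0 ((FormsLib.spB_nondeg (m := m) (F := F)).2 v hh)
    have h1 := LinearEquiv.congr_fun h y
    simp only [FormsLib.tau_apply, add_right_inj, one_mul] at h1
    change B y (g.1 v) • g.1 v = B y v • v at h1
    set μ := B y (g.1 v)
    have hμ : μ ≠ 0 := fun h0 => by
      rw [h0, zero_smul] at h1
      exact (smul_ne_zero hy hv0) h1.symm
    have hgv : g.1 v = (μ⁻¹ * B y v) • v := by rw [mul_smul, ← h1, inv_smul_smul₀ hμ]
    have h2 : μ = μ⁻¹ * B y v * B y v := by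
      conv_lhs => rw [show μ = B y (g.1 v) from rfl, hgv, map_smul, smul_eq_mul]
    have h3 : (μ - B y v) * (μ - B y v) = 0 := by
      have h4 : μ * μ = B y v * B y v := by
        nth_rewrite 1 [h2]
        field_simp
      linear_combination h4 + (B y v * B y v - μ * B y v) * (CharTwo.two_eq_zero (R := F))
    rw [hgv, sub_eq_zero.1 (mul_self_eq_zero.1 h3), inv_mul_cancel₀ hy, one_smul]
  have horb : MulAction.orbit (FormsLib.SpIso m F) v = {x | x ≠ 0} := by
    ext x
    constructor
    · rintro ⟨g, rfl⟩ h0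
      exact hv0 (g.1.injective (h0.trans (map_zero g.1).symm))
    · intro hx
      obtain ⟨g, hg, hgx, -⟩ := FormsLib.exists_tau_step hA FormsLib.spB_nondeg ⊥ (x := v) (y := x)
        (by simpa using hv0) (by simpa using hx) (by simp)
      exact ⟨⟨g, FormsLib.tauGroup_le hA hg⟩, hgx⟩
  have hcard := (MulAction.stabilizer (FormsLib.SpIso m F) v).card_mul_index
  rw [MulAction.index_stabilizer, horb, ← hstab,
    ← Nat.card_congr (Subgroup.equivMapOfInjective _ _ (FormsLib.spEquiv m F).injective).toEquiv,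
    ← Nat.card_congr (FormsLib.spEquiv m F).toEquiv, FormsLib.card_symplecticGroup,
    show ({x : Fin m ⊕ Fin m → F | x ≠ 0}) = ({0} : Set _)ᶜ from rfl, Set.ncard_compl,
    Set.ncard_singleton, Nat.card_fun, Nat.card_eq_fintype_card (α := F),
    Nat.card_eq_fintype_card (α := Fin m ⊕ Fin m), Fintype.card_sum, Fintype.card_fin,
    ← two_mul, mul_comm] at hcard
  obtain ⟨k, rfl⟩ := Nat.exists_eq_add_of_le' hm
  have hq := Fintype.one_lt_card (α := F)
  have hpos : 0 < Fintype.card F ^ (2 * (k + 1)) - 1 :=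
    Nat.sub_pos_of_lt (Nat.one_lt_pow (by omega) hq)
  refine Nat.eq_of_mul_eq_mul_left hpos (hcard.trans ?_)
  rw [Finset.prod_range_succ, Nat.add_sub_cancel, Fin.prod_univ_eq_prod_range
    (fun i => Fintype.card F ^ (2 * (i + 1)) - 1), show (k + 1) ^ 2 = (2 * (k + 1) - 1) + k ^ 2 by
      rw [show 2 * (k + 1) - 1 = 2 * k + 1 by omega]; ring, pow_add]
  ring

end Cfsg.Agent.S2594
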