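import Cfsg.Statements.S2595
import Cfsg.Agent.Lib.Spinor.Char2InvolClasses

set_option autoImplicit false
open Cfsg

namespace Cfsg.Agent.S2595

/-- Number of conjugacy classes of involutions in the full orthogonal group O⁺_2m(F) of the hyperbolic quadratic form Σ x_i y_i over a finite field of characteristic two (m ≥ 1): one class for each odd s ≤ m and two for each even s with 2 ≤ s ≤ m, where s = rank(t − 1); in all m + ⌊m/2⌋. -/
theorem result {F : Type*} [Field F] [Fintype F] [CharP F 2] {m : ℕ} (hm : 1 ≤ m) : Nat.card {C : ConjClasses ↥(Cfsg.isometryGroup F (Cfsg.quadFormPlus m F)) // ∃ g : ↥(Cfsg.isometryGroup F (Cfsg.quadFormPlus m F)), ConjClasses.mk g = C ∧ orderOf g = 2} = m + m / 2 := by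
  classical
  have hQ := OrthForms.qPlus_nondeg (F := F) m
  have hq : ⇑(OrthOrder.qPlus m F) = Cfsg.quadFormPlus m F := funext (OrthOrder.qPlus_apply m)
  have hcard : Fintype.card (Fin m ⊕ Fin m) = 2 * m := by simp; omega
  obtain ⟨rep, hord, hrank, htype⟩ := Cfsg.Agent.OrthChar2.exists_plus_reps (F := F) m
  have hmax : ∀ t : ↥(Cfsg.isometryGroup F ⇑(OrthOrder.qPlus m F)), orderOf t = 2 →
      (∀ v, OrthOrder.qPlus m F (((t.1 : Matrix (Fin m ⊕ Fin m) (Fin m ⊕ Fin m) F) - 1).mulVec v) = 0) →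
      ((t.1 : Matrix (Fin m ⊕ Fin m) (Fin m ⊕ Fin m) F) - 1).rank ≤ 2 * (m / 2) := fun t ht hall => by
    obtain ⟨-, hle, h⟩ := Cfsg.Agent.OrthChar2.rank_bounds hQ hcard ht
    obtain ⟨⟨j, hj⟩, -⟩ := h hall
    omega
  rw [← hq]
  exact Cfsg.Agent.OrthChar2.card_classes hQ hcard (by omega) rep hord hrank htype hmax

end Cfsg.Agent.S2595
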