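import Cfsg.Statements.S2597
import Cfsg.Agent.Lib.Spinor.Char2InvolClasses

set_option autoImplicit false
open Cfsg

namespace Cfsg.Agent.S2597

/-- Number of conjugacy classes of involutions in Ω⁺_2m(F) (the commutator subgroup of the orthogonal group of Σ x_i y_i) over a finite field F of characteristic two, m ≥ 1, excluding the case m = 2 over the field of two elements: the involutions of Ω are those with s = rank(t − 1) even, giving two O-classes for each even s with 2 ≤ s ≤ m, each of which is a single Ω-class except that for m even the class with s = m and v ↦ f(v, tv) identically zero splits in two; in all 2⌊m/2⌋ + 1 classes if m is even and 2⌊m/2⌋ if m is odd. -/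
theorem result {F : Type*} [Field F] [Fintype F] [CharP F 2] {m : ℕ} (hm : 1 ≤ m) (h : Fintype.card F ≠ 2 ∨ m ≠ 2) : Nat.card {C : ConjClasses ↥(Cfsg.Omega F (Cfsg.quadFormPlus m F)) // ∃ g : ↥(Cfsg.Omega F (Cfsg.quadFormPlus m F)), ConjClasses.mk g = C ∧ orderOf g = 2} = 2 * (m / 2) + (if Even m then 1 else 0) := by
  classical
  have hQ := OrthForms.qPlus_nondeg (F := F) m
  have hq : ⇑(OrthOrder.qPlus m F) = Cfsg.quadFormPlus m F := funext (OrthOrder.qPlus_apply m)
  have hcard : Fintype.card (Fin m ⊕ Fin m) = 2 * m := by simp; omega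
  obtain ⟨rep, hord, hrank, htype⟩ := Cfsg.Agent.OrthChar2.exists_plus_reps (F := F) m
  have hmax : ∀ t : ↥(Cfsg.isometryGroup F ⇑(OrthOrder.qPlus m F)), orderOf t = 2 →
      (∀ v, OrthOrder.qPlus m F (((t.1 : Matrix (Fin m ⊕ Fin m) (Fin m ⊕ Fin m) F) - 1).mulVec v) = 0) →
      ((t.1 : Matrix (Fin m ⊕ Fin m) (Fin m ⊕ Fin m) F) - 1).rank ≤ 2 * (m / 2) := fun t ht hall => by
    obtain ⟨-, hle, h⟩ := Cfsg.Agent.OrthChar2.rank_bounds hQ hcard ht
    obtain ⟨⟨j, hj⟩, -⟩ := h hall
    omega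
  rw [← hq]
  have hexc : Fintype.card F ≠ 2 ∨ Fintype.card (Fin m ⊕ Fin m) ≠ 4 := h.imp id fun h' => by simp; omega
  rw [Cfsg.Agent.OrthChar2.card_omega_classes hQ hexc hcard (by omega) rep hord hrank htype hmax (fun _ => by
    obtain ⟨v, hv⟩ := not_forall.1 (show ¬ ∀ v, OrthOrder.qPlus m F v = 0 from fun hh =>
      absurd ((htype (.inl ⟨0, hm⟩)).1 fun w => hh _) (by simp))
    exact ⟨v, hv⟩)]
  by_cases he : Even m
  · rw [if_pos he, if_pos ⟨by obtain ⟨j, hj⟩ := he; omega, hm⟩]; omega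
  · rw [if_neg he, if_neg fun h' => he ⟨m / 2, by omega⟩]; omega

end Cfsg.Agent.S2597
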