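import Cfsg.Statements.S2598
import Cfsg.Agent.Lib.Spinor.Char2InvolClasses
import Cfsg.Agent.S0300
import Cfsg.Agent.S0288
import Cfsg.Agent.S0252

set_option autoImplicit false
open Cfsg

namespace Cfsg.Agent.S2598

open Matrix Cfsg.Agent.FormsLib

/-- Counting classes of elements of order two is invariant under isomorphism. -/
theorem card_inv_classes_congr {G H : Type*} [Group G] [Group H] (e : G ≃* H) :
    Nat.card {C : ConjClasses G // ∃ g : G, ConjClasses.mk g = C ∧ orderOf g = 2} =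
      Nat.card {C : ConjClasses H // ∃ g : H, ConjClasses.mk g = C ∧ orderOf g = 2} := by
  let f : ConjClasses G ≃ ConjClasses H :=
    { toFun := ConjClasses.map e.toMonoidHom
      invFun := ConjClasses.map e.symm.toMonoidHom
      left_inv := fun C => by
        induction C using Quotient.inductionOn with
        | h g => exact congrArg ConjClasses.mk (e.symm_apply_apply g)
      right_inv := fun C => by
        induction C using Quotient.inductionOn with
        | h g => exact congrArg ConjClasses.mk (e.apply_symm_apply g) }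
  refine Nat.card_congr (f.subtypeEquiv fun C => ⟨?_, ?_⟩)
  · rintro ⟨g, rfl, hg⟩
    exact ⟨e g, rfl, by rw [MulEquiv.orderOf_eq]; exact hg⟩
  · rintro ⟨h, hh, ho⟩
    exact ⟨e.symm h, by rw [← f.symm_apply_apply C, ← hh]; rfl, by rw [MulEquiv.orderOf_eq]; exact ho⟩

theorem card_inv_classes_altFive :
    Nat.card {C : ConjClasses (alternatingGroup (Fin 5)) // ∃ g : alternatingGroup (Fin 5),
      ConjClasses.mk g = C ∧ orderOf g = 2} = 1 := by
  set t : alternatingGroup (Fin 5) := ⟨Equiv.swap 0 1 * Equiv.swap 2 3, Equiv.Perm.mem_alternatingGroup.2 (by decide)⟩ with ht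
  have key : ∀ g : alternatingGroup (Fin 5), g * g = 1 → g ≠ 1 →
      ∃ x : alternatingGroup (Fin 5), x * t * x⁻¹ = g := by decide +kernel
  have ht2 : orderOf t = 2 := orderOf_eq_prime (by rw [pow_two]; decide) (by decide)
  rw [Nat.card_eq_one_iff_unique]
  refine ⟨⟨fun a b => Subtype.ext ?_⟩, ⟨⟨_, t, rfl, ht2⟩⟩⟩
  have h1 : ∀ C : {C : ConjClasses (alternatingGroup (Fin 5)) // ∃ g : alternatingGroup (Fin 5),
      ConjClasses.mk g = C ∧ orderOf g = 2}, C.1 = ConjClasses.mk t := by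
    rintro ⟨C, g, rfl, hg⟩
    obtain ⟨x, hx⟩ := key g (by rw [← pow_two, ← hg, pow_orderOf_eq_one]) fun h => by simp [h] at hg
    exact (ConjClasses.mk_eq_mk_iff_isConj.2 (isConj_iff.2 ⟨x, hx⟩)).symm
  rw [h1 a, h1 b]

/-- The exceptional group is not perfect: sign of the action on singular vectors. -/
theorem omega_ne_top {F : Type*} [Field F] [Fintype F] [CharP F 2] (hF : Fintype.card F = 2) (a b : F)
    (hab : ∀ z₁ z₂ : F, z₁ ^ 2 + a * z₁ * z₂ + b * z₂ ^ 2 = 0 → z₁ = 0 ∧ z₂ = 0)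
    (Q : QuadraticForm F ((Fin 1 ⊕ Fin 1) ⊕ Fin 2 → F)) (hq : ⇑Q = Cfsg.quadFormMinus 1 F a b) :
    Cfsg.Omega F ⇑Q ≠ ⊤ := by
  classical
  have hF2 : ∀ c : F, c ≠ 0 → c = 1 := by
    intro c hc
    have h1 := FiniteField.pow_card_sub_one_eq_one c hc
    rw [hF] at h1
    simpa using h1
  let sw : (Fin 1 ⊕ Fin 1) ⊕ Fin 2 → (Fin 1 ⊕ Fin 1) ⊕ Fin 2 := Sum.map Sum.swap id
  have hsw : ∀ i, sw (sw i) = i := by rintro ((i | i) | i) <;> rfl
  let T : ((Fin 1 ⊕ Fin 1) ⊕ Fin 2 → F) ≃ₗ[F] ((Fin 1 ⊕ Fin 1) ⊕ Fin 2 → F) :=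
    LinearEquiv.ofInvolutive (LinearMap.funLeft F F sw) fun v => funext fun i => by
      simp [LinearMap.funLeft_apply, hsw i]
  have hT : ∀ v i, T v i = v (sw i) := fun v i => rfl
  have hTQ : T ∈ oGroup Q := fun v => by
    simp [hq, Cfsg.quadFormMinus, hT, sw, mul_comm]
  let φ : Cfsg.isometryGroup F ⇑Q →* Equiv.Perm {v : (Fin 1 ⊕ Fin 1) ⊕ Fin 2 → F // Q v = 0} :=
    MonoidHom.mk' (fun g => (oEquiv Q g).1.toEquiv.subtypeEquiv fun v => by
        show Q v = 0 ↔ Q ((oEquiv Q g).1 v) = 0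
        rw [(oEquiv Q g).2])
      (fun g h => Equiv.ext fun v => Subtype.ext (by
        show (oEquiv Q (g * h)).1 v.1 = _
        rw [map_mul]
        rfl))
  intro htop
  set r := (oEquiv Q).symm ⟨T, hTQ⟩
  have hker : commutator (Cfsg.isometryGroup F ⇑Q) ≤ (Equiv.Perm.sign.comp φ).ker := Abelianization.commutator_subset_ker _
  have h1 : Equiv.Perm.sign (φ r) = 1 := hker (show r ∈ Cfsg.Omega F ⇑Q by rw [htop]; exact Subgroup.mem_top r)
  let p₁ : {v : (Fin 1 ⊕ Fin 1) ⊕ Fin 2 → F // Q v = 0} :=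
    ⟨Sum.elim (Sum.elim 1 0) 0, by simp [hq, Cfsg.quadFormMinus]⟩
  let p₂ : {v : (Fin 1 ⊕ Fin 1) ⊕ Fin 2 → F // Q v = 0} :=
    ⟨Sum.elim (Sum.elim 0 1) 0, by simp [hq, Cfsg.quadFormMinus]⟩
  have hne : p₁ ≠ p₂ := fun h => one_ne_zero (congrFun (congrArg Subtype.val h) (.inl (.inl 0)) : (1 : F) = 0)
  have hr : ∀ v, (φ r v).1 = T v.1 := fun v => by
    show (oEquiv Q r).1 v.1 = _
    rw [MulEquiv.apply_symm_apply]
  have hperm : φ r = Equiv.swap p₁ p₂ := by
    refine Equiv.ext fun v => Subtype.ext ?_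
    rw [hr]
    rcases eq_or_ne v p₁ with rfl | hv1
    · rw [Equiv.swap_apply_left]
      funext i
      rcases i with (i | i) | i <;> simp [hT, sw, p₁, p₂]
    rcases eq_or_ne v p₂ with rfl | hv2
    · rw [Equiv.swap_apply_right]
      funext i
      rcases i with (i | i) | i <;> simp [hT, sw, p₁, p₂]
    rw [Equiv.swap_apply_of_ne_of_ne hv1 hv2]
    have hxy : v.1 (.inl (.inl 0)) = v.1 (.inl (.inr 0)) := by
      by_contra hxy
      have hprod : v.1 (.inl (.inl 0)) * v.1 (.inl (.inr 0)) = 0 := by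
        by_contra h
        exact hxy ((hF2 _ (left_ne_zero_of_mul h)).trans (hF2 _ (right_ne_zero_of_mul h)).symm)
      have hQv := v.2
      simp only [hq, Cfsg.quadFormMinus, Finset.univ_unique, Finset.sum_singleton, Fin.default_eq_zero, hprod, zero_add] at hQv
      obtain ⟨hz0, hz1⟩ := hab _ _ hQv
      rcases mul_eq_zero.1 hprod with h | h
      · refine hv2 (Subtype.ext (funext fun i => ?_))
        rcases i with (i | i) | i <;> fin_cases i
        · simpa [p₂] using h
        · simpa [p₂] using hF2 _ (fun h' => hxy (h.trans h'.symm))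
        · simpa [p₂] using hz0
        · simpa [p₂] using hz1
      · refine hv1 (Subtype.ext (funext fun i => ?_))
        rcases i with (i | i) | i <;> fin_cases i
        · simpa [p₁] using hF2 _ (fun h' => hxy (h'.trans h.symm))
        · simpa [p₁] using h
        · simpa [p₁] using hz0
        · simpa [p₁] using hz1
    funext i
    rcases i with (i | i) | i <;> rw [hT]
    · fin_cases i; exact hxy.symm
    · fin_cases i; exact hxy
    · rfl
  rw [hperm, Equiv.Perm.sign_swap hne] at h1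
  exact absurd h1 (by decide)

/-- The exceptional group. -/
theorem four_two {F : Type*} [Field F] [Fintype F] [CharP F 2] (hF : Fintype.card F = 2) (a b : F)
    (hab : ∀ z₁ z₂ : F, z₁ ^ 2 + a * z₁ * z₂ + b * z₂ ^ 2 = 0 → z₁ = 0 ∧ z₂ = 0) :
    Nat.card {C : ConjClasses ↥(Cfsg.Omega F (Cfsg.quadFormMinus 1 F a b)) //
      ∃ g : ↥(Cfsg.Omega F (Cfsg.quadFormMinus 1 F a b)), ConjClasses.mk g = C ∧ orderOf g = 2} = 1 := by
  classical
  obtain ⟨Q, hq, hQ⟩ := OrthForms.exists_qMinus 1 a b hab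
  let K := GaloisField 2 2
  let _ : Fintype K := Fintype.ofFinite K
  have hK : Fintype.card K = 4 := by
    rw [← Nat.card_eq_fintype_card, GaloisField.card 2 2 two_ne_zero]
    norm_num
  obtain ⟨e1⟩ := S0300.result hF (K := K) (by rw [hK]; norm_num) a b hab
  obtain ⟨e2⟩ := S0252.result (F := K) hK
  have hO : Nat.card (Cfsg.isometryGroup F (Cfsg.quadFormMinus 1 F a b)) = 120 := by
    have h : Nat.card (Cfsg.isometryGroup F (Cfsg.quadFormMinus 1 F a b)) = _ :=
      S0288.result hF 2 (by norm_num) a b hab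
    rw [h]
    norm_num
  rw [← hq] at e1 hO ⊢
  set Z := Subgroup.center ↥(Cfsg.Omega F ⇑Q) with hZ
  have h60 : Nat.card (↥(Cfsg.Omega F ⇑Q) ⧸ Z) = 60 := by
    rw [Nat.card_congr (e1.trans e2).toEquiv, nat_card_alternatingGroup, Nat.card_fin]
    rfl
  have hmul := Subgroup.card_eq_card_quotient_mul_card_subgroup Z
  rw [h60] at hmul
  have hle := Nat.le_of_dvd (by rw [hO]; norm_num) (Subgroup.card_subgroup_dvd_card (Cfsg.Omega F ⇑Q))
  rw [hO, hmul] at hle
  have hZ1 : Nat.card Z = 1 := by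
    have hpos : 0 < Nat.card Z := Nat.card_pos
    by_contra hne
    have hZ2 : Nat.card Z = 2 := by omega
    have htop : Cfsg.Omega F ⇑Q = ⊤ := Subgroup.eq_top_of_card_eq _ (by rw [hmul, hO, hZ2])
    exact omega_ne_top hF a b hab Q hq htop
  have hbot : Z = ⊥ := Subgroup.card_eq_one.1 hZ1
  let e3 : ↥(Cfsg.Omega F ⇑Q) ≃* alternatingGroup (Fin 5) :=
    ((QuotientGroup.quotientMulEquivOfEq hbot).trans QuotientGroup.quotientBot).symm.trans (e1.trans e2)
  rw [card_inv_classes_congr e3, card_inv_classes_altFive]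

/-- Number of conjugacy classes of involutions in Ω⁻_2m(F) (the commutator subgroup of the orthogonal group of an elliptic quadratic form, Σ_(i<m−1) x_i y_i plus an anisotropic binary form) over a finite field F of characteristic two, m ≥ 1: the involutions of Ω are those with s = rank(t − 1) even, one O-class for each even s with 2 ≤ s ≤ m on which v ↦ f(v, tv) is not identically zero and one for each even s with 2 ≤ s < m on which it is zero (f the polar form; in characteristic 2, f(v, tv) = Q(v + tv)), none of which splits in Ω; in all ⌊m/2⌋ + ⌊(m − 1)/2⌋. -/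
theorem result {F : Type*} [Field F] [Fintype F] [CharP F 2] {m : ℕ} (hm : 1 ≤ m) (a b : F) (hab : ∀ z₁ z₂ : F, z₁ ^ 2 + a * z₁ * z₂ + b * z₂ ^ 2 = 0 → z₁ = 0 ∧ z₂ = 0) : Nat.card {C : ConjClasses ↥(Cfsg.Omega F (Cfsg.quadFormMinus (m - 1) F a b)) // ∃ g : ↥(Cfsg.Omega F (Cfsg.quadFormMinus (m - 1) F a b)), ConjClasses.mk g = C ∧ orderOf g = 2} = m / 2 + (m - 1) / 2 := by
  classical
  obtain ⟨k, rfl⟩ : ∃ k, m = k + 1 := ⟨m - 1, by omega⟩
  show Nat.card {C : ConjClasses ↥(Cfsg.Omega F (Cfsg.quadFormMinus k F a b)) //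
    ∃ g : ↥(Cfsg.Omega F (Cfsg.quadFormMinus k F a b)), ConjClasses.mk g = C ∧ orderOf g = 2} =
      (k + 1) / 2 + k / 2
  by_cases hexc : Fintype.card F = 2 ∧ k = 1
  · obtain ⟨hF, rfl⟩ := hexc
    exact four_two hF a b hab
  obtain ⟨Q, hq, hQ⟩ := OrthForms.exists_qMinus k a b hab
  obtain ⟨⟨rep, hord, hrank, htype⟩, hmax⟩ := Cfsg.Agent.OrthChar2.exists_minus_data k a b hab Q hq hQ
  have hexc' : Fintype.card F ≠ 2 ∨ Fintype.card ((Fin k ⊕ Fin k) ⊕ Fin 2) ≠ 4 := by
    rcases not_and_or.1 hexc with h | h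
    · exact Or.inl h
    · exact Or.inr (by simp; omega)
  rw [← hq]
  rw [Cfsg.Agent.OrthChar2.card_omega_classes hQ hexc' (m := k + 1) (A := k / 2) (by simp; omega) (by omega) rep
    hord hrank htype hmax (fun _ => by
      obtain ⟨v, hv⟩ := not_forall.1 (show ¬ ∀ v, Q v = 0 from fun hh =>
        absurd ((htype (.inl ⟨0, by omega⟩)).1 fun w => hh _) (by simp))
      exact ⟨v, hv⟩)]
  rw [if_neg fun h' => by omega]
  omega

end Cfsg.Agent.S2598
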