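import Cfsg.Statements.S2599
-- import your own Cfsg.Agent.* helpers here

set_option autoImplicit false
open Cfsg

namespace Cfsg.Agent.S2599

/-- An irreducible invariant subspace of a semisimple isometry is non-degenerate or totally singular: let Q be a quadratic form on F^n (F finite of characteristic p) with non-degenerate polar form f, x an isometry of Q of order prime to p, and U a non-zero x-invariant subspace containing no x-invariant subspace other than 0 and U. Then U meets its f-orthogonal trivially, or Q vanishes on U, or p = 2, U is a line spanned by a non-singular vector and x fixes U pointwise. -/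
theorem result {F : Type*} [Field F] [Fintype F] {p : ℕ} [Fact p.Prime] [CharP F p] {n : ℕ} (Q : QuadraticForm F (Fin n → F)) (hQ : (QuadraticMap.polarBilin Q).Nondegenerate) (x : ↥(Cfsg.isometryGroup F ⇑Q)) (hx : (orderOf x).Coprime p) (U : Submodule F (Fin n → F)) (hU0 : U ≠ ⊥) (hUx : ∀ u ∈ U, ((x : Matrix.GeneralLinearGroup (Fin n) F) : Matrix (Fin n) (Fin n) F).mulVec u ∈ U) (hirr : ∀ W : Submodule F (Fin n → F), W ≤ U → (∀ w ∈ W, ((x : Matrix.GeneralLinearGroup (Fin n) F) : Matrix (Fin n) (Fin n) F).mulVec w ∈ W) → W = ⊥ ∨ W = U) : U ⊓ LinearMap.BilinForm.orthogonal (QuadraticMap.polarBilin Q) U = ⊥ ∨ (∀ u ∈ U, Q u = 0) ∨ (p = 2 ∧ Module.finrank F U = 1 ∧ (∃ u ∈ U, Q u ≠ 0) ∧ ∀ u ∈ U, ((x : Matrix.GeneralLinearGroup (Fin n) F) : Matrix (Fin n) (Fin n) F).mulVec u = u) := by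
  classical
  set X := ((x : Matrix.GeneralLinearGroup (Fin n) F) : Matrix (Fin n) (Fin n) F) with hX
  have hQx : ∀ v, Q (X.mulVec v) = Q v := fun v => x.2 v v
  set B := QuadraticMap.polarBilin Q
  have hBx : ∀ v w, B (X.mulVec v) (X.mulVec w) = B v w := by
    intro v w
    show QuadraticMap.polar Q _ _ = QuadraticMap.polar Q _ _
    simp only [QuadraticMap.polar, ← Matrix.mulVec_add, hQx]
  let f := (Matrix.mulVecLin X).restrict hUx
  have hfi : Function.Injective f := fun a b hab => by
    have h1 : X.mulVec a.1 = X.mulVec b.1 := congrArg Subtype.val hab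
    exact Subtype.ext (Matrix.mulVec_injective_of_isUnit ((x : Matrix.GeneralLinearGroup (Fin n) F).isUnit) h1)
  have hfs := LinearMap.injective_iff_surjective.1 hfi
  rcases hirr (U ⊓ LinearMap.BilinForm.orthogonal B U) inf_le_left (fun w hw => ⟨hUx w hw.1, fun u hu => by
      obtain ⟨⟨u', hu'⟩, he⟩ := hfs ⟨u, hu⟩
      have he' : X.mulVec u' = u := congrArg Subtype.val he
      show B u (X.mulVec w) = 0
      rw [← he', hBx]
      exact hw.2 u' hu'⟩) with h | h
  · exact Or.inl h
  right
  have hB : ∀ u ∈ U, ∀ w ∈ U, B u w = 0 := fun u hu w hw => ((inf_eq_left.1 h) hw) u hu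
  have hadd : ∀ u ∈ U, ∀ w ∈ U, Q (u + w) = Q u + Q w := fun u hu w hw => by
    have := hB u hu w hw
    change QuadraticMap.polar Q u w = 0 at this
    simp only [QuadraticMap.polar] at this
    linear_combination this
  by_cases hp : p = 2
  · subst hp
    haveI : CharP F 2 := inferInstance
    let K : Submodule F (Fin n → F) :=
      { carrier := {u | u ∈ U ∧ Q u = 0}
        add_mem' := fun {a b} ha hb => ⟨U.add_mem ha.1 hb.1, by rw [hadd _ ha.1 _ hb.1, ha.2, hb.2, add_zero]⟩
        zero_mem' := ⟨U.zero_mem, QuadraticMap.map_zero Q⟩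
        smul_mem' := fun c {a} ha => ⟨U.smul_mem c ha.1, by rw [QuadraticMap.map_smul, ha.2, smul_zero]⟩ }
    rcases hirr K (fun u hu => hu.1) (fun u hu => ⟨hUx u hu.1, (hQx u).trans hu.2⟩) with hK | hK
    · right
      have hfix : ∀ u ∈ U, X.mulVec u = u := by
        intro u hu
        have h2 : X.mulVec u + u ∈ K := ⟨U.add_mem (hUx u hu) hu, by
          rw [hadd _ (hUx u hu) _ hu, hQx, CharTwo.add_self_eq_zero]⟩
        rw [hK, Submodule.mem_bot, add_eq_zero_iff_eq_neg] at h2
        rw [h2]
        funext i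
        exact CharTwo.neg_eq _
      obtain ⟨u, hu, hu0⟩ := Submodule.exists_mem_ne_zero_of_ne_bot hU0
      have hspan : F ∙ u = U := (hirr (F ∙ u) ((Submodule.span_singleton_le_iff_mem _ _).2 hu) (fun w hw => by
        rw [hfix w ((Submodule.span_singleton_le_iff_mem _ _).2 hu hw)]; exact hw)).resolve_left
          (mt Submodule.span_singleton_eq_bot.1 hu0)
      refine ⟨rfl, ?_, ⟨u, hu, fun h0 => hu0 ((Submodule.eq_bot_iff K).1 hK u ⟨hu, h0⟩)⟩, hfix⟩
      rw [← hspan]
      exact finrank_span_singleton hu0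
    · exact Or.inl fun u hu => (hK.symm ▸ hu : u ∈ K).2
  · left
    intro u hu
    have h2 : (2 : F) ≠ 0 := by
      refine Ring.two_ne_zero fun h2 => hp ?_
      exact CharP.eq F inferInstance (ringChar.of_eq h2)
    have := hB u hu u hu
    change QuadraticMap.polar Q u u = 0 at this
    rw [QuadraticMap.polar_self, nsmul_eq_mul, Nat.cast_ofNat, mul_eq_zero] at this
    exact this.resolve_left h2

end Cfsg.Agent.S2599
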