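import Cfsg.Statements.S2602
import Cfsg.Agent.Lib.AutPSL.OutGroup

set_option autoImplicit false
open Cfsg

namespace Cfsg.Agent.S2602

/-- Structure of the outer automorphism group of PSL_2(q), q = p^f ≥ 4: it has a normal cyclic subgroup of order gcd(2, q − 1) (diagonal automorphisms) with cyclic quotient of order f (field automorphisms); there is no graph automorphism in dimension 2. -/
theorem result {F : Type*} [Field F] [Fintype F] {p f : ℕ} [Fact p.Prime] (hf : 1 ≤ f) (hF : Fintype.card F = p ^ f) (h4 : 4 ≤ p ^ f) : ∃ φ : Cfsg.Out (Matrix.ProjectiveSpecialLinearGroup (Fin 2) F) →* Multiplicative (ZMod f), Function.Surjective φ ∧ IsCyclic φ.ker ∧ Nat.card φ.ker = Nat.gcd 2 (p ^ f - 1) := by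
  haveI : CharP F p := AutPSL.charP_of_card hF hf
  let π₁ : Multiplicative (ZMod f × ZMod 2) →* Multiplicative (ZMod f) :=
    AddMonoidHom.toMultiplicative (AddMonoidHom.fst (ZMod f) (ZMod 2))
  have hgr : ∀ φ, AutPSL.graphPart (n := 2) (F := F) p le_rfl φ = false := fun φ =>
    ((AutPSL.exists_rep p le_rfl φ).choose_spec).2 rfl
  have hker : (π₁.comp (AutPSL.outClass (n := 2) p f le_rfl hF)).ker =
      (AutPSL.outClass (n := 2) p f le_rfl hF).ker := by
    refine le_antisymm (fun x hx => ?_) (fun x hx => ?_)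
    · obtain ⟨φ, rfl⟩ := QuotientGroup.mk_surjective x
      rw [MonoidHom.mem_ker] at hx ⊢
      change (AutPSL.autClass (n := 2) p f le_rfl hF φ) = 1
      rw [AutPSL.autClass_eq_one_iff]
      refine ⟨?_, hgr φ⟩
      change Multiplicative.ofAdd (Multiplicative.toAdd (AutPSL.fieldIso p f hF
        (AutPSL.fieldPart (n := 2) p le_rfl φ))) = 1 at hx
      rw [ofAdd_toAdd, MulEquiv.map_eq_one_iff] at hx
      exact hx
    · rw [MonoidHom.mem_ker, MonoidHom.comp_apply, MonoidHom.mem_ker.mp hx, map_one]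
  refine ⟨π₁.comp (AutPSL.outClass (n := 2) p f le_rfl hF), fun z => ?_, ?_⟩
  · refine ⟨QuotientGroup.mk (AutPSL.descend (AutPSL.fld ((AutPSL.fieldIso p f hF).symm z))), ?_⟩
    obtain ⟨h1, -⟩ := AutPSL.parts_eq (n := 2) p le_rfl (g := 1) (σ := (AutPSL.fieldIso p f hF).symm z)
      (a := false) (fun _ => rfl)
      (φ := AutPSL.descend (AutPSL.fld ((AutPSL.fieldIso p f hF).symm z))) (by simp [AutPSL.gpart])
    show Multiplicative.ofAdd (Multiplicative.toAdd (AutPSL.fieldIso p f hF _)) = z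
    rw [h1, MulEquiv.apply_symm_apply, ofAdd_toAdd]
  rw [hker, AutPSL.ker_outClass]
  have h := AutPSL.range_diagOut_facts (n := 2) (F := F) p le_rfl
  rw [Nat.card_eq_fintype_card (α := F), hF] at h
  exact h

end Cfsg.Agent.S2602
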