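import Cfsg.Statements.S2604
import Cfsg.Agent.Lib.AutPOmega.OutCard
import Cfsg.Agent.Lib.LinearGroups.OrthPOrder
import Cfsg.Agent.S0816
-- import your own Cfsg.Agent.* helpers here

set_option autoImplicit false
open Cfsg

namespace Cfsg.Agent.S2604

set_option maxHeartbeats 2000000

/-- Outer automorphism group of the simple orthogonal group Ω_(2m+1)(q), m ≥ 3, q = p^f odd: it is the direct product of a group of order 2 (diagonal automorphisms, from SO) and a cyclic group of order f (field automorphisms). -/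
theorem result {F : Type*} [Field F] [Fintype F] {p f m : ℕ} [Fact p.Prime] (hf : 1 ≤ f) (hF : Fintype.card F = p ^ f) (hp : p ≠ 2) (hm : 3 ≤ m) : Nonempty (Cfsg.Out (Cfsg.POmega F (Cfsg.quadFormOdd m F)) ≃* Multiplicative (ZMod 2 × ZMod f)) := by
  haveI : CharP F p := charP_of_card_eq_prime_pow hF
  haveI : NeZero f := ⟨by omega⟩
  have hodd : Odd p := (Fact.out : p.Prime).odd_of_ne_two hp
  have h2 : (2 : F) ≠ 0 := fun h => hp ((Nat.prime_dvd_prime_iff_eq Fact.out Nat.prime_two).1
    ((CharP.cast_eq_zero_iff F p 2).1 (by exact_mod_cast h)))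
  have S := OrthSigns.qset_odd (F := F) h2 m hm
  rw [← FormsLib.coe_qOdd]
  have hP := OrthPOrder.card_odd_dim (F := F) h2 hm
  rw [← FormsLib.coe_qOdd] at hP
  have hpos : 0 < Nat.card (Cfsg.POmega F ⇑(FormsLib.qOdd m F)) := Nat.card_pos
  have hout : Nat.card (Cfsg.Out (Cfsg.POmega F ⇑(FormsLib.qOdd m F))) = 2 * f := by
    have h := AutPOmega.card_out S
    have h' := S0816.result (F := F) p f hf hF hodd m hm
    rw [← FormsLib.coe_qOdd] at h'
    exact Nat.eq_of_mul_eq_mul_right hpos (h.trans h')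
  have hI : Nat.card (AutPOmega.outI (Q := FormsLib.qOdd m F)).range = 2 := by
    have h := AutPOmega.card_isoAut_range S (s := 2) (by
      rw [Nat.card_eq_two_iff]
      refine ⟨⟨1, one_mul 1⟩, ⟨-1, by ring⟩, fun e => h2 ?_, Set.eq_univ_of_forall fun c => ?_⟩
      · have := congrArg Subtype.val e
        simp only at this
        linear_combination this
      · rcases mul_self_eq_one_iff.1 c.2 with h | h
        · exact Or.inl (Subtype.ext h)
        · exact Or.inr (Subtype.ext h))
    rw [← AutPOmega.card_outI_range S, ← hP] at h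
    exact Nat.eq_of_mul_eq_mul_right hpos (by linarith)
  haveI : Finite (AutPOmega.outI (Q := FormsLib.qOdd m F)).range := Nat.finite_of_card_ne_zero (by omega)
  haveI : Nontrivial (AutPOmega.outI (Q := FormsLib.qOdd m F)).range :=
    Finite.one_lt_card_iff_nontrivial.1 (by omega)
  obtain ⟨a, ha, ha1⟩ : ∃ x ∈ (AutPOmega.outI (Q := FormsLib.qOdd m F)).range, x ≠ 1 :=
    Subgroup.exists_ne_one_of_nontrivial _
  obtain ⟨g, rfl⟩ := ha
  have haa : orderOf (AutPOmega.outI g) = 2 := by
    refine orderOf_eq_prime ?_ ha1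
    have h := pow_card_eq_one' (x := (⟨AutPOmega.outI g, g, rfl⟩ : (AutPOmega.outI (Q := FormsLib.qOdd m F)).range))
    rw [hI] at h
    exact congrArg Subtype.val h
  obtain ⟨σ, -, hord, -⟩ := AutPOmega.exists_frob F p f hF
  let T : AutPOmega.SemiT (FormsLib.qOdd m F) := AutPOmega.fldOdd σ
  have hpow : ∀ i : ℕ, T ^ i = AutPOmega.fldOdd (σ ^ i) := by
    intro i
    induction i with
    | zero =>
      rw [pow_zero, pow_zero]
      exact Subtype.ext (Equiv.ext fun x => rfl)
    | succ i ih => rw [pow_succ, ih, ← AutPOmega.fldOdd_mul, ← pow_succ]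
  have hone : ∀ i : ℕ, σ ^ i = 1 → AutPOmega.outT T ^ i = 1 := fun i h => by
    have h0 := hpow 0
    rw [pow_zero, pow_zero] at h0
    rw [← map_pow, hpow, h, ← h0, map_one]
  have hTf : orderOf (AutPOmega.outT T) = f := Nat.dvd_antisymm
    (orderOf_dvd_of_pow_eq_one (hone f (by rw [← hord, pow_orderOf_eq_one])))
    (AutPOmega.outT_orderOf S (by rw [AutPOmega.sigT_fldOdd S, hord]))
  have hc : Commute (AutPOmega.outI g) (AutPOmega.outT T) := (AutPOmega.outI_central S hI T g).symm
  have hinj := AutPOmega.pairHom_injective 2 f haa hTf hc fun i hi => by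
    obtain ⟨z, hz⟩ := hi
    have hz' : AutPOmega.outT (T ^ i) = AutPOmega.outI (g ^ z) := by rw [map_pow, map_zpow]; exact hz.symm
    have hs := AutPOmega.sig_of_outT_eq_outI S hz'
    rw [map_pow, AutPOmega.sigT_fldOdd S] at hs
    exact hone i hs
  haveI : Finite (Cfsg.Out (Cfsg.POmega F ⇑(FormsLib.qOdd m F))) := Nat.finite_of_card_ne_zero (by rw [hout]; omega)
  obtain ⟨e⟩ := AutPOmega.mulEquiv_of_card (⊤ : Subgroup (Cfsg.Out (Cfsg.POmega F ⇑(FormsLib.qOdd m F)))) _ hinj le_top
    (by simp [hout])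
  exact ⟨Subgroup.topEquiv.symm.trans e⟩

end Cfsg.Agent.S2604
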