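import Cfsg.Statements.S2605
import Cfsg.Agent.Lib.AutPOmega.OutCard
import Cfsg.Agent.S0818
-- import your own Cfsg.Agent.* helpers here

set_option autoImplicit false
open Cfsg

namespace Cfsg.Agent.S2605

set_option maxHeartbeats 2000000

/-- Outer automorphism group of PΩ⁻_2m(q), m ≥ 4, q = 2^f: cyclic of order 2f, generated by a semilinear map inducing the Frobenius automorphism of the field (its f-th power is a graph automorphism, an orthogonal transvection). -/
theorem result {F : Type*} [Field F] [Fintype F] {f m : ℕ} (hf : 1 ≤ f) (hF : Fintype.card F = 2 ^ f) (hm : 4 ≤ m) (a b : F) (hab : ∀ z₁ z₂ : F, z₁ ^ 2 + a * z₁ * z₂ + b * z₂ ^ 2 = 0 → z₁ = 0 ∧ z₂ = 0) : IsCyclic (Cfsg.Out (Cfsg.POmega F (Cfsg.quadFormMinus (m - 1) F a b))) ∧ Nat.card (Cfsg.Out (Cfsg.POmega F (Cfsg.quadFormMinus (m - 1) F a b))) = 2 * f := by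
  haveI : Fact (Nat.Prime 2) := ⟨Nat.prime_two⟩
  haveI : CharP F 2 := charP_of_card_eq_prime_pow hF
  obtain ⟨Q, hQ, hn⟩ := OrthForms.exists_qMinus (m - 1) a b hab
  have S : QMax.QSetting Q := ⟨hn, by simp [Fintype.card_sum]; omega⟩
  have hg : Nat.gcd 4 ((2 ^ f) ^ m + 1) = 1 := OrthPOrder.coprime_four_of_odd
    (((even_two.pow_of_ne_zero (by omega)).pow_of_ne_zero (by omega)).add_one)
  rw [← hQ]
  have hpos : 0 < Nat.card (Cfsg.POmega F ⇑Q) := Nat.card_pos
  have hout : Nat.card (Cfsg.Out (Cfsg.POmega F ⇑Q)) = 2 * f := by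
    have h := AutPOmega.card_out S
    have h' := S0818.result (F := F) 2 f hf hF m hm a b hab
    rw [← hQ, if_pos rfl] at h'
    exact Nat.eq_of_mul_eq_mul_right hpos (h.trans h')
  have hI : Nat.card (AutPOmega.outI (Q := Q)).range = 2 := by
    have h := AutPOmega.card_isoAut_range S (s := 1) (Nat.card_eq_one_iff_unique.2 ⟨⟨fun x y => Subtype.ext (by
      have hsq : ∀ c : F, c * c = 1 → c = 1 := fun c hc => by
        rcases mul_self_eq_one_iff.1 hc with h | h
        · exact h
        · rw [h, CharTwo.neg_eq]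
      rw [hsq _ x.2, hsq _ y.2])⟩, ⟨⟨1, one_mul 1⟩⟩⟩)
    rw [← AutPOmega.card_outI_range S, mul_one] at h
    have hO := S0288.result (F := F) hF m (by omega) a b hab
    have hP := S0294.result (F := F) hF m hm a b hab
    rw [mul_assoc 2, mul_assoc 2] at hO
    rw [← hP, hg, one_mul, ← hQ, ← h] at hO
    exact Nat.eq_of_mul_eq_mul_right hpos hO
  obtain ⟨T, hord, -, -, v, hv, hT⟩ := AutPOmega.exists_lift hQ hab S 2 f hF
  obtain ⟨-, hgen⟩ := AutPOmega.outT_gen S hf hord hv hT
  have hne : AutPOmega.outI (OrthRows.rf Q v hv) ≠ 1 := fun h => by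
    have hall : ∀ x, AutPOmega.outI (Q := Q) x = 1 := fun x => by
      have hsq : ∀ u : F, IsSquare u := FiniteField.isSquare_of_char_two (CharP.ringChar_of_prime_eq_zero Nat.prime_two (CharTwo.two_eq_zero))
      rcases AutPOmega.outI_cases S hv hv (fun u _ => Or.inl (iff_of_true (hsq _) (hsq _))) x with e | e | e | e <;>
        simp [e, h]
    rw [show (AutPOmega.outI (Q := Q)).range = ⊥ from MonoidHom.range_eq_bot_iff.2 (MonoidHom.ext hall),
      Subgroup.card_bot] at hI
    omega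
  haveI : Finite (Cfsg.Out (Cfsg.POmega F ⇑Q)) := Nat.finite_of_card_ne_zero (by rw [hout]; omega)
  exact ⟨isCyclic_of_orderOf_eq_card _ ((hgen hne).trans hout.symm), hout⟩

end Cfsg.Agent.S2605
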