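import Cfsg.Statements.S2606
import Cfsg.Agent.Lib.AutPOmega.OutField
import Cfsg.Agent.Lib.AutPOmega.Minus
import Cfsg.Agent.Lib.AutPOmega.Plus
import Cfsg.Agent.Lib.Spinor.TSMinus
-- import your own Cfsg.Agent.* helpers here

set_option autoImplicit false
open Cfsg

namespace Cfsg.Agent.S2606

set_option maxHeartbeats 4000000

open AutPOmega in
theorem core {F : Type*} [Field F] [Fintype F] {p f k : ℕ} [Fact p.Prime] (hf : 1 ≤ f)
    (hF : Fintype.card F = p ^ f) (hp : p ≠ 2) (hm : 3 ≤ k) (a b : F)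
    (hab : ∀ z₁ z₂ : F, z₁ ^ 2 + a * z₁ * z₂ + b * z₂ ^ 2 = 0 → z₁ = 0 ∧ z₂ = 0) :
    (p ^ f % 4 = 3 ∧ k % 2 = 0 → Nonempty (Cfsg.Out (Cfsg.POmega F (Cfsg.quadFormMinus k F a b)) ≃*
      DihedralGroup 4 × Multiplicative (ZMod f))) ∧
    (¬ (p ^ f % 4 = 3 ∧ k % 2 = 0) → Nonempty (Cfsg.Out (Cfsg.POmega F (Cfsg.quadFormMinus k F a b)) ≃*
      Multiplicative (ZMod 2 × ZMod (2 * f)))) := by
  haveI : CharP F p := charP_of_card_eq_prime_pow hF
  haveI : NeZero f := ⟨by omega⟩
  haveI : NeZero (2 * f) := ⟨by omega⟩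
  have h2 : (2 : F) ≠ 0 := fun h => hp ((Nat.prime_dvd_prime_iff_eq Fact.out Nat.prime_two).1
    ((CharP.cast_eq_zero_iff F p 2).1 (by exact_mod_cast h)))
  obtain ⟨Q, hQ, hnd⟩ := exists_minusForm k a b (fun h => h2 (hab (-a) 2 (by linear_combination h)).2)
  have S : QMax.QSetting Q := ⟨hnd, by simp [Fintype.card_sum]; omega⟩
  obtain ⟨u₀, u₁, h0, -, D⟩ := exists_minusData hQ hab S h2 hm
  have hd := epsS_minusD hQ S h0
  have hk := card_minus hQ
  obtain ⟨v, hv, hw, hsq, hns⟩ := exists_vec S hk h2 D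
  have hq : (p ^ f) % 2 = 1 := Nat.odd_iff.1 ((Fact.out : p.Prime).odd_of_ne_two hp).pow
  have hpos : 0 < Nat.card (Cfsg.POmega F ⇑Q) := Nat.card_pos
  have hout : Nat.card (Cfsg.Out (Cfsg.POmega F ⇑Q)) =
      2 * Nat.gcd 4 (Fintype.card F ^ (k + 1) + 1) * f := by
    have h := card_out S
    have hc := card_aut S (fun e W hW => by
      have h1 := Spinor.minus_ts_finrank_le a b hab W (fun x hx => by rw [← hQ]; exact hW x hx)
      simp [Fintype.card_sum] at e
      omega)
    rw [simMul_minus_range hQ hab S, sigHom_minus_range hQ hab S, Subgroup.card_top,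
      Subgroup.card_top, AutPSL.card_ringAut p f hF, Nat.card_units, D.card, ← h,
      Nat.card_eq_fintype_card (α := F)] at hc
    have h1 : 0 < Fintype.card F - 1 := by have := Fintype.one_lt_card (α := F); omega
    refine Nat.eq_of_mul_eq_mul_right (Nat.mul_pos hpos h1) ?_
    rw [← mul_assoc, hc]; ring
  haveI : Finite (Cfsg.Out (Cfsg.POmega F ⇑Q)) := Nat.finite_of_card_ne_zero (by
    rw [hout]
    have : 0 < Nat.gcd 4 (Fintype.card F ^ (k + 1) + 1) := Nat.gcd_pos_of_pos_left _ (by omega)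
    positivity)
  obtain ⟨T, hord, -, hmul, u, hu, hT⟩ := exists_lift hQ hab S p f hF
  obtain ⟨hyf, hgen⟩ := outT_gen S hf hord hu hT
  have hy : orderOf (outT T) = 2 * f := hgen (outI_rf_ne_one S hk h2 hu)
  have hconj := outT_conj_outS S hk h2 D T hv hw hsq hns hd
  set q := Fintype.card F with hqdef
  have hd1 : ∀ x, outS (minusD hQ u₀ u₁ h0) ≠ outI x := outS_d_notMem_outI S hk h2 D
  rw [← hQ, ← hF]
  refine ⟨fun hc => ?_, fun hc => ?_⟩
  · have hg : Nat.gcd 4 (q ^ (k + 1) + 1) = 4 := by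
      have := (gcd_four_cases (q := q) (by rw [hF]; exact hq) (k + 1)).1 ⟨by omega, hc.1⟩
      rw [Nat.gcd_rec, show (q ^ (k + 1) + 1) % 4 = 0 by omega, Nat.gcd_zero_left]
    have hfodd : Odd f := by
      rcases Nat.even_or_odd f with ⟨j, hj⟩ | h
      · exfalso
        have hpp : p % 2 = 1 := Nat.odd_iff.1 ((Fact.out : p.Prime).odd_of_ne_two hp)
        have h1 := hc.1
        rw [hF, hj, ← two_mul, pow_mul, Nat.pow_mod, Nat.pow_mod p 2] at h1
        rcases (show p % 4 = 1 ∨ p % 4 = 3 by omega) with e | e <;> rw [e] at h1 <;> norm_num at h1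
      · exact h
    set y := outT T
    set z := outI (OrthRows.rf Q v hv) * outI (OrthRows.rf Q _ hw)
    have hzz : z * z = 1 := by
      rw [(outI_commute _ _).mul_mul_mul_comm, outI_rf_sq S, outI_rf_sq S, one_mul]
    have hzy : y * z * y⁻¹ = z := mul_inv_eq_iff_eq_mul.2
      ((outT_commute_outI S hk h2 hmul _).mul_right (outT_commute_outI S hk h2 hmul _))
    have hcy : ∀ s ∈ (outS (Q := Q)).range, Commute (y * y) s := by
      rintro _ ⟨x, rfl⟩
      have hcd : Commute (y * y) (outS (minusD hQ u₀ u₁ h0)) := by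
        rcases hconj with h | h
        · exact Commute.mul_left (mul_inv_eq_iff_eq_mul.1 h) (mul_inv_eq_iff_eq_mul.1 h)
        · refine mul_inv_eq_iff_eq_mul.1 ?_
          calc y * y * outS (minusD hQ u₀ u₁ h0) * (y * y)⁻¹
              = y * (y * outS (minusD hQ u₀ u₁ h0) * y⁻¹) * y⁻¹ := by group
            _ = (y * z * y⁻¹) * (y * outS (minusD hQ u₀ u₁ h0) * y⁻¹) := by nth_rw 1 [h]; group
            _ = _ := by rw [hzy, h, ← mul_assoc, hzz, one_mul]
      have hci : ∀ i, Commute (y * y) (outI i) := fun i =>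
        (outT_commute_outI S hk h2 hmul i).mul_left (outT_commute_outI S hk h2 hmul i)
      rcases outS_cases S hk h2 D x with ⟨i, e⟩ | ⟨i, e⟩ <;> rw [e]
      · exact hci i
      · exact hcd.mul_right (hci i)
    have hyy : orderOf (y * y) = f := by
      rw [← sq, orderOf_pow' _ (two_ne_zero), hy, Nat.gcd_comm, Nat.gcd_eq_left (dvd_mul_right 2 f),
        Nat.mul_div_cancel_left _ two_pos]
    let φ : (outS (Q := Q)).range × Multiplicative (ZMod f) →* Cfsg.Out (Cfsg.POmega F ⇑Q) :=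
      (outS (Q := Q)).range.subtype.noncommCoprod (cycHom f (y * y) (hyy ▸ pow_orderOf_eq_one _))
        fun s u => by
          obtain ⟨i, rfl⟩ := Multiplicative.ofAdd.surjective u
          rw [cycHom_apply]
          exact ((hcy s.1 s.2).pow_left _).symm
    have hinj : Function.Injective φ := by
      rw [injective_iff_map_eq_one]
      rintro ⟨⟨_, x, rfl⟩, u⟩ he
      obtain ⟨i, rfl⟩ := Multiplicative.ofAdd.surjective u
      have he' : outS x * cycHom f (y * y) (hyy ▸ pow_orderOf_eq_one _) (Multiplicative.ofAdd i) = 1 := he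
      rw [cycHom_apply] at he'
      have e2 : outT (T ^ (2 * i.val)) = outS x⁻¹ := by
        rw [map_pow, pow_mul, sq, map_inv]
        exact eq_inv_of_mul_eq_one_right he'
      have e3 := sig_of_outT_eq_outS S e2
      rw [map_pow, ← orderOf_dvd_iff_pow_eq_one, hord] at e3
      have e4 : f ∣ i.val := (Nat.coprime_two_right.2 hfodd).dvd_of_dvd_mul_left e3
      have e5 : i.val = 0 := Nat.eq_zero_of_dvd_of_lt e4 (ZMod.val_lt i)
      rw [e5, pow_zero, mul_one] at he'
      rw [(ZMod.val_eq_zero i).1 e5]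
      exact Prod.ext (Subtype.ext he') rfl
    obtain ⟨eS⟩ := outS_range_four S hk h2 D hg
    have hcard : Nat.card ((outS (Q := Q)).range × Multiplicative (ZMod f)) =
        Nat.card (⊤ : Subgroup (Cfsg.Out (Cfsg.POmega F ⇑Q))) := by
      rw [Subgroup.card_top, hout, Nat.card_prod, card_outS S hk h2 D]
      simp
    obtain ⟨e⟩ := mulEquiv_of_card _ φ hinj le_top hcard
    exact ⟨(Subgroup.topEquiv.symm.trans e).trans (eS.prodCongr (MulEquiv.refl _))⟩
  · have hg : Nat.gcd 4 (q ^ (k + 1) + 1) = 2 := by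
      have := (gcd_four_cases (q := q) (by rw [hF]; exact hq) (k + 1)).2 (fun h => hc ⟨h.2, by omega⟩)
      rw [Nat.gcd_rec, show (q ^ (k + 1) + 1) % 4 = 2 by omega]; rfl
    set δ := outS (minusD hQ u₀ u₁ h0)
    have hab' := rf_eq_of_two S hk h2 D hg hv hw
    have hzz : outI (OrthRows.rf Q v hv) * outI (OrthRows.rf Q _ hw) = 1 := by
      rw [← hab']; exact outI_rf_sq S hv
    have hdd : δ * δ = 1 := by
      rcases outS_sq_mem S hk h2 D hv hw hsq hns (minusD hQ u₀ u₁ h0) with h | h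
      · exact h
      · exact h.trans hzz
    have hc' : Commute δ (outT T) := by
      rcases hconj with h | h
      · exact (mul_inv_eq_iff_eq_mul.1 h).symm
      · rw [hzz, one_mul] at h
        exact (mul_inv_eq_iff_eq_mul.1 h).symm
    have hne : δ ≠ 1 := by rw [← map_one (outI (Q := Q))]; exact hd1 1
    have hinj := pairHom_injective 2 (2 * f) (order_two_of_ne hdd hne) hy hc' fun i hi => by
      obtain ⟨z, hz⟩ := hi
      have e2 : outT (T ^ i) = outS ((minusD hQ u₀ u₁ h0) ^ z) := by rw [map_pow, map_zpow]; exact hz.symm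
      have e3 := sig_of_outT_eq_outS S e2
      rw [map_pow, ← orderOf_dvd_iff_pow_eq_one, hord] at e3
      obtain ⟨j, rfl⟩ := e3
      have hz' : δ ^ z = (outT T ^ f) ^ j := by rw [← pow_mul]; exact hz
      rw [hyf, ← map_pow] at hz'
      rcases Int.even_or_odd z with ⟨w, rfl⟩ | ⟨w, rfl⟩
      · rw [pow_mul, hyf, ← map_pow, ← hz', ← two_mul, zpow_mul, zpow_two, hdd, one_zpow]
      · rw [zpow_add, zpow_mul, zpow_two, hdd, one_zpow, one_mul, zpow_one] at hz'
        exact absurd hz' (hd1 _)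
    obtain ⟨e⟩ := mulEquiv_of_card (⊤ : Subgroup (Cfsg.Out (Cfsg.POmega F ⇑Q))) _ hinj le_top (by
      simp [hout, hg]; ring)
    exact ⟨Subgroup.topEquiv.symm.trans e⟩

/-- Outer automorphism group of PΩ⁻_2m(q), m ≥ 4, q = p^f odd: it is dihedral of order 8 times cyclic of order f when q ≡ 3 (mod 4) and m is odd, and otherwise the direct product of a group of order 2 with a cyclic group of order 2f. -/
theorem result {F : Type*} [Field F] [Fintype F] {p f m : ℕ} [Fact p.Prime] (hf : 1 ≤ f) (hF : Fintype.card F = p ^ f) (hp : p ≠ 2) (hm : 4 ≤ m) (a b : F) (hab : ∀ z₁ z₂ : F, z₁ ^ 2 + a * z₁ * z₂ + b * z₂ ^ 2 = 0 → z₁ = 0 ∧ z₂ = 0) : if p ^ f % 4 = 3 ∧ Odd m then Nonempty (Cfsg.Out (Cfsg.POmega F (Cfsg.quadFormMinus (m - 1) F a b)) ≃* DihedralGroup 4 × Multiplicative (ZMod f)) else Nonempty (Cfsg.Out (Cfsg.POmega F (Cfsg.quadFormMinus (m - 1) F a b)) ≃* Multiplicative (ZMod 2 × ZMod (2 * f))) := by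
  obtain ⟨h1, h2⟩ := core (k := m - 1) hf hF hp (by omega) a b hab
  split
  · next h => exact h1 ⟨h.1, by have := Nat.odd_iff.1 h.2; omega⟩
  · next h => exact h2 fun h' => h ⟨h'.1, Nat.odd_iff.2 (by omega)⟩

end Cfsg.Agent.S2606
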