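import Cfsg.Statements.S2608
import Cfsg.Agent.Lib.AutPOmega.OutPlus
-- import your own Cfsg.Agent.* helpers here

set_option autoImplicit false
open Cfsg

namespace Cfsg.Agent.S2608

/-- Outer automorphism group of PΩ⁺_2m(q), q = p^f odd: for m = 4 it is S_4 × C_f (triality); for m ≥ 5 it is C_2 × C_2 × C_f when q ≡ 3 (mod 4) and m is odd, and D_8 × C_f otherwise. -/
theorem result {F : Type*} [Field F] [Fintype F] {p f m : ℕ} [Fact p.Prime] (hf : 1 ≤ f) (hF : Fintype.card F = p ^ f) (hp : p ≠ 2) (hm : 4 ≤ m) : if m = 4 then Nonempty (Cfsg.Out (Cfsg.POmega F (Cfsg.quadFormPlus m F)) ≃* Equiv.Perm (Fin 4) × Multiplicative (ZMod f)) else if p ^ f % 4 = 3 ∧ Odd m then Nonempty (Cfsg.Out (Cfsg.POmega F (Cfsg.quadFormPlus m F)) ≃* Multiplicative (ZMod 2 × ZMod 2 × ZMod f)) else Nonempty (Cfsg.Out (Cfsg.POmega F (Cfsg.quadFormPlus m F)) ≃* DihedralGroup 4 × Multiplicative (ZMod f)) := by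
  haveI : NeZero f := ⟨by omega⟩
  haveI : CharP F p := charP_of_card_eq_prime_pow hF
  have h2 : (2 : F) ≠ 0 := fun h => hp ((Nat.prime_dvd_prime_iff_eq Fact.out Nat.prime_two).1
    ((CharP.cast_eq_zero_iff F p 2).1 (by exact_mod_cast h)))
  split
  · next h =>
    subst h
    exact (AutPOmega.out_plus_four (F := F) hF).2 hp
  next h4 =>
  rw [← AutPOmega.coe_qPlus]
  obtain ⟨g, hg, hA, hB⟩ := AutPOmega.out_plus_odd (AutPOmega.qset_plus (F := F) hm) hF h2 (by omega)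
  have hq : (p ^ f) % 2 = 1 := Nat.odd_iff.1 ((Fact.out : p.Prime).odd_of_ne_two hp).pow
  have hcs := AutPOmega.gcd_four_cases hq m
  have hpos : 1 ≤ (p ^ f) ^ m := Nat.one_le_pow _ _ (by omega)
  rw [hF] at hg
  split
  · next h =>
    have := hcs.1 ⟨Nat.odd_iff.1 h.2, h.1⟩
    exact hA (by rw [hg, Nat.gcd_rec, show ((p ^ f) ^ m - 1) % 4 = 2 by omega]; rfl)
  · next h =>
    have := hcs.2 fun h' => h ⟨h'.2, Nat.odd_iff.2 h'.1⟩
    exact hB (by rw [hg, Nat.gcd_rec, show ((p ^ f) ^ m - 1) % 4 = 0 by omega, Nat.gcd_zero_left])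

end Cfsg.Agent.S2608
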