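import Cfsg.Statements.S2609
import Cfsg.Agent.Lib.Spinor.Tools
-- import your own Cfsg.Agent.* helpers here

set_option autoImplicit false
open Cfsg

namespace Cfsg.Agent.S2609

/-- Spinor norm criterion for Ω over a finite field of odd order: let Q be a quadratic form on F^n, n ≥ 2, with non-degenerate polar form, and let g be an isometry written as a product of reflections in non-singular vectors v_1, …, v_k. Then g lies in Ω (the commutator subgroup of the orthogonal group) if and only if k is even and Q(v_1)⋯Q(v_k) is a square; in particular, for g of determinant one, whether that product is a square does not depend on the chosen factorisation (it is the spinor norm of g). -/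
theorem result {F : Type*} [Field F] [Fintype F] (h2 : (2 : F) ≠ 0) {n : ℕ} (hn : 2 ≤ n) (Q : QuadraticForm F (Fin n → F)) (hQ : (QuadraticMap.polarBilin Q).Nondegenerate) (g : ↥(Cfsg.isometryGroup F ⇑Q)) (vs : List (Fin n → F)) (hvs : ∀ v ∈ vs, Q v ≠ 0) (hg : ((g : Matrix.GeneralLinearGroup (Fin n) F) : Matrix (Fin n) (Fin n) F) = (vs.map (fun v => Cfsg.reflectionMatrix ⇑Q v)).prod) : g ∈ Cfsg.Omega F ⇑Q ↔ (Even vs.length ∧ IsSquare (vs.map (fun v => Q v)).prod) := by
  have hexc : Fintype.card F ≠ 2 ∨ Fintype.card (Fin n) ≠ 4 := Or.inl fun h => h2 (by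
    have := FiniteField.cast_card_eq_zero F; rw [h] at this; exact_mod_cast this)
  have hgen := Spinor.reflGroup_eq_top hQ (by rwa [Module.finrank_fintype_fun_eq_card])
  have e : FormsLib.oEquiv Q g =
      (vs.attach.map fun v => FormsLib.oRefl Q v.1 (hvs v.1 v.2)).prod := by
    refine (MulEquiv.eq_symm_apply _).1 (Subtype.ext (Units.ext ?_))
    show ((g : Matrix.GeneralLinearGroup (Fin n) F) : Matrix (Fin n) (Fin n) F) =
      (((Units.coeHom (Matrix (Fin n) (Fin n) F)).comp (Cfsg.isometryGroup F ⇑Q).subtype).comp
        (FormsLib.oEquiv Q).symm.toMonoidHom) _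
    rw [hg, map_list_prod, List.map_map]
    congr 1
    conv_lhs => rw [← List.attach_map_subtype_val vs, List.map_map]
    refine List.map_congr_left fun v _ => ?_
    exact (Spinor.oRefl_matrix Q (hvs v.1 v.2)).symm
  rw [Spinor.mem_Omega_iff' Q hQ hexc, e]
  obtain ⟨h3, h4⟩ := Spinor.prod_oRefl hQ hgen vs hvs
  rw [h3, h4, neg_one_pow_eq_one_iff_even (by decide)]

end Cfsg.Agent.S2609
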