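import Cfsg.Statements.S2610
import Cfsg.Agent.Lib.Spinor.Products
import Cfsg.Agent.Lib.Discriminant.Gram
-- import your own Cfsg.Agent.* helpers here

set_option autoImplicit false
open Cfsg

namespace Cfsg.Agent.S2610

/-- For a quadratic form Q on F^n with non-degenerate polar form, F finite of odd order and n ≥ 2 even, the isometry −1 lies in Ω (the commutator subgroup of the orthogonal group) if and only if the discriminant of Q (the determinant of the Gram matrix of its polar form) is a square. -/
theorem result {F : Type*} [Field F] [Fintype F] (h2 : (2 : F) ≠ 0) {n : ℕ} (hn : 2 ≤ n) (he : Even n) (Q : QuadraticForm F (Fin n → F)) (hQ : (QuadraticMap.polarBilin Q).Nondegenerate) : (∃ g : ↥(Cfsg.isometryGroup F ⇑Q), g ∈ Cfsg.Omega F ⇑Q ∧ ((g : Matrix.GeneralLinearGroup (Fin n) F) : Matrix (Fin n) (Fin n) F) = -1) ↔ IsSquare (Matrix.of (fun i j : Fin n => QuadraticMap.polar ⇑Q (Pi.single i 1) (Pi.single j 1))).det := by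
  classical
  haveI : Invertible (2 : F) := invertibleOfNonzero h2
  have hgen := Spinor.reflGroup_eq_top_of_odd hQ h2
  obtain ⟨b₀, hb₀⟩ := LinearMap.BilinForm.exists_orthogonal_basis
    (B := QuadraticMap.polarBilin Q) ⟨fun x y => QuadraticMap.polar_comm (⇑Q) x y⟩
  let b := b₀.reindex (finCongr (Module.finrank_fin_fun F))
  have horth : ∀ i j, i ≠ j → QuadraticMap.polar Q (b i) (b j) = 0 := fun i j hij => by
    simp only [b, Module.Basis.reindex_apply]
    exact hb₀ (fun h => hij (by simpa using h))
  have hne : ∀ i, Q (b i) ≠ 0 := by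
    intro i h0
    refine b.ne_zero i (hQ.1 _ fun y => ?_)
    rw [← b.sum_repr y]
    simp only [map_sum, map_smul]
    refine Finset.sum_eq_zero fun j _ => ?_
    rcases eq_or_ne i j with rfl | hij
    · simp [FormsLib.polar_self', h0]
    · simp [horth i j hij]
  obtain ⟨σ, h1, -, h3, h4⟩ := Spinor.exists_neg_on hQ hgen b horth Finset.univ fun i _ => hne i
  have hσ : ∀ x, σ.1 x = -x := fun x => by
    rw [← b.sum_repr x, map_sum, ← Finset.sum_neg_distrib]
    exact Finset.sum_congr rfl fun i _ => by rw [map_smul, h1 i (Finset.mem_univ i), smul_neg]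
  set g := (FormsLib.oEquiv Q).symm σ
  have hg : ((g : Matrix.GeneralLinearGroup (Fin n) F) : Matrix (Fin n) (Fin n) F) = -1 :=
    Matrix.ext_of_mulVec_single fun i => by
      rw [← FormsLib.oEquiv_apply, MulEquiv.apply_symm_apply, hσ, Matrix.neg_mulVec, Matrix.one_mulVec]
  have hiff : g ∈ Cfsg.Omega F ⇑Q ↔ IsSquare (∏ i, Q (b i)) := by
    rw [Spinor.mem_Omega_iff' Q hQ (Or.inl (Spinor.card_ne_two h2)), MulEquiv.apply_symm_apply, h3,
      Finset.card_univ, Fintype.card_fin, he.neg_one_pow, h4]
    simp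
  obtain ⟨d, hd, hdet⟩ := Disc.exists_det_gram b
    (Matrix.of fun i j : Fin n => QuadraticMap.polar ⇑Q (Pi.single i 1) (Pi.single j 1))
    (fun u v => QuadraticMap.polar ⇑Q u v) (fun u v => by
      conv_lhs => rw [pi_eq_sum_univ' u, pi_eq_sum_univ' v]
      simp only [← QuadraticMap.polarBilin_apply_apply, map_sum, map_smul, LinearMap.sum_apply,
        LinearMap.smul_apply, dotProduct, Matrix.mulVec, Matrix.of_apply, smul_eq_mul, Finset.mul_sum]
      rw [Finset.sum_comm]
      exact Finset.sum_congr rfl fun i _ => Finset.sum_congr rfl fun j _ => by ring)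
  rw [show (Matrix.of fun i j => QuadraticMap.polar ⇑Q (b i) (b j)) =
      Matrix.diagonal (fun i => 2 * Q (b i)) by
    ext i j
    rcases eq_or_ne i j with rfl | hij
    · simp [FormsLib.polar_self']
    · simp [hij, horth i j hij]] at hdet
  rw [Matrix.det_diagonal, Finset.prod_mul_distrib, Finset.prod_const, Finset.card_univ,
    Fintype.card_fin] at hdet
  obtain ⟨k, rfl⟩ := he
  rw [← Disc.isSquare_mul_self_mul hd, ← hdet, pow_add,
    Disc.isSquare_mul_self_mul (pow_ne_zero k h2), ← hiff]
  constructor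
  · rintro ⟨g', hg', hg''⟩
    rwa [show g' = g from Subtype.ext (Units.ext (hg''.trans hg.symm))] at hg'
  · exact fun h => ⟨g, h, hg⟩

end Cfsg.Agent.S2610
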