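import Cfsg.Statements.S2611
import Cfsg.Agent.Lib.Spinor.Plus
import Cfsg.Agent.Lib.LinearGroups.Basic
-- import your own Cfsg.Agent.* helpers here

set_option autoImplicit false
open Cfsg

namespace Cfsg.Agent.S2611

open scoped Matrix

open Cfsg.Agent.FormsLib in
/-- `A ↦ diag(A, (A⁻¹)ᵀ)`. -/
noncomputable def diagHom (F : Type*) [Field F] (m : ℕ) :
    GL (Fin m) F →* Cfsg.isometryGroup F ⇑(OrthOrder.qPlus m F) where
  toFun A := ⟨⟨Matrix.fromBlocks (A : Matrix (Fin m) (Fin m) F) 0 0
        ((A : Matrix (Fin m) (Fin m) F)⁻¹).transpose,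
      Matrix.fromBlocks ((A : Matrix (Fin m) (Fin m) F)⁻¹) 0 0 (A : Matrix (Fin m) (Fin m) F).transpose,
      by
        simp only [Matrix.fromBlocks_multiply, mul_zero, zero_mul, add_zero, zero_add,
          ← Matrix.transpose_mul, Matrix.mul_nonsing_inv _ (Matrix.isUnits_det_units A),
          Matrix.nonsing_inv_mul _ (Matrix.isUnits_det_units A), Matrix.transpose_one,
          Matrix.fromBlocks_one],
      by
        simp only [Matrix.fromBlocks_multiply, mul_zero, zero_mul, add_zero, zero_add,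
          ← Matrix.transpose_mul, Matrix.mul_nonsing_inv _ (Matrix.isUnits_det_units A),
          Matrix.nonsing_inv_mul _ (Matrix.isUnits_det_units A), Matrix.transpose_one,
          Matrix.fromBlocks_one]⟩, fun v w => by
    show OrthOrder.qPlus m F (Matrix.fromBlocks _ _ _ _ *ᵥ v) = OrthOrder.qPlus m F v
    rw [OrthOrder.qPlus_apply, OrthOrder.qPlus_apply, Matrix.fromBlocks_mulVec, Matrix.zero_mulVec,
      Matrix.zero_mulVec, add_zero, zero_add]
    show (A : Matrix (Fin m) (Fin m) F) *ᵥ (v ∘ Sum.inl) ⬝ᵥ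
      ((A : Matrix (Fin m) (Fin m) F)⁻¹).transpose *ᵥ (v ∘ Sum.inr) = (v ∘ Sum.inl) ⬝ᵥ (v ∘ Sum.inr)
    rw [Matrix.mulVec_transpose, dotProduct_comm, ← Matrix.dotProduct_mulVec, Matrix.mulVec_mulVec,
      Matrix.nonsing_inv_mul _ (Matrix.isUnits_det_units A), Matrix.one_mulVec, dotProduct_comm]⟩
  map_one' := Subtype.ext (Units.ext (by simp))
  map_mul' A B := Subtype.ext (Units.ext (by
    simp [Matrix.fromBlocks_multiply, Matrix.mul_inv_rev, Matrix.transpose_mul]))


/-- For the hyperbolic quadratic form Σ x_i y_i on F^(2m) (F finite, m ≥ 1, excluding m = 2 over the field of two elements) and an invertible m × m matrix A, the block-diagonal isometry diag(A, (A⁻¹)ᵀ), which stabilises the two maximal totally singular subspaces x = 0 and y = 0, lies in Ω⁺_2m(F) (the commutator subgroup of the orthogonal group) if and only if det A is a square in F. -/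
theorem result {F : Type*} [Field F] [Fintype F] {m : ℕ} (hm : 1 ≤ m) (h : Fintype.card F ≠ 2 ∨ m ≠ 2) (A : GL (Fin m) F) : (∃ g : ↥(Cfsg.isometryGroup F (Cfsg.quadFormPlus m F)), g ∈ Cfsg.Omega F (Cfsg.quadFormPlus m F) ∧ ((g : Matrix.GeneralLinearGroup (Fin m ⊕ Fin m) F) : Matrix (Fin m ⊕ Fin m) (Fin m ⊕ Fin m) F) = Matrix.fromBlocks (A : Matrix (Fin m) (Fin m) F) 0 0 ((A : Matrix (Fin m) (Fin m) F)⁻¹).transpose) ↔ IsSquare (A : Matrix (Fin m) (Fin m) F).det := by
  classical
  have hQ := OrthForms.qPlus_nondeg (F := F) m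
  rw [← funext (OrthOrder.qPlus_apply (F := F) m)]
  set Q := OrthOrder.qPlus m F with hQdef
  have hexc := Spinor.qPlus_hexc h
  have hgen := Spinor.reflGroup_eq_top hQ (by rwa [Module.finrank_fintype_fun_eq_card])
  set j : Fin m := ⟨0, by omega⟩
  set d : F := (A : Matrix (Fin m) (Fin m) F).det
  have hd : d ≠ 0 := (Matrix.isUnits_det_units A).ne_zero
  have hdD : (Matrix.diagonal (Function.update (1 : Fin m → F) j d)).det = d := by
    rw [Matrix.det_diagonal, Finset.prod_update_of_mem (Finset.mem_univ j)]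
    simp
  let D : GL (Fin m) F := Matrix.GeneralLinearGroup.mk''
    (Matrix.diagonal (Function.update (1 : Fin m → F) j d)) (by rw [hdD]; exact hd.isUnit)
  have hAD : A * D⁻¹ ∈ commutator (GL (Fin m) F) := by
    rw [LinGrp.commutator_GL_eq (fun h2 => Spinor.exists_ne_zero_ne_one
      (h.resolve_right (fun hne => hne (by simpa using h2)))), MonoidHom.mem_ker, map_mul, map_inv,
      mul_inv_eq_one]
    exact Units.ext hdD.symm
  have hΦ : diagHom F m A ∈ Cfsg.Omega F ⇑Q ↔ diagHom F m D ∈ Cfsg.Omega F ⇑Q := by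
    have hc : diagHom F m (A * D⁻¹) ∈ Cfsg.Omega F ⇑Q := by
      have := Subgroup.mem_map_of_mem (diagHom F m) hAD
      rw [commutator_def, Subgroup.map_commutator] at this
      exact Subgroup.commutator_mono le_top le_top this
    rw [show diagHom F m A = diagHom F m (A * D⁻¹) * diagHom F m D by
      rw [← map_mul, inv_mul_cancel_right]]
    exact Subgroup.mul_mem_cancel_left _ hc
  set u : Fin m ⊕ Fin m → F := Pi.single (Sum.inl j) 1 with hu'
  set f : Fin m ⊕ Fin m → F := Pi.single (Sum.inr j) 1 with hf'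
  have hu : Q u = 0 := by simp [hQdef, hu', OrthOrder.qPlus_apply, Cfsg.quadFormPlus]
  have hf : Q f = 0 := by simp [hQdef, hf', OrthOrder.qPlus_apply, Cfsg.quadFormPlus]
  have huf : QuadraticMap.polar Q u f = 1 := by
    simp [hQdef, hu', hf', Spinor.polar_qPlus, Pi.single_apply]
  have e1 : Q (u - f) ≠ 0 := by
    rw [sub_eq_add_neg, FormsLib.quad_add, QuadraticMap.map_neg, QuadraticMap.polar_neg_right, hu,
      hf, huf]
    simp
  have e2 : Q (u - d • f) ≠ 0 := by
    rw [sub_eq_add_neg, FormsLib.quad_add, QuadraticMap.map_neg, QuadraticMap.map_smul,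
      QuadraticMap.polar_neg_right, QuadraticMap.polar_smul_right, hu, hf, huf]
    simpa using hd
  obtain ⟨hpu, hpf, hpx, q1, q2⟩ := Spinor.pair_apply hu hf huf hd e1 e2
  obtain ⟨i1, i2⟩ := Spinor.pair_invariants hQ hgen e1 e2 hd (by rw [q1, q2]; ring)
  have hDinv : ((D : Matrix (Fin m) (Fin m) F)⁻¹) =
      Matrix.diagonal (Function.update (1 : Fin m → F) j d⁻¹) := by
    refine Matrix.inv_eq_right_inv ?_
    show Matrix.diagonal _ * Matrix.diagonal _ = 1
    rw [Matrix.diagonal_mul_diagonal, ← Matrix.diagonal_one]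
    congr 1
    funext k
    by_cases hk : k = j
    · subst hk; simp [hd]
    · simp [hk]
  have hD : FormsLib.oEquiv Q (diagHom F m D) =
      FormsLib.oRefl Q (u - f) e1 * FormsLib.oRefl Q (u - d • f) e2 := by
    refine Subtype.ext (LinearEquiv.toLinearMap_injective ((Pi.basisFun F _).ext fun k => ?_))
    rw [Pi.basisFun_apply, LinearEquiv.coe_coe, LinearEquiv.coe_coe, FormsLib.oEquiv_apply]
    show Matrix.fromBlocks (Matrix.diagonal (Function.update (1 : Fin m → F) j d)) 0 0
      ((D : Matrix (Fin m) (Fin m) F)⁻¹).transpose *ᵥ _ = _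
    rw [hDinv, Matrix.diagonal_transpose, Matrix.fromBlocks_diagonal, Matrix.diagonal_mulVec_single,
      mul_one]
    rcases k with k | k <;> by_cases hk : k = j
    · subst hk
      rw [hpu, hu', ← Pi.single_smul', smul_eq_mul, mul_one]
      simp
    · rw [hpx _ (by simp [hQdef, hu', Spinor.polar_qPlus, Pi.single_apply])
        (by simp [hQdef, hf', Spinor.polar_qPlus, Pi.single_apply, hk, Ne.symm hk])]
      simp [hk]
    · subst hk
      rw [hpf, hf', ← Pi.single_smul', smul_eq_mul, mul_one]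
      simp
    · rw [hpx _ (by simp [hQdef, hu', Spinor.polar_qPlus, Pi.single_apply, hk, Ne.symm hk])
        (by simp [hQdef, hf', Spinor.polar_qPlus, Pi.single_apply])]
      simp [hk]
  have hiff : diagHom F m A ∈ Cfsg.Omega F ⇑Q ↔ IsSquare d := by
    rw [hΦ, Spinor.mem_Omega_iff' Q hQ hexc, hD, i1, i2]
    simp
  rw [← hiff]
  constructor
  · rintro ⟨g, hg, hg'⟩
    rwa [show diagHom F m A = g from Subtype.ext (Units.ext hg'.symm)]
  · exact fun hA => ⟨_, hA, rfl⟩

end Cfsg.Agent.S2611
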