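import Cfsg.Statements.S2612
import Cfsg.Agent.Lib.Spinor.Plus
-- import your own Cfsg.Agent.* helpers here

set_option autoImplicit false
open Cfsg

namespace Cfsg.Agent.S2612

/-- For the hyperbolic quadratic form Σ x_i y_i on F^(2m) (F finite, m ≥ 1, excluding m = 2 over the field of two elements), Ω⁺_2m(F) (the commutator subgroup of the orthogonal group) contains an element interchanging the two complementary maximal totally singular subspaces {y = 0} and {x = 0} if and only if m is even (dimension divisible by 4). -/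
theorem result {F : Type*} [Field F] [Fintype F] {m : ℕ} (hm : 1 ≤ m) (h : Fintype.card F ≠ 2 ∨ m ≠ 2) : (∃ g : ↥(Cfsg.isometryGroup F (Cfsg.quadFormPlus m F)), g ∈ Cfsg.Omega F (Cfsg.quadFormPlus m F) ∧ (∀ v : Fin m ⊕ Fin m → F, (∀ i, v (Sum.inr i) = 0) → ∀ i, (((g : Matrix.GeneralLinearGroup (Fin m ⊕ Fin m) F) : Matrix (Fin m ⊕ Fin m) (Fin m ⊕ Fin m) F).mulVec v) (Sum.inl i) = 0) ∧ (∀ v : Fin m ⊕ Fin m → F, (∀ i, v (Sum.inl i) = 0) → ∀ i, (((g : Matrix.GeneralLinearGroup (Fin m ⊕ Fin m) F) : Matrix (Fin m ⊕ Fin m) (Fin m ⊕ Fin m) F).mulVec v) (Sum.inr i) = 0)) ↔ Even m := by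
  have hQ := OrthForms.qPlus_nondeg (F := F) m
  rw [← funext (OrthOrder.qPlus_apply (F := F) m)]
  set Q := OrthOrder.qPlus m F with hQdef
  have hgen := Spinor.reflGroup_eq_top hQ
    (by rw [Module.finrank_fintype_fun_eq_card]; exact Spinor.qPlus_hexc h)
  -- a swapping isometry has parity `m`
  have hswap : ∀ g : FormsLib.oGroup Q, (∀ v : Fin m ⊕ Fin m → F, (∀ i, v (Sum.inr i) = 0) →
      ∀ i, g.1 v (Sum.inl i) = 0) → (Spinor.dick g = 1 ↔ Even m) := by
    intro g hg
    rw [Spinor.dick_eq_one_iff_even hQ hgen Spinor.finrank_plus g Spinor.halfX_singular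
      Spinor.finrank_halfX rfl]
    have : Spinor.halfX F m ⊓ (Spinor.halfX F m).map (g.1 : (Fin m ⊕ Fin m → F) →ₗ[F] _) = ⊥ := by
      rw [Submodule.eq_bot_iff]
      rintro _ ⟨hx, v, hv, rfl⟩
      funext i
      rcases i with i | i
      · exact hg v (Spinor.mem_halfX.1 hv) i
      · exact Spinor.mem_halfX.1 hx i
    rw [this, finrank_bot, Nat.sub_zero]
  constructor
  · rintro ⟨g, hg, hX, -⟩
    refine (hswap (FormsLib.oEquiv Q g) fun v hv i => ?_).1
      ((Spinor.mem_Omega_iff' Q hQ (Spinor.qPlus_hexc h) g).1 hg).1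
    rw [FormsLib.oEquiv_apply]
    exact hX v hv i
  intro hev
  let σ : FormsLib.oGroup Q :=
    ⟨LinearEquiv.funCongrLeft F F (Equiv.sumComm (Fin m) (Fin m)), fun x => by
      simp only [hQdef, OrthOrder.qPlus_apply, Cfsg.quadFormPlus]
      exact Finset.sum_congr rfl fun i _ => mul_comm _ _⟩
  have hσ : Spinor.dick σ = 1 := (hswap σ fun v hv i => hv i).2 hev
  obtain ⟨a, ⟨ha, ha'⟩, hc⟩ := Spinor.exists_adjust hQ
    (by rw [Module.finrank_fintype_fun_eq_card]; exact Spinor.qPlus_hexc h)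
    (fun a : FormsLib.oGroup Q => (∀ v : Fin m ⊕ Fin m → F, (∀ i, v (Sum.inr i) = 0) →
      ∀ i, a.1 v (Sum.inr i) = 0) ∧ (∀ v : Fin m ⊕ Fin m → F, (∀ i, v (Sum.inl i) = 0) →
      ∀ i, a.1 v (Sum.inl i) = 0))
    ⟨fun v hv => hv, fun v hv => hv⟩
    (fun a b ha hb => ⟨fun v hv => ha.1 _ (hb.1 v hv), fun v hv => ha.2 _ (hb.2 v hv)⟩)
    σ (Or.inl hσ) (fun h2 => by
      obtain ⟨d, hd, hns⟩ := Spinor.exists_nonsquare (F := F) h2
      set j : Fin m := ⟨0, by omega⟩
      set u : Fin m ⊕ Fin m → F := Pi.single (Sum.inl j) 1 with hu'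
      set f : Fin m ⊕ Fin m → F := Pi.single (Sum.inr j) 1 with hf'
      have hu : Q u = 0 := by simp [hQdef, hu', OrthOrder.qPlus_apply, Cfsg.quadFormPlus]
      have hf : Q f = 0 := by simp [hQdef, hf', OrthOrder.qPlus_apply, Cfsg.quadFormPlus]
      have huf : QuadraticMap.polar Q u f = 1 := by
        simp [hQdef, hu', hf', Spinor.polar_qPlus, Pi.single_apply]
      have e1 : Q (u - f) ≠ 0 := by
        rw [sub_eq_add_neg, FormsLib.quad_add, QuadraticMap.map_neg, QuadraticMap.polar_neg_right, hu,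
          hf, huf]
        simp
      have e2 : Q (u - d • f) ≠ 0 := by
        rw [sub_eq_add_neg, FormsLib.quad_add, QuadraticMap.map_neg, QuadraticMap.map_smul,
          QuadraticMap.polar_neg_right, QuadraticMap.polar_smul_right, hu, hf, huf]
        simpa using hd
      obtain ⟨hpu, hpf, hpx, q1, q2⟩ := Spinor.pair_apply hu hf huf hd e1 e2
      obtain ⟨i1, i2⟩ := Spinor.pair_invariants hQ hgen e1 e2 hd (by rw [q1, q2]; ring)
      refine ⟨_, ⟨?_, ?_⟩, i1, (Int.units_eq_one_or _).resolve_left fun h => hns (i2.1 h)⟩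
      · intro v hv i
        obtain ⟨w, hwv⟩ : ∃ w, v = w + v (Sum.inl j) • u := ⟨v - v (Sum.inl j) • u, by abel⟩
        have hw : ∀ k, w (Sum.inr k) = 0 := fun k => by
          have := congrFun hwv (Sum.inr k)
          simpa [hu', hv k] using this.symm
        have hwj : w (Sum.inl j) = 0 := by
          have := congrFun hwv (Sum.inl j)
          simpa [hu'] using this
        rw [hwv, map_add, map_smul, hpu, hpx w ?_ ?_]
        · simp [hw i, hu']
        · simp [hQdef, hu', Spinor.polar_qPlus, hw, Pi.single_apply]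
        · simp [hQdef, hf', Spinor.polar_qPlus, hw, hwj, Pi.single_apply]
      · intro v hv i
        obtain ⟨w, hwv⟩ : ∃ w, v = w + v (Sum.inr j) • f := ⟨v - v (Sum.inr j) • f, by abel⟩
        have hw : ∀ k, w (Sum.inl k) = 0 := fun k => by
          have := congrFun hwv (Sum.inl k)
          simpa [hf', hv k] using this.symm
        have hwj : w (Sum.inr j) = 0 := by
          have := congrFun hwv (Sum.inr j)
          simpa [hf'] using this
        rw [hwv, map_add, map_smul, hpf, hpx w ?_ ?_]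
        · simp [hw i, hf']
        · simp [hQdef, hu', Spinor.polar_qPlus, hw, hwj, Pi.single_apply]
        · simp [hQdef, hf', Spinor.polar_qPlus, hw, Pi.single_apply])
  refine ⟨(FormsLib.oEquiv Q).symm (σ * a),
    (Spinor.mem_Omega_iff Q _).2 (by rwa [MulEquiv.apply_symm_apply]), fun v hv i => ?_, fun v hv i => ?_⟩
  · rw [← FormsLib.oEquiv_apply, MulEquiv.apply_symm_apply]
    exact ha v hv i
  · rw [← FormsLib.oEquiv_apply, MulEquiv.apply_symm_apply]
    exact ha' v hv i

end Cfsg.Agent.S2612
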