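import Cfsg.Statements.S2613
import Cfsg.Agent.Lib.Spinor.Pairs
import Cfsg.Agent.Lib.LinearGroups.OrthForms
-- import your own Cfsg.Agent.* helpers here

set_option autoImplicit false
open Cfsg

namespace Cfsg.Agent.S2613

/-- For the hyperbolic form Σ x_j y_j on F^(2m), F finite with q elements, q odd, and 1 ≤ i ≤ m: the involution negating the first i hyperbolic pairs (x_j, y_j ↦ −x_j, −y_j for j < i) and fixing the rest lies in Ω⁺_2m(q) (commutator subgroup of the orthogonal group) if and only if q^i ≡ 1 (mod 4); its (−1)-eigenspace is a hyperbolic 2i-space. -/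
theorem result {F : Type*} [Field F] [Fintype F] {q : ℕ} (hF : Fintype.card F = q) (hq : Odd q) {m : ℕ} (i : ℕ) (hi : 1 ≤ i) (him : i ≤ m) : (∃ g : ↥(Cfsg.isometryGroup F (Cfsg.quadFormPlus m F)), g ∈ Cfsg.Omega F (Cfsg.quadFormPlus m F) ∧ ((g : Matrix.GeneralLinearGroup (Fin m ⊕ Fin m) F) : Matrix (Fin m ⊕ Fin m) (Fin m ⊕ Fin m) F) = Matrix.diagonal (fun k : Fin m ⊕ Fin m => if (Sum.elim (fun j : Fin m => (j : ℕ)) (fun j : Fin m => (j : ℕ)) k) < i then (-1 : F) else 1)) ↔ q ^ i % 4 = 1 := by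
  have hp : ∀ u v, QuadraticMap.polar (OrthOrder.qPlus m F) u v =
      ∑ j, (u (.inl j) * v (.inr j) + v (.inl j) * u (.inr j)) := fun u v => by
    simp only [QuadraticMap.polar, OrthOrder.qPlus_apply, Cfsg.quadFormPlus, Pi.add_apply,
      ← Finset.sum_sub_distrib]
    exact Finset.sum_congr rfl fun j _ => by ring
  refine Spinor.pairs_iff hF hq (OrthOrder.qPlus m F) (OrthForms.qPlus_nondeg m)
    (funext (OrthOrder.qPlus_apply m)) (fun j : Fin i => Sum.inl (Fin.castLE him j))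
    (fun j => Sum.inr (Fin.castLE him j))
    (fun k => (Sum.elim (fun j : Fin m => (j : ℕ)) (fun j : Fin m => (j : ℕ)) k) < i) ?_ ?_ ?_ ?_ ?_ ?_ ?_
  · rintro (k | k) <;> simp only [Sum.elim_inl, Sum.elim_inr] <;>
      exact ⟨fun h => ⟨⟨k, h⟩, by simp⟩, by rintro ⟨j, h | h⟩ <;> simp_all⟩
  · exact fun j => by simp [OrthOrder.qPlus_apply, Cfsg.quadFormPlus]
  · exact fun j => by simp [OrthOrder.qPlus_apply, Cfsg.quadFormPlus]
  · exact fun j j' _ => by simp [hp]
  · exact fun j j' _ => by simp [hp]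
  · intro j j'
    simp [hp, Pi.single_apply, eq_comm]
  · rintro (k | k) hk j <;> simp [hp, Pi.single_apply] <;>
      exact fun h => hk (by subst h; simp)

end Cfsg.Agent.S2613
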