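import Cfsg.Statements.S2614
import Cfsg.Agent.Lib.Spinor.Pairs
import Cfsg.Agent.Lib.LinearGroups.OrthForms
-- import your own Cfsg.Agent.* helpers here

set_option autoImplicit false
open Cfsg

namespace Cfsg.Agent.S2614

/-- For the form x_0² + Σ x_j y_j on F^(2m+1), F finite with q elements, q odd, and 1 ≤ i ≤ m: the involution of determinant one negating the first i hyperbolic pairs (and fixing x_0 and the other pairs) lies in Ω_(2m+1)(q) (commutator subgroup of the orthogonal group) if and only if q^i ≡ 1 (mod 4); its (−1)-eigenspace is a hyperbolic 2i-space. -/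
theorem result {F : Type*} [Field F] [Fintype F] {q : ℕ} (hF : Fintype.card F = q) (hq : Odd q) {m : ℕ} (i : ℕ) (hi : 1 ≤ i) (him : i ≤ m) : (∃ g : ↥(Cfsg.isometryGroup F (Cfsg.quadFormOdd m F)), g ∈ Cfsg.Omega F (Cfsg.quadFormOdd m F) ∧ ((g : Matrix.GeneralLinearGroup (Unit ⊕ (Fin m ⊕ Fin m)) F) : Matrix (Unit ⊕ (Fin m ⊕ Fin m)) (Unit ⊕ (Fin m ⊕ Fin m)) F) = Matrix.diagonal (fun k : Unit ⊕ (Fin m ⊕ Fin m) => if (Sum.elim (fun _ : Unit => i) (Sum.elim (fun j : Fin m => (j : ℕ)) (fun j : Fin m => (j : ℕ))) k) < i then (-1 : F) else 1)) ↔ q ^ i % 4 = 1 := by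
  have h2 : (2 : F) ≠ 0 := Disc.two_ne_zero_of_odd (hF ▸ hq)
  have hp := FormsLib.qOdd_polar (F := F) (m := m)
  refine Spinor.pairs_iff hF hq (FormsLib.qOdd m F) (FormsLib.qOdd_nondeg h2)
    FormsLib.coe_qOdd (fun j : Fin i => Sum.inr (Sum.inl (Fin.castLE him j)))
    (fun j => Sum.inr (Sum.inr (Fin.castLE him j)))
    (fun k => (Sum.elim (fun _ : Unit => i)
      (Sum.elim (fun j : Fin m => (j : ℕ)) (fun j : Fin m => (j : ℕ))) k) < i) ?_ ?_ ?_ ?_ ?_ ?_ ?_
  · rintro (u | k | k) <;> simp only [Sum.elim_inl, Sum.elim_inr]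
    · simp
    all_goals exact ⟨fun h => ⟨⟨k, h⟩, by simp⟩, by rintro ⟨j, h | h⟩ <;> simp_all⟩
  · exact fun j => by simp [FormsLib.qOdd_apply]
  · exact fun j => by simp [FormsLib.qOdd_apply]
  · exact fun j j' _ => by simp [hp]
  · exact fun j j' _ => by simp [hp]
  · intro j j'
    simp [hp, Pi.single_apply, eq_comm]
  · rintro (u | k | k) hk j <;> simp [hp, Pi.single_apply] <;>
      exact fun h => hk (by subst h; simp)

end Cfsg.Agent.S2614
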