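import Cfsg.Statements.S2615
import Cfsg.Agent.Lib.Spinor.Pairs
import Cfsg.Agent.Lib.LinearGroups.OrthForms
-- import your own Cfsg.Agent.* helpers here

set_option autoImplicit false
open Cfsg

namespace Cfsg.Agent.S2615

/-- For an elliptic form Σ_(j<m−1) x_j y_j + (z₁² + a z₁z₂ + b z₂²) (anisotropic binary part) on F^(2m), F finite with q elements, q odd, and 1 ≤ i ≤ m − 1: the involution negating the first i hyperbolic pairs and fixing the rest lies in Ω⁻_2m(q) (commutator subgroup of the orthogonal group) if and only if q^i ≡ 1 (mod 4). -/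
theorem result {F : Type*} [Field F] [Fintype F] {q : ℕ} (hF : Fintype.card F = q) (hq : Odd q) {m : ℕ} (a b : F) (hab : ∀ z₁ z₂ : F, z₁ ^ 2 + a * z₁ * z₂ + b * z₂ ^ 2 = 0 → z₁ = 0 ∧ z₂ = 0) (i : ℕ) (hi : 1 ≤ i) (him : i + 1 ≤ m) : (∃ g : ↥(Cfsg.isometryGroup F (Cfsg.quadFormMinus (m - 1) F a b)), g ∈ Cfsg.Omega F (Cfsg.quadFormMinus (m - 1) F a b) ∧ ((g : Matrix.GeneralLinearGroup ((Fin (m - 1) ⊕ Fin (m - 1)) ⊕ Fin 2) F) : Matrix ((Fin (m - 1) ⊕ Fin (m - 1)) ⊕ Fin 2) ((Fin (m - 1) ⊕ Fin (m - 1)) ⊕ Fin 2) F) = Matrix.diagonal (fun k : (Fin (m - 1) ⊕ Fin (m - 1)) ⊕ Fin 2 => if (Sum.elim (Sum.elim (fun j : Fin (m - 1) => (j : ℕ)) (fun j : Fin (m - 1) => (j : ℕ))) (fun _ : Fin 2 => i) k) < i then (-1 : F) else 1)) ↔ q ^ i % 4 = 1 := by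
  obtain ⟨Q, hQf, hQ⟩ := OrthForms.exists_qMinus (F := F) (m - 1) a b hab
  have him' : i ≤ m - 1 := by omega
  have hp : ∀ u v, QuadraticMap.polar Q u v =
      (∑ j : Fin (m - 1), (u (.inl (.inl j)) * v (.inl (.inr j)) + v (.inl (.inl j)) * u (.inl (.inr j)))) +
        (2 * (u (.inr 0) * v (.inr 0)) + a * (u (.inr 0) * v (.inr 1) + v (.inr 0) * u (.inr 1)) +
          2 * b * (u (.inr 1) * v (.inr 1))) := fun u v => by
    simp only [QuadraticMap.polar, hQf, Cfsg.quadFormMinus, Pi.add_apply, add_mul, mul_add,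
      Finset.sum_add_distrib]
    ring
  refine Spinor.pairs_iff hF hq Q hQ hQf (fun j : Fin i => Sum.inl (Sum.inl (Fin.castLE him' j)))
    (fun j => Sum.inl (Sum.inr (Fin.castLE him' j)))
    (fun k => (Sum.elim (Sum.elim (fun j : Fin (m - 1) => (j : ℕ)) (fun j : Fin (m - 1) => (j : ℕ)))
      (fun _ : Fin 2 => i) k) < i) ?_ ?_ ?_ ?_ ?_ ?_ ?_
  · rintro ((k | k) | u) <;> simp only [Sum.elim_inl, Sum.elim_inr]
    iterate 2 exact ⟨fun h => ⟨⟨k, h⟩, by simp⟩, by clear hp hQf; rintro ⟨j, h | h⟩ <;> simp_all⟩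
    simp
  · exact fun j => by simp [hQf, Cfsg.quadFormMinus]
  · exact fun j => by simp [hQf, Cfsg.quadFormMinus]
  · exact fun j j' _ => by simp [hp]
  · exact fun j j' _ => by simp [hp]
  · intro j j'
    simp [hp, Pi.single_apply, eq_comm]
  · rintro ((k | k) | u) hk j <;> simp [hp, Pi.single_apply] <;>
      exact fun h => hk (by subst h; simp)

end Cfsg.Agent.S2615
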