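import Cfsg.Statements.S2616
import Cfsg.Agent.Lib.Spinor.Classify
-- import your own Cfsg.Agent.* helpers here

set_option autoImplicit false
open Cfsg

namespace Cfsg.Agent.S2616

/-- Standard bases of a non-degenerate quadratic space of even dimension 2m over a finite field: either there is a hyperbolic basis e_i, f_i (Q(e_i) = Q(f_i) = 0, B(e_i, f_j) = δ_ij, the e's pairwise orthogonal and the f's pairwise orthogonal, B the polar form), or there is an elliptic basis: hyperbolic pairs e_i, f_i for i < m − 1 together with x, y orthogonal to them with Q(x) = 1, B(x, y) = 1, Q(y) = ζ where t² + t + ζ has no root in the field. -/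
theorem result {F V : Type*} [Field F] [Finite F] [AddCommGroup V] [Module F V] [FiniteDimensional F V] {m : ℕ} (hm : 1 ≤ m) (hV : Module.finrank F V = 2 * m) (Q : QuadraticForm F V) (hQ : (QuadraticMap.polarBilin Q).Nondegenerate) : (∃ b : Module.Basis (Fin m ⊕ Fin m) F V, (∀ i, Q (b (Sum.inl i)) = 0 ∧ Q (b (Sum.inr i)) = 0) ∧ (∀ i j, QuadraticMap.polar ⇑Q (b (Sum.inl i)) (b (Sum.inr j)) = if i = j then 1 else 0) ∧ (∀ i j, QuadraticMap.polar ⇑Q (b (Sum.inl i)) (b (Sum.inl j)) = 0 ∧ QuadraticMap.polar ⇑Q (b (Sum.inr i)) (b (Sum.inr j)) = 0)) ∨ (∃ (b : Module.Basis ((Fin (m - 1) ⊕ Fin (m - 1)) ⊕ Fin 2) F V) (ζ : F), (∀ t : F, t ^ 2 + t + ζ ≠ 0) ∧ (∀ i, Q (b (Sum.inl (Sum.inl i))) = 0 ∧ Q (b (Sum.inl (Sum.inr i))) = 0) ∧ (∀ i j, QuadraticMap.polar ⇑Q (b (Sum.inl (Sum.inl i))) (b (Sum.inl (Sum.inr j))) = if i = j then 1 else 0) ∧ (∀ i j, QuadraticMap.polar ⇑Q (b (Sum.inl (Sum.inl i))) (b (Sum.inl (Sum.inl j))) = 0 ∧ QuadraticMap.polar ⇑Q (b (Sum.inl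 (Sum.inr i))) (b (Sum.inl (Sum.inr j))) = 0) ∧ (∀ i (k : Fin 2), QuadraticMap.polar ⇑Q (b (Sum.inl (Sum.inl i))) (b (Sum.inr k)) = 0 ∧ QuadraticMap.polar ⇑Q (b (Sum.inl (Sum.inr i))) (b (Sum.inr k)) = 0) ∧ Q (b (Sum.inr 0)) = 1 ∧ QuadraticMap.polar ⇑Q (b (Sum.inr 0)) (b (Sum.inr 1)) = 1 ∧ Q (b (Sum.inr 1)) = ζ) := by
  have := Fintype.ofFinite F
  obtain ⟨r, e, f, h, han, hr1, hr2⟩ := Spinor.witt_decomposition hQ
  rw [hV] at hr1 hr2
  rcases eq_or_ne r m with rfl | hne
  · left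
    obtain ⟨b, hb⟩ := Spinor.exists_basis hQ h (κ := Fin 0) Fin.elim0 linearIndependent_empty_type
      (fun k => k.elim0) (by simp [hV])
    refine ⟨b.reindex (Equiv.sumEmpty _ _), fun i => ?_, fun i j => ?_, fun i j => ?_⟩ <;>
      simp [Module.Basis.reindex_apply, hb, h.singe, h.singf, h.ef, h.ee, h.ff]
  right
  obtain rfl : r = m - 1 := by omega
  set R := LinearMap.BilinForm.orthogonal (QuadraticMap.polarBilin Q) (Spinor.hypSpan (F := F) e f)
  have hRd : Module.finrank F R = 2 := by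
    have := Spinor.finrank_split hQ (W := Spinor.hypSpan (F := F) e f)
    rw [h.finrank_hypSpan, hV] at this
    change _ + Module.finrank F R = _ at this
    omega
  have hRn := Spinor.orth_nondeg hQ h.hypSpan_nondeg
  obtain ⟨x, hx, hQx⟩ := Spinor.exists_norm hRn (Or.inl hRd.ge) (one_ne_zero (α := F))
  have hx0 : x ≠ 0 := fun h0 => one_ne_zero (α := F) (by rw [← hQx, h0, QuadraticMap.map_zero])
  obtain ⟨z, hz, hxz⟩ : ∃ z ∈ R, z ∉ Submodule.span F {x} ∧ QuadraticMap.polar Q x z ≠ 0 := by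
    by_contra hc
    push Not at hc
    refine hx0 ((Submodule.eq_bot_iff _).1 hRn x ⟨hx, fun z hz => ?_⟩)
    show QuadraticMap.polar Q z x = 0
    obtain ⟨w, hw, hwx⟩ : ∃ w ∈ R, w ∉ Submodule.span F {x} := by
      refine SetLike.not_le_iff_exists.1 fun hle => ?_
      have := Submodule.finrank_mono hle
      rw [finrank_span_singleton hx0] at this
      omega
    have hw0 := hc w hw hwx
    by_cases hzx : z ∈ Submodule.span F {x}
    · obtain ⟨c, rfl⟩ := Submodule.mem_span_singleton.1 hzx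
      have h2 : QuadraticMap.polar Q x (w + x) = 0 := hc _ (R.add_mem hw hx) fun hwx' => hwx (by
        simpa using Submodule.sub_mem _ hwx' (Submodule.mem_span_singleton_self x))
      rw [QuadraticMap.polar_add_right, hw0, zero_add] at h2
      rw [QuadraticMap.polar_smul_left, h2, smul_zero]
    · rw [QuadraticMap.polar_comm]
      exact hc z hz hzx
  obtain ⟨hzx, hxz⟩ := hxz
  set c := (QuadraticMap.polar Q x z)⁻¹ with hc
  set y := c • z with hy
  have hc0 : c ≠ 0 := inv_ne_zero hxz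
  have hxy : QuadraticMap.polar Q x y = 1 := by
    rw [hy, QuadraticMap.polar_smul_right, smul_eq_mul, hc, inv_mul_cancel₀ hxz]
  have hyR : y ∈ R := R.smul_mem _ hz
  have hyx : y ∉ Submodule.span F {x} := fun h' => hzx ((Submodule.smul_mem_iff _ hc0).1 h')
  have hxy' : ∀ k i, QuadraticMap.polar Q (e i) (![x, y] k) = 0 ∧
      QuadraticMap.polar Q (f i) (![x, y] k) = 0 := fun k i => by
    fin_cases k
    · exact (Spinor.mem_orth_hypSpan.1 hx) i
    · exact (Spinor.mem_orth_hypSpan.1 hyR) i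
  obtain ⟨b, hb⟩ := Spinor.exists_basis hQ h ![x, y]
    ((LinearIndependent.pair_iff' hx0).2 fun t ht => hyx (Submodule.mem_span_singleton.2 ⟨t, ht⟩))
    hxy' (by simp [hV]; omega)
  refine ⟨b, Q y, fun t ht => ?_, fun i => ?_, fun i j => ?_, fun i j => ?_, fun i k => ?_, ?_, ?_, ?_⟩
  rotate_left
  all_goals first
    | (simp [hb, h.singe, h.singf, h.ef, h.ee, h.ff, hQx, hxy]; done)
    | (simpa [hb] using hxy' k i)
    | skip
  have h0 := han (t • x + y) (fun i => ?_) ?_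
  · refine hyx (Submodule.mem_span_singleton.2 ⟨-t, ?_⟩)
    rw [neg_smul]
    exact (eq_neg_of_add_eq_zero_right h0).symm
  · exact (Spinor.mem_orth_hypSpan.1 (R.add_mem (R.smul_mem t hx) hyR)) i
  · rw [FormsLib.quad_add, QuadraticMap.map_smul, QuadraticMap.polar_smul_left, hQx, hxy]
    simp only [smul_eq_mul, mul_one]
    linear_combination ht

end Cfsg.Agent.S2616
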