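import Cfsg.Statements.S2617
import Mathlib

set_option autoImplicit false
open Cfsg

namespace Cfsg.Agent.S2617

/-- The two standard quadratic forms of even dimension 2m over a finite field are not isometric: there is no linear isomorphism carrying the elliptic form Σ_(i<m−1) x_i y_i + z₁² + z₁z₂ + ζ z₂² (t² + t + ζ without roots) to the hyperbolic form Σ_(i<m) x_i y_i (they have different Witt index). -/
theorem result {F : Type*} [Field F] [Finite F] {m : ℕ} (hm : 1 ≤ m) (ζ : F) (hζ : ∀ t : F, t ^ 2 + t + ζ ≠ 0) (g : (Fin m ⊕ Fin m → F) ≃ₗ[F] ((Fin (m - 1) ⊕ Fin (m - 1)) ⊕ Fin 2 → F)) : ¬ (∀ v : Fin m ⊕ Fin m → F, Cfsg.quadFormMinus (m - 1) F 1 ζ (g v) = Cfsg.quadFormPlus m F v) := by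
  intro h
  classical
  let E : (Fin m → F) →ₗ[F] (Fin m ⊕ Fin m → F) :=
    { toFun := fun x => Sum.elim x 0
      map_add' := fun x y => by ext i; rcases i with i | i <;> simp
      map_smul' := fun c x => by ext i; rcases i with i | i <;> simp }
  let T := LinearMap.range ((g : (Fin m ⊕ Fin m → F) →ₗ[F] ((Fin (m - 1) ⊕ Fin (m - 1)) ⊕ Fin 2 → F)).comp E)
  have hT : Module.finrank F T = m := by
    rw [LinearMap.finrank_range_of_inj, Module.finrank_fin_fun]
    intro x y hxy
    funext i
    exact congrFun (g.injective hxy) (Sum.inl i)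
  have hQ : ∀ v ∈ T, Cfsg.quadFormMinus (m - 1) F 1 ζ v = 0 := by
    rintro _ ⟨x, rfl⟩
    rw [LinearMap.comp_apply, LinearEquiv.coe_coe, h]
    simp [Cfsg.quadFormPlus, E]
  let Y : T →ₗ[F] (Fin (m - 1) → F) :=
    { toFun := fun v i => v.1 (Sum.inl (Sum.inr i))
      map_add' := fun _ _ => rfl
      map_smul' := fun _ _ => rfl }
  let X : LinearMap.ker Y →ₗ[F] (Fin (m - 1) → F) :=
    { toFun := fun v i => v.1.1 (Sum.inl (Sum.inl i))
      map_add' := fun _ _ => rfl
      map_smul' := fun _ _ => rfl }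
  have hz : ∀ v : LinearMap.ker Y, v.1.1 (Sum.inr 0) = 0 ∧ v.1.1 (Sum.inr 1) = 0 := by
    intro v
    have hy : ∀ i, v.1.1 (Sum.inl (Sum.inr i)) = 0 := fun i => congrFun (LinearMap.mem_ker.1 v.2) i
    have h0 := hQ v.1.1 v.1.2
    simp only [Cfsg.quadFormMinus, hy, mul_zero, Finset.sum_const_zero, zero_add, one_mul] at h0
    by_cases hb : v.1.1 (Sum.inr 1) = 0
    · refine ⟨?_, hb⟩
      rw [hb] at h0
      simpa using h0
    · refine absurd ?_ (hζ (v.1.1 (Sum.inr 0) / v.1.1 (Sum.inr 1)))
      field_simp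
      linear_combination h0
  have hXinj : Function.Injective X := by
    intro a b hab
    refine Subtype.ext (Subtype.ext (funext fun i => ?_))
    rcases i with (i | i) | i
    · exact congrFun hab i
    · exact (congrFun (LinearMap.mem_ker.1 a.2) i).trans (congrFun (LinearMap.mem_ker.1 b.2) i).symm
    · fin_cases i
      · exact (hz a).1.trans (hz b).1.symm
      · exact (hz a).2.trans (hz b).2.symm
  let pairing : (Fin (m - 1) → F) →ₗ[F] (Fin (m - 1) → F) →ₗ[F] F := dotProductBilin F F
  have horth : ∀ (t : T) (v : LinearMap.ker Y), (X v) ⬝ᵥ (Y t) = 0 := by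
    intro t v
    have hy : ∀ i, v.1.1 (Sum.inl (Sum.inr i)) = 0 := fun i => congrFun (LinearMap.mem_ker.1 v.2) i
    have h1 := hQ _ (T.add_mem t.2 v.1.2)
    have h2 := hQ _ t.2
    simp only [Cfsg.quadFormMinus, Pi.add_apply, hy, add_zero, (hz v).1, (hz v).2, add_mul,
      Finset.sum_add_distrib] at h1 h2
    show ∑ i, v.1.1 (Sum.inl (Sum.inl i)) * t.1 (Sum.inl (Sum.inr i)) = 0
    linear_combination h1 - h2
  have hperp : LinearMap.range Y ≤
      ((LinearMap.range X).map pairing).dualCoannihilator := by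
    rintro _ ⟨t, rfl⟩
    rw [Submodule.mem_dualCoannihilator]
    rintro _ ⟨_, ⟨v, rfl⟩, rfl⟩
    exact horth t v
  have hp : Function.Injective pairing := fun a b hab => by
    funext i
    simpa [pairing] using LinearMap.congr_fun hab (Pi.single i 1)
  have h1 := Submodule.finrank_mono hperp
  have h2 := Subspace.finrank_add_finrank_dualCoannihilator_eq ((LinearMap.range X).map pairing)
  rw [← (Submodule.equivMapOfInjective pairing hp (LinearMap.range X)).finrank_eq,
    LinearMap.finrank_range_of_inj hXinj, Module.finrank_fin_fun] at h2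
  have h3 := Y.finrank_range_add_finrank_ker
  rw [hT] at h3
  omega

end Cfsg.Agent.S2617
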