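import Cfsg.Statements.S2618
import Cfsg.Agent.Lib.Spinor.Classify
-- import your own Cfsg.Agent.* helpers here

set_option autoImplicit false
open Cfsg

namespace Cfsg.Agent.S2618

/-- Standard (parabolic) basis of a non-degenerate quadratic space of odd dimension 2m + 1 over a finite field (the non-degeneracy of the polar form forces the characteristic to be odd): there is a basis e_i, f_i (i < m), x with Q(e_i) = Q(f_i) = 0, B(e_i, f_j) = δ_ij (B the polar form), the e's pairwise orthogonal and the f's pairwise orthogonal, x orthogonal to all of them and Q(x) ≠ 0. -/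
theorem result {F V : Type*} [Field F] [Finite F] [AddCommGroup V] [Module F V] [FiniteDimensional F V] {m : ℕ} (hV : Module.finrank F V = 2 * m + 1) (Q : QuadraticForm F V) (hQ : (QuadraticMap.polarBilin Q).Nondegenerate) : ∃ b : Module.Basis (Unit ⊕ (Fin m ⊕ Fin m)) F V, Q (b (Sum.inl ())) ≠ 0 ∧ (∀ i, QuadraticMap.polar ⇑Q (b (Sum.inl ())) (b (Sum.inr (Sum.inl i))) = 0 ∧ QuadraticMap.polar ⇑Q (b (Sum.inl ())) (b (Sum.inr (Sum.inr i))) = 0) ∧ (∀ i, Q (b (Sum.inr (Sum.inl i))) = 0 ∧ Q (b (Sum.inr (Sum.inr i))) = 0) ∧ (∀ i j, QuadraticMap.polar ⇑Q (b (Sum.inr (Sum.inl i))) (b (Sum.inr (Sum.inr j))) = if i = j then 1 else 0) ∧ (∀ i j, QuadraticMap.polar ⇑Q (b (Sum.inr (Sum.inl i))) (b (Sum.inr (Sum.inl j))) = 0 ∧ QuadraticMap.polar ⇑Q (b (Sum.inr (Sum.inr i))) (b (Sum.inr (Sum.inr j))) = 0) := by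
  have := Fintype.ofFinite F
  obtain ⟨r, e, f, h, han, hr1, hr2⟩ := Spinor.witt_decomposition hQ
  rw [hV] at hr1 hr2
  obtain rfl : r = m := by omega
  set R := LinearMap.BilinForm.orthogonal (QuadraticMap.polarBilin Q) (Spinor.hypSpan (F := F) e f)
  have hRd : Module.finrank F R = 1 := by
    have := Spinor.finrank_split hQ (W := Spinor.hypSpan (F := F) e f)
    rw [h.finrank_hypSpan, hV] at this
    change _ + Module.finrank F R = _ at this
    omega
  haveI : Nontrivial R := Module.nontrivial_of_finrank_pos (R := F) (by omega)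
  obtain ⟨x, hx0⟩ := exists_ne (0 : R)
  have hx0' : (x : V) ≠ 0 := fun h' => hx0 (Subtype.ext h')
  obtain ⟨b, hb⟩ := Spinor.exists_basis hQ h (κ := Unit) (fun _ => (x : V))
    (linearIndependent_unique_iff.2 hx0') (fun _ i => (Spinor.mem_orth_hypSpan.1 x.2) i) (by simp [hV])
  refine ⟨b.reindex (Equiv.sumComm _ _), ?_, fun i => ?_, fun i => ?_, fun i j => ?_, fun i j => ?_⟩
  · simp [hb]
    exact fun h0 => hx0' (han _ (Spinor.mem_orth_hypSpan.1 x.2) h0)
  all_goals simp [hb, h.singe, h.singf, h.ef, h.ee, h.ff]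
  exact ⟨by rw [QuadraticMap.polar_comm]; exact ((Spinor.mem_orth_hypSpan.1 x.2) i).1,
    by rw [QuadraticMap.polar_comm]; exact ((Spinor.mem_orth_hypSpan.1 x.2) i).2⟩

end Cfsg.Agent.S2618
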