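import Cfsg.Statements.S2619
import Mathlib

set_option autoImplicit false
open Cfsg

namespace Cfsg.Agent.S2619

/-- Over a finite field of characteristic two, given an alternating bilinear form B on a finite-dimensional space, a basis (v_i) and scalars (λ_i), there is exactly one quadratic form whose polar form is B and whose value at each v_i is λ_i. -/
theorem result {F V ι : Type*} [Field F] [Finite F] [CharP F 2] [AddCommGroup V] [Module F V] [Fintype ι] (b : Module.Basis ι F V) (B : LinearMap.BilinForm F V) (hB : B.IsAlt) (c : ι → F) : ∃! Q : QuadraticForm F V, QuadraticMap.polarBilin Q = B ∧ ∀ i, Q (b i) = c i := by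
  classical
  let ι' := Fintype.equivFin ι
  let M : Matrix ι ι F := fun i j => if ι' i < ι' j then B (b i) (b j) else if i = j then c i else 0
  let C : LinearMap.BilinForm F V := Matrix.toBilin b M
  have hC : ∀ i j, C (b i) (b j) = M i j := fun i j => by
    simp [C, Matrix.toBilin_apply, Finsupp.single_apply]
  have hsymm : ∀ x y, B x y = B y x := fun x y => by
    rw [← LinearMap.IsAlt.neg hB x y, CharTwo.neg_eq]
  refine ⟨LinearMap.BilinMap.toQuadraticMap C, ⟨?_, fun i => ?_⟩, ?_⟩
  · refine b.ext fun i => b.ext fun j => ?_
    rw [QuadraticMap.polarBilin_apply_apply, LinearMap.BilinMap.polar_toQuadraticMap, hC, hC]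
    by_cases hij : i = j
    · subst hij
      simp [M, CharTwo.add_self_eq_zero, hB (b i)]
    · rcases lt_or_gt_of_ne (ι'.injective.ne hij) with h | h
      · simp [M, h, h.le.not_gt, Ne.symm hij]
      · simp [M, h, h.le.not_gt, hij, hsymm (b i)]
  · rw [LinearMap.BilinMap.toQuadraticMap_apply, hC]
    simp [M]
  · rintro Q ⟨hQ, hQc⟩
    set Q' := LinearMap.BilinMap.toQuadraticMap C
    have hp : QuadraticMap.polarBilin Q' = B := by
      refine b.ext fun i => b.ext fun j => ?_
      rw [QuadraticMap.polarBilin_apply_apply, LinearMap.BilinMap.polar_toQuadraticMap, hC, hC]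
      by_cases hij : i = j
      · subst hij
        simp [M, CharTwo.add_self_eq_zero, hB (b i)]
      · rcases lt_or_gt_of_ne (ι'.injective.ne hij) with h | h
        · simp [M, h, h.le.not_gt, Ne.symm hij]
        · simp [M, h, h.le.not_gt, hij, hsymm (b i)]
    refine QuadraticMap.ext fun v => ?_
    have key : ∀ v ∈ Submodule.span F (Set.range b), Q v = Q' v := by
      intro v hv
      induction hv using Submodule.span_induction with
      | mem x hx =>
        obtain ⟨i, rfl⟩ := hx
        rw [hQc]
        simp [Q', hC, M]
      | zero => rw [QuadraticMap.map_zero, QuadraticMap.map_zero]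
      | add x y _ _ hx hy =>
        rw [QuadraticMap.map_add (⇑Q), QuadraticMap.map_add (⇑Q'), hx, hy, ← QuadraticMap.polarBilin_apply_apply,
          ← QuadraticMap.polarBilin_apply_apply, hQ, hp]
      | smul a x _ hx => rw [QuadraticMap.map_smul, QuadraticMap.map_smul, hx]
    exact key v (by rw [b.span_eq]; trivial)

end Cfsg.Agent.S2619
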