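import Cfsg.Statements.S2620
import Cfsg.Agent.Lib.Discriminant.Gram
-- import your own Cfsg.Agent.* helpers here

set_option autoImplicit false
open Cfsg

namespace Cfsg.Agent.S2620

/-- Discriminant of the hyperbolic quadratic form Σ_(i<m) x_i y_i over a field with q elements, q odd, m ≥ 1: the determinant of the Gram matrix of its polar form in any basis is a square if and only if m(q − 1)/2 is even (equivalently q^m ≡ 1 (mod 4)). -/
theorem result {F : Type*} [Field F] [Fintype F] {q : ℕ} (hF : Fintype.card F = q) (hq : Odd q) {m : ℕ} (hm : 1 ≤ m) {ι : Type*} [Fintype ι] [DecidableEq ι] (b : Module.Basis ι F (Fin m ⊕ Fin m → F)) : IsSquare (Matrix.of (fun i j : ι => QuadraticMap.polar (Cfsg.quadFormPlus m F) (b i) (b j))).det ↔ Even (m * (q - 1) / 2) := by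
  classical
  subst hF
  let G : Matrix (Fin m ⊕ Fin m) (Fin m ⊕ Fin m) F := Matrix.fromBlocks 0 1 1 0
  have hf : ∀ u v, QuadraticMap.polar (Cfsg.quadFormPlus m F) u v = u ⬝ᵥ G.mulVec v := by
    intro u v
    simp only [QuadraticMap.polar, Cfsg.quadFormPlus, G, Matrix.fromBlocks_mulVec, Matrix.zero_mulVec,
      Matrix.one_mulVec, zero_add, add_zero, dotProduct, Fintype.sum_sum_type, Sum.elim_inl, Sum.elim_inr,
      Function.comp, Pi.add_apply, add_mul, mul_add, Finset.sum_add_distrib]
    simp only [mul_comm (v (Sum.inl _))]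
    ring
  obtain ⟨d, hd, he⟩ := Disc.exists_det_gram b G _ hf
  have hG : G.det = (-1 : F) ^ m := by
    have h : G * Matrix.fromBlocks 1 0 1 1 = Matrix.fromBlocks (1 : Matrix (Fin m) (Fin m) F) 1 1 0 := by
      simp [G, Matrix.fromBlocks_multiply]
    have h' := congrArg Matrix.det h
    rw [Matrix.det_mul, Matrix.det_fromBlocks_zero₁₂, Matrix.det_one, mul_one, mul_one,
      Matrix.det_fromBlocks_one₁₁, Matrix.mul_one, zero_sub, Matrix.det_neg, Matrix.det_one, mul_one,
      Fintype.card_fin] at h'
    exact h'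
  rw [he, Disc.isSquare_mul_self_mul hd, hG]
  exact Disc.isSquare_neg_one_pow hq m

end Cfsg.Agent.S2620
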