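import Cfsg.Statements.S2621
import Cfsg.Agent.Lib.Discriminant.Gram
-- import your own Cfsg.Agent.* helpers here

set_option autoImplicit false
open Cfsg

namespace Cfsg.Agent.S2621

/-- Discriminant of an elliptic quadratic form Σ_(i<m−1) x_i y_i + z₁² + a z₁z₂ + c z₂² (binary part anisotropic) in dimension 2m over a field with q elements, q odd, m ≥ 1: the determinant of the Gram matrix of its polar form in any basis is a square if and only if m(q − 1)/2 is odd (equivalently q^m ≡ 3 (mod 4)). -/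
theorem result {F : Type*} [Field F] [Fintype F] {q : ℕ} (hF : Fintype.card F = q) (hq : Odd q) {m : ℕ} (hm : 1 ≤ m) (a c : F) (hac : ∀ z₁ z₂ : F, z₁ ^ 2 + a * z₁ * z₂ + c * z₂ ^ 2 = 0 → z₁ = 0 ∧ z₂ = 0) {ι : Type*} [Fintype ι] [DecidableEq ι] (b : Module.Basis ι F ((Fin (m - 1) ⊕ Fin (m - 1)) ⊕ Fin 2 → F)) : IsSquare (Matrix.of (fun i j : ι => QuadraticMap.polar (Cfsg.quadFormMinus (m - 1) F a c) (b i) (b j))).det ↔ ¬ Even (m * (q - 1) / 2) := by
  classical
  subst hF
  obtain ⟨k, rfl⟩ : ∃ k, m = k + 1 := ⟨m - 1, by omega⟩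
  change Module.Basis ι F ((Fin k ⊕ Fin k) ⊕ Fin 2 → F) at b
  show IsSquare (Matrix.of fun i j : ι => QuadraticMap.polar (Cfsg.quadFormMinus k F a c) (b i) (b j)).det ↔ _
  let H : Matrix (Fin k ⊕ Fin k) (Fin k ⊕ Fin k) F := Matrix.fromBlocks 0 1 1 0
  let Z : Matrix (Fin 2) (Fin 2) F := !![2, a; a, 2 * c]
  let G : Matrix ((Fin k ⊕ Fin k) ⊕ Fin 2) ((Fin k ⊕ Fin k) ⊕ Fin 2) F := Matrix.fromBlocks H 0 0 Z
  have hf : ∀ u v, QuadraticMap.polar (Cfsg.quadFormMinus k F a c) u v = u ⬝ᵥ G.mulVec v := by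
    intro u v
    have hG' : G.mulVec v = Sum.elim (Sum.elim (fun i => v (.inl (.inr i))) fun i => v (.inl (.inl i)))
        ![2 * v (.inr 0) + a * v (.inr 1), a * v (.inr 0) + 2 * c * v (.inr 1)] := by
      simp only [G, H, Matrix.fromBlocks_mulVec, Matrix.zero_mulVec, Matrix.one_mulVec, zero_add, add_zero]
      ext (x | x)
      · rfl
      · fin_cases x <;> simp [Z, Matrix.mulVec, dotProduct, Fin.sum_univ_two]
    simp only [hG', QuadraticMap.polar, Cfsg.quadFormMinus, dotProduct, Fintype.sum_sum_type, Sum.elim_inl,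
      Sum.elim_inr, Pi.add_apply, add_mul, mul_add, Finset.sum_add_distrib, Fin.sum_univ_two,
      Matrix.cons_val_zero, Matrix.cons_val_one]
    simp only [mul_comm (v (Sum.inl (Sum.inl _)))]
    ring
  obtain ⟨d, hd, he⟩ := Disc.exists_det_gram b G _ hf
  have hH : H.det = (-1 : F) ^ k := by
    have h : H * Matrix.fromBlocks 1 0 1 1 = Matrix.fromBlocks (1 : Matrix (Fin k) (Fin k) F) 1 1 0 := by
      simp [H, Matrix.fromBlocks_multiply]
    have h' := congrArg Matrix.det h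
    rw [Matrix.det_mul, Matrix.det_fromBlocks_zero₁₂, Matrix.det_one, mul_one, mul_one,
      Matrix.det_fromBlocks_one₁₁, Matrix.mul_one, zero_sub, Matrix.det_neg, Matrix.det_one, mul_one,
      Fintype.card_fin] at h'
    exact h'
  have hns : ¬ IsSquare (a * a - 4 * c) := by
    rintro ⟨s, hs⟩
    have h2 := Disc.two_ne_zero_of_odd hq
    refine one_ne_zero (hac ((s - a) / 2) 1 ?_).2
    field_simp
    linear_combination -hs
  have hG : G.det = (-1 : F) ^ (k + 1) * (a * a - 4 * c) := by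
    rw [show G = Matrix.fromBlocks H 0 0 Z from rfl, Matrix.det_fromBlocks_zero₁₂, hH,
      show Z.det = 2 * (2 * c) - a * a from Matrix.det_fin_two_of _ _ _ _, pow_succ]
    ring
  rw [he, Disc.isSquare_mul_self_mul hd, hG, Disc.isSquare_mul_iff (pow_ne_zero _ (neg_ne_zero.2 one_ne_zero)) hns,
    Disc.isSquare_neg_one_pow hq]

end Cfsg.Agent.S2621
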