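import Cfsg.Statements.S2622
-- import your own Cfsg.Agent.* helpers here

set_option autoImplicit false
open Cfsg

namespace Cfsg.Agent.S2622

/-- Over a finite field of characteristic two, a non-degenerate symmetric bilinear form that is not alternating (some vector v has B(v, v) ≠ 0) admits an orthonormal basis. -/
theorem result {F V : Type*} [Field F] [Finite F] [CharP F 2] [AddCommGroup V] [Module F V] [FiniteDimensional F V] {n : ℕ} (hV : Module.finrank F V = n) (B : LinearMap.BilinForm F V) (hS : B.IsSymm) (hB : B.Nondegenerate) (hna : ∃ v : V, B v v ≠ 0) : ∃ b : Module.Basis (Fin n) F V, ∀ i j, B (b i) (b j) = if i = j then 1 else 0 := by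
  have h2 : (2 : F) = 0 := by exact_mod_cast CharP.cast_eq_zero F 2
  suffices key : ∀ k (W : Submodule F V), Module.finrank F W = k →
      (∀ x ∈ W, (∀ y ∈ W, B x y = 0) → x = 0) → (∃ v ∈ W, B v v ≠ 0) →
      ∃ f : Fin k → V, (∀ i, f i ∈ W) ∧ ∀ i j, B (f i) (f j) = if i = j then 1 else 0 by
    obtain ⟨v, hv⟩ := hna
    obtain ⟨f, -, hf⟩ := key n ⊤ (by rw [finrank_top, hV])
      (fun x _ hx => hB.1 x fun y => hx y Submodule.mem_top) ⟨v, Submodule.mem_top, hv⟩
    have hli : LinearIndependent F f := by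
      rw [Fintype.linearIndependent_iff]
      intro c hc i
      have h1 := congrArg (fun x => B x (f i)) hc
      simpa [hf] using h1
    haveI : Nonempty (Fin n) := Fin.pos_iff_nonempty.1 (by
      rw [← hV]
      exact Module.finrank_pos_iff_exists_ne_zero.2 ⟨v, fun h => hv (by rw [h]; simp)⟩)
    exact ⟨basisOfLinearIndependentOfCardEqFinrank hli (by simp [hV]), by simpa using hf⟩
  intro k
  induction k with
  | zero =>
    intro W hW _ h
    obtain ⟨v, hv, hv'⟩ := h
    rw [Submodule.finrank_eq_zero] at hW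
    rw [hW, Submodule.mem_bot] at hv
    exact absurd (by simp [hv]) hv'
  | succ k ih =>
    intro W hWd hW hna
    obtain ⟨v, hv, hv'⟩ := hna
    obtain ⟨t, ht⟩ := FiniteField.isSquare_of_char_two (F := F) (by rw [ringChar.eq_iff]; infer_instance) (B v v)⁻¹
    have he₀ : B (t • v) (t • v) = 1 := by
      simp only [map_smul, LinearMap.smul_apply, smul_eq_mul, ← mul_assoc, ← ht, inv_mul_cancel₀ hv']
    -- a unit vector whose orthogonal is not alternating
    obtain ⟨e, he, hee, halt⟩ : ∃ e ∈ W, B e e = 1 ∧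
        (k = 0 ∨ ∃ x ∈ W, B e x = 0 ∧ B x x ≠ 0) := by
      refine (em (∃ x ∈ W, B (t • v) x = 0 ∧ B x x ≠ 0)).elim
        (fun h => ⟨_, W.smul_mem t hv, he₀, Or.inr h⟩) fun h => ?_
      push Not at h
      set e := t • v
      have heW : e ∈ W := W.smul_mem t hv
      by_cases hk : ∀ w ∈ W, B e w = 0 → w = 0
      · refine ⟨e, heW, he₀, Or.inl ?_⟩
        have hle : W ≤ Submodule.span F {e} := fun w hw => by
          have := hk (w - B e w • e) (W.sub_mem hw (W.smul_mem _ heW)) (by simp [he₀])
          exact Submodule.mem_span_singleton.2 ⟨_, (sub_eq_zero.1 this).symm⟩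
        have := Submodule.finrank_mono hle
        rw [hWd, finrank_span_singleton (fun h0 => one_ne_zero (α := F) (by rw [← he₀, h0]; simp))] at this
        omega
      push Not at hk
      obtain ⟨w, hw, hew, hw0⟩ := hk
      obtain ⟨z, hz, hwz⟩ : ∃ z ∈ W, B w z ≠ 0 := by
        by_contra hc
        push Not at hc
        exact hw0 (hW w hw hc)
      set z' := (B w z)⁻¹ • (z - B e z • e) with hz'
      have hz'W : z' ∈ W := W.smul_mem _ (W.sub_mem hz (W.smul_mem _ heW))
      have hwe : B w e = 0 := by rw [hS.eq]; exact hew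
      have hwz' : B w z' = 1 := by simp [hz', hwe, inv_mul_cancel₀ hwz]
      have hez' : B e z' = 0 := by simp [hz', he₀]
      have hz'e : B z' e = 0 := by rw [hS.eq]; exact hez'
      refine ⟨e + w, W.add_mem heW hw, by simp [he₀, hew, hwe, h w hw hew], Or.inr ⟨e + z', W.add_mem heW hz'W, ?_, ?_⟩⟩
      · simp only [map_add, LinearMap.add_apply, he₀, hwe, hez', hwz']
        linear_combination h2
      · simp [he₀, hez', hz'e, h z' hz'W hez']
    set W' := W ⊓ LinearMap.ker (B e) with hW'
    have hW'd : Module.finrank F W' = k := by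
      have h1 := LinearMap.finrank_range_add_finrank_ker ((B e).domRestrict W)
      have h3 : LinearMap.range ((B e).domRestrict W) = ⊤ :=
        eq_top_iff.2 fun c _ => ⟨c • ⟨e, he⟩, by simp [hee]⟩
      have h4 : LinearMap.ker ((B e).domRestrict W) = Submodule.comap W.subtype W' := by ext x; simp [hW']
      rw [h3, finrank_top, Module.finrank_self, h4,
        (Submodule.comapSubtypeEquivOfLe inf_le_left).finrank_eq, hWd, ← hW'] at h1
      omega
    rcases Nat.eq_zero_or_pos k with rfl | hk
    · exact ⟨fun _ => e, fun _ => he, fun i j => by rw [if_pos (Fin.ext (by omega) : i = j)]; exact hee⟩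
    obtain ⟨x, hx, hex, hxx⟩ := halt.resolve_left hk.ne'
    obtain ⟨f, hfW, hf⟩ := ih W' hW'd (fun x hx h => hW x hx.1 fun y hy => by
        have := h (y - B e y • e) ⟨W.sub_mem hy (W.smul_mem _ he), by simp [hee]⟩
        simpa [hS.eq x e, LinearMap.mem_ker.1 hx.2] using this)
      ⟨x, ⟨hx, hex⟩, hxx⟩
    refine ⟨Fin.cons e f, Fin.forall_fin_succ.2 ⟨by simpa using he, fun i => by simpa using (hfW i).1⟩, ?_⟩
    refine Fin.forall_fin_succ.2 ⟨Fin.forall_fin_succ.2 ⟨by simpa using hee, fun j => ?_⟩,
      fun i => Fin.forall_fin_succ.2 ⟨?_, fun j => by simpa using hf i j⟩⟩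
    · simpa [(Fin.succ_ne_zero j).symm] using LinearMap.mem_ker.1 (hfW j).2
    · simpa [Fin.succ_ne_zero, hS.eq (f i) e] using LinearMap.mem_ker.1 (hfW i).2

end Cfsg.Agent.S2622
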