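import Cfsg.Statements.S2624
import Cfsg.Agent.Lib.Spinor.Discr
-- import your own Cfsg.Agent.* helpers here

set_option autoImplicit false
open Cfsg

namespace Cfsg.Agent.S2624

/-- For a quadratic form Q on F^n with non-degenerate polar form, F finite and n ≥ 2 even, every non-zero scalar c is the multiplier of some similarity: there is an invertible linear map g with Q(g v) = c·Q(v) for all v. -/
theorem result {F : Type*} [Field F] [Fintype F] {n : ℕ} (hn : 2 ≤ n) (he : Even n) (Q : QuadraticForm F (Fin n → F)) (hQ : (QuadraticMap.polarBilin Q).Nondegenerate) (c : F) (hc : c ≠ 0) : ∃ g : (Fin n → F) ≃ₗ[F] (Fin n → F), ∀ v, Q (g v) = c * Q v := by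
  by_cases h2 : (2 : F) = 0
  · obtain ⟨t, ht⟩ := FiniteField.isSquare_of_char_two (Spinor.ringChar_eq_two h2) c
    have ht0 : t ≠ 0 := fun h => hc (by rw [ht, h, mul_zero])
    refine ⟨LinearEquiv.smulOfUnit (Units.mk0 t ht0), fun v => ?_⟩
    show Q (t • v) = c * Q v
    rw [QuadraticMap.map_smul, smul_eq_mul, ht]
  have hcQ : (QuadraticMap.polarBilin (c • Q)).Nondegenerate := by
    have key : ∀ x, (∀ y, QuadraticMap.polar (⇑(c • Q)) x y = 0) → x = 0 := fun x hx => hQ.1 x fun y => by
      have := hx y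
      rw [QuadraticMap.coeFn_smul, QuadraticMap.polar_smul, smul_eq_mul, mul_eq_zero] at this
      exact this.resolve_left hc
    exact ⟨key, fun x hx => key x fun y => by rw [QuadraticMap.polar_comm]; exact hx y⟩
  obtain ⟨g, hg⟩ := (Spinor.isometric_iff h2 (c • Q) Q hcQ hQ).2 (by
    have e : Spinor.gramMat (c • Q) = c • Spinor.gramMat Q := by
      ext i j
      simp [Spinor.gramMat, QuadraticMap.polar_smul]
    obtain ⟨k, rfl⟩ := he
    rw [e, Matrix.det_smul, Fintype.card_fin]
    exact ⟨c ^ k * (Spinor.gramMat Q).det, by rw [pow_add]; ring⟩)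
  exact ⟨g, fun v => by rw [hg, QuadraticMap.smul_apply, smul_eq_mul]⟩

end Cfsg.Agent.S2624
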