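import Cfsg.Statements.S2625
import Mathlib

set_option autoImplicit false
open Cfsg

namespace Cfsg.Agent.S2625

/-- For a quadratic form Q on F^n with non-degenerate polar form, F finite and n odd (so |F| is odd), the multiplier of any similarity is a square: if g is an invertible linear map with Q(g v) = c·Q(v) for all v then c is a square. -/
theorem result {F : Type*} [Field F] [Fintype F] {n : ℕ} (hn : Odd n) (Q : QuadraticForm F (Fin n → F)) (hQ : (QuadraticMap.polarBilin Q).Nondegenerate) (g : (Fin n → F) ≃ₗ[F] (Fin n → F)) (c : F) (hg : ∀ v, Q (g v) = c * Q v) : IsSquare c := by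
  classical
  by_cases hc : c = 0
  · exact hc ▸ IsSquare.zero
  obtain ⟨w, rfl⟩ := hn
  set G := LinearMap.toMatrix' (g : (Fin (2 * w + 1) → F) →ₗ[F] (Fin (2 * w + 1) → F))
  set A := LinearMap.toMatrix₂' F (QuadraticMap.polarBilin Q)
  have hA : A.det ≠ 0 := LinearMap.separatingLeft_iff_det_ne_zero (Pi.basisFun F _) |>.1 hQ.1
  have h : G.transpose * A * G = c • A := by
    rw [← LinearMap.toMatrix₂'_compl₁₂, ← LinearEquiv.map_smul]
    congr 1
    refine LinearMap.ext₂ fun x y => ?_
    show QuadraticMap.polar Q (g x) (g y) = c * QuadraticMap.polar Q x y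
    simp only [QuadraticMap.polar, ← map_add, hg]
    ring
  have h2 := congrArg Matrix.det h
  rw [Matrix.det_mul, Matrix.det_mul, Matrix.det_transpose, Matrix.det_smul, Fintype.card_fin] at h2
  have h3 : G.det * G.det = c ^ (2 * w + 1) := mul_right_cancel₀ hA (by linear_combination h2)
  refine ⟨G.det / c ^ w, ?_⟩
  rw [div_mul_div_comm, h3, ← pow_add, pow_succ, two_mul, mul_div_cancel_left₀ _ (pow_ne_zero _ hc)]

end Cfsg.Agent.S2625
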