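import Cfsg.Statements.S2626
-- import your own Cfsg.Agent.* helpers here

set_option autoImplicit false
open Cfsg

namespace Cfsg.Agent.S2626

open Matrix in
theorem blockHom_mem {F : Type*} [Field F] {k l : ℕ} (Q₁ : QuadraticForm F (Fin k → F)) (Q₂ : QuadraticForm F (Fin l → F))
    (A : GL (Fin k) F) (B : GL (Fin l) F) (hA : A ∈ Cfsg.isometryGroup F ⇑Q₁)
    (hB : B ∈ Cfsg.isometryGroup F ⇑Q₂) (v : Fin k ⊕ Fin l → F) :
    Q₁ ((Matrix.fromBlocks (A : Matrix (Fin k) (Fin k) F) 0 0 (B : Matrix (Fin l) (Fin l) F)).mulVec v ∘ Sum.inl) +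
      Q₂ ((Matrix.fromBlocks (A : Matrix (Fin k) (Fin k) F) 0 0 (B : Matrix (Fin l) (Fin l) F)).mulVec v ∘ Sum.inr) =
    Q₁ (v ∘ Sum.inl) + Q₂ (v ∘ Sum.inr) := by
  rw [Matrix.fromBlocks_mulVec, Sum.elim_comp_inl, Sum.elim_comp_inr, Matrix.zero_mulVec, Matrix.zero_mulVec,
    add_zero, zero_add]
  exact congrArg₂ (· + ·) (hA (v ∘ Sum.inl) (v ∘ Sum.inl)) (hB (v ∘ Sum.inr) (v ∘ Sum.inr))


/-- Ω of an orthogonal direct sum contains the product of the Ω's: for quadratic forms Q₁ on F^k and Q₂ on F^l with non-degenerate polar forms (F finite) and Q = Q₁ ⊕ Q₂ on F^(k+l), if g₁ lies in Ω(Q₁) and g₂ in Ω(Q₂) (commutator subgroups of the orthogonal groups) then the block-diagonal isometry diag(g₁, g₂) lies in Ω(Q). -/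
theorem result {F : Type*} [Field F] [Fintype F] {k l : ℕ} (Q₁ : QuadraticForm F (Fin k → F)) (Q₂ : QuadraticForm F (Fin l → F)) (h₁ : (QuadraticMap.polarBilin Q₁).Nondegenerate) (h₂ : (QuadraticMap.polarBilin Q₂).Nondegenerate) (g₁ : ↥(Cfsg.isometryGroup F ⇑Q₁)) (g₂ : ↥(Cfsg.isometryGroup F ⇑Q₂)) (hg₁ : g₁ ∈ Cfsg.Omega F ⇑Q₁) (hg₂ : g₂ ∈ Cfsg.Omega F ⇑Q₂) : ∃ g : ↥(Cfsg.isometryGroup F (fun v : Fin k ⊕ Fin l → F => Q₁ (v ∘ Sum.inl) + Q₂ (v ∘ Sum.inr))), g ∈ Cfsg.Omega F (fun v : Fin k ⊕ Fin l → F => Q₁ (v ∘ Sum.inl) + Q₂ (v ∘ Sum.inr)) ∧ ((g : Matrix.GeneralLinearGroup (Fin k ⊕ Fin l) F) : Matrix (Fin k ⊕ Fin l) (Fin k ⊕ Fin l) F) = Matrix.fromBlocks ((g₁ : Matrix.GeneralLinearGroup (Fin k) F) : Matrix (Fin k) (Fin k) F) 0 0 ((g₂ : Matrix.GeneralLinearGroup (Fin l) F) : Matrix (Fin l) (Fin l) F) := by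
  let φ₀ : GL (Fin k) F × GL (Fin l) F →* GL (Fin k ⊕ Fin l) F :=
    ({ toFun := fun p => Matrix.fromBlocks p.1.1 0 0 p.2.1
       map_one' := by simp [Matrix.fromBlocks_one]
       map_mul' := fun p r => by simp [Matrix.fromBlocks_multiply] } :
      GL (Fin k) F × GL (Fin l) F →* Matrix (Fin k ⊕ Fin l) (Fin k ⊕ Fin l) F).toHomUnits
  let Q := fun v : Fin k ⊕ Fin l → F => Q₁ (v ∘ Sum.inl) + Q₂ (v ∘ Sum.inr)
  let φ : ↥(Cfsg.isometryGroup F ⇑Q₁) × ↥(Cfsg.isometryGroup F ⇑Q₂) →* ↥(Cfsg.isometryGroup F Q) :=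
    (φ₀.comp (MonoidHom.prodMap (Subgroup.subtype _) (Subgroup.subtype _))).codRestrict _ fun p u _ =>
      blockHom_mem Q₁ Q₂ _ _ p.1.2 p.2.2 u
  have hle : ∀ {G H : Type _} [Group G] [Group H] (f : G →* H), ∀ x ∈ commutator G, f x ∈ commutator H := by
    intro G H _ _ f x hx
    have h1 := Subgroup.mem_map_of_mem f hx
    rw [commutator_def, Subgroup.map_commutator] at h1
    exact Subgroup.commutator_mono le_top le_top h1
  refine ⟨φ (g₁, 1) * φ (1, g₂), Subgroup.mul_mem _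
    (hle (φ.comp (MonoidHom.inl _ _)) g₁ hg₁) (hle (φ.comp (MonoidHom.inr _ _)) g₂ hg₂), ?_⟩
  rw [← map_mul, Prod.mk_mul_mk, mul_one, one_mul]
  rfl

end Cfsg.Agent.S2626
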