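import Cfsg.Statements.S2627
import Cfsg.Agent.Lib.Spinor.Sum
-- import your own Cfsg.Agent.* helpers here

set_option autoImplicit false
open Cfsg

namespace Cfsg.Agent.S2627

/-- For an orthogonal direct sum Q = Q₁ ⊕ Q₂ of quadratic forms with non-degenerate polar forms over a finite field, an isometry g₁ of Q₁ extended by the identity on the second summand lies in Ω(Q) (the commutator subgroup of the orthogonal group of Q) if and only if g₁ lies in Ω(Q₁). (Excluded: the field of two elements when the first summand or the whole space has dimension 4, where the commutator subgroup of O⁺₄(2) is smaller than the group usually called Ω.) -/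
theorem result {F : Type*} [Field F] [Fintype F] {k l : ℕ} (h : Fintype.card F ≠ 2 ∨ (k ≠ 4 ∧ k + l ≠ 4)) (Q₁ : QuadraticForm F (Fin k → F)) (Q₂ : QuadraticForm F (Fin l → F)) (h₁ : (QuadraticMap.polarBilin Q₁).Nondegenerate) (h₂ : (QuadraticMap.polarBilin Q₂).Nondegenerate) (g₁ : ↥(Cfsg.isometryGroup F ⇑Q₁)) : (∃ g : ↥(Cfsg.isometryGroup F (fun v : Fin k ⊕ Fin l → F => Q₁ (v ∘ Sum.inl) + Q₂ (v ∘ Sum.inr))), g ∈ Cfsg.Omega F (fun v : Fin k ⊕ Fin l → F => Q₁ (v ∘ Sum.inl) + Q₂ (v ∘ Sum.inr)) ∧ ((g : Matrix.GeneralLinearGroup (Fin k ⊕ Fin l) F) : Matrix (Fin k ⊕ Fin l) (Fin k ⊕ Fin l) F) = Matrix.fromBlocks ((g₁ : Matrix.GeneralLinearGroup (Fin k) F) : Matrix (Fin k) (Fin k) F) 0 0 1) ↔ g₁ ∈ Cfsg.Omega F ⇑Q₁ := by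
  have hQ := Spinor.sumForm_nondeg h₁ h₂
  have hexc : Fintype.card F ≠ 2 ∨ Fintype.card (Fin k ⊕ Fin l) ≠ 4 := by
    rcases h with h | h
    · exact Or.inl h
    · exact Or.inr (by simpa using h.2)
  have hexc₁ : Fintype.card F ≠ 2 ∨ Fintype.card (Fin k) ≠ 4 := by
    rcases h with h | h
    · exact Or.inl h
    · exact Or.inr (by simpa using h.1)
  have hgen := Spinor.reflGroup_eq_top hQ (by rwa [Module.finrank_fintype_fun_eq_card])
  have hgen₁ := Spinor.reflGroup_eq_top h₁ (by rwa [Module.finrank_fintype_fun_eq_card])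
  set g := (FormsLib.oEquiv (Spinor.sumForm Q₁ Q₂)).symm
    (Spinor.sumEmbL Q₁ Q₂ (FormsLib.oEquiv Q₁ g₁)) with hg
  have hiff : g ∈ Cfsg.Omega F ⇑(Spinor.sumForm Q₁ Q₂) ↔ g₁ ∈ Cfsg.Omega F ⇑Q₁ := by
    rw [Spinor.mem_Omega_iff' _ hQ hexc, Spinor.mem_Omega_iff' _ h₁ hexc₁, hg,
      MulEquiv.apply_symm_apply]
    obtain ⟨e1, e2⟩ := Spinor.embL_invariants hQ h₁ hgen hgen₁ (Q₂ := Q₂)
      (LinearEquiv.sumArrowLequivProdArrow (Fin k) (Fin l) F F) (fun _ => rfl) (FormsLib.oEquiv Q₁ g₁)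
    exact and_congr (Eq.congr_left e1) (Eq.congr_left e2)
  rw [← hiff]
  constructor
  · rintro ⟨g', hg', hg''⟩
    rwa [show g = g' from Subtype.ext (Units.ext ((Spinor.sumEmbL_matrix Q₁ Q₂ g₁).trans hg''.symm))]
  · exact fun hh => ⟨g, hh, Spinor.sumEmbL_matrix Q₁ Q₂ g₁⟩

end Cfsg.Agent.S2627
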