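import Cfsg.Statements.S2628
import Cfsg.Agent.Lib.Spinor.Sum
-- import your own Cfsg.Agent.* helpers here

set_option autoImplicit false
open Cfsg

namespace Cfsg.Agent.S2628

/-- For the orthogonal direct sum Q ⊕ Q of two copies of a quadratic form Q with non-degenerate polar form on F^k (F finite), every isometry g of Q acting diagonally, diag(g, g), lies in Ω(Q ⊕ Q), the commutator subgroup of the orthogonal group of Q ⊕ Q. (Excluded: k = 2 over the field of two elements, where Q ⊕ Q is the hyperbolic 4-space whose orthogonal group's commutator subgroup is smaller than the group usually called Ω.) -/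
theorem result {F : Type*} [Field F] [Fintype F] {k : ℕ} (h : Fintype.card F ≠ 2 ∨ k ≠ 2) (Q : QuadraticForm F (Fin k → F)) (hQ : (QuadraticMap.polarBilin Q).Nondegenerate) (g : ↥(Cfsg.isometryGroup F ⇑Q)) : ∃ x : ↥(Cfsg.isometryGroup F (fun v : Fin k ⊕ Fin k → F => Q (v ∘ Sum.inl) + Q (v ∘ Sum.inr))), x ∈ Cfsg.Omega F (fun v : Fin k ⊕ Fin k → F => Q (v ∘ Sum.inl) + Q (v ∘ Sum.inr)) ∧ ((x : Matrix.GeneralLinearGroup (Fin k ⊕ Fin k) F) : Matrix (Fin k ⊕ Fin k) (Fin k ⊕ Fin k) F) = Matrix.fromBlocks ((g : Matrix.GeneralLinearGroup (Fin k) F) : Matrix (Fin k) (Fin k) F) 0 0 ((g : Matrix.GeneralLinearGroup (Fin k) F) : Matrix (Fin k) (Fin k) F) := by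
  have hQQ := Spinor.sumForm_nondeg hQ hQ
  have hexc : Fintype.card F ≠ 2 ∨ Fintype.card (Fin k ⊕ Fin k) ≠ 4 := by
    rcases h with h | h
    · exact Or.inl h
    · exact Or.inr (by simp; omega)
  have hgen := Spinor.reflGroup_eq_top hQQ (by rwa [Module.finrank_fintype_fun_eq_card])
  refine ⟨(FormsLib.oEquiv (Spinor.sumForm Q Q)).symm (Spinor.sumEmbL Q Q (FormsLib.oEquiv Q g) *
    Spinor.sumEmbR Q Q (FormsLib.oEquiv Q g)), ?_, Spinor.sumEmbLR_matrix Q Q g g⟩
  set a := Spinor.sumEmbL Q Q (FormsLib.oEquiv Q g)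
  let σ : FormsLib.oGroup (Spinor.sumForm Q Q) :=
    ⟨LinearEquiv.funCongrLeft F F (Equiv.sumComm (Fin k) (Fin k)), fun x => by
      rw [Spinor.sumForm_apply, Spinor.sumForm_apply, add_comm]
      rfl⟩
  have hconj : Spinor.sumEmbR Q Q (FormsLib.oEquiv Q g) = σ * a * σ⁻¹ := by
    rw [eq_mul_inv_iff_mul_eq]
    refine Subtype.ext (LinearEquiv.ext fun x => funext fun i => ?_)
    rcases i with i | i <;> rfl
  refine (Spinor.mem_Omega_iff' _ hQQ hexc _).2 ?_
  rw [MulEquiv.apply_symm_apply, hconj]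
  have key : ∀ χ : FormsLib.oGroup (Spinor.sumForm Q Q) →* ℤˣ, χ (a * (σ * a * σ⁻¹)) = 1 := by
    intro χ
    rw [map_mul, map_mul, map_mul, map_inv, mul_comm (χ σ) (χ a), mul_inv_cancel_right,
      Int.units_mul_self]
  exact ⟨key (Spinor.dickHom hQQ hgen), key (Spinor.spinHom hQQ hgen)⟩

end Cfsg.Agent.S2628
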