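import Cfsg.Statements.S2631
import Cfsg.Agent.Lib.Spinor.Trans
import Cfsg.Agent.Lib.LinearGroups.OrthForms
-- import your own Cfsg.Agent.* helpers here

set_option autoImplicit false
open Cfsg

namespace Cfsg.Agent.S2631

/-- For the hyperbolic form Σ x_i y_i on F^(2m) over a finite field (m ≥ 1, excluding m = 2 over the field of two elements), Ω (the commutator subgroup of the orthogonal group) acts transitively on each of the two classes of maximal totally singular subspaces: if U and W are m-dimensional totally singular subspaces with m − dim(U ∩ W) even, some element of Ω carries U to W. -/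
theorem result {F : Type*} [Field F] [Fintype F] {m : ℕ} (hm : 1 ≤ m) (h : Fintype.card F ≠ 2 ∨ m ≠ 2) (U W : Submodule F (Fin m ⊕ Fin m → F)) (hU : Module.finrank F U = m) (hW : Module.finrank F W = m) (hU0 : ∀ u ∈ U, Cfsg.quadFormPlus m F u = 0) (hW0 : ∀ w ∈ W, Cfsg.quadFormPlus m F w = 0) (he : Even (m - Module.finrank F ↥(U ⊓ W))) : ∃ g : ↥(Cfsg.isometryGroup F (Cfsg.quadFormPlus m F)), g ∈ Cfsg.Omega F (Cfsg.quadFormPlus m F) ∧ U.map (Matrix.mulVecLin ((g : Matrix.GeneralLinearGroup (Fin m ⊕ Fin m) F) : Matrix (Fin m ⊕ Fin m) (Fin m ⊕ Fin m) F)) = W := by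
  have hQ := OrthForms.qPlus_nondeg (F := F) m
  have hQf : Cfsg.quadFormPlus m F = ⇑(OrthOrder.qPlus m F) := (funext (OrthOrder.qPlus_apply m)).symm
  revert hU0 hW0
  rw [hQf]
  intro hU0 hW0
  have hexc : Fintype.card F ≠ 2 ∨ Fintype.card (Fin m ⊕ Fin m) ≠ 4 := by
    rcases h with h | h
    · exact Or.inl h
    · exact Or.inr (by simp; omega)
  have hgen := Spinor.reflGroup_eq_top hQ (by rwa [Module.finrank_fintype_fun_eq_card])
  have hm2 : Module.finrank F (Fin m ⊕ Fin m → F) = 2 * m := by simp; omega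
  obtain ⟨g, hg⟩ := Spinor.exists_witt_singular hQ (hU.trans hW.symm) hU0 hW0
  exact Spinor.exists_omega_map hQ hexc g hg
    (Or.inl ((Spinor.dick_eq_one_iff_even hQ hgen hm2 g hU0 hU hg).2 he))
    (fun h2 => Spinor.exists_singular_stab hQ hgen h2 hU0 (fun hb => by
      rw [hb, finrank_bot] at hU; omega))

end Cfsg.Agent.S2631
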