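import Cfsg.Statements.S2632
import Cfsg.Agent.Lib.Spinor.Trans
-- import your own Cfsg.Agent.* helpers here

set_option autoImplicit false
open Cfsg

namespace Cfsg.Agent.S2632

/-- Ω is transitive on non-degenerate subspaces of each isometry type: for a quadratic form Q on F^n, n ≥ 3, with non-degenerate polar form (F finite; excluding dimension 4 over the field of two elements), if U and W are subspaces on which the polar form is non-degenerate and there is a Q-preserving linear isomorphism U → W, then some element of Ω (the commutator subgroup of the orthogonal group) carries U to W. (In dimension 2 this fails: Ω can be {±1}, which fixes every line.) -/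
theorem result {F : Type*} [Field F] [Fintype F] {n : ℕ} (hn : 3 ≤ n) (h : Fintype.card F ≠ 2 ∨ n ≠ 4) (Q : QuadraticForm F (Fin n → F)) (hQ : (QuadraticMap.polarBilin Q).Nondegenerate) (U W : Submodule F (Fin n → F)) (hU : U ⊓ LinearMap.BilinForm.orthogonal (QuadraticMap.polarBilin Q) U = ⊥) (hW : W ⊓ LinearMap.BilinForm.orthogonal (QuadraticMap.polarBilin Q) W = ⊥) (e : U ≃ₗ[F] W) (he : ∀ u : U, Q (e u : Fin n → F) = Q (u : Fin n → F)) : ∃ g : ↥(Cfsg.isometryGroup F ⇑Q), g ∈ Cfsg.Omega F ⇑Q ∧ U.map (Matrix.mulVecLin ((g : Matrix.GeneralLinearGroup (Fin n) F) : Matrix (Fin n) (Fin n) F)) = W := by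
  have hexc : Fintype.card F ≠ 2 ∨ Fintype.card (Fin n) ≠ 4 := by simpa using h
  have hgen := Spinor.reflGroup_eq_top hQ (by rwa [Module.finrank_fintype_fun_eq_card])
  obtain ⟨g, hg⟩ := Spinor.exists_witt_map hQ e he
  -- one of `U`, its orthogonal has dimension at least two
  set Up := LinearMap.BilinForm.orthogonal (QuadraticMap.polarBilin Q) U with hUp
  have hUp0 : Up ⊓ LinearMap.BilinForm.orthogonal (QuadraticMap.polarBilin Q) Up = ⊥ := by
    rw [hUp, LinearMap.BilinForm.orthogonal_orthogonal hQ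
      (fun x y hxy => by rw [QuadraticMap.polarBilin_apply_apply, QuadraticMap.polar_comm]; exact hxy),
      inf_comm]
    exact hU
  have hdim := Spinor.finrank_orth hQ U
  rw [← hUp, Module.finrank_fin_fun] at hdim
  have hvec : ∀ c : F, c ≠ 0 → ∃ v, Q v = c ∧ (v ∈ U ∨ ∀ u ∈ U, QuadraticMap.polar Q u v = 0) := by
    intro c hc
    have hUle := Submodule.finrank_le U
    rw [Module.finrank_fin_fun] at hUle
    by_cases hd : 2 ≤ Module.finrank F U
    · obtain ⟨v, hv, hQv⟩ := Spinor.exists_norm hU (Or.inl hd) hc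
      exact ⟨v, hQv, Or.inl hv⟩
    · obtain ⟨v, hv, hQv⟩ := Spinor.exists_norm hUp0 (Or.inl (by omega)) hc
      exact ⟨v, hQv, Or.inr hv⟩
  obtain ⟨v, hQv, hv⟩ := hvec 1 one_ne_zero
  have hv0 : Q v ≠ 0 := hQv ▸ one_ne_zero
  obtain ⟨G, hG, hGU⟩ := Spinor.exists_omega_map hQ hexc g hg
    (Or.inr ⟨_, Spinor.refl_mapsTo hv0 hv, Spinor.dick_oRefl hQ hv0⟩) (fun h2 => by
      obtain ⟨d, hd, hns⟩ := Spinor.exists_nonsquare (F := F) h2
      obtain ⟨w, hQw, hw⟩ := hvec d hd
      have hw0 : Q w ≠ 0 := hQw ▸ hd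
      obtain ⟨i1, i2⟩ := Spinor.pair_invariants hQ hgen hv0 hw0 hd (by rw [hQv, hQw, one_mul])
      exact ⟨FormsLib.oRefl Q v hv0 * FormsLib.oRefl Q w hw0,
        fun x hx => Spinor.refl_mapsTo hv0 hv _ (Spinor.refl_mapsTo hw0 hw x hx), i1,
        (Int.units_eq_one_or _).resolve_left fun h => hns (i2.1 h)⟩)
  exact ⟨G, hG, hGU⟩

end Cfsg.Agent.S2632
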