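import Cfsg.Statements.S2633
import Cfsg.Agent.Lib.Spinor.Trans
-- import your own Cfsg.Agent.* helpers here

set_option autoImplicit false
open Cfsg

namespace Cfsg.Agent.S2633

/-- Ω is transitive on totally singular subspaces of each dimension less than half the dimension: for a quadratic form Q on F^n with non-degenerate polar form (F finite; excluding dimension 4 over the field of two elements), if U and W are subspaces of the same dimension k with 2k < n on which Q vanishes, then some element of Ω (the commutator subgroup of the orthogonal group) carries U to W. -/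
theorem result {F : Type*} [Field F] [Fintype F] {n : ℕ} (h : Fintype.card F ≠ 2 ∨ n ≠ 4) (Q : QuadraticForm F (Fin n → F)) (hQ : (QuadraticMap.polarBilin Q).Nondegenerate) (U W : Submodule F (Fin n → F)) {k : ℕ} (hk : 2 * k < n) (hU : Module.finrank F U = k) (hW : Module.finrank F W = k) (hU0 : ∀ u ∈ U, Q u = 0) (hW0 : ∀ w ∈ W, Q w = 0) : ∃ g : ↥(Cfsg.isometryGroup F ⇑Q), g ∈ Cfsg.Omega F ⇑Q ∧ U.map (Matrix.mulVecLin ((g : Matrix.GeneralLinearGroup (Fin n) F) : Matrix (Fin n) (Fin n) F)) = W := by
  have hexc : Fintype.card F ≠ 2 ∨ Fintype.card (Fin n) ≠ 4 := by simpa using h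
  have hgen := Spinor.reflGroup_eq_top hQ (by rwa [Module.finrank_fintype_fun_eq_card])
  by_cases hU' : U = ⊥
  · have hk0 : k = 0 := by rw [← hU, hU', finrank_bot]
    have hW' : W = ⊥ := Submodule.finrank_eq_zero.1 (hW.trans hk0)
    exact ⟨1, Subgroup.one_mem _, by rw [hU', hW', Submodule.map_bot]⟩
  obtain ⟨g, hg⟩ := Spinor.exists_witt_singular hQ (hU.trans hW.symm) hU0 hW0
  obtain ⟨v, hv, hv0⟩ := Spinor.exists_nonsingular hQ
    (W := LinearMap.BilinForm.orthogonal (QuadraticMap.polarBilin Q) U) (fun hle => by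
      have := Submodule.finrank_mono hle
      rw [Spinor.finrank_orth hQ (LinearMap.BilinForm.orthogonal _ U), Spinor.finrank_orth hQ,
        Module.finrank_fin_fun, hU] at this
      omega)
  exact Spinor.exists_omega_map hQ hexc g hg
    (Or.inr ⟨_, Spinor.refl_mapsTo hv0 (Or.inr hv), Spinor.dick_oRefl hQ hv0⟩)
    (fun h2 => Spinor.exists_singular_stab hQ hgen h2 hU0 hU')

end Cfsg.Agent.S2633
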