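import Cfsg.Statements.S2634
import Cfsg.Agent.Lib.Spinor.Trans
-- import your own Cfsg.Agent.* helpers here

set_option autoImplicit false
open Cfsg

namespace Cfsg.Agent.S2634

/-- Over a finite field of characteristic two, Ω (the commutator subgroup of the orthogonal group of a quadratic form Q on F^n with non-degenerate polar form; excluding dimension 4 over the field of two elements) acts transitively on the non-singular 1-spaces: for u, v with Q(u) ≠ 0 and Q(v) ≠ 0 some element of Ω carries the line through u to the line through v. -/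
theorem result {F : Type*} [Field F] [Fintype F] [CharP F 2] {n : ℕ} (h : Fintype.card F ≠ 2 ∨ n ≠ 4) (Q : QuadraticForm F (Fin n → F)) (hQ : (QuadraticMap.polarBilin Q).Nondegenerate) (u v : Fin n → F) (hu : Q u ≠ 0) (hv : Q v ≠ 0) : ∃ g : ↥(Cfsg.isometryGroup F ⇑Q), g ∈ Cfsg.Omega F ⇑Q ∧ (F ∙ ((g : Matrix.GeneralLinearGroup (Fin n) F) : Matrix (Fin n) (Fin n) F).mulVec u) = F ∙ v := by
  have h2 : (2 : F) = 0 := by exact_mod_cast CharP.cast_eq_zero F 2
  have hexc : Fintype.card F ≠ 2 ∨ Fintype.card (Fin n) ≠ 4 := by simpa using h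
  have hu0 : u ≠ 0 := fun h => hu (by rw [h, QuadraticMap.map_zero])
  obtain ⟨t, ht⟩ := FiniteField.isSquare_of_char_two (Spinor.ringChar_eq_two h2) (Q u / Q v)
  have htv : Q (t • v) = Q u := by
    rw [QuadraticMap.map_smul, smul_eq_mul, ← ht, div_mul_cancel₀ _ hv]
  have ht0 : t ≠ 0 := fun h => hu (by rw [← htv, h, zero_smul, QuadraticMap.map_zero])
  have htv0 : t • v ≠ 0 := fun h => hu (by rw [← htv, h, QuadraticMap.map_zero])
  let e := (LinearEquiv.toSpanNonzeroSingleton F _ u hu0).symm.trans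
    (LinearEquiv.toSpanNonzeroSingleton F _ (t • v) htv0)
  obtain ⟨g, hg⟩ := Spinor.exists_witt_map hQ e (fun x => by
    obtain ⟨c, rfl⟩ := (LinearEquiv.toSpanNonzeroSingleton F _ u hu0).surjective x
    simp only [e, LinearEquiv.trans_apply, LinearEquiv.symm_apply_apply]
    show Q (c • t • v) = Q (c • u)
    rw [QuadraticMap.map_smul, QuadraticMap.map_smul _ _ u, htv])
  obtain ⟨G, hG, hGU⟩ := Spinor.exists_omega_map hQ hexc g hg
    (Or.inr ⟨_, Spinor.refl_mapsTo hu (Or.inl (Submodule.mem_span_singleton_self u)),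
      Spinor.dick_oRefl hQ hu⟩) (fun h => absurd h2 h)
  refine ⟨G, hG, ?_⟩
  rw [Submodule.map_span, Set.image_singleton, Matrix.mulVecLin_apply,
    Submodule.span_singleton_smul_eq (Ne.isUnit ht0)] at hGU
  exact hGU

end Cfsg.Agent.S2634
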