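import Cfsg.Statements.S2635
import Cfsg.Agent.Lib.Spinor.Tools
-- import your own Cfsg.Agent.* helpers here

set_option autoImplicit false
open Cfsg

namespace Cfsg.Agent.S2635

/-- Over a finite field of characteristic two, for a quadratic form Q on F^n with non-degenerate polar form, n ≥ 2, other than dimension 4 over the field of two elements, Ω (the commutator subgroup of the orthogonal group) is exactly the subgroup generated by the products of two reflections (orthogonal transvections) x ↦ x − Q(v)⁻¹ f(x, v) v, Q(v) ≠ 0: the products of an even number of reflections. -/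
theorem result {F : Type*} [Field F] [Fintype F] [CharP F 2] {n : ℕ} (hn : 2 ≤ n) (h : Fintype.card F ≠ 2 ∨ n ≠ 4) (Q : QuadraticForm F (Fin n → F)) (hQ : (QuadraticMap.polarBilin Q).Nondegenerate) : Cfsg.Omega F ⇑Q = Subgroup.closure {g : ↥(Cfsg.isometryGroup F ⇑Q) | ∃ u v : Fin n → F, Q u ≠ 0 ∧ Q v ≠ 0 ∧ ((g : Matrix.GeneralLinearGroup (Fin n) F) : Matrix (Fin n) (Fin n) F) = Cfsg.reflectionMatrix ⇑Q u * Cfsg.reflectionMatrix ⇑Q v} := by
  have h2 : (2 : F) = 0 := by exact_mod_cast CharP.cast_eq_zero F 2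
  have hexc : Fintype.card F ≠ 2 ∨ Fintype.card (Fin n) ≠ 4 := by simpa using h
  have hgen := Spinor.reflGroup_eq_top hQ (by rwa [Module.finrank_fintype_fun_eq_card])
  have hspin : ∀ g : FormsLib.oGroup Q, Spinor.spin g = 1 := fun g => by simp [Spinor.spin, h2]
  refine le_antisymm ?_ ((Subgroup.closure_le _).2 ?_)
  · intro g hg
    haveI : Nontrivial (Fin n → F) := Module.nontrivial_of_finrank_pos (R := F) (by simp; omega)
    obtain ⟨w, hw⟩ := Spinor.exists_nonsingular' hQ
    set C := Subgroup.closure {g : ↥(Cfsg.isometryGroup F ⇑Q) | ∃ u v : Fin n → F, Q u ≠ 0 ∧ Q v ≠ 0 ∧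
      ((g : Matrix.GeneralLinearGroup (Fin n) F) : Matrix (Fin n) (Fin n) F) =
        Cfsg.reflectionMatrix ⇑Q u * Cfsg.reflectionMatrix ⇑Q v} with hC
    have hpair : ∀ u v (hu : Q u ≠ 0) (hv : Q v ≠ 0),
        (FormsLib.oEquiv Q).symm (FormsLib.oRefl Q u hu * FormsLib.oRefl Q v hv) ∈ C := fun u v hu hv =>
      Subgroup.subset_closure ⟨u, v, hu, hv, by
        rw [map_mul]
        exact congrArg₂ (· * ·) (Spinor.oRefl_matrix Q hu) (Spinor.oRefl_matrix Q hv)⟩
    set r := FormsLib.oRefl Q w hw with hr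
    have hrr : r * r = 1 := by
      rw [hr]
      nth_rewrite 1 [← FormsLib.oRefl_inv hw]
      exact inv_mul_cancel _
    let C' := C.map (FormsLib.oEquiv Q).toMonoidHom
    have hpair' : ∀ u v (hu : Q u ≠ 0) (hv : Q v ≠ 0),
        FormsLib.oRefl Q u hu * FormsLib.oRefl Q v hv ∈ C' := fun u v hu hv =>
      ⟨_, hpair u v hu hv, MulEquiv.apply_symm_apply _ _⟩
    have main : ∀ x : FormsLib.oGroup Q, x ∈ Spinor.reflGroup Q →
        if Spinor.dick x = 1 then x ∈ C' else x * r ∈ C' := by
      intro x hx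
      induction hx using Subgroup.closure_induction_right with
      | one => rw [if_pos Spinor.dick_one]; exact one_mem _
      | mul_right x y _ hy ih =>
        obtain ⟨v, hv, rfl⟩ := hy
        rw [Spinor.dick_mul_oRefl hQ]
        rcases Int.units_eq_one_or (Spinor.dick x) with e | e
        · rw [e, if_pos rfl] at ih
          rw [e, if_neg (by decide), mul_assoc]
          exact mul_mem ih (hpair' v w hv hw)
        · rw [e, if_neg (by decide)] at ih
          rw [e, neg_neg, if_pos rfl]
          have := mul_mem ih (hpair' w v hw hv)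
          rwa [← mul_assoc, mul_assoc x r, hrr, mul_one] at this
      | mul_inv_cancel x y _ hy ih =>
        obtain ⟨v, hv, rfl⟩ := hy
        rw [FormsLib.oRefl_inv, Spinor.dick_mul_oRefl hQ]
        rcases Int.units_eq_one_or (Spinor.dick x) with e | e
        · rw [e, if_pos rfl] at ih
          rw [e, if_neg (by decide), mul_assoc]
          exact mul_mem ih (hpair' v w hv hw)
        · rw [e, if_neg (by decide)] at ih
          rw [e, neg_neg, if_pos rfl]
          have := mul_mem ih (hpair' w v hw hv)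
          rwa [← mul_assoc, mul_assoc x r, hrr, mul_one] at this
    have hd := ((Spinor.mem_Omega_iff' Q hQ hexc g).1 hg).1
    have := main _ (hgen ▸ Subgroup.mem_top (FormsLib.oEquiv Q g))
    rw [if_pos hd] at this
    obtain ⟨g', hg', he⟩ := this
    rwa [(FormsLib.oEquiv Q).injective he] at hg'
  · rintro g ⟨u, v, hu, hv, hg⟩
    have e : g = (FormsLib.oEquiv Q).symm (FormsLib.oRefl Q u hu * FormsLib.oRefl Q v hv) := by
      refine Subtype.ext (Units.ext (hg.trans ?_))
      rw [map_mul]
      exact (congrArg₂ (· * ·) (Spinor.oRefl_matrix Q hu) (Spinor.oRefl_matrix Q hv)).symm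
    refine (Spinor.mem_Omega_iff' Q hQ hexc g).2 ⟨?_, hspin _⟩
    rw [e, MulEquiv.apply_symm_apply, Spinor.dick_mul hQ hgen, Spinor.dick_oRefl hQ,
      Spinor.dick_oRefl hQ, Int.units_mul_self]

end Cfsg.Agent.S2635
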