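import Cfsg.Statements.S2636
-- import your own Cfsg.Agent.* helpers here

set_option autoImplicit false
open Cfsg

namespace Cfsg.Agent.S2636

/-- Centraliser of a field automorphism in PGL_n: let F be the field with q = q₀^r elements, σ a field automorphism of F of prime order r (so its fixed field has q₀ elements) and n ≥ 1. The invertible matrices g whose entrywise image under σ is a scalar multiple of g — those whose coset modulo scalars is fixed by σ — number (q − 1)/(q₀ − 1) · |GL_n(q₀)|; equivalently the centraliser in PGL_n(q) of the induced automorphism has the order of PGL_n(q₀). -/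
theorem result {F : Type*} [Field F] [Fintype F] {q₀ r n : ℕ} (hr : r.Prime) (hn : 1 ≤ n) (hF : Fintype.card F = q₀ ^ r) (σ : F ≃+* F) (hσ : orderOf σ = r) : Nat.card {g : GL (Fin n) F // ∃ c : F, c ≠ 0 ∧ (g : Matrix (Fin n) (Fin n) F).map σ = c • (g : Matrix (Fin n) (Fin n) F)} = (q₀ ^ r - 1) / (q₀ - 1) * ∏ i : Fin n, (q₀ ^ n - q₀ ^ (i : ℕ)) := by
  classical
  let G := Subgroup.zpowers σ
  let K := FixedPoints.subfield G F
  haveI : Finite (F ≃+* F) :=
    Finite.of_injective (fun e : F ≃+* F => (e : F → F)) DFunLike.coe_injective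
  letI : Fintype G := Fintype.ofFinite G
  have hKmem : ∀ a : F, a ∈ K ↔ σ a = a := fun a => by
    refine ⟨fun h => h ⟨σ, Subgroup.mem_zpowers σ⟩, fun h => ?_⟩
    rintro ⟨τ, hτ⟩
    show τ a = a
    have hs : σ ∈ MulAction.stabilizer (F ≃+* F) a := h
    exact (Subgroup.zpowers_le.2 hs) hτ
  have hdeg : Module.finrank K F = r := by
    rw [FixedPoints.finrank_eq_card G F, ← Nat.card_eq_fintype_card, Nat.card_zpowers, hσ]
  have hK : Nat.card K = q₀ := by
    have h := Module.natCard_eq_pow_finrank (K := K) (V := F)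
    rw [Nat.card_eq_fintype_card (α := F), hF, hdeg] at h
    exact (Nat.pow_left_injective hr.ne_zero h).symm
  letI : Fintype K := Fintype.ofFinite K
  have hKF : Fintype.card K = q₀ := by rw [← Nat.card_eq_fintype_card, hK]
  have hq2 : 1 < q₀ := hKF ▸ Fintype.one_lt_card
  let S := {g : GL (Fin n) F // ∃ c : F, c ≠ 0 ∧ (g : Matrix (Fin n) (Fin n) F).map σ = c • (g : Matrix (Fin n) (Fin n) F)}
  have hmap : ∀ g : GL (Fin n) K,
      ((Matrix.GeneralLinearGroup.map K.subtype g : GL (Fin n) F) : Matrix (Fin n) (Fin n) F).map σ =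
        (Matrix.GeneralLinearGroup.map K.subtype g : GL (Fin n) F) := fun g => by
    ext i j
    exact (hKmem _).1 (SetLike.coe_mem _)
  let sc : Fˣ →* GL (Fin n) F :=
    Units.map (Matrix.scalar (Fin n) : F →+* Matrix (Fin n) (Fin n) F).toMonoidHom
  have hsc : ∀ (a : Fˣ) (g : GL (Fin n) F), ((sc a * g : GL (Fin n) F) : Matrix (Fin n) (Fin n) F) =
      (a : F) • (g : Matrix (Fin n) (Fin n) F) := fun a g => by
    show Matrix.scalar (Fin n) (a : F) * (g : Matrix (Fin n) (Fin n) F) = _
    rw [Matrix.scalar_apply, Matrix.smul_eq_diagonal_mul]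
  let Φ : Fˣ × GL (Fin n) K → S := fun p => ⟨sc p.1 * Matrix.GeneralLinearGroup.map K.subtype p.2,
    σ p.1 / p.1, div_ne_zero ((map_ne_zero σ).2 p.1.ne_zero) p.1.ne_zero, by
      rw [hsc]
      ext i j
      have h := congrFun (congrFun (hmap p.2) i) j
      rw [Matrix.map_apply] at h
      rw [Matrix.map_apply, Matrix.smul_apply, Matrix.smul_apply, Matrix.smul_apply, smul_eq_mul,
        smul_eq_mul, map_mul, h, ← mul_assoc, div_mul_cancel₀ _ p.1.ne_zero]⟩
  have hentry : ∀ g : GL (Fin n) F, ∃ i j, (g : Matrix (Fin n) (Fin n) F) i j ≠ 0 := by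
    intro g
    by_contra h
    push Not at h
    haveI : Nonempty (Fin n) := ⟨⟨0, hn⟩⟩
    have h0 : (g : Matrix (Fin n) (Fin n) F) = 0 := Matrix.ext h
    exact (g.isUnit.ne_zero) h0
  have hfix : ∀ g : GL (Fin n) F, (g : Matrix (Fin n) (Fin n) F).map σ = g →
      ∃ g' : GL (Fin n) K, Matrix.GeneralLinearGroup.map K.subtype g' = g := by
    intro g hg
    let M : Matrix (Fin n) (Fin n) K := Matrix.of fun i j =>
      ⟨(g : Matrix (Fin n) (Fin n) F) i j, (hKmem _).2 (congrFun (congrFun hg i) j)⟩
    have hM : M.map K.subtype = (g : Matrix (Fin n) (Fin n) F) := rfl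
    have hdet : IsUnit M.det := by
      refine isUnit_iff_ne_zero.2 fun h => (Matrix.isUnits_det_units g).ne_zero ?_
      rw [← hM, ← RingHom.mapMatrix_apply, ← RingHom.map_det, h, map_zero]
    exact ⟨Matrix.GeneralLinearGroup.mk'' M hdet, Units.ext hM⟩
  have hsurj : Function.Surjective Φ := by
    rintro ⟨g, c, hc, hg⟩
    obtain ⟨i, j, hij⟩ := hentry g
    set a := Units.mk0 _ hij
    have hca : σ (a : F) = c * a := congrFun (congrFun hg i) j
    obtain ⟨g', hg'⟩ := hfix (sc a⁻¹ * g) (by
      rw [hsc]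
      ext k l
      have h := congrFun (congrFun hg k) l
      rw [Matrix.map_apply, Matrix.smul_apply, smul_eq_mul] at h
      rw [Matrix.map_apply, Matrix.smul_apply, smul_eq_mul, map_mul, h, Units.val_inv_eq_inv_val,
        map_inv₀, hca]
      field_simp)
    refine ⟨(a, g'), Subtype.ext ?_⟩
    show sc a * Matrix.GeneralLinearGroup.map K.subtype g' = g
    rw [hg', ← mul_assoc, ← map_mul, mul_inv_cancel, map_one, one_mul]
  have hfib : ∀ s : S, Nat.card {p // Φ p = s} = q₀ - 1 := by
    intro s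
    obtain ⟨⟨a, g⟩, rfl⟩ := hsurj s
    rw [← hKF, ← Fintype.card_units, ← Nat.card_eq_fintype_card]
    let scK : Kˣ →* GL (Fin n) K :=
      Units.map (Matrix.scalar (Fin n) : K →+* Matrix (Fin n) (Fin n) K).toMonoidHom
    let ι : Kˣ →* Fˣ := Units.map K.subtype.toMonoidHom
    have hι : ∀ k, Matrix.GeneralLinearGroup.map K.subtype (scK k) = sc (ι k) := fun k => Units.ext (by
      show (Matrix.scalar (Fin n) (k : K)).map K.subtype = Matrix.scalar (Fin n) ((k : K) : F)
      rw [Matrix.scalar_apply, Matrix.scalar_apply, Matrix.diagonal_map (map_zero _)]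
      rfl)
    have hΦ : ∀ k, Φ (a * (ι k)⁻¹, scK k * g) = Φ (a, g) := fun k => Subtype.ext (by
      show sc (a * (ι k)⁻¹) * Matrix.GeneralLinearGroup.map K.subtype (scK k * g) = _
      rw [map_mul (Matrix.GeneralLinearGroup.map _), hι, ← mul_assoc, ← map_mul, inv_mul_cancel_right])
    refine (Nat.card_eq_of_bijective (fun k => ⟨_, hΦ k⟩) ⟨fun k k' h => ?_, fun p => ?_⟩).symm
    · have h1 : (ι k)⁻¹ = (ι k')⁻¹ := mul_left_cancel (congrArg (fun p => p.1.1) h)
      exact Units.map_injective K.subtype.injective (inv_injective h1)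
    · obtain ⟨⟨b, g'⟩, hp⟩ := p
      have h' : sc b * Matrix.GeneralLinearGroup.map K.subtype g' =
          sc a * Matrix.GeneralLinearGroup.map K.subtype g := congrArg Subtype.val hp
      obtain ⟨i, j, hij⟩ := hentry (Matrix.GeneralLinearGroup.map K.subtype g)
      have h1 := congrArg (fun x : GL (Fin n) F => (x : Matrix (Fin n) (Fin n) F) i j) h'
      rw [hsc, hsc, Matrix.smul_apply, Matrix.smul_apply, smul_eq_mul, smul_eq_mul] at h1
      have hk0 : (b⁻¹ * a : Fˣ).val ∈ K := by
        have hb : (g' : Matrix (Fin n) (Fin n) K) i j ≠ 0 := fun h0 => by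
          refine mul_ne_zero a.ne_zero hij ?_
          rw [← h1, show ((Matrix.GeneralLinearGroup.map K.subtype g' : GL (Fin n) F) :
            Matrix (Fin n) (Fin n) F) i j = ((g' : Matrix (Fin n) (Fin n) K) i j : F) from rfl, h0,
            ZeroMemClass.coe_zero, mul_zero]
        have e : (b⁻¹ * a : Fˣ).val = ((g' : Matrix (Fin n) (Fin n) K) i j : F) /
            ((g : Matrix (Fin n) (Fin n) K) i j : F) := by
          rw [Units.val_mul, Units.val_inv_eq_inv_val, inv_mul_eq_div]
          exact (div_eq_div_iff b.ne_zero hij).2 (h1.symm.trans (mul_comm _ _))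
        rw [e]
        exact K.div_mem (SetLike.coe_mem _) (SetLike.coe_mem _)
      let k : Kˣ := Units.mk0 ⟨_, hk0⟩ (fun h => (b⁻¹ * a).ne_zero (congrArg Subtype.val h))
      have hιk : ι k = b⁻¹ * a := Units.ext rfl
      refine ⟨k, Subtype.ext (Prod.ext ?_ ?_)⟩
      · show a * (ι k)⁻¹ = b
        rw [hιk, mul_inv_rev, inv_inv, mul_inv_cancel_left]
      · show scK k * g = g'
        refine Units.map_injective (f := K.subtype.mapMatrix.toMonoidHom)
          (fun _ _ h => Matrix.map_injective K.subtype.injective h) ?_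
        show Matrix.GeneralLinearGroup.map K.subtype (scK k * g) = Matrix.GeneralLinearGroup.map K.subtype g'
        rw [map_mul, hι, hιk, map_mul, map_inv, mul_assoc, ← h', inv_mul_cancel_left]
  have hcount : Nat.card (Fˣ × GL (Fin n) K) = Nat.card S * (q₀ - 1) := by
    rw [Nat.card_congr (Equiv.sigmaFiberEquiv Φ).symm]
    haveI : Fintype S := Fintype.ofFinite S
    rw [Nat.card_sigma, Finset.sum_congr rfl (fun s _ => hfib s), Finset.sum_const, smul_eq_mul,
      Finset.card_univ, Nat.card_eq_fintype_card (α := S)]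
  rw [Nat.card_prod, Nat.card_units, Nat.card_eq_fintype_card (α := F), hF, Matrix.card_GL_field, hKF] at hcount
  obtain ⟨e, he⟩ := Nat.sub_dvd_pow_sub_pow q₀ 1 r
  rw [one_pow] at he
  show Nat.card S = _
  rw [he, mul_comm (q₀ - 1) e, Nat.mul_div_cancel _ (by omega)]
  rw [he] at hcount
  exact Nat.eq_of_mul_eq_mul_right (show 0 < q₀ - 1 by omega)
    (hcount.symm.trans (by ring))

end Cfsg.Agent.S2636
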