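import Cfsg.Statements.S2637
import Cfsg.Agent.Lib.FormCentral.UnipotentCentralizer
import Cfsg.Agent.Lib.Forms.Sp
-- import your own Cfsg.Agent.* helpers here

set_option autoImplicit false
open Cfsg

namespace Cfsg.Agent.S2637

open scoped Matrix
open Cfsg.Agent.UnipotentCentralizer Cfsg.Agent.FormsLib
open Cfsg.Agent.AutPSU (qb)

/-- The algebra generated by a cube root of unity. -/
abbrev QK (F : Type*) [Field F] := QuadraticAlgebra F (-1 : F) (-1 : F)

/-- The count of the unitary group over the integers. -/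
theorem card_GU_int {K : Type*} [Field K] [Fintype K] {q : ℕ} (hK : Fintype.card K = q ^ 2) (m : ℕ) :
    (Nat.card ↥(Cfsg.GU m K q) : ℤ) =
      (q : ℤ) ^ (m * (m - 1) / 2) * ∏ i : Fin m, ((q : ℤ) ^ ((i : ℕ) + 1) - (-1) ^ ((i : ℕ) + 1)) := by
  haveI := AutPSU.QField.of_card hK
  rw [UnitaryOrder.card_GU hK, Nat.cast_mul, Nat.cast_pow, Finset.prod_range, Nat.cast_prod]
  congr 1
  refine Finset.prod_congr rfl fun j _ => ?_
  have hq : 1 ≤ q ^ ((j : ℕ) + 1) := Nat.one_le_pow _ _ (by have := AutPSU.two_le_q (F := K) (q := q); omega)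
  split_ifs with hj
  · rw [pow_succ (-1 : ℤ), hj.neg_one_pow]
    push_cast
    ring
  · rw [Nat.cast_sub hq, pow_succ (-1 : ℤ), (Nat.not_even_iff_odd.1 hj).neg_one_pow]
    push_cast
    ring

set_option maxHeartbeats 1000000 in
/-- Centraliser of a fixed-point-free element of order three in Sp_2m(q) when q ≡ 2 (mod 3): if x ∈ Sp_2m(F) (|F| = q, m ≥ 1) satisfies x³ = 1 and x − 1 is invertible, then its centraliser in Sp_2m(F) has the order of the unitary group GU_m(q), namely q^(m(m−1)/2) Π_(i=1)^m (q^i − (−1)^i) (x lies in the centre of a subgroup GU_m(q) of Sp_2m(q)). -/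
theorem result {F : Type*} [Field F] [Fintype F] {q : ℕ} (hF : Fintype.card F = q) (hq : q % 3 = 2) {m : ℕ} (hm : 1 ≤ m) (x : Matrix.symplecticGroup (Fin m) F) (hx3 : x ^ 3 = 1) (hfpf : IsUnit ((x : Matrix (Fin m ⊕ Fin m) (Fin m ⊕ Fin m) F) - 1)) : (Nat.card ↥(Subgroup.centralizer ({x} : Set ↥(Matrix.symplecticGroup (Fin m) F))) : ℤ) = (q : ℤ) ^ (m * (m - 1) / 2) * ∏ i : Fin m, ((q : ℤ) ^ ((i : ℕ) + 1) - (-1) ^ ((i : ℕ) + 1)) := by
  classical
  -- the field generated by a primitive cube root of unity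
  have h3 : (3 : F) ≠ 0 := by
    intro h
    obtain ⟨p, hp⟩ := CharP.exists F
    haveI := hp
    obtain ⟨n, hpp, hn⟩ := FiniteField.card F p
    have hd : p ∣ 3 := (CharP.cast_eq_zero_iff F p 3).1 (by exact_mod_cast h)
    obtain rfl : p = 3 := (Nat.prime_dvd_prime_iff_eq hpp Nat.prime_three).1 hd
    rw [hF] at hn
    have h3q : 3 ∣ q := hn ▸ dvd_pow_self 3 n.2.ne'
    omega
  haveI : Fact (∀ r : F, r ^ 2 ≠ (-1 : F) + (-1 : F) * r) := ⟨fun r h => by
    have hr : r ^ 2 + r + 1 = 0 := by linear_combination h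
    have hr3 : r ^ 3 = 1 := by linear_combination (r - 1) * hr
    have hr0 : r ≠ 0 := fun e => by rw [e] at hr; exact one_ne_zero (by linear_combination hr)
    have hr1 : r = 1 := by
      rw [← orderOf_eq_one_iff]
      refine Nat.eq_one_of_dvd_coprimes ?_ (orderOf_dvd_of_pow_eq_one hr3)
        (orderOf_dvd_of_pow_eq_one (FiniteField.pow_card_sub_one_eq_one r hr0))
      rw [hF]
      refine (Nat.Prime.coprime_iff_not_dvd Nat.prime_three).2 fun hd => ?_
      omega
    rw [hr1] at hr
    exact h3 (by linear_combination hr)⟩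
  letI : Fintype (QuadraticAlgebra F (-1 : F) (-1 : F)) :=
    Fintype.ofEquiv (F × F) (QuadraticAlgebra.equivProd (-1 : F) (-1 : F)).symm
  have hcardK : Fintype.card (QK F) = q ^ 2 := by
    rw [Fintype.card_congr (QuadraticAlgebra.equivProd (-1 : F) (-1 : F)), Fintype.card_prod, hF, sq]
  haveI := AutPSU.QField.of_card hcardK
  set X : Matrix (Fin m ⊕ Fin m) (Fin m ⊕ Fin m) F := (x : Matrix (Fin m ⊕ Fin m) (Fin m ⊕ Fin m) F) with hXdef
  have hX2 : X * X + X + 1 = 0 := by
    refine hfpf.mul_right_eq_zero.1 ?_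
    have h := congrArg Subtype.val hx3
    rw [SubmonoidClass.coe_pow, OneMemClass.coe_one] at h
    rw [show (X - 1) * (X * X + X + 1) = X ^ 3 - 1 by noncomm_ring]
    exact sub_eq_zero.2 h
  let E := Module.End F (Fin m ⊕ Fin m → F)
  let φ : (QK F) →ₐ[F] E := QuadraticAlgebra.lift ⟨Matrix.toLinAlgEquiv' X, by
    rw [← map_mul, show X * X = (-1 : F) • (1 : Matrix (Fin m ⊕ Fin m) (Fin m ⊕ Fin m) F) + (-1 : F) • X by
      linear_combination (norm := module) hX2]
    simp⟩
  letI : Module (QK F) (Fin m ⊕ Fin m → F) := Module.compHom _ φ.toRingHom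
  have hsmul : ∀ (k : (QK F)) (v : Fin m ⊕ Fin m → F), k • v = k.re • v + k.im • (X *ᵥ v) := fun k v => by
    show φ k v = _
    simp [φ, QuadraticAlgebra.lift, Module.End.one_apply, LinearMap.add_apply, LinearMap.smul_apply,
      Matrix.toLinAlgEquiv'_apply, E]
  haveI : IsScalarTower F (QK F) (Fin m ⊕ Fin m → F) := ⟨fun a k v => by
    rw [hsmul, hsmul]
    simp only [QuadraticAlgebra.re_smul, QuadraticAlgebra.im_smul, smul_eq_mul, smul_add, smul_smul]⟩
  haveI : Module.Finite (QK F) (Fin m ⊕ Fin m → F) := Module.Finite.of_finite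
  have hdim : Module.finrank (QK F) (Fin m ⊕ Fin m → F) = m := by
    have h := Module.finrank_mul_finrank F (QK F) (Fin m ⊕ Fin m → F)
    rw [QuadraticAlgebra.finrank_eq_two, Module.finrank_fintype_fun_eq_card, Fintype.card_sum, Fintype.card_fin] at h
    omega
  let b := Module.finBasisOfFinrankEq (QK F) (Fin m ⊕ Fin m → F) hdim
  -- the hermitian form
  let B := spB m F
  have hBX : ∀ u v, B (X *ᵥ u) (X *ᵥ v) = B u v := fun u v => by
    simp only [B, spB_apply]
    rw [← Matrix.vecMul_transpose, ← Matrix.dotProduct_mulVec, Matrix.mulVec_mulVec, Matrix.mulVec_mulVec,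
      SymplecticGroup.mem_iff'.1 x.2]
  have hXX : ∀ v, X *ᵥ (X *ᵥ v) = -(X *ᵥ v) - v := fun v => by
    have h := congrArg (fun M : Matrix (Fin m ⊕ Fin m) (Fin m ⊕ Fin m) F => M *ᵥ v) hX2
    simp only [Matrix.add_mulVec, Matrix.one_mulVec, Matrix.zero_mulVec, ← Matrix.mulVec_mulVec] at h
    linear_combination (norm := module) h
  have hBl : ∀ u v, B (X *ᵥ u) v = -B u v - B u (X *ᵥ v) := fun u v => by
    have h : v = X *ᵥ (-(X *ᵥ v) - v) := by
      rw [Matrix.mulVec_sub, Matrix.mulVec_neg, hXX]; module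
    conv_lhs => rw [h, hBX, map_sub, map_neg]
    ring
  have hskew : ∀ u v, B u v = -B v u := fun u v => (LinearMap.IsAlt.neg spB_alt v u).symm
  let H : (Fin m ⊕ Fin m → F) → (Fin m ⊕ Fin m → F) → (QK F) := fun u v => ⟨B u v + B u (X *ᵥ v), B u v⟩
  have hconj : ∀ k : (QK F), qb (F := QK F) q k = (⟨k.re - k.im, -k.im⟩ : (QK F)) := by
    have hω : (qb (F := QK F) q) QuadraticAlgebra.omega = (⟨-1, -1⟩ : (QK F)) := by
      set w : (QK F) := QuadraticAlgebra.omega with hw
      set y := qb (F := QK F) q w with hy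
      have hqF : ∀ a : F, qb (F := QK F) q (algebraMap F (QK F) a) = algebraMap F (QK F) a := fun a => by
        rw [AutPSU.qb_apply, ← map_pow]
        congr 1
        subst hF
        exact FiniteField.pow_card a
      have hw2 : w * w + w + 1 = 0 := by
        rw [← map_one (algebraMap F (QK F))]
        ext <;> simp [w, -map_one]
      have hy2 : y * y + y + 1 = 0 := by
        have h := congrArg (qb (F := QK F) q) hw2
        simpa using h
      have hne : y ≠ w := by
        intro e
        obtain ⟨a, ha⟩ := AutPSU.qb_ne (F := QK F) (q := q)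
        refine ha ?_
        have ea : a = algebraMap F (QK F) a.re + algebraMap F (QK F) a.im * w := by
          ext <;> simp [w, -map_one]
        rw [ea, map_add, map_mul, hqF, hqF, ← hy, e]
      have h0 : (y - w) * (y + w + 1) = 0 := by linear_combination hy2 - hw2
      have h1 := (mul_eq_zero.1 h0).resolve_left (sub_ne_zero.2 hne)
      rw [show y = -1 - w by linear_combination h1, ← map_one (algebraMap F (QK F))]
      ext <;> simp [w, -map_one]
    intro k
    have ek : k = algebraMap F (QK F) k.re + algebraMap F (QK F) k.im * QuadraticAlgebra.omega := by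
      ext <;> simp
    conv_lhs => rw [ek]
    have hfix : ∀ a : F, qb (F := QK F) q (algebraMap F (QK F) a) = algebraMap F (QK F) a := fun a => by
      rw [AutPSU.qb_apply, ← map_pow]
      congr 1
      subst hF
      exact FiniteField.pow_card a
    rw [map_add, map_mul, hfix, hfix, hω]
    ext <;> simp [sub_eq_add_neg]
  have hH_add : ∀ u v w, H u (v + w) = H u v + H u w := fun u v w => by
    ext <;> simp [H, Matrix.mulVec_add, map_add] <;> ring
  have hH_smul : ∀ (k : (QK F)) u v, H u (k • v) = k * H u v := fun k u v => by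
    ext <;> simp [H, hsmul, Matrix.mulVec_add, Matrix.mulVec_smul, hXX, map_add, map_sub, map_neg] <;> ring
  have hH_herm : ∀ u v, qb (F := QK F) q (H v u) = H u v := fun u v => by
    rw [hconj]
    ext <;> simp [H, hskew v u, hskew v (X *ᵥ u), hBl] <;> ring
  have hH_add' : ∀ u v w, H (u + v) w = H u w + H v w := fun u v w => by
    rw [← hH_herm (u + v) w, hH_add, map_add, hH_herm, hH_herm]
  have hH_smul' : ∀ (k : (QK F)) u v, H (k • u) v = qb (F := QK F) q k * H u v := fun k u v => by
    rw [← hH_herm (k • u) v, hH_smul, map_mul, hH_herm]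
  let G : Matrix (Fin m) (Fin m) (QK F) := fun i j => H (b i) (b j)
  have hform : ∀ u v, H u v = ∑ i, ∑ j, qb (F := QK F) q (b.repr u i) * G i j * b.repr v j := by
    intro u v
    let Hl : (Fin m ⊕ Fin m → F) →+ (QK F) := AddMonoidHom.mk' (fun w => H w v) fun a c => hH_add' a c v
    let Hr : Fin m → (Fin m ⊕ Fin m → F) →+ (QK F) := fun i => AddMonoidHom.mk' (fun w => H (b i) w) fun a c => hH_add (b i) a c
    conv_lhs => rw [← b.sum_repr u]
    show Hl (∑ i, b.repr u i • b i) = _
    rw [map_sum]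
    refine Finset.sum_congr rfl fun i _ => ?_
    show H (b.repr u i • b i) v = _
    rw [hH_smul']
    conv_lhs => rw [← b.sum_repr v, show H (b i) (∑ j, b.repr v j • b j) = Hr i (∑ j, b.repr v j • b j) from rfl, map_sum,
      Finset.mul_sum]
    refine Finset.sum_congr rfl fun j _ => ?_
    show _ * H (b i) (b.repr v j • b j) = _
    rw [hH_smul]
    show _ * (_ * G i j) = _
    ring
  have hG : st q G = G := Matrix.ext fun i j => hH_herm (b i) (b j)
  have hGu : IsUnit G := by
    rw [← Matrix.mulVec_injective_iff_isUnit]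
    intro u v huv
    let z := b.equivFun.symm u - b.equivFun.symm v
    have hz : ∀ w, H w z = 0 := fun w => by
      rw [hform]
      refine Finset.sum_eq_zero fun i _ => ?_
      have h1 : (G *ᵥ fun j => b.repr z j) i = 0 := by
        rw [show (fun j => b.repr z j) = u - v from funext fun j => by
          simp only [z, map_sub, ← Module.Basis.equivFun_apply, LinearEquiv.apply_symm_apply, Finsupp.sub_apply]; simp, Matrix.mulVec_sub, huv, sub_self]
        rfl
      simp only [Matrix.mulVec, dotProduct] at h1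
      simp only [mul_assoc, ← Finset.mul_sum, h1, mul_zero]
    have h0 : z = 0 := spB_nondeg.2 z fun w => congrArg QuadraticAlgebra.im (hz w)
    exact b.equivFun.symm.injective (sub_eq_zero.1 h0)
  rw [← card_GU_int hcardK m, ← card_isometry (K := QK F) (q := q) (Fintype.card_fin m) G hG hGu]
  norm_cast
  -- the correspondence
  have hcomm : ∀ g : Subgroup.centralizer ({x} : Set ↥(Matrix.symplecticGroup (Fin m) F)),
      (g.1 : Matrix (Fin m ⊕ Fin m) (Fin m ⊕ Fin m) F) * X = X * (g.1 : Matrix (Fin m ⊕ Fin m) (Fin m ⊕ Fin m) F) :=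
    fun g => congrArg Subtype.val (Subgroup.mem_centralizer_singleton_iff.1 g.2)
  let L : Subgroup.centralizer ({x} : Set ↥(Matrix.symplecticGroup (Fin m) F)) →
      ((Fin m ⊕ Fin m → F) →ₗ[(QK F)] (Fin m ⊕ Fin m → F)) := fun g =>
    { toFun := fun v => (g.1 : Matrix (Fin m ⊕ Fin m) (Fin m ⊕ Fin m) F) *ᵥ v
      map_add' := fun u v => Matrix.mulVec_add _ u v
      map_smul' := fun k v => by
        rw [RingHom.id_apply, hsmul, hsmul, Matrix.mulVec_add, Matrix.mulVec_smul, Matrix.mulVec_smul,
          Matrix.mulVec_mulVec, hcomm, ← Matrix.mulVec_mulVec] }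
  have hiff : ∀ f : (Fin m ⊕ Fin m → F) →ₗ[(QK F)] (Fin m ⊕ Fin m → F),
      (st q (LinearMap.toMatrix b b f) * G * LinearMap.toMatrix b b f = G ↔ ∀ u v, B (f u) (f v) = B u v) := by
    intro f
    have hfX : ∀ v, f (X *ᵥ v) = X *ᵥ f v := fun v => by
      have h := f.map_smul QuadraticAlgebra.omega v
      simpa [hsmul] using h
    have hmat : ∀ i j, (st q (LinearMap.toMatrix b b f) * G * LinearMap.toMatrix b b f) i j = H (f (b i)) (f (b j)) := by
      intro i j
      rw [hform, Matrix.mul_apply, Finset.sum_comm]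
      refine Finset.sum_congr rfl fun l _ => ?_
      rw [Matrix.mul_apply, Finset.sum_mul]
      refine Finset.sum_congr rfl fun k _ => ?_
      rw [st_apply, LinearMap.toMatrix_apply, LinearMap.toMatrix_apply]
    constructor
    · intro h u v
      have e : H (f u) (f v) = H u v := by
        let Hl : (Fin m ⊕ Fin m → F) →+ (QK F) := AddMonoidHom.mk' (fun w => H (f w) (f v)) fun a c => by rw [map_add, hH_add']
        let Hl' : (Fin m ⊕ Fin m → F) →+ (QK F) := AddMonoidHom.mk' (fun w => H w v) fun a c => hH_add' a c v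
        show Hl u = Hl' u
        rw [← b.sum_repr u, map_sum, map_sum]
        refine Finset.sum_congr rfl fun i _ => ?_
        show H (f (b.repr u i • b i)) (f v) = H (b.repr u i • b i) v
        rw [f.map_smul, hH_smul', hH_smul']
        congr 1
        let Hr : (Fin m ⊕ Fin m → F) →+ (QK F) := AddMonoidHom.mk' (fun w => H (f (b i)) (f w)) fun a c => by rw [map_add, hH_add]
        let Hr' : (Fin m ⊕ Fin m → F) →+ (QK F) := AddMonoidHom.mk' (fun w => H (b i) w) fun a c => hH_add _ a c
        show Hr v = Hr' v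
        rw [← b.sum_repr v, map_sum, map_sum]
        refine Finset.sum_congr rfl fun j _ => ?_
        show H (f (b i)) (f (b.repr v j • b j)) = H (b i) (b.repr v j • b j)
        rw [f.map_smul, hH_smul, hH_smul, ← hmat, h]
      exact congrArg QuadraticAlgebra.im e
    · intro h
      ext1 i j
      rw [hmat]
      show H (f (b i)) (f (b j)) = H (b i) (b j)
      ext
      · simp only [H, ← hfX, h]
      · exact h _ _
  refine Nat.card_eq_of_bijective (fun g => (⟨LinearMap.toMatrix b b (L g), (hiff _).2 fun u v => by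
    show B ((g.1 : Matrix (Fin m ⊕ Fin m) (Fin m ⊕ Fin m) F) *ᵥ u) ((g.1 : Matrix (Fin m ⊕ Fin m) (Fin m ⊕ Fin m) F) *ᵥ v) = B u v
    simp only [B, spB_apply]
    rw [← Matrix.vecMul_transpose, ← Matrix.dotProduct_mulVec, Matrix.mulVec_mulVec, Matrix.mulVec_mulVec,
      SymplecticGroup.mem_iff'.1 g.1.2]⟩ :
    {y : Matrix (Fin m) (Fin m) (QK F) // st q y * G * y = G})) ⟨?_, ?_⟩
  · intro g g' h
    have h1 := (LinearMap.toMatrix b b).injective (congrArg Subtype.val h)
    refine Subtype.ext (Subtype.ext (Matrix.toLin'.injective (LinearMap.ext fun v => ?_)))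
    rw [Matrix.toLin'_apply, Matrix.toLin'_apply]
    exact LinearMap.congr_fun h1 v
  · rintro ⟨y, hy⟩
    obtain ⟨f, rfl⟩ : ∃ f, LinearMap.toMatrix b b f = y := ⟨Matrix.toLin b b y, LinearMap.toMatrix_toLin b b y⟩
    set g : Matrix (Fin m ⊕ Fin m) (Fin m ⊕ Fin m) F := LinearMap.toMatrix' (f.restrictScalars F)
    have hgv : ∀ v, g *ᵥ v = f v := fun v => LinearMap.toMatrix'_mulVec _ _
    have hpres := (hiff f).1 hy
    have hmem : g ∈ Matrix.symplecticGroup (Fin m) F := by
      rw [SymplecticGroup.mem_iff']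
      refine Matrix.toBilin'.injective (LinearMap.ext₂ fun u v => ?_)
      rw [Matrix.toBilin'_apply', Matrix.toBilin'_apply', ← Matrix.mulVec_mulVec, ← Matrix.mulVec_mulVec,
        Matrix.dotProduct_mulVec u gᵀ, Matrix.vecMul_transpose, hgv, hgv]
      have := hpres u v
      simpa only [B, spB_apply] using this
    refine ⟨⟨⟨g, hmem⟩, Subgroup.mem_centralizer_singleton_iff.2 (Subtype.ext (Matrix.toLin'.injective (LinearMap.ext fun v => ?_)))⟩,
      Subtype.ext (congrArg (LinearMap.toMatrix b b) (LinearMap.ext fun v => hgv v))⟩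
    show Matrix.toLin' (g * X) v = Matrix.toLin' (X * g) v
    rw [Matrix.toLin'_apply, Matrix.toLin'_apply, ← Matrix.mulVec_mulVec, ← Matrix.mulVec_mulVec, hgv, hgv]
    have h := f.map_smul QuadraticAlgebra.omega v
    simpa [hsmul] using h

end Cfsg.Agent.S2637
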