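import Cfsg.Statements.S2638
import Mathlib

set_option autoImplicit false
open Cfsg
open scoped Matrix

namespace Cfsg.Agent.S2638

open Polynomial in
/-- An element of order r generates a field of degree n. -/
theorem minpoly_irreducible {F : Type*} [Field F] [Fintype F] {p q : ℕ} [Fact p.Prime] [CharP F p]
    (hF : Fintype.card F = q) {n r : ℕ} (hn : 1 ≤ n) (hr : r.Prime) (hrp : r ≠ p)
    (hi : orderOf (q : ZMod r) = n) (M : Matrix (Fin n) (Fin n) F) (hM : M ^ r = 1) (h1 : M ≠ 1) :
    Irreducible (minpoly F M) ∧ (minpoly F M).natDegree = n := by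
  classical
  have hint : IsIntegral F M := IsIntegral.of_finite F M
  have hm : minpoly F M ∣ (X - C 1) * cyclotomic r F := by
    haveI := Fact.mk hr
    rw [map_one, mul_comm, cyclotomic_prime_mul_X_sub_one]
    refine minpoly.dvd F M ?_
    simp [hM]
  obtain ⟨P, hP, hPm, hPc⟩ : ∃ P : F[X], Irreducible P ∧ P ∣ minpoly F M ∧ P ∣ cyclotomic r F := by
    by_contra hno
    have hcop : IsCoprime (minpoly F M) (cyclotomic r F) := by
      refine isCoprime_of_dvd _ _ (fun h => minpoly.ne_zero hint h.1) fun z hz hz0 hd hd' => ?_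
      obtain ⟨P, hP, hPz⟩ := WfDvdMonoid.exists_irreducible_factor hz hz0
      exact hno ⟨P, hP, hPz.trans hd, hPz.trans hd'⟩
    have h := hcop.dvd_of_dvd_mul_right hm
    obtain ⟨c, hc⟩ := h
    apply h1
    have := congrArg (aeval M) hc
    rw [map_mul, minpoly.aeval, zero_mul, map_sub, aeval_X, aeval_C, map_one] at this
    exact sub_eq_zero.1 this
  obtain ⟨f, hf⟩ : ∃ f : ℕ, Fintype.card F = p ^ f := by
    obtain ⟨f, -, hf⟩ := FiniteField.card F p
    exact ⟨f, hf⟩
  have hco : p.Coprime r := (Nat.coprime_primes Fact.out hr).2 (Ne.symm hrp)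
  have hdeg := natDegree_of_dvd_cyclotomic_of_irreducible (K := F) (f := f)
    hf hco hPc hP
  rw [← orderOf_units, ZMod.coe_unitOfCoprime, ← hf, hF, hi] at hdeg
  have hle : (minpoly F M).natDegree ≤ n := by
    have := natDegree_le_of_dvd (Matrix.minpoly_dvd_charpoly M) (M.charpoly_monic.ne_zero)
    rwa [Matrix.charpoly_natDegree_eq_dim, Fintype.card_fin] at this
  have hge := natDegree_le_of_dvd hPm (minpoly.ne_zero hint)
  have hassoc : Associated P (minpoly F M) :=
    associated_of_dvd_of_natDegree_le hPm (minpoly.ne_zero hint) (by omega)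
  exact ⟨hassoc.irreducible hP, by omega⟩

/-- If an element x of GL_n(q), n ≥ 1, has prime order r and the multiplicative order of q modulo r is n (r is a primitive prime divisor of q^n − 1, so x acts irreducibly), then the centraliser of x in GL_n(q) is cyclic of order q^n − 1 (the multiplicative group of the field with q^n elements, a Singer cycle). -/
theorem result {F : Type*} [Field F] [Fintype F] {p q : ℕ} [Fact p.Prime] [CharP F p] (hF : Fintype.card F = q) {n r : ℕ} (hn : 1 ≤ n) (hr : r.Prime) (hrp : r ≠ p) (hi : orderOf (q : ZMod r) = n) (x : GL (Fin n) F) (hx : orderOf x = r) : IsCyclic ↥(Subgroup.centralizer ({x} : Set (GL (Fin n) F))) ∧ Nat.card ↥(Subgroup.centralizer ({x} : Set (GL (Fin n) F))) = q ^ n - 1 := by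
  classical
  have hx1 : x ≠ 1 := fun h => by rw [h, orderOf_one] at hx; exact hr.one_lt.ne hx
  have hxr : x.1 ^ r = 1 := by rw [← Units.val_pow_eq_pow_val, ← hx, pow_orderOf_eq_one]; rfl
  obtain ⟨hirr, hdeg⟩ := minpoly_irreducible hF hn hr hrp hi x.1 hxr
    (fun h => hx1 (Units.ext h))
  have := Fact.mk hirr
  let K := AdjoinRoot (minpoly F x.1)
  have hint : IsIntegral F x.1 := IsIntegral.of_finite F x.1
  let pb := AdjoinRoot.powerBasis (minpoly.ne_zero hint)
  have : Module.Finite F K := Module.Finite.of_basis pb.basis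
  have : Finite K := Module.finite_of_finite F
  let ψ : K →ₐ[F] Matrix (Fin n) (Fin n) F :=
    Ideal.Quotient.liftₐ (Ideal.span {minpoly F x.1}) (Polynomial.aeval x.1) fun a ha => by
      obtain ⟨c, rfl⟩ := Ideal.mem_span_singleton.1 ha
      rw [map_mul, minpoly.aeval, zero_mul]
  have : Nonempty (Fin n) := ⟨⟨0, hn⟩⟩
  have hψ : Function.Injective ψ := ψ.toRingHom.injective
  have hmk : ∀ P, ψ (AdjoinRoot.mk (minpoly F x.1) P) = Polynomial.aeval x.1 P := fun P => rfl
  have hroot : ψ (AdjoinRoot.root _) = x.1 := (hmk Polynomial.X).trans (Polynomial.aeval_X _)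
  have hfr : Module.finrank F K = n := by
    rw [pb.finrank, AdjoinRoot.powerBasis_dim, hdeg]
  let v : Fin n → F := Pi.single ⟨0, hn⟩ 1
  let L : K →ₗ[F] (Fin n → F) :=
    { toFun := fun k => ψ k *ᵥ v
      map_add' := fun a b => by rw [map_add, Matrix.add_mulVec]
      map_smul' := fun c a => by rw [map_smul, Matrix.smul_mulVec, RingHom.id_apply] }
  have hL : Function.Injective L := by
    rw [injective_iff_map_eq_zero]
    intro k hk
    by_contra hne
    have h : ψ k⁻¹ *ᵥ (ψ k *ᵥ v) = 0 := by
      rw [show ψ k *ᵥ v = 0 from hk, Matrix.mulVec_zero]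
    rw [Matrix.mulVec_mulVec, ← map_mul, inv_mul_cancel₀ hne, map_one, Matrix.one_mulVec] at h
    have := congrFun h ⟨0, hn⟩
    simp [v] at this
  have hsur : Function.Surjective L :=
    (LinearMap.injective_iff_surjective_of_finrank_eq_finrank
      (by rw [hfr, Module.finrank_fin_fun])).1 hL
  let φ : Kˣ →* GL (Fin n) F := Units.map ψ.toRingHom.toMonoidHom
  have hφ : Function.Injective φ := fun a b h => Units.ext (hψ (congrArg Units.val h))
  have hrange : φ.range = Subgroup.centralizer ({x} : Set (GL (Fin n) F)) := by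
    ext g
    rw [Subgroup.mem_centralizer_singleton_iff]
    constructor
    · rintro ⟨a, rfl⟩
      apply Units.ext
      show ψ (a : K) * x.1 = x.1 * ψ (a : K)
      calc ψ (a : K) * x.1 = ψ ((a : K) * AdjoinRoot.root _) := by rw [map_mul, hroot]
        _ = ψ (AdjoinRoot.root _ * (a : K)) := by rw [mul_comm]
        _ = x.1 * ψ (a : K) := by rw [map_mul, hroot]
    · intro hg
      have hgx : g.1 * x.1 = x.1 * g.1 := congrArg Units.val hg
      have hcomm : ∀ k : K, g.1 * ψ k = ψ k * g.1 := by
        intro k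
        induction k using AdjoinRoot.induction_on with
        | ih P =>
          rw [hmk]
          show Commute g.1 (Polynomial.aeval x.1 P)
          induction P using Polynomial.induction_on' with
          | add a b ha hb => rw [map_add]; exact ha.add_right hb
          | monomial j a =>
            rw [Polynomial.aeval_monomial]
            exact (Algebra.commute_algebraMap_right a g.1).mul_right
              ((show Commute g.1 x.1 from hgx).pow_right j)
      obtain ⟨k, hk⟩ := hsur (g.1 *ᵥ v)
      have hgk : g.1 = ψ k := by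
        refine Matrix.ext_iff_mulVec.2 fun w => ?_
        obtain ⟨l, rfl⟩ := hsur w
        show g.1 *ᵥ (ψ l *ᵥ v) = ψ k *ᵥ (ψ l *ᵥ v)
        rw [Matrix.mulVec_mulVec, hcomm, ← Matrix.mulVec_mulVec, ← show ψ k *ᵥ v = g.1 *ᵥ v from hk,
          Matrix.mulVec_mulVec, Matrix.mulVec_mulVec, ← map_mul, ← map_mul, mul_comm]
      have hk0 : k ≠ 0 := fun h => by
        have h2 := g.isUnit
        rw [hgk, h, map_zero] at h2
        have : Nonempty (Fin n) := ⟨⟨0, hn⟩⟩
        exact not_isUnit_zero h2
      exact ⟨Units.mk0 k hk0, Units.ext hgk.symm⟩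
  let e : Kˣ ≃* Subgroup.centralizer ({x} : Set (GL (Fin n) F)) :=
    (MonoidHom.ofInjective hφ).trans (MulEquiv.subgroupCongr hrange)
  refine ⟨isCyclic_of_surjective e.toMonoidHom e.surjective, ?_⟩
  rw [← Nat.card_congr e.toEquiv, Nat.card_units, Module.natCard_eq_pow_finrank (K := F), hfr,
    Nat.card_eq_fintype_card, hF]

end Cfsg.Agent.S2638
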