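import Cfsg.Statements.S2639
import Cfsg.Agent.Lib.Spinor.Restrict
-- import your own Cfsg.Agent.* helpers here

set_option autoImplicit false
open Cfsg

namespace Cfsg.Agent.S2639

/-- The unitary group embeds in the symplectic group of twice the dimension over the subfield: for a field K with q² elements and a field F with q elements (isomorphic to the subfield of K of order q), there is an injective homomorphism GU_m(q) → Sp_2m(F). -/
theorem result {K F : Type*} [Field K] [Fintype K] [Field F] [Fintype F] {q : ℕ} (hK : Fintype.card K = q ^ 2) (hF : Fintype.card F = q) (m : ℕ) : ∃ φ : ↥(Cfsg.GU m K q) →* ↥(Matrix.symplecticGroup (Fin m) F), Function.Injective φ := by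
  classical
  obtain ⟨i⟩ := Restrict.exists_ringHom hK hF
  letI := i.toAlgebra
  obtain ⟨δ, hδ0, hδ⟩ := Restrict.exists_trace_zero (K := K) (F := F) hK hF
  have hA : LinearMap.IsAlt (Restrict.hForm K F hF m δ) := fun v => by
    apply (algebraMap F K).injective
    rw [Restrict.hForm_apply, Restrict.trace_eq_of_fixed hK hF (Restrict.herm_self_fixed (F := F) hK hF m v), hδ,
      map_zero, mul_zero]
  obtain ⟨L, hL⟩ := Restrict.exists_spCoord hA (Restrict.hForm_nondeg hF m hδ0) (m := m)
    (by rw [Restrict.finrank_pi hK hF, Fintype.card_fin])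
  refine ⟨(((Restrict.Φ L).comp (Units.coeHom _)).comp (Cfsg.GU m K q).subtype).codRestrict
    (Matrix.symplecticGroup (Fin m) F) fun g => (FormsLib.mem_symplectic_iff _).2 fun u v => ?_, ?_⟩
  · obtain ⟨u, rfl⟩ := L.surjective u
    obtain ⟨v, rfl⟩ := L.surjective v
    simp only [MonoidHom.comp_apply, Restrict.Φ_mulVec, LinearEquiv.symm_apply_apply, hL,
      Restrict.hForm_apply]
    exact congrArg (fun x => Algebra.trace F K (δ * x)) (g.2 u v)
  · intro g g' h
    exact Subtype.ext (Units.ext (Restrict.Φ_injective L (congrArg Subtype.val h)))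

end Cfsg.Agent.S2639
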