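import Cfsg.Statements.S2640
import Cfsg.Agent.Lib.Spinor.GUOrth
-- import your own Cfsg.Agent.* helpers here

set_option autoImplicit false
open Cfsg

namespace Cfsg.Agent.S2640

/-- For m even, the unitary group GU_m(q) (over the field with q² elements) embeds in the orthogonal group O⁺_2m(q) of the hyperbolic form Σ x_i y_i over the field with q elements (there is an injective homomorphism). -/
theorem result {K F : Type*} [Field K] [Fintype K] [Field F] [Fintype F] {q : ℕ} (hK : Fintype.card K = q ^ 2) (hF : Fintype.card F = q) (m : ℕ) (hm : Even m) : ∃ φ : ↥(Cfsg.GU m K q) →* ↥(Cfsg.isometryGroup F (Cfsg.quadFormPlus m F)), Function.Injective φ := by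
  classical
  obtain ⟨i⟩ := Restrict.exists_ringHom hK hF
  letI := i.toAlgebra
  rcases Nat.eq_zero_or_pos m with rfl | hm1
  · exact Restrict.gu_zero_embeds
  obtain ⟨Q, hQn, hQ⟩ := Restrict.exists_hermQuad (K := K) (F := F) hK hF m
  obtain ⟨a, b, hab⟩ := Spinor.exists_aniso F
  rcases Spinor.equiv_plus_or_minus hm1 (by rw [Restrict.finrank_pi hK hF, Fintype.card_fin]) Q hQn
    a b hab with ⟨L, hL⟩ | ⟨L, hL⟩
  · exact Restrict.gu_embeds hQ _ L hL
  · exfalso
    have h1 := Restrict.card_zero_herm hK hF hQ
    have h2 := FormCount.card_minus (F := F) (m - 1) a b hab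
    rw [← Restrict.card_congr_zero L hL, hF, show 2 * (m - 1) + 2 = 2 * m by omega,
      Nat.sub_add_cancel hm1] at h2
    rw [hm.neg_one_pow, one_mul, h2] at h1
    have hq : (2 : ℤ) ≤ q := by
      have := Fintype.one_lt_card (α := F)
      rw [hF] at this
      omega
    have hpos : 0 < (q : ℤ) ^ m * ((q : ℤ) - 1) := mul_pos (pow_pos (by omega) m) (by omega)
    omega

end Cfsg.Agent.S2640
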