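import Cfsg.Statements.S2641
import Cfsg.Agent.Lib.Spinor.GUOrth
-- import your own Cfsg.Agent.* helpers here

set_option autoImplicit false
open Cfsg

namespace Cfsg.Agent.S2641

/-- For m odd, the unitary group GU_m(q) (over the field with q² elements) embeds in the orthogonal group O⁻_2m(q) of an elliptic form (Σ_(i<m−1) x_i y_i plus an anisotropic binary form) over the field with q elements (there is an injective homomorphism). -/
theorem result {K F : Type*} [Field K] [Fintype K] [Field F] [Fintype F] {q : ℕ} (hK : Fintype.card K = q ^ 2) (hF : Fintype.card F = q) (m : ℕ) (hm : Odd m) (a b : F) (hab : ∀ z₁ z₂ : F, z₁ ^ 2 + a * z₁ * z₂ + b * z₂ ^ 2 = 0 → z₁ = 0 ∧ z₂ = 0) : ∃ φ : ↥(Cfsg.GU m K q) →* ↥(Cfsg.isometryGroup F (Cfsg.quadFormMinus (m - 1) F a b)), Function.Injective φ := by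
  classical
  obtain ⟨i⟩ := Restrict.exists_ringHom hK hF
  letI := i.toAlgebra
  have hm1 : 1 ≤ m := hm.pos
  obtain ⟨Q, hQn, hQ⟩ := Restrict.exists_hermQuad (K := K) (F := F) hK hF m
  rcases Spinor.equiv_plus_or_minus hm1 (by rw [Restrict.finrank_pi hK hF, Fintype.card_fin]) Q hQn
    a b hab with ⟨L, hL⟩ | ⟨L, hL⟩
  · exfalso
    have h1 := Restrict.card_zero_herm hK hF hQ
    have h2 := FormCount.card_plus (F := F) m 0
    rw [if_pos rfl, mul_one, ← Restrict.card_congr_zero L hL, hF] at h2
    rw [hm.neg_one_pow, h2] at h1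
    have hq : (2 : ℤ) ≤ q := by
      have := Fintype.one_lt_card (α := F)
      rw [hF] at this
      omega
    have hpos : 0 < (q : ℤ) ^ m * ((q : ℤ) - 1) := mul_pos (pow_pos (by omega) m) (by omega)
    rw [neg_one_mul, neg_mul] at h1
    omega
  · exact Restrict.gu_embeds hQ _ L hL

end Cfsg.Agent.S2641
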