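import Cfsg.Statements.S2642
import Cfsg.Agent.S2570
import Cfsg.Agent.S2588
import Cfsg.Agent.Lib.FormCentral.Unitary

set_option autoImplicit false
open Cfsg

namespace Cfsg.Agent.S2642

open scoped Matrix
open Cfsg.Agent.JordanType

variable {F : Type*} [Field F] {n : ℕ}

theorem rank_jordan {t : ℕ} (d : Fin t → ℕ) (σ : Idx d ≃ Fin n) (A : Matrix (Fin n) (Fin n) F)
    (P : GL (Fin n) F) (h : A * (P : Matrix (Fin n) (Fin n) F) =
      P * Matrix.reindex σ σ (Cfsg.jordanTypeMatrix d F)) (j : ℕ) :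
    ((A - 1) ^ j).rank = ∑ k, (d k - j) := by
  classical
  have h1 : A - 1 = (P : Matrix (Fin n) (Fin n) F) * Matrix.reindexAlgEquiv F F σ (shift F d) * (P⁻¹ : GL (Fin n) F) := by
    rw [shift, map_sub, map_one, Matrix.coe_reindexAlgEquiv, mul_sub, ← h, mul_one, sub_mul,
      Units.mul_inv_cancel_right, Units.mul_inv]
  rw [h1, Units.conj_pow P,
    Matrix.rank_mul_eq_left_of_isUnit_det _ _ ((Matrix.isUnit_iff_isUnit_det _).1 (Units.isUnit _)),
    Matrix.rank_mul_eq_right_of_isUnit_det _ _ ((Matrix.isUnit_iff_isUnit_det _).1 (Units.isUnit _)),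
    ← map_pow, Matrix.coe_reindexAlgEquiv, Matrix.rank_reindex, rank_shift_pow]

/-- Unipotent matrices with the same rank sequence are similar. -/
theorem isConj_of_ranks (A B : Matrix (Fin n) (Fin n) F) (m : ℕ) (hA : (A - 1) ^ m = 0)
    (hB : (B - 1) ^ m = 0) (h : ∀ j, ((A - 1) ^ j).rank = ((B - 1) ^ j).rank) : IsConj A B := by
  classical
  obtain ⟨t, d, σ, P, -, hP⟩ := exists_normal_form A m hA
  obtain ⟨t', d', σ', P', -, hP'⟩ := exists_normal_form B m hB
  have hr : ∀ j, ((Finset.univ.val.map d).map (· - j)).sum = ((Finset.univ.val.map d').map (· - j)).sum := fun j => by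
    rw [Multiset.map_map, Multiset.map_map]
    exact (rank_jordan d σ A P hP j).symm.trans ((h j).trans (rank_jordan d' σ' B P' hP' j))
  obtain ⟨τ, hτ⟩ := S2570.exists_idx_equiv (F := F) d d' (fun i hi => by
    rw [← S2570.count_eq_card, ← S2570.count_eq_card]
    have h1 := S2570.count_identity (Finset.univ.val.map d) i hi
    have h2 := S2570.count_identity (Finset.univ.val.map d') i hi
    rw [hr, hr, hr] at h1
    omega)
  let π : Fin n ≃ Fin n := σ.symm.trans (τ.trans σ')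
  let Q : GL (Fin n) F := ⟨π.toPEquiv.toMatrix, π.symm.toPEquiv.toMatrix,
    by rw [← PEquiv.toMatrix_trans, ← Equiv.toPEquiv_trans]; simp,
    by rw [← PEquiv.toMatrix_trans, ← Equiv.toPEquiv_trans]; simp⟩
  have hQ : Matrix.reindex σ σ (Cfsg.jordanTypeMatrix d F) * (Q : Matrix (Fin n) (Fin n) F) =
      (Q : Matrix (Fin n) (Fin n) F) * Matrix.reindex σ' σ' (Cfsg.jordanTypeMatrix d' F) := by
    show _ * π.toPEquiv.toMatrix = π.toPEquiv.toMatrix * _
    rw [PEquiv.mul_toMatrix_toPEquiv, PEquiv.toMatrix_toPEquiv_mul]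
    ext x y
    obtain ⟨a, rfl⟩ := σ.surjective x
    obtain ⟨b, hb⟩ := π.surjective y
    obtain ⟨b, rfl⟩ := σ.surjective b
    subst hb
    have h := hτ a b
    simp only [shift, Matrix.sub_apply, Matrix.one_apply, τ.injective.eq_iff] at h
    simp [π, sub_left_inj.1 h]
  refine ⟨P' * Q⁻¹ * P⁻¹, ?_⟩
  show ((P' * Q⁻¹ * P⁻¹ : GL (Fin n) F) : Matrix (Fin n) (Fin n) F) * A =
    B * ((P' * Q⁻¹ * P⁻¹ : GL (Fin n) F) : Matrix (Fin n) (Fin n) F)
  simp only [Units.val_mul]
  have e1 : ((P⁻¹ : GL (Fin n) F) : Matrix (Fin n) (Fin n) F) * A =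
      Matrix.reindex σ σ (Cfsg.jordanTypeMatrix d F) * (P⁻¹ : GL (Fin n) F) := by
    rw [Units.inv_mul_eq_iff_eq_mul, ← mul_assoc, ← hP, mul_assoc, Units.mul_inv, mul_one]
  have e2 : ((Q⁻¹ : GL (Fin n) F) : Matrix (Fin n) (Fin n) F) * Matrix.reindex σ σ (Cfsg.jordanTypeMatrix d F) =
      Matrix.reindex σ' σ' (Cfsg.jordanTypeMatrix d' F) * (Q⁻¹ : GL (Fin n) F) := by
    rw [Units.inv_mul_eq_iff_eq_mul, ← mul_assoc, ← hQ, mul_assoc, Units.mul_inv, mul_one]
  rw [mul_assoc, e1, ← mul_assoc, mul_assoc (P' : Matrix (Fin n) (Fin n) F), e2, ← mul_assoc, ← hP',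
    mul_assoc B, mul_assoc B]

/-- Every unipotent element is similar to a unitary one. -/
theorem exists_unitary {K : Type*} [Field K] [Fintype K] {q : ℕ} (hK : Fintype.card K = q ^ 2)
    (g : GL (Fin n) K) (m : ℕ) (hg : ((g : Matrix (Fin n) (Fin n) K) - 1) ^ m = 0) :
    ∃ B : ↥(Cfsg.GU n K q), IsConj g (B : GL (Fin n) K) := by
  classical
  obtain ⟨t, d, e, P, hd, hP⟩ := exists_normal_form (g : Matrix (Fin n) (Fin n) K) m hg
  set J := Matrix.reindex e e (Cfsg.jordanTypeMatrix d K) with hJ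
  have hJP : ((P⁻¹ * g * P : GL (Fin n) K) : Matrix (Fin n) (Fin n) K) = J := by
    rw [Units.val_mul, Units.val_mul, mul_assoc, hP, Units.inv_mul_cancel_left]
  set A := P⁻¹ * g * P with hA
  have hconj : IsConj g A := isConj_iff.2 ⟨P⁻¹, by rw [hA, inv_inv]⟩
  suffices h : ∃ B : ↥(Cfsg.GU n K q), IsConj A (B : GL (Fin n) K) from
    h.imp fun B hB => hconj.trans hB
  rw [S2588.result hK, hJP]
  have hmap : J.map (fun x : K => x ^ q) = J := by
    ext a b
    have hq : q ≠ 0 := by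
      rintro rfl
      simp at hK
    have h : ∀ a b, (Cfsg.jordanTypeMatrix d K) a b ^ q = Cfsg.jordanTypeMatrix d K a b := by
      intro a b
      have hs := shift_apply (F := K) d a b
      rw [shift, Matrix.sub_apply, sub_eq_iff_eq_add] at hs
      rw [hs, Matrix.one_apply]
      by_cases hab : a = b
      · subst hab; simp
      · rw [if_neg hab, add_zero]
        split_ifs <;> simp [hq]
    simp [hJ, h]
  rw [hmap]
  have hu : IsUnit J.transpose.det := by
    rw [Matrix.det_transpose, ← hJP]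
    exact (Matrix.isUnit_iff_isUnit_det _).1 (Units.isUnit _)
  have hBu : IsUnit (-(J.transpose)⁻¹).det := by
    rw [← Matrix.isUnit_iff_isUnit_det, IsUnit.neg_iff, Matrix.isUnit_nonsing_inv_iff,
      Matrix.isUnit_iff_isUnit_det]
    exact hu
  have hB : ∀ j, ((J.transpose)⁻¹ - 1) ^ j = (-(J.transpose)⁻¹) ^ j * ((J - 1) ^ j).transpose := by
    intro j
    rw [Matrix.transpose_pow, Matrix.transpose_sub, Matrix.transpose_one, ← Commute.mul_pow]
    · congr 1
      rw [mul_sub, mul_one, neg_mul, Matrix.nonsing_inv_mul _ hu]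
      abel
    · refine Commute.sub_right (Commute.neg_left ?_) (Commute.one_right _)
      exact (Matrix.nonsing_inv_mul _ hu).trans (Matrix.mul_nonsing_inv _ hu).symm
  have hJm : (J - 1) ^ m = 0 := by
    rw [← hJP, show ((P⁻¹ * g * P : GL (Fin n) K) : Matrix (Fin n) (Fin n) K) - 1 =
      ((P⁻¹ : GL (Fin n) K) : Matrix (Fin n) (Fin n) K) * ((g : Matrix (Fin n) (Fin n) K) - 1) * P by
        rw [mul_sub, mul_one, sub_mul, Units.inv_mul]; simp only [Units.val_mul],
      Units.conj_pow' P, hg, mul_zero, zero_mul]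
  refine isConj_of_ranks _ _ m hJm (by rw [hB, hJm, Matrix.transpose_zero, mul_zero]) fun j => ?_
  rw [hB, Matrix.rank_mul_eq_right_of_isUnit_det _ _ (by rw [Matrix.det_pow]; exact hBu.pow j),
    Matrix.rank_transpose]

/-- Number of conjugacy classes of elements of order p in the general unitary group GU_n(q), q a power of p: every unipotent Jordan type occurs and the classes correspond to the partitions of n with all parts at most p other than the all-ones partition, exactly as in GL_n; so there are (number of partitions of n with parts ≤ p) − 1 classes. -/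
theorem result {K : Type*} [Field K] [Fintype K] {p q n : ℕ} [Fact p.Prime] [CharP K p] (hK : Fintype.card K = q ^ 2) : Nat.card {C : ConjClasses ↥(Cfsg.GU n K q) // ∃ g : ↥(Cfsg.GU n K q), ConjClasses.mk g = C ∧ orderOf g = p} = (Finset.univ.filter (fun μ : Nat.Partition n => ∀ a ∈ μ.parts, a ≤ p)).card - 1 := by
  classical
  rw [← S2570.result (F := K) (p := p) n]
  refine Nat.card_eq_of_bijective (fun C => (⟨ConjClasses.map (Cfsg.GU n K q).subtype C.1, by
    obtain ⟨g, hg, ho⟩ := C.2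
    exact ⟨g, by rw [← hg]; rfl, (Subgroup.orderOf_coe g).trans ho⟩⟩ :
    {C : ConjClasses (GL (Fin n) K) // ∃ g : GL (Fin n) K, ConjClasses.mk g = C ∧ orderOf g = p})) ⟨?_, ?_⟩
  · intro x y he
    have he' : ConjClasses.map (Cfsg.GU n K q).subtype x.1 = ConjClasses.map (Cfsg.GU n K q).subtype y.1 :=
      congrArg Subtype.val he
    clear he
    obtain ⟨g, hg, -⟩ := x.2
    obtain ⟨h, hh, -⟩ := y.2
    rw [← hg, ← hh] at he'
    refine Subtype.ext ?_
    rw [← hg, ← hh]
    have hc : IsConj (g : GL (Fin n) K) h :=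
      ConjClasses.mk_eq_mk_iff_isConj.1 he'
    obtain ⟨P, hP⟩ := isConj_iff.1 hc
    obtain ⟨k, hk, hkg⟩ := FormCentral.gu_intertwine hK g.2 h.2 (mul_inv_eq_iff_eq_mul.1 hP)
    exact (ConjClasses.mk_eq_mk_iff_isConj.2
      (isConj_iff.2 ⟨⟨k, hk⟩, Subtype.ext (mul_inv_eq_iff_eq_mul.2 hkg)⟩))
  · rintro ⟨C, g, rfl, hg⟩
    obtain ⟨B, hB⟩ := exists_unitary hK g p (by
      rw [S2570.sub_one_pow_eq, ← Units.val_pow_eq_pow_val, ← hg, pow_orderOf_eq_one, Units.val_one, sub_self])
    have ho : orderOf B = p := by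
      rw [← Subgroup.orderOf_coe B, ← hg]
      obtain ⟨c, hc⟩ := hB
      exact (SemiconjBy.orderOf_eq _ hc).symm
    exact ⟨⟨ConjClasses.mk B, B, rfl, ho⟩, Subtype.ext (ConjClasses.mk_eq_mk_iff_isConj.2 hB.symm)⟩

end Cfsg.Agent.S2642
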