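import Cfsg.Statements.S2643
import Cfsg.Agent.Lib.FormCentral.SUConj
import Cfsg.Agent.Lib.FormTorus.UnitaryOrders
import Cfsg.Agent.Lib.Transvection.Regular
import Cfsg.Agent.S2578
-- import your own Cfsg.Agent.* helpers here

set_option autoImplicit false
open Cfsg

namespace Cfsg.Agent.S2643

open Matrix FormsLib

variable {F : Type*} [Field F]

/-- Elements commuting with a regular nilpotent map are scalar modulo its range. -/
theorem exists_commute_scalar {V : Type*} [AddCommGroup V] [Module F V] [FiniteDimensional F V]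
    {N : Module.End F V} {n : ℕ} (hV : Module.finrank F V = n) (hn : 1 ≤ n) (hnil : N ^ n = 0) {v : V}
    (hv : (N ^ (n - 1)) v ≠ 0) {g : Module.End F V} (hg : Commute g N) :
    ∃ a : F, (∀ x, g x - a • x ∈ LinearMap.range N) ∧ LinearMap.det g = a ^ n := by
  classical
  obtain ⟨Φ, hΦ⟩ := TransvGL.exists_cyclic hV hnil hv
  obtain ⟨c, hc⟩ := Φ.surjective (g v)
  rw [hΦ] at hc
  set a := c ⟨0, hn⟩ with ha
  have hmem : ∀ x, g x - a • x ∈ LinearMap.range N := by
    intro x
    obtain ⟨d, rfl⟩ := Φ.surjective x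
    rw [hΦ, map_sum, Finset.smul_sum, ← Finset.sum_sub_distrib]
    refine Submodule.sum_mem _ fun i _ => ?_
    rw [map_smul, TransvGL.apply_pow_comm hg, smul_comm a, ← smul_sub, ← map_smul (N ^ (i : ℕ)), ← map_sub]
    refine Submodule.smul_mem _ _ ?_
    have h1 : g v - a • v ∈ LinearMap.range N := by
      rw [← hc, ← Finset.add_sum_erase _ _ (Finset.mem_univ (⟨0, hn⟩ : Fin n)), pow_zero, Module.End.one_apply, ← ha,
        add_sub_cancel_left]
      refine Submodule.sum_mem _ fun k hk => Submodule.smul_mem _ _ ?_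
      have : (k : ℕ) ≠ 0 := fun h => (Finset.mem_erase.1 hk).1 (Fin.ext h)
      rw [show (k : ℕ) = ((k : ℕ) - 1) + 1 by omega, pow_succ', Module.End.mul_apply]
      exact ⟨_, rfl⟩
    obtain ⟨w, hw⟩ := h1
    refine ⟨(N ^ (i : ℕ)) w, ?_⟩
    rw [← hw, ← Module.End.mul_apply, ← Module.End.mul_apply, ← pow_succ', ← pow_succ]
  refine ⟨a, hmem, ?_⟩
  set M : Module.End F V := algebraMap F _ a - g with hM
  have hMN : Commute M N := (Algebra.commute_algebraMap_left a N).sub_left hg
  have hMk : ∀ k x, (M ^ k) x ∈ LinearMap.range (N ^ k) := by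
    intro k
    induction k with
    | zero => intro x; exact ⟨x, rfl⟩
    | succ k ih =>
      intro x
      obtain ⟨y, hy⟩ := ih x
      obtain ⟨z, hz⟩ := hmem y
      refine ⟨-z, ?_⟩
      rw [pow_succ' M, Module.End.mul_apply, ← hy, TransvGL.apply_pow_comm hMN, pow_succ, Module.End.mul_apply,
        map_neg, hz, hM, LinearMap.sub_apply, Module.algebraMap_end_apply, neg_sub]
  have hMnil : IsNilpotent M := ⟨n, LinearMap.ext fun x => by
    obtain ⟨y, hy⟩ := hMk n x
    rw [← hy, hnil]; rfl⟩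
  let b := Module.finBasisOfFinrankEq F V hV
  have h2 : LinearMap.toMatrix b b g = Matrix.scalar (Fin n) a - LinearMap.toMatrix b b M := by
    rw [hM, map_sub, Algebra.algebraMap_eq_smul_one, map_smul, LinearMap.toMatrix_one, Matrix.scalar_apply,
      Matrix.smul_one_eq_diagonal, sub_sub_cancel]
  rw [← LinearMap.det_toMatrix b, h2, ← Matrix.eval_charpoly, LinearMap.charpoly_toMatrix,
    hMnil.charpoly_eq_X_pow_finrank, Polynomial.eval_pow, Polynomial.eval_X, hV]

variable [Fintype F] {q : ℕ}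

/-- A regular unipotent element of `SU`. -/
theorem exists_regular (hF : Fintype.card F = q ^ 2) {n : ℕ} (hn : 2 ≤ n) :
    ∃ u : ↥(Cfsg.SU n F q), ∃ P : GL (Fin n) F,
      (P : Matrix (Fin n) (Fin n) F) * S2578.shift F n =
        (((u : GL (Fin n) F) : Matrix (Fin n) (Fin n) F) - 1) * P := by
  classical
  haveI := AutPSU.QField.of_card hF
  obtain ⟨p, hchar⟩ := CharP.exists F
  obtain ⟨-, hp, -⟩ := FiniteField.card F p
  haveI := Fact.mk hp
  haveI := (FormTorus.finrank_UR (F := F) n).1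
  obtain ⟨B, g, hB, hg, hgv⟩ := FormTorus.exists_unipotent_model (F := F) (m := n) (by omega)
    (FormTorus.sigma_sigma (F := F) (q := q)) (show (1 : F) * _ = 1 by simp)
    (FormTorus.exists_sign (F := F) (q := q) (n - 1))
  set t := AdjoinRoot.root ((Polynomial.X - 1 : Polynomial F) ^ n) with ht
  obtain ⟨Φ, hΦ⟩ := FormTorus.exists_isometry_fin hB (n := n) (FormTorus.finrank_UR (F := F) n).2
  let L : (Fin n → F) →ₗ[F] (Fin n → F) := (Φ : _ →ₗ[F] _) ∘ₗ
    (g : FormTorus.UR F n →ₗ[F] FormTorus.UR F n) ∘ₗ (Φ.symm : _ →ₗ[F] FormTorus.UR F n)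
  have hL : ∀ v, LinearMap.toMatrix' L *ᵥ v = Φ (g (Φ.symm v)) := fun v => by
    rw [LinearMap.toMatrix'_mulVec]; rfl
  have hpw : ∀ (j : ℕ) v, (((g : FormTorus.UR F n →ₗ[F] FormTorus.UR F n) - 1 : Module.End F _) ^ j) v =
      (t - 1) ^ j * v := by
    intro j
    induction j with
    | zero => intro v; simp
    | succ j ih =>
      intro v
      rw [pow_succ, Module.End.mul_apply, ih, pow_succ, mul_assoc, sub_mul _ _ v, one_mul, LinearMap.sub_apply,
        LinearEquiv.coe_coe, hgv]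
      rfl
  have hnil : (t - 1) ^ n = 0 := by
    have : AdjoinRoot.mk ((Polynomial.X - 1 : Polynomial F) ^ n) ((Polynomial.X - 1) ^ n) = 0 := AdjoinRoot.mk_self
    rwa [map_pow, map_sub, map_one, AdjoinRoot.mk_X] at this
  have hne : (t - 1) ^ (n - 1) ≠ 0 := by
    intro h
    have h1 : AdjoinRoot.mk ((Polynomial.X - 1 : Polynomial F) ^ n) ((Polynomial.X - 1) ^ (n - 1)) = 0 := by
      rw [map_pow, map_sub, map_one, AdjoinRoot.mk_X]; exact h
    rw [AdjoinRoot.mk_eq_zero] at h1
    have h2 := Polynomial.natDegree_le_of_dvd h1 (pow_ne_zero _ (Polynomial.X_sub_C_ne_zero (1 : F)))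
    rw [Polynomial.natDegree_pow, Polynomial.natDegree_pow, ← Polynomial.C_1, Polynomial.natDegree_X_sub_C] at h2
    omega
  have hNnil : ((g : FormTorus.UR F n →ₗ[F] FormTorus.UR F n) - 1 : Module.End F _) ^ n = 0 :=
    LinearMap.ext fun v => by rw [hpw, hnil, zero_mul]; rfl
  have hdet : LinearMap.det (g : FormTorus.UR F n →ₗ[F] FormTorus.UR F n) = 1 := by
    refine FormTorus.det_eq_one_of_unipotent p (b := n) ?_
    have hgp : ∀ (j : ℕ) v, ((g : FormTorus.UR F n →ₗ[F] FormTorus.UR F n) ^ j : Module.End F _) v = t ^ j * v := by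
      intro j
      induction j with
      | zero => intro v; simp
      | succ j ih =>
        intro v
        rw [pow_succ, Module.End.mul_apply, ih, pow_succ, mul_assoc, LinearEquiv.coe_coe, hgv]
    refine LinearMap.ext fun v => ?_
    rw [hgp, (FormTorus.root_pow_eq_one_iff (p := p) n n).2 (Nat.lt_pow_self hp.one_lt).le, one_mul]
    rfl
  have hdet' : (LinearMap.toMatrix' L).det = 1 := by
    rw [LinearMap.det_toMatrix', LinearMap.det_conj, hdet]
  refine ⟨⟨⟨LinearMap.toMatrix' L, hdet'⟩, fun a b => by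
    show hermForm n F q (LinearMap.toMatrix' L *ᵥ a) (LinearMap.toMatrix' L *ᵥ b) = hermForm n F q a b
    rw [hL, hL, ← hΦ, hg, hΦ, Φ.apply_symm_apply, Φ.apply_symm_apply]⟩, ?_⟩
  obtain ⟨Ψ, hΨ⟩ := TransvGL.exists_cyclic (FormTorus.finrank_UR (F := F) n).2 hNnil (v := 1)
    (by rw [hpw, mul_one]; exact hne)
  let Pl : (Fin n → F) ≃ₗ[F] (Fin n → F) := Ψ.trans Φ
  refine ⟨Matrix.GeneralLinearGroup.mk'' (LinearMap.toMatrix' (Pl : (Fin n → F) →ₗ[F] _))
    (Matrix.isUnit_det_of_right_inverse (B := LinearMap.toMatrix' (Pl.symm : (Fin n → F) →ₗ[F] _)) (by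
      rw [← LinearMap.toMatrix'_comp, Pl.comp_symm, LinearMap.toMatrix'_id])), ?_⟩
  show LinearMap.toMatrix' (Pl : (Fin n → F) →ₗ[F] _) * S2578.shift F n =
    (LinearMap.toMatrix' L - 1) * LinearMap.toMatrix' (Pl : (Fin n → F) →ₗ[F] _)
  apply Matrix.ext_of_mulVec_single
  intro j
  have hΨ1 : ∀ i : Fin n, Ψ (Pi.single i 1) =
      (((g : FormTorus.UR F n →ₗ[F] FormTorus.UR F n) - 1 : Module.End F _) ^ (i : ℕ)) 1 := by
    intro i
    rw [hΨ, Finset.sum_eq_single i (fun k _ hk => by simp [hk]) (by simp)]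
    simp
  rw [← mulVec_mulVec, ← mulVec_mulVec, LinearMap.toMatrix'_mulVec, LinearMap.toMatrix'_mulVec, S2578.shift_single,
    sub_mulVec, one_mulVec, hL]
  simp only [LinearEquiv.coe_coe, Pl, LinearEquiv.trans_apply, Φ.symm_apply_apply, hΨ1]
  rw [← map_sub Φ]
  split_ifs with h
  · rw [hΨ1]
    congr 1
    show (((g : FormTorus.UR F n →ₗ[F] FormTorus.UR F n) - 1 : Module.End F _) ^ ((j : ℕ) + 1)) 1 = _
    rw [pow_succ', Module.End.mul_apply]
    rfl
  · rw [map_zero, map_zero]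
    symm
    rw [LinearEquiv.map_eq_zero_iff]
    have h1 := LinearMap.congr_fun (pow_eq_zero_of_le (not_lt.1 h) hNnil) (1 : FormTorus.UR F n)
    rw [pow_succ', Module.End.mul_apply] at h1
    exact h1


/-- Regular unipotent classes of SU_n(q), n ≥ 2: the elements u of the special unitary group (isometries of Σ u_i v_i^q of determinant one over the field with q² elements) with (u − 1)^n = 0 and rank(u − 1) = n − 1 form exactly gcd(n, q + 1) conjugacy classes of SU_n(q). -/
theorem result {K : Type*} [Field K] [Fintype K] {q n : ℕ} (hK : Fintype.card K = q ^ 2) (hn : 2 ≤ n) : Nat.card {C : ConjClasses ↥(Cfsg.SU n K q) // ∃ u : ↥(Cfsg.SU n K q), ConjClasses.mk u = C ∧ (((u : GL (Fin n) K) : Matrix (Fin n) (Fin n) K) - 1) ^ n = 0 ∧ (((u : GL (Fin n) K) : Matrix (Fin n) (Fin n) K) - 1).rank = n - 1} = Nat.gcd n (q + 1) := by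
  classical
  have hn1 : 1 ≤ n := by omega
  obtain ⟨σ, hσ, hσσ, hq2⟩ := exists_qhom hK
  have hU := (hermB_isUnitary hK n hσ hσσ hq2).1
  obtain ⟨u₀, P₀, hP₀⟩ := exists_regular hK hn
  let H : ↥(Cfsg.SU n K q) →* GL (Fin n) K := Matrix.SpecialLinearGroup.toGL.comp (Cfsg.SU n K q).subtype
  have hHm : ∀ s, H s ∈ Cfsg.GU n K q := fun s => FormCentral.su_toGL_mem s
  have hHinj : Function.Injective H :=
    Matrix.SpecialLinearGroup.toGL_injective.comp Subtype.val_injective
  let μ : Subgroup Kˣ := (powMonoidHom (q + 1) : Kˣ →* Kˣ).ker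
  let z : Fin n := ⟨0, hn1⟩
  let D : μ → GL (Fin n) K := fun d =>
    Units.map (Matrix.diagonalRingHom (Fin n) K).toMonoidHom (MulEquiv.piUnits.symm (Function.update 1 z (d : Kˣ)))
  have hDm : ∀ d, D d ∈ Cfsg.GU n K q := fun d => UnitaryOrder.diagonal_mem hK _ fun i => by
    rcases eq_or_ne i z with rfl | hi
    · rw [Function.update_self]; exact d.2
    · rw [Function.update_of_ne hi]; exact one_pow _
  have hD : ∀ d, (D d : Matrix (Fin n) (Fin n) K).det = ((d : Kˣ) : K) := fun d => by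
    show (Matrix.diagonal fun i => ((Function.update (1 : Fin n → Kˣ) z (d : Kˣ) i : Kˣ) : K)).det = _
    rw [Matrix.det_diagonal, Finset.prod_eq_single z (fun i _ hi => by simp [Function.update_of_ne hi]) (by simp)]
    simp
  have hdinv : ∀ g : GL (Fin n) K, (g : Matrix (Fin n) (Fin n) K).det * (↑g⁻¹ : Matrix (Fin n) (Fin n) K).det = 1 :=
    fun g => by rw [← Matrix.det_mul, ← Units.val_mul, mul_inv_cancel, Units.val_one, Matrix.det_one]
  have hu0d : (H u₀ : Matrix (Fin n) (Fin n) K).det = 1 := (u₀ : Matrix.SpecialLinearGroup (Fin n) K).2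
  let w : μ → ↥(Cfsg.SU n K q) := fun d => ⟨⟨((D d * H u₀ * (D d)⁻¹ : GL (Fin n) K) : Matrix (Fin n) (Fin n) K), by
    rw [Units.val_mul, Units.val_mul, Matrix.det_mul, Matrix.det_mul, mul_right_comm, hdinv, one_mul, hu0d]⟩,
    (Cfsg.GU n K q).mul_mem ((Cfsg.GU n K q).mul_mem (hDm d) (hHm u₀)) ((Cfsg.GU n K q).inv_mem (hDm d))⟩
  have hHw : ∀ d, H (w d) = D d * H u₀ * (D d)⁻¹ := fun d => Units.ext rfl
  let P := fun C : ConjClasses ↥(Cfsg.SU n K q) => ∃ u : ↥(Cfsg.SU n K q), ConjClasses.mk u = C ∧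
    (((u : GL (Fin n) K) : Matrix (Fin n) (Fin n) K) - 1) ^ n = 0 ∧
    (((u : GL (Fin n) K) : Matrix (Fin n) (Fin n) K) - 1).rank = n - 1
  have hwP : ∀ d, P (ConjClasses.mk (w d)) := fun d => by
    have hw : ((H (w d) : GL (Fin n) K) : Matrix (Fin n) (Fin n) K) - 1 =
        ((D d * P₀ : GL (Fin n) K) : Matrix (Fin n) (Fin n) K) * S2578.shift K n *
          ((D d * P₀)⁻¹ : GL (Fin n) K) := by
      rw [Units.val_mul, mul_assoc (D d : Matrix (Fin n) (Fin n) K), hP₀, _root_.mul_inv_rev, Units.val_mul,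
        mul_assoc (D d : Matrix (Fin n) (Fin n) K), mul_assoc _ (P₀ : Matrix (Fin n) (Fin n) K),
        Units.mul_inv_cancel_left, hHw, Units.val_mul, Units.val_mul, sub_mul, one_mul, mul_sub, mul_assoc,
        Units.mul_inv]
      rfl
    refine ⟨w d, rfl, ?_, ?_⟩
    · show ((H (w d) : Matrix (Fin n) (Fin n) K) - 1) ^ n = 0
      rw [hw, Units.conj_pow, S2578.shift_nil, mul_zero, zero_mul]
    · show ((H (w d) : Matrix (Fin n) (Fin n) K) - 1).rank = n - 1
      rw [hw, Matrix.rank_mul_eq_left_of_isUnit_det _ _ ((Matrix.isUnit_iff_isUnit_det _).1 (D d * P₀)⁻¹.isUnit),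
        Matrix.rank_mul_eq_right_of_isUnit_det _ _ ((Matrix.isUnit_iff_isUnit_det _).1 (D d * P₀).isUnit),
        S2578.shift_rank hn1]
  let R : Subgroup μ := (powMonoidHom n : μ →* μ).range
  -- determinants of the centraliser
  have hcent : ∀ C : GL (Fin n) K, C ∈ Cfsg.GU n K q → C * H u₀ = H u₀ * C →
      ∃ a : μ, (C : Matrix (Fin n) (Fin n) K).det = (((a : Kˣ) : K)) ^ n := by
    intro C hC hCu
    set N : Module.End K (Fin n → K) := Matrix.toLinAlgEquiv' ((H u₀ : Matrix (Fin n) (Fin n) K) - 1)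
    have hcyc : ∀ i : ℕ, (N ^ i) ((P₀ : Matrix (Fin n) (Fin n) K) *ᵥ Pi.single z 1) =
        (P₀ : Matrix (Fin n) (Fin n) K) *ᵥ (((Matrix.mulVecLin (S2578.shift K n)) ^ i) (Pi.single z 1)) := by
      intro i
      induction i with
      | zero => rfl
      | succ i ih =>
        rw [pow_succ', Module.End.mul_apply, ih, pow_succ', Module.End.mul_apply]
        show ((H u₀ : Matrix (Fin n) (Fin n) K) - 1) *ᵥ _ = _ *ᵥ (S2578.shift K n *ᵥ _)
        rw [mulVec_mulVec, mulVec_mulVec, hP₀]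
        rfl
    have hNnil : N ^ n = 0 := by
      have h1 : ((H u₀ : Matrix (Fin n) (Fin n) K) - 1) ^ n * (P₀ : Matrix (Fin n) (Fin n) K) = 0 := by
        have h2 : ∀ i, ((H u₀ : Matrix (Fin n) (Fin n) K) - 1) ^ i * (P₀ : Matrix (Fin n) (Fin n) K) =
            (P₀ : Matrix (Fin n) (Fin n) K) * S2578.shift K n ^ i := by
          intro i
          induction i with
          | zero => simp
          | succ i ih =>
            rw [pow_succ, mul_assoc, show ((H u₀ : Matrix (Fin n) (Fin n) K) - 1) * (P₀ : Matrix (Fin n) (Fin n) K) =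
              (P₀ : Matrix (Fin n) (Fin n) K) * S2578.shift K n from hP₀.symm, ← mul_assoc, ih, mul_assoc, ← pow_succ]
        rw [h2, S2578.shift_nil, mul_zero]
      have h3 := congrArg (· * (↑P₀⁻¹ : Matrix (Fin n) (Fin n) K)) h1
      simp only [mul_assoc, Units.mul_inv, mul_one, zero_mul] at h3
      rw [← map_pow, h3, map_zero]
    have hv : (N ^ (n - 1)) ((P₀ : Matrix (Fin n) (Fin n) K) *ᵥ Pi.single z 1) ≠ 0 := by
      rw [hcyc, S2578.shift_pow_single, dif_pos (by simp [z]; omega)]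
      intro h
      have := Matrix.mulVec_injective_of_isUnit P₀.isUnit (h.trans (mulVec_zero _).symm)
      simp at this
    obtain ⟨a, hmem, hdet⟩ := exists_commute_scalar (Module.finrank_fin_fun K) hn1 hNnil hv
      (g := Matrix.toLinAlgEquiv' (C : Matrix (Fin n) (Fin n) K)) (by
        rw [commute_iff_eq, ← map_mul, ← map_mul, mul_sub, sub_mul, mul_one, one_mul]
        exact congrArg Matrix.toLinAlgEquiv' (congrArg (· - (C : Matrix (Fin n) (Fin n) K)) (congrArg Units.val hCu)))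
    have hiso : ∀ X : GL (Fin n) K, X ∈ Cfsg.GU n K q → ∀ u v,
        hermB n σ ((X : Matrix (Fin n) (Fin n) K) *ᵥ u) ((X : Matrix (Fin n) (Fin n) K) *ᵥ v) = hermB n σ u v := by
      intro X hX u v
      rw [hermB_apply hσ, hermB_apply hσ]
      exact hX v u
    set v := (N ^ (n - 1)) ((P₀ : Matrix (Fin n) (Fin n) K) *ᵥ Pi.single z 1)
    have hNv : N v = 0 := by
      rw [← Module.End.mul_apply, ← pow_succ', show n - 1 + 1 = n by omega, hNnil]; rfl
    have hfix : (H u₀ : Matrix (Fin n) (Fin n) K) *ᵥ v = v := by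
      have : ((H u₀ : Matrix (Fin n) (Fin n) K) - 1) *ᵥ v = 0 := hNv
      rwa [sub_mulVec, one_mulVec, sub_eq_zero] at this
    have horth : ∀ y, hermB n σ v (N y) = 0 := fun y => by
      show hermB n σ v (((H u₀ : Matrix (Fin n) (Fin n) K) - 1) *ᵥ y) = 0
      rw [sub_mulVec, one_mulVec, map_sub]
      conv_lhs => arg 1; rw [← hfix, hiso _ (hHm u₀)]
      exact sub_self _
    obtain ⟨y, hy⟩ : ∃ y, hermB n σ v y ≠ 0 := by
      by_contra h
      push Not at h
      exact hv (hU.tf.nondeg v h)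
    have hCv : (C : Matrix (Fin n) (Fin n) K) *ᵥ v = a • v := by
      obtain ⟨x, hx⟩ := hmem ((P₀ : Matrix (Fin n) (Fin n) K) *ᵥ Pi.single z 1)
      have hc : Commute (Matrix.toLinAlgEquiv' (C : Matrix (Fin n) (Fin n) K)) N := by
        rw [commute_iff_eq, ← map_mul, ← map_mul, mul_sub, sub_mul, mul_one, one_mul]
        exact congrArg Matrix.toLinAlgEquiv' (congrArg (· - (C : Matrix (Fin n) (Fin n) K)) (congrArg Units.val hCu))
      show Matrix.toLinAlgEquiv' (C : Matrix (Fin n) (Fin n) K) v = a • v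
      rw [TransvGL.apply_pow_comm hc, sub_eq_iff_eq_add.1 hx.symm, map_add, map_smul, ← Module.End.mul_apply,
        ← pow_succ, show n - 1 + 1 = n by omega, hNnil, LinearMap.zero_apply, zero_add]
    have haσ : σ a * a = 1 := by
      obtain ⟨x, hx⟩ := hmem y
      have h := hiso C hC v y
      rw [hCv, show (C : Matrix (Fin n) (Fin n) K) *ᵥ y = a • y + N x by rw [hx, add_sub_cancel]; rfl, map_smulₛₗ,
        LinearMap.smul_apply, map_add, horth, add_zero, map_smul, smul_eq_mul, smul_eq_mul, ← mul_assoc] at h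
      exact (mul_eq_right₀ hy).1 h
    have ha0 : a ≠ 0 := fun h => by rw [h, mul_zero] at haσ; exact zero_ne_one haσ
    refine ⟨⟨Units.mk0 a ha0, Units.ext ?_⟩, ?_⟩
    · rw [powMonoidHom_apply, Units.val_pow_eq_pow_val, Units.val_mk0, pow_succ, ← hσ, haσ, Units.val_one]
    · rw [Units.val_mk0, ← hdet]
      exact (LinearMap.det_toLin' _).symm
  have hiff : ∀ d d' : μ, IsConj (w d) (w d') ↔ d⁻¹ * d' ∈ R := by
    intro d d'
    constructor
    · intro hc
      obtain ⟨h, hh⟩ := isConj_iff.1 hc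
      rw [mul_inv_eq_iff_eq_mul] at hh
      have hh' : H h * H (w d) = H (w d') * H h := by rw [← map_mul, hh, map_mul]
      rw [hHw, hHw] at hh'
      have hCu : (D d')⁻¹ * H h * D d * H u₀ = H u₀ * ((D d')⁻¹ * H h * D d) := by
        calc (D d')⁻¹ * H h * D d * H u₀ = (D d')⁻¹ * (H h * (D d * H u₀ * (D d)⁻¹)) * D d := by group
          _ = _ := by rw [hh']; group
      obtain ⟨a, ha⟩ := hcent _ ((Cfsg.GU n K q).mul_mem ((Cfsg.GU n K q).mul_mem ((Cfsg.GU n K q).inv_mem (hDm d'))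
        (hHm h)) (hDm d)) hCu
      have h1 := hdinv (D d')
      rw [hD] at h1
      have hh1 : (H h : Matrix (Fin n) (Fin n) K).det = 1 := (h : Matrix.SpecialLinearGroup (Fin n) K).2
      rw [Units.val_mul, Units.val_mul, Matrix.det_mul, Matrix.det_mul, hD, hh1, mul_one,
        eq_inv_of_mul_eq_one_right h1] at ha
      refine (Subgroup.inv_mem_iff R).1 ⟨a, Subtype.ext (Units.ext ?_)⟩
      rw [_root_.mul_inv_rev, inv_inv, powMonoidHom_apply]
      simp only [Subgroup.coe_pow, Units.val_pow_eq_pow_val, ← ha, Subgroup.coe_mul, Units.val_mul, Subgroup.coe_inv,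
        Units.val_inv_eq_inv_val]
    · rintro ⟨t, ht⟩
      let T : GL (Fin n) K := Units.map (Matrix.scalar (Fin n)).toMonoidHom ((t : Kˣ))⁻¹
      have hT : ∀ g : GL (Fin n) K, T * g = g * T := fun g => Units.ext
        (Matrix.scalar_commute _ (fun r => Commute.all _ r) _).eq
      have hTm : T ∈ Cfsg.GU n K q := by
        have h1 := UnitaryOrder.diagonal_mem (q := q) (n := n) hK (fun _ => ((t : Kˣ))⁻¹) (fun _ => by
          rw [inv_pow, show (t : Kˣ) ^ (q + 1) = 1 from t.2, inv_one])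
        have hT' : T = Units.map (Matrix.diagonalRingHom (Fin n) K).toMonoidHom
            (MulEquiv.piUnits.symm fun _ : Fin n => ((t : Kˣ))⁻¹) := Units.ext rfl
        rw [hT']; exact h1
      set G := D d' * T * (D d)⁻¹ with hG
      have hGd : (G : Matrix (Fin n) (Fin n) K).det = 1 := by
        have h1 := hdinv (D d)
        rw [hD] at h1
        have hTd : (T : Matrix (Fin n) (Fin n) K).det = (((t : Kˣ)⁻¹ : Kˣ) : K) ^ n := by
          show (Matrix.scalar (Fin n) (((t : Kˣ)⁻¹ : Kˣ) : K)).det = _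
          simp [Matrix.det_diagonal]
        have ht' : ((t : Kˣ)) ^ n = (d : Kˣ)⁻¹ * (d' : Kˣ) := congrArg Subtype.val ht
        rw [hG, Units.val_mul, Units.val_mul, Matrix.det_mul, Matrix.det_mul, hD, hTd,
          eq_inv_of_mul_eq_one_right h1, ← Units.val_inv_eq_inv_val, ← Units.val_pow_eq_pow_val, ← Units.val_mul,
          ← Units.val_mul, ← Units.val_one, inv_pow, ht', _root_.mul_inv_rev, inv_inv,
          ← mul_assoc, mul_inv_cancel, one_mul, mul_inv_cancel]
      let hh : ↥(Cfsg.SU n K q) := ⟨⟨_, hGd⟩, (Cfsg.GU n K q).mul_mem ((Cfsg.GU n K q).mul_mem (hDm d') hTm)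
        ((Cfsg.GU n K q).inv_mem (hDm d))⟩
      have hHh : H hh = G := Units.ext rfl
      refine isConj_iff.2 ⟨hh, mul_inv_eq_iff_eq_mul.2 (hHinj ?_)⟩
      rw [map_mul, map_mul, hHw, hHw, hHh]
      show G * (D d * H u₀ * (D d)⁻¹) = D d' * H u₀ * (D d')⁻¹ * G
      calc G * (D d * H u₀ * (D d)⁻¹) = D d' * (T * H u₀) * (D d)⁻¹ := by rw [hG]; group
        _ = _ := by rw [hT, hG]; group
  let ψ : μ ⧸ R → {C // P C} := Quotient.lift (fun d => ⟨ConjClasses.mk (w d), hwP d⟩) fun a b hab =>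
    Subtype.ext (ConjClasses.mk_eq_mk_iff_isConj.2 ((hiff a b).2 (QuotientGroup.leftRel_apply.1 hab)))
  have hψ : Function.Bijective ψ := by
    constructor
    · intro x y
      induction x using QuotientGroup.induction_on with
      | H a =>
        induction y using QuotientGroup.induction_on with
        | H b => exact fun h => QuotientGroup.eq.2 ((hiff a b).1 (ConjClasses.mk_eq_mk_iff_isConj.1 (congrArg Subtype.val h)))
    · rintro ⟨C, u, rfl, hnil, hrank⟩
      obtain ⟨Q, hQ⟩ := S2578.exists_conj_shift hn1 _ hnil hrank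
      have hconj : Q * P₀⁻¹ * H u₀ = H u * (Q * P₀⁻¹) := by
        have e1 : ((H u₀ : GL (Fin n) K) : Matrix (Fin n) (Fin n) K) * P₀ = P₀ * (1 + S2578.shift K n) := by
          rw [mul_add, mul_one, hP₀, sub_mul, one_mul]; exact (add_sub_cancel _ _).symm
        have e2 : ((H u : GL (Fin n) K) : Matrix (Fin n) (Fin n) K) * Q = Q * (1 + S2578.shift K n) := by
          rw [mul_add, mul_one, hQ, sub_mul, one_mul]; exact (add_sub_cancel _ _).symm
        refine mul_right_cancel (b := P₀) (Units.ext ?_)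
        simp only [mul_assoc, Units.val_mul, inv_mul_cancel, Units.val_one, mul_one, e1, e2,
          Units.inv_mul_cancel_left]
      obtain ⟨g, hg, hgu⟩ := FormCentral.gu_intertwine hK (hHm u₀) (hHm u) hconj
      let d : μ := ⟨Units.mk0 (g : Matrix (Fin n) (Fin n) K).det ((Matrix.isUnit_iff_isUnit_det _).1 g.isUnit).ne_zero,
        Units.ext (by rw [powMonoidHom_apply, Units.val_pow_eq_pow_val, Units.val_mk0, UnitaryOrder.det_norm_one hK hg,
          Units.val_one])⟩
      refine ⟨QuotientGroup.mk d, Subtype.ext (ConjClasses.mk_eq_mk_iff_isConj.2 ?_)⟩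
      have hGd : ((g * (D d)⁻¹ : GL (Fin n) K) : Matrix (Fin n) (Fin n) K).det = 1 := by
        have h1 := hdinv (D d)
        rw [hD] at h1
        rw [Units.val_mul, Matrix.det_mul]
        exact h1
      let hh : ↥(Cfsg.SU n K q) := ⟨⟨_, hGd⟩, (Cfsg.GU n K q).mul_mem hg ((Cfsg.GU n K q).inv_mem (hDm d))⟩
      have hHh : H hh = g * (D d)⁻¹ := Units.ext rfl
      refine isConj_iff.2 ⟨hh, mul_inv_eq_iff_eq_mul.2 (hHinj ?_)⟩
      rw [map_mul, map_mul, hHw, hHh]
      show g * (D d)⁻¹ * (D d * H u₀ * (D d)⁻¹) = H u * (g * (D d)⁻¹)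
      rw [← mul_assoc (H u), ← hgu]
      group
  haveI : IsCyclic μ := Subgroup.isCyclic μ
  rw [← Nat.card_congr (Equiv.ofBijective ψ hψ), ← Subgroup.index_eq_card, IsCyclic.index_powMonoidHom_range,
    UnitaryOrder.card_norm_one_units hK, Nat.gcd_comm]

end Cfsg.Agent.S2643
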