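import Cfsg.Statements.S2644
import Cfsg.Agent.Lib.FormCentral.SUConj
import Cfsg.Agent.Lib.Transvection.GL
-- import your own Cfsg.Agent.* helpers here

set_option autoImplicit false
open Cfsg

namespace Cfsg.Agent.S2644

/-- In the special unitary group SU_n(q) with n ≥ 3 (isometries of Σ u_i v_i^q of determinant one over the field with q² elements), any two transvections (elements t with t − 1 of rank one and square zero) are conjugate. -/
theorem result {K : Type*} [Field K] [Fintype K] {q n : ℕ} (hK : Fintype.card K = q ^ 2) (hn : 3 ≤ n) (s t : ↥(Cfsg.SU n K q)) (hs : Cfsg.IsTransvection (((s : GL (Fin n) K) : Matrix (Fin n) (Fin n) K))) (ht : Cfsg.IsTransvection (((t : GL (Fin n) K) : Matrix (Fin n) (Fin n) K))) : IsConj s t := by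
  classical
  obtain ⟨σ, hσ, hσσ, hq2⟩ := FormsLib.exists_qhom hK
  have hU := (FormsLib.hermB_isUnitary hK n hσ hσσ hq2).1
  set B := FormsLib.hermB n σ with hBdef
  obtain ⟨P, hP, -⟩ := TransvGL.exists_conj hs ht
  refine FormCentral.su_isConj hK s t P (Units.ext hP) fun y hy => ?_
  obtain ⟨a, φ, ha, hφ, hφa, hsm⟩ := TransvGL.exists_data hs
  set S := ((s : GL (Fin n) K) : Matrix (Fin n) (Fin n) K)
  have hS : ∀ x, S.mulVec x = x + (φ ⬝ᵥ x) • a := fun x => by
    rw [hsm, Matrix.add_mulVec, Matrix.one_mulVec, Matrix.vecMulVec_mulVec, op_smul_eq_smul]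
  have hiso : ∀ u v, B (S.mulVec u) (S.mulVec v) = B u v := fun u v => by
    rw [hBdef, FormsLib.hermB_apply hσ, FormsLib.hermB_apply hσ]
    exact s.2 v u
  let X : Submodule K (Fin n → K) := LinearMap.ker (dotProductBilin K K φ)
  have hX : ∀ w, w ∈ X ↔ φ ⬝ᵥ w = 0 := fun w => Iff.rfl
  obtain ⟨j, hj⟩ := Function.ne_iff.1 hφ
  have hz : φ ⬝ᵥ (Pi.single j 1 : Fin n → K) ≠ 0 := by simpa using hj
  have haX : ∀ w ∈ X, B a w = 0 := by
    intro w hw
    have h := hiso (Pi.single j 1) w
    rw [hS, hS, (hX w).1 hw, zero_smul, add_zero, map_add, LinearMap.add_apply, add_eq_left, map_smulₛₗ,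
      LinearMap.smul_apply, smul_eq_mul, mul_eq_zero] at h
    exact h.resolve_left ((map_ne_zero σ).2 hz)
  obtain ⟨w, hw, hww⟩ : ∃ w ∈ X, B w w ≠ 0 := by
    by_contra hcon
    push Not at hcon
    obtain ⟨c, hc⟩ : ∃ c : K, σ c ≠ c := by
      by_contra h
      push Not at h
      exact hU.sigma_ne (RingHom.ext h)
    have hzero : ∀ u ∈ X, ∀ v ∈ X, B u v = 0 := by
      intro u hu v hv
      have h1 := hcon _ (X.add_mem hu hv)
      have h2 := hcon _ (X.add_mem (X.smul_mem c hu) hv)
      simp only [map_add, LinearMap.add_apply, map_smul, map_smulₛₗ, LinearMap.smul_apply, RingHom.id_apply,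
        smul_eq_mul, hcon u hu, hcon v hv, mul_zero, zero_add, add_zero] at h1 h2
      refine (mul_eq_zero.1 (?_ : (σ c - c) * B u v = 0)).resolve_left (sub_ne_zero.2 hc)
      linear_combination h2 - c * h1
    have hdim : 2 ≤ Module.finrank K X := by
      have h1 := (dotProductBilin K K φ : (Fin n → K) →ₗ[K] K).finrank_range_add_finrank_ker
      have h2 := (LinearMap.range (dotProductBilin K K φ : (Fin n → K) →ₗ[K] K)).finrank_le
      rw [Module.finrank_self] at h2
      rw [Module.finrank_fin_fun] at h1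
      show 2 ≤ Module.finrank K (LinearMap.ker (dotProductBilin K K φ : (Fin n → K) →ₗ[K] K))
      omega
    set z : Fin n → K := Pi.single j 1
    have hsplit : ∀ v, ∃ r : K, ∃ x ∈ X, v = r • z + x := fun v =>
      ⟨(φ ⬝ᵥ v) / (φ ⬝ᵥ z), v - ((φ ⬝ᵥ v) / (φ ⬝ᵥ z)) • z, (hX _).2 (by
        rw [dotProduct_sub, dotProduct_smul, smul_eq_mul, div_mul_cancel₀ _ hz, sub_self]), by abel⟩
    have hinj : ∀ x ∈ X, B x z = 0 → x = 0 := fun x hx hxz => hU.tf.nondeg x fun v => by
      obtain ⟨r, x', hx', rfl⟩ := hsplit v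
      rw [map_add, map_smul, hxz, smul_zero, zero_add, hzero x hx x' hx']
    let b := Module.finBasis K X
    set x₁ : X := b ⟨0, by omega⟩
    set x₂ : X := b ⟨1, by omega⟩
    have h0 : σ (B (x₂ : Fin n → K) z) • x₁ - σ (B (x₁ : Fin n → K) z) • x₂ = 0 := Subtype.ext (hinj _
      (Subtype.coe_prop _) (by
        simp only [Submodule.coe_sub, Submodule.coe_smul, map_sub, map_smulₛₗ, LinearMap.sub_apply,
          LinearMap.smul_apply, hσσ, smul_eq_mul, RingHom.id_apply]
        ring))
    have h1 := congrArg (fun v => b.repr v ⟨1, by omega⟩) h0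
    simp [x₁, x₂, Finsupp.single_apply] at h1
    refine b.ne_zero ⟨0, by omega⟩ (Subtype.ext (hinj _ (Subtype.coe_prop _) ?_))
    exact h1
  obtain ⟨d, hd, hdy⟩ := FormCentral.exists_ratio hU.tf hU.sigma_ne (x := y) (by rw [hσ, ← pow_succ', hy])
  let U : K → Module.End K (Fin n → K) := fun e => LinearMap.id + ((e - 1) / B w w) • (B w).smulRight w
  have hUx : ∀ e x, U e x = x + (((e - 1) / B w w) * B w x) • w := fun e x => by
    simp [U, smul_smul]
  have hws : σ (B w w) = B w w := by have := hU.tf.flip w w; rw [one_mul] at this; exact this.symm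
  have hadj : ∀ x v, B (U (σ d) x) v = B x (U d v) := by
    intro x v
    simp only [hUx, map_add, map_smul, map_smulₛₗ, LinearMap.add_apply, LinearMap.smul_apply, smul_eq_mul,
      RingHom.id_apply, map_mul, map_div₀, map_sub, map_one, hσσ, hws]
    rw [hU.tf.flip w x]
    ring
  have hdet : LinearMap.det (U d) = d := by
    have hw0 : w ≠ 0 := fun h => hww (by simp [h])
    have hc : IsCompl (K ∙ w) (LinearMap.ker (B w)) := by
      refine ⟨Submodule.disjoint_def.2 fun x hx hx' => ?_, codisjoint_iff.2 (eq_top_iff.2 fun v _ => ?_)⟩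
      · obtain ⟨r, rfl⟩ := Submodule.mem_span_singleton.1 hx
        rw [LinearMap.mem_ker, map_smul, smul_eq_mul, mul_eq_zero] at hx'
        rw [hx'.resolve_right hww, zero_smul]
      · refine Submodule.mem_sup.2 ⟨(B w v / B w w) • w, Submodule.mem_span_singleton.2 ⟨_, rfl⟩,
          v - (B w v / B w w) • w, ?_, by abel⟩
        rw [LinearMap.mem_ker, map_sub, map_smul, smul_eq_mul, div_mul_cancel₀ _ hww, sub_self]
    obtain ⟨u, hu1, hu2, hu3⟩ := FormCentral.exists_extend hc (d • LinearMap.id)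
    have hUu : U d = u := by
      refine LinearMap.ext fun v => ?_
      obtain ⟨x, hx, r, hr, rfl⟩ := Submodule.mem_sup.1 (hc.sup_eq_top ▸ Submodule.mem_top :
        v ∈ (K ∙ w) ⊔ LinearMap.ker (B w))
      rw [map_add, map_add, hu2 r hr, hu1 ⟨x, hx⟩]
      obtain ⟨e, rfl⟩ := Submodule.mem_span_singleton.1 hx
      simp only [hUx, LinearMap.mem_ker.1 hr, mul_zero, zero_smul, add_zero, map_smul, smul_eq_mul,
        LinearMap.smul_apply, LinearMap.id_apply, Submodule.coe_smul]
      rw [← add_smul, smul_smul]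
      congr 1
      field_simp
      ring
    rw [hUu, hu3, LinearMap.det_smul, LinearMap.det_id, mul_one, finrank_span_singleton hw0, pow_one]
  have hcomm : Commute (U d) (U (σ d)) := LinearMap.ext fun x => by
    simp only [Module.End.mul_apply, hUx, map_add, map_smul, smul_eq_mul, add_smul, smul_smul, mul_add, add_mul]
    module
  have hwS : ∀ x, B w (S.mulVec x) = B w x := fun x => by
    conv_lhs => rw [show w = S.mulVec w by rw [hS, (hX w).1 hw, zero_smul, add_zero], hiso]
  have hUA : Commute (U d) (Matrix.toLinAlgEquiv' S) := LinearMap.ext fun x => by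
    show U d (S.mulVec x) = S.mulVec (U d x)
    rw [hUx, hUx, hwS, Matrix.mulVec_add, Matrix.mulVec_smul,
      show S.mulVec w = w by rw [hS, (hX w).1 hw, zero_smul, add_zero]]
  obtain ⟨c, hc, hcS, hcd⟩ := FormCentral.exists_unitary_of_normal hU.tf hiso (T := U (σ d)) hadj hUA hcomm
    (by rw [hdet]; exact hd)
  obtain ⟨C, hC, hCv, hCd⟩ := FormCentral.exists_gu_of_isometry hσ c hc
  refine ⟨C, hC, Units.ext (Matrix.ext_of_mulVec_single fun i => ?_), hCd.trans (mul_right_cancel₀ ((map_ne_zero σ).2 hd) ?_)⟩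
  · rw [Units.val_mul, Units.val_mul, ← Matrix.mulVec_mulVec, ← Matrix.mulVec_mulVec, hCv, hCv]
    exact hcS _
  · rw [hdet] at hcd
    rw [hcd]
    exact hdy.trans (mul_comm _ _)

end Cfsg.Agent.S2644
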