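import Cfsg.Statements.S2645
import Cfsg.Agent.Lib.DualClassCount.Count
import Cfsg.Agent.Lib.DualClassCount.SpFactor
import Cfsg.Agent.S2586
import Cfsg.Agent.S2589

set_option autoImplicit false
open Cfsg

namespace Cfsg.Agent.S2645

open Polynomial FormTorus DualClassCount FormsLib
open scoped Matrix

theorem exists_pow_iff {r q i : ℕ} [Fact r.Prime] (hr2 : r ≠ 2) (hi0 : 0 < i)
    (hi : i = orderOf (q : ZMod r)) : (∃ k, (q : ZMod r) ^ k = -(1 : ZMod r)) ↔ ¬ Odd i := by
  have hneg : (-1 : ZMod r) ≠ 1 := by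
    haveI : Fact (2 < r) := ⟨by have := (Fact.out : r.Prime).two_le; omega⟩
    exact ZMod.neg_one_ne_one
  have hpow : (q : ZMod r) ^ i = 1 := by rw [hi]; exact pow_orderOf_eq_one _
  constructor
  · rintro ⟨k, hk⟩ hodd
    apply hneg
    calc (-1 : ZMod r) = ((q : ZMod r) ^ k) ^ i := by rw [hk, hodd.neg_one_pow]
      _ = 1 := by rw [← pow_mul, mul_comm, pow_mul, hpow, one_pow]
  · intro h
    obtain ⟨w, hw⟩ := Nat.not_odd_iff_even.1 h
    refine ⟨w, (mul_self_eq_one_iff.1 ?_).resolve_left fun h1 => ?_⟩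
    · rw [← pow_add, ← hw, hpow]
    · have := Nat.le_of_dvd (by omega) (orderOf_dvd_of_pow_eq_one h1)
      omega

/-- Number of conjugacy classes of elements of odd prime order r, r different from the characteristic, in the symplectic group Sp_2m(q): let i be the multiplicative order of q modulo r and t = (r − 1)/i. If i is odd the eigenvalue orbits pair off (Λ ≠ Λ⁻¹) and the classes correspond to the non-zero (t/2)-tuples (a_j) with 2i Σ a_j ≤ 2m, giving C(⌊m/i⌋ + t/2, t/2) − 1 classes; if i is even (Λ = Λ⁻¹) they correspond to the non-zero t-tuples with i Σ a_j ≤ 2m, giving C(⌊2m/i⌋ + t, t) − 1 classes. -/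
theorem result {F : Type*} [Field F] [Fintype F] {p q : ℕ} [Fact p.Prime] [CharP F p] (hF : Fintype.card F = q) (m r i t : ℕ) (hr : r.Prime) (hr2 : r ≠ 2) (hrp : r ≠ p) (hi : i = orderOf (q : ZMod r)) (ht : t * i = r - 1) : Nat.card {C : ConjClasses ↥(Matrix.symplecticGroup (Fin m) F) // ∃ g : Matrix.symplecticGroup (Fin m) F, ConjClasses.mk g = C ∧ orderOf g = r} = if Odd i then Nat.choose (m / i + t / 2) (t / 2) - 1 else Nat.choose (2 * m / i + t) t - 1 := by
  classical
  haveI := Fact.mk hr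
  obtain ⟨f₀, hp, hcard⟩ := FiniteField.card F p
  have hq0 : (q : ZMod r) ≠ 0 := by
    rw [← hF, hcard, Nat.cast_pow]
    exact pow_ne_zero _ (by
      rw [Ne, ZMod.natCast_eq_zero_iff, Nat.prime_dvd_prime_iff_eq hr hp]; exact hrp)
  have hi0 : 0 < i := by
    rw [hi, orderOf_pos_iff, isOfFinOrder_iff_pow_eq_one]
    exact ⟨r - 1, by have := hr.two_le; omega, ZMod.pow_card_sub_one_eq_one hq0⟩
  have hcop : Nat.Coprime r p := (Nat.coprime_primes hr hp).2 hrp
  let e : Fin m ⊕ Fin m ≃ Fin (2 * m) := finSumFinEquiv.trans (finCongr (two_mul m).symm)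
  let re := Matrix.reindexAlgEquiv F F e
  let j₀ : ↥(Matrix.symplecticGroup (Fin m) F) →* Matrix (Fin (2 * m)) (Fin (2 * m)) F :=
    (re : Matrix (Fin m ⊕ Fin m) (Fin m ⊕ Fin m) F →* Matrix (Fin (2 * m)) (Fin (2 * m)) F).comp
      (Matrix.symplecticGroup (Fin m) F).subtype
  have hj₀ : ∀ g, j₀ g = re (g : Matrix (Fin m ⊕ Fin m) (Fin m ⊕ Fin m) F) := fun g => rfl
  let ι : ↥(Matrix.symplecticGroup (Fin m) F) →* GL (Fin (2 * m)) F := j₀.toHomUnits
  have hι : ∀ g, ((ι g : GL (Fin (2 * m)) F) : Matrix (Fin (2 * m)) (Fin (2 * m)) F) =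
      re (g : Matrix (Fin m ⊕ Fin m) (Fin m ⊕ Fin m) F) := fun g => hj₀ g
  have hinj : Function.Injective ι := fun a b h => Subtype.ext (re.injective (by rw [← hι, ← hι, h]))
  have key := DualClassCount.card_classes (G := ↥(Matrix.symplecticGroup (Fin m) F)) (p := p) (f := 0)
    (N := 2 * m) (t := t) (Q := 1) (RingHom.id F) (fun c => (pow_one c).symm) (fun _ => rfl)
    (pow_zero p).symm hr hrp (by rw [hF]; exact hi) ht ι hinj
    (fun a b ha _ h => by
      refine (S2589.result (p := p) a b (by rw [ha]; exact hcop)).2 ?_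
      have h2 := (re.symm.toAlgHom.toRingHom.toMonoidHom).map_isConj
        ((Units.coeHom _).map_isConj h)
      simpa [hι] using h2)
    (fun g _ => by
      obtain ⟨c, hc⟩ := S2586.result g
      have h1 := Matrix.charpoly_units_conj c (g : Matrix (Fin m ⊕ Fin m) (Fin m ⊕ Fin m) F)
      rw [hc.eq, mul_assoc, Matrix.mul_nonsing_inv _ ((Matrix.isUnit_iff_isUnit_det _).1 c.isUnit), mul_one] at h1
      have hinv : (g : Matrix (Fin m ⊕ Fin m) (Fin m ⊕ Fin m) F) *
          ((g⁻¹ : Matrix.symplecticGroup (Fin m) F) : Matrix (Fin m ⊕ Fin m) (Fin m ⊕ Fin m) F) = 1 :=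
        congrArg Subtype.val (mul_inv_cancel g)
      rw [← Matrix.inv_eq_right_inv hinv] at h1
      rw [hι, show (re (g : Matrix (Fin m ⊕ Fin m) (Fin m ⊕ Fin m) F)).charpoly =
        (g : Matrix (Fin m ⊕ Fin m) (Fin m ⊕ Fin m) F).charpoly from Matrix.charpoly_reindex e _]
      conv_rhs => rw [← h1]
      rw [← charpoly_map_inv _ ((Matrix.isUnit_iff_isUnit_det _).2 (Matrix.isUnit_det_of_right_inverse hinv))]
      simp)
    (fun x hx hd => by
      have hxr : (x : Matrix (Fin (2 * m)) (Fin (2 * m)) F) ^ r = 1 := by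
        rw [← Units.val_pow_eq_pow_val, ← hx, pow_orderOf_eq_one, Units.val_one]
      obtain ⟨n, B, g, hA, hB, hg, hgr, hgc⟩ := spReal_of_dual hr hr2 hrp (2 * m)
        (x : Matrix (Fin (2 * m)) (Fin (2 * m)) F).charpoly
        (le_of_eq (by rw [Matrix.charpoly_natDegree_eq_dim, Fintype.card_fin]))
        (Matrix.charpoly_monic _)
        (by rw [Matrix.charpoly_natDegree_eq_dim, Fintype.card_fin]; exact even_two_mul m) hd
        (fun R hR hRd => S2568.dvd_X_pow_sub_one hxr hR hRd)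
      have hn : n = 2 * m := by
        have h := congrArg natDegree hgc
        rwa [LinearMap.charpoly_natDegree, Module.finrank_fin_fun, Matrix.charpoly_natDegree_eq_dim,
          Fintype.card_fin] at h
      obtain ⟨Φ, hΦ⟩ := exists_sp_frame hA hB (m := m) (by rw [Module.finrank_fin_fun, hn])
      let L : (Fin m ⊕ Fin m → F) →ₗ[F] (Fin m ⊕ Fin m → F) := Φ.conj (g : (Fin n → F) →ₗ[F] (Fin n → F))
      have hL : ∀ v, LinearMap.toMatrix' L *ᵥ v = Φ (g (Φ.symm v)) := fun v => by
        rw [LinearMap.toMatrix'_mulVec]; rfl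
      let s : Matrix.symplecticGroup (Fin m) F := ⟨LinearMap.toMatrix' L,
        (mem_symplectic_iff _).2 fun u v => by
          rw [hL, hL, ← hΦ, hg, hΦ, Φ.apply_symm_apply, Φ.apply_symm_apply]⟩
      refine ⟨s, S2387.isConj_of_charpoly (p := p) x (ι s) (by rw [hx]; exact hcop) ?_ ?_⟩
      · rw [orderOf_injective ι hinj]
        refine hcop.coprime_dvd_left (orderOf_dvd_of_pow_eq_one (Subtype.ext ?_))
        rw [SubmonoidClass.coe_pow, Submonoid.coe_one]
        show LinearMap.toMatrixAlgEquiv' L ^ r = 1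
        rw [← map_pow, show L = Φ.conjAlgEquiv F (en g) from rfl, ← map_pow, hgr, map_one, map_one]
      · rw [hι, show (re (s : Matrix (Fin m ⊕ Fin m) (Fin m ⊕ Fin m) F)).charpoly =
          (s : Matrix (Fin m ⊕ Fin m) (Fin m ⊕ Fin m) F).charpoly from Matrix.charpoly_reindex e _,
          ← hgc, ← Φ.charpoly_conj (g : (Fin n → F) →ₗ[F] (Fin n → F))]
        exact (LinearMap.charpoly_toMatrix L (Pi.basisFun F (Fin m ⊕ Fin m))).symm.trans
          (congrArg Matrix.charpoly (LinearMap.congr_fun (congrArg LinearEquiv.toLinearMap LinearMap.toMatrix_eq_toMatrix') L)))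
  rw [hF, Nat.cast_one, exists_pow_iff hr2 hi0 hi] at key
  split_ifs with hodd
  · rw [key.2 (not_not.2 hodd), Nat.mul_div_mul_left _ _ (by omega : 0 < 2)]
  · exact key.1 hodd

end Cfsg.Agent.S2645
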