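import Cfsg.Statements.S2646
import Cfsg.Agent.Lib.FormCentral.UnipotentCentralizer

set_option autoImplicit false
open Cfsg

namespace Cfsg.Agent.S2646

open Cfsg.Agent.JordanType Cfsg.Agent.S2581 Cfsg.Agent.UnipotentCentralizer
open scoped Matrix

theorem mem_GU_st {K : Type*} [Field K] [Fintype K] {q n : ℕ} [AutPSU.QField K q] (g : GL (Fin n) K) :
    g ∈ Cfsg.GU n K q ↔ st q g.1 * g.1 = 1 := by
  rw [AutPSU.mem_GU_iff_mat]
  constructor
  · intro h
    have h' := congrArg (fun M : Matrix (Fin n) (Fin n) K => M.map (AutPSU.qb (F := K) q)) h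
    simp only [Matrix.map_mul, Matrix.map_one _ (map_zero _) (map_one _)] at h'
    rwa [show (g.1.map (AutPSU.qb (F := K) q)).map (AutPSU.qb (F := K) q) = g.1 from
      Matrix.ext fun a b => AutPSU.qb_qb _, Matrix.transpose_map] at h'
  · intro h
    have h' := congrArg (fun M : Matrix (Fin n) (Fin n) K => M.map (AutPSU.qb (F := K) q)) h
    simp only [Matrix.map_mul, Matrix.map_one _ (map_zero _) (map_one _)] at h'
    rwa [show (st q g.1).map (AutPSU.qb (F := K) q) = g.1ᵀ from Matrix.ext fun a b => AutPSU.qb_qb _] at h'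

theorem card_rest {t : ℕ} (d : Fin t → ℕ) (hd : ∀ k, 1 ≤ d k) :
    Nat.card (Rest d) = 2 * (∑ i ∈ Finset.range (Finset.univ.sup d + 1), ∑ j ∈ Finset.range (Finset.univ.sup d + 1), if i < j then i * (Finset.univ.filter (fun k : Fin t => d k = i)).card * (Finset.univ.filter (fun k : Fin t => d k = j)).card else 0) + ∑ i ∈ Finset.range (Finset.univ.sup d + 1), (i - 1) * (Finset.univ.filter (fun k : Fin t => d k = i)).card ^ 2 := by
  classical
  haveI : Fact (Nat.Prime 2) := ⟨Nat.prime_two⟩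
  have h := S2581.result (F := ZMod 2) (q := 2) (ZMod.card 2) d hd
  have h2 : Nat.card ((i : Fin (Finset.univ.sup d + 1)) → GL (KB d i) (ZMod 2)) =
      ∏ i ∈ Finset.range (Finset.univ.sup d + 1), ∏ j : Fin ((Finset.univ.filter (fun k : Fin t => d k = i)).card),
        (2 ^ (Finset.univ.filter (fun k : Fin t => d k = i)).card - 2 ^ (j : ℕ)) := by
    rw [Nat.card_pi, Finset.prod_range]
    refine Finset.prod_congr rfl fun i _ => ?_
    rw [show (Finset.univ.filter fun k : Fin t => d k = (i : ℕ)).card = Fintype.card (KB d i) from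
        (Fintype.card_subtype _).symm]
    have h3 := Matrix.card_GL_field (𝔽 := ZMod 2) (Fintype.card (KB d i))
    rw [ZMod.card] at h3
    rw [← h3]
    exact Nat.card_congr (Units.mapEquiv
      (Matrix.reindexAlgEquiv (ZMod 2) (ZMod 2) (Fintype.equivFin (KB d i))).toMulEquiv).toEquiv
  rw [Nat.card_congr (paramEquiv hd), Nat.card_prod, Nat.card_fun, h2, Nat.card_eq_fintype_card (α := ZMod 2),
    ZMod.card] at h
  refine Nat.pow_right_injective le_rfl (Nat.eq_of_mul_eq_mul_right ?_ h)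
  rw [← h2]
  exact Nat.card_pos

theorem aux {K : Type*} [Field K] [Fintype K] {q n t : ℕ} (hK : Fintype.card K = q ^ 2) (d : Fin t → ℕ) (hd : ∀ k, 1 ≤ d k) (e : ((k : Fin t) × Fin (d k)) ≃ Fin n) (u : ↥(Cfsg.GU n K q)) (hu : IsConj (Matrix.reindex e e (Cfsg.jordanTypeMatrix d K)) ((u : GL (Fin n) K) : Matrix (Fin n) (Fin n) K)) : (Nat.card ↥(Subgroup.centralizer ({u} : Set ↥(Cfsg.GU n K q))) : ℤ) = (q : ℤ) ^ (2 * (∑ i ∈ Finset.range (Finset.univ.sup d + 1), ∑ j ∈ Finset.range (Finset.univ.sup d + 1), if i < j then i * (Finset.univ.filter (fun k : Fin t => d k = i)).card * (Finset.univ.filter (fun k : Fin t => d k = j)).card else 0) + ∑ i ∈ Finset.range (Finset.univ.sup d + 1), (i - 1) * (Finset.univ.filter (fun k : Fin t => d k = i)).card ^ 2) * ∏ i ∈ Finset.range (Finset.univ.sup d + 1), ((q : ℤ) ^ ((Finset.univ.filter (fun k : Fin t => d k = i)).card * ((Finset.univ.filter (fun k : Fin t => d k = i)).card - 1) / 2) * ∏ j : Fin (Finset.univ.filter (fun k :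 Fin t => d k = i)).card, ((q : ℤ) ^ ((j : ℕ) + 1) - (-1) ^ ((j : ℕ) + 1))) := by
  classical
  haveI := AutPSU.QField.of_card hK
  obtain ⟨c, hc⟩ := hu
  set R := Matrix.reindexAlgEquiv K K e with hR
  have hst : ∀ X, st q (R X) = R (st q X) := fun X => Matrix.ext fun a b => rfl
  have hJ0 : Matrix.reindex e e (Cfsg.jordanTypeMatrix d K) = R (1 + shift K d) := by
    rw [shift, add_sub_cancel]; rfl
  rw [hJ0] at hc
  change c.1 * R (1 + shift K d) = u.1.1 * c.1 at hc
  obtain ⟨G, hG'⟩ := R.surjective (st q c.1 * c.1)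
  have hG : st q G = G := R.injective (by rw [← hst, hG', st_mul, st_st])
  have hu' : IsUnit G := by
    rw [← R.symm_apply_apply G, hG']
    exact (IsUnit.mul ⟨⟨st q c.1, st q (c⁻¹).1, by rw [← st_mul, Units.inv_mul, st_one],
      by rw [← st_mul, Units.mul_inv, st_one]⟩, rfl⟩ c.isUnit).map _
  have hJ : (1 + (shift K d)ᵀ) * G * (1 + shift K d) = G := by
    refine R.injective ?_
    rw [show (1 : Matrix (Idx d) (Idx d) K) + (shift K d)ᵀ = st q (1 + shift K d) by
      rw [st_add, st_one, st_shift], map_mul, map_mul, ← hst, hG',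
      show st q (R (1 + shift K d)) * (st q c.1 * c.1) * R (1 + shift K d) =
        st q (c.1 * R (1 + shift K d)) * (c.1 * R (1 + shift K d)) by simp only [st_mul, mul_assoc],
      hc, st_mul, mul_assoc, ← mul_assoc (st q u.1.1), (mem_GU_st _).1 u.2, one_mul]
  have hcomm : ∀ X, Commute (shift K d) X ↔ c.1 * R X * (c⁻¹).1 * u.1.1 = u.1.1 * (c.1 * R X * (c⁻¹).1) := by
    intro X
    have h1 : (c⁻¹).1 * u.1.1 = R (1 + shift K d) * (c⁻¹).1 := by
      rw [Units.inv_mul_eq_iff_eq_mul, ← mul_assoc, hc, mul_assoc, Units.mul_inv, mul_one]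
    rw [mul_assoc _ (c⁻¹).1, h1, ← mul_assoc, ← mul_assoc u.1.1, ← mul_assoc u.1.1, ← hc,
      mul_assoc c.1 (R X), mul_assoc c.1 (R _), ← map_mul, ← map_mul, Units.mul_left_inj, Units.mul_right_inj,
      R.injective.eq_iff]
    constructor
    · intro h
      exact (((Commute.one_left X).add_left h).eq).symm
    · intro h
      simpa using (Commute.sub_left (show Commute (1 + shift K d) X from h.symm) (Commute.one_left X))
  have hiso : ∀ X, st q X * G * X = G ↔ st q (c.1 * R X * (c⁻¹).1) * (c.1 * R X * (c⁻¹).1) = 1 := by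
    intro X
    have e1 : st q (c.1 * R X * (c⁻¹).1) * (c.1 * R X * (c⁻¹).1) =
        st q (c⁻¹).1 * R (st q X * G * X) * (c⁻¹).1 := by
      rw [map_mul, map_mul, hG', ← hst]
      simp only [st_mul, mul_assoc]
    have e2 : st q (c⁻¹).1 * R G * (c⁻¹).1 = 1 := by
      rw [hG', ← mul_assoc, ← st_mul, Units.mul_inv, st_one, one_mul, Units.mul_inv]
    rw [e1]
    refine ⟨fun h => by rw [h, e2], fun h => ?_⟩
    have hL : IsUnit (st q (c⁻¹).1) := ⟨⟨st q (c⁻¹).1, st q c.1, by rw [← st_mul, Units.mul_inv, st_one],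
      by rw [← st_mul, Units.inv_mul, st_one]⟩, rfl⟩
    exact R.injective (hL.mul_left_cancel ((c⁻¹).isUnit.mul_right_cancel (h.trans e2.symm)))
  have hcard : Nat.card ↥(Subgroup.centralizer ({u} : Set ↥(Cfsg.GU n K q))) =
      Nat.card {X : Matrix (Idx d) (Idx d) K // Commute (shift K d) X ∧ st q X * G * X = G} := by
    refine (Nat.card_congr (Equiv.trans (Equiv.subtypeEquiv
      (R.toEquiv.trans ((Units.mulLeft c).trans (Units.mulRight c⁻¹))) (fun X => ?_) :
      _ ≃ {Z : Matrix (Fin n) (Fin n) K // Z * u.1.1 = u.1.1 * Z ∧ st q Z * Z = 1}) ?_)).symm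
    · show _ ↔ c.1 * R X * (c⁻¹).1 * _ = _ * (c.1 * R X * (c⁻¹).1) ∧
        st q (c.1 * R X * (c⁻¹).1) * (c.1 * R X * (c⁻¹).1) = 1
      rw [← hcomm, ← hiso]
    · exact {
        toFun := fun Z => ⟨⟨⟨Z.1, st q Z.1, mul_eq_one_comm.1 Z.2.2, Z.2.2⟩, (mem_GU_st _).2 Z.2.2⟩,
          Subgroup.mem_centralizer_singleton_iff.2 (Subtype.ext (Units.ext Z.2.1))⟩
        invFun := fun g => ⟨g.1.1.1,
          congrArg (fun x : ↥(Cfsg.GU n K q) => x.1.1) (Subgroup.mem_centralizer_singleton_iff.1 g.2),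
          (mem_GU_st _).1 g.1.2⟩
        left_inv := fun Z => rfl
        right_inv := fun g => Subtype.ext (Subtype.ext (Units.ext rfl)) }
  rw [hcard, card_centralizer hd hJ hG hu', card_rest d hd, Nat.cast_mul, Nat.cast_pow, Finset.prod_range,
    Nat.cast_prod]
  congr 1
  refine Finset.prod_congr rfl fun i _ => ?_
  rw [UnitaryOrder.card_GU hK, ← Fintype.card_subtype, Nat.cast_mul, Nat.cast_pow, Finset.prod_range,
    Nat.cast_prod]
  congr 1
  refine Finset.prod_congr rfl fun j _ => ?_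
  have hq : 1 ≤ q ^ ((j : ℕ) + 1) := Nat.one_le_pow _ _ (by have := AutPSU.two_le_q (F := K) (q := q); omega)
  split_ifs with hj
  · rw [pow_succ (-1 : ℤ), hj.neg_one_pow]
    push_cast
    ring
  · rw [Nat.cast_sub hq, pow_succ (-1 : ℤ), (Nat.not_even_iff_odd.1 hj).neg_one_pow]
    push_cast
    ring

/-- Order of the centraliser in the general unitary group GU_n(q) of a unipotent element of given Jordan type: if u ∈ GU_n(q) (isometries of Σ u_i v_i^q over the field with q² elements) is similar to the unipotent matrix with a_i Jordan blocks of size i (all sizes at least 1), then its centraliser in GU_n(q) has order q^γ · Π_i |GU_(a_i)(q)| with γ = 2 Σ_(i<j) i a_i a_j + Σ_i (i − 1) a_i², the same exponent as in GL_n(q), where |GU_a(q)| = q^(a(a−1)/2) Π_(k=1)^a (q^k − (−1)^k). -/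
theorem result {K : Type*} [Field K] [Fintype K] {q n t : ℕ} (hK : Fintype.card K = q ^ 2) (d : Fin t → ℕ) (hd : ∀ k, 1 ≤ d k) (e : ((k : Fin t) × Fin (d k)) ≃ Fin n) (u : ↥(Cfsg.GU n K q)) (hu : IsConj (Matrix.reindex e e (Cfsg.jordanTypeMatrix d K)) ((u : GL (Fin n) K) : Matrix (Fin n) (Fin n) K)) : (Nat.card ↥(Subgroup.centralizer ({u} : Set ↥(Cfsg.GU n K q))) : ℤ) = (q : ℤ) ^ (2 * (∑ i ∈ Finset.range (Finset.univ.sup d + 1), ∑ j ∈ Finset.range (Finset.univ.sup d + 1), if i < j then i * (Finset.univ.filter (fun k : Fin t => d k = i)).card * (Finset.univ.filter (fun k : Fin t => d k = j)).card else 0) + ∑ i ∈ Finset.range (Finset.univ.sup d + 1), (i - 1) * (Finset.univ.filter (fun k : Fin t => d k = i)).card ^ 2) * ∏ i ∈ Finset.range (Finset.univ.sup d + 1), ((q : ℤ) ^ ((Finset.univ.filter (fun k : Fin t => d k = i)).card * ((Finset.univ.filter (fun k : Fin t => d k = i)).card - 1) / 2) * ∏ j : Fin (Finset.univ.filter (fun k : Fin t => d k = i)).card, ((q :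 ℤ) ^ ((j : ℕ) + 1) - (-1) ^ ((j : ℕ) + 1))) := by
  exact aux hK d hd e u hu

end Cfsg.Agent.S2646
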