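import Cfsg.Statements.S2653
import Cfsg.Agent.Lib.AltDegree.Reduce

set_option autoImplicit false
open scoped MatrixGroups
open Cfsg

namespace Cfsg.Agent.S2653

/-- Alternating sections of finite linear groups. Let `F` be a finite field of characteristic `p` and `n` a natural number, and suppose some subgroup `H` of GL_n(F) has a normal subgroup `K` with `H ⧸ K` isomorphic to the alternating group of degree `r ≥ 9`. Then `n ≥ r - 2` when `p` divides `r`, and `n ≥ r - 1` otherwise (the smallest degree of a nontrivial projective representation of that alternating group in characteristic `p`). The same bound follows for every classical group with natural module of dimension `n` over `F`, since each is a section of a subgroup of GL_n(F). -/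
theorem result {F : Type*} [Field F] [Fintype F] (p : ℕ) [Fact p.Prime] [CharP F p]
    (n : ℕ) (r : ℕ) (H : Subgroup (GL (Fin n) F)) (K : Subgroup ↥H) [K.Normal]
    (h : Nonempty (↥H ⧸ K ≃* ↥(alternatingGroup (Fin r)))) (hr : 9 ≤ r) :
    r - 1 - (if p ∣ r then 1 else 0) ≤ n := by
  classical
  obtain ⟨e⟩ := h
  letI : Algebra (ZMod p) F := ZMod.algebra F p
  haveI : Module.Finite (ZMod p) F := Module.Finite.of_finite
  haveI : Algebra.IsAlgebraic (ZMod p) F := Algebra.IsAlgebraic.of_finite (ZMod p) F
  let k := AlgebraicClosure (ZMod p)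
  let φ : F →+* k := (IsAlgClosed.lift : F →ₐ[ZMod p] k).toRingHom
  let up : GL (Fin n) F →* GL (Fin n) k := Matrix.GeneralLinearGroup.map φ
  have hup : Function.Injective up := fun a b hab =>
    Units.ext (Matrix.map_injective φ.injective (congrArg Units.val hab))
  let f : ↥H →* GL (Fin n) k := up.comp H.subtype
  have hf : Function.Injective f := hup.comp H.subtype_injective
  let iso : ↥H ≃* ↥f.range := MonoidHom.ofInjective hf
  let π : ↥f.range →* ↥(alternatingGroup (Fin r)) :=
    (e.toMonoidHom.comp (QuotientGroup.mk' K)).comp iso.symm.toMonoidHom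
  have hπ : Function.Surjective π := e.surjective.comp ((QuotientGroup.mk'_surjective K).comp iso.symm.surjective)
  haveI : Finite ↥f.range := Finite.of_equiv ↥H iso.toEquiv
  let ρ : ↥f.range →* ((Fin n → k) ≃ₗ[k] (Fin n → k)) :=
    (LinearMap.GeneralLinearGroup.generalLinearEquiv k (Fin n → k)).toMonoidHom.comp
      ((Units.map ((Matrix.toLinAlgEquiv' : Matrix (Fin n) (Fin n) k ≃ₐ[k] _).toMulEquiv.toMonoidHom)).comp
        f.range.subtype)
  have hker : ρ.ker ≤ π.ker := fun g hg => by
    have h1 : Matrix.toLinAlgEquiv' ((g : GL (Fin n) k) : Matrix (Fin n) (Fin n) k) = 1 :=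
      LinearMap.ext fun v => LinearEquiv.congr_fun (MonoidHom.mem_ker.1 hg) v
    have h2 : (g : GL (Fin n) k) = 1 := Units.ext (Matrix.toLinAlgEquiv'.injective (h1.trans (map_one _).symm))
    rw [MonoidHom.mem_ker, show g = 1 from Subtype.ext h2, map_one]
  obtain ⟨h1, h2⟩ := Cfsg.Agent.AltDegree.bnd_all n r hr k (Fin n → k) ↥f.range ρ π hπ hker (Module.finrank_fin_fun k)
  split_ifs with hd
  · omega
  · by_contra hlt
    haveI : CharP k p := charP_of_injective_algebraMap (algebraMap (ZMod p) k).injective p
    exact hd ((CharP.cast_eq_zero_iff k p r).1 (h2 (by omega)))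

end Cfsg.Agent.S2653
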