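import Cfsg.Statements.S2657
import Cfsg.Agent.Lib.AltSection.F4Section
-- import your own Cfsg.Agent.* helpers here

set_option autoImplicit false
open scoped MatrixGroups
open Cfsg

namespace Cfsg.Agent.S2657

/-- Alternating sections of the groups of type F₄. Let `F` be a finite field of characteristic `p` and let `G` be the Chevalley group of type F₄ over `F`. If some subgroup of `G` has a quotient isomorphic to the alternating group of degree `r`, then `r` is at most 10, or 11 in characteristic 11. (Only an upper bound is asserted.) -/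
theorem result {F : Type*} [Field F] [Fintype F] (p : ℕ) [Fact p.Prime] [CharP F p]
    (r : ℕ) (H : Subgroup ↥(Cfsg.Lie.chevF4.group F)) (K : Subgroup ↥H) [K.Normal]
    (h : Nonempty (↥H ⧸ K ≃* ↥(alternatingGroup (Fin r)))) :
    r ≤ 10 + (if p = 11 then 1 else 0) := by
  classical
  by_cases hp : p = 11
  · rw [if_pos hp]
    haveI : NeZero 3 := ⟨by norm_num⟩
    letI := Fintype.ofFinite (FiniteField.Extension F p 3)
    obtain ⟨n, -, hn⟩ := FiniteField.card F p
    have hcard : Fintype.card (FiniteField.Extension F p 3) = (11 ^ 3) ^ (n : ℕ) := by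
      rw [← Nat.card_eq_fintype_card, FiniteField.natCard_extension, Nat.card_eq_fintype_card, hn, hp, ← pow_mul,
        ← pow_mul, mul_comm]
    let f : ↥(Cfsg.Lie.chevF4.group F) →* ↥(Cfsg.Lie.chevF4.group (FiniteField.Extension F p 3)) :=
      ((Cfsg.Agent.Chev.gmap Cfsg.Lie.chevF4 (algebraMap F (FiniteField.Extension F p 3))).comp
        (Cfsg.Lie.chevF4.group F).subtype).codRestrict _ fun x =>
          Cfsg.Agent.Chev.F4.ok.map_group_le _ (Subgroup.mem_map_of_mem _ x.2)
    exact Cfsg.Agent.AltSection.le_eleven_F4 (by rw [hcard, Nat.pow_mod]; norm_num)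
      (by rw [hcard, Nat.pow_mod]; norm_num) f
      (fun a b e => Subtype.ext (Cfsg.Agent.Chev.gmap_injective _ (congrArg Subtype.val e))) r H K h
  · rw [if_neg hp]
    haveI : NeZero 10 := ⟨by norm_num⟩
    letI := Fintype.ofFinite (FiniteField.Extension F p 10)
    have h11 : Fintype.card (FiniteField.Extension F p 10) % 11 = 1 := by
      rw [← Nat.card_eq_fintype_card, FiniteField.natCard_extension, Nat.card_eq_fintype_card]
      obtain ⟨n, hpr, hn⟩ := FiniteField.card F p
      have hne : Fintype.card F % 11 ≠ 0 := fun h0 => hp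
        ((Nat.prime_dvd_prime_iff_eq (by norm_num) hpr).1 ((by norm_num : Nat.Prime 11).dvd_of_dvd_pow
          (hn ▸ Nat.dvd_of_mod_eq_zero h0))).symm
      rw [Nat.pow_mod]
      have := Nat.mod_lt (Fintype.card F) (show 0 < 11 by norm_num)
      interval_cases (Fintype.card F % 11) <;> simp_all
    let f : ↥(Cfsg.Lie.chevF4.group F) →* ↥(Cfsg.Lie.chevF4.group (FiniteField.Extension F p 10)) :=
      ((Cfsg.Agent.Chev.gmap Cfsg.Lie.chevF4 (algebraMap F (FiniteField.Extension F p 10))).comp
        (Cfsg.Lie.chevF4.group F).subtype).codRestrict _ fun x =>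
          Cfsg.Agent.Chev.F4.ok.map_group_le _ (Subgroup.mem_map_of_mem _ x.2)
    exact Cfsg.Agent.AltSection.le_ten_F4 h11 f
      (fun a b e => Subtype.ext (Cfsg.Agent.Chev.gmap_injective _ (congrArg Subtype.val e))) r H K h

end Cfsg.Agent.S2657
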