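import Cfsg.Statements.S2658
import Cfsg.Agent.Lib.AltSection.G2
-- import your own Cfsg.Agent.* helpers here

set_option autoImplicit false
open scoped MatrixGroups
open Cfsg

namespace Cfsg.Agent.S2658

/-- Alternating sections of the groups of type G₂. Let `F` be a finite field of characteristic `p` and let `G` be the Chevalley group of type G₂ over `F`. If some subgroup of `G` has a quotient isomorphic to the alternating group of degree `r`, then `r` is at most 6, or 7 in characteristic 5. (Only an upper bound is asserted.) -/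
theorem result {F : Type*} [Field F] [Fintype F] (p : ℕ) [Fact p.Prime] [CharP F p]
    (r : ℕ) (H : Subgroup ↥(Cfsg.Lie.chevG2.group F)) (K : Subgroup ↥H) [K.Normal]
    (h : Nonempty (↥H ⧸ K ≃* ↥(alternatingGroup (Fin r)))) :
    r ≤ 6 + (if p = 5 then 1 else 0) := by
  classical
  by_cases hp : p = 5
  · rw [if_pos hp]
    refine le_trans (Cfsg.Agent.AltSection.le_seven_G2 ?_ r H K h) (by norm_num)
    obtain ⟨n, -, hn⟩ := FiniteField.card F p
    rw [hn, hp, Nat.pow_mod]
    norm_num
  · rw [if_neg hp]
    haveI : NeZero 4 := ⟨by norm_num⟩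
    letI := Fintype.ofFinite (FiniteField.Extension F p 4)
    have h5 : Fintype.card (FiniteField.Extension F p 4) % 5 = 1 := by
      rw [← Nat.card_eq_fintype_card, FiniteField.natCard_extension, Nat.card_eq_fintype_card]
      obtain ⟨n, hpr, hn⟩ := FiniteField.card F p
      have hne : Fintype.card F % 5 ≠ 0 := fun h0 => hp
        ((Nat.prime_dvd_prime_iff_eq (by norm_num) hpr).1 ((by norm_num : Nat.Prime 5).dvd_of_dvd_pow
          (hn ▸ Nat.dvd_of_mod_eq_zero h0))).symm
      rw [Nat.pow_mod]
      have := Nat.mod_lt (Fintype.card F) (show 0 < 5 by norm_num)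
      interval_cases (Fintype.card F % 5) <;> simp_all
    let f : ↥(Cfsg.Lie.chevG2.group F) →* ↥(Cfsg.Lie.chevG2.group (FiniteField.Extension F p 4)) :=
      ((Cfsg.Agent.Chev.gmap Cfsg.Lie.chevG2 (algebraMap F (FiniteField.Extension F p 4))).comp
        (Cfsg.Lie.chevG2.group F).subtype).codRestrict _ fun x =>
          Cfsg.Agent.Chev.G2.ok.map_group_le _ (Subgroup.mem_map_of_mem _ x.2)
    exact Cfsg.Agent.AltSection.le_six (Cfsg.Agent.AltSection.fiveLocal_G2 h5) f
      (fun a b e => Subtype.ext (Cfsg.Agent.Chev.gmap_injective _ (congrArg Subtype.val e))) r H K h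

end Cfsg.Agent.S2658
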