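import Cfsg.Statements.S2660
import Cfsg.Agent.Lib.AltSection.D4
-- import your own Cfsg.Agent.* helpers here

set_option autoImplicit false
open scoped MatrixGroups
open Cfsg

namespace Cfsg.Agent.S2660

/-- Alternating sections of the triality-twisted groups ³D₄. Let `q = p^a` be a prime power and `K` a field with `q³` elements, and let `G` be the twisted group ³D₄(q) realised over `K`. If some subgroup of `G` has a quotient isomorphic to the alternating group of degree `r`, then `r` is at most 6, or 7 in characteristic 5. (Only an upper bound is asserted.) -/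
theorem result {K : Type*} [Field K] [Fintype K] (p a : ℕ) [Fact p.Prime] [CharP K p]
    (ha : 1 ≤ a) (hK : Fintype.card K = (p ^ a) ^ 3) (r : ℕ) (H : Subgroup ↥(Cfsg.Lie.twistedD4 K (p ^ a))) (N : Subgroup ↥H) [N.Normal]
    (h : Nonempty (↥H ⧸ N ≃* ↥(alternatingGroup (Fin r)))) :
    r ≤ 6 + (if p = 5 then 1 else 0) := by
  classical
  have hpr : p.Prime := Fact.out
  have hq : IsPrimePow (p ^ a) := hpr.isPrimePow.pow (by omega)
  by_cases hp : p = 5
  · rw [if_pos hp]
    refine le_trans (Cfsg.Agent.AltSection.le_seven_D4 hq hK ?_ r H N h) (by norm_num)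
    rw [hp, Nat.pow_mod]
    norm_num
  · rw [if_neg hp]
    haveI : NeZero 4 := ⟨by norm_num⟩
    letI := Fintype.ofFinite (FiniteField.Extension K p 4)
    have hL : Fintype.card (FiniteField.Extension K p 4) = ((p ^ a) ^ 4) ^ 3 := by
      rw [← Nat.card_eq_fintype_card, FiniteField.natCard_extension, Nat.card_eq_fintype_card, hK, ← pow_mul,
        ← pow_mul, ← pow_mul, ← pow_mul]
    have h5 : (p ^ a) ^ 4 % 5 = 1 := by
      have hne : p ^ a % 5 ≠ 0 := fun h0 => hp
        ((Nat.prime_dvd_prime_iff_eq (by norm_num) hpr).1 ((by norm_num : Nat.Prime 5).dvd_of_dvd_pow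
          (Nat.dvd_of_mod_eq_zero h0))).symm
      rw [Nat.pow_mod]
      have := Nat.mod_lt (p ^ a) (show 0 < 5 by norm_num)
      interval_cases (p ^ a % 5) <;> simp_all
    let f : ↥(Cfsg.Lie.twistedD4 K (p ^ a)) →*
        ↥(Cfsg.Lie.twistedD4 (FiniteField.Extension K p 4) ((p ^ a) ^ 4)) :=
      ((Cfsg.Agent.Chev.gmap Cfsg.Lie.chevD4 (algebraMap K (FiniteField.Extension K p 4))).comp
        (Cfsg.Lie.twistedD4 K (p ^ a)).subtype).codRestrict _ fun x =>
          Cfsg.Agent.AltSection.map_le _ hK (Subgroup.mem_map_of_mem _ x.2)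
    exact Cfsg.Agent.AltSection.le_six (Cfsg.Agent.AltSection.fiveLocal_D4 (hq.pow (by norm_num)) hL h5) f
      (fun a b e => Subtype.ext (Cfsg.Agent.Chev.gmap_injective _ (congrArg Subtype.val e))) r H N h

end Cfsg.Agent.S2660
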