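import Cfsg.Statements.S2661
import Cfsg.Agent.Lib.Chev.TwF4Seven
import Mathlib.GroupTheory.Perm.ViaEmbedding
-- import your own Cfsg.Agent.* helpers here

set_option autoImplicit false
open scoped MatrixGroups
open Cfsg

namespace Cfsg.Agent.S2661

/-- Alternating sections of the large Ree groups ²F₄. Let `m ≥ 1`, let `K` be a field with `2^(2m+1)` elements and let `G` be the large Ree group ²F₄(2^(2m+1)) realised over `K`. If some subgroup of `G` has a quotient isomorphic to the alternating group of degree `r`, then `r ≤ 6`. (Only an upper bound is asserted.) -/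
theorem result {K : Type*} [Field K] [Fintype K] {m : ℕ} (hm : 1 ≤ m)
    (hK : Fintype.card K = 2 ^ (2 * m + 1)) (r : ℕ) (H : Subgroup ↥(Cfsg.Lie.twistedF4 K (2 ^ m))) (N : Subgroup ↥H) [N.Normal]
    (h : Nonempty (↥H ⧸ N ≃* ↥(alternatingGroup (Fin r)))) :
    r ≤ 6 := by
  classical
  by_contra hr
  obtain ⟨e⟩ := h
  haveI : CharP K 2 := Cfsg.Agent.Chev.TwF4.charP_two hK
  haveI : Fact (Nat.Prime 7) := ⟨by norm_num⟩
  obtain ⟨φ, G, -, hφ, hG, hO⟩ := Cfsg.Agent.Chev.TwF4.setup hK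
  -- the projection
  let π : ↥H →* ↥(alternatingGroup (Fin r)) := e.toMonoidHom.comp (QuotientGroup.mk' N)
  have hπ : Function.Surjective π := e.surjective.comp (QuotientGroup.mk'_surjective N)
  -- two elements of the alternating group of degree seven
  have key : ∃ u w : Equiv.Perm (Fin 7), Equiv.Perm.sign u = 1 ∧ Equiv.Perm.sign w = 1 ∧ u ^ 7 = 1 ∧ u ≠ 1 ∧
      w ^ 3 = 1 ∧ w * u * w⁻¹ = u ^ 2 :=
    ⟨⟨![1, 2, 3, 4, 5, 6, 0], ![6, 0, 1, 2, 3, 4, 5], by decide, by decide⟩,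
      ⟨![0, 2, 4, 6, 1, 3, 5], ![0, 4, 1, 5, 2, 6, 3], by decide, by decide⟩,
      by decide +kernel, by decide +kernel, by decide +kernel, by decide +kernel, by decide +kernel,
      by decide +kernel⟩
  obtain ⟨u7, w7, su, sw, hu7, hu1, hw3, hconj⟩ := key
  let emb : Fin 7 ↪ Fin r := ⟨Fin.castLE (by omega), Fin.castLE_injective _⟩
  let v := Equiv.Perm.viaEmbeddingHom emb
  have hsign : ∀ x, Equiv.Perm.sign x = 1 → v x ∈ alternatingGroup (Fin r) := fun x hx => by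
    rw [Equiv.Perm.mem_alternatingGroup]
    rw [← hx, ← Equiv.Perm.viaFintypeEmbedding_sign x emb]
    congr 1
    refine Equiv.ext fun a => ?_
    by_cases ha : a ∈ Set.range emb
    · obtain ⟨c, rfl⟩ := ha
      rw [Equiv.Perm.viaFintypeEmbedding_apply_image]
      exact Equiv.Perm.viaEmbedding_apply x emb c
    · rw [Equiv.Perm.viaFintypeEmbedding_apply_notMem_range (e := x) (f := emb) (b := a) ha]
      exact Equiv.Perm.viaEmbedding_apply_of_notMem x emb a ha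
  set u : ↥(alternatingGroup (Fin r)) := ⟨v u7, hsign _ su⟩
  set w : ↥(alternatingGroup (Fin r)) := ⟨v w7, hsign _ sw⟩
  have hu : u ^ 7 = 1 := Subtype.ext (by show v u7 ^ 7 = 1; rw [← map_pow, hu7, map_one])
  have hune : u ≠ 1 := fun h => hu1 (Equiv.Perm.viaEmbeddingHom_injective emb
    (by rw [map_one]; exact congrArg Subtype.val h))
  have hwu : w * u * w⁻¹ = u ^ 2 := Subtype.ext (by
    show v w7 * v u7 * (v w7)⁻¹ = v u7 ^ 2
    rw [← map_inv, ← map_mul, ← map_mul, hconj, map_pow])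
  -- seven divides the order of the torus
  have h7 : 7 ∣ Fintype.card K - 1 := by
    have h1 : 7 ∣ Nat.card ↥(alternatingGroup (Fin r)) := by
      rw [← orderOf_eq_prime hu hune]; exact orderOf_dvd_natCard _
    have h2 : 7 ∣ Nat.card ↥(Cfsg.Lie.twistedF4 K (2 ^ m)) :=
      (h1.trans (Subgroup.card_dvd_of_surjective π hπ)).trans (Subgroup.card_subgroup_dvd_card H)
    rw [← hG, Cfsg.Agent.Chev.TwF4.card_G1 φ hφ G hO, hK] at h2
    rw [hK]
    have h7' : ∀ k, 2 ^ (3 * k) % 7 = 1 := fun k => by rw [pow_mul, Nat.pow_mod]; norm_num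
    have hq : 2 ^ (2 * m + 1) % 7 = 1 ∨ 2 ^ (2 * m + 1) % 7 = 2 ∨ 2 ^ (2 * m + 1) % 7 = 4 := by
      conv => enter [1, 1, 1]; rw [← Nat.div_add_mod (2 * m + 1) 3, pow_add]
      conv => enter [2, 1, 1, 1]; rw [← Nat.div_add_mod (2 * m + 1) 3, pow_add]
      conv => enter [2, 2, 1, 1]; rw [← Nat.div_add_mod (2 * m + 1) 3, pow_add]
      rw [Nat.mul_mod, h7', one_mul, Nat.mod_mod]
      have := Nat.mod_lt (2 * m + 1) (show 0 < 3 by norm_num)
      interval_cases (2 * m + 1) % 3 <;> simp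
    have hp := Nat.one_le_two_pow (n := 2 * m + 1)
    revert h2 hq hp
    generalize 2 ^ (2 * m + 1) = q
    intro h2 hq hp
    have hmod := Nat.dvd_iff_mod_eq_zero.1 h2
    rcases hq with hq | hq | hq
    · omega
    all_goals
      exfalso
      have h4 : (q ^ 4 - 1) % 7 = (q ^ 4 % 7 + 6) % 7 := by
        have : 1 ≤ q ^ 4 := Nat.one_le_pow _ _ hp
        omega
      have h5 : (q - 1) % 7 = (q % 7 + 6) % 7 := by omega
      simp [Nat.mul_mod, Nat.add_mod, Nat.pow_mod, h4, h5, hq] at hmod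
  -- a seven-group over u
  let U : Subgroup ↥H := (Subgroup.zpowers u).comap π
  let S : Sylow 7 ↥U := Classical.arbitrary _
  let S0 : Subgroup ↥H := (S : Subgroup ↥U).map U.subtype
  obtain ⟨s, hsS, hsu⟩ : ∃ s ∈ S0, π s = u := by
    let πU : ↥U →* ↥(Subgroup.zpowers u) := (π.comp U.subtype).codRestrict _ fun x => x.2
    have hπU : Function.Surjective πU := fun y => by
      obtain ⟨x, hx⟩ := hπ y.1
      exact ⟨⟨x, show π x ∈ Subgroup.zpowers u from hx ▸ y.2⟩, Subtype.ext hx⟩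
    have htop : ((S.mapSurjective hπU : Sylow 7 ↥(Subgroup.zpowers u)) : Subgroup ↥(Subgroup.zpowers u)) = ⊤ :=
      ((S.mapSurjective hπU).is_maximal' ((IsPGroup.of_card (n := 1)
        (by rw [Nat.card_zpowers, orderOf_eq_prime hu hune, pow_one]) :
          IsPGroup 7 ↥(Subgroup.zpowers u)).to_subgroup ⊤) le_top).symm
    have hm' : (⟨u, Subgroup.mem_zpowers u⟩ : ↥(Subgroup.zpowers u)) ∈ (S : Subgroup ↥U).map πU := by
      rw [← Sylow.coe_mapSurjective hπU, htop]; exact Subgroup.mem_top _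
    obtain ⟨x, hx, hxe⟩ := hm'
    exact ⟨x, ⟨x, hx, rfl⟩, congrArg Subtype.val hxe⟩
  have hS0p : IsPGroup 7 ↥S0 := S.2.map _
  have hS0U : S0 ≤ U := by rintro _ ⟨x, -, rfl⟩; exact x.2
  -- an element over w normalising it
  obtain ⟨h1, hh1⟩ := hπ w
  have hUn : ∀ x ∈ U, h1 * x * h1⁻¹ ∈ U := fun x hx => by
    have hx' : π x ∈ Subgroup.zpowers u := hx
    show π (h1 * x * h1⁻¹) ∈ Subgroup.zpowers u
    obtain ⟨i, hi⟩ := Subgroup.mem_zpowers_iff.1 hx'
    rw [map_mul, map_mul, map_inv, hh1, ← hi]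
    refine ⟨2 * i, ?_⟩
    show u ^ (2 * i) = w * u ^ i * w⁻¹
    rw [zpow_mul, zpow_ofNat, ← hwu, conj_zpow]
  let S' : Subgroup ↥U := (S0.map (MulAut.conj h1).toMonoidHom).subgroupOf U
  have hS'le : S0.map (MulAut.conj h1).toMonoidHom ≤ U := by
    rintro _ ⟨x, hx, rfl⟩; exact hUn x (hS0U hx)
  have hS'c : Nat.card S' = 7 ^ (Nat.card ↥U).factorization 7 := by
    rw [Nat.card_congr (Subgroup.subgroupOfEquivOfLe hS'le).toEquiv,
      ← Nat.card_congr (S0.equivMapOfInjective _ (MulAut.conj h1).injective).toEquiv,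
      ← Nat.card_congr ((S : Subgroup ↥U).equivMapOfInjective _ U.subtype_injective).toEquiv, S.card_eq_multiplicity]
  obtain ⟨y, hy⟩ := MulAction.exists_smul_eq ↥U (Sylow.ofCard S' hS'c) S
  set h0 : ↥H := (y : ↥H) * h1
  have hn0 : ∀ x ∈ S0, h0 * x * h0⁻¹ ∈ S0 := by
    intro x hx
    have hm1 : (⟨h1 * x * h1⁻¹, hS'le ⟨x, hx, rfl⟩⟩ : ↥U) ∈ S' := ⟨x, hx, rfl⟩
    have hm2 : y * ⟨h1 * x * h1⁻¹, hS'le ⟨x, hx, rfl⟩⟩ * y⁻¹ ∈ (S : Subgroup ↥U) := by
      rw [← hy, Sylow.coe_subgroup_smul]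
      exact Subgroup.smul_mem_pointwise_smul _ (MulAut.conj y) _ hm1
    refine ⟨_, hm2, ?_⟩
    simp [h0, mul_assoc]
  -- the three-part
  obtain ⟨a, n, hn, hord⟩ := Nat.exists_eq_pow_mul_and_not_dvd (orderOf_pos h0).ne' 3 (by norm_num)
  have hhn : ∀ (k : ℕ) x, x ∈ S0 → h0 ^ k * x * (h0 ^ k)⁻¹ ∈ S0 := fun k => by
    induction k with
    | zero => intro x hx; simpa using hx
    | succ k ih =>
      intro x hx
      have := hn0 _ (ih x hx)
      rwa [pow_succ', show h0 * h0 ^ k * x * (h0 * h0 ^ k)⁻¹ = h0 * (h0 ^ k * x * (h0 ^ k)⁻¹) * h0⁻¹ by group]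
  have hlocal := Cfsg.Agent.Chev.TwF4.seven_local hK h7 (S := S0.map H.subtype) (hS0p.map _)
    (g := ((h0 ^ n : ↥H) : ↥(Cfsg.Lie.twistedF4 K (2 ^ m))))
    (by rintro _ ⟨x, hx, rfl⟩; exact ⟨_, hhn n x hx, by simp⟩)
    (k := a) (by rw [← Subgroup.coe_pow, ← pow_mul, mul_comm, ← hord, pow_orderOf_eq_one]; rfl) _ ⟨s, hsS, rfl⟩
  have hcomm : Commute (π h0 ^ n) u := by
    rw [← map_pow, ← hsu]
    exact (show Commute (h0 ^ n) s from Subtype.ext hlocal.eq).map π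
  -- the action on u
  obtain ⟨i, hi⟩ := Subgroup.mem_zpowers_iff.1 (y.2 : π (y : ↥H) ∈ Subgroup.zpowers u)
  have h0u : π h0 * u * (π h0)⁻¹ = u ^ 2 := by
    rw [map_mul, hh1, ← hi]
    calc u ^ i * w * u * (u ^ i * w)⁻¹ = u ^ i * (w * u * w⁻¹) * (u ^ i)⁻¹ := by group
      _ = u ^ 2 := by rw [hwu, ← zpow_natCast, ← zpow_add, ← zpow_neg, ← zpow_add]; congr 1; ring
  have hiter : ∀ k : ℕ, π h0 ^ k * u * (π h0 ^ k)⁻¹ = u ^ 2 ^ k := fun k => by
    induction k with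
    | zero => simp
    | succ k ih =>
      rw [pow_succ', show π h0 * π h0 ^ k * u * (π h0 * π h0 ^ k)⁻¹ =
        π h0 * (π h0 ^ k * u * (π h0 ^ k)⁻¹) * (π h0)⁻¹ by group, ih, ← conj_pow, h0u, ← pow_mul, pow_succ']
  have h2n : u ^ 2 ^ n = u := by rw [← hiter n, hcomm.eq, mul_inv_cancel_right]
  have hmod : 2 ^ n % 7 = 1 := by
    have : u ^ 2 ^ n = u ^ 1 := by rw [h2n, pow_one]
    rw [pow_eq_pow_iff_modEq, orderOf_eq_prime hu hune] at this
    exact this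
  have : ∀ j : Fin 3, j.val ≠ 0 → 2 ^ j.val % 7 ≠ 1 := by decide
  refine this ⟨n % 3, Nat.mod_lt _ (by norm_num)⟩ (fun h => hn (Nat.dvd_of_mod_eq_zero h)) ?_
  rw [← hmod]
  conv_rhs => rw [← Nat.div_add_mod n 3, pow_add, pow_mul, Nat.mul_mod, Nat.pow_mod]
  norm_num

end Cfsg.Agent.S2661
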