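import Cfsg.Statements.S2665
-- import your own Cfsg.Agent.* helpers here

set_option autoImplicit false
open scoped MatrixGroups
open Cfsg

namespace Cfsg.Agent.S2665

/-- A Frobenius-semilinear injective map has a nonzero fixed vector. -/
theorem exists_fixed {K V : Type*} [Field K] [IsAlgClosed K] [AddCommGroup V] [Module K V]
    [FiniteDimensional K V] [Nontrivial V] {q : ℕ} (hq : 2 ≤ q) (σ : K ≃+* K) (hσ : ∀ a, σ a = a ^ q)
    (φ : V →+ V) (hφ : ∀ (c : K) v, φ (c • v) = c ^ q • φ v) (hinj : Function.Injective φ) :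
    ∃ w, w ≠ 0 ∧ φ w = w := by
  classical
  obtain ⟨v, hv⟩ := exists_ne (0 : V)
  have hex : ∃ d : ℕ, ¬ LinearIndependent K (fun i : Fin d => φ^[(i : ℕ)] v) :=
    ⟨Module.finrank K V + 1, fun h => by
      have := h.fintype_card_le_finrank
      simp at this⟩
  obtain ⟨k, hk⟩ : ∃ k, Nat.find hex = k + 1 :=
    Nat.exists_eq_add_of_le' (Nat.one_le_iff_ne_zero.2 fun h => by
      have := Nat.find_spec hex
      rw [h] at this
      exact this linearIndependent_empty_type)
  have hnli : ¬ LinearIndependent K (fun i : Fin (k + 1) => φ^[(i : ℕ)] v) := by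
    have h := Nat.find_spec hex
    rwa [hk] at h
  have hli : LinearIndependent K (fun i : Fin k => φ^[(i : ℕ)] v) :=
    not_not.1 (Nat.find_min hex (show k < Nat.find hex by omega))
  obtain ⟨a, ha⟩ : ∃ a : Fin k → K, ∑ i, a i • φ^[(i : ℕ)] v = φ^[k] v := by
    refine (Submodule.mem_span_range_iff_exists_fun K).1 (by_contra fun h => hnli ?_)
    have h2 : LinearIndependent K (Fin.snoc (fun i : Fin k => φ^[(i : ℕ)] v) (φ^[k] v)) :=
      linearIndependent_finSnoc.2 ⟨hli, h⟩
    convert h2 using 1
    funext i
    induction i using Fin.lastCases with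
    | last => simp
    | cast i => simp
  have hk0 : k ≠ 0 := by
    rintro rfl
    simp at ha
    exact hv ha.symm
  obtain ⟨d, rfl⟩ := Nat.exists_eq_succ_of_ne_zero hk0
  have ha0 : a 0 ≠ 0 := by
    intro h0
    rw [Fin.sum_univ_succ, h0, zero_smul, zero_add] at ha
    have h1 : φ^[d] v - ∑ i : Fin d, σ.symm (a i.succ) • φ^[(i : ℕ)] v = 0 := by
      refine hinj ?_
      rw [map_sub, map_sum, map_zero, ← Function.iterate_succ_apply' φ d v, ← ha, sub_eq_zero]
      refine Finset.sum_congr rfl fun i _ => ?_
      rw [hφ, ← hσ, RingEquiv.apply_symm_apply, Fin.val_succ, Function.iterate_succ_apply']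
    have h2 := (Fintype.linearIndependent_iff.1 hli
      (Fin.snoc (fun i : Fin d => -σ.symm (a i.succ)) 1) ?_) (Fin.last d)
    · simp at h2
    · rw [Fin.sum_univ_castSucc]
      simp only [Fin.snoc_castSucc, Fin.snoc_last, neg_smul, Finset.sum_neg_distrib, Fin.val_castSucc,
        Fin.val_last, one_smul]
      rw [neg_add_eq_sub]
      exact h1
  -- the recursion for the coordinates of a fixed vector
  let a' : ℕ → K := fun i => if h : i < d + 1 then a ⟨i, h⟩ else 0
  have ha'0 : a' 0 = a 0 := dif_pos d.succ_pos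
  let P : ℕ → Polynomial K := fun i => Nat.rec (Polynomial.C (a' 0) * Polynomial.X ^ q)
    (fun j Pj => Pj ^ q + Polynomial.C (a' (j + 1)) * Polynomial.X ^ q) i
  have hP0 : P 0 = Polynomial.C (a' 0) * Polynomial.X ^ q := rfl
  have hPs : ∀ i, P (i + 1) = P i ^ q + Polynomial.C (a' (i + 1)) * Polynomial.X ^ q := fun i => rfl
  have hdeg : ∀ i, (P i).natDegree = q ^ (i + 1) := by
    intro i
    induction i with
    | zero => rw [hP0, ha'0, Polynomial.natDegree_C_mul_X_pow _ _ ha0, pow_one]
    | succ i ih =>
      rw [hPs, Polynomial.natDegree_add_eq_left_of_natDegree_lt, Polynomial.natDegree_pow, ih,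
        pow_succ' q (i + 1)]
      rw [Polynomial.natDegree_pow, ih]
      refine lt_of_le_of_lt (Polynomial.natDegree_C_mul_X_pow_le _ _) ?_
      calc q = q * 1 := (mul_one q).symm
        _ < q * q ^ (i + 1) := Nat.mul_lt_mul_of_pos_left (Nat.one_lt_pow (by omega) (by omega)) (by omega)
  have hX2 : ∀ i, Polynomial.X ^ 2 ∣ P i := by
    have hXq : (Polynomial.X : Polynomial K) ^ 2 ∣ Polynomial.X ^ q := pow_dvd_pow _ hq
    intro i
    induction i with
    | zero => exact hXq.mul_left _
    | succ i ih => exact dvd_add (ih.trans (dvd_pow_self _ (by omega))) (hXq.mul_left _)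
  obtain ⟨R, hR⟩ := hX2 d
  set S : Polynomial K := Polynomial.X * R - 1 with hS
  have hPS : P d - Polynomial.X = Polynomial.X * S := by rw [hS, hR]; ring
  have hS0 : Polynomial.eval 0 S = -1 := by simp [hS]
  have hSdeg : S.degree ≠ 0 := by
    intro h0
    have h1 : (P d - Polynomial.X).natDegree = q ^ (d + 1) := by
      rw [Polynomial.natDegree_sub_eq_left_of_natDegree_lt, hdeg]
      rw [hdeg, Polynomial.natDegree_X]
      exact Nat.one_lt_pow (by omega) (by omega)
    rw [hPS, Polynomial.natDegree_mul Polynomial.X_ne_zero (fun h => by simp [h] at hS0),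
      Polynomial.natDegree_X, Polynomial.natDegree_eq_zero_iff_degree_le_zero.2 h0.le] at h1
    have := Nat.one_lt_pow (show d + 1 ≠ 0 by omega) (show 1 < q by omega)
    omega
  obtain ⟨t, ht⟩ := IsAlgClosed.exists_root S hSdeg
  have ht0 : t ≠ 0 := fun h => by
    rw [Polynomial.IsRoot, h, hS0] at ht
    exact one_ne_zero (neg_eq_zero.1 ht)
  let x : ℕ → K := fun i => (P i).eval t
  have hxd : x d = t := by
    have h1 := congrArg (Polynomial.eval t) hPS
    rw [Polynomial.eval_sub, Polynomial.eval_X, Polynomial.eval_mul, ht.eq_zero, mul_zero, sub_eq_zero] at h1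
    exact h1
  refine ⟨∑ i : Fin (d + 1), x i • φ^[(i : ℕ)] v, fun h => ?_, ?_⟩
  · have := Fintype.linearIndependent_iff.1 hli (fun i => x i) h (Fin.last d)
    exact ht0 (hxd.symm.trans this)
  · rw [map_sum]
    simp only [hφ, ← Function.iterate_succ_apply']
    rw [Fin.sum_univ_castSucc (f := fun i : Fin (d + 1) => x i ^ q • φ^[(i : ℕ) + 1] v)]
    simp only [Fin.val_castSucc, Fin.val_last]
    rw [hxd, ← Nat.succ_eq_add_one d, ← ha, Finset.smul_sum,
      Fin.sum_univ_succ (f := fun i : Fin (d + 1) => t ^ q • a i • φ^[(i : ℕ)] v),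
      Fin.sum_univ_succ (f := fun i : Fin (d + 1) => x i • φ^[(i : ℕ)] v), ← add_assoc,
      add_comm _ (t ^ q • a 0 • φ^[((0 : Fin (d + 1)) : ℕ)] v), add_assoc, ← Finset.sum_add_distrib]
    congr 1
    · rw [smul_smul]
      congr 1
      show t ^ q * a 0 = x 0
      rw [show x 0 = (P 0).eval t from rfl, hP0, ha'0, Polynomial.eval_mul, Polynomial.eval_C,
        Polynomial.eval_pow, Polynomial.eval_X, mul_comm]
    · refine Finset.sum_congr rfl fun i _ => ?_
      rw [smul_smul, Fin.val_succ, ← add_smul]
      congr 1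
      show x i ^ q + t ^ q * a i.succ = x ((i : ℕ) + 1)
      have : a' ((i : ℕ) + 1) = a i.succ := dif_pos (by omega)
      rw [show x ((i : ℕ) + 1) = (P ((i : ℕ) + 1)).eval t from rfl, hPs, this, Polynomial.eval_add,
        Polynomial.eval_mul, Polynomial.eval_C, Polynomial.eval_pow, Polynomial.eval_pow, Polynomial.eval_X,
        mul_comm (t ^ q)]

/-- The fixed vectors span. -/
theorem span_fixed {K : Type*} [Field K] [IsAlgClosed K] {q : ℕ} (hq : 2 ≤ q) (σ : K ≃+* K)
    (hσ : ∀ a, σ a = a ^ q) : ∀ (k : ℕ) {V : Type _} [AddCommGroup V] [Module K V] [FiniteDimensional K V]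
    (φ : V →+ V), Module.finrank K V = k → (∀ (c : K) v, φ (c • v) = c ^ q • φ v) → Function.Injective φ →
    Submodule.span K {v : V | φ v = v} = ⊤ := by
  intro k
  induction k with
  | zero =>
    intro V _ _ _ φ hk _ _
    haveI : Subsingleton V := Module.finrank_zero_iff.1 hk
    exact Subsingleton.elim _ _
  | succ k ih =>
    intro V _ _ _ φ hk hφ hinj
    haveI : Nontrivial V := Module.nontrivial_of_finrank_pos (R := K) (by omega)
    obtain ⟨w, hw0, hw⟩ := exists_fixed hq σ hσ φ hφ hinj
    set W := Submodule.span K {w} with hWdef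
    have hWφ : W.toAddSubgroup ≤ AddSubgroup.comap φ W.toAddSubgroup := fun x hx => by
      obtain ⟨c, rfl⟩ := Submodule.mem_span_singleton.1 hx
      show φ (c • w) ∈ W
      rw [hφ, hw]
      exact W.smul_mem _ (Submodule.mem_span_singleton_self w)
    let ψ : (V ⧸ W) →+ (V ⧸ W) := QuotientAddGroup.map W.toAddSubgroup W.toAddSubgroup φ hWφ
    have hψmk : ∀ x, ψ (Submodule.Quotient.mk x) = Submodule.Quotient.mk (φ x) := fun x => rfl
    have hψinj : Function.Injective ψ := by
      rw [injective_iff_map_eq_zero]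
      intro y hy
      obtain ⟨x, rfl⟩ := Submodule.Quotient.mk_surjective W y
      rw [hψmk, Submodule.Quotient.mk_eq_zero] at hy
      rw [Submodule.Quotient.mk_eq_zero]
      obtain ⟨c, hc⟩ := Submodule.mem_span_singleton.1 hy
      refine Submodule.mem_span_singleton.2 ⟨σ.symm c, hinj ?_⟩
      rw [hφ, hw, ← hσ, RingEquiv.apply_symm_apply, hc]
    have hquot := ih ψ (by
        have := W.finrank_quotient_add_finrank
        rw [hk, show Module.finrank K W = 1 from finrank_span_singleton hw0] at this
        omega) (fun c y => by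
        obtain ⟨x, rfl⟩ := Submodule.Quotient.mk_surjective W y
        rw [← Submodule.Quotient.mk_smul, hψmk, hψmk, hφ, Submodule.Quotient.mk_smul]) hψinj
    set S := Submodule.span K {v : V | φ v = v} with hSdef
    have hWS : W ≤ S := Submodule.span_le.2 (by rintro x rfl; exact Submodule.subset_span hw)
    have hmap : S.map W.mkQ = ⊤ := by
      rw [← top_le_iff, ← hquot, Submodule.span_le]
      intro y hy
      obtain ⟨x, rfl⟩ := Submodule.Quotient.mk_surjective W y
      change ψ (Submodule.Quotient.mk x) = Submodule.Quotient.mk x at hy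
      rw [hψmk, Submodule.Quotient.eq] at hy
      obtain ⟨c, hc⟩ := Submodule.mem_span_singleton.1 hy
      obtain ⟨s, hs⟩ := IsAlgClosed.exists_root
        (Polynomial.X ^ q + (Polynomial.C c - Polynomial.X)) (by
          rw [Polynomial.degree_add_eq_left_of_degree_lt]
          · rw [Polynomial.degree_X_pow]; exact_mod_cast (show q ≠ 0 by omega)
          · rw [Polynomial.degree_X_pow]
            refine lt_of_le_of_lt (Polynomial.degree_sub_le _ _) (max_lt ?_ ?_)
            · exact lt_of_le_of_lt Polynomial.degree_C_le (by exact_mod_cast (show 0 < q by omega))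
            · rw [Polynomial.degree_X]; exact_mod_cast (show 1 < q by omega))
      simp only [Polynomial.IsRoot, Polynomial.eval_add, Polynomial.eval_sub, Polynomial.eval_pow,
        Polynomial.eval_X, Polynomial.eval_C] at hs
      refine ⟨x + s • w, Submodule.subset_span ?_, ?_⟩
      · show φ (x + s • w) = x + s • w
        have e : φ x = x + c • w := by rw [hc]; abel
        rw [map_add, hφ, hw, e, add_assoc, ← add_smul]
        congr 2
        linear_combination hs
      · exact (Submodule.Quotient.eq W).2 (by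
          simpa using W.smul_mem s (Submodule.mem_span_singleton_self w))
    rw [← top_le_iff]
    intro x _
    obtain ⟨s, hs, hsx⟩ : Submodule.Quotient.mk x ∈ S.map W.mkQ := hmap ▸ Submodule.mem_top
    have := S.add_mem hs (hWS ((Submodule.Quotient.eq W).1 hsx.symm))
    rwa [add_sub_cancel] at this


/-- The Lang–Steinberg Theorem for the general linear group. Let `K` be an algebraically closed field of prime characteristic `p`, let `q = p^f` with `f ≥ 1`, and let `σ` be the endomorphism of GL_n(K) raising every matrix entry to the `q`-th power. Then every element `g` of GL_n(K) can be written `g = x · σ(x)⁻¹` for some `x` in GL_n(K): the map `x ↦ x σ(x)⁻¹` is surjective. -/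
theorem result {K : Type*} [Field K] [IsAlgClosed K] (p : ℕ) [Fact p.Prime] [CharP K p]
    (f : ℕ) (hf : 1 ≤ f) (n : ℕ) (g : GL (Fin n) K) :
    ∃ x : GL (Fin n) K, g = x * (Matrix.GeneralLinearGroup.map (iterateFrobenius K p f) x)⁻¹ := by
  classical
  have hp := (Fact.out : p.Prime)
  have hq : 2 ≤ p ^ f := le_trans hp.two_le (Nat.le_self_pow (by omega) p)
  set G : Matrix (Fin n) (Fin n) K := (g : Matrix (Fin n) (Fin n) K)
  set σ := iterateFrobeniusEquiv K p f
  have hσ : ∀ a, σ a = a ^ p ^ f := fun a => iterateFrobeniusEquiv_def K p f a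
  let φ : (Fin n → K) →+ (Fin n → K) :=
    { toFun := fun v => G.mulVec (fun i => σ (v i))
      map_zero' := by
        rw [show (fun i => σ ((0 : Fin n → K) i)) = 0 from funext fun i => map_zero σ, Matrix.mulVec_zero]
      map_add' := fun u v => by
        rw [show (fun i => σ ((u + v) i)) = (fun i => σ (u i)) + fun i => σ (v i) from
          funext fun i => map_add σ _ _, Matrix.mulVec_add] }
  have hφ : ∀ (c : K) v, φ (c • v) = c ^ p ^ f • φ v := fun c v => by
    show G.mulVec _ = c ^ p ^ f • G.mulVec _
    rw [← Matrix.mulVec_smul]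
    congr 1
    funext i
    simp [← hσ c]
  have hinj : Function.Injective φ := fun u v h => funext fun i =>
    σ.injective (congrFun ((Matrix.mulVec_injective_iff_isUnit.2 g.isUnit) h) i)
  have hspan := span_fixed hq σ hσ _ φ rfl hφ hinj
  obtain ⟨s, hsS, hs, hsi⟩ := exists_linearIndependent K {v : Fin n → K | φ v = v}
  rw [hspan] at hs
  let b := Module.Basis.mk hsi (by rw [Subtype.range_coe, hs])
  haveI : Fintype s := FiniteDimensional.fintypeBasisIndex b
  let e : Fin n ≃ s := Fintype.equivOfCardEq (by
    rw [Fintype.card_fin, ← Module.finrank_eq_card_basis b, Module.finrank_fin_fun])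
  let X : Matrix (Fin n) (Fin n) K := Matrix.of fun i j => (e j : Fin n → K) i
  have hX : IsUnit X := Matrix.linearIndependent_cols_iff_isUnit.1 (hsi.comp e e.injective)
  refine ⟨hX.unit, ?_⟩
  rw [eq_mul_inv_iff_mul_eq]
  refine Units.ext ?_
  show G * X.map (iterateFrobenius K p f) = X
  ext i j
  exact congrFun (hsS (e j).2) i

end Cfsg.Agent.S2665
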