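import Cfsg.Statements.S2669
import Cfsg.Agent.Lib.Shintani.Basic

set_option autoImplicit false
open Cfsg

namespace Cfsg.Agent.S2669

open Cfsg.Agent.Shintani

/-- Shintani descent preserves numbers of fixed points on coset spaces (abstract form). Let `σ` be an automorphism of a group `X` and `e ≥ 1`; write `G` for the fixed points of `σᵉ` and `H` for the fixed points of `σ`, and assume `G` is finite. Let `Y` be a `σ`-stable subgroup of `X` on which the maps `a ↦ a σ(a)⁻¹` and `a ↦ a σᵉ(a)⁻¹` are surjective (as for a closed connected `σ`-stable subgroup of an algebraic group). Let `g ∈ G`, let `a ∈ X` satisfy `g = a σ(a)⁻¹` and put `x = σᵉ(a)⁻¹ a` (the Shintani image, an element of `H`). The element `g σ` of the semidirect product acts on the cosets of `Y ∩ G` in `G` by `k (Y ∩ G) ↦ g σ(k) (Y ∩ G)`, fixing that coset exactly when `k⁻¹ g σ(k) ∈ Y`;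 and `x` fixes the coset `h (Y ∩ H)` of `H` exactly when `h⁻¹ x h ∈ Y`. Then the two numbers of fixed cosets agree; in cross-multiplied form, `#{k ∈ G : k⁻¹ g σ(k) ∈ Y} · |Y ∩ H| = #{h ∈ H : h⁻¹ x h ∈ Y} · |Y ∩ G|`. -/
theorem result {X : Type*} [Group X] (σ : MulAut X) (e : ℕ) (he : 1 ≤ e)
    [Finite ↥((MulEquiv.toMonoidHom (σ ^ e)).eqLocus (MonoidHom.id X))]
    (Y : Subgroup X) (hY : ∀ y : X, y ∈ Y ↔ σ y ∈ Y)
    (hYL : ∀ y ∈ Y, ∃ a ∈ Y, y = a * (σ a)⁻¹) (hYLe : ∀ y ∈ Y, ∃ a ∈ Y, y = a * ((σ ^ e) a)⁻¹)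
    (g : X) (hg : g ∈ (MulEquiv.toMonoidHom (σ ^ e)).eqLocus (MonoidHom.id X)) (a : X) (ha : g = a * (σ a)⁻¹) :
    Nat.card {k : ↥((MulEquiv.toMonoidHom (σ ^ e)).eqLocus (MonoidHom.id X)) // (k : X)⁻¹ * g * σ k ∈ Y} *
        Nat.card ↥(Y ⊓ (MulEquiv.toMonoidHom σ).eqLocus (MonoidHom.id X)) =
      Nat.card {h : ↥((MulEquiv.toMonoidHom σ).eqLocus (MonoidHom.id X)) // (h : X)⁻¹ * (((σ ^ e) a)⁻¹ * a) * h ∈ Y} *
        Nat.card ↥(Y ⊓ (MulEquiv.toMonoidHom (σ ^ e)).eqLocus (MonoidHom.id X)) := by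
  classical
  subst ha
  set G := (MulEquiv.toMonoidHom (σ ^ e)).eqLocus (MonoidHom.id X)
  set H := (MulEquiv.toMonoidHom σ).eqLocus (MonoidHom.id X)
  let T := {t : ↥G × ↥Y // (t.1 : X)⁻¹ * (a * (σ a)⁻¹) * σ (t.1 : X) = (t.2 : X) * (σ (t.2 : X))⁻¹}
  let S₁ := {k : ↥G // (k : X)⁻¹ * (a * (σ a)⁻¹) * σ k ∈ Y}
  let S₂ := {h : ↥H // (h : X)⁻¹ * (((σ ^ e) a)⁻¹ * a) * h ∈ Y}
  have hy : ∀ k : S₁, ∃ y ∈ Y, (k.1 : X)⁻¹ * (a * (σ a)⁻¹) * σ k.1 = y * (σ y)⁻¹ :=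
    fun k => hYL _ k.2
  choose y hyY hye using hy
  have hmem : ∀ y ∈ Y, ∀ i : ℕ, (σ ^ i) y ∈ Y := fun y hy i => by
    induction i with
    | zero => exact hy
    | succ i ih => rw [pow_succ_apply']; exact (hY _).1 ih
  -- `T` over the first coordinate
  let E₁ : T ≃ S₁ × ↥(Y ⊓ H) :=
    { toFun := fun t => (⟨t.1.1, by rw [t.2]; exact Y.mul_mem t.1.2.2 (Y.inv_mem ((hY _).1 t.1.2.2))⟩,
        ⟨(y ⟨t.1.1, by rw [t.2]; exact Y.mul_mem t.1.2.2 (Y.inv_mem ((hY _).1 t.1.2.2))⟩)⁻¹ * t.1.2,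
          ⟨Y.mul_mem (Y.inv_mem (hyY _)) t.1.2.2, by
            set k : S₁ := ⟨t.1.1, by rw [t.2]; exact Y.mul_mem t.1.2.2 (Y.inv_mem ((hY _).1 t.1.2.2))⟩
            have h := (hye k).symm.trans t.2
            show σ ((y k)⁻¹ * (t.1.2 : X)) = (y k)⁻¹ * (t.1.2 : X)
            rw [map_mul, map_inv]
            calc (σ (y k))⁻¹ * σ (t.1.2 : X)
                = (y k)⁻¹ * (y k * (σ (y k))⁻¹) * σ (t.1.2 : X) := by group
              _ = (y k)⁻¹ * (t.1.2 : X) := by rw [h]; group⟩⟩)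
      invFun := fun p => ⟨(p.1.1, ⟨y p.1 * p.2, Y.mul_mem (hyY _) p.2.2.1⟩), by
        show (p.1.1 : X)⁻¹ * (a * (σ a)⁻¹) * σ (p.1.1 : X) = y p.1 * p.2 * (σ (y p.1 * p.2))⁻¹
        rw [hye p.1, map_mul, show σ (p.2 : X) = p.2 from p.2.2.2]
        group⟩
      left_inv := fun t => Subtype.ext (Prod.ext rfl (Subtype.ext (mul_inv_cancel_left _ _)))
      right_inv := fun p => Prod.ext rfl (Subtype.ext (inv_mul_cancel_left _ _)) }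
  -- `T` over `a⁻¹ k y`
  have hz : ∀ h : S₂, ∃ y ∈ Y, (h.1 : X)⁻¹ * (((σ ^ e) a)⁻¹ * a) * h.1 = ((σ ^ e) y)⁻¹ * y := by
    intro h
    obtain ⟨c, hcY, hc⟩ := hYLe _ (Y.inv_mem h.2)
    refine ⟨c⁻¹, Y.inv_mem hcY, ?_⟩
    rw [map_inv, inv_inv]
    rw [← inv_inv ((h.1 : X)⁻¹ * _ * (h.1 : X)), hc]
    group
  choose z hzY hze using hz
  have hh : ∀ t : T, σ (a⁻¹ * t.1.1 * t.1.2) = a⁻¹ * t.1.1 * t.1.2 := fun t => by
    have h := t.2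
    rw [map_mul, map_mul, map_inv]
    calc (σ a)⁻¹ * σ (t.1.1 : X) * σ (t.1.2 : X)
        = a⁻¹ * t.1.1 * ((t.1.1 : X)⁻¹ * (a * (σ a)⁻¹) * σ (t.1.1 : X)) * σ (t.1.2 : X) := by group
      _ = a⁻¹ * t.1.1 * t.1.2 := by rw [h]; group
  have hx : ∀ t : T, (a⁻¹ * t.1.1 * t.1.2)⁻¹ * (((σ ^ e) a)⁻¹ * a) * (a⁻¹ * t.1.1 * t.1.2) =
      ((σ ^ e) (t.1.2 : X))⁻¹ * t.1.2 := fun t => by
    have h := fix_pow σ (hh t) e
    rw [map_mul, map_mul, map_inv, show (σ ^ e) (t.1.1 : X) = t.1.1 from t.1.1.2] at h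
    calc (a⁻¹ * t.1.1 * t.1.2)⁻¹ * (((σ ^ e) a)⁻¹ * a) * (a⁻¹ * t.1.1 * t.1.2)
        = (a⁻¹ * t.1.1 * t.1.2)⁻¹ * (((σ ^ e) a)⁻¹ * t.1.1 * (σ ^ e) (t.1.2 : X)) *
            ((σ ^ e) (t.1.2 : X))⁻¹ * t.1.2 := by group
      _ = ((σ ^ e) (t.1.2 : X))⁻¹ * t.1.2 := by rw [h]; group
  let hS : T → S₂ := fun t => ⟨⟨a⁻¹ * t.1.1 * t.1.2, hh t⟩, by
    show (a⁻¹ * t.1.1 * t.1.2)⁻¹ * (((σ ^ e) a)⁻¹ * a) * (a⁻¹ * t.1.1 * t.1.2) ∈ Y
    rw [hx t]; exact Y.mul_mem (Y.inv_mem (hmem _ t.1.2.2 e)) t.1.2.2⟩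
  have hkG : ∀ (h : S₂) (v : ↥(Y ⊓ G)),
      (σ ^ e) (a * h.1 * (z h)⁻¹ * (v : X)⁻¹) = a * h.1 * (z h)⁻¹ * (v : X)⁻¹ := fun h v => by
    rw [map_mul, map_mul, map_mul, map_inv, map_inv,
      show (σ ^ e) (v : X) = v from v.2.2, fix_pow σ h.1.2 e]
    congr 1
    calc (σ ^ e) a * h.1 * ((σ ^ e) (z h))⁻¹
        = (σ ^ e) a * h.1 * (((σ ^ e) (z h))⁻¹ * z h) * (z h)⁻¹ := by group
      _ = a * h.1 * (z h)⁻¹ := by rw [← hze h]; group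
  let E₂ : T ≃ S₂ × ↥(Y ⊓ G) :=
    { toFun := fun t => (hS t, ⟨t.1.2 * (z (hS t))⁻¹,
        ⟨Y.mul_mem t.1.2.2 (Y.inv_mem (hzY _)), by
          have h := (hze (hS t)).symm.trans (hx t)
          show (σ ^ e) ((t.1.2 : X) * (z (hS t))⁻¹) = (t.1.2 : X) * (z (hS t))⁻¹
          rw [map_mul, map_inv]
          calc (σ ^ e) (t.1.2 : X) * ((σ ^ e) (z (hS t)))⁻¹
              = (σ ^ e) (t.1.2 : X) * (((σ ^ e) (z (hS t)))⁻¹ * z (hS t)) * (z (hS t))⁻¹ := by group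
            _ = (t.1.2 : X) * (z (hS t))⁻¹ := by rw [h]; group⟩⟩)
      invFun := fun p => ⟨(⟨_, hkG p.1 p.2⟩, ⟨p.2 * z p.1, Y.mul_mem p.2.2.1 (hzY _)⟩), by
        have hs : σ (a * p.1.1 * (z p.1)⁻¹ * (p.2 : X)⁻¹) =
            σ a * p.1.1 * (σ (z p.1))⁻¹ * (σ (p.2 : X))⁻¹ := by
          rw [map_mul, map_mul, map_mul, map_inv, map_inv, show σ (p.1.1 : X) = p.1.1 from p.1.1.2]
        show (a * p.1.1 * (z p.1)⁻¹ * (p.2 : X)⁻¹)⁻¹ * (a * (σ a)⁻¹) *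
            σ (a * p.1.1 * (z p.1)⁻¹ * (p.2 : X)⁻¹) = p.2 * z p.1 * (σ (p.2 * z p.1))⁻¹
        rw [hs, map_mul]
        group⟩
      left_inv := fun t => Subtype.ext (Prod.ext
        (Subtype.ext (by
          show a * (a⁻¹ * t.1.1 * t.1.2) * (z (hS t))⁻¹ * ((t.1.2 : X) * (z (hS t))⁻¹)⁻¹ = t.1.1
          group))
        (Subtype.ext (inv_mul_cancel_right _ _)))
      right_inv := fun p => by
        obtain ⟨h, v⟩ := p
        have e1 : hS ⟨(⟨_, hkG h v⟩, ⟨(v : X) * z h, Y.mul_mem v.2.1 (hzY _)⟩), by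
            have hs : σ (a * h.1 * (z h)⁻¹ * (v : X)⁻¹) =
                σ a * h.1 * (σ (z h))⁻¹ * (σ (v : X))⁻¹ := by
              rw [map_mul, map_mul, map_mul, map_inv, map_inv, show σ (h.1 : X) = h.1 from h.1.2]
            show (a * h.1 * (z h)⁻¹ * (v : X)⁻¹)⁻¹ * (a * (σ a)⁻¹) *
                σ (a * h.1 * (z h)⁻¹ * (v : X)⁻¹) = v * z h * (σ (v * z h))⁻¹
            rw [hs, map_mul]
            group⟩ = h := Subtype.ext (Subtype.ext (by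
          show a⁻¹ * (a * h.1 * (z h)⁻¹ * (v : X)⁻¹) * ((v : X) * z h) = h.1
          group))
        exact Prod.ext e1 (Subtype.ext (by
          show (v : X) * z h * (z _)⁻¹ = v
          rw [e1, mul_inv_cancel_right])) }
  have h1 := Nat.card_congr E₁
  have h2 := Nat.card_congr E₂
  rw [Nat.card_prod] at h1 h2
  exact h1.symm.trans h2

end Cfsg.Agent.S2669
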