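import Cfsg.Statements.S2671
import Cfsg.Agent.Lib.DualClassCount.Count
import Cfsg.Agent.S2587
import Cfsg.Agent.S2588

set_option autoImplicit false
open Cfsg

namespace Cfsg.Agent.S2671

open Polynomial FormTorus DualClassCount

theorem exists_pow_iff {r q i b : ℕ} [Fact r.Prime] (hr2 : r ≠ 2) (hq : (q : ZMod r) ≠ 0)
    (hi : i = orderOf (q : ZMod r)) (hb : b = if Odd i then i else i / 2) :
    (∃ k, ((q : ZMod r) ^ 2) ^ k = -(q : ZMod r)) ↔ i % 4 = 2 := by
  have hi0 : 0 < i := by
    rw [hi, orderOf_pos_iff, isOfFinOrder_iff_pow_eq_one]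
    exact ⟨r - 1, by have := (Fact.out : r.Prime).two_le; omega, ZMod.pow_card_sub_one_eq_one hq⟩
  have hneg : (-1 : ZMod r) ≠ 1 := by
    haveI : Fact (2 < r) := ⟨by have := (Fact.out : r.Prime).two_le; omega⟩
    exact ZMod.neg_one_ne_one
  constructor
  · rintro ⟨k, hk⟩
    have h : ∃ j, Odd j ∧ (q : ZMod r) ^ j = -1 := by
      rcases Nat.eq_zero_or_pos k with rfl | hk0
      · refine ⟨1, odd_one, ?_⟩
        rw [pow_zero] at hk
        rw [pow_one]; linear_combination hk
      · refine ⟨2 * k - 1, ⟨k - 1, by omega⟩, mul_right_cancel₀ hq ?_⟩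
        rw [← pow_succ, show 2 * k - 1 + 1 = 2 * k by omega, pow_mul, hk, neg_one_mul]
    obtain ⟨j, ⟨u, hu⟩, hj⟩ := h
    have h1 : ¬ i ∣ j := fun hd => hneg (by
      rw [← hj, ← orderOf_dvd_iff_pow_eq_one, ← hi]; exact hd)
    have h2 : i ∣ 2 * j := by
      rw [hi, orderOf_dvd_iff_pow_eq_one, mul_comm, pow_mul, hj, neg_one_sq]
    have hev : Even i := by
      by_contra hodd
      exact h1 ((Nat.coprime_two_right.2 (Nat.not_even_iff_odd.1 hodd)).dvd_of_dvd_mul_left h2)
    obtain ⟨w, hw⟩ := hev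
    have : w ∣ j := Nat.dvd_of_mul_dvd_mul_left (show 0 < 2 by omega) (by rw [two_mul, ← hw]; exact h2)
    have hwodd : Odd w := Odd.of_dvd_nat ⟨u, hu⟩ this
    obtain ⟨v, hv⟩ := hwodd
    omega
  · intro h4
    obtain ⟨v, hv⟩ : ∃ v, i = 2 * (2 * v + 1) := ⟨i / 4, by omega⟩
    have hpow : (q : ZMod r) ^ i = 1 := by rw [hi]; exact pow_orderOf_eq_one _
    have hw : (q : ZMod r) ^ (2 * v + 1) = -1 := by
      refine (mul_self_eq_one_iff.1 ?_).resolve_left fun h => ?_
      · rw [← pow_add, ← two_mul, ← hv, hpow]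
      · have := orderOf_dvd_of_pow_eq_one h
        rw [← hi] at this
        have := Nat.le_of_dvd (by omega) this
        omega
    refine ⟨v + 1, ?_⟩
    rw [← pow_mul, show 2 * (v + 1) = (2 * v + 1) + 1 by ring, pow_succ, hw, neg_one_mul]

/-- Number of conjugacy classes of elements of odd prime order r in the general unitary group GU_n(q), for r not dividing q(q + 1): let i be the multiplicative order of q modulo r, b = i if i is odd and b = i/2 if i is even, and s = (r − 1)/b. If i ≢ 2 (mod 4) the eigenvalue orbits pair off into dual pairs of totally isotropic blocks and there are C(⌊n/(2b)⌋ + s/2, s/2) − 1 classes; if i ≡ 2 (mod 4) each orbit gives a non-degenerate block of dimension i/2 and there are C(⌊2n/i⌋ + s, s) − 1 classes. -/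
theorem result {K : Type*} [Field K] [Fintype K] {p q n r i b s : ℕ} [Fact p.Prime] [CharP K p] (hK : Fintype.card K = q ^ 2) (hr : r.Prime) (hr2 : r ≠ 2) (hrp : r ≠ p) (hi : i = orderOf (q : ZMod r)) (hi2 : i ≠ 2) (hb : b = if Odd i then i else i / 2) (hs : s * b = r - 1) : Nat.card {C : ConjClasses ↥(Cfsg.GU n K q) // ∃ g : ↥(Cfsg.GU n K q), ConjClasses.mk g = C ∧ orderOf g = r} = if i % 4 = 2 then Nat.choose (2 * n / i + s) s - 1 else Nat.choose (n / (2 * b) + s / 2) (s / 2) - 1 := by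
  classical
  haveI := Fact.mk hr
  haveI := AutPSU.QField.of_card hK
  obtain ⟨σ, hσ, hσσ, hq2⟩ := FormsLib.exists_qhom hK
  obtain ⟨⟨f₀, hf0⟩, hp, hcard⟩ := FiniteField.card K p
  obtain ⟨f, -, hQ⟩ := (Nat.dvd_prime_pow hp).1 (show q ∣ p ^ f₀ by
    rw [← show Fintype.card K = p ^ f₀ from hcard, hK]; exact dvd_pow_self q two_ne_zero)
  have hq0 : (q : ZMod r) ≠ 0 := by
    rw [hQ, Nat.cast_pow]
    exact pow_ne_zero _ (by
      rw [Ne, ZMod.natCast_eq_zero_iff, Nat.prime_dvd_prime_iff_eq hr hp]; exact hrp)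
  have hordb : b = orderOf (Fintype.card K : ZMod r) := by
    rw [hK, Nat.cast_pow, orderOf_pow' _ two_ne_zero, ← hi, hb]
    split_ifs with h
    · rw [Nat.Coprime.gcd_eq_one (Nat.coprime_two_right.2 h), Nat.div_one]
    · rw [Nat.gcd_eq_right (even_iff_two_dvd.1 (Nat.not_odd_iff_even.1 h))]
  have hco : ∀ x : GL (Fin n) K, orderOf x = r → (orderOf x).Coprime p := fun x hx => by
    rw [hx]; exact (Nat.coprime_primes hr hp).2 hrp
  have hqmap : ∀ x : Matrix (Fin n) (Fin n) K, x.map (fun a : K => a ^ q) = x.map σ := fun x =>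
    Matrix.ext fun i j => (hσ _).symm
  have hmap : ∀ x : GL (Fin n) K, (((x : Matrix (Fin n) (Fin n) K).map (fun a : K => a ^ q)).transpose)⁻¹.charpoly =
      dualPoly σ (x : Matrix (Fin n) (Fin n) K).charpoly := fun x => by
    rw [hqmap, ← Matrix.transpose_nonsing_inv, Matrix.charpoly_transpose, charpoly_map_inv _ x.isUnit]
  have key := DualClassCount.card_classes (G := ↥(Cfsg.GU n K q)) (p := p) (f := f) (N := n) (t := s) σ hσ
    hσσ hQ hr hrp hordb hs (Cfsg.GU n K q).subtype Subtype.val_injective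
    (fun a b _ _ h => (S2587.result hK a b).2 h)
    (fun g _ => by
      obtain ⟨c, hc⟩ := (S2588.result hK (g : GL (Fin n) K)).1 ⟨g, IsConj.refl _⟩
      rw [← hmap]
      have h := Matrix.charpoly_units_conj c ((g : GL (Fin n) K) : Matrix (Fin n) (Fin n) K)
      rw [hc.eq, mul_assoc, Matrix.mul_nonsing_inv _ ((Matrix.isUnit_iff_isUnit_det _).1 c.isUnit), mul_one] at h
      exact h)
    (fun x hx hd => by
      refine (S2588.result hK x).2 ?_
      have hu : IsUnit (((x : Matrix (Fin n) (Fin n) K).map σ).transpose).det := by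
        rw [Matrix.det_transpose, ← RingHom.mapMatrix_apply, ← RingHom.map_det]
        exact ((Matrix.isUnit_iff_isUnit_det _).1 x.isUnit).map σ
      obtain ⟨y, hy⟩ : ∃ y : GL (Fin n) K, (y : Matrix (Fin n) (Fin n) K) =
          (((x : Matrix (Fin n) (Fin n) K).map (fun a : K => a ^ q)).transpose)⁻¹ := by
        refine ⟨(Matrix.GeneralLinearGroup.mk'' _ hu)⁻¹, ?_⟩
        rw [Matrix.coe_units_inv, hqmap]
        rfl
      have hyo : (orderOf y).Coprime p := by
        refine Nat.Coprime.coprime_dvd_left ?_ (hco x hx)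
        have hxr : (x : Matrix (Fin n) (Fin n) K) ^ orderOf x = 1 := by
          rw [← Units.val_pow_eq_pow_val, pow_orderOf_eq_one, Units.val_one]
        refine orderOf_dvd_of_pow_eq_one (Units.ext ?_)
        rw [Units.val_pow_eq_pow_val, hy, hqmap, Units.val_one, Matrix.inv_pow', ← Matrix.transpose_pow,
          ← RingHom.mapMatrix_apply, ← map_pow, hxr, map_one, Matrix.transpose_one, inv_one]
      have h := (Units.coeHom (Matrix (Fin n) (Fin n) K)).map_isConj
        (S2387.isConj_of_charpoly (p := p) x y (hco x hx) hyo (by rw [hy, hmap, hd]))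
      simpa [hy] using h)
  rw [hK, Nat.cast_pow, exists_pow_iff hr2 hq0 hi hb] at key
  split_ifs with h4
  · rw [key.1 h4, show 2 * n / i = n / b by
      have : ¬ Odd i := fun ⟨w, hw⟩ => by omega
      rw [hb, if_neg this]
      obtain ⟨v, hv⟩ : ∃ v, i = 2 * v := ⟨i / 2, by omega⟩
      rw [hv, Nat.mul_div_mul_left _ _ (by omega : 0 < 2), Nat.mul_div_cancel_left _ (by omega : 0 < 2)]]
  · exact key.2 h4

end Cfsg.Agent.S2671
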