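import Cfsg.Statements.S2672
import Cfsg.Agent.Lib.Classical.PrimeScalarClasses
import Cfsg.Agent.Lib.AutPSU.Twisted
import Cfsg.Agent.Lib.FormCentral.Unitary
import Cfsg.Agent.S0783

set_option autoImplicit false
open Cfsg

namespace Cfsg.Agent.S2672

/-- Number of conjugacy classes of elements of odd prime order r in PGU_n(q) = GU_n(q)/scalars (n ≥ 3) when r divides q + 1: as in the linear case with q − 1 replaced by q + 1, the classes correspond to the rotation orbits on r-tuples of eigenvalue multiplicities summing to n with every entry < n, plus r − 1 further classes when r divides n; in all (C(n+r−1, r−1) − r − [r ∣ n])/r + r·[r ∣ n]. -/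
theorem result {K : Type*} [Field K] [Fintype K] {q n r : ℕ} (hK : Fintype.card K = q ^ 2) (hn : 3 ≤ n) (hr : r.Prime) (hr2 : r ≠ 2) (hrq : r ∣ q + 1) : Nat.card {C : ConjClasses (↥(Cfsg.GU n K q) ⧸ Subgroup.center ↥(Cfsg.GU n K q)) // ∃ g : ↥(Cfsg.GU n K q) ⧸ Subgroup.center ↥(Cfsg.GU n K q), ConjClasses.mk g = C ∧ orderOf g = r} = (Nat.choose (n + r - 1) (r - 1) - r - (if r ∣ n then 1 else 0)) / r + r * (if r ∣ n then 1 else 0) := by
  classical
  haveI := AutPSU.QField.of_card hK
  have hU : Nat.card (AutPSU.normOne (F := K) (q := q)) = q + 1 := AutPSU.card_normOne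
  refine PrimeScalarClasses.card_classes (Cfsg.GU n K q).subtype (AutPSU.normOne (F := K) (q := q))
    (by omega) hr (by rw [hU]; exact hrq) ?_ ?_ ?_ ?_
  · intro a b h
    obtain ⟨P, hP⟩ := isConj_iff.1 h
    obtain ⟨g, hg, hga⟩ := FormCentral.gu_intertwine hK a.2 b.2 (mul_inv_eq_iff_eq_mul.1 hP)
    exact isConj_iff.2 ⟨⟨g, hg⟩, Subtype.ext (mul_inv_eq_iff_eq_mul.2 hga)⟩
  · intro g
    constructor
    · intro hg
      obtain ⟨c, hc⟩ := S0783.scalar_of_center (by omega) g hg
      have hcol : ∀ i j, (g : GL (Fin n) K).1 i j = if i = j then c else 0 := fun i j => by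
        have h := congrFun (hc (Pi.single j 1)) i
        simpa [Pi.single_apply] using h
      have hc0 : c ≠ 0 := by
        rintro rfl
        have h0 : (g : GL (Fin n) K).1 = 0 := Matrix.ext fun i j => by simp [hcol]
        have h1 := congrFun (congrFun ((g : GL (Fin n) K).mul_inv) ⟨0, by omega⟩) ⟨0, by omega⟩
        rw [h0, Matrix.zero_mul, Matrix.one_apply_eq] at h1
        exact zero_ne_one h1
      have heq : Matrix.GeneralLinearGroup.scalar (Fin n) (Units.mk0 c hc0) = (g : GL (Fin n) K) := by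
        refine Units.ext (Matrix.ext fun i j => ?_)
        rw [hcol]
        show Matrix.scalar (Fin n) c i j = _
        by_cases h : i = j <;> simp [h]
      exact ⟨_, AutPSU.mem_normOne.2 ((AutPSU.mem_scalars_GU_iff (by omega) _).1 (heq ▸ g.2)), heq⟩
    · rintro ⟨u, hu, hug⟩
      refine Subgroup.mem_center_iff.2 fun x => Subtype.ext ?_
      show x.1 * g.1 = g.1 * x.1
      rw [show g.1 = _ from hug.symm]
      exact (PrimeScalarClasses.scalar_comm u _).eq.symm
  · intro σ w hw
    refine ⟨⟨PrimeScalarClasses.mono σ w, AutPSU.mem_GU_iff_mat.2 ?_⟩, rfl⟩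
    ext a b
    rw [Matrix.mul_apply, Finset.sum_eq_single (σ a)
      (fun i _ hi => by simp [PrimeScalarClasses.mono, PrimeScalarClasses.monoMat, hi]) (by simp)]
    by_cases h : a = b
    · subst h
      simpa [PrimeScalarClasses.mono, PrimeScalarClasses.monoMat] using AutPSU.coe_norm_eq_one (hw a)
    · simp [PrimeScalarClasses.mono, PrimeScalarClasses.monoMat, h]
  · rintro c hc ⟨d, hd⟩
    refine ⟨d, AutPSU.mem_normOne.2 ?_, hd⟩
    have h1 : (d ^ (q + 1)) ^ r = 1 := by
      rw [← pow_mul, mul_comm, pow_mul, hd, AutPSU.mem_normOne.1 hc]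
    have hq2 : 2 ≤ q := AutPSU.two_le_q (F := K)
    have h2 : (d ^ (q + 1)) ^ (q - 1) = 1 := by
      rw [← pow_mul]
      obtain ⟨k, rfl⟩ : ∃ k, q = k + 1 := ⟨q - 1, by omega⟩
      have : (k + 1 + 1) * (k + 1 - 1) = Fintype.card Kˣ := by
        rw [Fintype.card_units, hK, Nat.add_sub_cancel]
        have : (k + 1) ^ 2 = (k + 1 + 1) * k + 1 := by ring
        omega
      rw [this, pow_card_eq_one]
    have hco : Nat.gcd r (q - 1) = 1 := by
      refine hr.coprime_iff_not_dvd.2 fun hd2 => hr2 ((Nat.prime_dvd_prime_iff_eq hr Nat.prime_two).1 ?_)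
      have := Nat.dvd_sub hrq hd2
      rwa [show q + 1 - (q - 1) = 2 by omega] at this
    have := pow_gcd_eq_one.2 ⟨h1, h2⟩
    rwa [hco, pow_one] at this

end Cfsg.Agent.S2672
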