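import Cfsg.Statements.S2673
import Cfsg.Agent.Lib.OrthClasses.Tuples

set_option autoImplicit false
open Cfsg

namespace Cfsg.Agent.S2673

/-- Number of conjugacy classes of elements of odd prime order r ≠ p in the orthogonal group O_(2m+1)(q) of x_0² + Σ x_j y_j, q odd: with i the multiplicative order of q mod r and t = (r − 1)/i, there are C(⌊m/i⌋ + t/2, t/2) − 1 classes if i is odd (dual pairs of totally singular i-blocks) and C(⌊(2m+1)/i⌋ + t, t) − 1 if i is even (elliptic i-blocks). -/
theorem result {F : Type*} [Field F] [Fintype F] {p q : ℕ} [Fact p.Prime] [CharP F p] (hF : Fintype.card F = q) (hq : Odd q) (m r i t : ℕ) (hr : r.Prime) (hr2 : r ≠ 2) (hrp : r ≠ p) (hi : i = orderOf (q : ZMod r)) (ht : t * i = r - 1) : Nat.card {C : ConjClasses ↥(Cfsg.isometryGroup F (Cfsg.quadFormOdd m F)) // ∃ g : ↥(Cfsg.isometryGroup F (Cfsg.quadFormOdd m F)), ConjClasses.mk g = C ∧ orderOf g = r} = if Odd i then Nat.choose (m / i + t / 2) (t / 2) - 1 else Nat.choose ((2 * m + 1) / i + t)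 t - 1 := by
  classical
  obtain ⟨S⟩ := OrthClasses.exists_factors (F := F) (p := p) hF hr hrp hi ht
  obtain ⟨h0, hq0⟩ := OrthClasses.i_pos (F := F) (p := p) hF hr hrp hi
  have hr0 : (r : F) ≠ 0 := by
    rw [Ne, CharP.cast_eq_zero_iff F p, Nat.prime_dvd_prime_iff_eq Fact.out hr]
    exact fun h => hrp h.symm
  have h2 : (2 : F) ≠ 0 := Ring.two_ne_zero fun h => by
    have := FiniteField.even_card_iff_char_two.1 h
    rw [hF] at this
    obtain ⟨j, hj⟩ := hq
    omega
  rw [S.card_classes hr hr2 hr0 (Q := FormsLib.qOdd m F) (funext fun v => by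
      simp [FormsLib.qOdd_apply, Cfsg.quadFormOdd, sq]) (FormsLib.qOdd_nondeg h2),
    Nat.card_congr (Equiv.subtypeEquivRight fun a => and_congr_right fun ha =>
      S.real_odd_iff (m := m) hF hr hr2 hr0 hi h0 h2 ha)]
  split_ifs with ho
  · obtain ⟨H, hH, hc, -⟩ := S.t_half hr hr2 hr0 ho ht
    rw [OrthClasses.card_sym (S.star hr hr0) (S.star_star hr hr0) hH (fun s => i * s ≤ 2 * m + 1),
      Nat.card_congr (Equiv.subtypeEquivRight (q := fun b => b ≠ 0 ∧ ∑ x, b x ≤ m / i) fun b =>
        and_congr_right fun _ => by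
          rw [Nat.le_div_iff_mul_le h0, mul_left_comm, mul_comm (∑ x, b x) i]; omega),
      OrthClasses.card_le, ← Nat.card_eq_fintype_card, hc]
  · have he : Even i := Nat.not_odd_iff_even.1 ho
    rw [Nat.card_congr (Equiv.subtypeEquivRight (q := fun a => a ≠ 0 ∧ ∑ x, a x ≤ (2 * m + 1) / i) fun a =>
      and_congr_right fun _ => by
        rw [Nat.le_div_iff_mul_le h0, mul_comm (∑ x, a x) i]
        exact and_iff_right (S.sym_of_even hF hr hr0 hi he h0 a)),
      OrthClasses.card_le, Fintype.card_coe, S.card]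

end Cfsg.Agent.S2673
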