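import Cfsg.Statements.S2674
import Cfsg.Agent.Lib.OrthClasses.Tuples

set_option autoImplicit false
open Cfsg

namespace Cfsg.Agent.S2674

/-- Number of conjugacy classes of elements of odd prime order r ≠ p in the orthogonal group O⁺_2m(q) of Σ x_j y_j (m ≥ 1): with i the multiplicative order of q mod r and t = (r − 1)/i — if i is odd, C(⌊m/i⌋ + t/2, t/2) − 1; if i is even, C(⌊2m/i⌋ + t, t) − 1 minus, when i divides 2m with odd quotient, the C(2m/i + t − 1, t − 1) tuples using the whole space (an odd number of elliptic i-blocks fills an elliptic, not a hyperbolic, space). -/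
theorem result {F : Type*} [Field F] [Fintype F] {p q : ℕ} [Fact p.Prime] [CharP F p] (hF : Fintype.card F = q) (m r i t : ℕ) (hm : 1 ≤ m) (hr : r.Prime) (hr2 : r ≠ 2) (hrp : r ≠ p) (hi : i = orderOf (q : ZMod r)) (ht : t * i = r - 1) : Nat.card {C : ConjClasses ↥(Cfsg.isometryGroup F (Cfsg.quadFormPlus m F)) // ∃ g : ↥(Cfsg.isometryGroup F (Cfsg.quadFormPlus m F)), ConjClasses.mk g = C ∧ orderOf g = r} = if Odd i then Nat.choose (m / i + t / 2) (t / 2) - 1 else Nat.choose (2 * m / i + t) t - 1 - (if i ∣ 2 * m ∧ Odd (2 * m / i) then Nat.choose (2 * m / i + t - 1) (t - 1) else 0) := by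
  classical
  obtain ⟨S⟩ := OrthClasses.exists_factors (F := F) (p := p) hF hr hrp hi ht
  obtain ⟨h0, hq0⟩ := OrthClasses.i_pos (F := F) (p := p) hF hr hrp hi
  have hr0 : (r : F) ≠ 0 := by
    rw [Ne, CharP.cast_eq_zero_iff F p, Nat.prime_dvd_prime_iff_eq Fact.out hr]
    exact fun h => hrp h.symm
  rw [S.card_classes hr hr2 hr0 (Q := OrthOrder.qPlus m F) (funext (OrthOrder.qPlus_apply m))
      (OrthForms.qPlus_nondeg m),
    Nat.card_congr (Equiv.subtypeEquivRight fun a => and_congr_right fun ha =>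
      S.real_plus_iff hF hr hr2 hr0 hi h0 hq0 hm ha)]
  split_ifs with ho hP hP
  · obtain ⟨H, hH, hc, -⟩ := S.t_half hr hr2 hr0 ho ht
    rw [OrthClasses.card_sym (S.star hr hr0) (S.star_star hr hr0) hH
        (fun s => i * s ≤ 2 * m ∧ (i * s = 2 * m → Odd i ∨ Even s)),
      Nat.card_congr (Equiv.subtypeEquivRight (q := fun b => b ≠ 0 ∧ ∑ x, b x ≤ m / i) fun b =>
        and_congr_right fun _ => by
          rw [Nat.le_div_iff_mul_le h0, mul_left_comm, mul_comm (∑ x, b x) i]
          exact ⟨fun h => by omega, fun h => ⟨by omega, fun _ => Or.inl ho⟩⟩),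
      OrthClasses.card_le, ← Nat.card_eq_fintype_card, hc]
  all_goals
    have he : Even i := Nat.not_odd_iff_even.1 ho
    have key : ∀ a : S.T → ℕ,
        (((∀ y, a (S.star hr hr0 y) = a y) ∧ i * ∑ y, a y ≤ 2 * m ∧
          (i * ∑ y, a y = 2 * m → Odd i ∨ Even (∑ y, a y))) ↔
        (∑ x, a x ≤ 2 * m / i ∧ ¬ ((i ∣ 2 * m ∧ Odd (2 * m / i)) ∧ ∑ x, a x = 2 * m / i))) := by
      intro a
      rw [and_iff_right (S.sym_of_even hF hr hr0 hi he h0 a), Nat.le_div_iff_mul_le h0,
        mul_comm (∑ x, a x) i, or_iff_right ho]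
      refine and_congr_right fun _ => ⟨fun h ⟨⟨hd, hodd⟩, heq⟩ => ?_, fun h heq => ?_⟩
      · exact Nat.not_even_iff_odd.2 hodd (heq ▸ h (by rw [heq, Nat.mul_div_cancel' hd]))
      · by_contra hne
        have hs : 2 * m / i = ∑ x, a x := by rw [← heq, Nat.mul_div_cancel_left _ h0]
        exact h ⟨⟨⟨_, heq.symm⟩, hs.symm ▸ Nat.not_even_iff_odd.1 hne⟩, hs.symm⟩
    rw [Nat.card_congr (Equiv.subtypeEquivRight fun a => and_congr_right fun _ => key a),
      OrthClasses.card_le_excl _ _ (by rw [Fintype.card_coe, S.card]; exact OrthClasses.Factors.one_le_t hr ht) _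
        (fun h => Nat.div_pos (Nat.le_of_dvd (by omega) h.1) h0),
      Fintype.card_coe, S.card]
    simp [hP]

end Cfsg.Agent.S2674
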