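import Cfsg.Statements.S2675
import Cfsg.Agent.Lib.OrthClasses.Tuples

set_option autoImplicit false
open Cfsg

namespace Cfsg.Agent.S2675

/-- Number of conjugacy classes of elements of odd prime order r ≠ p in the orthogonal group O⁻_2m(q) of an elliptic form Σ_(j<m−1) x_j y_j + z₁² + a z₁z₂ + c z₂² (binary part anisotropic, m ≥ 1): with i the multiplicative order of q mod r and t = (r − 1)/i — if i is odd, C(⌊m/i⌋ + t/2, t/2) − 1 minus, when i divides m, the C(m/i + t/2 − 1, t/2 − 1) tuples filling the whole space (dual pairs of totally singular blocks fill a hyperbolic space); if i is even, C(⌊2m/i⌋ + t, t) − 1 minus, when i divides 2m with even quotient, the C(2m/i + t − 1, t − 1) tuples filling the whole space with an even number of elliptic blocks. -/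
theorem result {F : Type*} [Field F] [Fintype F] {p q : ℕ} [Fact p.Prime] [CharP F p] (hF : Fintype.card F = q) (m r i t : ℕ) (hm : 1 ≤ m) (a c : F) (hac : ∀ z₁ z₂ : F, z₁ ^ 2 + a * z₁ * z₂ + c * z₂ ^ 2 = 0 → z₁ = 0 ∧ z₂ = 0) (hr : r.Prime) (hr2 : r ≠ 2) (hrp : r ≠ p) (hi : i = orderOf (q : ZMod r)) (ht : t * i = r - 1) : Nat.card {C : ConjClasses ↥(Cfsg.isometryGroup F (Cfsg.quadFormMinus (m - 1) F a c)) // ∃ g : ↥(Cfsg.isometryGroup F (Cfsg.quadFormMinus (m - 1) F a c)), ConjClasses.mk g = C ∧ orderOf g = r} = if Odd i then Nat.choose (m / i + t / 2) (t / 2) - 1 - (if i ∣ m then Nat.choose (m / i + t / 2 - 1) (t / 2 - 1) else 0) else Nat.choose (2 * m / i + t) t - 1 - (if i ∣ 2 * m ∧ Even (2 * m / i) then Nat.choose (2 * m / i + t - 1) (t - 1) else 0) := by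
  classical
  obtain ⟨S⟩ := OrthClasses.exists_factors (F := F) (p := p) hF hr hrp hi ht
  obtain ⟨h0, hq0⟩ := OrthClasses.i_pos (F := F) (p := p) hF hr hrp hi
  have hr0 : (r : F) ≠ 0 := by
    rw [Ne, CharP.cast_eq_zero_iff F p, Nat.prime_dvd_prime_iff_eq Fact.out hr]
    exact fun h => hrp h.symm
  obtain ⟨Q, hQc, hQ⟩ := OrthForms.exists_qMinus (F := F) (m - 1) a c hac
  rw [S.card_classes hr hr2 hr0 hQc hQ,
    Nat.card_congr (Equiv.subtypeEquivRight fun b => and_congr_right fun hb =>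
      S.real_minus_iff hF hr hr2 hr0 hi h0 hq0 hm hac hQc hQ hb)]
  by_cases ho : Odd i
  · rw [if_pos ho]
    obtain ⟨H, hH, hc, hc1⟩ := S.t_half hr hr2 hr0 ho ht
    rw [OrthClasses.card_sym (S.star hr hr0) (S.star_star hr hr0) hH
        (fun s => i * s ≤ 2 * m ∧ (i * s = 2 * m → ¬ (Odd i ∨ Even s))),
      Nat.card_congr (Equiv.subtypeEquivRight
        (q := fun b => b ≠ 0 ∧ ∑ x, b x ≤ m / i ∧ ¬ (i ∣ m ∧ ∑ x, b x = m / i)) fun b =>
        and_congr_right fun _ => by
          rw [Nat.le_div_iff_mul_le h0, mul_left_comm, mul_comm (∑ x, b x) i]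
          refine ⟨fun h => ⟨by omega, fun h' => h.2 ?_ (Or.inl ho)⟩,
            fun h => ⟨by omega, fun h' _ => ?_⟩⟩
          · rw [h'.2, Nat.mul_div_cancel' h'.1]
          · have h3 : i * ∑ x, b x = m := by omega
            exact h.2 ⟨⟨_, h3.symm⟩, by rw [← h3, Nat.mul_div_cancel_left _ h0]⟩),
      OrthClasses.card_le_excl _ _ (by rw [← Nat.card_eq_fintype_card, hc]; exact hc1) _
        (fun h => Nat.div_pos (Nat.le_of_dvd (by omega) h) h0), ← Nat.card_eq_fintype_card, hc]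
  · rw [if_neg ho]
    have he : Even i := Nat.not_odd_iff_even.1 ho
    rw [Nat.card_congr (Equiv.subtypeEquivRight
      (q := fun b => b ≠ 0 ∧ ∑ x, b x ≤ 2 * m / i ∧
        ¬ ((i ∣ 2 * m ∧ Even (2 * m / i)) ∧ ∑ x, b x = 2 * m / i)) fun b => and_congr_right fun _ => by
        rw [and_iff_right (S.sym_of_even hF hr hr0 hi he h0 b), Nat.le_div_iff_mul_le h0,
          mul_comm (∑ x, b x) i, or_iff_right ho]
        refine and_congr_right fun _ => ⟨fun h ⟨⟨hd, hev⟩, heq⟩ =>
          h (by rw [heq, Nat.mul_div_cancel' hd]) (heq ▸ hev), fun h heq hev => ?_⟩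
        have hs : 2 * m / i = ∑ x, b x := by rw [← heq, Nat.mul_div_cancel_left _ h0]
        exact h ⟨⟨⟨_, heq.symm⟩, hs.symm ▸ hev⟩, hs.symm⟩),
      OrthClasses.card_le_excl _ _ (by rw [Fintype.card_coe, S.card]; exact OrthClasses.Factors.one_le_t hr ht) _
        (fun h => Nat.div_pos (Nat.le_of_dvd (by omega) h.1) h0),
      Fintype.card_coe, S.card]

end Cfsg.Agent.S2675
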