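import Cfsg.Statements.S2677
import Cfsg.Agent.Lib.AutPSU.Twisted
import Cfsg.Agent.Lib.LinearGroups.UnitaryOrder

set_option autoImplicit false
open Cfsg
open scoped Matrix

namespace Cfsg.Agent.S2677

/-- Centraliser of a field automorphism of odd prime order in PGU_n(q): let q = q₀^r with r an odd prime, K the field with q² elements and σ a field automorphism of K of order r (fixed field of order q₀²). The elements g of GU_n(q) whose entrywise image under σ is a scalar multiple of g — those whose coset modulo the q + 1 unitary scalars is fixed by σ — number (q + 1)/(q₀ + 1) · |GU_n(q₀)|; equivalently the centraliser in PGU_n(q) of the induced automorphism has the order of PGU_n(q₀). -/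
theorem result {K : Type*} [Field K] [Fintype K] {q₀ q r n : ℕ} (hr : r.Prime) (hr2 : r ≠ 2) (hn : 1 ≤ n) (hq : q = q₀ ^ r) (hK : Fintype.card K = q ^ 2) (σ : K ≃+* K) (hσ : orderOf σ = r) : (Nat.card {g : ↥(Cfsg.GU n K q) // ∃ c : K, c ≠ 0 ∧ ((g : GL (Fin n) K) : Matrix (Fin n) (Fin n) K).map σ = c • ((g : GL (Fin n) K) : Matrix (Fin n) (Fin n) K)} : ℤ) = ((q + 1) / (q₀ + 1) : ℕ) * ((q₀ : ℤ) ^ (n * (n - 1) / 2) * ∏ i : Fin n, ((q₀ : ℤ) ^ ((i : ℕ) + 1) - (-1) ^ ((i : ℕ) + 1))) := by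
  classical
  haveI := AutPSU.QField.of_card hK
  have hodd : Odd r := hr.odd_of_ne_two hr2
  set K₀ := (σ : K →+* K).eqLocusField (RingHom.id K) with hK₀
  have hc0 := AutPSL.card_eq_card_fixed_pow σ
  rw [hσ, Nat.card_eq_fintype_card, hK, hq, ← hK₀, ← pow_mul, mul_comm r 2, pow_mul] at hc0
  haveI : Fintype K₀ := Fintype.ofFinite K₀
  have hK0 : Fintype.card K₀ = q₀ ^ 2 := by
    rw [← Nat.card_eq_fintype_card]
    exact (Nat.pow_left_injective hr.ne_zero hc0).symm
  haveI := AutPSU.QField.of_card hK0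
  let j : K₀ →+* K := K₀.subtype
  have hj : ∀ a, σ a = a ↔ a ∈ j.range := fun a => ⟨fun h => ⟨⟨a, h⟩, rfl⟩, by rintro ⟨b, rfl⟩; exact b.2⟩
  have hjσ : ∀ a, j (AutPSU.qb q₀ a) = AutPSU.qb q (j a) := fun a => AutPSU.qb_compat j hodd hq a
  let scal : AutPSU.normOne (F := K) (q := q) →* ↥(Cfsg.GU n K q) := AutPSU.scalU hn
  let Φ : AutPSU.normOne (F := K) (q := q) × ↥(Cfsg.GU n K₀ q₀) →* ↥(Cfsg.GU n K q) :=
    scal.noncommCoprod (AutPSU.gMap j hjσ) fun a b =>
      (Subgroup.mem_center_iff.1 (AutPSU.scalU_mem_center hn a) _).symm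
  have hΦ : ∀ x, ((Φ x : GL (Fin n) K) : Matrix (Fin n) (Fin n) K) =
      ((x.1 : Kˣ) : K) • ((x.2 : GL (Fin n) K₀) : Matrix (Fin n) (Fin n) K₀).map j := by
    intro x
    show ((scal x.1 * AutPSU.gMap j hjσ x.2 : ↥(Cfsg.GU n K q)) : GL (Fin n) K).1 = _
    rw [Subgroup.coe_mul, Units.val_mul, AutPSU.scalU_coe, AutPSU.gMap_coe, smul_mul_assoc, one_mul]
  -- the kernel
  have hker : Nat.card Φ.ker = q₀ + 1 := by
    have hK0n := AutPSU.card_normOne (F := K₀) (q := q₀)
    let f : AutPSU.normOne (F := K₀) (q := q₀) → Φ.ker := fun c =>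
      ⟨(AutPSU.nMap j hjσ c, AutPSU.scalU hn c⁻¹), by
        refine MonoidHom.mem_ker.2 (Subtype.ext (Units.ext ?_))
        rw [hΦ, AutPSU.scalU_coe]
        ext a b
        show j ((c : K₀ˣ) : K₀) * j (((((c⁻¹ : AutPSU.normOne (F := K₀) (q := q₀)) : K₀ˣ) : K₀) •
          (1 : Matrix (Fin n) (Fin n) K₀)) a b) = (1 : Matrix (Fin n) (Fin n) K) a b
        rw [← map_mul, Matrix.smul_apply, smul_eq_mul, ← mul_assoc, ← Units.val_mul, Subgroup.coe_inv,
          mul_inv_cancel, Units.val_one, one_mul, Matrix.one_apply, Matrix.one_apply]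
        split_ifs <;> simp⟩
    rw [← hK0n, Nat.card_eq_of_bijective f ⟨fun a b h => AutPSU.nMap_injective j hjσ
      (congrArg (fun x : Φ.ker => x.1.1) h), ?_⟩]
    rintro ⟨⟨u, g⟩, hug⟩
    have e := congrArg (fun x : ↥(Cfsg.GU n K q) => (x : GL (Fin n) K).1) (MonoidHom.mem_ker.1 hug)
    simp only [hΦ, OneMemClass.coe_one, Units.val_one] at e
    have e00 := congrFun (congrFun e ⟨0, hn⟩) ⟨0, hn⟩
    rw [Matrix.smul_apply, Matrix.map_apply, Matrix.one_apply_eq, smul_eq_mul] at e00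
    set z := (g : GL (Fin n) K₀).1 ⟨0, hn⟩ ⟨0, hn⟩ with hz
    have hz0 : z ≠ 0 := fun h => by rw [h, map_zero, mul_zero] at e00; exact zero_ne_one e00
    set c : K₀ˣ := (Units.mk0 z hz0)⁻¹ with hc
    have hcu : j (c : K₀) = ((u : Kˣ) : K) := by
      rw [hc, Units.val_inv_eq_inv_val, Units.val_mk0, map_inv₀]
      exact inv_eq_of_mul_eq_one_left e00
    have hcn : c ∈ AutPSU.normOne (F := K₀) (q := q₀) := by
      rw [AutPSU.mem_normOne]
      refine Units.ext (j.injective ?_)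
      rw [Units.val_pow_eq_pow_val, Units.val_one, map_one, pow_succ', ← AutPSU.qb_apply (q := q₀),
        map_mul, hjσ, hcu, AutPSU.coe_norm_eq_one u.2]
    refine ⟨⟨c, hcn⟩, Subtype.ext (Prod.ext (Subtype.ext (Units.ext hcu)) (Subtype.ext (Units.ext ?_)))⟩
    rw [AutPSU.scalU_coe]
    apply Matrix.map_injective j.injective
    refine (smul_right_injective _ (Units.ne_zero (u : Kˣ))) (Eq.trans ?_ e.symm)
    ext a b
    show ((u : Kˣ) : K) * j (((((⟨c, hcn⟩⁻¹ : AutPSU.normOne (F := K₀) (q := q₀)) : K₀ˣ) : K₀) •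
      (1 : Matrix (Fin n) (Fin n) K₀)) a b) = (1 : Matrix (Fin n) (Fin n) K) a b
    rw [← hcu, ← map_mul, Matrix.smul_apply, smul_eq_mul, ← mul_assoc, ← Units.val_mul, Subgroup.coe_inv,
      mul_inv_cancel, Units.val_one, one_mul, Matrix.one_apply, Matrix.one_apply]
    split_ifs <;> simp
  -- the range
  have hrange : ∀ g : ↥(Cfsg.GU n K q), g ∈ Φ.range ↔ ∃ c : K, c ≠ 0 ∧
      ((g : GL (Fin n) K) : Matrix (Fin n) (Fin n) K).map σ = c • ((g : GL (Fin n) K) : Matrix (Fin n) (Fin n) K) := by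
    intro g
    constructor
    · rintro ⟨⟨u, h⟩, rfl⟩
      have hu0 := Units.ne_zero (u : Kˣ)
      refine ⟨σ ((u : Kˣ) : K) / ((u : Kˣ) : K), div_ne_zero ((map_ne_zero σ).2 hu0) hu0, ?_⟩
      rw [hΦ]
      ext a b
      simp only [Matrix.map_apply, Matrix.smul_apply, smul_eq_mul, map_mul, (hj _).2 ⟨_, rfl⟩]
      rw [← mul_assoc, div_mul_cancel₀ _ hu0]
    · rintro ⟨c, hc, hg⟩
      obtain ⟨a, b, hab⟩ : ∃ a b, (g : GL (Fin n) K).1 a b ≠ 0 := by
        by_contra h
        push Not at h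
        haveI : Nonempty (Fin n) := ⟨⟨0, hn⟩⟩
        exact (g : GL (Fin n) K).isUnit.ne_zero (Matrix.ext h)
      set μ := (g : GL (Fin n) K).1 a b
      have hμ : σ μ = c * μ := congrFun (congrFun hg a) b
      set h := Matrix.GeneralLinearGroup.scalar (Fin n) (Units.mk0 μ hab)⁻¹ * (g : GL (Fin n) K) with hh
      have hhe : ∀ x y, h.1 x y = μ⁻¹ * (g : GL (Fin n) K).1 x y := fun x y => by
        rw [hh, Units.val_mul]
        show (Matrix.scalar (Fin n) (((Units.mk0 μ hab)⁻¹ : Kˣ) : K) * (g : GL (Fin n) K).1) x y = _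
        rw [Matrix.scalar_apply, Matrix.diagonal_mul, Units.val_inv_eq_inv_val, Units.val_mk0]
      obtain ⟨m, hm⟩ := AutPSL.exists_map_eq σ j hj h (Units.ext (Matrix.ext fun x y => by
        show σ (h.1 x y) = h.1 x y
        rw [hhe, map_mul, map_inv₀, hμ, show σ ((g : GL (Fin n) K).1 x y) = c * _ from congrFun (congrFun hg x) y]
        field_simp))
      have hgm : (g : GL (Fin n) K).1 = μ • m.1.map j := by
        ext x y
        rw [Matrix.smul_apply, show m.1.map j = h.1 from congrArg Units.val hm, hhe, smul_eq_mul,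
          mul_inv_cancel_left₀ hab]
      -- `m` is unitary up to a scalar
      have hgu := AutPSU.mem_GU_iff_mat.1 g.2
      set s := ((m.1)ᵀ * (m.1).map (AutPSU.qb (F := K₀) q₀)) ⟨0, hn⟩ ⟨0, hn⟩ with hs
      have hscal : ∀ x y, μ * AutPSU.qb (F := K) q μ *
          j (((m.1)ᵀ * (m.1).map (AutPSU.qb (F := K₀) q₀)) x y) = (1 : Matrix (Fin n) (Fin n) K) x y := by
        intro x y
        rw [← hgu, hgm, Matrix.mul_apply, Matrix.mul_apply, map_sum, Finset.mul_sum]
        refine Finset.sum_congr rfl fun k _ => ?_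
        simp only [Matrix.transpose_apply, Matrix.map_apply, Matrix.smul_apply, smul_eq_mul, map_mul, hjσ]
        ring
      have hs1 : μ * AutPSU.qb (F := K) q μ * j s = 1 := by rw [hs, hscal, Matrix.one_apply_eq]
      have hsfix : AutPSU.qb (F := K₀) q₀ s = s := by
        rw [hs, Matrix.mul_apply, map_sum]
        refine Finset.sum_congr rfl fun k _ => ?_
        simp only [Matrix.transpose_apply, Matrix.map_apply, map_mul, AutPSU.qb_qb]
        ring
      obtain ⟨ν, hν⟩ := AutPSU.exists_norm (F := K₀) (q := q₀) hsfix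
      have hν0 : ν ≠ 0 := by
        rintro rfl
        rw [zero_mul] at hν
        rw [← hν, map_zero, mul_zero] at hs1
        exact zero_ne_one hs1
      have hm0 : (m.1)ᵀ * (m.1).map (AutPSU.qb (F := K₀) q₀) = s • 1 := by
        refine Matrix.ext fun x y => ?_
        refine j.injective (mul_left_cancel₀ (left_ne_zero_of_mul (ne_of_eq_of_ne hs1 one_ne_zero)) ?_)
        rw [hscal, Matrix.smul_apply, smul_eq_mul, map_mul, ← mul_assoc, hs1, one_mul, Matrix.one_apply,
          Matrix.one_apply]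
        split_ifs <;> simp
      set m' := Matrix.GeneralLinearGroup.scalar (Fin n) (Units.mk0 ν hν0)⁻¹ * m with hm'
      have hm'v : m'.1 = ν⁻¹ • m.1 := by
        rw [hm', Units.val_mul]
        show Matrix.scalar (Fin n) (((Units.mk0 ν hν0)⁻¹ : K₀ˣ) : K₀) * m.1 = _
        rw [Matrix.scalar_apply, ← Matrix.smul_eq_diagonal_mul, Units.val_inv_eq_inv_val, Units.val_mk0]
      have hm'U : m' ∈ Cfsg.GU n K₀ q₀ := by
        rw [AutPSU.mem_GU_iff_mat, hm'v, Matrix.transpose_smul,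
          show (ν⁻¹ • m.1).map (AutPSU.qb (F := K₀) q₀) =
            AutPSU.qb (F := K₀) q₀ ν⁻¹ • m.1.map (AutPSU.qb (F := K₀) q₀) from Matrix.ext fun x y => map_mul (AutPSU.qb (F := K₀) q₀) ν⁻¹ (m.1 x y),
          smul_mul_assoc, mul_smul_comm, hm0, smul_smul, smul_smul, map_inv₀, ← mul_inv, ← hν,
          inv_mul_cancel₀ (hν.symm ▸ fun h0 => by rw [h0, map_zero, mul_zero] at hs1; exact zero_ne_one hs1),
          one_smul]
      have hlam : Units.mk0 (μ * j ν) (mul_ne_zero hab ((map_ne_zero j).2 hν0)) ∈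
          AutPSU.normOne (F := K) (q := q) := by
        rw [AutPSU.mem_normOne]
        refine Units.ext ?_
        rw [Units.val_pow_eq_pow_val, Units.val_mk0, Units.val_one, pow_succ', ← AutPSU.qb_apply (q := q),
          map_mul, ← hjσ, ← hs1, ← hν, map_mul]
        ring
      refine ⟨(⟨_, hlam⟩, ⟨m', hm'U⟩), Subtype.ext (Units.ext ?_)⟩
      rw [hΦ, hgm]
      ext x y
      show μ * j ν * j (m'.1 x y) = μ * j (m.1 x y)
      rw [mul_assoc, ← map_mul, hm'v, Matrix.smul_apply, smul_eq_mul, mul_inv_cancel_left₀ hν0]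
  rw [Nat.card_congr (Equiv.subtypeEquivRight fun g => (hrange g).symm)]
  have hcount := Subgroup.card_mul_index Φ.ker
  rw [Subgroup.index_ker, hker, Nat.card_prod, AutPSU.card_normOne] at hcount
  have hdvd : q₀ + 1 ∣ q + 1 := by
    rw [hq]
    simpa using hodd.nat_add_dvd_pow_add_pow q₀ 1
  obtain ⟨k, hk⟩ := hdvd
  rw [hk, Nat.mul_div_cancel_left _ (Nat.succ_pos _)]
  rw [hk, mul_assoc] at hcount
  rw [show Nat.card {g : ↥(Cfsg.GU n K q) // g ∈ Φ.range} = Nat.card Φ.range from rfl,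
    Nat.eq_of_mul_eq_mul_left (Nat.succ_pos _) hcount, UnitaryOrder.card_GU hK0, Nat.cast_mul, Nat.cast_mul,
    Nat.cast_pow, Finset.prod_range, Nat.cast_prod]
  congr 2
  refine Finset.prod_congr rfl fun i _ => ?_
  have hq1 : 1 ≤ q₀ ^ ((i : ℕ) + 1) := Nat.one_le_pow _ _ (by have := AutPSU.two_le_q (F := K₀) (q := q₀); omega)
  split_ifs with hi
  · rw [pow_succ (-1 : ℤ), hi.neg_one_pow]
    push_cast
    ring
  · rw [Nat.cast_sub hq1, pow_succ (-1 : ℤ), (Nat.not_even_iff_odd.1 hi).neg_one_pow]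
    push_cast
    ring

end Cfsg.Agent.S2677
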