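import Cfsg.Statements.S2678
import Cfsg.Agent.Lib.Spinor.Restrict
-- import your own Cfsg.Agent.* helpers here

set_option autoImplicit false
open Cfsg

namespace Cfsg.Agent.S2678

/-- Field-extension embedding of symplectic groups: for a field K with q² elements and a field F with q elements there is an injective homomorphism Sp_2a(K) → Sp_4a(F). -/
theorem result {K F : Type*} [Field K] [Fintype K] [Field F] [Fintype F] {q : ℕ} (hK : Fintype.card K = q ^ 2) (hF : Fintype.card F = q) (a : ℕ) : ∃ φ : ↥(Matrix.symplecticGroup (Fin a) K) →* ↥(Matrix.symplecticGroup (Fin (2 * a)) F), Function.Injective φ := by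
  classical
  obtain ⟨i⟩ := Restrict.exists_ringHom hK hF
  letI := i.toAlgebra
  let B : LinearMap.BilinForm F (Fin a ⊕ Fin a → K) :=
    LinearMap.mk₂ F (fun u v => Algebra.trace F K (FormsLib.spB a K u v))
      (fun u u' v => by simp)
      (fun c u v => by rw [← algebraMap_smul K c u, LinearMap.map_smul₂, algebraMap_smul, map_smul])
      (fun u v v' => by simp)
      (fun c u v => by rw [← algebraMap_smul K c v, map_smul, algebraMap_smul, map_smul])
  have hBa : ∀ u v, B u v = Algebra.trace F K (FormsLib.spB a K u v) := fun _ _ => rfl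
  have hA : LinearMap.IsAlt B := fun v => by rw [hBa, FormsLib.spB_alt v, map_zero]
  obtain ⟨x, hx⟩ := DFunLike.ne_iff.1 (Algebra.trace_ne_zero F K)
  have hB : LinearMap.Nondegenerate B := by
    refine ⟨fun u hu => FormsLib.spB_nondeg.1 u fun v => ?_,
      fun v hv => FormsLib.spB_nondeg.2 v fun u => ?_⟩
    · by_contra hne
      refine hx ?_
      have := hu ((x / FormsLib.spB a K u v) • v)
      rwa [hBa, map_smul, smul_eq_mul, div_mul_cancel₀ _ hne] at this
    · by_contra hne
      refine hx ?_
      have := hv ((x / FormsLib.spB a K u v) • u)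
      rwa [hBa, LinearMap.map_smul₂, smul_eq_mul, div_mul_cancel₀ _ hne] at this
  obtain ⟨L, hL⟩ := Restrict.exists_spCoord hA hB (m := 2 * a) (by
    rw [Restrict.finrank_pi hK hF, Fintype.card_sum, Fintype.card_fin]; ring)
  refine ⟨((Restrict.Φ L).comp (Matrix.symplecticGroup (Fin a) K).subtype).codRestrict
    (Matrix.symplecticGroup (Fin (2 * a)) F) fun g => (FormsLib.mem_symplectic_iff _).2 fun u v => ?_, ?_⟩
  · obtain ⟨u, rfl⟩ := L.surjective u
    obtain ⟨v, rfl⟩ := L.surjective v
    simp only [MonoidHom.comp_apply, Restrict.Φ_mulVec, LinearEquiv.symm_apply_apply, hL, hBa]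
    exact congrArg (Algebra.trace F K) ((FormsLib.mem_symplectic_iff _).1 g.2 u v)
  · intro g g' h
    exact Subtype.ext (Restrict.Φ_injective L (congrArg Subtype.val h))

end Cfsg.Agent.S2678
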