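import Cfsg.Statements.S2679
import Cfsg.Agent.Lib.Spinor.Restrict
-- import your own Cfsg.Agent.* helpers here

set_option autoImplicit false
open Cfsg Cfsg.Agent.Spinor

namespace Cfsg.Agent.S2679

/-- An elliptic orthogonal group embeds in the hyperbolic orthogonal group of the same dimension over the quadratic extension: for a field F with q elements and a field K with q² elements there is an injective homomorphism from O⁻_2m(F) (isometries of Σ_(j<m−1) x_j y_j + z₁² + a z₁z₂ + c z₂², binary part anisotropic) to O⁺_2m(K) (isometries of Σ_(j<m) x_j y_j over K). -/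
theorem result {F K : Type*} [Field F] [Fintype F] [Field K] [Fintype K] {q : ℕ} (hF : Fintype.card F = q) (hK : Fintype.card K = q ^ 2) {m : ℕ} (hm : 1 ≤ m) (a c : F) (hac : ∀ z₁ z₂ : F, z₁ ^ 2 + a * z₁ * z₂ + c * z₂ ^ 2 = 0 → z₁ = 0 ∧ z₂ = 0) : ∃ φ : ↥(Cfsg.isometryGroup F (Cfsg.quadFormMinus (m - 1) F a c)) →* ↥(Cfsg.isometryGroup K (Cfsg.quadFormPlus m K)), Function.Injective φ := by
  classical
  obtain ⟨k, rfl⟩ : ∃ k, m = k + 1 := ⟨m - 1, by omega⟩
  obtain ⟨i⟩ := Restrict.exists_ringHom hK hF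
  letI := i.toAlgebra
  obtain ⟨r, hr, hne⟩ : ∃ r : K, r ^ 2 + i a * r + i c = 0 ∧ r ≠ -i a - r := by
    have hroot : ∃ r : K, r ^ 2 + i a * r + i c = 0 := by
      obtain ⟨f⟩ : Nonempty (AdjoinRoot (Polynomial.X ^ 2 + Polynomial.C a * Polynomial.X + Polynomial.C c) →ₐ[F] K) := by
        have hdeg : (Polynomial.X ^ 2 + Polynomial.C a * Polynomial.X + Polynomial.C c).natDegree = 2 := by
          compute_degree!
        have hirr : Irreducible (Polynomial.X ^ 2 + Polynomial.C a * Polynomial.X + Polynomial.C c) := by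
          refine (Polynomial.irreducible_iff_roots_eq_zero_of_degree_le_three (by omega) (by omega)).2 ?_
          refine Multiset.eq_zero_of_forall_notMem fun t ht => ?_
          rw [Polynomial.mem_roots (fun h0 => by rw [h0] at hdeg; simp at hdeg)] at ht
          simp [Polynomial.IsRoot] at ht
          exact one_ne_zero (hac t 1 (by linear_combination ht)).2
        haveI := Fact.mk hirr
        refine FiniteField.nonempty_algHom_of_finrank_dvd ?_
        rw [(AdjoinRoot.powerBasis hirr.ne_zero).finrank, AdjoinRoot.powerBasis_dim, hdeg,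
          Restrict.finrank_two hK hF]
      refine ⟨f (AdjoinRoot.root _), ?_⟩
      have := congrArg f (AdjoinRoot.eval₂_root (Polynomial.X ^ 2 + Polynomial.C a * Polynomial.X + Polynomial.C c))
      simpa [← AdjoinRoot.algebraMap_eq, RingHom.algebraMap_toAlgebra] using this
    obtain ⟨r, hr⟩ := hroot
    refine ⟨r, hr, fun he => ?_⟩
    obtain ⟨σ, hσ⟩ := Restrict.exists_frob (K := K) hF
    have hσi : ∀ x, σ (i x) = i x := σ.commutes
    have h1 : σ r ^ 2 + i a * σ r + i c = 0 := by
      have := congrArg σ hr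
      simpa [hσi] using this
    have h2 : σ r = r := by
      have : (σ r - r) * (σ r - r) = 0 := by
        linear_combination h1 - hr - (σ r - r) * he
      exact sub_eq_zero.1 (mul_self_eq_zero.1 this)
    obtain ⟨t, ht⟩ : ∃ t : K, Algebra.trace F K t = 1 := by
      obtain ⟨x, hx⟩ := DFunLike.ne_iff.1 (Algebra.trace_ne_zero F K)
      exact ⟨(Algebra.trace F K x)⁻¹ • x, by rw [map_smul, smul_eq_mul, inv_mul_cancel₀ hx]⟩
    have hb : i (Algebra.trace F K (t * r)) = r := by
      have := Restrict.trace_eq_of_fixed hK hF (x := r) (by rw [← hσ]; exact h2) t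
      rw [ht, map_one, mul_one] at this
      exact this
    rw [← hb, ← map_pow, ← map_mul, ← map_add, ← map_add, map_eq_zero] at hr
    exact one_ne_zero (hac (Algebra.trace F K (t * r)) 1 (by linear_combination hr)).2
  let T : ((Fin k ⊕ Fin k) ⊕ Fin 2 → K) →ₗ[K] (Fin (k + 1) ⊕ Fin (k + 1) → K) :=
    { toFun := fun u => Sum.elim (Fin.snoc (fun j => u (.inl (.inl j))) (u (.inr 0) - r * u (.inr 1)))
        (Fin.snoc (fun j => u (.inl (.inr j))) (u (.inr 0) - (-i a - r) * u (.inr 1)))
      map_add' := fun u v => by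
        funext j
        rcases j with j | j <;> refine Fin.lastCases ?_ (fun j => ?_) j <;> simp <;> ring
      map_smul' := fun x u => by
        funext j
        rcases j with j | j <;> refine Fin.lastCases ?_ (fun j => ?_) j <;> simp <;> ring }
  have hT : Function.Injective T := by
    rw [injective_iff_map_eq_zero]
    intro u hu
    have hl := fun j => congrFun hu (.inl j)
    have hr' := fun j => congrFun hu (.inr j)
    have e1 : u (.inr 0) - r * u (.inr 1) = 0 := by simpa [T] using hl (Fin.last k)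
    have e2 : u (.inr 0) - (-i a - r) * u (.inr 1) = 0 := by simpa [T] using hr' (Fin.last k)
    have z1 : u (.inr 1) = 0 :=
      (mul_eq_zero.1 (show (-i a - r - r) * u (.inr 1) = 0 by linear_combination e1 - e2)).resolve_left
        fun h => hne (sub_eq_zero.1 h).symm
    funext j
    rcases j with (j | j) | j
    · simpa [T] using hl j.castSucc
    · simpa [T] using hr' j.castSucc
    · fin_cases j
      · simpa [z1] using e1
      · exact z1
  let L := LinearEquiv.ofBijective T ⟨hT, (LinearMap.injective_iff_surjective_of_finrank_eq_finrank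
    (by simp; ring)).1 hT⟩
  have hL : ∀ u : (Fin k ⊕ Fin k) ⊕ Fin 2 → F, OrthOrder.qPlus (k + 1) K (L (i ∘ u)) =
      i (Cfsg.quadFormMinus k F a c u) := fun u => by
    rw [OrthOrder.qPlus_apply]
    show Cfsg.quadFormPlus (k + 1) K (T (i ∘ u)) = _
    simp [Cfsg.quadFormPlus, Cfsg.quadFormMinus, T, Fin.sum_univ_castSucc]
    linear_combination (-(i (u (.inr 1)) ^ 2)) * hr
  let R := (OrthOrder.qPlus (k + 1) K).comp L.toLinearMap
  refine ⟨((((Units.map (Restrict.Φ L)).comp (Units.map i.mapMatrix.toMonoidHom)).comp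
      (Cfsg.isometryGroup F (Cfsg.quadFormMinus k F a c)).subtype).codRestrict
      (Cfsg.isometryGroup K (Cfsg.quadFormPlus (k + 1) K)) fun g u _ => ?_), fun g g' h => Subtype.ext
      (Units.map_injective (fun A B hAB => Matrix.map_injective i.injective hAB)
        (Units.map_injective (Restrict.Φ_injective L) (congrArg Subtype.val h)))⟩
  obtain ⟨u, rfl⟩ := L.surjective u
  set A : Matrix ((Fin k ⊕ Fin k) ⊕ Fin 2) ((Fin k ⊕ Fin k) ⊕ Fin 2) F :=
    Units.val (g : Matrix.GeneralLinearGroup ((Fin k ⊕ Fin k) ⊕ Fin 2) F) with hA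
  show Cfsg.quadFormPlus (k + 1) K ((Restrict.Φ L (A.map i)).mulVec (L u)) =
    Cfsg.quadFormPlus (k + 1) K (L u)
  rw [Restrict.Φ_mulVec, LinearEquiv.symm_apply_apply, ← OrthOrder.qPlus_apply, ← OrthOrder.qPlus_apply]
  let G := (Matrix.GeneralLinearGroup.toLin
    (Units.map i.mapMatrix.toMonoidHom (g : Matrix.GeneralLinearGroup ((Fin k ⊕ Fin k) ⊕ Fin 2) F))).toLinearEquiv.trans L
  have hrat : ∀ w : (Fin k ⊕ Fin k) ⊕ Fin 2 → F, OrthOrder.qPlus (k + 1) K (G (i ∘ w)) = R (i ∘ w) := by
    intro w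
    show OrthOrder.qPlus (k + 1) K (L ((A.map i).mulVec (i ∘ w))) = OrthOrder.qPlus (k + 1) K (L (i ∘ w))
    rw [show (A.map i).mulVec (i ∘ w) = i ∘ A.mulVec w from funext fun j => (RingHom.map_mulVec i A w j).symm,
      hL, hL]
    exact congrArg i (g.2 w w)
  have hs : ∀ j, (Pi.basisFun K ((Fin k ⊕ Fin k) ⊕ Fin 2)) j = i ∘ (Pi.single j (1 : F)) := fun j => by
    funext l
    simp [Pi.single_apply, apply_ite i]
  refine (quad_ext (Pi.basisFun K _) R (OrthOrder.qPlus (k + 1) K) G (fun j => ?_) (fun j l => ?_) u).symm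
  · rw [hs, hrat]
  · have hadd : i ∘ (Pi.single j (1 : F)) + i ∘ (Pi.single l (1 : F)) =
        i ∘ (Pi.single j (1 : F) + Pi.single l (1 : F) : (Fin k ⊕ Fin k) ⊕ Fin 2 → F) :=
      funext fun x => by simp
    rw [hs, hs, QuadraticMap.polar, QuadraticMap.polar, ← map_add, hadd, hrat, hrat, hrat]

end Cfsg.Agent.S2679
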