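import Cfsg.Statements.S2680
import Cfsg.Agent.Lib.Forms.SpInvolCent

set_option autoImplicit false
open Cfsg

namespace Cfsg.Agent.S2680

/-- Centraliser order of an involution t of Sp_2m(q), q even, with s = rank(t − 1) odd (type b_s): |C(t)| = q^(2ms − (3s² − s)/2) · |Sp_(s−1)(q)| · |Sp_(2m−2s)(q)|, where |Sp_2k(q)| = q^(k²) Π_(i=1)^k (q^(2i) − 1). -/
theorem result {F : Type*} [Field F] [Fintype F] [CharP F 2] {q : ℕ} (hF : Fintype.card F = q) {m s : ℕ} (t : Matrix.symplecticGroup (Fin m) F) (ht : t ^ 2 = 1) (hs : ((t : Matrix (Fin m ⊕ Fin m) (Fin m ⊕ Fin m) F) - 1).rank = s) (hodd : Odd s) : Nat.card ↥(Subgroup.centralizer ({t} : Set ↥(Matrix.symplecticGroup (Fin m) F))) = q ^ (2 * m * s - (3 * s ^ 2 - s) / 2) * ((q : ℕ) ^ (((s - 1) / 2) ^ 2) * ∏ i : Fin ((s - 1) / 2), (q ^ (2 * ((i : ℕ) + 1)) - 1)) * ((q : ℕ) ^ ((m - s) ^ 2) * ∏ i : Fin (m - s),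 (q ^ (2 * ((i : ℕ) + 1)) - 1)) := by
  obtain ⟨hN, hN2, hfun⟩ := Cfsg.Agent.FormsLib.SpInvolCent.props t ht
  subst hF
  obtain ⟨a, rfl⟩ := hodd
  have hna : ∃ v, Cfsg.Agent.FormsLib.spB m F (((t : Matrix (Fin m ⊕ Fin m) (Fin m ⊕ Fin m) F) - 1).mulVec v) v ≠ 0 := by
    by_contra h
    push Not at h
    obtain ⟨-, ⟨k, hk⟩, -⟩ := Cfsg.Agent.FormsLib.SpInvolCent.card_of_alt t ht hs h
    omega
  obtain ⟨hsm, -, h⟩ := Cfsg.Agent.FormsLib.SpInvolCent.card_of_nonalt t ht hs hna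
  rw [if_pos ⟨a, rfl⟩] at h
  refine Cfsg.Agent.FormsLib.SpInvolCent.finish (e := 0) Fintype.card_pos (by rw [pow_zero, one_mul]; exact h) ?_
  obtain ⟨d, rfl⟩ := Nat.exists_eq_add_of_le hsm
  rw [Nat.add_sub_cancel_left, show (3 * (2 * a + 1) ^ 2 - (2 * a + 1)) / 2 = 6 * a ^ 2 + 5 * a + 1 by
      rw [show 3 * (2 * a + 1) ^ 2 = (6 * a ^ 2 + 5 * a + 1) * 2 + (2 * a + 1) by ring, Nat.add_sub_cancel,
        Nat.mul_div_cancel _ two_pos],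
    show (2 * a + 1) * (2 * a + 1 - 1) / 2 = 2 * a ^ 2 + a by
      rw [Nat.add_sub_cancel, show (2 * a + 1) * (2 * a) = (2 * a ^ 2 + a) * 2 by ring, Nat.mul_div_cancel _ two_pos]]
  have h3 : 6 * a ^ 2 + 5 * a + 1 ≤ 2 * (2 * a + 1 + d) * (2 * a + 1) := by nlinarith
  zify [h3]
  ring

end Cfsg.Agent.S2680
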