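import Cfsg.Statements.S2681
import Cfsg.Agent.Lib.Forms.SpInvolCent

set_option autoImplicit false
open Cfsg

namespace Cfsg.Agent.S2681

/-- Centraliser order of an involution t of Sp_2m(q), q even, with s = rank(t − 1) even and f(v, tv) = 0 for every v, f the symplectic form (type a_s): |C(t)| = q^(2ms − (3s² − s)/2) · |Sp_s(q)| · |Sp_(2m−2s)(q)|. -/
theorem result {F : Type*} [Field F] [Fintype F] [CharP F 2] {q : ℕ} (hF : Fintype.card F = q) {m s : ℕ} (t : Matrix.symplecticGroup (Fin m) F) (ht : t ^ 2 = 1) (ht1 : t ≠ 1) (hs : ((t : Matrix (Fin m ⊕ Fin m) (Fin m ⊕ Fin m) F) - 1).rank = s) (heven : Even s) (halt : ∀ v : Fin m ⊕ Fin m → F, Cfsg.sympForm m F v ((t : Matrix (Fin m ⊕ Fin m) (Fin m ⊕ Fin m) F).mulVec v) = 0) : Nat.card ↥(Subgroup.centralizer ({t} : Set ↥(Matrix.symplecticGroup (Fin m) F))) = q ^ (2 * m * s - (3 * s ^ 2 - s) / 2) * ((q : ℕ) ^ ((s / 2)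 ^ 2) * ∏ i : Fin (s / 2), (q ^ (2 * ((i : ℕ) + 1)) - 1)) * ((q : ℕ) ^ ((m - s) ^ 2) * ∏ i : Fin (m - s), (q ^ (2 * ((i : ℕ) + 1)) - 1)) := by
  obtain ⟨hN, hN2, hfun⟩ := Cfsg.Agent.FormsLib.SpInvolCent.props t ht
  subst hF
  have hall : ∀ v, Cfsg.Agent.FormsLib.spB m F (((t : Matrix (Fin m ⊕ Fin m) (Fin m ⊕ Fin m) F) - 1).mulVec v) v = 0 :=
    fun v => (hfun v).symm.trans (halt v)
  obtain ⟨hsm, -, h⟩ := Cfsg.Agent.FormsLib.SpInvolCent.card_of_alt t ht hs hall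
  refine Cfsg.Agent.FormsLib.SpInvolCent.finish (e := 0) Fintype.card_pos (by rw [pow_zero, one_mul]; exact h) ?_
  obtain ⟨d, rfl⟩ := Nat.exists_eq_add_of_le hsm
  obtain ⟨a, rfl⟩ := heven
  rcases a with _ | b
  · simp
  rw [Nat.add_sub_cancel_left, show (3 * (b + 1 + (b + 1)) ^ 2 - (b + 1 + (b + 1))) / 2 = 6 * b ^ 2 + 11 * b + 5 by
      rw [show 3 * (b + 1 + (b + 1)) ^ 2 = (6 * b ^ 2 + 11 * b + 5) * 2 + (b + 1 + (b + 1)) by ring,
        Nat.add_sub_cancel, Nat.mul_div_cancel _ two_pos],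
    show (b + 1 + (b + 1)) * (b + 1 + (b + 1) - 1) / 2 = 2 * b ^ 2 + 3 * b + 1 by
      rw [show b + 1 + (b + 1) - 1 = 2 * b + 1 by omega,
        show (b + 1 + (b + 1)) * (2 * b + 1) = (2 * b ^ 2 + 3 * b + 1) * 2 by ring, Nat.mul_div_cancel _ two_pos]]
  have h3 : 6 * b ^ 2 + 11 * b + 5 ≤ 2 * (b + 1 + (b + 1) + d) * (b + 1 + (b + 1)) := by nlinarith
  zify [h3]
  ring

end Cfsg.Agent.S2681
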