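import Cfsg.Statements.S2683
import Cfsg.Agent.Lib.Spinor.Char2InvolCent

set_option autoImplicit false
open Cfsg

namespace Cfsg.Agent.S2683

/-- For the hyperbolic form Σ x_j y_j on F^(2m) over a finite field with q elements, q even (excluding m = 2 over the field of two elements), and an involution x of the orthogonal group with s = rank(x − 1) odd (type b_s; such x lie outside Ω): the elements of Ω (the commutator subgroup of the orthogonal group) commuting with x number q^(2m(s−1) − (3s² − 3s)/2) · |Sp_(s−1)(q)| · |Sp_(2m−2s)(q)|, where |Sp_2k(q)| = q^(k²) Π_(i=1)^k (q^(2i) − 1). -/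
theorem result {F : Type*} [Field F] [Fintype F] [CharP F 2] {q : ℕ} (hF : Fintype.card F = q) {m s : ℕ} (h : Fintype.card F ≠ 2 ∨ m ≠ 2) (x : ↥(Cfsg.isometryGroup F (Cfsg.quadFormPlus m F))) (hx : x ^ 2 = 1) (hs : (((x : Matrix.GeneralLinearGroup (Fin m ⊕ Fin m) F) : Matrix (Fin m ⊕ Fin m) (Fin m ⊕ Fin m) F) - 1).rank = s) (hodd : Odd s) : Nat.card {g : ↥(Cfsg.Omega F (Cfsg.quadFormPlus m F)) // (g : ↥(Cfsg.isometryGroup F (Cfsg.quadFormPlus m F))) * x = x * (g : ↥(Cfsg.isometryGroup F (Cfsg.quadFormPlus m F)))} = q ^ (2 * m * (s - 1) - (3 * s ^ 2 - 3 * s) / 2) * ((q : ℕ) ^ (((s - 1) / 2) ^ 2) * ∏ i : Fin ((s - 1) / 2), (q ^ (2 * ((i : ℕ) + 1)) - 1)) * ((q : ℕ) ^ ((m - s) ^ 2) * ∏ i : Fin (m - s), (q ^ (2 * ((i : ℕ) + 1)) - 1)) := by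
  classical
  have hQ := OrthForms.qPlus_nondeg (F := F) m
  have hq : ⇑(OrthOrder.qPlus m F) = Cfsg.quadFormPlus m F := funext (OrthOrder.qPlus_apply m)
  have hexc : Fintype.card F ≠ 2 ∨ Fintype.card (Fin m ⊕ Fin m) ≠ 4 := h.imp id fun h' => by simp; omega
  have hcard : Fintype.card (Fin m ⊕ Fin m) = 2 * m := by simp; omega
  have hsum : ∑ v : Fin m ⊕ Fin m → F, Cfsg.Agent.OrthChar2.chi (OrthOrder.qPlus m F v) = (Fintype.card F : ℤ) ^ m := by
    rw [hq]; exact Cfsg.Agent.OrthChar2.sum_chi_plus m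
  subst hF
  have hpos : 0 < Fintype.card F := Fintype.card_pos
  revert x
  rw [← hq]
  intro x hx hs
  have hx2 : x * x = 1 := (pow_two x).symm.trans hx
  obtain ⟨t, ht, hr, htype, D, hCD, hD, -⟩ := Cfsg.Agent.OrthChar2.card_centralizer_mul hQ hcard x hx2
  obtain ⟨hΩ, -⟩ := Cfsg.Agent.OrthChar2.card_omega_cent hQ hexc hcard x hx2
  rw [hs] at hr hD hΩ
  obtain ⟨a, rfl⟩ := hodd
  have hna : ∃ v, Cfsg.Agent.FormsLib.spB m F (((t : Matrix (Fin m ⊕ Fin m) (Fin m ⊕ Fin m) F) - 1).mulVec v) v ≠ 0 := by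
    by_contra h
    push Not at h
    obtain ⟨-, ⟨k, hk⟩, -⟩ := Cfsg.Agent.FormsLib.SpInvolCent.card_of_alt t ht hr h
    omega
  have hex := not_forall.1 fun hall => (not_forall.2 hna) (htype.2 hall)
  obtain ⟨hsm, -, h1⟩ := Cfsg.Agent.FormsLib.SpInvolCent.card_of_nonalt t ht hr hna
  rw [if_pos ⟨a, rfl⟩] at h1
  obtain ⟨d, rfl⟩ := Nat.exists_eq_add_of_le hsm
  have hv : (3 * (2 * a + 1) ^ 2 - 3 * (2 * a + 1)) / 2 = 6 * a ^ 2 + 3 * a := by
    rw [show 3 * (2 * a + 1) ^ 2 = (6 * a ^ 2 + 3 * a) * 2 + 3 * (2 * a + 1) by ring, Nat.add_sub_cancel,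
      Nat.mul_div_cancel _ two_pos]
  rw [hv]
  have h2 := Cfsg.Agent.FormsLib.SpInvolCent.finish (e := 0) (j := (2 * a + 1 - 1) / 2) (M := 2 * a + 1 + d) (s := 2 * a + 1)
    (E := 2 * (2 * a + 1 + d) * (2 * a + 1 - 1) - (6 * a ^ 2 + 3 * a) + (2 * (2 * a + 1 + d) - (2 * a + 1))) hpos
    (by rw [pow_zero, one_mul]; exact h1) (by
      rw [show (2 * a + 1) * (2 * a + 1 - 1) / 2 = 2 * a ^ 2 + a by
          rw [Nat.add_sub_cancel, show (2 * a + 1) * (2 * a) = (2 * a ^ 2 + a) * 2 by ring, Nat.mul_div_cancel _ two_pos],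
        Nat.add_sub_cancel_left, show 2 * a + 1 - 1 = 2 * a from rfl]
      have h3 : 6 * a ^ 2 + 3 * a ≤ 2 * (2 * a + 1 + d) * (2 * a) := by nlinarith
      have h4 : 2 * a + 1 ≤ 2 * (2 * a + 1 + d) := by omega
      zify [h3, h4]
      ring)
  apply Nat.eq_of_mul_eq_mul_left (pow_pos hpos (2 * (2 * a + 1 + d) - (2 * a + 1)))
  rw [← hD hex, mul_assoc, mul_left_comm, hΩ (fun h' => by obtain ⟨v, hv⟩ := hex; exact hv (h'.2 v)), mul_comm, ← hCD,
    hD hex, h2, pow_add]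
  ring

end Cfsg.Agent.S2683
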