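import Cfsg.Statements.S2684
import Cfsg.Agent.Lib.Spinor.Char2InvolCent

set_option autoImplicit false
open Cfsg

namespace Cfsg.Agent.S2684

/-- For the hyperbolic form Q = Σ x_j y_j on F^(2m) over a finite field with q elements, q even (excluding m = 2 over the field of two elements), and an involution x ≠ 1 of the orthogonal group with s = rank(x − 1) even and Q vanishing on the image of x − 1 (equivalently f(v, xv) = 0 for all v, where f(u, w) = Q(u + w) − Q(u) − Q(w) is the bilinear form of Q; type a_s, which lies in Ω): its centraliser in Ω (the commutator subgroup of the orthogonal group) has order q^(2ms − (3s² + s)/2) · |Sp_s(q)| · |Ω⁺_(2m−2s)(q)|, where |Ω⁺_2k(q)| = q^(k(k−1)) (q^k − 1) Π_(i=1)^(k−1) (q^(2i) − 1) for k ≥ 1 and the last factor is 1 when s = m. -/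
theorem result {F : Type*} [Field F] [Fintype F] [CharP F 2] {q : ℕ} (hF : Fintype.card F = q) {m s : ℕ} (h : Fintype.card F ≠ 2 ∨ m ≠ 2) (x : ↥(Cfsg.isometryGroup F (Cfsg.quadFormPlus m F))) (hx : x ^ 2 = 1) (hx1 : x ≠ 1) (hs : (((x : Matrix.GeneralLinearGroup (Fin m ⊕ Fin m) F) : Matrix (Fin m ⊕ Fin m) (Fin m ⊕ Fin m) F) - 1).rank = s) (heven : Even s) (halt : ∀ v : Fin m ⊕ Fin m → F, Cfsg.quadFormPlus m F ((((x : Matrix.GeneralLinearGroup (Fin m ⊕ Fin m) F) : Matrix (Fin m ⊕ Fin m) (Fin m ⊕ Fin m) F) - 1).mulVec v) = 0) : Nat.card {g : ↥(Cfsg.Omega F (Cfsg.quadFormPlus m F)) // (g : ↥(Cfsg.isometryGroup F (Cfsg.quadFormPlus m F))) * x = x * (g : ↥(Cfsg.isometryGroup F (Cfsg.quadFormPlus m F)))} = q ^ (2 * m * s - (3 * s ^ 2 + s) / 2) * ((q : ℕ) ^ ((s / 2) ^ 2) * ∏ i : Fin (s / 2), (q ^ (2 * ((i : ℕ) + 1)) - 1)) * (if s = m then 1 else q ^ ((m - s) * (m - s - 1)) * (q ^ (m - s) - 1) * ∏ i : Fin (m - s - 1), (q ^ (2 * ((i : ℕ) + 1))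 - 1)) := by
  classical
  have hQ := OrthForms.qPlus_nondeg (F := F) m
  have hq : ⇑(OrthOrder.qPlus m F) = Cfsg.quadFormPlus m F := funext (OrthOrder.qPlus_apply m)
  have hexc : Fintype.card F ≠ 2 ∨ Fintype.card (Fin m ⊕ Fin m) ≠ 4 := h.imp id fun h' => by simp; omega
  have hcard : Fintype.card (Fin m ⊕ Fin m) = 2 * m := by simp; omega
  have hsum : ∑ v : Fin m ⊕ Fin m → F, Cfsg.Agent.OrthChar2.chi (OrthOrder.qPlus m F v) = (Fintype.card F : ℤ) ^ m := by
    rw [hq]; exact Cfsg.Agent.OrthChar2.sum_chi_plus m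
  subst hF
  have hpos : 0 < Fintype.card F := Fintype.card_pos
  revert x
  rw [← hq]
  intro x hx hx1 hs hall
  have hx2 : x * x = 1 := (pow_two x).symm.trans hx
  obtain ⟨t, ht, hr, htype, D, hCD, -, hD⟩ := Cfsg.Agent.OrthChar2.card_centralizer_mul hQ hcard x hx2
  obtain ⟨hΩ, hΩm⟩ := Cfsg.Agent.OrthChar2.card_omega_cent hQ hexc hcard x hx2
  rw [hs] at hr hD hΩ hΩm
  obtain ⟨hsm, -, h1⟩ := Cfsg.Agent.FormsLib.SpInvolCent.card_of_alt t ht hr (htype.2 hall)
  have hD1 : 2 * D = Fintype.card F ^ (2 * m - s) + Fintype.card F ^ m := by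
    have h' := hD hall
    rw [hsum] at h'
    exact_mod_cast h'
  obtain ⟨d, rfl⟩ := Nat.exists_eq_add_of_le hsm
  obtain ⟨a, rfl⟩ := heven
  have hv : (3 * (a + a) ^ 2 + (a + a)) / 2 = 6 * a ^ 2 + a := by
    rw [show 3 * (a + a) ^ 2 + (a + a) = (6 * a ^ 2 + a) * 2 by ring, Nat.mul_div_cancel _ two_pos]
  rw [hv]
  have h2 := Cfsg.Agent.FormsLib.SpInvolCent.finish (e := 0) (j := (a + a) / 2) (M := a + a + d) (s := a + a)
    (E := 2 * (a + a + d) * (a + a) - (6 * a ^ 2 + a) + (a + a)) hpos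
    (by rw [pow_zero, one_mul]; exact h1) (by
      rw [Nat.add_sub_cancel_left]
      rcases a with _ | b
      · simp
      rw [show (b + 1 + (b + 1)) * (b + 1 + (b + 1) - 1) / 2 = 2 * b ^ 2 + 3 * b + 1 by
          rw [show b + 1 + (b + 1) - 1 = 2 * b + 1 by omega,
            show (b + 1 + (b + 1)) * (2 * b + 1) = (2 * b ^ 2 + 3 * b + 1) * 2 by ring, Nat.mul_div_cancel _ two_pos]]
      have h3 : 6 * (b + 1) ^ 2 + (b + 1) ≤ 2 * (b + 1 + (b + 1) + d) * (b + 1 + (b + 1)) := by nlinarith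
      zify [h3]
      ring)
  rw [show 2 * (a + a + d) - (a + a) = a + a + d + d by omega] at hD1
  generalize hk : a + a + d - (a + a) = k at h2 ⊢
  obtain rfl : k = d := by omega
  rcases k with _ | e
  · rw [if_pos (by omega)]
    have hD2 : D = Fintype.card F ^ (a + a + 0) := by
      simp only [add_zero] at hD1 ⊢
      omega
    rw [← hΩm rfl hall ⟨a, rfl⟩, hD2] at hCD
    rw [h2] at hCD
    apply Nat.eq_of_mul_eq_mul_right (pow_pos hpos (a + a + 0))
    rw [← hCD]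
    simp only [Finset.univ_eq_empty, Finset.prod_empty, mul_one, pow_add, add_zero]
    simp
    ring
  · rw [if_neg (by omega), show e + 1 - 1 = e from rfl]
    rw [← hΩ (fun h' => by omega)] at hCD
    have hD2 : 2 * D = Fintype.card F ^ (a + a) * (Fintype.card F ^ (e + 1) * (Fintype.card F ^ (e + 1) + 1)) := by
      rw [hD1, pow_add, pow_add]; ring
    apply Nat.eq_of_mul_eq_mul_right (show 0 < 2 * D by rw [hD2]; positivity)
    rw [show ∀ X : ℕ, X * (2 * D) = 2 * X * D from fun X => by ring, ← hCD, h2, pow_add,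
      ← Cfsg.Agent.OrthChar2.plus_factor, hD2]
    ring

end Cfsg.Agent.S2684
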