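import Cfsg.Statements.S2685
import Cfsg.Agent.Lib.Spinor.Char2InvolCent

set_option autoImplicit false
open Cfsg

namespace Cfsg.Agent.S2685

/-- For the hyperbolic form Q = Σ x_j y_j on F^(2m) over a finite field with q elements, q even (excluding m = 2 over the field of two elements), and an involution x of the orthogonal group with s = rank(x − 1) even and Q not vanishing on the image of x − 1 (f(v, xv) ≠ 0 for some v, where f(u, w) = Q(u + w) − Q(u) − Q(w) is the bilinear form of Q; type c_s, which lies in Ω): its centraliser in Ω (the commutator subgroup of the orthogonal group) has order q^(2m(s−1) − (3s² − 5s)/2 − 1) · |Sp_(s−2)(q)| · |Sp_(2m−2s)(q)|. -/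
theorem result {F : Type*} [Field F] [Fintype F] [CharP F 2] {q : ℕ} (hF : Fintype.card F = q) {m s : ℕ} (h : Fintype.card F ≠ 2 ∨ m ≠ 2) (x : ↥(Cfsg.isometryGroup F (Cfsg.quadFormPlus m F))) (hx : x ^ 2 = 1) (hs : (((x : Matrix.GeneralLinearGroup (Fin m ⊕ Fin m) F) : Matrix (Fin m ⊕ Fin m) (Fin m ⊕ Fin m) F) - 1).rank = s) (heven : Even s) (hna : ∃ v : Fin m ⊕ Fin m → F, Cfsg.quadFormPlus m F ((((x : Matrix.GeneralLinearGroup (Fin m ⊕ Fin m) F) : Matrix (Fin m ⊕ Fin m) (Fin m ⊕ Fin m) F) - 1).mulVec v) ≠ 0) : Nat.card {g : ↥(Cfsg.Omega F (Cfsg.quadFormPlus m F)) // (g : ↥(Cfsg.isometryGroup F (Cfsg.quadFormPlus m F))) * x = x * (g : ↥(Cfsg.isometryGroup F (Cfsg.quadFormPlus m F)))} = q ^ (2 * m * (s - 1) - (3 * s ^ 2 - 5 * s) / 2 - 1) * ((q : ℕ) ^ (((s - 2) / 2) ^ 2) * ∏ i : Fin ((s - 2) / 2), (q ^ (2 * ((i : ℕ) + 1)) - 1)) * ((q : ℕ) ^ ((m - s) ^ 2) * ∏ i : Fin (m - s), (q ^ (2 * ((i : ℕ) + 1))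 - 1)) := by
  classical
  have hQ := OrthForms.qPlus_nondeg (F := F) m
  have hq : ⇑(OrthOrder.qPlus m F) = Cfsg.quadFormPlus m F := funext (OrthOrder.qPlus_apply m)
  have hexc : Fintype.card F ≠ 2 ∨ Fintype.card (Fin m ⊕ Fin m) ≠ 4 := h.imp id fun h' => by simp; omega
  have hcard : Fintype.card (Fin m ⊕ Fin m) = 2 * m := by simp; omega
  have hsum : ∑ v : Fin m ⊕ Fin m → F, Cfsg.Agent.OrthChar2.chi (OrthOrder.qPlus m F v) = (Fintype.card F : ℤ) ^ m := by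
    rw [hq]; exact Cfsg.Agent.OrthChar2.sum_chi_plus m
  subst hF
  have hpos : 0 < Fintype.card F := Fintype.card_pos
  revert x
  rw [← hq]
  intro x hx hs hna
  have hx2 : x * x = 1 := (pow_two x).symm.trans hx
  obtain ⟨t, ht, hr, htype, D, hCD, hD, -⟩ := Cfsg.Agent.OrthChar2.card_centralizer_mul hQ hcard x hx2
  obtain ⟨hΩ, -⟩ := Cfsg.Agent.OrthChar2.card_omega_cent hQ hexc hcard x hx2
  rw [hs] at hr hD hΩ
  have hex := not_forall.1 fun hall => (not_forall.2 hna) (htype.1 hall)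
  obtain ⟨hsm, hspos, h1⟩ := Cfsg.Agent.FormsLib.SpInvolCent.card_of_nonalt t ht hr hex
  rw [if_neg (Nat.not_odd_iff_even.2 heven)] at h1
  obtain ⟨d, rfl⟩ := Nat.exists_eq_add_of_le hsm
  obtain ⟨a, rfl⟩ := heven
  rcases a with _ | b
  · omega
  have hv : (3 * (b + 1 + (b + 1)) ^ 2 - 5 * (b + 1 + (b + 1))) / 2 = 6 * b ^ 2 + 7 * b + 1 := by
    rw [show 3 * (b + 1 + (b + 1)) ^ 2 = (6 * b ^ 2 + 7 * b + 1) * 2 + 5 * (b + 1 + (b + 1)) by ring,
      Nat.add_sub_cancel, Nat.mul_div_cancel _ two_pos]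
  rw [hv]
  have h2 := Cfsg.Agent.FormsLib.SpInvolCent.finish (e := b + 1 + (b + 1) - 1) (j := (b + 1 + (b + 1) - 2) / 2)
    (E := 2 * (b + 1 + (b + 1) + d) * (b + 1 + (b + 1) - 1) - (6 * b ^ 2 + 7 * b + 1) - 1 +
      (2 * (b + 1 + (b + 1) + d) - (b + 1 + (b + 1)))) hpos h1 (by
      rw [show b + 1 + (b + 1) - 1 = 2 * b + 1 by omega, show (b + 1 + (b + 1)) * (2 * b + 1) / 2 = 2 * b ^ 2 + 3 * b + 1 by
          rw [show (b + 1 + (b + 1)) * (2 * b + 1) = (2 * b ^ 2 + 3 * b + 1) * 2 by ring, Nat.mul_div_cancel _ two_pos],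
        Nat.add_sub_cancel_left, Nat.sub_sub]
      have h3 : 6 * b ^ 2 + 7 * b + 1 + 1 ≤ 2 * (b + 1 + (b + 1) + d) * (2 * b + 1) := by nlinarith
      have h4 : b + 1 + (b + 1) ≤ 2 * (b + 1 + (b + 1) + d) := by omega
      zify [h3, h4]
      ring)
  apply Nat.eq_of_mul_eq_mul_left (pow_pos hpos (2 * (b + 1 + (b + 1) + d) - (b + 1 + (b + 1))))
  rw [← hD hna, mul_assoc, mul_left_comm, hΩ (fun h' => by obtain ⟨v, hv⟩ := hna; exact hv (h'.2 v)), mul_comm, ← hCD,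
    hD hna, h2, pow_add]
  ring

end Cfsg.Agent.S2685
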