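import Mathlib
import Cfsg.Prelude.Def_StandardType
import Cfsg.Prelude.Def_Solvable
import Cfsg.Agent.Lib.LocalBal.PSLField
import Cfsg.Agent.Lib.LocalBal.PSLGraphField
import Cfsg.Agent.Lib.LocalBal.PSLGraph

set_option autoImplicit false
set_option linter.unusedSectionVars false
set_option linter.style.haveILetI false

namespace Cfsg.Agent.S2686

open Cfsg
open Matrix Cfsg.Agent.AutPSL Cfsg.Agent.LocalBal

universe u

section

variable {F : Type u} [Field F] {n : ℕ}

local notation "SLn" => Matrix.SpecialLinearGroup (Fin n) F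
local notation "PSLn" => Matrix.ProjectiveSpecialLinearGroup (Fin n) F

/-- Powers of a product of an inner-diagonal and a field automorphism have the same shape. -/
theorem pow_form (g : GL (Fin n) F) (σ : F ≃+* F) (i : ℕ) :
    ∃ (h : GL (Fin n) F) (υ : F ≃+* F), (cj g * fld σ : MulAut SLn) ^ i = cj h * fld υ := by
  induction i with
  | zero => exact ⟨1, RingEquiv.refl F, by rw [pow_zero, map_one, one_mul, fld_one]⟩
  | succ i ih =>
    obtain ⟨h, υ, e⟩ := ih
    refine ⟨h * Matrix.GeneralLinearGroup.map (υ : F →+* F) g, σ.trans υ, ?_⟩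
    have := nf_mul (n := n) h g υ σ false false
    simp only [gpart, Bool.false_eq_true, if_false, mul_one, Bool.xor_self] at this
    rw [pow_succ, e, this]

theorem isField_descend_fld (σ : F ≃+* F) : Cfsg.IsFieldAutPSL (descend (fld σ) : MulAut PSLn) :=
  ⟨σ, fun s s' h => by
    show descend (fld σ) (proj n F s) = proj n F s'
    rw [descend_proj]
    exact congrArg _ (Subtype.ext (by rw [fld_apply, h]))⟩

theorem eq_of_field {φ : MulAut PSLn} (h : Cfsg.IsFieldAutPSL φ) : ∃ σ : F ≃+* F, φ = descend (fld σ) := by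
  obtain ⟨σ, hσ⟩ := h
  refine ⟨σ, MulEquiv.ext fun x => ?_⟩
  obtain ⟨s, rfl⟩ := proj_surjective x
  rw [descend_proj]
  exact hσ s (fld σ s) (fld_apply _ _)

theorem eq_qb [Finite F] (σ : F ≃+* F) (h2 : orderOf σ = 2) :
    ∃ (q : ℕ) (_ : AutPSU.QField F q), σ = AutPSU.qb q := by
  let F₀ := (σ : F →+* F).eqLocusField (RingHom.id F)
  haveI : Fintype F₀ := Fintype.ofFinite F₀
  have hc : Nat.card F = Nat.card F₀ ^ 2 := h2 ▸ card_eq_card_fixed_pow σ
  haveI hQ : AutPSU.QField F (Nat.card F₀) := ⟨hc, Finite.one_lt_card⟩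
  refine ⟨Nat.card F₀, hQ, ?_⟩
  set τ := AutPSU.qb (F := F) (Nat.card F₀)
  have hτ : ∀ a, σ a = a → τ a = a := fun a ha => by
    rw [AutPSU.qb_apply, Nat.card_eq_fintype_card]
    exact congrArg Subtype.val (FiniteField.pow_card (⟨a, ha⟩ : F₀))
  haveI : Module.Finite F₀ F := Module.Finite.of_finite
  let ψ : Gal(F/F₀) := AlgEquiv.ofRingEquiv (f := τ) fun a => hτ a.1 a.2
  let χ : Gal(F/F₀) := AlgEquiv.ofRingEquiv (f := σ) fun a => a.2
  haveI : IsGalois F₀ F := GaloisField.instIsGaloisOfFinite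
  have hcard : Nat.card Gal(F/F₀) = 2 := by
    rw [IsGalois.card_aut_eq_finrank]
    have h1 : Nat.card F = Nat.card F₀ ^ Module.finrank F₀ F := Module.natCard_eq_pow_finrank
    rw [h1] at hc
    exact Nat.pow_right_injective Finite.one_lt_card hc
  obtain ⟨y, -, hy⟩ := (Nat.card_eq_two_iff' (1 : Gal(F/F₀))).1 hcard
  have hσ1 : χ ≠ 1 := fun e => by
    have : σ = 1 := RingEquiv.ext fun a => (AlgEquiv.congr_fun e a :)
    rw [this, orderOf_one] at h2
    exact absurd h2 (by norm_num)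
  have hτ1 : ψ ≠ 1 := fun e => AutPSU.qb_ne_refl (F := F) (q := Nat.card F₀)
    (RingEquiv.ext fun a => (AlgEquiv.congr_fun e a :))
  exact RingEquiv.ext fun a => (AlgEquiv.congr_fun ((hy χ hσ1).trans (hy ψ hτ1).symm) a :)

theorem criterion [Finite F] (r : ℕ) [Fact r.Prime] [CharP F r] (hn : 2 ≤ n)
    (A : Subgroup (MulAut PSLn)) (hinn : ∀ k, MulAut.conj k ∈ A) (p : ℕ) [Fact p.Prime] (hpr : p ≠ r)
    (β : MulAut PSLn) (hord : orderOf β = p) (hnot : ¬ Cfsg.IsInnerDiagonalAutPSL β) :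
    Cfsg.pPrimeCore p ↥(A ⊓ Subgroup.centralizer {β}) ≠ ⊥ ↔
      ((∃ γ φ : MulAut PSLn, Cfsg.IsInnerDiagonalAutPSL γ ∧ Cfsg.IsFieldAutPSL φ ∧ β = φ.trans γ) ∧
        Nat.Coprime p (Nat.card ↥(Fix β))) := by
  have hp : p.Prime := Fact.out
  obtain ⟨g, σ, ε, hβ, hε⟩ : ∃ (g : GL (Fin n) F) (σ : F ≃+* F) (ε : Bool),
      β = descend (cj g * fld σ * gpart ε) ∧ (ε = true → 3 ≤ n) := by
    obtain ⟨g, σ, ε, hde⟩ := exists_normal_form r hn β
    rcases Nat.lt_or_ge n 3 with h3 | h3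
    · obtain rfl : n = 2 := by omega
      cases ε with
      | false => exact ⟨g, σ, false, hde, fun h => Bool.noConfusion h⟩
      | true =>
        refine ⟨g * glMap σ (Matrix.SpecialLinearGroup.toGL (swapElt 0 1 (by decide))), σ, false, ?_,
          fun h => Bool.noConfusion h⟩
        rw [hde]
        congr 1
        simp only [gpart, if_true, Bool.false_eq_true, if_false, mul_one]
        rw [itp_eq_cj_two, mul_assoc, fld_mul_cj, map_mul cj, mul_assoc]
        rfl
    · exact ⟨g, σ, ε, hde, fun _ => h3⟩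
  have hpow : β ^ p = 1 := hord ▸ pow_orderOf_eq_one β
  cases ε with
  | false =>
    have hβ' : β = descend (cj g) * stdAut n σ false := by rw [hβ, mul_assoc, map_mul]; rfl
    have hσ1 : σ ≠ RingEquiv.refl F := fun e => hnot ((isInnerDiagonalAutPSL_iff β).2 ⟨g, by
      rw [hβ, e, fld_one, mul_one, show (gpart false : MulAut SLn) = 1 by simp [gpart], mul_one]⟩)
    have hσp : orderOf σ = p := by
      refine orderOf_eq_prime ?_ hσ1
      have h1 := hpow
      rw [hβ', cyc_pow, stdAut, ← map_pow, show (fld σ * gpart false : MulAut SLn) = fld σ by simp [gpart],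
        PSL.fld_pow, ← map_mul] at h1
      exact (eq_of_descend_eq_one r hn h1).2
    obtain ⟨k, hk⟩ := exists_conj_field r hn σ (hσp ▸ hp.pos) g (by rw [← hβ', hσp]; exact hpow)
    rw [← hβ'] at hk
    set K := (descend (cj k) : MulAut PSLn)
    have e : K⁻¹ * β * K⁻¹⁻¹ = stdAut n σ false := by rw [hk]; group
    have hiff := PSL.field_criterion r hn p σ hσp hpr (A.map (MulAut.conj K⁻¹).toMonoidHom) (conj_mem_map A hinn _)
    rw [← e, card_fix_conj, ne_eq, ← core_bot_conj A β p K⁻¹] at hiff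
    refine ⟨fun h => ⟨⟨descend (cj g), descend (fld σ), (isInnerDiagonalAutPSL_iff _).2 ⟨g, rfl⟩,
      isField_descend_fld σ, ?_⟩, hiff.1 h⟩, fun h => hiff.2 h.2⟩
    rw [hβ', stdAut, show (fld σ * gpart false : MulAut SLn) = fld σ by simp [gpart]]
    rfl
  | true =>
    have h3 := hε rfl
    have hitp : ∀ (h : GL (Fin n) F) (υ : F ≃+* F), descend (cj h * fld υ) * β ≠ 1 := by
      intro h υ e
      rw [hβ, ← map_mul] at e
      have h1 := nf_mul (n := n) h g υ σ false true
      simp only [gpart, Bool.false_eq_true, if_false, mul_one, Bool.false_xor, if_true] at h1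
      simp only [gpart, if_true] at e
      rw [h1] at e
      exact descend_itp_ne r h3 _ _ e
    have hsq : ∃ (h : GL (Fin n) F) (υ : F ≃+* F), β * β = descend (cj h * fld υ) := by
      have := nf_mul (n := n) g g σ σ true true
      rw [Bool.xor_self, show (gpart false : MulAut SLn) = 1 by simp [gpart], mul_one] at this
      exact ⟨_, _, by rw [hβ, ← map_mul, this]⟩
    obtain rfl : p = 2 := by
      by_contra hp2
      obtain ⟨j, hj⟩ := hp.odd_of_ne_two hp2
      obtain ⟨h, υ, e⟩ := hsq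
      obtain ⟨h', υ', e'⟩ := pow_form h υ j
      refine hitp h' υ' ?_
      rw [← e', map_pow, ← e, ← sq, ← pow_mul, ← pow_succ, ← hj, hpow]
    have hnf : ¬ ∃ γ φ : MulAut PSLn, Cfsg.IsInnerDiagonalAutPSL γ ∧ Cfsg.IsFieldAutPSL φ ∧ β = φ.trans γ := by
      rintro ⟨γ, φ, hγ, hφ, e⟩
      obtain ⟨g', rfl⟩ := (isInnerDiagonalAutPSL_iff γ).1 hγ
      obtain ⟨τ, rfl⟩ := eq_of_field hφ
      refine hitp g' τ ?_
      rw [map_mul, show descend (cj g') * descend (fld τ) = β from e.symm, ← sq, hpow]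
    refine iff_of_false ?_ fun h => hnf h.1
    rw [ne_eq, not_not]
    have hβ' : β = descend (cj g) * stdAut n σ true := by rw [hβ, mul_assoc, map_mul]; rfl
    have hσσ : ∀ a, σ (σ a) = a := by
      have e := hpow
      rw [sq, hβ, ← map_mul, nf_mul, Bool.xor_self, show (gpart false : MulAut SLn) = 1 by simp [gpart], mul_one]
        at e
      exact RingEquiv.congr_fun (eq_of_descend_eq_one r hn e).2
    by_cases hσ1 : σ = RingEquiv.refl F
    · subst hσ1
      rw [hβ, fld_one, mul_one] at hord ⊢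
      obtain ⟨B, hB, hBs⟩ := exists_gam_rep r h3 (γ := descend (cj g * gpart true))
        ⟨h3, descend (cj g), descend itp, (isInnerDiagonalAutPSL_iff _).2 ⟨g, rfl⟩,
          (isInverseTransposeAutPSL_iff _).2 rfl, map_mul descend _ _⟩ hord
      rw [hB]
      exact PSL.graph_core r h3 B (fun h => hpr h.symm) hBs A hinn
    · obtain ⟨k, hk⟩ := exists_conj_graphField r hn σ hσσ hσ1 g (by rw [← hβ']; exact hpow)
      rw [← hβ'] at hk
      obtain ⟨q, _, rfl⟩ := eq_qb σ (orderOf_eq_prime (RingEquiv.ext fun a => by rw [pow_two]; exact hσσ a) hσ1)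
      set K := (descend (cj k) : MulAut PSLn)
      have e : K⁻¹ * β * K⁻¹⁻¹ = stdAut n (AutPSU.qb q) true := by rw [hk]; group
      rw [core_bot_conj A β 2 K⁻¹, e]
      exact PSL.graphField_core r h3 (fun h => hpr h.symm) _ (conj_mem_map A hinn _)

end

theorem result
    (F : Type*) [Field F] [Fintype F] (r : ℕ) [Fact r.Prime] [CharP F r] (n : ℕ) (hn : 2 ≤ n)
    (hK : IsSimpleGroup (Matrix.ProjectiveSpecialLinearGroup (Fin n) F))
    (𝒢 : Subgroup (MulAut (Matrix.ProjectiveSpecialLinearGroup (Fin n) F))) (hinn : ∀ k : Matrix.ProjectiveSpecialLinearGroup (Fin n) F, MulAut.conj k ∈ 𝒢)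
    (p : ℕ) [Fact p.Prime] (hpr : p ≠ r) (β : MulAut (Matrix.ProjectiveSpecialLinearGroup (Fin n) F)) (hβ : β ∈ 𝒢) (hord : orderOf β = p)
    (hnot : ¬ Cfsg.IsInnerDiagonalAutPSL β) :
    Cfsg.pPrimeCore p ↥(𝒢 ⊓ Subgroup.centralizer {β}) ≠ ⊥ ↔
      ((∃ γ φ : MulAut (Matrix.ProjectiveSpecialLinearGroup (Fin n) F), Cfsg.IsInnerDiagonalAutPSL γ ∧ Cfsg.IsFieldAutPSL φ ∧ β = φ.trans γ) ∧
        Nat.Coprime p (Nat.card ↥(MonoidHom.eqLocus β.toMonoidHom (MonoidHom.id (Matrix.ProjectiveSpecialLinearGroup (Fin n) F))))) := by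
  exact criterion r hn 𝒢 hinn p hpr β hord hnot

end Cfsg.Agent.S2686
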