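import Mathlib
import Cfsg.Prelude.Def_StandardType
import Cfsg.Prelude.Def_Solvable
import Cfsg.Agent.Lib.LocalBal.PSUGraph
import Cfsg.Agent.S0282

set_option autoImplicit false
set_option linter.unusedSectionVars false
set_option linter.style.haveILetI false

namespace Cfsg.Agent.S2687

open Cfsg
open Matrix Cfsg.Agent.AutPSU Cfsg.Agent.LocalBal

universe u

section

variable {F : Type u} [Field F] [Fintype F] {q : ℕ} [hQ : QField F q] {n : ℕ}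
include hQ

theorem criterion (r : ℕ) [Fact r.Prime] [CharP F r] (hn : 3 ≤ n) (h32 : ¬ (n = 3 ∧ q = 2))
    (A : Subgroup (MulAut (Cfsg.PSU n F q))) (hinn : ∀ k, MulAut.conj k ∈ A) (p : ℕ) [Fact p.Prime] (hpr : p ≠ r)
    (β : MulAut (Cfsg.PSU n F q)) (hord : orderOf β = p) (hnot : ¬ Cfsg.IsInnerDiagonalAutPSU β) :
    Cfsg.pPrimeCore p ↥(A ⊓ Subgroup.centralizer {β}) ≠ ⊥ ↔
      ((∃ γ φ : MulAut (Cfsg.PSU n F q), Cfsg.IsInnerDiagonalAutPSU γ ∧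
          (∃ σ : F ≃+* F, Cfsg.IsFieldAutPSUOf σ φ) ∧ β = φ.trans γ) ∧
        Nat.Coprime p (Nat.card ↥(Fix β))) := by
  have hp : p.Prime := Fact.out
  obtain ⟨g, τ, hβ⟩ := exists_normal_form r hn h32 β
  have hβ' : β = descend (cj g) * stdF τ := hβ.trans (stdA_eq_mul g τ)
  have hγ : Cfsg.IsInnerDiagonalAutPSU (descend (cj g) : MulAut (Cfsg.PSU n F q)) :=
    (isInnerDiagonal_iff _).2 ⟨g, rfl⟩
  have hfirst : ∃ γ φ : MulAut (Cfsg.PSU n F q), Cfsg.IsInnerDiagonalAutPSU γ ∧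
      (∃ σ : F ≃+* F, Cfsg.IsFieldAutPSUOf σ φ) ∧ β = φ.trans γ :=
    ⟨_, stdF τ, hγ, ⟨τ, (isFieldOf_iff τ _).2 rfl⟩, by rw [hβ']; rfl⟩
  have hτ1 : τ ≠ RingEquiv.refl F := fun e => hnot ((isInnerDiagonal_iff β).2 ⟨g, by
    rw [hβ', e, stdF_refl, mul_one]; rfl⟩)
  have hpow : β ^ p = 1 := hord ▸ pow_orderOf_eq_one β
  have hτp : orderOf τ = p := by
    refine orderOf_eq_prime ?_ hτ1
    have h1 := hpow
    rw [hβ', cyc_pow, stdF_pow, ← stdA_eq_mul] at h1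
    exact (stdA_eq_one r hn h1).1
  by_cases hp2 : p = 2
  · subst hp2
    have hgr : Cfsg.IsGraphAutClassPSU β :=
      ⟨hn, descend (cj g), stdF τ, τ, by rw [hτp]; exact even_two, hγ, (isFieldOf_iff τ _).2 rfl, hβ'⟩
    obtain ⟨h1, h2⟩ := PSU.graph_core r hn h32 (fun h => hpr h.symm) β hgr hord A hinn
    exact iff_of_false (fun h => h h1) fun h => h2 h.2
  -- odd field automorphisms
  obtain ⟨r', f, hr', hchar, hq, hf⟩ := exists_prime_pow (F := F) (q := q)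
    (by rw [← Nat.card_eq_fintype_card]; exact QField.card)
  have hchk : CharP F r := by assumption
  obtain rfl : r' = r := CharP.eq F hchar hchk
  obtain ⟨-, hK, hqK, h2⟩ := card_fixed r' hq hf τ hτp (hp.odd_of_ne_two hp2)
  haveI : QField ↥((τ : F →+* F).eqLocusField (RingHom.id F)) (r' ^ (f / p)) := ⟨hK, h2⟩
  let j : ↥((τ : F →+* F).eqLocusField (RingHom.id F)) →+* F :=
    ((τ : F →+* F).eqLocusField (RingHom.id F)).subtype
  have hj : ∀ a, τ a = a ↔ a ∈ j.range := fun a => by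
    constructor
    · intro h; exact ⟨⟨a, h⟩, rfl⟩
    · rintro ⟨b, rfl⟩; exact b.2
  have hjσ := qb_compat (q := q) j (hp.odd_of_ne_two hp2) hqK
  obtain ⟨k, hk⟩ := exists_conj_stdF τ j hj hjσ r' hn (hτp ▸ hp.pos) g (by rw [← hβ', hτp]; exact hpow)
  rw [← hβ'] at hk
  set K := (descend (cj k) : MulAut (Cfsg.PSU n F q))
  have e : K⁻¹ * β * K⁻¹⁻¹ = stdF τ := by rw [hk]; group
  have hiff := PSU.field_criterion r' hn h32 τ j hj hjσ p hp2 hτp (A.map (MulAut.conj K⁻¹).toMonoidHom)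
    (conj_mem_map A hinn _)
  rw [← e, card_fix_conj, ne_eq, ← core_bot_conj A β p K⁻¹] at hiff
  exact ⟨fun h => ⟨hfirst, hiff.1 h⟩, fun h => hiff.2 h.2⟩

theorem not_three_two (r : ℕ) [Fact r.Prime] [CharP F r] (hn : 3 ≤ n) (hK : IsSimpleGroup (Cfsg.PSU n F q)) :
    ¬ (n = 3 ∧ q = 2) := by
  rintro ⟨rfl, rfl⟩
  have hsol := (Cfsg.Agent.S0282.result (F := F) (by rw [← Nat.card_eq_fintype_card, QField.card (q := 2)]; norm_num)).2
  obtain ⟨a, b, hab⟩ := PSU.exists_noncommute (F := F) (q := 2) r hn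
  exact hab (IsSimpleGroup.comm_iff_isSolvable.2 hsol a b)

end

theorem result
    (F : Type*) [Field F] [Fintype F] (r : ℕ) [Fact r.Prime] [CharP F r] (q : ℕ) (hF : Fintype.card F = q ^ 2)
    (n : ℕ) (hn : 3 ≤ n) (hK : IsSimpleGroup (Cfsg.PSU n F q))
    (𝒢 : Subgroup (MulAut (Cfsg.PSU n F q))) (hinn : ∀ k : Cfsg.PSU n F q, MulAut.conj k ∈ 𝒢)
    (p : ℕ) [Fact p.Prime] (hpr : p ≠ r) (β : MulAut (Cfsg.PSU n F q)) (hβ : β ∈ 𝒢) (hord : orderOf β = p)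
    (hnot : ¬ Cfsg.IsInnerDiagonalAutPSU β) :
    Cfsg.pPrimeCore p ↥(𝒢 ⊓ Subgroup.centralizer {β}) ≠ ⊥ ↔
      ((∃ γ φ : MulAut (Cfsg.PSU n F q), Cfsg.IsInnerDiagonalAutPSU γ ∧ (∃ σ : F ≃+* F, Cfsg.IsFieldAutPSUOf σ φ) ∧ β = φ.trans γ) ∧
        Nat.Coprime p (Nat.card ↥(MonoidHom.eqLocus β.toMonoidHom (MonoidHom.id (Cfsg.PSU n F q))))) := by
  haveI := QField.of_card hF
  exact criterion r hn (not_three_two r hn hK) 𝒢 hinn p hpr β hord hnot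

end Cfsg.Agent.S2687
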