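import Cfsg.Statements.S2698
import Cfsg.Agent.Lib.AutPSL.TwistedClasses

set_option autoImplicit false
open Cfsg

namespace Cfsg.Agent.S2698

/-- Let T = PSL_n(F) be simple over the field F with p^f elements (n ≥ 2; p^f ≥ 4 when n = 2), G = Inndiag(T) the image of PGL_n(F) in Aut(T), and x a field automorphism of T of prime order r. Then r divides f; the centralizer C_G(x) is isomorphic to PGL_n(F₀) for the subfield size |F₀| = p^(f/r); and the G-class of x is the union of exactly gcd(n, (p^f − 1)/(p^(f/r) − 1)) classes under conjugation by T (the inner automorphism group). -/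
theorem result {F : Type*} [Field F] [Fintype F] {p f : ℕ} [Fact p.Prime] (hF : Fintype.card F = p ^ f) (hf : 1 ≤ f) {n : ℕ} (hn : 2 ≤ n) (hs : n = 2 → 4 ≤ Fintype.card F) (x : MulAut (Matrix.ProjectiveSpecialLinearGroup (Fin n) F)) (hx : Cfsg.IsFieldAutClassPSL x) {r : ℕ} (hr : r.Prime) (hxr : orderOf x = r) (F₀ : Type*) [Field F₀] [Fintype F₀] (hF₀ : Fintype.card F₀ = p ^ (f / r)) :
    r ∣ f ∧ Nonempty (↥(Cfsg.inndiagPSL n F ⊓ Subgroup.centralizer {x}) ≃* Matrix.ProjGenLinGroup (Fin n) F₀) ∧ Cfsg.splitClassCount (Cfsg.inndiagPSL n F) (Cfsg.Inn (Matrix.ProjectiveSpecialLinearGroup (Fin n) F)) x = Nat.gcd n ((p ^ f - 1) / (p ^ (f / r) - 1)) := by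
  haveI : CharP F p := AutPSL.charP_of_card hF hf
  obtain ⟨σ, k, -, hxe⟩ := AutPSL.exists_field_rep p hn hx
  have hσr : orderOf σ = r := by
    rw [← hxr, hxe, AutPSL.orderOf_conj, AutPSL.orderOf_stdAut_false p hn]
  obtain ⟨hd, hK⟩ := AutPSL.card_fixedField hF σ hσr hr.pos
  haveI := Fintype.ofFinite ((σ : F →+* F).eqLocusField (RingHom.id F))
  let e : F₀ ≃+* (σ : F →+* F).eqLocusField (RingHom.id F) :=
    FiniteField.ringEquivOfCardEq (by rw [hF₀, ← Nat.card_eq_fintype_card, hK])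
  let j : F₀ →+* F := ((σ : F →+* F).eqLocusField (RingHom.id F)).subtype.comp e.toRingHom
  have hj : ∀ a, σ a = a ↔ a ∈ j.range := by
    intro a
    constructor
    · intro h
      exact ⟨e.symm ⟨a, h⟩, congrArg Subtype.val (e.apply_symm_apply _)⟩
    · rintro ⟨b, rfl⟩
      exact (e b).2
  have hn0 : 0 < n := by omega
  have hsurj : ∀ g : GL (Fin n) F,
      g⁻¹ * AutPSL.twist σ false g ∈ Subgroup.center (GL (Fin n) F) →
      ∃ (m : GL (Fin n) F₀) (b : Fˣ),
        g * Matrix.GeneralLinearGroup.scalar (Fin n) b = Matrix.GeneralLinearGroup.map j m := by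
    intro g hg
    obtain ⟨b, hb⟩ := AutPSL.exists_fixed_field p hn σ (by rw [hσr]; exact hr.pos) g hg
    obtain ⟨m, hm⟩ := AutPSL.exists_map_eq σ j hj _ hb
    exact ⟨m, b, hm.symm⟩
  subst hxe
  refine ⟨hd, ?_, ?_⟩
  · obtain ⟨e1⟩ := AutPSL.centralizer_conj (Cfsg.inndiagPSL n F) (x := AutPSL.stdAut n σ false)
      (AutPSL.inndiag_mem p k)
    obtain ⟨e2⟩ := AutPSL.centralizer_equiv p hn σ false (Matrix.GeneralLinearGroup.map j)
      (AutPSL.glMap_fixed σ j hj) hsurj (Subgroup.center _) (AutPSL.center_comap j hn0)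
    exact ⟨e1.trans e2⟩
  · rw [AutPSL.splitClassCount_conj _ _ (AutPSL.inndiag_mem p k),
      AutPSL.splitClassCount_eq p hn σ false (Matrix.GeneralLinearGroup.map j)
        (AutPSL.glMap_fixed σ j hj) hsurj,
      AutPSL.det_range_field j hn0, AutPSL.index_pow_sup, AutPSL.index_units_range,
      Nat.card_eq_fintype_card (α := F), Nat.card_eq_fintype_card (α := F₀), hF, hF₀, Nat.gcd_comm]

end Cfsg.Agent.S2698
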