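import Cfsg.Statements.S2700
import Cfsg.Agent.Lib.AutPSL.GraphEven

set_option autoImplicit false
open Cfsg

namespace Cfsg.Agent.S2700

/-- Let T = PSL_n(F) over a finite field of odd order with n = 2m ≥ 4 even, and G = Inndiag(T) the image of PGL_n(F). The involutory graph automorphisms of T fall into exactly three G-classes, with representatives γ₁, γ₂, γ₃ whose centralizers in G are isomorphic respectively to the projective conformal symplectic group PGSp_n(F), the projective conformal orthogonal group of the plus-type form Σ xᵢ yᵢ, and that of a minus-type form Σ xᵢ yᵢ + z₁² + a z₁ z₂ + b z₂² (anisotropic binary part) in dimension n. -/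
theorem result {F : Type*} [Field F] [Fintype F] (hodd : Odd (Fintype.card F)) {n m : ℕ} (hm : 2 ≤ m) (hnm : n = 2 * m) :
    ∃ (γ₁ γ₂ γ₃ : MulAut (Matrix.ProjectiveSpecialLinearGroup (Fin n) F)) (a b : F), (∀ z₁ z₂ : F, z₁ ^ 2 + a * z₁ * z₂ + b * z₂ ^ 2 = 0 → z₁ = 0 ∧ z₂ = 0) ∧ Cfsg.IsGraphAutClassPSL γ₁ ∧ orderOf γ₁ = 2 ∧ Cfsg.IsGraphAutClassPSL γ₂ ∧ orderOf γ₂ = 2 ∧ Cfsg.IsGraphAutClassPSL γ₃ ∧ orderOf γ₃ = 2 ∧ ¬ Cfsg.IsConjUnder (Cfsg.inndiagPSL n F) γ₁ γ₂ ∧ ¬ Cfsg.IsConjUnder (Cfsg.inndiagPSL n F) γ₁ γ₃ ∧ ¬ Cfsg.IsConjUnder (Cfsg.inndiagPSL n F) γ₂ γ₃ ∧ (∀ γ : MulAut (Matrix.ProjectiveSpecialLinearGroup (Fin n) F), Cfsg.IsGraphAutClassPSL γ → orderOf γ = 2 → Cfsg.IsConjUnder (Cfsg.inndiagPSL n F) γ₁ γ ∨ Cfsg.IsConjUnder (Cfsg.inndiagPSL n F) γ₂ γ ∨ Cfsg.IsConjUnder (Cfsg.inndiagPSL n F) γ₃ γ) ∧ Nonempty (↥(Cfsg.inndiagPSL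 n F ⊓ Subgroup.centralizer {γ₁}) ≃* Cfsg.PGSp m F) ∧ Nonempty (↥(Cfsg.inndiagPSL n F ⊓ Subgroup.centralizer {γ₂}) ≃* Cfsg.PGO F (Cfsg.quadFormPlus m F)) ∧ Nonempty (↥(Cfsg.inndiagPSL n F ⊓ Subgroup.centralizer {γ₃}) ≃* Cfsg.PGO F (Cfsg.quadFormMinus (m - 1) F a b)) := by
  obtain ⟨p, hp⟩ := CharP.exists F
  obtain ⟨f, hpp, hF⟩ := FiniteField.card F p
  haveI := Fact.mk hpp
  have h2 : (2 : F) ≠ 0 := Ring.two_ne_zero fun h => by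
    have := FiniteField.even_card_of_char_two h
    rw [Nat.odd_iff] at hodd
    omega
  have hn : 3 ≤ n := by omega
  haveI : Nonempty (Fin n) := ⟨⟨0, by omega⟩⟩
  obtain ⟨a, b, hab⟩ := Cfsg.Agent.Spinor.exists_aniso F
  obtain ⟨Qm, hQm, hQn⟩ := Cfsg.Agent.OrthForms.exists_qMinus (m - 1) a b hab
  obtain ⟨B₁, hB₁, -, hM₁⟩ := Cfsg.Agent.AutPSL.exists_gl_alt (F := F) hnm
  obtain ⟨B₂, hB₂, hM₂⟩ := Cfsg.Agent.AutPSL.exists_gl_quad _ (Cfsg.Agent.OrthForms.qPlus_nondeg (F := F) m)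
    (finSumFinEquiv.trans (finCongr (by omega : m + m = n)))
  obtain ⟨B₃, hB₃, hM₃⟩ := Cfsg.Agent.AutPSL.exists_gl_quad Qm hQn
    ((Equiv.sumCongr finSumFinEquiv (Equiv.refl _)).trans
      (finSumFinEquiv.trans (finCongr (by omega : (m - 1 + (m - 1)) + 2 = n))))
  have hg := Cfsg.Agent.AutPSL.gam_isGraph (n := n) (F := F) p hn
  refine ⟨Cfsg.Agent.AutPSL.gam B₁, Cfsg.Agent.AutPSL.gam B₂, Cfsg.Agent.AutPSL.gam B₃, a, b, hab,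
    (hg B₁ (Or.inr hB₁)).1, (hg B₁ (Or.inr hB₁)).2, (hg B₂ (Or.inl hB₂)).1, (hg B₂ (Or.inl hB₂)).2,
    (hg B₃ (Or.inl hB₃)).1, (hg B₃ (Or.inl hB₃)).2, fun h => ?_, fun h => ?_, fun h => ?_, fun γ hγ ho => ?_,
    ?_, ?_, ?_⟩
  · obtain ⟨g, c, h'⟩ := (Cfsg.Agent.AutPSL.isConj_gam_iff p hn _ _).1 h
    exact Cfsg.Agent.AutPSL.not_skew_symm' h2 B₁ B₂ g c h' hB₁ hB₂
  · obtain ⟨g, c, h'⟩ := (Cfsg.Agent.AutPSL.isConj_gam_iff p hn _ _).1 h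
    exact Cfsg.Agent.AutPSL.not_skew_symm' h2 B₁ B₃ g c h' hB₁ hB₃
  · obtain ⟨g, c, h'⟩ := (Cfsg.Agent.AutPSL.isConj_gam_iff p hn _ _).1 h
    exact Cfsg.Agent.AutPSL.plus_not_congr_minus h2 (by omega) hab hQm hM₂ hM₃ g c h'
  · obtain ⟨B, rfl, hs | hs⟩ := Cfsg.Agent.AutPSL.exists_gam_rep p hn hγ ho
    · rcases Cfsg.Agent.AutPSL.symm_model h2 (by omega) hnm hab hQm B hs with hM | hM
      · exact Or.inr (Or.inl ((Cfsg.Agent.AutPSL.isConj_gam_iff p hn _ _).2 (hM₂.congr hM)))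
      · exact Or.inr (Or.inr ((Cfsg.Agent.AutPSL.isConj_gam_iff p hn _ _).2 (hM₃.congr hM)))
    · exact Or.inl ((Cfsg.Agent.AutPSL.isConj_gam_iff p hn _ _).2 (hM₁.congr
        (Cfsg.Agent.AutPSL.hasModel_alt hnm B (Cfsg.Agent.AutPSL.alt_of_skew h2 hs))))
  · obtain ⟨e₁⟩ := Cfsg.Agent.AutPSL.centralizer_gam p hn B₁
    obtain ⟨e₂⟩ := hM₁.projQuot_equiv
    exact ⟨e₁.trans e₂⟩
  · obtain ⟨e₁⟩ := Cfsg.Agent.AutPSL.centralizer_gam p hn B₂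
    obtain ⟨e₂⟩ := hM₂.pgo_equiv _ h2
    rw [Cfsg.Agent.AutPSL.qPlus_coe] at e₂
    exact ⟨e₁.trans e₂⟩
  · obtain ⟨e₁⟩ := Cfsg.Agent.AutPSL.centralizer_gam p hn B₃
    obtain ⟨e₂⟩ := hM₃.pgo_equiv _ h2
    rw [hQm] at e₂
    exact ⟨e₁.trans e₂⟩

end Cfsg.Agent.S2700
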