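import Cfsg.Statements.S2701
import Cfsg.Agent.Lib.AutPSL.GraphTwoEven

set_option autoImplicit false
open Cfsg

namespace Cfsg.Agent.S2701

/-- Let T = PSL_n(F) over a finite field of characteristic 2 with n = 2m ≥ 4 even, and G = Inndiag(T) the image of PGL_n(F). The involutory graph automorphisms of T fall into exactly two G-classes, with representatives γ₁ and γ₃ whose centralizers in G are isomorphic respectively to the symplectic group Sp_n(F) and to the centralizer in Sp_n(F) of a symplectic transvection. -/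
theorem result {F : Type*} [Field F] [Fintype F] [CharP F 2] {n m : ℕ} (hm : 2 ≤ m) (hnm : n = 2 * m) :
    ∃ (γ₁ γ₃ : MulAut (Matrix.ProjectiveSpecialLinearGroup (Fin n) F)) (t : ↥(Matrix.symplecticGroup (Fin m) F)), Cfsg.IsTransvection (t : Matrix (Fin m ⊕ Fin m) (Fin m ⊕ Fin m) F) ∧ Cfsg.IsGraphAutClassPSL γ₁ ∧ orderOf γ₁ = 2 ∧ Cfsg.IsGraphAutClassPSL γ₃ ∧ orderOf γ₃ = 2 ∧ ¬ Cfsg.IsConjUnder (Cfsg.inndiagPSL n F) γ₁ γ₃ ∧ (∀ γ : MulAut (Matrix.ProjectiveSpecialLinearGroup (Fin n) F), Cfsg.IsGraphAutClassPSL γ → orderOf γ = 2 → Cfsg.IsConjUnder (Cfsg.inndiagPSL n F) γ₁ γ ∨ Cfsg.IsConjUnder (Cfsg.inndiagPSL n F) γ₃ γ) ∧ Nonempty (↥(Cfsg.inndiagPSL n F ⊓ Subgroup.centralizer {γ₁}) ≃* ↥(Matrix.symplecticGroup (Fin m) F)) ∧ Nonempty (↥(Cfsg.inndiagPSL n F ⊓ Subgroup.centralizer {γ₃}) ≃* ↥(Subgroup.centralizer ({t} : Set ↥(Matrix.symplecticGroup (Fin m) F)))) :=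 by
  obtain ⟨p, hp⟩ := CharP.exists F
  obtain rfl : p = 2 := CharP.eq F hp ‹CharP F 2›
  haveI : Fact (Nat.Prime 2) := ⟨Nat.prime_two⟩
  have hn : 3 ≤ n := by omega
  let w : Fin m ⊕ Fin m → F := Pi.single (Sum.inl ⟨0, by omega⟩) 1
  have hw : w ≠ 0 := fun h => one_ne_zero (α := F) (by simpa [w] using congrFun h (Sum.inl ⟨0, by omega⟩))
  obtain ⟨B₁, hB₁', hA₁, hM₁⟩ := Cfsg.Agent.AutPSL.exists_gl_alt (F := F) hnm
  have hB₁ : B₁.1.transpose = B₁.1 := by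
    rw [hB₁']
    ext i j
    exact CharTwo.neg_eq _
  obtain ⟨B₃, hB₃, hM₃⟩ := Cfsg.Agent.AutPSL.exists_gl_fW hnm w
  have hg := Cfsg.Agent.AutPSL.gam_isGraph (n := n) (F := F) 2 hn
  -- the second form is not alternating
  have hna : ¬ ∀ x, x ⬝ᵥ (B₃.1.mulVec x) = 0 := by
    intro h
    obtain ⟨L, d, hd⟩ := hM₃
    obtain ⟨x, hx⟩ := Cfsg.Agent.AutPSL.exists_sympForm_one hw
    have := hd x x
    rw [h, Cfsg.Agent.AutPSL.fW, Cfsg.Agent.AutPSL.sympForm_self, hx, zero_add, mul_one, mul_one] at this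
    exact d.ne_zero this.symm
  refine ⟨Cfsg.Agent.AutPSL.gam B₁, Cfsg.Agent.AutPSL.gam B₃, ⟨Cfsg.Agent.AutPSL.trV w,
    Cfsg.Agent.AutPSL.trV_mem w⟩, Cfsg.Agent.AutPSL.trV_isTransvection hw,
    (hg B₁ (Or.inl hB₁)).1, (hg B₁ (Or.inl hB₁)).2, (hg B₃ (Or.inl hB₃)).1, (hg B₃ (Or.inl hB₃)).2,
    fun h => ?_, fun γ hγ ho => ?_, ?_, ?_⟩
  · obtain ⟨g, c, h'⟩ := (Cfsg.Agent.AutPSL.isConj_gam_iff 2 hn _ _).1 h
    refine hna fun y => ?_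
    obtain ⟨x, rfl⟩ : ∃ x, g.1.mulVec x = y := ⟨(g⁻¹).1.mulVec y, by
      rw [Matrix.mulVec_mulVec, Units.mul_inv, Matrix.one_mulVec]⟩
    rw [Cfsg.Agent.AutPSL.form_mulVec, h', Matrix.smul_mulVec, dotProduct_smul, hA₁, smul_zero]
  · obtain ⟨B, rfl, hs⟩ := Cfsg.Agent.AutPSL.exists_gam_rep 2 hn hγ ho
    have hB : B.1.transpose = B.1 := hs.elim id fun h => by
      rw [h]
      ext i j
      exact CharTwo.neg_eq _
    by_cases hb : ∀ x, x ⬝ᵥ (B.1.mulVec x) = 0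
    · exact Or.inl ((Cfsg.Agent.AutPSL.isConj_gam_iff 2 hn _ _).2
        (hM₁.congr (Cfsg.Agent.AutPSL.hasModel_alt hnm B hb)))
    · exact Or.inr ((Cfsg.Agent.AutPSL.isConj_gam_iff 2 hn _ _).2
        (hM₃.congr (Cfsg.Agent.AutPSL.hasModel_fW hnm hw B hB hb)))
  · obtain ⟨e₁⟩ := Cfsg.Agent.AutPSL.centralizer_gam 2 hn B₁
    obtain ⟨e₂⟩ := hM₁.projQuot_equiv
    have h3 := Cfsg.Agent.AutPSL.fW_stab (F := F) (m := m) (by omega) 0
    rw [Cfsg.Agent.AutPSL.fW_zero] at h3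
    obtain ⟨e₃⟩ := h3
    have htop : Cfsg.Agent.AutPSL.stabV (F := F) (0 : Fin m ⊕ Fin m → F) = ⊤ :=
      eq_top_iff.2 fun A _ => Matrix.mulVec_zero _
    exact ⟨e₁.trans (e₂.trans (e₃.symm.trans ((MulEquiv.subgroupCongr htop).trans Subgroup.topEquiv)))⟩
  · obtain ⟨e₁⟩ := Cfsg.Agent.AutPSL.centralizer_gam 2 hn B₃
    obtain ⟨e₂⟩ := hM₃.projQuot_equiv
    obtain ⟨e₃⟩ := Cfsg.Agent.AutPSL.fW_stab (F := F) (m := m) (by omega) w
    exact ⟨e₁.trans (e₂.trans (e₃.symm.trans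
      (MulEquiv.subgroupCongr (Cfsg.Agent.AutPSL.centralizer_trV hw).symm)))⟩

end Cfsg.Agent.S2701
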