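import Cfsg.Statements.S2702
import Cfsg.Agent.Lib.AutPSL.GraphSplit

set_option autoImplicit false
open Cfsg

namespace Cfsg.Agent.S2702

/-- Let T = PSL_n(F) over the field with q = p^f elements, n ≥ 3, G = Inndiag(T) the image of PGL_n(F), and γ an involutory graph automorphism of T. The G-class of γ is the union of exactly c T-classes, where: if n is even and q is odd, c = gcd(n/2, q − 1) when C_G(γ) is isomorphic to the projective conformal symplectic group PGSp_n(F) (symplectic type) and c = gcd(n, q − 1)/2 otherwise; and c = gcd(n, q − 1) when n is odd or q is even. -/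
theorem result {F : Type*} [Field F] [Fintype F] {p f : ℕ} [Fact p.Prime] (hF : Fintype.card F = p ^ f) (hf : 1 ≤ f) {n : ℕ} (hn : 3 ≤ n) (γ : MulAut (Matrix.ProjectiveSpecialLinearGroup (Fin n) F)) (hγ : Cfsg.IsGraphAutClassPSL γ) (hγ2 : orderOf γ = 2) :
    ((Even n ∧ Odd p ∧ Nonempty (↥(Cfsg.inndiagPSL n F ⊓ Subgroup.centralizer {γ}) ≃* Cfsg.PGSp (n / 2) F)) → Cfsg.splitClassCount (Cfsg.inndiagPSL n F) (Cfsg.Inn (Matrix.ProjectiveSpecialLinearGroup (Fin n) F)) γ = Nat.gcd (n / 2) (p ^ f - 1)) ∧ ((Even n ∧ Odd p ∧ ¬ Nonempty (↥(Cfsg.inndiagPSL n F ⊓ Subgroup.centralizer {γ}) ≃* Cfsg.PGSp (n / 2) F)) → Cfsg.splitClassCount (Cfsg.inndiagPSL n F) (Cfsg.Inn (Matrix.ProjectiveSpecialLinearGroup (Fin n) F)) γ = Nat.gcd n (p ^ f - 1) / 2) ∧ (¬ (Even n ∧ Odd p) → Cfsg.splitClassCount (Cfsg.inndiagPSL n F) (Cfsg.Inn (Matrix.ProjectiveSpecialLinearGroup (Fin n) F)) γ = Nat.gcd n (p ^ f - 1)) := by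
  haveI := charP_of_card_eq_prime_pow hF
  obtain ⟨B, rfl, hs⟩ := Cfsg.Agent.AutPSL.exists_gam_rep p hn hγ hγ2
  rw [Cfsg.Agent.AutPSL.splitCount_gam p hn B, ← hF]
  obtain ⟨e₁⟩ := Cfsg.Agent.AutPSL.centralizer_gam p hn B
  have h2of : Odd p → (2 : F) ≠ 0 := fun ho => Ring.two_ne_zero (by
    rw [ringChar.eq F p]
    rintro rfl
    exact absurd ho (by decide))
  refine ⟨?_, ?_, ?_⟩
  · rintro ⟨hev, hp, ⟨e⟩⟩
    have h2 := h2of hp
    have hnm : n = 2 * (n / 2) := (Nat.two_mul_div_two_of_even hev).symm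
    rcases hs with hB | hB
    · exact absurd ⟨e₁.symm.trans e⟩ (Cfsg.Agent.AutPSL.symm_not_pgsp h2 (by omega) hnm B hB)
    · rw [Cfsg.Agent.AutPSL.map_det_alt (Cfsg.Agent.AutPSL.hasModel_alt hnm B
        (Cfsg.Agent.AutPSL.alt_of_skew h2 hB)), Cfsg.Agent.AutPSL.index_range_pow]
  · rintro ⟨hev, hp, hne⟩
    have h2 := h2of hp
    have hnm : n = 2 * (n / 2) := (Nat.two_mul_div_two_of_even hev).symm
    have hB : B.1.transpose = B.1 := hs.resolve_right fun hB => by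
      obtain ⟨e₂⟩ := (Cfsg.Agent.AutPSL.hasModel_alt hnm B
        (Cfsg.Agent.AutPSL.alt_of_skew h2 hB)).projQuot_equiv
      exact hne ⟨e₁.trans e₂⟩
    rw [Cfsg.Agent.AutPSL.map_det_symm h2 (by omega) hnm B hB, Cfsg.Agent.AutPSL.index_comap_sq h2, ← hnm]
  · intro h
    rw [Cfsg.Agent.AutPSL.map_det_generic ?_ B, Cfsg.Agent.AutPSL.index_range_pow]
    rcases Nat.even_or_odd n with hev | hod
    · right
      have hp : p = 2 := (Nat.Prime.eq_two_or_odd' Fact.out).resolve_right fun ho => h ⟨hev, ho⟩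
      subst hp
      exact CharTwo.two_eq_zero
    · exact Or.inl hod

end Cfsg.Agent.S2702
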