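import Cfsg.Statements.S2703
import Cfsg.Agent.Lib.AutPSL.GraphIota

set_option autoImplicit false
open Cfsg

namespace Cfsg.Agent.S2703

/-- Let T = PSL_n(F) over the field with q elements, q odd, n = 2m ≥ 4 even, and ι the inverse-transpose automorphism. Its centralizer in G = Inndiag(T) (the image of PGL_n(F)) is isomorphic to the projective conformal orthogonal group of the plus-type form Σ xᵢ yᵢ in dimension n when n(q − 1)/4 is even, and to that of a minus-type form (Σ xᵢ yᵢ + z₁² + a z₁ z₂ + b z₂² with anisotropic binary part) when n(q − 1)/4 is odd. -/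
theorem result {F : Type*} [Field F] [Fintype F] (hodd : Odd (Fintype.card F)) {n m : ℕ} (hm : 2 ≤ m) (hnm : n = 2 * m) (ι : MulAut (Matrix.ProjectiveSpecialLinearGroup (Fin n) F)) (hι : Cfsg.IsInverseTransposeAutPSL ι) :
    (Even (n * (Fintype.card F - 1) / 4) → Nonempty (↥(Cfsg.inndiagPSL n F ⊓ Subgroup.centralizer {ι}) ≃* Cfsg.PGO F (Cfsg.quadFormPlus m F))) ∧ (¬ Even (n * (Fintype.card F - 1) / 4) → ∃ a b : F, (∀ z₁ z₂ : F, z₁ ^ 2 + a * z₁ * z₂ + b * z₂ ^ 2 = 0 → z₁ = 0 ∧ z₂ = 0) ∧ Nonempty (↥(Cfsg.inndiagPSL n F ⊓ Subgroup.centralizer {ι}) ≃* Cfsg.PGO F (Cfsg.quadFormMinus (m - 1) F a b))) := by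
  obtain ⟨p, hp⟩ := CharP.exists F
  obtain ⟨f, hpp, hF⟩ := FiniteField.card F p
  haveI := Fact.mk hpp
  have h2 : (2 : F) ≠ 0 := Ring.two_ne_zero fun h => by
    have := FiniteField.even_card_of_char_two h
    rw [Nat.odd_iff] at hodd
    omega
  have hn : 3 ≤ n := by omega
  obtain rfl : ι = Cfsg.Agent.AutPSL.gam 1 := by
    rw [(Cfsg.Agent.AutPSL.isInverseTransposeAutPSL_iff ι).1 hι, Cfsg.Agent.AutPSL.gam_eq, inv_one, map_one, one_mul]
  obtain ⟨e₁⟩ := Cfsg.Agent.AutPSL.centralizer_gam (n := n) (F := F) p hn 1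
  refine ⟨fun he => ?_, fun he => ?_⟩
  · obtain ⟨e₂⟩ := ((Cfsg.Agent.AutPSL.one_hasModel_plus_iff h2 (by omega) hnm).2
      ((Cfsg.Agent.AutPSL.isSquare_neg_one_pow_iff hodd hnm).2 he)).pgo_equiv _ h2
    rw [Cfsg.Agent.AutPSL.qPlus_coe] at e₂
    exact ⟨e₁.trans e₂⟩
  · obtain ⟨a, b, hab⟩ := Cfsg.Agent.Spinor.exists_aniso F
    obtain ⟨Qm, hQm, -⟩ := Cfsg.Agent.OrthForms.exists_qMinus (m - 1) a b hab
    rcases Cfsg.Agent.AutPSL.symm_model h2 (by omega) hnm hab hQm (1 : GL (Fin n) F) Matrix.transpose_one with hM | hM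
    · exact absurd ((Cfsg.Agent.AutPSL.isSquare_neg_one_pow_iff hodd hnm).1
        ((Cfsg.Agent.AutPSL.one_hasModel_plus_iff h2 (by omega) hnm).1 hM)) he
    · obtain ⟨e₂⟩ := hM.pgo_equiv _ h2
      rw [hQm] at e₂
      exact ⟨a, b, hab, ⟨e₁.trans e₂⟩⟩

end Cfsg.Agent.S2703
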