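import Cfsg.Statements.S2704
import Cfsg.Agent.Lib.AutPSL.TwistedClasses

set_option autoImplicit false
open Cfsg

namespace Cfsg.Agent.S2704

/-- Let T = PSL_n(F) over the field F with p^f elements, n ≥ 3, and G = Inndiag(T) the image of PGL_n(F). If x is an involutory graph-field automorphism of T then f is even; x is G-conjugate to every other involutory graph-field automorphism; C_G(x) is isomorphic to the projective general unitary group PGU_n(q₀) with q₀² = p^f, realised over F itself through the Hermitian form Σ uᵢ vᵢ^{q₀}; and the G-class of x is the union of exactly gcd(n, q₀ − 1) T-classes. -/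
theorem result {F : Type*} [Field F] [Fintype F] {p f : ℕ} [Fact p.Prime] (hF : Fintype.card F = p ^ f) (hf : 1 ≤ f) {n : ℕ} (hn : 3 ≤ n) (x : MulAut (Matrix.ProjectiveSpecialLinearGroup (Fin n) F)) (hx : Cfsg.IsGraphFieldAutClassPSL x) (hx2 : orderOf x = 2) :
    Even f ∧ (∀ y : MulAut (Matrix.ProjectiveSpecialLinearGroup (Fin n) F), Cfsg.IsGraphFieldAutClassPSL y → orderOf y = 2 → Cfsg.IsConjUnder (Cfsg.inndiagPSL n F) x y) ∧ Nonempty (↥(Cfsg.inndiagPSL n F ⊓ Subgroup.centralizer {x}) ≃* Cfsg.PGU n F (p ^ (f / 2))) ∧ Cfsg.splitClassCount (Cfsg.inndiagPSL n F) (Cfsg.Inn (Matrix.ProjectiveSpecialLinearGroup (Fin n) F)) x = Nat.gcd n (p ^ (f / 2) - 1) := by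
  haveI : CharP F p := AutPSL.charP_of_card hF hf
  have h2 : 2 ≤ n := by omega
  obtain ⟨σ, k, h3, hσne, hxe⟩ := AutPSL.exists_graphField_rep p hx
  obtain ⟨-, hσ⟩ := AutPSL.graphField_prime_order p h3 σ Nat.prime_two
    (by rw [← hx2, hxe, AutPSL.orderOf_conj])
  obtain ⟨hev, hpow⟩ := AutPSL.involution_eq_pow hF σ hσ hσne
  have hord : orderOf σ = 2 :=
    orderOf_eq_prime (RingEquiv.ext fun a => by rw [pow_two]; exact hσ a) hσne
  refine ⟨hev, fun y hy hy2 => ?_, ?_, ?_⟩
  · obtain ⟨τ, l, -, hτne, hye⟩ := AutPSL.exists_graphField_rep p hy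
    obtain ⟨-, hτ⟩ := AutPSL.graphField_prime_order p h3 τ Nat.prime_two
      (by rw [← hy2, hye, AutPSL.orderOf_conj])
    obtain ⟨-, hpow'⟩ := AutPSL.involution_eq_pow hF τ hτ hτne
    have : τ = σ := RingEquiv.ext fun a => by rw [hpow, hpow']
    subst this
    rw [hxe, AutPSL.isConjUnder_iff_of_conj _ (AutPSL.inndiag_mem p k)]
    exact ⟨_, AutPSL.inndiag_mem p l, hye⟩
  all_goals subst hxe
  all_goals
    have hsurj : ∀ g : GL (Fin n) F,
        g⁻¹ * AutPSL.twist σ true g ∈ Subgroup.center (GL (Fin n) F) →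
        ∃ (m : Cfsg.GU n F (p ^ (f / 2))) (b : Fˣ),
          g * Matrix.GeneralLinearGroup.scalar (Fin n) b = (Cfsg.GU n F (p ^ (f / 2))).subtype m := by
      intro g hg
      obtain ⟨b, hb⟩ := AutPSL.exists_fixed_graphField p h2 σ hσ hσne g hg
      exact ⟨⟨_, (AutPSL.mem_GU_iff σ hpow hσ _).mpr hb⟩, b, rfl⟩
    have hfix : ∀ m : Cfsg.GU n F (p ^ (f / 2)),
        AutPSL.twist σ true ((Cfsg.GU n F (p ^ (f / 2))).subtype m) =
          (Cfsg.GU n F (p ^ (f / 2))).subtype m := fun m =>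
      (AutPSL.mem_GU_iff σ hpow hσ _).mp m.2
  · obtain ⟨e1⟩ := AutPSL.centralizer_conj (Cfsg.inndiagPSL n F) (x := AutPSL.stdAut n σ true)
      (AutPSL.inndiag_mem p k)
    obtain ⟨e2⟩ := AutPSL.centralizer_equiv p h2 σ true _ hfix hsurj
      ((Cfsg.Geo.scalars (Fin n) F).subgroupOf (Cfsg.GU n F (p ^ (f / 2)))) (by
        rw [Matrix.GeneralLinearGroup.center_eq_range_scalar]
        rfl)
    exact ⟨e1.trans e2⟩
  · rw [AutPSL.splitClassCount_conj _ _ (AutPSL.inndiag_mem p k),
      AutPSL.splitClassCount_eq p h2 σ true _ hfix hsurj, AutPSL.index_pow_sup]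
    let Nm : Fˣ →* Fˣ :=
      MonoidHom.mk' (fun l => l * AutPSL.uMap σ l) (fun a b => by rw [map_mul, mul_mul_mul_comm])
    have hS : ((Matrix.GeneralLinearGroup.det : GL (Fin n) F →* Fˣ).comp
        (Cfsg.GU n F (p ^ (f / 2))).subtype).range = Nm.ker := by
      refine le_antisymm ?_ ?_
      · rintro _ ⟨m, rfl⟩
        have h := congrArg Matrix.GeneralLinearGroup.det (hfix m)
        rw [AutPSL.det_twist_true, inv_eq_iff_mul_eq_one, mul_comm] at h
        exact h
      · intro l hl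
        have hl' : l * AutPSL.uMap σ l = 1 := hl
        have hn0 : 0 < n := by omega
        refine ⟨⟨AutPSL.oneDiag hn0 l, (AutPSL.mem_GU_iff σ hpow hσ _).mpr ?_⟩,
          AutPSL.det_oneDiag hn0 l⟩
        rw [AutPSL.twist_true_oneDiag, inv_eq_of_mul_eq_one_left hl']
    obtain ⟨-, hK⟩ := AutPSL.card_fixedField hF σ hord two_pos
    have hR : Nm.range =
        (Units.map ((σ : F →+* F).eqLocusField (RingHom.id F)).subtype.toMonoidHom).range := by
      refine le_antisymm ?_ ?_
      · rintro _ ⟨l, rfl⟩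
        have hfixl : σ ((l : F) * σ (l : F)) = (l : F) * σ (l : F) := by rw [map_mul, hσ, mul_comm]
        refine ⟨Units.mk0 ⟨_, hfixl⟩ ?_, Units.ext rfl⟩
        intro h0
        exact (mul_ne_zero l.ne_zero (σ.injective.ne_iff' (map_zero σ) |>.mpr l.ne_zero))
          (congrArg Subtype.val h0)
      · rintro _ ⟨c, rfl⟩
        obtain ⟨l, hl⟩ := AutPSL.exists_norm_eq σ (by rw [hord]; norm_num)
          (Units.map ((σ : F →+* F).eqLocusField (RingHom.id F)).subtype.toMonoidHom c)
          (Units.ext c.val.2)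
        rw [hord, AutPSL.cyc_two] at hl
        exact ⟨l, hl⟩
    rw [hS, Subgroup.index_ker, hR, Nat.gcd_comm,
      ← Nat.card_congr (MonoidHom.ofInjective (Units.map_injective
        (f := ((σ : F →+* F).eqLocusField (RingHom.id F)).subtype.toMonoidHom)
        Subtype.val_injective)).toEquiv,
      Nat.card_units, hK]

end Cfsg.Agent.S2704
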