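import Cfsg.Statements.S2705
import Cfsg.Agent.Lib.AutPSU.Twisted

set_option autoImplicit false
open Cfsg

namespace Cfsg.Agent.S2705

/-- Let T = PSU_n(q) be simple (n ≥ 3, (n, q) ≠ (3, 2), q = p^f), realised over the field F with q² elements, G = Inndiag(T) the image of PGU_n(q) in Aut(T), and x a field automorphism of T (conjugate to a standard field automorphism of odd order) of odd prime order r. Then r divides f; C_G(x) is isomorphic to PGU_n(q₀) with q₀ = p^(f/r), realised over a field F₀ with q₀² elements; and the G-class of x is the union of exactly gcd(n, (q + 1)/(q₀ + 1)) T-classes. -/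
theorem result {F : Type*} [Field F] [Fintype F] {p f q : ℕ} [Fact p.Prime] (hq : q = p ^ f) (hf : 1 ≤ f) (hF : Fintype.card F = q ^ 2) {n : ℕ} (hn : 3 ≤ n) (hs : ¬ (n = 3 ∧ q = 2)) (x : MulAut (Cfsg.PSU n F q)) (hx : Cfsg.IsFieldAutClassPSU x) {r : ℕ} (hr : r.Prime) (hro : Odd r) (hxr : orderOf x = r) (F₀ : Type*) [Field F₀] [Fintype F₀] (hF₀ : Fintype.card F₀ = p ^ (2 * (f / r))) :
    r ∣ f ∧ Nonempty (↥(Cfsg.inndiagPSU n F q ⊓ Subgroup.centralizer {x}) ≃* Cfsg.PGU n F₀ (p ^ (f / r))) ∧ Cfsg.splitClassCount (Cfsg.inndiagPSU n F q) (Cfsg.Inn (Cfsg.PSU n F q)) x = Nat.gcd n ((q + 1) / (p ^ (f / r) + 1)) := by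
  haveI : AutPSU.QField F q := AutPSU.QField.of_card hF
  have hF' : Fintype.card F = p ^ (2 * f) := by rw [hF, hq, ← pow_mul, mul_comm]
  haveI : CharP F p := AutPSL.charP_of_card hF' (by omega)
  obtain ⟨τ, k, -, -, hxe⟩ := AutPSU.exists_field_rep p hn hs hx
  have hτr : orderOf τ = r := by
    rw [← hxr, hxe, AutPSL.orderOf_conj, AutPSU.orderOf_stdF p hn]
  obtain ⟨hd, hK, hqK, h2⟩ := AutPSU.card_fixed p hq hf τ hτr hro
  haveI : AutPSU.QField F₀ (p ^ (f / r)) :=
    ⟨by rw [Nat.card_eq_fintype_card, hF₀, ← pow_mul, mul_comm], h2⟩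
  haveI := Fintype.ofFinite ((τ : F →+* F).eqLocusField (RingHom.id F))
  let e : F₀ ≃+* (τ : F →+* F).eqLocusField (RingHom.id F) :=
    FiniteField.ringEquivOfCardEq (by
      rw [hF₀, ← Nat.card_eq_fintype_card, hK, ← pow_mul, mul_comm])
  let j : F₀ →+* F := ((τ : F →+* F).eqLocusField (RingHom.id F)).subtype.comp e.toRingHom
  have hj : ∀ a, τ a = a ↔ a ∈ j.range := by
    intro a
    constructor
    · intro h
      exact ⟨e.symm ⟨a, h⟩, congrArg Subtype.val (e.apply_symm_apply _)⟩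
    · rintro ⟨b, rfl⟩
      exact (e b).2
  have hjσ := AutPSU.qb_compat j hro hqK
  have hr0 : 0 < orderOf τ := by rw [hτr]; exact hr.pos
  subst hxe
  refine ⟨hd, ?_, ?_⟩
  · obtain ⟨e1⟩ := AutPSL.centralizer_conj (Cfsg.inndiagPSU n F q) (x := AutPSU.stdF τ)
      (AutPSU.inndiag_mem p k)
    obtain ⟨e2⟩ := AutPSU.centralizer_equiv (n := n) τ j hj hjσ p hn hr0
    exact ⟨e1.trans e2⟩
  · rw [AutPSL.splitClassCount_conj _ _ (AutPSU.inndiag_mem p k)]
    exact AutPSU.splitClassCount_stdF (n := n) τ j hj hjσ p hn hr0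

end Cfsg.Agent.S2705
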