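import Cfsg.Statements.S2707
import Cfsg.Agent.Lib.AutPSU.GraphField

set_option autoImplicit false
open Cfsg

namespace Cfsg.Agent.S2707

/-- Let T = PSU_n(q) with n = 2m ≥ 4 even and q odd, realised over the field F with q² elements, and G = Inndiag(T) the image of PGU_n(q). The involutory graph automorphisms of T fall into exactly three G-classes, with representatives whose centralizers in G are isomorphic respectively to the projective conformal symplectic group PGSp_n(F₀), the projective conformal orthogonal group of the plus-type form Σ xᵢ yᵢ, and that of a minus-type form Σ xᵢ yᵢ + z₁² + a z₁ z₂ + b z₂² (anisotropic binary part) in dimension n, all over a field F₀ with q elements. -/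
theorem result {F : Type*} [Field F] [Fintype F] {q : ℕ} (hodd : Odd q) (hF : Fintype.card F = q ^ 2) {n m : ℕ} (hm : 2 ≤ m) (hnm : n = 2 * m) (F₀ : Type*) [Field F₀] [Fintype F₀] (hF₀ : Fintype.card F₀ = q) :
    ∃ (γ₁ γ₂ γ₃ : MulAut (Cfsg.PSU n F q)) (a b : F₀), (∀ z₁ z₂ : F₀, z₁ ^ 2 + a * z₁ * z₂ + b * z₂ ^ 2 = 0 → z₁ = 0 ∧ z₂ = 0) ∧ Cfsg.IsGraphAutClassPSU γ₁ ∧ orderOf γ₁ = 2 ∧ Cfsg.IsGraphAutClassPSU γ₂ ∧ orderOf γ₂ = 2 ∧ Cfsg.IsGraphAutClassPSU γ₃ ∧ orderOf γ₃ = 2 ∧ ¬ Cfsg.IsConjUnder (Cfsg.inndiagPSU n F q) γ₁ γ₂ ∧ ¬ Cfsg.IsConjUnder (Cfsg.inndiagPSU n F q) γ₁ γ₃ ∧ ¬ Cfsg.IsConjUnder (Cfsg.inndiagPSU n F q) γ₂ γ₃ ∧ (∀ γ : MulAut (Cfsg.PSU n F q), Cfsg.IsGraphAutClassPSU γ → orderOf γ = 2 → Cfsg.IsConjUnder (Cfsg.inndiagPSU n F q) γ₁ γ ∨ Cfsg.IsConjUnder (Cfsg.inndiagPSU n F q) γ₂ γ ∨ Cfsg.IsConjUnder (Cfsg.inndiagPSU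 n F q) γ₃ γ) ∧ Nonempty (↥(Cfsg.inndiagPSU n F q ⊓ Subgroup.centralizer {γ₁}) ≃* Cfsg.PGSp m F₀) ∧ Nonempty (↥(Cfsg.inndiagPSU n F q ⊓ Subgroup.centralizer {γ₂}) ≃* Cfsg.PGO F₀ (Cfsg.quadFormPlus m F₀)) ∧ Nonempty (↥(Cfsg.inndiagPSU n F q ⊓ Subgroup.centralizer {γ₃}) ≃* Cfsg.PGO F₀ (Cfsg.quadFormMinus (m - 1) F₀ a b)) := by
  haveI := Cfsg.Agent.AutPSU.QField.of_card hF
  have hn' : 3 ≤ n := by omega
  haveI : Nonempty (Fin n) := ⟨⟨0, by omega⟩⟩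
  obtain ⟨j, hj⟩ := Cfsg.Agent.AutPSU.exists_embedding (F := F) F₀ hF₀
  obtain ⟨p, f, hp, hc, -, -⟩ := Cfsg.Agent.AutPSU.exists_prime_pow hF
  haveI := Fact.mk hp
  have h2 : (2 : F₀) ≠ 0 := Cfsg.Agent.AutPSU.two_ne_zero_of_odd hF₀ hodd
  obtain ⟨a, b, hab⟩ := Cfsg.Agent.Spinor.exists_aniso F₀
  obtain ⟨Qm, hQm, hQn⟩ := Cfsg.Agent.OrthForms.exists_qMinus (m - 1) a b hab
  obtain ⟨M₁, hM₁', -, hm₁⟩ := Cfsg.Agent.AutPSL.exists_gl_alt (F := F₀) hnm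
  obtain ⟨M₂, hM₂', hm₂⟩ := Cfsg.Agent.AutPSL.exists_gl_quad _ (Cfsg.Agent.OrthForms.qPlus_nondeg (F := F₀) m)
    (finSumFinEquiv.trans (finCongr (by omega : m + m = n)))
  obtain ⟨M₃, hM₃', hm₃⟩ := Cfsg.Agent.AutPSL.exists_gl_quad Qm hQn
    ((Equiv.sumCongr finSumFinEquiv (Equiv.refl _)).trans
      (finSumFinEquiv.trans (finCongr (by omega : (m - 1 + (m - 1)) + 2 = n))))
  obtain ⟨B₁, hD₁, hg₁, ho₁⟩ := Cfsg.Agent.AutPSU.exists_graph j hj p hn' M₁ (Or.inr hM₁')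
  obtain ⟨B₂, hD₂, hg₂, ho₂⟩ := Cfsg.Agent.AutPSU.exists_graph j hj p hn' M₂ (Or.inl hM₂')
  obtain ⟨B₃, hD₃, hg₃, ho₃⟩ := Cfsg.Agent.AutPSU.exists_graph j hj p hn' M₃ (Or.inl hM₃')
  refine ⟨Cfsg.Agent.AutPSU.gamU B₁, Cfsg.Agent.AutPSU.gamU B₂, Cfsg.Agent.AutPSU.gamU B₃, a, b, hab,
    hg₁, ho₁, hg₂, ho₂, hg₃, ho₃, fun h => ?_, fun h => ?_, fun h => ?_, fun γ hγ ho => ?_, ?_, ?_, ?_⟩
  · obtain ⟨k, c, h'⟩ := (Cfsg.Agent.AutPSU.conj_iff_congr j hj p hn' hD₁ hD₂).1 h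
    exact Cfsg.Agent.AutPSL.not_skew_symm' h2 M₁ M₂ k c h' hM₁' hM₂'
  · obtain ⟨k, c, h'⟩ := (Cfsg.Agent.AutPSU.conj_iff_congr j hj p hn' hD₁ hD₃).1 h
    exact Cfsg.Agent.AutPSL.not_skew_symm' h2 M₁ M₃ k c h' hM₁' hM₃'
  · obtain ⟨k, c, h'⟩ := (Cfsg.Agent.AutPSU.conj_iff_congr j hj p hn' hD₂ hD₃).1 h
    exact Cfsg.Agent.AutPSL.plus_not_congr_minus h2 (by omega) hab hQm hm₂ hm₃ k c h'
  · obtain ⟨B, M, rfl, hD, hs | hs⟩ := Cfsg.Agent.AutPSU.exists_form j hj p hn' hγ ho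
    · rcases Cfsg.Agent.AutPSL.symm_model h2 (by omega) hnm hab hQm M hs with hM | hM
      · exact Or.inr (Or.inl ((Cfsg.Agent.AutPSU.conj_iff_congr j hj p hn' hD₂ hD).2 (hm₂.congr hM)))
      · exact Or.inr (Or.inr ((Cfsg.Agent.AutPSU.conj_iff_congr j hj p hn' hD₃ hD).2 (hm₃.congr hM)))
    · exact Or.inl ((Cfsg.Agent.AutPSU.conj_iff_congr j hj p hn' hD₁ hD).2 (hm₁.congr
        (Cfsg.Agent.AutPSL.hasModel_alt hnm M (Cfsg.Agent.AutPSL.alt_of_skew h2 hs))))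
  · exact Cfsg.Agent.AutPSU.centralizer_model j hj p hn' hD₁ hm₁.projQuot_equiv
  · have e := hm₂.pgo_equiv _ h2
    rw [Cfsg.Agent.AutPSL.qPlus_coe] at e
    exact Cfsg.Agent.AutPSU.centralizer_model j hj p hn' hD₂ e
  · have e := hm₃.pgo_equiv _ h2
    rw [hQm] at e
    exact Cfsg.Agent.AutPSU.centralizer_model j hj p hn' hD₃ e

end Cfsg.Agent.S2707
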