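import Cfsg.Statements.S2708
import Cfsg.Agent.Lib.AutPSU.GraphField

set_option autoImplicit false
open Cfsg

namespace Cfsg.Agent.S2708

/-- Let T = PSU_n(q) with n = 2m ≥ 4 even and q even, realised over the field F (of characteristic 2) with q² elements, and G = Inndiag(T) the image of PGU_n(q). The involutory graph automorphisms of T fall into exactly two G-classes, with representatives whose centralizers in G are isomorphic respectively to the symplectic group Sp_n(F₀) and to the centralizer in Sp_n(F₀) of a symplectic transvection, F₀ a field with q elements. -/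
theorem result {F : Type*} [Field F] [Fintype F] [CharP F 2] {q : ℕ} (hF : Fintype.card F = q ^ 2) {n m : ℕ} (hm : 2 ≤ m) (hnm : n = 2 * m) (F₀ : Type*) [Field F₀] [Fintype F₀] (hF₀ : Fintype.card F₀ = q) :
    ∃ (γ₁ γ₃ : MulAut (Cfsg.PSU n F q)) (t : ↥(Matrix.symplecticGroup (Fin m) F₀)), Cfsg.IsTransvection (t : Matrix (Fin m ⊕ Fin m) (Fin m ⊕ Fin m) F₀) ∧ Cfsg.IsGraphAutClassPSU γ₁ ∧ orderOf γ₁ = 2 ∧ Cfsg.IsGraphAutClassPSU γ₃ ∧ orderOf γ₃ = 2 ∧ ¬ Cfsg.IsConjUnder (Cfsg.inndiagPSU n F q) γ₁ γ₃ ∧ (∀ γ : MulAut (Cfsg.PSU n F q), Cfsg.IsGraphAutClassPSU γ → orderOf γ = 2 → Cfsg.IsConjUnder (Cfsg.inndiagPSU n F q) γ₁ γ ∨ Cfsg.IsConjUnder (Cfsg.inndiagPSU n F q) γ₃ γ) ∧ Nonempty (↥(Cfsg.inndiagPSU n F q ⊓ Subgroup.centralizer {γ₁}) ≃* ↥(Matrix.symplecticGroup (Fin m) F₀)) ∧ Nonempty (↥(Cfsg.inndiagPSU n F q ⊓ Subgroup.centralizer {γ₃}) ≃* ↥(Subgroup.centralizer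 ({t} : Set ↥(Matrix.symplecticGroup (Fin m) F₀)))) := by
  haveI := Cfsg.Agent.AutPSU.QField.of_card hF
  have hn' : 3 ≤ n := by omega
  haveI : Nonempty (Fin n) := ⟨⟨0, by omega⟩⟩
  obtain ⟨j, hj⟩ := Cfsg.Agent.AutPSU.exists_embedding (F := F) F₀ hF₀
  haveI : Fact (Nat.Prime 2) := ⟨Nat.prime_two⟩
  haveI : CharP F₀ 2 := j.charP j.injective 2
  let w : Fin m ⊕ Fin m → F₀ := Pi.single (Sum.inl ⟨0, by omega⟩) 1
  have hw : w ≠ 0 := fun h => one_ne_zero (α := F₀) (by simpa [w] using congrFun h (Sum.inl ⟨0, by omega⟩))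
  obtain ⟨M₁, hM₁', hA₁, hm₁⟩ := Cfsg.Agent.AutPSL.exists_gl_alt (F := F₀) hnm
  obtain ⟨M₃, hM₃', hm₃⟩ := Cfsg.Agent.AutPSL.exists_gl_fW hnm w
  have hna : ¬ ∀ x, x ⬝ᵥ (M₃.1.mulVec x) = 0 := by
    intro h
    obtain ⟨L, d, hd⟩ := hm₃
    obtain ⟨x, hx⟩ := Cfsg.Agent.AutPSL.exists_sympForm_one hw
    have := hd x x
    rw [h, Cfsg.Agent.AutPSL.fW, Cfsg.Agent.AutPSL.sympForm_self, hx, zero_add, mul_one, mul_one] at this
    exact d.ne_zero this.symm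
  obtain ⟨B₁, hD₁, hg₁, ho₁⟩ := Cfsg.Agent.AutPSU.exists_graph j hj 2 hn' M₁ (Or.inr hM₁')
  obtain ⟨B₃, hD₃, hg₃, ho₃⟩ := Cfsg.Agent.AutPSU.exists_graph j hj 2 hn' M₃ (Or.inl hM₃')
  refine ⟨Cfsg.Agent.AutPSU.gamU B₁, Cfsg.Agent.AutPSU.gamU B₃, ⟨Cfsg.Agent.AutPSL.trV w,
    Cfsg.Agent.AutPSL.trV_mem w⟩, Cfsg.Agent.AutPSL.trV_isTransvection hw,
    hg₁, ho₁, hg₃, ho₃, fun h => ?_, fun γ hγ ho => ?_, ?_, ?_⟩
  · obtain ⟨g, c, h'⟩ := (Cfsg.Agent.AutPSU.conj_iff_congr j hj 2 hn' hD₁ hD₃).1 h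
    refine hna fun y => ?_
    obtain ⟨x, rfl⟩ : ∃ x, g.1.mulVec x = y := ⟨(g⁻¹).1.mulVec y, by
      rw [Matrix.mulVec_mulVec, Units.mul_inv, Matrix.one_mulVec]⟩
    rw [Cfsg.Agent.AutPSL.form_mulVec, h', Matrix.smul_mulVec, dotProduct_smul, hA₁, smul_zero]
  · obtain ⟨B, M, rfl, hD, hs⟩ := Cfsg.Agent.AutPSU.exists_form j hj 2 hn' hγ ho
    have hM : M.1.transpose = M.1 :=
      hs.elim id fun h => h.trans (Cfsg.Agent.AutPSU.two_zero_neg CharTwo.two_eq_zero M)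
    by_cases hb : ∀ x, x ⬝ᵥ (M.1.mulVec x) = 0
    · exact Or.inl ((Cfsg.Agent.AutPSU.conj_iff_congr j hj 2 hn' hD₁ hD).2
        (hm₁.congr (Cfsg.Agent.AutPSL.hasModel_alt hnm M hb)))
    · exact Or.inr ((Cfsg.Agent.AutPSU.conj_iff_congr j hj 2 hn' hD₃ hD).2
        (hm₃.congr (Cfsg.Agent.AutPSL.hasModel_fW hnm hw M hM hb)))
  · refine Cfsg.Agent.AutPSU.centralizer_model j hj 2 hn' hD₁ ?_
    obtain ⟨e₂⟩ := hm₁.projQuot_equiv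
    have h3 := Cfsg.Agent.AutPSL.fW_stab (F := F₀) (m := m) (by omega) 0
    rw [Cfsg.Agent.AutPSL.fW_zero] at h3
    obtain ⟨e₃⟩ := h3
    have htop : Cfsg.Agent.AutPSL.stabV (F := F₀) (0 : Fin m ⊕ Fin m → F₀) = ⊤ :=
      eq_top_iff.2 fun A _ => Matrix.mulVec_zero _
    exact ⟨e₂.trans (e₃.symm.trans ((MulEquiv.subgroupCongr htop).trans Subgroup.topEquiv))⟩
  · refine Cfsg.Agent.AutPSU.centralizer_model j hj 2 hn' hD₃ ?_
    obtain ⟨e₂⟩ := hm₃.projQuot_equiv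
    obtain ⟨e₃⟩ := Cfsg.Agent.AutPSL.fW_stab (F := F₀) (m := m) (by omega) w
    exact ⟨e₂.trans (e₃.symm.trans
      (MulEquiv.subgroupCongr (Cfsg.Agent.AutPSL.centralizer_trV hw).symm))⟩

end Cfsg.Agent.S2708
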