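import Cfsg.Statements.S2709
import Cfsg.Agent.Lib.AutPSU.GraphField

set_option autoImplicit false
open Cfsg

namespace Cfsg.Agent.S2709

/-- Let T = PSU_n(q) be simple (n ≥ 3, (n,q) ≠ (3,2), q = p^f), realised over the field F with q² elements, G = Inndiag(T) the image of PGU_n(q), and γ an involutory graph automorphism of T. The G-class of γ is the union of exactly c T-classes, where: if n is even and q is odd, c = gcd(n/2, q + 1) when C_G(γ) is isomorphic to PGSp_n(F₀) for a field F₀ with q elements (symplectic type) and c = gcd(n, q + 1)/2 otherwise; and c = gcd(n, q + 1) when n is odd or q is even. -/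
theorem result {F : Type*} [Field F] [Fintype F] {p f q : ℕ} [Fact p.Prime] (hq : q = p ^ f) (hf : 1 ≤ f) (hF : Fintype.card F = q ^ 2) {n : ℕ} (hn : 3 ≤ n) (hs : ¬ (n = 3 ∧ q = 2)) (F₀ : Type*) [Field F₀] [Fintype F₀] (hF₀ : Fintype.card F₀ = q) (γ : MulAut (Cfsg.PSU n F q)) (hγ : Cfsg.IsGraphAutClassPSU γ) (hγ2 : orderOf γ = 2) :
    ((Even n ∧ Odd q ∧ Nonempty (↥(Cfsg.inndiagPSU n F q ⊓ Subgroup.centralizer {γ}) ≃* Cfsg.PGSp (n / 2) F₀)) → Cfsg.splitClassCount (Cfsg.inndiagPSU n F q) (Cfsg.Inn (Cfsg.PSU n F q)) γ = Nat.gcd (n / 2) (q + 1)) ∧ ((Even n ∧ Odd q ∧ ¬ Nonempty (↥(Cfsg.inndiagPSU n F q ⊓ Subgroup.centralizer {γ}) ≃* Cfsg.PGSp (n / 2) F₀)) → Cfsg.splitClassCount (Cfsg.inndiagPSU n F q) (Cfsg.Inn (Cfsg.PSU n F q)) γ = Nat.gcd n (q + 1) / 2) ∧ (¬ (Even n ∧ Odd q) → Cfsg.splitClassCount (Cfsg.inndiagPSU n F q) (Cfsg.Inn (Cfsg.PSU n F q)) γ = Nat.gcd n (q + 1)) := by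
  haveI := Cfsg.Agent.AutPSU.QField.of_card hF
  have hn' : 3 ≤ n := by omega
  haveI : Nonempty (Fin n) := ⟨⟨0, by omega⟩⟩
  obtain ⟨j, hj⟩ := Cfsg.Agent.AutPSU.exists_embedding (F := F) F₀ hF₀
  haveI : CharP F p := by
    haveI := charP_of_card_eq_prime_pow (p := p) (f := f * 2) (R := F) (by rw [hF, hq, ← pow_mul])
    assumption
  obtain ⟨B, M, rfl, hD, hs⟩ := Cfsg.Agent.AutPSU.exists_form j hj p hn' hγ hγ2
  rw [Cfsg.Agent.AutPSU.splitCount_gamU p hn' B]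
  refine ⟨?_, ?_, ?_⟩
  · rintro ⟨hev, hodd, ⟨e⟩⟩
    have h2 := Cfsg.Agent.AutPSU.two_ne_zero_of_odd hF₀ hodd
    have hnm : n = 2 * (n / 2) := (Nat.two_mul_div_two_of_even hev).symm
    rcases hs with hM | hM
    · obtain ⟨e₁⟩ := Cfsg.Agent.AutPSU.centralizer_gamU j hj p hn' hD
      exact absurd ⟨e₁.symm.trans e⟩ (Cfsg.Agent.AutPSL.symm_not_pgsp h2 (by omega) hnm M hM)
    · rw [Cfsg.Agent.AutPSU.split_alt j hj p hn' hnm hD (Cfsg.Agent.AutPSL.hasModel_alt hnm M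
        (Cfsg.Agent.AutPSL.alt_of_skew h2 hM)), Cfsg.Agent.AutPSU.index_N1]
  · rintro ⟨hev, hodd, hne⟩
    have h2 := Cfsg.Agent.AutPSU.two_ne_zero_of_odd hF₀ hodd
    have hnm : n = 2 * (n / 2) := (Nat.two_mul_div_two_of_even hev).symm
    have hM : M.1.transpose = M.1 := hs.resolve_right fun hM => hne
      (Cfsg.Agent.AutPSU.centralizer_model j hj p hn' hD (Cfsg.Agent.AutPSL.hasModel_alt hnm M
        (Cfsg.Agent.AutPSL.alt_of_skew h2 hM)).projQuot_equiv)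
    rw [Cfsg.Agent.AutPSU.split_symm j hj p hn' h2 (by omega) hnm hD hM, Cfsg.Agent.AutPSU.index_N1_sq hodd,
      ← hnm]
  · intro h
    rw [Cfsg.Agent.AutPSU.split_generic j hj p hn' ?_ hD, Cfsg.Agent.AutPSU.index_N1]
    rcases Nat.even_or_odd n with hev | hod
    · right
      have hq' : Fintype.card F₀ % 2 = 0 := by
        rw [hF₀, ← Nat.even_iff, ← Nat.not_odd_iff_even]
        exact fun ho => h ⟨hev, ho⟩
      haveI := ringChar.of_eq (FiniteField.even_card_iff_char_two.2 hq')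
      exact CharTwo.two_eq_zero
    · exact Or.inl hod

end Cfsg.Agent.S2709
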