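import Cfsg.Statements.S2710
import Cfsg.Agent.Lib.AutPSU.GraphField
import Cfsg.Agent.Lib.AutPSL.GraphIota

set_option autoImplicit false
open Cfsg

namespace Cfsg.Agent.S2710

/-- Let T = PSU_n(q) with n ≥ 4 divisible by 4 (n = 2m) and q odd, realised over the field F with q² elements, G = Inndiag(T) the image of PGU_n(q), and φ the standard field automorphism of T attached to the q-th power map of F (it induces inverse-transpose on the unitary matrices and is a graph automorphism). Its centralizer in G is isomorphic to the projective conformal orthogonal group of the plus-type form Σ xᵢ yᵢ in dimension n over a field F₀ with q elements. (Dimensions n ≡ 2 (mod 4) are not covered.) -/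
theorem result {F : Type*} [Field F] [Fintype F] {q : ℕ} (hodd : Odd q) (hF : Fintype.card F = q ^ 2) {n m : ℕ} (hm : 2 ≤ m) (hnm : n = 2 * m) (h4 : 4 ∣ n) (F₀ : Type*) [Field F₀] [Fintype F₀] (hF₀ : Fintype.card F₀ = q) (σ : F ≃+* F) (hσ : ∀ a : F, σ a = a ^ q) (φ : MulAut (Cfsg.PSU n F q)) (hφ : Cfsg.IsFieldAutPSUOf σ φ) :
    Nonempty (↥(Cfsg.inndiagPSU n F q ⊓ Subgroup.centralizer {φ}) ≃* Cfsg.PGO F₀ (Cfsg.quadFormPlus m F₀)) := by
  haveI := Cfsg.Agent.AutPSU.QField.of_card hF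
  have hn' : 3 ≤ n := by omega
  haveI : Nonempty (Fin n) := ⟨⟨0, by omega⟩⟩
  obtain ⟨j, hj⟩ := Cfsg.Agent.AutPSU.exists_embedding (F := F) F₀ hF₀
  obtain ⟨p, f, hp, hc, -, -⟩ := Cfsg.Agent.AutPSU.exists_prime_pow hF
  haveI := Fact.mk hp
  have h2 : (2 : F₀) ≠ 0 := Cfsg.Agent.AutPSU.two_ne_zero_of_odd hF₀ hodd
  obtain rfl : σ = Cfsg.Agent.AutPSU.qb (F := F) q :=
    RingEquiv.ext fun a => by rw [hσ, Cfsg.Agent.AutPSU.qb_apply]
  obtain rfl : φ = Cfsg.Agent.AutPSU.gamU (1 : Cfsg.GU n F q) := by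
    rw [Cfsg.Agent.AutPSU.gamU, map_one, map_one, one_mul]
    exact (Cfsg.Agent.AutPSU.isFieldOf_iff _ φ).1 hφ
  have hD : Cfsg.Agent.AutPSU.Desc j (1 : Cfsg.GU n F q) (1 : GL (Fin n) F₀) := by
    refine ⟨1, 1, 1, ?_, ?_⟩ <;>
      simp [Matrix.map_one]
  have hsq : IsSquare ((-1 : F₀) ^ m) := by
    obtain ⟨l, hl⟩ : Even m := even_iff_two_dvd.2 (by omega)
    exact ⟨(-1) ^ l, by rw [← pow_add, hl]⟩
  have e := ((Cfsg.Agent.AutPSL.one_hasModel_plus_iff h2 (by omega) hnm).2 hsq).pgo_equiv _ h2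
  rw [Cfsg.Agent.AutPSL.qPlus_coe] at e
  exact Cfsg.Agent.AutPSU.centralizer_model j hj p hn' hD e

end Cfsg.Agent.S2710
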