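import Cfsg.Statements.S2712
import Cfsg.Agent.Lib.AutPSp.Twisted

set_option autoImplicit false
open Cfsg

namespace Cfsg.Agent.S2712

/-- Parity of `(q^r - 1)/(q - 1)`. -/
lemma gcd_two_geom {p e r : ℕ} (hp : p.Prime) (he : 1 ≤ e) (hr : 1 ≤ r) :
    Nat.gcd ((p ^ (e * r) - 1) / (p ^ e - 1)) 2 = Nat.gcd (Nat.gcd 2 (p ^ (e * r) - 1)) r := by
  have h2 : 2 ≤ p ^ e := le_trans hp.two_le (Nat.le_self_pow (by omega) p)
  rw [pow_mul, ← Nat.geomSum_eq h2 r]
  rcases hp.eq_two_or_odd' with rfl | hodd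
  · have he2 : Even ((2 : ℕ) ^ e) := Nat.even_pow.2 ⟨even_two, by omega⟩
    have hL : Odd (∑ i ∈ Finset.range r, ((2 : ℕ) ^ e) ^ i) := by
      obtain ⟨s, rfl⟩ : ∃ s, r = s + 1 := ⟨r - 1, by omega⟩
      rw [Finset.sum_range_succ']
      refine Even.add_odd ?_ (by simp)
      exact even_iff_two_dvd.2 (Finset.dvd_sum fun i _ =>
        even_iff_two_dvd.1 (Nat.even_pow.2 ⟨he2, by omega⟩))
    have hR : Odd (((2 : ℕ) ^ e) ^ r - 1) :=
      Nat.Even.sub_odd (Nat.one_le_pow _ _ (by omega)) (Nat.even_pow.2 ⟨he2, by omega⟩) odd_one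
    rw [(Nat.coprime_two_right.2 hL).gcd_eq_one, (Nat.coprime_two_left.2 hR).gcd_eq_one,
      Nat.gcd_one_left]
  · have hq : Odd (p ^ e) := hodd.pow
    have h1 : 2 ∣ (p ^ e) ^ r - 1 := even_iff_two_dvd.1 (Nat.Odd.sub_odd hq.pow odd_one)
    rw [Nat.gcd_eq_left h1, Nat.gcd_comm, Nat.gcd_rec, Nat.gcd_rec 2 r]
    congr 1
    rw [Finset.sum_nat_mod]
    have h3 : ∀ i ∈ Finset.range r, (p ^ e) ^ i % 2 = 1 := fun i _ => Nat.odd_iff.1 hq.pow
    rw [Finset.sum_congr rfl h3]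
    simp

/-- Let T = PSp_{2m}(F) be simple over the field F with p^f elements (m ≥ 2, (2m, |F|) ≠ (4, 2)), G = Inndiag(T) the image of the projective conformal symplectic group PGSp_{2m}(F), and x a field automorphism of T of prime order r. Then r divides f; C_G(x) is isomorphic to PGSp_{2m}(F₀) for a field F₀ with p^(f/r) elements; and the G-class of x is the union of exactly gcd(gcd(2, p^f − 1), r) T-classes. -/
theorem result {F : Type*} [Field F] [Fintype F] {p f : ℕ} [Fact p.Prime] (hF : Fintype.card F = p ^ f) (hf : 1 ≤ f) {m : ℕ} (hm : 2 ≤ m) (hs : m = 2 → 3 ≤ Fintype.card F) (x : MulAut (Cfsg.PSp m F)) (hx : Cfsg.IsFieldAutClassPSp x) {r : ℕ} (hr : r.Prime) (hxr : orderOf x = r) (F₀ : Type*) [Field F₀] [Fintype F₀] (hF₀ : Fintype.card F₀ = p ^ (f / r)) :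
    r ∣ f ∧ Nonempty (↥(Cfsg.inndiagPSp m F ⊓ Subgroup.centralizer {x}) ≃* Cfsg.PGSp m F₀) ∧ Cfsg.splitClassCount (Cfsg.inndiagPSp m F) (Cfsg.Inn (Cfsg.PSp m F)) x = Nat.gcd (Nat.gcd 2 (p ^ f - 1)) r := by
  haveI : CharP F p := AutPSL.charP_of_card hF hf
  obtain ⟨σ, k, -, hxe⟩ := AutPSp.exists_field_rep p hm hx
  have hσr : orderOf σ = r := by
    rw [← hxr, hxe, AutPSL.orderOf_conj, AutPSp.orderOf_stdF p (by omega)]
  obtain ⟨hd, hK⟩ := AutPSL.card_fixedField hF σ hσr hr.pos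
  haveI := Fintype.ofFinite ((σ : F →+* F).eqLocusField (RingHom.id F))
  let e : F₀ ≃+* (σ : F →+* F).eqLocusField (RingHom.id F) :=
    FiniteField.ringEquivOfCardEq (by rw [hF₀, ← Nat.card_eq_fintype_card, hK])
  let j : F₀ →+* F := ((σ : F →+* F).eqLocusField (RingHom.id F)).subtype.comp e.toRingHom
  have hj : ∀ a, σ a = a ↔ a ∈ j.range := by
    intro a
    constructor
    · intro h
      exact ⟨e.symm ⟨a, h⟩, congrArg Subtype.val (e.apply_symm_apply _)⟩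
    · rintro ⟨b, rfl⟩
      exact (e b).2
  have hr0 : 0 < orderOf σ := by rw [hσr]; exact hr.pos
  subst hxe
  refine ⟨hd, ?_, ?_⟩
  · obtain ⟨e1⟩ := AutPSL.centralizer_conj (Cfsg.inndiagPSp m F) (x := AutPSp.stdF σ)
      (AutPSp.inndiag_mem p k)
    obtain ⟨e2⟩ := AutPSp.centralizer_equiv (m := m) σ j hj p (by omega) hr0
    exact ⟨e1.trans e2⟩
  · rw [AutPSL.splitClassCount_conj _ _ (AutPSp.inndiag_mem p k),
      AutPSp.splitClassCount_stdF (m := m) σ j hj p (by omega) hr0, Nat.card_eq_fintype_card (α := F),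
      Nat.card_eq_fintype_card (α := F₀), hF, hF₀]
    conv_lhs => rw [← Nat.div_mul_cancel hd]
    conv_rhs => rw [← Nat.div_mul_cancel hd]
    rw [Nat.mul_div_left _ hr.pos]
    exact gcd_two_geom (Fact.out) (Nat.div_pos (Nat.le_of_dvd (by omega) hd) hr.pos) hr.one_le

end Cfsg.Agent.S2712
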