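import Cfsg.Statements.S2714
import Cfsg.Agent.Lib.AutPOmega.OddCentralizer
-- import your own Cfsg.Agent.* helpers here

set_option autoImplicit false
open Cfsg

namespace Cfsg.Agent.S2714

set_option maxHeartbeats 2000000

/-- Let T = Ω_{2m+1}(F) (m ≥ 3, |F| = p^f odd; realised as PΩ of the form x₀² + Σ xᵢ yᵢ), G = Inndiag(T) the image of the conformal orthogonal group in Aut(T), and x a field automorphism of T of prime order r. Then r divides f; C_G(x) is isomorphic to Inndiag(Ω_{2m+1}(F₀)) for a field F₀ with p^(f/r) elements; and the G-class of x is a single T-class when r is odd and the union of exactly two T-classes when r = 2. -/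
theorem result {F : Type*} [Field F] [Fintype F] {p f : ℕ} [Fact p.Prime] (hF : Fintype.card F = p ^ f) (hf : 1 ≤ f) (hodd : Odd (Fintype.card F)) {m : ℕ} (hm : 3 ≤ m) (x : MulAut (Cfsg.POmega F (Cfsg.quadFormOdd m F))) (hx : Cfsg.IsFieldAutClassPOmega (Cfsg.quadFormOdd m F) x) {r : ℕ} (hr : r.Prime) (hxr : orderOf x = r) (F₀ : Type*) [Field F₀] [Fintype F₀] (hF₀ : Fintype.card F₀ = p ^ (f / r)) :
    r ∣ f ∧ Nonempty (↥(Cfsg.inndiagPOmegaOdd m F ⊓ Subgroup.centralizer {x}) ≃* ↥(Cfsg.inndiagPOmegaOdd m F₀)) ∧ (Odd r → Cfsg.splitClassCount (Cfsg.inndiagPOmegaOdd m F) (Cfsg.Inn (Cfsg.POmega F (Cfsg.quadFormOdd m F))) x = 1) ∧ (r = 2 → Cfsg.splitClassCount (Cfsg.inndiagPOmegaOdd m F) (Cfsg.Inn (Cfsg.POmega F (Cfsg.quadFormOdd m F))) x = 2) := by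
  haveI : CharP F p := charP_of_card_eq_prime_pow hF
  have h2 : (2 : F) ≠ 0 := Ring.two_ne_zero fun h => by
    have := FiniteField.even_card_of_char_two h
    rw [Nat.odd_iff] at hodd
    omega
  have S := OrthSigns.qset_odd (F := F) h2 m hm
  suffices H : ∀ fq : (Unit ⊕ (Fin m ⊕ Fin m) → F) → F, ⇑(FormsLib.qOdd m F) = fq →
      ∀ fq0 : (Unit ⊕ (Fin m ⊕ Fin m) → F₀) → F₀, ⇑(FormsLib.qOdd m F₀) = fq0 →
      ∀ x : MulAut (Cfsg.POmega F fq), Cfsg.IsFieldAutClassPOmega fq x → orderOf x = r →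
      let G := Cfsg.autSubgroupOf (fun β : MulAut (Cfsg.POmega F fq) => Cfsg.IsSimilarityInducedAutPOmega fq β)
      let G₀ := Cfsg.autSubgroupOf (fun β : MulAut (Cfsg.POmega F₀ fq0) => Cfsg.IsSimilarityInducedAutPOmega fq0 β)
      r ∣ f ∧ Nonempty (↥(G ⊓ Subgroup.centralizer {x}) ≃* ↥G₀) ∧
        (Odd r → Cfsg.splitClassCount G (Cfsg.Inn (Cfsg.POmega F fq)) x = 1) ∧
        (r = 2 → Cfsg.splitClassCount G (Cfsg.Inn (Cfsg.POmega F fq)) x = 2)
    from H _ FormsLib.coe_qOdd _ FormsLib.coe_qOdd x hx hxr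
  intro fq hfq fq0 hfq0
  subst hfq hfq0
  intro x hx hxr G G₀
  obtain ⟨σ, K, -, rfl⟩ := AutPOmega.exists_field_rep_odd S h2 hx
  rw [AutPSL.orderOf_conj, AutPOmega.orderOf_theta_fldOdd S] at hxr
  obtain ⟨hd, hK⟩ := AutPSL.card_fixedField hF σ hxr hr.pos
  haveI := Fintype.ofFinite ((σ : F →+* F).eqLocusField (RingHom.id F))
  let e : F₀ ≃+* (σ : F →+* F).eqLocusField (RingHom.id F) :=
    FiniteField.ringEquivOfCardEq (by rw [hF₀, ← Nat.card_eq_fintype_card, hK])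
  let j : F₀ →+* F := ((σ : F →+* F).eqLocusField (RingHom.id F)).subtype.comp e.toRingHom
  have hj : ∀ a, σ a = a ↔ a ∈ j.range := by
    intro a
    constructor
    · intro h
      exact ⟨e.symm ⟨a, h⟩, congrArg Subtype.val (e.apply_symm_apply _)⟩
    · rintro ⟨b, rfl⟩
      exact (e b).2
  have h20 : (2 : F₀) ≠ 0 := fun e' => h2 (by rw [← map_ofNat j 2, e', map_zero])
  have S₀ := OrthSigns.qset_odd (F := F₀) h20 m hm
  have hcard : Fintype.card F = Fintype.card F₀ ^ r := by rw [hF, hF₀, ← pow_mul, Nat.div_mul_cancel hd]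
  have hG : G = (AutPOmega.simAut (Q := FormsLib.qOdd m F)).range := AutPOmega.inndiag_odd
  have hG₀ : G₀ = (AutPOmega.simAut (Q := FormsLib.qOdd m F₀)).range := AutPOmega.inndiag_odd
  have hmem : AutPOmega.simAut K ∈ (AutPOmega.simAut (Q := FormsLib.qOdd m F)).range := ⟨K, rfl⟩
  have hs := AutPOmega.splitCount_odd j σ hj S S₀ h2 hm hr hxr hcard
  rw [hG, hG₀, AutPSL.splitClassCount_conj _ _ hmem]
  obtain ⟨e1⟩ := AutPSL.centralizer_conj (AutPOmega.simAut (Q := FormsLib.qOdd m F)).range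
    (x := AutPOmega.theta (AutPOmega.fldOdd σ)) hmem
  obtain ⟨e2⟩ := AutPOmega.centralizer_equiv_odd j σ hj S S₀ (by rw [hxr]; exact hr.pos)
  exact ⟨hd, ⟨e1.trans e2⟩, hs⟩

end Cfsg.Agent.S2714
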