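import Cfsg.Statements.S2715
import Cfsg.Agent.Lib.AutPOmega.FieldTransport

set_option autoImplicit false
open Cfsg

namespace Cfsg.Agent.S2715

/-- Let T = PΩ⁺_{2m}(F) (m ≥ 4, |F| = p^f; the form Σ xᵢ yᵢ), G = Inndiag(T) the image of the class-preserving similarities in Aut(T), and x a field automorphism of T of prime order r. Then r divides f; C_G(x) is isomorphic to Inndiag(PΩ⁺_{2m}(F₀)) for a field F₀ with p^(f/r) elements; and the G-class of x is the union of exactly c T-classes, where c = 1 if r is odd or p = 2, and otherwise (r = 2, p odd) c = 2 when m is odd and p^(f/2) ≡ 1 (mod 4), and c = 4 in the remaining cases. -/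
theorem result {F : Type*} [Field F] [Fintype F] {p f : ℕ} [Fact p.Prime] (hF : Fintype.card F = p ^ f) (hf : 1 ≤ f) {m : ℕ} (hm : 4 ≤ m) (x : MulAut (Cfsg.POmega F (Cfsg.quadFormPlus m F))) (hx : Cfsg.IsFieldAutClassPOmega (Cfsg.quadFormPlus m F) x) {r : ℕ} (hr : r.Prime) (hxr : orderOf x = r) (F₀ : Type*) [Field F₀] [Fintype F₀] (hF₀ : Fintype.card F₀ = p ^ (f / r)) :
    r ∣ f ∧ Nonempty (↥(Cfsg.inndiagPOmegaPlus m F ⊓ Subgroup.centralizer {x}) ≃* ↥(Cfsg.inndiagPOmegaPlus m F₀)) ∧ ((Odd r ∨ p = 2) → Cfsg.splitClassCount (Cfsg.inndiagPOmegaPlus m F) (Cfsg.Inn (Cfsg.POmega F (Cfsg.quadFormPlus m F))) x = 1) ∧ ((r = 2 ∧ p ≠ 2 ∧ Odd m ∧ p ^ (f / 2) % 4 = 1) → Cfsg.splitClassCount (Cfsg.inndiagPOmegaPlus m F) (Cfsg.Inn (Cfsg.POmega F (Cfsg.quadFormPlus m F))) x = 2) ∧ ((r = 2 ∧ p ≠ 2 ∧ ¬ (Odd m ∧ p ^ (f / 2) % 4 = 1)) → Cfsg.splitClassCount (Cfsg.inndiagPOmegaPlus m F)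 (Cfsg.Inn (Cfsg.POmega F (Cfsg.quadFormPlus m F))) x = 4) := by
  haveI : CharP F p := charP_of_card_eq_prime_pow hF
  have S := Cfsg.Agent.AutPOmega.qset_plus (F := F) hm
  have S₀ := Cfsg.Agent.AutPOmega.qset_plus (F := F₀) hm
  obtain ⟨π, hfld, hdk, hD⟩ := Cfsg.Agent.AutPOmega.exists_parity S
  obtain ⟨π₀, -, hdk₀, hD₀⟩ := Cfsg.Agent.AutPOmega.exists_parity S₀
  suffices H : ∀ fq, ⇑(Cfsg.Agent.OrthOrder.qPlus m F) = fq → ∀ fq0, ⇑(Cfsg.Agent.OrthOrder.qPlus m F₀) = fq0 →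
      ∀ x : MulAut (Cfsg.POmega F fq), Cfsg.IsFieldAutClassPOmega fq x → orderOf x = r →
      let G := Cfsg.autSubgroupOf fun β : MulAut (Cfsg.POmega F fq) =>
        ∃ g : GL (Fin m ⊕ Fin m) F, g ∈ Cfsg.Geo.quadSimilarityGroup (F := F) fq ∧
          Cfsg.PreservesSingularClasses fq (g : Matrix _ _ F) ∧
          Cfsg.IsInducedBySemilinearPOmega fq g (RingEquiv.refl F) β
      let G₀ := Cfsg.autSubgroupOf fun β : MulAut (Cfsg.POmega F₀ fq0) =>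
        ∃ g : GL (Fin m ⊕ Fin m) F₀, g ∈ Cfsg.Geo.quadSimilarityGroup (F := F₀) fq0 ∧
          Cfsg.PreservesSingularClasses fq0 (g : Matrix _ _ F₀) ∧
          Cfsg.IsInducedBySemilinearPOmega fq0 g (RingEquiv.refl F₀) β
      r ∣ f ∧ Nonempty (↥(G ⊓ Subgroup.centralizer {x}) ≃* ↥G₀) ∧
        ((Odd r ∨ p = 2) → Cfsg.splitClassCount G (Cfsg.Inn (Cfsg.POmega F fq)) x = 1) ∧
        ((r = 2 ∧ p ≠ 2 ∧ Odd m ∧ p ^ (f / 2) % 4 = 1) → Cfsg.splitClassCount G (Cfsg.Inn (Cfsg.POmega F fq)) x = 2) ∧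
        ((r = 2 ∧ p ≠ 2 ∧ ¬ (Odd m ∧ p ^ (f / 2) % 4 = 1)) → Cfsg.splitClassCount G (Cfsg.Inn (Cfsg.POmega F fq)) x = 4)
    from H _ Cfsg.Agent.AutPOmega.coe_qPlus _ Cfsg.Agent.AutPOmega.coe_qPlus x hx hxr
  intro fq hfq fq0 hfq0
  subst hfq hfq0
  intro x hx hxr G G₀
  obtain ⟨α, φ, σ, -, hφ, he⟩ := hx
  rw [Cfsg.Agent.AutPOmega.isFieldP_iff S] at hφ
  subst hφ
  have hσ : orderOf σ = r := by
    rw [← Cfsg.Agent.AutPOmega.orderOf_theta_fldP (m := m) S σ, ← he, Cfsg.Agent.AutPSL.orderOf_conj, hxr]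
  obtain ⟨hd, hK⟩ := Cfsg.Agent.AutPSL.card_fixedField hF σ hσ hr.pos
  haveI := Fintype.ofFinite ((σ : F →+* F).eqLocusField (RingHom.id F))
  let e : F₀ ≃+* (σ : F →+* F).eqLocusField (RingHom.id F) :=
    FiniteField.ringEquivOfCardEq (by rw [hF₀, ← Nat.card_eq_fintype_card, hK])
  let j : F₀ →+* F := ((σ : F →+* F).eqLocusField (RingHom.id F)).subtype.comp e.toRingHom
  have hj : ∀ c, σ c = c ↔ c ∈ j.range := by
    intro c
    constructor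
    · intro h
      exact ⟨e.symm ⟨c, h⟩, congrArg Subtype.val (e.apply_symm_apply _)⟩
    · rintro ⟨d, rfl⟩
      exact (e d).2
  have hq : Fintype.card F = Fintype.card F₀ ^ r := by rw [hF, hF₀, ← pow_mul, Nat.div_mul_cancel hd]
  obtain ⟨⟨eC⟩, h1, h2', h4⟩ := Cfsg.Agent.AutPOmega.field_data_plus S j hj hdk hD S₀ hdk₀ hD₀ hm hr hσ hq
  have hG : G = (π.comp Cfsg.Agent.AutPOmega.ofSim).ker.map Cfsg.Agent.AutPOmega.simAut :=
    Cfsg.Agent.AutPOmega.inndiag_parity S hdk hD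
  have hG₀ : G₀ = (π₀.comp Cfsg.Agent.AutPOmega.ofSim).ker.map Cfsg.Agent.AutPOmega.simAut :=
    Cfsg.Agent.AutPOmega.inndiag_parity S₀ hdk₀ hD₀
  rw [hG, hG₀]
  haveI := Cfsg.Agent.AutPOmega.inndiag_normal S hdk hD hm
  haveI : (Cfsg.Inn (Cfsg.POmega F ⇑(Cfsg.Agent.OrthOrder.qPlus m F))).Normal := inferInstance
  obtain ⟨eA⟩ := Cfsg.Agent.AutPOmega.centralizer_conj_normal
    ((π.comp Cfsg.Agent.AutPOmega.ofSim).ker.map Cfsg.Agent.AutPOmega.simAut) α x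
  rw [← Cfsg.Agent.AutPOmega.splitClassCount_conj_normal _ _ α x, he]
  rw [he] at eA
  have hp2 : p = 2 ↔ (2 : F) = 0 := by
    constructor
    · intro h
      subst h
      exact CharTwo.two_eq_zero
    · intro h
      exact (Nat.prime_dvd_prime_iff_eq Fact.out Nat.prime_two).1
        ((CharP.cast_eq_zero_iff F p 2).1 (by exact_mod_cast h))
  refine ⟨hd, ⟨eA.trans eC⟩, fun h => h1 (h.imp_right hp2.1), ?_, ?_⟩
  · rintro ⟨rfl, hp, ho, h⟩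
    exact h2' rfl (fun e' => hp (hp2.2 e')) ⟨ho, by rw [hF₀]; exact h⟩
  · rintro ⟨rfl, hp, h⟩
    exact h4 rfl (fun e' => hp (hp2.2 e')) (by rw [hF₀]; exact h)

end Cfsg.Agent.S2715
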