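import Cfsg.Statements.S2716
import Cfsg.Agent.Lib.AutPOmega.MinusClass
-- import your own Cfsg.Agent.* helpers here

set_option autoImplicit false
open Cfsg

namespace Cfsg.Agent.S2716

set_option maxHeartbeats 2000000

/-- Let T = PΩ⁻_{2m+2}(F) (m ≥ 3, |F| = p^f; the form Σ xᵢ yᵢ + z₁² + a z₁ z₂ + b z₂² with anisotropic binary part), G = Inndiag(T), and x a field automorphism of T of prime order r. Then r is odd and divides f; C_G(x) is isomorphic to Inndiag(PΩ⁻_{2m+2}(F₀)) for a field F₀ with p^(f/r) elements and some anisotropic binary part over F₀; and the G-class of x is a single T-class. -/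
theorem result {F : Type*} [Field F] [Fintype F] {p f : ℕ} [Fact p.Prime] (hF : Fintype.card F = p ^ f) (hf : 1 ≤ f) {m : ℕ} (hm : 3 ≤ m) (a b : F) (hab : (∀ z₁ z₂ : F, z₁ ^ 2 + a * z₁ * z₂ + b * z₂ ^ 2 = 0 → z₁ = 0 ∧ z₂ = 0)) (x : MulAut (Cfsg.POmega F (Cfsg.quadFormMinus m F a b))) (hx : Cfsg.IsFieldAutClassPOmegaMinus m x) {r : ℕ} (hr : r.Prime) (hxr : orderOf x = r) (F₀ : Type*) [Field F₀] [Fintype F₀] (hF₀ : Fintype.card F₀ = p ^ (f / r)) :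
    Odd r ∧ r ∣ f ∧ (∃ a₀ b₀ : F₀, (∀ z₁ z₂ : F₀, z₁ ^ 2 + a₀ * z₁ * z₂ + b₀ * z₂ ^ 2 = 0 → z₁ = 0 ∧ z₂ = 0) ∧ Nonempty (↥(Cfsg.inndiagPOmegaMinus m F a b ⊓ Subgroup.centralizer {x}) ≃* ↥(Cfsg.inndiagPOmegaMinus m F₀ a₀ b₀))) ∧ Cfsg.splitClassCount (Cfsg.inndiagPOmegaMinus m F a b) (Cfsg.Inn (Cfsg.POmega F (Cfsg.quadFormMinus m F a b))) x = 1 := by
  haveI : CharP F p := charP_of_card_eq_prime_pow hF
  obtain ⟨Q, hQ, S⟩ := AutPOmega.exists_minus_setting hm a b hab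
  obtain ⟨a₀, b₀, hab₀⟩ := Spinor.exists_aniso F₀
  obtain ⟨R, hR, S₀⟩ := AutPOmega.exists_minus_setting hm a₀ b₀ hab₀
  suffices H : ∀ fq, ⇑Q = fq → ∀ fq0, ⇑R = fq0 → ∀ x : MulAut (Cfsg.POmega F fq),
      (∃ (a' b' : F) (ψ : Cfsg.POmega F fq ≃* Cfsg.POmega F (Cfsg.quadFormMinus m F a' b')) (σ : F ≃+* F),
        (∀ z₁ z₂ : F, z₁ ^ 2 + a' * z₁ * z₂ + b' * z₂ ^ 2 = 0 → z₁ = 0 ∧ z₂ = 0) ∧
        σ ≠ RingEquiv.refl F ∧ σ a' = a' ∧ σ b' = b' ∧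
        Cfsg.IsFieldAutPOmegaOf (Cfsg.quadFormMinus m F a' b') σ ((ψ.symm.trans x).trans ψ)) →
      orderOf x = r →
      let G := Cfsg.autSubgroupOf fun β : MulAut (Cfsg.POmega F fq) =>
        ∃ g : GL ((Fin m ⊕ Fin m) ⊕ Fin 2) F, g ∈ Cfsg.Geo.quadSimilarityGroup (F := F) fq ∧
          Cfsg.PreservesSingularClassesMinus m a b (g : Matrix _ _ F) ∧
          Cfsg.IsInducedBySemilinearPOmega fq g (RingEquiv.refl F) β
      let G₀ := Cfsg.autSubgroupOf fun β : MulAut (Cfsg.POmega F₀ fq0) =>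
        ∃ g : GL ((Fin m ⊕ Fin m) ⊕ Fin 2) F₀, g ∈ Cfsg.Geo.quadSimilarityGroup (F := F₀) fq0 ∧
          Cfsg.PreservesSingularClassesMinus m a₀ b₀ (g : Matrix _ _ F₀) ∧
          Cfsg.IsInducedBySemilinearPOmega fq0 g (RingEquiv.refl F₀) β
      Odd r ∧ r ∣ f ∧ Nonempty (↥(G ⊓ Subgroup.centralizer {x}) ≃* ↥G₀) ∧
        Cfsg.splitClassCount G (Cfsg.Inn (Cfsg.POmega F fq)) x = 1 by
    obtain ⟨h1, h2, h3, h4⟩ := H _ hQ _ hR x hx hxr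
    exact ⟨h1, h2, ⟨a₀, b₀, hab₀, h3⟩, h4⟩
  intro fq hfq fq0 hfq0
  subst hfq hfq0
  intro x hx hxr G G₀
  obtain ⟨χ, hχ, hdk, hsc⟩ := AutPOmega.exists_chi hQ hab S hm
  obtain ⟨χ₀, hχ₀, hdk₀, hsc₀⟩ := AutPOmega.exists_chi hR hab₀ S₀ hm
  obtain ⟨hodd, T, rfl, hT, hTr⟩ := AutPOmega.exists_field_data hQ hab S hm hx hr hxr
  have hσ : orderOf (AutPOmega.sigT T) = r := hTr
  obtain ⟨hd, hK⟩ := AutPSL.card_fixedField hF (AutPOmega.sigT T) hσ hr.pos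
  haveI := Fintype.ofFinite ((AutPOmega.sigT T : F →+* F).eqLocusField (RingHom.id F))
  let e : F₀ ≃+* (AutPOmega.sigT T : F →+* F).eqLocusField (RingHom.id F) :=
    FiniteField.ringEquivOfCardEq (by rw [hF₀, ← Nat.card_eq_fintype_card, hK])
  let j : F₀ →+* F := ((AutPOmega.sigT T : F →+* F).eqLocusField (RingHom.id F)).subtype.comp e.toRingHom
  have hj : ∀ c, AutPOmega.sigT T c = c ↔ c ∈ j.range := by
    intro c
    constructor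
    · intro h
      exact ⟨e.symm ⟨c, h⟩, congrArg Subtype.val (e.apply_symm_apply _)⟩
    · rintro ⟨d, rfl⟩
      exact (e d).2
  obtain ⟨P⟩ := AutPOmega.exists_frame hQ hab S j hR hab₀ T hTr hr.pos hT hj
  have hcj := AutPOmega.chi_frameJ hQ hab S j hR hab₀ S₀ hj P hm hχ hdk hsc hχ₀ hdk₀ hsc₀
  have hG : G = χ.ker.map AutPOmega.simAut := AutPOmega.inndiag_minus_chi hQ hab S hχ
  have hG₀ : G₀ = χ₀.ker.map AutPOmega.simAut := AutPOmega.inndiag_minus_chi hR hab₀ S₀ hχ₀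
  rw [hG, hG₀]
  exact ⟨hodd, hd, AutPOmega.centralizer_equiv_minus hQ S j hR S₀ hj P hcj hsc (by rw [hσ]; exact hr.pos),
    AutPOmega.splitCount_minus hQ hab S j hR hab₀ S₀ hj P hcj hsc (by rw [hσ]; exact hr.pos) hdk
      (by rw [hσ]; exact hodd)⟩

end Cfsg.Agent.S2716
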