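import Cfsg.Statements.S2717
import Cfsg.Agent.Lib.AutPOmega.PlusGraphField
-- import your own Cfsg.Agent.* helpers here

set_option autoImplicit false
open Cfsg

namespace Cfsg.Agent.S2717

set_option maxHeartbeats 2000000

/-- Let T = PΩ⁺_{2m}(F) with m ≥ 5 (dimension 2m ≠ 8) and |F| = p^f, G = Inndiag(T), and x an involutory graph-field automorphism of T. Then f is even; any two involutory graph-field automorphisms of T are G-conjugate; C_G(x) is isomorphic to Inndiag(PΩ⁻_{2m}(F₀)) for a field F₀ with p^(f/2) elements (some anisotropic binary part over F₀); and the G-class of x is the union of exactly c T-classes with c = 1 if p = 2, c = 4 if p is odd, m is odd and p^(f/2) ≡ 1 (mod 4), and c = 2 otherwise. -/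
theorem result {F : Type*} [Field F] [Fintype F] {p f : ℕ} [Fact p.Prime] (hF : Fintype.card F = p ^ f) (hf : 1 ≤ f) {m : ℕ} (hm : 5 ≤ m) (x : MulAut (Cfsg.POmega F (Cfsg.quadFormPlus m F))) (hx : Cfsg.IsGraphFieldAutClassPOmegaPlus m x) (hx2 : orderOf x = 2) (F₀ : Type*) [Field F₀] [Fintype F₀] (hF₀ : Fintype.card F₀ = p ^ (f / 2)) :
    Even f ∧ (∀ y : MulAut (Cfsg.POmega F (Cfsg.quadFormPlus m F)), Cfsg.IsGraphFieldAutClassPOmegaPlus m y → orderOf y = 2 → Cfsg.IsConjUnder (Cfsg.inndiagPOmegaPlus m F) x y) ∧ (∃ a₀ b₀ : F₀, (∀ z₁ z₂ : F₀, z₁ ^ 2 + a₀ * z₁ * z₂ + b₀ * z₂ ^ 2 = 0 → z₁ = 0 ∧ z₂ = 0) ∧ Nonempty (↥(Cfsg.inndiagPOmegaPlus m F ⊓ Subgroup.centralizer {x}) ≃* ↥(Cfsg.inndiagPOmegaMinus (m - 1) F₀ a₀ b₀))) ∧ (p = 2 → Cfsg.splitClassCount (Cfsg.inndiagPOmegaPlus m F) (Cfsg.Inn (Cfsg.POmega F (Cfsg.quadFormPlus m F))) x = 1) ∧ ((p ≠ 2 ∧ Odd m ∧ p ^ (f / 2) % 4 = 1)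 → Cfsg.splitClassCount (Cfsg.inndiagPOmegaPlus m F) (Cfsg.Inn (Cfsg.POmega F (Cfsg.quadFormPlus m F))) x = 4) ∧ ((p ≠ 2 ∧ ¬ (Odd m ∧ p ^ (f / 2) % 4 = 1)) → Cfsg.splitClassCount (Cfsg.inndiagPOmegaPlus m F) (Cfsg.Inn (Cfsg.POmega F (Cfsg.quadFormPlus m F))) x = 2) := by
  haveI : CharP F p := charP_of_card_eq_prime_pow hF
  obtain ⟨n, rfl⟩ : ∃ n, m = n + 1 := ⟨m - 1, by omega⟩
  have S := AutPOmega.qset_plus (F := F) (m := n + 1) (by omega)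
  obtain ⟨π, hfld, hdk, hD⟩ := AutPOmega.exists_parity S
  obtain ⟨a₀, b₀, hab₀⟩ := Spinor.exists_aniso F₀
  obtain ⟨Rm, hRm, SRm⟩ := AutPOmega.exists_minus_setting (k := n) (by omega) a₀ b₀ hab₀
  let GP := fun (fq : (Fin (n + 1) ⊕ Fin (n + 1) → F) → F) (x : MulAut (Cfsg.POmega F fq)) =>
      ∃ (α γ φ : MulAut (Cfsg.POmega F fq)) (σ : F ≃+* F) (v : Fin (n + 1) ⊕ Fin (n + 1) → F)
        (rr : GL (Fin (n + 1) ⊕ Fin (n + 1)) F),
        σ ≠ RingEquiv.refl F ∧ fq v ≠ 0 ∧ (∀ i, σ (v i) = v i) ∧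
        (rr : Matrix (Fin (n + 1) ⊕ Fin (n + 1)) (Fin (n + 1) ⊕ Fin (n + 1)) F) = Cfsg.reflectionMatrix fq v ∧
        Cfsg.IsInducedBySemilinearPOmega fq rr (RingEquiv.refl F) γ ∧
        Cfsg.IsFieldAutPOmegaOf fq σ φ ∧ α * x * α⁻¹ = γ * φ
  suffices H : ∀ fq, ⇑(OrthOrder.qPlus (n + 1) F) = fq → ∀ fm, ⇑Rm = fm → ∀ x : MulAut (Cfsg.POmega F fq),
      GP fq x → orderOf x = 2 →
      let G := Cfsg.autSubgroupOf fun β : MulAut (Cfsg.POmega F fq) =>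
        ∃ g : GL (Fin (n + 1) ⊕ Fin (n + 1)) F, g ∈ Cfsg.Geo.quadSimilarityGroup (F := F) fq ∧
          Cfsg.PreservesSingularClasses fq (g : Matrix _ _ F) ∧
          Cfsg.IsInducedBySemilinearPOmega fq g (RingEquiv.refl F) β
      let G₀ := Cfsg.autSubgroupOf fun β : MulAut (Cfsg.POmega F₀ fm) =>
        ∃ g : GL ((Fin n ⊕ Fin n) ⊕ Fin 2) F₀, g ∈ Cfsg.Geo.quadSimilarityGroup (F := F₀) fm ∧
          Cfsg.PreservesSingularClassesMinus n a₀ b₀ (g : Matrix _ _ F₀) ∧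
          Cfsg.IsInducedBySemilinearPOmega fm g (RingEquiv.refl F₀) β
      Even f ∧ (∀ y, GP fq y → orderOf y = 2 → Cfsg.IsConjUnder G x y) ∧
        Nonempty (↥(G ⊓ Subgroup.centralizer {x}) ≃* ↥G₀) ∧
        (p = 2 → Cfsg.splitClassCount G (Cfsg.Inn (Cfsg.POmega F fq)) x = 1) ∧
        ((p ≠ 2 ∧ Odd (n + 1) ∧ p ^ (f / 2) % 4 = 1) → Cfsg.splitClassCount G (Cfsg.Inn (Cfsg.POmega F fq)) x = 4) ∧
        ((p ≠ 2 ∧ ¬ (Odd (n + 1) ∧ p ^ (f / 2) % 4 = 1)) →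
          Cfsg.splitClassCount G (Cfsg.Inn (Cfsg.POmega F fq)) x = 2) by
    obtain ⟨h1, h2, h3, h4, h5, h6⟩ := H _ AutPOmega.coe_qPlus _ hRm x hx hx2
    exact ⟨h1, h2, ⟨a₀, b₀, hab₀, h3⟩, h4, h5, h6⟩
  intro fq hfq fm hfm
  subst hfq hfm
  intro x hx hx2 G G₀
  obtain ⟨T, rfl, hT, hTr, -, hTg⟩ := AutPOmega.exists_fieldP_data S hfld hdk hD hm Nat.prime_two hx2 (Or.inr hx)
  have hπ : π T = -1 := (hTg hx).1
  set σ := AutPOmega.sigHom S T with hσdef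
  have hinv : ∀ τ : F ≃+* F, orderOf τ = 2 → (∀ a, τ (τ a) = a) ∧ τ ≠ RingEquiv.refl F := fun τ hτ =>
    ⟨fun a => by
      have h := pow_orderOf_eq_one τ
      rw [hτ, sq] at h
      exact DFunLike.congr_fun h a, fun e => by
      rw [e] at hτ
      exact absurd (orderOf_one.symm.trans hτ) (by decide)⟩
  obtain ⟨heven, hpow⟩ := AutPSL.involution_eq_pow hF σ (hinv σ hTr).1 (hinv σ hTr).2
  obtain ⟨hd, hK⟩ := AutPSL.card_fixedField hF σ hTr two_pos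
  haveI := Fintype.ofFinite ((σ : F →+* F).eqLocusField (RingHom.id F))
  let e : F₀ ≃+* (σ : F →+* F).eqLocusField (RingHom.id F) :=
    FiniteField.ringEquivOfCardEq (by rw [hF₀, ← Nat.card_eq_fintype_card, hK])
  let j : F₀ →+* F := ((σ : F →+* F).eqLocusField (RingHom.id F)).subtype.comp e.toRingHom
  have hj : ∀ c, σ c = c ↔ c ∈ j.range := by
    intro c
    constructor
    · intro h
      exact ⟨e.symm ⟨c, h⟩, congrArg Subtype.val (e.apply_symm_apply _)⟩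
    · rintro ⟨d, rfl⟩
      exact (e d).2
  have hq : Fintype.card F = Fintype.card F₀ ^ 2 := by rw [hF, hF₀, ← pow_mul, Nat.div_mul_cancel hd]
  obtain ⟨χm, hχm, hdkm, hscm⟩ := AutPOmega.exists_chi hRm hab₀ SRm (by omega)
  obtain ⟨hC, h1, h4, h2'⟩ := AutPOmega.graphField_data S j hj hfld hdk hD (by omega) hTr hq T rfl hT hπ hab₀ hRm SRm
    hχm hdkm hscm
  have hG : G = (π.comp AutPOmega.ofSim).ker.map AutPOmega.simAut := AutPOmega.inndiag_parity S hdk hD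
  have hG₀ : G₀ = χm.ker.map AutPOmega.simAut := AutPOmega.inndiag_minus_chi hRm hab₀ SRm hχm
  have hp2 : p = 2 ↔ (2 : F) = 0 := by
    constructor
    · intro h
      subst h
      exact CharTwo.two_eq_zero
    · intro h
      exact (Nat.prime_dvd_prime_iff_eq Fact.out Nat.prime_two).1
        ((CharP.cast_eq_zero_iff F p 2).1 (by exact_mod_cast h))
  rw [hG, hG₀]
  refine ⟨heven, fun y hy hy2 => ?_, hC, fun h => h1 (hp2.1 h),
    fun h => h4 (fun e' => h.1 (hp2.2 e')) (by rw [hF₀]; exact h.2),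
    fun h => h2' (fun e' => h.1 (hp2.2 e')) (by rw [hF₀]; exact h.2)⟩
  obtain ⟨U, rfl, hU, hUr, -, hUg⟩ := AutPOmega.exists_fieldP_data S hfld hdk hD hm Nat.prime_two hy2 (Or.inr hy)
  obtain ⟨-, hpow'⟩ := AutPSL.involution_eq_pow hF _ (hinv _ hUr).1 (hinv _ hUr).2
  obtain ⟨K, hK', he⟩ := AutPOmega.exists_conj_parity S hfld hdk hD (by omega) T U Nat.prime_two
    (RingEquiv.ext fun a => by rw [hpow', hpow]) hTr hT hU ((hUg hy).1.trans hπ.symm)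
  exact ⟨AutPOmega.simAut K, ⟨K, hK', rfl⟩, he⟩

end Cfsg.Agent.S2717
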