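import Cfsg.Statements.S2718
import Cfsg.Agent.Lib.AutPOmega.GraphSplitting
import Cfsg.Agent.Lib.AutPOmega.Plus

set_option autoImplicit false
open Cfsg

namespace Cfsg.Agent.S2718

/-- Let T = PΩ⁺_{2m}(F) with m ≥ 4 and |F| = q odd, G = Inndiag(T), and γ an involutory graph automorphism of T induced by a similarity (one interchanging the two classes of maximal totally singular subspaces). Then the G-class of γ is either a single T-class or the union of exactly two T-classes, and it is the union of two unless m is odd and q ≡ 3 (mod 4). -/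
theorem result {F : Type*} [Field F] [Fintype F] (hodd : Odd (Fintype.card F)) {m : ℕ} (hm : 4 ≤ m) (γ : MulAut (Cfsg.POmega F (Cfsg.quadFormPlus m F))) (hγ : Cfsg.IsSimilarityGraphAutPOmegaPlus m γ) (hγ2 : orderOf γ = 2) :
    (Cfsg.splitClassCount (Cfsg.inndiagPOmegaPlus m F) (Cfsg.Inn (Cfsg.POmega F (Cfsg.quadFormPlus m F))) γ = 1 ∨ Cfsg.splitClassCount (Cfsg.inndiagPOmegaPlus m F) (Cfsg.Inn (Cfsg.POmega F (Cfsg.quadFormPlus m F))) γ = 2) ∧ (¬ (Odd m ∧ Fintype.card F % 4 = 3) → Cfsg.splitClassCount (Cfsg.inndiagPOmegaPlus m F) (Cfsg.Inn (Cfsg.POmega F (Cfsg.quadFormPlus m F))) γ = 2) := by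
  have h2 : (2 : F) ≠ 0 := Ring.two_ne_zero fun h => by
    have := FiniteField.even_card_of_char_two h
    rw [Nat.odd_iff] at hodd
    omega
  have S := AutPOmega.qset_plus (F := F) hm
  obtain ⟨c, hc, D⟩ := AutPOmega.exists_plusData S hm h2
  have hk := AutPOmega.card_plus S
  have hd1 := AutPOmega.epsS_plusD S c
  have hq := Nat.odd_iff.1 hodd
  suffices H : ∀ f : (Fin m ⊕ Fin m → F) → F, ⇑(OrthOrder.qPlus m F) = f →
      ∀ γ : MulAut (Cfsg.POmega F f),
      (∃ g : GL (Fin m ⊕ Fin m) F, g ∈ Cfsg.Geo.quadSimilarityGroup (F := F) f ∧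
        ¬ Cfsg.PreservesSingularClasses f (g : Matrix (Fin m ⊕ Fin m) (Fin m ⊕ Fin m) F) ∧
        Cfsg.IsInducedBySemilinearPOmega f g (RingEquiv.refl F) γ) → orderOf γ = 2 →
      let X := Cfsg.autSubgroupOf fun β : MulAut (Cfsg.POmega F f) =>
        ∃ g : GL (Fin m ⊕ Fin m) F, g ∈ Cfsg.Geo.quadSimilarityGroup (F := F) f ∧
          Cfsg.PreservesSingularClasses f (g : Matrix (Fin m ⊕ Fin m) (Fin m ⊕ Fin m) F) ∧
          Cfsg.IsInducedBySemilinearPOmega f g (RingEquiv.refl F) β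
      (Cfsg.splitClassCount X (Cfsg.Inn (Cfsg.POmega F f)) γ = 1 ∨
        Cfsg.splitClassCount X (Cfsg.Inn (Cfsg.POmega F f)) γ = 2) ∧
      (¬ (Odd m ∧ Fintype.card F % 4 = 3) → Cfsg.splitClassCount X (Cfsg.Inn (Cfsg.POmega F f)) γ = 2)
    from H _ AutPOmega.coe_qPlus γ hγ hγ2
  intro f hf
  subst hf
  intro γ hγ hγ2 X
  rw [show X = _ from AutPOmega.inndiag_plus_map S h2]
  obtain ⟨g, hg, hnp, hind⟩ := hγ
  obtain rfl := ((AutPOmega.induced_sim_iff ⟨g, hg⟩ γ).1 hind).symm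
  have hε : AutPOmega.epsS S m ⟨g, hg⟩ ≠ 1 := fun e => hnp ((AutPOmega.preserves_iff S h2 ⟨g, hg⟩).2 e)
  have hinv : AutPOmega.simAut (⟨g, hg⟩ : Cfsg.Geo.quadSimilarityGroup (F := F) ⇑(OrthOrder.qPlus m F)) *
      AutPOmega.simAut ⟨g, hg⟩ = 1 := by rw [← sq, ← hγ2, pow_orderOf_eq_one]
  by_cases h : m % 2 = 1 ∧ Fintype.card F % 4 = 3
  · have hg2 : Nat.gcd 4 (Fintype.card F ^ m - 1) = 2 := by
      have := (AutPOmega.gcd_four_cases hq m).1 h
      rw [Nat.gcd_rec, show (Fintype.card F ^ m - 1) % 4 = 2 by omega]; rfl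
    exact ⟨AutPOmega.graph_count_le S hk h2 D hd1 hg2 _, fun h' => absurd ⟨Nat.odd_iff.2 h.1, h.2⟩ h'⟩
  · have hg4 : Nat.gcd 4 (Fintype.card F ^ m - 1) = 4 := by
      have := (AutPOmega.gcd_four_cases hq m).2 h
      rw [Nat.gcd_rec, show (Fintype.card F ^ m - 1) % 4 = 0 by omega, Nat.gcd_zero_left]
    have := AutPOmega.graph_count_four S hk h2 D hd1 hg4 _ hε hinv
    exact ⟨Or.inr this, fun _ => this⟩

end Cfsg.Agent.S2718
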