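import Cfsg.Statements.S2719
import Cfsg.Agent.Lib.AutPOmega.GraphSplitting
import Cfsg.Agent.Lib.AutPOmega.Plus
import Cfsg.Agent.Lib.AutPOmega.MinusClass

set_option autoImplicit false
open Cfsg

namespace Cfsg.Agent.S2719

open Cfsg.Agent.AutPOmega Cfsg.Agent.QMax in
open scoped Matrix in
/-- An involutory automorphism of a minus-type group has trivial field part. -/
theorem sig_eq_one {F : Type*} [Field F] [Fintype F] {m : ℕ} {a b : F}
    {Q : QuadraticForm F ((Fin m ⊕ Fin m) ⊕ Fin 2 → F)} (hQ : ⇑Q = Cfsg.quadFormMinus m F a b)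
    (hab : ∀ z₁ z₂ : F, z₁ ^ 2 + a * z₁ * z₂ + b * z₂ ^ 2 = 0 → z₁ = 0 ∧ z₂ = 0) (S : QSetting Q)
    (h2 : (2 : F) ≠ 0) (hm : 3 ≤ m) (T₀ : SemiT Q) (h : theta T₀ ^ 2 = 1) : sigHom S T₀ = 1 := by
  by_contra hne
  have hr : orderOf (sigHom S T₀) = 2 := orderOf_eq_prime (theta_pow_sig' S h) hne
  obtain ⟨T, -, hs, hT⟩ := exists_normalised S T₀ hr two_pos h
  rw [← hs] at hr hne
  set σ := sigT T
  have hσσ : ∀ x, σ (σ x) = x := fun x => by
    have h1 := pow_orderOf_eq_one (sigHom S T)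
    rw [hr, sq] at h1
    exact RingEquiv.congr_fun h1 x
  let F₀ := (σ : F →+* F).eqLocusField (RingHom.id F)
  haveI : Fintype F₀ := Fintype.ofFinite _
  let j : F₀ →+* F := F₀.subtype
  have hj : ∀ x, σ x = x ↔ x ∈ j.range := fun x => ⟨fun h => ⟨⟨x, h⟩, rfl⟩, by rintro ⟨y, rfl⟩; exact y.2⟩
  have h20 : (2 : F₀) ≠ 0 := fun e => h2 (by rw [← map_ofNat j 2, e, map_zero])
  obtain ⟨a₀, b₀, hab₀⟩ := Spinor.exists_aniso F₀
  obtain ⟨R, hR, S₀⟩ := exists_minus_setting hm a₀ b₀ hab₀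
  obtain ⟨P⟩ := exists_frame hQ hab S j hR hab₀ T hr two_pos hT hj
  -- a root of the binary form
  obtain ⟨θ, hθ⟩ : ∃ θ, σ θ ≠ θ := by
    by_contra hall
    push Not at hall
    exact hne (RingEquiv.ext hall)
  set η := θ - σ θ with hη
  have hη0 : η ≠ 0 := sub_ne_zero.2 (Ne.symm hθ)
  have hση : σ η = -η := by rw [hη, map_sub, hσσ]; ring
  obtain ⟨e, he⟩ := (hj (η * η)).1 (by rw [map_mul, hση, neg_mul_neg])
  have hens : ¬ IsSquare e := by
    rintro ⟨r, rfl⟩
    rw [map_mul] at he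
    have hfix : σ η = η := by
      rcases mul_self_eq_mul_self_iff.1 he with h | h
      · rw [← h]; exact (hj _).2 ⟨r, rfl⟩
      · rw [show η = -j r by rw [h, neg_neg], map_neg, (hj _).2 ⟨r, rfl⟩]
    rw [hση] at hfix
    exact mul_ne_zero h2 hη0 (by linear_combination -hfix)
  obtain ⟨s, hs'⟩ : IsSquare (j (a₀ * a₀ - 4 * b₀)) := by
    have hd0 : a₀ * a₀ - 4 * b₀ ≠ 0 := fun e => h20 (hab₀ (-a₀) 2 (by linear_combination -e)).2
    by_cases hd : IsSquare (a₀ * a₀ - 4 * b₀)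
    · exact hd.map j
    · have he0 : e ≠ 0 := fun e' => hens (e' ▸ IsSquare.zero)
      obtain ⟨r, hr⟩ : IsSquare ((a₀ * a₀ - 4 * b₀) * e) :=
        (Spinor.isSquare_mul_iff' hd0 he0).2 (iff_of_false hd hens)
      refine ⟨j r / η, ?_⟩
      have h1 := congrArg j hr
      rw [map_mul, he, map_mul] at h1
      rw [div_mul_div_comm, ← h1, mul_div_cancel_right₀ _ (mul_ne_zero hη0 hη0)]
  set z := (-j a₀ + s) / 2
  have hz : z * z + j a₀ * z + j b₀ = 0 := by
    simp only [map_sub, map_mul, map_ofNat] at hs'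
    simp only [z]
    field_simp
    linear_combination -hs'
  let HM : Matrix ((Fin m ⊕ Fin m) ⊕ Fin 2) ((Fin m ⊕ Fin m) ⊕ Fin 2) F := P.H.1
  let W : ((Fin m → F) × F) →ₗ[F] ((Fin m ⊕ Fin m) ⊕ Fin 2 → F) :=
    { toFun := fun p => HM *ᵥ Sum.elim (Sum.elim p.1 (0 : Fin m → F)) ![z * p.2, p.2]
      map_add' := fun p q => by
        rw [← Matrix.mulVec_add]; congr 1
        funext i
        rcases i with (i | i) | i
        · rfl
        · simp
        · fin_cases i <;> simp [mul_add]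
      map_smul' := fun t p => by
        rw [RingHom.id_apply, ← Matrix.mulVec_smul]; congr 1
        funext i
        rcases i with (i | i) | i
        · rfl
        · simp
        · fin_cases i <;> simp <;> ring }
  have hWi : Function.Injective W := fun p q h => by
    have h' := (glPerm P.H).injective h
    exact Prod.ext (funext fun i => congrFun h' (.inl (.inl i))) (congrFun h' (.inr 1))
  obtain ⟨QF, hQF, -⟩ := exists_minusForm (K := F) m (j a₀) (j b₀) (by
    rw [show 4 * j b₀ - j a₀ * j a₀ = j (-(a₀ * a₀ - 4 * b₀)) by simp [map_ofNat]]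
    refine (map_ne_zero j).2 (neg_ne_zero.2 fun e => h20 (hab₀ (-a₀) 2 (by linear_combination -e)).2))
  have hall : ∀ x, Q (HM *ᵥ x) = (P.bb : F) * QF x := fun x => by
    refine quad_ext_j j (A := Q.comp (Matrix.mulVecLin HM))
      (B := (P.bb : F) • QF) (fun u => ?_) x
    rw [QuadraticMap.comp_apply, Matrix.mulVecLin_apply, P.quad_eq, QuadraticMap.smul_apply, smul_eq_mul, hR, hQF]
    simp [Cfsg.quadFormMinus, map_sum]
  have hts := Spinor.minus_ts_finrank_le a b hab (LinearMap.range W) (fun v hv => by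
    obtain ⟨p, rfl⟩ := hv
    rw [← hQ]
    show Q (HM *ᵥ _) = 0
    rw [hall, hQF]
    simp [Cfsg.quadFormMinus]
    linear_combination (p.2 * p.2) * hz)
  rw [LinearMap.finrank_range_of_inj hWi] at hts
  simp at hts

set_option maxHeartbeats 1000000 in
/-- Let T = PΩ⁻_{2m+2}(F) with m ≥ 3 and |F| = q odd (form with anisotropic binary part z₁² + a z₁ z₂ + b z₂²), G = Inndiag(T), and γ an involutory graph automorphism of T (an automorphism in the image of the semisimilarity group, not inner-diagonal, of order 2). Then the G-class of γ is either a single T-class or the union of exactly two T-classes, and it is the union of two unless m is even and q ≡ 1 (mod 4). -/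
theorem result {F : Type*} [Field F] [Fintype F] (hodd : Odd (Fintype.card F)) {m : ℕ} (hm : 3 ≤ m) (a b : F) (hab : (∀ z₁ z₂ : F, z₁ ^ 2 + a * z₁ * z₂ + b * z₂ ^ 2 = 0 → z₁ = 0 ∧ z₂ = 0)) (γ : MulAut (Cfsg.POmega F (Cfsg.quadFormMinus m F a b))) (hγ : Cfsg.IsGraphAutClassPOmegaMinus m a b γ) (hγ2 : orderOf γ = 2) :
    (Cfsg.splitClassCount (Cfsg.inndiagPOmegaMinus m F a b) (Cfsg.Inn (Cfsg.POmega F (Cfsg.quadFormMinus m F a b))) γ = 1 ∨ Cfsg.splitClassCount (Cfsg.inndiagPOmegaMinus m F a b) (Cfsg.Inn (Cfsg.POmega F (Cfsg.quadFormMinus m F a b))) γ = 2) ∧ (¬ (Even m ∧ Fintype.card F % 4 = 1) → Cfsg.splitClassCount (Cfsg.inndiagPOmegaMinus m F a b) (Cfsg.Inn (Cfsg.POmega F (Cfsg.quadFormMinus m F a b))) γ = 2) := by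
  have h2 : (2 : F) ≠ 0 := Ring.two_ne_zero fun h => by
    have := FiniteField.even_card_of_char_two h
    rw [Nat.odd_iff] at hodd
    omega
  obtain ⟨Q, hQ, S⟩ := AutPOmega.exists_minus_setting hm a b hab
  obtain ⟨u₀, u₁, h0, hns0, D⟩ := AutPOmega.exists_minusData hQ hab S h2 hm
  have hk := AutPOmega.card_minus hQ
  have hd1 := AutPOmega.epsS_minusD hQ S h0
  have hq := Nat.odd_iff.1 hodd
  suffices H : ∀ f : ((Fin m ⊕ Fin m) ⊕ Fin 2 → F) → F, ⇑Q = f →
      let X := Cfsg.autSubgroupOf fun β : MulAut (Cfsg.POmega F f) =>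
        ∃ g : GL ((Fin m ⊕ Fin m) ⊕ Fin 2) F, g ∈ Cfsg.Geo.quadSimilarityGroup (F := F) f ∧
          Cfsg.PreservesSingularClassesMinus m a b (g : Matrix ((Fin m ⊕ Fin m) ⊕ Fin 2) ((Fin m ⊕ Fin m) ⊕ Fin 2) F) ∧
          Cfsg.IsInducedBySemilinearPOmega f g (RingEquiv.refl F) β
      ∀ γ : MulAut (Cfsg.POmega F f), γ ∉ X → orderOf γ = 2 →
      (Cfsg.splitClassCount X (Cfsg.Inn (Cfsg.POmega F f)) γ = 1 ∨
        Cfsg.splitClassCount X (Cfsg.Inn (Cfsg.POmega F f)) γ = 2) ∧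
      (¬ (Even m ∧ Fintype.card F % 4 = 1) → Cfsg.splitClassCount X (Cfsg.Inn (Cfsg.POmega F f)) γ = 2)
    from H _ hQ γ hγ.2.1 hγ2
  intro f hf
  subst hf
  intro X γ hnot hγ2
  rw [show X = _ from AutPOmega.inndiag_minus_map hQ S h2 hm hab] at hnot ⊢
  obtain ⟨T, rfl⟩ := AutPOmega.theta_surjective S (AutPOmega.h8_minus hQ hab S hm) γ
  obtain ⟨g, rfl⟩ := (AutPOmega.sig_eq_one_iff S).1
    (sig_eq_one hQ hab S h2 hm T ((congrArg (AutPOmega.theta T ^ ·) hγ2.symm).trans (pow_orderOf_eq_one _)))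
  rw [show AutPOmega.theta (AutPOmega.ofSim g) = AutPOmega.simAut g from rfl] at hnot hγ2 ⊢
  have hε : AutPOmega.epsS S (m + 1) g ≠ 1 := fun e => hnot ⟨g, e, rfl⟩
  have hinv : AutPOmega.simAut g * AutPOmega.simAut g = 1 :=
    (sq _).symm.trans ((congrArg (AutPOmega.simAut g ^ ·) hγ2.symm).trans (pow_orderOf_eq_one _))
  by_cases h : m % 2 = 0 ∧ Fintype.card F % 4 = 3
  · have hg4 : Nat.gcd 4 (Fintype.card F ^ (m + 1) + 1) = 4 := by
      have := (AutPOmega.gcd_four_cases hq (m + 1)).1 ⟨by omega, h.2⟩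
      rw [Nat.gcd_rec, show (Fintype.card F ^ (m + 1) + 1) % 4 = 0 by omega, Nat.gcd_zero_left]
    have := AutPOmega.graph_count_four S hk h2 D hd1 hg4 _ hε hinv
    exact ⟨Or.inr this, fun _ => this⟩
  · have hg2 : Nat.gcd 4 (Fintype.card F ^ (m + 1) + 1) = 2 := by
      have := (AutPOmega.gcd_four_cases hq (m + 1)).2 (fun h' => h ⟨by omega, h'.2⟩)
      rw [Nat.gcd_rec, show (Fintype.card F ^ (m + 1) + 1) % 4 = 2 by omega]; rfl
    refine ⟨AutPOmega.graph_count_le S hk h2 D hd1 hg2 _, fun h' => ?_⟩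
    refine AutPOmega.graph_count_even S hk h2 D hd1 hg2 _ hε hinv (Nat.even_iff.2 ?_)
    rcases Nat.mod_two_eq_zero_or_one m with e | e
    · exact absurd ⟨Nat.even_iff.2 e, by omega⟩ h'
    · omega

end Cfsg.Agent.S2719
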