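import Cfsg.Statements.S2720
import Cfsg.Agent.Lib.AutPOmega.SemisimpleClass
import Cfsg.Agent.Lib.AutPOmega.Plus

set_option autoImplicit false
open Cfsg

namespace Cfsg.Agent.S2720

/-- Let T = PΩ⁺_{2m}(F) (m ≥ 4, F finite of odd characteristic p), G = Inndiag(T), and let x be an automorphism of T induced by a similarity of the form (an element of the image G̃ of the conformal orthogonal group) of odd prime order r ≠ p. Then the T-class, the PSO-class and the G-class of x coincide (conjugacy under inner automorphisms, under the image of the special orthogonal group, and under G), and the PO-class of x coincides with its G̃-class. (In characteristic 2 the first equality fails: there the special orthogonal group is the full orthogonal group and some such classes split.) -/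
theorem result {F : Type*} [Field F] [Fintype F] {p : ℕ} [Fact p.Prime] [CharP F p] (hp : p ≠ 2) {m : ℕ} (hm : 4 ≤ m) (x : MulAut (Cfsg.POmega F (Cfsg.quadFormPlus m F))) (hx : x ∈ Cfsg.pgoAut F (Cfsg.quadFormPlus m F)) {r : ℕ} (hr : r.Prime) (hro : Odd r) (hrp : r ≠ p) (hxr : orderOf x = r) :
    (∀ y : MulAut (Cfsg.POmega F (Cfsg.quadFormPlus m F)), (Cfsg.IsConjUnder (Cfsg.Inn (Cfsg.POmega F (Cfsg.quadFormPlus m F))) x y ↔ Cfsg.IsConjUnder (Cfsg.inndiagPOmegaPlus m F) x y) ∧ (Cfsg.IsConjUnder (Cfsg.psoAut F (Cfsg.quadFormPlus m F)) x y ↔ Cfsg.IsConjUnder (Cfsg.inndiagPOmegaPlus m F) x y)) ∧ (∀ y : MulAut (Cfsg.POmega F (Cfsg.quadFormPlus m F)), Cfsg.IsConjUnder (Cfsg.poAut F (Cfsg.quadFormPlus m F)) x y ↔ Cfsg.IsConjUnder (Cfsg.pgoAut F (Cfsg.quadFormPlus m F)) x y) := by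
  have h2 : (2 : F) ≠ 0 := Ring.two_ne_zero (ringChar.eq F p ▸ hp)
  have S := Cfsg.Agent.AutPOmega.qset_plus (F := F) hm
  have hQ := Cfsg.Agent.AutPOmega.coe_qPlus (F := F) (m := m)
  suffices H : ∀ f : (Fin m ⊕ Fin m → F) → F, ⇑(Cfsg.Agent.OrthOrder.qPlus m F) = f →
      let X := Cfsg.autSubgroupOf fun β : MulAut (Cfsg.POmega F f) =>
        ∃ g : GL (Fin m ⊕ Fin m) F, g ∈ Cfsg.Geo.quadSimilarityGroup (F := F) f ∧
          Cfsg.PreservesSingularClasses f (g : Matrix (Fin m ⊕ Fin m) (Fin m ⊕ Fin m) F) ∧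
          Cfsg.IsInducedBySemilinearPOmega f g (RingEquiv.refl F) β
      ∀ x : MulAut (Cfsg.POmega F f), x ∈ Cfsg.pgoAut F f → orderOf x = r →
      (∀ y, (Cfsg.IsConjUnder (Cfsg.Inn (Cfsg.POmega F f)) x y ↔ Cfsg.IsConjUnder X x y) ∧
        (Cfsg.IsConjUnder (Cfsg.psoAut F f) x y ↔ Cfsg.IsConjUnder X x y)) ∧
      ∀ y, Cfsg.IsConjUnder (Cfsg.poAut F f) x y ↔ Cfsg.IsConjUnder (Cfsg.pgoAut F f) x y
    from H _ hQ x hx hxr
  intro f hf
  subst hf
  intro X x hx hxr
  exact Cfsg.Agent.AutPOmega.class_coincide S h2 (Cfsg.Agent.AutPOmega.card_plus S)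
    (Cfsg.Agent.AutPOmega.inndiag_plus_map S h2) hx hr hro hrp hxr

end Cfsg.Agent.S2720
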