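import Cfsg.Statements.S2723
import Cfsg.Agent.Lib.AutPOmega.Plus
-- import your own Cfsg.Agent.* helpers here

set_option autoImplicit false
open Cfsg

namespace Cfsg.Agent.S2723

/-- Let T = PΩ⁺_{2m}(F) with m ≥ 4 and |F| = q odd. The image of the special orthogonal group in Aut(T) contains the inner automorphism group T with index 1 (they coincide) when m is odd and q ≡ 3 (mod 4), and with index 2 otherwise (the index is 2 exactly when the discriminant of the form is a square). -/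
theorem result {F : Type*} [Field F] [Fintype F] (hodd : Odd (Fintype.card F)) {m : ℕ} (hm : 4 ≤ m) :
    ((Odd m ∧ Fintype.card F % 4 = 3) → (Cfsg.Inn (Cfsg.POmega F (Cfsg.quadFormPlus m F))).relIndex (Cfsg.psoAut F (Cfsg.quadFormPlus m F)) = 1) ∧ (¬ (Odd m ∧ Fintype.card F % 4 = 3) → (Cfsg.Inn (Cfsg.POmega F (Cfsg.quadFormPlus m F))).relIndex (Cfsg.psoAut F (Cfsg.quadFormPlus m F)) = 2) := by
  have h2 : (2 : F) ≠ 0 := Ring.two_ne_zero fun h => by
    have := FiniteField.even_card_of_char_two h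
    rw [Nat.odd_iff] at hodd
    omega
  have S := AutPOmega.qset_plus (F := F) hm
  have hk := AutPOmega.card_plus S
  obtain ⟨c, hc, D⟩ := AutPOmega.exists_plusData S hm h2
  have hcast := AutPOmega.coe_qPlus (F := F) (m := m)
  have hq := Nat.odd_iff.1 hodd
  have hpos : 1 ≤ Fintype.card F ^ m := Nat.one_le_pow _ _ Fintype.card_pos
  have hg2 : (Odd m ∧ Fintype.card F % 4 = 3) → Nat.gcd 4 (Fintype.card F ^ m - 1) = 2 := fun h => by
    have := (AutPOmega.gcd_four_cases hq m).1 ⟨Nat.odd_iff.1 h.1, h.2⟩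
    rw [Nat.gcd_rec, show (Fintype.card F ^ m - 1) % 4 = 2 by omega]; rfl
  have hg4 : ¬ (Odd m ∧ Fintype.card F % 4 = 3) → Nat.gcd 4 (Fintype.card F ^ m - 1) = 4 := fun h => by
    have := (AutPOmega.gcd_four_cases hq m).2 (by rwa [← Nat.odd_iff])
    rw [Nat.gcd_rec, show (Fintype.card F ^ m - 1) % 4 = 0 by omega, Nat.gcd_zero_left]
  rw [← hcast]
  exact ⟨fun h => (AutPOmega.relIndex_pso S hk h2 D).1 (hg2 h),
    fun h => (AutPOmega.relIndex_pso S hk h2 D).2 (hg4 h)⟩

end Cfsg.Agent.S2723
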