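import Cfsg.Statements.S2725
import Cfsg.Agent.Lib.AutPOmega.Plus
-- import your own Cfsg.Agent.* helpers here

set_option autoImplicit false
open Cfsg

namespace Cfsg.Agent.S2725

set_option maxHeartbeats 2000000

/-- Let T = PΩ⁺_{2m}(F) with m ≥ 4 and |F| = q odd. The inner-diagonal group G = Inndiag(T) (image of the class-preserving similarities) taken modulo the inner automorphism group T is cyclic of order 2 when m is odd and q ≡ 3 (mod 4), cyclic of order 4 when m is odd and q ≡ 1 (mod 4), and elementary abelian of order 4 when m is even. -/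
theorem result {F : Type*} [Field F] [Fintype F] (hodd : Odd (Fintype.card F)) {m : ℕ} (hm : 4 ≤ m) :
    ((Odd m ∧ Fintype.card F % 4 = 3) → (∃ φ : ↥(Cfsg.inndiagPOmegaPlus m F) →* Multiplicative (ZMod 2), Function.Surjective φ ∧ φ.ker = (Cfsg.Inn (Cfsg.POmega F (Cfsg.quadFormPlus m F))).subgroupOf (Cfsg.inndiagPOmegaPlus m F))) ∧ ((Odd m ∧ Fintype.card F % 4 = 1) → (∃ φ : ↥(Cfsg.inndiagPOmegaPlus m F) →* Multiplicative (ZMod 4), Function.Surjective φ ∧ φ.ker = (Cfsg.Inn (Cfsg.POmega F (Cfsg.quadFormPlus m F))).subgroupOf (Cfsg.inndiagPOmegaPlus m F))) ∧ (Even m → (∃ φ : ↥(Cfsg.inndiagPOmegaPlus m F) →* Multiplicative (ZMod 2 × ZMod 2), Function.Surjective φ ∧ φ.ker = (Cfsg.Inn (Cfsg.POmega F (Cfsg.quadFormPlus m F))).subgroupOf (Cfsg.inndiagPOmegaPlus m F))) := by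
  have h2 : (2 : F) ≠ 0 := Ring.two_ne_zero fun h => by
    have := FiniteField.even_card_of_char_two h
    rw [Nat.odd_iff] at hodd
    omega
  have S := AutPOmega.qset_plus (F := F) hm
  have hk := AutPOmega.card_plus S
  obtain ⟨c, hc, D⟩ := AutPOmega.exists_plusData S hm h2
  have hcast := AutPOmega.coe_qPlus (F := F) (m := m)
  have hq := Nat.odd_iff.1 hodd
  have hpos : 1 ≤ Fintype.card F ^ m := Nat.one_le_pow _ _ Fintype.card_pos
  have hg2 : (Odd m ∧ Fintype.card F % 4 = 3) → Nat.gcd 4 (Fintype.card F ^ m - 1) = 2 := fun h => by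
    have := (AutPOmega.gcd_four_cases hq m).1 ⟨Nat.odd_iff.1 h.1, h.2⟩
    rw [Nat.gcd_rec, show (Fintype.card F ^ m - 1) % 4 = 2 by omega]; rfl
  have hg4 : ¬ (Odd m ∧ Fintype.card F % 4 = 3) → Nat.gcd 4 (Fintype.card F ^ m - 1) = 4 := fun h => by
    have := (AutPOmega.gcd_four_cases hq m).2 (by rwa [← Nat.odd_iff])
    rw [Nat.gcd_rec, show (Fintype.card F ^ m - 1) % 4 = 0 by omega, Nat.gcd_zero_left]
  obtain ⟨v, hv, hw, hsq, hns⟩ := AutPOmega.exists_vec S hk h2 D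
  have hd1 := AutPOmega.epsS_plusD S c
  obtain ⟨hA, hB, hC⟩ := AutPOmega.proper_groups S hk h2 D hd1 hv hw hsq hns
  have hsqd := AutPOmega.plusD_sq S hc h2 D hv hw hsq hns
  have hzz : AutPOmega.outI (OrthRows.rf (OrthOrder.qPlus m F) v hv) *
      AutPOmega.outI (OrthRows.rf (OrthOrder.qPlus m F) _ hw) *
      (AutPOmega.outI (OrthRows.rf (OrthOrder.qPlus m F) v hv) *
        AutPOmega.outI (OrthRows.rf (OrthOrder.qPlus m F) _ hw)) = 1 := by
    rw [(AutPOmega.outI_commute _ _).mul_mul_mul_comm, AutPOmega.outI_rf_sq S, AutPOmega.outI_rf_sq S, one_mul]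
  suffices H : ∀ f : (Fin m ⊕ Fin m → F) → F, ⇑(OrthOrder.qPlus m F) = f →
      let X := Cfsg.autSubgroupOf fun β : MulAut (Cfsg.POmega F f) =>
        ∃ g : GL (Fin m ⊕ Fin m) F, g ∈ Cfsg.Geo.quadSimilarityGroup (F := F) f ∧
          Cfsg.PreservesSingularClasses f (g : Matrix (Fin m ⊕ Fin m) (Fin m ⊕ Fin m) F) ∧
          Cfsg.IsInducedBySemilinearPOmega f g (RingEquiv.refl F) β
      ((Odd m ∧ Fintype.card F % 4 = 3) → (∃ φ : ↥X →* Multiplicative (ZMod 2), Function.Surjective φ ∧ φ.ker = (Cfsg.Inn (Cfsg.POmega F f)).subgroupOf X)) ∧ ((Odd m ∧ Fintype.card F % 4 = 1) → (∃ φ : ↥X →* Multiplicative (ZMod 4), Function.Surjective φ ∧ φ.ker = (Cfsg.Inn (Cfsg.POmega F f)).subgroupOf X)) ∧ (Even m → (∃ φ : ↥X →* Multiplicative (ZMod 2 × ZMod 2), Function.Surjective φ ∧ φ.ker = (Cfsg.Inn (Cfsg.POmega F f)).subgroupOf X)) from H _ hcast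
  intro f hf
  subst hf
  intro X
  have hX : X.map (QuotientGroup.mk' _) = (AutPOmega.epsS S m).ker.map (AutPOmega.outS (Q := OrthOrder.qPlus m F)) := by
    rw [show X = _ from AutPOmega.inndiag_plus_map S h2, Subgroup.map_map]
    rfl
  have hodd' : ∀ n : ℕ, n % 2 = 1 → ∀ z : Cfsg.Out (Cfsg.POmega F ⇑(OrthOrder.qPlus m F)), z * z = 1 → z ^ n = z := by
    intro n hn z hz
    rw [show n = 2 * (n / 2) + 1 by omega, pow_succ, pow_mul, sq, hz, one_pow, one_mul]
  have heven : ∀ n : ℕ, n % 2 = 0 → ∀ z : Cfsg.Out (Cfsg.POmega F ⇑(OrthOrder.qPlus m F)), z * z = 1 → z ^ n = 1 := by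
    intro n hn z hz
    rw [show n = 2 * (n / 2) by omega, pow_mul, sq, hz, one_pow]
  refine ⟨fun h => ?_, fun h => ?_, fun h => ?_⟩
  · obtain ⟨e⟩ := hA (hg2 h)
    exact AutPOmega.exists_hom_ker ((MulEquiv.subgroupCongr hX).trans e)
  · obtain ⟨e⟩ := hB (hg4 fun h' => by omega) (hsqd.trans (hodd' m (Nat.odd_iff.1 h.1) _ hzz))
    exact AutPOmega.exists_hom_ker ((MulEquiv.subgroupCongr hX).trans e)
  · have hev := Nat.even_iff.1 h
    obtain ⟨e⟩ := hC (hg4 fun h' => by have := Nat.odd_iff.1 h'.1; omega) (hsqd.trans (heven m hev _ hzz))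
    exact AutPOmega.exists_hom_ker ((MulEquiv.subgroupCongr hX).trans e)

end Cfsg.Agent.S2725
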