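import Cfsg.Statements.S2726
import Cfsg.Agent.Lib.AutPOmega.Minus
import Cfsg.Agent.Lib.AutPOmega.Plus
-- import your own Cfsg.Agent.* helpers here

set_option autoImplicit false
open Cfsg

namespace Cfsg.Agent.S2726

set_option maxHeartbeats 2000000

/-- Let T = PΩ⁻_{2m+2}(F) with m ≥ 3 and |F| = q odd (form with anisotropic binary part). Inside Aut(T), the image G̃ of the conformal orthogonal group of the form modulo the image of the special orthogonal group is elementary abelian of order 4. -/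
theorem result {F : Type*} [Field F] [Fintype F] (hodd : Odd (Fintype.card F)) {m : ℕ} (hm : 3 ≤ m) (a b : F) (hab : (∀ z₁ z₂ : F, z₁ ^ 2 + a * z₁ * z₂ + b * z₂ ^ 2 = 0 → z₁ = 0 ∧ z₂ = 0)) :
    (∃ φ : ↥(Cfsg.pgoAut F (Cfsg.quadFormMinus m F a b)) →* Multiplicative (ZMod 2 × ZMod 2), Function.Surjective φ ∧ φ.ker = (Cfsg.psoAut F (Cfsg.quadFormMinus m F a b)).subgroupOf (Cfsg.pgoAut F (Cfsg.quadFormMinus m F a b))) := by
  have h2 : (2 : F) ≠ 0 := Ring.two_ne_zero fun h => by
    have := FiniteField.even_card_of_char_two h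
    rw [Nat.odd_iff] at hodd
    omega
  obtain ⟨Q, hQ, hnd⟩ := AutPOmega.exists_minusForm m a b
    (fun h => h2 (hab (-a) 2 (by linear_combination h)).2)
  have S : Cfsg.Agent.QMax.QSetting Q := ⟨hnd, by simp [Fintype.card_sum]; omega⟩
  obtain ⟨u₀, u₁, h0, hns0, D⟩ := AutPOmega.exists_minusData hQ hab S h2 hm
  have hk := AutPOmega.card_minus hQ
  rw [← hQ]
  exact AutPOmega.pgo_mod_pso S hk h2 D

end Cfsg.Agent.S2726
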