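import Cfsg.Statements.S2728
import Cfsg.Agent.Lib.AutPOmega.Minus
import Cfsg.Agent.Lib.AutPOmega.Plus
-- import your own Cfsg.Agent.* helpers here

set_option autoImplicit false
open Cfsg

namespace Cfsg.Agent.S2728

set_option maxHeartbeats 2000000

/-- Let T = PΩ⁻_{2m+2}(F) with m ≥ 3 and |F| = q odd (form with anisotropic binary part). The image G̃ of the conformal orthogonal group in Aut(T), taken modulo the inner automorphism group T, is dihedral of order 8 when m is even and q ≡ 3 (mod 4), and elementary abelian of order 4 otherwise. -/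
theorem result {F : Type*} [Field F] [Fintype F] (hodd : Odd (Fintype.card F)) {m : ℕ} (hm : 3 ≤ m) (a b : F) (hab : (∀ z₁ z₂ : F, z₁ ^ 2 + a * z₁ * z₂ + b * z₂ ^ 2 = 0 → z₁ = 0 ∧ z₂ = 0)) :
    ((Even m ∧ Fintype.card F % 4 = 3) → (∃ φ : ↥(Cfsg.pgoAut F (Cfsg.quadFormMinus m F a b)) →* DihedralGroup 4, Function.Surjective φ ∧ φ.ker = (Cfsg.Inn (Cfsg.POmega F (Cfsg.quadFormMinus m F a b))).subgroupOf (Cfsg.pgoAut F (Cfsg.quadFormMinus m F a b)))) ∧ (¬ (Even m ∧ Fintype.card F % 4 = 3) → (∃ φ : ↥(Cfsg.pgoAut F (Cfsg.quadFormMinus m F a b)) →* Multiplicative (ZMod 2 × ZMod 2), Function.Surjective φ ∧ φ.ker = (Cfsg.Inn (Cfsg.POmega F (Cfsg.quadFormMinus m F a b))).subgroupOf (Cfsg.pgoAut F (Cfsg.quadFormMinus m F a b)))) := by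
  have h2 : (2 : F) ≠ 0 := Ring.two_ne_zero fun h => by
    have := FiniteField.even_card_of_char_two h
    rw [Nat.odd_iff] at hodd
    omega
  obtain ⟨Q, hQ, hnd⟩ := AutPOmega.exists_minusForm m a b
    (fun h => h2 (hab (-a) 2 (by linear_combination h)).2)
  have S : Cfsg.Agent.QMax.QSetting Q := ⟨hnd, by simp [Fintype.card_sum]; omega⟩
  obtain ⟨u₀, u₁, h0, hns0, D⟩ := AutPOmega.exists_minusData hQ hab S h2 hm
  have hk := AutPOmega.card_minus hQ
  have hq := Nat.odd_iff.1 hodd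
  have hg4 : (Even m ∧ Fintype.card F % 4 = 3) → Nat.gcd 4 (Fintype.card F ^ (m + 1) + 1) = 4 := fun h => by
    have := (AutPOmega.gcd_four_cases hq (m + 1)).1 ⟨by have := Nat.even_iff.1 h.1; omega, h.2⟩
    rw [Nat.gcd_rec, show (Fintype.card F ^ (m + 1) + 1) % 4 = 0 by omega, Nat.gcd_zero_left]
  have hg2 : ¬ (Even m ∧ Fintype.card F % 4 = 3) → Nat.gcd 4 (Fintype.card F ^ (m + 1) + 1) = 2 := fun h => by
    have := (AutPOmega.gcd_four_cases hq (m + 1)).2 (fun h' => h ⟨Nat.even_iff.2 (by omega), h'.2⟩)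
    rw [Nat.gcd_rec, show (Fintype.card F ^ (m + 1) + 1) % 4 = 2 by omega]; rfl
  rw [← hQ]
  constructor
  · intro h
    obtain ⟨e⟩ := AutPOmega.outS_range_four S hk h2 D (hg4 h)
    exact AutPOmega.exists_hom_ker ((MulEquiv.subgroupCongr AutPOmega.map_pgo).trans e)
  · intro h
    obtain ⟨e⟩ := AutPOmega.outS_range_two S hk h2 D (hg2 h)
    exact AutPOmega.exists_hom_ker ((MulEquiv.subgroupCongr AutPOmega.map_pgo).trans e)

end Cfsg.Agent.S2728
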