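import Cfsg.Statements.S2729
import Cfsg.Agent.Lib.AutPOmega.Minus
import Cfsg.Agent.Lib.AutPOmega.Plus
-- import your own Cfsg.Agent.* helpers here

set_option autoImplicit false
open Cfsg

namespace Cfsg.Agent.S2729

set_option maxHeartbeats 2000000

/-- Let T = PΩ⁻_{2m+2}(F) with m ≥ 3 and |F| = q odd (form with anisotropic binary part). The inner-diagonal group G = Inndiag(T) (image of the class-preserving similarities) taken modulo the inner automorphism group T is cyclic of order 4 when m is even and q ≡ 3 (mod 4), and of order 2 otherwise. -/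
theorem result {F : Type*} [Field F] [Fintype F] (hodd : Odd (Fintype.card F)) {m : ℕ} (hm : 3 ≤ m) (a b : F) (hab : (∀ z₁ z₂ : F, z₁ ^ 2 + a * z₁ * z₂ + b * z₂ ^ 2 = 0 → z₁ = 0 ∧ z₂ = 0)) :
    ((Even m ∧ Fintype.card F % 4 = 3) → (∃ φ : ↥(Cfsg.inndiagPOmegaMinus m F a b) →* Multiplicative (ZMod 4), Function.Surjective φ ∧ φ.ker = (Cfsg.Inn (Cfsg.POmega F (Cfsg.quadFormMinus m F a b))).subgroupOf (Cfsg.inndiagPOmegaMinus m F a b))) ∧ (¬ (Even m ∧ Fintype.card F % 4 = 3) → (∃ φ : ↥(Cfsg.inndiagPOmegaMinus m F a b) →* Multiplicative (ZMod 2), Function.Surjective φ ∧ φ.ker = (Cfsg.Inn (Cfsg.POmega F (Cfsg.quadFormMinus m F a b))).subgroupOf (Cfsg.inndiagPOmegaMinus m F a b))) := by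
  have h2 : (2 : F) ≠ 0 := Ring.two_ne_zero fun h => by
    have := FiniteField.even_card_of_char_two h
    rw [Nat.odd_iff] at hodd
    omega
  obtain ⟨Q, hQ, hnd⟩ := AutPOmega.exists_minusForm m a b
    (fun h => h2 (hab (-a) 2 (by linear_combination h)).2)
  have S : Cfsg.Agent.QMax.QSetting Q := ⟨hnd, by simp [Fintype.card_sum]; omega⟩
  obtain ⟨u₀, u₁, h0, hns0, D⟩ := AutPOmega.exists_minusData hQ hab S h2 hm
  have hk := AutPOmega.card_minus hQ
  have hq := Nat.odd_iff.1 hodd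
  have hg4 : (Even m ∧ Fintype.card F % 4 = 3) → Nat.gcd 4 (Fintype.card F ^ (m + 1) + 1) = 4 := fun h => by
    have := (AutPOmega.gcd_four_cases hq (m + 1)).1 ⟨by have := Nat.even_iff.1 h.1; omega, h.2⟩
    rw [Nat.gcd_rec, show (Fintype.card F ^ (m + 1) + 1) % 4 = 0 by omega, Nat.gcd_zero_left]
  have hg2 : ¬ (Even m ∧ Fintype.card F % 4 = 3) → Nat.gcd 4 (Fintype.card F ^ (m + 1) + 1) = 2 := fun h => by
    have := (AutPOmega.gcd_four_cases hq (m + 1)).2 (fun h' => h ⟨Nat.even_iff.2 (by omega), h'.2⟩)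
    rw [Nat.gcd_rec, show (Fintype.card F ^ (m + 1) + 1) % 4 = 2 by omega]; rfl
  obtain ⟨v, hv, hw, hsq, hns⟩ := AutPOmega.exists_vec S hk h2 D
  obtain ⟨hA, hB, hC⟩ := AutPOmega.proper_groups S hk h2 D (AutPOmega.epsS_minusD hQ S h0) hv hw hsq hns
  have hsqd := AutPOmega.minusD_sq hQ hab S h0 hns0 h2 D hv hw hsq hns
  have hzz : AutPOmega.outI (OrthRows.rf Q v hv) * AutPOmega.outI (OrthRows.rf Q _ hw) *
      (AutPOmega.outI (OrthRows.rf Q v hv) * AutPOmega.outI (OrthRows.rf Q _ hw)) = 1 := by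
    rw [(AutPOmega.outI_commute _ _).mul_mul_mul_comm, AutPOmega.outI_rf_sq S, AutPOmega.outI_rf_sq S, one_mul]
  suffices H : ∀ f : ((Fin m ⊕ Fin m) ⊕ Fin 2 → F) → F, ⇑Q = f →
      let X := Cfsg.autSubgroupOf fun β : MulAut (Cfsg.POmega F f) =>
        ∃ g : GL ((Fin m ⊕ Fin m) ⊕ Fin 2) F, g ∈ Cfsg.Geo.quadSimilarityGroup (F := F) f ∧
          Cfsg.PreservesSingularClassesMinus m a b (g : Matrix ((Fin m ⊕ Fin m) ⊕ Fin 2) ((Fin m ⊕ Fin m) ⊕ Fin 2) F) ∧
          Cfsg.IsInducedBySemilinearPOmega f g (RingEquiv.refl F) β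
      ((Even m ∧ Fintype.card F % 4 = 3) → (∃ φ : ↥X →* Multiplicative (ZMod 4), Function.Surjective φ ∧ φ.ker = (Cfsg.Inn (Cfsg.POmega F f)).subgroupOf X)) ∧ (¬ (Even m ∧ Fintype.card F % 4 = 3) → (∃ φ : ↥X →* Multiplicative (ZMod 2), Function.Surjective φ ∧ φ.ker = (Cfsg.Inn (Cfsg.POmega F f)).subgroupOf X)) from H _ hQ
  intro f hf
  subst hf
  intro X
  have hX : X.map (QuotientGroup.mk' _) = (AutPOmega.epsS S (m + 1)).ker.map (AutPOmega.outS (Q := Q)) := by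
    rw [show X = _ from AutPOmega.inndiag_minus_map hQ S h2 hm hab, Subgroup.map_map]
    rfl
  refine ⟨fun h => ?_, fun h => ?_⟩
  · have hev := Nat.even_iff.1 h.1
    obtain ⟨e⟩ := hB (hg4 h) (hsqd.trans (by
      rw [show m + 1 = 2 * (m / 2) + 1 by omega, pow_succ, pow_mul, sq, hzz, one_pow, one_mul]))
    exact AutPOmega.exists_hom_ker ((MulEquiv.subgroupCongr hX).trans e)
  · obtain ⟨e⟩ := hA (hg2 h)
    exact AutPOmega.exists_hom_ker ((MulEquiv.subgroupCongr hX).trans e)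

end Cfsg.Agent.S2729
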