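import Cfsg.Statements.S2731
import Cfsg.Agent.Lib.AutPOmega.OddCore
import Cfsg.Agent.S2730
-- import your own Cfsg.Agent.* helpers here

set_option autoImplicit false
open Cfsg

namespace Cfsg.Agent.S2731

set_option maxHeartbeats 4000000

/-- A criterion for the failure of local balance in almost simple groups whose socle is an odd-dimensional orthogonal group Ω_{2m+1}(F) (m ≥ 3, |F| odd; the form x₀² + Σ xᵢ yᵢ). Let F be a finite field of characteristic r and K the (simple) group in question; let A be a group of automorphisms of K containing all inner automorphisms, and x ∈ A an automorphism of prime order p ≠ r that is not inner-diagonal (not induced by a similarity of the form). Then the largest normal subgroup of C_A(x) of order prime to p is nontrivial if and only if x is a field automorphism of K (conjugate under Aut(K) to a non-identity standard field automorphism) and p does not divide the number of fixed points of x on K. -/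
theorem result {F : Type*} [Field F] [Fintype F] {r : ℕ} [Fact r.Prime] [CharP F r] (hodd : Odd (Fintype.card F)) {m : ℕ} (hm : 3 ≤ m) (hK : IsSimpleGroup (Cfsg.POmega F (Cfsg.quadFormOdd m F))) (A : Subgroup (MulAut (Cfsg.POmega F (Cfsg.quadFormOdd m F)))) (hinn : ∀ k : Cfsg.POmega F (Cfsg.quadFormOdd m F), MulAut.conj k ∈ A) {p : ℕ} [Fact p.Prime] (hpr : p ≠ r) (x : MulAut (Cfsg.POmega F (Cfsg.quadFormOdd m F))) (hxA : x ∈ A) (hord : orderOf x = p) (hnot : ¬ Cfsg.IsInnerDiagonalAutPOmegaOdd m x) :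
    Cfsg.pPrimeCore p ↥(A ⊓ Subgroup.centralizer {x}) ≠ ⊥ ↔ (Cfsg.IsFieldAutClassPOmega (Cfsg.quadFormOdd m F) x ∧ Nat.Coprime p (Nat.card ↥(MonoidHom.eqLocus x.toMonoidHom (MonoidHom.id (Cfsg.POmega F (Cfsg.quadFormOdd m F)))))) := by
  have h2 : (2 : F) ≠ 0 := Ring.two_ne_zero fun h => by
    have := FiniteField.even_card_of_char_two h
    rw [Nat.odd_iff] at hodd
    omega
  have S := OrthSigns.qset_odd (F := F) h2 m hm
  suffices H : ∀ fq : (Unit ⊕ (Fin m ⊕ Fin m) → F) → F, ⇑(FormsLib.qOdd m F) = fq →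
      ∀ (A : Subgroup (MulAut (Cfsg.POmega F fq))), (∀ k, MulAut.conj k ∈ A) →
      ∀ x : MulAut (Cfsg.POmega F fq), orderOf x = p → ¬ Cfsg.IsSimilarityInducedAutPOmega fq x →
      (Cfsg.pPrimeCore p ↥(A ⊓ Subgroup.centralizer {x}) ≠ ⊥ ↔ (Cfsg.IsFieldAutClassPOmega fq x ∧
        Nat.Coprime p (Nat.card ↥(MonoidHom.eqLocus x.toMonoidHom (MonoidHom.id (Cfsg.POmega F fq))))))
    from H _ FormsLib.coe_qOdd A hinn x hord hnot
  intro fq hfq
  subst hfq
  intro A hinn x hord hnot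
  obtain ⟨T, rfl⟩ := AutPOmega.theta_surjective S AutPOmega.h8_odd x
  have hp : p.Prime := Fact.out
  have hTp : AutPOmega.theta T ^ p = 1 := by rw [← hord, pow_orderOf_eq_one]
  have hσ1 : AutPOmega.sigHom S T ≠ 1 := fun h => by
    obtain ⟨g, rfl⟩ := (AutPOmega.sig_eq_one_iff S).1 h
    exact hnot ⟨g.1, g.2, (AutPOmega.induced_sim_iff g _).2 rfl⟩
  have hσp : orderOf (AutPOmega.sigHom S T) = p := orderOf_eq_prime (AutPOmega.theta_pow_sig S hTp) hσ1
  obtain ⟨K, hK'⟩ := AutPOmega.exists_conj_odd S h2 T (by rw [hσp]; exact hTp)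
  set σ := AutPOmega.sigHom S T
  set c := AutPOmega.simAut K
  set x := AutPOmega.theta T
  have hfield : Cfsg.IsFieldAutClassPOmega (⇑(FormsLib.qOdd m F)) x := by
    refine ⟨c⁻¹, AutPOmega.theta (AutPOmega.fldOdd σ), σ, hσ1, (AutPOmega.isField_iff σ _).2 rfl, ?_⟩
    rw [hK', inv_inv]
    simp [mul_assoc]
  simp only [hfield, true_and]
  let F₀ := (σ : F →+* F).eqLocusField (RingHom.id F)
  haveI : Fintype F₀ := Fintype.ofFinite _
  let j : F₀ →+* F := F₀.subtype
  have hj : ∀ a, σ a = a ↔ a ∈ j.range :=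
    fun a => ⟨fun h => ⟨⟨a, h⟩, rfl⟩, by rintro ⟨b, rfl⟩; exact b.2⟩
  have h20 : (2 : F₀) ≠ 0 := fun e => h2 (by rw [← map_ofNat j 2, e, map_zero])
  have S₀ := OrthSigns.qset_odd (F := F₀) h20 m hm
  have hr0 : 0 < orderOf σ := by rw [hσp]; exact hp.pos
  have hinj := AutPOmega.conj_injective S
  have hfix0 : ∀ s, AutPOmega.theta (AutPOmega.fldOdd σ) (AutPOmega.omJ j s) = AutPOmega.omJ j (m := m) s := fun s => by
    apply hinj
    have h1 : Commute (MulAut.conj (AutPOmega.omJ j s)) (AutPOmega.theta (AutPOmega.fldOdd σ)) := by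
      rw [AutPOmega.conj_omJ]
      show Commute (AutPOmega.theta (AutPOmega.ofSim (AutPOmega.incl (AutPOmega.isoJ j s.1)))) _
      rw [AutPOmega.incl_isoJ]
      exact (AutPOmega.fldOdd_commute j σ hj _).map AutPOmega.theta
    have h3 : ∀ (d : MulAut (Cfsg.POmega F ⇑(FormsLib.qOdd m F))) k, d * MulAut.conj k * d⁻¹ = MulAut.conj (d k) :=
      fun d k => MulEquiv.ext fun z => by simp [MulAut.mul_apply, MulAut.conj_apply]
    rw [← h3, h1.symm.eq, mul_inv_cancel_right]
  let jc : Cfsg.Omega F₀ ⇑(FormsLib.qOdd m F₀) →* Cfsg.POmega F ⇑(FormsLib.qOdd m F) :=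
    c.toMonoidHom.comp (AutPOmega.omJ j)
  have hker0 : Function.Injective (QuotientGroup.mk' (Subgroup.center (Cfsg.Omega F₀ ⇑(FormsLib.qOdd m F₀)))) := by
    rw [injective_iff_map_eq_one]
    intro z hz
    have h1 : AutPOmega.isoAut (z : Cfsg.isometryGroup F₀ ⇑(FormsLib.qOdd m F₀)) = 1 := by
      rw [AutPOmega.isoAut_omega, show (QuotientGroup.mk z : Cfsg.POmega F₀ ⇑(FormsLib.qOdd m F₀)) = 1 from hz, map_one]
    obtain ⟨a, ha⟩ := (AutPOmega.isoAut_eq_one_iff S₀ _).1 h1
    exact Subtype.ext (AutPOmega.omega_scalar S₀ z.2 ha)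
  let e₀ : Cfsg.Omega F₀ ⇑(FormsLib.qOdd m F₀) ≃* Cfsg.POmega F₀ ⇑(FormsLib.qOdd m F₀) :=
    MulEquiv.ofBijective _ ⟨hker0, QuotientGroup.mk'_surjective _⟩
  haveI : Nontrivial (Cfsg.Omega F₀ ⇑(FormsLib.qOdd m F₀)) := by
    haveI := OrthSimple.isSimple_POmega S₀ (f := ⇑(FormsLib.qOdd m F₀)) rfl
    exact e₀.toEquiv.nontrivial
  haveI : IsSimpleGroup (Cfsg.Omega F₀ ⇑(FormsLib.qOdd m F₀)) := by
    haveI := OrthSimple.isSimple_POmega S₀ (f := ⇑(FormsLib.qOdd m F₀)) rfl
    exact IsSimpleGroup.isSimpleGroup_of_surjective e₀.symm.toMonoidHom e₀.symm.surjective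
  have hpull : ∀ (d : MulAut (Cfsg.POmega F ⇑(FormsLib.qOdd m F))), (∀ s, d (jc s) = jc s) →
      ∀ s, (c⁻¹ * d * c) (AutPOmega.omJ j s) = AutPOmega.omJ j s := fun d hd s => by
    show c⁻¹ (d (c (AutPOmega.omJ j s))) = _
    rw [show d (c (AutPOmega.omJ j s)) = c (AutPOmega.omJ j s) from hd s, MulAut.inv_apply_self]
  refine AutPOmega.core_criterion p A hinn x hinj jc (c.injective.comp (AutPOmega.omJ_injective j S))
    (fun s => ?_) (fun d hd => ?_) (fun k hk hk' => ?_) ?_ (AutPOmega.two_dvd_omega S₀ h20 hm)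
  · show x (c (AutPOmega.omJ j s)) = c (AutPOmega.omJ j s)
    rw [hK', MulAut.mul_apply, MulAut.mul_apply, MulAut.inv_apply_self, hfix0]
  · obtain ⟨τ, hτ, he⟩ := AutPOmega.exists_of_fix j S S₀ h2 h20 hm _ (hpull d hd)
    have hτp : τ ^ p = 1 := by
      rw [← hσp]
      exact Cfsg.Agent.S2730.pow_eq_one_of_fix σ τ hr0 fun a ha => by
        obtain ⟨b, rfl⟩ := (hj a).1 ha
        exact hτ b
    have h1 : (c⁻¹ * d * c) ^ p = 1 := by
      rw [he, ← map_pow, AutPOmega.fldOdd_pow, hτp, AutPOmega.fldOdd_one, map_one]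
    rwa [show (c⁻¹ * d * c) ^ p = c⁻¹ * d ^ p * c by
      have := conj_pow (i := p) (a := c⁻¹) (b := d); rwa [inv_inv] at this, mul_eq_one_iff_eq_inv,
      mul_eq_left] at h1
  · have hd : ∀ s, MulAut.conj k (jc s) = jc s := fun s => by
      rw [MulAut.conj_apply, hk' s, mul_inv_cancel_right]
    obtain ⟨τ, hτ, he⟩ := AutPOmega.exists_of_fix j S S₀ h2 h20 hm _ (hpull _ hd)
    have h3 : c⁻¹ * MulAut.conj k * c = MulAut.conj (c⁻¹ k) :=
      MulEquiv.ext fun z => by simp [MulAut.mul_apply, MulAut.conj_apply]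
    rw [h3] at he
    have hτ1 : τ = 1 := by
      have h4 := AutPOmega.outT_eq_one_sig S (T := AutPOmega.fldOdd τ)
        (show QuotientGroup.mk' _ (AutPOmega.theta (AutPOmega.fldOdd τ)) = 1 by
          rw [← he]; exact (QuotientGroup.eq_one_iff _).2 ⟨_, rfl⟩)
      rwa [AutPOmega.sigT_fldOdd S] at h4
    rw [hτ1, AutPOmega.fldOdd_one, map_one] at he
    have h5 := hinj (he.trans (map_one _).symm)
    exact c⁻¹.injective (h5.trans (map_one _).symm)
  · set K₀ := MonoidHom.eqLocus x.toMonoidHom (MonoidHom.id (Cfsg.POmega F ⇑(FormsLib.qOdd m F)))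
    set G := (AutPOmega.simAut (Q := FormsLib.qOdd m F)).range
    have hcG : c ∈ G := ⟨K, rfl⟩
    let f : K₀ →* ↥(G ⊓ Subgroup.centralizer {x}) :=
      ((MulAut.conj : Cfsg.POmega F ⇑(FormsLib.qOdd m F) →* MulAut (Cfsg.POmega F ⇑(FormsLib.qOdd m F))).comp
        K₀.subtype).codRestrict _ fun k => ⟨by
          obtain ⟨t, ht⟩ := QuotientGroup.mk_surjective k.1
          exact ⟨AutPOmega.incl (t : Cfsg.isometryGroup F ⇑(FormsLib.qOdd m F)),
            (AutPOmega.isoAut_omega t).trans (congrArg MulAut.conj ht)⟩,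
          Subgroup.mem_centralizer_singleton_iff.2 (by
            have h : x * MulAut.conj k.1 * x⁻¹ = MulAut.conj k.1 := by
              conv_rhs => rw [← show x k.1 = k.1 from k.2]
              exact MulEquiv.ext fun z => by simp [MulAut.mul_apply, MulAut.conj_apply]
            exact (mul_inv_eq_iff_eq_mul.1 h).symm)⟩
    have h1 := Subgroup.card_dvd_of_injective f fun a b h => Subtype.ext (hinj (congrArg Subtype.val h))
    obtain ⟨e1⟩ := AutPSL.centralizer_conj G (x := AutPOmega.theta (AutPOmega.fldOdd σ)) hcG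
    obtain ⟨e2⟩ := AutPOmega.centralizer_equiv_odd j σ hj S S₀ hr0
    rw [show G ⊓ Subgroup.centralizer {x} = G ⊓ Subgroup.centralizer
      {c * AutPOmega.theta (AutPOmega.fldOdd σ) * c⁻¹} by rw [← hK'], Nat.card_congr (e1.trans e2).toEquiv] at h1
    refine h1.trans ?_
    have hrange : (AutPOmega.simAut (Q := FormsLib.qOdd m F₀)).range =
        (AutPOmega.isoAut (Q := FormsLib.qOdd m F₀)).range := by
      refine le_antisymm ?_ (by rintro _ ⟨h, rfl⟩; exact ⟨AutPOmega.incl h, rfl⟩)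
      rintro _ ⟨g, rfl⟩
      obtain ⟨b, hb⟩ : AutPOmega.simMul S₀ g ∈ (powMonoidHom 2 : F₀ˣ →* F₀ˣ).range := by
        rw [← AutPOmega.simMul_odd_range S₀]; exact ⟨g, rfl⟩
      have hk : (AutPOmega.scalSim b)⁻¹ * g ∈ (AutPOmega.simMul S₀).ker := by
        rw [MonoidHom.mem_ker, map_mul, map_inv, inv_mul_eq_one, AutPOmega.simMul_scal S₀, ← hb,
          powMonoidHom_apply, sq]
      rw [AutPOmega.ker_simMul S₀] at hk
      obtain ⟨h, hh⟩ := hk
      refine ⟨h, ?_⟩
      show AutPOmega.simAut (AutPOmega.incl h) = _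
      rw [show AutPOmega.incl h = _ from hh, map_mul, map_inv,
        (AutPOmega.simAut_eq_one_iff S₀ (AutPOmega.scalSim b)).2 ⟨b, rfl⟩, inv_one, one_mul]
    rw [hrange]
    have h4 := AutPOmega.card_isoAut_range S₀ (s := 2) (by
      rw [Nat.card_eq_two_iff]
      refine ⟨⟨1, one_mul 1⟩, ⟨-1, by ring⟩, fun e => h20 ?_, Set.eq_univ_of_forall fun c => ?_⟩
      · have := congrArg Subtype.val e
        simp only at this
        linear_combination this
      · rcases mul_self_eq_one_iff.1 c.2 with h | h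
        · exact Or.inl (Subtype.ext h)
        · exact Or.inr (Subtype.ext h))
    have hP := OrthPOrder.card_odd_dim (F := F₀) h20 hm
    rw [← FormsLib.coe_qOdd] at hP
    rw [← hP, ← Nat.card_congr e₀.toEquiv] at h4
    exact ⟨1, by omega⟩

end Cfsg.Agent.S2731
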