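import Cfsg.Statements.S2733
import Cfsg.Agent.Lib.AutPOmega.FrameCriterion
import Cfsg.Agent.Lib.AutPOmega.GraphPCore
import Cfsg.Agent.Lib.AutPOmega.MinusClass
import Cfsg.Agent.S2719
import Cfsg.Agent.S0294
-- import your own Cfsg.Agent.* helpers here

set_option autoImplicit false
open Cfsg

namespace Cfsg.Agent.S2733

open Cfsg.Agent.AutPOmega Cfsg.Agent.QMax
open scoped Matrix

/-- The rational group has even order. -/
theorem two_dvd_card {F₀ : Type*} [Field F₀] [Fintype F₀] {m : ℕ} (hm : 3 ≤ m) (a b : F₀)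
    (hab : ∀ z₁ z₂ : F₀, z₁ ^ 2 + a * z₁ * z₂ + b * z₂ ^ 2 = 0 → z₁ = 0 ∧ z₂ = 0) :
    2 ∣ Nat.card (Cfsg.POmega F₀ (Cfsg.quadFormMinus m F₀ a b)) := by
  have h := Cfsg.Agent.S0294.result (F := F₀) rfl (m + 1) (by omega) a b hab
  rw [Nat.add_sub_cancel] at h
  set q := Fintype.card F₀
  rcases Nat.even_or_odd q with hq | hq
  · have hg : Nat.Coprime (2 ^ 2) (q ^ (m + 1) + 1) :=
      ((Nat.coprime_two_left).2 ((hq.pow_of_ne_zero (by omega)).add_one)).pow_left _
    rw [show Nat.gcd 4 (q ^ (m + 1) + 1) = 1 from hg, one_mul] at h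
    rw [h]
    exact dvd_mul_of_dvd_left (dvd_mul_of_dvd_left (dvd_pow (even_iff_two_dvd.1 hq)
      (Nat.mul_ne_zero (by omega) (by omega))) _) _
  · have h8 : 8 ∣ q ^ (2 * (0 + 1)) - 1 := by
      obtain ⟨k, hk⟩ := hq
      obtain ⟨l, hl⟩ := Nat.even_mul_succ_self k
      refine ⟨l, ?_⟩
      have : q ^ (2 * (0 + 1)) = 4 * (k * (k + 1)) + 1 := by rw [hk]; ring
      omega
    have hmem : 0 ∈ Finset.range (m + 1 - 1) := Finset.mem_range.2 (by omega)
    have hdvd : 8 ∣ Nat.gcd 4 (q ^ (m + 1) + 1) * Nat.card (Cfsg.POmega F₀ (Cfsg.quadFormMinus m F₀ a b)) := by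
      rw [h]
      exact dvd_mul_of_dvd_right (h8.trans (Finset.dvd_prod_of_mem (fun i => q ^ (2 * (i + 1)) - 1) hmem)) _
    obtain ⟨c, hc⟩ := Nat.gcd_dvd_left 4 (q ^ (m + 1) + 1)
    have h4 : 8 ∣ 4 * Nat.card (Cfsg.POmega F₀ (Cfsg.quadFormMinus m F₀ a b)) := by
      refine hdvd.trans ⟨c, ?_⟩
      conv_lhs => rw [hc]
      ring
    omega

/-- An anisotropic binary form over the fixed field stays anisotropic over an odd extension. -/
theorem aniso_extend {F₀ F : Type*} [Field F₀] [Field F] (j : F₀ →+* F) {σ : F ≃+* F}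
    (hj : ∀ c, σ c = c ↔ c ∈ j.range) {p : ℕ} (hσp : orderOf σ = p) (hodd : Odd p) {a b : F₀}
    (hab : ∀ z₁ z₂ : F₀, z₁ ^ 2 + a * z₁ * z₂ + b * z₂ ^ 2 = 0 → z₁ = 0 ∧ z₂ = 0) :
    ∀ z₁ z₂ : F, z₁ ^ 2 + j a * z₁ * z₂ + j b * z₂ ^ 2 = 0 → z₁ = 0 ∧ z₂ = 0 := by
  intro z₁ z₂ h
  by_cases h2 : z₂ = 0
  · subst h2
    exact ⟨pow_eq_zero_iff two_ne_zero |>.1 (by simpa using h), rfl⟩
  exfalso
  set z := z₁ / z₂
  have hz : z ^ 2 + j a * z + j b = 0 := by
    rw [show z ^ 2 + j a * z + j b = (z₁ ^ 2 + j a * z₁ * z₂ + j b * z₂ ^ 2) / z₂ ^ 2 by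
      simp only [z]; field_simp, h, zero_div]
  have hs : σ z ^ 2 + j a * σ z + j b = 0 := by
    have := congrArg σ hz
    rwa [map_add, map_add, map_mul, map_pow, map_zero, (hj (j a)).2 ⟨a, rfl⟩, (hj (j b)).2 ⟨b, rfl⟩] at this
  have h3 : (σ z - z) * (σ z + z + j a) = 0 := by linear_combination hs - hz
  have hfix : σ z = z := by
    rcases mul_eq_zero.1 h3 with e | e
    · exact sub_eq_zero.1 e
    · have e' : σ (σ z) = z := by
        have := congrArg σ e
        rw [map_add, map_add, map_zero, (hj (j a)).2 ⟨a, rfl⟩] at this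
        linear_combination this - e
      obtain ⟨n, hn⟩ := hodd
      have hit : ∀ i : ℕ, (σ ^ (2 * i)) z = z := fun i => by
        induction i with
        | zero => rfl
        | succ i ih => rw [show 2 * (i + 1) = 2 + 2 * i by ring, pow_add, RingAut.mul_apply, ih, sq]; exact e'
      have h5 := RingEquiv.congr_fun (pow_orderOf_eq_one σ) z
      rw [hσp, hn, pow_succ', RingAut.mul_apply, hit] at h5
      exact h5
  obtain ⟨t, ht⟩ := (hj z).1 hfix
  exact one_ne_zero (hab t 1 (j.injective (by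
    simp only [map_add, map_mul, map_pow, map_one, map_zero, ht, mul_one, one_pow]
    exact hz))).2

set_option maxHeartbeats 2000000 in
/-- A criterion for the failure of local balance in almost simple groups whose socle is a minus-type orthogonal group PΩ⁻_{2m+2}(F) (m ≥ 3; the form Σ xᵢ yᵢ + z₁² + a z₁ z₂ + b z₂² with anisotropic binary part). Let F be a finite field of characteristic r and K the (simple) group in question; let A be a group of automorphisms of K containing all inner automorphisms, and x ∈ A an automorphism of prime order p ≠ r that is not inner-diagonal (not induced by a class-preserving similarity, classes read over a quadratic extension). Then the largest normal subgroup of C_A(x) of order prime to p is nontrivial if and only if x is a field automorphism of K (conjugate under Aut(K) to a non-identity standard field automorphism) and p does not divide the number of fixed points of x on K. -/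
theorem result {F : Type*} [Field F] [Fintype F] {r : ℕ} [Fact r.Prime] [CharP F r] {m : ℕ} (hm : 3 ≤ m) (a b : F) (hab : (∀ z₁ z₂ : F, z₁ ^ 2 + a * z₁ * z₂ + b * z₂ ^ 2 = 0 → z₁ = 0 ∧ z₂ = 0)) (hK : IsSimpleGroup (Cfsg.POmega F (Cfsg.quadFormMinus m F a b))) (A : Subgroup (MulAut (Cfsg.POmega F (Cfsg.quadFormMinus m F a b)))) (hinn : ∀ k : Cfsg.POmega F (Cfsg.quadFormMinus m F a b), MulAut.conj k ∈ A) {p : ℕ} [Fact p.Prime] (hpr : p ≠ r) (x : MulAut (Cfsg.POmega F (Cfsg.quadFormMinus m F a b))) (hxA : x ∈ A) (hord : orderOf x = p) (hnot : ¬ Cfsg.IsInnerDiagonalAutPOmegaMinus m a b x) :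
    Cfsg.pPrimeCore p ↥(A ⊓ Subgroup.centralizer {x}) ≠ ⊥ ↔ (Cfsg.IsFieldAutClassPOmegaMinus m x ∧ Nat.Coprime p (Nat.card ↥(MonoidHom.eqLocus x.toMonoidHom (MonoidHom.id (Cfsg.POmega F (Cfsg.quadFormMinus m F a b)))))) := by
  obtain ⟨Q, hQ, S⟩ := exists_minus_setting hm a b hab
  have h8 := h8_minus hQ hab S hm
  suffices H : ∀ f, ⇑Q = f → ∀ (A : Subgroup (MulAut (Cfsg.POmega F f))) (x : MulAut (Cfsg.POmega F f)),
      (∀ k : Cfsg.POmega F f, MulAut.conj k ∈ A) → orderOf x = p →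
      (¬ ∃ g : GL ((Fin m ⊕ Fin m) ⊕ Fin 2) F, g ∈ Cfsg.Geo.quadSimilarityGroup (F := F) f ∧
        Cfsg.PreservesSingularClassesMinus m a b (g : Matrix _ _ F) ∧
        Cfsg.IsInducedBySemilinearPOmega f g (RingEquiv.refl F) x) →
      (Cfsg.pPrimeCore p ↥(A ⊓ Subgroup.centralizer {x}) ≠ ⊥ ↔
        ((∃ (a' b' : F) (ψ : Cfsg.POmega F f ≃* Cfsg.POmega F (Cfsg.quadFormMinus m F a' b')) (σ : F ≃+* F),
          (∀ z₁ z₂ : F, z₁ ^ 2 + a' * z₁ * z₂ + b' * z₂ ^ 2 = 0 → z₁ = 0 ∧ z₂ = 0) ∧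
          σ ≠ RingEquiv.refl F ∧ σ a' = a' ∧ σ b' = b' ∧
          Cfsg.IsFieldAutPOmegaOf (Cfsg.quadFormMinus m F a' b') σ ((ψ.symm.trans x).trans ψ)) ∧
        Nat.Coprime p (Nat.card ↥(MonoidHom.eqLocus x.toMonoidHom (MonoidHom.id (Cfsg.POmega F f))))))
    from H _ hQ A x hinn hord hnot
  rintro _ rfl A x hinn hord hnot
  have hp : p.Prime := Fact.out
  obtain ⟨χ, hχ, hdk, hsc⟩ := exists_chi hQ hab S hm
  obtain ⟨T₀, rfl⟩ := theta_surjective S h8 x
  have hpow : theta T₀ ^ p = 1 := by rw [← hord]; exact pow_orderOf_eq_one _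
  by_cases hs : sigHom S T₀ = 1
  · obtain ⟨g, rfl⟩ := (sig_eq_one_iff S).1 hs
    have hχg : χ g ≠ 1 := fun e => hnot ⟨g.1, g.2, (hχ g).2 e, (induced_sim_iff g _).2 rfl⟩
    have hp2 : p = 2 := by
      rcases hp.eq_two_or_odd' with e | e
      · exact e
      exfalso
      obtain ⟨c, hc⟩ := (simAut_eq_one_iff S (g ^ p)).1 ((map_pow simAut g p).trans hpow)
      have e1 := congrArg χ hc
      rw [hsc, map_pow] at e1
      rcases Int.units_eq_one_or (χ g) with e2 | e2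
      · exact hχg e2
      · rw [e2, e.neg_one_pow] at e1
        exact absurd e1 (by decide)
    subst hp2
    have h2 : (2 : F) ≠ 0 := Ring.two_ne_zero (by rw [ringChar.eq F r]; exact fun h => hpr h.symm)
    have hε : epsS S (m + 1) g ≠ 1 := fun e => hχg ((hχ g).1 ((preserves_minus_iff hQ S h2 hm hab g).2 e))
    refine iff_of_false ?_ ?_
    · rw [ne_eq, not_not]
      exact graph_pcore S (card_minus hQ) h2 g hε ((sq _).symm.trans hpow) h8 A hinn
    · rintro ⟨hf, -⟩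
      exact absurd (exists_field_data hQ hab S hm hf hp hord).1 (by decide)
  · have hT₀ : orderOf (sigHom S T₀) = p := orderOf_eq_prime (theta_pow_sig' S hpow) hs
    have hodd : Odd p := hp.odd_of_ne_two fun e => by
      subst e
      exact hs (S2719.sig_eq_one hQ hab S (Ring.two_ne_zero (by rw [ringChar.eq F r]; exact fun h => hpr h.symm))
        hm T₀ hpow)
    obtain ⟨T, hT, hsT, hTp⟩ := exists_normalised S T₀ hT₀ hp.pos hpow
    rw [← hT]
    rw [← hsT] at hT₀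
    have hσp : orderOf (sigT T) = p := hT₀
    let F₀ := (sigT T : F →+* F).eqLocusField (RingHom.id F)
    haveI : Fintype F₀ := Fintype.ofFinite _
    let j : F₀ →+* F := F₀.subtype
    have hj : ∀ c, sigT T c = c ↔ c ∈ j.range :=
      fun c => ⟨fun h => ⟨⟨c, h⟩, rfl⟩, by rintro ⟨y, rfl⟩; exact y.2⟩
    obtain ⟨a₀, b₀, hab₀⟩ := Spinor.exists_aniso F₀
    obtain ⟨R, hR, S₀⟩ := exists_minus_setting hm a₀ b₀ hab₀
    obtain ⟨P⟩ := exists_frame hQ hab S j hR hab₀ T hT₀ hp.pos hTp hj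
    obtain ⟨χ₀, hχ₀, hdk₀, hsc₀⟩ := exists_chi hR hab₀ S₀ hm
    have hcj := chi_frameJ hQ hab S j hR hab₀ S₀ hj P hm hχ hdk hsc hχ₀ hdk₀ hsc₀
    have heven : 2 ∣ Nat.card (Cfsg.POmega F₀ ⇑R) := by rw [hR]; exact two_dvd_card hm a₀ b₀ hab₀
    rw [frame_core S j S₀ hj P p hσp hodd (theta_surjective S h8) hcj hdk hsc hdk₀ heven A hinn]
    refine (and_iff_right ?_).symm
    have haniso := aniso_extend j hj hσp hodd hab₀
    obtain ⟨Q', hQ', S'⟩ := exists_minus_setting hm (j a₀) (j b₀) haniso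
    have hall : ∀ v, Q ((P.H).1 *ᵥ v) = (P.bb : F) * Q' v := fun v => by
      refine quad_ext_j j (A := Q.comp (Matrix.mulVecLin (P.H).1))
        (B := (P.bb : F) • Q') (fun u => ?_) v
      rw [QuadraticMap.comp_apply, Matrix.mulVecLin_apply, P.quad_eq, QuadraticMap.smul_apply, smul_eq_mul, hR, hQ']
      simp [Cfsg.quadFormMinus, map_sum]
    refine ⟨j a₀, j b₀, ?_⟩
    rw [← hQ']
    refine ⟨(pomCongr P.bb.ne_zero hall).symm, sigT T, haniso, fun e => hp.one_lt.ne' ?_,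
      (hj _).2 ⟨_, rfl⟩, (hj _).2 ⟨_, rfl⟩, isFieldOf_pomCongr P.bb.ne_zero hall P.apply_eq⟩
    rw [← hσp, e]
    exact orderOf_one

end Cfsg.Agent.S2733
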