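import Cfsg.Statements.S2734
import Cfsg.Agent.Lib.Chev.G2inD4
import Cfsg.Agent.Lib.Chev.Aut.GraphAuts

set_option autoImplicit false
open Cfsg

namespace Cfsg.Agent.S2734

open Cfsg.Agent.Chev Cfsg.Lie

theorem pp_eq : ∀ i : Fin 4, [2, 1, 3, 0].getD i.val 9 = gD4a.pp i.val := by decide

theorem cksX : ∀ i < D4.pk.rank, ∀ j < D4.pk.rank,
    (∑ k ∈ Finset.range 4, cf (D4.pk.colL k (D4.pk.sim j) (D4.pk.ng (D4.pk.sim i))) (D4.pk.sim i)) =
      if i = j then -1 else 0 := by decide +kernel

/-- A graph automorphism of order 3 is the tabulated triality or its inverse. -/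
theorem eq_gAut_or_inv {F : Type*} [Field F] [Fintype F] (τ : MulAut ↥(chevD4.group F))
    (hτ : chevD4.IsGraphAut τ) (hτ3 : orderOf τ = 3) :
    τ = D4.ok.gAut ckG_D4a ∨ τ⁻¹ = D4.ok.gAut ckG_D4a := by
  obtain ⟨p, hs, hp⟩ := (Aut.isGraphAut_iff D4.ok τ).1 hτ
  have hlong := Aut.long_false D4.ok G2D4.d4laced
  have hmul := @Aut.gPar_mul _ _ F _ D4.ok hlong
  have h3 : τ * τ * τ = 1 := by
    rw [← pow_three', ← hτ3, pow_orderOf_eq_one]
  have hppp := hmul (hmul hp hp) hp
  rw [h3] at hppp
  have he : ∀ i j : Fin D4.pk.rank, Aut.gE chevD4 F i j = 1 := fun i j => by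
    simp [Aut.gE, ChevalleyDatum.graphExp, hlong j j.isLt]
  have hfix : ∀ i : Fin D4.pk.rank, p (p (p i)) = i := by
    intro i
    have e := (hppp i 1).1
    rw [MulAut.one_apply, one_pow, Equiv.Perm.mul_apply, Equiv.Perm.mul_apply] at e
    have e' := congrArg Subtype.val e
    rw [Aut.coe_xS, Aut.coe_xS] at e'
    by_contra hne
    have hkne : (p (p (p i))).val ≠ i.val := fun e2 => hne (Fin.ext e2)
    have h1 := congrArg (fun g : GL chevD4.Idx F => (g : Matrix chevD4.Idx chevD4.Idx F)
      (D4.ok.rootIdx _ (D4.ok.sim_lt i.isLt))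
      (D4.ok.rootIdx _ (Ok.ng_lt (D4.ok.sim_lt i.isLt)))) e'
    simp only [D4.ok.coe_xG' (D4.ok.sim_lt i.isLt), D4.ok.coe_xG' (D4.ok.sim_lt (p (p (p i))).isLt)] at h1
    simp only [X, one_pow, one_smul, Matrix.sum_apply, cM_apply, Ek, opM_apply, ← Int.cast_sum] at h1
    have k1 := cksX i.val i.isLt i.val i.isLt
    have k2 := cksX i.val i.isLt _ (p (p (p i))).isLt
    rw [if_pos rfl] at k1
    rw [if_neg (Ne.symm hkne)] at k2
    rw [show code (D := chevD4) D4.pk (D4.ok.rootIdx _ (D4.ok.sim_lt i.isLt)) = D4.pk.sim i from rfl,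
      show code (D := chevD4) D4.pk (D4.ok.rootIdx _ (Ok.ng_lt (D4.ok.sim_lt i.isLt))) =
        D4.pk.ng (D4.pk.sim i) from rfl, k1, k2] at h1
    simp at h1
  have hne : ∃ i, p i ≠ i := by
    by_contra hall
    simp only [not_exists, not_not] at hall
    have hp1 : p = 1 := Equiv.ext hall
    rw [hp1] at hp
    have := Aut.gPar_ext D4.ok hp (Aut.gPar_one D4.ok)
    rw [this, orderOf_one] at hτ3
    exact absurd hτ3 (by norm_num)
  have hga := Aut.gPar_gAut (F := F) D4.ok ckG_D4a hlong
  rcases G2D4.triality_perms p hfix hne hs with h | h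
  · left
    refine Aut.gPar_ext D4.ok hp ?_
    convert hga using 1
    exact Equiv.ext fun i => Fin.ext (((h i).trans (pp_eq i)).trans (Aut.gperm_apply D4.ok ckG_D4a i).symm)
  · right
    have hinv : τ⁻¹ = τ * τ := inv_eq_of_mul_eq_one_left h3
    refine Aut.gPar_ext D4.ok (hinv ▸ hmul hp hp) ?_
    convert hga using 1
    exact Equiv.ext fun i => Fin.ext (((h i).trans (pp_eq i)).trans (Aut.gperm_apply D4.ok ckG_D4a i).symm)

theorem mem_eqLocus {G : Type*} [Group G] (τ : MulAut G) (x : G) :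
    x ∈ τ.toMonoidHom.eqLocus (MonoidHom.id G) ↔ τ x = x := Iff.rfl

/-- The fixed points of the tabulated triality as a subgroup of the matrix group. -/
noncomputable def fixedEquiv {F : Type*} [Field F] :
    ↥((D4.ok.gAut (F := F) ckG_D4a).toMonoidHom.eqLocus (MonoidHom.id _)) ≃*
      ↥((TwD4.T (RingHom.id F)).fixed) :=
  ((Subgroup.equivMapOfInjective _ (chevD4.group F).subtype Subtype.val_injective)).trans
    (MulEquiv.subgroupCongr (by
      ext g
      rw [Twist.mem_fixed, Subgroup.mem_map]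
      have hσ : ∀ x : GL chevD4.Idx F,
          (TwD4.T (RingHom.id F)).σ x = D4.ok.gT ckG_D4a * x * (D4.ok.gT ckG_D4a)⁻¹ := fun x => by
        show D4.ok.gT ckG_D4a * gmap chevD4 (RingHom.id F) x * _ = _
        rw [show gmap chevD4 (RingHom.id F) x = x from Units.ext ((coe_gmap _ _).trans (Matrix.ext fun _ _ => rfl))]
      constructor
      · rintro ⟨x, hx, rfl⟩
        refine ⟨x.2, ?_⟩
        rw [hσ]
        exact congrArg Subtype.val ((mem_eqLocus _ x).1 hx)
      · rintro ⟨hg, e⟩
        refine ⟨⟨g, hg⟩, (mem_eqLocus _ _).2 (Subtype.ext ?_), rfl⟩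
        rw [hσ] at e
        exact e))

/-- In the Chevalley group of type D₄ over a finite field F (the matrix group generated by the root elements), a graph automorphism attached to a symmetry π of the Dynkin diagram (sending each fundamental root element x_p(t) to x_{π(p)}(t) and each x_{−p}(t) to x_{−π(p)}(t)) that has order 3 — a standard triality graph automorphism, π being a 3-cycle of the three outer nodes — has fixed-point subgroup isomorphic to the Chevalley group of type G₂ over F. -/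
theorem result {F : Type*} [Field F] [Fintype F] (τ : MulAut ↥(Cfsg.Lie.chevD4.group F)) (hτ : Cfsg.Lie.chevD4.IsGraphAut τ) (hτ3 : orderOf τ = 3) :
    Nonempty (↥(MonoidHom.eqLocus τ.toMonoidHom (MonoidHom.id ↥(Cfsg.Lie.chevD4.group F))) ≃* ↥(Cfsg.Lie.chevG2.group F)) := by
  obtain ⟨e⟩ := G2D4.fixed_iso (F := F)
  have key : MonoidHom.eqLocus τ.toMonoidHom (MonoidHom.id _) =
      (D4.ok.gAut (F := F) ckG_D4a).toMonoidHom.eqLocus (MonoidHom.id _) := by
    rcases eq_gAut_or_inv τ hτ hτ3 with h | h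
    · rw [h]
    · rw [← h]
      ext x
      rw [mem_eqLocus, mem_eqLocus]
      constructor <;> intro hx
      · conv_lhs => rw [← hx]
        simp
      · conv_lhs => rw [← hx]
        simp
  exact ⟨((MulEquiv.subgroupCongr key).trans fixedEquiv).trans e⟩

end Cfsg.Agent.S2734
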