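import Cfsg.Statements.S2735
import Cfsg.Agent.Lib.AutPOmega.OddField
-- import your own Cfsg.Agent.* helpers here

set_option autoImplicit false
open Cfsg

namespace Cfsg.Agent.S2735

/-- Let T = Ω_{2m+1}(F) (m ≥ 3, |F| odd) and x a field automorphism of T of prime order r. Then an element y of the coset Inndiag(T)·x (y = δ x with δ induced by a similarity of the form) has order r if and only if y is conjugate to x by an element of Inndiag(T). (T has no graph or graph-field automorphisms.) -/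
theorem result {F : Type*} [Field F] [Fintype F] (hodd : Odd (Fintype.card F)) {m : ℕ} (hm : 3 ≤ m) (x δ : MulAut (Cfsg.POmega F (Cfsg.quadFormOdd m F))) (hx : Cfsg.IsFieldAutClassPOmega (Cfsg.quadFormOdd m F) x) {r : ℕ} (hr : r.Prime) (hxr : orderOf x = r) (hδ : δ ∈ Cfsg.inndiagPOmegaOdd m F) :
    orderOf (δ * x) = r ↔ Cfsg.IsConjUnder (Cfsg.inndiagPOmegaOdd m F) x (δ * x) := by
  have h2 : (2 : F) ≠ 0 := Ring.two_ne_zero fun h => by
    have := FiniteField.even_card_of_char_two h
    rw [Nat.odd_iff] at hodd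
    omega
  have S := OrthSigns.qset_odd (F := F) h2 m hm
  suffices H : ∀ f : (Unit ⊕ (Fin m ⊕ Fin m) → F) → F, ⇑(FormsLib.qOdd m F) = f →
      ∀ x δ : MulAut (Cfsg.POmega F f), Cfsg.IsFieldAutClassPOmega f x → orderOf x = r →
      δ ∈ Cfsg.autSubgroupOf (fun β : MulAut (Cfsg.POmega F f) => Cfsg.IsSimilarityInducedAutPOmega f β) →
      (orderOf (δ * x) = r ↔ Cfsg.IsConjUnder
        (Cfsg.autSubgroupOf fun β : MulAut (Cfsg.POmega F f) => Cfsg.IsSimilarityInducedAutPOmega f β) x (δ * x))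
    from H _ FormsLib.coe_qOdd x δ hx hxr hδ
  intro f hf
  subst hf
  intro x δ hx hxr hδ
  rw [AutPOmega.inndiag_odd] at hδ ⊢
  rw [← hxr]
  exact AutPOmega.coset_iff_odd S h2 hx hδ

end Cfsg.Agent.S2735
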