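import Cfsg.Statements.S2736
import Cfsg.Agent.Lib.AutPOmega.PlusClass
-- import your own Cfsg.Agent.* helpers here

set_option autoImplicit false
open Cfsg

namespace Cfsg.Agent.S2736

/-- Let T = PΩ⁺_{2m}(F) with m ≥ 5 (dimension ≠ 8) and x a field automorphism or a graph-field automorphism of T of prime order r. Then an element y of the coset Inndiag(T)·x (y = δ x with δ induced by a class-preserving similarity) has order r if and only if y is conjugate to x by an element of Inndiag(T). -/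
theorem result {F : Type*} [Field F] [Fintype F] {m : ℕ} (hm : 5 ≤ m) (x δ : MulAut (Cfsg.POmega F (Cfsg.quadFormPlus m F))) (hx : Cfsg.IsFieldAutClassPOmega (Cfsg.quadFormPlus m F) x ∨ Cfsg.IsGraphFieldAutClassPOmegaPlus m x) {r : ℕ} (hr : r.Prime) (hxr : orderOf x = r) (hδ : δ ∈ Cfsg.inndiagPOmegaPlus m F) :
    orderOf (δ * x) = r ↔ Cfsg.IsConjUnder (Cfsg.inndiagPOmegaPlus m F) x (δ * x) := by
  have S := AutPOmega.qset_plus (F := F) (m := m) (by omega)
  obtain ⟨π, hfld, hdk, hD⟩ := AutPOmega.exists_parity S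
  suffices H : ∀ fq, ⇑(OrthOrder.qPlus m F) = fq → ∀ x δ : MulAut (Cfsg.POmega F fq),
      (Cfsg.IsFieldAutClassPOmega fq x ∨
        ∃ (α γ φ : MulAut (Cfsg.POmega F fq)) (σ : F ≃+* F) (v : Fin m ⊕ Fin m → F) (rr : GL (Fin m ⊕ Fin m) F),
          σ ≠ RingEquiv.refl F ∧ fq v ≠ 0 ∧ (∀ i, σ (v i) = v i) ∧
          (rr : Matrix (Fin m ⊕ Fin m) (Fin m ⊕ Fin m) F) = Cfsg.reflectionMatrix fq v ∧
          Cfsg.IsInducedBySemilinearPOmega fq rr (RingEquiv.refl F) γ ∧
          Cfsg.IsFieldAutPOmegaOf fq σ φ ∧ α * x * α⁻¹ = γ * φ) →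
      orderOf x = r →
      let G := Cfsg.autSubgroupOf fun β : MulAut (Cfsg.POmega F fq) =>
        ∃ g : GL (Fin m ⊕ Fin m) F, g ∈ Cfsg.Geo.quadSimilarityGroup (F := F) fq ∧
          Cfsg.PreservesSingularClasses fq (g : Matrix _ _ F) ∧
          Cfsg.IsInducedBySemilinearPOmega fq g (RingEquiv.refl F) β
      δ ∈ G → (orderOf (δ * x) = r ↔ Cfsg.IsConjUnder G x (δ * x))
    from H _ AutPOmega.coe_qPlus x δ hx hxr hδ
  intro fq hfq
  subst hfq
  intro x δ hx hxr G hδ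
  obtain ⟨T, rfl, hT, hTr, -, -⟩ := AutPOmega.exists_fieldP_data S hfld hdk hD hm hr hxr hx
  have hG : G = (π.comp AutPOmega.ofSim).ker.map AutPOmega.simAut := AutPOmega.inndiag_parity S hdk hD
  rw [hG] at hδ ⊢
  exact AutPOmega.coset_iff_plus S hfld hdk hD (by omega) hr hT hTr hxr hδ

end Cfsg.Agent.S2736
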