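import Cfsg.Statements.S2737
import Cfsg.Agent.Lib.AutPOmega.MinusClass
-- import your own Cfsg.Agent.* helpers here

set_option autoImplicit false
open Cfsg

namespace Cfsg.Agent.S2737

/-- Let T = PΩ⁻_{2m+2}(F) (m ≥ 3; form with anisotropic binary part) and x a field automorphism of T of prime order r. Then an element y of the coset Inndiag(T)·x has order r if and only if y is conjugate to x by an element of Inndiag(T). (T has no graph-field automorphisms.) -/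
theorem result {F : Type*} [Field F] [Fintype F] {m : ℕ} (hm : 3 ≤ m) (a b : F) (hab : (∀ z₁ z₂ : F, z₁ ^ 2 + a * z₁ * z₂ + b * z₂ ^ 2 = 0 → z₁ = 0 ∧ z₂ = 0)) (x δ : MulAut (Cfsg.POmega F (Cfsg.quadFormMinus m F a b))) (hx : Cfsg.IsFieldAutClassPOmegaMinus m x) {r : ℕ} (hr : r.Prime) (hxr : orderOf x = r) (hδ : δ ∈ Cfsg.inndiagPOmegaMinus m F a b) :
    orderOf (δ * x) = r ↔ Cfsg.IsConjUnder (Cfsg.inndiagPOmegaMinus m F a b) x (δ * x) := by
  obtain ⟨Q, hQ, S⟩ := AutPOmega.exists_minus_setting hm a b hab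
  suffices H : ∀ fq, ⇑Q = fq → fq = Cfsg.quadFormMinus m F a b → ∀ x δ : MulAut (Cfsg.POmega F fq),
      (∃ (a' b' : F) (ψ : Cfsg.POmega F fq ≃* Cfsg.POmega F (Cfsg.quadFormMinus m F a' b')) (σ : F ≃+* F),
        (∀ z₁ z₂ : F, z₁ ^ 2 + a' * z₁ * z₂ + b' * z₂ ^ 2 = 0 → z₁ = 0 ∧ z₂ = 0) ∧
        σ ≠ RingEquiv.refl F ∧ σ a' = a' ∧ σ b' = b' ∧
        Cfsg.IsFieldAutPOmegaOf (Cfsg.quadFormMinus m F a' b') σ ((ψ.symm.trans x).trans ψ)) →
      orderOf x = r →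
      let G := Cfsg.autSubgroupOf fun β : MulAut (Cfsg.POmega F fq) =>
        ∃ g : GL ((Fin m ⊕ Fin m) ⊕ Fin 2) F, g ∈ Cfsg.Geo.quadSimilarityGroup (F := F) fq ∧
          Cfsg.PreservesSingularClassesMinus m a b (g : Matrix _ _ F) ∧
          Cfsg.IsInducedBySemilinearPOmega fq g (RingEquiv.refl F) β
      δ ∈ G → (orderOf (δ * x) = r ↔ Cfsg.IsConjUnder G x (δ * x))
    from H _ hQ rfl x δ hx hxr hδ
  intro fq hfq hq
  subst hfq
  intro x δ hx hxr G hδ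
  obtain ⟨χ, hχ, hdk, -⟩ := AutPOmega.exists_chi hQ hab S hm
  obtain ⟨-, T, rfl, hT, hTr⟩ := AutPOmega.exists_field_data hQ hab S hm hx hr hxr
  have hG : G = χ.ker.map AutPOmega.simAut := AutPOmega.inndiag_minus_chi hQ hab S hχ
  rw [hG] at hδ ⊢
  exact AutPOmega.coset_iff_minus hQ hab S hm hdk hr.pos hT hTr hxr hδ

end Cfsg.Agent.S2737
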