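import Cfsg.Statements.S2738
import Mathlib

set_option autoImplicit false
open Cfsg

namespace Cfsg.Agent.S2738

/-- The special linear group SL(3, 4) has centre of order 3 and does not split over it: no subgroup is a complement to the centre (so SL(3, 4) is a non-split central extension of PSL(3, 4) by a group of order 3). -/
theorem result (F : Type*) [Field F] [Fintype F] (hF : Fintype.card F = 4) : Nat.card ↥(Subgroup.center (Matrix.SpecialLinearGroup (Fin 3) F)) = 3 ∧ ¬ ∃ K : Subgroup (Matrix.SpecialLinearGroup (Fin 3) F), Subgroup.IsComplement' (Subgroup.center (Matrix.SpecialLinearGroup (Fin 3) F)) K := by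
  classical
  obtain ⟨u, hu⟩ := IsCyclic.exists_generator (α := Fˣ)
  have hu3 : orderOf u = 3 := by
    rw [orderOf_eq_card_of_forall_mem_zpowers hu, Nat.card_units, Nat.card_eq_fintype_card, hF]
  set ω : F := (u : F)
  have hω3 : ω ^ 3 = 1 := by
    rw [← Units.val_pow_eq_pow_val, ← hu3, pow_orderOf_eq_one, Units.val_one]
  have hω1 : ω ≠ 1 := fun h => by
    rw [Units.val_eq_one.1 h, orderOf_one] at hu3; omega
  have hcard : Nat.card ↥(Subgroup.center (Matrix.SpecialLinearGroup (Fin 3) F)) = 3 := by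
    rw [Nat.card_congr (Matrix.SpecialLinearGroup.center_equiv_rootsOfUnity' (0 : Fin 3)).toEquiv,
      Fintype.card_fin]
    have hprim : IsPrimitiveRoot ω 3 := by
      rw [← hu3]; exact (IsPrimitiveRoot.orderOf u).map_of_injective (f := Units.coeHom F) Units.val_injective
    exact hprim.card_rootsOfUnity
  refine ⟨hcard, ?_⟩
  rintro ⟨K, hK⟩
  let P : Matrix.SpecialLinearGroup (Fin 3) F :=
    ⟨!![0, 1, 0; 0, 0, 1; 1, 0, 0], by simp [Matrix.det_fin_three]⟩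
  let D : Matrix.SpecialLinearGroup (Fin 3) F :=
    ⟨!![1, 0, 0; 0, ω, 0; 0, 0, ω ^ 2], by simp [Matrix.det_fin_three]; linear_combination hω3⟩
  have hPD : ∃ S : Matrix.SpecialLinearGroup (Fin 3) F,
      (S : Matrix (Fin 3) (Fin 3) F) = ω • 1 ∧ P * D = S * (D * P) := by
    refine ⟨⟨ω • 1, by simp [Matrix.det_smul]; exact hω3⟩, rfl, Subtype.ext ?_⟩
    show (!![0, 1, 0; 0, 0, 1; 1, 0, 0] : Matrix (Fin 3) (Fin 3) F) * !![1, 0, 0; 0, ω, 0; 0, 0, ω ^ 2] =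
      (ω • 1 : Matrix (Fin 3) (Fin 3) F) * (!![1, 0, 0; 0, ω, 0; 0, 0, ω ^ 2] * !![0, 1, 0; 0, 0, 1; 1, 0, 0])
    ext i j
    fin_cases i <;> fin_cases j <;> simp [Matrix.mul_apply, Fin.sum_univ_three] <;>
      first | ring1 | linear_combination hω3 | linear_combination -hω3
  obtain ⟨S, hS, hPD⟩ := hPD
  have hSZ : S ∈ Subgroup.center (Matrix.SpecialLinearGroup (Fin 3) F) := by
    rw [Matrix.SpecialLinearGroup.mem_center_iff]
    exact ⟨ω, by simpa using hω3, by rw [hS, Matrix.smul_one_eq_diagonal]; rfl⟩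
  -- the projection onto the centre kills commutators
  have hKn : ∀ z : Matrix.SpecialLinearGroup (Fin 3) F, z ∈ Subgroup.center _ → ∀ k ∈ K, z * k = k * z :=
    fun z hz k _ => (Subgroup.mem_center_iff.1 hz k).symm
  obtain ⟨⟨⟨z₁, hz₁⟩, ⟨k₁, hk₁⟩⟩, hP⟩ := hK.surjective P
  obtain ⟨⟨⟨z₂, hz₂⟩, ⟨k₂, hk₂⟩⟩, hD⟩ := hK.surjective D
  simp only at hP hD
  have hSK : S ∈ K := by
    have e1 : S = P * D * P⁻¹ * D⁻¹ := by rw [hPD]; group
    have c1 : ∀ x, z₁ * x = x * z₁ := fun x => (Subgroup.mem_center_iff.1 hz₁ x).symm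
    have c2 : ∀ x, z₂ * x = x * z₂ := fun x => (Subgroup.mem_center_iff.1 hz₂ x).symm
    have e2 : P * D * P⁻¹ * D⁻¹ = k₁ * k₂ * k₁⁻¹ * k₂⁻¹ := by
      rw [← hP, ← hD, mul_inv_rev, mul_inv_rev]
      calc z₁ * k₁ * (z₂ * k₂) * (k₁⁻¹ * z₁⁻¹) * (k₂⁻¹ * z₂⁻¹)
          = z₁ * (k₁ * z₂) * k₂ * k₁⁻¹ * z₁⁻¹ * k₂⁻¹ * z₂⁻¹ := by group
        _ = z₁ * z₂ * (k₁ * k₂ * k₁⁻¹) * z₁⁻¹ * k₂⁻¹ * z₂⁻¹ := by rw [← c2]; group
        _ = z₂ * (k₁ * k₂ * k₁⁻¹) * k₂⁻¹ * z₂⁻¹ := by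
          rw [mul_assoc z₁ z₂, c1 (z₂ * _)]; group
        _ = k₁ * k₂ * k₁⁻¹ * k₂⁻¹ := by
          rw [mul_assoc z₂, c2]; group
    rw [e1, e2]
    exact K.mul_mem (K.mul_mem (K.mul_mem hk₁ hk₂) (K.inv_mem hk₁)) (K.inv_mem hk₂)
  have h1 : S ∈ Subgroup.center (Matrix.SpecialLinearGroup (Fin 3) F) ⊓ K := ⟨hSZ, hSK⟩
  rw [hK.disjoint.eq_bot, Subgroup.mem_bot] at h1
  have h2 := congrArg (fun M : Matrix (Fin 3) (Fin 3) F => M 0 0) ((congrArg Subtype.val h1).symm.trans hS)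
  simp at h2
  exact hω1 h2.symm

end Cfsg.Agent.S2738
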