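import Cfsg.Statements.S2739
import Mathlib
import Cfsg.Agent.Lib.LinearGroups.Basic

set_option autoImplicit false
open scoped Pointwise
open Cfsg

namespace Cfsg.Agent.S2739

/-- Sum of codes. -/
def addC : Fin 4 → Fin 4 → Fin 4 := fun a b => (![![0, 1, 2, 3], ![1, 0, 3, 2], ![2, 3, 0, 1], ![3, 2, 1, 0]] a) b

/-- Product of codes. -/
def mulC : Fin 4 → Fin 4 → Fin 4 := fun a b => (![![0, 0, 0, 0], ![0, 1, 2, 3], ![0, 2, 3, 1], ![0, 3, 1, 2]] a) b

/-- Product of coded matrices. -/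
def mmC (A B : Matrix (Fin 3) (Fin 3) (Fin 4)) : Matrix (Fin 3) (Fin 3) (Fin 4) := fun i j =>
  addC (addC (mulC (A i 0) (B 0 j)) (mulC (A i 1) (B 1 j))) (mulC (A i 2) (B 2 j))

/-- Determinant of a coded matrix. -/
def detC (A : Matrix (Fin 3) (Fin 3) (Fin 4)) : Fin 4 :=
  let m : Fin 4 → Fin 4 → Fin 4 → Fin 4 := fun x y z => mulC (mulC x y) z
  addC (addC (addC (addC (addC (m (A 0 0) (A 1 1) (A 2 2)) (m (A 0 0) (A 1 2) (A 2 1)))
    (m (A 0 1) (A 1 0) (A 2 2))) (m (A 0 1) (A 1 2) (A 2 0))) (m (A 0 2) (A 1 0) (A 2 1)))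
    (m (A 0 2) (A 1 1) (A 2 0))

/-- Scalar multiple. -/
def scC (s : Fin 4) (A : Matrix (Fin 3) (Fin 3) (Fin 4)) : Matrix (Fin 3) (Fin 3) (Fin 4) :=
  fun i j => mulC s (A i j)

/-- The nine elements. -/
def elC : Fin 9 → Matrix (Fin 3) (Fin 3) (Fin 4) := fun k => ![
  ![![1, 0, 0], ![0, 1, 0], ![0, 0, 1]],
  ![![0, 1, 0], ![0, 0, 1], ![1, 0, 0]],
  ![![0, 0, 1], ![1, 0, 0], ![0, 1, 0]],
  ![![1, 0, 0], ![0, 2, 0], ![0, 0, 3]],
  ![![0, 1, 0], ![0, 0, 2], ![3, 0, 0]],
  ![![0, 0, 1], ![2, 0, 0], ![0, 3, 0]],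
  ![![1, 0, 0], ![0, 3, 0], ![0, 0, 2]],
  ![![0, 1, 0], ![0, 0, 3], ![2, 0, 0]],
  ![![0, 0, 1], ![3, 0, 0], ![0, 2, 0]]] k

/-- Products. -/
def opC : Fin 9 → Fin 9 → Fin 9 × Fin 4 := fun i j => (![
  ![(0, 1), (1, 1), (2, 1), (3, 1), (4, 1), (5, 1), (6, 1), (7, 1), (8, 1)],
  ![(1, 1), (2, 1), (0, 1), (4, 2), (5, 2), (3, 2), (7, 3), (8, 3), (6, 3)],
  ![(2, 1), (0, 1), (1, 1), (5, 3), (3, 3), (4, 3), (8, 2), (6, 2), (7, 2)],
  ![(3, 1), (4, 1), (5, 1), (6, 1), (7, 1), (8, 1), (0, 1), (1, 1), (2, 1)],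
  ![(4, 1), (5, 1), (3, 1), (7, 2), (8, 2), (6, 2), (1, 3), (2, 3), (0, 3)],
  ![(5, 1), (3, 1), (4, 1), (8, 3), (6, 3), (7, 3), (2, 2), (0, 2), (1, 2)],
  ![(6, 1), (7, 1), (8, 1), (0, 1), (1, 1), (2, 1), (3, 1), (4, 1), (5, 1)],
  ![(7, 1), (8, 1), (6, 1), (1, 2), (2, 2), (0, 2), (4, 3), (5, 3), (3, 3)],
  ![(8, 1), (6, 1), (7, 1), (2, 3), (0, 3), (1, 3), (5, 2), (3, 2), (4, 2)]] i) j

/-- Conjugators. -/
def cjC : Fin 8 → Matrix (Fin 3) (Fin 3) (Fin 4) × Fin 4 := fun k => ![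
  (![![1, 1, 1], ![1, 2, 3], ![1, 3, 2]], 1),
  (![![1, 1, 1], ![1, 3, 2], ![1, 2, 3]], 1),
  (![![0, 0, 1], ![1, 0, 0], ![0, 1, 0]], 3),
  (![![1, 1, 2], ![1, 2, 1], ![3, 2, 2]], 1),
  (![![1, 1, 3], ![1, 3, 1], ![2, 3, 3]], 3),
  (![![0, 0, 1], ![0, 1, 0], ![1, 0, 0]], 3),
  (![![1, 1, 3], ![1, 2, 2], ![2, 1, 2]], 1),
  (![![1, 1, 2], ![1, 3, 3], ![3, 1, 3]], 2)] k

theorem el_det : ∀ i, detC (elC i) = 1 := by decide +kernel
theorem cj_det : ∀ k, detC (cjC k).1 = 1 ∧ (cjC k).2 ≠ 0 ∧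
    mmC (cjC k).1 (elC 3) = scC (cjC k).2 (mmC (elC k.succ) (cjC k).1) := by decide +kernel
theorem op_ok : ∀ i j, (opC i j).2 ≠ 0 ∧ mmC (elC i) (elC j) = scC (opC i j).2 (elC (opC i j).1) := by
  decide +kernel
theorem el_sep : ∀ i j, i ≠ j → ∀ s : Fin 4, elC i ≠ scC s (elC j) := by decide +kernel

theorem mulC_inv : ∀ c, c ≠ 0 → ∃ d, mulC c d = 1 := by decide +kernel

theorem cjp_det : ∀ k : Fin 8, detC (mmC (elC k.succ) (cjC k).1) = 1 ∧
    mmC (elC k.succ) (cjC k).1 = scC 1 (mmC (elC k.succ) (cjC k).1) := by decide +kernel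

theorem el_zero' : mmC (elC 0) (elC 0) = scC 1 (elC 0) := by decide +kernel

variable {F : Type*} [Field F]

/-- The field element of a code. -/
def dec (w : F) : Fin 4 → F := ![0, 1, w, w + 1]

variable {w : F} (hw : w ^ 2 + w + 1 = 0) (h2 : (2 : F) = 0)

include h2 in
theorem dec_add (a b : Fin 4) : dec w (addC a b) = dec w a + dec w b := by
  fin_cases a <;> fin_cases b <;> simp [dec, addC] <;>
    first
    | linear_combination (0 : F) * h2
    | linear_combination -h2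
    | linear_combination -w * h2
    | linear_combination -(w + 1) * h2

include hw h2 in
theorem dec_mul (a b : Fin 4) : dec w (mulC a b) = dec w a * dec w b := by
  fin_cases a <;> fin_cases b <;> simp [dec, mulC] <;>
    first
    | linear_combination -hw + (w + 1) * h2
    | linear_combination -hw + h2
    | linear_combination -hw + w * h2
    | linear_combination -hw
    | linear_combination (w + 1) * h2 - hw

include hw h2 in
theorem dec_inj : Function.Injective (dec w) := by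
  have hne : ∀ c : Fin 4, c ≠ 0 → dec w c ≠ 0 := by
    intro c hc h
    obtain ⟨d, hd⟩ := mulC_inv c hc
    have := dec_mul hw h2 c d
    rw [hd, h, zero_mul] at this
    simp [dec] at this
  intro a b h
  have hc : dec w (addC a b) = 0 := by rw [dec_add h2, h, ← two_mul, h2, zero_mul]
  have h0 : addC a b = 0 := by
    by_contra hne0
    exact hne _ hne0 hc
  clear h hc
  revert a b
  decide

/-- The matrix of a coded matrix. -/
def decM (w : F) (A : Matrix (Fin 3) (Fin 3) (Fin 4)) : Matrix (Fin 3) (Fin 3) F := fun i j =>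
  dec w (A i j)

include hw h2 in
theorem decM_mul (A B : Matrix (Fin 3) (Fin 3) (Fin 4)) :
    decM w (mmC A B) = decM w A * decM w B := by
  ext i j
  rw [Matrix.mul_apply, Fin.sum_univ_three]
  simp only [decM, mmC, dec_add h2, dec_mul hw h2]

include hw h2 in
theorem decM_det {A : Matrix (Fin 3) (Fin 3) (Fin 4)} (h : detC A = 1) : (decM w A).det = 1 := by
  have e := congrArg (dec w) h
  simp only [detC, dec_add h2, dec_mul hw h2] at e
  have e1 : dec w 1 = 1 := by simp [dec]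
  rw [e1] at e
  rw [Matrix.det_fin_three]
  simp only [decM]
  linear_combination e - (dec w (A 0 0) * dec w (A 1 2) * dec w (A 2 1) +
    dec w (A 0 1) * dec w (A 1 0) * dec w (A 2 2) + dec w (A 0 2) * dec w (A 1 1) * dec w (A 2 0)) * h2

/-- The element of the special linear group. -/
def slM (w : F) (A : Matrix (Fin 3) (Fin 3) (Fin 4)) (h : (decM w A).det = 1) :
    Matrix.SpecialLinearGroup (Fin 3) F := ⟨decM w A, h⟩

/-- The element of the projective group. -/
noncomputable def pe (w : F) (A : Matrix (Fin 3) (Fin 3) (Fin 4)) :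
    Matrix.ProjectiveSpecialLinearGroup (Fin 3) F := by
  classical exact
  if h : (decM w A).det = 1 then
    QuotientGroup.mk (slM w A h) else 1

include hw h2 in
theorem pe_rel {A B C : Matrix (Fin 3) (Fin 3) (Fin 4)} {s : Fin 4}
    (hA : detC A = 1) (hB : detC B = 1) (hC : detC C = 1) (_hs : s ≠ 0)
    (h : mmC A B = scC s C) : pe w A * pe w B = pe w C := by
  rw [pe, pe, pe, dif_pos (decM_det hw h2 hA), dif_pos (decM_det hw h2 hB),
    dif_pos (decM_det hw h2 hC), ← QuotientGroup.mk_mul, QuotientGroup.eq]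
  set SA : Matrix.SpecialLinearGroup (Fin 3) F := slM w A (decM_det hw h2 hA)
  set SB : Matrix.SpecialLinearGroup (Fin 3) F := slM w B (decM_det hw h2 hB)
  set SC : Matrix.SpecialLinearGroup (Fin 3) F := slM w C (decM_det hw h2 hC)
  have hm : (SA * SB).1 = dec w s • SC.1 := by
    show decM w A * decM w B = dec w s • decM w C
    rw [← decM_mul hw h2, h]
    ext i j
    simp only [decM, scC, dec_mul hw h2, Matrix.smul_apply, smul_eq_mul]
  have hdet : (dec w s) ^ 3 = 1 := by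
    have := congrArg Matrix.det hm
    rw [Matrix.det_smul, (SA * SB).2, SC.2, mul_one, Fintype.card_fin] at this
    exact this.symm
  have hzc : ∃ z ∈ Subgroup.center (Matrix.SpecialLinearGroup (Fin 3) F), SA * SB = SC * z := by
    refine ⟨⟨Matrix.scalar (Fin 3) (dec w s), by simp [hdet]⟩,
      Matrix.SpecialLinearGroup.mem_center_iff.2 ⟨dec w s, by simpa using hdet, rfl⟩,
      Subtype.ext ?_⟩
    refine hm.trans ?_
    show dec w s • SC.1 = SC.1 * Matrix.scalar (Fin 3) (dec w s)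
    simp [Matrix.smul_eq_mul_diagonal]
  obtain ⟨z, hz, hze⟩ := hzc
  rw [hze, show (SC * z)⁻¹ * SC = z⁻¹ by group]
  exact Subgroup.inv_mem _ hz

/-- In the projective special linear group PSL(3, 4) all subgroups of order 3 are conjugate. -/
theorem result (F : Type*) [Field F] [Fintype F] (hF : Fintype.card F = 4) (X Y : Subgroup (Matrix.ProjectiveSpecialLinearGroup (Fin 3) F)) (hX : Nat.card ↥X = 3) (hY : Nat.card ↥Y = 3) : ∃ g : Matrix.ProjectiveSpecialLinearGroup (Fin 3) F, MulAut.conj g • X = Y := by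
  classical
  obtain ⟨w, hw, h2⟩ : ∃ w : F, w ^ 2 + w + 1 = 0 ∧ (2 : F) = 0 := by
    obtain ⟨p, hp⟩ := CharP.exists F
    have := Fact.mk (CharP.char_is_prime F p)
    obtain ⟨m, -, hm⟩ := FiniteField.card F p
    rw [hF] at hm
    have hp2 : p = 2 := (Nat.prime_dvd_prime_iff_eq Fact.out Nat.prime_two).1
      ((Fact.out : p.Prime).dvd_of_dvd_pow (n := 2) (by rw [show (2 : ℕ) ^ 2 = p ^ (m : ℕ) by rw [← hm]; norm_num]; exact dvd_pow_self p m.ne_zero))
    subst hp2
    have h2 : (2 : F) = 0 := CharTwo.two_eq_zero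
    have : ¬ (Finset.univ : Finset F) ⊆ {0, 1} := fun h => by
      have h1 := Finset.card_le_card h
      rw [Finset.card_univ] at h1
      have h3 : ({0, 1} : Finset F).card ≤ 2 := Finset.card_le_two
      omega
    obtain ⟨x, -, hx⟩ := Finset.not_subset.1 this
    simp only [Finset.mem_insert, Finset.mem_singleton, not_or] at hx
    refine ⟨x, ?_, h2⟩
    have h3 : x ^ 3 = 1 := by
      have := FiniteField.pow_card_sub_one_eq_one x hx.1
      rwa [hF] at this
    have : (x - 1) * (x ^ 2 + x + 1) = 0 := by linear_combination h3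
    exact (mul_eq_zero.1 this).resolve_left (sub_ne_zero.2 hx.2)
  let G := Matrix.ProjectiveSpecialLinearGroup (Fin 3) F
  let f : Fin 9 → G := fun i => pe w (elC i)
  have hmul : ∀ i j, f i * f j = f (opC i j).1 := fun i j =>
    pe_rel hw h2 (el_det i) (el_det j) (el_det _) (op_ok i j).1 (op_ok i j).2
  have hf0 : f 0 = 1 := mul_eq_left.1 (pe_rel hw h2 (el_det 0) (el_det 0) (el_det 0)
    (s := 1) (by decide) el_zero')
  have hinj : Function.Injective f := by
    intro i j hij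
    by_contra hne
    simp only [f, pe, dif_pos (decM_det hw h2 (el_det i)), dif_pos (decM_det hw h2 (el_det j))] at hij
    obtain ⟨SI, hSI⟩ : ∃ S : Matrix.SpecialLinearGroup (Fin 3) F, S = slM w _ (decM_det hw h2 (el_det i)) :=
      ⟨_, rfl⟩
    obtain ⟨SJ, hSJ⟩ : ∃ S : Matrix.SpecialLinearGroup (Fin 3) F, S = slM w _ (decM_det hw h2 (el_det j)) :=
      ⟨_, rfl⟩
    have hI : SI.1 = decM w (elC i) := by rw [hSI]; rfl
    have hJ : SJ.1 = decM w (elC j) := by rw [hSJ]; rfl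
    rw [← hSI, ← hSJ] at hij
    obtain ⟨z, hz, hze⟩ : ∃ z ∈ Subgroup.center (Matrix.SpecialLinearGroup (Fin 3) F), SI = SJ * z :=
      ⟨_, QuotientGroup.eq.1 hij.symm, (mul_inv_cancel_left _ _).symm⟩
    obtain ⟨r, -, hr⟩ := Matrix.SpecialLinearGroup.mem_center_iff.1 hz
    obtain ⟨c, hc⟩ : ∃ c : Fin 4, dec w c = r := by
      have hb : Function.Bijective (dec w) := (Fintype.bijective_iff_injective_and_card _).2
        ⟨dec_inj hw h2, by rw [hF, Fintype.card_fin]⟩
      exact hb.2 r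
    apply el_sep i j hne c
    ext a b
    refine congrArg Fin.val (dec_inj hw h2 ?_)
    have e := congrFun (congrFun (congrArg Subtype.val hze) a) b
    rw [Matrix.SpecialLinearGroup.coe_mul, ← hr, hI, hJ] at e
    simp only [Matrix.scalar_apply, Matrix.mul_diagonal, decM] at e
    rw [show scC c (elC j) a b = mulC c (elC j a b) from rfl, dec_mul hw h2, hc, e, mul_comm]
  let N : Submonoid G :=
    { carrier := Set.range f
      one_mem' := ⟨0, hf0⟩
      mul_mem' := by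
        rintro _ _ ⟨a, rfl⟩ ⟨b, rfl⟩
        exact ⟨_, (hmul a b).symm⟩ }
  let P : Subgroup G := { N with
    inv_mem' := fun {x} hx => by
      have h : x * x ^ (orderOf x - 1) = 1 := by
        rw [← pow_succ', Nat.sub_add_cancel (orderOf_pos x), pow_orderOf_eq_one]
      rw [inv_eq_of_mul_eq_one_right h]
      exact N.pow_mem hx _ }
  have hP : Nat.card P = 9 := by
    show Nat.card (Set.range f) = 9
    rw [Nat.card_range_of_injective hinj, Nat.card_fin]
  have hcard : Nat.card G = 20160 := by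
    have hNF : Nat.card F = 4 := by rw [Nat.card_eq_fintype_card, hF]
    have h := Cfsg.Agent.LinGrp.natCard_SL_mul (F := F) 3 (by norm_num)
    rw [hF, Fin.prod_univ_three] at h
    simp only [Fin.val_zero, Fin.val_one, Fin.val_two] at h
    norm_num at h
    have h' := Cfsg.Agent.LinGrp.natCard_PSL_mul (n := Fin 3) (F := F)
    rw [hNF, Fintype.card_fin] at h'
    norm_num at h'
    simp only [← Nat.card_eq_fintype_card] at h h' ⊢
    show Nat.card (Matrix.ProjectiveSpecialLinearGroup (Fin 3) F) = 20160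
    omega
  have hPp : IsPGroup 3 P := IsPGroup.of_card (n := 2) (by rw [hP]; norm_num)
  have hidx : ¬ 3 ∣ P.index := by
    have := P.index_mul_card
    rw [hP, hcard] at this
    omega
  have : Fact (Nat.Prime 3) := ⟨by norm_num⟩
  have key : ∀ Z : Subgroup G, Nat.card Z = 3 → ∃ g : G, MulAut.conj g • Subgroup.zpowers (f 3) = Z := by
    intro Z hZ
    obtain ⟨S, hS⟩ := (IsPGroup.of_card (p := 3) (n := 1) (by rw [hZ]; norm_num) :
      IsPGroup 3 Z).exists_le_sylow
    obtain ⟨g, hg⟩ := MulAction.exists_smul_eq G (hPp.toSylow hidx) S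
    have hgS : MulAut.conj g • P = (S : Subgroup G) := by rw [← hg]; rfl
    obtain ⟨z, hz, hz1⟩ := (Subgroup.ne_bot_iff_exists_ne_one (H := Z)).1 (by
      intro h; rw [h, Subgroup.card_bot] at hZ; omega) |> fun ⟨z, hz⟩ =>
        (⟨z.1, z.2, fun h => hz (Subtype.ext h)⟩ : ∃ z : G, z ∈ Z ∧ z ≠ 1)
    have hzS := hS hz
    rw [← hgS] at hzS
    obtain ⟨x, hx, hxz⟩ := hzS
    obtain ⟨i, rfl⟩ := hx
    have hi : i ≠ 0 := fun h => hz1 (by rw [← hxz, h, hf0]; simp)
    obtain ⟨k, rfl⟩ := Fin.exists_succ_eq.2 hi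
    obtain ⟨c1, c2, c3⟩ := cj_det k
    have hq := (cjp_det k).1
    have e1 : pe w (cjC k).1 * f 3 = pe w (mmC (elC k.succ) (cjC k).1) :=
      pe_rel hw h2 c1 (el_det 3) hq c2 c3
    have e2 : f k.succ * pe w (cjC k).1 = pe w (mmC (elC k.succ) (cjC k).1) :=
      pe_rel hw h2 (el_det _) c1 hq (s := 1) (by decide) (cjp_det k).2
    refine ⟨g * pe w (cjC k).1, ?_⟩
    have hconj : g * pe w (cjC k).1 * f 3 * (g * pe w (cjC k).1)⁻¹ = z := by
      rw [show g * pe w (cjC k).1 * f 3 = g * (pe w (cjC k).1 * f 3) by group, e1, ← e2,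
        ← hxz]
      show g * (f k.succ * pe w (cjC k).1) * (g * pe w (cjC k).1)⁻¹ = g * f k.succ * g⁻¹
      group
    show (Subgroup.zpowers (f 3)).map (MulAut.conj (g * pe w (cjC k).1)).toMonoidHom = Z
    rw [MonoidHom.map_zpowers]
    refine Subgroup.eq_of_le_of_card_ge ?_ ?_
    · rw [Subgroup.zpowers_le]
      show g * pe w (cjC k).1 * f 3 * (g * pe w (cjC k).1)⁻¹ ∈ Z
      rw [hconj]; exact hz
    · rw [hZ, Nat.card_zpowers]
      show 3 ≤ orderOf (g * pe w (cjC k).1 * f 3 * (g * pe w (cjC k).1)⁻¹)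
      rw [hconj]
      have hd : orderOf z ∣ 3 := by
        have := orderOf_dvd_natCard (⟨z, hz⟩ : Z)
        rwa [Subgroup.orderOf_mk, hZ] at this
      rcases (Nat.dvd_prime (by norm_num)).1 hd with h | h
      · exact absurd (orderOf_eq_one_iff.1 h) hz1
      · omega
  obtain ⟨g, hg⟩ := key X hX
  obtain ⟨g', hg'⟩ := key Y hY
  exact ⟨g' * g⁻¹, by rw [map_mul, map_inv, mul_smul, ← hg, inv_smul_smul, hg']⟩

end Cfsg.Agent.S2739
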