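import Cfsg.Statements.S2756
import Cfsg.Agent.Lib.ZJWeight.Failure
import Cfsg.Agent.Lib.FGB.RealOdd

set_option autoImplicit false
open Cfsg

namespace Cfsg.Agent.S2756

/-- A non-trivial `q`-element inverted in `G` forces one inverted in `N(Z(J(T)))`. -/
theorem exists_inverted {G : Type*} [Group G] [Finite G] {q : ℕ} [Fact q.Prime] (hq2 : q ≠ 2)
    (T : Sylow q G) {z g : G} (hz : orderOf z = q) (hg : g * z * g⁻¹ = z⁻¹) :
    ∃ x ∈ (T : Subgroup G), x ≠ 1 ∧ ∃ k ∈ Subgroup.normalizer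
      (Cfsg.centerThompsonAOf (T : Subgroup G) : Set G), k * x * k⁻¹ = x⁻¹ := by
  have hq := (Fact.out : q.Prime)
  rw [← Transfer.ZJAb_zero]
  by_cases hc : ZJWeight.Ctrl (T : Subgroup G)
  · have hp : IsPGroup q (Subgroup.zpowers z) :=
      IsPGroup.of_card (n := 1) (by rw [Nat.card_zpowers, hz, pow_one])
    obtain ⟨c, -, hc'⟩ := ConjFunctor.exists_conj_le_of_isSylIn (ConjFunctor.isSylIn_top T)
      (le_top : Subgroup.zpowers z ≤ ⊤) hp
    have hx : c * z * c⁻¹ ∈ (T : Subgroup G) := hc' ⟨z, Subgroup.mem_zpowers z, rfl⟩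
    have hgx : (c * g * c⁻¹) * (c * z * c⁻¹) * (c * g * c⁻¹)⁻¹ = (c * z * c⁻¹)⁻¹ := by
      calc (c * g * c⁻¹) * (c * z * c⁻¹) * (c * g * c⁻¹)⁻¹ = c * (g * z * g⁻¹) * c⁻¹ := by group
        _ = _ := by rw [hg]; group
    obtain ⟨k, hk, he⟩ := hc (Subgroup.zpowers (c * z * c⁻¹)) (c * g * c⁻¹)
      (Subgroup.zpowers_le.mpr hx) (by
        rw [ConjFunctor.cj, MonoidHom.map_zpowers, Subgroup.zpowers_le]
        show c * g * c⁻¹ * (c * z * c⁻¹) * (c * g * c⁻¹)⁻¹ ∈ T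
        rw [hgx]
        exact inv_mem hx)
    refine ⟨_, hx, fun h1 => ?_, k, hk, (he _ (Subgroup.mem_zpowers _)).trans hgx⟩
    rw [conj_eq_one_iff.mp h1, orderOf_one] at hz
    exact hq.one_lt.ne hz
  · obtain ⟨a, ha⟩ := IsCyclic.exists_generator (α := (ZMod q)ˣ)
    obtain ⟨⟨c, hcZ, hc1, hcp, k, hk, hkc⟩, -⟩ := ZJWeight.failure hq2 ha T hc
    obtain ⟨i, hi⟩ := ZJWeight.exists_pow_of_units ha (-1)
    refine ⟨c, Transfer.ZJAb_le _ hcZ, hc1, k ^ i, pow_mem hk i, ?_⟩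
    have key : ∀ j : ℕ, k ^ j * c * (k ^ j)⁻¹ = c ^ ((a : ZMod q).val ^ j) := by
      intro j
      induction j with
      | zero => simp
      | succ j ihj =>
        calc k ^ (j + 1) * c * (k ^ (j + 1))⁻¹ = k * (k ^ j * c * (k ^ j)⁻¹) * k⁻¹ := by
              rw [pow_succ']; group
          _ = (k * c * k⁻¹) ^ ((a : ZMod q).val ^ j) := by rw [ihj, conj_pow]
          _ = c ^ ((a : ZMod q).val ^ (j + 1)) := by rw [hkc, ← pow_mul, pow_succ']
    rw [key]
    refine eq_inv_of_mul_eq_one_left ?_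
    rw [← pow_succ, ← orderOf_dvd_iff_pow_eq_one, orderOf_eq_prime hcp hc1,
      ← ZMod.natCast_eq_zero_iff, Nat.cast_add, Nat.cast_pow, Nat.cast_one, ← hi]
    simp

/-- In a group with a normal Sylow `2`-subgroup no element of odd order is inverted. -/
theorem not_inverted {N : Type*} [Group N] [Finite N] (hN : ∀ P : Sylow 2 N, (P : Subgroup N).Normal)
    {x g : N} (hx : (orderOf x).Coprime 2) (hg : g * x * g⁻¹ = x⁻¹) : x = 1 := by
  haveI : Fact (Nat.Prime 2) := ⟨Nat.prime_two⟩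
  obtain ⟨P⟩ : Nonempty (Sylow 2 N) := inferInstance
  haveI := hN P
  have h1 : ((g : N ⧸ (P : Subgroup N))) * (x : N ⧸ (P : Subgroup N)) * (g : N ⧸ (P : Subgroup N))⁻¹ =
      ((x : N ⧸ (P : Subgroup N)))⁻¹ := by
    rw [← QuotientGroup.mk_inv, ← QuotientGroup.mk_mul, ← QuotientGroup.mk_mul, hg,
      QuotientGroup.mk_inv]
  set g' : N ⧸ (P : Subgroup N) := (g : N ⧸ (P : Subgroup N))
  set x' : N ⧸ (P : Subgroup N) := (x : N ⧸ (P : Subgroup N))
  have hsq : g' ^ 2 * x' * (g' ^ 2)⁻¹ = x' := by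
    calc g' ^ 2 * x' * (g' ^ 2)⁻¹ = g' * (g' * x' * g'⁻¹) * g'⁻¹ := by rw [sq]; group
      _ = g' * x'⁻¹ * g'⁻¹ := by rw [h1]
      _ = (g' * x' * g'⁻¹)⁻¹ := by group
      _ = x' := by rw [h1, inv_inv]
  have hodd : ¬ 2 ∣ orderOf g' := fun h => P.not_dvd_index (h.trans (by
    rw [Subgroup.index]; exact orderOf_dvd_natCard g'))
  obtain ⟨j, hj⟩ := Nat.odd_iff.mpr (Nat.two_dvd_ne_zero.mp hodd)
  have hcomm : Commute g' x' := by
    have h2 : Commute (g' ^ 2) x' := mul_inv_eq_iff_eq_mul.mp hsq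
    have h3 : g' = ((g' ^ 2) ^ j)⁻¹ := eq_inv_of_mul_eq_one_left (by
      rw [← pow_mul, ← pow_succ', ← hj, pow_orderOf_eq_one])
    rw [h3]
    exact (h2.pow_left j).inv_left
  have hx2 : x' ^ 2 = 1 := by
    rw [hcomm.eq, mul_inv_cancel_right] at h1
    rw [sq]; exact mul_eq_one_iff_eq_inv.mpr h1
  have hdx : orderOf x' ∣ orderOf x := orderOf_map_dvd (QuotientGroup.mk' (P : Subgroup N)) x
  have hxP : x ∈ (P : Subgroup N) := by
    rw [← QuotientGroup.eq_one_iff]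
    exact orderOf_eq_one_iff.mp (Nat.eq_one_of_dvd_coprimes hx hdx (orderOf_dvd_of_pow_eq_one hx2))
  obtain ⟨k, hk⟩ := P.2.exists_card_eq
  refine orderOf_eq_one_iff.mp (Nat.eq_one_of_dvd_coprimes (hx.pow_right k) dvd_rfl ?_)
  rw [← hk, ← Subgroup.orderOf_mk x hxP]
  exact orderOf_dvd_natCard _


/-- For a finite group G the following are equivalent: (a) G has a normal Sylow 2-subgroup; (b) for every odd prime q dividing the order of G and every Sylow q-subgroup T, the normalizer of Z(J(T)) has a normal Sylow 2-subgroup; (c) for every odd prime q and every Sylow q-subgroup T, no nonidentity element of T is inverted by an element of the normalizer of Z(J(T)). Here J(T) is the Thompson subgroup generated by the abelian subgroups of T of largest order. Stated as the two equivalences (a) ⇔ (b) and (a) ⇔ (c). -/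
theorem result {G : Type*} [Group G] [Finite G] : ((∀ P : Sylow 2 G, (P : Subgroup G).Normal) ↔ ∀ (q : ℕ) [Fact q.Prime], q ≠ 2 → q ∣ Nat.card G → ∀ T : Sylow q G, ∀ P : Sylow 2 ↥(Subgroup.normalizer (Cfsg.centerThompsonAOf (T : Subgroup G) : Set G)), (P : Subgroup ↥(Subgroup.normalizer (Cfsg.centerThompsonAOf (T : Subgroup G) : Set G))).Normal) ∧ ((∀ P : Sylow 2 G, (P : Subgroup G).Normal) ↔ ∀ (q : ℕ) [Fact q.Prime], q ≠ 2 → ∀ T : Sylow q G, ∀ x ∈ (T : Subgroup G), x ≠ 1 → ∀ g ∈ Subgroup.normalizer (Cfsg.centerThompsonAOf (T : Subgroup G) : Set G), g * x * g⁻¹ ≠ x⁻¹) := by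
  haveI : Fact (Nat.Prime 2) := ⟨Nat.prime_two⟩
  have hab : (∀ P : Sylow 2 G, (P : Subgroup G).Normal) → ∀ H : Subgroup G, ∀ P : Sylow 2 H,
      (P : Subgroup H).Normal := by
    intro h H P
    obtain ⟨Q, hQ⟩ := Sylow.exists_comap_subtype_eq P
    haveI := h Q
    rw [← hQ]
    infer_instance
  have hbc : (∀ (q : ℕ) [Fact q.Prime], q ≠ 2 → q ∣ Nat.card G → ∀ T : Sylow q G,
      ∀ P : Sylow 2 ↥(Subgroup.normalizer (Cfsg.centerThompsonAOf (T : Subgroup G) : Set G)),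
        (P : Subgroup ↥(Subgroup.normalizer (Cfsg.centerThompsonAOf (T : Subgroup G) : Set G))).Normal) →
      ∀ (q : ℕ) [Fact q.Prime], q ≠ 2 → ∀ T : Sylow q G, ∀ x ∈ (T : Subgroup G), x ≠ 1 →
        ∀ g ∈ Subgroup.normalizer (Cfsg.centerThompsonAOf (T : Subgroup G) : Set G),
          g * x * g⁻¹ ≠ x⁻¹ := by
    intro h q _ hq2 T x hx hx1 g hg he
    obtain ⟨k, hk⟩ := (IsPGroup.iff_orderOf.mp T.2) ⟨x, hx⟩
    rw [Subgroup.orderOf_mk] at hk
    have hk0 : k ≠ 0 := fun h0 => hx1 (orderOf_eq_one_iff.mp (by rw [hk, h0, pow_zero]))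
    have hqd : q ∣ Nat.card G :=
      (hk ▸ dvd_pow_self q hk0 : q ∣ orderOf x).trans (orderOf_dvd_natCard x)
    have hxN : x ∈ Subgroup.normalizer (Cfsg.centerThompsonAOf (T : Subgroup G) : Set G) := by
      rw [← Transfer.ZJAb_zero]
      exact Transfer.normalizer_le_normalizer_ZJAb _ (Subgroup.le_normalizer hx)
    have h1 := not_inverted (h q hq2 hqd T) (x := ⟨x, hxN⟩) (g := ⟨g, hg⟩) (by
      rw [Subgroup.orderOf_mk, hk]
      exact Nat.Coprime.pow_left k ((Nat.coprime_primes Fact.out Nat.prime_two).mpr hq2))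
      (Subtype.ext he)
    exact hx1 (congrArg Subtype.val h1)
  have hca : (∀ (q : ℕ) [Fact q.Prime], q ≠ 2 → ∀ T : Sylow q G, ∀ x ∈ (T : Subgroup G), x ≠ 1 →
        ∀ g ∈ Subgroup.normalizer (Cfsg.centerThompsonAOf (T : Subgroup G) : Set G),
          g * x * g⁻¹ ≠ x⁻¹) → ∀ P : Sylow 2 G, (P : Subgroup G).Normal := by
    intro h
    refine FGB.sylow_two_normal_of_no_real_odd _ G rfl fun z g hz hg => ?_
    by_contra hz1
    obtain ⟨q, hq, hqd⟩ := Nat.exists_prime_and_dvd (show orderOf z ≠ 1 from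
      fun h1 => hz1 (orderOf_eq_one_iff.mp h1))
    haveI := Fact.mk hq
    have hq2 : q ≠ 2 := fun e => Nat.prime_two.ne_one
      (Nat.eq_one_of_dvd_coprimes hz (e ▸ hqd) dvd_rfl)
    obtain ⟨T⟩ : Nonempty (Sylow q G) := inferInstance
    have hord : orderOf (z ^ (orderOf z / q)) = q := orderOf_pow_orderOf_div (orderOf_pos z).ne' hqd
    have hinv : g * z ^ (orderOf z / q) * g⁻¹ = (z ^ (orderOf z / q))⁻¹ := by
      rw [← conj_pow, hg, inv_pow]
    obtain ⟨x, hx, hx1, k, hk, hke⟩ := exists_inverted hq2 T hord hinv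
    exact h q hq2 T x hx hx1 k hk hke
  exact ⟨⟨fun h q _ _ _ T => hab h _, fun h => hca (hbc h)⟩,
    ⟨fun h => hbc fun q _ _ _ T => hab h _, hca⟩⟩

end Cfsg.Agent.S2756
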