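import Cfsg.Statements.S2760
import Cfsg.Agent.Lib.LocalEvenA.Core

set_option autoImplicit false
open Cfsg

namespace Cfsg.Agent.S2760

/-- Let G be a finite group with C_G(O₂(G)) ≤ O₂(G) and H a subgroup of G such that H is normal in G, or the subgroup O²(H) generated by the elements of H of odd order is normal in G. Then C_H(O₂(H)) ≤ O₂(H). -/
theorem result {G : Type*} [Group G] [Finite G] (hchar : Subgroup.centralizer (Cfsg.pCore 2 G : Set G) ≤ Cfsg.pCore 2 G) (H : Subgroup G) (hH : H.Normal ∨ ((Cfsg.pResidual 2 ↥H).map H.subtype).Normal) : Subgroup.centralizer (Cfsg.pCore 2 ↥H : Set ↥H) ≤ Cfsg.pCore 2 ↥H := by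
  classical
  have hcore : ∀ R : Subgroup G, R.Normal → R ≤ H →
      (∀ x ∈ H, (orderOf x).Coprime 2 → x ∈ R) →
      Subgroup.centralizer (Cfsg.pCore 2 ↥H : Set ↥H) ≤ Cfsg.pCore 2 ↥H := by
    intro R hR hRH hodd
    have : Fact (Nat.Prime 2) := ⟨Nat.prime_two⟩
    have hQn := Cfsg.Agent.LocalEvenA.pCore_normal' 2 G
    have hRQ : R ⊓ Cfsg.pCore 2 G ≤ Cfsg.pCoreOf 2 H := by
      refine Cfsg.Agent.LocalEvenA.le_pCoreOf (inf_le_left.trans hRH) ?_
        ((Cfsg.Agent.LocalEvenA.pCore_isPGroup' 2 G).to_le inf_le_right)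
      have : (R ⊓ Cfsg.pCore 2 G).Normal := inferInstance
      rw [Subgroup.normalizer_eq_top]; exact le_top
    have hn : (Subgroup.centralizer (Cfsg.pCore 2 ↥H : Set ↥H)).Normal := by
      have := Cfsg.Agent.LocalEvenA.pCore_normal' 2 ↥H
      infer_instance
    refine Cfsg.Agent.LocalEvenA.le_pCore_of_normal hn
      (Cfsg.Agent.LocalEvenA.isPGroup_of_forall_coprime fun x hx hc => ?_)
    have hcG : (orderOf (x : G)).Coprime 2 := by rwa [Subgroup.orderOf_coe]
    have hxR : (x : G) ∈ R := hodd x x.2 hcG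
    have hxK : ∀ y ∈ Cfsg.pCoreOf 2 H, Commute (x : G) y := by
      rintro - ⟨y, hy, rfl⟩
      exact congrArg Subtype.val (Subgroup.mem_centralizer_iff.1 hx y hy).symm
    have hxQ : (x : G) ∈ Subgroup.centralizer (Cfsg.pCore 2 G : Set G) := by
      refine Subgroup.mem_centralizer_iff.2 fun q hq => ?_
      have hm : q⁻¹ * ((x : G) * q * (x : G)⁻¹) ∈ R ⊓ Cfsg.pCore 2 G :=
        ⟨by
          have := mul_mem (hR.conj_mem' _ hxR q) (inv_mem hxR)
          simpa [mul_assoc] using this,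
         mul_mem (Subgroup.inv_mem _ hq) (hQn.conj_mem q hq _)⟩
      obtain ⟨k, hk⟩ := Cfsg.Agent.LocalEvenA.pCore_isPGroup' 2 G ⟨_, hm.2⟩
      exact (Cfsg.Agent.LocalEvenA.comm_of_coprime_chain hcG ⟨k, congrArg Subtype.val hk⟩
        (hxK _ (hRQ hm))).symm.eq
    obtain ⟨k, hk⟩ := Cfsg.Agent.LocalEvenA.pCore_isPGroup' 2 G ⟨_, hchar hxQ⟩
    exact Subtype.ext (Cfsg.Agent.LocalEvenA.eq_one_of_pPow_of_coprime (p := 2)
      (congrArg Subtype.val hk) hcG)
  rcases hH with hH | hH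
  · exact hcore H hH le_rfl fun x hx _ => hx
  · exact hcore _ hH (Subgroup.map_subtype_le _) fun x hx hc =>
      ⟨⟨x, hx⟩, Cfsg.Agent.LocalEvenA.mem_pResidual_of_coprime
        (by rwa [← Subgroup.orderOf_coe]), rfl⟩

end Cfsg.Agent.S2760
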