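import Cfsg.Statements.S2762
import Cfsg.Agent.Lib.SL2Dickson.QdFacts

set_option autoImplicit false
open Cfsg

namespace Cfsg.Agent.S2762

/-- Structure of Qd over a finite field F of characteristic p (the affine subgroup of SL₃(F)): its largest normal p-subgroup is the group of translations (matrices with upper-left block the identity), the block-diagonal matrices form a complement isomorphic to SL₂(F), and the translation subgroup is a natural SL₂(F)-module for that complement. -/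
theorem result {F : Type*} [Field F] [Fintype F] {p : ℕ} [Fact p.Prime] [CharP F p] : (∀ M : ↥(Cfsg.qdOver F), M ∈ Cfsg.pCore p ↥(Cfsg.qdOver F) ↔ ((M : Matrix.SpecialLinearGroup (Fin 3) F) : Matrix (Fin 3) (Fin 3) F) 0 0 = 1 ∧ ((M : Matrix.SpecialLinearGroup (Fin 3) F) : Matrix (Fin 3) (Fin 3) F) 0 1 = 0 ∧ ((M : Matrix.SpecialLinearGroup (Fin 3) F) : Matrix (Fin 3) (Fin 3) F) 1 0 = 0 ∧ ((M : Matrix.SpecialLinearGroup (Fin 3) F) : Matrix (Fin 3) (Fin 3) F) 1 1 = 1) ∧ ∃ K : Subgroup ↥(Cfsg.qdOver F), (∀ M : ↥(Cfsg.qdOver F), M ∈ K ↔ ((M : Matrix.SpecialLinearGroup (Fin 3) F) : Matrix (Fin 3) (Fin 3) F) 0 2 = 0 ∧ ((M : Matrix.SpecialLinearGroup (Fin 3) F) : Matrix (Fin 3) (Fin 3) F) 1 2 = 0) ∧ K ⊓ Cfsg.pCore p ↥(Cfsg.qdOver F) = ⊥ ∧ K ⊔ Cfsg.pCore p ↥(Cfsg.qdOver F) = ⊤ ∧ Nonempty (↥K ≃* Matrix.SpecialLinearGroup (Fin 2) F) ∧ Cfsg.IsNaturalSL2Module F (Cfsg.pCore p ↥(Cfsg.qdOver F)) K := by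
  have hTi : Function.Injective (Cfsg.Agent.SL2Dickson.qdTr (F := F)) := fun v w h => by
    have := (Cfsg.Agent.SL2Dickson.qdMk_inj h).1
    exact Multiplicative.toAdd.injective this
  have hLi : Function.Injective (Cfsg.Agent.SL2Dickson.qdLin (F := F)) := fun q r h =>
    (Cfsg.Agent.SL2Dickson.qdMk_inj h).2
  rw [Cfsg.Agent.SL2Dickson.pCore_qdOver (p := p) (F := F)]
  refine ⟨fun M => ?_, (Cfsg.Agent.SL2Dickson.qdLin (F := F)).range, fun M => ?_, ?_, ?_,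
    ⟨(MonoidHom.ofInjective hLi).symm⟩, ?_⟩
  · obtain ⟨v, q, rfl⟩ := Cfsg.Agent.SL2Dickson.qdMk_surj M
    constructor
    · rintro ⟨w, hw⟩
      obtain ⟨-, rfl⟩ := Cfsg.Agent.SL2Dickson.qdMk_inj hw
      simp [Cfsg.Agent.SL2Dickson.qdMk]
    · intro h
      simp [Cfsg.Agent.SL2Dickson.qdMk] at h
      obtain ⟨h1, h2, h3, h4⟩ := h
      have hq : q = 1 := by
        ext i j
        fin_cases i <;> fin_cases j <;> simp [h1, h2, h3, h4]
      exact ⟨Multiplicative.ofAdd v, by rw [hq]; rfl⟩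
  · obtain ⟨v, q, rfl⟩ := Cfsg.Agent.SL2Dickson.qdMk_surj M
    constructor
    · rintro ⟨r, hr⟩
      obtain ⟨hv, -⟩ := Cfsg.Agent.SL2Dickson.qdMk_inj hr
      subst hv
      simp [Cfsg.Agent.SL2Dickson.qdMk]
    · intro h
      simp [Cfsg.Agent.SL2Dickson.qdMk] at h
      have hv : v = 0 := by
        funext i
        fin_cases i <;> simp [h.1, h.2]
      exact ⟨q, by rw [hv]; rfl⟩
  · rw [eq_bot_iff]
    rintro _ ⟨⟨q, rfl⟩, w, hw⟩
    obtain ⟨-, rfl⟩ := Cfsg.Agent.SL2Dickson.qdMk_inj hw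
    exact Subgroup.mem_bot.mpr (map_one _)
  · rw [eq_top_iff]
    intro M _
    obtain ⟨v, q, rfl⟩ := Cfsg.Agent.SL2Dickson.qdMk_surj M
    have h : Cfsg.Agent.SL2Dickson.qdMk v q = Cfsg.Agent.SL2Dickson.qdTr (Multiplicative.ofAdd v) *
        Cfsg.Agent.SL2Dickson.qdLin q := by
      show _ = Cfsg.Agent.SL2Dickson.qdMk v 1 * Cfsg.Agent.SL2Dickson.qdMk 0 q
      rw [Cfsg.Agent.SL2Dickson.qdMk_mul]; simp
    rw [h]
    exact mul_mem (Subgroup.mem_sup_right ⟨_, rfl⟩) (Subgroup.mem_sup_left ⟨_, rfl⟩)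
  · refine ⟨fun x _ => ?_, (MonoidHom.ofInjective hLi).symm.toMonoidHom,
      MulEquiv.toAdditiveLeft (MonoidHom.ofInjective hTi).symm,
      (MonoidHom.ofInjective hLi).symm.surjective, ?_, ?_⟩
    · rw [Subgroup.normalizer_eq_top]; trivial
    · rw [(MonoidHom.ker_eq_bot_iff _).mpr (MonoidHom.ofInjective hLi).symm.injective, eq_comm,
        eq_bot_iff]
      rintro ⟨_, q, rfl⟩ hx
      obtain ⟨w, hw⟩ := Cfsg.Agent.SL2Dickson.centralizer_tr_le (Subgroup.mem_subgroupOf.mp hx)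
      obtain ⟨-, rfl⟩ := Cfsg.Agent.SL2Dickson.qdMk_inj hw
      exact Subgroup.mem_bot.mpr (Subtype.ext (map_one _))
    · rintro ⟨_, q, rfl⟩ ⟨_, v, rfl⟩
      refine ⟨⟨Cfsg.Agent.SL2Dickson.qdTr (Multiplicative.ofAdd (Matrix.mulVec (q : Matrix (Fin 2) (Fin 2) F) (Multiplicative.toAdd v))), _, rfl⟩, ?_, ?_⟩
      · exact (Cfsg.Agent.SL2Dickson.qdMk_conj_tr 0 _ q).symm
      · have hq : (MonoidHom.ofInjective hLi).symm ⟨_, q, rfl⟩ = q :=
          (MonoidHom.ofInjective hLi).symm_apply_apply q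
        have hv : ∀ w, (MonoidHom.ofInjective hTi).symm ⟨_, w, rfl⟩ = w := fun w =>
          (MonoidHom.ofInjective hTi).symm_apply_apply w
        show Multiplicative.toAdd ((MonoidHom.ofInjective hTi).symm _) = Matrix.mulVec
          (((MonoidHom.ofInjective hLi).symm _ : Matrix.SpecialLinearGroup (Fin 2) F) : Matrix (Fin 2) (Fin 2) F)
          (Multiplicative.toAdd ((MonoidHom.ofInjective hTi).symm _))
        simp only [toMul_ofMul]
        rw [hq, hv, hv]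
        rfl

end Cfsg.Agent.S2762
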