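import Cfsg.Statements.S2772
import Cfsg.Agent.Lib.LocalEvenA.SThreeAmalgam
import Cfsg.Agent.Lib.LocalEvenA.SFourInvolved
import Cfsg.Agent.Lib.LocalEvenA.Asym
import Cfsg.Agent.Lib.LocalEvenA.WeakClosed
import Cfsg.Agent.Lib.LocalEvenA.PReduced
import Cfsg.Agent.Lib.LocalEvenB.ZNComp
import Cfsg.Agent.Lib.LocalEvenB.ZNSide
import Cfsg.Agent.Lib.Transfer.MaxAbelian
import Cfsg.Agent.S2800

set_option autoImplicit false
open Cfsg

namespace Cfsg.Agent.S2772

/-- Sims' Theorem in local form: let H be a finite non-abelian simple group and G a maximal subgroup of H with C_G(O₂(G)) ≤ O₂(G), such that N_H(S) is not contained in G for a Sylow 2-subgroup S of G and G/O₂(G) is dihedral of order 2q for a prime q. Then G is isomorphic to the symmetric group of degree 4 or to its direct product with a group of order 2. -/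
theorem result {H : Type*} [Group H] [Finite H] [IsSimpleGroup H] (hna : ¬ IsMulCommutative H) (G : Subgroup H) (hG : IsCoatom G) (hchar : Subgroup.centralizer (Cfsg.pCore 2 ↥G : Set ↥G) ≤ Cfsg.pCore 2 ↥G) (S : Sylow 2 ↥G) (hN : ¬ Subgroup.normalizer (((S : Subgroup ↥G).map G.subtype : Subgroup H) : Set H) ≤ G) (q : ℕ) (hq : q.Prime) (hD : Nonempty (↥G ⧸ Cfsg.pCore 2 ↥G ≃* DihedralGroup q)) : Nonempty (↥G ≃* Equiv.Perm (Fin 4)) ∨ Nonempty (↥G ≃* Equiv.Perm (Fin 4) × Multiplicative (ZMod 2)) := by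
  haveI : Fact (Nat.Prime 2) := ⟨Nat.prime_two⟩
  obtain ⟨eD⟩ := hD
  have hQp : IsPGroup 2 (Cfsg.pCore 2 ↥G) := LocalEvenA.pCore_isPGroup' 2 ↥G
  have hcardG : Nat.card G = 2 * q * Nat.card (Cfsg.pCore 2 ↥G) := by
    rw [Subgroup.card_eq_card_quotient_mul_card_subgroup (Cfsg.pCore 2 ↥G), Nat.card_congr eD.toEquiv, DihedralGroup.nat_card]
  have hnp : ¬ IsPGroup 2 ↥G := by
    intro hp
    have : (⊤ : Subgroup ↥G) ≤ Cfsg.pCore 2 ↥G :=
      LocalEvenA.le_pCore_of_normal inferInstance (hp.to_subgroup ⊤)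
    have h1 : Nat.card (Cfsg.pCore 2 ↥G) = Nat.card G := by rw [eq_top_iff.2 this, Subgroup.card_top]
    have h2 := hq.two_le
    have h3 := Nat.card_pos (α := G)
    rw [h1] at hcardG
    nlinarith
  have hq2 : q ≠ 2 := by
    rintro rfl
    obtain ⟨k, hk⟩ := hQp.exists_card_eq
    exact hnp (IsPGroup.iff_card.2 ⟨k + 2, by rw [hcardG, hk, pow_add]; ring⟩)
  set S' := ((S : Subgroup ↥G).map G.subtype : Subgroup H) with hS'
  have hS'G : S' ≤ G := Subgroup.map_subtype_le _
  have hS'p : IsPGroup 2 S' := S.2.map _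
  have hcent : Subgroup.centralizer ((Cfsg.pCore 2 ↥G : Subgroup ↥G) : Set ↥G) ≤ Cfsg.pCore 2 ↥G := hchar
  have hS'ne : S' ≠ ⊥ := by
    intro h
    rw [hS', Subgroup.map_eq_bot_iff_of_injective _ G.subtype_injective] at h
    have hO : Cfsg.pCore 2 ↥G = ⊥ := le_bot_iff.1 (h ▸ Basics.pCore_le_sylow 2 S)
    have htop : (⊤ : Subgroup ↥G) ≤ Cfsg.pCore 2 ↥G := le_trans (fun x _ => by
      rw [Subgroup.mem_centralizer_iff]
      intro y hy
      rw [SetLike.mem_coe, hO, Subgroup.mem_bot] at hy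
      rw [hy, one_mul, mul_one]) hcent
    exact hnp (IsPGroup.of_equiv (hQp.to_le htop) Subgroup.topEquiv)
  have hNtop : ∀ X : Subgroup H, X ≠ ⊥ → X ≤ G → G ≤ Subgroup.normalizer (X : Set H) →
      Subgroup.normalizer (S' : Set H) ≤ Subgroup.normalizer (X : Set H) → False := by
    intro X hX0 hXG hGX hSX
    rcases hG.le_iff.1 hGX with h | h
    · rcases IsSimpleGroup.eq_bot_or_eq_top_of_normal X (Subgroup.normalizer_eq_top_iff.1 h) with h1 | h1
      · exact hX0 h1
      · exact hG.1 (top_le_iff.1 (h1 ▸ hXG))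
    · exact hN (h ▸ hSX)
  have hindex : (S : Subgroup ↥G).index = q := by
    obtain ⟨a, ha⟩ := hQp.exists_card_eq
    obtain ⟨b, hb⟩ := S.2.exists_card_eq
    have h1 := (S : Subgroup ↥G).card_mul_index
    have h2 : ¬ 2 ∣ (S : Subgroup ↥G).index := S.not_dvd_index
    rw [hcardG, ha, hb] at h1
    have hcop : Nat.Coprime (2 ^ b) q := ((Nat.coprime_primes Nat.prime_two hq).2 (Ne.symm hq2)).pow_left b
    have hcop2 : Nat.Coprime (S : Subgroup ↥G).index (2 * 2 ^ a) := by
      rw [← pow_succ']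
      exact ((Nat.prime_two.coprime_iff_not_dvd.2 h2).pow_left _).symm
    refine Nat.dvd_antisymm (hcop2.dvd_of_dvd_mul_left ⟨2 ^ b, ?_⟩) (hcop.symm.dvd_of_dvd_mul_left ⟨2 * 2 ^ a, ?_⟩)
    · calc 2 * 2 ^ a * q = 2 * q * 2 ^ a := by ring
        _ = 2 ^ b * (S : Subgroup ↥G).index := h1.symm
        _ = _ := mul_comm _ _
    · rw [h1]; ring
  have hmaxS : ∀ K : Subgroup ↥G, (S : Subgroup ↥G) ≤ K → K = (S : Subgroup ↥G) ∨ K = ⊤ := by
    intro K hK
    have h1 := Subgroup.relIndex_mul_index hK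
    rw [hindex] at h1
    rcases hq.eq_one_or_self_of_dvd K.index ⟨_, h1.symm.trans (mul_comm _ _)⟩ with h | h
    · exact Or.inr (Subgroup.index_eq_one.1 h)
    · refine Or.inl (le_antisymm ?_ hK)
      rw [h, mul_eq_right₀ hq.ne_zero, Subgroup.relIndex_eq_one] at h1
      exact h1
  by_cases hq3 : q = 3
  · subst hq3
    obtain ⟨i3⟩ := LocalEvenA.perm3_iso
    obtain ⟨g, hgN, hgG⟩ : ∃ g ∈ Subgroup.normalizer (S' : Set H), g ∉ G := SetLike.not_le_iff_exists.1 hN
    set c := (MulAut.conj g).toMonoidHom with hc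
    set P₂ := G.map c with hP₂
    have hcS : S'.map c = S' := LocalEvenA.mem_normalizer_iff_cj.1 hgN
    have hSP₂ : S' ≤ P₂ := hcS ▸ Subgroup.map_mono hS'G
    have hne : P₂ ≠ G := by
      intro h
      have hmem : g ∈ Subgroup.normalizer (G : Set H) := LocalEvenA.mem_normalizer_iff_cj.2 h
      rcases hG.le_iff.1 (Subgroup.le_normalizer (H := G)) with h1 | h1
      · rcases IsSimpleGroup.eq_bot_or_eq_top_of_normal G (Subgroup.normalizer_eq_top_iff.1 h1) with h2 | h2
        · exact hS'ne (le_bot_iff.1 (h2 ▸ hS'G))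
        · exact hG.1 h2
      · exact hgG (h1 ▸ hmem)
    have hcardP : Nat.card P₂ = Nat.card G := Subgroup.card_map_of_injective (MulAut.conj g).injective
    have hinf : S' = G ⊓ P₂ := by
      refine le_antisymm (le_inf hS'G hSP₂) ?_
      rcases hmaxS ((G ⊓ P₂).subgroupOf G) (fun x hx => ⟨x.2, hSP₂ ⟨x, hx, rfl⟩⟩) with h | h
      · intro x hx
        exact ⟨⟨x, hx.1⟩, h ▸ (show (⟨x, hx.1⟩ : ↥G) ∈ (G ⊓ P₂).subgroupOf G from hx), rfl⟩
      · rw [Subgroup.subgroupOf_eq_top] at h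
        exact absurd (Subgroup.eq_of_le_of_card_ge (h.trans inf_le_right) hcardP.le).symm hne
    have hgen : G ⊔ P₂ = ⊤ := by
      rcases hG.le_iff.1 (le_sup_left : G ≤ G ⊔ P₂) with h | h
      · exact h
      · exact absurd (Subgroup.eq_of_le_of_card_ge (sup_eq_left.1 h) hcardP.ge) hne
    have hGc : G ⊓ Subgroup.centralizer (Cfsg.pCoreOf 2 G : Set H) ≤ Cfsg.pCoreOf 2 G := by
      intro x hx
      refine ⟨⟨x, hx.1⟩, hcent (Subgroup.mem_centralizer_iff.2 fun y hy => Subtype.ext ?_), rfl⟩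
      exact Subgroup.mem_centralizer_iff.1 hx.2 y ⟨y, hy, rfl⟩
    have hSG : (S : Subgroup ↥G) = S'.subgroupOf G := (Subgroup.comap_map_eq_self_of_injective G.subtype_injective _).symm
    let eG : ↥G ≃* ↥P₂ := G.equivMapOfInjective c (MulAut.conj g).injective
    have hG3 : Nonempty (↥G ⧸ Cfsg.pCore 2 ↥G ≃* Equiv.Perm (Fin 3)) := ⟨eD.trans i3.symm⟩
    have hZ0 : Cfsg.omegaOne 2 (S' ⊓ Subgroup.centralizer (S' : Set H)) ≠ ⊥ := by
      refine LocalEvenA.omegaOne_ne_bot (hS'p.to_le inf_le_left) fun h => ?_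
      haveI : Nontrivial ↥S' := (Subgroup.nontrivial_iff_ne_bot _).2 hS'ne
      obtain ⟨⟨z, hzc⟩, hz1⟩ := @exists_ne _ hS'p.center_nontrivial (1 : ↥(Subgroup.center ↥S'))
      refine hz1 (Subtype.ext (Subtype.ext (show (z : H) = 1 from Subgroup.mem_bot.1 (h ▸ ⟨z.2, ?_⟩))))
      exact Subgroup.mem_centralizer_iff.2 fun s hs => congrArg Subtype.val (Subgroup.mem_center_iff.1 hzc ⟨s, hs⟩)
    have hG5 : ¬ G ≤ Subgroup.centralizer (Cfsg.omegaOne 2 (S' ⊓ Subgroup.centralizer (S' : Set H)) : Set H) := by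
      intro h
      refine hNtop _ hZ0 ((LocalEvenA.omegaOne_le 2 _).trans (inf_le_left.trans hS'G))
        (h.trans (Subgroup.centralizer_le_normalizer _)) ?_
      exact LocalEvenB.ZN.normalizer_le_normalizer_omegaCenterOf S'
    refine (LocalEvenA.ZNB.amalgam_sym_four G P₂ hgen S' hinf ?_ ?_ ?_ ?_ ?_).imp (fun h => h.1)
      (fun h => h.1.map fun e => e.trans MulEquiv.prodComm)
    · intro P hP
      rcases hP with rfl | rfl
      · exact hGc
      · rw [LocalEvenB.ZN.pCoreOf_map_conj, LocalEvenB.ZN.centralizer_map_conj,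
          ← Subgroup.map_inf _ _ _ (MulAut.conj g).injective]
        exact Subgroup.map_mono hGc
    · intro P hP
      rcases hP with rfl | rfl
      · exact ⟨S, hSG⟩
      · refine ⟨Sylow.ofCard (S'.subgroupOf P₂) ?_, rfl⟩
        rw [Nat.card_congr (Subgroup.subgroupOfEquivOfLe hSP₂).toEquiv, hcardP,
          hS', Subgroup.card_subtype]
        exact S.card_eq_multiplicity
    · intro N hN' hNS
      rcases IsSimpleGroup.eq_bot_or_eq_top_of_normal N hN' with h | h
      · exact h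
      · exact absurd (top_le_iff.1 (h ▸ hNS.trans hS'G)) hG.1
    · intro P hP
      rcases hP with rfl | rfl
      · exact hG3
      · exact ⟨(QuotientGroup.congr (Cfsg.pCore 2 ↥G) (Cfsg.pCore 2 ↥P₂) eG
          (LocalEvenA.pCore_map_iso (p := 2) eG)).symm.trans (eD.trans i3.symm)⟩
    · intro P hP
      rcases hP with rfl | rfl
      · exact hG5
      · intro h
        refine hG5 ?_
        have hZmap : (Cfsg.omegaOne 2 (S' ⊓ Subgroup.centralizer (S' : Set H))).map c =
            Cfsg.omegaOne 2 (S' ⊓ Subgroup.centralizer (S' : Set H)) :=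
          LocalEvenA.mem_normalizer_iff_cj.1 (LocalEvenB.ZN.normalizer_le_normalizer_omegaCenterOf S' hgN)
        rw [hP₂, ← hZmap, LocalEvenB.ZN.centralizer_map_conj] at h
        exact (Subgroup.map_le_map_iff_of_injective (MulAut.conj g).injective).1 h
  · exfalso
    have hfree : ¬ Cfsg.Involves (Equiv.Perm (Fin 4)) ↥G := by
      rintro ⟨K, R, hR, ⟨e⟩⟩
      have h1 : 3 ∣ Nat.card ↥G := by
        refine (dvd_trans ?_ (Subgroup.card_subgroup_dvd_card K))
        refine dvd_trans ?_ (Subgroup.card_quotient_dvd_card (R.subgroupOf K))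
        rw [Nat.card_congr e.toEquiv, Nat.card_perm, Nat.card_fin]
        exact ⟨8, rfl⟩
      obtain ⟨a, ha⟩ := hQp.exists_card_eq
      rw [hcardG, ha] at h1
      rcases Nat.prime_three.dvd_mul.1 h1 with h | h
      · rcases Nat.prime_three.dvd_mul.1 h with h | h
        · norm_num at h
        · exact hq3 ((Nat.prime_dvd_prime_iff_eq Nat.prime_three hq).1 h).symm
      · exact absurd (Nat.prime_three.dvd_of_dvd_pow h) (by norm_num)
    have hno : ¬ Cfsg.HasNormalPComplement 2 ↥G := by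
      rintro ⟨P, N, hNn, hNc⟩
      have hd : N ⊓ Cfsg.pCore 2 ↥G = ⊥ := by
        have h1 := hNc.disjoint.mono_right (Basics.pCore_le_sylow 2 P)
        exact h1.eq_bot
      have hN0 : N = ⊥ := by
        refine le_bot_iff.1 (hd ▸ le_inf le_rfl ?_)
        haveI := hNn
        haveI := LocalEvenA.pCore_normal' 2 ↥G
        refine le_trans ?_ hcent
        intro x hx
        exact Subgroup.mem_centralizer_iff.2 fun y hy =>
          ((Subgroup.commute_of_normal_of_disjoint _ _ inferInstance inferInstance (disjoint_iff.2 hd) x y hx hy).eq).symm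
      rw [hN0, Subgroup.isComplement'_bot_left] at hNc
      exact hnp (IsPGroup.of_equiv ((hNc ▸ P.2 : IsPGroup 2 (⊤ : Subgroup ↥G))) Subgroup.topEquiv)
    have hsmall : ∀ K : Subgroup ↥G, K = (S : Subgroup ↥G) → Cfsg.HasNormalPComplement 2 ↥K := by
      intro K hK
      have hp : IsPGroup 2 ↥K := hK ▸ S.2
      obtain ⟨P⟩ : Nonempty (Sylow 2 ↥K) := inferInstance
      refine ⟨P, ⊥, inferInstance, Subgroup.isComplement'_bot_left.2 ?_⟩
      exact (P.3 (hp.to_subgroup ⊤) le_top).symm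
    have hnorm : ∀ X : Subgroup ↥G, X ≠ ⊥ → X ≤ (S : Subgroup ↥G) → Subgroup.normalizer (X : Set ↥G) = ⊤ →
        Subgroup.normalizer (S' : Set H) ≤ Subgroup.normalizer ((X.map G.subtype : Subgroup H) : Set H) → False := by
      intro X hX0 hXS hXn hle
      haveI := Subgroup.normalizer_eq_top_iff.1 hXn
      refine hNtop _ (fun h => hX0 ((Subgroup.map_eq_bot_iff_of_injective _ G.subtype_injective).1 h))
        (Subgroup.map_subtype_le _) ?_ hle
      calc G = (⊤ : Subgroup ↥G).map G.subtype := by rw [← MonoidHom.range_eq_map, Subgroup.range_subtype]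
        _ ≤ _ := hXn ▸ Subgroup.le_normalizer_map _
    set Z := (S : Subgroup ↥G) ⊓ Subgroup.centralizer ((S : Subgroup ↥G) : Set ↥G) with hZ
    set J := Cfsg.thompsonSubgroupAOf (S : Subgroup ↥G) with hJ
    have hSne : (S : Subgroup ↥G) ≠ ⊥ := fun h => hS'ne (by rw [hS', h, Subgroup.map_bot])
    have hSZ : (S : Subgroup ↥G) ≤ Subgroup.centralizer (Z : Set ↥G) := fun x hx =>
      Subgroup.mem_centralizer_iff.2 fun z hz => (Subgroup.mem_centralizer_iff.1 hz.2 x hx).symm
    have hSJ : (S : Subgroup ↥G) ≤ Subgroup.normalizer (J : Set ↥G) := by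
      rw [hJ, ← Transfer.JAb_zero]
      exact Subgroup.le_normalizer.trans (Transfer.normalizer_le_normalizer_JAb _)
    rcases hmaxS _ hSZ with h1 | h1
    · rcases hmaxS _ hSJ with h2 | h2
      · exact hno (Cfsg.Agent.S2800.result S (Or.inr hfree) (hsmall _ h1) (hsmall _ h2))
      · refine hnorm J ?_ ?_ h2 ?_
        · rw [hJ, ← Transfer.JAb_zero]; exact Transfer.JAb_ne_bot (Or.inl rfl) S.2 hSne
        · rw [hJ, ← Transfer.JAb_zero]; exact Transfer.JAb_le _
        · rw [hJ, ← Transfer.JAb_zero, Transfer.map_JAb _ _ G.subtype_injective.injOn, ← hS']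
          exact Transfer.normalizer_le_normalizer_JAb S'
    · refine hnorm Z ?_ inf_le_left ?_ ?_
      · intro h
        haveI : Nontrivial ↥(S : Subgroup ↥G) := (Subgroup.nontrivial_iff_ne_bot _).2 hSne
        obtain ⟨⟨z, hzc⟩, hz1⟩ := @exists_ne _ S.2.center_nontrivial (1 : ↥(Subgroup.center ↥(S : Subgroup ↥G)))
        refine hz1 (Subtype.ext (Subtype.ext (show (z : ↥G) = 1 from Subgroup.mem_bot.1 (h ▸ ⟨z.2, ?_⟩))))
        exact Subgroup.mem_centralizer_iff.2 fun s hs => congrArg Subtype.val (Subgroup.mem_center_iff.1 hzc ⟨s, hs⟩)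
      · exact top_le_iff.1 (h1 ▸ Subgroup.centralizer_le_normalizer (Z : Set ↥G))
      · have hmap : Z.map G.subtype = S' ⊓ Subgroup.centralizer (S' : Set H) := by
          ext x
          constructor
          · rintro ⟨z, hz, rfl⟩
            refine ⟨⟨z, hz.1, rfl⟩, Subgroup.mem_centralizer_iff.2 ?_⟩
            rintro _ ⟨s, hs, rfl⟩
            exact congrArg Subtype.val (Subgroup.mem_centralizer_iff.1 hz.2 s hs)
          · rintro ⟨⟨z, hz, rfl⟩, hx⟩
            exact ⟨z, ⟨hz, Subgroup.mem_centralizer_iff.2 fun s hs =>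
              Subtype.ext (Subgroup.mem_centralizer_iff.1 hx s ⟨s, hs, rfl⟩)⟩, rfl⟩
        rw [hmap]
        exact LocalEvenA.le_normalizer_inf le_rfl (Transfer.normalizer_le_normalizer_centralizer' S')

end Cfsg.Agent.S2772
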