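import Cfsg.Statements.S2781
import Mathlib.Tactic.Group
import Cfsg.Agent.Lib.LocalEvenA.Core
import Cfsg.Agent.Lib.OddLocal.Centralize

set_option autoImplicit false
open Cfsg
open scoped commutatorElement

namespace Cfsg.Agent.S2781

/-- Let H act faithfully by conjugation on the elementary abelian p-subgroup V of a finite group, let O^p(H) be the subgroup of H generated by its elements of order prime to p, and T a Sylow p-subgroup of O^p(H). If V is generated by the H-conjugates of C_V(T) (V is the smallest H-invariant subgroup containing C_V(T)), then V = [V, O^p(H)]·C_V(O^p(H)). -/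
theorem result {G : Type*} [Group G] [Finite G] {p : ℕ} [Fact p.Prime] (V H : Subgroup G) (hV : Cfsg.IsElementaryAbelian p V) (hHV : H ≤ Subgroup.normalizer (V : Set G)) (hf : H ⊓ Subgroup.centralizer (V : Set G) = ⊥) (R : Subgroup G) (hR : R = (Cfsg.pResidual p ↥H).map H.subtype) (S : Sylow p ↥R) (T : Subgroup G) (hT : T = ((S : Subgroup ↥R).map R.subtype)) (hgen : ∀ W : Subgroup G, H ≤ Subgroup.normalizer (W : Set G) → (V ⊓ Subgroup.centralizer ((T : Subgroup G) : Set G)) ≤ W → V ≤ W) : ⁅V, R⁆ ⊔ (V ⊓ Subgroup.centralizer ((R : Subgroup G) : Set G)) = V := by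
  classical
  obtain ⟨hVc, hVp⟩ := hV
  letI : CommGroup ↥V := { (inferInstance : Group ↥V) with mul_comm := hVc.is_comm.comm }
  have hRH : R ≤ H := hR.le.trans (Subgroup.map_subtype_le _)
  have hTR : T ≤ R := hT.le.trans (Subgroup.map_subtype_le _)
  have hRn : H ≤ Subgroup.normalizer (R : Set G) := by
    subst hR
    intro h hh
    have hc : (Cfsg.pResidual p ↥H).Normal :=
      @Subgroup.normal_of_characteristic _ _ _ (Cfsg.Agent.LocalEvenA.pResidual_characteristic' p ↥H)
    rw [Subgroup.mem_normalizer_iff]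
    intro x
    constructor
    · rintro ⟨y, hy, rfl⟩; exact ⟨⟨h, hh⟩ * y * ⟨h, hh⟩⁻¹, hc.conj_mem y hy _, rfl⟩
    · rintro ⟨y, hy, hxy⟩
      refine ⟨(⟨h, hh⟩ : ↥H)⁻¹ * y * ⟨h, hh⟩, hc.conj_mem' y hy _, ?_⟩
      have e : (y : G) = h * x * h⁻¹ := hxy
      simp [e, mul_assoc]
  have hUV : ⁅V, R⁆ ≤ V := Subgroup.le_normalizer_iff_commutator_le_left.1 (hRH.trans hHV)
  set U := ⁅V, R⁆ with hU
  set C := V ⊓ Subgroup.centralizer ((R : Subgroup G) : Set G) with hC
  have hHU : H ≤ Subgroup.normalizer (U : Set G) :=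
    Cfsg.Agent.OddLocal.le_normalizer_commutator hHV hRn
  have hHC : H ≤ Subgroup.normalizer (C : Set G) := by
    have key : ∀ h ∈ H, ∀ c ∈ C, h * c * h⁻¹ ∈ C := by
      intro h hh c hc
      refine ⟨(Subgroup.mem_normalizer_iff.1 (hHV hh) c).1 hc.1, Subgroup.mem_centralizer_iff.2 fun r hr => ?_⟩
      have h1 := Subgroup.mem_centralizer_iff.1 hc.2 (h⁻¹ * r * h)
        (by simpa using (Subgroup.mem_normalizer_iff.1 (hRn (inv_mem hh)) r).1 hr)
      calc r * (h * c * h⁻¹) = h * (h⁻¹ * r * h * c) * h⁻¹ := by group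
        _ = h * (c * (h⁻¹ * r * h)) * h⁻¹ := by rw [h1]
        _ = h * c * h⁻¹ * r := by group
    intro h hh
    rw [Subgroup.mem_normalizer_iff]
    exact fun x => ⟨key h hh x, fun hx => by simpa [mul_assoc] using key h⁻¹ (inv_mem hh) _ hx⟩
  refine le_antisymm (sup_le hUV inf_le_left) (hgen _ (fun h hh =>
    Subgroup.normalizer_inf_normalizer_le_normalizer_sup _ _ ⟨hHU hh, hHC hh⟩) ?_)
  rintro v ⟨hv, hvT⟩
  set φ : ↥R →* MulAut ↥V := (V.normalizerMonoidHom).comp (Subgroup.inclusion (hRH.trans hHV)) with hφ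
  have hφv : ∀ (r : ↥R) (w : ↥V), ((φ r w : ↥V) : G) = r * w * (r : G)⁻¹ := fun r w => rfl
  set w : ↥V := ⟨v, hv⟩ with hw
  have hTfix : ∀ s ∈ (S : Subgroup ↥R), φ s w = w := by
    intro s hs
    apply Subtype.ext
    rw [hφv]
    have := Subgroup.mem_centralizer_iff.1 hvT (s : G) (hT ▸ ⟨s, hs, rfl⟩)
    rw [this]; simp [hw]
  have := Fintype.ofFinite (↥R ⧸ (S : Subgroup ↥R))
  let f : ↥R ⧸ (S : Subgroup ↥R) → ↥V := fun q => φ q.out w
  have hfr : ∀ (r : ↥R) (q : ↥R ⧸ (S : Subgroup ↥R)), φ r (f q) = f (r • q) := by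
    intro r q
    obtain ⟨h, hh⟩ := QuotientGroup.mk_out_eq_mul (S : Subgroup ↥R) (r * q.out)
    have hq : r • q = ((r * q.out : ↥R) : ↥R ⧸ (S : Subgroup ↥R)) := by
      conv_lhs => rw [← QuotientGroup.out_eq' q]
      rfl
    show φ r (φ q.out w) = φ (r • q).out w
    rw [hq, hh, map_mul φ (r * q.out) h, MulAut.mul_apply, hTfix _ h.2, map_mul φ, MulAut.mul_apply]
  set P : ↥V := ∏ q, f q with hP
  have hPfix : ∀ r, φ r P = P := by
    intro r
    rw [hP, map_prod]
    simp only [hfr]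
    exact Equiv.prod_comp (MulAction.toPerm r) f
  have hPC : (P : G) ∈ C := by
    refine ⟨P.2, Subgroup.mem_centralizer_iff.2 fun r hr => ?_⟩
    have := congrArg Subtype.val (hPfix ⟨r, hr⟩)
    rw [hφv] at this
    exact (mul_inv_eq_iff_eq_mul.1 this)
  set π := QuotientGroup.mk' (U.subgroupOf V) with hπ
  have hπf : ∀ q, π (f q) = π w := by
    intro q
    rw [hπ, QuotientGroup.mk'_apply, QuotientGroup.mk'_apply, QuotientGroup.eq, Subgroup.mem_subgroupOf]
    have h0 : (((f q)⁻¹ * w : ↥V) : G) = ((w : G)⁻¹ * ((q.out : G) * w * (q.out : G)⁻¹))⁻¹ := by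
      simp [f, hφv, mul_assoc]
    rw [h0]
    refine inv_mem ?_
    have := Subgroup.commutator_mem_commutator (H₁ := V) (H₂ := R) (inv_mem w.2) q.out.2
    rw [← hU, commutatorElement_def, inv_inv] at this
    simpa [mul_assoc] using this
  have hm : π P = π w ^ (S : Subgroup ↥R).index := by
    rw [hP, map_prod]
    simp [hπf, Subgroup.index, Nat.card_eq_fintype_card]
  rw [← map_pow, hπ, QuotientGroup.mk'_apply, QuotientGroup.mk'_apply, QuotientGroup.eq,
    Subgroup.mem_subgroupOf] at hm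
  have hwm : v ^ (S : Subgroup ↥R).index ∈ U ⊔ C := by
    have := mul_mem (Subgroup.mem_sup_right (S := U) hPC) (Subgroup.mem_sup_left (T := C) hm)
    simpa [hw] using this
  have hcop : (S : Subgroup ↥R).index.Coprime (orderOf v) :=
    Nat.Coprime.coprime_dvd_right (orderOf_dvd_of_pow_eq_one (hVp v hv))
      ((Fact.out : p.Prime).coprime_iff_not_dvd.2 S.not_dvd_index).symm
  obtain ⟨k, hk⟩ := exists_pow_eq_self_of_coprime hcop
  exact hk ▸ pow_mem hwm k

end Cfsg.Agent.S2781
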