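import Cfsg.Statements.S2787
import Cfsg.Agent.Lib.LocalEvenA.ModQuadratic

set_option autoImplicit false
open Cfsg

namespace Cfsg.Agent.S2787

/-- Let p be a prime and let H act by conjugation on the elementary abelian p-subgroup V of a finite group, irreducibly (no H-invariant subgroups of V other than 1 and V) and nontrivially, and suppose H/C_H(V) is isomorphic to PSL₂(F) for a field F with p^n elements, p^n odd, or p = 3 and H/C_H(V) is isomorphic to a Ree group ²G₂(3^(2m+1)), m ≥ 1. Then no subgroup A of H acting nontrivially on V acts quadratically: [V, A, A] = 1 forces [V, A] = 1. -/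
theorem result {G : Type*} [Group G] [Finite G] {p : ℕ} [Fact p.Prime] (V H : Subgroup G) (hV : Cfsg.IsElementaryAbelian p V) (hHV : H ≤ Subgroup.normalizer (V : Set G)) (hirr : ∀ U : Subgroup G, U ≤ V → H ≤ Subgroup.normalizer (U : Set G) → U = ⊥ ∨ U = V) (hnt : ¬ H ≤ Subgroup.centralizer (V : Set G)) [hn : ((Subgroup.centralizer (V : Set G)).subgroupOf H).Normal] (hq : (∃ (F : Type) (_ : Field F) (_ : Fintype F) (n : ℕ), Fintype.card F = p ^ n ∧ Odd (Fintype.card F) ∧ Nonempty (↥H ⧸ (Subgroup.centralizer (V : Set G)).subgroupOf H ≃* Matrix.ProjectiveSpecialLinearGroup (Fin 2) F)) ∨ (p = 3 ∧ Cfsg.Lie.IsoRee (↥H ⧸ (Subgroup.centralizer (V : Set G)).subgroupOf H))) (A : Subgroup G) (hA : A ≤ H) (hquad : ⁅⁅V, A⁆, A⁆ = ⊥) : ⁅V, A⁆ = ⊥ := by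
  let π := QuotientGroup.mk' ((Subgroup.centralizer (V : Set G)).subgroupOf H)
  have key : ∀ a ∈ A, a ∈ Subgroup.centralizer (V : Set G) := by
    intro a ha
    have hq2 : ⁅⁅V, Subgroup.zpowers a⁆, Subgroup.zpowers a⁆ = ⊥ := by
      rw [eq_bot_iff, ← hquad]
      exact Subgroup.commutator_mono (Subgroup.commutator_mono le_rfl (Subgroup.zpowers_le.2 ha))
        (Subgroup.zpowers_le.2 ha)
    rcases hq with ⟨F, _, _, n, hF, hodd, ⟨e⟩⟩ | ⟨rfl, hR⟩
    · have hn : n ≠ 0 := by
        rintro rfl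
        exact absurd (hF ▸ Fintype.one_lt_card (α := F)) (by norm_num)
      have hp2 : p ≠ 2 := by
        rintro rfl
        rw [hF, Nat.odd_pow_iff hn] at hodd
        exact absurd hodd (by decide)
      haveI : CharP F p := charP_of_card_eq_prime_pow (f := n) hF
      refine LocalEvenA.no_quad_psl hV hHV hp2 (e.toMonoidHom.comp π) (e.surjective.comp (QuotientGroup.mk'_surjective _))
        (fun h => ?_) (a := ⟨a, hA ha⟩) hq2
      rw [MonoidHom.comp_apply, MulEquiv.coe_toMonoidHom, MulEquiv.map_eq_one_iff]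
      exact (QuotientGroup.eq_one_iff h).trans Subgroup.mem_subgroupOf
    · refine LocalEvenA.no_quad_ree hV hHV hR π (QuotientGroup.mk'_surjective _)
        (fun h => ?_) (a := ⟨a, hA ha⟩) hq2
      exact (QuotientGroup.eq_one_iff h).trans Subgroup.mem_subgroupOf
  rw [Subgroup.commutator_eq_bot_iff_le_centralizer]
  exact fun v hv => Subgroup.mem_centralizer_iff.2 fun a ha => (Subgroup.mem_centralizer_iff.1 (key a ha) v hv).symm

end Cfsg.Agent.S2787
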