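import Cfsg.Statements.S2788
import Cfsg.Agent.Lib.LocalEvenA.ModBound
import Cfsg.Agent.Lib.SL2.DicksonMinimal

set_option autoImplicit false
open Cfsg

namespace Cfsg.Agent.S2788

/-- Let H act faithfully by conjugation on the elementary abelian p-subgroup V of a finite group with H ≅ SL₂(F), F a field with p^n elements, S a Sylow p-subgroup of H, and A ≤ S a subgroup of order at least 3 acting quadratically on V ([V, A, A] = 1). Then |V/C_V(a)| ≥ p^n for every nonidentity a ∈ A. -/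
theorem result {G : Type*} [Group G] [Finite G] {p : ℕ} [Fact p.Prime] (V H : Subgroup G) (hV : Cfsg.IsElementaryAbelian p V) (hHV : H ≤ Subgroup.normalizer (V : Set G)) (hf : H ⊓ Subgroup.centralizer (V : Set G) = ⊥) {F : Type*} [Field F] [Fintype F] (n : ℕ) (hF : Fintype.card F = p ^ n) (hiso : Nonempty (↥H ≃* Matrix.SpecialLinearGroup (Fin 2) F)) (S : Sylow p ↥H) (T : Subgroup G) (hT : T = ((S : Subgroup ↥H).map H.subtype)) (A : Subgroup G) (hA : A ≤ T) (hA3 : 3 ≤ Nat.card A) (hquad : ⁅⁅V, A⁆, A⁆ = ⊥) : ∀ a ∈ A, a ≠ 1 → p ^ n ≤ ((V ⊓ Subgroup.centralizer ({a} : Set G))).relIndex V := by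
  intro a ha ha1
  have haH : a ∈ H := by rw [hT] at hA; exact Subgroup.map_subtype_le _ (hA ha)
  set a' : ↥H := ⟨a, haH⟩ with ha'
  have hpp : p.Prime := Fact.out
  obtain ⟨e⟩ := hiso
  have hn : 1 ≤ n := by
    rcases Nat.eq_zero_or_pos n with rfl | h
    · exact absurd (hF ▸ Fintype.one_lt_card (α := F)) (by norm_num)
    · exact h
  have hcard : Fintype.card F = p ^ n := hF
  haveI : CharP F p := charP_of_card_eq_prime_pow (f := n) hF
  obtain ⟨k, hk⟩ : ∃ k, a' ^ p ^ k = 1 := by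
    have hmem : a ∈ ((S : Subgroup ↥H).map H.subtype) := hT ▸ hA ha
    obtain ⟨x, hx, hxa⟩ := hmem
    obtain rfl : x = a' := Subtype.ext hxa
    obtain ⟨k, hk⟩ := S.2 ⟨_, hx⟩
    exact ⟨k, congrArg Subtype.val hk⟩
  have hs : e a' ^ p = 1 := LocalEvenA.pow_p_of_pow_pow (k := k) (by rw [← map_pow, hk, map_one])
  have hs1 : e a' ≠ 1 := fun h => ha1 (congrArg Subtype.val (e.injective (h.trans (map_one e).symm)) :)
  set k₀ := (V ⊓ Subgroup.centralizer ({a} : Set G)).relIndex V with hk₀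
  have hk₀pos : 0 < k₀ := Nat.pos_of_dvd_of_pos (Subgroup.relIndex_dvd_card _ _) Nat.card_pos
  have hVp := LocalEvenA.elemAb_isPGroup hV
  suffices h2 : p ^ (2 * n) ≤ k₀ ^ 2 ∨ n = 1 by
    rcases h2 with h2 | rfl
    · rw [mul_comm 2 n, pow_mul] at h2
      exact (Nat.pow_le_pow_iff_left two_ne_zero).1 h2
    · rw [pow_one]
      obtain ⟨j, hj⟩ := IsPGroup.iff_card.1 hVp
      obtain ⟨i, -, hi⟩ := (Nat.dvd_prime_pow hpp).1 (hj ▸ Subgroup.relIndex_dvd_card
        (V ⊓ Subgroup.centralizer ({a} : Set G)) V)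
      rcases i with - | i
      · have hmem : a ∈ H ⊓ Subgroup.centralizer (V : Set G) := by
          refine ⟨haH, Subgroup.mem_centralizer_iff.2 fun v hv => ?_⟩
          rw [pow_zero] at hi
          exact Subgroup.mem_centralizer_singleton_iff.1 (Subgroup.relIndex_eq_one.1 hi hv).2
        rw [hf, Subgroup.mem_bot] at hmem
        exact absurd hmem ha1
      · rw [hk₀, hi, pow_succ']
        exact Nat.le_mul_of_pos_right _ (pow_pos hpp.pos i)
  by_cases hp2 : p = 2
  · subst hp2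
    left
    obtain ⟨r, i, hr, hr2, hi, hdvd, hr3, hprim⟩ := LocalEvenA.exists_prim 2 n hpp hn (Or.inr rfl)
    obtain ⟨g, hg⟩ := LocalEvenA.exists_pair_even hs hs1 (m := r ^ i) (by rw [hcard]; exact hdvd)
      (lt_of_lt_of_le hr3 (Nat.le_self_pow (by omega) r))
    exact (LocalEvenA.lift_bound hVp hHV hf e.toMonoidHom e.surjective a' hr hr2 hi hprim g hg).2
  by_cases hn1 : n = 1
  · exact Or.inr hn1
  left
  obtain ⟨g, hg⟩ := LocalEvenA.exists_pair_odd hs hs1
  obtain ⟨g', rfl⟩ := e.surjective g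
  set w : ↥H := a' * (g' * a' * g'⁻¹) * a' with hw
  set z : ↥H := w * w with hz
  have hez : e z = -1 := by rw [← hg, hz, hw]; simp
  have h2F : (2 : F) ≠ 0 := fun h => by
    have := (CharP.cast_eq_zero_iff F p 2).1 (by exact_mod_cast h)
    exact hp2 ((Nat.prime_dvd_prime_iff_eq hpp Nat.prime_two).1 this)
  have hne1 : (-1 : Matrix.SpecialLinearGroup (Fin 2) F) ≠ 1 := fun h => by
    have h' := congrArg (fun x : Matrix.SpecialLinearGroup (Fin 2) F => (x : Matrix (Fin 2) (Fin 2) F) 0 0) h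
    simp at h'
    exact h2F (by linear_combination -h')
  have hzc : ∀ h ∈ H, h * (z : G) = (z : G) * h := by
    intro h hh
    have : (⟨h, hh⟩ : ↥H) * z = z * ⟨h, hh⟩ := e.injective (by
      rw [map_mul e _ z, map_mul e z, hez, mul_neg, neg_mul, mul_one, one_mul])
    exact congrArg Subtype.val this
  have hz2 : (z : G) * z = 1 := by
    have : z * z = 1 := e.injective (by rw [map_mul, hez, map_one, neg_mul_neg, mul_one])
    exact congrArg Subtype.val this
  have hz1 : (z : G) ∉ Subgroup.centralizer (V : Set G) := fun hc => by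
    have h0 : (z : G) ∈ (⊥ : Subgroup G) := hf ▸ ⟨z.2, hc⟩
    rw [Subgroup.mem_bot, OneMemClass.coe_eq_one] at h0
    exact hne1 (by rw [← hez, h0, map_one])
  obtain ⟨K, hKV, hHK, hKc, hzK⟩ := LocalEvenA.exists_minus_part hV hHV hp2 z.2 hzc hz2 hz1
  set C : Subgroup ↥H := (Subgroup.centralizer (K : Set G)).subgroupOf H with hC
  haveI hCn : C.Normal := ⟨fun c hc h => Subgroup.mem_centralizer_iff.2 fun x hx => by
    have hx' : (h : G)⁻¹ * x * h ∈ K := by
      simpa using (Subgroup.mem_normalizer_iff.1 (hHK (inv_mem h.2)) x).1 hx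
    have hc' := Subgroup.mem_centralizer_iff.1 hc _ hx'
    simp only [Subgroup.coe_mul, Subgroup.coe_inv, Subgroup.coe_subtype]
    calc x * ((h : G) * c * (h : G)⁻¹) = (h : G) * ((h : G)⁻¹ * x * h * c) * (h : G)⁻¹ := by group
      _ = (h : G) * (c * ((h : G)⁻¹ * x * h)) * (h : G)⁻¹ := by
          rw [show (h : G)⁻¹ * x * h * c = c * ((h : G)⁻¹ * x * h) from hc']
      _ = _ := by group⟩
  have h4 : 4 ≤ Fintype.card F := by
    rw [hcard]
    calc 4 = 2 ^ 2 := by norm_num
      _ ≤ p ^ 2 := Nat.pow_le_pow_left hpp.two_le 2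
      _ ≤ p ^ n := Nat.pow_le_pow_right hpp.pos (by omega)
  have hN := LocalEvenA.normal_neg_one h4 (Cfsg.Agent.SL2.isSimple_psl h4)
    (Subgroup.Normal.map hCn e.toMonoidHom e.surjective) (fun h => by
      obtain ⟨c, hc, hce⟩ := h
      obtain rfl : c = z := e.injective (hce.trans hez.symm)
      exact hzK hc)
  obtain ⟨r, i, hr, hrp, hi, hdvd, hr3, hprim⟩ := LocalEvenA.exists_prim p n hpp hn (Or.inl (by omega))
  obtain ⟨x, hx⟩ := LocalEvenA.exists_order_elem (F := F) (m := r ^ i) (by rw [hcard]; exact hdvd)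
  obtain ⟨h, rfl⟩ := e.surjective x
  rw [MulEquiv.orderOf_eq] at hx
  obtain ⟨j, rfl⟩ : ∃ j, i = j + 1 := ⟨i - 1, by omega⟩
  have hnc : (h : G) ^ r ^ j ∉ Subgroup.centralizer (K : Set G) := by
    intro hc
    have hmem : e (h ^ r ^ j) ∈ C.map e.toMonoidHom :=
      ⟨h ^ r ^ j, by rw [hC, SetLike.mem_coe, Subgroup.mem_subgroupOf, SubgroupClass.coe_pow]; exact hc, rfl⟩
    have hord : orderOf (h ^ r ^ j) = r := by
      rw [orderOf_pow' _ (pow_ne_zero _ hr.ne_zero), hx, pow_succ, Nat.gcd_eq_right (dvd_mul_right _ _),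
        Nat.mul_div_cancel_left _ (pow_pos hr.pos _)]
    have h2 : (h ^ r ^ j) ^ 2 = 1 := e.injective (by
      rw [map_pow e (h ^ r ^ j), map_one]
      rcases (SL2.scal_iff _).1 ((SL2.scal_iff_mem_center _).2 (hN hmem)) with h' | h' <;> rw [h']
      · rw [one_pow]
      · rw [sq, neg_mul_neg, mul_one])
    have := Nat.le_of_dvd two_pos (hord ▸ orderOf_dvd_of_pow_eq_one h2)
    omega
  have hb := LocalEvenA.bound_of_prim (LocalEvenA.elemAb_isPGroup (LocalEvenA.elemAb_mono hV hKV)) (hHK h.2)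
    hr hrp le_rfl ((Subgroup.orderOf_coe h).trans hx) hnc hprim (W := ⊥) bot_le (fun w hw => by
      rw [Subgroup.mem_bot.1 hw, one_mul, mul_one])
  rw [Subgroup.relIndex_bot_left, hKc] at hb
  refine hb.trans ?_
  have hW : (V ⊓ Subgroup.centralizer ({a} : Set G)) ⊓
      (V ⊓ Subgroup.centralizer ({(g' : G) * a * (g' : G)⁻¹} : Set G)) ≤
      V ⊓ Subgroup.centralizer ({(z : G)} : Set G) := by
    intro v hv
    refine ⟨hv.1.1, Subgroup.mem_centralizer_singleton_iff.2 ?_⟩
    have h1 : Commute a v := (Subgroup.mem_centralizer_singleton_iff.1 hv.1.2).symm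
    have h2 : Commute ((g' : G) * a * (g' : G)⁻¹) v := (Subgroup.mem_centralizer_singleton_iff.1 hv.2.2).symm
    have h3 := (h1.mul_left h2).mul_left h1
    exact (h3.mul_left h3).eq.symm
  refine (Nat.le_of_dvd (Nat.pos_of_dvd_of_pos (Subgroup.relIndex_dvd_card _ _) Nat.card_pos)
    (Subgroup.relIndex_dvd_of_le_left V hW)).trans ((LocalEvenA.relIndex_two_centralizers V _ _).trans ?_)
  rw [LocalEvenA.relIndex_conj (hHV g'.2), sq]

end Cfsg.Agent.S2788
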