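import Cfsg.Statements.S2791
import Cfsg.Agent.Lib.Fusion.NormalCriteria
import Cfsg.Agent.Lib.Fusion.Group
import Cfsg.Agent.Lib.Components.Subnormal

set_option autoImplicit false
open Cfsg

namespace Cfsg.Agent.S2791

/-- Let S be a Sylow p-subgroup of the finite group G and A an abelian subgroup of S that is strongly closed in S with respect to G. Then A controls strong fusion in G: for some Sylow p-subgroup T containing A, whenever a subset of T is conjugated into T by an element of G, the same elementwise conjugation is induced by an element of N_G(A). -/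
theorem result {G : Type*} [Group G] [Finite G] {p : ℕ} [Fact p.Prime] (S : Sylow p G) (A : Subgroup G) (hA : IsMulCommutative ↥A) (hsc : Cfsg.IsStronglyClosed A (S : Subgroup G)) : Cfsg.ControlsStrongFusion p A := by
  have hst : (groupFusionSystem (S : Subgroup G)).StronglyClosed A := by
    refine ⟨hsc.1, fun R hR φ hφ x => ?_⟩
    obtain ⟨-, hφS, g, hg⟩ := hφ
    rw [hg x]
    exact hsc.2 x (hR x.2) g (hg x ▸ hφS x)
  have hab : ∀ x ∈ A, ∀ k ∈ A, x⁻¹ * (k * x * k⁻¹) = 1 := fun x hx k hk => by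
    have := congrArg Subtype.val (mul_comm' (⟨k, hk⟩ : A) ⟨x, hx⟩)
    simp only [Subgroup.coe_mul] at this
    rw [this, mul_inv_cancel_right, inv_mul_cancel]
  have hnorm : (groupFusionSystem (S : Subgroup G)).IsNormal A := by
    refine Fusion.isNormal_of_series (n := 1) S.2 (Fusion.isSaturated_gfs S) hst ![⊥, A] rfl rfl ?_ ?_ ?_
    · intro i j hij
      fin_cases i <;> fin_cases j <;> simp_all
    · intro i x hx k hk
      fin_cases i
      show x⁻¹ * (k * x * k⁻¹) ∈ (⊥ : Subgroup G)
      exact Subgroup.mem_bot.2 (hab x hx k hk)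
    · intro i
      fin_cases i
      refine ⟨bot_le, fun φ hφ => ?_⟩
      show φ.range = ⊥
      rw [MonoidHom.range_eq_bot_iff]
      ext ⟨x, hx⟩
      have hx1 : x = 1 := Subgroup.mem_bot.1 hx
      subst hx1
      exact φ.map_one
  refine ⟨S, hsc.1, fun B hB => ⟨hB, fun g hg => ?_⟩⟩
  have hP : Subgroup.closure B ≤ (S : Subgroup G) := (Subgroup.closure_le _).2 hB
  have hgP : ∀ x ∈ Subgroup.closure B, g * x * g⁻¹ ∈ (S : Subgroup G) := by
    intro x hx
    have : Subgroup.closure B ≤ (S : Subgroup G).comap (MulAut.conj g).toMonoidHom :=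
      (Subgroup.closure_le _).2 fun b hb => hg ⟨b, hb, rfl⟩
    exact this hx
  obtain ⟨ψ, ⟨-, -, h, hh⟩, hψ1, hψA⟩ := hnorm.2 (Subgroup.closure B)
    ((MulAut.conj g).toMonoidHom.comp (Subgroup.closure B).subtype)
    ⟨hP, fun x => hgP x x.2, g, fun x => rfl⟩
  refine ⟨h, ?_, fun a ha => ?_⟩
  · refine Components.mem_normalizer_of_map_conj_eq (Eq.trans ?_ hψA)
    ext y
    constructor
    · rintro ⟨a, ha, rfl⟩
      exact ⟨⟨a, (le_sup_right : A ≤ Subgroup.closure B ⊔ A) ha⟩, ha, hh _⟩
    · rintro ⟨a, ha, rfl⟩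
      exact ⟨a, ha, (hh a).symm⟩
  · have := hψ1 ⟨a, Subgroup.subset_closure ha⟩
    rw [hh] at this
    exact this.symm

end Cfsg.Agent.S2791
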