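import Cfsg.Statements.S2792
import Cfsg.Agent.Lib.Transfer.HallWielandt
import Cfsg.Agent.Lib.Fusion.YoshidaFusion
-- import your own Cfsg.Agent.* helpers here

set_option autoImplicit false
open Cfsg
open scoped commutatorElement

namespace Cfsg.Agent.S2792

/-- Let S be a Sylow p-subgroup of the finite group G and W a subgroup of S weakly closed in S with respect to G. If S ∩ G' ≠ S ∩ (N_G(W))', then there are x ∈ S, z ∈ W and a maximal subgroup W₀ of W such that the iterated commutator [x, z; p−1] (with [x, z] = x⁻¹z⁻¹xz and [x, z; i+1] = [[x, z; i], z]) lies in W₀ but not in the Frattini subgroup of W₀; in particular [x, z; p−1] ≠ 1. -/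
theorem result {G : Type*} [Group G] [Finite G] {p : ℕ} [Fact p.Prime] (S : Sylow p G) (W : Subgroup G) (hW : Cfsg.IsWeaklyClosed W (S : Subgroup G)) (h : (S : Subgroup G) ⊓ commutator G ≠ (S : Subgroup G) ⊓ ⁅Subgroup.normalizer (W : Set G), Subgroup.normalizer (W : Set G)⁆) : ∃ x ∈ (S : Subgroup G), ∃ z ∈ W, ∃ W₀ : Subgroup ↥W, IsCoatom W₀ ∧ (fun y : G => y⁻¹ * z⁻¹ * y * z)^[p - 1] x ∈ W₀.map W.subtype ∧ (fun y : G => y⁻¹ * z⁻¹ * y * z)^[p - 1] x ∉ ((frattini ↥W₀).map W₀.subtype).map W.subtype := by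
  classical
  set Sg := (S : Subgroup G) with hSg
  set F := Cfsg.groupFusionSystem Sg with hF
  have hSp : IsPGroup p Sg := S.2
  have hFs : F.IsSaturated p := Fusion.isSaturated_gfs S
  have hWS : W ≤ Sg := hW.1
  have hSN : Sg ≤ Subgroup.normalizer (W : Set G) := fun s hs =>
    Subgroup.mem_normalizer_iff_map_conj_eq.mpr (hW.2 s (by
      rintro _ ⟨w, hw, rfl⟩
      exact Sg.mul_mem (Sg.mul_mem hs (hWS hw)) (Sg.inv_mem hs)))
  have hns : Cfsg.FusionSystem.normalizerIn Sg W = Sg := inf_eq_left.mpr hSN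
  have hfn : F.IsFullyNormalized W := ⟨hWS, fun Q _ => by
    rw [hns]; exact Subgroup.card_le_of_le inf_le_left⟩
  set N := Fusion.nSys F hWS with hNdef
  have hN := Fusion.isNormalizerSystem_nSys F hWS
  have hNs : N.IsSaturated p := Fusion.isSaturated_normalizerSystem hSp hFs hfn hN
  have hNF : N.focalSubgroup ≤ F.focalSubgroup := Fusion.focal_le_iff.mpr fun P f hf x hx => by
    obtain ⟨-, -, e, he, hef, -⟩ := (Fusion.mapTo_nSys_iff hN).mp hf
    exact Fusion.mem_focal ((he.restrict le_sup_left).congr' fun x hx => (hef x hx).symm) hx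
  have hFG : ∀ x ∈ F.focalSubgroup, x ∈ Sg ∧ x ∈ commutator G := by
    refine fun x hx => (Subgroup.mem_inf.mp ((Fusion.focal_le_iff.mpr fun P f hf y hy => ?_ :
      F.focalSubgroup ≤ Sg ⊓ commutator G) hx))
    refine ⟨Sg.mul_mem (Sg.inv_mem (hf.le hy)) (hf.mem hy), ?_⟩
    obtain ⟨-, a, ha⟩ := Fusion.mapTo_gfs_iff.mp hf
    rw [(ha y hy).1]
    have h2 : ⁅y⁻¹, a⁆ ∈ commutator G :=
      Subgroup.commutator_mem_commutator (Subgroup.mem_top _) (Subgroup.mem_top _)
    convert h2 using 1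
    simp [commutatorElement_def, mul_assoc]
  have hne : N.focalSubgroup ≠ F.focalSubgroup := by
    intro heq
    have hEN : N.focalSubgroup ≤ ⁅Subgroup.normalizer (W : Set G), Subgroup.normalizer (W : Set G)⁆ := by
      refine Fusion.focal_le_iff.mpr fun P f hf x hx => ?_
      obtain ⟨hP, -, e, he, hef, heW⟩ := (Fusion.mapTo_nSys_iff hN).mp hf
      obtain ⟨-, a, ha⟩ := Fusion.mapTo_gfs_iff.mp he
      have haN : a ∈ Subgroup.normalizer (W : Set G) := Fusion.mem_normalizer_of_forall fun y hy => by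
        rw [← (ha y (Subgroup.mem_sup_right hy)).1]
        exact heW.le (Fusion.mem_img_of_mem hy)
      rw [← hef x hx, (ha x (Subgroup.mem_sup_left hx)).1]
      have h2 := Subgroup.commutator_mem_commutator
        (Subgroup.inv_mem _ (hSN (hP hx).1 : x ∈ Subgroup.normalizer (W : Set G))) haN
      convert h2 using 1
      simp [commutatorElement_def, mul_assoc]
    apply h
    refine le_antisymm (fun g hg => ⟨hg.1, ?_⟩)
      (inf_le_inf_left _ (Subgroup.commutator_mono le_top le_top |>.trans (le_of_eq (commutator_def G).symm)))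
    have hgF : g ∈ F.focalSubgroup := by
      have h1 : g ∈ (Sg).focalSubgroup :=
        (Subgroup.commutator_inf_eq_focalSubgroup S).le ⟨hg.2, hg.1⟩
      refine (Subgroup.closure_le _).mpr ?_ h1
      rintro y ⟨hy, x, hx, u, rfl⟩
      have hux : u * x⁻¹ * u⁻¹ ∈ Sg := by
        have h2 := Sg.mul_mem (Sg.inv_mem hx) hy
        rwa [show x⁻¹ * ⁅x, u⁆ = u * x⁻¹ * u⁻¹ by simp [commutatorElement_def, mul_assoc]] at h2
      have hm : Fusion.MapTo F (Subgroup.zpowers x⁻¹) (Fusion.cj u) :=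
        Fusion.mapTo_gfs_cj (Subgroup.zpowers_le.mpr (Sg.inv_mem hx)) fun z hz => by
          obtain ⟨k, rfl⟩ := Subgroup.mem_zpowers_iff.mp hz
          rw [← conj_zpow]
          exact Sg.zpow_mem hux k
      have h3 := Fusion.mem_focal hm (Subgroup.mem_zpowers x⁻¹)
      convert h3 using 1
      simp [commutatorElement_def, mul_assoc]
    exact hEN (heq.ge hgF)
  -- view the normalizer system on the Sylow subgroup itself
  obtain ⟨E, hEs, hEF, hEeq⟩ : ∃ E : Cfsg.FusionSystem Sg, E.IsSaturated p ∧ E ≤ F ∧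
      E.focalSubgroup = N.focalSubgroup := by
    have hmap : ∀ (P : Subgroup G) (f : G → G), Fusion.MapTo N P f → Fusion.MapTo F P f := by
      intro P f h
      obtain ⟨-, -, e, he, hef, -⟩ := (Fusion.mapTo_nSys_iff hN).mp h
      exact (he.restrict le_sup_left).congr' fun x hx => (hef x hx).symm
    clear_value N
    clear hN hNF hne hNdef
    revert N
    rw [hns]
    intro N hNs hmap
    exact ⟨N, hNs, Fusion.le_iff_mapTo.mpr hmap, rfl⟩
  rw [← hEeq] at hNF hne
  set Φ := (frattini Sg).map Sg.subtype with hΦ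
  have hcommΦ : ⁅Sg, Sg⁆ ≤ Φ := by
    rw [← Subgroup.map_subtype_commutator Sg]
    haveI : Group.IsNilpotent Sg := hSp.isNilpotent
    exact Subgroup.map_mono Basics.commutator_le_frattini
  set K : Subgroup Sg := E.focalSubgroup.subgroupOf Sg ⊔ frattini Sg with hK
  have hFS : F.focalSubgroup ≤ Sg := fun x hx => (hFG x hx).1
  obtain ⟨u₀, hu₀F, hu₀K⟩ : ∃ u₀ : Sg, (u₀ : G) ∈ F.focalSubgroup ∧ u₀ ∉ K := by
    by_contra h
    push Not at h
    have h1 : F.focalSubgroup ≤ E.focalSubgroup ⊔ Φ := fun x hx => by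
      have h2 : (⟨x, hFS hx⟩ : Sg) ∈ K := h _ hx
      have h3 : x ∈ K.map Sg.subtype := ⟨_, h2, rfl⟩
      rw [hK, Subgroup.map_sup,
        Subgroup.map_subgroupOf_eq_of_le (hNF.trans hFS)] at h3
      exact h3
    rw [Fusion.focal_eq_hyperfocal_sup hSp hEs] at h1
    have h2 : F.hyperfocalSubgroup p ≤ E.hyperfocalSubgroup p ⊔ Φ :=
      (Fusion.hyperfocal_le_focal.trans h1).trans
        (sup_le (sup_le le_sup_left (hcommΦ.trans le_sup_right)) le_sup_right)
    refine hne ?_
    rw [Fusion.focal_eq_hyperfocal_sup hSp hEs, Fusion.focal_eq_hyperfocal_sup hSp hFs,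
      Fusion.hyperfocal_eq_of_le_sup_frattini hSp hFs hEF h2]
  -- a functional
  obtain ⟨L, hKL, ⟨-, hu₀L⟩, hLmax⟩ := Finite.exists_le_maximal
    (p := fun L : Subgroup Sg => K ≤ L ∧ u₀ ∉ L) ⟨le_rfl, hu₀K⟩
  have hΦL : frattini Sg ≤ L := le_sup_right.trans hKL
  haveI hLn : L.Normal := FGB.normal_of_frattini_le hSp hΦL
  obtain ⟨π, hπ, ⟨t₀, ht₀⟩, hπL⟩ :=
    Fusion.exists_hom_zmod hSp (H := L) fun h => hu₀L (h ▸ Subgroup.mem_top u₀)
  have hπ1 : π 1 = 0 := by
    have := hπ 1 1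
    rwa [one_mul, left_eq_add] at this
  have hπpow : ∀ (a : Sg) (n : ℕ), π (a ^ n) = n * π a := by
    intro a n
    induction n with
    | zero => simp [hπ1]
    | succ n ih => rw [pow_succ, hπ, ih]; push_cast; ring
  have hu₀ : π u₀ ≠ 0 := by
    intro h0
    have hall : ∀ y : Sg, π y = 0 := by
      intro y
      by_cases hy : y ∈ L
      · exact hπL y hy
      have h1 : u₀ ∈ L ⊔ Subgroup.zpowers y := by
        by_contra hnot
        exact hy ((hLmax ⟨hKL.trans le_sup_left, hnot⟩ le_sup_left)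
          (Subgroup.mem_sup_right (Subgroup.mem_zpowers y)))
      obtain ⟨l, hl, z, hz, hlz⟩ := Subgroup.mem_sup_of_normal_left.mp h1
      obtain ⟨i, rfl⟩ := mem_powers_iff_mem_zpowers.mpr hz
      have h2 := congrArg π hlz
      rw [hπ, hπL l hl, zero_add, hπpow, h0] at h2
      rcases mul_eq_zero.mp h2 with h3 | h3
      · exfalso
        obtain ⟨j, rfl⟩ := (ZMod.natCast_eq_zero_iff _ _).mp h3
        refine hu₀L (hlz ▸ L.mul_mem hl ?_)
        show y ^ (p * j) ∈ L
        rw [pow_mul]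
        exact L.pow_mem (hΦL (Basics.pow_mem_frattini hSp y)) j
      · exact h3
    exact one_ne_zero (ht₀.symm.trans (hall t₀))
  refine Transfer.exists_iterated_commutator S W hW (fun a => if ha : a ∈ Sg then π ⟨a, ha⟩ else 0)
    (fun a ha b hb => ?_) (fun n hn s hs hns' => ?_) ⟨u₀, u₀.2, (hFG _ hu₀F).2, ?_⟩
  · rw [dif_pos ha, dif_pos hb, dif_pos (Sg.mul_mem ha hb), ← hπ]; rfl
  · rw [dif_pos hns', dif_pos hs]
    have hmem : s⁻¹ * (n * s * n⁻¹) ∈ E.focalSubgroup := by
      rw [hEeq]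
      have hPS : Subgroup.zpowers s ≤ Sg := Subgroup.zpowers_le.mpr hs
      refine Fusion.mem_focal (f := Fusion.cj n) ((Fusion.mapTo_nSys_iff hN).mpr ⟨?_, ?_, Fusion.cj n,
        Fusion.mapTo_gfs_cj (sup_le hPS hWS) ?_, fun _ _ => rfl, ?_⟩) (Subgroup.mem_zpowers s)
      · rw [hns]; exact hPS
      · intro x hx
        obtain ⟨k, rfl⟩ := Subgroup.mem_zpowers_iff.mp hx
        rw [hns]
        show n * s ^ k * n⁻¹ ∈ Sg
        rw [← conj_zpow]
        exact Sg.zpow_mem hns' k
      · intro x hx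
        have hle : Subgroup.zpowers s ⊔ W ≤ Sg.comap (MulAut.conj n).toMonoidHom :=
          sup_le (Subgroup.zpowers_le.mpr hns') fun w hw =>
            hWS ((Subgroup.mem_normalizer_iff.mp hn w).mp hw)
        exact hle hx
      · refine le_antisymm ?_ ?_
        · exact Fusion.img_le_of_forall fun w hw => (Subgroup.mem_normalizer_iff.mp hn w).mp hw
        · intro w hw
          rw [show w = Fusion.cj n (n⁻¹ * w * n) by show w = n * (n⁻¹ * w * n) * n⁻¹; group]
          refine Fusion.mem_img_of_mem ?_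
          have := (Subgroup.mem_normalizer_iff.mp (Subgroup.inv_mem _ hn) w).mp hw
          simpa using this
    have h2 : π (⟨s, hs⟩⁻¹ * ⟨n * s * n⁻¹, hns'⟩) = 0 :=
      hπL _ (hKL (Subgroup.mem_sup_left hmem))
    have h3 := hπ ⟨s, hs⟩ (⟨s, hs⟩⁻¹ * ⟨n * s * n⁻¹, hns'⟩)
    rwa [mul_inv_cancel_left, h2, add_zero] at h3
  · rw [dif_pos u₀.2]; exact hu₀

end Cfsg.Agent.S2792
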