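import Cfsg.Statements.S2793
import Cfsg.Agent.Lib.ZJWeight.Failure

set_option autoImplicit false
open Cfsg

namespace Cfsg.Agent.S2793

/-- Let p be an odd prime, S a Sylow p-subgroup of the finite group G, J(S) the subgroup generated by the abelian subgroups of S of largest order, and suppose Z(J(S)) does not control strong fusion in G. Put H = N_G(Z(J(S))). Then the group F(p) of upper triangular 3 × 3 matrices (a b c; 0 a⁻¹ d; 0 0 1) over the field with p elements is involved in H, and Z(J(S)) contains a subgroup C of order p with |N_H(C) : C_H(C)| = p − 1. -/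
theorem result {G : Type*} [Group G] [Finite G] {p : ℕ} [Fact p.Prime] (hp : p ≠ 2) (S : Sylow p G) (h : ¬ Cfsg.ControlsStrongFusion p (Cfsg.centerThompsonAOf (S : Subgroup G))) (H : Subgroup G) (hH : H = Subgroup.normalizer ((Cfsg.centerThompsonAOf (S : Subgroup G)) : Set G)) : Cfsg.Involves ↥(Cfsg.fOver (ZMod p)) ↥H ∧ ∃ C : Subgroup G, C ≤ (Cfsg.centerThompsonAOf (S : Subgroup G)) ∧ Nat.card C = p ∧ (H ⊓ Subgroup.centralizer (C : Set G)).relIndex (H ⊓ Subgroup.normalizer (C : Set G)) = p - 1 := by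
  obtain ⟨a, ha⟩ := IsCyclic.exists_generator (α := (ZMod p)ˣ)
  rw [← Transfer.ZJAb_zero] at h hH ⊢
  set Z := Transfer.ZJAb 0 (S : Subgroup G)
  have hnc : ¬ ZJWeight.Ctrl (S : Subgroup G) := by
    intro hc
    refine h ⟨S, Transfer.ZJAb_le _, fun A hA => ⟨hA, fun g hg => ?_⟩⟩
    have hle : ConjFunctor.cj g (Subgroup.closure A) ≤ (S : Subgroup G) := by
      rw [ConjFunctor.cj, MonoidHom.map_closure, Subgroup.closure_le]
      exact hg
    obtain ⟨x, hx, he⟩ := hc (Subgroup.closure A) g ((Subgroup.closure_le _).mpr hA) hle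
    exact ⟨x, hx, fun b hb => (he b (Subgroup.subset_closure hb)).symm⟩
  obtain ⟨⟨c, hc, hc1, hcp, k, hk, hkc⟩, hF⟩ := ZJWeight.failure hp ha S hnc
  subst hH
  refine ⟨hF.involves, Subgroup.zpowers c, Subgroup.zpowers_le.mpr hc, ?_, ?_⟩
  · rw [Nat.card_zpowers, orderOf_eq_prime hcp hc1]
  · exact ZJWeight.relIndex_of_weight hcp hc1 (ZJWeight.exists_pow_of_units ha) ⟨k, hk, hkc⟩

end Cfsg.Agent.S2793
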