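import Cfsg.Statements.S2794
import Cfsg.Agent.Lib.Transfer.ZJFusion
import Cfsg.Agent.Lib.SL2Dickson.Stability
import Cfsg.Agent.Lib.SL2Dickson.QdFusion

set_option autoImplicit false
open Cfsg

namespace Cfsg.Agent.S2794

/-- For an odd prime p and a finite group G, the group Qd(p) is not involved in G if and only if in every section K/R of G, for every Sylow p-subgroup S* of K/R, the centre of J(S*) (J generated by the abelian subgroups of largest order) controls strong fusion in K/R. -/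
theorem result {G : Type*} [Group G] [Finite G] {p : ℕ} [Fact p.Prime] (hp : p ≠ 2) : ¬ Cfsg.Involves ↥(Cfsg.qd p) G ↔ ∀ (K R : Subgroup G) [hR : (R.subgroupOf K).Normal], ∀ T : Sylow p (K ⧸ R.subgroupOf K), Cfsg.ControlsStrongFusion p (Cfsg.centerThompsonAOf (T : Subgroup (K ⧸ R.subgroupOf K))) := by
  constructor
  · intro h K R _ T
    have hst : ∀ (K₁ R₁ : Subgroup (↥K ⧸ R.subgroupOf K)) [hR₁ : (R₁.subgroupOf K₁).Normal],
        Cfsg.Agent.Transfer.PStableElts p (↥K₁ ⧸ R₁.subgroupOf K₁) := fun K₁ R₁ _ =>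
      Cfsg.Agent.Transfer.sections_stable_of_qd_free (G := ↥K ⧸ R.subgroupOf K) hp (fun hI => h
        (Cfsg.Agent.SL2Dickson.involves_trans (QuotientGroup.mk' (R.subgroupOf K))
          (QuotientGroup.mk'_surjective _) hI)) K₁ R₁
    refine ⟨T, ?_, fun A hA => ⟨hA, fun g hg => ?_⟩⟩
    · rw [← Cfsg.Agent.Transfer.ZJAb_zero]
      exact Cfsg.Agent.Transfer.ZJAb_le (T : Subgroup (↥K ⧸ R.subgroupOf K))
    · obtain ⟨n, hn, he⟩ := Cfsg.Agent.Transfer.exists_normalizer_ZJAb_conj hp (e := 0) (Or.inl rfl)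
        hst T A g hA hg
      rw [← Cfsg.Agent.Transfer.ZJAb_zero]
      exact ⟨n, hn, fun a ha => (he a ha).symm⟩
  · rintro h ⟨K, R, hR, ⟨e⟩⟩
    obtain ⟨T⟩ : Nonempty (Sylow p (↥K ⧸ R.subgroupOf K)) := inferInstance
    refine Cfsg.Agent.SL2Dickson.not_controls_qd e
      (Cfsg.Agent.Transfer.isCharPFunctor_zjW (p := p) (e := 0) (Or.inl rfl)) T ?_
    rw [Cfsg.Agent.Transfer.inducedFunctor_zjW, Cfsg.Agent.Transfer.ZJAb_zero]
    exact h K R T

end Cfsg.Agent.S2794
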