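import Cfsg.Statements.S2802
import Cfsg.Agent.Lib.LocalEvenA.PReduced

set_option autoImplicit false
open Cfsg

namespace Cfsg.Agent.S2802

/-- Let L be a finite group and p a prime with C_L(O_p(L)) ≤ O_p(L), T a Sylow p-subgroup of L and R a subgroup with T ≤ R. If X is a p-reduced normal subgroup of R (normal in R, elementary abelian, O_p(R/C_R(X)) = 1), then the normal closure of X in L is a p-reduced normal subgroup of L. -/
theorem result {L : Type*} [Group L] [Finite L] {p : ℕ} [Fact p.Prime] (hchar : Subgroup.centralizer (Cfsg.pCore p L : Set L) ≤ Cfsg.pCore p L) (T : Sylow p L) (R : Subgroup L) (hTR : (T : Subgroup L) ≤ R) (X : Subgroup ↥R) (hX : Cfsg.IsPReducedNormal p X) : Cfsg.IsPReducedNormal p (Subgroup.normalClosure ((X.map R.subtype : Subgroup L) : Set L)) := by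
  have := Cfsg.Agent.LocalEvenA.pCore_normal' p L
  have hO : Cfsg.pCore p L ≤ (T : Subgroup L) := (Cfsg.Agent.LocalEvenA.pCore_isPGroup' p L).le_sylow_of_normal T
  have hOR : (Cfsg.pCore p L).subgroupOf R ≤ Cfsg.pCore p ↥R :=
    Cfsg.Agent.LocalEvenA.le_pCore_of_normal (Subgroup.Normal.subgroupOf inferInstance R)
      ((Cfsg.Agent.LocalEvenA.pCore_isPGroup' p L).of_equiv (Subgroup.subgroupOfEquivOfLe (hO.trans hTR)).symm)
  have hsub : ((X.map R.subtype : Subgroup L) : Set L) ⊆
      Cfsg.omegaOne p (Cfsg.pCore p L ⊓ Subgroup.centralizer (Cfsg.pCore p L : Set L)) := by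
    rintro _ ⟨x, hx, rfl⟩
    have hc : (x : L) ∈ Subgroup.centralizer (Cfsg.pCore p L : Set L) := fun o ho =>
      (congrArg Subtype.val (Cfsg.Agent.LocalEvenA.pReduced_pCore_le_centralizer hX
        (hOR (show (⟨o, hTR (hO ho)⟩ : R) ∈ (Cfsg.pCore p L).subgroupOf R from ho)) x hx)).symm
    exact Subgroup.subset_closure ⟨⟨hchar hc, hc⟩, congrArg Subtype.val (hX.2.1.2 x hx)⟩
  refine Cfsg.Agent.LocalEvenA.pReduced_mk inferInstance
    (Cfsg.Agent.LocalEvenA.elemAb_normalClosure hsub) fun D hn hD => ?_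
  have := hn
  have hTD : D ⊓ (T : Subgroup L) ≤ Subgroup.centralizer ((X.map R.subtype : Subgroup L) : Set L) := by
    intro d hd
    have h1 := Cfsg.Agent.LocalEvenA.pReduced_criterion hX (D.subgroupOf R) (fun e he =>
      (hD e he).imp fun k hk x hx =>
        Subtype.ext (hk x (Subgroup.subset_normalClosure ⟨x, hx, rfl⟩)))
    rintro _ ⟨x, hx, rfl⟩
    exact congrArg Subtype.val (h1 (show (⟨d, hTR hd.2⟩ : R) ∈ D.subgroupOf R from hd.1) x hx)
  have h2 : D ≤ Subgroup.centralizer ((X.map R.subtype : Subgroup L) : Set L) :=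
    (Cfsg.Agent.LocalEvenA.le_inf_sylow_sup T D _ hD).trans
      (sup_le hTD (Subgroup.centralizer_le Subgroup.subset_normalClosure))
  exact Subgroup.le_centralizer_iff.1 (Subgroup.normalClosure_le_normal (N := Subgroup.centralizer (D : Set L))
    fun x hx d hd => ((h2 hd) x hx).symm)

end Cfsg.Agent.S2802
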