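import Cfsg.Statements.S2803
import Cfsg.Agent.Lib.LocalEvenA.PReduced

set_option autoImplicit false
open Cfsg

namespace Cfsg.Agent.S2803

/-- Let L be a finite group and p a prime with C_L(O_p(L)) ≤ O_p(L), T a Sylow p-subgroup, and Y the largest p-reduced normal subgroup of L. Put T_L = C_T(Y) and L_T = N_L(T_L). Then L = L_T · C_L(Y) (elementwise), T_L = O_p(L_T), and Y = Ω₁(Z(T_L)). -/
theorem result {L : Type*} [Group L] [Finite L] {p : ℕ} [Fact p.Prime] (hchar : Subgroup.centralizer (Cfsg.pCore p L : Set L) ≤ Cfsg.pCore p L) (T : Sylow p L) (Y : Subgroup L) (hY : (Cfsg.IsPReducedNormal p Y ∧ ∀ V : Subgroup L, Cfsg.IsPReducedNormal p V → V ≤ Y)) (TL : Subgroup L) (hTL : TL = (T : Subgroup L) ⊓ Subgroup.centralizer (Y : Set L)) : (∀ g : L, ∃ a ∈ Subgroup.normalizer (TL : Set L), ∃ c ∈ Subgroup.centralizer (Y : Set L), g = a * c) ∧ (Cfsg.pCore p ↥(Subgroup.normalizer (TL : Set L))).map (Subgroup.normalizer (TL : Set L)).subtype = TL ∧ Y = Cfsg.omegaOne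 p (TL ⊓ Subgroup.centralizer (TL : Set L)) := by
  obtain ⟨hY1, hY2⟩ := hY
  have := hY1.1
  have := Cfsg.Agent.LocalEvenA.pCore_normal' p L
  have hO : Cfsg.pCore p L ≤ (T : Subgroup L) := (Cfsg.Agent.LocalEvenA.pCore_isPGroup' p L).le_sylow_of_normal T
  have hOC := Cfsg.Agent.LocalEvenA.pReduced_pCore_le_centralizer hY1
  have hYTL : Y ≤ TL := hTL ▸ le_inf ((Cfsg.Agent.LocalEvenA.pReduced_le_pCore hY1).trans hO)
    (Cfsg.Agent.LocalEvenA.elemAb_le_centralizer hY1.2.1)
  have hCn : Subgroup.normalizer ((Subgroup.centralizer (Y : Set L) : Subgroup L) : Set L) = ⊤ :=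
    Subgroup.normalizer_eq_top_iff.2 inferInstance
  obtain ⟨P, hP⟩ := Cfsg.Agent.LocalEvenA.exists_sylow_subgroupOf_normal T (Subgroup.centralizer (Y : Set L))
  have hPm : (P : Subgroup ↥(Subgroup.centralizer (Y : Set L))).map (Subgroup.centralizer (Y : Set L)).subtype = TL := by
    rw [hP, Subgroup.subgroupOf_map_subtype, hTL]
  have hfr : Subgroup.normalizer (TL : Set L) ⊔ Subgroup.centralizer (Y : Set L) = ⊤ := by
    rw [← hPm]; exact Sylow.normalizer_sup_eq_top P
  have hfac : ∀ g : L, ∃ a ∈ Subgroup.normalizer (TL : Set L), ∃ c ∈ Subgroup.centralizer (Y : Set L), g = a * c := by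
    intro g
    refine (Cfsg.Agent.Basics.mem_sup_of_le_normalizer' ?_).1 (sup_comm (Subgroup.normalizer (TL : Set L)) _ ▸ hfr.symm ▸ Subgroup.mem_top g)
    rw [hCn]; exact le_top
  have hTLp : IsPGroup p ↥TL := hPm ▸ P.2.map _
  refine ⟨hfac, le_antisymm ?_ ?_, le_antisymm (Cfsg.Agent.LocalEvenA.le_omegaCenter hY1.2.1 hYTL (hTL ▸ inf_le_right)) ?_⟩
  · have hD0 : IsPGroup p ↥(Cfsg.pCoreOf p (Subgroup.normalizer (TL : Set L))) :=
      Cfsg.Agent.LocalEvenA.pCoreOf_isPGroup' p _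
    have hD : (Cfsg.pCoreOf p (Subgroup.normalizer (TL : Set L)) ⊔ Subgroup.centralizer (Y : Set L)).Normal := by
      rw [← Subgroup.normalizer_eq_top_iff, eq_top_iff, ← hfr]
      refine sup_le (Cfsg.Agent.LocalEvenA.le_normalizer_sup (Cfsg.Agent.LocalEvenA.le_normalizer_pCoreOf p _) ?_)
        (le_trans le_sup_right Subgroup.le_normalizer)
      rw [hCn]; exact le_top
    have := hD
    have hle : Cfsg.pCoreOf p (Subgroup.normalizer (TL : Set L)) ≤ Subgroup.centralizer (Y : Set L) := by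
      refine (le_sup_left (b := Subgroup.centralizer (Y : Set L))).trans
        (Cfsg.Agent.LocalEvenA.pReduced_criterion hY1
          (Cfsg.pCoreOf p (Subgroup.normalizer (TL : Set L)) ⊔ Subgroup.centralizer (Y : Set L)) (hD := fun d hd => ?_))
      rw [sup_comm] at hd
      exact Cfsg.Agent.LocalEvenA.pow_mem_of_mem_sup hD0
        (by rw [hCn]; exact le_top) hd
    have hTLle : TL ≤ Cfsg.pCoreOf p (Subgroup.normalizer (TL : Set L)) :=
      Cfsg.Agent.LocalEvenA.le_pCoreOf Subgroup.le_normalizer le_rfl hTLp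
    intro x hx
    change x ∈ Cfsg.pCoreOf p (Subgroup.normalizer (TL : Set L)) at hx
    have h := P.3 (hD0.comap_subtype (K := Subgroup.centralizer (Y : Set L)))
      (fun y hy => hTLle (hPm ▸ ⟨y, hy, rfl⟩))
    rw [← hPm]
    refine ⟨⟨x, hle hx⟩, ?_, rfl⟩
    rw [← h]; exact hx
  · exact Cfsg.Agent.LocalEvenA.le_pCoreOf Subgroup.le_normalizer le_rfl hTLp
  · set Z := Cfsg.omegaOne p (TL ⊓ Subgroup.centralizer (TL : Set L))
    have hOTL : Cfsg.pCore p L ≤ TL := hTL ▸ le_inf hO hOC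
    have hZsub : (Z : Set L) ⊆ Cfsg.omegaOne p (Cfsg.pCore p L ⊓ Subgroup.centralizer (Cfsg.pCore p L : Set L)) := by
      refine (Subgroup.closure_le _).2 fun z hz => ?_
      have hc : z ∈ Subgroup.centralizer (Cfsg.pCore p L : Set L) :=
        Subgroup.centralizer_le (SetLike.coe_subset_coe.2 hOTL) hz.1.2
      exact Subgroup.subset_closure ⟨⟨hchar hc, hc⟩, hz.2⟩
    have hYZ : Y ≤ Z := Cfsg.Agent.LocalEvenA.le_omegaCenter hY1.2.1 hYTL (hTL ▸ inf_le_right)
    refine Subgroup.subset_normalClosure.trans (hY2 (Subgroup.normalClosure (Z : Set L))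
      (Cfsg.Agent.LocalEvenA.pReduced_mk inferInstance (Cfsg.Agent.LocalEvenA.elemAb_normalClosure hZsub) fun D hn hD => ?_))
    have := hn
    have hDY : D ≤ Subgroup.centralizer (Y : Set L) :=
      Cfsg.Agent.LocalEvenA.pReduced_criterion hY1 D (hD := fun d hd => (hD d hd).imp fun k hk =>
        Subgroup.centralizer_le (fun y hy => Subgroup.subset_normalClosure (hYZ hy)) hk)
    have h2 : D ≤ Subgroup.centralizer (Z : Set L) := by
      refine (Cfsg.Agent.LocalEvenA.le_inf_sylow_sup T D _ hD).trans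
        (sup_le ?_ (Subgroup.centralizer_le Subgroup.subset_normalClosure))
      intro d hd z hz
      exact (((Cfsg.Agent.LocalEvenA.omegaOne_le p _) hz).2 d (hTL ▸ ⟨hd.2, hDY hd.1⟩)).symm
    exact Subgroup.le_centralizer_iff.1 (Subgroup.normalClosure_le_normal (N := Subgroup.centralizer (D : Set L))
      fun x hx d hd => ((h2 hd) x hx).symm)

end Cfsg.Agent.S2803
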