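import Cfsg.Statements.S2807
import Cfsg.Agent.Lib.Fusion.YoshidaFusion

set_option autoImplicit false
open Cfsg

open scoped commutatorElement

namespace Cfsg.Agent.S2807

/-- Let S be a Sylow p-subgroup of the finite group G. If S ∩ G' ≠ S ∩ (N_G(S))' (derived subgroups), then the wreath product Z_p ≀ Z_p — realised as a Sylow p-subgroup of the symmetric group of degree p² — is a homomorphic image of S. -/
theorem result {G : Type*} [Group G] [Finite G] {p : ℕ} [Fact p.Prime] (S : Sylow p G) (h : (S : Subgroup G) ⊓ commutator G ≠ (S : Subgroup G) ⊓ ⁅Subgroup.normalizer ((S : Subgroup G) : Set G), Subgroup.normalizer ((S : Subgroup G) : Set G)⁆) : ∃ (P : Sylow p (Equiv.Perm (Fin (p ^ 2)))) (f : ↥(S : Subgroup G) →* ↥(P : Subgroup (Equiv.Perm (Fin (p ^ 2))))), Function.Surjective f := by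
  by_contra hno
  apply h
  set Sg := (S : Subgroup G) with hSg
  set F := Cfsg.groupFusionSystem Sg with hF
  refine le_antisymm (fun g hg => ⟨hg.1, ?_⟩)
    (inf_le_inf_left _ (Subgroup.commutator_mono le_top le_top |>.trans (le_of_eq (commutator_def G).symm)))
  have hfn : F.IsFullyNormalized Sg := Fusion.isFullyNormalized_top
  have hSp : IsPGroup p Sg := S.2
  have hFs : F.IsSaturated p := Fusion.isSaturated_gfs S
  set N := Fusion.nSys F (le_refl Sg) with hNdef
  have hN := Fusion.isNormalizerSystem_nSys F (le_refl Sg)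
  have hNs : N.IsSaturated p := Fusion.isSaturated_normalizerSystem hSp hFs hfn hN
  have hmap : ∀ (P : Subgroup G) (f : G → G), Fusion.MapTo N P f → Fusion.MapTo F P f := by
    intro P f h
    obtain ⟨-, -, e, he, hef, -⟩ := (Fusion.mapTo_nSys_iff hN).mp h
    exact (he.restrict le_sup_left).congr' fun x hx => (hef x hx).symm
  have hns : Cfsg.FusionSystem.normalizerIn Sg Sg = Sg := inf_eq_left.mpr Subgroup.le_normalizer
  have hfull : ∀ f, Fusion.MapTo F Sg f → ∀ x ∈ Sg, x⁻¹ * f x ∈ N.focalSubgroup := by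
    intro f hf x hx
    refine Fusion.mem_focal (P := Sg) ((Fusion.mapTo_nSys_iff hN).mpr ⟨hns.ge,
      fun y hy => hns.ge (hf.mem hy), f, by rwa [sup_idem], fun _ _ => rfl, ?_⟩) hx
    exact Fusion.img_eq_self_of_forall hf fun y hy => hf.mem hy
  have hEN : N.focalSubgroup ≤ ⁅Subgroup.normalizer (Sg : Set G), Subgroup.normalizer (Sg : Set G)⁆ := by
    refine Fusion.focal_le_iff.mpr fun P f hf x hx => ?_
    obtain ⟨hP, -, e, he, hef, heS⟩ := (Fusion.mapTo_nSys_iff hN).mp hf
    obtain ⟨-, a, ha⟩ := Fusion.mapTo_gfs_iff.mp he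
    have haN : a ∈ Subgroup.normalizer (Sg : Set G) := Fusion.mem_normalizer_of_forall fun y hy => by
      rw [← (ha y (Subgroup.mem_sup_right hy)).1]
      exact heS.le (Fusion.mem_img_of_mem hy)
    rw [← hef x hx, (ha x (Subgroup.mem_sup_left hx)).1]
    have h2 := Subgroup.commutator_mem_commutator
      (Subgroup.inv_mem _ (Subgroup.le_normalizer (hP hx).1 : x ∈ Subgroup.normalizer (Sg : Set G))) haN
    convert h2 using 1
    simp [commutatorElement_def, mul_assoc]
  have hgF : g ∈ F.focalSubgroup := by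
    have h1 : g ∈ (Sg).focalSubgroup :=
      (Subgroup.commutator_inf_eq_focalSubgroup S).le ⟨hg.2, hg.1⟩
    refine (Subgroup.closure_le _).mpr ?_ h1
    rintro y ⟨hy, x, hx, u, rfl⟩
    have hux : u * x⁻¹ * u⁻¹ ∈ Sg := by
      have h2 := Sg.mul_mem (Sg.inv_mem hx) hy
      rwa [show x⁻¹ * ⁅x, u⁆ = u * x⁻¹ * u⁻¹ by simp [commutatorElement_def, mul_assoc]] at h2
    have hm : Fusion.MapTo F (Subgroup.zpowers x⁻¹) (Fusion.cj u) :=
      Fusion.mapTo_gfs_cj (Subgroup.zpowers_le.mpr (Sg.inv_mem hx)) fun z hz => by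
        obtain ⟨k, rfl⟩ := Subgroup.mem_zpowers_iff.mp hz
        rw [← conj_zpow]
        exact Sg.zpow_mem hux k
    have h3 := Fusion.mem_focal hm (Subgroup.mem_zpowers x⁻¹)
    convert h3 using 1
    simp [commutatorElement_def, mul_assoc]
  have heq : N.focalSubgroup = F.focalSubgroup := by
    clear_value N
    clear hN hEN hNdef
    revert N
    rw [hns]
    intro N hNs hmap hfull
    by_contra hne
    exact hno (Fusion.yoshida hSp hFs hNs (Fusion.le_iff_mapTo.mpr hmap) hfull hne)
  exact hEN (heq.ge hgF)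

end Cfsg.Agent.S2807
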