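import Cfsg.Statements.S2809
import Cfsg.Agent.Lib.LocalEvenA.Core

set_option autoImplicit false
open Cfsg

namespace Cfsg.Agent.S2809

/-- Let H be a finite group, p a prime, R a p-subgroup of H with C_H(R) ≤ R, and L a subgroup of N_H(R) acting nilpotently on R (some iterated commutator [R, L, …, L] is trivial). Then L is a p-group. -/
theorem result {H : Type*} [Group H] [Finite H] {p : ℕ} [Fact p.Prime] (R : Subgroup H) (hR : IsPGroup p ↥R) (hC : Subgroup.centralizer (R : Set H) ≤ R) (L : Subgroup H) (hL : L ≤ Subgroup.normalizer (R : Set H)) (hnil : ∃ n : ℕ, Cfsg.iterCommutator R L n = ⊥) : IsPGroup p ↥L := by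
  obtain ⟨n, hn⟩ := hnil
  refine Cfsg.Agent.LocalEvenA.isPGroup_of_forall_coprime fun x hx hc => ?_
  have hA : ∀ i, Cfsg.iterCommutator R L i ≤ R := by
    intro i
    induction i with
    | zero => exact le_rfl
    | succ i ih =>
      exact (Subgroup.commutator_mono ih le_rfl).trans
        (Subgroup.commutator_le.2 fun a ha b hb => by
          rw [commutatorElement_def, mul_assoc a, mul_assoc a]
          exact R.mul_mem ha ((Subgroup.mem_normalizer_iff.1 (hL hb) _).1 (R.inv_mem ha)))
  have h := Cfsg.Agent.LocalEvenA.comm_of_nilpotent_action hc hR hx (Cfsg.iterCommutator R L) n hA hn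
    (fun i _ => le_rfl)
  have hxR : x ∈ R := hC fun a ha => ((h a ha).eq).symm
  obtain ⟨k, hk⟩ := hR ⟨x, hxR⟩
  exact Cfsg.Agent.LocalEvenA.eq_one_of_pPow_of_coprime (congrArg Subtype.val hk) hc

end Cfsg.Agent.S2809
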