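import Cfsg.Statements.S2810
import Cfsg.Agent.Lib.LocalEvenA.Core

set_option autoImplicit false
open Cfsg
open scoped commutatorElement

namespace Cfsg.Agent.S2810

/-- Let H be a finite group of characteristic p and L a subgroup of H centralizing every factor of some H-invariant chain 1 = A₀ ≤ A₁ ≤ … ≤ Aₙ = O_p(H) of normal subgroups (that is, [A_{i+1}, L] ≤ Aᵢ for each i). Then L ≤ O_p(H). -/
theorem result {H : Type*} [Group H] [Finite H] {p : ℕ} [Fact p.Prime] (hchar : Subgroup.centralizer (Cfsg.pCore p H : Set H) ≤ Cfsg.pCore p H) (L : Subgroup H) (n : ℕ) (A : Fin (n + 1) → Subgroup H) (h0 : A 0 = ⊥) (hn : A (Fin.last n) = Cfsg.pCore p H) (hmono : Monotone A) (hnorm : ∀ i, (A i).Normal) (hcent : ∀ i : Fin n, ⁅A i.succ, L⁆ ≤ A i.castSucc) : L ≤ Cfsg.pCore p H := by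
  have hn' : ∀ i, (A i).Normal := hnorm
  let Q : Subgroup H := ⨅ i : Fin n, Cfsg.sectionKernel (A i.succ) (A i.castSucc)
  have hQn : Q.Normal := Subgroup.normal_iInf_normal fun i => by
    have := (hnorm i.succ).map (QuotientGroup.mk' (A i.castSucc)) (QuotientGroup.mk'_surjective _)
    exact Subgroup.Normal.comap inferInstance _
  have hmem : ∀ (i : Fin n) (x : H), x ∈ Cfsg.sectionKernel (A i.succ) (A i.castSucc) ↔
      ∀ a ∈ A i.succ, ⁅a, x⁆ ∈ A i.castSucc := by
    intro i x
    simp only [Cfsg.sectionKernel, Subgroup.mem_comap, Subgroup.mem_centralizer_iff, SetLike.mem_coe,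
      Subgroup.mem_map, forall_exists_index, and_imp, forall_apply_eq_imp_iff₂]
    refine forall₂_congr fun a _ => ?_
    rw [← commutatorElement_eq_one_iff_mul_comm, ← map_commutatorElement, QuotientGroup.mk'_apply,
      QuotientGroup.eq_one_iff]
  have hLQ : L ≤ Q := le_iInf fun i x hx =>
    (hmem i x).2 fun a ha => hcent i (Subgroup.commutator_mem_commutator ha hx)
  refine hLQ.trans (Cfsg.Agent.LocalEvenA.le_pCore_of_normal hQn ?_)
  refine Cfsg.Agent.LocalEvenA.isPGroup_of_forall_coprime fun x hx hc => ?_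
  have h := Cfsg.Agent.LocalEvenA.comm_of_nilpotent_action hc
    (Cfsg.Agent.LocalEvenA.pCore_isPGroup' p H) (Subgroup.mem_zpowers x)
    (fun j => A ⟨n - j, by omega⟩) n
    (fun j => (hmono (Fin.le_last _)).trans hn.le) (by simpa using h0)
    (fun j hj => by
      have hstep := (hmem ⟨n - (j + 1), by omega⟩ x).1 (Subgroup.mem_iInf.1 hx _)
      have e1 : (⟨n - j, by omega⟩ : Fin (n + 1)) = (⟨n - (j + 1), by omega⟩ : Fin n).succ :=
        Fin.ext (by simp; omega)
      rw [Subgroup.commutator_le]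
      intro a ha b hb
      rw [e1] at ha
      have hz : Subgroup.zpowers x ≤ Cfsg.sectionKernel (A (⟨n - (j + 1), by omega⟩ : Fin n).succ)
          (A (⟨n - (j + 1), by omega⟩ : Fin n).castSucc) :=
        Subgroup.zpowers_le.2 ((hmem _ x).2 hstep)
      exact (hmem _ b).1 (hz hb) a ha)
  have hxc : x ∈ Subgroup.centralizer (Cfsg.pCore p H : Set H) := fun a ha =>
    ((h a (by show a ∈ A (⟨n - 0, _⟩ : Fin (n + 1)); exact (hn ▸ ha : a ∈ A (Fin.last n)))).eq).symm
  obtain ⟨k, hk⟩ := Cfsg.Agent.LocalEvenA.pCore_isPGroup' p H ⟨x, hchar hxc⟩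
  exact Cfsg.Agent.LocalEvenA.eq_one_of_pPow_of_coprime (congrArg Subtype.val hk) hc

end Cfsg.Agent.S2810
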