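import Cfsg.Statements.S2812
import Cfsg.Agent.Lib.LocalEvenA.FStarComm

set_option autoImplicit false
open Cfsg
open Subgroup
open scoped commutatorElement

namespace Cfsg.Agent.S2812

/-- Let H be a subgroup of the finite group G with O_p(H) = 1, Y a p-subgroup of G normalizing H, and L a subgroup of the generalized Fitting subgroup F*(H) that is subnormal in H and normalized by Y. Then L = [L, Y]·C_L(Y) and [L, Y] = [L, Y, Y]. -/
theorem result {G : Type*} [Group G] [Finite G] {p : ℕ} [Fact p.Prime] (H : Subgroup G) (hO : Cfsg.pCore p ↥H = ⊥) (Y : Subgroup G) (hY : IsPGroup p ↥Y) (hYH : Y ≤ Subgroup.normalizer (H : Set G)) (L : Subgroup G) (hLF : L ≤ (Cfsg.generalizedFittingSubgroup ↥H).map H.subtype) (hLsn : (L.subgroupOf H).IsSubnormal) (hYL : Y ≤ Subgroup.normalizer (L : Set G)) : ⁅L, Y⁆ ⊔ (L ⊓ Subgroup.centralizer (Y : Set G)) = L ∧ ⁅L, Y⁆ = ⁅⁅L, Y⁆, Y⁆ := by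
  have hsub : L ≤ H := hLF.trans (map_subtype_le _)
  have hLF' : L.subgroupOf H ≤ generalizedFittingSubgroup ↥H := by
    rw [← Subgroup.map_le_map_iff_of_injective H.subtype_injective, map_subgroupOf_eq_of_le hsub]
    exact hLF
  have h1 := LocalEvenA.fStar_self_of_subnormal hLsn hLF'
  have h2 := LocalEvenA.pCore_subnormal_eq_bot hLsn hO
  have e := Subgroup.subgroupOfEquivOfLe hsub
  have h3 : generalizedFittingSubgroup ↥L = ⊤ := by
    rw [← Components.map_fStar_equiv e, h1, Subgroup.map_top_of_surjective _ e.surjective]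
  have h4 : pCore p ↥L = ⊥ := by
    rw [← Components.map_pCore_equiv e, h2, Subgroup.map_bot]
  have h := LocalEvenA.fStar_commutator_sup L Y hY hYL h3 h4
  exact ⟨h, LocalEvenA.commutator_eq_of_sup L Y hYL h⟩

end Cfsg.Agent.S2812
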