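import Cfsg.Statements.S2813
import Cfsg.Agent.Lib.LocalEvenA.FrattiniP

set_option autoImplicit false
open Cfsg
open scoped commutatorElement

namespace Cfsg.Agent.S2813

/-- Let K be a subgroup of the finite group H with O_p(K) = 1 and Y a p-subgroup of N_H(K) with [K, Y, Y] = 1. Then [K, Y] = 1. -/
theorem result {H : Type*} [Group H] [Finite H] {p : ℕ} [Fact p.Prime] (K : Subgroup H) (hO : Cfsg.pCore p ↥K = ⊥) (Y : Subgroup H) (hY : IsPGroup p ↥Y) (hYK : Y ≤ Subgroup.normalizer (K : Set H)) (hq : ⁅⁅K, Y⁆, Y⁆ = ⊥) : ⁅K, Y⁆ = ⊥ := by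
  set D := ⁅K, Y⁆ with hD
  have hDK : D ≤ K := LocalEvenA.commutator_le_left_of_normalizer hYK
  have hDY : Y ≤ Subgroup.centralizer (D : Set H) :=
    Subgroup.le_centralizer_iff.1 (Subgroup.commutator_eq_bot_iff_le_centralizer.1 hq)
  have hKD : K ≤ Subgroup.normalizer (D : Set H) := Subgroup.normalizer_commutator_ge_left K Y
  have hab : ⁅D, D⁆ = ⊥ := by
    have h1 : ⁅⁅Y, K⁆, D⁆ = ⊥ := by
      refine Subgroup.commutator_commutator_eq_bot_of_rotate ?_ ?_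
      · exact le_bot_iff.1 ((Subgroup.commutator_mono
          (LocalEvenA.commutator_le_right_of_normalizer hKD) le_rfl).trans hq.le)
      · refine le_bot_iff.1 ((Subgroup.commutator_mono (le_of_eq ?_) le_rfl).trans
          (Subgroup.commutator_bot_left K).le)
        exact Subgroup.commutator_eq_bot_iff_le_centralizer.2
          (Subgroup.le_centralizer_iff.1 hDY)
    rwa [Subgroup.commutator_comm Y K] at h1
  have hgen : ∀ k ∈ K, ∀ y ∈ Y, ∀ n : ℕ, ⁅k, y ^ n⁆ = ⁅k, y⁆ ^ n := by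
    intro k hk y hy n
    induction n with
    | zero => simp
    | succ n ih =>
      have hc : y ^ n * ⁅k, y⁆ = ⁅k, y⁆ * y ^ n :=
        (hDY (pow_mem hy n) _ (Subgroup.commutator_mem_commutator hk hy)).symm
      have e : ⁅k, y ^ (n + 1)⁆ = ⁅k, y ^ n⁆ * (y ^ n * ⁅k, y⁆) * (y ^ n)⁻¹ := by
        simp only [commutatorElement_def, pow_succ]; group
      rw [e, hc, ih, pow_succ]; group
  haveI : IsMulCommutative ↥D := ⟨⟨fun a b => Subtype.ext
    ((Subgroup.commutator_eq_bot_iff_le_centralizer.1 hab) b.2 a a.2)⟩⟩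
  have hDp : IsPGroup p ↥D := by
    intro x
    suffices h : ∀ z ∈ D, ∃ j : ℕ, z ^ p ^ j = 1 by
      obtain ⟨j, hj⟩ := h x x.2
      exact ⟨j, Subtype.ext hj⟩
    intro z hz
    suffices z ∈ D ∧ ∃ j : ℕ, z ^ p ^ j = 1 from this.2
    refine Subgroup.closure_induction (p := fun z _ => z ∈ D ∧ ∃ j : ℕ, z ^ p ^ j = 1) ?_ ?_ ?_ ?_ hz
    · rintro _ ⟨k, hk, y, hy, rfl⟩
      obtain ⟨j, hj⟩ := hY ⟨y, hy⟩
      refine ⟨Subgroup.commutator_mem_commutator hk hy, j, ?_⟩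
      rw [← hgen k hk y hy, show y ^ p ^ j = 1 from congrArg Subtype.val hj]; simp
    · exact ⟨one_mem _, 0, one_pow _⟩
    · rintro a b _ _ ⟨ha, i, hi⟩ ⟨hb, j, hj⟩
      refine ⟨mul_mem ha hb, i + j, ?_⟩
      have hc : Commute a b := congrArg Subtype.val (mul_comm' (⟨a, ha⟩ : ↥D) ⟨b, hb⟩)
      rw [hc.mul_pow, pow_add, pow_mul, hi, one_pow, one_mul, mul_comm (p ^ i) (p ^ j), pow_mul, hj, one_pow]
    · rintro a _ ⟨ha, i, hi⟩
      exact ⟨inv_mem ha, i, by rw [inv_pow, hi, inv_one]⟩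
  refine le_bot_iff.1 ((LocalEvenA.le_pCoreOf hDK hKD hDp).trans (le_of_eq ?_))
  rw [pCoreOf, hO, Subgroup.map_bot]

end Cfsg.Agent.S2813
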