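import Cfsg.Statements.S2814
import Cfsg.Agent.Lib.LocalEvenA.FrattiniP

set_option autoImplicit false
open Cfsg

namespace Cfsg.Agent.S2814

/-- Let A be a subgroup of the finite group H and K the subnormal closure of A (intersection of the subnormal subgroups containing A). Then K is the normal closure of A inside K and N_H(A) ≤ N_H(K); K = A·O^p(K), O^p(K) being generated by the elements of K of order prime to p; and if A is a p-group, O^p(K) = [O^p(K), A]. -/
theorem result {H : Type*} [Group H] [Finite H] {p : ℕ} [Fact p.Prime] (A : Subgroup H) (K : Subgroup H) (hK : K = Cfsg.subnormalClosure A) : (Subgroup.normalClosure ((A.subgroupOf K : Subgroup ↥K) : Set ↥K)).map K.subtype = K ∧ Subgroup.normalizer (A : Set H) ≤ Subgroup.normalizer (K : Set H) ∧ A ⊔ (Cfsg.pResidual p ↥K).map K.subtype = K ∧ (IsPGroup p ↥A → ⁅(Cfsg.pResidual p ↥K).map K.subtype, A⁆ = (Cfsg.pResidual p ↥K).map K.subtype) := by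
  subst hK
  set K := subnormalClosure A
  have hKs := LocalEvenA.isSubnormal_subnormalClosure A
  have hAK : A ≤ K := le_sInf fun X hX => hX.1
  set R := (pResidual p ↥K).map K.subtype with hR
  haveI := LocalEvenA.pResidual_characteristic' p ↥K
  have hRn : K ≤ Subgroup.normalizer (R : Set H) :=
    Subgroup.le_normalizer.trans (LocalEvenA.map_pResidual_le_normalizer K)
  have hRK : R ≤ K := Subgroup.map_subtype_le _
  have hnc : (Subgroup.normalClosure ((A.subgroupOf K : Subgroup ↥K) : Set ↥K)).map K.subtype = K :=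
    le_antisymm (Subgroup.map_subtype_le _) (sInf_le ⟨fun x hx => ⟨⟨x, hAK hx⟩,
      Subgroup.subset_normalClosure hx, rfl⟩, Subgroup.normalClosure_normal.isSubnormal.trans' hKs⟩)
  have htop : Subgroup.normalClosure ((A.subgroupOf K : Subgroup ↥K) : Set ↥K) = ⊤ :=
    Subgroup.map_injective K.subtype_injective
      (by rw [hnc, ← MonoidHom.range_eq_map, Subgroup.range_subtype])
  have hAR : A ⊔ R = K := by
    have h := congrArg (Subgroup.map K.subtype) (LocalEvenA.sup_eq_top_of_normalClosure (p := p)
      LocalEvenA.pResidual_quotient_isPGroup htop)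
    rwa [Subgroup.map_sup, ← MonoidHom.range_eq_map, Subgroup.range_subtype,
      Subgroup.map_subgroupOf_eq_of_le hAK, sup_comm] at h
  refine ⟨hnc, LocalEvenA.le_normalizer_of_cj_le fun g hg => ?_, hAR, fun hAp => ?_⟩
  · rw [LocalEvenA.cj_le_iff]
    refine sInf_le ⟨?_, hKs.map (MulAut.conj g⁻¹).surjective⟩
    rw [← LocalEvenA.cj_le_iff, LocalEvenA.mem_normalizer_iff_cj.1 hg]
    exact hAK
  · set D := ⁅R, A⁆ with hD
    have hDR : D ≤ R := LocalEvenA.commutator_le_left_of_normalizer (hAK.trans hRn)
    have hDn : K ≤ Subgroup.normalizer (D : Set H) := hAR.ge.trans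
      (sup_le (Subgroup.normalizer_commutator_ge_right R A) (Subgroup.normalizer_commutator_ge_left R A))
    have hRA : R ≤ Subgroup.normalizer ((D ⊔ A : Subgroup H) : Set H) := by
      refine LocalEvenA.le_normalizer_of_cj_le fun r hr => ?_
      refine (Subgroup.map_sup _ _ _).le.trans (sup_le ?_ ?_)
      · exact (LocalEvenA.mem_normalizer_iff_cj.1 (hDn (hRK hr))).le.trans le_sup_left
      · rintro _ ⟨a, ha, rfl⟩
        have h1 : r * a * r⁻¹ * a⁻¹ ∈ D := Subgroup.commutator_mem_commutator hr ha
        have := mul_mem (Subgroup.mem_sup_left h1) (Subgroup.mem_sup_right ha : a ∈ D ⊔ A)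
        simpa [mul_assoc] using this
    have hn2 : K ≤ Subgroup.normalizer ((D ⊔ A : Subgroup H) : Set H) :=
      hAR.ge.trans (sup_le (le_sup_right.trans Subgroup.le_normalizer) hRA)
    have hDA : D ⊔ A = K := by
      refine le_antisymm (sup_le (hDR.trans hRK) hAK) ?_
      refine sInf_le ⟨le_sup_right, ?_⟩
      exact Subgroup.IsSubnormal.step _ K (sup_le (hDR.trans hRK) hAK) hKs
        (Subgroup.normal_subgroupOf_of_le_normalizer hn2)
    refine le_antisymm hDR ?_
    haveI : (D.subgroupOf K).Normal := Subgroup.normal_subgroupOf_of_le_normalizer hDn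
    have hp : IsPGroup p (↥K ⧸ D.subgroupOf K) := by
      intro q
      induction q using QuotientGroup.induction_on with
      | _ x =>
        have hx : (x : H) ∈ D ⊔ A := by rw [hDA]; exact x.2
        obtain ⟨k, hk⟩ := LocalEvenA.pow_mem_of_mem_sup hAp (hAK.trans hDn) hx
        refine ⟨k, ?_⟩
        rw [← QuotientGroup.mk_pow, QuotientGroup.eq_one_iff]
        exact hk
    rintro _ ⟨x, hx, rfl⟩
    exact LocalEvenA.pResidual_le_of_isPGroup_quotient hp hx

end Cfsg.Agent.S2814
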