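import Cfsg.Statements.S2815
import Cfsg.Agent.Lib.LocalEvenA.Core
import Cfsg.Agent.Lib.Components.FStar2
import Cfsg.Agent.Lib.Components.Quasisimple
import Cfsg.Agent.Lib.Transfer.Residual

set_option autoImplicit false
open Cfsg
open scoped commutatorElement

namespace Cfsg.Agent.S2815

/-- Let H be a finite group and p a prime dividing its order with O_p(H) = 1, and suppose K = O^p(H) (generated by the elements of order prime to p) is quasisimple. Then K = F*(H); for every nontrivial p-subgroup Y of H, K = [K, Y] and K lies in the subgroup generated by the K-conjugates of Y; every normal subgroup of H not containing K has order prime to p; and H is p-irreducible. -/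
theorem result {H : Type*} [Group H] [Finite H] {p : ℕ} [Fact p.Prime] (hp : p ∣ Nat.card H) (hO : Cfsg.pCore p H = ⊥) (hq : Cfsg.IsQuasisimple ↥(Cfsg.pResidual p H)) : Cfsg.pResidual p H = Cfsg.generalizedFittingSubgroup H ∧ (∀ Y : Subgroup H, IsPGroup p ↥Y → Y ≠ ⊥ → ⁅Cfsg.pResidual p H, Y⁆ = Cfsg.pResidual p H ∧ Cfsg.pResidual p H ≤ ⨆ k : ↥(Cfsg.pResidual p H), Y.map (MulAut.conj (k : H)).toMonoidHom) ∧ (∀ C : Subgroup H, C.Normal → ¬ Cfsg.pResidual p H ≤ C → (Nat.card ↥C).Coprime p) ∧ Cfsg.IsPIrreducible p H := by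
  classical
  set K := Cfsg.pResidual p H with hKdef
  have hKn : K.Normal := @Subgroup.normal_of_characteristic _ _ _ (Cfsg.Agent.LocalEvenA.pResidual_characteristic' p H)
  have hKc : Cfsg.IsComponent K := ⟨hKn.isSubnormal, hq⟩
  have hperf : ⁅K, K⁆ = K := Cfsg.Agent.Components.isQuasisimple_commutator_eq_self hq
  have hKnorm : ∀ A : Subgroup H, A ≤ Subgroup.normalizer (K : Set H) := fun A => by
    rw [Subgroup.normalizer_eq_top]; exact le_top
  have hlayer : Cfsg.layer H = K := by
    refine le_antisymm (Cfsg.Agent.Components.layer_le_iff.2 fun L hL => ?_)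
      (Cfsg.Agent.Components.component_le_layer hKc)
    have hLperf := Cfsg.Agent.Components.isComponent_commutator_eq_self hL
    intro x hx
    have hker : L.map (QuotientGroup.mk' K) = ⊥ := by
      have hpq : IsPGroup p (H ⧸ K) := Cfsg.Agent.Transfer.isPGroup_quotient_pResidual
      have : Group.IsNilpotent (H ⧸ K) := hpq.isNilpotent
      have hperfm : ⁅L.map (QuotientGroup.mk' K), L.map (QuotientGroup.mk' K)⁆ = L.map (QuotientGroup.mk' K) := by
        rw [← Subgroup.map_commutator, hLperf]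
      have hsol : Group.IsSolvable ↥(L.map (QuotientGroup.mk' K)) := inferInstance
      by_contra hne
      have : Nontrivial ↥(L.map (QuotientGroup.mk' K)) := (Subgroup.nontrivial_iff_ne_bot _).2 hne
      have hp1 : Group.IsPerfect ↥(L.map (QuotientGroup.mk' K)) := Subgroup.isPerfect_iff.2 hperfm
      exact Group.IsPerfect.not_isSolvable _ hsol
    have := hker.le ⟨x, hx, rfl⟩
    exact (QuotientGroup.eq_one_iff x).1 (Subgroup.mem_bot.1 this)
  have hfit : Cfsg.fittingSubgroup H ≤ K := by
    rw [Cfsg.Agent.Components.fitting_eq_iSup_pCore]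
    refine iSup_le fun q x hx => ?_
    by_cases hqp : (q : ℕ) = p
    · rw [hqp, hO, Subgroup.mem_bot] at hx; rw [hx]; exact one_mem _
    have := Fact.mk (Nat.prime_of_mem_primeFactors q.2)
    obtain ⟨k, hk⟩ := IsPGroup.iff_orderOf.1 (Cfsg.Agent.LocalEvenA.pCore_isPGroup' (q : ℕ) H) ⟨x, hx⟩
    rw [Subgroup.orderOf_mk] at hk
    refine Cfsg.Agent.LocalEvenA.mem_pResidual_of_coprime ?_
    rw [hk]
    exact ((Nat.coprime_primes (Nat.prime_of_mem_primeFactors q.2) Fact.out).2 hqp).pow_left k
  have hF : K = Cfsg.generalizedFittingSubgroup H := by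
    show K = Cfsg.layer H ⊔ Cfsg.fittingSubgroup H
    rw [hlayer, sup_eq_left.2 hfit]
  have hcentp : ∀ Y : Subgroup H, IsPGroup p ↥Y → Y ≤ Subgroup.centralizer (K : Set H) → Y = ⊥ := by
    intro Y hY hYc
    have hYK : Y ≤ K := by
      rw [hF] at hYc ⊢
      exact hYc.trans Cfsg.Agent.Components.centralizer_fStar_le
    refine le_bot_iff.1 (le_trans ?_ (le_of_eq hO))
    refine Cfsg.Agent.LocalEvenA.subnormal_le_pCore ?_ hY
    refine Subgroup.IsSubnormal.step _ _ hYK hKn.isSubnormal ?_
    exact (Subgroup.normal_subgroupOf_iff_le_normalizer hYK).2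
      ((Subgroup.le_centralizer_iff.1 hYc).trans (Subgroup.centralizer_le_normalizer _))
  have hcase : ∀ C : Subgroup H, C.Normal → ¬ K ≤ C → C ≤ Subgroup.centralizer (K : Set H) := by
    intro C hC hne
    have hc := (Cfsg.Agent.Components.isQuasisimple_normalized_cases hq
      (N := C) (by rw [Subgroup.normalizer_eq_top]; exact le_top)).resolve_left hne
    have h1 : ⁅⁅C, K⁆, K⁆ = ⊥ := Subgroup.commutator_eq_bot_iff_le_centralizer.2
      ((le_inf (Subgroup.commutator_le_left _ _) (Subgroup.commutator_le_right _ _)).trans hc)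
    have h2 : ⁅⁅K, K⁆, C⁆ = ⊥ := by
      refine Subgroup.commutator_commutator_eq_bot_of_rotate ?_ h1
      rw [Subgroup.commutator_comm K C]; exact h1
    rw [hperf, Subgroup.commutator_comm] at h2
    exact Subgroup.commutator_eq_bot_iff_le_centralizer.1 h2
  have hcop : ∀ C : Subgroup H, C.Normal → ¬ K ≤ C → (Nat.card ↥C).Coprime p := by
    intro C hC hne
    refine ((Fact.out : p.Prime).coprime_iff_not_dvd.2 fun hd => ?_).symm
    obtain ⟨P⟩ : Nonempty (Sylow p ↥C) := inferInstance
    refine P.ne_bot_of_dvd_card hd ?_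
    exact (Subgroup.map_eq_bot_iff_of_injective _ C.subtype_injective).1
      (hcentp _ (P.2.map _) ((Subgroup.map_subtype_le _).trans (hcase C hC hne)))
  refine ⟨hF, fun Y hY hY1 => ?_, hcop, ?_, fun N hN hnc => ?_⟩
  · have hle : ⁅K, Y⁆ ≤ K := Subgroup.commutator_le_left _ _
    have heq : ⁅K, Y⁆ = K := by
      refine le_antisymm hle ?_
      by_contra hne
      have hc := (Cfsg.Agent.Components.isQuasisimple_normalized_cases hq
        (N := ⁅K, Y⁆) (Subgroup.normalizer_commutator_ge_left K Y)).resolve_left hne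
      rw [inf_eq_left.2 hle] at hc
      have h1 : ⁅⁅K, Y⁆, K⁆ = ⊥ := Subgroup.commutator_eq_bot_iff_le_centralizer.2 hc
      have h2 : ⁅⁅K, K⁆, Y⁆ = ⊥ := by
        refine Subgroup.commutator_commutator_eq_bot_of_rotate h1 ?_
        rw [Subgroup.commutator_comm Y K]; exact h1
      rw [hperf, Subgroup.commutator_comm] at h2
      exact hY1 (hcentp Y hY (Subgroup.commutator_eq_bot_iff_le_centralizer.1 h2))
    refine ⟨heq, ?_⟩
    set X := ⨆ k : ↥K, Y.map (MulAut.conj (k : H)).toMonoidHom with hX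
    refine heq.ge.trans (Subgroup.commutator_le.2 fun k hk y hy => ?_)
    rw [commutatorElement_def]
    refine mul_mem ?_ (inv_mem ?_)
    · exact le_iSup (fun k : ↥K => Y.map (MulAut.conj (k : H)).toMonoidHom) ⟨k, hk⟩ ⟨y, hy, rfl⟩
    · exact le_iSup (fun k : ↥K => Y.map (MulAut.conj (k : H)).toMonoidHom) 1 ⟨y, hy, by simp⟩
  · intro hc
    obtain ⟨P⟩ : Nonempty (Sylow p H) := inferInstance
    exact P.ne_bot_of_dvd_card hp (le_bot_iff.1
      ((Cfsg.Agent.LocalEvenA.le_pCore_of_normal (hc P) P.2).trans hO.le))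
  · by_contra hne
    refine hnc fun P => ?_
    have hP : (P : Subgroup ↥N) = ⊥ := by
      by_contra hP
      obtain ⟨k, hk⟩ := IsPGroup.iff_card.1 P.2
      have hk0 : k ≠ 0 := fun h0 => hP (Subgroup.card_eq_one.1 (by rw [hk, h0, pow_zero]))
      have hd : p ∣ Nat.card ↥N := (hk ▸ dvd_pow_self p hk0).trans (Subgroup.card_subgroup_dvd_card _)
      exact ((Fact.out : p.Prime).coprime_iff_not_dvd.1 (hcop N hN hne).symm) hd
    rw [hP]
    infer_instance

end Cfsg.Agent.S2815
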