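import Cfsg.Statements.S2816
import Cfsg.Agent.Lib.LocalEvenA.FStarComm

set_option autoImplicit false
open Cfsg
open Subgroup
open scoped commutatorElement

namespace Cfsg.Agent.S2816

/-- Let H be a finite group and p a prime with O_p(H) = 1, and Y a p-subgroup of H. Then for every subnormal subgroup K of H containing Y, [F*(H), Y] = [F*(K), Y] = [F*(K), Y, Y]; and if Y₀ ≤ Y with [F*(H), Y, Y₀] = 1 then Y₀ = 1 (in particular [F*(H), Y] = 1 forces Y = 1). -/
theorem result {H : Type*} [Group H] [Finite H] {p : ℕ} [Fact p.Prime] (hO : Cfsg.pCore p H = ⊥) (Y : Subgroup H) (hY : IsPGroup p ↥Y) : (∀ K : Subgroup H, K.IsSubnormal → Y ≤ K → ⁅Cfsg.generalizedFittingSubgroup H, Y⁆ = ⁅(Cfsg.generalizedFittingSubgroup ↥K).map K.subtype, Y⁆ ∧ ⁅(Cfsg.generalizedFittingSubgroup ↥K).map K.subtype, Y⁆ = ⁅⁅(Cfsg.generalizedFittingSubgroup ↥K).map K.subtype, Y⁆, Y⁆) ∧ (∀ Y₀ : Subgroup H, Y₀ ≤ Y → ⁅⁅Cfsg.generalizedFittingSubgroup H, Y⁆, Y₀⁆ = ⊥ → Y₀ = ⊥) := by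
  have hFs := Components.isSubnormal_of_normal (generalizedFittingSubgroup H)
  have hYn : Y ≤ normalizer (generalizedFittingSubgroup H : Set H) := by
    rw [Subgroup.normalizer_eq_top_iff.2 inferInstance]; exact le_top
  have hsup := LocalEvenA.fStar_commutator_sup _ Y hY hYn
    (LocalEvenA.fStar_self_of_subnormal hFs le_rfl) (LocalEvenA.pCore_subnormal_eq_bot hFs hO)
  have hA := LocalEvenA.commutator_eq_of_sup _ Y hYn hsup
  refine ⟨fun K hK hYK => ?_, fun Y₀ hY₀ h0 => ?_⟩
  · have key : ∀ K : Subgroup H, K.IsSubnormal → Y ≤ K → ⁅generalizedFittingSubgroup H, Y⁆ ≤ K := by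
      intro K hK
      induction hK with
      | top => exact fun _ => le_top
      | step K' M hle _ hn ih =>
        intro hY'
        rw [hA]
        exact (commutator_mono (ih (hY'.trans hle)) hY').trans
          (le_normalizer_iff_commutator_le_right.1
            ((normal_subgroupOf_iff_le_normalizer hle).1 hn))
    have hAK : ⁅generalizedFittingSubgroup H, Y⁆ ≤
        (generalizedFittingSubgroup ↥K).map K.subtype :=
      (le_inf (le_normalizer_iff_commutator_le_left.1 hYn) (key K hK hYK)).trans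
        (Components.fStar_inf_subnormal_le hK)
    have heq : ⁅generalizedFittingSubgroup H, Y⁆ =
        ⁅(generalizedFittingSubgroup ↥K).map K.subtype, Y⁆ :=
      le_antisymm (hA.le.trans (commutator_mono hAK le_rfl))
        (commutator_mono (LocalEvenA.fStar_map_le_of_subnormal hK) le_rfl)
    exact ⟨heq, heq ▸ hA⟩
  · have h1 : generalizedFittingSubgroup H ≤ centralizer (Y₀ : Set H) := by
      rw [← hsup]
      exact sup_le (commutator_eq_bot_iff_le_centralizer.1 h0)
        (inf_le_right.trans (centralizer_le hY₀))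
    exact LocalEvenA.eq_bot_of_fStar_normalizes hO (hY.to_le hY₀)
      (h1.trans (centralizer_le_normalizer _))

end Cfsg.Agent.S2816
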