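import Cfsg.Statements.S2817
import Cfsg.Agent.Lib.LocalEvenA.FStarComm2
import Cfsg.Agent.Lib.LocalEvenA.FStarAct

set_option autoImplicit false
open Cfsg
open Subgroup
open scoped commutatorElement

namespace Cfsg.Agent.S2817

/-- Let H be a finite group and p a prime with O_p(H) = 1, Q a p-subgroup of H, L = [F*(H), Q], and F the largest normal subgroup of F*(H) centralized by Q (a normal subgroup of F*(H) centralized by Q and containing every such). Then F = C_{F*(H)}(LQ); L = [L, Q]; L ∩ F ≤ Φ(L); every p-subgroup B of N_H(Q) with [L, B] ≤ F satisfies [L, B] = 1; and C_H(FL) has order prime to p. -/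
theorem result {H : Type*} [Group H] [Finite H] {p : ℕ} [Fact p.Prime] (hO : Cfsg.pCore p H = ⊥) (Q : Subgroup H) (hQ : IsPGroup p ↥Q) (L : Subgroup H) (hL : L = ⁅Cfsg.generalizedFittingSubgroup H, Q⁆) (F : Subgroup H) (hF : F ≤ Cfsg.generalizedFittingSubgroup H ∧ Cfsg.generalizedFittingSubgroup H ≤ Subgroup.normalizer (F : Set H) ∧ Q ≤ Subgroup.centralizer (F : Set H) ∧ ∀ N : Subgroup H, N ≤ Cfsg.generalizedFittingSubgroup H → Cfsg.generalizedFittingSubgroup H ≤ Subgroup.normalizer (N : Set H) → Q ≤ Subgroup.centralizer (N : Set H) → N ≤ F) : F = Cfsg.generalizedFittingSubgroup H ⊓ Subgroup.centralizer ((L ⊔ Q : Subgroup H) : Set H) ∧ ⁅L, Q⁆ = L ∧ L ⊓ F ≤ (frattini ↥L).map L.subtype ∧ (∀ B : Subgroup H, IsPGroup p ↥B → B ≤ Subgroup.normalizer (Q : Set H) → ⁅L, B⁆ ≤ F → ⁅L, B⁆ = ⊥) ∧ (Nat.card ↥(Subgroup.centralizer ((F ⊔ L : Subgroup H) : Set H))).Coprime p := by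
  obtain ⟨hFE, hEF, hQF, hmax⟩ := hF
  set E := generalizedFittingSubgroup H with hE
  have hEs : E.IsSubnormal := Components.isSubnormal_of_normal E
  have hEn : ∀ X : Subgroup H, X ≤ normalizer (E : Set H) := fun X => by
    rw [Subgroup.normalizer_eq_top_iff.2 inferInstance]; exact le_top
  have hsupE := LocalEvenA.fStar_commutator_sup E Q hQ (hEn Q)
    (LocalEvenA.fStar_self_of_subnormal hEs le_rfl) (LocalEvenA.pCore_subnormal_eq_bot hEs hO)
  rw [← hL] at hsupE
  have hLQ : ⁅L, Q⁆ = L := by
    have := LocalEvenA.commutator_eq_of_sup E Q (hEn Q) (by rw [← hL]; exact hsupE)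
    rw [← hL] at this
    exact this.symm
  have hLE : L ≤ E := hL ▸ le_normalizer_iff_commutator_le_left.1 (hEn Q)
  have hEL : E ≤ normalizer (L : Set H) := hL ▸ normalizer_commutator_ge_left E Q
  have hQL : Q ≤ normalizer (L : Set H) := hL ▸ normalizer_commutator_ge_right E Q
  have hLs : L.IsSubnormal := Components.isSubnormal_of_normal_in hLE hEs hEL
  have hstarL := LocalEvenA.fStar_self_of_subnormal hLs hLE
  have hOL := LocalEvenA.pCore_subnormal_eq_bot hLs hO
  -- `L` centralizes `F`
  have hFL : L ≤ centralizer (F : Set H) := by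
    rw [hL]
    refine commutator_eq_bot_iff_le_centralizer.1 (commutator_commutator_eq_bot_of_rotate ?_ ?_)
    · rw [commutator_eq_bot_iff_le_centralizer.2 hQF]
      exact le_bot_iff.1 (commutator_bot_left _).le
    · refine commutator_eq_bot_iff_le_centralizer.2 (le_trans ?_ (le_centralizer_iff.1 hQF))
      exact le_normalizer_iff_commutator_le_left.1 hEF
  have hCsup : ∀ A B : Subgroup H, centralizer ((A ⊔ B : Subgroup H) : Set H) =
      centralizer (A : Set H) ⊓ centralizer (B : Set H) := fun A B =>
    le_antisymm (le_inf (centralizer_le (SetLike.coe_subset_coe.2 le_sup_left))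
      (centralizer_le (SetLike.coe_subset_coe.2 le_sup_right)))
      (le_centralizer_iff.1 (sup_le (le_centralizer_iff.1 inf_le_left) (le_centralizer_iff.1 inf_le_right)))
  have hDL : E ⊓ centralizer (Q : Set H) ≤ normalizer (L : Set H) := inf_le_left.trans hEL
  have hFeq : F = E ⊓ centralizer ((L ⊔ Q : Subgroup H) : Set H) := by
    refine le_antisymm (le_inf hFE ?_) (hmax _ inf_le_left ?_ ?_)
    · rw [hCsup]
      exact le_inf (le_centralizer_iff.1 hFL) (le_centralizer_iff.1 hQF)
    · rw [hCsup]
      conv_lhs => rw [← hsupE]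
      refine sup_le ?_ ?_
      · refine le_trans (le_centralizer_iff.1 ?_) (centralizer_le_normalizer _)
        exact inf_le_right.trans inf_le_left
      · refine LocalEvenA.le_normalizer_inf (hEn _) (LocalEvenA.le_normalizer_inf
          (hDL.trans (LocalEvenA.normalizer_le_normalizer_centralizer _)) ?_)
        exact (inf_le_right.trans (centralizer_le_normalizer _)).trans
          (LocalEvenA.normalizer_le_normalizer_centralizer _)
    · refine le_centralizer_iff.1 (inf_le_right.trans ?_)
      exact centralizer_le (SetLike.coe_subset_coe.2 le_sup_right)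
  have hZ : L ⊓ F ≤ ⁅L, L⁆ := (le_inf inf_le_left (inf_le_right.trans
    (le_centralizer_iff.1 hQF))).trans (LocalEvenA.fixed_le_derived hQ hQL hstarL hOL hLQ)
  refine ⟨hFeq, hLQ, fun z hz => LocalEvenA.center_inf_derived_le_frattini (hZ hz)
    (le_centralizer_iff.1 hFL hz.2), ?_, ?_⟩
  · intro B hB hBQ hBF
    have hBL : B ≤ normalizer (L : Set H) := by
      intro b hb
      refine Components.mem_normalizer_of_map_conj_eq ?_
      rw [hL, Subgroup.map_commutator, Components.map_conj_eq_of_mem_normalizer (hEn B hb),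
        Components.map_conj_eq_of_mem_normalizer (hBQ hb)]
    have hLB : ⁅L, B⁆ ≤ L ⊓ F := le_inf (le_normalizer_iff_commutator_le_left.1 hBL) hBF
    have h1 : ⁅⁅L, B⁆, L⁆ = ⊥ := commutator_eq_bot_iff_le_centralizer.2
      (hBF.trans (le_centralizer_iff.1 hFL))
    have h2 : ⁅⁅B, L⁆, L⁆ = ⊥ := by rw [commutator_comm B L]; exact h1
    have h3 : ⁅L, L⁆ ≤ centralizer (B : Set H) :=
      commutator_eq_bot_iff_le_centralizer.1 (commutator_commutator_eq_bot_of_rotate h1 h2)
    refine le_bot_iff.1 (commutator_le.2 fun l hl b hb => ?_)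
    have hz := hLB (commutator_mem_commutator hl hb)
    obtain ⟨k, hk⟩ := hB ⟨b, hb⟩
    have hk' : b ^ p ^ k = 1 := congrArg Subtype.val hk
    rw [Subgroup.mem_bot]
    refine LocalEvenA.eq_one_of_mem_abelian_subnormal (p := p) (A := L ⊓ F) (k := k) ?_ ?_ hO hz ?_
    · refine Components.isSubnormal_of_normal_in inf_le_left hLs ?_
      exact (le_centralizer_iff.1 (inf_le_right.trans (le_centralizer_iff.1 hFL))).trans
        (centralizer_le_normalizer _)
    · exact (inf_le_right.trans (le_centralizer_iff.1 hFL)).trans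
        (centralizer_le (SetLike.coe_subset_coe.2 inf_le_left))
    · rw [← LocalEvenA.commutatorElement_pow_right
        (Subgroup.mem_centralizer_iff.1 (h3 (hZ hz)) b hb), hk', commutatorElement_one_right]
  · refine Nat.Coprime.symm ((Fact.out : p.Prime).coprime_iff_not_dvd.2 fun hd => ?_)
    have hQC : Q ≤ normalizer ((centralizer ((F ⊔ L : Subgroup H) : Set H) : Subgroup H) : Set H) := by
      rw [hCsup]
      exact LocalEvenA.le_normalizer_inf
        ((hQF.trans (centralizer_le_normalizer _)).trans
          (LocalEvenA.normalizer_le_normalizer_centralizer _))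
        (hQL.trans (LocalEvenA.normalizer_le_normalizer_centralizer _))
    obtain ⟨b, hbC, hb1, hbQ, k, hk⟩ := LocalEvenA.exists_fixed_pElement hQ hQC hd
    rw [hCsup] at hbC
    have hD : E ⊓ centralizer (Q : Set H) ≤ centralizer {b} := by
      intro c hc
      have hbcE : ⁅c, b⁆ ∈ E := by
        rw [commutatorElement_def, mul_assoc, mul_assoc]
        refine mul_mem hc.1 ?_
        rw [← mul_assoc]
        exact (inferInstance : E.Normal).conj_mem _ (inv_mem hc.1) b
      have hbcQ : ⁅c, b⁆ ∈ centralizer (Q : Set H) := by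
        rw [commutatorElement_def]
        exact mul_mem (mul_mem (mul_mem hc.2 hbQ) (inv_mem hc.2)) (inv_mem hbQ)
      have hbcL : ⁅c, b⁆ ∈ centralizer (L : Set H) := by
        rw [commutatorElement_def]
        exact mul_mem ((Subgroup.mem_normalizer_iff.1
          (LocalEvenA.normalizer_le_normalizer_centralizer _ (hDL hc)) b).1 hbC.2) (inv_mem hbC.2)
      have hbcF : ⁅c, b⁆ ∈ centralizer (F : Set H) := by
        rw [commutatorElement_def]
        exact mul_mem ((Subgroup.mem_normalizer_iff.1
          (LocalEvenA.normalizer_le_normalizer_centralizer _ (hEF hc.1)) b).1 hbC.1) (inv_mem hbC.1)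
      have hmem : ⁅c, b⁆ ∈ F := by rw [hFeq, hCsup]; exact ⟨hbcE, hbcL, hbcQ⟩
      have hone : ⁅c, b⁆ = 1 := by
        refine LocalEvenA.eq_one_of_mem_abelian_subnormal (p := p) (k := k)
          (A := F ⊓ centralizer (F : Set H)) ?_ ?_ hO ⟨hmem, hbcF⟩ ?_
        · exact Components.isSubnormal_of_normal_in (inf_le_left.trans hFE) hEs
            (LocalEvenA.le_normalizer_inf hEF (hEF.trans (LocalEvenA.normalizer_le_normalizer_centralizer _)))
        · exact inf_le_right.trans (centralizer_le (SetLike.coe_subset_coe.2 inf_le_left))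
        · rw [← LocalEvenA.commutatorElement_pow_right
            (Subgroup.mem_centralizer_iff.1 hbC.1 _ hmem).symm, hk, commutatorElement_one_right]
      rw [mem_centralizer_singleton_iff]
      exact commutatorElement_eq_one_iff_mul_comm.1 hone
    have hEb : E ≤ centralizer {b} := by
      rw [← hsupE]
      refine sup_le (fun l hl => ?_) hD
      rw [mem_centralizer_singleton_iff]
      exact Subgroup.mem_centralizer_iff.1 hbC.2 l hl
    have hbot : zpowers b = ⊥ := LocalEvenA.eq_bot_of_fStar_normalizes hO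
      (Components.isPGroup_zpowers_of_pow_eq_one hk)
      (hEb.trans (by rw [← Components.centralizer_zpowers_eq]; exact centralizer_le_normalizer _))
    exact hb1 (Subgroup.zpowers_eq_bot.1 hbot)

end Cfsg.Agent.S2817
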