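import Cfsg.Statements.S2819
import Cfsg.Agent.Lib.LocalEvenA.FrattiniP

set_option autoImplicit false
open Cfsg

namespace Cfsg.Agent.S2819

/-- Let P be a finite p-subgroup of a group G, H a subgroup of N_G(P), and Y a subgroup of H centralizing the derived subgroup P' such that [P, Y] is elementary abelian. Then O^p(⟨Y^H⟩), the subgroup of the normal closure of Y in H generated by its elements of order prime to p, centralizes the Frattini subgroup of P. -/
theorem result {G : Type*} [Group G] [Finite G] {p : ℕ} [Fact p.Prime] (P : Subgroup G) (hP : IsPGroup p ↥P) (H : Subgroup G) (hH : H ≤ Subgroup.normalizer (P : Set G)) (Y : Subgroup G) (hYH : Y ≤ H) (hYc : Y ≤ Subgroup.centralizer ((⁅P, P⁆ : Subgroup G) : Set G)) (hel : Cfsg.IsElementaryAbelian p ⁅P, Y⁆) (NY : Subgroup G) (hNY : NY = (Subgroup.normalClosure ((Y.subgroupOf H : Subgroup ↥H) : Set ↥H)).map H.subtype) : (Cfsg.pResidual p ↥NY).map NY.subtype ≤ Subgroup.centralizer (((frattini ↥P).map P.subtype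 : Subgroup G) : Set G) := by
  subst hNY
  set NY := (Subgroup.normalClosure ((Y.subgroupOf H : Subgroup ↥H) : Set ↥H)).map H.subtype with hNY
  set Φ := (frattini ↥P).map P.subtype with hΦ
  set P' := ⁅P, P⁆ with hP'
  have hPn : Subgroup.normalizer (P : Set G) ≤ Subgroup.normalizer (P' : Set G) := by
    refine LocalEvenA.le_normalizer_of_cj_le fun g hg => ?_
    rw [hP', LocalEvenA.cj, Subgroup.map_commutator]
    exact Subgroup.commutator_mono (LocalEvenA.mem_normalizer_iff_cj.1 hg).le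
      (LocalEvenA.mem_normalizer_iff_cj.1 hg).le
  have hΦn : Subgroup.normalizer (P : Set G) ≤ Subgroup.normalizer (Φ : Set G) := by
    refine LocalEvenA.le_normalizer_of_cj_le fun g hg => ?_
    have hg' := LocalEvenA.mem_normalizer_iff_cj.1 hg
    let e : ↥P ≃* ↥P := ((MulAut.conj g).subgroupMap P).trans (MulEquiv.subgroupCongr hg')
    rintro _ ⟨_, ⟨x, hx, rfl⟩, rfl⟩
    refine ⟨e x, ?_, rfl⟩
    have hc : (frattini ↥P).map e.toMonoidHom = frattini ↥P :=
      Subgroup.characteristic_iff_map_eq.1 inferInstance e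
    exact hc.le ⟨x, hx, rfl⟩
  have hΦP : Φ ≤ P := Subgroup.map_subtype_le _
  set A := LocalEvenA.actTriv H Φ P' (hH.trans hPn) ⊓ Subgroup.centralizer (P' : Set G) with hA
  have hAn : H ≤ Subgroup.normalizer (A : Set G) := LocalEvenA.le_normalizer_inf
    (LocalEvenA.actTriv_normal _ (hH.trans hΦn))
    ((hH.trans hPn).trans (LocalEvenA.normalizer_le_normalizer_centralizer _))
  have hP'n : P ≤ Subgroup.normalizer (P' : Set G) := Subgroup.le_normalizer.trans hPn
  have hW : Φ ≤ LocalEvenA.actTriv P Y P' hP'n := by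
    refine LocalEvenA.map_frattini_le_of (p := p) (fun u hu => ⟨?_, fun y hy => ?_⟩)
      fun x hx => ⟨pow_mem hx p, fun y hy => ?_⟩
    · exact (LocalEvenA.commutator_le_left_of_normalizer Subgroup.le_normalizer) hu
    · rw [(hYc hy u hu)]
      simp
    · set c := x⁻¹ * (y * x * y⁻¹) with hc
      have hyn := hH (hYH hy)
      have hcY : c ∈ ⁅P, Y⁆ := LocalEvenA.commutator_conj_mem hx hy
      have hcP : c ∈ P := P.mul_mem (P.inv_mem hx) ((Subgroup.mem_normalizer_iff.1 hyn x).1 hx)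
      have hcp : c ^ p = 1 := hel.2 c hcY
      have e : y * x ^ p * y⁻¹ = (x * c) ^ p := by
        rw [← conj_pow, hc]; group
      let q : ↥P →* Abelianization ↥P := Abelianization.of
      have h1 : q ((⟨x, hx⟩ * ⟨c, hcP⟩) ^ p * ((⟨x, hx⟩ : ↥P) ^ p)⁻¹) = 1 := by
        have h2 : (⟨c, hcP⟩ : ↥P) ^ p = 1 := Subtype.ext hcp
        rw [map_mul, map_pow, map_mul, mul_pow, ← map_pow q ⟨c, hcP⟩, h2, map_one, mul_one,
          ← map_pow, ← map_mul, mul_inv_cancel, map_one]
      have h3 : (⟨x, hx⟩ * ⟨c, hcP⟩ : ↥P) ^ p * ((⟨x, hx⟩ : ↥P) ^ p)⁻¹ ∈ _root_.commutator ↥P := by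
        rw [← Abelianization.ker_of]; exact h1
      have h4 : (x * c) ^ p * (x ^ p)⁻¹ ∈ P' := by
        rw [hP', ← Subgroup.map_subtype_commutator]
        exact ⟨_, h3, by simp⟩
      rw [← e] at h4
      have h5 := P'.inv_mem h4
      simpa [mul_assoc] using h5
  have hYA : Y ≤ A := by
    refine le_inf (fun y hy => ⟨hYH hy, fun u hu => ?_⟩) hYc
    have h5 := P'.inv_mem ((hW hu).2 y hy)
    simpa [mul_assoc] using h5
  have hNA : NY ≤ A := by
    rw [hNY, LocalEvenA.conjSup_eq_normalClosure hYH]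
    exact LocalEvenA.conjSup_le_of_normal hYA hAn
  rw [pResidual, MonoidHom.map_closure, Subgroup.closure_le]
  rintro _ ⟨x, hx, rfl⟩
  rw [Set.mem_setOf_eq, ← Subgroup.orderOf_coe] at hx
  have hxA := hNA x.2
  intro u hu
  have huP : u ∈ P := hΦP hu
  have hb : u⁻¹ * ((x : G) * u * (x : G)⁻¹) ∈ P' := by
    have h1 := (Subgroup.mem_normalizer_iff.1 (hP'n (P.inv_mem huP)) _).1 (hxA.1.2 u hu)
    simpa [mul_assoc] using h1
  obtain ⟨k, hk⟩ := hP ⟨_, (LocalEvenA.commutator_le_left_of_normalizer Subgroup.le_normalizer) hb⟩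
  exact (LocalEvenA.comm_of_coprime_chain hx ⟨k, congrArg Subtype.val hk⟩
    (hxA.2 _ hb).symm).eq.symm

end Cfsg.Agent.S2819
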