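import Cfsg.Statements.S2820
import Cfsg.Agent.Lib.LocalEvenA.FrattiniP

set_option autoImplicit false
open Cfsg

namespace Cfsg.Agent.S2820

/-- Let A and B be subnormal subgroups of the finite group H with A a p-group and B = O^p(B) (B generated by its elements of order prime to p). Then A normalizes B and B = O^p(AB), the subgroup of ⟨A, B⟩ generated by its elements of order prime to p. -/
theorem result {H : Type*} [Group H] [Finite H] {p : ℕ} [Fact p.Prime] (A B : Subgroup H) (hA : A.IsSubnormal) (hB : B.IsSubnormal) (hAp : IsPGroup p ↥A) (hBres : (Cfsg.pResidual p ↥B).map B.subtype = B) : A ≤ Subgroup.normalizer (B : Set H) ∧ (Cfsg.pResidual p ↥(A ⊔ B)).map (A ⊔ B).subtype = B := by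
  have hn := LocalEvenA.subnormal_pgroup_normalizes hA hB hAp hBres
  refine ⟨hn, le_antisymm ?_ (hBres.ge.trans ?_)⟩
  · rw [pResidual, MonoidHom.map_closure, Subgroup.closure_le]
    rintro _ ⟨x, hx, rfl⟩
    rw [Set.mem_setOf_eq, ← Subgroup.orderOf_coe] at hx
    have hxB : (x : H) ∈ B ⊔ A := by rw [sup_comm]; exact x.2
    obtain ⟨k, hk⟩ := LocalEvenA.pow_mem_of_mem_sup hAp hn hxB
    obtain ⟨m, hm⟩ := exists_pow_eq_self_of_coprime (hx.pow_right k).symm
    show (x : H) ∈ B
    rw [← hm]; exact pow_mem hk m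
  · rw [pResidual, MonoidHom.map_closure, Subgroup.closure_le]
    rintro _ ⟨x, hx, rfl⟩
    refine ⟨⟨x, Subgroup.mem_sup_right x.2⟩, Subgroup.subset_closure ?_, rfl⟩
    show (orderOf _).Coprime p
    rw [← Subgroup.orderOf_coe]
    rw [Set.mem_setOf_eq, ← Subgroup.orderOf_coe] at hx
    exact hx

end Cfsg.Agent.S2820
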