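import Cfsg.Statements.S2823
import Cfsg.Agent.Lib.LocalEvenA.Average
import Cfsg.Agent.Lib.Transfer.Residual

set_option autoImplicit false
open Cfsg
open scoped commutatorElement

namespace Cfsg.Agent.S2823

/-- Let H be a finite group, p a prime, T a Sylow p-subgroup and L a subgroup of characteristic p containing T; let Z_L be the subgroup generated by the Ω₁(Z(S)) over the Sylow p-subgroups S of L and O^p(L) the subgroup generated by the elements of L of order prime to p. Then Z_L = Ω₁(Z(L))·[Z_L, O^p(L)] and [Z_L, L] = [Z_L, O^p(L)]. -/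
theorem result {H : Type*} [Group H] [Finite H] {p : ℕ} [Fact p.Prime] (T : Sylow p H) (L : Subgroup H) (hTL : (T : Subgroup H) ≤ L) (hL : Subgroup.centralizer (Cfsg.pCore p ↥L : Set ↥L) ≤ Cfsg.pCore p ↥L) : Cfsg.sylowCenterClosure p L = (Cfsg.omegaOne p (L ⊓ Subgroup.centralizer ((L : Subgroup H) : Set H))) ⊔ ⁅Cfsg.sylowCenterClosure p L, (Cfsg.pResidual p ↥L).map L.subtype⁆ ∧ ⁅Cfsg.sylowCenterClosure p L, L⁆ = ⁅Cfsg.sylowCenterClosure p L, (Cfsg.pResidual p ↥L).map L.subtype⁆ := by
  classical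
    haveI := Fact.out (p := p.Prime)
    set R := (pResidual p ↥L).map L.subtype with hR
    set Z := sylowCenterClosure p L with hZdef
    set D := ⁅Z, R⁆ with hD
    set O := pCoreOf p L with hO
    set V := omegaOne p (O ⊓ Subgroup.centralizer (O : Set H)) with hV
    have hcp := (LocalEvenA.charP_iff p L).1 hL
    have hVe : IsElementaryAbelian p V := LocalEvenA.elemAb_omegaCenter _
    have hVn : L ≤ Subgroup.normalizer (V : Set H) := by
      refine LocalEvenA.le_normalizer_of_cj_le fun k hk => ?_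
      rw [hV, omegaOne, LocalEvenA.cj, MonoidHom.map_closure, Subgroup.closure_le]
      rintro _ ⟨w, ⟨hw, hwp⟩, rfl⟩
      refine Subgroup.subset_closure ⟨?_, ?_⟩
      · exact (Subgroup.mem_normalizer_iff.1 ((LocalEvenA.le_normalizer_inf
          (LocalEvenA.le_normalizer_pCoreOf p L) ((LocalEvenA.le_normalizer_pCoreOf p L).trans
          (LocalEvenA.normalizer_le_normalizer_centralizer _))) hk) w).1 hw
      · rw [← map_pow, hwp, map_one]
    have hOP : ∀ P : Sylow p ↥L, O ≤ (P : Subgroup L).map L.subtype := fun P => by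
      haveI := LocalEvenA.pCore_normal' p ↥L
      exact Subgroup.map_mono ((LocalEvenA.pCore_isPGroup' p ↥L).le_sylow_of_normal P)
    -- generators of `Z`
    have hgenV : ∀ (P : Sylow p ↥L) (z : H), z ∈ (P : Subgroup L).map L.subtype →
        z ∈ Subgroup.centralizer (((P : Subgroup L).map L.subtype : Subgroup H) : Set H) →
        z ^ p = 1 → z ∈ V := fun P z hz hzc hzp => by
      have hzO : z ∈ Subgroup.centralizer (O : Set H) :=
        Subgroup.centralizer_le (SetLike.coe_subset_coe.2 (hOP P)) hzc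
      exact Subgroup.subset_closure
        ⟨⟨hcp ⟨Subgroup.map_subtype_le _ hz, hzO⟩, hzO⟩, hzp⟩
    have hgenZ : ∀ (P : Sylow p ↥L) (z : H), z ∈ (P : Subgroup L).map L.subtype →
        z ∈ Subgroup.centralizer (((P : Subgroup L).map L.subtype : Subgroup H) : Set H) →
        z ^ p = 1 → z ∈ Z := fun P z hz hzc hzp =>
      Subgroup.mem_iSup_of_mem P (Subgroup.subset_closure ⟨⟨hz, hzc⟩, hzp⟩)
    have hZle : Z ≤ V := by
      rw [hZdef, sylowCenterClosure]
      refine iSup_le fun P => ?_
      rw [omegaOne, Subgroup.closure_le]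
      exact fun z hz => hgenV P z hz.1.1 hz.1.2 hz.2
    have hRn : L ≤ Subgroup.normalizer (R : Set H) := by
      haveI := LocalEvenA.pResidual_characteristic' p ↥L
      exact fun k hk => Subgroup.le_normalizer_map L.subtype
        ⟨⟨k, hk⟩, (by rw [Subgroup.normalizer_eq_top_iff.2 inferInstance]; trivial), rfl⟩
    have hZn : L ≤ Subgroup.normalizer (Z : Set H) := by
      refine LocalEvenA.le_normalizer_of_cj_le fun k hk => ?_
      conv_lhs => rw [hZdef, sylowCenterClosure, LocalEvenA.cj, Subgroup.map_iSup]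
      refine iSup_le fun P => ?_
      rw [omegaOne, MonoidHom.map_closure, Subgroup.closure_le]
      rintro _ ⟨w, ⟨⟨hw, hwc⟩, hwp⟩, rfl⟩
      refine hgenZ ((⟨k, hk⟩ : ↥L) • P) _ ?_ ?_ ?_
      · obtain ⟨y, hy, rfl⟩ := hw
        refine ⟨⟨k, hk⟩ * y * ⟨k, hk⟩⁻¹, ?_, by simp⟩
        exact Subgroup.smul_mem_pointwise_smul y (MulAut.conj (⟨k, hk⟩ : ↥L)) _ hy
      · intro a ha
        obtain ⟨y, hy, rfl⟩ := ha
        obtain ⟨y', hy', rfl⟩ := hy
        have h := hwc (L.subtype y') ⟨y', hy', rfl⟩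
        simp at h ⊢
        exact h
      · rw [← map_pow, hwp, map_one]
    have hDn : L ≤ Subgroup.normalizer (D : Set H) := by
      refine LocalEvenA.le_normalizer_of_cj_le fun k hk => ?_
      rw [LocalEvenA.cj, hD, Subgroup.map_commutator]
      exact Subgroup.commutator_mono (LocalEvenA.mem_normalizer_iff_cj.1 (hZn hk)).le
        (LocalEvenA.mem_normalizer_iff_cj.1 (hRn hk)).le
    have hDZ : D ≤ Z := LocalEvenA.commutator_le_left_of_normalizer
      ((Subgroup.map_subtype_le _).trans hZn)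
    set F := omegaOne p (L ⊓ Subgroup.centralizer (L : Set H)) with hF
    have hFZ : F ≤ Z := by
      rw [hF, omegaOne, Subgroup.closure_le]
      rintro w ⟨⟨hw, hwc⟩, hwp⟩
      obtain ⟨P⟩ : Nonempty (Sylow p ↥L) := inferInstance
      have hwO : w ∈ O := hcp ⟨hw, Subgroup.centralizer_le
        (SetLike.coe_subset_coe.2 (LocalEvenA.pCoreOf_le' p L)) hwc⟩
      exact hgenZ P w (hOP P hwO)
        (Subgroup.centralizer_le (SetLike.coe_subset_coe.2 (Subgroup.map_subtype_le _)) hwc) hwp
    have hkey : Z ≤ F ⊔ D := by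
      conv_lhs => rw [hZdef, sylowCenterClosure]
      refine iSup_le fun P => ?_
      rw [omegaOne, Subgroup.closure_le]
      rintro z ⟨⟨hz, hzc⟩, hzp⟩
      have hzV := hgenV P z hz hzc hzp
      obtain ⟨τ, hτ, -⟩ := LocalEvenA.exists_average (p := p) hVe hVn
        (Subgroup.map_subtype_le (P : Subgroup L))
      obtain ⟨h1, h2, h3, -⟩ := hτ z hzV hzc
      have hd := h3 D fun q hq => by
        have htop : (⟨q, hq⟩ : ↥L) ∈ pResidual p ↥L ⊔ (P : Subgroup L) := by
          rw [Transfer.pResidual_sup_sylow]; trivial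
        haveI := LocalEvenA.pResidual_characteristic' p ↥L
        obtain ⟨r, hr, s, hs, hrs⟩ := Subgroup.mem_sup_of_normal_left.1 htop
        have hq' : q = (r : H) * (s : H) := (congrArg Subtype.val hrs).symm
        have hsz : (s : H) * z = z * s := hzc _ ⟨s, hs, rfl⟩
        have : q * z * q⁻¹ * z⁻¹ = ⁅(r : H), z⁆ := by
          rw [hq', commutatorElement_def, mul_assoc (r : H) s z, hsz]; group
        rw [this, hD, Subgroup.commutator_comm]
        exact Subgroup.commutator_mem_commutator ⟨r, hr, rfl⟩ (hgenZ P z hz hzc hzp)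
      have hr : ¬ p ∣ (((P : Subgroup L).map L.subtype).subgroupOf L).index := by
        rw [Subgroup.subgroupOf, Subgroup.comap_map_eq_self_of_injective L.subtype_injective]
        exact P.not_dvd_index
      refine LocalEvenA.mem_of_pow_mem hzp hr ?_
      have hτF : τ z ∈ F := Subgroup.subset_closure
        ⟨⟨LocalEvenA.pCoreOf_le' p L ((LocalEvenA.omegaOne_le p _).trans inf_le_left h1), h2⟩, hVe.2 _ h1⟩
      have := mul_mem (inv_mem (Subgroup.mem_sup_left (T := D) hτF)) (Subgroup.mem_sup_right (S := F) hd)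
      simpa using inv_mem this
    refine ⟨le_antisymm hkey (sup_le hFZ hDZ), le_antisymm ?_
      (Subgroup.commutator_mono le_rfl (Subgroup.map_subtype_le _))⟩
    rw [Subgroup.commutator_le]
    intro a ha b hb
    have hFD : F ≤ Subgroup.normalizer (D : Set H) :=
      ((LocalEvenA.omegaOne_le p _).trans inf_le_left).trans hDn
    have ha' := hkey ha
    rw [← SetLike.mem_coe, Subgroup.coe_mul_of_left_le_normalizer_right F D hFD] at ha'
    obtain ⟨c, hc, d, hd, rfl⟩ := Set.mem_mul.1 ha'
    have hbd := mul_mem hd ((Subgroup.mem_normalizer_iff.1 (hDn hb) _).1 (inv_mem hd))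
    have hbc : c * b = b * c := (((LocalEvenA.omegaOne_le p _).trans inf_le_right) hc b hb).symm
    have hc1 : ∀ e : H, e ∈ D → c * e * c⁻¹ ∈ D := fun e he =>
      (Subgroup.mem_normalizer_iff.1 (hFD hc) e).1 he
    have hh := hc1 _ hbd
    have heq : ⁅c * d, b⁆ = c * (d * (b * d⁻¹ * b⁻¹)) * c⁻¹ := by
      rw [commutatorElement_def]
      have : c⁻¹ * b⁻¹ = b⁻¹ * c⁻¹ := by rw [← mul_inv_rev, ← mul_inv_rev, hbc]
      simp only [mul_inv_rev, mul_assoc]
      rw [this]
    rw [heq]; exact hh

end Cfsg.Agent.S2823
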