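import Cfsg.Statements.S2824
import Cfsg.Agent.Lib.LocalEvenA.Frame

set_option autoImplicit false
open Cfsg

namespace Cfsg.Agent.S2824

/-- Let H be a finite group, p a prime, T a Sylow p-subgroup, L and M subgroups of characteristic p containing T, Y_L the largest p-reduced normal subgroup of L and T₀ = C_T(Y_L). If M·C_H(Y_L) = L·C_H(Y_L), then L* := N_M(T₀) has Y_{L*} = Y_L and L·C_H(Y_L) = L*·C_H(Y_L). -/
theorem result {H : Type*} [Group H] [Finite H] {p : ℕ} [Fact p.Prime] (T : Sylow p H) (L M : Subgroup H) (hTL : (T : Subgroup H) ≤ L) (hTM : (T : Subgroup H) ≤ M) (hL : Subgroup.centralizer (Cfsg.pCore p ↥L : Set ↥L) ≤ Cfsg.pCore p ↥L) (hM : Subgroup.centralizer (Cfsg.pCore p ↥M : Set ↥M) ≤ Cfsg.pCore p ↥M) (T₀ : Subgroup H) (hT₀ : T₀ = (T : Subgroup H) ⊓ Subgroup.centralizer (((Cfsg.largestPReducedOf p L) : Subgroup H) : Set H)) (hfac : M ⊔ Subgroup.centralizer (((Cfsg.largestPReducedOf p L) : Subgroup H) : Set H) = L ⊔ Subgroup.centralizer (((Cfsg.largestPReducedOf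 p L) : Subgroup H) : Set H)) (Ls : Subgroup H) (hLs : Ls = M ⊓ Subgroup.normalizer ((T₀ : Subgroup H) : Set H)) : (Cfsg.largestPReducedOf p Ls) = (Cfsg.largestPReducedOf p L) ∧ L ⊔ Subgroup.centralizer (((Cfsg.largestPReducedOf p L) : Subgroup H) : Set H) = Ls ⊔ Subgroup.centralizer (((Cfsg.largestPReducedOf p L) : Subgroup H) : Set H) := by
  subst hT₀ hLs
  set C := Subgroup.centralizer ((largestPReducedOf p L : Subgroup H) : Set H) with hC
  have hMC : M ≤ Subgroup.normalizer (C : Set H) := (le_sup_left.trans hfac.le).trans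
    (sup_le ((LocalEvenA.le_normalizer_pReducedOf L).trans (LocalEvenA.normalizer_le_normalizer_centralizer _))
      Subgroup.le_normalizer)
  set Ls := M ⊓ Subgroup.normalizer (((T : Subgroup H) ⊓ C : Subgroup H) : Set H) with hLs
  have hTLs : (T : Subgroup H) ≤ Ls :=
    le_inf hTM (LocalEvenA.le_normalizer_inf Subgroup.le_normalizer (hTM.trans hMC))
  have hsame : Ls ⊔ C = L ⊔ C := le_antisymm ((sup_le_sup_right inf_le_left _).trans hfac.le)
    (hfac.ge.trans (sup_le (LocalEvenA.le_sup_normalizer_sylow_inf T hTM hMC) le_sup_right))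
  exact ⟨LocalEvenA.pReducedOf_eq_of_sylow_inf T hTL hTLs ((LocalEvenA.charP_iff p L).1 hL) hsame
    (LocalEvenA.le_pCoreOf (inf_le_left.trans hTLs) inf_le_right (T.2.to_le inf_le_left)), hsame.symm⟩

end Cfsg.Agent.S2824
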