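import Cfsg.Statements.S2825
import Cfsg.Agent.Lib.LocalEvenA.Subnormal

set_option autoImplicit false
open Cfsg

namespace Cfsg.Agent.S2825

/-- Let L be a subnormal subgroup of the finite group H, p a prime, Y_H and Y_L the largest p-reduced normal subgroups. Then Y_H ∩ L = Y_H ∩ Y_L and this subgroup is a p-reduced normal subgroup of L; C_L(Y_L) = C_L(Y_H) = C_L(Y_H ∩ L); and if O^p(H) ≤ L, then [Y_L, L] = 1 if and only if [Y_H, H] = 1. -/
theorem result {H : Type*} [Group H] [Finite H] {p : ℕ} [Fact p.Prime] (L : Subgroup H) (hL : L.IsSubnormal) : Cfsg.largestPReduced p H ⊓ L = Cfsg.largestPReduced p H ⊓ (Cfsg.largestPReducedOf p L) ∧ Cfsg.IsPReducedNormal p ((Cfsg.largestPReduced p H ⊓ L).subgroupOf L) ∧ L ⊓ Subgroup.centralizer ((Cfsg.largestPReducedOf p L : Subgroup H) : Set H) = L ⊓ Subgroup.centralizer (Cfsg.largestPReduced p H : Set H) ∧ L ⊓ Subgroup.centralizer (Cfsg.largestPReduced p H : Set H) = L ⊓ Subgroup.centralizer ((Cfsg.largestPReduced p H ⊓ L : Subgroup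 H) : Set H) ∧ (Cfsg.pResidual p H ≤ L → (⁅(Cfsg.largestPReducedOf p L), L⁆ = ⊥ ↔ ⁅Cfsg.largestPReduced p H, (⊤ : Subgroup H)⁆ = ⊥)) := by
  have hY := LocalEvenA.largestPReduced_spec p H
  set Y := largestPReduced p H with hYdef
  set YL := largestPReducedOf p L with hYL
  set V := Y ⊓ L with hV
  have hVr := LocalEvenA.inf_pReduced_subgroupOf hY hL
  have hVYL : V ≤ YL := by
    have h := Subgroup.map_mono (f := L.subtype) (LocalEvenA.le_largestPReduced hVr)
    rwa [Subgroup.map_subgroupOf_eq_of_le inf_le_right] at h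
  have h1 : L ⊓ Subgroup.centralizer (YL : Set H) = L ⊓ Subgroup.centralizer (Y : Set H) :=
    le_antisymm (le_inf inf_le_left
      ((le_inf inf_le_left (inf_le_right.trans (Subgroup.centralizer_le (SetLike.coe_subset_coe.2 hVYL)))).trans
        (LocalEvenA.inf_centralizer_of_subnormal hY hL)))
      (le_inf inf_le_left (LocalEvenA.inf_centralizer_pReduced_le hL))
  have h2 : L ⊓ Subgroup.centralizer (Y : Set H) = L ⊓ Subgroup.centralizer (V : Set H) :=
    le_antisymm (inf_le_inf_left L (Subgroup.centralizer_le (SetLike.coe_subset_coe.2 inf_le_left)))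
      (le_inf inf_le_left (LocalEvenA.inf_centralizer_of_subnormal hY hL))
  refine ⟨le_antisymm (le_inf inf_le_left hVYL) (inf_le_inf_left Y (LocalEvenA.pReducedOf_le p L)),
    hVr, h1, h2, fun hres => ⟨fun h => ?_, fun h => ?_⟩⟩
  · rw [Subgroup.commutator_eq_bot_iff_le_centralizer, Subgroup.le_centralizer_iff] at h
    have hLY : L ≤ Subgroup.centralizer (Y : Set H) := fun x hx => (h1.le ⟨hx, h hx⟩).2
    rw [Subgroup.commutator_eq_bot_iff_le_centralizer, Subgroup.le_centralizer_iff]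
    refine LocalEvenA.pReduced_criterion hY ⊤ fun d _ => ?_
    obtain ⟨a, b, hab, ⟨k, hk⟩, hb, ham, hbm⟩ :=
      LocalEvenA.exists_pPart (p := p) (isOfFinOrder_of_finite d)
    exact ⟨k, LocalEvenA.pow_pPow_mem_of_coprime_part hab hk ham hbm
      (hLY (hres (LocalEvenA.mem_pResidual_of_coprime hb)))⟩
  · rw [Subgroup.commutator_eq_bot_iff_le_centralizer, Subgroup.le_centralizer_iff] at h ⊢
    exact fun x hx => (h1.ge ⟨hx, h (Subgroup.mem_top x)⟩).2

end Cfsg.Agent.S2825
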