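import Cfsg.Statements.S2826
import Cfsg.Agent.Lib.LocalEvenA.Average
import Cfsg.Agent.Lib.Transfer.Residual

set_option autoImplicit false
open Cfsg
open scoped commutatorElement

namespace Cfsg.Agent.S2826

/-- Let H be a finite group of characteristic p, T a Sylow p-subgroup, and V a normal elementary abelian p-subgroup of H containing Ω₁(Z(T)). Then C_H(Ω₁(Z(T))) = C_H([V, O^p(H)] ∩ Ω₁(Z(T))), O^p(H) being generated by the elements of order prime to p. -/
theorem result {H : Type*} [Group H] [Finite H] {p : ℕ} [Fact p.Prime] (hH : Subgroup.centralizer (Cfsg.pCore p H : Set H) ≤ Cfsg.pCore p H) (T : Sylow p H) (V : Subgroup H) [V.Normal] (hV : Cfsg.IsElementaryAbelian p V) (hZV : (Cfsg.omegaOne p ((T : Subgroup H) ⊓ Subgroup.centralizer (((T : Subgroup H) : Subgroup H) : Set H))) ≤ V) : Subgroup.centralizer ((Cfsg.omegaOne p ((T : Subgroup H) ⊓ Subgroup.centralizer (((T : Subgroup H) : Subgroup H) : Set H))) : Set H) = Subgroup.centralizer (((⁅V, Cfsg.pResidual p H⁆ ⊓ (Cfsg.omegaOne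 p ((T : Subgroup H) ⊓ Subgroup.centralizer (((T : Subgroup H) : Subgroup H) : Set H)))) : Subgroup H) : Set H) := by
  set T' := (T : Subgroup H)
  set Z := omegaOne p (T' ⊓ Subgroup.centralizer (T' : Set H)) with hZ
  set R := pResidual p H with hR
  set U := ⁅V, R⁆ ⊓ Z with hU
  refine le_antisymm (Subgroup.centralizer_le (SetLike.coe_subset_coe.2 inf_le_right)) ?_
  set X := Subgroup.centralizer (U : Set H) with hX
  have hZT : Z ≤ Subgroup.centralizer (T' : Set H) :=
    (LocalEvenA.omegaOne_le p _).trans inf_le_right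
  have hTX : T' ≤ X := Subgroup.le_centralizer_iff.1 (inf_le_right.trans hZT)
  have hr : ¬ p ∣ (T'.subgroupOf X).index := fun h =>
    T.not_dvd_index (h.trans (Dvd.intro _ (Subgroup.relIndex_mul_index hTX)))
  
  intro x hx z hz
  refine ((LocalEvenA.centralizes_of_average hV (LocalEvenA.le_normalizer_of_le_top V X) hTX hr (hZV hz)
    (hZT hz) (D := ⁅V, R⁆) (fun q hq => ?_) fun d hd hdV hdT => ?_) x hx).symm
  · have hq' : q ∈ R ⊔ T' := by rw [Transfer.pResidual_sup_sylow T]; exact Subgroup.mem_top q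
    obtain ⟨r, hr, t, ht, rfl⟩ := (Basics.mem_sup_of_le_normalizer
      (LocalEvenA.le_normalizer_of_le_top R T')).1 hq'
    have h1 := Subgroup.inv_mem _ (Subgroup.commutator_mem_commutator (hZV hz) hr)
    have h2 : t * z = z * t := hZT hz t ht
    have e : r * t * z * (r * t)⁻¹ * z⁻¹ = ⁅z, r⁆⁻¹ := by
      rw [mul_assoc r t z, h2, commutatorElement_def]; group
    rw [e]; exact h1
  · refine Subgroup.le_centralizer_iff.1 (le_refl X) ⟨hd, Subgroup.subset_closure ⟨⟨?_, hdT⟩, hV.2 d hdV⟩⟩
    exact ((LocalEvenA.elemAb_isPGroup hV).le_sylow_of_normal T) hdV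

end Cfsg.Agent.S2826
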