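import Cfsg.Statements.S2829
import Cfsg.Agent.Lib.LocalEvenA.Core

set_option autoImplicit false
open Cfsg

namespace Cfsg.Agent.S2829

/-- Every strongly p-irreducible finite group is p-irreducible. -/
theorem result {H : Type*} [Group H] [Finite H] {p : ℕ} [Fact p.Prime] (hH : Cfsg.IsStronglyPIrreducible p H) : Cfsg.IsPIrreducible p H := by
  refine ⟨hH.1, fun N hN hnc => hH.2 N hN fun hle => hnc ?_⟩
  refine Cfsg.Agent.LocalEvenA.isPClosed_of_commutator ?_
  refine IsPGroup.of_injective ((Cfsg.Agent.LocalEvenA.pCore_isPGroup' p H).to_le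
    ((Subgroup.map_subtype_commutator N).trans_le
      ((Subgroup.commutator_mono le_rfl le_top).trans hle)))
    (((_root_.commutator ↥N).equivMapOfInjective N.subtype N.subtype_injective).toMonoidHom)
    ((_root_.commutator ↥N).equivMapOfInjective N.subtype N.subtype_injective).injective

end Cfsg.Agent.S2829
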