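import Cfsg.Statements.S2830
import Cfsg.Agent.Lib.LocalEvenA.PIrred

set_option autoImplicit false
open Cfsg

namespace Cfsg.Agent.S2830

/-- Let H act by conjugation on the elementary abelian p-subgroup V of a finite group G (H ≤ N(V)), with H p-irreducible and O^p(H) not centralizing V. Then C_H(V) is p-closed and C_T(V) ≤ O_p(H) for every p-subgroup T of H. If in addition O_p(H) centralizes V, then C_T(V) = T ∩ O_p(H) for every p-subgroup T of H, and V is p-reduced for H: O_p(H/C_H(V)) = 1. -/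
theorem result {G : Type*} [Group G] [Finite G] {p : ℕ} [Fact p.Prime] (V H : Subgroup G) (hV : Cfsg.IsElementaryAbelian p V) (hHV : H ≤ Subgroup.normalizer (V : Set G)) (hH : Cfsg.IsPIrreducible p ↥H) (hnc : ¬ (Cfsg.pResidual p ↥H).map H.subtype ≤ Subgroup.centralizer (V : Set G)) [hn : ((Subgroup.centralizer (V : Set G)).subgroupOf H).Normal] : Cfsg.IsPClosed p ↥(H ⊓ Subgroup.centralizer (V : Set G)) ∧ (∀ T : Subgroup G, T ≤ H → IsPGroup p ↥T → T ⊓ Subgroup.centralizer (V : Set G) ≤ Cfsg.pCoreOf p H) ∧ (Cfsg.pCoreOf p H ≤ Subgroup.centralizer (V : Set G) → (∀ T : Subgroup G, T ≤ H → IsPGroup p ↥T → T ⊓ Subgroup.centralizer (V : Set G) = T ⊓ Cfsg.pCoreOf p H) ∧ Cfsg.pCore p (↥H ⧸ (Subgroup.centralizer (V : Set G)).subgroupOf H) = ⊥) := by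
  classical
    have hnc' : ¬ Cfsg.pResidual p ↥H ≤ (Subgroup.centralizer (V : Set G)).subgroupOf H :=
      fun h => hnc (Subgroup.map_le_iff_le_comap.2 h)
    obtain ⟨h1, h2, h3⟩ := Cfsg.Agent.LocalEvenA.pIrred_kernel
      ((Subgroup.centralizer (V : Set G)).subgroupOf H) hH hnc'
    have hA : ∀ T : Subgroup G, T ≤ H → IsPGroup p ↥T →
        T ⊓ Subgroup.centralizer (V : Set G) ≤ Cfsg.pCoreOf p H := fun T hT hTp x hx =>
      ⟨⟨x, hT hx.1⟩, h2 (T.subgroupOf H) (hTp.comap_of_injective H.subtype H.subtype_injective)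
        ⟨hx.1, hx.2⟩, rfl⟩
    refine ⟨?_, hA, fun hpc => ⟨fun T hT hTp => le_antisymm (le_inf inf_le_left (hA T hT hTp))
      (inf_le_inf_left _ hpc), h3 (Subgroup.map_le_iff_le_comap.1 hpc)⟩⟩
    rw [Cfsg.Agent.LocalEvenA.isPClosed_iff_pEltP] at h1 ⊢
    have := (h1.map H.subtype)
    rw [← Cfsg.Agent.LocalEvenA.map_pEC, Subgroup.subgroupOf_map_subtype, inf_comm] at this
    exact this

end Cfsg.Agent.S2830
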