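import Cfsg.Statements.S2831
import Cfsg.Agent.Lib.LocalEvenA.Core

set_option autoImplicit false
open Cfsg

namespace Cfsg.Agent.S2831

/-- Let H be a finite group with Sylow p-subgroup T such that H is T-minimal (H is generated by the conjugates of T and T lies in exactly one maximal subgroup of H). Then H is p-irreducible: H is not p-closed and O^p(H) lies in every normal subgroup of H that is not p-closed. -/
theorem result {H : Type*} [Group H] [Finite H] {p : ℕ} [Fact p.Prime] (T : Sylow p H) (hmin : Cfsg.IsMinimalOver (T : Subgroup H)) : Cfsg.IsPIrreducible p H := by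
  obtain ⟨hgen, M, ⟨hM, hTM⟩, huniq⟩ := hmin
  have hM' : ∀ K : Subgroup H, (T : Subgroup H) ≤ K → K ≠ ⊤ → K ≤ M := by
    intro K hK hne
    obtain ⟨C, hC, hKC⟩ := (eq_top_or_exists_le_coatom K).resolve_left hne
    exact hKC.trans (huniq C ⟨hC, hK.trans hKC⟩).le
  refine ⟨fun hc => hM.1 ?_, fun N hN hnc => ?_⟩
  · have := hc T
    rw [← top_le_iff, ← hgen, Subgroup.normalClosure_eq_self]
    exact hTM
  · have := hN
    by_cases htop : (T : Subgroup H) ⊔ N = ⊤
    · apply Cfsg.Agent.LocalEvenA.pResidual_le_of_isPGroup_quotient
      refine IsPGroup.of_surjective T.2 ((QuotientGroup.mk' N).comp (T : Subgroup H).subtype) ?_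
      rw [← MonoidHom.range_eq_top, MonoidHom.range_comp, Subgroup.range_subtype]
      rw [← Subgroup.map_top_of_surjective (QuotientGroup.mk' N) (QuotientGroup.mk'_surjective N),
        ← htop, Subgroup.map_sup, (Subgroup.map_eq_bot_iff _).2 (QuotientGroup.ker_mk' N).ge, sup_bot_eq]
    · have hNM : N ≤ M := le_sup_right.trans (hM' _ le_sup_left htop)
      obtain ⟨P, hP⟩ := Cfsg.Agent.LocalEvenA.exists_sylow_subgroupOf_normal T N
      exfalso
      apply hnc
      have hfr := Sylow.normalizer_sup_eq_top P
      have hmap : (P : Subgroup ↥N).map N.subtype = (T : Subgroup H) ⊓ N := by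
        rw [hP, Subgroup.subgroupOf_map_subtype]
      rw [hmap] at hfr
      by_cases hn : Subgroup.normalizer (((T : Subgroup H) ⊓ N : Subgroup H) : Set H) = ⊤
      · intro Q
        have hPn : (P : Subgroup ↥N).Normal := by
          rw [hP]
          have : ((T : Subgroup H) ⊓ N).Normal := Subgroup.normalizer_eq_top_iff.1 hn
          have h2 : (((T : Subgroup H) ⊓ N).subgroupOf N).Normal := Subgroup.Normal.subgroupOf this N
          rwa [Subgroup.inf_subgroupOf_right] at h2
        have := Sylow.unique_of_normal P hPn
        exact Sylow.normal_of_subsingleton Q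
      · refine absurd (top_le_iff.1 (hfr.ge.trans (sup_le (hM' _ ?_ hn) hNM))) hM.1
        intro t ht
        rw [Subgroup.mem_normalizer_iff]
        intro x
        constructor
        · intro hx
          exact ⟨(T : Subgroup H).mul_mem ((T : Subgroup H).mul_mem ht hx.1) ((T : Subgroup H).inv_mem ht), hN.conj_mem _ hx.2 t⟩
        · intro hx
          refine ⟨?_, ?_⟩
          · have := (T : Subgroup H).mul_mem ((T : Subgroup H).mul_mem ((T : Subgroup H).inv_mem ht) hx.1) ht
            simp only [mul_assoc, inv_mul_cancel, mul_one, inv_mul_cancel_left] at this; exact this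
          · simpa [mul_assoc] using hN.conj_mem _ hx.2 t⁻¹

end Cfsg.Agent.S2831
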