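import Cfsg.Statements.S2832
import Cfsg.Agent.Lib.LocalEvenA.YMin
import Cfsg.Agent.Lib.Basics.Tools

set_option autoImplicit false
open Cfsg

namespace Cfsg.Agent.S2832

/-- Let H be a finite group with Sylow p-subgroup T such that H is T-minimal (generated by the conjugates of T, with T in exactly one maximal subgroup), and let N be a normal subgroup of H. Then either H/N is a p-group or H/N is minimal over the image of T in the same sense. -/
theorem result {H : Type*} [Group H] [Finite H] {p : ℕ} [Fact p.Prime] (T : Sylow p H) (hmin : Cfsg.IsMinimalOver (T : Subgroup H)) (N : Subgroup H) [N.Normal] : IsPGroup p (H ⧸ N) ∨ Cfsg.IsMinimalOver ((T : Subgroup H).map (QuotientGroup.mk' N)) := by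
  classical
    obtain ⟨hcl, hM⟩ := hmin
    obtain ⟨M, ⟨hMc, hTM⟩, huniq⟩ := hM
    set q := QuotientGroup.mk' N
    have hqs := QuotientGroup.mk'_surjective N
    have hker : q.ker = N := QuotientGroup.ker_mk' N
    by_cases hNM : N ≤ M
    · refine Or.inr ⟨?_, M.map q, ⟨LocalEvenA.isCoatom_map_surj hqs (hker.le.trans hNM) hMc,
        Subgroup.map_mono hTM⟩, ?_⟩
      · rw [Subgroup.coe_map, ← Subgroup.map_normalClosure _ q hqs, hcl, Subgroup.map_top_of_surjective q hqs]
      · rintro C ⟨hC, hTC⟩
        have := huniq (C.comap q) ⟨Subgroup.isCoatom_comap_of_surjective hqs hC, Subgroup.map_le_iff_le_comap.1 hTC⟩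
        rw [← this, Subgroup.map_comap_eq_self_of_surjective hqs]
    · refine Or.inl ?_
      have htop : (T : Subgroup H) ⊔ N = ⊤ := by
        rcases eq_top_or_exists_le_coatom ((T : Subgroup H) ⊔ N) with h | ⟨C, hC, hXC⟩
        · exact h
        · exact absurd (le_sup_right.trans (hXC.trans (huniq C ⟨hC, le_sup_left.trans hXC⟩).le)) hNM
      refine T.2.of_surjective (q.comp (T : Subgroup H).subtype) fun y => ?_
      obtain ⟨x, rfl⟩ := hqs y
      obtain ⟨t, ht, n, hn, rfl⟩ := Subgroup.mem_sup_of_normal_right.1 (htop ▸ Subgroup.mem_top x : x ∈ (T : Subgroup H) ⊔ N)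
      refine ⟨⟨t, ht⟩, ?_⟩
      show q t = q (t * n)
      rw [map_mul, (QuotientGroup.eq_one_iff n).2 hn |> fun h => (show q n = 1 from h), mul_one]

end Cfsg.Agent.S2832
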