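import Cfsg.Statements.S2833
import Mathlib.Tactic.Group

set_option autoImplicit false
open Cfsg
open scoped commutatorElement

namespace Cfsg.Agent.S2833

/-- Let V be a subgroup of a finite group G normalized by the subgroup L, let X ≤ L and g ∈ L with [V, X, X] = 1 and L generated by X and gXg⁻¹. Put W = [V, L]. Then W = [V, X]·[V, gXg⁻¹], C_W(X) = [V, X], and C_W(L) = [V, X] ∩ [V, gXg⁻¹]. -/
theorem result {G : Type*} [Group G] [Finite G] (V L : Subgroup G) (hLV : L ≤ Subgroup.normalizer (V : Set G)) (X : Subgroup G) (hX : X ≤ L) (g : G) (hg : g ∈ L) (hq : ⁅⁅V, X⁆, X⁆ = ⊥) (hgen : X ⊔ X.map (MulAut.conj g).toMonoidHom = L) (W : Subgroup G) (hW : W = ⁅V, L⁆) : ⁅V, X⁆ ⊔ ⁅V, X.map (MulAut.conj g).toMonoidHom⁆ = W ∧ W ⊓ Subgroup.centralizer (X : Set G) = ⁅V, X⁆ ∧ W ⊓ Subgroup.centralizer (L : Set G) = ⁅V, X⁆ ⊓ ⁅V, X.map (MulAut.conj g).toMonoidHom⁆ := by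
  classical
    subst hW
    set c : G →* G := (MulAut.conj g).toMonoidHom with hc
    set A : Subgroup G := ⁅V, X⁆ with hA
    set B : Subgroup G := ⁅V, X.map c⁆ with hB
    have hgV : g ∈ Subgroup.normalizer (V : Set G) := hLV hg
    have hVc : V.map c = V := by
      apply le_antisymm
      · rintro - ⟨v, hv, rfl⟩; exact (Subgroup.mem_normalizer_iff.1 hgV v).1 hv
      · intro v hv
        exact ⟨g⁻¹ * v * g, (Subgroup.mem_normalizer_iff'.1 hgV (g⁻¹ * v)).2 (by simpa using hv),
          by simp [hc, mul_assoc]⟩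
    have hBA : B = A.map c := by rw [hA, Subgroup.map_commutator, hVc]
    have hX'L : X.map c ≤ L := by
      rintro - ⟨x, hx, rfl⟩
      exact mul_mem (mul_mem hg (hX hx)) (inv_mem hg)
    have hle : ∀ K : Subgroup G, K ≤ L → ⁅V, K⁆ ≤ V := fun K hK =>
      Subgroup.le_normalizer_iff_commutator_le_left.1 (hK.trans hLV)
    have hqX : ∀ a ∈ A, ∀ x ∈ X, x * a = a * x := fun a ha x hx =>
      (commutatorElement_eq_one_iff_mul_comm.1
        (Subgroup.mem_bot.1 (hq ▸ Subgroup.commutator_mem_commutator ha hx))).symm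
    have hqX' : ∀ b ∈ B, ∀ x ∈ X.map c, x * b = b * x := by
      rw [hBA]
      rintro - ⟨a, ha, rfl⟩ - ⟨x, hx, rfl⟩
      rw [← map_mul, ← map_mul, hqX a ha x hx]
    have hcross : ∀ K K' : Subgroup G, K ≤ L → K' ≤ L →
        K ≤ Subgroup.normalizer ((⁅V, K⁆ ⊔ ⁅V, K'⁆ : Subgroup G) : Set G) := by
      intro K K' hK hK' k hk
      have key : ∀ k ∈ K, ∀ y ∈ ⁅V, K⁆ ⊔ ⁅V, K'⁆, k * y * k⁻¹ ∈ ⁅V, K⁆ ⊔ ⁅V, K'⁆ := by
        intro k hk
        suffices ⁅V, K⁆ ⊔ ⁅V, K'⁆ ≤ (⁅V, K⁆ ⊔ ⁅V, K'⁆).comap (MulAut.conj k).toMonoidHom from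
          fun y hy => this hy
        refine sup_le (fun y hy => ?_) (fun y hy => ?_)
        · exact Subgroup.mem_sup_left ((Subgroup.mem_normalizer_iff.1
            (Subgroup.normalizer_commutator_ge_right V K hk) y).1 hy)
        · have e : k * y * k⁻¹ = ⁅k, y⁆ * y := by rw [commutatorElement_def]; group
          rw [Subgroup.mem_comap]
          show k * y * k⁻¹ ∈ ⁅V, K⁆ ⊔ ⁅V, K'⁆
          rw [e]
          refine mul_mem (Subgroup.mem_sup_left ?_) (Subgroup.mem_sup_right hy)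
          rw [Subgroup.commutator_comm]
          exact Subgroup.commutator_mem_commutator hk (hle K' hK' hy)
      rw [Subgroup.mem_normalizer_iff]
      refine fun y => ⟨key k hk y, fun hy => ?_⟩
      simpa [mul_assoc] using key k⁻¹ (inv_mem hk) _ hy
    have hM : A ⊔ B = ⁅V, L⁆ := by
      refine le_antisymm (sup_le (Subgroup.commutator_mono le_rfl hX)
        (Subgroup.commutator_mono le_rfl hX'L)) ?_
      have hLM : L ≤ Subgroup.normalizer ((A ⊔ B : Subgroup G) : Set G) := by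
        rw [← hgen]
        refine sup_le (hcross X (X.map c) hX hX'L) ?_
        rw [sup_comm A B]
        exact hcross (X.map c) X hX'L hX
      let S : Subgroup G :=
        { carrier := {l | l ∈ L ∧ ∀ v ∈ V, ⁅v, l⁆ ∈ A ⊔ B}
          one_mem' := ⟨one_mem _, fun v _ => by simp⟩
          mul_mem' := fun {a b} ha hb => ⟨mul_mem ha.1 hb.1, fun v hv => by
            rw [show ⁅v, a * b⁆ = ⁅v, a⁆ * (a * ⁅v, b⁆ * a⁻¹) by simp [commutatorElement_def]; group]
            exact mul_mem (ha.2 v hv) ((Subgroup.mem_normalizer_iff.1 (hLM ha.1) _).1 (hb.2 v hv))⟩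
          inv_mem' := fun {a} ha => ⟨inv_mem ha.1, fun v hv => by
            rw [show ⁅v, a⁻¹⁆ = a⁻¹ * ⁅v, a⁆⁻¹ * a⁻¹⁻¹ by simp [commutatorElement_def]; group]
            exact (Subgroup.mem_normalizer_iff.1 (hLM (inv_mem ha.1)) _).1 (inv_mem (ha.2 v hv))⟩ }
      have hS : L ≤ S := by
        refine hgen.ge.trans (sup_le (fun x hx => ⟨hX hx, fun v hv => ?_⟩) fun x hx =>
          ⟨hX'L hx, fun v hv => ?_⟩)
        · exact Subgroup.mem_sup_left (Subgroup.commutator_mem_commutator hv hx)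
        · exact Subgroup.mem_sup_right (Subgroup.commutator_mem_commutator hv hx)
      exact Subgroup.commutator_le.2 fun v hv l hl => (hS hl).2 v hv
    have hAB : A ≤ Subgroup.normalizer (B : Set G) :=
      (hle X hX).trans (Subgroup.normalizer_commutator_ge_left V _)
    have hW : ∀ w ∈ ⁅V, L⁆, (∀ x ∈ X, x * w = w * x) → w ∈ A := by
      intro w hw hwX
      rw [← hM, ← SetLike.mem_coe, Subgroup.coe_mul_of_left_le_normalizer_right A B hAB] at hw
      obtain ⟨a, ha, b, hb, rfl⟩ := hw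
      have hbX : ∀ x ∈ X, x * b = b * x := fun x hx => by
        have h1 := hwX x hx
        rw [← mul_assoc, hqX a ha x hx, mul_assoc, mul_assoc] at h1
        exact mul_left_cancel h1
      have hbL : L ≤ Subgroup.centralizer {b} := by
        rw [← hgen]
        exact sup_le (fun x hx => Subgroup.mem_centralizer_singleton_iff.2 (hbX x hx))
          (fun x hx => Subgroup.mem_centralizer_singleton_iff.2 (hqX' b hb x hx))
      have hgb := Subgroup.mem_centralizer_singleton_iff.1 (hbL hg)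
      obtain ⟨a', ha', hab⟩ : b ∈ A.map c := hBA ▸ hb
      have e : g * a' * g⁻¹ = b := hab
      have hba : a' = b := by
        have h2 : g * a' = g * b := by rw [hgb, ← e]; group
        exact mul_left_cancel h2
      exact mul_mem ha (hba ▸ ha')
    refine ⟨hM, le_antisymm (fun w hw => hW w hw.1 fun x hx => Subgroup.mem_centralizer_iff.1 hw.2 x hx)
      (fun a ha => ⟨hM ▸ Subgroup.mem_sup_left ha,
        Subgroup.mem_centralizer_iff.2 fun x hx => hqX a ha x hx⟩),
      le_antisymm (fun w hw => ?_) fun w hw => ⟨hM ▸ Subgroup.mem_sup_left hw.1, ?_⟩⟩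
    · have hwc := Subgroup.mem_centralizer_iff.1 hw.2
      refine ⟨hW w hw.1 fun x hx => hwc x (hX hx), hBA ▸ ⟨w, hW w hw.1 fun x hx => hwc x (hX hx), ?_⟩⟩
      show g * w * g⁻¹ = w
      rw [hwc g hg, mul_inv_cancel_right]
    · have : L ≤ Subgroup.centralizer {w} := by
        rw [← hgen]
        exact sup_le (fun x hx => Subgroup.mem_centralizer_singleton_iff.2 (hqX w hw.1 x hx))
          (fun x hx => Subgroup.mem_centralizer_singleton_iff.2 (hqX' w hw.2 x hx))
      exact Subgroup.mem_centralizer_iff.2 fun l hl =>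
        Subgroup.mem_centralizer_singleton_iff.1 (this hl)

end Cfsg.Agent.S2833
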