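import Cfsg.Statements.S2835
import Cfsg.Agent.Lib.LocalEvenA.YMin
import Cfsg.Agent.Lib.Basics.Tools

set_option autoImplicit false
open Cfsg

namespace Cfsg.Agent.S2835

/-- Let L be a finite group, L₀ a maximal subgroup, T a Sylow p-subgroup of L₀ and Y ≤ T, and suppose L is Y-minimal (generated by the conjugates of Y, with Y in exactly one maximal subgroup, necessarily L₀). Then N_L(T) ≤ L₀, O_p(L) ≤ L₀ and T is a Sylow p-subgroup of L; N_L(L₀) = L₀; L = ⟨Y, gYg⁻¹⟩ for each g ∈ L outside L₀; and if Y is abelian then Y ∩ gYg⁻¹ = C_Y(L) for each such g. -/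
theorem result {L : Type*} [Group L] [Finite L] {p : ℕ} [Fact p.Prime] (L₀ : Subgroup L) (hL₀ : IsCoatom L₀) (T : Sylow p ↥L₀) (Y : Subgroup L) (hYT : Y ≤ (T : Subgroup ↥L₀).map L₀.subtype) (hmin : Cfsg.IsMinimalOver Y) : Subgroup.normalizer (((T : Subgroup ↥L₀).map L₀.subtype : Subgroup L) : Set L) ≤ L₀ ∧ Cfsg.pCore p L ≤ L₀ ∧ (∃ P : Sylow p L, (P : Subgroup L) = (T : Subgroup ↥L₀).map L₀.subtype) ∧ Subgroup.normalizer (L₀ : Set L) = L₀ ∧ (∀ g : L, g ∉ L₀ → Y ⊔ Y.map (MulAut.conj g).toMonoidHom = ⊤) ∧ (IsMulCommutative ↥Y → ∀ g : L, g ∉ L₀ → Y ⊓ Y.map (MulAut.conj g).toMonoidHom = Y ⊓ Subgroup.center L) := by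
  classical
    obtain ⟨h1, h2, h3⟩ := LocalEvenA.minOver_sylow hmin hL₀ T hYT
    have hY : Y ≤ L₀ := hYT.trans (Subgroup.map_subtype_le _)
    refine ⟨h1, h2, h3, LocalEvenA.minOver_normalizer hmin hL₀ hY,
      fun g hg => LocalEvenA.minOver_generate hmin hL₀ hY hg, fun hab g hg => le_antisymm ?_ ?_⟩
    · rintro x ⟨hx1, hx2⟩
      refine ⟨hx1, Subgroup.mem_center_iff.2 fun y => ?_⟩
      have hle : (Y ⊔ Y.map (MulAut.conj g).toMonoidHom) ≤ Subgroup.centralizer ({x} : Set L) := by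
        refine sup_le (fun a ha => ?_) ?_
        · exact Subgroup.mem_centralizer_singleton_iff.2
            (congrArg Subtype.val (hab.is_comm.comm (⟨a, ha⟩ : ↥Y) ⟨x, hx1⟩))
        · obtain ⟨w, hw, rfl⟩ := hx2
          rintro _ ⟨a, ha, rfl⟩
          refine Subgroup.mem_centralizer_singleton_iff.2 ?_
          rw [← map_mul, ← map_mul]
          exact congrArg _ (congrArg Subtype.val (hab.is_comm.comm (⟨a, ha⟩ : ↥Y) ⟨w, hw⟩))
      rw [LocalEvenA.minOver_generate hmin hL₀ hY hg] at hle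
      exact Subgroup.mem_centralizer_singleton_iff.1 (hle (Subgroup.mem_top y))
    · rintro x ⟨hx1, hx2⟩
      refine ⟨hx1, x, hx1, ?_⟩
      show g * x * g⁻¹ = x
      rw [Subgroup.mem_center_iff.1 hx2 g, mul_inv_cancel_right]

end Cfsg.Agent.S2835
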