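import Cfsg.Statements.S2836
import Cfsg.Agent.Lib.LocalEvenA.YMin
import Cfsg.Agent.Lib.Basics.Tools

set_option autoImplicit false
open Cfsg

namespace Cfsg.Agent.S2836

/-- Let L be a finite group, L₀ a maximal subgroup, T a Sylow p-subgroup of L₀, Y ≤ T, and suppose L is Y-minimal. Let D be the intersection of the conjugates of L₀ (the core of L₀). Then D contains O_p(L) and D/O_p(L) is the Frattini subgroup of L/O_p(L), so D is p-closed; and every normal subgroup N of L contained in L₀ is p-closed with N/O_p(N) a nilpotent group of order prime to p. -/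
theorem result {L : Type*} [Group L] [Finite L] {p : ℕ} [Fact p.Prime] (L₀ : Subgroup L) (hL₀ : IsCoatom L₀) (T : Sylow p ↥L₀) (Y : Subgroup L) (hYT : Y ≤ (T : Subgroup ↥L₀).map L₀.subtype) (hmin : Cfsg.IsMinimalOver Y) : (Cfsg.pCore p L ≤ L₀.normalCore ∧ (L₀.normalCore).map (QuotientGroup.mk' (Cfsg.pCore p L)) = frattini (L ⧸ Cfsg.pCore p L) ∧ Cfsg.IsPClosed p ↥(L₀.normalCore)) ∧ ∀ (N : Subgroup L) [N.Normal], N ≤ L₀ → Cfsg.IsPClosed p ↥N ∧ Group.IsNilpotent (↥N ⧸ Cfsg.pCore p ↥N) ∧ (Nat.card (↥N ⧸ Cfsg.pCore p ↥N)).Coprime p := by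
  classical
    obtain ⟨hNT, hOL, P, hP⟩ := LocalEvenA.minOver_sylow hmin hL₀ T hYT
    have hY : Y ≤ L₀ := hYT.trans (Subgroup.map_subtype_le _)
    set O := pCore p L with hO
    haveI := LocalEvenA.pCore_normal' p L
    set D := L₀.normalCore with hD
    have hOD : O ≤ D := Subgroup.normal_le_normalCore.2 hOL
    -- normal subgroups inside `L₀`
    have hkey : ∀ N : Subgroup L, N.Normal → N ≤ L₀ → (P : Subgroup L) ⊓ N ≤ O := by
      intro N hN hNL
      haveI := hN
      obtain ⟨Q, hQ⟩ := LocalEvenA.exists_sylow_subgroupOf_normal P N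
      have h1 := Sylow.normalizer_sup_eq_top Q
      have hQ' : (Q : Subgroup ↥N).map N.subtype = (P : Subgroup L) ⊓ N := by
        rw [hQ, Subgroup.subgroupOf_map_subtype]
      rw [hQ'] at h1
      rcases LocalEvenA.minOver_unique hmin hL₀ hY (Subgroup.normalizer (((P : Subgroup L) ⊓ N : Subgroup L) : Set L))
        ((hYT.trans hP.ge).trans (LocalEvenA.le_normalizer_inf Subgroup.le_normalizer (LocalEvenA.le_normalizer_of_le_top N _))) with h | h
      · exact LocalEvenA.le_pCore_of_normal (Subgroup.normalizer_eq_top_iff.1 h) (P.2.to_le inf_le_left)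
      · exact absurd (top_le_iff.1 (h1.symm.le.trans (sup_le h hNL))) hL₀.1
    have hclosed : ∀ N : Subgroup L, N.Normal → N ≤ L₀ →
        ∀ Q : Sylow p ↥N, (Q : Subgroup ↥N).map N.subtype = O ⊓ N ∧ (Q : Subgroup ↥N).Normal := by
      intro N hN hNL Q
      haveI := hN
      obtain ⟨Q1, hQ1⟩ := LocalEvenA.exists_sylow_subgroupOf_normal P N
      have hO1 : (Q1 : Subgroup ↥N) = O.subgroupOf N := by
        refine le_antisymm (fun x hx => ?_) (fun x hx => ?_)
        · rw [hQ1] at hx
          exact Subgroup.mem_subgroupOf.2 (hkey N hN hNL ⟨Subgroup.mem_subgroupOf.1 hx, x.2⟩)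
        · rw [hQ1]
          exact Subgroup.mem_subgroupOf.2
            ((LocalEvenA.pCore_isPGroup' p L).le_sylow_of_normal P (Subgroup.mem_subgroupOf.1 hx))
      haveI hn1 : (Q1 : Subgroup ↥N).Normal := hO1 ▸ inferInstance
      obtain ⟨k, hk⟩ := MulAction.exists_smul_eq ↥N Q1 Q
      have hQQ : Q = Q1 := by
        rw [← hk, Sylow.smul_eq_of_normal]
      rw [hQQ]
      exact ⟨by rw [hO1, Subgroup.subgroupOf_map_subtype], hn1⟩
    set q := QuotientGroup.mk' O
    have hqs := QuotientGroup.mk'_surjective O
    have hker : q.ker = O := QuotientGroup.ker_mk' O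
    have hfr : D.map q = frattini (L ⧸ O) := by
      refine le_antisymm ?_ ?_
      · simp only [frattini, Order.radical]
        refine le_iInf₂ fun C hC => ?_
        by_contra hcon
        have hsup : C ⊔ D.map q = ⊤ := hC.2 _ (lt_of_le_of_ne le_sup_left fun e => hcon (e ▸ le_sup_right))
        set M := C.comap q with hM
        have hOM : O ≤ M := hker ▸ Subgroup.ker_le_comap q C
        have hMD : M ⊔ D = ⊤ := by
          apply Subgroup.map_injective_of_ker_le (f := q)
          · exact (hker.le.trans hOM).trans le_sup_left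
          · exact le_top
          · rw [Subgroup.map_sup, Subgroup.map_comap_eq_self_of_surjective hqs,
              Subgroup.map_top_of_surjective q hqs]
            exact hsup
        have hidx : ¬ p ∣ M.index := by
          intro hd
          haveI : D.Normal := inferInstance
          have h5 := Basics.card_mul_card_eq_card_sup_mul_card_inf (N := D) (H := M)
            (LocalEvenA.le_normalizer_of_le_top D M)
          rw [sup_comm, hMD, Subgroup.card_top, ← M.card_mul_index] at h5
          obtain ⟨Q⟩ : Nonempty (Sylow p ↥D) := inferInstance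
          obtain ⟨hQO, -⟩ := hclosed D inferInstance L₀.normalCore_le Q
          have hQc : Nat.card ↥(Q : Subgroup ↥D) ∣ Nat.card ↥(D ⊓ M : Subgroup L) := by
            rw [← Subgroup.card_map_of_injective (f := D.subtype) D.subtype_injective, hQO]
            exact Subgroup.card_dvd_of_le (le_inf inf_le_right (inf_le_left.trans hOM))
          obtain ⟨c, hc⟩ := hd
          obtain ⟨d, hd'⟩ := hQc
          have h6 : Nat.card ↥D = M.index * Nat.card ↥(D ⊓ M : Subgroup L) := by
            refine Nat.eq_of_mul_eq_mul_left (Nat.card_pos (α := ↥M)) ?_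
            linarith
          refine Q.not_dvd_index ?_
          have h7 := (Q : Subgroup ↥D).card_mul_index
          rw [h6, hd', hc] at h7
          refine ⟨c * d, Nat.eq_of_mul_eq_mul_left (Nat.card_pos (α := ↥(Q : Subgroup ↥D))) ?_⟩
          rw [h7]; ring
        obtain ⟨S⟩ : Nonempty (Sylow p ↥M) := inferInstance
        have hidx' : ¬ p ∣ ((S : Subgroup ↥M).map M.subtype).index := by
          rw [Subgroup.index_map_subtype]
          exact fun hd => ((Fact.out : p.Prime).dvd_mul.1 hd).elim S.not_dvd_index hidx
        obtain ⟨g, hg⟩ := MulAction.exists_smul_eq L P ((S.2.map M.subtype).toSylow hidx')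
        have hgM : Y.map (MulAut.conj g).toMonoidHom ≤ M := by
          refine le_trans ?_ (Subgroup.map_subtype_le (S : Subgroup ↥M))
          have h8 : ((g • P : Sylow p L) : Subgroup L) = (S : Subgroup ↥M).map M.subtype := by
            rw [hg]; rfl
          rw [← h8, Sylow.coe_subgroup_smul]
          exact Subgroup.map_mono (hYT.trans hP.ge)
        have hM' : M.comap (MulAut.conj g).toMonoidHom ≤ L₀ := by
          refine (LocalEvenA.minOver_unique hmin hL₀ hY _ (Subgroup.map_le_iff_le_comap.1 hgM)).resolve_left
            fun e => hC.1 ?_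
          rw [← Subgroup.map_comap_eq_self_of_surjective hqs C, ← hM]
          have : M = ⊤ := top_le_iff.1 fun x _ => by
            have h9 : g⁻¹ * x * g ∈ M.comap (MulAut.conj g).toMonoidHom := by rw [e]; trivial
            simpa [Subgroup.mem_comap, mul_assoc] using h9
          rw [this, Subgroup.map_top_of_surjective q hqs]
        refine hcon ?_
        rw [← Subgroup.map_comap_eq_self_of_surjective hqs C, ← hM]
        refine Subgroup.map_mono fun x hx => ?_
        -- `M` is the conjugate of `L₀`, so it contains the core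
        have heq : M.comap (MulAut.conj g).toMonoidHom = L₀ := by
          refine le_antisymm hM' ?_
          have hco : IsCoatom (M.comap (MulAut.conj g).toMonoidHom) := by
            have hMco : IsCoatom M := Subgroup.isCoatom_comap_of_surjective hqs hC
            exact Subgroup.isCoatom_comap_of_surjective (MulAut.conj g).surjective hMco
          exact (hco.le_iff_eq hL₀.1).1 hM' |>.le
        have hx' : g⁻¹ * x * g ∈ L₀ := L₀.normalCore_le (by
          simpa using (inferInstance : D.Normal).conj_mem x hx g⁻¹)
        rw [← heq, Subgroup.mem_comap] at hx'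
        simpa [mul_assoc] using hx'
      · haveI : (frattini (L ⧸ O)).Normal := inferInstance
        rw [← Subgroup.map_comap_eq_self_of_surjective hqs (frattini (L ⧸ O))]
        refine Subgroup.map_mono (Subgroup.normal_le_normalCore.2 ?_)
        have hco : IsCoatom (L₀.map q) :=
          LocalEvenA.isCoatom_map_surj hqs (hker.le.trans hOL) hL₀
        calc (frattini (L ⧸ O)).comap q ≤ (L₀.map q).comap q := Subgroup.comap_mono (frattini_le_coatom hco)
          _ = L₀ := by rw [Subgroup.comap_map_eq, hker, sup_eq_left.2 hOL]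
    refine ⟨⟨hOD, hfr, fun Q => (hclosed D inferInstance L₀.normalCore_le Q).2⟩, fun N _ hNL => ⟨?_, ?_, ?_⟩⟩
    · exact fun Q => (hclosed N inferInstance hNL Q).2
    · have hND : N ≤ D := Subgroup.normal_le_normalCore.2 hNL
      haveI : Group.IsNilpotent ↥(frattini (L ⧸ O)) := frattini_nilpotent
      let r : ↥N →* ↥(frattini (L ⧸ O)) :=
        { toFun := fun n => ⟨q n, hfr ▸ ⟨n, hND n.2, rfl⟩⟩
          map_one' := Subtype.ext (by simp)
          map_mul' := fun a b => Subtype.ext (by simp) }
      have hr : r.ker ≤ pCore p ↥N := by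
        intro x hx
        have h1 : (x : L) ∈ O := by
          rw [← hker]; exact congrArg Subtype.val (MonoidHom.mem_ker.1 hx)
        exact LocalEvenA.le_pCore_of_normal (N := O.subgroupOf N) inferInstance
          ((LocalEvenA.pCore_isPGroup' p L).comap_of_injective N.subtype N.subtype_injective)
          (Subgroup.mem_subgroupOf.2 h1)
      haveI := LocalEvenA.pCore_normal' p ↥N
      haveI : Group.IsNilpotent (↥N ⧸ r.ker) :=
        Group.nilpotent_of_mulEquiv (QuotientGroup.quotientKerEquivRange r).symm
      exact Group.nilpotent_of_surjective (QuotientGroup.map r.ker (pCore p ↥N) (MonoidHom.id _) hr)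
        (fun y => by
          obtain ⟨y, rfl⟩ := QuotientGroup.mk_surjective y
          exact ⟨QuotientGroup.mk y, rfl⟩)
    · haveI := LocalEvenA.pCore_normal' p ↥N
      obtain ⟨Q⟩ : Nonempty (Sylow p ↥N) := inferInstance
      haveI := (hclosed N inferInstance hNL Q).2
      have hQc : pCore p ↥N = (Q : Subgroup ↥N) := le_antisymm
        ((LocalEvenA.pCore_isPGroup' p ↥N).le_sylow_of_normal Q)
        (LocalEvenA.le_pCore_of_normal inferInstance Q.2)
      have h2 : ¬ p ∣ (pCore p ↥N).index := by rw [hQc]; exact Q.not_dvd_index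
      rw [← Subgroup.index_eq_card]
      exact ((Fact.out : p.Prime).coprime_iff_not_dvd.2 h2).symm

end Cfsg.Agent.S2836
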