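import Cfsg.Statements.S2837
import Cfsg.Agent.Lib.LocalEvenA.FrattiniP
import Cfsg.Agent.Lib.LocalEvenA.PReduced
import Cfsg.Agent.Lib.LocalEvenA.WeakClosed
import Cfsg.Agent.Lib.Basics.Frattini

set_option autoImplicit false
open Cfsg

namespace Cfsg.Agent.S2837

open Cfsg.Agent.LocalEvenA Subgroup in
theorem key {L : Type*} [Group L] [Finite L] {p : ℕ} [Fact p.Prime]
    (_hchar : centralizer (Cfsg.pCore p L : Set L) ≤ Cfsg.pCore p L) (L₀ : Subgroup L) (hL₀ : IsCoatom L₀)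
    (Y : Subgroup L) (hYL₀ : Y ≤ L₀) (hYel : Cfsg.IsElementaryAbelian p Y) (hmin : Cfsg.IsMinimalOver Y)
    (hOY : Cfsg.pCore p L ≤ normalizer (Y : Set L)) (A : Subgroup L)
    (hA : A = normalClosure (((Cfsg.pCore p L ⊓ Y : Subgroup L)) : Set L)) (g : L) (hg : g ∉ L₀) :
    (frattini ↥A).map A.subtype = ⁅A, A⁆ ∧ ⁅A, A⁆ = ⁅A ⊓ Y, A⁆ ∧
      ⁅A ⊓ Y, A⁆ = ⁅A ⊓ Y, A ⊓ Y.map (MulAut.conj g).toMonoidHom⁆ ∧ ⁅A ⊓ Y, A⁆ ≤ Y ⊓ center L ∧
      Y ⊓ Y.map (MulAut.conj g).toMonoidHom = Y ⊓ center L ∧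
      (A ⊓ Y) ⊓ (A ⊓ Y.map (MulAut.conj g).toMonoidHom) = Y ⊓ center L ∧
      A ⊓ center L = Y ⊓ center L := by
  haveI hOn := pCore_normal' p L
  obtain ⟨hncl, M, hM, huniq⟩ := hmin
  have hML : M = L₀ := (huniq L₀ ⟨hL₀, hYL₀⟩).symm
  subst hML
  set Z := cj g Y with hZ
  -- generation
  have hgen : Y ⊔ Z = ⊤ := by
    by_contra hne
    obtain ⟨X, hX, hle⟩ := (eq_top_or_exists_le_coatom (Y ⊔ Z)).resolve_left hne
    have hXM : X = M := huniq X ⟨hX, le_sup_left.trans hle⟩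
    subst hXM
    have hcoat : IsCoatom (cj g⁻¹ X) := by
      refine ⟨fun e => hX.1 (cj_inj g⁻¹ (e.trans ?_)), fun V hV => ?_⟩
      · exact (Subgroup.map_top_of_surjective _ (MulAut.conj g⁻¹).surjective).symm
      · have h1 : X < cj g V := by
          refine lt_of_le_of_ne ?_ fun e => hV.ne ?_
          · have := cj_mono g hV.le
            rwa [cj_cj, mul_inv_cancel, cj_one] at this
          · rw [e, cj_cj, inv_mul_cancel, cj_one]
        have := congrArg (cj g⁻¹) (hX.2 _ h1)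
        rw [cj_cj, inv_mul_cancel, cj_one] at this
        exact this.trans (Subgroup.map_top_of_surjective _ (MulAut.conj g⁻¹).surjective)
    have h2 : cj g⁻¹ X = X := huniq _ ⟨hcoat, by
      have := cj_mono g⁻¹ (show Z ≤ X from le_sup_right.trans hle)
      rwa [hZ, cj_cj, inv_mul_cancel, cj_one] at this⟩
    have hgN : g⁻¹ ∈ normalizer (X : Set L) := mem_normalizer_iff_cj.2 h2
    have hgN' : g ∈ normalizer (X : Set L) := by simpa using inv_mem hgN
    have hne' : normalizer (X : Set L) ≠ ⊤ := by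
      intro e
      haveI := normalizer_eq_top_iff.1 e
      exact hX.1 (top_le_iff.1 (hncl.symm.le.trans (normalClosure_le_normal hYL₀)))
    rcases eq_or_lt_of_le (le_normalizer (H := X)) with e | e
    · exact hg (e ▸ hgN')
    · exact hne' (hX.2 _ e)
  have hcY : ∀ a ∈ Y, ∀ b ∈ Y, a * b = b * a := fun a ha b hb => elemAb_comm hYel ha hb
  have hcZ : ∀ a ∈ Z, ∀ b ∈ Z, a * b = b * a := fun a ha b hb => elemAb_comm (elemAb_map hYel _) ha hb
  have hcen : ∀ x : L, (∀ y ∈ Y, y * x = x * y) → (∀ y ∈ Z, y * x = x * y) → x ∈ center L := by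
    intro x h1 h2
    refine mem_center_iff.2 fun y => ?_
    have : Y ⊔ Z ≤ centralizer ({x} : Set L) :=
      sup_le (fun y hy => mem_centralizer_singleton_iff.2 (h1 y hy))
        (fun y hy => mem_centralizer_singleton_iff.2 (h2 y hy))
    exact mem_centralizer_singleton_iff.1 (this (hgen.ge (mem_top y)))
  have hCZ : ∀ x ∈ Y ⊓ center L, x ∈ Z := fun x hx => by
    rw [hZ, mem_cj, mem_center_iff.1 hx.2 g⁻¹, mul_assoc, inv_mul_cancel, mul_one]
    exact hx.1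
  have hC : Y ⊓ Z = Y ⊓ center L := by
    refine le_antisymm (fun x hx => ⟨hx.1, hcen x (fun y hy => hcY y hy x hx.1)
      (fun y hy => hcZ y hy x hx.2)⟩) fun x hx => ⟨hx.1, hCZ x hx⟩
  have hAO : A ≤ Cfsg.pCore p L := hA ▸ normalClosure_le_normal (inf_le_left : Cfsg.pCore p L ⊓ Y ≤ _)
  haveI hAn : A.Normal := hA ▸ normalClosure_normal
  have hCA : Y ⊓ center L ≤ A := by
    have h1 : Y ⊓ center L ≤ Cfsg.pCore p L := le_pCore_of_normal ⟨fun x hx y => by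
      rw [mem_center_iff.1 hx.2 y, mul_inv_cancel_right]; exact hx⟩
      ((elemAb_isPGroup hYel).to_le inf_le_left)
    rw [hA]
    exact (le_inf h1 inf_le_left).trans le_normalClosure
  have hnY : A ≤ normalizer (Y : Set L) := hAO.trans hOY
  have hnZ : A ≤ normalizer (Z : Set L) := by
    intro a ha
    rw [hZ, normalizer_cj, mem_cj]
    refine hnY ?_
    simpa using hAn.conj_mem a ha g⁻¹
  -- commutators between the two intersections
  set P := A ⊓ Y with hP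
  set P' := A ⊓ Z with hP'
  set C := Y ⊓ center L with hCdef
  have hPP : ∀ x ∈ P, ∀ y ∈ P', x * y * x⁻¹ * y⁻¹ ∈ C := by
    intro x hx y hy
    rw [← hC]
    refine ⟨?_, mul_mem ((mem_normalizer_iff.1 (hnZ hx.1) y).1 hy.2) (Subgroup.inv_mem _ hy.2)⟩
    rw [show x * y * x⁻¹ * y⁻¹ = x * (y * x⁻¹ * y⁻¹) by group]
    exact mul_mem hx.2 ((mem_normalizer_iff.1 (hnY hy.1) _).1 (inv_mem hx.2))
  set X := P ⊔ P' with hXdef
  have hXn : X.Normal := by
    refine normalizer_eq_top_iff.1 (top_le_iff.1 ?_)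
    rw [← hgen]
    have step : ∀ U W : Subgroup L, A ≤ normalizer (U : Set L) →
        U ≤ normalizer (((A ⊓ U) ⊔ (A ⊓ W) : Subgroup L) : Set L) := by
      intro U W hU u hu
      have hstep : ∀ u ∈ U, ∀ x ∈ (A ⊓ U) ⊔ (A ⊓ W), u * x * u⁻¹ ∈ (A ⊓ U) ⊔ (A ⊓ W) := by
        intro u hu x hx
        have hxA : x ∈ A := (sup_le inf_le_left inf_le_left : (A ⊓ U) ⊔ (A ⊓ W) ≤ A) hx
        have h1 : u * x * u⁻¹ * x⁻¹ ∈ A ⊓ U := by
          refine ⟨mul_mem (hAn.conj_mem x hxA u) (Subgroup.inv_mem _ hxA), ?_⟩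
          rw [show u * x * u⁻¹ * x⁻¹ = u * (x * u⁻¹ * x⁻¹) by group]
          exact mul_mem hu ((mem_normalizer_iff.1 (hU hxA) _).1 (inv_mem hu))
        have := mul_mem (mem_sup_left (T := A ⊓ W) h1) hx
        rwa [inv_mul_cancel_right] at this
      refine mem_normalizer_iff.2 fun x => ⟨hstep u hu x, fun h => ?_⟩
      have := hstep u⁻¹ (inv_mem hu) _ h
      simpa [mul_assoc] using this
    refine sup_le (step Y Z hnY) ?_
    show Z ≤ normalizer (((A ⊓ Y) ⊔ (A ⊓ Z) : Subgroup L) : Set L)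
    rw [sup_comm]
    exact step Z Y hnZ
  have hXA : X = A := by
    refine le_antisymm (sup_le inf_le_left inf_le_left) ?_
    conv_lhs => rw [hA]
    refine normalClosure_le_normal fun x hx => mem_sup_left (T := P') ⟨?_, hx.2⟩
    rw [hA]
    exact le_normalClosure hx
  -- every element of `A` is a product
  let S : Subgroup L :=
    { carrier := {x | ∃ a ∈ P, ∃ b ∈ P', x = a * b}
      one_mem' := ⟨1, one_mem _, 1, one_mem _, (one_mul 1).symm⟩
      mul_mem' := by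
        rintro _ _ ⟨a, ha, b, hb, rfl⟩ ⟨a', ha', b', hb', rfl⟩
        have hc := hPP a' ha' b hb
        refine ⟨a * ((a' * b * a'⁻¹ * b⁻¹)⁻¹ * a'), mul_mem ha (mul_mem (inv_mem ⟨hCA hc, hc.1⟩) ha'),
          b * b', mul_mem hb hb', ?_⟩
        group
      inv_mem' := by
        rintro _ ⟨a, ha, b, hb, rfl⟩
        have hc := hPP a⁻¹ (inv_mem ha) b⁻¹ (inv_mem hb)
        refine ⟨(a⁻¹ * b⁻¹ * a⁻¹⁻¹ * b⁻¹⁻¹)⁻¹ * a⁻¹, mul_mem (inv_mem ⟨hCA hc, hc.1⟩) (inv_mem ha),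
          b⁻¹, inv_mem hb, ?_⟩
        group }
  have hprod : ∀ x ∈ A, ∃ a ∈ P, ∃ b ∈ P', x = a * b := fun x hx =>
    (sup_le (c := S) (fun a ha => ⟨a, ha, 1, one_mem _, (mul_one a).symm⟩)
      (fun b hb => ⟨1, one_mem _, b, hb, (one_mul b).symm⟩)) (hXA.ge hx)
  set M₁ := ⁅P, P'⁆ with hM₁
  have hM₁C : M₁ ≤ C := commutator_le.2 hPP
  haveI hM₁n : M₁.Normal := ⟨fun x hx y => by
    rw [mem_center_iff.1 (hM₁C hx).2 y, mul_inv_cancel_right]; exact hx⟩
  have hAA : ⁅A, A⁆ ≤ M₁ := by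
    let π := QuotientGroup.mk' M₁
    have hcomm : ∀ a ∈ P, ∀ b ∈ P', π a * π b = π b * π a := by
      intro a ha b hb
      have h1 : π (a * b * a⁻¹ * b⁻¹) = 1 :=
        (QuotientGroup.eq_one_iff _).2 (commutator_mem_commutator ha hb)
      rw [map_mul, map_mul, map_mul, map_inv, map_inv, mul_inv_eq_one, mul_inv_eq_iff_eq_mul] at h1
      exact h1
    refine commutator_le.2 fun x hx y hy => (QuotientGroup.eq_one_iff _).1 ?_
    obtain ⟨a, ha, b, hb, rfl⟩ := hprod x hx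
    obtain ⟨a', ha', b', hb', rfl⟩ := hprod y hy
    have c1 : Commute (π a) (π a') := by
      show π a * π a' = π a' * π a
      rw [← map_mul, ← map_mul, hcY a ha.2 a' ha'.2]
    have c2 : Commute (π b) (π b') := by
      show π b * π b' = π b' * π b
      rw [← map_mul, ← map_mul, hcZ b hb.2 b' hb'.2]
    have c : Commute (π (a * b)) (π (a' * b')) := by
      rw [map_mul π a b, map_mul π a' b']
      exact (c1.mul_right (hcomm a ha b' hb')).mul_left ((show Commute (π b) (π a') from (hcomm a' ha' b hb).symm).mul_right c2)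
    show π ((a * b) * (a' * b') * (a * b)⁻¹ * (a' * b')⁻¹) = 1
    rw [map_mul π, map_mul π, map_mul π, map_inv, map_inv, c.eq, mul_inv_cancel_right, mul_inv_cancel]
  have hMY : M₁ ≤ ⁅P, A⁆ := commutator_mono le_rfl inf_le_left
  have hYA : ⁅P, A⁆ ≤ ⁅A, A⁆ := commutator_mono inf_le_left le_rfl
  have e1 : ⁅A, A⁆ = ⁅P, A⁆ := le_antisymm (hAA.trans hMY) hYA
  have e2 : ⁅P, A⁆ = M₁ := le_antisymm (hYA.trans hAA) hMY
  have hAp : IsPGroup p A := (pCore_isPGroup' p L).to_le hAO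
  refine ⟨le_antisymm (map_frattini_le_of (p := p) le_rfl fun x hx => ?_) ?_, e1, e2,
    e2.le.trans hM₁C, hC, ?_, ?_⟩
  · -- p-th powers
    obtain ⟨a, ha, b, hb, rfl⟩ := hprod x hx
    have hcab : a * b * a⁻¹ * b⁻¹ ∈ ⁅A, A⁆ := commutator_mem_commutator ha.1 hb.1
    haveI : (⁅A, A⁆ : Subgroup L).Normal := Subgroup.commutator_normal A A
    refine (QuotientGroup.eq_one_iff _).1 ?_
    have hc : Commute (QuotientGroup.mk' ⁅A, A⁆ a) (QuotientGroup.mk' ⁅A, A⁆ b) := by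
      have h1 : QuotientGroup.mk' ⁅A, A⁆ (a * b * a⁻¹ * b⁻¹) = 1 := (QuotientGroup.eq_one_iff _).2 hcab
      rw [map_mul, map_mul, map_mul, map_inv, map_inv, mul_inv_eq_one, mul_inv_eq_iff_eq_mul] at h1
      exact h1
    show QuotientGroup.mk' ⁅A, A⁆ ((a * b) ^ p) = 1
    rw [map_pow, map_mul, hc.mul_pow, ← map_pow, ← map_pow, hYel.2 a ha.2,
      (elemAb_map hYel _).2 b hb.2, map_one, one_mul]
  · haveI := hAp.isNilpotent
    rw [← map_subtype_commutator]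
    exact map_mono Basics.commutator_le_frattini
  · refine le_antisymm (fun x hx => hC.le ⟨hx.1.2, hx.2.2⟩) fun x hx =>
      ⟨⟨hCA hx, hx.1⟩, hCA hx, hCZ x hx⟩
  · refine le_antisymm (fun x hx => ⟨?_, hx.2⟩) fun x hx => ⟨hCA hx, hx.2⟩
    obtain ⟨a, ha, b, hb, rfl⟩ := hprod x hx.1
    have hab : ∀ y : L, y * (a * b) = (a * b) * y := fun y => mem_center_iff.1 hx.2 y
    have hac : a ∈ center L := by
      refine hcen a (fun y hy => hcY y hy a ha.2) fun y hy => ?_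
      have h1 : Commute y (a * b * b⁻¹) :=
        (show Commute y (a * b) from hab y).mul_right (show Commute y b⁻¹ from hcZ y hy b⁻¹ (inv_mem hb.2))
      rwa [mul_inv_cancel_right] at h1
    have hbc : b ∈ center L := by
      have := mul_mem (inv_mem hac) hx.2
      rwa [inv_mul_cancel_left] at this
    refine mul_mem ha.2 ?_
    have h3 : g⁻¹ * b * g ∈ Y := mem_cj.1 (show b ∈ cj g Y from hb.2)
    rwa [mem_center_iff.1 hbc g⁻¹, mul_assoc, inv_mul_cancel, mul_one] at h3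

/-- Let L be a finite group of characteristic p, L₀ a maximal subgroup, Y an elementary abelian p-subgroup of L₀ with L Y-minimal and O_p(L) ≤ N_L(Y). Put A = the normal closure of O_p(L) ∩ Y in L. Then for every g ∈ L outside L₀: Φ(A) = A' = [A ∩ Y, A] = [A ∩ Y, A ∩ gYg⁻¹] ≤ C_Y(L), and Y ∩ gYg⁻¹ = (A ∩ Y) ∩ (A ∩ gYg⁻¹) = C_Y(L) = C_A(L). -/
theorem result {L : Type*} [Group L] [Finite L] {p : ℕ} [Fact p.Prime] (hchar : Subgroup.centralizer (Cfsg.pCore p L : Set L) ≤ Cfsg.pCore p L) (L₀ : Subgroup L) (hL₀ : IsCoatom L₀) (Y : Subgroup L) (hYL₀ : Y ≤ L₀) (hYel : Cfsg.IsElementaryAbelian p Y) (hmin : Cfsg.IsMinimalOver Y) (hOY : Cfsg.pCore p L ≤ Subgroup.normalizer (Y : Set L)) (A : Subgroup L) (hA : A = Subgroup.normalClosure (((Cfsg.pCore p L ⊓ Y : Subgroup L)) : Set L)) (g : L) (hg : g ∉ L₀) : (frattini ↥A).map A.subtype = ⁅A, A⁆ ∧ ⁅A, A⁆ = ⁅A ⊓ Y, A⁆ ∧ ⁅A ⊓ Y, A⁆ = ⁅A ⊓ Y, A ⊓ Y.map (MulAut.conj g).toMonoidHom⁆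 ∧ ⁅A ⊓ Y, A⁆ ≤ Y ⊓ Subgroup.center L ∧ Y ⊓ Y.map (MulAut.conj g).toMonoidHom = Y ⊓ Subgroup.center L ∧ (A ⊓ Y) ⊓ (A ⊓ Y.map (MulAut.conj g).toMonoidHom) = Y ⊓ Subgroup.center L ∧ A ⊓ Subgroup.center L = Y ⊓ Subgroup.center L := by
  open Cfsg.Agent.LocalEvenA Subgroup in exact key hchar L₀ hL₀ Y hYL₀ hYel hmin hOY A hA g hg

end Cfsg.Agent.S2837
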