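import Cfsg.Statements.S2839
import Cfsg.Agent.Lib.LocalEvenA.WeakClosed
import Cfsg.Agent.Lib.Transfer.Residual

set_option autoImplicit false
open Cfsg

namespace Cfsg.Agent.S2839

/-- Let Q be a nontrivial p-subgroup of the finite group H that is a weakly closed subgroup, K a subgroup containing Q and N a normal subgroup of H. Then Q is a weakly closed subgroup of K; every H-conjugate of Q contained in K is a K-conjugate of Q; N_K(Q) contains a Sylow p-subgroup of K; N = N_N(Q)·O^p(N); and QN/N is a weakly closed subgroup of H/N. -/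
theorem result {H : Type*} [Group H] [Finite H] {p : ℕ} [Fact p.Prime] (Q : Subgroup H) (hQp : IsPGroup p ↥Q) (hQ1 : Q ≠ ⊥) (hwc : Cfsg.IsWeaklyClosedSubgroup p Q) (K : Subgroup H) (hQK : Q ≤ K) (N' : Subgroup H) [N'.Normal] : Cfsg.IsWeaklyClosedSubgroup p (Q.subgroupOf K) ∧ (∀ g : H, ((Q : Subgroup H).map (MulAut.conj (g : H)).toMonoidHom) ≤ K → ∃ k ∈ K, ((Q : Subgroup H).map (MulAut.conj (g : H)).toMonoidHom) = ((Q : Subgroup H).map (MulAut.conj (k : H)).toMonoidHom)) ∧ Cfsg.IsParabolic p ((Subgroup.normalizer ((Q : Subgroup H) : Set H)).subgroupOf K) ∧ (N' ⊓ Subgroup.normalizer ((Q : Subgroup H) : Set H)) ⊔ (Cfsg.pResidual p ↥N').map N'.subtype = N' ∧ Cfsg.IsWeaklyClosedSubgroup p (Q.map (QuotientGroup.mk' N')) := by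
  open Cfsg.Agent.LocalEvenA in
  obtain ⟨T, hQT⟩ := hQp.exists_le_sylow
  have hTN : (T : Subgroup H) ≤ Subgroup.normalizer ((Q : Subgroup H) : Set H) :=
    Subgroup.le_normalizer.trans (Cfsg.Agent.LocalEvenA.wc_normalizer hwc T.2 hQT)
  refine ⟨Cfsg.Agent.LocalEvenA.wc_subgroupOf hQp hwc hQK,
    fun g hg => Cfsg.Agent.LocalEvenA.wc_fusion hQp hwc hQK hg, ?_, ?_, ?_⟩
  · obtain ⟨P, hP⟩ := (hQp.comap_subtype (K := K)).exists_le_sylow
    refine ⟨P, fun x hx => ?_⟩
    exact Cfsg.Agent.LocalEvenA.wc_normalizer hwc (P.2.map K.subtype)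
      (fun q hq => ⟨⟨q, hQK hq⟩, hP hq, rfl⟩) (Subgroup.le_normalizer ⟨x, hx, rfl⟩)
  · obtain ⟨P, hP⟩ := Cfsg.Agent.LocalEvenA.exists_sylow_subgroupOf_normal T N'
    refine le_antisymm (sup_le inf_le_left (Subgroup.map_subtype_le _)) fun x hx => ?_
    have h := congrArg (Subgroup.map N'.subtype) (Cfsg.Agent.Transfer.pResidual_sup_sylow P)
    rw [Subgroup.map_sup, ← MonoidHom.range_eq_map, Subgroup.range_subtype, sup_comm] at h
    rw [← h] at hx
    suffices hsub : (P : Subgroup ↥N').map N'.subtype ≤ N' ⊓ Subgroup.normalizer ((Q : Subgroup H) : Set H) from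
      (show _ ≤ _ from sup_le_sup hsub le_rfl) hx
    intro y hy
    obtain ⟨z, hz, rfl⟩ := hy
    rw [hP] at hz
    exact ⟨z.2, hTN hz⟩
  · let π := QuotientGroup.mk' N'
    refine ⟨T.mapSurjective (QuotientGroup.mk'_surjective N'), Subgroup.map_mono hQT, fun g hg => ?_⟩
    induction g using QuotientGroup.induction_on with
    | H g =>
      have hconj : (Q.map π).map (MulAut.conj (π g)).toMonoidHom = (Cfsg.Agent.LocalEvenA.cj g Q).map π := by
        rw [Subgroup.map_map, Subgroup.map_map]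
        congr 1
      have hK : Cfsg.Agent.LocalEvenA.cj g Q ≤ N' ⊔ (T : Subgroup H) := by
        intro x hx
        have hx' : π x ∈ (Q.map π).map (MulAut.conj (π g)).toMonoidHom := by
          rw [hconj]; exact ⟨x, hx, rfl⟩
        obtain ⟨t, ht, e⟩ := hg hx'
        have hxt : x * t⁻¹ ∈ N' := by
          have h0 : π (x * t⁻¹) = 1 := by rw [map_mul, map_inv, ← e, mul_inv_cancel]
          exact (QuotientGroup.eq_one_iff _).1 h0
        simpa using Subgroup.mul_mem_sup hxt ht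
      obtain ⟨k, hk, e⟩ := Cfsg.Agent.LocalEvenA.wc_fusion hQp hwc (hQT.trans le_sup_right) hK
      rw [← SetLike.mem_coe, Subgroup.normal_mul, Set.mem_mul] at hk
      obtain ⟨n, hn, t, ht, rfl⟩ := hk
      show (Q.map π).map (MulAut.conj (π g)).toMonoidHom = Q.map π
      rw [hconj, e, ← Cfsg.Agent.LocalEvenA.cj_cj, Cfsg.Agent.LocalEvenA.mem_normalizer_iff_cj.1 (hTN ht),
        Subgroup.map_map]
      congr 1
      refine MonoidHom.ext fun x => ?_
      simp [π, (QuotientGroup.eq_one_iff n).2 hn]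

end Cfsg.Agent.S2839
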