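import Cfsg.Statements.S2840
import Cfsg.Agent.Lib.LocalEvenA.WeakClosed

set_option autoImplicit false
open Cfsg

namespace Cfsg.Agent.S2840

/-- Let Q be a nontrivial p-subgroup of the finite group H that is a weakly closed subgroup and K a subgroup containing Q; let K° be the weak closure of Q in K (generated by the H-conjugates of Q inside K). Then K° is generated by the K-conjugates of Q, and K° is the subnormal closure of Q in K. -/
theorem result {H : Type*} [Group H] [Finite H] {p : ℕ} [Fact p.Prime] (Q : Subgroup H) (hQp : IsPGroup p ↥Q) (hQ1 : Q ≠ ⊥) (hwc : Cfsg.IsWeaklyClosedSubgroup p Q) (K : Subgroup H) (hQK : Q ≤ K) (Kc : Subgroup H) (hKc : Kc = Cfsg.weakClosure Q K) : Kc = ⨆ k : ↥K, ((Q : Subgroup H).map (MulAut.conj ((k : H) : H)).toMonoidHom) ∧ Kc = (Cfsg.subnormalClosure (Q.subgroupOf K)).map K.subtype := by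
  open Cfsg.Agent.LocalEvenA in
  have key : ∀ (S : Subgroup ↥K), Q.subgroupOf K ≤ S → S.IsSubnormal →
      ∀ k : ↥K, Cfsg.Agent.LocalEvenA.cj (k : H) Q ≤ S.map K.subtype := by
    intro S hS hsn
    induction hsn with
    | top =>
      intro k x hx
      rw [Cfsg.Agent.LocalEvenA.mem_cj] at hx
      exact ⟨⟨x, by simpa [mul_assoc] using K.mul_mem (K.mul_mem k.2 (hQK hx)) (K.inv_mem k.2)⟩, trivial, rfl⟩
    | step A B hAB _ hN ih =>
      intro k
      have hQB : Q ≤ B.map K.subtype := fun x hx => ⟨⟨x, hQK hx⟩, hAB (hS hx), rfl⟩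
      obtain ⟨b, hb, e⟩ := Cfsg.Agent.LocalEvenA.wc_fusion hQp hwc hQB (ih (hS.trans hAB) k)
      obtain ⟨b, hbB, rfl⟩ := hb
      rw [e]
      intro x hx
      rw [Cfsg.Agent.LocalEvenA.mem_cj] at hx
      refine ⟨b * ⟨_, hQK hx⟩ * b⁻¹, ?_, by simp [mul_assoc]⟩
      exact hN.conj_mem ⟨⟨_, hQK hx⟩, hAB (hS hx)⟩ (hS hx) ⟨b, hbB⟩
  have h1 : Kc = ⨆ k : ↥K, ((Q : Subgroup H).map (MulAut.conj ((k : H) : H)).toMonoidHom) := by
    rw [hKc, Cfsg.weakClosure]
    apply le_antisymm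
    · refine iSup_le fun g => ?_
      obtain ⟨k, hk, e⟩ := Cfsg.Agent.LocalEvenA.wc_fusion hQp hwc hQK g.2
      exact e.trans_le (le_iSup (fun k : ↥K => Q.map (MulAut.conj (k : H)).toMonoidHom) ⟨k, hk⟩)
    · refine iSup_le fun k => ?_
      have hle : Q.map (MulAut.conj (k : H)).toMonoidHom ≤ K :=
        (key ⊤ le_top Subgroup.IsSubnormal.top k).trans (Subgroup.map_subtype_le _)
      exact le_iSup (fun g : {g : H // Q.map (MulAut.conj g).toMonoidHom ≤ K} => Q.map (MulAut.conj (g : H)).toMonoidHom) ⟨k, hle⟩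
  refine ⟨h1, le_antisymm ?_ ?_⟩
  · rw [h1, Cfsg.subnormalClosure]
    refine iSup_le fun k x hx => ?_
    obtain ⟨y, -, rfl⟩ := key ⊤ le_top Subgroup.IsSubnormal.top k hx
    refine Subgroup.mem_map_of_mem _ (Subgroup.mem_sInf.2 fun S hS => ?_)
    obtain ⟨z, hz, e⟩ := key S hS.1 hS.2 k hx
    exact Subtype.ext e ▸ hz
  · have hsn : ((Subgroup.normalClosure (Q.subgroupOf K : Set ↥K))).IsSubnormal :=
      Subgroup.Normal.isSubnormal inferInstance
    refine le_trans (Subgroup.map_mono (sInf_le ⟨Subgroup.subset_normalClosure, hsn⟩)) ?_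
    rw [Subgroup.normalClosure, MonoidHom.map_closure, Subgroup.closure_le]
    rintro _ ⟨y, hy, rfl⟩
    obtain ⟨q, hq, hc⟩ := Group.mem_conjugatesOfSet_iff.1 hy
    obtain ⟨k, hk⟩ := isConj_iff.1 hc
    rw [h1]
    refine Subgroup.mem_iSup_of_mem k ?_
    rw [← hk]
    exact ⟨q, hq, by simp [mul_assoc]⟩

end Cfsg.Agent.S2840
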