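import Cfsg.Statements.S2841
import Cfsg.Agent.Lib.LocalEvenA.WeakClosed
import Cfsg.Agent.Lib.Basics.Tools

set_option autoImplicit false
open Cfsg
open scoped commutatorElement

namespace Cfsg.Agent.S2841

/-- Let Q be a nontrivial p-subgroup of the finite group H that is a weakly closed subgroup and N a normal subgroup of H. Then N = N_N(Q)·[N, Q] and [N, Q] = (Q ∩ [N, Q])·[N, Q, Q]. -/
theorem result {H : Type*} [Group H] [Finite H] {p : ℕ} [Fact p.Prime] (Q : Subgroup H) (hQp : IsPGroup p ↥Q) (hQ1 : Q ≠ ⊥) (hwc : Cfsg.IsWeaklyClosedSubgroup p Q) (N' : Subgroup H) [N'.Normal] : (∀ n : H, n ∈ N' → ∃ a ∈ N' ⊓ Subgroup.normalizer ((Q : Subgroup H) : Set H), ∃ b ∈ ⁅N', Q⁆, n = a * b) ∧ (∀ c : H, c ∈ ⁅N', Q⁆ → ∃ a ∈ Q ⊓ ⁅N', Q⁆, ∃ b ∈ ⁅⁅N', Q⁆, Q⁆, c = a * b) := by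
  open Cfsg.Agent.LocalEvenA in
  have hNM : N' ≤ Subgroup.normalizer ((⁅N', Q⁆ : Subgroup H) : Set H) := Subgroup.normalizer_commutator_ge_left _ _
  have hQM : Q ≤ Subgroup.normalizer ((⁅N', Q⁆ : Subgroup H) : Set H) := Subgroup.normalizer_commutator_ge_right _ _
  have hMN : ⁅N', Q⁆ ≤ N' := Subgroup.commutator_le_left _ _
  refine ⟨fun n hn => ?_, fun c hc => ?_⟩
  · obtain ⟨k, hk, e⟩ := Cfsg.Agent.LocalEvenA.wc_fusion hQp hwc le_sup_right (Cfsg.Agent.LocalEvenA.cj_le_sup_commutator (Q := Q) hn)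
    obtain ⟨m, hm, q, hq, rfl⟩ := (Cfsg.Agent.Basics.mem_sup_of_le_normalizer hQM).1 hk
    rw [← Cfsg.Agent.LocalEvenA.cj_cj,
      Cfsg.Agent.LocalEvenA.mem_normalizer_iff_cj.1 (Subgroup.le_normalizer hq)] at e
    have ha : m⁻¹ * n ∈ Subgroup.normalizer ((Q : Subgroup H) : Set H) := by
      rw [Cfsg.Agent.LocalEvenA.mem_normalizer_iff_cj, ← Cfsg.Agent.LocalEvenA.cj_cj, e,
        Cfsg.Agent.LocalEvenA.cj_cj, inv_mul_cancel, Cfsg.Agent.LocalEvenA.cj_one]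
    have hb : (m⁻¹ * n)⁻¹ * m * (m⁻¹ * n) ∈ ⁅N', Q⁆ := by
      simpa using (Subgroup.mem_normalizer_iff.1 (hNM (inv_mem (mul_mem (inv_mem (hMN hm)) hn))) m).1 hm
    exact ⟨m⁻¹ * n, ⟨N'.mul_mem (N'.inv_mem (hMN hm)) hn, ha⟩, _, hb, by group⟩
  · set M := ⁅N', Q⁆ with hM
    have hMD : M ≤ Subgroup.normalizer ((⁅M, Q⁆ : Subgroup H) : Set H) := Subgroup.normalizer_commutator_ge_left _ _
    have key : ∀ n ∈ N', ∀ q ∈ Q, ⁅n, q⁆ ∈ (Q ⊓ M) ⊔ ⁅M, Q⁆ := by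
      intro n hn q hq
      obtain ⟨k, hk, e⟩ := Cfsg.Agent.LocalEvenA.wc_fusion hQp hwc le_sup_right (Cfsg.Agent.LocalEvenA.cj_le_sup_commutator (Q := Q) hn)
      obtain ⟨m, hm, q', hq', rfl⟩ := (Cfsg.Agent.Basics.mem_sup_of_le_normalizer hQM).1 hk
      rw [← Cfsg.Agent.LocalEvenA.cj_cj,
        Cfsg.Agent.LocalEvenA.mem_normalizer_iff_cj.1 (Subgroup.le_normalizer hq')] at e
      have ha : m⁻¹ * n ∈ Subgroup.normalizer ((Q : Subgroup H) : Set H) := by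
        rw [Cfsg.Agent.LocalEvenA.mem_normalizer_iff_cj, ← Cfsg.Agent.LocalEvenA.cj_cj, e,
          Cfsg.Agent.LocalEvenA.cj_cj, inv_mul_cancel, Cfsg.Agent.LocalEvenA.cj_one]
      set a := m⁻¹ * n with hadef
      have hna : n = m * a := by simp [a]
      have han : a ∈ N' := mul_mem (inv_mem (hMN hm)) hn
      have hs : ⁅a, q⁆ ∈ Q := by
        rw [commutatorElement_def]
        exact Q.mul_mem ((Subgroup.mem_normalizer_iff.1 ha q).1 hq) (Q.inv_mem hq)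
      have hs' : ⁅a, q⁆ ∈ Q ⊓ M := ⟨hs, Subgroup.commutator_mem_commutator han hq⟩
      have e2 : ⁅n, q⁆ = ⁅m, ⁅a, q⁆⁆ * ⁅a, q⁆ * ⁅m, q⁆ := by
        rw [hna]; simp only [commutatorElement_def]; group
      rw [e2]
      refine mul_mem (mul_mem ?_ (Subgroup.mem_sup_left hs')) ?_
      · exact Subgroup.mem_sup_right (Subgroup.commutator_mem_commutator hm hs)
      · exact Subgroup.mem_sup_right (Subgroup.commutator_mem_commutator hm hq)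
    have hle : M ≤ (Q ⊓ M) ⊔ ⁅M, Q⁆ := Subgroup.commutator_le.2 key
    obtain ⟨a, ha, b, hb, e⟩ := (Cfsg.Agent.Basics.mem_sup_of_le_normalizer'
      (N := ⁅M, Q⁆) (H := Q ⊓ M) (inf_le_right.trans hMD)).1 (by rw [sup_comm]; exact hle hc)
    exact ⟨a, ha, b, hb, e⟩

end Cfsg.Agent.S2841
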