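import Cfsg.Statements.S2843
import Cfsg.Agent.Lib.LocalEvenA.Large2

set_option autoImplicit false
open Cfsg
open scoped commutatorElement

namespace Cfsg.Agent.S2843

/-- Let Q be a nontrivial large p-subgroup of the finite group H, Q ≤ L ≤ H, and Y a nontrivial p-subgroup of H normalized by L. Let L° be the weak closure of Q in L (generated by the conjugates of Q inside L). Then L° equals the weak closure of Q in L·C_H(Y), and [L°, C_H(Y)] ≤ O_p(L°); in particular C_H(Y) normalizes L°. -/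
theorem result {H : Type*} [Group H] [Finite H] {p : ℕ} [Fact p.Prime] (Q : Subgroup H) (hQp : IsPGroup p ↥Q) (hQ1 : Q ≠ ⊥) (hL : Cfsg.IsLarge Q) (L : Subgroup H) (hQL : Q ≤ L) (Y : Subgroup H) (hYp : IsPGroup p ↥Y) (hY1 : Y ≠ ⊥) (hLY : L ≤ Subgroup.normalizer ((Y : Subgroup H) : Set H)) : Cfsg.weakClosure Q L = Cfsg.weakClosure Q (L ⊔ Subgroup.centralizer ((Y : Subgroup H) : Set H)) ∧ ⁅Cfsg.weakClosure Q L, Subgroup.centralizer ((Y : Subgroup H) : Set H)⁆ ≤ (Cfsg.pCoreOf p (Cfsg.weakClosure Q L)) ∧ Subgroup.centralizer ((Y : Subgroup H) : Set H) ≤ Subgroup.normalizer (((Cfsg.weakClosure Q L) : Subgroup H) : Set H) := by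
  set C := Subgroup.centralizer ((Y : Subgroup H) : Set H) with hCdef
  have hwc := LocalEvenA.large_wc hQp hQ1 hL
  have hLC : L ≤ Subgroup.normalizer (C : Set H) :=
    hLY.trans (LocalEvenA.normalizer_le_normalizer_centralizer Y)
  have heq : weakClosure Q L = weakClosure Q (L ⊔ C) := by
    refine le_antisymm (iSup_le fun g => LocalEvenA.cj_le_weakClosure (g.2.trans le_sup_left))
      (iSup_le fun g => ?_)
    obtain ⟨k, hk, hkQ⟩ := LocalEvenA.wc_fusion hQp hwc (hQL.trans le_sup_left) g.2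
    rw [sup_comm] at hk
    obtain ⟨c, hc, l, hl, rfl⟩ := (Basics.mem_sup_of_le_normalizer hLC).1 hk
    show LocalEvenA.cj (g : H) Q ≤ _
    have hc' : l⁻¹ * c * l ∈ C := by
      simpa using (Subgroup.mem_normalizer_iff.1 (hLC (L.inv_mem hl)) c).1 hc
    rw [hkQ, show c * l = l * (l⁻¹ * c * l) by group, ← LocalEvenA.cj_cj,
      LocalEvenA.mem_normalizer_iff_cj.1 (LocalEvenA.large_centralizer_le hQp hL hYp hY1
        (hQL.trans hLY) hc')]
    exact LocalEvenA.cj_le_weakClosure (LocalEvenA.cj_le_of_mem hQL (Subgroup.le_normalizer hl))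
  have hCn : C ≤ Subgroup.normalizer ((weakClosure Q L : Subgroup H) : Set H) := by
    rw [heq]
    exact le_sup_right.trans (Subgroup.le_normalizer.trans
      (LocalEvenA.normalizer_le_normalizer_weakClosure Q _))
  refine ⟨heq, ?_, hCn⟩
  set W := weakClosure Q L with hW
  have hWL : W ≤ L := LocalEvenA.weakClosure_le Q L
  have hPn : W ≤ Subgroup.normalizer ((pCoreOf p W : Subgroup H) : Set H) :=
    LocalEvenA.le_normalizer_pCoreOf p W
  rw [Subgroup.commutator_le]
  intro w hw
  suffices w ∈ W ∧ ∀ c ∈ C, ⁅w, c⁆ ∈ pCoreOf p W from this.2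
  change w ∈ ⨆ g : {g : H // LocalEvenA.cj g Q ≤ L}, LocalEvenA.cj (g : H) Q at hw
  induction hw using Subgroup.iSup_induction' with
  | hp g x hx =>
    have hle : LocalEvenA.cj (g : H) Q ≤ W := LocalEvenA.cj_le_weakClosure g.2
    refine ⟨hle hx, fun c hc => ?_⟩
    have hn := LocalEvenA.large_centralizer_le (LocalEvenA.isPGroup_cj (g := (g : H)) hQp)
      (LocalEvenA.large_cj hL g) hYp hY1 (g.2.trans hLY)
    refine LocalEvenA.subnormal_le_pCoreOf (R := LocalEvenA.cj (g : H) Q ⊓ C) (D := W ⊓ C) ?_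
      (inf_le_inf_right _ hle) inf_le_left
      (LocalEvenA.le_normalizer_inf Subgroup.le_normalizer (hWL.trans hLC))
      (inf_le_right.trans (LocalEvenA.le_normalizer_inf hn Subgroup.le_normalizer)) ?_
    · exact (LocalEvenA.isPGroup_cj hQp).to_le inf_le_left
    · exact ⟨LocalEvenA.commutator_le_left_of_normalizer hn (Subgroup.commutator_mem_commutator hx hc),
        LocalEvenA.commutator_le_right_of_normalizer (g.2.trans hLC)
          (Subgroup.commutator_mem_commutator hx hc)⟩
  | h1 => exact ⟨W.one_mem, fun c _ => by simp⟩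
  | hmul x y _ _ hx hy =>
    refine ⟨W.mul_mem hx.1 hy.1, fun c hc => ?_⟩
    have := (Subgroup.mem_normalizer_iff.1 (hPn hx.1) _).1 (hy.2 c hc)
    have h2 := (pCoreOf p W).mul_mem this (hx.2 c hc)
    simpa [commutatorElement_def, mul_assoc] using h2

end Cfsg.Agent.S2843
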