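import Cfsg.Statements.S2844
import Cfsg.Agent.Lib.LocalEvenA.Large

set_option autoImplicit false
open Cfsg

namespace Cfsg.Agent.S2844

/-- Let Q be a nontrivial large p-subgroup of the finite group H and Q• = O_p(N_H(Q)). Then for every g ∈ H outside N_H(Q): C_H(Q) ∩ C_H(gQg⁻¹) = 1, C_H(Q•) ∩ C_H(gQ•g⁻¹) = 1, Z(Q) ∩ Z(gQg⁻¹) = 1 and Z(Q•) ∩ Z(gQ•g⁻¹) = 1; moreover N_H(Q) = N_H(Q•) and Q• is large in H. -/
theorem result {H : Type*} [Group H] [Finite H] {p : ℕ} [Fact p.Prime] (Q : Subgroup H) (hQp : IsPGroup p ↥Q) (hQ1 : Q ≠ ⊥) (hL : Cfsg.IsLarge Q) (Qb : Subgroup H) (hQb : Qb = Cfsg.largeBullet p Q) : (∀ g : H, g ∉ Subgroup.normalizer ((Q : Subgroup H) : Set H) → Subgroup.centralizer ((Q : Subgroup H) : Set H) ⊓ Subgroup.centralizer ((((Q : Subgroup H).map (MulAut.conj (g : H)).toMonoidHom) : Subgroup H) : Set H) = ⊥ ∧ Subgroup.centralizer ((Qb : Subgroup H) : Set H) ⊓ Subgroup.centralizer ((((Qb : Subgroup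 H).map (MulAut.conj (g : H)).toMonoidHom) : Subgroup H) : Set H) = ⊥ ∧ (Q ⊓ Subgroup.centralizer ((Q : Subgroup H) : Set H)) ⊓ (((Q : Subgroup H).map (MulAut.conj (g : H)).toMonoidHom) ⊓ Subgroup.centralizer ((((Q : Subgroup H).map (MulAut.conj (g : H)).toMonoidHom) : Subgroup H) : Set H)) = ⊥ ∧ (Qb ⊓ Subgroup.centralizer ((Qb : Subgroup H) : Set H)) ⊓ (((Qb : Subgroup H).map (MulAut.conj (g : H)).toMonoidHom) ⊓ Subgroup.centralizer ((((Qb : Subgroup H).map (MulAut.conj (g : H)).toMonoidHom) : Subgroup H) : Set H)) = ⊥) ∧ Subgroup.normalizer ((Q : Subgroup H) : Set H) = Subgroup.normalizer ((Qb : Subgroup H) : Set H) ∧ Cfsg.IsLarge Qb := by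
  subst hQb
  have hQ := LocalEvenA.le_pCoreOf (p := p) Subgroup.le_normalizer le_rfl hQp
  have hbp := LocalEvenA.pCoreOf_isPGroup' p (Subgroup.normalizer (Q : Set H))
  have hN : Subgroup.normalizer (Q : Set H) = Subgroup.normalizer ((largeBullet p Q : Subgroup H) : Set H) :=
    le_antisymm (LocalEvenA.le_normalizer_pCoreOf p _)
      (LocalEvenA.wc_normalizer (LocalEvenA.large_wc hQp hQ1 hL) hbp hQ)
  have hC : Subgroup.centralizer ((largeBullet p Q : Subgroup H) : Set H) ≤ Subgroup.centralizer (Q : Set H) :=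
    Subgroup.centralizer_le (SetLike.coe_subset_coe.2 hQ)
  refine ⟨fun g hg => ?_, hN, hC.trans (hL.1.trans hQ), fun U hU hU1 => hN ▸ hL.2 U (hU.trans hC) hU1⟩
  have h := LocalEvenA.large_centralizer_inf hQp hQ1 hL hg
  have h2 : Subgroup.centralizer ((largeBullet p Q : Subgroup H) : Set H) ⊓ Subgroup.centralizer
      ((LocalEvenA.cj g (largeBullet p Q) : Subgroup H) : Set H) = ⊥ :=
    le_bot_iff.1 (h ▸ inf_le_inf hC (Subgroup.centralizer_le (SetLike.coe_subset_coe.2 (LocalEvenA.cj_mono g hQ))))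
  exact ⟨h, h2, le_bot_iff.1 (h ▸ inf_le_inf inf_le_right inf_le_right),
    le_bot_iff.1 (h2 ▸ inf_le_inf inf_le_right inf_le_right)⟩

end Cfsg.Agent.S2844
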