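import Cfsg.Statements.S2845
import Cfsg.Agent.Lib.LocalEvenA.Large2

set_option autoImplicit false
open Cfsg

namespace Cfsg.Agent.S2845

/-- Let Q be a nontrivial large p-subgroup of the finite group H. Then for every subgroup L ≥ Q with O_p(L) ≠ 1, C_H(O_p(L)) is a p-group and L has characteristic p, and either the weak closure L° of Q in L equals Q or C_H(L°) = 1; for every subgroup R of H containing a Sylow p-subgroup of H with O_p(R) ≠ 1, C_H(O_p(R)) ≤ O_p(R); and H has parabolic characteristic p. -/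
theorem result {H : Type*} [Group H] [Finite H] {p : ℕ} [Fact p.Prime] (Q : Subgroup H) (hQp : IsPGroup p ↥Q) (hQ1 : Q ≠ ⊥) (hL : Cfsg.IsLarge Q) : (∀ L : Subgroup H, Q ≤ L → Cfsg.pCore p ↥L ≠ ⊥ → IsPGroup p ↥(Subgroup.centralizer (((Cfsg.pCoreOf p L) : Subgroup H) : Set H)) ∧ Subgroup.centralizer (Cfsg.pCore p ↥L : Set ↥L) ≤ Cfsg.pCore p ↥L ∧ (Cfsg.weakClosure Q L = Q ∨ Subgroup.centralizer (((Cfsg.weakClosure Q L) : Subgroup H) : Set H) = ⊥)) ∧ (∀ R : Subgroup H, Cfsg.IsParabolic p R → Cfsg.pCore p ↥R ≠ ⊥ → Subgroup.centralizer (((Cfsg.pCoreOf p R) : Subgroup H) : Set H) ≤ (Cfsg.pCoreOf p R)) ∧ Cfsg.IsOfParabolicCharacteristic p H := by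
  refine ⟨fun L hQL hne => ?_, fun R hR hne => ?_, fun R hR hR1 hpar => ?_⟩
  · obtain ⟨-, h1, h2⟩ := LocalEvenA.large_overgroup hQp hL hQL (LocalEvenA.pCoreOf_ne_bot hne)
    refine ⟨h1, h2, or_iff_not_imp_left.2 fun h => ?_⟩
    obtain ⟨g, hg, hgQ⟩ : ∃ g : H, LocalEvenA.cj g Q ≤ L ∧ ¬ LocalEvenA.cj g Q ≤ Q := by
      by_contra! hall
      exact h (le_antisymm (iSup_le fun g => hall g g.2) (LocalEvenA.self_le_weakClosure hQL))
    have hg' : g ∉ Subgroup.normalizer (Q : Set H) := fun h =>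
      hgQ (LocalEvenA.mem_normalizer_iff_cj.1 h).le
    exact le_bot_iff.1 (LocalEvenA.large_centralizer_inf hQp hQ1 hL hg' ▸ le_inf
      (Subgroup.centralizer_le (SetLike.coe_subset_coe.2 (LocalEvenA.self_le_weakClosure hQL)))
      (Subgroup.centralizer_le (SetLike.coe_subset_coe.2 (LocalEvenA.cj_le_weakClosure hg))))
  · obtain ⟨T, hT⟩ := hR
    exact LocalEvenA.large_parabolic hQp hL T hT (LocalEvenA.pCoreOf_ne_bot hne)
  · obtain ⟨T, hT⟩ := hpar
    refine (LocalEvenA.charP_iff p _).2 (inf_le_right.trans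
      (LocalEvenA.large_parabolic hQp hL T hT ?_))
    exact ne_bot_of_le_ne_bot hR1
      (LocalEvenA.le_pCoreOf Subgroup.le_normalizer le_rfl hR)

end Cfsg.Agent.S2845
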