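import Cfsg.Statements.S2846
import Cfsg.Agent.Lib.LocalEvenA.Frame

set_option autoImplicit false
open Cfsg

namespace Cfsg.Agent.S2846

/-- Let Q be a nontrivial large p-subgroup of the finite group H, S a Sylow p-subgroup containing Q, and L a subgroup containing S with O_p(L) ≠ 1 and C_H(O_p(L)) ≤ O_p(L). Then there are a subgroup M containing S having the basic property (M ∈ 𝔐_H, writing Y_X for the largest p-reduced normal subgroup of X and 𝓛_H for the set of subgroups X with O_p(X) ≠ 1 and C_H(O_p(X)) ≤ O_p(X): M ∈ 𝓛_H, M·C_H(Y_M) is the only maximal member of 𝓛_H containing M and its largest p-reduced normal subgroup is again Y_M, C_M(Y_M) is p-closed, and the image of C_M(Y_M) in M/O_p(M) lies in the Frattini subgroup of M/O_p(M)) and a subgroup L* with S ≤ L* ≤ M, O_p(L*) ≠ 1, C_H(O_p(L*)) ≤ O_p(L*), such that L·C_H(Y_L) = L*·C_H(Y_L), the weak closures of Q in L and in L* agree and lie in that of M, and Y_L = Y_{L*} ≤ Y_M. If moreover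 Q is not normal in L, then Q is normal in neither L* nor M. -/
theorem result {H : Type*} [Group H] [Finite H] {p : ℕ} [Fact p.Prime] (Q : Subgroup H) (hQp : IsPGroup p ↥Q) (hQ1 : Q ≠ ⊥) (hLg : Cfsg.IsLarge Q) (S : Sylow p H) (hQS : Q ≤ (S : Subgroup H)) (L : Subgroup H) (hSL : (S : Subgroup H) ≤ L) (hL : L ∈ Cfsg.charPSubgroups p H) : ∃ M Ls : Subgroup H, (S : Subgroup H) ≤ M ∧ Cfsg.IsInFrakM p M ∧ (S : Subgroup H) ≤ Ls ∧ Ls ≤ M ∧ Ls ∈ Cfsg.charPSubgroups p H ∧ L ⊔ Subgroup.centralizer (((Cfsg.largestPReducedOf p L) : Subgroup H) : Set H) = Ls ⊔ Subgroup.centralizer (((Cfsg.largestPReducedOf p L) : Subgroup H) : Set H) ∧ Cfsg.weakClosure Q L = Cfsg.weakClosure Q Ls ∧ Cfsg.weakClosure Q Ls ≤ Cfsg.weakClosure Q M ∧ (Cfsg.largestPReducedOf p L) = (Cfsg.largestPReducedOf p Ls) ∧ (Cfsg.largestPReducedOf p Ls) ≤ (Cfsg.largestPReducedOf p M) ∧ (¬ L ≤ Subgroup.normalizer ((Q : Subgroup H) : Set H) → ¬ Ls ≤ Subgroup.normalizer ((Q : Subgroup H) : Set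 H) ∧ ¬ M ≤ Subgroup.normalizer ((Q : Subgroup H) : Set H)) := by
  obtain ⟨M, Ls, hSM, hM, hSLs, hLsM, hLsmem, hY, hYM, hsame⟩ := LocalEvenA.exists_frakM S
    (fun R hTR hne => LocalEvenA.large_parabolic hQp hLg S hTR hne) hSL hL
  have hYp := LocalEvenA.elemAb_isPGroup (LocalEvenA.pReducedOf_elemAb (p := p) L)
  have hS : (S : Subgroup H) ≠ ⊥ := ne_bot_of_le_ne_bot hQ1 hQS
  have hY1 := LocalEvenA.pReducedOf_ne_bot S hS hSL
    ((LocalEvenA.charP_iff p L).2 (inf_le_right.trans hL.2))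
  have key : ∀ X : Subgroup H, Q ≤ X → X ≤ Subgroup.normalizer ((largestPReducedOf p L : Subgroup H) : Set H) →
      weakClosure Q X = weakClosure Q (X ⊔ Subgroup.centralizer ((largestPReducedOf p L : Subgroup H) : Set H)) :=
    fun X hQX hX => LocalEvenA.weakClosure_sup_centralizer hQp hQ1 hLg hQX hYp hY1 hX
  have hwcL : weakClosure Q L = weakClosure Q Ls := by
    rw [key L (hQS.trans hSL) (LocalEvenA.le_normalizer_pReducedOf L),
      key Ls (hQS.trans hSLs) (hY ▸ LocalEvenA.le_normalizer_pReducedOf Ls), hsame]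
  refine ⟨M, Ls, hSM, hM, hSLs, hLsM, hLsmem, hsame, hwcL,
    iSup_le (fun g => LocalEvenA.cj_le_weakClosure (g.2.trans hLsM)), hY, hY ▸ hYM, fun hnot => ?_⟩
  have hLs : ¬ Ls ≤ Subgroup.normalizer (Q : Set H) := fun hle => hnot (by
    have hWQ : weakClosure Q L = Q := by
      rw [hwcL]
      refine le_antisymm (iSup_le fun g => ?_) (LocalEvenA.self_le_weakClosure (hQS.trans hSLs))
      have hgQ : LocalEvenA.cj (g : H) Q ≤ Subgroup.normalizer (Q : Set H) := g.2.trans hle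
      exact (LocalEvenA.wc_unique (LocalEvenA.large_wc hQp hQ1 hLg)
        ((LocalEvenA.isPGroup_cj hQp).to_sup_of_normal_right' hQp hgQ) le_sup_right le_sup_left).le
    have := Subgroup.le_normalizer.trans (LocalEvenA.normalizer_le_normalizer_weakClosure Q L)
    rwa [hWQ] at this)
  exact ⟨hLs, fun hle => hLs (hLsM.trans hle)⟩

end Cfsg.Agent.S2846
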