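import Cfsg.Statements.S2848
import Cfsg.Agent.Lib.LocalEvenA.Large2

set_option autoImplicit false
open Cfsg

namespace Cfsg.Agent.S2848

/-- Standing hypotheses: G a finite group, S a Sylow p-subgroup, Q a nontrivial large p-subgroup of G contained in S (C_G(Q) ≤ Q and N_G(U) ≤ N_G(Q) for all nontrivial U ≤ C_G(Q)), and M a subgroup containing S with the basic property (M ∈ 𝔐_G(S)); Y_M denotes the largest p-reduced normal subgroup of M and M† = M·C_G(Y_M). Then O_p(M) is a weakly closed subgroup of M† (for p): it is the only M†-conjugate of itself inside some Sylow p-subgroup of M† containing it. -/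
theorem result {G : Type*} [Group G] [Finite G] {p : ℕ} [Fact p.Prime] (S : Sylow p G) (Q : Subgroup G) (hQp : IsPGroup p ↥Q) (hQ1 : Q ≠ ⊥) (hQS : Q ≤ (S : Subgroup G)) (hQ : Cfsg.IsLarge Q) (M : Subgroup G) (hSM : (S : Subgroup G) ≤ M) (hM : Cfsg.IsInFrakM p M) : Cfsg.IsWeaklyClosedSubgroup p (((Cfsg.pCoreOf p M)).subgroupOf (M ⊔ Subgroup.centralizer (((Cfsg.largestPReducedOf p M) : Subgroup G) : Set G))) := by
  set K := M ⊔ Subgroup.centralizer ((largestPReducedOf p M : Subgroup G) : Set G)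
  have hPK : pCoreOf p M ≤ K := (LocalEvenA.pCoreOf_le' p M).trans le_sup_left
  refine LocalEvenA.wc_of_normalizer ((LocalEvenA.pCoreOf_isPGroup' p M).of_equiv
    (Subgroup.subgroupOfEquivOfLe hPK).symm) fun R hR hQR n hn => ?_
  have h := LocalEvenA.wc_pCoreOf_dagger S hSM hM.2.2.2.2.1 (hR.map K.subtype)
    (fun x hx => ⟨⟨x, hPK hx⟩, hQR hx, rfl⟩)
    (⟨n.2, Subgroup.le_normalizer_map K.subtype ⟨n, hn, rfl⟩⟩ :
      (n : G) ∈ K ⊓ Subgroup.normalizer ((R.map K.subtype : Subgroup G) : Set G))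
  rw [Subgroup.mem_normalizer_iff]
  exact fun y => Subgroup.mem_normalizer_iff.1 h y

end Cfsg.Agent.S2848
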