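import Cfsg.Statements.S2850
import Cfsg.Agent.Lib.LocalEvenA.Asym

set_option autoImplicit false
open Cfsg

namespace Cfsg.Agent.S2850

/-- Standing hypotheses: G a finite group, S a Sylow p-subgroup, Q a nontrivial large p-subgroup of G contained in S (C_G(Q) ≤ Q and N_G(U) ≤ N_G(Q) for all nontrivial U ≤ C_G(Q)), and M a subgroup containing S with the basic property (M ∈ 𝔐_G(S)); Y_M denotes the largest p-reduced normal subgroup of M and M† = M·C_G(Y_M). Suppose Y_M is asymmetric in G. Then N_G(L) ≤ N_G(O_p(M)) ≤ M† for every p-subgroup L containing O_p(M); O_p(M) is a weakly closed subgroup of G; for every subgroup L containing O_p(M), L ∩ M† contains a Sylow p-subgroup of L; and two elements of Y_M conjugate in G are conjugate in M. -/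
theorem result {G : Type*} [Group G] [Finite G] {p : ℕ} [Fact p.Prime] (S : Sylow p G) (Q : Subgroup G) (hQp : IsPGroup p ↥Q) (hQ1 : Q ≠ ⊥) (hQS : Q ≤ (S : Subgroup G)) (hQ : Cfsg.IsLarge Q) (M : Subgroup G) (hSM : (S : Subgroup G) ≤ M) (hM : Cfsg.IsInFrakM p M) (hasym : ¬ Cfsg.IsSymmetricIn (Cfsg.largestPReducedOf p M)) : (∀ L : Subgroup G, IsPGroup p ↥L → (Cfsg.pCoreOf p M) ≤ L → Subgroup.normalizer ((L : Subgroup G) : Set G) ≤ Subgroup.normalizer (((Cfsg.pCoreOf p M) : Subgroup G) : Set G) ∧ Subgroup.normalizer (((Cfsg.pCoreOf p M) : Subgroup G) : Set G) ≤ (M ⊔ Subgroup.centralizer (((Cfsg.largestPReducedOf p M) : Subgroup G) : Set G))) ∧ Cfsg.IsWeaklyClosedSubgroup p (Cfsg.pCoreOf p M) ∧ (∀ L : Subgroup G, (Cfsg.pCoreOf p M) ≤ L → Cfsg.IsParabolic p ((L ⊓ (M ⊔ Subgroup.centralizer (((Cfsg.largestPReducedOf p M) : Subgroup G) : Set G))).subgroupOf L)) ∧ (∀ x ∈ (Cfsg.largestPReducedOf p M), ∀ g : G, g * x * g⁻¹ ∈ (Cfsg.largestPReducedOf p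 M) → ∃ m ∈ M, m * x * m⁻¹ = g * x * g⁻¹) := by
  have hS : (S : Subgroup G) ≠ ⊥ := ne_bot_of_le_ne_bot hQ1 hQS
  set D := M ⊔ Subgroup.centralizer ((largestPReducedOf p M : Subgroup G) : Set G) with hD
  have hP : IsPGroup p ↥(pCoreOf p M) := LocalEvenA.pCoreOf_isPGroup' p M
  have hPD : Subgroup.normalizer ((pCoreOf p M : Subgroup G) : Set G) ≤ D :=
    LocalEvenA.asym_normalizer_le hQp hQ S hS hSM hM hasym hP le_rfl
      ((LocalEvenA.pCoreOf_le' p M).trans le_sup_left)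
  have key : ∀ R : Subgroup G, IsPGroup p R → pCoreOf p M ≤ R →
      Subgroup.normalizer (R : Set G) ≤ Subgroup.normalizer ((pCoreOf p M : Subgroup G) : Set G) :=
    fun R hR hPR => LocalEvenA.asym_normalizer_le_normalizer hQp hQ S hS hSM hM hasym hR hPR
  have hwc := LocalEvenA.wc_of_normalizer hP key
  refine ⟨fun L hL hPL => ⟨key L hL hPL, hPD⟩, hwc, fun L hPL => ?_, fun x hx g hgx => ?_⟩
  · obtain ⟨T, hT⟩ := (hP.comap_subtype (K := L)).exists_le_sylow
    refine ⟨T, fun t ht => ⟨t.2, hPD (key _ (T.2.map L.subtype)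
      (fun y hy => ⟨⟨y, hPL hy⟩, hT hy, rfl⟩) (Subgroup.le_normalizer ⟨t, ht, rfl⟩))⟩⟩
  · have hPC := LocalEvenA.pCoreOf_le_centralizer_pReducedOf (p := p) M
    have hK : pCoreOf p M ≤ Subgroup.centralizer ({x} : Set G) := fun y hy =>
      Subgroup.mem_centralizer_singleton_iff.2 (hPC hy x hx).symm
    have hg : LocalEvenA.cj g⁻¹ (pCoreOf p M) ≤ Subgroup.centralizer ({x} : Set G) := by
      intro y hy
      rw [LocalEvenA.mem_cj, inv_inv] at hy
      have e := congrArg (fun z => g⁻¹ * z * g) (hPC hy _ hgx)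
      simp only [mul_assoc, inv_mul_cancel_left, inv_mul_cancel, mul_one] at e
      exact Subgroup.mem_centralizer_singleton_iff.2 e.symm
    obtain ⟨k, hk, hkP⟩ := LocalEvenA.wc_fusion hP hwc hK hg
    have hgk : g * k ∈ D := hPD (LocalEvenA.mem_normalizer_iff_cj.2 (by
      rw [← LocalEvenA.cj_cj, ← hkP, LocalEvenA.cj_cj, mul_inv_cancel, LocalEvenA.cj_one]))
    rw [hD, sup_comm] at hgk
    obtain ⟨c, hc, m, hm, e⟩ := (Basics.mem_sup_of_le_normalizer
      ((LocalEvenA.le_normalizer_pReducedOf M).trans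
        (LocalEvenA.normalizer_le_normalizer_centralizer _))).1 hgk
    have hmx : m * x * m⁻¹ ∈ largestPReducedOf p M :=
      (Subgroup.mem_normalizer_iff.1 (LocalEvenA.le_normalizer_pReducedOf M hm) x).1 hx
    have hkx : k * x = x * k := Subgroup.mem_centralizer_singleton_iff.1 hk
    refine ⟨m, hm, ?_⟩
    calc m * x * m⁻¹ = c * (m * x * m⁻¹) * c⁻¹ := by
          rw [← hc _ hmx]; group
      _ = (c * m) * x * (c * m)⁻¹ := by group
      _ = g * x * g⁻¹ := by
          rw [← e, mul_assoc g k x, hkx]; group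

end Cfsg.Agent.S2850
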