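import Cfsg.Statements.S2851
import Cfsg.Agent.Lib.LocalEvenA.FStarAct

set_option autoImplicit false
open Cfsg

namespace Cfsg.Agent.S2851

/-- Standing hypotheses: G a finite group, S a Sylow p-subgroup, Q a nontrivial large p-subgroup of G contained in S, M a subgroup containing S with the basic property (M ∈ 𝔐_G(S)); Y_M the largest p-reduced normal subgroup of M and M† = M·C_G(Y_M). Let F be the preimage in M† of the generalized Fitting subgroup of M†/C_{M†}(Y_M). If Y_M is asymmetric in G and H is a subgroup of characteristic p containing F, then Y_M ≤ Y_H. -/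
theorem result {G : Type*} [Group G] [Finite G] {p : ℕ} [Fact p.Prime] (S : Sylow p G) (Q : Subgroup G) (hQp : IsPGroup p ↥Q) (hQ1 : Q ≠ ⊥) (hQS : Q ≤ (S : Subgroup G)) (hQ : Cfsg.IsLarge Q) (M : Subgroup G) (hSM : (S : Subgroup G) ≤ M) (hM : Cfsg.IsInFrakM p M) (hasym : ¬ Cfsg.IsSymmetricIn (Cfsg.largestPReducedOf p M)) [hn : ((Subgroup.centralizer (((Cfsg.largestPReducedOf p M) : Subgroup G) : Set G)).subgroupOf (M ⊔ Subgroup.centralizer (((Cfsg.largestPReducedOf p M) : Subgroup G) : Set G))).Normal] (F : Subgroup G) (hF : F = ((Cfsg.generalizedFittingSubgroup (↥(M ⊔ Subgroup.centralizer (((Cfsg.largestPReducedOf p M) : Subgroup G) : Set G)) ⧸ (Subgroup.centralizer (((Cfsg.largestPReducedOf p M) : Subgroup G) : Set G)).subgroupOf (M ⊔ Subgroup.centralizer (((Cfsg.largestPReducedOf p M) : Subgroup G) : Set G)))).comap (QuotientGroup.mk' ((Subgroup.centralizer (((Cfsg.largestPReducedOf p M) : Subgroup G) : Set G)).subgroupOf (M ⊔ Subgroup.centralizer (((Cfsg.largestPReducedOf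 p M) : Subgroup G) : Set G))))).map ((M ⊔ Subgroup.centralizer (((Cfsg.largestPReducedOf p M) : Subgroup G) : Set G))).subtype) (H : Subgroup G) (hFH : F ≤ H) (hH : Subgroup.centralizer (Cfsg.pCore p ↥H : Set ↥H) ≤ Cfsg.pCore p ↥H) : (Cfsg.largestPReducedOf p M) ≤ Cfsg.largestPReducedOf p H := by
  set Y := largestPReducedOf p M with hYdef
  set C := Subgroup.centralizer ((Y : Subgroup G) : Set G) with hCdef
  set D := M ⊔ C with hDdef
  set P := pCoreOf p M with hPdef
  have hS : (S : Subgroup G) ≠ ⊥ := ne_bot_of_le_ne_bot hQ1 hQS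
  have key : ∀ R : Subgroup G, IsPGroup p R → P ≤ R →
      Subgroup.normalizer (R : Set G) ≤ Subgroup.normalizer ((P : Subgroup G) : Set G) :=
    fun R hR hPR => LocalEvenA.asym_normalizer_le_normalizer hQp hQ S hS hSM hM hasym hR hPR
  have hPD : Subgroup.normalizer ((P : Subgroup G) : Set G) ≤ D :=
    LocalEvenA.asym_normalizer_le hQp hQ S hS hSM hM hasym (LocalEvenA.pCoreOf_isPGroup' p M) le_rfl
      ((LocalEvenA.pCoreOf_le' p M).trans le_sup_left)
  have hcore : pCore p (↥D ⧸ C.subgroupOf D) = ⊥ := by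
    have hY : largestPReducedOf p D = Y := hM.2.2.2.1.symm
    exact LocalEvenA.pCore_quotient_pReducedOf D (by rw [hY])
  have hCF : C ≤ F := fun c hc => by
    rw [hF]
    refine ⟨⟨c, Subgroup.mem_sup_right hc⟩, ?_, rfl⟩
    show QuotientGroup.mk' _ _ ∈ generalizedFittingSubgroup _
    rw [QuotientGroup.mk'_apply, (QuotientGroup.eq_one_iff _).2 (show (⟨c, Subgroup.mem_sup_right hc⟩ : D) ∈ C.subgroupOf D from hc)]
    exact one_mem _
  have hPC : P ≤ C := LocalEvenA.pCoreOf_le_centralizer_pReducedOf M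
  have hPH : P ≤ H := (hPC.trans hCF).trans hFH
  have hH' := (LocalEvenA.charP_iff p H).1 hH
  have hOp := LocalEvenA.pCoreOf_isPGroup' p H
  have hHn := LocalEvenA.le_normalizer_pCoreOf p H
  have hOD : pCoreOf p H ≤ D := by
    have hR : IsPGroup p ↥(P ⊔ pCoreOf p H) :=
      (LocalEvenA.pCoreOf_isPGroup' p M).to_sup_of_normal_right' hOp (hPH.trans hHn)
    exact (le_sup_right.trans (Subgroup.le_normalizer.trans (key _ hR le_sup_left))).trans hPD
  have hOC : pCoreOf p H ≤ C :=
    LocalEvenA.le_of_fStar_normalizes le_sup_right hF hcore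
      (fun d hd => by
        obtain ⟨k, hk⟩ := hOp ⟨d, hd⟩
        exact ⟨k, by rw [show d ^ p ^ k = 1 from congrArg Subtype.val hk]; exact C.one_mem⟩)
      hOD (hFH.trans hHn)
  obtain ⟨T, hT⟩ := ((LocalEvenA.pCoreOf_isPGroup' p M).comap_subtype (K := H)).exists_le_sylow
  have hTP : P ≤ (T : Subgroup H).map H.subtype := fun y hy => ⟨⟨y, hPH hy⟩, hT hy, rfl⟩
  have hTD : (T : Subgroup H).map H.subtype ≤ D :=
    (Subgroup.le_normalizer.trans (key _ (T.2.map _) hTP)).trans hPD
  refine LocalEvenA.le_pReducedOf_of_closure' T hH' (LocalEvenA.pReducedOf_elemAb M)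
    ((LocalEvenA.pReducedOf_le_pCoreOf M).trans hPH) hOC fun X hXH hX hpow => ?_
  have hXC : X ⊓ D ≤ C :=
    LocalEvenA.le_of_fStar_normalizes le_sup_right hF hcore (fun d hd => hpow d hd.1) inf_le_right
      (LocalEvenA.le_normalizer_inf (hFH.trans hX)
        ((hF.trans_le (Subgroup.map_subtype_le _)).trans Subgroup.le_normalizer))
  exact (inf_le_inf_left X hTD).trans hXC

end Cfsg.Agent.S2851
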