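import Cfsg.Statements.S2853
import Cfsg.Agent.Lib.LocalEvenA.FrakH2

set_option autoImplicit false
open Cfsg

namespace Cfsg.Agent.S2853

/-- Standing hypotheses: G a finite group, S a Sylow p-subgroup, Q a nontrivial large p-subgroup of G contained in S, M a subgroup containing S with the basic property (M ∈ 𝔐_G(S)); Y_M the largest p-reduced normal subgroup of M and M† = M·C_G(Y_M). Suppose Y_M is char-p-tall and asymmetric in G and H ∈ ℌ_G(O_p(M)). Then every Sylow p-subgroup of H ∩ M† is a Sylow p-subgroup of H; O_p(H) normalizes O_p(M) and Y_M; O^p(H) = [O^p(H), Y_M] and H = O^p(H)·O_p(M); O^p(H)·Y_M is the normal closure of Y_M in H; and H is the normal closure of O_p(M) in H. Here O^p(H) is the subgroup generated by the elements of H of order prime to p. -/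
theorem result {G : Type*} [Group G] [Finite G] {p : ℕ} [Fact p.Prime] (S : Sylow p G) (Q : Subgroup G) (hQp : IsPGroup p ↥Q) (hQ1 : Q ≠ ⊥) (hQS : Q ≤ (S : Subgroup G)) (hQ : Cfsg.IsLarge Q) (M : Subgroup G) (hSM : (S : Subgroup G) ≤ M) (hM : Cfsg.IsInFrakM p M) (htall : Cfsg.IsCharPTall p (Cfsg.largestPReducedOf p M)) (hasym : ¬ Cfsg.IsSymmetricIn (Cfsg.largestPReducedOf p M)) (H : Subgroup G) (hH : Cfsg.IsInFrakH p M H) (R : Subgroup G) (hR : R = (Cfsg.pResidual p ↥H).map H.subtype) : (∀ T : Sylow p ↥(H ⊓ (M ⊔ Subgroup.centralizer (((Cfsg.largestPReducedOf p M) : Subgroup G) : Set G))), ∃ P : Sylow p ↥H, ((P : Subgroup ↥H).map H.subtype) = (T : Subgroup ↥(H ⊓ (M ⊔ Subgroup.centralizer (((Cfsg.largestPReducedOf p M) : Subgroup G) : Set G)))).map (H ⊓ (M ⊔ Subgroup.centralizer (((Cfsg.largestPReducedOf p M) : Subgroup G) : Set G))).subtype) ∧ Cfsg.pCoreOf p H ≤ Subgroup.normalizer (((Cfsg.pCoreOf p M) : Subgroup G) : Set G) ⊓ Subgroup.normalizer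 (((Cfsg.largestPReducedOf p M) : Subgroup G) : Set G) ∧ ⁅R, (Cfsg.largestPReducedOf p M)⁆ = R ∧ R ⊔ (Cfsg.pCoreOf p M) = H ∧ R ⊔ (Cfsg.largestPReducedOf p M) = (Subgroup.normalClosure ((((Cfsg.largestPReducedOf p M)).subgroupOf H : Subgroup ↥H) : Set ↥H)).map H.subtype ∧ (Subgroup.normalClosure ((((Cfsg.pCoreOf p M)).subgroupOf H : Subgroup ↥H) : Set ↥H)).map H.subtype = H := by
  subst hR
  obtain ⟨hc, hRP, hcom, hN⟩ := LocalEvenA.frakH_structure hH
  have hS : (S : Subgroup G) ≠ ⊥ := ne_bot_of_le_ne_bot hQ1 hQS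
  set P := pCoreOf p M with hPdef
  set D := M ⊔ Subgroup.centralizer ((largestPReducedOf p M : Subgroup G) : Set G) with hDdef
  have hPp : IsPGroup p ↥P := LocalEvenA.pCoreOf_isPGroup' p M
  have hPH : P ≤ H := hH.2.1
  have key : ∀ R : Subgroup G, IsPGroup p R → P ≤ R → R ≤ Subgroup.normalizer (P : Set G) :=
    fun R hR hPR => Subgroup.le_normalizer.trans
      (LocalEvenA.asym_normalizer_le_normalizer hQp hQ S hS hSM hM hasym hR hPR)
  have hPD : Subgroup.normalizer (P : Set G) ≤ D :=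
    LocalEvenA.asym_normalizer_le hQp hQ S hS hSM hM hasym hPp le_rfl
      ((LocalEvenA.pCoreOf_le' p M).trans le_sup_left)
  have hOP : pCoreOf p H ≤ Subgroup.normalizer (P : Set G) := le_sup_right.trans (key _
    (hPp.to_sup_of_normal_right' (LocalEvenA.pCoreOf_isPGroup' p H)
      (hPH.trans (LocalEvenA.le_normalizer_pCoreOf p H))) le_sup_left)
  refine ⟨fun T => ?_, le_inf hOP ((hOP.trans hPD).trans (LocalEvenA.dagger_le_normalizer M)),
    hcom, hRP, hN.trans (LocalEvenA.conjSup_eq_normalClosure ((LocalEvenA.pReducedOf_le_pCoreOf M).trans hPH)).symm,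
    (LocalEvenA.conjSup_eq_normalClosure hPH).trans hc⟩
  obtain ⟨T1, hT1⟩ := (hPp.comap_subtype (K := H)).exists_le_sylow
  set W := (T1 : Subgroup H).map H.subtype with hW
  have hPW : P ≤ W := fun y hy => ⟨⟨y, hPH hy⟩, hT1 hy, rfl⟩
  have hWle : W ≤ H ⊓ D := le_inf (Subgroup.map_subtype_le _) ((key _ (T1.2.map _) hPW).trans hPD)
  set T' := (T : Subgroup ↥(H ⊓ D)).map (H ⊓ D).subtype with hT'
  have hT'H : T' ≤ H := (Subgroup.map_subtype_le _).trans inf_le_left
  have hcardT : Nat.card T' = Nat.card (T : Subgroup ↥(H ⊓ D)) :=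
    (Nat.card_congr ((T : Subgroup ↥(H ⊓ D)).equivMapOfInjective _ (Subgroup.subtype_injective _)).toEquiv).symm
  have hcardW : Nat.card W = Nat.card (T1 : Subgroup H) :=
    (Nat.card_congr ((T1 : Subgroup H).equivMapOfInjective _ (Subgroup.subtype_injective _)).toEquiv).symm
  have h1 : Nat.card W ≤ Nat.card (T : Subgroup ↥(H ⊓ D)) := by
    obtain ⟨T2, hT2⟩ := ((T1.2.map H.subtype).comap_subtype (K := H ⊓ D)).exists_le_sylow
    rw [T.card_eq_multiplicity, ← T2.card_eq_multiplicity,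
      ← Nat.card_congr (Subgroup.subgroupOfEquivOfLe hWle).toEquiv]
    exact Subgroup.card_le_of_le hT2
  obtain ⟨T3, hT3⟩ := ((T.2.map (H ⊓ D).subtype).comap_subtype (K := H)).exists_le_sylow
  refine ⟨T3, Eq.symm ?_⟩
  refine Subgroup.eq_of_le_of_card_ge (fun x hx => ⟨⟨x, hT'H hx⟩, hT3 hx, rfl⟩) ?_
  rw [hcardT, ← Nat.card_congr ((T3 : Subgroup H).equivMapOfInjective _ (Subgroup.subtype_injective _)).toEquiv,
    T3.card_eq_multiplicity, ← T1.card_eq_multiplicity, ← hcardW]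
  exact h1

end Cfsg.Agent.S2853
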