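import Cfsg.Statements.S2854
import Cfsg.Agent.Lib.LocalEvenA.FrakH2

set_option autoImplicit false
open Cfsg

namespace Cfsg.Agent.S2854

/-- Standing hypotheses: G a finite group, S a Sylow p-subgroup, Q a nontrivial large p-subgroup of G contained in S, M a subgroup containing S with the basic property (M ∈ 𝔐_G(S)); Y_M the largest p-reduced normal subgroup of M and M† = M·C_G(Y_M). Suppose Y_M is asymmetric in G, H ∈ ℌ_G(O_p(M)), and H ≤ N_G(gQg⁻¹) for some g ∈ G. Then gQg⁻¹ ≤ O_p(H·gQg⁻¹) ≤ N_G(O_p(M)) ≤ N_G(Y_M) = M†; H is normal in H·gQg⁻¹ with O^p(H) = O^p(H·gQg⁻¹); and H·gQg⁻¹ is p-irreducible. -/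
theorem result {G : Type*} [Group G] [Finite G] {p : ℕ} [Fact p.Prime] (S : Sylow p G) (Q : Subgroup G) (hQp : IsPGroup p ↥Q) (hQ1 : Q ≠ ⊥) (hQS : Q ≤ (S : Subgroup G)) (hQ : Cfsg.IsLarge Q) (M : Subgroup G) (hSM : (S : Subgroup G) ≤ M) (hM : Cfsg.IsInFrakM p M) (hasym : ¬ Cfsg.IsSymmetricIn (Cfsg.largestPReducedOf p M)) (H : Subgroup G) (hH : Cfsg.IsInFrakH p M H) (g : G) (hHQ : H ≤ Subgroup.normalizer ((((Q : Subgroup G).map (MulAut.conj (g : G)).toMonoidHom) : Subgroup G) : Set G)) : ((Q : Subgroup G).map (MulAut.conj (g : G)).toMonoidHom) ≤ Cfsg.pCoreOf p (H ⊔ ((Q : Subgroup G).map (MulAut.conj (g : G)).toMonoidHom)) ∧ Cfsg.pCoreOf p (H ⊔ ((Q : Subgroup G).map (MulAut.conj (g : G)).toMonoidHom)) ≤ Subgroup.normalizer (((Cfsg.pCoreOf p M) : Subgroup G) : Set G) ∧ Subgroup.normalizer (((Cfsg.pCoreOf p M) : Subgroup G) : Set G) ≤ Subgroup.normalizer (((Cfsg.largestPReducedOf p M) : Subgroup G) : Set G) ∧ Subgroup.normalizer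 (((Cfsg.largestPReducedOf p M) : Subgroup G) : Set G) = (M ⊔ Subgroup.centralizer (((Cfsg.largestPReducedOf p M) : Subgroup G) : Set G)) ∧ (H.subgroupOf (H ⊔ ((Q : Subgroup G).map (MulAut.conj (g : G)).toMonoidHom))).Normal ∧ (Cfsg.pResidual p ↥H).map H.subtype = (Cfsg.pResidual p ↥(H ⊔ ((Q : Subgroup G).map (MulAut.conj (g : G)).toMonoidHom))).map (H ⊔ ((Q : Subgroup G).map (MulAut.conj (g : G)).toMonoidHom)).subtype ∧ Cfsg.IsPIrreducible p ↥(H ⊔ ((Q : Subgroup G).map (MulAut.conj (g : G)).toMonoidHom)) := by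
  set Qg := (Q : Subgroup G).map (MulAut.conj (g : G)).toMonoidHom with hQg
  set P := pCoreOf p M with hPdef
  have hS : (S : Subgroup G) ≠ ⊥ := ne_bot_of_le_ne_bot hQ1 hQS
  have hPp : IsPGroup p ↥P := LocalEvenA.pCoreOf_isPGroup' p M
  have hPX : P ≤ H ⊔ Qg := hH.2.1.trans le_sup_left
  have hOP : pCoreOf p (H ⊔ Qg) ≤ Subgroup.normalizer (P : Set G) :=
    le_sup_right.trans (Subgroup.le_normalizer.trans
      (LocalEvenA.asym_normalizer_le_normalizer hQp hQ S hS hSM hM hasym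
        (hPp.to_sup_of_normal_right' (LocalEvenA.pCoreOf_isPGroup' p _)
          (hPX.trans (LocalEvenA.le_normalizer_pCoreOf p _))) le_sup_left))
  have hQgp : IsPGroup p ↥Qg := hQp.map _
  have hAO : Qg ≤ pCoreOf p (H ⊔ Qg) :=
    LocalEvenA.le_pCoreOf le_sup_right (sup_le hHQ Subgroup.le_normalizer) hQgp
  obtain ⟨-, hn, hres, hirr⟩ := LocalEvenA.frakH_sup hH hQgp hHQ (hAO.trans hOP)
  have hPD := LocalEvenA.asym_normalizer_le hQp hQ S hS hSM hM hasym hPp le_rfl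
    ((LocalEvenA.pCoreOf_le' p M).trans le_sup_left)
  have hY1 := LocalEvenA.pReducedOf_ne_bot S hS hSM
    ((LocalEvenA.charP_iff p M).2 (inf_le_right.trans hM.1.2))
  have hne := ne_bot_of_le_ne_bot hY1 (LocalEvenA.le_pCoreOf (p := p)
    (H := Subgroup.normalizer ((largestPReducedOf p M : Subgroup G) : Set G)) Subgroup.le_normalizer le_rfl
    (LocalEvenA.elemAb_isPGroup (LocalEvenA.pReducedOf_elemAb M)))
  refine ⟨hAO, hOP, hPD.trans (LocalEvenA.dagger_le_normalizer M),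
    le_antisymm (LocalEvenA.le_dagger_of_mem hM (LocalEvenA.le_normalizer_pReducedOf M) ⟨LocalEvenA.pCore_ne_bot_of hne,
      LocalEvenA.large_parabolic hQp hQ S (hSM.trans (LocalEvenA.le_normalizer_pReducedOf M)) hne⟩)
      (LocalEvenA.dagger_le_normalizer M), hn, hres, hirr⟩

end Cfsg.Agent.S2854
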