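import Cfsg.Statements.S2855
import Cfsg.Agent.Lib.LocalEvenA.PIrred
import Cfsg.Agent.Lib.LocalEvenA.CharP

set_option autoImplicit false
open Cfsg

namespace Cfsg.Agent.S2855

open Cfsg.Agent.LocalEvenA
open scoped commutatorElement

section
variable {H : Type*} [Group H] [Finite H] {p : ℕ} [Fact p.Prime]

abbrev Cj (g : H) (X : Subgroup H) : Subgroup H := X.map (MulAut.conj g).toMonoidHom

theorem mem_Cj {g x : H} {X : Subgroup H} : x ∈ Cj g X ↔ g⁻¹ * x * g ∈ X := by
  constructor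
  · rintro ⟨y, hy, rfl⟩
    simpa [mul_assoc] using hy
  · intro h
    exact ⟨_, h, by simp [mul_assoc]⟩

theorem Cj_Cj (a b : H) (X : Subgroup H) : Cj a (Cj b X) = Cj (a * b) X := by
  ext y
  simp only [mem_Cj, mul_inv_rev, mul_assoc]

theorem Cj_one (X : Subgroup H) : Cj 1 X = X := by ext y; simp [mem_Cj]

theorem Cj_of_normalizer {g : H} {X : Subgroup H} (hg : g ∈ Subgroup.normalizer (X : Set H)) : Cj g X = X := by
  ext y
  rw [mem_Cj]
  exact (Subgroup.mem_normalizer_iff''.mp hg y).symm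

theorem Cj_normal {N : Subgroup H} [hN : N.Normal] (g : H) : Cj g N = N :=
  Cj_of_normalizer (by rw [Subgroup.normalizer_eq_top]; trivial)

theorem eq_one_of_pow_comm {A : Subgroup H} {a : H} {k : ℕ} (ha : a ^ p ^ k = 1) (haA : a ∈ A)
    (hc : a ∈ Subgroup.centralizer (A : Set H)) {R : Subgroup H} [R.Normal] (hAR : A ≤ R)
    (hn : R ≤ Subgroup.normalizer (A : Set H)) (hO : Cfsg.pCore p H = ⊥) : a = 1 := by
  have h1 : ((Subgroup.zpowers a).subgroupOf A).Normal := by
    refine ⟨fun n hn' g => ?_⟩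
    rw [Subgroup.mem_subgroupOf] at hn' ⊢
    have hcn : (n : H) ∈ Subgroup.centralizer (A : Set H) := Subgroup.zpowers_le.mpr hc hn'
    rw [show ((g * n * g⁻¹ : A) : H) = g * n * (g : H)⁻¹ from rfl,
      Subgroup.mem_centralizer_iff.mp hcn g g.2, mul_inv_cancel_right]
    exact hn'
  have hAs : A.IsSubnormal :=
    Subgroup.IsSubnormal.step _ _ hAR (Subgroup.Normal.isSubnormal (inferInstance : R.Normal))
      ((Subgroup.normal_subgroupOf_iff_le_normalizer hAR).mpr hn)
  have hzs : (Subgroup.zpowers a).IsSubnormal := Subgroup.IsSubnormal.step _ _ (Subgroup.zpowers_le.mpr haA) hAs h1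
  obtain ⟨i, -, hi⟩ := (Nat.dvd_prime_pow Fact.out).1 (orderOf_dvd_of_pow_eq_one ha)
  have := subnormal_le_pCore hzs (IsPGroup.of_card (p := p) (n := i) (by rw [Nat.card_zpowers, hi]))
    (Subgroup.mem_zpowers a)
  rwa [hO, Subgroup.mem_bot] at this

/-- The abstract situation modulo the `p`-core. -/
structure Sit (p : ℕ) (R : Subgroup H) (𝒜 : Set (Subgroup H)) : Prop where
  nor : R.Normal
  norA : ∀ A ∈ 𝒜, R ≤ Subgroup.normalizer (A : Set H)
  sup : R = sSup 𝒜
  res : Cfsg.pResidual p H ≤ R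
  core : Cfsg.pCore p H = ⊥
  tr : ∀ A ∈ 𝒜, ∀ B ∈ 𝒜, ∃ h : H, B = Cj h A
  si : ∀ A ∈ 𝒜, ∀ N : Subgroup H, N ≤ A → A ≤ Subgroup.normalizer (N : Set H) → ⁅N, A⁆ ≠ ⊥ →
    ∀ a ∈ A, (orderOf a).Coprime p → a ∈ N
  notc : ∀ A ∈ 𝒜, ¬ PEltP p A

variable {R : Subgroup H} {𝒜 : Set (Subgroup H)}

theorem Sit.le_R (h : Sit p R 𝒜) {A : Subgroup H} (hA : A ∈ 𝒜) : A ≤ R := h.sup ▸ le_sSup hA

theorem Sit.whole (h : Sit p R 𝒜) {A : Subgroup H} (hA : A ∈ 𝒜) {N : Subgroup H} (hNA : N ≤ A)
    (hn : A ≤ Subgroup.normalizer (N : Set H)) (hp : ∀ a ∈ A, (∃ k, a ^ p ^ k = 1) → a ∈ N) : A ≤ N := by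
  intro x hx
  obtain ⟨a, b, hab, hak, hb, ha', hb'⟩ := exists_pPart (p := p) (isOfFinOrder_of_finite x)
  have haA := Subgroup.zpowers_le.mpr hx ha'
  have hbA := Subgroup.zpowers_le.mpr hx hb'
  rw [← hab]
  refine mul_mem (hp a haA hak) (h.si A hA N hNA hn ?_ b hbA hb)
  intro hbot
  refine h.notc A hA ?_
  have hcomm : ∀ u ∈ {u : H | u ∈ A ∧ ∃ k : ℕ, orderOf u = p ^ k},
      ∀ v ∈ {u : H | u ∈ A ∧ ∃ k : ℕ, orderOf u = p ^ k}, u * v = v * u := by
    rintro u ⟨huA, k, hk⟩ v ⟨hvA, -⟩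
    have huN : u ∈ N := hp u huA ⟨k, hk ▸ pow_orderOf_eq_one u⟩
    have := Subgroup.commutator_mem_commutator huN hvA
    rw [hbot, Subgroup.mem_bot] at this
    exact commutatorElement_eq_one_iff_mul_comm.mp this
  haveI := Subgroup.isMulCommutative_closure hcomm
  show IsPGroup p ↥(Cfsg.pElementClosure p A)
  intro w
  obtain ⟨w, hw⟩ := w
  suffices ∃ k, w ^ p ^ k = 1 by
    obtain ⟨k, hk⟩ := this
    exact ⟨k, Subtype.ext hk⟩
  induction hw using Subgroup.closure_induction with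
  | mem u hu => exact ⟨hu.2.choose, hu.2.choose_spec ▸ pow_orderOf_eq_one u⟩
  | one => exact ⟨0, by simp⟩
  | mul u v hu hv ihu ihv =>
    obtain ⟨k, hk⟩ := ihu
    obtain ⟨l, hl⟩ := ihv
    refine ⟨k + l, ?_⟩
    have hc : Commute u v := congrArg Subtype.val
      ((inferInstance : IsMulCommutative (Subgroup.closure {u : H | u ∈ A ∧ ∃ k : ℕ, orderOf u = p ^ k})).is_comm.comm
        ⟨u, hu⟩ ⟨v, hv⟩)
    rw [hc.mul_pow, pow_add, pow_mul, hk, one_pow, one_mul, mul_comm, pow_mul, hl, one_pow]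
  | inv u _ ih =>
    obtain ⟨k, hk⟩ := ih
    exact ⟨k, by rw [inv_pow, hk, inv_one]⟩

theorem Sit.kill (h : Sit p R 𝒜) {A : Subgroup H} (hA : A ∈ 𝒜) {b : H}
    (hc : ∀ a ∈ A, ∀ a' ∈ A, ⁅a, b⁆ * a' = a' * ⁅a, b⁆)
    (hco : ∀ a ∈ A, (orderOf ⁅a, b⁆).Coprime p) : ∀ a ∈ A, a * b = b * a := by
  have hmul : ∀ a ∈ A, ∀ a' ∈ A, ⁅a * a', b⁆ = ⁅a', b⁆ * ⁅a, b⁆ := by
    intro a ha a' ha'
    rw [show ⁅a * a', b⁆ = a * ⁅a', b⁆ * a⁻¹ * ⁅a, b⁆ by
      simp only [commutatorElement_def]; group]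
    rw [show a * ⁅a', b⁆ = ⁅a', b⁆ * a from (hc a' ha' a ha).symm, mul_inv_cancel_right]
  have hone : ∀ {a : H}, ⁅a, b⁆ = 1 ↔ a * b = b * a := commutatorElement_eq_one_iff_mul_comm
  have hN : A ≤ A ⊓ Subgroup.centralizer ({b} : Set H) := by
    refine h.whole hA inf_le_left ?_ ?_
    · intro g hg
      have key : ∀ g ∈ A, ∀ x ∈ A ⊓ Subgroup.centralizer ({b} : Set H),
          g * x * g⁻¹ ∈ A ⊓ Subgroup.centralizer ({b} : Set H) := by
        rintro g hg x ⟨hxA, hxb⟩
        refine ⟨A.mul_mem (A.mul_mem hg hxA) (A.inv_mem hg), Subgroup.mem_centralizer_singleton_iff.mpr ?_⟩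
        refine hone.mp ?_
        rw [hmul _ (A.mul_mem hg hxA) _ (A.inv_mem hg), hmul g hg x hxA,
          hone.mpr (Subgroup.mem_centralizer_singleton_iff.mp hxb), one_mul,
          ← hmul g hg _ (A.inv_mem hg), mul_inv_cancel]
        exact commutatorElement_one_left b
      rw [Subgroup.mem_normalizer_iff]
      exact fun x => ⟨key g hg x, fun hx => by simpa [mul_assoc] using key g⁻¹ (inv_mem hg) _ hx⟩
    · rintro a ha ⟨k, hk⟩
      refine ⟨ha, Subgroup.mem_centralizer_singleton_iff.mpr (hone.mp ?_)⟩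
      have hpow : ∀ n : ℕ, ⁅a ^ n, b⁆ = ⁅a, b⁆ ^ n := by
        intro n
        induction n with
        | zero => simp
        | succ n ih =>
          rw [pow_succ, hmul _ (A.pow_mem ha n) a ha, ih, ← pow_succ']
      refine eq_one_of_pPow_of_coprime (p := p) (k := k) ?_ (hco a ha)
      rw [← hpow, hk, commutatorElement_one_left]
  exact fun a ha => Subgroup.mem_centralizer_singleton_iff.mp (hN ha).2

theorem Sit.coprime_central (h : Sit p R 𝒜) {A : Subgroup H} (hA : A ∈ 𝒜) {z : H} (hz : z ∈ A)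
    (hc : z ∈ Subgroup.centralizer (A : Set H)) : (orderOf z).Coprime p := by
  haveI := h.nor
  obtain ⟨a, b, hab, ⟨k, hk⟩, hb, ha', -⟩ := exists_pPart (p := p) (isOfFinOrder_of_finite z)
  have := eq_one_of_pow_comm hk (Subgroup.zpowers_le.mpr hz ha') (Subgroup.zpowers_le.mpr hc ha')
    (h.le_R hA) (h.norA A hA) h.core
  rw [this, one_mul] at hab
  exact hab ▸ hb

theorem Sit.dichotomy (h : Sit p R 𝒜) {A B : Subgroup H} (hA : A ∈ 𝒜) (hB : B ∈ 𝒜) :
    (∀ a ∈ A, (orderOf a).Coprime p → a ∈ B) ∨ ⁅A, B⁆ = ⊥ := by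
  have hn : A ≤ Subgroup.normalizer ((A ⊓ B : Subgroup H) : Set H) := fun g hg =>
    Subgroup.inf_normalizer_le_normalizer_inf ⟨Subgroup.le_normalizer hg, h.norA B hB (h.le_R hA hg)⟩
  by_cases hne : ⁅A ⊓ B, A⁆ = ⊥
  · refine Or.inr (le_bot_iff.mp (Subgroup.commutator_le.mpr fun a ha b hb => ?_))
    have hmem : ∀ a ∈ A, ⁅a, b⁆ ∈ A ⊓ B := by
      intro a ha
      refine ⟨?_, ?_⟩
      · rw [show ⁅a, b⁆ = a * (b * a⁻¹ * b⁻¹) by simp only [commutatorElement_def]; group]
        exact A.mul_mem ha ((Subgroup.mem_normalizer_iff.mp (h.norA A hA (h.le_R hB hb)) _).mp (A.inv_mem ha))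
      · rw [show ⁅a, b⁆ = (a * b * a⁻¹) * b⁻¹ from rfl]
        exact B.mul_mem ((Subgroup.mem_normalizer_iff.mp (h.norA B hB (h.le_R hA ha)) _).mp hb) (B.inv_mem hb)
    have hcen : ∀ z ∈ A ⊓ B, z ∈ Subgroup.centralizer (A : Set H) := fun z hz =>
      Subgroup.mem_centralizer_iff.mpr fun w hw => by
        have := Subgroup.commutator_mem_commutator hz hw
        rw [hne, Subgroup.mem_bot] at this
        exact (commutatorElement_eq_one_iff_mul_comm.mp this).symm
    rw [Subgroup.mem_bot, commutatorElement_eq_one_iff_mul_comm]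
    exact h.kill hA (fun a ha a' ha' => (Subgroup.mem_centralizer_iff.mp (hcen _ (hmem a ha)) a' ha').symm)
      (fun a ha => h.coprime_central hA (hmem a ha).1 (hcen _ (hmem a ha))) a ha
  · exact Or.inl fun a ha hco => (h.si A hA _ inf_le_left hn hne a ha hco).2

theorem Sit.irred (h : Sit p R 𝒜) (N : Subgroup H) [N.Normal] (hnc : ¬ PEltP p N) :
    Cfsg.pResidual p H ≤ N := by
  haveI := h.nor
  by_cases hex : ∃ A ∈ 𝒜, ⁅N ⊓ A, A⁆ ≠ ⊥
  · obtain ⟨A, hA, hne⟩ := hex
    have hn : ∀ B ∈ 𝒜, ∀ b ∈ B, (orderOf b).Coprime p → b ∈ N := by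
      intro B hB b hb hco
      obtain ⟨g, rfl⟩ := h.tr A hA B hB
      rw [mem_Cj] at hb
      have hco' : (orderOf (g⁻¹ * b * g)).Coprime p := by
        rwa [show g⁻¹ * b * g = g⁻¹ * b * (g⁻¹)⁻¹ by rw [inv_inv],
          show g⁻¹ * b * (g⁻¹)⁻¹ = (MulAut.conj g⁻¹).toMonoidHom b from rfl,
          orderOf_injective (MulAut.conj g⁻¹).toMonoidHom (MulAut.conj g⁻¹).injective b]
      have := (h.si A hA (N ⊓ A) inf_le_right (fun x hx => Subgroup.inf_normalizer_le_normalizer_inf
        ⟨by rw [Subgroup.normalizer_eq_top]; trivial, Subgroup.le_normalizer hx⟩) hne _ hb hco').1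
      have h2 := (inferInstance : N.Normal).conj_mem _ this g
      rwa [show g * (g⁻¹ * b * g) * g⁻¹ = b by group] at h2
    let q := QuotientGroup.mk' N
    have hq : ∀ B ∈ 𝒜, B.map q ≤ Cfsg.pCore p (H ⧸ N) := by
      intro B hB
      refine subnormal_le_pCore ?_ ?_
      · haveI : (R.map q).Normal := h.nor.map q (QuotientGroup.mk'_surjective N)
        refine Subgroup.IsSubnormal.step _ _ (Subgroup.map_mono (h.le_R hB))
          (Subgroup.Normal.isSubnormal (inferInstance : (R.map q).Normal)) ?_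
        rw [Subgroup.normal_subgroupOf_iff_le_normalizer (Subgroup.map_mono (h.le_R hB))]
        exact (Subgroup.map_mono (h.norA B hB)).trans (Subgroup.le_normalizer_map q)
      · rintro ⟨_, x, hx, rfl⟩
        obtain ⟨a, b, hab, ⟨k, hk⟩, hb, -, hb'⟩ := exists_pPart (p := p) (isOfFinOrder_of_finite x)
        refine ⟨k, Subtype.ext ?_⟩
        have hb1 : q b = 1 := (QuotientGroup.eq_one_iff b).mpr (hn B hB b (Subgroup.zpowers_le.mpr hx hb') hb)
        show q x ^ p ^ k = 1
        rw [← hab, map_mul, hb1, mul_one, ← map_pow, hk, map_one]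
    have hRq : R.map q ≤ Cfsg.pCore p (H ⧸ N) := by
      rw [h.sup, sSup_eq_iSup, Subgroup.map_iSup]
      refine iSup_le fun B => ?_
      rw [Subgroup.map_iSup]
      exact iSup_le fun hB => hq B hB
    intro x hx
    let f : ↥(Cfsg.pResidual p H) →* ↥(Cfsg.pCore p (H ⧸ N)) :=
      (q.comp (Cfsg.pResidual p H).subtype).codRestrict _ fun y => hRq ⟨y.1, h.res y.2, rfl⟩
    have h1 : f ⟨x, hx⟩ = 1 := by
      rw [Cfsg.Agent.Transfer.hom_pResidual_eq_one f (pCore_isPGroup' p _)]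
    exact (QuotientGroup.eq_one_iff x).1 (congrArg Subtype.val h1)
  · exfalso
    push Not at hex
    have hcA : ∀ A ∈ 𝒜, ∀ z ∈ N, z ∈ A → z ∈ Subgroup.centralizer (A : Set H) := fun A hA z hzN hzA =>
      Subgroup.mem_centralizer_iff.mpr fun w hw => by
        have := Subgroup.commutator_mem_commutator (show z ∈ N ⊓ A from ⟨hzN, hzA⟩) hw
        rw [hex A hA, Subgroup.mem_bot] at this
        exact (commutatorElement_eq_one_iff_mul_comm.mp this).symm
    have hcomN : ∀ a : H, ∀ n ∈ N, ⁅a, n⁆ ∈ N := fun a n hn =>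
      N.mul_mem ((inferInstance : N.Normal).conj_mem n hn a) (N.inv_mem hn)
    have hcR : ∀ n : H, (∀ A ∈ 𝒜, ∀ a ∈ A, a * n = n * a) → n ∈ Subgroup.centralizer (R : Set H) := by
      intro n hn
      have : R ≤ Subgroup.centralizer ({n} : Set H) := by
        rw [h.sup]
        exact sSup_le fun A hA a ha => Subgroup.mem_centralizer_singleton_iff.mpr (hn A hA a ha)
      exact Subgroup.mem_centralizer_iff.mpr fun r hr => Subgroup.mem_centralizer_singleton_iff.mp (this hr)
    have hNR : ∀ n ∈ N, n ∈ R → n ∈ Subgroup.centralizer (R : Set H) := by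
      intro n hn hnR
      refine hcR n fun A hA => ?_
      have hm : ∀ a ∈ A, ⁅a, n⁆ ∈ A := fun a ha => by
        rw [show ⁅a, n⁆ = a * (n * a⁻¹ * n⁻¹) by simp only [commutatorElement_def]; group]
        exact A.mul_mem ha ((Subgroup.mem_normalizer_iff.mp (h.norA A hA hnR) _).mp (A.inv_mem ha))
      exact h.kill hA (fun a ha a' ha' =>
          (Subgroup.mem_centralizer_iff.mp (hcA A hA _ (hcomN a n hn) (hm a ha)) a' ha').symm)
        (fun a ha => h.coprime_central hA (hm a ha) (hcA A hA _ (hcomN a n hn) (hm a ha)))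
    have hco : ∀ z ∈ N, z ∈ R → (orderOf z).Coprime p := by
      intro z hz hzR
      obtain ⟨a, b, hab, ⟨k, hk⟩, hb, ha', -⟩ := exists_pPart (p := p) (isOfFinOrder_of_finite z)
      have := eq_one_of_pow_comm hk (Subgroup.zpowers_le.mpr hzR ha')
        (Subgroup.zpowers_le.mpr (hNR z hz hzR) ha') le_rfl Subgroup.le_normalizer h.core
      rw [this, one_mul] at hab
      exact hab ▸ hb
    have hNc : ∀ n ∈ N, n ∈ Subgroup.centralizer (R : Set H) := by
      intro n hn
      refine hcR n fun A hA => ?_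
      have hm : ∀ a ∈ A, ⁅a, n⁆ ∈ R := fun a ha => by
        rw [show ⁅a, n⁆ = a * (n * a⁻¹ * n⁻¹) by simp only [commutatorElement_def]; group]
        exact R.mul_mem (h.le_R hA ha) (h.nor.conj_mem _ (R.inv_mem (h.le_R hA ha)) n)
      exact h.kill hA (fun a ha a' ha' =>
          (Subgroup.mem_centralizer_iff.mp (hNR _ (hcomN a n hn) (hm a ha)) a' (h.le_R hA ha')).symm)
        (fun a ha => hco _ (hcomN a n hn) (hm a ha))
    refine hnc ((isPClosed_iff_pEltP N).mp fun Q => ?_)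
    rw [← Subgroup.normalizer_eq_top_iff, ← top_le_iff, ← Cfsg.Agent.Transfer.pResidual_sup_sylow (p := p) Q]
    refine sup_le ((Subgroup.closure_le _).mpr fun b hb => ?_) Subgroup.le_normalizer
    have hbR : (b : H) ∈ R := h.res (Subgroup.subset_closure (show Nat.Coprime (orderOf (b : H)) p by
      rw [Subgroup.orderOf_coe]; exact hb))
    refine Subgroup.centralizer_le_normalizer _ (Subgroup.mem_centralizer_iff.mpr fun x _ => Subtype.ext ?_)
    exact (Subgroup.mem_centralizer_iff.mp (hNc (x : H) x.2) (b : H) hbR).symm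

end

/-- Let H be a finite group, p a prime, and 𝒦 a nonempty set of subgroups of H permuted transitively by conjugation, with R the subgroup generated by the members of 𝒦. Suppose O^p(H) ≤ R, each E ∈ 𝒦 has E·O_p(H) normal in R·O_p(H), and each E ∈ 𝒦 is p-minimal (generated by the conjugates of a Sylow p-subgroup T_E of E, with T_E in exactly one maximal subgroup of E). Then H is p-minimal in the same sense. If instead each E ∈ 𝒦 is strongly p-irreducible, then H is p-irreducible and, for E, K ∈ 𝒦, either O^p(E·O_p(H)) = O^p(K·O_p(H)) or [E, K] ≤ O_p(H). -/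
theorem result {H : Type*} [Group H] [Finite H] {p : ℕ} [Fact p.Prime] (𝒦 : Set (Subgroup H)) (hne : 𝒦.Nonempty) (hinv : ∀ h : H, ∀ E ∈ 𝒦, E.map (MulAut.conj h).toMonoidHom ∈ 𝒦) (htr : ∀ E ∈ 𝒦, ∀ K ∈ 𝒦, ∃ h : H, K = E.map (MulAut.conj h).toMonoidHom) (hres : Cfsg.pResidual p H ≤ sSup 𝒦) (hnorm : ∀ E ∈ 𝒦, sSup 𝒦 ⊔ Cfsg.pCore p H ≤ Subgroup.normalizer ((E ⊔ Cfsg.pCore p H : Subgroup H) : Set H)) : ((∀ E ∈ 𝒦, ∀ T : Sylow p ↥E, Cfsg.IsMinimalOver (T : Subgroup ↥E)) → ∀ T : Sylow p H, Cfsg.IsMinimalOver (T : Subgroup H)) ∧ ((∀ E ∈ 𝒦, Cfsg.IsStronglyPIrreducible p ↥E) → Cfsg.IsPIrreducible p H ∧ ∀ E ∈ 𝒦, ∀ K ∈ 𝒦, (Cfsg.pResidual p ↥(E ⊔ Cfsg.pCore p H)).map (E ⊔ Cfsg.pCore p H).subtype = (Cfsg.pResidual p ↥(K ⊔ Cfsg.pCore p H)).map (K ⊔ Cfsg.pCore p H).subtype ∨ ⁅E, K⁆ ≤ Cfsg.pCore p H) := by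
  classical
  set R := sSup 𝒦 with hRdef
  set O := Cfsg.pCore p H with hOdef
  haveI hOn : O.Normal := pCore_normal' p H
  have hOp : IsPGroup p ↥O := pCore_isPGroup' p H
  have hEle : ∀ E ∈ 𝒦, E ≤ R := fun E hE => le_sSup hE
  have hRn : R.Normal := ⟨fun n hn g => by
    have : R ≤ R.comap (MulAut.conj g).toMonoidHom := sSup_le fun E hE x hx =>
      le_sSup (hinv g E hE) ⟨x, hx, rfl⟩
    exact this hn⟩
  have hconjA : ∀ (g : H) (E : Subgroup H), Cj g (E ⊔ O) = Cj g E ⊔ O := fun g E => by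
    rw [Cj, Subgroup.map_sup, ← Cj, ← Cj, Cj_normal (N := O) g]
  have hAn : ∀ E ∈ 𝒦, R ⊔ O ≤ Subgroup.normalizer ((E ⊔ O : Subgroup H) : Set H) := hnorm
  constructor
  · intro hmin T
    have hOT : O ≤ (T : Subgroup H) := hOp.le_sylow_of_normal T
    have hRT : R ⊔ (T : Subgroup H) = ⊤ := top_le_iff.mp
      ((Cfsg.Agent.Transfer.pResidual_sup_sylow (p := p) T).ge.trans (sup_le_sup_right hres _))
    have hsub : ∀ E ∈ 𝒦, (E ⊔ O).IsSubnormal := fun E hE =>
      Subgroup.IsSubnormal.step _ _ (sup_le_sup_right (hEle E hE) O) (Subgroup.Normal.isSubnormal (inferInstance : (R ⊔ O).Normal))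
        ((Subgroup.normal_subgroupOf_iff_le_normalizer (sup_le_sup_right (hEle E hE) O)).mpr (hAn E hE))
    have hsyl : ∀ E ∈ 𝒦, ∃ TE : Sylow p ↥E, (TE : Subgroup ↥E) = (T : Subgroup H).subgroupOf E := by
      intro E hE
      haveI : (R ⊔ O).Normal := inferInstance
      obtain ⟨P, hP⟩ := exists_sylow_inf T (C := R ⊔ O) (by rw [Subgroup.normalizer_eq_top]; exact le_top)
      have hAR : E ⊔ O ≤ R ⊔ O := sup_le_sup_right (hEle E hE) O
      haveI hnAR : ((E ⊔ O).subgroupOf (R ⊔ O)).Normal :=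
        (Subgroup.normal_subgroupOf_iff_le_normalizer hAR).mpr (hAn E hE)
      have h1 : ¬ p ∣ ((T : Subgroup H).relIndex (E ⊔ O)) := by
        obtain ⟨Q, hQ⟩ := exists_sylow_inf (G := ↥(R ⊔ O)) P (C := (E ⊔ O).subgroupOf (R ⊔ O))
          (by rw [Subgroup.normalizer_eq_top]; exact le_top)
        have := Q.not_dvd_index
        rw [hQ, ← Subgroup.relIndex, hP, Subgroup.relIndex_subgroupOf hAR] at this
        exact this
      have h2 : (T : Subgroup H).relIndex E = (T : Subgroup H).relIndex (E ⊔ O) := by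
        set f := Subgroup.quotientSubgroupOfEmbeddingOfLE (T : Subgroup H) (le_sup_left : E ≤ E ⊔ O)
        refine Nat.card_congr (Equiv.ofBijective f ⟨f.injective, fun q => ?_⟩)
        obtain ⟨⟨j, hj⟩, rfl⟩ := QuotientGroup.mk_surjective q
        have hj' : j ∈ ((E ⊔ O : Subgroup H) : Set H) := hj
        rw [Subgroup.mul_normal] at hj'
        obtain ⟨e, he, o, ho, rfl⟩ := hj'
        refine ⟨QuotientGroup.mk (⟨e, he⟩ : ↥E), ?_⟩
        rw [show f (QuotientGroup.mk (⟨e, he⟩ : ↥E)) = QuotientGroup.mk (⟨e, Subgroup.mem_sup_left he⟩ : ↥(E ⊔ O)) from rfl,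
          QuotientGroup.eq, Subgroup.mem_subgroupOf]
        show e⁻¹ * (e * o) ∈ (T : Subgroup H)
        rw [inv_mul_cancel_left]
        exact hOT ho
      have h3 : IsPGroup p ↥((T : Subgroup H).subgroupOf E) :=
        T.2.comap_of_injective E.subtype E.subtype_injective
      exact ⟨h3.toSylow (by rw [← Subgroup.relIndex, h2]; exact h1), rfl⟩
    choose TE hTE using hsyl
    have hgen : ∀ E (hE : E ∈ 𝒦) (N : Subgroup H), E ≤ Subgroup.normalizer (N : Set H) →
        (T : Subgroup H) ⊓ E ≤ N → E ≤ N := by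
      intro E hE N hn hTN x hx
      have hN' : (N.subgroupOf E).Normal := ⟨fun n hn' g => by
        rw [Subgroup.mem_subgroupOf] at hn' ⊢
        exact (Subgroup.mem_normalizer_iff.mp (hn g.2) _).mp hn'⟩
      have h1 : Subgroup.normalClosure ((TE E hE : Subgroup ↥E) : Set ↥E) ≤ N.subgroupOf E :=
        Subgroup.normalClosure_le_normal fun y hy => by
          rw [SetLike.mem_coe, hTE E hE] at hy
          exact hTN ⟨hy, y.2⟩
      rw [(hmin E hE (TE E hE)).1] at h1
      exact h1 (Subgroup.mem_top (⟨x, hx⟩ : ↥E))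
    refine ⟨?_, ?_⟩
    · rw [eq_top_iff, ← hRT]
      refine sup_le (sSup_le fun E hE => ?_) Subgroup.le_normalClosure
      exact hgen E hE _ (by rw [Subgroup.normalizer_eq_top]; exact le_top)
        (inf_le_left.trans Subgroup.le_normalClosure)
    choose ME hME using fun E hE => (hmin E hE (TE E hE)).2
    let mE : ∀ E, E ∈ 𝒦 → Subgroup H := fun E hE => (ME E hE).map E.subtype ⊔ O
    have hmA : ∀ E (hE : E ∈ 𝒦), mE E hE ≤ E ⊔ O := fun E hE => sup_le_sup_right (Subgroup.map_subtype_le _) O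
    have hTm : ∀ E (hE : E ∈ 𝒦), (T : Subgroup H) ⊓ E ≤ mE E hE := fun E hE y hy =>
      Subgroup.mem_sup_left ⟨⟨y, hy.2⟩, (hME E hE).1.2 (by rw [hTE E hE]; exact hy.1), rfl⟩
    have hmne : ∀ E (hE : E ∈ 𝒦), ¬ E ≤ mE E hE := by
      intro E hE hle
      refine (hME E hE).1.1.1 (eq_top_iff.mpr fun x _ => ?_)
      have hx : (x : H) ∈ (((ME E hE).map E.subtype ⊔ O : Subgroup H) : Set H) := hle x.2
      rw [Subgroup.mul_normal] at hx
      obtain ⟨_, ⟨y, hy, rfl⟩, o, ho, hyo⟩ := hx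
      have hoE : o ∈ E := by
        have : o = (y : H)⁻¹ * x := by
          rw [← hyo]
          show o = (y : H)⁻¹ * ((y : H) * o)
          rw [inv_mul_cancel_left]
        rw [this]
        exact E.mul_mem (E.inv_mem y.2) x.2
      have hoM : (⟨o, hoE⟩ : ↥E) ∈ ME E hE := (hME E hE).1.2 (by rw [hTE E hE]; exact hOT ho)
      rw [show x = y * ⟨o, hoE⟩ from Subtype.ext hyo.symm]
      exact mul_mem hy hoM
    have hmax : ∀ E (hE : E ∈ 𝒦) (Y : Subgroup H), (T : Subgroup H) ⊓ (E ⊔ O) ≤ Y → Y ≤ E ⊔ O →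
        ¬ E ⊔ O ≤ Y → Y ≤ mE E hE := by
      intro E hE Y hTY hYA hne y hy
      have hOY : O ≤ Y := le_trans (le_inf hOT le_sup_right) hTY
      have hYE : Y.subgroupOf E ≠ ⊤ := fun h => hne (sup_le (Subgroup.subgroupOf_eq_top.mp h) hOY)
      obtain ⟨M', hM', hle⟩ := (eq_top_or_exists_le_coatom _).resolve_left hYE
      have hTM' : (TE E hE : Subgroup ↥E) ≤ M' := fun z hz => hle (by
        rw [hTE E hE] at hz
        exact hTY ⟨hz, Subgroup.mem_sup_left z.2⟩)
      have hMM : M' = ME E hE := (hME E hE).2 M' ⟨hM', hTM'⟩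
      have hy' : y ∈ ((E ⊔ O : Subgroup H) : Set H) := hYA hy
      rw [Subgroup.mul_normal] at hy'
      obtain ⟨e, he, o, ho, rfl⟩ := hy'
      have heY : (⟨e, he⟩ : ↥E) ∈ ME E hE := by
        rw [← hMM]
        refine hle ?_
        show e ∈ Y
        have := Y.mul_mem hy (Y.inv_mem (hOY ho))
        rwa [mul_inv_cancel_right] at this
      exact Subgroup.mul_mem_sup ⟨⟨e, he⟩, heY, rfl⟩ ho
    have hTA : ∀ E (hE : E ∈ 𝒦), (T : Subgroup H) ⊓ (E ⊔ O) ≤ mE E hE := by
      intro E hE y hy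
      have hy' : y ∈ ((E ⊔ O : Subgroup H) : Set H) := hy.2
      rw [Subgroup.mul_normal] at hy'
      obtain ⟨e, he, o, ho, rfl⟩ := hy'
      refine mul_mem (hTm E hE ⟨?_, he⟩) (Subgroup.mem_sup_right ho)
      have := (T : Subgroup H).mul_mem hy.1 ((T : Subgroup H).inv_mem (hOT ho))
      rwa [mul_inv_cancel_right] at this
    have hwd : ∀ E (hE : E ∈ 𝒦) E' (hE' : E' ∈ 𝒦), E ⊔ O = E' ⊔ O → mE E hE = mE E' hE' := by
      have h1 : ∀ E (hE : E ∈ 𝒦) E' (hE' : E' ∈ 𝒦), E ⊔ O = E' ⊔ O → mE E hE ≤ mE E' hE' :=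
        fun E hE E' hE' he => hmax E' hE' _ (he ▸ hTA E hE) (he ▸ hmA E hE)
          (fun h => hmne E hE (le_sup_left.trans (he.le.trans h)))
      exact fun E hE E' hE' he => le_antisymm (h1 E hE E' hE' he) (h1 E' hE' E hE he.symm)
    let W : Subgroup H :=
      { carrier := {h | ∀ E (hE : E ∈ 𝒦), Cj h (mE E hE) = mE (Cj h E) (hinv h E hE)}
        one_mem' := fun E hE => by
          rw [Cj_one]
          exact hwd E hE _ _ (by rw [Cj_one])
        mul_mem' := fun {a b} ha hb E hE => by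
          rw [← Cj_Cj, hb E hE, ha _ (hinv b E hE)]
          exact hwd _ _ _ _ (by rw [Cj_Cj])
        inv_mem' := fun {a} ha E hE => by
          have h1 := ha _ (hinv a⁻¹ E hE)
          have h2 : mE (Cj a (Cj a⁻¹ E)) (hinv a _ (hinv a⁻¹ E hE)) = mE E hE :=
            hwd _ _ _ _ (by rw [Cj_Cj, mul_inv_cancel, Cj_one])
          rw [← h2, ← h1, Cj_Cj, inv_mul_cancel, Cj_one] }
    have hWne : W ≠ ⊤ := fun hW => by
      obtain ⟨E, hE⟩ := hne
      refine hmne E hE (hgen E hE _ ?_ (hTm E hE))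
      intro r hr
      have h1 : Cj r (mE E hE) = mE E hE := by
        have hrW : r ∈ W := hW ▸ Subgroup.mem_top r
        rw [hrW E hE]
        refine hwd _ _ _ _ ?_
        rw [← hconjA, Cj_of_normalizer (hAn E hE (Subgroup.mem_sup_left (hEle E hE hr)))]
      refine Subgroup.mem_normalizer_iff.mpr fun y => ?_
      have h2 := mem_Cj (g := r) (x := r * y * r⁻¹) (X := mE E hE)
      rw [h1, show r⁻¹ * (r * y * r⁻¹) * r = y by group] at h2
      exact h2.symm
    have hMW : ∀ M : Subgroup H, IsCoatom M → (T : Subgroup H) ≤ M → M = W := by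
      intro M hM hTM
      refine (eq_or_lt_of_le ?_).resolve_right fun hlt => hWne (hM.2 W hlt)
      have hnot : ∀ E ∈ 𝒦, ¬ E ⊔ O ≤ M := by
        intro E hE hle
        refine hM.1 (top_le_iff.mp (hRT ▸ sup_le (sSup_le fun K hK => ?_) hTM))
        obtain ⟨g, rfl⟩ := htr E hE K hK
        have hg : g ∈ (((T : Subgroup H) ⊔ R : Subgroup H) : Set H) := by rw [sup_comm, hRT]; trivial
        rw [Subgroup.mul_normal] at hg
        obtain ⟨t, ht, r, hr, rfl⟩ := hg
        refine le_sup_left.trans ((hconjA (t * r) E).ge.trans ?_)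
        rw [← Cj_Cj, Cj_of_normalizer (hAn E hE (Subgroup.mem_sup_left hr))]
        refine (Subgroup.map_mono hle).trans ?_
        exact (Cj_of_normalizer (Subgroup.le_normalizer (hTM ht))).le
      have half : ∀ h ∈ M, ∀ E (hE : E ∈ 𝒦), Cj h (mE E hE) ≤ mE (Cj h E) (hinv h E hE) := by
        intro h hh E hE
        refine hmax _ _ _ ?_ ((Subgroup.map_mono (hmA E hE)).trans (hconjA h E).le) ?_
        · have e : (T : Subgroup H) ⊓ (Cj h E ⊔ O) ≤ Cj h (M ⊓ (E ⊔ O)) := by
            show _ ≤ Subgroup.map (MulAut.conj h).toMonoidHom (M ⊓ (E ⊔ O))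
            rw [Subgroup.map_inf _ _ (MulAut.conj h).toMonoidHom (MulAut.conj h).injective,
              show M.map (MulAut.conj h).toMonoidHom = M from Cj_of_normalizer (Subgroup.le_normalizer hh),
              show (E ⊔ O).map (MulAut.conj h).toMonoidHom = Cj h E ⊔ O from hconjA h E]
            exact inf_le_inf_right _ hTM
          refine e.trans (Subgroup.map_mono ?_)
          exact hmax E hE _ (inf_le_inf_right _ hTM) inf_le_right fun hle => hnot E hE (hle.trans inf_le_left)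
        · intro hle
          rw [← hconjA] at hle
          exact hmne E hE (le_sup_left.trans (Subgroup.map_le_map_iff_of_injective (MulAut.conj h).injective |>.mp hle))
      intro h hh E hE
      refine le_antisymm (half h hh E hE) ?_
      have h1 := Subgroup.map_mono (f := (MulAut.conj h).toMonoidHom) (half h⁻¹ (inv_mem hh) _ (hinv h E hE))
      change Cj h (Cj h⁻¹ _) ≤ Cj h _ at h1
      rw [Cj_Cj, mul_inv_cancel, Cj_one] at h1
      refine h1.trans (le_of_eq (congrArg (Cj h) (hwd _ _ _ _ ?_)))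
      rw [Cj_Cj, inv_mul_cancel, Cj_one]
    have hTtop : (T : Subgroup H) ≠ ⊤ := fun hT => by
      obtain ⟨E, hE⟩ := hne
      refine (hME E hE).1.1.1 (eq_top_iff.mpr fun x _ => (hME E hE).1.2 ?_)
      rw [hTE E hE]
      show (x : H) ∈ (T : Subgroup H)
      rw [hT]; trivial
    obtain ⟨M, hM, hTM⟩ := (eq_top_or_exists_le_coatom _).resolve_left hTtop
    exact ⟨M, ⟨hM, hTM⟩, fun M' hM' => (hMW M' hM'.1 hM'.2).trans (hMW M hM hTM).symm⟩
  · intro hirr
    let q := QuotientGroup.mk' O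
    have hqs : Function.Surjective q := QuotientGroup.mk'_surjective O
    have hker : IsPGroup p ↥q.ker := by rw [QuotientGroup.ker_mk']; exact hOp
    have hcoreq : Cfsg.pCore p (H ⧸ O) = ⊥ := by
      rw [← Subgroup.map_comap_eq_self_of_surjective hqs (Cfsg.pCore p (H ⧸ O)), comap_pCore q hqs hker,
        Subgroup.map_eq_bot_iff, QuotientGroup.ker_mk']
    have hEp : ∀ E ∈ 𝒦, ¬ PEltP p E := fun E hE => fun h => (hirr E hE).1 (by
      have := (isPClosed_iff_pEltP E).mpr h
      exact this)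
    have hsit : Sit p (R.map q) ((fun E => Subgroup.map q E) '' 𝒦) := by
      refine ⟨hRn.map q hqs, ?_, ?_, ?_, hcoreq, ?_, ?_, ?_⟩
      · rintro _ ⟨E, hE, rfl⟩
        refine ((Subgroup.map_mono (le_sup_left.trans (hAn E hE))).trans (Subgroup.le_normalizer_map q)).trans ?_
        rw [Subgroup.map_sup, (Subgroup.map_eq_bot_iff O).mpr (QuotientGroup.ker_mk' O).ge, sup_bot_eq]
      · rw [hRdef, sSup_eq_iSup, sSup_image]
        simp only [Subgroup.map_iSup]
      · rw [← Cfsg.Agent.Transfer.map_pResidual_eq hqs]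
        exact Subgroup.map_mono hres
      · rintro _ ⟨E, hE, rfl⟩ _ ⟨K, hK, rfl⟩
        obtain ⟨g, rfl⟩ := htr E hE K hK
        refine ⟨q g, ?_⟩
        show Subgroup.map q (Subgroup.map _ E) = Subgroup.map _ (Subgroup.map q E)
        rw [Subgroup.map_map, Subgroup.map_map]
        congr 1
      · rintro _ ⟨E, hE, rfl⟩ N hN hNn hne a ha hco
        obtain ⟨x, hx, rfl⟩ := ha
        have hN0 : ((N.comap q).subgroupOf E).Normal := ⟨fun n hn g => by
          show q (g * n * (g : H)⁻¹) ∈ N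
          rw [map_mul, map_mul, map_inv]
          exact (Subgroup.mem_normalizer_iff.mp (hNn ⟨g, g.2, rfl⟩) _).mp hn⟩
        have hres' := (hirr E hE).2 _ hN0 (by
          intro hle
          refine hne (le_bot_iff.mp (Subgroup.commutator_le.mpr fun u hu v hv => ?_))
          obtain ⟨u, huE, rfl⟩ := hN hu
          obtain ⟨v, hvE, rfl⟩ := hv
          have h1 := hle (Subgroup.commutator_mem_commutator
            (show (⟨u, huE⟩ : ↥E) ∈ (N.comap q).subgroupOf E from hu) (Subgroup.mem_top (⟨v, hvE⟩ : ↥E)))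
          have hEO : (E ⊔ O).IsSubnormal :=
            Subgroup.IsSubnormal.step _ _ (sup_le_sup_right (hEle E hE) O)
              (Subgroup.Normal.isSubnormal (inferInstance : (R ⊔ O).Normal))
              ((Subgroup.normal_subgroupOf_iff_le_normalizer (sup_le_sup_right (hEle E hE) O)).mpr (hAn E hE))
          have hpn : E ≤ Subgroup.normalizer ((Cfsg.pCoreOf p E) : Set H) := le_normalizer_pCoreOf p E
          have hsubn : (Cfsg.pCoreOf p E ⊔ O).IsSubnormal := Subgroup.IsSubnormal.step _ _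
            (sup_le_sup_right (pCoreOf_le' p E) O) hEO
            ((Subgroup.normal_subgroupOf_iff_le_normalizer (sup_le_sup_right (pCoreOf_le' p E) O)).mpr
              (sup_le (fun e he => Subgroup.normalizer_inf_normalizer_le_normalizer_sup _ _
                ⟨hpn he, by rw [Subgroup.normalizer_eq_top]; trivial⟩)
                (le_sup_right.trans Subgroup.le_normalizer)))
          have hle' : Cfsg.pCoreOf p E ≤ O := le_sup_left.trans
            (subnormal_le_pCore hsubn ((pCoreOf_isPGroup' p E).to_sup_of_normal_right hOp))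
          rw [Subgroup.mem_bot, ← map_commutatorElement]
          exact (QuotientGroup.eq_one_iff _).mpr (hle' ⟨_, h1, rfl⟩))
        obtain ⟨a, b, hab, ⟨k, hk⟩, hb, hax, hb'⟩ := exists_pPart (p := p) (isOfFinOrder_of_finite x)
        have hbE : b ∈ E := Subgroup.zpowers_le.mpr hx hb'
        have hbN : q b ∈ N := hres' (Subgroup.subset_closure (show Nat.Coprime (orderOf (⟨b, hbE⟩ : ↥E)) p by
          rw [Subgroup.orderOf_mk]; exact hb))
        have hqa : q a = 1 := by
          have hc : Commute (q a) (q b) := by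
            have h1 : Commute a b := by
              obtain ⟨i, rfl⟩ := Subgroup.mem_zpowers_iff.mp hax
              obtain ⟨j, rfl⟩ := Subgroup.mem_zpowers_iff.mp hb'
              exact Commute.zpow_zpow_self x i j
            exact h1.map q
          refine eq_one_of_pPow_of_coprime (p := p) (k := k) (by rw [← map_pow, hk, map_one]) ?_
          have hd : orderOf (q a) ∣ orderOf (q x) * orderOf (q b) := by
            have hc' : Commute (q x) (q b)⁻¹ := by
              rw [← hab, map_mul]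
              exact (hc.mul_left (Commute.refl _)).inv_right
            have := hc'.orderOf_mul_dvd_mul_orderOf
            rwa [orderOf_inv, ← hab, map_mul, mul_inv_cancel_right, ← map_mul, hab] at this
          exact (hco.mul_left (hb.coprime_dvd_left (orderOf_map_dvd q b))).coprime_dvd_left hd
        rw [← hab, map_mul, hqa, one_mul]
        exact hbN
      · rintro _ ⟨E, hE, rfl⟩
        rw [pEltP_map_iff q hker]
        exact hEp E hE
    have hnotcl : ¬ Cfsg.IsPClosed p H := fun hc => by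
      obtain ⟨E, hE⟩ := hne
      exact hEp E hE ((pEltP_top_iff.mp hc).mono le_top)
    refine ⟨⟨hnotcl, fun N hN hnc => ?_⟩, fun E hE K hK => ?_⟩
    · haveI : (N.map q).Normal := hN.map q hqs
      have h1 := hsit.irred (N.map q) (by
        rw [pEltP_map_iff q hker]
        exact fun h => hnc ((isPClosed_iff_pEltP N).mpr h))
      rw [← Cfsg.Agent.Transfer.map_pResidual_eq hqs, Subgroup.map_le_map_iff, QuotientGroup.ker_mk'] at h1
      exact pResidual_le_of_le_sup hOp h1
    · rcases hsit.dichotomy ⟨E, hE, rfl⟩ ⟨K, hK, rfl⟩ with hd | hd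
      swap
      · right
        rw [← Subgroup.map_commutator, Subgroup.map_eq_bot_iff, QuotientGroup.ker_mk'] at hd
        exact hd
      left
      have hle : (Cfsg.pResidual p ↥(E ⊔ O)).map (E ⊔ O).subtype ≤
          (Cfsg.pResidual p ↥(K ⊔ O)).map (K ⊔ O).subtype := by
        rw [Subgroup.map_le_iff_le_comap]
        refine (Subgroup.closure_le _).mpr fun y hy => ?_
        have hy' : Nat.Coprime (orderOf (y : H)) p := by rw [Subgroup.orderOf_coe]; exact hy
        have hqy : q y ∈ E.map q := by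
          have : (y : H) ∈ (E ⊔ O).comap (MonoidHom.id H) := y.2
          have h2 : q y ∈ (E ⊔ O).map q := ⟨y, y.2, rfl⟩
          rwa [Subgroup.map_sup, (Subgroup.map_eq_bot_iff O).mpr (QuotientGroup.ker_mk' O).ge, sup_bot_eq] at h2
        obtain ⟨w, hw, hwy⟩ := hd _ hqy (hy'.coprime_dvd_left (orderOf_map_dvd q y))
        have hyK : (y : H) ∈ K ⊔ O := by
          have : w⁻¹ * (y : H) ∈ O := (QuotientGroup.eq_one_iff _).mp (show q (w⁻¹ * y) = 1 by
            rw [map_mul, map_inv, hwy, inv_mul_cancel])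
          have h3 := Subgroup.mul_mem_sup (S := K) (T := O) hw this
          rwa [mul_inv_cancel_left] at h3
        exact ⟨⟨y, hyK⟩, Subgroup.subset_closure (show Nat.Coprime (orderOf (⟨(y : H), hyK⟩ : ↥(K ⊔ O))) p by
          rw [Subgroup.orderOf_mk]; exact hy'), rfl⟩
      refine Subgroup.eq_of_le_of_card_ge hle (le_of_eq ?_)
      obtain ⟨g, rfl⟩ := htr E hE K hK
      have e : Cj g E ⊔ O = Cj g (E ⊔ O) := (hconjA g E).symm
      rw [Subgroup.card_map_of_injective (Subgroup.subtype_injective _),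
        Subgroup.card_map_of_injective (Subgroup.subtype_injective _)]
      refine (Nat.card_congr ?_).symm
      let eqv : ↥(E ⊔ O) ≃* ↥(Cj g E ⊔ O) :=
        ((E ⊔ O).equivMapOfInjective _ (MulAut.conj g).injective).trans (MulEquiv.subgroupCongr e.symm)
      rw [← pResidual_map_iso (p := p) eqv]
      exact (Subgroup.equivMapOfInjective _ _ eqv.injective).toEquiv

end Cfsg.Agent.S2855
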