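import Cfsg.Statements.S2856
import Cfsg.Agent.Lib.LocalEvenA.AmalgamV
import Mathlib.GroupTheory.Nilpotent
import Mathlib.Tactic.Group

set_option autoImplicit false
open Cfsg
open scoped commutatorElement

namespace Cfsg.Agent.S2856

/-- Let (M₁, M₂) be an amalgam pair in X satisfying the rank-two standing hypothesis (characteristic p, the normalizers in M₁ and in M₂ of a Sylow p-subgroup of M₁ ∩ M₂ equal and contained in M₁ ∩ M₂, and strongly p-embedded residues), λ a vertex of the coset graph, L_λ the subgroup of its stabilizer generated by the p-elements, Q_λ = O_p of the stabilizer, O^p(L_λ) the subgroup of L_λ generated by its elements of order prime to p, and V_λ^{(k)} the subgroup generated by the Z_μ over the vertices μ at distance at most k from λ (Z_μ being generated by the Ω₁(Z(S)), S a Sylow p-subgroup of the stabilizer of μ). If n ≥ 1 and V_λ^{(n)} ≤ Q_λ, then O^p(L_λ) does not centralize V_λ^{(n)}/[V_λ^{(n)}, Q_λ], that is, [V_λ^{(n)}, O^p(L_λ)] is not contained in [V_λ^{(n)}, Q_λ]. -/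
theorem result {X : Type*} [Group X] {p : ℕ} [Fact p.Prime] (M₁ M₂ : Subgroup X) (h : Cfsg.IsSpeAmalgamPair p M₁ M₂) (lam : Cfsg.CosetVertex M₁ M₂) (n : ℕ) (hn : 1 ≤ n) (V : Subgroup X) (hV : V = Cfsg.vertexVIter p M₁ M₂ n lam) (hVQ : V ≤ Cfsg.vertexQ p lam) : ¬ ⁅V, ((Cfsg.pResidual p ↥(Cfsg.pElementClosure p (MulAction.stabilizer X lam))).map (Cfsg.pElementClosure p (MulAction.stabilizer X lam)).subtype)⁆ ≤ ⁅V, Cfsg.vertexQ p lam⁆ := by
  intro hC
  subst hV
  obtain ⟨δ, hδ⟩ := LocalEvenA.exists_nbr lam
  have := LocalEvenA.stab_finite h.1 lam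
  have : Finite ↥(edgeStabilizer lam δ) :=
    Finite.of_injective _ (Subgroup.inclusion_injective (inf_le_left : edgeStabilizer lam δ ≤ MulAction.stabilizer X lam))
  obtain ⟨S⟩ : Nonempty (Sylow p ↥(edgeStabilizer lam δ)) := inferInstance
  refine LocalEvenA.vertexV_not_le h hδ hn hVQ ?_
  set V := vertexVIter p M₁ M₂ n lam with hV
  set W := vertexVIter p M₁ M₂ (n - 1) δ with hW
  set Q := vertexQ p lam with hQ
  have hsup : V ≤ W ⊔ ⁅V, Q⁆ := LocalEvenA.vertexV_le_sup h hδ S hn _ hC
  have hconn := LocalEvenA.cg_connected M₁ M₂ h.1.1.1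
  have hQW : Q ≤ Subgroup.normalizer (W : Set X) := fun x hx =>
    LocalEvenA.vertexV_normalized hconn (n - 1) δ
      ((LocalEvenA.cg_mem_neighbourKernel.1 (LocalEvenA.vertexQ_le_kernel h.1 lam hx)).2 δ hδ)
  haveI : Finite ↥Q := Finite.of_injective _
    (Subgroup.inclusion_injective (LocalEvenA.pCoreOf_le' p (MulAction.stabilizer X lam)))
  have hnil : Group.IsNilpotent ↥Q := (LocalEvenA.pCoreOf_isPGroup' p (MulAction.stabilizer X lam)).isNilpotent
  rw [Subgroup.isNilpotent_iff_lowerCentralSeries] at hnil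
  obtain ⟨m, hm⟩ := hnil
  have key : ∀ i, V ≤ W ⊔ Subgroup.lowerCentralSeries Q i := by
    intro i
    induction i with
    | zero =>
      rw [Subgroup.lowerCentralSeries_zero]
      exact hVQ.trans le_sup_right
    | succ i ih =>
      refine hsup.trans (sup_le le_sup_left ((Subgroup.commutator_mono ih le_rfl).trans ?_))
      rw [Subgroup.lowerCentralSeries_succ, Subgroup.commutator_le]
      intro x hx q hq
      have hWQ : W ≤ Q := by
        refine le_trans (iSup_le fun μ => LocalEvenA.le_vertexV ?_) hVQ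
        have := hconn.dist_triangle (u := lam) (v := δ) (w := μ.1)
        rw [SimpleGraph.dist_eq_one_iff_adj.2 hδ] at this
        have := μ.2
        omega
      have hLi : ∀ i, Subgroup.lowerCentralSeries Q i ≤ Q := by
        intro i
        induction i with
        | zero => rw [Subgroup.lowerCentralSeries_zero]
        | succ i ih =>
          rw [Subgroup.lowerCentralSeries_succ]
          exact Subgroup.commutator_le.2 fun a ha b hb => by
            rw [commutatorElement_def]
            exact mul_mem (mul_mem (mul_mem (ih ha) hb) (inv_mem (ih ha))) (inv_mem hb)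
      rw [← SetLike.mem_coe, sup_comm,
        Subgroup.coe_mul_of_left_le_normalizer_right _ _ ((hLi i).trans hQW)] at hx
      obtain ⟨l, hl, w, hw, rfl⟩ := hx
      have hlW : l ∈ Subgroup.normalizer (W : Set X) := hQW (hLi i hl)
      have h1 : ⁅l, q⁆ ∈ ⁅Subgroup.lowerCentralSeries Q i, Q⁆ := Subgroup.commutator_mem_commutator hl hq
      have h2 : ⁅w, q⁆ ∈ W := by
        rw [commutatorElement_def, mul_assoc, mul_assoc]
        refine mul_mem hw ?_
        rw [← mul_assoc]
        exact (Subgroup.mem_normalizer_iff.1 (hQW hq) _).1 (inv_mem hw)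
      have e : ⁅l * w, q⁆ = (l * ⁅w, q⁆ * l⁻¹) * ⁅l, q⁆ := by
        simp only [commutatorElement_def]; group
      rw [e]
      exact mul_mem (Subgroup.mem_sup_left ((Subgroup.mem_normalizer_iff.1 hlW _).1 h2))
        (Subgroup.mem_sup_right h1)
  refine (key m).trans ?_
  rw [hm, sup_bot_eq]

end Cfsg.Agent.S2856
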