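import Cfsg.Statements.S2861
import Cfsg.Agent.Lib.LocalEvenA.FPFIrr

set_option autoImplicit false
open Cfsg

namespace Cfsg.Agent.S2861

/-- Standing hypotheses: G a finite group, S a Sylow p-subgroup, Q a nontrivial large p-subgroup of G contained in S, M a subgroup containing S with the basic property (M ∈ 𝔐_G(S)); Y_M the largest p-reduced normal subgroup of M and M† = M·C_G(Y_M). Let L ∈ 𝔏_G(Y_M) (L ∈ 𝔏_G(Y_M): Y_M ≤ L; O_p(L) is the normal closure in L of Y_M ∩ O_p(L) and normalizes Y_M; L is Y_M-minimal of characteristic p with N_L(Y_M) its unique maximal subgroup over Y_M; and L/O_p(L) ≅ SL₂(q) with q = |Y_M : Y_M ∩ O_p(L)|, or p = 2 and L/O_p(L) is a Suzuki group Sz(q) or dihedral of order 2r, r an odd prime) and A = O_p(L). Then Y_M·A/A is the unique nontrivial elementary abelian normal p-subgroup of N_L(Y_M)/A. -/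
theorem result {G : Type*} [Group G] [Finite G] {p : ℕ} [Fact p.Prime] (S : Sylow p G) (Q : Subgroup G) (hQp : IsPGroup p ↥Q) (hQ1 : Q ≠ ⊥) (hQS : Q ≤ (S : Subgroup G)) (hQ : Cfsg.IsLarge Q) (M : Subgroup G) (hSM : (S : Subgroup G) ≤ M) (hM : Cfsg.IsInFrakM p M) (L : Subgroup G) (hL : Cfsg.IsInFrakL p M L) (NL : Subgroup G) (hNL : NL = L ⊓ Subgroup.normalizer (((Cfsg.largestPReducedOf p M) : Subgroup G) : Set G)) [hn : (((Cfsg.pCoreOf p L)).subgroupOf NL).Normal] : let Ybar : Subgroup (↥NL ⧸ ((Cfsg.pCoreOf p L)).subgroupOf NL) := (((Cfsg.largestPReducedOf p M)).subgroupOf NL).map (QuotientGroup.mk' (((Cfsg.pCoreOf p L)).subgroupOf NL)); Ybar ≠ ⊥ ∧ Ybar.Normal ∧ Cfsg.IsElementaryAbelian p Ybar ∧ ∀ (V : Subgroup (↥NL ⧸ ((Cfsg.pCoreOf p L)).subgroupOf NL)), V.Normal → Cfsg.IsElementaryAbelian p V → V ≠ ⊥ → V = Ybar := by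
  intro Ybar

  have d := Cfsg.Agent.LocalEvenA.lMem_of_isInFrakL hL
  subst hNL
  set Y := largestPReducedOf p M with hY
  set NL := L ⊓ Subgroup.normalizer (Y : Set G) with hNL
  haveI := Cfsg.Agent.LocalEvenA.pCore_normal' p ↥L
  set π := QuotientGroup.mk' (pCore p ↥L) with hπ
  let f : ↥NL →* ↥L ⧸ pCore p ↥L := π.comp (Subgroup.inclusion inf_le_left)
  have hker : f.ker = (pCoreOf p L).subgroupOf NL := by
    ext x
    constructor
    · intro hx
      exact ⟨Subgroup.inclusion inf_le_left x, (QuotientGroup.eq_one_iff _).1 hx, rfl⟩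
    · rintro ⟨z, hz, e⟩
      refine (QuotientGroup.eq_one_iff _).2 ?_
      rwa [show Subgroup.inclusion inf_le_left x = z from Subtype.ext e.symm]
  let g : ↥NL ⧸ (pCoreOf p L).subgroupOf NL →* ↥L ⧸ pCore p ↥L :=
    QuotientGroup.lift _ f hker.ge
  have hg : Function.Injective g := by
    refine (injective_iff_map_eq_one g).2 fun x hx => ?_
    obtain ⟨x, rfl⟩ := QuotientGroup.mk'_surjective _ x
    exact (QuotientGroup.eq_one_iff x).2 (hker.le hx)
  have hYN : Y ≤ NL := le_inf hL.1 Subgroup.le_normalizer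
  have hYb : Ybar.map g = (Y.subgroupOf L).map π := by
    apply le_antisymm
    · rintro _ ⟨_, ⟨y, hy, rfl⟩, rfl⟩
      exact ⟨Subgroup.inclusion inf_le_left y, hy, rfl⟩
    · rintro _ ⟨y, hy, rfl⟩
      exact ⟨QuotientGroup.mk' _ ⟨y, hYN hy⟩, ⟨⟨y, hYN hy⟩, hy, rfl⟩, rfl⟩
  have hrange : g.range = (Subgroup.normalizer (Y.subgroupOf L : Set L)).map π := by
    have hn : ∀ x : L, x ∈ Subgroup.normalizer (Y.subgroupOf L : Set L) ↔
        (x : G) ∈ Subgroup.normalizer (Y : Set G) := by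
      intro x
      rw [Subgroup.mem_normalizer_iff, Subgroup.mem_normalizer_iff]
      refine ⟨fun h y => ⟨fun hy => (h ⟨y, hL.1 hy⟩).1 hy, fun hy => ?_⟩, fun h y => h y⟩
      have hyL : y ∈ L := by
        have := mul_mem (mul_mem (inv_mem x.2) (hL.1 hy)) x.2
        simpa [mul_assoc] using this
      exact (h ⟨y, hyL⟩).2 hy
    apply le_antisymm
    · rintro _ ⟨x, rfl⟩
      obtain ⟨x, rfl⟩ := QuotientGroup.mk'_surjective _ x
      exact ⟨Subgroup.inclusion inf_le_left x, (hn _).2 x.2.2, rfl⟩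
    · rintro _ ⟨x, hx, rfl⟩
      exact ⟨QuotientGroup.mk' _ ⟨x, x.2, (hn x).1 hx⟩, rfl⟩
  have hne : Ybar ≠ ⊥ := fun e => d.image_ne_bot (by rw [← hYb, e, Subgroup.map_bot])
  haveI : (Y.subgroupOf NL).Normal := Subgroup.normal_subgroupOf_of_le_normalizer inf_le_right
  refine ⟨hne, Subgroup.Normal.map inferInstance _ (QuotientGroup.mk'_surjective _), ?_, fun V hV he hV1 => ?_⟩
  · exact Cfsg.Agent.LocalEvenA.elemAb_map
      (Cfsg.Agent.LocalEvenA.elemAb_subgroupOf (Cfsg.Agent.LocalEvenA.pReducedOf_elemAb M) NL) _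
  · refine Subgroup.map_injective hg ?_
    rw [hYb]
    refine d.eq_image (hrange ▸ Subgroup.map_le_range _ _) ?_
      (Cfsg.Agent.LocalEvenA.elemAb_map he _) (fun e => hV1 ((Subgroup.map_eq_bot_iff_of_injective _ hg).1 e))
    rw [← hrange, MonoidHom.range_eq_map]
    exact (Subgroup.map_mono (Subgroup.normalizer_eq_top_iff.2 hV).ge).trans (Subgroup.le_normalizer_map g)

end Cfsg.Agent.S2861
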