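import Cfsg.Statements.S2862
import Cfsg.Agent.Lib.LocalEvenA.FrakH4

set_option autoImplicit false
open Cfsg

namespace Cfsg.Agent.S2862

/-- Standing hypotheses: G a finite group, S a Sylow p-subgroup, Q a nontrivial large p-subgroup of G contained in S, M a subgroup containing S with the basic property (M ∈ 𝔐_G(S)); Y_M the largest p-reduced normal subgroup of M and M† = M·C_G(Y_M). Suppose Y_M is char-p-tall and asymmetric in G, H ∈ ℌ_G(O_p(M)), and L is minimal among the subgroups of H containing Y_M with Y_M ≰ O_p(L). Then H = ⟨L, O_p(M)⟩ = ⟨hY_Mh⁻¹, O_p(M)⟩ for every h ∈ L outside N_L(Y_M); L is Y_M-minimal and of characteristic p, with N_L(Y_M) the unique maximal subgroup of L containing Y_M; [V, O^p(L)] ≠ 1 for every noncentral chief factor V/W of H inside O_p(H) (that is, O^p(L) does not act trivially on V/W); and the normal closure of O_p(L) ∩ Y_M in L lies in O_p(H). -/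
theorem result {G : Type*} [Group G] [Finite G] {p : ℕ} [Fact p.Prime] (S : Sylow p G) (Q : Subgroup G) (hQp : IsPGroup p ↥Q) (hQ1 : Q ≠ ⊥) (hQS : Q ≤ (S : Subgroup G)) (hQ : Cfsg.IsLarge Q) (M : Subgroup G) (hSM : (S : Subgroup G) ≤ M) (hM : Cfsg.IsInFrakM p M) (htall : Cfsg.IsCharPTall p (Cfsg.largestPReducedOf p M)) (hasym : ¬ Cfsg.IsSymmetricIn (Cfsg.largestPReducedOf p M)) (H : Subgroup G) (hH : Cfsg.IsInFrakH p M H) (L : Subgroup G) (hLH : L ≤ H) (hYL : (Cfsg.largestPReducedOf p M) ≤ L) (hYO : ¬ (Cfsg.largestPReducedOf p M) ≤ (Cfsg.pCoreOf p L)) (hmin : ∀ L' : Subgroup G, L' ≤ L → (Cfsg.largestPReducedOf p M) ≤ L' → ¬ (Cfsg.largestPReducedOf p M) ≤ (Cfsg.pCoreOf p L') → L' = L) : (L ⊔ (Cfsg.pCoreOf p M) = H ∧ ∀ h ∈ L, h ∉ Subgroup.normalizer (((Cfsg.largestPReducedOf p M) : Subgroup G) : Set G) → (((Cfsg.largestPReducedOf p M) : Subgroup G).map (MulAut.conj (h : G)).toMonoidHom) ⊔ (Cfsg.pCoreOf p M) = H) ∧ (Cfsg.IsMinimalOver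 (((Cfsg.largestPReducedOf p M)).subgroupOf L) ∧ Subgroup.centralizer (Cfsg.pCore p ↥L : Set ↥L) ≤ Cfsg.pCore p ↥L ∧ L ⊓ Subgroup.normalizer (((Cfsg.largestPReducedOf p M) : Subgroup G) : Set G) < L ∧ ∀ X : Subgroup G, (Cfsg.largestPReducedOf p M) ≤ X → X < L → X ≤ L ⊓ Subgroup.normalizer (((Cfsg.largestPReducedOf p M) : Subgroup G) : Set G)) ∧ (∀ V W' : Subgroup G, V ≤ (Cfsg.pCoreOf p H) → H ≤ Subgroup.normalizer ((V : Subgroup G) : Set G) → H ≤ Subgroup.normalizer ((W' : Subgroup G) : Set G) → W' < V → (∀ Z' : Subgroup G, H ≤ Subgroup.normalizer ((Z' : Subgroup G) : Set G) → W' ≤ Z' → Z' ≤ V → Z' = W' ∨ Z' = V) → ¬ ⁅V, H⁆ ≤ W' → ¬ ⁅V, ((Cfsg.pResidual p ↥L).map (L).subtype)⁆ ≤ W') ∧ (Subgroup.normalClosure (((((Cfsg.pCoreOf p L) ⊓ (Cfsg.largestPReducedOf p M)).subgroupOf L : Subgroup ↥L)) : Set ↥L)).map L.subtype ≤ (Cfsg.pCoreOf p H) := by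
  have hS : (S : Subgroup G) ≠ ⊥ := ne_bot_of_le_ne_bot hQ1 hQS
  have c := LocalEvenA.frakH_ctx S hQp hQ hS hSM hM hasym hH
  have m : LocalEvenA.LMin p (largestPReducedOf p M) H L :=
    ⟨hLH, hYL, hYO, fun X hX hlt => Classical.byContradiction fun h => hlt.ne (hmin X hlt.le hX h)⟩
  obtain ⟨-, hRP, -, -⟩ := LocalEvenA.frakH_structure hH
  set Y := largestPReducedOf p M with hY
  set N := L ⊓ Subgroup.normalizer (Y : Set G) with hN
  have hNlt : N < L := c.lmin_inf_normalizer_lt m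
  have hmax : ∀ X : Subgroup G, Y ≤ X → X < L → X ≤ N := fun X hX hlt =>
    le_inf hlt.le (c.lmin_le_normalizer m hX hlt)
  refine ⟨⟨c.lmin_sup m, fun h hh hn => ?_⟩, ⟨⟨c.lmin_normalClosure m, ?_⟩, c.lmin_charp m, hNlt, hmax⟩,
    fun V W' hVA hV hW hlt hirr hnc => c.lmin_chief m hRP hVA hV hW hlt hirr hnc,
    (LocalEvenA.conjSup_eq_normalClosure (inf_le_left.trans (LocalEvenA.pCoreOf_le' p L))).le.trans
      (c.lmin_conjSup_core_inf_le m)⟩
  · exact c.gen1 ⟨hh, c.lmin_gen m hh hn, c.lmin_sup m⟩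
  · refine ⟨N.subgroupOf L, ⟨⟨fun e => hNlt.ne (le_antisymm inf_le_left (Subgroup.subgroupOf_eq_top.1 e)),
      fun X hX => ?_⟩, fun y hy => ⟨y.2, Subgroup.le_normalizer hy⟩⟩, ?_⟩
    · by_contra htop
      have hNX : N ≤ X.map L.subtype := fun x hx => ⟨⟨x, hx.1⟩, hX.le hx, rfl⟩
      have hXlt : X.map L.subtype < L := lt_of_le_of_ne (Subgroup.map_subtype_le X) fun e => htop
        (Subgroup.map_injective L.subtype_injective
          (by rw [e, ← MonoidHom.range_eq_map, Subgroup.range_subtype]))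
      have h1 := hmax _ ((le_inf hYL Subgroup.le_normalizer).trans hNX) hXlt
      exact hX.not_ge fun x hx => h1 ⟨x, hx, rfl⟩
    · rintro X ⟨hXc, hYX⟩
      have hXlt : X.map L.subtype < L := lt_of_le_of_ne (Subgroup.map_subtype_le X) fun e => hXc.1
        (Subgroup.map_injective L.subtype_injective
          (by rw [e, ← MonoidHom.range_eq_map, Subgroup.range_subtype]))
      have h1 : X ≤ N.subgroupOf L := fun x hx =>
        hmax (X.map L.subtype) (fun y hy => ⟨⟨y, hYL hy⟩, hYX hy, rfl⟩) hXlt ⟨x, hx, rfl⟩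
      by_contra hne
      exact hNlt.ne (le_antisymm inf_le_left
        (Subgroup.subgroupOf_eq_top.1 (hXc.2 _ (lt_of_le_of_ne h1 hne))))

end Cfsg.Agent.S2862
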