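import Cfsg.Statements.S2864
import Cfsg.Agent.Lib.LocalEvenA.Stab

set_option autoImplicit false
open Cfsg
open scoped commutatorElement

namespace Cfsg.Agent.S2864

/-- Standing hypotheses: G a finite group, S a Sylow p-subgroup, Q a nontrivial large p-subgroup of G contained in S, M a subgroup containing S with the basic property (M ∈ 𝔐_G(S)); Y_M the largest p-reduced normal subgroup of M and M† = M·C_G(Y_M). Let I be a nontrivial normal p-subgroup of M and Y ≤ O_p(M†); let L be a subgroup of G containing Y and A a normal p-subgroup of L with I ≤ A ≤ M. If [Y, A] ≤ [I, A], then Y ≤ O_p(L). -/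
theorem result {G : Type*} [Group G] [Finite G] {p : ℕ} [Fact p.Prime] (S : Sylow p G) (Q : Subgroup G) (hQp : IsPGroup p ↥Q) (hQ1 : Q ≠ ⊥) (hQS : Q ≤ (S : Subgroup G)) (hQ : Cfsg.IsLarge Q) (M : Subgroup G) (hSM : (S : Subgroup G) ≤ M) (hM : Cfsg.IsInFrakM p M) (I : Subgroup G) (hI1 : I ≠ ⊥) (hIp : IsPGroup p ↥I) (hIM : I ≤ M ∧ M ≤ Subgroup.normalizer ((I : Subgroup G) : Set G)) (Y : Subgroup G) (hY : Y ≤ (Cfsg.pCoreOf p (M ⊔ Subgroup.centralizer (((Cfsg.largestPReducedOf p M) : Subgroup G) : Set G)))) (L : Subgroup G) (hYL : Y ≤ L) (A : Subgroup G) (hAp : IsPGroup p ↥A) (hAL : A ≤ L ∧ L ≤ Subgroup.normalizer ((A : Subgroup G) : Set G)) (hIA : I ≤ A) (hAM : A ≤ M) (hc : ⁅Y, A⁆ ≤ ⁅I, A⁆) : Y ≤ (Cfsg.pCoreOf p L) := by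
  set D := M ⊔ Subgroup.centralizer ((largestPReducedOf p M : Subgroup G) : Set G)
  have hne : pCoreOf p (Subgroup.normalizer (I : Set G)) ≠ ⊥ :=
    ne_bot_of_le_ne_bot hI1 (LocalEvenA.le_pCoreOf Subgroup.le_normalizer le_rfl hIp)
  have hNI : Subgroup.normalizer (I : Set G) ≤ D :=
    LocalEvenA.le_dagger_of_mem hM hIM.2 ⟨LocalEvenA.pCore_ne_bot_of hne,
      LocalEvenA.large_parabolic hQp hQ S (hSM.trans hIM.2) hne⟩
  have hYp : IsPGroup p ↥Y := (LocalEvenA.pCoreOf_isPGroup' p D).to_le hY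
  have hCD : Subgroup.centralizer (A : Set G) ≤ D :=
    (Subgroup.centralizer_le (SetLike.coe_subset_coe.2 hIA)).trans
      ((Subgroup.centralizer_le_normalizer _).trans hNI)
  refine LocalEvenA.le_pCoreOf_of_stabilizes hAp hAL.2 hYp hYL (fun y hy a ha => ?_) fun y hy c hcL hcA => ?_
  · have h1 := Subgroup.commutator_mem_commutator hy ha
    exact Subgroup.commutator_mono hIA le_rfl (hc (by simpa [commutatorElement_def] using h1))
  · set C := L ⊓ Subgroup.centralizer (A : Set G) with hC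
    have hLC : L ≤ Subgroup.normalizer (C : Set G) := LocalEvenA.le_normalizer_inf Subgroup.le_normalizer
      (hAL.2.trans (LocalEvenA.normalizer_le_normalizer_centralizer A))
    have hCP : C ≤ Subgroup.normalizer ((pCoreOf p D : Subgroup G) : Set G) :=
      (inf_le_right.trans hCD).trans (LocalEvenA.le_normalizer_pCoreOf p D)
    refine LocalEvenA.subnormal_le_pCoreOf (R := pCoreOf p D ⊓ C) (D := C)
      ((LocalEvenA.pCoreOf_isPGroup' p D).to_le inf_le_left) inf_le_right inf_le_left hLC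
      (LocalEvenA.le_normalizer_inf hCP Subgroup.le_normalizer) ⟨?_, ?_⟩
    · exact LocalEvenA.commutator_le_left_of_normalizer hCP
        (Subgroup.commutator_mem_commutator (hY hy) ⟨hcL, hcA⟩)
    · exact LocalEvenA.commutator_le_right_of_normalizer (hYL.trans hLC)
        (Subgroup.commutator_mem_commutator hy ⟨hcL, hcA⟩)

end Cfsg.Agent.S2864
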