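import Cfsg.Statements.S2872
import Cfsg.Agent.Lib.Basics.Frattini

set_option autoImplicit false
open Cfsg
open scoped commutatorElement

namespace Cfsg.Agent.S2872

/-- Let S be a Sylow 2-subgroup of the finite group G. Then G has a proper normal subgroup of 2-power index (O²(G) ≠ G), or Ω₁(Z(S)) is contained in the Frattini subgroup of S, or N_G(S) acts nontrivially on Ω₁(Z(S)) by conjugation. -/
theorem result {G : Type*} [Group G] [Finite G] (S : Sylow 2 G) : Cfsg.pResidual 2 G ≠ ⊤ ∨ Cfsg.omegaOne 2 ((S : Subgroup G) ⊓ Subgroup.centralizer ((S : Subgroup G) : Set G)) ≤ (frattini ↥(S : Subgroup G)).map (S : Subgroup G).subtype ∨ ∃ g ∈ Subgroup.normalizer ((S : Subgroup G) : Set G), ∃ z ∈ Cfsg.omegaOne 2 ((S : Subgroup G) ⊓ Subgroup.centralizer ((S : Subgroup G) : Set G)), g * z * g⁻¹ ≠ z := by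
  classical
    haveI : Fact (Nat.Prime 2) := ⟨Nat.prime_two⟩
    by_contra hcon
    push_neg at hcon
    obtain ⟨hres, hnle, hfix⟩ := hcon
    set S' := (S : Subgroup G) with hS'
    rw [omegaOne, Subgroup.closure_le] at hnle
    obtain ⟨z, ⟨⟨hzS, hzc⟩, hz2⟩, hzΦ⟩ := Set.not_subset.1 hnle
    have hzΩ : z ∈ omegaOne 2 (S' ⊓ Subgroup.centralizer (S' : Set G)) :=
      Subgroup.subset_closure ⟨⟨hzS, hzc⟩, hz2⟩
    haveI : Group.IsNilpotent ↥S' := S.2.isNilpotent
    haveI : (frattini ↥S').Characteristic := frattini_characteristic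
    let A := ↥S' ⧸ frattini ↥S'
    letI : CommGroup A := { (inferInstance : Group A) with
      mul_comm := fun a b => by
        obtain ⟨a, rfl⟩ := QuotientGroup.mk_surjective a
        obtain ⟨b, rfl⟩ := QuotientGroup.mk_surjective b
        rw [← QuotientGroup.mk_mul, ← QuotientGroup.mk_mul, QuotientGroup.eq]
        have := Basics.commutator_le_frattini (G := ↥S')
          (Subgroup.commutator_mem_commutator (Subgroup.mem_top b⁻¹) (Subgroup.mem_top a⁻¹))
        simpa [commutatorElement_def, mul_assoc] using this }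
    have hA2 : ∀ a : A, a ^ 2 = 1 := fun a => by
      obtain ⟨a, rfl⟩ := QuotientGroup.mk_surjective a
      rw [← QuotientGroup.mk_pow, QuotientGroup.eq_one_iff]
      exact Basics.pow_mem_frattini S.2 a
    let ϕ : ↥S' →* A := QuotientGroup.mk' _
    have hϕz : ϕ ⟨z, hzS⟩ ≠ 1 := fun h =>
      hzΦ ⟨⟨z, hzS⟩, (QuotientGroup.eq_one_iff _).1 h, rfl⟩
    let h : G ⧸ S' → A := fun q =>
      if hq : q.out⁻¹ * z * q.out ∈ S' then ϕ ⟨_, hq⟩ else 1
    -- independence of the representative
    have hwd : ∀ g : G, h (g : G ⧸ S') =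
        if hg : g⁻¹ * z * g ∈ S' then ϕ ⟨_, hg⟩ else 1 := by
      intro g
      obtain ⟨t, ht⟩ := QuotientGroup.mk_out_eq_mul S' g
      have e : (g * (t : G))⁻¹ * z * (g * t) = (t : G)⁻¹ * (g⁻¹ * z * g) * t := by group
      by_cases hg : g⁻¹ * z * g ∈ S'
      · have hq : (g : G ⧸ S').out⁻¹ * z * (g : G ⧸ S').out ∈ S' := by
          rw [ht, e]; exact mul_mem (mul_mem (inv_mem t.2) hg) t.2
        simp only [h, dif_pos hq, dif_pos hg]
        have : (⟨_, hq⟩ : ↥S') = t⁻¹ * ⟨_, hg⟩ * t := Subtype.ext (by simp [ht, mul_assoc])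
        rw [this, map_mul, map_mul, map_inv, mul_comm, ← mul_assoc, mul_inv_cancel, one_mul]
      · have hq : ¬ (g : G ⧸ S').out⁻¹ * z * (g : G ⧸ S').out ∈ S' := fun hq => hg (by
          rw [ht, e] at hq
          have := mul_mem (mul_mem t.2 hq) (inv_mem t.2)
          simpa [mul_assoc] using this)
        simp only [h, dif_neg hq, dif_neg hg]
    have hmemfix : ∀ q : G ⧸ S', z • q = q ↔ q.out⁻¹ * z * q.out ∈ S' := by
      intro q
      conv_lhs => rw [← Quotient.out_eq q]
      show ((z * q.out : G) : G ⧸ S') = (q.out : G ⧸ S') ↔ _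
      rw [eq_comm, QuotientGroup.eq, mul_assoc]
    letI : Fintype (G ⧸ S') := Fintype.ofFinite _
    letI : Fintype (Quotient (MulAction.orbitRel (Subgroup.zpowers z) (G ⧸ S'))) := Fintype.ofFinite _
    letI : Fintype (Quotient (MulAction.orbitRel ↥S' (G ⧸ S'))) := Fintype.ofFinite _
    -- the transfer of `z` as a product over all cosets
    have h1 : MonoidHom.transfer ϕ z = ∏ q : G ⧸ S', h q := by
      rw [MonoidHom.transfer_eq_prod_quotient_orbitRel_zpowers_quot, ← Finset.prod_fiberwise Finset.univ
        (fun q => (Quotient.mk'' q : Quotient (MulAction.orbitRel (Subgroup.zpowers z) (G ⧸ S')))) h]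
      refine Finset.prod_congr rfl fun o _ => ?_
      by_cases hf : z • o.out = o.out
      · have hper : Function.minimalPeriod (z • ·) o.out = 1 :=
          Function.minimalPeriod_eq_one_iff_isFixedPt.2 hf
        rw [Finset.prod_eq_single o.out ?_ (fun hn => absurd (by simp) hn)]
        · simp only [h, hper, pow_one, dif_pos ((hmemfix _).1 hf)]
        · intro q hq hne
          obtain ⟨⟨w, hw⟩, hwq⟩ := MulAction.orbitRel_apply.1
            (Quotient.eq''.1 ((Finset.mem_filter.1 hq).2.trans (Quotient.out_eq' o).symm))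
          refine absurd (hwq.symm.trans ?_) hne
          have hz' : z ∈ MulAction.stabilizer G o.out := hf
          exact (Subgroup.zpowers_le.2 hz') hw
      · have hper : Function.minimalPeriod (z • ·) o.out = 2 := by
          refine (Function.minimalPeriod_eq_prime_iff (p := 2)).2 ⟨?_, hf⟩
          show z • z • o.out = o.out
          rw [← mul_smul, ← pow_two, hz2, one_smul]
        have hone : ∀ q ∈ Finset.univ.filter (fun q => (Quotient.mk'' q :
            Quotient (MulAction.orbitRel (Subgroup.zpowers z) (G ⧸ S'))) = o), h q = 1 := by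
          intro q hq
          simp only [h]
          rw [dif_neg fun hq' => hf ?_]
          obtain ⟨⟨w, hw⟩, hwq⟩ := MulAction.orbitRel_apply.1
            (Quotient.eq''.1 ((Quotient.out_eq' o).trans (Finset.mem_filter.1 hq).2.symm))
          have hz' : z ∈ MulAction.stabilizer G q := (hmemfix q).2 hq'
          have hwo : o.out = q := hwq.symm.trans ((Subgroup.zpowers_le.2 hz') hw)
          rw [hwo]; exact hz'
        rw [Finset.prod_eq_one hone]
        refine Eq.trans (congrArg ϕ (Subtype.ext ?_)) (map_one ϕ)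
        show o.out.out⁻¹ * z ^ Function.minimalPeriod (z • ·) o.out * o.out.out = 1
        rw [hper, hz2, mul_one, inv_mul_cancel]
    -- the product over all cosets
    have hfixval : ∀ q : G ⧸ S', q ∈ MulAction.fixedPoints ↥S' (G ⧸ S') → h q = ϕ ⟨z, hzS⟩ := by
      intro q hq
      have hN : q.out⁻¹ ∈ Subgroup.normalizer (S' : Set G) := by
        refine Subgroup.mem_normalizer_fintype fun n hn => ?_
        have h' := hq ⟨n, hn⟩
        rw [← Quotient.out_eq q] at h'
        have h'' : ((n * q.out : G) : G ⧸ S') = (q.out : G ⧸ S') := h'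
        rw [eq_comm, QuotientGroup.eq, ← mul_assoc] at h''
        simpa using h''
      have hz' := hfix _ hN z hzΩ
      rw [inv_inv] at hz'
      simp only [h]
      rw [dif_pos (by rw [hz']; exact hzS)]
      exact congrArg ϕ (Subtype.ext hz')
    have hinv : ∀ (s : ↥S') (q : G ⧸ S'), h (s • q) = h q := by
      intro s q
      conv_lhs => rw [← Quotient.out_eq q]
      show h (((s : G) * q.out : G) : G ⧸ S') = h q
      have e : ((s : G) * q.out)⁻¹ * z * ((s : G) * q.out) = q.out⁻¹ * z * q.out := by
        have : (s : G)⁻¹ * z * s = z := by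
          rw [mul_assoc, ← hzc (s : G) s.2, inv_mul_cancel_left]
        calc _ = q.out⁻¹ * ((s : G)⁻¹ * z * s) * q.out := by group
          _ = _ := by rw [this]
      rw [hwd]
      by_cases hq : q.out⁻¹ * z * q.out ∈ S'
      · simp only [h, e, dif_pos hq]
      · simp only [h, e, dif_neg hq]
    have h2 : ∏ q : G ⧸ S', h q =
        ϕ ⟨z, hzS⟩ ^ (Finset.univ.filter (· ∈ MulAction.fixedPoints ↥S' (G ⧸ S'))).card := by
      rw [← Finset.prod_filter_mul_prod_filter_not Finset.univ (· ∈ MulAction.fixedPoints ↥S' (G ⧸ S')),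
        Finset.prod_eq_pow_card (fun q hq => hfixval q (Finset.mem_filter.1 hq).2)]
      rw [mul_eq_left, ← Finset.prod_fiberwise (Finset.univ.filter _)
        (fun q => (Quotient.mk'' q : Quotient (MulAction.orbitRel ↥S' (G ⧸ S')))) h]
      refine Finset.prod_eq_one fun o _ => ?_
      by_cases hfo : o.out ∈ MulAction.fixedPoints ↥S' (G ⧸ S')
      · refine Finset.prod_eq_one fun q hq => ?_
        obtain ⟨hq1, hq2⟩ := Finset.mem_filter.1 hq
        obtain ⟨s, hs⟩ := MulAction.orbitRel_apply.1
          (Quotient.eq''.1 (hq2.trans (Quotient.out_eq' o).symm))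
        exact absurd (hs.symm.trans (hfo s) ▸ hfo) (Finset.mem_filter.1 hq1).2
      · have hval : ∀ q ∈ (Finset.univ.filter fun q => ¬ q ∈ MulAction.fixedPoints ↥S' (G ⧸ S')).filter
            (fun q => (Quotient.mk'' q : Quotient (MulAction.orbitRel ↥S' (G ⧸ S'))) = o),
            h q = h o.out := by
          intro q hq
          obtain ⟨s, hs⟩ := MulAction.orbitRel_apply.1
            (Quotient.eq''.1 ((Finset.mem_filter.1 hq).2.trans (Quotient.out_eq' o).symm))
          rw [← hs]; exact hinv s o.out
        rw [Finset.prod_eq_pow_card hval]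
        have hc : ((Finset.univ.filter fun q => ¬ q ∈ MulAction.fixedPoints ↥S' (G ⧸ S')).filter
            (fun q => (Quotient.mk'' q : Quotient (MulAction.orbitRel ↥S' (G ⧸ S'))) = o)).card =
            Nat.card (MulAction.orbit ↥S' o.out) := by
          rw [← Nat.card_eq_finsetCard]
          refine Nat.card_congr (Equiv.subtypeEquivRight fun q => ?_)
          rw [Finset.mem_filter, Finset.mem_filter]
          constructor
          · intro hq
            exact MulAction.orbitRel_apply.1 (Quotient.eq''.1 (hq.2.trans (Quotient.out_eq' o).symm))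
          · intro hq
            refine ⟨⟨Finset.mem_univ _, fun hf => hfo ?_⟩,
              (Quotient.eq''.2 (MulAction.orbitRel_apply.2 hq)).trans (Quotient.out_eq' o)⟩
            obtain ⟨s, hs⟩ := hq
            have := hf s⁻¹
            rw [← hs, inv_smul_smul] at this
            exact this ▸ (hs ▸ hf)
        obtain ⟨n, hn⟩ := S.2.card_orbit o.out
        rw [hc, hn]
        rcases n with _ | n
        · exfalso
          rw [pow_zero, Nat.card_eq_one_iff_unique] at hn
          haveI := hn.1
          exact hfo fun s => congrArg Subtype.val (Subsingleton.elim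
            (⟨s • o.out, MulAction.mem_orbit o.out s⟩ : MulAction.orbit ↥S' o.out)
            ⟨o.out, MulAction.mem_orbit_self o.out⟩)
        · rw [pow_succ', pow_mul, hA2, one_pow]
    have hodd : Odd (Finset.univ.filter (· ∈ MulAction.fixedPoints ↥S' (G ⧸ S'))).card := by
      have hmod := S.2.card_modEq_card_fixedPoints (G ⧸ S')
      have he : Nat.card (MulAction.fixedPoints ↥S' (G ⧸ S')) =
          (Finset.univ.filter (· ∈ MulAction.fixedPoints ↥S' (G ⧸ S'))).card := by
        rw [← Nat.card_eq_finsetCard]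
        exact Nat.card_congr (Equiv.subtypeEquivRight fun q => by simp)
      unfold Nat.ModEq at hmod
      rw [Nat.odd_iff, ← he, ← hmod]
      exact Nat.two_dvd_ne_zero.1 S.not_dvd_index
    have h3 : MonoidHom.transfer ϕ z = ϕ ⟨z, hzS⟩ := by
      obtain ⟨m, hm⟩ := hodd
      rw [h1, h2, hm, pow_succ, pow_mul, hA2, one_pow, one_mul]
    have hker : pResidual 2 G ≤ (MonoidHom.transfer ϕ).ker := by
      rw [pResidual, Subgroup.closure_le]
      intro x hx
      refine MonoidHom.mem_ker.2 (orderOf_eq_one_iff.1 ?_)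
      exact Nat.eq_one_of_dvd_coprimes hx (orderOf_map_dvd _ x) (orderOf_dvd_of_pow_eq_one (hA2 _))
    rw [hres] at hker
    exact hϕz (h3.symm.trans (MonoidHom.mem_ker.1 (hker (Subgroup.mem_top z))))

end Cfsg.Agent.S2872
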