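import Cfsg.Statements.S2874
import Cfsg.Agent.Lib.LocalEvenA.AFourGL
import Mathlib.Tactic.Group

set_option autoImplicit false
open Cfsg

namespace Cfsg.Agent.S2874

/-- For k ≥ 2, any two subgroups of GL₂(ℤ/2ᵏℤ) (the automorphism group of the homocyclic group ℤ/2ᵏ × ℤ/2ᵏ) that are isomorphic to the alternating group of degree 4 are conjugate. -/
theorem result (k : ℕ) (hk : 2 ≤ k) (H₁ H₂ : Subgroup (GL (Fin 2) (ZMod (2 ^ k)))) (h₁ : Nonempty (↥H₁ ≃* ↥(alternatingGroup (Fin 4)))) (h₂ : Nonempty (↥H₂ ≃* ↥(alternatingGroup (Fin 4)))) : ∃ g : GL (Fin 2) (ZMod (2 ^ k)), H₂ = H₁.map (MulAut.conj g).toMonoidHom := by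
  obtain ⟨e₁⟩ := h₁
  obtain ⟨e₂⟩ := h₂
  obtain ⟨g₁, hg₁⟩ := LocalEvenA.AFourGL.exists_map_eq (by omega : 1 ≤ k) H₁ e₁
  obtain ⟨g₂, hg₂⟩ := LocalEvenA.AFourGL.exists_map_eq (by omega : 1 ≤ k) H₂ e₂
  refine ⟨g₂⁻¹ * g₁, ?_⟩
  ext x
  have h : ∀ y, g₂ * y * g₂⁻¹ ∈ H₂.map (MulAut.conj g₂).toMonoidHom ↔ y ∈ H₂ := fun y =>
    Subgroup.mem_map_iff_mem (MulAut.conj g₂).injective
  rw [← h x, hg₂, ← hg₁]
  simp only [Subgroup.mem_map, MulEquiv.coe_toMonoidHom, MulAut.conj_apply]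
  refine exists_congr fun y => and_congr_right fun _ => ?_
  constructor <;> intro e
  · calc g₂⁻¹ * g₁ * y * (g₂⁻¹ * g₁)⁻¹ = g₂⁻¹ * (g₁ * y * g₁⁻¹) * g₂ := by group
      _ = x := by rw [e]; group
  · rw [← e]; group

end Cfsg.Agent.S2874
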