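import Cfsg.Statements.S2879
import Cfsg.Agent.Lib.LocalEvenA.DihedralSolv

set_option autoImplicit false
open Cfsg

namespace Cfsg.Agent.S2879

/-- Let G be a finite solvable group with O(G) = 1 whose Sylow 2-subgroup T is dihedral of order at least 8 or semidihedral, with G ≠ T and Z(T) normal in G. Then G has a normal subgroup isomorphic to SL₂(3). -/
theorem result {G : Type*} [Group G] [Finite G] (hsol : IsSolvable G) (hO : Cfsg.oddCore G = ⊥) (T : Sylow 2 G) (hT : (∃ n : ℕ, 4 ≤ n ∧ Nonempty (↥(T : Subgroup G) ≃* DihedralGroup n)) ∨ Cfsg.IsQuasiDihedral ↥(T : Subgroup G)) (hne : (T : Subgroup G) ≠ ⊤) (hZ : ((T : Subgroup G) ⊓ Subgroup.centralizer ((T : Subgroup G) : Set G)).Normal) : ∃ U : Subgroup G, U.Normal ∧ Nonempty (↥U ≃* Matrix.SpecialLinearGroup (Fin 2) (ZMod 3)) := by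
  haveI : Group.IsSolvable G := hsol
  haveI : Fact (Nat.Prime 2) := ⟨Nat.prime_two⟩
  have hD : ∃ C : Subgroup ↥(T : Subgroup G), LocalEvenA.DihLike ⊤ C := by
    rcases hT with ⟨n, hn, ⟨e⟩⟩ | hq
    · refine LocalEvenA.dihLike_dihedral hn e ?_
      obtain ⟨k, hk⟩ := IsPGroup.iff_card.1 T.2
      rw [Nat.card_congr e.toEquiv, DihedralGroup.nat_card] at hk
      rcases k with _ | _ | _ | k
      · omega
      · omega
      · omega
      · exact ⟨2 ^ k, by rw [pow_succ, pow_succ, pow_succ] at hk; omega⟩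
    · exact LocalEvenA.dihLike_quasiDihedral hq
  obtain ⟨C, hC⟩ := hD
  have hC' := LocalEvenA.dihLike_map hC (T : Subgroup G).subtype (T : Subgroup G).subtype_injective
  rw [Subgroup.range_subtype] at hC'
  exact LocalEvenA.exists_sl23_of_dihLike hO T hC' hne hZ

end Cfsg.Agent.S2879
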