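import Cfsg.Statements.S2880
import Cfsg.Agent.Lib.LocalEvenA.ExtraTwo
import Cfsg.Agent.Lib.Basics.Frattini
import Cfsg.Agent.Lib.LocalEvenA.PReduced

set_option autoImplicit false
open Cfsg

namespace Cfsg.Agent.S2880

/-- Let E be an extraspecial 2-group of order 2^(2m+1) of plus type, that is, containing an elementary abelian subgroup of order 2^(m+1) (equivalently, a central product of m dihedral groups of order 8). Then E has exactly 2^(2m) − 2^m elements of order 4. -/
theorem result {E : Type*} [Group E] [Finite E] (m : ℕ) (hm : 1 ≤ m) (hE : Cfsg.IsExtraspecial 2 E) (hcard : Nat.card E = 2 ^ (2 * m + 1)) (hplus : ∃ A : Subgroup E, Cfsg.IsElementaryAbelian 2 A ∧ Nat.card A = 2 ^ (m + 1)) : Nat.card {x : E // orderOf x = 4} = 2 ^ (2 * m) - 2 ^ m := by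
  classical
    haveI : Fact (Nat.Prime 2) := ⟨Nat.prime_two⟩
    obtain ⟨A, hA, hAcard⟩ := hplus
    have hsq : ∀ x : E, x ^ 2 ∈ Subgroup.center E := fun x =>
      hE.1.2.1 ▸ Basics.pow_mem_frattini hE.1.1 x
    have hAc : A ≤ Subgroup.centralizer (A : Set E) := fun a ha b hb => LocalEvenA.elemAb_comm hA hb ha
    have hAZ : Subgroup.center E ≤ A := by
      by_contra hn
      set R := A ⊔ Subgroup.center E with hR
      have h1 := LocalEvenA.card_centralizer_mul_card_le hE hsq R le_sup_right
      have h2 : R ≤ Subgroup.centralizer (R : Set E) := by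
        have : R ≤ Subgroup.centralizer (A : Set E) :=
          sup_le hAc (fun z hz a _ => Subgroup.mem_center_iff.1 hz a)
        refine sup_le (Subgroup.le_centralizer_iff.1 this) ?_
        exact fun z hz a _ => Subgroup.mem_center_iff.1 hz a
      have h3 : 2 ^ (m + 2) ≤ Nat.card R := by
        obtain ⟨k, hk⟩ := Subgroup.card_dvd_of_le (le_sup_left : A ≤ R)
        rcases k with _ | _ | k
        · exact absurd hk (by rw [mul_zero]; exact Nat.card_pos.ne')
        · exact absurd (Subgroup.eq_of_le_of_card_ge (le_sup_left : A ≤ R) (by simp [hk]))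
            (fun he => hn ((le_sup_right).trans he.ge))
        · rw [hk, hAcard, pow_succ, show k + 1 + 1 = k + 2 from rfl]
          exact Nat.mul_le_mul_left _ (by omega)
      have h4 : 2 ^ (m + 2) * 2 ^ (m + 2) ≤ 2 ^ (2 * m + 1) * 2 := by
        refine le_trans ?_ (hcard ▸ h1)
        exact Nat.mul_le_mul (h3.trans (Subgroup.card_le_of_le h2)) h3
      rw [← pow_add, ← pow_succ] at h4
      have := (Nat.pow_le_pow_iff_right (le_refl 2)).1 h4
      omega
    have hCA : Subgroup.centralizer (A : Set E) = A := by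
      refine (Subgroup.eq_of_le_of_card_ge hAc ?_).symm
      have h1 := LocalEvenA.card_centralizer_mul_card_le hE hsq A hAZ
      rw [hcard, hAcard] at h1
      rw [hAcard]
      exact Nat.le_of_mul_le_mul_right (h1.trans_eq (by rw [← pow_succ, ← pow_add]; congr 1; omega))
        (by positivity)
    haveI : A.Normal := by
      refine ⟨fun a ha g => ?_⟩
      have h1 : g * a * g⁻¹ * a⁻¹ ∈ A := hAZ (ClassK.commutator_mem_center_of_special hE.1 g a)
      simpa using mul_mem h1 ha
    -- the fibres
    letI : Fintype (E ⧸ A) := Fintype.ofFinite _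
    letI : Fintype E := Fintype.ofFinite _
    have hidx : Fintype.card (E ⧸ A) = 2 ^ m := by
      rw [← Nat.card_eq_fintype_card]
      refine Nat.eq_of_mul_eq_mul_right (show 0 < 2 ^ (m + 1) by positivity) ?_
      conv_lhs => rw [← hAcard]
      rw [← Subgroup.card_eq_card_quotient_mul_card_subgroup, hcard, ← pow_add]
      congr 1; omega
    have hfib : ∀ q : E ⧸ A, q ≠ 1 →
        Nat.card {a : ↥A // (q.out * (a : E)) ^ 2 = 1} = 2 ^ m := by
      intro q hq
      set g := q.out
      let χ : ↥A →* ↥(Subgroup.center E) :=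
        { toFun := fun a => ⟨g⁻¹ * a * g * a, by
            have h1 : (a : E)⁻¹ = a := by
              rw [inv_eq_iff_mul_eq_one, ← pow_two, hA.2 _ a.2]
            have := ClassK.commutator_mem_center_of_special hE.1 g⁻¹ (a : E)
            simpa [h1] using this⟩
          map_one' := Subtype.ext (by simp)
          map_mul' := fun a b => Subtype.ext (by
            have h2 : g⁻¹ * (b : E) * g ∈ A := by
              simpa using (inferInstance : A.Normal).conj_mem _ b.2 g⁻¹
            have h3 : g⁻¹ * (b : E) * g * a = a * (g⁻¹ * b * g) := LocalEvenA.elemAb_comm hA h2 a.2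
            show g⁻¹ * ((a : E) * b) * g * ((a : E) * b) = g⁻¹ * a * g * a * (g⁻¹ * b * g * b)
            calc _ = g⁻¹ * a * g * ((g⁻¹ * b * g * a) * b) := by group
              _ = _ := by rw [h3]; group) }
      have hgA : g ∉ A := fun h => hq (by
        rw [← Quotient.out_eq q]; exact (QuotientGroup.eq_one_iff g).2 h)
      have hsurj : χ.range = ⊤ := by
        refine Subgroup.eq_top_of_le_card _ ?_
        rw [hE.2]
        by_contra hlt
        push_neg at hlt
        refine hgA (hCA.le fun a ha => ?_)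
        have hbot : χ.range = ⊥ := Subgroup.eq_bot_of_card_le _ (by omega)
        have h1 : χ ⟨a, ha⟩ = 1 := Subgroup.mem_bot.1 (hbot ▸ (⟨⟨a, ha⟩, rfl⟩ : χ ⟨a, ha⟩ ∈ χ.range))
        have h2 : g⁻¹ * a * g * a = 1 := congrArg Subtype.val h1
        have h3 : a⁻¹ = a := by rw [inv_eq_iff_mul_eq_one, ← pow_two, hA.2 _ ha]
        rw [mul_eq_one_iff_eq_inv, h3] at h2
        calc a * g = g * (g⁻¹ * a * g) := by group
          _ = g * a := by rw [h2]
      have hc : (g ^ 2)⁻¹ ∈ Subgroup.center E := inv_mem (hsq g)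
      let zc : ↥(Subgroup.center E) := ⟨(g ^ 2)⁻¹, hc⟩
      obtain ⟨a0, ha0⟩ := (hsurj.ge (Subgroup.mem_top zc) : ∃ a0, χ a0 = zc)
      have hiff : ∀ a : ↥A, (g * (a : E)) ^ 2 = 1 ↔ χ a = χ a0 := fun a => by
        rw [ha0, Subtype.ext_iff]
        show _ ↔ g⁻¹ * (a : E) * g * a = (g ^ 2)⁻¹
        rw [eq_inv_iff_mul_eq_one]
        have hz := Subgroup.mem_center_iff.1 (hsq g) (g⁻¹ * (a : E) * g * a)
        rw [hz, show g ^ 2 * (g⁻¹ * (a : E) * g * a) = (g * a) ^ 2 by rw [pow_two, pow_two]; group]
      have e : {a : ↥A // (g * (a : E)) ^ 2 = 1} ≃ ↥χ.ker :=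
        { toFun := fun a => ⟨a0⁻¹ * a, by
            rw [MonoidHom.mem_ker, map_mul, map_inv, (hiff a.1).1 a.2, inv_mul_cancel]⟩
          invFun := fun k => ⟨a0 * k, (hiff _).2 (by rw [map_mul, MonoidHom.mem_ker.1 k.2, mul_one])⟩
          left_inv := fun a => Subtype.ext (by simp)
          right_inv := fun k => Subtype.ext (by simp) }
      rw [Nat.card_congr e]
      have h1 := χ.ker.card_mul_index
      rw [Subgroup.index_ker, hsurj, Subgroup.card_top, hE.2, hAcard, pow_succ] at h1
      exact Nat.eq_of_mul_eq_mul_right two_pos h1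
    have hone : Nat.card {a : ↥A // ((1 : E ⧸ A).out * (a : E)) ^ 2 = 1} = 2 ^ (m + 1) := by
      have hmem : (1 : E ⧸ A).out ∈ A := (QuotientGroup.eq_one_iff _).1 (Quotient.out_eq _)
      rw [Nat.card_congr (Equiv.subtypeUnivEquiv (fun a => hA.2 _ (mul_mem hmem a.2)))]
      exact hAcard
    have e2 : {x : E // x ^ 2 = 1} ≃ (q : E ⧸ A) × {a : ↥A // (q.out * (a : E)) ^ 2 = 1} :=
      { toFun := fun x => ⟨(x.1 : E ⧸ A), ⟨(x.1 : E ⧸ A).out⁻¹ * x.1,
          QuotientGroup.eq.1 (Quotient.out_eq _)⟩, by simpa using x.2⟩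
        invFun := fun y => ⟨y.1.out * (y.2.1 : E), y.2.2⟩
        left_inv := fun x => Subtype.ext (by simp)
        right_inv := fun ⟨q, a, ha⟩ => by
          have hq : ((q.out * (a : E) : E) : E ⧸ A) = q := by
            rw [QuotientGroup.mk_mul, (QuotientGroup.eq_one_iff (a : E)).2 a.2, mul_one]
            exact Quotient.out_eq q
          refine Sigma.subtype_ext ?_ ?_
          · exact hq
          · exact Subtype.ext (by simp [hq]) }
    have hN1 : Nat.card {x : E // x ^ 2 = 1} = 2 ^ (2 * m) + 2 ^ m := by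
      rw [Nat.card_congr e2, Nat.card_sigma, ← Finset.add_sum_erase _ _ (Finset.mem_univ (1 : E ⧸ A)),
      hone, Finset.sum_congr rfl (fun q hq => hfib q (Finset.ne_of_mem_erase hq)), Finset.sum_const,
      Finset.card_erase_of_mem (Finset.mem_univ _), Finset.card_univ, hidx,
      smul_eq_mul, pow_succ, two_mul, pow_add]
      have : 1 ≤ 2 ^ m := Nat.one_le_two_pow
      obtain ⟨k, hk⟩ := Nat.exists_eq_add_of_le this
      rw [hk]
      simp only [Nat.add_sub_cancel_left]
      ring
    have hpart : Nat.card {x : E // x ^ 2 = 1} + Nat.card {x : E // orderOf x = 4} = Nat.card E := by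
      rw [← Nat.card_sum]
      refine Nat.card_congr ((Equiv.sumCongr (Equiv.refl _) (Equiv.subtypeEquivRight fun x => ?_)).trans
        (Equiv.sumCompl (fun x : E => x ^ 2 = 1)))
      have h4 : x ^ 4 = 1 := by
        have h1 : (⟨x ^ 2, hsq x⟩ : ↥(Subgroup.center E)) ^ 2 = 1 := by
          conv_lhs => arg 2; rw [← hE.2]
          exact pow_card_eq_one'
        calc x ^ 4 = (x ^ 2) ^ 2 := by rw [← pow_mul]
          _ = 1 := congrArg Subtype.val h1
      constructor
      · intro hx h2
        have := orderOf_dvd_of_pow_eq_one h2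
        rw [hx] at this
        norm_num at this
      · intro hx
        refine orderOf_eq_prime_pow (p := 2) (n := 1) (by simpa using hx) (by simpa using h4)
    rw [hN1, hcard] at hpart
    have h5 : 2 ^ (2 * m + 1) = 2 ^ (2 * m) + 2 ^ (2 * m) := by rw [pow_succ]; ring
    omega

end Cfsg.Agent.S2880
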