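import Cfsg.Statements.S2881
import Cfsg.Agent.Lib.LocalEvenA.PlusType
import Mathlib.GroupTheory.Perm.Cycle.Type

set_option autoImplicit false
open Cfsg

namespace Cfsg.Agent.S2881

/-- Let E be an extraspecial 2-group of order 2^(2m+1) of plus type (containing an elementary abelian subgroup of order 2^(m+1)), and let ω be an automorphism of E of order 5 whose fixed points are exactly the centre of E. Then m is divisible by 4. -/
theorem result {E : Type*} [Group E] [Finite E] (m : ℕ) (hm : 1 ≤ m) (hE : Cfsg.IsExtraspecial 2 E) (hcard : Nat.card E = 2 ^ (2 * m + 1)) (hplus : ∃ A : Subgroup E, Cfsg.IsElementaryAbelian 2 A ∧ Nat.card A = 2 ^ (m + 1)) (ω : E ≃* E) (hω : orderOf ω = 5) (hfix : ∀ x : E, ω x = x ↔ x ∈ Subgroup.center E) : 4 ∣ m := by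
  classical
  haveI := Fintype.ofFinite E
  haveI : Fact (Nat.Prime 5) := ⟨by norm_num⟩
  haveI : Fact (Nat.Prime 2) := ⟨Nat.prime_two⟩
  obtain ⟨A, hA, hAc⟩ := hplus
  have hcount := LocalEvenA.card_sq_eq_one hE hcard hA hAc
  have hz2 : ∀ x ∈ Subgroup.center E, x ^ 2 = 1 := fun x hx => by
    have h : (⟨x, hx⟩ : ↥(Subgroup.center E)) ^ Nat.card ↥(Subgroup.center E) = 1 := pow_card_eq_one'
    rw [hE.2] at h
    exact congrArg Subtype.val h
  let f : Function.End {x : E // x ^ 2 = 1} := fun x => ⟨ω x.1, by rw [← map_pow, x.2, map_one]⟩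
  have hpow : ∀ (n : ℕ) (x : {x : E // x ^ 2 = 1}), ((f ^ n) x : {x : E // x ^ 2 = 1}).1 = (ω ^ n) x.1 := by
    intro n
    induction n with
    | zero => intro x; rfl
    | succ n ih => intro x; rw [pow_succ, pow_succ]; exact ih (f x)
  have hf : f ^ 5 ^ 1 = 1 := by
    funext x
    refine Subtype.ext ((hpow _ x).trans ?_)
    rw [pow_one, ← hω, pow_orderOf_eq_one]
    rfl
  have h1 := Equiv.Perm.card_fixedPoints_modEq (p := 5) hf
  have h2 : Fintype.card ↥(Function.fixedPoints f) = 2 := by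
    rw [← Nat.card_eq_fintype_card]
    refine (Nat.card_congr ?_).trans hE.2
    exact ⟨fun q => ⟨q.1.1, (hfix _).1 (congrArg Subtype.val q.2)⟩,
      fun c => ⟨⟨c.1, hz2 c.1 c.2⟩, Subtype.ext ((hfix _).2 c.2)⟩, fun _ => rfl, fun _ => rfl⟩
  rw [h2, ← Nat.card_eq_fintype_card, hcount] at h1
  -- freeness on `E` as a whole gives `m` even
  let g : Function.End E := fun x => ω x
  have hg : g ^ 5 ^ 1 = 1 := by
    have hgpow : ∀ (n : ℕ) (x : E), (g ^ n) x = (ω ^ n) x := by
      intro n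
      induction n with
      | zero => intro x; rfl
      | succ n ih => intro x; rw [pow_succ, pow_succ]; exact ih (g x)
    funext x
    rw [hgpow, pow_one, ← hω, pow_orderOf_eq_one]
    rfl
  have h3 := Equiv.Perm.card_fixedPoints_modEq (p := 5) hg
  have h4 : Fintype.card ↥(Function.fixedPoints g) = 2 := by
    rw [← Nat.card_eq_fintype_card]
    refine (Nat.card_congr ?_).trans hE.2
    exact (Equiv.subtypeEquivRight fun x => hfix x)
  rw [h4, ← Nat.card_eq_fintype_card, hcard] at h3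
  have e1 : 2 ^ (2 * m) % 5 = 4 ^ (m % 2) % 5 := by
    conv_lhs => rw [pow_mul, show (2 : ℕ) ^ 2 = 4 from rfl, ← Nat.div_add_mod m 2, pow_add, pow_mul,
      Nat.mul_mod, Nat.pow_mod]
    norm_num
  have e2 : 2 ^ m % 5 = 2 ^ (m % 4) % 5 := by
    conv_lhs => rw [← Nat.div_add_mod m 4, pow_add, pow_mul, Nat.mul_mod, Nat.pow_mod]
    norm_num
  have e3 : 2 ^ (2 * m + 1) = 2 * 2 ^ (2 * m) := by ring
  rw [e3] at h3
  unfold Nat.ModEq at h1 h3
  rw [Nat.dvd_iff_mod_eq_zero]
  rw [Nat.add_mod, e1, e2] at h1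
  rw [Nat.mul_mod, e1] at h3
  have h5 : m % 2 = m % 4 % 2 := by omega
  have h6 : m % 4 < 4 := Nat.mod_lt _ (by norm_num)
  rw [h5] at h1 h3
  generalize m % 4 = r at h1 h3 h6 ⊢
  interval_cases r <;> first | rfl | (revert h1 h3; decide)

end Cfsg.Agent.S2881
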