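import Cfsg.Statements.S2905
import Cfsg.Agent.Lib.Coprime23.SocleNormalizes
import Cfsg.Agent.Lib.LocalEvenA.Subnormal
import Cfsg.Agent.Lib.LocalEvenA.Large2
import Cfsg.Agent.Lib.Transfer.Residual
import Cfsg.Agent.Lib.Basics.Tools

set_option autoImplicit false
open Cfsg

namespace Cfsg.Agent.S2905

/-- Let P be a finite p-minimal group (a Sylow p-subgroup S is not normal and lies in a unique maximal subgroup M of P) and let F be the normal core of M. Then: every subnormal subgroup N of P contained in M satisfies N ∩ S ≤ O_p(P); if O^p(P) has a normal Sylow p-subgroup then the order of P has at most two prime divisors; every normal subgroup N of P either contains O^p(P) or is contained in F; and O^p(P)F ⧸ F is a minimal normal subgroup of P ⧸ F. -/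
theorem result {P : Type*} [Group P] [Finite P] {p : ℕ} [Fact p.Prime] (hP : Cfsg.IsPMinimal p P) (S : Sylow p P) (M : Subgroup P) (hM : IsCoatom M) (hSM : (S : Subgroup P) ≤ M) [hF : M.normalCore.Normal] : (∀ N : Subgroup P, N.IsSubnormal → N ≤ M → N ⊓ (S : Subgroup P) ≤ Cfsg.pCore p P) ∧ ((∀ T : Sylow p ↥(Cfsg.pResidual p P), (T : Subgroup ↥(Cfsg.pResidual p P)).Normal) → (Nat.card P).primeFactors.card ≤ 2) ∧ (∀ N : Subgroup P, N.Normal → Cfsg.pResidual p P ≤ N ∨ N ≤ M.normalCore) ∧ (∀ N : Subgroup P, N.Normal → M.normalCore ≤ N → N ≤ Cfsg.pResidual p P ⊔ M.normalCore → N = M.normalCore ∨ N = Cfsg.pResidual p P ⊔ M.normalCore) ∧ M.normalCore < Cfsg.pResidual p P ⊔ M.normalCore := by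
  classical
    obtain ⟨hSn, hMu⟩ := hP S
    have huniq : ∀ X : Subgroup P, (S : Subgroup P) ≤ X → X = ⊤ ∨ X ≤ M := fun X hX => by
      rcases eq_top_or_exists_le_coatom X with h | ⟨C, hC, hXC⟩
      · exact Or.inl h
      · exact Or.inr (hMu.unique ⟨hC, hX.trans hXC⟩ ⟨hM, hSM⟩ ▸ hXC)
    set F := M.normalCore with hFdef
    have hFM : F ≤ M := M.normalCore_le
    set R := pResidual p P with hR
    haveI := LocalEvenA.pResidual_characteristic' p P
    have hRS : R ⊔ (S : Subgroup P) = ⊤ := by rw [hR, Transfer.pResidual_sup_sylow]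
    have hRM : ¬ R ≤ M := fun h => hM.1 (top_le_iff.1 (hRS.symm.le.trans (sup_le h hSM)))
    have hpart3 : ∀ N : Subgroup P, N.Normal → R ≤ N ∨ N ≤ F := by
      intro N hN
      haveI := hN
      rcases huniq (N ⊔ (S : Subgroup P)) le_sup_right with h | h
      · refine Or.inl (LocalEvenA.pResidual_le_of_isPGroup_quotient ?_)
        intro q
        obtain ⟨x, rfl⟩ := QuotientGroup.mk_surjective q
        obtain ⟨n, hn, s, hs, rfl⟩ := Subgroup.mem_sup_of_normal_left.1 (h.symm ▸ Subgroup.mem_top x : x ∈ N ⊔ (S : Subgroup P))
        obtain ⟨k, hk⟩ := S.2 ⟨s, hs⟩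
        refine ⟨k, ?_⟩
        rw [QuotientGroup.mk_mul, (QuotientGroup.eq_one_iff n).2 hn, one_mul, ← QuotientGroup.mk_pow,
          show s ^ p ^ k = 1 from congrArg Subtype.val hk, QuotientGroup.mk_one]
      · exact Or.inr (Subgroup.normal_le_normalCore.2 (le_sup_left.trans h))
    refine ⟨?_, ?_, hpart3, ?_, ?_⟩
    · intro N hN hNM
      refine (inf_le_inf_right _ (Coprime23.le_normalCore_of_subnormal hM hN hNM)).trans ?_
      haveI : F.Normal := inferInstance
      obtain ⟨Q, hQ⟩ := LocalEvenA.exists_sylow_subgroupOf_normal S F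
      have h1 := Sylow.normalizer_sup_eq_top Q
      have hQ' : (Q : Subgroup ↥F).map F.subtype = F ⊓ (S : Subgroup P) := by
        rw [hQ, Subgroup.subgroupOf_map_subtype, inf_comm]
      rw [hQ'] at h1
      rcases huniq (Subgroup.normalizer ((F ⊓ (S : Subgroup P) : Subgroup P) : Set P))
        (LocalEvenA.le_normalizer_inf (LocalEvenA.le_normalizer_of_le_top F _) Subgroup.le_normalizer) with h | h
      · exact LocalEvenA.le_pCore_of_normal (Subgroup.normalizer_eq_top_iff.1 h) (S.2.to_le inf_le_right)
      · exact absurd (top_le_iff.1 (h1.symm.le.trans (sup_le h hFM))) hM.1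
    · intro hT
      obtain ⟨Tp⟩ : Nonempty (Sylow p ↥R) := inferInstance
      haveI := hT Tp
      haveI := Tp.characteristic_of_normal inferInstance
      set Rp := (Tp : Subgroup ↥R).map R.subtype with hRp
      haveI hRpn : Rp.Normal := inferInstance
      have hRpp : IsPGroup p ↥Rp := Tp.2.map _
      by_contra hbig
      refine hRM ?_
      have hkey : ∀ q : ℕ, q.Prime → q ∣ Nat.card ↥R →
          q ^ (Nat.card ↥R).factorization q ∣ Nat.card ↥(M ⊓ R : Subgroup P) := by
        intro q hq hqd
        haveI := Fact.mk hq
        rcases eq_or_ne q p with rfl | hqp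
        · have hle : Rp ≤ M ⊓ R := le_inf ((hRpp.le_sylow_of_normal S).trans hSM) (Subgroup.map_subtype_le _)
          refine dvd_trans ?_ (Subgroup.card_dvd_of_le hle)
          rw [hRp, Subgroup.card_map_of_injective R.subtype_injective, Tp.card_eq_multiplicity]
        obtain ⟨Q0⟩ : Nonempty (Sylow q ↥R) := inferInstance
        set Q := (Q0 : Subgroup ↥R).map R.subtype with hQ
        set W := Q ⊔ Rp with hW
        have hWn : R ⊔ Subgroup.normalizer (W : Set P) = ⊤ := by
          refine top_le_iff.1 ((Sylow.normalizer_sup_eq_top Q0).symm.le.trans (sup_le ?_ le_sup_left))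
          refine le_trans ?_ le_sup_right
          exact LocalEvenA.le_normalizer_of_cj_le fun k hk => by
            rw [hW, LocalEvenA.cj, Subgroup.map_sup]
            exact sup_le_sup (LocalEvenA.mem_normalizer_iff_cj.1 hk).le
              (LocalEvenA.mem_normalizer_iff_cj.1 (LocalEvenA.le_normalizer_of_le_top Rp ⊤ (Subgroup.mem_top k))).le
        -- the normalizer of `W` contains a Sylow `p`-subgroup of `P`
        set N := Subgroup.normalizer (W : Set P) with hN
        have hpi : ¬ p ∣ N.index := by
          have hRW : ((Tp : Subgroup ↥R)).map R.subtype ≤ N :=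
            le_sup_right.trans Subgroup.le_normalizer
          have h2 : N.index ∣ Rp.relIndex R := by
            have h3 : N.index = N.relIndex R := by
              have h5 := Basics.card_mul_card_eq_card_sup_mul_card_inf (N := R) (H := N)
                (LocalEvenA.le_normalizer_of_le_top R N)
              rw [hWn, Subgroup.card_top, ← N.card_mul_index] at h5
              have h6 := Subgroup.card_mul_index (N.subgroupOf R)
              rw [← Subgroup.inf_subgroupOf_left, Nat.card_congr (Subgroup.subgroupOfEquivOfLe inf_le_left).toEquiv,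
                Subgroup.inf_subgroupOf_left, ← Subgroup.relIndex] at h6
              have h7 : Nat.card ↥N * Nat.card ↥(R ⊓ N : Subgroup P) * N.index =
                  Nat.card ↥N * Nat.card ↥(R ⊓ N : Subgroup P) * N.relIndex R := by
                rw [mul_assoc (Nat.card ↥N) _ (N.relIndex R), h6]; linarith [h5]
              exact Nat.eq_of_mul_eq_mul_left (Nat.mul_pos Nat.card_pos Nat.card_pos) h7
            rw [h3]
            exact Subgroup.relIndex_dvd_of_le_left R hRW
          intro hd
          have h4 := hd.trans h2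
          rw [hRp, Subgroup.relIndex, Subgroup.subgroupOf,
            Subgroup.comap_map_eq_self_of_injective R.subtype_injective] at h4
          exact Tp.not_dvd_index h4
        obtain ⟨SN⟩ : Nonempty (Sylow p ↥N) := inferInstance
        obtain ⟨g, hg⟩ : ∃ g : P, (S : Subgroup P) ≤ N.map (MulAut.conj g).toMonoidHom := by
          have hidx : ¬ p ∣ ((SN : Subgroup ↥N).map N.subtype).index := by
            rw [Subgroup.index_map_subtype]
            exact fun hd => ((Fact.out : p.Prime).dvd_mul.1 hd).elim SN.not_dvd_index hpi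
          obtain ⟨g, hg⟩ := MulAction.exists_smul_eq P ((SN.2.map N.subtype).toSylow hidx) S
          refine ⟨g, ?_⟩
          rw [← hg, Sylow.coe_subgroup_smul]
          exact Subgroup.map_mono (Subgroup.map_subtype_le _)
        set c := (MulAut.conj g).toMonoidHom
        have hSW : (S : Subgroup P) ≤ Subgroup.normalizer ((W.map c : Subgroup P) : Set P) :=
          hg.trans (Subgroup.le_normalizer_map c)
        rcases huniq (W.map c ⊔ (S : Subgroup P)) le_sup_right with h | h
        · exfalso
          refine hbig (le_trans (Finset.card_le_card (t := {p, q}) ?_) Finset.card_le_two)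
          intro r hr
          obtain ⟨hrp, hrd, -⟩ := Nat.mem_primeFactors.1 hr
          by_contra hrn
          simp only [Finset.mem_insert, Finset.mem_singleton, not_or] at hrn
          haveI := Fact.mk hrp
          obtain ⟨x, hx⟩ := exists_prime_orderOf_dvd_card' (G := P) r hrd
          -- modulo `Rp`, every element is a product of a `q`-part and a `p`-part
          have hsn : (S : Subgroup P) ≤ Subgroup.normalizer ((W.map c : Subgroup P) : Set P) := hSW
          have hxm : x ∈ ((W.map c ⊔ (S : Subgroup P) : Subgroup P) : Set P) := by rw [h]; trivial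
          rw [Subgroup.coe_mul_of_right_le_normalizer_left _ _ hsn] at hxm
          have hcard : Nat.card P ∣ Nat.card ↥(W.map c) * Nat.card ↥(S : Subgroup P) := by
            have h5 := Basics.card_mul_card_eq_card_sup_mul_card_inf (N := W.map c) (H := (S : Subgroup P)) hsn
            rw [h, Subgroup.card_top] at h5
            exact Dvd.intro _ h5.symm
          have hWcard : Nat.card ↥(W.map c) ∣ Nat.card ↥Q * Nat.card ↥Rp := by
            rw [Subgroup.card_map_of_injective (f := c) (MulAut.conj g).injective]
            have h6 := Basics.card_mul_card_eq_card_sup_mul_card_inf (N := Rp) (H := Q)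
              (LocalEvenA.le_normalizer_of_le_top Rp Q)
            rw [hW, sup_comm, mul_comm]
            exact Dvd.intro _ h6.symm
          obtain ⟨a, ha⟩ := IsPGroup.iff_card.1 (Q0.2.map R.subtype)
          obtain ⟨b, hb⟩ := IsPGroup.iff_card.1 hRpp
          obtain ⟨d, hd⟩ := IsPGroup.iff_card.1 S.2
          have h7 : r ∣ q ^ a * p ^ b * p ^ d := by
            rw [← ha, ← hb, ← hd]
            exact hrd.trans (hcard.trans (mul_dvd_mul_right hWcard _))
          rcases hrp.dvd_mul.1 h7 with h8 | h8
          · rcases hrp.dvd_mul.1 h8 with h9 | h9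
            · exact hrn.2 ((Nat.prime_dvd_prime_iff_eq hrp hq).1 (hrp.dvd_of_dvd_pow h9))
            · exact hrn.1 ((Nat.prime_dvd_prime_iff_eq hrp Fact.out).1 (hrp.dvd_of_dvd_pow h9))
          · exact hrn.1 ((Nat.prime_dvd_prime_iff_eq hrp Fact.out).1 (hrp.dvd_of_dvd_pow h8))
        · have hQM : Q.map c ≤ M ⊓ R := le_inf ((Subgroup.map_mono le_sup_left).trans (le_sup_left.trans h)) (by
            rintro _ ⟨y, hy, rfl⟩
            exact (inferInstance : R.Normal).conj_mem y (Subgroup.map_subtype_le _ hy) g)
          refine dvd_trans ?_ (Subgroup.card_dvd_of_le hQM)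
          rw [Subgroup.card_map_of_injective (f := c) (MulAut.conj g).injective, hQ,
            Subgroup.card_map_of_injective R.subtype_injective, Q0.card_eq_multiplicity]
      have hRle : Nat.card ↥R ∣ Nat.card ↥(M ⊓ R : Subgroup P) := by
        refine (Nat.factorization_le_iff_dvd Nat.card_pos.ne' Nat.card_pos.ne').1 fun q => ?_
        by_cases hq : q.Prime ∧ q ∣ Nat.card ↥R
        · exact (hq.1.pow_dvd_iff_le_factorization Nat.card_pos.ne').1 (hkey q hq.1 hq.2)
        · rcases not_and_or.1 hq with h | h
          · rw [Nat.factorization_eq_zero_of_not_prime _ h]; exact Nat.zero_le _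
          · rw [Nat.factorization_eq_zero_of_not_dvd h]; exact Nat.zero_le _
      exact (Subgroup.eq_of_le_of_card_ge inf_le_right (Nat.le_of_dvd Nat.card_pos hRle)).ge.trans inf_le_left
    · intro N hN hFN hNR
      rcases hpart3 N hN with h | h
      · exact Or.inr (le_antisymm hNR (sup_le h hFN))
      · exact Or.inl (le_antisymm h hFN)
    · exact lt_of_le_of_ne le_sup_right fun e => hRM (le_sup_left.trans (e.symm.le.trans hFM))

end Cfsg.Agent.S2905
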