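import Cfsg.Statements.S2906
import Cfsg.Agent.Lib.LocalEvenA.PMinComp
import Cfsg.Agent.Lib.Components.PPrimeCore
import Cfsg.Agent.Lib.Components.CompAction

set_option autoImplicit false
open Cfsg
open Subgroup
open scoped commutatorElement Pointwise

namespace Cfsg.Agent.S2906

/-- Let P be a finite p-minimal group with O_p(P) = 1, S a Sylow p-subgroup of P and K a component of P. Then O^p(P) = F*(P) = E(P) is generated by the S-conjugates of K, and the subgroup K·N_S(K) is again p-minimal. -/
theorem result {P : Type*} [Group P] [Finite P] {p : ℕ} [Fact p.Prime] (hP : Cfsg.IsPMinimal p P) (hOp : Cfsg.pCore p P = ⊥) (S : Sylow p P) (K : Subgroup P) (hK : Cfsg.IsComponent K) : Cfsg.pResidual p P = Cfsg.generalizedFittingSubgroup P ∧ Cfsg.generalizedFittingSubgroup P = Cfsg.layer P ∧ Cfsg.layer P = ⨆ s : ↥(S : Subgroup P), K.map (MulAut.conj (s : P)).toMonoidHom ∧ Cfsg.IsPMinimal p ↥(K ⊔ ((S : Subgroup P) ⊓ Subgroup.normalizer (K : Set P))) := by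
  classical
  obtain ⟨-, M, ⟨hM, hSM⟩, huniq'⟩ := hP S
  have huniq : ∀ C : Subgroup P, IsCoatom C → (S : Subgroup P) ≤ C → C = M := fun C h1 h2 => huniq' C ⟨h1, h2⟩
  have hnb := Components.isComponent_ne_bot hK
  have hKl := Components.component_le_layer hK
  set E := Cfsg.layer P with hEdef
  have hE0 : E ≠ ⊥ := fun h => hnb (le_bot_iff.1 (h ▸ hKl))
  have hEp : ⁅E, E⁆ = E := Components.layer_commutator_eq_self
  have hres := LocalEvenA.perfect_eq_pResidual S hM hSM huniq hOp E hEp hE0
  have hF : Cfsg.fittingSubgroup P ≤ E := by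
    intro x hx
    rw [← hres]
    exact LocalEvenA.mem_pResidual_of_coprime
      ((LocalEvenA.fitting_card_coprime hOp).coprime_dvd_left (Subgroup.orderOf_dvd_natCard _ hx))
  have hFE : generalizedFittingSubgroup P = E := le_antisymm (sup_le le_rfl hF) le_sup_left
  set N := ⨆ s : ↥(S : Subgroup P), K.map (MulAut.conj (s : P)).toMonoidHom with hNdef
  have hconj : ∀ g : P, IsComponent (K.map (MulAut.conj g).toMonoidHom) := fun g =>
    Components.isComponent_conj g hK
  have hKN : K ≤ N := by
    refine le_iSup_of_le 1 ?_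
    rw [OneMemClass.coe_one, map_one]
    exact fun x hx => ⟨x, hx, rfl⟩
  have hNE : N ≤ E := iSup_le fun s => Components.component_le_layer (hconj _)
  haveI hNn : N.Normal := by
    rw [← normalizer_eq_top_iff, ← top_le_iff]
    have htop : (⊤ : Subgroup P) ≤ E ⊔ (S : Subgroup P) :=
      ((LocalEvenA.pMin_le_or_top huniq _ le_sup_right).resolve_right fun h =>
        (LocalEvenA.perfect_normal_facts S hM huniq hOp E hEp hE0).1 (le_sup_left.trans h)).ge
    refine htop.trans (sup_le ?_ ?_)
    · intro l hl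
      refine Components.mem_normalizer_of_map_conj_eq ?_
      rw [hNdef, Subgroup.map_iSup]
      exact iSup_congr fun s => Components.map_conj_eq_of_mem_normalizer
        (Components.layer_le_normalizer (hconj _) hl)
    · intro t ht
      refine Components.mem_normalizer_of_map_conj_eq ?_
      rw [hNdef, Subgroup.map_iSup]
      refine Equiv.iSup_congr (Equiv.mulLeft ⟨t, ht⟩) fun s => ?_
      show K.map (MulAut.conj (t * (s : P))).toMonoidHom = _
      rw [Subgroup.map_map]
      congr 1
      ext x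
      simp [mul_assoc]
  have hNp : ⁅N, N⁆ = N := by
    refine le_antisymm (commutator_le_self N) (iSup_le fun s => ?_)
    have h1 : K.map (MulAut.conj (s : P)).toMonoidHom ≤ N :=
      le_iSup (fun s : ↥(S : Subgroup P) => K.map (MulAut.conj (s : P)).toMonoidHom) s
    exact (Components.isComponent_commutator_eq_self (hconj _)).ge.trans (commutator_mono h1 h1)
  have hN0 : N ≠ ⊥ := fun h => hnb (le_bot_iff.1 (h ▸ hKN))
  have hNres := LocalEvenA.perfect_eq_pResidual S hM hSM huniq hOp N hNp hN0
  refine ⟨hres.trans hFE.symm, hFE, hres.symm.trans hNres, ?_⟩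
  -- `K N_S(K)` is `p`-minimal
  set S₀ := (S : Subgroup P) ⊓ normalizer (K : Set P) with hS0
  set X := K ⊔ S₀ with hX
  have hS0n : S₀ ≤ normalizer (K : Set P) := inf_le_right
  have hXcoe : (X : Set P) = (K : Set P) * S₀ := coe_mul_of_right_le_normalizer_left K S₀ hS0n
  have hSK : (S : Subgroup P) ⊓ K ≤ S₀ := le_inf inf_le_left (inf_le_right.trans le_normalizer)
  obtain ⟨QK, hQK⟩ := LocalEvenA.exists_sylow_subgroupOf_subnormal S hK.1
  obtain ⟨Q, hQ⟩ := ((S.2.to_le (inf_le_left : S₀ ≤ (S : Subgroup P))).of_equiv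
    (subgroupOfEquivOfLe (le_sup_right : S₀ ≤ X)).symm).exists_le_sylow
  have hQeq : (Q : Subgroup ↥X) = S₀.subgroupOf X := by
    refine le_antisymm (fun q hq => ?_) hQ
    have hq' : (q : P) ∈ (K : Set P) * S₀ := hXcoe ▸ q.2
    obtain ⟨k, hk, s, hs, e⟩ := hq'
    have hkX : k ∈ X := (le_sup_left : K ≤ X) hk
    have hkQ : (⟨k, hkX⟩ : ↥X) ∈ (Q : Subgroup ↥X) := by
      have e' : (⟨k, hkX⟩ : ↥X) = q * (⟨s, (le_sup_right : S₀ ≤ X) hs⟩ : ↥X)⁻¹ :=
        Subtype.ext (eq_mul_inv_of_mul_eq e)
      rw [e']; exact mul_mem hq (inv_mem (hQ hs))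
    have hKQ : ((Q : Subgroup ↥X).comap (Subgroup.inclusion (le_sup_left : K ≤ X))) = QK := by
      refine QK.3 (Q.2.comap_of_injective _ (Subgroup.inclusion_injective _)) ?_
      intro y hy
      rw [hQK] at hy
      exact hQ (hSK ⟨hy, y.2⟩)
    have hk' : (⟨k, hk⟩ : ↥K) ∈ (QK : Subgroup ↥K) := hKQ.le hkQ
    rw [hQK] at hk'
    have hk0 : k ∈ S₀ := hSK ⟨hk', hk⟩
    show (q : P) ∈ S₀
    rw [← e]; exact mul_mem hk0 hs
  refine LocalEvenA.isPMinimal_of_good Q ?_
  rw [hQeq]
  refine ⟨fun hn => ?_, ?_⟩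
  · have hKS : K ≤ normalizer (S₀ : Set P) :=
      le_sup_left.trans ((normal_subgroupOf_iff_le_normalizer le_sup_right).1 hn)
    have hKI : K ≤ normalizer ((((S : Subgroup P) ⊓ K : Subgroup P)) : Set P) := by
      have : (S : Subgroup P) ⊓ K = S₀ ⊓ K :=
        le_antisymm (le_inf hSK inf_le_right) (inf_le_inf_right _ inf_le_left)
      rw [this]
      exact LocalEvenA.le_normalizer_inf hKS le_normalizer
    have hbot : (S : Subgroup P) ⊓ K = ⊥ := le_bot_iff.1 (hOp ▸ LocalEvenA.subnormal_le_pCore
      (Components.isSubnormal_of_normal_in inf_le_right hK.1 hKI) (S.2.to_le inf_le_left))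
    have hcop : (Nat.card K).Coprime p := by
      refine Nat.Coprime.symm ((Fact.out : p.Prime).coprime_iff_not_dvd.2 fun hd => ?_)
      refine QK.ne_bot_of_dvd_card hd ?_
      rw [hQK, subgroupOf_eq_bot, disjoint_iff]
      exact hbot
    have hKO : K ≤ pPrimeCore p P := Components.subnormal_coprime_le_pPrimeCore hK.1 hcop
    haveI := LocalEvenA.pPrimeCore_normal' p P
    have hNO : N ≤ pPrimeCore p P := iSup_le fun s => by
      refine (Subgroup.map_mono hKO).trans ?_
      exact (Components.map_conj_eq_of_mem_normalizer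
        (by rw [normalizer_eq_top_iff.2 inferInstance]; trivial)).le
    have hd := (LocalEvenA.perfect_normal_facts S hM huniq hOp N hNp hN0).2
    exact (Fact.out : p.Prime).coprime_iff_not_dvd.1
      ((LocalEvenA.pPrimeCore_coprime (G := P) p).coprime_dvd_left (Subgroup.card_dvd_of_le hNO)).symm hd
  · -- the unique maximal subgroup
    have hKM : ¬ K ≤ M := fun hle => (LocalEvenA.perfect_normal_facts S hM huniq hOp N hNp hN0).1
      (iSup_le fun s => (Subgroup.map_mono hle).trans (Components.map_conj_eq_of_mem_normalizer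
        (le_normalizer (hSM s.2))).le)
    have key : ∀ Y : Subgroup P, S₀ ≤ Y → Y ≤ X → Y ≠ X → Y ≤ M := by
      intro Y hSY hYX hne
      set YK := Y ⊓ K with hYK
      have hS0YK : S₀ ≤ normalizer (YK : Set P) :=
        LocalEvenA.le_normalizer_inf (hSY.trans le_normalizer) hS0n
      set D := ⨆ s : ↥(S : Subgroup P), YK.map (MulAut.conj (s : P)).toMonoidHom with hD
      have hSD : (S : Subgroup P) ≤ normalizer (D : Set P) := by
        intro t ht
        refine Components.mem_normalizer_of_map_conj_eq ?_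
        rw [hD, Subgroup.map_iSup]
        refine Equiv.iSup_congr (Equiv.mulLeft ⟨t, ht⟩) fun s => ?_
        show YK.map (MulAut.conj (t * (s : P))).toMonoidHom = _
        rw [Subgroup.map_map]
        congr 1
        ext x
        simp [mul_assoc]
      rcases LocalEvenA.pMin_le_or_top huniq (D ⊔ (S : Subgroup P)) le_sup_right with h | h
      · exfalso
        haveI hDn : D.Normal := by
          rw [← normalizer_eq_top_iff, ← top_le_iff, ← h]
          exact sup_le le_normalizer hSD
        have hEq : E ≤ D := by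
          rw [← hres]
          refine LocalEvenA.pResidual_le_of_isPGroup_quotient
            (S.2.of_surjective ((QuotientGroup.mk' D).comp (S : Subgroup P).subtype) fun q => ?_)
          obtain ⟨x, rfl⟩ := QuotientGroup.mk'_surjective D q
          obtain ⟨n, hn, s, hs, rfl⟩ := Subgroup.mem_sup_of_normal_left.1 (h.symm ▸ mem_top x)
          refine ⟨⟨s, hs⟩, ?_⟩
          rw [map_mul, (show QuotientGroup.mk' D n = 1 from (QuotientGroup.eq_one_iff n).2 hn), one_mul]
          rfl
        have hDle : D ≤ YK ⊔ centralizer (K : Set P) := iSup_le fun s => by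
          by_cases hsK : K.map (MulAut.conj (s : P)).toMonoidHom = K
          · have : (s : P) ∈ S₀ := ⟨s.2, Components.mem_normalizer_of_map_conj_eq hsK⟩
            exact (Components.map_conj_eq_of_mem_normalizer (hS0YK this)).le.trans le_sup_left
          · refine le_trans (Subgroup.map_mono inf_le_right) (le_trans ?_ le_sup_right)
            exact commutator_eq_bot_iff_le_centralizer.1
              ((Components.component_eq_or_commute (hconj _) hK).resolve_left hsK)
        have hZ : K ≤ YK ⊔ (K ⊓ centralizer (K : Set P)) := by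
          intro k hk
          have hk' : k ∈ ((YK ⊔ centralizer (K : Set P) : Subgroup P) : Set P) := hDle (hEq (hKl hk))
          rw [coe_mul_of_left_le_normalizer_right YK _ ((inf_le_right.trans le_normalizer).trans
            (LocalEvenA.normalizer_le_normalizer_centralizer K))] at hk'
          obtain ⟨y, hy, c, hc, rfl⟩ := hk'
          exact mul_mem (mem_sup_left hy) (mem_sup_right ⟨by
            have := mul_mem (inv_mem (inf_le_right (a := Y) hy)) hk
            rwa [inv_mul_cancel_left] at this, hc⟩)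
        have hder : ⁅K, K⁆ ≤ YK := by
          rw [commutator_le]
          intro a ha b hb
          have hn : YK ≤ normalizer ((K ⊓ centralizer (K : Set P) : Subgroup P) : Set P) :=
            (inf_le_right.trans le_normalizer).trans (le_of_eq_of_le rfl
              (fun g hg => LocalEvenA.le_normalizer_inf (K := normalizer (K : Set P)) le_rfl
                (LocalEvenA.normalizer_le_normalizer_centralizer K) hg))
          have hcoe := coe_mul_of_left_le_normalizer_right YK _ hn
          have ha' : a ∈ ((YK ⊔ (K ⊓ centralizer (K : Set P)) : Subgroup P) : Set P) := hZ ha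
          have hb' : b ∈ ((YK ⊔ (K ⊓ centralizer (K : Set P)) : Subgroup P) : Set P) := hZ hb
          rw [hcoe] at ha' hb'
          obtain ⟨y₁, hy₁, c₁, hc₁, rfl⟩ := ha'
          obtain ⟨y₂, hy₂, c₂, hc₂, rfl⟩ := hb'
          have h1 : Commute c₁ y₂ := (Subgroup.mem_centralizer_iff.1 hc₁.2 y₂ (inf_le_right (a := Y) hy₂)).symm
          have h2 : Commute c₁ c₂ := (Subgroup.mem_centralizer_iff.1 hc₁.2 c₂ hc₂.1).symm
          have h3 : Commute c₂ y₁ := (Subgroup.mem_centralizer_iff.1 hc₂.2 y₁ (inf_le_right (a := Y) hy₁)).symm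
          have e : ⁅y₁ * c₁, y₂ * c₂⁆ = ⁅y₁, y₂⁆ := by
            simp only [commutatorElement_def, mul_inv_rev]
            calc y₁ * c₁ * (y₂ * c₂) * (c₁⁻¹ * y₁⁻¹) * (c₂⁻¹ * y₂⁻¹)
                = y₁ * (c₁ * (y₂ * c₂)) * c₁⁻¹ * y₁⁻¹ * c₂⁻¹ * y₂⁻¹ := by group
              _ = y₁ * ((y₂ * c₂) * c₁) * c₁⁻¹ * y₁⁻¹ * c₂⁻¹ * y₂⁻¹ := by rw [(h1.mul_right h2).eq]
              _ = y₁ * y₂ * (c₂ * y₁⁻¹) * c₂⁻¹ * y₂⁻¹ := by group
              _ = y₁ * y₂ * (y₁⁻¹ * c₂) * c₂⁻¹ * y₂⁻¹ := by rw [h3.inv_right.eq]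
              _ = _ := by group
          rw [e, commutatorElement_def]
          exact mul_mem (mul_mem (mul_mem hy₁ hy₂) (inv_mem hy₁)) (inv_mem hy₂)
        rw [Components.isComponent_commutator_eq_self hK] at hder
        exact hne (le_antisymm hYX (sup_le (hder.trans inf_le_left) hSY))
      · intro y hy
        have hy' : y ∈ (K : Set P) * S₀ := hXcoe ▸ hYX hy
        obtain ⟨k, hk, s, hs, rfl⟩ := hy'
        have hkY : k ∈ Y := by
          have := mul_mem hy (inv_mem (hSY hs))
          rwa [mul_inv_cancel_right] at this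
        refine mul_mem (h (mem_sup_left ?_)) (hSM hs.1)
        exact le_iSup (fun s : ↥(S : Subgroup P) => YK.map (MulAut.conj (s : P)).toMonoidHom) 1
          ⟨k, ⟨hkY, hk⟩, by simp⟩
    have hne0 : M.subgroupOf X ≠ ⊤ := fun h => hKM (le_sup_left.trans (subgroupOf_eq_top.1 h))
    have hle0 : S₀.subgroupOf X ≤ M.subgroupOf X := fun x hx => hSM hx.1
    have hcrit : ∀ Y : Subgroup ↥X, S₀.subgroupOf X ≤ Y → Y ≠ ⊤ → Y ≤ M.subgroupOf X := by
      intro Y hY hYne x hx
      refine key (Y.map X.subtype) (fun s hs => ⟨⟨s, (le_sup_right : S₀ ≤ X) hs⟩, hY hs, rfl⟩)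
        (map_subtype_le _) (fun h => hYne ?_) ⟨x, hx, rfl⟩
      rw [← comap_map_eq_self_of_injective X.subtype_injective Y, h]
      exact Subgroup.subgroupOf_self X
    refine ⟨M.subgroupOf X, ⟨⟨hne0, fun Y hY => ?_⟩, hle0⟩, fun Y hY => ?_⟩
    · by_contra hYne
      exact hY.not_ge (hcrit Y (hle0.trans hY.le) hYne)
    · rcases (hcrit Y hY.2 hY.1.1).eq_or_lt with h | h
      · exact h
      · exact absurd (hY.1.2 _ h) hne0

end Cfsg.Agent.S2906
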