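import Cfsg.Statements.S2907

set_option autoImplicit false
open Cfsg
open scoped commutatorElement

namespace Cfsg.Agent.S2907

/-- Let X be a finite semi-extraspecial p-group and x an element of X outside the centre. Then the index of C_X(x) in X equals the order of Z(X), and the commutators [x, y], y ∈ X, form exactly the centre Z(X). -/
theorem result {X : Type*} [Group X] [Finite X] {p : ℕ} [Fact p.Prime] (hX : Cfsg.IsSemiExtraspecial p X) (x : X) (hx : x ∉ Subgroup.center X) : (Subgroup.centralizer ({x} : Set X)).index = Nat.card ↥(Subgroup.center X) ∧ {z : X | ∃ y : X, z = x * y * x⁻¹ * y⁻¹} = (Subgroup.center X : Set X) := by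
  obtain ⟨⟨hp, hfr, hcomm⟩, hY⟩ := hX
  let Z := Subgroup.center X
  have hz : ∀ y : X, x * y * x⁻¹ * y⁻¹ ∈ Z := fun y => by
    have : ⁅x, y⁆ ∈ _root_.commutator X := Subgroup.commutator_mem_commutator trivial trivial
    rw [hcomm] at this
    exact this
  let ψ : X →* ↥Z := MonoidHom.mk' (fun y => ⟨x * y * x⁻¹ * y⁻¹, hz y⟩) fun a b => Subtype.ext (by
    show x * (a * b) * x⁻¹ * (a * b)⁻¹ = x * a * x⁻¹ * a⁻¹ * (x * b * x⁻¹ * b⁻¹)
    have h := Subgroup.mem_center_iff.1 (hz b) a⁻¹
    calc x * (a * b) * x⁻¹ * (a * b)⁻¹ = x * a * x⁻¹ * ((x * b * x⁻¹ * b⁻¹) * a⁻¹) := by group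
      _ = x * a * x⁻¹ * (a⁻¹ * (x * b * x⁻¹ * b⁻¹)) := by rw [h]
      _ = _ := by group)
  have hker : ψ.ker = Subgroup.centralizer ({x} : Set X) := by
    ext y
    rw [MonoidHom.mem_ker, Subgroup.mem_centralizer_singleton_iff, ← commutatorElement_eq_one_iff_mul_comm,
      Subtype.ext_iff, ← commutatorElement_inv, inv_eq_one]
    rfl
  have hsurj : ψ.range = ⊤ := by
    by_contra hne
    obtain ⟨C, hC, hCle⟩ := (eq_top_or_exists_le_coatom ψ.range).resolve_left hne
    have hle : C.map Z.subtype ≤ Z := Subgroup.map_subtype_le C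
    have hco : IsCoatom ((C.map Z.subtype).subgroupOf Z) := by
      rwa [← Subgroup.comap_subtype, Subgroup.comap_map_eq_self_of_injective Z.subtype_injective]
    obtain ⟨hn, hext⟩ := hY (C.map Z.subtype) hle hco
    have := hn
    let π := QuotientGroup.mk' (C.map Z.subtype)
    have hxc : π x ∈ Subgroup.center (X ⧸ C.map Z.subtype) := by
      rw [Subgroup.mem_center_iff]
      intro q
      induction q using QuotientGroup.induction_on with
      | H y =>
        have h1 : π (x * y * x⁻¹ * y⁻¹) = 1 :=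
          (QuotientGroup.eq_one_iff _).2 ⟨ψ y, hCle ⟨y, rfl⟩, rfl⟩
        simp only [map_mul, map_inv, mul_inv_eq_one] at h1
        exact (mul_inv_eq_iff_eq_mul.1 h1).symm
    have hZle : Z.map π ≤ Subgroup.center (X ⧸ C.map Z.subtype) := by
      rintro _ ⟨z, hz', rfl⟩
      rw [Subgroup.mem_center_iff]
      intro q
      induction q using QuotientGroup.induction_on with
      | H y => exact (map_mul π y z).symm.trans ((congrArg π (Subgroup.mem_center_iff.1 hz' y)).trans (map_mul π z y))
    have hcard : Nat.card ↥(Subgroup.center (X ⧸ C.map Z.subtype)) = p := hext.2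
    have : Fact (Nat.card ↥(Subgroup.center (X ⧸ C.map Z.subtype))).Prime := ⟨hcard.symm ▸ Fact.out⟩
    rcases ((Z.map π).subgroupOf (Subgroup.center (X ⧸ C.map Z.subtype))).eq_bot_or_eq_top_of_prime_card with h | h
    · apply hC.1
      rw [Subgroup.subgroupOf_eq_bot, disjoint_iff, inf_eq_left.2 hZle, Subgroup.map_eq_bot_iff,
        QuotientGroup.ker_mk'] at h
      refine eq_top_iff.2 fun z _ => ?_
      obtain ⟨w, hw, e⟩ := h z.2
      exact Subtype.ext e ▸ hw
    · rw [Subgroup.subgroupOf_eq_top] at h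
      obtain ⟨z, hz', e⟩ := h hxc
      have : z⁻¹ * x ∈ C.map Z.subtype := QuotientGroup.eq.1 e
      exact hx (by simpa using Z.mul_mem hz' (hle this))
  refine ⟨?_, ?_⟩
  · rw [← hker, Subgroup.index_ker, hsurj, Subgroup.card_top]
  · ext z
    constructor
    · rintro ⟨y, rfl⟩; exact hz y
    · intro hz'
      obtain ⟨y, e⟩ := MonoidHom.range_eq_top.1 hsurj ⟨z, hz'⟩
      exact ⟨y, (congrArg Subtype.val e).symm⟩

end Cfsg.Agent.S2907
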