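import Cfsg.Statements.S2908
import Cfsg.Agent.Lib.Basics.CoprimeAction
import Cfsg.Agent.Lib.LocalEvenA.Large2

set_option autoImplicit false
open Cfsg

namespace Cfsg.Agent.S2908

theorem three_mod {G : Type*} [Group G] {N A B C : Subgroup G} [N.Normal]
    (h1 : ⁅⁅B, C⁆, A⁆ ≤ N) (h2 : ⁅⁅C, A⁆, B⁆ ≤ N) : ⁅⁅A, B⁆, C⁆ ≤ N := by
  have h : ∀ D : Subgroup G, D ≤ N ↔ D.map (QuotientGroup.mk' N) = ⊥ := fun D => by
    rw [Subgroup.map_eq_bot_iff, QuotientGroup.ker_mk']
  rw [h, Subgroup.map_commutator, Subgroup.map_commutator] at h1 h2 ⊢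
  exact Subgroup.commutator_commutator_eq_bot_of_rotate h1 h2

theorem top_case {G : Type*} [Group G] [Finite G] {p : ℕ} [Fact p.Prime] (P A B : Subgroup G)
    (hP : IsPGroup p ↥P) (hA : IsPGroup p ↥A) (hB : ¬ p ∣ Nat.card ↥B)
    (hnA : A ≤ Subgroup.normalizer (P : Set G)) (hnB : B ≤ Subgroup.normalizer (P : Set G))
    (hAB : ⁅A, B⁆ = ⊥) (hcomm : ⁅P, B⁆ ≤ ⁅P, A⁆) (htop : P ⊔ A ⊔ B = ⊤) : ⁅P, B⁆ = ⊥ := by
  haveI hPn : P.Normal := by
    rw [← Subgroup.normalizer_eq_top_iff, eq_top_iff, ← htop]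
    exact sup_le (sup_le Subgroup.le_normalizer hnA) hnB
  have hAB' : A ≤ Subgroup.centralizer (B : Set G) := Subgroup.commutator_eq_bot_iff_le_centralizer.1 hAB
  have hBA : B ≤ Subgroup.centralizer (A : Set G) := Subgroup.le_centralizer_iff.1 hAB'
  set X := P ⊔ A
  haveI hXn : X.Normal := by
    rw [← Subgroup.normalizer_eq_top_iff, eq_top_iff, ← htop]
    refine sup_le Subgroup.le_normalizer (LocalEvenA.le_normalizer_of_cj_le fun b hb => ?_)
    rw [LocalEvenA.cj, Subgroup.map_sup]
    refine sup_le_sup (LocalEvenA.mem_normalizer_iff_cj.1 (hnB hb)).le ?_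
    rintro _ ⟨a, ha, rfl⟩
    simpa [← hBA hb a ha] using ha
  haveI hK : (⁅P, B⁆).Normal := by
    rw [← Subgroup.normalizer_eq_top_iff, eq_top_iff, ← htop]
    refine sup_le (sup_le (Subgroup.normalizer_commutator_ge_left P B) ?_)
      (Subgroup.normalizer_commutator_ge_right P B)
    refine LocalEvenA.le_normalizer_of_cj_le fun a ha => ?_
    rw [LocalEvenA.cj, Subgroup.map_commutator]
    refine Subgroup.commutator_mono (LocalEvenA.mem_normalizer_iff_cj.1 (hnA ha)).le ?_
    rintro _ ⟨b, hb, rfl⟩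
    simpa [← hAB' ha b hb] using hb
  have hXB : ⁅X, B⁆ ≤ ⁅P, B⁆ := by
    set q := QuotientGroup.mk' ⁅P, B⁆
    have h : ∀ D : Subgroup G, D ≤ ⁅P, B⁆ ↔ D.map q = ⊥ := fun D => by
      rw [Subgroup.map_eq_bot_iff, QuotientGroup.ker_mk']
    rw [h, Subgroup.map_commutator, Subgroup.commutator_eq_bot_iff_le_centralizer, Subgroup.map_sup,
      sup_le_iff, ← Subgroup.commutator_eq_bot_iff_le_centralizer,
      ← Subgroup.commutator_eq_bot_iff_le_centralizer, ← Subgroup.map_commutator,
      ← Subgroup.map_commutator, ← h, ← h, hAB]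
    exact ⟨le_rfl, bot_le⟩
  set Q : ℕ → Subgroup G := fun n => (fun D => ⁅D, X⁆)^[n] P with hQ
  have hQs : ∀ n, Q (n + 1) = ⁅Q n, X⁆ := fun n => Function.iterate_succ_apply' _ n P
  have hQn : ∀ n, (Q n).Normal := fun n => by
    induction n with
    | zero => exact hPn
    | succ n ih => rw [hQs]; infer_instance
  have hQP : ∀ n, Q n ≤ P := fun n => by
    induction n with
    | zero => exact le_rfl
    | succ n ih =>
      rw [hQs]
      haveI := hQn n
      exact (Subgroup.commutator_le_left _ _).trans ih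
  have hcop : (Nat.card B).Coprime (Nat.card P) := by
    obtain ⟨n, hn⟩ := IsPGroup.iff_card.1 hP
    rw [hn]
    exact (((Fact.out : p.Prime).coprime_iff_not_dvd.2 hB).symm).pow_right n
  have hsolv : Group.IsSolvable ↥P := by
    haveI := hP.isNilpotent
    infer_instance
  have hmain : ∀ n, ⁅P, B⁆ ≤ Q (n + 1) := fun n => by
    induction n with
    | zero => exact hcomm.trans (by rw [hQs]; exact Subgroup.commutator_mono le_rfl le_sup_right)
    | succ n ih =>
      rw [← Basics.commutator_commutator_eq B P hnB hcop (Or.inr hsolv)]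
      refine (Subgroup.commutator_mono ih le_rfl).trans ?_
      haveI := hQn (n + 1 + 1)
      rw [hQs n]
      refine three_mod ?_ ?_
      · refine (Subgroup.commutator_mono (hXB.trans ih) ((hQP n).trans (le_sup_left : P ≤ X))).trans ?_
        rw [hQs (n + 1)]
      · rw [hQs (n + 1), Subgroup.commutator_comm B (Q n)]
        exact Subgroup.commutator_mono ((Subgroup.commutator_mono (hQP n) le_rfl).trans ih) le_rfl
  have hXp : IsPGroup p ↥X := hP.to_sup_of_normal_left hA
  haveI := hXp.isNilpotent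
  obtain ⟨m, hm⟩ := Subgroup.nilpotent_iff_lowerCentralSeries.1 (inferInstance : Group.IsNilpotent ↥X)
  have hlow : ∀ n, Q n ≤ ((⊤ : Subgroup ↥X).lowerCentralSeries n).map X.subtype := fun n => by
    induction n with
    | zero =>
      simp only [hQ, Function.iterate_zero, id_eq, Subgroup.lowerCentralSeries_zero]
      rw [← MonoidHom.range_eq_map, Subgroup.range_subtype]
      exact le_sup_left
    | succ n ih =>
      rw [hQs, Subgroup.lowerCentralSeries_succ, Subgroup.map_commutator]
      refine Subgroup.commutator_mono ih ?_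
      rw [← MonoidHom.range_eq_map, Subgroup.range_subtype]
  refine le_bot_iff.1 ((hmain m).trans ?_)
  have h1 := hlow m
  rw [hm, Subgroup.map_bot] at h1
  rw [hQs, le_bot_iff.1 h1, Subgroup.commutator_bot_left]


/-- Let P be a p-subgroup of a finite group, normalized by a p-subgroup A and by a subgroup B of order prime to p that commutes elementwise with A. If [P, B] ≤ [P, A], then B centralizes P. -/
theorem result {G : Type*} [Group G] [Finite G] {p : ℕ} [Fact p.Prime] (P A B : Subgroup G) (hP : IsPGroup p ↥P) (hA : IsPGroup p ↥A) (hB : ¬ p ∣ Nat.card ↥B) (hnA : A ≤ Subgroup.normalizer (P : Set G)) (hnB : B ≤ Subgroup.normalizer (P : Set G)) (hAB : ⁅A, B⁆ = ⊥) (hcomm : ⁅P, B⁆ ≤ ⁅P, A⁆) : ⁅P, B⁆ = ⊥ := by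
  classical
    set H := P ⊔ A ⊔ B
    have hP' : P ≤ H := le_sup_left.trans le_sup_left
    have hA' : A ≤ H := le_sup_right.trans le_sup_left
    have hB' : B ≤ H := le_sup_right
    have hmc : ∀ C D : Subgroup G, C ≤ H → D ≤ H →
        (⁅C.subgroupOf H, D.subgroupOf H⁆).map H.subtype = ⁅C, D⁆ := fun C D hC hD => by
      rw [Subgroup.map_commutator, Subgroup.map_subgroupOf_eq_of_le hC,
        Subgroup.map_subgroupOf_eq_of_le hD]
    have hinj : ∀ C D : Subgroup ↥H, C.map H.subtype ≤ D.map H.subtype → C ≤ D := fun C D h =>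
      (Subgroup.map_le_map_iff_of_injective H.subtype_injective).1 h
    have hn : ∀ D : Subgroup G, D ≤ H → D ≤ Subgroup.normalizer (P : Set G) →
        D.subgroupOf H ≤ Subgroup.normalizer ((P.subgroupOf H : Subgroup ↥H) : Set ↥H) := by
      intro D _ hD d hd
      rw [Subgroup.mem_normalizer_iff]
      intro x
      exact Subgroup.mem_normalizer_iff.1 (hD hd) (x : G)
    have e : ∀ {D : Subgroup G}, D ≤ H → ↥(D.subgroupOf H) ≃* ↥D := fun h => Subgroup.subgroupOfEquivOfLe h
    have key := top_case (p := p) (P.subgroupOf H) (A.subgroupOf H) (B.subgroupOf H)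
      (hP.of_equiv (e hP').symm) (hA.of_equiv (e hA').symm)
      (by rw [Nat.card_congr (e hB').toEquiv]; exact hB) (hn A hA' hnA) (hn B hB' hnB)
      (by
        apply Subgroup.map_injective H.subtype_injective
        rw [hmc A B hA' hB', hAB, Subgroup.map_bot])
      (hinj _ _ (by rw [hmc P B hP' hB', hmc P A hP' hA']; exact hcomm))
      (by
        apply Subgroup.map_injective H.subtype_injective
        rw [Subgroup.map_sup, Subgroup.map_sup, Subgroup.map_subgroupOf_eq_of_le hP',
          Subgroup.map_subgroupOf_eq_of_le hA', Subgroup.map_subgroupOf_eq_of_le hB',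
          ← MonoidHom.range_eq_map, Subgroup.range_subtype])
    rw [← hmc P B hP' hB', key, Subgroup.map_bot]

end Cfsg.Agent.S2908
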