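import Cfsg.Statements.S2909
import Cfsg.Agent.Lib.Basics.CoprimeGen
import Cfsg.Agent.Lib.Components.PTimesQ
import Cfsg.Agent.Lib.LocalEvenA.Subnormal
import Cfsg.Agent.Lib.LocalEvenA.Large2
import Cfsg.Agent.S2908

set_option autoImplicit false
open Cfsg
open scoped commutatorElement

namespace Cfsg.Agent.S2909

/-- Let p be a prime, E a normal p-subgroup of the finite group G, and U a non-cyclic elementary abelian p-subgroup of G such that either C_E(U) = C_E(u) for every nontrivial u ∈ U, or [E, U] = [E, ⟨u⟩] for every nontrivial u ∈ U. If R is a subgroup of order prime to p normalized by U, then [R, U] centralizes E. -/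
theorem result {G : Type*} [Group G] [Finite G] {p : ℕ} [Fact p.Prime] (E : Subgroup G) [E.Normal] (hE : IsPGroup p ↥E) (U : Subgroup G) (hU : Cfsg.IsElementaryAbelian p U) (hnc : ¬ IsCyclic ↥U) (hcond : (∀ u ∈ U, u ≠ 1 → E ⊓ Subgroup.centralizer (U : Set G) = E ⊓ Subgroup.centralizer ({u} : Set G)) ∨ (∀ u ∈ U, u ≠ 1 → ⁅E, U⁆ = ⁅E, Subgroup.zpowers u⁆)) (R : Subgroup G) (hR : ¬ p ∣ Nat.card ↥R) (hRU : U ≤ Subgroup.normalizer (R : Set G)) : ⁅R, U⁆ ≤ Subgroup.centralizer (E : Set G) := by
  classical
    haveI : IsMulCommutative ↥U := ⟨⟨fun a b => Subtype.ext (LocalEvenA.elemAb_comm hU a.2 b.2)⟩⟩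
    set S := ⁅R, U⁆ with hS
    have hUE : U ≤ Subgroup.normalizer (E : Set G) := LocalEvenA.le_normalizer_of_le_top E U
    have hSR : S ≤ R := LocalEvenA.commutator_le_left_of_normalizer hRU
    have hSU : U ≤ Subgroup.normalizer (S : Set G) := Subgroup.normalizer_commutator_ge_right R U
    have hUp : IsPGroup p ↥U := LocalEvenA.elemAb_isPGroup hU
    have hcopK : ∀ {K : Subgroup G}, K ≤ R → (Nat.card U).Coprime (Nat.card K) := fun {K} hK => by
      obtain ⟨n, hn⟩ := IsPGroup.iff_card.1 hUp
      rw [hn]
      exact (((Fact.out : p.Prime).coprime_iff_not_dvd.2 fun h =>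
        hR (h.trans (Subgroup.card_dvd_of_le hK)))).pow_left n
    have hxcop : ∀ x ∈ R, (orderOf x).Coprime p := fun x hx =>
      ((Fact.out : p.Prime).coprime_iff_not_dvd.2 fun h => hR (h.trans (by
        rw [← Subgroup.orderOf_mk x hx]; exact orderOf_dvd_natCard _))).symm
    -- `R` normalises what all the `C_R(u)` normalise
    have hRW : ∀ W : Subgroup G, (∀ u ∈ U, u ≠ 1 →
        R ⊓ Subgroup.centralizer ({u} : Set G) ≤ Subgroup.normalizer (W : Set G)) →
        R ≤ Subgroup.normalizer (W : Set G) := fun W h => by
      rw [← Basics.iSup_inf_centralizer_eq U R hnc hRU (hcopK le_rfl)]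
      exact iSup₂_le fun u hu => h u hu.1 hu.2
    rw [← Basics.iSup_inf_centralizer_eq U S hnc hSU (hcopK hSR)]
    refine iSup₂_le ?_
    rintro u ⟨hu, hu1⟩ x ⟨hxS, hxu⟩
    have hux : Commute x u := Subgroup.mem_centralizer_singleton_iff.1 hxu
    have hxP : ∀ y ∈ Subgroup.zpowers u, Commute x y := by
      rintro _ ⟨k, rfl⟩
      exact hux.zpow_right k
    rcases hcond with hc | hc
    · set W := E ⊓ Subgroup.centralizer (U : Set G) with hW
      have hWn : R ≤ Subgroup.normalizer (W : Set G) := hRW W fun v hv hv1 => by
        rw [hc v hv hv1]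
        exact LocalEvenA.le_normalizer_inf (LocalEvenA.le_normalizer_of_le_top E _)
          ((inf_le_right.trans Subgroup.le_normalizer))
      have hSW : S ≤ Subgroup.centralizer (W : Set G) := by
        rw [hS, Subgroup.commutator_le]
        intro r hr w hw y hy
        have h1 : r⁻¹ * y * r ∈ W := by
          have := (Subgroup.mem_normalizer_iff.1 (inv_mem (hWn hr)) y).1 hy
          simpa using this
        have h2 : w * y = y * w := hy.2 w hw
        have h3 : w * (r⁻¹ * y * r) = r⁻¹ * y * r * w := h1.2 w hw
        rw [commutatorElement_def]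
        calc y * (r * w * r⁻¹ * w⁻¹) = r * (r⁻¹ * y * r * w) * r⁻¹ * w⁻¹ := by group
          _ = r * w * r⁻¹ * (y * w⁻¹) := by rw [← h3]; group
          _ = r * w * r⁻¹ * (w⁻¹ * y) := by
              rw [((show Commute w y from h2).inv_left).eq]
          _ = r * w * r⁻¹ * w⁻¹ * y := by group
      intro e he
      have hUp' : IsPGroup p ↥(Subgroup.zpowers u) := hUp.to_le (Subgroup.zpowers_le.2 hu)
      exact (Components.pq_lemma hUp' (hxcop x (hSR hxS)) hxP hE
        (LocalEvenA.le_normalizer_of_le_top E _) (LocalEvenA.le_normalizer_of_le_top E _ (Subgroup.mem_top x))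
        (fun r hr hcr => by
          have hrW : r ∈ W := by
            rw [hc u hu hu1]
            exact ⟨hr, Subgroup.mem_centralizer_singleton_iff.2 (hcr u (Subgroup.mem_zpowers u)).eq⟩
          exact (hSW hxS r hrW).symm) e he).eq.symm
    · set W := ⁅E, U⁆ with hW
      have hWn : R ≤ Subgroup.normalizer (W : Set G) := hRW W fun v hv hv1 => by
        rw [hc v hv hv1]
        refine LocalEvenA.le_normalizer_of_cj_le fun y hy => ?_
        rw [LocalEvenA.cj, Subgroup.map_commutator]
        refine Subgroup.commutator_mono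
          (LocalEvenA.mem_normalizer_iff_cj.1 (LocalEvenA.le_normalizer_of_le_top E ⊤ (Subgroup.mem_top y))).le ?_
        rintro _ ⟨z, hz, rfl⟩
        obtain ⟨k, rfl⟩ := hz
        have hyv : Commute y v := Subgroup.mem_centralizer_singleton_iff.1 hy.2
        simpa [(hyv.zpow_right k).eq] using zpow_mem (Subgroup.mem_zpowers v) k
      have hES : ⁅E, S⁆ ≤ W := by
        -- three subgroups modulo `W`
        set H := E ⊔ R ⊔ U
        have hWE : H ≤ Subgroup.normalizer (W : Set G) :=
          sup_le (sup_le (Subgroup.normalizer_commutator_ge_left E U) hWn)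
            (Subgroup.normalizer_commutator_ge_right E U)
        rw [Subgroup.commutator_le]
        intro e he s hs
        let Wc : Subgroup ↥H := W.subgroupOf H
        haveI : Wc.Normal := Subgroup.normal_subgroupOf_of_le_normalizer hWE
        have key : ⁅⁅(R.subgroupOf H), (U.subgroupOf H)⁆, (E.subgroupOf H)⁆ ≤ Wc := by
          have h : ∀ D : Subgroup ↥H, D ≤ Wc ↔ D.map (QuotientGroup.mk' Wc) = ⊥ := fun D => by
            rw [Subgroup.map_eq_bot_iff, QuotientGroup.ker_mk']
          have hEU : ⁅E.subgroupOf H, U.subgroupOf H⁆ ≤ Wc := fun z hz => by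
            rw [Subgroup.mem_subgroupOf]
            have := Subgroup.mem_map_of_mem H.subtype hz
            rw [Subgroup.map_commutator, Subgroup.map_subgroupOf_eq_of_le (le_sup_left.trans le_sup_left),
              Subgroup.map_subgroupOf_eq_of_le le_sup_right] at this
            exact this
          haveI hEn : (E.subgroupOf H).Normal := inferInstance
          rw [h, Subgroup.map_commutator, Subgroup.map_commutator]
          refine Subgroup.commutator_commutator_eq_bot_of_rotate ?_ ?_
          · rw [← Subgroup.map_commutator, Subgroup.commutator_comm (U.subgroupOf H), (h _).1 hEU,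
              Subgroup.commutator_bot_left]
          · rw [← Subgroup.map_commutator, ← Subgroup.map_commutator, ← h]
            exact (Subgroup.commutator_mono (Subgroup.commutator_le_left _ _) le_rfl).trans hEU
        have hsH : s ∈ H := (le_sup_right.trans le_sup_left : R ≤ H) (hSR hs)
        have heH : e ∈ H := (le_sup_left.trans le_sup_left : E ≤ H) he
        have hs' : (⟨s, hsH⟩ : ↥H) ∈ ⁅(R.subgroupOf H), (U.subgroupOf H)⁆ := by
          apply (Subgroup.mem_map_iff_mem H.subtype_injective).1
          rw [Subgroup.map_commutator, Subgroup.map_subgroupOf_eq_of_le (le_sup_right.trans le_sup_left),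
            Subgroup.map_subgroupOf_eq_of_le le_sup_right]
          exact hs
        rw [Subgroup.commutator_comm] at key
        exact key (Subgroup.commutator_mem_commutator
          (show (⟨e, heH⟩ : ↥H) ∈ E.subgroupOf H from he) hs')
      have h := S2908.result (p := p) E (Subgroup.zpowers u) (Subgroup.zpowers x) hE
        (hUp.to_le (Subgroup.zpowers_le.2 hu))
        (by
          rw [Nat.card_zpowers]
          exact (Fact.out : p.Prime).coprime_iff_not_dvd.1 (hxcop x (hSR hxS)).symm)
        (LocalEvenA.le_normalizer_of_le_top E _) (LocalEvenA.le_normalizer_of_le_top E _)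
        (by
          rw [Subgroup.commutator_eq_bot_iff_le_centralizer, Subgroup.zpowers_le]
          intro y hy
          obtain ⟨k, rfl⟩ := hy
          exact (hux.zpow_left k).eq)
        (((Subgroup.commutator_mono le_rfl (Subgroup.zpowers_le.2 hxS)).trans hES).trans
          (hc u hu hu1).le)
      rw [Subgroup.commutator_eq_bot_iff_le_centralizer, Subgroup.le_centralizer_iff] at h
      exact h (Subgroup.mem_zpowers x)

end Cfsg.Agent.S2909
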