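import Cfsg.Statements.S2910
import Cfsg.Agent.Lib.Coprime23.Omega
import Cfsg.Agent.Lib.Transfer.Fusion
import Cfsg.Agent.Lib.LocalEvenA.Core

set_option autoImplicit false
open Cfsg
open Pointwise

namespace Cfsg.Agent.S2910

/-- Let p be an odd prime dividing the order of the finite group G and P a Sylow p-subgroup of G. If Ω₁(P) (generated by the elements of order dividing p) is contained in the centre of G, then G has a normal p-complement. In particular, if G is quasisimple then Ω₁(P) is not central in G. -/
theorem result {G : Type*} [Group G] [Finite G] {p : ℕ} [Fact p.Prime] (hp : p ≠ 2) (hdiv : p ∣ Nat.card G) (P : Sylow p G) (hZ : Cfsg.omegaOne p (P : Subgroup G) ≤ Subgroup.center G) : Cfsg.HasNormalPComplement p G ∧ ¬ Cfsg.IsQuasisimple G := by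
  classical
    have hH : HasNormalPComplement p G := by
      refine Transfer.hasNormalPComplement_of_frobenius fun D hD g hg hcop => ?_
      let ρ : ↥(Subgroup.normalizer (D : Set G)) →* MulAut ↥D :=
        { toFun := fun n =>
            { toFun := fun d => ⟨n * d * (n : G)⁻¹, (Subgroup.mem_normalizer_iff.1 n.2 d).1 d.2⟩
              invFun := fun d => ⟨(n : G)⁻¹ * d * n, by
                have := (Subgroup.mem_normalizer_iff.1 (inv_mem n.2) d).1 d.2
                simpa using this⟩
              left_inv := fun d => Subtype.ext (by simp [mul_assoc])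
              right_inv := fun d => Subtype.ext (by simp [mul_assoc])
              map_mul' := fun a b => Subtype.ext (by simp [mul_assoc]) }
          map_one' := MulEquiv.ext fun d => Subtype.ext (by simp)
          map_mul' := fun m n => MulEquiv.ext fun d => Subtype.ext (by simp [mul_assoc]) }
      have hord : (orderOf (ρ ⟨g, hg⟩)).Coprime p :=
        Nat.Coprime.coprime_dvd_left ((orderOf_map_dvd ρ _).trans (by rw [← Subgroup.orderOf_coe])) hcop
      have hfix := Coprime23.fix_of_fix_omega hD hp (ρ ⟨g, hg⟩) hord (fun x hx => by
        obtain ⟨P', hP'⟩ := hD.exists_le_sylow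
        obtain ⟨k, hk⟩ := MulAction.exists_smul_eq G P' P
        have hxP : k * (x : G) * k⁻¹ ∈ (P : Subgroup G) := by
          rw [← hk, Sylow.coe_subgroup_smul]
          exact Subgroup.smul_mem_pointwise_smul _ (MulAut.conj k) _ (hP' x.2)
        have hc := hZ (Subgroup.subset_closure ⟨hxP, by
          rw [conj_pow, show (x : G) ^ p = 1 from congrArg Subtype.val hx, mul_one, mul_inv_cancel]⟩)
        have hxc : ∀ y : G, y * x = x * y := fun y => by
          have h1 := Subgroup.mem_center_iff.1 hc k
          have hkx : k * (x : G) * k⁻¹ = x := by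
            exact mul_left_cancel (h1.trans (inv_mul_cancel_right _ _))
          rw [← hkx]; exact Subgroup.mem_center_iff.1 hc y
        exact Subtype.ext (show g * x * g⁻¹ = x by rw [hxc g, mul_inv_cancel_right]))
      intro d hd
      exact (mul_inv_eq_iff_eq_mul.1 (congrArg Subtype.val (hfix ⟨d, hd⟩) : g * d * g⁻¹ = d)).symm
    refine ⟨hH, fun hq => ?_⟩
    have hnd := Transfer.hasNormalPComplement_iff.1 hH
    haveI := LocalEvenA.pResidual_characteristic' p G
    have hpg := LocalEvenA.pResidual_quotient_isPGroup (p := p) (G := G)
    haveI := hpg.isNilpotent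
    haveI := hq.1
    rcases subsingleton_or_nontrivial (G ⧸ pResidual p G) with hs | hnt
    · refine hnd ?_
      rw [(QuotientGroup.subsingleton_iff).1 hs, Subgroup.card_top]
      exact hdiv
    · have hlt := Group.IsSolvable.commutator_lt_top_of_nontrivial (G ⧸ pResidual p G)
      refine hlt.ne ?_
      have h1 : _root_.commutator G = ⊤ := Group.IsPerfect.commutator_eq_top
      rw [_root_.commutator_def] at h1 ⊢
      rw [← Subgroup.map_top_of_surjective _ (QuotientGroup.mk'_surjective (pResidual p G)),
        ← Subgroup.map_commutator, h1]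

end Cfsg.Agent.S2910
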