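import Cfsg.Statements.S2911
import Cfsg.Agent.Lib.Invol.ThompsonX
import Cfsg.Agent.Lib.LocalEvenA.Core
import Cfsg.Agent.Lib.LocalEvenA.CTwoDEight

set_option autoImplicit false
open Cfsg
open Cfsg.Agent.LocalEvenA.CTwoDEight
open Pointwise

namespace Cfsg.Agent.S2911

/-- A finite group whose Sylow 2-subgroups are isomorphic to the direct product of a group of order 2 and a dihedral group of order 8 has a subgroup of index two. -/
theorem result {G : Type*} [Group G] [Finite G] (S : Sylow 2 G) (hS : Nonempty (↥(S : Subgroup G) ≃* Multiplicative (ZMod 2) × DihedralGroup 4)) : ∃ H : Subgroup G, H.index = 2 := by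
  classical
    obtain ⟨f⟩ := hS
    by_contra hno
    haveI : Fact (Nat.Prime 2) := ⟨Nat.prime_two⟩
    let j : PP →* G := (S : Subgroup G).subtype.comp f.symm.toMonoidHom
    have hjinj : Function.Injective j := Subtype.val_injective.comp f.symm.injective
    have hjS : ∀ x, j x ∈ (S : Subgroup G) := fun x => (f.symm x).2
    have hjsurj : ∀ g ∈ (S : Subgroup G), ∃ x, j x = g := fun g hg => ⟨f ⟨g, hg⟩, by simp [j]⟩
    let R : PP → PP → Prop := fun a b => IsConj (j a) (j b)
    have hconjP : ∀ p x, R x (p * x * p⁻¹) := fun p x => isConj_iff.2 ⟨j p, by simp⟩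
    have hjc : ∀ a : PP, (∀ y, a * y = y * a) → j a ∈ Subgroup.centralizer ((S : Subgroup G) : Set G) :=
      fun a ha g hg => by
        obtain ⟨y, rfl⟩ := hjsurj g hg
        rw [← map_mul, ← map_mul, ha]
    -- fusion among central elements
    have hcen : ∀ a b : PP, (a = tt ∨ a = zz ∨ a = uu) → (b = tt ∨ b = zz ∨ b = uu) → R a b → a = b := by
      intro a b ha hb hab
      obtain ⟨c, hc⟩ := isConj_iff.1 hab
      have hac : ∀ {a : PP}, (a = tt ∨ a = zz ∨ a = uu) → ∀ y, a * y = y * a := by
        rintro a (rfl | rfl | rfl)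
        exacts [central_tt, central_zz, central_uu]
      obtain ⟨n, hn, hne⟩ := S.conj_eq_normalizer_conj_of_mem_centralizer (j a) c⁻¹ (hjc a (hac ha))
        (by rw [inv_inv, hc]; exact hjc b (hac hb))
      rw [inv_inv, hc] at hne
      obtain ⟨n2, no, hmul, ⟨k, hk⟩, hodd, hn2, hno'⟩ :=
        LocalEvenA.exists_pPart (p := 2) (isOfFinOrder_of_finite n⁻¹)
      have hN2 : n2 ∈ (S : Subgroup G) := by
        have hp : IsPGroup 2 ↥(Subgroup.zpowers n2) :=
          IsPGroup.of_card_dvd_pow (n := k) (by rw [Nat.card_zpowers]; exact orderOf_dvd_of_pow_eq_one hk)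
        have h := hp.inf_normalizer_sylow S
        have : n2 ∈ Subgroup.zpowers n2 ⊓ Subgroup.normalizer (S : Set G) :=
          ⟨Subgroup.mem_zpowers _, (Subgroup.zpowers_le.2 (inv_mem hn)) hn2⟩
        rw [h] at this
        exact this.2
      have hoN : no ∈ Subgroup.normalizer ((S : Subgroup G) : Set G) :=
        (Subgroup.zpowers_le.2 (inv_mem hn)) hno'
      have hcomm : Commute n2 no := by
        obtain ⟨i, hi⟩ := Subgroup.mem_zpowers_iff.1 hn2
        obtain ⟨l, hl⟩ := Subgroup.mem_zpowers_iff.1 hno'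
        rw [← hi, ← hl]; exact (Commute.refl _).zpow_zpow i l
      have hb' : j b = no * j a * no⁻¹ := by
        have hn2a : n2 * j a = j a * n2 := hjc a (hac ha) n2 hN2
        have hn' : n⁻¹ = no * n2 := by rw [← hcomm.eq]; exact hmul.symm
        rw [hne, hn', show n = n2⁻¹ * no⁻¹ by rw [← mul_inv_rev, ← hn', inv_inv],
          mul_assoc no n2 (j a), hn2a]
        group
      -- the automorphism induced by `no`
      let φ : PP ≃* PP := MulEquiv.ofBijective
        (⟨⟨fun x => f ⟨no * j x * no⁻¹, (Subgroup.mem_normalizer_iff.1 hoN _).1 (hjS x)⟩,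
          by simp only [map_one, mul_one, mul_inv_cancel]; exact map_one f⟩,
          fun x y => by rw [← map_mul f]; exact congrArg f (Subtype.ext (by simp))⟩ : PP →* PP)
        (Finite.injective_iff_bijective.1 fun x y h => hjinj (by
          have := congrArg Subtype.val (f.injective h)
          simpa using this))
      have hφ : ∀ x, j (φ x) = no * j x * no⁻¹ := fun x => by simp [φ, j]
      obtain ⟨hz, ht⟩ := aut_facts φ
      have h2 : ∀ {a : PP}, (a = tt ∨ a = zz ∨ a = uu) → φ (φ a) = a := by
        rintro a (rfl | rfl | rfl) <;> rcases ht with ⟨h1, h3⟩ | ⟨h1, h3⟩ <;> simp only [h1, h3, hz]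
      have hsq : Commute (no ^ 2) (j a) := by
        have h := congrArg j (h2 ha)
        rw [hφ, hφ] at h
        have h' : no ^ 2 * j a * (no ^ 2)⁻¹ = j a := by
          rw [pow_two]
          conv_rhs => rw [← h]
          group
        exact mul_inv_eq_iff_eq_mul.1 h'
      have hodd' : Nat.Coprime 2 (orderOf no) := (Nat.Coprime.symm hodd)
      obtain ⟨m, hm⟩ := exists_pow_eq_self_of_coprime hodd'
      have hcomm2 : no * j a = j a * no := by
        have := hsq.pow_left m
        rw [hm] at this
        exact this.eq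
      rw [hcomm2, mul_inv_cancel_right] at hb'
      exact (hjinj hb').symm
    -- Thompson transfer
    have htr : ∀ (u : PP), (u = tt ∨ u = uu) → ∀ a b : ZMod 2,
        ∃ x, x * x = 1 ∧ x ≠ 1 ∧ R u x ∧ chi a b x = 0 := by
      intro u hu a b
      have hchu : chi a b u = 1 := by
        rcases hu with rfl | rfl
        exacts [chi_tt a b, chi_uu a b]
      let c : PP →* Multiplicative (ZMod 2) :=
        { toFun := fun x => Multiplicative.ofAdd (chi a b x)
          map_one' := by
            show Multiplicative.ofAdd (chi a b 1) = 1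
            rw [chi_one]; rfl
          map_mul' := fun x y => by rw [chi_mul]; rfl }
      have hr : c.range = ⊤ := by
        rw [eq_top_iff]
        intro v _
        rcases zmod_cases v with
          rfl | rfl
        · exact one_mem _
        · exact ⟨u, congrArg Multiplicative.ofAdd hchu⟩
      set M := (c.ker.map f.symm.toMonoidHom).map (S : Subgroup G).subtype with hMdef
      have hrel : M.relIndex (S : Subgroup G) = 2 := by
        rw [Subgroup.relIndex, hMdef, Subgroup.subgroupOf,
          Subgroup.comap_map_eq_self_of_injective (S : Subgroup G).subtype_injective,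
          show (c.ker.map f.symm.toMonoidHom).index = c.ker.index from Subgroup.index_map_equiv c.ker f.symm,
          Subgroup.index_ker, hr, Subgroup.card_top, Nat.card_eq_fintype_card]
        rfl
      have hu1 : u * u = 1 ∧ u ≠ 1 := by
        rcases hu with rfl | rfl
        exacts [tt_sq, uu_sq]
      by_contra hne
      obtain ⟨K, -, hK, -⟩ := Invol.exists_index_two_notMem S M (Subgroup.map_subtype_le _) hrel 1
        (fun y _ hy => by
          have h2 : 2 ≤ orderOf y := by
            rcases Nat.lt_or_ge (orderOf y) 2 with h | h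
            · have h0 := orderOf_pos y
              exact absurd (orderOf_eq_one_iff.1 (by omega : orderOf y = 1) ▸ one_mem M) hy
            · exact h
          omega) (j u)
        (by rw [pow_one]; exact orderOf_eq_prime (by rw [pow_two, ← map_mul, hu1.1, map_one])
              (fun h => hu1.2 (hjinj (h.trans (map_one j).symm))))
        (fun g hg => by
          obtain ⟨y, ⟨x, hx, hxy⟩, hy⟩ := hg
          have hjx : j x = g⁻¹ * j u * g := by rw [← hy, ← hxy]; rfl
          refine hne ⟨x, hjinj ?_, fun h1 => hu1.2 (hjinj ?_),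
            isConj_iff.2 ⟨g⁻¹, by rw [inv_inv, hjx]⟩, ?_⟩
          · rw [map_mul, hjx, map_one, show g⁻¹ * j u * g * (g⁻¹ * j u * g) = g⁻¹ * (j u * j u) * g by
              group, ← map_mul, hu1.1, map_one, mul_one, inv_mul_cancel]
          · rw [h1, map_one] at hjx
            rw [map_one]
            calc j u = g * (g⁻¹ * j u * g) * g⁻¹ := by group
              _ = 1 := by rw [← hjx]; group
          · exact congrArg Multiplicative.toAdd (MonoidHom.mem_ker.1 hx))
      exact hno ⟨K, hK⟩
    have hdisj : ∀ x, R tt x → R uu x → False := fun x h1 h2 => by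
      have := hcen tt uu (Or.inl rfl) (Or.inr (Or.inr rfl)) (h1.trans h2.symm)
      exact absurd this (by decide)
    have hpair : ∀ u : PP, (u = tt ∨ u = uu) → (R u aa ∧ R u aT) ∨ (R u bb ∧ R u bT) := by
      intro u hu
      have key : ∀ a b : ZMod 2, (a = 0 ∧ R u aa) ∨ (b = 0 ∧ R u bb) ∨ (a = 1 ∧ R u aT) ∨
          (b = 1 ∧ R u bT) := by
        intro a b
        obtain ⟨x, hxx, hx1, hux, hchi⟩ := htr u hu a b
        have hu3 : u = tt ∨ u = zz ∨ u = uu := hu.imp id Or.inr
        have hcx : ∀ y, chi a b (RR * y * RR⁻¹) = chi a b y := fun y => by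
          rw [chi_mul, chi_mul]
          rw [chi_RR_inv, add_comm (chi a b RR), add_assoc, CharTwo.add_self_eq_zero, add_zero]
        have hc' : ∀ {v}, RR * x * RR⁻¹ = v → R u v ∧ chi a b v = 0 := fun {v} hv =>
          ⟨hux.trans (hv ▸ hconjP RR x), by rw [← hv, hcx, hchi]⟩
        have fin : ∀ v, (v = aa ∨ v = bb ∨ v = aT ∨ v = bT) → R u v → chi a b v = 0 →
            (a = 0 ∧ R u aa) ∨ (b = 0 ∧ R u bb) ∨ (a = 1 ∧ R u aT) ∨ (b = 1 ∧ R u bT) := by
          rintro v (rfl | rfl | rfl | rfl) hr hv
          · exact Or.inl ⟨by rwa [chi_aa] at hv, hr⟩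
          · exact Or.inr (Or.inl ⟨by rwa [chi_bb] at hv, hr⟩)
          · exact Or.inr (Or.inr (Or.inl ⟨one_add_eq_zero a (by rwa [chi_aT] at hv), hr⟩))
          · exact Or.inr (Or.inr (Or.inr ⟨one_add_eq_zero b (by rwa [chi_bT] at hv), hr⟩))
        rcases invol_cases x hxx with h | h | h | h | h | h | h | h | h | h | h | h
        · exact absurd h hx1
        · rw [h, chi_tt] at hchi; exact absurd hchi one_ne_zero
        · subst h
          have := hcen u zz hu3 (Or.inr (Or.inl rfl)) hux
          rcases hu with rfl | rfl <;> exact absurd this (by decide)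
        · rw [h, chi_uu] at hchi; exact absurd hchi one_ne_zero
        · exact fin x (Or.inl h) hux hchi
        · exact fin x (Or.inr (Or.inl h)) hux hchi
        · exact fin x (Or.inr (Or.inr (Or.inl h))) hux hchi
        · exact fin x (Or.inr (Or.inr (Or.inr h))) hux hchi
        · exact fin _ (Or.inl h) (hc' rfl).1 (hc' rfl).2
        · exact fin _ (Or.inr (Or.inl h)) (hc' rfl).1 (hc' rfl).2
        · exact fin _ (Or.inr (Or.inr (Or.inl h))) (hc' rfl).1 (hc' rfl).2
        · exact fin _ (Or.inr (Or.inr (Or.inr h))) (hc' rfl).1 (hc' rfl).2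
      have k00 := key 0 0
      have k11 := key 1 1
      have k01 := key 0 1
      have k10 := key 1 0
      simp only [show ((0 : ZMod 2) = 1) = False from eq_false zero_ne_one,
        show ((1 : ZMod 2) = 0) = False from eq_false one_ne_zero, true_and, false_and, false_or,
        or_false] at k00 k11 k01 k10
      rcases k00 with h | h <;> rcases k11 with h' | h'
      · exact Or.inl ⟨h, h'⟩
      · rcases k10 with g | g
        · exact Or.inr ⟨g, h'⟩
        · exact Or.inl ⟨h, g⟩
      · rcases k01 with g | g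
        · exact Or.inl ⟨g, h'⟩
        · exact Or.inr ⟨h, g⟩
      · exact Or.inr ⟨h, h'⟩
    obtain ⟨X, hX, hXt, hcov⟩ : ∃ X, RR * X * RR⁻¹ = X * zz ∧ R tt X ∧
        (∀ v, (v = aa ∨ v = bb ∨ v = aT ∨ v = bT) → R tt v ∨ R uu v) := by
      rcases hpair tt (Or.inl rfl) with ⟨h1, h2⟩ | ⟨h1, h2⟩ <;>
        rcases hpair uu (Or.inr rfl) with ⟨h3, h4⟩ | ⟨h3, h4⟩
      · exact absurd h3 fun h => hdisj aa h1 h
      · exact ⟨aa, conj_aa, h1, fun v hv => by
          rcases hv with rfl | rfl | rfl | rfl
          exacts [Or.inl h1, Or.inr h3, Or.inl h2, Or.inr h4]⟩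
      · exact ⟨bb, conj_bb, h1, fun v hv => by
          rcases hv with rfl | rfl | rfl | rfl
          exacts [Or.inr h3, Or.inl h1, Or.inr h4, Or.inl h2]⟩
      · exact absurd h3 fun h => hdisj bb h1 h
    -- conjugate `X` to `tt` with `zz` landing in `S`
    obtain ⟨c, hc⟩ := isConj_iff.1 hXt.symm
    have hXz : X * zz = zz * X := (central_zz X).symm
    have hcz : c * j zz * c⁻¹ ∈ Subgroup.centralizer ({j tt} : Set G) :=
      Subgroup.mem_centralizer_singleton_iff.2 (by
        rw [← hc, show c * j zz * c⁻¹ * (c * j X * c⁻¹) = c * (j zz * j X) * c⁻¹ by group,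
          ← map_mul, ← hXz, map_mul]
        group)
    have hSC : (S : Subgroup G) ≤ Subgroup.centralizer ({j tt} : Set G) := fun g hg =>
      Subgroup.mem_centralizer_singleton_iff.2 (hjc tt central_tt g hg)
    set C := Subgroup.centralizer ({j tt} : Set G)
    have hp : IsPGroup 2 ↥(Subgroup.zpowers (⟨_, hcz⟩ : C)) := by
      refine IsPGroup.of_card_dvd_pow (n := 1) ?_
      rw [Nat.card_zpowers]
      refine orderOf_dvd_of_pow_eq_one (Subtype.ext ?_)
      show (c * j zz * c⁻¹) ^ (2 ^ 1) = 1
      rw [pow_one, pow_two, show c * j zz * c⁻¹ * (c * j zz * c⁻¹) = c * (j zz * j zz) * c⁻¹ by group,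
        ← map_mul, zz_sq, map_one, mul_one, mul_inv_cancel]
    obtain ⟨Q, hQ⟩ := hp.exists_le_sylow
    obtain ⟨d, hd⟩ := MulAction.exists_smul_eq C Q (S.subtype hSC)
    have hdz : (d : G) * (c * j zz * c⁻¹) * (d : G)⁻¹ ∈ (S : Subgroup G) := by
      have h1 : MulAut.conj d • (⟨_, hcz⟩ : C) ∈ MulAut.conj d • (Q : Subgroup C) :=
        Subgroup.smul_mem_pointwise_smul _ _ _ (hQ (Subgroup.mem_zpowers _))
      rw [← Sylow.pointwise_smul_def, ← Sylow.smul_def, hd] at h1
      simpa [MulAut.smul_def, Sylow.coe_subtype, Subgroup.mem_subgroupOf] using h1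
    obtain ⟨w, hw⟩ := hjsurj _ hdz
    set e := (d : G) * c with he
    have hew : e * j zz * e⁻¹ = j w := by rw [hw, he]; group
    have het : e * j X * e⁻¹ = j tt := by
      rw [he, show (d : G) * c * j X * ((d : G) * c)⁻¹ = d * (c * j X * c⁻¹) * (d : G)⁻¹ by group, hc,
        Subgroup.mem_centralizer_singleton_iff.1 d.2, mul_inv_cancel_right]
    have hzw : R zz w := isConj_iff.2 ⟨e, hew⟩
    have hXw : R (X * zz) (tt * w) := isConj_iff.2 ⟨e, by rw [map_mul, map_mul, ← hew, ← het]; group⟩
    have hww : w * w = 1 := hjinj (by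
      rw [map_mul, ← hew, show e * j zz * e⁻¹ * (e * j zz * e⁻¹) = e * (j zz * j zz) * e⁻¹ by group,
        ← map_mul, zz_sq, map_one, mul_one, mul_inv_cancel])
    have hzc : ∀ v, (v = tt ∨ v = uu) → R zz v → False := fun v hv h => by
      have := hcen zz v (Or.inr (Or.inl rfl)) (hv.imp id Or.inr) h
      rcases hv with rfl | rfl <;> exact absurd this (by decide)
    have hwz : w = zz := by
      have four : ∀ v, (v = aa ∨ v = bb ∨ v = aT ∨ v = bT) → R zz v → False := fun v hv h => by
        rcases hcov v hv with h1 | h1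
        · exact hzc tt (Or.inl rfl) (h.trans h1.symm)
        · exact hzc uu (Or.inr rfl) (h.trans h1.symm)
      rcases invol_cases w hww with h | h | h | h | h | h | h | h | h | h | h | h
      · exfalso
        have h0 : IsConj (1 : G) (j zz) := by
          have := (hzw : IsConj (j zz) (j w)).symm
          rwa [h, map_one] at this
        exact zz_ne_one (hjinj ((isConj_one_right.1 h0).trans (map_one j).symm))
      · exact (hzc w (Or.inl h) hzw).elim
      · exact h
      · exact (hzc w (Or.inr h) hzw).elim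
      · exact (four w (Or.inl h) hzw).elim
      · exact (four w (Or.inr (Or.inl h)) hzw).elim
      · exact (four w (Or.inr (Or.inr (Or.inl h))) hzw).elim
      · exact (four w (Or.inr (Or.inr (Or.inr h))) hzw).elim
      · exact (four _ (Or.inl h) (hzw.trans (hconjP RR w))).elim
      · exact (four _ (Or.inr (Or.inl h)) (hzw.trans (hconjP RR w))).elim
      · exact (four _ (Or.inr (Or.inr (Or.inl h))) (hzw.trans (hconjP RR w))).elim
      · exact (four _ (Or.inr (Or.inr (Or.inr h))) (hzw.trans (hconjP RR w))).elim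
    subst hwz
    have h1 : R tt (tt * zz) := (hXt.trans (hX ▸ hconjP RR X)).trans hXw
    have := hcen tt (tt * zz) (Or.inl rfl) (Or.inr (Or.inr tt_mul_zz)) h1
    rw [tt_mul_zz] at this
    exact tt_ne_uu this

end Cfsg.Agent.S2911
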