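import Cfsg.Statements.S2912
import Cfsg.Agent.Lib.LocalEvenA.ExtraFaithful

set_option autoImplicit false
open Cfsg

namespace Cfsg.Agent.S2912

/-- Let p and r be distinct primes, let E be an extraspecial subgroup of order p^(2w+1) of a finite group, and let A be an elementary abelian r-subgroup normalized by E on which E acts faithfully (C_E(A) = 1). If n ≥ 1 is least with p dividing rⁿ − 1 (the smallest dimension of a faithful representation of a group of order p over the field with r elements), then the order of A is at least r^(n·p^w). -/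
theorem result {G : Type*} [Group G] [Finite G] {p r : ℕ} [Fact p.Prime] [hr : Fact r.Prime] (hpr : p ≠ r) (E A : Subgroup G) (w : ℕ) (hE : Cfsg.IsExtraspecial p ↥E) (hEcard : Nat.card ↥E = p ^ (2 * w + 1)) (hA : Cfsg.IsElementaryAbelian r A) (hnorm : E ≤ Subgroup.normalizer (A : Set G)) (hfaith : E ⊓ Subgroup.centralizer (A : Set G) = ⊥) (n : ℕ) (hn : 1 ≤ n) (hdiv : p ∣ r ^ n - 1) (hmin : ∀ k : ℕ, 1 ≤ k → p ∣ r ^ k - 1 → n ≤ k) : r ^ (n * p ^ w) ≤ Nat.card ↥A := by
  haveI := hA.1
  letI : CommGroup A := { mul_comm := mul_comm' }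
  let ρ : E →* AddMonoid.End (Additive A) :=
    { toFun := fun e => MonoidHom.toAdditive (A.normalizerMonoidHom ⟨e, hnorm e.2⟩).toMonoidHom
      map_one' := by
        refine DFunLike.ext _ _ fun v => ?_
        show Additive.ofMul (A.normalizerMonoidHom 1 v.toMul) = v
        rw [map_one]; rfl
      map_mul' := fun e e' => by
        refine DFunLike.ext _ _ fun v => ?_
        show Additive.ofMul (A.normalizerMonoidHom (⟨e, hnorm e.2⟩ * ⟨e', hnorm e'.2⟩) v.toMul) = _
        rw [map_mul]; rfl }
  obtain ⟨⟨z, hz⟩, hz1⟩ : ∃ z : Subgroup.center E, z ≠ 1 := by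
    haveI : Nontrivial (Subgroup.center E) := Finite.one_lt_card_iff_nontrivial.1 (hE.2.symm ▸ (Fact.out : p.Prime).one_lt)
    exact exists_ne 1
  refine (Cfsg.Agent.LocalEvenA.extraspecial_bound (V := Additive A) hpr hE hEcard (fun v => ?_) ρ hz ?_ hmin).trans
    (le_of_eq (Nat.card_congr Additive.toMul))
  · exact Additive.toMul.injective (Subtype.ext (hA.2 _ v.toMul.2))
  · intro e
    refine hz1 (Subtype.ext (Subtype.ext (Subgroup.mem_bot.1 (hfaith.le ⟨z.2, fun a ha => ?_⟩))))
    have h1 : (z : G) * a * (z : G)⁻¹ = a :=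
      congrArg (fun f : AddMonoid.End (Additive A) => ((f (Additive.ofMul ⟨a, ha⟩)).toMul : G)) e
    exact (mul_inv_eq_iff_eq_mul.1 h1).symm

end Cfsg.Agent.S2912
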