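import Cfsg.Statements.S2916
import Cfsg.Agent.Lib.Recog.CentGL23.Local
import Cfsg.Agent.Lib.Recog.CentGL23.Plane
import Cfsg.Agent.S0420
import Cfsg.Agent.Lib.Golay.Conj

set_option autoImplicit false
open Cfsg

namespace Cfsg.Agent.S2916

/-- Let G be a finite group with O²(G) = G (no proper normal subgroup of 2-power index), and let t be an involution of G whose centralizer C_G(t) is isomorphic to GL₂(3). Then G is isomorphic to PSL₃(3) or to the Mathieu group M₁₁. -/
theorem result {G : Type*} [Group G] [Finite G] (hO : Cfsg.pResidual 2 G = ⊤) (t : G) (ht : orderOf t = 2) (hC : Nonempty (↥(Subgroup.centralizer ({t} : Set G)) ≃* GL (Fin 2) (ZMod 3))) : (∃ (F : Type) (_ : Field F) (_ : Fintype F), Fintype.card F = 3 ∧ Nonempty (G ≃* Matrix.ProjectiveSpecialLinearGroup (Fin 3) F)) ∨ Cfsg.Spor.IsoM11 G := by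
  obtain ⟨e⟩ := hC
  obtain ⟨C, hCt⟩ := Cfsg.Agent.Recog.CentGL23.exists_ctx t ht e
  haveI := C.isSimpleGroup hO
  rcases Cfsg.Agent.SmallSimple.Octahedral.order_of_centralizer t ht e with h | h
  · left
    obtain ⟨H, E, h1, h2, h3, h4, h5, h6⟩ := C.exists_point_stabilizer (C.involution_conj hO) h
    exact ⟨ZMod 3, inferInstance, inferInstance, ZMod.card 3,
      Cfsg.Agent.Recog.CentGL23.Plane.recognize h H E h1 h2 h3 h4 h5 h6⟩
  · right
    obtain ⟨d, hd, hp⟩ : ∃ d ∈ Cfsg.dodecads, (some 0 : Cfsg.GolayPt) ∈ d :=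
      ⟨_, Cfsg.Agent.Golay24.sqDod_mem, by decide +kernel⟩
    obtain ⟨f⟩ := Cfsg.Agent.S0420.result (G := G) ⟨inferInstance, h⟩ d hd (some 0) hp
    obtain ⟨g⟩ := Cfsg.Agent.Golay24.stab_dodecad_point_equiv d hd (some 0) hp
    exact ⟨f.trans g⟩

end Cfsg.Agent.S2916
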