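import Cfsg.Statements.S2922
import Cfsg.Agent.Lib.LocalEvenB.CharP

set_option autoImplicit false
open Cfsg

namespace Cfsg.Agent.S2922

open Cfsg.Agent.LocalEvenB Cfsg.Agent.Components

/-- Let p be a prime, X a finite group, B a p-subgroup of X and C a normal subgroup of B. If N_X(C) has characteristic p (its generalized Fitting subgroup is O_p(N_X(C))), then N_X(B) and C_X(B) have characteristic p. -/
theorem result {X : Type*} [Group X] [Finite X] {p : ℕ} [Fact p.Prime] (B C : Subgroup X) (hB : IsPGroup p ↥B) (hCB : C ≤ B) (hCn : (C.subgroupOf B).Normal) (hC : Cfsg.generalizedFittingSubgroup ↥(Subgroup.normalizer (C : Set X)) = Cfsg.pCore p ↥(Subgroup.normalizer (C : Set X))) : Cfsg.generalizedFittingSubgroup ↥(Subgroup.normalizer (B : Set X)) = Cfsg.pCore p ↥(Subgroup.normalizer (B : Set X)) ∧ Cfsg.generalizedFittingSubgroup ↥(Subgroup.centralizer (B : Set X)) = Cfsg.pCore p ↥(Subgroup.centralizer (B : Set X)) := by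
  have hM := fStar_eq_pCore_iff.mp hC
  have hBN : B ≤ Subgroup.normalizer (C : Set X) := by
    intro b hb
    refine mem_normalizer_of_conj_mem fun c hc => ?_
    exact Subgroup.mem_subgroupOf.1
      (hCn.conj_mem ⟨c, hCB hc⟩ (Subgroup.mem_subgroupOf.2 hc) ⟨b, hb⟩)
  have hCC : Subgroup.centralizer (B : Set X) ≤ Subgroup.normalizer (C : Set X) :=
    (Subgroup.centralizer_le hCB).trans (Subgroup.centralizer_le_normalizer _)
  have hN : IsCharPGroup p ↥(Subgroup.normalizer (B : Set X)) := charP_normalizer_of_charP hB hBN hCC hM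
  have hn : ((Subgroup.centralizer (B : Set X)).subgroupOf (Subgroup.normalizer (B : Set X))).Normal := by
    refine ⟨fun c hc n => ?_⟩
    rw [Subgroup.mem_subgroupOf] at hc ⊢
    refine Subgroup.mem_centralizer_iff.2 fun b hb => ?_
    have h1 := Subgroup.mem_centralizer_iff.1 hc _ ((Subgroup.mem_normalizer_iff''.1 n.2 b).1 hb)
    have h2 := congrArg (fun z => (n : X) * z * (n : X)⁻¹) h1
    simpa [mul_assoc] using h2
  exact ⟨fStar_eq_pCore_iff.mpr hN,
    fStar_eq_pCore_iff.mpr (isCharPGroup_of_subgroupOf (Subgroup.centralizer_le_normalizer _) hn.isSubnormal hN)⟩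

end Cfsg.Agent.S2922
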