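import Cfsg.Statements.S2924
import Cfsg.Agent.Lib.Components.CompAction2
import Cfsg.Agent.Lib.ClassK.PComp
import Cfsg.Agent.Lib.Basics.CoprimeGen
import Cfsg.Agent.Lib.Basics.Tools
import Cfsg.Agent.Lib.LocalEvenB.Basic

set_option autoImplicit false
open Cfsg

namespace Cfsg.Agent.S2924

open Cfsg.Agent.Components
open scoped commutatorElement

private theorem key {G : Type*} [Group G] [Finite G] (z : G) (hz : orderOf z = 2)
    (hE : Cfsg.layer G = ⊥)
    (hH : Cfsg.layer ↥(Subgroup.centralizer ({z} : Set G)) = ⊥)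
    (hO : Cfsg.pPrimeCore 2 ↥(Subgroup.centralizer ({z} : Set G)) = ⊥) :
    IsMulCommutative ↥(Cfsg.pPrimeCore 2 G) ∧ Cfsg.pLayer 2 G = ⊥ := by
  haveI : Fact (Nat.Prime 2) := ⟨Nat.prime_two⟩
  set O := Cfsg.pPrimeCore 2 G with hOdef
  haveI : O.Normal := (LocalEvenB.pPrimeCore_spec (G := G) 2).1
  have hOc : (Nat.card O).Coprime 2 := (LocalEvenB.pPrimeCore_spec (G := G) 2).2
  set H := Subgroup.centralizer ({z} : Set G) with hHdef
  have hfix : ∀ u ∈ O, u ∈ H → u = 1 := by
    intro u hu huH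
    have h1 : O.subgroupOf H ≤ Cfsg.pPrimeCore 2 ↥H := by
      refine LocalEvenB.le_pPrimeCore inferInstance (hOc.coprime_dvd_left ?_)
      exact Subgroup.card_comap_dvd_of_injective O H.subtype H.subtype_injective
    rw [hO] at h1
    exact congrArg Subtype.val (Subgroup.mem_bot.1 (h1 (Subgroup.mem_subgroupOf.2 (show ((⟨u, huH⟩ : H) : G) ∈ O from hu))))
  have hz2 : z * z = 1 := by rw [← pow_two, ← hz, pow_orderOf_eq_one]
  let φ : ↥O →* ↥O :=
    { toFun := fun u => ⟨z * u * z⁻¹, Subgroup.Normal.conj_mem inferInstance _ u.2 z⟩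
      map_one' := Subtype.ext (by simp)
      map_mul' := fun u v => Subtype.ext (by simp [mul_assoc]) }
  have hφ : MonoidHom.FixedPointFree φ := by
    intro u hu
    have h := congrArg Subtype.val hu
    refine Subtype.ext (hfix _ u.2 ?_)
    exact Subgroup.mem_centralizer_singleton_iff.2 (mul_inv_eq_iff_eq_mul.1 h).symm
  have hφ2 : Function.Involutive φ := by
    intro u
    apply Subtype.ext
    show z * (z * u * z⁻¹) * z⁻¹ = u
    have hzi : z⁻¹ = z := inv_eq_of_mul_eq_one_right hz2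
    rw [hzi, ← mul_assoc, ← mul_assoc, hz2, one_mul, mul_assoc, hz2, mul_one]
  have hinv : ∀ u ∈ O, z * u * z⁻¹ = u⁻¹ := fun u hu =>
    congrArg Subtype.val (congrFun (hφ.coe_eq_inv_of_involutive hφ2) ⟨u, hu⟩)
  have hab : ∀ u ∈ O, ∀ v ∈ O, u * v = v * u := fun u hu v hv =>
    congrArg Subtype.val (hφ.commute_all_of_involutive hφ2 ⟨u, hu⟩ ⟨v, hv⟩).eq
  refine ⟨⟨⟨fun u v => Subtype.ext (hab u u.2 v v.2)⟩⟩, ?_⟩
  rw [Cfsg.pLayer, sSup_eq_bot]
  intro K hK
  exfalso
  set π := QuotientGroup.mk' O with hπ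
  set D := Subgroup.centralizer (O : Set G) with hD
  haveI : D.Normal := Subgroup.normalizer_eq_top_iff.1
    (top_le_iff.1 ((Subgroup.normalizer_eq_top_iff.2 (inferInstance : O.Normal)).symm.le.trans
      (normalizer_le_normalizer_centralizer O)))
  have hOD : O ≤ D := fun u hu => Subgroup.mem_centralizer_iff.2 fun v hv => hab v hv u hu
  have hzD : ∀ c : G, ⁅z, c⁆ ∈ D := by
    intro c
    refine Subgroup.mem_centralizer_iff.2 fun o ho => ?_
    have h1 : z * (c⁻¹ * o * c) * z⁻¹ = (c⁻¹ * o * c)⁻¹ :=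
      hinv _ (Subgroup.Normal.conj_mem' inferInstance o ho c)
    have h2 : ⁅z, c⁆ * o * ⁅z, c⁆⁻¹ = o := by
      have h3 : z⁻¹ * (c⁻¹ * o * c) * z = (c⁻¹ * o * c)⁻¹ := by
        have hzi : z⁻¹ = z := inv_eq_of_mul_eq_one_right hz2
        rw [hzi] at h1 ⊢
        exact h1
      calc ⁅z, c⁆ * o * ⁅z, c⁆⁻¹
          = z * c * (z⁻¹ * (c⁻¹ * o * c) * z) * c⁻¹ * z⁻¹ := by
            simp only [commutatorElement_def]; group
        _ = z * o⁻¹ * z⁻¹ := by rw [h3]; group
        _ = o := by rw [hinv _ (O.inv_mem ho), inv_inv]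
    exact (mul_inv_eq_iff_eq_mul.1 h2).symm
  set Z := Subgroup.zpowers z with hZ
  have hZD : ⁅Z, K⁆ ≤ D := by
    have hc : Z ≤ (Subgroup.center (G ⧸ D)).comap (QuotientGroup.mk' D) := by
      rw [hZ, Subgroup.zpowers_le, Subgroup.mem_comap, Subgroup.mem_center_iff]
      intro q
      induction q using QuotientGroup.induction_on with
      | _ c =>
        exact ((commutatorElement_eq_one_iff_mul_comm).1
          ((map_commutatorElement (QuotientGroup.mk' D) z c).symm.trans
            ((QuotientGroup.eq_one_iff _).2 (hzD c)))).symm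
    rw [Subgroup.commutator_le]
    intro a ha b _
    rw [← QuotientGroup.eq_one_iff, ← QuotientGroup.mk'_apply, map_commutatorElement,
      commutatorElement_eq_one_iff_mul_comm]
    exact ((Subgroup.mem_center_iff.1 (Subgroup.mem_comap.1 (hc ha))) _).symm
  have hKc : IsComponent (K.map π) := hK.2.1
  rcases component_le_or_commute hKc (H := D.map π)
    ((Subgroup.Normal.map inferInstance π (QuotientGroup.mk'_surjective O)) |>.isSubnormal) with hle | hcomm
  · have hKD : K ≤ D := by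
      have h1 := Subgroup.map_le_iff_le_comap.1 hle
      rwa [Subgroup.comap_map_eq, QuotientGroup.ker_mk', sup_eq_left.2 hOD] at h1
    have h2 : ⁅K, O⁆ = ⊥ := Subgroup.commutator_eq_bot_iff_le_centralizer.2 hKD
    exact (layer_eq_bot_iff.1 hE K) ((ClassK.pComponent_isComponent_iff hK).2 h2)
  · have h1 : ⁅⁅Z.map π, K.map π⁆, K.map π⁆ = ⊥ := by
      refine le_bot_iff.1 (le_trans (b := ⁅D.map π, K.map π⁆) (Subgroup.commutator_mono ?_ le_rfl) ?_)
      · rw [← Subgroup.map_commutator]; exact Subgroup.map_mono hZD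
      · first
          | exact hcomm.le
          | (rw [Subgroup.commutator_comm]; exact hcomm.le)
    have h2 : ⁅⁅K.map π, K.map π⁆, Z.map π⁆ = ⊥ :=
      Subgroup.commutator_commutator_eq_bot_of_rotate (by rw [Subgroup.commutator_comm (K.map π) (Z.map π)]; exact h1) h1
    rw [isComponent_commutator_eq_self hKc, Subgroup.commutator_eq_bot_iff_le_centralizer,
      ← map_centralizer_of_coprime hOc (IsPGroup.of_card (n := 1) (by rw [Nat.card_zpowers, hz, pow_one])),
      centralizer_zpowers_eq] at h2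
    let f : ↥H →* G ⧸ O := π.comp H.subtype
    have hf : Function.Injective f := by
      rw [injective_iff_map_eq_one]
      intro u hu
      exact Subtype.ext (hfix _ ((QuotientGroup.eq_one_iff _).1 hu) u.2)
    have hr : f.range = H.map π := by rw [MonoidHom.range_comp, Subgroup.range_subtype]
    let e : ↥H ≃* ↥(H.map π) := (MonoidHom.ofInjective hf).trans (MulEquiv.subgroupCongr hr)
    have h3 := map_layer_equiv e
    rw [hH, Subgroup.map_bot] at h3
    exact layer_eq_bot_iff.1 h3.symm _ (isComponent_subgroupOf hKc h2)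

private def centEquiv {X : Type*} [Group X] (y z : X) (hzy : z ∈ Subgroup.centralizer ({y} : Set X))
    (hyz : y ∈ Subgroup.centralizer ({z} : Set X)) :
    ↥(Subgroup.centralizer ({(⟨z, hzy⟩ : ↥(Subgroup.centralizer ({y} : Set X)))} : Set _)) ≃*
    ↥(Subgroup.centralizer ({(⟨y, hyz⟩ : ↥(Subgroup.centralizer ({z} : Set X)))} : Set _)) where
  toFun x := ⟨⟨x.1.1, Subgroup.mem_centralizer_singleton_iff.2
      (congrArg Subtype.val (Subgroup.mem_centralizer_singleton_iff.1 x.2))⟩,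
    Subgroup.mem_centralizer_singleton_iff.2 (Subtype.ext (Subgroup.mem_centralizer_singleton_iff.1 x.1.2))⟩
  invFun x := ⟨⟨x.1.1, Subgroup.mem_centralizer_singleton_iff.2
      (congrArg Subtype.val (Subgroup.mem_centralizer_singleton_iff.1 x.2))⟩,
    Subgroup.mem_centralizer_singleton_iff.2 (Subtype.ext (Subgroup.mem_centralizer_singleton_iff.1 x.1.2))⟩
  left_inv _ := rfl
  right_inv _ := rfl
  map_mul' _ _ := rfl

private theorem conj_theta {X : Type*} [Group X] [Finite X] (g y : X) :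
    (Cfsg.centralizerPPrimeCore 2 y).map (MulAut.conj g).toMonoidHom ≤
      Cfsg.centralizerPPrimeCore 2 (g * y * g⁻¹) := by
  haveI : Fact (Nat.Prime 2) := ⟨Nat.prime_two⟩
  have hC : (Subgroup.centralizer ({y} : Set X)).map (MulAut.conj g).toMonoidHom
      = Subgroup.centralizer ({g * y * g⁻¹} : Set X) := by
    ext u
    rw [LocalEvenB.mem_conjMap, Subgroup.mem_centralizer_singleton_iff, Subgroup.mem_centralizer_singleton_iff]
    constructor <;> intro h
    · calc u * (g * y * g⁻¹) = g * (g⁻¹ * u * g * y) * g⁻¹ := by group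
        _ = g * (y * (g⁻¹ * u * g)) * g⁻¹ := by rw [h]
        _ = g * y * g⁻¹ * u := by group
    · calc g⁻¹ * u * g * y = g⁻¹ * (u * (g * y * g⁻¹)) * g := by group
        _ = g⁻¹ * (g * y * g⁻¹ * u) * g := by rw [h]
        _ = y * (g⁻¹ * u * g) := by group
  let e : ↥(Subgroup.centralizer ({y} : Set X)) ≃* ↥(Subgroup.centralizer ({g * y * g⁻¹} : Set X)) :=
    ((Subgroup.centralizer ({y} : Set X)).equivMapOfInjective _ (MulAut.conj g).injective).trans
      (MulEquiv.subgroupCongr hC)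
  rintro _ ⟨_, ⟨u, hu, rfl⟩, rfl⟩
  refine ⟨e u, ?_, rfl⟩
  rw [SetLike.mem_coe, ← map_pPrimeCore_equiv e]
  exact ⟨u, hu, rfl⟩

/-- Let X be a finite group and Y an elementary abelian 2-subgroup of X of order at least 8 such that C_X(x) has no components (E(C_X(x)) = 1) for every nontrivial x ∈ Y, and F*(C_X(z)) = O₂(C_X(z)) for some nontrivial z ∈ Y. Then the subgroup generated by the cores O(C_X(y)), y ∈ Y nontrivial, has odd order and is normalized by N_X(Y). -/
theorem result {X : Type*} [Group X] [Finite X] (Y : Subgroup X) (hY : Cfsg.IsElementaryAbelian 2 Y) (h8 : 8 ≤ Nat.card ↥Y) (hE : ∀ x ∈ Y, x ≠ 1 → Cfsg.layer ↥(Subgroup.centralizer ({x} : Set X)) = ⊥) (hz : ∃ z ∈ Y, z ≠ 1 ∧ Cfsg.generalizedFittingSubgroup ↥(Subgroup.centralizer ({z} : Set X)) = Cfsg.pCore 2 ↥(Subgroup.centralizer ({z} : Set X))) : Odd (Nat.card ↥(⨆ y : {y : X // y ∈ Y ∧ y ≠ 1}, (Cfsg.oddCore ↥(Subgroup.centralizer ({(y : X)} : Set X))).map (Subgroup.centralizer ({(y : X)} : Set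 X)).subtype)) ∧ Subgroup.normalizer (Y : Set X) ≤ Subgroup.normalizer ((⨆ y : {y : X // y ∈ Y ∧ y ≠ 1}, (Cfsg.oddCore ↥(Subgroup.centralizer ({(y : X)} : Set X))).map (Subgroup.centralizer ({(y : X)} : Set X)).subtype : Subgroup X) : Set X) := by
  classical
  haveI : Fact (Nat.Prime 2) := ⟨Nat.prime_two⟩
  obtain ⟨z, hzY, hz1, hzF⟩ := hz
  have hzord : orderOf z = 2 := orderOf_eq_prime (hY.2 z hzY) hz1
  have hcom : ∀ a ∈ Y, ∀ b ∈ Y, Commute a b := fun a ha b hb =>
    congrArg Subtype.val (hY.1.is_comm.comm ⟨a, ha⟩ ⟨b, hb⟩)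
  have hkey : ∀ y ∈ Y, y ≠ 1 → IsMulCommutative ↥(Cfsg.centralizerPPrimeCore 2 y) ∧
      Cfsg.pLayer 2 ↥(Subgroup.centralizer ({y} : Set X)) = ⊥ := by
    intro y hy hy1
    have hzy : z ∈ Subgroup.centralizer ({y} : Set X) := Subgroup.mem_centralizer_singleton_iff.2 (hcom z hzY y hy).eq
    have hyz : y ∈ Subgroup.centralizer ({z} : Set X) := Subgroup.mem_centralizer_singleton_iff.2 (hcom y hy z hzY).eq
    set y' : ↥(Subgroup.centralizer ({z} : Set X)) := ⟨y, hyz⟩ with hy'
    have hyp : IsPGroup 2 ↥(Subgroup.zpowers y') := IsPGroup.of_card (n := 1) (by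
      rw [Nat.card_zpowers, ← Subgroup.orderOf_coe, pow_one]; exact orderOf_eq_prime (hY.2 y hy) hy1)
    have hF := fStar_normalizer_eq_pCore hzF hyp
    have hN : Subgroup.normalizer (Subgroup.zpowers y' : Set ↥(Subgroup.centralizer ({z} : Set X)))
        = Subgroup.centralizer ({y'} : Set _) := by
      refine le_antisymm (fun n hn => Subgroup.mem_centralizer_singleton_iff.2 ?_)
        ((centralizer_zpowers_eq y').symm.le.trans (Subgroup.centralizer_le_normalizer _))
      have h := (Subgroup.mem_normalizer_iff.1 hn y').1 (Subgroup.mem_zpowers y')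
      obtain ⟨i, hi⟩ := Subgroup.mem_zpowers_iff.1 h
      have hy2 : y' ^ 2 = 1 := Subtype.ext (hY.2 y hy)
      rcases Int.even_or_odd i with ⟨j, rfl⟩ | ⟨j, rfl⟩
      · rw [← two_mul, zpow_mul, zpow_two, ← pow_two, hy2, one_zpow, eq_comm, conj_eq_one_iff] at hi
        exact absurd (congrArg Subtype.val hi) hy1
      · rw [zpow_add_one, zpow_mul, zpow_two, ← pow_two, hy2, one_zpow, one_mul] at hi
        exact (eq_mul_inv_iff_mul_eq.1 hi).symm
    rw [hN, fStar_eq_pCore_iff, charP_iff_layer_and_core] at hF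
    have e := (centEquiv y z hzy hyz).symm
    have hk := key (⟨z, hzy⟩ : ↥(Subgroup.centralizer ({y} : Set X)))
      (by rw [← Subgroup.orderOf_coe]; exact hzord) (hE y hy hy1)
      (by rw [← map_layer_equiv e, hF.1, Subgroup.map_bot])
      (by rw [← map_pPrimeCore_equiv e, hF.2, Subgroup.map_bot])
    refine ⟨⟨⟨fun u v => ?_⟩⟩, hk.2⟩
    obtain ⟨_, a, ha, rfl⟩ := u
    obtain ⟨_, b, hb, rfl⟩ := v
    exact Subtype.ext (congrArg (Subgroup.centralizer ({y} : Set X)).subtype
      (congrArg Subtype.val (hk.1.is_comm.comm ⟨a, ha⟩ ⟨b, hb⟩)))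
  set W := fun y : X => Cfsg.centralizerPPrimeCore 2 y with hW
  have hbal : ∀ a ∈ Y, a ≠ 1 → ∀ b ∈ Y, b ≠ 1 → W a ⊓ Subgroup.centralizer {b} ≤ W b := fun a ha ha1 b hb hb1 =>
    centralizerPPrimeCore_inf_le (hcom a ha b hb)
      (IsPGroup.of_card (n := 1) (by rw [Nat.card_zpowers, pow_one]; exact orderOf_eq_prime (hY.2 a ha) ha1)) (hkey b hb hb1).2
  haveI := hY.1
  obtain ⟨k, hk⟩ := IsPGroup.iff_card.1 (show IsPGroup 2 ↥Y from fun u => ⟨1, Subtype.ext (by
    simpa using hY.2 u u.2)⟩)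
  have hgen : ∀ a ∈ Y, a ≠ 1 → W a ≤ ⨆ B ∈ {B : Subgroup X | B ≤ Y ∧ ∃ x ∈ Y, B ⊔ Subgroup.zpowers x = Y},
      W a ⊓ Subgroup.centralizer (B : Set X) := by
    intro a ha ha1
    refine Basics.le_iSup_inf_centralizer_cyclic Y (W a) (fun u hu => ?_) ?_
    · exact centralizer_le_normalizer_centralizerPPrimeCore a
        (Subgroup.mem_centralizer_singleton_iff.2 (hcom u hu a ha).eq)
    · rw [hk]
      exact Nat.Coprime.pow_left k (centralizerPPrimeCore_coprime (p := 2) a).symm
  have hBcard : ∀ B : Subgroup X, (B ≤ Y ∧ ∃ x ∈ Y, B ⊔ Subgroup.zpowers x = Y) → Nat.card Y ≤ 2 * Nat.card B := by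
    rintro B ⟨hB, x, hx, hsup⟩
    have h1 : Subgroup.zpowers x ≤ Subgroup.normalizer (B : Set X) := by
      rw [Subgroup.zpowers_le]
      refine Subgroup.mem_normalizer_iff.2 fun u => ⟨fun hu => ?_, fun hu => ?_⟩
      · rw [(hcom x hx u (hB hu)).eq, mul_inv_cancel_right]; exact hu
      · have h2 : x⁻¹ * (x * u * x⁻¹) * x = u := by group
        rw [← h2, mul_assoc, (hcom _ (hB hu) x hx).eq, ← mul_assoc, inv_mul_cancel, one_mul]
        exact hu
    have h2 := Basics.card_mul_card_eq_card_sup_mul_card_inf h1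
    rw [hsup, Nat.card_zpowers] at h2
    have h3 : orderOf x ≤ 2 := Nat.le_of_dvd two_pos (orderOf_dvd_of_pow_eq_one (hY.2 x hx))
    have h4 : 1 ≤ Nat.card ↥(B ⊓ Subgroup.zpowers x) := Nat.card_pos
    calc Nat.card Y ≤ Nat.card Y * Nat.card ↥(B ⊓ Subgroup.zpowers x) := Nat.le_mul_of_pos_right _ h4
      _ = Nat.card B * orderOf x := h2.symm
      _ ≤ Nat.card B * 2 := Nat.mul_le_mul_left _ h3
      _ = 2 * Nat.card B := mul_comm _ _
  have hcommW : ∀ a ∈ Y, a ≠ 1 → ∀ b ∈ Y, b ≠ 1 → W a ≤ Subgroup.centralizer (W b : Set X) := by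
    intro a ha ha1 b hb hb1
    refine (hgen a ha ha1).trans (iSup₂_le fun B hB => ?_)
    rw [Subgroup.le_centralizer_iff]
    refine (hgen b hb hb1).trans (iSup₂_le fun B' hB' => ?_)
    rw [Subgroup.le_centralizer_iff]
    obtain ⟨e, heB, he1⟩ : ∃ e ∈ B ⊓ B', e ≠ 1 := by
      suffices hne : B ⊓ B' ≠ ⊥ by
        obtain ⟨e, he⟩ := Subgroup.ne_bot_iff_exists_ne_one.1 hne
        exact ⟨(e : X), e.2, fun h => he (Subtype.ext h)⟩
      intro hbot
      have h1 := Basics.card_mul_card_eq_card_sup_mul_card_inf (N := B) (H := B') (fun u hu => ?_)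
      · rw [hbot, Subgroup.card_bot, mul_one] at h1
        have h2 : Nat.card ↥(B ⊔ B') ≤ Nat.card Y :=
          Nat.le_of_dvd Nat.card_pos (Subgroup.card_dvd_of_le (sup_le hB.1 hB'.1))
        have h3 := hBcard B hB
        have h4 := hBcard B' hB'
        nlinarith
      · refine Subgroup.centralizer_le_normalizer _ (Subgroup.mem_centralizer_iff.2 fun v hv => ?_)
        exact (hcom v (hB.1 hv) u (hB'.1 hu)).eq
    intro u hu
    refine Subgroup.mem_centralizer_iff.2 fun v hv => ?_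
    have heY : e ∈ Y := hB.1 heB.1
    have h1 : u ∈ W e := hbal a ha ha1 e heY he1 ⟨hu.1, Subgroup.mem_centralizer_singleton_iff.2
      (Subgroup.mem_centralizer_iff.1 hu.2 e heB.1).symm⟩
    have h2 : v ∈ W e := hbal b hb hb1 e heY he1 ⟨hv.1, Subgroup.mem_centralizer_singleton_iff.2
      (Subgroup.mem_centralizer_iff.1 hv.2 e heB.2).symm⟩
    exact congrArg Subtype.val ((hkey e heY he1).1.is_comm.comm ⟨v, h2⟩ ⟨u, h1⟩)
  set J := (⨆ y : {y : X // y ∈ Y ∧ y ≠ 1}, W (y : X)) with hJ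
  show Odd (Nat.card ↥J) ∧ Subgroup.normalizer (Y : Set X) ≤ Subgroup.normalizer (J : Set X)
  have hJc : J ≤ Subgroup.centralizer (J : Set X) := by
    refine iSup_le fun a => ?_
    rw [Subgroup.le_centralizer_iff]
    refine iSup_le fun b => ?_
    exact hcommW b b.2.1 b.2.2 a a.2.1 a.2.2
  constructor
  · have hodd : ∀ u ∈ J, Odd (orderOf u) := by
      intro u hu
      rw [hJ] at hu
      induction hu using Subgroup.iSup_induction' with
      | hp i v hv =>
        refine Nat.coprime_two_right.1 ((centralizerPPrimeCore_coprime (p := 2) (i : X)).coprime_dvd_left ?_)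
        exact Subgroup.orderOf_dvd_natCard _ hv
      | h1 => rw [orderOf_one]; exact odd_one
      | hmul v w hv hw hv' hw' =>
        have hc : Commute v w := Subgroup.mem_centralizer_iff.1 (hJc hw) v hv
        exact (hv'.mul hw').of_dvd_nat hc.orderOf_mul_dvd_mul_orderOf
    by_contra hne
    rw [Nat.not_odd_iff_even, even_iff_two_dvd] at hne
    obtain ⟨u, hu⟩ := exists_prime_orderOf_dvd_card' 2 hne
    have := hodd u u.2
    rw [Subgroup.orderOf_coe, hu] at this
    exact absurd this (by decide)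
  · intro g hg
    refine LocalEvenB.mem_normalizer_of_conjMap_le ?_
    rw [hJ, Subgroup.map_iSup]
    refine iSup_le fun a => (conj_theta g (a : X)).trans ?_
    refine le_iSup (fun y : {y : X // y ∈ Y ∧ y ≠ 1} => W (y : X))
      ⟨g * a * g⁻¹, (Subgroup.mem_normalizer_iff.1 hg _).1 a.2.1, fun h => a.2.2 (conj_eq_one_iff.1 h)⟩

end Cfsg.Agent.S2924
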