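import Cfsg.Statements.S2925
import Cfsg.Agent.Lib.LocalEvenB.Basic
import Cfsg.Agent.Lib.LocalEvenA.Core
import Cfsg.Agent.Lib.Components.Layer

set_option autoImplicit false
open Cfsg

namespace Cfsg.Agent.S2925

open Cfsg.Agent.LocalEvenB
open scoped commutatorElement

/-- Let K be a component of the finite group X and T a Sylow 2-subgroup of X. If some abelian normal subgroup Y of T does not normalize K, then K ⧸ Z(K) has abelian Sylow 2-subgroups. -/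
theorem result {X : Type*} [Group X] [Finite X] (K : Subgroup X) (hK : Cfsg.IsComponent K) (T : Sylow 2 X) (Y : Subgroup X) (hYT : Y ≤ (T : Subgroup X)) (hYn : (Y.subgroupOf (T : Subgroup X)).Normal) (hYab : IsMulCommutative ↥Y) (hnot : ¬ Y ≤ Subgroup.normalizer (K : Set X)) (P : Sylow 2 (↥K ⧸ Subgroup.center ↥K)) : IsMulCommutative ↥(P : Subgroup (↥K ⧸ Subgroup.center ↥K)) := by
  haveI : Fact (Nat.Prime 2) := ⟨Nat.prime_two⟩
  obtain ⟨y, hyY, hyN⟩ := SetLike.not_le_iff_exists.1 hnot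
  set K' := K.map (MulAut.conj y).toMonoidHom with hK'
  have hne : K' ≠ K := fun h => hyN (mem_normalizer_of_conjMap_le h.le)
  have hcomm : ⁅K', K⁆ = ⊥ :=
    (Components.component_eq_or_commute (Components.isComponent_conj y hK) hK).resolve_left hne
  have hc : ∀ a ∈ K', ∀ b ∈ K, Commute a b := fun a ha b hb => by
    have h1 : ⁅a, b⁆ ∈ (⊥ : Subgroup X) := hcomm ▸ Subgroup.commutator_mem_commutator ha hb
    exact commutatorElement_eq_one_iff_mul_comm.1 (Subgroup.mem_bot.1 h1)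
  have hY : ∀ t ∈ (T : Subgroup X), y * t * y⁻¹ * t⁻¹ ∈ Y := by
    intro t ht
    have h1 : t * y⁻¹ * t⁻¹ ∈ Y :=
      Subgroup.mem_subgroupOf.1 (hYn.conj_mem ⟨y⁻¹, hYT (Y.inv_mem hyY)⟩
        (Subgroup.mem_subgroupOf.2 (Y.inv_mem hyY)) ⟨t, ht⟩)
    rw [show y * t * y⁻¹ * t⁻¹ = y * (t * y⁻¹ * t⁻¹) by group]
    exact Y.mul_mem hyY h1
  -- commutators inside `T ∩ K` are central in `K`
  have hcen : ∀ s t : ↥K, (s : X) ∈ (T : Subgroup X) → (t : X) ∈ (T : Subgroup X) →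
      t⁻¹ * s⁻¹ * t * s ∈ Subgroup.center ↥K := by
    intro s t hs ht
    refine Subgroup.mem_center_iff.2 fun k => Subtype.ext ?_
    set a := y * (t : X) * y⁻¹ with ha
    set b := y * (s : X) * y⁻¹ with hb
    have haK : a ∈ K' := conjMap_apply_mem t.2
    have hbK : b ∈ K' := conjMap_apply_mem s.2
    have huv : a * (t : X)⁻¹ * (b * (s : X)⁻¹) = b * (s : X)⁻¹ * (a * (t : X)⁻¹) :=
      congrArg Subtype.val (hYab.is_comm.comm ⟨_, hY _ ht⟩ ⟨_, hY _ hs⟩)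
    have e1 : a * (t : X)⁻¹ * (b * (s : X)⁻¹) = a * b * ((t : X)⁻¹ * (s : X)⁻¹) := by
      rw [mul_assoc, ← mul_assoc _ b, ← (hc b hbK _ (K.inv_mem t.2)).eq, mul_assoc b, ← mul_assoc]
    have e2 : b * (s : X)⁻¹ * (a * (t : X)⁻¹) = b * a * ((s : X)⁻¹ * (t : X)⁻¹) := by
      rw [mul_assoc, ← mul_assoc _ a, ← (hc a haK _ (K.inv_mem s.2)).eq, mul_assoc a, ← mul_assoc]
    rw [e1, e2] at huv
    have e3 : ((t⁻¹ * s⁻¹ * t * s : ↥K) : X) = (a * b)⁻¹ * (b * a) := by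
      simp only [Subgroup.coe_mul, InvMemClass.coe_inv]
      calc (t : X)⁻¹ * (s : X)⁻¹ * (t : X) * (s : X)
          = (a * b)⁻¹ * (a * b * ((t : X)⁻¹ * (s : X)⁻¹)) * ((t : X) * (s : X)) := by group
        _ = (a * b)⁻¹ * (b * a * ((s : X)⁻¹ * (t : X)⁻¹)) * ((t : X) * (s : X)) := by rw [huv]
        _ = (a * b)⁻¹ * (b * a) := by group
    rw [Subgroup.coe_mul _ k (t⁻¹ * s⁻¹ * t * s), Subgroup.coe_mul _ (t⁻¹ * s⁻¹ * t * s) k, e3]
    exact (hc _ (K'.mul_mem (K'.inv_mem (K'.mul_mem haK hbK)) (K'.mul_mem hbK haK)) k k.2).symm.eq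
  obtain ⟨P0, hP0⟩ := LocalEvenA.exists_sylow_subgroupOf_subnormal T hK.1
  set π := QuotientGroup.mk' (Subgroup.center ↥K) with hπ
  obtain ⟨g, hg⟩ := MulAction.exists_smul_eq (↥K ⧸ Subgroup.center ↥K)
    (P0.mapSurjective (QuotientGroup.mk'_surjective (Subgroup.center ↥K))) P
  rw [← hg, Sylow.coe_subgroup_smul, Sylow.coe_mapSurjective]
  refine ⟨⟨fun u v => ?_⟩⟩
  obtain ⟨_, _, ⟨s, hs, rfl⟩, rfl⟩ := u
  obtain ⟨_, _, ⟨t, ht, rfl⟩, rfl⟩ := v
  rw [SetLike.mem_coe, hP0, Subgroup.mem_subgroupOf] at hs ht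
  have h1 : π s * π t = π t * π s := by
    rw [← map_mul, ← map_mul]
    refine (QuotientGroup.eq).2 ?_
    rw [mul_inv_rev, ← mul_assoc]
    exact hcen s t hs ht
  apply Subtype.ext
  show g * π s * g⁻¹ * (g * π t * g⁻¹) = g * π t * g⁻¹ * (g * π s * g⁻¹)
  rw [show g * π s * g⁻¹ * (g * π t * g⁻¹) = g * (π s * π t) * g⁻¹ by group, h1]
  group

end Cfsg.Agent.S2925
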