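import Cfsg.Statements.S2929
import Mathlib
import Cfsg.Agent.Lib.LocalEvenB.ThreeCycleSets
import Cfsg.Agent.Lib.Components.FStar
import Cfsg.Agent.Lib.Components.Quasisimple
import Cfsg.Agent.Lib.Zassenhaus.Nonsolvable

set_option autoImplicit false
open Cfsg

namespace Cfsg.Agent.S2929

open Equiv Equiv.Perm LocalEvenB.ThreeCycleSets

theorem cyc_inv {α : Type*} [Fintype α] [DecidableEq α] {k c : Perm α} (h : Commute k c) (x : α) :
    x ∈ c.support ↔ k x ∈ c.support := by
  have e : c (k x) = k (c x) := (congrFun (congrArg DFunLike.coe h.eq) x).symm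
  rw [mem_support, mem_support, e, k.injective.ne_iff]

theorem comm_of_cycles {α : Type*} [Fintype α] [DecidableEq α] {q : ℕ} (cy : Fin q → Perm α)
    (h3 : ∀ i, (cy i).IsThreeCycle) (hU : (Finset.univ.filter fun x => ∀ i, x ∉ (cy i).support).card ≤ 2)
    {k k' : Perm α} (hk : ∀ i, Commute k (cy i)) (hk' : ∀ i, Commute k' (cy i)) : Commute k k' := by
  classical
  refine Perm.ext fun x => ?_
  rw [Perm.mul_apply, Perm.mul_apply]
  by_cases hx : ∀ i, x ∉ (cy i).support
  · set U := Finset.univ.filter fun x => ∀ i, x ∉ (cy i).support with hUdef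
    have inv : ∀ {l : Perm α}, (∀ i, Commute l (cy i)) → ∀ y ∈ U, l y ∈ U := by
      intro l hl y hy
      simp only [hUdef, Finset.mem_filter, Finset.mem_univ, true_and] at hy ⊢
      exact fun i hi => hy i ((cyc_inv (hl i) y).2 hi)
    have hxU : x ∈ U := Finset.mem_filter.2 ⟨Finset.mem_univ _, hx⟩
    have key : ∀ {a b c : α}, a ∈ U → b ∈ U → c ∈ U → a ≠ b → c ≠ a → c = b := by
      intro a b c ha hb hc hab hca
      by_contra hcb
      have : ({a, b, c} : Finset α) ⊆ U := by simp [Finset.insert_subset_iff, ha, hb, hc]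
      have h := (Finset.card_le_card this).trans hU
      rw [Finset.card_eq_three.2 ⟨a, b, c, hab, Ne.symm hca, Ne.symm hcb, rfl⟩] at h
      omega
    have h1 := inv hk x hxU
    have h2 := inv hk' x hxU
    by_cases e1 : k x = x
    · by_cases e2 : k' x = x
      · rw [e1, e2, e1]
      · rw [e1]
        refine key hxU h2 (inv hk _ h2) (Ne.symm e2) fun e => e2 (k.injective (e.trans e1.symm))
    · by_cases e2 : k' x = x
      · rw [e2]
        exact (key hxU h1 (inv hk' _ h1) (Ne.symm e1) fun e => e1 (k'.injective (e.trans e2.symm))).symm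
      · have e12 : k' x = k x := key hxU h1 h2 (Ne.symm e1) e2
        rw [e12]
        have f1 : k (k x) = x := key h1 hxU (inv hk _ h1) e1 fun e => e1 (k.injective e)
        have f2 : k' (k x) = x := key h1 hxU (inv hk' _ h1) e1 fun e => e1 (k'.injective (e.trans e12.symm)).symm.symm
        rw [f1, f2]
  · push Not at hx
    obtain ⟨i, hi⟩ := hx
    have hs := (three_form (h3 i) hi).2.1
    have hkx := (cyc_inv (hk i) x).1 hi
    have hk'x := (cyc_inv (hk' i) x).1 hi
    have c1 : ∀ (l : Perm α), Commute l (cy i) → ∀ y, l (cy i y) = cy i (l y) := fun l hl y =>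
      congrFun (congrArg DFunLike.coe hl.eq) y
    rw [hs] at hkx hk'x
    simp only [Finset.mem_insert, Finset.mem_singleton] at hkx hk'x
    have A := c1 k (hk i)
    have B := c1 k' (hk' i)
    rcases hkx with a | a | a <;> rcases hk'x with b | b | b <;>
      simp [a, b, A, B]

theorem exists_cycles {n : ℕ} (P : Sylow 3 (Perm (Fin n))) :
    ∃ (q : ℕ) (cy : Fin q → Perm (Fin n)), (∀ i, (cy i).IsThreeCycle) ∧
      (∀ i, cy i ∈ (P : Subgroup (Perm (Fin n)))) ∧
      (Finset.univ.filter fun x => ∀ i, x ∉ (cy i).support).card ≤ 2 := by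
  classical
  haveI : Fact (Nat.Prime 3) := ⟨Nat.prime_three⟩
  let pt : Fin (n / 3) → Fin 3 → Fin n := fun i j => ⟨3 * i.val + j.val, by omega⟩
  have pne : ∀ {i : Fin (n / 3)} {j j' : Fin 3}, j ≠ j' → pt i j ≠ pt i j' := fun h e =>
    h (Fin.ext (by simpa [pt] using congrArg Fin.val e))
  let t : Fin (n / 3) → Perm (Fin n) := fun i => FGS.AutAlt.c3 (pt i 0) (pt i 1) (pt i 2)
  have t3 : ∀ i, (t i).IsThreeCycle := fun i =>
    FGS.AutAlt.c3_three (pne (by decide)) (pne (by decide)) (pne (by decide))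
  have tsupp : ∀ i x, x ∈ (t i).support ↔ x.val / 3 = i.val := by
    intro i x
    rw [c3_support (pne (by decide)) (pne (by decide)) (pne (by decide))]
    simp only [pt, Finset.mem_insert, Finset.mem_singleton, Fin.ext_iff, Fin.val_zero, Fin.val_one, Fin.val_two]
    omega
  have tcomm : ∀ i j, Commute (t i) (t j) := by
    intro i j
    rcases eq_or_ne i j with rfl | hij
    · exact Commute.refl _
    · refine Disjoint.commute (disjoint_iff_disjoint_support.2 (Finset.disjoint_left.2 fun x hx hx' => ?_))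
      rw [tsupp] at hx hx'
      exact hij (Fin.ext (hx.symm.trans hx'))
  set T := Subgroup.closure (Set.range t) with hT
  have hcomm : ∀ x ∈ T, ∀ y ∈ T, Commute x y := by
    have h1 : ∀ i, ∀ y ∈ T, Commute (t i) y := by
      intro i y hy
      induction hy using Subgroup.closure_induction with
      | mem y hy => obtain ⟨j, rfl⟩ := hy; exact tcomm i j
      | one => exact Commute.one_right _
      | mul a b _ _ ha hb => exact ha.mul_right hb
      | inv a _ ha => exact ha.inv_right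
    intro x hx y hy
    induction hx using Subgroup.closure_induction with
    | mem x hx => obtain ⟨j, rfl⟩ := hx; exact h1 j y hy
    | one => exact Commute.one_left _
    | mul a b _ _ ha hb => exact ha.mul_left hb
    | inv a _ ha => exact ha.inv_left
  have hexp : ∀ x ∈ T, x ^ 3 = 1 := by
    intro x hx
    induction hx using Subgroup.closure_induction with
    | mem x hx => obtain ⟨j, rfl⟩ := hx; rw [← (t3 j).orderOf]; exact pow_orderOf_eq_one _
    | one => simp
    | mul a b ha hb ea eb => rw [(hcomm a ha b hb).mul_pow, ea, eb, mul_one]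
    | inv a _ ea => rw [inv_pow, ea, inv_one]
  have hp : IsPGroup 3 T := fun x => ⟨1, Subtype.ext (by simpa using hexp x.1 x.2)⟩
  obtain ⟨Q, hQ⟩ := hp.exists_le_sylow
  obtain ⟨g, hg⟩ := MulAction.exists_smul_eq (Perm (Fin n)) Q P
  refine ⟨n / 3, fun i => g * t i * g⁻¹, fun i => ?_, fun i => ?_, ?_⟩
  · exact (congrArg id (cycleType_conj (σ := t i) (τ := g))).trans (t3 i)
  · rw [← hg]
    exact Subgroup.mem_map_of_mem _ (hQ (Subgroup.subset_closure ⟨i, rfl⟩))
  · refine (Finset.card_le_card_of_injOn (fun x => (g⁻¹ x).val) (t := Finset.Ico (3 * (n / 3)) n)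
      (fun x hx => ?_) (fun x _ y _ e => g⁻¹.injective (Fin.ext e))).trans (by rw [Nat.card_Ico]; omega)
    simp only [Finset.coe_filter, Finset.mem_univ, true_and, Set.mem_ofPred_eq] at hx
    simp only [Finset.coe_Ico, Set.mem_Ico]
    refine ⟨?_, (g⁻¹ x).isLt⟩
    by_contra hlt
    refine hx ⟨(g⁻¹ x).val / 3, by omega⟩ ?_
    rw [support_conj, Finset.mem_map]
    exact ⟨g⁻¹ x, (tsupp _ _).2 rfl, by simp⟩

theorem perfect_hom_solvable {K G : Type*} [Group K] [Group G] (hK : commutator K = ⊤) [Group.IsSolvable G]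
    (f : K →* G) (k : K) : f k = 1 := by
  obtain ⟨m, hm⟩ := (Group.isSolvable_def G).1 inferInstance
  have hd : ∀ j, derivedSeries K j = ⊤ := by
    intro j
    induction j with
    | zero => rfl
    | succ j ih => rw [derivedSeries_succ, ih, ← _root_.commutator_def, hK]
  have := map_derivedSeries_le_derivedSeries f m (Subgroup.mem_map_of_mem f (hd m ▸ Subgroup.mem_top k))
  rwa [hm, Subgroup.mem_bot] at this

theorem alt_supported {α : Type*} [Fintype α] [DecidableEq α] (Δ : Finset α) :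
    (alternatingGroup {x // x ∈ Δ}).map (Perm.ofSubtype (p := fun x => x ∈ Δ)) =
      Subgroup.closure {c : Perm α | c.IsThreeCycle ∧ c.support ⊆ Δ} := by
  rw [← Perm.closure_three_cycles_eq_alternating, MonoidHom.map_closure]
  congr 1
  ext c
  constructor
  · rintro ⟨u, hu, rfl⟩
    refine ⟨(cycleType_ofSubtype (g := u)).trans hu, fun x hx => ?_⟩
    rw [support_ofSubtype, Finset.mem_map] at hx
    obtain ⟨y, -, rfl⟩ := hx
    exact y.2
  · rintro ⟨hc, hsub⟩
    have h1 : ∀ x, c x ∈ Δ ↔ x ∈ Δ := fun x => by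
      by_cases hx : c x = x
      · rw [hx]
      · exact ⟨fun _ => hsub (mem_support.2 hx),
          fun _ => hsub (apply_mem_support.2 (mem_support.2 hx))⟩
    have e := ofSubtype_subtypePerm (p := fun x => x ∈ Δ) h1 fun x hx => hsub (mem_support.2 hx)
    refine ⟨c.subtypePerm h1, ?_, e⟩
    show _ = _
    rw [← cycleType_ofSubtype, e]
    exact hc

theorem core {n : ℕ} (hn : 5 ≤ n) {H K : Subgroup (Perm (Fin n))} (hK : Cfsg.IsQuasisimple K) (hKH : K ≤ H)
    (hnorm : H ≤ Subgroup.normalizer (K : Set (Perm (Fin n))))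
    (hcent : ∀ x ∈ H, (∀ k ∈ K, k * x = x * k) → x ∈ K) (P : Sylow 3 (Perm (Fin n)))
    (hPH : (P : Subgroup (Perm (Fin n))) ≤ H) :
    ∃ m : ℕ, (m = n - 2 ∨ m = n - 1 ∨ m = n) ∧ Nonempty (K ≃* alternatingGroup (Fin m)) := by
  classical
  obtain ⟨q, cy, cy3, cyP, cyU⟩ := exists_cycles P
  set D := Subgroup.closure {c : Perm (Fin n) | c.IsThreeCycle ∧ c ∈ H} with hD
  have hDH : D ≤ H := (Subgroup.closure_le _).2 fun c hc => hc.2
  have hDn : ∀ h ∈ H, ∀ d ∈ D, h * d * h⁻¹ ∈ D := by
    intro h hh d hd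
    induction hd using Subgroup.closure_induction with
    | mem c hc =>
      exact Subgroup.subset_closure ⟨(cycleType_conj (σ := c) (τ := h)).trans hc.1,
        H.mul_mem (H.mul_mem hh hc.2) (H.inv_mem hh)⟩
    | one => simp
    | mul a b _ _ ha hb => simpa [mul_assoc] using D.mul_mem ha hb
    | inv a _ ha => simpa [mul_assoc] using D.inv_mem ha
  have hHD : H ≤ Subgroup.normalizer (D : Set (Perm (Fin n))) := by
    intro h hh
    rw [Subgroup.mem_normalizer_iff]
    intro d
    refine ⟨hDn h hh d, fun hd => ?_⟩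
    simpa [mul_assoc] using hDn h⁻¹ (H.inv_mem hh) _ hd
  have hperf := Components.qs_perfect hK
  have hKD : K ≤ D := by
    refine (Components.isQuasisimple_normalized_cases hK (hKH.trans hHD)).resolve_right fun hzK => ?_
    have hcent' : ∀ d ∈ D, ∀ k : K, Commute (k : Perm (Fin n)) d := by
      intro d hd
      have hz : ∀ k : K, d * (k : Perm (Fin n)) * d⁻¹ * (↑k)⁻¹ ∈ D ⊓ K := by
        intro k
        refine ⟨?_, K.mul_mem ((Subgroup.mem_normalizer_iff.1 (hnorm (hDH hd)) _).1 k.2) (K.inv_mem k.2)⟩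
        rw [mul_assoc, mul_assoc]
        refine D.mul_mem hd ?_
        rw [← mul_assoc]
        exact hDn _ (hKH k.2) _ (D.inv_mem hd)
      have hsub : ∀ k : K, (d * (k : Perm (Fin n)) * d⁻¹ * (↑k)⁻¹) ∈ K := fun k => (hz k).2
      let φ : K →* Subgroup.center K :=
        { toFun := fun k => ⟨⟨_, hsub k⟩, Subgroup.mem_center_iff.2 fun l => Subtype.ext
            (Subgroup.mem_centralizer_iff.1 (hzK (hz k)) _ l.2)⟩
          map_one' := by apply Subtype.ext; apply Subtype.ext; simp
          map_mul' := fun k l => by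
            apply Subtype.ext; apply Subtype.ext
            have hl := Subgroup.mem_centralizer_iff.1 (hzK (hz l)) _ k.2
            show d * ((k : Perm (Fin n)) * (l : Perm (Fin n))) * d⁻¹ * ((k : Perm (Fin n)) * (l : Perm (Fin n)))⁻¹ =
              (d * ↑k * d⁻¹ * (↑k)⁻¹) * (d * ↑l * d⁻¹ * (↑l)⁻¹)
            calc d * ((k : Perm (Fin n)) * (l : Perm (Fin n))) * d⁻¹ * ((k : Perm (Fin n)) * (l : Perm (Fin n)))⁻¹
                = (d * ↑k * d⁻¹) * (d * ↑l * d⁻¹ * (↑l)⁻¹) * (↑k)⁻¹ := by group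
              _ = (d * ↑k * d⁻¹) * ((↑k)⁻¹ * ((↑k : Perm (Fin n)) * (d * ↑l * d⁻¹ * (↑l)⁻¹))) * (↑k)⁻¹ := by
                group
              _ = _ := by rw [hl]; group }
      intro k
      haveI : Group.IsSolvable (Subgroup.center K) := Group.isSolvable_of_comm fun a b => Subtype.ext (Subgroup.mem_center_iff.1 b.2 a.1)
      have h1 : φ k = 1 := perfect_hom_solvable hperf φ k
      have h2 : d * (k : Perm (Fin n)) * d⁻¹ * (↑k)⁻¹ = 1 := congrArg (fun z => ((z.1 : K) : Perm (Fin n))) h1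
      rw [mul_inv_eq_one, mul_inv_eq_iff_eq_mul] at h2
      exact h2.symm
    refine Components.qs_not_isMulCommutative hK ⟨⟨fun k l => Subtype.ext ?_⟩⟩
    exact comm_of_cycles cy cy3 cyU
      (fun i => hcent' _ (Subgroup.subset_closure ⟨cy3 i, hPH (cyP i)⟩) k)
      (fun i => hcent' _ (Subgroup.subset_closure ⟨cy3 i, hPH (cyP i)⟩) l)
  have hstab : ∀ Δ, MaxGood H Δ → ∀ d ∈ D, ∀ x, d x ∈ Δ ↔ x ∈ Δ := by
    intro Δ hΔ d hd
    induction hd using Subgroup.closure_induction with
    | mem c hc =>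
      intro x
      by_cases hx : x ∈ c.support
      · constructor <;> intro h
        · exact hΔ.support_subset hc.1 hc.2 (apply_mem_support.2 hx) h hx
        · exact hΔ.support_subset hc.1 hc.2 hx h (apply_mem_support.2 hx)
      · rw [notMem_support.1 hx]
    | one => simp
    | mul a b _ _ ha hb => intro x; rw [Perm.mul_apply, ha, hb]
    | inv a _ ha => intro x; rw [← ha (a⁻¹ x)]; simp
  obtain ⟨Δ, hΔ, h5⟩ : ∃ Δ, MaxGood H Δ ∧ 5 ≤ Δ.card := by
    by_contra hno
    push Not at hno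
    have hfix : ∀ d ∈ D, ∀ x, (∀ Δ, MaxGood H Δ → x ∉ Δ) → d x = x := by
      intro d hd
      induction hd using Subgroup.closure_induction with
      | mem c hc =>
        intro x hx
        obtain ⟨Δ, hΔ, hsub⟩ := exists_maxGood hc.1 hc.2
        exact notMem_support.1 fun h => hx Δ hΔ (hsub h)
      | one => simp
      | mul a b _ _ ha hb => intro x hx; rw [Perm.mul_apply, hb x hx, ha x hx]
      | inv a _ ha => intro x hx; rw [inv_eq_iff_eq]; exact (ha x hx).symm
    haveI := Components.qs_nontrivial hK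
    obtain ⟨k, hk⟩ := exists_ne (1 : K)
    refine hk (Subtype.ext (Perm.ext fun x => ?_))
    by_cases hx : ∀ Δ, MaxGood H Δ → x ∉ Δ
    · exact hfix _ (hKD k.2) x hx
    push Not at hx
    obtain ⟨Δ, hΔ, hxΔ⟩ := hx
    haveI : Group.IsSolvable (Perm {y // y ∈ Δ}) := by
      haveI := Zassenhaus.perm_fin_four_isSolvable
      have hle : Fintype.card {y // y ∈ Δ} ≤ 4 := by
        rw [Fintype.card_coe]; have := hno Δ hΔ; omega
      obtain ⟨ι⟩ := Function.Embedding.nonempty_of_card_le (α := {y // y ∈ Δ}) (β := Fin 4) (by simpa using hle)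
      exact Group.isSolvable_of_isSolvable_injective (viaEmbeddingHom_injective ι)
    let f : K →* Perm {y // y ∈ Δ} :=
      { toFun := fun l => (l : Perm (Fin n)).subtypePerm fun y => hstab Δ hΔ _ (hKD l.2) y
        map_one' := by ext; rfl
        map_mul' := fun a b => by ext; rfl }
    have := congrArg (fun u => ((u ⟨x, hxΔ⟩ : {y // y ∈ Δ}) : Fin n)) (perfect_hom_solvable hperf f k)
    exact this
  haveI : IsSimpleGroup (alternatingGroup {x // x ∈ Δ}) :=
    alternatingGroup.isSimpleGroup (by simpa using h5)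
  set ι := (Perm.ofSubtype (p := fun x => x ∈ Δ)).comp (alternatingGroup {x // x ∈ Δ}).subtype with hι
  have ιinj : Function.Injective ι := Perm.ofSubtype_injective.comp Subtype.val_injective
  set N := (alternatingGroup {x // x ∈ Δ}).map (Perm.ofSubtype (p := fun x => x ∈ Δ)) with hN
  have hNr : ∀ a, ι a ∈ N := fun a => Subgroup.mem_map_of_mem _ a.2
  have hND : N ≤ D := by
    rw [hN, alt_supported, Subgroup.closure_le]
    exact fun c hc => Subgroup.subset_closure ⟨hc.1, hΔ.1.2 c hc.1 hc.2⟩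
  have hNn : ∀ d ∈ D, ∀ x ∈ N, d * x * d⁻¹ ∈ N := by
    intro d hd x hx
    rw [hN, alt_supported] at hx ⊢
    induction hx using Subgroup.closure_induction with
    | mem c hc =>
      refine Subgroup.subset_closure ⟨(cycleType_conj (σ := c) (τ := d)).trans hc.1, fun y hy => ?_⟩
      rw [support_conj, Finset.mem_map] at hy
      obtain ⟨z, hz, rfl⟩ := hy
      exact (hstab Δ hΔ d hd z).2 (hc.2 hz)
    | one => simp
    | mul a b _ _ ha hb => simpa [mul_assoc] using Subgroup.mul_mem _ ha hb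
    | inv a _ ha => simpa [mul_assoc] using Subgroup.inv_mem _ ha
  have hKN : K ≤ Subgroup.normalizer (N : Set (Perm (Fin n))) := by
    intro k hk
    rw [Subgroup.mem_normalizer_iff]
    intro d
    refine ⟨hNn k (hKD hk) d, fun hd => ?_⟩
    simpa [mul_assoc] using hNn k⁻¹ (D.inv_mem (hKD hk)) _ hd
  obtain ⟨p₁, hp₁⟩ := Finset.card_pos.1 (by omega : 0 < Δ.card)
  obtain ⟨p₂, hp₂, h21⟩ := Finset.exists_mem_ne (by omega : 1 < Δ.card) p₁
  obtain ⟨p₃, hp₃⟩ := (Finset.card_pos (s := (Δ.erase p₁).erase p₂)).1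
    (by rw [Finset.card_erase_of_mem (Finset.mem_erase.2 ⟨h21, hp₂⟩), Finset.card_erase_of_mem hp₁]; omega)
  obtain ⟨h32, h31, hp₃⟩ : p₃ ≠ p₂ ∧ p₃ ≠ p₁ ∧ p₃ ∈ Δ := by simpa using hp₃
  obtain ⟨p₄, hp₄⟩ := (Finset.card_pos (s := ((Δ.erase p₁).erase p₂).erase p₃)).1
    (by rw [Finset.card_erase_of_mem (by simp [h32, h31, hp₃]),
          Finset.card_erase_of_mem (Finset.mem_erase.2 ⟨h21, hp₂⟩), Finset.card_erase_of_mem hp₁]; omega)
  obtain ⟨h43, h42, h41, hp₄⟩ : p₄ ≠ p₃ ∧ p₄ ≠ p₂ ∧ p₄ ≠ p₁ ∧ p₄ ∈ Δ := by simpa using hp₄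
  have c3N : ∀ {a b c}, a ∈ Δ → b ∈ Δ → c ∈ Δ → a ≠ b → a ≠ c → b ≠ c → FGS.AutAlt.c3 a b c ∈ N := by
    intro a b c ha hb hc hab hac hbc
    rw [hN, alt_supported]
    refine Subgroup.subset_closure ⟨FGS.AutAlt.c3_three hab hac hbc, ?_⟩
    rw [c3_support hab hac hbc]
    simp [Finset.insert_subset_iff, ha, hb, hc]
  have hNab : ¬ ∀ a ∈ N, ∀ b ∈ N, a * b = b * a := by
    intro h
    have e := congrArg (fun u : Perm (Fin n) => u p₁)
      (h _ (c3N hp₁ hp₂ hp₃ h21.symm h31.symm h32.symm) _ (c3N hp₁ hp₂ hp₄ h21.symm h41.symm h42.symm))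
    simp only [Perm.mul_apply] at e
    rw [FGS.AutAlt.c3_a h21.symm h41.symm, FGS.AutAlt.c3_b h31.symm h32.symm,
      FGS.AutAlt.c3_a h21.symm h31.symm, FGS.AutAlt.c3_b h41.symm h42.symm] at e
    exact h43 e.symm
  have hNK : N ≤ K := by
    haveI : ((K).comap ι).Normal := ⟨fun a ha b => by
      rw [Subgroup.mem_comap] at ha ⊢
      rw [map_mul, map_mul, map_inv]
      exact (Subgroup.mem_normalizer_iff.1 (hnorm (hDH (hND (hNr b)))) _).1 ha⟩
    rcases (inferInstance : (K.comap ι).Normal).eq_bot_or_eq_top with h | h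
    · exfalso
      have hbot : ∀ x ∈ N, x ∈ K → x = 1 := by
        rintro _ ⟨a, ha, rfl⟩ hx
        have : (⟨a, ha⟩ : alternatingGroup {x // x ∈ Δ}) ∈ K.comap ι := hx
        rw [h, Subgroup.mem_bot] at this
        have e : a = 1 := congrArg Subtype.val this
        rw [e, map_one]
      have hx : ∀ x ∈ N, x ∈ K := fun x hx => hcent x (hDH (hND hx)) fun k hk => by
        have h1 : x * k * x⁻¹ * k⁻¹ ∈ K :=
          K.mul_mem ((Subgroup.mem_normalizer_iff.1 (hnorm (hDH (hND hx))) _).1 hk) (K.inv_mem hk)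
        have h2 : x * k * x⁻¹ * k⁻¹ ∈ N := by
          rw [mul_assoc, mul_assoc]
          refine N.mul_mem hx ?_
          rw [← mul_assoc]
          exact (Subgroup.mem_normalizer_iff.1 (hKN hk) _).1 (N.inv_mem hx)
        have e := hbot _ h2 h1
        rw [mul_inv_eq_one, mul_inv_eq_iff_eq_mul] at e
        exact e.symm
      exact hNab fun a ha b hb => by rw [hbot a ha (hx a ha), hbot b hb (hx b hb)]
    · rintro _ ⟨a, ha, rfl⟩
      have hm : (⟨a, ha⟩ : alternatingGroup {x // x ∈ Δ}) ∈ K.comap ι := by rw [h]; exact Subgroup.mem_top _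
      exact hm
  have hEq : K = N := by
    refine le_antisymm ((Components.isQuasisimple_normalized_cases hK hKN).resolve_right fun h => ?_) hNK
    exact hNab fun a ha b hb =>
      (Subgroup.mem_centralizer_iff.1 (h ⟨ha, hNK ha⟩) b (hNK hb)).symm
  have hNfix : ∀ x ∈ N, ∀ y, y ∉ Δ → x y = y := by
    rintro _ ⟨a, -, rfl⟩ y hy
    exact ofSubtype_apply_of_not_mem a hy
  have hall : ∀ c : Perm (Fin n), c.IsThreeCycle → c ∈ H → c.support ⊆ Δ := by
    intro c hc hcH y hy
    by_contra hyΔ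
    have hd : ∀ z ∈ c.support, z ∉ Δ := fun z hz hzΔ => hyΔ (hΔ.support_subset hc hcH hz hzΔ hy)
    have hcK : c ∈ K := hcent c hcH fun k hk => by
      refine (Disjoint.commute fun z => ?_).eq
      by_cases hz : z ∈ c.support
      · exact Or.inl (hNfix k (hEq ▸ hk) z (hd z hz))
      · exact Or.inr (notMem_support.1 hz)
    exact mem_support.1 hy (hNfix c (hEq ▸ hcK) y hyΔ)
  have hcard : n ≤ Δ.card + 2 := by
    have hsub : Finset.univ \ Δ ⊆ Finset.univ.filter fun x => ∀ i, x ∉ (cy i).support := by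
      intro x hx
      simp only [Finset.mem_sdiff, Finset.mem_univ, true_and, Finset.mem_filter] at hx ⊢
      exact fun i hi => hx (hall _ (cy3 i) (hPH (cyP i)) hi)
    have := (Finset.card_le_card hsub).trans cyU
    rw [Finset.card_sdiff_of_subset (Finset.subset_univ _), Finset.card_univ, Fintype.card_fin] at this
    omega
  have hle : Δ.card ≤ n := (Finset.card_le_univ Δ).trans_eq (Fintype.card_fin n)
  refine ⟨Δ.card, by omega, ⟨?_⟩⟩
  exact (MulEquiv.subgroupCongr hEq).trans
    ((((alternatingGroup {x // x ∈ Δ}).equivMapOfInjective _ Perm.ofSubtype_injective).symm).trans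
      (Equiv.altCongrHom Δ.equivFin))

/-- Let n ≥ 5 and let H be a subgroup of the symmetric group of degree n whose generalized Fitting subgroup F*(H) is quasisimple. If H contains a Sylow 3-subgroup of the symmetric group, then F*(H) is isomorphic to an alternating group of degree m for some m ∈ {n − 2, n − 1, n}. -/
theorem result (n : ℕ) (hn : 5 ≤ n) (H : Subgroup (Equiv.Perm (Fin n))) (hF : Cfsg.IsQuasisimple ↥(Cfsg.generalizedFittingSubgroup ↥H)) (hS : ∃ P : Sylow 3 (Equiv.Perm (Fin n)), (P : Subgroup (Equiv.Perm (Fin n))) ≤ H) : ∃ m : ℕ, (m = n - 2 ∨ m = n - 1 ∨ m = n) ∧ Nonempty (↥(Cfsg.generalizedFittingSubgroup ↥H) ≃* ↥(alternatingGroup (Fin m))) := by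
  obtain ⟨P, hP⟩ := hS
  set K0 := Cfsg.generalizedFittingSubgroup ↥H with hK0
  have e : ↥K0 ≃* ↥(K0.map H.subtype) := K0.equivMapOfInjective _ H.subtype_injective
  haveI : K0.Characteristic := by
    rw [Subgroup.characteristic_iff_map_eq]
    exact fun φ => Components.map_fStar_equiv φ
  obtain ⟨m, hm, ⟨f⟩⟩ := core hn (Components.qs_of_equiv hF e) (Subgroup.map_subtype_le K0)
    (by
      intro h hh
      rw [Subgroup.mem_normalizer_iff]
      have key : ∀ g ∈ H, ∀ k ∈ K0.map H.subtype, g * k * g⁻¹ ∈ K0.map H.subtype := by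
        rintro g hg _ ⟨k, hk, rfl⟩
        exact ⟨⟨g, hg⟩ * k * ⟨g, hg⟩⁻¹, Subgroup.Normal.conj_mem inferInstance k hk _, rfl⟩
      intro k
      refine ⟨key h hh k, fun hk => ?_⟩
      simpa [mul_assoc] using key h⁻¹ (H.inv_mem hh) _ hk)
    (fun x hx hc => ⟨⟨x, hx⟩, Components.centralizer_fStar_le (Subgroup.mem_centralizer_iff.2 fun k hk =>
      Subtype.ext (hc _ ⟨k, hk, rfl⟩)), rfl⟩) P hP
  exact ⟨m, hm, ⟨e.trans f⟩⟩

end Cfsg.Agent.S2929
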