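import Cfsg.Statements.S2928
import Mathlib
import Cfsg.Agent.Lib.LocalEvenB.DoubleTransp
import Cfsg.Agent.S2929

set_option autoImplicit false
open Cfsg

namespace Cfsg.Agent.S2928

open Equiv Equiv.Perm LocalEvenB.ThreeCycleSets LocalEvenB.DoubleTransp

theorem commute_of_central {n : ℕ} {H K D : Subgroup (Perm (Fin n))} (hK : Cfsg.IsQuasisimple K)
    (hnorm : H ≤ Subgroup.normalizer (K : Set (Perm (Fin n)))) (hKH : K ≤ H) (hDH : D ≤ H)
    (hDn : ∀ h ∈ H, ∀ d ∈ D, h * d * h⁻¹ ∈ D)
    (hzK : D ⊓ K ≤ Subgroup.centralizer (K : Set (Perm (Fin n)))) {d : Perm (Fin n)} (hd : d ∈ D) (k : K) :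
    Commute (k : Perm (Fin n)) d := by
  have hperf := Components.qs_perfect hK
  have hz : ∀ k : K, d * (k : Perm (Fin n)) * d⁻¹ * (↑k)⁻¹ ∈ D ⊓ K := by
    intro k
    refine ⟨?_, K.mul_mem ((Subgroup.mem_normalizer_iff.1 (hnorm (hDH hd)) _).1 k.2) (K.inv_mem k.2)⟩
    rw [mul_assoc, mul_assoc]
    refine D.mul_mem hd ?_
    rw [← mul_assoc]
    exact hDn _ (hKH k.2) _ (D.inv_mem hd)
  have hsub : ∀ k : K, (d * (k : Perm (Fin n)) * d⁻¹ * (↑k)⁻¹) ∈ K := fun k => (hz k).2
  let φ : K →* Subgroup.center K :=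
    { toFun := fun k => ⟨⟨_, hsub k⟩, Subgroup.mem_center_iff.2 fun l => Subtype.ext
        (Subgroup.mem_centralizer_iff.1 (hzK (hz k)) _ l.2)⟩
      map_one' := by apply Subtype.ext; apply Subtype.ext; simp
      map_mul' := fun k l => by
        apply Subtype.ext; apply Subtype.ext
        have hl := Subgroup.mem_centralizer_iff.1 (hzK (hz l)) _ k.2
        show d * ((k : Perm (Fin n)) * (l : Perm (Fin n))) * d⁻¹ * ((k : Perm (Fin n)) * (l : Perm (Fin n)))⁻¹ =
          (d * ↑k * d⁻¹ * (↑k)⁻¹) * (d * ↑l * d⁻¹ * (↑l)⁻¹)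
        calc d * ((k : Perm (Fin n)) * (l : Perm (Fin n))) * d⁻¹ * ((k : Perm (Fin n)) * (l : Perm (Fin n)))⁻¹
            = (d * ↑k * d⁻¹) * (d * ↑l * d⁻¹ * (↑l)⁻¹) * (↑k)⁻¹ := by group
          _ = (d * ↑k * d⁻¹) * ((↑k)⁻¹ * ((↑k : Perm (Fin n)) * (d * ↑l * d⁻¹ * (↑l)⁻¹))) * (↑k)⁻¹ := by
            group
          _ = _ := by rw [hl]; group }
  haveI : Group.IsSolvable (Subgroup.center K) := Group.isSolvable_of_comm fun a b => Subtype.ext (Subgroup.mem_center_iff.1 b.2 a.1)
  have h1 : φ k = 1 := S2929.perfect_hom_solvable hperf φ k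
  have h2 : d * (k : Perm (Fin n)) * d⁻¹ * (↑k)⁻¹ = 1 := congrArg (fun z => ((z.1 : K) : Perm (Fin n))) h1
  rw [mul_inv_eq_one, mul_inv_eq_iff_eq_mul] at h2
  exact h2.symm

theorem fixes_small {n : ℕ} {K : Subgroup (Perm (Fin n))} (hK : Cfsg.IsQuasisimple K) (Γ : Finset (Fin n))
    (hΓ : Γ.card ≤ 4) (hinv : ∀ k ∈ K, ∀ y, k y ∈ Γ ↔ y ∈ Γ) {k : Perm (Fin n)} (hk : k ∈ K) {x : Fin n}
    (hx : x ∈ Γ) : k x = x := by
  haveI : Group.IsSolvable (Perm {y // y ∈ Γ}) := by
    haveI := Zassenhaus.perm_fin_four_isSolvable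
    obtain ⟨ι⟩ := Function.Embedding.nonempty_of_card_le (α := {y // y ∈ Γ}) (β := Fin 4) (by simpa using hΓ)
    exact Group.isSolvable_of_isSolvable_injective (viaEmbeddingHom_injective ι)
  let f : K →* Perm {y // y ∈ Γ} :=
    { toFun := fun l => (l : Perm (Fin n)).subtypePerm fun y => hinv _ l.2 y
      map_one' := by ext; rfl
      map_mul' := fun a b => by ext; rfl }
  exact congrArg (fun u => ((u ⟨x, hx⟩ : {y // y ∈ Γ}) : Fin n))
    (S2929.perfect_hom_solvable (Components.qs_perfect hK) f ⟨k, hk⟩)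

theorem alt_of_three {n : ℕ} {H K : Subgroup (Perm (Fin n))} (hK : Cfsg.IsQuasisimple K) (hKH : K ≤ H)
    (hnorm : H ≤ Subgroup.normalizer (K : Set (Perm (Fin n))))
    (hcent : ∀ x ∈ H, (∀ k ∈ K, k * x = x * k) → x ∈ K) {c₀ : Perm (Fin n)} (hc₀ : c₀.IsThreeCycle)
    (hc₀H : c₀ ∈ H) :
    ∃ Δ : Finset (Fin n), 5 ≤ Δ.card ∧
      (alternatingGroup {x // x ∈ Δ}).map (Perm.ofSubtype (p := fun x => x ∈ Δ)) = K := by
  classical
  have hperf := Components.qs_perfect hK
  set D := Subgroup.closure {c : Perm (Fin n) | c.IsThreeCycle ∧ c ∈ H} with hD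
  have hDH : D ≤ H := (Subgroup.closure_le _).2 fun c hc => hc.2
  have hDn : ∀ h ∈ H, ∀ d ∈ D, h * d * h⁻¹ ∈ D := by
    intro h hh d hd
    induction hd using Subgroup.closure_induction with
    | mem c hc =>
      exact Subgroup.subset_closure ⟨(cycleType_conj (σ := c) (τ := h)).trans hc.1,
        H.mul_mem (H.mul_mem hh hc.2) (H.inv_mem hh)⟩
    | one => simp
    | mul a b _ _ ha hb => simpa [mul_assoc] using D.mul_mem ha hb
    | inv a _ ha => simpa [mul_assoc] using D.inv_mem ha
  have hHD : H ≤ Subgroup.normalizer (D : Set (Perm (Fin n))) := by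
    intro h hh
    rw [Subgroup.mem_normalizer_iff]
    intro d
    refine ⟨hDn h hh d, fun hd => ?_⟩
    simpa [mul_assoc] using hDn h⁻¹ (H.inv_mem hh) _ hd
  have hperf := Components.qs_perfect hK
  have hKD : K ≤ D := by
    refine (Components.isQuasisimple_normalized_cases hK (hKH.trans hHD)).resolve_right fun hzK => ?_
    have hcD : c₀ ∈ D := Subgroup.subset_closure ⟨hc₀, hc₀H⟩
    have hk : ∀ k ∈ K, Commute k c₀ := fun k hk =>
      commute_of_central hK hnorm hKH hDH hDn hzK hcD ⟨k, hk⟩
    have hcK : c₀ ∈ K := hcent c₀ hc₀H fun k hk' => (hk k hk').eq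
    obtain ⟨x, hx⟩ := Finset.card_pos.1 (by rw [hc₀.card_support]; norm_num : 0 < c₀.support.card)
    exact mem_support.1 hx (fixes_small hK c₀.support (by rw [hc₀.card_support]; norm_num)
      (fun k hk' y => (S2929.cyc_inv (hk k hk') y).symm) hcK hx)
  have hstab : ∀ Δ, MaxGood H Δ → ∀ d ∈ D, ∀ x, d x ∈ Δ ↔ x ∈ Δ := by
    intro Δ hΔ d hd
    induction hd using Subgroup.closure_induction with
    | mem c hc =>
      intro x
      by_cases hx : x ∈ c.support
      · constructor <;> intro h
        · exact hΔ.support_subset hc.1 hc.2 (apply_mem_support.2 hx) h hx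
        · exact hΔ.support_subset hc.1 hc.2 hx h (apply_mem_support.2 hx)
      · rw [notMem_support.1 hx]
    | one => simp
    | mul a b _ _ ha hb => intro x; rw [Perm.mul_apply, ha, hb]
    | inv a _ ha => intro x; rw [← ha (a⁻¹ x)]; simp
  obtain ⟨Δ, hΔ, h5⟩ : ∃ Δ, MaxGood H Δ ∧ 5 ≤ Δ.card := by
    by_contra hno
    push Not at hno
    have hfix : ∀ d ∈ D, ∀ x, (∀ Δ, MaxGood H Δ → x ∉ Δ) → d x = x := by
      intro d hd
      induction hd using Subgroup.closure_induction with
      | mem c hc =>
        intro x hx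
        obtain ⟨Δ, hΔ, hsub⟩ := exists_maxGood hc.1 hc.2
        exact notMem_support.1 fun h => hx Δ hΔ (hsub h)
      | one => simp
      | mul a b _ _ ha hb => intro x hx; rw [Perm.mul_apply, hb x hx, ha x hx]
      | inv a _ ha => intro x hx; rw [inv_eq_iff_eq]; exact (ha x hx).symm
    haveI := Components.qs_nontrivial hK
    obtain ⟨k, hk⟩ := exists_ne (1 : K)
    refine hk (Subtype.ext (Perm.ext fun x => ?_))
    by_cases hx : ∀ Δ, MaxGood H Δ → x ∉ Δ
    · exact hfix _ (hKD k.2) x hx
    push Not at hx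
    obtain ⟨Δ, hΔ, hxΔ⟩ := hx
    haveI : Group.IsSolvable (Perm {y // y ∈ Δ}) := by
      haveI := Zassenhaus.perm_fin_four_isSolvable
      have hle : Fintype.card {y // y ∈ Δ} ≤ 4 := by
        rw [Fintype.card_coe]; have := hno Δ hΔ; omega
      obtain ⟨ι⟩ := Function.Embedding.nonempty_of_card_le (α := {y // y ∈ Δ}) (β := Fin 4) (by simpa using hle)
      exact Group.isSolvable_of_isSolvable_injective (viaEmbeddingHom_injective ι)
    let f : K →* Perm {y // y ∈ Δ} :=
      { toFun := fun l => (l : Perm (Fin n)).subtypePerm fun y => hstab Δ hΔ _ (hKD l.2) y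
        map_one' := by ext; rfl
        map_mul' := fun a b => by ext; rfl }
    have := congrArg (fun u => ((u ⟨x, hxΔ⟩ : {y // y ∈ Δ}) : Fin n)) (S2929.perfect_hom_solvable hperf f k)
    exact this
  haveI : IsSimpleGroup (alternatingGroup {x // x ∈ Δ}) :=
    alternatingGroup.isSimpleGroup (by simpa using h5)
  set ι := (Perm.ofSubtype (p := fun x => x ∈ Δ)).comp (alternatingGroup {x // x ∈ Δ}).subtype with hι
  have ιinj : Function.Injective ι := Perm.ofSubtype_injective.comp Subtype.val_injective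
  set N := (alternatingGroup {x // x ∈ Δ}).map (Perm.ofSubtype (p := fun x => x ∈ Δ)) with hN
  have hNr : ∀ a, ι a ∈ N := fun a => Subgroup.mem_map_of_mem _ a.2
  have hND : N ≤ D := by
    rw [hN, S2929.alt_supported, Subgroup.closure_le]
    exact fun c hc => Subgroup.subset_closure ⟨hc.1, hΔ.1.2 c hc.1 hc.2⟩
  have hNn : ∀ d ∈ D, ∀ x ∈ N, d * x * d⁻¹ ∈ N := by
    intro d hd x hx
    rw [hN, S2929.alt_supported] at hx ⊢
    induction hx using Subgroup.closure_induction with
    | mem c hc =>
      refine Subgroup.subset_closure ⟨(cycleType_conj (σ := c) (τ := d)).trans hc.1, fun y hy => ?_⟩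
      rw [support_conj, Finset.mem_map] at hy
      obtain ⟨z, hz, rfl⟩ := hy
      exact (hstab Δ hΔ d hd z).2 (hc.2 hz)
    | one => simp
    | mul a b _ _ ha hb => simpa [mul_assoc] using Subgroup.mul_mem _ ha hb
    | inv a _ ha => simpa [mul_assoc] using Subgroup.inv_mem _ ha
  have hKN : K ≤ Subgroup.normalizer (N : Set (Perm (Fin n))) := by
    intro k hk
    rw [Subgroup.mem_normalizer_iff]
    intro d
    refine ⟨hNn k (hKD hk) d, fun hd => ?_⟩
    simpa [mul_assoc] using hNn k⁻¹ (D.inv_mem (hKD hk)) _ hd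
  obtain ⟨p₁, hp₁⟩ := Finset.card_pos.1 (by omega : 0 < Δ.card)
  obtain ⟨p₂, hp₂, h21⟩ := Finset.exists_mem_ne (by omega : 1 < Δ.card) p₁
  obtain ⟨p₃, hp₃⟩ := (Finset.card_pos (s := (Δ.erase p₁).erase p₂)).1
    (by rw [Finset.card_erase_of_mem (Finset.mem_erase.2 ⟨h21, hp₂⟩), Finset.card_erase_of_mem hp₁]; omega)
  obtain ⟨h32, h31, hp₃⟩ : p₃ ≠ p₂ ∧ p₃ ≠ p₁ ∧ p₃ ∈ Δ := by simpa using hp₃
  obtain ⟨p₄, hp₄⟩ := (Finset.card_pos (s := ((Δ.erase p₁).erase p₂).erase p₃)).1
    (by rw [Finset.card_erase_of_mem (by simp [h32, h31, hp₃]),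
          Finset.card_erase_of_mem (Finset.mem_erase.2 ⟨h21, hp₂⟩), Finset.card_erase_of_mem hp₁]; omega)
  obtain ⟨h43, h42, h41, hp₄⟩ : p₄ ≠ p₃ ∧ p₄ ≠ p₂ ∧ p₄ ≠ p₁ ∧ p₄ ∈ Δ := by simpa using hp₄
  have c3N : ∀ {a b c}, a ∈ Δ → b ∈ Δ → c ∈ Δ → a ≠ b → a ≠ c → b ≠ c → FGS.AutAlt.c3 a b c ∈ N := by
    intro a b c ha hb hc hab hac hbc
    rw [hN, S2929.alt_supported]
    refine Subgroup.subset_closure ⟨FGS.AutAlt.c3_three hab hac hbc, ?_⟩
    rw [c3_support hab hac hbc]
    simp [Finset.insert_subset_iff, ha, hb, hc]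
  have hNab : ¬ ∀ a ∈ N, ∀ b ∈ N, a * b = b * a := by
    intro h
    have e := congrArg (fun u : Perm (Fin n) => u p₁)
      (h _ (c3N hp₁ hp₂ hp₃ h21.symm h31.symm h32.symm) _ (c3N hp₁ hp₂ hp₄ h21.symm h41.symm h42.symm))
    simp only [Perm.mul_apply] at e
    rw [FGS.AutAlt.c3_a h21.symm h41.symm, FGS.AutAlt.c3_b h31.symm h32.symm,
      FGS.AutAlt.c3_a h21.symm h31.symm, FGS.AutAlt.c3_b h41.symm h42.symm] at e
    exact h43 e.symm
  have hNK : N ≤ K := by
    haveI : ((K).comap ι).Normal := ⟨fun a ha b => by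
      rw [Subgroup.mem_comap] at ha ⊢
      rw [map_mul, map_mul, map_inv]
      exact (Subgroup.mem_normalizer_iff.1 (hnorm (hDH (hND (hNr b)))) _).1 ha⟩
    rcases (inferInstance : (K.comap ι).Normal).eq_bot_or_eq_top with h | h
    · exfalso
      have hbot : ∀ x ∈ N, x ∈ K → x = 1 := by
        rintro _ ⟨a, ha, rfl⟩ hx
        have : (⟨a, ha⟩ : alternatingGroup {x // x ∈ Δ}) ∈ K.comap ι := hx
        rw [h, Subgroup.mem_bot] at this
        have e : a = 1 := congrArg Subtype.val this
        rw [e, map_one]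
      have hx : ∀ x ∈ N, x ∈ K := fun x hx => hcent x (hDH (hND hx)) fun k hk => by
        have h1 : x * k * x⁻¹ * k⁻¹ ∈ K :=
          K.mul_mem ((Subgroup.mem_normalizer_iff.1 (hnorm (hDH (hND hx))) _).1 hk) (K.inv_mem hk)
        have h2 : x * k * x⁻¹ * k⁻¹ ∈ N := by
          rw [mul_assoc, mul_assoc]
          refine N.mul_mem hx ?_
          rw [← mul_assoc]
          exact (Subgroup.mem_normalizer_iff.1 (hKN hk) _).1 (N.inv_mem hx)
        have e := hbot _ h2 h1
        rw [mul_inv_eq_one, mul_inv_eq_iff_eq_mul] at e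
        exact e.symm
      exact hNab fun a ha b hb => by rw [hbot a ha (hx a ha), hbot b hb (hx b hb)]
    · rintro _ ⟨a, ha, rfl⟩
      have hm : (⟨a, ha⟩ : alternatingGroup {x // x ∈ Δ}) ∈ K.comap ι := by rw [h]; exact Subgroup.mem_top _
      exact hm
  have hEq : K = N := by
    refine le_antisymm ((Components.isQuasisimple_normalized_cases hK hKN).resolve_right fun h => ?_) hNK
    exact hNab fun a ha b hb =>
      (Subgroup.mem_centralizer_iff.1 (h ⟨ha, hNK ha⟩) b (hNK hb)).symm
  exact ⟨Δ, h5, hEq.symm⟩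

theorem exists_frame {n : ℕ} (hn : 8 ≤ n) (P : Sylow 2 (alternatingGroup (Fin n))) :
    ∃ F : Frame (Fin n), ∀ i j, i ≠ j →
      F.el i j ∈ (P : Subgroup (alternatingGroup (Fin n))).map (alternatingGroup (Fin n)).subtype := by
  classical
  haveI : Fact (Nat.Prime 2) := ⟨Nat.prime_two⟩
  let sv : Fin n → Fin n := fun x =>
    ⟨if x.val % 2 = 1 then x.val - 1 else if x.val + 1 < n then x.val + 1 else x.val, by
      split_ifs <;> omega⟩
  have hsv : Function.Involutive sv := by
    intro x
    simp only [sv, Fin.ext_iff]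
    split_ifs <;> omega
  let F₀ : Frame (Fin n) :=
    { m := n / 2
      hm := by omega
      s := hsv.toPerm sv
      a := fun j => ⟨2 * j.val, by omega⟩
      inv := fun x => hsv x
      ne := fun j => by
        simp only [Function.Involutive.coe_toPerm, sv, ne_eq, Fin.ext_iff]
        split_ifs <;> omega
      inj := fun i j h => by
        simp only [Function.Involutive.coe_toPerm, sv, Fin.ext_iff] at h ⊢
        rcases h with h | h
        · omega
        · split_ifs at h <;> omega
      fixed := fun x h => by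
        simp only [Function.Involutive.coe_toPerm, sv, ne_eq, Fin.ext_iff] at h ⊢
        split_ifs
        · exfalso
          have h2 := (h ⟨x.val / 2, by omega⟩).2
          simp only at h2
          rw [if_neg (by omega), if_pos (by omega)] at h2
          omega
        · exfalso
          have h2 := (h ⟨x.val / 2, by omega⟩).1
          simp only at h2
          omega
        · rfl
      single := fun x y hx hy => by
        simp only [Function.Involutive.coe_toPerm, sv, Fin.ext_iff] at hx hy ⊢
        split_ifs at hx hy <;> omega }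
  set S : Set (alternatingGroup (Fin n)) := {z | ∃ i j, i ≠ j ∧ (z : Perm (Fin n)) = F₀.el i j} with hS
  set T := Subgroup.closure S with hT
  have h1 : ∀ z ∈ S, ∀ y ∈ T, Commute z y := by
    rintro z ⟨i, j, -, ez⟩ y hy
    induction hy using Subgroup.closure_induction with
    | mem y hy =>
      obtain ⟨k, l, -, ey⟩ := hy
      apply Subtype.ext
      simp only [Subgroup.coe_mul, ez, ey]
      exact F₀.el_comm i j k l
    | one => exact Commute.one_right _
    | mul a b _ _ ha hb => exact ha.mul_right hb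
    | inv a _ ha => exact ha.inv_right
  have hcomm : ∀ x ∈ T, ∀ y ∈ T, Commute x y := by
    intro x hx y hy
    induction hx using Subgroup.closure_induction with
    | mem x hx => exact h1 x hx y hy
    | one => exact Commute.one_left _
    | mul a b _ _ ha hb => exact ha.mul_left hb
    | inv a _ ha => exact ha.inv_left
  have hexp : ∀ x ∈ T, x ^ 2 = 1 := by
    intro x hx
    induction hx using Subgroup.closure_induction with
    | mem x hx =>
      obtain ⟨i, j, hij, ex⟩ := hx
      apply Subtype.ext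
      rw [pow_two, Subgroup.coe_mul, ex]
      exact (F₀.el_dt hij).mul_self
    | one => simp
    | mul a b ha hb ea eb => rw [(hcomm a ha b hb).mul_pow, ea, eb, mul_one]
    | inv a _ ea => rw [inv_pow, ea, inv_one]
  have hp : IsPGroup 2 T := fun x => ⟨1, Subtype.ext (by simpa using hexp x.1 x.2)⟩
  obtain ⟨Q, hQ⟩ := hp.exists_le_sylow
  obtain ⟨g, hg⟩ := MulAction.exists_smul_eq (alternatingGroup (Fin n)) Q P
  set γ : Perm (Fin n) := (g : Perm (Fin n))
  refine ⟨
    { m := F₀.m
      hm := F₀.hm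
      s := γ * F₀.s * γ⁻¹
      a := fun j => γ (F₀.a j)
      inv := fun x => by simp [F₀.inv]
      ne := fun j => by simpa using F₀.ne j
      inj := fun i j h => F₀.inj i j (h.imp (fun e => γ.injective e) (fun e => γ.injective (e.trans (by simp))))
      fixed := fun x h => by
        have h' := F₀.fixed (γ⁻¹ x) fun j =>
          ⟨fun e => (h j).1 (by rw [← e]; simp), fun e => (h j).2 (by simp only [Perm.mul_apply]; simp [← e])⟩
        show γ (F₀.s (γ⁻¹ x)) = x
        rw [h']
        simp
      single := fun x y hx hy => γ⁻¹.injective (F₀.single _ _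
        (by simpa using congrArg (⇑(γ⁻¹ : Perm (Fin n))) hx) (by simpa using congrArg (⇑(γ⁻¹ : Perm (Fin n))) hy)) }, fun i j hij => ?_⟩
  have hmem : F₀.el i j ∈ alternatingGroup (Fin n) := by
    rw [mem_alternatingGroup, Frame.el, map_mul, sign_swap (F₀.el_dist hij).1, sign_swap (F₀.el_dist hij).2.2.2.2.2]
    rfl
  refine ⟨g * ⟨_, hmem⟩ * g⁻¹, ?_, ?_⟩
  · rw [← hg]
    exact Subgroup.mem_map_of_mem _ (hQ (Subgroup.subset_closure ⟨i, j, hij, rfl⟩))
  · show γ * F₀.el i j * γ⁻¹ = _
    simp [Frame.el]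
    rw [swap_apply_apply, swap_apply_apply]
    group

/-- The support of a double transposition in a group without three-cycles. -/
theorem dichotomy {n : ℕ} {H : Subgroup (Perm (Fin n))} (hno : ∀ c : Perm (Fin n), c.IsThreeCycle → c ∉ H)
    (F : Frame (Fin n)) (hF : ∀ i j, i ≠ j → F.el i j ∈ H) {y : Perm (Fin n)} (hy : IsDT y) (hyH : y ∈ H) :
    (∀ x, F.s x = x → y x = x) ∧
      ((∀ x, x ∈ y.support ↔ F.s x ∈ y.support) ∨
        ∀ x, F.s x ≠ x → (x ∈ y.support ↔ F.s x ∉ y.support)) := by
  classical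
  set S := y.support with hS
  have hone : ∀ i j, i ≠ j → F.a i ∈ S ∨ F.s (F.a i) ∈ S → ¬ (F.a i ∈ S ∧ F.s (F.a i) ∈ S) →
      F.a j ∈ S ∨ F.s (F.a j) ∈ S := by
    intro i j hij h1 h2
    by_contra h3
    push Not at h3
    obtain ⟨p, hp, hps, huniq⟩ : ∃ p, p ∈ (F.el i j).support ∧ p ∈ S ∧
        ∀ q ∈ (F.el i j).support, q ∈ S → q = p := by
      rcases h1 with h | h
      · refine ⟨F.a i, by simp [F.el_supp hij], h, fun q hq hqs => ?_⟩
        simp only [F.el_supp hij, Finset.mem_insert, Finset.mem_singleton] at hq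
        rcases hq with e | e | e | e
        · exact e
        · exact absurd ⟨h, e ▸ hqs⟩ h2
        · exact absurd (e ▸ hqs) h3.1
        · exact absurd (e ▸ hqs) h3.2
      · refine ⟨F.s (F.a i), by simp [F.el_supp hij], h, fun q hq hqs => ?_⟩
        simp only [F.el_supp hij, Finset.mem_insert, Finset.mem_singleton] at hq
        rcases hq with e | e | e | e
        · exact absurd ⟨e ▸ hqs, h⟩ h2
        · exact e
        · exact absurd (e ▸ hqs) h3.1
        · exact absurd (e ▸ hqs) h3.2
    exact hno _ (three_of_meet_one (F.el_dt hij) hy hp hps huniq)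
      (H.mul_mem (H.mul_mem (hF i j hij) hyH) (H.mul_mem (hF i j hij) hyH))
  have hcard : S.card = 4 := hy.card_support
  by_cases hodd : ∃ i, ¬ (F.a i ∈ S ↔ F.s (F.a i) ∈ S)
  · obtain ⟨i, hi⟩ := hodd
    have hany : ∀ j, F.a j ∈ S ∨ F.s (F.a j) ∈ S := by
      intro j
      rcases eq_or_ne i j with rfl | hij
      · tauto
      · exact hone i j hij (by tauto) (by tauto)
    let sel : Fin F.m → Fin n := fun j => if F.a j ∈ S then F.a j else F.s (F.a j)
    have hinj : Function.Injective sel := by
      intro j k e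
      simp only [sel] at e
      split_ifs at e
      · exact F.inj _ _ (.inl e)
      · exact F.inj _ _ (.inr e)
      · exact (F.inj _ _ (.inr e.symm)).symm
      · exact F.inj _ _ (.inl (F.s.injective e))
    have himg : Finset.univ.image sel = S := by
      refine Finset.eq_of_subset_of_card_le (fun x hx => ?_) ?_
      · obtain ⟨j, -, rfl⟩ := Finset.mem_image.1 hx
        simp only [sel]
        split_ifs with h
        · exact h
        · exact (hany j).resolve_left h
      · rw [Finset.card_image_of_injective _ hinj, Finset.card_univ, Fintype.card_fin, hcard]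
        exact F.hm
    have hnb : ∀ j, F.a j ∈ S → F.s (F.a j) ∉ S := by
      intro j h1 h2
      rw [← himg] at h2
      obtain ⟨k, -, hk⟩ := Finset.mem_image.1 h2
      simp only [sel] at hk
      split_ifs at hk with h3
      · have := F.inj _ _ (.inr hk); subst this
        exact F.ne k hk.symm
      · have := F.inj _ _ (.inl (F.s.injective hk)); subst this
        exact h3 h1
    constructor
    · intro x hx
      by_contra hyx
      have : x ∈ Finset.univ.image sel := himg ▸ mem_support.2 hyx
      obtain ⟨j, -, rfl⟩ := Finset.mem_image.1 this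
      simp only [sel] at hx
      split_ifs at hx
      · exact F.ne j hx
      · rw [F.inv] at hx
        exact F.ne j hx.symm
    · right
      intro x hx
      obtain ⟨j, rfl | rfl⟩ := F.cover hx
      · exact ⟨hnb j, fun h => (hany j).resolve_right h⟩
      · rw [F.inv]
        exact ⟨fun h h' => hnb j h' h, fun h => (hany j).resolve_left h⟩
  · push Not at hodd
    have hcl : ∀ x, x ∈ S ↔ F.s x ∈ S := by
      intro x
      by_cases hx : F.s x = x
      · rw [hx]
      · obtain ⟨j, rfl | rfl⟩ := F.cover hx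
        · exact hodd j
        · rw [F.inv]; exact (hodd j).symm
    refine ⟨fun r hr => ?_, Or.inl hcl⟩
    by_contra hyr
    have hrS : r ∈ S := mem_support.2 hyr
    set J := Finset.univ.filter fun j => F.a j ∈ S
    have hU : S = insert r (J.image F.a ∪ J.image (fun j => F.s (F.a j))) := by
      ext x
      simp only [Finset.mem_insert, Finset.mem_union, Finset.mem_image, J, Finset.mem_filter, Finset.mem_univ, true_and]
      constructor
      · intro hx
        by_cases hsx : F.s x = x
        · exact Or.inl (F.single x r hsx hr)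
        · obtain ⟨j, rfl | rfl⟩ := F.cover hsx
          · exact .inr (.inl ⟨j, hx, rfl⟩)
          · exact .inr (.inr ⟨j, (hodd j).2 hx, rfl⟩)
      · rintro (rfl | ⟨j, hj, rfl⟩ | ⟨j, hj, rfl⟩)
        · exact hrS
        · exact hj
        · exact (hodd j).1 hj
    rw [hU, Finset.card_insert_of_notMem, Finset.card_union_of_disjoint,
      Finset.card_image_of_injective _ fun i j e => F.inj i j (.inl e),
      Finset.card_image_of_injective _ fun i j e => F.inj i j (.inl (F.s.injective e))] at hcard
    · omega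
    · rw [Finset.disjoint_left]
      intro x hx hx'
      obtain ⟨i, -, rfl⟩ := Finset.mem_image.1 hx
      obtain ⟨j, -, hj⟩ := Finset.mem_image.1 hx'
      have := F.inj i j (.inr hj.symm); subst this
      exact F.ne i hj
    · intro h
      rcases Finset.mem_union.1 h with h | h <;> obtain ⟨j, -, e⟩ := Finset.mem_image.1 h
      · exact F.ne j (by rw [e, hr])
      · exact F.ne j (F.s.injective (by rw [e, hr])) 

/-- A double transposition whose support is a union of pairs commutes with the pairing. -/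
theorem commute_of_closed {n : ℕ} (F : Frame (Fin n)) {y : Perm (Fin n)} (hy : IsDT y)
    (hcl : ∀ x, x ∈ y.support ↔ F.s x ∈ y.support) (hfix : ∀ x, F.s x = x → y x = x) : Commute y F.s := by
  refine Perm.ext fun x => ?_
  rw [Perm.mul_apply, Perm.mul_apply]
  by_cases hx : x ∈ y.support
  · by_cases he : y x = F.s x
    · rw [he, F.inv, ← he, hy.apply_apply]
    · have hyx := mem_support.1 hx
      have hsx : F.s x ≠ x := fun e => hyx (hfix x e)
      have h1 : y x ∈ y.support := apply_mem_support.2 hx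
      have h2 : F.s (y x) ∈ y.support := (hcl _).1 h1
      have h3 : y (F.s x) ∈ y.support := apply_mem_support.2 ((hcl x).1 hx)
      have h4 : F.s (y x) ≠ y x := fun e => hyx (by have := hfix _ e; rw [hy.apply_apply] at this; exact this.symm)
      by_contra hne
      have hsub : ({x, F.s x, y x, F.s (y x), y (F.s x)} : Finset (Fin n)) ⊆ y.support := by
        simp [Finset.insert_subset_iff, hx, (hcl x).1 hx, h1, h2, h3]
      have hc := Finset.card_le_card hsub
      have n1 : x ≠ F.s (y x) := fun e => he (by rw [e, F.inv]; rw [← e])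
      have n2 : x ≠ y (F.s x) := fun e => he (by rw [e, hy.apply_apply]; rw [← e])
      have n3 : F.s x ≠ y (F.s x) := fun e => mem_support.1 ((hcl x).1 hx) e.symm
      have n4 : y x ≠ y (F.s x) := fun e => hsx (y.injective e).symm
      have n5 : F.s x ≠ F.s (y x) := fun e => hyx (F.s.injective e).symm
      rw [hy.card_support, Finset.card_insert_of_notMem (by simp [Ne.symm hsx, Ne.symm hyx, n1, n2]),
        Finset.card_insert_of_notMem (by simp [Ne.symm he, n5, n3]),
        Finset.card_insert_of_notMem (by simp [Ne.symm h4, n4]),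
        Finset.card_insert_of_notMem (by simp [Ne.symm hne]), Finset.card_singleton] at hc
      omega
  · rw [notMem_support.1 hx, notMem_support.1 fun h => hx ((hcl x).2 h)]

theorem exists_three {n : ℕ} {H K : Subgroup (Perm (Fin n))} (hK : Cfsg.IsQuasisimple K) (hKH : K ≤ H)
    (hnorm : H ≤ Subgroup.normalizer (K : Set (Perm (Fin n))))
    (F : Frame (Fin n)) (hF : ∀ i j, i ≠ j → F.el i j ∈ H) : ∃ c : Perm (Fin n), c.IsThreeCycle ∧ c ∈ H := by
  classical
  by_contra hno
  push Not at hno
  -- commuting with all pair swaps forces triviality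
  have htriv : ¬ ∀ i j, i ≠ j → ∀ k ∈ K, Commute k (F.el i j) := by
    intro hc
    haveI := Components.qs_nontrivial hK
    obtain ⟨⟨k, hk⟩, hk1⟩ := exists_ne (1 : K)
    refine hk1 (Subtype.ext (Perm.ext fun x => ?_))
    show k x = x
    have pinv : ∀ l ∈ K, ∀ j y, l y ∈ ({F.a j, F.s (F.a j)} : Finset (Fin n)) ↔
        y ∈ ({F.a j, F.s (F.a j)} : Finset (Fin n)) := by
      intro l hl j y
      haveI : Nontrivial (Fin F.m) := Fin.nontrivial_iff_two_le.2 (by have := F.hm; omega)
      obtain ⟨i, hi, i', hi', hii⟩ : ∃ i, i ≠ j ∧ ∃ i', i' ≠ j ∧ i' ≠ i := by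
        obtain ⟨i, hi⟩ := exists_ne j
        obtain ⟨i', hi'⟩ := (Finset.card_pos (s := (Finset.univ.erase j).erase i)).1 (by
          rw [Finset.card_erase_of_mem (by simp [hi]), Finset.card_erase_of_mem (Finset.mem_univ _),
            Finset.card_univ, Fintype.card_fin]
          have := F.hm; omega)
        simp only [Finset.mem_erase, Finset.mem_univ, and_true] at hi'
        exact ⟨i, hi, i', hi'.2, hi'.1⟩
      have e : ∀ z, z ∈ ({F.a j, F.s (F.a j)} : Finset (Fin n)) ↔
          z ∈ (F.el j i).support ∧ z ∈ (F.el j i').support := by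
        intro z
        obtain ⟨-, h2, h3, h4, h5, -⟩ := F.el_dist hii
        rw [F.el_supp hi.symm, F.el_supp hi'.symm]
        simp only [Finset.mem_insert, Finset.mem_singleton]
        constructor
        · rintro (h | h) <;> simp [h]
        · rintro ⟨a1 | a1 | a1 | a1, b1 | b1 | b1 | b1⟩ <;> first
            | exact Or.inl a1 | exact Or.inr a1 | exact Or.inl b1 | exact Or.inr b1
            | exact absurd (b1.symm.trans a1) h2 | exact absurd (b1.symm.trans a1) h3
            | exact absurd (b1.symm.trans a1) h4 | exact absurd (b1.symm.trans a1) h5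
      rw [e, e, ← S2929.cyc_inv (hc j i hi.symm l hl), ← S2929.cyc_inv (hc j i' hi'.symm l hl)]
    by_cases hx : F.s x = x
    · have hfx : F.s (k x) = k x := by
        by_contra h
        obtain ⟨j, hj⟩ := F.cover h
        have := (pinv k hk j x).1 (by simpa using hj)
        simp only [Finset.mem_insert, Finset.mem_singleton] at this
        rcases this with e | e
        · exact F.ne j (e ▸ hx)
        · exact F.ne j (F.s.injective (e ▸ hx))
      exact F.single _ _ hfx hx
    · obtain ⟨j, hj⟩ := F.cover hx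
      exact fixes_small hK {F.a j, F.s (F.a j)} (Finset.card_le_two.trans (by norm_num))
        (fun l hl => pinv l hl j) hk (by simpa using hj)
  set D := Subgroup.closure {y : Perm (Fin n) | IsDT y ∧ y ∈ H} with hD
  have hDH : D ≤ H := (Subgroup.closure_le _).2 fun c hc => hc.2
  have hDn : ∀ h ∈ H, ∀ d ∈ D, h * d * h⁻¹ ∈ D := by
    intro h hh d hd
    induction hd using Subgroup.closure_induction with
    | mem c hc => exact Subgroup.subset_closure ⟨hc.1.conj h, H.mul_mem (H.mul_mem hh hc.2) (H.inv_mem hh)⟩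
    | one => simp
    | mul a b _ _ ha hb => simpa [mul_assoc] using D.mul_mem ha hb
    | inv a _ ha => simpa [mul_assoc] using D.inv_mem ha
  have hHD : H ≤ Subgroup.normalizer (D : Set (Perm (Fin n))) := by
    intro h hh
    rw [Subgroup.mem_normalizer_iff]
    intro d
    refine ⟨hDn h hh d, fun hd => ?_⟩
    simpa [mul_assoc] using hDn h⁻¹ (H.inv_mem hh) _ hd
  have hKD : K ≤ D := by
    refine (Components.isQuasisimple_normalized_cases hK (hKH.trans hHD)).resolve_right fun hzK => ?_
    exact htriv fun i j hij k hk =>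
      commute_of_central hK hnorm hKH hDH hDn hzK (Subgroup.subset_closure ⟨F.el_dt hij, hF i j hij⟩) ⟨k, hk⟩
  -- abelian subgroups normalised by K are centralised
  have kills : ∀ A : Subgroup (Perm (Fin n)), A ≤ H → (∀ a ∈ A, ∀ b ∈ A, a * b = b * a) →
      (∀ k ∈ K, ∀ a ∈ A, k * a * k⁻¹ ∈ A) → ∀ a ∈ A, ∀ k ∈ K, Commute k a := by
    intro A hAH hab hn a ha k hk
    have hKA : K ≤ Subgroup.normalizer (A : Set (Perm (Fin n))) := by
      intro l hl
      rw [Subgroup.mem_normalizer_iff]
      intro d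
      refine ⟨hn l hl d, fun hd => ?_⟩
      simpa [mul_assoc] using hn l⁻¹ (K.inv_mem hl) _ hd
    have hzK : A ⊓ K ≤ Subgroup.centralizer (K : Set (Perm (Fin n))) :=
      (Components.isQuasisimple_normalized_cases hK hKA).resolve_left fun h =>
        Components.qs_not_isMulCommutative hK ⟨⟨fun p q => Subtype.ext (hab _ (h p.2) _ (h q.2))⟩⟩
    -- work inside A ⊔ K
    exact commute_of_central (H := A ⊔ K) hK
      (sup_le (fun b hb => hnorm (hAH hb)) Subgroup.le_normalizer) le_sup_right le_sup_left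
      (fun h hh d hd => by
        have hA : A ⊔ K ≤ Subgroup.normalizer (A : Set (Perm (Fin n))) := sup_le Subgroup.le_normalizer hKA
        exact (Subgroup.mem_normalizer_iff.1 (hA hh) d).1 hd) hzK ha ⟨k, hk⟩
  -- if K commutes with the pairing we are done
  have finish : ¬ ∀ k ∈ K, Commute k F.s := by
    intro hs
    set E := Subgroup.closure {z : Perm (Fin n) | ∃ i j, i ≠ j ∧ z = F.el i j} with hE
    have h1 : ∀ i j, ∀ y ∈ E, Commute (F.el i j) y := by
      intro i j y hy
      induction hy using Subgroup.closure_induction with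
      | mem y hy => obtain ⟨k, l, -, rfl⟩ := hy; exact F.el_comm i j k l
      | one => exact Commute.one_right _
      | mul a b _ _ ha hb => exact ha.mul_right hb
      | inv a _ ha => exact ha.inv_right
    have hab : ∀ x ∈ E, ∀ y ∈ E, Commute x y := by
      intro x hx y hy
      induction hx using Subgroup.closure_induction with
      | mem x hx => obtain ⟨i, j, -, rfl⟩ := hx; exact h1 i j y hy
      | one => exact Commute.one_left _
      | mul a b _ _ ha hb => exact ha.mul_left hb
      | inv a _ ha => exact ha.inv_left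
    refine htriv fun i j hij k hk => kills E ((Subgroup.closure_le _).2 ?_) (fun a ha b hb => (hab a ha b hb).eq) ?_
      _ (Subgroup.subset_closure ⟨i, j, hij, rfl⟩) k hk
    · rintro _ ⟨i, j, hij, rfl⟩
      exact hF i j hij
    · intro k hk a ha
      induction ha using Subgroup.closure_induction with
      | mem a ha =>
        obtain ⟨i, j, hij, rfl⟩ := ha
        obtain ⟨i', j', h', e⟩ := F.el_conj (hs k hk) hij
        exact Subgroup.subset_closure ⟨i', j', h', e⟩
      | one => simp
      | mul a b _ _ ha hb => simpa [mul_assoc] using E.mul_mem ha hb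
      | inv a _ ha => simpa [mul_assoc] using E.inv_mem ha
  have hDfix : ∀ d ∈ D, ∀ x, F.s x = x → d x = x := by
    intro d hd
    induction hd using Subgroup.closure_induction with
    | mem y hy => exact (dichotomy hno F hF hy.1 hy.2).1
    | one => simp
    | mul a b _ _ ha hb => intro x hx; rw [Perm.mul_apply, hb x hx, ha x hx]
    | inv a _ ha => intro x hx; rw [inv_eq_iff_eq]; exact (ha x hx).symm
  by_cases hcase : ∀ y, IsDT y → y ∈ H → ∀ x, x ∈ y.support ↔ F.s x ∈ y.support
  · refine finish fun k hk => ?_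
    have hall : ∀ d ∈ D, Commute d F.s := by
      intro d hd
      induction hd using Subgroup.closure_induction with
      | mem y hy => exact commute_of_closed F hy.1 (hcase y hy.1 hy.2) (dichotomy hno F hF hy.1 hy.2).1
      | one => exact Commute.one_left _
      | mul a b _ _ ha hb => exact ha.mul_left hb
      | inv a _ ha => exact ha.inv_left
    exact hall k (hKD hk)
  · simp only [not_forall] at hcase
    obtain ⟨y₀, hy₀, hy₀H, hbad⟩ := hcase
    replace hbad : ¬ ∀ x, x ∈ y₀.support ↔ F.s x ∈ y₀.support := not_forall.2 hbad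
    obtain ⟨hfix₀, hd₀⟩ := dichotomy hno F hF hy₀ hy₀H
    have hodd := hd₀.resolve_left hbad
    have hm : F.m = 4 := by
      have hcard := hy₀.card_support
      let sel : Fin F.m → Fin n := fun j => if F.a j ∈ y₀.support then F.a j else F.s (F.a j)
      have hsub : ∀ j, sel j ∈ y₀.support := by
        intro j
        simp only [sel]
        split_ifs with h
        · exact h
        · by_contra h'
          exact h ((hodd _ (F.ne j)).2 h')
      have := Finset.card_le_card_of_injOn (s := (Finset.univ : Finset (Fin F.m))) sel (fun j _ => hsub j)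
        (fun i _ j _ e => by
          simp only [sel] at e
          split_ifs at e
          · exact F.inj _ _ (.inl e)
          · exact F.inj _ _ (.inr e)
          · exact (F.inj _ _ (.inr e.symm)).symm
          · exact F.inj _ _ (.inl (F.s.injective e)))
      rw [Finset.card_univ, Fintype.card_fin, hcard] at this
      exact le_antisymm this F.hm
    let j0 : Fin F.m := ⟨0, by omega⟩
    let j1 : Fin F.m := ⟨1, by omega⟩
    let j2 : Fin F.m := ⟨2, by omega⟩
    let j3 : Fin F.m := ⟨3, by omega⟩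
    have hj : ∀ j : Fin F.m, j = j0 ∨ j = j1 ∨ j = j2 ∨ j = j3 := by
      intro j; simp only [j0, j1, j2, j3, Fin.ext_iff]; omega
    have h01 : j0 ≠ j1 := by simp [j0, j1]
    have h23 : j2 ≠ j3 := by simp [j2, j3]
    -- the pairing lies in H
    have hsH : F.s = F.el j0 j1 * F.el j2 j3 := by
      refine Perm.ext fun x => ?_
      rw [Perm.mul_apply, F.el_apply h23, F.el_apply h01]
      by_cases hx : F.s x = x
      · simp [hx]
      · obtain ⟨j, hj'⟩ := F.cover hx
        have hne : ∀ i i' : Fin F.m, i ≠ i' → ∀ y, y = F.a i ∨ y = F.s (F.a i) →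
            y ≠ F.a i' ∧ y ≠ F.s (F.a i') := by
          intro i i' h y hy
          obtain ⟨-, d2, d3, d4, d5, -⟩ := F.el_dist h
          rcases hy with e | e <;> rw [e] <;> [exact ⟨d2, d3⟩; exact ⟨d4, d5⟩]
        have hsx : F.s x = F.a j ∨ F.s x = F.s (F.a j) := by
          rcases hj' with e | e
          · exact Or.inr (by rw [e])
          · exact Or.inl (by rw [e, F.inv])
        have k02 : j0 ≠ j2 := by simp [j0, j2]
        have k03 : j0 ≠ j3 := by simp [j0, j3]
        have k12 : j1 ≠ j2 := by simp [j1, j2]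
        have k13 : j1 ≠ j3 := by simp [j1, j3]
        have one : ∀ i i', (j = i ∨ j = i') → x = F.a i ∨ x = F.s (F.a i) ∨ x = F.a i' ∨ x = F.s (F.a i') := by
          intro i i' h
          rcases h with rfl | rfl
          · exact hj'.imp id Or.inl
          · exact .inr (.inr hj')
        have none' : ∀ y, (y = F.a j ∨ y = F.s (F.a j)) → ∀ i i', j ≠ i → j ≠ i' →
            ¬ (y = F.a i ∨ y = F.s (F.a i) ∨ y = F.a i' ∨ y = F.s (F.a i')) := by
          intro y hy i i' h h' hc
          rcases hc with c | c | c | c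
          · exact (hne j i h y hy).1 c
          · exact (hne j i h y hy).2 c
          · exact (hne j i' h' y hy).1 c
          · exact (hne j i' h' y hy).2 c
        rcases hj j with e | e | e | e
        · rw [if_neg (none' x hj' j2 j3 (e ▸ k02) (e ▸ k03)), if_pos (one j0 j1 (.inl e))]
        · rw [if_neg (none' x hj' j2 j3 (e ▸ k12) (e ▸ k13)), if_pos (one j0 j1 (.inr e))]
        · rw [if_pos (one j2 j3 (.inl e)), if_neg (none' _ hsx j0 j1 (e ▸ k02.symm) (e ▸ k12.symm))]
        · rw [if_pos (one j2 j3 (.inr e)), if_neg (none' _ hsx j0 j1 (e ▸ k03.symm) (e ▸ k13.symm))]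
    let C : Set (Finset (Fin n)) := {S | ∃ y, IsDT y ∧ y ∈ H ∧ y.support = S}
    let Pr : Perm (Fin n) → Prop := fun u => (∀ x, F.s x = x → u x = x) ∧ ∀ S ∈ C,
      (∀ x, F.s x ≠ x → (u x ∈ S ↔ x ∈ S)) ∨ (∀ x, F.s x ≠ x → (u x ∈ S ↔ x ∉ S))
    have hmove : ∀ {u : Perm (Fin n)}, (∀ x, F.s x = x → u x = x) → ∀ {x}, F.s x ≠ x → F.s (u x) ≠ u x := by
      intro u hu x hx e
      have h' := u.injective (hu _ e)
      rw [h'] at e
      exact hx e
    let A : Subgroup (Perm (Fin n)) :=
      { carrier := {u | u ∈ H ∧ Pr u}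
        one_mem' := ⟨H.one_mem, fun _ _ => rfl, fun S _ => Or.inl fun _ _ => Iff.rfl⟩
        mul_mem' := fun {u v} hu hv => ⟨H.mul_mem hu.1 hv.1,
          fun x hx => by rw [Perm.mul_apply, hv.2.1 x hx, hu.2.1 x hx],
          fun S hS => by
            rcases hu.2.2 S hS with p | p <;> rcases hv.2.2 S hS with q | q
            · exact Or.inl fun x hx => by rw [Perm.mul_apply, p _ (hmove hv.2.1 hx), q x hx]
            · exact Or.inr fun x hx => by rw [Perm.mul_apply, p _ (hmove hv.2.1 hx), q x hx]
            · exact Or.inr fun x hx => by rw [Perm.mul_apply, p _ (hmove hv.2.1 hx), q x hx]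
            · exact Or.inl fun x hx => by rw [Perm.mul_apply, p _ (hmove hv.2.1 hx), q x hx, not_not]⟩
        inv_mem' := fun {u} hu => by
          have hf : ∀ x, F.s x = x → u⁻¹ x = x := fun x hx => by rw [inv_eq_iff_eq]; exact (hu.2.1 x hx).symm
          refine ⟨H.inv_mem hu.1, hf, fun S hS => ?_⟩
          rcases hu.2.2 S hS with p | p
          · exact Or.inl fun x hx => by have := p _ (hmove hf hx); simp at this; exact this.symm
          · exact Or.inr fun x hx => by have := p _ (hmove hf hx); simp at this; tauto }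
    have hAab : ∀ u ∈ A, ∀ v ∈ A, u * v = v * u := by
      intro u hu v hv
      refine Perm.ext fun x => ?_
      rw [Perm.mul_apply, Perm.mul_apply]
      by_cases hx : F.s x = x
      · rw [hu.2.1 x hx, hv.2.1 x hx, hu.2.1 x hx]
      · have hp := hmove hu.2.1 (hmove hv.2.1 hx)
        have hq := hmove hv.2.1 (hmove hu.2.1 hx)
        have hmem : ∀ S ∈ C, u (v x) ∈ S ↔ v (u x) ∈ S := by
          intro S hS
          rcases hu.2.2 S hS with p | p <;> rcases hv.2.2 S hS with q | q <;>
            rw [p _ (hmove hv.2.1 hx), q x hx, q _ (hmove hu.2.1 hx), p x hx]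
        obtain ⟨i, hi⟩ := F.cover hp
        obtain ⟨j, hj⟩ := F.cover hq
        rcases eq_or_ne i j with rfl | hij
        · have h0 := hmem _ ⟨y₀, hy₀, hy₀H, rfl⟩
          have h1 := hodd _ (F.ne i)
          generalize u (v x) = p at *
          generalize v (u x) = q at *
          rcases hi with rfl | rfl <;> rcases hj with rfl | rfl <;> first
            | rfl
            | exact absurd h0 (by tauto)
        · exfalso
          haveI : Nontrivial (Fin F.m) := Fin.nontrivial_iff_two_le.2 (by omega)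
          obtain ⟨l, hl⟩ := (Finset.card_pos (s := (Finset.univ.erase i).erase j)).1 (by
            rw [Finset.card_erase_of_mem (by simp [hij.symm]), Finset.card_erase_of_mem (Finset.mem_univ _),
              Finset.card_univ, Fintype.card_fin]
            omega)
          simp only [Finset.mem_erase, Finset.mem_univ, and_true] at hl
          have h0 := hmem _ ⟨F.el i l, F.el_dt hl.2.symm, hF i l hl.2.symm, rfl⟩
          rw [F.el_supp hl.2.symm] at h0
          obtain ⟨-, d2, d3, d4, d5, -⟩ := F.el_dist hij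
          obtain ⟨-, e2, e3, e4, e5, -⟩ := F.el_dist hl.1
          generalize u (v x) = p at *
          generalize v (u x) = q at *
          rcases hi with rfl | rfl <;> rcases hj with rfl | rfl <;>
            simp [d2.symm, d3.symm, d4.symm, d5.symm, e2.symm, e3.symm, e4.symm, e5.symm] at h0
    have hsA : F.s ∈ A := by
      refine ⟨by rw [hsH]; exact H.mul_mem (hF _ _ h01) (hF _ _ h23), fun _ hx => hx, ?_⟩
      rintro _ ⟨y, hy, hyH, rfl⟩
      rcases (dichotomy hno F hF hy hyH).2 with h | h
      · exact Or.inl fun x _ => (h x).symm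
      · exact Or.inr fun x hx => by have := h x hx; tauto
    refine finish fun k hk => kills A (fun a ha => ha.1) hAab (fun l hl a ha => ?_) F.s hsA k hk
    have hlfix := hDfix l (hKD hl)
    have hlfix' : ∀ x, F.s x = x → l⁻¹ x = x := fun x hx => by rw [inv_eq_iff_eq]; exact (hlfix x hx).symm
    refine ⟨H.mul_mem (H.mul_mem (hKH hl) ha.1) (H.inv_mem (hKH hl)), fun x hx => ?_, ?_⟩
    · rw [Perm.mul_apply, Perm.mul_apply, hlfix' x hx, ha.2.1 x hx, hlfix x hx]
    · rintro _ ⟨y, hy, hyH, rfl⟩
      have hS : (l⁻¹ * y * l⁻¹⁻¹).support ∈ C :=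
        ⟨_, hy.conj _, H.mul_mem (H.mul_mem (H.inv_mem (hKH hl)) hyH) (H.inv_mem (H.inv_mem (hKH hl))), rfl⟩
      have hmap : ∀ z, z ∈ (l⁻¹ * y * l⁻¹⁻¹).support ↔ l z ∈ y.support := by
        intro z
        rw [support_conj, Finset.mem_map]
        exact ⟨fun ⟨w, hw, e⟩ => by rw [← e]; simpa using hw, fun h => ⟨l z, h, by simp⟩⟩
      rcases ha.2.2 _ hS with p | p
      · exact Or.inl fun x hx => by
          have := p _ (hmove hlfix' hx); simp only [hmap] at this; simpa using this
      · exact Or.inr fun x hx => by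
          have := p _ (hmove hlfix' hx); simp only [hmap] at this; simpa using this

theorem core {n : ℕ} (hn : 8 ≤ n) {H K : Subgroup (Perm (Fin n))} (hK : Cfsg.IsQuasisimple K) (hKH : K ≤ H)
    (hnorm : H ≤ Subgroup.normalizer (K : Set (Perm (Fin n))))
    (hcent : ∀ x ∈ H, (∀ k ∈ K, k * x = x * k) → x ∈ K) (P : Sylow 2 (alternatingGroup (Fin n)))
    (hPH : (P : Subgroup (alternatingGroup (Fin n))).map (alternatingGroup (Fin n)).subtype ≤ H) :
    ∃ m : ℕ, (m = n - 3 ∨ m = n - 2 ∨ m = n - 1 ∨ m = n) ∧ Nonempty (K ≃* alternatingGroup (Fin m)) := by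
  classical
  obtain ⟨F, hFP⟩ := exists_frame hn P
  have hF : ∀ i j, i ≠ j → F.el i j ∈ H := fun i j h => hPH (hFP i j h)
  obtain ⟨c₀, hc₀, hc₀H⟩ := exists_three hK hKH hnorm F hF
  obtain ⟨Δ, h5, hEq⟩ := alt_of_three hK hKH hnorm hcent hc₀ hc₀H
  have hKfix : ∀ x ∈ K, ∀ y, y ∉ Δ → x y = y := by
    rw [← hEq]
    rintro _ ⟨a, -, rfl⟩ y hy
    exact ofSubtype_apply_of_not_mem a hy
  have hKc3 : ∀ x ∈ Δ, ∃ k ∈ K, k x ≠ x := by
    intro x hx
    obtain ⟨y, hy, hyx⟩ := Finset.exists_mem_ne (by omega : 1 < Δ.card) x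
    obtain ⟨z, hz⟩ := (Finset.card_pos (s := (Δ.erase x).erase y)).1
      (by rw [Finset.card_erase_of_mem (Finset.mem_erase.2 ⟨hyx, hy⟩), Finset.card_erase_of_mem hx]; omega)
    obtain ⟨hzy, hzx, hz⟩ : z ≠ y ∧ z ≠ x ∧ z ∈ Δ := by simpa using hz
    refine ⟨FGS.AutAlt.c3 x y z, ?_, by rw [FGS.AutAlt.c3_a hyx.symm hzx.symm]; exact hyx⟩
    rw [← hEq, S2929.alt_supported]
    refine Subgroup.subset_closure ⟨FGS.AutAlt.c3_three hyx.symm hzx.symm hzy.symm, ?_⟩
    rw [c3_support hyx.symm hzx.symm hzy.symm]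
    simp [Finset.insert_subset_iff, hx, hy, hz]
  have hstab : ∀ h ∈ H, ∀ x, x ∈ Δ → h x ∈ Δ := by
    intro h hh x hx
    by_contra hhx
    obtain ⟨k, hk, hkx⟩ := hKc3 x hx
    have := hKfix _ ((Subgroup.mem_normalizer_iff.1 (hnorm hh) _).1 hk) _ hhx
    simp only [Perm.mul_apply, Perm.inv_eq_iff_eq] at this
    rw [← Perm.mul_apply h⁻¹ h, inv_mul_cancel, Perm.one_apply] at this
    exact hkx (h.injective this)
  have hmeet : ∀ i j, i ≠ j → ∃ x ∈ (F.el i j).support, x ∈ Δ := by
    intro i j hij
    by_contra h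
    push Not at h
    have hK' : F.el i j ∈ K := hcent _ (hF i j hij) fun k hk => by
      refine (Disjoint.commute fun z => ?_).eq
      by_cases hz : z ∈ (F.el i j).support
      · exact Or.inl (hKfix k hk z (h z hz))
      · exact Or.inr (notMem_support.1 hz)
    obtain ⟨z, hz⟩ := Finset.card_pos.1 (by rw [(F.el_dt hij).card_support]; norm_num : 0 < (F.el i j).support.card)
    exact mem_support.1 hz (hKfix _ hK' z (h z hz))
  -- pairs outside
  have hpair : ∀ j, F.a j ∈ Δ ↔ F.s (F.a j) ∈ Δ := by
    intro j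
    haveI : Nontrivial (Fin F.m) := Fin.nontrivial_iff_two_le.2 (by have := F.hm; omega)
    obtain ⟨i, hi⟩ := exists_ne j
    obtain ⟨h1, h2, h3, h4, h5, h6⟩ := F.el_dist hi.symm
    have e1 : F.el j i (F.a j) = F.s (F.a j) := by simp [Frame.el, swap_apply_def, h2, h3]
    have e2 : F.el j i (F.s (F.a j)) = F.a j := by simp [Frame.el, swap_apply_def, h1.symm, h4, h5]
    exact ⟨fun h => e1 ▸ hstab _ (hF _ _ hi.symm) _ h, fun h => e2 ▸ hstab _ (hF _ _ hi.symm) _ h⟩
  have hcard : n ≤ Δ.card + 3 := by
    set Out := Finset.univ.filter fun j => F.a j ∉ Δ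
    have hone : Out.card ≤ 1 := by
      rw [Finset.card_le_one]
      intro i hi j hj
      by_contra hij
      simp only [Out, Finset.mem_filter, Finset.mem_univ, true_and] at hi hj
      obtain ⟨x, hx, hxΔ⟩ := hmeet i j hij
      simp only [F.el_supp hij, Finset.mem_insert, Finset.mem_singleton] at hx
      rcases hx with rfl | rfl | rfl | rfl
      · exact hi hxΔ
      · exact hi ((hpair i).2 hxΔ)
      · exact hj hxΔ
      · exact hj ((hpair j).2 hxΔ)
    have hsub : Finset.univ \ Δ ⊆ Out.image F.a ∪ Out.image (fun j => F.s (F.a j)) ∪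
        Finset.univ.filter (fun x => F.s x = x) := by
      intro x hx
      simp only [Finset.mem_sdiff, Finset.mem_univ, true_and] at hx
      simp only [Finset.mem_union, Finset.mem_image, Finset.mem_filter, Finset.mem_univ, true_and, Out]
      by_cases hsx : F.s x = x
      · exact Or.inr hsx
      · obtain ⟨j, rfl | rfl⟩ := F.cover hsx
        · exact .inl (.inl ⟨j, hx, rfl⟩)
        · exact .inl (.inr ⟨j, fun h => hx ((hpair j).1 h), rfl⟩)
    have hfix1 : (Finset.univ.filter fun x => F.s x = x).card ≤ 1 :=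
      Finset.card_le_one.2 fun a ha b hb => F.single a b (Finset.mem_filter.1 ha).2 (Finset.mem_filter.1 hb).2
    have := (Finset.card_le_card hsub).trans ((Finset.card_union_le _ _).trans
      (Nat.add_le_add (Finset.card_union_le _ _) hfix1))
    have := Finset.card_image_le (s := Out) (f := F.a)
    have := Finset.card_image_le (s := Out) (f := fun j => F.s (F.a j))
    rw [Finset.card_sdiff_of_subset (Finset.subset_univ _), Finset.card_univ, Fintype.card_fin] at *
    omega
  have hle : Δ.card ≤ n := (Finset.card_le_univ Δ).trans_eq (Fintype.card_fin n)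
  refine ⟨Δ.card, by omega, ⟨?_⟩⟩
  exact (MulEquiv.subgroupCongr hEq.symm).trans
    ((((alternatingGroup {x // x ∈ Δ}).equivMapOfInjective _ Perm.ofSubtype_injective).symm).trans
      (Equiv.altCongrHom Δ.equivFin))

/-- Let n ≥ 8 and let H be a subgroup of the symmetric group of degree n whose generalized Fitting subgroup F*(H) is quasisimple. If H contains a Sylow 2-subgroup of the alternating group of degree n, then F*(H) is isomorphic to an alternating group of degree m for some m ∈ {n − 3, n − 2, n − 1, n}. -/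
theorem result (n : ℕ) (hn : 8 ≤ n) (H : Subgroup (Equiv.Perm (Fin n))) (hF : Cfsg.IsQuasisimple ↥(Cfsg.generalizedFittingSubgroup ↥H)) (hS : ∃ P : Sylow 2 ↥(alternatingGroup (Fin n)), ((P : Subgroup ↥(alternatingGroup (Fin n))).map (alternatingGroup (Fin n)).subtype) ≤ H) : ∃ m : ℕ, (m = n - 3 ∨ m = n - 2 ∨ m = n - 1 ∨ m = n) ∧ Nonempty (↥(Cfsg.generalizedFittingSubgroup ↥H) ≃* ↥(alternatingGroup (Fin m))) := by
  obtain ⟨P, hP⟩ := hS
  set K0 := Cfsg.generalizedFittingSubgroup ↥H with hK0
  have e : ↥K0 ≃* ↥(K0.map H.subtype) := K0.equivMapOfInjective _ H.subtype_injective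
  haveI : K0.Characteristic := by
    rw [Subgroup.characteristic_iff_map_eq]
    exact fun φ => Components.map_fStar_equiv φ
  obtain ⟨m, hm, ⟨f⟩⟩ := core hn (Components.qs_of_equiv hF e) (Subgroup.map_subtype_le K0)
    (by
      intro h hh
      rw [Subgroup.mem_normalizer_iff]
      have key : ∀ g ∈ H, ∀ k ∈ K0.map H.subtype, g * k * g⁻¹ ∈ K0.map H.subtype := by
        rintro g hg _ ⟨k, hk, rfl⟩
        exact ⟨⟨g, hg⟩ * k * ⟨g, hg⟩⁻¹, Subgroup.Normal.conj_mem inferInstance k hk _, rfl⟩
      intro k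
      refine ⟨key h hh k, fun hk => ?_⟩
      simpa [mul_assoc] using key h⁻¹ (H.inv_mem hh) _ hk)
    (fun x hx hc => ⟨⟨x, hx⟩, Components.centralizer_fStar_le (Subgroup.mem_centralizer_iff.2 fun k hk =>
      Subtype.ext (hc _ ⟨k, hk, rfl⟩)), rfl⟩) P hP
  exact ⟨m, hm, ⟨e.trans f⟩⟩

end Cfsg.Agent.S2928
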