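import Cfsg.Statements.S2930
import Mathlib
import Cfsg.Agent.Lib.LocalEvenB.ThreeSylowAlt
import Cfsg.Agent.Lib.LocalEvenA.PMin
import Cfsg.Agent.Lib.Components.FStar
import Cfsg.Agent.Lib.FGS.AutAlt

set_option autoImplicit false
open Cfsg

namespace Cfsg.Agent.S2930

open Equiv Equiv.Perm

theorem double_conj {u v : alternatingGroup (Fin 6)}
    (hu : (u : Perm (Fin 6)).cycleType = {3, 3}) (hv : (v : Perm (Fin 6)).cycleType = {3, 3}) : IsConj u v := by
  obtain ⟨g, hg⟩ := isConj_iff.1 (isConj_iff_cycleType_eq.2 (hu.trans hv.symm) : IsConj (u : Perm (Fin 6)) v)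
  rcases Int.units_eq_one_or (Perm.sign g) with h | h
  · exact isConj_iff.2 ⟨⟨g, mem_alternatingGroup.2 h⟩, Subtype.ext hg⟩
  · set w : Perm (Fin 6) := (u : Perm (Fin 6)) with hwdef
    have hord : w ^ 3 = 1 := by
      refine orderOf_dvd_iff_pow_eq_one.1 ?_
      rw [← lcm_cycleType, hu]
      rfl
    have hall : ∀ y, w y ≠ y := by
      intro y
      have hc : w.support = Finset.univ := Finset.eq_univ_of_card _ (by
        rw [← sum_cycleType, hu]; rfl)
      exact mem_support.1 (hc ▸ Finset.mem_univ y)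
    have z3 : ∀ y, w (w (w y)) = y := fun y => by
      have := congrFun (congrArg DFunLike.coe hord) y
      simpa [pow_succ] using this
    obtain ⟨b, hb⟩ : ∃ b, b ∉ ({(0 : Fin 6), w 0, w (w 0)} : Finset (Fin 6)) := by
      by_contra h'
      push Not at h'
      have := (Finset.card_le_card (show (Finset.univ : Finset (Fin 6)) ⊆ {0, w 0, w (w 0)} from
        fun d _ => h' d)).trans Finset.card_le_three
      simp at this
    simp only [Finset.mem_insert, Finset.mem_singleton, not_or] at hb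
    set a : Fin 6 := 0
    have q : ∀ x y : Fin 6, w x = y → x = w (w y) := fun x y h => by rw [← h, z3]
    set s0 := swap a b with hs0
    set s1 := swap (w a) (w b) with hs1
    set s2 := swap (w (w a)) (w (w b)) with hs2
    have d01 : Disjoint s0 s1 := by
      rw [disjoint_iff_disjoint_support, hs0, hs1, support_swap (Ne.symm hb.1),
        support_swap (w.injective.ne (Ne.symm hb.1))]
      simp only [Finset.disjoint_insert_left, Finset.disjoint_singleton_left, Finset.mem_insert,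
        Finset.mem_singleton, not_or]
      exact ⟨⟨(hall a).symm, fun e => hb.2.2 (q _ _ e.symm)⟩, hb.2.1, (hall b).symm⟩
    have d02 : Disjoint s0 s2 := by
      rw [disjoint_iff_disjoint_support, hs0, hs2, support_swap (Ne.symm hb.1),
        support_swap (w.injective.ne (w.injective.ne (Ne.symm hb.1)))]
      simp only [Finset.disjoint_insert_left, Finset.disjoint_singleton_left, Finset.mem_insert,
        Finset.mem_singleton, not_or]
      exact ⟨⟨fun e => hall (w (w a)) (by rw [z3]; exact e), fun e => hb.2.1 (by rw [e, z3])⟩, hb.2.2,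
        fun e => hall (w (w b)) (by rw [z3]; exact e)⟩
    set π := s0 * s1 * s2 with hπ
    have hsgn : Perm.sign π = -1 := by
      rw [hπ, map_mul, map_mul, hs0, hs1, hs2, sign_swap (Ne.symm hb.1),
        sign_swap (w.injective.ne (Ne.symm hb.1)), sign_swap (w.injective.ne (w.injective.ne (Ne.symm hb.1)))]
      rfl
    have hcomm : π * w * π⁻¹ = w := by
      have e : w * π * w⁻¹ = π := by
        calc w * π * w⁻¹ = (w * s0 * w⁻¹) * (w * s1 * w⁻¹) * (w * s2 * w⁻¹) := by rw [hπ]; group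
          _ = s1 * s2 * s0 := by rw [hs0, hs1, hs2, ← swap_apply_apply, ← swap_apply_apply, ← swap_apply_apply, z3, z3]
          _ = π := by rw [hπ, ((d01.commute).mul_right d02.commute).eq.symm, mul_assoc]
      rw [mul_inv_eq_iff_eq_mul] at e ⊢
      exact e.symm
    refine isConj_iff.2 ⟨⟨g * π, mem_alternatingGroup.2 (by rw [map_mul, h, hsgn]; rfl)⟩, Subtype.ext ?_⟩
    show g * π * w * (g * π)⁻¹ = _
    rw [← hg]
    calc g * π * w * (g * π)⁻¹ = g * (π * w * π⁻¹) * g⁻¹ := by group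
      _ = g * w * g⁻¹ := by rw [hcomm]

/-- In every degree, a square of an automorphism preserves three-cycles unless it does already. -/
theorem preserves_or_sq {n : ℕ} (hn : 5 ≤ n) (σ : MulAut (alternatingGroup (Fin n))) :
    (∀ t : alternatingGroup (Fin n), (t : Perm (Fin n)).IsThreeCycle → (σ t : Perm (Fin n)).IsThreeCycle) ∨
    ∀ t : alternatingGroup (Fin n), (t : Perm (Fin n)).IsThreeCycle → (σ (σ t) : Perm (Fin n)).IsThreeCycle := by
  classical
  rcases ne_or_eq n 6 with h6 | rfl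
  · exact Or.inl fun t ht => FGS.AutAlt.three_to_three (by omega) h6 σ t ht
  have types : ∀ (τ : MulAut (alternatingGroup (Fin 6))) (t : alternatingGroup (Fin 6)),
      orderOf (t : Perm (Fin 6)) = 3 → ¬ (τ t : Perm (Fin 6)).IsThreeCycle →
      (τ t : Perm (Fin 6)).cycleType = {3, 3} := by
    intro τ t ht hnot
    have ho : orderOf (τ t : Perm (Fin 6)) = 3 := by
      rw [Subgroup.orderOf_coe, MulEquiv.orderOf_eq, ← Subgroup.orderOf_coe]; exact ht
    obtain ⟨j, hj⟩ := cycleType_prime_order (σ := (τ t : Perm (Fin 6))) (by rw [ho]; exact Nat.prime_three)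
    rw [ho] at hj
    have hle := (τ t : Perm (Fin 6)).support.card_le_univ
    rw [← sum_cycleType, hj, Multiset.sum_replicate, Fintype.card_fin, smul_eq_mul] at hle
    obtain rfl | rfl : j = 0 ∨ j = 1 := by omega
    · exact absurd hj hnot
    · exact hj
  by_cases hσ : ∀ t : alternatingGroup (Fin 6), (t : Perm (Fin 6)).IsThreeCycle → (σ t : Perm (Fin 6)).IsThreeCycle
  · exact Or.inl hσ
  refine Or.inr fun t ht => ?_
  push Not at hσ
  obtain ⟨t₀, ht₀, hbad⟩ := hσ
  have hu := types σ t₀ ht₀.orderOf hbad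
  have himg : ∀ s : alternatingGroup (Fin 6), (s : Perm (Fin 6)).IsThreeCycle →
      (σ s : Perm (Fin 6)).cycleType = {3, 3} := by
    intro s hs
    have h := σ.toMonoidHom.map_isConj (alternatingGroup.isThreeCycle_isConj (by simp) ht₀ hs)
    have h' := (alternatingGroup (Fin 6)).subtype.map_isConj h
    rw [← hu]
    exact (isConj_iff_cycleType_eq.1 h').symm
  by_contra hbad2
  have hv := types σ (σ t) (by rw [Subgroup.orderOf_coe, MulEquiv.orderOf_eq, ← Subgroup.orderOf_coe]; exact ht.orderOf) hbad2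
  have hdd : ∀ s : alternatingGroup (Fin 6), (s : Perm (Fin 6)).cycleType = {3, 3} →
      (σ s : Perm (Fin 6)).cycleType = {3, 3} := by
    intro s hs
    have h := σ.toMonoidHom.map_isConj (double_conj (himg t ht) hs)
    have h' := (alternatingGroup (Fin 6)).subtype.map_isConj h
    rw [← hv]
    exact (isConj_iff_cycleType_eq.1 h').symm
  let f : {s : alternatingGroup (Fin 6) // (s : Perm (Fin 6)).cycleType = {3, 3}} →
      {s : alternatingGroup (Fin 6) // (s : Perm (Fin 6)).cycleType = {3, 3}} := fun s => ⟨σ s.1, hdd s.1 s.2⟩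
  have hsurj : Function.Surjective f := Finite.surjective_of_injective fun a b e =>
    Subtype.ext (σ.injective (congrArg Subtype.val e))
  obtain ⟨s, hs⟩ := hsurj ⟨σ t, himg t ht⟩
  have e : s.1 = t := σ.injective (congrArg Subtype.val hs)
  have h2 := s.2
  rw [e, ht] at h2
  exact absurd (congrArg Multiset.card h2) (by simp)

theorem three_elements_inner {X : Type*} [Group X] [Finite X] {n : ℕ} (hn : 5 ≤ n)
    (e : ↥(Cfsg.generalizedFittingSubgroup X) ≃* ↥(alternatingGroup (Fin n))) [hN : (Cfsg.generalizedFittingSubgroup X).Normal]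
    (y : X) (k : ℕ) (hy : y ^ 3 ^ k = 1) : y ∈ Cfsg.generalizedFittingSubgroup X := by
  classical
  set A := Cfsg.generalizedFittingSubgroup X
  let ψ : X →* MulAut (alternatingGroup (Fin n)) := (MulAut.congr e).toMonoidHom.comp MulAut.conjNormal
  have hψ : ∀ (x : X) (a : A), ((e.symm (ψ x (e a)) : A) : X) = x * a * x⁻¹ := by
    intro x a
    show ((e.symm (e (MulAut.conjNormal x (e.symm (e a)))) : A) : X) = _
    rw [e.symm_apply_apply, e.symm_apply_apply, MulAut.conjNormal_apply]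
  have main : ∀ x : X, x ^ 3 ^ k = 1 →
      (∀ t : alternatingGroup (Fin n), (t : Perm (Fin n)).IsThreeCycle → (ψ x t : Perm (Fin n)).IsThreeCycle) →
      x ∈ A := by
    intro x hx hpres
    obtain ⟨g, hg⟩ := FGS.AutAlt.of_preserves (by omega) (ψ x) hpres
    have hgN : g ^ 3 ^ k = 1 := by
      refine LocalEvenB.ThreeSylowAlt.fix_all (by omega) fun c hc => ?_
      have h1 : MulAut.conjNormal (H := alternatingGroup (Fin n)) (g ^ 3 ^ k) = 1 := by
        rw [map_pow, hg, ← map_pow, hx, map_one]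
      have h2 : g ^ 3 ^ k * c * (g ^ 3 ^ k)⁻¹ = c := by
        have := congrArg (fun u : MulAut (alternatingGroup (Fin n)) =>
          ((u ⟨c, hc.mem_alternatingGroup⟩ : alternatingGroup (Fin n)) : Perm (Fin n))) h1
        rw [MulAut.one_apply] at this
        rwa [MulAut.conjNormal_apply] at this
      exact mul_inv_eq_iff_eq_mul.1 h2
    have hgA : g ∈ alternatingGroup (Fin n) :=
      LocalEvenB.ThreeSylowAlt.even_of_pow ((by decide : Odd 3).pow (n := k)) hgN
    set a : A := e.symm ⟨g, hgA⟩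
    have hcen : (a : X)⁻¹ * x ∈ Subgroup.centralizer (A : Set X) := by
      rw [Subgroup.mem_centralizer_iff]
      intro b hb
      have h1 : ((e.symm (ψ x (e ⟨b, hb⟩)) : A) : X) = x * b * x⁻¹ := hψ x ⟨b, hb⟩
      have h2 : ψ x (e ⟨b, hb⟩) = ⟨g, hgA⟩ * e ⟨b, hb⟩ * ⟨g, hgA⟩⁻¹ := by
        apply Subtype.ext
        rw [← hg, MulAut.conjNormal_apply]
        rfl
      have h3 : x * b * x⁻¹ = (a : X) * b * (a : X)⁻¹ := by
        rw [← h1, h2, map_mul, map_mul, map_inv, e.symm_apply_apply]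
        rfl
      calc b * ((a : X)⁻¹ * x) = (a : X)⁻¹ * ((a : X) * b * (a : X)⁻¹) * x := by group
        _ = (a : X)⁻¹ * (x * b * x⁻¹) * x := by rw [h3]
        _ = (a : X)⁻¹ * x * b := by group
    have := A.mul_mem a.2 (Components.centralizer_fStar_le hcen)
    rwa [mul_inv_cancel_left] at this
  rcases preserves_or_sq hn (ψ y) with h | h
  · exact main y hy h
  · have h2 : y ^ 2 ∈ A := main _ (by rw [← pow_mul, mul_comm, pow_mul, hy, one_pow]) fun t ht => by
      rw [pow_two, map_mul]; exact h t ht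
    obtain ⟨j, hj⟩ : Odd (3 ^ k) := (by decide : Odd 3).pow
    have : y = (y ^ 2) ^ (j + 1) := by
      rw [← pow_mul, show 2 * (j + 1) = (2 * j + 1) + 1 by ring, ← hj, pow_succ, hy, one_mul]
    rw [this]
    exact A.pow_mem h2 _

theorem fStar_eq_top {X : Type*} [Group X] [Finite X] (hX : Cfsg.IsPMinimal 3 X) {n : ℕ} (hn : 5 ≤ n)
    (e : ↥(Cfsg.generalizedFittingSubgroup X) ≃* ↥(alternatingGroup (Fin n))) :
    Cfsg.generalizedFittingSubgroup X = ⊤ := by
  haveI : Fact (Nat.Prime 3) := ⟨Nat.prime_three⟩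
  set A := Cfsg.generalizedFittingSubgroup X
  haveI : A.Characteristic := by
    rw [Subgroup.characteristic_iff_map_eq]
    exact fun φ => Components.map_fStar_equiv φ
  by_contra hne
  obtain ⟨S⟩ : Nonempty (Sylow 3 X) := inferInstance
  have hSA : (S : Subgroup X) ≤ A := by
    intro s hs
    obtain ⟨k, hk⟩ := S.2 ⟨s, hs⟩
    exact three_elements_inner hn e s k (by simpa using congrArg Subtype.val hk)
  obtain ⟨hnn, M, ⟨hM, hSM⟩, huniq⟩ := hX S
  obtain ⟨C, hC, hAC⟩ := (eq_top_or_exists_le_coatom A).resolve_left hne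
  have hAM : A ≤ M := (huniq C ⟨hC, hSA.trans hAC⟩) ▸ hAC
  obtain ⟨D, hD, hND⟩ := (eq_top_or_exists_le_coatom (Subgroup.normalizer ((S : Subgroup X) : Set X))).resolve_left
    fun h => hnn (Subgroup.normalizer_eq_top_iff.1 h)
  have hNM : Subgroup.normalizer ((S : Subgroup X) : Set X) ≤ M :=
    (huniq D ⟨hD, Subgroup.le_normalizer.trans hND⟩) ▸ hND
  have := Sylow.normalizer_sup_eq_top' S hSA
  exact hM.1 (top_le_iff.1 (this.ge.trans (sup_le hNM hAM)))

theorem degree {n : ℕ} (hn : 5 ≤ n)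
    (hgood : ∀ P : Sylow 3 (alternatingGroup (Fin n)), LocalEvenA.GoodSyl (P : Subgroup (alternatingGroup (Fin n)))) :
    n = 6 ∨ n = 9 ∨ ∃ a : ℕ, 2 ≤ a ∧ n = 3 ^ a + 1 := by
  by_contra h
  push Not at h
  haveI : Fact (Nat.Prime 3) := ⟨Nat.prime_three⟩
  obtain ⟨P⟩ : Nonempty (Sylow 3 (alternatingGroup (Fin n))) := inferInstance
  obtain ⟨L₁, L₂, h1, h2, hA1, hA2, hp1, hp2, hgen⟩ :=
    LocalEvenB.ThreeSylowAlt.main (LocalEvenB.ThreeSylowAlt.sylData P) hn h.1 h.2.1 h.2.2
  obtain ⟨-, M, ⟨hM, -⟩, huniq⟩ := hgood P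
  have key : ∀ L : Subgroup (Perm (Fin n)), (LocalEvenB.ThreeSylowAlt.sylData P).S ≤ L →
      ¬ alternatingGroup (Fin n) ≤ L → L.subgroupOf (alternatingGroup (Fin n)) ≤ M := by
    intro L hSL hproper
    obtain ⟨C, hC, hLC⟩ := (eq_top_or_exists_le_coatom (L.subgroupOf (alternatingGroup (Fin n)))).resolve_left
      fun h => hproper (Subgroup.subgroupOf_eq_top.1 h)
    exact (huniq C ⟨hC, fun x hx => hLC (hSL (Subgroup.mem_map_of_mem _ hx))⟩) ▸ hLC
  refine hM.1 (top_le_iff.1 fun x _ => ?_)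
  have hx : (x : Perm (Fin n)) ∈ L₁ ⊔ L₂ := hgen x.2
  have hle : L₁ ⊔ L₂ ≤ M.map (alternatingGroup (Fin n)).subtype := sup_le
    (fun g hg => ⟨⟨g, hA1 hg⟩, key L₁ h1 hp1 hg, rfl⟩) (fun g hg => ⟨⟨g, hA2 hg⟩, key L₂ h2 hp2 hg, rfl⟩)
  obtain ⟨y, hy, hyx⟩ := hle hx
  exact (Subtype.ext hyx : y = x) ▸ hy
theorem goodSyl_all {G H : Type*} [Group G] [Group H] [Finite H] [Fact (Nat.Prime 3)] (e : G ≃* H) (S : Sylow 3 G)
    (hmax : ∀ Q : Subgroup H, IsPGroup 3 Q → e.mapSubgroup (S : Subgroup G) ≤ Q → Q = e.mapSubgroup (S : Subgroup G))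
    (P : Sylow 3 H) (h : LocalEvenA.GoodSyl (S : Subgroup G)) : LocalEvenA.GoodSyl (P : Subgroup H) := by
  let T : Sylow 3 H := ⟨e.mapSubgroup (S : Subgroup G), S.2.map _, fun {Q} hQ hle => hmax Q hQ hle⟩
  obtain ⟨g, rfl⟩ := MulAction.exists_smul_eq H T P
  exact LocalEvenA.goodSyl_map (MulAut.conj g) (LocalEvenA.goodSyl_map e h)

/-- Let X be a finite 3-minimal group (a Sylow 3-subgroup is not normal and lies in a unique maximal subgroup) whose generalized Fitting subgroup is isomorphic to an alternating group of degree n ≥ 5. Then X = F*(X), and n = 6, n = 9, or n = 3ᵃ + 1 for some a ≥ 2. -/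
theorem result {X : Type*} [Group X] [Finite X] (hX : Cfsg.IsPMinimal 3 X) (n : ℕ) (hn : 5 ≤ n) (hF : Nonempty (↥(Cfsg.generalizedFittingSubgroup X) ≃* ↥(alternatingGroup (Fin n)))) : Cfsg.generalizedFittingSubgroup X = ⊤ ∧ (n = 6 ∨ n = 9 ∨ ∃ a : ℕ, 2 ≤ a ∧ n = 3 ^ a + 1) := by
  obtain ⟨e⟩ := hF
  have htop := fStar_eq_top hX hn e
  refine ⟨htop, degree hn fun P => ?_⟩
  haveI : Fact (Nat.Prime 3) := ⟨Nat.prime_three⟩
  have e' : X ≃* ↥(alternatingGroup (Fin n)) :=
    Subgroup.topEquiv.symm.trans ((MulEquiv.subgroupCongr htop.symm).trans e)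
  obtain ⟨S⟩ : Nonempty (Sylow 3 X) := inferInstance
  have hmax : ∀ Q : Subgroup ↥(alternatingGroup (Fin n)), IsPGroup 3 Q →
      e'.mapSubgroup (S : Subgroup X) ≤ Q → Q = e'.mapSubgroup (S : Subgroup X) := by
    intro Q hQ hle
    have := S.3 (hQ.map e'.symm.toMonoidHom) (e'.mapSubgroup.le_symm_apply.2 hle)
    rw [← this]
    exact (e'.mapSubgroup.apply_symm_apply Q).symm
  exact goodSyl_all e' S hmax P (hX S)

end Cfsg.Agent.S2930
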