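import Cfsg.Statements.S2933
import Cfsg.Agent.Lib.LocalEven.FoursMain
import Cfsg.Agent.Lib.LocalEven.FoursModels

set_option autoImplicit false
open Cfsg

namespace Cfsg.Agent.S2933

open Cfsg.Agent.FoursCenter

/-- Let T be a 2-subgroup of a finite group G, V ≤ Z(T) a four-group, and t, ρ ∈ N_G(V) ∩ N_G(T) elements of order 2 and 3 with t commuting with ρ and with V. If [V, ρ] = V and C_T(t) = V, then T is elementary abelian of order 16, or homocyclic of rank 2 (ℤ/2ⁿ × ℤ/2ⁿ for some n ≥ 1), or isomorphic to a Sylow 2-subgroup of PSL₃(4) or of PSU₃(4). -/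
theorem result {G : Type*} [Group G] [Finite G] (T V : Subgroup G) (hT : IsPGroup 2 ↥T) (hVT : V ≤ T ⊓ Subgroup.centralizer (T : Set G)) (hV : Nat.card ↥V = 4 ∧ ∀ v ∈ V, v ^ 2 = 1) (t ρ : G) (ht : orderOf t = 2) (hρ : orderOf ρ = 3) (htn : t ∈ Subgroup.normalizer (V : Set G) ⊓ Subgroup.normalizer (T : Set G)) (hρn : ρ ∈ Subgroup.normalizer (V : Set G) ⊓ Subgroup.normalizer (T : Set G)) (htρ : t * ρ = ρ * t) (htV : t ∈ Subgroup.centralizer (V : Set G)) (hVρ : ⁅V, Subgroup.zpowers ρ⁆ = V) (hCt : T ⊓ Subgroup.centralizer ({t} : Set G) = V) : (Nat.card ↥T = 16 ∧ ∀ x ∈ T, x ^ 2 = 1) ∨ (∃ n : ℕ, 1 ≤ n ∧ Nonempty (↥T ≃* Multiplicative (ZMod (2 ^ n)) × Multiplicative (ZMod (2 ^ n)))) ∨ (∃ (F : Type) (_ : Field F) (_ : Fintype F), Fintype.card F = 4 ∧ ∀ P : Sylow 2 (Matrix.ProjectiveSpecialLinearGroup (Fin 3) F), Nonempty (↥T ≃* ↥(P : Subgroup (Matrix.ProjectiveSpecialLinearGroup (Fin 3) F)))) ∨ (∃ (F : Type) (_ : Field F) (_ : Fintype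 F), Fintype.card F = 16 ∧ ∀ P : Sylow 2 (Cfsg.PSU 3 F 4), Nonempty (↥T ≃* ↥(P : Subgroup (Cfsg.PSU 3 F 4)))) := by
  classical
  haveI : Fact (Nat.Prime 2) := ⟨Nat.prime_two⟩
  have htT : t ∈ Subgroup.normalizer (T : Set G) := htn.2
  have hρT : ρ ∈ Subgroup.normalizer (T : Set G) := hρn.2
  have hρV : ρ ∈ Subgroup.normalizer (V : Set G) := hρn.1
  have hmem : ∀ {g : G}, g ∈ Subgroup.normalizer (T : Set G) → ∀ x : T, g * (x : G) * g⁻¹ ∈ T :=
    fun hg x => (Subgroup.mem_normalizer_iff.1 hg x).1 x.2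
  let conjT : ∀ g : G, g ∈ Subgroup.normalizer (T : Set G) → (T →* T) := fun g hg =>
    MonoidHom.mk' (fun x => ⟨g * (x : G) * g⁻¹, hmem hg x⟩) fun a b => Subtype.ext (by
      simp only [Subgroup.coe_mul]; group)
  have hVT' : ∀ v ∈ V, v ∈ T := fun v hv => (hVT hv).1
  have ht2 : t * t = 1 := by rw [← pow_two, ← ht]; exact pow_orderOf_eq_one t
  have hρ3 : ρ * ρ * ρ = 1 := by
    rw [← pow_two, ← pow_succ, show (2 + 1 : ℕ) = orderOf ρ from hρ.symm]
    exact pow_orderOf_eq_one ρ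
  have htfix : ∀ x : G, x ∈ T → (t * x * t⁻¹ = x ↔ x ∈ V) := by
    intro x hx
    rw [← hCt, Subgroup.mem_inf, Subgroup.mem_centralizer_singleton_iff]
    exact ⟨fun h => ⟨hx, by first | exact (mul_inv_eq_iff_eq_mul.1 h) | exact (mul_inv_eq_iff_eq_mul.1 h).symm⟩,
      fun h => mul_inv_eq_iff_eq_mul.2 (by first | exact h.2 | exact h.2.symm)⟩
  have hVcard4 := hV.1
  -- `ρ` has no fixed points on `V`
  have hρVfree : ∀ v ∈ V, ρ * v * ρ⁻¹ = v → v = 1 := by
    intro v hv hfix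
    by_contra hv1
    have hconj : ∀ w ∈ V, ρ * w * ρ⁻¹ ∈ V := fun w hw => (Subgroup.mem_normalizer_iff.1 hρV w).1 hw
    let f : V →* V := MonoidHom.mk' (fun w => ⟨ρ * (w : G) * ρ⁻¹, hconj w w.2⟩) fun a b =>
      Subtype.ext (by simp only [Subgroup.coe_mul]; group)
    have hf3 : ∀ w, f (f (f w)) = w := fun w => Subtype.ext (by
      show ρ * (ρ * (ρ * (w : G) * ρ⁻¹) * ρ⁻¹) * ρ⁻¹ = w
      rw [show ρ * (ρ * (ρ * (w : G) * ρ⁻¹) * ρ⁻¹) * ρ⁻¹ = (ρ * ρ * ρ) * (w : G) * (ρ * ρ * ρ)⁻¹ by group,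
        hρ3]
      group)
    haveI := Fintype.ofFinite V
    have hcardV : Fintype.card V = 4 := by rw [← Nat.card_eq_fintype_card]; exact hV.1
    have hall : ∀ w : V, f w = w := by
      by_contra hne
      push Not at hne
      obtain ⟨w, hw⟩ := hne
      let z : Fin 5 → V := ![1, ⟨v, hv⟩, w, f w, f (f w)]
      have hz : Function.Injective z := by
        have hv' : (⟨v, hv⟩ : V) ≠ 1 := fun h => hv1 (congrArg Subtype.val h)
        have hfv : f ⟨v, hv⟩ = ⟨v, hv⟩ := Subtype.ext hfix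
        have hinj : Function.Injective f := fun a b h => by
          rw [← hf3 a, ← hf3 b, h]
        have e1 : w ≠ 1 := fun h => hw (by rw [h, map_one])
        have e2 : w ≠ ⟨v, hv⟩ := fun h => hw (by rw [h, hfv])
        have e3 : f w ≠ 1 := fun h => e1 (hinj (by rw [h, map_one]))
        have e4 : f w ≠ ⟨v, hv⟩ := fun h => e2 (hinj (by rw [h, hfv]))
        have e5 : f (f w) ≠ 1 := fun h => e3 (hinj (by rw [h, map_one]))
        have e6 : f (f w) ≠ ⟨v, hv⟩ := fun h => e4 (hinj (by rw [h, hfv]))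
        have e7 : f (f w) ≠ f w := fun h => hw (hinj h)
        have e8 : f (f w) ≠ w := fun h => hw (by
          have := hf3 w; rw [h] at this; exact this)
        intro i j h
        fin_cases i <;> fin_cases j <;>
          simp [z, hv', Ne.symm hv', e1, Ne.symm e1, e2, Ne.symm e2, e3, Ne.symm e3, e4, Ne.symm e4,
            e5, Ne.symm e5, e6, Ne.symm e6, e7, Ne.symm e7, e8, Ne.symm e8, hw, Ne.symm hw] at h ⊢
      have := Fintype.card_le_of_injective z hz
      rw [hcardV, Fintype.card_fin] at this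
      omega
    have hbot : V ≤ ⊥ := by
      rw [← hVρ, Subgroup.commutator_le]
      intro w hw g hg
      obtain ⟨k, rfl⟩ := Subgroup.mem_zpowers_iff.1 hg
      rw [Subgroup.mem_bot, commutatorElement_eq_one_iff_commute]
      refine Commute.zpow_right ?_ k
      have h := congrArg Subtype.val (hall ⟨w, hw⟩)
      exact (mul_inv_eq_iff_eq_mul.1 h).symm
    exact hv1 (Subgroup.mem_bot.1 (hbot hv))
  let τ : T →* T := conjT t htT
  let r : T →* T := conjT ρ hρT
  have hfp : ∀ x : T, r x = x → x = 1 := by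
    -- the fixed points form a `2`-group without fixed points of `t`
    let U : Subgroup T := MonoidHom.eqLocus r (MonoidHom.id T)
    have hU : ∀ x, x ∈ U ↔ r x = x := fun x => Iff.rfl
    intro x hx
    by_contra hx1
    have hτU : ∀ u : U, τ u.1 ∈ U := fun u => by
      rw [hU]
      refine Subtype.ext ?_
      show ρ * (t * (u.1 : G) * t⁻¹) * ρ⁻¹ = t * (u.1 : G) * t⁻¹
      have h : ρ * (u.1 : G) * ρ⁻¹ = u.1 := congrArg Subtype.val ((hU _).1 u.2)
      calc ρ * (t * (u.1 : G) * t⁻¹) * ρ⁻¹ = (ρ * t) * (u.1 : G) * (ρ * t)⁻¹ := by group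
        _ = (t * ρ) * (u.1 : G) * (t * ρ)⁻¹ := by rw [htρ]
        _ = t * (ρ * (u.1 : G) * ρ⁻¹) * t⁻¹ := by group
        _ = _ := by rw [h]
    let σ : Equiv.Perm U :=
      { toFun := fun u => ⟨τ u.1, hτU u⟩
        invFun := fun u => ⟨τ u.1, hτU u⟩
        left_inv := fun u => Subtype.ext (Subtype.ext (by
          show t * (t * (u.1 : G) * t⁻¹) * t⁻¹ = u.1
          rw [show t * (t * (u.1 : G) * t⁻¹) * t⁻¹ = (t * t) * (u.1 : G) * (t * t)⁻¹ by group, ht2]
          group))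
        right_inv := fun u => Subtype.ext (Subtype.ext (by
          show t * (t * (u.1 : G) * t⁻¹) * t⁻¹ = u.1
          rw [show t * (t * (u.1 : G) * t⁻¹) * t⁻¹ = (t * t) * (u.1 : G) * (t * t)⁻¹ by group, ht2]
          group)) }
    haveI := Fintype.ofFinite U
    have h2 : 2 ∣ Fintype.card U := by
      obtain ⟨k, hk⟩ := IsPGroup.iff_card.1 (hT.to_subgroup U)
      rw [← Nat.card_eq_fintype_card, hk]
      refine dvd_pow_self 2 fun h0 => ?_
      rw [h0, pow_zero, Subgroup.card_eq_one] at hk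
      exact hx1 (Subgroup.mem_bot.1 (hk ▸ (hU x).2 hx))
    obtain ⟨b, hb, hb1⟩ := Equiv.Perm.exists_fixed_point_of_prime' (p := 2) (n := 1) h2 (σ := σ)
      (by rw [pow_one, pow_two]; exact Equiv.ext fun u => σ.left_inv u) (a := 1)
      (Subtype.ext (map_one τ))
    have h1 : (b.1 : G) ∈ V := (htfix _ b.1.2).1 (congrArg (fun u : U => ((u.1 : T) : G)) hb)
    exact hb1 (Subtype.ext (Subtype.ext (hρVfree _ h1 (congrArg Subtype.val ((hU _).1 b.2)))))
  have hr : FpfThree r := ⟨fun x => Subtype.ext (by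
    show ρ * (ρ * (ρ * (x : G) * ρ⁻¹) * ρ⁻¹) * ρ⁻¹ = x
    rw [show ρ * (ρ * (ρ * (x : G) * ρ⁻¹) * ρ⁻¹) * ρ⁻¹ = (ρ * ρ * ρ) * (x : G) * (ρ * ρ * ρ)⁻¹ by group,
      hρ3]
    group), hfp⟩
  have hVc : V.subgroupOf T ≤ Subgroup.center T := fun v hv => Subgroup.mem_center_iff.2 fun g =>
    Subtype.ext (Subgroup.mem_centralizer_iff.1 (hVT hv).2 g g.2)
  have hV4 : Nat.card (V.subgroupOf T) = 4 :=
    (Nat.card_congr (Subgroup.subgroupOfEquivOfLe (fun v hv => hVT' v hv)).toEquiv).trans hV.1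
  rcases classification hT (V.subgroupOf T) hVc hV4
    (fun v hv => Subtype.ext (by rw [SubgroupClass.coe_pow]; exact hV.2 _ hv)) τ r
    (fun x => Subtype.ext (by
      show t * (t * (x : G) * t⁻¹) * t⁻¹ = x
      rw [show t * (t * (x : G) * t⁻¹) * t⁻¹ = (t * t) * (x : G) * (t * t)⁻¹ by group, ht2]
      group))
    hr
    (fun x => Subtype.ext (by
      show t * (ρ * (x : G) * ρ⁻¹) * t⁻¹ = ρ * (t * (x : G) * t⁻¹) * ρ⁻¹
      rw [show t * (ρ * (x : G) * ρ⁻¹) * t⁻¹ = (t * ρ) * (x : G) * (t * ρ)⁻¹ by group, htρ]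
      group))
    (fun x => ⟨fun h => (htfix x x.2).1 (congrArg Subtype.val h), fun h => Subtype.ext ((htfix x x.2).2 h)⟩)
    with ⟨h, hsq⟩ | h | ⟨e, x, x', y, y', hrel, hgen, hcard⟩
  · exact Or.inl ⟨h, fun g hg => congrArg Subtype.val (hsq ⟨g, hg⟩)⟩
  · exact Or.inr (Or.inl h)
  · cases e
    · exact Or.inr (Or.inr (Or.inl ⟨Cfsg.Agent.Enum.F4, inferInstance, inferInstance,
        Cfsg.Agent.Enum.F4.card_eq, fun P => linear_model hrel hgen hcard P⟩))
    · refine Or.inr (Or.inr (Or.inr ?_))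
      letI : Fintype (GaloisField 2 4) := Fintype.ofFinite _
      have hF : Fintype.card (GaloisField 2 4) = 16 := by
        rw [← Nat.card_eq_fintype_card, GaloisField.card 2 4 (by norm_num)]; norm_num
      exact ⟨GaloisField 2 4, inferInstance, inferInstance, hF, fun P => unitary_model hrel hgen hcard hF P⟩

end Cfsg.Agent.S2933
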