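import Cfsg.Statements.S2934
import Mathlib
import Cfsg.Agent.Lib.LocalEvenB.AutOneInvol
import Cfsg.Agent.Lib.Basics.Tools
import Cfsg.Agent.Lib.ClassK.TICommute
import Cfsg.Agent.Lib.Basics.Frattini
import Cfsg.Agent.Lib.LocalEvenB.Basic

set_option autoImplicit false
open Cfsg

namespace Cfsg.Agent.S2934

open LocalEvenB.AutOneInvol
open scoped commutatorElement

variable {W : Type*} [Group W] [Finite W]

/-- The restriction of an automorphism to an invariant subgroup. -/
noncomputable def restr (f : MulAut W) (Q : Subgroup W) (h : ∀ x ∈ Q, f x ∈ Q) : MulAut Q :=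
  MulEquiv.ofBijective (((f : MulAut W).toMonoidHom.comp Q.subtype).codRestrict Q fun x => h x x.2)
    (Finite.injective_iff_bijective.1 fun x y e => Subtype.ext (f.injective (congrArg Subtype.val e :)))

theorem restr_apply (f : MulAut W) (Q : Subgroup W) (h : ∀ x ∈ Q, f x ∈ Q) (x : Q) :
    ((restr f Q h x : Q) : W) = f x := rfl

theorem restr_pow (f : MulAut W) (Q : Subgroup W) (h : ∀ x ∈ Q, f x ∈ Q) (k : ℕ) (x : Q) :
    (((restr f Q h) ^ k) x : W) = (f ^ k) x := by
  induction k with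
  | zero => rfl
  | succ k ih => rw [pow_succ', pow_succ', MulAut.mul_apply, restr_apply, ih, MulAut.mul_apply]

theorem fix_pow {f : MulAut W} {x : W} (hx : f x = x) (k : ℕ) : (f ^ k) x = x := by
  induction k with
  | zero => rfl
  | succ k ih => rw [pow_succ', MulAut.mul_apply, ih, hx]

/-- A subgroup between `F0` and `Q` invariant under an element of order three without further fixed points. -/
theorem small_inv {f : MulAut W} {Q F0 D : Subgroup W} (hf : ∃ k, orderOf f = 3 ^ k)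
    (hQ : Nat.card Q = 8) (hF0 : Nat.card F0 = 2) (hfix : Q ⊓ fixd f = F0) (hD : ∀ x ∈ D, f x ∈ D)
    (h1 : F0 ≤ D) (h2 : D ≤ Q) : D = F0 ∨ D = Q := by
  haveI : Fact (Nat.Prime 3) := ⟨Nat.prime_three⟩
  have hinv : ∀ g ∈ Subgroup.zpowers f, ∀ x ∈ D, g x ∈ D := by
    intro g hg x hx
    obtain ⟨k, rfl⟩ := (mem_powers_iff_mem_zpowers).2 hg
    induction k with
    | zero => exact hx
    | succ k ih =>
      show (f ^ (k + 1)) x ∈ D
      rw [pow_succ', MulAut.mul_apply]; exact hD _ (ih (by exact ⟨k, zpow_natCast f k⟩))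
  obtain ⟨k, hk⟩ := hf
  have hP : IsPGroup 3 (Subgroup.zpowers f) := IsPGroup.of_card (n := k) (by rw [Nat.card_zpowers, hk])
  letI : MulAction (Subgroup.zpowers f) D :=
    { smul := fun g x => ⟨(g : MulAut W) x, hinv g g.2 x x.2⟩
      one_smul := fun x => rfl
      mul_smul := fun g g' x => rfl }
  have hmod := hP.card_modEq_card_fixedPoints D
  have hfx : Nat.card (MulAction.fixedPoints (Subgroup.zpowers f) D) = Nat.card F0 := by
    refine Nat.card_congr
      { toFun := fun x => ⟨(x.1 : W), ?_⟩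
        invFun := fun x => ⟨⟨x.1, h1 x.2⟩, fun g => Subtype.ext ?_⟩
        left_inv := fun x => rfl
        right_inv := fun x => rfl }
    · rw [← hfix]
      exact ⟨h2 x.1.2, congrArg Subtype.val (x.2 ⟨f, Subgroup.mem_zpowers f⟩)⟩
    · have hx : f x.1 = x.1 := (hfix.symm ▸ x.2 : x.1 ∈ Q ⊓ fixd f).2
      obtain ⟨j, hj⟩ := (mem_powers_iff_mem_zpowers).2 g.2
      show (g : MulAut W) x.1 = x.1
      simp only at hj
      rw [← hj]
      exact fix_pow hx j
  rw [hfx, hF0] at hmod
  have hd : Nat.card D ∣ 8 := hQ ▸ Subgroup.card_dvd_of_le h2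
  have h2' : 2 ∣ Nat.card D := hF0 ▸ Subgroup.card_dvd_of_le h1
  have hle := Nat.le_of_dvd (by norm_num) hd
  have : Nat.card D = 2 ∨ Nat.card D = 8 := by
    unfold Nat.ModEq at hmod
    generalize Nat.card D = r at *
    interval_cases r <;> omega
  rcases this with h | h
  · exact Or.inl (Subgroup.eq_of_le_of_card_ge h1 (by rw [h, hF0])).symm
  · exact Or.inr (Subgroup.eq_of_le_of_card_ge h2 (by rw [h, hQ]))

theorem core {p : ℕ} [Fact p.Prime] (hp : p ≠ 2) (hW : IsPGroup 2 W) (E : Subgroup (MulAut W)) (hE : IsPGroup p ↥E)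
    [hab : IsMulCommutative ↥E] (hnc : ¬ IsCyclic ↥E)
    (hfix : ∀ e ∈ E, e ≠ 1 → ∀ x y : W, orderOf x = 2 → orderOf y = 2 → e x = x → e y = y → x = y) :
    Nat.card ↥E = 9 ∧ Cfsg.IsExtraspecial 2 W ∧
      (Nat.card W = 2 ^ 5 ∨ Nat.card W = 2 ^ 7 ∨ Nat.card W = 2 ^ 9) ∧
      {x : W | ∀ e ∈ E, e x = x} = (Subgroup.center W : Set W) := by
  classical
  haveI : Fact (Nat.Prime 2) := ⟨Nat.prime_two⟩
  have hcomm : ∀ f ∈ E, ∀ g ∈ E, f * g = g * f := fun f hf g hg =>
    congrArg Subtype.val (hab.is_comm.comm ⟨f, hf⟩ ⟨g, hg⟩)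
  have hpodd : Odd p := (Fact.out : p.Prime).odd_of_ne_two hp
  have hord : ∀ f ∈ E, ∃ k, orderOf f = p ^ k := by
    intro f hf
    obtain ⟨k, hk⟩ := IsPGroup.iff_orderOf.1 hE ⟨f, hf⟩
    exact ⟨k, by rw [← hk, Subgroup.orderOf_mk]⟩
  have hodd : ∀ f ∈ E, Odd (orderOf f) := fun f hf => by
    obtain ⟨k, hk⟩ := hord f hf
    rw [hk]; exact hpodd.pow
  have hcop : (Nat.card E).Coprime (Nat.card W) := by
    obtain ⟨a, ha⟩ := IsPGroup.iff_card.1 hE
    obtain ⟨b, hb⟩ := IsPGroup.iff_card.1 hW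
    rw [ha, hb]
    exact Nat.Coprime.pow _ _ ((Nat.coprime_primes Fact.out Nat.prime_two).2 hp)
  have gen := generation E hnc hcop
  have hinv : ∀ e ∈ E, ∀ f ∈ E, ∀ x ∈ fixd e, f x ∈ fixd e := by
    intro e he f hf x hx
    show e (f x) = f x
    rw [← MulAut.mul_apply, hcomm e he f hf, MulAut.mul_apply, (mem_fixd.1 hx)]
  set F0 : Subgroup W := ⨅ f ∈ E, fixd f with hF0
  have memF0 : ∀ x, x ∈ F0 ↔ ∀ f ∈ E, f x = x := fun x => by simp [hF0, Subgroup.mem_iInf, mem_fixd]
  -- automorphisms act faithfully on the generating fixed point subgroups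
  have faithful : ∀ f : MulAut W, (∀ e ∈ E, e ≠ 1 → fixd e ≤ fixd f) → f = 1 := by
    intro f hf
    refine MulEquiv.ext fun x => ?_
    have h := gen ⊤ (fun _ _ _ _ => Subgroup.mem_top _) (Subgroup.mem_top x)
    have hle : (⨆ e ∈ {e : MulAut W | e ∈ E ∧ e ≠ 1}, (⊤ : Subgroup W) ⊓ fixd e) ≤ fixd f :=
      iSup₂_le fun e he => inf_le_right.trans (hf e he.1 he.2)
    exact hle h
  -- structure of a fixed point subgroup moved by E
  have str : ∀ e ∈ E, e ≠ 1 → ∀ f ∈ E, ¬ fixd e ≤ fixd f →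
      orderOf f ≠ 1 ∧ p = 3 ∧ Nat.card (fixd e) = 8 ∧ ¬ IsMulCommutative (fixd e) ∧
        Nat.card (fixd e ⊓ fixd f : Subgroup W) = 2 ∧ fixd e ≤ fixd (f ^ 3) := by
    intro e he he1 f hf hnle
    set σ := restr f (fixd e) (hinv e he f hf)
    have hσ1 : σ ≠ 1 := fun h => hnle fun x hx =>
      congrArg Subtype.val (DFunLike.congr_fun h (⟨x, hx⟩ : fixd e))
    have hσd : orderOf σ ∣ orderOf f := orderOf_dvd_of_pow_eq_one (MulEquiv.ext fun x => Subtype.ext (by
      rw [restr_pow, pow_orderOf_eq_one]; rfl))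
    have huniq : ∀ x y : fixd e, orderOf x = 2 → orderOf y = 2 → x = y := fun x y hx hy =>
      Subtype.ext (hfix e he he1 x y (by rwa [Subgroup.orderOf_coe]) (by rwa [Subgroup.orderOf_coe]) x.2 y.2)
    obtain ⟨h3, h8, hna, hf2⟩ := main (hW.to_subgroup _) huniq σ ((hodd f hf).of_dvd_nat hσd) hσ1
    have hp3 : p = 3 := by
      obtain ⟨k, hk⟩ := hord f hf
      rw [h3, hk] at hσd
      exact ((Nat.prime_dvd_prime_iff_eq Nat.prime_three Fact.out).1 (Nat.prime_three.dvd_of_dvd_pow hσd)).symm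
    refine ⟨fun h => by rw [h, Nat.dvd_one] at hσd; omega, hp3, h8, hna, ?_, fun x hx => ?_⟩
    · rw [← hf2]
      exact Nat.card_congr
        { toFun := fun x => ⟨⟨x.1, x.2.1⟩, Subtype.ext x.2.2⟩
          invFun := fun x => ⟨x.1.1, x.1.2, congrArg Subtype.val x.2⟩
          left_inv := fun x => rfl
          right_inv := fun x => rfl }
    · have h := restr_pow f (fixd e) (hinv e he f hf) 3 ⟨x, hx⟩
      rw [← h3, pow_orderOf_eq_one] at h
      show (f ^ 3) x = x
      rw [← h3]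
      exact h.symm
  -- some fixed point subgroup is moved
  obtain ⟨e₀, he₀, he₀1, f₀, hf₀, hnle₀⟩ : ∃ e ∈ E, e ≠ 1 ∧ ∃ f ∈ E, ¬ fixd e ≤ fixd f := by
    by_contra hno
    push Not at hno
    haveI : Subsingleton E := ⟨fun a b => Subtype.ext (by
      rw [faithful a fun e he he1 => hno e he he1 a a.2, faithful b fun e he he1 => hno e he he1 b b.2])⟩
    exact hnc isCyclic_of_subsingleton
  obtain ⟨-, hp3, h8₀, -, -, -⟩ := str e₀ he₀ he₀1 f₀ hf₀ hnle₀
  subst hp3
  have hcube : ∀ f ∈ E, f ^ 3 = 1 := by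
    intro f hf
    refine faithful _ fun e he he1 => ?_
    by_cases h : fixd e ≤ fixd f
    · exact fun x hx => fix_pow (h hx) 3
    · exact (str e he he1 f hf h).2.2.2.2.2
  -- the involution
  obtain ⟨t, htQ, ht2⟩ : ∃ t ∈ fixd e₀, orderOf t = 2 := by
    obtain ⟨t, ht⟩ := exists_prime_orderOf_dvd_card' (G := fixd e₀) 2 (by rw [h8₀]; norm_num)
    exact ⟨t, t.2, by rwa [Subgroup.orderOf_coe]⟩
  have htF0 : t ∈ F0 := by
    rw [memF0]
    intro f hf
    exact hfix e₀ he₀ he₀1 _ _ (by rw [MulEquiv.orderOf_eq]; exact ht2) ht2 (hinv e₀ he₀ f hf t htQ) htQ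
  have hF0le : ∀ e ∈ E, F0 ≤ fixd e := fun e he x hx => (memF0 x).1 hx e he
  have hF0card : Nat.card F0 = 2 := by
    have h1 : F0 ≤ fixd e₀ ⊓ fixd f₀ := le_inf (hF0le e₀ he₀) (hF0le f₀ hf₀)
    have h2 := Nat.le_of_dvd (by norm_num) ((str e₀ he₀ he₀1 f₀ hf₀ hnle₀).2.2.2.2.1 ▸ Subgroup.card_dvd_of_le h1)
    haveI : Nontrivial F0 := ⟨⟨⟨t, htF0⟩, 1, fun h => by
      have h' : t = 1 := congrArg Subtype.val h
      rw [h'] at ht2; simp at ht2⟩⟩
    have := Finite.one_lt_card (α := F0)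
    omega
  -- the set of moved fixed point subgroups
  let IsQ : Subgroup W → Prop := fun Q => ∃ e ∈ E, e ≠ 1 ∧ Q = fixd e ∧ ¬ Q ≤ F0
  have fix_cases : ∀ e ∈ E, e ≠ 1 → fixd e = F0 ∨ IsQ (fixd e) := fun e he he1 => by
    by_cases h : fixd e ≤ F0
    · exact Or.inl (le_antisymm h (hF0le e he))
    · exact Or.inr ⟨e, he, he1, rfl, h⟩
  have Qcard : ∀ Q, IsQ Q → Nat.card Q = 8 ∧ ¬ IsMulCommutative Q ∧ F0 ≤ Q ∧ (∀ f ∈ E, ∀ x ∈ Q, f x ∈ Q) ∧
      ∀ f ∈ E, Q ≤ fixd f ∨ Q ⊓ fixd f = F0 := by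
    rintro _ ⟨e, he, he1, rfl, hnF⟩
    obtain ⟨f, hf, hnle⟩ : ∃ f ∈ E, ¬ fixd e ≤ fixd f := by
      by_contra h
      push Not at h
      exact hnF fun x hx => (memF0 x).2 fun f hf => h f hf hx
    obtain ⟨-, -, h8, hna, -, -⟩ := str e he he1 f hf hnle
    refine ⟨h8, hna, hF0le e he, hinv e he, fun g hg => ?_⟩
    by_cases h : fixd e ≤ fixd g
    · exact Or.inl h
    · obtain ⟨-, -, -, -, h2, -⟩ := str e he he1 g hg h
      exact Or.inr (Subgroup.eq_of_le_of_card_ge (le_inf (hF0le e he) (hF0le g hg)) (by rw [h2, hF0card])).symm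
  have Qsmall : ∀ Q, IsQ Q → ∀ D : Subgroup W, (∀ f ∈ E, ∀ x ∈ D, f x ∈ D) → F0 ≤ D → D ≤ Q → D = F0 ∨ D = Q := by
    intro Q hQ D hD h1 h2
    obtain ⟨h8, -, -, -, hcases⟩ := Qcard Q hQ
    obtain ⟨e, he, he1, rfl, hnF⟩ := hQ
    obtain ⟨f, hf, hnle⟩ : ∃ f ∈ E, ¬ fixd e ≤ fixd f := by
      by_contra h
      push Not at h
      exact hnF fun x hx => (memF0 x).2 fun f hf => h f hf hx
    exact small_inv (hord f hf) h8 hF0card ((hcases f hf).resolve_left hnle) (hD f hf) h1 h2
  have genQ : ∀ X : Subgroup W, (∀ f ∈ E, ∀ x ∈ X, f x ∈ X) → ∀ T : Subgroup W, F0 ≤ T →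
      (∀ Q, IsQ Q → X ⊓ Q ≤ T) → X ≤ T := by
    intro X hX T hT hQ
    refine (gen X hX).trans (iSup₂_le fun e he => ?_)
    rcases fix_cases e he.1 he.2 with h | h
    · rw [h]; exact inf_le_right.trans hT
    · exact hQ _ h
  have genTop : ∀ T : Subgroup W, F0 ≤ T → (∀ Q, IsQ Q → Q ≤ T) → T = ⊤ := fun T hT hQ =>
    top_le_iff.1 (genQ ⊤ (fun _ _ _ _ => Subgroup.mem_top _) T hT fun Q h => inf_le_right.trans (hQ Q h))
  -- F0 is central
  have tcent : ∀ x ∈ F0, ∀ y, Commute x y := by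
    intro x hx
    have : Subgroup.centralizer ({x} : Set W) = ⊤ := by
      refine genTop _ (fun y hy => ?_) fun Q hQ => ?_
      · haveI : IsCyclic F0 := isCyclic_of_prime_card (p := 2) hF0card
        letI := IsCyclic.commGroup (α := F0)
        exact Subgroup.mem_centralizer_singleton_iff.2 (congrArg Subtype.val (mul_comm (⟨y, hy⟩ : F0) ⟨x, hx⟩))
      · obtain ⟨e, he, he1, rfl, -⟩ := hQ
        intro y hy
        rw [Subgroup.mem_centralizer_singleton_iff]
        rcases eq_or_ne x 1 with rfl | hx1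
        · simp
        have hx2 : orderOf x = 2 := by
          refine orderOf_eq_prime ?_ hx1
          have := pow_card_eq_one' (G := F0) (x := ⟨x, hx⟩)
          rw [hF0card] at this
          exact congrArg Subtype.val this
        have hxe : e x = x := (memF0 x).1 hx e he
        have e' := hfix e he he1 (y * x * y⁻¹) x (by rw [← MulAut.conj_apply, MulEquiv.orderOf_eq]; exact hx2) hx2
          (by rw [map_mul, map_mul, map_inv, (mem_fixd.1 hy), hxe]) hxe
        exact mul_inv_eq_iff_eq_mul.1 e'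
    intro y
    have hy : y ∈ Subgroup.centralizer ({x} : Set W) := this ▸ Subgroup.mem_top y
    exact (Subgroup.mem_centralizer_singleton_iff.1 hy).symm
  haveI hF0n : F0.Normal := ⟨fun x hx g => by rwa [(tcent x hx g).eq.symm, mul_inv_cancel_right]⟩
  set π := QuotientGroup.mk' F0
  set Z2 : Subgroup W := (Subgroup.center (W ⧸ F0)).comap π with hZ2
  have memZ2 : ∀ x, x ∈ Z2 ↔ ∀ y, ⁅x, y⁆ ∈ F0 := by
    intro x
    rw [hZ2, Subgroup.mem_comap, Subgroup.mem_center_iff]
    constructor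
    · intro h y
      rw [← QuotientGroup.eq_one_iff]
      show π ⁅x, y⁆ = 1
      rw [map_commutatorElement, commutatorElement_eq_one_iff_mul_comm]
      exact (h (π y)).symm
    · intro h g
      obtain ⟨y, rfl⟩ := QuotientGroup.mk'_surjective F0 g
      have := (QuotientGroup.eq_one_iff _).2 (h y)
      change π ⁅x, y⁆ = 1 at this
      rw [map_commutatorElement, commutatorElement_eq_one_iff_mul_comm] at this
      exact this.symm
  have sep : ∀ Q R, IsQ Q → IsQ R → Q ≠ R → ∃ e ∈ E, (∀ x ∈ Q, e x = x) ∧ ¬ R ≤ fixd e := by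
    intro Q R hQ hR hne
    obtain ⟨e, he, he1, rfl, hn⟩ := hQ
    refine ⟨e, he, fun x hx => hx, fun h => hne ?_⟩
    exact (Subgroup.eq_of_le_of_card_ge h (by rw [(Qcard _ hR).1, (Qcard _ ⟨e, he, he1, rfl, hn⟩).1])).symm
  -- central ones commute with the others
  have central_comm : ∀ Q R, IsQ Q → IsQ R → Q ≠ R → Q ≤ Z2 → ∀ x ∈ Q, ∀ y ∈ R, Commute x y := by
    intro Q R hQ hR hne hQZ x hx
    obtain ⟨hR8, -, hFR, hRinv, hRc⟩ := Qcard R hR
    obtain ⟨e, he, heQ, heR⟩ := sep Q R hQ hR hne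
    have hc : ∀ y ∈ R, ⁅x, y⁆ ∈ F0 := fun y _ => (memZ2 x).1 (hQZ hx) y
    let c : R →* F0 :=
      { toFun := fun y => ⟨⁅x, (y : W)⁆, hc y y.2⟩
        map_one' := Subtype.ext (by simp)
        map_mul' := fun a b => Subtype.ext (by
          show ⁅x, (a : W) * b⁆ = ⁅x, (a : W)⁆ * ⁅x, (b : W)⁆
          have hb := tcent _ (hc b b.2) (a : W)
          calc ⁅x, (a : W) * b⁆ = ⁅x, (a : W)⁆ * ((a : W) * ⁅x, (b : W)⁆ * (a : W)⁻¹) := by
                simp only [commutatorElement_def]; group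
            _ = _ := by rw [hb.symm.eq, mul_inv_cancel_right]) }
    set D := c.ker.map R.subtype
    have hDinv : ∀ u ∈ D, e u ∈ D := by
      rintro _ ⟨u, hu, rfl⟩
      refine ⟨⟨e u, hRinv e he u u.2⟩, Subtype.ext ?_, rfl⟩
      show ⁅x, e (u : W)⁆ = 1
      rw [← heQ x hx, ← map_commutatorElement, show ⁅x, (u : W)⁆ = 1 from congrArg Subtype.val hu, map_one]
    have hFD : F0 ≤ D := fun u hu => ⟨⟨u, hFR hu⟩, Subtype.ext (by
      show ⁅x, u⁆ = 1
      rw [commutatorElement_eq_one_iff_mul_comm, (tcent u hu x).eq]), rfl⟩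
    have hDcard : 4 ≤ Nat.card D := by
      rw [Subgroup.card_map_of_injective R.subtype_injective]
      have h := c.ker.card_mul_index
      rw [hR8, Subgroup.index_ker] at h
      have := Nat.le_of_dvd (by norm_num) (hF0card ▸ Subgroup.card_subgroup_dvd_card c.range)
      nlinarith
    rcases small_inv (hord e he) hR8 hF0card ((hRc e he).resolve_left heR) hDinv hFD (Subgroup.map_subtype_le _)
      with h | h
    · rw [h, hF0card] at hDcard; omega
    · intro y hy
      rw [← h] at hy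
      obtain ⟨u, hu, rfl⟩ := hy
      exact commutatorElement_eq_one_iff_mul_comm.1 (congrArg Subtype.val hu)
  -- all are central
  have allZ2 : ∀ Q, IsQ Q → Q ≤ Z2 := by
    by_contra hno
    push Not at hno
    obtain ⟨Q₁, hQ₁, hQ₁Z⟩ := hno
    set C : Subgroup W := ⨆ R ∈ {R : Subgroup W | IsQ R ∧ ¬ R ≤ Z2}, R with hC
    have hmem : ∀ R, IsQ R → ¬ R ≤ Z2 → R ≤ C := fun R h1 h2 =>
      le_biSup (f := fun R : Subgroup W => R) (show R ∈ {R : Subgroup W | IsQ R ∧ ¬ R ≤ Z2} from ⟨h1, h2⟩)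
    have hCcent : ∀ Q, IsQ Q → Q ≤ Z2 → ∀ x ∈ Q, C ≤ Subgroup.centralizer ({x} : Set W) := by
      intro Q hQ hQZ x hx
      refine iSup₂_le fun R hR y hy => Subgroup.mem_centralizer_singleton_iff.2 ?_
      exact (central_comm Q R hQ hR.1 (fun e => hR.2 (e ▸ hQZ)) hQZ x hx y hy).eq.symm
    have hCn : C.Normal := by
      rw [← Subgroup.normalizer_eq_top_iff]
      refine genTop _ (fun x hx => ?_) fun Q hQ => ?_
      · exact Subgroup.le_normalizer ((hmem Q₁ hQ₁ hQ₁Z) ((Qcard Q₁ hQ₁).2.2.1 hx))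
      · by_cases hZ : Q ≤ Z2
        · intro x hx
          rw [Subgroup.mem_normalizer_iff]
          intro y
          constructor
          · intro hy
            rwa [← Subgroup.mem_centralizer_singleton_iff.1 (hCcent Q hQ hZ x hx hy), mul_inv_cancel_right]
          · intro hy
            have h' := Subgroup.mem_centralizer_singleton_iff.1 (hCcent Q hQ hZ x⁻¹ (Q.inv_mem hx) hy)
            have : x⁻¹ * (x * y * x⁻¹) * x ∈ C := by rw [← h']; simpa using hy
            simpa [mul_assoc] using this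
        · exact (hmem Q hQ hZ).trans Subgroup.le_normalizer
    have hCinv : ∀ f ∈ E, ∀ x ∈ C, f x ∈ C := by
      intro f hf
      show C ≤ C.comap (f : MulAut W).toMonoidHom
      exact iSup₂_le fun R hR x hx => hmem R hR.1 hR.2 ((Qcard R hR.1).2.2.2.1 f hf x hx)
    haveI : Group.IsNilpotent (W ⧸ F0) := (hW.to_quotient F0).isNilpotent
    haveI : (C.map π).Normal := hCn.map π (QuotientGroup.mk'_surjective F0)
    have hne : C.map π ≠ ⊥ := by
      intro h
      rw [Subgroup.map_eq_bot_iff, QuotientGroup.ker_mk'] at h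
      exact hQ₁Z ((hmem Q₁ hQ₁ hQ₁Z).trans h |>.trans fun x hx => (memZ2 x).2 fun y => by
        rw [commutatorElement_eq_one_iff_mul_comm.2 (tcent x hx y).eq]; exact one_mem F0)
    obtain ⟨_, ⟨x, hxC, rfl⟩, hxZ, hx1⟩ := LocalEvenB.exists_mem_center_ne_one (C.map π) hne
    have hXinv : ∀ f ∈ E, ∀ u ∈ C ⊓ Z2, f u ∈ C ⊓ Z2 := fun f hf u hu => ⟨hCinv f hf u hu.1, (memZ2 _).2 fun y => by
      obtain ⟨y', rfl⟩ := (f : MulAut W).surjective y
      rw [← map_commutatorElement]
      have := (memZ2 u).1 hu.2 y'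
      rw [(memF0 _).1 this f hf]
      exact this⟩
    refine hx1 ((QuotientGroup.eq_one_iff x).2 (genQ (C ⊓ Z2) hXinv F0 le_rfl (fun Q hQ => ?_) ⟨hxC, hxZ⟩))
    rcases Qsmall Q hQ ((C ⊓ Z2) ⊓ Q) (fun f hf u hu => ⟨hXinv f hf u hu.1, (Qcard Q hQ).2.2.2.1 f hf u hu.2⟩)
      (le_inf (le_inf ((Qcard Q₁ hQ₁).2.2.1.trans (hmem Q₁ hQ₁ hQ₁Z)) fun u hu => (memZ2 u).2 fun y => by
        rw [commutatorElement_eq_one_iff_mul_comm.2 (tcent u hu y).eq]; exact one_mem F0) (Qcard Q hQ).2.2.1)
      inf_le_right with h | h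
    · exact h.le
    · exfalso
      have hQX : Q ≤ C ⊓ Z2 := h ▸ inf_le_left
      refine (Qcard Q hQ).2.1 ⟨⟨fun a b => Subtype.ext ?_⟩⟩
      exact (Subgroup.mem_centralizer_singleton_iff.1
        (hCcent Q hQ (hQX.trans inf_le_right) a a.2 (hQX.trans inf_le_left b.2))).symm
  have comm : ∀ Q R, IsQ Q → IsQ R → Q ≠ R → ∀ x ∈ Q, ∀ y ∈ R, Commute x y :=
    fun Q R hQ hR hne => central_comm Q R hQ hR hne (allZ2 Q hQ)
  have hZ2top : Z2 = ⊤ := genTop Z2 (fun x hx => (memZ2 x).2 fun y => by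
    rw [commutatorElement_eq_one_iff_mul_comm.2 (tcent x hx y).eq]; exact one_mem F0) allZ2
  have hder : ∀ x y : W, ⁅x, y⁆ ∈ F0 := fun x => (memZ2 x).1 (hZ2top ▸ Subgroup.mem_top x)
  -- the quotient has exponent two
  have hsq : ∀ x : W, x * x ∈ F0 := by
    let S : Subgroup W :=
      { carrier := {x | x * x ∈ F0}
        one_mem' := by simp
        mul_mem' := fun {a b} ha hb => by
          show a * b * (a * b) ∈ F0
          have hb' := hder b a
          rw [show a * b * (a * b) = a * (⁅b, a⁆ * a) * (b * b) by simp only [commutatorElement_def]; group,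
            (tcent _ hb' a).eq, ← mul_assoc a a]
          exact F0.mul_mem (F0.mul_mem ha hb') hb
        inv_mem' := fun {a} ha => by
          show a⁻¹ * a⁻¹ ∈ F0
          rw [← mul_inv_rev]; exact F0.inv_mem ha }
    have hS : S = ⊤ := by
      refine genTop S (fun x hx => F0.mul_mem hx hx) fun Q hQ x hx => ?_
      obtain ⟨h8, hna, hFQ, -, -⟩ := Qcard Q hQ
      obtain ⟨e, he, he1, rfl, -⟩ := hQ
      show x * x ∈ F0
      have hdvd := orderOf_dvd_natCard (⟨x, hx⟩ : fixd e)
      rw [h8] at hdvd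
      have hne8 : orderOf (⟨x, hx⟩ : fixd e) ≠ 8 := fun h => hna
        (haveI := isCyclic_of_orderOf_eq_card _ (h.trans h8.symm)
         letI := IsCyclic.commGroup (α := fixd e)
         ⟨⟨mul_comm⟩⟩)
      rw [Subgroup.orderOf_mk] at hdvd hne8
      obtain ⟨t', ht'⟩ : ∃ u ∈ F0, orderOf u = 2 := ⟨t, htF0, ht2⟩
      rcases eq_or_ne (x * x) 1 with h | h
      · rw [h]; exact F0.one_mem
      · have h4 : (x * x) ^ 2 = 1 := by
          rw [← pow_two, ← pow_mul]
          refine orderOf_dvd_iff_pow_eq_one.1 ?_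
          obtain ⟨i, hi, hr⟩ := (Nat.dvd_prime_pow Nat.prime_two).1 (show orderOf x ∣ 2 ^ 3 from hdvd)
          rw [hr] at hne8
          have hi3 : i ≠ 3 := fun e => hne8 (by rw [e]; norm_num)
          rw [hr, show 2 * 2 = 2 ^ 2 by norm_num]
          exact pow_dvd_pow 2 (by omega)
        rw [hfix e he he1 (x * x) t' (orderOf_eq_prime h4 h) ht'.2 ((fixd e).mul_mem hx hx)
          ((memF0 t').1 ht'.1 e he)]
        exact ht'.1
    exact fun x => (hS ▸ Subgroup.mem_top x : x ∈ S)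
  have hcenter : Subgroup.center W = F0 := by
    refine le_antisymm ?_ fun x hx => Subgroup.mem_center_iff.2 fun y => (tcent x hx y).eq.symm
    refine genQ _ (fun f hf x hx => Subgroup.mem_center_iff.2 fun y => ?_) F0 le_rfl fun Q hQ => ?_
    · obtain ⟨y, rfl⟩ := (f : MulAut W).surjective y
      rw [← map_mul, ← map_mul, Subgroup.mem_center_iff.1 hx y]
    · rcases Qsmall Q hQ (Subgroup.center W ⊓ Q)
        (fun f hf x hx => ⟨Subgroup.mem_center_iff.2 fun y => by
          obtain ⟨y, rfl⟩ := (f : MulAut W).surjective y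
          rw [← map_mul, ← map_mul, Subgroup.mem_center_iff.1 hx.1 y], (Qcard Q hQ).2.2.2.1 f hf x hx.2⟩)
        (le_inf (fun x hx => Subgroup.mem_center_iff.2 fun y => (tcent x hx y).eq.symm) (Qcard Q hQ).2.2.1)
        inf_le_right with h | h
      · exact h.le
      · exfalso
        have hQc : Q ≤ Subgroup.center W := h ▸ inf_le_left
        exact (Qcard Q hQ).2.1 ⟨⟨fun a b => Subtype.ext ((Subgroup.mem_center_iff.1 (hQc a.2) b).symm)⟩⟩
  have hIsQ0 : IsQ (fixd e₀) := ⟨e₀, he₀, he₀1, rfl, fun h => by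
    have := Nat.le_of_dvd (by rw [hF0card]; norm_num) (Subgroup.card_dvd_of_le h)
    rw [h8₀, hF0card] at this; omega⟩
  have hcommEq : commutator W = F0 := by
    have hle : commutator W ≤ F0 := by
      rw [_root_.commutator_def, Subgroup.commutator_le]
      exact fun x _ y _ => hder x y
    refine Subgroup.eq_of_le_of_card_ge hle ?_
    obtain ⟨-, hna, -, -, -⟩ := Qcard _ hIsQ0
    have hne : commutator W ≠ ⊥ := fun h => hna ⟨⟨fun a b => Subtype.ext ((commutatorElement_eq_one_iff_mul_comm).1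
      (Subgroup.mem_bot.1 (h ▸ (_root_.commutator_def W).symm ▸
        Subgroup.commutator_mem_commutator (Subgroup.mem_top (a : W)) (Subgroup.mem_top (b : W)))))⟩⟩
    haveI := (Subgroup.nontrivial_iff_ne_bot _).2 hne
    have := Finite.one_lt_card (α := commutator W)
    omega
  have hfrat : frattini W = F0 := by
    refine le_antisymm ?_ ?_
    · have h1 : frattini (W ⧸ F0) = ⊥ := by
        by_contra h
        obtain ⟨r, hr⟩ := ClassK.exists_mul_self_ne_one h
        obtain ⟨x, rfl⟩ := QuotientGroup.mk'_surjective F0 r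
        exact hr (by rw [← map_mul]; exact (QuotientGroup.eq_one_iff _).2 (hsq x))
      have h2 := frattini_le_comap_frattini_of_surjective (φ := π) (QuotientGroup.mk'_surjective F0)
      rw [h1, MonoidHom.comap_bot, QuotientGroup.ker_mk'] at h2
      exact h2
    · rw [← hcommEq]
      haveI := hW.isNilpotent
      exact Basics.commutator_le_frattini
  have hspecial : Cfsg.IsExtraspecial 2 W :=
    ⟨⟨hW, by rw [hfrat, hcenter], by rw [hcommEq, hcenter]⟩, by rw [hcenter, hF0card]⟩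
  -- counting
  set QS : Finset (Subgroup W) := (Set.toFinite {Q | IsQ Q}).toFinset with hQS
  have memQS : ∀ Q, Q ∈ QS ↔ IsQ Q := fun Q => by simp [hQS]
  have cnt : ∀ s : Finset (Subgroup W), s ⊆ QS →
      Nat.card (F0 ⊔ s.sup id : Subgroup W) = 2 * 4 ^ s.card ∧
        (∀ R, IsQ R → R ∉ s → F0 ⊔ s.sup id ≤ Subgroup.centralizer (R : Set W)) := by
    intro s
    induction s using Finset.induction with
    | empty =>
      intro _
      refine ⟨by simp [hF0card], fun R _ _ => ?_⟩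
      simp only [Finset.sup_empty, sup_bot_eq]
      exact fun x hx => Subgroup.mem_centralizer_iff.2 fun y _ => (tcent x hx y).eq.symm
    | insert Q s hQs ih =>
      intro hsub
      obtain ⟨h1, h2⟩ := ih fun u hu => hsub (Finset.mem_insert_of_mem hu)
      have hQ := (memQS Q).1 (hsub (Finset.mem_insert_self _ _))
      obtain ⟨h8, hna, hFQ, hQinv, -⟩ := Qcard Q hQ
      rw [Finset.sup_insert, id, ← sup_assoc, sup_comm F0 Q, sup_assoc]
      set M := F0 ⊔ s.sup id
      have hnor : Q ≤ Subgroup.normalizer (M : Set W) := by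
        intro q hq
        rw [Subgroup.mem_normalizer_iff]
        have hcm : ∀ y ∈ M, q * y = y * q := fun y hy => Subgroup.mem_centralizer_iff.1 (h2 Q hQ hQs hy) q hq
        refine fun y => ⟨fun hy => by rwa [hcm y hy, mul_inv_cancel_right], fun hy => ?_⟩
        have h' := hcm _ hy
        have : q * y * q⁻¹ = y := mul_left_cancel (a := q) (h'.trans (by group))
        rwa [this] at hy
      have hMQ : M ⊓ Q = F0 := by
        refine le_antisymm (fun x hx => hcenter.le (Subgroup.mem_center_iff.2 ?_)) (le_inf le_sup_left hFQ)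
        have : Subgroup.centralizer ({x} : Set W) = ⊤ := genTop _
          (fun y hy => Subgroup.mem_centralizer_singleton_iff.2 (tcent y hy x).eq) fun R hR y hy => by
            rw [Subgroup.mem_centralizer_singleton_iff]
            rcases eq_or_ne R Q with rfl | hne
            · exact Subgroup.mem_centralizer_iff.1 (h2 R hQ hQs hx.1) y hy
            · exact ((comm R Q hR hQ hne y hy x hx.2)).eq
        intro y
        have hy : y ∈ Subgroup.centralizer ({x} : Set W) := this ▸ Subgroup.mem_top y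
        exact Subgroup.mem_centralizer_singleton_iff.1 hy
      refine ⟨?_, fun R hR hRs => sup_le ?_ (h2 R hR fun h => hRs (Finset.mem_insert_of_mem h))⟩
      · have h := Basics.card_mul_card_eq_card_sup_mul_card_inf hnor
        rw [hMQ, hF0card, h8, h1, sup_comm] at h
        rw [Finset.card_insert_of_notMem hQs, pow_succ]
        omega
      · intro x hx
        rw [Subgroup.mem_centralizer_iff]
        exact fun y hy => (comm R Q hR hQ (fun e => hRs (e ▸ Finset.mem_insert_self _ _)) y hy x hx).eq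
  have hWcard : Nat.card W = 2 * 4 ^ QS.card := by
    rw [← (cnt QS subset_rfl).1, genTop (F0 ⊔ QS.sup id) le_sup_left fun Q hQ =>
      le_sup_of_le_right (Finset.le_sup (f := id) ((memQS Q).2 hQ)), Subgroup.card_top]
  -- kernels
  let K : Subgroup W → Subgroup E := fun Q =>
    { carrier := {f | ∀ x ∈ Q, (f : MulAut W) x = x}
      one_mem' := fun x _ => rfl
      mul_mem' := fun {a b} ha hb x hx => by rw [Subgroup.coe_mul, MulAut.mul_apply, hb x hx, ha x hx]
      inv_mem' := fun {a} ha x hx => by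
        rw [InvMemClass.coe_inv, MulAut.inv_def, MulEquiv.symm_apply_eq]; exact (ha x hx).symm }
  have hKi : ∀ Q, IsQ Q → (K Q).index ≤ 3 := by
    intro Q hQ
    obtain ⟨h8, hna, -, hQinv, -⟩ := Qcard Q hQ
    let φ : E →* MulAut Q :=
      { toFun := fun f => restr f Q (hQinv f f.2)
        map_one' := MulEquiv.ext fun x => Subtype.ext rfl
        map_mul' := fun a b => MulEquiv.ext fun x => Subtype.ext rfl }
    have hker : φ.ker = K Q := by
      ext f
      exact ⟨fun h x hx => congrArg Subtype.val (DFunLike.congr_fun (MonoidHom.mem_ker.1 h) (⟨x, hx⟩ : Q)),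
        fun h => MonoidHom.mem_ker.2 (MulEquiv.ext fun x => Subtype.ext (h x x.2))⟩
    have huniq : ∀ x y : Q, orderOf x = 2 → orderOf y = 2 → x = y := by
      obtain ⟨e, he, he1, rfl, -⟩ := hQ
      exact fun x y hx hy => Subtype.ext
        (hfix e he he1 x y (by rwa [Subgroup.orderOf_coe]) (by rwa [Subgroup.orderOf_coe]) x.2 y.2)
    obtain ⟨k, hk⟩ := IsPGroup.iff_card.1 (IsPGroup.of_surjective hE φ.rangeRestrict φ.rangeRestrict_surjective)
    have hd : Nat.card φ.range ∣ 24 := by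
      have hH : ∀ A B : Subgroup Q, Nat.card A = 2 → Nat.card B = 2 → A = B := by
        intro A B hA hB
        obtain ⟨x, hx⟩ := exists_prime_orderOf_dvd_card' (G := A) 2 (by rw [hA])
        obtain ⟨y, hy⟩ := exists_prime_orderOf_dvd_card' (G := B) 2 (by rw [hB])
        rw [← Subgroup.orderOf_coe] at hx hy
        have e1 : Subgroup.zpowers (x : Q) = A := Subgroup.eq_of_le_of_card_ge (Subgroup.zpowers_le.2 x.2) (by rw [Nat.card_zpowers, hx, hA])
        have e2 : Subgroup.zpowers (y : Q) = B := Subgroup.eq_of_le_of_card_ge (Subgroup.zpowers_le.2 y.2) (by rw [Nat.card_zpowers, hy, hB])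
        rw [← e1, ← e2, huniq _ _ hx hy]
      rcases InvChar.cyclic_or_quaternion (hW.to_subgroup Q) hH with hc | ⟨-, j, ⟨ι⟩⟩
      · exact absurd (haveI := hc; letI := IsCyclic.commGroup (α := Q); ⟨⟨mul_comm⟩⟩) hna
      · haveI : NeZero (2 ^ j) := ⟨by positivity⟩
        have hj : j = 1 := by
          have := Nat.card_congr ι.toEquiv
          rw [h8, Nat.card_eq_fintype_card, QuaternionGroup.card] at this
          rcases j with _ | _ | j
          · simp at this
          · rfl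
          · rw [pow_succ, pow_succ] at this; have := Nat.one_le_two_pow (n := j); omega
        subst hj
        refine (Subgroup.card_subgroup_dvd_card _).trans ?_
        rw [Nat.card_congr (MulAut.congr ι).toEquiv]
        exact PermGp.NFLin.card_mulAut_quaternion_dvd
    rw [← hker, Subgroup.index_ker, hk]
    rw [hk] at hd
    have : 3 ^ k ∣ 3 :=
      ((Nat.Coprime.pow k 3 (by norm_num : Nat.Coprime 3 2))).dvd_of_dvd_mul_left (show 3 ^ k ∣ 2 ^ 3 * 3 from hd)
    exact Nat.le_of_dvd (by norm_num) this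
  obtain ⟨a, ha⟩ := IsPGroup.iff_card.1 hE
  have ha2 : 2 ≤ a := by
    by_contra h
    interval_cases a
    · haveI : Subsingleton E := (Nat.card_eq_one_iff_unique.1 (by simpa using ha)).1
      exact hnc isCyclic_of_subsingleton
    · exact hnc (isCyclic_of_prime_card (p := 3) (by simpa using ha))
  have hKdisj : ∀ Q R, IsQ Q → IsQ R → Q ≠ R → K Q ⊓ K R = ⊥ := by
    intro Q R hQ hR hne
    rw [Subgroup.eq_bot_iff_forall]
    rintro ⟨f, hf⟩ ⟨hfQ, hfR⟩
    by_contra h1
    have hf1 : f ≠ 1 := fun e => h1 (Subtype.ext e)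
    rcases fix_cases f hf hf1 with h | h
    · obtain ⟨_, _, _, _, hn⟩ := hQ
      exact hn fun x hx => h ▸ hfQ x hx
    · exact hne ((Subgroup.eq_of_le_of_card_ge (show Q ≤ fixd f from hfQ)
        (by rw [(Qcard _ h).1, (Qcard _ hQ).1])).trans (Subgroup.eq_of_le_of_card_ge (show R ≤ fixd f from hfR)
        (by rw [(Qcard _ h).1, (Qcard _ hR).1])).symm)
  have hKcard : ∀ Q, IsQ Q → 3 ^ a ≤ 3 * Nat.card (K Q) := fun Q hQ => by
    rw [← ha, ← (K Q).card_mul_index, mul_comm 3]
    exact Nat.mul_le_mul_left _ (hKi Q hQ)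
  have h2Q : 2 ≤ QS.card := by
    by_contra h
    have h1 : ∀ Q, IsQ Q → Q = fixd e₀ := fun Q hQ =>
      Finset.card_le_one.1 (by omega) _ ((memQS Q).2 hQ) _ ((memQS _).2 hIsQ0)
    have hbot : K (fixd e₀) = ⊥ := by
      rw [Subgroup.eq_bot_iff_forall]
      intro f hf
      refine Subtype.ext (faithful _ fun e he he1 x hx => ?_)
      rcases fix_cases e he he1 with h' | h'
      · exact (memF0 x).1 (h' ▸ hx) f f.2
      · exact hf x (h1 _ h' ▸ hx)
    have := hKcard _ hIsQ0
    rw [hbot, Subgroup.card_bot] at this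
    have := Nat.pow_le_pow_right (show 0 < 3 by norm_num) ha2
    omega
  have ha9 : a = 2 := by
    by_contra h
    obtain ⟨Q, hQ, R, hR, hne⟩ := Finset.one_lt_card.1 h2Q
    rw [memQS] at hQ hR
    haveI : (K Q).Normal := inferInstance
    have h1 := Basics.card_mul_card_eq_card_sup_mul_card_inf (N := K Q) (H := K R) Subgroup.le_normalizer_of_normal
    rw [hKdisj Q R hQ hR hne, Subgroup.card_bot, mul_one] at h1
    have hle : Nat.card (K Q ⊔ K R : Subgroup E) ≤ 3 ^ a := ha ▸ Subgroup.card_le_card_group _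
    obtain ⟨b, rfl⟩ : ∃ b, a = b + 3 := ⟨a - 3, by omega⟩
    have hb := Nat.one_le_pow b 3 (by norm_num)
    have hKQ := hKcard Q hQ
    have hKR := hKcard R hR
    rw [pow_add] at hKQ hKR hle
    nlinarith
  subst ha9
  have h4Q : QS.card ≤ 4 := by
    have hdis : ((QS : Set (Subgroup W))).PairwiseDisjoint fun Q =>
        ((Set.toFinite ((K Q : Set E) \ {1})).toFinset) := by
      intro Q hQ R hR hne
      simp only [Function.onFun, Finset.disjoint_left, Set.Finite.mem_toFinset]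
      intro f hfQ hfR
      have : f ∈ K Q ⊓ K R := ⟨hfQ.1, hfR.1⟩
      rw [hKdisj Q R ((memQS Q).1 hQ) ((memQS R).1 hR) hne] at this
      exact hfQ.2 this
    haveI : Fintype E := Fintype.ofFinite _
    have hsub : QS.biUnion (fun Q => ((Set.toFinite ((K Q : Set E) \ {1})).toFinset)) ⊆
        Finset.univ.erase (1 : E) := fun f hf => by
      simp only [Finset.mem_biUnion, Set.Finite.mem_toFinset] at hf
      obtain ⟨Q, -, hf⟩ := hf
      exact Finset.mem_erase.2 ⟨hf.2, Finset.mem_univ _⟩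
    have hc := Finset.card_le_card hsub
    rw [Finset.card_biUnion hdis, Finset.card_erase_of_mem (Finset.mem_univ _), Finset.card_univ,
      ← Nat.card_eq_fintype_card, ha] at hc
    have hge : ∀ Q ∈ QS, 2 ≤ ((Set.toFinite ((K Q : Set E) \ {1})).toFinset).card := by
      intro Q hQ
      rw [← Set.ncard_eq_toFinset_card _, Set.ncard_diff_singleton_of_mem (show (1 : E) ∈ (K Q : Set E) from one_mem _)]
      have := hKcard Q ((memQS Q).1 hQ)
      rw [← Nat.card_coe_set_eq]
      simp only [SetLike.coe_sort_coe]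
      omega
    have := (Finset.card_nsmul_le_sum QS _ 2 hge).trans hc
    simp only [smul_eq_mul] at this
    omega
  refine ⟨ha, hspecial, ?_, ?_⟩
  · rw [hWcard]
    interval_cases QS.card <;> norm_num
  · rw [hcenter]
    ext x
    exact (memF0 x).symm

/-- Let p be an odd prime, W a finite 2-group and E a non-cyclic abelian p-subgroup of Aut(W) such that, for every nontrivial e ∈ E, the fixed points of e in W contain at most one involution. Then E has order 9, W is extraspecial of order 2⁵, 2⁷ or 2⁹, and the common fixed points of E in W form exactly the centre Z(W). -/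
theorem result {W : Type*} [Group W] [Finite W] (hW : IsPGroup 2 W) {p : ℕ} [Fact p.Prime] (hp : p ≠ 2) (E : Subgroup (MulAut W)) (hE : IsPGroup p ↥E) (hab : IsMulCommutative ↥E) (hnc : ¬ IsCyclic ↥E) (hfix : ∀ e ∈ E, e ≠ 1 → ∀ x y : W, orderOf x = 2 → orderOf y = 2 → e x = x → e y = y → x = y) : Nat.card ↥E = 9 ∧ Cfsg.IsExtraspecial 2 W ∧ (Nat.card W = 2 ^ 5 ∨ Nat.card W = 2 ^ 7 ∨ Nat.card W = 2 ^ 9) ∧ {x : W | ∀ e ∈ E, e x = x} = (Subgroup.center W : Set W) := by
  haveI := hab
  exact core hp hW E hE hnc hfix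

end Cfsg.Agent.S2934
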