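import Cfsg.Statements.S2939
import Cfsg.Agent.Lib.Components.SylowControl

set_option autoImplicit false
open Cfsg

namespace Cfsg.Agent.S2939

open Cfsg.Agent.Components.SylowControl Cfsg.Agent.LocalEvenB

theorem conjRight_subset {G : Type*} [Group G] {g : G} {A : Set G} {H : Subgroup G} :
    Cfsg.conjRight g A ⊆ (H : Set G) ↔ A ⊆ (Cm g H : Set G) := by
  constructor
  · intro h a ha
    exact mem_conjMap.mpr (h ⟨a, ha, rfl⟩)
  · rintro h _ ⟨a, ha, rfl⟩
    exact mem_conjMap.mp (h ha)

theorem ofFn_take_succ {α : Type*} {n : ℕ} (y : Fin n → α) (i : Fin n) :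
    (List.ofFn y).take (i.val + 1) = (List.ofFn y).take i.val ++ [y i] := by
  rw [List.take_succ]
  simp [List.getElem?_ofFn]

/-- Let p be a prime dividing the order of the finite group G and 𝓕 a family of subgroups of G closed under conjugation, with conjugates taken as X^g = g⁻¹Xg. Then 𝓕 controls Sylow p-intersections in G (any two distinct Sylow p-subgroups S and T with S ∩ T ≠ 1 are joined by a chain S = S₀, S₁, …, Sₙ = T of Sylow p-subgroups where, for each i, some member Xᵢ of 𝓕 meets both S_{i-1} and Sᵢ in Sylow p-subgroups of Xᵢ, satisfies S ∩ T ≤ Sᵢ ∩ Xᵢ, and contains an element xᵢ with Sᵢ^{xᵢ} = S_{i-1}) if and only if 𝓕 strongly controls p-fusion in G (whenever A is a subset of a Sylow p-subgroup S, A contains an element other than 1, and A^g ⊆ S, the element g factorises as g = y₁⋯yₙy with y ∈ N_G(S) and each yᵢ in a member Yᵢ of 𝓕 that meets S in a Sylow p-subgroup of Yᵢ, with A^{y₁⋯yᵢ} ⊆ S ∩ Yᵢ for each i). -/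
theorem result {G : Type*} [Group G] [Finite G] {p : ℕ} [Fact p.Prime] (hdiv : p ∣ Nat.card G) (𝓕 : Set (Subgroup G)) (h𝓕 : Cfsg.IsNormalSet 𝓕) : Cfsg.ControlsSylowIntersections p 𝓕 ↔ Cfsg.FamilyStronglyControlsFusion p 𝓕 := by
  have hinv : ∀ g : G, ∀ X ∈ 𝓕, Cm g X ∈ 𝓕 := fun g X hX => by
    have := h𝓕 X hX g⁻¹
    rwa [Cfsg.subgroupConjRight, inv_inv] at this
  rw [controls_iff]
  constructor
  · intro h S A g hA ⟨a, haA, ha1⟩ hgA
    replace hgA := conjRight_subset.mp (show Cfsg.conjRight g A ⊆ ((S : Subgroup G) : Set G) from hgA)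
    have hgA' : A ⊆ ((g • S : Sylow p G) : Subgroup G) := by rw [coe_smul]; exact hgA
    have hD : (S : Subgroup G) ⊓ ((g • S : Sylow p G) : Subgroup G) ≠ ⊥ := fun e =>
      ha1 (Subgroup.mem_bot.mp (e ▸ ⟨hA haA, hgA' haA⟩))
    have key : ∀ T : Sylow p G, Conn 𝓕 ((S : Subgroup G) ⊓ ((g • S : Sylow p G) : Subgroup G)) S T →
        ∃ (n : ℕ) (Y : Fin n → Subgroup G) (y : Fin n → G), (List.ofFn y).prod • S = T ∧
          (∀ i : Fin n, Y i ∈ Cfsg.sylowMembers p 𝓕 (S : Subgroup G) ∧ y i ∈ Y i) ∧
          ∀ i : Fin n, Cfsg.conjRight (((List.ofFn y).take (i.val + 1)).prod) A ⊆ (S : Set G) ∩ (Y i : Set G) := by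
      intro T hT
      induction hT with
      | refl => exact ⟨0, Fin.elim0, Fin.elim0, by simp, fun i => i.elim0, fun i => i.elim0⟩
      | @tail b T _ hl ih =>
        obtain ⟨n, Y, y, hb, hY, hA'⟩ := ih
        obtain ⟨X, x, h1, h2, h3, h4, h5⟩ := hl
        set w := (List.ofFn y).prod with hw
        have hS : (S : Sylow p G) = w⁻¹ • b := by rw [← hb, inv_smul_smul]
        have hz : w⁻¹ * x * w ∈ Cm w⁻¹ X := by
          have := conjMap_apply_mem (g := w⁻¹) h3
          rwa [inv_inv] at this
        refine ⟨n + 1, Fin.snoc Y (Cm w⁻¹ X), Fin.snoc y (w⁻¹ * x * w), ?_, fun i => ?_, fun i => ?_⟩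
        · rw [List.ofFn_succ', List.concat_eq_append, List.prod_append]
          simp only [Fin.snoc_castSucc, Fin.snoc_last, List.prod_cons, List.prod_nil, mul_one]
          rw [← hw, show w * (w⁻¹ * x * w) = x * w by group, mul_smul, hb, h4]
        · induction i using Fin.lastCases with
          | last =>
            simp only [Fin.snoc_last]
            exact ⟨by rw [hS]; exact member_conj _ (hinv _) h1, hz⟩
          | cast j =>
            simp only [Fin.snoc_castSucc]
            exact hY j
        · induction i using Fin.lastCases with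
          | last =>
            rw [ofFn_take_succ, List.prod_append]
            have e : (List.ofFn (Fin.snoc y (w⁻¹ * x * w) : Fin (n + 1) → G)).take (Fin.last n).val = List.ofFn y := by
              rw [List.ofFn_succ', List.concat_eq_append, List.take_left' (by simp)]
              simp only [Fin.snoc_castSucc]
            rw [e, ← hw]
            simp only [Fin.snoc_last, List.prod_cons, List.prod_nil, mul_one]
            have hxw : A ⊆ (T : Set G) ∩ (X : Set G) := fun u hu => h5 ⟨hA hu, hgA' hu⟩
            rintro _ ⟨u, hu, rfl⟩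
            obtain ⟨huT, huX⟩ := hxw hu
            rw [show w * (w⁻¹ * x * w) = x * w by group]
            refine ⟨?_, ?_⟩
            · refine (mem_conjMap (g := x * w)).mp ?_
              show u ∈ Cm (x * w) (S : Subgroup G)
              rw [← coe_smul, mul_smul, hb, h4]
              exact huT
            · show _ ∈ Cm w⁻¹ X
              refine mem_conjMap.mpr ?_
              rw [show w⁻¹⁻¹ * ((x * w)⁻¹ * u * (x * w)) * w⁻¹ = x⁻¹ * u * x by group]
              exact X.mul_mem (X.mul_mem (X.inv_mem h3) huX) h3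
          | cast j =>
            simp only [Fin.snoc_castSucc]
            have e : (List.ofFn (Fin.snoc y (w⁻¹ * x * w) : Fin (n + 1) → G)).take ((Fin.castSucc j).val + 1) =
                (List.ofFn y).take (j.val + 1) := by
              rw [List.ofFn_succ', List.concat_eq_append, List.take_append_of_le_length (by simp)]
              simp only [Fin.snoc_castSucc, Fin.val_castSucc]
            rw [e]
            exact hA' j
    by_cases hT : S = g • S
    · exact ⟨0, Fin.elim0, Fin.elim0, g, Sylow.smul_eq_iff_mem_normalizer.mp hT.symm, fun i => i.elim0,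
        by simp, fun i => i.elim0⟩
    · obtain ⟨n, Y, y, hy, hY, hA'⟩ := key _ (h S (g • S) hT hD)
      refine ⟨n, Y, y, (List.ofFn y).prod⁻¹ * g, Sylow.smul_eq_iff_mem_normalizer.mp ?_, hY, by group, hA'⟩
      rw [mul_smul, ← hy, inv_smul_smul]
  · intro h S T hne hD
    obtain ⟨g, hg⟩ := MulAction.exists_smul_eq G S T
    obtain ⟨a, ha, ha1⟩ := (Subgroup.bot_or_exists_ne_one _).resolve_left hD
    obtain ⟨n, Y, y, y0, hy0, hY, hprod, hA⟩ := h S (((S : Subgroup G) ⊓ (T : Subgroup G) : Subgroup G) : Set G) g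
      (fun u hu => hu.1) ⟨a, ha, ha1⟩ (conjRight_subset.mpr fun u hu => by
        rw [← coe_smul, hg]; exact hu.2)
    have hT : (List.ofFn y).prod • S = T := by
      rw [← hg, hprod, mul_smul _ y0 S, Sylow.smul_eq_iff_mem_normalizer.mpr hy0]
    have step : ∀ i : ℕ, i ≤ n → Conn 𝓕 ((S : Subgroup G) ⊓ (T : Subgroup G)) S
        (((List.ofFn y).take i).prod • S) := by
      intro i
      induction i with
      | zero => intro _; simp only [List.take_zero, List.prod_nil, one_smul]; exact Relation.ReflTransGen.refl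
      | succ i ih =>
        intro hi
        set w := ((List.ofFn y).take i).prod with hw
        have e : ((List.ofFn y).take (i + 1)).prod = w * y ⟨i, hi⟩ := by
          have := ofFn_take_succ y ⟨i, hi⟩
          simp only at this
          rw [this, List.prod_append]
          simp [hw]
        refine (ih (by omega)).tail ⟨Cm w (Y ⟨i, hi⟩), w * y ⟨i, hi⟩ * w⁻¹, member_conj w (hinv w) (hY _).1, ?_,
          conjMap_apply_mem (hY _).2, ?_, ?_⟩
        · rw [e]
          have hfix : Cm (y ⟨i, hi⟩) (Y ⟨i, hi⟩) = Y ⟨i, hi⟩ :=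
            conjMap_eq_of_mem_normalizer (Subgroup.le_normalizer (hY ⟨i, hi⟩).2)
          have := member_conj (w * y ⟨i, hi⟩) (hinv _) (hY ⟨i, hi⟩).1
          rwa [Cm, ← conjMap_conjMap, show (Y ⟨i, hi⟩).map (MulAut.conj (y ⟨i, hi⟩)).toMonoidHom = Y ⟨i, hi⟩ from hfix] at this
        · rw [e, mul_smul (w * y ⟨i, hi⟩) w⁻¹, inv_smul_smul]
        · intro u hu
          obtain ⟨hu1, hu2⟩ := hA ⟨i, hi⟩ ⟨u, hu, rfl⟩
          simp only [e] at hu1 hu2
          refine ⟨?_, mem_conjMap.mpr ?_⟩
          · show u ∈ ((((List.ofFn y).take (i + 1)).prod • S : Sylow p G) : Subgroup G)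
            rw [coe_smul, e]
            exact mem_conjMap.mpr hu1
          · have hyY : y ⟨i, hi⟩ ∈ Y ⟨i, hi⟩ := (hY _).2
            have := (Y ⟨i, hi⟩).mul_mem ((Y ⟨i, hi⟩).mul_mem hyY hu2) ((Y ⟨i, hi⟩).inv_mem hyY)
            group at this ⊢
            exact this
    have := step n le_rfl
    rwa [List.take_of_length_le (by simp), hT] at this

end Cfsg.Agent.S2939
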