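import Cfsg.Statements.S2940
import Cfsg.Agent.Lib.LocalEvenB.Basic

set_option autoImplicit false
open Cfsg

namespace Cfsg.Agent.S2940

open Cfsg.Agent.LocalEvenB

/-- Let S be a Sylow p-subgroup of the finite group G and G₁, G₂ subgroups containing S with G = G₁G₂. Then for every g ∈ G there is a Sylow p-subgroup U of G with S ∩ S^g ≤ U ≤ G₁ ∩ G₂^g (conjugates taken as X^g = g⁻¹Xg). -/
theorem result {G : Type*} [Group G] [Finite G] {p : ℕ} [Fact p.Prime] (S : Sylow p G) (G₁ G₂ : Subgroup G) (h1 : (S : Subgroup G) ≤ G₁) (h2 : (S : Subgroup G) ≤ G₂) (hfact : ∀ g : G, ∃ g₁ ∈ G₁, ∃ g₂ ∈ G₂, g = g₁ * g₂) (g : G) : ∃ U : Sylow p G, (S : Subgroup G) ⊓ Cfsg.subgroupConjRight g (S : Subgroup G) ≤ (U : Subgroup G) ∧ (U : Subgroup G) ≤ G₁ ⊓ Cfsg.subgroupConjRight g G₂ := by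
  obtain ⟨a, ha, b, hb, hab⟩ := hfact g⁻¹
  -- `g = b⁻¹ a⁻¹`, so `G₂^g = G₂^(a⁻¹)`
  have hS2 : (S : Subgroup G).map (MulAut.conj a).toMonoidHom ≤ G₁ := by
    intro y hy
    obtain ⟨s, hs, rfl⟩ := hy
    simpa [MulAut.conj_apply] using G₁.mul_mem (G₁.mul_mem ha (h1 hs)) (G₁.inv_mem ha)
  have hG2 : G₂.map (MulAut.conj a).toMonoidHom ≤ Cfsg.subgroupConjRight g G₂ := by
    intro y hy
    refine mem_conjMap.2 ?_
    have h0 := G₂.mul_mem (G₂.mul_mem (G₂.inv_mem hb) (mem_conjMap.1 hy)) hb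
    rw [hab]
    simpa [mul_assoc] using h0
  set W : Subgroup G := G₁ ⊓ Cfsg.subgroupConjRight g G₂ with hW
  have hle : ((a • S : Sylow p G) : Subgroup G) ≤ W := by
    intro y hy
    rw [Sylow.coe_subgroup_smul] at hy
    obtain ⟨s, hs, rfl⟩ := hy
    have h3 : a * s * a⁻¹ ∈ W :=
      ⟨hS2 (conjMap_apply_mem hs), hG2 (conjMap_apply_mem (h2 hs))⟩
    simpa using h3
  have hD : (S : Subgroup G) ⊓ Cfsg.subgroupConjRight g (S : Subgroup G) ≤ W :=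
    inf_le_inf h1 (Subgroup.map_mono h2)
  have hDp : IsPGroup p ↥(((S : Subgroup G) ⊓ Cfsg.subgroupConjRight g (S : Subgroup G)).subgroupOf W) :=
    (S.isPGroup'.to_le inf_le_left).comap_subtype
  obtain ⟨Q, hQ⟩ := hDp.exists_le_sylow
  obtain ⟨c, hc⟩ := MulAction.exists_smul_eq ↥W ((a • S).subtype hle) Q
  refine ⟨(c : G) • (a • S), ?_, ?_⟩
  · intro y hy
    have h3 := hQ (show (⟨y, hD hy⟩ : ↥W) ∈ _ from Subgroup.mem_subgroupOf.2 hy)
    rw [← hc, Sylow.coe_subgroup_smul] at h3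
    obtain ⟨z, hz, hze⟩ := h3
    rw [Sylow.coe_subgroup_smul]
    have h4 : (z : G) ∈ ((a • S : Sylow p G) : Subgroup G) := Subgroup.mem_subgroupOf.1 hz
    refine ⟨z, h4, ?_⟩
    have := congrArg Subtype.val hze
    simpa using this
  · intro y hy
    rw [Sylow.coe_subgroup_smul] at hy
    obtain ⟨z, hz, rfl⟩ := hy
    simpa using W.mul_mem (W.mul_mem c.2 (hle hz)) (W.inv_mem c.2)

end Cfsg.Agent.S2940
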