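import Cfsg.Statements.S2951
import Cfsg.Agent.Lib.LocalEvenB.ZNMain

set_option autoImplicit false
open Cfsg

namespace Cfsg.Agent.S2951

/-- Let G be a finite group of characteristic 2 type in which every 2-local subgroup is solvable and the centralizer of Ω₁(Z(S)) lies in N_G(S) for every Sylow 2-subgroup S; suppose O₂(G) = 1, fix a Sylow 2-subgroup S and a 2-local subgroup M containing N_G(J(S)) (J the Thompson subgroup generated by the elementary abelian 2-subgroups of largest order), and put Z = Ω₁(Z(S)). Let T ≤ S be maximal (for the order of a largest elementary abelian subgroup, then the order of J(T), then the order of T) among the nontrivial 2-subgroups of M lying in a 2-local subgroup not inside M, K a J(T)-component not contained in M with J(T) the Thompson subgroup of every Sylow 2-subgroup of N_G(W_K) containing J(T), and O₂(⟨K, T⟩) ≠ 1, L a maximal 2-local subgroup containing ⟨K, J(T)⟩ (there is only one), and Z₀ = Ω₁(Z(J(T))).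 Then Z₀ ∩ W_K ≠ 1, and one of: Z = Z₀ has order 2; Z = Z₀ has order 4 and T = S; Ω₁(Z(T)) = Z₀ has order 4 and C_L(Z₀) has index 2 in N_G(Z₀). -/
theorem result {G : Type*} [Group G] [Finite G] (hL : Cfsg.IsCharacteristicTwoType G) (hN : ∀ N : Subgroup G, Cfsg.IsTwoLocal N → Group.IsSolvable ↥N)
    (hZ : ∀ S : Sylow 2 G, Subgroup.centralizer (Cfsg.omegaCenterOf (S : Subgroup G) : Set G) ≤ Subgroup.normalizer ((S : Subgroup G) : Set G)) (hO : Cfsg.pCore 2 G = ⊥) (S : Sylow 2 G) (M : Subgroup G) (hM : Cfsg.IsTwoLocal M)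
    (hMJ : Subgroup.normalizer (Cfsg.thompsonSubgroupOf 2 (S : Subgroup G) : Set G) ≤ M) (T : Subgroup G) (hT : T ∈ Cfsg.maxStraddlingTwoSubgroups M)
    (hTS : T ≤ (S : Subgroup G)) (K : Subgroup G) (hK : K ∈ Cfsg.jComponentsOutside M T)
    (L : Subgroup G) (hLmax : Cfsg.IsMaximalTwoLocal L) (hKL : K ⊔ Cfsg.thompsonSubgroupOf 2 T ≤ L)
    (Z Z₀ : Subgroup G) (hZdef : Z = Cfsg.omegaCenterOf (S : Subgroup G)) (hZ₀ : Z₀ = Cfsg.omegaCenterOf (Cfsg.thompsonSubgroupOf 2 T)) :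
    Z₀ ⊓ Cfsg.wOf K ≠ ⊥ ∧
      ((Z = Z₀ ∧ Nat.card ↥Z₀ = 2) ∨ (Z = Z₀ ∧ Nat.card ↥Z₀ = 4 ∧ T = (S : Subgroup G)) ∨
        (Cfsg.omegaCenterOf T = Z₀ ∧ Nat.card ↥Z₀ = 4 ∧
          (L ⊓ Subgroup.centralizer (Z₀ : Set G)).relIndex (Subgroup.normalizer (Z₀ : Set G)) = 2)) := by
      have hG : LocalEvenB.ZN.ZNHyp G := ⟨hL, hN, hZ⟩
      have hM' : LocalEvenB.ZN.MSetup S M := ⟨hO, hM, hMJ⟩
      subst hZdef hZ₀
      have h := LocalEvenB.ZN.good_of_outside hG hM' hT hK
      obtain ⟨w, hw1, hwW, hwZ, -⟩ := LocalEvenB.ZN.exists_wgen h.hT h.hK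
      refine ⟨fun hb => hw1 (Subgroup.mem_bot.1 (hb ▸ ⟨hwZ, hwW⟩)), ?_⟩
      have hLeq : L = LocalEvenB.ZN.lmax T K :=
        LocalEvenB.ZN.eq_unique_maximal hG hM' hT hK hLmax hKL
      have hc := LocalEvenB.ZN.card_zJ_eq h.hT h.hK
      have hsm := h.small
      have hpos : 0 < Nat.card ↥(LocalEvenB.ZN.zone T K) := Nat.card_pos
      by_cases hne : T = (S : Subgroup G)
      · have he : Cfsg.omegaCenterOf (S : Subgroup G) =
            Cfsg.omegaCenterOf (Cfsg.thompsonSubgroupOf 2 T) := by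
          rw [← hne]; exact h.omega_eq hG
        obtain h2 | h4 : Nat.card ↥(LocalEvenB.ZN.zJ T) = 2 ∨ Nat.card ↥(LocalEvenB.ZN.zJ T) = 4 := by
          omega
        · exact Or.inl ⟨he, h2⟩
        · exact Or.inr (Or.inl ⟨he, h4, hne⟩)
      · obtain ⟨s, d⟩ := LocalEvenB.ZN.exists_swapData hM' hT hTS hK hne
        obtain h2 | h4 : Nat.card ↥(LocalEvenB.ZN.zJ T) = 2 ∨ Nat.card ↥(LocalEvenB.ZN.zJ T) = 4 := by
          omega
        · refine Or.inl ⟨Subgroup.eq_of_le_of_card_ge (d.omega_le hG) ?_, h2⟩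
          obtain ⟨z, hz, hz1⟩ := LocalEvenB.ZN.exists_omegaCenter_ne_one S.2
            (fun hb => d.hsT (by
              rw [show s = 1 from Subgroup.mem_bot.1 (hb ▸ d.hs)]; exact one_mem T))
          refine le_of_eq_of_le h2 ?_
          refine le_trans (le_of_eq ?_) (Subgroup.card_le_of_le (Subgroup.zpowers_le.2 hz))
          rw [Nat.card_zpowers, orderOf_eq_prime (p := 2) (by
            rw [sq]; exact (LocalEvenB.ZN.mem_omegaCenterOf.1 hz).2.2) hz1]
        · refine Or.inr (Or.inr ⟨h.omega_eq hG, h4, ?_⟩)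
          rw [hLeq]
          exact d.relIndex_two hG h4

end Cfsg.Agent.S2951
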