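import Cfsg.Statements.S2954
import Cfsg.Agent.Lib.LocalEvenB.ZNMain

set_option autoImplicit false
open Cfsg

namespace Cfsg.Agent.S2954

/-- Let G be a finite group of characteristic 2 type in which every 2-local subgroup is solvable and the centralizer of Ω₁(Z(S)) lies in N_G(S) for every Sylow 2-subgroup S; suppose O₂(G) = 1, fix a Sylow 2-subgroup S and a 2-local subgroup M containing N_G(J(S)) (J the Thompson subgroup generated by the elementary abelian 2-subgroups of largest order). If T is maximal (for the order of a largest elementary abelian subgroup, then the order of J(T), then the order of T) among the nontrivial 2-subgroups of M lying in a 2-local subgroup not inside M, then there are two distinct maximal 2-local subgroups P₁, P₂ of G, each having T as a Sylow 2-subgroup, that are both isomorphic to the symmetric group on four letters or both isomorphic to its direct product with a group of order 2. -/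
theorem result {G : Type*} [Group G] [Finite G] (hL : Cfsg.IsCharacteristicTwoType G) (hN : ∀ N : Subgroup G, Cfsg.IsTwoLocal N → Group.IsSolvable ↥N)
    (hZ : ∀ S : Sylow 2 G, Subgroup.centralizer (Cfsg.omegaCenterOf (S : Subgroup G) : Set G) ≤ Subgroup.normalizer ((S : Subgroup G) : Set G)) (hO : Cfsg.pCore 2 G = ⊥) (S : Sylow 2 G) (M : Subgroup G) (hM : Cfsg.IsTwoLocal M)
    (hMJ : Subgroup.normalizer (Cfsg.thompsonSubgroupOf 2 (S : Subgroup G) : Set G) ≤ M) (T : Subgroup G) (hT : T ∈ Cfsg.maxStraddlingTwoSubgroups M) :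
    ∃ P₁ P₂ : Subgroup G, P₁ ≠ P₂ ∧ Cfsg.IsMaximalTwoLocal P₁ ∧ Cfsg.IsMaximalTwoLocal P₂ ∧
      Cfsg.IsSylowTwoIn T P₁ ∧ Cfsg.IsSylowTwoIn T P₂ ∧
      ((Nonempty (↥P₁ ≃* Equiv.Perm (Fin 4)) ∧ Nonempty (↥P₂ ≃* Equiv.Perm (Fin 4))) ∨
        (Nonempty (↥P₁ ≃* Equiv.Perm (Fin 4) × Multiplicative (ZMod 2)) ∧
          Nonempty (↥P₂ ≃* Equiv.Perm (Fin 4) × Multiplicative (ZMod 2)))) := by
      have hG : LocalEvenB.ZN.ZNHyp G := ⟨hL, hN, hZ⟩
      have hM' : LocalEvenB.ZN.MSetup S M := ⟨hO, hM, hMJ⟩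
      obtain ⟨K, K', h, h', hne, hpt⟩ := LocalEvenB.ZN.exists_partner hG hM' hT
      obtain ⟨S', -, hTS'⟩ := LocalEvenB.ZN.exists_sylow_over hM' hT
      have hp := LocalEvenB.ZN.pair_of_good hG (h.toCent hG) (h'.toCent hG) hne
      obtain ⟨h1, h2⟩ := hp.same_points hpt
      have e1 : LocalEvenB.ZN.lmax T K = K ⊔ T := h.L_eq hG S' hTS' (hp.core_sq h1 h2)
        (LocalEvenB.ZN.card_core_le_eight hp hpt)
      have e2 : LocalEvenB.ZN.lmax T K' = K' ⊔ T := h'.L_eq hG S' hTS' (hp.swap.core_sq h2 h1)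
        (LocalEvenB.ZN.card_core_le_eight hp.swap hpt.symm)
      refine ⟨K ⊔ T, K' ⊔ T, fun e => hne (e1.trans (e.trans e2.symm)),
        e1 ▸ h.adm.isMaximal hG h.hT h.hK, e2 ▸ h'.adm.isMaximal hG h'.hT h'.hK,
        e1 ▸ h.hLT.1, e2 ▸ h'.hLT.1, hp.sym_four hpt⟩

end Cfsg.Agent.S2954
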