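import Cfsg.Statements.S2955
import Cfsg.Agent.Lib.LocalEvenB.Basic

set_option autoImplicit false
open Cfsg

namespace Cfsg.Agent.S2955

open Cfsg.Agent.LocalEvenB

private theorem member_conj {G : Type*} [Group G] [Finite G] {p : ℕ} [Fact p.Prime] {𝓕 : Set (Subgroup G)}
    (h𝓕 : Cfsg.IsNormalSet 𝓕) {A X : Subgroup G} (hA : IsPGroup p A) (hX : X ∈ Cfsg.sylowMembers p 𝓕 A) (k : G) :
    Cfsg.subgroupConjRight k X ∈ Cfsg.sylowMembers p 𝓕 (Cfsg.subgroupConjRight k A) := by
  obtain ⟨hXF, P, hP⟩ := hX
  refine ⟨h𝓕 X hXF k, ?_⟩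
  set f := (MulAut.conj k⁻¹).toMonoidHom with hf
  have hinj : Function.Injective f := (MulAut.conj k⁻¹).injective
  have heq : Cfsg.subgroupConjRight k A ⊓ Cfsg.subgroupConjRight k X = (A ⊓ X).map f :=
    (Subgroup.map_inf A X f hinj).symm
  have hidx : ¬ p ∣ ((Cfsg.subgroupConjRight k A ⊓ Cfsg.subgroupConjRight k X).subgroupOf
      (Cfsg.subgroupConjRight k X)).index := by
    rw [← Subgroup.relIndex, heq, Cfsg.subgroupConjRight, Subgroup.relIndex_map_map_of_injective _ _ hinj,
      ← hP, Subgroup.relIndex, Subgroup.subgroupOf,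
      Subgroup.comap_map_eq_self_of_injective X.subtype_injective]
    exact P.not_dvd_index
  have hpg : IsPGroup p ↥((Cfsg.subgroupConjRight k A ⊓ Cfsg.subgroupConjRight k X).subgroupOf
      (Cfsg.subgroupConjRight k X)) :=
    ((hA.map f).to_le inf_le_left).comap_subtype
  exact ⟨hpg.toSylow hidx, Subgroup.map_subgroupOf_eq_of_le inf_le_right⟩

/-- Let p be a prime dividing the order of the finite group G and 𝓕 a conjugation-closed family of subgroups that controls Sylow p-intersections in G. Suppose the Sylow p-subgroups of G are chain-connected: any two of them are joined by a chain of Sylow p-subgroups, consecutive ones distinct with nontrivial intersection, all containing the intersection of the two ends (equivalently, the graph on the Sylow p-subgroups whose edges are the distinct pairs meeting nontrivially is connected). Then for every Sylow p-subgroup S, G is generated by N_G(S) together with the members of 𝓕 that meet S in a Sylow p-subgroup of themselves. -/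
theorem result {G : Type*} [Group G] [Finite G] (p : ℕ) [Fact p.Prime] (hdiv : p ∣ Nat.card G)
    (𝓕 : Set (Subgroup G)) (h𝓕 : Cfsg.IsNormalSet 𝓕) (hc : Cfsg.ControlsSylowIntersections p 𝓕)
    (hconn : Cfsg.IsSylowChainConnected p G) (S : Sylow p G) :
    (⨆ X ∈ Cfsg.sylowMembers p 𝓕 (S : Subgroup G), X) ⊔ Subgroup.normalizer ((S : Subgroup G) : Set G) = ⊤ := by
  classical
  set H := (⨆ X ∈ Cfsg.sylowMembers p 𝓕 (S : Subgroup G), X) ⊔ Subgroup.normalizer ((S : Subgroup G) : Set G)
    with hH
  have hcoe : ∀ (g : G) (A : Sylow p G), ((g • A : Sylow p G) : Subgroup G) =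
      (A : Subgroup G).map (MulAut.conj g).toMonoidHom := fun g A => Sylow.coe_subgroup_smul
  have hright : ∀ (g : G) (A : Sylow p G), Cfsg.subgroupConjRight g (A : Subgroup G) =
      ((g⁻¹ • A : Sylow p G) : Subgroup G) := fun g A => (hcoe g⁻¹ A).symm
  have hall : ∀ T : Sylow p G, ∃ h ∈ H, h • S = T := by
    intro T
    obtain ⟨n, c, h0, hl, -, hs⟩ := hconn S T
    suffices ∀ i : Fin (n + 1), ∃ h ∈ H, h • S = c i by rw [← hl]; exact this _
    intro i
    induction i using Fin.induction with
    | zero => exact ⟨1, H.one_mem, by rw [one_smul, h0]⟩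
    | succ j ih =>
      obtain ⟨h, hh, hhS⟩ := ih
      set T' := h⁻¹ • c j.succ with hT'
      have hST : (S : Subgroup G) ⊓ (T' : Subgroup G) ≠ ⊥ := by
        intro he
        refine (hs j).2 ?_
        rw [← hhS, hcoe, show (c j.succ : Subgroup G) = (T' : Subgroup G).map (MulAut.conj h).toMonoidHom by
          rw [← hcoe, hT', smul_inv_smul], ← Subgroup.map_inf _ _ _ (MulAut.conj h).injective, he, Subgroup.map_bot]
      by_cases hST' : S = T'
      · exact ⟨h, hh, by rw [hST', hT', smul_inv_smul]⟩
      obtain ⟨m, d, X, x, hd0, hdl, hd⟩ := hc S T' hST' hST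
      have : ∀ i : Fin (m + 1), ∃ k ∈ H, k • S = d i := by
        intro i
        induction i using Fin.induction with
        | zero => exact ⟨1, H.one_mem, by rw [one_smul, hd0]⟩
        | succ a iha =>
          obtain ⟨k, hk, hkS⟩ := iha
          obtain ⟨hX1, -, hx, hconj, -⟩ := hd a
          have hX' := member_conj h𝓕 (d a.castSucc).isPGroup' hX1 k
          rw [hright, ← hkS, inv_smul_smul] at hX'
          have hxH : x a ∈ H := by
            have h1 : k⁻¹ * x a * k ∈ H := Subgroup.mem_sup_left
              (Subgroup.mem_iSup_of_mem _ (Subgroup.mem_iSup_of_mem hX'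
                ⟨x a, hx, by simp [MulAut.conj_apply]⟩))
            have h2 := H.mul_mem (H.mul_mem hk h1) (H.inv_mem hk)
            rwa [show k * (k⁻¹ * x a * k) * k⁻¹ = x a by group] at h2
          refine ⟨x a * k, H.mul_mem hxH hk, ?_⟩
          rw [hright] at hconj
          rw [mul_smul, hkS, ← Sylow.ext hconj, smul_inv_smul]
      obtain ⟨k, hk, hkS⟩ := this (Fin.last m)
      exact ⟨h * k, H.mul_mem hh hk, by rw [mul_smul, hkS, hdl, hT', smul_inv_smul]⟩
  refine (Subgroup.eq_top_iff' H).2 fun g => ?_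
  obtain ⟨h, hh, hhS⟩ := hall (g • S)
  have h1 : (h⁻¹ * g) • S = S := by rw [mul_smul, ← hhS, inv_smul_smul]
  have h2 : h⁻¹ * g ∈ H := Subgroup.mem_sup_right (Sylow.smul_eq_iff_mem_normalizer.1 h1)
  simpa using H.mul_mem hh h2

end Cfsg.Agent.S2955
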