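import Cfsg.Statements.S2956
import Cfsg.Agent.Lib.Components.SylowControl

set_option autoImplicit false
open Cfsg

namespace Cfsg.Agent.S2956

open Cfsg.Agent.Components.SylowControl Cfsg.Agent.LocalEvenB

theorem exists_maxLocal {G : Type*} [Group G] [Finite G] {p : ℕ} {N : Subgroup G} (hN : Cfsg.IsPLocal p N) :
    ∃ M, N ≤ M ∧ Cfsg.IsMaximalPLocal p M := by
  obtain ⟨M, hM⟩ := Set.Finite.exists_maximal (Set.toFinite {M : Subgroup G | Cfsg.IsPLocal p M ∧ N ≤ M})
    ⟨N, hN, le_rfl⟩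
  exact ⟨M, hM.prop.2, hM.prop.1, fun N' h1 h2 => le_antisymm (hM.le_of_ge ⟨h1, hM.prop.2.trans h2⟩ h2) h2⟩

theorem exists_lt_normalizer {G : Type*} [Group G] [Finite G] {p : ℕ} [Fact p.Prime] {D S : Subgroup G}
    (hS : IsPGroup p ↥S) (h : D < S) : D < S ⊓ Subgroup.normalizer (D : Set G) := by
  refine lt_of_le_not_ge (le_inf h.le Subgroup.le_normalizer) fun hle => ?_
  obtain ⟨x, hx, hxD, hxn⟩ := exists_mem_normalizer_not_mem hS h.le h.not_ge
  exact hxD (hle ⟨hx, hxn⟩)

section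
variable {G : Type*} [Group G] [Finite G] {p : ℕ} [Fact p.Prime]

theorem exists_sylow_inside {M Q : Subgroup G} (hQ : IsPGroup p ↥Q) (hQM : Q ≤ M) :
    ∃ R : Sylow p ↥M, Q ≤ (R : Subgroup ↥M).map M.subtype := by
  obtain ⟨R, hR⟩ := (hQ.comap_of_injective M.subtype M.subtype_injective : IsPGroup p ↥(Q.comap M.subtype)).exists_le_sylow
  refine ⟨R, fun y hy => ⟨⟨y, hQM hy⟩, hR hy, rfl⟩⟩

theorem inf_eq_map {M : Subgroup G} (R : Sylow p ↥M) {S : Sylow p G}
    (h : (R : Subgroup ↥M).map M.subtype ≤ (S : Subgroup G)) :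
    (S : Subgroup G) ⊓ M = (R : Subgroup ↥M).map M.subtype := by
  refine le_antisymm ?_ (le_inf h (Subgroup.map_subtype_le _))
  have h1 : IsPGroup p ↥((S : Subgroup G).subgroupOf M) := S.isPGroup'.comap_of_injective M.subtype M.subtype_injective
  have h2 : (R : Subgroup ↥M) ≤ (S : Subgroup G).subgroupOf M := fun y hy => h ⟨y, hy, rfl⟩
  rw [← R.is_maximal' h1 h2, Subgroup.subgroupOf_map_subtype]

theorem member_M {M : Subgroup G} {𝓕 : Set (Subgroup G)} (hM : M ∈ 𝓕) (R : Sylow p ↥M) {S : Sylow p G}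
    (h : (R : Subgroup ↥M).map M.subtype ≤ (S : Subgroup G)) :
    M ∈ Cfsg.sylowMembers p 𝓕 (S : Subgroup G) :=
  ⟨hM, R, (inf_eq_map R h).symm⟩

variable (f : Subgroup G → Set (Subgroup G))

/-- One local stage. -/
theorem stage (hf : Cfsg.IsNormalizerFunctor p f) (hf1 : ∀ P : Subgroup G, IsPGroup p ↥P → P ≠ ⊥ → ∀ F ∈ f P, F ≠ ⊥)
    {D : Subgroup G} (hD : D ≠ ⊥) (𝓖 : Set (Subgroup G)) (h𝓖1 : Cfsg.functorFamily p f ⊤ ⊆ 𝓖)
    (h𝓖2 : ∀ M, Cfsg.IsMaximalPLocal p M → ¬ Cfsg.IsFunctorRegular p f M → M ∈ 𝓖)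
    (big : ∀ S T : Sylow p G, D < (S : Subgroup G) ⊓ (T : Subgroup G) → Conn 𝓖 D S T) :
    ∀ (n : ℕ) (N : Subgroup G), Cfsg.IsPLocal p N →
      (∃ Q : Subgroup G, IsPGroup p ↥Q ∧ Q ≤ N ∧ Nat.card G ≤ Nat.card Q + n) →
      ∀ S T : Sylow p G, D < (S : Subgroup G) ⊓ N → D < (T : Subgroup G) ⊓ N → Conn 𝓖 D S T := by
  intro n
  induction n using Nat.strong_induction_on with
  | _ n ih =>
  intro N hN ⟨Q, hQ, hQN, hQn⟩ S T hSN hTN
  obtain ⟨M, hNM, hM⟩ := exists_maxLocal hN
  obtain ⟨R1, hR1⟩ := exists_sylow_inside (M := M) (S.isPGroup'.to_le (inf_le_left : (S : Subgroup G) ⊓ N ≤ S))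
    (inf_le_right.trans hNM)
  obtain ⟨R2, hR2⟩ := exists_sylow_inside (M := M) (T.isPGroup'.to_le (inf_le_left : (T : Subgroup G) ⊓ N ≤ T))
    (inf_le_right.trans hNM)
  obtain ⟨S1, hS1⟩ := (R1.isPGroup'.map M.subtype).exists_le_sylow
  obtain ⟨T1, hT1⟩ := (R2.isPGroup'.map M.subtype).exists_le_sylow
  have c1 : Conn 𝓖 D S S1 := big S S1 (hSN.trans_le (le_inf inf_le_left (hR1.trans hS1)))
  have c2 : Conn 𝓖 D T1 T := big T1 T (hTN.trans_le (le_inf (hR2.trans hT1) inf_le_left))
  refine c1.trans (Relation.ReflTransGen.trans ?_ c2)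
  have hDR1 : D ≤ (R1 : Subgroup ↥M).map M.subtype := hSN.le.trans hR1
  have hDR2 : D ≤ (R2 : Subgroup ↥M).map M.subtype := hTN.le.trans hR2
  by_cases hreg : Cfsg.IsFunctorRegular p f M
  swap
  · obtain ⟨x, hx⟩ := MulAction.exists_smul_eq ↥M R1 R2
    have hRS : (R2 : Subgroup ↥M).map M.subtype ≤ (((x : G) • S1 : Sylow p G) : Subgroup G) := by
      rw [← hx, Components.SylowControl.coe_smul, Components.SylowControl.coe_smul, Cm, Cm, Subgroup.map_map]
      rw [show M.subtype.comp (MulAut.conj x).toMonoidHom = (MulAut.conj (x : G)).toMonoidHom.comp M.subtype from rfl,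
        ← Subgroup.map_map]
      exact Subgroup.map_mono hS1
    have hlink : Lk 𝓖 D S1 ((x : G) • S1) :=
      ⟨M, (x : G), member_M (h𝓖2 M hM hreg) R1 hS1, member_M (h𝓖2 M hM hreg) R2 hRS, x.2, rfl,
        le_inf (hDR2.trans hRS) (hDR2.trans (Subgroup.map_subtype_le _))⟩
    exact (Relation.ReflTransGen.single hlink).trans (big _ T1 (hTN.trans_le (le_inf (hR2.trans hRS) (hR2.trans hT1))))
  suffices ∀ R : Sylow p ↥M, Relation.ReflTransGen (StepM f M D) R1 R →
      ∀ U : Sylow p G, (R : Subgroup ↥M).map M.subtype ≤ (U : Subgroup G) → Conn 𝓖 D S1 U from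
    this R2 (regular_steps hf hreg hD hDR1 hDR2) T1 hT1
  have hlt : ∀ R : Sylow p ↥M, D ≤ (R : Subgroup ↥M).map M.subtype → D < (R : Subgroup ↥M).map M.subtype := by
    intro R hR
    refine lt_of_le_of_ne hR fun h => ?_
    have h1 := Subgroup.card_le_of_le hR1
    have h2 : Nat.card ↥((R : Subgroup ↥M).map M.subtype) = Nat.card ↥((R1 : Subgroup ↥M).map M.subtype) := by
      rw [Subgroup.card_map_of_injective M.subtype_injective, Subgroup.card_map_of_injective M.subtype_injective]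
      exact Nat.card_congr (Sylow.equiv R R1).toEquiv
    rw [← h] at h2
    exact hSN.ne (Subgroup.eq_of_le_of_card_ge hSN.le (by omega))
  intro R hR
  induction hR with
  | refl =>
    intro U hU
    exact big S1 U ((hlt R1 hDR1).trans_le (le_inf hS1 hU))
  | @tail R R' hprev hst ih' =>
    intro U hU
    have hDR : D ≤ (R : Subgroup ↥M).map M.subtype := by
      rcases Relation.ReflTransGen.cases_tail hprev with h | ⟨b, -, P, F, x, -, -, -, -, -, -, h⟩
      · rw [h]; exact hDR1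
      · exact h
    obtain ⟨P, F, x, hx, hF, hPN, hRN, hR'N, hxR, hDR'⟩ := hst
    obtain ⟨PG, hPG⟩ := (P.isPGroup'.map M.subtype).exists_le_sylow
    by_cases hfull : (PG : Subgroup G) ≤ (P : Subgroup ↥M).map M.subtype
    · have hcard : ∀ Q : Sylow p ↥M, ∀ V : Sylow p G, (Q : Subgroup ↥M).map M.subtype ≤ (V : Subgroup G) →
          (V : Subgroup G) = (Q : Subgroup ↥M).map M.subtype := by
        intro Q V hV
        refine (Subgroup.eq_of_le_of_card_ge hV ?_).symm
        rw [← Nat.card_congr (Sylow.equiv PG V).toEquiv, Subgroup.card_map_of_injective M.subtype_injective,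
          ← Nat.card_congr (Sylow.equiv P Q).toEquiv]
        exact (Subgroup.card_le_of_le hfull).trans (Subgroup.card_map_of_injective M.subtype_injective).le
      obtain ⟨V, hV⟩ := (R.isPGroup'.map M.subtype).exists_le_sylow
      rw [← hcard P PG hPG] at hF
      refine (ih' V hV).tail (Lk.mono h𝓖1 le_rfl (lk_of_step hF ?_ ?_ hx.2 ?_ ?_))
      · rw [hcard R V hV]; exact hRN
      · rw [hcard R' U hU]; exact hR'N
      · rw [hcard R V hV, hcard R' U hU]; exact hxR
      · rw [hcard R' U hU]; exact hDR'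
    · have hne : (P : Subgroup ↥M).map M.subtype ≠ ⊥ := fun h => by
        have h1 : Nat.card ↥((R : Subgroup ↥M).map M.subtype) = Nat.card ↥((P : Subgroup ↥M).map M.subtype) := by
          rw [Subgroup.card_map_of_injective M.subtype_injective, Subgroup.card_map_of_injective M.subtype_injective]
          exact Nat.card_congr (Sylow.equiv R P).toEquiv
        rw [h, Subgroup.card_bot] at h1
        exact hD (le_bot_iff.mp (Subgroup.card_eq_one.mp h1 ▸ hDR))
      obtain ⟨hFle, hFn⟩ := (hf _ (P.isPGroup'.map M.subtype)).1 F hF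
      have hFloc : Cfsg.IsPLocal p (Subgroup.normalizer (F : Set G)) :=
        ⟨F, (P.isPGroup'.map M.subtype).to_le hFle, hf1 _ (P.isPGroup'.map M.subtype) hne F hF, rfl⟩
      have hltP : (P : Subgroup ↥M).map M.subtype < (PG : Subgroup G) := lt_of_le_not_ge hPG hfull
      set Q' := (PG : Subgroup G) ⊓ Subgroup.normalizer ((P : Subgroup ↥M).map M.subtype : Set G) with hQ'
      have hlt' := exists_lt_normalizer PG.isPGroup' hltP
      have hcardlt : Nat.card Q < Nat.card Q' := by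
        obtain ⟨RQ, hRQ⟩ := exists_sylow_inside (M := M) hQ (hQN.trans hNM)
        have h1 := Subgroup.card_le_of_le hRQ
        rw [Subgroup.card_map_of_injective M.subtype_injective, ← Nat.card_congr (Sylow.equiv P RQ).toEquiv,
          ← Subgroup.card_map_of_injective M.subtype_injective] at h1
        refine h1.trans_lt (lt_of_le_of_ne (Subgroup.card_le_of_le hlt'.le) fun h => ?_)
        exact hlt'.ne (Subgroup.eq_of_le_of_card_ge hlt'.le h.ge)
      have hQ'G : Nat.card Q' ≤ Nat.card G := Nat.le_of_dvd Nat.card_pos (Subgroup.card_subgroup_dvd_card _)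
      obtain ⟨V, hV⟩ := (R.isPGroup'.map M.subtype).exists_le_sylow
      refine (ih' V hV).trans (ih (Nat.card G - Nat.card Q') (by omega) _ hFloc
        ⟨Q', PG.isPGroup'.to_le inf_le_left, inf_le_right.trans hFn, by omega⟩ V U ?_ ?_)
      · exact (hlt R hDR).trans_le (le_inf hV hRN)
      · exact (hlt R' hDR').trans_le (le_inf hU hR'N)

end

/-- Let p be a prime dividing the order of the finite group G, and f an assignment to every p-subgroup P of a set f(P) of subgroups of P, each normalized by N_G(P), compatible with conjugation, such that for P ≠ 1 the members of f(P) are nontrivial. Let 𝓕 be the family of the normalizers N_G(F) of the members F of f(S) over the Sylow p-subgroups S of G, and 𝓕' the family of the maximal p-local subgroups M of G that are singular for f (the corresponding family of normalizers inside M does not control Sylow p-intersections in M). Then 𝓕 ∪ 𝓕' controls Sylow p-intersections in G. -/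
theorem result {G : Type*} [Group G] [Finite G] (p : ℕ) [Fact p.Prime] (hdiv : p ∣ Nat.card G)
    (f : Subgroup G → Set (Subgroup G)) (hf : Cfsg.IsNormalizerFunctor p f)
    (hf1 : ∀ P : Subgroup G, IsPGroup p ↥P → P ≠ ⊥ → ∀ F ∈ f P, F ≠ ⊥)
    (𝓕 𝓕' : Set (Subgroup G)) (h𝓕 : 𝓕 = Cfsg.functorFamily p f ⊤)
    (h𝓕' : 𝓕' = {M | Cfsg.IsMaximalPLocal p M ∧ ¬ Cfsg.IsFunctorRegular p f M}) :
    Cfsg.ControlsSylowIntersections p (𝓕 ∪ 𝓕') := by
  subst h𝓕 h𝓕'
  set 𝓖 := Cfsg.functorFamily p f ⊤ ∪ {M | Cfsg.IsMaximalPLocal p M ∧ ¬ Cfsg.IsFunctorRegular p f M}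
  suffices ∀ (n : ℕ) (S T : Sylow p G), (S : Subgroup G) ⊓ (T : Subgroup G) ≠ ⊥ →
      Nat.card G ≤ Nat.card ↥((S : Subgroup G) ⊓ (T : Subgroup G)) + n →
      Conn 𝓖 ((S : Subgroup G) ⊓ (T : Subgroup G)) S T by
    exact controls_iff.mpr fun S T _ hD => this (Nat.card G) S T hD (by omega)
  intro n
  induction n using Nat.strong_induction_on with
  | _ n ih =>
  intro S T hD hn
  rcases eq_or_ne S T with rfl | hne
  · exact Relation.ReflTransGen.refl
  set D := (S : Subgroup G) ⊓ (T : Subgroup G) with hDdef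
  have hDS : D < (S : Subgroup G) := lt_of_le_not_ge inf_le_left fun h => hne (Sylow.ext
    (Subgroup.eq_of_le_of_card_ge (h.trans inf_le_right) (Nat.card_congr (Sylow.equiv T S).toEquiv).le))
  have hDT : D < (T : Subgroup G) := lt_of_le_not_ge inf_le_right fun h => hne (Sylow.ext
    (Subgroup.eq_of_le_of_card_ge (h.trans inf_le_left) (Nat.card_congr (Sylow.equiv S T).toEquiv).le).symm)
  have hloc : Cfsg.IsPLocal p (Subgroup.normalizer (D : Set G)) := ⟨D, S.isPGroup'.to_le inf_le_left, hD, rfl⟩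
  refine stage f hf hf1 hD 𝓖 Set.subset_union_left (fun M h1 h2 => Or.inr ⟨h1, h2⟩) (fun A B hAB => ?_)
    (Nat.card G) _ hloc ⟨D, S.isPGroup'.to_le inf_le_left, Subgroup.le_normalizer, by omega⟩ S T
    (exists_lt_normalizer S.isPGroup' hDS) (exists_lt_normalizer T.isPGroup' hDT)
  have h1 : Nat.card D < Nat.card ↥((A : Subgroup G) ⊓ (B : Subgroup G)) :=
    lt_of_le_of_ne (Subgroup.card_le_of_le hAB.le) fun h => hAB.ne (Subgroup.eq_of_le_of_card_ge hAB.le h.ge)
  have h2 : Nat.card ↥((A : Subgroup G) ⊓ (B : Subgroup G)) ≤ Nat.card G :=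
    Nat.le_of_dvd Nat.card_pos (Subgroup.card_subgroup_dvd_card _)
  exact (ih (Nat.card G - Nat.card ↥((A : Subgroup G) ⊓ (B : Subgroup G))) (by omega) A B
    (fun h => by rw [h] at hAB; exact not_lt_bot hAB) (by omega)).mono subset_rfl hAB.le

end Cfsg.Agent.S2956
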