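import Cfsg.Statements.S2957
import Cfsg.Agent.Lib.Components.SylowControl

set_option autoImplicit false
open Cfsg

namespace Cfsg.Agent.S2957

open Cfsg.Agent.Components.SylowControl Cfsg.Agent.LocalEvenB

theorem inside {G : Type*} [Group G] [Finite G] {p : ℕ} [Fact p.Prime] {f : Subgroup G → Set (Subgroup G)}
    (hf : Cfsg.IsNormalizerFunctor p f) {M : Subgroup G} (S0 : Sylow p G) (hS0 : (S0 : Subgroup G) ≤ M)
    (hreg : Cfsg.IsFunctorRegular p f M) {D : Subgroup G} (hD : D ≠ ⊥) {A B : Sylow p G}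
    (hA : (A : Subgroup G) ≤ M) (hB : (B : Subgroup G) ≤ M) (hDA : D ≤ (A : Subgroup G))
    (hDB : D ≤ (B : Subgroup G)) : Conn (Cfsg.functorFamily p f ⊤) D A B := by
  have hcard : ∀ Q : Sylow p ↥M, ∃ c : Sylow p G, (c : Subgroup G) = (Q : Subgroup ↥M).map M.subtype := by
    intro Q
    obtain ⟨c, hc⟩ := (Q.isPGroup'.map M.subtype).exists_le_sylow
    refine ⟨c, (Subgroup.eq_of_le_of_card_ge hc ?_).symm⟩
    rw [Subgroup.card_map_of_injective M.subtype_injective,
      ← Nat.card_congr (Sylow.equiv (S0.subtype hS0) Q).toEquiv, Sylow.coe_subtype,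
      Nat.card_congr (Subgroup.subgroupOfEquivOfLe hS0).toEquiv]
    exact (Nat.card_congr (Sylow.equiv c S0).toEquiv).le
  have hmapA : ((A.subtype hA : Sylow p ↥M) : Subgroup ↥M).map M.subtype = A := by
    rw [Sylow.coe_subtype, Subgroup.map_subgroupOf_eq_of_le hA]
  have hmapB : ((B.subtype hB : Sylow p ↥M) : Subgroup ↥M).map M.subtype = B := by
    rw [Sylow.coe_subtype, Subgroup.map_subgroupOf_eq_of_le hB]
  have hs := regular_steps hf hreg hD (R₁ := A.subtype hA) (R₂ := B.subtype hB) (hmapA.symm ▸ hDA) (hmapB.symm ▸ hDB)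
  suffices ∀ R : Sylow p ↥M, Relation.ReflTransGen (StepM f M D) (A.subtype hA) R →
      ∀ c : Sylow p G, (c : Subgroup G) = (R : Subgroup ↥M).map M.subtype →
      Conn (Cfsg.functorFamily p f ⊤) D A c from this _ hs B hmapB.symm
  intro R hR
  induction hR with
  | refl =>
    intro c hc
    rw [show c = A from Sylow.ext (hc.trans hmapA)]
    exact Relation.ReflTransGen.refl
  | @tail R R' _ hst ih =>
    intro c hc
    obtain ⟨P, F, x, hx, hF, hPN, hRN, hR'N, hxR, hDR'⟩ := hst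
    obtain ⟨cP, hcP⟩ := hcard P
    obtain ⟨cR, hcR⟩ := hcard R
    rw [← hcP] at hF
    exact (ih cR hcR).tail (lk_of_step hF (hcR ▸ hRN) (hc ▸ hR'N) hx.2 (by rw [hcR, hc]; exact hxR) (hc ▸ hDR'))

/-- Let p be a prime dividing the order of the finite group G, f an equivariant assignment of a set of subgroups f(P) of P to every p-subgroup P, each normalized by N_G(P), and S a Sylow p-subgroup. If G = G₁G₂ for subgroups G₁, G₂ both containing S and both regular for f (in each Gᵢ, the family of normalizers in Gᵢ of the members of f(P), P a Sylow p-subgroup of Gᵢ, controls Sylow p-intersections), then G itself is regular for f. -/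
theorem result {G : Type*} [Group G] [Finite G] (p : ℕ) [Fact p.Prime] (hdiv : p ∣ Nat.card G)
    (f : Subgroup G → Set (Subgroup G)) (hf : Cfsg.IsNormalizerFunctor p f) (S : Sylow p G)
    (G₁ G₂ : Subgroup G) (h₁ : (S : Subgroup G) ≤ G₁) (h₂ : (S : Subgroup G) ≤ G₂)
    (hprod : ∀ g : G, ∃ g₁ ∈ G₁, ∃ g₂ ∈ G₂, g = g₁ * g₂)
    (hr₁ : Cfsg.IsFunctorRegular p f G₁) (hr₂ : Cfsg.IsFunctorRegular p f G₂) :
    Cfsg.IsFunctorRegular p f ⊤ := by
  refine regular_top_of_controls (controls_iff.mpr fun S' T' hne hD => ?_)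
  have hinv := fun g => functorFamily_top_conj hf g
  obtain ⟨a, ha⟩ := MulAction.exists_smul_eq G S S'
  set T := a⁻¹ • T' with hTdef
  set D := (S : Subgroup G) ⊓ (T : Subgroup G) with hDdef
  have hmap : Cm a D = (S' : Subgroup G) ⊓ (T' : Subgroup G) := by
    rw [hDdef, Cm, Subgroup.map_inf _ _ _ (MulAut.conj a).injective, ← Cm, ← Cm,
      ← Components.SylowControl.coe_smul, ← Components.SylowControl.coe_smul, ha, hTdef, smul_inv_smul]
  have hD1 : D ≠ ⊥ := fun h => hD (by rw [← hmap, h, Cm, Subgroup.map_bot])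
  suffices Conn (Cfsg.functorFamily p f ⊤) D S T by
    have := this.conj a (hinv a)
    rwa [hmap, ha, hTdef, smul_inv_smul] at this
  obtain ⟨g, hg⟩ := MulAction.exists_smul_eq G S T
  obtain ⟨g1, hg1, g2, hg2, hgg⟩ := hprod g
  have hS1 : ((g1 • S : Sylow p G) : Subgroup G) ≤ G₁ := by
    rw [Components.SylowControl.coe_smul]
    rintro y ⟨z, hz, rfl⟩
    exact G₁.mul_mem (G₁.mul_mem hg1 (h₁ hz)) (G₁.inv_mem hg1)
  have hS2 : ((g1 • S : Sylow p G) : Subgroup G) ≤ Cm g1 G₂ := by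
    rw [Components.SylowControl.coe_smul]; exact Subgroup.map_mono h₂
  have hT2 : (T : Subgroup G) ≤ Cm g1 G₂ := by
    rw [← hg, hgg, mul_smul, Components.SylowControl.coe_smul, Components.SylowControl.coe_smul]
    refine Subgroup.map_mono ?_
    rintro y ⟨z, hz, rfl⟩
    exact G₂.mul_mem (G₂.mul_mem hg2 (h₂ hz)) (G₂.inv_mem hg2)
  set I := G₁ ⊓ Cm g1 G₂ with hI
  have hDI : D ≤ I := le_inf (inf_le_left.trans h₁) (inf_le_right.trans hT2)
  obtain ⟨R, hR⟩ := ((S.isPGroup'.to_le (inf_le_left : D ≤ (S : Subgroup G))).comap_of_injective I.subtype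
    I.subtype_injective : IsPGroup p ↥(D.comap I.subtype)).exists_le_sylow
  obtain ⟨U, hU⟩ := (R.isPGroup'.map I.subtype).exists_le_sylow
  have hUeq : (U : Subgroup G) = (R : Subgroup ↥I).map I.subtype := by
    refine (Subgroup.eq_of_le_of_card_ge hU ?_).symm
    rw [Subgroup.card_map_of_injective I.subtype_injective,
      ← Nat.card_congr (Sylow.equiv ((g1 • S : Sylow p G).subtype (le_inf hS1 hS2)) R).toEquiv, Sylow.coe_subtype,
      Nat.card_congr (Subgroup.subgroupOfEquivOfLe (le_inf hS1 hS2)).toEquiv]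
    exact (Nat.card_congr (Sylow.equiv U (g1 • S)).toEquiv).le
  have hUI : (U : Subgroup G) ≤ I := hUeq ▸ Subgroup.map_subtype_le _
  have hDU : D ≤ (U : Subgroup G) := fun y hy => hU ⟨⟨y, hDI hy⟩, hR hy, rfl⟩
  refine (inside hf S h₁ hr₁ hD1 h₁ (hUI.trans inf_le_left) inf_le_left hDU).trans ?_
  have hback : ∀ V : Sylow p G, (V : Subgroup G) ≤ Cm g1 G₂ → ((g1⁻¹ • V : Sylow p G) : Subgroup G) ≤ G₂ := by
    intro V hV
    rw [Components.SylowControl.coe_smul]
    refine (Subgroup.map_mono hV).trans ?_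
    rw [Cm, conjMap_conjMap, inv_mul_cancel, conjMap_one]
  have hDD : ∀ V : Sylow p G, D ≤ (V : Subgroup G) → Cm g1⁻¹ D ≤ ((g1⁻¹ • V : Sylow p G) : Subgroup G) := by
    intro V hV
    rw [Components.SylowControl.coe_smul]; exact Subgroup.map_mono hV
  have hD2 : Cm g1⁻¹ D ≠ ⊥ := fun h => hD1 ((Subgroup.map_eq_bot_iff_of_injective _ (MulAut.conj g1⁻¹).injective).mp h)
  have := (inside hf S h₂ hr₂ hD2 (hback U (hUI.trans inf_le_right)) (hback T hT2) (hDD U hDU)
    (hDD T inf_le_right)).conj g1 (hinv g1)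
  rwa [Cm, Cm, conjMap_conjMap, mul_inv_cancel, conjMap_one, smul_inv_smul, smul_inv_smul] at this

end Cfsg.Agent.S2957
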