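import Cfsg.Statements.S2958
import Cfsg.Agent.Lib.LocalEvenB.Basic

set_option autoImplicit false
open Cfsg

namespace Cfsg.Agent.S2958

open Cfsg.Agent.LocalEvenB

/-- Let X, A, B be subgroups of a group G such that G is generated by the conjugates of X and every conjugate of X is contained in A or in B. Then A = G or B = G. -/
theorem result {G : Type*} [Group G] (X A B : Subgroup G) (hgen : (⨆ g : G, X.map (MulAut.conj g).toMonoidHom) = ⊤) (hcover : ∀ g : G, X.map (MulAut.conj g).toMonoidHom ≤ A ∨ X.map (MulAut.conj g).toMonoidHom ≤ B) : A = ⊤ ∨ B = ⊤ := by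
  classical
  set Y : G → Subgroup G := fun g => X.map (MulAut.conj g).toMonoidHom with hY
  by_cases hA : ∀ g, Y g ≤ A
  · left
    rw [eq_top_iff, ← hgen]
    exact iSup_le hA
  right
  push Not at hA
  obtain ⟨g₀, hg₀⟩ := hA
  set N : Subgroup G := ⨆ g ∈ {g : G | ¬ Y g ≤ A}, Y g with hNdef
  have hNB : N ≤ B := iSup₂_le fun g hg => (hcover g).resolve_left hg
  have hstab : ∀ a ∈ A, ∀ g, ¬ Y g ≤ A → ¬ Y (a * g) ≤ A := by
    intro a ha g hg hag
    refine hg fun y hy => ?_
    have h1 : a * y * a⁻¹ ∈ Y (a * g) := by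
      rw [hY]
      dsimp only
      rw [← conjMap_conjMap]
      exact conjMap_apply_mem hy
    have h2 := hag h1
    have h3 := A.mul_mem (A.mul_mem (A.inv_mem ha) h2) ha
    simpa [mul_assoc] using h3
  have hmap : ∀ a ∈ A, N.map (MulAut.conj a).toMonoidHom ≤ N := by
    intro a ha
    rw [hNdef, Subgroup.map_iSup]
    refine iSup_le fun g => ?_
    rw [Subgroup.map_iSup]
    refine iSup_le fun hg => ?_
    rw [hY]
    dsimp only
    rw [conjMap_conjMap]
    exact le_iSup₂ (f := fun g _ => Y g) (a * g) (hstab a ha g hg)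
  have hAN : A ≤ Subgroup.normalizer (N : Set G) := by
    intro a ha
    refine Subgroup.mem_normalizer_iff.2 fun y => ⟨fun hy => hmap a ha (conjMap_apply_mem hy), fun hy => ?_⟩
    have := hmap a⁻¹ (A.inv_mem ha) (conjMap_apply_mem (g := a⁻¹) hy)
    simpa [mul_assoc] using this
  have hnorm : Subgroup.normalizer (N : Set G) = ⊤ := by
    rw [eq_top_iff, ← hgen]
    refine iSup_le fun g => ?_
    by_cases hg : Y g ≤ A
    · exact hg.trans hAN
    · exact (le_iSup₂ (f := fun g _ => Y g) g hg).trans Subgroup.le_normalizer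
  haveI : N.Normal := Subgroup.normalizer_eq_top_iff.1 hnorm
  rw [eq_top_iff, ← hgen]
  refine iSup_le fun g => le_trans ?_ hNB
  intro y hy
  have h1 : (g₀ * g⁻¹) * y * (g₀ * g⁻¹)⁻¹ ∈ N := by
    refine le_iSup₂ (f := fun g _ => Y g) g₀ hg₀ ?_
    have h0 := mem_conjMap.1 hy
    exact mem_conjMap.2 (by simpa [mul_assoc] using h0)
  have h2 := Subgroup.Normal.conj_mem' (H := N) inferInstance _ h1 (g₀ * g⁻¹)
  simpa [mul_assoc] using h2

end Cfsg.Agent.S2958
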