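import Cfsg.Statements.S2963

set_option autoImplicit false
open Cfsg

namespace Cfsg.Agent.S2963

/-- Let n be odd. If the symmetric group of degree n is a minimal parabolic group for the prime 2, that is, a Sylow 2-subgroup is not normal and lies in exactly one maximal subgroup, then n = 2^m + 1 for some natural number m. -/
theorem result (n : ℕ) (hn : Odd n) (h : Cfsg.IsPMinimal 2 (Equiv.Perm (Fin n))) : ∃ m : ℕ, n = 2 ^ m + 1 := by
  classical
  haveI : Fact (Nat.Prime 2) := ⟨Nat.prime_two⟩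
  obtain ⟨S⟩ : Nonempty (Sylow 2 (Equiv.Perm (Fin n))) := inferInstance
  obtain ⟨hnn, M, hM, huniq⟩ := h S
  obtain ⟨⟨hMc, hSM⟩, -⟩ := (⟨hM, trivial⟩ : (IsCoatom M ∧ (S : Subgroup (Equiv.Perm (Fin n))) ≤ M) ∧ True)
  have hle : ∀ A : Subgroup (Equiv.Perm (Fin n)), (S : Subgroup (Equiv.Perm (Fin n))) ≤ A → A ≠ ⊤ → A ≤ M := by
    intro A hA hne
    obtain ⟨M', hM', hAM⟩ := (eq_top_or_exists_le_coatom A).resolve_left hne
    exact huniq M' ⟨hM', hA.trans hAM⟩ ▸ hAM
  obtain ⟨a, ha⟩ : (MulAction.fixedPoints ↥(S : Subgroup (Equiv.Perm (Fin n))) (Fin n)).Nonempty :=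
    S.isPGroup'.nonempty_fixed_point_of_prime_not_dvd_card (α := Fin n) (by
      rw [Nat.card_fin]; exact fun hd => Nat.not_even_iff_odd.mpr hn (even_iff_two_dvd.mpr hd))
  have hab : ∃ b : Fin n, b ∉ MulAction.fixedPoints ↥(S : Subgroup (Equiv.Perm (Fin n))) (Fin n) := by
    by_contra hc
    push Not at hc
    refine hnn ?_
    have hbot : (S : Subgroup (Equiv.Perm (Fin n))) = ⊥ := (Subgroup.eq_bot_iff_forall _).mpr fun s hs =>
      Equiv.ext fun x => hc x ⟨s, hs⟩
    rw [hbot]
    infer_instance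
  obtain ⟨b, hb⟩ := hab
  set O := MulAction.orbit ↥(S : Subgroup (Equiv.Perm (Fin n))) b with hO
  obtain ⟨k, hk⟩ := S.isPGroup'.card_orbit b
  rw [← hO] at hk
  have haO : a ∉ O := fun h' => by
    obtain ⟨s, hs⟩ := h'
    refine hb ?_
    have e : b = a := by rw [← ha s⁻¹, ← hs, inv_smul_smul]
    rw [e]; exact ha
  by_cases hcase : ∀ x, x ≠ a → x ∈ O
  · refine ⟨k, ?_⟩
    have e : O = {a}ᶜ := Set.ext fun x => ⟨fun hx (hxa : x = a) => haO (hxa ▸ hx), hcase x⟩
    rw [e, Nat.card_coe_set_eq, Set.ncard_compl, Set.ncard_singleton, Nat.card_fin] at hk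
    have := a.2
    omega
  · exfalso
    push Not at hcase
    obtain ⟨c, hca, hcO⟩ := hcase
    set A := MulAction.stabilizer (Equiv.Perm (Fin n)) a with hA
    set B : Subgroup (Equiv.Perm (Fin n)) :=
      { carrier := {g | ∀ x, g x ∈ O ↔ x ∈ O}
        one_mem' := fun x => Iff.rfl
        mul_mem' := fun {g g'} hg hg' x => (hg (g' x)).trans (hg' x)
        inv_mem' := fun {g} hg x => (hg (g⁻¹ x)).symm.trans (by simp) } with hB
    have hSA : (S : Subgroup (Equiv.Perm (Fin n))) ≤ A := fun s hs => ha ⟨s, hs⟩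
    have hSB : (S : Subgroup (Equiv.Perm (Fin n))) ≤ B := fun s hs x => (by
        constructor
        · rintro ⟨t, ht⟩
          refine ⟨(⟨s, hs⟩ : ↥(S : Subgroup (Equiv.Perm (Fin n))))⁻¹ * t, ?_⟩
          show ((⟨s, hs⟩ : ↥(S : Subgroup (Equiv.Perm (Fin n))))⁻¹ * t) • b = x
          rw [mul_smul, show t • b = s x from ht]
          show s⁻¹ (s x) = x
          simp
        · rintro ⟨t, ht⟩
          exact ⟨⟨s, hs⟩ * t, by show (⟨s, hs⟩ * t) • b = s x; rw [mul_smul]; exact congrArg s ht⟩)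
    have hswap : Equiv.swap a c ∈ B := fun x => by
      rcases eq_or_ne x a with rfl | hxa
      · rw [Equiv.swap_apply_left]; exact ⟨fun h => absurd h hcO, fun h => absurd h haO⟩
      rcases eq_or_ne x c with rfl | hxc
      · rw [Equiv.swap_apply_right]; exact ⟨fun h => absurd h haO, fun h => absurd h hcO⟩
      rw [Equiv.swap_apply_of_ne_of_ne hxa hxc]
    have hbO : b ∈ O := MulAction.mem_orbit_self b
    have hBne : B ≠ ⊤ := fun e => by
      have : Equiv.swap a b ∈ B := e ▸ Subgroup.mem_top _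
      exact haO ((this a).mp (by rw [Equiv.swap_apply_left]; exact hbO))
    have hAne : A ≠ ⊤ := fun e => by
      have : Equiv.swap a b ∈ A := e ▸ Subgroup.mem_top _
      have h2 : Equiv.swap a b a = a := this
      rw [Equiv.swap_apply_left] at h2
      exact haO (h2 ▸ hbO)
    have hAM := hle A hSA hAne
    have hcM : Equiv.swap a c ∈ M := hle B hSB hBne hswap
    refine hMc.1 (eq_top_iff.mpr ?_)
    rw [← Equiv.Perm.closure_isSwap, Subgroup.closure_le]
    rintro g ⟨x, y, hxy, rfl⟩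
    have key : ∀ z, z ≠ a → Equiv.swap a z ∈ M := by
      intro z hz
      rcases eq_or_ne z c with rfl | hzc
      · exact hcM
      · have hcz : Equiv.swap c z ∈ M := hAM (Equiv.swap_apply_of_ne_of_ne hca.symm hz.symm)
        have e := Equiv.swap_apply_apply (Equiv.swap c z) a c
        rw [Equiv.swap_apply_of_ne_of_ne hca.symm hz.symm, Equiv.swap_apply_left] at e
        rw [e]
        exact M.mul_mem (M.mul_mem hcz hcM) (M.inv_mem hcz)
    rcases eq_or_ne x a with rfl | hxa
    · exact key y hxy.symm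
    rcases eq_or_ne y a with rfl | hya
    · rw [Equiv.swap_comm]; exact key x hxy
    exact hAM (Equiv.swap_apply_of_ne_of_ne hxa.symm hya.symm)

end Cfsg.Agent.S2963
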