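import Cfsg.Statements.S2968
import Cfsg.Agent.Lib.LocalEvenB.Isolated

set_option autoImplicit false
open Cfsg

namespace Cfsg.Agent.S2968

open Cfsg.Agent.LocalEvenB

/-- Let G be a finite group, p a prime, P a Sylow p-subgroup of G and x ∈ P an element of p-power order which is isolated in G (the only conjugate of x commuting with x is x itself). Then x lies in the centre of P, and the subgroup generated by x is both strongly closed and weakly closed in P with respect to G. -/
theorem result {G : Type*} [Group G] [Finite G] {p : ℕ} [Fact p.Prime] (P : Sylow p G) (x : G) (hxP : x ∈ (P : Subgroup G)) (hx : ∃ k : ℕ, orderOf x = p ^ k) (hiso : Cfsg.IsIsolated x) : x ∈ (P : Subgroup G) ⊓ Subgroup.centralizer ((P : Subgroup G) : Set G) ∧ Cfsg.IsStronglyClosed (Subgroup.zpowers x) (P : Subgroup G) ∧ Cfsg.IsWeaklyClosed (Subgroup.zpowers x) (P : Subgroup G) := by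
  have hc : ∀ y ∈ (P : Subgroup G), y * x = x * y := fun y hy =>
    Subgroup.mem_centralizer_singleton_iff.1 (iso_le_centralizer hiso P.isPGroup' hxP hy)
  have hle : Subgroup.zpowers x ≤ (P : Subgroup G) := Subgroup.zpowers_le.2 hxP
  -- every conjugate of a power of `x` inside `P` is that power
  have key : ∀ y ∈ Subgroup.zpowers x, ∀ g : G, g * y * g⁻¹ ∈ (P : Subgroup G) → g * y * g⁻¹ = y := by
    intro y hy g hg
    obtain ⟨k, rfl⟩ := hy
    set z : G := x ^ k
    have hxC : x ∈ Subgroup.centralizer ({z} : Set G) :=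
      Subgroup.mem_centralizer_singleton_iff.2 ((Commute.refl x).zpow_right k).eq
    have hxC' : g⁻¹ * x * g⁻¹⁻¹ ∈ Subgroup.centralizer ({z} : Set G) := by
      refine Subgroup.mem_centralizer_singleton_iff.2 ?_
      have h0 := congrArg (fun u => g⁻¹ * u * g) (hc _ hg)
      simpa [mul_assoc] using h0.symm
    obtain ⟨c, hcc, hce⟩ := iso_conj_mem_subgroup hx hiso hxC hxC'
    have h1 : c * z * c⁻¹ = z := by
      rw [Subgroup.mem_centralizer_singleton_iff.1 hcc, mul_inv_cancel_right]
    have h2 : (g * c) * x * (g * c)⁻¹ = x := by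
      have h0 := congrArg (fun u => g * u * g⁻¹) hce
      simpa [mul_assoc] using h0
    calc g * z * g⁻¹ = g * (c * z * c⁻¹) * g⁻¹ := by rw [h1]
      _ = ((g * c) * x * (g * c)⁻¹) ^ k := by rw [conj_zpow]; simp only [z, mul_inv_rev, mul_assoc]
      _ = z := by rw [h2]
  refine ⟨⟨hxP, Subgroup.mem_centralizer_iff.2 hc⟩, ⟨hle, fun y hy g hg => ?_⟩, hle, fun g hg => ?_⟩
  · rw [key y hy g hg]; exact hy
  · refine le_antisymm ?_ fun y hy => ?_
    · rintro _ ⟨y, hy, rfl⟩
      have := key y hy g (by simpa using hg (conjMap_apply_mem hy))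
      simpa [this] using hy
    · refine ⟨y, hy, ?_⟩
      have := key y hy g (by simpa using hg (conjMap_apply_mem hy))
      simpa using this

end Cfsg.Agent.S2968
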