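import Cfsg.Statements.S2970
import Cfsg.Agent.Lib.LocalEvenB.Isolated

set_option autoImplicit false
open Cfsg

namespace Cfsg.Agent.S2970

open Cfsg.Agent.LocalEvenB

/-- Let G be a finite group, p a prime and x ∈ G an element of p-power order which is isolated in G. Then the image of x in any quotient G ⧸ N is isolated in G ⧸ N; and if x ≠ 1 and the Sylow p-subgroups of G are cyclic, then G has a normal p-complement. -/
theorem result {G : Type*} [Group G] [Finite G] {p : ℕ} [Fact p.Prime] (x : G) (hx : ∃ k : ℕ, orderOf x = p ^ k) (hiso : Cfsg.IsIsolated x) : (∀ (N : Subgroup G) [N.Normal], Cfsg.IsIsolated (QuotientGroup.mk x : G ⧸ N)) ∧ (x ≠ 1 → (∀ P : Sylow p G, IsCyclic ↥(P : Subgroup G)) → Cfsg.HasNormalPComplement p G) := by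
  refine ⟨fun N _ => iso_map hx hiso (QuotientGroup.mk' N) (QuotientGroup.mk'_surjective N), fun hx1 hcyc => ?_⟩
  obtain ⟨P, hP⟩ := (isPGroup_zpowers hx).exists_le_sylow
  have hxP : x ∈ (P : Subgroup G) := hP (Subgroup.mem_zpowers _)
  haveI := hcyc P
  obtain ⟨⟨u, hu⟩, hgen⟩ := IsCyclic.exists_generator (α := ↥(P : Subgroup G))
  have hgen' : ∀ y ∈ (P : Subgroup G), ∃ k : ℤ, u ^ k = y := by
    intro y hy
    obtain ⟨k, hk⟩ := hgen ⟨y, hy⟩
    exact ⟨k, by simpa using congrArg Subtype.val hk⟩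
  have hNC : Subgroup.normalizer ((P : Subgroup G) : Set G) ≤ Subgroup.centralizer ((P : Subgroup G) : Set G) := by
    intro n hn
    obtain ⟨e, he⟩ := IsPGroup.iff_card.1 P.isPGroup'
    have hou : orderOf u = p ^ e := by
      rw [← he]
      have h1 := orderOf_eq_card_of_forall_mem_zpowers hgen
      rwa [← Subgroup.orderOf_coe] at h1
    obtain ⟨k, hk⟩ := hgen' _ ((Subgroup.mem_normalizer_iff.1 hn u).1 hu)
    obtain ⟨j, hj⟩ := hgen' x hxP
    have hfix : n * x * n⁻¹ = x := by
      have := Subgroup.mem_centralizer_singleton_iff.1 (iso_normalizer_le hiso P.isPGroup' hxP hn)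
      rw [this, mul_inv_cancel_right]
    have hkj : u ^ (k * j) = u ^ j := by
      rw [zpow_mul, hk, conj_zpow, hj, hfix]
    have hdvd : (p : ℤ) ∣ k - 1 := by
      by_contra hnd
      have h1 : ((p ^ e : ℕ) : ℤ) ∣ j * (k - 1) := by
        rw [← hou, orderOf_dvd_iff_zpow_eq_one, mul_sub, mul_one, zpow_sub, mul_comm j k, hkj, mul_inv_cancel]
      have hcop : IsCoprime ((p ^ e : ℕ) : ℤ) (k - 1) := by
        push_cast
        exact ((Nat.prime_iff_prime_int.1 Fact.out).coprime_iff_not_dvd.2 hnd).pow_left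
      have h2 : ((p ^ e : ℕ) : ℤ) ∣ j := hcop.dvd_of_dvd_mul_right h1
      rw [← hou, orderOf_dvd_iff_zpow_eq_one, hj] at h2
      exact hx1 h2
    -- the `p^e`-th power of `n` centralizes `P`
    have hiter : ∀ m : ℕ, n ^ m * u * (n ^ m)⁻¹ = u ^ (k ^ m) := by
      intro m
      induction m with
      | zero => simp
      | succ m ih =>
        rw [pow_succ' k, zpow_mul, hk, conj_zpow, ← ih, pow_succ']
        group
    have hpow : n ^ (p ^ e) * u * (n ^ (p ^ e))⁻¹ = u := by
      have h3 : ((p ^ e : ℕ) : ℤ) ∣ k ^ (p ^ e) - 1 := by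
        have h4 := dvd_sub_pow_of_dvd_sub (R := ℤ) (p := p) (a := k) (b := 1) hdvd e
        rw [one_pow] at h4
        refine Dvd.dvd.trans ?_ h4
        push_cast
        exact pow_dvd_pow _ (Nat.le_succ e)
      rw [← hou, orderOf_dvd_iff_zpow_eq_one, zpow_sub, zpow_one, mul_inv_eq_one, hou] at h3
      rw [hiter, h3]
    set C : Subgroup G := Subgroup.centralizer ({u} : Set G) with hC
    have hPC : (P : Subgroup G) ≤ C := by
      intro y hy
      obtain ⟨i, rfl⟩ := hgen' y hy
      exact Subgroup.mem_centralizer_singleton_iff.2 ((Commute.refl u).zpow_left i).eq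
    set N := Subgroup.normalizer ((P : Subgroup G) : Set G)
    have h5 : n ^ (p ^ e) ∈ C := Subgroup.mem_centralizer_singleton_iff.2 (mul_inv_eq_iff_eq_mul.1 hpow)
    -- a power of `n` prime to `p` lies in `P`
    haveI : ((P : Subgroup G).subgroupOf N).Normal := Subgroup.normal_in_normalizer
    have hcop : ¬ p ∣ ((P : Subgroup G).subgroupOf N).index := by
      rw [← Subgroup.relIndex]
      intro hd
      exact P.not_dvd_index (hd.trans (Subgroup.relIndex_dvd_index_of_le Subgroup.le_normalizer))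
    have h6 : n ^ ((P : Subgroup G).subgroupOf N).index ∈ C := by
      have h7 := Subgroup.pow_index_mem ((P : Subgroup G).subgroupOf N) ⟨n, hn⟩
      rw [Subgroup.mem_subgroupOf] at h7
      exact hPC (by simpa using h7)
    have hnC : n ∈ C := by
      have hg : Nat.Coprime (p ^ e) ((P : Subgroup G).subgroupOf N).index :=
        Nat.Coprime.pow_left _ ((Nat.Prime.coprime_iff_not_dvd Fact.out).2 hcop)
      have h8 := C.mul_mem (C.zpow_mem h5 (Nat.gcdA (p ^ e) ((P : Subgroup G).subgroupOf N).index))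
        (C.zpow_mem h6 (Nat.gcdB (p ^ e) ((P : Subgroup G).subgroupOf N).index))
      rw [← zpow_natCast, ← zpow_natCast, ← zpow_mul, ← zpow_mul, ← zpow_add, ← Nat.gcd_eq_gcd_ab, hg.gcd_eq_one] at h8
      simpa using h8
    refine Subgroup.mem_centralizer_iff.2 fun y hy => ?_
    obtain ⟨i, rfl⟩ := hgen' y hy
    exact (Commute.zpow_left (Subgroup.mem_centralizer_singleton_iff.1 hnC).symm i).eq
  exact ⟨P, (MonoidHom.transferSylow P hNC).ker, inferInstance,
    MonoidHom.ker_transferSylow_isComplement' P hNC⟩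

end Cfsg.Agent.S2970
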