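import Cfsg.Statements.S2971
import Cfsg.Agent.Lib.InvChar.OneSubgroup
import Cfsg.Agent.Lib.LocalEvenB.Basic
import Cfsg.Agent.S2970

set_option autoImplicit false
open Cfsg

namespace Cfsg.Agent.S2971

open Cfsg.Agent.LocalEvenB

private theorem sylow_cyclic {G : Type*} [Group G] [Finite G] {p : ℕ} [Fact p.Prime] (hp : p ≠ 2)
    (hrk : Cfsg.PRankLE p 1 G) (P : Sylow p G) : IsCyclic ↥(P : Subgroup G) := by
  have hP : IsPGroup p ↥(P : Subgroup G) := P.isPGroup'
  rcases subsingleton_or_nontrivial ↥(P : Subgroup G) with h | h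
  · infer_instance
  refine (Cfsg.Agent.InvChar.cyclic_or_quaternion hP ?_).resolve_right fun h => hp h.1
  haveI : Nontrivial (Subgroup.center ↥(P : Subgroup G)) := hP.center_nontrivial
  have hdvd : p ∣ Nat.card (Subgroup.center ↥(P : Subgroup G)) := by
    obtain ⟨n, hn, hn'⟩ := (hP.to_subgroup (Subgroup.center _)).nontrivial_iff_card.mp inferInstance
    exact hn' ▸ dvd_pow_self p hn.ne'
  obtain ⟨c, hc⟩ := exists_prime_orderOf_dvd_card' p hdvd
  have hcc : (Subgroup.zpowers (c : ↥(P : Subgroup G))) ≤ Subgroup.center _ := Subgroup.zpowers_le.mpr c.2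
  have hcard : Nat.card (Subgroup.zpowers (c : ↥(P : Subgroup G))) = p := by
    rw [Nat.card_zpowers, Subgroup.orderOf_coe, hc]
  suffices ∀ H : Subgroup ↥(P : Subgroup G), Nat.card H = p → H = Subgroup.zpowers (c : ↥(P : Subgroup G)) from
    fun X Y hX hY => (this X hX).trans (this Y hY).symm
  intro H hH
  set C := Subgroup.zpowers (c : ↥(P : Subgroup G)) with hC
  haveI : C.Normal := ⟨fun n hn g => by
    rw [(Subgroup.mem_center_iff.mp (hcc hn) g), mul_inv_cancel_right]; exact hn⟩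
  haveI : IsCyclic H := isCyclic_of_prime_card hH
  have hHc : ∀ a ∈ H, ∀ b ∈ H, a * b = b * a := fun a ha b hb =>
    congrArg Subtype.val (mul_comm' (⟨a, ha⟩ : H) ⟨b, hb⟩)
  let A := (H ⊔ C).map (P : Subgroup G).subtype
  have hA1 : ∀ a ∈ H ⊔ C, a ^ p = 1 := by
    intro a ha
    obtain ⟨u, hu, v, hv, rfl⟩ := Subgroup.mem_sup_of_normal_right.1 ha
    have hcomm : Commute u v := Subgroup.mem_center_iff.mp (hcc hv) u
    have h1 : u ^ p = 1 := by
      have := orderOf_dvd_iff_pow_eq_one.mp (Subgroup.orderOf_dvd_natCard H hu)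
      rwa [hH] at this
    have h2 : v ^ p = 1 := by
      have := orderOf_dvd_iff_pow_eq_one.mp (Subgroup.orderOf_dvd_natCard C hv)
      rwa [hcard] at this
    rw [hcomm.mul_pow, h1, h2, one_mul]
  have hA2 : ∀ a ∈ H ⊔ C, ∀ b ∈ H ⊔ C, a * b = b * a := by
    intro a ha b hb
    obtain ⟨u, hu, v, hv, rfl⟩ := Subgroup.mem_sup_of_normal_right.1 ha
    obtain ⟨u', hu', v', hv', rfl⟩ := Subgroup.mem_sup_of_normal_right.1 hb
    have e1 : Commute u u' := hHc u hu u' hu'
    have e2 : ∀ z, Commute z v := fun z => Subgroup.mem_center_iff.mp (hcc hv) z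
    have e3 : ∀ z, Commute z v' := fun z => Subgroup.mem_center_iff.mp (hcc hv') z
    exact ((e1.mul_right (e3 u)).mul_left ((e2 (u' * v')).symm)).eq
  have hle : Nat.card (H ⊔ C : Subgroup _) ≤ p := by
    have := hrk A ⟨⟨fun a b => by
      obtain ⟨_, x, hx, rfl⟩ := a
      obtain ⟨_, y, hy, rfl⟩ := b
      exact Subtype.ext (show (x : G) * y = y * x from congrArg Subtype.val (hA2 x hx y hy))⟩⟩
      (by
        rintro _ ⟨x, hx, rfl⟩
        simpa using congrArg Subtype.val (hA1 x hx))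
    rw [pow_one, Subgroup.card_map_of_injective (Subgroup.subtype_injective _)] at this
    exact this
  have e1 : H = H ⊔ C := Subgroup.eq_of_le_of_card_ge le_sup_left (hle.trans hH.ge)
  have e2 : C = H ⊔ C := Subgroup.eq_of_le_of_card_ge le_sup_right (hle.trans hcard.ge)
  exact e1.trans e2.symm

/-- Let G be a finite group and p an odd prime such that G has p-rank at most 1 (no elementary abelian subgroup of order p²). If x ∈ G is an isolated element of order p, then x is central modulo the largest normal subgroup of G of order prime to p. -/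
theorem result {G : Type*} [Group G] [Finite G] {p : ℕ} [Fact p.Prime] (hp : p ≠ 2) (hrk : Cfsg.PRankLE p 1 G) (x : G) (hx : orderOf x = p) (hiso : Cfsg.IsIsolated x) : Cfsg.InZStar p x := by
  have hx1 : x ≠ 1 := fun h => by
    rw [h, orderOf_one] at hx
    exact (Fact.out : p.Prime).one_lt.ne hx
  obtain ⟨P, N, hN, hc⟩ :=
    (S2970.result x ⟨1, by rw [hx, pow_one]⟩ hiso).2 hx1 fun P => sylow_cyclic hp hrk P
  haveI := hN
  haveI := sylow_cyclic hp hrk P
  intro g
  have hcop : (Nat.card N).Coprime p := by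
    have h1 : (Nat.card N) = (P : Subgroup G).index := (Subgroup.IsComplement'.index_eq_card hc).symm
    rw [h1]
    exact ((Fact.out : p.Prime).coprime_iff_not_dvd.2 P.not_dvd_index).symm
  refine le_pPrimeCore hN hcop ?_
  have hdec : ∀ y : G, ∃ n ∈ N, ∃ s ∈ (P : Subgroup G), y = n * s := by
    intro y
    obtain ⟨⟨⟨n, hn⟩, ⟨s, hs⟩⟩, h⟩ := hc.2 y
    exact ⟨n, hn, s, hs, h.symm⟩
  obtain ⟨n, hn, s, hs, hg⟩ := hdec g
  obtain ⟨m, hm, t, ht, hx'⟩ := hdec x
  have hst : s * t = t * s := congrArg Subtype.val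
    ((IsCyclic.commGroup (α := ↥(P : Subgroup G))).mul_comm ⟨s, hs⟩ ⟨t, ht⟩)
  rw [← QuotientGroup.eq_one_iff]
  have eg : (g : G ⧸ N) = (s : G ⧸ N) := by
    rw [hg, QuotientGroup.mk_mul, (QuotientGroup.eq_one_iff n).2 hn, one_mul]
  have ex : (x : G ⧸ N) = (t : G ⧸ N) := by
    rw [hx', QuotientGroup.mk_mul, (QuotientGroup.eq_one_iff m).2 hm, one_mul]
  rw [QuotientGroup.mk_mul, QuotientGroup.mk_mul, QuotientGroup.mk_mul, QuotientGroup.mk_inv, QuotientGroup.mk_inv,
    eg, ex, ← QuotientGroup.mk_inv, ← QuotientGroup.mk_inv, ← QuotientGroup.mk_mul, ← QuotientGroup.mk_mul,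
    ← QuotientGroup.mk_mul, hst, mul_inv_cancel_right, mul_inv_cancel, QuotientGroup.mk_one]

end Cfsg.Agent.S2971
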