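import Cfsg.Statements.S2972
import Mathlib.GroupTheory.SchurZassenhaus
import Cfsg.Agent.Lib.LocalEvenB.Isolated
import Cfsg.Agent.Lib.Basics.Cores
import Cfsg.Agent.Lib.Recog.MinNormal

set_option autoImplicit false
open Cfsg

namespace Cfsg.Agent.S2972

open Subgroup LocalEvenB
open scoped commutatorElement

section
variable {G : Type*} [Group G] [Finite G] {p : ℕ} [Fact p.Prime]

/-- The characteristic core of a normal subgroup is trivial if the core of the group is. -/
theorem core_of_normal (hO : Cfsg.pPrimeCore p G = ⊥) (N : Subgroup G) [N.Normal] :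
    Cfsg.pPrimeCore p N = ⊥ := by
  refine (Subgroup.map_eq_bot_iff_of_injective _ N.subtype_injective).1 (le_bot_iff.1 (hO ▸ ?_))
  refine LocalEvenB.le_pPrimeCore inferInstance ?_
  rw [Subgroup.card_map_of_injective N.subtype_injective]
  exact (LocalEvenB.pPrimeCore_spec p).2

/-- Any normal `p'`-subgroup of a normal subgroup is then trivial. -/
theorem eq_bot_of_subnormal (hO : Cfsg.pPrimeCore p G = ⊥) {N K : Subgroup G} [N.Normal]
    (hKN : K ≤ N) (hn : N ≤ normalizer (K : Set G)) (hc : (Nat.card K).Coprime p) : K = ⊥ := by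
  have h1 : K.subgroupOf N ≤ Cfsg.pPrimeCore p N :=
    LocalEvenB.le_pPrimeCore ((Subgroup.normal_subgroupOf_iff_le_normalizer hKN).2 hn)
      (by rwa [Nat.card_congr (Subgroup.subgroupOfEquivOfLe hKN).toEquiv])
  rw [core_of_normal hO N, le_bot_iff, Subgroup.subgroupOf_eq_bot] at h1
  exact h1.eq_bot_of_le hKN

/-- An element commuting with the commutators of its conjugates and isolated is central. -/
theorem central_of_comm {x : G} (hiso : Cfsg.IsIsolated x)
    (h : ∀ g : G, Commute x (g * x * g⁻¹)) : ∀ g : G, g * x = x * g := fun g =>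
  mul_inv_eq_iff_eq_mul.1 (hiso g (h g))

/-- A minimal normal subgroup together with `x` generates the group. -/
theorem sup_zpowers_eq_top {x : G} (hO : Cfsg.pPrimeCore p G = ⊥) (hiso : Cfsg.IsIsolated x)
    (hnc : ¬ ∀ g : G, g * x = x * g)
    (hmin : ∀ (H : Subgroup G) (hxH : x ∈ H), H ≠ ⊤ → Cfsg.InZStar p (⟨x, hxH⟩ : ↥H))
    (hquot : ∀ (N : Subgroup G) [N.Normal], N ≠ ⊥ → Cfsg.InZStar p (QuotientGroup.mk x : G ⧸ N))
    {N : Subgroup G} (hN : Recog.IsMinNormal N) : N ⊔ zpowers x = ⊤ := by
  have := hN.normal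
  by_contra hne
  -- commutators with a normal subgroup of a proper subgroup containing `x`
  have key : ∀ (M H : Subgroup G), M.Normal → M ≤ H → x ∈ H → H ≠ ⊤ → ∀ m ∈ M, m * x = x * m := by
    intro M H hM hMH hxH hH m hm
    have := hM
    set K := (Cfsg.pPrimeCore p H).map H.subtype
    have hK : (Nat.card K).Coprime p := by
      rw [Subgroup.card_map_of_injective H.subtype_injective]
      exact (LocalEvenB.pPrimeCore_spec p).2
    have h1 : M ⊓ K = ⊥ := by
      refine eq_bot_of_subnormal (p := p) hO (N := M) inf_le_left ?_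
        (hK.coprime_dvd_left (Subgroup.card_dvd_of_le inf_le_right))
      intro y hy
      refine mem_normalizer_of_conj_mem fun z hz =>
        Subgroup.mem_inf.2 ⟨M.mul_mem (M.mul_mem hy hz.1) (M.inv_mem hy), ?_⟩
      obtain ⟨z', hz', he⟩ := hz.2
      exact ⟨_, (inferInstance : (Cfsg.pPrimeCore p H).Normal).conj_mem z' hz' ⟨y, hMH hy⟩,
        by simp [← he]⟩
    have h2 : m * x * m⁻¹ * x⁻¹ ∈ M ⊓ K := by
      refine Subgroup.mem_inf.2 ⟨?_, ⟨_, hmin H hxH hH ⟨m, hMH hm⟩, by simp⟩⟩
      have e : m * x * m⁻¹ * x⁻¹ = m * (x * m⁻¹ * x⁻¹) := by group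
      rw [e]
      exact mul_mem hm (hM.conj_mem _ (inv_mem hm) x)
    rw [h1, Subgroup.mem_bot, mul_inv_eq_one, mul_inv_eq_iff_eq_mul] at h2
    exact h2
  have hxC : x ∈ centralizer (N : Set G) := Subgroup.mem_centralizer_iff.2 fun n hn =>
    key N _ hN.normal le_sup_left (mem_sup_right (mem_zpowers x)) hne n hn
  by_cases hC : centralizer (N : Set G) = ⊤
  · have hNZ : ∀ n ∈ N, ∀ g : G, n * g = g * n := fun n hn g =>
      Subgroup.mem_centralizer_iff.1 (hC.ge (Subgroup.mem_top g)) n hn
    -- `N` is a `p`-group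
    have hNp : ∀ d : ℕ, d.Prime → d ∣ Nat.card N → d = p := by
      intro d hd hdN
      by_contra hdp
      have : Fact d.Prime := ⟨hd⟩
      obtain ⟨n, hn⟩ := exists_prime_orderOf_dvd_card' (G := N) d hdN
      have hz : (zpowers (n : G)).Normal := ⟨fun y hy g => by
        rw [← (hNZ y (Subgroup.zpowers_le.2 n.2 hy) g), mul_inv_cancel_right]; exact hy⟩
      have h1 := LocalEvenB.le_pPrimeCore hz (p := p) (by
        rw [Nat.card_zpowers, Subgroup.orderOf_coe, hn]
        exact (Nat.coprime_primes hd Fact.out).2 hdp)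
      rw [hO, le_bot_iff, Subgroup.zpowers_eq_bot] at h1
      rw [OneMemClass.coe_eq_one] at h1
      rw [h1, orderOf_one] at hn
      exact hd.one_lt.ne hn
    set L := (Cfsg.pPrimeCore p (G ⧸ N)).comap (QuotientGroup.mk' N) with hL
    have hNL : N ≤ L := fun y hy => by
      rw [hL, Subgroup.mem_comap, QuotientGroup.mk'_apply, (QuotientGroup.eq_one_iff y).2 hy]
      exact one_mem _
    have hidx : (N.relIndex L).Coprime p := by
      have h1 := Subgroup.relIndex_comap (⊥ : Subgroup (G ⧸ N)) (QuotientGroup.mk' N) L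
      rw [MonoidHom.comap_bot, QuotientGroup.ker_mk'] at h1
      rw [h1, hL, Subgroup.map_comap_eq_self_of_surjective (QuotientGroup.mk'_surjective N),
        Subgroup.relIndex_bot_left]
      exact (LocalEvenB.pPrimeCore_spec p).2
    have hcop : Nat.Coprime (Nat.card (N.subgroupOf L)) (N.subgroupOf L).index := by
      rw [Nat.card_congr (Subgroup.subgroupOfEquivOfLe hNL).toEquiv]
      have e : Nat.card N = p ^ (Nat.card N).primeFactorsList.length :=
        Nat.eq_prime_pow_of_unique_prime_dvd Nat.card_pos.ne' (hNp _)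
      rw [e]
      exact hidx.symm.pow_left _
    obtain ⟨K, hK⟩ := Subgroup.exists_left_complement'_of_coprime hcop
    have hKn : K.Normal := by
      refine Subgroup.normalizer_eq_top_iff.1 (top_le_iff.1 fun y _ => ?_)
      obtain ⟨⟨k, n⟩, rfl⟩ := hK.2 y
      refine mul_mem (Subgroup.le_normalizer k.2) (mem_normalizer_of_conj_mem fun z hz => ?_)
      have e : (n : L) * z = z * n := Subtype.ext (hNZ _ n.2 _)
      rw [e, mul_inv_cancel_right]; exact hz
    have hKc : (Nat.card K).Coprime p := by
      have := hK.index_eq_card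
      rw [← this]
      exact hidx
    have hKbot : K = ⊥ := by
      have h1 := LocalEvenB.le_pPrimeCore hKn hKc
      rwa [core_of_normal hO L, le_bot_iff] at h1
    refine hnc (central_of_comm hiso fun g => ?_)
    have hgL : g * x * g⁻¹ * x⁻¹ ∈ L := by
      rw [hL, Subgroup.mem_comap]
      simpa using hquot N hN.ne_bot (QuotientGroup.mk g)
    obtain ⟨⟨k, n⟩, hkn⟩ := hK.2 ⟨_, hgL⟩
    have hk : (k : L) = 1 := Subgroup.mem_bot.1 (hKbot ▸ k.2)
    have hmem : g * x * g⁻¹ * x⁻¹ ∈ N := by
      have := congrArg Subtype.val hkn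
      simp only [hk, one_mul] at this
      rw [← this]; exact n.2
    have h2 := hNZ _ hmem x
    show x * (g * x * g⁻¹) = g * x * g⁻¹ * x
    calc x * (g * x * g⁻¹) = (x * (g * x * g⁻¹ * x⁻¹)) * x := by group
      _ = g * x * g⁻¹ * x := by rw [← h2]; group
  · refine hnc (central_of_comm hiso fun g => ?_)
    refine (key (centralizer (N : Set G)) _ inferInstance le_rfl hxC hC _ ?_).symm
    exact (inferInstance : (centralizer (N : Set G)).Normal).conj_mem x hxC g

end

/-- Let G be a finite group, p a prime and x ∈ G an isolated element of order p (the only conjugate of x commuting with x is x) which is not central modulo the largest normal subgroup of order prime to p, while x is central modulo the largest normal subgroup of order prime to p in every proper subgroup containing x, and the image of x is so in every quotient of G by a nontrivial normal subgroup (a minimal counterexample to the Z*_p statement). Then the derived subgroup G' is a non-abelian simple group and G = G'⟨x⟩. -/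
theorem result {G : Type*} [Group G] [Finite G] {p : ℕ} [Fact p.Prime] (x : G) (hx : orderOf x = p) (hiso : Cfsg.IsIsolated x) (hnz : ¬ Cfsg.InZStar p x) (hmin : ∀ (H : Subgroup G) (hxH : x ∈ H), H ≠ ⊤ → Cfsg.InZStar p (⟨x, hxH⟩ : ↥H)) (hquot : ∀ (N : Subgroup G) [N.Normal], N ≠ ⊥ → Cfsg.InZStar p (QuotientGroup.mk x : G ⧸ N)) : IsSimpleGroup ↥(commutator G) ∧ ¬ IsMulCommutative ↥(commutator G) ∧ commutator G ⊔ Subgroup.zpowers x = ⊤ := by
  classical
  have hxp : ∃ k : ℕ, orderOf x = p ^ k := ⟨1, by rw [hx, pow_one]⟩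
  have hzx : IsPGroup p (zpowers x) := isPGroup_zpowers hxp
  have hnc : ¬ ∀ g : G, g * x = x * g := by
    intro h
    refine hnz fun g => ?_
    rw [h g, mul_inv_cancel_right, mul_inv_cancel]
    exact one_mem _
  have hO : Cfsg.pPrimeCore p G = ⊥ := by
    by_contra hne
    obtain ⟨hOn, hOc⟩ := LocalEvenB.pPrimeCore_spec (G := G) p
    set O := Cfsg.pPrimeCore p G with hOdef
    set L := (Cfsg.pPrimeCore p (G ⧸ O)).comap (QuotientGroup.mk' O) with hL
    have hNL : O ≤ L := fun y hy => by
      rw [hL, Subgroup.mem_comap, QuotientGroup.mk'_apply, (QuotientGroup.eq_one_iff y).2 hy]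
      exact one_mem _
    have hLc : (Nat.card L).Coprime p := by
      have h1 := Subgroup.relIndex_comap (⊥ : Subgroup (G ⧸ O)) (QuotientGroup.mk' O) L
      rw [MonoidHom.comap_bot, QuotientGroup.ker_mk', hL,
        Subgroup.map_comap_eq_self_of_surjective (QuotientGroup.mk'_surjective O),
        Subgroup.relIndex_bot_left, ← hL] at h1
      have h2 := Subgroup.relIndex_mul_relIndex ⊥ O L bot_le hNL
      rw [Subgroup.relIndex_bot_left, Subgroup.relIndex_bot_left, h1] at h2
      rw [← h2]
      exact Nat.Coprime.mul_left hOc (LocalEvenB.pPrimeCore_spec p).2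
    refine hnz fun g => LocalEvenB.le_pPrimeCore inferInstance hLc ?_
    rw [hL, Subgroup.mem_comap]
    simpa using hquot O hne (QuotientGroup.mk g)
  have : Nontrivial G := by
    refine ⟨⟨x, 1, fun h => ?_⟩⟩
    rw [h, orderOf_one] at hx
    exact (Fact.out : p.Prime).one_lt.ne hx
  obtain ⟨N, hN⟩ := Recog.exists_isMinNormal (G := G)
  have := hN.normal
  have htop := sup_zpowers_eq_top hO hiso hnc hmin hquot hN
  have hnab : ¬ IsMulCommutative N := by
    intro hc
    obtain ⟨r, hr, hexp⟩ := hN.exists_prime_pow_eq_one hc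
    haveI : Fact r.Prime := ⟨hr⟩
    have hNr : IsPGroup r N := fun y => ⟨1, Subtype.ext (by simpa using hexp y y.2)⟩
    by_cases hrp : r = p
    · subst hrp
      have hG : IsPGroup r ↥(N ⊔ zpowers x) := hNr.to_sup_of_normal_left hzx
      exact hnc fun g => Subgroup.mem_centralizer_singleton_iff.1
        (iso_le_centralizer hiso hG (mem_sup_right (mem_zpowers x)) (htop.ge (Subgroup.mem_top g)))
    · obtain ⟨k, hk⟩ := hNr.exists_card_eq
      exact hN.ne_bot (eq_bot_of_subnormal hO (N := N) le_rfl Subgroup.le_normalizer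
        (by rw [hk]; exact ((Nat.coprime_primes hr Fact.out).2 hrp).pow_left k))
  have hcomm : commutator G = N := by
    have hle : commutator G ≤ N := by
      rw [_root_.commutator_def, Subgroup.commutator_le]
      intro a _ b _
      rw [← QuotientGroup.eq_one_iff]
      have hgen : ∀ a : G, ∃ i : ℤ, (QuotientGroup.mk' N x) ^ i = QuotientGroup.mk' N a := by
        intro a
        have h1 : QuotientGroup.mk' N a ∈ (N ⊔ zpowers x).map (QuotientGroup.mk' N) :=
          ⟨a, htop.ge (Subgroup.mem_top a), rfl⟩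
        rw [Subgroup.map_sup, (Subgroup.map_eq_bot_iff _).2 (QuotientGroup.ker_mk' N).ge, bot_sup_eq,
          MonoidHom.map_zpowers] at h1
        exact Subgroup.mem_zpowers_iff.1 h1
      obtain ⟨i, hi⟩ := hgen a
      obtain ⟨j, hj⟩ := hgen b
      have e : (QuotientGroup.mk' N) ⁅a, b⁆ = 1 := by
        rw [map_commutatorElement, ← hi, ← hj, commutatorElement_eq_one_iff_mul_comm]
        exact zpow_mul_comm _ i j
      exact e
    refine (hN.minimal _ inferInstance hle).resolve_left fun hb => hnab ⟨⟨fun a b => ?_⟩⟩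
    have := Subgroup.commutator_mem_commutator (Subgroup.mem_top (a : G)) (Subgroup.mem_top (b : G))
    rw [← _root_.commutator_def, hb, Subgroup.mem_bot, commutatorElement_eq_one_iff_mul_comm] at this
    exact Subtype.ext this
  rw [hcomm]
  refine ⟨?_, hnab, htop⟩
  obtain ⟨T, hT⟩ := Recog.exists_isFactor hN.ne_bot
  have := hN.isSimpleGroup_factor hT
  suffices hxT : x ∈ normalizer (T : Set G) by
    have hle : N ⊔ zpowers x ≤ normalizer (T : Set G) :=
      sup_le hT.le_normalizer (Subgroup.zpowers_le.2 hxT)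
    rw [htop, top_le_iff] at hle
    have hTn : T.Normal := Subgroup.normalizer_eq_top_iff.1 hle
    rw [← (hN.minimal T hTn hT.le).resolve_left hT.ne_bot]
    infer_instance
  by_contra hxT
  have hpd : p ∣ Nat.card T := by
    by_contra hpd
    exact hT.ne_bot (eq_bot_of_subnormal hO (N := N) hT.le hT.le_normalizer
      ((Nat.Prime.coprime_iff_not_dvd Fact.out).2 hpd).symm)
  obtain ⟨d, hd⟩ := exists_prime_orderOf_dvd_card' (G := T) p hpd
  have hdp : (d : G) ^ p = 1 := by rw [← Subgroup.coe_pow, ← hd, pow_orderOf_eq_one, Subgroup.coe_one]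
  let e : ℕ → G := fun i => x ^ i * d * (x ^ i)⁻¹
  let Ti : ℕ → Subgroup G := fun i => T.map (MulAut.conj (x ^ i)).toMonoidHom
  have heT : ∀ i, e i ∈ Ti i := fun i => conjMap_apply_mem d.2
  have hec : ∀ i j, Commute (e i) (e j) := by
    intro i j
    have hmod : ∀ i, e i = e (i % p) := fun i => by
      show x ^ i * _ * _ = x ^ (i % p) * _ * _
      rw [← hx, pow_mod_orderOf]
    rw [hmod i, hmod j]
    by_cases h : Ti (i % p) = Ti (j % p)
    · have hij : i % p = j % p := by
        by_contra hij
        apply hxT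
        have hzero : ∀ a b : ℕ, a < b → b < p → Ti a = Ti b → x ∈ normalizer (T : Set G) := by
          intro a b hab hb he
          have h1 : x ^ (b - a) ∈ normalizer (T : Set G) := by
            refine mem_normalizer_of_conjMap_le (le_of_eq ?_)
            refine Subgroup.map_injective (f := (MulAut.conj (x ^ a)).toMonoidHom) (MulAut.conj (x ^ a)).injective ?_
            show (T.map (MulAut.conj (x ^ (b - a))).toMonoidHom).map (MulAut.conj (x ^ a)).toMonoidHom = _
            rw [conjMap_conjMap, ← pow_add, Nat.add_sub_cancel' hab.le]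
            exact he.symm
          have hcop : (b - a).Coprime (orderOf x) := by
            rw [hx]
            exact ((Nat.Prime.coprime_iff_not_dvd Fact.out).2
              (Nat.not_dvd_of_pos_of_lt (by omega) (by omega))).symm
          obtain ⟨m, hm⟩ := exists_pow_eq_self_of_coprime hcop
          rw [← hm]; exact pow_mem h1 m
        have hp0 := (Fact.out : p.Prime).pos
        rcases lt_or_gt_of_ne hij with h' | h'
        · exact hzero _ _ h' (Nat.mod_lt _ hp0) h
        · exact hzero _ _ h' (Nat.mod_lt _ hp0) h.symm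
      rw [hij]
    · exact (hT.map_conj hN.normal _).commute (hT.map_conj hN.normal _) h (heT _) (heT _)
  set A := Subgroup.closure (Set.range e) with hA
  letI : CommGroup A :=
    { Subgroup.toGroup A with
      mul_comm := fun a b => by
        refine Subtype.ext ?_
        have : ∀ u ∈ A, ∀ v ∈ A, u * v = v * u := by
          have hle : A ≤ Subgroup.centralizer (A : Set G) := by
            have h1 : A ≤ Subgroup.centralizer (Set.range e) := by
              rw [hA, Subgroup.closure_le]
              rintro _ ⟨i, rfl⟩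
              exact Subgroup.mem_centralizer_iff.2 fun _ ⟨j, hj⟩ => hj ▸ (hec j i)
            rw [hA, Subgroup.centralizer_closure]; exact h1
          exact fun u hu v hv => (Subgroup.mem_centralizer_iff.1 (hle hu) v hv).symm
        exact this a a.2 b b.2 }
  let E : ℕ → A := fun i => ⟨e i, Subgroup.subset_closure ⟨i, rfl⟩⟩
  have hconj : ∀ i, x * e i * x⁻¹ = e (i + 1) := fun i => by
    show x * (x ^ i * d * (x ^ i)⁻¹) * x⁻¹ = x ^ (i + 1) * d * (x ^ (i + 1))⁻¹
    rw [pow_succ']; group
  have hxA : ∀ a ∈ A, x * a * x⁻¹ ∈ A := fun a ha => by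
    induction ha using Subgroup.closure_induction with
    | mem y hy =>
      obtain ⟨i, rfl⟩ := hy
      rw [hconj]; exact Subgroup.subset_closure ⟨_, rfl⟩
    | one => simp
    | mul y z _ _ hy hz => simpa [mul_assoc] using mul_mem hy hz
    | inv y _ hy => simpa [mul_assoc] using inv_mem hy
  let σ : A →* A :=
    { toFun := fun a => ⟨x * a * x⁻¹, hxA a a.2⟩
      map_one' := Subtype.ext (by simp)
      map_mul' := fun a b => Subtype.ext (by simp [mul_assoc]) }
  have hσ : ∀ i, σ (E i) = E (i + 1) := fun i => Subtype.ext (hconj i)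
  have hxpp : x ^ p = 1 := by rw [← hx]; exact pow_orderOf_eq_one x
  have hE0 : E p = E 0 := Subtype.ext (by show x ^ p * _ * _ = x ^ 0 * _ * _; rw [hxpp, pow_zero])
  have hEp : (E p) ^ p = 1 := Subtype.ext (by
    rw [hE0, Subgroup.coe_pow, Subgroup.coe_one]
    show (x ^ 0 * (d : G) * (x ^ 0)⁻¹) ^ p = 1
    simp [hdp])
  set D := ∏ i ∈ Finset.range p, E i with hD
  set n := ∏ i ∈ Finset.range p, E i ^ i with hn
  have hshift : ∀ F : ℕ → A, F p = F 0 → ∏ i ∈ Finset.range p, F (i + 1) = ∏ i ∈ Finset.range p, F i := by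
    intro F hF
    have h1 := Finset.prod_range_succ F p
    rw [Finset.prod_range_succ', hF] at h1
    exact mul_right_cancel h1
  have hσD : σ D = D := by
    rw [hD, map_prod]
    simp only [hσ]
    exact hshift E hE0
  have hσn : σ n * D = n := by
    have h1 : σ n * D = ∏ i ∈ Finset.range p, E (i + 1) ^ (i + 1) := by
      rw [hD, ← hshift E hE0, hn, map_prod, ← Finset.prod_mul_distrib]
      exact Finset.prod_congr rfl fun i _ => by rw [map_pow, hσ, pow_succ]
    rw [h1, hn]
    exact hshift (fun i => E i ^ i) (by rw [hEp, pow_zero])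
  have hconjn : (n : G)⁻¹ * x * n = (D : G)⁻¹ * x := by
    have h1 : x * (n : G) * x⁻¹ * D = n := congrArg Subtype.val hσn
    have h2 : x * (n : G) = (n : G) * (D : G)⁻¹ * x := by
      calc x * (n : G) = x * (n : G) * x⁻¹ * D * (D : G)⁻¹ * x := by group
        _ = _ := by rw [h1]
    rw [mul_assoc, h2]; group
  have hDx : Commute x (D : G) := mul_inv_eq_iff_eq_mul.1 (congrArg Subtype.val hσD)
  have hD1 : (D : G) = 1 := by
    have h1 := hiso (n : G)⁻¹ (by rw [inv_inv, hconjn]; exact hDx.inv_right.mul_right (Commute.refl x))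
    rw [inv_inv, hconjn] at h1
    exact inv_eq_one.1 (mul_eq_right.1 h1)
  have hD1' : D = 1 := Subtype.ext hD1
  obtain ⟨q, hq⟩ : ∃ q, p = q + 1 := ⟨p - 1, by have := (Fact.out : p.Prime).pos; omega⟩
  rw [hD, hq, Finset.prod_range_succ'] at hD1'
  have hrest : ∏ i ∈ Finset.range q, E (i + 1) ∈ (Subgroup.centralizer (T : Set G)).subgroupOf A := by
    refine prod_mem fun i hi => Subgroup.mem_subgroupOf.2 (Subgroup.mem_centralizer_iff.2 fun t ht => ?_)
    refine hT.commute (hT.map_conj hN.normal _) (fun he => hxT ?_) ht (heT (i + 1))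
    have h1 : x ^ (i + 1) ∈ normalizer (T : Set G) := mem_normalizer_of_conjMap_le he.ge
    have hcop : (i + 1).Coprime (orderOf x) := by
      rw [hx]
      exact ((Nat.Prime.coprime_iff_not_dvd Fact.out).2
        (Nat.not_dvd_of_pos_of_lt (by omega) (by have := Finset.mem_range.1 hi; omega))).symm
    obtain ⟨m, hm⟩ := exists_pow_eq_self_of_coprime hcop
    rw [← hm]; exact pow_mem h1 m
  rw [eq_inv_of_mul_eq_one_left hD1', Subgroup.mem_subgroupOf, Subgroup.coe_inv, inv_mem_iff] at hrest
  have hdc : d ∈ Subgroup.center T := by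
    refine Subgroup.mem_center_iff.2 fun t => Subtype.ext ?_
    have h1 := Subgroup.mem_centralizer_iff.1 hrest t t.2
    simpa [E, e] using h1
  rcases IsSimpleGroup.eq_bot_or_eq_top_of_normal (Subgroup.center T) inferInstance with hb | ht
  · rw [hb, Subgroup.mem_bot] at hdc
    rw [hdc, orderOf_one] at hd
    exact (Fact.out : p.Prime).one_lt.ne hd
  · exact hN.not_commutative_factor hT hnab
      ⟨⟨fun a b => Subgroup.mem_center_iff.1 (ht.ge (Subgroup.mem_top b)) a⟩⟩

end Cfsg.Agent.S2972
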