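import Cfsg.Statements.S2975
import Cfsg.Agent.Lib.LocalEvenB.Isolated
import Cfsg.Agent.Lib.OddLocal.PAction

set_option autoImplicit false
open Cfsg

namespace Cfsg.Agent.S2975

open Subgroup LocalEvenB

/-- Let G be a finite group, p a prime and x ∈ G an isolated element of order p (the only conjugate of x commuting with x is x) which is not central modulo the largest normal subgroup of order prime to p, while x is central modulo the largest normal subgroup of order prime to p in every proper subgroup containing x, and the image of x is so in every quotient of G by a nontrivial normal subgroup (a minimal counterexample to the Z*_p statement). Then for every prime q, every q-subgroup of G that is normalized by x and maximal among the q-subgroups normalized by x is either trivial or a Sylow q-subgroup of G; and C_G(x) permutes the x-invariant Sylow q-subgroups of G transitively by conjugation. -/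
theorem result {G : Type*} [Group G] [Finite G] {p : ℕ} [Fact p.Prime] (x : G) (hx : orderOf x = p) (hiso : Cfsg.IsIsolated x) (hnz : ¬ Cfsg.InZStar p x) (hmin : ∀ (H : Subgroup G) (hxH : x ∈ H), H ≠ ⊤ → Cfsg.InZStar p (⟨x, hxH⟩ : ↥H)) (hquot : ∀ (N : Subgroup G) [N.Normal], N ≠ ⊥ → Cfsg.InZStar p (QuotientGroup.mk x : G ⧸ N)) (q : ℕ) [Fact q.Prime] : (∀ Q : Subgroup G, IsPGroup q ↥Q → x ∈ Subgroup.normalizer (Q : Set G) → (∀ R : Subgroup G, IsPGroup q ↥R → x ∈ Subgroup.normalizer (R : Set G) → Q ≤ R → R = Q) → Q = ⊥ ∨ ∃ S : Sylow q G, (S : Subgroup G) = Q) ∧ (∀ S₁ S₂ : Sylow q G, x ∈ Subgroup.normalizer ((S₁ : Subgroup G) : Set G) → x ∈ Subgroup.normalizer ((S₂ : Subgroup G) : Set G) → ∃ c ∈ Subgroup.centralizer ({x} : Set G), (S₁ : Subgroup G).map (MulAut.conj c).toMonoidHom = (S₂ : Subgroup G)) := by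
  classical
  have hxp : ∃ k : ℕ, orderOf x = p ^ k := ⟨1, by rw [hx, pow_one]⟩
  have hzx : IsPGroup p (zpowers x) := isPGroup_zpowers hxp
  have hnc : ¬ ∀ g : G, g * x = x * g := by
    intro h
    refine hnz fun g => ?_
    rw [h g, mul_inv_cancel_right, mul_inv_cancel]
    exact one_mem _
  refine ⟨fun Q hQ hxQ hmaxQ => ?_, fun S₁ S₂ h₁ h₂ => ?_⟩
  · by_cases hQ1 : Q = ⊥
    · exact Or.inl hQ1
    right
    set H := normalizer (Q : Set G) with hH
    haveI hQn : (Q.subgroupOf H).Normal := Subgroup.normal_in_normalizer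
    -- `Q` is a Sylow subgroup of its normalizer
    obtain ⟨R0⟩ : Nonempty (Sylow q H) := inferInstance
    suffices hR : (R0 : Subgroup H) = Q.subgroupOf H by
      obtain ⟨P0, hP0⟩ := hQ.exists_le_sylow
      refine ⟨P0, eq_of_inf_normalizer_le P0.isPGroup' hP0 fun n hn => ?_⟩
      have h1 : (P0 : Subgroup G).subgroupOf H = (R0 : Subgroup H) :=
        R0.is_maximal' P0.isPGroup'.comap_subtype fun y hy => hP0 (by rw [hR] at hy; exact hy)
      have h2 : (⟨n, hn.2⟩ : H) ∈ (P0 : Subgroup G).subgroupOf H := hn.1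
      rw [h1, hR] at h2
      exact h2
    by_cases hqp : q = p
    · subst hqp
      have hxQ' : x ∈ Q := by
        have hsup : IsPGroup q ↥(Q ⊔ zpowers x) :=
          hQ.to_sup_of_normal_left' hzx (Subgroup.zpowers_le.2 hxQ)
        refine (hmaxQ _ hsup ?_ le_sup_left).le (mem_sup_right (mem_zpowers x))
        exact Subgroup.le_normalizer (mem_sup_right (mem_zpowers x))
      have hHC := iso_normalizer_le hiso hQ hxQ'
      have hxR : (⟨x, hxQ⟩ : H) ∈ (R0 : Subgroup H) :=
        ((LocalEvenB.le_pCore hQn hQ.comap_subtype).trans (pCore_le_sylow R0)) (Subgroup.mem_subgroupOf.2 hxQ')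
      have hle : Q.subgroupOf H ≤ (R0 : Subgroup H) :=
        (LocalEvenB.le_pCore hQn hQ.comap_subtype).trans (pCore_le_sylow R0)
      have heq := hmaxQ ((R0 : Subgroup H).map H.subtype) (R0.isPGroup'.map _)
        (Subgroup.le_normalizer ⟨_, hxR, rfl⟩)
        (fun y hy => ⟨⟨y, Subgroup.le_normalizer hy⟩, hle (Subgroup.mem_subgroupOf.2 hy), rfl⟩)
      refine le_antisymm (fun y hy => ?_) hle
      exact Subgroup.mem_subgroupOf.2 (heq.le ⟨y, hy, rfl⟩)
    · have hHne : H ≠ ⊤ := by
        intro hT
        have hQnG : Q.Normal := Subgroup.normalizer_eq_top_iff.1 hT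
        have hcop : (Nat.card Q).Coprime p := by
          obtain ⟨k, hk⟩ := hQ.exists_card_eq
          rw [hk]
          exact ((Nat.coprime_primes Fact.out Fact.out).2 hqp).pow_left k
        have hQle := LocalEvenB.le_pPrimeCore hQnG hcop
        have h1 := hquot Q hQ1
        obtain ⟨hKn, hKc⟩ := pPrimeCore_spec (G := G ⧸ Q) p
        set L := (Cfsg.pPrimeCore p (G ⧸ Q)).comap (QuotientGroup.mk' Q) with hL
        have hLc : (Nat.card L).Coprime p := by
          have e : Nat.card L = Nat.card Q * Nat.card (Cfsg.pPrimeCore p (G ⧸ Q)) := by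
            have h2 : Q ≤ L := fun y hy => by
              rw [hL, Subgroup.mem_comap, QuotientGroup.mk'_apply, (QuotientGroup.eq_one_iff y).2 hy]
              exact one_mem _
            have h3 : Q.relIndex L = Nat.card (Cfsg.pPrimeCore p (G ⧸ Q)) := by
              calc Q.relIndex L = ((⊥ : Subgroup (G ⧸ Q)).comap (QuotientGroup.mk' Q)).relIndex L := by
                    rw [MonoidHom.comap_bot, QuotientGroup.ker_mk']
                _ = (⊥ : Subgroup (G ⧸ Q)).relIndex (L.map (QuotientGroup.mk' Q)) := Subgroup.relIndex_comap _ _ _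
                _ = _ := by
                    rw [hL, Subgroup.map_comap_eq_self_of_surjective (QuotientGroup.mk'_surjective Q),
                      Subgroup.relIndex_bot_left]
            rw [← h3, ← Subgroup.relIndex_bot_left Q, ← Subgroup.relIndex_bot_left L]
            exact (Subgroup.relIndex_mul_relIndex ⊥ Q L bot_le h2).symm
          rw [e]; exact Nat.Coprime.mul_left hcop hKc
        refine hnz fun g => LocalEvenB.le_pPrimeCore (inferInstance : L.Normal) hLc ?_
        rw [hL, Subgroup.mem_comap]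
        simpa using h1 (QuotientGroup.mk g)
      have hz := hmin H hxQ hHne
      obtain ⟨hKn, hKc⟩ := pPrimeCore_spec (G := H) p
      have hR0c : (Nat.card (R0 : Subgroup H)).Coprime p := by
        obtain ⟨k, hk⟩ := R0.isPGroup'.exists_card_eq
        rw [hk]
        exact ((Nat.coprime_primes Fact.out Fact.out).2 hqp).pow_left k
      set X := Cfsg.pPrimeCore p H ⊔ (R0 : Subgroup H)
      set x' : H := ⟨x, hxQ⟩
      have hX : ¬ p ∣ Nat.card X := fun hd =>
        (Nat.Prime.coprime_iff_not_dvd Fact.out).1 (card_sup_coprime hKc hR0c).symm hd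
      have hxX : zpowers x' ≤ normalizer (X : Set H) := by
        refine Subgroup.zpowers_le.2 (mem_normalizer_of_conj_mem fun y hy => ?_)
        have e : x' * y * x'⁻¹ = (y * x' * y⁻¹ * x'⁻¹)⁻¹ * y := by group
        rw [e]
        exact mul_mem (inv_mem (mem_sup_left (hz y))) hy
      have hQR : Q.subgroupOf H ≤ (R0 : Subgroup H) :=
        (LocalEvenB.le_pCore hQn hQ.comap_subtype).trans (pCore_le_sylow R0)
      obtain ⟨S, hQS, -, hSq, hxS, hSi⟩ := OddLocal.exists_invariant_sylow_ge
        (A := zpowers x') (p := p) (q := q)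
        (isPGroup_zpowers ⟨1, by rw [← Subgroup.orderOf_coe, pow_one]; exact hx⟩)
        hxX hX (hQR.trans le_sup_right) hQ.comap_subtype
        (Subgroup.zpowers_le.2 (by rw [Subgroup.normalizer_eq_top]; exact Subgroup.mem_top _))
      have hxS' : x ∈ normalizer ((S.map H.subtype : Subgroup G) : Set G) := by
        refine mem_normalizer_of_conj_mem ?_
        rintro _ ⟨y, hy, rfl⟩
        exact ⟨x' * y * x'⁻¹, (Subgroup.mem_normalizer_iff.1 (hxS (mem_zpowers x')) y).1 hy, by simp [x']⟩
      have heq := hmaxQ _ (hSq.map _) hxS'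
        (fun y hy => ⟨⟨y, Subgroup.le_normalizer hy⟩, hQS (Subgroup.mem_subgroupOf.2 hy), rfl⟩)
      have hSQ : S = Q.subgroupOf H :=
        le_antisymm (fun y hy => Subgroup.mem_subgroupOf.2 (heq.le ⟨y, hy, rfl⟩)) hQS
      refine le_antisymm (Subgroup.relIndex_eq_one.1 ?_) hQR
      rw [← hSQ]
      have h1 := Subgroup.relIndex_mul_relIndex S (R0 : Subgroup H) X (hSQ ▸ hQR) le_sup_right
      obtain ⟨k, hk⟩ := R0.isPGroup'.exists_card_eq
      obtain ⟨i, -, hi⟩ := (Nat.dvd_prime_pow Fact.out).1 (hk ▸ S.relIndex_dvd_card (R0 : Subgroup H))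
      rcases Nat.eq_zero_or_pos i with rfl | hi0
      · rw [hi, pow_zero]
      · exact absurd (Dvd.dvd.trans (hi ▸ dvd_pow_self q hi0.ne') ⟨_, h1.symm⟩) hSi
  · obtain ⟨g, hg⟩ := MulAction.exists_smul_eq G S₁ S₂
    have hS : (S₁ : Subgroup G).map (MulAut.conj g).toMonoidHom = (S₂ : Subgroup G) := by
      rw [← hg, Sylow.coe_subgroup_smul]; rfl
    set H := normalizer ((S₁ : Subgroup G) : Set G)
    have hgx : g⁻¹ * x * g⁻¹⁻¹ ∈ H := by
      have h3 := h₂
      rw [← hS, ← Subgroup.map_equiv_normalizer_eq _ (MulAut.conj g), Subgroup.mem_map_equiv] at h3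
      show g⁻¹ * x * g⁻¹⁻¹ ∈ normalizer ((S₁ : Subgroup G) : Set G)
      simpa using h3
    obtain ⟨k, hkH, hk⟩ := iso_conj_mem_subgroup hxp hiso h₁ hgx
    refine ⟨g * k, Subgroup.mem_centralizer_singleton_iff.2 ?_, ?_⟩
    · calc g * k * x = g * (k * x * k⁻¹) * k := by group
        _ = x * (g * k) := by rw [hk]; group
    · rw [← conjMap_conjMap, conjMap_eq_of_mem_normalizer hkH, hS]

end Cfsg.Agent.S2975
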