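import Cfsg.Statements.S2998
import Cfsg.Agent.Lib.LocalEvenB.Basic
import Cfsg.Agent.Lib.Transfer.Residual

set_option autoImplicit false
open Cfsg

namespace Cfsg.Agent.S2998

open Cfsg.Agent.LocalEvenB

/-- Let G be a finite group, p a prime, P a Sylow p-subgroup of G and x ∈ P an element such that N_G(R) ≤ C_G(x) for every nontrivial subgroup R of P. Then P ≤ C_G(x); every G-conjugate of x lying in P equals x (so g ∈ C_G(x) whenever g x g⁻¹ ∈ P); and for every normal subgroup N of G, the image of x in G ⧸ N has the same property with respect to the image of P: the normalizer of every nontrivial subgroup of the image of P centralizes the image of x. -/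
theorem result {G : Type*} [Group G] [Finite G] {p : ℕ} [Fact p.Prime] (P : Sylow p G) (x : G) (hxP : x ∈ (P : Subgroup G)) (hlc : ∀ R : Subgroup G, R ≤ (P : Subgroup G) → R ≠ ⊥ → Subgroup.normalizer (R : Set G) ≤ Subgroup.centralizer ({x} : Set G)) : (P : Subgroup G) ≤ Subgroup.centralizer ({x} : Set G) ∧ (∀ g : G, g * x * g⁻¹ ∈ (P : Subgroup G) → g * x * g⁻¹ = x) ∧ ∀ (N : Subgroup G) [N.Normal], ∀ R : Subgroup (G ⧸ N), R ≤ (P : Subgroup G).map (QuotientGroup.mk' N) → R ≠ ⊥ → Subgroup.normalizer (R : Set (G ⧸ N)) ≤ Subgroup.centralizer ({(QuotientGroup.mk x : G ⧸ N)} : Set (G ⧸ N)) := by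
  have hPC : (P : Subgroup G) ≤ Subgroup.centralizer ({x} : Set G) := by
    by_cases h : (P : Subgroup G) = ⊥
    · rw [h]; exact bot_le
    · exact Subgroup.le_normalizer.trans (hlc _ le_rfl h)
  refine ⟨hPC, fun g hg => ?_, ?_⟩
  · by_cases hy1 : g * x * g⁻¹ = 1
    · have : x = 1 := by simpa [mul_assoc] using congrArg (fun u => g⁻¹ * u * g) hy1
      simp [this]
    have hne : Subgroup.zpowers (g * x * g⁻¹) ≠ ⊥ := by rwa [Ne, Subgroup.zpowers_eq_bot]
    have hle : Subgroup.centralizer ({g * x * g⁻¹} : Set G) ≤ Subgroup.centralizer ({x} : Set G) := by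
      refine le_trans ?_ (hlc _ (Subgroup.zpowers_le.2 hg) hne)
      refine le_trans (fun c hc => ?_) (Subgroup.centralizer_le_normalizer (Subgroup.zpowers (g * x * g⁻¹) : Set G))
      rintro _ ⟨k, rfl⟩
      have hcc : Commute c (g * x * g⁻¹) := Subgroup.mem_centralizer_singleton_iff.1 hc
      exact (hcc.symm.zpow_left k).eq
    set C := Subgroup.centralizer ({x} : Set G) with hC
    have hmem : ∀ c, c ∈ C → g * c * g⁻¹ ∈ C := by
      intro c hc
      refine hle (Subgroup.mem_centralizer_singleton_iff.2 ?_)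
      have := Subgroup.mem_centralizer_singleton_iff.1 hc
      simp only [mul_assoc, inv_mul_cancel_left]
      rw [← mul_assoc c x, this, mul_assoc]
    have hgP : ((g • P : Sylow p G) : Subgroup G) ≤ C := by
      intro y hy
      rw [Sylow.coe_subgroup_smul] at hy
      obtain ⟨s, hs, rfl⟩ := hy
      simpa using hmem s (hPC hs)
    obtain ⟨c, hc⟩ := MulAction.exists_smul_eq ↥C (P.subtype hPC) ((g • P).subtype hgP)
    rw [Sylow.smul_subtype] at hc
    have hc' := Sylow.subtype_injective hc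
    have hn : (c : G)⁻¹ * g ∈ Subgroup.normalizer ((P : Subgroup G) : Set G) := by
      refine Sylow.smul_eq_iff_mem_normalizer.1 ?_
      rw [mul_smul, ← hc']
      simp [Submonoid.smul_def, Subgroup.smul_def]
    have hgC : g ∈ C := by
      by_cases h : (P : Subgroup G) = ⊥
      · have : x = 1 := by rw [h] at hxP; exact hxP
        exact Subgroup.mem_centralizer_singleton_iff.2 (by simp [this])
      · have := C.mul_mem c.2 (hlc _ le_rfl h hn)
        simpa using this
    rw [Subgroup.mem_centralizer_singleton_iff.1 hgC, mul_inv_cancel_right]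
  intro N _ R hR hR1
  set f := QuotientGroup.mk' N
  set H : Subgroup G := R.comap f with hH
  have hNH : N ≤ H := fun a ha => by
    have h0 : f a = 1 := (QuotientGroup.eq_one_iff a).2 ha
    simp [hH, Subgroup.mem_comap, h0, R.one_mem]
  have hH0 : H = N ⊔ ((P : Subgroup G) ⊓ H) := by
    refine le_antisymm (fun a ha => ?_) (sup_le hNH inf_le_right)
    obtain ⟨u, hu, hue⟩ := hR ha
    have h1 : a * u⁻¹ ∈ N := by
      rw [← QuotientGroup.eq_one_iff, QuotientGroup.mk_mul, QuotientGroup.mk_inv]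
      exact mul_inv_eq_one.2 hue.symm
    have h2 : u ∈ (P : Subgroup G) ⊓ H := ⟨hu, by
      have := H.mul_mem (H.inv_mem (hNH h1)) ha
      simpa [mul_assoc] using this⟩
    simpa using Subgroup.mul_mem_sup h1 h2
  -- a `p`-subgroup of `H` containing `P ⊓ H` equals it
  have hmax : ∀ Q : Subgroup G, IsPGroup p ↥Q → (P : Subgroup G) ⊓ H ≤ Q → Q ≤ H → Q = (P : Subgroup G) ⊓ H := by
    intro Q hQ hPQ hQH
    refine le_antisymm (fun q hq => ?_) hPQ
    have hq' : q ∈ ((N ⊔ ((P : Subgroup G) ⊓ H) : Subgroup G) : Set G) := hH0 ▸ hQH hq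
    rw [Subgroup.normal_mul] at hq'
    obtain ⟨a, ha, u, hu, rfl⟩ := hq'
    have haQ : a ∈ Q := by simpa using Q.mul_mem hq (Q.inv_mem (hPQ hu))
    obtain ⟨S, hS⟩ := Cfsg.Agent.Transfer.exists_sylow_eq_subgroupOf P N
    have hle : (S : Subgroup ↥N) ≤ Q.subgroupOf N := by
      rw [hS]
      exact fun b hb => hPQ ⟨hb, hNH b.2⟩
    have := S.is_maximal' hQ.comap_subtype hle
    have haP : (⟨a, ha⟩ : ↥N) ∈ (S : Subgroup ↥N) := this ▸ haQ
    rw [hS] at haP
    exact ⟨(P : Subgroup G).mul_mem haP hu.1, hQH hq⟩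
  have hK1 : (P : Subgroup G) ⊓ H ≠ ⊥ := by
    intro h
    rw [h, sup_bot_eq] at hH0
    refine hR1 ((Subgroup.eq_bot_iff_forall _).2 fun r hr => ?_)
    obtain ⟨a, rfl⟩ := QuotientGroup.mk'_surjective N r
    exact (QuotientGroup.eq_one_iff a).2 (hH0 ▸ (show a ∈ H from hr))
  intro y hy
  obtain ⟨n, rfl⟩ := QuotientGroup.mk'_surjective N y
  have hnH : ∀ a, a ∈ H → n * a * n⁻¹ ∈ H := by
    intro a ha
    show f (n * a * n⁻¹) ∈ R
    rw [map_mul, map_mul, map_inv]
    exact (Subgroup.mem_normalizer_iff.1 hy (f a)).1 ha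
  set K : Subgroup G := (P : Subgroup G) ⊓ H
  have hKp : IsPGroup p ↥K := P.isPGroup'.to_le inf_le_left
  obtain ⟨S, hS⟩ := (hKp.comap_of_injective H.subtype H.subtype_injective).exists_le_sylow
  have hSK : (S : Subgroup ↥H).map H.subtype = K :=
    hmax _ (S.isPGroup'.map _) (fun a ha => ⟨⟨a, ha.2⟩, hS ha, rfl⟩) (Subgroup.map_subtype_le _)
  obtain ⟨c, hc⟩ := sylow_conj_le S ((conjMap_isPGroup (g := n) hKp).comap_of_injective H.subtype H.subtype_injective)
  have hm : (c : G)⁻¹ * n ∈ Subgroup.normalizer (K : Set G) := by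
    refine mem_normalizer_of_conj_mem fun a ha => ?_
    have h1 : (c⁻¹ * ⟨n * a * n⁻¹, hnH a ha.2⟩ * c : ↥H) ∈ (S : Subgroup ↥H) :=
      mem_conjMap.1 (hc (show n * a * n⁻¹ ∈ K.map (MulAut.conj n).toMonoidHom from conjMap_apply_mem ha))
    have h2 : ((c⁻¹ * ⟨n * a * n⁻¹, hnH a ha.2⟩ * c : ↥H) : G) ∈ K := hSK ▸ ⟨_, h1, rfl⟩
    simpa [mul_assoc] using h2
  have hmC := hlc K inf_le_left hK1 hm
  have hcC : f (c : G) ∈ Subgroup.centralizer ({f x} : Set (G ⧸ N)) := by
    obtain ⟨u, hu, hue⟩ := hR (show f (c : G) ∈ R from c.2)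
    refine Subgroup.mem_centralizer_singleton_iff.2 ?_
    rw [← hue, ← map_mul, ← map_mul, Subgroup.mem_centralizer_singleton_iff.1 (hPC hu)]
  refine Subgroup.mem_centralizer_singleton_iff.2 ?_
  have h3 : f ((c : G)⁻¹ * n) * f x = f x * f ((c : G)⁻¹ * n) := by
    rw [← map_mul, ← map_mul, Subgroup.mem_centralizer_singleton_iff.1 hmC]
  have h4 : Commute (f c * f ((c : G)⁻¹ * n)) (f x) :=
    Commute.mul_left (Subgroup.mem_centralizer_singleton_iff.1 hcC) h3
  rw [← map_mul, mul_inv_cancel_left] at h4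
  exact h4.eq

end Cfsg.Agent.S2998
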