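import Cfsg.Statements.S3003
import Cfsg.Agent.Lib.LocalEvenB.Basic
import Cfsg.Agent.Lib.Basics.CoprimeGen
import Cfsg.Agent.Lib.Basics.Tools

set_option autoImplicit false
open Cfsg

namespace Cfsg.Agent.S3003

open Cfsg.Agent.LocalEvenB
open scoped commutatorElement

/-- Let G be a finite group, p a prime and Q a large p-subgroup of G: C_G(Q) ≤ Q and N_G(U) ≤ N_G(Q) for every nontrivial subgroup U of C_G(Q). Let Q ≤ G₁ ≤ G, let R be a subgroup of order prime to p normalized by G₁, and let U ≤ G₁ be a p-subgroup. If U contains a nontrivial element which is G₁-conjugate to an element of Z(Q), then C_R(U) = 1. In particular, if U is elementary abelian of order at least p² and every maximal subgroup of U contains a nontrivial element G₁-conjugate into Z(Q), then R = 1. -/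
theorem result {G : Type*} [Group G] [Finite G] {p : ℕ} [Fact p.Prime] (Q : Subgroup G) (hQp : IsPGroup p ↥Q) (hlarge : Cfsg.IsLarge Q) (G₁ : Subgroup G) (hQG : Q ≤ G₁) (R : Subgroup G) (hR : (Nat.card ↥R).Coprime p) (hGR : G₁ ≤ Subgroup.normalizer (R : Set G)) (U : Subgroup G) (hUG : U ≤ G₁) (hUp : IsPGroup p ↥U) : ((∃ x ∈ U, x ≠ 1 ∧ ∃ g ∈ G₁, g * x * g⁻¹ ∈ Q ⊓ Subgroup.centralizer (Q : Set G)) → R ⊓ Subgroup.centralizer (U : Set G) = ⊥) ∧ (Cfsg.IsElementaryAbelian p U → p ^ 2 ≤ Nat.card ↥U → (∀ U₀ : Subgroup G, U₀ ≤ U → IsCoatom (U₀.subgroupOf U) → ∃ x ∈ U₀, x ≠ 1 ∧ ∃ g ∈ G₁, g * x * g⁻¹ ∈ Q ⊓ Subgroup.centralizer (Q : Set G)) → R = ⊥) := by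
  classical
  have key : ∀ x : G, x ≠ 1 → (∃ g ∈ G₁, g * x * g⁻¹ ∈ Q ⊓ Subgroup.centralizer (Q : Set G)) →
      ∀ c ∈ R, Commute c x → c = 1 := by
    rintro x hx ⟨g, hg, hz⟩ c hc hcx
    have hRQ : ∀ y ∈ R, y ∈ Q → y = 1 := by
      intro y hyR hyQ
      obtain ⟨k, hk⟩ := IsPGroup.iff_orderOf.1 hQp ⟨y, hyQ⟩
      rw [← Subgroup.orderOf_coe] at hk
      have h1 := Subgroup.orderOf_dvd_natCard R hyR
      rw [show orderOf ((⟨y, hyQ⟩ : Q) : G) = orderOf y from rfl] at hk
      rw [hk] at h1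
      rw [← orderOf_eq_one_iff, hk]
      exact Nat.eq_one_of_dvd_coprimes (Nat.Coprime.pow_right k hR) h1 dvd_rfl
    set d := g * c * g⁻¹ with hd
    set z := g * x * g⁻¹ with hzdef
    have hdR : d ∈ R := (Subgroup.mem_normalizer_iff.1 (hGR hg) c).1 hc
    have hdz : Commute d z := hcx.conj g |> fun h => h
    have hzne : Subgroup.zpowers z ≠ ⊥ := by
      rw [Ne, Subgroup.zpowers_eq_bot, hzdef, conj_eq_one_iff]; exact hx
    have hdN : d ∈ Subgroup.normalizer (Q : Set G) := by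
      refine hlarge.2 _ (Subgroup.zpowers_le.2 hz.2) hzne (Subgroup.centralizer_le_normalizer _ ?_)
      rw [Subgroup.mem_centralizer_iff]
      intro w hw
      obtain ⟨i, rfl⟩ := Subgroup.mem_zpowers_iff.1 hw
      exact ((hdz.zpow_right i).eq).symm
    have hdC : d ∈ Subgroup.centralizer (Q : Set G) := by
      refine Subgroup.mem_centralizer_iff.2 fun q hq => ?_
      have h1 : ⁅q, d⁆ = 1 := by
        refine hRQ _ ?_ ?_
        · exact R.mul_mem ((Subgroup.mem_normalizer_iff.1 (hGR (hQG hq)) d).1 hdR) (R.inv_mem hdR)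
        · rw [commutatorElement_def, mul_assoc, mul_assoc, ← mul_assoc d]
          exact Q.mul_mem hq ((Subgroup.mem_normalizer_iff.1 hdN q⁻¹).1 (Q.inv_mem hq))
      exact commutatorElement_eq_one_iff_mul_comm.1 h1
    exact conj_eq_one_iff.1 (hRQ d hdR (hlarge.1 hdC))
  constructor
  · rintro ⟨x, hxU, hx1, hg⟩
    rw [Subgroup.eq_bot_iff_forall]
    exact fun c hc => key x hx1 hg c hc.1 (Subgroup.mem_centralizer_iff.1 hc.2 x hxU).symm
  intro hU hU2 hcov
  haveI := hU.1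
  have hUR : U ≤ Subgroup.normalizer (R : Set G) := hUG.trans hGR
  obtain ⟨k, hk⟩ := IsPGroup.iff_card.1 hUp
  have hcopUR : (Nat.card U).Coprime (Nat.card R) := by rw [hk]; exact Nat.Coprime.pow_left k hR.symm
  rw [← le_bot_iff]
  refine (Basics.le_iSup_inf_centralizer_cyclic U R hUR hcopUR).trans (iSup₂_le fun B hB => ?_)
  obtain ⟨hBU, y, hy, hsup⟩ := hB
  intro c hc
  rw [Subgroup.mem_bot]
  have hp := (Fact.out : p.Prime)
  -- a coatom of `U` inside `B`
  have hBc : Nat.card U ≤ p * Nat.card B := by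
    have hyB : Subgroup.zpowers y ≤ Subgroup.normalizer (B : Set G) := by
      refine Subgroup.zpowers_le.2 (Subgroup.centralizer_le_normalizer _ ?_)
      refine Subgroup.mem_centralizer_iff.2 fun b hb => ?_
      exact congrArg Subtype.val (hU.1.is_comm.comm ⟨b, hBU hb⟩ ⟨y, hy⟩)
    have h2 := Basics.card_mul_card_eq_card_sup_mul_card_inf hyB
    rw [hsup, Nat.card_zpowers] at h2
    have h3 : orderOf y ≤ p := Nat.le_of_dvd hp.pos (orderOf_dvd_of_pow_eq_one (hU.2 y hy))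
    calc Nat.card U ≤ Nat.card U * Nat.card ↥(B ⊓ Subgroup.zpowers y) := Nat.le_mul_of_pos_right _ Nat.card_pos
      _ = Nat.card B * orderOf y := h2.symm
      _ ≤ Nat.card B * p := Nat.mul_le_mul_left _ h3
      _ = p * Nat.card B := mul_comm _ _
  obtain ⟨U₀, hU₀U, hco, hU₀B⟩ : ∃ U₀ : Subgroup G, U₀ ≤ U ∧ IsCoatom (U₀.subgroupOf U) ∧ U₀ ≤ B := by
    by_cases hBe : B = U
    · obtain h | ⟨M, hM, -⟩ := eq_top_or_exists_le_coatom (⊥ : Subgroup U)
      · exfalso
        have := congrArg (fun X : Subgroup U => Nat.card X) h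
        simp only [Subgroup.card_bot, Subgroup.card_top] at this
        rw [← this] at hU2
        exact absurd hU2 (not_le.2 (Nat.one_lt_pow two_ne_zero hp.one_lt))
      · refine ⟨M.map U.subtype, Subgroup.map_subtype_le M, ?_, hBe ▸ Subgroup.map_subtype_le M⟩
        rwa [Subgroup.subgroupOf, Subgroup.comap_map_eq_self_of_injective U.subtype_injective]
    · refine ⟨B, hBU, ⟨fun h => hBe (le_antisymm hBU (Subgroup.subgroupOf_eq_top.1 h)), fun Z hZ => ?_⟩, le_rfl⟩
      have hBZ : Nat.card B < Nat.card Z := by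
        rw [← Nat.card_congr (Subgroup.subgroupOfEquivOfLe hBU).toEquiv]
        refine lt_of_le_of_ne (Nat.le_of_dvd Nat.card_pos (Subgroup.card_dvd_of_le hZ.le)) fun he => hZ.ne ?_
        exact Subgroup.eq_of_le_of_card_ge hZ.le he.ge
      obtain ⟨j, hj⟩ := IsPGroup.iff_card.1 (hUp.to_subgroup Z)
      obtain ⟨i, hi⟩ := IsPGroup.iff_card.1 (hUp.to_le hBU)
      rw [hi, hj] at hBZ
      rw [hk, hi, mul_comm, ← pow_succ] at hBc
      refine Subgroup.eq_top_of_card_eq Z (le_antisymm (Nat.le_of_dvd Nat.card_pos (Subgroup.card_subgroup_dvd_card Z)) ?_)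
      rw [hk, hj]
      have h4 := (Nat.pow_lt_pow_iff_right hp.one_lt).1 hBZ
      exact hBc.trans (Nat.pow_le_pow_right hp.pos h4)
  obtain ⟨x, hx, hx1, hg⟩ := hcov U₀ hU₀U hco
  exact key x hx1 hg c hc.1 (Subgroup.mem_centralizer_iff.1 hc.2 x (hU₀B hx)).symm

end Cfsg.Agent.S3003
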