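import Cfsg.Statements.S3006
import Cfsg.Agent.Lib.LocalEvenB.CentrallyLarge

set_option autoImplicit false
open scoped Pointwise
open Cfsg

namespace Cfsg.Agent.S3006

open Cfsg.Agent.LocalEvenB
open scoped Pointwise

/-- Let P be a finite p-group, Q a centrally large subgroup of P (|Q|·|Z(Q)| maximal among subgroups of P) and A an abelian subgroup of P of largest order. Then QA = AQ is a centrally large subgroup of P, C_{QA}(Q ∩ A) = Z(Q)·A, and the subgroup generated by all centrally large subgroups of P contains C_P(Z(J(P))), where J(P) is generated by the abelian subgroups of largest order. -/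
theorem result {p : ℕ} [Fact p.Prime] (P : Type*) [Group P] [Finite P] (hP : IsPGroup p P) (Q A : Subgroup P) (hQ : Cfsg.IsCentrallyLarge Q) (hA : A ∈ Cfsg.maxAbelianSubgroups P) : ((Q ⊔ A : Subgroup P) : Set P) = (Q : Set P) * (A : Set P) ∧ Cfsg.IsCentrallyLarge (Q ⊔ A) ∧ (Q ⊔ A) ⊓ Subgroup.centralizer ((Q ⊓ A : Subgroup P) : Set P) = (Q ⊓ Subgroup.centralizer (Q : Set P)) ⊔ A ∧ (((Q ⊓ Subgroup.centralizer (Q : Set P)) ⊔ A : Subgroup P) : Set P) = ((Q ⊓ Subgroup.centralizer (Q : Set P)) : Set P) * (A : Set P) ∧ Subgroup.centralizer ((Cfsg.thompsonSubgroupA P ⊓ Subgroup.centralizer (Cfsg.thompsonSubgroupA P : Set P) : Subgroup P) : Set P) ≤ Cfsg.centrallyLargeJoin P := by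
  obtain ⟨hmul, hQA, hTZ⟩ := cl_sup_maxAbelian hQ hA
  obtain ⟨hQl, hQc⟩ := (isCentrallyLarge_iff Q).1 hQ
  rw [cl_center hQ]
  set Z := Subgroup.centralizer (Q : Set P) with hZ
  set T := Q ⊓ A with hT
  haveI := hA.1
  have hprod : ∀ x ∈ Q ⊔ A, x ∈ Subgroup.centralizer (T : Set P) → x ∈ (Z : Set P) * (A : Set P) := by
    intro x hx hxT
    rw [← SetLike.mem_coe, hmul] at hx
    obtain ⟨q, hq, a, ha, rfl⟩ := hx
    have haT : a ∈ Subgroup.centralizer (T : Set P) :=
      Subgroup.centralizer_le (SetLike.coe_subset_coe.2 inf_le_right) ((maxAbelian_centralizer hA).ge ha)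
    have hqT : q ∈ Subgroup.centralizer (T : Set P) := by
      have := (Subgroup.centralizer (T : Set P)).mul_mem hxT ((Subgroup.centralizer (T : Set P)).inv_mem haT)
      simpa using this
    have hqTZ : q ∈ T ⊔ Z := by
      rw [← hTZ, centralizer_sup]
      exact ⟨hqT, Subgroup.le_centralizer_iff.1 le_rfl hq⟩
    have hnorm : T ≤ Subgroup.normalizer (Z : Set P) := by
      refine fun t ht => mem_normalizer_of_conj_mem fun z hz => ?_
      rw [Subgroup.mem_centralizer_iff.1 hz t ht.1, mul_inv_cancel_right]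
      exact hz
    rw [sup_comm, ← SetLike.mem_coe, Subgroup.coe_mul_of_right_le_normalizer_left _ _ hnorm] at hqTZ
    obtain ⟨z, hz, t, ht, rfl⟩ := hqTZ
    exact ⟨z, hz, t * a, A.mul_mem ht.2 ha, (mul_assoc z t a).symm⟩
  have hle : Z ⊔ A ≤ (Q ⊔ A) ⊓ Subgroup.centralizer (T : Set P) :=
    le_inf (sup_le_sup_right hQc A) (sup_le
      (Subgroup.centralizer_le (SetLike.coe_subset_coe.2 inf_le_left))
      ((maxAbelian_centralizer hA).ge.trans (Subgroup.centralizer_le (SetLike.coe_subset_coe.2 inf_le_right))))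
  rw [inf_eq_right.2 (SetLike.coe_subset_coe.2 hQc : (Z : Set P) ⊆ (Q : Set P))]
  refine ⟨hmul, hQA, le_antisymm (fun x hx => ?_) hle, Set.Subset.antisymm (fun x hx => hprod x (hle hx).1 (hle hx).2) ?_, ?_⟩
  · obtain ⟨z, hz, a, ha, rfl⟩ := hprod x hx.1 hx.2
    exact Subgroup.mul_mem_sup hz ha
  · rintro _ ⟨z, hz, a, ha, rfl⟩
    exact Subgroup.mul_mem_sup hz ha
  · refine centralizer_centerThompson_le centrallyLargeJoin_cl (sSup_le fun B hB => ?_)
    exact le_sup_right.trans (le_sSup (show Q ⊔ B ∈ _ from (cl_sup_maxAbelian hQ hB).2.1))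

end Cfsg.Agent.S3006
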