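import Cfsg.Statements.S3008
import Cfsg.Agent.Lib.Components.CLNormal

set_option autoImplicit false
open Cfsg
open Cfsg.Agent.LocalEvenB

namespace Cfsg.Agent.S3008

/-- Let P be a finite p-group, with J(P) generated by its abelian subgroups of largest order and J̃(P) = C_P(Z(J(P))); call R ≤ P centrally large if |R|·|Z(R)| is as large as possible, and let P_MCL be generated by the minimal centrally large subgroups. Then: for every centrally large Q, Q·J(P) ⊇ J̃(P); some minimal centrally large subgroup of P is normalized by both J(P) and P_MCL; if P = J(P) and d(P)² = |P|·|Z(P)|, where d(P) is the largest order of an abelian subgroup, then every minimal centrally large subgroup of P is abelian; and if every minimal centrally large subgroup is abelian then J̃(P) = J(P). -/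
theorem result {p : ℕ} [Fact p.Prime] (P : Type*) [Group P] [Finite P] (hP : IsPGroup p P) : (∀ Q : Subgroup P, Cfsg.IsCentrallyLarge Q → Subgroup.centralizer ((Cfsg.thompsonSubgroupA P ⊓ Subgroup.centralizer (Cfsg.thompsonSubgroupA P : Set P) : Subgroup P) : Set P) ≤ Q ⊔ Cfsg.thompsonSubgroupA P) ∧ (∃ Q : Subgroup P, Cfsg.IsMinimalCentrallyLarge Q ∧ Cfsg.thompsonSubgroupA P ≤ Subgroup.normalizer (Q : Set P) ∧ Cfsg.minimalCentrallyLargeJoin P ≤ Subgroup.normalizer (Q : Set P)) ∧ (Cfsg.thompsonSubgroupA P = ⊤ → (∀ A ∈ Cfsg.maxAbelianSubgroups P, Nat.card ↥A ^ 2 = Nat.card P * Nat.card ↥(Subgroup.center P)) → ∀ Q : Subgroup P, Cfsg.IsMinimalCentrallyLarge Q → IsMulCommutative ↥Q) ∧ ((∀ Q : Subgroup P, Cfsg.IsMinimalCentrallyLarge Q → IsMulCommutative ↥Q) → Subgroup.centralizer ((Cfsg.thompsonSubgroupA P ⊓ Subgroup.centralizer (Cfsg.thompsonSubgroupA P : Set P) : Subgroup P) : Set P) = Cfsg.thompsonSubgroupA P) := by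
  haveI := hP.isNilpotent
  have hJM : (∀ Q : Subgroup P, Cfsg.IsMinimalCentrallyLarge Q → IsMulCommutative ↥Q) →
      Subgroup.centralizer ((Cfsg.thompsonSubgroupA P ⊓ Subgroup.centralizer (Cfsg.thompsonSubgroupA P : Set P) : Subgroup P) : Set P) = Cfsg.thompsonSubgroupA P := by
    intro h
    obtain ⟨Q0, hQ0⟩ := exists_isCentrallyLarge P
    obtain ⟨Q, -, hQ⟩ := exists_isMinimalCentrallyLarge_le hQ0
    have hset : Cfsg.minimalCentrallyLargeJoin P = Cfsg.thompsonSubgroupA P := by
      unfold Cfsg.minimalCentrallyLargeJoin Cfsg.thompsonSubgroupA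
      congr 1
      exact Set.ext fun X => minCL_abelian hQ (h Q hQ) X
    refine le_antisymm (centralizer_centerThompson_le (hset ▸ minimalCentrallyLargeJoin_cl) le_rfl) ?_
    exact Subgroup.le_centralizer_iff.1 inf_le_right
  refine ⟨fun Q hQ => centralizer_centerThompson_le (cl_sup_thompson hQ) le_sup_right,
    Cfsg.Agent.CLNormal.exists_normalized, fun hJ hd => ?_, hJM⟩
  obtain ⟨Q0, hQ0⟩ := exists_isCentrallyLarge P
  have hTop : Cfsg.IsCentrallyLarge (⊤ : Subgroup P) := by
    have := cl_sup_thompson hQ0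
    rwa [hJ, sup_top_eq] at this
  obtain ⟨hTl, -⟩ := (isCentrallyLarge_iff _).1 hTop
  haveI := Fintype.ofFinite {A : Subgroup P // IsMulCommutative ↥A}
  haveI : Nonempty {A : Subgroup P // IsMulCommutative ↥A} := ⟨⟨⊥, inferInstance⟩⟩
  obtain ⟨⟨A, hAc⟩, -, hA⟩ := Finset.univ.exists_max_image
    (fun A : {A : Subgroup P // IsMulCommutative ↥A} => Nat.card ↥A.1) Finset.univ_nonempty
  have hAm : A ∈ Cfsg.maxAbelianSubgroups P := ⟨hAc, fun B hB => hA ⟨B, hB⟩ (Finset.mem_univ _)⟩
  have hAcl : Cfsg.IsCentrallyLarge A := by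
    refine (isCentrallyLarge_iff A).2 ⟨(isCentralizerLarge_iff A).2 fun X =>
      ((isCentralizerLarge_iff _).1 hTl X).trans (le_of_eq ?_), (maxAbelian_centralizer hAm).le⟩
    unfold cdMeasure
    rw [maxAbelian_centralizer hAm, ← pow_two, hd A hAm, Subgroup.card_top]
    congr 2
    rw [Subgroup.coe_top, Subgroup.centralizer_univ]
  obtain ⟨Q, hQA, hQ⟩ := exists_isMinimalCentrallyLarge_le hAcl
  have hQc : IsMulCommutative ↥Q := by
    refine Subgroup.le_centralizer_iff_isMulCommutative.1 ?_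
    exact hQA.trans ((Subgroup.le_centralizer_iff_isMulCommutative.2 hAc).trans
      (Subgroup.centralizer_le (SetLike.coe_subset_coe.2 hQA)))
  exact fun R hR => ((minCL_abelian hQ hQc R).1 hR).1

end Cfsg.Agent.S3008
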