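import Cfsg.Statements.S3011
import Cfsg.Agent.Lib.InvChar.FourMeets

set_option autoImplicit false
open Cfsg

namespace Cfsg.Agent.S3011

variable {G : Type*} [Group G] [Finite G]

theorem eq_one_of_sq {d : G} (hd : Odd (orderOf d)) (h : d * d = 1) : d = 1 := by
  have h1 : orderOf d ∣ 2 := orderOf_dvd_of_pow_eq_one (by rw [pow_two]; exact h)
  exact orderOf_eq_one_iff.1 (Nat.eq_one_of_dvd_coprimes (Nat.coprime_two_left.2 hd) h1 dvd_rfl)

theorem sidki_core {a b d e : G} (hb : b * b = 1) (hab : Commute a b)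
    (hd : Odd (orderOf d)) (hd1 : d ≠ 1) (he : Odd (orderOf e)) (he1 : e ≠ 1)
    (hda : a * d * a⁻¹ = d⁻¹) (hdb : Commute b d) (heb : b * e * b⁻¹ = e⁻¹) (hea : Commute a e)
    (H : ∀ h : G, Odd (orderOf h) → (a * h * a⁻¹ = h⁻¹ ∨ (a * b) * h * (a * b)⁻¹ = h⁻¹) →
      Commute a h ∨ Commute b h ∨ Commute (a * b) h) : False := by
  have hai : a * e * a⁻¹ = e := by rw [hea.eq, mul_inv_cancel_right]
  have hai' : a * e⁻¹ * a⁻¹ = e⁻¹ := by rw [hea.inv_right.eq, mul_inv_cancel_right]
  have hbd : b * d * b⁻¹ = d := by rw [hdb.eq, mul_inv_cancel_right]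
  have hp : Odd (orderOf (e⁻¹ * d * e)) := by
    rw [show e⁻¹ * d * e = e⁻¹ * d * e⁻¹⁻¹ by rw [inv_inv],
      Cfsg.Agent.Invol.orderOf_conj]; exact hd
  have hpa : a * (e⁻¹ * d * e) * a⁻¹ = (e⁻¹ * d * e)⁻¹ := by
    calc a * (e⁻¹ * d * e) * a⁻¹ = (a * e⁻¹ * a⁻¹) * (a * d * a⁻¹) * (a * e * a⁻¹) := by group
      _ = (e⁻¹ * d * e)⁻¹ := by rw [hai, hai', hda]; group
  have hde : Commute d e := by
    rcases H _ hp (Or.inl hpa) with h | h | h
    · exfalso
      have h1 : a * (e⁻¹ * d * e) * a⁻¹ = e⁻¹ * d * e := by rw [h.eq, mul_inv_cancel_right]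
      have h2 := eq_one_of_sq hp (mul_eq_one_iff_eq_inv.2 (h1.symm.trans hpa))
      exact hd1 (by
        calc d = e * (e⁻¹ * d * e) * e⁻¹ := by group
          _ = 1 := by rw [h2]; group)
    · have h1 : b * (e⁻¹ * d * e) * b⁻¹ = e⁻¹ * d * e := by rw [h.eq, mul_inv_cancel_right]
      have h2 : e * d * e⁻¹ = e⁻¹ * d * e := by
        rw [← h1]
        calc e * d * e⁻¹ = (b * e * b⁻¹)⁻¹ * (b * d * b⁻¹) * (b * e * b⁻¹) := by
              rw [heb, hbd, inv_inv]
          _ = b * (e⁻¹ * d * e) * b⁻¹ := by group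
      have h3 : Commute d (e * e) := by
        show d * (e * e) = e * e * d
        calc d * (e * e) = e * (e⁻¹ * d * e) * e := by group
          _ = e * e * d := by rw [← h2]; group
      exact Cfsg.Agent.Invol.commute_of_mem_zpowers (t := d) (by rw [pow_two]; exact h3)
        (Cfsg.Agent.InvChar.mem_zpowers_sq he)
    · have h1 : a * b * (e⁻¹ * d * e) * (a * b)⁻¹ = e⁻¹ * d * e := by
        rw [h.eq, mul_inv_cancel_right]
      have h2 : e * d⁻¹ * e⁻¹ = e⁻¹ * d * e := by
        rw [← h1]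
        calc e * d⁻¹ * e⁻¹ = a * (b * e * b⁻¹)⁻¹ * (b * d * b⁻¹) * (b * e * b⁻¹) * a⁻¹ := by
              rw [heb, hbd, inv_inv]
              calc e * d⁻¹ * e⁻¹ = (a * e * a⁻¹) * (a * d * a⁻¹) * (a * e⁻¹ * a⁻¹) := by
                    rw [hai, hai', hda]
                _ = a * e * d * e⁻¹ * a⁻¹ := by group
          _ = a * b * (e⁻¹ * d * e) * (a * b)⁻¹ := by group
      -- `e * e` inverts `d`
      have h3 : (e * e) * d⁻¹ * (e * e)⁻¹ = d := by
        calc (e * e) * d⁻¹ * (e * e)⁻¹ = e * (e * d⁻¹ * e⁻¹) * e⁻¹ := by group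
          _ = d := by rw [h2]; group
      have h4 : Commute d ((e * e) * (e * e)) := by
        have h5 : (e * e) * d * (e * e)⁻¹ = d⁻¹ := by
          calc (e * e) * d * (e * e)⁻¹ = ((e * e) * d⁻¹ * (e * e)⁻¹)⁻¹ := by simp [mul_inv_rev, mul_assoc]
            _ = d⁻¹ := by rw [h3]
        show d * ((e * e) * (e * e)) = (e * e) * (e * e) * d
        symm
        calc (e * e) * (e * e) * d = ((e * e) * ((e * e) * d * (e * e)⁻¹) * (e * e)⁻¹) *
              ((e * e) * (e * e)) := by group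
          _ = d * ((e * e) * (e * e)) := by rw [h5, h3]
      have he2 : Odd (orderOf (e ^ 2)) := Odd.of_dvd_nat he (orderOf_pow_dvd 2)
      have h6 : Commute d (e ^ 2) :=
        Cfsg.Agent.Invol.commute_of_mem_zpowers (t := d)
          (show Commute d ((e ^ 2) ^ 2) by rw [pow_two, pow_two]; exact h4)
          (Cfsg.Agent.InvChar.mem_zpowers_sq he2)
      exact Cfsg.Agent.Invol.commute_of_mem_zpowers h6 (Cfsg.Agent.InvChar.mem_zpowers_sq he)
  have hn : Odd (orderOf (d * e)) :=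
    (hd.mul he).of_dvd_nat hde.orderOf_mul_dvd_mul_orderOf
  have hA1 : a * (d * e) * a⁻¹ = d⁻¹ * e := by
    calc a * (d * e) * a⁻¹ = (a * d * a⁻¹) * (a * e * a⁻¹) := by group
      _ = _ := by rw [hda, hai]
  have hB1 : b * (d * e) * b⁻¹ = d * e⁻¹ := by
    calc b * (d * e) * b⁻¹ = (b * d * b⁻¹) * (b * e * b⁻¹) := by group
      _ = _ := by rw [hbd, heb]
  have hC1 : a * b * (d * e) * (a * b)⁻¹ = (d * e)⁻¹ := by
    calc a * b * (d * e) * (a * b)⁻¹ = a * (b * (d * e) * b⁻¹) * a⁻¹ := by group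
      _ = (a * d * a⁻¹) * (a * e⁻¹ * a⁻¹) := by rw [hB1]; group
      _ = (d * e)⁻¹ := by rw [hda, hai', mul_inv_rev, hde.inv_inv.eq]
  rcases H _ hn (Or.inr hC1) with h | h | h
  · have h1 : a * (d * e) * a⁻¹ = d * e := by rw [h.eq, mul_inv_cancel_right]
    have h2 : d = d⁻¹ := (mul_right_cancel (hA1.symm.trans h1)).symm
    exact hd1 (eq_one_of_sq hd (mul_eq_one_iff_eq_inv.2 h2))
  · have h1 : b * (d * e) * b⁻¹ = d * e := by rw [h.eq, mul_inv_cancel_right]
    have h2 : e = e⁻¹ := (mul_left_cancel (hB1.symm.trans h1)).symm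
    exact he1 (eq_one_of_sq he (mul_eq_one_iff_eq_inv.2 h2))
  · have h1 : a * b * (d * e) * (a * b)⁻¹ = d * e := by rw [h.eq, mul_inv_cancel_right]
    have h2 := eq_one_of_sq hn (mul_eq_one_iff_eq_inv.2 (h1.symm.trans hC1))
    have h3 : e = d⁻¹ := eq_inv_of_mul_eq_one_right h2
    rw [h3, inv_inv] at hai'
    exact hd1 (eq_one_of_sq hd (mul_eq_one_iff_eq_inv.2 (hai'.symm.trans hda)))

/-- Let G be a finite group and V a nontrivial elementary abelian 2-subgroup of G of order at most 4 such that, whenever an element of V inverts an element h of G of odd order, some nontrivial element of V commutes with h. Then V meets O₂(G) nontrivially. (The case of order at most 4 has a short argument from the Baer–Suzuki theorem.) -/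
theorem result {G : Type*} [Group G] [Finite G] (V : Subgroup G) (hV : Cfsg.IsElementaryAbelian 2 V) (hV1 : V ≠ ⊥) (hS : Cfsg.IsSidkiPair V) (h4 : Nat.card V ≤ 4) : V ⊓ Cfsg.pCore 2 G ≠ ⊥ := by
      classical
      intro hbot
      have hexp : ∀ v ∈ V, v * v = 1 := fun v hv => by rw [← pow_two]; exact hV.2 v hv
      have hcomm : ∀ u ∈ V, ∀ v ∈ V, Commute u v := fun u hu v hv =>
        congrArg Subtype.val (hV.1.is_comm.comm ⟨u, hu⟩ ⟨v, hv⟩)
      have hd : ∀ a ∈ V, a ≠ 1 → ∃ d : G, Odd (orderOf d) ∧ d ≠ 1 ∧ a * d * a⁻¹ = d⁻¹ ∧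
          ∃ b ∈ V, b ≠ 1 ∧ b ≠ a ∧ Commute b d := by
        intro a ha ha1
        obtain ⟨d, hodd, hd1, hinv⟩ := Cfsg.Agent.InvChar.exists_odd_inverted
          (Cfsg.Agent.Invol.orderOf_two_of_mul_self (hexp a ha) ha1) (fun hc => ha1 (by
            have : a ∈ V ⊓ Cfsg.pCore 2 G := ⟨ha, hc⟩
            rwa [hbot, Subgroup.mem_bot] at this))
        obtain ⟨b, hb, hb1, hbd⟩ := hS d a ha hodd hinv
        refine ⟨d, hodd, hd1, hinv, b, hb, hb1, ?_, hbd⟩
        rintro rfl
        rw [hbd, mul_inv_cancel_right] at hinv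
        exact hd1 (eq_one_of_sq hodd (mul_eq_one_iff_eq_inv.2 hinv))
      obtain ⟨⟨a, ha⟩, ha'⟩ := Subgroup.ne_bot_iff_exists_ne_one.1 hV1
      have ha1 : a ≠ 1 := fun e => ha' (Subtype.ext e)
      obtain ⟨d, hd', hd1, hda, b, hb, hb1, hba, hdb⟩ := hd a ha ha1
      -- the elements of `V`
      have hlist : ∀ w ∈ V, w = 1 ∨ w = a ∨ w = b ∨ w = a * b := by
        intro w hw
        have hab1 : a * b ≠ 1 := fun h => hba (by
          rw [eq_inv_of_mul_eq_one_left h, inv_eq_of_mul_eq_one_right (hexp b hb)])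
        have hsub : ({1, a, b, a * b} : Set G) ⊆ (V : Set G) := by
          rintro x (rfl | rfl | rfl | rfl)
          · exact one_mem _
          · exact ha
          · exact hb
          · exact mul_mem ha hb
        have hn : ({1, a, b, a * b} : Set G).ncard = 4 := by
          rw [Set.ncard_insert_of_notMem (by simp [ha1.symm, hb1.symm, hab1.symm]),
            Set.ncard_insert_of_notMem (by simp [hba.symm, hb1]), Set.ncard_pair (by simp [ha1])]
        have heq := Set.eq_of_subset_of_ncard_le hsub (by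
          rw [hn, ← Nat.card_coe_set_eq]; exact h4) (Set.toFinite _)
        have : w ∈ ({1, a, b, a * b} : Set G) := heq ▸ hw
        simpa using this
      obtain ⟨e, he, he1, heb, v, hv, hv1, hvb, hve⟩ := hd b hb hb1
      have key : ∀ c, c ∈ V → (c = a ∨ c = a * b) → c * d * c⁻¹ = d⁻¹ → Commute c e → False := by
        intro c hc hca hcd hce
        refine sidki_core (hexp b hb) (hcomm c hc b hb) hd' hd1 he he1 hcd hdb heb hce
          fun h hh hinv => ?_
        obtain ⟨w, hw, hw1, hwh⟩ := hinv.elim (fun h1 => hS h c hc hh h1)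
          (fun h1 => hS h (c * b) (mul_mem hc hb) hh h1)
        rcases hlist w hw with h1 | h1 | h1 | h1
        · exact absurd h1 hw1
        · subst h1
          rcases hca with h2 | h2
          · left; rw [h2]; exact hwh
          · right; right; rw [h2, mul_assoc, hexp b hb, mul_one]; exact hwh
        · subst h1; exact Or.inr (Or.inl hwh)
        · subst h1
          rcases hca with h2 | h2
          · right; right; rw [h2]; exact hwh
          · left; rw [h2]; exact hwh
      rcases hlist v hv with h1 | h1 | h1 | h1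
      · exact hv1 h1
      · exact key a ha (Or.inl rfl) hda (h1 ▸ hve)
      · exact hvb h1
      · refine key (a * b) (mul_mem ha hb) (Or.inr rfl) ?_ (h1 ▸ hve)
        calc a * b * d * (a * b)⁻¹ = a * (b * d * b⁻¹) * a⁻¹ := by group
          _ = d⁻¹ := by rw [hdb.eq, mul_inv_cancel_right, hda]

end Cfsg.Agent.S3011
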