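import Cfsg.Statements.S3013
import Cfsg.Agent.Lib.LocalEvenB.Basic

set_option autoImplicit false
open Cfsg

namespace Cfsg.Agent.S3013

open Cfsg.Agent.LocalEvenB

/-- Let G be a finite group and V a nontrivial elementary abelian 2-subgroup of G satisfying the Sidki pair condition. Let v ∈ V and let x be an element of odd order inverted by v, and put C = C_G(v) ∩ C_G(x), the centralizer of the dihedral subgroup generated by v and x. Then C ∩ V is nontrivial and satisfies the Sidki pair condition inside C: every odd-order element of C inverted by an element of C ∩ V commutes with a nontrivial element of C ∩ V. -/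
theorem result {G : Type*} [Group G] [Finite G] (V : Subgroup G) (hV : Cfsg.IsElementaryAbelian 2 V) (hV1 : V ≠ ⊥) (hS : Cfsg.IsSidkiPair V) (v x : G) (hv : v ∈ V) (hx : Odd (orderOf x)) (hinv : v * x * v⁻¹ = x⁻¹) (C : Subgroup G) (hC : C = Subgroup.centralizer ({v} : Set G) ⊓ Subgroup.centralizer ({x} : Set G)) : C ⊓ V ≠ ⊥ ∧ Cfsg.IsSidkiPair ((C ⊓ V).subgroupOf C) := by
  haveI := hV.1
  obtain ⟨w, hw, hw1, hwx⟩ := hS x v hv hx hinv
  have hcommV : ∀ a ∈ V, ∀ b ∈ V, a * b = b * a := fun a ha b hb =>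
    congrArg Subtype.val (mul_comm' (⟨a, ha⟩ : ↥V) ⟨b, hb⟩)
  have hwC : w ∈ C ⊓ V := by
    rw [hC]
    exact ⟨⟨Subgroup.mem_centralizer_singleton_iff.2 (hcommV w hw v hv),
      Subgroup.mem_centralizer_singleton_iff.2 hwx⟩, hw⟩
  refine ⟨fun h => hw1 (by rwa [h] at hwC), ?_⟩
  rintro ⟨h, hhC⟩ ⟨c, hcC⟩ hc hodd hinv'
  rw [← Subgroup.orderOf_coe] at hodd
  have hinv'' : c * h * c⁻¹ = h⁻¹ := congrArg Subtype.val hinv'
  have hcV : c ∈ V := hc.2
  have hhC' := hhC; have hcC' := hcC
  rw [hC] at hhC' hcC'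
  have hhv : h * v = v * h := Subgroup.mem_centralizer_singleton_iff.1 hhC'.1
  have hhx : h * x = x * h := Subgroup.mem_centralizer_singleton_iff.1 hhC'.2
  have hcx : c * x = x * c := Subgroup.mem_centralizer_singleton_iff.1 hcC'.2
  -- `c v` inverts `x h`
  have hvh : v * h * v⁻¹ = h := by rw [← hhv, mul_inv_cancel_right]
  have hcxi : c * x⁻¹ * c⁻¹ = x⁻¹ := by
    rw [(show Commute c x from hcx).inv_right.eq, mul_inv_cancel_right]
  have key : c * v * (x * h) * (c * v)⁻¹ = (x * h)⁻¹ := by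
    have h1 : v * (x * h) * v⁻¹ = x⁻¹ * h := by
      rw [show v * (x * h) * v⁻¹ = (v * x * v⁻¹) * (v * h * v⁻¹) by group, hinv, hvh]
    calc c * v * (x * h) * (c * v)⁻¹ = c * (v * (x * h) * v⁻¹) * c⁻¹ := by group
      _ = c * (x⁻¹ * h) * c⁻¹ := by rw [h1]
      _ = (c * x⁻¹ * c⁻¹) * (c * h * c⁻¹) := by group
      _ = x⁻¹ * h⁻¹ := by rw [hcxi, hinv'']
      _ = (x * h)⁻¹ := by rw [← mul_inv_rev, hhx]
  have hodd' : Odd (orderOf (x * h)) :=
    Odd.of_dvd_nat (hx.mul hodd) ((show Commute x h from hhx.symm).orderOf_mul_dvd_mul_orderOf)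
  obtain ⟨e, he, he1, hee⟩ := hS (x * h) (c * v) (V.mul_mem hcV hv) hodd' key
  have hev : v * e * v⁻¹ = e := by rw [hcommV v hv e he, mul_inv_cancel_right]
  have h2 : Commute e (x⁻¹ * h) := by
    have h0 := congrArg (MulAut.conj v) hee
    simp only [map_mul, MulAut.conj_apply, hev, hinv, hvh] at h0
    exact h0
  have h3 : Commute e (x * x) := by
    have h4 : Commute e ((x * h) * (x⁻¹ * h)⁻¹) := Commute.mul_right hee h2.inv_right
    have : (x * h) * (x⁻¹ * h)⁻¹ = x * x := by group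
    rwa [this] at h4
  have h5 : Commute e x := by
    obtain ⟨m, hm⟩ := exists_pow_eq_self_of_coprime (x := x) (n := 2) (Nat.coprime_two_left.2 hx)
    have := (show Commute e (x ^ 2) by rwa [pow_two]).pow_right m
    rwa [hm] at this
  have h6 : Commute e h := by
    have h7 := h5.inv_right.mul_right (show Commute e (x * h) from hee)
    simpa using h7
  have heC : e ∈ C := by
    rw [hC]
    exact ⟨Subgroup.mem_centralizer_singleton_iff.2 (hcommV e he v hv),
      Subgroup.mem_centralizer_singleton_iff.2 h5.eq⟩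
  exact ⟨⟨e, heC⟩, ⟨heC, he⟩, fun h' => he1 (congrArg Subtype.val h'), Subtype.ext h6.eq⟩

end Cfsg.Agent.S3013
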