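import Cfsg.Statements.S3014
import Cfsg.Agent.Lib.LocalEvenB.Basic
import Cfsg.Agent.Lib.Transfer.Fusion

set_option autoImplicit false
open Cfsg

namespace Cfsg.Agent.S3014

open Cfsg.Agent.LocalEvenB

/-- Let G be a finite group and H ≤ M ≤ G subgroups such that for every g ∈ G the subgroup generated by H and g H g⁻¹ meets M exactly in H. If H is a maximal subgroup of M and M is a maximal subgroup of G, then the normal closure of H in G meets M exactly in H. -/
theorem result {G : Type*} [Group G] [Finite G] (H M : Subgroup G) (hHM : H ≤ M) (hcl : ∀ g : G, (H ⊔ H.map (MulAut.conj g).toMonoidHom) ⊓ M = H) (hmaxH : IsCoatom (H.subgroupOf M)) (hmaxM : IsCoatom M) : Subgroup.normalClosure (H : Set G) ⊓ M = H := by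
  classical
  have hMN : M ≤ Subgroup.normalizer (H : Set G) := fun m hm => mem_normalizer_of_conj_mem fun y hy => by
    rw [← hcl m]
    exact ⟨Subgroup.mem_sup_right (conjMap_apply_mem hy), M.mul_mem (M.mul_mem hm (hHM hy)) (M.inv_mem hm)⟩
  have hHL : H ≤ Subgroup.normalClosure (H : Set G) := Subgroup.le_normalClosure
  refine le_antisymm ?_ (le_inf hHL hHM)
  by_cases hNG : Subgroup.normalizer (H : Set G) = ⊤
  · haveI : H.Normal := Subgroup.normalizer_eq_top_iff.1 hNG
    exact inf_le_left.trans (Subgroup.normalClosure_le_normal le_rfl)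
  have hNM : Subgroup.normalizer (H : Set G) = M := by
    by_contra hne
    exact hNG (hmaxM.2 _ (lt_of_le_of_ne hMN (Ne.symm hne)))
  by_cases hX : ∃ g : G, g ∉ M ∧ ¬ M ⊓ M.map (MulAut.conj g).toMonoidHom ≤ H
  · obtain ⟨g, hgM, hgX⟩ := hX
    set L := H ⊔ H.map (MulAut.conj g).toMonoidHom with hL
    set X := M ⊓ M.map (MulAut.conj g).toMonoidHom with hXdef
    have hXL : X ≤ Subgroup.normalizer (L : Set G) := by
      intro x hx
      refine mem_normalizer_of_conjMap_le ?_
      rw [hL, Subgroup.map_sup, conjMap_eq_of_mem_normalizer (hMN hx.1)]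
      refine sup_le_sup_left ?_ _
      have hx2 : g⁻¹ * x * g ∈ M := mem_conjMap.1 hx.2
      rw [conjMap_conjMap, show x * g = g * (g⁻¹ * x * g) by group, ← conjMap_conjMap,
        conjMap_eq_of_mem_normalizer (hMN hx2)]
    have hMsup : M ≤ H ⊔ X := by
      have h1 : H.subgroupOf M < (H ⊔ X).subgroupOf M := by
        refine lt_of_le_of_ne (Subgroup.comap_mono le_sup_left) fun he => hgX fun x hx => ?_
        have h2 : (⟨x, hx.1⟩ : M) ∈ (H ⊔ X).subgroupOf M := Subgroup.mem_subgroupOf.2 (Subgroup.mem_sup_right hx)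
        rw [← he] at h2
        exact h2
      exact Subgroup.subgroupOf_eq_top.1 (hmaxH.2 _ h1)
    have hMNL : M ≤ Subgroup.normalizer (L : Set G) :=
      hMsup.trans (sup_le (le_sup_left.trans Subgroup.le_normalizer) hXL)
    have hLM : ¬ L ≤ M := fun h => hgM (by
      rw [← hNM]
      refine mem_normalizer_of_conjMap_le ?_
      exact le_sup_right.trans ((inf_eq_left.2 h).symm.le.trans (hcl g).le))
    haveI : L.Normal := Subgroup.normalizer_eq_top_iff.1 (hmaxM.2 _ (lt_of_le_of_ne hMNL fun he =>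
      hLM (he ▸ Subgroup.le_normalizer)))
    exact (inf_le_inf_right M (Subgroup.normalClosure_le_normal (le_sup_left : H ≤ L))).trans (hcl g).le
  push Not at hX
  haveI hn : (H.subgroupOf M).Normal := Subgroup.normal_subgroupOf_of_le_normalizer hMN
  set Q := ↥M ⧸ H.subgroupOf M
  haveI : Nontrivial Q := QuotientGroup.nontrivial_iff.2 hmaxH.1
  have hsimp : ∀ Z : Subgroup Q, Z = ⊥ ∨ Z = ⊤ := by
    intro Z
    have hle : H.subgroupOf M ≤ Z.comap (QuotientGroup.mk' _) := fun x hx => by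
      rw [Subgroup.mem_comap, QuotientGroup.mk'_apply, (QuotientGroup.eq_one_iff x).2 hx]
      exact Z.one_mem
    rcases hle.lt_or_eq with h | h
    · right
      have h1 := hmaxH.2 _ h
      rw [← Subgroup.comap_top (QuotientGroup.mk' (H.subgroupOf M))] at h1
      exact Subgroup.comap_injective (QuotientGroup.mk'_surjective _) h1
    · left
      have h1 := congrArg (Subgroup.map (QuotientGroup.mk' (H.subgroupOf M))) h.symm
      rwa [Subgroup.map_comap_eq_self_of_surjective (QuotientGroup.mk'_surjective _), QuotientGroup.map_mk'_self] at h1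
  have hprime : (Nat.card Q).Prime := by
    have h1 : 1 < Nat.card Q := Finite.one_lt_card
    set r := (Nat.card Q).minFac
    haveI : Fact r.Prime := ⟨Nat.minFac_prime h1.ne'⟩
    obtain ⟨x, hx⟩ := exists_prime_orderOf_dvd_card' (G := Q) r (Nat.minFac_dvd _)
    have htop : Subgroup.zpowers x = ⊤ := (hsimp _).resolve_left (by
      rw [Subgroup.zpowers_eq_bot]; rintro rfl; rw [orderOf_one] at hx; exact (Fact.out : r.Prime).one_lt.ne hx)
    rw [← Subgroup.card_top (G := Q), ← htop, Nat.card_zpowers, hx]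
    exact Fact.out
  haveI : Fact (Nat.card Q).Prime := ⟨hprime⟩
  haveI : IsCyclic Q := isCyclic_of_prime_card rfl
  letI : CommGroup Q := IsCyclic.commGroup
  set ϕ : ↥M →* Q := QuotientGroup.mk' (H.subgroupOf M) with hϕ
  have hker : ∀ m : M, (m : G) ∈ H → ϕ m = 1 := fun m hm => (QuotientGroup.eq_one_iff m).2 hm
  have hinv : ∀ (g : G) (h : M) (hc : g⁻¹ * (h : G) * g ∈ M), ϕ ⟨g⁻¹ * (h : G) * g, hc⟩ = ϕ h := by
    intro g h hc
    by_cases hg : g ∈ M
    · have e : (⟨g⁻¹ * (h : G) * g, hc⟩ : M) = (⟨g, hg⟩ : M)⁻¹ * h * ⟨g, hg⟩ := Subtype.ext rfl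
      rw [e, map_mul, map_mul, map_inv, mul_comm, mul_inv_cancel_left]
    · have h1 : (h : G) ∈ H := hX g hg ⟨h.2, mem_conjMap.2 hc⟩
      have h2 : g⁻¹ * (h : G) * g ∈ H := hX g⁻¹ (fun hh => hg (by simpa using M.inv_mem hh))
        ⟨hc, mem_conjMap.2 (by rw [show g⁻¹⁻¹ * (g⁻¹ * (h : G) * g) * g⁻¹ = h by group]; exact h.2)⟩
      rw [hker _ h1, hker _ h2]
  have hidx : ¬ Nat.card Q ∣ M.index := by
    set r := Nat.card Q
    obtain ⟨R⟩ : Nonempty (Sylow r ↥M) := inferInstance
    set R' := (R : Subgroup M).map M.subtype with hR'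
    have hRH : ¬ R' ≤ H := by
      intro hle
      have h1 : (R : Subgroup M) ≤ H.subgroupOf M := fun u hu => hle ⟨u, hu, rfl⟩
      have h2 := Subgroup.index_dvd_of_le h1
      rw [Subgroup.index_eq_card] at h2
      exact R.not_dvd_index h2
    intro hd
    obtain ⟨T, hT⟩ := (R.isPGroup'.map M.subtype).exists_le_sylow
    have hTM : ¬ (T : Subgroup G) ≤ M := fun hle =>
      T.not_dvd_index (hd.trans (Subgroup.index_dvd_of_le hle))
    have hne : ¬ (T : Subgroup G) ≤ R' := fun hle => hTM (hle.trans (Subgroup.map_subtype_le _))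
    obtain ⟨n, hnT, hnR, hnN⟩ := exists_mem_normalizer_not_mem T.isPGroup' hT hne
    have hnM : n ∉ M := by
      intro hnM
      have hle : ((T : Subgroup G).subgroupOf M) = (R : Subgroup M) := R.3 (T.isPGroup'.comap_subtype)
        (fun u hu => hT ⟨u, hu, rfl⟩)
      exact hnR ⟨⟨n, hnM⟩, hle.le (Subgroup.mem_subgroupOf.2 hnT), rfl⟩
    refine hRH fun u hu => hX n hnM ⟨Subgroup.map_subtype_le _ hu, ?_⟩
    exact Subgroup.map_mono (Subgroup.map_subtype_le _) ((conjMap_eq_of_mem_normalizer hnN).ge hu)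
  rintro m ⟨hmL, hmM⟩
  have hHker : Subgroup.normalClosure (H : Set G) ≤ (MonoidHom.transfer ϕ).ker := by
    refine Subgroup.normalClosure_le_normal fun y hy => ?_
    rw [SetLike.mem_coe, MonoidHom.mem_ker, Transfer.transfer_eq_pow_of_invariant ϕ hinv ⟨y, hHM hy⟩,
      hker _ hy, one_pow]
  have h1 := hHker hmL
  rw [MonoidHom.mem_ker, Transfer.transfer_eq_pow_of_invariant ϕ hinv ⟨m, hmM⟩,
    ← orderOf_dvd_iff_pow_eq_one] at h1
  have h2 : orderOf (ϕ ⟨m, hmM⟩) = 1 :=
    Nat.eq_one_of_dvd_coprimes (hprime.coprime_iff_not_dvd.2 hidx) (orderOf_dvd_natCard _) h1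
  rw [orderOf_eq_one_iff] at h2
  exact Subgroup.mem_subgroupOf.1 ((QuotientGroup.eq_one_iff (⟨m, hmM⟩ : ↥M)).1 h2)

end Cfsg.Agent.S3014
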