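import Cfsg.Statements.S3015
import Mathlib

set_option autoImplicit false
open Cfsg

namespace Cfsg.Agent.S3015

open Subgroup

/-- Let G be a finite non-abelian simple group, M a maximal subgroup of G and H a normal subgroup of M of prime index in M. Then G is generated by H together with one of its conjugates. -/
theorem result {G : Type*} [Group G] [Finite G] [IsSimpleGroup G] (hG : ¬ IsMulCommutative G) (M H : Subgroup G) (hmaxM : IsCoatom M) (hHM : H ≤ M) (hHn : (H.subgroupOf M).Normal) (hidx : (H.relIndex M).Prime) : ∃ g : G, H ⊔ H.map (MulAut.conj g).toMonoidHom = ⊤ := by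
  classical
  have := hHn
  set Hs := H.subgroupOf M with hHs
  have hQcard : (Nat.card (M ⧸ Hs)).Prime := by
    rw [← Subgroup.index_eq_card]; exact hidx
  haveI : Fact (Nat.card (M ⧸ Hs)).Prime := ⟨hQcard⟩
  haveI : IsCyclic (M ⧸ Hs) := isCyclic_of_prime_card (p := Nat.card (M ⧸ Hs)) rfl
  letI : CommGroup (M ⧸ Hs) := IsCyclic.commGroup
  let φ : M →* M ⧸ Hs := QuotientGroup.mk' Hs
  have hφ : ∀ m : M, φ m = 1 ↔ (m : G) ∈ H := fun m => by
    show (QuotientGroup.mk m : M ⧸ Hs) = 1 ↔ _
    rw [QuotientGroup.eq_one_iff, hHs, Subgroup.mem_subgroupOf]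
  have hMH : ∃ m : M, (m : G) ∉ H := by
    by_contra hall
    push Not at hall
    have h1 : H.relIndex M = 1 := Subgroup.relIndex_eq_one.2 fun a ha => hall ⟨a, ha⟩
    rw [h1] at hidx
    exact Nat.not_prime_one hidx
  -- an element of `M \ H` of least order
  obtain ⟨x, hxH, hxmin⟩ : ∃ x : M, (x : G) ∉ H ∧
      ∀ m : M, (m : G) ∉ H → orderOf (x : G) ≤ orderOf (m : G) := by
    obtain ⟨x, hx, hmin⟩ := Set.exists_min_image {m : M | (m : G) ∉ H} (fun m => orderOf (m : G))
      (Set.toFinite _) hMH
    exact ⟨x, hx, hmin⟩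
  -- some conjugate of a generator of `⟨x⟩` lies in `M \ H`
  obtain ⟨g, z, hgM, hzM, hzH, hyM, hyH⟩ : ∃ g z : G, g ∉ M ∧ z ∈ M ∧ z ∉ H ∧
      g⁻¹ * z * g ∈ M ∧ g⁻¹ * z * g ∉ H := by
    by_contra hno
    have htr : MonoidHom.transfer φ (x : G) = 1 := by
      have hcomm : commutator G = ⊤ := by
        rcases IsSimpleGroup.eq_bot_or_eq_top_of_normal (commutator G) inferInstance with h | h
        · exfalso
          apply hG
          refine ⟨⟨fun a b => ?_⟩⟩
          have := Subgroup.commutator_mem_commutator (Subgroup.mem_top a) (Subgroup.mem_top b)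
          rw [← _root_.commutator_def, h, Subgroup.mem_bot, commutatorElement_eq_one_iff_mul_comm] at this
          exact this
        · exact h
      have h1 := Abelianization.commutator_subset_ker (MonoidHom.transfer φ)
      rw [hcomm] at h1
      exact h1 (Subgroup.mem_top _)
    have : Fintype (Quotient (MulAction.orbitRel (zpowers (x : G)) (G ⧸ M))) := Fintype.ofFinite _
    rw [MonoidHom.transfer_eq_prod_quotient_orbitRel_zpowers_quot] at htr
    set q0 : Quotient (MulAction.orbitRel (zpowers (x : G)) (G ⧸ M)) :=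
      Quotient.mk'' ((1 : G) : G ⧸ M) with hq0
    have hfix : ∀ k : ℤ, ((x : G) ^ k) • ((1 : G) : G ⧸ M) = ((1 : G) : G ⧸ M) := fun k => by
      rw [MulAction.Quotient.smul_coe, smul_eq_mul, mul_one, QuotientGroup.eq, mul_one]
      exact inv_mem (zpow_mem x.2 k)
    have hout : q0.out = ((1 : G) : G ⧸ M) := by
      obtain ⟨⟨a, k, rfl⟩, hk⟩ := MulAction.orbitRel_apply.1 (Quotient.exact' (Quotient.out_eq' q0))
      exact hk.symm.trans (hfix k)
    rw [Fintype.prod_eq_single q0 ?_] at htr
    · rw [hφ] at htr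
      have hper : Function.minimalPeriod ((x : G) • ·) q0.out = 1 := by
        rw [Function.minimalPeriod_eq_one_iff_isFixedPt, hout]
        simpa [Function.IsFixedPt] using hfix 1
      have hm : q0.out.out ∈ M := by
        have h1 := QuotientGroup.out_eq' q0.out
        conv_rhs at h1 => rw [hout]
        simpa using inv_mem ((QuotientGroup.eq).1 h1)
      simp only [hper, pow_one] at htr
      apply hxH
      have hn := hHn.conj_mem ⟨_, mul_mem (mul_mem (inv_mem hm) x.2) hm⟩
        (Subgroup.mem_subgroupOf.2 htr) ⟨_, hm⟩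
      rw [Subgroup.mem_subgroupOf] at hn
      simpa [mul_assoc] using hn
    · intro q hq
      rw [hφ]
      by_contra hy
      simp only at hy
      set k := Function.minimalPeriod ((x : G) • ·) q.out
      have hgM : q.out.out ∉ M := by
        intro hm
        apply hq
        have h1 : q.out = ((1 : G) : G ⧸ M) := by
          rw [← QuotientGroup.out_eq' q.out, QuotientGroup.eq, mul_one]
          exact inv_mem hm
        rw [hq0, ← h1]
        exact (Quotient.out_eq' q).symm
      have hyM : q.out.out⁻¹ * (x : G) ^ k * q.out.out ∈ M :=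
        QuotientGroup.out_conj_pow_minimalPeriod_mem M (x : G) q.out
      have hxk : (x : G) ^ k ∉ H := by
        intro hxk
        have h1 := hxmin ⟨_, hyM⟩ hy
        have h2 : orderOf (q.out.out⁻¹ * (x : G) ^ k * q.out.out) = orderOf ((x : G) ^ k) := by
          simpa using (MulEquiv.orderOf_eq (MulAut.conj q.out.out⁻¹) ((x : G) ^ k))
        simp only at h1
        rw [h2] at h1
        have h3 : zpowers ((x : G) ^ k) = zpowers (x : G) := by
          refine Subgroup.eq_of_le_of_card_ge
            (Subgroup.zpowers_le.2 (pow_mem (Subgroup.mem_zpowers _) k)) ?_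
          rw [Nat.card_zpowers, Nat.card_zpowers]
          exact h1
        exact hxH (Subgroup.zpowers_le.2 hxk (h3.ge (Subgroup.mem_zpowers (x : G))))
      exact hno ⟨q.out.out, (x : G) ^ k, hgM, pow_mem x.2 k, hxk, hyM, hy⟩
  refine ⟨g, ?_⟩
  set Hg := H.map (MulAut.conj g).toMonoidHom with hHg
  set K := H ⊔ Hg
  have hnH : M ≤ normalizer (H : Set G) := (Subgroup.normal_subgroupOf_iff_le_normalizer hHM).1 hHn
  have hzHg : z ∈ normalizer (Hg : Set G) := by
    rw [hHg, ← Subgroup.map_equiv_normalizer_eq H (MulAut.conj g), Subgroup.mem_map_equiv]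
    simpa [mul_assoc] using hnH hyM
  have hzK : z ∈ normalizer (K : Set G) := by
    rw [Subgroup.mem_normalizer_iff_map_conj_eq, Subgroup.map_sup]
    rw [Subgroup.mem_normalizer_iff_map_conj_eq] at hzHg
    have h1 := Subgroup.mem_normalizer_iff_map_conj_eq.1 (hnH hzM)
    rw [h1, hzHg]
  set L := K ⊔ zpowers z
  have hgen : ∀ w : G, w ∈ M → w ∉ H → M ≤ H ⊔ zpowers w := by
    intro w hw hwH
    have hle : H ⊔ zpowers w ≤ M := sup_le hHM (Subgroup.zpowers_le.2 hw)
    have h1 := Subgroup.relIndex_mul_relIndex H _ M le_sup_left hle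
    rcases (Nat.prime_mul_iff.1 (h1 ▸ hidx)) with ⟨-, h2⟩ | ⟨-, h2⟩
    · exact Subgroup.relIndex_eq_one.1 h2
    · exact absurd (Subgroup.relIndex_eq_one.1 h2 (Subgroup.mem_sup_right (Subgroup.mem_zpowers w))) hwH
  have hML : M ≤ L := (hgen z hzM hzH).trans (sup_le_sup_right le_sup_left _)
  have hMgL : M.map (MulAut.conj g).toMonoidHom ≤ L := by
    refine (Subgroup.map_mono (hgen _ hyM hyH)).trans ?_
    rw [Subgroup.map_sup, MonoidHom.map_zpowers]
    refine sup_le (le_trans le_sup_right le_sup_left) (le_trans (le_of_eq ?_) le_sup_right)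
    congr 1
    simp [mul_assoc]
  have hLtop : L = ⊤ := by
    rcases eq_or_lt_of_le hML with h | h
    · exfalso
      rw [← h] at hMgL
      apply hgM
      have hN : normalizer (M : Set G) = M := by
        rcases eq_or_lt_of_le (Subgroup.le_normalizer (H := M)) with h1 | h1
        · exact h1.symm
        · exfalso
          have h2 := Subgroup.normalizer_eq_top_iff.1 (hmaxM.2 _ h1)
          rcases IsSimpleGroup.eq_bot_or_eq_top_of_normal M h2 with h3 | h3
          · exact hzH ((Subgroup.mem_bot.1 (h3 ▸ hzM)).symm ▸ one_mem H)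
          · exact hmaxM.1 h3
      rw [← hN, Subgroup.mem_normalizer_iff_map_conj_eq]
      exact Subgroup.eq_of_le_of_card_ge hMgL
        (by rw [Subgroup.card_map_of_injective]; exact (MulAut.conj g).injective)
    · exact hmaxM.2 L h
  have hKn : K.Normal := by
    apply Subgroup.normalizer_eq_top_iff.1
    refine top_le_iff.1 (hLtop.ge.trans (sup_le Subgroup.le_normalizer ?_))
    exact Subgroup.zpowers_le.2 hzK
  rcases IsSimpleGroup.eq_bot_or_eq_top_of_normal K hKn with h | h
  · exfalso
    apply hG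
    have hc : zpowers z = ⊤ := by simpa [L, h] using hLtop
    refine ⟨⟨fun a b => ?_⟩⟩
    obtain ⟨i, rfl⟩ := Subgroup.mem_zpowers_iff.1 (hc.ge (Subgroup.mem_top a))
    obtain ⟨j, rfl⟩ := Subgroup.mem_zpowers_iff.1 (hc.ge (Subgroup.mem_top b))
    exact zpow_mul_comm z i j
  · exact h

end Cfsg.Agent.S3015
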