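import Cfsg.Statements.S3020
import Cfsg.Agent.Lib.LocalEvenB.Basic

set_option autoImplicit false
open Cfsg

namespace Cfsg.Agent.S3020

open Cfsg.Agent.LocalEvenB

/-- Let G be a finite group, p a prime and H an abelian p-subgroup of G that is extremely closed (for every g, the subgroup generated by H and g H g⁻¹ meets N_G(H) exactly in H). Then for every g ∈ G, the subgroup T generated by H and g H g⁻¹ is the product of H with O_{p'}(T), and H meets O_{p'}(T) trivially; that is, O_{p'}(T) is a normal p-complement of H in T. -/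
theorem result {G : Type*} [Group G] [Finite G] {p : ℕ} [Fact p.Prime] (H : Subgroup G) (hHp : IsPGroup p H) (hHab : IsMulCommutative H) (hcl : Cfsg.IsExtremelyClosed H) (g : G) (T : Subgroup G) (hT : T = H ⊔ H.map (MulAut.conj g).toMonoidHom) : H ⊔ (Cfsg.pPrimeCore p ↥T).map T.subtype = T ∧ H ⊓ (Cfsg.pPrimeCore p ↥T).map T.subtype = ⊥ := by
  have hHT : H ≤ T := hT ▸ le_sup_left
  have hTN : T ⊓ Subgroup.normalizer (H : Set G) = H := hT ▸ hcl g
  obtain ⟨P, hP⟩ := (hHp.comap_of_injective T.subtype T.subtype_injective).exists_le_sylow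
  have hPH : (P : Subgroup ↥T).map T.subtype = H := by
    refine eq_of_inf_normalizer_le (P.isPGroup'.map _) ?_ ?_
    · intro h hh
      exact ⟨⟨h, hHT hh⟩, hP hh, rfl⟩
    · exact le_trans (inf_le_inf_right _ (Subgroup.map_subtype_le _)) hTN.le
  have hmem : ∀ y : ↥T, y ∈ (P : Subgroup ↥T) ↔ (y : G) ∈ H := by
    intro y
    constructor
    · intro hy; rw [← hPH]; exact ⟨y, hy, rfl⟩
    · intro hy; exact hP hy
  have hNC : Subgroup.normalizer ((P : Subgroup ↥T) : Set ↥T) ≤ Subgroup.centralizer ((P : Subgroup ↥T) : Set ↥T) := by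
    intro n hn
    have hnH : (n : G) ∈ H := by
      rw [← hTN]
      refine ⟨n.2, mem_normalizer_of_conj_mem fun y hy => ?_⟩
      exact (hmem _).1 ((Subgroup.mem_normalizer_iff.1 hn ⟨y, hHT hy⟩).1 ((hmem _).2 hy))
    refine Subgroup.mem_centralizer_iff.2 fun y hy => Subtype.ext ?_
    exact congrArg (Subtype.val : ↥H → G) (mul_comm' (⟨(y : G), (hmem y).1 hy⟩ : ↥H) ⟨(n : G), hnH⟩)
  have hcompl := MonoidHom.ker_transferSylow_isComplement' P hNC
  set K : Subgroup ↥T := (MonoidHom.transferSylow P hNC).ker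
  have hK : K ≤ Cfsg.pPrimeCore p ↥T := le_pPrimeCore inferInstance
    ((Nat.Prime.coprime_iff_not_dvd (Fact.out : p.Prime)).2
      (MonoidHom.not_dvd_card_ker_transferSylow P hNC)).symm
  obtain ⟨-, hOcop⟩ := pPrimeCore_spec (G := ↥T) p
  refine ⟨le_antisymm (sup_le hHT (Subgroup.map_subtype_le _)) ?_, ?_⟩
  · have h1 : (K ⊔ (P : Subgroup ↥T)).map T.subtype = T := by
      rw [hcompl.sup_eq_top, ← MonoidHom.range_eq_map, Subgroup.range_subtype]
    refine h1.ge.trans ?_
    rw [Subgroup.map_sup]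
    exact sup_le ((Subgroup.map_mono hK).trans le_sup_right) (hPH.le.trans le_sup_left)
  · obtain ⟨e, he⟩ := IsPGroup.iff_card.1 hHp
    refine Subgroup.inf_eq_bot_of_coprime ?_
    rw [he, Subgroup.card_map_of_injective T.subtype_injective]
    exact hOcop.symm.pow_left e

end Cfsg.Agent.S3020
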