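import Cfsg.Statements.S3023
import Cfsg.Agent.Lib.LocalEvenB.CharP

set_option autoImplicit false
open Cfsg

namespace Cfsg.Agent.S3023

open Cfsg.Agent.LocalEvenB

/-- Let p be a prime, G a finite group of parabolic characteristic p (every p-local subgroup containing a Sylow p-subgroup of G has characteristic p), S a Sylow p-subgroup of G and G₁ a subnormal subgroup of G. If the centre of S ∩ G₁ is nontrivial and contained in the centre of S, then G₁ has parabolic characteristic p. -/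
theorem result {G : Type*} [Group G] [Finite G] {p : ℕ} [Fact p.Prime] (hG : Cfsg.IsOfParabolicCharacteristic p G) (S : Sylow p G) (G₁ : Subgroup G) (hsn : G₁.IsSubnormal) (hne : ((S : Subgroup G) ⊓ G₁) ⊓ Subgroup.centralizer (((S : Subgroup G) ⊓ G₁ : Subgroup G) : Set G) ≠ ⊥) (hle : ((S : Subgroup G) ⊓ G₁) ⊓ Subgroup.centralizer (((S : Subgroup G) ⊓ G₁ : Subgroup G) : Set G) ≤ (S : Subgroup G) ⊓ Subgroup.centralizer ((S : Subgroup G) : Set G)) : Cfsg.IsOfParabolicCharacteristic p ↥G₁ := by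
  rintro R hR hR1 ⟨T₁, hT₁⟩
  -- relate the Sylow subgroups of `G₁` to `S`
  obtain ⟨P₁, hP₁⟩ := Cfsg.Agent.LocalEvenA.exists_sylow_subgroupOf_subnormal S hsn
  obtain ⟨g, hg⟩ := MulAction.exists_smul_eq ↥G₁ P₁ T₁
  have hgS : ∀ y : ↥G₁, y ∈ (T₁ : Subgroup ↥G₁) ↔ ((g⁻¹ * y * g : ↥G₁) : G) ∈ (S : Subgroup G) := by
    intro y
    have : y ∈ (T₁ : Subgroup ↥G₁) ↔ g⁻¹ * y * g ∈ (P₁ : Subgroup ↥G₁) := by
      rw [← hg, Sylow.coe_subgroup_smul]
      constructor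
      · rintro ⟨z, hz, rfl⟩
        show _ ∈ P₁
        simpa [mul_assoc] using hz
      · intro h
        exact ⟨_, h, by simp [MulAut.conj_apply, mul_assoc]⟩
    rw [this, hP₁, Subgroup.mem_subgroupOf]
  -- a central subgroup of `T₁` inside `R`
  have hRT : R ≤ (T₁ : Subgroup ↥G₁) := by
    have h1 : (T₁ : Subgroup ↥G₁) ⊔ R = T₁ :=
      T₁.is_maximal' (T₁.isPGroup'.to_sup_of_normal_right' hR hT₁) le_sup_left
    exact h1 ▸ le_sup_right
  obtain ⟨u, hu1, huR, huc⟩ : ∃ u : ↥G₁, u ≠ 1 ∧ u ∈ R ∧ ∀ t ∈ (T₁ : Subgroup ↥G₁), t * u = u * t := by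
    set N := R.subgroupOf (T₁ : Subgroup ↥G₁)
    haveI : N.Normal := ⟨fun a ha t => Subgroup.mem_subgroupOf.2
      ((Subgroup.mem_normalizer_iff.1 (hT₁ t.2) _).1 (Subgroup.mem_subgroupOf.1 ha))⟩
    have hne : N ≠ ⊥ := by
      rw [Ne, Subgroup.subgroupOf_eq_bot, disjoint_iff, inf_eq_left.2 hRT]
      exact hR1
    haveI : Group.IsNilpotent ↥(T₁ : Subgroup ↥G₁) := T₁.isPGroup'.isNilpotent
    obtain ⟨⟨u, huT⟩, hu, huc, hu1⟩ := exists_mem_center_ne_one N hne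
    refine ⟨u, fun h => hu1 (Subtype.ext h), Subgroup.mem_subgroupOf.1 hu, fun t ht => ?_⟩
    exact congrArg Subtype.val (Subgroup.mem_center_iff.1 huc ⟨t, ht⟩)
  set U₁ : Subgroup ↥G₁ := Subgroup.zpowers u with hU₁
  set U : Subgroup G := Subgroup.zpowers (u : G) with hUdef
  have hUp : IsPGroup p ↥U := by
    have := (hR.to_le (Subgroup.zpowers_le.2 huR)).map G₁.subtype
    rwa [MonoidHom.map_zpowers] at this
  have hU1 : U ≠ ⊥ := by
    rw [hUdef, Ne, Subgroup.zpowers_eq_bot]; exact fun h => hu1 (Subtype.ext h)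
  -- the conjugate of `S` centralizes `u`
  have hpar : Cfsg.IsParabolic p (Subgroup.normalizer (U : Set G)) := by
    refine ⟨(g : G) • S, fun s hs => ?_⟩
    rw [Sylow.coe_subgroup_smul] at hs
    obtain ⟨s, hs, rfl⟩ := hs
    have hz : ((g⁻¹ * u * g : ↥G₁) : G) ∈ (S : Subgroup G) ⊓ Subgroup.centralizer ((S : Subgroup G) : Set G) := by
      refine hle ⟨⟨(hgS u).1 (hRT huR), (g⁻¹ * u * g).2⟩, Subgroup.mem_centralizer_iff.2 ?_⟩
      rintro y ⟨hyS, hyG⟩
      have hyT : g * ⟨y, hyG⟩ * g⁻¹ ∈ (T₁ : Subgroup ↥G₁) := (hgS _).2 (by show _ ∈ S; simpa [mul_assoc] using hyS)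
      have h2 := congrArg (fun z => g⁻¹ * z * g) (huc _ hyT)
      have h3 := congrArg Subtype.val h2
      simpa [mul_assoc] using h3
    refine Subgroup.centralizer_le_normalizer (U : Set G) (Subgroup.mem_centralizer_iff.2 ?_)
    rintro _ ⟨k, rfl⟩
    have h2 := congrArg (fun z => (g : G) * z * (g : G)⁻¹) (Subgroup.mem_centralizer_iff.1 hz.2 s hs)
    have h3 : Commute ((g : G) * s * (g : G)⁻¹) (u : G) := by
      show _ = _
      simpa [mul_assoc] using h2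
    simpa [MulAut.conj_apply] using (h3.zpow_right k).symm.eq
  have hX : IsCharPGroup p ↥(Subgroup.normalizer (U : Set G)) := hG U hUp hU1 hpar
  -- pass to `G₁ ⊓ N(U)`
  set X : Subgroup ↥G₁ := Subgroup.normalizer (U₁ : Set ↥G₁) with hXdef
  have hX1 : IsCharPGroup p ↥X := by
    have hle' : X.map G₁.subtype ≤ Subgroup.normalizer (U : Set G) := by
      rintro _ ⟨a, ha, rfl⟩
      refine mem_normalizer_of_conj_mem fun y hy => ?_
      obtain ⟨k, rfl⟩ := hy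
      have := (Subgroup.mem_normalizer_iff.1 ha (u ^ k)).1 ⟨k, rfl⟩
      obtain ⟨l, hl⟩ := this
      exact ⟨l, by simpa using congrArg Subtype.val hl⟩
    have heq : (X.map G₁.subtype).subgroupOf (Subgroup.normalizer (U : Set G))
        = G₁.comap (Subgroup.normalizer (U : Set G)).subtype := by
      ext a
      rw [Subgroup.mem_subgroupOf, Subgroup.mem_comap]
      refine ⟨fun h => Subgroup.map_subtype_le _ h, fun h => ⟨⟨a, h⟩, ?_, rfl⟩⟩
      refine mem_normalizer_of_conj_mem fun y hy => ?_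
      obtain ⟨k, rfl⟩ := hy
      obtain ⟨l, hl⟩ := (Subgroup.mem_normalizer_iff.1 a.2 ((u : G) ^ k)).1 ⟨k, rfl⟩
      exact ⟨l, Subtype.ext (by simpa using hl)⟩
    exact isCharPGroup_equiv (X.equivMapOfInjective _ G₁.subtype_injective).symm
      (isCharPGroup_of_subgroupOf hle' (heq ▸ hsn.comap _) hX)
  set L : Subgroup ↥G₁ := Subgroup.normalizer (R : Set ↥G₁) with hLdef
  have hTX : (T₁ : Subgroup ↥G₁) ≤ X := by
    refine le_trans (fun t ht => ?_) (Subgroup.centralizer_le_normalizer (U₁ : Set ↥G₁))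
    refine Subgroup.mem_centralizer_iff.2 ?_
    rintro _ ⟨k, rfl⟩
    exact ((show Commute t u from huc t ht).zpow_right k).symm.eq
  have hPT : Cfsg.pCoreOf p X ≤ (T₁ : Subgroup ↥G₁) := Cfsg.Agent.ClassK.pCoreOf_le_sylow T₁ hTX
  have hPp := Cfsg.Agent.LocalEvenA.pCoreOf_isPGroup' p X
  refine isCharPGroup_of_coprime fun y hy hyo => ?_
  rw [← Subgroup.orderOf_coe] at hyo
  have hyX : ∀ z : ↥L, z ∈ Subgroup.centralizer (Cfsg.pCore p ↥L : Set ↥L) → (z : ↥G₁) ∈ X := by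
    intro z hz
    refine Subgroup.centralizer_le_normalizer _ (Subgroup.mem_centralizer_iff.2 ?_)
    intro a ha
    have haR : a ∈ R := Subgroup.zpowers_le.2 huR ha
    have hmem : (⟨a, Subgroup.le_normalizer haR⟩ : ↥L) ∈ Cfsg.pCore p ↥L :=
      le_pCore_sub hR le_rfl (Subgroup.mem_subgroupOf.2 (show a ∈ R ⊓ L from ⟨haR, Subgroup.le_normalizer haR⟩))
    exact congrArg Subtype.val (Subgroup.mem_centralizer_iff.1 hz _ hmem)
  set D : Subgroup ↥L := Subgroup.centralizer (Cfsg.pCore p ↥L : Set ↥L) with hDdef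
  haveI := Cfsg.Agent.LocalEvenA.pCore_normal' p ↥L
  have hE : (Cfsg.pCoreOf p X).subgroupOf L ⊓ D ≤ Cfsg.pCore p ↥L := by
    refine Cfsg.Agent.LocalEvenA.subnormal_le_pCore (.step _ D inf_le_right (Subgroup.Normal.isSubnormal inferInstance) ⟨fun a ha d => ?_⟩)
      ((hPp.comap_of_injective L.subtype L.subtype_injective).to_le inf_le_left)
    rw [Subgroup.mem_subgroupOf] at ha ⊢
    refine ⟨Subgroup.mem_subgroupOf.2 ?_, (d * a * d⁻¹).2⟩
    exact (Subgroup.mem_normalizer_iff.1 (Cfsg.Agent.LocalEvenA.le_normalizer_pCoreOf p X (hyX _ d.2)) _).1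
      (Subgroup.mem_subgroupOf.1 ha.1)
  have hall : ∀ a ∈ Cfsg.pCoreOf p X, Commute (y : ↥G₁) a := by
    intro a ha
    have haL : a ∈ L := hT₁ (hPT ha)
    have hbP : a⁻¹ * ((y : ↥G₁) * a * (y : ↥G₁)⁻¹) ∈ Cfsg.pCoreOf p X :=
      Subgroup.mul_mem _ (Subgroup.inv_mem _ ha)
        ((Subgroup.mem_normalizer_iff.1 (Cfsg.Agent.LocalEvenA.le_normalizer_pCoreOf p X (hyX _ hy)) a).1 ha)
    obtain ⟨k, hk⟩ := hPp ⟨_, hbP⟩
    refine Cfsg.Agent.LocalEvenA.comm_of_coprime_chain hyo ⟨k, congrArg Subtype.val hk⟩ ?_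
    have hbD : (⟨a, haL⟩ : ↥L)⁻¹ * (y * ⟨a, haL⟩ * y⁻¹) ∈ D := by
      have h1 := Subgroup.Normal.conj_mem' (H := D) inferInstance y hy ⟨a, haL⟩
      simpa [mul_assoc] using D.mul_mem h1 (D.inv_mem hy)
    have hb' := hE ⟨Subgroup.mem_subgroupOf.2 (by simpa using hbP), hbD⟩
    exact (congrArg Subtype.val (Subgroup.mem_centralizer_iff.1 hy _ hb')).symm
  have hyP : (y : ↥G₁) ∈ Cfsg.pCoreOf p X := by
    refine (Cfsg.Agent.LocalEvenA.charP_iff p X).1 hX1 ⟨hyX _ hy, ?_⟩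
    exact Subgroup.mem_centralizer_iff.2 fun a ha => (hall a ha).eq.symm
  exact Subtype.ext (eq_one_of_mem_pGroup hPp hyP hyo)

end Cfsg.Agent.S3023
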