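import Cfsg.Statements.S3025
import Cfsg.Agent.Lib.InvChar.OneSubgroup
import Cfsg.Agent.Lib.Recog.MinNormal

set_option autoImplicit false
open Cfsg

namespace Cfsg.Agent.S3025

open Subgroup

theorem comm_case {F : Type*} [Group F] [Finite F] {H N : Subgroup F} (hH : H ≠ ⊥)
    (hmin : ∀ R : Subgroup F, R ≠ ⊥ → H ≤ Subgroup.normalizer (R : Set F) → H ≤ R)
    (hN : Recog.IsMinNormal N) (hHN : H ≤ N) (hc : IsMulCommutative N) :
    IsSimpleGroup ↥N ∧
      ((H = N ∧ (Nat.card N).Prime ∧ IsCyclic ↥(Subgroup.centralizer (N : Set F)) ∧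
          (∃ k : ℕ, 1 ≤ k ∧ Nat.card ↥(Subgroup.centralizer (N : Set F)) = Nat.card N ^ k) ∧
          (∃ g : F, Subgroup.centralizer (N : Set F) ⊔ Subgroup.zpowers g = ⊤) ∧
          (Subgroup.centralizer (N : Set F)).index ∣ Nat.card N - 1) ∨
       (H = N ∧ Nat.card N = 2 ∧ Subgroup.centralizer (N : Set F) = ⊤ ∧
          ∃ k : ℕ, 1 ≤ k ∧ Nonempty (F ≃* QuaternionGroup (2 ^ k)))) := by
  obtain ⟨r, hr, hexp⟩ := hN.exists_prime_pow_eq_one hc
  have : Fact r.Prime := ⟨hr⟩
  have hcomm : ∀ a ∈ N, ∀ b ∈ N, a * b = b * a := fun a ha b hb =>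
    congrArg Subtype.val (hc.is_comm.comm ⟨a, ha⟩ ⟨b, hb⟩)
  set C := Subgroup.centralizer (N : Set F) with hCdef
  -- `H` normalizes every subgroup of `C`
  have hnorm : ∀ R : Subgroup F, R ≤ C → R ≠ ⊥ → H ≤ R := by
    intro R hR hR1
    refine hmin R hR1 (Subgroup.le_normalizer_iff.2 fun h hh x hx => ?_)
    rw [Subgroup.mem_centralizer_iff.1 (hR hx) h (hHN hh)]
    simpa using hx
  have hNC : N ≤ C := fun a ha => Subgroup.mem_centralizer_iff.2 fun b hb => hcomm b hb a ha
  obtain ⟨h0, hh0, hh01⟩ := (Subgroup.bot_or_exists_ne_one H).resolve_left hH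
  have ho : ∀ x ∈ N, x ≠ 1 → orderOf x = r := fun x hx hx1 => orderOf_eq_prime (hexp x hx) hx1
  have hzH : ∀ x ∈ N, x ≠ 1 → zpowers x = H := by
    intro x hx hx1
    have h1 : H ≤ zpowers x := hnorm _ (Subgroup.zpowers_le.2 (hNC hx)) (by simpa using hx1)
    refine (Subgroup.eq_of_le_of_card_ge h1 ?_).symm
    rw [Nat.card_zpowers, ho x hx hx1, ← ho h0 (hHN hh0) hh01, ← Nat.card_zpowers]
    exact Subgroup.card_le_of_le (Subgroup.zpowers_le.2 hh0)
  have hHeq : H = N := by
    refine le_antisymm hHN fun x hx => ?_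
    by_cases hx1 : x = 1
    · rw [hx1]; exact one_mem H
    · exact (hzH x hx hx1).le (Subgroup.mem_zpowers x)
  have hcard : Nat.card N = r := by
    rw [← hHeq, ← hzH h0 (hHN hh0) hh01, Nat.card_zpowers]
    exact ho h0 (hHN hh0) hh01
  have hsimple : IsSimpleGroup ↥N := by
    have : Fact (Nat.card N).Prime := ⟨hcard ▸ hr⟩
    exact isSimpleGroup_of_prime_card rfl
  refine ⟨hsimple, ?_⟩
  -- `C` is an `r`-group with a unique subgroup of order `r`
  have hsub : ∀ R : Subgroup C, R ≠ ⊥ → H ≤ R.map C.subtype := fun R hR =>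
    hnorm _ (Subgroup.map_subtype_le R) fun h =>
      hR ((Subgroup.map_eq_bot_iff_of_injective _ C.subtype_injective).1 h)
  have hCp : IsPGroup r C := by
    refine IsPGroup.of_card (Nat.eq_prime_pow_of_unique_prime_dvd Nat.card_pos.ne' ?_)
    intro q hq hqd
    have : Fact q.Prime := ⟨hq⟩
    obtain ⟨y, hy⟩ := exists_prime_orderOf_dvd_card' (G := C) q hqd
    have hy1 : zpowers y ≠ ⊥ := by
      intro h
      rw [Subgroup.zpowers_eq_bot] at h
      rw [h, orderOf_one] at hy
      exact hq.one_lt.ne hy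
    have h1 := Subgroup.card_dvd_of_le (hsub _ hy1)
    rw [hHeq, hcard, Subgroup.card_map_of_injective C.subtype_injective, Nat.card_zpowers, hy] at h1
    exact ((Nat.prime_dvd_prime_iff_eq hr hq).1 h1).symm
  have huniq : ∀ A B : Subgroup C, Nat.card A = r → Nat.card B = r → A = B := by
    have key : ∀ A : Subgroup C, Nat.card A = r → A.map C.subtype = H := by
      intro A hA
      have hA1 : A ≠ ⊥ := fun h => hr.one_lt.ne (by rw [← hA, h, Subgroup.card_bot])
      refine (Subgroup.eq_of_le_of_card_ge (hsub A hA1) ?_).symm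
      rw [Subgroup.card_map_of_injective C.subtype_injective, hA, hHeq, hcard]
    intro A B hA hB
    exact Subgroup.map_injective C.subtype_injective ((key A hA).trans (key B hB).symm)
  -- `F / C` embeds into the automorphism group of `N`
  have := hN.normal
  let φ : F →* MulAut N := MulAut.conjNormal
  have hker : φ.ker = C := by
    ext g
    rw [MonoidHom.mem_ker, hCdef, Subgroup.mem_centralizer_iff]
    constructor
    · intro hg n hn
      have h1 : (φ g ⟨n, hn⟩ : F) = n := by rw [hg]; rfl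
      rw [show (φ g ⟨n, hn⟩ : F) = g * n * g⁻¹ from MulAut.conjNormal_apply g ⟨n, hn⟩,
        mul_inv_eq_iff_eq_mul] at h1
      exact h1.symm
    · intro hg
      ext n
      rw [show (φ g n : F) = g * n * g⁻¹ from MulAut.conjNormal_apply g n, MulAut.one_apply,
        ← hg n n.2, mul_inv_cancel_right]
  have : IsCyclic N := isCyclic_of_prime_card hcard
  have : IsCyclic (ZMod (Nat.card N))ˣ := by
    rw [hcard]; exact ZMod.isCyclic_units_prime hr
  have : IsCyclic (MulAut N) := (IsCyclic.mulAutMulEquiv N).isCyclic.2 inferInstance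
  have haut : Nat.card (MulAut N) = r - 1 := by
    rw [IsCyclic.card_mulAut, hcard, Nat.totient_prime hr]
  have hindex : C.index ∣ r - 1 := by
    rw [← hker, Subgroup.index_ker, ← haut]
    exact Subgroup.card_subgroup_dvd_card _
  rcases InvChar.cyclic_or_quaternion hCp huniq with hcyc | ⟨hr2, n, ⟨e⟩⟩
  · left
    refine ⟨hHeq, hcard ▸ hr, hcyc, ?_, ?_, by rw [hcard]; exact hindex⟩
    · obtain ⟨k, hk⟩ := hCp.exists_card_eq
      refine ⟨k, ?_, by rw [hk, hcard]⟩
      have h1 := Subgroup.card_le_of_le hNC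
      rw [hcard, hk] at h1
      rcases Nat.eq_zero_or_pos k with rfl | h
      · simp at h1; exact absurd h1 (not_le.2 hr.one_lt)
      · exact h
    · obtain ⟨⟨a, g, hga⟩, hgen⟩ := IsCyclic.exists_generator (α := φ.range)
      refine ⟨g, eq_top_iff.2 fun x _ => ?_⟩
      obtain ⟨k, hk⟩ := hgen ⟨φ x, x, rfl⟩
      have hk' : φ x = φ (g ^ k) := by
        rw [map_zpow, hga]
        simpa using (congrArg Subtype.val hk).symm
      have hxC : x * (g ^ k)⁻¹ ∈ C := by
        rw [← hker, MonoidHom.mem_ker, map_mul, map_inv, hk', mul_inv_cancel]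
      simpa using Subgroup.mul_mem_sup hxC (Subgroup.zpow_mem _ (Subgroup.mem_zpowers g) k)
  · subst hr2
    have hC : C = ⊤ := Subgroup.index_eq_one.1 (Nat.dvd_one.1 hindex)
    have e' : F ≃* QuaternionGroup (2 ^ n) :=
      (Subgroup.topEquiv.symm.trans (MulEquiv.subgroupCongr hC.symm)).trans e
    rcases Nat.eq_zero_or_pos n with rfl | hn
    · have : IsCyclic C := e.isCyclic.2 QuaternionGroup.quaternionGroup_one_isCyclic
      left
      refine ⟨hHeq, hcard ▸ hr, this, ?_, ⟨1, by simp [hC]⟩, by rw [hcard]; exact hindex⟩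
      refine ⟨2, by norm_num, ?_⟩
      rw [Nat.card_congr e.toEquiv, hcard, Nat.card_eq_fintype_card, QuaternionGroup.card]
      norm_num
    · exact Or.inr ⟨hHeq, hcard, hC, n, hn, ⟨e'⟩⟩

/-- Let F be a finite group and H a nontrivial subgroup of F that is contained in every nontrivial subgroup of F which H normalizes. Then F has a nontrivial normal subgroup N contained in every nontrivial normal subgroup of F (a unique minimal normal subgroup), N is simple, and one of the following holds: C_F(N) = 1; or H = N has prime order p, C_F(N) is cyclic of order a power of p, and F/C_F(N) is cyclic of order dividing p − 1; or H = N has order 2, N is central in F, and F is a generalized quaternion group. -/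
theorem result {F : Type*} [Group F] [Finite F] (H : Subgroup F) (hH : H ≠ ⊥)
    (hmin : ∀ R : Subgroup F, R ≠ ⊥ → H ≤ Subgroup.normalizer (R : Set F) → H ≤ R) :
    ∃ N : Subgroup F, N.Normal ∧ N ≠ ⊥ ∧ (∀ M : Subgroup F, M.Normal → M ≠ ⊥ → N ≤ M) ∧ IsSimpleGroup ↥N ∧
      (Subgroup.centralizer (N : Set F) = ⊥ ∨
       (H = N ∧ (Nat.card N).Prime ∧ IsCyclic ↥(Subgroup.centralizer (N : Set F)) ∧
          (∃ k : ℕ, 1 ≤ k ∧ Nat.card ↥(Subgroup.centralizer (N : Set F)) = Nat.card N ^ k) ∧
          (∃ g : F, Subgroup.centralizer (N : Set F) ⊔ Subgroup.zpowers g = ⊤) ∧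
          (Subgroup.centralizer (N : Set F)).index ∣ Nat.card N - 1) ∨
       (H = N ∧ Nat.card N = 2 ∧ Subgroup.centralizer (N : Set F) = ⊤ ∧
          ∃ k : ℕ, 1 ≤ k ∧ Nonempty (F ≃* QuaternionGroup (2 ^ k)))) := by
  have : Nontrivial F := by
    obtain ⟨h0, -, hh01⟩ := (Subgroup.bot_or_exists_ne_one H).resolve_left hH
    exact ⟨⟨h0, 1, hh01⟩⟩
  obtain ⟨N, hN⟩ := Recog.exists_isMinNormal (G := F)
  have hle : ∀ M : Subgroup F, M.Normal → M ≠ ⊥ → H ≤ M := by
    intro M hM hM1
    exact hmin M hM1 (by rw [Subgroup.normalizer_eq_top]; exact le_top)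
  have hHN : H ≤ N := hle N hN.normal hN.ne_bot
  have huniq : ∀ M : Subgroup F, M.Normal → M ≠ ⊥ → N ≤ M := by
    intro M hM hM1
    have := hN.normal
    rcases hN.minimal (N ⊓ M) inferInstance inf_le_left with h | h
    · exact absurd (le_bot_iff.1 ((le_inf hHN (hle M hM hM1)).trans h.le)) hH
    · exact inf_eq_left.1 h
  refine ⟨N, hN.normal, hN.ne_bot, huniq, ?_⟩
  by_cases hc : IsMulCommutative N
  · obtain ⟨h1, h2⟩ := comm_case hH hmin hN hHN hc
    exact ⟨h1, Or.inr h2⟩
  · refine ⟨?_, Or.inl ?_⟩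
    · obtain ⟨T, hT⟩ := Recog.exists_isFactor hN.ne_bot
      have hHT : ∀ S : Subgroup F, Recog.IsFactor N S → H ≤ S := fun S hS =>
        hmin S hS.ne_bot (hHN.trans hS.le_normalizer)
      have hconj : ∀ g : F, T.map (MulAut.conj g).toMonoidHom = T := by
        intro g
        by_contra hne
        have hS := hT.map_conj hN.normal g
        exact hH (le_bot_iff.1 ((le_inf (hHT _ hS) (hHT T hT)).trans (hS.inf_eq_bot hT hne).le))
      have hTN : N = T :=
        le_antisymm (hN.le_of_conj_le hT fun g => (hconj g).le) hT.le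
      rw [hTN]
      exact hN.isSimpleGroup_factor hT
    · by_contra h
      have := hN.normal
      have h1 : N ≤ Subgroup.centralizer (N : Set F) := huniq _ inferInstance h
      exact hc ⟨⟨fun a b => Subtype.ext (Subgroup.mem_centralizer_iff.1 (h1 b.2) a a.2)⟩⟩

end Cfsg.Agent.S3025
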