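import Cfsg.Statements.S3027


set_option autoImplicit false
open Cfsg

namespace Cfsg.Agent.S3027

open scoped commutatorElement
private theorem meet_supplement {G : Type*} [Group G] [Finite G] (D : Subgroup G) [D.Normal]
    (hperf : ⁅(⊤ : Subgroup G), (⊤ : Subgroup G)⁆ ⊔ D = ⊤) {Y Z : Subgroup G}
    (hY : Y ⊔ D = ⊤) (hZ : Z ⊔ D = ⊤) (hc : ⁅Y, Z⁆ ≤ Y ⊓ Z) : (Y ⊓ Z) ⊔ D = ⊤ := by
  set π := QuotientGroup.mk' D with hπ
  have htop : ∀ X : Subgroup G, X ⊔ D = ⊤ ↔ X.map π = ⊤ := by
    intro X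
    constructor
    · intro h
      have := congrArg (Subgroup.map π) h
      rwa [Subgroup.map_sup, QuotientGroup.map_mk'_self, sup_bot_eq,
        Subgroup.map_top_of_surjective π (QuotientGroup.mk'_surjective D)] at this
    · intro h
      have := congrArg (Subgroup.comap π) h
      rwa [Subgroup.comap_map_eq, QuotientGroup.ker_mk', Subgroup.comap_top] at this
  rw [htop] at hY hZ ⊢
  rw [← top_le_iff]
  have h1 : (⊤ : Subgroup (G ⧸ D)) ≤ ⁅Y.map π, Z.map π⁆ := by
    rw [hY, hZ]
    have := congrArg (Subgroup.map π) hperf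
    rw [Subgroup.map_sup, QuotientGroup.map_mk'_self, sup_bot_eq, Subgroup.map_commutator,
      Subgroup.map_top_of_surjective π (QuotientGroup.mk'_surjective D)] at this
    exact this.ge
  exact h1.trans ((Subgroup.map_commutator Y Z π).ge.trans (Subgroup.map_mono hc))

/-- Let G be a finite group and D a normal subgroup of G such that G/D is perfect (that is, G = G′D). Then among the subnormal subgroups B of G with BD = G there is a least one, and it is normal in G. -/
theorem result {G : Type*} [Group G] [Finite G] (D : Subgroup G) [D.Normal] (hperf : ⁅(⊤ : Subgroup G), (⊤ : Subgroup G)⁆ ⊔ D = ⊤) :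
    ∃ B : Subgroup G, B.Normal ∧ B ⊔ D = ⊤ ∧ ∀ B' : Subgroup G, B'.IsSubnormal → B' ⊔ D = ⊤ → B ≤ B' := by
  classical
  obtain ⟨B, hB⟩ := Set.Finite.exists_minimal
    (Set.toFinite {B : Subgroup G | B.Normal ∧ B ⊔ D = ⊤}) ⟨⊤, inferInstance, top_sup_eq _⟩
  haveI := hB.1.1
  -- supplements of `D` normalized by `B` and inside `B`
  have hmin : ∀ Y : Subgroup G, Y ≤ B → B ≤ Subgroup.normalizer (Y : Set G) → Y ⊔ D = ⊤ → Y = B := by
    intro Y hYB hBY hY
    obtain ⟨L, hL⟩ := Set.Finite.exists_minimal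
      (Set.toFinite {L : Subgroup G | L ≤ B ∧ B ≤ Subgroup.normalizer (L : Set G) ∧ L ⊔ D = ⊤}) ⟨Y, hYB, hBY, hY⟩
    have hle : ∀ Z : Subgroup G, Z ≤ B → B ≤ Subgroup.normalizer (Z : Set G) → Z ⊔ D = ⊤ → L ≤ Z := by
      intro Z hZB hBZ hZ
      have hmem : L ⊓ Z ∈ {L : Subgroup G | L ≤ B ∧ B ≤ Subgroup.normalizer (L : Set G) ∧ L ⊔ D = ⊤} := by
        refine ⟨inf_le_left.trans hL.1.1, fun b hb => ?_, meet_supplement D hperf hL.1.2.2 hZ ?_⟩
        · refine Subgroup.mem_normalizer_iff.2 fun y => ?_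
          rw [Subgroup.mem_inf, Subgroup.mem_inf, ← Subgroup.mem_normalizer_iff.1 (hL.1.2.1 hb),
            ← Subgroup.mem_normalizer_iff.1 (hBZ hb)]
        · refine le_inf ?_ ?_
          · exact Subgroup.le_normalizer_iff_commutator_le_left.1 (hZB.trans hL.1.2.1)
          · rw [Subgroup.commutator_comm]
            exact Subgroup.le_normalizer_iff_commutator_le_left.1 (hL.1.1.trans hBZ)
      exact (hL.2 hmem inf_le_left).trans inf_le_right
    have hLn : L.Normal := by
      refine ⟨fun y hy g => ?_⟩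
      have h1 := hle (L.map (MulAut.conj g⁻¹).toMonoidHom) ?_ ?_ ?_ hy
      · obtain ⟨w, hw, rfl⟩ := h1
        simpa [mul_assoc] using hw
      · rintro _ ⟨w, hw, rfl⟩
        exact Subgroup.Normal.conj_mem inferInstance w (hL.1.1 hw) _
      · refine le_trans ?_ (L.le_normalizer_map _)
        intro b hb
        exact ⟨g * b * g⁻¹, hL.1.2.1 (Subgroup.Normal.conj_mem inferInstance b hb g), by simp [mul_assoc]⟩
      · have := congrArg (Subgroup.map (MulAut.conj g⁻¹).toMonoidHom) hL.1.2.2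
        rw [Subgroup.map_sup, Subgroup.map_top_of_surjective _ (MulAut.conj g⁻¹).surjective] at this
        rw [← top_le_iff, ← this]
        refine sup_le le_sup_left (le_trans ?_ le_sup_right)
        rintro _ ⟨w, hw, rfl⟩
        exact Subgroup.Normal.conj_mem inferInstance w hw _
    have hBL : B ≤ L := hB.2 ⟨hLn, hL.1.2.2⟩ hL.1.1
    exact le_antisymm hYB (hBL.trans (hle Y hYB hBY hY))
  refine ⟨B, hB.1.1, hB.1.2, fun B' hsub hB' => ?_⟩
  induction hsub with
  | top => exact le_top
  | step H K hle hK hn ih =>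
    have hKsup : K ⊔ D = ⊤ := top_le_iff.1 (hB'.ge.trans (sup_le_sup_right hle D))
    have hBK : B ≤ K := ih hKsup
    have hnH : K ≤ Subgroup.normalizer (H : Set G) := (Subgroup.normal_subgroupOf_iff_le_normalizer hle).1 hn
    have hc : ⁅B, H⁆ ≤ B ⊓ H := by
      refine le_inf (Subgroup.commutator_le_left B H) ?_
      rw [Subgroup.commutator_comm]
      exact Subgroup.le_normalizer_iff_commutator_le_left.1 (hBK.trans hnH)
    have h2 := hmin (B ⊓ H) inf_le_left (fun b hb => by
      refine Subgroup.mem_normalizer_iff.2 fun y => ?_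
      rw [Subgroup.mem_inf, Subgroup.mem_inf, ← Subgroup.mem_normalizer_iff.1 (hnH (hBK hb))]
      rw [← Subgroup.mem_normalizer_iff.1 (Subgroup.le_normalizer hb)])
      (meet_supplement D hperf hB.1.2 hB' hc)
    exact h2.ge.trans inf_le_right

end Cfsg.Agent.S3027
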