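import Cfsg.Statements.S3031
import Cfsg.Agent.Lib.LocalEvenB.FixedOrder
import Cfsg.Agent.Lib.ConjFunctor.Family
import Cfsg.Agent.Lib.Transfer.Tate
import Cfsg.Agent.Lib.Transfer.Fusion
import Cfsg.Agent.Lib.Transfer.Abelian

set_option autoImplicit false
open Cfsg

namespace Cfsg.Agent.S3031

open Cfsg.Agent.LocalEvenB Cfsg.Agent.ConjFunctor
open scoped commutatorElement

private theorem coprime_pred {G : Type*} [Group G] [Finite G] {p : ℕ} [Fact p.Prime]
    (hmin : ∀ q : ℕ, q.Prime → q ∣ Nat.card G → p ≤ q) (x : G) : (orderOf x).Coprime (p - 1) := by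
  refine Nat.coprime_of_dvd fun r hr h1 h2 => ?_
  have h3 : 0 < p - 1 := by have := (Fact.out : p.Prime).two_le; omega
  have := hmin r hr (h1.trans (orderOf_dvd_natCard x))
  have := Nat.le_of_dvd h3 h2
  omega

/-- Let G be a finite group, p the smallest prime dividing |G| and P a Sylow p-subgroup. Suppose that P is cyclic, or that P has a subgroup D with 1 < |D| < |P| such that every subgroup E of P of order |D|, and also every subgroup E of P of order 4 when |D| = 2, satisfies g E g⁻¹ ∩ N_G(E) ≤ E for all g ∈ G (E is strongly closed in its normalizer with respect to G). Then G has a normal p-complement. -/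
theorem result {G : Type*} [Group G] [Finite G] {p : ℕ} [Fact p.Prime] (hdiv : p ∣ Nat.card G)
    (hmin : ∀ q : ℕ, q.Prime → q ∣ Nat.card G → p ≤ q) (P : Sylow p G)
    (h : IsCyclic ↥(P : Subgroup G) ∨ ∃ D : Subgroup G, D ≤ (P : Subgroup G) ∧ 1 < Nat.card D ∧ Nat.card D < Nat.card (P : Subgroup G) ∧
      ∀ E : Subgroup G, E ≤ (P : Subgroup G) → (Nat.card E = Nat.card D ∨ (Nat.card D = 2 ∧ Nat.card E = 4)) →
        ∀ g : G, E.map (MulAut.conj g).toMonoidHom ⊓ Subgroup.normalizer (E : Set G) ≤ E) :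
    Cfsg.HasNormalPComplement p G := by
  classical
  have hp := (Fact.out : p.Prime)
  rcases h with hcyc | ⟨D, hDP, hD1, hD2, hD⟩
  · have hne : Nat.card G ≠ 1 := fun h1 => hp.one_lt.ne' (Nat.dvd_one.1 (h1 ▸ hdiv))
    have hm : (Nat.card G).minFac = p := le_antisymm (Nat.minFac_le_of_dvd hp.two_le hdiv)
      (hmin _ (Nat.minFac_prime hne) (Nat.minFac_dvd _))
    exact Transfer.hasNormalPComplement_of_normalizer_le P (IsCyclic.normalizer_le_centralizer hm hcyc)
  obtain ⟨e, he⟩ := IsPGroup.iff_card.1 (P.isPGroup'.to_le hDP)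
  rw [he] at hD1 hD2 hD
  have he1 : 1 ≤ e := Nat.pos_of_ne_zero fun h0 => by subst h0; simp at hD1
  -- normal and strongly closed
  have hclosed : ∀ E : Subgroup G, E ≤ (P : Subgroup G) → (Nat.card E = p ^ e ∨ (p ^ e = 2 ∧ Nat.card E = 4)) →
      ∀ y ∈ E, ∀ g : G, g * y * g⁻¹ ∈ (P : Subgroup G) → g * y * g⁻¹ ∈ E := by
    intro E hEP hE
    have hN : (P : Subgroup G) ≤ Subgroup.normalizer (E : Set G) := by
      have h1 := eq_of_inf_normalizer_le (H := (P : Subgroup G) ⊓ Subgroup.normalizer (E : Set G))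
        P.isPGroup' inf_le_left (by
        rintro n ⟨hnP, hnN⟩
        refine ⟨hnP, mem_normalizer_of_conj_mem fun y hy => ?_⟩
        refine hD E hEP hE n ⟨conjMap_apply_mem hy, ?_⟩
        exact ((Subgroup.mem_normalizer_iff.1 hnN y).1 ⟨hEP hy, Subgroup.le_normalizer hy⟩).2)
      exact h1.le.trans inf_le_right
    intro y hy g hg
    exact hD E hEP hE g ⟨conjMap_apply_mem hy, hN hg⟩
  set Φ := (frattini ↥(P : Subgroup G)).map (P : Subgroup G).subtype with hΦ
  have hΦc : ∀ a ∈ (P : Subgroup G), ∀ b ∈ (P : Subgroup G), a * b * a⁻¹ * b⁻¹ ∈ Φ := fun a ha b hb =>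
    ⟨⟨a, ha⟩ * ⟨b, hb⟩ * ⟨a, ha⟩⁻¹ * ⟨b, hb⟩⁻¹, FGB.commutatorElement_mem_frattini P.isPGroup' _ _, rfl⟩
  have hlocal : ∀ T : Subgroup G, T ≤ (P : Subgroup G) → ∀ x ∈ Subgroup.normalizer (T : Set G),
      (orderOf x).Coprime p → ∀ y ∈ T, x * y * x⁻¹ * y⁻¹ ∈ Φ := by
    intro T hT x hxT hx y hy
    have hTp : IsPGroup p T := P.isPGroup'.to_le hT
    have hx1 := coprime_pred hmin x
    rcases lt_or_ge (p ^ e) (Nat.card T) with hlt | hge
    · have := commute_of_fixed_order hTp hxT hx hx1 he1 hlt (fun E hE hEc =>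
        mem_normalizer_of_conj_mem fun u hu => hclosed E (hE.trans hT) hEc u hu x
          (hT ((Subgroup.mem_normalizer_iff.1 hxT u).1 (hE hu)))) y hy
      rw [this.eq, mul_inv_cancel_right, mul_inv_cancel]
      exact one_mem _
    refine ⟨⟨x * y * x⁻¹ * y⁻¹, Subgroup.mul_mem _
      (hT ((Subgroup.mem_normalizer_iff.1 hxT y).1 hy)) (Subgroup.inv_mem _ (hT hy))⟩, ?_, rfl⟩
    rw [SetLike.mem_coe, frattini, Order.radical]
    simp only [Subgroup.mem_iInf]
    intro M hM
    obtain ⟨hMn, hMi⟩ := FGB.coatom_normal_and_index P.isPGroup' hM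
    set M' := M.map (P : Subgroup G).subtype with hM'
    have hM'P : M' ≤ (P : Subgroup G) := Subgroup.map_subtype_le _
    have hback : ∀ u : ↥(P : Subgroup G), (u : G) ∈ M' → u ∈ M := by
      rintro u ⟨m, hm, hme⟩
      rwa [← show m = u from Subtype.ext hme]
    have hM'c : p ^ e ≤ Nat.card M' := by
      have h1 := Subgroup.card_mul_index M
      rw [hMi] at h1
      obtain ⟨t, ht⟩ := IsPGroup.iff_card.1 P.isPGroup'
      rw [hM', Subgroup.card_map_of_injective (Subgroup.subtype_injective _)]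
      rw [ht] at hD2 h1
      have het := (Nat.pow_lt_pow_iff_right hp.one_lt).1 hD2
      refine Nat.le_of_mul_le_mul_right ?_ hp.pos
      rw [h1, ← pow_succ]
      exact Nat.pow_le_pow_right hp.pos het
    set U := T ⊓ M' with hU
    have hxU : x ∈ Subgroup.normalizer (U : Set G) := by
      refine mem_normalizer_of_conj_mem fun u hu => ?_
      have hxu := (Subgroup.mem_normalizer_iff.1 hxT u).1 hu.1
      refine ⟨hxu, ?_⟩
      have h1 : Nat.card (Subgroup.zpowers u) ≤ p ^ e :=
        (Nat.le_of_dvd Nat.card_pos (Subgroup.card_dvd_of_le (Subgroup.zpowers_le.2 hu.1))).trans hge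
      obtain ⟨E, huE, hEM, hE⟩ := exists_card_pow_le (P.isPGroup'.to_le hM'P)
        (Subgroup.zpowers_le.2 hu.2) h1 hM'c
      exact hEM (hclosed E (hEM.trans hM'P) (Or.inl hE) u (huE (Subgroup.mem_zpowers u)) x (hT hxu))
    apply hback
    show x * y * x⁻¹ * y⁻¹ ∈ M'
    by_cases hTM : T ≤ M'
    · exact M'.mul_mem (hTM ((Subgroup.mem_normalizer_iff.1 hxT y).1 hy)) (M'.inv_mem (hTM hy))
    have hrel : M'.relIndex T = p := by
      haveI := hMn
      have h1 : M.relIndex (T.subgroupOf (P : Subgroup G)) ∣ M.index :=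
        Subgroup.relIndex_dvd_index_of_normal M _
      rw [hMi] at h1
      have h2 : M.relIndex (T.subgroupOf (P : Subgroup G)) = M'.relIndex T := by
        conv_rhs => rw [hM', ← Subgroup.map_subgroupOf_eq_of_le hT]
        rw [Subgroup.relIndex_map_map_of_injective _ _ (Subgroup.subtype_injective _)]
      rw [h2] at h1
      exact ((Nat.dvd_prime hp).1 h1).resolve_left fun h3 => hTM (Subgroup.relIndex_eq_one.1 h3)
    have hcard : Nat.card U * p = Nat.card T := by
      have h1 := Subgroup.card_mul_index (M'.subgroupOf T)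
      rw [← Subgroup.relIndex, hrel] at h1
      rw [hU, inf_comm, ← Subgroup.subgroupOf_map_subtype, Subgroup.card_map_of_injective T.subtype_injective]
      exact h1
    exact (conj_mul_inv_mem hTp inf_le_left hcard hxT hxU hx hx1 y hy).2
  have hglobal : ∀ (A : Set G) (g : G), A ⊆ (P : Subgroup G) → cS g A ⊆ (P : Subgroup G) →
      ∀ a ∈ A, g * a * g⁻¹ * a⁻¹ ∈ Φ := by
    intro A g hA hg
    refine Steps.induction_rel (R := fun A g => ∀ a ∈ A, g * a * g⁻¹ * a⁻¹ ∈ Φ) ?_ ?_ ?_
      (alperin_fn P A g hA hg)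
    · intro A a _
      simp
    · intro A c d hc hd a ha
      have h1 := Φ.mul_mem (hd _ ⟨a, ha, rfl⟩) (hc a ha)
      convert h1 using 1
      group
    · intro T hT B hB x hx a ha
      have hTP : T ≤ (P : Subgroup G) := hT.1
      set N := Subgroup.normalizer (T : Set G) with hNdef
      let M : Subgroup ↥N :=
        { carrier := {x | ∀ y ∈ T, (x : G) * y * (x : G)⁻¹ * y⁻¹ ∈ Φ}
          one_mem' := by intro y _; simp
          mul_mem' := by
            intro u v hu hv y hy
            have h1 := Φ.mul_mem (hu _ ((Subgroup.mem_normalizer_iff.1 v.2 y).1 hy)) (hv y hy)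
            convert h1 using 1
            simp only [Subgroup.coe_mul]
            group
          inv_mem' := by
            intro u hu y hy
            have h0 : (u : G)⁻¹ * y * (u : G) ∈ T := by
              simpa using (Subgroup.mem_normalizer_iff.1 (N.inv_mem u.2) y).1 hy
            have h1 := Φ.inv_mem (hu _ h0)
            convert h1 using 1
            simp only [InvMemClass.coe_inv]
            group }
      let Q : Sylow p ↥N := IsPGroup.toSylow (P := (nS (P : Subgroup G) T).subgroupOf N)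
        (P.isPGroup'.to_inf_left.comap_subtype) hT.2
      have htop : M = ⊤ := by
        rw [← top_le_iff, ← Transfer.pResidual_sup_sylow Q]
        refine sup_le ((Subgroup.closure_le _).2 fun u hu => ?_) fun u hu => ?_
        · exact fun y hy => hlocal T hTP u u.2 (by rwa [Subgroup.orderOf_coe]) y hy
        · exact fun y hy => hΦc u (Subgroup.mem_inf.1 (Subgroup.mem_subgroupOf.1 hu)).1 y (hTP hy)
      have hxM : (⟨x, hx⟩ : ↥N) ∈ M := by rw [htop]; exact Subgroup.mem_top _
      exact hxM a (hB ha)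
  have hPΦ : (P : Subgroup G) ≤ Subgroup.normalizer (Φ : Set G) := fun t ht => mem_normalizer_of_conj_mem (by
    rintro _ ⟨v, hv, rfl⟩
    exact ⟨⟨t, ht⟩ * v * ⟨t, ht⟩⁻¹, (inferInstance : (frattini ↥(P : Subgroup G)).Normal).conj_mem v hv _, rfl⟩)
  have hhyp := Transfer.inf_pResidual_le_of_fusion P (Φ ⊓ pResidual p G)
    (inf_le_inf_right _ (Subgroup.map_subtype_le _))
    (fun t ht => mem_normalizer_of_conj_mem fun y hy => ⟨(Subgroup.mem_normalizer_iff.1 (hPΦ ht) y).1 hy.1,
      Subgroup.Normal.conj_mem inferInstance y hy.2 t⟩)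
    (fun x hx g hg hgx => by
      refine Subgroup.mem_sup_left ⟨?_, (pResidual p G).mul_mem ((pResidual p G).inv_mem hx.2) hgx.2⟩
      have h1 := hglobal {x} g⁻¹ (by simpa using hx.1) (by simpa [cS] using hgx.1) x rfl
      rw [inv_inv] at h1
      have h2 := (Subgroup.mem_normalizer_iff.1 (hPΦ ((P : Subgroup G).inv_mem hx.1)) _).1 h1
      rw [show x⁻¹ * (g⁻¹ * x * g) = x⁻¹ * (g⁻¹ * x * g * x⁻¹) * x⁻¹⁻¹ by group]
      exact h2)
  have htate := Transfer.hasNormalPComplement_of_le_frattini P (pResidual p G) (by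
    rw [inf_comm]; exact hhyp.trans inf_le_left)
  rw [Transfer.hasNormalPComplement_iff, Transfer.pResidual_pResidual, Subgroup.card_top] at htate
  exact Transfer.hasNormalPComplement_iff.2 htate

end Cfsg.Agent.S3031
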