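import Cfsg.Statements.S3032
import Cfsg.Agent.Lib.LocalEvenB.HyperCyclic
import Cfsg.Agent.S3031

set_option autoImplicit false
open Cfsg

namespace Cfsg.Agent.S3032

open Cfsg.Agent.LocalEvenB

/-- Let G be a finite group and E a normal subgroup with G/E supersolvable. Suppose that for every prime p and every non-cyclic Sylow p-subgroup P of E there is a subgroup D of P with 1 < |D| < |P| such that every subgroup F of P of order |D|, and also every subgroup F of P of order 4 when |D| = 2, satisfies g F g⁻¹ ∩ N_G(F) ≤ F for all g ∈ G. Then G is supersolvable. -/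
theorem result {G : Type*} [Group G] [Finite G] (E : Subgroup G) [E.Normal] (hGE : Cfsg.IsSupersolvable (G ⧸ E))
    (h : ∀ (p : ℕ), p.Prime → ∀ P : Subgroup G, P ≤ E → IsPGroup p P → ¬ p ∣ P.relIndex E → ¬ IsCyclic ↥P →
      ∃ D : Subgroup G, D ≤ P ∧ 1 < Nat.card D ∧ Nat.card D < Nat.card P ∧
        ∀ F : Subgroup G, F ≤ P → (Nat.card F = Nat.card D ∨ (Nat.card D = 2 ∧ Nat.card F = 4)) →
          ∀ g : G, F.map (MulAut.conj g).toMonoidHom ⊓ Subgroup.normalizer (F : Set G) ≤ F) :
    Cfsg.IsSupersolvable G := by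
  classical
  refine isSupersolvable_of_cycReach (cycReach_top_of_quotient E hGE ?_)
  suffices key : ∀ (n : ℕ) (N : Subgroup G), Nat.card N = n → N.Normal → N ≤ E →
      (N.relIndex E).Coprime (Nat.card N) → CycReach N from
    key _ E rfl inferInstance le_rfl (by rw [Subgroup.relIndex_self]; exact Nat.coprime_one_left _)
  intro n
  induction n using Nat.strong_induction_on with
  | _ n ih =>
  intro N hn hNn hNE hcop
  haveI := hNn
  by_cases hN1 : Nat.card N = 1
  · rw [Subgroup.eq_bot_of_card_eq N hN1]; exact CycReach.bot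
  set p := (Nat.card N).minFac with hpdef
  haveI hpf : Fact p.Prime := ⟨Nat.minFac_prime hN1⟩
  have hpN : p ∣ Nat.card N := Nat.minFac_dvd _
  obtain ⟨P⟩ : Nonempty (Sylow p ↥N) := inferInstance
  set P' := (P : Subgroup ↥N).map N.subtype with hP'
  have hP'N : P' ≤ N := Subgroup.map_subtype_le _
  have hP'p : IsPGroup p P' := P.isPGroup'.map _
  have hsub : P'.subgroupOf N = (P : Subgroup ↥N) := Subgroup.comap_map_eq_self_of_injective N.subtype_injective _
  have hnd : ¬ p ∣ P'.relIndex E := by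
    rw [← Subgroup.relIndex_mul_relIndex P' N E hP'N hNE]
    refine hpf.out.not_dvd_mul ?_ ?_
    · rw [Subgroup.relIndex, hsub]; exact P.not_dvd_index
    · exact fun hd => hpf.out.coprime_iff_not_dvd.1 (hcop.coprime_dvd_left hd |>.coprime_dvd_right hpN) dvd_rfl
  have hP'c : IsCyclic ↥P' → IsCyclic ↥(P : Subgroup ↥N) := fun hc =>
    isCyclic_of_surjective ((P : Subgroup ↥N).equivMapOfInjective _ N.subtype_injective).symm.toMonoidHom
      ((P : Subgroup ↥N).equivMapOfInjective _ N.subtype_injective).symm.surjective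
  have hcomp : Cfsg.HasNormalPComplement p ↥N := by
    refine S3031.result hpN (fun q hq hqd => Nat.minFac_le_of_dvd hq.two_le hqd) P ?_
    by_cases hc : IsCyclic ↥P'
    · exact Or.inl (hP'c hc)
    obtain ⟨D, hD, hD1, hD2, hDF⟩ := h p hpf.out P' (hP'N.trans hNE) hP'p hnd hc
    have hDc : Nat.card (D.subgroupOf N) = Nat.card D :=
      Nat.card_congr (Subgroup.subgroupOfEquivOfLe (hD.trans hP'N)).toEquiv
    refine Or.inr ⟨D.subgroupOf N, hsub ▸ Subgroup.comap_mono hD, by rw [hDc]; exact hD1, ?_, ?_⟩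
    · rw [hDc]; exact hD2.trans_eq (Subgroup.card_map_of_injective N.subtype_injective)
    intro F hF hFc g y hy
    have hF' : F.map N.subtype ≤ P' := Subgroup.map_mono hF
    have hFc' : Nat.card (F.map N.subtype) = Nat.card D ∨ (Nat.card D = 2 ∧ Nat.card (F.map N.subtype) = 4) := by
      rw [Subgroup.card_map_of_injective N.subtype_injective, ← hDc]; exact hFc
    obtain ⟨⟨u, hu, rfl⟩, hy2⟩ := hy
    have h1 := hDF _ hF' hFc' (g : G) (x := ((MulAut.conj g u : ↥N) : G))
      ⟨⟨(u : G), ⟨u, hu, rfl⟩, rfl⟩, mem_normalizer_of_conj_mem (by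
        rintro _ ⟨a, ha, rfl⟩
        exact ⟨_, (Subgroup.mem_normalizer_iff.1 hy2 a).1 ha, rfl⟩)⟩
    obtain ⟨v, hv, hve⟩ := h1
    have hve' : v = MulAut.conj g u := Subtype.ext hve
    exact hve' ▸ hv
  have hres := Transfer.hasNormalPComplement_iff.1 hcomp
  set K := pResidual p ↥N with hKdef
  haveI : K.Characteristic := Transfer.pResidual_characteristic ↥N p
  set K' := K.map N.subtype with hK'
  have hK'N : K' ≤ N := Subgroup.map_subtype_le _
  have hcompl : K.IsComplement' (P : Subgroup ↥N) := Transfer.isComplement'_pResidual hres P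
  have hK'c : Nat.card K' = Nat.card K := Subgroup.card_map_of_injective N.subtype_injective
  have hKdvd : Nat.card K' ∣ Nat.card N := Subgroup.card_dvd_of_le hK'N
  have hlt : Nat.card K' < n := by
    rw [← hn]
    refine lt_of_le_of_ne (Nat.le_of_dvd Nat.card_pos hKdvd) fun he => hres ?_
    rw [← hK'c, he]; exact hpN
  have hK'cop : (K'.relIndex E).Coprime (Nat.card K') := by
    rw [← Subgroup.relIndex_mul_relIndex K' N E hK'N hNE]
    refine Nat.Coprime.mul_left ?_ (hcop.coprime_dvd_right hKdvd)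
    rw [Subgroup.relIndex, hK', Subgroup.subgroupOf, Subgroup.comap_map_eq_self_of_injective N.subtype_injective,
      hcompl.symm.index_eq_card]
    obtain ⟨k, hk⟩ := IsPGroup.iff_card.1 P.isPGroup'
    rw [hk, Subgroup.card_map_of_injective N.subtype_injective]
    exact Nat.Coprime.pow_left k (hpf.out.coprime_iff_not_dvd.2 hres)
  have hKreach : CycReach K' := ih _ hlt K' rfl inferInstance (hK'N.trans hNE) hK'cop
  have hN' : K' ⊔ P' = N := by
    rw [hK', hP', ← Subgroup.map_sup, hcompl.sup_eq_top, ← MonoidHom.range_eq_map, Subgroup.range_subtype]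
  set H := Subgroup.normalizer (P' : Set G) with hH
  have hP'H : P' ≤ H := Subgroup.le_normalizer
  have hKH : K' ⊔ H = ⊤ := by
    rw [← top_le_iff, ← Sylow.normalizer_sup_eq_top P]
    refine sup_le le_sup_right ?_
    rw [← hN']
    exact sup_le le_sup_left (hP'H.trans le_sup_right)
  haveI : (P'.subgroupOf H).Normal := Subgroup.normal_in_normalizer
  have hQ : CycReach (P'.subgroupOf H) := by
    by_cases hc : IsCyclic ↥P'
    · obtain ⟨g, hg⟩ := IsCyclic.exists_generator (α := ↥P')
      have e : (⊥ : Subgroup ↥H) ⊔ Subgroup.zpowers (⟨g, hP'H g.2⟩ : ↥H) = P'.subgroupOf H := by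
        rw [bot_sup_eq]
        refine le_antisymm (Subgroup.zpowers_le.2 g.2) fun y hy => ?_
        obtain ⟨i, hi⟩ := Subgroup.mem_zpowers_iff.1 (hg ⟨(y : G), hy⟩)
        refine Subgroup.mem_zpowers_iff.2 ⟨i, Subtype.ext ?_⟩
        have h2 := congrArg Subtype.val hi
        simpa using h2
      rw [← e]
      exact CycReach.step _ CycReach.bot (e ▸ inferInstance)
    obtain ⟨D, hD, hD1, hD2, hDF⟩ := h p hpf.out P' (hP'N.trans hNE) hP'p hnd hc
    obtain ⟨e, he⟩ := IsPGroup.iff_card.1 (hP'p.to_le hD)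
    rw [he] at hD1 hD2 hDF
    refine cycReach_of_fixed_order (hP'p.comap_subtype) (e := e) ?_ ?_ fun F hF hFc => ?_
    · exact Nat.pos_of_ne_zero fun h0 => by subst h0; simp at hD1
    · rwa [Nat.card_congr (Subgroup.subgroupOfEquivOfLe hP'H).toEquiv]
    set F' := F.map H.subtype with hF'
    have hF'P : F' ≤ P' := by rintro _ ⟨a, ha, rfl⟩; exact hF ha
    have hFc' : Nat.card F' = p ^ e ∨ (p ^ e = 2 ∧ Nat.card F' = 4) := by
      rw [hF', Subgroup.card_map_of_injective H.subtype_injective]; exact hFc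
    have hPN : P' ≤ Subgroup.normalizer (F' : Set G) := by
      have h1 := eq_of_inf_normalizer_le (H := P' ⊓ Subgroup.normalizer (F' : Set G)) hP'p inf_le_left (by
        rintro m ⟨hmP, hmN⟩
        refine ⟨hmP, mem_normalizer_of_conj_mem fun y hy => ?_⟩
        exact hDF F' hF'P hFc' m ⟨conjMap_apply_mem hy,
          ((Subgroup.mem_normalizer_iff.1 hmN y).1 ⟨hF'P hy, Subgroup.le_normalizer hy⟩).2⟩)
      exact h1.le.trans inf_le_right
    refine ⟨fun a ha g => ?_⟩
    obtain ⟨b, hb, hbe⟩ := hDF F' hF'P hFc' (g : G) (x := (g : G) * (a : G) * (g : G)⁻¹)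
      ⟨conjMap_apply_mem ⟨a, ha, rfl⟩, hPN ((Subgroup.mem_normalizer_iff.1 g.2 a).1 (hF ha))⟩
    have hbe' : b = g * a * g⁻¹ := Subtype.ext hbe
    exact hbe' ▸ hb
  have hfin := cycReach_sup hKH hKreach hQ
  rwa [Subgroup.map_subgroupOf_eq_of_le hP'H, hN'] at hfin

end Cfsg.Agent.S3032
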