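import Cfsg.Statements.S3036
import Cfsg.Agent.Lib.LocalEvenB.Measure

set_option autoImplicit false
open Cfsg

namespace Cfsg.Agent.S3036

open Cfsg.Agent.LocalEvenB

/-- Let G be a finite non-abelian simple group and A a proper nontrivial subgroup of G. Then |G| > |A| · |C_G(A)|. In particular |G| > |A|² for every nontrivial abelian subgroup A of G. -/
theorem result {G : Type*} [Group G] [Finite G] [IsSimpleGroup G] (hG : ¬ IsMulCommutative G) (A : Subgroup G) (hA1 : A ≠ ⊥) (hA2 : A ≠ ⊤) : Nat.card A * Nat.card ↥(Subgroup.centralizer (A : Set G)) < Nat.card G := by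
  by_contra hlt
  rw [not_lt] at hlt
  have hZ : Subgroup.center G = ⊥ := by
    rcases Subgroup.Normal.eq_bot_or_eq_top (Subgroup.normal_of_characteristic (Subgroup.center G)) with h | h
    · exact h
    · exact absurd ⟨⟨fun a b => (Subgroup.mem_center_iff.1 (h ▸ Subgroup.mem_top a) b).symm⟩⟩ hG
  have hnorm : ∀ H : Subgroup G, (∀ g : G, H.map (MulAut.conj g).toMonoidHom = H) → H = ⊥ ∨ H = ⊤ := by
    intro H h
    haveI : H.Normal := ⟨fun y hy g => by
      rw [← h g]; exact conjMap_apply_mem hy⟩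
    exact Subgroup.Normal.eq_bot_or_eq_top inferInstance
  have hconj : ∀ (g : G) (H : Subgroup G), Cfsg.IsCentralizerLarge H →
      Cfsg.IsCentralizerLarge (H.map (MulAut.conj g).toMonoidHom) := fun g H hH =>
    (isCentralizerLarge_iff _).2 fun K => ((isCentralizerLarge_iff _).1 hH K).trans (cdMeasure_conjMap g H).ge
  obtain ⟨B, hB⟩ := exists_isCentralizerLarge G
  have hJ : Cfsg.IsCentralizerLarge (sSup {H : Subgroup G | Cfsg.IsCentralizerLarge H}) :=
    exists_sSup_eq (S := {H : Subgroup G | Cfsg.IsCentralizerLarge H}) ⟨B, hB⟩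
      fun X hX Y hY => (isCentralizerLarge_sup_inf hX hY).1
  set J := sSup {H : Subgroup G | Cfsg.IsCentralizerLarge H}
  have hbot : cdMeasure (⊥ : Subgroup G) = Nat.card G := by
    simp [cdMeasure]
  have hAm : cdMeasure (⊥ : Subgroup G) ≤ cdMeasure A := hbot ▸ hlt
  have hJn : J = ⊥ ∨ J = ⊤ := hnorm J fun g => Subgroup.eq_of_le_of_card_ge
    (le_sSup (hconj g J hJ)) (conjMap_card g J).ge
  have hAl : Cfsg.IsCentralizerLarge A := by
    refine (isCentralizerLarge_iff _).2 fun K => ((isCentralizerLarge_iff _).1 hJ K).trans ?_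
    rcases hJn with h | h
    · exact h ▸ hAm
    · rw [h]
      refine le_trans ?_ hAm
      rw [hbot]
      unfold cdMeasure
      rw [Subgroup.coe_top, Subgroup.centralizer_univ, hZ]
      simp
  -- a maximal proper large subgroup is normal
  obtain ⟨M, hAM, ⟨hM, hMt⟩, hmax⟩ := Finite.exists_le_maximal
    (p := fun H : Subgroup G => Cfsg.IsCentralizerLarge H ∧ H ≠ ⊤) (a := A) ⟨hAl, hA2⟩
  suffices hMn : ∀ g : G, M.map (MulAut.conj g).toMonoidHom = M by
    rcases hnorm M hMn with h | h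
    · exact hA1 (le_bot_iff.1 (hAM.trans h.le))
    · exact hMt h
  intro g
  obtain ⟨hs, -, hmul, -⟩ := isCentralizerLarge_sup_inf hM (hconj g M hM)
  by_cases htop : M ⊔ M.map (MulAut.conj g).toMonoidHom = ⊤
  · have hg : g⁻¹ ∈ ((⊤ : Subgroup G) : Set G) := Set.mem_univ _
    rw [← htop, hmul] at hg
    obtain ⟨a, ha, b, hb, hab⟩ := hg
    have hb' := mem_conjMap.1 hb
    have hgM : g ∈ M := by
      have h1 : g = a⁻¹ * (g⁻¹ * b * g)⁻¹ := by
        have h2 : b = a⁻¹ * g⁻¹ := by rw [← hab]; group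
        rw [h2]; group
      rw [h1]
      exact M.mul_mem (M.inv_mem ha) (M.inv_mem hb')
    exact conjMap_eq_of_mem_normalizer (Subgroup.le_normalizer hgM)
  · exact Subgroup.eq_of_le_of_card_ge (le_sup_right.trans (hmax ⟨hs, htop⟩ le_sup_left))
      (conjMap_card g M).ge

end Cfsg.Agent.S3036
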