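import Cfsg.Statements.S3037
import Cfsg.Agent.Lib.LocalEvenB.Measure

set_option autoImplicit false
open Cfsg

namespace Cfsg.Agent.S3037

open Cfsg.Agent.LocalEvenB

/-- Let V and G be subgroups of a finite group with V an elementary abelian p-group (p prime) on which G acts faithfully and irreducibly by conjugation: G normalizes V, G ∩ C(V) = 1, and the only subgroups of V normalized by G are 1 and V. If for some nontrivial subgroup A of G and some real α > 0 one has |V| ≤ |A|^α · |C_V(A)|, then |V| ≤ |G|^α. -/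
theorem result {X : Type*} [Group X] [Finite X] {p : ℕ} [Fact p.Prime] (V G : Subgroup X) (hV : Cfsg.IsElementaryAbelian p V)
    (hGV : G ≤ Subgroup.normalizer (V : Set X)) (hfaith : G ⊓ Subgroup.centralizer (V : Set X) = ⊥)
    (hirr : ∀ W : Subgroup X, W ≤ V → G ≤ Subgroup.normalizer (W : Set X) → W = ⊥ ∨ W = V)
    (A : Subgroup X) (hA : A ≤ G) (hA1 : A ≠ ⊥) (α : ℝ) (hα : 0 < α)
    (hbig : (Nat.card V : ℝ) ≤ (Nat.card A : ℝ) ^ α * (Nat.card ↥(V ⊓ Subgroup.centralizer (A : Set X)) : ℝ)) :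
    (Nat.card V : ℝ) ≤ (Nat.card G : ℝ) ^ α := by
  classical
  set C : Subgroup X → Subgroup X := fun B => V ⊓ Subgroup.centralizer (B : Set X) with hC
  set f : Subgroup X → ℝ := fun B => (Nat.card B : ℝ) ^ α * (Nat.card ↥(C B) : ℝ) with hf
  have hpos : ∀ B, 0 < f B := fun B =>
    mul_pos (Real.rpow_pos_of_pos (Nat.cast_pos.2 Nat.card_pos) α) (Nat.cast_pos.2 Nat.card_pos)
  have hlog : ∀ B B' : Subgroup X, f B * f B' ≤ f (B ⊔ B') * f (B ⊓ B') := by
    intro B B'
    have h1 : ((Nat.card B : ℝ) * Nat.card B') ≤ (Nat.card ↥(B ⊔ B') : ℝ) * Nat.card ↥(B ⊓ B') := by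
      exact_mod_cast card_mul_card_le B B'
    have hs : C (B ⊔ B') = C B ⊓ C B' := by
      simp only [hC]; rw [centralizer_sup]; exact inf_inf_distrib_left _ _ _
    have hi : C B ⊔ C B' ≤ C (B ⊓ B') :=
      sup_le (inf_le_inf_left _ (Subgroup.centralizer_le (SetLike.coe_subset_coe.2 inf_le_left)))
        (inf_le_inf_left _ (Subgroup.centralizer_le (SetLike.coe_subset_coe.2 inf_le_right)))
    have h2 : ((Nat.card ↥(C B) : ℝ) * Nat.card ↥(C B')) ≤ (Nat.card ↥(C (B ⊔ B')) : ℝ) * Nat.card ↥(C (B ⊓ B')) := by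
      rw [hs, mul_comm ((Nat.card ↥(C B ⊓ C B') : ℕ) : ℝ)]
      exact_mod_cast (card_mul_card_le (C B) (C B')).trans
        (Nat.mul_le_mul_right _ (Subgroup.card_le_of_le hi))
    have h3 := Real.rpow_le_rpow (by positivity) h1 hα.le
    rw [Real.mul_rpow (by positivity) (by positivity), Real.mul_rpow (by positivity) (by positivity)] at h3
    calc f B * f B' = ((Nat.card B : ℝ) ^ α * (Nat.card B' : ℝ) ^ α) * ((Nat.card ↥(C B) : ℝ) * Nat.card ↥(C B')) := by
          simp only [hf]; ring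
      _ ≤ _ := mul_le_mul h3 h2 (by positivity) (by positivity)
      _ = f (B ⊔ B') * f (B ⊓ B') := by simp only [hf]; ring
  haveI := Fintype.ofFinite (Subgroup X)
  obtain ⟨B₀, hB₀, hmax⟩ := (Finset.univ.filter (· ≤ G)).exists_max_image f ⟨⊥, by simp⟩
  rw [Finset.mem_filter] at hB₀
  have hmax' : ∀ B : Subgroup X, B ≤ G → f B ≤ f B₀ := fun B hB => hmax B (by simp [hB])
  set S : Set (Subgroup X) := {B | B ≤ G ∧ f B₀ ≤ f B}
  have hJ : sSup S ∈ S := by
    refine exists_sSup_eq ⟨B₀, hB₀.2, le_rfl⟩ ?_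
    rintro B ⟨hB, hfB⟩ B' ⟨hB', hfB'⟩
    refine ⟨sup_le hB hB', ?_⟩
    refine le_of_mul_le_mul_right ?_ (hpos B₀)
    calc f B₀ * f B₀ ≤ f B * f B' := mul_le_mul hfB hfB' (hpos _).le (hpos _).le
      _ ≤ f (B ⊔ B') * f (B ⊓ B') := hlog B B'
      _ ≤ f (B ⊔ B') * f B₀ := mul_le_mul_of_nonneg_left (hmax' _ (inf_le_left.trans hB)) (hpos _).le
  set J := sSup S
  have hGV' : ∀ g ∈ G, V.map (MulAut.conj g).toMonoidHom = V := fun g hg => conjMap_eq_of_mem_normalizer (hGV hg)
  have hconjC : ∀ g ∈ G, ∀ B : Subgroup X, (C B).map (MulAut.conj g).toMonoidHom = C (B.map (MulAut.conj g).toMonoidHom) := by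
    intro g hg B
    rw [hC]
    dsimp only
    rw [Subgroup.map_inf _ _ _ (MulAut.conj g).injective, hGV' g hg]
    congr 1
    ext c
    simp only [mem_conjMap, Subgroup.mem_centralizer_iff, SetLike.mem_coe]
    constructor
    · intro h u hu
      have h2 := congrArg (fun z => g * z * g⁻¹) (h _ hu)
      simpa [mul_assoc] using h2
    · intro h u hu
      have h2 := congrArg (fun z => g⁻¹ * z * g) (h (g * u * g⁻¹) (by simpa [mul_assoc] using hu))
      simpa [mul_assoc] using h2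
  have hfconj : ∀ g ∈ G, ∀ B : Subgroup X, f (B.map (MulAut.conj g).toMonoidHom) = f B := by
    intro g hg B
    simp only [hf]
    rw [conjMap_card, ← hconjC g hg B, conjMap_card]
  have hGJ : ∀ g ∈ G, J.map (MulAut.conj g).toMonoidHom = J := by
    intro g hg
    refine Subgroup.eq_of_le_of_card_ge (le_sSup ⟨?_, hJ.2.trans (hfconj g hg J).ge⟩) (conjMap_card g J).ge
    exact (Subgroup.map_mono hJ.1).trans (conjMap_le_of_mem_normalizer (Subgroup.le_normalizer hg))
  have hfbot : f ⊥ = Nat.card V := by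
    have h1 : C ⊥ = V := by
      simp only [hC]
      refine inf_eq_left.2 fun v _ => Subgroup.mem_centralizer_iff.2 fun u hu => ?_
      rw [Subgroup.mem_bot.1 hu, one_mul, mul_one]
    simp only [hf]
    rw [h1]
    simp
  have hfA : (Nat.card V : ℝ) ≤ f A := hbig
  have hJne : J ≠ ⊥ := by
    intro h
    refine hA1 (le_bot_iff.1 (h ▸ le_sSup ?_))
    refine ⟨hA, ?_⟩
    calc f B₀ ≤ f J := hJ.2
      _ ≤ f A := by rw [h, hfbot]; exact hfA
  have hCJ : C J = ⊥ := by
    rcases hirr (C J) inf_le_left (fun g hg => mem_normalizer_of_conjMap_le (by rw [hconjC g hg J, hGJ g hg])) with h | h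
    · exact h
    · exfalso
      refine hJne (le_bot_iff.1 (hfaith ▸ le_inf hJ.1 ?_))
      exact Subgroup.le_centralizer_iff.1 (h.ge.trans inf_le_right)
  calc (Nat.card V : ℝ) ≤ f A := hfA
    _ ≤ f B₀ := hmax' A hA
    _ ≤ f J := hJ.2
    _ = (Nat.card J : ℝ) ^ α := by simp only [hf]; rw [hCJ]; simp
    _ ≤ _ := Real.rpow_le_rpow (by positivity) (Nat.cast_le.2 (Subgroup.card_le_of_le hJ.1)) hα.le

end Cfsg.Agent.S3037
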