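import Cfsg.Statements.S3050
import Mathlib
import Cfsg.Agent.Lib.LocalEvenB.TraceOneSplit

set_option autoImplicit false
open Cfsg

namespace Cfsg.Agent.S3050

/-- Let G be a finite group with a normal 2-subgroup Q such that G/Q is isomorphic to SL(2, 2ⁿ) with n ≥ 2, and suppose some element of G of order 3 fixes no nonidentity element of Q under conjugation. Then Q is elementary abelian and is the direct product of normal subgroups of G on each of which G acts as SL(2, 2ⁿ) acts on its natural two-dimensional module (a Galois twist of the natural action allowed). -/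
theorem result {G : Type*} [Group G] [Finite G]
    (Q : Subgroup G) [Q.Normal] (hQ : IsPGroup 2 ↥Q) (n : ℕ) (hn : 2 ≤ n)
    (K : Type*) [Field K] [Fintype K] (hK : Fintype.card K = 2 ^ n)
    (e : G ⧸ Q ≃* Matrix.SpecialLinearGroup (Fin 2) K)
    (x : G) (hx : orderOf x = 3) (hfpf : ∀ q ∈ Q, x * q * x⁻¹ = q → q = 1) :
    Cfsg.IsElementaryAbelian 2 Q ∧
      ∃ (k : ℕ) (V : Fin k → Subgroup G), (∀ i, V i ≤ Q ∧ (V i).Normal ∧
        Cfsg.ActsAsSL2OnSection K ⊤ ⊤ (V i) ⊥) ∧ iSupIndep V ∧ ⨆ i, V i = Q := by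
  have hchar : CharP K 2 := by
    obtain ⟨p, hp⟩ := CharP.exists K
    have : Fact p.Prime := ⟨CharP.char_is_prime K p⟩
    obtain ⟨m, hpp, hm⟩ := FiniteField.card K p
    have h2 : 2 ∣ Fintype.card K := by rw [hK]; exact dvd_pow_self 2 (by omega)
    rw [hm] at h2
    have h3 : 2 = p := (Nat.prime_dvd_prime_iff_eq Nat.prime_two hpp).1 (Nat.prime_two.dvd_of_dvd_pow h2)
    rw [h3]; exact hp
  have hF : 2 < Fintype.card K := by
    rw [hK]
    calc 2 < 2 ^ 2 := by norm_num
      _ ≤ 2 ^ n := Nat.pow_le_pow_right two_pos hn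
  let π : G →* Matrix.SpecialLinearGroup (Fin 2) K := e.toMonoidHom.comp (QuotientGroup.mk' Q)
  have hker : π.ker = Q := by
    ext g
    simp [π, MonoidHom.mem_ker]
  have hctx : LocalEvenB.TraceOne.Ctx π x :=
    ⟨e.surjective.comp (QuotientGroup.mk'_surjective Q), by rw [hker]; exact hQ, hx,
      fun q hq h => hfpf q (hker ▸ hq) h⟩
  refine ⟨hker ▸ hctx.elementary hF, ?_⟩
  obtain ⟨k, V, h1, h2, h3⟩ := hctx.decompose hF
  exact ⟨k, V, fun i => ⟨hker ▸ (h1 i).1, (h1 i).2⟩, h2, h3.trans hker⟩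

end Cfsg.Agent.S3050
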