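import Cfsg.Statements.S3053
import Cfsg.Agent.Lib.LocalEvenB.Basic
import Cfsg.Agent.Lib.Basics.Tools
import Cfsg.Agent.Lib.Coprime23.Omega
import Cfsg.Agent.Lib.FGB.PGroupBasic

set_option autoImplicit false
open Cfsg

namespace Cfsg.Agent.S3053

open Cfsg.Agent.LocalEvenB
open scoped commutatorElement

private theorem conj_pow_eq {G : Type*} [Group G] {w z c : G} (hwc : Commute w c) (h : w * z * w⁻¹ = z * c) :
    ∀ k : ℕ, w ^ k * z * (w ^ k)⁻¹ = z * c ^ k := by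
  intro k
  induction k with
  | zero => simp
  | succ k ih =>
    calc w ^ (k + 1) * z * (w ^ (k + 1))⁻¹ = w * (w ^ k * z * (w ^ k)⁻¹) * w⁻¹ := by rw [pow_succ']; group
      _ = w * z * w⁻¹ * (w * c ^ k * w⁻¹) := by rw [ih]; group
      _ = z * c * c ^ k := by rw [h, (hwc.pow_right k).eq, mul_inv_cancel_right]
      _ = z * c ^ (k + 1) := by rw [pow_succ', mul_assoc]

/-- Let p be an odd prime and G a finite group with a Sylow p-subgroup P that is extraspecial of order p³ and exponent p². Then the centre of P is strongly closed in P with respect to G: a G-conjugate of an element of Z(P) that lies in P already lies in Z(P). In particular a nontrivial central element of P is conjugate in G to no noncentral element of P. -/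
theorem result {G : Type*} [Group G] [Finite G]
    {p : ℕ} [Fact p.Prime] (hp : p ≠ 2) (P : Sylow p G) (hE : Cfsg.IsExtraspecial p ↥P)
    (hcard : Nat.card P = p ^ 3) (hexp : Monoid.exponent ↥P = p ^ 2) :
    Cfsg.IsStronglyClosed ((Subgroup.center ↥P).map (P : Subgroup G).subtype) (P : Subgroup G) := by
  classical
  have hpp := (Fact.out : p.Prime)
  set Z := (Subgroup.center ↥(P : Subgroup G)).map (P : Subgroup G).subtype with hZ
  have hZc : Nat.card Z = p := by rw [hZ, Subgroup.card_map_of_injective (Subgroup.subtype_injective _)]; exact hE.2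
  refine ⟨Subgroup.map_subtype_le _, ?_⟩
  intro x hx g hgx
  by_contra hnot
  set y := g * x * g⁻¹ with hy
  have hxp : x ^ p = 1 := orderOf_dvd_iff_pow_eq_one.1 (hZc ▸ Subgroup.orderOf_dvd_natCard Z hx)
  have hyp : y ^ p = 1 := by rw [hy, conj_pow, hxp, mul_one, mul_inv_cancel]
  have hy1 : y ≠ 1 := fun h => hnot (h ▸ Z.one_mem)
  have hZcomm : ∀ a ∈ Z, ∀ b ∈ (P : Subgroup G), Commute b a := by
    rintro _ ⟨a, ha, rfl⟩ b hb
    exact congrArg Subtype.val (Subgroup.mem_center_iff.1 ha ⟨b, hb⟩)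
  have hcommP : ∀ a ∈ (P : Subgroup G), ∀ b ∈ (P : Subgroup G), a * b * a⁻¹ * b⁻¹ ∈ Z := fun a ha b hb =>
    ⟨⁅⟨a, ha⟩, ⟨b, hb⟩⁆, hE.1.2.2.le (Subgroup.commutator_mem_commutator (Subgroup.mem_top _) (Subgroup.mem_top _)), rfl⟩
  -- an element of `P` moving `y`
  obtain ⟨v, hvP, hvy⟩ : ∃ v ∈ (P : Subgroup G), ¬ Commute v y := by
    by_contra hall
    push Not at hall
    exact hnot ⟨⟨y, hgx⟩, Subgroup.mem_center_iff.2 fun b => Subtype.ext (hall b b.2).eq, rfl⟩
  set z := v * y * v⁻¹ * y⁻¹ with hz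
  have hzZ : z ∈ Z := hcommP v hvP y hgx
  have hz1 : z ≠ 1 := fun h => hvy (commutatorElement_eq_one_iff_mul_comm.1 h)
  have hzp : z ^ p = 1 := orderOf_dvd_iff_pow_eq_one.1 (hZc ▸ Subgroup.orderOf_dvd_natCard Z hzZ)
  have hzy : Commute z y := (hZcomm z hzZ y hgx).symm
  have hZz : Subgroup.zpowers z = Z := Subgroup.eq_of_le_of_card_ge (Subgroup.zpowers_le.2 hzZ) (by
    rw [Nat.card_zpowers, orderOf_eq_prime hzp hz1, hZc])
  -- the elementary subgroup `E`
  set E := Subgroup.zpowers z ⊔ Subgroup.zpowers y with hEdef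
  have hEP : E ≤ (P : Subgroup G) := sup_le (Subgroup.zpowers_le.2 (Subgroup.map_subtype_le _ hzZ))
    (Subgroup.zpowers_le.2 hgx)
  have hyn : Subgroup.zpowers y ≤ Subgroup.normalizer (Subgroup.zpowers z : Set G) :=
    Subgroup.zpowers_le.2 (Subgroup.centralizer_le_normalizer _ (Subgroup.mem_centralizer_iff.2 fun u hu => by
      obtain ⟨i, rfl⟩ := Subgroup.mem_zpowers_iff.1 hu
      exact (hzy.zpow_left i).eq))
  have hEcard : Nat.card E = p ^ 2 := by
    have h1 := Basics.card_mul_card_eq_card_sup_mul_card_inf hyn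
    have h2 : Subgroup.zpowers z ⊓ Subgroup.zpowers y = ⊥ := by
      by_contra hne
      have h3 : Subgroup.zpowers z ⊓ Subgroup.zpowers y = Subgroup.zpowers y := by
        refine Subgroup.eq_of_le_of_card_ge inf_le_right ?_
        rw [Nat.card_zpowers, orderOf_eq_prime hyp hy1]
        have h4 := Subgroup.card_dvd_of_le (inf_le_left : Subgroup.zpowers z ⊓ Subgroup.zpowers y ≤ _)
        rw [Nat.card_zpowers, orderOf_eq_prime hzp hz1, Nat.dvd_prime hpp] at h4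
        rcases h4 with h4 | h4
        · exact absurd (Subgroup.eq_bot_of_card_eq _ h4) hne
        · exact h4.ge
      exact hnot (hZz.le (h3.ge (Subgroup.mem_zpowers y)).1)
    rw [h2, Subgroup.card_bot, mul_one, Nat.card_zpowers, Nat.card_zpowers, orderOf_eq_prime hzp hz1,
      orderOf_eq_prime hyp hy1, ← pow_two] at h1
    exact h1.symm
  have hPcard : Nat.card (P : Subgroup G) = p ^ 3 := hcard
  have hcentE : ∀ (a : G), Commute a z → Commute a y → a ∈ Subgroup.centralizer (E : Set G) := by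
    intro a h1 h2
    have hsub : E ≤ Subgroup.centralizer ({a} : Set G) := sup_le
      (Subgroup.zpowers_le.2 (Subgroup.mem_centralizer_singleton_iff.2 h1.symm.eq))
      (Subgroup.zpowers_le.2 (Subgroup.mem_centralizer_singleton_iff.2 h2.symm.eq))
    exact Subgroup.mem_centralizer_iff.2 fun e he => Subgroup.mem_centralizer_singleton_iff.1 (hsub he)
  have hEcomm : ∀ a ∈ E, ∀ b ∈ E, Commute a b := by
    intro a ha b hb
    have h1 : E ≤ Subgroup.centralizer (E : Set G) := sup_le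
      (Subgroup.zpowers_le.2 (hcentE z (Commute.refl z) hzy))
      (Subgroup.zpowers_le.2 (hcentE y hzy.symm (Commute.refl y)))
    exact (Subgroup.mem_centralizer_iff.1 (h1 hb) a ha)
  -- `C_P(E) = E`
  have hCPE : (P : Subgroup G) ⊓ Subgroup.centralizer (E : Set G) = E := by
    refine (Subgroup.eq_of_le_of_card_ge (le_inf hEP fun a ha => Subgroup.mem_centralizer_iff.2
      fun b hb => (hEcomm b hb a ha).eq) ?_).symm
    obtain ⟨i, hi⟩ := IsPGroup.iff_card.1 (P.isPGroup'.to_le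
      (inf_le_left : (P : Subgroup G) ⊓ Subgroup.centralizer (E : Set G) ≤ P))
    rw [hi, hEcard]
    refine Nat.pow_le_pow_right hpp.pos (not_lt.1 fun h3 => hvy ?_)
    have h4 : (P : Subgroup G) ⊓ Subgroup.centralizer (E : Set G) = P := Subgroup.eq_of_le_of_card_ge inf_le_left (by
      rw [hi, hPcard]; exact Nat.pow_le_pow_right hpp.pos h3)
    exact ((Subgroup.mem_centralizer_iff.1 (h4.ge hvP).2) y (Subgroup.mem_sup_right (Subgroup.mem_zpowers y))).symm
  -- a Sylow subgroup with `y` central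
  set T' : Sylow p G := g • P with hT'
  have hT'C : (T' : Subgroup G) ≤ Subgroup.centralizer ({y} : Set G) := by
    intro a ha
    rw [hT', Sylow.coe_subgroup_smul] at ha
    obtain ⟨b, hb, rfl⟩ := ha
    refine Subgroup.mem_centralizer_singleton_iff.2 ?_
    show g * b * g⁻¹ * y = y * (g * b * g⁻¹)
    rw [hy, show g * b * g⁻¹ * (g * x * g⁻¹) = g * (b * x) * g⁻¹ by group, (hZcomm x hx b hb).eq]
    group
  obtain ⟨R, hR⟩ := ((P.isPGroup'.to_le hEP).of_equiv (Subgroup.subgroupOfEquivOfLe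
    (show E ≤ Subgroup.centralizer ({y} : Set G) from fun a ha => Subgroup.mem_centralizer_singleton_iff.2
      (hEcomm a ha y (Subgroup.mem_sup_right (Subgroup.mem_zpowers y))).eq)).symm).exists_le_sylow
  obtain ⟨c, hc⟩ := MulAction.exists_smul_eq (Subgroup.centralizer ({y} : Set G)) (T'.subtype hT'C) R
  set T : Sylow p G := (c : G) • T' with hT
  have hRT : (R : Subgroup ↥(Subgroup.centralizer ({y} : Set G))) = (T : Subgroup G).subgroupOf _ := by
    rw [← hc, Sylow.smul_subtype hT'C, Sylow.coe_subtype]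
    rfl
  have hET : E ≤ (T : Subgroup G) := fun a ha => by
    have haC : a ∈ Subgroup.centralizer ({y} : Set G) := Subgroup.mem_centralizer_singleton_iff.2
      (hEcomm a ha y (Subgroup.mem_sup_right (Subgroup.mem_zpowers y))).eq
    have h1 : (⟨a, haC⟩ : ↥(Subgroup.centralizer ({y} : Set G))) ∈ (R : Subgroup ↥(Subgroup.centralizer ({y} : Set G))) :=
      hR (Subgroup.mem_subgroupOf.2 ha)
    rw [hRT] at h1
    exact h1
  have hTe : ∃ e : G, (T : Subgroup G) = (P : Subgroup G).map (MulAut.conj e).toMonoidHom :=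
    ⟨(c : G) * g, by rw [hT, hT', ← mul_smul, Sylow.coe_subgroup_smul]; rfl⟩
  obtain ⟨e, hTe⟩ := hTe
  -- transport the structure of `P` to `T`
  have hTZ : ∀ a ∈ (T : Subgroup G), (∀ b ∈ (T : Subgroup G), Commute b a) → e⁻¹ * a * e ∈ Z := by
    intro a ha hcen
    rw [hTe] at ha hcen
    refine ⟨⟨_, mem_conjMap.1 ha⟩, Subgroup.mem_center_iff.2 fun b => Subtype.ext ?_, rfl⟩
    have h1 := (hcen _ (conjMap_apply_mem (g := e) b.2)).eq
    show (b : G) * (e⁻¹ * a * e) = e⁻¹ * a * e * (b : G)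
    calc (b : G) * (e⁻¹ * a * e) = e⁻¹ * (e * b * e⁻¹ * a) * e := by group
      _ = e⁻¹ * (a * (e * b * e⁻¹)) * e := by rw [h1]
      _ = _ := by group
  have hTZ' : ∀ a : G, e⁻¹ * a * e ∈ Z → ∀ b ∈ (T : Subgroup G), Commute b a := by
    intro a ha b hb
    rw [hTe] at hb
    have h1 := (hZcomm _ ha _ (mem_conjMap.1 hb)).eq
    show b * a = a * b
    calc b * a = e * (e⁻¹ * b * e * (e⁻¹ * a * e)) * e⁻¹ := by group
      _ = e * (e⁻¹ * a * e * (e⁻¹ * b * e)) * e⁻¹ := by rw [h1]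
      _ = _ := by group
  have hyT : y ∈ (T : Subgroup G) := hET (Subgroup.mem_sup_right (Subgroup.mem_zpowers y))
  have hyC : ∀ b ∈ (T : Subgroup G), Commute b y := by
    intro b hb
    rw [hT, Sylow.coe_subgroup_smul] at hb
    obtain ⟨b', hb', rfl⟩ := hb
    have h1 : Commute (c : G) y := Subgroup.mem_centralizer_singleton_iff.1 c.2
    have h2 : Commute b' y := Subgroup.mem_centralizer_singleton_iff.1 (hT'C hb')
    exact (h1.mul_left h2).mul_left h1.inv_left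
  have hyZ : e⁻¹ * y * e ∈ Z := hTZ y hyT hyC
  -- an element of `T` moving `z`
  have hzT : z ∈ (T : Subgroup G) := hET (Subgroup.mem_sup_left (Subgroup.mem_zpowers z))
  obtain ⟨w, hwT, hwz⟩ : ∃ w ∈ (T : Subgroup G), ¬ Commute w z := by
    by_contra hall
    push Not at hall
    have h1 : Subgroup.zpowers (e⁻¹ * y * e) = Z := Subgroup.eq_of_le_of_card_ge (Subgroup.zpowers_le.2 hyZ) (by
      rw [hZc, Nat.card_zpowers, show e⁻¹ * y * e = MulAut.conj e⁻¹ y by simp, MulEquiv.orderOf_eq,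
        orderOf_eq_prime hyp hy1])
    obtain ⟨i, hi⟩ := Subgroup.mem_zpowers_iff.1 (h1.ge (hTZ z hzT hall))
    have h2 : y ^ i = z := by
      have h3 : e * (e⁻¹ * y * e) ^ i * e⁻¹ = z := by rw [hi]; group
      rwa [← conj_zpow, show e * (e⁻¹ * y * e) * e⁻¹ = y by group] at h3
    have hyz : Subgroup.zpowers y ≤ Z := by
      have h4 : Subgroup.zpowers z = Subgroup.zpowers y := Subgroup.eq_of_le_of_card_ge
        (Subgroup.zpowers_le.2 (h2 ▸ zpow_mem (Subgroup.mem_zpowers y) i)) (by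
        rw [Nat.card_zpowers, Nat.card_zpowers, orderOf_eq_prime hzp hz1, orderOf_eq_prime hyp hy1])
      rw [← h4, hZz]
    exact hnot (hyz (Subgroup.mem_zpowers y))
  set d := w * z * w⁻¹ * z⁻¹ with hd
  have hdy : d ∈ Subgroup.zpowers y := by
    have h0 : e⁻¹ * d * e ∈ Z := by
      rw [hTe] at hwT hzT
      have := hcommP _ (mem_conjMap.1 hwT) _ (mem_conjMap.1 hzT)
      convert this using 1
      rw [hd]; group
    have h1 : Subgroup.zpowers (e⁻¹ * y * e) = Z := Subgroup.eq_of_le_of_card_ge (Subgroup.zpowers_le.2 hyZ) (by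
      rw [hZc, Nat.card_zpowers, show e⁻¹ * y * e = MulAut.conj e⁻¹ y by simp, MulEquiv.orderOf_eq,
        orderOf_eq_prime hyp hy1])
    obtain ⟨i, hi⟩ := Subgroup.mem_zpowers_iff.1 (h1.ge h0)
    refine Subgroup.mem_zpowers_iff.2 ⟨i, ?_⟩
    have h3 : e * (e⁻¹ * y * e) ^ i * e⁻¹ = d := by rw [hi]; group
    rwa [← conj_zpow, show e * (e⁻¹ * y * e) * e⁻¹ = y by group] at h3
  have hd1 : d ≠ 1 := fun h => hwz (commutatorElement_eq_one_iff_mul_comm.1 h)
  have hdgen : Subgroup.zpowers d = Subgroup.zpowers y := Subgroup.eq_of_le_of_card_ge (Subgroup.zpowers_le.2 hdy) (by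
    rw [Nat.card_zpowers, Nat.card_zpowers, orderOf_eq_prime hyp hy1]
    obtain ⟨i, hi⟩ := Subgroup.mem_zpowers_iff.1 hdy
    rw [orderOf_eq_prime (by rw [← hi, ← zpow_natCast, ← zpow_mul, mul_comm, zpow_mul, zpow_natCast, hyp, one_zpow]) hd1])
  obtain ⟨k, hk⟩ : ∃ k : ℕ, d ^ k = y⁻¹ := by
    have h1 : y⁻¹ ∈ Subgroup.zpowers d := by rw [hdgen]; exact Subgroup.inv_mem _ (Subgroup.mem_zpowers y)
    rwa [← (isOfFinOrder_of_finite d).mem_powers_iff_mem_zpowers] at h1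
  set t := w ^ k with ht
  have hzd : Commute z d := by
    obtain ⟨i, hi⟩ := Subgroup.mem_zpowers_iff.1 hdy
    rw [← hi]; exact hzy.zpow_right i
  have hwd : Commute w d := by
    obtain ⟨i, hi⟩ := Subgroup.mem_zpowers_iff.1 hdy
    rw [← hi]; exact (hyC w hwT).zpow_right i
  have htz : t * z * t⁻¹ = z * y⁻¹ := by
    rw [ht, conj_pow_eq hwd (by rw [hzd.eq, hd, inv_mul_cancel_right]) k, hk]
  have hty : t * y * t⁻¹ = y := by rw [((hyC w hwT).pow_left k).eq, mul_inv_cancel_right]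
  have huy : v * y * v⁻¹ = y * z := by rw [hzy.symm.eq, hz, inv_mul_cancel_right]
  have huz : v * z * v⁻¹ = z := by rw [(hZcomm z hzZ v hvP).eq, mul_inv_cancel_right]
  -- an element inverting `E`
  set j := v * t * v * (v * t * v) with hj
  have hcj : ∀ a b : G, (MulAut.conj a) b = a * b * a⁻¹ := fun a b => rfl
  have hw1 : v * t * v * y * (v * t * v)⁻¹ = z := by
    calc v * t * v * y * (v * t * v)⁻¹ = v * (t * (v * y * v⁻¹) * t⁻¹) * v⁻¹ := by group
      _ = v * (t * (y * z) * t⁻¹) * v⁻¹ := by rw [huy]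
      _ = v * ((t * y * t⁻¹) * (t * z * t⁻¹)) * v⁻¹ := by group
      _ = v * (z * y⁻¹ * y) * v⁻¹ := by rw [hty, htz, (hzy.symm.mul_right (Commute.refl y).inv_right).eq]
      _ = v * z * v⁻¹ := by group
      _ = z := huz
  have hw2 : v * t * v * z * (v * t * v)⁻¹ = y⁻¹ := by
    calc v * t * v * z * (v * t * v)⁻¹ = v * (t * (v * z * v⁻¹) * t⁻¹) * v⁻¹ := by group
      _ = v * (z * y⁻¹) * v⁻¹ := by rw [huz, htz]
      _ = (v * z * v⁻¹) * (v * y * v⁻¹)⁻¹ := by group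
      _ = z * (y * z)⁻¹ := by rw [huz, huy]
      _ = y⁻¹ := by group
  have hjy : j * y * j⁻¹ = y⁻¹ := by
    calc j * y * j⁻¹ = v * t * v * (v * t * v * y * (v * t * v)⁻¹) * (v * t * v)⁻¹ := by rw [hj]; group
      _ = y⁻¹ := by rw [hw1, hw2]
  have hjz : j * z * j⁻¹ = z⁻¹ := by
    calc j * z * j⁻¹ = v * t * v * (v * t * v * z * (v * t * v)⁻¹) * (v * t * v)⁻¹ := by rw [hj]; group
      _ = (v * t * v * y * (v * t * v)⁻¹)⁻¹ := by rw [hw2]; group
      _ = z⁻¹ := by rw [hw1]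
  have hjE : ∀ a ∈ E, j * a * j⁻¹ = a⁻¹ := by
    intro a ha
    let S : Subgroup G :=
      { carrier := {a | a ∈ E ∧ j * a * j⁻¹ = a⁻¹}
        one_mem' := ⟨E.one_mem, by simp⟩
        mul_mem' := fun {a b} ha hb => ⟨E.mul_mem ha.1 hb.1, by
          rw [show j * (a * b) * j⁻¹ = (j * a * j⁻¹) * (j * b * j⁻¹) by group, ha.2, hb.2,
            (hEcomm _ (E.inv_mem ha.1) _ (E.inv_mem hb.1)).eq, mul_inv_rev]⟩
        inv_mem' := fun {a} ha => ⟨E.inv_mem ha.1, by
          rw [show j * a⁻¹ * j⁻¹ = (j * a * j⁻¹)⁻¹ by group, ha.2]⟩ }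
    exact ((sup_le (Subgroup.zpowers_le.2 ⟨Subgroup.mem_sup_left (Subgroup.mem_zpowers z), hjz⟩)
      (Subgroup.zpowers_le.2 ⟨Subgroup.mem_sup_right (Subgroup.mem_zpowers y), hjy⟩) : E ≤ S) ha).2
  set C := Subgroup.centralizer (E : Set G) with hC
  have hPE : ∀ a ∈ (P : Subgroup G), ∀ b ∈ E, a * b * a⁻¹ ∈ E := by
    intro a ha b hb
    have h1 : a * b * a⁻¹ * b⁻¹ ∈ E := Subgroup.mem_sup_left (hZz ▸ hcommP a ha b (hEP hb))
    simpa using E.mul_mem h1 hb
  have hjC : ∀ a, a ∈ Subgroup.normalizer (E : Set G) → j * a * j⁻¹ * a⁻¹ ∈ C := by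
    intro a ha
    refine Subgroup.mem_centralizer_iff.2 fun b hb => ?_
    have h1 : a⁻¹ * b * a ∈ E := (Subgroup.mem_normalizer_iff''.1 ha b).1 hb
    have h0 : j⁻¹ * (a⁻¹ * b * a) * j = (a⁻¹ * b * a)⁻¹ := by
      have h3 := hjE _ (E.inv_mem h1)
      rw [inv_inv] at h3
      calc j⁻¹ * (a⁻¹ * b * a) * j = j⁻¹ * (j * (a⁻¹ * b * a)⁻¹ * j⁻¹) * j := by rw [h3]
        _ = _ := by group
    have h2 : (j * a * j⁻¹ * a⁻¹) * b * (j * a * j⁻¹ * a⁻¹)⁻¹ = b := by
      calc (j * a * j⁻¹ * a⁻¹) * b * (j * a * j⁻¹ * a⁻¹)⁻¹ = j * (a * (j⁻¹ * (a⁻¹ * b * a) * j) * a⁻¹) * j⁻¹ := by group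
        _ = j * b⁻¹ * j⁻¹ := by rw [h0]; group
        _ = b := by rw [hjE _ (E.inv_mem hb), inv_inv]
    exact (mul_inv_eq_iff_eq_mul.1 h2).symm
  have hPN : (P : Subgroup G) ≤ Subgroup.normalizer (E : Set G) := fun a ha => mem_normalizer_of_conj_mem (hPE a ha)
  set M := C ⊔ (P : Subgroup G) with hM
  have hPC : (P : Subgroup G) ≤ Subgroup.normalizer (C : Set G) := by
    intro a ha
    refine mem_normalizer_of_conj_mem fun b hb => Subgroup.mem_centralizer_iff.2 fun s hs => ?_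
    have h1 : a⁻¹ * s * a ∈ E := (Subgroup.mem_normalizer_iff''.1 (hPN ha) s).1 hs
    have h2 := Subgroup.mem_centralizer_iff.1 hb _ h1
    calc s * (a * b * a⁻¹) = a * (a⁻¹ * s * a * b) * a⁻¹ := by group
      _ = a * (b * (a⁻¹ * s * a)) * a⁻¹ := by rw [h2]
      _ = a * b * a⁻¹ * s := by group
  have hPM : (P : Subgroup G) ≤ M := le_sup_right
  obtain ⟨R', hR'⟩ : ∃ R' : Sylow p G, (R' : Subgroup G) = (P : Subgroup G).map (MulAut.conj j).toMonoidHom :=
    ⟨j • P, Sylow.coe_subgroup_smul⟩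
  have hR'M : (R' : Subgroup G) ≤ M := by
    rw [hR']
    rintro _ ⟨a, ha, rfl⟩
    have := M.mul_mem (Subgroup.mem_sup_left (hjC a (hPN ha))) (hPM ha)
    simpa using this
  obtain ⟨m, hm⟩ := MulAction.exists_smul_eq M (P.subtype hPM) (R'.subtype hR'M)
  obtain ⟨a0, ha0, b0, hb0, hab⟩ := (Basics.mem_sup_of_le_normalizer hPC).1 m.2
  set j' := a0⁻¹ * j with hj'
  have hj'P : ∀ a ∈ (P : Subgroup G), j' * a * j'⁻¹ ∈ (P : Subgroup G) := by
    intro a ha
    have h1 : j * a * j⁻¹ ∈ (R' : Subgroup G) := hR' ▸ conjMap_apply_mem ha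
    have h2 : (⟨j * a * j⁻¹, hR'M h1⟩ : M) ∈ (R'.subtype hR'M : Subgroup M) := Subgroup.mem_subgroupOf.2 h1
    rw [← hm, Sylow.coe_subgroup_smul] at h2
    obtain ⟨q, hq, hqe⟩ := h2
    have hq' : (q : G) ∈ (P : Subgroup G) := hq
    have hqe' : (m : G) * q * (m : G)⁻¹ = j * a * j⁻¹ := congrArg Subtype.val hqe
    rw [hab] at hqe'
    have h3 : j' * a * j'⁻¹ = b0 * q * b0⁻¹ := by
      calc j' * a * j'⁻¹ = a0⁻¹ * (j * a * j⁻¹) * a0 := by rw [hj']; group
        _ = a0⁻¹ * ((a0 * b0) * q * (a0 * b0)⁻¹) * a0 := by rw [hqe']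
        _ = _ := by group
    rw [h3]
    exact Subgroup.mul_mem _ (Subgroup.mul_mem _ hb0 hq') (Subgroup.inv_mem _ hb0)
  have hj'E : ∀ b ∈ E, j' * b * j'⁻¹ = b⁻¹ := by
    intro b hb
    rw [hj', show a0⁻¹ * j * b * (a0⁻¹ * j)⁻¹ = a0⁻¹ * (j * b * j⁻¹) * a0 by group, hjE b hb,
      mul_assoc, Subgroup.mem_centralizer_iff.1 ha0 _ (E.inv_mem hb), inv_mul_cancel_left]
  obtain ⟨u0, hu0⟩ : ∃ u : ↥(P : Subgroup G), u ^ p ≠ 1 := by
    by_contra hall
    push Not at hall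
    have h1 := Monoid.exponent_dvd_of_forall_pow_eq_one hall
    have hexp' : Monoid.exponent ↥(P : Subgroup G) = p ^ 2 := hexp
    rw [hexp'] at h1
    exact absurd (Nat.le_of_dvd hpp.pos h1) (not_le.2 (by
      conv_lhs => rw [← pow_one p]
      exact Nat.pow_lt_pow_right hpp.one_lt one_lt_two))
  have hu0Z : (u0 : G) ^ p ∈ Z := ⟨u0 ^ p, hE.1.2.1.le (FGB.pow_mem_frattini P.isPGroup' u0), rfl⟩
  set f := j' * (u0 : G) * j'⁻¹ * (u0 : G)⁻¹ with hf
  have hfE : f ∈ E := by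
    rw [← hCPE]
    refine ⟨Subgroup.mul_mem _ (hj'P _ u0.2) (Subgroup.inv_mem _ u0.2), ?_⟩
    have h1 : j * (u0 : G) * j⁻¹ * (u0 : G)⁻¹ ∈ C := hjC _ (hPN u0.2)
    have h2 : (u0 : G) * a0 * (u0 : G)⁻¹ ∈ C := (Subgroup.mem_normalizer_iff.1 (hPC u0.2) a0).1 ha0
    have h3 := C.mul_mem (C.mul_mem (C.inv_mem ha0) h1) h2
    rw [show f = a0⁻¹ * (j * (u0 : G) * j⁻¹ * (u0 : G)⁻¹) * ((u0 : G) * a0 * (u0 : G)⁻¹) by rw [hf, hj']; group]
    exact h3
  have hfp : f ^ p = 1 := by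
    have h1 : ∀ a ∈ E, a ^ p = 1 := by
      intro a ha
      let S : Subgroup G :=
        { carrier := {a | a ∈ E ∧ a ^ p = 1}
          one_mem' := ⟨E.one_mem, one_pow p⟩
          mul_mem' := fun {a b} ha hb => ⟨E.mul_mem ha.1 hb.1, by
            rw [(hEcomm a ha.1 b hb.1).mul_pow, ha.2, hb.2, one_mul]⟩
          inv_mem' := fun {a} ha => ⟨E.inv_mem ha.1, by rw [inv_pow, ha.2, inv_one]⟩ }
      exact ((sup_le (Subgroup.zpowers_le.2 ⟨Subgroup.mem_sup_left (Subgroup.mem_zpowers z), hzp⟩)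
        (Subgroup.zpowers_le.2 ⟨Subgroup.mem_sup_right (Subgroup.mem_zpowers y), hyp⟩) : E ≤ S) ha).2
    exact h1 f hfE
  have hfix : (f * (u0 : G)) ^ p = (u0 : G) ^ p := by
    set q := (u0 : G)⁻¹ * f⁻¹ * (u0 : G) * f with hq
    have hqZ : q ∈ Z := by
      have := hcommP _ (Subgroup.inv_mem _ u0.2) _ (Subgroup.inv_mem _ (hEP hfE))
      convert this using 1
      rw [hq]; group
    have hrel : (u0 : G) * f = f * (u0 : G) * q := by rw [hq]; group
    rw [Coprime23.mul_pow_of_central hrel ((hZcomm q hqZ _ u0.2).symm) ((hZcomm q hqZ _ (hEP hfE)).symm) p, hfp,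
      one_mul]
    have hqp : q ^ p = 1 := orderOf_dvd_iff_pow_eq_one.1 (hZc ▸ Subgroup.orderOf_dvd_natCard Z hqZ)
    obtain ⟨r, hr⟩ : p ∣ p * (p - 1) / 2 := by
      obtain ⟨r, hr⟩ : 2 ∣ p - 1 := (Nat.Prime.even_sub_one hpp hp).two_dvd
      exact ⟨r, by rw [hr, mul_left_comm, Nat.mul_div_cancel_left _ (by norm_num)]⟩
    rw [hr, pow_mul, hqp, one_pow, mul_one]
  have h1 : j' * (u0 : G) ^ p * j'⁻¹ = (u0 : G) ^ p := by
    rw [← conj_pow, show j' * (u0 : G) * j'⁻¹ = f * u0 by rw [hf]; group, hfix]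
  rw [hj'E _ (Subgroup.mem_sup_left (hZz ▸ hu0Z))] at h1
  have h2 : ((u0 : G) ^ p) ^ 2 = 1 := by
    rw [pow_two]; nth_rewrite 1 [← h1]; exact inv_mul_cancel _
  have h3 : ((u0 : G) ^ p) ^ p = 1 := orderOf_dvd_iff_pow_eq_one.1 ((Subgroup.orderOf_dvd_natCard Z hu0Z).trans hZc.dvd)
  have h5 : orderOf ((u0 : G) ^ p) = 1 := Nat.eq_one_of_dvd_coprimes
    ((Nat.coprime_primes Nat.prime_two hpp).2 (Ne.symm hp)) (orderOf_dvd_of_pow_eq_one h2) (orderOf_dvd_of_pow_eq_one h3)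
  rw [orderOf_eq_one_iff] at h5
  exact hu0 (Subtype.ext h5)

end Cfsg.Agent.S3053
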