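import Cfsg.Statements.S3057
import Cfsg.Agent.S3056
import Cfsg.Agent.S0218
import Cfsg.Agent.Lib.LocalEvenB.ClassicalSPE
import Cfsg.Agent.Lib.LocalEvenB.Measure
import Cfsg.Agent.Lib.Basics.CoprimeGen
import Cfsg.Agent.Lib.Basics.FpfAbelian
import Cfsg.Agent.Lib.Transfer.Residual

set_option autoImplicit false
open Cfsg

namespace Cfsg.Agent.S3057

open Cfsg.Agent.LocalEvenB

theorem eq_of_cyclic_or_quaternion {H : Type*} [Group H] [Finite H] {p : ℕ} [Fact p.Prime]
    (h : IsCyclic H ∨ (p = 2 ∧ ∃ n : ℕ, Nonempty (H ≃* QuaternionGroup (2 ^ n))))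
    (A B : Subgroup H) (hA : Nat.card A = p) (hB : Nat.card B = p) : A = B := by
  rcases h with h | ⟨rfl, n, ⟨e⟩⟩
  · haveI := h
    exact Basics.cyclic_subgroup_eq_of_card_eq (hA.trans hB.symm)
  have key : ∀ x y : H, orderOf x = 2 → orderOf y = 2 → x = y := by
    intro x y hx hy
    refine e.injective ?_
    have hx' : orderOf (e x) = 2 := by rw [MulEquiv.orderOf_eq, hx]
    have hy' : orderOf (e y) = 2 := by rw [MulEquiv.orderOf_eq, hy]
    cases n with
    | zero =>
      have hall : ∀ u v : QuaternionGroup 1, u * u = 1 → u ≠ 1 → v * v = 1 → v ≠ 1 → u = v := by decide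
      refine hall _ _ ?_ ?_ ?_ ?_
      · rw [← pow_two, ← hx']; exact pow_orderOf_eq_one _
      · intro h1; rw [h1, orderOf_one] at hx'; exact absurd hx' (by decide)
      · rw [← pow_two, ← hy']; exact pow_orderOf_eq_one _
      · intro h1; rw [h1, orderOf_one] at hy'; exact absurd hy' (by decide)
    | succ n =>
      obtain ⟨hs, -⟩ := Nat.card_eq_one_iff_unique.1 (S0218.result n)
      exact congrArg Subtype.val (hs.elim ⟨e x, hx'⟩ ⟨e y, hy'⟩)
  have gen : ∀ C : Subgroup H, Nat.card C = 2 → ∃ x, orderOf x = 2 ∧ C = Subgroup.zpowers x := by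
    intro C hC
    obtain ⟨c, hc⟩ := exists_prime_orderOf_dvd_card' (G := C) 2 (by rw [hC])
    refine ⟨c, by rw [Subgroup.orderOf_coe, hc], (Subgroup.eq_of_le_of_card_ge
      (Subgroup.zpowers_le.2 c.2) ?_).symm⟩
    rw [Nat.card_zpowers, Subgroup.orderOf_coe, hc, hC]
  obtain ⟨x, hx, rfl⟩ := gen A hA
  obtain ⟨y, hy, rfl⟩ := gen B hB
  rw [key x y hx hy]

/-- Let p be a prime and G a finite p-solvable group of order divisible by p, with Sylow p-subgroup P. Then the Sylow p-subgroups of G fail to be chain-connected through nontrivial intersections (equivalently, G has a strongly p-embedded subgroup) if and only if O_p(G) = 1 and P is cyclic or, for p = 2, generalized quaternion. -/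
theorem result {G : Type*} [Group G] [Finite G]
    (p : ℕ) [Fact p.Prime] (hdiv : p ∣ Nat.card G) (hsol : Cfsg.IsPSolvable p G) (P : Sylow p G) :
    ¬ Cfsg.IsSylowChainConnected p G ↔
      Cfsg.pCore p G = ⊥ ∧ (IsCyclic ↥P ∨ (p = 2 ∧ ∃ n : ℕ, Nonempty (↥P ≃* QuaternionGroup (2 ^ n)))) := by
  have hp := (Fact.out : p.Prime)
  have hPne : (P : Subgroup G) ≠ ⊥ := P.ne_bot_of_dvd_card hdiv
  constructor
  · intro hnot
    obtain ⟨H, hH, hpH, hse⟩ := (S3056.result p).1 hnot
    have hcse : ClassicalSE p H := hse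
    obtain ⟨S, hSH, hSne⟩ := cse_exists_sylow_le hcse hpH
    have hcentH : ∀ e : G, e ∈ H → orderOf e = p → Subgroup.centralizer ({e} : Set G) ≤ H := by
      intro e he hep g hg
      by_contra hgH
      refine hse g hgH (hep ▸ Subgroup.orderOf_dvd_natCard _ (x := e) ⟨he, ?_⟩)
      have h2 : e * g = g * e := (Subgroup.mem_centralizer_singleton_iff.1 hg).symm
      exact ⟨e, he, by simp [← h2, mul_assoc]⟩
    have hnormal : ∀ M : Subgroup G, M.Normal → M ≤ H → p ∣ Nat.card M → False := by
      intro M hM hMH hpM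
      refine hH ((Subgroup.eq_top_iff' H).2 fun g => ?_)
      by_contra hgH
      refine hse g hgH (hpM.trans (Subgroup.card_dvd_of_le (le_inf hMH fun m hm => mem_conjMap.2 ?_)))
      exact hMH (hM.conj_mem' m hm g)
    have hO : Cfsg.pCore p G = ⊥ := by
      by_contra hne
      obtain ⟨hn, hp'⟩ := pCore_spec (G := G) p
      exact hnormal _ hn ((pCore_le_sylow S).trans hSH) (pSubgroup_dvd hp' hne le_rfl)
    refine ⟨hO, ?_⟩
    refine InvChar.cyclic_or_quaternion P.isPGroup' fun A B hA hB => ?_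
    by_contra hAB
    obtain ⟨n, Hs, h0, hn, hmono, hnorm, hfac⟩ := hsol
    obtain ⟨g, hg⟩ := MulAction.exists_smul_eq G P S
    let φ : ↥(P : Subgroup G) →* G := (MulAut.conj g).toMonoidHom.comp (P : Subgroup G).subtype
    have hφ : Function.Injective φ := (MulAut.conj g).injective.comp (P : Subgroup G).subtype_injective
    have hφS : ∀ x, φ x ∈ (S : Subgroup G) := fun x => by
      rw [← hg, Sylow.coe_subgroup_smul]
      exact ⟨x, x.2, rfl⟩
    haveI : Nontrivial (P : Subgroup G) := (Subgroup.nontrivial_iff_ne_bot _).2 hPne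
    haveI := P.isPGroup'.center_nontrivial
    obtain ⟨z, hz⟩ := exists_prime_orderOf_dvd_card' (G := Subgroup.center (P : Subgroup G)) p
      (((P.isPGroup'.to_subgroup _).card_eq_or_dvd).resolve_left Finite.one_lt_card.ne')
    obtain ⟨C, hCp, hCz⟩ : ∃ C : Subgroup (P : Subgroup G), Nat.card C = p ∧ C ≠ Subgroup.zpowers (z : (P : Subgroup G)) := by
      rcases eq_or_ne A (Subgroup.zpowers (z : (P : Subgroup G))) with h | h
      · exact ⟨B, hB, fun h' => hAB (h.trans h'.symm)⟩
      · exact ⟨A, hA, h⟩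
    obtain ⟨x, hx⟩ := exists_prime_orderOf_dvd_card' (G := C) p (by rw [hCp])
    have hxC : C = Subgroup.zpowers (x : (P : Subgroup G)) := by
      refine (Subgroup.eq_of_le_of_card_ge (Subgroup.zpowers_le.2 x.2) ?_).symm
      rw [Nat.card_zpowers, Subgroup.orderOf_coe, hx, hCp]
    set A' : Subgroup (P : Subgroup G) := Subgroup.closure {(x : (P : Subgroup G)), (z : (P : Subgroup G))} with hA'
    haveI hA'c : IsMulCommutative A' := by
      refine Subgroup.isMulCommutative_closure ?_
      rintro u (rfl | rfl) v (rfl | rfl)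
      · rfl
      · exact Subgroup.mem_center_iff.1 z.2 _
      · exact (Subgroup.mem_center_iff.1 z.2 _).symm
      · rfl
    have hA'nc : ¬ IsCyclic A' := by
      intro hcyc
      refine hCz ?_
      have h1 : Subgroup.zpowers (x : (P : Subgroup G)) ≤ A' :=
        Subgroup.zpowers_le.2 (Subgroup.subset_closure (Or.inl rfl))
      have h2 : Subgroup.zpowers (z : (P : Subgroup G)) ≤ A' :=
        Subgroup.zpowers_le.2 (Subgroup.subset_closure (Or.inr rfl))
      haveI := hcyc
      have h3 := Basics.cyclic_subgroup_eq_of_card_eq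
        (A := (Subgroup.zpowers (x : (P : Subgroup G))).subgroupOf A')
        (B := (Subgroup.zpowers (z : (P : Subgroup G))).subgroupOf A') (by
          rw [Nat.card_congr (Subgroup.subgroupOfEquivOfLe h1).toEquiv,
            Nat.card_congr (Subgroup.subgroupOfEquivOfLe h2).toEquiv, Nat.card_zpowers, Nat.card_zpowers,
            Subgroup.orderOf_coe, Subgroup.orderOf_coe, hx, hz])
      rw [hxC, ← Subgroup.map_subgroupOf_eq_of_le h1, h3, Subgroup.map_subgroupOf_eq_of_le h2]
    set E := A'.map φ with hE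
    haveI hEc : IsMulCommutative E := ⟨⟨by
      rintro ⟨_, a, ha, rfl⟩ ⟨_, b, hb, rfl⟩
      refine Subtype.ext ?_
      show φ a * φ b = φ b * φ a
      rw [← map_mul, ← map_mul]
      exact congrArg φ (congrArg Subtype.val (mul_comm' (⟨a, ha⟩ : A') ⟨b, hb⟩))⟩⟩
    have hEnc : ¬ IsCyclic E := fun h => hA'nc
      ((MulEquiv.isCyclic (Subgroup.equivMapOfInjective A' φ hφ)).2 h)
    have hES : E ≤ (S : Subgroup G) := by rintro _ ⟨a, -, rfl⟩; exact hφS a
    have hexi : ∃ i : ℕ, ∃ hi : i < n + 1, p ∣ Nat.card ↥(Hs ⟨i, hi⟩) :=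
      ⟨n, Nat.lt_succ_self n, by rw [show (⟨n, _⟩ : Fin (n + 1)) = Fin.last n from rfl, hn, Subgroup.card_top]; exact hdiv⟩
    classical
    obtain ⟨hi, hpi⟩ := Nat.find_spec hexi
    cases hfi : Nat.find hexi with
    | zero =>
      simp only [hfi] at hpi
      rw [show (⟨0, _⟩ : Fin (n + 1)) = 0 from rfl, h0, Subgroup.card_bot] at hpi
      exact hp.not_dvd_one hpi
    | succ i =>
      simp only [hfi] at hpi hi
      have hin : i < n := by omega
      have hnot' : ¬ p ∣ Nat.card ↥(Hs ⟨i, by omega⟩) := fun h =>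
        Nat.find_min hexi (m := i) (by omega) ⟨by omega, h⟩
      set N := Hs ⟨i, by omega⟩ with hN
      set M := Hs ⟨i + 1, hi⟩ with hM
      have hNM : N ≤ M := hmono (Fin.mk_le_mk.2 (Nat.le_succ i))
      haveI : N.Normal := hnorm _
      haveI : M.Normal := hnorm _
      have hcard := card_mul_relIndex hNM
      obtain ⟨m, hm⟩ : ∃ m, N.relIndex M = p ^ m := by
        rcases hfac ⟨i, hin⟩ with h | h
        · exact h
        · exfalso
          rw [← hcard] at hpi
          rcases hp.dvd_mul.1 hpi with h' | h'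
          · exact hnot' h'
          · exact hp.one_lt.ne' (Nat.eq_one_of_dvd_coprimes h h' dvd_rfl)
      have hEcop : (Nat.card E).Coprime (Nat.card N) := by
        obtain ⟨k, hk⟩ := IsPGroup.iff_card.1 (S.isPGroup'.to_le hES)
        rw [hk]
        exact (hp.coprime_iff_not_dvd.2 hnot').pow_left k
      have hNH : N ≤ H := by
        refine (Basics.iSup_inf_centralizer_eq E N hEnc (fun e _ => by
          rw [Subgroup.normalizer_eq_top]; exact Subgroup.mem_top e) hEcop).ge.trans (iSup₂_le ?_)
        rintro e ⟨he, he1⟩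
        obtain ⟨a, ha, rfl⟩ := he
        have hap : a ^ p = 1 := by
          clear he1
          induction ha using Subgroup.closure_induction with
          | mem u hu =>
            rcases hu with rfl | rfl
            · exact orderOf_dvd_iff_pow_eq_one.1 (by rw [Subgroup.orderOf_coe, hx])
            · exact orderOf_dvd_iff_pow_eq_one.1 (by rw [Subgroup.orderOf_coe, hz])
          | one => exact one_pow _
          | mul u v hu hv ihu ihv =>
            have hc : Commute u v := congrArg Subtype.val (mul_comm' (⟨u, hu⟩ : A') ⟨v, hv⟩)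
            rw [hc.mul_pow, ihu, ihv, one_mul]
          | inv u _ ih => rw [inv_pow, ih, inv_one]
        refine inf_le_right.trans (hcentH _ (hSH (hφS a)) ?_)
        exact orderOf_eq_prime (by rw [← map_pow, hap, map_one]) he1
      refine hnormal M inferInstance ?_ hpi
      have hle : M ≤ N ⊔ ((S : Subgroup G) ⊓ M) := by
        have hNKM : N ⊔ ((S : Subgroup G) ⊓ M) ≤ M := sup_le hNM inf_le_right
        have h1 : (N ⊔ ((S : Subgroup G) ⊓ M)).relIndex M ∣ p ^ m :=
          hm ▸ Subgroup.relIndex_dvd_of_le_left M le_sup_left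
        have h2 : ¬ p ∣ (N ⊔ ((S : Subgroup G) ⊓ M)).relIndex M := fun h =>
          Transfer.not_dvd_relIndex_normal S M (h.trans (Subgroup.relIndex_dvd_of_le_left M le_sup_right))
        obtain ⟨k, -, hk⟩ := (Nat.dvd_prime_pow hp).1 h1
        rcases Nat.eq_zero_or_pos k with rfl | hk0
        · exact Subgroup.relIndex_eq_one.1 (by simpa using hk)
        · exact absurd (hk ▸ dvd_pow_self p hk0.ne') h2
      exact hle.trans (sup_le hNH (inf_le_left.trans hSH))
  · rintro ⟨hO, hP⟩
    refine (S3056.result p).2 ?_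
    obtain ⟨z, hz⟩ := exists_prime_orderOf_dvd_card' (G := (P : Subgroup G)) p
      (pSubgroup_dvd P.isPGroup' hPne le_rfl)
    have hz' : orderOf (z : G) = p := by rw [Subgroup.orderOf_coe, hz]
    set Z := Subgroup.zpowers (z : G) with hZ
    have huniq : ∀ (T : Sylow p G) (y w : G), y ∈ (T : Subgroup G) → w ∈ (T : Subgroup G) →
        orderOf y = p → orderOf w = p → Subgroup.zpowers y = Subgroup.zpowers w := by
      intro T y w hy hw hyp hwp
      obtain ⟨g, hg⟩ := MulAction.exists_smul_eq G P T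
      have hmem : ∀ u ∈ (T : Subgroup G), g⁻¹ * u * g ∈ (P : Subgroup G) := by
        intro u hu
        rw [← hg, Sylow.coe_subgroup_smul] at hu
        obtain ⟨v, hv, rfl⟩ := hu
        show g⁻¹ * (g * v * g⁻¹) * g ∈ (P : Subgroup G)
        rwa [show g⁻¹ * (g * v * g⁻¹) * g = v by group]
      have ho : ∀ u, orderOf (g⁻¹ * u * g) = orderOf u := fun u => by
        rw [show g⁻¹ * u * g = MulAut.conj g⁻¹ u by simp, MulEquiv.orderOf_eq]
      have h := eq_of_cyclic_or_quaternion hP (Subgroup.zpowers ⟨_, hmem y hy⟩)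
        (Subgroup.zpowers ⟨_, hmem w hw⟩)
        (by rw [Nat.card_zpowers, ← Subgroup.orderOf_coe]; exact (ho y).trans hyp)
        (by rw [Nat.card_zpowers, ← Subgroup.orderOf_coe]; exact (ho w).trans hwp)
      have h2 := congrArg (Subgroup.map ((MulAut.conj g).toMonoidHom.comp (P : Subgroup G).subtype)) h
      simp only [MonoidHom.map_zpowers] at h2
      simpa [mul_assoc] using h2
    have hkey : ∀ y : G, y ∈ Subgroup.normalizer (Z : Set G) → orderOf y = p → Subgroup.zpowers y = Z := by
      intro y hy hyp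
      have hpg : IsPGroup p ↥(Subgroup.zpowers y ⊔ Z) :=
        (isPGroup_zpowers ⟨1, by rw [hyp, pow_one]⟩).to_sup_of_normal_right'
          (isPGroup_zpowers ⟨1, by rw [hz', pow_one]⟩) (Subgroup.zpowers_le.2 hy)
      obtain ⟨T, hT⟩ := hpg.exists_le_sylow
      exact huniq T y z (hT (le_sup_left (α := Subgroup G) (Subgroup.mem_zpowers y)))
        (hT (le_sup_right (α := Subgroup G) (Subgroup.mem_zpowers _))) hyp hz'
    refine ⟨Subgroup.normalizer (Z : Set G), ?_, ?_, ?_⟩
    · intro h
      have hn : Z.Normal := Subgroup.normalizer_eq_top_iff.1 h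
      have : Z ≤ ⊥ := hO ▸ le_pCore hn (isPGroup_zpowers ⟨1, by rw [hz', pow_one]⟩)
      have h1 := Subgroup.mem_bot.1 (this (Subgroup.mem_zpowers _))
      rw [h1, orderOf_one] at hz'
      exact hp.one_lt.ne hz'
    · exact hz' ▸ Subgroup.orderOf_dvd_natCard _ (Subgroup.le_normalizer (Subgroup.mem_zpowers _))
    · intro g hg hdvd
      obtain ⟨y, hy⟩ := exists_prime_orderOf_dvd_card' p hdvd
      obtain ⟨h1, h2⟩ := Subgroup.mem_inf.1 y.2
      have hy' : orderOf (y : G) = p := by rw [Subgroup.orderOf_coe, hy]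
      have h3 := hkey _ h1 hy'
      have h4 := hkey _ (mem_conjMap.1 h2) (by
        rw [show g⁻¹ * (y : G) * g = MulAut.conj g⁻¹ (y : G) by simp, MulEquiv.orderOf_eq, hy'])
      refine hg (mem_normalizer_of_conjMap_le (le_of_eq ?_))
      calc Z.map (MulAut.conj g).toMonoidHom
          = (Subgroup.zpowers (g⁻¹ * (y : G) * g)).map (MulAut.conj g).toMonoidHom := by rw [h4]
        _ = Subgroup.zpowers (y : G) := by rw [MonoidHom.map_zpowers]; simp [mul_assoc]
        _ = Z := h3

end Cfsg.Agent.S3057
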