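import Cfsg.Statements.S3058
import Cfsg.Agent.Lib.LocalEvenB.ClassicalSPE
import Cfsg.Agent.Lib.Basics.CoprimeGen
import Cfsg.Agent.S3056

set_option autoImplicit false
open Cfsg

namespace Cfsg.Agent.S3058

open Cfsg.Agent.LocalEvenB
open scoped commutatorElement

private theorem exists_order_p {G : Type*} [Group G] [Finite G] {p : ℕ} [Fact p.Prime]
    (S : Sylow p G) (N : Subgroup G) [N.Normal] (hN : p ∣ Nat.card N) :
    ∃ a ∈ N, a ∈ (S : Subgroup G) ∧ orderOf a = p := by
  obtain ⟨x, hx⟩ := exists_prime_orderOf_dvd_card' p hN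
  have hx' : orderOf (x : G) = p := by rw [Subgroup.orderOf_coe, hx]
  obtain ⟨g, hg⟩ := sylow_conj_le S (isPGroup_zpowers ⟨1, by rw [hx', pow_one]⟩)
  refine ⟨g⁻¹ * x * g, Subgroup.Normal.conj_mem' inferInstance _ x.2 g,
    mem_conjMap.1 (hg (Subgroup.mem_zpowers _)), ?_⟩
  rw [show g⁻¹ * (x : G) * g = MulAut.conj g⁻¹ (x : G) from by simp, MulEquiv.orderOf_eq, hx']

/-- Let p be a prime and G a finite group whose Sylow p-subgroups are not chain-connected through nontrivial intersections (so G has a strongly p-embedded subgroup). If N and M are normal subgroups of G whose orders are both divisible by p, then the order of N ∩ M is divisible by p. Consequently, among the normal subgroups of G whose order is divisible by p there is a smallest one (the intersection of all of them). -/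
theorem result {G : Type*} [Group G] [Finite G]
    (p : ℕ) [Fact p.Prime] (hG : ¬ Cfsg.IsSylowChainConnected p G)
    (N M : Subgroup G) [N.Normal] [M.Normal] (hN : p ∣ Nat.card N) (hM : p ∣ Nat.card M) :
    p ∣ Nat.card ↥(N ⊓ M) := by
  obtain ⟨H, hH, hpH, hse⟩ := (S3056.result p).1 hG
  obtain ⟨S, hSH, hSne⟩ := cse_exists_sylow_le (H := H) hse hpH
  by_contra hK
  have hK' : (Nat.card ↥(N ⊓ M)).Coprime p := ((Fact.out : p.Prime).coprime_iff_not_dvd.2 hK).symm
  have hcomm : ∀ n ∈ N, ∀ m ∈ M, n * m * n⁻¹ * m⁻¹ ∈ N ⊓ M := fun n hn m hm => by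
    refine ⟨?_, M.mul_mem (Subgroup.Normal.conj_mem inferInstance m hm n) (M.inv_mem hm)⟩
    rw [show n * m * n⁻¹ * m⁻¹ = n * (m * n⁻¹ * m⁻¹) by group]
    exact N.mul_mem hn (Subgroup.Normal.conj_mem inferInstance _ (N.inv_mem hn) m)
  have hSK : ∀ z ∈ (S : Subgroup G), z ∈ N ⊓ M → z = 1 := fun z hz hz' => by
    by_contra hne
    have hne' : (S : Subgroup G) ⊓ (N ⊓ M) ≠ ⊥ := fun h =>
      hne ((Subgroup.eq_bot_iff_forall _).1 h z ⟨hz, hz'⟩)
    exact hK (pSubgroup_dvd (S.isPGroup'.to_le inf_le_left) hne' inf_le_right)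
  obtain ⟨a, haN, haS, hap⟩ := exists_order_p S N hN
  obtain ⟨b, hbM, hbS, hbp⟩ := exists_order_p S M hM
  have hab : Commute a b := by
    have h1 := hSK _ (Subgroup.mul_mem _ (Subgroup.mul_mem _ (Subgroup.mul_mem _ haS hbS)
      (Subgroup.inv_mem _ haS)) (Subgroup.inv_mem _ hbS)) (hcomm a haN b hbM)
    exact commutatorElement_eq_one_iff_mul_comm.1 h1
  set E := Subgroup.closure ({a, b} : Set G) with hE
  haveI hEc : IsMulCommutative ↥E := Subgroup.isMulCommutative_closure (by
    rintro x (rfl | rfl) y (rfl | rfl) <;> first | rfl | exact hab.eq | exact hab.symm.eq)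
  have hES : E ≤ (S : Subgroup G) := by
    rw [hE, Subgroup.closure_le]
    rintro x (rfl | rfl) <;> assumption
  have haE : a ∈ E := Subgroup.subset_closure (Or.inl rfl)
  have hbE : b ∈ E := Subgroup.subset_closure (Or.inr rfl)
  have hexp : ∀ x ∈ E, x ^ p = 1 := by
    intro x hx
    induction hx using Subgroup.closure_induction with
    | mem y hy =>
      rcases hy with rfl | rfl
      · rw [← hap, pow_orderOf_eq_one]
      · rw [← hbp, pow_orderOf_eq_one]
    | one => exact one_pow p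
    | mul u v hu hv hu' hv' =>
      have h : Commute u v := congrArg Subtype.val (hEc.is_comm.comm ⟨u, hu⟩ ⟨v, hv⟩)
      rw [h.mul_pow, hu', hv', one_mul]
    | inv u _ hu' => rw [inv_pow, hu', inv_one]
  have hEnc : ¬ IsCyclic ↥E := by
    intro hc
    obtain ⟨⟨u, hu⟩, hgen⟩ := IsCyclic.exists_generator (α := ↥E)
    have hcard : Nat.card E ≤ p := by
      rw [← orderOf_eq_card_of_forall_mem_zpowers hgen]
      exact Nat.le_of_dvd (Fact.out : p.Prime).pos
        (orderOf_dvd_of_pow_eq_one (Subtype.ext (hexp u hu)))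
    have h1 : Subgroup.zpowers a = E := Subgroup.eq_of_le_of_card_ge (Subgroup.zpowers_le.2 haE)
      (by rw [Nat.card_zpowers, hap]; exact hcard)
    have h2 : b ∈ N := by
      have : Subgroup.zpowers a ≤ N := Subgroup.zpowers_le.2 haN
      exact this (h1.symm ▸ hbE)
    have := hSK b hbS ⟨h2, hbM⟩
    rw [this, orderOf_one] at hbp
    exact (Fact.out : p.Prime).one_lt.ne hbp
  obtain ⟨e, he⟩ := IsPGroup.iff_card.1 (S.isPGroup'.to_le hES)
  have hEK : E ≤ Subgroup.normalizer ((N ⊓ M : Subgroup G) : Set G) := by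
    rw [Subgroup.normalizer_eq_top]; exact le_top
  have hcop : (Nat.card E).Coprime (Nat.card ↥(N ⊓ M)) := by
    rw [he]; exact Nat.Coprime.pow_left e hK'.symm
  have hKH : N ⊓ M ≤ H := by
    rw [← Basics.iSup_inf_centralizer_eq E (N ⊓ M) hEnc hEK hcop]
    refine iSup₂_le fun x hx => inf_le_right.trans ?_
    have hne : Subgroup.zpowers x ≠ ⊥ := by
      rw [Ne, Subgroup.zpowers_eq_bot]; exact hx.2
    refine le_trans ?_ (cse_normalizer_le (H := H) hse ((S.isPGroup'.to_le hES).to_le (Subgroup.zpowers_le.2 hx.1))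
      ((Subgroup.zpowers_le.2 hx.1).trans (hES.trans hSH)) hne)
    rw [← Subgroup.centralizer_closure, ← Subgroup.zpowers_eq_closure]
    exact Subgroup.centralizer_le_normalizer _
  have hMH : M ≤ H := by
    intro m hm
    refine cse_mem_of_sylow_conj (H := H) hse (Q := Subgroup.zpowers a) (S.isPGroup'.to_le (Subgroup.zpowers_le.2 haS))
      (by rw [Ne, Subgroup.zpowers_eq_bot]; rintro rfl; rw [orderOf_one] at hap; exact (Fact.out : p.Prime).one_lt.ne hap)
      (Subgroup.zpowers_le.2 (hSH haS)) ?_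
    rw [MonoidHom.map_zpowers, Subgroup.zpowers_le]
    have h1 := hcomm a⁻¹ (N.inv_mem haN) m hm
    rw [show (MulAut.conj m).toMonoidHom a = a * (a⁻¹ * m * a⁻¹⁻¹ * m⁻¹) by
      simp [MulAut.conj_apply]; group]
    exact H.mul_mem (hSH haS) (hKH h1)
  refine hH ((Subgroup.eq_top_iff' H).2 fun g => ?_)
  have hbne : Subgroup.zpowers b ≠ ⊥ := by
    rw [Ne, Subgroup.zpowers_eq_bot]; rintro rfl; rw [orderOf_one] at hbp; exact (Fact.out : p.Prime).one_lt.ne hbp
  refine cse_mem_of_sylow_conj (H := H) hse (Q := Subgroup.zpowers b) (S.isPGroup'.to_le (Subgroup.zpowers_le.2 hbS))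
    hbne (Subgroup.zpowers_le.2 (hSH hbS)) ?_
  rw [MonoidHom.map_zpowers, Subgroup.zpowers_le]
  exact hMH (Subgroup.Normal.conj_mem inferInstance b hbM g)

end Cfsg.Agent.S3058
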