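import Cfsg.Statements.S3059
import Cfsg.Agent.Lib.LocalEvenB.ClassicalSPE

set_option autoImplicit false
open Cfsg

namespace Cfsg.Agent.S3059

open Cfsg.Agent.LocalEvenB

/-- Let p be a prime and H a strongly p-embedded subgroup of the finite group G in the classical sense: H is proper, p divides the order of H, and H ∩ gHg⁻¹ has order prime to p for every g outside H. Then for every normal subgroup N of G of order divisible by p, G = H · O^p(N), where O^p(N) is the subgroup generated by the elements of N of order prime to p. -/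
theorem result {G : Type*} [Group G] [Finite G]
    (p : ℕ) [Fact p.Prime] (H : Subgroup G) (hH : H ≠ ⊤) (hpH : p ∣ Nat.card H)
    (hse : ∀ g : G, g ∉ H → ¬ p ∣ Nat.card ↥(H ⊓ H.map (MulAut.conj g).toMonoidHom))
    (N : Subgroup G) [N.Normal] (hN : p ∣ Nat.card N) :
    H ⊔ Subgroup.closure {g : G | g ∈ N ∧ (orderOf g).Coprime p} = ⊤ := by
  obtain ⟨S, hSH, hSne⟩ := cse_exists_sylow_le (H := H) hse hpH
  have hSN : (S : Subgroup G) ⊓ N ≠ ⊥ := by
    obtain ⟨x, hx⟩ := exists_prime_orderOf_dvd_card' p hN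
    have hx' : orderOf (x : G) = p := by rw [Subgroup.orderOf_coe, hx]
    obtain ⟨g, hg⟩ := sylow_conj_le S (isPGroup_zpowers ⟨1, by rw [hx', pow_one]⟩)
    intro h
    have hmem : g⁻¹ * (x : G) * g ∈ (S : Subgroup G) ⊓ N :=
      ⟨mem_conjMap.1 (hg (Subgroup.mem_zpowers _)), Subgroup.Normal.conj_mem' inferInstance _ x.2 g⟩
    rw [h, Subgroup.mem_bot, mul_assoc, inv_mul_eq_one, eq_comm, mul_eq_right] at hmem
    rw [hmem, orderOf_one] at hx'
    exact (Fact.out : p.Prime).one_lt.ne hx'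
  obtain ⟨Q, hQ⟩ := ((S.isPGroup'.to_le inf_le_left).of_equiv
    (Subgroup.subgroupOfEquivOfLe (inf_le_right : (S : Subgroup G) ⊓ N ≤ N)).symm).exists_le_sylow
  set Q' := (Q : Subgroup N).map N.subtype with hQ'
  have hsub : (S : Subgroup G) ⊓ N ≤ Q' := fun y hy => ⟨⟨y, hy.2⟩, hQ (Subgroup.mem_subgroupOf.2 hy), rfl⟩
  obtain ⟨T, hT⟩ := (Q.isPGroup'.map N.subtype).exists_le_sylow
  have hTH : (T : Subgroup G) ≤ H := cse_sylow_le (H := H) hse T fun h => hSN (le_bot_iff.1 (by
    rw [← h]; exact le_inf (hsub.trans hT) (inf_le_left.trans hSH)))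
  have hQne : Q' ≠ ⊥ := fun h => hSN (le_bot_iff.1 (hsub.trans h.le))
  have hfrat : Subgroup.normalizer (Q' : Set G) ⊔ N = ⊤ := Sylow.normalizer_sup_eq_top Q
  have hHN : H ⊔ N = ⊤ := top_le_iff.1 (hfrat.symm.le.trans
    (sup_le_sup_right (cse_normalizer_le (H := H) hse (Q.isPGroup'.map N.subtype) (hT.trans hTH) hQne) N))
  set K := Subgroup.closure {g : G | g ∈ N ∧ (orderOf g).Coprime p} with hK
  haveI hKn : K.Normal := by
    refine ⟨fun n hn g => ?_⟩
    have h1 : K.map (MulAut.conj g).toMonoidHom ≤ K := by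
      rw [hK, MonoidHom.map_closure]
      refine Subgroup.closure_mono ?_
      rintro _ ⟨a, ⟨ha, hc⟩, rfl⟩
      refine ⟨Subgroup.Normal.conj_mem inferInstance a ha g, ?_⟩
      show (orderOf (MulAut.conj g a)).Coprime p
      rwa [MulEquiv.orderOf_eq]
    exact h1 (conjMap_apply_mem hn)
  have hKS : N ≤ (S : Subgroup G) ⊔ K := by
    have hp : IsPGroup p ↥(N.map (QuotientGroup.mk' K)) := by
      rintro ⟨_, g, hg, rfl⟩
      refine ⟨(orderOf g).factorization p, Subtype.ext ?_⟩
      show (QuotientGroup.mk' K g) ^ p ^ (orderOf g).factorization p = 1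
      rw [← map_pow, QuotientGroup.mk'_apply, QuotientGroup.eq_one_iff]
      refine Subgroup.subset_closure ⟨Subgroup.pow_mem _ hg _, ?_⟩
      rw [orderOf_pow, Nat.gcd_eq_right (Nat.ordProj_dvd _ _)]
      exact (Nat.coprime_ordCompl Fact.out (orderOf_pos g).ne').symm
    have h1 := (le_pCore (Subgroup.Normal.map inferInstance _ (QuotientGroup.mk'_surjective K)) hp).trans
      (pCore_le_sylow (S.mapSurjective (QuotientGroup.mk'_surjective K)))
    have h2 := Subgroup.map_le_iff_le_comap.1 h1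
    rwa [Sylow.coe_mapSurjective, Subgroup.comap_map_eq, QuotientGroup.ker_mk'] at h2
  rw [← top_le_iff, ← hHN]
  exact sup_le le_sup_left (hKS.trans (sup_le_sup_right hSH K))

end Cfsg.Agent.S3059
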