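import Cfsg.Statements.S3060
import Cfsg.Agent.Lib.Tech.DStar
import Cfsg.Agent.Lib.Transfer.Residual
import Cfsg.Agent.Lib.ConjFunctor.Sections
import Cfsg.Agent.Lib.LocalEvenA.Core

set_option autoImplicit false
open Cfsg
open Cfsg.Agent
open scoped commutatorElement

namespace Cfsg.Agent.S3060

/-- The D*-Theorem. For a finite p-group S let D*(S) be the subgroup generated by the abelian subgroups A of S such that every x ∈ S with ⟨A, x⟩ of nilpotency class at most two centralizes A. Let p be an odd prime and H a finite p-stable group with Sylow p-subgroup S. Here H is p-stable in the following sense: the largest normal p-subgroup O_p(H) contains its centralizer in H, and for every normal p-subgroup P of H, every element acting quadratically on P has image in O_p(H/C_H(P)). Then D*(S) is a normal subgroup of H. -/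
theorem result {G : Type*} [Group G] [Finite G] {p : ℕ} [Fact p.Prime] (hp : p ≠ 2)
    (hc : Subgroup.centralizer (Cfsg.pCore p G : Set G) ≤ Cfsg.pCore p G)
    (hst : ∀ (P : Subgroup G) [P.Normal], IsPGroup p P → Cfsg.IsPStableOn p P) (S : Sylow p G) :
    (Cfsg.dStarOf (S : Subgroup G)).Normal := by
  set Q := Cfsg.pCore p G with hQdef
  haveI hQn : Q.Normal := LocalEvenA.pCore_normal' p G
  have hQp : IsPGroup p Q := LocalEvenA.pCore_isPGroup' p G
  set A := Cfsg.dStarOf (S : Subgroup G) with hAdef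
  have hAS : A ≤ (S : Subgroup G) := Subgroup.map_subtype_le _
  have hSA : (S : Subgroup G) ≤ Subgroup.normalizer (A : Set G) := fun s hs =>
    Subgroup.le_normalizer_map (S : Subgroup G).subtype
      ⟨⟨s, hs⟩, Subgroup.le_normalizer_of_normal (H := Cfsg.dStar ↥(S : Subgroup G)) (Subgroup.mem_top _), rfl⟩
  have hfamS := Tech.dStar_mem (S := ↥(S : Subgroup G)) S.2
  have hcommA : ∀ a ∈ A, ∀ b ∈ A, a * b = b * a := by
    rintro _ ⟨a, ha, rfl⟩ _ ⟨b, hb, rfl⟩
    haveI := hfamS.1
    exact congrArg (fun u : ↥(Cfsg.dStar ↥(S : Subgroup G)) => ((u : ↥(S : Subgroup G)) : G))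
      (mul_comm' ⟨a, ha⟩ ⟨b, hb⟩)
  -- the family property of `A`, inside `G`
  have hA2 : ∀ x ∈ (S : Subgroup G), (∀ a ∈ A, Commute ⁅a, x⁆ x) → ∀ a ∈ A, a * x = x * a := by
    intro x hx hq a ha
    obtain ⟨a', ha', rfl⟩ := ha
    haveI := hfamS.1
    refine congrArg Subtype.val (hfamS.2 ⟨x, hx⟩ ?_ a' ha')
    exact Tech.class_two_of_quadratic _ (Subgroup.le_normalizer_of_normal (Subgroup.mem_top _))
      fun v hv => Subtype.ext (hq _ ⟨v, hv, rfl⟩).eq
  have hQS : Q ≤ (S : Subgroup G) := ConjFunctor.pCore_le_sylow S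
  -- quadratic elements land in the preimage of the p-core of the automizer
  have hquad : ∀ (V : Subgroup G), V.Normal → ∀ x : G, (∀ v ∈ V, Commute ⁅v, x⁆ x) →
      ⁅⁅V, Subgroup.zpowers x⁆, Subgroup.zpowers x⁆ = ⊥ := by
    intro V hV x hx
    rw [Subgroup.commutator_eq_bot_iff_le_centralizer, Subgroup.commutator_le]
    intro v hv y hy
    suffices h0 : ⁅v, y⁆ * x = x * ⁅v, y⁆ from
      Subgroup.mem_centralizer_iff.mpr fun z hz => by
        obtain ⟨i, rfl⟩ := Subgroup.mem_zpowers_iff.mp hz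
        exact ((show Commute ⁅v, y⁆ x from h0).zpow_right i).eq.symm
    let M : Subgroup G :=
      { carrier := {y | Commute y x ∧ ∀ v ∈ V, Commute ⁅v, y⁆ x}
        one_mem' := ⟨Commute.one_left x, fun v _ => by
          rw [commutatorElement_one_right]; exact Commute.one_left x⟩
        mul_mem' := fun {a b} ha hb => ⟨ha.1.mul_left hb.1, fun v hv => by
          rw [show ⁅v, a * b⁆ = ⁅v, a⁆ * (a * ⁅v, b⁆ * a⁻¹) by
            simp only [commutatorElement_def]; group]
          exact (ha.2 v hv).mul_left ((ha.1.mul_left (hb.2 v hv)).mul_left ha.1.inv_left)⟩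
        inv_mem' := fun {a} ha => ⟨ha.1.inv_left, fun v hv => by
          rw [show ⁅v, a⁻¹⁆ = a⁻¹ * ⁅v, a⁆⁻¹ * a by simp only [commutatorElement_def]; group]
          exact (ha.1.inv_left.mul_left (ha.2 v hv).inv_left).mul_left ha.1⟩ }
    exact ((Subgroup.zpowers_le.mpr (show x ∈ M from ⟨Commute.refl x, hx⟩) hy).2 v hv).eq
  -- `A ≤ Q`
  have hAQ : A ≤ Q := by
    intro x hx
    have h2 : ⁅⁅Q, Subgroup.zpowers x⁆, Subgroup.zpowers x⁆ = ⊥ := hquad Q hQn x fun v hv => by
      refine hcommA _ ?_ _ hx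
      rw [commutatorElement_def]
      exact mul_mem ((Subgroup.mem_normalizer_iff.mp (hSA (hQS hv)) x).mp hx) (inv_mem hx)
    have h3 := hst Q hQp x h2
    set C := Subgroup.centralizer (Q : Set G)
    haveI := LocalEvenA.pCore_normal' p (G ⧸ C)
    have h4 : (Cfsg.pCore p (G ⧸ C)).comap (QuotientGroup.mk' C) ≤ Q := by
      refine LocalEvenA.le_pCore_of_normal inferInstance ?_
      refine IsPGroup.comap_of_ker_isPGroup (LocalEvenA.pCore_isPGroup' p _) _ ?_
      rw [QuotientGroup.ker_mk']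
      exact hQp.to_le hc
    exact h4 h3
  -- the normal closure of `A`
  set V := Subgroup.normalClosure (A : Set G) with hVdef
  have hVQ : V ≤ Q := Subgroup.normalClosure_le_normal hAQ
  have hconjA : ∀ g : G, ∀ a ∈ A, g * a * g⁻¹ ∈ Q := fun g a ha => hQn.conj_mem a (hAQ ha) g
  -- the conjugates of `A` lie in the family of `Q`
  have hfamQ : ∀ g : G, (A.map (MulAut.conj g).toMonoidHom).subgroupOf Q ∈ Cfsg.dStarFamily ↥Q := by
    intro g
    refine ⟨⟨⟨fun u v => ?_⟩⟩, fun x hx u hu => ?_⟩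
    · obtain ⟨a, ha, ha'⟩ := u.2
      obtain ⟨b, hb, hb'⟩ := v.2
      refine Subtype.ext (Subtype.ext ?_)
      change ((u : ↥Q) : G) * ((v : ↥Q) : G) = ((v : ↥Q) : G) * ((u : ↥Q) : G)
      rw [← show (MulAut.conj g).toMonoidHom a = ((u : ↥Q) : G) from ha',
        ← show (MulAut.conj g).toMonoidHom b = ((v : ↥Q) : G) from hb', ← map_mul, ← map_mul, hcommA a ha b hb]
    · obtain ⟨a, ha, ha'⟩ := hu
      have hx' : g⁻¹ * (x : G) * g ∈ (S : Subgroup G) :=
        hQS (by simpa using hQn.conj_mem _ x.2 g⁻¹)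
      have h2 := hA2 _ hx' (fun b hb => by
        have hbQ : g * b * g⁻¹ ∈ Q := hconjA g b hb
        have hq := Tech.quadratic_of_class_two hx (a := (⟨_, hbQ⟩ : ↥Q)) ⟨b, hb, rfl⟩
        have hq' : Commute ⁅g * b * g⁻¹, (x : G)⁆ (x : G) := hq.map Q.subtype
        have h5 := hq'.map (MulAut.conj g⁻¹).toMonoidHom
        rw [map_commutatorElement] at h5
        simpa [mul_assoc] using h5) a ha
      refine Subtype.ext ?_
      change ((u : ↥Q) : G) * (x : G) = (x : G) * ((u : ↥Q) : G)
      rw [← show (MulAut.conj g).toMonoidHom a = ((u : ↥Q) : G) from ha']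
      show g * a * g⁻¹ * (x : G) = (x : G) * (g * a * g⁻¹)
      calc g * a * g⁻¹ * (x : G) = g * (a * (g⁻¹ * x * g)) * g⁻¹ := by group
        _ = g * ((g⁻¹ * x * g) * a) * g⁻¹ := by rw [h2]
        _ = (x : G) * (g * a * g⁻¹) := by group
  haveI hVab : IsMulCommutative ↥V := by
    haveI := (Tech.dStar_mem (S := ↥Q) hQp).1
    have hle : V ≤ (Cfsg.dStar ↥Q).map Q.subtype := by
      refine (Subgroup.closure_le _).mpr fun y hy => ?_
      obtain ⟨a, ha, hay⟩ := Group.mem_conjugatesOfSet_iff.mp hy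
      obtain ⟨g, hg⟩ := isConj_iff.mp hay
      exact ⟨⟨y, hVQ (Subgroup.subset_closure hy)⟩, le_sSup (hfamQ g) ⟨a, ha, hg⟩, rfl⟩
    exact ⟨⟨fun a b => Subtype.ext (by
      obtain ⟨a', ha', ha''⟩ := hle a.2
      obtain ⟨b', hb', hb''⟩ := hle b.2
      show (a : G) * b = b * a
      rw [← ha'', ← hb'', ← map_mul, ← map_mul]
      exact congrArg _ (congrArg Subtype.val
        (mul_comm' (⟨a', ha'⟩ : Cfsg.dStar ↥Q) ⟨b', hb'⟩)))⟩⟩
  -- `V` is in the family of `S`
  haveI hVn : V.Normal := Subgroup.normalClosure_normal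
  have hVS : V ≤ (S : Subgroup G) := hVQ.trans hQS
  have hkey : V.subgroupOf (S : Subgroup G) ∈ Cfsg.dStarFamily ↥(S : Subgroup G) := by
    refine ⟨inferInstance, fun x hx u hu => Subtype.ext ?_⟩
    have hxq : ∀ v ∈ V, Commute ⁅v, (x : G)⁆ (x : G) := fun v hv =>
      (Tech.quadratic_of_class_two hx (a := (⟨v, hVS hv⟩ : ↥(S : Subgroup G))) hv).map (S : Subgroup G).subtype
    set C := Subgroup.centralizer (V : Set G)
    haveI := LocalEvenA.pCore_normal' p (G ⧸ C)
    set L := (Cfsg.pCore p (G ⧸ C)).comap (QuotientGroup.mk' C) with hL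
    have hxL : (x : G) ∈ L := hst V (hQp.to_le hVQ) x (hquad V hVn x hxq)
    obtain ⟨SL, hSL⟩ := Transfer.exists_sylow_eq_subgroupOf S L
    set T := (SL : Subgroup L).map L.subtype with hT
    have hTS : T = (S : Subgroup G) ⊓ L := by
      rw [hT, hSL, Subgroup.subgroupOf_map_subtype]
    have hxT : (x : G) ∈ T := hTS ▸ Subgroup.mem_inf.mpr ⟨x.2, hxL⟩
    have hfr := Sylow.normalizer_sup_eq_top SL
    have hLC : L ≤ C ⊔ T := by
      intro l hl
      have h7 : IsPGroup p ↥(L.map (QuotientGroup.mk' C)) := by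
        rw [hL, Subgroup.map_comap_eq_self_of_surjective (QuotientGroup.mk'_surjective C)]
        exact LocalEvenA.pCore_isPGroup' p _
      let f : ↥L →* ↥(L.map (QuotientGroup.mk' C)) := (QuotientGroup.mk' C).subgroupMap L
      have hf : Function.Surjective f := (QuotientGroup.mk' C).subgroupMap_surjective L
      have htop : (SL : Subgroup L).map f = ⊤ := by
        let P' := SL.mapSurjective hf
        have hP' : (P' : Subgroup ↥(L.map (QuotientGroup.mk' C))) = ⊤ :=
          (P'.is_maximal' (h7.of_equiv Subgroup.topEquiv.symm) le_top).symm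
        exact hP'
      obtain ⟨t, ht, hte⟩ := htop ▸ Subgroup.mem_top (f ⟨l, hl⟩)
      have h8 : (t : G)⁻¹ * l ∈ C := QuotientGroup.eq.mp (congrArg Subtype.val hte)
      rw [show l = (t : G) * ((t : G)⁻¹ * l) by group]
      exact mul_mem (Subgroup.mem_sup_right ⟨t, ht, rfl⟩) (Subgroup.mem_sup_left h8)
    have hTV : ∀ t ∈ T, (∀ v ∈ V, Commute ⁅v, t⁆ t) → ∀ a ∈ A, a * t = t * a := fun t ht hq =>
      hA2 t ((hTS ▸ ht : t ∈ (S : Subgroup G) ⊓ L)).1 fun a ha => hq a (Subgroup.subset_normalClosure ha)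
    have hgen : V ≤ Subgroup.centralizer ({(x : G)} : Set G) := by
      refine (Subgroup.closure_le _).mpr fun y hy => ?_
      obtain ⟨a, ha, hay⟩ := Group.mem_conjugatesOfSet_iff.mp hy
      obtain ⟨g, hg⟩ := isConj_iff.mp hay
      rw [SetLike.mem_coe, Subgroup.mem_centralizer_singleton_iff]
      have hg' : g ∈ Subgroup.normalizer (T : Set G) ⊔ C := by
        have h9 : g ∈ Subgroup.normalizer (T : Set G) ⊔ L := hfr ▸ Subgroup.mem_top g
        exact (sup_le le_sup_left (hLC.trans (sup_le le_sup_right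
          (Subgroup.le_normalizer.trans le_sup_left)))) h9
      obtain ⟨n, hn, c, hcC, rfl⟩ := (Subgroup.mem_sup_of_normal_right (t := C)).mp hg'
      have hac : c * a * c⁻¹ = a := by
        rw [← Subgroup.mem_centralizer_iff.mp hcC a (Subgroup.subset_normalClosure ha), mul_inv_cancel_right]
      have hy' : y = n * a * n⁻¹ := by
        rw [← hg, show n * c * a * (n * c)⁻¹ = n * (c * a * c⁻¹) * n⁻¹ by group, hac]
      have hnx : n⁻¹ * (x : G) * n ∈ T := by
        have := (Subgroup.mem_normalizer_iff''.mp hn (x : G)).mp hxT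
        exact this
      have h10 := hTV _ hnx (fun v hv => by
        have h11 := (hxq (n * v * n⁻¹) (hVn.conj_mem v hv n)).map (MulAut.conj n⁻¹).toMonoidHom
        rw [map_commutatorElement] at h11
        simpa [mul_assoc] using h11) a ha
      rw [hy']
      calc n * a * n⁻¹ * (x : G) = n * (a * (n⁻¹ * x * n)) * n⁻¹ := by group
        _ = n * ((n⁻¹ * x * n) * a) * n⁻¹ := by rw [h10]
        _ = (x : G) * (n * a * n⁻¹) := by group
    exact Subgroup.mem_centralizer_singleton_iff.mp (hgen hu)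
  have hVA : V ≤ A := by
    intro v hv
    exact ⟨⟨v, hVS hv⟩, le_sSup hkey hv, rfl⟩
  have heq : A = V := le_antisymm Subgroup.subset_normalClosure hVA
  rw [heq]
  exact hVn

end Cfsg.Agent.S3060
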