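import Cfsg.Statements.S3062
import Cfsg.Agent.Lib.Tech.DStar

set_option autoImplicit false
open Cfsg
open Cfsg.Agent

namespace Cfsg.Agent.S3062

/-- Let S be a finite p-group, J(S) the subgroup generated by the abelian subgroups of S of largest order and Z(J(S)) its centre. Then Z(S) ≤ D*(S) ≤ Z(J(S)), and every maximal normal abelian subgroup of S contains D*(S). -/
theorem result {S : Type*} [Group S] [Finite S] {p : ℕ} [Fact p.Prime]
    (hS : IsPGroup p S) :
    Subgroup.center S ≤ Cfsg.dStar S ∧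
    Cfsg.dStar S ≤ Cfsg.thompsonSubgroupA S ⊓ Subgroup.centralizer (Cfsg.thompsonSubgroupA S : Set S) ∧
    ∀ A : Subgroup S, A.Normal → IsMulCommutative A →
      (∀ B : Subgroup S, B.Normal → IsMulCommutative B → A ≤ B → B = A) → Cfsg.dStar S ≤ A := by
  have hmem : ∀ U ∈ Cfsg.maxAbelianSubgroups S, Cfsg.dStar S ≤ U := fun U hU =>
    Tech.dStar_le_of_maxAb hS ⟨le_top, ⟨hU.1, fun a _ => pow_zero a⟩, fun B _ hB => hU.2 B hB.1⟩
  refine ⟨le_sSup Tech.center_mem_dStarFamily, le_inf ?_ ?_,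
    fun A hAn hAc hmax => Tech.dStar_le_maximal hS hAn hAc hmax⟩
  · obtain ⟨U, hU⟩ := Transfer.exists_isMaxAbIn (e := 0) (⊤ : Subgroup S)
    have hU' : U ∈ Cfsg.maxAbelianSubgroups S :=
      ⟨hU.2.1.1, fun B hB => hU.2.2 B le_top ⟨hB, fun a _ => pow_zero a⟩⟩
    exact (hmem U hU').trans (le_sSup hU')
  · rw [Subgroup.le_centralizer_iff]
    refine sSup_le fun U hU => Subgroup.le_centralizer_iff.mp ((hmem U hU).trans ?_)
    exact Subgroup.le_centralizer_iff_isMulCommutative.mpr hU.1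

end Cfsg.Agent.S3062
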