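import Cfsg.Statements.S3063
import Cfsg.Agent.Lib.Transfer.Replacement
-- import your own Cfsg.Agent.* helpers here

set_option autoImplicit false
open Cfsg
open scoped commutatorElement

namespace Cfsg.Agent.S3063

/-- A weak replacement Theorem for metabelian p-groups: let S be a finite p-group whose derived subgroup is abelian and A an abelian subgroup of S of largest possible order. Then the normal closure of A in S contains an abelian subgroup B of the same order as A that is normal in S. -/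
theorem result {S : Type*} [Group S] [Finite S] {p : ℕ} [Fact p.Prime]
    (hS : IsPGroup p S) (hmeta : IsMulCommutative ↥(commutator S))
    (A : Subgroup S) (hA : A ∈ Cfsg.maxAbelianSubgroups S) :
    ∃ B ∈ Cfsg.maxAbelianSubgroups S, B.Normal ∧ B ≤ Subgroup.normalClosure (A : Set S) := by
  classical
  set D := Subgroup.normalClosure (A : Set S) with hD
  set T := commutator S with hT
  haveI hTn : T.Normal := inferInstance
  have hTc : ∀ x ∈ T, ∀ y ∈ T, x * y = y * x := fun x hx y hy =>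
    congrArg Subtype.val (mul_comm' (⟨x, hx⟩ : T) ⟨y, hy⟩)
  haveI : Fintype {X : Subgroup S // X ∈ Cfsg.maxAbelianSubgroups S ∧ X ≤ D} := Fintype.ofFinite _
  obtain ⟨⟨A₁, hA₁, hA₁D⟩, -, hmax⟩ := Finset.exists_max_image
    (Finset.univ : Finset {X : Subgroup S // X ∈ Cfsg.maxAbelianSubgroups S ∧ X ≤ D})
    (fun X => Nat.card ↥(X.1 ⊓ T)) ⟨⟨A, hA, Subgroup.le_normalClosure⟩, Finset.mem_univ _⟩
  refine ⟨A₁, hA₁, ?_, hA₁D⟩
  have hA₁c : ∀ x ∈ A₁, ∀ y ∈ A₁, x * y = y * x := fun x hx y hy => by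
    haveI := hA₁.1
    exact congrArg Subtype.val (mul_comm' (⟨x, hx⟩ : A₁) ⟨y, hy⟩)
  have hTA : T ≤ Subgroup.normalizer (A₁ : Set S) := by
    by_contra hnot
    obtain ⟨b, hb, hbN, hbA⟩ := Cfsg.Agent.Transfer.exists_normalizing_element hS T A₁ hnot
    have hTT : ⁅T, T⁆ ≤ A₁ := by
      rw [Subgroup.commutator_le]
      intro x hx y hy
      rw [commutatorElement_eq_one_iff_mul_comm.mpr (hTc x hx y hy)]
      exact one_mem _
    obtain ⟨hcard, hRc, -, hlt, -, -, -, -, -, hDR, -⟩ :=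
      Cfsg.Agent.Transfer.replaced_spec hS T (fun _ => hmeta) A₁ hA₁.1 hTT b hb hbN hbA
    have h1 := hmax ⟨_, ⟨hRc, fun B hB => hcard ▸ hA₁.2 B hB⟩,
      hDR D Subgroup.normalClosure_normal hA₁D⟩ (Finset.mem_univ _)
    exact hlt.ne (Subgroup.eq_of_le_of_card_ge hlt.le h1)
  refine ⟨fun a₀ ha₀ g => ?_⟩
  set B := A₁.map (MulAut.conj g).toMonoidHom with hB
  have hBA₁T : B ≤ A₁ ⊔ T := by
    rintro _ ⟨a, ha, rfl⟩
    have h : (MulAut.conj g).toMonoidHom a = ⁅g, a⁆ * a := by simp [commutatorElement_def]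
    rw [h]
    exact mul_mem (Subgroup.mem_sup_right (Subgroup.commutator_mem_commutator
      (Subgroup.mem_top g) (Subgroup.mem_top a))) (Subgroup.mem_sup_left ha)
  have hBN : B ≤ Subgroup.normalizer (A₁ : Set S) :=
    hBA₁T.trans (sup_le Subgroup.le_normalizer hTA)
  set W := A₁ ⊔ B with hW
  set K := W ⊓ T with hK
  have hKN : K ≤ Subgroup.normalizer (A₁ : Set S) := inf_le_right.trans hTA
  have hWK : A₁ ⊔ K = W := by
    refine le_antisymm (sup_le le_sup_left inf_le_left) fun w hw => ?_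
    obtain ⟨a, ha, t, ht, rfl⟩ := (Cfsg.Agent.Basics.mem_sup_of_le_normalizer hTA).mp
      (sup_le le_sup_left hBA₁T hw)
    refine mul_mem (Subgroup.mem_sup_left ha) (Subgroup.mem_sup_right (Subgroup.mem_inf.mpr ⟨?_, ht⟩))
    have := mul_mem (inv_mem (show a ∈ W from Subgroup.mem_sup_left ha)) hw
    rwa [inv_mul_cancel_left] at this
  set I := A₁ ⊓ B with hI
  have hBc : ∀ x ∈ B, ∀ y ∈ B, x * y = y * x := by
    rintro _ ⟨x, hx, rfl⟩ _ ⟨y, hy, rfl⟩
    rw [← map_mul, ← map_mul, hA₁c x hx y hy]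
  have hIW : W ≤ Subgroup.centralizer (I : Set S) := sup_le
    (fun x hx => Subgroup.mem_centralizer_iff.mpr fun y hy => hA₁c y (Subgroup.mem_inf.mp hy).1 x hx)
    (fun x hx => Subgroup.mem_centralizer_iff.mpr fun y hy => hBc y (Subgroup.mem_inf.mp hy).2 x hx)
  have hKI : K ≤ Subgroup.normalizer (I : Set S) :=
    (inf_le_left.trans hIW).trans (Subgroup.centralizer_le_normalizer _)
  set R := I ⊔ K with hR
  have hRc : IsMulCommutative R := by
    refine ⟨⟨fun u v => Subtype.ext ?_⟩⟩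
    obtain ⟨i, hi, k, hk, hu⟩ := (Cfsg.Agent.Basics.mem_sup_of_le_normalizer hKI).mp u.2
    obtain ⟨j, hj, l, hl, hv⟩ := (Cfsg.Agent.Basics.mem_sup_of_le_normalizer hKI).mp v.2
    show (u : S) * v = v * u
    rw [hu, hv]
    have hij : Commute i j := hA₁c i (Subgroup.mem_inf.mp hi).1 j (Subgroup.mem_inf.mp hj).1
    have hil : Commute i l := Subgroup.mem_centralizer_iff.mp (hIW (Subgroup.mem_inf.mp hl).1) i hi
    have hjk : Commute j k := Subgroup.mem_centralizer_iff.mp (hIW (Subgroup.mem_inf.mp hk).1) j hj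
    have hkl : Commute k l := hTc k (Subgroup.mem_inf.mp hk).2 l (Subgroup.mem_inf.mp hl).2
    exact ((hij.mul_right hil).mul_left (hjk.symm.mul_right hkl)).eq
  have hcB : Nat.card B = Nat.card A₁ :=
    Subgroup.card_map_of_injective (MulAut.conj g).injective
  have e1 := Cfsg.Agent.Basics.card_mul_card_eq_card_sup_mul_card_inf hBN
  have e2 := Cfsg.Agent.Basics.card_mul_card_eq_card_sup_mul_card_inf hKN
  have e3 := Cfsg.Agent.Basics.card_mul_card_eq_card_sup_mul_card_inf hKI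
  have hAK : A₁ ⊓ K = A₁ ⊓ T :=
    le_antisymm (inf_le_inf_left _ inf_le_right) (le_inf inf_le_left (inf_le_inf_right _ le_sup_left))
  rw [hWK, hAK] at e2
  rw [← hW, ← hI, hcB] at e1
  have h4 : Nat.card ↥(I ⊓ K) ≤ Nat.card ↥(A₁ ⊓ T) :=
    Subgroup.card_le_of_le (inf_le_inf inf_le_left inf_le_right)
  have hRcard : Nat.card R = Nat.card A₁ := by
    refine le_antisymm (hA₁.2 R hRc) ?_
    have h5 : Nat.card R * Nat.card ↥(I ⊓ K) = Nat.card A₁ * Nat.card ↥(A₁ ⊓ T) := by
      rw [← e3]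
      refine Nat.eq_of_mul_eq_mul_left (Nat.card_pos (α := A₁)) ?_
      calc Nat.card A₁ * (Nat.card I * Nat.card K) = Nat.card I * (Nat.card A₁ * Nat.card K) := by
            ring
        _ = Nat.card W * Nat.card I * Nat.card ↥(A₁ ⊓ T) := by rw [e2]; ring
        _ = _ := by rw [← e1]; ring
    refine Nat.le_of_mul_le_mul_right ?_ (Nat.card_pos (α := ↥(I ⊓ K)))
    rw [h5]
    exact Nat.mul_le_mul_left _ h4
  have hWD : W ≤ D := sup_le hA₁D (by
    rintro _ ⟨a, ha, rfl⟩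
    exact Subgroup.normalClosure_normal.conj_mem a (hA₁D ha) g)
  have h6 := hmax ⟨R, ⟨hRc, fun B hB => hRcard ▸ hA₁.2 B hB⟩,
    sup_le (inf_le_left.trans hA₁D) (inf_le_left.trans hWD)⟩ (Finset.mem_univ _)
  have h7 : Nat.card K ≤ Nat.card ↥(A₁ ⊓ T) :=
    (Subgroup.card_le_of_le (le_inf le_sup_right inf_le_right)).trans h6
  have h8 : Nat.card W ≤ Nat.card A₁ := by
    refine Nat.le_of_mul_le_mul_right ?_ (Nat.card_pos (α := ↥(A₁ ⊓ T)))
    rw [← e2]
    exact Nat.mul_le_mul_left _ h7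
  have h9 : A₁ = W := Subgroup.eq_of_le_of_card_ge le_sup_left h8
  rw [h9]
  exact Subgroup.mem_sup_right ⟨a₀, ha₀, by simp [mul_assoc]⟩

end Cfsg.Agent.S3063
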