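import Cfsg.Statements.S3064
import Cfsg.Agent.Lib.Tech.IsolatedCentral

set_option autoImplicit false
open Cfsg
open Cfsg.Agent

namespace Cfsg.Agent.S3064

/-- Let S be a Sylow p-subgroup of the finite group G and x an element of S such that (i) x is the only G-conjugate of x lying in S, and (ii) x centralizes every subgroup of order prime to p that it normalizes. Then x lies in the centre of G. -/
theorem result {G : Type*} [Group G] [Finite G] {p : ℕ} [Fact p.Prime]
    (S : Sylow p G) (x : G) (hx : x ∈ S)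
    (hU : ∀ g : G, g⁻¹ * x * g ∈ S → g⁻¹ * x * g = x)
    (hb : ∀ H : Subgroup G, (Nat.card H).Coprime p → (∀ h ∈ H, x * h * x⁻¹ ∈ H) → ∀ h ∈ H, x * h = h * x) :
    x ∈ Subgroup.center G := by
  obtain ⟨k, hk⟩ := S.2 ⟨x, hx⟩
  have hxk : x ^ p ^ k = 1 := congrArg Subtype.val hk
  refine Tech.central_of_isolated p _ G rfl x ⟨k, hxk⟩ (fun g hg => ?_) hb
  have hyk : (g * x * g⁻¹) ^ p ^ k = 1 := by rw [conj_pow, hxk, mul_one, mul_inv_cancel]
  set H := Subgroup.closure ({x, g * x * g⁻¹} : Set G) with hH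
  have hcom : IsMulCommutative ↥H := Subgroup.isMulCommutative_closure (by
    intro u hu v hv
    rcases hu with hu | hu <;> rcases hv with hv | hv <;> subst hu <;> subst hv
    · rfl
    · exact hg.eq.symm
    · exact hg.eq
    · rfl)
  have hHp : IsPGroup p ↥H := by
    intro u
    refine ⟨k, Subtype.ext ?_⟩
    have : ∀ v ∈ H, v ^ p ^ k = 1 := fun v hv => by
      induction hv using Subgroup.closure_induction with
      | mem v hv => rcases hv with hv | hv <;> subst hv <;> assumption
      | one => exact one_pow _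
      | mul a b ha hb iha ihb =>
        rw [(show Commute a b from
          congrArg Subtype.val (mul_comm' (⟨a, ha⟩ : H) ⟨b, hb⟩)).mul_pow, iha, ihb, one_mul]
      | inv a ha iha => rw [inv_pow, iha, inv_one]
    simpa using this u u.2
  obtain ⟨c, -, hc⟩ := ConjFunctor.exists_conj_le_of_isSylIn (ConjFunctor.isSylIn_top S)
    (le_top : H ≤ ⊤) hHp
  have h1 : c * x * c⁻¹ ∈ (S : Subgroup G) := hc ⟨x, Subgroup.subset_closure (by simp), rfl⟩
  have h2 : c * (g * x * g⁻¹) * c⁻¹ ∈ (S : Subgroup G) :=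
    hc ⟨_, Subgroup.subset_closure (by simp), rfl⟩
  have e1 : c * x * c⁻¹ = x := by simpa using hU c⁻¹ (by rw [inv_inv]; exact h1)
  have e2 : c * (g * x * g⁻¹) * c⁻¹ = x := by
    have := hU (c * g)⁻¹ (by rw [inv_inv, show c * g * x * (c * g)⁻¹ = c * (g * x * g⁻¹) * c⁻¹ by group]; exact h2)
    simpa [mul_assoc] using this
  exact mul_left_cancel (mul_right_cancel (e2.trans e1.symm))

end Cfsg.Agent.S3064
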