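import Cfsg.Statements.S3067
import Cfsg.Agent.Lib.LocalEvenB.CoprimeInvol

set_option autoImplicit false
open Cfsg

namespace Cfsg.Agent.S3067

open Cfsg.Agent.LocalEvenB

/-- Let G be a finite non-abelian simple group, τ an involution of G, and α a nontrivial automorphism of G whose order is coprime to the order of G. Then α moves some element of the centralizer of τ: α does not fix C_G(τ) elementwise. -/
theorem result {G : Type*} [Group G] [Finite G] [IsSimpleGroup G]
    (hG : ¬ IsMulCommutative G) (τ : G) (hτ : orderOf τ = 2) (α : MulAut G) (hα : α ≠ 1)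
    (hcop : (orderOf α).Coprime (Nat.card G)) :
    ∃ c ∈ Subgroup.centralizer ({τ} : Set G), α c ≠ c := by
      by_contra hcon
      push_neg at hcon
      obtain ⟨n, hn⟩ : ∃ n, n = orderOf α := ⟨_, rfl⟩
      have hn1 : n ≠ 1 := fun h => hα (orderOf_eq_one_iff.mp (hn ▸ h))
      haveI : Finite (MulAut G) := Finite.of_injective _ DFunLike.coe_injective
      obtain ⟨r, hr, m, hm⟩ := Nat.exists_prime_and_dvd hn1
      have hnpos : 0 < n := hn ▸ orderOf_pos α
      have hmn : m < n := by
        have := hr.two_le
        rcases Nat.eq_zero_or_pos m with h | h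
        · rw [h, mul_zero] at hm; omega
        · nlinarith
      have hβ1 : α ^ m ≠ 1 := pow_ne_one_of_lt_orderOf (by
        intro h; rw [h, mul_zero] at hm; omega) (hn ▸ hmn)
      have hcop' : ¬ r ∣ Nat.card G := fun h =>
        hr.not_dvd_one ((Nat.dvd_gcd (by rw [← hn, hm]; exact dvd_mul_right r m) h).trans hcop.dvd)
      refine CoprimeInvol.main (r := r) (β := α ^ m) hG hr ?_ hβ1 hcop' hτ fun c hc => ?_
      · rw [← pow_mul, mul_comm, ← hm, hn, pow_orderOf_eq_one]
      · show (α ^ m) c = c
        clear hm hmn hβ1
        induction m with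
        | zero => rfl
        | succ k ih => rw [pow_succ', MulAut.mul_apply, ih, hcon c hc]

end Cfsg.Agent.S3067
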