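import Cfsg.Statements.S3071
import Cfsg.Agent.Lib.Transfer.ZJRelStable
import Cfsg.Agent.Lib.Transfer.ZJFusion

set_option autoImplicit false
open Cfsg

namespace Cfsg.Agent.S3071

open Subgroup
open Cfsg.Agent.ConjFunctor (cj IsSylIn IsFN nS)

universe v

/-- No section isomorphic to `SL(2, p)` inside `N(V)`. -/
def FreeAt (p : ℕ) {G : Type v} [Group G] (V : Subgroup G) : Prop :=
  ¬ ∃ (H K : Subgroup G) (_ : (K.subgroupOf H).Normal), H ≤ normalizer (V : Set G) ∧
    Nonempty ((H ⧸ K.subgroupOf H) ≃* Matrix.SpecialLinearGroup (Fin 2) (ZMod p))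

theorem freeAt_conj {p : ℕ} {G : Type v} [Group G] (V : Subgroup G) (a : G)
    (h : FreeAt p V) : FreeAt p (cj a V) := by
  rintro ⟨H, K, hK, hH, ⟨f⟩⟩
  haveI := hK
  let c : H.map (MulAut.conj a⁻¹).toMonoidHom ≃* H :=
    (H.equivMapOfInjective (MulAut.conj a⁻¹).toMonoidHom (MulAut.conj a⁻¹).injective).symm
  obtain ⟨R, hR, hRe⟩ := ConjFunctor.exists_section_iso (H.map (MulAut.conj a⁻¹).toMonoidHom)
    ((QuotientGroup.mk' (K.subgroupOf H)).comp c.toMonoidHom)
    ((QuotientGroup.mk'_surjective _).comp c.surjective)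
  refine h ⟨_, R, hR, ?_, hRe.map fun e => e.trans f⟩
  have h1 : cj a⁻¹ H ≤ cj a⁻¹ (normalizer ((cj a V : Subgroup G) : Set G)) :=
    ConjFunctor.cj_le_cj.mpr hH
  rw [ConjFunctor.cj_normalizer, ConjFunctor.cj_inv_cj] at h1
  exact h1

/-- A local subgroup without `SL(2, p)` sections is good. -/
theorem good_of_free {p : ℕ} [Fact p.Prime] {G : Type v} [Group G] [Finite G] (hp : p ≠ 2)
    (V : Subgroup G) (h : FreeAt p V) : Transfer.GoodZJ p 0 (normalizer (V : Set G)) := by
  have hfree : ¬ ∃ (K L : Subgroup (normalizer (V : Set G))) (_ : (L.subgroupOf K).Normal),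
      Nonempty ((K ⧸ L.subgroupOf K) ≃* Matrix.SpecialLinearGroup (Fin 2) (ZMod p)) := by
    rintro ⟨K, L, hL, ⟨f⟩⟩
    haveI := hL
    let c : K.map (normalizer (V : Set G)).subtype ≃* K :=
      (K.equivMapOfInjective _ (normalizer (V : Set G)).subtype_injective).symm
    obtain ⟨R, hR, hRe⟩ := ConjFunctor.exists_section_iso (K.map (normalizer (V : Set G)).subtype)
      ((QuotientGroup.mk' (L.subgroupOf K)).comp c.toMonoidHom)
      ((QuotientGroup.mk'_surjective _).comp c.surjective)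
    exact h ⟨_, R, hR, map_subtype_le _, hRe.map fun e => e.trans f⟩
  exact (ConjFunctor.section_induction (G := (normalizer (V : Set G)))
      (fun X _ => ∀ [Finite X], Transfer.GoodZJ p 0 X)
      (fun X Y _ _ _ f h _ => Transfer.goodZJ_congr f (@h inferInstance))
      (fun K R _ hsub hquot => fun [Finite _] => Transfer.goodZJ_step hp (Or.inl rfl)
        (Transfer.sections_stable_of_sl2_free hp hfree K R)
        (fun M hM => hsub M hM) (fun N _ hN => hquot N hN))).2

/-- Strong fusion under the hypothesis. -/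
theorem rreal_free {p : ℕ} [Fact p.Prime] {G : Type v} [Group G] [Finite G] (hp : p ≠ 2)
    (S : Sylow p G)
    (hfree : ∀ V : Subgroup G, (S : Subgroup G) ⊓ centralizer ((S : Subgroup G) : Set G) ≤ V →
      V ≤ (S : Subgroup G) → FreeAt p V) :
    ∀ (T : Subgroup G) (g : G), T ≤ (S : Subgroup G) → cj g T ≤ (S : Subgroup G) →
      Transfer.RReal (Transfer.ZJAb 0 (S : Subgroup G)) T g := by
  have hcl : Transfer.Closed (S : Subgroup G) (S : Subgroup G) := ⟨le_rfl, fun _ _ _ h => h⟩
  refine Transfer.rreal_driver S hcl.normalizer_le_ZJAb fun U hfn hUS hUne hU0 n hn hbig => ?_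
  set Z0 := (S : Subgroup G) ⊓ centralizer ((S : Subgroup G) : Set G) with hZ0
  have hZN : ∀ V : Subgroup G, V ≤ (S : Subgroup G) → Z0 ≤ centralizer (V : Set G) :=
    fun V hV => inf_le_right.trans (centralizer_le hV)
  by_cases hcen : nS (S : Subgroup G) U ⊓ centralizer (U : Set G) ≤ U
  · have hZU : Z0 ≤ U := fun z hz => hcen ⟨⟨hz.1, mem_normalizer_iff.mpr fun v => by
      constructor
      · intro hv
        rwa [← hZN U hUS hz v hv, mul_inv_cancel_right]
      · intro hv
        have h1 : (z * v * z⁻¹) * z = z * (z * v * z⁻¹) := hZN U hUS hz _ hv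
        rw [inv_mul_cancel_right, mul_left_cancel_iff] at h1
        rwa [← h1] at hv⟩, hZN U hUS hz⟩
    have hS0 : (S : Subgroup G) ≠ ⊥ := fun h => hU0 (le_bot_iff.mp (h ▸ hUS))
    refine Transfer.rreal_chain' (Or.inl rfl) S hcl hS0 (FreeAt p)
      (fun V _ _ hV => good_of_free hp V hV) (fun V a hV => freeAt_conj V a hV)
      (fun V hVS _ => hfree _ ?_ ((Transfer.ZJAb_le _).trans inf_le_left)) (N0 := Nat.card U) hbig _
      U U n hUS hU0 (hfree U hZU hUS) rfl ?_ (ConjFunctor.le_nS hUS) hn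
      ((ConjFunctor.cj_eq_iff.mpr hn).le.trans hUS)
    · intro z hz
      have hzT : z ∈ nS (S : Subgroup G) V := ⟨hz.1, mem_normalizer_iff.mpr fun v => by
        constructor
        · intro hv
          rwa [← hZN V hVS hz v hv, mul_inv_cancel_right]
        · intro hv
          have h1 : (z * v * z⁻¹) * z = z * (z * v * z⁻¹) := hZN V hVS hz _ hv
          rw [inv_mul_cancel_right, mul_left_cancel_iff] at h1
          rwa [← h1] at hv⟩
      obtain ⟨A, hA⟩ := Transfer.exists_isMaxAbIn (e := 0)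
        ((S : Subgroup G) ⊓ nS (S : Subgroup G) V)
      refine ⟨Transfer.le_JAb hA (Transfer.mem_of_commute_maxAb hA ⟨hz.1, hzT⟩ (pow_zero z)
        fun b hb => (hz.2 b (hA.1 hb).1)), ?_⟩
      intro y hy
      exact hz.2 y (Transfer.JAb_le _ hy).1
    · exact lt_of_le_of_ne (card_le_of_le (ConjFunctor.le_nS hUS)) fun e' =>
        (ConjFunctor.lt_nS S.2 hUS hUne).ne (eq_of_le_of_card_ge (ConjFunctor.le_nS hUS) e'.ge)
  -- the map extends
  · set N := normalizer (U : Set G) with hN
    set C := centralizer (U : Set G) ⊓ N with hC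
    have hCN : N ≤ normalizer (C : Set G) :=
      (le_inf (Transfer.normalizer_le_normalizer_centralizer' U) le_normalizer).trans
        inf_normalizer_le_normalizer_inf
    set R := nS (S : Subgroup G) U ⊓ C with hR
    have hRU : ¬ R ≤ U := fun h => hcen fun x hx => h ⟨hx.1, hx.2, hx.1.2⟩
    have hs := Transfer.isSylIn_inf_of_le (hfn.sylIn S.2) inf_le_right hCN
    have hs' := ConjFunctor.isSylIn_map hs n
    rw [show cj n C = C from ConjFunctor.cj_eq_iff.mpr (hCN hn)] at hs'
    obtain ⟨d, hd, hde⟩ := ConjFunctor.isSylIn_conj hs hs'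
    rw [← ConjFunctor.cj_mul] at hde
    have hlt : U < U ⊔ R := left_lt_sup.mpr hRU
    have hdn : d * n ∈ N := mul_mem hd.2 hn
    obtain ⟨h₀, hh₀, r₀⟩ := hbig (U ⊔ R) (d * n)
      (lt_of_le_of_ne (card_le_of_le hlt.le) fun e => hlt.ne (eq_of_le_of_card_ge hlt.le e.ge))
      (sup_le hUS (inf_le_left.trans inf_le_left))
      (by
        rw [ConjFunctor.cj, Subgroup.map_sup]
        exact sup_le ((ConjFunctor.cj_eq_iff.mpr hdn).le.trans hUS)
          (hde.le.trans (inf_le_left.trans inf_le_left)))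
    refine ⟨h₀, hh₀, fun u hu => ?_⟩
    rw [r₀ u (mem_sup_left hu)]
    have hn2 : n * u * n⁻¹ ∈ U := (mem_normalizer_iff.mp hn u).mp hu
    calc d * n * u * (d * n)⁻¹ = d * (n * u * n⁻¹) * d⁻¹ := by group
      _ = n * u * n⁻¹ := by rw [← hd.1 _ hn2, mul_inv_cancel_right]


/-- Let p be an odd prime and S a Sylow p-subgroup of the finite group G such that, for every subgroup P with Z(S) ≤ P ≤ S, the normalizer N_G(P) has no section isomorphic to SL₂(p). Let J(S) be the subgroup generated by the abelian subgroups of S of largest order. Then two elements of S are conjugate in G if and only if they are conjugate in N_G(Z(J(S))). -/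
theorem result {G : Type*} [Group G] [Finite G] {p : ℕ} [Fact p.Prime]
    (hp : p ≠ 2) (S : Sylow p G)
    (hfree : ∀ P : Subgroup G, (S : Subgroup G) ⊓ Subgroup.centralizer ((S : Subgroup G) : Set G) ≤ P → P ≤ S →
      ¬ ∃ (H K : Subgroup G) (hK : (K.subgroupOf H).Normal), H ≤ Subgroup.normalizer (P : Set G) ∧
        Nonempty ((H ⧸ K.subgroupOf H) ≃* Matrix.SpecialLinearGroup (Fin 2) (ZMod p))) :
    ∀ x ∈ S, ∀ y ∈ S, (∃ g : G, g * x * g⁻¹ = y) ↔
      ∃ n ∈ Subgroup.normalizer (Cfsg.centerThompsonAOf (S : Subgroup G) : Set G), n * x * n⁻¹ = y := by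
  intro x hx y hy
  rw [← Transfer.ZJAb_zero]
  refine ⟨fun ⟨g, hg⟩ => ?_, fun ⟨n, _, hn⟩ => ⟨n, hn⟩⟩
  obtain ⟨n, hn, he⟩ := rreal_free hp S hfree (Subgroup.zpowers x) g (Subgroup.zpowers_le.mpr hx) (by
    rw [ConjFunctor.cj, MonoidHom.map_zpowers, Subgroup.zpowers_le]
    show g * x * g⁻¹ ∈ (S : Subgroup G)
    rw [hg]; exact hy)
  exact ⟨n, hn, (he x (Subgroup.mem_zpowers x)).trans hg⟩

end Cfsg.Agent.S3071
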