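import Cfsg.Statements.S3073
import Cfsg.Agent.Lib.ConjFunctor.KComplement
-- import your own Cfsg.Agent.* helpers here

set_option autoImplicit false
universe u
open Cfsg

namespace Cfsg.Agent.S3073

/-- For an odd prime p, every finite p-group S has a characteristic subgroup K with C_S(K) ≤ K such that, whenever S is (isomorphic to) a Sylow p-subgroup of a finite group G, G has a normal p-complement if and only if N_G(K)/C_G(K) is a p-group, i.e. every element of N_G(K) of order prime to p centralizes K (K transported into G along the isomorphism). -/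
theorem result (p : ℕ) [Fact p.Prime] (hp : p ≠ 2)
    (S : Type u) [Group S] [Finite S] (hS : IsPGroup p S) :
    ∃ K : Subgroup S, K.Characteristic ∧ Subgroup.centralizer (K : Set S) ≤ K ∧
      ∀ (G : Type u) [Group G] [Finite G] (P : Sylow p G) (e : ↥(P : Subgroup G) ≃* S),
        Cfsg.HasNormalPComplement p G ↔
          ∀ g ∈ Subgroup.normalizer (((K.comap (e : ↥(P : Subgroup G) →* S)).map (P : Subgroup G).subtype : Subgroup G) : Set G),
            (orderOf g).Coprime p →
              g ∈ Subgroup.centralizer (((K.comap (e : ↥(P : Subgroup G) →* S)).map (P : Subgroup G).subtype : Subgroup G) : Set G) := by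
  refine ⟨Cfsg.kInfLower S, Cfsg.Agent.ConjFunctor.kInfLower_characteristic hS,
    (Cfsg.Agent.ConjFunctor.centralizer_kInf_le hS).1, fun G _ _ P e => ?_⟩
  have hK : ((Cfsg.kInfLower S).comap (e : ↥(P : Subgroup G) →* S)).map (P : Subgroup G).subtype =
      Cfsg.inducedFunctor Cfsg.kInfLower (P : Subgroup G) := by
    rw [Cfsg.inducedFunctor, ← (Cfsg.Agent.ConjFunctor.isCharPFunctor_kInf.{u} p).1.2
      ↥(P : Subgroup G) S P.2 e]
    exact congrArg _ (Subgroup.comap_map_eq_self_of_injective e.injective _)
  rw [hK]
  exact Cfsg.Agent.ConjFunctor.hasNormalPComplement_iff_kInf hp P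

end Cfsg.Agent.S3073
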