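import Cfsg.Statements.S3074
import Cfsg.Agent.Lib.SL2Dickson.QdSylow
-- import your own Cfsg.Agent.* helpers here

set_option autoImplicit false
open Cfsg
open scoped commutatorElement

namespace Cfsg.Agent.S3074

/-- Let p be an odd prime. A Sylow p-subgroup of Qd(p), the split extension of an elementary abelian group of order p² by SL₂(p) acting naturally, is extraspecial of order p³ and exponent p. -/
theorem result (p : ℕ) [Fact p.Prime] (hp : p ≠ 2) (P : Sylow p ↥(Cfsg.qd p)) :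
    Cfsg.IsExtraspecial p ↥P ∧ Nat.card P = p ^ 3 ∧ Monoid.exponent ↥P = p := by
  obtain ⟨Q, hQ⟩ := Cfsg.Agent.SL2Dickson.exists_sylow_sylQd (p := p)
  let e : ↥(Cfsg.Agent.SL2Dickson.sylQd p) ≃* ↥(P : Subgroup ↥(Cfsg.qd p)) :=
    (MulEquiv.subgroupCongr hQ.symm).trans (Sylow.equiv Q P)
  obtain ⟨-, hcard, hexp⟩ := Cfsg.Agent.SL2Dickson.sylQd_extraspecial (p := p) hp
  have h := Cfsg.Agent.SL2Dickson.pre_sylQd (p := p) hp
  have hcP : Nat.card P = p ^ 3 := (Nat.card_congr e.toEquiv).symm.trans hcard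
  refine ⟨Cfsg.Agent.Invol.ExtraPairs.Pre.extraspecial
    (z := e (Cfsg.Agent.SL2Dickson.heis 1 0 0)) ⟨?_, ?_, fun a b => ?_, fun a => ?_⟩ ?_, hcP,
    (Monoid.exponent_eq_of_mulEquiv e).symm.trans hexp⟩
  · exact (e.orderOf_eq _).trans h.ordz
  · refine le_antisymm (fun g hg => ?_) (Subgroup.zpowers_le.mpr (Subgroup.mem_center_iff.mpr
      fun g => ?_))
    · have h1 : e.symm g ∈ Subgroup.center _ := Subgroup.mem_center_iff.mpr fun w => e.injective
        (by rw [map_mul, map_mul, e.apply_symm_apply]; exact Subgroup.mem_center_iff.mp hg (e w))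
      rw [h.center_eq] at h1
      have h2 := Subgroup.mem_map_of_mem e.toMonoidHom h1
      rw [MonoidHom.map_zpowers] at h2
      rw [← e.apply_symm_apply g]
      exact h2
    · have h1 := h.zcomm (e.symm g)
      have h2 := h1.map e.toMonoidHom
      rw [MulEquiv.coe_toMonoidHom, e.apply_symm_apply] at h2
      exact h2.eq
  · obtain ⟨k, hk⟩ := h.comm_mem (e.symm a) (e.symm b)
    refine ⟨k, ?_⟩
    have hk' : e ((Cfsg.Agent.SL2Dickson.heis 1 0 0) ^ k) = e ⁅e.symm a, e.symm b⁆ := congrArg e hk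
    rw [map_zpow, map_commutatorElement, e.apply_symm_apply, e.apply_symm_apply] at hk'
    exact hk'
  · obtain ⟨k, hk⟩ := h.pow_mem (e.symm a)
    refine ⟨k, ?_⟩
    have hk' : e ((Cfsg.Agent.SL2Dickson.heis 1 0 0) ^ k) = e (e.symm a ^ p) := congrArg e hk
    rw [map_zpow, map_pow, e.apply_symm_apply] at hk'
    exact hk'
  · show Nat.card ↥(P : Subgroup ↥(Cfsg.qd p)) ≠ p
    rw [hcP]
    intro h3
    exact absurd (Nat.pow_right_injective (Fact.out : p.Prime).two_le
      (show p ^ 3 = p ^ 1 by rw [h3, pow_one])) (by norm_num)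

end Cfsg.Agent.S3074
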