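import Cfsg.Statements.S3075
import Cfsg.Agent.Lib.LocalEvenB.Basic

set_option autoImplicit false
open Cfsg

namespace Cfsg.Agent.S3075

open Cfsg.Agent.LocalEvenB
open Matrix in
theorem exists_negOne {F : Type*} [Field F] [Fintype F] {p : ℕ} [Fact p.Prime] (hp : p ≠ 2)
    (hF : Fintype.card F = p) :
    ∃ z : Matrix.SpecialLinearGroup (Fin 2) F,
      z * z = 1 ∧ z ≠ 1 ∧ ∀ g, g * z = z * g := by
  have h2 : (-1 : F) ≠ 1 := by
    intro h
    refine hp ?_
    haveI : CharP F p := charP_of_card_eq_prime hF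
    have h3 : ((2 : ℕ) : F) = 0 := by
      push_cast
      linear_combination -h
    exact ((Nat.prime_dvd_prime_iff_eq Fact.out Nat.prime_two).1 ((CharP.cast_eq_zero_iff F p 2).1 h3))
  refine ⟨-1, by simp, fun h => h2 ?_, fun g => by simp⟩
  have := congrArg (fun M : Matrix.SpecialLinearGroup (Fin 2) F => (M : Matrix (Fin 2) (Fin 2) F) 0 0) h
  simpa using this
theorem exists_noncomm (F : Type*) [Field F] :
    ∃ g₁ g₂ : Matrix.SpecialLinearGroup (Fin 2) F, g₁ * g₂ ≠ g₂ * g₁ := by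
  refine ⟨⟨!![1, 1; 0, 1], by simp [Matrix.det_fin_two]⟩,
    ⟨!![1, 0; 1, 1], by simp [Matrix.det_fin_two]⟩, fun h => ?_⟩
  have := congrArg Subtype.val h
  have h1 : (!![1, 1; 0, 1] : Matrix (Fin 2) (Fin 2) F) * (!![1, 0; 1, 1] : Matrix (Fin 2) (Fin 2) F)
      = (!![1, 0; 1, 1] : Matrix (Fin 2) (Fin 2) F) * (!![1, 1; 0, 1] : Matrix (Fin 2) (Fin 2) F) := this
  have h2 := congrFun (congrFun h1 0) 0
  simp [Matrix.mul_apply, Fin.sum_univ_two] at h2

/-- Let p be an odd prime and N a finite group with a normal elementary abelian subgroup A of order p² that is its own centralizer in N, such that N/A is isomorphic to SL₂(p) (over any field F with p elements). Then N splits over A: some subgroup U of N satisfies A ∩ U = 1 and AU = N. -/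
theorem result {N : Type*} [Group N] [Finite N] {p : ℕ} [Fact p.Prime] (hp : p ≠ 2)
    (A : Subgroup N) [A.Normal] (hAcomm : IsMulCommutative A) (hAcard : Nat.card A = p ^ 2) (hAexp : Monoid.exponent ↥A = p)
    (hAself : Subgroup.centralizer (A : Set N) = A)
    {F : Type*} [Field F] [Fintype F] (hF : Fintype.card F = p) (e : N ⧸ A ≃* Matrix.SpecialLinearGroup (Fin 2) F) :
    ∃ U : Subgroup N, A ⊓ U = ⊥ ∧ A ⊔ U = ⊤ := by
  obtain ⟨z, hz2, hz1, hzc⟩ := exists_negOne hp hF
  obtain ⟨n, hn⟩ := QuotientGroup.mk'_surjective A (e.symm z)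
  set f := QuotientGroup.mk' A
  -- replace `n` by its `p^2`-th power
  set t : N := n ^ (p ^ 2) with ht
  have hoddp : Odd (p ^ 2) := ((Fact.out : p.Prime).odd_of_ne_two hp).pow
  have hft : f t = e.symm z := by
    obtain ⟨k, hk⟩ := hoddp
    rw [ht, map_pow, hn, hk, pow_succ, pow_mul, ← map_pow, pow_two z, hz2, map_one, one_pow, one_mul]
  have ht2 : t * t = 1 := by
    have h1 : n * n ∈ A := by
      have h0 : f (n * n) = 1 := by rw [map_mul, hn, ← map_mul, hz2, map_one]
      exact (QuotientGroup.eq_one_iff _).1 h0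
    have h2 : (n * n) ^ (p ^ 2) = 1 := by
      have := pow_card_eq_one' (x := (⟨n * n, h1⟩ : ↥A))
      rw [hAcard] at this
      exact congrArg Subtype.val this
    rw [ht, ← (Commute.refl n).mul_pow, h2]
  have hti : t⁻¹ = t := inv_eq_of_mul_eq_one_right ht2
  have htA : t ∉ A := by
    intro h
    have h1 : f t = 1 := (QuotientGroup.eq_one_iff t).2 h
    rw [hft] at h1
    exact hz1 (by simpa using congrArg e h1)
  have hcomm : ∀ a ∈ A, ∀ b ∈ A, a * b = b * a := fun a ha b hb =>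
    congrArg Subtype.val (mul_comm' (⟨a, ha⟩ : ↥A) ⟨b, hb⟩)
  -- no nontrivial element of `A` is fixed by `t`
  have hcong : ∀ g : N, ∃ c ∈ A, g⁻¹ * t * g = t * c := by
    intro g
    refine ⟨t⁻¹ * (g⁻¹ * t * g), ?_, by group⟩
    refine (QuotientGroup.eq_one_iff _).1 ?_
    have : (f t)⁻¹ * ((f g)⁻¹ * f t * f g) = 1 := by
      rw [hft]
      apply e.injective
      simp only [map_mul, map_inv, MulEquiv.apply_symm_apply, map_one]
      rw [mul_assoc (e (f g))⁻¹, ← hzc, inv_mul_cancel_left, inv_mul_cancel]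
    simpa [f] using this
  have hD : ∀ b ∈ A, t * b * t⁻¹ = b → ∀ g : N, t * (g * b * g⁻¹) * t⁻¹ = g * b * g⁻¹ := by
    intro b hb htb g
    obtain ⟨c, hc, hce⟩ := hcong g
    have h1 : c * b * c⁻¹ = b := by rw [hcomm c hc b hb, mul_inv_cancel_right]
    calc t * (g * b * g⁻¹) * t⁻¹ = g * ((g⁻¹ * t * g) * b * (g⁻¹ * t * g)⁻¹) * g⁻¹ := by group
      _ = g * (t * (c * b * c⁻¹) * t⁻¹) * g⁻¹ := by rw [hce]; group
      _ = g * b * g⁻¹ := by rw [h1, htb]
  have hE : ∀ b ∈ A, t * b * t⁻¹ = b⁻¹ → ∀ g : N, t * (g * b * g⁻¹) * t⁻¹ = (g * b * g⁻¹)⁻¹ := by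
    intro b hb htb g
    obtain ⟨c, hc, hce⟩ := hcong g
    have h1 : c * b * c⁻¹ = b := by rw [hcomm c hc b hb, mul_inv_cancel_right]
    calc t * (g * b * g⁻¹) * t⁻¹ = g * ((g⁻¹ * t * g) * b * (g⁻¹ * t * g)⁻¹) * g⁻¹ := by group
      _ = g * (t * (c * b * c⁻¹) * t⁻¹) * g⁻¹ := by rw [hce]; group
      _ = (g * b * g⁻¹)⁻¹ := by rw [h1, htb]; group
  have hfix : ∀ a ∈ A, t * a * t⁻¹ = a → a = 1 := by
    by_contra hcon
    push Not at hcon
    obtain ⟨a, ha, hta, ha1⟩ := hcon
    -- `t` does not centralize `A`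
    obtain ⟨d, hd, hdne⟩ : ∃ d ∈ A, t * d * t⁻¹ ≠ d := by
      by_contra hcon
      push Not at hcon
      refine htA ?_
      rw [← hAself]
      exact Subgroup.mem_centralizer_iff.2 fun b hb => (mul_inv_eq_iff_eq_mul.1 (hcon b hb)).symm
    set b : N := d * (t * d * t⁻¹)⁻¹ with hb_def
    have htd : t * d * t⁻¹ ∈ A := Subgroup.Normal.conj_mem inferInstance d hd t
    have hb : b ∈ A := A.mul_mem hd (A.inv_mem htd)
    have hb1 : b ≠ 1 := fun h => hdne (mul_inv_eq_one.1 h).symm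
    have htb : t * b * t⁻¹ = b⁻¹ := by
      calc t * b * t⁻¹ = (t * d * t⁻¹) * ((t * t) * d * (t * t)⁻¹)⁻¹ := by rw [hb_def]; group
        _ = (t * d * t⁻¹) * d⁻¹ := by rw [ht2, one_mul, inv_one, mul_one]
        _ = b⁻¹ := by rw [hb_def]; group
    -- a subgroup of `A` meeting a nontrivial cyclic one trivially is small
    have hzp : ∀ u ∈ A, u ≠ 1 → Nat.card ↥(Subgroup.zpowers u) = p := by
      intro u hu hu1
      rw [Nat.card_zpowers]
      refine orderOf_eq_prime ?_ hu1
      have h := Monoid.pow_exponent_eq_one (⟨u, hu⟩ : ↥A)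
      rw [hAexp] at h
      exact congrArg Subtype.val h
    let D : Subgroup N := Subgroup.closure {u | u ∈ A ∧ t * u * t⁻¹ = u}
    let E : Subgroup N := Subgroup.closure {u | u ∈ A ∧ t * u * t⁻¹ = u⁻¹}
    have hDfix : ∀ u ∈ D, u ∈ A ∧ t * u * t⁻¹ = u := by
      intro u hu
      induction hu using Subgroup.closure_induction with
      | mem u hu => exact hu
      | one => exact ⟨A.one_mem, by simp⟩
      | mul u v _ _ hu hv =>
        exact ⟨A.mul_mem hu.1 hv.1, by rw [← conj_mul, hu.2, hv.2]⟩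
      | inv u _ hu => exact ⟨A.inv_mem hu.1, by rw [← conj_inv, hu.2]⟩
    have hEinv : ∀ u ∈ E, u ∈ A ∧ t * u * t⁻¹ = u⁻¹ := by
      intro u hu
      induction hu using Subgroup.closure_induction with
      | mem u hu => exact hu
      | one => exact ⟨A.one_mem, by simp⟩
      | mul u v _ _ hu hv =>
        refine ⟨A.mul_mem hu.1 hv.1, ?_⟩
        rw [← conj_mul, hu.2, hv.2, mul_inv_rev, hcomm _ (A.inv_mem hu.1) _ (A.inv_mem hv.1)]
      | inv u _ hu => exact ⟨A.inv_mem hu.1, by rw [← conj_inv, hu.2]⟩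
    have hdisj : ∀ u, u ∈ D → u ∈ E → u = 1 := by
      intro u huD huE
      have h1 : u = u⁻¹ := (hDfix u huD).2.symm.trans (hEinv u huE).2
      have h2 : u ^ 2 = 1 := by
        rw [pow_two]
        nth_rewrite 1 [h1]
        exact inv_mul_cancel u
      have h3 : u ^ p = 1 := by
        have h := Monoid.pow_exponent_eq_one (⟨u, (hDfix u huD).1⟩ : ↥A)
        rw [hAexp] at h
        exact congrArg Subtype.val h
      have h4 := pow_gcd_eq_one.2 ⟨h2, h3⟩
      rwa [show Nat.gcd 2 p = 1 from (Nat.coprime_primes Nat.prime_two Fact.out).2 (Ne.symm hp), pow_one] at h4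
    have haD : Subgroup.zpowers a ≤ D := Subgroup.zpowers_le.2 (Subgroup.subset_closure ⟨ha, hta⟩)
    have hbE : Subgroup.zpowers b ≤ E := Subgroup.zpowers_le.2 (Subgroup.subset_closure ⟨hb, htb⟩)
    have hDA : D ≤ A := fun u hu => (hDfix u hu).1
    have hEA : E ≤ A := fun u hu => (hEinv u hu).1
    -- both are cyclic of order `p`
    have hcard : ∀ X : Subgroup N, X ≤ A → ∀ u ∈ X, u ≠ 1 → X ≠ A → X = Subgroup.zpowers u := by
      intro X hXA u hu hu1 hne
      refine (Subgroup.eq_of_le_of_card_ge (Subgroup.zpowers_le.2 hu) ?_).symm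
      rw [hzp u (hXA hu) hu1]
      obtain ⟨i, hi2, hi⟩ := (Nat.dvd_prime_pow Fact.out).1 (hAcard ▸ Subgroup.card_dvd_of_le hXA)
      interval_cases i
      · rw [hi, pow_zero]; exact (Fact.out : p.Prime).one_le
      · rw [hi, pow_one]
      · exact absurd (Subgroup.eq_of_le_of_card_ge hXA (by rw [hi, hAcard])) hne
    have hDz : D = Subgroup.zpowers a := hcard D hDA a (haD (Subgroup.mem_zpowers a)) ha1
      fun h => hb1 (hdisj b (h ▸ hb) (hbE (Subgroup.mem_zpowers b)))
    have hEz : E = Subgroup.zpowers b := hcard E hEA b (hbE (Subgroup.mem_zpowers b)) hb1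
      fun h => ha1 (hdisj a (haD (Subgroup.mem_zpowers a)) (h ▸ ha))
    have htop : D ⊔ E = A := by
      refine Subgroup.eq_of_le_of_card_ge (sup_le hDA hEA) ?_
      obtain ⟨i, hi2, hi⟩ := (Nat.dvd_prime_pow Fact.out).1 (hAcard ▸ Subgroup.card_dvd_of_le (sup_le hDA hEA))
      interval_cases i
      · exact absurd (Subgroup.eq_bot_of_card_eq (D ⊔ E) (by rw [hi, pow_zero])) fun h => ha1 (by
          have : a ∈ D ⊔ E := le_sup_left (α := Subgroup N) (haD (Subgroup.mem_zpowers a))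
          rwa [h] at this)
      · exfalso
        have h5 : Subgroup.zpowers b ≤ D := by
          have h6 : D ⊔ E = D := (Subgroup.eq_of_le_of_card_ge le_sup_left (by rw [hi, hDz, hzp a ha ha1, pow_one])).symm
          exact hbE.trans (le_sup_right.trans h6.le)
        exact hb1 (hdisj b (h5 (Subgroup.mem_zpowers b)) (hbE (Subgroup.mem_zpowers b)))
      · rw [hi, hAcard]
    -- `N/A` would be abelian
    have habel : ∀ u v : N, u * v * u⁻¹ * v⁻¹ ∈ A := by
      intro u v
      have key : ∀ x : N, (∀ g : N, g * x * g⁻¹ ∈ Subgroup.zpowers x) → Commute (u * v * u⁻¹ * v⁻¹) x := by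
        intro x hx
        obtain ⟨i, hi⟩ := hx u
        obtain ⟨j, hj⟩ := hx v
        simp only at hi hj
        have e1 : u * v * x * (u * v)⁻¹ = v * u * x * (v * u)⁻¹ := by
          calc u * v * x * (u * v)⁻¹ = u * (v * x * v⁻¹) * u⁻¹ := by group
            _ = (u * x * u⁻¹) ^ j := by rw [← hj, conj_zpow]
            _ = (v * x * v⁻¹) ^ i := by rw [← hi, ← hj, ← zpow_mul, ← zpow_mul, mul_comm]
            _ = v * (u * x * u⁻¹) * v⁻¹ := by rw [← hi, conj_zpow]
            _ = v * u * x * (v * u)⁻¹ := by group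
        obtain ⟨k, hk⟩ := hx (v * u)⁻¹
        simp only [inv_inv] at hk
        have h10 : u * v * ((v * u)⁻¹ * x * (v * u)) * (u * v)⁻¹ = x := by
          rw [← hk, ← conj_zpow, e1, conj_zpow, hk]
          group
        show u * v * u⁻¹ * v⁻¹ * x = x * (u * v * u⁻¹ * v⁻¹)
        calc u * v * u⁻¹ * v⁻¹ * x
            = (u * v * ((v * u)⁻¹ * x * (v * u)) * (u * v)⁻¹) * (u * v * u⁻¹ * v⁻¹) := by group
          _ = x * (u * v * u⁻¹ * v⁻¹) := by rw [h10]
      rw [← hAself]
      refine Subgroup.mem_centralizer_iff.2 fun x hx => ?_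
      have hx' : x ∈ D ⊔ E := htop.ge hx
      have h7 : D ⊔ E ≤ Subgroup.centralizer ({u * v * u⁻¹ * v⁻¹} : Set N) := by
        refine sup_le ?_ ?_
        · rw [hDz, Subgroup.zpowers_le, Subgroup.mem_centralizer_singleton_iff]
          refine (key a fun g => ?_).symm
          rw [← hDz]
          exact Subgroup.subset_closure ⟨Subgroup.Normal.conj_mem inferInstance a ha g, hD a ha hta g⟩
        · rw [hEz, Subgroup.zpowers_le, Subgroup.mem_centralizer_singleton_iff]
          refine (key b fun g => ?_).symm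
          rw [← hEz]
          exact Subgroup.subset_closure ⟨Subgroup.Normal.conj_mem inferInstance b hb g, hE b hb htb g⟩
      exact Subgroup.mem_centralizer_singleton_iff.1 (h7 hx')
    obtain ⟨g₁, g₂, hne⟩ := exists_noncomm F
    obtain ⟨u, hu⟩ := QuotientGroup.mk'_surjective A (e.symm g₁)
    obtain ⟨v, hv⟩ := QuotientGroup.mk'_surjective A (e.symm g₂)
    have h8 : f (u * v * u⁻¹ * v⁻¹) = 1 := (QuotientGroup.eq_one_iff _).2 (habel u v)
    rw [map_mul, map_mul, map_mul, map_inv, map_inv] at h8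
    rw [hu, hv, ← map_inv, ← map_inv, ← map_mul, ← map_mul, ← map_mul] at h8
    refine hne (mul_inv_eq_one.1 ?_)
    have h9 := congrArg e h8
    rw [MulEquiv.apply_symm_apply, map_one] at h9
    rw [mul_inv_rev, ← mul_assoc]
    exact h9
  -- the complement is the centralizer of `t`
  refine ⟨Subgroup.centralizer ({t} : Set N), ?_, eq_top_iff.2 fun g _ => ?_⟩
  · refine (Subgroup.eq_bot_iff_forall _).2 fun a ha => hfix a ha.1 ?_
    rw [← Subgroup.mem_centralizer_singleton_iff.1 ha.2, mul_inv_cancel_right]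
  obtain ⟨c, hc, hce⟩ := hcong g
  -- `t` inverts `c`, so `t c` is conjugate to `t` under `A`
  have htc : t * c * t⁻¹ = c⁻¹ := by
    have h1 : (t * c) * (t * c) = 1 := by
      rw [← hce, show (g⁻¹ * t * g) * (g⁻¹ * t * g) = g⁻¹ * (t * t) * g by group, ht2]; group
    refine eq_inv_of_mul_eq_one_left ?_
    rw [hti]
    calc t * c * t * c = (t * c) * (t * c) := by group
      _ = 1 := h1
  obtain ⟨r, hr⟩ : ∃ r : ℕ, (c ^ r) ^ 2 = c := by
    obtain ⟨k, hk⟩ := hoddp
    refine ⟨k + 1, ?_⟩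
    have h := congrArg Subtype.val (pow_card_eq_one' (x := (⟨c, hc⟩ : ↥A)))
    rw [hAcard, hk] at h
    rw [← pow_mul, show (k + 1) * 2 = 2 * k + 1 + 1 by ring, pow_succ]
    simp only [SubmonoidClass.coe_pow, OneMemClass.coe_one] at h
    rw [h, one_mul]
  set d := c ^ r with hd
  have hdA : d ∈ A := A.pow_mem hc r
  have htd : t * d * t⁻¹ = d⁻¹ := by rw [hd, ← conj_pow, htc, inv_pow]
  have hdt : d * t = t * d⁻¹ := by
    have h := congrArg (fun u => t⁻¹ * u * t) htd
    have h2 : d = t⁻¹ * d⁻¹ * t := by simpa [mul_assoc] using h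
    rw [hti] at h2
    nth_rewrite 1 [h2]
    rw [mul_assoc (t * d⁻¹), ht2, mul_one]
  have hconj : g⁻¹ * t * g = d⁻¹ * t * d := by
    rw [hce, ← hr, pow_two, ← mul_assoc, show t * d = d⁻¹ * t by rw [← htd]; group]
  have hgd : g * d⁻¹ ∈ Subgroup.centralizer ({t} : Set N) := by
    refine Subgroup.mem_centralizer_singleton_iff.2 ?_
    calc g * d⁻¹ * t = g * (d⁻¹ * t * d) * d⁻¹ := by group
      _ = t * (g * d⁻¹) := by rw [← hconj]; group
  rw [show g = (g * d⁻¹) * d by group]
  exact Subgroup.mul_mem _ (le_sup_right (α := Subgroup N) hgd) (le_sup_left (α := Subgroup N) hdA)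

end Cfsg.Agent.S3075
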