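import Cfsg.Statements.S3076
import Cfsg.Agent.Lib.Basics.Cores
-- import your own Cfsg.Agent.* helpers here

set_option autoImplicit false
open Cfsg

namespace Cfsg.Agent.S3076

open Subgroup in
theorem relIndex_dvd_index' {K : Type*} [Group K] [Finite K] (S C : Subgroup K) [C.Normal] :
    S.relIndex C ∣ S.index := by
  have h1 := relIndex_mul_relIndex (S ⊓ C) S (S ⊔ C) inf_le_left le_sup_left
  have h2 := relIndex_mul_relIndex (S ⊓ C) C (S ⊔ C) inf_le_right le_sup_right
  rw [inf_relIndex_left] at h1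
  rw [inf_relIndex_right, relIndex_sup_right] at h2
  rw [← h2, mul_comm (S.relIndex C)] at h1
  have h3 : S.relIndex (S ⊔ C) = S.relIndex C :=
    Nat.eq_of_mul_eq_mul_left (Nat.pos_of_ne_zero Subgroup.FiniteIndex.index_ne_zero) h1
  rw [← h3]
  exact ⟨(S ⊔ C).index, (relIndex_mul_index le_sup_left).symm⟩

open Subgroup in
theorem core {K : Type*} [Group K] [Finite K] {p : ℕ} [Fact p.Prime] (H C S : Subgroup K) [H.Normal] [C.Normal]
    (hHC : C = centralizer (H : Set K)) (hHS : H ≤ S) (hS : IsPGroup p S) (hSi : ¬ p ∣ S.index) :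
    (H ≤ (Cfsg.pCore p (K ⧸ C)).comap (QuotientGroup.mk' C) ∧
        ¬ p ∣ H.relIndex ((Cfsg.pCore p (K ⧸ C)).comap (QuotientGroup.mk' C))) ↔
      (S ⊓ C ≤ H ∧ Cfsg.pPrimePCore p K = H ⊔ C) := by
  have hp : p.Prime := Fact.out
  haveI hCn : C.Normal := inferInstance
  set N := (Cfsg.pCore p (K ⧸ C)).comap (QuotientGroup.mk' C) with hN
  have hHp : IsPGroup p H := hS.to_le hHS
  -- p-power relative indices
  have hcore : ∀ (M : Subgroup K) [M.Normal], ∃ e, M.relIndex ((Cfsg.pCore p (K ⧸ M)).comap (QuotientGroup.mk' M)) = p ^ e := by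
    intro M _
    have h := relIndex_ker (K := (Cfsg.pCore p (K ⧸ M)).comap (QuotientGroup.mk' M)) (QuotientGroup.mk' M)
    rw [QuotientGroup.ker_mk', map_comap_eq_self_of_surjective (QuotientGroup.mk'_surjective M)] at h
    rw [h]
    exact IsPGroup.iff_card.1 (Cfsg.Agent.Basics.pCore_isPGroup p)
  have hcoreLe : ∀ (M X : Subgroup K) [M.Normal] [X.Normal], (∃ e, M.relIndex X = p ^ e) →
      X ≤ (Cfsg.pCore p (K ⧸ M)).comap (QuotientGroup.mk' M) := by
    intro M X _ _ he
    haveI : (X.map (QuotientGroup.mk' M)).Normal :=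
      Normal.map inferInstance _ (QuotientGroup.mk'_surjective M)
    rw [← map_le_iff_le_comap]
    refine Cfsg.Agent.Basics.le_pCore (IsPGroup.iff_card.2 ?_)
    rwa [← relIndex_ker, QuotientGroup.ker_mk']
  have hCN : C ≤ N := by
    conv_lhs => rw [← QuotientGroup.ker_mk' C]
    exact MonoidHom.ker_le_comap _ _
  obtain ⟨eN, hCNi⟩ := hcore C
  rw [← hN] at hCNi
  set D := Cfsg.pPrimeCore p K with hD
  have hDC : D ≤ C := by
    intro d hd
    rw [hHC, mem_centralizer_iff]
    intro h hh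
    refine (commute_of_normal_of_disjoint _ _ inferInstance inferInstance ?_ h d hh hd).eq
    rw [disjoint_iff, eq_bot_iff]
    intro x hx
    rw [mem_bot]
    obtain ⟨k, hk⟩ := IsPGroup.iff_orderOf.1 hHp ⟨x, hx.1⟩
    rw [Subgroup.orderOf_mk] at hk
    exact orderOf_eq_one_iff.1 (Nat.eq_one_of_dvd_coprimes
      ((Cfsg.Agent.Basics.pPrimeCore_coprime (G := K) p).pow_right k)
      (Subgroup.orderOf_dvd_natCard D hx.2) (dvd_of_eq hk))
  -- Burnside
  have burn : S ⊓ C ≤ H → ∃ e, D.relIndex C = p ^ e := by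
    intro hle
    let Z : Subgroup C := S.subgroupOf C
    have hZp : IsPGroup p Z := hS.comap_subtype
    have hZi : ¬ p ∣ Z.index := by
      intro hd
      refine hSi (hd.trans ?_)
      exact relIndex_dvd_index' S C
    let P : Sylow p C := hZp.toSylow hZi
    have hP : ∀ z : C, z ∈ (P : Subgroup C) → ∀ c : C, z * c = c * z := by
      intro z hz c
      have hzH : (z : K) ∈ H := hle ⟨hz, z.2⟩
      have hc : (c : K) ∈ centralizer (H : Set K) := hHC ▸ c.2
      exact Subtype.ext (mem_centralizer_iff.1 hc z hzH)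
    have hnc : normalizer ((P : Subgroup C) : Set C) ≤ centralizer ((P : Subgroup C) : Set C) :=
      fun g _ => mem_centralizer_iff.2 fun z hz => hP z hz g
    have hcompl := MonoidHom.ker_transferSylow_isComplement' P hnc
    set f := MonoidHom.transferSylow P hnc
    have hk : f.ker ≤ Cfsg.pPrimeCore p C := Cfsg.Agent.Basics.le_pPrimeCore (by
      rw [Nat.coprime_comm, hp.coprime_iff_not_dvd]
      exact MonoidHom.not_dvd_card_ker_transferSylow P hnc)
    have hmap : (Cfsg.pPrimeCore p C).map C.subtype ≤ D := Cfsg.Agent.Basics.le_pPrimeCore (by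
      rw [card_map_of_injective C.subtype_injective]
      exact Cfsg.Agent.Basics.pPrimeCore_coprime p)
    have hle' : f.ker ≤ D.subgroupOf C := fun x hx => hmap ⟨x, hk hx, rfl⟩
    obtain ⟨e, he⟩ := IsPGroup.iff_card.1 P.isPGroup'
    have hdvd : (D.subgroupOf C).index ∣ p ^ e := by
      refine (index_dvd_of_le hle').trans (dvd_of_eq ?_)
      rw [← he]; exact hcompl.symm.index_eq_card
    obtain ⟨j, -, hj⟩ := (Nat.dvd_prime_pow hp).1 hdvd
    exact ⟨j, hj⟩
  have hO : Cfsg.pPrimePCore p K = (Cfsg.pCore p (K ⧸ D)).comap (QuotientGroup.mk' D) := rfl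
  constructor
  · rintro ⟨hHN, hndvd⟩
    have hSC : S ⊓ C ≤ H := by
      set T := H ⊔ (S ⊓ C)
      have hT : T ≤ N := sup_le hHN (inf_le_right.trans hCN)
      have hTp : IsPGroup p T := hS.to_le (sup_le hHS inf_le_left)
      have h1 : H.relIndex T ∣ H.relIndex N := ⟨T.relIndex N, (relIndex_mul_relIndex _ _ _ le_sup_left hT).symm⟩
      obtain ⟨n, hn⟩ := IsPGroup.iff_card.1 hTp
      obtain ⟨i, -, hi⟩ := (Nat.dvd_prime_pow hp).1 (hn ▸ (relIndex_dvd_card H T))
      rcases Nat.eq_zero_or_pos i with rfl | hpos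
      · exact le_sup_right.trans (relIndex_eq_one.1 (by rwa [pow_zero] at hi))
      · exact absurd ((dvd_pow_self p hpos.ne').trans (hi ▸ h1)) hndvd
    have hNeq : N = H ⊔ C := by
      refine le_antisymm ?_ (sup_le hHN hCN)
      rw [← relIndex_eq_one]
      have h1 : (H ⊔ C).relIndex N ∣ H.relIndex N := relIndex_dvd_of_le_left N le_sup_left
      have h2 : (H ⊔ C).relIndex N ∣ p ^ eN := hCNi ▸ relIndex_dvd_of_le_left N le_sup_right
      obtain ⟨i, -, hi⟩ := (Nat.dvd_prime_pow hp).1 h2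
      rcases Nat.eq_zero_or_pos i with rfl | hpos
      · rw [hi, pow_zero]
      · exact absurd ((dvd_pow_self p hpos.ne').trans (hi ▸ h1)) hndvd
    refine ⟨hSC, le_antisymm ?_ ?_⟩
    · rw [← hNeq, hO]
      set O := (Cfsg.pCore p (K ⧸ D)).comap (QuotientGroup.mk' D)
      haveI : O.Normal := Normal.comap inferInstance _
      refine hcoreLe C O ?_
      obtain ⟨e, he⟩ := hcore D
      obtain ⟨j, -, hj⟩ := (Nat.dvd_prime_pow hp).1 (he ▸ relIndex_dvd_of_le_left O hDC)
      exact ⟨j, hj⟩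
    · rw [hO]
      refine hcoreLe D (H ⊔ C) ?_
      obtain ⟨e, he⟩ := burn hSC
      refine ⟨e + eN, ?_⟩
      rw [← relIndex_mul_relIndex _ _ _ hDC (le_sup_right : C ≤ H ⊔ C), he, ← hNeq, hCNi, pow_add]
  · rintro ⟨hSC, hOeq⟩
    have hNeq : N ≤ H ⊔ C := by
      rw [← hOeq, hO]
      haveI : N.Normal := Normal.comap inferInstance _
      refine hcoreLe D N ?_
      obtain ⟨e, he⟩ := burn hSC
      exact ⟨e + eN, by rw [← relIndex_mul_relIndex _ _ _ hDC hCN, he, hCNi, pow_add]⟩
    have hHN : H ≤ N := hcoreLe C H (by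
      obtain ⟨n, hn⟩ := IsPGroup.iff_card.1 hHp
      obtain ⟨i, -, hi⟩ := (Nat.dvd_prime_pow hp).1 (hn ▸ relIndex_dvd_card C H)
      exact ⟨i, hi⟩)
    refine ⟨hHN, fun hd => ?_⟩
    have h1 : H.relIndex N ∣ H.relIndex (H ⊔ C) :=
      ⟨N.relIndex (H ⊔ C), (relIndex_mul_relIndex _ _ _ hHN hNeq).symm⟩
    have h2 : p ∣ H.relIndex C := by
      have h3 := hd.trans h1
      rwa [relIndex_sup_left] at h3
    refine hSi (h2.trans ?_)
    have e : H.relIndex C = S.relIndex C := by
      rw [← inf_relIndex_right H C, ← inf_relIndex_right S C,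
        le_antisymm (inf_le_inf_right C hHS) (le_inf hSC inf_le_right)]
    rw [e]
    exact relIndex_dvd_index' S C

/-- Let P be a Sylow p-subgroup of the finite group G and H ≤ P a subgroup with N_P(H) a Sylow p-subgroup of N_G(H). Let N be the preimage in N_G(H) of O_p(N_G(H)/C_G(H)). Then H is a Sylow p-subgroup of N if and only if C_P(H) ≤ H and O_{p',p}(N_G(H)) = H·C_G(H). -/
theorem result {G : Type*} [Group G] [Finite G] {p : ℕ} [Fact p.Prime]
    (P : Sylow p G) (H : Subgroup G) (hHP : H ≤ (P : Subgroup G))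
    (hSyl : ¬ p ∣ ((P : Subgroup G) ⊓ Subgroup.normalizer (H : Set G)).relIndex (Subgroup.normalizer (H : Set G)))
    [hC : ((Subgroup.centralizer (H : Set G)).subgroupOf (Subgroup.normalizer (H : Set G))).Normal] :
    (H ≤ ((Cfsg.pCore p (↥(Subgroup.normalizer (H : Set G)) ⧸
              (Subgroup.centralizer (H : Set G)).subgroupOf (Subgroup.normalizer (H : Set G)))).comap
            (QuotientGroup.mk' _)).map (Subgroup.normalizer (H : Set G)).subtype ∧
      ¬ p ∣ H.relIndex (((Cfsg.pCore p (↥(Subgroup.normalizer (H : Set G)) ⧸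
              (Subgroup.centralizer (H : Set G)).subgroupOf (Subgroup.normalizer (H : Set G)))).comap
            (QuotientGroup.mk' _)).map (Subgroup.normalizer (H : Set G)).subtype)) ↔
    ((P : Subgroup G) ⊓ Subgroup.centralizer (H : Set G) ≤ H ∧
      (Cfsg.pPrimePCore p ↥(Subgroup.normalizer (H : Set G))).map (Subgroup.normalizer (H : Set G)).subtype =
        H ⊔ Subgroup.centralizer (H : Set G)) := by
  set K := Subgroup.normalizer (H : Set G) with hK
  have hHK : H ≤ K := Subgroup.le_normalizer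
  haveI : (H.subgroupOf K).Normal := Subgroup.normal_in_normalizer
  have hcen : (Subgroup.centralizer (H : Set G)).subgroupOf K =
      Subgroup.centralizer ((H.subgroupOf K : Subgroup K) : Set K) := by
    ext x
    rw [Subgroup.mem_subgroupOf, Subgroup.mem_centralizer_iff, Subgroup.mem_centralizer_iff]
    exact ⟨fun h y hy => Subtype.ext (h y hy), fun h y hy => congrArg Subtype.val (h ⟨y, hHK hy⟩ hy)⟩
  have h := core (p := p) (H.subgroupOf K) ((Subgroup.centralizer (H : Set G)).subgroupOf K)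
    (((P : Subgroup G) ⊓ K).subgroupOf K) hcen (fun x hx => ⟨hHP hx, x.2⟩)
    ((P.isPGroup'.to_le inf_le_left).comap_subtype) hSyl
  set Nc := (Cfsg.pCore p (↥K ⧸ (Subgroup.centralizer (H : Set G)).subgroupOf K)).comap
            (QuotientGroup.mk' ((Subgroup.centralizer (H : Set G)).subgroupOf K))
  have hrel : (H.subgroupOf K).relIndex Nc = H.relIndex (Nc.map K.subtype) := by
    rw [Subgroup.subgroupOf, Subgroup.relIndex_comap]
  have hcenK : Subgroup.centralizer (H : Set G) ≤ K := Subgroup.centralizer_le_normalizer _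
  have e1 : H ≤ Nc.map K.subtype ↔ H.subgroupOf K ≤ Nc := by
    conv_lhs => rw [← Subgroup.map_subgroupOf_eq_of_le hHK]
    exact Subgroup.map_le_map_iff_of_injective K.subtype_injective
  rw [e1, ← hrel, h]
  apply and_congr
  · constructor
    · intro h x hx
      have hxK : x ∈ K := hcenK hx.2
      exact h (x := ⟨x, hxK⟩) ⟨⟨hx.1, hxK⟩, hx.2⟩
    · exact fun h x hx => h ⟨hx.1.1, hx.2⟩
  · rw [← (Subgroup.map_injective K.subtype_injective).eq_iff, Subgroup.map_sup,
      Subgroup.map_subgroupOf_eq_of_le hHK, Subgroup.map_subgroupOf_eq_of_le hcenK]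

end Cfsg.Agent.S3076
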