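import Cfsg.Statements.S3078
import Cfsg.Agent.Lib.Transfer.ReplacementRank
import Cfsg.Agent.Lib.Transfer.ZJ
-- import your own Cfsg.Agent.* helpers here

set_option autoImplicit false
open Cfsg
open scoped commutatorElement

namespace Cfsg.Agent.S3078

/-- A replacement Theorem for abelian subgroups of p-groups, p odd. Let G be a finite p-group with p odd, A an abelian subgroup of G, and B a subgroup of nilpotency class at most 2 with [B, B] ≤ A, such that A normalizes B but B does not normalize A. Then there is an abelian subgroup A* of G of the same order as A with A ∩ B strictly contained in A* ∩ B, A* contained in N_G(A) and in the normal closure of A, the exponent of A* dividing the exponent of A, and with the subgroup generated by the elements of order dividing p in A of order at most that of the corresponding subgroup of A* (the rank of A is at most the rank of A*). -/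
theorem result {G : Type*} [Group G] [Finite G] {p : ℕ} [Fact p.Prime] (hp : p ≠ 2) (hG : IsPGroup p G) (A B : Subgroup G) (hA : IsMulCommutative A) (hB2 : ⁅⁅B, B⁆, B⁆ = ⊥) (hBA : ⁅B, B⁆ ≤ A) (hAB : A ≤ Subgroup.normalizer (B : Set G)) (hBnA : ¬ B ≤ Subgroup.normalizer (A : Set G)) : ∃ Astar : Subgroup G, IsMulCommutative Astar ∧ Nat.card Astar = Nat.card A ∧ A ⊓ B < Astar ⊓ B ∧ Astar ≤ Subgroup.normalizer (A : Set G) ∧ Astar ≤ Subgroup.normalClosure (A : Set G) ∧ Monoid.exponent Astar ∣ Monoid.exponent A ∧ Nat.card (Cfsg.omegaOne p A) ≤ Nat.card (Cfsg.omegaOne p Astar) := by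
  set N := Subgroup.normalizer (B : Set G) with hN
  have hBN : B ≤ N := Subgroup.le_normalizer
  set A₀ := A.subgroupOf N with hA₀
  set B₀ := B.subgroupOf N with hB₀
  have hA₀m : A₀.map N.subtype = A := by rw [hA₀, Subgroup.subgroupOf_map_subtype, inf_eq_left.mpr hAB]
  have hB₀m : B₀.map N.subtype = B := by rw [hB₀, Subgroup.subgroupOf_map_subtype, inf_eq_left.mpr hBN]
  haveI : B₀.Normal := Subgroup.normal_subgroupOf_of_le_normalizer le_rfl
  have hA₀c : IsMulCommutative A₀ := ⟨⟨fun u v => by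
    apply Subtype.ext
    apply Subtype.ext
    have h := congrArg Subtype.val (mul_comm' (⟨((u : ↥N) : G), u.2⟩ : A) ⟨((v : ↥N) : G), v.2⟩)
    exact h⟩⟩
  have hmemN : ∀ {H : Subgroup ↥N} {n : ↥N}, n ∈ Subgroup.normalizer (H : Set ↥N) →
      (n : G) ∈ Subgroup.normalizer ((H.map N.subtype : Subgroup G) : Set G) := fun hn =>
    Subgroup.le_normalizer_map N.subtype (Subgroup.mem_map_of_mem _ hn)
  obtain ⟨b, hb, hbN, hbA⟩ := Cfsg.Agent.Transfer.exists_normalizing_element (hG.to_subgroup N)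
    B₀ A₀ (fun h => hBnA fun y hy => by
      have := hmemN (h (show (⟨y, hBN hy⟩ : ↥N) ∈ B₀ from hy))
      rwa [hA₀m] at this)
  have hBA₀ : ⁅B₀, B₀⁆ ≤ A₀ := by
    show _ ≤ A.comap N.subtype
    rw [← Subgroup.map_le_iff_le_comap]
    exact (Subgroup.map_commutator _ _ _).le.trans (by rw [hB₀m]; exact hBA)
  obtain ⟨hcard, hRc, -, hlt, -, -, hRN, -, -, hD, hexp⟩ :=
    Cfsg.Agent.Transfer.replaced_spec (hG.to_subgroup N) B₀ (fun h => absurd h hp) A₀ hA₀c hBA₀ b hb
      hbN hbA
  set R₀ := Cfsg.Agent.Transfer.replaced A₀ b with hR₀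
  have hinj : Function.Injective N.subtype := N.subtype_injective
  haveI := hRc
  refine ⟨R₀.map N.subtype, inferInstance, ?_, ?_, ?_, ?_, ?_, ?_⟩
  · rw [Subgroup.card_map_of_injective hinj, hcard, ← Subgroup.card_map_of_injective hinj, hA₀m]
  · rw [show A ⊓ B = (A₀ ⊓ B₀).map N.subtype by rw [Subgroup.map_inf _ _ _ hinj, hA₀m, hB₀m],
      show R₀.map N.subtype ⊓ B = (R₀ ⊓ B₀).map N.subtype by
        rw [Subgroup.map_inf _ _ _ hinj, hB₀m]]
    exact (Subgroup.map_lt_map_iff_of_injective hinj).mpr hlt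
  · rintro _ ⟨r, hr, rfl⟩
    have := hmemN (hRN hr)
    rwa [hA₀m] at this
  · refine Subgroup.map_le_iff_le_comap.mpr (hD _ (Subgroup.Normal.comap inferInstance N.subtype) ?_)
    exact Subgroup.map_le_iff_le_comap.mp (hA₀m.le.trans Subgroup.le_normalClosure)
  · obtain ⟨k, hk⟩ := (hG.to_subgroup A).exists_card_eq
    obtain ⟨i, -, hi⟩ := (Nat.dvd_prime_pow Fact.out).mp
      (hk ▸ (Group.exponent_dvd_nat_card : Monoid.exponent A ∣ Nat.card A))
    refine Monoid.exponent_dvd_of_forall_pow_eq_one fun y => Subtype.ext ?_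
    obtain ⟨r, hr, e⟩ := y.2
    rw [SubgroupClass.coe_pow, OneMemClass.coe_one, ← e, ← map_pow]
    have h1 : r ^ Monoid.exponent A = 1 := hexp _ (fun a ha => Subtype.ext (by
        have := congrArg Subtype.val (Monoid.pow_exponent_eq_one (⟨(a : G), ha⟩ : A))
        rw [SubgroupClass.coe_pow]
        exact this))
      (Or.inl (Or.inr (hi ▸ ((Fact.out : p.Prime).odd_of_ne_two hp).pow))) r hr
    rw [h1, map_one]
  · rw [← hA₀m, ← Cfsg.Agent.Transfer.map_omegaOne N.subtype hinj,
      ← Cfsg.Agent.Transfer.map_omegaOne N.subtype hinj, Subgroup.card_map_of_injective hinj,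
      Subgroup.card_map_of_injective hinj]
    refine Cfsg.Agent.Transfer.card_omegaOne_le_replaced hp A₀ hA₀c b hRc fun a ha c hc => ?_
    obtain ⟨d, hd, rfl⟩ := hc
    simp only [MulEquiv.coe_toMonoidHom, MulAut.conj_apply, inv_inv]
    have hcN : b⁻¹ * d * b ∈ Subgroup.normalizer (A₀ : Set ↥N) :=
      (Subgroup.mem_normalizer_iff''.mp hbN d).mp (Subgroup.le_normalizer hd)
    refine Subgroup.mem_inf.mpr ⟨?_, ?_⟩
    · rw [commutatorElement_def]
      exact A₀.mul_mem ((Subgroup.mem_normalizer_iff.mp hcN a).mp ha) (A₀.inv_mem ha)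
    · have ha' : b * a * b⁻¹ ∈ Subgroup.normalizer (A₀ : Set ↥N) :=
        (Subgroup.mem_normalizer_iff.mp hbN a).mp (Subgroup.le_normalizer ha)
      refine ⟨⁅d, b * a * b⁻¹⁆, ?_, ?_⟩
      · have h2 : b * a * b⁻¹ * d⁻¹ * (b * a * b⁻¹)⁻¹ ∈ A₀ :=
          (Subgroup.mem_normalizer_iff.mp ha' d⁻¹).mp (A₀.inv_mem hd)
        have h3 := A₀.mul_mem hd h2
        simpa [commutatorElement_def, mul_assoc] using h3
      · simp only [MulEquiv.coe_toMonoidHom, MulAut.conj_apply, commutatorElement_def, inv_inv]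
        group

end Cfsg.Agent.S3078
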