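import Cfsg.Statements.S3084
import Mathlib
import Cfsg.Agent.Lib.LocalEvenB.ExtExtMain
import Cfsg.Agent.Lib.LocalEvenB.ExtExtCoord

set_option autoImplicit false
open Cfsg

namespace Cfsg.Agent.S3084

open Cfsg.Agent.Invol.ExtraspecialModel Cfsg.Agent.LocalEvenB.ExtExt in
theorem transfer {A B : Type} [Group A] [Group B] [Finite A] (e : A ≃* B) (h : Cfsg.IsExtraspecial 2 A) :
    Cfsg.IsExtraspecial 2 B := by
  obtain ⟨⟨hp, hf, hc⟩, hz⟩ := h
  have : Finite B := Finite.of_equiv A e.toEquiv
  have hcen : (Subgroup.center A).map e.toMonoidHom = Subgroup.center B := by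
    ext y
    constructor
    · rintro ⟨x, hx, rfl⟩
      refine Subgroup.mem_center_iff.2 fun z => ?_
      have := congrArg e (Subgroup.mem_center_iff.1 hx (e.symm z))
      simpa using this
    · intro hy
      refine ⟨e.symm y, Subgroup.mem_center_iff.2 fun z => e.injective ?_, e.apply_symm_apply y⟩
      simpa using Subgroup.mem_center_iff.1 hy (e z)
  have hfr : (frattini A).map e.toMonoidHom = frattini B := by
    refine le_antisymm (Subgroup.map_le_iff_le_comap.2 (frattini_le_comap_frattini_of_surjective e.surjective)) ?_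
    intro y hy
    have := frattini_le_comap_frattini_of_surjective (φ := e.symm.toMonoidHom) e.symm.surjective hy
    exact ⟨e.symm y, this, e.apply_symm_apply y⟩
  refine ⟨⟨hp.of_equiv e, by rw [← hfr, ← hcen, hf], ?_⟩, ?_⟩
  · rw [← hcen, ← hc, commutator_def, commutator_def, Subgroup.map_commutator, Subgroup.map_top_of_surjective _ e.surjective]
  · rw [← hcen, Nat.card_congr ((Subgroup.center A).equivMapOfInjective e.toMonoidHom e.injective).toEquiv.symm, hz]

theorem tw_center {k : ℕ} (g : Cfsg.Agent.Invol.ExtraspecialModel.Tw k 0) :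
    g ∈ Subgroup.center _ ↔ g.a = 0 ∧ g.b = 0 := by
  constructor
  · intro hg
    rw [Subgroup.mem_center_iff] at hg
    refine ⟨funext fun i => ?_, funext fun i => ?_⟩
    · have h := congrArg Cfsg.Agent.Invol.ExtraspecialModel.Tw.c (hg ⟨0, Pi.single i 1, 0⟩)
      simp [dotProduct_single] at h
      simpa using h
    · have h := congrArg Cfsg.Agent.Invol.ExtraspecialModel.Tw.c (hg ⟨Pi.single i 1, 0, 0⟩)
      simp [single_dotProduct] at h
      simpa using h
  · rintro ⟨ha, hb⟩
    refine Subgroup.mem_center_iff.2 fun h => ?_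
    exact Cfsg.Agent.Invol.ExtraspecialModel.Tw.ext (by simp [ha]) (by simp [hb]) (by simp [ha, hb, add_comm])

/-- Let K be a group acting faithfully and linearly on a finite-dimensional vector space U of dimension 2n ≥ 2 over the field with two elements, preserving a quadratic form q whose polar bilinear form is non-degenerate and which vanishes on some n-dimensional subspace (a non-singular form of plus type). Then there is a finite group R with a normal extraspecial 2-subgroup Q of order 2^(2n+1), an isomorphism of R/Q with K, and a surjective homomorphism χ from Q onto (the additive group of) U with kernel the centre of Q, such that χ carries conjugation by any r in R to the action of the image of r in K, and an element a of Q squares to the identity exactly when q vanishes at χ(a). -/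
theorem result {K : Type*} [Group K] {U : Type*} [AddCommGroup U] [Module (ZMod 2) U] [Module.Finite (ZMod 2) U] (n : ℕ) (hn1 : 1 ≤ n) (hn : Module.finrank (ZMod 2) U = 2 * n) (ρ : Representation (ZMod 2) K U) (hρ : Function.Injective ρ) (q : QuadraticForm (ZMod 2) U) (hq : ∀ (k : K) (u : U), q (ρ k u) = q u) (hnd : (QuadraticMap.polarBilin q).Nondegenerate) (hplus : ∃ W : Submodule (ZMod 2) U, Module.finrank (ZMod 2) ↥W = n ∧ ∀ w ∈ W, q w = 0) : ∃ (R : Type) (_ : Group R) (_ : Finite R) (Q : Subgroup R) (hN : Q.Normal) (e : R ⧸ Q ≃* K) (χ : ↥Q →* Multiplicative U), Cfsg.IsExtraspecial 2 ↥Q ∧ Nat.card ↥Q = 2 ^ (2 * n + 1) ∧ Function.Surjective χ ∧ χ.ker = Subgroup.center ↥Q ∧ (∀ (r : R) (a : ↥Q), χ ⟨r * a * r⁻¹, hN.conj_mem (a : R) a.2 r⟩ = Multiplicative.ofAdd (ρ (e (r : R ⧸ Q)) (Multiplicative.toAdd (χ a)))) ∧ ∀ a : ↥Q, a * a = 1 ↔ q (Multiplicative.toAdd (χ a)) = 0 := by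
  obtain ⟨k, rfl⟩ : ∃ k, n = k + 1 := ⟨n - 1, by omega⟩
  obtain ⟨W, hW, hWq⟩ := hplus
  obtain ⟨e, he⟩ := LocalEvenB.ExtExt.exists_coord (k + 1) hn q hnd W hW hWq
  let act : K → LocalEvenB.ExtExt.Co k → LocalEvenB.ExtExt.Co k := fun x u => e.symm (ρ x (e u))
  obtain ⟨R, hgR, hfR, p, ι, hp, hι, hker, hconj⟩ := LocalEvenB.ExtExt.realize act
    (fun x u v => by simp [act]) (fun x y h => hρ (LinearMap.ext fun u => by
      have := congrArg e (congrFun h (e.symm u))
      simpa [act] using this))
    (fun u => by simp [act]) (fun x y u => by simp [act])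
    (fun x u => by
      show LocalEvenB.ExtExt.Qf _ = LocalEvenB.ExtExt.Qf u
      rw [LocalEvenB.ExtExt.Qf, LocalEvenB.ExtExt.Qf, ← he, ← he]
      simp [act, hq])
  let j : Invol.ExtraspecialModel.Tw k 0 ≃* ↥p.ker :=
    (MonoidHom.ofInjective hι).trans (MulEquiv.subgroupCongr hker)
  let χ0 : Invol.ExtraspecialModel.Tw k 0 →* Multiplicative U :=
    { toFun := fun g => Multiplicative.ofAdd (e (LocalEvenB.ExtExt.pr g))
      map_one' := by
        show Multiplicative.ofAdd (e 0) = 1
        rw [map_zero]; rfl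
      map_mul' := fun g h => by
        rw [LocalEvenB.ExtExt.pr_mul, map_add]; rfl }
  have hj : ∀ g, ((j g : ↥p.ker) : R) = ι g := fun g => rfl
  refine ⟨R, hgR, hfR, p.ker, inferInstance, QuotientGroup.quotientKerEquivOfSurjective p hp,
    χ0.comp j.symm.toMonoidHom, transfer j (Invol.ExtraspecialModel.Tw.extraspecial), ?_, ?_, ?_, ?_, ?_⟩
  · rw [← Nat.card_congr j.toEquiv, Invol.ExtraspecialModel.Tw.card]
  · intro u
    refine ⟨j ⟨(e.symm (Multiplicative.toAdd u)).1, (e.symm (Multiplicative.toAdd u)).2, 0⟩, ?_⟩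
    simp [χ0, LocalEvenB.ExtExt.pr]
  · ext a
    obtain ⟨g, rfl⟩ := j.surjective a
    have hc : j g ∈ Subgroup.center ↥p.ker ↔ g ∈ Subgroup.center _ := by
      simp only [Subgroup.mem_center_iff]
      refine ⟨fun h x => j.injective (by simpa using h (j x)), fun h y => ?_⟩
      obtain ⟨x, rfl⟩ := j.surjective y
      simpa using congrArg j (h x)
    rw [hc, tw_center, MonoidHom.mem_ker]
    simp [χ0, LocalEvenB.ExtExt.pr, Prod.ext_iff]
  · intro r a
    obtain ⟨g, rfl⟩ := j.surjective a
    obtain ⟨h, eh, ph⟩ := hconj r g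
    have : (⟨r * ((j g : ↥p.ker) : R) * r⁻¹, Subgroup.Normal.conj_mem inferInstance _ (j g).2 r⟩ : ↥p.ker) = j h :=
      Subtype.ext (by show r * ((j g : ↥p.ker) : R) * r⁻¹ = ((j h : ↥p.ker) : R); rw [hj, hj]; exact eh)
    rw [this]
    simp only [MonoidHom.comp_apply, MulEquiv.coe_toMonoidHom, MulEquiv.symm_apply_apply]
    show Multiplicative.ofAdd (e (LocalEvenB.ExtExt.pr h)) = Multiplicative.ofAdd (ρ (p r) (e (LocalEvenB.ExtExt.pr g)))
    rw [ph]
    simp [act]
  · intro a
    obtain ⟨g, rfl⟩ := j.surjective a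
    rw [← map_mul, map_eq_one_iff j j.injective, LocalEvenB.ExtExt.mul_self_iff]
    simp [χ0, LocalEvenB.ExtExt.pr, he, LocalEvenB.ExtExt.Qf]

end Cfsg.Agent.S3084
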