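import Cfsg.Statements.S3085
import Cfsg.Agent.Lib.ClassK.Extraspecial
import Cfsg.Agent.Lib.Basics.Frattini

set_option autoImplicit false
open Cfsg

namespace Cfsg.Agent.S3085

open Subgroup

section
variable {Q : Type*} [Group Q]

/-- Twisting by a central-square element of order four. -/
theorem exists_twist {z : Q} (hzz : z * z = 1)
    (hzc : ∀ x, z * x = x * z) (hcom : ∀ x y : Q, x * y = y * x ∨ x * y = y * x * z)
    [Finite Q] {a : Q} (ha : a * a = z) :
    ∃ ψ : MulAut Q, (∀ x, a * x = x * a → ψ x = x) ∧ (∀ x, a * x ≠ x * a → ψ x = x * a) ∧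
      ψ * ψ = MulAut.conj a := by
  classical
  let f : Q → Q := fun x => if a * x = x * a then x else x * a
  have hnc : ∀ x, a * x ≠ x * a → a * x = x * a * z := fun x hx => (hcom a x).resolve_left hx
  have hzass : ∀ x y : Q, z * (x * y) = x * (z * y) := fun x y => by
    rw [← mul_assoc, hzc x, mul_assoc]
  have hf : ∀ x y, f (x * y) = f x * f y := by
    intro x y
    by_cases hx : a * x = x * a
    · by_cases hy : a * y = y * a
      · have hxy : a * (x * y) = x * y * a := by rw [← mul_assoc, hx, mul_assoc, hy, mul_assoc]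
        simp [f, hx, hy, hxy]
      · have hxy : a * (x * y) ≠ x * y * a := by
          intro h
          rw [← mul_assoc, hx, mul_assoc, mul_assoc] at h
          exact hy (mul_left_cancel h)
        simp only [f, hx, hy, hxy, if_true, if_false]
        rw [mul_assoc]
    · by_cases hy : a * y = y * a
      · have hxy : a * (x * y) ≠ x * y * a := by
          intro h
          rw [← mul_assoc, mul_assoc x, ← hy, ← mul_assoc x] at h
          exact hx (mul_right_cancel h)
        simp only [f, hx, hy, hxy, if_true, if_false]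
        rw [mul_assoc x a y, hy, mul_assoc]
      · have hxy : a * (x * y) = x * y * a := by
          rw [← mul_assoc, hnc x hx, mul_assoc (x * a) z y, hzc y, ← mul_assoc (x * a) y z,
            mul_assoc x a y, hnc y hy, ← mul_assoc x (y * a) z, mul_assoc (x * (y * a)) z z, hzz,
            mul_one, mul_assoc x y a]
        simp only [f, hx, hy, hxy, if_true, if_false]
        rw [mul_assoc x a (y * a), ← mul_assoc a y a, hnc y hy, mul_assoc (y * a) z a, hzc a,
          ← mul_assoc (y * a) a z, mul_assoc y a a, ha, mul_assoc y z z, hzz, mul_one]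
  have hff : ∀ x, f (f x) = a * x * a⁻¹ := by
    intro x
    by_cases hx : a * x = x * a
    · simp only [f, hx, if_true, mul_inv_cancel_right]
    · have hxa : a * (x * a) ≠ x * a * a := by
        intro h
        rw [← mul_assoc] at h
        exact hx (mul_right_cancel h)
      simp only [f, hx, hxa, if_false]
      rw [hnc x hx, mul_assoc x a a, ha, mul_assoc (x * a) z a⁻¹, hzc a⁻¹,
        ← mul_assoc (x * a) a⁻¹ z, mul_inv_cancel_right]
  have hinj : Function.Injective f := fun x y hxy => by
    have h := congrArg f hxy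
    rw [hff, hff] at h
    exact mul_left_cancel (mul_right_cancel h)
  refine ⟨MulEquiv.ofBijective (MonoidHom.mk' f hf) (Finite.injective_iff_bijective.mp hinj),
    fun x hx => ?_, fun x hx => ?_, ?_⟩
  · simp [f, hx]
  · simp [f, hx]
  · ext x
    exact hff x

theorem noncomplement_aux [Finite Q] {z : Q} (hz1 : z ≠ 1) (hzmem : z ∈ center Q) (hzz : z * z = 1)
    (hZ : ∀ w ∈ center Q, w = 1 ∨ w = z)
    (hcom : ∀ x y : Q, x * y = y * x ∨ x * y = y * x * z) (hsq : ∀ x : Q, x * x ∈ center Q)
    (hcq : ∀ x y : Q, x * y * x⁻¹ * y⁻¹ ∈ center Q)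
    {L : Subgroup (MulAut Q)} (hL : (Cfsg.Inn Q).IsComplement' L) {b c d : Q}
    (hb : b * b = z) (hc : c * c = z) (hd : d * d = z)
    (hbc : b * c = c * b) (hbd : b * d = d * b) (hcd : c * d = d * c)
    (nbc : b * c ∉ center Q) (nbd : b * d ∉ center Q) (ncd : c * d ∉ center Q) : False := by
  have hzc : ∀ x, z * x = x * z := fun x => (mem_center_iff.mp hzmem x).symm
  -- the quotient by the centre is commutative
  let π : Q →* Q ⧸ center Q := QuotientGroup.mk' (center Q)
  have hπ : ∀ w : Q, π w = 1 ↔ w ∈ center Q := fun w => QuotientGroup.eq_one_iff w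
  have hπc : ∀ x y : Q, π x * π y = π y * π x := by
    intro x y
    have h := (hπ _).mpr (hcq x y)
    rw [map_mul, map_mul, map_mul, map_inv, map_inv, mul_inv_eq_one, mul_inv_eq_iff_eq_mul] at h
    exact h
  have hπsq : ∀ x : Q, π x * π x = 1 := fun x => by rw [← map_mul]; exact (hπ _).mpr (hsq x)
  have hker : ∀ w : Q, MulAut.conj w ∈ L → w ∈ center Q := by
    intro w hw
    have h1 : MulAut.conj w = 1 := by
      have hm : MulAut.conj w ∈ Cfsg.Inn Q ⊓ L := ⟨⟨w, rfl⟩, hw⟩
      rw [hL.disjoint.eq_bot] at hm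
      exact mem_bot.mp hm
    rw [mem_center_iff]
    intro x
    have h2 : MulAut.conj w x = x := by rw [h1]; rfl
    rw [MulAut.conj_apply, mul_inv_eq_iff_eq_mul] at h2
    exact h2.symm
  have hdec : ∀ φ : MulAut Q, ∃ u : Q, MulAut.conj u * φ ∈ L := by
    intro φ
    obtain ⟨⟨⟨_, ⟨w, rfl⟩⟩, ⟨l, hl⟩⟩, hwl⟩ := hL.2 φ
    refine ⟨w⁻¹, ?_⟩
    simp only at hwl
    rw [← hwl, map_inv, inv_mul_cancel_left]
    exact hl
  have hconj : ∀ (φ : MulAut Q) (u : Q), φ * MulAut.conj u = MulAut.conj (φ u) * φ := by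
    intro φ u
    ext x
    simp [MulAut.conj_apply, map_mul, map_inv]
  have hn : ∀ {a : Q}, a * a = z → a ∉ center Q := by
    intro a ha hmem
    rcases hZ a hmem with rfl | rfl
    · rw [one_mul] at ha
      exact hz1 ha.symm
    · rw [hzz] at ha
      exact hz1 ha.symm
  -- the twists and their representatives in the complement
  have hlam : ∀ a : Q, a * a = z → ∃ (ψ : MulAut Q) (v : Q), (∀ x, a * x = x * a → ψ x = x) ∧
      (∀ x, a * x ≠ x * a → ψ x = x * a) ∧ MulAut.conj v * ψ ∈ L ∧ a * v ≠ v * a := by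
    intro a ha
    obtain ⟨ψ, h1, h2, h3⟩ := exists_twist hzz hzc hcom ha
    obtain ⟨v, hv⟩ := hdec ψ
    refine ⟨ψ, v, h1, h2, hv, fun hva => ?_⟩
    have h4 : MulAut.conj v * ψ * (MulAut.conj v * ψ) = MulAut.conj (v * ψ v * a) := by
      rw [mul_assoc, ← mul_assoc ψ, hconj, mul_assoc, h3, ← map_mul, ← map_mul, mul_assoc v]
    have h5 := hker _ (h4 ▸ L.mul_mem hv hv)
    rw [h1 v hva] at h5
    have h6 := (center Q).mul_mem ((center Q).inv_mem (hsq v)) h5
    rw [inv_mul_cancel_left] at h6
    exact hn ha h6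
  choose ψ v hfix hmove hmem hnc using hlam
  -- representatives of commuting twists
  have key : ∀ (a e : Q) (ha : a * a = z) (he : e * e = z), a * e = e * a → a * e ∉ center Q →
      e * v a ha = v a ha * e := by
    intro a e ha he hae hne
    by_contra hnot
    have hψ : ψ a ha * ψ e he = ψ e he * ψ a ha := by
      ext x
      simp only [MulAut.mul_apply]
      have hea : ψ a ha e = e := hfix a ha e hae
      have hae' : ψ e he a = a := hfix e he a hae.symm
      by_cases h1 : e * x = x * e <;> by_cases h2 : a * x = x * a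
      · rw [hfix e he x h1, hfix a ha x h2, hfix e he x h1]
      · rw [hfix e he x h1, hmove a ha x h2, map_mul, hfix e he x h1, hae']
      · rw [hmove e he x h1, map_mul, hfix a ha x h2, hea, hmove e he x h1]
      · rw [hmove e he x h1, map_mul, hmove a ha x h2, hea, map_mul, hmove e he x h1, hae',
          mul_assoc, mul_assoc, hae]
    have h1 : MulAut.conj (v a ha) * ψ a ha * (MulAut.conj (v e he) * ψ e he) =
        MulAut.conj (v a ha * ψ a ha (v e he)) * (ψ a ha * ψ e he) := by
      rw [mul_assoc, ← mul_assoc (ψ a ha), hconj, mul_assoc, ← mul_assoc, ← map_mul]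
    have h2 : MulAut.conj (v e he) * ψ e he * (MulAut.conj (v a ha) * ψ a ha) =
        MulAut.conj (v e he * ψ e he (v a ha)) * (ψ a ha * ψ e he) := by
      rw [mul_assoc, ← mul_assoc (ψ e he), hconj, mul_assoc, ← mul_assoc, ← map_mul, hψ]
    have h3 := L.mul_mem (L.mul_mem (hmem a ha) (hmem e he))
      (L.inv_mem (L.mul_mem (hmem e he) (hmem a ha)))
    rw [h1, h2, mul_inv_rev, mul_assoc, ← mul_assoc (ψ a ha * ψ e he), mul_inv_cancel, one_mul,
      ← map_inv, ← map_mul] at h3
    have h4 := (hπ _).mpr (hker _ h3)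
    rw [map_mul, map_inv, mul_inv_eq_one, map_mul, map_mul, hmove e he _ hnot, map_mul] at h4
    by_cases h5 : a * v e he = v e he * a
    · rw [hfix a ha _ h5, hπc (v a ha), mul_right_inj, eq_comm, mul_eq_left] at h4
      exact hn he ((hπ e).mp h4)
    · rw [hmove a ha _ h5, map_mul, ← mul_assoc, ← mul_assoc, hπc (v a ha), mul_right_inj] at h4
      apply hne
      rw [← hπ, map_mul, h4, hπsq]
  have hbcd : b * c * d * (b * c * d) = z := by
    have h1 : d * (b * c) = b * c * d := by
      rw [← mul_assoc, ← hbd, mul_assoc, ← hcd, mul_assoc]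
    have h2 : b * c * (b * c) = 1 := by
      rw [mul_assoc b c (b * c), ← mul_assoc c b c, ← hbc, mul_assoc b c c, hc, ← mul_assoc b b z,
        hb, hzz]
    rw [mul_assoc (b * c) d, ← mul_assoc d (b * c) d, h1, ← mul_assoc (b * c) (b * c * d) d,
      ← mul_assoc (b * c) (b * c) d, h2, one_mul, hd]
  set a := b * c * d with ha_def
  have hab : a * b = b * a := by
    rw [ha_def, mul_assoc (b * c) d b, ← hbd, ← mul_assoc (b * c) b d, mul_assoc b c b, ← hbc,
      mul_assoc b (b * c) d]
  have hac : a * c = c * a := by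
    rw [ha_def, mul_assoc (b * c) d c, ← hcd, ← mul_assoc (b * c) c d, hbc, mul_assoc c b c, hbc,
      mul_assoc c (c * b) d]
  have had : a * d = d * a := by
    rw [ha_def, ← mul_assoc d (b * c) d, ← mul_assoc d b c, ← hbd, mul_assoc b d c, ← hcd,
      mul_assoc b c d]
  have hsplit : π a = π b * π c * π d := by rw [ha_def, map_mul, map_mul]
  have nab : a * b ∉ center Q := by
    rw [← hπ, map_mul, hsplit, mul_assoc, hπc d b, ← mul_assoc, mul_assoc (π b) (π c), hπc c b,
      ← mul_assoc, hπsq, one_mul, ← map_mul, hπ]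
    exact ncd
  have nac : a * c ∉ center Q := by
    rw [← hπ, map_mul, hsplit, mul_assoc, hπc d c, ← mul_assoc, mul_assoc (π b), hπsq, mul_one,
      ← map_mul, hπ]
    exact nbd
  have nad : a * d ∉ center Q := by
    rw [← hπ, map_mul, hsplit, mul_assoc, hπsq, mul_one, ← map_mul, hπ]
    exact nbc
  refine hnc a hbcd ?_
  have k1 := key a b hbcd hb hab nab
  have k2 := key a c hbcd hc hac nac
  have k3 := key a d hbcd hd had nad
  generalize v a hbcd = w at k1 k2 k3 ⊢
  rw [ha_def, mul_assoc (b * c) d w, k3, ← mul_assoc (b * c) w d, mul_assoc b c w, k2,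
    ← mul_assoc b w c, k1, mul_assoc w b c, mul_assoc w (b * c) d]

theorem exists_triple [Finite Q] (h : Cfsg.IsExtraspecial 2 Q) (hbig : 128 ≤ Nat.card Q) {z : Q}
    (hz1 : z ≠ 1) (hzz : z * z = 1) (hzc : ∀ x, z * x = x * z)
    (hZ : ∀ w ∈ center Q, w = 1 ∨ w = z) (hsq : ∀ x : Q, x * x ∈ center Q) :
    ∃ b c d : Q, b * b = z ∧ c * c = z ∧ d * d = z ∧ b * c = c * b ∧ b * d = d * b ∧
      c * d = d * c ∧ b * c ∉ center Q ∧ b * d ∉ center Q ∧ c * d ∉ center Q := by
  classical
  have hsq' : ∀ x : Q, x * x = 1 ∨ x * x = z := fun x => hZ _ (hsq x)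
  obtain ⟨b, hb⟩ : ∃ b : Q, b * b = z := by
    by_contra hcon
    simp only [not_exists] at hcon
    have h1 : ∀ x : Q, x⁻¹ = x := fun x =>
      inv_eq_of_mul_eq_one_right ((hsq' x).resolve_right (hcon x))
    have h2 : center Q = ⊤ := eq_top_iff.mpr fun x _ => mem_center_iff.mpr fun y => by
      have := h1 (y * x)
      rw [mul_inv_rev, h1, h1] at this
      exact this.symm
    have h3 := h.2
    rw [h2, card_top] at h3
    omega
  have hzmem : z ∈ center Q := mem_center_iff.mpr fun x => (hzc x).symm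
  have hCb : Nat.card Q ≤ 2 * Nat.card (centralizer ({b} : Set Q)) := by
    rw [← card_mul_index (centralizer ({b} : Set Q)), mul_comm 2]
    exact Nat.mul_le_mul_left _ (ClassK.centralizer_index_le_two h b)
  have pick : ∀ (H : Subgroup Q) (T : Finset Q), T.card < Nat.card H → ∃ x ∈ H, x ∉ T := by
    intro H T hT
    by_contra hcon
    simp only [not_exists, not_and, not_not] at hcon
    have := Nat.card_mono (s := (H : Set Q)) (t := (T : Set Q)) T.finite_toSet hcon
    simp only [Nat.card_eq_finsetCard, SetLike.coe_sort_coe, Finset.coe_sort_coe] at this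
    omega
  obtain ⟨c0, hc0, hc0T⟩ := pick (centralizer ({b} : Set Q)) {1, z, b, b * z}
    (lt_of_le_of_lt Finset.card_le_four (by omega))
  simp only [Finset.mem_insert, Finset.mem_singleton, not_or] at hc0T
  have hbc0 : b * c0 = c0 * b := (mem_centralizer_singleton_iff.mp hc0).symm
  -- membership in a coset of the centre
  have hnot : ∀ x y : Q, x * x = z → y ≠ x → y ≠ x * z → x * y ∉ center Q := by
    intro x y hx hy1 hy2 hmem
    have hxi : x⁻¹ = x * z := inv_eq_of_mul_eq_one_right (by rw [← mul_assoc, hx, hzz])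
    rcases hZ _ hmem with h' | h'
    · exact hy2 (by rw [← hxi]; exact eq_inv_of_mul_eq_one_right h')
    · exact hy1 (mul_left_cancel (h'.trans hx.symm))
  obtain ⟨c, hc, hbc, nbc⟩ : ∃ c, c * c = z ∧ b * c = c * b ∧ b * c ∉ center Q := by
    rcases hsq' c0 with h1 | h1
    · refine ⟨c0 * b, ?_, ?_, ?_⟩
      · rw [mul_assoc c0 b, ← mul_assoc b c0 b, hbc0, mul_assoc c0 b b, hb, ← mul_assoc c0 c0 z, h1,
          one_mul]
      · rw [← mul_assoc b c0 b, hbc0]
      · refine hnot b _ hb (fun e => hc0T.1 (mul_eq_right.mp e)) (fun e => ?_)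
        rw [← hzc b] at e
        exact hc0T.2.1 (mul_right_cancel e)
    · exact ⟨c0, h1, hbc0, hnot b c0 hb hc0T.2.2.1 hc0T.2.2.2⟩
  have hCbc : Nat.card Q ≤ 4 * Nat.card (centralizer ({b} : Set Q) ⊓ centralizer ({c} : Set Q) :
      Subgroup Q) := by
    have h1 := index_inf_le (H := centralizer ({b} : Set Q)) (K := centralizer ({c} : Set Q))
    have h2 := Nat.mul_le_mul (ClassK.centralizer_index_le_two h b)
      (ClassK.centralizer_index_le_two h c)
    rw [← card_mul_index (centralizer ({b} : Set Q) ⊓ centralizer ({c} : Set Q)), mul_comm 4]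
    exact Nat.mul_le_mul_left _ (by omega)
  obtain ⟨d0, hd0, hd0T⟩ := pick (centralizer ({b} : Set Q) ⊓ centralizer ({c} : Set Q))
    {1, z, b, b * z, c, c * z, b * c, b * c * z} (lt_of_le_of_lt (b := 8) (by
      refine (Finset.card_insert_le _ _).trans (Nat.succ_le_succ ?_)
      refine (Finset.card_insert_le _ _).trans (Nat.succ_le_succ ?_)
      refine (Finset.card_insert_le _ _).trans (Nat.succ_le_succ ?_)
      refine (Finset.card_insert_le _ _).trans (Nat.succ_le_succ ?_)
      exact Finset.card_le_four) (by omega))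
  simp only [Finset.mem_insert, Finset.mem_singleton, not_or] at hd0T
  obtain ⟨n1, nz, nb, nbz, nc, ncz, nbc', nbcz⟩ := hd0T
  have hbd0 : b * d0 = d0 * b := (mem_centralizer_singleton_iff.mp hd0.1).symm
  have hcd0 : c * d0 = d0 * c := (mem_centralizer_singleton_iff.mp hd0.2).symm
  rcases hsq' d0 with h1 | h1
  · refine ⟨b, c, d0 * b, hb, hc, ?_, hbc, ?_, ?_, nbc, ?_, ?_⟩
    · rw [mul_assoc d0 b, ← mul_assoc b d0 b, hbd0, mul_assoc d0 b b, hb, ← mul_assoc d0 d0 z, h1,
        one_mul]
    · rw [← mul_assoc b d0 b, hbd0]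
    · rw [← mul_assoc c d0 b, hcd0, mul_assoc d0 c b, ← hbc, ← mul_assoc d0 b c]
    · refine hnot b _ hb (fun e => n1 (mul_eq_right.mp e)) (fun e => ?_)
      rw [← hzc b] at e
      exact nz (mul_right_cancel e)
    · refine hnot c _ hc (fun e => nbcz ?_) (fun e => nbc' ?_)
      · have h2 : d0 * (b * b) = c * b := by rw [← mul_assoc, e]
        rw [hb, ← hbc] at h2
        rw [← h2, mul_assoc, hzz, mul_one]
      · have h2 : d0 * (b * b) = c * z * b := by rw [← mul_assoc, e]
        rw [hb, mul_assoc c z b, hzc b, ← mul_assoc c b z, ← hbc] at h2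
        exact mul_right_cancel h2
  · exact ⟨b, c, d0, hb, hc, h1, hbc, hbd0, hcd0, nbc, hnot b d0 hb nb nbz, hnot c d0 hc nc ncz⟩
end

/-- Let Q be an extraspecial 2-group of order 2^(2n+1) with n ≥ 3 that is of plus type (it contains an elementary abelian subgroup of order 2^(n+1)). Then the group of inner automorphisms of Q has no complement in the full automorphism group of Q: the extension of the inner automorphism group (elementary abelian of order 2^(2n)) by the outer automorphism group (the orthogonal group of plus type) does not split. -/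
theorem result {Q : Type*} [Group Q] [Finite Q] (n : ℕ) (hn : 3 ≤ n) (hQ : Cfsg.IsExtraspecial 2 Q) (hcard : Nat.card Q = 2 ^ (2 * n + 1)) (hplus : ∃ E : Subgroup Q, Cfsg.IsElementaryAbelian 2 E ∧ Nat.card ↥E = 2 ^ (n + 1)) (L : Subgroup (MulAut Q)) : ¬ (Cfsg.Inn Q).IsComplement' L := by
    intro hL
    haveI : Fact (Nat.Prime 2) := ⟨Nat.prime_two⟩
    obtain ⟨z, hzmem, hz1⟩ : ∃ z ∈ center Q, z ≠ 1 := by
      by_contra hcon
      simp only [not_exists, not_and, not_not] at hcon
      have h1 := hQ.2
      rw [(eq_bot_iff_forall _).mpr hcon, card_bot] at h1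
      omega
    have hZ : ∀ w ∈ center Q, w = 1 ∨ w = z := by
      intro w hw
      by_contra hcon
      obtain ⟨x, y, hxy, hu⟩ := Nat.card_eq_two_iff.mp hQ.2
      have hall : ∀ u : center Q, u = x ∨ u = y := fun u => by
        have : u ∈ ({x, y} : Set (center Q)) := hu ▸ Set.mem_univ u
        simpa using this
      rcases hall ⟨w, hw⟩ with e1 | e1 <;> rcases hall ⟨z, hzmem⟩ with e2 | e2 <;>
        rcases hall 1 with e3 | e3
      all_goals
        simp only [Subtype.ext_iff, OneMemClass.coe_one] at e1 e2 e3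
        simp_all
    have hzc : ∀ x, z * x = x * z := fun x => (mem_center_iff.mp hzmem x).symm
    have hsq : ∀ x : Q, x * x ∈ center Q := by
      intro x
      rw [← hQ.1.2.1, ← pow_two]
      exact Basics.pow_mem_frattini hQ.1.1 x
    have hzz : z * z = 1 := by
      rcases hZ _ ((center Q).mul_mem hzmem hzmem) with h | h
      · exact h
      · exact absurd (mul_eq_left.mp h) hz1
    have hcq := ClassK.commutator_mem_center_of_special hQ.1
    have hcom : ∀ x y : Q, x * y = y * x ∨ x * y = y * x * z := by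
      intro x y
      rcases hZ _ (hcq x y) with h | h
      · left
        rw [mul_inv_eq_one, mul_inv_eq_iff_eq_mul] at h
        exact h
      · right
        rw [mul_inv_eq_iff_eq_mul, mul_inv_eq_iff_eq_mul] at h
        rw [h, mul_assoc, hzc]
    obtain ⟨b, c, d, hb, hc, hd, hbc, hbd, hcd, nbc, nbd, ncd⟩ := exists_triple hQ (by
      rw [hcard]
      calc 128 = 2 ^ 7 := by norm_num
        _ ≤ _ := Nat.pow_le_pow_right (by norm_num) (by omega)) hz1 hzz hzc hZ hsq
    exact noncomplement_aux hz1 hzmem hzz hZ hcom hsq hcq hL hb hc hd hbc hbd hcd nbc nbd ncd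

end Cfsg.Agent.S3085
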