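import Cfsg.Statements.S3086
import Cfsg.Agent.Lib.LocalEvenB.PGVMain
import Cfsg.Agent.Lib.Components.Layer

set_option autoImplicit false
open Cfsg

namespace Cfsg.Agent.S3086

open Cfsg.Agent.LocalEvenB

/-- The P(G,V)-theorem. Let p be a prime, G a finite group acting faithfully and linearly on a finite vector space V over the field with p elements, and A a nontrivial elementary abelian p-subgroup of G such that |A|·|C_V(A)| ≥ |B|·|C_V(B)| for every subgroup B of A. Then A normalizes every component (subnormal quasisimple subgroup) of G. -/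
theorem result {G V : Type*} [Group G] [Finite G] [AddCommGroup V] [Finite V] (p : ℕ) [Fact p.Prime] [Module (ZMod p) V]
    (ρ : Representation (ZMod p) G V) (hρ : Function.Injective ρ)
    (A : Subgroup G) (hA : A ≠ ⊥) (hAel : Cfsg.IsElementaryAbelian p A)
    (hP : ∀ B : Subgroup G, B ≤ A →
      Nat.card ↥B * Nat.card {v : V // ∀ b ∈ B, ρ b v = v} ≤ Nat.card ↥A * Nat.card {v : V // ∀ a ∈ A, ρ a v = v}) :
    ∀ K : Subgroup G, Cfsg.IsComponent K → A ≤ Subgroup.normalizer (K : Set G) := by
      intro K hK a ha
      have hQS : PGV.QS K := by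
        refine ⟨Components.isComponent_commutator_eq_self hK, ?_, ?_⟩
        · by_contra hc
          push_neg at hc
          exact Components.qs_not_isMulCommutative hK.2
            ⟨⟨fun x y => Subtype.ext (hc x x.2 y y.2)⟩⟩
        · intro N hN hnorm
          haveI : (N.subgroupOf K).Normal := ⟨fun z hz x => hnorm x x.2 z hz⟩
          rcases Components.qs_normal_cases hK.2 (N.subgroupOf K) with h | h
          · exact Or.inl (le_antisymm hN (Subgroup.subgroupOf_eq_top.mp h))
          · refine Or.inr fun z hz x hx => ?_
            have hm : (⟨z, hN hz⟩ : ↥K) ∈ Subgroup.center ↥K := h hz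
            exact congrArg Subtype.val (Subgroup.mem_center_iff.mp hm ⟨x, hx⟩)
      have hnm : ∀ b ∈ A, PGV.Nm K b := by
        refine PGV.pgv_main (Nat.card G + Nat.card ↥A + Nat.card V) G V ρ A K le_rfl ?_ hAel.2 hQS ?_ hP ?_
        · exact fun c hc d hd => by
            have := hAel.1.is_comm.comm ⟨c, hc⟩ ⟨d, hd⟩
            exact congrArg Subtype.val this
        · obtain ⟨x, hx, y, hy, hne⟩ := hQS.nab
          refine ⟨x, hx, not_forall.mp fun h => hne ?_⟩
          have hx1 : x = 1 := hρ (by rw [map_one]; exact LinearMap.ext h)
          rw [hx1, one_mul, mul_one]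
        · intro c hc
          rcases Components.component_eq_or_commute (Components.isComponent_conj c hK) hK with h | h
          · exact Or.inl fun x hx => h.le ⟨x, hx, by simp⟩
          · refine Or.inr fun x hx y hy => ?_
            have h' := Subgroup.commutator_eq_bot_iff_le_centralizer.mp h ⟨x, hx, rfl⟩
            simpa [MulAut.conj_apply, commute_iff_eq] using (Subgroup.mem_centralizer_iff.mp h' y hy).symm
      refine Subgroup.mem_normalizer_iff.mpr fun x => ⟨fun hx => hnm a ha x hx, fun hx => ?_⟩
      simpa [mul_assoc] using (hnm a ha).inv _ hx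

end Cfsg.Agent.S3086
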