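import Cfsg.Statements.S3087
import Cfsg.Agent.Lib.LocalEvenB.Measure

set_option autoImplicit false
open Cfsg

namespace Cfsg.Agent.S3087

open Cfsg.Agent.LocalEvenB

/-- Let p be a prime, G a finite group acting linearly on a finite vector space V over the field with p elements, W a G-invariant subspace, and A a subgroup of G with |A|·|C_V(A)| ≥ |B|·|C_V(B)| for every subgroup B of A. Then |A|·|C_W(A)| ≥ |B|·|C_W(B)| for every subgroup B of A that contains C_A(W); that is, the image of A in the group induced on W satisfies the same maximality condition. -/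
theorem result {G V : Type*} [Group G] [Finite G] [AddCommGroup V] [Finite V] (p : ℕ) [Fact p.Prime] [Module (ZMod p) V]
    (ρ : Representation (ZMod p) G V) (W : Submodule (ZMod p) V) (hW : ∀ g : G, ∀ w ∈ W, ρ g w ∈ W)
    (A : Subgroup G)
    (hP : ∀ B : Subgroup G, B ≤ A →
      Nat.card ↥B * Nat.card {v : V // ∀ b ∈ B, ρ b v = v} ≤ Nat.card ↥A * Nat.card {v : V // ∀ a ∈ A, ρ a v = v})
    (B : Subgroup G) (hBA : B ≤ A) (hCB : ∀ a ∈ A, (∀ w ∈ W, ρ a w = w) → a ∈ B) :
    Nat.card ↥B * Nat.card {w : W // ∀ b ∈ B, ρ b w = w} ≤ Nat.card ↥A * Nat.card {w : W // ∀ a ∈ A, ρ a w = w} := by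
  let C : Set G → Subgroup (Multiplicative V) := fun S =>
    { carrier := {v | ∀ b ∈ S, ρ b (Multiplicative.toAdd v) = Multiplicative.toAdd v}
      one_mem' := fun b _ => map_zero (ρ b)
      mul_mem' := fun {u v} hu hv b hb => by
        show ρ b (Multiplicative.toAdd u + Multiplicative.toAdd v) = _
        rw [map_add, hu b hb, hv b hb]; rfl
      inv_mem' := fun {u} hu b hb => by
        show ρ b (-Multiplicative.toAdd u) = _
        rw [map_neg, hu b hb]; rfl }
  let WS : Subgroup (Multiplicative V) := AddSubgroup.toSubgroup W.toAddSubgroup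
  have hcV : ∀ S : Subgroup G, Nat.card {v : V // ∀ b ∈ S, ρ b v = v} = Nat.card ↥(C S) := fun S =>
    Nat.card_congr (Multiplicative.ofAdd.subtypeEquiv fun v => Iff.rfl)
  have hcW : ∀ S : Subgroup G, Nat.card {w : W // ∀ b ∈ S, ρ b w = w} = Nat.card ↥(WS ⊓ C S) := fun S =>
    Nat.card_congr
      { toFun := fun w => ⟨Multiplicative.ofAdd (w.1 : V), w.1.2, w.2⟩
        invFun := fun v => ⟨⟨Multiplicative.toAdd v.1, v.2.1⟩, v.2.2⟩
        left_inv := fun w => rfl
        right_inv := fun v => rfl }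
  have hmono : C A ≤ C B := fun v hv b hb => hv b (hBA hb)
  have h1 := card_mul_card_le (WS ⊓ C B) (C A)
  have h2 : (WS ⊓ C B) ⊓ C A = WS ⊓ C A := by rw [inf_assoc, inf_eq_right.2 hmono]
  have h3 : Nat.card ↥((WS ⊓ C B) ⊔ C A) ≤ Nat.card ↥(C B) :=
    Subgroup.card_le_of_le (sup_le inf_le_right hmono)
  rw [h2] at h1
  have h4 := hP B hBA
  rw [hcV, hcV] at h4
  rw [hcW, hcW]
  refine Nat.le_of_mul_le_mul_right ?_ (Nat.card_pos (α := ↥(C A)))
  calc Nat.card ↥B * Nat.card ↥(WS ⊓ C B) * Nat.card ↥(C A)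
      ≤ Nat.card ↥B * (Nat.card ↥(C B) * Nat.card ↥(WS ⊓ C A)) := by
        rw [mul_assoc]; exact Nat.mul_le_mul_left _ (h1.trans (Nat.mul_le_mul_right _ h3))
    _ = Nat.card ↥B * Nat.card ↥(C B) * Nat.card ↥(WS ⊓ C A) := by ring
    _ ≤ Nat.card ↥A * Nat.card ↥(C A) * Nat.card ↥(WS ⊓ C A) := Nat.mul_le_mul_right _ h4
    _ = _ := by ring

end Cfsg.Agent.S3087
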