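import Cfsg.Statements.S3103
import Cfsg.Agent.Lib.PermGp.GLFourAltEight
import Cfsg.Agent.Lib.Transfer.StableCore
import Cfsg.Agent.Lib.Transfer.Constrained
import Cfsg.Agent.Lib.Components.PConstrained

set_option autoImplicit false
open Cfsg

namespace Cfsg.Agent.S3103

open Cfsg.Agent

private theorem exists_gl4 {V : Type*} [Group V] [Finite V] (h2 : ∀ v : V, v ^ 2 = 1) (hV : Nat.card V ≤ 2 ^ 4) :
    ∃ f : MulAut V →* GL (Fin 4) (ZMod 2), Function.Injective f := by
  haveI : Fact (Nat.Prime 2) := ⟨Nat.prime_two⟩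
  letI : CommGroup V :=
    { mul_comm := fun a b => by
        have hi : ∀ x : V, x⁻¹ = x := fun x => inv_eq_of_mul_eq_one_right (by rw [← pow_two]; exact h2 x)
        rw [← hi (a * b), mul_inv_rev, hi, hi] }
  letI : Module (ZMod 2) (Additive V) := AddCommGroup.zmodModule fun x => by
    show Additive.ofMul (x.toMul ^ 2) = 0
    rw [h2]; rfl
  haveI : Module.Finite (ZMod 2) (Additive V) := Module.Finite.of_finite
  have hr : Module.finrank (ZMod 2) (Additive V) ≤ 4 := by
    have h : Nat.card (Additive V) = 2 ^ Module.finrank (ZMod 2) (Additive V) := by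
      rw [Module.natCard_eq_pow_finrank (K := ZMod 2), Nat.card_zmod]
    rw [Nat.card_congr Additive.toMul] at h
    exact (Nat.pow_le_pow_iff_right (le_refl 2)).mp (h ▸ hV)
  let W := Additive V × (Fin (4 - Module.finrank (ZMod 2) (Additive V)) → ZMod 2)
  have hW : Module.finrank (ZMod 2) W = 4 := by
    rw [Module.finrank_prod, Module.finrank_fin_fun]; omega
  let b : Module.Basis (Fin 4) (ZMod 2) W := Module.finBasisOfFinrankEq (ZMod 2) W hW
  let φ : MulAut V →* Module.End (ZMod 2) W :=
    { toFun := fun g => ((MonoidHom.toAdditive g.toMonoidHom).toZModLinearMap 2).prodMap LinearMap.id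
      map_one' := LinearMap.ext fun x => rfl
      map_mul' := fun g h => LinearMap.ext fun x => rfl }
  let ψ : MulAut V →* Matrix (Fin 4) (Fin 4) (ZMod 2) := (LinearMap.toMatrixAlgEquiv b).toMulEquiv.toMonoidHom.comp φ
  refine ⟨ψ.toHomUnits, fun g h e => MulEquiv.ext fun v => ?_⟩
  have e' : φ g = φ h := (LinearMap.toMatrixAlgEquiv b).injective (congrArg Units.val e)
  exact congrArg (fun w : W => w.1.toMul) (LinearMap.congr_fun e' (Additive.ofMul v, 0))

/-- Let X be a finite 2-constrained group with no nontrivial normal subgroup of odd order such that O₂(X) has sectional 2-rank at most 4. Then X/O₂(X) is isomorphic to a subgroup of the alternating group of degree 8. -/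
theorem result {X : Type*} [Group X] [Finite X] (hc : Cfsg.IsPConstrained 2 X) (hO : Cfsg.oddCore X = ⊥)
    (h4 : Cfsg.SectionalPRankLE 2 4 ↥(Cfsg.pCore 2 X)) :
    ∃ f : X ⧸ Cfsg.pCore 2 X →* ↥(alternatingGroup (Fin 8)), Function.Injective f := by
  classical
  haveI : Fact (Nat.Prime 2) := ⟨Nat.prime_two⟩
  set P := Cfsg.pCore 2 X with hP
  have hPp : IsPGroup 2 P := Basics.pCore_isPGroup 2
  have hCP : Subgroup.centralizer (P : Set X) ≤ P := by
    have h := Components.isPConstrained_iff.mp hc
    have hO' : Cfsg.pPrimeCore 2 X = ⊥ := hO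
    exact Transfer.cp_congr (QuotientGroup.quotientMulEquivOfEq hO' |>.trans QuotientGroup.quotientBot) h
  set N := (frattini ↥P).map P.subtype with hN
  set V := P.map (QuotientGroup.mk' N) with hV
  haveI : V.Normal := Subgroup.Normal.map inferInstance _ (QuotientGroup.mk'_surjective N)
  have h2 : ∀ v : V, v ^ 2 = 1 := by
    rintro ⟨_, x, hx, rfl⟩
    exact Subtype.ext ((QuotientGroup.eq_one_iff _).mpr ⟨⟨x, hx⟩ ^ 2, Basics.pow_mem_frattini hPp _, rfl⟩)
  have hcardV : Nat.card V ≤ 2 ^ 4 := by
    let g := (QuotientGroup.mk' N).subgroupMap P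
    have hg : g.ker = frattini ↥P := by
      ext x
      rw [MonoidHom.mem_ker, Subtype.ext_iff]
      show QuotientGroup.mk' N (x : X) = 1 ↔ _
      rw [QuotientGroup.mk'_apply, QuotientGroup.eq_one_iff]
      exact ⟨fun ⟨y, hy, e⟩ => Subtype.val_injective e ▸ hy, fun h => ⟨x, h, rfl⟩⟩
    have hidx : (frattini ↥P).index = Nat.card V := by
      refine (congrArg Subgroup.index hg.symm).trans ?_
      rw [Subgroup.index_ker, MonoidHom.range_eq_top.mpr (MonoidHom.subgroupMap_surjective _ _),
        Subgroup.card_top]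
    haveI : ((frattini ↥P).subgroupOf ⊤).Normal := inferInstance
    have hsq : ∀ a : (⊤ : Subgroup ↥P) ⧸ (frattini ↥P).subgroupOf ⊤, a * a = 1 := fun a => by
      obtain ⟨x, rfl⟩ := QuotientGroup.mk_surjective a
      rw [← QuotientGroup.mk_mul, QuotientGroup.eq_one_iff, Subgroup.mem_subgroupOf]
      have := Basics.pow_mem_frattini hPp (x : ↥P)
      rwa [pow_two] at this
    have h := h4 ⊤ ((frattini ↥P).subgroupOf ⊤) ⊤ ⟨⟨fun a b => by
      have hi : ∀ x : (⊤ : Subgroup ((⊤ : Subgroup ↥P) ⧸ (frattini ↥P).subgroupOf ⊤)), x⁻¹ = x :=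
        fun x => inv_eq_of_mul_eq_one_right (Subtype.ext (hsq x.1))
      rw [← hi (a * b), mul_inv_rev, hi, hi]⟩⟩ (fun a _ => by rw [pow_two]; exact hsq a)
    rw [Subgroup.card_top] at h
    calc Nat.card V = ((frattini ↥P).subgroupOf ⊤).index := by
          rw [← hidx]; exact (Subgroup.relIndex_top_right _).symm
      _ ≤ _ := h
  obtain ⟨a, ha⟩ := exists_gl4 h2 hcardV
  obtain ⟨b, hb⟩ := PermGp.GLFour.exists_embedding
  let f : X →* MulAut V := MulAut.conjNormal.comp (QuotientGroup.mk' N)
  have hf : f.ker = P := by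
    refine Eq.trans ?_ (Transfer.sectionKernel_frattini_eq hCP)
    ext x
    show MulAut.conjNormal (QuotientGroup.mk' N x) = 1 ↔ QuotientGroup.mk' N x ∈ Subgroup.centralizer (V : Set (X ⧸ N))
    rw [Subgroup.mem_centralizer_iff]
    constructor
    · intro h v hv
      have := congrArg Subtype.val (DFunLike.congr_fun h ⟨v, hv⟩)
      rw [MulAut.conjNormal_apply] at this
      exact (mul_inv_eq_iff_eq_mul.mp this).symm
    · intro h
      refine MulEquiv.ext fun v => Subtype.ext ?_
      rw [MulAut.conjNormal_apply]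
      exact mul_inv_eq_iff_eq_mul.mpr (h v v.2).symm
  refine ⟨(b.comp a).comp (QuotientGroup.lift P f hf.ge), ?_⟩
  refine (hb.comp ha).comp ?_
  rw [← MonoidHom.ker_eq_bot_iff, QuotientGroup.ker_lift, hf, QuotientGroup.map_mk'_self]


end Cfsg.Agent.S3103
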