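import Cfsg.Statements.S3104
import Cfsg.Agent.S3103
import Cfsg.Agent.Lib.SectFour17.Type
import Cfsg.Agent.Lib.SectFour17.Ext
import Cfsg.Agent.Lib.FGS.SectionalRankFour

set_option autoImplicit false
open Cfsg

namespace Cfsg.Agent.S3104

open Equiv

open Cfsg.Agent

private theorem exists_six_hom : ∃ h : Perm (Fin 6) →* alternatingGroup (Fin 8), Function.Injective h := by
  let ε : ℤˣ →* Perm (Fin 2) :=
    { toFun := fun u => if u = 1 then 1 else swap 0 1
      map_one' := by decide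
      map_mul' := by decide }
  have hε : ∀ u, Perm.sign (ε u) = u := by decide
  let χ : Perm (Fin 6) →* Perm (Fin 2) := ε.comp Perm.sign
  let H : Perm (Fin 6) →* Perm (Fin 8) := finSumFinEquiv.permCongrHom.toMonoidHom.comp
    ((Perm.sumCongrHom (Fin 6) (Fin 2)).comp ((MonoidHom.id _).prod χ))
  have hev : ∀ σ, H σ ∈ alternatingGroup (Fin 8) := fun σ => by
    rw [Perm.mem_alternatingGroup]
    show Perm.sign (finSumFinEquiv.permCongr (Perm.sumCongr σ (ε (Perm.sign σ)))) = 1
    rw [Perm.sign_permCongr, Perm.sign_sumCongr, hε, Int.units_mul_self]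
  refine ⟨H.codRestrict _ hev, fun a b e => ?_⟩
  have e' := finSumFinEquiv.permCongrHom.injective (congrArg Subtype.val e)
  exact congrArg Prod.fst (Perm.sumCongrHom_injective e')

private theorem sixteen_of_mod {i k : ℕ} (hi : i ≤ 4) (hk : k ≤ i) (hne : k ≠ i)
    (h : 2 ^ k % 5 = 2 ^ i % 5) : 2 ^ i = 16 := by
  interval_cases i <;> interval_cases k <;> omega

set_option maxHeartbeats 800000 in
private theorem no_six {X : Type*} [Group X] [Finite X] (hc : Cfsg.IsPConstrained 2 X)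
    (hO : Cfsg.oddCore X = ⊥) (h4 : Cfsg.SectionalPRankLE 2 4 ↥(Cfsg.pCore 2 X))
    (j : Perm (Fin 6) →* X ⧸ Cfsg.pCore 2 X) (hj : Function.Injective j) :
    ¬ Cfsg.SectionalPRankLE 2 4 X := by
  classical
  intro hX
  haveI : Fact (Nat.Prime 2) := ⟨Nat.prime_two⟩
  haveI : Fact (Nat.Prime 5) := ⟨Nat.prime_five⟩
  set P := Cfsg.pCore 2 X with hP
  have hPp : IsPGroup 2 P := Basics.pCore_isPGroup 2
  have hCP : Subgroup.centralizer (P : Set X) ≤ P := by
    have h := Components.isPConstrained_iff.mp hc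
    have hO' : Cfsg.pPrimeCore 2 X = ⊥ := hO
    exact Transfer.cp_congr (QuotientGroup.quotientMulEquivOfEq hO' |>.trans QuotientGroup.quotientBot) h
  set N := (frattini ↥P).map P.subtype with hN
  have hNP : N ≤ P := Subgroup.map_subtype_le _
  set V := P.map (QuotientGroup.mk' N) with hV
  haveI : V.Normal := Subgroup.Normal.map inferInstance _ (QuotientGroup.mk'_surjective N)
  have h2 : ∀ v ∈ V, v * v = 1 := by
    rintro _ ⟨x, hx, rfl⟩
    rw [← map_mul]
    refine (QuotientGroup.eq_one_iff _).mpr ⟨⟨x, hx⟩ ^ 2, Basics.pow_mem_frattini hPp _, ?_⟩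
    rw [pow_two]; rfl
  have hcardV : Nat.card V ≤ 2 ^ 4 := by
    haveI : IsMulCommutative (⊤ : Subgroup V) := ⟨⟨fun a b => by
      have hi : ∀ x : (⊤ : Subgroup V), x⁻¹ = x := fun x =>
        inv_eq_of_mul_eq_one_right (Subtype.ext (Subtype.ext (h2 _ x.1.2)))
      rw [← hi (a * b), mul_inv_rev, hi, hi]⟩⟩
    have h := FGS.SectionalRankFour.rank_le h4 (MonoidHom.id _) Function.injective_id
      ((QuotientGroup.mk' N).subgroupMap P) (MonoidHom.subgroupMap_surjective _ _) (⊤ : Subgroup V)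
      inferInstance (fun a _ => by rw [pow_two]; exact Subtype.ext (h2 _ a.2))
    rwa [Subgroup.card_top] at h
  let ρ : X ⧸ N →* X ⧸ P := QuotientGroup.map N P (MonoidHom.id X) hNP
  have hρ : ∀ x, ρ (QuotientGroup.mk' N x) = QuotientGroup.mk' P x := fun x => rfl
  have hρs : Function.Surjective ρ := fun q => by
    obtain ⟨x, rfl⟩ := QuotientGroup.mk'_surjective P q
    exact ⟨_, hρ x⟩
  have hρk : ∀ g, ρ g = 1 ↔ g ∈ V := fun g => by
    obtain ⟨x, rfl⟩ := QuotientGroup.mk'_surjective N g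
    rw [hρ, QuotientGroup.mk'_apply P, QuotientGroup.eq_one_iff]
    refine ⟨fun h => ⟨x, h, rfl⟩, ?_⟩
    rintro ⟨y, hy, e⟩
    have h : y⁻¹ * x ∈ N := QuotientGroup.eq.1 e
    have := mul_mem hy (hNP h)
    rwa [mul_inv_cancel_left] at this
  have hfaith : ∀ g : X ⧸ N, (∀ v ∈ V, g * v * g⁻¹ = v) → g ∈ V := fun g hg => by
    obtain ⟨x, rfl⟩ := QuotientGroup.mk'_surjective N g
    refine ⟨x, ?_, rfl⟩
    rw [SetLike.mem_coe]
    refine (Transfer.sectionKernel_frattini_eq hCP).le ?_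
    show QuotientGroup.mk' N x ∈ Subgroup.centralizer (V : Set (X ⧸ N))
    rw [Subgroup.mem_centralizer_iff]
    exact fun v hv => (mul_inv_eq_iff_eq_mul.mp (hg v hv)).symm
  -- an element of order five forces sixteen elements
  have hV16 : Nat.card V = 16 := by
    set σ5 : Perm (Fin 6) := swap 0 1 * swap 1 2 * swap 2 3 * swap 3 4 with hσ5
    have h55 : σ5 ^ 5 = 1 := by rw [hσ5]; decide +kernel
    have h51 : σ5 ≠ 1 := by rw [hσ5]; decide +kernel
    obtain ⟨g, hg⟩ := hρs (j σ5)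
    let e : MulAut V := MulAut.conjNormal g
    have he : e ^ 5 = 1 := by
      rw [← map_pow]
      have hm : g ^ 5 ∈ V := by rw [← hρk, map_pow, hg, ← map_pow, h55, map_one]
      refine MulEquiv.ext fun v => Subtype.ext ?_
      rw [MulAut.conjNormal_apply]
      have hc : g ^ 5 * v = v * g ^ 5 := by
        have hi : ∀ x ∈ V, x⁻¹ = x := fun x hx => inv_eq_of_mul_eq_one_right (h2 x hx)
        rw [← hi _ (mul_mem hm v.2), mul_inv_rev, hi _ hm, hi _ v.2]
      rw [hc, mul_inv_cancel_right]; rfl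
    let σ : Perm V := e.toEquiv
    have hpow : ∀ (n : ℕ) (v : V), (σ ^ n) v = (e ^ n) v := by
      intro n
      induction n with
      | zero => intro v; rfl
      | succ n ih => intro v; rw [pow_succ', pow_succ', Perm.mul_apply, ih]; rfl
    have hσ : σ ^ 5 ^ 1 = 1 := Equiv.ext fun v => by rw [hpow, pow_one, he]; rfl
    let S : Subgroup V := MonoidHom.eqLocus e.toMonoidHom (MonoidHom.id V)
    haveI := Fintype.ofFinite V
    have h := Perm.card_compl_support_modEq (p := 5) (n := 1) hσ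
    have eS : σ.supportᶜ.card = Nat.card S := by
      rw [← Fintype.card_coe, ← Nat.card_eq_fintype_card]
      exact Nat.card_congr (Equiv.subtypeEquivRight fun v => by
        rw [Finset.mem_compl, Perm.mem_support, not_not]; rfl)
    rw [eS, ← Nat.card_eq_fintype_card] at h
    have hSne : Nat.card S ≠ Nat.card V := fun e' => h51 (hj (by
      have htop : S = ⊤ := Subgroup.eq_top_of_card_eq S e'
      have hgV : g ∈ V := hfaith g fun v hv => by
        have h1 : (⟨v, hv⟩ : V) ∈ S := htop ▸ Subgroup.mem_top _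
        have h1' : MulAut.conjNormal g (⟨v, hv⟩ : V) = ⟨v, hv⟩ := h1
        exact (MulAut.conjNormal_apply g ⟨v, hv⟩).symm.trans (congrArg Subtype.val h1')
      rw [← hg, (hρk g).2 hgV, map_one]))
    have hV2 : IsPGroup 2 V := hPp.map _
    obtain ⟨i, hi⟩ := hV2.exists_card_eq
    obtain ⟨k, hk, hk'⟩ := (Nat.dvd_prime_pow Nat.prime_two).1 (hi ▸ S.card_subgroup_dvd_card)
    rw [hi] at hcardV hSne h ⊢
    rw [hk'] at hSne h
    have hi4 : i ≤ 4 := (Nat.pow_le_pow_iff_right (le_refl 2)).1 hcardV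
    have hki : k ≠ i := fun e' => hSne (by rw [e'])
    unfold Nat.ModEq at h
    exact sixteen_of_mod hi4 hk hki h
  -- the preimage of the symmetric group
  set Y := j.range.comap ρ with hY
  let π : Y →* Perm (Fin 6) :=
    (MonoidHom.ofInjective hj).symm.toMonoidHom.comp ((ρ.comp Y.subtype).codRestrict j.range fun y => y.2)
  have hπ : ∀ y : Y, j (π y) = ρ y := fun y =>
    congrArg Subtype.val ((MonoidHom.ofInjective hj).apply_symm_apply ⟨ρ (y : X ⧸ N), y.2⟩)
  have hVY : V ≤ Y := fun v hv => Subgroup.mem_comap.2 (by rw [(hρk v).2 hv]; exact one_mem _)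
  have E : SectFour17.Ext (V.subgroupOf Y) π := by
    refine ⟨?_, ?_, ?_, ?_, ?_⟩
    · rw [Nat.card_congr (Subgroup.subgroupOfEquivOfLe hVY).toEquiv, hV16]
    · exact fun v hv => Subtype.ext (h2 _ hv)
    · ext y
      rw [MonoidHom.mem_ker, Subgroup.mem_subgroupOf, ← hρk, ← hπ, map_eq_one_iff j hj]
    · intro d
      obtain ⟨g, hg⟩ := hρs (j d)
      refine ⟨⟨g, Subgroup.mem_comap.2 (hg ▸ ⟨d, rfl⟩)⟩, hj ?_⟩
      rw [hπ]; exact hg
    · intro g hg
      exact hfaith g fun v hv => congrArg Subtype.val (hg ⟨v, hVY hv⟩ hv)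
  obtain ⟨H, M, hM, hcard, hsq⟩ := SectFour17.exists_big_section E
  haveI := hM
  let H₀ : Subgroup X := (H.map Y.subtype).comap (QuotientGroup.mk' N)
  let a : H₀ →* H := ((H.equivMapOfInjective Y.subtype Y.subtype_injective).symm.toMonoidHom).comp
    (((QuotientGroup.mk' N).comp H₀.subtype).codRestrict (H.map Y.subtype) fun x => x.2)
  have ha : Function.Surjective a := fun h => by
    obtain ⟨x, hx⟩ := QuotientGroup.mk'_surjective N ((h : Y) : X ⧸ N)
    refine ⟨⟨x, Subgroup.mem_comap.2 (hx ▸ Subgroup.mem_map_of_mem _ h.2)⟩,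
      (H.equivMapOfInjective Y.subtype Y.subtype_injective).injective (Subtype.ext ?_)⟩
    simp only [a, MonoidHom.comp_apply, MulEquiv.coe_toMonoidHom, MulEquiv.apply_symm_apply]
    exact hx
  haveI : IsMulCommutative (⊤ : Subgroup (H ⧸ M)) := ⟨⟨fun a b => by
    have hi : ∀ x : (⊤ : Subgroup (H ⧸ M)), x⁻¹ = x := fun x =>
      inv_eq_of_mul_eq_one_right (Subtype.ext (hsq x))
    rw [← hi (a * b), mul_inv_rev, hi, hi]⟩⟩
  have h := FGS.SectionalRankFour.rank_le hX H₀.subtype H₀.subtype_injective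
    ((QuotientGroup.mk' M).comp a) ((QuotientGroup.mk'_surjective M).comp ha) (⊤ : Subgroup (H ⧸ M))
    inferInstance (fun q _ => by rw [pow_two]; exact hsq q)
  rw [Subgroup.card_top, hcard] at h
  norm_num at h


/-- Let X be a finite nonsolvable 2-constrained group with no nontrivial normal subgroup of odd order such that O₂(X) has sectional 2-rank at most 4, and write Q for X/O₂(X). Then Q is isomorphic to the projective special linear group of dimension 3 over the field with 2 elements, to an alternating group of degree n with 5 ≤ n ≤ 8, to a symmetric group of degree n with 5 ≤ n ≤ 7, or else O₃(Q) has order 3 and Q/O₃(Q) is isomorphic to the alternating or the symmetric group of degree 5 (so Q is the direct product of a group of order 3 with the alternating group of degree 5, or an extension of that direct product by a group of order 2). If moreover X itself has sectional 2-rank at most 4, then Q is not isomorphic to the symmetric group of degree 6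 or 7 nor to the alternating group of degree 8. -/
theorem result {X : Type*} [Group X] [Finite X] (hns : ¬ Group.IsSolvable X) (hc : Cfsg.IsPConstrained 2 X) (hO : Cfsg.oddCore X = ⊥)
    (h4 : Cfsg.SectionalPRankLE 2 4 ↥(Cfsg.pCore 2 X)) :
    ((∃ (F : Type) (_ : Field F) (_ : Fintype F), Fintype.card F = 2 ∧
          Nonempty (X ⧸ Cfsg.pCore 2 X ≃* Matrix.ProjectiveSpecialLinearGroup (Fin 3) F)) ∨
        (∃ n : ℕ, 5 ≤ n ∧ n ≤ 8 ∧ Nonempty (X ⧸ Cfsg.pCore 2 X ≃* ↥(alternatingGroup (Fin n)))) ∨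
        (∃ n : ℕ, 5 ≤ n ∧ n ≤ 7 ∧ Nonempty (X ⧸ Cfsg.pCore 2 X ≃* Equiv.Perm (Fin n))) ∨
        (Nat.card ↥(Cfsg.pCore 3 (X ⧸ Cfsg.pCore 2 X)) = 3 ∧
          (Nonempty ((X ⧸ Cfsg.pCore 2 X) ⧸ Cfsg.pCore 3 (X ⧸ Cfsg.pCore 2 X) ≃* ↥(alternatingGroup (Fin 5))) ∨
            Nonempty ((X ⧸ Cfsg.pCore 2 X) ⧸ Cfsg.pCore 3 (X ⧸ Cfsg.pCore 2 X) ≃* Equiv.Perm (Fin 5))))) ∧
      (Cfsg.SectionalPRankLE 2 4 X →
        ¬ (Nonempty (X ⧸ Cfsg.pCore 2 X ≃* Equiv.Perm (Fin 6)) ∨ Nonempty (X ⧸ Cfsg.pCore 2 X ≃* Equiv.Perm (Fin 7)) ∨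
            Nonempty (X ⧸ Cfsg.pCore 2 X ≃* ↥(alternatingGroup (Fin 8))))) := by
  refine ⟨?_, fun hX hcon => ?_⟩
  · obtain ⟨f, hf⟩ := Cfsg.Agent.S3103.result hc hO h4
    haveI : Fact (Nat.Prime 2) := ⟨Nat.prime_two⟩
    haveI : Fact (Nat.Prime 3) := ⟨Nat.prime_three⟩
    let ι : X ⧸ Cfsg.pCore 2 X →* Perm (Fin 8) := (alternatingGroup (Fin 8)).subtype.comp f
    have hι : Function.Injective ι := Subtype.val_injective.comp hf
    let e : X ⧸ Cfsg.pCore 2 X ≃* ι.range := MonoidHom.ofInjective hι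
    have hle : ι.range ≤ alternatingGroup (Fin 8) := by
      rintro _ ⟨x, rfl⟩
      exact (f x).2
    have hns' : ¬ Group.IsSolvable ι.range := fun h => hns (by
      haveI := h
      haveI : Group.IsSolvable (X ⧸ Cfsg.pCore 2 X) :=
        Group.isSolvable_of_isSolvable_injective (f := e.toMonoidHom) e.injective
      haveI : Group.IsNilpotent (Cfsg.pCore 2 X) := (Basics.pCore_isPGroup 2).isNilpotent
      exact Group.isSolvable_of_ker_le_range (Cfsg.pCore 2 X).subtype
        (QuotientGroup.mk' (Cfsg.pCore 2 X)) (by rw [QuotientGroup.ker_mk', Subgroup.range_subtype]))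
    have hO2 : Cfsg.pCore 2 ι.range = ⊥ := by
      have hN : ((Cfsg.pCore 2 ι.range).map e.symm.toMonoidHom).Normal :=
        Subgroup.Normal.map inferInstance _ e.symm.surjective
      have h1 := Basics.le_pCore (hN := hN) ((Basics.pCore_isPGroup 2).map e.symm.toMonoidHom)
      rw [Basics.pCore_quotient_eq_bot, le_bot_iff] at h1
      exact (Subgroup.map_eq_bot_iff_of_injective _ e.symm.injective).1 h1
    rcases SectFour17.quotient_type hle hns' hO2 with ht | ⟨h3, ht⟩
    · rcases ht with ⟨n, h5, h8, ⟨g⟩⟩ | ⟨⟨g⟩⟩ | ⟨⟨g⟩⟩ | ⟨⟨g⟩⟩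
      · exact Or.inr (Or.inl ⟨n, h5, h8, ⟨e.trans g⟩⟩)
      · exact Or.inr (Or.inr (Or.inl ⟨5, le_rfl, by norm_num, ⟨e.trans g⟩⟩))
      · exact Or.inr (Or.inr (Or.inl ⟨6, by norm_num, by norm_num, ⟨e.trans g⟩⟩))
      · obtain ⟨g'⟩ := SectFour17.nonempty_GL32_equiv_PSL
        exact Or.inl ⟨ZMod 2, inferInstance, inferInstance, ZMod.card 2, ⟨(e.trans g).trans g'⟩⟩
    · have hmap : (Cfsg.pCore 3 (X ⧸ Cfsg.pCore 2 X)).map e.toMonoidHom = Cfsg.pCore 3 ι.range := by
        refine le_antisymm (Basics.le_pCore (hN := Subgroup.Normal.map inferInstance _ e.surjective)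
          ((Basics.pCore_isPGroup 3).map _)) fun k hk => ?_
        refine ⟨e.symm k, ?_, e.apply_symm_apply k⟩
        exact Basics.le_pCore (hN := Subgroup.Normal.map inferInstance _ e.symm.surjective)
          ((Basics.pCore_isPGroup 3).map e.symm.toMonoidHom) ⟨k, hk, rfl⟩
      refine Or.inr (Or.inr (Or.inr ⟨?_, ?_⟩))
      · refine Eq.trans ?_ h3
        rw [← hmap]
        exact (Subgroup.card_map_of_injective (f := e.toMonoidHom) e.injective).symm
      · let e' := QuotientGroup.congr (Cfsg.pCore 3 (X ⧸ Cfsg.pCore 2 X)) (Cfsg.pCore 3 ι.range) e hmap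
        exact ht.imp (fun g => g.map e'.trans) (fun g => g.map e'.trans)
  · obtain ⟨j, hj⟩ : ∃ j : Perm (Fin 6) →* X ⧸ Cfsg.pCore 2 X, Function.Injective j := by
      rcases hcon with ⟨⟨g⟩⟩ | ⟨⟨g⟩⟩ | ⟨⟨g⟩⟩
      · exact ⟨g.symm.toMonoidHom, g.symm.injective⟩
      · exact ⟨g.symm.toMonoidHom.comp (Perm.viaEmbeddingHom Fin.castSuccEmb),
          g.symm.injective.comp (Perm.viaEmbeddingHom_injective _)⟩
      · obtain ⟨h, hh⟩ := exists_six_hom
        exact ⟨g.symm.toMonoidHom.comp h, g.symm.injective.comp hh⟩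
    exact no_six hc hO h4 j hj hX

end Cfsg.Agent.S3104
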