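import Cfsg.Statements.S3116
import Mathlib

set_option autoImplicit false
open Cfsg

namespace Cfsg.Agent.S3116

/-- A group with a cyclic subgroup ⟨x⟩ of order `2 ^ n` and index two which contains all elements of
order `2 ^ n` has a 2-group of automorphisms. -/
theorem isPGroup_mulAut_aux {Y : Type*} [Group Y] (n : ℕ) (hn : 1 ≤ n) (x y : Y) (hx : orderOf x = 2 ^ n)
    (hgen : ∀ z : Y, z ∈ Subgroup.zpowers x ∨ ∃ c ∈ Subgroup.zpowers x, z = c * y)
    (hord : ∀ z : Y, orderOf z = 2 ^ n → z ∈ Subgroup.zpowers x)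
    (hy : y ∉ Subgroup.zpowers x) : IsPGroup 2 (MulAut Y) := by
  have haut : ∀ φ : MulAut Y, ∃ a : ℤ, φ x = x ^ a := fun φ => by
    obtain ⟨a, ha⟩ := Subgroup.mem_zpowers_iff.mp (hord (φ x) (by rw [MulEquiv.orderOf_eq, hx]))
    exact ⟨a, ha.symm⟩
  intro φ
  obtain ⟨a, ha⟩ := haut φ
  have hpow : ∀ k : ℕ, (φ ^ k) x = x ^ (a ^ k) := by
    intro k
    induction k with
    | zero => simp
    | succ k ih => rw [pow_succ', MulAut.mul_apply, ih, map_zpow, ha, ← zpow_mul, pow_succ']
  have haodd : IsUnit (a : ZMod (2 ^ n)) := by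
    obtain ⟨b, hb⟩ := haut φ⁻¹
    refine isUnit_iff_exists_inv.mpr ⟨(b : ZMod (2 ^ n)), ?_⟩
    have h : φ (φ⁻¹ x) = x := φ.apply_symm_apply x
    rw [hb, map_zpow, ha, ← zpow_mul] at h
    have h2 : x ^ (a * b) = x ^ (1 : ℤ) := by rw [zpow_one]; exact h
    rw [zpow_eq_zpow_iff_modEq, hx, ← ZMod.intCast_eq_intCast_iff] at h2
    simpa using h2
  have hfix : (φ ^ (2 ^ (n - 1))) x = x := by
    rw [hpow]
    conv_rhs => rw [← zpow_one x]
    rw [zpow_eq_zpow_iff_modEq, hx, ← ZMod.intCast_eq_intCast_iff]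
    obtain ⟨u, hu⟩ := haodd
    have := ZMod.pow_totient u
    rw [Nat.totient_prime_pow Nat.prime_two (by omega), show (2:ℕ) - 1 = 1 from rfl, mul_one] at this
    have := congrArg Units.val this
    push_cast
    rw [Units.val_pow_eq_pow_val, hu, Units.val_one] at this
    exact this
  set ψ := φ ^ (2 ^ (n - 1))
  obtain ⟨c, hc, hcy⟩ : ∃ c ∈ Subgroup.zpowers x, ψ y = c * y := by
    rcases hgen (ψ y) with h | h
    · exfalso
      obtain ⟨k, hk⟩ := Subgroup.mem_zpowers_iff.mp h
      apply hy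
      have : ψ (x ^ k) = ψ y := by rw [map_zpow, hfix, hk]
      exact Subgroup.mem_zpowers_iff.mpr ⟨k, ψ.injective this⟩
    · exact h
  have hψc : ∀ z ∈ Subgroup.zpowers x, ψ z = z := by
    intro z hz
    obtain ⟨k, rfl⟩ := Subgroup.mem_zpowers_iff.mp hz
    rw [map_zpow, hfix]
  have hψk : ∀ k : ℕ, (ψ ^ k) y = c ^ k * y := by
    intro k
    induction k with
    | zero => simp
    | succ k ih => rw [pow_succ', MulAut.mul_apply, ih, map_mul, map_pow, hψc c hc, hcy, ← mul_assoc, ← pow_succ]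
  have hψx : ∀ k : ℕ, ∀ z ∈ Subgroup.zpowers x, (ψ ^ k) z = z := by
    intro k z hz
    induction k with
    | zero => simp
    | succ k ih => rw [pow_succ', MulAut.mul_apply, ih, hψc z hz]
  refine ⟨(n - 1) + n, ?_⟩
  rw [pow_add, pow_mul]
  refine MulEquiv.ext fun z => ?_
  have hcn : c ^ (2 ^ n) = 1 := by
    obtain ⟨k, rfl⟩ := Subgroup.mem_zpowers_iff.mp hc
    rw [← zpow_natCast, ← zpow_mul, mul_comm, zpow_mul, zpow_natCast, ← hx, pow_orderOf_eq_one, one_zpow]
  rcases hgen z with h | ⟨d, hd, rfl⟩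
  · rw [hψx _ z h]; rfl
  · rw [map_mul, hψx _ d hd, hψk, hcn, one_mul]; rfl

/-- The automorphism group of a dihedral 2-group of order at least 8, or of a quasi-dihedral (semidihedral) 2-group of order at least 16, is a 2-group. -/
theorem result {X : Type*} [Group X] [Finite X] (h2 : IsPGroup 2 X)
    (h : (∃ n : ℕ, 4 ≤ n ∧ Nonempty (X ≃* DihedralGroup n)) ∨ Cfsg.IsQuasiDihedral X) : IsPGroup 2 (MulAut X) := by
  rcases h with ⟨m, hm, ⟨e⟩⟩ | hq
  · haveI : NeZero m := ⟨by omega⟩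
    have hcard : Nat.card X = 2 * m := by rw [Nat.card_congr e.toEquiv, DihedralGroup.nat_card]
    obtain ⟨k, hk⟩ := h2.exists_card_eq
    obtain ⟨j, rfl⟩ : ∃ j, k = j + 1 := by
      cases k with
      | zero => simp at hk; omega
      | succ j => exact ⟨j, rfl⟩
    have hmj : m = 2 ^ j := by rw [pow_succ] at hk; omega
    have hj : 2 ≤ j := by
      by_contra hc
      have : 2 ^ j ≤ 2 ^ 1 := Nat.pow_le_pow_right (by norm_num) (by omega)
      omega
    have hiff : ∀ z : X, z ∈ Subgroup.zpowers (e.symm (DihedralGroup.r 1)) ↔ ∃ i, e z = DihedralGroup.r i := by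
      intro z
      constructor
      · intro hz
        obtain ⟨i, rfl⟩ := Subgroup.mem_zpowers_iff.mp hz
        exact ⟨(i : ZMod m), by rw [map_zpow, e.apply_symm_apply, DihedralGroup.r_one_zpow]⟩
      · rintro ⟨i, hi⟩
        refine Subgroup.mem_zpowers_iff.mpr ⟨(i.val : ℤ), e.injective ?_⟩
        rw [map_zpow, e.apply_symm_apply, DihedralGroup.r_one_zpow, hi]
        simp
    refine isPGroup_mulAut_aux j (by omega) (e.symm (DihedralGroup.r 1)) (e.symm (DihedralGroup.sr 0)) ?_ ?_ ?_ ?_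
    · rw [MulEquiv.orderOf_eq, DihedralGroup.orderOf_r_one, hmj]
    · intro z
      cases hz : e z with
      | r i => exact Or.inl ((hiff z).mpr ⟨i, hz⟩)
      | sr i =>
        refine Or.inr ⟨e.symm (DihedralGroup.r (-i)), (hiff _).mpr ⟨-i, e.apply_symm_apply _⟩, e.injective ?_⟩
        rw [map_mul, e.apply_symm_apply, e.apply_symm_apply, hz, DihedralGroup.r_mul_sr]
        simp
    · intro z hz
      cases hzz : e z with
      | r i => exact (hiff z).mpr ⟨i, hzz⟩
      | sr i =>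
        exfalso
        rw [← MulEquiv.orderOf_eq e z, hzz, DihedralGroup.orderOf_sr] at hz
        have : 2 ^ 2 ≤ 2 ^ j := Nat.pow_le_pow_right (by norm_num) hj
        omega
    · intro hy
      obtain ⟨i, hi⟩ := (hiff _).mp hy
      rw [e.apply_symm_apply] at hi
      cases hi
  · obtain ⟨n, hn, hcard, x, y, hx, hy, hyx⟩ := hq
    have hidx : (Subgroup.zpowers x).index = 2 := by
      have := Subgroup.card_mul_index (Subgroup.zpowers x)
      rw [Nat.card_zpowers, hx, hcard, pow_succ] at this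
      exact Nat.eq_of_mul_eq_mul_left (by positivity) this
    haveI := Subgroup.normal_of_index_eq_two hidx
    have hyx' : y ∉ Subgroup.zpowers x := by
      intro h
      obtain ⟨k, rfl⟩ := Subgroup.mem_zpowers_iff.mp h
      have h1 : x ^ (1:ℤ) = x ^ ((2 ^ (n - 1) - 1 : ℕ) : ℤ) := by
        rw [zpow_one, zpow_natCast, ← hyx]; group
      rw [zpow_eq_zpow_iff_modEq, hx, show (1:ℤ) = ((1:ℕ):ℤ) from rfl, Int.natCast_modEq_iff] at h1
      have hp : 2 ^ n = 2 * 2 ^ (n - 1) := by rw [← pow_succ']; congr 1; omega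
      have h4 : 4 ≤ 2 ^ (n - 1) := by
        calc 4 = 2 ^ 2 := rfl
          _ ≤ _ := Nat.pow_le_pow_right (by norm_num) (by omega)
      have := Nat.ModEq.eq_of_lt_of_lt h1 (by omega) (by omega)
      omega
    have hgen : ∀ z : X, z ∈ Subgroup.zpowers x ∨ ∃ c ∈ Subgroup.zpowers x, z = c * y := by
      intro z
      by_cases hz : z ∈ Subgroup.zpowers x
      · exact Or.inl hz
      · refine Or.inr ⟨z * y⁻¹, ?_, by group⟩
        rw [Subgroup.mul_mem_iff_of_index_two hidx, inv_mem_iff]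
        exact ⟨fun h => absurd h hz, fun h => absurd h hyx'⟩
    refine isPGroup_mulAut_aux n (by omega) x y hx hgen ?_ hyx'
    intro z hz
    rcases hgen z with h | ⟨c, hc, rfl⟩
    · exact h
    · exfalso
      obtain ⟨k, rfl⟩ := Subgroup.mem_zpowers_iff.mp hc
      have hy2 : y * y = 1 := by rw [← pow_two, ← hy, pow_orderOf_eq_one]
      have hyinv : y⁻¹ = y := inv_eq_of_mul_eq_one_right hy2
      set r : ℤ := ((2 ^ (n - 1) - 1 : ℕ) : ℤ) with hr
      have hconj : y * x ^ k * y⁻¹ = x ^ (r * k) := by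
        rw [← MulAut.conj_apply, map_zpow, MulAut.conj_apply, hyx, ← zpow_natCast, ← zpow_mul]
      have hsq : x ^ k * y * (x ^ k * y) = x ^ (k + r * k) := by
        calc x ^ k * y * (x ^ k * y) = x ^ k * (y * x ^ k * y⁻¹) := by rw [hyinv]; group
          _ = _ := by rw [hconj, zpow_add]
      have h4 : (x ^ k * y) ^ 4 = 1 := by
        rw [show (4:ℕ) = 2 * 2 from rfl, pow_mul, pow_two (x ^ k * y), hsq, pow_two, ← zpow_add]
        have e : k + r * k + (k + r * k) = ((2 ^ n : ℕ) : ℤ) * k := by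
          have hp : 2 ^ n = 2 * 2 ^ (n - 1) := by rw [← pow_succ']; congr 1; omega
          rw [hr, Nat.cast_sub Nat.one_le_two_pow, hp]
          push_cast; ring
        rw [e, zpow_mul, zpow_natCast, ← hx, pow_orderOf_eq_one, one_zpow]
      have := Nat.le_of_dvd (by norm_num) (orderOf_dvd_of_pow_eq_one h4)
      rw [hz] at this
      have : 2 ^ 3 ≤ 2 ^ n := Nat.pow_le_pow_right (by norm_num) hn
      omega

end Cfsg.Agent.S3116
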