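import Cfsg.Statements.S3117
import Cfsg.Agent.Lib.InvChar.ThreeInvolAut

set_option autoImplicit false
open Cfsg

namespace Cfsg.Agent.S3117

/-- If X is a finite 2-group containing exactly three involutions, then the automorphism group of X is solvable. -/
theorem result {X : Type*} [Group X] [Finite X] (h2 : IsPGroup 2 X) (h3 : Nat.card {x : X // orderOf x = 2} = 3) : Group.IsSolvable (MulAut X) := by
  refine InvChar.ThreeAut.mulAut_solvable h2 fun a b c d ha hb hc hd a1 b1 c1 d1 => ?_
  haveI : Fact (Nat.Prime 2) := ⟨Nat.prime_two⟩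
  haveI := Nat.finite_of_card_ne_zero (by omega : Nat.card {x : X // orderOf x = 2} ≠ 0)
  by_contra hne
  push Not at hne
  obtain ⟨hab, hac, had, hbc, hbd, hcd⟩ := hne
  let f : Fin 4 → {x : X // orderOf x = 2} := ![⟨a, orderOf_eq_prime ha a1⟩, ⟨b, orderOf_eq_prime hb b1⟩,
    ⟨c, orderOf_eq_prime hc c1⟩, ⟨d, orderOf_eq_prime hd d1⟩]
  have hf : Function.Injective f := by
    intro i j hij
    have h := congrArg Subtype.val hij
    fin_cases i <;> fin_cases j <;> simp_all [f, Ne.symm]
  have := Nat.card_le_card_of_injective f hf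
  rw [h3, Nat.card_eq_fintype_card, Fintype.card_fin] at this
  omega

end Cfsg.Agent.S3117
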