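import Cfsg.Statements.S3154
import Cfsg.Agent.Lib.CoverL34.Split

set_option autoImplicit false
open Cfsg

namespace Cfsg.Agent.S3154

open Cfsg.Agent.CoverL34

theorem psl_congr {n : Type*} [DecidableEq n] [Fintype n] {K F : Type*} [Field K] [Field F] (φ : K ≃+* F) :
    Nonempty (Matrix.ProjectiveSpecialLinearGroup n K ≃* Matrix.ProjectiveSpecialLinearGroup n F) := by
  let e : Matrix.SpecialLinearGroup n K ≃* Matrix.SpecialLinearGroup n F :=
    MonoidHom.toMulEquiv (Matrix.SpecialLinearGroup.map φ.toRingHom)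
      (Matrix.SpecialLinearGroup.map φ.symm.toRingHom)
      (MonoidHom.ext fun A => Matrix.SpecialLinearGroup.ext _ _ fun i j => by simp)
      (MonoidHom.ext fun A => Matrix.SpecialLinearGroup.ext _ _ fun i j => by simp)
  refine ⟨QuotientGroup.congr _ _ e ?_⟩
  refine le_antisymm ?_ fun z hz =>
    ⟨e.symm z, Subgroup.mem_center_iff.2 fun g => e.injective ?_, e.apply_symm_apply z⟩
  · rintro _ ⟨z, hz, rfl⟩
    refine Subgroup.mem_center_iff.2 fun g => ?_
    obtain ⟨g, rfl⟩ := e.surjective g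
    show e g * e z = e z * e g
    rw [← map_mul, ← map_mul, Subgroup.mem_center_iff.1 hz g]
  · rw [map_mul, map_mul, e.apply_symm_apply, Subgroup.mem_center_iff.1 hz]

theorem sl2_psl {K : Type*} [Field K] (h2 : ∀ a : K, a + a = 0) :
    Nonempty (Matrix.SpecialLinearGroup (Fin 2) K ≃* Matrix.ProjectiveSpecialLinearGroup (Fin 2) K) := by
  have hb : Subgroup.center (Matrix.SpecialLinearGroup (Fin 2) K) = ⊥ := by
    rw [eq_bot_iff]
    intro z hz
    obtain ⟨r, hr, hrz⟩ := Matrix.SpecialLinearGroup.mem_center_iff.1 hz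
    rw [Fintype.card_fin] at hr
    have hr1 : r = 1 := by
      have : (r + 1) * (r + 1) = 0 := by linear_combination hr + h2 r + h2 1
      linear_combination mul_self_eq_zero.1 this - h2 1
    rw [Subgroup.mem_bot]
    apply Subtype.ext
    rw [← hrz, hr1, map_one]
    rfl
  exact ⟨((QuotientGroup.quotientMulEquivOfEq hb).trans QuotientGroup.quotientBot).symm⟩

section
variable {K : Type} [Field K] [Fintype K]

local notation "L₃" => Matrix.ProjectiveSpecialLinearGroup (Fin 3) K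

/-- The upper unitriangular subgroup. -/
def UP : Subgroup L₃ where
  carrier := {g | ∃ a b c, g = uP K a b c}
  one_mem' := ⟨0, 0, 0, (uP_zero K).symm⟩
  mul_mem' := by
    rintro _ _ ⟨a, b, c, rfl⟩ ⟨a', b', c', rfl⟩
    exact ⟨_, _, _, uP_mul K a b c a' b' c'⟩
  inv_mem' := by
    rintro _ ⟨a, b, c, rfl⟩
    refine ⟨-a, -b, -c + a * b, inv_eq_of_mul_eq_one_right ?_⟩
    rw [uP_mul, ← uP_zero K]
    congr 1 <;> ring

theorem card_UP (hK : Fintype.card K = 4) : Nat.card (UP : Subgroup L₃) = 64 := by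
  rw [← Nat.card_congr (Equiv.ofBijective (fun v : K × K × K => (⟨uP K v.1 v.2.1 v.2.2, _, _, _, rfl⟩ : (UP : Subgroup L₃)))
    ⟨fun v w h => by
      obtain ⟨h1, h2, h3⟩ := uP_injective K (congrArg Subtype.val h)
      exact Prod.ext h1 (Prod.ext h2 h3),
    fun ⟨g, a, b, c, h⟩ => ⟨(a, b, c), Subtype.ext h.symm⟩⟩)]
  simp [Nat.card_eq_fintype_card, hK]

theorem card_sub (hK : Fintype.card K = 4) (D : Data K) : Nat.card D.sub = 16 := by
  rw [← Nat.card_congr (Equiv.ofBijective (fun v : K × K => (⟨D.f v, D.mem_sub.2 ⟨v, rfl⟩⟩ : D.sub))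
    ⟨fun v w h => D.f_inj (congrArg Subtype.val h),
    fun ⟨g, hg⟩ => by
      obtain ⟨v, rfl⟩ := D.mem_sub.1 hg
      exact ⟨v, rfl⟩⟩)]
  simp [Nat.card_eq_fintype_card, hK]

theorem row_or_col (hK : Fintype.card K = 4) {S : Subgroup L₃} (hS : S ≤ UP) (h16 : Nat.card S = 16)
    (hc : ∀ x ∈ S, ∀ y ∈ S, x * y = y * x) (hs : ∀ x ∈ S, x * x = 1) :
    S = (rowData hK).sub ∨ S = (colData hK).sub := by
  have hab : ∀ a b c, uP K a b c ∈ S → a = 0 ∨ b = 0 := fun a b c h => by
    have := hs _ h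
    rw [uP_mul, ← uP_zero K] at this
    obtain ⟨-, -, h3⟩ := uP_injective K this
    exact mul_eq_zero.1 (by linear_combination h3 - (field_facts hK).1 c)
  have key : ∀ D : Data K, S ≤ D.sub → S = D.sub := fun D hle =>
    Subgroup.eq_of_le_of_card_ge hle (by rw [h16, card_sub hK])
  by_cases hex : ∃ a b c, uP K a b c ∈ S ∧ a ≠ 0
  · obtain ⟨a, b, c, h, ha⟩ := hex
    refine Or.inl (key _ fun g hg => ?_)
    obtain ⟨a', b', c', rfl⟩ := hS hg
    have hb : b = 0 := (hab _ _ _ h).resolve_left ha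
    have := hc _ h _ hg
    rw [uP_mul, uP_mul] at this
    obtain ⟨-, -, h3⟩ := uP_injective K this
    rw [hb] at h3
    have hb' : b' = 0 := (mul_eq_zero.1 (show a * b' = 0 by linear_combination h3)).resolve_left ha
    exact (rowData hK).mem_sub.2 ⟨(a', c'), by rw [hb']; rfl⟩
  · push Not at hex
    refine Or.inr (key _ fun g hg => ?_)
    obtain ⟨a', b', c', rfl⟩ := hS hg
    exact (colData hK).mem_sub.2 ⟨(b', c'), by rw [hex a' b' c' hg]; rfl⟩

/-- The unitriangular subgroup of `SL₂`. -/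
def u2 (t : K) : Matrix.SpecialLinearGroup (Fin 2) K :=
  ⟨!![1, t; 0, 1], by simp [Matrix.det_fin_two]⟩

theorem u2_add (s t : K) : u2 (s + t) = u2 s * u2 t := by
  apply Subtype.ext
  show (!![1, s + t; 0, 1] : Matrix (Fin 2) (Fin 2) K) = !![1, s; 0, 1] * !![1, t; 0, 1]
  ext i j
  fin_cases i <;> fin_cases j <;> simp [Matrix.mul_apply, Fin.sum_univ_two, add_comm]

theorem u2_inj : Function.Injective (u2 : K → _) := fun s t h =>
  congrFun (congrFun (congrArg Subtype.val h) 0) 1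

theorem u2_row (hK : Fintype.card K = 4) (t : K) : (rowData hK).σ (u2 t) ∈ (colData hK).sub :=
  (colData hK).mem_sub.2 ⟨(t, 0), congrArg QuotientGroup.mk (Subtype.ext (by
    show (!![1, 0, 0; 0, 1, t; 0, 0, 1] : Matrix (Fin 3) (Fin 3) K) = !![1, 0, 0; 0, 1, t; 0, 0, 1]
    rfl))⟩

theorem u2_col (hK : Fintype.card K = 4) (t : K) : (colData hK).σ (u2 t) ∈ (rowData hK).sub :=
  (rowData hK).mem_sub.2 ⟨(t, 0), congrArg QuotientGroup.mk (Subtype.ext (by
    show (!![1, t, 0; 0, 1, 0; 0, 0, 1] : Matrix (Fin 3) (Fin 3) K) = !![1, t, 0; 0, 1, 0; 0, 0, 1]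
    rfl))⟩

variable {X : Type*} [Group X] [Finite X] {F : Type*} [Field F] {π : X →* Matrix.ProjectiveSpecialLinearGroup (Fin 3) K}

theorem cover_pieces (hK : Fintype.card K = 4) (hπ : Function.Surjective π) (hk : π.ker = Subgroup.center X)
    (h2 : ∀ v ∈ π.ker, v * v = 1) (e : Matrix.SpecialLinearGroup (Fin 2) K ≃* Matrix.ProjectiveSpecialLinearGroup (Fin 2) F)
    (D D' : Data K) (hu : ∀ t, D.σ (u2 t) ∈ D'.sub) (hu' : ∀ t, D'.σ (u2 t) ∈ D.sub)
    (H K' : Subgroup X) (hH : H = D.sub.comap π) (hK' : K' = D'.sub.comap π) :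
    Cfsg.IsElementaryAbelian 2 H ∧ Cfsg.IsElementaryAbelian 2 K' ∧
      H ⊓ K' = (Subgroup.center ↥(H ⊔ K')).map (H ⊔ K').subtype ∧
      (∃ C : Subgroup X, C ≤ Subgroup.normalizer (H : Set X) ∧ C ⊓ H = ⊥ ∧ H ⊔ C = Subgroup.normalizer (H : Set X) ∧
        Nonempty (↥C ≃* Matrix.ProjectiveSpecialLinearGroup (Fin 2) F)) ∧
      (∃ C : Subgroup X, C ≤ Subgroup.normalizer (K' : Set X) ∧ C ⊓ K' = ⊥ ∧ K' ⊔ C = Subgroup.normalizer (K' : Set X) ∧
        Nonempty (↥C ≃* Matrix.ProjectiveSpecialLinearGroup (Fin 2) F)) := by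
  obtain ⟨hHe, hHc, C, c1, c2, c3, ⟨c4⟩⟩ :=
    D.main hK hπ hk.le h2 H hH D' u2 u2_add u2_inj hu
  obtain ⟨hKe, hKc, C', d1, d2, d3, ⟨d4⟩⟩ :=
    D'.main hK hπ hk.le h2 K' hK' D u2 u2_add u2_inj hu'
  refine ⟨hHe, hKe, ?_, ⟨C, c1, c2, c3, ⟨c4.trans e⟩⟩, ⟨C', d1, d2, d3, ⟨d4.trans e⟩⟩⟩
  refine le_antisymm (fun x hx => ?_) ?_
  · have hle : H ⊔ K' ≤ Subgroup.centralizer {x} := by
      refine sup_le (fun y hy => ?_) (fun y hy => ?_) <;> rw [Subgroup.mem_centralizer_singleton_iff]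
      · exact congrArg Subtype.val (hHe.1.is_comm.comm (⟨y, hy⟩ : H) ⟨x, hx.1⟩)
      · exact congrArg Subtype.val (hKe.1.is_comm.comm (⟨y, hy⟩ : K') ⟨x, hx.2⟩)
    exact ⟨⟨x, Subgroup.mem_sup_left hx.1⟩, Subgroup.mem_center_iff.2 fun g =>
      Subtype.ext (Subgroup.mem_centralizer_singleton_iff.1 (hle g.2)), rfl⟩
  · rintro _ ⟨c, hc, rfl⟩
    exact ⟨hHc (Subgroup.mem_centralizer_iff.2 fun y hy =>
        congrArg Subtype.val (Subgroup.mem_center_iff.1 hc ⟨y, Subgroup.mem_sup_left hy⟩)),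
      hKc (Subgroup.mem_centralizer_iff.2 fun y hy =>
        congrArg Subtype.val (Subgroup.mem_center_iff.1 hc ⟨y, Subgroup.mem_sup_right hy⟩))⟩

end

/-- Let X be a finite quasisimple group whose centre is an elementary abelian 2-group and whose central quotient is isomorphic to the projective special linear group of dimension 3 over the field with 4 elements. Let T be a Sylow 2-subgroup of X and H ≠ K subgroups of T containing the centre Z(X) whose images in X/Z(X) are elementary abelian of order 16 (the two such subgroups of a Sylow 2-subgroup of the quotient). Then H and K are elementary abelian, H ∩ K is the centre of the subgroup they generate, and each of N_X(H), N_X(K) is a split extension of H, respectively K, by the projective special linear group of dimension 2 over the field with 4 elements (there is a complement isomorphic to that group). -/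
theorem result {X : Type*} [Group X] [Finite X] (hq : Cfsg.IsQuasisimple X) (hZ : Cfsg.IsElementaryAbelian 2 (Subgroup.center X))
    {F : Type*} [Field F] [Fintype F] (hF : Fintype.card F = 4) (hXL : Nonempty ((X ⧸ Subgroup.center X) ≃* Matrix.ProjectiveSpecialLinearGroup (Fin 3) F))
    (T : Sylow 2 X) (H K : Subgroup X) (hHK : H ≠ K) (hHT : H ≤ T) (hKT : K ≤ T) (hZH : Subgroup.center X ≤ H) (hZK : Subgroup.center X ≤ K)
    (hH : Cfsg.IsElementaryAbelian 2 (H.map (QuotientGroup.mk' (Subgroup.center X))) ∧ Nat.card ↥(H.map (QuotientGroup.mk' (Subgroup.center X))) = 16)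
    (hK : Cfsg.IsElementaryAbelian 2 (K.map (QuotientGroup.mk' (Subgroup.center X))) ∧ Nat.card ↥(K.map (QuotientGroup.mk' (Subgroup.center X))) = 16) :
    Cfsg.IsElementaryAbelian 2 H ∧ Cfsg.IsElementaryAbelian 2 K ∧
      H ⊓ K = (Subgroup.center ↥(H ⊔ K)).map (H ⊔ K).subtype ∧
      (∃ C : Subgroup X, C ≤ Subgroup.normalizer (H : Set X) ∧ C ⊓ H = ⊥ ∧ H ⊔ C = Subgroup.normalizer (H : Set X) ∧
        Nonempty (↥C ≃* Matrix.ProjectiveSpecialLinearGroup (Fin 2) F)) ∧
      (∃ C : Subgroup X, C ≤ Subgroup.normalizer (K : Set X) ∧ C ⊓ K = ⊥ ∧ K ⊔ C = Subgroup.normalizer (K : Set X) ∧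
        Nonempty (↥C ≃* Matrix.ProjectiveSpecialLinearGroup (Fin 2) F)) := by
  classical
  haveI : Fact (Nat.Prime 2) := ⟨Nat.prime_two⟩
  letI : Fintype (GaloisField 2 2) := Fintype.ofFinite _
  have hK4 : Fintype.card (GaloisField 2 2) = 4 := by
    rw [← Nat.card_eq_fintype_card, GaloisField.card 2 2 (by norm_num)]
    norm_num
  obtain ⟨φ⟩ : Nonempty (F ≃+* GaloisField 2 2) := ⟨FiniteField.ringEquivOfCardEq (by rw [hF, hK4])⟩
  obtain ⟨e3⟩ := psl_congr (n := Fin 3) φ
  obtain ⟨e2⟩ := psl_congr (n := Fin 2) φ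
  obtain ⟨es⟩ := sl2_psl (K := GaloisField 2 2) (field_facts hK4).1
  obtain ⟨iso⟩ := hXL
  let π0 : X →* Matrix.ProjectiveSpecialLinearGroup (Fin 3) (GaloisField 2 2) :=
    (iso.trans e3).toMonoidHom.comp (QuotientGroup.mk' (Subgroup.center X))
  have hπ0 : Function.Surjective π0 :=
    (iso.trans e3).surjective.comp (QuotientGroup.mk'_surjective _)
  let S2 : Sylow 2 (Matrix.ProjectiveSpecialLinearGroup (Fin 3) (GaloisField 2 2)) :=
    Sylow.ofCard UP (by
      rw [card_UP hK4, natCard_L34 _ hK4]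
      have : (20160 : ℕ).factorization 2 = 6 := by
        rw [show (20160 : ℕ) = 2 ^ 6 * 315 by norm_num, Nat.factorization_mul (by norm_num) (by norm_num)]
        rw [Finsupp.add_apply, Nat.prime_two.factorization_pow, Finsupp.single_eq_same,
          Nat.factorization_eq_zero_of_not_dvd (by norm_num)]
      rw [this]; norm_num)
  obtain ⟨g, hg⟩ := MulAction.exists_smul_eq (Matrix.ProjectiveSpecialLinearGroup (Fin 3) (GaloisField 2 2))
    (T.mapSurjective hπ0) S2
  let e' := (iso.trans e3).trans (MulAut.conj g)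
  let π : X →* Matrix.ProjectiveSpecialLinearGroup (Fin 3) (GaloisField 2 2) :=
    e'.toMonoidHom.comp (QuotientGroup.mk' (Subgroup.center X))
  have hπ : Function.Surjective π := e'.surjective.comp (QuotientGroup.mk'_surjective _)
  have hk : π.ker = Subgroup.center X := by
    ext x
    show e' (QuotientGroup.mk' _ x) = 1 ↔ _
    rw [map_eq_one_iff _ e'.injective, ← MonoidHom.mem_ker, QuotientGroup.ker_mk']
  have h2 : ∀ v ∈ π.ker, v * v = 1 := fun v hv => by
    rw [← sq]; exact hZ.2 v (hk ▸ hv)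
  have hTU : ∀ x ∈ T, π x ∈ (UP : Subgroup _) := fun x hx => by
    have h := congrArg Sylow.toSubgroup hg
    show π x ∈ (S2 : Subgroup _)
    rw [← h]
    exact Subgroup.smul_mem_pointwise_smul (π0 x) (MulAut.conj g) _ ⟨x, hx, rfl⟩
  have himg : ∀ S : Subgroup X, Subgroup.center X ≤ S → S ≤ T →
      Cfsg.IsElementaryAbelian 2 (S.map (QuotientGroup.mk' (Subgroup.center X))) ∧
        Nat.card ↥(S.map (QuotientGroup.mk' (Subgroup.center X))) = 16 →
      S = (rowData hK4).sub.comap π ∨ S = (colData hK4).sub.comap π := by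
    intro S hZS hST hS
    have hm : S.map π = (S.map (QuotientGroup.mk' (Subgroup.center X))).map e'.toMonoidHom :=
      (Subgroup.map_map _ _ _).symm
    have hS' : S = (S.map π).comap π := (Subgroup.comap_map_eq_self (hk.le.trans hZS)).symm
    rcases row_or_col hK4 (S := S.map π) (fun _ ⟨x, hx, h⟩ => h ▸ hTU x (hST hx))
      (by rw [hm, Subgroup.card_map_of_injective e'.injective, hS.2])
      (by
        rw [hm]
        rintro _ ⟨x, hx, rfl⟩ _ ⟨y, hy, rfl⟩
        rw [← map_mul, ← map_mul]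
        exact congrArg _ (congrArg Subtype.val (hS.1.1.is_comm.comm ⟨x, hx⟩ ⟨y, hy⟩)))
      (by
        rw [hm]
        rintro _ ⟨x, hx, rfl⟩
        rw [← map_mul, ← sq, hS.1.2 x hx, map_one]) with h | h <;> rw [h] at hS'
    exacts [Or.inl hS', Or.inr hS']
  rcases himg H hZH hHT hH with hh | hh <;> rcases himg K hZK hKT hK with kk | kk
  · exact absurd (hh.trans kk.symm) hHK
  · exact cover_pieces hK4 hπ hk h2 (es.trans e2.symm) _ _ (u2_row hK4) (u2_col hK4) H K hh kk
  · exact cover_pieces hK4 hπ hk h2 (es.trans e2.symm) _ _ (u2_col hK4) (u2_row hK4) H K hh kk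
  · exact absurd (hh.trans kk.symm) hHK

end Cfsg.Agent.S3154
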