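import Cfsg.Statements.S3155
import Mathlib

set_option autoImplicit false
open Cfsg

namespace Cfsg.Agent.S3155

/-- Let B be the direct product of three cyclic groups of order 4. Then the automorphism of B inverting every element is not the square of any automorphism of B. -/
theorem result {B : Type*} [CommGroup B] [Finite B] (hB : Nonempty (B ≃* Multiplicative (ZMod 4 × ZMod 4 × ZMod 4)))
    (τ : B ≃* B) : τ.trans τ ≠ MulEquiv.inv B := by
  intro h
  obtain ⟨e⟩ := hB
  let V := ZMod 4 × ZMod 4 × ZMod 4
  let σ : V →+ V :=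
    AddMonoidHom.mk' (fun v => Multiplicative.toAdd (e (τ (e.symm (Multiplicative.ofAdd v))))) (by
      intro a b; simp)
  have hσ : ∀ v : V, σ (σ v) = -v := by
    intro v
    have h1 : τ (τ (e.symm (Multiplicative.ofAdd v))) = (e.symm (Multiplicative.ofAdd v))⁻¹ := by
      have := DFunLike.congr_fun h (e.symm (Multiplicative.ofAdd v))
      simpa using this
    apply Multiplicative.ofAdd.injective
    simp only [σ, AddMonoidHom.mk'_apply, ofAdd_toAdd, ofAdd_neg]
    show e (τ (e.symm (e (τ (e.symm (Multiplicative.ofAdd v)))))) = (Multiplicative.ofAdd v)⁻¹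
    rw [MulEquiv.symm_apply_apply, h1, map_inv, MulEquiv.apply_symm_apply]
  let f : V →ₗ[ZMod 4] V := σ.toZModLinearMap 4
  have hf : f * f = (-1 : ZMod 4) • (1 : Module.End (ZMod 4) V) := by
    refine LinearMap.ext fun v => ?_
    show σ (σ v) = (-1 : ZMod 4) • v
    rw [hσ, neg_one_smul]
  have hdet := congrArg LinearMap.det hf
  rw [map_mul, LinearMap.det_smul, map_one, mul_one] at hdet
  haveI : Fact (1 < 4) := ⟨by norm_num⟩
  haveI : StrongRankCondition (ZMod 4) := commRing_strongRankCondition (ZMod 4)
  have hrank : Module.finrank (ZMod 4) V = 3 := by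
    rw [Module.finrank_prod, Module.finrank_prod, Module.finrank_self]
  rw [hrank] at hdet
  revert hdet
  generalize LinearMap.det f = d
  revert d
  decide

end Cfsg.Agent.S3155
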