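import Cfsg.Statements.S3157
import Cfsg.Agent.Lib.InvChar.FPF64
import Cfsg.Agent.Lib.CoverL34.Main
import Cfsg.Agent.Lib.Invol.MaxClassTwo

set_option autoImplicit false
open Cfsg

namespace Cfsg.Agent.S3157

open Cfsg.Agent Cfsg.Agent.InvChar

private theorem exists_involutions {T : Type*} [Group T] [Finite T] (hT : Nat.card T = 64) (hna : ¬ IsMulCommutative T)
    {σ x : MulAut T} (h3 : ∀ y, σ (σ (σ y)) = y) (hfp : ∀ y, σ y = y → y = 1) (hxx : ∀ y, x (x y) = y)
    (hxσ : ∀ y, x (σ y) = σ (σ (x y))) (C : Subgroup T) (hC : ∀ y : T, y ∈ C ↔ x y = y) :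
    Nat.card C = 8 ∧ ¬ IsMulCommutative C ∧
      ∃ a b : T, a * a = 1 ∧ b * b = 1 ∧ a * b * a⁻¹ * b⁻¹ ≠ 1 := by
  classical
  obtain ⟨hcard, hcen, hsq⟩ := FPF64.structure_64 hT hna h3 hfp
  have hz2 := FPF64.center_facts hT hna h3 hfp
  set Z := Subgroup.center T with hZ
  have hcomm : ∀ w ∈ Z, ∀ g, w * g = g * w := fun w hw g => (Subgroup.mem_center_iff.mp hw g).symm
  have hσz : ∀ y : T, y ∈ Z → σ y ∈ Z := fun y hy => Subgroup.mem_center_iff.mpr fun w => by
    obtain ⟨w, rfl⟩ := σ.surjective w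
    rw [← map_mul, ← map_mul, Subgroup.mem_center_iff.mp hy w]
  have hxz : ∀ y : T, y ∈ Z → x y ∈ Z := fun y hy => Subgroup.mem_center_iff.mpr fun w => by
    obtain ⟨w, rfl⟩ := x.surjective w
    rw [← map_mul, ← map_mul, Subgroup.mem_center_iff.mp hy w]
  -- the pairing
  let g : C × C → T := fun p => (p.1 : T) * σ p.2
  have hg : Function.Injective g := by
    rintro ⟨p, q⟩ ⟨p', q'⟩ e
    change (p : T) * σ q = p' * σ q' at e
    have h1 : (p' : T)⁻¹ * p = σ ((q' : T) * (q : T)⁻¹) := by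
      rw [map_mul, map_inv, inv_mul_eq_iff_eq_mul, ← mul_assoc, ← e, mul_inv_cancel_right]
    have h2 := congrArg x h1
    rw [map_mul, map_inv, (hC _).mp p.2, (hC _).mp p'.2, hxσ, map_mul x, map_inv x, (hC _).mp q.2,
      (hC _).mp q'.2, h1] at h2
    have h4 := hfp _ h2.symm
    have h5 : (q' : T) * (q : T)⁻¹ = 1 := σ.injective (h4.trans (map_one σ).symm)
    obtain rfl : q' = q := Subtype.ext (mul_inv_eq_one.mp h5)
    exact Prod.ext (Subtype.ext (mul_right_cancel e)) rfl
  have hle : Nat.card C ≤ 8 := by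
    have h1 := Nat.card_le_card_of_injective g hg
    rw [Nat.card_prod, hT] at h1
    nlinarith
  -- fixed points in the centre
  let W : Subgroup T := Z ⊓ C
  have hWle : Nat.card W ≤ 2 := by
    let gW : W × W → Z := fun p => ⟨(p.1 : T) * σ p.2, mul_mem p.1.2.1 (hσz _ p.2.2.1)⟩
    have hgW : Function.Injective gW := fun p q e => by
      have h := @hg (⟨p.1, p.1.2.2⟩, ⟨p.2, p.2.2.2⟩) (⟨q.1, q.1.2.2⟩, ⟨q.2, q.2.2.2⟩) (congrArg Subtype.val e)
      simp only [Prod.mk.injEq, Subtype.mk.injEq] at h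
      exact Prod.ext (Subtype.ext h.1) (Subtype.ext h.2)
    have h1 := Nat.card_le_card_of_injective gW hgW
    rw [Nat.card_prod, hcard] at h1
    nlinarith
  -- a central element moved by `x`
  obtain ⟨z₁, hz₁, hz₁x⟩ : ∃ z₁ ∈ Z, x z₁ ≠ z₁ := by
    by_contra h
    push Not at h
    have : Z ≤ W := fun y hy => ⟨hy, (hC y).mpr (h y hy)⟩
    have := Subgroup.card_le_of_le this
    omega
  -- the preimage of the fixed points modulo the centre
  let W' : Subgroup T :=
    { carrier := {t | t⁻¹ * x t ∈ Z}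
      one_mem' := by simp
      mul_mem' := fun {s t} hs ht => by
        show (s * t)⁻¹ * x (s * t) ∈ Z
        rw [map_mul, show (s * t)⁻¹ * (x s * x t) = t⁻¹ * (s⁻¹ * x s) * x t by group, ← hcomm _ hs, mul_assoc]
        exact mul_mem hs ht
      inv_mem' := fun {s} hs => by
        show s⁻¹⁻¹ * x s⁻¹ ∈ Z
        rw [map_inv, inv_inv, show s * (x s)⁻¹ = s * (s⁻¹ * x s)⁻¹ * s⁻¹ by group, ← hcomm _ (inv_mem hs),
          mul_inv_cancel_right]
        exact inv_mem hs }
  let π := QuotientGroup.mk' Z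
  have hπc : ∀ u v : T, π u * π v = π v * π u := fun u v => by
    have h : π (u * v * u⁻¹ * v⁻¹) = 1 := (QuotientGroup.eq_one_iff _).mpr (hcen u v)
    simp only [map_mul, map_inv] at h
    exact mul_inv_eq_iff_eq_mul.mp (mul_inv_eq_one.mp h)
  let s : T →* T ⧸ Z := MonoidHom.mk' (fun w => π w⁻¹ * π (x w)) fun u v => by
    rw [mul_inv_rev, map_mul x, map_mul, map_mul, hπc v⁻¹ u⁻¹, mul_assoc, ← mul_assoc (π v⁻¹), hπc v⁻¹ (x u)]
    simp only [mul_assoc]
  have hker : s.ker = W' := by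
    ext w
    show π w⁻¹ * π (x w) = 1 ↔ w⁻¹ * x w ∈ Z
    rw [← map_mul]
    exact QuotientGroup.eq_one_iff _
  have hrange : s.range ≤ W'.map π := by
    rintro _ ⟨w, rfl⟩
    refine ⟨w⁻¹ * x w, ?_, map_mul π _ _⟩
    show (w⁻¹ * x w)⁻¹ * x (w⁻¹ * x w) ∈ Z
    rw [map_mul, hxx, map_inv, ← QuotientGroup.eq_one_iff (N := Z)]
    show π ((w⁻¹ * x w)⁻¹ * ((x w)⁻¹ * w)) = 1
    rw [show (w⁻¹ * x w)⁻¹ * ((x w)⁻¹ * w) = ((w⁻¹ * x w) * (w⁻¹ * x w))⁻¹ * (w⁻¹ * (x w * (x w)⁻¹) * w) by group,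
      mul_inv_cancel, mul_one, inv_mul_cancel, mul_one]
    exact (QuotientGroup.eq_one_iff _).mpr (inv_mem (hsq _))
  have hZW' : Z ≤ W' := fun y hy => mul_mem (inv_mem hy) (hxz y hy)
  have hW'16 : 16 ≤ Nat.card W' := by
    have h1 : Nat.card s.range ≤ Nat.card (W'.map π) := Subgroup.card_le_of_le hrange
    have h2 : Nat.card (W'.map π) * 4 = Nat.card W' := by
      have hi : (W'.map π).index = W'.index :=
        Subgroup.index_map_eq W' (QuotientGroup.mk'_surjective Z) (by rw [QuotientGroup.ker_mk']; exact hZW')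
      have e1 := Subgroup.card_mul_index (W'.map π)
      have e2 := Subgroup.card_eq_card_quotient_mul_card_subgroup Z
      have e3 := Subgroup.card_mul_index W'
      rw [hi] at e1
      rw [hcard, hT] at e2
      rw [hT] at e3
      have hne : W'.index ≠ 0 := Subgroup.index_ne_zero_of_finite
      refine Nat.eq_of_mul_eq_mul_right (Nat.pos_of_ne_zero hne) ?_
      rw [mul_right_comm, e1, e3]; omega
    have h3' : Nat.card W' * W'.index = 64 := (Subgroup.card_mul_index W').trans hT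
    have h4 : W'.index = Nat.card s.range := by rw [← hker, Subgroup.index_ker]
    nlinarith
  -- lifting the fixed points
  let mC : C × Z → T := fun p => (p.1 : T) * p.2
  have hsurj : ∀ t ∈ W', ∃ p : C, ∃ w : Z, t = (p : T) * w := by
    intro t ht
    set d := t⁻¹ * x t with hd
    have hdZ : d ∈ Z := ht
    have hxt : x t = t * d := by rw [hd, mul_inv_cancel_left]
    have hdfix : x d = d := by
      have := congrArg x hxt
      rw [hxx, map_mul, hxt, mul_assoc] at this
      have h' : d * x d = 1 := mul_left_cancel (this.symm.trans (mul_one t).symm)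
      rw [eq_inv_of_mul_eq_one_right h', Invol.inv_eq_self_of_mul_self (hz2 d hdZ)]
    rcases eq_or_ne d 1 with e | e
    · exact ⟨⟨t, (hC t).mpr (by rw [hxt, e, mul_one])⟩, 1, by simp⟩
    · set c₀ := z₁⁻¹ * x z₁ with hc₀
      have hc₀Z : c₀ ∈ Z := mul_mem (inv_mem hz₁) (hxz _ hz₁)
      have hc₀fix : x c₀ = c₀ := by
        rw [hc₀, map_mul, hxx, map_inv, Invol.inv_eq_self_of_mul_self (hz2 _ hz₁),
          Invol.inv_eq_self_of_mul_self (hz2 _ (hxz _ hz₁))]
        exact hcomm _ (hxz _ hz₁) _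
      have hdc : d = c₀ := by
        by_contra hne
        haveI := Fintype.ofFinite W
        have h3' : ({1, ⟨d, ⟨hdZ, (hC d).mpr hdfix⟩⟩, ⟨c₀, ⟨hc₀Z, (hC _).mpr hc₀fix⟩⟩} : Finset W).card = 3 := by
          rw [Finset.card_insert_of_notMem, Finset.card_insert_of_notMem, Finset.card_singleton]
          · simpa [Subtype.ext_iff] using hne
          · have hc₀1 : (1 : T) ≠ c₀ := fun e' => hz₁x (inv_mul_eq_one.mp (hc₀ ▸ e'.symm)).symm
            simp [Subtype.ext_iff, Ne.symm e, hc₀1]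
        have := Finset.card_le_univ ({1, ⟨d, ⟨hdZ, (hC d).mpr hdfix⟩⟩, ⟨c₀, ⟨hc₀Z, (hC _).mpr hc₀fix⟩⟩} : Finset W)
        rw [h3', ← Nat.card_eq_fintype_card] at this
        omega
      refine ⟨⟨t * z₁, (hC _).mpr ?_⟩, ⟨z₁, hz₁⟩, ?_⟩
      · rw [map_mul, hxt, hdc, hc₀, mul_assoc, mul_assoc, hz2 _ (hxz _ hz₁), mul_one,
          Invol.inv_eq_self_of_mul_self (hz2 _ hz₁)]
      · show t = t * z₁ * z₁
        rw [mul_assoc, hz2 _ hz₁, mul_one]
  have h8 : Nat.card C = 8 := by
    have hf : ∀ w : W', ∃ p : C × Z, mC p = w := fun w => by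
      obtain ⟨p, v, e⟩ := hsurj w w.2
      exact ⟨(p, v), e.symm⟩
    choose f hf using hf
    -- at least two preimages for each element
    obtain ⟨c₀, hc₀, hne⟩ : ∃ c₀ ∈ W, c₀ ≠ 1 := by
      refine ⟨z₁⁻¹ * x z₁, ⟨Z.mul_mem (Z.inv_mem hz₁) (hxz _ hz₁), (hC _).mpr ?_⟩, fun e => hz₁x (inv_mul_eq_one.mp e).symm⟩
      rw [map_mul, hxx, map_inv, Invol.inv_eq_self_of_mul_self (hz2 _ hz₁),
        Invol.inv_eq_self_of_mul_self (hz2 _ (hxz _ hz₁))]
      exact hcomm _ (hxz _ hz₁) _
    let F : W' × Bool → C × Z := fun q => if q.2 then (⟨(f q.1).1 * c₀, mul_mem (f q.1).1.2 hc₀.2⟩, ⟨c₀ * (f q.1).2, mul_mem hc₀.1 (f q.1).2.2⟩) else f q.1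
    have hm : ∀ q, mC (F q) = q.1 := by
      rintro ⟨w, _ | _⟩
      · exact hf w
      · show ((f w).1 : T) * c₀ * (c₀ * ((f w).2 : T)) = w
        rw [← mul_assoc, mul_assoc ((f w).1 : T), hz2 _ hc₀.1, mul_one]
        exact hf w
    have hF : Function.Injective F := by
      rintro ⟨w, i⟩ ⟨w', j⟩ e
      have hw : w = w' := Subtype.ext (by rw [← hm (w, i), ← hm (w', j), e])
      subst hw
      cases i <;> cases j
      · rfl
      · exact absurd (mul_eq_left.mp (congrArg (fun p : C × Z => (p.1 : T)) e).symm) hne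
      · exact absurd (mul_eq_left.mp (congrArg (fun p : C × Z => (p.1 : T)) e)) hne
      · rfl
    have h1 := Nat.card_le_card_of_injective F hF
    rw [Nat.card_prod, Nat.card_prod, hcard, Nat.card_eq_fintype_card (α := Bool), Fintype.card_bool] at h1
    omega
  -- `C` is not abelian
  have hsurjT : Function.Surjective g :=
    ((Nat.bijective_iff_injective_and_card g).mpr ⟨hg, by rw [Nat.card_prod, h8, hT]⟩).2
  have hcnon : ¬ IsMulCommutative C := by
    intro hCc
    refine hna ⟨⟨fun u v => ?_⟩⟩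
    have hcc : ∀ p q : C, Commute (p : T) q := fun p q => congrArg Subtype.val (mul_comm' p q)
    have hcσ : ∀ p q : C, Commute (p : T) (σ q) := by
      intro p q
      have h := (FPF64.pairing hT hna h3 hfp (p : T) q).2.1
      rw [(hcc p q).eq] at h
      simp only [mul_inv_cancel_right, mul_inv_cancel, map_one] at h
      exact mul_inv_eq_iff_eq_mul.mp (mul_inv_eq_one.mp h)
    obtain ⟨⟨p, q⟩, rfl⟩ := hsurjT u
    obtain ⟨⟨p', q'⟩, rfl⟩ := hsurjT v
    show Commute ((p : T) * σ q) ((p' : T) * σ q')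
    exact ((hcc p p').mul_right (hcσ p q')).mul_left ((hcσ p' q).symm.mul_right ((hcc q q').map σ))
  refine ⟨h8, hcnon, ?_⟩
  obtain ⟨p, q, hpq⟩ : ∃ p q : C, (p : T) * q * (p : T)⁻¹ * (q : T)⁻¹ ≠ 1 := by
    by_contra h
    push Not at h
    exact hcnon ⟨⟨fun p q => Subtype.ext (mul_inv_eq_iff_eq_mul.mp (mul_inv_eq_one.mp (h p q)))⟩⟩
  set c := (p : T) * q * (p : T)⁻¹ * (q : T)⁻¹ with hc
  have hcW : c ∈ W := ⟨hcen _ _, C.mul_mem (C.mul_mem (C.mul_mem p.2 q.2) (C.inv_mem p.2)) (C.inv_mem q.2)⟩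
  have hWc : ∀ w ∈ W, w = 1 ∨ w = c := by
    intro w hw
    by_contra h
    push Not at h
    haveI := Fintype.ofFinite W
    have h3' : ({1, ⟨w, hw⟩, ⟨c, hcW⟩} : Finset W).card = 3 := by
      rw [Finset.card_insert_of_notMem, Finset.card_insert_of_notMem, Finset.card_singleton] <;>
        simp [Subtype.ext_iff, Ne.symm h.1, Ne.symm hpq, h.2]
    have := Finset.card_le_univ ({1, ⟨w, hw⟩, ⟨c, hcW⟩} : Finset W)
    rw [h3', ← Nat.card_eq_fintype_card] at this
    omega
  have hsqC : ∀ r : C, (r : T) * r = 1 ∨ (r : T) * r = c := fun r => hWc _ ⟨hsq _, mul_mem r.2 r.2⟩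
  have hmul : ∀ u v : T, (u * v) * (u * v) = (v * u * v⁻¹ * u⁻¹) * (u * u * (v * v)) := by
    intro u v
    calc (u * v) * (u * v) = u * (v * u * v⁻¹ * u⁻¹) * (u * (v * v)) := by group
      _ = (v * u * v⁻¹ * u⁻¹) * u * (u * (v * v)) := by rw [← hcomm _ (hcen v u)]
      _ = _ := by group
  have hrev : ∀ u v : T, v * u * v⁻¹ * u⁻¹ = u * v * u⁻¹ * v⁻¹ := fun u v => by
    rw [← Invol.inv_eq_self_of_mul_self (hz2 _ (hcen u v))]; group
  have hcc : c * c = 1 := hz2 _ hcW.1
  rcases hsqC p with hp | hp <;> rcases hsqC q with hq | hq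
  · exact ⟨p, q, hp, hq, hpq⟩
  · refine ⟨p, (p : T) * q, hp, ?_, ?_⟩
    · rw [hmul, hrev, ← hc, hp, hq, one_mul, hcc]
    · rw [FPF64.comm_mul_right hcen, show (p : T) * p * (p : T)⁻¹ * (p : T)⁻¹ = 1 by group, one_mul]; exact hpq
  · refine ⟨(p : T) * q, q, ?_, hq, ?_⟩
    · rw [hmul, hrev, ← hc, hp, hq, mul_one, hcc]
    · rw [FPF64.comm_mul_left hcen, show (q : T) * q * (q : T)⁻¹ * (q : T)⁻¹ = 1 by group, mul_one]; exact hpq
  · -- quaternion case
    have hσc : σ c ∈ Z := hσz _ hcW.1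
    have hd : σ (σ c) = c * σ c := by
      rw [eq_inv_of_mul_eq_one_right (FPF64.fpf_commute h3 hfp c).1, mul_inv_rev,
        Invol.inv_eq_self_of_mul_self hcc, Invol.inv_eq_self_of_mul_self (hz2 _ hσc)]
      exact (hcomm c hcW.1 _).symm
    obtain ⟨-, hE, hF⟩ := FPF64.pairing hT hna h3 hfp (p : T) q
    rw [← hc] at hE hF
    have hqq : σ (q : T) * σ q = σ c := by rw [← map_mul, hq]
    have hq2 : σ (σ (q : T)) * σ (σ q) = c * σ c := by rw [← map_mul, ← map_mul, hq, hd]
    have hdd : c * σ c * (c * σ c) = 1 := hz2 _ (mul_mem hcW.1 hσc)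
    refine ⟨(p : T) * σ q, (p : T) * σ (σ q), ?_, ?_, ?_⟩
    · rw [hmul, hrev, hE, hp, hqq, hd, hdd]
    · rw [hmul, hrev, hF, hp, hq2, ← mul_assoc c c, hcc, one_mul, hz2 _ hσc]
    · have hqq' : σ (q : T) * σ (σ q) * (σ (q : T))⁻¹ * (σ (σ (q : T)))⁻¹ = 1 := by
        rw [(FPF64.fpf_commute h3 hfp (σ (q : T))).2.eq]; group
      have key : (p : T) * σ q * ((p : T) * σ (σ q)) * ((p : T) * σ q)⁻¹ * ((p : T) * σ (σ q))⁻¹ =
          σ c * (c * σ c) := by
        rw [FPF64.comm_mul_left hcen, FPF64.comm_mul_right hcen, FPF64.comm_mul_right hcen (σ (q : T)), hF, hqq',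
          hrev (p : T) (σ q), hE, hd, show (p : T) * p * (p : T)⁻¹ * (p : T)⁻¹ = 1 by group, one_mul, mul_one]
      rw [key]
      intro h
      apply hpq
      rw [← mul_one c]
      calc c * 1 = σ c * (c * σ c) := by rw [mul_one, ← mul_assoc, ← hcomm c hcW.1, mul_assoc, hz2 _ hσc, mul_one]
        _ = 1 := h

/-- Let T be a non-abelian group of order 64 admitting automorphisms ρ of order 3 and x of order 2 with x ρ x⁻¹ = ρ⁻¹ (so they generate a symmetric group of degree 3), where ρ fixes only the identity. Then T is isomorphic to a Sylow 2-subgroup of the projective special linear group of dimension 3 over the field with 4 elements, and the subgroup of fixed points of x is dihedral of order 8 or quaternion of order 8. -/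
theorem result {T : Type*} [Group T] [Finite T] (hT : Nat.card T = 64) (hna : ¬ IsMulCommutative T) (ρ x : MulAut T) (hρ : orderOf ρ = 3) (hx : orderOf x = 2)
    (hxr : x * ρ * x⁻¹ = ρ⁻¹) (hfp : ∀ y : T, ρ y = y → y = 1) (C : Subgroup T) (hC : ∀ y : T, y ∈ C ↔ x y = y) :
    (∃ (F : Type) (_ : Field F) (_ : Fintype F), Fintype.card F = 4 ∧
        ∃ S : Sylow 2 (Matrix.ProjectiveSpecialLinearGroup (Fin 3) F), Nonempty (T ≃* ↥(S : Subgroup (Matrix.ProjectiveSpecialLinearGroup (Fin 3) F)))) ∧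
      (Nonempty (↥C ≃* DihedralGroup 4) ∨ Nonempty (↥C ≃* QuaternionGroup 2)) := by
  classical
  have h3 : ∀ y, ρ (ρ (ρ y)) = y := fun y => by
    have := congrArg (fun f : MulAut T => f y) (show ρ * ρ * ρ = 1 by have h := pow_orderOf_eq_one ρ; rw [hρ] at h; simpa [pow_succ] using h)
    simpa only [MulAut.mul_apply, MulAut.one_apply] using this
  have hxx : ∀ y, x (x y) = y := fun y => by
    have := congrArg (fun f : MulAut T => f y) (Invol.mul_self_of_orderOf_two hx)
    simpa only [MulAut.mul_apply, MulAut.one_apply] using this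
  have hxσ : ∀ y, x (ρ y) = ρ (ρ (x y)) := fun y => by
    have := congrArg (fun f : MulAut T => f (x y)) hxr
    simp only [MulAut.mul_apply, MulAut.inv_apply, MulEquiv.symm_apply_apply] at this
    rw [this]
    apply ρ.injective
    rw [MulEquiv.apply_symm_apply, h3]
  obtain ⟨h8, hCn, a, b, ha, hb, hab⟩ := exists_involutions hT hna h3 hfp hxx hxσ C hC
  refine ⟨?_, ?_⟩
  · obtain ⟨f, hf, hfm⟩ := FPF64.exists_coords hT hna h3 hfp ha hb hab
    refine ⟨Enum.F4, inferInstance, inferInstance, Enum.F4.card_eq, ?_⟩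
    have hcardL := CoverL34.natCard_L34 Enum.F4 Enum.F4.card_eq
    let g : T →* Matrix.ProjectiveSpecialLinearGroup (Fin 3) Enum.F4 := MonoidHom.mk'
      (fun t => CoverL34.uP Enum.F4 (Function.surjInv hf.2 t).1 (Function.surjInv hf.2 t).2.1 (Function.surjInv hf.2 t).2.2)
      fun s t => by
        have e : Function.surjInv hf.2 (s * t) = ((Function.surjInv hf.2 s).1 + (Function.surjInv hf.2 t).1,
            (Function.surjInv hf.2 s).2.1 + (Function.surjInv hf.2 t).2.1,
            (Function.surjInv hf.2 s).2.2 + (Function.surjInv hf.2 t).2.2 + (Function.surjInv hf.2 s).1 * (Function.surjInv hf.2 t).2.1) := by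
          apply hf.1
          rw [← hfm, Function.surjInv_eq hf.2, Function.surjInv_eq hf.2, Function.surjInv_eq hf.2]
        rw [CoverL34.uP_mul, e]
    have hg : Function.Injective g := fun s t e => by
      obtain ⟨e1, e2, e3⟩ := CoverL34.uP_injective Enum.F4 e
      rw [← Function.surjInv_eq hf.2 s, ← Function.surjInv_eq hf.2 t]
      exact congrArg f (Prod.ext e1 (Prod.ext e2 e3))
    haveI : Fact (Nat.Prime 2) := ⟨Nat.prime_two⟩
    have hc : Nat.card g.range = 2 ^ (Nat.card (Matrix.ProjectiveSpecialLinearGroup (Fin 3) Enum.F4)).factorization 2 := by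
      rw [← Nat.card_congr (MonoidHom.ofInjective hg).toEquiv, hT, hcardL,
        show (20160 : ℕ) = 2 ^ 6 * 315 by norm_num, Nat.factorization_mul (by norm_num) (by norm_num),
        Nat.Prime.factorization_pow Nat.prime_two]
      simp [Nat.factorization_eq_zero_of_not_dvd (show ¬ 2 ∣ 315 by norm_num)]
    exact ⟨Sylow.ofCard g.range hc, ⟨MonoidHom.ofInjective hg⟩⟩
  · haveI : Fact (Nat.Prime 2) := ⟨Nat.prime_two⟩
    have hp : IsPGroup 2 C := IsPGroup.of_card (n := 3) (by rw [h8]; norm_num)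
    have h4 : (commutator C).index = 4 := by
      obtain ⟨-, hcen, -⟩ := FPF64.structure_64 hT hna h3 hfp
      have hne : commutator C ≠ ⊥ := fun e => hCn ⟨⟨fun u v => commutatorElement_eq_one_iff_mul_comm.mp
        (Subgroup.mem_bot.mp (e ▸ Subgroup.commutator_mem_commutator (Subgroup.mem_top u) (Subgroup.mem_top v)))⟩⟩
      obtain ⟨u, v, huv⟩ : ∃ u v : C, u * v ≠ v * u := by
        by_contra h
        push Not at h
        exact hCn ⟨⟨h⟩⟩
      haveI : Nontrivial C := ⟨⟨u * v, v * u, huv⟩⟩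
      have hle : commutator C ≤ Subgroup.center C := by
        rw [commutator_def, Subgroup.commutator_le]
        intro a _ b _
        exact Subgroup.mem_center_iff.mpr fun w => Subtype.ext (Subgroup.mem_center_iff.mp (hcen a b) w)
      have hz : Nat.card (Subgroup.center C) = 2 := by
        have hne1 : Subgroup.center C ≠ ⊥ := fun e => hne (le_bot_iff.mp (e ▸ hle))
        have hd := Subgroup.card_mul_index (Subgroup.center C)
        rw [h8] at hd
        have h1 : Nat.card (Subgroup.center C) ≠ 1 := fun e => hne1 ((Subgroup.card_eq_one).mp e)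
        have h2 : (Subgroup.center C).index ≠ 2 ∧ (Subgroup.center C).index ≠ 1 := by
          constructor <;> intro e
          · haveI : Fact (Nat.Prime 2) := ⟨Nat.prime_two⟩
            haveI := isCyclic_of_prime_card (α := C ⧸ Subgroup.center C) (p := 2) e
            exact huv (commutative_of_cyclic_center_quotient (QuotientGroup.mk' (Subgroup.center C))
              (QuotientGroup.ker_mk' _).le u v)
          · exact huv ((Subgroup.mem_center_iff.mp (Subgroup.index_eq_one.mp e ▸ Subgroup.mem_top v)) u)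
        have h3 : (Subgroup.center C).index ∣ 8 := Dvd.intro_left _ hd
        have h5 := Nat.le_of_dvd (by norm_num) h3
        interval_cases hi : (Subgroup.center C).index <;> omega
      have h1 := Subgroup.card_le_of_le hle
      have h1' : Nat.card (commutator C) ≠ 1 := fun e => hne ((Subgroup.card_eq_one).mp e)
      have h2' := Subgroup.card_mul_index (commutator C)
      have := Nat.card_pos (α := commutator C)
      have h3' : Nat.card (commutator C) = 2 := by omega
      rw [h3', h8] at h2'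
      omega
    obtain ⟨D⟩ := Invol.MaxClassTwo.exists_mcData hp hCn h4
    have hm : D.m = 2 := by
      have h := D.card
      rw [h8, show 8 = 2 ^ 3 by norm_num] at h
      have := Nat.pow_right_injective (le_refl 2) h
      omega
    rcases Invol.MaxClassTwo.iso_cases D with ⟨e⟩ | ⟨e⟩ | h
    · rw [hm] at e; exact Or.inl e
    · rw [hm] at e; exact Or.inr e
    · obtain ⟨n, hn, hcn, -⟩ := h
      rw [h8, show 8 = 2 ^ 3 by norm_num] at hcn
      have := Nat.pow_right_injective (le_refl 2) hcn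
      omega

end Cfsg.Agent.S3157
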