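import Cfsg.Statements.S3158
import Mathlib
import Cfsg.Agent.Lib.InvChar.Basics

set_option autoImplicit false
open Cfsg

namespace Cfsg.Agent.S3158

/-- Let U be a group of order q² with q = 2^n ≥ 2, and y an automorphism of U of order q − 1 all of whose nontrivial powers fix only the identity. Let V be a proper normal y-invariant subgroup of U such that V and U/V are elementary abelian 2-groups and there is an isomorphism from V to U/V commuting with the actions of y. Then U is abelian. -/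
theorem result {U : Type*} [Group U] [Finite U] (n : ℕ) (hn : 1 ≤ n) (hU : Nat.card U = (2 ^ n) ^ 2)
    (y : MulAut U) (hy : orderOf y = 2 ^ n - 1) (hfp : ∀ k : ℕ, y ^ k ≠ 1 → ∀ u : U, (y ^ k) u = u → u = 1)
    (V : Subgroup U) [V.Normal] (hV : V ≠ ⊤) (hyV : ∀ v ∈ V, y v ∈ V)
    (hVe : ∀ v ∈ V, v ^ 2 = 1) (hQe : ∀ u : U, u ^ 2 ∈ V) (hQc : ∀ u w : U, u * w * u⁻¹ * w⁻¹ ∈ V)
    (φ : ↥V ≃* U ⧸ V) (hφ : ∀ (v : ↥V) (u : U), (QuotientGroup.mk u : U ⧸ V) = φ v → φ ⟨y v, hyV v v.2⟩ = QuotientGroup.mk (y u)) :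
    IsMulCommutative U := by
  have hVcard : Nat.card V = 2 ^ n := by
    have h1 := Subgroup.card_eq_card_quotient_mul_card_subgroup V
    rw [← Nat.card_congr φ.toEquiv, hU, ← pow_two] at h1
    exact (Nat.pow_left_injective (by norm_num : 2 ≠ 0) h1).symm
  have h2n : 2 ≤ 2 ^ n := Nat.le_self_pow (by omega) 2
  have hVnt : V ≠ ⊥ := by
    intro h; rw [h, Subgroup.card_bot] at hVcard; omega
  obtain ⟨v0, hv0⟩ : ∃ v : V, v ≠ 1 := by
    rw [Subgroup.ne_bot_iff_exists_ne_one] at hVnt; exact hVnt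
  -- regular orbit
  have hpow : ∀ (k : ℕ) (v : U), v ∈ V → (y ^ k) v ∈ V := by
    intro k
    induction k with
    | zero => intro v hv; simpa using hv
    | succ k ih => intro v hv; rw [pow_succ', MulAut.mul_apply]; exact hyV _ (ih v hv)
  let F : Fin (2 ^ n - 1) → {v : V // v ≠ 1} := fun i => ⟨⟨(y ^ (i:ℕ)) v0, hpow i v0 v0.2⟩, by
    intro h
    apply hv0
    apply Subtype.ext
    have h' : (y ^ (i:ℕ)) (v0 : U) = 1 := congrArg Subtype.val h
    exact (y ^ (i:ℕ)).injective (h'.trans (map_one _).symm)⟩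
  have hFinj : Function.Injective F := by
    have aux : ∀ a b : ℕ, a ≤ b → b < 2 ^ n - 1 → (y ^ a) (v0:U) = (y ^ b) (v0:U) → a = b := by
      intro a b hab hb he
      by_contra hne
      have hk : y ^ (b - a) ≠ 1 := by
        rw [Ne, ← orderOf_dvd_iff_pow_eq_one, hy]
        intro hd
        have := Nat.le_of_dvd (by omega) hd
        omega
      apply hv0
      apply Subtype.ext
      have hfx : (y ^ (b - a)) ((y ^ a) (v0:U)) = (y ^ a) (v0:U) := by
        rw [← MulAut.mul_apply, ← pow_add, Nat.sub_add_cancel hab, ← he]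
      exact (y ^ a).injective ((hfp (b - a) hk _ hfx).trans (map_one _).symm)
    intro a b he
    have he' : (y ^ (a:ℕ)) (v0:U) = (y ^ (b:ℕ)) (v0:U) := congrArg (fun z : {v : V // v ≠ 1} => ((z : V) : U)) he
    rcases le_total (a:ℕ) b with h | h
    · exact Fin.ext (aux _ _ h b.2 he')
    · exact Fin.ext (aux _ _ h a.2 he'.symm).symm
  have hFsurj : Function.Surjective F := by
    classical
    have := Fintype.ofFinite V
    refine ((Fintype.bijective_iff_injective_and_card F).mpr ⟨hFinj, ?_⟩).2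
    rw [Fintype.card_subtype_compl, Fintype.card_subtype_eq, Fintype.card_fin, ← Nat.card_eq_fintype_card, hVcard]
  have htrans : ∀ v : V, v ≠ 1 → ∃ k : ℕ, (v:U) = (y ^ k) v0 := by
    intro v hv
    obtain ⟨i, hi⟩ := hFsurj ⟨v, hv⟩
    exact ⟨i, congrArg (fun z : {v : V // v ≠ 1} => ((z : V) : U)) hi.symm⟩
  -- V is central
  have hV2 : IsPGroup 2 V := IsPGroup.of_card hVcard
  have hUp : IsPGroup 2 U := IsPGroup.of_card (n := n * 2) (by rw [hU, pow_mul])
  obtain ⟨c, hcV, hc1⟩ : ∃ c ∈ V ⊓ Subgroup.center U, c ≠ 1 := by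
    obtain ⟨c, h1, h2, h3⟩ := Cfsg.Agent.InvChar.exists_mem_center_of_normal hUp V hVnt
    exact ⟨c, ⟨h1, h2⟩, h3⟩
  obtain ⟨k0, hk0⟩ := htrans ⟨c, hcV.1⟩ (fun e => hc1 (congrArg Subtype.val e))
  have hcen : ∀ v : U, v ∈ V → v ∈ Subgroup.center U := by
    intro v hv
    by_cases h1 : v = 1
    · rw [h1]; exact one_mem _
    obtain ⟨k, hk⟩ := htrans ⟨v, hv⟩ (fun e => h1 (congrArg Subtype.val e))
    have : v = ((y ^ k) * (y ^ k0)⁻¹) c := by
      rw [MulAut.mul_apply, show c = (y ^ k0) (v0:U) from hk0, MulAut.inv_apply, MulEquiv.symm_apply_apply]; exact hk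
    rw [this]
    have hchar : (Subgroup.center U).Characteristic := inferInstance
    have := hchar.fixed ((y ^ k) * (y ^ k0)⁻¹)
    exact Subgroup.mem_comap.mp (this.symm ▸ hcV.2)
  -- squaring
  let Q : V → U := fun v => (Quotient.out (φ v)) ^ 2
  have hsq : ∀ (u : U) (v : V), (QuotientGroup.mk u : U ⧸ V) = φ v → u ^ 2 = Q v := by
    intro u v hu
    obtain ⟨w, hw, hwu⟩ : ∃ w ∈ V, u = Quotient.out (φ v) * w := by
      refine ⟨(Quotient.out (φ v))⁻¹ * u, ?_, by group⟩
      rw [← QuotientGroup.eq]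
      rw [hu]; exact QuotientGroup.out_eq' _
    rw [hwu]
    have hcomm : Commute (Quotient.out (φ v)) w := (Subgroup.mem_center_iff.mp (hcen w hw) _)
    rw [hcomm.mul_pow, hVe w hw, mul_one]
  have hQy : ∀ v : V, Q ⟨y v, hyV v v.2⟩ = y (Q v) := by
    intro v
    have h1 : (QuotientGroup.mk (Quotient.out (φ v)) : U ⧸ V) = φ v := QuotientGroup.out_eq' _
    rw [← hsq _ _ (hφ v _ h1).symm, map_pow]
  have hQk : ∀ (k : ℕ) (v : V), Q ⟨(y ^ k) v, hpow k v v.2⟩ = (y ^ k) (Q v) := by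
    intro k
    induction k with
    | zero => intro v; simp
    | succ k ih =>
      intro v
      have := hQy ⟨(y ^ k) v, hpow k v v.2⟩
      rw [ih v] at this
      simp only [pow_succ', MulAut.mul_apply] at *
      exact this
  have hQ1 : Q 1 = 1 := by
    have := hsq 1 1 (by simp)
    simpa using this.symm
  have key : ∃ ψ : MulAut U, ∀ v : V, Q v = ψ v ∨ Q v = 1 ∧ ∀ w : V, Q w = 1 := by
    by_cases hq0 : Q v0 = 1
    · refine ⟨1, fun v => Or.inr ?_⟩
      have all : ∀ w : V, Q w = 1 := by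
        intro w
        by_cases hw : w = 1
        · rw [hw, hQ1]
        obtain ⟨k, hk⟩ := htrans w hw
        rw [show w = ⟨(y ^ k) v0, hpow k v0 v0.2⟩ from Subtype.ext hk, hQk, hq0, map_one]
      exact ⟨all v, all⟩
    · obtain ⟨j, hj⟩ := htrans ⟨Q v0, hQe _⟩ (fun e => hq0 (congrArg Subtype.val e))
      refine ⟨y ^ j, fun v => Or.inl ?_⟩
      by_cases hv : v = 1
      · rw [hv, hQ1]; simp
      obtain ⟨k, hk⟩ := htrans v hv
      rw [show v = ⟨(y ^ k) v0, hpow k v0 v0.2⟩ from Subtype.ext hk, hQk]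
      show (y ^ k) (Q v0) = (y ^ j) ((y ^ k) v0)
      rw [show Q v0 = (y ^ j) v0 from hj, ← MulAut.mul_apply, ← MulAut.mul_apply, ← pow_add, ← pow_add, add_comm]
  obtain ⟨ψ, hψ⟩ := key
  have hsqhom : ∀ a b : U, (a * b) ^ 2 = a ^ 2 * b ^ 2 := by
    intro a b
    obtain ⟨va, ha⟩ := φ.surjective (QuotientGroup.mk a)
    obtain ⟨vb, hb⟩ := φ.surjective (QuotientGroup.mk b)
    have hab : (QuotientGroup.mk (a * b) : U ⧸ V) = φ (va * vb) := by rw [map_mul, ha, hb]; rfl
    rw [hsq _ _ ha.symm, hsq _ _ hb.symm, hsq _ _ hab]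
    rcases hψ va with h | ⟨_, h⟩
    · rcases hψ vb with h' | ⟨_, h'⟩
      · rcases hψ (va * vb) with h'' | ⟨_, h''⟩
        · rw [h, h', h'', Subgroup.coe_mul, map_mul]
        · simp [h'']
      · simp [h']
    · simp [h]
  refine ⟨⟨fun a b => ?_⟩⟩
  have h := hsqhom b a
  rw [pow_two, pow_two, pow_two] at h
  have h' : b * (a * (b * a)) = b * (b * (a * a)) := by simpa [mul_assoc] using h
  have h'' := mul_left_cancel h'
  rw [← mul_assoc, ← mul_assoc] at h''
  exact mul_right_cancel h''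

end Cfsg.Agent.S3158
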