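import Cfsg.Statements.S3163
import Mathlib

set_option autoImplicit false
open Cfsg

namespace Cfsg.Agent.S3163

/-- Let S be a non-abelian finite 2-group which is the product S = AB of two elementary abelian subgroups A and B, and suppose that the centralizer in S of every element of A outside B is exactly A. Then the centralizer of every element of B outside A is exactly B; A and B are maximal elementary abelian subgroups of S and the only ones; the centre of S is A ∩ B; and every element of S outside A ∪ B has centralizer of order at most min(|A|, |B|). -/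
theorem result {S : Type*} [Group S] [Finite S] (hS : IsPGroup 2 S) (hna : ¬ IsMulCommutative S) (A B : Subgroup S)
    (hA : Cfsg.IsElementaryAbelian 2 A) (hB : Cfsg.IsElementaryAbelian 2 B) (hAB : ∀ s : S, ∃ a ∈ A, ∃ b ∈ B, s = a * b)
    (hC : ∀ a ∈ A, a ∉ B → Subgroup.centralizer ({a} : Set S) = A) :
    (∀ b ∈ B, b ∉ A → Subgroup.centralizer ({b} : Set S) = B) ∧
      (∀ E : Subgroup S, Cfsg.IsElementaryAbelian 2 E → (∀ E' : Subgroup S, Cfsg.IsElementaryAbelian 2 E' → E ≤ E' → E' = E) → E = A ∨ E = B) ∧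
      (∀ E' : Subgroup S, Cfsg.IsElementaryAbelian 2 E' → A ≤ E' → E' = A) ∧ (∀ E' : Subgroup S, Cfsg.IsElementaryAbelian 2 E' → B ≤ E' → E' = B) ∧
      Subgroup.center S = A ⊓ B ∧
      (∀ x : S, x ∉ A → x ∉ B → Nat.card ↥(Subgroup.centralizer ({x} : Set S)) ≤ min (Nat.card ↥A) (Nat.card ↥B)) := by
  have hAc : ∀ x ∈ A, ∀ y ∈ A, x * y = y * x := fun x hx y hy =>
    congrArg Subtype.val (hA.1.is_comm.comm ⟨x, hx⟩ ⟨y, hy⟩)
  have hBc : ∀ x ∈ B, ∀ y ∈ B, x * y = y * x := fun x hx y hy =>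
    congrArg Subtype.val (hB.1.is_comm.comm ⟨x, hx⟩ ⟨y, hy⟩)
  have hinvA : ∀ x ∈ A, x⁻¹ = x := fun x hx => inv_eq_of_mul_eq_one_right (by rw [← pow_two]; exact hA.2 x hx)
  have hinvB : ∀ x ∈ B, x⁻¹ = x := fun x hx => inv_eq_of_mul_eq_one_right (by rw [← pow_two]; exact hB.2 x hx)
  have hnB : ∃ b ∈ B, b ∉ A := by
    by_contra h
    push Not at h
    refine hna ⟨⟨fun x y => ?_⟩⟩
    obtain ⟨a, ha, b, hb, rfl⟩ := hAB x
    obtain ⟨a', ha', b', hb', rfl⟩ := hAB y
    exact hAc _ (mul_mem ha (h b hb)) _ (mul_mem ha' (h b' hb'))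
  have hnA : ∃ a ∈ A, a ∉ B := by
    by_contra h
    push Not at h
    refine hna ⟨⟨fun x y => ?_⟩⟩
    obtain ⟨a, ha, b, hb, rfl⟩ := hAB x
    obtain ⟨a', ha', b', hb', rfl⟩ := hAB y
    exact hBc _ (mul_mem (h a ha) hb) _ (mul_mem (h a' ha') hb')
  have hCa : ∀ a ∈ A, a ∉ B → ∀ x, x * a = a * x → x ∈ A := fun a ha haB x hx => by
    rw [← hC a ha haB]; exact Subgroup.mem_centralizer_singleton_iff.mpr hx
  have hCbA : ∀ b ∈ B, b ∉ A → ∀ a ∈ A, a * b = b * a → a ∈ B := fun b hb hbA a ha h => by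
    by_contra haB
    exact hbA (hCa a ha haB b h.symm)
  have hCb : ∀ b ∈ B, b ∉ A → Subgroup.centralizer ({b} : Set S) = B := by
    intro b hb hbA
    ext x
    rw [Subgroup.mem_centralizer_singleton_iff]
    constructor
    · intro hx
      obtain ⟨a, ha, b1, hb1, rfl⟩ := hAB x
      have : a * b = b * a := by
        rw [mul_assoc, hBc b1 hb1 b hb, ← mul_assoc, ← mul_assoc] at hx
        exact mul_right_cancel hx
      exact mul_mem (hCbA b hb hbA a ha this) hb1
    · exact fun hx => hBc x hx b hb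
  have hinter : ∀ z, z ∈ A → z ∈ B → z ∈ Subgroup.center S := by
    intro z hzA hzB
    rw [Subgroup.mem_center_iff]
    intro x
    obtain ⟨a, ha, b, hb, rfl⟩ := hAB x
    rw [mul_assoc, hBc b hb z hzB, ← mul_assoc, hAc a ha z hzA, mul_assoc]
  have hcenter : Subgroup.center S = A ⊓ B := by
    refine le_antisymm (fun z hz => ?_) (fun z hz => hinter z hz.1 hz.2)
    obtain ⟨a, ha, haB⟩ := hnA
    obtain ⟨b, hb, hbA⟩ := hnB
    have h1 : z ∈ A := hCa a ha haB z ((Subgroup.mem_center_iff.mp hz a).symm)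
    exact ⟨h1, hCbA b hb hbA z h1 ((Subgroup.mem_center_iff.mp hz b).symm)⟩
  have hinv : ∀ x : S, x * x = 1 → x ∈ A ∨ x ∈ B := by
    intro x hx
    obtain ⟨a, ha, b, hb, rfl⟩ := hAB x
    by_cases hbA : b ∈ A
    · exact Or.inl (mul_mem ha hbA)
    · refine Or.inr (mul_mem (hCbA b hb hbA a ha ?_) hb)
      calc a * b = (a * b)⁻¹ := (inv_eq_of_mul_eq_one_right hx).symm
        _ = b * a := by rw [mul_inv_rev, hinvA a ha, hinvB b hb]
  have hmax1 : ∀ E' : Subgroup S, Cfsg.IsElementaryAbelian 2 E' → A ≤ E' → E' = A := by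
    intro E' hE hle
    obtain ⟨a, ha, haB⟩ := hnA
    exact le_antisymm (fun x hx => hCa a ha haB x (congrArg Subtype.val (hE.1.is_comm.comm ⟨x, hx⟩ ⟨a, hle ha⟩))) hle
  have hmax2 : ∀ E' : Subgroup S, Cfsg.IsElementaryAbelian 2 E' → B ≤ E' → E' = B := by
    intro E' hE hle
    obtain ⟨b, hb, hbA⟩ := hnB
    refine le_antisymm (fun x hx => ?_) hle
    rw [← hCb b hb hbA, Subgroup.mem_centralizer_singleton_iff]
    exact congrArg Subtype.val (hE.1.is_comm.comm ⟨x, hx⟩ ⟨b, hle hb⟩)
  refine ⟨hCb, ?_, hmax1, hmax2, hcenter, ?_⟩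
  · intro E hE hEmax
    by_cases hEA : E ≤ A
    · exact Or.inl (hEmax A hA hEA).symm
    · obtain ⟨e, he, heA⟩ := SetLike.not_le_iff_exists.mp hEA
      refine Or.inr (hEmax B hB fun x hx => ?_).symm
      have heB : e ∈ B := (hinv e (by rw [← pow_two]; exact hE.2 e he)).resolve_left heA
      rcases hinv x (by rw [← pow_two]; exact hE.2 x hx) with hxA | hxB
      · exact hCbA e heB heA x hxA (congrArg Subtype.val (hE.1.is_comm.comm ⟨x, hx⟩ ⟨e, he⟩))
      · exact hxB
  · intro x hxA hxB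
    have key : ∀ (U V : Subgroup S), (∀ s : S, ∃ v ∈ V, ∃ u ∈ U, s = v * u) → Subgroup.centralizer ({x} : Set S) ⊓ U ≤ V →
        Nat.card ↥(Subgroup.centralizer ({x} : Set S)) ≤ Nat.card ↥V := by
      intro U V hVU hle
      set C := Subgroup.centralizer ({x} : Set S)
      have h1 : U.relIndex C ≤ U.index := by
        rw [← Subgroup.relIndex_top_right]
        exact Subgroup.relIndex_le_of_le_right le_top Subgroup.index_ne_zero_of_finite
      have h2 : U.index ≤ U.relIndex V := by
        refine Nat.card_le_card_of_surjective (Quotient.map' (fun v : V => (v : S)) ?_) ?_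
        · intro v w h
          rw [QuotientGroup.leftRel_apply] at h ⊢
          exact h
        · intro q
          induction q using QuotientGroup.induction_on with
          | _ s =>
            obtain ⟨v, hv, u, hu, rfl⟩ := hVU s
            refine ⟨QuotientGroup.mk ⟨v, hv⟩, ?_⟩
            show QuotientGroup.mk v = QuotientGroup.mk (v * u)
            rw [QuotientGroup.eq, inv_mul_cancel_left]; exact hu
      have h3 : Nat.card ↥(U.subgroupOf C) ≤ Nat.card ↥(U.subgroupOf V) := by
        refine Nat.card_le_card_of_injective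
          (fun z => ⟨⟨((z : C) : S), hle ⟨(z : C).2, z.2⟩⟩, z.2⟩) ?_
        intro a b h
        exact Subtype.ext (Subtype.ext (congrArg (fun w : U.subgroupOf V => ((w : V) : S)) h))
      calc Nat.card ↥C = Nat.card ↥(U.subgroupOf C) * U.relIndex C := (Subgroup.card_mul_index _).symm
        _ ≤ Nat.card ↥(U.subgroupOf V) * U.relIndex V := Nat.mul_le_mul h3 (h1.trans h2)
        _ = Nat.card ↥V := Subgroup.card_mul_index _
    have hCA : ∀ a ∈ A, a * x = x * a → a ∈ B := fun a ha h => by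
      by_contra haB
      exact hxA (hCa a ha haB x h.symm)
    have hCB : ∀ b ∈ B, b * x = x * b → b ∈ A := fun b hb h => by
      by_contra hbA
      exact hxB (by rw [← hCb b hb hbA]; exact Subgroup.mem_centralizer_singleton_iff.mpr h.symm)
    refine le_min (key B A (fun s => hAB s) fun z hz => ?_) (key A B (fun s => ?_) fun z hz => ?_)
    · exact hCB z hz.2 (Subgroup.mem_centralizer_singleton_iff.mp hz.1)
    · obtain ⟨a, ha, b, hb, he⟩ := hAB s⁻¹
      exact ⟨b, hb, a, ha, by rw [← inv_inv s, he, mul_inv_rev, hinvA a ha, hinvB b hb]⟩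
    · exact hCA z hz.2 (Subgroup.mem_centralizer_singleton_iff.mp hz.1)

end Cfsg.Agent.S3163
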