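import Cfsg.Statements.S3164
import Cfsg.Agent.Lib.InvChar.StdCore
import Cfsg.Agent.Lib.Components.FStar2
import Cfsg.Agent.Lib.Components.PTimesQ
import Cfsg.Agent.Lib.Components.Layer
import Cfsg.Agent.Lib.Basics.CoprimeGen
import Cfsg.Agent.Lib.Invol.ZStarCons

set_option autoImplicit false
open Cfsg

namespace Cfsg.Agent.S3164

set_option autoImplicit false
set_option linter.unusedSectionVars false

open Subgroup Cfsg Cfsg.Agent
open scoped commutatorElement

/-- A normal perfect subgroup inside the layer is its own layer. -/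
theorem layer_eq_top_of_le {G : Type*} [Group G] [Finite G] {N : Subgroup G} [N.Normal]
    (hN : N ≤ layer G) (hp : ⁅N, N⁆ = N) : layer ↥N = ⊤ := by
  set M : Subgroup G := (layer ↥N).map N.subtype with hM
  have hE : layer G ≤ M ⊔ centralizer (N : Set G) := by
    rw [Components.layer_le_iff]
    intro L hL
    have hLN : L ≤ normalizer (N : Set G) := by
      rw [normalizer_eq_top]; exact le_top
    rcases Components.isQuasisimple_normalized_cases hL.2 hLN with h | h
    · refine le_trans ?_ le_sup_left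
      rw [hM, ← map_subgroupOf_eq_of_le h]
      exact map_mono (Components.component_le_layer (Components.isComponent_subgroupOf hL h))
    · refine le_trans ?_ le_sup_right
      have hNL : N ≤ normalizer (L : Set G) := hN.trans (Components.layer_le_normalizer hL)
      have h1 : ⁅L, N⁆ ≤ centralizer (L : Set G) :=
        (le_inf (commutator_le_right L N) (le_normalizer_iff_commutator_le_left.mp hNL)).trans h
      have h2 : ⁅⁅L, N⁆, L⁆ = ⊥ := commutator_eq_bot_iff_le_centralizer.mpr h1
      have h3 : ⁅⁅N, L⁆, L⁆ = ⊥ := by rw [commutator_comm N L]; exact h2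
      have h4 := commutator_commutator_eq_bot_of_rotate (H₁ := L) (H₂ := L) (H₃ := N) h2 h3
      rw [Components.isQuasisimple_commutator_eq_self hL.2] at h4
      exact commutator_eq_bot_iff_le_centralizer.mp h4
  have hMN : M ≤ N := map_subtype_le _
  have hcn : centralizer (N : Set G) ≤ normalizer (M : Set G) :=
    (centralizer_le hMN).trans (centralizer_le_normalizer _)
  have hdec : ∀ x ∈ N, ∃ m ∈ M, ∀ y ∈ N, Commute (m⁻¹ * x) y := by
    intro x hx
    have hx' : x ∈ ((M ⊔ centralizer (N : Set G) : Subgroup G) : Set G) := hE (hN hx)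
    rw [coe_mul_of_right_le_normalizer_left _ _ hcn] at hx'
    obtain ⟨m, hm, c, hc, rfl⟩ := hx'
    refine ⟨m, hm, fun y hy => ?_⟩
    rw [inv_mul_cancel_left]
    exact (mem_centralizer_iff.mp hc y hy).symm
  have hle : N ≤ M := by
    conv_lhs => rw [← hp]
    rw [commutator_le]
    intro x hx y hy
    obtain ⟨m₁, hm₁, h₁⟩ := hdec x hx
    obtain ⟨m₂, hm₂, h₂⟩ := hdec y hy
    set c₁ := m₁⁻¹ * x with hc₁
    set c₂ := m₂⁻¹ * y with hc₂
    have hxe : x = m₁ * c₁ := by rw [hc₁, mul_inv_cancel_left]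
    have hye : y = m₂ * c₂ := by rw [hc₂, mul_inv_cancel_left]
    have e : ⁅x, y⁆ = ⁅m₁, m₂⁆ := by
      have a1 : Commute c₁ y := h₁ y hy
      have a2 : Commute c₂ m₁ := h₂ m₁ (hMN hm₁)
      calc ⁅x, y⁆ = m₁ * (c₁ * y * c₁⁻¹) * m₁⁻¹ * y⁻¹ := by rw [commutatorElement_def, hxe]; group
        _ = m₁ * (m₂ * c₂) * m₁⁻¹ * (m₂ * c₂)⁻¹ := by rw [a1.eq, mul_inv_cancel_right, ← hye]
        _ = m₁ * m₂ * (c₂ * m₁⁻¹) * c₂⁻¹ * m₂⁻¹ := by group
        _ = ⁅m₁, m₂⁆ := by rw [a2.inv_right.eq, commutatorElement_def]; group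
    rw [e]
    exact M.mul_mem (M.mul_mem (M.mul_mem hm₁ hm₂) (inv_mem hm₁)) (inv_mem hm₂)
  rw [← map_subtype_inj, ← hM, ← MonoidHom.range_eq_map, range_subtype]
  exact le_antisymm hMN hle

theorem exists_fixed_involution {G : Type*} [Group G] [Finite G] (N : Subgroup G) [N.Normal]
    (hN : Even (Nat.card N)) {t : G} (ht : t * t = 1) :
    ∃ j ∈ N, orderOf j = 2 ∧ Commute j t := by
  classical
  haveI : Fact (Nat.Prime 2) := ⟨Nat.prime_two⟩
  haveI := Fintype.ofFinite N
  let f : Function.End N := fun n => ⟨t * n * t⁻¹, (inferInstance : N.Normal).conj_mem _ n.2 t⟩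
  have hf : f ^ 2 ^ 1 = 1 := by
    rw [pow_one, pow_two]
    funext n
    refine Subtype.ext ?_
    show t * (t * n * t⁻¹) * t⁻¹ = n
    rw [show t * (t * (n : G) * t⁻¹) * t⁻¹ = t * t * n * (t * t)⁻¹ by group, ht]
    group
  have h := Equiv.Perm.card_fixedPoints_modEq hf
  set M := N ⊓ centralizer ({t} : Set G) with hM
  have he : Fintype.card (Function.fixedPoints f) = Nat.card M := by
    rw [← Nat.card_eq_fintype_card]
    refine Nat.card_congr
      { toFun := fun n => ⟨n.1.1, n.1.2, mem_centralizer_singleton_iff.mpr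
          (mul_inv_eq_iff_eq_mul.mp (congrArg Subtype.val n.2)).symm⟩
        invFun := fun m => ⟨⟨m.1, m.2.1⟩, Subtype.ext (mul_inv_eq_iff_eq_mul.mpr
          (mem_centralizer_singleton_iff.mp m.2.2).symm)⟩
        left_inv := fun n => rfl
        right_inv := fun m => rfl }
  rw [he, ← Nat.card_eq_fintype_card, Nat.ModEq] at h
  have h2 : 2 ∣ Nat.card M := by have := Nat.even_iff.mp hN; omega
  obtain ⟨⟨j, hjN, hjt⟩, hj⟩ := exists_prime_orderOf_dvd_card' (G := M) 2 h2
  rw [← Subgroup.orderOf_coe] at hj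
  exact ⟨j, hjN, hj, mem_centralizer_singleton_iff.mp hjt⟩

section

variable {G : Type*} [Group G] [Finite G]

theorem key (A : Subgroup G) (hA : IsStandardSubgroup A)
    (hcyc : ∀ R : Sylow 2 ↥(centralizer (A : Set G)), IsCyclic ↥(R : Subgroup ↥(centralizer (A : Set G))))
    (t : G) (ht : orderOf t = 2) (htA : t ∈ centralizer (A : Set G))
    (r a : G) (hae : a = r * t * r⁻¹ * t) (ha : a ∈ A) (hra : r⁻¹ * a * r ∈ A) (ha1 : a ≠ 1) :
    A ≤ layer G ∧ ∀ N : Subgroup G, N.Normal → Even (Nat.card N) → N ≤ centralizer (A : Set G) → t ∈ N := by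
  classical
  haveI : Fact (Nat.Prime 2) := ⟨Nat.prime_two⟩
  obtain ⟨hqs, ⟨-, htight⟩, -, hNK⟩ := hA
  set K := centralizer (A : Set G) with hKdef
  have ht2 := Invol.mul_self_of_orderOf_two ht
  have ht1 := Invol.ne_one_of_orderOf_two ht
  -- commuting involutions of `K` coincide
  have huniq : ∀ i j : G, i ∈ K → j ∈ K → orderOf i = 2 → orderOf j = 2 → Commute i j → i = j := by
    intro i j hi hj hio hjo hij
    set P : Subgroup K := zpowers (⟨i, hi⟩ : K) ⊔ zpowers ⟨j, hj⟩ with hP
    have hp1 : IsPGroup 2 (zpowers (⟨i, hi⟩ : K)) := IsPGroup.of_card (n := 1)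
      (by rw [Nat.card_zpowers, Subgroup.orderOf_mk, hio, pow_one])
    have hp2 : IsPGroup 2 (zpowers (⟨j, hj⟩ : K)) := IsPGroup.of_card (n := 1)
      (by rw [Nat.card_zpowers, Subgroup.orderOf_mk, hjo, pow_one])
    have hPp : IsPGroup 2 P := hp1.to_sup_of_normal_right' hp2 (by
      rw [zpowers_le]
      refine centralizer_le_normalizer _ ?_
      rw [mem_centralizer_iff]
      rintro _ ⟨k, rfl⟩
      exact (((show Commute (⟨i, hi⟩ : K) ⟨j, hj⟩ from Subtype.ext hij.eq).zpow_right k).symm).eq)
    obtain ⟨S, hS⟩ := hPp.exists_le_sylow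
    haveI := hcyc S
    have hiS : (⟨i, hi⟩ : K) ∈ (S : Subgroup K) := hS (mem_sup_left (mem_zpowers _))
    have hjS : (⟨j, hj⟩ : K) ∈ (S : Subgroup K) := hS (mem_sup_right (mem_zpowers _))
    haveI := Fintype.ofFinite (S : Subgroup K)
    have hc := IsCyclic.card_orderOf_eq_totient (α := (S : Subgroup K)) (d := 2)
      (by
        have := orderOf_dvd_card (x := (⟨_, hiS⟩ : (S : Subgroup K)))
        rwa [Subgroup.orderOf_mk, Subgroup.orderOf_mk, hio] at this)
    rw [Nat.totient_two] at hc
    have := Finset.card_le_one.mp hc.le (⟨_, hiS⟩ : (S : Subgroup K))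
      (by simp [Subgroup.orderOf_mk, hio]) ⟨_, hjS⟩ (by simp [Subgroup.orderOf_mk, hjo])
    exact congrArg Subtype.val (congrArg Subtype.val this)
  -- the centralizer of `t` normalizes `A`
  have hCt : ∀ c : G, Commute c t → c ∈ normalizer (A : Set G) := by
    intro c hc
    rw [hNK]
    by_contra hn
    have h1 := htight c hn
    have h2 : orderOf t ∣ Nat.card ↥(K ⊓ K.map (MulAut.conj c).toMonoidHom) :=
      Subgroup.orderOf_dvd_natCard _ ⟨htA, t, htA, show c * t * c⁻¹ = t by rw [hc.eq, mul_inv_cancel_right]⟩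
    rw [ht] at h2
    exact Nat.not_even_iff_odd.mpr h1 (even_iff_two_dvd.mpr h2)
  have hat : Commute a t := mem_centralizer_iff.mp htA a ha
  have hti : t⁻¹ = t := inv_eq_of_mul_eq_one_right ht2
  set t' := r * t * r⁻¹ with ht'
  have ht'e : t' = a * t := by rw [hae, mul_assoc, ht2, mul_one]
  have ht'o : orderOf t' = 2 := by rw [ht', Invol.orderOf_conj, ht]
  have ht'2 := Invol.mul_self_of_orderOf_two ht'o
  have ha2 : a * a = 1 := by
    calc a * a = a * a * (t * t) := by rw [ht2, mul_one]
      _ = a * t * (a * t) := hat.mul_mul_mul_comm a t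
      _ = 1 := by rw [← ht'e, ht'2]
  -- `a` is not central in `A`
  have haK : a ∉ K := by
    intro h
    have h' : t' ∈ K := by rw [ht'e]; exact mul_mem h htA
    have := huniq t' t h' htA ht'o ht (by rw [ht'e]; exact hat.mul_left (Commute.refl t))
    rw [ht'e, mul_eq_right] at this
    exact ha1 this
  have hAcent : ∀ N : Subgroup G, A ≤ normalizer (N : Set G) → (∃ x ∈ A, x ∈ N ∧ x ∉ K) → A ≤ N := by
    rintro N hN ⟨x, hxA, hxN, hxK⟩
    exact (Components.isQuasisimple_normalized_cases hqs hN).resolve_right fun h => hxK (h ⟨hxN, hxA⟩)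
  have hnormAll : ∀ N : Subgroup G, N.Normal → A ≤ normalizer (N : Set G) := fun N hN => by
    haveI := hN; rw [normalizer_eq_top]; exact le_top
  -- fixed points of `t` in a normal subgroup
  have hfix : ∀ N : Subgroup G, N.Normal → ¬ A ≤ N → ∀ c ∈ N, Commute c t → c ∈ K := by
    intro N hN hAN c hc hct
    have hcA := hCt c hct
    have hNA : N ⊓ A ≤ K :=
      (Components.isQuasisimple_normalized_cases hqs (hnormAll N hN)).resolve_left hAN
    refine mem_centralizer_iff.mpr fun u hu => (InvChar.commute_of_perfect_central (Components.qs_perfect hqs) ?_ u hu).eq.symm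
    intro u
    have h1 : c * (u : G) * c⁻¹ * (u : G)⁻¹ ∈ A :=
      mul_mem ((mem_normalizer_iff.mp hcA _).mp u.2) (inv_mem u.2)
    have h2 : c * (u : G) * c⁻¹ * (u : G)⁻¹ ∈ N := by
      rw [show c * (u : G) * c⁻¹ * (u : G)⁻¹ = c * ((u : G) * c⁻¹ * (u : G)⁻¹) by group]
      exact mul_mem hc (hN.conj_mem _ (inv_mem hc) _)
    refine ⟨⟨⟨_, h1⟩, Subgroup.mem_center_iff.mpr fun v => Subtype.ext ?_⟩, rfl⟩
    exact mem_centralizer_iff.mp (hNA ⟨h2, h1⟩) v v.2
  have hperfA : ¬ Group.IsSolvable A := Components.qs_not_isSolvable hqs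
  -- the odd core
  set W := oddCore G with hW
  haveI : W.Normal := pPrimeCore_normal 2 G
  have hWodd : Odd (Nat.card W) := Invol.odd_card_oddCore
  have hAW : ¬ A ≤ W := by
    intro h
    have hdvd := Subgroup.orderOf_dvd_natCard W (h ha)
    rw [orderOf_eq_prime (by rw [pow_two]; exact ha2) ha1] at hdvd
    exact Nat.not_even_iff_odd.mpr hWodd (even_iff_two_dvd.mpr hdvd)
  have hAW' : A ≤ centralizer (W : Set G) := by
    refine hAcent _ (hnormAll _ normal_centralizer) ⟨a, ha, ?_, haK⟩
    set V : Subgroup G := closure ({a, t} : Set G) with hV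
    haveI : IsMulCommutative V := isMulCommutative_closure (by
      rintro x (rfl | rfl) y (rfl | rfl)
      · rfl
      · exact hat.eq
      · exact hat.eq.symm
      · rfl)
    have hVp : IsPGroup 2 V := by
      intro v
      refine ⟨1, ?_⟩
      apply Subtype.ext
      show (v : G) ^ 2 ^ 1 = 1
      rw [pow_one]
      have hv := v.2
      generalize (v : G) = w at hv ⊢
      induction hv using closure_induction with
      | mem x hx => rcases hx with rfl | rfl <;> rw [pow_two] <;> assumption
      | one => exact one_pow 2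
      | mul x y hx hy ihx ihy =>
        rw [(show Commute x y from congrArg Subtype.val (mul_comm' (⟨x, hx⟩ : V) ⟨y, hy⟩)).mul_pow, ihx, ihy, one_mul]
      | inv x _ ih => rw [inv_pow, ih, inv_one]
    obtain ⟨k, hk⟩ := IsPGroup.iff_card.mp hVp
    have hgen := Basics.le_genCent V 2 a t (subset_closure (Or.inl rfl)) (subset_closure (Or.inr rfl)) W
      (by rw [normalizer_eq_top]; exact le_top)
      (by rw [hk]; exact (Nat.coprime_two_left.mpr hWodd).pow_left k)
      (Nat.coprime_two_left.mpr hWodd)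
      (by rw [pow_two, ha2]; exact one_mem _) (by rw [pow_two, ht2]; exact one_mem _)
    have ht_c : W ⊓ centralizer ({t} : Set G) ≤ centralizer ({a} : Set G) := fun w hw =>
      mem_centralizer_singleton_iff.mpr
        (mem_centralizer_iff.mp (hfix W inferInstance hAW w hw.1 (mem_centralizer_singleton_iff.mp hw.2)) a ha).symm
    have ht'_c : W ⊓ centralizer ({t'} : Set G) ≤ centralizer ({a} : Set G) := by
      intro w hw
      have h1 : r⁻¹ * w * r⁻¹⁻¹ ∈ W := (inferInstance : W.Normal).conj_mem w hw.1 r⁻¹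
      rw [inv_inv] at h1
      have hwt : w * (r * t * r⁻¹) = r * t * r⁻¹ * w := mem_centralizer_singleton_iff.mp hw.2
      have h2 : Commute (r⁻¹ * w * r) t := by
        show r⁻¹ * w * r * t = t * (r⁻¹ * w * r)
        calc r⁻¹ * w * r * t = r⁻¹ * (w * (r * t * r⁻¹)) * r := by group
          _ = t * (r⁻¹ * w * r) := by rw [hwt]; group
      have h3 := mem_centralizer_iff.mp (hfix W inferInstance hAW _ h1 h2) _ hra
      rw [mem_centralizer_singleton_iff]
      calc w * a = r * (r⁻¹ * w * r * (r⁻¹ * a * r)) * r⁻¹ := by group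
        _ = a * w := by rw [← h3]; group
    have hWa : W ≤ centralizer ({a} : Set G) := by
      refine hgen.trans (sup_le (iSup_le fun n => ?_) ht_c)
      rcases Nat.even_or_odd n with ⟨m, rfl⟩ | ⟨m, rfl⟩
      · rw [← two_mul, pow_mul, pow_two, ht2, one_pow, mul_one]; exact inf_le_right
      · rw [pow_succ, pow_mul, pow_two, ht2, one_pow, one_mul, ← ht'e]; exact ht'_c
    exact mem_centralizer_iff.mpr fun w hw => mem_centralizer_singleton_iff.mp (hWa hw)
  -- the 2-core
  set Q := pCore 2 G with hQ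
  have hQp : IsPGroup 2 Q := Basics.pCore_isPGroup 2
  haveI : Q.Normal := Cfsg.pCore_normal 2 G
  have hAQ : ¬ A ≤ Q := by
    intro h
    haveI := (hQp.to_le h).isNilpotent
    exact hperfA inferInstance
  have hAQ' : A ≤ centralizer (Q : Set G) := by
    by_contra hcon
    have hcases := (Components.isQuasisimple_normalized_cases hqs (hnormAll _ (normal_centralizer (H := Q)))).resolve_left hcon
    have hodd : ∀ x : A, (orderOf x).Coprime 2 → x ∈ center A := by
      intro x hx
      have hxQ : (x : G) ∈ centralizer (Q : Set G) := by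
        refine mem_centralizer_iff.mpr fun q hq => ?_
        refine (Components.pq_lemma (p := 2) (P := zpowers t) (IsPGroup.of_card (n := 1) (by rw [Nat.card_zpowers, ht, pow_one]))
          (x := (x : G)) (by rwa [Subgroup.orderOf_coe]) ?_ hQp (by rw [normalizer_eq_top]; exact le_top)
          (by rw [normalizer_eq_top]; exact mem_top _) ?_ q hq).eq.symm
        · intro y hy
          obtain ⟨n, rfl⟩ := mem_zpowers_iff.mp hy
          exact (show Commute (x : G) t from mem_centralizer_iff.mp htA x x.2).zpow_right n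
        · intro q' hq' hy
          exact mem_centralizer_iff.mp (hfix Q inferInstance hAQ q' hq' (hy t (mem_zpowers t))) x x.2
      exact Subgroup.mem_center_iff.mpr fun v => Subtype.ext (mem_centralizer_iff.mp (hcases ⟨hxQ, x.2⟩) v v.2)
    refine Components.qs_quotient_not_isMulCommutative hqs ?_
    have hq2 : IsPGroup 2 (A ⧸ center A) := by
      intro q
      obtain ⟨x, rfl⟩ := QuotientGroup.mk'_surjective (center A) q
      set n := orderOf x
      set k := n.factorization 2
      refine ⟨k, ?_⟩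
      rw [← map_pow, QuotientGroup.mk'_apply, QuotientGroup.eq_one_iff]
      apply hodd
      have hn0 : n ≠ 0 := (orderOf_pos x).ne'
      rw [orderOf_pow_of_dvd (pow_ne_zero _ two_ne_zero) (Nat.ordProj_dvd n 2)]
      exact (Nat.coprime_ordCompl Nat.prime_two hn0).symm
    haveI := hqs.2
    haveI := hq2.isNilpotent
    exact ⟨⟨fun x y => (IsSimpleGroup.comm_iff_isSolvable.mpr inferInstance) x y⟩⟩
  -- the Fitting subgroup
  have hAF : A ≤ centralizer (fittingSubgroup G : Set G) := by
    rw [le_centralizer_iff, Components.fitting_eq_iSup_pCore, iSup_le_iff]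
    intro p
    haveI : Fact (p : ℕ).Prime := ⟨Nat.prime_of_mem_primeFactors p.2⟩
    by_cases hp2 : (p : ℕ) = 2
    · rw [hp2]; exact le_centralizer_iff.mp hAQ'
    · refine le_trans ?_ (le_centralizer_iff.mp hAW')
      obtain ⟨k, hk⟩ := IsPGroup.iff_card.mp (Basics.pCore_isPGroup (p : ℕ) : IsPGroup (p : ℕ) (pCore (p : ℕ) G))
      refine Basics.le_pPrimeCore (hN := Cfsg.pCore_normal (p : ℕ) G) ?_
      rw [hk]
      exact ((Nat.coprime_primes Fact.out Nat.prime_two).mpr hp2).pow_left k
  have hE : A ≤ layer G := by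
    by_contra hAE
    haveI hEn : (layer G).Normal := Subgroup.normal_of_characteristic _
    have hEodd : Odd (Nat.card (layer G)) := by
      by_contra hev
      obtain ⟨j, hjE, hjo, hjt⟩ := exists_fixed_involution (layer G) (Nat.not_odd_iff_even.mp hev) ht2
      have hjK := hfix _ hEn hAE j hjE hjt
      obtain rfl := huniq j t hjK htA hjo ht hjt
      refine hAE (hAcent _ (hnormAll _ hEn) ⟨a, ha, ?_, haK⟩)
      rw [hae]
      exact mul_mem (hEn.conj_mem _ hjE r) hjE
    have hEW : layer G ≤ W := Basics.le_pPrimeCore (Nat.coprime_two_right.mpr hEodd)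
    have hAFs : A ≤ centralizer (generalizedFittingSubgroup G : Set G) := by
      rw [le_centralizer_iff]
      exact sup_le (le_centralizer_iff.mp (hAW'.trans (centralizer_le hEW))) (le_centralizer_iff.mp hAF)
    exact Components.qs_not_isMulCommutative hqs ⟨⟨fun x y => Subtype.ext
      (mem_centralizer_iff.mp (hAFs y.2) x (Components.centralizer_fStar_le (hAFs x.2)))⟩⟩
  refine ⟨hE, fun N hN hev hNK' => ?_⟩
  haveI := hN
  obtain ⟨j, hjN, hjo, hjt⟩ := exists_fixed_involution N hev ht2
  exact huniq j t (hNK' hjN) htA hjo ht hjt ▸ hjN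

end

/-- Let A be a standard subgroup of a finite group G whose centralizer has cyclic Sylow 2-subgroups, t an involution centralizing A, and X the normal closure of A in G. If X has a t-invariant 2-subgroup R with [R, t] nontrivial and contained in A, then X is semisimple (X equals its own layer, a central product of quasisimple groups) and the centre of X has odd order. -/
theorem result {G : Type*} [Group G] [Finite G] (A : Subgroup G) (hA : Cfsg.IsStandardSubgroup A)
    (hcyc : ∀ R : Sylow 2 ↥(Subgroup.centralizer (A : Set G)), IsCyclic ↥(R : Subgroup ↥(Subgroup.centralizer (A : Set G)))) (t : G) (ht : orderOf t = 2) (htA : t ∈ Subgroup.centralizer (A : Set G))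
    (R : Subgroup G) (hR2 : IsPGroup 2 ↥R) (hRX : R ≤ Subgroup.normalClosure (A : Set G)) (hRt : ∀ r ∈ R, t * r * t⁻¹ ∈ R)
    (hc1 : ⁅R, Subgroup.zpowers t⁆ ≠ ⊥) (hc2 : ⁅R, Subgroup.zpowers t⁆ ≤ A) :
    Cfsg.layer ↥(Subgroup.normalClosure (A : Set G)) = ⊤ ∧ Odd (Nat.card ↥(Subgroup.center ↥(Subgroup.normalClosure (A : Set G)))) := by
  obtain ⟨r, hr, u, hu, hne⟩ : ∃ r ∈ R, ∃ u ∈ Subgroup.zpowers t, ⁅r, u⁆ ≠ 1 := by
    by_contra hcon
    push Not at hcon
    exact hc1 (eq_bot_iff.mpr ((Subgroup.commutator_le).mpr fun r hr u hu => by rw [hcon r hr u hu]; exact one_mem _))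
  have hrt : ⁅r, t⁆ ≠ 1 := by
    intro h
    obtain ⟨n, rfl⟩ := Subgroup.mem_zpowers_iff.mp hu
    exact hne (commutatorElement_eq_one_iff_commute.mpr ((commutatorElement_eq_one_iff_commute.mp h).zpow_right n))
  have ht2 := Invol.mul_self_of_orderOf_two ht
  have hti : t⁻¹ = t := inv_eq_of_mul_eq_one_right ht2
  have hae : ⁅r, t⁆ = r * t * r⁻¹ * t := by rw [commutatorElement_def, hti]
  have ha : ⁅r, t⁆ ∈ A := hc2 (Subgroup.commutator_mem_commutator hr (Subgroup.mem_zpowers t))
  have hra : r⁻¹ * ⁅r, t⁆ * r ∈ A := by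
    have h := inv_mem (hc2 (Subgroup.commutator_mem_commutator (inv_mem hr) (Subgroup.mem_zpowers t)))
    have e : r⁻¹ * ⁅r, t⁆ * r = ⁅r⁻¹, t⁆⁻¹ := by rw [commutatorElement_def, commutatorElement_def]; group
    rwa [e]
  obtain ⟨hAE, hN⟩ := key A hA hcyc t ht htA r ⁅r, t⁆ hae ha hra hrt
  set X := Subgroup.normalClosure (A : Set G) with hX
  haveI hXn : X.Normal := Subgroup.normalClosure_normal
  have hAX : A ≤ X := Subgroup.subset_normalClosure
  have hperf : ⁅X, X⁆ = X := by
    refine le_antisymm (Subgroup.commutator_le_left X X) (Subgroup.normalClosure_le_normal ?_)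
    intro x hx
    have := Subgroup.commutator_mono hAX hAX
    rw [Components.isQuasisimple_commutator_eq_self hA.1] at this
    exact this hx
  haveI : (Cfsg.layer G).Normal := Subgroup.normal_of_characteristic _
  refine ⟨layer_eq_top_of_le (Subgroup.normalClosure_le_normal hAE) hperf, ?_⟩
  by_contra hev
  set Z := (Subgroup.center ↥X).map X.subtype with hZ
  have hcardZ : Nat.card Z = Nat.card (Subgroup.center ↥X) :=
    (Nat.card_congr (Subgroup.equivMapOfInjective _ _ X.subtype_injective).toEquiv).symm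
  have hZA : Z ≤ Subgroup.centralizer (A : Set G) := by
    rintro _ ⟨z, hz, rfl⟩
    exact Subgroup.mem_centralizer_iff.mpr fun v hv =>
      congrArg Subtype.val (Subgroup.mem_center_iff.mp hz ⟨v, hAX hv⟩)
  have htZ := hN Z inferInstance (by rw [hcardZ]; exact Nat.not_odd_iff_even.mp hev) hZA
  rw [hZ, Components.map_subtype_center] at htZ
  exact hrt (commutatorElement_eq_one_iff_commute.mpr (Subgroup.mem_centralizer_iff.mp htZ.2 r (hRX hr)))

end Cfsg.Agent.S3164
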