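import Cfsg.Statements.S3166
import Mathlib

set_option autoImplicit false
open Cfsg

namespace Cfsg.Agent.S3166

private lemma four_le_aux (q : ℕ) (hq : 2 ≤ q) :
    ((q ^ 4 - q ^ 3 + q ^ 2 - q + 1 : ℕ) : ℤ) = (q:ℤ) ^ 4 - (q:ℤ) ^ 3 + (q:ℤ) ^ 2 - q + 1 := by
  have h1 : q ^ 3 ≤ q ^ 4 := Nat.pow_le_pow_right (by omega) (by omega)
  have h2 : q ≤ q ^ 2 := Nat.le_self_pow (by omega) q
  have h3 : q ≤ q ^ 4 - q ^ 3 + q ^ 2 := by omega
  push_cast [Nat.cast_sub h1, Nat.cast_sub h3]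
  ring

/-- Let q = 2^n with n ≥ 1. If q⁴ − q³ + q² − q + 1 is a power p^m of a prime p, then m = 1: the value is never a prime power with exponent greater than 1. -/
theorem result (n p m : ℕ) (hn : 1 ≤ n) (hp : p.Prime) (h : (2 ^ n) ^ 4 - (2 ^ n) ^ 3 + (2 ^ n) ^ 2 - 2 ^ n + 1 = p ^ m) : m = 1 := by
  obtain ⟨q, hq_def⟩ : ∃ q, q = 2 ^ n := ⟨_, rfl⟩
  rw [← hq_def] at h
  have hq : 2 ≤ q := hq_def ▸ Nat.le_self_pow (by omega) 2
  have hz : ((p : ℤ)) ^ m = (q:ℤ) ^ 4 - (q:ℤ) ^ 3 + (q:ℤ) ^ 2 - q + 1 := by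
    rw [← four_le_aux q hq, h]; push_cast; rfl
  have hqz : (2:ℤ) ≤ q := by exact_mod_cast hq
  have hprod : ((p : ℤ)) ^ m - 1 = (q:ℤ) * ((q - 1) * (q ^ 2 + 1)) := by rw [hz]; ring
  rcases Nat.even_or_odd m with ⟨k, hk⟩ | hodd
  · exfalso
    obtain ⟨s, hs⟩ : ∃ s : ℤ, s = 2 * (p:ℤ) ^ k := ⟨_, rfl⟩
    have hs2 : s ^ 2 = 4 * ((q:ℤ) ^ 4 - (q:ℤ) ^ 3 + (q:ℤ) ^ 2 - q + 1) := by
      rw [← hz, hs, hk]; ring
    have hs0 : 0 ≤ s := by rw [hs]; positivity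
    have ha : (0:ℤ) ≤ 2 * (q:ℤ) ^ 2 - q := by nlinarith
    have h1 : 2 * (q:ℤ) ^ 2 - q < s := by
      by_contra hlt
      push_neg at hlt
      have := mul_self_le_mul_self hs0 hlt
      nlinarith
    have h2 : s < 2 * (q:ℤ) ^ 2 - q + 1 := by
      by_contra hlt
      push_neg at hlt
      have := mul_self_le_mul_self (by linarith) hlt
      nlinarith
    omega
  · by_contra hm1
    have hm3 : 3 ≤ m := by
      obtain ⟨k, hk⟩ := hodd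
      omega
    have hpm1 : p ^ m = q ^ 4 - q ^ 3 + q ^ 2 - q + 1 := h.symm
    have hqev : 2 ∣ (q:ℤ) := by
      exact_mod_cast (hq_def ▸ dvd_pow_self 2 (by omega : n ≠ 0))
    have hpodd : Odd ((p:ℤ) ^ m) := by
      rw [hz]
      obtain ⟨c, hc⟩ := hqev
      exact ⟨((q:ℤ) ^ 4 - (q:ℤ) ^ 3 + (q:ℤ) ^ 2 - q) / 2, by
        have : (2:ℤ) ∣ (q:ℤ) ^ 4 - (q:ℤ) ^ 3 + (q:ℤ) ^ 2 - q :=
          ⟨c * ((q:ℤ) ^ 3 - (q:ℤ) ^ 2 + q - 1), by rw [hc]; ring⟩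
        omega⟩
    have hp' : Odd (p:ℤ) := (Int.odd_pow.mp hpodd).resolve_right (by omega)
    have hgeo := geom_sum_mul (p:ℤ) m
    have hS : Odd (∑ i ∈ Finset.range m, (p:ℤ) ^ i) := by
      have key : ∀ m : ℕ, (∑ i ∈ Finset.range m, (p:ℤ) ^ i) % 2 = (m:ℤ) % 2 := by
        intro m
        induction m with
        | zero => simp
        | succ k ih =>
          rw [Finset.sum_range_succ, Int.add_emod, ih, Int.odd_iff.mp hp'.pow]
          push_cast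
          omega
      rw [Int.odd_iff, key]
      have := Nat.odd_iff.mp hodd
      omega
    have hcop : IsCoprime (q:ℤ) (∑ i ∈ Finset.range m, (p:ℤ) ^ i) := by
      have : (q:ℤ) = 2 ^ n := by exact_mod_cast hq_def
      rw [this]
      refine IsCoprime.pow_left ?_
      obtain ⟨c, hc⟩ := hS
      exact ⟨-c, 1, by rw [hc]; ring⟩
    have hdvd : (q:ℤ) ∣ ((p:ℤ) - 1) :=
      hcop.dvd_of_dvd_mul_left ⟨((q:ℤ) - 1) * ((q:ℤ) ^ 2 + 1), by rw [hgeo, hprod]⟩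
    obtain ⟨k, hk⟩ := hdvd
    have hp2 : (2:ℤ) ≤ p := by exact_mod_cast hp.two_le
    have hk1 : 1 ≤ k := by nlinarith
    have hpq : (q:ℤ) + 1 ≤ p := by nlinarith
    rcases Nat.lt_or_ge m 5 with hm5 | hm5
    · have hm : m = 3 := by
        obtain ⟨c, hc⟩ := hodd; omega
      subst hm
      have hpk : (p:ℤ) = q * k + 1 := by linarith
      have hmain : k * ((q:ℤ) ^ 2 * k ^ 2 + 3 * q * k + 3) = (q:ℤ) ^ 3 - (q:ℤ) ^ 2 + q - 1 := by
        have hh := hz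
        rw [hpk] at hh
        have : (q:ℤ) * (k * ((q:ℤ) ^ 2 * k ^ 2 + 3 * q * k + 3)) = (q:ℤ) * ((q:ℤ) ^ 3 - (q:ℤ) ^ 2 + q - 1) := by
          linarith
        exact mul_left_cancel₀ (by linarith) this
      have hdv : (q:ℤ) ∣ 3 * k + 1 := ⟨(q:ℤ) ^ 2 - q + 1 - q * k ^ 3 - 3 * k ^ 2, by
        have : 3 * k + 1 = (q:ℤ) ^ 3 - (q:ℤ) ^ 2 + q - (q:ℤ) ^ 2 * k ^ 3 - 3 * q * k ^ 2 := by linarith
        rw [this]; ring⟩
      have hle : (q:ℤ) ≤ 3 * k + 1 := Int.le_of_dvd (by linarith) hdv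
      have hk3 : k ^ 3 < q := by
        by_contra hc
        push_neg at hc
        have : (q:ℤ) ^ 2 * q ≤ (q:ℤ) ^ 2 * k ^ 3 := mul_le_mul_of_nonneg_left hc (by positivity)
        nlinarith
      have hk2 : k ≤ 2 := by nlinarith
      have hq7 : (q:ℤ) ≤ 7 := by linarith
      interval_cases k <;> interval_cases hq' : (q:ℤ) <;> omega
    · have h5 : ((q:ℤ) + 1) ^ 5 ≤ (p:ℤ) ^ m :=
        le_trans (pow_le_pow_left₀ (by linarith) hpq 5) (pow_le_pow_right₀ (by linarith) hm5)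
      rw [hz] at h5
      nlinarith [pow_pos (show (0:ℤ) < q by linarith) 3, pow_pos (show (0:ℤ) < q by linarith) 5, pow_pos (show (0:ℤ) < q by linarith) 4]

end Cfsg.Agent.S3166
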