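import Cfsg.Statements.S3175
import Cfsg.Agent.Lib.InvChar.TwoFourteenLocal

set_option autoImplicit false
open Cfsg

namespace Cfsg.Agent.S3175

open Cfsg.Agent Cfsg.Agent.InvChar.TwoFourteen

/-- Let G be a finite group whose Sylow 2-subgroup T has order at least 2^14 and whose upper central series has fourth term of order 16; let W be the centralizer in T of the third term, and suppose the Frattini subgroup of W has order at most 8 and lies in every subgroup of W of index at most 16. Then the normalizer of T in G has a normal 2-complement, and W is weakly closed in T with respect to G. -/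
theorem result {G : Type*} [Group G] [Finite G]
    (T : Sylow 2 G) (ha : 2 ^ 14 ≤ Nat.card ↥(T : Subgroup G))
    (hb : Nat.card ↥(Subgroup.upperCentralSeries ↥(T : Subgroup G) 4) = 16)
    (W : Subgroup ↥(T : Subgroup G))
    (hW : W = Subgroup.centralizer ((Subgroup.upperCentralSeries ↥(T : Subgroup G) 3 : Subgroup ↥(T : Subgroup G)) : Set ↥(T : Subgroup G)))
    (hc : Nat.card ↥(frattini ↥W) ≤ 8)
    (hd : ∀ U : Subgroup ↥W, U.index ≤ 16 → frattini ↥W ≤ U) :
    Cfsg.HasNormalPComplement 2 ↥(Subgroup.normalizer ((T : Subgroup G) : Set G)) ∧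
      Cfsg.IsWeaklyClosed (W.map (T : Subgroup G).subtype) (T : Subgroup G) := by
  classical
  haveI : Fact (Nat.Prime 2) := ⟨Nat.prime_two⟩
  have h : Setup ↥(T : Subgroup G) W := ⟨T.isPGroup', ha, hb, hW, hc, hd⟩
  haveI := h.normal_W
  constructor
  · set N := Subgroup.normalizer ((T : Subgroup G) : Set G) with hN
    have hTN : (T : Subgroup G) ≤ N := Subgroup.le_normalizer
    let P : Sylow 2 ↥N := T.subtype hTN
    have hPn : (P : Subgroup ↥N).Normal := Subgroup.normal_in_normalizer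
    haveI := hPn
    obtain ⟨K, hK⟩ := Subgroup.exists_right_complement'_of_coprime (N := (P : Subgroup ↥N)) P.card_coprime_index
    have hKodd : Odd (Nat.card K) := by
      rw [← hK.symm.index_eq_card]
      exact Nat.not_even_iff_odd.mp fun he => P.not_dvd_index (even_iff_two_dvd.mp he)
    have hcent : ∀ k ∈ K, ∀ p ∈ (P : Subgroup ↥N), k * p = p * k := by
      intro k hk p hp
      let f : (P : Subgroup ↥N) ≃* ↥(T : Subgroup G) := Subgroup.subgroupOfEquivOfLe hTN
      let σ : MulAut ↥(T : Subgroup G) := (f.symm.trans (MulAut.conjNormal k)).trans f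
      let ψ : ↥N →* MulAut ↥(T : Subgroup G) :=
        { toFun := fun g => (f.symm.trans (MulAut.conjNormal g)).trans f
          map_one' := by ext x; simp
          map_mul' := fun g g' => by ext x; simp }
      have hodd : Odd (orderOf (ψ k)) := by
        refine Odd.of_dvd_nat hKodd ?_
        refine (orderOf_map_dvd ψ k).trans ?_
        exact (Subgroup.orderOf_coe (⟨k, hk⟩ : K)).symm ▸ orderOf_dvd_natCard (⟨k, hk⟩ : K)
      have hone := h.aut_eq_one (ψ k) hodd
      have := congrArg (fun σ : MulAut ↥(T : Subgroup G) => f.symm (σ (f (⟨p, hp⟩ : (P : Subgroup ↥N))))) hone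
      simp only [ψ, MonoidHom.coe_mk, OneHom.coe_mk, MulEquiv.trans_apply, MulEquiv.symm_apply_apply, MulAut.one_apply] at this
      have e := congrArg Subtype.val this
      rw [MulAut.conjNormal_apply] at e
      exact mul_inv_eq_iff_eq_mul.mp e
    refine ⟨P, K, ?_, hK.symm⟩
    refine ⟨fun x hx g => ?_⟩
    obtain ⟨⟨p, k⟩, rfl⟩ := hK.surjective g
    show ((p : ↥N) * k) * x * ((p : ↥N) * k)⁻¹ ∈ K
    have hy : (k : ↥N) * x * (k : ↥N)⁻¹ ∈ K := K.mul_mem (K.mul_mem k.2 hx) (K.inv_mem k.2)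
    rw [show ((p : ↥N) * k) * x * ((p : ↥N) * k)⁻¹ = (p : ↥N) * ((k : ↥N) * x * (k : ↥N)⁻¹) * (p : ↥N)⁻¹ by group,
      ← hcent _ hy p p.2, mul_inv_cancel_right]
    exact hy
  · refine ⟨Subgroup.map_subtype_le _, fun g hg => ?_⟩

    have hmem : ∀ a : ↥W, g * ((a : ↥(T : Subgroup G)) : G) * g⁻¹ ∈ (T : Subgroup G) := fun a =>
      hg ⟨((a : ↥(T : Subgroup G)) : G), ⟨(a : ↥(T : Subgroup G)), a.2, rfl⟩, rfl⟩
    let φ : ↥W →* ↥(T : Subgroup G) :=
      { toFun := fun a => ⟨g * ((a : ↥(T : Subgroup G)) : G) * g⁻¹, hmem a⟩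
        map_one' := Subtype.ext (by simp)
        map_mul' := fun a b => Subtype.ext (by simp only [Subgroup.coe_mul]; group) }
    have hφ : Function.Injective φ := fun a b e => Subtype.ext (Subtype.ext
      (mul_left_cancel (mul_right_cancel (congrArg Subtype.val e))))
    have hc8 : Nat.card ((frattini ↥W).map φ) ≤ 8 :=
      (Subgroup.card_map_of_injective hφ).trans_le hc
    have hr : φ.range = W := by
      refine h.eq_of_same φ.range ((frattini ↥W).map φ) (Nat.card_congr (MonoidHom.ofInjective hφ).toEquiv).symm hc8 ?_ ?_ ?_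
      · rintro _ ⟨a, rfl⟩
        rw [← map_mul]
        obtain ⟨y, hy, e⟩ := h.sq_mem a.2
        exact ⟨a * a, by rw [show a * a = y from Subtype.ext e.symm]; exact hy, rfl⟩
      · rintro _ ⟨a, rfl⟩ _ ⟨b, rfl⟩
        rw [← map_inv, ← map_inv, ← map_mul, ← map_mul, ← map_mul]
        obtain ⟨y, hy, e⟩ := h.comm_mem a.2 b.2
        exact ⟨a * b * a⁻¹ * b⁻¹, by rw [show a * b * a⁻¹ * b⁻¹ = y from Subtype.ext e.symm]; exact hy, rfl⟩
      · rintro _ ⟨y, hy, rfl⟩ _ ⟨u, rfl⟩
        rw [← map_mul, ← map_mul]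
        congr 1
        exact Subtype.ext (h.W_fix u.2 (h.phi_eq.le ⟨y, hy, rfl⟩))
    refine le_antisymm ?_ ?_
    · rintro _ ⟨_, ⟨a, ha, rfl⟩, rfl⟩
      exact ⟨φ ⟨a, ha⟩, hr.le ⟨⟨a, ha⟩, rfl⟩, rfl⟩
    · rintro _ ⟨a, ha, rfl⟩
      obtain ⟨b, rfl⟩ := hr.ge ha
      exact ⟨_, ⟨(b : ↥(T : Subgroup G)), b.2, rfl⟩, rfl⟩

end Cfsg.Agent.S3175
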