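import Cfsg.Statements.S3179
import Cfsg.Agent.Lib.Basics.Frattini
import Cfsg.Agent.Lib.LinearGroups.Basic
import Cfsg.Agent.Lib.LinearGroups.UnitaryOrder
import Cfsg.Agent.Lib.Suzuki.LieIso

set_option autoImplicit false
set_option linter.style.haveILetI false
open Cfsg

namespace Cfsg.Agent.S3179

theorem card_GL5 : Nat.card (GL (Fin 5) (ZMod 2)) = 9999360 := by
  haveI : Fact (Nat.Prime 2) := ⟨Nat.prime_two⟩
  rw [Matrix.card_GL_field, ZMod.card]
  rfl

/-- No element of `GL(5,2)` has order nine. -/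
theorem no_nine (g : GL (Fin 5) (ZMod 2)) : orderOf g ≠ 9 := by
  intro hg
  haveI : Fact (Nat.Prime 3) := ⟨Nat.prime_three⟩
  let a : GL (Fin 5) (ZMod 2) :=
    ⟨!![0,1,0,0,0; 1,1,0,0,0; 0,0,1,0,0; 0,0,0,1,0; 0,0,0,0,1],
     !![1,1,0,0,0; 1,0,0,0,0; 0,0,1,0,0; 0,0,0,1,0; 0,0,0,0,1], by decide +kernel, by decide +kernel⟩
  let b : GL (Fin 5) (ZMod 2) :=
    ⟨!![1,0,0,0,0; 0,1,0,0,0; 0,0,0,1,0; 0,0,1,1,0; 0,0,0,0,1],
     !![1,0,0,0,0; 0,1,0,0,0; 0,0,1,1,0; 0,0,1,0,0; 0,0,0,0,1], by decide +kernel, by decide +kernel⟩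
  have ha3 : a ^ 3 = 1 := by decide +kernel
  have hb3 : b ^ 3 = 1 := by decide +kernel
  have hab : a * b = b * a := by decide +kernel
  have hbn : b ≠ 1 ∧ b ≠ a ∧ b ≠ a ^ 2 := by decide +kernel
  have ha1 : a ≠ 1 := by decide +kernel
  have hao : orderOf a = 3 := orderOf_eq_prime ha3 ha1
  have hnot : b ∉ Subgroup.zpowers a := by
    rw [← mem_powers_iff_mem_zpowers, Submonoid.mem_powers_iff]
    rintro ⟨k, hk⟩
    rw [← pow_mod_orderOf, hao] at hk
    have : k % 3 = 0 ∨ k % 3 = 1 ∨ k % 3 = 2 := by omega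
    rcases this with e | e | e <;> rw [e] at hk
    · exact hbn.1 (by rw [← hk, pow_zero])
    · exact hbn.2.1 (by rw [← hk, pow_one])
    · exact hbn.2.2 hk.symm
  set W := Subgroup.zpowers a ⊔ Subgroup.zpowers b with hW
  have hbN : b ∈ Subgroup.normalizer (Subgroup.zpowers a : Set (GL (Fin 5) (ZMod 2))) := by
    rw [Subgroup.mem_normalizer_iff]
    intro y
    constructor
    · rintro ⟨k, rfl⟩
      rw [((show Commute b a from hab.symm).zpow_right k).eq, mul_inv_cancel_right]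
      exact ⟨k, rfl⟩
    · rintro ⟨k, hk⟩
      refine ⟨k, ?_⟩
      have h1 : b * y * b⁻¹ = b * a ^ k * b⁻¹ := by
        rw [((show Commute b a from hab.symm).zpow_right k).eq, mul_inv_cancel_right]
        exact hk.symm
      exact (mul_left_cancel (mul_right_cancel h1)).symm
  have hWc : Nat.card W = 9 := by
    rw [hW, (Basics.card_sup_zpowers (p := 3) hbN (by rw [hb3]; exact one_mem _)).2 hnot,
      Nat.card_zpowers, hao]
  have hWcl : W = Subgroup.closure ({a, b} : Set (GL (Fin 5) (ZMod 2))) := by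
    rw [hW, Subgroup.zpowers_eq_closure, Subgroup.zpowers_eq_closure, ← Subgroup.closure_union,
      Set.singleton_union]
  haveI : IsMulCommutative W := by
    rw [hWcl]
    refine Subgroup.isMulCommutative_closure ?_
    rintro x (rfl | rfl) y (rfl | rfl) <;> first | rfl | exact hab | exact hab.symm
  have hW3 : ∀ w ∈ W, w ^ 3 = 1 := by
    intro w hw
    rw [hWcl] at hw
    induction hw using Subgroup.closure_induction with
    | mem x hx => rcases hx with rfl | rfl <;> assumption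
    | one => simp
    | mul x y hx hy h1 h2 =>
      have hx' : x ∈ W := by rw [hWcl]; exact hx
      have hy' : y ∈ W := by rw [hWcl]; exact hy
      have hxy : Commute x y := congrArg Subtype.val
        (IsMulCommutative.is_comm.comm (⟨x, hx'⟩ : W) ⟨y, hy'⟩)
      rw [hxy.mul_pow, h1, h2, one_mul]
    | inv x hx h1 => rw [inv_pow, h1, inv_one]
  let P : Sylow 3 (GL (Fin 5) (ZMod 2)) := Sylow.ofCard W (by
    rw [hWc, card_GL5, show (9999360 : ℕ) = 3 ^ 2 * 1111040 by norm_num,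
      Nat.factorization_mul (by norm_num) (by norm_num), Finsupp.add_apply,
      Nat.Prime.factorization_pow Nat.prime_three, Finsupp.single_eq_same,
      Nat.factorization_eq_zero_of_not_dvd (by norm_num : ¬ 3 ∣ 1111040)]
    norm_num)
  obtain ⟨Q, hQ⟩ := (IsPGroup.of_card (p := 3) (n := 2)
    (by rw [Nat.card_zpowers, hg]; norm_num : Nat.card (Subgroup.zpowers g) = 3 ^ 2)).exists_le_sylow
  obtain ⟨c, hc⟩ := MulAction.exists_smul_eq (GL (Fin 5) (ZMod 2)) P Q
  have hgQ : g ∈ ((c • P : Sylow 3 (GL (Fin 5) (ZMod 2))) : Subgroup (GL (Fin 5) (ZMod 2))) := by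
    rw [hc]; exact hQ (Subgroup.mem_zpowers g)
  rw [Sylow.coe_subgroup_smul, Subgroup.mem_pointwise_smul_iff_inv_smul_mem] at hgQ
  have h3 := hW3 _ hgQ
  rw [← map_inv, MulAut.smul_def, ← map_pow, MulEquiv.map_eq_one_iff] at h3
  have := orderOf_dvd_of_pow_eq_one h3
  rw [hg] at this
  norm_num at this

variable {F : Type} [Field F] [Fintype F]

theorem odd_two_pow_sub_one {n : ℕ} (hn : 1 ≤ n) : Odd (2 ^ n - 1) := by
  rw [Nat.odd_iff]
  have : 2 ∣ 2 ^ n := dvd_pow_self 2 (by omega)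
  have := Nat.one_le_two_pow (n := n)
  omega

theorem odd_two_pow_add_one {n : ℕ} (hn : 1 ≤ n) : Odd (2 ^ n + 1) := by
  rw [Nat.odd_iff]
  have : 2 ∣ 2 ^ n := dvd_pow_self 2 (by omega)
  omega

theorem not_dvd_odd_mul {a k : ℕ} (ha : Odd a) (hk : ¬ 2048 ∣ k) : ¬ 2 ^ 11 ∣ a * k := by
  intro h
  apply hk
  have h2 : Nat.Coprime (2 ^ 11) a := Nat.Coprime.pow_left 11 (Nat.coprime_two_left.mpr ha)
  exact (show (2048 : ℕ) = 2 ^ 11 by norm_num) ▸ h2.dvd_of_dvd_mul_left h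

theorem card_PSL2_even {n : ℕ} (hn : 1 ≤ n) (hF : Fintype.card F = 2 ^ n) :
    (2 ^ n - 1) * Nat.card (Matrix.ProjectiveSpecialLinearGroup (Fin 2) F) =
      (2 ^ (2 * n) - 1) * (2 ^ (2 * n) - 2 ^ n) := by
  have h1 := LinGrp.natCard_PSL_mul (n := Fin 2) (F := F)
  have h2 := LinGrp.natCard_SL_mul (F := F) 2 (by norm_num)
  rw [Nat.card_eq_fintype_card (α := F), hF, Fintype.card_fin] at h1
  have hg : Nat.gcd 2 (2 ^ n - 1) = 1 := by
    rw [← Nat.coprime_iff_gcd_eq_one, Nat.coprime_two_left, Nat.odd_iff]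
    have : 2 ∣ 2 ^ n := dvd_pow_self 2 (by omega)
    have := Nat.one_le_two_pow (n := n)
    omega
  rw [hg, one_mul] at h1
  rw [hF, ← h1, Fin.prod_univ_two] at h2
  rw [h2, ← pow_mul, Fin.val_zero, Fin.val_one, pow_zero, pow_one, mul_comm n 2]

/-- `PSL(2,8)` has an element of order nine. -/
theorem exists_nine (hF : Fintype.card F = 8) :
    ∃ x : Matrix.ProjectiveSpecialLinearGroup (Fin 2) F, x ^ 9 = 1 ∧ x ^ 3 ≠ 1 := by
  haveI : Fact (Nat.Prime 2) := ⟨Nat.prime_two⟩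
  haveI : CharP F 2 := charP_of_card_eq_prime_pow (f := 3) (by rw [hF]; norm_num)
  have h20 : (2 : F) = 0 := CharTwo.two_eq_zero
  obtain ⟨t, ht⟩ : ∃ t : F, t ^ 3 + t + 1 = 0 := by
    obtain ⟨s, hs0, hs1⟩ : ∃ s : F, s ≠ 0 ∧ s ≠ 1 := by
      classical
      have : ((Finset.univ : Finset F) \ {0, 1}).Nonempty := by
        rw [← Finset.card_pos, Finset.card_sdiff_of_subset (Finset.subset_univ _), Finset.card_univ, hF,
          Finset.card_pair zero_ne_one]
        norm_num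
      obtain ⟨s, hs⟩ := this
      simp only [Finset.mem_sdiff, Finset.mem_insert, Finset.mem_singleton, not_or] at hs
      exact ⟨s, hs.2.1, hs.2.2⟩
    have h7 : s ^ 7 = 1 := by
      have := FiniteField.pow_card_sub_one_eq_one s hs0
      rwa [hF] at this
    have h8 : (s - 1) * ((s ^ 3 + s + 1) * (s ^ 3 + s ^ 2 + 1)) = 0 := by
      linear_combination h7 + s ^ 3 * (s - 1) * h20
    rcases mul_eq_zero.mp h8 with h | h
    · exact absurd (sub_eq_zero.mp h) hs1
    rcases mul_eq_zero.mp h with h | h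
    · exact ⟨s, h⟩
    · refine ⟨s⁻¹, ?_⟩
      field_simp
      linear_combination h
  let M : Matrix.SpecialLinearGroup (Fin 2) F := ⟨!![0, 1; 1, t], by
    rw [Matrix.det_fin_two_of]
    linear_combination (-1 : F) * h20⟩
  have e3 : ((M ^ 3 : Matrix.SpecialLinearGroup (Fin 2) F) : Matrix (Fin 2) (Fin 2) F) =
      !![t, t ^ 2 + 1; t ^ 2 + 1, t + 1] := by
    rw [Matrix.SpecialLinearGroup.coe_pow, pow_three]
    show !![0, 1; 1, t] * (!![0, 1; 1, t] * !![0, 1; 1, t]) = _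
    ext i j
    fin_cases i <;> fin_cases j <;> simp [Matrix.mul_apply, Fin.sum_univ_two] <;>
      first
      | ring1
      | linear_combination ht
      | linear_combination ht + t * h20 - h20
      | linear_combination ht + (-1 : F) * h20
      | linear_combination ht - (1 : F) * h20
  have e9 : M ^ 9 = 1 := by
    apply Subtype.ext
    rw [show (9 : ℕ) = 3 * 3 from rfl, pow_mul, Matrix.SpecialLinearGroup.coe_pow, e3, pow_three,
      Matrix.SpecialLinearGroup.coe_one]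
    ext i j
    fin_cases i <;> fin_cases j <;> simp [Matrix.mul_apply, Fin.sum_univ_two]
    · linear_combination (t + t ^ 2 : F) * ht + (t + 3 * t ^ 3 + t ^ 5 : F) * h20
    · linear_combination (t + t ^ 3 : F) * ht + (1 + t + 3 * t ^ 2 + t ^ 3 + 2 * t ^ 4 : F) * h20
    · linear_combination (t + t ^ 3 : F) * ht + (1 + t + 3 * t ^ 2 + t ^ 3 + 2 * t ^ 4 : F) * h20
    · linear_combination (t ^ 2 : F) * ht + (1 + 3 * t + 3 * t ^ 2 + 3 * t ^ 3 + t ^ 4 + t ^ 5 : F) * h20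
  refine ⟨QuotientGroup.mk M, by rw [← QuotientGroup.mk_pow, e9, QuotientGroup.mk_one], fun h => ?_⟩
  rw [← QuotientGroup.mk_pow, QuotientGroup.eq_one_iff] at h
  obtain ⟨r, -, hr⟩ := Matrix.SpecialLinearGroup.mem_center_iff.mp h
  rw [e3] at hr
  have h01 := congrFun (congrFun hr 0) 1
  simp at h01
  have ht1 : t = 1 := by
    have : (t - 1) ^ 2 = 0 := by
      first
      | linear_combination h01 - t * h20
      | linear_combination -h01 - t * h20
    exact sub_eq_zero.mp (pow_eq_zero_iff two_ne_zero |>.mp this)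
  rw [ht1] at ht
  have : (1 : F) = 0 := by linear_combination ht - h20
  exact one_ne_zero this

theorem result {H : Subgroup (GL (Fin 5) (ZMod 2))}
    {K : Subgroup ↥H} [K.Normal]
    (hX : (∃ (n : ℕ) (F : Type) (_ : Field F) (_ : Fintype F), 2 ≤ n ∧ Fintype.card F = 2 ^ n ∧
        Nonempty (↥H ⧸ K ≃* Matrix.ProjectiveSpecialLinearGroup (Fin 2) F)) ∨
      (∃ (m : ℕ) (F : Type) (_ : Field F) (_ : Fintype F), 1 ≤ m ∧ Fintype.card F = 2 ^ (2 * m + 1) ∧
        Nonempty (↥H ⧸ K ≃* ↥(Cfsg.Lie.Sz F (2 ^ (m + 1))))) ∨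
      (∃ (n : ℕ) (F : Type) (_ : Field F) (_ : Fintype F), 2 ≤ n ∧ Fintype.card F = 4 ^ n ∧
        Nonempty (↥H ⧸ K ≃* Cfsg.PSU 3 F (2 ^ n)))) :
    ∃ (F : Type) (_ : Field F) (_ : Fintype F), Fintype.card F = 4 ∧
      Nonempty (↥H ⧸ K ≃* Matrix.ProjectiveSpecialLinearGroup (Fin 2) F) := by
  have hdvd : Nat.card (↥H ⧸ K) ∣ 9999360 :=
    card_GL5 ▸ (Subgroup.card_quotient_dvd_card K).trans (Subgroup.card_subgroup_dvd_card H)
  rcases hX with ⟨n, F, _, _, hn, hF, ⟨e⟩⟩ | ⟨m, F, _, _, hm, hF, ⟨e⟩⟩ | ⟨n, F, _, _, hn, hF, ⟨e⟩⟩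
  · rw [Nat.card_congr e.toEquiv] at hdvd
    have hc := card_PSL2_even (by omega) hF
    have hd : (2 ^ (2 * n) - 1) * (2 ^ (2 * n) - 2 ^ n) ∣ (2 ^ n - 1) * 9999360 :=
      hc ▸ Nat.mul_dvd_mul_left _ hdvd
    have hn10 : n ≤ 10 := by
      by_contra h
      have h1 : 2 ^ n ∣ 2 ^ (2 * n) - 2 ^ n :=
        Nat.dvd_sub (pow_dvd_pow 2 (by omega)) dvd_rfl
      have h2 : 2 ^ 11 ∣ (2 ^ n - 1) * 9999360 :=
        ((pow_dvd_pow 2 (by omega : 11 ≤ n)).trans (h1.trans (Dvd.intro_left _ rfl))).trans hd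
      exact not_dvd_odd_mul (odd_two_pow_sub_one (Nat.one_le_of_lt hn)) (by norm_num) h2
    have h23 : n = 2 ∨ n = 3 := by
      interval_cases n <;> first | omega | (norm_num at hd)
    rcases h23 with rfl | rfl
    · exact ⟨F, inferInstance, inferInstance, by rw [hF]; norm_num, ⟨e⟩⟩
    · exfalso
      obtain ⟨x, hx9, hx3⟩ := exists_nine (F := F) (by rw [hF]; norm_num)
      obtain ⟨y, hy⟩ := QuotientGroup.mk_surjective (e.symm x)
      have hxo : orderOf x = 9 := by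
        haveI : Fact (Nat.Prime 3) := ⟨Nat.prime_three⟩
        exact orderOf_eq_prime_pow (p := 3) (n := 1) (by simpa using hx3) (by simpa using hx9)
      have h9 : 9 ∣ orderOf (y : GL (Fin 5) (ZMod 2)) := by
        rw [Subgroup.orderOf_coe, ← hxo, ← e.symm.orderOf_eq x, ← hy]
        exact orderOf_map_dvd (QuotientGroup.mk' K) y
      exact no_nine ((y : GL (Fin 5) (ZMod 2)) ^ (orderOf (y : GL (Fin 5) (ZMod 2)) / 9))
        (orderOf_pow_orderOf_div (orderOf_pos _).ne' h9)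
  · exfalso
    rw [Nat.card_congr e.toEquiv, Suzuki.card_lieSz hF hm, hF] at hdvd
    have hm5 : m ≤ 2 := by
      by_contra h
      have h1 : 2 ^ 11 ∣ (2 ^ (2 * m + 1)) ^ 2 := by
        rw [← pow_mul]; exact pow_dvd_pow 2 (by omega)
      exact absurd (h1.trans ((Dvd.intro _ rfl).trans ((Dvd.intro _ rfl).trans hdvd))) (by norm_num)
    interval_cases m <;> norm_num at hdvd
  · exfalso
    rw [Nat.card_congr e.toEquiv] at hdvd
    have hF' : Fintype.card F = (2 ^ n) ^ 2 := by rw [hF, ← pow_mul, mul_comm, pow_mul]; norm_num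
    have h1 := UnitaryOrder.card_PSU (F := F) (q := 2 ^ n) hF' 3 (by norm_num)
    rw [UnitaryOrder.card_GU hF' 3] at h1
    have hd : (2 ^ n) ^ (3 * (3 - 1) / 2) * ∏ i ∈ Finset.range 3,
        (if Even i then (2 ^ n) ^ (i + 1) + 1 else (2 ^ n) ^ (i + 1) - 1) ∣
          Nat.gcd 3 (2 ^ n + 1) * ((2 ^ n + 1) * 9999360) :=
      h1 ▸ Nat.mul_dvd_mul_left _ (Nat.mul_dvd_mul_left _ hdvd)
    have hn5 : n ≤ 3 := by
      by_contra h
      have h12 : 2 ^ 11 ∣ (2 ^ n) ^ (3 * (3 - 1) / 2) := by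
        rw [← pow_mul]; exact pow_dvd_pow 2 (by omega)
      have h2 := h12.trans ((Dvd.intro _ rfl).trans hd)
      rw [← mul_assoc] at h2
      have hodd : Odd (2 ^ n + 1) := odd_two_pow_add_one (Nat.one_le_of_lt hn)
      exact not_dvd_odd_mul ((hodd.of_dvd_nat (Nat.gcd_dvd_right 3 _)).mul hodd) (by norm_num) h2
    interval_cases n <;> norm_num [Finset.prod_range_succ] at hd

end Cfsg.Agent.S3179
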