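import Cfsg.Statements.S3180
import Mathlib

set_option autoImplicit false
open Cfsg

namespace Cfsg.Agent.S3180

/-- Let P be a Sylow p-subgroup of a finite group J and P₁ a subgroup of P that is weakly closed in P with respect to J. If J acts on a set and two points, each fixed by every element of P₁, lie in one J-orbit, then they lie in one orbit of the normalizer of P₁ in J. -/
theorem result {J : Type*} [Group J] [Finite J]
    {p : ℕ} [Fact p.Prime] (P : Sylow p J) (P₁ : Subgroup J) (hW : Cfsg.IsWeaklyClosed P₁ (P : Subgroup J))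
    {Ω : Type*} [MulAction J Ω] (x y : Ω) (hx : ∀ g ∈ P₁, g • x = x) (hy : ∀ g ∈ P₁, g • y = y)
    (hc : ∃ g : J, g • x = y) :
    ∃ g ∈ Subgroup.normalizer (P₁ : Set J), g • x = y := by
  obtain ⟨g, hg⟩ := hc
  let Jy : Subgroup J := MulAction.stabilizer J y
  have hP1 : IsPGroup p P₁ := P.2.to_le hW.1
  have h1 : P₁ ≤ Jy := fun a ha => hy a ha
  have h2 : P₁.map (MulAut.conj g).toMonoidHom ≤ Jy := by
    rintro _ ⟨a, ha, rfl⟩
    show (g * a * g⁻¹) • y = y
    rw [← hg, mul_smul, mul_smul, inv_smul_smul, hx a ha]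
  obtain ⟨T, hT⟩ := IsPGroup.exists_le_sylow (G := Jy) (P := P₁.subgroupOf Jy)
    (hP1.comap_of_injective Jy.subtype Subtype.val_injective)
  obtain ⟨T', hT'⟩ := IsPGroup.exists_le_sylow (G := Jy) (P := (P₁.map (MulAut.conj g).toMonoidHom).subgroupOf Jy)
    ((hP1.map _).comap_of_injective Jy.subtype Subtype.val_injective)
  obtain ⟨j, hj⟩ := MulAction.exists_smul_eq Jy T' T
  obtain ⟨R, hR⟩ := (T.2.map Jy.subtype).exists_le_sylow
  obtain ⟨a, ha⟩ := MulAction.exists_smul_eq J R P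
  have hP1R : P₁ ≤ (R : Subgroup J) := fun b hb => hR ⟨⟨b, h1 hb⟩, hT hb, rfl⟩
  have hmemP : ∀ b ∈ (R : Subgroup J), a * b * a⁻¹ ∈ (P : Subgroup J) := by
    intro b hb
    rw [← ha, Sylow.coe_subgroup_smul]
    exact ⟨b, hb, rfl⟩
  have hconj : ∀ b ∈ P₁, ((j : J) * g) * b * ((j : J) * g)⁻¹ ∈ (R : Subgroup J) := by
    intro b hb
    apply hR
    have hb' : g * b * g⁻¹ ∈ Jy := h2 ⟨b, hb, rfl⟩
    refine ⟨j * ⟨g * b * g⁻¹, hb'⟩ * j⁻¹, ?_, ?_⟩
    · rw [← hj, SetLike.mem_coe, Sylow.coe_subgroup_smul]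
      exact ⟨⟨g * b * g⁻¹, hb'⟩, hT' (show g * b * g⁻¹ ∈ P₁.map _ from ⟨b, hb, rfl⟩), rfl⟩
    · show (j : J) * (g * b * g⁻¹) * (j : J)⁻¹ = _
      group
  have ea : P₁.map (MulAut.conj a).toMonoidHom = P₁ := by
    apply hW.2
    rintro _ ⟨b, hb, rfl⟩
    exact hmemP b (hP1R hb)
  have eb : P₁.map (MulAut.conj (a * ((j : J) * g))).toMonoidHom = P₁ := by
    apply hW.2
    rintro _ ⟨b, hb, rfl⟩
    have := hmemP _ (hconj b hb)
    show a * ((j : J) * g) * b * (a * ((j : J) * g))⁻¹ ∈ _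
    convert this using 1
    group
  refine ⟨(j : J) * g, ?_, ?_⟩
  · have hn : ∀ c : J, P₁.map (MulAut.conj c).toMonoidHom = P₁ → c ∈ Subgroup.normalizer (P₁ : Set J) := by
      intro c hc
      rw [Subgroup.mem_normalizer_iff]
      intro b
      constructor
      · intro hb
        exact hc ▸ ⟨b, hb, rfl⟩
      · intro hb
        replace hb : c * b * c⁻¹ ∈ P₁.map (MulAut.conj c).toMonoidHom := by rwa [hc]
        obtain ⟨b', hb', he⟩ := hb
        have : b' = b := (MulAut.conj c).injective he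
        rwa [← this]
    have := mul_mem (inv_mem (hn a ea)) (hn _ eb)
    rwa [inv_mul_cancel_left] at this
  · rw [mul_smul, hg]
    exact j.2

end Cfsg.Agent.S3180
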