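import Cfsg.Statements.S3183
import Mathlib

set_option autoImplicit false
open Cfsg

namespace Cfsg.Agent.S3183

/-- Let G be a finite group in which the intersection of any two distinct Sylow 2-subgroups is contained in the centre of some Sylow 2-subgroup, and let S be a Sylow 2-subgroup. Then for every x in S the centralizer of x in S is a Sylow 2-subgroup of the centralizer of x in G (no 2-subgroup centralizing x is larger), and for every other Sylow 2-subgroup T the intersection S ∩ T lies in both the centre of S and the centre of T. -/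
theorem result {G : Type*} [Group G] [Finite G]
    (hCI : ∀ S T : Sylow 2 G, S ≠ T → ∃ U : Sylow 2 G,
      (S : Subgroup G) ⊓ (T : Subgroup G) ≤ (Subgroup.center ↥(U : Subgroup G)).map (U : Subgroup G).subtype)
    (S : Sylow 2 G) :
    (∀ x ∈ (S : Subgroup G), ∀ P : Subgroup G, IsPGroup 2 ↥P → P ≤ Subgroup.centralizer ({x} : Set G) →
        Nat.card ↥P ≤ Nat.card ↥((S : Subgroup G) ⊓ Subgroup.centralizer ({x} : Set G))) ∧
    (∀ T : Sylow 2 G, T ≠ S →
        (S : Subgroup G) ⊓ (T : Subgroup G) ≤
          (Subgroup.center ↥(S : Subgroup G)).map (S : Subgroup G).subtype ⊓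
            (Subgroup.center ↥(T : Subgroup G)).map (T : Subgroup G).subtype) := by
  classical
  -- membership form of the hypothesis
  have hmem : ∀ (U : Sylow 2 G) (d : G), d ∈ (Subgroup.center ↥(U : Subgroup G)).map (U : Subgroup G).subtype →
      d ∈ (U : Subgroup G) ∧ ∀ u ∈ (U : Subgroup G), u * d = d * u := by
    rintro U d ⟨d', hd', rfl⟩
    exact ⟨d'.2, fun u hu => congrArg Subtype.val (Subgroup.mem_center_iff.mp hd' ⟨u, hu⟩)⟩
  have hmem' : ∀ (U : Sylow 2 G) (d : G), d ∈ (U : Subgroup G) → (∀ u ∈ (U : Subgroup G), u * d = d * u) →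
      d ∈ (Subgroup.center ↥(U : Subgroup G)).map (U : Subgroup G).subtype := fun U d hd h =>
    ⟨⟨d, hd⟩, Subgroup.mem_center_iff.mpr fun u => Subtype.ext (h u u.2), rfl⟩
  have key : ∀ (S T : Sylow 2 G), T ≠ S → ∀ d ∈ (S : Subgroup G) ⊓ (T : Subgroup G),
      ∀ u ∈ (S : Subgroup G), u * d = d * u := by
    suffices h : ∀ (k : ℕ) (S T : Sylow 2 G), T ≠ S →
        Nat.card G < Nat.card ↥((S : Subgroup G) ⊓ (T : Subgroup G)) + k →
        ∀ d ∈ (S : Subgroup G) ⊓ (T : Subgroup G), ∀ u ∈ (S : Subgroup G), u * d = d * u from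
      fun S T hne => h (Nat.card G + 1) S T hne (by omega)
    intro k
    induction k with
    | zero =>
      intro S T _ hk
      have := Subgroup.card_le_card_group ((S : Subgroup G) ⊓ (T : Subgroup G))
      omega
    | succ k ih =>
      intro S T hne hk d hd u hu
      set D := (S : Subgroup G) ⊓ (T : Subgroup G) with hDdef
      have hbig : ∀ R : Sylow 2 G, R ≠ S → D < (S : Subgroup G) ⊓ (R : Subgroup G) → u * d = d * u := by
        intro R hR hlt
        refine ih S R hR ?_ d (hlt.le hd) u hu
        have hc : Nat.card ↥D < Nat.card ↥((S : Subgroup G) ⊓ (R : Subgroup G)) := by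
          by_contra hc
          exact hlt.ne (Subgroup.eq_of_le_of_card_ge hlt.le (not_lt.mp hc))
        omega
      have hDlt : D < (S : Subgroup G) := by
        refine lt_of_le_of_ne inf_le_left (fun h => hne ?_)
        apply Sylow.ext
        exact (Subgroup.eq_of_le_of_card_ge (h ▸ inf_le_right : (S : Subgroup G) ≤ T)
          (by rw [T.card_eq_multiplicity, S.card_eq_multiplicity])).symm
      obtain ⟨U, hU⟩ := hCI S T (Ne.symm hne)
      obtain ⟨Q, hQ⟩ := ((S.2.to_le (inf_le_left : (S : Subgroup G) ⊓ Subgroup.normalizer (D : Set G) ≤ S))).comap_of_injective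
        (Subgroup.normalizer (D : Set G)).subtype Subtype.val_injective |>.exists_le_sylow
      obtain ⟨R, hR⟩ := (Q.2.map (Subgroup.normalizer (D : Set G)).subtype).exists_le_sylow
      have hSN : (S : Subgroup G) ⊓ Subgroup.normalizer (D : Set G) ≤ (R : Subgroup G) := by
        intro y hy
        exact hR ⟨⟨y, hy.2⟩, hQ hy, rfl⟩
      by_cases hRS : R = S
      · subst hRS
        have hUN : (U : Subgroup G) ≤ Subgroup.normalizer (D : Set G) := by
          intro v hv
          rw [Subgroup.mem_normalizer_iff]
          intro e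
          constructor
          · intro he
            have := (hmem U e (hU he)).2 v hv
            rw [this, mul_inv_cancel_right]; exact he
          · intro he
            have := (hmem U _ (hU he)).2 v hv
            have h2 : v * (v * e * v⁻¹) = v * e := by rw [this, inv_mul_cancel_right]
            have h3 : v * e * v⁻¹ = e := mul_left_cancel h2
            rwa [h3] at he
        obtain ⟨W, hW⟩ := (U.2.comap_of_injective (Subgroup.normalizer (D : Set G)).subtype
          Subtype.val_injective).exists_le_sylow
        obtain ⟨n, hn⟩ := MulAction.exists_smul_eq ↥(Subgroup.normalizer (D : Set G)) W Q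
        have hUS : ∀ v ∈ (U : Subgroup G), (n : G) * v * (n : G)⁻¹ ∈ (R : Subgroup G) := by
          intro v hv
          refine hR ⟨n * ⟨v, hUN hv⟩ * n⁻¹, ?_, rfl⟩
          rw [← hn, SetLike.mem_coe, Sylow.coe_subgroup_smul]
          exact ⟨⟨v, hUN hv⟩, hW hv, rfl⟩
        have hmap : (U : Subgroup G).map (MulAut.conj (n : G)).toMonoidHom = (R : Subgroup G) := by
          apply Subgroup.eq_of_le_of_card_ge
          · rintro _ ⟨v, hv, rfl⟩; exact hUS v hv
          · rw [Subgroup.card_map_of_injective (MulAut.conj (n:G)).injective, U.card_eq_multiplicity, R.card_eq_multiplicity]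
        rw [← hmap] at hu
        obtain ⟨v, hv, rfl⟩ := hu
        have hd' : (n:G)⁻¹ * d * (n:G) ∈ D := by
          have := (Subgroup.mem_normalizer_iff.mp (inv_mem n.2) d).mp hd
          rwa [inv_inv] at this
        have h := (hmem U _ (hU hd')).2 v hv
        show (n:G) * v * (n:G)⁻¹ * d = d * ((n:G) * v * (n:G)⁻¹)
        calc (n:G) * v * (n:G)⁻¹ * d = (n:G) * (v * ((n:G)⁻¹ * d * (n:G))) * (n:G)⁻¹ := by group
          _ = (n:G) * (((n:G)⁻¹ * d * (n:G)) * v) * (n:G)⁻¹ := by rw [h]
          _ = _ := by group
      · refine hbig R hRS ?_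
        haveI : Group.IsNilpotent ↥(S : Subgroup G) := S.2.isNilpotent
        have hlt : D.subgroupOf (S : Subgroup G) < ⊤ := by
          refine lt_of_le_of_ne le_top (fun h => hDlt.not_ge ?_)
          rwa [Subgroup.subgroupOf_eq_top] at h
        have hnc := normalizerCondition_of_isNilpotent _ hlt
        obtain ⟨y, hy, hyD⟩ := SetLike.exists_of_lt hnc
        refine lt_of_lt_of_le (b := (S : Subgroup G) ⊓ Subgroup.normalizer (D : Set G))
          (SetLike.lt_iff_le_and_exists.mpr ⟨?_, (y : G), ?_, fun h => hyD (Subgroup.mem_subgroupOf.mpr h)⟩)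
          (le_inf inf_le_left hSN)
        · exact le_inf inf_le_left Subgroup.le_normalizer
        · refine ⟨y.2, Subgroup.mem_normalizer_iff.mpr fun e => ?_⟩
          constructor
          · intro he
            exact (Subgroup.mem_normalizer_iff.mp hy ⟨e, he.1⟩).mp he
          · intro he
            have heS : e ∈ (S : Subgroup G) := by
              have := mul_mem (mul_mem (inv_mem y.2) he.1) y.2
              simpa [mul_assoc] using this
            exact (Subgroup.mem_normalizer_iff.mp hy ⟨e, heS⟩).mpr he
  refine ⟨?_, ?_⟩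
  · intro x hxS P hP hPx
    have hPx' : IsPGroup 2 ↥(P ⊔ Subgroup.zpowers x) := by
      refine IsPGroup.to_sup_of_normal_right' hP (S.2.to_le ((Subgroup.zpowers_le).mpr hxS)) ?_
      intro q hq
      have hqx : q * x = x * q := Subgroup.mem_centralizer_singleton_iff.mp (hPx hq)
      rw [Subgroup.mem_normalizer_iff]
      intro e
      have hcomm : ∀ k : ℤ, q * x ^ k = x ^ k * q := fun k => (Commute.zpow_right hqx k).eq
      constructor
      · rintro ⟨k, rfl⟩
        exact ⟨k, by rw [hcomm k, mul_inv_cancel_right]⟩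
      · rintro ⟨k, hk⟩
        refine ⟨k, ?_⟩
        change x ^ k = _ at hk
        calc x ^ k = q⁻¹ * (q * x ^ k) := by group
          _ = q⁻¹ * (x ^ k * q) := by rw [hcomm k]
          _ = e := by rw [hk]; group
    obtain ⟨T, hT⟩ := hPx'.exists_le_sylow
    by_cases hTS : T = S
    · subst hTS
      exact Subgroup.card_le_of_le (le_inf (le_sup_left.trans hT) hPx)
    · have hc := key S T hTS x ⟨hxS, hT (Subgroup.mem_sup_right (Subgroup.mem_zpowers x))⟩
      have : (S : Subgroup G) ⊓ Subgroup.centralizer ({x} : Set G) = (S : Subgroup G) :=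
        inf_eq_left.mpr fun u hu => Subgroup.mem_centralizer_singleton_iff.mpr (hc u hu)
      rw [this]
      obtain ⟨W, hW⟩ := hP.exists_le_sylow
      calc Nat.card ↥P ≤ Nat.card ↥(W : Subgroup G) := Subgroup.card_le_of_le hW
        _ = _ := by rw [W.card_eq_multiplicity, S.card_eq_multiplicity]
  · intro T hTS d hd
    exact ⟨hmem' S d hd.1 (key S T hTS d hd), hmem' T d hd.2 (key T S (Ne.symm hTS) d ⟨hd.2, hd.1⟩)⟩

end Cfsg.Agent.S3183
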