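import Cfsg.Statements.S3184
import Cfsg.Agent.Lib.InvChar.BrauerSuzuki
import Cfsg.Agent.Lib.Invol.Isolated

set_option autoImplicit false
open Cfsg

namespace Cfsg.Agent.S3184

/-- Let G be a finite group in which the intersection of any two distinct Sylow 2-subgroups is contained in the centre of some Sylow 2-subgroup, and let S be a Sylow 2-subgroup. If C is a nontrivial cyclic characteristic subgroup of S, then the involution of C is central modulo the largest normal subgroup of odd order of G: each of its conjugates has the same image in G/O(G). -/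
theorem result {G : Type*} [Group G] [Finite G]
    (hCI : ∀ S T : Sylow 2 G, S ≠ T → ∃ U : Sylow 2 G,
      (S : Subgroup G) ⊓ (T : Subgroup G) ≤ (Subgroup.center ↥(U : Subgroup G)).map (U : Subgroup G).subtype)
    (S : Sylow 2 G) (C : Subgroup ↥(S : Subgroup G)) (hC : C ≠ ⊥) (hCc : IsCyclic ↥C) (hCh : C.Characteristic)
    (c : ↥(S : Subgroup G)) (hc : c ∈ C) (hc2 : orderOf c = 2) :
    ∀ g : G, (QuotientGroup.mk (s := Cfsg.oddCore G) (g * (c : G) * g⁻¹)) =
      QuotientGroup.mk (s := Cfsg.oddCore G) (c : G) := by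
  classical
  haveI : Fact (Nat.Prime 2) := ⟨Nat.prime_two⟩
  haveI := hCh
  have huniq : ∀ u ∈ C, orderOf u = 2 → u = c := by
    intro u hu hu2
    obtain ⟨w, hw⟩ := IsCyclic.exists_generator (α := C)
    have hmem : ∀ v ∈ C, v ∈ Subgroup.zpowers (w : ↥(S : Subgroup G)) := by
      intro v hv
      obtain ⟨k, hk⟩ := hw ⟨v, hv⟩
      exact ⟨k, by show (w : ↥(S : Subgroup G)) ^ k = v; rw [← Subgroup.coe_zpow]; exact congrArg Subtype.val hk⟩
    have heq := Cfsg.Agent.BSQuaternion.zpowers_eq_of_orderOf_eq (hmem u hu) (hmem c hc) (hu2.trans hc2.symm)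
    obtain ⟨k, hk⟩ := (heq ▸ Subgroup.mem_zpowers u : u ∈ Subgroup.zpowers c)
    simp only at hk
    rw [← hk, zpow_mod_orderOf c k |>.symm, hc2]
    rcases Int.emod_two_eq_zero_or_one k with h | h
    · exfalso
      rw [← zpow_mod_orderOf c k, hc2, show k % ((2 : ℕ) : ℤ) = 0 by exact_mod_cast h, zpow_zero] at hk
      rw [← hk, orderOf_one] at hu2
      omega
    · rw [show k % ((2 : ℕ) : ℤ) = 1 by exact_mod_cast h, zpow_one]
  have hfix : ∀ φ : ↥(S : Subgroup G) ≃* ↥(S : Subgroup G), φ c = c := by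
    intro φ
    refine huniq _ ?_ (by rw [MulEquiv.orderOf_eq, hc2])
    have := hCh.fixed φ
    rw [← this] at hc
    exact Subgroup.mem_comap.mp hc
  have hnorm : ∀ n ∈ Subgroup.normalizer ((S : Subgroup G) : Set G), n * (c : G) * n⁻¹ = c := by
    intro n hn
    exact congrArg Subtype.val (hfix ((S : Subgroup G).normalizerMonoidHom ⟨n, hn⟩))
  have hcen : ∀ s ∈ (S : Subgroup G), s * (c : G) = c * s := fun s hs =>
    mul_inv_eq_iff_eq_mul.mp (hnorm s (Subgroup.le_normalizer hs))
  have hiso : ∀ g : G, g * (c : G) * g⁻¹ ∈ S → g * (c : G) * g⁻¹ = c := by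
    intro g hg
    set d := g * (c : G) * g⁻¹ with hd
    set Cd := Subgroup.centralizer ({d} : Set G) with hCd
    have hS' : ((MulAut.conj g • S : Sylow 2 G) : Subgroup G) ≤ Cd := by
      intro s hs
      obtain ⟨s₀, hs₀, rfl⟩ := (Subgroup.mem_smul_pointwise_iff_exists s (MulAut.conj g) (S : Subgroup G)).mp hs
      rw [hCd, Subgroup.mem_centralizer_singleton_iff, hd, MulAut.smul_def, MulAut.conj_apply]
      have := hcen s₀ hs₀
      calc g * s₀ * g⁻¹ * (g * (c : G) * g⁻¹) = g * (s₀ * c) * g⁻¹ := by group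
        _ = g * (c * s₀) * g⁻¹ := by rw [this]
        _ = g * (c : G) * g⁻¹ * (g * s₀ * g⁻¹) := by group
    set D := (S : Subgroup G) ⊓ Cd with hD
    -- it suffices that `S` centralizes `d`
    suffices hSd : D = (S : Subgroup G) by
      have hle : (S : Subgroup G) ≤ Cd := hSd ▸ inf_le_right
      have hc' : (c : G) ∈ Subgroup.centralizer ((S : Subgroup G) : Set G) := hcen
      have hd' : g⁻¹⁻¹ * (c : G) * g⁻¹ ∈ Subgroup.centralizer ((S : Subgroup G) : Set G) := by
        rw [inv_inv]
        exact fun s hs => Subgroup.mem_centralizer_singleton_iff.mp (hle hs)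
      obtain ⟨n, hn, hn'⟩ := Sylow.conj_eq_normalizer_conj_of_mem_centralizer S (c : G) g⁻¹ hc' hd'
      rw [inv_inv] at hn'
      rw [hd, hn']
      simpa using hnorm n⁻¹ (inv_mem hn)
    -- a Sylow subgroup of `G` inside `Cd` containing `D`
    obtain ⟨R, hDR, hRC⟩ : ∃ R : Sylow 2 G, D ≤ (R : Subgroup G) ∧ (R : Subgroup G) ≤ Cd := by
      obtain ⟨R₀, hR₀⟩ := ((S.2.to_le inf_le_left).comap_of_injective Cd.subtype
        Subtype.val_injective : IsPGroup 2 (D.subgroupOf Cd)).exists_le_sylow
      obtain ⟨e, he⟩ := MulAction.exists_smul_eq Cd ((MulAut.conj g • S : Sylow 2 G).subtype hS') R₀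
      refine ⟨MulAut.conj (e : G) • (MulAut.conj g • S), fun x hx => ?_, fun x hx => ?_⟩
      · have hxR : (⟨x, hx.2⟩ : Cd) ∈ (R₀ : Subgroup Cd) := hR₀ hx
        rw [← he] at hxR
        obtain ⟨y, hy, hy'⟩ := (Subgroup.mem_smul_pointwise_iff_exists _ (MulAut.conj e)
          (((MulAut.conj g • S : Sylow 2 G).subtype hS' : Sylow 2 Cd) : Subgroup Cd)).mp hxR
        exact (Subgroup.mem_smul_pointwise_iff_exists _ (MulAut.conj (e : G))
          ((MulAut.conj g • S : Sylow 2 G) : Subgroup G)).mpr ⟨(y : G), hy, congrArg Subtype.val hy'⟩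
      · obtain ⟨y, hy, rfl⟩ := (Subgroup.mem_smul_pointwise_iff_exists _ (MulAut.conj (e : G))
          ((MulAut.conj g • S : Sylow 2 G) : Subgroup G)).mp hx
        rw [MulAut.smul_def, MulAut.conj_apply]
        exact mul_mem (mul_mem e.2 (hS' hy)) (inv_mem e.2)
    by_cases hRS : R = S
    · exact le_antisymm inf_le_left (le_inf le_rfl (hRS ▸ hRC))
    obtain ⟨U, hU⟩ := hCI S R (Ne.symm hRS)
    have hUD : (U : Subgroup G) ≤ Subgroup.centralizer (D : Set G) := by
      intro u hu
      rw [Subgroup.mem_centralizer_iff]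
      intro x hx
      obtain ⟨x', hx', rfl⟩ := hU ⟨hx.1, hDR hx⟩
      exact (congrArg Subtype.val (Subgroup.mem_center_iff.mp hx' ⟨u, hu⟩)).symm
    by_contra hne
    -- an element of `S` normalizing but not centralizing `D`
    obtain ⟨s, hs, hsn, hsD⟩ : ∃ s ∈ (S : Subgroup G), s ∈ Subgroup.normalizer (D : Set G) ∧ s ∉ D := by
      have hlt : D.subgroupOf (S : Subgroup G) < ⊤ := lt_of_le_of_ne le_top fun h =>
        hne (le_antisymm inf_le_left (Subgroup.subgroupOf_eq_top.mp h))
      haveI : Group.IsNilpotent (S : Subgroup G) := S.2.isNilpotent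
      obtain ⟨s, hs, hsn⟩ := SetLike.exists_of_lt
        (normalizerCondition_of_isNilpotent (D.subgroupOf (S : Subgroup G)) hlt)
      refine ⟨s, s.2, ?_, hsn⟩
      rw [Subgroup.mem_normalizer_iff]
      intro x
      constructor
      · intro hx
        exact ((Subgroup.mem_normalizer_iff.mp hs) ⟨x, hx.1⟩).mp hx
      · intro hx
        have hxS : x ∈ (S : Subgroup G) := by
          have := mul_mem (mul_mem (inv_mem s.2) hx.1) s.2
          simpa [mul_assoc] using this
        exact ((Subgroup.mem_normalizer_iff.mp hs) ⟨x, hxS⟩).mpr hx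
    set N := Subgroup.normalizer (D : Set G) with hN
    set K := (Subgroup.centralizer (D : Set G)).subgroupOf N with hK
    haveI : K.Normal := by
      have e : K = D.normalizerMonoidHom.ker := by
        rw [Subgroup.normalizerMonoidHom_ker]
      rw [e]; infer_instance
    have hodd : ¬ 2 ∣ K.index := by
      intro h2
      have hUN : (U : Subgroup G) ≤ N := hUD.trans (Subgroup.centralizer_le_normalizer _)
      have hle : ((U.subtype hUN : Sylow 2 N) : Subgroup N) ≤ K := fun y hy => hUD hy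
      exact (U.subtype hUN).not_dvd_index (h2.trans (Subgroup.index_dvd_of_le hle))
    have hsK : (⟨s, hsn⟩ : N) ∈ K := by
      obtain ⟨k, hk⟩ := IsPGroup.iff_orderOf.mp S.2 ⟨s, hs⟩
      rw [Subgroup.orderOf_mk] at hk
      have hpow : (⟨s, hsn⟩ : N) ^ K.index ∈ K := Subgroup.pow_index_mem K _
      obtain ⟨j, hj⟩ := exists_pow_eq_self_of_coprime (x := (⟨s, hsn⟩ : N)) (n := K.index) (by
        rw [Subgroup.orderOf_mk, hk]
        exact ((Nat.Prime.coprime_iff_not_dvd Nat.prime_two).mpr hodd).symm.pow_right k)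
      rw [← hj]
      exact Subgroup.pow_mem _ hpow j
    exact hsD ⟨hs, Subgroup.mem_centralizer_singleton_iff.mpr ((Subgroup.mem_centralizer_iff.mp hsK) d
      ⟨hg, Subgroup.mem_centralizer_singleton_iff.mpr rfl⟩).symm⟩
  intro g
  have hz := Cfsg.Agent.InvChar.zstarHyp G (c : G)
    (Cfsg.Agent.Invol.isolated_of_sylow S (by rw [Subgroup.orderOf_coe, hc2]) c.2 hiso) g
  haveI : (Cfsg.oddCore G).Normal := Cfsg.Agent.Basics.pPrimeCore_normal 2
  rw [QuotientGroup.eq]
  have key := (inferInstance : (Cfsg.oddCore G).Normal).conj_mem _ hz (c : G)⁻¹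
  convert key using 1
  group

end Cfsg.Agent.S3184
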