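import Cfsg.Statements.S3190
import Mathlib
import Cfsg.Agent.Lib.InvChar.Basics

set_option autoImplicit false
open Cfsg

namespace Cfsg.Agent.S3190

/-- Let p be an odd prime and, inside a finite group, let P be a p-subgroup normalized by a Klein four-group T. Let R be a subgroup of P, normal in P and normalized by T, such that P is the product of R with the centralizer of T in P. If T centralizes the centre of P, then T centralizes the centre of R. -/
theorem result {X : Type*} [Group X] [Finite X]
    {p : ℕ} (hp : p.Prime) (hodd : Odd p) (P T R : Subgroup X) (hP : IsPGroup p ↥P) (hT : IsKleinFour ↥T)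
    (hTP : T ≤ Subgroup.normalizer (P : Set X)) (hRP : R ≤ P) (hRn : (R.subgroupOf P).Normal)
    (hTR : T ≤ Subgroup.normalizer (R : Set X)) (hfac : R ⊔ (P ⊓ Subgroup.centralizer (T : Set X)) = P)
    (hZ : T ≤ Subgroup.centralizer (((Subgroup.center ↥P).map P.subtype : Subgroup X) : Set X)) :
    T ≤ Subgroup.centralizer (((Subgroup.center ↥R).map R.subtype : Subgroup X) : Set X) := by
  classical
  haveI : Fact p.Prime := ⟨hp⟩
  let A : Subgroup X := R ⊓ Subgroup.centralizer (R : Set X)
  have hZA : (Subgroup.center ↥R).map R.subtype = A := by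
    ext a
    constructor
    · rintro ⟨c, hc, rfl⟩
      refine ⟨c.2, Subgroup.mem_centralizer_iff.mpr fun r hr => ?_⟩
      exact congrArg Subtype.val (Subgroup.mem_center_iff.mp hc ⟨r, hr⟩)
    · rintro ⟨ha, hc⟩
      exact ⟨⟨a, ha⟩, Subgroup.mem_center_iff.mpr fun r => Subtype.ext (Subgroup.mem_centralizer_iff.mp hc r r.2), rfl⟩
  rw [hZA]
  have hAcomm : ∀ a ∈ A, ∀ b ∈ A, a * b = b * a := fun a ha b hb => Subgroup.mem_centralizer_iff.mp hb.2 a ha.1
  letI : CommGroup A :=
    { (inferInstance : Group A) with mul_comm := fun a b => Subtype.ext (hAcomm a a.2 b b.2) }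
  -- anything normalising R normalises A
  have hnA : ∀ g, g ∈ Subgroup.normalizer (R : Set X) → ∀ a ∈ A, g * a * g⁻¹ ∈ A := by
    intro g hg a ha
    refine ⟨(Subgroup.mem_normalizer_iff.mp hg a).mp ha.1, Subgroup.mem_centralizer_iff.mpr fun r hr => ?_⟩
    have hr' : g⁻¹ * r * g ∈ R := by
      rw [Subgroup.mem_normalizer_iff.mp hg]
      simpa [mul_assoc] using hr
    have := Subgroup.mem_centralizer_iff.mp ha.2 _ hr'
    calc r * (g * a * g⁻¹) = g * ((g⁻¹ * r * g) * a) * g⁻¹ := by group
      _ = g * (a * (g⁻¹ * r * g)) * g⁻¹ := by rw [this]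
      _ = g * a * g⁻¹ * r := by group
  let c : ↥T → (↥A →* ↥A) := fun t =>
    { toFun := fun a => ⟨(t:X) * a * (t:X)⁻¹, hnA t (hTR t.2) a a.2⟩
      map_one' := by ext; simp
      map_mul' := fun a b => by ext; simp [mul_assoc] }
  haveI := Fintype.ofFinite T
  let N : ↥A →* ↥A := ∏ t : T, c t
  have hN : ∀ a, N a = ∏ t : T, c t a := fun a => MonoidHom.finsetProd_apply _ _ _
  have hNt : ∀ (s : T) a, N (c s a) = N a := by
    intro s a
    rw [hN, hN]
    refine Fintype.prod_equiv (Equiv.mulRight s) _ _ (fun t => ?_)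
    ext; simp [c, mul_assoc]
  have hTcard : Fintype.card T = 4 := by rw [← Nat.card_eq_fintype_card]; exact hT.card_four
  have hK : N.ker = ⊥ := by
    by_contra hne
    let K : Subgroup ↥P := (N.ker.map A.subtype).subgroupOf P
    have hKn : K.Normal := by
      constructor
      intro k hk g
      rw [Subgroup.mem_subgroupOf] at hk ⊢
      obtain ⟨a, ha, hak⟩ := hk
      have hgR : (g : X) ∈ Subgroup.normalizer (R : Set X) := by
        rw [Subgroup.mem_normalizer_iff]
        intro r
        constructor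
        · intro hr
          exact hRn.conj_mem ⟨r, hRP hr⟩ hr g
        · intro hr
          have h := hRn.conj_mem ⟨_, hRP hr⟩ hr g⁻¹
          rw [Subgroup.mem_subgroupOf] at h
          simpa [mul_assoc] using h
      have hgd : ∀ x : X, x ∈ P → ∃ r ∈ R, ∃ d ∈ P ⊓ Subgroup.centralizer (T : Set X), x = r * d := by
        intro x hx
        rw [← hfac] at hx
        have hnorm : (P ⊓ Subgroup.centralizer (T : Set X)) ≤ Subgroup.normalizer (R : Set X) :=
          fun d hd => by
            rw [Subgroup.mem_normalizer_iff]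
            intro r
            constructor
            · intro hr
              exact hRn.conj_mem ⟨r, hRP hr⟩ hr ⟨d, hd.1⟩
            · intro hr
              have h := hRn.conj_mem ⟨_, hRP hr⟩ hr ⟨d, hd.1⟩⁻¹
              rw [Subgroup.mem_subgroupOf] at h
              simpa [mul_assoc] using h
        rw [← SetLike.mem_coe, Subgroup.coe_mul_of_right_le_normalizer_left _ _ hnorm] at hx
        obtain ⟨r, hr, d, hd, rfl⟩ := hx
        exact ⟨r, hr, d, hd, rfl⟩
      refine ⟨⟨(g:X) * a * (g:X)⁻¹, hnA g hgR a a.2⟩, ?_, ?_⟩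
      · obtain ⟨r, hr, d, hd, hrd⟩ := hgd g g.2
        rw [SetLike.mem_coe, MonoidHom.mem_ker] at ha ⊢
        have hgR2 : (r⁻¹ * (g:X)) ∈ Subgroup.normalizer (R : Set X) :=
          mul_mem (inv_mem (Subgroup.le_normalizer hr)) hgR
        let γ : ↥A →* ↥A :=
          { toFun := fun a => ⟨(g:X) * a * (g:X)⁻¹, hnA g hgR a a.2⟩
            map_one' := by ext; simp
            map_mul' := fun a b => by ext; simp [mul_assoc] }
        have hcomm : N (γ a) = γ (N a) := by
          rw [hN, hN, map_prod]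
          refine Finset.prod_congr rfl fun t _ => Subtype.ext ?_
          show (t:X) * ((g:X) * a * (g:X)⁻¹) * (t:X)⁻¹ = (g:X) * ((t:X) * a * (t:X)⁻¹) * (g:X)⁻¹
          have htd : (t:X) * d = d * t := Subgroup.mem_centralizer_iff.mp hd.2 t t.2
          have hfix : ∀ b : X, b ∈ A → (g:X) * b * (g:X)⁻¹ = d * b * d⁻¹ := by
            intro b hb
            have hdb : d * b * d⁻¹ ∈ A := hnA d (by
              have : d = r⁻¹ * (g:X) := by rw [hrd]; group
              rw [this]; exact hgR2) b hb
            calc (g:X) * b * (g:X)⁻¹ = r * (d * b * d⁻¹) * r⁻¹ := by rw [hrd]; group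
              _ = (d * b * d⁻¹) * r * r⁻¹ := by rw [Subgroup.mem_centralizer_iff.mp hdb.2 r hr]
              _ = d * b * d⁻¹ := by group
          rw [hfix a a.2, hfix _ (hnA t (hTR t.2) a a.2)]
          calc (t:X) * (d * a * d⁻¹) * (t:X)⁻¹ = ((t:X) * d) * a * ((t:X) * d)⁻¹ := by group
            _ = (d * t) * a * (d * t)⁻¹ := by rw [htd]
            _ = _ := by group
        show N (γ a) = 1
        rw [hcomm, ha, map_one]
      · show (g:X) * a * (g:X)⁻¹ = _
        rw [show (a : X) = (k : X) from hak]; rfl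
    have hKne : K ≠ ⊥ := by
      obtain ⟨⟨a, ha⟩, ha1⟩ := Subgroup.ne_bot_iff_exists_ne_one.mp hne
      intro h
      have hmem : (⟨(a : X), hRP a.2.1⟩ : P) ∈ K := ⟨a, ha, rfl⟩
      rw [h, Subgroup.mem_bot] at hmem
      exact ha1 (Subtype.ext (Subtype.ext (congrArg (fun z : P => (z : X)) hmem :)))
    obtain ⟨v, hvK, hvc, hv1⟩ := Cfsg.Agent.InvChar.exists_mem_center_of_normal hP K hKne
    obtain ⟨a, ha, hav⟩ := hvK
    apply hv1
    have hfixT : ∀ t : T, c t a = a := by
      intro t
      have := Subgroup.mem_centralizer_iff.mp (hZ t.2) (v : X) ⟨v, hvc, rfl⟩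
      rw [← show (a : X) = (v : X) from hav] at this
      ext
      show (t:X) * a * (t:X)⁻¹ = a
      rw [← this]; group
    rw [SetLike.mem_coe, MonoidHom.mem_ker, hN] at ha
    simp only [hfixT, Finset.prod_const, Finset.card_univ, hTcard] at ha
    have h1 : orderOf a ∣ 4 := orderOf_dvd_of_pow_eq_one ha
    obtain ⟨k, hk⟩ := hP v
    have h2 : orderOf a ∣ p ^ k := by
      refine orderOf_dvd_of_pow_eq_one (Subtype.ext ?_)
      rw [Subgroup.coe_pow, show (a : X) = (v : X) from hav, ← Subgroup.coe_pow, hk]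
      rfl
    have h3 : orderOf a = 1 :=
      Nat.eq_one_of_dvd_coprimes ((Nat.Coprime.pow 2 k ((Nat.coprime_primes Nat.prime_two hp).mpr (fun h => by rw [← h] at hodd; exact absurd hodd (by decide))))) (by simpa using h1) h2
    rw [orderOf_eq_one_iff] at h3
    exact Subtype.ext (by rw [← show (a : X) = (v : X) from hav, h3]; rfl)
  intro t ht
  rw [Subgroup.mem_centralizer_iff]
  intro a ha
  have h := (MonoidHom.ker_eq_bot_iff N).mp hK (hNt ⟨t, ht⟩ ⟨a, ha⟩)
  have h' : t * a * t⁻¹ = a := congrArg Subtype.val h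
  exact (mul_inv_eq_iff_eq_mul.mp h').symm

end Cfsg.Agent.S3190
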