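import Cfsg.Statements.S3200
import Mathlib
import Cfsg.Agent.Lib.CT.Integral
import Cfsg.Agent.Lib.Basics.Cores

set_option autoImplicit false
set_option linter.style.haveILetI false
open Cfsg

namespace Cfsg.Agent.S3200

theorem relIndex_dvd_index_normal {G : Type*} [Group G] [Finite G] (H N : Subgroup G) [N.Normal] :
    H.relIndex N ∣ H.index := by
  have hsup : N.relIndex (H ⊔ N) = N.relIndex H := Subgroup.relIndex_sup_right _ _
  have e1 := Subgroup.relIndex_mul_relIndex (H ⊓ N) N (H ⊔ N) inf_le_right le_sup_right
  have e2 := Subgroup.relIndex_mul_relIndex (H ⊓ N) H (H ⊔ N) inf_le_left le_sup_left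
  rw [Subgroup.inf_relIndex_right, hsup, ← e2, Subgroup.inf_relIndex_left, mul_comm] at e1
  have h3 := Nat.eq_of_mul_eq_mul_left (Nat.pos_of_ne_zero (N.subgroupOf H).index_ne_zero_of_finite) e1
  rw [h3]
  exact Subgroup.relIndex_dvd_index_of_le le_sup_left

universe v

theorem abelian_complement_aux : ∀ (k : ℕ) (G : Type v) [Group G] [Finite G] (C : Subgroup G), Nat.card G < k →
    IsMulCommutative ↥C → Odd (Nat.card ↥C) → (∃ a, C.index = 2 ^ a) →
    Group.IsSolvable G ∧ (∀ X : Subgroup G, Odd (Nat.card ↥X) → IsMulCommutative ↥X) ∧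
      ∀ L : Subgroup G, ∃ D : Subgroup G, D ≤ L ∧ Odd (Nat.card ↥D) ∧ ∃ a, D.relIndex L = 2 ^ a := by
  intro k
  induction k with
  | zero => intro G _ _ C h; omega
  | succ k ih =>
    intro G _ _ C hk hC hCodd hidx
    obtain ⟨a, ha⟩ := hidx
    haveI := Fintype.ofFinite G
    have hsol : Group.IsSolvable G := by
      by_cases hs : IsSimpleGroup G
      · by_cases hC1 : C = ⊥
        · have h : Nat.card G = 2 ^ a := by rw [← ha, hC1, Subgroup.index_bot]
          haveI : Fact (Nat.Prime 2) := ⟨Nat.prime_two⟩
          haveI := (IsPGroup.of_card h).isNilpotent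
          infer_instance
        · obtain ⟨⟨c, hc⟩, hc1⟩ := Subgroup.ne_bot_iff_exists_ne_one.mp hC1
          have hle : C ≤ Subgroup.centralizer ({c} : Set G) := fun x hx =>
            Subgroup.mem_centralizer_singleton_iff.mpr (congrArg Subtype.val (hC.is_comm.comm ⟨x, hx⟩ ⟨c, hc⟩))
          obtain ⟨b, -, hb⟩ := (Nat.dvd_prime_pow Nat.prime_two).mp (ha ▸ Subgroup.index_dvd_of_le hle)
          have hp := Cfsg.Agent.CT.card_prime_of_class_prime_pow (g := c) Nat.prime_two (fun h => hc1 (Subtype.ext h)) hb
          haveI := Fact.mk hp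
          haveI := isCyclic_of_prime_card (α := G) (p := Nat.card G) rfl
          exact Group.isSolvable_of_comm fun x y => IsCyclic.commutative.is_comm.comm x y
      · by_cases hnt : Nontrivial G
        · obtain ⟨N, hN, hN1, hN2⟩ : ∃ N : Subgroup G, N.Normal ∧ N ≠ ⊥ ∧ N ≠ ⊤ := by
            by_contra hh
            refine hs (@IsSimpleGroup.mk G _ hnt fun H hH => ?_)
            by_contra h'
            push Not at h'
            exact hh ⟨H, hH, h'.1, h'.2⟩
          have hNlt : Nat.card N < Nat.card G := by
            refine lt_of_le_of_ne (Subgroup.card_le_card_group N) fun h => hN2 ?_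
            exact Subgroup.eq_top_of_card_eq N h
          have hQlt : Nat.card (G ⧸ N) < Nat.card G := by
            have h1 : 1 < Nat.card N := (Subgroup.one_lt_card_iff_ne_bot N).mpr hN1
            rw [Subgroup.card_eq_card_quotient_mul_card_subgroup N]
            have := Nat.card_pos (α := G ⧸ N)
            calc Nat.card (G ⧸ N) = Nat.card (G ⧸ N) * 1 := (mul_one _).symm
              _ < _ := Nat.mul_lt_mul_of_pos_left h1 this
          have hNs := (ih N (C.subgroupOf N) (by omega) inferInstance
            (by
              exact hCodd.of_dvd_nat (Subgroup.card_comap_dvd_of_injective C N.subtype Subtype.val_injective))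
            (by
              obtain ⟨b, -, hb⟩ := (Nat.dvd_prime_pow Nat.prime_two).mp (ha ▸ relIndex_dvd_index_normal C N)
              exact ⟨b, hb⟩)).1
          have hQs := (ih (G ⧸ N) (C.map (QuotientGroup.mk' N)) (by omega) inferInstance
            (hCodd.of_dvd_nat (Subgroup.card_map_dvd C _))
            (by
              obtain ⟨b, -, hb⟩ := (Nat.dvd_prime_pow Nat.prime_two).mp
                (ha ▸ Subgroup.index_map_dvd C (QuotientGroup.mk'_surjective N))
              exact ⟨b, hb⟩)).1
          exact Group.isSolvable_of_ker_le_range (f := N.subtype) (g := QuotientGroup.mk' N) (by simp)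
        · haveI := not_nontrivial_iff_subsingleton.mp hnt
          exact Group.isSolvable_of_comm fun a b => Subsingleton.elim _ _
    refine ⟨hsol, ?_⟩
    haveI := hsol
    haveI : Fact (Nat.Prime 2) := ⟨Nat.prime_two⟩
    set T := Cfsg.pCore 2 G with hT
    by_cases hT1 : T = ⊥
    · -- C is the normal Fitting subgroup
      have hCn : C.Normal := by
        set F := Cfsg.fittingSubgroup G
        have hFC : F ≤ C := by
          have hFodd : ¬ 2 ∣ Nat.card F := by
            intro hd
            haveI : Group.IsNilpotent F := inferInstance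
            obtain ⟨P⟩ := (inferInstance : Nonempty (Sylow 2 F))
            haveI : (P : Subgroup F).Normal := P.normal_of_normalizerCondition normalizerCondition_of_isNilpotent
            haveI := P.characteristic_of_normal this
            haveI : ((P : Subgroup F).map F.subtype).Normal := ConjAct.normal_of_characteristic_of_normal
            have hle := Cfsg.Agent.Basics.le_pCore (N := (P : Subgroup F).map F.subtype) (p := 2) (P.2.map _)
            rw [← hT, hT1, le_bot_iff, Subgroup.map_eq_bot_iff_of_injective _ Subtype.val_injective] at hle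
            exact P.ne_bot_of_dvd_card hd hle
          intro x hx
          have h1 : C.relIndex F ∣ Nat.card F := Subgroup.index_dvd_card _
          obtain ⟨b, -, hb⟩ := (Nat.dvd_prime_pow Nat.prime_two).mp (ha ▸ relIndex_dvd_index_normal C F)
          have hb0 : b = 0 := by
            by_contra hb0
            exact hFodd (dvd_trans (by rw [hb]; exact dvd_pow_self 2 hb0) h1)
          rw [hb0, pow_zero] at hb
          exact Subgroup.relIndex_eq_one.mp hb hx
        have : C = F := le_antisymm (fun x hx => Cfsg.Agent.Basics.centralizer_fittingSubgroup_le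
          (Subgroup.mem_centralizer_iff.mpr fun f hf => congrArg Subtype.val (hC.is_comm.comm ⟨f, hFC hf⟩ ⟨x, hx⟩))) hFC
        rw [this]; infer_instance
      have hin : ∀ X : Subgroup G, Odd (Nat.card ↥X) → X ≤ C := by
        intro X hX
        refine Subgroup.relIndex_eq_one.mp ?_
        obtain ⟨b, -, hb⟩ := (Nat.dvd_prime_pow Nat.prime_two).mp (ha ▸ C.relIndex_dvd_index_of_normal (K := X))
        have h1 : C.relIndex X ∣ Nat.card X := Subgroup.index_dvd_card _
        rw [hb] at h1 ⊢
        have h3 := hX.of_dvd_nat h1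
        rcases Nat.eq_zero_or_pos b with rfl | hb0
        · rfl
        · exfalso
          rw [Nat.odd_iff] at h3
          have : 2 ∣ 2 ^ b := dvd_pow_self 2 (by omega)
          omega
      refine ⟨fun X hX => ⟨⟨fun x y => Subtype.ext (congrArg (fun z : C => (z : G)) (hC.is_comm.comm ⟨x, hin X hX x.2⟩ ⟨y, hin X hX y.2⟩) :)⟩⟩, fun L => ⟨C ⊓ L, inf_le_right, ?_, ?_⟩⟩
      · exact hCodd.of_dvd_nat (Subgroup.card_dvd_of_le inf_le_left)
      · rw [Subgroup.inf_relIndex_right]
        obtain ⟨b, -, hb⟩ := (Nat.dvd_prime_pow Nat.prime_two).mp (ha ▸ C.relIndex_dvd_index_of_normal (K := L))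
        exact ⟨b, hb⟩
    · have hTp : IsPGroup 2 T := Cfsg.Agent.Basics.pCore_isPGroup 2
      have hQlt : Nat.card (G ⧸ T) < Nat.card G := by
        have h1 : 1 < Nat.card T := (Subgroup.one_lt_card_iff_ne_bot T).mpr hT1
        rw [Subgroup.card_eq_card_quotient_mul_card_subgroup T]
        have := Nat.card_pos (α := G ⧸ T)
        calc Nat.card (G ⧸ T) = Nat.card (G ⧸ T) * 1 := (mul_one _).symm
          _ < _ := Nat.mul_lt_mul_of_pos_left h1 this
      obtain ⟨-, hQa, hQe⟩ := ih (G ⧸ T) (C.map (QuotientGroup.mk' T)) (by omega) inferInstance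
            (hCodd.of_dvd_nat (Subgroup.card_map_dvd C _))
            (by
              obtain ⟨b, -, hb⟩ := (Nat.dvd_prime_pow Nat.prime_two).mp
                (ha ▸ Subgroup.index_map_dvd C (QuotientGroup.mk'_surjective T))
              exact ⟨b, hb⟩)
      set π := QuotientGroup.mk' T with hπ
      refine ⟨fun X hX => ?_, fun L => ?_⟩
      · have hX' := hQa (X.map π) (hX.of_dvd_nat (Subgroup.card_map_dvd X _))
        refine ⟨⟨fun x y => ?_⟩⟩
        have hd : T ⊓ X = ⊥ := by
          rw [← disjoint_iff]
          refine Subgroup.disjoint_of_coprime_natCard ?_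
          obtain ⟨t, ht⟩ := hTp.exists_card_eq
          rw [ht]
          exact Nat.Coprime.pow_left _ ((Nat.coprime_two_left).mpr hX)
        have hmem : (x : G) * y * ((y : G) * x)⁻¹ ∈ T ⊓ X := by
          refine ⟨(QuotientGroup.eq_one_iff _).mp ?_, (mul_mem (mul_mem x.2 y.2) (inv_mem (mul_mem y.2 x.2)) : (x : G) * y * ((y : G) * x)⁻¹ ∈ X)⟩
          have := congrArg Subtype.val (hX'.is_comm.comm ⟨π x, x, x.2, rfl⟩ ⟨π y, y, y.2, rfl⟩)
          show π ((x:G) * y * ((y:G) * x)⁻¹) = 1
          rw [map_mul π, map_inv π, map_mul π, map_mul π]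
          rw [show π (x:G) * π y = π y * π x from this]
          exact mul_inv_cancel _
        rw [hd, Subgroup.mem_bot, mul_inv_eq_one] at hmem
        exact Subtype.ext hmem
      · obtain ⟨D₁, hD₁L, hD₁odd, b, hb⟩ := hQe (L.map π)
        set M := L ⊓ D₁.comap π with hM
        let φ : M →* D₁ := (π.comp M.subtype).codRestrict D₁ (fun m => m.2.2)
        have hφ : Function.Surjective φ := by
          rintro ⟨d, hd⟩
          obtain ⟨l, hl, rfl⟩ := hD₁L hd
          exact ⟨⟨l, hl, hd⟩, rfl⟩
        have hker : Nat.card φ.ker ∣ Nat.card T := by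
          refine Subgroup.card_dvd_of_injective ((M.subtype.comp φ.ker.subtype).codRestrict T fun m => ?_) ?_
          · exact (QuotientGroup.eq_one_iff _).mp (congrArg Subtype.val (m.2 : φ m = 1))
          · intro u v h
            exact Subtype.ext (Subtype.ext (congrArg (fun w : T => (w : G)) h :))
        obtain ⟨t, ht⟩ := hTp.exists_card_eq
        obtain ⟨t', -, ht'⟩ := (Nat.dvd_prime_pow Nat.prime_two).mp (ht ▸ hker)
        have hcop : (Nat.card φ.ker).Coprime φ.ker.index := by
          rw [Subgroup.index_ker, MonoidHom.range_eq_top.mpr hφ, Subgroup.card_top, ht']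
          exact Nat.Coprime.pow_left _ ((Nat.coprime_two_left).mpr hD₁odd)
        obtain ⟨D, hD⟩ := Subgroup.exists_right_complement'_of_coprime hcop
        have hDcard : Nat.card D = Nat.card D₁ := by
          rw [← hD.symm.index_eq_card, Subgroup.index_ker, MonoidHom.range_eq_top.mpr hφ, Subgroup.card_top]
        refine ⟨D.map M.subtype, (Subgroup.map_subtype_le D).trans inf_le_left, ?_, ?_⟩
        · rw [Subgroup.card_map_of_injective Subtype.val_injective, hDcard]; exact hD₁odd
        · have h1 : (D.map M.subtype).relIndex M = 2 ^ t' := by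
            rw [Subgroup.relIndex, Subgroup.subgroupOf, Subgroup.comap_map_eq_self_of_injective Subtype.val_injective,
              hD.index_eq_card, ht']
          have h2 : M.relIndex L = 2 ^ b := by
            rw [hM, Subgroup.inf_relIndex_left, ← hb]
            exact Subgroup.relIndex_comap D₁ π L
          refine ⟨t' + b, ?_⟩
          rw [← Subgroup.relIndex_mul_relIndex _ M L (Subgroup.map_subtype_le D) inf_le_left, h1, h2, pow_add]

/-- Let H be a finite group in which a Sylow 2-subgroup has an abelian complement (an abelian subgroup meeting it trivially whose product with it is all of H). Then H is solvable, and every subgroup and every quotient group of H again has a Sylow 2-subgroup with an abelian complement. -/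
theorem result {H : Type*} [Group H] [Finite H]
    (S : Sylow 2 H) (C : Subgroup H) (hC : IsMulCommutative ↥C) (hSC : Subgroup.IsComplement' (S : Subgroup H) C) :
    Group.IsSolvable H ∧
    (∀ L : Subgroup H, ∃ (P : Sylow 2 ↥L) (D : Subgroup ↥L), IsMulCommutative ↥D ∧ Subgroup.IsComplement' (P : Subgroup ↥L) D) ∧
    (∀ (N : Subgroup H) [N.Normal], ∃ (P : Sylow 2 (H ⧸ N)) (D : Subgroup (H ⧸ N)),
      IsMulCommutative ↥D ∧ Subgroup.IsComplement' (P : Subgroup (H ⧸ N)) D) := by
  have hidx : ∃ a, C.index = 2 ^ a := by
    obtain ⟨a, ha⟩ := S.2.exists_card_eq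
    exact ⟨a, hSC.index_eq_card.trans ha⟩
  have hodd : Odd (Nat.card ↥C) := by
    rw [← hSC.symm.index_eq_card, ← Nat.not_even_iff_odd, even_iff_two_dvd]
    exact S.not_dvd_index
  obtain ⟨hsol, hab, hex⟩ := abelian_complement_aux (Nat.card H + 1) H C (by omega) hC hodd hidx
  refine ⟨hsol, fun L => ?_, fun N _ => ?_⟩
  · obtain ⟨D, hDL, hDodd, b, hb⟩ := hex L
    obtain ⟨P⟩ := (inferInstance : Nonempty (Sylow 2 ↥L))
    refine ⟨P, D.subgroupOf L, ?_, ?_⟩
    · have := hab D hDodd
      exact ⟨⟨fun x y => Subtype.ext (Subtype.ext (congrArg (fun z : D => (z : H))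
        (this.is_comm.comm ⟨(x : L), x.2⟩ ⟨(y : L), y.2⟩) :))⟩⟩
    · have hcard : Nat.card ↥(D.subgroupOf L) = Nat.card D :=
        Nat.card_congr (Subgroup.subgroupOfEquivOfLe hDL).toEquiv
      have hLc : Nat.card L = Nat.card D * 2 ^ b := by
        rw [← Subgroup.card_mul_index (D.subgroupOf L), hcard, ← hb]; rfl
      have hP : Nat.card P = 2 ^ b := by
        rw [P.card_eq_multiplicity, hLc, Nat.factorization_mul Nat.card_pos.ne' (by positivity)]
        rw [Finsupp.add_apply, Nat.factorization_eq_zero_of_not_dvd (fun h => by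
          rw [Nat.odd_iff] at hDodd; omega), Nat.factorization_pow_self Nat.prime_two, zero_add]
      refine Subgroup.isComplement'_of_coprime ?_ ?_
      · rw [hcard, hP, hLc, mul_comm]
      · rw [hcard, hP]
        exact Nat.Coprime.pow_left _ ((Nat.coprime_two_left).mpr hDodd)
  · set π := QuotientGroup.mk' N
    refine ⟨Sylow.mapSurjective (QuotientGroup.mk'_surjective N) S, C.map π, inferInstance, ?_⟩
    rw [Sylow.coe_mapSurjective]
    obtain ⟨a, ha⟩ := hidx
    obtain ⟨b, -, hb⟩ := (Nat.dvd_prime_pow Nat.prime_two).mp (ha ▸ Subgroup.index_map_dvd C (QuotientGroup.mk'_surjective N))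
    have hDodd : Odd (Nat.card ↥(C.map π)) := hodd.of_dvd_nat (Subgroup.card_map_dvd C _)
    have hLc : Nat.card (H ⧸ N) = Nat.card ↥(C.map π) * 2 ^ b := by
      rw [← Subgroup.card_mul_index (C.map π), hb]
    have hP : Nat.card ↥((S : Subgroup H).map π) = 2 ^ b := by
      have h := (Sylow.mapSurjective (QuotientGroup.mk'_surjective N) S).card_eq_multiplicity
      rw [Sylow.coe_mapSurjective] at h
      rw [h, hLc, Nat.factorization_mul Nat.card_pos.ne' (by positivity)]
      rw [Finsupp.add_apply, Nat.factorization_eq_zero_of_not_dvd (fun h => by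
        rw [Nat.odd_iff] at hDodd; omega), Nat.factorization_pow_self Nat.prime_two, zero_add]
    refine Subgroup.isComplement'_of_coprime ?_ ?_
    · rw [hP, hLc, mul_comm]
    · rw [hP]
      exact Nat.Coprime.pow_left _ ((Nat.coprime_two_left).mpr hDodd)

end Cfsg.Agent.S3200
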