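import Cfsg.Statements.S3203
import Mathlib

set_option autoImplicit false
open Cfsg

namespace Cfsg.Agent.S3203

/-- Let S be a Sylow 2-subgroup of a finite group G having exactly two subgroups A ≠ B that are maximal among its elementary abelian subgroups, with S = AB. Then A and B are each weakly closed in S with respect to G, and the normalizer of S normalizes both A and B. -/
theorem result {G : Type*} [Group G] [Finite G] (S : Sylow 2 G)
    (A B : Subgroup ↥(S : Subgroup G)) (hAB : A ≠ B)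
    (hA : Cfsg.IsElementaryAbelian 2 A ∧ ∀ C : Subgroup ↥(S : Subgroup G), Cfsg.IsElementaryAbelian 2 C → A ≤ C → C = A)
    (hB : Cfsg.IsElementaryAbelian 2 B ∧ ∀ C : Subgroup ↥(S : Subgroup G), Cfsg.IsElementaryAbelian 2 C → B ≤ C → C = B)
    (honly : ∀ C : Subgroup ↥(S : Subgroup G), Cfsg.IsElementaryAbelian 2 C →
      (∀ D : Subgroup ↥(S : Subgroup G), Cfsg.IsElementaryAbelian 2 D → C ≤ D → D = C) → C = A ∨ C = B)
    (hprod : ∀ s : ↥(S : Subgroup G), ∃ a ∈ A, ∃ b ∈ B, a * b = s)
    (A' B' : Subgroup G) (hA' : A' = A.map (S : Subgroup G).subtype) (hB' : B' = B.map (S : Subgroup G).subtype) :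
    Cfsg.IsWeaklyClosed A' (S : Subgroup G) ∧ Cfsg.IsWeaklyClosed B' (S : Subgroup G) ∧
      Subgroup.normalizer ((S : Subgroup G) : Set G) ≤ Subgroup.normalizer (A' : Set G) ⊓ Subgroup.normalizer (B' : Set G) := by
  classical
  subst hA' hB'
  set ι := (S : Subgroup G).subtype
  have hι : Function.Injective ι := Subtype.val_injective
  have hcm : ∀ {D : Subgroup ↥(S : Subgroup G)}, IsMulCommutative ↥D → ∀ a ∈ D, ∀ b ∈ D, a * b = b * a :=
    fun {D} h a ha b hb => congrArg Subtype.val (h.is_comm.comm ⟨a, ha⟩ ⟨b, hb⟩)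
  -- A and B are normal in S
  have hconj : ∀ (C : Subgroup ↥(S : Subgroup G)) (s : ↥(S : Subgroup G)),
      (Cfsg.IsElementaryAbelian 2 C ∧ ∀ D : Subgroup ↥(S : Subgroup G), Cfsg.IsElementaryAbelian 2 D → C ≤ D → D = C) →
      C.map (MulAut.conj s).toMonoidHom = A ∨ C.map (MulAut.conj s).toMonoidHom = B := by
    rintro C s ⟨⟨hCc, hC2⟩, hCmax⟩
    have hel : ∀ (D : Subgroup ↥(S : Subgroup G)) (s : ↥(S : Subgroup G)), Cfsg.IsElementaryAbelian 2 D →
        Cfsg.IsElementaryAbelian 2 (D.map (MulAut.conj s).toMonoidHom) := by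
      rintro D s ⟨hDc, hD2⟩
      refine ⟨⟨⟨?_⟩⟩, ?_⟩
      · rintro ⟨_, a, ha, rfl⟩ ⟨_, b, hb, rfl⟩
        refine Subtype.ext ?_
        show (MulAut.conj s) a * (MulAut.conj s) b = (MulAut.conj s) b * (MulAut.conj s) a
        rw [← map_mul, ← map_mul, hcm hDc a ha b hb]
      · rintro _ ⟨a, ha, rfl⟩
        rw [← map_pow, hD2 a ha, map_one]
    refine honly _ (hel C s ⟨hCc, hC2⟩) fun D hD hle => ?_
    have h := hCmax _ (hel D s⁻¹ hD) (fun c hc => ⟨_, hle ⟨c, hc, rfl⟩, by simp [mul_assoc]⟩)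
    refine le_antisymm (fun d hd => ?_) hle
    have : (MulAut.conj s⁻¹) d ∈ C := by rw [← h]; exact ⟨d, hd, rfl⟩
    exact ⟨_, this, by simp [mul_assoc]⟩
  have hnorm : ∀ (s : ↥(S : Subgroup G)), A.map (MulAut.conj s).toMonoidHom = A ∧ B.map (MulAut.conj s).toMonoidHom = B := by
    intro s
    obtain ⟨a, ha, b, hb, rfl⟩ := hprod s
    have hfix : ∀ (C : Subgroup ↥(S : Subgroup G)) (c : ↥(S : Subgroup G)), c ∈ C → C.map (MulAut.conj c).toMonoidHom = C := by
      intro C c hc
      refine Subgroup.eq_of_le_of_card_ge ?_ (by rw [Subgroup.card_map_of_injective (MulAut.conj c).injective])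
      rintro _ ⟨d, hd, rfl⟩
      exact mul_mem (mul_mem hc hd) (inv_mem hc)
    have hcomp : ∀ (C : Subgroup ↥(S : Subgroup G)) (u v : ↥(S : Subgroup G)),
        C.map (MulAut.conj (u * v)).toMonoidHom = (C.map (MulAut.conj v).toMonoidHom).map (MulAut.conj u).toMonoidHom := by
      intro C u v
      rw [Subgroup.map_map]
      congr 1
      ext x
      simp [mul_assoc]
    have hinjmap : ∀ (u : ↥(S : Subgroup G)), Function.Injective (fun C : Subgroup ↥(S : Subgroup G) => C.map (MulAut.conj u).toMonoidHom) :=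
      fun u => Subgroup.map_injective (MulAut.conj u).injective
    have hbA : ∀ b ∈ B, A.map (MulAut.conj b).toMonoidHom = A := fun b hb =>
      (hconj A b hA).resolve_right fun h => hAB (hinjmap b (h.trans (hfix B b hb).symm))
    have haB : ∀ a ∈ A, B.map (MulAut.conj a).toMonoidHom = B := fun a ha =>
      (hconj B a hB).resolve_left fun h => hAB (hinjmap a (h.trans (hfix A a ha).symm)).symm
    exact ⟨by rw [hcomp, hbA b hb, hfix A a ha], by rw [hcomp, hfix B b hb, haB a ha]⟩
  -- in G
  have hmapconj : ∀ (C : Subgroup ↥(S : Subgroup G)) (s : ↥(S : Subgroup G)), C.map (MulAut.conj s).toMonoidHom = C →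
      (C.map ι).map (MulAut.conj (s : G)).toMonoidHom = C.map ι := by
    intro C s h
    conv_rhs => rw [← h]
    rw [Subgroup.map_map, Subgroup.map_map]
    rfl
  have hSnorm : ∀ (C : Subgroup ↥(S : Subgroup G)), (∀ s, C.map (MulAut.conj s).toMonoidHom = C) →
      (S : Subgroup G) ≤ Subgroup.normalizer ((C.map ι : Subgroup G) : Set G) := by
    intro C h s hs
    have h1 := hmapconj C ⟨s, hs⟩ (h _)
    rw [Subgroup.mem_normalizer_iff]
    intro x
    constructor
    · intro hx; exact h1 ▸ ⟨x, hx, rfl⟩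
    · intro hx
      replace hx : s * x * s⁻¹ ∈ (C.map ι).map (MulAut.conj s).toMonoidHom := by rwa [h1]
      obtain ⟨y, hy, he⟩ := hx
      rwa [← (MulAut.conj s).injective he]
  have hA' := hSnorm A fun s => (hnorm s).1
  have hB' := hSnorm B fun s => (hnorm s).2
  -- N_G(S) fixes A and B
  set N := Subgroup.normalizer ((S : Subgroup G) : Set G) with hN
  have hperm : ∀ (C : Subgroup ↥(S : Subgroup G)),
      (Cfsg.IsElementaryAbelian 2 C ∧ ∀ D : Subgroup ↥(S : Subgroup G), Cfsg.IsElementaryAbelian 2 D → C ≤ D → D = C) →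
      ∀ n ∈ N, (C.map ι).map (MulAut.conj n).toMonoidHom = A.map ι ∨ (C.map ι).map (MulAut.conj n).toMonoidHom = B.map ι := by
    rintro C ⟨⟨hCc, hC2⟩, hCmax⟩ n hn
    let φ : ↥(S : Subgroup G) ≃* ↥(S : Subgroup G) :=
      { toFun := fun x => ⟨n * x * n⁻¹, (Subgroup.mem_normalizer_iff.mp hn x).mp x.2⟩
        invFun := fun x => ⟨n⁻¹ * x * n, by
          have := (Subgroup.mem_normalizer_iff.mp (inv_mem hn) x).mp x.2
          rwa [inv_inv] at this⟩
        left_inv := fun x => Subtype.ext (by simp [mul_assoc])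
        right_inv := fun x => Subtype.ext (by simp [mul_assoc])
        map_mul' := fun x y => Subtype.ext (by simp [mul_assoc]) }
    have hel : ∀ (D : Subgroup ↥(S : Subgroup G)) (φ : ↥(S : Subgroup G) ≃* ↥(S : Subgroup G)),
        Cfsg.IsElementaryAbelian 2 D → Cfsg.IsElementaryAbelian 2 (D.map φ.toMonoidHom) := by
      rintro D φ ⟨hDc, hD2⟩
      refine ⟨⟨⟨?_⟩⟩, ?_⟩
      · rintro ⟨_, a, ha, rfl⟩ ⟨_, b, hb, rfl⟩
        refine Subtype.ext ?_
        show φ a * φ b = φ b * φ a
        rw [← map_mul, ← map_mul, hcm hDc a ha b hb]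
      · rintro _ ⟨a, ha, rfl⟩
        rw [← map_pow, hD2 a ha, map_one]
    have heq : (C.map ι).map (MulAut.conj n).toMonoidHom = (C.map φ.toMonoidHom).map ι := by
      rw [Subgroup.map_map, Subgroup.map_map]; rfl
    rw [heq]
    refine (honly _ (hel C φ ⟨hCc, hC2⟩) fun D hD hle => ?_).imp (congrArg _) (congrArg _)
    have h := hCmax _ (hel D φ.symm hD) (fun c hc => ⟨_, hle ⟨c, hc, rfl⟩, φ.symm_apply_apply c⟩)
    refine le_antisymm (fun d hd => ?_) hle
    have : φ.symm d ∈ C := by rw [← h]; exact ⟨d, hd, rfl⟩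
    exact ⟨_, this, φ.apply_symm_apply d⟩
  have hne : A.map ι ≠ B.map ι := fun h => hAB (Subgroup.map_injective hι h)
  haveI hSNn : ((S : Subgroup G).subgroupOf N).Normal := Subgroup.normal_in_normalizer
  have hfixN : ∀ n ∈ N, (A.map ι).map (MulAut.conj n).toMonoidHom = A.map ι ∧ (B.map ι).map (MulAut.conj n).toMonoidHom = B.map ι := by
    intro n hn
    have hcomp : ∀ (C : Subgroup G) (u v : G),
        C.map (MulAut.conj (u * v)).toMonoidHom = (C.map (MulAut.conj v).toMonoidHom).map (MulAut.conj u).toMonoidHom := by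
      intro C u v
      rw [Subgroup.map_map]; congr 1; ext x; simp [mul_assoc]
    have hinj : Function.Injective (fun C : Subgroup G => C.map (MulAut.conj n).toMonoidHom) :=
      Subgroup.map_injective (MulAut.conj n).injective
    have hAA : (A.map ι).map (MulAut.conj n).toMonoidHom = A.map ι := by
      by_contra hc
      have h1 := (hperm A hA n hn).resolve_left hc
      have h2 : (B.map ι).map (MulAut.conj n).toMonoidHom = A.map ι :=
        (hperm B hB n hn).resolve_right fun h => hne (hinj (h1.trans h.symm))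
      have hsq : (A.map ι).map (MulAut.conj (n * n)).toMonoidHom = A.map ι := by rw [hcomp, h1, h2]
      set k := ((S : Subgroup G).subgroupOf N).index with hk
      have hkodd : k % 2 = 1 := by
        by_contra hh
        exact S.not_dvd_index ((Nat.dvd_of_mod_eq_zero (by omega) : 2 ∣ k).trans (dvd_of_mul_right_eq _ (Subgroup.relIndex_mul_index (Subgroup.le_normalizer : (S : Subgroup G) ≤ N))))
      have hks : n ^ k ∈ (S : Subgroup G) := Subgroup.pow_index_mem ((S : Subgroup G).subgroupOf N) ⟨n, hn⟩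
      have hpow : ∀ j : ℕ, (A.map ι).map (MulAut.conj (n ^ (2 * j))).toMonoidHom = A.map ι := by
        intro j
        induction j with
        | zero =>
          rw [mul_zero, pow_zero]
          ext x; simp
        | succ j ih => rw [show 2 * (j + 1) = 2 * j + 2 by ring, pow_add, pow_two, hcomp, hsq, ih]
      have h3 := hmapconj A ⟨n ^ k, hks⟩ (hnorm _).1
      have h3' : (A.map ι).map (MulAut.conj (n ^ k)).toMonoidHom = A.map ι := h3
      rw [show k = 1 + 2 * (k / 2) by omega, pow_add, pow_one, hcomp, hpow, h1] at h3'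
      exact hne h3'.symm
    exact ⟨hAA, (hperm B hB n hn).resolve_left fun h => hne.symm (hinj (h.trans hAA.symm))⟩
  have hNle : ∀ (C : Subgroup G), (∀ n ∈ N, C.map (MulAut.conj n).toMonoidHom = C) → N ≤ Subgroup.normalizer (C : Set G) := by
    intro C h n hn
    rw [Subgroup.mem_normalizer_iff]
    intro x
    constructor
    · intro hx; exact h n hn ▸ ⟨x, hx, rfl⟩
    · intro hx
      replace hx : n * x * n⁻¹ ∈ C.map (MulAut.conj n).toMonoidHom := by rwa [h n hn]
      obtain ⟨y, hy, he⟩ := hx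
      rwa [← (MulAut.conj n).injective he]
  -- Burnside: A and B are not conjugate
  have hnotconj : ∀ g : G, (A.map ι).map (MulAut.conj g).toMonoidHom ≠ B.map ι := by
    intro g hg
    set M := Subgroup.normalizer ((B.map ι : Subgroup G) : Set G) with hM
    have hgS : ((g • S : Sylow 2 G) : Subgroup G) ≤ M := by
      rw [Sylow.coe_subgroup_smul]
      rintro _ ⟨s, hs, rfl⟩
      show g * s * g⁻¹ ∈ M
      rw [hM, Subgroup.mem_normalizer_iff]
      intro x
      have hA1 := Subgroup.mem_normalizer_iff.mp (hA' hs)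
      rw [← hg]
      constructor
      · rintro ⟨y, hy, rfl⟩
        exact ⟨s * y * s⁻¹, (hA1 y).mp hy, by simp [mul_assoc]⟩
      · rintro ⟨y, hy, he⟩
        refine ⟨s⁻¹ * y * s, (hA1 _).mpr (by simpa [mul_assoc] using hy), ?_⟩
        have he' : g * y * g⁻¹ = g * s * g⁻¹ * x * (g * s * g⁻¹)⁻¹ := he
        calc (MulAut.conj g) (s⁻¹ * y * s) = g * s⁻¹ * g⁻¹ * (g * y * g⁻¹) * (g * s * g⁻¹) := by
              simp [mul_assoc]
          _ = x := by rw [he']; group
    obtain ⟨m, hm⟩ := MulAction.exists_smul_eq ↥M ((g • S).subtype hgS) (S.subtype hB')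
    rw [Sylow.smul_subtype hgS m] at hm
    have hm' : ((m : G) * g) • S = S := by
      rw [← smul_smul]
      exact Sylow.subtype_injective hm
    have hn := Sylow.smul_eq_iff_mem_normalizer.mp hm'
    have h1 := (hfixN _ hn).1
    have h2 : (A.map ι).map (MulAut.conj ((m:G) * g)).toMonoidHom = B.map ι := by
      have hmB : (B.map ι).map (MulAut.conj (m:G)).toMonoidHom = B.map ι := by
        refine Subgroup.eq_of_le_of_card_ge ?_
          (Subgroup.card_map_of_injective (MulAut.conj (m:G)).injective).ge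
        rintro _ ⟨x, hx, rfl⟩
        exact (Subgroup.mem_normalizer_iff.mp m.2 x).mp hx
      calc (A.map ι).map (MulAut.conj ((m:G) * g)).toMonoidHom
          = ((A.map ι).map (MulAut.conj g).toMonoidHom).map (MulAut.conj (m:G)).toMonoidHom := by
            conv_rhs => rw [Subgroup.map_map]
            congr 1; ext x; simp [mul_assoc]
        _ = _ := by rw [hg, hmB]
    exact hne (h1.symm.trans h2)
  -- weak closure
  have hweak : ∀ (C D : Subgroup ↥(S : Subgroup G)),
      (Cfsg.IsElementaryAbelian 2 C ∧ ∀ E : Subgroup ↥(S : Subgroup G), Cfsg.IsElementaryAbelian 2 E → C ≤ E → E = C) →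
      (Cfsg.IsElementaryAbelian 2 D ∧ ∀ E : Subgroup ↥(S : Subgroup G), Cfsg.IsElementaryAbelian 2 E → D ≤ E → E = D) →
      (∀ E : Subgroup ↥(S : Subgroup G), Cfsg.IsElementaryAbelian 2 E →
        (∀ E' : Subgroup ↥(S : Subgroup G), Cfsg.IsElementaryAbelian 2 E' → E ≤ E' → E' = E) → E = C ∨ E = D) →
      (S : Subgroup G) ≤ Subgroup.normalizer ((C.map ι : Subgroup G) : Set G) →
      (∀ g : G, (C.map ι).map (MulAut.conj g).toMonoidHom ≠ D.map ι) →
      Cfsg.IsWeaklyClosed (C.map ι) (S : Subgroup G) := by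
    intro C D hC hD honly' hSC hnc
    refine ⟨Subgroup.map_subtype_le C, fun g hg => ?_⟩
    set W := (C.map ι).map (MulAut.conj g).toMonoidHom with hW
    have hWcard : Nat.card W = Nat.card ↥(C.map ι) := Subgroup.card_map_of_injective (MulAut.conj g).injective
    have hWel : Cfsg.IsElementaryAbelian 2 (W.subgroupOf (S : Subgroup G)) := by
      refine ⟨⟨⟨?_⟩⟩, ?_⟩
      · rintro ⟨a, ha⟩ ⟨b, hb⟩
        obtain ⟨_, ⟨a', ha', rfl⟩, hae⟩ := ha
        obtain ⟨_, ⟨b', hb', rfl⟩, hbe⟩ := hb
        refine Subtype.ext (Subtype.ext ?_)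
        show (a : G) * b = b * a
        rw [show (a:G) = _ from hae.symm, show (b:G) = _ from hbe.symm, ← map_mul, ← map_mul, ← map_mul, ← map_mul,
          hcm hC.1.1 a' ha' b' hb']
      · rintro a ha
        obtain ⟨_, ⟨a', ha', rfl⟩, hae⟩ := ha
        refine Subtype.ext ?_
        show (a : G) ^ 2 = 1
        rw [show (a:G) = _ from hae.symm, ← map_pow, ← map_pow, hC.1.2 a' ha', map_one, map_one]
    obtain ⟨E, hEle, hE⟩ := Finite.exists_le_maximal (p := fun E : Subgroup ↥(S : Subgroup G) => Cfsg.IsElementaryAbelian 2 E) hWel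
    have hWE : W ≤ E.map ι := by
      intro w hw
      exact ⟨⟨w, hg hw⟩, hEle hw, rfl⟩
    rcases honly' E hE.1 (fun E' h' hle => le_antisymm (hE.2 h' hle) hle) with rfl | rfl
    · exact Subgroup.eq_of_le_of_card_ge hWE hWcard.ge
    · exfalso
      -- g⁻¹ D g is an elementary abelian subgroup of C_G(C) containing C
      set U := (E.map ι).map (MulAut.conj g⁻¹).toMonoidHom with hU
      have hCU : C.map ι ≤ U := fun c hc => ⟨_, hWE ⟨c, hc, rfl⟩, by simp [mul_assoc]⟩
      have hUc : ∀ a ∈ U, ∀ b ∈ U, a * b = b * a := by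
        rintro _ ⟨_, ⟨a, ha, rfl⟩, rfl⟩ _ ⟨_, ⟨b, hb, rfl⟩, rfl⟩
        rw [← map_mul, ← map_mul, ← map_mul, ← map_mul,
          hcm hD.1.1 a ha b hb]
      have hU2 : IsPGroup 2 U := (S.2.to_le (Subgroup.map_subtype_le E)).map _
      have hUN : U ≤ Subgroup.normalizer ((C.map ι : Subgroup G) : Set G) := by
        intro u hu
        rw [Subgroup.mem_normalizer_iff]
        intro x
        constructor
        · intro hx; rwa [hUc u hu x (hCU hx), mul_inv_cancel_right]
        · intro hx
          have := hUc u hu _ (hCU hx)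
          have h2 : u * (u * x * u⁻¹) = u * x := by rw [this, inv_mul_cancel_right]
          rwa [mul_left_cancel h2] at hx
      obtain ⟨T, hT⟩ := (hU2.comap_of_injective (Subgroup.normalizer ((C.map ι : Subgroup G) : Set G)).subtype
        Subtype.val_injective).exists_le_sylow
      obtain ⟨c, hc⟩ := MulAction.exists_smul_eq ↥(Subgroup.normalizer ((C.map ι : Subgroup G) : Set G)) T (S.subtype hSC)
      have hcU : U.map (MulAut.conj (c:G)).toMonoidHom ≤ (S : Subgroup G) := by
        rintro _ ⟨u, hu, rfl⟩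
        have : c * ⟨u, hUN hu⟩ * c⁻¹ ∈ (S.subtype hSC : Subgroup _) := by
          rw [← hc, Sylow.coe_subgroup_smul]
          exact ⟨⟨u, hUN hu⟩, hT hu, rfl⟩
        exact this
      have hCle : C.map ι ≤ U.map (MulAut.conj (c:G)).toMonoidHom := by
        intro x hx
        refine ⟨(c:G)⁻¹ * x * c, hCU ?_, by simp [mul_assoc]⟩
        have := (Subgroup.mem_normalizer_iff.mp (inv_mem c.2) x).mp hx
        rwa [inv_inv] at this
      have hel : Cfsg.IsElementaryAbelian 2 ((U.map (MulAut.conj (c:G)).toMonoidHom).subgroupOf (S : Subgroup G)) := by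
        refine ⟨⟨⟨?_⟩⟩, ?_⟩
        · rintro ⟨a, ha⟩ ⟨b, hb⟩
          obtain ⟨a', ha', hae⟩ := ha
          obtain ⟨b', hb', hbe⟩ := hb
          refine Subtype.ext (Subtype.ext ?_)
          show (a : G) * b = b * a
          rw [show (a:G) = _ from hae.symm, show (b:G) = _ from hbe.symm, ← map_mul, ← map_mul, hUc a' ha' b' hb']
        · rintro a ha
          obtain ⟨_, ⟨_, ⟨a', ha', rfl⟩, rfl⟩, hae⟩ := ha
          refine Subtype.ext ?_
          show (a : G) ^ 2 = 1
          rw [show (a:G) = _ from hae.symm, ← map_pow, ← map_pow, ← map_pow, hD.1.2 a' ha', map_one, map_one, map_one]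
      have heq := hC.2 _ hel (fun x hx => hCle ⟨x, hx, rfl⟩)
      have h4 : U.map (MulAut.conj (c:G)).toMonoidHom = C.map ι := by
        exact (Subgroup.map_subgroupOf_eq_of_le hcU).symm.trans (congrArg (Subgroup.map ι) heq)
      apply hnc ((c : G) * g⁻¹)⁻¹
      refine (congrArg (fun W : Subgroup G => W.map (MulAut.conj ((c : G) * g⁻¹)⁻¹).toMonoidHom) h4.symm).trans ?_
      simp only [hU, Subgroup.map_map]
      congr 1
      ext x
      simp [mul_assoc]
  refine ⟨hweak A B hA hB honly hA' hnotconj, hweak B A hB hA (fun E h1 h2 => (honly E h1 h2).symm) hB' ?_, ?_⟩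
  · intro g hg
    apply hnotconj g⁻¹
    rw [← hg, Subgroup.map_map]
    conv_rhs => rw [← Subgroup.map_id (B.map ι)]
    congr 1
    ext x; simp [mul_assoc]
  · exact le_inf (hNle _ fun n hn => (hfixN n hn).1) (hNle _ fun n hn => (hfixN n hn).2)

end Cfsg.Agent.S3203
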