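import Cfsg.Statements.S3206
import Cfsg.Agent.Lib.AutPSL.Counts
import Cfsg.Agent.Lib.AutPSL.Normal
import Cfsg.Agent.Lib.SL2.Quaternion
import Cfsg.Agent.Lib.SL2.Psl
import Cfsg.Agent.Lib.InvChar.BrauerSuzuki
import Cfsg.Agent.Lib.InvChar.TwoSL2

set_option autoImplicit false
open Cfsg

namespace Cfsg.Agent.S3206

open Matrix Cfsg.Agent
open scoped Classical IsMulCommutative

section PSL

variable {F : Type*} [Field F] [Fintype F]

local notation "SLF" => Matrix.SpecialLinearGroup (Fin 2) F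
local notation "PSF" => Matrix.ProjectiveSpecialLinearGroup (Fin 2) F

theorem pi_comm {i j : SLF} (h : SL2.QPair i j) : Commute (SL2.π i) (SL2.π j) := by
  show SL2.π i * SL2.π j = SL2.π j * SL2.π i
  rw [← map_mul SL2.π, ← map_mul SL2.π, h.anti, SL2.π_neg]

theorem pi_sq {i : SLF} (h : i * i = -1) : SL2.π i * SL2.π i = 1 := by
  rw [← map_mul SL2.π, h, SL2.π_neg, map_one SL2.π]

theorem pi_ne_one (h2 : (2 : F) ≠ 0) {i : SLF} (h : i * i = -1) : SL2.π i ≠ 1 := by
  intro h1
  rcases (SL2.scal_iff i).mp (SL2.π_eq_one.mp h1) with e | e <;> rw [e] at h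
  · exact SL2.QPair.eq_scal_of_commute.neg_ne_self' h2 (1 : SLF) (by simpa using h.symm)
  · exact SL2.QPair.eq_scal_of_commute.neg_ne_self' h2 (1 : SLF) (by simpa using h.symm)

/-- Two commuting distinct involutions lift to a quaternion pair. -/
theorem lift_pair (hodd : Odd (Fintype.card F)) {u v : PSF} (hu : u * u = 1) (hv : v * v = 1)
    (hu1 : u ≠ 1) (hv1 : v ≠ 1) (huv : u ≠ v) (hc : Commute u v) :
    ∃ i j : SLF, SL2.QPair i j ∧ SL2.π i = u ∧ SL2.π j = v := by
  have h2 := SL2.two_ne_zero' hodd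
  obtain ⟨i, rfl⟩ := SL2.π_surjective u
  obtain ⟨j, rfl⟩ := SL2.π_surjective v
  have hsq : ∀ x : SLF, SL2.π x * SL2.π x = 1 → SL2.π x ≠ 1 → x * x = -1 := by
    intro x hx hx1
    rw [← map_mul SL2.π] at hx
    rcases (SL2.scal_iff _).mp (SL2.π_eq_one.mp hx) with e | e
    · exfalso
      rcases SL2.eq_one_or_of_sq h2 e with rfl | rfl
      · exact hx1 (map_one _)
      · exact hx1 ((SL2.π_neg 1).trans (map_one _))
    · exact e
  have hi := hsq i hu hu1
  have hj := hsq j hv hv1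
  refine ⟨i, j, ⟨hi, hj, ?_⟩, rfl, rfl⟩
  have hc' := hc.eq
  rw [← map_mul SL2.π, ← map_mul SL2.π] at hc'
  rcases SL2.π_eq_iff.mp hc' with e | e
  · exfalso
    have h1 : (i * j) * (i * j) = 1 := by
      rw [show i * j * (i * j) = i * (j * i) * j by group, e, ← mul_assoc, hi]
      simp [hj]
    rcases SL2.eq_one_or_of_sq h2 h1 with e1 | e1
    · apply huv
      rw [eq_inv_of_mul_eq_one_right e1, SL2.inv_of_sq hi, SL2.π_neg]
    · apply huv
      have : j = i := by
        have h3 := congrArg (fun x => i * x) e1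
        simp only [← mul_assoc, hi, neg_one_mul, mul_neg, mul_one, neg_inj] at h3
        exact h3
      rw [this]
  · exact e

theorem mem_four (h2 : (2 : F) ≠ 0) {i j : SLF} (h : SL2.QPair i j) {x : PSF}
    (hi : Commute x (SL2.π i)) (hj : Commute x (SL2.π j)) :
    x = 1 ∨ x = SL2.π i ∨ x = SL2.π j ∨ x = SL2.π i * SL2.π j := by
  obtain ⟨y, rfl⟩ := SL2.π_surjective x
  have key : ∀ z : SLF, Commute (SL2.π y) (SL2.π z) → y * z * y⁻¹ = z ∨ y * z * y⁻¹ = -z := by
    intro z hz
    have hz' : SL2.π (y * z * y⁻¹) = SL2.π z := by rw [SL2.π_conj, hz.eq, mul_inv_cancel_right]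
    exact SL2.π_eq_iff.mp hz'.symm
  obtain ⟨w, hw, hxw⟩ := h.mem_Q_cases h2 (x := y) ⟨key i hi, key j hj⟩
  have : SL2.π y = SL2.π w := by
    rcases hxw with e | e
    · rw [e]
    · rw [e, SL2.π_neg]
  rw [this]
  rcases hw with rfl | rfl | rfl | rfl
  · exact Or.inl (map_one _)
  · exact Or.inr (Or.inl rfl)
  · exact Or.inr (Or.inr (Or.inl rfl))
  · exact Or.inr (Or.inr (Or.inr (map_mul _ _ _)))

/-- A matrix commuting with a quaternion pair is scalar. -/
theorem scalar_of_commute_pair (h2 : (2 : F) ≠ 0) {i j : SLF} (h : SL2.QPair i j)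
    {M : Matrix (Fin 2) (Fin 2) F} (hi : M * i.1 = i.1 * M) (hj : M * j.1 = j.1 * M) :
    M 0 1 = 0 ∧ M 1 0 = 0 ∧ M 0 0 = M 1 1 := by
  have hi1 := SL2.tr_zero_of_sq h2 h.isq
  have hj1 := SL2.tr_zero_of_sq h2 h.jsq
  have di := SL2.det_eq i
  have dj := SL2.det_eq j
  have ha : (j.1 * i.1) 0 0 = -((i.1 * j.1) 0 0) :=
    congrFun (congrFun (congrArg Subtype.val h.anti) 0) 0
  have e00 := congrFun (congrFun hi 0) 0
  have e01 := congrFun (congrFun hi 0) 1
  have e10 := congrFun (congrFun hi 1) 0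
  have f00 := congrFun (congrFun hj 0) 0
  have f01 := congrFun (congrFun hj 0) 1
  have f10 := congrFun (congrFun hj 1) 0
  simp only [Matrix.mul_apply, Fin.sum_univ_two] at ha e00 e01 e10 f00 f01 f10
  unfold SL2.tr at hi1 hj1
  set a := i.1 0 0
  set b := i.1 0 1
  set c := i.1 1 0
  set a' := j.1 0 0
  set b' := j.1 0 1
  set c' := j.1 1 0
  have hd : i.1 1 1 = -a := by linear_combination hi1
  have hd' : j.1 1 1 = -a' := by linear_combination hj1
  rw [hd] at e01 e10 di
  rw [hd'] at f01 f10 dj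
  have hN : a ^ 2 + b * c = -1 := by linear_combination -di
  have hN' : a' ^ 2 + b' * c' = -1 := by linear_combination -dj
  have hA : 2 * (a * a') + b * c' + c * b' = 0 := by linear_combination ha
  set X := M 0 0 - M 1 1
  set Y := M 0 1
  set Z := M 1 0
  have r1 : Y * c = Z * b := by linear_combination e00
  have r2 : X * b = 2 * a * Y := by linear_combination e01
  have r3 : X * c = 2 * a * Z := by linear_combination -e10
  have s1 : Y * c' = Z * b' := by linear_combination f00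
  have s2 : X * b' = 2 * a' * Y := by linear_combination f01
  have s3 : X * c' = 2 * a' * Z := by linear_combination -f10
  -- the two directions are independent
  have key : ∀ W : F, W * (a * b' - a' * b) = 0 → W * (a * c' - a' * c) = 0 →
      W * (b * c' - c * b') = 0 → W = 0 := by
    intro W p q r
    by_contra hW
    have p' := (mul_eq_zero.mp p).resolve_left hW
    have q' := (mul_eq_zero.mp q).resolve_left hW
    have r' := (mul_eq_zero.mp r).resolve_left hW
    have ha0 : (2 : F) * a' = 0 := by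
      linear_combination (-a) * hA + 2 * a' * hN + b * q' + c * p'
    have ha' := (mul_eq_zero.mp ha0).resolve_left h2
    have hb0 : (2 : F) * b' = 0 := by
      linear_combination (-b) * hA + 2 * b' * hN + (-2 * a) * p' + b * r'
    have hb' := (mul_eq_zero.mp hb0).resolve_left h2
    rw [ha', hb'] at hN'
    exact one_ne_zero (α := F) (by linear_combination hN')
  have two : ∀ W : F, 2 * W = 0 → W = 0 := fun W hW => (mul_eq_zero.mp hW).resolve_left h2
  have hX : X = 0 := key X (by linear_combination a * s2 - a' * r2) (by linear_combination a * s3 - a' * r3)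
    (by linear_combination c' * r2 - b' * r3 + 2 * a * s1)
  have hY : Y = 0 := key Y (two _ (by linear_combination b * s2 - b' * r2))
    (two _ (by linear_combination c * s2 - b' * r3 + 2 * a * s1))
    (by linear_combination b * s1 - b' * r1)
  have hZ : Z = 0 := key Z (two _ (by linear_combination b * s3 - c' * r2 - 2 * a * s1))
    (two _ (by linear_combination c * s3 - c' * r3))
    (by linear_combination c * s1 - c' * r1)
  exact ⟨hY, hZ, sub_eq_zero.mp hX⟩

variable (hab : ∀ P : Subgroup (Matrix.ProjectiveSpecialLinearGroup (Fin 2) F),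
  IsPGroup 2 ↥P → ∀ (x : Matrix.ProjectiveSpecialLinearGroup (Fin 2) F), x ∈ P →
  ∀ (y : Matrix.ProjectiveSpecialLinearGroup (Fin 2) F), y ∈ P → x * y = y * x)
include hab

/-- With abelian 2-subgroups the field has no automorphism of even order. -/
theorem ringAut_two_pow (hodd : Odd (Fintype.card F)) (σ : F ≃+* F) (k : ℕ) (hσ : σ ^ (2 ^ k) = 1) :
    σ = 1 := by
  have h2 := SL2.two_ne_zero' hodd
  obtain ⟨p, hp⟩ := CharP.exists F
  obtain ⟨f, hpp, hf⟩ := FiniteField.card F p
  haveI : Fact p.Prime := ⟨hpp⟩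
  have hcard := AutPSL.card_ringAut (F := F) p (f : ℕ) hf
  have hfodd : Odd (f : ℕ) := by
    by_contra hev
    obtain ⟨m, hm⟩ := Nat.not_odd_iff_even.mp hev
    have h8 : 8 ∣ Fintype.card F - 1 := by
      have hsq : Fintype.card F = p ^ m * p ^ m := by rw [hf, hm, pow_add]
      rw [hsq] at hodd ⊢
      obtain ⟨e, he⟩ := Nat.Odd.of_mul_left hodd
      rw [he, show (2 * e + 1) * (2 * e + 1) = 4 * (e * (e + 1)) + 1 by ring, Nat.add_sub_cancel]
      obtain ⟨d, hd⟩ := Nat.even_mul_succ_self e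
      exact ⟨d, by rw [hd]; ring⟩
    obtain ⟨g, hg⟩ := IsCyclic.exists_generator (α := Fˣ)
    obtain ⟨c, hc⟩ := h8
    have hord : orderOf g = 8 * c := by
      rw [orderOf_eq_card_of_forall_mem_zpowers hg, Nat.card_eq_fintype_card, Fintype.card_units, hc]
    have hc0 : c ≠ 0 := by rintro rfl; exact (orderOf_pos g).ne' hord
    set ζ : Fˣ := g ^ c
    have hζ : orderOf ζ = 8 := by
      rw [orderOf_pow' g hc0, hord, Nat.gcd_eq_right (dvd_mul_left c 8),
        Nat.mul_div_cancel _ (Nat.pos_of_ne_zero hc0)]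
    let d : SLF := ⟨!![(ζ : F), 0; 0, ((ζ⁻¹ : Fˣ) : F)], by rw [Matrix.det_fin_two_of]; simp⟩
    let w : SLF := ⟨!![0, 1; -1, 0], by rw [Matrix.det_fin_two_of]; ring⟩
    have hw2 : w * w = -1 := by
      apply Subtype.ext
      show !![(0 : F), 1; -1, 0] * !![0, 1; -1, 0] = -(1 : Matrix (Fin 2) (Fin 2) F)
      ext a b; fin_cases a <;> fin_cases b <;> simp [Matrix.mul_apply, Fin.sum_univ_two]
    have hwd : w * d * w⁻¹ = d⁻¹ := by
      rw [mul_inv_eq_iff_eq_mul, eq_inv_mul_iff_mul_eq]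
      apply Subtype.ext
      show !![(ζ : F), 0; 0, ((ζ⁻¹ : Fˣ) : F)] * (!![(0 : F), 1; -1, 0] * !![(ζ : F), 0; 0, ((ζ⁻¹ : Fˣ) : F)]) =
        !![(0 : F), 1; -1, 0]
      ext a b; fin_cases a <;> fin_cases b <;> simp [Matrix.mul_apply, Fin.sum_univ_two]
    have hdn : ∀ m : ℕ, ((d ^ m : SLF) : Matrix (Fin 2) (Fin 2) F) 0 0 = (ζ : F) ^ m ∧
        ((d ^ m : SLF) : Matrix (Fin 2) (Fin 2) F) 0 1 = 0 ∧
        ((d ^ m : SLF) : Matrix (Fin 2) (Fin 2) F) 1 0 = 0 ∧
        ((d ^ m : SLF) : Matrix (Fin 2) (Fin 2) F) 1 1 = ((ζ⁻¹ : Fˣ) : F) ^ m := by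
      intro m
      induction m with
      | zero => simp
      | succ m ih =>
        obtain ⟨e1, e2, e3, e4⟩ := ih
        rw [pow_succ, Matrix.SpecialLinearGroup.coe_mul]
        simp only [Matrix.mul_apply, Fin.sum_univ_two, e1, e2, e3, e4, d]
        simp [pow_succ]
    have hd8 : d ^ 2 ^ 3 = 1 := by
      have hz : ζ ^ 8 = 1 := hζ ▸ pow_orderOf_eq_one ζ
      obtain ⟨e1, e2, e3, e4⟩ := hdn (2 ^ 3)
      apply Subtype.ext
      ext a b
      fin_cases a <;> fin_cases b
      · show ((d ^ 2 ^ 3 : SLF) : Matrix (Fin 2) (Fin 2) F) 0 0 = (1 : Matrix (Fin 2) (Fin 2) F) 0 0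
        rw [e1, ← Units.val_pow_eq_pow_val, show (2 : ℕ) ^ 3 = 8 by norm_num, hz]; simp
      · exact e2.trans (by simp)
      · exact e3.trans (by simp)
      · show ((d ^ 2 ^ 3 : SLF) : Matrix (Fin 2) (Fin 2) F) 1 1 = (1 : Matrix (Fin 2) (Fin 2) F) 1 1
        rw [e4, ← Units.val_pow_eq_pow_val, inv_pow, show (2 : ℕ) ^ 3 = 8 by norm_num, hz]; simp
    have hA : IsPGroup 2 (Subgroup.zpowers (SL2.π d)) := by
      rintro ⟨x, hx⟩
      obtain ⟨i, rfl⟩ := hx
      refine ⟨3, Subtype.ext ?_⟩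
      show (SL2.π d ^ i) ^ 2 ^ 3 = 1
      rw [← zpow_natCast, ← _root_.zpow_mul, mul_comm, _root_.zpow_mul, zpow_natCast,
        ← map_pow SL2.π, hd8, map_one SL2.π, _root_.one_zpow]
    have hB : IsPGroup 2 (Subgroup.zpowers (SL2.π w)) := by
      rintro ⟨x, hx⟩
      obtain ⟨i, rfl⟩ := hx
      refine ⟨1, Subtype.ext ?_⟩
      show (SL2.π w ^ i) ^ 2 ^ 1 = 1
      rw [← zpow_natCast, ← _root_.zpow_mul, mul_comm, _root_.zpow_mul, zpow_natCast, pow_one, pow_two,
        pi_sq hw2, _root_.one_zpow]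
    have hnorm : Subgroup.zpowers (SL2.π w) ≤
        Subgroup.normalizer (Subgroup.zpowers (SL2.π d) : Set PSF) := by
      rw [Subgroup.zpowers_le]
      have hconj : SL2.π w * SL2.π d * (SL2.π w)⁻¹ = (SL2.π d)⁻¹ := by
        rw [← SL2.π_conj, hwd, map_inv (SL2.π (F := F))]
      refine Subgroup.mem_normalizer_iff.mpr fun x => ⟨?_, ?_⟩
      · rintro ⟨i, rfl⟩
        exact ⟨-i, by simp [← conj_zpow, hconj]⟩
      · rintro ⟨i, hi⟩
        refine ⟨-i, ?_⟩
        show SL2.π d ^ (-i) = x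
        calc SL2.π d ^ (-i) = (SL2.π w)⁻¹ * (SL2.π w * SL2.π d ^ (-i) * (SL2.π w)⁻¹) * SL2.π w := by group
          _ = x := by
            rw [← conj_zpow, hconj, _root_.inv_zpow', neg_neg, show SL2.π d ^ i = SL2.π w * x * (SL2.π w)⁻¹ from hi]
            group
    have hPQ := hB.to_sup_of_normal_right' hA hnorm
    have hcomm := hab _ hPQ (SL2.π w) (Subgroup.mem_sup_left (Subgroup.mem_zpowers _))
      (SL2.π d) (Subgroup.mem_sup_right (Subgroup.mem_zpowers _))
    rw [← map_mul SL2.π, ← map_mul SL2.π] at hcomm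
    have hz4 : ζ ^ 4 ≠ 1 := fun h => by
      have := orderOf_dvd_of_pow_eq_one h
      rw [hζ] at this
      exact absurd (Nat.le_of_dvd (by norm_num) this) (by norm_num)
    apply hz4
    let D : Matrix (Fin 2) (Fin 2) F := !![(ζ : F), 0; 0, ((ζ⁻¹ : Fˣ) : F)]
    let W : Matrix (Fin 2) (Fin 2) F := !![(0 : F), 1; -1, 0]
    have h1 : (D * W) 0 1 = (ζ : F) := by simp [D, W, Matrix.mul_apply, Fin.sum_univ_two]
    have h2' : (W * D) 0 1 = ((ζ⁻¹ : Fˣ) : F) := by simp [D, W, Matrix.mul_apply, Fin.sum_univ_two]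
    have hne := ζ.ne_zero
    have hmul : (ζ : F) * ((ζ⁻¹ : Fˣ) : F) = 1 := by simp
    ext
    push_cast
    rcases SL2.π_eq_iff.mp hcomm with e | e
    · have e01 : (D * W) 0 1 = (W * D) 0 1 := congrFun (congrFun (congrArg Subtype.val e) 0) 1
      rw [h1, h2'] at e01
      rw [← e01] at hmul
      linear_combination ((ζ : F) ^ 2 + 1) * hmul
    · have e01 : (D * W) 0 1 = (-(W * D)) 0 1 := congrFun (congrFun (congrArg Subtype.val e) 0) 1
      rw [Matrix.neg_apply, h1, h2'] at e01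
      have : (ζ : F) * (ζ : F) = -1 := by
        nth_rw 2 [e01]
        rw [mul_neg, hmul]
      linear_combination ((ζ : F) ^ 2 - 1) * this
  have ho : orderOf σ ∣ Nat.gcd (2 ^ k) f :=
    Nat.dvd_gcd (orderOf_dvd_of_pow_eq_one hσ) (hcard ▸ orderOf_dvd_natCard σ)
  rw [Nat.Coprime.gcd_eq_one (Nat.Coprime.pow_left k (Nat.coprime_two_left.mpr hfodd))] at ho
  exact orderOf_eq_one_iff.mp (Nat.dvd_one.mp ho)

/-- A 2-power automorphism fixing a four group is conjugation by an element of it. -/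
theorem aut_four (hodd : Odd (Fintype.card F)) {i j : SLF} (h : SL2.QPair i j) (φ : MulAut PSF)
    (k : ℕ) (hk : φ ^ (2 ^ k) = 1) (hi : φ (SL2.π i) = SL2.π i) (hj : φ (SL2.π j) = SL2.π j) :
    ∃ v : PSF, (v = 1 ∨ v = SL2.π i ∨ v = SL2.π j ∨ v = SL2.π i * SL2.π j) ∧ φ = MulAut.conj v := by
  have h2 := SL2.two_ne_zero' hodd
  obtain ⟨p, hp⟩ := CharP.exists F
  obtain ⟨f, hpp, hf⟩ := FiniteField.card F p
  haveI : Fact p.Prime := ⟨hpp⟩
  obtain ⟨⟨c, σ, ε⟩, hφ⟩ := (AutPSL.param_bijective (n := 2) (F := F) p le_rfl).2 φ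
  obtain ⟨g, rfl⟩ := QuotientGroup.mk_surjective c
  rw [AutPSL.param_mk, show ε.1 = false from ε.2 rfl] at hφ
  have hpow : ∀ m : ℕ, ∃ g' : GL (Fin 2) F,
      φ ^ m = AutPSL.descend (AutPSL.cj g' * AutPSL.fld (σ ^ m) * AutPSL.gpart false) := by
    intro m
    induction m with
    | zero =>
      refine ⟨1, ?_⟩
      rw [pow_zero, pow_zero, map_one AutPSL.cj, show (1 : F ≃+* F) = RingEquiv.refl F from rfl,
        AutPSL.fld_one]
      simp [AutPSL.gpart]
    | succ m ih =>
      obtain ⟨g', hg'⟩ := ih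
      rw [pow_succ, hg', ← hφ, ← map_mul AutPSL.descend, AutPSL.nf_mul, Bool.xor_self]
      exact ⟨_, rfl⟩
  obtain ⟨g', hg'⟩ := hpow (2 ^ k)
  have hσ : σ ^ (2 ^ k) = 1 := by
    refine (AutPSL.normal_form_unique p le_rfl (g := g') (h := 1) (τ := 1) (a := false) (b := false) (Or.inr rfl) ?_).2.1
    rw [← hg', hk, map_one AutPSL.cj, show (1 : F ≃+* F) = RingEquiv.refl F from rfl, AutPSL.fld_one]
    simp [AutPSL.gpart]
  have hσ1 := ringAut_two_pow hab hodd σ k hσ
  rw [hσ1, show (1 : F ≃+* F) = RingEquiv.refl F from rfl, AutPSL.fld_one] at hφ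
  simp [AutPSL.gpart] at hφ
  have hval : ∀ z : SLF, φ (SL2.π z) = SL2.π (AutPSL.cj g z) := fun z => by rw [← hφ]; rfl
  have hsgn : ∀ z : SLF, φ (SL2.π z) = SL2.π z → AutPSL.cj g z = z ∨ AutPSL.cj g z = -z := by
    intro z hz
    rw [hval] at hz
    exact SL2.π_eq_iff.mp hz.symm
  obtain ⟨m, hm, hmi, hmj⟩ : ∃ m : SLF, (SL2.π m = 1 ∨ SL2.π m = SL2.π i ∨ SL2.π m = SL2.π j ∨
      SL2.π m = SL2.π i * SL2.π j) ∧ AutPSL.cj g i = m * i * m⁻¹ ∧ AutPSL.cj g j = m * j * m⁻¹ := by
    rcases hsgn i hi with ei | ei <;> rcases hsgn j hj with ej | ej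
    · exact ⟨1, Or.inl (map_one _), by rw [ei]; group, by rw [ej]; group⟩
    · exact ⟨i, Or.inr (Or.inl rfl), by rw [ei]; group, by rw [ej, h.conj_ij]⟩
    · exact ⟨j, Or.inr (Or.inr (Or.inl rfl)), by rw [ei, h.conj_ji], by rw [ej]; group⟩
    · refine ⟨i * j, Or.inr (Or.inr (Or.inr (map_mul _ _ _))), ?_, ?_⟩
      · rw [ei, show i * j * i * (i * j)⁻¹ = i * (j * i * j⁻¹) * i⁻¹ by group, h.conj_ji, mul_neg, neg_mul,
          mul_inv_cancel_right]
      · rw [ej, show i * j * j * (i * j)⁻¹ = i * j * i⁻¹ by group, h.conj_ij]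
  set M : GL (Fin 2) F := (Matrix.SpecialLinearGroup.toGL m)⁻¹ * g with hM
  have hcomm : ∀ z : SLF, AutPSL.cj g z = m * z * m⁻¹ → (M : Matrix (Fin 2) (Fin 2) F) * z.1 = z.1 * (M : Matrix (Fin 2) (Fin 2) F) := by
    intro z hz
    have h1 : AutPSL.cj M z = z := by
      rw [hM, map_mul AutPSL.cj, MulAut.mul_apply, hz, map_inv (AutPSL.cj (n := 2) (F := F)), AutPSL.cj_toGL, MulAut.inv_def,
        MulEquiv.symm_apply_eq, MulAut.conj_apply]
    have h3 := congrArg Subtype.val h1
    rw [AutPSL.cj_apply] at h3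
    calc (M : Matrix (Fin 2) (Fin 2) F) * z.1
        = ((M : Matrix (Fin 2) (Fin 2) F) * z.1 * ((M⁻¹ : GL (Fin 2) F) : Matrix (Fin 2) (Fin 2) F)) * (M : Matrix (Fin 2) (Fin 2) F) := by
          rw [mul_assoc _ ((M⁻¹ : GL (Fin 2) F) : Matrix (Fin 2) (Fin 2) F), ← Units.val_mul, inv_mul_cancel, Units.val_one, mul_one]
      _ = z.1 * (M : Matrix (Fin 2) (Fin 2) F) := by rw [h3]
  obtain ⟨m01, m10, m00⟩ := scalar_of_commute_pair h2 h (hcomm i hmi) (hcomm j hmj)
  have hMc : M ∈ Subgroup.center (GL (Fin 2) F) := by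
    refine Subgroup.mem_center_iff.mpr fun y => Units.ext ?_
    show (y : Matrix (Fin 2) (Fin 2) F) * M = (M : Matrix (Fin 2) (Fin 2) F) * y
    ext a b
    fin_cases a <;> fin_cases b <;>
      simp [Matrix.mul_apply, Fin.sum_univ_two, m01, m10, m00, mul_comm]
  refine ⟨SL2.π m, hm, ?_⟩
  rw [← hφ, show g = Matrix.SpecialLinearGroup.toGL m * M by rw [hM, mul_inv_cancel_left],
    map_mul AutPSL.cj, AutPSL.cj_eq_one_of_mem_center hMc, mul_one, AutPSL.cj_toGL, AutPSL.descend_conj]
  rfl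

end PSL

section Group

variable {G : Type*} [Group G] [Finite G]

/-- The data shared by the two parts. -/
structure Four (t : G) (S : Subgroup G) (u v w : G) : Prop where
  uS : u ∈ S
  vS : v ∈ S
  wS : w ∈ Subgroup.normalizer (S : Set G)
  u2 : u * u = 1
  v2 : v * v = 1
  all : ∀ x ∈ S, ∃ a ∈ ({1, t} : Set G), ∃ b ∈ ({1, u, v, u * v} : Set G), x = a * b
  wt : w * t * w⁻¹ = t
  wu : w * u * w⁻¹ = u * v
  wv : w * v * w⁻¹ = u

theorem exists_four [IsSimpleGroup G] (hab : ∀ S : Sylow 2 G, IsMulCommutative ↥(S : Subgroup G))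
    (t : G) (ht : orderOf t = 2)
    (E : Subgroup G) (hE : Cfsg.IsInternalDirectProduct (Subgroup.zpowers t) E (Subgroup.centralizer ({t} : Set G)))
    {F : Type*} [Field F] [Fintype F] (hFo : Odd (Fintype.card F)) (hF3 : 3 < Fintype.card F)
    (N : Subgroup ↥E) [N.Normal] (eN : ↥N ≃* Matrix.ProjectiveSpecialLinearGroup (Fin 2) F)
    (hNc : Subgroup.centralizer (N : Set ↥E) = ⊥) (S : Sylow 2 G) (htS : t ∈ (S : Subgroup G)) :
    ∃ u v w, Four t (S : Subgroup G) u v w ∧ w ∈ (N.map E.subtype) ∧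
      u ∈ N.map E.subtype ∧ v ∈ N.map E.subtype ∧
      (∀ (φ : G ≃* G) (k : ℕ), φ ^ (2 ^ k) = 1 → (∀ s ∈ (S : Subgroup G), φ s = s) →
        ∃ a ∈ ({1, u, v, u * v} : Set G), ∀ x ∈ Subgroup.centralizer ({t} : Set G), φ x = a * x * a⁻¹) := by
  haveI : Fact (Nat.Prime 2) := ⟨Nat.prime_two⟩
  have h2 := SL2.two_ne_zero' hFo
  obtain ⟨hTC, hEC, hTE, hinf, hsup⟩ := hE
  set C := Subgroup.centralizer ({t} : Set G) with hCdef
  have htt := Invol.mul_self_of_orderOf_two ht
  have hzp : ∀ x ∈ Subgroup.zpowers t, x = 1 ∨ x = t := by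
    rintro x ⟨i, rfl⟩
    rcases Int.even_or_odd i with ⟨k, rfl⟩ | ⟨k, rfl⟩
    · left; show t ^ (k + k) = 1
      rw [_root_.zpow_add, ← (Commute.refl t).mul_zpow, htt, _root_.one_zpow]
    · right; show t ^ (2 * k + 1) = t
      rw [_root_.zpow_add, _root_.zpow_mul, zpow_two, htt, _root_.one_zpow, one_mul, zpow_one]
  have hdec : ∀ x ∈ C, ∃ a ∈ Subgroup.zpowers t, ∃ e ∈ E, x = a * e := by
    intro x hx
    have hcm : ∀ (a : ↥(Subgroup.zpowers t)) (e : ↥E), Commute ((Subgroup.zpowers t).subtype a) (E.subtype e) :=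
      fun a e => hTE a a.2 e e.2
    have hr : (MonoidHom.noncommCoprod _ _ hcm).range = C := by
      rw [MonoidHom.noncommCoprod_range, Subgroup.range_subtype, Subgroup.range_subtype, hsup]
    rw [← hr] at hx
    obtain ⟨⟨a, e⟩, rfl⟩ := hx
    exact ⟨a, a.2, e, e.2, rfl⟩
  let ι : Matrix.ProjectiveSpecialLinearGroup (Fin 2) F →* G :=
    E.subtype.comp (N.subtype.comp eN.symm.toMonoidHom)
  have hιinj : Function.Injective ι :=
    E.subtype_injective.comp (N.subtype_injective.comp eN.symm.injective)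
  have hιr : ι.range = N.map E.subtype := by
    ext x
    constructor
    · rintro ⟨y, rfl⟩
      exact ⟨N.subtype (eN.symm y), (eN.symm y).2, rfl⟩
    · rintro ⟨y, hy, rfl⟩
      exact ⟨eN ⟨y, hy⟩, by
        show E.subtype (N.subtype (eN.symm (eN ⟨y, hy⟩))) = _
        rw [eN.symm_apply_apply]; rfl⟩
  have hιE : ∀ y, ι y ∈ E := fun y => (N.subtype (eN.symm y)).2
  have hnormE : ∀ e ∈ E, ∀ x ∈ N.map E.subtype, e * x * e⁻¹ ∈ N.map E.subtype := by
    rintro e he _ ⟨x, hx, rfl⟩
    exact ⟨⟨e, he⟩ * x * ⟨e, he⟩⁻¹, (inferInstance : N.Normal).conj_mem x hx _, rfl⟩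
  have hnormC : ∀ c ∈ C, ∀ x ∈ N.map E.subtype, c * x * c⁻¹ ∈ N.map E.subtype := by
    intro c hc x hx
    obtain ⟨a, ha, e, he, rfl⟩ := hdec c hc
    have h1 := hnormE e he x hx
    rw [show a * e * x * (a * e)⁻¹ = a * (e * x * e⁻¹) * a⁻¹ by group,
      hTE a ha _ (Subgroup.map_subtype_le N h1), mul_inv_cancel_right]
    exact h1
  have habP : ∀ P : Subgroup (Matrix.ProjectiveSpecialLinearGroup (Fin 2) F), IsPGroup 2 P →
      ∀ x ∈ P, ∀ y ∈ P, x * y = y * x := by
    intro P hP x hx y hy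
    obtain ⟨S', hS'⟩ := (hP.map ι).exists_le_sylow
    apply hιinj
    rw [map_mul ι, map_mul ι]
    haveI := hab S'
    exact congrArg Subtype.val (mul_comm (⟨ι x, hS' ⟨x, hx, rfl⟩⟩ : ↥(S' : Subgroup G)) ⟨ι y, hS' ⟨y, hy, rfl⟩⟩)
  have hSC : ∀ S' : Sylow 2 G, t ∈ (S' : Subgroup G) → (S' : Subgroup G) ≤ C := fun S' h x hx => by
    haveI := hab S'
    exact Subgroup.mem_centralizer_singleton_iff.mpr
      (congrArg Subtype.val (mul_comm (⟨x, hx⟩ : ↥(S' : Subgroup G)) ⟨t, h⟩))
  have hιC : ∀ y, Commute t (ι y) := fun y => hTE t (Subgroup.mem_zpowers t) _ (hιE y)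
  -- a four group in the simple factor
  have hJ : (InvChar.sl2J : Matrix.SpecialLinearGroup (Fin 2) F) * InvChar.sl2J = -1 := InvChar.sl2J_sq
  obtain ⟨j₀, hq₀⟩ := SL2.exists_qpair hFo hJ
  set i₀ : Matrix.SpecialLinearGroup (Fin 2) F := InvChar.sl2J
  set u₀ := ι (SL2.π i₀)
  set v₀ := ι (SL2.π j₀)
  have huv0 : Commute u₀ v₀ := (pi_comm hq₀).map ι
  have hu02 : u₀ * u₀ = 1 := by rw [← map_mul ι, pi_sq hq₀.isq, map_one ι]
  have hv02 : v₀ * v₀ = 1 := by rw [← map_mul ι, pi_sq hq₀.jsq, map_one ι]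
  have hz : ∀ x : G, x * x = 1 → IsPGroup 2 (Subgroup.zpowers x) := by
    rintro x hx ⟨y, i, rfl⟩
    refine ⟨1, Subtype.ext ?_⟩
    show (x ^ i) ^ 2 ^ 1 = 1
    rw [← zpow_natCast, ← _root_.zpow_mul, mul_comm, _root_.zpow_mul, zpow_natCast, pow_one, pow_two, hx,
      _root_.one_zpow]
  have hcn : ∀ (K : Subgroup G) (x : G), (∀ y ∈ K, Commute x y) →
      Subgroup.zpowers x ≤ Subgroup.normalizer (K : Set G) := by
    intro K x h
    rw [Subgroup.zpowers_le]
    refine Subgroup.mem_normalizer_iff.mpr fun y => ⟨fun hy => ?_, fun hy => ?_⟩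
    · rw [(h y hy).eq, mul_inv_cancel_right]; exact hy
    · have := h _ hy
      have h' : y = x * y * x⁻¹ := by
        have e := this.eq
        rw [inv_mul_cancel_right] at e
        exact (mul_left_cancel e).symm
      rw [h']; exact hy
  have hT1 : IsPGroup 2 (Subgroup.zpowers u₀ ⊔ Subgroup.zpowers v₀ : Subgroup G) :=
    (hz u₀ hu02).to_sup_of_normal_right' (hz v₀ hv02) (hcn _ _ fun y hy => by
      obtain ⟨i, rfl⟩ := hy; exact huv0.zpow_right i)
  have hT2 : IsPGroup 2 (Subgroup.zpowers t ⊔ (Subgroup.zpowers u₀ ⊔ Subgroup.zpowers v₀) : Subgroup G) :=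
    (hz t htt).to_sup_of_normal_right' hT1 (hcn _ _ fun y hy => by
      have hle : Subgroup.zpowers u₀ ⊔ Subgroup.zpowers v₀ ≤ Subgroup.centralizer ({t} : Set G) :=
        sup_le (Subgroup.zpowers_le.mpr (Subgroup.mem_centralizer_singleton_iff.mpr (hιC _).symm.eq))
          (Subgroup.zpowers_le.mpr (Subgroup.mem_centralizer_singleton_iff.mpr (hιC _).symm.eq))
      exact (Subgroup.mem_centralizer_singleton_iff.mp (hle hy)).symm)
  obtain ⟨S₁, hS₁⟩ := hT2.exists_le_sylow
  have htS₁ : t ∈ (S₁ : Subgroup G) := hS₁ (Subgroup.mem_sup_left (Subgroup.mem_zpowers t))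
  obtain ⟨c, hc⟩ := MulAction.exists_smul_eq ↥C (S₁.subtype (hSC S₁ htS₁)) (S.subtype (hSC S htS))
  have hcS : ∀ x ∈ (S₁ : Subgroup G), (c : G) * x * (c : G)⁻¹ ∈ (S : Subgroup G) := by
    intro x hx
    have hxC := hSC S₁ htS₁ hx
    have h1 : c * ⟨x, hxC⟩ * c⁻¹ ∈ ((S.subtype (hSC S htS)) : Subgroup ↥C) := by
      rw [← hc]
      exact Subgroup.smul_mem_pointwise_smul (⟨x, hxC⟩ : ↥C) (MulAut.conj c) _ hx
    exact h1
  set u := (c : G) * u₀ * (c : G)⁻¹ with hu
  set v := (c : G) * v₀ * (c : G)⁻¹ with hv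
  have huS : u ∈ (S : Subgroup G) :=
    hcS _ (hS₁ (Subgroup.mem_sup_right (Subgroup.mem_sup_left (Subgroup.mem_zpowers _))))
  have hvS : v ∈ (S : Subgroup G) :=
    hcS _ (hS₁ (Subgroup.mem_sup_right (Subgroup.mem_sup_right (Subgroup.mem_zpowers _))))
  obtain ⟨U, hU⟩ : ∃ U, ι U = u := by
    have := hnormC c c.2 u₀ (hιr ▸ ⟨_, rfl⟩)
    rw [← hιr] at this
    exact this
  obtain ⟨V, hV⟩ : ∃ V, ι V = v := by
    have := hnormC c c.2 v₀ (hιr ▸ ⟨_, rfl⟩)
    rw [← hιr] at this
    exact this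
  have hu2 : u * u = 1 := by
    rw [hu, show (c : G) * u₀ * (c : G)⁻¹ * ((c : G) * u₀ * (c : G)⁻¹) = (c : G) * (u₀ * u₀) * (c : G)⁻¹ by group,
      hu02, mul_one, mul_inv_cancel]
  have hv2 : v * v = 1 := by
    rw [hv, show (c : G) * v₀ * (c : G)⁻¹ * ((c : G) * v₀ * (c : G)⁻¹) = (c : G) * (v₀ * v₀) * (c : G)⁻¹ by group,
      hv02, mul_one, mul_inv_cancel]
  have huv : u ≠ v := by
    intro h
    rw [hu, hv, mul_left_inj, mul_right_inj] at h
    have h' := hιinj h
    rcases SL2.π_eq_iff.mp h' with e | e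
    · have := hq₀.anti
      rw [e] at this
      exact SL2.QPair.eq_scal_of_commute.neg_ne_self' h2 _ this.symm
    · have := hq₀.anti
      rw [e] at this
      simp only [neg_mul, mul_neg, neg_neg] at this
      exact SL2.QPair.eq_scal_of_commute.neg_ne_self' h2 _ this
  obtain ⟨i, j, hq, hi, hj⟩ := lift_pair hFo (u := U) (v := V)
    (hιinj (by rw [map_mul ι, hU, hu2, map_one ι])) (hιinj (by rw [map_mul ι, hV, hv2, map_one ι]))
    (fun h => pi_ne_one h2 hq₀.isq (hιinj (by
      have : u = 1 := by rw [← hU, h, map_one ι]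
      rw [hu, conj_eq_one_iff] at this
      rw [map_one ι]; exact this)))
    (fun h => pi_ne_one h2 hq₀.jsq (hιinj (by
      have : v = 1 := by rw [← hV, h, map_one ι]
      rw [hv, conj_eq_one_iff] at this
      rw [map_one ι]; exact this)))
    (fun h => huv (by rw [← hU, ← hV, h]))
    (hιinj.eq_iff.mp (by
      haveI := hab S
      rw [map_mul ι, map_mul ι, hU, hV]
      exact congrArg Subtype.val (mul_comm (⟨u, huS⟩ : ↥(S : Subgroup G)) ⟨v, hvS⟩)))
  rw [← hU, ← hi] at hu2
  have hSab : ∀ x ∈ (S : Subgroup G), ∀ y ∈ (S : Subgroup G), x * y = y * x := fun x hx y hy => by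
    haveI := hab S
    exact congrArg Subtype.val (mul_comm (⟨x, hx⟩ : ↥(S : Subgroup G)) ⟨y, hy⟩)
  -- automorphisms preserving the simple factor
  have key : ∀ (φ : G ≃* G) (k : ℕ), φ ^ (2 ^ k) = 1 → (∀ x ∈ ι.range, φ x ∈ ι.range) → φ u = u → φ v = v →
      ∃ a ∈ ({1, u, v, u * v} : Set G), ∀ x ∈ ι.range, φ x = a * x * a⁻¹ := by
    intro φ k hk hmaps hφu hφv
    have hf : ∀ y, ∃ y', ι y' = φ (ι y) := fun y => hmaps _ ⟨y, rfl⟩
    choose f hf using hf
    let fh : Matrix.ProjectiveSpecialLinearGroup (Fin 2) F →* Matrix.ProjectiveSpecialLinearGroup (Fin 2) F :=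
      { toFun := f
        map_one' := hιinj (by rw [hf, map_one ι, map_one φ, ])
        map_mul' := fun a b => hιinj (by rw [hf, map_mul ι, map_mul φ, map_mul ι, hf, hf]) }
    have hfinj : Function.Injective fh := fun a b h => hιinj (φ.injective (by rw [← hf, ← hf]; exact congrArg ι h))
    let α : MulAut (Matrix.ProjectiveSpecialLinearGroup (Fin 2) F) :=
      MulEquiv.ofBijective fh ⟨hfinj, Finite.injective_iff_surjective.mp hfinj⟩
    have hαpow : ∀ (m : ℕ) y, ι ((α ^ m) y) = (φ ^ m) (ι y) := by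
      intro m
      induction m with
      | zero => intro y; rfl
      | succ m ih =>
        intro y
        rw [pow_succ, pow_succ, MulAut.mul_apply, MulAut.mul_apply, ih]
        exact congrArg (φ ^ m) (hf y)
    obtain ⟨a, ha, hαa⟩ := aut_four habP hFo hq α k
      (MulEquiv.ext fun y => hιinj (by rw [hαpow, hk]; rfl))
      (hιinj ((hf _).trans (by rw [hi, hU, hφu])))
      (hιinj ((hf _).trans (by rw [hj, hV, hφv])))
    refine ⟨ι a, ?_, ?_⟩
    · rcases ha with rfl | rfl | rfl | rfl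
      · simp
      · simp [hi, hU]
      · simp [hj, hV]
      · simp [hi, hj, hU, hV, map_mul ι]
    · rintro _ ⟨y, rfl⟩
      rw [← hf y, ← map_inv ι, ← map_mul ι, ← map_mul ι]
      exact congrArg ι (DFunLike.congr_fun hαa y)
  have hV4 : ∀ a ∈ ({1, u, v, u * v} : Set G), a ∈ (S : Subgroup G) ∧ a ∈ E := by
    intro a ha
    have huE : u ∈ E := hU ▸ hιE U
    have hvE : v ∈ E := hV ▸ hιE V
    rcases ha with rfl | rfl | rfl | rfl
    · exact ⟨one_mem _, one_mem _⟩
    · exact ⟨huS, huE⟩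
    · exact ⟨hvS, hvE⟩
    · exact ⟨mul_mem huS hvS, mul_mem huE hvE⟩
  have hcentN : ∀ e ∈ E, (∀ x ∈ ι.range, e * x = x * e) → e = 1 := by
    intro e he h
    have : (⟨e, he⟩ : ↥E) ∈ Subgroup.centralizer (N : Set ↥E) := fun x hx =>
      Subtype.ext (h x (hιr ▸ ⟨x, hx, rfl⟩)).symm
    rw [hNc, Subgroup.mem_bot] at this
    exact congrArg Subtype.val this
  have hall : ∀ x ∈ (S : Subgroup G), ∃ a ∈ ({1, t} : Set G), ∃ b ∈ ({1, u, v, u * v} : Set G), x = a * b := by
    intro x hx
    obtain ⟨a, ha, e, he, rfl⟩ := hdec x (hSC S htS hx)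
    have haS : a ∈ (S : Subgroup G) := (Subgroup.zpowers_le.mpr htS) ha
    have heS : e ∈ (S : Subgroup G) := by
      have := mul_mem (inv_mem haS) hx
      rwa [inv_mul_cancel_left] at this
    obtain ⟨k, hk⟩ := S.2 ⟨e, heS⟩
    have hk' : e ^ 2 ^ k = 1 := congrArg Subtype.val hk
    obtain ⟨b, hb, hbx⟩ := key (MulAut.conj e) k (by rw [← map_pow, hk', map_one])
      (fun y hy => by rw [hιr] at hy ⊢; exact hnormE e he y hy)
      (by show e * u * e⁻¹ = u; rw [hSab e heS u huS, mul_inv_cancel_right])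
      (by show e * v * e⁻¹ = v; rw [hSab e heS v hvS, mul_inv_cancel_right])
    refine ⟨a, by rcases hzp a ha with h | h <;> simp [h], b, hb, ?_⟩
    congr 1
    have h1 := hcentN (b⁻¹ * e) (mul_mem (inv_mem (hV4 b hb).2) he) fun y hy => by
      have h3 : e * y * e⁻¹ = b * y * b⁻¹ := hbx y hy
      calc b⁻¹ * e * y = b⁻¹ * (e * y * e⁻¹) * e := by group
        _ = y * (b⁻¹ * e) := by rw [h3]; group
    exact (inv_mul_eq_one.mp h1).symm
  obtain ⟨w, -, hwi, hwj, -⟩ := hq.exists_omega h2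
  have hw : ∀ z z', w * z * w⁻¹ = z' → ι (SL2.π w) * ι (SL2.π z) * (ι (SL2.π w))⁻¹ = ι (SL2.π z') := by
    intro z z' h
    rw [← h, SL2.π_conj, map_mul ι, map_mul ι, map_inv ι]
  set W := ι (SL2.π w)
  have hwt : W * t * W⁻¹ = t := by rw [← (hιC _).eq, mul_inv_cancel_right]
  have hwu : W * u * W⁻¹ = u * v := by
    have := hw _ _ hwi
    rwa [map_mul SL2.π, map_mul ι, hi, hj, hU, hV] at this
  have hwv : W * v * W⁻¹ = u := by
    have := hw _ _ hwj
    rwa [hi, hj, hU, hV] at this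
  have hWS : W ∈ Subgroup.normalizer ((S : Subgroup G) : Set G) := by
    refine Subgroup.mem_normalizer_iff.mpr ?_
    have hmap : ∀ y ∈ (S : Subgroup G), W * y * W⁻¹ ∈ (S : Subgroup G) := by
      intro y hy
      obtain ⟨a, ha, b, hb, rfl⟩ := hall y hy
      rw [show W * (a * b) * W⁻¹ = (W * a * W⁻¹) * (W * b * W⁻¹) by group]
      refine mul_mem ?_ ?_
      · rcases ha with rfl | rfl
        · simp
        · rw [hwt]; exact htS
      · rcases hb with rfl | rfl | rfl | rfl
        · simp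
        · rw [hwu]; exact mul_mem huS hvS
        · rw [hwv]; exact huS
        · rw [show W * (u * v) * W⁻¹ = (W * u * W⁻¹) * (W * v * W⁻¹) by group, hwu, hwv]
          exact mul_mem (mul_mem huS hvS) huS
    let f : ↥(S : Subgroup G) → ↥(S : Subgroup G) := fun y => ⟨W * y * W⁻¹, hmap y y.2⟩
    have hfs : Function.Surjective f := Finite.injective_iff_surjective.mp fun a b h => by
      apply Subtype.ext
      exact mul_left_cancel (mul_right_cancel (congrArg Subtype.val h))
    refine fun y => ⟨hmap y, fun hy => ?_⟩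
    obtain ⟨z, hz⟩ := hfs ⟨_, hy⟩
    rw [← mul_left_cancel (mul_right_cancel (congrArg Subtype.val hz))]
    exact z.2
  have hu2' : u * u = 1 := by rw [hi, hU] at hu2; exact hu2
  refine ⟨u, v, W, ⟨huS, hvS, hWS, hu2', hv2, hall, hwt, hwu, hwv⟩, hιr ▸ ⟨_, rfl⟩,
    hιr ▸ ⟨U, hU⟩, hιr ▸ ⟨V, hV⟩, ?_⟩
  intro φ k hk hfix
  haveI hsimp : IsSimpleGroup (Matrix.ProjectiveSpecialLinearGroup (Fin 2) F) :=
    Matrix.ProjectiveSpecialLinearGroup.rank_two_simple (by rw [Nat.card_eq_fintype_card]; omega)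
  have hφC : ∀ x ∈ C, φ x ∈ C := fun x hx => by
    rw [hCdef, Subgroup.mem_centralizer_singleton_iff] at hx ⊢
    rw [← hfix t htS, ← map_mul φ, ← map_mul φ, hx]
  have hu1 : U ≠ 1 := fun h => pi_ne_one h2 hq.isq (hi.trans h)
  have hφN : ∀ x ∈ ι.range, φ x ∈ ι.range := by
    let f : Matrix.ProjectiveSpecialLinearGroup (Fin 2) F →* G := φ.toMonoidHom.comp ι
    have hfC : ∀ y, f y ∈ C := fun y =>
      hφC _ (Subgroup.mem_centralizer_singleton_iff.mpr (hιC y).symm.eq)
    have hK : ((ι.range).comap f).Normal := by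
      refine ⟨fun y hy z => ?_⟩
      show f (z * y * z⁻¹) ∈ ι.range
      rw [map_mul f, map_mul f, map_inv f, hιr]
      exact hnormC _ (hfC z) _ (hιr ▸ hy)
    rcases hK.eq_bot_or_eq_top with h | h
    · exfalso
      have : U ∈ (ι.range).comap f := ⟨U, by show ι U = φ (ι U); rw [hU, hfix u huS]⟩
      rw [h, Subgroup.mem_bot] at this
      exact hu1 this
    · rintro _ ⟨y, rfl⟩
      exact (h ▸ Subgroup.mem_top y : y ∈ (ι.range).comap f)
  obtain ⟨a, ha, hax⟩ := key φ k hk hφN (hfix u huS) (hfix v hvS)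
  refine ⟨a, ha, fun x hx => ?_⟩
  set ψ : G ≃* G := (MulAut.conj a)⁻¹ * φ with hψdef
  have hψapp : ∀ y, ψ y = a⁻¹ * φ y * a := fun y => by
    rw [hψdef, MulAut.mul_apply, ← map_inv, MulAut.conj_apply, inv_inv]
  have hψN : ∀ y ∈ ι.range, ψ y = y := fun y hy => by rw [hψapp, hax y hy]; group
  have hψS : ∀ y ∈ (S : Subgroup G), ψ y = y := fun y hy => by
    rw [hψapp, hfix y hy, hSab _ (inv_mem (hV4 a ha).1) y hy, inv_mul_cancel_right]
  have haC : a ∈ C := hEC (hV4 a ha).2
  have hψC : ∀ y ∈ C, ψ y ∈ C := fun y hy => by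
    rw [hψapp]; exact mul_mem (mul_mem (inv_mem haC) (hφC y hy)) haC
  have hstep : ∀ e ∈ E, ψ e = e ∨ ψ e = t * e := by
    intro e he
    obtain ⟨b, hb, e', he', hbe⟩ := hdec _ (hψC e (hEC he))
    have h1 : e'⁻¹ * e = 1 := by
      refine hcentN _ (mul_mem (inv_mem he') he) fun y hy => ?_
      have hy' : e * y * e⁻¹ ∈ ι.range := by rw [hιr] at hy ⊢; exact hnormE e he y hy
      have h3 : (b * e') * y * (b * e')⁻¹ = e * y * e⁻¹ := by
        rw [← hbe]
        conv_lhs => rw [← hψN y hy, ← map_mul ψ, ← map_inv ψ, ← map_mul ψ]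
        exact hψN _ hy'
      rw [show (b * e') * y * (b * e')⁻¹ = b * (e' * y * e'⁻¹) * b⁻¹ by group] at h3
      have h4 : e' * y * e'⁻¹ = e * y * e⁻¹ := by
        rw [hTE b hb _ (by
          have : y ∈ E := by obtain ⟨z, rfl⟩ := hy; exact hιE z
          exact mul_mem (mul_mem he' this) (inv_mem he')), mul_inv_cancel_right] at h3
        exact h3
      calc e'⁻¹ * e * y = e'⁻¹ * (e * y * e⁻¹) * e := by group
        _ = y * (e'⁻¹ * e) := by rw [← h4]; group
    rw [inv_mul_eq_one] at h1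
    subst h1
    rcases hzp b hb with rfl | rfl
    · left; rw [hbe, one_mul]
    · right; exact hbe
  have hE1 : ∀ e ∈ E, ψ e = e := by
    intro e he
    obtain ⟨n, m, hm, hnm⟩ : ∃ n m, Odd m ∧ orderOf e = 2 ^ n * m := by
      refine ⟨_, _, ?_, (Nat.ordProj_mul_ordCompl_eq_self (orderOf e) 2).symm⟩
      rw [Nat.odd_iff]
      have := Nat.not_dvd_ordCompl Nat.prime_two (orderOf_pos e).ne'
      omega
    rcases hstep e he with h | h
    · exact h
    exfalso
    set x := e ^ m
    have hx2 : x ^ 2 ^ n = 1 := by rw [← pow_mul, mul_comm, ← hnm, pow_orderOf_eq_one]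
    have hψx : ψ x = t * x := by
      rw [map_pow ψ, h, (show Commute t e from hTE t (Subgroup.mem_zpowers t) e he).mul_pow]
      obtain ⟨r, rfl⟩ := hm
      rw [pow_succ t, pow_mul, pow_two, htt, one_pow, one_mul]
    have hxC : x ∈ C := hEC (pow_mem he m)
    have hP : IsPGroup 2 (Subgroup.zpowers (⟨x, hxC⟩ : ↥C)) := by
      rintro ⟨y, i, rfl⟩
      refine ⟨n, Subtype.ext (Subtype.ext ?_)⟩
      show (x ^ i) ^ 2 ^ n = 1
      rw [← zpow_natCast, ← _root_.zpow_mul, mul_comm, _root_.zpow_mul, zpow_natCast, hx2, _root_.one_zpow]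
    obtain ⟨P, hP'⟩ := hP.exists_le_sylow
    obtain ⟨d, hd⟩ := MulAction.exists_smul_eq ↥C P (S.subtype (hSC S htS))
    have hdx : (d : G) * x * (d : G)⁻¹ ∈ (S : Subgroup G) := by
      have h1 : d * ⟨x, hxC⟩ * d⁻¹ ∈ ((S.subtype (hSC S htS)) : Subgroup ↥C) := by
        rw [← hd]
        exact Subgroup.smul_mem_pointwise_smul (⟨x, hxC⟩ : ↥C) (MulAut.conj d) _ (hP' (Subgroup.mem_zpowers _))
      exact h1
    obtain ⟨b, hb, e₁, he₁, hde⟩ := hdec d d.2
    have hxE : x ∈ E := pow_mem he m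
    have hbd : (d : G) * x * (d : G)⁻¹ = e₁ * x * e₁⁻¹ := by
      rw [hde, show b * e₁ * x * (b * e₁)⁻¹ = b * (e₁ * x * e₁⁻¹) * b⁻¹ by group,
        hTE b hb _ (mul_mem (mul_mem he₁ hxE) (inv_mem he₁)), mul_inv_cancel_right]
    rw [hbd] at hdx
    have h5 := hψS _ hdx
    rw [map_mul ψ, map_mul ψ, map_inv ψ, hψx] at h5
    have ht1 := Invol.ne_one_of_orderOf_two ht
    have hTe1 : t * e₁ = e₁ * t := hTE t (Subgroup.mem_zpowers t) _ he₁
    rcases hstep e₁ he₁ with h1 | h1 <;> rw [h1] at h5 <;> apply ht1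
    · rw [← mul_assoc e₁ t x, ← hTe1] at h5
      calc t = t * e₁ * x * e₁⁻¹ * (e₁ * x * e₁⁻¹)⁻¹ := by group
        _ = 1 := by rw [h5, mul_inv_cancel]
    · have h6 : t * e₁ * (t * x) * (t * e₁)⁻¹ = t * (e₁ * t) * x * e₁⁻¹ * t⁻¹ := by group
      rw [h6, ← hTe1, ← mul_assoc t t, htt, one_mul] at h5
      have hy0 : Commute t (e₁ * x * e₁⁻¹) := hTE t (Subgroup.mem_zpowers t) _
        (mul_mem (mul_mem he₁ hxE) (inv_mem he₁))
      have hy : Commute (e₁ * x * e₁⁻¹) t⁻¹ := hy0.symm.inv_right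
      have h7 : e₁ * x * e₁⁻¹ * t⁻¹ = e₁ * x * e₁⁻¹ * 1 := by rw [mul_one]; exact h5
      exact inv_eq_one.mp (mul_left_cancel h7)
  obtain ⟨b, hb, e, he, rfl⟩ := hdec x hx
  have hψb : ψ b = b := hψS b ((Subgroup.zpowers_le.mpr htS) hb)
  have := congrArg (fun y => a * y * a⁻¹) (show ψ (b * e) = b * e by rw [map_mul ψ, hψb, hE1 e he])
  simp only [hψapp] at this
  rw [← this]
  group

end Group

/-- Let G be a non-abelian finite simple group with abelian Sylow 2-subgroups, and let t be an involution of G whose centralizer is a maximal subgroup of G and is the direct product of the subgroup generated by t with a subgroup E having a normal subgroup isomorphic to PSL(2, q), q odd and greater than 3, with trivial centralizer in E. Then every finite perfect group having a central 2-subgroup with quotient isomorphic to G has that central subgroup trivial (G has no nontrivial perfect central extension by a 2-group), and every automorphism of G of 2-power order that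 fixes every element of some Sylow 2-subgroup of G is inner. -/
theorem result {G : Type*} [Group G] [Finite G] [IsSimpleGroup G]
    (hG : ¬ IsMulCommutative G) (hab : ∀ S : Sylow 2 G, IsMulCommutative ↥(S : Subgroup G))
    (t : G) (ht : orderOf t = 2) (hmax : IsCoatom (Subgroup.centralizer ({t} : Set G)))
    (E : Subgroup G) (hE : Cfsg.IsInternalDirectProduct (Subgroup.zpowers t) E (Subgroup.centralizer ({t} : Set G)))
    {F : Type*} [Field F] [Fintype F] (hFo : Odd (Fintype.card F)) (hF3 : 3 < Fintype.card F)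
    (N : Subgroup ↥E) [N.Normal] (hN : Nonempty (↥N ≃* Matrix.ProjectiveSpecialLinearGroup (Fin 2) F))
    (hNc : Subgroup.centralizer (N : Set ↥E) = ⊥) :
    (∀ (L : Type) (_ : Group L) (_ : Finite L) (Z : Subgroup L) (_ : Z.Normal), commutator L = ⊤ → Z ≤ Subgroup.center L →
        IsPGroup 2 ↥Z → Nonempty (L ⧸ Z ≃* G) → Z = ⊥) ∧
    (∀ (φ : G ≃* G) (k : ℕ), φ ^ (2 ^ k) = 1 → (∃ S : Sylow 2 G, ∀ s ∈ (S : Subgroup G), φ s = s) →
        ∃ g : G, ∀ x : G, φ x = g * x * g⁻¹) := by
  haveI : Fact (Nat.Prime 2) := ⟨Nat.prime_two⟩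
  obtain ⟨eN⟩ := hN
  have htt := Invol.mul_self_of_orderOf_two ht
  have ht1 := Invol.ne_one_of_orderOf_two ht
  have hSab : ∀ (S : Sylow 2 G), ∀ x ∈ (S : Subgroup G), ∀ y ∈ (S : Subgroup G), x * y = y * x := fun S x hx y hy => by
    haveI := hab S
    exact congrArg Subtype.val (mul_comm (⟨x, hx⟩ : ↥(S : Subgroup G)) ⟨y, hy⟩)
  have hmove : ∀ S : Sylow 2 G, t ∈ (S : Subgroup G) →
      ∃ n ∈ Subgroup.normalizer ((S : Subgroup G) : Set G), n * t * n⁻¹ ≠ t := by
    intro S htS
    by_contra hcon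
    push Not at hcon
    have hiso : ∀ g : G, g * t * g⁻¹ ∈ (S : Subgroup G) → g * t * g⁻¹ = t := by
      intro g hg
      obtain ⟨n, hn, e⟩ := Sylow.conj_eq_normalizer_conj_of_mem_centralizer S t g⁻¹
        (fun y hy => hSab S y hy t htS)
        (by rw [inv_inv]; exact fun y hy => hSab S y hy _ hg)
      rw [inv_inv] at e
      rw [e]
      have := hcon n⁻¹ (inv_mem hn)
      rwa [inv_inv] at this
    obtain ⟨K, hK, hKodd, hKc⟩ := InvChar.zstarSylow S t ht htS hiso
    rcases hK.eq_bot_or_eq_top with h | h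
    · have htc : t ∈ Subgroup.center G := Subgroup.mem_center_iff.mpr fun g => by
        have := hKc g
        rw [h, Subgroup.mem_bot, mul_inv_eq_iff_eq_mul, one_mul, mul_inv_eq_iff_eq_mul] at this
        exact this.symm
      rcases (inferInstance : (Subgroup.center G).Normal).eq_bot_or_eq_top with h1 | h1
      · rw [h1, Subgroup.mem_bot] at htc; exact ht1 htc
      · exact hG ⟨⟨fun a b => Subgroup.mem_center_iff.mp (h1 ▸ Subgroup.mem_top b : b ∈ Subgroup.center G) a⟩⟩
    · rw [h, Subgroup.card_top, ← Nat.not_even_iff_odd, even_iff_two_dvd] at hKodd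
      exact hKodd (ht ▸ orderOf_dvd_natCard t)
  constructor
  · intro L _ _ Z _ hperf hZc hZ2 hiso
    obtain ⟨π⟩ := hiso
    let σ : L →* G := π.toMonoidHom.comp (QuotientGroup.mk' Z)
    have hσs : Function.Surjective σ := π.surjective.comp (QuotientGroup.mk'_surjective Z)
    have hker : ∀ x, σ x = 1 ↔ x ∈ Z := fun x => by
      show π (QuotientGroup.mk x) = 1 ↔ _
      rw [π.map_eq_one_iff, QuotientGroup.eq_one_iff]
    obtain ⟨S, hS⟩ := (show IsPGroup 2 (Subgroup.zpowers t) from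
      IsPGroup.of_card (n := 1) (by rw [Nat.card_zpowers, ht, pow_one])).exists_le_sylow
    have htS : t ∈ (S : Subgroup G) := hS (Subgroup.mem_zpowers t)
    obtain ⟨u, v, w, h4, -, -, -, -⟩ := exists_four hab t ht E hE hFo hF3 N eN hNc S htS
    obtain ⟨n, hn, hnt⟩ := hmove S htS
    set T := (S : Subgroup G).comap σ with hT
    have hcen : ∀ z ∈ Z, ∀ x : L, Commute x z := fun z hz x => Subgroup.mem_center_iff.mp (hZc hz) x
    obtain ⟨t', htt'⟩ := hσs t
    obtain ⟨u', hu'⟩ := hσs u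
    obtain ⟨v', hv'⟩ := hσs v
    obtain ⟨w', hw'⟩ := hσs w
    obtain ⟨n', hn'⟩ := hσs n
    let cm : L → L → L := fun a b => a * b * a⁻¹ * b⁻¹
    have hcm : ∀ a b, σ a ∈ (S : Subgroup G) → σ b ∈ (S : Subgroup G) → cm a b ∈ Z := by
      intro a b ha hb
      rw [← hker]
      simp only [cm, map_mul σ, map_inv σ]
      rw [hSab S _ ha _ hb]
      group
    have hcong : ∀ a b b', σ b = σ b' → cm a b = cm a b' := by
      intro a b b' h
      have hz : b⁻¹ * b' ∈ Z := by rw [← hker, map_mul σ, map_inv σ, h, inv_mul_cancel]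
      have hb' : b' = b * (b⁻¹ * b') := by group
      rw [hb']
      generalize b⁻¹ * b' = z at hz
      show a * b * a⁻¹ * b⁻¹ = a * (b * z) * a⁻¹ * (b * z)⁻¹
      rw [show a * (b * z) * a⁻¹ * (b * z)⁻¹ = a * b * (z * a⁻¹) * z⁻¹ * b⁻¹ by group,
        ← (hcen z hz a⁻¹).eq]
      group
    have hcongl : ∀ a a' b, σ a = σ a' → cm a b = cm a' b := by
      intro a a' b h
      have e : ∀ a b, cm a b = (cm b a)⁻¹ := fun a b => by simp only [cm]; group
      rw [e a b, e a' b, hcong b a a' h]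
    have hmulr : ∀ a b c, σ a ∈ (S : Subgroup G) → σ c ∈ (S : Subgroup G) →
        cm a (b * c) = cm a b * cm a c := by
      intro a b c ha hc
      calc cm a (b * c) = a * b * a⁻¹ * ((cm a c) * b⁻¹) := by simp only [cm]; group
        _ = cm a b * cm a c := by rw [← (hcen _ (hcm a c ha hc) b⁻¹).eq]; simp only [cm]; group
    have hconj : ∀ g a b, σ a ∈ (S : Subgroup G) → σ b ∈ (S : Subgroup G) →
        cm (g * a * g⁻¹) (g * b * g⁻¹) = cm a b := by
      intro g a b ha hb
      calc cm (g * a * g⁻¹) (g * b * g⁻¹) = g * cm a b * g⁻¹ := by simp only [cm]; group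
        _ = cm a b := by rw [(hcen _ (hcm a b ha hb) g).eq, mul_inv_cancel_right]
    have mS_t : σ t' ∈ (S : Subgroup G) := htt'.symm ▸ htS
    have mS_u : σ u' ∈ (S : Subgroup G) := hu'.symm ▸ h4.uS
    have mS_v : σ v' ∈ (S : Subgroup G) := hv'.symm ▸ h4.vS
    have htv : cm t' v' = 1 := by
      have h := hconj w' t' u' mS_t mS_u
      rw [hcongl (w' * t' * w'⁻¹) t' _ (by rw [map_mul σ, map_mul σ, map_inv σ, hw', htt', h4.wt]),
        hcong t' (w' * u' * w'⁻¹) (u' * v') (by rw [map_mul σ, map_mul σ, map_inv σ, map_mul σ, hw', hu', hv', h4.wu]),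
        hmulr t' u' v' mS_t mS_v] at h
      exact mul_eq_left.mp h
    have htu : cm t' u' = 1 := by
      have h := hconj w' t' v' mS_t mS_v
      rw [hcongl (w' * t' * w'⁻¹) t' _ (by rw [map_mul σ, map_mul σ, map_inv σ, hw', htt', h4.wt]),
        hcong t' (w' * v' * w'⁻¹) u' (by rw [map_mul σ, map_mul σ, map_inv σ, hw', hu', hv', h4.wv]),
        htv] at h
      exact h
    have hT4 : ∀ x ∈ T, ∃ a ∈ ({1, t'} : Set L), ∃ b ∈ ({1, u', v', u' * v'} : Set L), ∃ z ∈ Z, x = a * b * z := by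
      intro x hx
      obtain ⟨a, ha, b, hb, hab'⟩ := h4.all (σ x) hx
      obtain ⟨a', ha', haa⟩ : ∃ a' ∈ ({1, t'} : Set L), σ a' = a := by
        rcases ha with rfl | rfl
        · exact ⟨1, by simp, map_one σ⟩
        · exact ⟨t', by simp, htt'⟩
      obtain ⟨b', hb', hbb⟩ : ∃ b' ∈ ({1, u', v', u' * v'} : Set L), σ b' = b := by
        rcases hb with rfl | rfl | rfl | rfl
        · exact ⟨1, by simp, map_one σ⟩
        · exact ⟨u', by simp, hu'⟩
        · exact ⟨v', by simp, hv'⟩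
        · exact ⟨u' * v', by simp, by rw [map_mul σ, hu', hv']⟩
      refine ⟨a', ha', b', hb', (a' * b')⁻¹ * x, ?_, by group⟩
      rw [← hker, map_mul σ, map_inv σ, map_mul σ, haa, hbb, hab', inv_mul_cancel]
    have cm1 : ∀ a b : L, cm a b = 1 ↔ Commute a b := fun a b => by
      show a * b * a⁻¹ * b⁻¹ = 1 ↔ a * b = b * a
      rw [mul_inv_eq_one, mul_inv_eq_iff_eq_mul]
    have cen_of : ∀ y, Commute y t' → Commute y u' → Commute y v' → ∀ x ∈ T, Commute y x := by
      intro y h1 h2 h3 x hx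
      obtain ⟨a, ha, b, hb, z, hz, rfl⟩ := hT4 x hx
      refine ((?_ : Commute y a).mul_right ?_).mul_right (hcen z hz y)
      · rcases ha with rfl | rfl
        · exact Commute.one_right _
        · exact h1
      · rcases hb with rfl | rfl | rfl | rfl
        · exact Commute.one_right _
        · exact h2
        · exact h3
        · exact h2.mul_right h3
    have htC := cen_of t' (Commute.refl _) ((cm1 _ _).mp htu) ((cm1 _ _).mp htv)
    have hn1 : n' * t' * n'⁻¹ ∈ T := by
      show σ (n' * t' * n'⁻¹) ∈ (S : Subgroup G)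
      rw [map_mul σ, map_mul σ, map_inv σ, hn', htt']
      exact (Subgroup.mem_normalizer_iff.mp hn t).mp htS
    have hnC : ∀ x ∈ T, Commute (n' * t' * n'⁻¹) x := by
      intro x hx
      have hx' : n'⁻¹ * x * n' ∈ T := by
        show σ (n'⁻¹ * x * n') ∈ (S : Subgroup G)
        rw [map_mul σ, map_mul σ, map_inv σ, hn']
        have := (Subgroup.mem_normalizer_iff.mp (inv_mem hn) (σ x)).mp hx
        rwa [inv_inv] at this
      have := (htC _ hx').map (MulAut.conj n').toMonoidHom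
      simpa [MulAut.conj_apply, mul_assoc] using this
    have huv : Commute u' v' := by
      obtain ⟨a, ha, b, hb, z, hz, hab'⟩ := hT4 _ hn1
      have haC : ∀ x ∈ T, Commute a x := fun x hx => by
        rcases ha with rfl | rfl
        · exact Commute.one_left _
        · exact htC x hx
      have hb' : b = a⁻¹ * (n' * t' * n'⁻¹) * z⁻¹ := by rw [hab']; group
      have hbC : ∀ x ∈ T, Commute b x := fun x hx => by
        rw [hb']
        exact (((haC x hx).inv_left).mul_left (hnC x hx)).mul_left ((hcen _ hz x).symm.inv_left)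
      rcases hb with rfl | rfl | rfl | rfl
      · exfalso
        apply hnt
        have h1 := congrArg σ hab'
        rw [map_mul σ, map_mul σ, map_inv σ, hn', htt', map_mul σ, map_mul σ, map_one σ, (hker z).mpr hz,
          mul_one, mul_one] at h1
        rcases ha with rfl | rfl
        · rw [map_one σ, conj_eq_one_iff] at h1
          exact absurd h1 ht1
        · rw [h1, htt']
      · exact hbC v' mS_v
      · exact (hbC u' mS_u).symm
      · have := hbC u' mS_u
        have h2 : u' * v' * u' = u' * (u' * v') := this.eq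
        rw [mul_assoc] at h2
        exact (mul_left_cancel h2).symm
    have huC := cen_of u' ((cm1 _ _).mp htu).symm (Commute.refl _) huv
    have hvC := cen_of v' ((cm1 _ _).mp htv).symm huv.symm (Commute.refl _)
    haveI hTc : IsMulCommutative ↥T := ⟨⟨fun x y => Subtype.ext (by
      obtain ⟨a, ha, b, hb, z, hz, hx⟩ := hT4 x x.2
      have : Commute (x : L) y := by
        rw [hx]
        refine ((?_ : Commute a (y : L)).mul_left ?_).mul_left (hcen z hz y).symm
        · rcases ha with rfl | rfl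
          · exact Commute.one_left _
          · exact htC y y.2
        · rcases hb with rfl | rfl | rfl | rfl
          · exact Commute.one_left _
          · exact huC y y.2
          · exact hvC y y.2
          · exact (huC y y.2).mul_left (hvC y y.2)
      exact this.eq)⟩⟩
    have hidx : Odd T.index := by
      rw [hT, Subgroup.index_comap_of_surjective _ hσs, ← Nat.not_even_iff_odd, even_iff_two_dvd]
      exact S.not_dvd_index
    let V : L →* ↥T := MonoidHom.transfer (MonoidHom.id ↥T)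
    rw [eq_bot_iff]
    intro z hz
    have hzk : commutator L ≤ V.ker := Abelianization.commutator_subset_ker V
    have hV1 : V z = 1 := by
      rw [← MonoidHom.mem_ker]; exact hzk (hperf ▸ Subgroup.mem_top z)
    rw [show V z = _ from MonoidHom.transfer_eq_pow _ z (fun k g₀ _ => by
      rw [mul_assoc, ← ((hcen z hz g₀).pow_right k).eq, inv_mul_cancel_left])] at hV1
    have hp : z ^ T.index = 1 := congrArg Subtype.val hV1
    obtain ⟨k, hk⟩ := hZ2 ⟨z, hz⟩
    have hk' : z ^ 2 ^ k = 1 := congrArg Subtype.val hk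
    have : z ^ Nat.gcd T.index (2 ^ k) = 1 := pow_gcd_eq_one.mpr ⟨hp, hk'⟩
    rw [Nat.Coprime.gcd_eq_one (Nat.Coprime.pow_right k (Nat.coprime_two_right.mpr hidx)), pow_one] at this
    exact this
  · intro φ k hk hfix
    obtain ⟨S₀, hS₀⟩ := hfix
    obtain ⟨P, hP⟩ := (show IsPGroup 2 (Subgroup.zpowers t) from
      IsPGroup.of_card (n := 1) (by rw [Nat.card_zpowers, ht, pow_one])).exists_le_sylow
    obtain ⟨g, hg⟩ := MulAction.exists_smul_eq G S₀ P
    have htP : t ∈ (P : Subgroup G) := hP (Subgroup.mem_zpowers t)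
    set φ' : MulAut G := MulAut.conj g * φ * (MulAut.conj g)⁻¹ with hφ'
    have hφapp : ∀ x, φ' x = g * φ (g⁻¹ * x * g) * g⁻¹ := fun x => by
      rw [hφ', MulAut.mul_apply, MulAut.mul_apply, ← map_inv, MulAut.conj_apply, MulAut.conj_apply, inv_inv]
    have hk' : φ' ^ 2 ^ k = 1 := by rw [hφ', conj_pow, hk, mul_one, mul_inv_cancel]
    have hfix' : ∀ s ∈ (P : Subgroup G), φ' s = s := by
      intro s hs
      have hs' : g⁻¹ * s * g ∈ (S₀ : Subgroup G) := by
        have h1 : s ∈ ((g • S₀ : Sylow 2 G) : Subgroup G) := by rw [hg]; exact hs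
        rw [Sylow.coe_subgroup_smul, Subgroup.mem_pointwise_smul_iff_inv_smul_mem] at h1
        simpa [MulAut.smul_def] using h1
      rw [hφapp, hS₀ _ hs']
      group
    obtain ⟨u, v, w, h4, hwN, -, -, hgen⟩ := exists_four hab t ht E hE hFo hF3 N eN hNc P htP
    obtain ⟨a, ha, hax⟩ := hgen φ' k hk' hfix'
    set C := Subgroup.centralizer ({t} : Set G) with hC
    have hSab' := hSab P
    have haS : a ∈ (P : Subgroup G) := by
      rcases ha with rfl | rfl | rfl | rfl
      exacts [one_mem _, h4.uS, h4.vS, mul_mem h4.uS h4.vS]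
    set ψ : MulAut G := (MulAut.conj a)⁻¹ * φ' with hψ
    have hψapp : ∀ x, ψ x = a⁻¹ * φ' x * a := fun x => by
      rw [hψ, MulAut.mul_apply, ← map_inv, MulAut.conj_apply, inv_inv]
    have hψC : ∀ x ∈ C, ψ x = x := fun x hx => by rw [hψapp, hax x hx]; group
    have hPC : (P : Subgroup G) ≤ C := fun x hx =>
      Subgroup.mem_centralizer_singleton_iff.mpr (hSab' x hx t htP)
    have hψP : ∀ x ∈ (P : Subgroup G), ψ x = x := fun x hx => hψC x (hPC hx)
    have hψk : ψ ^ 2 ^ k.succ = 1 := by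
      have hc : Commute φ' (MulAut.conj a) := MulEquiv.ext fun x => by
        show φ' (a * x * a⁻¹) = a * φ' x * a⁻¹
        rw [map_mul φ', map_mul φ', map_inv φ', hfix' a haS]
      have ha2 : a * a = 1 := by
        rcases ha with rfl | rfl | rfl | rfl
        · exact one_mul 1
        · exact h4.u2
        · exact h4.v2
        · have hc' : Commute v u := hSab' v h4.vS u h4.uS
          rw [hc'.mul_mul_mul_comm, h4.u2, h4.v2, one_mul]
      rw [hψ, hc.inv_right.symm.mul_pow, Nat.pow_succ', pow_mul, pow_mul, pow_two, pow_two,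
        ← _root_.mul_inv_rev, ← map_mul, ha2, map_one, inv_one, one_pow, one_mul, ← pow_two,
        ← pow_mul, mul_comm, pow_mul, hk', one_pow]
    -- the cocycle
    set NS := Subgroup.normalizer ((P : Subgroup G) : Set G) with hNS
    set CS := (Subgroup.centralizer ((P : Subgroup G) : Set G)).subgroupOf NS with hCS
    let c : ↥NS → G := fun m => (m : G)⁻¹ * ψ m
    have hcS : ∀ m : ↥NS, c m ∈ (P : Subgroup G) := by
      intro m
      have hcc : c m ∈ Subgroup.centralizer ((P : Subgroup G) : Set G) := by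
        intro y hy
        have hy' : (m : G) * y * (m : G)⁻¹ ∈ (P : Subgroup G) := (Subgroup.mem_normalizer_iff.mp m.2 y).mp hy
        have h := hψP _ hy'
        rw [map_mul ψ, map_mul ψ, map_inv ψ, hψP y hy] at h
        show y * ((m : G)⁻¹ * ψ m) = (m : G)⁻¹ * ψ m * y
        calc y * ((m : G)⁻¹ * ψ m) = (m : G)⁻¹ * ((m : G) * y * (m : G)⁻¹) * ψ m := by group
          _ = (m : G)⁻¹ * ψ m * y := by rw [← h]; group
      have hcC : c m ∈ C := Subgroup.mem_centralizer_singleton_iff.mpr (hcc t htP).symm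
      have hfixc := hψC _ hcC
      have hpow : ∀ j : ℕ, (ψ ^ j) (m : G) = (m : G) * c m ^ j := by
        intro j
        induction j with
        | zero => simp
        | succ j ih =>
          rw [pow_succ', MulAut.mul_apply, ih, map_mul ψ, map_pow ψ, hfixc, pow_succ', ← mul_assoc]
          congr 1
          show ψ m = (m : G) * ((m : G)⁻¹ * ψ m)
          group
      have hj := hpow (2 ^ k.succ)
      rw [hψk, MulAut.one_apply] at hj
      have hc2 : c m ^ 2 ^ k.succ = 1 := left_eq_mul.mp hj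
      have hzp : IsPGroup 2 (Subgroup.zpowers (c m)) := by
        rintro ⟨y, i, rfl⟩
        refine ⟨k.succ, Subtype.ext ?_⟩
        show (c m ^ i) ^ 2 ^ k.succ = 1
        rw [← zpow_natCast, ← _root_.zpow_mul, mul_comm, _root_.zpow_mul, zpow_natCast, hc2, _root_.one_zpow]
      have hsupP := hzp.to_sup_of_normal_right' P.2 (Subgroup.zpowers_le.mpr
        (Subgroup.mem_normalizer_iff.mpr fun y => by
          constructor
          · intro hy; rw [← hcc y hy, mul_inv_cancel_right]; exact hy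
          · intro hy
            have h := hcc _ hy
            rw [inv_mul_cancel_right] at h
            have : y = c m * y * (c m)⁻¹ := mul_left_cancel h
            rw [this]; exact hy))
      rw [← P.3 hsupP le_sup_right]
      exact Subgroup.mem_sup_left (Subgroup.mem_zpowers _)
    have hcmul : ∀ m n : ↥NS, c (m * n) = (n : G)⁻¹ * c m * n * c n := by
      intro m n
      simp only [c, Subgroup.coe_mul, map_mul ψ]
      group
    have hcC : ∀ m : ↥NS, m ∈ CS → c m = 1 := fun m hm => by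
      have : (m : G) ∈ C := Subgroup.mem_centralizer_singleton_iff.mpr (hm t htP).symm
      simp only [c, hψC _ this, inv_mul_cancel]
    haveI hCSn : CS.Normal := by
      refine ⟨fun x hx y z hz => ?_⟩
      have hz' := (Subgroup.mem_normalizer_iff.mp (inv_mem y.2) z).mp hz
      rw [inv_inv] at hz'
      have := hx _ hz'
      replace this : ((y : G)⁻¹ * z * y) * (x : G) = (x : G) * ((y : G)⁻¹ * z * y) := this
      show z * ((y : G) * x * (y : G)⁻¹) = (y : G) * x * (y : G)⁻¹ * z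
      calc z * ((y : G) * x * (y : G)⁻¹) = (y : G) * (((y : G)⁻¹ * z * y) * x) * (y : G)⁻¹ := by group
        _ = (y : G) * x * (y : G)⁻¹ * z := by rw [this]; group
    haveI := Fintype.ofFinite (↥NS ⧸ CS)
    have hodd : Odd (Fintype.card (↥NS ⧸ CS)) := by
      rw [← Nat.card_eq_fintype_card, ← Subgroup.index_eq_card, ← Nat.not_even_iff_odd, even_iff_two_dvd]
      intro h
      have hle : (P : Subgroup G).subgroupOf NS ≤ CS := fun x hx y hy => hSab' y hy x hx
      have h1 : CS.index ∣ ((P : Subgroup G).subgroupOf NS).index := Subgroup.index_dvd_of_le hle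
      have h2 : (P : Subgroup G).relIndex NS ∣ (P : Subgroup G).index :=
        Subgroup.relIndex_dvd_index_of_le Subgroup.le_normalizer
      exact P.not_dvd_index ((h.trans h1).trans h2)
    have hc2 : ∀ s ∈ (P : Subgroup G), s * s = 1 := by
      intro s hs
      obtain ⟨x, hx, y, hy, rfl⟩ := h4.all s hs
      have hxS : x ∈ (P : Subgroup G) := by
        rcases hx with rfl | rfl
        exacts [one_mem _, htP]
      have hyS : y ∈ (P : Subgroup G) := by
        rcases hy with rfl | rfl | rfl | rfl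
        exacts [one_mem _, h4.uS, h4.vS, mul_mem h4.uS h4.vS]
      have hx2 : x * x = 1 := by
        rcases hx with rfl | rfl
        exacts [one_mul 1, htt]
      have hy2 : y * y = 1 := by
        rcases hy with rfl | rfl | rfl | rfl
        · exact one_mul 1
        · exact h4.u2
        · exact h4.v2
        · rw [(show Commute v u from hSab' v h4.vS u h4.uS).mul_mul_mul_comm, h4.u2, h4.v2, one_mul]
      rw [(show Commute y x from hSab' y hyS x hxS).mul_mul_mul_comm, hx2, hy2, one_mul]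
    haveI := hab P
    let c' : (↥NS ⧸ CS) → ↥(P : Subgroup G) := fun q => ⟨c q.out, hcS _⟩
    set s : ↥(P : Subgroup G) := ∏ q, c' q
    -- translation
    have hcout : ∀ q (n : ↥NS), c ((q * QuotientGroup.mk n : ↥NS ⧸ CS).out) = c (q.out * n) := by
      intro q n
      have hz : (q.out * n)⁻¹ * (q * QuotientGroup.mk n : ↥NS ⧸ CS).out ∈ CS := by
        rw [← QuotientGroup.eq, QuotientGroup.mk_mul, QuotientGroup.out_eq', QuotientGroup.out_eq']
      set z := (q.out * n)⁻¹ * (q * QuotientGroup.mk n : ↥NS ⧸ CS).out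
      have e : (q * QuotientGroup.mk n : ↥NS ⧸ CS).out = (q.out * n) * z := (mul_inv_cancel_left _ _).symm
      rw [e, hcmul, hcC z hz, mul_one]
      have hcS' := hcS (q.out * n)
      have hzc : c (q.out * n) * (z : G) = (z : G) * c (q.out * n) := hz _ hcS'
      rw [mul_assoc, hzc, inv_mul_cancel_left]
    have hkey : ∀ n : ↥NS, c n = (s : G) * ((n : G)⁻¹ * (s : G) * n) := by
      intro n
      let κ : ↥(P : Subgroup G) →* ↥(P : Subgroup G) :=
        { toFun := fun x => ⟨(n : G)⁻¹ * x * n, by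
            have := (Subgroup.mem_normalizer_iff.mp (inv_mem n.2) x).mp x.2
            rwa [inv_inv] at this⟩
          map_one' := Subtype.ext (by simp)
          map_mul' := fun a b => Subtype.ext (by simp [mul_assoc]) }
      have hterm : ∀ q, c' (q * QuotientGroup.mk n) = κ (c' q) * ⟨c n, hcS n⟩ := fun q =>
        Subtype.ext (by show c _ = _; rw [hcout, hcmul]; rfl)
      have hprod : s = κ s * ⟨c n, hcS n⟩ ^ Fintype.card (↥NS ⧸ CS) := by
        calc s = ∏ q, c' (q * QuotientGroup.mk n) :=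
              (Equiv.prod_comp (Equiv.mulRight (QuotientGroup.mk n : ↥NS ⧸ CS)) c').symm
          _ = ∏ q, (κ (c' q) * ⟨c n, hcS n⟩) := Finset.prod_congr rfl fun q _ => hterm q
          _ = _ := by rw [Finset.prod_mul_distrib, ← map_prod κ, Finset.prod_const, Finset.card_univ]
      obtain ⟨r, hr⟩ := hodd
      have hsq : (⟨c n, hcS n⟩ : ↥(P : Subgroup G)) * ⟨c n, hcS n⟩ = 1 := Subtype.ext (hc2 _ (hcS n))
      rw [hr, pow_succ, pow_mul, pow_two, hsq, one_pow, one_mul] at hprod
      have hκ : κ s * κ s = 1 := Subtype.ext (hc2 _ (κ s).2)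
      have : (⟨c n, hcS n⟩ : ↥(P : Subgroup G)) = s * κ s := by
        have h := inv_mul_eq_iff_eq_mul.mpr hprod
        rw [← h, inv_eq_of_mul_eq_one_right hκ, mul_comm]
      exact congrArg Subtype.val this
    have hwC : w ∈ C := by
      obtain ⟨x, -, rfl⟩ := hwN
      exact hE.2.1 x.2
    have hst : (s : G) = 1 ∨ (s : G) = t := by
      have h1 := hkey ⟨w, h4.wS⟩
      have h0 : c ⟨w, h4.wS⟩ = 1 := by simp only [c, hψC w hwC, inv_mul_cancel]
      rw [h0] at h1
      have hfs : w * (s : G) * w⁻¹ = s := by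
        have h2 : w⁻¹ * (s : G) * w = s :=
          (eq_inv_of_mul_eq_one_right h1.symm).trans (inv_eq_of_mul_eq_one_right (hc2 _ s.2))
        conv_lhs => rw [← h2]
        group
      obtain ⟨x, hx, y, hy, hs'⟩ := h4.all s s.2
      have hwx : w * x * w⁻¹ = x := by
        rcases hx with rfl | rfl
        · rw [mul_one, mul_inv_cancel]
        · exact h4.wt
      rw [hs', show w * (x * y) * w⁻¹ = (w * x * w⁻¹) * (w * y * w⁻¹) by group, hwx] at hfs
      have hyfix := mul_left_cancel hfs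
      have hy1 : y = 1 := by
        rcases hy with rfl | rfl | rfl | rfl
        · rfl
        · rw [h4.wu] at hyfix
          have hv1 : v = 1 := mul_eq_left.mp hyfix
          have := h4.wv
          rw [hv1, mul_one, mul_inv_cancel] at this
          exact this.symm
        · rw [h4.wv] at hyfix
          have := h4.wu
          rw [hyfix] at this
          rw [h4.v2] at this
          rw [← conj_eq_one_iff (a := w)]; exact this
        · rw [show w * (u * v) * w⁻¹ = (w * u * w⁻¹) * (w * v * w⁻¹) by group, h4.wu, h4.wv] at hyfix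
          have hu1 : u = 1 := mul_eq_left.mp hyfix
          have := h4.wu
          rw [hu1, mul_one, mul_inv_cancel, one_mul] at this
          rw [hu1, one_mul, ← this]
      rw [hs', hy1, mul_one]
      rcases hx with rfl | rfl
      · exact Or.inl rfl
      · exact Or.inr rfl
    obtain ⟨n, hn, hnt⟩ := hmove P htP
    let K : Subgroup G :=
      { carrier := {x | ψ x = (s : G) * x * (s : G)⁻¹}
        one_mem' := by show ψ 1 = _; rw [map_one ψ]; group
        mul_mem' := fun {x y} (hx : ψ x = _) (hy : ψ y = _) => by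
          show ψ (x * y) = _
          rw [map_mul ψ, hx, hy]; group
        inv_mem' := fun {x} (hx : ψ x = _) => by
          show ψ x⁻¹ = _
          rw [map_inv ψ, hx]; group }
    have hKC : C ≤ K := fun x hx => by
      show ψ x = _
      rw [hψC x hx]
      rcases hst with h | h <;> rw [h]
      · group
      · rw [← Subgroup.mem_centralizer_singleton_iff.mp hx, mul_inv_cancel_right]
    have hnK : n ∈ K := by
      show ψ n = _
      have hk1 := hkey ⟨n, hn⟩
      have h3 : ψ n = n * c ⟨n, hn⟩ := by simp [c]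
      rw [h3, hk1]
      have hs2 := hc2 _ s.2
      have hcomm : Commute (s : G) (n⁻¹ * (s : G) * n) := hSab' _ s.2 _ (by
        have := (Subgroup.mem_normalizer_iff.mp (inv_mem hn) (s : G)).mp s.2
        rwa [inv_inv] at this)
      rw [inv_eq_of_mul_eq_one_right hs2]
      show n * ((s : G) * (n⁻¹ * (s : G) * n)) = _
      rw [hcomm.eq]
      group
    have hKtop : K = ⊤ := by
      refine hmax.2 K (lt_of_le_of_ne hKC fun h => ?_)
      rw [← h] at hnK
      exact hnt (mul_inv_eq_iff_eq_mul.mpr (Subgroup.mem_centralizer_singleton_iff.mp hnK))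
    refine ⟨g⁻¹ * (a * s) * g, fun x => ?_⟩
    have h1 : ψ (g * x * g⁻¹) = (s : G) * (g * x * g⁻¹) * (s : G)⁻¹ := (hKtop ▸ Subgroup.mem_top _ : g * x * g⁻¹ ∈ K)
    rw [hψapp, hφapp, show g⁻¹ * (g * x * g⁻¹) * g = x by group] at h1
    calc φ x = g⁻¹ * (a * (a⁻¹ * (g * φ x * g⁻¹) * a) * a⁻¹) * g := by group
      _ = _ := by rw [h1]; group

end Cfsg.Agent.S3206
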