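import Cfsg.Statements.S3208
import Mathlib

set_option autoImplicit false
open Cfsg

namespace Cfsg.Agent.S3208

/-- Let j be an involution of a finite group G, H a subgroup of G, and T a Sylow 2-subgroup of H ∩ C_G(j) containing j such that ⟨j⟩ is a characteristic subgroup of T. Then T is a Sylow 2-subgroup of H. -/
theorem result {G : Type*} [Group G] [Finite G]
    (j : G) (hj : orderOf j = 2) (H T : Subgroup G) (hT : T ≤ H ⊓ Subgroup.centralizer ({j} : Set G)) (h2 : IsPGroup 2 ↥T)
    (hSyl : ¬ 2 ∣ T.relIndex (H ⊓ Subgroup.centralizer ({j} : Set G))) (hjT : j ∈ T)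
    (hchar : ((Subgroup.zpowers j).subgroupOf T).Characteristic) :
    ¬ 2 ∣ T.relIndex H := by
  intro hdiv
  have hTH : T ≤ H := hT.trans inf_le_left
  have hp : IsPGroup 2 ↥(T.subgroupOf H) := h2.comap_of_injective H.subtype Subtype.val_injective
  have hdiv' : 2 ∣ (T.subgroupOf H).index := hdiv
  have hfix : 2 ∣ (T.subgroupOf H).relIndex (Subgroup.normalizer ((T.subgroupOf H : Subgroup H) : Set H)) := by
    obtain ⟨k, hk⟩ := IsPGroup.iff_card.mp hp
    have hd : 2 ^ (k + 1) ∣ Nat.card H := by
      rw [← Subgroup.card_mul_index (T.subgroupOf H), hk, pow_succ]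
      exact mul_dvd_mul_left _ hdiv'
    have := Sylow.prime_dvd_card_quotient_normalizer (p := 2) hd hk
    simpa [Subgroup.relIndex, Subgroup.index] using this
  apply hSyl
  have hle : (Subgroup.normalizer ((T.subgroupOf H : Subgroup H) : Set H)).map H.subtype ≤ H ⊓ Subgroup.centralizer ({j} : Set G) := by
    rintro _ ⟨n, hn, rfl⟩
    refine ⟨n.2, ?_⟩
    refine Subgroup.mem_centralizer_singleton_iff.mpr ?_
    show (n:G) * j = j * (n:G)
    have hmem : ∀ b : G, b ∈ T → (n:G) * b * (n:G)⁻¹ ∈ T := by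
      intro b hb
      exact (Subgroup.mem_normalizer_iff.mp hn ⟨b, hTH hb⟩).mp hb
    have hmap : T.map (MulAut.conj (n:G)).toMonoidHom = T := by
      apply Subgroup.eq_of_le_of_card_ge
      · rintro _ ⟨b, hb, rfl⟩; exact hmem b hb
      · rw [Subgroup.card_map_of_injective (MulAut.conj (n:G)).injective]
    let φ : T ≃* T := (T.equivMapOfInjective _ (MulAut.conj (n:G)).injective).trans (MulEquiv.subgroupCongr hmap)
    have hfixed : φ ⟨j, hjT⟩ ∈ (Subgroup.zpowers j).subgroupOf T := by
      have : (⟨j, hjT⟩ : T) ∈ ((Subgroup.zpowers j).subgroupOf T).comap φ.toMonoidHom := by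
        rw [hchar.fixed φ]; exact Subgroup.mem_zpowers j
      exact this
    have hz : (n:G) * j * (n:G)⁻¹ ∈ Subgroup.zpowers j := hfixed
    rw [Subgroup.mem_zpowers_iff] at hz
    obtain ⟨k, hk⟩ := hz
    rw [← zpow_mod_orderOf, hj] at hk
    rcases Int.emod_two_eq_zero_or_one k with h0 | h0
    · rw [show ((2:ℕ):ℤ) = 2 from rfl, h0, zpow_zero] at hk
      have : j = 1 := by
        have := congrArg (fun x => (n:G)⁻¹ * x * (n:G)) hk.symm
        simpa [mul_assoc] using this
      rw [this, orderOf_one] at hj; norm_num at hj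
    · rw [show ((2:ℕ):ℤ) = 2 from rfl, h0, zpow_one] at hk
      conv_rhs => rw [hk]
      simp
  have e1 : ((T.subgroupOf H).map H.subtype) = T := Subgroup.map_subgroupOf_eq_of_le hTH
  have hN := Subgroup.relIndex_map_map_of_injective (f := H.subtype) (T.subgroupOf H)
    (Subgroup.normalizer ((T.subgroupOf H : Subgroup H) : Set H)) Subtype.val_injective
  rw [e1] at hN
  rw [← hN] at hfix
  refine hfix.trans (dvd_of_mul_right_eq _ (Subgroup.relIndex_mul_relIndex T _ _ ?_ hle))
  exact (le_of_eq e1.symm).trans (Subgroup.map_mono Subgroup.le_normalizer)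

end Cfsg.Agent.S3208
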