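import Cfsg.Statements.S3211
import Cfsg.Agent.Lib.InvChar.TwoSL2
import Cfsg.Agent.Lib.InvChar.SL2Pair
import Cfsg.Agent.Lib.InvChar.BrauerSuzuki

set_option autoImplicit false
open Cfsg

namespace Cfsg.Agent.S3211

open Matrix Cfsg.Agent
open scoped Classical

section SL

variable {F : Type*} [Field F] [Fintype F]

local notation "SLF" => SpecialLinearGroup (Fin 2) F

theorem negOne_ne_one (hF : Odd (Fintype.card F)) : (-1 : SLF) ≠ 1 := by
  intro h
  have h' : (-(1 : Matrix (Fin 2) (Fin 2) F)) = 1 := congrArg Subtype.val h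
  have e := congrFun (congrFun h' 0) 0
  simp at e
  exact InvChar.sl2_two_ne_zero hF (by linear_combination -e)

theorem negOne_mul_self : (-1 : SLF) * -1 = 1 := by
  apply Subtype.ext
  show (-(1 : Matrix (Fin 2) (Fin 2) F)) * -1 = 1
  simp

theorem negOne_comm (x : SLF) : (-1 : SLF) * x = x * -1 := by
  apply Subtype.ext
  show (-(1 : Matrix (Fin 2) (Fin 2) F)) * x.1 = x.1 * -1
  simp

/-- A homomorphism from `SLF(2, q)`, `q` odd, to a group of exponent two is trivial. -/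
theorem hom_trivial (hF : Odd (Fintype.card F)) {A : Type*} [Group A] (hA : ∀ a : A, a * a = 1)
    (ψ : SLF →* A) (g : SLF) : ψ g = 1 := by
  have h2 := InvChar.sl2_two_ne_zero hF
  have hU : ∀ t : F, ψ (InvChar.sl2U t) = 1 := by
    intro t
    have : (InvChar.sl2U t : SLF) = InvChar.sl2U (t / 2) * InvChar.sl2U (t / 2) := by
      apply Subtype.ext
      show !![(1 : F), t; 0, 1] = !![1, t / 2; 0, 1] * !![1, t / 2; 0, 1]
      ext i j
      fin_cases i <;> fin_cases j <;> simp [Matrix.mul_apply, Fin.sum_univ_two] <;> field_simp <;> ring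
    rw [this, map_mul ψ, hA]
  have hV : ∀ t : F, ψ (InvChar.sl2V t) = 1 := by
    intro t
    have : (InvChar.sl2V t : SLF) = InvChar.sl2V (t / 2) * InvChar.sl2V (t / 2) := by
      apply Subtype.ext
      show !![(1 : F), 0; t, 1] = !![1, 0; t / 2, 1] * !![1, 0; t / 2, 1]
      ext i j
      fin_cases i <;> fin_cases j <;> simp [Matrix.mul_apply, Fin.sum_univ_two] <;> field_simp <;> ring
    rw [this, map_mul ψ, hA]
  have key : ∀ g : SLF, g.1 1 0 ≠ 0 → ψ g = 1 := by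
    intro g hc
    have hd := g.2
    rw [det_fin_two] at hd
    have : g = InvChar.sl2U ((g.1 0 0 - 1) / g.1 1 0) * InvChar.sl2V (g.1 1 0) *
        InvChar.sl2U ((g.1 1 1 - 1) / g.1 1 0) := by
      apply Subtype.ext
      show g.1 = !![(1 : F), (g.1 0 0 - 1) / g.1 1 0; 0, 1] * !![1, 0; g.1 1 0, 1] *
        !![(1 : F), (g.1 1 1 - 1) / g.1 1 0; 0, 1]
      ext i j
      fin_cases i <;> fin_cases j <;> simp [Matrix.mul_apply, Fin.sum_univ_two] <;> field_simp
      · ring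
      · linear_combination -hd
      · ring
    rw [this, map_mul ψ, map_mul ψ, hU, hV, hU, one_mul, one_mul]
  by_cases hc : g.1 1 0 = 0
  · have hd := g.2
    rw [det_fin_two, hc, mul_zero, sub_zero] at hd
    have h1 : (g * InvChar.sl2V 1).1 1 0 ≠ 0 := by
      show (g.1 * !![(1 : F), 0; 1, 1]) 1 0 ≠ 0
      simp [Matrix.mul_apply, Fin.sum_univ_two, hc]
      intro h
      rw [h, mul_zero] at hd
      exact zero_ne_one hd
    have := key _ h1
    rwa [map_mul ψ, hV, mul_one] at this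
  · exact key g hc

theorem exists_anti_J (hF : Odd (Fintype.card F)) :
    ∃ c : SLF, c * c = -1 ∧ c * InvChar.sl2J * c⁻¹ = -1 * InvChar.sl2J := by
  obtain ⟨a, b, hab⟩ : ∃ a b : F, a * a + b * b = -1 := by
    obtain ⟨u, v, huv⟩ := FiniteField.exists_root_sum_quadratic
      (f := (Polynomial.X : Polynomial F) ^ 2) (g := Polynomial.X ^ 2 - Polynomial.C (-1))
      (Polynomial.degree_X_pow 2) (Polynomial.degree_X_pow_sub_C (by norm_num) _)
      (Nat.odd_iff.mp hF)
    simp only [Polynomial.eval_pow, Polynomial.eval_X, Polynomial.eval_sub, Polynomial.eval_C] at huv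
    exact ⟨u, v, by linear_combination huv⟩
  let c : SLF := ⟨!![a, b; b, -a], by rw [det_fin_two_of]; linear_combination -hab⟩
  refine ⟨c, ?_, ?_⟩
  · apply Subtype.ext
    show !![a, b; b, -a] * !![a, b; b, -a] = -(1 : Matrix (Fin 2) (Fin 2) F)
    ext i j
    fin_cases i <;> fin_cases j <;> simp [Matrix.mul_apply, Fin.sum_univ_two] <;>
      first | linear_combination hab | ring
  · rw [mul_inv_eq_iff_eq_mul]
    apply Subtype.ext
    show !![a, b; b, -a] * !![(0 : F), -1; 1, 0] =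
      -(1 : Matrix (Fin 2) (Fin 2) F) * !![(0 : F), -1; 1, 0] * !![a, b; b, -a]
    ext i j
    fin_cases i <;> fin_cases j <;> simp [Matrix.mul_apply, Fin.sum_univ_two]

theorem anti_sq (hF : Odd (Fintype.card F)) {s : SLF}
    (h : s * InvChar.sl2J * s⁻¹ = -1 * InvChar.sl2J) : s * s = -1 := by
  rw [mul_inv_eq_iff_eq_mul] at h
  have h' : s.1 * !![(0 : F), -1; 1, 0] =
      -(1 : Matrix (Fin 2) (Fin 2) F) * !![(0 : F), -1; 1, 0] * s.1 := congrArg Subtype.val h
  have e00 := congrFun (congrFun h' 0) 0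
  have e01 := congrFun (congrFun h' 0) 1
  simp [Matrix.mul_apply, Matrix.vecMul, dotProduct, Fin.sum_univ_two] at e00 e01
  have hd := s.2
  rw [det_fin_two] at hd
  apply Subtype.ext
  show s.1 * s.1 = -(1 : Matrix (Fin 2) (Fin 2) F)
  ext i j
  fin_cases i <;> fin_cases j <;> simp [Matrix.mul_apply, Fin.sum_univ_two]
  · linear_combination -hd - s.1 0 0 * e01
  · linear_combination -s.1 0 1 * e01
  · linear_combination -s.1 1 0 * e01
  · linear_combination -hd - s.1 1 1 * e01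

theorem exists_anti (hF : Odd (Fintype.card F)) {t : SLF} (ht : t * t = -1) :
    ∃ c : SLF, c * c = -1 ∧ c * t * c⁻¹ = -1 * t := by
  obtain ⟨g, hg⟩ := InvChar.exists_conj_sl2J hF t ht
  have ht' : t = g * InvChar.sl2J * g⁻¹ := eq_mul_inv_iff_mul_eq.mpr hg.symm
  obtain ⟨c, hc, hcJ⟩ := exists_anti_J hF
  refine ⟨g * c * g⁻¹, ?_, ?_⟩
  · rw [show (g * c * g⁻¹) * (g * c * g⁻¹) = g * (c * c) * g⁻¹ by group, hc, ← negOne_comm]
    group
  · rw [ht', show (g * c * g⁻¹) * (g * InvChar.sl2J * g⁻¹) * (g * c * g⁻¹)⁻¹ =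
      g * (c * InvChar.sl2J * c⁻¹) * g⁻¹ by group, hcJ, ← mul_assoc g, ← negOne_comm g]
    group

/-- The exponent of the 2-elements commuting with `J`. -/
theorem exists_two_exponent (hF : Odd (Fintype.card F)) :
    ∃ (a : ℕ) (s₀ : SLF), 1 ≤ a ∧ Commute s₀ InvChar.sl2J ∧ s₀ ^ 2 ^ a = -1 ∧
      ∀ s : SLF, Commute s InvChar.sl2J → (∃ k, s ^ 2 ^ k = 1) → s ^ 2 ^ a = 1 ∨ s ^ 2 ^ a = -1 := by
  let T := Finset.univ.filter fun s : SLF => Commute s InvChar.sl2J ∧ ∃ k, s ^ 2 ^ k = 1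
  have hJ : (InvChar.sl2J : SLF) ∈ T := by
    refine Finset.mem_filter.mpr ⟨Finset.mem_univ _, Commute.refl _, 2, ?_⟩
    rw [show (2 : ℕ) ^ 2 = 2 * 2 by norm_num, pow_mul, pow_two InvChar.sl2J, InvChar.sl2J_sq, pow_two,
      negOne_mul_self]
  obtain ⟨s₀, hs₀, hmax⟩ := Finset.exists_max_image T orderOf ⟨_, hJ⟩
  have hord : ∀ s ∈ T, ∃ m, orderOf s = 2 ^ m := fun s hs => by
    obtain ⟨k, hk⟩ := (Finset.mem_filter.mp hs).2.2
    obtain ⟨m, -, hm⟩ := (Nat.dvd_prime_pow Nat.prime_two).mp (orderOf_dvd_of_pow_eq_one hk)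
    exact ⟨m, hm⟩
  obtain ⟨m, hm⟩ := hord s₀ hs₀
  have hJ4 : 2 ^ 2 ≤ 2 ^ m := by
    rw [← hm]
    refine le_trans (le_of_eq ?_) (hmax _ hJ)
    haveI : Fact (Nat.Prime 2) := ⟨Nat.prime_two⟩
    refine (orderOf_eq_prime_pow ?_ ?_).symm
    · rw [pow_one, pow_two, InvChar.sl2J_sq]; exact negOne_ne_one hF
    · rw [show (2 : ℕ) ^ (1 + 1) = 2 * 2 by norm_num, pow_mul, pow_two InvChar.sl2J, InvChar.sl2J_sq, pow_two,
        negOne_mul_self]
  have hm2 : 2 ≤ m := (Nat.pow_le_pow_iff_right (by norm_num)).mp hJ4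
  refine ⟨m - 1, s₀, by omega, (Finset.mem_filter.mp hs₀).2.1, ?_, fun s hc hk => ?_⟩
  · have hne : s₀ ^ 2 ^ (m - 1) ≠ 1 := fun h => by
      have h1 := orderOf_dvd_of_pow_eq_one h
      rw [hm] at h1
      have := (Nat.pow_dvd_pow_iff_le_right (by norm_num : 1 < 2)).mp h1
      omega
    refine (InvChar.sl2_sq_one hF _ ?_).resolve_left hne
    rw [← pow_add, ← two_mul, ← pow_succ', show m - 1 + 1 = m by omega, ← hm, pow_orderOf_eq_one]
  · have hsT : s ∈ T := Finset.mem_filter.mpr ⟨Finset.mem_univ _, hc, hk⟩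
    obtain ⟨m', hm'⟩ := hord s hsT
    refine InvChar.sl2_sq_one hF _ ?_
    rw [← pow_add, ← two_mul, ← pow_succ', show m - 1 + 1 = m by omega]
    refine orderOf_dvd_iff_pow_eq_one.mp ?_
    rw [hm']
    refine Nat.pow_dvd_pow 2 ?_
    have := hmax s hsT
    rw [hm, hm'] at this
    exact (Nat.pow_le_pow_iff_right (by norm_num)).mp this

end SL

theorem zmod2_mul_self : ∀ a : Multiplicative (ZMod 2), a * a = 1 := by decide

/-- The involution `j` is isolated. -/
theorem isolated_core {G : Type*} [Group G] [Finite G] {F : Type*} [Field F] [Fintype F]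
    (hF : Odd (Fintype.card F)) (ι : SpecialLinearGroup (Fin 2) F →* G) (j n : G)
    (hj : orderOf j = 2) (hιj : ι (-1) = j) (hn2 : n * n = j)
    (hcomm : ∀ a b, Commute (ι a) (n * ι b * n⁻¹))
    (hcj : ∀ a, Commute (ι a) j)
    (hker : ∀ a b, ι a * (n * ι b * n⁻¹) = 1 → (a = 1 ∧ b = 1) ∨ (a = -1 ∧ b = -1))
    (hcover : ∀ x, Commute x j →
      ∃ a b, x = ι a * (n * ι b * n⁻¹) ∨ x = n * (ι a * (n * ι b * n⁻¹)))
    (hn : ∀ a b, n ≠ ι a * (n * ι b * n⁻¹)) : IsIsolatedInvolution j := by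
  have hjj := Invol.mul_self_of_orderOf_two hj
  have hj1 := Invol.ne_one_of_orderOf_two hj
  have hjn : Commute j n := by rw [← hn2]; exact (Commute.refl n).mul_left (Commute.refl n)
  have hm1 := negOne_ne_one hF
  let cn : G →* G := (MulAut.conj n).toMonoidHom
  let Φ : SpecialLinearGroup (Fin 2) F × SpecialLinearGroup (Fin 2) F →* G :=
    MonoidHom.noncommCoprod ι (cn.comp ι) hcomm
  have hΦ : ∀ a b, Φ (a, b) = ι a * (n * ι b * n⁻¹) := fun a b => rfl
  have hΦn1 : Φ (-1, 1) = j := by rw [hΦ, hιj, map_one ι]; group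
  have hΦ1n : Φ (1, -1) = j := by
    rw [hΦ, hιj, map_one ι, one_mul, ← hjn.eq, mul_inv_cancel_right]
  have hΦnn : Φ (-1, -1) = 1 := by
    rw [show ((-1, -1) : SpecialLinearGroup (Fin 2) F × SpecialLinearGroup (Fin 2) F) = (-1, 1) * (1, -1) by
      simp, map_mul Φ, hΦn1, hΦ1n, hjj]
  have hΦker : ∀ a b, Φ (a, b) = 1 → (a = 1 ∧ b = 1) ∨ (a = -1 ∧ b = -1) := hker
  have hswapΦ : ∀ a b, n * Φ (a, b) * n⁻¹ = Φ (b, a) := by
    intro a b
    rw [hΦ, hΦ]
    have hb : n * n * ι b * (n * n)⁻¹ = ι b := by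
      rw [hn2, ← (hcj b).eq, mul_inv_cancel_right]
    calc n * (ι a * (n * ι b * n⁻¹)) * n⁻¹ = (n * ι a * n⁻¹) * (n * n * ι b * (n * n)⁻¹) := by group
      _ = ι b * (n * ι a * n⁻¹) := by rw [hb]; exact (hcomm b a).symm.eq
  have hcentral : ∀ a b, Commute (Φ (a, b)) j := by
    intro a b
    rw [← hΦn1]
    exact (show Commute ((a, b) : SpecialLinearGroup (Fin 2) F × SpecialLinearGroup (Fin 2) F) (-1, 1) from
      Prod.ext (negOne_comm a).symm (by simp)).map Φ
  set C := Subgroup.centralizer ({j} : Set G) with hCdef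
  have hmemC : ∀ x, x ∈ C ↔ Commute x j := fun x => Subgroup.mem_centralizer_singleton_iff
  have hcov : ∀ x, Commute x j → x ∈ Φ.range ∨ n * x ∈ Φ.range := by
    intro x hx
    obtain ⟨a, b, h | h⟩ := hcover x hx
    · exact Or.inl ⟨(a, b), h.symm⟩
    · right
      refine ⟨(-1, 1) * (a, b), ?_⟩
      rw [map_mul Φ, hΦn1, h, hΦ, ← mul_assoc n n, hn2]
  have hnR : n ∉ Φ.range := fun ⟨⟨a, b⟩, h⟩ => hn a b h.symm
  -- the homomorphism on the centraliser
  let χ : ↥C →* Multiplicative (ZMod 2) :=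
    { toFun := fun x => if (x : G) ∈ Φ.range then 1 else Multiplicative.ofAdd 1
      map_one' := by simp [one_mem]
      map_mul' := by
        intro x y
        have hmul : ∀ u ∈ C, ∀ w ∈ C, u ∉ Φ.range → w ∉ Φ.range → u * w ∈ Φ.range := by
          intro u hu w hw hu' hw'
          have h1 := ((hcov u ((hmemC u).mp hu)).resolve_left hu')
          have h2 := ((hcov w ((hmemC w).mp hw)).resolve_left hw')
          obtain ⟨⟨a, b⟩, hab⟩ := h1
          -- `n * u` and `n * w` are in the range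
          have h3 : u * n ∈ Φ.range := by
            refine ⟨(b, a), ?_⟩
            rw [← hswapΦ, hab, ← mul_assoc n n, hn2]
            obtain hju := ((hmemC u).mp hu).symm
            rw [hju.eq, mul_assoc u j, ← hn2]
            group
          have h4 : n⁻¹ * n⁻¹ ∈ Φ.range := ⟨(-1, 1), by
            rw [hΦn1, ← _root_.mul_inv_rev, hn2, inv_eq_of_mul_eq_one_right hjj]⟩
          have := mul_mem (mul_mem h3 h4) h2
          rwa [show u * n * (n⁻¹ * n⁻¹) * (n * w) = u * w by group] at this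
        rw [Subgroup.coe_mul]
        by_cases hx : (x : G) ∈ Φ.range <;> by_cases hy : (y : G) ∈ Φ.range
        · rw [if_pos (mul_mem hx hy), if_pos hx, if_pos hy, one_mul]
        · rw [if_neg (fun h => hy ((Subgroup.mul_mem_cancel_left _ hx).mp h)), if_pos hx, if_neg hy,
            one_mul]
        · rw [if_neg (fun h => hx ((Subgroup.mul_mem_cancel_right _ hy).mp h)), if_neg hx, if_pos hy,
            mul_one]
        · rw [if_pos (hmul _ x.2 _ y.2 hx hy), if_neg hx, if_neg hy]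
          decide }
  have hχ1 : ∀ x : ↥C, (x : G) ∈ Φ.range → χ x = 1 := fun x hx => if_pos hx
  -- involutions commuting with `j`
  have hinv : ∀ x, Commute x j → x * x = 1 → x ∈ Φ.range := by
    intro x hx hx2
    rcases hcov x hx with h | ⟨⟨a, b⟩, hab⟩
    · exact h
    exfalso
    have hx' : x = n⁻¹ * Φ (a, b) := by rw [hab]; group
    have h1 : Φ ((b, a) * (a, b)) = j := by
      rw [map_mul Φ, ← hswapΦ a b, hab, ← mul_assoc n n, hn2]
      calc j * x * n⁻¹ * (n * x) = j * (x * x) := by group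
        _ = j := by rw [hx2, mul_one]
    have h2 : Φ ((b, a) * (a, b) * (-1, 1)) = 1 := by rw [map_mul Φ, h1, hΦn1, hjj]
    rw [Prod.mk_mul_mk, Prod.mk_mul_mk, mul_one] at h2
    have hcj : ∀ u v : SpecialLinearGroup (Fin 2) F, u * v = 1 → v * u = 1 := fun u v h =>
      mul_eq_one_comm.mp h
    rcases hΦker _ _ h2 with ⟨e1, e2⟩ | ⟨e1, e2⟩
    · rw [hcj _ _ e2, one_mul] at e1
      exact hm1 e1
    · have hba : b * a = 1 := by
        have := congrArg (fun u => u * (-1 : SpecialLinearGroup (Fin 2) F)) e1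
        simpa only [mul_assoc, negOne_mul_self, mul_one] using this
      rw [hcj _ _ hba] at e2
      exact hm1 e2.symm
  have hu : ∀ y, Commute y j → y * y = 1 → y ≠ 1 → y ≠ j →
      ∃ s t, s * s = -1 ∧ t * t = -1 ∧ y = Φ (s, t) := by
    intro y hy hy2 hy1 hyj
    obtain ⟨⟨s, t⟩, hst⟩ := hinv y hy hy2
    have h2 : Φ (s * s, t * t) = 1 := by rw [← Prod.mk_mul_mk, map_mul Φ, hst, hy2]
    rcases hΦker _ _ h2 with ⟨e1, e2⟩ | ⟨e1, e2⟩
    · exfalso
      rcases InvChar.sl2_sq_one hF s e1 with rfl | rfl <;>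
        rcases InvChar.sl2_sq_one hF t e2 with rfl | rfl
      · exact hy1 (hst.symm.trans (map_one Φ))
      · exact hyj (hst.symm.trans hΦ1n)
      · exact hyj (hst.symm.trans hΦn1)
      · exact hy1 (hst.symm.trans hΦnn)
    · exact ⟨s, t, e1, e2, hst.symm⟩
  -- transfer
  let ψ : G →* Multiplicative (ZMod 2) := MonoidHom.transfer χ
  have hψn : ψ n ≠ 1 := by
    haveI := Fintype.ofFinite (Quotient (MulAction.orbitRel (Subgroup.zpowers n) (G ⧸ C)))
    rw [show ψ n = _ from MonoidHom.transfer_eq_prod_quotient_orbitRel_zpowers_quot χ n]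
    let key : Quotient (MulAction.orbitRel (Subgroup.zpowers n) (G ⧸ C)) → G :=
      fun q => q.out.out * j * (q.out.out)⁻¹
    let per : Quotient (MulAction.orbitRel (Subgroup.zpowers n) (G ⧸ C)) → ℕ :=
      fun q => Function.minimalPeriod (n • ·) q.out
    let f : Quotient (MulAction.orbitRel (Subgroup.zpowers n) (G ⧸ C)) → Multiplicative (ZMod 2) :=
      fun q => χ ⟨q.out.out⁻¹ * n ^ per q * q.out.out,
        QuotientGroup.out_conj_pow_minimalPeriod_mem C n q.out⟩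
    show ∏ q, f q ≠ 1
    have hkey : Function.Injective key := by
      intro q q' h
      have hout : q.out = q'.out := by
        rw [← QuotientGroup.out_eq' q.out, ← QuotientGroup.out_eq' q'.out, QuotientGroup.eq, hmemC]
        have h' : q.out.out * j * (q.out.out)⁻¹ = q'.out.out * j * (q'.out.out)⁻¹ := h
        show _ * j = j * _
        calc (q.out.out)⁻¹ * q'.out.out * j
            = (q.out.out)⁻¹ * (q'.out.out * j * (q'.out.out)⁻¹) * q'.out.out := by group
          _ = j * ((q.out.out)⁻¹ * q'.out.out) := by rw [← h']; group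
      rw [← Quotient.out_eq q, ← Quotient.out_eq q', hout]
    -- the orbit of a fixed coset
    have hfixed : ∀ x : G, x⁻¹ * n * x ∈ C → ∃ q, key q = x * j * x⁻¹ ∧ per q = 1 ∧
        ∀ hx : x⁻¹ * n * x ∈ C, f q = χ ⟨x⁻¹ * n * x, hx⟩ := by
      intro x hx
      set q : Quotient (MulAction.orbitRel (Subgroup.zpowers n) (G ⧸ C)) :=
        Quotient.mk _ (x : G ⧸ C) with hq
      have hfx : n • (x : G ⧸ C) = (x : G ⧸ C) := by
        rw [MulAction.Quotient.smul_coe, smul_eq_mul, QuotientGroup.eq]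
        rw [show (n * x)⁻¹ * x = (x⁻¹ * n * x)⁻¹ by group]
        exact inv_mem hx
      have hout : q.out = (x : G ⧸ C) := by
        obtain ⟨⟨g, hg⟩, hg'⟩ := MulAction.orbitRel_apply.mp (Quotient.mk_out (x : G ⧸ C) :
          (MulAction.orbitRel (Subgroup.zpowers n) (G ⧸ C)) q.out (x : G ⧸ C))
        rw [← hg']
        show g • (x : G ⧸ C) = _
        exact MulAction.mem_stabilizer_iff.mp
          ((Subgroup.zpowers_le.mpr (MulAction.mem_stabilizer_iff.mpr hfx)) hg)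
      obtain ⟨⟨c, hc⟩, hc'⟩ := QuotientGroup.mk_out_eq_mul C x
      have hoo : q.out.out = x * c := by rw [hout]; exact hc'
      have hper : per q = 1 := by
        show Function.minimalPeriod (n • ·) q.out = 1
        rw [hout, Function.minimalPeriod_eq_one_iff_isFixedPt]
        exact hfx
      refine ⟨q, ?_, hper, fun hx' => ?_⟩
      · show q.out.out * j * (q.out.out)⁻¹ = _
        rw [hoo, show x * c * j * (x * c)⁻¹ = x * (c * j) * c⁻¹ * x⁻¹ by group,
          ((hmemC c).mp hc).eq]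
        group
      · show χ _ = _
        have e : (⟨q.out.out⁻¹ * n ^ per q * q.out.out,
            QuotientGroup.out_conj_pow_minimalPeriod_mem C n q.out⟩ : ↥C) =
            ⟨c, hc⟩⁻¹ * ⟨x⁻¹ * n * x, hx'⟩ * ⟨c, hc⟩ := by
          apply Subtype.ext
          show q.out.out⁻¹ * n ^ per q * q.out.out = c⁻¹ * (x⁻¹ * n * x) * c
          rw [hper, hoo]; group
        rw [e, map_mul χ, map_mul χ, map_inv χ, mul_comm, mul_inv_cancel_left]
    obtain ⟨q₀, hk0, hp0, hf0⟩ := hfixed 1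
      (by rw [inv_one, one_mul, mul_one, hmemC]; exact hjn.symm)
    rw [one_mul, inv_one, mul_one] at hk0
    have hf0' : f q₀ ≠ 1 := by
      rw [hf0 (by rw [inv_one, one_mul, mul_one, hmemC]; exact hjn.symm)]
      show (if (1 : G)⁻¹ * n * 1 ∈ Φ.range then (1 : Multiplicative (ZMod 2)) else Multiplicative.ofAdd 1) ≠ 1
      rw [if_neg (by rwa [inv_one, one_mul, mul_one])]
      decide
    have hper1 : ∀ q, per q ≠ 1 → f q = 1 := by
      intro q hq
      refine hχ1 _ (hinv _ ((hmemC _).mp (QuotientGroup.out_conj_pow_minimalPeriod_mem C n q.out)) ?_)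
      have hd : per q ∣ 4 := by
        refine (Function.IsPeriodicPt.minimalPeriod_dvd (n := 4) ?_)
        show (fun x : G ⧸ C => n • x)^[4] q.out = q.out
        rw [smul_iterate_apply, show n ^ 4 = (n * n) * (n * n) by rw [pow_succ, pow_three']; group,
          hn2, hjj, one_smul]
      obtain ⟨i, hi⟩ : 2 ∣ per q := by
        have h4 : (4 : ℕ) = 2 ^ 2 := by norm_num
        rw [h4] at hd
        obtain ⟨k, -, hk⟩ := (Nat.dvd_prime_pow Nat.prime_two).mp hd
        rcases k with _ | k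
        · exact absurd hk hq
        · exact ⟨2 ^ k, by rw [hk]; ring⟩
      show (q.out.out)⁻¹ * n ^ per q * q.out.out * ((q.out.out)⁻¹ * n ^ per q * q.out.out) = 1
      rw [show (q.out.out)⁻¹ * n ^ per q * q.out.out * ((q.out.out)⁻¹ * n ^ per q * q.out.out) =
        (q.out.out)⁻¹ * (n ^ per q * n ^ per q) * q.out.out by group, hi, pow_mul, pow_two, hn2,
        ← pow_add, ← two_mul, pow_mul, pow_two, hjj, one_pow, mul_one, inv_mul_cancel]
    have hpair : ∀ q, per q = 1 → q ≠ q₀ → ∃ q', key q' = j * key q ∧ per q' = 1 ∧ f q' = f q := by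
      intro q hq hq0
      set x := q.out.out with hxdef
      have hxC : x⁻¹ * n * x ∈ C := by
        have := QuotientGroup.out_conj_pow_minimalPeriod_mem C n q.out
        rwa [show Function.minimalPeriod (n • ·) q.out = 1 from hq, pow_one] at this
      set y := x * j * x⁻¹ with hy
      have hyn : Commute n y := by
        show n * y = y * n
        calc n * y = x * ((x⁻¹ * n * x) * j) * x⁻¹ := by rw [hy]; group
          _ = y * n := by rw [((hmemC _).mp hxC).eq, hy]; group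
      have hyj : Commute y j := by rw [← hn2]; exact hyn.symm.mul_right hyn.symm
      have hy2 : y * y = 1 := by
        rw [hy, show x * j * x⁻¹ * (x * j * x⁻¹) = x * (j * j) * x⁻¹ by group, hjj, mul_one,
          mul_inv_cancel]
      have hy1 : y ≠ 1 := by rw [hy, Ne, conj_eq_one_iff]; exact hj1
      have hyne : y ≠ j := fun h => hq0 (hkey (h.trans hk0.symm))
      obtain ⟨s, t, hs, ht, hst⟩ := hu y hyj hy2 hy1 hyne
      obtain ⟨c, hc, hct⟩ := exists_anti hF ht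
      set h := Φ (1, c) with hh
      have hhy : h * y * h⁻¹ = j * y := by
        rw [hh, hst, ← map_mul Φ, ← map_inv Φ, ← map_mul Φ, ← hΦ1n, ← map_mul Φ]
        congr 1
        exact Prod.ext (by simp) hct
      set d := Φ (c⁻¹, c) with hd
      have hnd : h⁻¹ * n * h = n * d := by
        have e : n * Φ (c⁻¹, 1) = h⁻¹ * n := by
          rw [hh, ← map_inv Φ, Prod.inv_mk, inv_one, ← hswapΦ c⁻¹ 1]
          group
        rw [← e, mul_assoc, hh, ← map_mul Φ, Prod.mk_mul_mk, mul_one, one_mul]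
      have hd2 : d * d = 1 := by
        rw [hd, ← map_mul Φ, Prod.mk_mul_mk, ← _root_.mul_inv_rev, hc,
          inv_eq_of_mul_eq_one_right negOne_mul_self, hΦnn]
      have hndy : Commute (n * d) y := by
        rw [← hnd]
        show h⁻¹ * n * h * y = y * (h⁻¹ * n * h)
        have hnjy : Commute n (j * y) := hjn.symm.mul_right hyn
        calc h⁻¹ * n * h * y = h⁻¹ * (n * (h * y * h⁻¹)) * h := by group
          _ = h⁻¹ * ((h * y * h⁻¹) * n) * h := by rw [hhy, hnjy.eq]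
          _ = y * (h⁻¹ * n * h) := by group
      have hdy : Commute d y := by
        have := hyn.inv_left.mul_left hndy
        rwa [inv_mul_cancel_left] at this
      have hxd : x⁻¹ * d * x ∈ C := by
        rw [hmemC]
        show x⁻¹ * d * x * j = j * (x⁻¹ * d * x)
        calc x⁻¹ * d * x * j = x⁻¹ * (d * y) * x := by rw [hy]; group
          _ = j * (x⁻¹ * d * x) := by rw [hdy.eq, hy]; group
      have hx'C : (h * x)⁻¹ * n * (h * x) ∈ C := by
        rw [show (h * x)⁻¹ * n * (h * x) = x⁻¹ * (h⁻¹ * n * h) * x by group, hnd,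
          show x⁻¹ * (n * d) * x = (x⁻¹ * n * x) * (x⁻¹ * d * x) by group]
        exact mul_mem hxC hxd
      obtain ⟨q', hk', hp', hf'⟩ := hfixed (h * x) hx'C
      refine ⟨q', ?_, hp', ?_⟩
      · rw [hk', show h * x * j * (h * x)⁻¹ = h * y * h⁻¹ by rw [hy]; group, hhy]
      · rw [hf' hx'C]
        have e : (⟨(h * x)⁻¹ * n * (h * x), hx'C⟩ : ↥C) =
            ⟨x⁻¹ * n * x, hxC⟩ * ⟨x⁻¹ * d * x, hxd⟩ := by
          apply Subtype.ext
          show (h * x)⁻¹ * n * (h * x) = (x⁻¹ * n * x) * (x⁻¹ * d * x)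
          rw [show (h * x)⁻¹ * n * (h * x) = x⁻¹ * (h⁻¹ * n * h) * x by group, hnd]
          group
        rw [e, map_mul χ, hχ1 ⟨x⁻¹ * d * x, hxd⟩ (hinv _ ((hmemC _).mp hxd) (by
          rw [show x⁻¹ * d * x * (x⁻¹ * d * x) = x⁻¹ * (d * d) * x by group, hd2, mul_one,
            inv_mul_cancel])), mul_one]
        show χ _ = χ _
        congr 1
        apply Subtype.ext
        show x⁻¹ * n * x = x⁻¹ * n ^ per q * x
        rw [hq, pow_one]
    rw [← Finset.mul_prod_erase Finset.univ f (Finset.mem_univ q₀)]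
    suffices hrest : ∏ q ∈ Finset.univ.erase q₀, f q = 1 by rwa [hrest, mul_one]
    rw [← Finset.prod_filter_of_ne (p := fun q => per q = 1)
      (fun q _ h => by_contra fun hne => h (hper1 q hne))]
    have hmem : ∀ q ∈ (Finset.univ.erase q₀).filter (fun q => per q = 1), q ≠ q₀ ∧ per q = 1 :=
      fun q hq => ⟨(Finset.mem_erase.mp (Finset.mem_filter.mp hq).1).1, (Finset.mem_filter.mp hq).2⟩
    refine Finset.prod_involution (fun q hq => (hpair q (hmem q hq).2 (hmem q hq).1).choose) ?_ ?_ ?_ ?_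
    · intro q hq
      rw [(hpair q (hmem q hq).2 (hmem q hq).1).choose_spec.2.2]
      exact zmod2_mul_self _
    · intro q hq _ heq
      have := (hpair q (hmem q hq).2 (hmem q hq).1).choose_spec.1
      rw [heq] at this
      exact hj1 (right_eq_mul.mp this)
    · intro q hq
      set p := hpair q (hmem q hq).2 (hmem q hq).1
      refine Finset.mem_filter.mpr ⟨Finset.mem_erase.mpr ⟨fun h => ?_, Finset.mem_univ _⟩, p.choose_spec.2.1⟩
      have h3 := p.choose_spec.1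
      rw [h, hk0] at h3
      have h4 : key q = 1 := left_eq_mul.mp h3
      exact hj1 (conj_eq_one_iff.mp h4)
    · intro q hq
      apply hkey
      have hs : ∀ (q : Quotient (MulAction.orbitRel (Subgroup.zpowers n) (G ⧸ C))) (h1 : per q = 1)
          (h2 : q ≠ q₀), key (hpair q h1 h2).choose = j * key q :=
        fun q h1 h2 => (hpair q h1 h2).choose_spec.1

      rw [hs, hs, ← mul_assoc, hjj, one_mul]
      all_goals first
        | exact (hmem q hq).1
        | exact (hmem q hq).2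
        | exact (hpair q (hmem q hq).2 (hmem q hq).1).choose_spec.2.1
        | (intro h
           have h3 := hs q (hmem q hq).2 (hmem q hq).1
           rw [h, hk0] at h3
           exact hj1 (conj_eq_one_iff.mp (left_eq_mul.mp h3 : key q = 1)))
  have hψM : ∀ m ∈ Φ.range, ψ m = 1 := by
    rintro _ ⟨⟨a, b⟩, rfl⟩
    have h1 := hom_trivial hF zmod2_mul_self (ψ.comp ι)
    rw [hΦ, map_mul ψ, map_mul ψ, map_mul ψ, map_inv ψ,
      show ψ (ι a) = 1 from h1 a, show ψ (ι b) = 1 from h1 b, one_mul, mul_one, mul_inv_cancel]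
  obtain ⟨a, s₀, ha, hs₀J, hs₀, hexp⟩ := exists_two_exponent hF
  have hconj : ∀ y, Commute y j → y * y = 1 → y ≠ 1 → y ≠ j →
      ∃ p, y = Φ (p * (InvChar.sl2J, InvChar.sl2J) * p⁻¹) := by
    intro y hy hy2 hy1 hyj
    obtain ⟨s, t, hs, ht, hst⟩ := hu y hy hy2 hy1 hyj
    obtain ⟨g, hg⟩ := InvChar.exists_conj_sl2J hF s hs
    obtain ⟨k, hk⟩ := InvChar.exists_conj_sl2J hF t ht
    refine ⟨(g, k), ?_⟩
    rw [hst]
    congr 1
    exact Prod.ext (by simp [hg]) (by simp [hk])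
  refine ⟨hj, fun g hg => ?_⟩
  by_contra hne
  set y := g * j * g⁻¹ with hy
  have hy2 : y * y = 1 := by
    rw [hy, show g * j * g⁻¹ * (g * j * g⁻¹) = g * (j * j) * g⁻¹ by group, hjj, mul_one, mul_inv_cancel]
  have hy1 : y ≠ 1 := by rw [hy, Ne, conj_eq_one_iff]; exact hj1
  set y' := g⁻¹ * j * g with hy'
  have hy'j : Commute y' j := by
    show y' * j = j * y'
    calc y' * j = g⁻¹ * (j * y) * g := by rw [hy', hy]; group
      _ = j * y' := by rw [hg.eq, hy', hy]; group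
  have hy'2 : y' * y' = 1 := by
    rw [hy', show g⁻¹ * j * g * (g⁻¹ * j * g) = g⁻¹ * (j * j) * g by group, hjj, mul_one, inv_mul_cancel]
  have hy'1 : y' ≠ 1 := fun h => hj1 (by
    have : g * y' * g⁻¹ = j := by rw [hy']; group
    rw [← this, h]; group)
  have hy'ne : y' ≠ j := fun h => hne (by
    show g * j * g⁻¹ = j
    conv_lhs => rw [← h, hy']
    group)
  obtain ⟨p, hp⟩ := hconj y' hy'j hy'2 hy'1 hy'ne
  obtain ⟨p', hp'⟩ := hconj y hg.symm hy2 hy1 hne
  set r := g * Φ (p * (s₀, 1) * p⁻¹) * g⁻¹ with hr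
  have hpow : r ^ 2 ^ a = y := by
    rw [hr, conj_pow, ← map_pow Φ, conj_pow, Prod.pow_mk, hs₀, one_pow]
    rw [show p * ((-1 : SpecialLinearGroup (Fin 2) F), (1 : SpecialLinearGroup (Fin 2) F)) * p⁻¹ = (-1, 1) by
      rw [mul_inv_eq_iff_eq_mul]; exact Prod.ext (negOne_comm p.1).symm (by simp), hΦn1]
  have hry : Commute r y := by
    refine (?_ : Commute (Φ (p * (s₀, 1) * p⁻¹)) j).map (MulAut.conj g).toMonoidHom
    exact hcentral _ _
  have hrj : Commute r j := by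
    have : Commute (Φ (p * (s₀, 1) * p⁻¹)) y' := by
      rw [hp]
      refine Commute.map ?_ Φ
      exact ((show Commute ((s₀, 1) : SpecialLinearGroup (Fin 2) F × SpecialLinearGroup (Fin 2) F)
        (InvChar.sl2J, InvChar.sl2J) from Prod.ext hs₀J.eq (by simp))).map (MulAut.conj p).toMonoidHom
    have := this.map (MulAut.conj g).toMonoidHom
    have e : g * y' * g⁻¹ = j := by rw [hy']; group
    rw [← e]
    exact this
  have hrψ : ψ r = 1 := by
    rw [hr, map_mul ψ, map_mul ψ, hψM _ ⟨_, rfl⟩, mul_one, map_inv ψ, mul_inv_cancel]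
  obtain ⟨⟨a', b'⟩, hab⟩ : r ∈ Φ.range := by
    rcases hcov r hrj with h | h
    · exact h
    · exfalso
      have := hψM _ h
      rw [map_mul ψ, hrψ, mul_one] at this
      exact hψn this
  set v := p'⁻¹ * (a', b') * p' with hv
  have hΦv : Φ v = (Φ p')⁻¹ * r * Φ p' := by rw [hv, map_mul Φ, map_mul Φ, map_inv Φ, hab]
  have hrv : r ^ 2 ^ a = Φ (p' * v ^ 2 ^ a * p'⁻¹) := by
    rw [← conj_pow, hv, show p' * (p'⁻¹ * (a', b') * p') * p'⁻¹ = (a', b') by group, map_pow Φ, hab]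
  have hr2 : r ^ 2 ^ (a + 1) = 1 := by rw [pow_succ, pow_mul, hpow, pow_two, hy2]
  have hpp : v.1 ^ 2 ^ (a + 2) = 1 ∧ v.2 ^ 2 ^ (a + 2) = 1 := by
    have h1 : Φ (v ^ 2 ^ (a + 1)) = 1 := by
      rw [map_pow Φ, hΦv]
      have : ((Φ p')⁻¹ * r * Φ p') ^ 2 ^ (a + 1) = (Φ p')⁻¹ * r ^ 2 ^ (a + 1) * Φ p' := by
        simpa using (conj_pow (a := (Φ p')⁻¹) (b := r) (i := 2 ^ (a + 1)))
      rw [this, hr2, mul_one, inv_mul_cancel]
    rw [show v ^ 2 ^ (a + 1) = (v.1 ^ 2 ^ (a + 1), v.2 ^ 2 ^ (a + 1)) from rfl] at h1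
    rw [pow_succ 2 (a + 1), pow_mul, pow_mul, pow_two, pow_two]
    rcases hΦker _ _ h1 with ⟨e1, e2⟩ | ⟨e1, e2⟩ <;>
      rw [e1, e2] <;> simp [negOne_mul_self]
  have hvu : Φ (v * (InvChar.sl2J, InvChar.sl2J) * v⁻¹ * (InvChar.sl2J, InvChar.sl2J)⁻¹) = 1 := by
    have h1 : Φ (InvChar.sl2J, InvChar.sl2J) = (Φ p')⁻¹ * y * Φ p' := by
      rw [hp', map_mul Φ, map_mul Φ, map_inv Φ]; group
    rw [map_mul Φ, map_mul Φ, map_mul Φ, map_inv Φ, map_inv Φ, hΦv, h1]
    rw [show (Φ p')⁻¹ * r * Φ p' * ((Φ p')⁻¹ * y * Φ p') * ((Φ p')⁻¹ * r * Φ p')⁻¹ *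
      ((Φ p')⁻¹ * y * Φ p')⁻¹ = (Φ p')⁻¹ * (r * y * r⁻¹ * y⁻¹) * Φ p' by group, hry.eq]
    group
  have hfin : p' * v ^ 2 ^ a * p'⁻¹ = v ^ 2 ^ a ∧ (v ^ 2 ^ a = (1, 1) ∨ v ^ 2 ^ a = (-1, 1) ∨
      v ^ 2 ^ a = (1, -1) ∨ v ^ 2 ^ a = (-1, -1)) := by
    have h12 : (v.1 ^ 2 ^ a = 1 ∨ v.1 ^ 2 ^ a = -1) ∧ (v.2 ^ 2 ^ a = 1 ∨ v.2 ^ 2 ^ a = -1) := by
      rcases hΦker _ _ hvu with ⟨e1, e2⟩ | ⟨e1, e2⟩
      · exact ⟨hexp _ (mul_inv_eq_iff_eq_mul.mp (mul_inv_eq_one.mp e1)) ⟨_, hpp.1⟩,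
          hexp _ (mul_inv_eq_iff_eq_mul.mp (mul_inv_eq_one.mp e2)) ⟨_, hpp.2⟩⟩
      · have hs1 := anti_sq hF (mul_inv_eq_iff_eq_mul.mp e1)
        have hs2 := anti_sq hF (mul_inv_eq_iff_eq_mul.mp e2)
        obtain ⟨a₁, rfl⟩ : ∃ a₁, a = a₁ + 1 := ⟨a - 1, by omega⟩
        constructor
        · rw [pow_succ', pow_mul, pow_two, hs1]
          exact InvChar.sl2_sq_one hF _ (by rw [← pow_add, ← two_mul, pow_mul, pow_two, negOne_mul_self, one_pow])
        · rw [pow_succ', pow_mul, pow_two, hs2]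
          exact InvChar.sl2_sq_one hF _ (by rw [← pow_add, ← two_mul, pow_mul, pow_two, negOne_mul_self, one_pow])
    have hcases : v ^ 2 ^ a = (1, 1) ∨ v ^ 2 ^ a = (-1, 1) ∨ v ^ 2 ^ a = (1, -1) ∨ v ^ 2 ^ a = (-1, -1) := by
      rw [show v ^ 2 ^ a = (v.1 ^ 2 ^ a, v.2 ^ 2 ^ a) from rfl]
      rcases h12.1 with e1 | e1 <;> rcases h12.2 with e2 | e2 <;> rw [e1, e2] <;> simp
    refine ⟨?_, hcases⟩
    rw [mul_inv_eq_iff_eq_mul]
    rcases hcases with e | e | e | e <;> rw [e] <;>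
      exact Prod.ext (by simp [negOne_comm]) (by simp [negOne_comm])
  rw [hpow, hfin.1] at hrv
  rcases hfin.2 with e | e | e | e <;> rw [e] at hrv
  · exact hy1 (hrv.trans (map_one Φ))
  · exact hne (hrv.trans hΦn1)
  · exact hne (hrv.trans hΦ1n)
  · exact hy1 (hrv.trans hΦnn)

/-- Let G be a finite group with subgroups L₁ ≅ SL₂(q₁) and L₂ ≅ SL₂(q₂), q₁ and q₂ odd prime powers, which commute elementwise and meet in ⟨j⟩ for an involution j, and suppose L₁L₂ has index 2 in C_G(j). If some n ∈ C_G(j) with n² = j interchanges L₁ and L₂ under conjugation (so that C_G(j) = L₁L₂⟨n⟩), then G = C_G(j)O(G). -/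
theorem result {G : Type*} [Group G] [Finite G]
    {F₁ : Type*} [Field F₁] [Fintype F₁] {F₂ : Type*} [Field F₂] [Fintype F₂]
    (hF₁ : Odd (Fintype.card F₁)) (hF₂ : Odd (Fintype.card F₂)) (L₁ L₂ : Subgroup G)
    (e₁ : ↥L₁ ≃* Matrix.SpecialLinearGroup (Fin 2) F₁) (e₂ : ↥L₂ ≃* Matrix.SpecialLinearGroup (Fin 2) F₂)
    (hc : ∀ x ∈ L₁, ∀ y ∈ L₂, x * y = y * x) (j : G) (hj : orderOf j = 2) (hm : L₁ ⊓ L₂ = Subgroup.zpowers j)
    (hle : L₁ ⊔ L₂ ≤ Subgroup.centralizer ({j} : Set G)) (hi : (L₁ ⊔ L₂).relIndex (Subgroup.centralizer ({j} : Set G)) = 2) (n : G) (hn : n ∈ Subgroup.centralizer ({j} : Set G))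
    (hn2 : n ^ 2 = j) (hswap : L₁.map (MulAut.conj n).toMonoidHom = L₂) :
    Subgroup.centralizer ({j} : Set G) ⊔ Cfsg.oddCore G = ⊤ := by
  have hjj := Invol.mul_self_of_orderOf_two hj
  have hj1 := Invol.ne_one_of_orderOf_two hj
  have hjm : j ∈ L₁ ⊓ L₂ := hm ▸ Subgroup.mem_zpowers j
  have hnj : Commute n j := Subgroup.mem_centralizer_singleton_iff.mp hn
  have hneg := InvChar.iso_neg hF₁ L₁ e₁ hjj hj1 (Subgroup.mem_inf.mp hjm).1
  let ι : Matrix.SpecialLinearGroup (Fin 2) F₁ →* G := L₁.subtype.comp e₁.symm.toMonoidHom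
  have hιj : ι (-1) = j := by
    show ((e₁.symm (-1) : ↥L₁) : G) = j
    rw [← hneg, e₁.symm_apply_apply]
  have hιL : ∀ a, ι a ∈ L₁ := fun a => (e₁.symm a).2
  have hconjL : ∀ x ∈ L₁, n * x * n⁻¹ ∈ L₂ := fun x hx => hswap ▸ ⟨x, hx, rfl⟩
  have hcomm : ∀ a b, Commute (ι a) (n * ι b * n⁻¹) :=
    fun a b => hc _ (hιL a) _ (hconjL _ (hιL b))
  have hzp : ∀ x ∈ L₁ ⊓ L₂, x = 1 ∨ x = j := by
    intro x hx
    rw [hm] at hx
    obtain ⟨i, rfl⟩ := hx
    rcases Int.even_or_odd i with ⟨k, rfl⟩ | ⟨k, rfl⟩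
    · left; show j ^ (k + k) = 1
      rw [_root_.zpow_add, ← (Commute.refl j).mul_zpow, hjj, _root_.one_zpow]
    · right; show j ^ (2 * k + 1) = j
      rw [_root_.zpow_add, _root_.zpow_mul, zpow_two, hjj, _root_.one_zpow, one_mul, zpow_one]
  have hιinj : Function.Injective ι := L₁.subtype_injective.comp e₁.symm.injective
  have hker : ∀ a b, ι a * (n * ι b * n⁻¹) = 1 → (a = 1 ∧ b = 1) ∨ (a = -1 ∧ b = -1) := by
    intro a b h
    have ha : ι a ∈ L₁ ⊓ L₂ := Subgroup.mem_inf.mpr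
      ⟨hιL a, by rw [eq_inv_of_mul_eq_one_left h]; exact inv_mem (hconjL _ (hιL b))⟩
    rcases hzp _ ha with e | e <;> rw [e] at h
    · left
      refine ⟨hιinj (e.trans (map_one ι).symm), hιinj (Eq.trans ?_ (map_one ι).symm)⟩
      rw [one_mul, conj_eq_one_iff] at h; exact h
    · right
      refine ⟨hιinj (e.trans hιj.symm), hιinj (Eq.trans ?_ hιj.symm)⟩
      have h' : n * ι b * n⁻¹ = j := by
        rw [eq_inv_of_mul_eq_one_right h, inv_eq_of_mul_eq_one_right hjj]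
      rw [mul_inv_eq_iff_eq_mul, ← hnj.eq] at h'
      exact mul_left_cancel h'
  have hsurj : ∀ x ∈ L₁, ∃ a, ι a = x := fun x hx =>
    ⟨e₁ ⟨x, hx⟩, by show ((e₁.symm (e₁ ⟨x, hx⟩) : ↥L₁) : G) = x; rw [e₁.symm_apply_apply]⟩
  have hrange : ∀ x ∈ L₁ ⊔ L₂, ∃ a b, x = ι a * (n * ι b * n⁻¹) := by
    intro x hx
    let Φ := MonoidHom.noncommCoprod ι ((MulAut.conj n).toMonoidHom.comp ι) hcomm
    have hle : L₁ ⊔ L₂ ≤ Φ.range := by
      refine sup_le (fun y hy => ?_) (fun y hy => ?_)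
      · obtain ⟨a, rfl⟩ := hsurj y hy
        exact ⟨(a, 1), by simp [Φ]⟩
      · rw [← hswap] at hy
        obtain ⟨w, hw, rfl⟩ := hy
        obtain ⟨b, rfl⟩ := hsurj w hw
        exact ⟨(1, b), by simp [Φ]⟩
    obtain ⟨⟨a, b⟩, h⟩ := hle hx
    exact ⟨a, b, h.symm⟩
  have hnout : n ∉ L₁ ⊔ L₂ := by
    intro hnm
    obtain ⟨a, ha, b, hb, rfl⟩ := InvChar.exists_mul_of_mem_sup hc hnm
    have h12 : L₂ ≤ L₁ := by
      intro y hy
      rw [← hswap] at hy
      obtain ⟨w, hw, rfl⟩ := hy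
      show a * b * w * (a * b)⁻¹ ∈ L₁
      rw [show a * b * w * (a * b)⁻¹ = a * ((b * w) * b⁻¹) * a⁻¹ by group, ← hc w hw b hb,
        mul_inv_cancel_right]
      exact mul_mem (mul_mem ha hw) (inv_mem ha)
    have hL2 : ∀ y ∈ L₂, y = 1 ∨ y = j := fun y hy => hzp y (Subgroup.mem_inf.mpr ⟨h12 hy, hy⟩)
    obtain ⟨c, hcc⟩ := (⟨InvChar.sl2J, InvChar.sl2J_sq⟩ :
      ∃ c : Matrix.SpecialLinearGroup (Fin 2) F₂, c * c = -1)
    rcases hL2 _ (e₂.symm c).2 with e | e <;>
      have h2 := congrArg Subtype.val (map_mul e₂.symm c c) <;>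
      rw [hcc, Subgroup.coe_mul, e] at h2
    all_goals
      have h1 : (e₂.symm (-1) : ↥L₂) = 1 := Subtype.ext (by simp [h2, hjj])
      exact negOne_ne_one hF₂ (e₂.symm.injective (h1.trans (map_one e₂.symm).symm))
  have hidx : ∀ x, Commute x j → x ∈ L₁ ⊔ L₂ ∨ n⁻¹ * x ∈ L₁ ⊔ L₂ := by
    intro x hx
    by_cases h : x ∈ L₁ ⊔ L₂
    · exact Or.inl h
    right
    have := (Subgroup.mul_mem_iff_of_index_two
      (a := (⟨n, hn⟩ : ↥(Subgroup.centralizer ({j} : Set G)))⁻¹)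
      (b := ⟨x, Subgroup.mem_centralizer_singleton_iff.mpr hx⟩) hi).mpr
      (iff_of_false (fun h' => hnout (inv_mem_iff.mp h')) h)
    exact this
  have hiso : IsIsolatedInvolution j := by
    refine isolated_core hF₁ ι j n hj hιj (by rw [← pow_two, hn2]) hcomm
      (fun a => Subgroup.mem_centralizer_singleton_iff.mp (hle (Subgroup.mem_sup_left (hιL a))))
      hker (fun x hx => ?_) (fun a b h => hnout (h ▸ mul_mem (Subgroup.mem_sup_left (hιL a))
        (Subgroup.mem_sup_right (hconjL _ (hιL b)))))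
    rcases hidx x hx with h | h
    · obtain ⟨a, b, e⟩ := hrange x h
      exact ⟨a, b, Or.inl e⟩
    · obtain ⟨a, b, e⟩ := hrange _ h
      exact ⟨a, b, Or.inr (by rw [← e, mul_inv_cancel_left])⟩
  rw [eq_top_iff]
  intro g _
  obtain ⟨k, ⟨⟨hkodd, hkinv⟩, hk⟩, -⟩ := Invol.isolated_exists_unique_split hiso g
  have hcom := InvChar.zstarHyp G j hiso k
  rw [hkinv] at hcom
  obtain ⟨i, hi'⟩ := hkodd
  have hkO : k ∈ Cfsg.oddCore G := by
    have h2 : k * k ∈ Cfsg.oddCore G := by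
      have := inv_mem hcom
      rwa [← _root_.mul_inv_rev, inv_inv] at this
    have hk' : k = (k * k) ^ (i + 1) := by
      rw [← pow_two, ← pow_mul, show 2 * (i + 1) = orderOf k + 1 by omega, pow_succ,
        pow_orderOf_eq_one, one_mul]
    rw [hk']
    exact pow_mem h2 _
  have : g = k * (g⁻¹ * k)⁻¹ := by group
  rw [this]
  exact mul_mem (Subgroup.mem_sup_right hkO) (Subgroup.mem_sup_left (inv_mem hk))

end Cfsg.Agent.S3211
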