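import Cfsg.Statements.S3222
import Cfsg.Agent.Lib.LocalEvenB.DihEightTwo
import Cfsg.Agent.Lib.InvChar.BrauerSuzuki
import Cfsg.Agent.Lib.InvChar.FourCentralizerApps
import Cfsg.Agent.Lib.Invol.ThompsonX
import Cfsg.Agent.Lib.Invol.ZStarCons
import Cfsg.Agent.Lib.FGS.AutAlt
import Cfsg.Agent.Lib.SL2.DicksonApps

set_option autoImplicit false
open Cfsg

namespace Cfsg.Agent.S3222

set_option autoImplicit false
set_option linter.unusedSectionVars false


open Subgroup Equiv Equiv.Perm Cfsg Cfsg.Agent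
open scoped commutatorElement

abbrev Z2 := Multiplicative (ZMod 2)
abbrev S4 := Equiv.Perm (Fin 4)
abbrev aa : Z2 := Multiplicative.ofAdd 1
def u₀ : S4 := swap 0 2
def r₀ : S4 := swap 0 1 * swap 1 2 * swap 2 3
def z₀ : S4 := swap 0 2 * swap 1 3
def c₀ : S4 := swap 0 1 * swap 1 2
abbrev D₀ : Subgroup S4 := centralizer ({z₀} : Set S4)

theorem mem_D₀ {σ : S4} : σ ∈ D₀ ↔ σ * z₀ = z₀ * σ := mem_centralizer_singleton_iff

theorem center_pair : ∀ p : Z2 × S4, p ≠ 1 → (∀ q, q * p = p * q) → p = (aa, 1) := by decide +kernel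
theorem comm_D₀ : ∀ σ τ : S4, σ * z₀ = z₀ * σ → τ * z₀ = z₀ * τ →
    σ * τ * σ⁻¹ * τ⁻¹ = 1 ∨ σ * τ * σ⁻¹ * τ⁻¹ = z₀ := by decide +kernel
theorem z_comm : r₀ * u₀ * r₀⁻¹ * u₀⁻¹ = z₀ := by decide +kernel
theorem r_mem : r₀ * z₀ = z₀ * r₀ := by decide
theorem u_mem : u₀ * z₀ = z₀ * u₀ := by decide
theorem inv_classes : ∀ σ : S4, σ * σ = 1 →
    σ = 1 ∨ (∃ g, σ = g * u₀ * g⁻¹) ∨ ∃ g, σ = g * z₀ * g⁻¹ := by decide +kernel
theorem seven : (Finset.univ.filter fun σ : S4 => σ = 1 ∨ ∃ g, σ = g * u₀ * g⁻¹).card = 7 := by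
  decide +kernel
theorem card_D₀ : Nat.card D₀ = 8 := by
  rw [Nat.card_congr (Equiv.subtypeEquivRight fun σ => mem_D₀ (σ := σ)), Nat.card_eq_fintype_card]
  decide +kernel
theorem S4_center : ∀ σ : S4, (∀ τ, τ * σ = σ * τ) → σ = 1 := by decide +kernel
theorem aa_ne : (1 : Z2) ≠ aa := by decide
theorem c_three : c₀ ^ 3 = 1 := by decide
theorem c_z : c₀ * z₀ * c₀⁻¹ * z₀⁻¹ ≠ 1 ∧
    (c₀ * z₀ * c₀⁻¹ * z₀⁻¹) * (c₀ * z₀ * c₀⁻¹ * z₀⁻¹) = 1 := by decide
theorem klein : z₀ * (c₀ * z₀ * c₀⁻¹) = c₀⁻¹ * z₀ * c₀⁻¹⁻¹ := by decide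

/-- The model of the Sylow subgroup of the centralizer. -/
def dHom : DihedralGroup 4 →* S4 where
  toFun x := match x with
    | .r i => r₀ ^ i.val
    | .sr i => u₀ * r₀ ^ i.val
  map_one' := by decide
  map_mul' := by decide +kernel

theorem dHom_inj : Function.Injective dHom := by decide +kernel
theorem dHom_mem : ∀ x, dHom x * z₀ = z₀ * dHom x := by decide +kernel

section

variable {G : Type*} [Group G] [Finite G]

/-- A coordinate system for the centralizer of `t`. -/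
structure Dat (t : G) where
  ι : Z2 × S4 →* G
  inj : Function.Injective ι
  map_t : ι (aa, 1) = t
  range : ι.range = centralizer ({t} : Set G)
  cent_s : centralizer ({ι (1, z₀)} : Set G) = ((⊤ : Subgroup Z2).prod D₀).map ι

namespace Dat

variable {t : G} (d : Dat t)

def s : G := d.ι (1, z₀)
def T₀ : Subgroup G := ((⊤ : Subgroup Z2).prod D₀).map d.ι

include d in
theorem card_cent : Nat.card (centralizer ({t} : Set G)) = 48 := by
  rw [← d.range, ← Nat.card_congr (MonoidHom.ofInjective d.inj).toEquiv, Nat.card_prod,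
    Nat.card_eq_fintype_card, Nat.card_perm, Nat.card_fin]
  rfl

theorem card_T₀ : Nat.card d.T₀ = 16 := by
  rw [T₀, ← Nat.card_congr (Subgroup.equivMapOfInjective _ _ d.inj).toEquiv,
    Nat.card_congr (Subgroup.prodEquiv _ _).toEquiv, Nat.card_prod, card_D₀, Subgroup.card_top,
    Nat.card_eq_fintype_card]
  rfl

theorem T₀_le : d.T₀ ≤ centralizer ({t} : Set G) := by
  rw [← d.range]; exact Subgroup.map_le_range _ _

theorem mem_T₀ {y : G} : y ∈ d.T₀ ↔ ∃ b σ, σ * z₀ = z₀ * σ ∧ d.ι (b, σ) = y := by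
  constructor
  · rintro ⟨⟨b, σ⟩, hp, rfl⟩; exact ⟨b, σ, mem_D₀.mp hp.2, rfl⟩
  · rintro ⟨b, σ, hσ, rfl⟩; exact ⟨(b, σ), ⟨trivial, mem_D₀.mpr hσ⟩, rfl⟩

theorem comm_t {p : Z2 × S4} : d.ι p * t = t * d.ι p :=
  mem_centralizer_singleton_iff.mp (d.range ▸ (⟨p, rfl⟩ : d.ι p ∈ d.ι.range))

theorem t_mem : t ∈ d.T₀ := d.mem_T₀.mpr ⟨aa, 1, by simp, d.map_t⟩

theorem s_mem : d.s ∈ d.T₀ := d.mem_T₀.mpr ⟨1, z₀, rfl, rfl⟩

theorem s_ne : d.s ≠ 1 := fun h => by
  have := d.inj (h.trans d.ι.map_one.symm)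
  revert this; decide +kernel

theorem s_sq : d.s * d.s = 1 := by
  rw [s, ← map_mul, show ((1 : Z2), z₀) * (1, z₀) = 1 by decide, map_one]

include d in
theorem t_sq : t * t = 1 :=
  calc t * t = d.ι (aa, 1) * d.ι (aa, 1) := by rw [d.map_t]
    _ = 1 := by rw [← map_mul, show (aa, (1 : S4)) * (aa, 1) = 1 by decide, map_one]

include d in
theorem t_ne : t ≠ 1 := fun h => by
  have := d.inj ((d.map_t.trans h).trans d.ι.map_one.symm)
  revert this; decide +kernel

theorem cent_eq : centralizer ({d.s} : Set G) = d.T₀ := d.cent_s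

theorem normalizer_le : normalizer (d.T₀ : Set G) ≤ d.T₀ := by
  intro n hn
  rw [← d.cent_eq, mem_centralizer_singleton_iff]
  have hmem : ∀ y ∈ d.T₀, n * y * n⁻¹ ∈ d.T₀ := fun y hy => (Subgroup.mem_normalizer_iff.mp hn y).mp hy
  obtain ⟨b₁, σ₁, hσ₁, e₁⟩ := d.mem_T₀.mp (hmem _ (d.mem_T₀.mpr ⟨1, r₀, r_mem, rfl⟩))
  obtain ⟨b₂, σ₂, hσ₂, e₂⟩ := d.mem_T₀.mp (hmem _ (d.mem_T₀.mpr ⟨1, u₀, u_mem, rfl⟩))
  have h : n * d.s * n⁻¹ = d.ι (1, σ₁ * σ₂ * σ₁⁻¹ * σ₂⁻¹) := by
    have hp : ((1 : Z2), σ₁ * σ₂ * σ₁⁻¹ * σ₂⁻¹) = (b₁, σ₁) * (b₂, σ₂) * (b₁, σ₁)⁻¹ * (b₂, σ₂)⁻¹ := by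
      ext <;> simp
    rw [hp, map_mul, map_mul, map_mul, map_inv, map_inv, e₁, e₂, s,
      show ((1 : Z2), z₀) = (1, r₀) * (1, u₀) * (1, r₀)⁻¹ * (1, u₀)⁻¹ by rw [← z_comm]; ext <;> simp,
      map_mul, map_mul, map_mul, map_inv, map_inv]
    group
  rcases comm_D₀ σ₁ σ₂ hσ₁ hσ₂ with hc | hc
  · rw [hc, show ((1 : Z2), (1 : S4)) = 1 from rfl, map_one] at h
    exact absurd (conj_eq_one_iff.mp h) d.s_ne
  · rw [hc] at h
    exact mul_inv_eq_iff_eq_mul.mp h

theorem exists_sylow : ∃ P : Sylow 2 G, (P : Subgroup G) = d.T₀ := by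
  haveI : Fact (Nat.Prime 2) := ⟨Nat.prime_two⟩
  have hp : IsPGroup 2 d.T₀ := IsPGroup.of_card (n := 4) d.card_T₀
  obtain ⟨P, hP⟩ := hp.exists_le_sylow
  refine ⟨P, le_antisymm (fun y hy => ?_) hP⟩
  -- the Sylow subgroup normalizes nothing larger
  by_contra hy'
  have hlt : d.T₀ < (P : Subgroup G) := lt_of_le_of_ne hP fun e => hy' (e ▸ hy)
  haveI : Group.IsNilpotent (P : Subgroup G) := P.2.isNilpotent
  have hlt' : d.T₀.subgroupOf (P : Subgroup G) < ⊤ := by
    rw [lt_top_iff_ne_top, Ne, Subgroup.subgroupOf_eq_top]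
    exact hlt.not_ge
  obtain ⟨n, hn, hn'⟩ := SetLike.exists_of_lt (normalizerCondition_of_isNilpotent _ hlt')
  refine hn' (d.normalizer_le (Subgroup.mem_normalizer_iff.mpr fun g => ?_))
  constructor
  · intro hg
    exact (Subgroup.mem_normalizer_iff.mp hn ⟨g, hP hg⟩).mp hg
  · intro hg
    have hgP : g ∈ (P : Subgroup G) := by
      have := mul_mem (mul_mem (inv_mem n.2) (hP hg)) n.2
      simpa [mul_assoc] using this
    exact (Subgroup.mem_normalizer_iff.mp hn ⟨g, hgP⟩).mpr hg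

theorem central {P : Sylow 2 G} (hP : (P : Subgroup G) = d.T₀) {x : G}
    (hx : ∀ y ∈ d.T₀, y * x = x * y) (g : G) (hy : ∀ y ∈ d.T₀, y * (g * x * g⁻¹) = g * x * g⁻¹ * y) :
    g * x * g⁻¹ = x := by
  haveI : Fact (Nat.Prime 2) := ⟨Nat.prime_two⟩
  have hc : ∀ w : G, (∀ y ∈ d.T₀, y * w = w * y) → w ∈ centralizer ((P : Subgroup G) : Set G) :=
    fun w hw y hy' => hw y (hP ▸ hy')
  obtain ⟨n, hn, hne⟩ := P.conj_eq_normalizer_conj_of_mem_centralizer x g⁻¹ (hc x hx)
    (hc _ (by rw [inv_inv]; exact hy))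
  rw [inv_inv] at hne
  rw [hne]
  have hnT : n ∈ d.T₀ := d.normalizer_le (by rw [← hP]; exact hn)
  rw [mul_assoc, ← hx n hnT, inv_mul_cancel_left]

theorem not_conj_s (g : G) : g * t * g⁻¹ ≠ d.s := by
  intro h
  obtain ⟨P, hP⟩ := d.exists_sylow
  have := d.central hP (x := t) (fun y hy => mem_centralizer_singleton_iff.mp (d.T₀_le hy)) g
    (by rw [h]; exact fun y hy => mem_centralizer_singleton_iff.mp (d.cent_eq.ge hy))
  rw [h] at this
  have := d.inj (this.trans d.map_t.symm)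
  revert this; decide +kernel

theorem not_conj_ts (g : G) : g * t * g⁻¹ ≠ t * d.s := by
  intro h
  obtain ⟨P, hP⟩ := d.exists_sylow
  have := d.central hP (x := t) (fun y hy => mem_centralizer_singleton_iff.mp (d.T₀_le hy)) g
    (by
      rw [h]
      intro y hy
      rw [← mul_assoc, mem_centralizer_singleton_iff.mp (d.T₀_le hy), mul_assoc,
        mem_centralizer_singleton_iff.mp (d.cent_eq.ge hy), mul_assoc])
  rw [h, mul_eq_left] at this
  exact d.s_ne this

include d in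
theorem exists_sign : ∃ f : G →* ℤˣ, f t ≠ 1 := by
  haveI : Fact (Nat.Prime 2) := ⟨Nat.prime_two⟩
  by_contra hcon
  push Not at hcon
  obtain ⟨P, hP⟩ := d.exists_sylow
  set M : Subgroup G := ((⊥ : Subgroup Z2).prod D₀).map d.ι with hM
  have hMle : M ≤ (P : Subgroup G) := hP ▸ Subgroup.map_mono (Subgroup.prod_mono bot_le le_rfl)
  have hrel : M.relIndex (P : Subgroup G) = 2 := by
    have h1 := (M.subgroupOf (P : Subgroup G)).card_mul_index
    rw [Nat.card_congr (Subgroup.subgroupOfEquivOfLe hMle).toEquiv] at h1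
    have h2 : Nat.card M = 8 := by
      rw [hM, ← Nat.card_congr (Subgroup.equivMapOfInjective _ _ d.inj).toEquiv,
        Nat.card_congr (Subgroup.prodEquiv _ _).toEquiv, Nat.card_prod, card_D₀, Subgroup.card_bot,
        one_mul]
    have h3 : Nat.card (P : Subgroup G) = 16 := by rw [hP, d.card_T₀]
    rw [h2, h3] at h1
    exact Nat.eq_of_mul_eq_mul_left (by norm_num : 0 < 8) (h1.trans (by norm_num))
  obtain ⟨g, hgM, hgR⟩ := Invol.thompson_transfer_elem P M hMle hrel 1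
    (fun y _ hy' => by
      have : orderOf y ≠ 1 := fun e => hy' (orderOf_eq_one_iff.mp e ▸ one_mem M)
      have := orderOf_pos y
      omega)
    t (fun f => hcon f) (by rw [pow_one]; exact orderOf_eq_prime (by rw [pow_two]; exact d.t_sq) d.t_ne)
    (P : Subgroup G) P.2 (fun r hr => mem_centralizer_singleton_iff.mp (d.T₀_le (hP ▸ hr)))
  have hgn : g⁻¹ ∈ normalizer ((P : Subgroup G) : Set G) := by
    have hmap : (P : Subgroup G).map (MulAut.conj g⁻¹).toMonoidHom = (P : Subgroup G) := by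
      refine Subgroup.eq_of_le_of_card_ge ?_ ?_
      · rintro _ ⟨y, hy, rfl⟩
        simpa using hgR y hy
      · exact (Nat.card_congr (Subgroup.equivMapOfInjective _ _ (MulAut.conj g⁻¹).injective).toEquiv).le
    rw [Subgroup.mem_normalizer_iff]
    intro y
    constructor
    · intro hy; simpa using hgR y hy
    · intro hy
      obtain ⟨y', hy', he⟩ := hmap.symm ▸ (show g⁻¹ * y * g⁻¹⁻¹ ∈ (P : Subgroup G) from hy)
      simp only [MulEquiv.toMonoidHom_eq_coe, MonoidHom.coe_coe, MulAut.conj_apply] at he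
      rwa [← mul_left_cancel (mul_right_cancel he)]
  have hgT : g⁻¹ ∈ d.T₀ := d.normalizer_le (by rw [← hP]; exact hgn)
  rw [mem_centralizer_singleton_iff.mp (d.T₀_le hgT), inv_mul_cancel_right] at hgM
  obtain ⟨⟨b, σ⟩, hp, he⟩ := hgM
  have := d.inj (he.trans d.map_t.symm)
  rw [Prod.mk.injEq] at this
  have hb : b = 1 := hp.1
  rw [hb] at this
  exact aa_ne this.1

end Dat

theorem sign_values (u : ℤˣ) : u = 1 ∨ u = -1 := Int.units_eq_one_or u

def sgnZ : ℤˣ →* Z2 where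
  toFun u := if u = 1 then 1 else aa
  map_one' := by decide
  map_mul' := by decide

namespace Dat

variable {t : G} (d : Dat t) (f : G →* ℤˣ) (hf : f t ≠ 1)

/-- The embedding of `S4` into the subgroup of index two. -/
def χ : S4 →* Z2 := sgnZ.comp (f.comp (d.ι.comp (MonoidHom.inr Z2 S4)))

def j : S4 →* G := d.ι.comp ((d.χ f).prod (MonoidHom.id S4))

theorem j_inj : Function.Injective (d.j f) := fun a b h => (Prod.mk.injEq _ _ _ _ ▸ d.inj h).2

include hf in
theorem f_j (σ : S4) : f (d.j f σ) = 1 := by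
  have hj : d.j f σ = d.ι (d.χ f σ, 1) * d.ι (1, σ) := by rw [← map_mul]; simp [j]
  rw [hj, map_mul]
  have hχ : d.χ f σ = sgnZ (f (d.ι (1, σ))) := rfl
  rcases Int.units_eq_one_or (f (d.ι (1, σ))) with h | h
  · rw [hχ, h, map_one, show ((1 : Z2), (1 : S4)) = 1 from rfl, map_one, map_one, one_mul]
  · rw [hχ, h, show sgnZ (-1) = aa from rfl, d.map_t, (Int.units_eq_one_or (f t)).resolve_left hf]
    rfl

theorem j_comm (σ : S4) : d.j f σ * t = t * d.j f σ := d.comm_t

theorem j_z : d.j f z₀ = d.s := by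
  have h : z₀ = r₀ * u₀ * r₀⁻¹ * u₀⁻¹ := z_comm.symm
  have : d.χ f z₀ = 1 := by
    rw [h, map_mul, map_mul, map_mul, map_inv, map_inv, mul_comm (d.χ f r₀), mul_assoc (d.χ f u₀),
      mul_inv_cancel, mul_one, mul_inv_cancel]
  show d.ι (d.χ f z₀, z₀) = d.ι (1, z₀)
  rw [this]

include hf in
theorem exists_j_of_mem {y : G} (hy : y ∈ centralizer ({t} : Set G)) (hfy : f y = 1) :
    ∃ σ, d.j f σ = y := by
  rw [← d.range] at hy
  obtain ⟨⟨b, σ⟩, rfl⟩ := hy
  refine ⟨σ, ?_⟩
  have h : d.ι (b, σ) = d.ι ((b * (d.χ f σ)⁻¹), 1) * d.j f σ := by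
    show _ = _ * d.ι (d.χ f σ, σ)
    rw [← map_mul]
    congr 1
    ext <;> simp
  rw [h, map_mul, d.f_j f hf, mul_one] at hfy
  rw [h]
  have : ∀ c : Z2, c = 1 ∨ c = aa := by decide
  rcases this (b * (d.χ f σ)⁻¹) with e | e
  · rw [e, show ((1 : Z2), (1 : S4)) = 1 from rfl, map_one, one_mul]
  · rw [e, d.map_t] at hfy
    exact absurd hfy hf

include hf in
/-- The centralizer of `s` in the subgroup of index two. -/
theorem dihedral_cent (hs : f d.s = 1) :
    Nonempty (centralizer ({(⟨d.s, hs⟩ : f.ker)} : Set f.ker) ≃* DihedralGroup 4) := by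
  let g : DihedralGroup 4 →* centralizer ({(⟨d.s, hs⟩ : f.ker)} : Set f.ker) :=
    (((d.j f).comp dHom).codRestrict f.ker fun x => d.f_j f hf _).codRestrict _ fun x => by
      rw [mem_centralizer_singleton_iff]
      apply Subtype.ext
      show d.j f (dHom x) * d.s = d.s * d.j f (dHom x)
      rw [← d.j_z f, ← map_mul, ← map_mul, dHom_mem]
  have hg : Function.Injective g := fun a b h =>
    dHom_inj (d.j_inj f (congrArg Subtype.val (congrArg Subtype.val h)))
  refine ⟨(MulEquiv.ofBijective g ⟨hg, ?_⟩).symm⟩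
  rintro ⟨⟨y, hy⟩, hyc⟩
  have hyT : y ∈ d.T₀ := by
    rw [← d.cent_eq, mem_centralizer_singleton_iff]
    exact congrArg Subtype.val (mem_centralizer_singleton_iff.mp hyc)
  obtain ⟨σ, hσ⟩ := d.exists_j_of_mem f hf (d.T₀_le hyT) hy
  have hσ0 : σ * z₀ = z₀ * σ := d.j_inj f (by
    rw [map_mul, map_mul, hσ, d.j_z f]
    exact congrArg Subtype.val (mem_centralizer_singleton_iff.mp hyc))
  have hsur : ∀ σ : S4, σ * z₀ = z₀ * σ → ∃ x, dHom x = σ := by decide +kernel
  obtain ⟨x, rfl⟩ := hsur σ hσ0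
  exact ⟨x, Subtype.ext (Subtype.ext hσ)⟩

include d hf in
theorem core_trivial (N : Subgroup G) [N.Normal] (hN : Odd (Nat.card N)) : N = ⊥ := by
  rw [Subgroup.eq_bot_iff_forall]
  have hw : ∀ w : G, IsConj d.s w → ∀ k ∈ N, Commute k w → k = 1 := by
    intro w hw k hk hkw
    obtain ⟨c, rfl⟩ := isConj_iff.mp hw
    have h1 : c⁻¹ * k * c⁻¹⁻¹ ∈ N := (inferInstance : N.Normal).conj_mem k hk c⁻¹
    have h2 : c⁻¹ * k * c⁻¹⁻¹ ∈ d.T₀ := by
      rw [← d.cent_eq, mem_centralizer_singleton_iff]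
      calc c⁻¹ * k * c⁻¹⁻¹ * d.s = c⁻¹ * (k * (c * d.s * c⁻¹)) * c := by group
        _ = c⁻¹ * (c * d.s * c⁻¹ * k) * c := by rw [hkw.eq]
        _ = d.s * (c⁻¹ * k * c⁻¹⁻¹) := by group
    have ho : orderOf (c⁻¹ * k * c⁻¹⁻¹) = 1 := by
      have a1 := orderOf_dvd_natCard (⟨_, h1⟩ : N)
      have a2 := orderOf_dvd_natCard (⟨_, h2⟩ : d.T₀)
      rw [Subgroup.orderOf_mk] at a1 a2
      rw [d.card_T₀] at a2
      have hc : Nat.Coprime (Nat.card N) 16 := by
        rw [show 16 = 2 ^ 4 by norm_num]; exact (Nat.coprime_two_right.mpr hN).pow_right 4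
      exact Nat.eq_one_of_dvd_coprimes hc a1 a2
    exact conj_eq_one_iff.mp (orderOf_eq_one_iff.mp ho)
  intro k hk
  set v := d.j f (c₀ * z₀ * c₀⁻¹) with hv
  set w := d.j f (c₀⁻¹ * z₀ * c₀⁻¹⁻¹) with hw'
  have hconj : ∀ g : S4, IsConj d.s (d.j f (g * z₀ * g⁻¹)) := fun g =>
    isConj_iff.mpr ⟨d.j f g, by rw [← d.j_z f, map_mul, map_mul, map_inv]⟩
  have hsv : d.s * v = w := by rw [hv, hw', ← d.j_z f, ← map_mul, klein]
  have hvv : v * v = 1 := by
    rw [hv, ← map_mul, show c₀ * z₀ * c₀⁻¹ * (c₀ * z₀ * c₀⁻¹) = 1 by decide, map_one]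
  have i1 := FourCent.inverts_of_fpf d.s_sq N (fun a ha h => hw _ (IsConj.refl _) a ha h) hk
  have i2 := FourCent.inverts_of_fpf hvv N (fun a ha h => hw _ (hconj c₀) a ha h) (inv_mem hk)
  have hs' := inv_eq_of_mul_eq_one_right d.s_sq
  have hv' := inv_eq_of_mul_eq_one_right hvv
  rw [inv_inv] at i2
  refine hw w (hconj c₀⁻¹) k hk ?_
  have : w * k * w⁻¹ = k := by
    rw [← hsv, mul_inv_rev]
    calc d.s * v * k * (v⁻¹ * d.s⁻¹) = d.s * (v * k * v⁻¹) * d.s⁻¹ := by group
      _ = k := by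
        have i3 : v * k * v⁻¹ = k⁻¹ := by
          calc v * k * v⁻¹ = (v * k⁻¹ * v⁻¹)⁻¹ := by group
            _ = k⁻¹ := by rw [i2]
        rw [i3]
        calc d.s * k⁻¹ * d.s⁻¹ = (d.s * k * d.s⁻¹)⁻¹ := by group
          _ = k := by rw [i1, inv_inv]
  exact (mul_inv_eq_iff_eq_mul.mp this).symm

include d hf in
/-- Elements centralizing the whole subgroup of index two. -/
theorem cent_ker (htop : centralizer ({t} : Set G) ≠ ⊤) {g : G}
    (hg : ∀ h ∈ f.ker, g * h = h * g) : g = 1 := by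
  have hgs : g ∈ d.T₀ := by
    rw [← d.cent_eq, mem_centralizer_singleton_iff]
    exact hg _ (d.j_z f ▸ d.f_j f hf z₀)
  obtain ⟨b, σ, -, rfl⟩ := d.mem_T₀.mp hgs
  have hσ : σ = 1 := S4_center σ fun τ => by
    have := hg _ (d.f_j f hf τ)
    exact ((Prod.mk.injEq _ _ _ _ ▸ d.inj (show d.ι ((b, σ) * (d.χ f τ, τ)) = d.ι ((d.χ f τ, τ) * (b, σ)) by
      rw [map_mul, map_mul]; exact this)).2).symm
  subst hσ
  have : ∀ c : Z2, c = 1 ∨ c = aa := by decide
  rcases this b with rfl | rfl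
  · exact map_one _
  · exfalso
    rw [d.map_t] at hg
    apply htop
    rw [eq_top_iff]
    intro y _
    rw [mem_centralizer_singleton_iff]
    rcases Int.units_eq_one_or (f y) with h | h
    · exact (hg y h).symm
    · have h' : f (y * t) = 1 := by
        rw [map_mul, h, (Int.units_eq_one_or (f t)).resolve_left hf]; decide
      have := hg _ h'
      rw [← mul_assoc] at this
      exact (mul_right_cancel this).symm

include d hf in
theorem index_ker : f.ker.index = 2 := by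
  rw [Subgroup.index_ker, show f.range = ⊤ from eq_top_iff.mpr fun u _ => by
    rcases Int.units_eq_one_or u with rfl | rfl
    · exact one_mem _
    · exact ⟨t, (Int.units_eq_one_or (f t)).resolve_left hf⟩, Subgroup.card_top,
    Nat.card_eq_fintype_card, Fintype.card_units_int]

include d hf in
/-- The fusion of `t` inside its centralizer. -/
theorem conj_bound (htop : centralizer ({t} : Set G) ≠ ⊤) :
    7 ≤ (centralizer ({t} : Set G)).index ∧
      ((centralizer ({t} : Set G)).index = 7 →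
        ∀ g : G, g * t * g⁻¹ ∈ centralizer ({t} : Set G)) ∧
      ∃ g : G, g * t * g⁻¹ = t * d.j f u₀ := by
  classical
  haveI : Fact (Nat.Prime 2) := ⟨Nat.prime_two⟩
  have ht : orderOf t = 2 := orderOf_eq_prime (by rw [pow_two]; exact d.t_sq) d.t_ne
  have hu : ∃ g : G, g * t * g⁻¹ = t * d.j f u₀ := by
    by_contra hno
    obtain ⟨P, hP⟩ := d.exists_sylow
    obtain ⟨N, hN, hNo, hNc⟩ := InvChar.zstarSylow P t ht
      (show t ∈ (P : Subgroup G) from hP ▸ d.t_mem) (fun g hg => by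
      have hgT : g * t * g⁻¹ ∈ d.T₀ := hP ▸ hg
      have hfg : f (t * (g * t * g⁻¹)) = 1 := by
        rw [map_mul, map_mul, map_mul, map_inv, (Int.units_eq_one_or (f t)).resolve_left hf]
        rcases Int.units_eq_one_or (f g) with e | e <;> rw [e] <;> decide
      have hxC := d.T₀_le hgT
      obtain ⟨σ, hσ⟩ := d.exists_j_of_mem f hf
        (mul_mem (mem_centralizer_singleton_iff.mpr rfl) hxC) hfg
      have he : g * t * g⁻¹ = t * d.j f σ := by rw [hσ, ← mul_assoc, d.t_sq, one_mul]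
      have h2 : σ * σ = 1 := d.j_inj f (by
        rw [map_mul, hσ, map_one]
        calc t * (g * t * g⁻¹) * (t * (g * t * g⁻¹)) =
              t * (g * t * g⁻¹ * t) * (g * t * g⁻¹) := by group
          _ = t * t * (g * (t * t) * g⁻¹) := by
            rw [mem_centralizer_singleton_iff.mp hxC]; group
          _ = 1 := by rw [d.t_sq, mul_one, mul_inv_cancel, one_mul])
      rcases inv_classes σ h2 with rfl | ⟨c, rfl⟩ | ⟨c, rfl⟩
      · rw [he, map_one, mul_one]
      · refine absurd ⟨(d.j f c)⁻¹ * g, ?_⟩ hno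
        calc (d.j f c)⁻¹ * g * t * ((d.j f c)⁻¹ * g)⁻¹ =
              (d.j f c)⁻¹ * (g * t * g⁻¹) * d.j f c := by group
          _ = t * d.j f u₀ := by
            rw [he, map_mul, map_mul, map_inv]
            calc (d.j f c)⁻¹ * (t * (d.j f c * d.j f u₀ * (d.j f c)⁻¹)) * d.j f c =
                (d.j f c)⁻¹ * (t * d.j f c) * d.j f u₀ := by group
              _ = t * d.j f u₀ := by rw [← d.j_comm f c]; group
      · refine absurd ?_ (d.not_conj_ts ((d.j f c)⁻¹ * g))
        calc (d.j f c)⁻¹ * g * t * ((d.j f c)⁻¹ * g)⁻¹ =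
              (d.j f c)⁻¹ * (g * t * g⁻¹) * d.j f c := by group
          _ = t * d.s := by
            rw [he, map_mul, map_mul, map_inv, d.j_z f]
            calc (d.j f c)⁻¹ * (t * (d.j f c * d.s * (d.j f c)⁻¹)) * d.j f c =
                (d.j f c)⁻¹ * (t * d.j f c) * d.s := by group
              _ = t * d.s := by rw [← d.j_comm f c]; group)
    haveI := hN
    rw [d.core_trivial f hf N hNo] at hNc
    exact htop (eq_top_iff.mpr fun g _ => by
      have := Subgroup.mem_bot.mp (hNc g)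
      rw [mem_centralizer_singleton_iff]
      exact (mul_inv_eq_iff_eq_mul.mp (mul_inv_eq_one.mp this)).symm)
  set C := centralizer ({t} : Set G) with hC
  let K := {y : G // ∃ g, g * t * g⁻¹ = y}
  have hK : Nat.card K ≤ C.index := by
    rw [Subgroup.index_eq_card]
    refine Nat.card_le_card_of_surjective
      (fun q : G ⧸ C => (⟨q.out * t * q.out⁻¹, q.out, rfl⟩ : K)) ?_
    rintro ⟨y, g, rfl⟩
    refine ⟨g, Subtype.ext ?_⟩
    obtain ⟨⟨c, hc⟩, he⟩ := QuotientGroup.mk_out_eq_mul C g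
    show (g : G ⧸ C).out * t * (g : G ⧸ C).out⁻¹ = g * t * g⁻¹
    rw [he, mul_inv_rev]
    calc g * c * t * (c⁻¹ * g⁻¹) = g * (c * t) * c⁻¹ * g⁻¹ := by group
      _ = g * t * g⁻¹ := by rw [mem_centralizer_singleton_iff.mp hc]; group
  obtain ⟨g₁, hg₁⟩ := hu
  let Q := {σ : S4 // σ = 1 ∨ ∃ c, σ = c * u₀ * c⁻¹}
  have hQ : Nat.card Q = 7 := by
    rw [Nat.card_eq_fintype_card, Fintype.card_subtype]; exact seven
  have hmemQ : ∀ σ : Q, ∃ g, g * t * g⁻¹ = t * d.j f σ.1 := by
    rintro ⟨σ, rfl | ⟨c, rfl⟩⟩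
    · exact ⟨1, by simp⟩
    · refine ⟨d.j f c * g₁, ?_⟩
      calc d.j f c * g₁ * t * (d.j f c * g₁)⁻¹ = d.j f c * (g₁ * t * g₁⁻¹) * (d.j f c)⁻¹ := by group
        _ = t * d.j f (c * u₀ * c⁻¹) := by
          rw [hg₁, map_mul, map_mul, map_inv, ← mul_assoc, d.j_comm f c]; group
  let m : Q → K := fun σ => ⟨t * d.j f σ.1, hmemQ σ⟩
  have hm : Function.Injective m := fun a b h =>
    Subtype.ext (d.j_inj f (mul_left_cancel (congrArg Subtype.val h)))
  have h7 := (Nat.card_le_card_of_injective m hm).trans hK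
  rw [hQ] at h7
  refine ⟨h7, fun hidx g => ?_, g₁, hg₁⟩
  have hb : Function.Bijective m := by
    refine (Nat.bijective_iff_injective_and_card m).2 ⟨hm, ?_⟩
    have := Nat.card_le_card_of_injective m hm
    omega
  obtain ⟨σ, hσ⟩ := hb.2 ⟨g * t * g⁻¹, g, rfl⟩
  have he : t * d.j f σ.1 = g * t * g⁻¹ := congrArg Subtype.val hσ
  rw [← he, mem_centralizer_singleton_iff, mul_assoc, d.j_comm f]

end Dat

end


section Alt

open Cfsg.Agent.FGS

abbrev A6 := ↥(alternatingGroup (Fin 6))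

def d₀ : Perm (Fin 6) := swap 0 1 * swap 1 2 * (swap 3 4 * swap 4 5)
def w₀ : Perm (Fin 6) := swap 0 3 * swap 1 4 * swap 2 5

theorem d₀_type : d₀.cycleType = Multiset.replicate 2 3 := by decide +kernel
theorem w₀_odd : Perm.sign w₀ = -1 ∧ w₀ * d₀ * w₀⁻¹ = d₀ := by decide +kernel
theorem trivial_cent : ∀ g : Perm (Fin 6), g * (swap 0 1 * swap 1 2) = swap 0 1 * swap 1 2 * g →
    g * (swap 1 2 * swap 2 3 * swap 3 4 * swap 4 5) = swap 1 2 * swap 2 3 * swap 3 4 * swap 4 5 * g →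
    g = 1 := by decide +kernel

theorem conjNormal_injective :
    Function.Injective (MulAut.conjNormal : Perm (Fin 6) →* MulAut A6) := by
  rw [injective_iff_map_eq_one]
  intro g hg
  have key : ∀ x : Perm (Fin 6), x ∈ alternatingGroup (Fin 6) → g * x = x * g := fun x hx => by
    have h1 : ((MulAut.conjNormal g : MulAut A6) ⟨x, hx⟩ : Perm (Fin 6)) = x := by rw [hg]; rfl
    rw [MulAut.conjNormal_apply] at h1
    exact mul_inv_eq_iff_eq_mul.mp h1
  exact trivial_cent g (key _ (mem_alternatingGroup.mpr (by decide)))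
    (key _ (mem_alternatingGroup.mpr (by decide)))

theorem double_conj {y : A6} (ho : orderOf y = 3) (h : ¬ (y : Perm (Fin 6)).IsThreeCycle) :
    IsConj (⟨d₀, mem_alternatingGroup.mpr (by decide)⟩ : A6) y := by
  rw [← Subgroup.orderOf_coe] at ho
  obtain ⟨n, hn⟩ := cycleType_prime_order (σ := (y : Perm (Fin 6))) (by rw [ho]; exact Nat.prime_three)
  rw [ho] at hn
  have hle : 3 * (n + 1) ≤ 6 := by
    have := (y : Perm (Fin 6)).support.card_le_univ
    rw [← sum_cycleType, hn, Multiset.sum_replicate, Fintype.card_fin, smul_eq_mul] at this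
    omega
  have hn1 : n = 1 := by
    rcases Nat.eq_zero_or_pos n with rfl | h'
    · exact absurd hn h
    · omega
  rw [hn1] at hn
  obtain ⟨g, hg⟩ := isConj_iff.mp (isConj_iff_cycleType_eq.mpr (d₀_type.trans hn.symm))
  rcases Int.units_eq_one_or (Perm.sign g) with hs | hs
  · exact isConj_iff.mpr ⟨⟨g, mem_alternatingGroup.mpr hs⟩, Subtype.ext hg⟩
  · refine isConj_iff.mpr ⟨⟨g * w₀, mem_alternatingGroup.mpr (by rw [map_mul, hs, w₀_odd.1]; decide)⟩,
      Subtype.ext ?_⟩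
    show g * w₀ * d₀ * (g * w₀)⁻¹ = y
    calc g * w₀ * d₀ * (g * w₀)⁻¹ = g * (w₀ * d₀ * w₀⁻¹) * g⁻¹ := by group
      _ = y := by rw [w₀_odd.2]; exact hg

theorem three_of_conj {a b : A6} (h : IsConj a b) (ha : (a : Perm (Fin 6)).IsThreeCycle) :
    (b : Perm (Fin 6)).IsThreeCycle := by
  obtain ⟨g, rfl⟩ := isConj_iff.mp h
  show (g.1 * a.1 * g.1⁻¹).cycleType = {3}
  rw [cycleType_conj]
  exact ha

theorem aut_inner (σ : MulAut A6) {c : A6} (hc : orderOf c = 3) (hσ : σ c = c) :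
    σ ∈ (MulAut.conjNormal : Perm (Fin 6) →* MulAut A6).range := by
  obtain ⟨g, hg⟩ := AutAlt.of_preserves (by norm_num) σ fun y hy => by
    by_cases h3 : (c : Perm (Fin 6)).IsThreeCycle
    · have h := σ.toMonoidHom.map_isConj
        (alternatingGroup.isThreeCycle_isConj (by rw [Nat.card_fin]; norm_num) h3 hy)
      simp only [MulEquiv.toMonoidHom_eq_coe, MonoidHom.coe_coe, hσ] at h
      exact three_of_conj h h3
    · by_contra hy'
      have hyo : orderOf (σ y) = 3 := by rw [MulEquiv.orderOf_eq, ← Subgroup.orderOf_coe]; exact hy.orderOf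
      have h1 : IsConj c (σ y) := (double_conj hc h3).symm.trans (double_conj hyo hy')
      have h2 := σ.symm.toMonoidHom.map_isConj h1
      simp only [MulEquiv.toMonoidHom_eq_coe, MonoidHom.coe_coe, MulEquiv.symm_apply_apply] at h2
      rw [show σ.symm c = c by rw [MulEquiv.symm_apply_eq, hσ]] at h2
      exact h3 (three_of_conj h2.symm hy)
  exact ⟨g, hg⟩

end Alt

namespace Dat

variable {G : Type*} [Group G] [Finite G] {t : G} (d : Dat t) (f : G →* ℤˣ) (hf : f t ≠ 1)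

include d hf in
theorem sym_six (htop : centralizer ({t} : Set G) ≠ ⊤) (φ : f.ker ≃* A6) :
    Nonempty (G ≃* Perm (Fin 6)) := by
  let Φ : G →* MulAut A6 := (MulAut.congr φ).toMonoidHom.comp MulAut.conjNormal
  have hΦ : ∀ g x, Φ g x = φ (MulAut.conjNormal g (φ.symm x)) := fun g x => rfl
  have hrange : ∀ g, Φ g ∈ (MulAut.conjNormal : Perm (Fin 6) →* MulAut A6).range := by
    have hh : ∀ g ∈ f.ker, Φ g ∈ (MulAut.conjNormal : Perm (Fin 6) →* MulAut A6).range := by
      intro g hg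
      refine ⟨(φ ⟨g, hg⟩ : Perm (Fin 6)), MulEquiv.ext fun x => Subtype.ext ?_⟩
      rw [MulAut.conjNormal_apply, hΦ]
      have e : MulAut.conjNormal g (φ.symm x) = ⟨g, hg⟩ * φ.symm x * ⟨g, hg⟩⁻¹ :=
        Subtype.ext (MulAut.conjNormal_apply g _)
      rw [e, map_mul, map_mul, map_inv, MulEquiv.apply_symm_apply]
      rfl
    have hc3 : orderOf (φ ⟨d.j f c₀, d.f_j f hf c₀⟩) = 3 := by
      haveI : Fact (Nat.Prime 3) := ⟨Nat.prime_three⟩
      rw [MulEquiv.orderOf_eq, ← Subgroup.orderOf_coe, orderOf_injective _ (d.j_inj f)]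
      exact orderOf_eq_prime c_three (by decide)
    have ht : Φ t ∈ (MulAut.conjNormal : Perm (Fin 6) →* MulAut A6).range := by
      refine aut_inner (Φ t) hc3 ?_
      rw [hΦ, MulEquiv.symm_apply_apply]
      congr 1
      exact Subtype.ext (by rw [MulAut.conjNormal_apply, ← d.j_comm, mul_inv_cancel_right])
    intro g
    rcases Int.units_eq_one_or (f g) with h | h
    · exact hh g h
    · have := mul_mem (hh (g * t) (by
        show f (g * t) = 1
        rw [map_mul, h, (Int.units_eq_one_or (f t)).resolve_left hf]; decide)) (inv_mem ht)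
      rwa [← map_inv, ← map_mul, mul_inv_cancel_right] at this
  let Ψ : G →* Perm (Fin 6) :=
    (MonoidHom.ofInjective conjNormal_injective).symm.toMonoidHom.comp (Φ.codRestrict _ hrange)
  have hinj : Function.Injective Ψ := by
    rw [injective_iff_map_eq_one]
    intro g hg
    have h1 : Φ g = 1 := congrArg Subtype.val
      ((MonoidHom.ofInjective conjNormal_injective).symm.injective (hg.trans (map_one _).symm))
    refine d.cent_ker f hf htop fun h hh => ?_
    have h2 := congrArg (fun σ : MulAut A6 => φ.symm (σ (φ ⟨h, hh⟩))) h1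
    simp only [hΦ, MulEquiv.symm_apply_apply, MulAut.one_apply] at h2
    have h3 := congrArg Subtype.val h2
    rw [MulAut.conjNormal_apply] at h3
    exact mul_inv_eq_iff_eq_mul.mp h3
  refine ⟨MulEquiv.ofBijective Ψ ((Nat.bijective_iff_injective_and_card Ψ).2 ⟨hinj, ?_⟩)⟩
  rw [← f.ker.card_mul_index, d.index_ker f hf, Nat.card_congr φ.toEquiv,
    nat_card_alternatingGroup, Nat.card_perm, Nat.card_fin]
  decide

include d in
set_option maxHeartbeats 1000000 in
/-- The dichotomy. -/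
theorem cases : centralizer ({t} : Set G) = ⊤ ∨ Nonempty (G ≃* Perm (Fin 6)) := by
  by_contra hcon
  push Not at hcon
  obtain ⟨htop, hS6⟩ := hcon
  obtain ⟨f, hf⟩ := d.exists_sign
  have hG : Nat.card G = 48 * (centralizer ({t} : Set G)).index := by
    rw [← d.card_cent, Subgroup.card_mul_index]
  have hG2 : Nat.card G = 2 * Nat.card f.ker := by
    rw [← f.ker.card_mul_index, d.index_ker f hf, mul_comm]
  obtain ⟨h7, h7eq, g₁, hg₁⟩ := d.conj_bound f hf htop
  have hs : f d.s = 1 := by rw [← d.j_z f]; exact d.f_j f hf _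
  have hso : orderOf (⟨d.s, hs⟩ : f.ker) = 2 := by
    rw [← Subgroup.orderOf_coe]
    exact orderOf_eq_prime (by rw [pow_two]; exact d.s_sq) d.s_ne
  obtain ⟨T⟩ := DihEight.exists_data hso (d.dihedral_cent f hf hs)
  set C := centralizer ({(⟨d.s, hs⟩ : f.ker)} : Set f.ker) with hCdef
  rcases T.main with h | h | h | h | h
  · have hC8 : Nat.card C = 8 := by rw [hCdef, ← T.hS]; exact T.card_S
    set O := oddCore f.ker with hOdef
    haveI : O.Normal := pPrimeCore_normal 2 _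
    set c : f.ker := ⟨d.j f c₀, d.f_j f hf c₀⟩ with hcdef
    have hcO : c ∈ O := by
      obtain ⟨k, hk, o, ho, hko⟩ := Subgroup.mem_sup_of_normal_right.mp (h.ge (mem_top c) : c ∈ C ⊔ O)
      rw [← QuotientGroup.eq_one_iff]
      have h1 : (c : f.ker ⧸ O) = (k : f.ker ⧸ O) := by
        rw [← hko, QuotientGroup.mk_mul, (QuotientGroup.eq_one_iff o).mpr ho, mul_one]
      have h8 : orderOf (c : f.ker ⧸ O) ∣ 8 := by
        rw [h1]
        exact (orderOf_map_dvd (QuotientGroup.mk' O) k).trans (hC8 ▸ Subgroup.orderOf_dvd_natCard C hk)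
      have h3 : orderOf (c : f.ker ⧸ O) ∣ 3 := by
        refine (orderOf_map_dvd (QuotientGroup.mk' O) c).trans (orderOf_dvd_of_pow_eq_one ?_)
        apply Subtype.ext
        show d.j f c₀ ^ 3 = 1
        rw [← map_pow, c_three, map_one]
      rw [← orderOf_eq_one_iff]
      exact Nat.eq_one_of_dvd_coprimes (by norm_num) h8 h3
    set z : f.ker := ⟨d.j f z₀, d.f_j f hf z₀⟩
    set v : f.ker := c * z * c⁻¹ * z⁻¹
    have hvO : v ∈ O := by
      have h4 := mul_mem hcO ((inferInstance : O.Normal).conj_mem _ (inv_mem hcO) z)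
      simpa [v, mul_assoc] using h4
    have hve : ((v : f.ker) : G) = d.j f (c₀ * z₀ * c₀⁻¹ * z₀⁻¹) := by simp [v, c, z, map_mul, map_inv]
    have hv2 : orderOf v = 2 := by
      rw [← Subgroup.orderOf_coe, hve, orderOf_injective _ (d.j_inj f)]
      exact orderOf_eq_prime (by rw [pow_two]; exact c_z.2) c_z.1
    have hdvd := Subgroup.orderOf_dvd_natCard O hvO
    rw [hv2] at hdvd
    exact (Nat.not_even_iff_odd.mpr (Cfsg.Agent.Invol.odd_card_oddCore (G := f.ker))) (even_iff_two_dvd.mpr hdvd)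
  · obtain ⟨φ⟩ := h
    rw [Nat.card_congr φ.toEquiv, Nat.card_perm, Nat.card_fin] at hG2
    simp [Nat.factorial] at hG2
    omega
  · obtain ⟨φ⟩ := h
    rw [Nat.card_congr φ.toEquiv, Nat.card_perm, Nat.card_fin] at hG2
    simp [Nat.factorial] at hG2
    omega
  · obtain ⟨φ⟩ := h
    have h168 : Nat.card f.ker = 168 := by rw [Nat.card_congr φ.toEquiv, DihEight.card_SL32]
    have hall := h7eq (by omega)
    haveI := DihEight.simple_SL32
    haveI : IsSimpleGroup f.ker := φ.isSimpleGroup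
    set N := normalClosure ({t} : Set G) with hN
    have hNC : N ≤ centralizer ({t} : Set G) := by
      rw [hN, normalClosure, closure_le]
      intro y hy
      obtain ⟨a, ha, hy'⟩ := Group.mem_conjugatesOfSet_iff.mp hy
      obtain rfl : a = t := ha
      obtain ⟨g, rfl⟩ := isConj_iff.mp hy'
      exact hall g
    rcases (inferInstance : (N.subgroupOf f.ker).Normal).eq_bot_or_eq_top with hb | hb
    · have hu : d.j f u₀ ∈ N := by
        have ha : t ∈ N := subset_normalClosure (Set.mem_singleton t)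
        have := mul_mem ha ((normalClosure_normal : N.Normal).conj_mem t ha g₁)
        rwa [hg₁, ← mul_assoc, d.t_sq, one_mul] at this
      have : (⟨_, d.f_j f hf u₀⟩ : f.ker) ∈ N.subgroupOf f.ker := hu
      rw [hb, Subgroup.mem_bot] at this
      have := d.j_inj f ((congrArg Subtype.val this).trans (map_one _).symm)
      revert this; decide
    · rw [Subgroup.subgroupOf_eq_top] at hb
      have := Subgroup.card_le_of_le (hb.trans hNC)
      rw [d.card_cent] at this
      omega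
  · obtain ⟨φ⟩ := h
    obtain ⟨e⟩ := d.sym_six f hf htop φ
    exact hS6.false e

end Dat

theorem exists_dat {G : Type*} [Group G] [Finite G] {t : G} (ht : orderOf t = 2)
    (T : Sylow 2 G) (htT : t ∈ (T : Subgroup G)) (htc : ∀ s ∈ (T : Subgroup G), s * t = t * s)
    (e : ↥(Subgroup.centralizer ({t} : Set G)) ≃* (Z2 × S4))
    (h2 : ∀ S : Sylow 2 G, Subgroup.centralizer ((⁅(S : Subgroup G), (S : Subgroup G)⁆ : Subgroup G) : Set G) = (S : Subgroup G)) :
    Nonempty (Dat t) := by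
  haveI : Fact (Nat.Prime 2) := ⟨Nat.prime_two⟩
  set C := centralizer ({t} : Set G) with hC
  set ι : Z2 × S4 →* G := C.subtype.comp e.symm.toMonoidHom with hι
  have hinj : Function.Injective ι := C.subtype_injective.comp e.symm.injective
  have htC : t ∈ C := mem_centralizer_singleton_iff.mpr rfl
  have het : e ⟨t, htC⟩ = (aa, 1) := by
    refine center_pair _ (fun h => ?_) (fun q => ?_)
    · rw [MulEquiv.map_eq_one_iff] at h
      rw [show t = 1 from congrArg Subtype.val h, orderOf_one] at ht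
      omega
    · obtain ⟨q, rfl⟩ := e.surjective q
      rw [← map_mul, ← map_mul]
      exact congrArg e (Subtype.ext (mem_centralizer_singleton_iff.mp q.2))
  have hrange : ι.range = C := by
    ext y
    exact ⟨fun ⟨p, hp⟩ => hp ▸ (e.symm p).2, fun hy => ⟨e ⟨y, hy⟩, by simp [hι]⟩⟩
  set T₀ : Subgroup G := ((⊤ : Subgroup Z2).prod D₀).map ι with hT₀
  have h16 : Nat.card T₀ = 16 := by
    rw [hT₀, ← Nat.card_congr (Subgroup.equivMapOfInjective _ _ hinj).toEquiv,
      Nat.card_congr (Subgroup.prodEquiv _ _).toEquiv, Nat.card_prod, card_D₀, Subgroup.card_top,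
      Nat.card_eq_fintype_card]
    rfl
  obtain ⟨P, hP⟩ := (IsPGroup.of_card (n := 4) (p := 2) (G := T₀) h16).exists_le_sylow
  have hPT : (P : Subgroup G) = T₀ := by
    refine (Subgroup.eq_of_le_of_card_ge hP ?_).symm
    rw [h16, P.card_eq_multiplicity, ← T.card_eq_multiplicity]
    have hTC : (T : Subgroup G) ≤ C := fun s hs => mem_centralizer_singleton_iff.mpr (htc s hs)
    have hd : Nat.card (T : Subgroup G) ∣ 48 := by
      have h := Subgroup.card_dvd_of_le hTC
      have h48 : Nat.card C = 48 := by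
        rw [Nat.card_congr e.toEquiv, Nat.card_prod, Nat.card_eq_fintype_card, Nat.card_perm,
          Nat.card_fin]
        rfl
      rwa [h48] at h
    obtain ⟨k, hk⟩ := IsPGroup.iff_card.mp T.2
    rw [hk] at hd ⊢
    have : k ≤ 4 := by
      by_contra hlt
      have := (Nat.pow_dvd_pow 2 (show 5 ≤ k by omega)).trans hd
      norm_num at this
    exact (Nat.pow_le_pow_right (by norm_num) this)
  refine ⟨⟨ι, hinj, ?_, hrange, ?_⟩⟩
  · rw [← het]; simp [hι]
  have hcomm : ⁅T₀, T₀⁆ = zpowers (ι (1, z₀)) := by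
    refine le_antisymm (Subgroup.commutator_le.mpr ?_) ?_
    · rintro _ ⟨⟨b₁, σ₁⟩, h₁, rfl⟩ _ ⟨⟨b₂, σ₂⟩, h₂, rfl⟩
      rw [← map_commutatorElement]
      have hp : ⁅(b₁, σ₁), (b₂, σ₂)⁆ = ((1 : Z2), σ₁ * σ₂ * σ₁⁻¹ * σ₂⁻¹) := by
        rw [commutatorElement_def]; ext <;> simp
      rw [hp]
      rcases comm_D₀ σ₁ σ₂ (mem_D₀.mp h₁.2) (mem_D₀.mp h₂.2) with hc | hc <;> rw [hc]
      · rw [show ((1 : Z2), (1 : S4)) = 1 from rfl, map_one]; exact one_mem _
      · exact mem_zpowers _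
    · rw [zpowers_le]
      have hp : ((1 : Z2), z₀) = ⁅((1 : Z2), r₀), ((1 : Z2), u₀)⁆ := by
        rw [commutatorElement_def, ← z_comm]; ext <;> simp
      rw [hp, map_commutatorElement]
      exact Subgroup.commutator_mem_commutator ⟨_, ⟨trivial, mem_D₀.mpr r_mem⟩, rfl⟩
        ⟨_, ⟨trivial, mem_D₀.mpr u_mem⟩, rfl⟩
  have h := h2 P
  rw [hPT, hcomm, zpowers_eq_closure, centralizer_closure] at h
  exact h

/-- Let G be a finite group of even order such that (1) some involution t lying in the centre of a Sylow 2-subgroup of G has C_G(t) ≅ Z₂ × S₄, and (2) every Sylow 2-subgroup S of G satisfies C_G(S′) = S, where S′ is the derived subgroup of S. Then G = C_G(t) if G is solvable, and G ≅ S₆ otherwise. -/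
theorem result {G : Type*} [Group G] [Finite G] (hev : Even (Nat.card G))
    (t : G) (ht : orderOf t = 2) (T : Sylow 2 G) (htT : t ∈ (T : Subgroup G)) (htc : ∀ s ∈ (T : Subgroup G), s * t = t * s)
    (e : ↥(Subgroup.centralizer ({t} : Set G)) ≃* (Multiplicative (ZMod 2) × Equiv.Perm (Fin 4)))
    (h2 : ∀ S : Sylow 2 G, Subgroup.centralizer ((⁅(S : Subgroup G), (S : Subgroup G)⁆ : Subgroup G) : Set G) = (S : Subgroup G)) :
    (Group.IsSolvable G → Subgroup.centralizer ({t} : Set G) = ⊤) ∧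
      (¬ Group.IsSolvable G → Nonempty (G ≃* Equiv.Perm (Fin 6))) := by
  obtain ⟨d⟩ := exists_dat ht T htT htc e h2
  rcases d.cases with h | ⟨⟨φ⟩⟩
  · refine ⟨fun _ => h, fun hns => absurd ?_ hns⟩
    haveI : Group.IsSolvable (Equiv.Perm (Fin 4)) := Zassenhaus.perm_fin_four_isSolvable
    have htop : Function.Surjective d.ι := fun y => by
      have := d.range.ge (h.ge (Subgroup.mem_top y))
      exact this
    exact solvable_of_surjective htop
  · refine ⟨fun hs => ?_, fun _ => ⟨φ⟩⟩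
    haveI := hs
    exact absurd (solvable_of_surjective (f := φ.toMonoidHom) φ.surjective)
      (Equiv.Perm.not_solvable _ (by rw [Cardinal.mk_fin]; norm_num))

end Cfsg.Agent.S3222
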