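import Cfsg.Statements.S3261
import Cfsg.Agent.Lib.LocalEvenB.DihEightOne
import Cfsg.Agent.Lib.Invol.Dihedral

set_option autoImplicit false
open Cfsg

namespace Cfsg.Agent.S3261

theorem alt_six_centralizer (αt : ↥(alternatingGroup (Fin 6))) (hαt : orderOf αt = 2)
    (hsupp : (αt : Equiv.Perm (Fin 6)).support.card = 4) :
    Nonempty (↥(Subgroup.centralizer ({αt} : Set ↥(alternatingGroup (Fin 6)))) ≃* DihedralGroup 4) := by
  classical
  let t₀ : alternatingGroup (Fin 6) :=
    ⟨Equiv.swap 0 1 * Equiv.swap 2 3, Equiv.Perm.mem_alternatingGroup.2 (by decide)⟩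
  let σ : alternatingGroup (Fin 6) :=
    ⟨Equiv.swap 0 2 * Equiv.swap 2 1 * Equiv.swap 1 3 * Equiv.swap 4 5,
      Equiv.Perm.mem_alternatingGroup.2 (by decide)⟩
  let τ : alternatingGroup (Fin 6) :=
    ⟨Equiv.swap 0 2 * Equiv.swap 1 3, Equiv.Perm.mem_alternatingGroup.2 (by decide)⟩
  have hcard : Nat.card (Subgroup.centralizer ({t₀} : Set (alternatingGroup (Fin 6)))) = 8 := by
    rw [Nat.card_congr (Equiv.subtypeEquivRight (fun g => Subgroup.mem_centralizer_singleton_iff
      (k := g) (g := t₀))), Nat.card_eq_fintype_card]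
    decide +kernel
  have hσo : orderOf σ = 4 := by
    haveI : Fact (Nat.Prime 2) := ⟨Nat.prime_two⟩
    exact orderOf_eq_prime_pow (p := 2) (n := 1) (by decide) (by decide)
  have hmem : Subgroup.closure ({τ, σ} : Set (alternatingGroup (Fin 6))) ≤
      Subgroup.centralizer {t₀} := by
    rw [Subgroup.closure_le]
    rintro x (rfl | rfl) <;> rw [SetLike.mem_coe, Subgroup.mem_centralizer_singleton_iff] <;> decide
  have hnm : τ ∉ Subgroup.zpowers σ := by
    intro h
    obtain ⟨k, hk⟩ := mem_powers_iff_mem_zpowers.2 h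
    have hk' : σ ^ (k % 4) = τ := by
      rw [← hσo, pow_mod_orderOf]; exact hk
    have : k % 4 < 4 := Nat.mod_lt _ (by norm_num)
    interval_cases hh : k % 4 <;> revert hk' <;> decide
  obtain ⟨e⟩ := Cfsg.Agent.Invol.nonempty_dihedralEquiv (t := τ) (d := σ) (by decide) (by decide) hnm
  rw [hσo] at e
  have hcl : Subgroup.closure ({τ, σ} : Set (alternatingGroup (Fin 6))) =
      Subgroup.centralizer {t₀} := by
    refine Subgroup.eq_of_le_of_card_ge hmem ?_
    rw [hcard, ← Nat.card_congr e.toEquiv, DihedralGroup.nat_card]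
  -- transport along a permutation conjugating `t₀` to the given element
  have hcyc : ∀ g : Equiv.Perm (Fin 6), g ^ 2 = 1 → g.support.card = 4 →
      g.cycleType = {2, 2} := by
    intro g hg hs
    have hsum := g.sum_cycleType
    have hall : ∀ n ∈ g.cycleType, n = 2 := by
      intro n hn
      have h1 := Equiv.Perm.two_le_of_mem_cycleType hn
      have h2 : n ∣ 2 := (Equiv.Perm.dvd_of_mem_cycleType hn).trans (orderOf_dvd_of_pow_eq_one hg)
      have := Nat.le_of_dvd (by norm_num) h2
      omega
    rw [Multiset.eq_replicate_of_mem hall, Multiset.sum_replicate, hs, smul_eq_mul] at hsum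
    rw [Multiset.eq_replicate_of_mem hall, show Multiset.card g.cycleType = 2 by omega]
    rfl
  have hα2 : (αt : Equiv.Perm (Fin 6)) ^ 2 = 1 := by
    rw [← SubmonoidClass.coe_pow, ← hαt, pow_orderOf_eq_one]; rfl
  have hconj : IsConj ((t₀ : Equiv.Perm (Fin 6))) (αt : Equiv.Perm (Fin 6)) := by
    rw [Equiv.Perm.isConj_iff_cycleType_eq, hcyc _ hα2 hsupp, hcyc _ (by decide) (by decide)]
  obtain ⟨c, hc⟩ := isConj_iff.1 hconj
  have hcn : (alternatingGroup (Fin 6)).map (MulAut.conj c).toMonoidHom = alternatingGroup (Fin 6) :=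
    Subgroup.Normal.map_conj_eq (H := alternatingGroup (Fin 6)) c
  let φ : alternatingGroup (Fin 6) ≃* alternatingGroup (Fin 6) :=
    ((MulAut.conj c).subgroupMap (alternatingGroup (Fin 6))).trans (MulEquiv.subgroupCongr hcn)
  have hφ : φ t₀ = αt := Subtype.ext hc
  have himg : (Subgroup.centralizer ({t₀} : Set (alternatingGroup (Fin 6)))).map φ.toMonoidHom =
      Subgroup.centralizer {αt} := by
    ext w
    rw [Subgroup.mem_map_equiv, Subgroup.mem_centralizer_singleton_iff,
      Subgroup.mem_centralizer_singleton_iff, ← hφ]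
    constructor
    · intro h
      have := congrArg φ h
      simpa using this
    · intro h
      have := congrArg φ.symm h
      simpa using this
  exact ⟨((φ.subgroupMap _).trans (MulEquiv.subgroupCongr himg)).symm.trans
    ((MulEquiv.subgroupCongr hcl).symm.trans e.symm)⟩

/-- Let α̃ be an involution of the alternating group A₆ that is a product of two disjoint transpositions (it lies in the centre of a Sylow 2-subgroup of A₆; its centralizer is dihedral of order 8). Let G be a finite group that has no subgroup of index 2 and contains an involution α, central in some Sylow 2-subgroup of G, with C_G(α) ≅ C_{A₆}(α̃). Then G is isomorphic to A₆ or to PSL₂(7). -/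
theorem result {G : Type*} [Group G] [Finite G]
    (hG : ∀ H : Subgroup G, H.index ≠ 2)
    (αt : ↥(alternatingGroup (Fin 6))) (hαt : orderOf αt = 2) (hsupp : (αt : Equiv.Perm (Fin 6)).support.card = 4)
    (α : G) (hα : orderOf α = 2) (S : Sylow 2 G) (hαS : α ∈ (S : Subgroup G)) (hαc : ∀ s ∈ (S : Subgroup G), s * α = α * s)
    (e : ↥(Subgroup.centralizer ({α} : Set G)) ≃* ↥(Subgroup.centralizer ({αt} : Set ↥(alternatingGroup (Fin 6))))) :
    Nonempty (G ≃* ↥(alternatingGroup (Fin 6))) ∨
      (∃ (F : Type) (_ : Field F) (_ : Fintype F), Fintype.card F = 7 ∧ Nonempty (G ≃* Matrix.ProjectiveSpecialLinearGroup (Fin 2) F)) := by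
      obtain ⟨e0⟩ := alt_six_centralizer αt hαt hsupp
      obtain ⟨T⟩ := Cfsg.Agent.DihEight.exists_data hα ⟨e.trans e0⟩
      have hz := T.hz
      have h0 := T.D.fused_of_no_index_two hG 0
      have h1 := T.D.fused_of_no_index_two hG 1
      have hcard := T.card_eq h0 h1
      haveI := T.simple_of_one_class (by rw [← hz] at h0; exact h0) (by rw [← hz] at h1; exact h1)
      rcases hcard with h | h
      · refine Or.inr ⟨ZMod 7, @ZMod.instField 7 ⟨by norm_num⟩, inferInstance, ZMod.card 7, ?_⟩
        haveI : Fact (Nat.Prime 7) := ⟨by norm_num⟩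
        exact S0495.result h (ZMod.card 7)
      · exact Or.inl (S0497.result h)

end Cfsg.Agent.S3261
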