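import Cfsg.Statements.S3265
import Cfsg.Agent.Lib.Invol.Basic

set_option autoImplicit false
open Cfsg

namespace Cfsg.Agent.S3265

open Equiv

variable {α : Type*} [Fintype α] [DecidableEq α]

omit [DecidableEq α] in
/-- A permutation has odd order if it returns to `T` in odd steps along a permutation of odd order. -/
theorem odd_of_return (R R' : Perm α) (T : Finset α)
    (h : ∀ u ∈ T, R' u ∈ T ∧ ∃ i : ℕ, (R ^ (2 * i + 1)) u = R' u)
    (hrest : ∀ u ∉ T, (∃ j : ℕ, (R ^ j) u ∈ T) ∨ ∃ i : ℕ, (R ^ (2 * i + 1)) u = u)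
    (hodd : Odd (orderOf R')) : Odd (orderOf R) := by
  have key : ∀ N : ℕ, ∀ u ∈ T, (R' ^ N) u ∈ T ∧ ∃ i : ℕ, (R ^ (2 * i + N)) u = (R' ^ N) u := by
    intro N
    induction N with
    | zero => exact fun u hu => ⟨hu, 0, rfl⟩
    | succ N ih =>
      intro u hu
      obtain ⟨hm, i, hi⟩ := ih u hu
      obtain ⟨hm', k, hk⟩ := h _ hm
      rw [pow_succ', Perm.mul_apply]
      exact ⟨hm', i + k, by
        rw [show 2 * (i + k) + (N + 1) = (2 * k + 1) + (2 * i + N) by ring, pow_add, Perm.mul_apply, hi, hk]⟩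
  have hT : ∀ u ∈ T, ∃ M : ℕ, Odd M ∧ (R ^ M) u = u := fun u hu => by
    obtain ⟨-, i, hi⟩ := key (orderOf R') u hu
    rw [pow_orderOf_eq_one, Perm.one_apply] at hi
    exact ⟨_, (even_two_mul i).add_odd hodd, hi⟩
  have hall : ∀ u, ∃ M : ℕ, Odd M ∧ (R ^ M) u = u := fun u => by
    by_cases hu : u ∈ T
    · exact hT u hu
    rcases hrest u hu with ⟨j, hj⟩ | ⟨i, hi⟩
    · obtain ⟨M, hM, hMe⟩ := hT _ hj
      refine ⟨M, hM, (R ^ j).injective ?_⟩
      rw [← Perm.mul_apply, ← pow_add, add_comm, pow_add, Perm.mul_apply, hMe]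
    · exact ⟨_, odd_two_mul_add_one i, hi⟩
  choose M hM hMe using hall
  refine (Finset.prod_induction M Odd (fun _ _ => Odd.mul) odd_one (s := Finset.univ) fun u _ => hM u).of_dvd_nat
    (orderOf_dvd_of_pow_eq_one ?_)
  ext u
  obtain ⟨k, hk⟩ := Finset.dvd_prod_of_mem M (Finset.mem_univ u)
  rw [Perm.one_apply, hk, pow_mul]
  clear hk
  induction k with
  | zero => rfl
  | succ k ih => rw [pow_succ, Perm.mul_apply, hMe, ih]

/-- The hypotheses carried through the induction. -/
structure Inp (S : Finset α) (x y : Perm α) : Prop where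
  xS : ∀ u, u ∉ S → x u = u
  yS : ∀ u, u ∉ S → y u = u
  xx : ∀ u, x (x u) = u
  yy : ∀ u, y (y u) = u
  bal : x.support.card = y.support.card

/-- The exceptional four-point configuration. -/
def Exc (S : Finset α) (x y : Perm α) : Prop :=
  S.card = 4 ∧ ∀ u ∈ S, x u ≠ u ∧ y u ≠ u ∧ x u ≠ y u

/-- A common neighbour supported on `S`. -/
def Good (S : Finset α) (x y : Perm α) : Prop :=
  ∃ z : Perm α, (∀ u, u ∉ S → z u = u) ∧ (∀ u, z (z u) = u) ∧ Odd (orderOf (x * z)) ∧ Odd (orderOf (z * y))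

theorem Inp.xmem {S : Finset α} {x y : Perm α} (h : Inp S x y) {u : α} (hu : u ∈ S) : x u ∈ S := by
  by_contra hn
  exact hn (by rw [x.injective ((h.xS _ hn))]; exact hu)

theorem Inp.ymem {S : Finset α} {x y : Perm α} (h : Inp S x y) {u : α} (hu : u ∈ S) : y u ∈ S := by
  by_contra hn
  exact hn (by rw [y.injective ((h.yS _ hn))]; exact hu)

/-- An explicit configuration on `k` points. -/
theorem explicit {k : ℕ} {S : Finset α} {x y : Perm α} (hi : Inp S x y) (f : Fin k → α)
    (hf : Function.Injective f) (hS : ∀ u, u ∈ S → ∃ i, f i = u) (hfS : ∀ i, f i ∈ S)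
    (σ τ ζ : Fin k → Fin k) (hσ : ∀ i, x (f i) = f (σ i)) (hτ : ∀ i, y (f i) = f (τ i))
    (hζ : ∀ i, ζ (ζ i) = i) (N : ℕ) (hN : Odd N)
    (h1 : ∀ i, (σ ∘ ζ)^[N] i = i) (h2 : ∀ i, (ζ ∘ τ)^[N] i = i) : Good S x y := by
  classical
  let z : Perm α := (Function.Involutive.toPerm ζ hζ).extendDomain (Equiv.ofInjective f hf)
  have hz : ∀ i, z (f i) = f (ζ i) := fun i => by
    show (Function.Involutive.toPerm ζ hζ).extendDomain (Equiv.ofInjective f hf) (f i) = _
    have := Perm.extendDomain_apply_image (Function.Involutive.toPerm ζ hζ) (Equiv.ofInjective f hf) i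
    simp only [Equiv.ofInjective_apply] at this
    exact this
  have hzS : ∀ u, u ∉ S → z u = u := fun u hu =>
    Perm.extendDomain_apply_not_subtype _ _ (by rintro ⟨i, rfl⟩; exact hu (hfS i))
  refine ⟨z, hzS, fun u => ?_, ?_, ?_⟩
  · by_cases hu : u ∈ S
    · obtain ⟨i, rfl⟩ := hS u hu
      rw [hz, hz, hζ]
    · rw [hzS u hu, hzS u hu]
  · obtain ⟨m, hm⟩ := hN
    refine odd_of_return _ 1 ∅ (by simp) (fun u _ => Or.inr ?_) (by simp)
    by_cases hu : u ∈ S
    · obtain ⟨i, rfl⟩ := hS u hu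
      have e : ∀ j : ℕ, ((x * z) ^ j) (f i) = f ((σ ∘ ζ)^[j] i) := fun j => by
        induction j with
        | zero => rfl
        | succ j ih => rw [pow_succ', Perm.mul_apply, ih, Function.iterate_succ_apply', Perm.mul_apply, hz, hσ]; rfl
      exact ⟨m, by rw [e, ← hm, h1]⟩
    · exact ⟨0, by simp [hzS u hu, hi.xS u hu]⟩
  · obtain ⟨m, hm⟩ := hN
    refine odd_of_return _ 1 ∅ (by simp) (fun u _ => Or.inr ?_) (by simp)
    by_cases hu : u ∈ S
    · obtain ⟨i, rfl⟩ := hS u hu
      have e : ∀ j : ℕ, ((z * y) ^ j) (f i) = f ((ζ ∘ τ)^[j] i) := fun j => by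
        induction j with
        | zero => rfl
        | succ j ih => rw [pow_succ', Perm.mul_apply, ih, Function.iterate_succ_apply', Perm.mul_apply, hτ, hz]; rfl
      exact ⟨m, by rw [e, ← hm, h2]⟩
    · exact ⟨0, by simp [hzS u hu, hi.yS u hu]⟩

/-- Four exceptional points. -/
theorem exc_points {S : Finset α} {x y : Perm α} (hi : Inp S x y) (h : Exc S x y) :
    ∃ a b c d : α, a ≠ b ∧ a ≠ c ∧ a ≠ d ∧ b ≠ c ∧ b ≠ d ∧ c ≠ d ∧ S = {a, b, c, d} ∧
      x a = b ∧ x b = a ∧ x c = d ∧ x d = c ∧ y a = c ∧ y c = a ∧ y b = d ∧ y d = b := by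
  obtain ⟨hc, hp⟩ := h
  obtain ⟨a, ha⟩ := Finset.card_pos.1 (show 0 < S.card by omega)
  obtain ⟨h1, h2, h3⟩ := hp a ha
  obtain ⟨d, hd, hd'⟩ : ∃ d ∈ S, d ∉ ({a, x a, y a} : Finset α) := by
    by_contra hn
    push Not at hn
    have := Finset.card_le_card (fun u hu => hn u hu : S ⊆ {a, x a, y a})
    have := Finset.card_le_three (a := a) (b := x a) (c := y a)
    omega
  simp only [Finset.mem_insert, Finset.mem_singleton, not_or] at hd'
  obtain ⟨da, db, dc⟩ := hd'
  have hsub : ({a, x a, y a, d} : Finset α) ⊆ S := by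
    intro u hu
    simp only [Finset.mem_insert, Finset.mem_singleton] at hu
    rcases hu with rfl | rfl | rfl | rfl
    exacts [ha, hi.xmem ha, hi.ymem ha, hd]
  have h4 : ({a, x a, y a, d} : Finset α).card = 4 :=
    Finset.card_eq_four.2 ⟨a, x a, y a, d, Ne.symm h1, Ne.symm h2, Ne.symm da, h3, Ne.symm db, Ne.symm dc, rfl⟩
  have hS : S = {a, x a, y a, d} := (Finset.eq_of_subset_of_card_le hsub (by omega)).symm
  have hxd : x d = y a := by
    have := hi.xmem hd
    rw [hS] at this
    simp only [Finset.mem_insert, Finset.mem_singleton] at this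
    rcases this with e | e | e | e
    · exact absurd (by rw [← e, hi.xx]) db
    · exact absurd (x.injective e) da
    · exact e
    · exact absurd e (hp d hd).1
  have hyd : y d = x a := by
    have := hi.ymem hd
    rw [hS] at this
    simp only [Finset.mem_insert, Finset.mem_singleton] at this
    rcases this with e | e | e | e
    · exact absurd (by rw [← e, hi.yy]) dc
    · exact e
    · exact absurd (y.injective e) da
    · exact absurd e (hp d hd).2.1
  exact ⟨a, x a, y a, d, Ne.symm h1, Ne.symm h2, Ne.symm da, h3, Ne.symm db, Ne.symm dc, hS, rfl,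
    hi.xx a, by rw [← hxd, hi.xx], hxd, rfl, hi.yy a, by rw [← hyd, hi.yy], hyd⟩

theorem good_card {S : Finset α} {x y : Perm α} (hi : Inp S x y) (hx : x = y) : Good S x y := by
  have h1 : x * x = 1 := Equiv.ext hi.xx
  exact ⟨x, hi.xS, hi.xx, by rw [h1, orderOf_one]; exact odd_one,
    by rw [← hx, h1, orderOf_one]; exact odd_one⟩

/-- Combining a solution on an invariant set with one on the rest. -/
theorem glue {S T : Finset α} {x y x' y' z0 : Perm α} (hi : Inp S x y) (hTS : T ⊆ S)
    (hx' : ∀ u, x' u = if u ∈ T then u else x u) (hy' : ∀ u, y' u = if u ∈ T then u else y u)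
    (hT : ∀ u ∈ T, x u ∈ T ∧ y u ∈ T) (hz0 : ∀ u ∈ T, z0 u ∈ T ∧ z0 (z0 u) = u)
    (h1 : ∀ u ∈ T, ∃ i : ℕ, ((x * z0) ^ (2 * i + 1)) u = u)
    (h2 : ∀ u ∈ T, ∃ i : ℕ, ((z0 * y) ^ (2 * i + 1)) u = u)
    (hrec : Good (S \ T) x' y') : Good S x y := by
  have hxx := hi.xx
  have hyy := hi.yy
  obtain ⟨z', hz1, hz2, ho1, ho2⟩ := hrec
  have hzT : ∀ u ∈ T, z' u = u := fun u hu => hz1 u (by simp [hu])
  have hz'T : ∀ u, u ∉ T → z' u ∉ T := fun u hu h => hu (by
    have := hzT _ h; rw [hz2] at this; exact this ▸ h)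
  let z : Perm α := Function.Involutive.toPerm (fun u => if u ∈ T then z0 u else z' u)
    (fun u => by have := hz0 u; have := hz'T u; have := hz2 u; grind)
  have hz : ∀ u, z u = if u ∈ T then z0 u else z' u := fun u => rfl
  have hxT : ∀ u, u ∉ T → x u ∉ T := fun u hu h => hu (by
    have := (hT _ h).1; rwa [hxx] at this)
  have hyT : ∀ u, u ∉ T → y u ∉ T := fun u hu h => hu (by
    have := (hT _ h).2; rwa [hyy] at this)
  refine ⟨z, fun u hu => ?_, fun u => by rw [hz, hz]; have := hz0 u; have := hz'T u; have := hz2 u; grind, ?_, ?_⟩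
  · rw [hz, if_neg (fun h => hu (hTS h)), hz1 u (fun h => hu (Finset.mem_sdiff.1 h).1)]
  · refine odd_of_return _ (x' * z') Tᶜ (fun u hu => ?_) (fun u hu => ?_) ho1
    · rw [Finset.mem_compl] at hu
      refine ⟨Finset.mem_compl.2 ?_, 0, ?_⟩
      · rw [Perm.mul_apply, hx', if_neg (hz'T u hu)]; exact hxT _ (hz'T u hu)
      · simp [Perm.mul_apply, hz, hx', hu, hz'T u hu]
    · rw [Finset.mem_compl, not_not] at hu
      obtain ⟨i, hi'⟩ := h1 u hu
      have e : ∀ j : ℕ, ((x * z0) ^ j) u ∈ T ∧ ((x * z) ^ j) u = ((x * z0) ^ j) u := fun j => by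
        induction j with
        | zero => exact ⟨hu, rfl⟩
        | succ j ih =>
          rw [pow_succ', pow_succ']
          simp only [Perm.mul_apply]
          refine ⟨(hT _ (hz0 _ ih.1).1).1, ?_⟩
          rw [ih.2, hz, if_pos ih.1]
      exact Or.inr ⟨i, by rw [(e _).2, hi']⟩
  · refine odd_of_return _ (z' * y') Tᶜ (fun u hu => ?_) (fun u hu => ?_) ho2
    · rw [Finset.mem_compl] at hu
      refine ⟨Finset.mem_compl.2 ?_, 0, ?_⟩
      · rw [Perm.mul_apply, hy', if_neg hu]; exact hz'T _ (hyT u hu)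
      · simp [Perm.mul_apply, hz, hy', hu, hyT u hu]
    · rw [Finset.mem_compl, not_not] at hu
      obtain ⟨i, hi'⟩ := h2 u hu
      have e : ∀ j : ℕ, ((z0 * y) ^ j) u ∈ T ∧ ((z * y) ^ j) u = ((z0 * y) ^ j) u := fun j => by
        induction j with
        | zero => exact ⟨hu, rfl⟩
        | succ j ih =>
          rw [pow_succ', pow_succ']
          simp only [Perm.mul_apply]
          refine ⟨(hz0 _ (hT _ ih.1).2).1, ?_⟩
          rw [ih.2, hz, if_pos (hT _ ih.1).2]
      exact Or.inr ⟨i, by rw [(e _).2, hi']⟩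

theorem step {n : ℕ} (ih : ∀ (S : Finset α) (x y : Perm α), S.card < n → Inp S x y → ¬ Exc S x y → Good S x y)
    (S : Finset α) (x y : Perm α) (hn : S.card ≤ n) (hi : Inp S x y) (hne : ¬ Exc S x y) : Good S x y := by
  classical
  have memS : ∀ {g : Perm α}, (∀ u, u ∉ S → g u = u) → ∀ {u}, g u ≠ u → u ∈ S :=
    fun hg u hu => by_contra fun h => hu (hg u h)
  by_cases hB : ∃ b, x b ≠ b ∧ y b = b
  · -- an end of each kind
    obtain ⟨b, hb1, hb2⟩ := hB
    obtain ⟨q, hq1, hq2⟩ : ∃ q, x q = q ∧ y q ≠ q := by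
      by_contra hq
      push Not at hq
      have hsub : y.support ⊂ x.support := by
        refine Finset.ssubset_iff_of_subset (fun u hu => ?_) |>.2 ⟨b, Perm.mem_support.2 hb1, fun h => Perm.mem_support.1 h hb2⟩
        rw [Perm.mem_support] at hu ⊢
        exact fun h => hu (hq u h)
      exact absurd hi.bal (Finset.card_lt_card hsub).ne'
    have hbq : b ≠ q := fun h => hb1 (h ▸ hq1)
    have hbS := memS hi.xS hb1
    have hqS := memS hi.yS hq2
    have hxx := hi.xx
    have hyy := hi.yy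
    let x' : Perm α := Function.Involutive.toPerm (fun u => if u = b ∨ u = x b then u else x u)
      (fun u => by grind)
    let y' : Perm α := Function.Involutive.toPerm (fun u => if u = q ∨ u = y q then u else y u)
      (fun u => by grind)
    have hx' : ∀ u, x' u = if u = b ∨ u = x b then u else x u := fun u => rfl
    have hy' : ∀ u, y' u = if u = q ∨ u = y q then u else y u := fun u => rfl
    obtain ⟨S', hS'⟩ : ∃ S', S' = (S.erase b).erase q := ⟨_, rfl⟩
    have hmem : ∀ u, u ∈ S' ↔ u ≠ q ∧ u ≠ b ∧ u ∈ S := fun u => by simp [hS', and_assoc]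
    have sx : x'.support = x.support \ {b, x b} := by
      ext u
      simp only [Perm.mem_support, Finset.mem_sdiff, Finset.mem_insert, Finset.mem_singleton, hx']
      grind
    have sy : y'.support = y.support \ {q, y q} := by
      ext u
      simp only [Perm.mem_support, Finset.mem_sdiff, Finset.mem_insert, Finset.mem_singleton, hy']
      grind
    have hi' : Inp S' x' y' := by
      refine ⟨fun u hu => ?_, fun u hu => ?_, fun u => by rw [hx', hx']; grind, fun u => by rw [hy', hy']; grind, ?_⟩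
      · have := hi.xS u; rw [hx']; rw [hmem] at hu; grind
      · have := hi.yS u; rw [hy']; rw [hmem] at hu; grind
      · rw [sx, sy, Finset.card_sdiff_of_subset, Finset.card_sdiff_of_subset, Finset.card_pair (Ne.symm hb1),
          Finset.card_pair (Ne.symm hq2), hi.bal] <;>
          simp [Finset.insert_subset_iff, Perm.mem_support, hb1, hq2, hxx, hyy, Ne.symm hb1, Ne.symm hq2]
    have hne' : ¬ Exc S' x' y' := fun he => by
      have hxbq : x b ≠ q := fun h => hb1 (by
        have := hxx b; rw [h, hq1] at this; rw [h, this])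
      exact (he.2 (x b) ((hmem _).2 ⟨hxbq, hb1, hi.xmem hbS⟩)).1 (by rw [hx']; simp)
    have hlt : S'.card < n := by
      have h1 : S' ⊆ S.erase b := hS' ▸ Finset.erase_subset _ _
      have := Finset.card_le_card h1
      have := Finset.card_erase_lt_of_mem hbS
      omega
    obtain ⟨z', hz1, hz2, ho1, ho2⟩ := ih S' x' y' hlt hi' hne'
    have hzb : z' b = b := hz1 b (by simp [hmem])
    have hzq : z' q = q := hz1 q (by simp [hmem])
    let z : Perm α := Function.Involutive.toPerm (fun u => if u = b then q else if u = q then b else z' u)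
      (fun u => by grind)
    have hz : ∀ u, z u = if u = b then q else if u = q then b else z' u := fun u => rfl
    have hz'S : ∀ u, u ≠ b → u ≠ q → z' u ≠ b ∧ z' u ≠ q := fun u h1 h2 =>
      ⟨fun h => h1 (z'.injective (h.trans hzb.symm)), fun h => h2 (z'.injective (h.trans hzq.symm))⟩
    refine ⟨z, fun u hu => ?_, fun u => by rw [hz, hz]; grind, ?_, ?_⟩
    · have : u ∉ S' := fun h => hu ((hmem u).1 h).2.2
      rw [hz, hz1 u this]; grind
    · refine odd_of_return _ (x' * z') ({b, q} : Finset α)ᶜ (fun u hu => ?_) (fun u hu => ?_) ho1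
      · simp only [Finset.mem_compl, Finset.mem_insert, Finset.mem_singleton, not_or] at hu ⊢
        refine ⟨by simp only [Perm.mul_apply, hx']; grind, ?_⟩
        by_cases h : z' u = x b
        · exact ⟨1, by simp [pow_succ, Perm.mul_apply, hz, hx']; grind⟩
        · exact ⟨0, by simp [Perm.mul_apply, hz, hx']; grind⟩
      · simp only [Finset.mem_compl, Finset.mem_insert, Finset.mem_singleton, not_not] at hu
        left
        rcases hu with rfl | rfl
        · exact ⟨2, by simp [pow_succ, Perm.mul_apply, hz]; grind⟩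
        · exact ⟨1, by simp [pow_succ, Perm.mul_apply, hz]; grind⟩
    · refine odd_of_return _ (z' * y') ({b, q} : Finset α)ᶜ (fun u hu => ?_) (fun u hu => ?_) ho2
      · simp only [Finset.mem_compl, Finset.mem_insert, Finset.mem_singleton, not_or] at hu ⊢
        refine ⟨by simp only [Perm.mul_apply, hy']; grind, ?_⟩
        by_cases h : u = y q
        · exact ⟨1, by simp [pow_succ, Perm.mul_apply, hz, hy']; grind⟩
        · exact ⟨0, by simp [Perm.mul_apply, hz, hy']; grind⟩
      · simp only [Finset.mem_compl, Finset.mem_insert, Finset.mem_singleton, not_not] at hu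
        left
        rcases hu with rfl | rfl
        · exact ⟨2, by simp [pow_succ, Perm.mul_apply, hz]; grind⟩
        · exact ⟨1, by simp [pow_succ, Perm.mul_apply, hz]; grind⟩
  push Not at hB
  have hsup : ∀ u, x u = u ↔ y u = u := by
    have hsub : x.support ⊆ y.support := fun u hu => Perm.mem_support.2 (hB u (Perm.mem_support.1 hu))
    intro u
    have := congrArg (fun s : Finset α => u ∈ s) (Finset.eq_of_subset_of_card_le hsub hi.bal.ge)
    simp only [Perm.mem_support, eq_iff_iff] at this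
    exact not_iff_not.1 this
  -- drop an invariant set on which the two agree
  have hdrop : ∀ T : Finset α, T ⊆ S → T.Nonempty → (∀ u ∈ T, x u = y u ∧ x u ∈ T) →
      Good S x y ∨ ∃ x' y' : Perm α, Inp (S \ T) x' y' ∧ Exc (S \ T) x' y' ∧
        ∀ u, u ∉ T → x u = x' u ∧ y u = y' u := by
    intro T hTS hTne hT
    have hxx := hi.xx
    have hyy := hi.yy
    let x' : Perm α := Function.Involutive.toPerm (fun u => if u ∈ T then u else x u)
      (fun u => by have := hT (x u); have := hT u; grind)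
    let y' : Perm α := Function.Involutive.toPerm (fun u => if u ∈ T then u else y u)
      (fun u => by have := hT (y u); have := hT u; grind)
    have hx' : ∀ u, x' u = if u ∈ T then u else x u := fun u => rfl
    have hy' : ∀ u, y' u = if u ∈ T then u else y u := fun u => rfl
    have hi' : Inp (S \ T) x' y' := by
      refine ⟨fun u hu => ?_, fun u hu => ?_, fun u => ?_, fun u => ?_, ?_⟩
      · rw [hx']; simp only [Finset.mem_sdiff, not_and, not_not] at hu; have := hi.xS u; grind
      · rw [hy']; simp only [Finset.mem_sdiff, not_and, not_not] at hu; have := hi.yS u; grind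
      · rw [hx', hx']; have := hT (x u); have := hT u; grind
      · rw [hy', hy']; have := hT (y u); have := hT u; grind
      · congr 1
        ext u
        have := hsup u
        simp only [Perm.mem_support, hx', hy']
        grind
    by_cases he : Exc (S \ T) x' y'
    · exact Or.inr ⟨x', y', hi', he, fun u hu => by rw [hx', hy', if_neg hu, if_neg hu]; exact ⟨rfl, rfl⟩⟩
    left
    have hlt : (S \ T).card < n := by
      have := Finset.card_sdiff_of_subset hTS
      have := hTne.card_pos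
      have := Finset.card_le_card hTS
      omega
    refine glue hi hTS hx' hy' (fun u hu => ⟨(hT u hu).2, (hT u hu).1 ▸ (hT u hu).2⟩) (z0 := x)
      (fun u hu => ⟨(hT u hu).2, hxx u⟩) (fun u hu => ⟨0, by simp [hxx]⟩) (fun u hu => ⟨0, ?_⟩)
      (ih _ x' y' hlt hi' he)
    simp [Perm.mul_apply, ← (hT u hu).1, hxx]
  by_cases hF : ∃ u ∈ S, x u = y u
  · obtain ⟨u, hu, he⟩ := hF
    have hTu : ∀ v ∈ ({u, x u} : Finset α), x v = y v ∧ x v ∈ ({u, x u} : Finset α) := by
      intro v hv
      simp only [Finset.mem_insert, Finset.mem_singleton] at hv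
      rcases hv with rfl | rfl
      · simp [he]
      · refine ⟨?_, by simp [hi.xx]⟩
        rw [hi.xx, he, hi.yy]
    rcases hdrop _ (by simp [Finset.insert_subset_iff, hu, hi.xmem hu]) (by simp) hTu with
      h | ⟨x', y', hi', hexc, heq⟩
    · exact h
    obtain ⟨a, b, c, d, hab, hac, had, hbc, hbd, hcd, hSq, e1, e2, e3, e4, e5, e6, e7, e8⟩ := exc_points hi' hexc
    have hout : ∀ v ∈ ({a, b, c, d} : Finset α), v ∈ S ∧ v ≠ u ∧ v ≠ x u ∧ x v = x' v ∧ y v = y' v := by
      intro v hv
      rw [← hSq] at hv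
      simp only [Finset.mem_sdiff, Finset.mem_insert, Finset.mem_singleton, not_or] at hv
      exact ⟨hv.1, hv.2.1, hv.2.2, heq v (by simp [hv.2.1, hv.2.2])⟩
    obtain ⟨a1, a2, a3, a4, a5⟩ := hout a (by simp)
    obtain ⟨b1, b2, b3, b4, b5⟩ := hout b (by simp)
    obtain ⟨c1, c2, c3, c4, c5⟩ := hout c (by simp)
    obtain ⟨d1, d2, d3, d4, d5⟩ := hout d (by simp)
    have hcov : ∀ v, v ∈ S → v = u ∨ v = x u ∨ v ∈ ({a, b, c, d} : Finset α) := fun v hv => by
      by_cases h : v = u ∨ v = x u
      · tauto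
      · rw [← hSq]; simp [hv]; tauto
    by_cases hfix : x u = u
    · refine explicit hi ![a, b, c, d, u] ?_ ?_ ?_ ![1, 0, 3, 2, 4] ![2, 3, 0, 1, 4] ![4, 1, 3, 2, 0] ?_ ?_
        (by decide) 15 (by decide) (by decide) (by decide)
      · intro i j hij
        fin_cases i <;> fin_cases j <;> simp at hij ⊢ <;> grind
      · intro v hv
        rcases hcov v hv with h | h | h
        · exact ⟨4, by simp [h]⟩
        · exact ⟨4, by simp [h, hfix]⟩
        · simp only [Finset.mem_insert, Finset.mem_singleton] at h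
          rcases h with rfl | rfl | rfl | rfl
          exacts [⟨0, rfl⟩, ⟨1, rfl⟩, ⟨2, rfl⟩, ⟨3, rfl⟩]
      · intro i; fin_cases i <;> simp [a1, b1, c1, d1, hu]
      · intro i; fin_cases i <;> simp <;> grind
      · intro i; fin_cases i <;> simp <;> grind
    · refine explicit hi ![a, b, c, d, u, x u] ?_ ?_ ?_ ![1, 0, 3, 2, 5, 4] ![2, 3, 0, 1, 5, 4]
        ![3, 5, 4, 0, 2, 1] ?_ ?_ (by decide) 15 (by decide) (by decide) (by decide)
      · intro i j hij
        fin_cases i <;> fin_cases j <;> simp at hij ⊢ <;> grind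
      · intro v hv
        rcases hcov v hv with h | h | h
        · exact ⟨4, by simp [h]⟩
        · exact ⟨5, by simp [h]⟩
        · simp only [Finset.mem_insert, Finset.mem_singleton] at h
          rcases h with rfl | rfl | rfl | rfl
          exacts [⟨0, rfl⟩, ⟨1, rfl⟩, ⟨2, rfl⟩, ⟨3, rfl⟩]
      · intro i; fin_cases i <;> simp [a1, b1, c1, d1, hu, hi.xmem hu]
      · intro i; fin_cases i <;> simp [hi.xx] <;> grind
      · intro i; fin_cases i <;> simp [← he, hi.xx] <;> grind [hi.yy u]
  push Not at hF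
  have hxx := hi.xx
  have hyy := hi.yy
  have hxne : ∀ u ∈ S, x u ≠ u := fun u hu h => hF u hu (h.trans ((hsup u).1 h).symm)
  have hyne : ∀ u ∈ S, y u ≠ u := fun u hu h => hxne u hu ((hsup u).2 h)
  by_cases hL : ∃ a ∈ S, x (y a) ≠ y (x a)
  · -- shorten a long cycle
    obtain ⟨a, ha, hcomm⟩ := hL
    obtain ⟨b, hb⟩ : ∃ b, b = x a := ⟨_, rfl⟩
    obtain ⟨c, hc⟩ : ∃ c, c = y b := ⟨_, rfl⟩
    obtain ⟨d, hd⟩ : ∃ d, d = x c := ⟨_, rfl⟩
    obtain ⟨e, he⟩ : ∃ e, e = y a := ⟨_, rfl⟩
    obtain ⟨f, hf⟩ : ∃ f, f = y d := ⟨_, rfl⟩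
    have hbS : b ∈ S := hb ▸ hi.xmem ha
    have hcS : c ∈ S := hc ▸ hi.ymem hbS
    have hdS : d ∈ S := hd ▸ hi.xmem hcS
    have heS : e ∈ S := he ▸ hi.ymem ha
    have hfS : f ∈ S := hf ▸ hi.ymem hdS
    have p1 : x a = b := hb.symm
    have p2 : x b = a := by rw [hb, hxx]
    have p3 : x c = d := hd.symm
    have p4 : x d = c := by rw [hd, hxx]
    have p5 : y b = c := hc.symm
    have p6 : y c = b := by rw [hc, hyy]
    have p7 : y a = e := he.symm
    have p8 : y e = a := by rw [he, hyy]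
    have p9 : y d = f := hf.symm
    have p10 : y f = d := by rw [hf, hyy]
    have dab : a ≠ b := fun h => hxne a ha (hb ▸ h.symm)
    have dbc : b ≠ c := fun h => hyne b hbS (hc ▸ h.symm)
    have dcd : c ≠ d := fun h => hxne c hcS (hd ▸ h.symm)
    have dac : a ≠ c := fun h => hF b hbS (by rw [p2, p5, h])
    have dad : a ≠ d := fun h => dbc (x.injective (by rw [p2, p3, h]))
    have dbd : b ≠ d := fun h => dac (x.injective (by rw [p1, p3, h]))
    have dea : e ≠ a := fun h => hyne a ha (he ▸ h)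
    have deb : e ≠ b := fun h => hF a ha (by rw [p1, p7, h])
    have dec : e ≠ c := fun h => dab (y.injective (by rw [p7, p5, h]))
    have ded : e ≠ d := fun h => hcomm (by rw [p7, p1, p5, h, p4])
    have dfa : f ≠ a := fun h => ded (by
      have := p10; rw [h, p7] at this; exact this)
    have dfb : f ≠ b := fun h => dcd (y.injective (by rw [p6, p9, h]))
    have dfc : f ≠ c := fun h => hF d hdS (by rw [p4, p9, h])
    have dfd : f ≠ d := fun h => hyne d hdS (hf ▸ h)
    have def' : e ≠ f := fun h => dad (y.injective (by rw [p7, p9, h]))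
    obtain ⟨T, hT⟩ : ∃ T : Finset α, T = {a, b, c, d} := ⟨_, rfl⟩
    have memT : ∀ u, u ∈ T ↔ u = a ∨ u = b ∨ u = c ∨ u = d := fun u => by simp [hT]
    let x' : Perm α := Function.Involutive.toPerm (fun u => if u ∈ T then u else x u)
      (fun u => by grind)
    let y' : Perm α := Function.Involutive.toPerm
      (fun u => if u ∈ T then u else if u = e then f else if u = f then e else y u)
      (fun u => by grind)
    have hx' : ∀ u, x' u = if u ∈ T then u else x u := fun u => rfl
    have hy' : ∀ u, y' u = if u ∈ T then u else if u = e then f else if u = f then e else y u := fun u => rfl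
    have hmem : ∀ u, u ∈ S \ T ↔ u ∈ S ∧ u ∉ T := fun u => Finset.mem_sdiff
    have hi' : Inp (S \ T) x' y' := by
      refine ⟨fun u hu => ?_, fun u hu => ?_, fun u => by rw [hx', hx']; grind,
        fun u => by rw [hy', hy']; grind, ?_⟩
      · rw [hmem] at hu; have := hi.xS u; rw [hx']; grind
      · rw [hmem] at hu; have := hi.yS u; rw [hy']; grind
      · congr 1
        ext u
        have := hsup u
        simp only [Perm.mem_support, hx', hy']
        grind
    by_cases hexc : Exc (S \ T) x' y'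
    · -- a single cycle of length eight
      obtain ⟨g, hg⟩ : ∃ g, g = x e := ⟨_, rfl⟩
      obtain ⟨h, hh⟩ : ∃ h, h = x f := ⟨_, rfl⟩
      have heT : e ∉ T := by simp [hT, dea, deb, dec, ded]
      have hfT : f ∉ T := by simp [hT, dfa, dfb, dfc, dfd]
      have hgT : g ∉ T := by rw [memT]; grind
      have hhT : h ∉ T := by rw [memT]; grind
      have hge : g ≠ e := hg ▸ hxne e heS
      have hhf : h ≠ f := hh ▸ hxne f hfS
      have hgh : g ≠ h := fun k => def' (x.injective (by rw [← hg, ← hh, k]))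
      have hgS : g ∈ S := hg ▸ hi.xmem heS
      have hhS : h ∈ S := hh ▸ hi.xmem hfS
      have hxye : x' e ≠ y' e := (hexc.2 e ((hmem e).2 ⟨heS, heT⟩)).2.2
      have hgf : g ≠ f := fun k => hxye (by rw [hx', hy']; simp [heT, ← hg, k])
      have hhe : h ≠ e := fun k => hgf (by rw [hg, ← k, hh, hxx])
      have hS' : S \ T = {e, f, g, h} := by
        refine (Finset.eq_of_subset_of_card_le (fun u hu => ?_) ?_).symm
        · rw [hmem]; simp only [Finset.mem_insert, Finset.mem_singleton] at hu; grind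
        · rw [hexc.1]
          exact (Finset.card_eq_four.2 ⟨e, f, g, h, def', hge.symm, hhe.symm, hgf.symm, hhf.symm, hgh, rfl⟩).ge
      have hyg : y g = h := by
        have hm := hi'.ymem ((hmem g).2 ⟨hgS, hgT⟩)
        rw [hS', hy', if_neg hgT, if_neg hge, if_neg hgf] at hm
        simp only [Finset.mem_insert, Finset.mem_singleton] at hm
        have := hyne g hgS
        grind
      refine explicit hi ![a, b, c, d, f, h, g, e] ?_ ?_ ?_ ![1, 0, 3, 2, 5, 4, 7, 6]
        ![7, 2, 1, 4, 3, 6, 5, 0] ![4, 2, 1, 5, 0, 3, 7, 6] ?_ ?_ (by decide) 15 (by decide) (by decide) (by decide)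
      · intro i j hij
        fin_cases i <;> fin_cases j <;> simp at hij ⊢ <;> grind
      · intro v hv
        have hv' : v ∈ T ∨ v ∈ ({e, f, g, h} : Finset α) := by
          rw [← hS', hmem]; tauto
        simp only [hT, Finset.mem_insert, Finset.mem_singleton] at hv'
        rcases hv' with (rfl | rfl | rfl | rfl) | (rfl | rfl | rfl | rfl)
        exacts [⟨0, rfl⟩, ⟨1, rfl⟩, ⟨2, rfl⟩, ⟨3, rfl⟩, ⟨7, rfl⟩, ⟨4, rfl⟩, ⟨6, rfl⟩, ⟨5, rfl⟩]
      · intro i; fin_cases i <;> simp [ha, hbS, hcS, hdS, heS, hfS, hgS, hhS]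
      · intro i; fin_cases i <;> simp <;> grind
      · intro i; fin_cases i <;> simp <;> grind
    have hlt : (S \ T).card < n :=
      lt_of_lt_of_le (Finset.card_lt_card (Finset.sdiff_ssubset (by
        intro u hu; rw [memT] at hu; grind) ⟨a, by simp [hT]⟩)) hn
    obtain ⟨z', hz1, hz2, ho1, ho2⟩ := ih _ x' y' hlt hi' hexc
    have hzT : ∀ u ∈ T, z' u = u := fun u hu => hz1 u (by simp [hu])
    have hz'T : ∀ u, u ∉ T → z' u ∉ T := fun u hu h => hu (by
      have := hzT _ h; rw [hz2] at this; exact this ▸ h)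
    let z : Perm α := Function.Involutive.toPerm (fun u => if u ∈ T then x u else z' u)
      (fun u => by grind)
    have hz : ∀ u, z u = if u ∈ T then x u else z' u := fun u => rfl
    refine ⟨z, fun u hu => ?_, fun u => by rw [hz, hz]; grind, ?_, ?_⟩
    · have : u ∉ S \ T := fun h => hu ((hmem u).1 h).1
      rw [hz, hz1 u this]; grind
    · refine odd_of_return _ (x' * z') Tᶜ (fun u hu => ?_) (fun u hu => ?_) ho1
      · rw [Finset.mem_compl] at hu
        refine ⟨Finset.mem_compl.2 ?_, 0, ?_⟩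
        · have h1 := hz'T u hu
          rw [Perm.mul_apply, hx', if_neg h1]
          rw [memT] at h1 ⊢
          grind
        · simp [Perm.mul_apply, hz, hx', hu, hz'T u hu]
      · rw [Finset.mem_compl, not_not] at hu
        exact Or.inr ⟨0, by simp [Perm.mul_apply, hz, hu, hxx]⟩
    · refine odd_of_return _ (z' * y') Tᶜ (fun u hu => ?_) (fun u hu => ?_) ho2
      · rw [Finset.mem_compl] at hu
        refine ⟨Finset.mem_compl.2 ?_, ?_⟩
        · rw [Perm.mul_apply]; refine hz'T _ ?_; rw [hy']; grind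
        by_cases h : u = e ∨ u = f
        · exact ⟨1, by simp [pow_succ, Perm.mul_apply, hz, hy']; grind⟩
        · exact ⟨0, by simp [Perm.mul_apply, hz, hy']; grind⟩
      · rw [Finset.mem_compl, not_not, memT] at hu
        left
        rcases hu with rfl | rfl | rfl | rfl
        · exact ⟨1, by simp [Perm.mul_apply, hz]; grind⟩
        · exact ⟨2, by simp [pow_succ, Perm.mul_apply, hz]; grind⟩
        · exact ⟨2, by simp [pow_succ, Perm.mul_apply, hz]; grind⟩
        · exact ⟨1, by simp [Perm.mul_apply, hz]; grind⟩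
  push Not at hL
  -- only four-cycles
  rcases S.eq_empty_or_nonempty with hS0 | ⟨a, ha⟩
  · refine good_card hi (Equiv.ext fun u => ?_)
    rw [hi.xS u (by simp [hS0]), hi.yS u (by simp [hS0])]
  let orb : α → Finset α := fun v => {v, x v, y v, x (y v)}
  have hsub : ∀ v ∈ S, orb v ⊆ S := fun v hv u hu => by
    simp only [orb, Finset.mem_insert, Finset.mem_singleton] at hu
    rcases hu with rfl | rfl | rfl | rfl
    exacts [hv, hi.xmem hv, hi.ymem hv, hi.xmem (hi.ymem hv)]
  have hinv : ∀ v ∈ S, ∀ u ∈ orb v, x u ∈ orb v ∧ y u ∈ orb v := fun v hv u hu => by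
    simp only [orb, Finset.mem_insert, Finset.mem_singleton] at hu ⊢
    have := hL v hv
    grind
  have hcard : ∀ v ∈ S, (orb v).card = 4 := fun v hv => by
    have h1 := hxne v hv
    have h2 := hyne v hv
    have h3 := hF v hv
    have h4 : x (y v) ≠ v := fun h => h3 (by
      have := congrArg x h; rw [hxx] at this; exact this.symm)
    exact Finset.card_eq_four.2 ⟨v, x v, y v, x (y v), h1.symm, h2.symm, h4.symm, h3,
      fun h => h2 (x.injective h).symm, (hxne _ (hi.ymem hv)).symm, rfl⟩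
  obtain ⟨b, hb, hbo⟩ : ∃ b ∈ S, b ∉ orb a := by
    by_contra hcon
    push Not at hcon
    have hSo : S = orb a := Finset.Subset.antisymm hcon (hsub a ha)
    exact hne ⟨by rw [hSo, hcard a ha], fun u hu => ⟨hxne u hu, hyne u hu, hF u hu⟩⟩
  have hdis : Disjoint (orb a) (orb b) := Finset.disjoint_left.2 fun u h1 h2 => hbo (by
    have key : ∀ w ∈ orb a, x w ∈ orb a ∧ y w ∈ orb a := hinv a ha
    simp only [orb, Finset.mem_insert, Finset.mem_singleton] at h2
    rcases h2 with rfl | rfl | rfl | rfl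
    · exact h1
    · simpa [hxx] using (key _ h1).1
    · simpa [hyy] using (key _ h1).2
    · have := (key _ h1).1; rw [hxx] at this; simpa [hyy] using (key _ this).2)
  obtain ⟨xT, hxT'⟩ : ∃ xT : Perm α, ∀ u, xT u = if u ∈ orb a ∪ orb b then x u else u :=
    ⟨Function.Involutive.toPerm (fun u => if u ∈ orb a ∪ orb b then x u else u)
        (fun u => by have := hinv a ha u; have := hinv b hb u; simp only [Finset.mem_union]; grind), fun u => rfl⟩
  obtain ⟨yT, hyT'⟩ : ∃ yT : Perm α, ∀ u, yT u = if u ∈ orb a ∪ orb b then y u else u :=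
    ⟨Function.Involutive.toPerm (fun u => if u ∈ orb a ∪ orb b then y u else u)
        (fun u => by have := hinv a ha u; have := hinv b hb u; simp only [Finset.mem_union]; grind), fun u => rfl⟩
  obtain ⟨z0, hz0S, hz0, hodd1, hodd2⟩ : Good (orb a ∪ orb b) xT yT := by
    have hA := hsub a ha
    have hB' := hsub b hb
    have hca := hcard a ha
    have hcb := hcard b hb
    refine explicit ⟨fun u hu => ?_, fun u hu => ?_, fun u => ?_, fun u => ?_, ?_⟩
      ![a, x a, y a, x (y a), b, x b, y b, x (y b)] ?_ ?_ ?_ ![1, 0, 3, 2, 5, 4, 7, 6]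
      ![2, 3, 0, 1, 6, 7, 4, 5] ![2, 6, 0, 7, 5, 4, 1, 3] ?_ ?_ (by decide) 15 (by decide) (by decide) (by decide)
    · rw [hxT', if_neg hu]
    · rw [hyT', if_neg hu]
    · have := hinv a ha u; have := hinv b hb u; simp only [hxT', Finset.mem_union]; grind
    · have := hinv a ha u; have := hinv b hb u; simp only [hyT', Finset.mem_union]; grind
    · congr 1
      ext u
      simp only [Perm.mem_support, hxT', hyT']
      by_cases h : u ∈ orb a ∪ orb b
      · have hu : u ∈ S := (Finset.union_subset hA hB') h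
        rw [if_pos h, if_pos h]
        exact iff_of_true (hxne u hu) (hyne u hu)
      · rw [if_neg h, if_neg h]
    · intro i j hij
      have h1 := hxne a ha
      have h2 := hyne a ha
      have h3 := hF a ha
      have h4 := hxne b hb
      have h5 := hyne b hb
      have h6 := hF b hb
      have h7 := hxne _ (hi.ymem ha)
      have h8 := hxne _ (hi.ymem hb)
      simp only [orb, Finset.disjoint_left, Finset.mem_insert, Finset.mem_singleton] at hdis
      fin_cases i <;> fin_cases j <;> simp at hij ⊢ <;> grind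
    · intro v hv
      simp only [orb, Finset.mem_union, Finset.mem_insert, Finset.mem_singleton] at hv
      rcases hv with (rfl | rfl | rfl | rfl) | (rfl | rfl | rfl | rfl)
      exacts [⟨0, rfl⟩, ⟨1, rfl⟩, ⟨2, rfl⟩, ⟨3, rfl⟩, ⟨4, rfl⟩, ⟨5, rfl⟩, ⟨6, rfl⟩, ⟨7, rfl⟩]
    · intro i; fin_cases i <;> simp [orb]
    · intro i; fin_cases i <;> simp [hxT', orb, hxx]
    · intro i
      have l1 := hL a ha
      have l2 := hL b hb
      fin_cases i <;> simp [hyT', orb, hyy] <;> grind
  obtain ⟨T, hTdef⟩ : ∃ T : Finset α, T = orb a ∪ orb b := ⟨_, rfl⟩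
  have hTS : T ⊆ S := hTdef ▸ Finset.union_subset (hsub a ha) (hsub b hb)
  have hTinv : ∀ u ∈ T, x u ∈ T ∧ y u ∈ T := fun u hu => by
    simp only [hTdef, Finset.mem_union] at hu ⊢
    rcases hu with h | h
    · exact ⟨Or.inl (hinv a ha u h).1, Or.inl (hinv a ha u h).2⟩
    · exact ⟨Or.inr (hinv b hb u h).1, Or.inr (hinv b hb u h).2⟩
  let x' : Perm α := Function.Involutive.toPerm (fun u => if u ∈ T then u else x u)
    (fun u => by have := hTinv u; have := hTinv (x u); grind)
  let y' : Perm α := Function.Involutive.toPerm (fun u => if u ∈ T then u else y u)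
    (fun u => by have := hTinv u; have := hTinv (y u); grind)
  have hx' : ∀ u, x' u = if u ∈ T then u else x u := fun u => rfl
  have hy' : ∀ u, y' u = if u ∈ T then u else y u := fun u => rfl
  have hi' : Inp (S \ T) x' y' := by
    refine ⟨fun u hu => ?_, fun u hu => ?_, fun u => by rw [hx', hx']; have := hTinv u; have := hTinv (x u); grind,
      fun u => by rw [hy', hy']; have := hTinv u; have := hTinv (y u); grind, ?_⟩
    · rw [hx']; simp only [Finset.mem_sdiff, not_and, not_not] at hu; have := hi.xS u; grind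
    · rw [hy']; simp only [Finset.mem_sdiff, not_and, not_not] at hu; have := hi.yS u; grind
    · congr 1
      ext u
      have := hsup u
      simp only [Perm.mem_support, hx', hy']
      grind
  have hz0T : ∀ u ∈ T, z0 u ∈ T ∧ z0 (z0 u) = u := fun u hu => ⟨by
    by_contra h
    have := hz0S _ (hTdef ▸ h)
    rw [hz0] at this
    exact h (this ▸ hu), hz0 u⟩
  have hodd : ∀ {P : Perm α}, Odd (orderOf P) → ∀ u, ∃ i : ℕ, (P ^ (2 * i + 1)) u = u := fun {P} hP u => by
    obtain ⟨m, hm⟩ := hP
    exact ⟨m, by rw [← hm, pow_orderOf_eq_one, Perm.one_apply]⟩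
  by_cases hexc : Exc (S \ T) x' y'
  · -- twelve points
    obtain ⟨p, q, r, s, hpq, hpr, hps, hqr, hqs, hrs, hSq, e1, e2, e3, e4, e5, e6, e7, e8⟩ := exc_points hi' hexc
    have hout : ∀ v ∈ ({p, q, r, s} : Finset α), v ∈ S ∧ v ∉ T ∧ x v = x' v ∧ y v = y' v := by
      intro v hv
      rw [← hSq, Finset.mem_sdiff] at hv
      exact ⟨hv.1, hv.2, by rw [hx', if_neg hv.2], by rw [hy', if_neg hv.2]⟩
    obtain ⟨a1, a2, a4, a5⟩ := hout p (by simp)
    obtain ⟨b1, b2, b4, b5⟩ := hout q (by simp)
    obtain ⟨c1, c2, c4, c5⟩ := hout r (by simp)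
    obtain ⟨d1, d2, d4, d5⟩ := hout s (by simp)
    simp only [hTdef, orb, Finset.mem_union, Finset.mem_insert, Finset.mem_singleton, not_or] at a2 b2 c2 d2
    refine explicit hi ![a, x a, y a, x (y a), b, x b, y b, x (y b), p, q, r, s] ?_ ?_ ?_
      ![1, 0, 3, 2, 5, 4, 7, 6, 9, 8, 11, 10] ![2, 3, 0, 1, 6, 7, 4, 5, 10, 11, 8, 9]
      ![1, 0, 4, 7, 2, 8, 10, 3, 5, 11, 6, 9] ?_ ?_ (by decide) 5 (by decide) (by decide) (by decide)
    · have h1 := hxne a ha
      have h2 := hyne a ha
      have h3 := hF a ha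
      have h4 := hxne b hb
      have h5 := hyne b hb
      have h6 := hF b hb
      have h7 := hxne _ (hi.ymem ha)
      have h8 := hxne _ (hi.ymem hb)
      simp only [orb, Finset.disjoint_left, Finset.mem_insert, Finset.mem_singleton] at hdis
      intro i j hij
      fin_cases i <;> fin_cases j <;> simp at hij ⊢ <;> grind
    · intro v hv
      by_cases h : v ∈ T
      · simp only [hTdef, orb, Finset.mem_union, Finset.mem_insert, Finset.mem_singleton] at h
        rcases h with (rfl | rfl | rfl | rfl) | (rfl | rfl | rfl | rfl)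
        exacts [⟨0, rfl⟩, ⟨1, rfl⟩, ⟨2, rfl⟩, ⟨3, rfl⟩, ⟨4, rfl⟩, ⟨5, rfl⟩, ⟨6, rfl⟩, ⟨7, rfl⟩]
      · have h' : v ∈ ({p, q, r, s} : Finset α) := by rw [← hSq, Finset.mem_sdiff]; exact ⟨hv, h⟩
        simp only [Finset.mem_insert, Finset.mem_singleton] at h'
        rcases h' with rfl | rfl | rfl | rfl
        exacts [⟨8, rfl⟩, ⟨9, rfl⟩, ⟨10, rfl⟩, ⟨11, rfl⟩]
    · intro i; fin_cases i <;> simp [ha, hb, hi.xmem ha, hi.ymem ha, hi.xmem (hi.ymem ha), hi.xmem hb,
        hi.ymem hb, hi.xmem (hi.ymem hb), a1, b1, c1, d1]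
    · intro i; fin_cases i <;> simp [hxx] <;> grind
    · intro i
      have l1 := hL a ha
      have l2 := hL b hb
      fin_cases i <;> simp [hyy] <;> grind
  have hlt : (S \ T).card < n :=
    lt_of_lt_of_le (Finset.card_lt_card (Finset.sdiff_ssubset hTS ⟨a, by simp [hTdef, orb]⟩)) hn
  refine glue hi hTS hx' hy' hTinv hz0T (fun u hu => ?_) (fun u hu => ?_) (ih _ x' y' hlt hi' hexc)
  · obtain ⟨i, hi2⟩ := hodd hodd1 u
    have e : ∀ j : ℕ, ((x * z0) ^ j) u ∈ T ∧ ((x * z0) ^ j) u = ((xT * z0) ^ j) u := fun j => by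
      induction j with
      | zero => exact ⟨hu, rfl⟩
      | succ j ih2 =>
        rw [pow_succ', pow_succ']
        simp only [Perm.mul_apply]
        refine ⟨(hTinv _ (hz0T _ ih2.1).1).1, ?_⟩
        rw [← ih2.2, hxT', ← hTdef, if_pos (hz0T _ ih2.1).1]
    exact ⟨i, by rw [(e _).2, hi2]⟩
  · obtain ⟨i, hi2⟩ := hodd hodd2 u
    have e : ∀ j : ℕ, ((z0 * y) ^ j) u ∈ T ∧ ((z0 * y) ^ j) u = ((z0 * yT) ^ j) u := fun j => by
      induction j with
      | zero => exact ⟨hu, rfl⟩
      | succ j ih2 =>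
        rw [pow_succ', pow_succ']
        simp only [Perm.mul_apply]
        refine ⟨(hz0T _ (hTinv _ ih2.1).2).1, ?_⟩
        rw [← ih2.2, hyT', ← hTdef, if_pos ih2.1]
    exact ⟨i, by rw [(e _).2, hi2]⟩

theorem good_of_not_exc : ∀ (n : ℕ) (S : Finset α) (x y : Perm α), S.card < n → Inp S x y → ¬ Exc S x y → Good S x y
  | 0 => fun _ _ _ h => absurd h (Nat.not_lt_zero _)
  | n + 1 => fun S x y h hi he => step (good_of_not_exc n) S x y (Nat.lt_succ_iff.1 h) hi he

theorem conj_of_odd {H : Type*} [Group H] {x y : H} (hx : x * x = 1) (hy : y * y = 1)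
    (h : Odd (orderOf (x * y))) : IsConj y x :=
  (Cfsg.Agent.Invol.isConj_of_odd hx hy h).symm

/-- An involution has a distinct commuting conjugate. -/
theorem exists_commuting {n : ℕ} (hn : 5 ≤ n) {t : Perm (Fin n)} (ht : orderOf t = 2) :
    ∃ y, IsConj t y ∧ y ≠ t ∧ t * y = y * t := by
  have htt : ∀ u, t (t u) = u := fun u => by
    have h := pow_orderOf_eq_one t
    rw [ht, pow_two] at h
    exact Equiv.ext_iff.1 h u
  obtain ⟨a, ha⟩ : ∃ a, t a ≠ a := by
    by_contra hc
    push Not at hc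
    rw [show t = 1 from Equiv.ext hc, orderOf_one] at ht
    omega
  by_cases h : ∃ c, t c ≠ c ∧ c ≠ a ∧ c ≠ t a
  · -- two transpositions: pair their points differently
    obtain ⟨c, hc, hca, hcb⟩ := h
    refine ⟨swap (t a) c * t * (swap (t a) c)⁻¹, isConj_iff.2 ⟨_, rfl⟩, fun e => ?_, ?_⟩
    · have := Equiv.ext_iff.1 e a
      simp [Perm.mul_apply, Equiv.swap_apply_of_ne_of_ne (Ne.symm ha) (Ne.symm hca)] at this
      exact hcb this
    · ext u
      simp only [Perm.mul_apply, Equiv.swap_inv, Equiv.swap_apply_def]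
      grind
  · -- a transposition: use two fixed points
    push Not at h
    have hfix : ∀ u, u ≠ a → u ≠ t a → t u = u := fun u h1 h2 => by_contra fun h3 => h2 (h u h3 h1)
    obtain ⟨p, hp, q, hq, hpq⟩ := Finset.one_lt_card.1 (show 1 < ({a, t a}ᶜ : Finset (Fin n)).card by
      rw [Finset.card_compl, Fintype.card_fin, Finset.card_pair (Ne.symm ha)]; omega)
    simp only [Finset.mem_compl, Finset.mem_insert, Finset.mem_singleton, not_or] at hp hq
    refine ⟨(swap a p * swap (t a) q) * t * (swap a p * swap (t a) q)⁻¹, isConj_iff.2 ⟨_, rfl⟩, fun e => ?_, ?_⟩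
    · have := Equiv.ext_iff.1 e a
      simp only [Perm.mul_apply, _root_.mul_inv_rev, Equiv.swap_inv, Equiv.swap_apply_def] at this
      have := hfix p hp.1 hp.2
      grind
    · ext u
      simp only [Perm.mul_apply, _root_.mul_inv_rev, Equiv.swap_inv, Equiv.swap_apply_def]
      have := hfix p hp.1 hp.2
      have := hfix q hq.1 hq.2
      have := hfix u
      grind

/-- Let n ≥ 5 and let X be a conjugacy class of involutions of the symmetric group of degree n. The graph on X joining two distinct involutions whose product has odd order is connected and has diameter exactly 2. -/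
theorem result (n : ℕ) (hn : 5 ≤ n) (t : Equiv.Perm (Fin n)) (ht : orderOf t = 2) :
    (SimpleGraph.fromRel fun x y : {x : Equiv.Perm (Fin n) // IsConj t x} =>
        Odd (orderOf (x.1 * y.1))).Connected ∧
      (SimpleGraph.fromRel fun x y : {x : Equiv.Perm (Fin n) // IsConj t x} =>
        Odd (orderOf (x.1 * y.1))).diam = 2 := by
  classical
  set R := SimpleGraph.fromRel fun x y : {x : Equiv.Perm (Fin n) // IsConj t x} =>
    Odd (orderOf (x.1 * y.1)) with hR
  have hsq : ∀ z : Equiv.Perm (Fin n), orderOf z = 2 → z * z = 1 := fun z hz => by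
    have h := pow_orderOf_eq_one z
    rw [hz, pow_two] at h
    exact h
  have htt : t * t = 1 := hsq t ht
  have hord : ∀ x : {x : Equiv.Perm (Fin n) // IsConj t x}, x.1 * x.1 = 1 := fun x => by
    obtain ⟨g, hg⟩ := isConj_iff.1 x.2
    rw [← hg]
    calc g * t * g⁻¹ * (g * t * g⁻¹) = g * (t * t) * g⁻¹ := by group
      _ = 1 := by rw [htt]; group
  have hcommon : ∀ x y : {x : Equiv.Perm (Fin n) // IsConj t x}, ∃ z : Equiv.Perm (Fin n),
      z * z = 1 ∧ Odd (orderOf (x.1 * z)) ∧ Odd (orderOf (z * y.1)) := by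
    intro x y
    have hc : IsConj x.1 y.1 := x.2.symm.trans y.2
    obtain ⟨z, -, hzz, h1, h2⟩ := good_of_not_exc (n + 1) Finset.univ x.1 y.1 (by simp)
      ⟨fun u hu => absurd (Finset.mem_univ u) hu, fun u hu => absurd (Finset.mem_univ u) hu,
        fun u => Equiv.ext_iff.1 (hord x) u, fun u => Equiv.ext_iff.1 (hord y) u, by
          rw [← Equiv.Perm.sum_cycleType, ← Equiv.Perm.sum_cycleType, Equiv.Perm.isConj_iff_cycleType_eq.1 hc]⟩
      (fun he => by have := he.1; simp at this; omega)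
    exact ⟨z, Equiv.ext hzz, h1, h2⟩
  have hwalk : ∀ x y, ∃ p : R.Walk x y, p.length ≤ 2 := by
    intro x y
    obtain ⟨z, hz, h1, h2⟩ := hcommon x y
    have hzc : IsConj t z := x.2.trans (conj_of_odd (hord x) hz h1).symm
    let Z : {x : Equiv.Perm (Fin n) // IsConj t x} := ⟨z, hzc⟩
    by_cases e1 : x = Z <;> by_cases e2 : Z = y
    · subst e1; subst e2; exact ⟨.nil, by simp⟩
    · subst e1
      have a2 : R.Adj Z y := ⟨e2, Or.inl h2⟩
      exact ⟨a2.toWalk, by simp⟩
    · subst e2
      have a1 : R.Adj x Z := ⟨e1, Or.inl h1⟩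
      exact ⟨a1.toWalk, by simp⟩
    · have a1 : R.Adj x Z := ⟨e1, Or.inl h1⟩
      have a2 : R.Adj Z y := ⟨e2, Or.inl h2⟩
      exact ⟨.cons a1 (.cons a2 .nil), by simp⟩
  haveI : Nonempty {x : Equiv.Perm (Fin n) // IsConj t x} := ⟨⟨t, IsConj.refl t⟩⟩
  refine ⟨SimpleGraph.Connected.mk fun u v => ⟨(hwalk u v).choose⟩, ?_⟩
  obtain ⟨y, hyc, hne, hcomm⟩ : ∃ y, IsConj t y ∧ y ≠ t ∧ t * y = y * t := exists_commuting hn ht
  let u : {x : Equiv.Perm (Fin n) // IsConj t x} := ⟨t, IsConj.refl t⟩
  let v : {x : Equiv.Perm (Fin n) // IsConj t x} := ⟨y, hyc⟩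
  have hnadj : ∀ p q : Equiv.Perm (Fin n), p * p = 1 → q * q = 1 → p ≠ q → p * q = q * p → ¬ Odd (orderOf (p * q)) := by
    intro p q hp hq hpq hpc hodd
    have h2 : (p * q) ^ 2 = 1 := by
      rw [pow_two]
      calc p * q * (p * q) = p * (q * p) * q := by group
        _ = p * p * (q * q) := by rw [← hpc]; group
        _ = 1 := by rw [hp, hq, mul_one]
    rcases (Nat.dvd_prime Nat.prime_two).1 (orderOf_dvd_of_pow_eq_one h2) with h | h
    · rw [orderOf_eq_one_iff] at h
      exact hpq (by calc p = p * q * q := by rw [mul_assoc, hq, mul_one]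
        _ = q := by rw [h, one_mul])
    · rw [h] at hodd; exact absurd hodd (by decide)
  have hge : (2 : ℕ∞) ≤ R.edist u v := by
    obtain ⟨p, -⟩ := hwalk u v
    obtain ⟨m, hm⟩ := ENat.ne_top_iff_exists.1 (ne_top_of_le_ne_top (ENat.coe_ne_top p.length)
      (SimpleGraph.edist_le p))
    rw [← hm]
    have h0 : m ≠ 0 := fun h => hne (congrArg Subtype.val
      (SimpleGraph.edist_eq_zero_iff.1 (show R.edist u v = 0 by rw [← hm, h]; rfl))).symm
    have h1 : m ≠ 1 := fun h => by
      rcases (SimpleGraph.edist_eq_one_iff_adj.1 (show R.edist u v = 1 by rw [← hm, h]; rfl)).2 with h' | h'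
      · exact hnadj _ _ htt (hord v) hne.symm hcomm h'
      · exact hnadj _ _ (hord v) htt hne hcomm.symm h'
    exact_mod_cast (show 2 ≤ m by omega)
  have hle : R.ediam ≤ 2 := SimpleGraph.ediam_le_of_edist_le fun u v => by
    obtain ⟨p, hp⟩ := hwalk u v
    exact (SimpleGraph.edist_le p).trans (by exact_mod_cast hp)
  have : R.ediam = 2 := le_antisymm hle (hge.trans SimpleGraph.edist_le_ediam)
  rw [SimpleGraph.diam, this]
  rfl

end Cfsg.Agent.S3265
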