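import Cfsg.Statements.S3266
import Cfsg.Agent.Lib.SL2.Basic

set_option autoImplicit false
open Cfsg

namespace Cfsg.Agent.S3266

open Matrix Cfsg.Agent.SL2

variable {F : Type*} [Field F]

local notation "G" => Matrix.SpecialLinearGroup (Fin 2) F
local notation "M2" => Matrix (Fin 2) (Fin 2) F

/-- Projection to PSL. -/
def pr : G →* Matrix.ProjectiveSpecialLinearGroup (Fin 2) F :=
  QuotientGroup.mk' (Subgroup.center G)

theorem pr_surj : Function.Surjective (pr (F := F)) := QuotientGroup.mk'_surjective _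

theorem pr_one_iff (g : G) : pr g = 1 ↔ Scal g := by
  rw [scal_iff_mem_center]; exact QuotientGroup.eq_one_iff g

theorem g11 {g : G} (h : tr g = 0) : (g : M2) 1 1 = -(g : M2) 0 0 := by
  rw [tr] at h; linear_combination h

theorem scal_of_sq (h2 : (2 : F) ≠ 0) {g : G} (h : g * g = 1) : Scal g := by
  have e := mul_self g
  rw [← Matrix.SpecialLinearGroup.coe_mul, h, Matrix.SpecialLinearGroup.coe_one] at e
  have e00 := congrFun (congrFun e 0) 0
  have e01 := congrFun (congrFun e 0) 1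
  have e10 := congrFun (congrFun e 1) 0
  have e11 := congrFun (congrFun e 1) 1
  simp at e00 e01 e10 e11
  have ht : tr g ≠ 0 := fun h0 => h2 (by rw [h0] at e00; linear_combination e00)
  exact ⟨e01.resolve_left ht, e10.resolve_left ht, mul_left_cancel₀ ht
    (by linear_combination e11 - e00)⟩

theorem sq_neg_one {g : G} (ht : tr g = 0) : g * g = -1 := by
  apply Subtype.ext
  rw [Matrix.SpecialLinearGroup.coe_mul, mul_self g, ht]
  simp

theorem inv_of_tr {g : G} (ht : tr g = 0) (hg : ¬ Scal g) : orderOf (pr g) = 2 := by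
  refine orderOf_eq_prime ?_ (fun h => hg ((pr_one_iff g).1 h))
  rw [← map_pow, pr_one_iff, pow_two, sq_neg_one ht, scal_iff]
  exact Or.inr rfl

theorem lift_inv {x : Matrix.ProjectiveSpecialLinearGroup (Fin 2) F} (hx : orderOf x = 2) :
    ∃ g : G, pr g = x ∧ tr g = 0 ∧ ¬ Scal g := by
  obtain ⟨g, rfl⟩ := pr_surj x
  have hns : ¬ Scal g := fun h => by
    rw [(pr_one_iff g).2 h, orderOf_one] at hx; omega
  refine ⟨g, rfl, ?_, hns⟩
  have hs : Scal (g * g) := (pr_one_iff _).1 (by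
    have h := pow_orderOf_eq_one (pr g)
    rw [hx] at h
    rw [map_mul, ← pow_two, h])
  obtain ⟨s1, s2, s3⟩ := hs
  rw [Matrix.SpecialLinearGroup.coe_mul, mul_self g] at s1 s2 s3
  simp at s1 s2 s3
  by_contra ht
  exact hns ⟨s1.resolve_left ht, s2.resolve_left ht, s3.resolve_right ht⟩

/-- The traceless element with entries `a b c`. -/
def tri (a b c : F) (h : a ^ 2 + b * c = -1) : G :=
  ⟨!![a, b; c, -a], by rw [Matrix.det_fin_two_of]; linear_combination -h⟩

theorem tri_tr (a b c : F) (h : a ^ 2 + b * c = -1) : tr (tri a b c h) = 0 := by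
  simp [tr, tri]

theorem tri_coe (a b c : F) (h : a ^ 2 + b * c = -1) :
    (tri a b c h : M2) = !![a, b; c, -a] := rfl

theorem entries {g : G} (ht : tr g = 0) :
    ((g : M2) 0 0) ^ 2 + (g : M2) 0 1 * (g : M2) 1 0 = -1 := by
  have h := det_eq g
  rw [g11 ht] at h
  linear_combination -h

theorem tr_mul_zero {g h : G} (hg : tr g = 0) (hh : tr h = 0) :
    tr (g * h) = 2 * ((g : M2) 0 0 * (h : M2) 0 0) + (g : M2) 0 1 * (h : M2) 1 0
      + (g : M2) 1 0 * (h : M2) 0 1 := by
  simp [tr, Matrix.mul_apply, Fin.sum_univ_two, g11 hg, g11 hh]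
  ring

theorem not_scal_of_tr_zero (h2 : (2 : F) ≠ 0) {g : G} (ht : tr g = 0) : ¬ Scal g := by
  refine scal_of_tr_sq_ne fun h => h2 (pow_eq_zero_iff two_ne_zero |>.1 (?_ : (2 : F) ^ 2 = 0))
  rw [ht] at h
  linear_combination -h

variable [Fintype F]

theorem odd_of_pow {g : G} {n : ℕ} (hn : Odd n) (h : Scal (g ^ n)) :
    Odd (orderOf (pr g)) :=
  hn.of_dvd_nat (orderOf_dvd_of_pow_eq_one (by rw [← map_pow, pr_one_iff]; exact h))

theorem odd_char2 (h2 : (2 : F) = 0) {g : G} (hg : tr g ≠ 0) : Odd (orderOf (pr g)) := by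
  classical
  have : Finite G := inferInstance
  refine odd_of_pow (n := orderOf g) ?_ (by rw [pow_orderOf_eq_one]; exact (scal_iff _).2 (Or.inl rfl))
  by_contra hodd
  obtain ⟨k, hk⟩ := Nat.not_odd_iff_even.1 hodd
  have hpos := orderOf_pos g
  have hh1 : g ^ k ≠ 1 := pow_ne_one_of_lt_orderOf (by omega) (by omega)
  have hhh : g ^ k * g ^ k = 1 := by rw [← pow_add, ← hk, pow_orderOf_eq_one]
  have hns : ¬ Scal (g ^ k) := fun h => by
    rcases (scal_iff _).1 h with h | h
    · exact hh1 h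
    · refine hh1 (h.trans ?_)
      apply Subtype.ext
      rw [Matrix.SpecialLinearGroup.coe_neg, Matrix.SpecialLinearGroup.coe_one]
      apply SL2.mext <;> simp
      all_goals linear_combination -h2
  have e := mul_self (g ^ k)
  rw [← Matrix.SpecialLinearGroup.coe_mul, hhh, Matrix.SpecialLinearGroup.coe_one] at e
  have e00 := congrFun (congrFun e 0) 0
  have e01 := congrFun (congrFun e 0) 1
  have e10 := congrFun (congrFun e 1) 0
  have e11 := congrFun (congrFun e 1) 1
  simp at e00 e01 e10 e11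
  have ht : tr (g ^ k) = 0 := by
    by_contra ht
    exact hns ⟨e01.resolve_left ht, e10.resolve_left ht, mul_left_cancel₀ ht
      (by linear_combination e11 - e00)⟩
  obtain ⟨a, b, hab⟩ := (mem_cent_iff hns).1 (mem_cent.2 ((Commute.refl g).pow_left k).eq)
  apply hg
  rw [tr, hab]
  simp
  rw [tr] at ht
  linear_combination b * ht + a * h2

theorem unip_pow {g : G} {e : F} (he : e * e = 1) (ht : tr g = 2 * e) (n : ℕ) :
    ((g ^ n : G) : M2) = ((n : F) * e ^ (n + 1)) • (g : M2) + ((1 - n) * e ^ n) • (1 : M2) := by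
  induction n with
  | zero => simp
  | succ n ih =>
    rw [pow_succ, Matrix.SpecialLinearGroup.coe_mul, ih, add_mul, smul_mul_assoc, smul_mul_assoc,
      one_mul, mul_self g, ht]
    have e1 : e ^ (n + 1 + 1) = e ^ n := by
      rw [pow_succ, pow_succ, mul_assoc, he, mul_one]
    rw [e1]
    apply SL2.mext <;> simp <;> push_cast <;> ring_nf <;>
      (have he2 : e ^ 2 = 1 := (pow_two e).trans he) <;> grind

theorem split_pow {g : G} {l m : F} (hs : l + m = tr g) (hp : l * m = 1) (n : ℕ) :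
    (m - l) • ((g ^ n : G) : M2) =
      (m ^ n - l ^ n) • (g : M2) + (m * l ^ n - l * m ^ n) • (1 : M2) := by
  induction n with
  | zero => simp
  | succ n ih =>
    rw [pow_succ, Matrix.SpecialLinearGroup.coe_mul, ← smul_mul_assoc, ih, add_mul,
      smul_mul_assoc, smul_mul_assoc, one_mul, mul_self g, ← hs]
    apply SL2.mext <;> simp <;> ring_nf <;> grind

theorem odd_unip (h2 : (2 : F) ≠ 0) {g : G} {e : F} (he : e * e = 1) (ht : tr g = 2 * e) :
    Odd (orderOf (pr g)) := by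
  obtain ⟨p, hp⟩ := CharP.exists F
  have hpp : p.Prime := CharP.char_is_prime F p
  have hp2 : p ≠ 2 := fun h => h2 (by subst h; exact_mod_cast CharP.cast_eq_zero F 2)
  refine odd_of_pow (hpp.odd_of_ne_two hp2) ?_
  rw [SL2.Scal, unip_pow he ht p, CharP.cast_eq_zero F p]
  simp

theorem odd_split (hq : Fintype.card F % 4 = 3) (h2 : (2 : F) ≠ 0) {g : G} {γ s : F}
    (hs : γ ^ 2 - 1 = s * s) (ht : tr g = -(2 * γ)) : Odd (orderOf (pr g)) := by
  by_cases hs0 : s = 0
  · refine odd_unip h2 (e := -γ) ?_ (by rw [ht]; ring)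
    rw [hs0] at hs; linear_combination hs
  have hl : (-γ + s) * (-γ - s) = 1 := by linear_combination hs
  have h1 : (-γ + s) ≠ 0 := left_ne_zero_of_mul_eq_one hl
  have h1' : (-γ - s) ≠ 0 := right_ne_zero_of_mul_eq_one hl
  have e := split_pow (g := g) (l := -γ + s) (m := -γ - s) (by rw [ht]; ring) hl
    (Fintype.card F - 1)
  rw [FiniteField.pow_card_sub_one_eq_one _ h1, FiniteField.pow_card_sub_one_eq_one _ h1'] at e
  simp only [sub_self, zero_smul, zero_add, mul_one] at e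
  have hne : (-γ - s) - (-γ + s) ≠ 0 := fun h => hs0 ((mul_eq_zero.1
    (show (2 : F) * s = 0 by linear_combination -h)).resolve_left h2)
  have hpow : g ^ (Fintype.card F - 1) = 1 := by
    apply Subtype.ext
    rw [Matrix.SpecialLinearGroup.coe_one]
    exact smul_right_injective M2 hne e
  refine odd_of_pow (n := (Fintype.card F - 1) / 2) ?_ (scal_of_sq h2 ?_)
  · rw [Nat.odd_iff]; omega
  · rw [← pow_add, show (Fintype.card F - 1) / 2 + (Fintype.card F - 1) / 2 =
      Fintype.card F - 1 by omega, hpow]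

theorem sq_or_neg (hm : ¬ IsSquare (-1 : F)) (a : F) : IsSquare a ∨ IsSquare (-a) := by
  classical
  by_contra hc
  rw [not_or, ← quadraticChar_neg_one_iff_not_isSquare, ← quadraticChar_neg_one_iff_not_isSquare,
    show -a = (-1) * a by ring, map_mul, quadraticChar_neg_one_iff_not_isSquare.2 hm] at hc
  rw [hc.1] at hc
  exact absurd hc.2 (by norm_num)

theorem field_count (hm : ¬ IsSquare (-1 : F)) (hq : 4 ≤ Fintype.card F) (h2 : (2 : F) ≠ 0)
    (β σ : F) (hσ : σ ≠ 0) :
    ∃ γ u v : F, γ ^ 2 + u ^ 2 + v ^ 2 = 1 ∧ IsSquare (γ ^ 2 - 1) ∧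
      IsSquare ((β * γ + σ * u) ^ 2 - 1) := by
  classical
  let A : Finset F := Finset.univ.filter fun x => IsSquare (x ^ 2 - 1)
  let E : Finset F := Finset.univ.filter fun x => IsSquare (x ^ 2 + 1)
  have hne : (1 : F) ≠ -1 := fun h => h2 (by linear_combination h)
  have key : ∀ s ∈ E, ∃ x : F, x ∈ A.erase (-1) ∧ x ^ 2 = s ^ 2 + 1 ∧ IsSquare (s * x) := by
    intro s hs
    obtain ⟨r, hr⟩ := (Finset.mem_filter.1 hs).2
    have hA : ∀ x : F, x ^ 2 = s ^ 2 + 1 → x ∈ A := fun x hx =>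
      Finset.mem_filter.2 ⟨Finset.mem_univ _, s, by rw [hx]; ring⟩
    by_cases hs0 : s = 0
    · subst hs0
      exact ⟨1, Finset.mem_erase.2 ⟨hne, hA 1 (by ring)⟩, by ring, by simp⟩
    obtain ⟨x, hx, hsx⟩ : ∃ x : F, x ^ 2 = s ^ 2 + 1 ∧ IsSquare (s * x) := by
      rcases sq_or_neg hm (s * r) with h | h
      · exact ⟨r, by rw [hr]; ring, h⟩
      · exact ⟨-r, by rw [hr]; ring, by rwa [mul_neg]⟩
    refine ⟨x, Finset.mem_erase.2 ⟨?_, hA x hx⟩, hx, hsx⟩
    rintro rfl
    exact hs0 (pow_eq_zero_iff two_ne_zero |>.1 (show s ^ 2 = 0 by linear_combination -hx))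
  choose f hf1 hf2 hf3 using key
  have hE : E.card < A.card := by
    have hcard : E.card ≤ (A.erase (-1)).card := by
      rw [← Finset.card_attach (s := E)]
      refine Finset.card_le_card_of_injOn (fun s => f s.1 s.2) (fun s _ => hf1 s.1 s.2) ?_
      intro s _ t _ hst
      have hst' : f s.1 s.2 = f t.1 t.2 := hst
      apply Subtype.ext
      have e : (s.1) ^ 2 = (t.1) ^ 2 := by
        have := hf2 s.1 s.2
        rw [hst', hf2 t.1 t.2] at this
        linear_combination -this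
      rcases sq_eq_sq_iff_eq_or_eq_neg.1 e with h | h
      · exact h
      by_contra hne'
      obtain ⟨a, ha⟩ := hf3 s.1 s.2
      obtain ⟨b, hb⟩ := hf3 t.1 t.2
      have hx0 : t.1 * f t.1 t.2 ≠ 0 := by
        refine mul_ne_zero (fun h0 => hne' (by rw [h, h0, neg_zero])) ?_
        exact fun h0 => hm ⟨t.1, by linear_combination hf2 t.1 t.2 - (f t.1 t.2) * h0⟩
      rw [hst', h] at ha
      have hb0 : b ≠ 0 := fun h0 => hx0 (by rw [hb, h0, mul_zero])
      exact hm ⟨a / b, by field_simp; linear_combination ha + hb⟩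
    exact lt_of_le_of_lt hcard (Finset.card_erase_lt_of_mem (Finset.mem_filter.2
      ⟨Finset.mem_univ _, 0, by ring⟩))
  obtain ⟨γ, t, ht, ht0⟩ : ∃ γ t : F, γ ^ 2 - 1 = t * t ∧ t ≠ 0 := by
    obtain ⟨w, hw⟩ : ∃ w : F, w ∉ ({0, 1, -1} : Finset F) := by
      by_contra hc
      push Not at hc
      have := Finset.card_le_card (fun x _ => hc x : (Finset.univ : Finset F) ⊆ {0, 1, -1})
      have := Finset.card_le_three (a := (0 : F)) (b := 1) (c := -1)
      rw [Finset.card_univ] at *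
      omega
    simp only [Finset.mem_insert, Finset.mem_singleton, not_or] at hw
    obtain ⟨w0, w1, w2⟩ := hw
    refine ⟨(w + w⁻¹) / 2, (w - w⁻¹) / 2, ?_, ?_⟩
    · field_simp; ring
    · intro h
      rcases div_eq_zero_iff.1 h with h | h
      · have : w * w = 1 := by field_simp at h; linear_combination h
        rcases mul_self_eq_one_iff.1 this with e | e
        · exact w1 e
        · exact w2 e
      · exact h2 h
  obtain ⟨δ, hδA, hδE⟩ : ∃ δ ∈ A, (δ - β * γ) / (σ * t) ∉ E := by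
    by_contra hc
    push Not at hc
    have := Finset.card_le_card_of_injOn (fun δ : F => (δ - β * γ) / (σ * t)) hc
      (fun a _ b _ h => by
        have h' : a - β * γ = b - β * γ := (div_left_inj' (mul_ne_zero hσ ht0)).1 h
        linear_combination h')
    omega
  simp only [E, Finset.mem_filter, Finset.mem_univ, true_and] at hδE
  obtain ⟨w, hw⟩ := (sq_or_neg hm _).resolve_left hδE
  refine ⟨γ, (δ - β * γ) / σ, t * w, ?_, ⟨t, ht⟩, ?_⟩
  · have e : ((δ - β * γ) / σ) ^ 2 = t * t * ((δ - β * γ) / (σ * t)) ^ 2 := by field_simp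
    rw [e]
    linear_combination ht - t * t * hw
  · rw [show β * γ + σ * ((δ - β * γ) / σ) = δ by field_simp; ring]
    exact (Finset.mem_filter.1 hδA).2

theorem common_char2 (h2 : (2 : F) = 0) {X Y : G} (hX : tr X = 0) (hX' : ¬ Scal X)
    (hY : tr Y = 0) (hY' : ¬ Scal Y) :
    ∃ Z : G, tr Z = 0 ∧ ¬ Scal Z ∧ Odd (orderOf (pr (X * Z))) ∧ Odd (orderOf (pr (Z * Y))) := by
  set b := (X : M2) 0 1
  set c := (X : M2) 1 0
  set b' := (Y : M2) 0 1
  set c' := (Y : M2) 1 0
  have hbc : ∀ g : G, tr g = 0 → ¬ Scal g → ¬ ((g : M2) 0 1 = 0 ∧ (g : M2) 1 0 = 0) :=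
    fun g hg hg' h => hg' ⟨h.1, h.2, by rw [g11 hg]; linear_combination (g : M2) 0 0 * h2⟩
  have hX0 := hbc X hX hX'
  have hY0 := hbc Y hY hY'
  suffices h : ∃ (a' u v : F) (h : a' ^ 2 + u * v = -1), ¬ (u = 0 ∧ v = 0) ∧
      b * v + c * u ≠ 0 ∧ u * c' + v * b' ≠ 0 by
    obtain ⟨a', u, v, h, h0, hXZ, hZY⟩ := h
    refine ⟨tri a' u v h, tri_tr _ _ _ h, fun hs => h0 ⟨by simpa [tri] using hs.1,
      by simpa [tri] using hs.2.1⟩, odd_char2 h2 ?_, odd_char2 h2 ?_⟩
    · rw [tr_mul_zero hX (tri_tr _ _ _ h), h2]; simpa [tri] using hXZ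
    · rw [tr_mul_zero (tri_tr _ _ _ h) hY, h2]; simpa [tri] using hZY
  by_cases h1 : c ≠ 0 ∧ c' ≠ 0
  · exact ⟨1, 1, 0, by linear_combination h2, by simp, by simpa using h1.1, by simpa using h1.2⟩
  by_cases h3 : b ≠ 0 ∧ b' ≠ 0
  · exact ⟨1, 0, 1, by linear_combination h2, by simp, by simpa using h3.1, by simpa using h3.2⟩
  refine ⟨0, 1, 1, by linear_combination h2, by simp, ?_, ?_⟩ <;> simp <;>
    (intro h; grind)

theorem common_odd (hq : 4 ≤ Fintype.card F) (h2 : (2 : F) ≠ 0) {X Y : G} (hX : tr X = 0)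
    (hY : tr Y = 0) :
    ∃ Z : G, tr Z = 0 ∧ ¬ Scal Z ∧ Odd (orderOf (pr (X * Z))) ∧ Odd (orderOf (pr (Z * Y))) := by
  have hdX := entries hX
  have hdY := entries hY
  set a := (X : M2) 0 0 with ha
  set b := (X : M2) 0 1 with hb
  set c := (X : M2) 1 0 with hc
  set a' := (Y : M2) 0 0 with ha'
  set b' := (Y : M2) 0 1 with hb'
  set c' := (Y : M2) 1 0 with hc'
  obtain ⟨β, hβ⟩ : ∃ β : F, 2 * (a * a') + b * c' + c * b' = -(2 * β) :=
    ⟨-(2 * (a * a') + b * c' + c * b') / 2, by field_simp⟩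
  have hXY : tr (X * Y) = -(2 * β) := by rw [tr_mul_zero hX hY]; exact hβ
  have hXX : Odd (orderOf (pr (X * X))) := by
    rw [show pr (X * X) = 1 from by rw [pr_one_iff, sq_neg_one hX, scal_iff]; exact Or.inr rfl,
      orderOf_one]
    exact odd_one
  -- the general element of trace zero in the span of `X`, `Y`, `[X, Y] / 2`
  have comb : ∀ p r w : F, p ^ 2 + 2 * β * p * r + r ^ 2 + w ^ 2 * (1 - β ^ 2) = 1 →
      ∃ Z : G, tr Z = 0 ∧ tr (X * Z) = -(2 * (p + β * r)) ∧
        tr (Z * Y) = -(2 * (β * p + r)) := by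
    intro p r w hn
    have hd : (p * a + r * a' + w * ((b * c' - c * b') / 2)) ^ 2 +
        (p * b + r * b' + w * (a * b' - b * a')) * (p * c + r * c' + w * (c * a' - a * c'))
        = -1 := by
      field_simp
      grind
    refine ⟨tri _ _ _ hd, tri_tr _ _ _ hd, ?_, ?_⟩
    · rw [tr_mul_zero hX (tri_tr _ _ _ hd)]
      simp [tri, ← ha, ← hb, ← hc]
      field_simp
      grind
    · rw [tr_mul_zero (tri_tr _ _ _ hd) hY]
      simp [tri, ← ha', ← hb', ← hc']
      field_simp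
      grind
  by_cases hm : IsSquare (-1 : F)
  · by_cases hβ1 : 1 + β = 0
    · exact ⟨X, hX, not_scal_of_tr_zero h2 hX, hXX, odd_unip h2 (e := -β)
        (by linear_combination (β - 1) * hβ1) (by rw [hXY]; ring)⟩
    obtain ⟨i, hi⟩ := hm
    obtain ⟨Z, hZ, e1, e2⟩ := comb (1 / (1 + β)) (1 / (1 + β)) (i / (1 + β))
      (by field_simp; linear_combination (β ^ 2 - 1) * hi)
    refine ⟨Z, hZ, not_scal_of_tr_zero h2 hZ, odd_unip h2 (e := -1) (by ring) ?_,
      odd_unip h2 (e := -1) (by ring) ?_⟩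
    · rw [e1]; field_simp
    · rw [e2]; field_simp; ring
  · have hq4 : Fintype.card F % 4 = 3 := by
      by_contra h; exact hm (FiniteField.isSquare_neg_one_iff.2 h)
    rcases sq_or_neg hm (β ^ 2 - 1) with h | h
    · obtain ⟨s, hs⟩ := h
      exact ⟨X, hX, not_scal_of_tr_zero h2 hX, hXX, odd_split hq4 h2 hs hXY⟩
    obtain ⟨σ, hσ⟩ := h
    by_cases hσ0 : σ = 0
    · refine ⟨X, hX, not_scal_of_tr_zero h2 hX, hXX, odd_split hq4 h2 (s := 0) ?_ hXY⟩
      rw [hσ0] at hσ; linear_combination -hσ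
    obtain ⟨γ, u, v, hsum, ⟨s1, hs1⟩, ⟨s2, hs2⟩⟩ := field_count hm hq h2 β σ hσ0
    obtain ⟨Z, hZ, e1, e2⟩ := comb (γ - u * β / σ) (u / σ) (v / σ) (by
      field_simp
      linear_combination σ ^ 2 * hsum + (u ^ 2 + v ^ 2) * hσ)
    refine ⟨Z, hZ, not_scal_of_tr_zero h2 hZ, odd_split hq4 h2 hs1 ?_, odd_split hq4 h2 hs2 ?_⟩
    · rw [e1]; ring
    · rw [e2]; field_simp; linear_combination -u * hσ

theorem common (hq : 4 ≤ Fintype.card F) {x y : Matrix.ProjectiveSpecialLinearGroup (Fin 2) F}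
    (hx : orderOf x = 2) (hy : orderOf y = 2) :
    ∃ z, orderOf z = 2 ∧ Odd (orderOf (x * z)) ∧ Odd (orderOf (z * y)) := by
  obtain ⟨X, rfl, hX, hX'⟩ := lift_inv hx
  obtain ⟨Y, rfl, hY, hY'⟩ := lift_inv hy
  obtain ⟨Z, h1, h2, h3, h4⟩ : ∃ Z : G, tr Z = 0 ∧ ¬ Scal Z ∧
      Odd (orderOf (pr (X * Z))) ∧ Odd (orderOf (pr (Z * Y))) := by
    by_cases hh : (2 : F) = 0
    · exact common_char2 hh hX hX' hY hY'
    · exact common_odd hq hh hX hY
  exact ⟨pr Z, inv_of_tr h1 h2, by rwa [← map_mul], by rwa [← map_mul]⟩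

theorem commuting (hq : 4 ≤ Fintype.card F) {x : Matrix.ProjectiveSpecialLinearGroup (Fin 2) F}
    (hx : orderOf x = 2) :
    ∃ y, orderOf y = 2 ∧ orderOf (x * y) = 2 ∧ orderOf (y * x) = 2 := by
  classical
  obtain ⟨X, rfl, hX, hX'⟩ := lift_inv hx
  have hdX := entries hX
  suffices h : ∃ Y : G, tr Y = 0 ∧ ¬ Scal Y ∧ tr (X * Y) = 0 ∧ ¬ Scal (X * Y) ∧ ¬ Scal (Y * X) by
    obtain ⟨Y, h1, h2, h3, h4, h5⟩ := h
    refine ⟨pr Y, inv_of_tr h1 h2, ?_, ?_⟩
    · rw [← map_mul]; exact inv_of_tr h3 h4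
    · rw [← map_mul]
      refine inv_of_tr ?_ h5
      rw [← trace_eq, Matrix.SpecialLinearGroup.coe_mul, Matrix.trace_mul_comm,
        ← Matrix.SpecialLinearGroup.coe_mul, trace_eq, h3]
  set a := (X : M2) 0 0 with ha
  set b := (X : M2) 0 1 with hb
  set c := (X : M2) 1 0 with hc
  by_cases h2 : (2 : F) = 0
  · obtain ⟨k, hk⟩ : ∃ k : F, k ∉ ({0, 1} : Finset F) := by
      by_contra hc
      push Not at hc
      have := Finset.card_le_card (fun x _ => hc x : (Finset.univ : Finset F) ⊆ {0, 1})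
      have := Finset.card_le_two (a := (0 : F)) (b := 1)
      rw [Finset.card_univ] at *
      omega
    simp only [Finset.mem_insert, Finset.mem_singleton, not_or] at hk
    have hbc : ¬ (b = 0 ∧ c = 0) := fun h =>
      hX' ⟨h.1, h.2, by rw [g11 hX]; linear_combination a * h2⟩
    have hd : (1 + k * (a + 1)) ^ 2 + (k * b) * (k * c) = -1 := by grind
    set Y := tri _ _ _ hd with hYdef
    have hY : tr Y = 0 := tri_tr _ _ _ hd
    have hYs : ¬ Scal Y := fun hs => hbc ⟨by simpa [hYdef, tri, hk.1] using hs.1,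
      by simpa [hYdef, tri, hk.1] using hs.2.1⟩
    have hsq : X * X = 1 := by
      rw [sq_neg_one hX]
      apply Subtype.ext
      rw [Matrix.SpecialLinearGroup.coe_neg, Matrix.SpecialLinearGroup.coe_one]
      apply SL2.mext <;> simp
      all_goals linear_combination -h2
    have hneq : Y ≠ X := by
      intro h
      refine hbc ⟨?_, ?_⟩
      · have := congrArg (fun g : G => (g : M2) 0 1) h
        simp [hYdef, tri, ← hb] at this
        exact (mul_eq_zero.1 (show (k - 1) * b = 0 by linear_combination this)).resolve_left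
          (sub_ne_zero.2 hk.2)
      · have := congrArg (fun g : G => (g : M2) 1 0) h
        simp [hYdef, tri, ← hc] at this
        exact (mul_eq_zero.1 (show (k - 1) * c = 0 by linear_combination this)).resolve_left
          (sub_ne_zero.2 hk.2)
    have hone : ∀ g : G, Scal g → g = 1 := fun g hg => by
      rcases (scal_iff g).1 hg with h | h
      · exact h
      · rw [h]
        apply Subtype.ext
        rw [Matrix.SpecialLinearGroup.coe_neg, Matrix.SpecialLinearGroup.coe_one]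
        apply SL2.mext <;> simp
        all_goals linear_combination -h2
    refine ⟨Y, hY, hYs, ?_, fun hs => hneq ?_, fun hs => hneq ?_⟩
    · rw [tr_mul_zero hX hY]
      simp [hYdef, tri, ← ha, ← hb, ← hc]
      grind
    · exact mul_left_cancel ((hone _ hs).trans hsq.symm)
    · exact mul_right_cancel ((hone _ hs).trans hsq.symm)
  · suffices h : ∃ r s t : F, r ^ 2 + s * t = -1 ∧ 2 * (a * r) + b * t + c * s = 0 by
      obtain ⟨r, s, t, hd, he⟩ := h
      have hY : tr (tri r s t hd) = 0 := tri_tr _ _ _ hd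
      have hXY : tr (X * tri r s t hd) = 0 := by
        rw [tr_mul_zero hX hY]; simpa [tri, ← ha, ← hb, ← hc] using he
      refine ⟨tri r s t hd, hY, not_scal_of_tr_zero h2 hY, hXY, not_scal_of_tr_zero h2 hXY,
        not_scal_of_tr_zero h2 ?_⟩
      rw [← trace_eq, Matrix.SpecialLinearGroup.coe_mul, Matrix.trace_mul_comm,
        ← Matrix.SpecialLinearGroup.coe_mul, trace_eq, hXY]
    by_cases hc0 : c = 0
    · have ha0 : a ≠ 0 := fun h => by simp [h, hc0] at hdX
      refine ⟨-b / (2 * a), -1 - (-b / (2 * a)) ^ 2, 1, by ring, ?_⟩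
      rw [hc0]; field_simp; ring
    · obtain ⟨w, z, hwz⟩ : ∃ w z : F, w ^ 2 + z ^ 2 = -1 := by
        obtain ⟨p, hp⟩ := CharP.exists F
        have hpp : p.Prime := CharP.char_is_prime F p
        haveI : NeZero p := ⟨hpp.ne_zero⟩
        obtain ⟨u, v, huv⟩ := CharP.sq_add_sq F p (-1)
        exact ⟨(u : F), (v : F), by exact_mod_cast huv⟩
      refine ⟨w + z * a, -(2 * (a * (w + z * a)) + b * (c * z)) / c, c * z, ?_, ?_⟩
      · field_simp
        grind
      · field_simp; ring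

theorem conj_of_odd {H : Type*} [Group H] {x y : H} (hx : x * x = 1) (hy : y * y = 1)
    (h : Odd (orderOf (x * y))) : IsConj y x := by
  obtain ⟨m, hm⟩ := h
  set r := x * y with hr
  have hxi : x⁻¹ = x := inv_eq_of_mul_eq_one_right hx
  have hrx : x * r * x⁻¹ = r⁻¹ := by
    rw [hr, _root_.mul_inv_rev, inv_eq_of_mul_eq_one_right hy, hxi, ← mul_assoc x x y, hx, one_mul]
  have hc : x * r ^ (m + 1) * x⁻¹ = (r ^ (m + 1))⁻¹ := by rw [← conj_pow, hrx, inv_pow]
  have hy' : y = x * r := by rw [hr, ← mul_assoc, hx, one_mul]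
  refine isConj_iff.2 ⟨r ^ (m + 1), ?_⟩
  have hp : r ^ (m + 1) * x = x * (r ^ (m + 1))⁻¹ := by
    calc r ^ (m + 1) * x = x * x⁻¹ * (r ^ (m + 1) * x) := by group
      _ = x * (x * r ^ (m + 1) * x⁻¹) := by rw [hxi]; group
      _ = _ := by rw [hc]
  rw [hy', ← mul_assoc (r ^ (m + 1)), hp]
  have hone : r ^ (2 * m + 1) = 1 := by rw [← hm, pow_orderOf_eq_one]
  calc x * (r ^ (m + 1))⁻¹ * r * (r ^ (m + 1))⁻¹ = x * (r ^ (2 * m + 1))⁻¹ := by group
    _ = x := by rw [hone, inv_one, mul_one]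

/-- Let F be a finite field with at least 4 elements and let X be a conjugacy class of involutions of PSL(2, F). The graph on X joining two distinct involutions whose product has odd order is connected and has diameter exactly 2. -/
theorem result {F : Type*} [Field F] [Fintype F] (hF : 4 ≤ Fintype.card F)
    (t : Matrix.ProjectiveSpecialLinearGroup (Fin 2) F) (ht : orderOf t = 2) :
    (SimpleGraph.fromRel fun x y : {x : Matrix.ProjectiveSpecialLinearGroup (Fin 2) F // IsConj t x} =>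
        Odd (orderOf (x.1 * y.1))).Connected ∧
      (SimpleGraph.fromRel fun x y : {x : Matrix.ProjectiveSpecialLinearGroup (Fin 2) F // IsConj t x} =>
        Odd (orderOf (x.1 * y.1))).diam = 2 := by
  classical
  set R := SimpleGraph.fromRel fun x y :
    {x : Matrix.ProjectiveSpecialLinearGroup (Fin 2) F // IsConj t x} =>
      Odd (orderOf (x.1 * y.1)) with hR
  have hord : ∀ x : {x : Matrix.ProjectiveSpecialLinearGroup (Fin 2) F // IsConj t x},
      orderOf x.1 = 2 := fun x => by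
    obtain ⟨g, hg⟩ := isConj_iff.1 x.2
    rw [← hg, ← MulAut.conj_apply, MulEquiv.orderOf_eq, ht]
  have hsq : ∀ z : Matrix.ProjectiveSpecialLinearGroup (Fin 2) F, orderOf z = 2 → z * z = 1 :=
    fun z hz => by
      have h := pow_orderOf_eq_one z
      rw [hz, pow_two] at h
      exact h
  have hwalk : ∀ x y, ∃ p : R.Walk x y, p.length ≤ 2 := by
    intro x y
    obtain ⟨z, hz, h1, h2⟩ := common hF (hord x) (hord y)
    have hzc : IsConj t z :=
      x.2.trans (conj_of_odd (hsq _ (hord x)) (hsq _ hz) h1).symm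
    let Z : {x : Matrix.ProjectiveSpecialLinearGroup (Fin 2) F // IsConj t x} := ⟨z, hzc⟩
    by_cases e1 : x = Z <;> by_cases e2 : Z = y
    · subst e1; subst e2; exact ⟨.nil, by simp⟩
    · subst e1
      have a2 : R.Adj Z y := ⟨e2, Or.inl h2⟩
      exact ⟨a2.toWalk, by simp⟩
    · subst e2
      have a1 : R.Adj x Z := ⟨e1, Or.inl h1⟩
      exact ⟨a1.toWalk, by simp⟩
    · have a1 : R.Adj x Z := ⟨e1, Or.inl h1⟩
      have a2 : R.Adj Z y := ⟨e2, Or.inl h2⟩
      exact ⟨.cons a1 (.cons a2 .nil), by simp⟩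
  haveI : Nonempty {x : Matrix.ProjectiveSpecialLinearGroup (Fin 2) F // IsConj t x} :=
    ⟨⟨t, IsConj.refl t⟩⟩
  have hle : R.ediam ≤ 2 := SimpleGraph.ediam_le_of_edist_le fun u v => by
    obtain ⟨p, hp⟩ := hwalk u v
    exact (SimpleGraph.edist_le p).trans (by exact_mod_cast hp)
  refine ⟨SimpleGraph.Connected.mk fun u v => ⟨(hwalk u v).choose⟩, ?_⟩
  obtain ⟨y, hy, hxy, hyx⟩ := commuting hF ht
  obtain ⟨z, hz, h1, h2⟩ := common hF ht hy
  have hyc : IsConj t y :=
    (conj_of_odd (hsq _ ht) (hsq _ hz) h1).symm.trans (conj_of_odd (hsq _ hz) (hsq _ hy) h2).symm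
  let u : {x : Matrix.ProjectiveSpecialLinearGroup (Fin 2) F // IsConj t x} := ⟨t, IsConj.refl t⟩
  let v : {x : Matrix.ProjectiveSpecialLinearGroup (Fin 2) F // IsConj t x} := ⟨y, hyc⟩
  have hne : u ≠ v := fun h => by
    have : t = y := congrArg Subtype.val h
    rw [← this, hsq _ ht, orderOf_one] at hxy
    omega
  have hnadj : ¬ R.Adj u v := by
    rintro ⟨-, h | h⟩
    · rw [hxy] at h; exact absurd h (by decide)
    · rw [hyx] at h; exact absurd h (by decide)
  have hge : (2 : ℕ∞) ≤ R.edist u v := by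
    obtain ⟨p, -⟩ := hwalk u v
    obtain ⟨n, hn⟩ := ENat.ne_top_iff_exists.1 (ne_top_of_le_ne_top (ENat.coe_ne_top p.length)
      (SimpleGraph.edist_le p))
    rw [← hn]
    have h0 : n ≠ 0 := fun h => hne (SimpleGraph.edist_eq_zero_iff.1 (by rw [← hn, h]; rfl))
    have h1 : n ≠ 1 := fun h => hnadj (SimpleGraph.edist_eq_one_iff_adj.1 (by rw [← hn, h]; rfl))
    exact_mod_cast (show 2 ≤ n by omega)
  have : R.ediam = 2 := le_antisymm hle (hge.trans SimpleGraph.edist_le_ediam)
  rw [SimpleGraph.diam, this]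
  rfl

end Cfsg.Agent.S3266
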