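import Cfsg.Statements.S3269
import Cfsg.Agent.Lib.InvChar.BrauerSuzuki

set_option autoImplicit false
open Cfsg

namespace Cfsg.Agent.S3269

open scoped Classical IsMulCommutative

section Quat
open QuaternionGroup

variable {N : ℕ}

theorem two_mul_eq_zero_cases (hN : N ≠ 0) {j : ZMod (2 * N)} (h : 2 * j = 0) :
    j = 0 ∨ j = (N : ZMod (2 * N)) := by
  haveI : NeZero (2 * N) := ⟨by omega⟩
  have hj : ((j.val : ℕ) : ZMod (2 * N)) = j := ZMod.natCast_zmod_val j
  have h2 : ((2 * j.val : ℕ) : ZMod (2 * N)) = 0 := by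
    rw [Nat.cast_mul, hj]; exact_mod_cast h
  rw [ZMod.natCast_eq_zero_iff] at h2
  obtain ⟨c, hc⟩ : N ∣ j.val := Nat.dvd_of_mul_dvd_mul_left (by norm_num) h2
  have hlt := j.val_lt
  have hc2 : c < 2 := by
    by_contra hcon
    have := Nat.mul_le_mul_left N (not_lt.mp hcon)
    omega
  interval_cases c
  · left; rw [← hj, hc]; simp
  · right; rw [← hj, hc]; simp

theorem twoN (N : ℕ) : (N : ZMod (2 * N)) + N = 0 := by
  rw [← Nat.cast_add, ← two_mul, ZMod.natCast_self]

theorem z_comm (q : QuaternionGroup N) : a (N : ZMod (2 * N)) * q = q * a (N : ZMod (2 * N)) := by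
  rcases q with i | i
  · simp [add_comm]
  · simp only [a_mul_xa, xa_mul_a]
    have := twoN N
    congr 1
    linear_combination (-1 : ZMod (2 * N)) * this

theorem comm_xa {i : ZMod (2 * N)} (hN : N ≠ 0) {q : QuaternionGroup N} (h : Commute q (xa i)) :
    q = 1 ∨ q = a (N : ZMod (2 * N)) ∨ q = xa i ∨ q = xa i * a (N : ZMod (2 * N)) := by
  have h' := h.eq
  rcases q with j | j
  · simp only [a_mul_xa, xa_mul_a, xa.injEq] at h'
    rcases two_mul_eq_zero_cases hN (j := j) (by linear_combination -h') with rfl | rfl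
    · exact Or.inl a_zero
    · exact Or.inr (Or.inl rfl)
  · simp only [xa_mul_xa, a.injEq] at h'
    rcases two_mul_eq_zero_cases hN (j := j - i) (by linear_combination -h') with e | e
    · exact Or.inr (Or.inr (Or.inl (by rw [sub_eq_zero.mp e])))
    · refine Or.inr (Or.inr (Or.inr ?_))
      rw [xa_mul_a, ← e]
      congr 1
      ring

theorem not_all_commute_xa (hN : 2 ≤ N) (i : ZMod (2 * N)) :
    ¬ Commute (a 1) (xa i : QuaternionGroup N) := by
  intro h
  have h' := h.eq
  simp only [a_mul_xa, xa_mul_a, xa.injEq] at h'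
  have h2 : ((2 : ℕ) : ZMod (2 * N)) = 0 := by push_cast; linear_combination -h'
  rw [ZMod.natCast_eq_zero_iff] at h2
  have := Nat.le_of_dvd (by norm_num) h2
  omega

/-- Two commuting subgroups generating a quaternion group: one of them is central. -/
theorem factor_central_aux (hN : 2 ≤ N) {X Y : Subgroup (QuaternionGroup N)}
    (hc : ∀ x ∈ X, ∀ y ∈ Y, x * y = y * x) (htop : X ⊔ Y = ⊤) {i : ZMod (2 * N)}
    (hi : xa i ∈ X) : ∀ y ∈ Y, y = 1 ∨ y = a (N : ZMod (2 * N)) := by
  by_contra hne
  push Not at hne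
  obtain ⟨y, hy, hy1, hyz⟩ := hne
  have hyx : y = xa i ∨ y = xa i * a (N : ZMod (2 * N)) := by
    rcases comm_xa (by omega) (show Commute y (xa i) from (hc _ hi y hy).symm) with h | h | h
    · exact absurd h hy1
    · exact absurd h hyz
    · exact h
  have hX : ∀ x ∈ X, Commute x (xa i) := by
    intro x hx
    have h0 : Commute x y := hc x hx y hy
    rcases hyx with h | h
    · rwa [h] at h0
    · have hz : Commute x (a (N : ZMod (2 * N)))⁻¹ :=
        (show Commute x (a (N : ZMod (2 * N))) from (z_comm x).symm).inv_right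
      have := h0.mul_right hz
      rwa [h, mul_inv_cancel_right] at this
  have hle : X ⊔ Y ≤ Subgroup.centralizer ({xa i} : Set (QuaternionGroup N)) := by
    refine sup_le (fun x hx => ?_) (fun x hx => ?_)
    · exact Subgroup.mem_centralizer_singleton_iff.mpr (hX x hx).eq
    · exact Subgroup.mem_centralizer_singleton_iff.mpr (hc _ hi x hx).symm
  rw [htop] at hle
  exact not_all_commute_xa hN i
    (Subgroup.mem_centralizer_singleton_iff.mp (hle (Subgroup.mem_top (a 1))))

theorem factor_central (hN : 2 ≤ N) {X Y : Subgroup (QuaternionGroup N)}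
    (hc : ∀ x ∈ X, ∀ y ∈ Y, x * y = y * x) (htop : X ⊔ Y = ⊤) :
    (∀ y ∈ Y, y = 1 ∨ y = a (N : ZMod (2 * N))) ∨ (∀ x ∈ X, x = 1 ∨ x = a (N : ZMod (2 * N))) := by
  by_cases hX : ∃ i, xa i ∈ X
  · exact Or.inl (factor_central_aux hN hc htop hX.choose_spec)
  by_cases hY : ∃ i, xa i ∈ Y
  · exact Or.inr (factor_central_aux hN (fun x hx y hy => (hc y hy x hx).symm)
      (by rwa [sup_comm]) hY.choose_spec)
  exfalso
  push Not at hX hY
  let A : Subgroup (QuaternionGroup N) :=
    { carrier := {q | ∃ j, q = a j}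
      one_mem' := ⟨0, a_zero.symm⟩
      mul_mem' := by rintro _ _ ⟨j, rfl⟩ ⟨k, rfl⟩; exact ⟨j + k, rfl⟩
      inv_mem' := by rintro _ ⟨j, rfl⟩; exact ⟨-j, rfl⟩ }
  have hle : X ⊔ Y ≤ A := by
    refine sup_le (fun q hq => ?_) (fun q hq => ?_)
    · rcases q with j | j
      · exact ⟨j, rfl⟩
      · exact absurd hq (hX j)
    · rcases q with j | j
      · exact ⟨j, rfl⟩
      · exact absurd hq (hY j)
  rw [htop] at hle
  obtain ⟨j, hj⟩ := hle (Subgroup.mem_top (xa 0))
  cases hj

theorem z_ne_one (hN : N ≠ 0) : (a (N : ZMod (2 * N)) : QuaternionGroup N) ≠ 1 := by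
  rw [← a_zero]
  intro h
  simp only [a.injEq] at h
  rw [ZMod.natCast_eq_zero_iff] at h
  have := Nat.le_of_dvd (Nat.pos_of_ne_zero hN) h
  omega

theorem z_sq : (a (N : ZMod (2 * N)) : QuaternionGroup N) * a (N : ZMod (2 * N)) = 1 := by
  rw [a_mul_a, twoN, a_zero]

/-- The involution is a commutator when `N` is even. -/
theorem z_commutator {m : ℕ} (hm : N = 2 * m) :
    xa 0 * a (m : ZMod (2 * N)) * (xa 0)⁻¹ * (a (m : ZMod (2 * N)))⁻¹ =
      (a (N : ZMod (2 * N)) : QuaternionGroup N) := by
  rw [mul_inv_eq_iff_eq_mul, mul_inv_eq_iff_eq_mul]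
  have hm' : (N : ZMod (2 * N)) = 2 * (m : ZMod (2 * N)) := by rw [hm]; push_cast; ring
  have := twoN N
  simp only [xa_mul_a, a_mul_a, a_mul_xa]
  congr 1
  linear_combination this - hm'

theorem sq_eq_one_cases (hN : N ≠ 0) {q : QuaternionGroup N} (h : q * q = 1) :
    q = 1 ∨ q = a (N : ZMod (2 * N)) := by
  rcases q with j | j
  · rw [a_mul_a, one_def] at h
    simp only [a.injEq] at h
    rcases two_mul_eq_zero_cases hN (j := j) (by linear_combination h) with rfl | rfl
    · exact Or.inl a_zero
    · exact Or.inr rfl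
  · rw [xa_mul_xa, one_def, add_sub_assoc, sub_self, add_zero] at h
    exact absurd (by rw [← a_zero]; exact h) (z_ne_one hN)

end Quat

theorem comm_map_one {P M : Type*} [Group P] [Group M] (k : P →* M) {c1 c2 z : P}
    (hzc : c1 * c2 * c1⁻¹ * c2⁻¹ = z) (hk : Commute (k c1) (k c2)) : k z = 1 := by
  rw [← hzc, map_mul k, map_mul k, map_mul k, map_inv k, map_inv k, hk.eq]
  group

/-- In `Q × R`, `Q` quaternion, an automorphism fixes the involution of `Q` or moves it into `R`. -/
theorem aut_z_dichotomy {m : ℕ} (hm : 1 ≤ m) {R : Type*} [Group R] [Finite R]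
    (φ : MulAut (QuaternionGroup (2 * m) × R)) :
    φ (QuaternionGroup.a ((2 * m : ℕ) : ZMod (2 * (2 * m))), 1) =
        (QuaternionGroup.a ((2 * m : ℕ) : ZMod (2 * (2 * m))), 1) ∨
      (φ (QuaternionGroup.a ((2 * m : ℕ) : ZMod (2 * (2 * m))), 1)).1 = 1 := by
  set z : QuaternionGroup (2 * m) := QuaternionGroup.a ((2 * m : ℕ) : ZMod (2 * (2 * m))) with hz
  have hN : (2 * m) ≠ 0 := by omega
  haveI : NeZero (2 * m) := ⟨hN⟩
  have hzc := z_commutator (N := 2 * m) rfl
  rw [← hz] at hzc
  set c1 : QuaternionGroup (2 * m) := QuaternionGroup.xa 0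
  set c2 : QuaternionGroup (2 * m) := QuaternionGroup.a (m : ZMod (2 * (2 * m)))
  let F : QuaternionGroup (2 * m) →* QuaternionGroup (2 * m) × R :=
    φ.toMonoidHom.comp (MonoidHom.inl _ _)
  let H : R →* QuaternionGroup (2 * m) × R := φ.toMonoidHom.comp (MonoidHom.inr _ _)
  have hFH : ∀ q r, Commute (F q) (H r) := fun q r => by
    have : Commute ((q, (1 : R)) : QuaternionGroup (2 * m) × R) (1, r) :=
      Prod.ext (by simp) (by simp)
    exact this.map φ.toMonoidHom
  let f := (MonoidHom.fst _ _).comp F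
  let f' := (MonoidHom.fst _ _).comp H
  let g := (MonoidHom.snd _ _).comp F
  let h := (MonoidHom.snd _ _).comp H
  have hc : ∀ x ∈ f.range, ∀ y ∈ f'.range, x * y = y * x := by
    rintro _ ⟨q, rfl⟩ _ ⟨r, rfl⟩
    exact congrArg Prod.fst (hFH q r).eq
  have htop : f.range ⊔ f'.range = ⊤ := by
    rw [eq_top_iff]
    intro q _
    obtain ⟨⟨u, v⟩, huv⟩ := φ.surjective (q, 1)
    have e : q = f u * f' v := by
      show q = (φ (u, 1)).1 * (φ (1, v)).1
      rw [← Prod.fst_mul, ← map_mul φ, Prod.mk_mul_mk, mul_one, one_mul, huv]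
    rw [e]
    exact mul_mem (Subgroup.mem_sup_left ⟨u, rfl⟩) (Subgroup.mem_sup_right ⟨v, rfl⟩)
  rcases factor_central (by omega) hc htop with hY | hX
  · left
    -- `f` is bijective
    have hfz : f z ≠ 1 := by
      intro h1
      have : ∀ q, q ∈ f.range ∨ q * z ∈ f.range := by
        intro q
        have hq : q ∈ f.range ⊔ f'.range := htop ▸ Subgroup.mem_top q
        obtain ⟨⟨u, v⟩, huv⟩ := φ.surjective (q, 1)
        have e : q = f u * f' v := by
          show q = (φ (u, 1)).1 * (φ (1, v)).1
          rw [← Prod.fst_mul, ← map_mul φ, Prod.mk_mul_mk, mul_one, one_mul, huv]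
        rcases hY _ ⟨v, rfl⟩ with hv | hv
        · left; exact ⟨u, by rw [e, hv, mul_one]⟩
        · right; exact ⟨u, by rw [e, hv, mul_assoc, z_sq, mul_one]⟩
      have hzr : z ∈ f.range := by
        rw [← hzc]
        have hl : ∀ w v : QuaternionGroup (2 * m),
            (w * z) * v * (w * z)⁻¹ * v⁻¹ = w * v * w⁻¹ * v⁻¹ := fun w v => by
          rw [show (w * z) * v = w * v * z by rw [mul_assoc, z_comm, ← mul_assoc]]
          group
        have hr : ∀ w v : QuaternionGroup (2 * m),
            w * (v * z) * w⁻¹ * (v * z)⁻¹ = w * v * w⁻¹ * v⁻¹ := fun w v => by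
          rw [show w * (v * z) * w⁻¹ = w * v * w⁻¹ * z by
            rw [← mul_assoc, mul_assoc _ z, z_comm, ← mul_assoc]]
          group
        rcases this c1 with a1 | a1 <;> rcases this c2 with a2 | a2 <;>
          have h4 := mul_mem (mul_mem (mul_mem a1 a2) (inv_mem a1)) (inv_mem a2)
        · exact h4
        · rwa [hr] at h4
        · rwa [hl] at h4
        · rwa [hl, hr] at h4
      have hsurj : Function.Surjective f := by
        intro q
        rcases this q with hq | hq
        · exact hq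
        · have := mul_mem hq hzr
          rwa [mul_assoc, z_sq, mul_one] at this
      have hinj := Finite.injective_iff_surjective.mpr hsurj
      exact z_ne_one hN (hinj (h1.trans (map_one f).symm))
    have hf : f z = z := by
      rcases sq_eq_one_cases hN (q := f z) (by rw [← map_mul f, z_sq, map_one f]) with h1 | h1
      · exact absurd h1 hfz
      · exact h1
    -- the range of `g` is commutative
    have hK : Nat.card h.ker ≤ 2 := by
      refine (Nat.card_le_card_of_injective (fun k : h.ker => decide (f' k.1 = 1)) ?_).trans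
        (by simp)
      intro k l hkl
      have e1 : f' k.1 = f' l.1 := by
        have hd : (f' k.1 = 1) ↔ (f' l.1 = 1) := decide_eq_decide.mp hkl
        rcases hY _ ⟨k.1, rfl⟩ with hk | hk <;> rcases hY _ ⟨l.1, rfl⟩ with hl | hl
        · rw [hk, hl]
        · rw [hd.mp hk, hk]
        · rw [hd.mpr hl, hl]
        · rw [hk, hl]
      have e2 : H k.1 = H l.1 := Prod.ext e1 (k.2.trans l.2.symm)
      have e3 := φ.injective e2
      exact Subtype.ext (congrArg Prod.snd e3)
    have hidx : h.range.index ≤ 2 := by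
      have e1 := Subgroup.card_mul_index h.range
      have e2 := Subgroup.card_mul_index h.ker
      rw [Subgroup.index_ker] at e2
      have : h.range.index = Nat.card h.ker := by
        apply Nat.eq_of_mul_eq_mul_left (Nat.card_pos (α := h.range))
        rw [e1, ← e2, mul_comm]
      omega
    have hAB : ∀ q, ∀ b ∈ h.range, Commute (g q) b := by
      rintro q _ ⟨r, rfl⟩
      exact (hFH q r).map (MonoidHom.snd _ _)
    have hg : Commute (g c1) (g c2) := by
      by_cases h1 : g c1 ∈ h.range
      · exact (hAB c2 _ h1).symm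
      by_cases h2 : g c2 ∈ h.range
      · exact hAB c1 _ h2
      have hi2 : h.range.index = 2 := by
        have h0 := Subgroup.index_ne_zero_of_finite (H := h.range)
        rcases Nat.lt_or_ge h.range.index 2 with hlt | hge
        · exfalso
          have : h.range.index = 1 := by omega
          rw [Subgroup.index_eq_one] at this
          exact h1 (this ▸ Subgroup.mem_top _)
        · omega
      have hb : g c1 * (g c2)⁻¹ ∈ h.range := by
        rw [Subgroup.mul_mem_iff_of_index_two hi2, inv_mem_iff]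
        exact iff_of_false h1 h2
      have := (hAB c2 _ hb).symm.mul_left (Commute.refl (g c2))
      rwa [inv_mul_cancel_right] at this
    exact Prod.ext hf (comm_map_one g hzc hg)
  · right
    refine comm_map_one f hzc ?_
    rcases hX _ ⟨c1, rfl⟩ with h1 | h1 <;> rw [h1]
    · exact Commute.one_left _
    · exact z_comm _

/-- An involution in the centre of `Q × R` fixed by all automorphisms. -/
theorem exists_fixed_invol {m : ℕ} (hm : 1 ≤ m) {R : Type*} [Group R] [Finite R] :
    ∃ u : QuaternionGroup (2 * m) × R, u ≠ 1 ∧ u * u = 1 ∧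
      u ∈ Subgroup.center (QuaternionGroup (2 * m) × R) ∧
      ∀ φ : MulAut (QuaternionGroup (2 * m) × R), φ u = u := by
  haveI : NeZero (2 * m) := ⟨by omega⟩
  set z : QuaternionGroup (2 * m) := QuaternionGroup.a ((2 * m : ℕ) : ZMod (2 * (2 * m))) with hz
  let P := QuaternionGroup (2 * m) × R
  have hzc : ((z, 1) : P) ∈ Subgroup.center P := Subgroup.mem_center_iff.mpr fun p =>
    Prod.ext (z_comm p.1).symm (by simp)
  haveI := Fintype.ofFinite (Subgroup.center P)
  let O : Finset (Subgroup.center P) :=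
    Finset.univ.filter fun c => ∃ φ : MulAut P, φ (z, 1) = (c : P)
  let u : Subgroup.center P := ∏ c ∈ O, c
  have hmem : (⟨(z, 1), hzc⟩ : Subgroup.center P) ∈ O :=
    Finset.mem_filter.mpr ⟨Finset.mem_univ _, 1, rfl⟩
  have hu1 : (u : P).1 = z := by
    let π : Subgroup.center P →* QuaternionGroup (2 * m) :=
      (MonoidHom.fst _ _).comp (Subgroup.center P).subtype
    let π' : Subgroup.center P →* π.range := π.rangeRestrict
    have hcz : ∀ c ∈ O, c ≠ (⟨(z, 1), hzc⟩ : Subgroup.center P) → (c : P).1 = 1 := by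
      intro c hc hne
      obtain ⟨φ, hφ⟩ := (Finset.mem_filter.mp hc).2
      rcases aut_z_dichotomy hm φ with h | h
      · exact absurd (Subtype.ext (hφ.symm.trans h)) hne
      · rw [← hφ]; exact h
    have hrest : (∏ c ∈ O.erase ⟨(z, 1), hzc⟩, c : Subgroup.center P) ∈ π.ker :=
      Subgroup.prod_mem _ fun c hc => by
        rw [Finset.mem_erase] at hc
        exact hcz c hc.2 hc.1
    show π u = z
    rw [show u = _ from (Finset.mul_prod_erase O (fun c => c) hmem).symm, map_mul π,
      MonoidHom.mem_ker.mp hrest, mul_one]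
    rfl
  refine ⟨u, ?_, ?_, u.2, ?_⟩
  · intro h
    exact z_ne_one (by omega) (hu1.symm.trans (congrArg Prod.fst h))
  · have : u * u = 1 := by
      rw [← Finset.prod_mul_distrib]
      refine Finset.prod_eq_one fun c hc => Subtype.ext ?_
      obtain ⟨φ, hφ⟩ := (Finset.mem_filter.mp hc).2
      show (c : P) * (c : P) = 1
      rw [← hφ, ← map_mul φ, Prod.mk_mul_mk, z_sq, mul_one, Prod.mk_one_one, map_one φ]
    exact congrArg Subtype.val this
  · intro φ
    have hcl : ∀ (ψ : MulAut P) (c : Subgroup.center P), ψ (c : P) ∈ Subgroup.center P := by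
      intro ψ c
      rw [Subgroup.mem_center_iff]
      intro p
      obtain ⟨p', rfl⟩ := ψ.surjective p
      rw [← map_mul ψ, ← map_mul ψ, Subgroup.mem_center_iff.mp c.2 p']
    let φ' : Subgroup.center P →* Subgroup.center P :=
      { toFun := fun c => ⟨φ c, hcl φ c⟩
        map_one' := Subtype.ext (map_one φ)
        map_mul' := fun a b => Subtype.ext (map_mul φ _ _) }
    have hinj : Function.Injective φ' := fun a b hab =>
      Subtype.ext (φ.injective (congrArg Subtype.val hab))
    have himg : O.image φ' = O := by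
      refine Finset.eq_of_subset_of_card_le ?_ (by rw [Finset.card_image_of_injective _ hinj])
      intro c hc
      obtain ⟨d, hd, rfl⟩ := Finset.mem_image.mp hc
      obtain ⟨ψ, hψ⟩ := (Finset.mem_filter.mp hd).2
      refine Finset.mem_filter.mpr ⟨Finset.mem_univ _, φ * ψ, ?_⟩
      show φ (ψ (z, 1)) = φ (d : P)
      rw [hψ]
    have : φ' u = u := by
      rw [map_prod φ']
      conv_rhs => rw [show u = ∏ c ∈ O, c from rfl, ← himg]
      rw [Finset.prod_image (hinj.injOn)]
    exact congrArg Subtype.val this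

/-- Let G be a finite group whose Sylow 2-subgroup S is an internal direct product Q × R with Q generalized quaternion (of order at least 8) and R a subgroup all of whose involutions are central in R. Then G is not simple. In particular no finite simple group has a Sylow 2-subgroup that is a direct product of one or more generalized quaternion groups. -/
theorem result {G : Type*} [Group G] [Finite G]
    (S : Sylow 2 G) (Q R : Subgroup G) (hQR : Cfsg.IsInternalDirectProduct Q R (S : Subgroup G))
    (n : ℕ) (hn : 1 ≤ n) (eQ : ↥Q ≃* QuaternionGroup (2 ^ n))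
    (hR : ∀ r ∈ R, orderOf r = 2 → ∀ s ∈ R, r * s = s * r) :
    ¬ IsSimpleGroup G := by
  intro hs
  haveI : Fact (Nat.Prime 2) := ⟨Nat.prime_two⟩
  obtain ⟨hQS, hRS, hcomm, hinf, hsup⟩ := hQR
  obtain ⟨m, hm, hnm⟩ : ∃ m, 1 ≤ m ∧ 2 ^ n = 2 * m := by
    obtain ⟨k, rfl⟩ : ∃ k, n = k + 1 := ⟨n - 1, by omega⟩
    exact ⟨2 ^ k, Nat.one_le_two_pow, by ring⟩
  let eQ' : ↥Q ≃* QuaternionGroup (2 * m) := eQ.trans (MulEquiv.cast (M := fun k => QuaternionGroup k) hnm)
  have hcm : ∀ (a : ↥Q) (b : ↥R), Commute (Q.subtype a) (R.subtype b) :=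
    fun a b => hcomm a a.2 b b.2
  let χ := MonoidHom.noncommCoprod Q.subtype R.subtype hcm
  have hχi : Function.Injective χ := by
    rw [injective_iff_map_eq_one]
    rintro ⟨q, r⟩ h
    replace h : (q : G) * (r : G) = 1 := h
    have hq : (q : G) ∈ Q ⊓ R := Subgroup.mem_inf.mpr
      ⟨q.2, by rw [eq_inv_of_mul_eq_one_left h]; exact inv_mem r.2⟩
    rw [hinf, Subgroup.mem_bot] at hq
    rw [hq, one_mul] at h
    exact Prod.ext (Subtype.ext hq) (Subtype.ext h)
  have hχr : χ.range = (S : Subgroup G) := by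
    rw [MonoidHom.noncommCoprod_range, Subgroup.range_subtype, Subgroup.range_subtype, hsup]
  let E : QuaternionGroup (2 * m) × ↥R ≃* ↥(S : Subgroup G) :=
    ((eQ'.symm.prodCongr (MulEquiv.refl ↥R)).trans (MonoidHom.ofInjective hχi)).trans
      (MulEquiv.subgroupCongr hχr)
  obtain ⟨u, hu1, hu2, huc, hufix⟩ := exists_fixed_invol hm (R := ↥R)
  -- every involution of `S` is central in `S`
  have hcent : ∀ p : QuaternionGroup (2 * m) × ↥R, p * p = 1 →
      p ∈ Subgroup.center (QuaternionGroup (2 * m) × ↥R) := by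
    rintro ⟨q, r⟩ h
    have hq : q * q = 1 := congrArg Prod.fst h
    have hr : r * r = 1 := congrArg Prod.snd h
    have hqc : ∀ y, y * q = q * y := fun y => by
      rcases sq_eq_one_cases (by omega) hq with h1 | h1
      · rw [h1, mul_one, one_mul]
      · rw [h1, z_comm]
    have hrc : ∀ y, y * r = r * y := fun y => by
      by_cases h1 : r = 1
      · rw [h1, mul_one, one_mul]
      · have : orderOf (r : G) = 2 := by
          rw [Subgroup.orderOf_coe, orderOf_eq_prime (by rw [pow_two, hr]) h1]
        exact Subtype.ext (hR r r.2 this y y.2).symm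
    exact Subgroup.mem_center_iff.mpr fun y => Prod.ext (hqc y.1) (hrc y.2)
  have hSc : ∀ x ∈ (S : Subgroup G), x * x = 1 →
      x ∈ Subgroup.centralizer ((S : Subgroup G) : Set G) := by
    intro x hx hx2 y hy
    have h2 : E.symm ⟨x, hx⟩ * E.symm ⟨x, hx⟩ = 1 := by
      rw [← map_mul E.symm]; exact (congrArg E.symm (Subtype.ext hx2)).trans (map_one E.symm)
    have := Subgroup.mem_center_iff.mp (hcent _ h2) (E.symm ⟨y, hy⟩)
    rw [← map_mul E.symm, ← map_mul E.symm] at this
    exact congrArg Subtype.val (E.symm.injective this)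
  set t : G := ((E u : ↥(S : Subgroup G)) : G) with htdef
  have htS : t ∈ (S : Subgroup G) := (E u).2
  have ht2 : t * t = 1 := by
    rw [htdef, ← Subgroup.coe_mul, ← map_mul E, hu2, map_one E, Subgroup.coe_one]
  have ht1 : t ≠ 1 := by
    intro h
    exact hu1 (E.injective ((Subtype.ext h).trans (map_one E).symm))
  have hto : orderOf t = 2 := orderOf_eq_prime (by rw [pow_two, ht2]) ht1
  have hiso : ∀ g : G, g * t * g⁻¹ ∈ (S : Subgroup G) → g * t * g⁻¹ = t := by
    intro g hg
    have h2 : (g * t * g⁻¹) * (g * t * g⁻¹) = 1 := by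
      have : (g * t * g⁻¹) * (g * t * g⁻¹) = g * (t * t) * g⁻¹ := by group
      rw [this, ht2, mul_one, mul_inv_cancel]
    obtain ⟨w, hw, e⟩ := Sylow.conj_eq_normalizer_conj_of_mem_centralizer S t g⁻¹
      (hSc t htS ht2) (by rw [inv_inv]; exact hSc _ hg h2)
    rw [inv_inv] at e
    rw [e]
    have hw' : w⁻¹ ∈ Subgroup.normalizer ((S : Subgroup G) : Set G) := inv_mem hw
    let ψ : MulAut ↥(S : Subgroup G) :=
      Subgroup.normalizerMonoidHom (S : Subgroup G) ⟨w⁻¹, hw'⟩
    have := hufix ((E.trans ψ).trans E.symm)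
    replace this : E.symm (ψ (E u)) = u := this
    rw [MulEquiv.symm_apply_eq] at this
    have h3 : w⁻¹ * t * w⁻¹⁻¹ = t := congrArg Subtype.val this
    rwa [inv_inv] at h3
  obtain ⟨N, hN, hNodd, hNcomm⟩ := Cfsg.Agent.InvChar.zstarSylow S t hto htS hiso
  rcases hN.eq_bot_or_eq_top with h | h
  · have htc : t ∈ Subgroup.center G := Subgroup.mem_center_iff.mpr fun g => by
      have := hNcomm g
      rw [h, Subgroup.mem_bot, mul_inv_eq_iff_eq_mul, one_mul, mul_inv_eq_iff_eq_mul] at this
      exact this.symm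
    have htop : Subgroup.center G = ⊤ := by
      rcases (inferInstance : (Subgroup.center G).Normal).eq_bot_or_eq_top with h1 | h1
      · rw [h1, Subgroup.mem_bot] at htc
        exact absurd htc ht1
      · exact h1
    haveI : IsMulCommutative G := ⟨⟨fun a b =>
      (Subgroup.mem_center_iff.mp (htop ▸ Subgroup.mem_top b : b ∈ Subgroup.center G) a)⟩⟩
    have h1 := (inferInstance : (S : Subgroup G).Normal).eq_bot_or_eq_top
    have hz2 : (Subgroup.zpowers t).Normal := inferInstance
    rcases hz2.eq_bot_or_eq_top with h2 | h2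
    · exact ht1 (Subgroup.zpowers_eq_bot.mp h2)
    · have hG2 : Nat.card G = 2 := by
        rw [← Subgroup.card_top (G := G), ← h2, Nat.card_zpowers, hto]
      have hle : Nat.card ↥Q ≤ Nat.card G := Subgroup.card_le_card_group Q
      haveI : NeZero (2 ^ n) := ⟨(Nat.two_pow_pos n).ne'⟩
      rw [Nat.card_congr eQ.toEquiv, Nat.card_eq_fintype_card, QuaternionGroup.card, hG2] at hle
      have := Nat.two_pow_pos n
      omega
  · rw [h, Subgroup.card_top, ← Nat.not_even_iff_odd, even_iff_two_dvd] at hNodd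
    exact hNodd (hto ▸ orderOf_dvd_natCard t)

end Cfsg.Agent.S3269
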