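import Cfsg.Statements.S3276
import Cfsg.Agent.Lib.Invol.Basic

set_option autoImplicit false
open Cfsg

namespace Cfsg.Agent.S3276

/-- Let x and y be commuting, non-conjugate involutions of a finite group G, and suppose that for every involution u commuting with x, each conjugate of y that commutes with u also commutes with y. Then the normal closure of y is a proper, normal, elementary abelian 2-subgroup of G; and if y is the only involution of that normal closure commuting with x, it has order at most 4. -/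
theorem result {G : Type*} [Group G] [Finite G] (x y : G) (hx : orderOf x = 2) (hy : orderOf y = 2)
    (hxy : Commute x y) (hnc : ¬ IsConj x y)
    (hstar : ∀ u : G, orderOf u = 2 → Commute u x → ∀ g : G, Commute (g * y * g⁻¹) u → Commute (g * y * g⁻¹) y) :
    Subgroup.normalClosure ({y} : Set G) ≠ ⊤ ∧ Cfsg.IsElementaryAbelian 2 (Subgroup.normalClosure ({y} : Set G)) ∧
      ((∀ u ∈ Subgroup.normalClosure ({y} : Set G), orderOf u = 2 → Commute u x → u = y) →
        Nat.card ↥(Subgroup.normalClosure ({y} : Set G)) ≤ 4) := by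
  classical
  have hx2 := Cfsg.Agent.Invol.mul_self_of_orderOf_two hx
  have hy2 := Cfsg.Agent.Invol.mul_self_of_orderOf_two hy
  have hcy : ∀ g : G, Commute (g * y * g⁻¹) y := by
    intro g
    obtain ⟨v, -, hv, hvx, hvy⟩ := Cfsg.Agent.Invol.exists_commuting_involution_of_not_isConj hx2
      (Cfsg.Agent.Invol.mul_self_of_orderOf_two (show orderOf (g * y * g⁻¹) = 2 by
        rw [Cfsg.Agent.Invol.orderOf_conj, hy]))
      (fun h => hnc (h.trans (isConj_iff.mpr ⟨g, rfl⟩).symm))
    exact hstar v hv hvx g hvy.symm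
  set E := Subgroup.normalClosure ({y} : Set G) with hE
  have hgen : ∀ a ∈ Group.conjugatesOfSet ({y} : Set G), ∃ g : G, g * y * g⁻¹ = a := by
    intro a ha
    obtain ⟨b, hb, hab⟩ := Group.mem_conjugatesOfSet_iff.mp ha
    rw [Set.mem_singleton_iff] at hb
    subst hb
    exact isConj_iff.mp hab
  have hpair : ∀ a ∈ Group.conjugatesOfSet ({y} : Set G),
      ∀ b ∈ Group.conjugatesOfSet ({y} : Set G), a * b = b * a := by
    intro a ha b hb
    obtain ⟨g, rfl⟩ := hgen a ha
    obtain ⟨k, rfl⟩ := hgen b hb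
    have h1 := (hcy (k⁻¹ * g)).map (MulAut.conj k).toMonoidHom
    simp only [MulEquiv.toMonoidHom_eq_coe, MonoidHom.coe_coe, MulAut.conj_apply] at h1
    rw [show k * (k⁻¹ * g * y * (k⁻¹ * g)⁻¹) * k⁻¹ = g * y * g⁻¹ by group] at h1
    exact h1.eq
  haveI hEc : IsMulCommutative E := Subgroup.isMulCommutative_closure hpair
  have hEexp : ∀ e ∈ E, e ^ 2 = 1 := by
    intro e he
    induction he using Subgroup.closure_induction with
    | mem a ha =>
      obtain ⟨g, rfl⟩ := hgen a ha
      rw [conj_pow, pow_two, hy2, mul_one, mul_inv_cancel]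
    | one => rw [one_pow]
    | mul a b ha hb iha ihb =>
      have hab : a * b = b * a := congrArg Subtype.val (hEc.is_comm.comm (⟨a, ha⟩ : E) ⟨b, hb⟩)
      rw [(show Commute a b from hab).mul_pow, iha, ihb, one_mul]
    | inv a _ iha => rw [inv_pow, iha, inv_one]
  have hEn : E.Normal := Subgroup.normalClosure_normal
  refine ⟨fun htop => hnc ?_, ⟨hEc, hEexp⟩, fun hu => ?_⟩
  · have hab : ∀ a b : G, a * b = b * a := fun a b => congrArg Subtype.val
      (hEc.is_comm.comm (⟨a, htop.symm ▸ Subgroup.mem_top a⟩ : E) ⟨b, htop.symm ▸ Subgroup.mem_top b⟩)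
    have hle : E ≤ Subgroup.zpowers y := by
      rw [hE]
      refine Subgroup.closure_le _ |>.mpr fun a ha => ?_
      obtain ⟨g, rfl⟩ := hgen a ha
      rw [hab g y, mul_inv_cancel_right]
      exact Subgroup.mem_zpowers y
    obtain ⟨k, hk⟩ := hle (htop.symm ▸ Subgroup.mem_top x : x ∈ E)
    rcases Int.even_or_odd k with ⟨j, hj⟩ | ⟨j, hj⟩
    · exfalso
      refine Cfsg.Agent.Invol.ne_one_of_orderOf_two hx ?_
      show x = 1
      rw [← hk]; simp only; rw [hj, zpow_add, ← (Commute.refl y).mul_zpow, hy2, one_zpow]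
    · rw [show x = y by
        rw [← hk]; simp only; rw [hj, zpow_add, zpow_mul, show (y : G) ^ (2 : ℤ) = 1 by
          rw [zpow_two, hy2], one_zpow, one_mul, zpow_one]]
  · have hEcomm : ∀ a b : E, a * b = b * a := fun a b => hEc.is_comm.comm a b
    let f : E →* E := MonoidHom.mk' (fun e => e * ⟨x * e * x⁻¹, hEn.conj_mem _ e.2 x⟩) (by
      intro a b
      have e1 : (⟨x * ((a * b : E) : G) * x⁻¹, hEn.conj_mem _ (a * b).2 x⟩ : E) =
          ⟨x * a * x⁻¹, hEn.conj_mem _ a.2 x⟩ * ⟨x * b * x⁻¹, hEn.conj_mem _ b.2 x⟩ :=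
        Subtype.ext (by simp only [Subgroup.coe_mul]; group)
      rw [e1]; exact Commute.mul_mul_mul_comm (hEcomm _ _) _ _)
    have hyE : y ∈ E := Subgroup.subset_normalClosure (Set.mem_singleton y)
    have hsub : ∀ e : E, Commute (e : G) x → e ∈ ({1, ⟨y, hyE⟩} : Finset E) := by
      intro e he
      rcases eq_or_ne (e : G) 1 with h1 | h1
      · simp [Subtype.ext_iff, h1]
      · simp [Subtype.ext_iff, hu e e.2 (orderOf_eq_prime (hEexp e e.2) h1) he]
    have hxi : x⁻¹ = x := inv_eq_of_mul_eq_one_right hx2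
    have hker : Nat.card f.ker ≤ 2 := by
      refine le_trans (Nat.card_le_card_of_injective (fun e : f.ker => (⟨(e : E), hsub _ ?_⟩ :
        ({1, ⟨y, hyE⟩} : Finset E))) fun a b h => Subtype.ext (congrArg (fun z => z.1) h)) ?_
      · have := congrArg Subtype.val (MonoidHom.mem_ker.mp e.2)
        simp only [f, MonoidHom.mk'_apply, Subgroup.coe_mul, OneMemClass.coe_one] at this
        have h2 := eq_inv_of_mul_eq_one_right this
        have hee : ((e : E) : G)⁻¹ = ((e : E) : G) :=
          inv_eq_of_mul_eq_one_right (by rw [← pow_two]; exact hEexp _ (e : E).2)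
        rw [hee] at h2
        exact (mul_inv_eq_iff_eq_mul.mp h2).symm
      · rw [Nat.card_eq_finsetCard]
        exact Finset.card_le_two
    have him : Nat.card f.range ≤ 2 := by
      refine le_trans (Nat.card_le_card_of_injective (fun e : f.range => (⟨(e : E), hsub _ ?_⟩ :
        ({1, ⟨y, hyE⟩} : Finset E))) fun a b h => Subtype.ext (congrArg (fun z => z.1) h)) ?_
      · obtain ⟨_, a, rfl⟩ := e
        simp only [f, MonoidHom.mk'_apply, Subgroup.coe_mul]
        have hc := congrArg Subtype.val (hEcomm ⟨x * a * x⁻¹, hEn.conj_mem _ a.2 x⟩ a)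
        simp only [Subgroup.coe_mul] at hc
        show (a : G) * (x * a * x⁻¹) * x = x * ((a : G) * (x * a * x⁻¹))
        conv_rhs => rw [← hc]
        simp only [hxi, mul_assoc, hx2, mul_one]
        rw [← mul_assoc x x, hx2, one_mul]
      · rw [Nat.card_eq_finsetCard]
        exact Finset.card_le_two
    rw [← Subgroup.card_mul_index f.ker, Subgroup.index_ker]
    exact le_trans (Nat.mul_le_mul hker him) le_rfl

end Cfsg.Agent.S3276
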