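import Cfsg.Statements.S3282
import Cfsg.Agent.Lib.Recog.BSW.CharCases
import Cfsg.Agent.Lib.Recog.BSW.Minus

set_option autoImplicit false
open Cfsg

namespace Cfsg.Agent.S3282

/-- The abstract form of the Brauer–Suzuki–Wall Theorem. Let G be a finite group with an involution t and an abelian subgroup K of H = C_G(t) containing t, such that H = K⟨s⟩ for an involution s ∉ K with C_K(s) = ⟨t⟩ and s inverting every element of K, K ∩ K^g = 1 for every g outside H, and all involutions of G conjugate. Then G has a subgroup Q, of order q say, with |G| = q(q+1)(q−1)/2, C_G(x) = Q for every non-identity x ∈ Q, N_G(Q) = QD for an abelian subgroup D of order (q−1)/2 meeting Q trivially, and for every nontrivial subgroup X of D, N_G(X) = N_G(D) = D⟨u⟩ for some involution u ∉ D inverting D. -/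
theorem result {G : Type*} [Group G] [Finite G] (t : G) (ht : orderOf t = 2)
    (K : Subgroup G) (hKab : IsMulCommutative ↥K) (hKH : K ≤ Subgroup.centralizer ({t} : Set G)) (htK : t ∈ K)
    (s : G) (hs : orderOf s = 2) (hsH : s ∈ Subgroup.centralizer ({t} : Set G)) (hsK : s ∉ K)
    (hH : K ⊔ Subgroup.zpowers s = Subgroup.centralizer ({t} : Set G)) (hCK : K ⊓ Subgroup.centralizer ({s} : Set G) = Subgroup.zpowers t)
    (hinv : ∀ x ∈ K, s * x * s⁻¹ = x⁻¹)
    (hTI : ∀ g : G, g ∉ Subgroup.centralizer ({t} : Set G) → K ⊓ K.map (MulAut.conj g).toMonoidHom = ⊥)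
    (hconj : ∀ x y : G, orderOf x = 2 → orderOf y = 2 → IsConj x y) :
    ∃ Q D : Subgroup G, 2 * Nat.card G = Nat.card ↥Q * (Nat.card ↥Q + 1) * (Nat.card ↥Q - 1) ∧
      (∀ x ∈ Q, x ≠ 1 → Subgroup.centralizer ({x} : Set G) = Q) ∧
      IsMulCommutative ↥D ∧ 2 * Nat.card ↥D + 1 = Nat.card ↥Q ∧ Q ⊓ D = ⊥ ∧
      Subgroup.normalizer (Q : Set G) = Q ⊔ D ∧
      ∀ X : Subgroup G, X ≤ D → X ≠ ⊥ →
        Subgroup.normalizer (X : Set G) = Subgroup.normalizer (D : Set G) ∧
        ∃ u : G, orderOf u = 2 ∧ u ∉ D ∧ (∀ d ∈ D, u * d * u⁻¹ = d⁻¹) ∧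
          Subgroup.normalizer (D : Set G) = D ⊔ Subgroup.zpowers u := by
  have hy : BSW.Hyp t K s :=
    { ht := ht
      comm := fun a ha b hb => congrArg Subtype.val (hKab.is_comm.comm (⟨a, ha⟩ : K) ⟨b, hb⟩)
      htK := htK
      hs := hs
      hst := Subgroup.mem_centralizer_singleton_iff.mp hsH
      hsK := hsK
      hH := hH
      hCK := fun x hx hxs => by
        have h : x ∈ Subgroup.zpowers t :=
          hCK ▸ (⟨hx, Subgroup.mem_centralizer_singleton_iff.mpr hxs⟩ :
            x ∈ K ⊓ Subgroup.centralizer ({s} : Set G))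
        obtain ⟨n, rfl⟩ := h
        show t ^ n = 1 ∨ t ^ n = t
        have h2 : t ^ (2 : ℤ) = 1 := by
          rw [zpow_two, BSW.mul_self_two ht]
        rcases Int.even_or_odd n with ⟨j, rfl⟩ | ⟨j, rfl⟩
        · left; rw [← two_mul, zpow_mul, h2, one_zpow]
        · right; rw [zpow_add_one, zpow_mul, h2, one_zpow, one_mul]
      hinv := hinv
      hTI := fun g x hx hx1 hgx => by
        by_contra hg
        have h := hTI g fun h => hg (Subgroup.mem_centralizer_singleton_iff.mp h)
        have hm : g * x * g⁻¹ ∈ K ⊓ K.map (MulAut.conj g).toMonoidHom := ⟨hgx, x, hx, rfl⟩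
        rw [h, Subgroup.mem_bot] at hm
        exact hx1 (conj_eq_one_iff.mp hm)
      hconj := hconj }
  have hcases : BSW.PlusCase t K ∨ BSW.MinusCase t K := by
    by_cases hk : Nat.card K = 2
    · exact hy.cases_two hk
    · refine hy.cases_four ?_
      obtain ⟨m, hm⟩ := hy.two_dvd_card
      have := hy.two_le_card
      omega
  rcases hcases with h | h
  · exact hy.plus_goal h
  · exact hy.minus_goal h

end Cfsg.Agent.S3282
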