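import Cfsg.Statements.S3294
import Mathlib
import Cfsg.Agent.Lib.InvChar.Aut2
import Cfsg.Agent.Lib.Basics.Cores
import Cfsg.Agent.Lib.Transfer.Residual

set_option autoImplicit false
set_option linter.style.haveILetI false
open Cfsg

namespace Cfsg.Agent.S3294

/-- A finite solvable group whose Sylow 2-subgroups are generalized quaternion of order at least 32 has a normal 2-complement. -/
theorem result {G : Type*} [Group G] [Finite G] (hsol : Group.IsSolvable G) (T : Sylow 2 G) (n : ℕ) (hn : 3 ≤ n) (hT : Nonempty ((T : Subgroup G) ≃* QuaternionGroup (2 ^ n))) : Cfsg.HasNormalPComplement 2 G := by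
  classical
  obtain ⟨e⟩ := hT
  haveI : Group.IsSolvable G := hsol
  set O := Cfsg.pPrimeCore 2 G
  haveI : Group.IsSolvable (G ⧸ O) := inferInstance
  have hOodd : ¬ 2 ∣ Nat.card O := Cfsg.Agent.Basics.not_dvd_card_pPrimeCore 2
  refine Cfsg.Agent.Transfer.hasNormalPComplement_of_normal O hOodd ?_
  set F := Cfsg.pCore 2 (G ⧸ O)
  let π := QuotientGroup.mk' O
  let T₁ : Sylow 2 (G ⧸ O) := Sylow.mapSurjective (QuotientGroup.mk'_surjective O) T
  have hFT : F ≤ (T₁ : Subgroup (G ⧸ O)) := Cfsg.Agent.Basics.pCore_le_sylow 2 T₁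
  have hFp : IsPGroup 2 F := Cfsg.Agent.Basics.pCore_isPGroup 2
  refine Cfsg.Agent.InvChar.isPGroup_of_normal_selfCentralizing F hFp
    (Cfsg.Agent.Basics.centralizer_pCore_le (Cfsg.Agent.Basics.pPrimeCore_quotient_eq_bot 2)) ?_
  -- identify T with its image
  have hdisj : O ⊓ (T : Subgroup G) = ⊥ := Cfsg.Agent.Transfer.sylow_disjoint_of_coprime T O hOodd
  have hinj : Function.Injective (π.comp (T : Subgroup G).subtype) := by
    rw [injective_iff_map_eq_one]
    intro t ht
    have h1 : (t : G) ∈ O ⊓ (T : Subgroup G) := ⟨(QuotientGroup.eq_one_iff _).mp ht, t.2⟩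
    rw [hdisj, Subgroup.mem_bot] at h1
    exact Subtype.ext h1
  let ψ : QuaternionGroup (2 ^ n) →* G ⧸ O := (π.comp (T : Subgroup G).subtype).comp e.symm.toMonoidHom
  have hψ : Function.Injective ψ := hinj.comp e.symm.injective
  have hψr : ψ.range = (T₁ : Subgroup (G ⧸ O)) := by
    show ((π.comp (T : Subgroup G).subtype).comp e.symm.toMonoidHom).range = (T : Subgroup G).map π
    rw [MonoidHom.range_comp, MonoidHom.range_eq_top.mpr e.symm.surjective, ← MonoidHom.range_eq_map,
      MonoidHom.range_comp, Subgroup.range_subtype]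
  set K := F.comap ψ
  haveI hKn : K.Normal := inferInstance
  have hKF : Nonempty (K ≃* F) := by
    have h1 : K.map ψ = F := Subgroup.map_comap_eq_self (hψr ▸ hFT)
    exact ⟨(K.equivMapOfInjective ψ hψ).trans (MulEquiv.subgroupCongr h1)⟩
  obtain ⟨eK⟩ := hKF
  have hKp : IsPGroup 2 K := hFp.of_injective eK.toMonoidHom eK.injective
  refine IsPGroup.of_equiv ?_ (MulAut.congr eK)
  haveI : NeZero (2 ^ n) := ⟨by positivity⟩
  have hrz : ∀ i : ZMod (2 * 2 ^ n), QuaternionGroup.a i ∈ Subgroup.zpowers (QuaternionGroup.a 1 : QuaternionGroup (2 ^ n)) := by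
    intro i
    exact ⟨(i.val : ℤ), by simp only [zpow_natCast, QuaternionGroup.a_one_pow]; congr 1; exact ZMod.natCast_zmod_val i⟩
  by_cases hK : ∃ i, QuaternionGroup.xa i ∈ K
  · obtain ⟨i, hi⟩ := hK
    have ha2 : (QuaternionGroup.a 2 : QuaternionGroup (2 ^ n)) ∈ K := by
      have h := hKn.conj_mem _ hi (QuaternionGroup.a 1)
      have h2 := mul_mem h (inv_mem hi)
      have hinv : (QuaternionGroup.a 1 : QuaternionGroup (2 ^ n))⁻¹ = QuaternionGroup.a (-1) := rfl
      have hinv2 : (QuaternionGroup.xa i : QuaternionGroup (2 ^ n))⁻¹ = QuaternionGroup.xa (((2 ^ n : ℕ) : ZMod (2 * 2 ^ n)) + i) := rfl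
      rw [hinv, hinv2, QuaternionGroup.a_mul_xa, QuaternionGroup.xa_mul_a, QuaternionGroup.xa_mul_xa] at h2
      convert h2 using 2
      have hcast : (2 : ZMod (2 * 2 ^ n)) * ((2 ^ n : ℕ) : ZMod (2 * 2 ^ n)) = 0 := by
        have := ZMod.natCast_self (2 * 2 ^ n)
        push_cast at this ⊢
        exact this
      push_cast at hcast ⊢
      linear_combination -hcast
    -- the cyclic part of K
    set A := Subgroup.zpowers (QuaternionGroup.a 1 : QuaternionGroup (2 ^ n)) with hA
    haveI : IsCyclic ↥(K ⊓ A) := isCyclic_of_injective (Subgroup.inclusion (inf_le_right : K ⊓ A ≤ A)) (Subgroup.inclusion_injective _)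
    obtain ⟨⟨c, hc⟩, hcgen⟩ := IsCyclic.exists_generator (α := ↥(K ⊓ A))
    have hcord : orderOf c = Nat.card ↥(K ⊓ A) := by
      rw [← orderOf_eq_card_of_forall_mem_zpowers hcgen, Subgroup.orderOf_mk]
    obtain ⟨m, hm⟩ : ∃ m, orderOf c = 2 ^ m := by
      obtain ⟨m, hm⟩ := (hKp.to_le (inf_le_left : K ⊓ A ≤ K)).exists_card_eq
      exact ⟨m, hcord.trans hm⟩
    have hm3 : 8 ≤ 2 ^ m := by
      rw [← hm, hcord]
      have hle : Subgroup.zpowers (QuaternionGroup.a 2 : QuaternionGroup (2 ^ n)) ≤ K ⊓ A :=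
        Subgroup.zpowers_le.mpr ⟨ha2, hrz 2⟩
      refine le_trans ?_ (Subgroup.card_le_of_le hle)
      rw [Nat.card_zpowers, QuaternionGroup.orderOf_a]
      have h8 : 8 ≤ 2 ^ n := le_trans (by norm_num : 8 ≤ 2 ^ 3) (Nat.pow_le_pow_right (by norm_num) hn)
      have : ((2 : ZMod (2 * 2 ^ n))).val = 2 := by
        rw [show (2 : ZMod (2 * 2 ^ n)) = ((2:ℕ) : ZMod (2 * 2 ^ n)) by norm_num, ZMod.val_natCast]
        exact Nat.mod_eq_of_lt (by omega)
      rw [this, Nat.gcd_eq_right (dvd_mul_right 2 _), Nat.mul_div_cancel_left _ (by norm_num)]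
      exact h8
    have hcK : c ∈ K := hc.1
    have hzc : ∀ z : K, (z : QuaternionGroup (2 ^ n)) ∈ A → z ∈ Subgroup.zpowers (⟨c, hcK⟩ : K) := by
      intro z hz
      obtain ⟨k, hk⟩ := hcgen ⟨z, z.2, hz⟩
      refine ⟨k, Subtype.ext ?_⟩
      have h := congrArg Subtype.val hk
      simpa using h
    have hnA : ∀ k : ZMod (2 * 2 ^ n), (QuaternionGroup.xa k : QuaternionGroup (2 ^ n)) ∉ A := by
      intro k hk
      obtain ⟨l, hl⟩ := hk
      simp only at hl
      rcases Int.eq_nat_or_neg l with ⟨j, rfl | rfl⟩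
      · rw [zpow_natCast, QuaternionGroup.a_one_pow] at hl; cases hl
      · rw [zpow_neg, zpow_natCast, QuaternionGroup.a_one_pow] at hl
        cases hl
    refine Cfsg.Agent.InvChar.isPGroup_mulAut_of_cyclic_index_two m ?_ (⟨c, hcK⟩ : K) ⟨_, hi⟩ ?_ ?_ ?_ ?_
    · by_contra h0
      have : m = 0 := by omega
      rw [this] at hm3; norm_num at hm3
    · rw [Subgroup.orderOf_mk, hm]
    · intro z
      obtain ⟨z, hzK⟩ := z
      cases z with
      | a k => exact Or.inl (hzc ⟨_, hzK⟩ (hrz k))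
      | xa k =>
        refine Or.inr ⟨⟨_, hzK⟩ * ⟨_, hi⟩⁻¹, hzc _ ?_, by group⟩
        show QuaternionGroup.xa k * (QuaternionGroup.xa i)⁻¹ ∈ A
        rw [show (QuaternionGroup.xa i : QuaternionGroup (2 ^ n))⁻¹ = QuaternionGroup.xa (((2 ^ n : ℕ) : ZMod (2 * 2 ^ n)) + i) from rfl,
          QuaternionGroup.xa_mul_xa]
        exact hrz _
    · intro z hz
      obtain ⟨z, hzK⟩ := z
      cases z with
      | a k => exact hzc ⟨_, hzK⟩ (hrz k)
      | xa k =>
        exfalso
        rw [Subgroup.orderOf_mk, QuaternionGroup.orderOf_xa] at hz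
        omega
    · intro h
      obtain ⟨k, hk⟩ := h
      exact hnA i (by
        have h := congrArg Subtype.val hk
        simp at h
        rw [← h]
        exact (zpow_mem (show c ∈ A from hc.2) k : c ^ k ∈ A))
  · have hle : K ≤ Subgroup.zpowers (QuaternionGroup.a 1 : QuaternionGroup (2 ^ n)) := by
      intro z hz
      cases z with
      | a k => exact hrz k
      | xa k => exact absurd ⟨k, hz⟩ hK
    haveI : IsCyclic K := isCyclic_of_injective (Subgroup.inclusion hle) (Subgroup.inclusion_injective hle)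
    exact Cfsg.Agent.InvChar.isPGroup_mulAut_of_isCyclic hKp

end Cfsg.Agent.S3294
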