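import Cfsg.Statements.S3303
import Mathlib
import Cfsg.Agent.Lib.InvChar.Aut2
import Cfsg.Agent.Lib.Basics.Cores

set_option autoImplicit false
open Cfsg

namespace Cfsg.Agent.S3303

/-- Let G be a finite solvable group in which the intersection of any two distinct Sylow 2-subgroups is cyclic. Then G/O(G) has a normal Sylow 2-subgroup, where O(G) is the largest normal subgroup of odd order. -/
theorem result {G : Type*} [Group G] [Finite G] (hs : Group.IsSolvable G)
    (hC : ∀ S T : Sylow 2 G, S ≠ T → IsCyclic ↥((S : Subgroup G) ⊓ (T : Subgroup G))) :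
    ∃ P : Sylow 2 (G ⧸ Cfsg.oddCore G), (P : Subgroup (G ⧸ Cfsg.oddCore G)).Normal := by
  classical
  set O := Cfsg.oddCore G
  haveI : Group.IsSolvable G := hs
  have hq : ∀ S T : Sylow 2 (G ⧸ O), S ≠ T → IsCyclic ↥((S : Subgroup (G ⧸ O)) ⊓ T) := by
    intro S₁ T₁ hne
    obtain ⟨S, T, hST, hle⟩ := Cfsg.Agent.InvChar.exists_sylow_inf_map O S₁ T₁ hne
    haveI := hC S T hST
    haveI : IsCyclic ↥(((S : Subgroup G) ⊓ T).map (QuotientGroup.mk' O)) :=
      isCyclic_of_surjective ((QuotientGroup.mk' O).subgroupMap _) (MonoidHom.subgroupMap_surjective _ _)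
    exact isCyclic_of_injective (Subgroup.inclusion hle) (Subgroup.inclusion_injective hle)
  haveI : Group.IsSolvable (G ⧸ O) := inferInstance
  by_cases hsub : Subsingleton (Sylow 2 (G ⧸ O))
  · exact ⟨default, Sylow.normal_of_subsingleton _⟩
  exfalso
  rw [not_subsingleton_iff_nontrivial] at hsub
  obtain ⟨S, T, hST⟩ := hsub.exists_pair_ne
  set F := Cfsg.pCore 2 (G ⧸ O)
  have hle : F ≤ (S : Subgroup (G ⧸ O)) ⊓ T :=
    le_inf (Cfsg.Agent.Basics.pCore_le_sylow 2 S) (Cfsg.Agent.Basics.pCore_le_sylow 2 T)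
  haveI := hq S T hST
  haveI : IsCyclic F := isCyclic_of_injective (Subgroup.inclusion hle) (Subgroup.inclusion_injective hle)
  have hFp : IsPGroup 2 F := Cfsg.Agent.Basics.pCore_isPGroup 2
  have hp : IsPGroup 2 (G ⧸ O) := Cfsg.Agent.InvChar.isPGroup_of_normal_selfCentralizing F hFp
    (Cfsg.Agent.Basics.centralizer_pCore_le (Cfsg.Agent.Basics.pPrimeCore_quotient_eq_bot 2))
    (Cfsg.Agent.InvChar.isPGroup_mulAut_of_isCyclic hFp)
  apply hST
  apply Sylow.ext
  have hS : (S : Subgroup (G ⧸ O)) = ⊤ := (S.3 (hp.to_subgroup ⊤) le_top).symm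
  have hT : (T : Subgroup (G ⧸ O)) = ⊤ := (T.3 (hp.to_subgroup ⊤) le_top).symm
  rw [hS, hT]

end Cfsg.Agent.S3303
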