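import Cfsg.Statements.S3304
import Cfsg.Agent.Lib.InvChar.OctahedralCore
import Cfsg.Agent.Lib.InvChar.Aut2
import Cfsg.Agent.Lib.Zassenhaus.QuatAut
import Cfsg.Agent.Lib.Invol.WrCritical
import Cfsg.Agent.Lib.Basics.Hall
import Cfsg.Agent.Lib.PermGp.NearFieldLinear.Degrees

set_option autoImplicit false
set_option linter.style.haveILetI false
open Cfsg

namespace Cfsg.Agent.S3304

variable {G : Type*} [Group G] [Finite G]

/-- The rank hypothesis on Sylow intersections passes to the quotient by the odd core. -/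
theorem quotient_rank (hI : ∀ S T : Sylow 2 G, S ≠ T → Cfsg.PRankLE 2 1 ↥((S : Subgroup G) ⊓ (T : Subgroup G)))
    (S T : Sylow 2 (G ⧸ Cfsg.oddCore G)) (hne : S ≠ T) :
    Cfsg.PRankLE 2 1 ↥((S : Subgroup (G ⧸ Cfsg.oddCore G)) ⊓ (T : Subgroup (G ⧸ Cfsg.oddCore G))) := by
  haveI : Fact (Nat.Prime 2) := ⟨Nat.prime_two⟩
  intro A hAc hA2
  set N := Cfsg.oddCore G with hN
  set π := QuotientGroup.mk' N with hπ
  set A₁ := A.map ((S : Subgroup (G ⧸ N)) ⊓ (T : Subgroup (G ⧸ N))).subtype with hA₁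
  have hA₁c : Nat.card A₁ = Nat.card A := Subgroup.card_map_of_injective (Subgroup.subtype_injective _)
  have hA₁2 : ∀ a ∈ A₁, a ^ 2 = 1 := by
    rintro _ ⟨a, ha, rfl⟩
    rw [← map_pow, hA2 a ha, map_one]
  have hA₁le : A₁ ≤ (S : Subgroup (G ⧸ N)) ⊓ (T : Subgroup (G ⧸ N)) := Subgroup.map_subtype_le A
  have hcomm : ∀ a ∈ A₁, ∀ b ∈ A₁, a * b = b * a := by
    rintro _ ⟨a, ha, rfl⟩ _ ⟨b, hb, rfl⟩
    rw [← map_mul, ← map_mul]
    exact congrArg _ (congrArg Subtype.val (hAc.is_comm.comm (⟨a, ha⟩ : A) ⟨b, hb⟩))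
  obtain ⟨S₀, hS₀⟩ := Sylow.mapSurjective_surjective (QuotientGroup.mk'_surjective N) 2 S
  obtain ⟨T₀, hT₀⟩ := Sylow.mapSurjective_surjective (QuotientGroup.mk'_surjective N) 2 T
  have hcop : (Nat.card N).Coprime 2 := Basics.pPrimeCore_coprime 2
  have hker : ∀ (U : Sylow 2 G), ∀ a ∈ (U : Subgroup G), π a = 1 → a = 1 := by
    intro U a ha h1
    obtain ⟨n, hn⟩ := IsPGroup.iff_card.mp U.2
    have h2 : orderOf a ∣ 2 ^ n := hn ▸ Subgroup.orderOf_dvd_natCard _ ha
    have h3 : orderOf a ∣ Nat.card N :=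
      Subgroup.orderOf_dvd_natCard _ ((QuotientGroup.eq_one_iff a).mp h1)
    exact orderOf_eq_one_iff.mp (Nat.eq_one_of_dvd_coprimes (hcop.symm.pow_left n) h2 h3)
  have lift : ∀ (U : Sylow 2 G) (V : Sylow 2 (G ⧸ N)),
      Sylow.mapSurjective (QuotientGroup.mk'_surjective N) U = V →
      A₁ ≤ (V : Subgroup (G ⧸ N)) → (A₁.comap π ⊓ (U : Subgroup G)).map π = A₁ := by
    intro U V hUV hle
    refine le_antisymm (Subgroup.map_le_iff_le_comap.mpr inf_le_left) fun y hy => ?_
    have hyV : y ∈ (U : Subgroup G).map π := by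
      have := hle hy
      rw [← hUV] at this
      exact this
    obtain ⟨a, ha, rfl⟩ := hyV
    exact ⟨a, ⟨hy, ha⟩, rfl⟩
  set H := A₁.comap π with hH
  have hHc : Nat.card H = Nat.card A₁ * Nat.card N := by
    have h := Basics.card_map_mul_card_inf_ker π H
    have hle : π.ker ≤ H := fun a ha => by
      rw [hH, Subgroup.mem_comap, MonoidHom.mem_ker.mp ha]; exact one_mem _
    rw [Subgroup.map_comap_eq_self_of_surjective (QuotientGroup.mk'_surjective N),
      inf_eq_right.mpr hle, hπ, QuotientGroup.ker_mk'] at h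
    exact h.symm
  have hsyl : ∀ (U : Sylow 2 G), (H ⊓ (U : Subgroup G)).map π = A₁ →
      Nat.card (H ⊓ (U : Subgroup G) : Subgroup G) = Nat.card A₁ ∧
      IsPGroup 2 ((H ⊓ (U : Subgroup G)).subgroupOf H) ∧
      ¬ 2 ∣ ((H ⊓ (U : Subgroup G)).subgroupOf H).index := by
    intro U hU
    have h := Basics.card_map_mul_card_inf_ker π (H ⊓ (U : Subgroup G))
    have hb : (H ⊓ (U : Subgroup G)) ⊓ π.ker = ⊥ := by
      rw [eq_bot_iff]
      exact fun a ha => Subgroup.mem_bot.mpr (hker U a ha.1.2 ha.2)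
    rw [hU, hb, Subgroup.card_bot, mul_one] at h
    refine ⟨h.symm, ?_, ?_⟩
    · exact (U.2.to_le (inf_le_right : H ⊓ (U : Subgroup G) ≤ U)).of_equiv
        (Subgroup.subgroupOfEquivOfLe inf_le_left).symm
    · have h2 := ((H ⊓ (U : Subgroup G)).subgroupOf H).card_mul_index
      rw [Nat.card_congr (Subgroup.subgroupOfEquivOfLe inf_le_left).toEquiv, ← h, hHc] at h2
      rw [Nat.eq_of_mul_eq_mul_left Nat.card_pos h2]
      intro hd
      exact Nat.not_coprime_of_dvd_of_dvd (by norm_num : 1 < 2) hd (dvd_refl 2) hcop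
  obtain ⟨hSc, hS2, hSi⟩ := hsyl S₀ (lift S₀ S hS₀ (hA₁le.trans inf_le_left))
  obtain ⟨-, hT2, hTi⟩ := hsyl T₀ (lift T₀ T hT₀ (hA₁le.trans inf_le_right))
  obtain ⟨h, hh⟩ := MulAction.exists_smul_eq H (hT2.toSylow hTi) (hS2.toSylow hSi)
  have hsub : H ⊓ (S₀ : Subgroup G) ≤ ((h : G) • T₀ : Sylow 2 G) := by
    intro a ha
    have h1 : (⟨a, ha.1⟩ : H) ∈ ((h • hT2.toSylow hTi : Sylow 2 H) : Subgroup H) := by
      rw [hh]; exact Subgroup.mem_subgroupOf.mpr ha
    show a ∈ (((h : G) • T₀ : Sylow 2 G) : Subgroup G)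
    rw [Sylow.coe_subgroup_smul, Subgroup.mem_pointwise_smul_iff_inv_smul_mem] at h1
    rw [Sylow.coe_subgroup_smul, Subgroup.mem_pointwise_smul_iff_inv_smul_mem]
    exact (Subgroup.mem_subgroupOf.mp h1).2
  have hST : S₀ ≠ (h : G) • T₀ := by
    intro he
    apply hne
    rw [← hS₀, ← hT₀, he]
    ext1
    rw [Sylow.coe_mapSurjective, Sylow.coe_mapSurjective, Sylow.coe_subgroup_smul]
    have hhT : π h ∈ (T₀ : Subgroup G).map π := by
      have h1 : π (h : G) ∈ (T : Subgroup (G ⧸ N)) := (hA₁le h.2).2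
      rw [← hT₀] at h1
      exact h1
    obtain ⟨t, ht, hte⟩ := hhT
    refine le_antisymm ?_ ?_
    · rintro _ ⟨_, ⟨b, hb, rfl⟩, rfl⟩
      refine ⟨t * b * t⁻¹, mul_mem (mul_mem ht hb) (inv_mem ht), ?_⟩
      show π (t * b * t⁻¹) = π ((h : G) * b * (h : G)⁻¹)
      simp [hte]
    · rintro _ ⟨b, hb, rfl⟩
      refine ⟨(h : G) * (t⁻¹ * b * t) * (h : G)⁻¹,
        ⟨t⁻¹ * b * t, mul_mem (mul_mem (inv_mem ht) hb) ht, rfl⟩, ?_⟩
      simp only [hπ] at hte ⊢
      rw [map_mul, map_mul, map_inv, ← hte, map_mul, map_mul, map_inv]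
      group
  set B := (H ⊓ (S₀ : Subgroup G)).subgroupOf ((S₀ : Subgroup G) ⊓ (((h : G) • T₀ : Sylow 2 G) : Subgroup G))
  have hle2 : H ⊓ (S₀ : Subgroup G) ≤ (S₀ : Subgroup G) ⊓ (((h : G) • T₀ : Sylow 2 G) : Subgroup G) :=
    le_inf inf_le_right hsub
  have hBc : Nat.card B = Nat.card A := by
    rw [Nat.card_congr (Subgroup.subgroupOfEquivOfLe hle2).toEquiv, hSc, hA₁c]
  rw [← hBc]
  refine hI S₀ _ hST B ⟨⟨fun a b => Subtype.ext (Subtype.ext ?_)⟩⟩ fun a ha => Subtype.ext ?_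
  · have ha := Subgroup.mem_subgroupOf.mp a.2
    have hb := Subgroup.mem_subgroupOf.mp b.2
    refine mul_inv_eq_one.mp (hker S₀ _
      (mul_mem (mul_mem ha.2 hb.2) (inv_mem (mul_mem hb.2 ha.2))) ?_)
    rw [map_mul, map_inv, mul_inv_eq_one]
    simp only [Subgroup.coe_mul, map_mul]
    exact hcomm _ ha.1 _ hb.1
  · have ha' := Subgroup.mem_subgroupOf.mp ha
    exact hker S₀ _ (pow_mem ha'.2 2) (by simp only [Subgroup.coe_pow, map_pow]; exact hA₁2 _ ha'.1)

/-- The structure of the quotient. -/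
theorem structure_of_quotient {Q : Type*} [Group Q] [Finite Q] [Group.IsSolvable Q]
    (hO : Cfsg.pPrimeCore 2 Q = ⊥)
    (hI : ∀ S T : Sylow 2 Q, S ≠ T → Cfsg.PRankLE 2 1 ↥((S : Subgroup Q) ⊓ (T : Subgroup Q)))
    (hn : ¬ ∃ P : Sylow 2 Q, (P : Subgroup Q).Normal) :
    Nonempty (Q ≃* GL (Fin 2) (ZMod 3)) ∨
    (Nat.card Q = 48 ∧ Nat.card ↥(Subgroup.center Q) = 2 ∧
      Nonempty (Q ⧸ Subgroup.center Q ≃* Equiv.Perm (Fin 4)) ∧
      ∀ P : Sylow 2 Q, Nonempty (↥(P : Subgroup Q) ≃* QuaternionGroup 4)) := by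
  haveI : Fact (Nat.Prime 2) := ⟨Nat.prime_two⟩
  have hcent := Basics.centralizer_pCore_le (p := 2) hO
  have hP : IsPGroup 2 (Cfsg.pCore 2 Q) := Basics.pCore_isPGroup 2
  set P := Cfsg.pCore 2 Q with hPdef
  haveI : P.Normal := inferInstanceAs (Cfsg.pCore 2 Q).Normal
  obtain ⟨S, T, hST⟩ : ∃ S T : Sylow 2 Q, S ≠ T := by
    by_contra hno
    push Not at hno
    haveI : Subsingleton (Sylow 2 Q) := ⟨hno⟩
    exact hn ⟨default, Sylow.normal_of_subsingleton _⟩
  have hle : P ≤ (S : Subgroup Q) ⊓ (T : Subgroup Q) :=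
    le_inf (Basics.pCore_le_sylow 2 S) (Basics.pCore_le_sylow 2 T)
  have huniq : ∀ A B : Subgroup P, Nat.card A = 2 → Nat.card B = 2 → A = B := by
    have hne : ∀ A : Subgroup P, Nat.card A = 2 → (⊥ : Subgroup P) ≠ ⊤ := by
      intro A hA he
      have h1 : Nat.card P = 1 := by
        rw [← Subgroup.card_top (G := P), ← he, Subgroup.card_bot]
      have := Subgroup.card_le_card_group A
      omega
    intro A₀ B₀ hA₀ hB₀
    obtain ⟨z, hzA, hzc, hz1⟩ :=
      InvChar.exists_mem_center_of_normal hP (⊤ : Subgroup P) (hne A₀ hA₀).symm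
    obtain ⟨k, hk⟩ : ∃ k, orderOf z = 2 ^ k := hP.exists_orderOf_eq_pow z
    have hk0 : k ≠ 0 := by rintro rfl; exact hz1 (orderOf_eq_one_iff.mp (by rw [hk, pow_zero]))
    set c := z ^ 2 ^ (k - 1) with hc
    have hco : orderOf c = 2 := by
      rw [hc, orderOf_pow' _ (pow_ne_zero _ two_ne_zero), hk,
        Nat.gcd_eq_right (pow_dvd_pow 2 (by omega)), Nat.pow_div (by omega) two_pos,
        show k - (k - 1) = 1 by omega, pow_one]
    have hcc : ∀ q : P, q * c = c * q :=
      fun q => Subgroup.mem_center_iff.mp (pow_mem hzc _) q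
    have key : ∀ A : Subgroup P, Nat.card A = 2 → A = Subgroup.zpowers c := by
      intro A hA
      obtain ⟨a, ha⟩ := exists_prime_orderOf_dvd_card' (G := A) 2 (by rw [hA])
      rw [← Subgroup.orderOf_coe] at ha
      have eA : A = Subgroup.zpowers (a : P) := (Subgroup.eq_of_le_of_card_ge
        (Subgroup.zpowers_le.mpr a.2) (by rw [Nat.card_zpowers, ha, hA])).symm
      rw [eA]
      suffices hac : (a : P) ∈ Subgroup.zpowers c from
        Subgroup.eq_of_le_of_card_ge (Subgroup.zpowers_le.mpr hac)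
          (by rw [Nat.card_zpowers, Nat.card_zpowers, ha, hco])
      by_contra hac
      have a2 : (a : P) ^ 2 = 1 := orderOf_dvd_iff_pow_eq_one.mp (dvd_of_eq ha)
      have c2 : c ^ 2 = 1 := orderOf_dvd_iff_pow_eq_one.mp (dvd_of_eq hco)
      have hn4 : (a : P) ∈ Subgroup.normalizer (Subgroup.zpowers c : Set P) := by
        apply InvChar.Oct.mem_normalizer_of_map_le
        rw [MonoidHom.map_zpowers, Subgroup.zpowers_le]
        show (a : P) * c * (a : P)⁻¹ ∈ _
        rw [hcc, mul_inv_cancel_right]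
        exact Subgroup.mem_zpowers c
      set W := Subgroup.zpowers c ⊔ Subgroup.zpowers (a : P) with hW
      have hWc : Nat.card W = 4 := by
        rw [hW, (Basics.card_sup_zpowers (p := 2) hn4 (by rw [a2]; exact one_mem _)).2 hac,
          Nat.card_zpowers, hco]
      have hWcl : W = Subgroup.closure ({c, (a : P)} : Set P) := by
        rw [hW, Subgroup.zpowers_eq_closure, Subgroup.zpowers_eq_closure, ← Subgroup.closure_union,
          Set.singleton_union]
      haveI : IsMulCommutative W := by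
        rw [hWcl]
        refine Subgroup.isMulCommutative_closure ?_
        rintro x (rfl | rfl) y (rfl | rfl) <;> first | rfl | exact hcc _ | exact (hcc _).symm
      have hW2 : ∀ w ∈ W, w ^ 2 = 1 := by
        intro w hw
        rw [hWcl] at hw
        have hm : w ∈ W := by rw [hWcl]; exact hw
        clear hm
        induction hw using Subgroup.closure_induction with
        | mem x hx => rcases hx with rfl | rfl <;> assumption
        | one => simp
        | mul x y hx hy h1 h2 =>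
          have hx' : x ∈ W := by rw [hWcl]; exact hx
          have hy' : y ∈ W := by rw [hWcl]; exact hy
          have hxy : Commute x y := congrArg Subtype.val
            (IsMulCommutative.is_comm.comm (⟨x, hx'⟩ : W) ⟨y, hy'⟩)
          rw [hxy.mul_pow, h1, h2, one_mul]
        | inv x hx h1 => rw [inv_pow, h1, inv_one]
      set f := Subgroup.inclusion hle with hf
      have hWm : IsMulCommutative (W.map f) := Subgroup.map_isMulCommutative W f
      have hbound := hI S T hST (W.map f) hWm (by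
        rintro _ ⟨w, hw, rfl⟩
        rw [← map_pow, hW2 w hw, map_one])
      rw [Subgroup.card_map_of_injective (Subgroup.inclusion_injective hle), hWc] at hbound
      norm_num at hbound
    rw [key A₀ hA₀, key B₀ hB₀]
  let ψ : Q →* MulAut P := MulAut.conjNormal
  have hψ : ψ.ker = Subgroup.centralizer (P : Set Q) := by
    ext g
    simp only [MonoidHom.mem_ker, Subgroup.mem_centralizer_iff, ψ]
    constructor
    · intro hg w hw
      have h2 := congrArg (fun e : MulAut P => ((e ⟨w, hw⟩ : P) : Q)) hg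
      simp at h2
      exact (mul_inv_eq_iff_eq_mul.mp h2).symm
    · intro hg
      ext w
      simp [← hg w w.2]
  have hQ : Nat.card Q = Nat.card ψ.ker * Nat.card ψ.range := by
    rw [← Subgroup.index_ker, Subgroup.card_mul_index]
  have hnot2 : ¬ IsPGroup 2 Q := fun h =>
    hn ⟨default, by
      rw [← (default : Sylow 2 Q).is_maximal' (h.to_subgroup ⊤) le_top]
      infer_instance⟩
  have hker2 : IsPGroup 2 ψ.ker := hψ ▸ hP.to_le hcent
  have hnot : ¬ IsPGroup 2 (MulAut P) := by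
    intro hA
    apply hnot2
    obtain ⟨a, ha⟩ := IsPGroup.iff_card.mp hker2
    obtain ⟨b, hb⟩ := IsPGroup.iff_card.mp (hA.to_subgroup ψ.range)
    exact IsPGroup.of_card (n := a + b) (by rw [hQ, ha, hb, pow_add])
  rcases InvChar.cyclic_or_quaternion hP huniq with hcy | ⟨-, n, ⟨e⟩⟩
  · exact absurd (InvChar.isPGroup_mulAut_of_isCyclic hP) hnot
  obtain ⟨α, hα1, hαo⟩ := Invol.exists_odd_aut hnot
  obtain rfl := Zassenhaus.quaternion_n_eq_one e α hαo hα1
  rw [pow_one] at e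
  have hP8 : Nat.card P = 8 := by
    rw [Nat.card_congr e.toEquiv, Nat.card_eq_fintype_card, QuaternionGroup.card]
  have hkerc : Nat.card ψ.ker = 2 := by
    obtain ⟨z, hz⟩ := exists_prime_orderOf_dvd_card' (G := P) 2 (by rw [hP8]; norm_num)
    obtain ⟨-, hf2, hf3, hf4, -⟩ := InvChar.Oct.q8_facts e
    have z2 : z ^ 2 = 1 := orderOf_dvd_iff_pow_eq_one.mp (dvd_of_eq hz)
    have z1 : z ≠ 1 := by intro he; rw [he, orderOf_one] at hz; omega
    have he : ψ.ker = Subgroup.zpowers (z : Q) := by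
      rw [hψ]
      refine le_antisymm (fun g hg => ?_) (Subgroup.zpowers_le.mpr ?_)
      · have hgP := hcent hg
        have g2 : (⟨g, hgP⟩ : P) ^ 2 = 1 := by
          by_contra h2
          obtain ⟨b, hb⟩ := hf3 _ h2
          exact hb (Subtype.ext (Subgroup.mem_centralizer_iff.mp hg b b.2))
        rcases eq_or_ne (⟨g, hgP⟩ : P) 1 with h1 | h1
        · rw [show g = 1 from congrArg Subtype.val h1]; exact one_mem _
        · rw [show g = (z : Q) from congrArg Subtype.val (hf4 _ z g2 z2 h1 z1)]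
          exact Subgroup.mem_zpowers _
      · exact Subgroup.mem_centralizer_iff.mpr fun w hw =>
          congrArg Subtype.val (hf2 z ⟨w, hw⟩ z2)
    rw [he, Nat.card_zpowers, Subgroup.orderOf_coe, hz]
  have h48 : Nat.card Q = 48 := by
    have hd : Nat.card Q ∣ 48 := by
      rw [hQ, hkerc, show (48 : ℕ) = 2 * 24 from rfl]
      exact Nat.mul_dvd_mul_left 2 ((Subgroup.card_subgroup_dvd_card ψ.range).trans
        ((Nat.card_congr (MulAut.congr e).toEquiv) ▸ PermGp.NFLin.card_mulAut_quaternion_dvd))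
    have h8 : 8 ∣ Nat.card Q := hP8 ▸ Subgroup.card_subgroup_dvd_card P
    obtain ⟨m, hm⟩ := h8
    have hm6 : m ∣ 6 := by
      rw [hm, show (48 : ℕ) = 8 * 6 from rfl] at hd
      exact Nat.dvd_of_mul_dvd_mul_left (by norm_num) hd
    have hpow : ∀ a : ℕ, Nat.card Q ≠ 2 ^ a := fun a ha => hnot2 (IsPGroup.of_card ha)
    have h24 : Nat.card Q ≠ 24 := by
      intro h24
      apply hn
      refine ⟨Sylow.ofCard P ?_, (show P.Normal from inferInstance)⟩
      rw [hP8, h24, show (24 : ℕ) = 2 ^ 3 * 3 by norm_num, Nat.factorization_mul (by norm_num) (by norm_num),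
        Finsupp.add_apply, Nat.Prime.factorization_pow Nat.prime_two, Finsupp.single_eq_same,
        Nat.factorization_eq_zero_of_not_dvd (by norm_num : ¬ 2 ∣ 3)]
      norm_num
    have := Nat.le_of_dvd (by norm_num) hm6
    have h3 := hpow 3
    have h4 := hpow 4
    interval_cases m <;> norm_num at hm6 <;> omega
  have h : InvChar.Oct.Hyp P :=
    { normal := inferInstance
      maximal := fun N hN hN2 => by haveI := hN; exact Basics.le_pCore hN2
      cent := hcent
      quat := ⟨e⟩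
      card := h48 }
  by_cases hx : ∃ x : Q, x ^ 2 = 1 ∧ x ∉ P
  · obtain ⟨x, x2, hxP⟩ := hx
    exact Or.inl (h.iso_GL x2 hxP)
  · push Not at hx
    exact Or.inr ⟨h48, h.card_center, h.quotient_iso, h.sylow_quaternion hx⟩

theorem result {G : Type*} [Group G] [Finite G] (hs : Group.IsSolvable G)
    (hI : ∀ S T : Sylow 2 G, S ≠ T → Cfsg.PRankLE 2 1 ↥((S : Subgroup G) ⊓ (T : Subgroup G))) :
    (∃ P : Sylow 2 (G ⧸ Cfsg.oddCore G), (P : Subgroup (G ⧸ Cfsg.oddCore G)).Normal) ∨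
    Nonempty ((G ⧸ Cfsg.oddCore G) ≃* GL (Fin 2) (ZMod 3)) ∨
    (Nat.card (G ⧸ Cfsg.oddCore G) = 48 ∧ Nat.card ↥(Subgroup.center (G ⧸ Cfsg.oddCore G)) = 2 ∧
      Nonempty ((G ⧸ Cfsg.oddCore G) ⧸ Subgroup.center (G ⧸ Cfsg.oddCore G) ≃* Equiv.Perm (Fin 4)) ∧
      ∀ P : Sylow 2 (G ⧸ Cfsg.oddCore G), Nonempty (↥(P : Subgroup (G ⧸ Cfsg.oddCore G)) ≃* QuaternionGroup 4)) := by
  by_cases hnorm : ∃ P : Sylow 2 (G ⧸ Cfsg.oddCore G), (P : Subgroup (G ⧸ Cfsg.oddCore G)).Normal
  · exact Or.inl hnorm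
  · haveI := hs
    exact Or.inr (structure_of_quotient (Basics.pPrimeCore_quotient_eq_bot 2) (quotient_rank hI) hnorm)

end Cfsg.Agent.S3304
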