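import Cfsg.Statements.S3309
import Mathlib
import Cfsg.Agent.Lib.InvChar.Thompson

set_option autoImplicit false
open Cfsg

namespace Cfsg.Agent.S3309

/-- A finite group whose Sylow 2-subgroups are isomorphic to the direct product of a group of order 2 and the dihedral group of order 8 is not a non-abelian simple group. -/
theorem result {G : Type*} [Group G] [Finite G] (S : Sylow 2 G) (hS : Nonempty (↥(S : Subgroup G) ≃* Multiplicative (ZMod 2) × DihedralGroup 4))
    [IsSimpleGroup G] (hG : ¬ IsMulCommutative G) : False := by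
  obtain ⟨e⟩ := hS
  have hG2 : ∀ H : Subgroup G, H.Normal → H.index ≠ 2 := by
    intro H hn hi
    rcases hn.eq_bot_or_eq_top with rfl | rfl
    · rw [Subgroup.index_bot] at hi
      haveI : Fact (Nat.Prime 2) := ⟨Nat.prime_two⟩
      haveI := isCyclic_of_prime_card hi
      exact hG IsCyclic.commutative
    · simp at hi
  let π := (MonoidHom.fst (Multiplicative (ZMod 2)) (DihedralGroup 4)).comp e.toMonoidHom
  have hπ : Function.Surjective π := fun b => ⟨e.symm (b, 1), by simp [π]⟩
  let M : Subgroup G := π.ker.map (S : Subgroup G).subtype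
  have hM : M.relIndex (S : Subgroup G) = 2 := by
    have : M.subgroupOf (S : Subgroup G) = π.ker :=
      Subgroup.comap_map_eq_self_of_injective Subtype.val_injective _
    show (M.subgroupOf (S : Subgroup G)).index = 2
    rw [this, Subgroup.index_ker, MonoidHom.range_eq_top.mpr hπ]
    simp
  let x : ↥(S : Subgroup G) := e.symm (Multiplicative.ofAdd 1, 1)
  have hxo : orderOf (x : G) = 2 ^ 1 := by
    rw [Subgroup.orderOf_coe, pow_one, show x = e.symm (Multiplicative.ofAdd 1, 1) from rfl, MulEquiv.orderOf_eq]
    exact orderOf_eq_prime (by decide) (by decide)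
  have hxc : ∀ s : ↥(S : Subgroup G), s * x = x * s := by
    intro s
    apply e.injective
    rw [map_mul, map_mul, show e x = (Multiplicative.ofAdd 1, 1) from e.apply_symm_apply _]
    generalize e s = p
    revert p
    decide
  obtain ⟨g, hg, hgS⟩ := Cfsg.Agent.InvChar.thompson_transfer hG2 S M (Subgroup.map_subtype_le _) hM 1
    (by
      intro y _ hy
      have h1 : y ≠ 1 := fun h => hy (h ▸ M.one_mem)
      have : orderOf y ≠ 1 := fun h => h1 (orderOf_eq_one_iff.mp h)
      have := orderOf_pos y
      norm_num; omega)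
    (x : G) hxo (S : Subgroup G) S.2 (fun r hr => congrArg Subtype.val (hxc ⟨r, hr⟩))
  have hgS' : ∀ r : ↥(S : Subgroup G), g⁻¹ * (r : G) * g ∈ (S : Subgroup G) := fun r => hgS r r.2
  let φ : ↥(S : Subgroup G) →* ↥(S : Subgroup G) :=
    { toFun := fun r => ⟨g⁻¹ * (r : G) * g, hgS' r⟩
      map_one' := by ext; simp
      map_mul' := fun a b => by ext; simp [mul_assoc] }
  have hφi : Function.Injective φ := by
    intro a b h
    have := congrArg Subtype.val h
    exact Subtype.ext (by simpa [φ] using this)
  have hφb : Function.Bijective φ := Finite.injective_iff_bijective.mp hφi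
  obtain ⟨m, hmK, hme⟩ := hg
  have hm : φ x = m := Subtype.ext hme.symm
  have hmc : ∀ s, s * m = m * s := by
    intro s
    obtain ⟨r, rfl⟩ := hφb.2 s
    rw [← hm, ← map_mul, hxc, map_mul]
  let η : Multiplicative (ZMod 2) × DihedralGroup 4 →* Multiplicative (ZMod 2) × DihedralGroup 4 :=
    e.toMonoidHom.comp (φ.comp e.symm.toMonoidHom)
  have hηi : Function.Injective η := e.injective.comp (hφi.comp e.symm.injective)
  have hcen : ∀ p : Multiplicative (ZMod 2) × DihedralGroup 4, (∀ q, q * p = p * q) → p.1 = 1 → p ≠ 1 →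
      p = (1, DihedralGroup.r 2) := by decide
  have hη1 : η (Multiplicative.ofAdd 1, 1) = (1, DihedralGroup.r 2) := by
    have : η (Multiplicative.ofAdd 1, 1) = e m := congrArg e hm
    rw [this]
    refine hcen _ (fun q => ?_) hmK ?_
    · have := congrArg e (hmc (e.symm q))
      rwa [map_mul, map_mul, MulEquiv.apply_symm_apply] at this
    · intro h
      rw [← this] at h
      have := hηi (h.trans (map_one η).symm)
      revert this
      decide
  have hcomm : ∀ p q : Multiplicative (ZMod 2) × DihedralGroup 4,
      p * q * p⁻¹ * q⁻¹ = 1 ∨ p * q * p⁻¹ * q⁻¹ = (1, DihedralGroup.r 2) := by decide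
  have hz : ((1, DihedralGroup.r 2) : Multiplicative (ZMod 2) × DihedralGroup 4) =
      (1, DihedralGroup.sr 0) * (1, DihedralGroup.r 1) * (1, DihedralGroup.sr 0)⁻¹ * (1, DihedralGroup.r 1)⁻¹ := by decide
  have hηz : η (1, DihedralGroup.r 2) = (1, DihedralGroup.r 2) := by
    rcases hcomm (η (1, DihedralGroup.sr 0)) (η (1, DihedralGroup.r 1)) with h | h
    · rw [← map_inv, ← map_inv, ← map_mul, ← map_mul, ← map_mul, ← hz] at h
      have := hηi (h.trans (map_one η).symm)
      exact absurd this (by decide)
    · rw [← map_inv, ← map_inv, ← map_mul, ← map_mul, ← map_mul, ← hz] at h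
      exact h
  have := hηi (hη1.trans hηz.symm)
  revert this
  decide

end Cfsg.Agent.S3309
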