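import Cfsg.Statements.S3313
import Cfsg.Agent.S0213
import Cfsg.Agent.Lib.InvChar.MinusExtraCount
import Cfsg.Agent.Lib.ClassK.CharTwo
-- import your own Cfsg.Agent.* helpers here

set_option autoImplicit false
open Cfsg

namespace Cfsg.Agent.S3313

open Cfsg.Agent

private theorem alt_five_pow : ∀ x : alternatingGroup (Fin 5), x ^ 30 = 1 := by decide +kernel

private theorem alt_five_pairs :
    Fintype.card {x : alternatingGroup (Fin 5) × alternatingGroup (Fin 5) //
      x.1 * x.1 = 1 ∧ x.1 ≠ 1 ∧ x.2 * x.2 = 1 ∧ (x.1 * x.2) ^ 15 = 1} = 195 := by decide +kernel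


/-- The order of a simple group with the involution pattern of the Hall–Janko group. Let G be a non-abelian finite simple group with exactly two conjugacy classes of involutions, represented by z and t, such that: F*(C_G(z)) is an extraspecial 2-group; Q = O₂(C_G(z)) has order 32 and C_G(z) is the semidirect product of Q by a subgroup isomorphic to A₅; every involution of Q is conjugate to z and every other involution of C_G(z) is conjugate to t; C_G(t) is an internal direct product V × B with V a four-group containing t and B ≅ A₅; every involution of B is conjugate to z and every other involution of C_G(t) is conjugate to t. Then |G| = 604800. -/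
theorem result {G : Type*} [Group G] [Finite G]
    [IsSimpleGroup G] (hna : ¬ IsMulCommutative G) (z t : G) (hz : orderOf z = 2) (ht : orderOf t = 2)
    (hzt : ¬ IsConj z t) (hcl : ∀ x : G, orderOf x = 2 → IsConj x z ∨ IsConj x t)
    (hex : Cfsg.IsExtraspecial 2 ↥(Cfsg.generalizedFittingSubgroup ↥(Subgroup.centralizer ({z} : Set G))))
    (hQ : Nat.card ↥(Cfsg.pCore 2 ↥(Subgroup.centralizer ({z} : Set G))) = 32)
    (K : Subgroup G) (hK : Nonempty (↥K ≃* alternatingGroup (Fin 5)))
    (hKC : K ⊔ (Cfsg.pCore 2 ↥(Subgroup.centralizer ({z} : Set G))).map (Subgroup.centralizer ({z} : Set G)).subtype = Subgroup.centralizer ({z} : Set G))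
    (hKQ : K ⊓ (Cfsg.pCore 2 ↥(Subgroup.centralizer ({z} : Set G))).map (Subgroup.centralizer ({z} : Set G)).subtype = ⊥)
    (hQz : ∀ x ∈ (Cfsg.pCore 2 ↥(Subgroup.centralizer ({z} : Set G))).map (Subgroup.centralizer ({z} : Set G)).subtype, orderOf x = 2 → IsConj x z)
    (hCz : ∀ x ∈ Subgroup.centralizer ({z} : Set G), orderOf x = 2 →
      x ∉ (Cfsg.pCore 2 ↥(Subgroup.centralizer ({z} : Set G))).map (Subgroup.centralizer ({z} : Set G)).subtype → IsConj x t)
    (V B : Subgroup G) (hVB : Cfsg.IsInternalDirectProduct V B (Subgroup.centralizer ({t} : Set G)))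
    (hV : Nat.card ↥V = 4) (hV2 : ∀ v ∈ V, v ^ 2 = 1) (htV : t ∈ V) (hB : Nonempty (↥B ≃* alternatingGroup (Fin 5)))
    (hBz : ∀ x ∈ B, orderOf x = 2 → IsConj x z)
    (hCt : ∀ x ∈ Subgroup.centralizer ({t} : Set G), orderOf x = 2 → x ∉ B → IsConj x t) :
    Nat.card G = 604800 := by
  classical
  haveI : Fact (Nat.Prime 2) := ⟨Nat.prime_two⟩
  set C := Subgroup.centralizer ({z} : Set G) with hC
  set P := Cfsg.pCore 2 C with hP
  have hzz : z * z = 1 := Invol.mul_self_of_orderOf_two hz
  have htt : t * t = 1 := Invol.mul_self_of_orderOf_two ht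
  -- the centralizer of `z`
  have hFP : Cfsg.generalizedFittingSubgroup C = P :=
    le_antisymm (le_sSup ⟨inferInstance, hex.1.1⟩) (Components.pCore_le_fitting.trans Components.fitting_le_fStar)
  have hCP : Subgroup.centralizer (P : Set C) ≤ P := by
    have := Components.centralizer_fStar_le (G := C)
    rwa [hFP] at this
  have hKle : K ≤ C := le_sup_left.trans hKC.le
  have hzC : z ∈ C := Subgroup.mem_centralizer_singleton_iff.mpr rfl
  have hcen : ∀ x : C, Commute (⟨z, hzC⟩ : C) x := fun x =>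
    Subtype.ext (Subgroup.mem_centralizer_singleton_iff.mp x.2).symm
  haveI hPn : P.Normal := hFP ▸ inferInstance
  have hms : InvChar.MinusSetup P (K.subgroupOf C) (⟨z, hzC⟩ : C) := by
    refine ⟨hPn, hFP ▸ hex, hQ, by rw [← Subgroup.orderOf_coe]; exact hz,
      hCP (Subgroup.mem_centralizer_iff.mpr fun x _ => (hcen x).eq.symm), hcen, hCP,
      hK.map fun e => (Subgroup.subgroupOfEquivOfLe hKle).trans e, ?_, ?_⟩
    · apply Subgroup.map_injective C.subtype_injective
      rw [Subgroup.map_inf _ _ _ C.subtype_injective, Subgroup.map_subgroupOf_eq_of_le hKle, Subgroup.map_bot]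
      exact hKQ
    · apply Subgroup.map_injective C.subtype_injective
      rw [Subgroup.map_sup, Subgroup.map_subgroupOf_eq_of_le hKle, ← MonoidHom.range_eq_map, Subgroup.range_subtype]
      exact hKC
  have hcardC : Nat.card C = 1920 := by
    have hc : (K.subgroupOf C).IsComplement' P :=
      Subgroup.isComplement'_of_disjoint_and_mul_eq_univ (disjoint_iff.mpr hms.hKQ)
        (by rw [← Subgroup.mul_normal (K.subgroupOf C) P, hms.hsup, Subgroup.coe_top])
    rw [← hc.card_mul, hms.card_K, hQ]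
  have hinPQ : ∀ x : C, x ∈ P ↔ (x : G) ∈ P.map C.subtype := fun x =>
    ⟨fun h => ⟨x, h, rfl⟩, fun ⟨y, hy, e⟩ => Subtype.val_injective e ▸ hy⟩
  -- inversion puts both members of a pair into the centralizer
  have hpair : ∀ w u v : G, w * w = 1 → u * u = 1 → v * v = 1 → w ∈ Subgroup.zpowers (u * v) →
      u ∈ Subgroup.centralizer ({w} : Set G) ∧ v ∈ Subgroup.centralizer ({w} : Set G) := by
    intro w u v hw hu hv hmem
    have hu' : Commute u w := by
      have := Invol.inverts_of_mem_zpowers (Invol.conj_mul_eq_inv hu hv) hmem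
      rw [Invol.inv_eq_self_of_mul_self hw] at this
      exact mul_inv_eq_iff_eq_mul.mp this
    have hv' : Commute v w := by
      have := Invol.inverts_of_mem_zpowers (Invol.conj_mul_eq_inv' hu hv) hmem
      rw [Invol.inv_eq_self_of_mul_self hw] at this
      exact mul_inv_eq_iff_eq_mul.mp this
    exact ⟨Subgroup.mem_centralizer_singleton_iff.mpr hu'.eq, Subgroup.mem_centralizer_singleton_iff.mpr hv'.eq⟩
  have hsq : ∀ w u : G, orderOf w = 2 → IsConj w u → orderOf u = 2 ∧ u * u = 1 := fun w u hw h =>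
    ⟨Invol.orderOf_two_of_isConj h hw, Invol.mul_self_of_orderOf_two (Invol.orderOf_two_of_isConj h hw)⟩
  -- pairs through `z`
  have n1 : Nat.card {p : G × G // IsConj z p.1 ∧ IsConj t p.2 ∧ z ∈ Subgroup.zpowers (p.1 * p.2)} = 960 := by
    obtain ⟨π, hπ, hinj, hexP, hanti, -⟩ := hms.exists_points
    have hfwd : ∀ u v : G, IsConj z u → IsConj t v → z ∈ Subgroup.zpowers (u * v) →
        ∃ (hu : u ∈ C) (hv : v ∈ C), ((⟨u, hu⟩ : C) ∈ P ∧ orderOf (⟨u, hu⟩ : C) = 2) ∧
          ((⟨v, hv⟩ : C) ∉ P ∧ orderOf (⟨v, hv⟩ : C) = 2) ∧ ¬ Commute (⟨u, hu⟩ : C) ⟨v, hv⟩ := by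
      intro u v hzu htv hmem
      obtain ⟨hu2, huu⟩ := hsq z u hz hzu
      obtain ⟨hv2, hvv⟩ := hsq t v ht htv
      obtain ⟨hu, hv⟩ := hpair z u v hzz huu hvv hmem
      have huP : (⟨u, hu⟩ : C) ∈ P := by
        by_contra h
        exact hzt (hzu.trans (hCz u hu hu2 fun h' => h ((hinPQ ⟨u, hu⟩).mpr h')))
      have hvP : (⟨v, hv⟩ : C) ∉ P := fun h => hzt (((hQz v ((hinPQ ⟨v, hv⟩).mp h) hv2).symm).trans htv.symm)
      refine ⟨hu, hv, ⟨huP, by rw [← Subgroup.orderOf_coe]; exact hu2⟩,
        ⟨hvP, by rw [← Subgroup.orderOf_coe]; exact hv2⟩, fun hc => hvP ?_⟩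
      have hc' : Commute u v := congrArg Subtype.val hc
      have h2 : (u * v) * (u * v) = 1 := by rw [hc'.symm.mul_mul_mul_comm, huu, hvv, one_mul]
      obtain ⟨n, hn⟩ := Subgroup.mem_zpowers_iff.mp hmem
      rcases Int.even_or_odd n with ⟨j, rfl⟩ | ⟨j, rfl⟩
      · rw [zpow_add, ← (Commute.refl (u * v)).mul_zpow, h2, one_zpow] at hn
        exact absurd hn.symm (Invol.ne_one_of_orderOf_two hz)
      · rw [zpow_add_one, two_mul, zpow_add, ← (Commute.refl (u * v)).mul_zpow, h2, one_zpow, one_mul] at hn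
        have : (⟨v, hv⟩ : C) = ⟨u, hu⟩ * ⟨z, hzC⟩ := Subtype.ext (show v = u * z by
          rw [← hn, ← mul_assoc, huu, one_mul])
        rw [this]; exact mul_mem huP hms.hzQ
    have hbwd : ∀ u v : C, (u ∈ P ∧ orderOf u = 2) → (v ∉ P ∧ orderOf v = 2) → ¬ Commute u v →
        IsConj z (u : G) ∧ IsConj t (v : G) ∧ z ∈ Subgroup.zpowers ((u : G) * v) := by
      rintro u v ⟨huP, hu2⟩ ⟨hvP, hv2⟩ hnc
      have huu := Invol.mul_self_of_orderOf_two hu2
      have hvv := Invol.mul_self_of_orderOf_two hv2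
      refine ⟨(hQz u ((hinPQ u).mp huP) (by rw [Subgroup.orderOf_coe]; exact hu2)).symm,
        (hCz v v.2 (by rw [Subgroup.orderOf_coe]; exact hv2) fun h => hvP ((hinPQ v).mpr h)).symm, ?_⟩
      suffices h : (⟨z, hzC⟩ : C) ∈ Subgroup.zpowers (u * v) by
        obtain ⟨n, hn⟩ := Subgroup.mem_zpowers_iff.mp h
        exact Subgroup.mem_zpowers_iff.mpr ⟨n, by simpa using congrArg Subtype.val hn⟩
      set w := v * u * v⁻¹ with hw
      have hwP : w ∈ P := hPn.conj_mem u huP v
      have hww : w * w = 1 := by rw [hw, conj_mul, huu, mul_one, mul_inv_cancel]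
      have huv : (u * v) * (u * v) = u * w := by
        rw [hw, Invol.inv_eq_self_of_mul_self hvv]; group
      rcases hms.comm_cases huP hwP with hc | hc
      · have hne : ∀ x : C, x ∈ P → orderOf x = 2 → ¬ Commute x v → x ≠ 1 ∧ x ≠ ⟨z, hzC⟩ := fun x _ hx h =>
          ⟨Invol.ne_one_of_orderOf_two hx, fun e => h (e ▸ hcen v)⟩
        obtain ⟨hu1, huz⟩ := hne u huP hu2 hnc
        have hwne : w ≠ u := fun e => hnc (mul_inv_eq_iff_eq_mul.mp e).symm
        obtain ⟨i, hi⟩ := hexP u huP huu hu1 huz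
        obtain ⟨j, hj⟩ := hexP w hwP hww (fun e => hu1 (conj_eq_one_iff.mp e)) fun e => huz (by
          have := mul_inv_eq_iff_eq_mul.mp e
          rw [(hcen v).eq] at this
          exact mul_left_cancel this)
        have hij : i = j := by
          by_contra hne'
          have hcp : Commute (π i) (π j) := by
            have hz' : ∀ a b : C, Commute (a * ⟨z, hzC⟩) b → Commute a b := fun a b h => by
              have := h.mul_left (hcen b).inv_left
              rwa [mul_inv_cancel_right] at this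
            have hc' : Commute u w := hc
            rcases hi with rfl | rfl <;> rcases hj with e | e <;> rw [e] at hc'
            · exact hc'
            · exact (hz' _ _ hc'.symm).symm
            · exact hz' _ _ hc'
            · exact (hz' _ _ (hz' _ _ hc').symm).symm
          refine hms.z_ne (mul_left_cancel (a := π j * π i) ?_)
          rw [mul_one, ← hanti i j hne']
          exact hcp.eq
        subst hij
        have hwu : u * w = ⟨z, hzC⟩ := by
          obtain ⟨-, hp2, -, -⟩ := hπ i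
          rcases hi with rfl | rfl <;> rcases hj with e | e
          · exact absurd e hwne
          · rw [e, ← mul_assoc, hp2, one_mul]
          · rw [e, mul_assoc, (hcen _).eq, ← mul_assoc, hp2, one_mul]
          · exact absurd e hwne
        exact Subgroup.mem_zpowers_iff.mpr ⟨2, by rw [zpow_two, huv, hwu]⟩
      · refine Subgroup.mem_zpowers_iff.mpr ⟨4, ?_⟩
        rw [show (4 : ℤ) = 2 + 2 by norm_num, zpow_add, zpow_two, huv]
        calc u * w * (u * w) = w * u * ⟨z, hzC⟩ * (u * w) := by rw [← hc]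
          _ = w * (u * (u * w)) * ⟨z, hzC⟩ := by
            rw [mul_assoc (w * u), (hcen (u * w)).eq, ← mul_assoc, mul_assoc w]
          _ = _ := by rw [← mul_assoc u, huu, one_mul, hww, one_mul]
    refine (Nat.card_congr ?_).trans hms.card_pairs
    exact
      { toFun := fun p => ⟨(⟨p.1.1, (hfwd _ _ p.2.1 p.2.2.1 p.2.2.2).choose⟩,
            ⟨p.1.2, (hfwd _ _ p.2.1 p.2.2.1 p.2.2.2).choose_spec.choose⟩),
          (hfwd _ _ p.2.1 p.2.2.1 p.2.2.2).choose_spec.choose_spec⟩
        invFun := fun x => ⟨((x.1.1 : G), (x.1.2 : G)), hbwd _ _ x.2.1 x.2.2.1 x.2.2.2⟩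
        left_inv := fun p => rfl
        right_inv := fun x => rfl }
  -- the centralizer of `t`
  obtain ⟨hVle, hBle, hcomm, hinf, hsup⟩ := hVB
  let f : V × B →* G := V.subtype.noncommCoprod B.subtype fun a b => hcomm a a.2 b b.2
  have hf : Function.Injective f := by
    rintro ⟨a, b⟩ ⟨a', b'⟩ e
    change (a : G) * b = a' * b' at e
    have h1 : (a' : G)⁻¹ * a = b' * (b : G)⁻¹ := by
      rw [inv_mul_eq_iff_eq_mul, ← mul_assoc, ← e, mul_inv_cancel_right]
    have h2 : (a' : G)⁻¹ * a ∈ V ⊓ B :=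
      Subgroup.mem_inf.mpr ⟨V.mul_mem (V.inv_mem a'.2) a.2, h1 ▸ B.mul_mem b'.2 (B.inv_mem b.2)⟩
    rw [hinf, Subgroup.mem_bot, inv_mul_eq_one] at h2
    obtain rfl : a' = a := Subtype.ext h2
    obtain rfl : b = b' := Subtype.ext (mul_left_cancel e)
    rfl
  have hrange : f.range = Subgroup.centralizer ({t} : Set G) := by
    rw [← hsup]
    refine le_antisymm ?_ (sup_le (fun a ha => ⟨(⟨a, ha⟩, 1), ?_⟩) fun b hb => ⟨(1, ⟨b, hb⟩), ?_⟩)
    · rintro _ ⟨⟨a, b⟩, rfl⟩
      exact Subgroup.mul_mem_sup a.2 b.2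
    · exact mul_one a
    · exact one_mul b
  obtain ⟨eB⟩ := hB
  have hB60 : Nat.card B = 60 := by
    rw [Nat.card_congr eB.toEquiv, Nat.card_eq_fintype_card]; decide
  have hcardT : Nat.card (Subgroup.centralizer ({t} : Set G)) = 240 := by
    rw [← hrange, Nat.card_congr (MonoidHom.ofInjective hf).toEquiv.symm, Nat.card_prod, hV, hB60]
  have hodd : ∀ x : B, Odd (orderOf (x : G)) ↔ (eB x) ^ 15 = 1 := by
    intro x
    rw [Subgroup.orderOf_coe, ← orderOf_dvd_iff_pow_eq_one, MulEquiv.orderOf_eq]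
    constructor
    · intro h
      have h30 : orderOf x ∣ 30 := by
        rw [← MulEquiv.orderOf_eq eB]; exact orderOf_dvd_of_pow_eq_one (alt_five_pow _)
      exact (Nat.coprime_two_right.mpr h).dvd_of_dvd_mul_right (show orderOf x ∣ 15 * 2 from h30)
    · exact fun h => Odd.of_dvd_nat (by decide) h
  -- pairs through `t`
  have n2 : Nat.card {p : G × G // IsConj z p.1 ∧ IsConj t p.2 ∧ t ∈ Subgroup.zpowers (p.1 * p.2)} = 195 := by
    have hfwd : ∀ u v : G, IsConj z u → IsConj t v → t ∈ Subgroup.zpowers (u * v) →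
        ∃ (hu : u ∈ B) (b : B), u * u = 1 ∧ u ≠ 1 ∧ (b : G) * b = 1 ∧ v = t * b ∧ Odd (orderOf (u * b)) := by
      intro u v hzu htv hmem
      obtain ⟨hu2, huu⟩ := hsq z u hz hzu
      obtain ⟨hv2, hvv⟩ := hsq t v ht htv
      obtain ⟨hu, hv⟩ := hpair t u v htt huu hvv hmem
      have huB : u ∈ B := by
        by_contra h
        exact hzt (hzu.trans (hCt u hu hu2 h))
      obtain ⟨⟨a, b⟩, rfl⟩ := hrange.ge hv
      change IsConj t ((a : G) * b) at htv
      change (a : G) * b * ((a : G) * b) = 1 at hvv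
      change t ∈ Subgroup.zpowers (u * ((a : G) * b)) at hmem
      have haa : (a : G) * a = 1 := by rw [← pow_two]; exact hV2 a a.2
      have hbb : (b : G) * b = 1 := by
        have hba : Commute (b : G) a := (hcomm a a.2 b b.2).symm
        rwa [hba.mul_mul_mul_comm, haa, one_mul] at hvv
      obtain ⟨n, hn⟩ := Subgroup.mem_zpowers_iff.mp hmem
      have hau : Commute (a : G) (u * b) := hcomm a a.2 _ (mul_mem huB b.2)
      rw [← mul_assoc, ← (show Commute (a : G) u from hcomm a a.2 u huB).eq, mul_assoc, hau.mul_zpow] at hn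
      have key := @hf (⟨(a : G) ^ n, zpow_mem a.2 n⟩, ⟨(u * b) ^ n, zpow_mem (mul_mem huB b.2) n⟩) (⟨t, htV⟩, 1)
        (show (a : G) ^ n * (u * b) ^ n = t * 1 by rw [hn, mul_one])
      simp only [Prod.mk.injEq, Subtype.ext_iff, Subgroup.coe_one] at key
      rcases Int.even_or_odd n with ⟨j, rfl⟩ | hnodd
      · exfalso
        have := key.1
        rw [zpow_add, ← (Commute.refl (a : G)).mul_zpow, haa, one_zpow] at this
        exact Invol.ne_one_of_orderOf_two ht this.symm
      · obtain ⟨j, rfl⟩ := hnodd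
        have hat : (a : G) = t := by
          have := key.1
          rwa [zpow_add_one, two_mul, zpow_add, ← (Commute.refl (a : G)).mul_zpow, haa, one_zpow, one_mul] at this
        refine ⟨huB, b, huu, Invol.ne_one_of_orderOf_two hu2, hbb, by show (a : G) * b = t * b; rw [hat], ?_⟩
        have hd := orderOf_dvd_iff_zpow_eq_one.mpr key.2
        rw [Nat.odd_iff]
        by_contra hev
        obtain ⟨c, hc⟩ := hd
        obtain ⟨m, hm⟩ : 2 ∣ orderOf (u * (b : G)) := by omega
        rw [hm] at hc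
        push_cast at hc
        rw [mul_assoc] at hc
        generalize (m : ℤ) * c = d at hc
        omega
    have hbwd : ∀ u b : B, (u : G) * u = 1 → (u : G) ≠ 1 → (b : G) * b = 1 → Odd (orderOf ((u : G) * b)) →
        IsConj z (u : G) ∧ IsConj t (t * (b : G)) ∧ t ∈ Subgroup.zpowers ((u : G) * (t * b)) := by
      intro u b huu hu1 hbb hoddub
      have htu : Commute t (u : G) := hcomm t htV u u.2
      have htb : Commute t (b : G) := hcomm t htV b b.2
      refine ⟨(hBz u u.2 (Invol.orderOf_two_of_mul_self huu hu1)).symm, ?_, ?_⟩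
      · have hne : t * (b : G) ∉ B := fun h => by
          have : t ∈ V ⊓ B := ⟨htV, by simpa using mul_mem h (inv_mem b.2)⟩
          rw [hinf, Subgroup.mem_bot] at this
          exact Invol.ne_one_of_orderOf_two ht this
        refine (hCt _ (Subgroup.mul_mem _ (hVle htV) (hBle b.2)) (Invol.orderOf_two_of_mul_self ?_ fun e => hne (e ▸ one_mem B)) hne).symm
        rw [htb.symm.mul_mul_mul_comm, htt, hbb, one_mul]
      · refine Subgroup.mem_zpowers_iff.mpr ⟨orderOf ((u : G) * b), ?_⟩
        rw [zpow_natCast, ← mul_assoc, ← htu.eq, mul_assoc, (htu.mul_right htb).mul_pow, pow_orderOf_eq_one,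
          mul_one, pow_eq_pow_mod _ (by rw [pow_two]; exact htt : t ^ 2 = 1), Nat.odd_iff.mp hoddub, pow_one]
    have e : {p : G × G // IsConj z p.1 ∧ IsConj t p.2 ∧ t ∈ Subgroup.zpowers (p.1 * p.2)} ≃
        {x : B × B // (x.1 : G) * x.1 = 1 ∧ (x.1 : G) ≠ 1 ∧ (x.2 : G) * x.2 = 1 ∧ Odd (orderOf ((x.1 : G) * x.2))} :=
      { toFun := fun p => ⟨(⟨p.1.1, (hfwd _ _ p.2.1 p.2.2.1 p.2.2.2).choose⟩, (hfwd _ _ p.2.1 p.2.2.1 p.2.2.2).choose_spec.choose),
          have h := (hfwd _ _ p.2.1 p.2.2.1 p.2.2.2).choose_spec.choose_spec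
          ⟨h.1, h.2.1, h.2.2.1, h.2.2.2.2⟩⟩
        invFun := fun x => ⟨((x.1.1 : G), t * (x.1.2 : G)), hbwd _ _ x.2.1 x.2.2.1 x.2.2.2.1 x.2.2.2.2⟩
        left_inv := fun p => Subtype.ext (Prod.ext rfl
          (hfwd _ _ p.2.1 p.2.2.1 p.2.2.2).choose_spec.choose_spec.2.2.2.1.symm)
        right_inv := fun x => by
          have h := hbwd _ _ x.2.1 x.2.2.1 x.2.2.2.1 x.2.2.2.2
          refine Subtype.ext (Prod.ext rfl (Subtype.ext ?_))
          exact mul_left_cancel (hfwd _ _ h.1 h.2.1 h.2.2).choose_spec.choose_spec.2.2.2.1.symm }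
    rw [Nat.card_congr e, Nat.card_congr (Equiv.subtypeEquiv (eB.toEquiv.prodCongr eB.toEquiv)
      (q := fun x => x.1 * x.1 = 1 ∧ x.1 ≠ 1 ∧ x.2 * x.2 = 1 ∧ (x.1 * x.2) ^ 15 = 1) fun x => ?_),
      Nat.card_eq_fintype_card, alt_five_pairs]
    show _ ↔ eB x.1 * eB x.1 = 1 ∧ eB x.1 ≠ 1 ∧ eB x.2 * eB x.2 = 1 ∧ (eB x.1 * eB x.2) ^ 15 = 1
    have h := hodd (x.1 * x.2)
    rw [Subgroup.coe_mul, map_mul] at h
    rw [← h, ← map_mul, ← map_mul]
    simp only [ne_eq, EmbeddingLike.map_eq_one_iff, Subtype.ext_iff, Subgroup.coe_mul, Subgroup.coe_one]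
  rw [S0213.result z t hz ht hzt (fun x hx => (hcl x hx).imp IsConj.symm IsConj.symm), n1, n2, hcardT, hcardC]

end Cfsg.Agent.S3313
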