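import Cfsg.Statements.S3341
import Cfsg.Agent.Lib.Recog.NineFrobenius.Main
import Cfsg.Agent.S0497
-- import your own Cfsg.Agent.* helpers here

set_option autoImplicit false
open Cfsg

namespace Cfsg.Agent.S3341

/-- Let G be a finite simple group whose Sylow 3-subgroup S is elementary abelian of order 9, such that G has more than one conjugacy class of elements of order 3 and C_G(s) = S for every non-identity s in S. Then G is isomorphic to the alternating group of degree 6. -/
theorem result {G : Type*} [Group G] [Finite G] [IsSimpleGroup G]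
    (P : Sylow 3 G) (S : Subgroup G) (hSP : S = P) (hcomm : IsMulCommutative S) (hexp : ∀ a ∈ S, a ^ 3 = 1)
    (hcard : Nat.card S = 9)
    (hclasses : ∃ a b : G, orderOf a = 3 ∧ orderOf b = 3 ∧ ∀ g : G, g * a * g⁻¹ ≠ b)
    (hcent : ∀ s ∈ S, s ≠ 1 → Subgroup.centralizer ({s} : Set G) = S) :
    Nonempty (G ≃* alternatingGroup (Fin 6)) := by
  subst hSP
  letI : Fintype G := Fintype.ofFinite G
  haveI : Fact (Nat.Prime 3) := ⟨Nat.prime_three⟩
  have hnc : ¬ IsMulCommutative G := by
    intro hG
    obtain ⟨s, hs, hs1⟩ : ∃ s ∈ (P : Subgroup G), s ≠ 1 := by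
      refine (Subgroup.bot_or_exists_ne_one _).resolve_left fun e => ?_
      rw [e, Subgroup.card_bot] at hcard
      norm_num at hcard
    have htop : (P : Subgroup G) = ⊤ := by
      rw [← hcent s hs hs1, Subgroup.eq_top_iff']
      exact fun x => Subgroup.mem_centralizer_singleton_iff.mpr (mul_comm' x s)
    have hG9 : Nat.card G = 9 := by rw [← Subgroup.card_top, ← htop, hcard]
    letI : CommGroup G := { (inferInstance : Group G) with mul_comm := mul_comm' }
    have hp : (Nat.card G).Prime := IsSimpleGroup.prime_card
    rw [hG9] at hp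
    norm_num at hp
  exact Cfsg.Agent.S0497.result (Cfsg.Agent.NineFrobenius.card_eq_360 P
    (Cfsg.Agent.NineFrobenius.hyp_of_sylow P hcard hexp hcent) hnc hclasses)

end Cfsg.Agent.S3341
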