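import Cfsg.Statements.S3716
import Cfsg.Agent.Lib.Recog.NineD8.Main
import Cfsg.Agent.Lib.Recog.NineD8.Exists

set_option autoImplicit false
open Cfsg

namespace Cfsg.Agent.S3716

/-- Let G be a finite group with an elementary abelian Sylow 3-subgroup M of order 9 which is self-centralizing (C_G(M) = M), let N = N_G(M), and suppose C_G(g) ≤ N for every nonidentity g ∈ M. If the Sylow 2-subgroups of N are dihedral of order 8, then G is not simple. -/
theorem result {G : Type*} [Group G] [Finite G] (M : Sylow 3 G) (hM9 : Nat.card ↥(M : Subgroup G) = 9)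
    (hMel : ∀ m ∈ (M : Subgroup G), m ^ 3 = 1)
    (hCM : Subgroup.centralizer ((M : Subgroup G) : Set G) = (M : Subgroup G))
    (N : Subgroup G) (hN : N = Subgroup.normalizer ((M : Subgroup G) : Set G))
    (hCg : ∀ g ∈ (M : Subgroup G), g ≠ 1 → Subgroup.centralizer ({g} : Set G) ≤ N)
    (hS : ∀ S : Sylow 2 ↥N, Nonempty (↥(S : Subgroup ↥N) ≃* DihedralGroup 4)) :
    ¬ IsSimpleGroup G := by
  haveI : Fintype G := Fintype.ofFinite G
  haveI : Fact (Nat.Prime 3) := ⟨Nat.prime_three⟩
  haveI : Fact (Nat.Prime 2) := ⟨Nat.prime_two⟩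
  subst hN
  set N := Subgroup.normalizer ((M : Subgroup G) : Set G) with hN
  haveI : Fintype N := Fintype.ofFinite N
  have hMN : (M : Subgroup G) ≤ N := Subgroup.le_normalizer
  set M' := (M : Subgroup G).subgroupOf N with hM'
  haveI : M'.Normal := Subgroup.normal_in_normalizer
  have hcard : Nat.card M' = 9 := by
    rw [Nat.card_congr (Subgroup.subgroupOfEquivOfLe hMN).toEquiv, hM9]
  have hexp : ∀ x ∈ M', x ^ 3 = 1 := fun x hx => Subtype.ext (by simpa using hMel _ hx)
  have hcomm : ∀ x ∈ M', ∀ y ∈ M', x * y = y * x := fun x hx y hy => by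
    have hy' : (y : G) ∈ Subgroup.centralizer ((M : Subgroup G) : Set G) := by
      rw [hCM]; exact hy
    exact Subtype.ext (Subgroup.mem_centralizer_iff.mp hy' (x : G) hx)
  have hC : ∀ h : N, (∀ x ∈ M', h * x = x * h) → h ∈ M' := fun h hh => by
    have : (h : G) ∈ Subgroup.centralizer ((M : Subgroup G) : Set G) :=
      Subgroup.mem_centralizer_iff.mpr fun x hx =>
        (congrArg Subtype.val (hh ⟨x, hMN hx⟩ hx)).symm
    rw [hCM] at this
    exact this
  have h3 : ¬ 3 ∣ M'.index := by
    intro h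
    have : M'.index ∣ (M : Subgroup G).index := Subgroup.relIndex_dvd_index_of_le hMN
    exact M.not_dvd_index (h.trans this)
  have S : Sylow 2 N := default
  obtain ⟨eS⟩ := hS S
  have hS8 : Nat.card (S : Subgroup N) = 8 := by
    rw [Nat.card_congr eS.toEquiv, DihedralGroup.nat_card]
  have h72 := Cfsg.Agent.NineD8.card_eq_72 M' hcard hC h3 S hS8
  obtain ⟨a, a', t, x, y, F⟩ := Cfsg.Agent.NineD8.exists_frame M' hcard hexp hC hcomm
    ((S : Subgroup N).subtype.comp eS.symm.toMonoidHom)
    ((Subgroup.subtype_injective _).comp eS.symm.injective)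
  obtain ⟨e⟩ := Cfsg.Agent.NineD8.exists_equiv F h72
  exact Cfsg.Agent.NineD8.Setup.not_simple (e := e) (T := (M : Subgroup G))
    ⟨hMN, hM9, hMel, rfl, hCg⟩

end Cfsg.Agent.S3716
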