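import Cfsg.Statements.S3805
import Cfsg.Agent.Lib.Recog.NineV4.Main
import Cfsg.Agent.Lib.Recog.NineV4.Exists

set_option autoImplicit false
open Cfsg

namespace Cfsg.Agent.S3805

/-- Let G be a finite group whose Sylow 3-subgroup T is elementary abelian of order 9 and self-centralizing, with N_G(T)/T a Klein four-group, and suppose that the centralizer of every nonidentity element of T lies in N_G(T). Then T is normal in G. -/
theorem result {G : Type*} [Group G] [Finite G]
    (T : Sylow 3 G) (hT : Cfsg.IsElementaryAbelian 3 (T : Subgroup G)) (hcard : Nat.card T = 9)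
    (hC : Subgroup.centralizer ((T : Subgroup G) : Set G) = T)
    [hn : ((T : Subgroup G).subgroupOf (Subgroup.normalizer ((T : Subgroup G) : Set G))).Normal]
    (hK : IsKleinFour (↥(Subgroup.normalizer ((T : Subgroup G) : Set G)) ⧸
      (T : Subgroup G).subgroupOf (Subgroup.normalizer ((T : Subgroup G) : Set G))))
    (hloc : ∀ t ∈ (T : Subgroup G), t ≠ 1 →
      Subgroup.centralizer ({t} : Set G) ≤ Subgroup.normalizer ((T : Subgroup G) : Set G)) :
    Subgroup.normalizer ((T : Subgroup G) : Set G) = ⊤ := by
  haveI : Fintype G := Fintype.ofFinite G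
  set H := Subgroup.normalizer ((T : Subgroup G) : Set G) with hH
  haveI : Fintype H := Fintype.ofFinite H
  have hTH : (T : Subgroup G) ≤ H := Subgroup.le_normalizer
  have hmem : ∀ x : H, x ∈ (T : Subgroup G).subgroupOf H ↔ (x : G) ∈ (T : Subgroup G) :=
    fun x => Subgroup.mem_subgroupOf
  obtain ⟨e⟩ := Cfsg.Agent.NineV4.exists_equiv ((T : Subgroup G).subgroupOf H)
    (by rw [Nat.card_congr (Subgroup.subgroupOfEquivOfLe hTH).toEquiv]; exact hcard)
    (fun x hx y hy => by
      haveI := hT.1
      have h := congrArg Subtype.val (IsMulCommutative.is_comm.comm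
        (⟨(x : G), hx⟩ : (T : Subgroup G)) ⟨(y : G), hy⟩)
      exact Subtype.ext h)
    (fun x hx => Subtype.ext (by simpa using hT.2 _ hx))
    (fun h hh => by
      rw [hmem]
      have : (h : G) ∈ Subgroup.centralizer ((T : Subgroup G) : Set G) :=
        Subgroup.mem_centralizer_iff.mpr fun x hx =>
          (congrArg Subtype.val (hh ⟨x, hTH hx⟩ hx)).symm
      rw [hC] at this
      exact this)
    hK
  exact Cfsg.Agent.NineV4.Setup.eq_top (T := (T : Subgroup G)) (e := e) ⟨hTH, hcard, rfl, hloc⟩

end Cfsg.Agent.S3805
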