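import Cfsg.Statements.S3333
import Cfsg.Agent.S3341
import Cfsg.Agent.S3716
import Cfsg.Agent.S3805
import Cfsg.Agent.Lib.Basics.FpfAbelian
import Cfsg.Agent.Lib.FGS.AutAlt

set_option autoImplicit false
open Cfsg

namespace Cfsg.Agent.S3333

open Subgroup

/-! The local data: a self-centralizing `3^2` with dihedral automizer. -/

theorem eq_or_inv {G : Type*} [Group G] {u v : G} (hu : orderOf u = 3) (hv : v ∈ zpowers u)
    (hv1 : v ≠ 1) : v = u ∨ v = u⁻¹ := by
  obtain ⟨k, rfl⟩ := mem_zpowers_iff.mp hv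
  rw [← zpow_mod_orderOf, hu] at hv1 ⊢
  have h0 := Int.emod_nonneg k (by norm_num : ((3 : ℕ) : ℤ) ≠ 0)
  have h3 := Int.emod_lt_of_pos k (by norm_num : (0 : ℤ) < ((3 : ℕ) : ℤ))
  have : k % ((3 : ℕ) : ℤ) = 0 ∨ k % ((3 : ℕ) : ℤ) = 1 ∨ k % ((3 : ℕ) : ℤ) = 2 := by omega
  rcases this with e | e | e <;> rw [e] at hv1 ⊢
  · simp at hv1
  · left; simp
  · right
    have h := hu ▸ pow_orderOf_eq_one u
    rw [zpow_two]
    exact eq_inv_of_mul_eq_one_left (by rw [← h]; simp [pow_succ, mul_assoc])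

theorem d8_noncomm : ∃ p q : DihedralGroup 4, p * q ≠ q * p := by decide +kernel
theorem d8_rot : ∃ r : DihedralGroup 4, r * r ≠ 1 := by decide +kernel
theorem d8_sq : ∀ r : DihedralGroup 4, r * r * (r * r) = 1 := by decide +kernel
theorem d8_centre : ∀ q : DihedralGroup 4, (∀ p, p * q = q * p) → ∃ r, r * r = q := by decide +kernel
theorem d8_rot_comm : ∀ r q : DihedralGroup 4, r * r ≠ 1 → r * q = q * r → q * q = 1 →
    ∃ r', r' * r' = q := by decide +kernel
theorem d8_refl : ∀ r f : DihedralGroup 4, r * r ≠ 1 →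
    (f = 1 ∨ f = r ∨ f = r * r ∨ f = r * r * r) ∨ (f * f = 1 ∧ r * f ≠ f * r) := by decide +kernel

section

variable {G : Type*} [Group G]

/-- The hypotheses, with the quotient map. -/
structure Ctx (P : Sylow 3 G) where
  card : Nat.card (P : Subgroup G) = 9
  cent : centralizer ((P : Subgroup G) : Set G) = (P : Subgroup G)
  π : normalizer ((P : Subgroup G) : Set G) →* DihedralGroup 4
  surj : Function.Surjective π
  ker : ∀ n, π n = 1 ↔ (n : G) ∈ (P : Subgroup G)
  loc : ∀ x ∈ (P : Subgroup G), x ≠ 1 →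
    centralizer ({x} : Set G) ≤ normalizer ((P : Subgroup G) : Set G)

variable {P : Sylow 3 G}



namespace Ctx

theorem comm (c : Ctx P) {x y : G} (hx : x ∈ (P : Subgroup G)) (hy : y ∈ (P : Subgroup G)) :
    Commute x y := by
  rw [← c.cent] at hx
  exact (mem_centralizer_iff.mp hx y hy).symm

theorem conj_mem {n : G} (hn : n ∈ normalizer ((P : Subgroup G) : Set G)) {x : G}
    (hx : x ∈ (P : Subgroup G)) : n * x * n⁻¹ ∈ (P : Subgroup G) :=
  (mem_normalizer_iff.mp hn x).mp hx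

theorem mem_of_central (c : Ctx P) {n : G}
    (h : ∀ x ∈ (P : Subgroup G), n * x * n⁻¹ = x) : n ∈ (P : Subgroup G) := by
  rw [← c.cent]
  exact mem_centralizer_iff.mpr fun x hx => (mul_inv_eq_iff_eq_mul.mp (h x hx)).symm

variable [Finite G]

theorem exp (c : Ctx P) : ∀ x ∈ (P : Subgroup G), x ^ 3 = 1 := by
  haveI : Fact (Nat.Prime 3) := ⟨Nat.prime_three⟩
  intro g hg
  by_contra h3
  have hd : orderOf g ∣ 3 ^ 2 := by
    rw [show (3 : ℕ) ^ 2 = 9 from rfl, ← c.card]; exact orderOf_dvd_natCard _ hg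
  obtain ⟨k, hk, hgk⟩ := (Nat.dvd_prime_pow Nat.prime_three).mp hd
  have hk2 : k = 2 := by
    by_contra
    refine h3 (orderOf_dvd_iff_pow_eq_one.mp ?_)
    rw [hgk]
    interval_cases k <;> simp_all
  have hS : zpowers g = (P : Subgroup G) :=
    eq_of_le_of_card_ge (zpowers_le.mpr hg) (by rw [Nat.card_zpowers, hgk, hk2, c.card]; rfl)
  obtain ⟨p, q, hpq⟩ := d8_noncomm
  obtain ⟨a, rfl⟩ := c.surj p
  obtain ⟨b, rfl⟩ := c.surj q
  obtain ⟨i, hi⟩ := mem_zpowers_iff.mp (hS.ge (conj_mem a.2 hg))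
  obtain ⟨j, hj⟩ := mem_zpowers_iff.mp (hS.ge (conj_mem b.2 hg))
  refine hpq ?_
  have key : c.π (a * b * (b * a)⁻¹) = 1 := by
    refine (c.ker _).mpr (c.mem_of_central fun x hx => ?_)
    obtain ⟨m, rfl⟩ := mem_zpowers_iff.mp (hS.ge hx)
    have e1 : ((a : G) * b) * g * ((a : G) * b)⁻¹ = g ^ (i * j) := by
      calc ((a : G) * b) * g * ((a : G) * b)⁻¹ = a * ((b : G) * g * (b : G)⁻¹) * (a : G)⁻¹ := by
            group
        _ = ((a : G) * g * (a : G)⁻¹) ^ j := by rw [← hj, conj_zpow]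
        _ = g ^ (i * j) := by rw [← hi, zpow_mul]
    have e2 : ((b : G) * a) * g * ((b : G) * a)⁻¹ = g ^ (i * j) := by
      calc ((b : G) * a) * g * ((b : G) * a)⁻¹ = b * ((a : G) * g * (a : G)⁻¹) * (b : G)⁻¹ := by
            group
        _ = ((b : G) * g * (b : G)⁻¹) ^ i := by rw [← hi, conj_zpow]
        _ = g ^ (i * j) := by rw [← hj, mul_comm, zpow_mul]
    have e3 : ((a * b * (b * a)⁻¹ : normalizer ((P : Subgroup G) : Set G)) : G) * g *
        ((a * b * (b * a)⁻¹ : normalizer ((P : Subgroup G) : Set G)) : G)⁻¹ = g := by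
      push_cast
      calc _ = ((a : G) * b) * (((b : G) * a)⁻¹ * g * ((b : G) * a)) * ((a : G) * b)⁻¹ := by group
        _ = g := by
          have hc : Commute g ((b : G) * a * g * ((b : G) * a)⁻¹) := by
            rw [e2]; exact Commute.self_zpow g _
          have h' : ((b : G) * a)⁻¹ * g * ((b : G) * a) ∈ (P : Subgroup G) :=
            (mem_normalizer_iff''.mp (mul_mem b.2 a.2) g).mp hg
          obtain ⟨t, ht⟩ := mem_zpowers_iff.mp (hS.ge h')
          rw [← ht, ← conj_zpow, e1, ← e2, conj_zpow, ht]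
          group
    rw [← conj_zpow, e3]
  rw [map_mul, map_inv, mul_inv_eq_one, map_mul, map_mul] at key
  exact key

theorem orderOf_eq (c : Ctx P) {x : G} (hx : x ∈ (P : Subgroup G)) (hx1 : x ≠ 1) : orderOf x = 3 :=
  haveI : Fact (Nat.Prime 3) := ⟨Nat.prime_three⟩
  orderOf_eq_prime (c.exp x hx) hx1

theorem inS (_c : Ctx P) {n : G} (hn : n ∈ normalizer ((P : Subgroup G) : Set G)) (h : n ^ 3 = 1) :
    n ∈ (P : Subgroup G) :=
  haveI : Fact (Nat.Prime 3) := ⟨Nat.prime_three⟩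
  SylowFive.sylow_le_of_mem_normalizer P hn 1 (by rw [pow_one]; exact h)

theorem card_cases (c : Ctx P) {T : Subgroup G} (hT : T ≤ (P : Subgroup G)) :
    T = ⊥ ∨ Nat.card T = 3 ∨ T = (P : Subgroup G) := by
  obtain ⟨k, hk, e⟩ := (Nat.dvd_prime_pow Nat.prime_three).mp
    (show Nat.card T ∣ 3 ^ 2 by
      rw [show (3 : ℕ) ^ 2 = 9 from rfl, ← c.card]; exact card_dvd_of_le hT)
  interval_cases k
  · exact Or.inl (card_eq_one.mp (by simpa using e))
  · exact Or.inr (Or.inl (by simpa using e))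
  · exact Or.inr (Or.inr (eq_of_le_of_card_ge hT (by rw [e, c.card]; rfl)))

/-- The square of an element of order four modulo `S` fixes only the identity. -/
theorem sq_fix (c : Ctx P) {a : G} (ha : a ∈ normalizer ((P : Subgroup G) : Set G))
    (ha2 : a * a ∉ (P : Subgroup G)) (ha4 : a * a * (a * a) ∈ (P : Subgroup G))
    {s : G} (hs : s ∈ (P : Subgroup G)) (hfix : Commute (a * a) s) : s = 1 := by
  by_contra hs1
  obtain ⟨v, hv, hv'⟩ : ∃ v ∈ (P : Subgroup G), a * a * v * (a * a)⁻¹ ≠ v := by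
    by_contra h
    push Not at h
    exact ha2 (c.mem_of_central h)
  set z := a * a with hz
  have hzN : z ∈ normalizer ((P : Subgroup G) : Set G) := mul_mem ha ha
  set u := v⁻¹ * (z * v * z⁻¹) with hu
  have huS : u ∈ (P : Subgroup G) := mul_mem (inv_mem hv) (conj_mem hzN hv)
  have hu1 : u ≠ 1 := fun e => hv' (inv_mul_eq_one.mp e).symm
  have hz2 : ∀ x ∈ (P : Subgroup G), z * (z * x * z⁻¹) * z⁻¹ = x := fun x hx => by
    calc z * (z * x * z⁻¹) * z⁻¹ = (z * z) * x * (z * z)⁻¹ := by group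
      _ = x := by rw [(c.comm ha4 hx).eq]; group
  let I : Subgroup G :=
    { carrier := {w | w ∈ (P : Subgroup G) ∧ z * w * z⁻¹ = w⁻¹}
      one_mem' := ⟨one_mem _, by simp⟩
      mul_mem' := fun {x y} hx hy => ⟨mul_mem hx.1 hy.1, by
        rw [← conj_mul, hx.2, hy.2, mul_inv_rev]
        exact (c.comm (inv_mem hx.1) (inv_mem hy.1)).eq⟩
      inv_mem' := fun {x} hx => ⟨inv_mem hx.1, by rw [← conj_inv, hx.2]⟩ }
  have huI : u ∈ I := ⟨huS, by
    show z * u * z⁻¹ = u⁻¹
    rw [hu, ← conj_mul, hz2 v hv]; group⟩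
  have huI' : a * u * a⁻¹ ∈ I := ⟨conj_mem ha huS, by
    show z * (a * u * a⁻¹) * z⁻¹ = (a * u * a⁻¹)⁻¹
    rw [conj_inv, ← huI.2, hz]; group⟩
  have hsI : s ∉ I := fun h => hs1 (by
    have h2 : s = s⁻¹ := by rw [← h.2, hfix.eq, mul_inv_cancel_right]
    have h3 := c.exp s hs
    rw [pow_succ, pow_two, mul_eq_one_iff_eq_inv.mpr h2, one_mul] at h3
    exact h3)
  have hI : Nat.card I = 3 := by
    rcases c.card_cases (T := I) (fun w hw => hw.1) with h | h | h
    · exact absurd (h ▸ huI : u ∈ (⊥ : Subgroup G)) (by simpa using hu1)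
    · exact h
    · exact absurd (h.symm ▸ hs : s ∈ I) hsI
  have hIu : zpowers u = I := eq_of_le_of_card_ge (zpowers_le.mpr huI)
    (by rw [hI, Nat.card_zpowers, c.orderOf_eq huS hu1])
  have hzu : z * u * z⁻¹ = u := by
    rcases eq_or_inv (c.orderOf_eq huS hu1) (hIu.ge huI')
      (fun e => hu1 (conj_eq_one_iff.mp e)) with e | e
    · calc z * u * z⁻¹ = a * (a * u * a⁻¹) * a⁻¹ := by rw [hz]; group
        _ = u := by rw [e, e]
    · calc z * u * z⁻¹ = a * (a * u * a⁻¹) * a⁻¹ := by rw [hz]; group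
        _ = u := by rw [e, ← conj_inv, e, inv_inv]
  have h2 : u = u⁻¹ := hzu.symm.trans huI.2
  have h3 := c.exp u huS
  rw [pow_succ, pow_two, mul_eq_one_iff_eq_inv.mpr h2, one_mul] at h3
  exact hu1 h3

/-- An element with square image fixes only the identity. -/
theorem square_fix (c : Ctx P) (n : normalizer ((P : Subgroup G) : Set G)) {r : DihedralGroup 4}
    (hr : r * r = c.π n) {s : G} (hs : s ∈ (P : Subgroup G)) (hs1 : s ≠ 1)
    (hfix : Commute (n : G) s) : c.π n = 1 := by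
  obtain ⟨a, rfl⟩ := c.surj r
  by_contra hne
  refine hs1 (c.sq_fix a.2 (fun h => hne ?_) ?_ hs ?_)
  · rw [← hr, ← map_mul]
    exact (c.ker _).mpr h
  · have := (c.ker (a * a * (a * a))).mp (by rw [map_mul, map_mul]; exact d8_sq _)
    simpa using this
  · have hk : ((n⁻¹ * (a * a) : normalizer ((P : Subgroup G) : Set G)) : G) ∈ (P : Subgroup G) :=
      (c.ker _).mp (by rw [map_mul, map_inv, map_mul, hr, inv_mul_cancel])
    have := hfix.mul_left (c.comm hk hs)
    simpa [mul_assoc] using this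

theorem fix_sq_one (c : Ctx P) (n : normalizer ((P : Subgroup G) : Set G)) {s : G}
    (hs : s ∈ (P : Subgroup G)) (hs1 : s ≠ 1) (hfix : Commute (n : G) s) :
    c.π n * c.π n = 1 := by
  rw [← map_mul]
  refine c.square_fix (n * n) (map_mul c.π n n).symm hs hs1 ?_
  simpa using hfix.mul_left hfix

theorem no_line (c : Ctx P) {T : Subgroup G} (hT : T ≤ (P : Subgroup G))
    (hinv : ∀ n ∈ normalizer ((P : Subgroup G) : Set G), ∀ t ∈ T, n * t * n⁻¹ ∈ T)
    (h3 : Nat.card T = 3) : False := by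
  obtain ⟨t, ht, ht1⟩ : ∃ t ∈ T, t ≠ 1 := by
    by_contra h
    push Not at h
    rw [(eq_bot_iff_forall T).mpr h, Subgroup.card_bot] at h3
    omega
  have hTt : zpowers t = T := eq_of_le_of_card_ge (zpowers_le.mpr ht)
    (by rw [h3, Nat.card_zpowers, c.orderOf_eq (hT ht) ht1])
  obtain ⟨r, hr⟩ := d8_rot
  obtain ⟨a, rfl⟩ := c.surj r
  refine hr ((map_mul c.π a a).symm.trans
    (c.square_fix (a * a) (map_mul c.π a a).symm (hT ht) ht1 ?_))
  have key : (a : G) * ((a : G) * t * (a : G)⁻¹) * (a : G)⁻¹ = t := by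
    rcases eq_or_inv (c.orderOf_eq (hT ht) ht1) (hTt.ge (hinv _ a.2 t ht))
      (fun e => ht1 (conj_eq_one_iff.mp e)) with e | e
    · rw [e, e]
    · rw [e, ← conj_inv, e, inv_inv]
  show ((a * a : normalizer ((P : Subgroup G) : Set G)) : G) * t =
    t * ((a * a : normalizer ((P : Subgroup G) : Set G)) : G)
  conv_rhs => rw [← key]
  push_cast
  group

/-- A nontrivial subgroup normalized by `S` meets `S`. -/
theorem meets (c : Ctx P) {L : Subgroup G} (hL : L ≠ ⊥)
    (hSL : (P : Subgroup G) ≤ normalizer (L : Set G)) : L ⊓ (P : Subgroup G) ≠ ⊥ := by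
  intro hbot
  haveI : IsMulCommutative (P : Subgroup G) :=
    ⟨⟨fun x y => Subtype.ext (c.comm x.2 y.2)⟩⟩
  have hcyc : IsCyclic (P : Subgroup G) := by
    refine Basics.fpf_abelian_isCyclic (P : Subgroup G) L hL hSL fun a ha ha1 => ?_
    refine (eq_bot_iff_forall _).mpr fun n hn => ?_
    obtain ⟨hnL, hnC⟩ := mem_inf.mp hn
    have hnN := c.loc a ha ha1 hnC
    have hnS : n ∈ (P : Subgroup G) := c.mem_of_central fun s hs => by
      have h1 : n * s * n⁻¹ * s⁻¹ ∈ L ⊓ (P : Subgroup G) := by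
        refine mem_inf.mpr ⟨?_, mul_mem (conj_mem hnN hs) (inv_mem hs)⟩
        rw [show n * s * n⁻¹ * s⁻¹ = n * (s * n⁻¹ * s⁻¹) by group]
        exact mul_mem hnL ((mem_normalizer_iff.mp (hSL hs) n⁻¹).mp (inv_mem hnL))
      rw [hbot, Subgroup.mem_bot] at h1
      exact mul_inv_eq_one.mp h1
    simpa [hbot] using mem_inf.mpr ⟨hnL, hnS⟩
  obtain ⟨⟨g, hg⟩, hgen⟩ := hcyc.exists_generator
  have h9 := orderOf_eq_card_of_forall_mem_zpowers hgen
  rw [c.card] at h9
  have h3 : orderOf (⟨g, hg⟩ : (P : Subgroup G)) ∣ 3 :=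
    orderOf_dvd_of_pow_eq_one (Subtype.ext (by simpa using c.exp g hg))
  rw [h9] at h3
  omega

theorem le_of_normal (c : Ctx P) {L : Subgroup G} (hn : L.Normal) (hL : L ≠ ⊥) :
    (P : Subgroup G) ≤ L := by
  rcases c.card_cases (T := L ⊓ (P : Subgroup G)) inf_le_right with h | h | h
  · refine absurd h (c.meets hL ?_)
    rw [normalizer_eq_top_iff.mpr hn]
    exact le_top
  · exact (c.no_line inf_le_right (fun n hn' t ht =>
      mem_inf.mpr ⟨hn.conj_mem t (mem_inf.mp ht).1 n, conj_mem hn' (mem_inf.mp ht).2⟩) h).elim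
  · exact h ▸ inf_le_left

theorem frattini (M : Subgroup G) [M.Normal] (h : (P : Subgroup G) ≤ M) :
    normalizer ((P : Subgroup G) : Set G) ⊔ M = ⊤ := by
  haveI : Fact (Nat.Prime 3) := ⟨Nat.prime_three⟩
  have := Sylow.normalizer_sup_eq_top (P.subtype h)
  rwa [Sylow.coe_subtype, subgroupOf_map_subtype, inf_eq_left.mpr h] at this

theorem not_le_normalizer (M : Subgroup G) [M.Normal] (h : (P : Subgroup G) ≤ M)
    (hnn : ¬ (P : Subgroup G).Normal) : ¬ M ≤ normalizer ((P : Subgroup G) : Set G) := by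
  intro hle
  refine hnn (normalizer_eq_top_iff.mp ?_)
  rw [← frattini M h, sup_eq_left.mpr hle]

theorem simple (c : Ctx P) (hnn : ¬ (P : Subgroup G).Normal) (M : Subgroup G) [M.Normal]
    (hSM : (P : Subgroup G) ≤ M)
    (hmin : ∀ K : Subgroup G, K.Normal → K ≠ ⊥ → K ≤ M → K = M) : IsSimpleGroup M := by
  let Q : Subgroup G → Prop := fun L => L ≠ ⊥ ∧ L ≤ M ∧ ∀ m ∈ M, ∀ x ∈ L, m * x * m⁻¹ ∈ L
  have hnorm : ∀ {L}, Q L → M ≤ normalizer (L : Set G) := fun {L} hL m hm =>
    mem_normalizer_iff.mpr fun x => ⟨hL.2.2 m hm x, fun hx => by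
      have := hL.2.2 _ (inv_mem hm) _ hx
      rwa [show m⁻¹ * (m * x * m⁻¹) * m⁻¹⁻¹ = x by group] at this⟩
  have key : ∀ L, Q L → L = M := by
    intro L hL
    obtain ⟨L₀, hle, hL₀, hmin₀⟩ := Finite.exists_le_minimal (p := Q) hL
    have hmin₁ : ∀ K, Q K → K ≤ L₀ → K = L₀ := fun K hK hKL => le_antisymm hKL (hmin₀ hK hKL)
    suffices h : L₀ = M from le_antisymm hL.2.1 (h ▸ hle)
    by_cases hall : L₀.Normal
    · exact hmin L₀ hall hL₀.1 hL₀.2.1
    exfalso
    obtain ⟨x₀, hx₀, g, hg⟩ : ∃ x ∈ L₀, ∃ g : G, g * x * g⁻¹ ∉ L₀ := by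
      by_contra h
      push Not at h
      exact hall ⟨fun x hx g => h x hx g⟩
    set L' := L₀.map (MulAut.conj g).toMonoidHom with hL'
    have hmem' : ∀ {y}, y ∈ L' ↔ ∃ x ∈ L₀, g * x * g⁻¹ = y := fun {y} => Iff.rfl
    have hM : M.Normal := inferInstance
    have hQ' : Q L' := by
      refine ⟨?_, fun y hy => ?_, fun m hm y hy => ?_⟩
      · rw [hL', Ne, map_eq_bot_iff_of_injective _ (MulAut.conj g).injective]
        exact hL₀.1
      · obtain ⟨x, hx, rfl⟩ := hmem'.mp hy
        exact hM.conj_mem x (hL₀.2.1 hx) g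
      · obtain ⟨x, hx, rfl⟩ := hmem'.mp hy
        refine hmem'.mpr ⟨_, hL₀.2.2 _ (hM.conj_mem m hm g⁻¹) x hx, ?_⟩
        group
    have hcard : Nat.card L' = Nat.card L₀ := card_map_of_injective (MulAut.conj g).injective
    have hdis : L₀ ⊓ L' = ⊥ := by
      by_contra hne
      have e := hmin₁ (L₀ ⊓ L') ⟨hne, inf_le_left.trans hL₀.2.1, fun m hm x hx =>
        mem_inf.mpr ⟨hL₀.2.2 m hm x (mem_inf.mp hx).1, hQ'.2.2 m hm x (mem_inf.mp hx).2⟩⟩ inf_le_left
      have e' : L₀ = L' := eq_of_le_of_card_ge (inf_eq_left.mp e) hcard.le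
      exact hg (e'.ge (hmem'.mpr ⟨x₀, hx₀, rfl⟩))
    have hcomm : ∀ x ∈ L₀, ∀ y ∈ L', Commute x y := fun x hx y hy => by
      have h1 : x * y * x⁻¹ * y⁻¹ ∈ L₀ ⊓ L' := by
        refine mem_inf.mpr ⟨?_, mul_mem (hQ'.2.2 x (hL₀.2.1 hx) y hy) (inv_mem hy)⟩
        rw [show x * y * x⁻¹ * y⁻¹ = x * (y * x⁻¹ * y⁻¹) by group]
        exact mul_mem hx (hL₀.2.2 y (hQ'.2.1 hy) x⁻¹ (inv_mem hx))
      rw [hdis, Subgroup.mem_bot] at h1
      exact mul_inv_eq_iff_eq_mul.mp (mul_inv_eq_one.mp h1)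
    have hN : ∀ {X Y : Subgroup G}, Q Y → (∀ x ∈ X, ∀ y ∈ Y, Commute x y) →
        X ≤ normalizer ((P : Subgroup G) : Set G) := by
      intro X Y hY hc x hx
      obtain ⟨y, hy, hy1⟩ : ∃ y ∈ Y ⊓ (P : Subgroup G), y ≠ 1 := by
        by_contra h
        push Not at h
        exact c.meets hY.1 (hSM.trans (hnorm hY)) ((eq_bot_iff_forall _).mpr h)
      exact c.loc y (mem_inf.mp hy).2 hy1
        (mem_centralizer_singleton_iff.mpr (hc x hx y (mem_inf.mp hy).1).eq)
    have hN₀ := hN hQ' hcomm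
    have hN' := hN hL₀ fun y hy x hx => (hcomm x hx y hy).symm
    have hLS : L₀ ≤ (P : Subgroup G) := by
      have e := hmin₁ (L₀ ⊓ (P : Subgroup G)) ⟨c.meets hL₀.1 (hSM.trans (hnorm hL₀)),
        inf_le_left.trans hL₀.2.1, fun m hm x hx => by
          have hxm := hL₀.2.2 m hm x (mem_inf.mp hx).1
          exact mem_inf.mpr ⟨hxm, c.inS (hN₀ hxm)
            (by rw [conj_pow, c.exp x (mem_inf.mp hx).2, mul_one, mul_inv_cancel])⟩⟩ inf_le_left
      exact inf_eq_left.mp e
    have hLS' : L' ≤ (P : Subgroup G) := fun y hy => by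
      obtain ⟨x, hx, rfl⟩ := hmem'.mp hy
      exact c.inS (hN' hy) (by rw [conj_pow, c.exp x (hLS hx), mul_one, mul_inv_cancel])
    have hne : L' ≠ ⊥ := hQ'.1
    have hsup : L₀ ⊔ L' = (P : Subgroup G) := by
      rcases c.card_cases (sup_le hLS hLS') with h | h | h
      · exact absurd (le_bot_iff.mp (h ▸ le_sup_right)) hne
      · rcases c.card_cases hLS with h₀ | h₀ | h₀
        · exact absurd h₀ hL₀.1
        · have e : L₀ = L₀ ⊔ L' := eq_of_le_of_card_ge le_sup_left (by omega)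
          exact absurd (le_bot_iff.mp (hdis ▸ le_inf (e ▸ le_sup_right) le_rfl)) hne
        · exact absurd (le_bot_iff.mp (hdis ▸ le_inf (h₀ ▸ hLS') le_rfl)) hne
      · exact h
    refine not_le_normalizer M hSM hnn ?_
    rw [← hsup]
    exact (le_inf (hnorm hL₀) (hnorm hQ')).trans (normalizer_inf_normalizer_le_normalizer_sup _ _)
  haveI : Nontrivial M := by
    rw [nontrivial_iff_ne_bot]
    intro e
    have := c.card
    rw [show (P : Subgroup G) = ⊥ from le_bot_iff.mp (e ▸ hSM), Subgroup.card_bot] at this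
    omega
  refine ⟨fun H hH => ?_⟩
  by_cases hb : H = ⊥
  · exact Or.inl hb
  have hQ : Q (H.map M.subtype) := by
    refine ⟨?_, map_subtype_le H, ?_⟩
    · rwa [Ne, map_eq_bot_iff_of_injective _ M.subtype_injective]
    · intro m hm x hx
      obtain ⟨y, hy, rfl⟩ := hx
      exact ⟨⟨m, hm⟩ * y * ⟨m, hm⟩⁻¹, hH.conj_mem y hy _, rfl⟩
  refine Or.inr (map_injective M.subtype_injective ?_)
  rw [key _ hQ, ← MonoidHom.range_eq_map, range_subtype]

end Ctx

end

section Alt

open Equiv Equiv.Perm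
open Cfsg.Agent.FGS

abbrev A6 := ↥(alternatingGroup (Fin 6))

def d₀ : Perm (Fin 6) := swap 0 1 * swap 1 2 * (swap 3 4 * swap 4 5)
def w₀ : Perm (Fin 6) := swap 0 3 * swap 1 4 * swap 2 5

theorem d₀_type : d₀.cycleType = Multiset.replicate 2 3 := by decide +kernel
theorem w₀_odd : Perm.sign w₀ = -1 ∧ w₀ * d₀ * w₀⁻¹ = d₀ := by decide +kernel
theorem trivial_cent : ∀ g : Perm (Fin 6), g * (swap 0 1 * swap 1 2) = swap 0 1 * swap 1 2 * g →
    g * (swap 1 2 * swap 2 3 * swap 3 4 * swap 4 5) = swap 1 2 * swap 2 3 * swap 3 4 * swap 4 5 * g →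
    g = 1 := by decide +kernel

theorem conjNormal_injective :
    Function.Injective (MulAut.conjNormal : Perm (Fin 6) →* MulAut A6) := by
  rw [injective_iff_map_eq_one]
  intro g hg
  have key : ∀ x : Perm (Fin 6), x ∈ alternatingGroup (Fin 6) → g * x = x * g := fun x hx => by
    have h1 : ((MulAut.conjNormal g : MulAut A6) ⟨x, hx⟩ : Perm (Fin 6)) = x := by rw [hg]; rfl
    rw [MulAut.conjNormal_apply] at h1
    exact mul_inv_eq_iff_eq_mul.mp h1
  exact trivial_cent g (key _ (mem_alternatingGroup.mpr (by decide)))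
    (key _ (mem_alternatingGroup.mpr (by decide)))

theorem double_conj {y : A6} (ho : orderOf y = 3) (h : ¬ (y : Perm (Fin 6)).IsThreeCycle) :
    IsConj (⟨d₀, mem_alternatingGroup.mpr (by decide)⟩ : A6) y := by
  rw [← Subgroup.orderOf_coe] at ho
  obtain ⟨n, hn⟩ := cycleType_prime_order (σ := (y : Perm (Fin 6))) (by rw [ho]; exact Nat.prime_three)
  rw [ho] at hn
  have hle : 3 * (n + 1) ≤ 6 := by
    have := (y : Perm (Fin 6)).support.card_le_univ
    rw [← sum_cycleType, hn, Multiset.sum_replicate, Fintype.card_fin, smul_eq_mul] at this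
    omega
  have hn1 : n = 1 := by
    rcases Nat.eq_zero_or_pos n with rfl | h'
    · exact absurd hn h
    · omega
  rw [hn1] at hn
  obtain ⟨g, hg⟩ := isConj_iff.mp (isConj_iff_cycleType_eq.mpr (d₀_type.trans hn.symm))
  rcases Int.units_eq_one_or (Perm.sign g) with hs | hs
  · exact isConj_iff.mpr ⟨⟨g, mem_alternatingGroup.mpr hs⟩, Subtype.ext hg⟩
  · refine isConj_iff.mpr ⟨⟨g * w₀, mem_alternatingGroup.mpr (by rw [map_mul, hs, w₀_odd.1]; decide)⟩,
      Subtype.ext ?_⟩
    show g * w₀ * d₀ * (g * w₀)⁻¹ = y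
    calc g * w₀ * d₀ * (g * w₀)⁻¹ = g * (w₀ * d₀ * w₀⁻¹) * g⁻¹ := by group
      _ = y := by rw [w₀_odd.2]; exact hg

theorem three_of_conj {a b : A6} (h : IsConj a b) (ha : (a : Perm (Fin 6)).IsThreeCycle) :
    (b : Perm (Fin 6)).IsThreeCycle := by
  obtain ⟨g, rfl⟩ := isConj_iff.mp h
  show (g.1 * a.1 * g.1⁻¹).cycleType = {3}
  rw [cycleType_conj]
  exact ha

theorem aut_inner (σ : MulAut A6) {c : A6} (hc : orderOf c = 3) (hσ : σ c = c) :
    σ ∈ (MulAut.conjNormal : Perm (Fin 6) →* MulAut A6).range := by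
  obtain ⟨g, hg⟩ := AutAlt.of_preserves (by norm_num) σ fun y hy => by
    by_cases h3 : (c : Perm (Fin 6)).IsThreeCycle
    · have h := σ.toMonoidHom.map_isConj
        (alternatingGroup.isThreeCycle_isConj (by rw [Nat.card_fin]; norm_num) h3 hy)
      simp only [MulEquiv.toMonoidHom_eq_coe, MonoidHom.coe_coe, hσ] at h
      exact three_of_conj h h3
    · by_contra hy'
      have hyo : orderOf (σ y) = 3 := by rw [MulEquiv.orderOf_eq, ← Subgroup.orderOf_coe]; exact hy.orderOf
      have h1 : IsConj c (σ y) := (double_conj hc h3).symm.trans (double_conj hyo hy')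
      have h2 := σ.symm.toMonoidHom.map_isConj h1
      simp only [MulEquiv.toMonoidHom_eq_coe, MonoidHom.coe_coe, MulEquiv.symm_apply_apply] at h2
      rw [show σ.symm c = c by rw [MulEquiv.symm_apply_eq, hσ]] at h2
      exact h3 (three_of_conj h2.symm hy)
  exact ⟨g, hg⟩

end Alt

section Main

variable {G : Type*} [Group G] [Finite G] {P : Sylow 3 G}

/-- The map from `N_M(S)` to the dihedral group, with the facts needed about it. -/
theorem Ctx.socle_alt (c : Ctx P) (hnn : ¬ (P : Subgroup G).Normal) (M : Subgroup G) [M.Normal]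
    (hSM : (P : Subgroup G) ≤ M) (hM : IsSimpleGroup M) :
    Nonempty (M ≃* A6) ∧ ∃ Qd : Subgroup (DihedralGroup 4), Nat.card Qd = 4 ∧
      (∃ r ∈ Qd, r * r ≠ 1) ∧
      (∀ n : normalizer ((P : Subgroup G) : Set G), (n : G) ∈ M ↔ c.π n ∈ Qd) ∧
      M.index = 2 := by
  haveI : Fact (Nat.Prime 3) := ⟨Nat.prime_three⟩
  haveI : Fact (Nat.Prime 2) := ⟨Nat.prime_two⟩
  haveI : Fintype M := Fintype.ofFinite M
  haveI := hM
  set N := normalizer ((P : Subgroup G) : Set G) with hNdef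
  set Q := P.subtype hSM with hQdef
  have hQmem : ∀ x : M, x ∈ (Q : Subgroup M) ↔ (x : G) ∈ (P : Subgroup G) := fun x => by
    rw [hQdef, Sylow.coe_subtype, mem_subgroupOf]
  have hQcard : Nat.card (Q : Subgroup M) = 9 := by
    rw [hQdef, Sylow.coe_subtype, Nat.card_congr (subgroupOfEquivOfLe hSM).toEquiv, c.card]
  set NM := normalizer ((Q : Subgroup M) : Set M) with hNMdef
  have hNM : ∀ x : M, x ∈ NM ↔ (x : G) ∈ N := fun x => by
    rw [hNMdef, hNdef, mem_normalizer_iff, mem_normalizer_iff]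
    refine ⟨fun h y => ?_, fun h y => ?_⟩
    · by_cases hy : y ∈ M
      · simpa [hQmem] using h ⟨y, hy⟩
      · refine ⟨fun h' => absurd (hSM h') hy, fun h' => absurd ?_ hy⟩
        have := mul_mem (mul_mem (inv_mem x.2) (hSM h')) x.2
        simpa [mul_assoc] using this
    · simpa [hQmem] using h (y : G)
  let ι : NM →* N :=
    { toFun := fun x => ⟨((x : M) : G), (hNM _).mp x.2⟩
      map_one' := rfl
      map_mul' := fun _ _ => rfl }
  let ψ : NM →* DihedralGroup 4 := c.π.comp ι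
  set Qd := ψ.range with hQddef
  have hker : ∀ x : NM, ψ x = 1 ↔ (x : M) ∈ (Q : Subgroup M) := fun x =>
    (c.ker (ι x)).trans (hQmem _).symm
  have hmemQd : ∀ n : N, (n : G) ∈ M ↔ c.π n ∈ Qd := fun n => by
    refine ⟨fun h => ⟨⟨⟨n, h⟩, (hNM _).mpr n.2⟩, rfl⟩, fun ⟨x, hx⟩ => ?_⟩
    have := hSM ((c.ker ((ι x)⁻¹ * n)).mp (by rw [map_mul, map_inv]; simp [← hx, ψ]))
    have h2 := mul_mem (x : M).2 this
    simpa [ι] using h2
  have hQdn : ∀ p q : DihedralGroup 4, q ∈ Qd → p * q * p⁻¹ ∈ Qd := by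
    intro p q hq
    obtain ⟨a, rfl⟩ := c.surj p
    obtain ⟨b, rfl⟩ := c.surj q
    rw [← map_inv, ← map_mul, ← map_mul]
    exact (hmemQd _).mp ((inferInstance : M.Normal).conj_mem _ ((hmemQd b).mpr hq) a)
  have hNMcard : Nat.card NM = 9 * Nat.card Qd := by
    rw [← ψ.ker.card_mul_index, Subgroup.index_ker]
    congr 1
    rw [← hQcard]
    refine (Nat.card_congr (Equiv.subtypeEquivRight fun x : NM => ?_)).trans
      (Nat.card_congr (subgroupOfEquivOfLe (le_normalizer : (Q : Subgroup M) ≤ NM)).toEquiv)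
    exact (MonoidHom.mem_ker.trans (hker x)).trans mem_subgroupOf.symm
  have hQcomm : ∀ x ∈ (Q : Subgroup M), ∀ y ∈ (Q : Subgroup M), Commute x y := fun x hx y hy =>
    Subtype.ext (c.comm ((hQmem x).mp hx) ((hQmem y).mp hy)).eq
  have hexp : ∀ x ∈ (Q : Subgroup M), x ^ 3 = 1 := fun x hx =>
    Subtype.ext (by simpa using c.exp _ ((hQmem x).mp hx))
  have hncard : ¬ (Nat.card M).Prime := fun hp => by
    have h9 : 9 ∣ Nat.card M := hQcard ▸ card_subgroup_dvd_card _
    rcases hp.eq_one_or_self_of_dvd 3 ((by norm_num : 3 ∣ 9).trans h9) with h | h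
    · norm_num at h
    · rw [← h] at h9; norm_num at h9
  have hnc : ¬ IsMulCommutative M := SmallSimple.not_isMulCommutative hncard
  have hgcent : ∀ {n : G} {s : M}, n ∈ M → (s : M) ∈ (Q : Subgroup M) → s ≠ 1 →
      Commute n (s : G) → n ∈ N := fun {n s} _ hs hs1 hc =>
    c.loc _ ((hQmem s).mp hs) (fun e => hs1 (Subtype.ext e))
      (mem_centralizer_singleton_iff.mpr hc.eq)
  -- when involutions of `Qd` are squares, centralizers in `M` are `Q`
  have hMcent : (∀ q ∈ Qd, q * q = 1 → ∃ r, r * r = q) →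
      ∀ s ∈ (Q : Subgroup M), s ≠ 1 → centralizer ({s} : Set M) = (Q : Subgroup M) := by
    intro hsq s hs hs1
    refine le_antisymm (fun x hx => ?_) (fun x hx => mem_centralizer_singleton_iff.mpr (hQcomm x hx s hs).eq)
    have hxc : Commute (x : G) (s : G) :=
      congrArg Subtype.val (mem_centralizer_singleton_iff.mp hx)
    have hxN := hgcent x.2 hs hs1 hxc
    have hs1' : (s : G) ≠ 1 := fun e => hs1 (Subtype.ext e)
    obtain ⟨r, hr⟩ := hsq _ ((hmemQd ⟨x, hxN⟩).mp x.2)
      (c.fix_sq_one ⟨x, hxN⟩ ((hQmem s).mp hs) hs1' hxc)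
    exact (hQmem x).mpr ((c.ker _).mp (c.square_fix ⟨x, hxN⟩ hr ((hQmem s).mp hs) hs1' hxc))
  have hQd8 : Nat.card Qd ∣ 8 := by
    have := card_subgroup_dvd_card Qd
    rwa [DihedralGroup.nat_card] at this
  have h3M : 3 ∣ Nat.card M :=
    (show 3 ∣ Nat.card (Q : Subgroup M) by rw [hQcard]; norm_num).trans (card_subgroup_dvd_card _)
  have hQd4 : Nat.card Qd = 4 ∧ ∃ r ∈ Qd, r * r ≠ 1 := by
    obtain ⟨k, hk, e⟩ := (Nat.dvd_prime_pow Nat.prime_two).mp
      (show Nat.card Qd ∣ 2 ^ 3 from hQd8)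
    interval_cases k
    · -- the automizer is trivial
      exfalso
      refine SmallSimple.not_normalizer_le_centralizer hnc h3M Q fun x hx => ?_
      have h1 : Qd = ⊥ := card_eq_one.mp (by simpa using e)
      have hxQ : x ∈ (Q : Subgroup M) :=
        (hker ⟨x, hx⟩).mp (by rw [← Subgroup.mem_bot, ← h1]; exact ⟨_, rfl⟩)
      exact mem_centralizer_iff.mpr fun t ht => (hQcomm t ht x hxQ).eq
    · -- the automizer has order two
      exfalso
      have hsq : ∀ q ∈ Qd, q * q = 1 → ∃ r, r * r = q := by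
        intro q hq _
        by_cases hq1 : q = 1
        · exact ⟨1, by simp [hq1]⟩
        refine d8_centre q fun p => ?_
        obtain ⟨y, -, huniq⟩ := (Nat.card_eq_two_iff' (1 : Qd)).mp (by simpa using e)
        have h1 := huniq ⟨q, hq⟩ (fun h => hq1 (congrArg Subtype.val h))
        have h2 := huniq ⟨p * q * p⁻¹, hQdn p q hq⟩
          (fun h => hq1 (conj_eq_one_iff.mp (congrArg Subtype.val h)))
        exact mul_inv_eq_iff_eq_mul.mp (congrArg Subtype.val (h2.trans h1.symm))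
      have hH := NineFrobenius.hyp_of_sylow Q hQcard hexp (hMcent hsq)
      have hN18 : Nat.card NM = 18 := by rw [hNMcard, e]; rfl
      obtain ⟨s, hs, hs1⟩ : ∃ s ∈ (Q : Subgroup M), s ≠ 1 := by
        by_contra h
        push Not at h
        rw [(eq_bot_iff_forall _).mpr h, Subgroup.card_bot] at hQcard
        omega
      obtain ⟨F, -⟩ := NineFrobenius.exists_frame hH hs hs1
      exact NineFrobenius.not_eighteen ⟨hH, fun t ht => hH.real (by rw [← hNMdef, hN18]; norm_num) ht⟩ F hN18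
    · refine ⟨by simpa using e, ?_⟩
      by_contra hall
      push Not at hall
      -- the automizer is a four-group
      have hcardq : Nat.card (NM ⧸ (Q : Subgroup M).subgroupOf NM) = 4 := by
        have h := ((Q : Subgroup M).subgroupOf NM).card_mul_index
        rw [Nat.card_congr (subgroupOfEquivOfLe (le_normalizer : (Q : Subgroup M) ≤ NM)).toEquiv,
          hQcard, hNMcard, e, index_eq_card] at h
        norm_num at h
        omega
      haveI : ((Q : Subgroup M).subgroupOf NM).Normal := normal_in_normalizer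
      have hK : IsKleinFour (NM ⧸ (Q : Subgroup M).subgroupOf NM) := by
        refine ⟨hcardq, ?_⟩
        refine ((Nat.dvd_prime Nat.prime_two).mp (Monoid.exponent_dvd_of_forall_pow_eq_one
          fun y => ?_)).resolve_left fun h1 => ?_
        · obtain ⟨x, rfl⟩ := QuotientGroup.mk_surjective y
          rw [← QuotientGroup.mk_pow, QuotientGroup.eq_one_iff, mem_subgroupOf, ← hker, map_pow,
            pow_two]
          exact hall _ ⟨x, rfl⟩
        · haveI := Monoid.exp_eq_one_iff.mp h1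
          rw [Nat.card_of_subsingleton (1 : NM ⧸ (Q : Subgroup M).subgroupOf NM)] at hcardq
          omega
      have hC : centralizer ((Q : Subgroup M) : Set M) = (Q : Subgroup M) := by
        refine le_antisymm (fun x hx => (hQmem x).mpr (c.mem_of_central fun y hy => ?_))
          (fun x hx => mem_centralizer_iff.mpr fun t ht => (hQcomm t ht x hx).eq)
        have := congrArg Subtype.val (mem_centralizer_iff.mp hx ⟨y, hSM hy⟩ ((hQmem _).mpr hy))
        exact mul_inv_eq_iff_eq_mul.mpr (this : y * (x : G) = (x : G) * y).symm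
      have htop := S3805.result Q ⟨⟨⟨fun x y => Subtype.ext (hQcomm _ x.2 _ y.2)⟩⟩, hexp⟩ hQcard hC
        hK (fun t ht ht1 x hx => (hNM x).mpr (hgcent x.2 ht ht1
          (congrArg Subtype.val (mem_centralizer_singleton_iff.mp hx))))
      refine Ctx.not_le_normalizer M hSM hnn fun x hx => ?_
      exact (hNM ⟨x, hx⟩).mp (by rw [hNMdef, htop]; exact mem_top _)
    · -- the automizer is the whole dihedral group, so `G` is simple
      exfalso
      have hQdtop : Qd = ⊤ := eq_top_of_card_eq _ (by rw [e, DihedralGroup.nat_card]; rfl)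
      have hNle : N ≤ M := fun n hn => (hmemQd ⟨n, hn⟩).mpr (hQdtop ▸ mem_top _)
      have hMtop : M = ⊤ := by rw [← Ctx.frattini M hSM, sup_eq_right.mpr hNle]
      haveI : IsSimpleGroup G :=
        ((MulEquiv.subgroupCongr hMtop).trans Subgroup.topEquiv).isSimpleGroup_congr.mp hM
      refine S3716.result P c.card c.exp c.cent N hNdef c.loc (fun T => ?_) inferInstance
      have hN72 : Nat.card N = 72 := by
        rw [← c.π.ker.card_mul_index, Subgroup.index_ker, MonoidHom.range_eq_top.mpr c.surj,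
          Subgroup.card_top, DihedralGroup.nat_card]
        rw [show Nat.card c.π.ker = 9 from ?_]
        rw [← c.card]
        refine (Nat.card_congr (Equiv.subtypeEquivRight fun x : N => ?_)).trans
          (Nat.card_congr (subgroupOfEquivOfLe (le_normalizer : (P : Subgroup G) ≤ N)).toEquiv)
        exact (MonoidHom.mem_ker.trans (c.ker x)).trans mem_subgroupOf.symm
      have hT8 : Nat.card (T : Subgroup N) = 8 := by
        obtain ⟨j, hj⟩ := IsPGroup.iff_card.mp T.2
        have h := (T : Subgroup N).card_mul_index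
        rw [hN72, hj] at h
        have h2 := T.not_dvd_index
        have hj6 : j ≤ 6 := by
          by_contra hlt
          have : 2 ^ 7 ≤ 2 ^ j := Nat.pow_le_pow_right (by norm_num) (by omega)
          have := Nat.le_of_dvd (by norm_num) (Dvd.intro _ h : 2 ^ j ∣ 72)
          omega
        rw [hj]
        interval_cases j <;> omega
      have hinj : Function.Injective (c.π.comp (T : Subgroup N).subtype) := by
        rw [injective_iff_map_eq_one]
        intro x hx
        have hxP := (c.ker _).mp hx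
        have h3 : orderOf (x : N) ∣ 3 := by
          rw [← Subgroup.orderOf_coe]
          exact orderOf_dvd_of_pow_eq_one (c.exp _ hxP)
        have h8 : orderOf (x : N) ∣ 8 := hT8 ▸ orderOf_dvd_natCard _ x.2
        exact Subtype.ext (orderOf_eq_one_iff.mp (Nat.eq_one_of_dvd_coprimes (by norm_num) h8 h3))
      exact ⟨MulEquiv.ofBijective _ ((Nat.bijective_iff_injective_and_card _).2
        ⟨hinj, by rw [hT8, DihedralGroup.nat_card]⟩)⟩
  obtain ⟨h4, r₀, hr₀, hr₀'⟩ := hQd4
  have hzp : zpowers r₀ = Qd := by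
    refine eq_of_le_of_card_ge (zpowers_le.mpr hr₀) ?_
    have : orderOf r₀ = 2 ^ (1 + 1) := orderOf_eq_prime_pow (by rwa [pow_one, pow_two])
      (by rw [show (2 : ℕ) ^ (1 + 1) = 2 * 2 from rfl, pow_mul, pow_two, pow_two]; exact d8_sq _)
    rw [Nat.card_zpowers, this, h4]
    rfl
  have hsq : ∀ q ∈ Qd, q * q = 1 → ∃ r, r * r = q := fun q hq hq2 => by
    obtain ⟨j, rfl⟩ := mem_zpowers_iff.mp (hzp.ge hq)
    exact d8_rot_comm r₀ _ hr₀' (Commute.self_zpow r₀ j).eq hq2
  have hN36 : Nat.card NM = 36 := by rw [hNMcard, h4]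
  have hH := NineFrobenius.hyp_of_sylow Q hQcard hexp (hMcent hsq)
  obtain ⟨a, ha, ha1⟩ : ∃ s ∈ (Q : Subgroup M), s ≠ 1 := by
    by_contra h
    push Not at h
    rw [(eq_bot_iff_forall _).mpr h, Subgroup.card_bot] at hQcard
    omega
  have hclasses : ∃ b ∈ (Q : Subgroup M), b ≠ 1 ∧ ¬ IsConj a b := by
    by_contra h
    push Not at h
    have hc := hH.card_fused ha ha1
    rw [← hNMdef, hN36] at hc
    have hle : Nat.card {v : (Q : Subgroup M) // v ≠ 1} ≤
        Nat.card {v : (Q : Subgroup M) // IsConj a (v : M)} :=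
      Nat.card_le_card_of_injective (fun v => ⟨v.1, h _ v.1.2 fun e => v.2 (Subtype.ext e)⟩)
        fun v w e => Subtype.ext (congrArg (fun t : {v : (Q : Subgroup M) // IsConj a (v : M)} => t.1) e)
    classical
    haveI : Fintype (Q : Subgroup M) := Fintype.ofFinite _
    rw [Nat.card_eq_fintype_card (α := {v : (Q : Subgroup M) // v ≠ 1}), Fintype.card_subtype_compl,
      Fintype.card_subtype_eq, ← Nat.card_eq_fintype_card, hQcard] at hle
    omega
  obtain ⟨b, hb, hb1, hab⟩ := hclasses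
  obtain ⟨φ⟩ := S3341.result Q (Q : Subgroup M) rfl ⟨⟨fun x y => Subtype.ext (hQcomm _ x.2 _ y.2)⟩⟩
    hexp hQcard ⟨a, b, hH.orderOf_eq ha ha1, hH.orderOf_eq hb hb1,
      fun g hg => hab (isConj_iff.mpr ⟨g, hg⟩)⟩ (hMcent hsq)
  refine ⟨⟨φ⟩, Qd, h4, ⟨r₀, hr₀, hr₀'⟩, hmemQd, ?_⟩
  have hidx : M.index = M.relIndex N := by
    rw [← relIndex_sup_right (H := N) (K := M), Ctx.frattini M hSM, relIndex_top_right]
  rw [hidx, relIndex, index_eq_card]
  have h1 : Nat.card (M.subgroupOf N) = 36 := by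
    rw [← hN36]
    exact Nat.card_congr
      ⟨fun x => ⟨⟨((x : N) : G), mem_subgroupOf.mp x.2⟩, (hNM _).mpr (x : N).2⟩,
        fun x => ⟨ι x, mem_subgroupOf.mpr (x : M).2⟩, fun x => rfl, fun x => rfl⟩
  have h2 := (M.subgroupOf N).card_mul_index
  have h3 : Nat.card N = 72 := by
    rw [← c.π.ker.card_mul_index, Subgroup.index_ker, MonoidHom.range_eq_top.mpr c.surj,
      Subgroup.card_top, DihedralGroup.nat_card]
    rw [show Nat.card c.π.ker = 9 from ?_]
    rw [← c.card]
    refine (Nat.card_congr (Equiv.subtypeEquivRight fun x : N => ?_)).trans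
      (Nat.card_congr (subgroupOfEquivOfLe (le_normalizer : (P : Subgroup G) ≤ N)).toEquiv)
    exact (MonoidHom.mem_ker.trans (c.ker x)).trans mem_subgroupOf.symm
  rw [h1, h3, index_eq_card] at h2
  omega

theorem Ctx.sym_six (c : Ctx P) (hnn : ¬ (P : Subgroup G).Normal) :
    Nonempty (G ≃* Equiv.Perm (Fin 6)) := by
  have htopne : (⊤ : Subgroup G) ≠ ⊥ := by
    intro e
    have h := Subgroup.card_le_card_group (P : Subgroup G)
    rw [c.card, ← Subgroup.card_top, e, Subgroup.card_bot] at h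
    omega
  obtain ⟨M, -, ⟨hMn, hMne⟩, hmin⟩ :=
    Finite.exists_le_minimal (p := fun K : Subgroup G => K.Normal ∧ K ≠ ⊥) ⟨inferInstance, htopne⟩
  haveI := hMn
  have hSM := c.le_of_normal hMn hMne
  have hmin' : ∀ K : Subgroup G, K.Normal → K ≠ ⊥ → K ≤ M → K = M := fun K h1 h2 h3 =>
    le_antisymm h3 (hmin ⟨h1, h2⟩ h3)
  obtain ⟨⟨φ⟩, Qd, h4, ⟨r, hr, hr'⟩, hmemQd, hidx⟩ :=
    c.socle_alt hnn M hSM (c.simple hnn M hSM hmin')
  -- a reflection fixing an element of order three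
  obtain ⟨f, hf⟩ : ∃ f, f ∉ Qd := by
    by_contra h
    push Not at h
    rw [(eq_top_iff' Qd).mpr h, Subgroup.card_top, DihedralGroup.nat_card] at h4
    omega
  obtain ⟨hff, hrf⟩ : f * f = 1 ∧ r * f ≠ f * r := (d8_refl r f hr').resolve_left fun h => hf (by
    rcases h with rfl | rfl | rfl | rfl
    · exact one_mem _
    · exact hr
    · exact mul_mem hr hr
    · exact mul_mem (mul_mem hr hr) hr)
  obtain ⟨u, rfl⟩ := c.surj f
  obtain ⟨a, rfl⟩ := c.surj r
  have huM : (u : G) ∉ M := fun h => hf ((hmemQd u).mp h)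
  have hu2 : (u : G) * u ∈ (P : Subgroup G) := by
    simpa using (c.ker (u * u)).mp (by rw [map_mul]; exact hff)
  obtain ⟨s, hs, hs1, hus⟩ : ∃ s ∈ (P : Subgroup G), s ≠ 1 ∧ Commute (u : G) s := by
    by_contra h
    push Not at h
    have hinv : ∀ v ∈ (P : Subgroup G), (u : G) * v * (u : G)⁻¹ = v⁻¹ := by
      intro v hv
      have hw : v * ((u : G) * v * (u : G)⁻¹) ∈ (P : Subgroup G) :=
        mul_mem hv (Ctx.conj_mem u.2 hv)
      have huu : (u : G) * ((u : G) * v * (u : G)⁻¹) * (u : G)⁻¹ = v := by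
        calc (u : G) * ((u : G) * v * (u : G)⁻¹) * (u : G)⁻¹ = (u : G) * u * v * ((u : G) * u)⁻¹ := by
              group
          _ = v := by rw [(c.comm hu2 hv).eq]; group
      refine (eq_inv_of_mul_eq_one_right ?_)
      by_contra hw1
      refine h _ hw hw1 (mul_inv_eq_iff_eq_mul.mp ?_)
      rw [← conj_mul, huu, (c.comm hv (Ctx.conj_mem u.2 hv)).eq]
    have hk : c.π (u * a * u⁻¹ * a⁻¹) = 1 := (c.ker _).mpr (c.mem_of_central fun v hv => by
      have h1 : (a : G)⁻¹ * v * a ∈ (P : Subgroup G) := (mem_normalizer_iff''.mp a.2 v).mp hv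
      have h2 : (u : G)⁻¹ * ((a : G)⁻¹ * v * a) * u = ((a : G)⁻¹ * v * a)⁻¹ := by
        have h3 := hinv _ (inv_mem h1)
        rw [inv_inv] at h3
        conv_lhs => rw [← h3]
        group
      push_cast
      calc (u : G) * a * (u : G)⁻¹ * (a : G)⁻¹ * v * ((u : G) * a * (u : G)⁻¹ * (a : G)⁻¹)⁻¹
          = (u : G) * (a * ((u : G)⁻¹ * ((a : G)⁻¹ * v * a) * u) * (a : G)⁻¹) * (u : G)⁻¹ := by
            group
        _ = (u : G) * v⁻¹ * (u : G)⁻¹ := by rw [h2]; group
        _ = v := by rw [hinv _ (inv_mem hv), inv_inv])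
    rw [map_mul, map_mul, map_mul, map_inv, map_inv, mul_inv_eq_one, mul_inv_eq_iff_eq_mul] at hk
    exact hrf hk.symm
  -- the action on `A6`
  let Φ : G →* MulAut A6 := (MulAut.congr φ).toMonoidHom.comp MulAut.conjNormal
  have hΦ : ∀ g x, Φ g x = φ (MulAut.conjNormal g (φ.symm x)) := fun g x => rfl
  have hrange : ∀ g, Φ g ∈ (MulAut.conjNormal : Equiv.Perm (Fin 6) →* MulAut A6).range := by
    have hh : ∀ g ∈ M, Φ g ∈ (MulAut.conjNormal : Equiv.Perm (Fin 6) →* MulAut A6).range := by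
      intro g hg
      refine ⟨(φ ⟨g, hg⟩ : Equiv.Perm (Fin 6)), MulEquiv.ext fun x => Subtype.ext ?_⟩
      rw [MulAut.conjNormal_apply, hΦ]
      have e : MulAut.conjNormal g (φ.symm x) = ⟨g, hg⟩ * φ.symm x * ⟨g, hg⟩⁻¹ :=
        Subtype.ext (MulAut.conjNormal_apply g _)
      rw [e, map_mul, map_mul, map_inv, MulEquiv.apply_symm_apply]
      rfl
    have hc3 : orderOf (φ ⟨s, hSM hs⟩) = 3 := by
      rw [MulEquiv.orderOf_eq, ← Subgroup.orderOf_coe]
      exact c.orderOf_eq hs hs1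
    have ht : Φ u ∈ (MulAut.conjNormal : Equiv.Perm (Fin 6) →* MulAut A6).range := by
      refine aut_inner (Φ u) hc3 ?_
      rw [hΦ, MulEquiv.symm_apply_apply]
      congr 1
      exact Subtype.ext (by rw [MulAut.conjNormal_apply, hus.eq, mul_inv_cancel_right])
    intro g
    by_cases hg : g ∈ M
    · exact hh g hg
    · have h1 : g * u ∈ M :=
        (mul_mem_iff_of_index_two hidx).mpr ⟨fun h => absurd h hg, fun h => absurd h huM⟩
      have := mul_mem (hh _ h1) (inv_mem ht)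
      rwa [← map_inv, ← map_mul, mul_inv_cancel_right] at this
  let Ψ : G →* Equiv.Perm (Fin 6) :=
    (MonoidHom.ofInjective conjNormal_injective).symm.toMonoidHom.comp (Φ.codRestrict _ hrange)
  have hinj : Function.Injective Ψ := by
    rw [← MonoidHom.ker_eq_bot_iff]
    by_contra hne
    obtain ⟨y, hy, hy1⟩ : ∃ y ∈ (P : Subgroup G), y ≠ 1 := ⟨s, hs, hs1⟩
    have hyK : y ∈ Ψ.ker := c.le_of_normal inferInstance hne hy
    have h1 : Φ y = 1 := congrArg Subtype.val
      ((MonoidHom.ofInjective conjNormal_injective).symm.injective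
        ((MonoidHom.mem_ker.mp hyK).trans (map_one _).symm))
    refine Ctx.not_le_normalizer M hSM hnn fun h hh => c.loc y hy hy1 ?_
    rw [mem_centralizer_singleton_iff]
    have h2 := congrArg (fun σ : MulAut A6 => φ.symm (σ (φ ⟨h, hh⟩))) h1
    simp only [hΦ, MulEquiv.symm_apply_apply, MulAut.one_apply] at h2
    have h3 := congrArg Subtype.val h2
    rw [MulAut.conjNormal_apply] at h3
    exact (mul_inv_eq_iff_eq_mul.mp h3).symm
  refine ⟨MulEquiv.ofBijective Ψ ((Nat.bijective_iff_injective_and_card Ψ).2 ⟨hinj, ?_⟩)⟩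
  rw [← M.card_mul_index, hidx, Nat.card_congr φ.toEquiv, nat_card_alternatingGroup, Nat.card_perm,
    Nat.card_fin]
  decide

end Main

/-- Let G be a finite group with a Sylow 3-subgroup S of order 9 that is its own centralizer, with N_G(S)/S dihedral of order 8, and such that C_G(x) ≤ N_G(S) for every non-identity x in S. Then S is normal in G or G is isomorphic to the symmetric group of degree 6. -/
theorem result {G : Type*} [Group G] [Finite G]
    (P : Sylow 3 G) (S : Subgroup G) (hSP : S = P) (hcard : Nat.card S = 9)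
    (hC : Subgroup.centralizer (S : Set G) = S)
    (eN : Subgroup.normalizer (S : Set G) ⧸ S.subgroupOf (Subgroup.normalizer (S : Set G)) ≃* DihedralGroup 4)
    (hcent : ∀ x ∈ S, x ≠ 1 → Subgroup.centralizer ({x} : Set G) ≤ Subgroup.normalizer (S : Set G)) :
    S.Normal ∨ Nonempty (G ≃* Equiv.Perm (Fin 6)) := by
  subst hSP
  refine (em _).imp_right fun hnn => ?_
  set π := (eN.toMonoidHom.comp (QuotientGroup.mk'
    ((P : Subgroup G).subgroupOf (Subgroup.normalizer ((P : Subgroup G) : Set G))))) with hπ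
  exact Ctx.sym_six ⟨hcard, hC, π, eN.surjective.comp (QuotientGroup.mk'_surjective _),
    fun n => by
      rw [hπ, MonoidHom.comp_apply, MulEquiv.coe_toMonoidHom, MulEquiv.map_eq_one_iff,
        QuotientGroup.mk'_apply, QuotientGroup.eq_one_iff, Subgroup.mem_subgroupOf],
    hcent⟩ hnn

end Cfsg.Agent.S3333
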