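import Cfsg.Statements.S3335
import Cfsg.Agent.Lib.Recog.AltPresentation

set_option autoImplicit false
open Cfsg

namespace Cfsg.Agent.S3335

/-- A presentation of the alternating group of degree n ≥ 3 on generators x_1, …, x_{n−2} (indexed here by 0, …, n−3): the first generator cubes to 1, every other generator squares to 1, the product of two consecutive generators has order dividing 3, and the product of two generators at distance at least 2 has order dividing 2. The group so presented is isomorphic to the alternating group of degree n. -/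
theorem result (n : ℕ) (hn : 3 ≤ n) :
    Nonempty (PresentedGroup
      ({g : FreeGroup (Fin (n - 2)) | ∃ i : Fin (n - 2), i.val = 0 ∧ g = FreeGroup.of i ^ 3} ∪
       {g | ∃ i : Fin (n - 2), 1 ≤ i.val ∧ g = FreeGroup.of i ^ 2} ∪
       {g | ∃ i j : Fin (n - 2), j.val = i.val + 1 ∧ g = (FreeGroup.of i * FreeGroup.of j) ^ 3} ∪
       {g | ∃ i j : Fin (n - 2), i.val + 1 < j.val ∧ g = (FreeGroup.of i * FreeGroup.of j) ^ 2})
      ≃* alternatingGroup (Fin n)) := by
  classical
  obtain ⟨k, rfl⟩ : ∃ k, n = k + 2 := ⟨n - 2, by omega⟩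
  have hk : k + 2 - 2 = k := by omega
  set rels : Set (FreeGroup (Fin (k + 2 - 2))) :=
    ({g : FreeGroup (Fin (k + 2 - 2)) | ∃ i : Fin (k + 2 - 2), i.val = 0 ∧ g = FreeGroup.of i ^ 3} ∪
       {g | ∃ i : Fin (k + 2 - 2), 1 ≤ i.val ∧ g = FreeGroup.of i ^ 2} ∪
       {g | ∃ i j : Fin (k + 2 - 2), j.val = i.val + 1 ∧ g = (FreeGroup.of i * FreeGroup.of j) ^ 3} ∪
       {g | ∃ i j : Fin (k + 2 - 2), i.val + 1 < j.val ∧ g = (FreeGroup.of i * FreeGroup.of j) ^ 2}) with hrels
  let P : ℕ → Fin (k + 2) := fun i => if h : i < k + 2 then ⟨i, h⟩ else ⟨0, by omega⟩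
  have hP : ∀ i j, i < k + 2 → j < k + 2 → (P i = P j ↔ i = j) := fun i j hi hj => by
    simp only [P, dif_pos hi, dif_pos hj, Fin.mk.injEq]
  let sw : ℕ → ℕ → Equiv.Perm (Fin (k + 2)) := fun i j => Equiv.swap (P i) (P j)
  let f : ℕ → Equiv.Perm (Fin (k + 2)) := fun i =>
    if i = 0 then sw 0 1 * sw 1 2 else sw 0 1 * sw (i + 1) (i + 2)
  have hdis : ∀ a b c d, a < k + 2 → b < k + 2 → c < k + 2 → d < k + 2 → a ≠ c → a ≠ d → b ≠ c → b ≠ d →
      sw a b * sw c d = sw c d * sw a b := by
    intro a b c d ha hb hc hd h1 h2 h3 h4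
    rcases eq_or_ne c d with rfl | hcd
    · simp [sw, Equiv.swap_self, ← Equiv.Perm.one_def]
    rcases eq_or_ne a b with rfl | hab
    · simp [sw, Equiv.swap_self, ← Equiv.Perm.one_def]
    refine (Equiv.Perm.disjoint_iff_disjoint_support.2 ?_).commute.eq
    rw [Equiv.Perm.support_swap (by rwa [Ne, hP a b ha hb]), Equiv.Perm.support_swap (by rwa [Ne, hP c d hc hd])]
    simp only [Finset.disjoint_insert_left, Finset.mem_insert, Finset.mem_singleton, Finset.disjoint_singleton_left,
      hP a c ha hc, hP a d ha hd, hP b c hb hc, hP b d hb hd, not_or]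
    exact ⟨⟨h1, h2⟩, h3, h4⟩
  have h2 : ∀ a b, sw a b * sw a b = 1 := fun a b => Equiv.swap_mul_self _ _
  have hthree : ∀ a b c, a < k + 2 → b < k + 2 → c < k + 2 → a ≠ b → a ≠ c → b ≠ c →
      (sw a b * sw b c) ^ 3 = 1 := by
    intro a b c ha hb hc hab hac hbc
    have h := Equiv.Perm.isThreeCycle_swap_mul_swap_same (a := P b) (b := P a) (c := P c)
      (by rw [Ne, hP b a hb ha]; exact Ne.symm hab) (by rw [Ne, hP b c hb hc]; exact hbc)
      (by rw [Ne, hP a c ha hc]; exact hac)
    have := pow_orderOf_eq_one (sw b a * sw b c)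
    rw [show orderOf (sw b a * sw b c) = 3 from h.orderOf] at this
    rwa [show sw b a = sw a b from Equiv.swap_comm _ _] at this
  have hconj : ∀ a b c, a < k + 2 → b < k + 2 → c < k + 2 → a ≠ b → a ≠ c → b ≠ c →
      sw a b * sw b c * sw a b = sw a c := by
    intro a b c ha hb hc hab hac hbc
    show Equiv.swap (P a) (P b) * Equiv.swap (P b) (P c) * Equiv.swap (P a) (P b) = Equiv.swap (P a) (P c)
    have h := Equiv.swap_apply_apply (Equiv.swap (P a) (P b)) (P b) (P c)
    rw [Equiv.swap_apply_right, Equiv.swap_apply_of_ne_of_ne (by rw [Ne, hP c a hc ha]; exact Ne.symm hac)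
      (by rw [Ne, hP c b hc hb]; exact Ne.symm hbc), Equiv.swap_inv] at h
    exact h.symm
  have hf : Recog.AltPresentation.Rel f k := by
    refine ⟨fun hk0 => ?_, fun i hi hik => ?_, fun i hik => ?_, fun i j hij hjk => ?_⟩
    · exact hthree 0 1 2 (by omega) (by omega) (by omega) (by omega) (by omega) (by omega)
    · simp only [f, if_neg (show i ≠ 0 by omega)]
      calc _ = sw 0 1 * (sw (i + 1) (i + 2) * sw 0 1) * sw (i + 1) (i + 2) := by group
        _ = 1 := by
          rw [← hdis 0 1 (i + 1) (i + 2) (by omega) (by omega) (by omega) (by omega) (by omega) (by omega) (by omega) (by omega)]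
          rw [← mul_assoc, h2, one_mul, h2]
    · rcases Nat.eq_zero_or_pos i with rfl | hi
      · have e : f 0 * f (0 + 1) = sw 2 0 * sw 2 3 := by
          calc f 0 * f (0 + 1) = sw 0 1 * sw 1 2 * sw 0 1 * sw 2 3 := by simp [f, mul_assoc]
            _ = _ := by rw [hconj 0 1 2 (by omega) (by omega) (by omega) (by omega) (by omega) (by omega)]; simp [sw, Equiv.swap_comm]
        rw [e, show sw 2 0 = sw 0 2 from Equiv.swap_comm _ _]
        exact hthree 0 2 3 (by omega) (by omega) (by omega) (by omega) (by omega) (by omega)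
      · simp only [f, if_neg (show i ≠ 0 by omega), if_neg (show i + 1 ≠ 0 by omega)]
        rw [show sw 0 1 * sw (i + 1) (i + 2) * (sw 0 1 * sw (i + 1 + 1) (i + 1 + 2)) =
          sw (i + 1) (i + 2) * sw (i + 2) (i + 3) by
            rw [hdis 0 1 (i + 1) (i + 2) (by omega) (by omega) (by omega) (by omega) (by omega) (by omega) (by omega) (by omega),
              mul_assoc, ← mul_assoc (sw 0 1), h2, one_mul]]
        exact hthree _ _ _ (by omega) (by omega) (by omega) (by omega) (by omega) (by omega)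
    · rcases Nat.eq_zero_or_pos i with rfl | hi
      · have e : f 0 * f j = sw 0 2 * sw (j + 1) (j + 2) := by
          simp only [f, if_true, if_neg (show j ≠ 0 by omega)]
          rw [← hconj 0 1 2 (by omega) (by omega) (by omega) (by omega) (by omega) (by omega), mul_assoc _ (sw 0 1) (sw (j+1) (j+2))]
        rw [e, pow_two]
        calc _ = sw 0 2 * (sw (j + 1) (j + 2) * sw 0 2) * sw (j + 1) (j + 2) := by group
          _ = 1 := by
            rw [← hdis 0 2 (j + 1) (j + 2) (by omega) (by omega) (by omega) (by omega) (by omega) (by omega) (by omega) (by omega)]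
            rw [← mul_assoc, h2, one_mul, h2]
      · simp only [f, if_neg (show i ≠ 0 by omega), if_neg (show j ≠ 0 by omega)]
        rw [show sw 0 1 * sw (i + 1) (i + 2) * (sw 0 1 * sw (j + 1) (j + 2)) =
          sw (i + 1) (i + 2) * sw (j + 1) (j + 2) by
            rw [hdis 0 1 (i + 1) (i + 2) (by omega) (by omega) (by omega) (by omega) (by omega) (by omega) (by omega) (by omega),
              mul_assoc, ← mul_assoc (sw 0 1), h2, one_mul], pow_two]
        calc _ = sw (i + 1) (i + 2) * (sw (j + 1) (j + 2) * sw (i + 1) (i + 2)) * sw (j + 1) (j + 2) := by group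
          _ = 1 := by
            rw [← hdis (i + 1) (i + 2) (j + 1) (j + 2) (by omega) (by omega) (by omega) (by omega) (by omega) (by omega) (by omega) (by omega)]
            rw [← mul_assoc, h2, one_mul, h2]
  have hkill : ∀ r ∈ rels, FreeGroup.lift (fun i : Fin (k + 2 - 2) => f i) r = 1 := by
    intro r hr
    have hb : ∀ i : Fin (k + 2 - 2), i.val < k := fun i => by have := i.2; omega
    rcases hr with ((⟨i, h0, rfl⟩ | ⟨i, h1, rfl⟩) | ⟨i, j, hj, rfl⟩) | ⟨i, j, hij, rfl⟩
    · simp only [map_pow, FreeGroup.lift_apply_of, h0]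
      exact hf.cube (by have := hb i; omega)
    · simp only [map_pow, FreeGroup.lift_apply_of, pow_two]
      exact hf.sq i h1 (hb i)
    · simp only [map_pow, map_mul, FreeGroup.lift_apply_of, hj]
      exact hf.near i (by have := hb j; omega)
    · simp only [map_pow, map_mul, FreeGroup.lift_apply_of]
      exact hf.far i j hij (hb j)
  let ψ : PresentedGroup rels →* Equiv.Perm (Fin (k + 2)) := PresentedGroup.toGroup hkill
  have hψof : ∀ i : Fin (k + 2 - 2), ψ (PresentedGroup.of i) = f i := fun i => PresentedGroup.toGroup.of hkill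
  let xs : ℕ → PresentedGroup rels := fun i => if h : i < k + 2 - 2 then PresentedGroup.of ⟨i, h⟩ else 1
  have hxs : ∀ i (h : i < k), xs i = PresentedGroup.of ⟨i, by omega⟩ := fun i h => dif_pos (by omega)
  have hrel : ∀ r ∈ rels, PresentedGroup.mk rels r = 1 := fun r hr => PresentedGroup.one_of_mem hr
  have hx : Recog.AltPresentation.Rel xs k := by
    refine ⟨fun h0 => ?_, fun i hi hik => ?_, fun i hik => ?_, fun i j hij hjk => ?_⟩
    · rw [hxs 0 h0]
      have := hrel _ (Or.inl (Or.inl (Or.inl ⟨⟨0, by omega⟩, rfl, rfl⟩)))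
      rwa [map_pow] at this
    · rw [hxs i hik]
      have := hrel _ (Or.inl (Or.inl (Or.inr ⟨⟨i, by omega⟩, hi, rfl⟩)))
      rwa [map_pow, pow_two] at this
    · rw [hxs i (by omega), hxs (i + 1) hik]
      have := hrel _ (Or.inl (Or.inr ⟨⟨i, by omega⟩, ⟨i + 1, by omega⟩, rfl, rfl⟩))
      rwa [map_pow, map_mul] at this
    · rw [hxs i (by omega), hxs j hjk]
      have := hrel _ (Or.inr ⟨⟨i, by omega⟩, ⟨j, by omega⟩, hij, rfl⟩)
      rwa [map_pow, map_mul] at this
  obtain ⟨S, hS, hScard⟩ := Recog.AltPresentation.closure_bound hx k le_rfl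
  have hall : ∀ g : PresentedGroup rels, g ∈ S := by
    intro g
    refine hS g ?_
    have htop : Subgroup.closure (xs '' Set.Iio k) = ⊤ := by
      rw [eq_top_iff, ← PresentedGroup.closure_range_of rels, Subgroup.closure_le]
      rintro _ ⟨i, rfl⟩
      refine Subgroup.subset_closure ⟨i, by have := i.2; simp only [Set.mem_Iio]; omega, ?_⟩
      rw [hxs i (by have := i.2; omega)]
    rw [htop]; exact Subgroup.mem_top g
  haveI : Finite (PresentedGroup rels) := Finite.of_surjective (fun x : S => x.1) fun g => ⟨⟨g, hall g⟩, rfl⟩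
  have hPcard : 2 * Nat.card (PresentedGroup rels) ≤ (k + 2).factorial := by
    refine le_trans (Nat.mul_le_mul_left _ ?_) hScard
    rw [← Nat.card_eq_finsetCard]
    exact Nat.card_le_card_of_injective (fun g => (⟨g, hall g⟩ : S)) (fun a b h => congrArg (fun x : S => x.1) h)
  set R := ψ.range
  have hRalt : R ≤ alternatingGroup (Fin (k + 2)) := by
    have hsg : ∀ a b, a < k + 2 → b < k + 2 → a ≠ b → Equiv.Perm.sign (sw a b) = -1 := fun a b ha hb hab =>
      Equiv.Perm.sign_swap (by rwa [Ne, hP a b ha hb])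
    rw [show R = ψ.range from rfl, MonoidHom.range_eq_map, ← PresentedGroup.closure_range_of rels, MonoidHom.map_closure, Subgroup.closure_le]
    rintro _ ⟨_, ⟨i, rfl⟩, rfl⟩
    rw [SetLike.mem_coe, Equiv.Perm.mem_alternatingGroup, hψof]
    have hi := i.2
    by_cases h0 : (i : ℕ) = 0
    · simp only [f, if_pos h0, map_mul, hsg 0 1 (by omega) (by omega) (by omega), hsg 1 2 (by omega) (by omega) (by omega)]
      rfl
    · simp only [f, if_neg h0, map_mul, hsg 0 1 (by omega) (by omega) (by omega),
        hsg ((i:ℕ) + 1) ((i:ℕ) + 2) (by omega) (by omega) (by omega)]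
      rfl
  let s := sw 0 1
  have hfR : ∀ i, i < k → f i ∈ R := fun i hi => ⟨PresentedGroup.of ⟨i, by omega⟩, hψof _⟩
  have hsR : ∀ r ∈ R, s * r * s ∈ R := by
    intro r hr
    have hle : R ≤ R.comap (MulAut.conj s).toMonoidHom := by
      nth_rw 1 [show R = ψ.range from rfl]
      rw [MonoidHom.range_eq_map, ← PresentedGroup.closure_range_of rels, MonoidHom.map_closure, Subgroup.closure_le]
      rintro _ ⟨_, ⟨i, rfl⟩, rfl⟩
      have hi : (i : ℕ) < k := by have := i.2; omega
      rw [SetLike.mem_coe, Subgroup.mem_comap, hψof]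
      show s * f i * s⁻¹ ∈ R
      rw [show s⁻¹ = s from Equiv.swap_inv _ _]
      by_cases h0 : (i : ℕ) = 0
      · have : s * f i * s = (f i)⁻¹ := by
          simp only [f, if_pos h0, s, mul_inv_rev]
          rw [← mul_assoc (sw 0 1) (sw 0 1), h2, one_mul]
          simp [sw]
        rw [this]; exact inv_mem (hfR i hi)
      · have : s * f i * s = f i := by
          simp only [f, if_neg h0, s]
          rw [← mul_assoc, h2, one_mul, hdis 0 1 ((i:ℕ)+1) ((i:ℕ)+2) (by omega) (by omega) (by omega) (by omega) (by omega) (by omega) (by omega) (by omega)]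
        rw [this]; exact hfR i hi
    have := hle hr
    rwa [Subgroup.mem_comap, show ((MulAut.conj s).toMonoidHom r) = s * r * s⁻¹ from rfl,
      show s⁻¹ = s from Equiv.swap_inv _ _] at this
  let M : Submonoid (Equiv.Perm (Fin (k + 2))) :=
    { carrier := {g | g ∈ R ∨ g * s ∈ R}
      one_mem' := Or.inl (one_mem R)
      mul_mem' := by
        have hss : s * s = 1 := h2 0 1
        rintro a b (ha | ha) (hb | hb)
        · exact Or.inl (mul_mem ha hb)
        · exact Or.inr (by rw [mul_assoc]; exact mul_mem ha hb)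
        · refine Or.inr ?_
          rw [show a * b * s = a * s * (s * b * s) by rw [← mul_assoc (a * s), ← mul_assoc (a * s), mul_assoc a s s, hss, mul_one]]
          exact mul_mem ha (hsR b hb)
        · refine Or.inl ?_
          rw [show a * b = a * s * (s * (b * s) * s) by
            rw [← mul_assoc (a * s), ← mul_assoc (a * s), mul_assoc a s s, hss, mul_one, mul_assoc a, mul_assoc b, hss, mul_one]]
          exact mul_mem ha (hsR _ hb) }
  have hMtop : M = ⊤ := by
    rw [eq_top_iff, ← Equiv.Perm.mclosure_swap_castSucc_succ (k + 1), Submonoid.closure_le]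
    rintro _ ⟨i, rfl⟩
    have hi := i.2
    have he : Equiv.swap i.castSucc i.succ = sw (i : ℕ) ((i : ℕ) + 1) := by
      simp only [sw, P, dif_pos (show (i:ℕ) < k + 2 by omega), dif_pos (show (i:ℕ) + 1 < k + 2 by omega)]
      congr 1
    show Equiv.swap i.castSucc i.succ ∈ M
    rw [he]
    rcases Nat.lt_or_ge (i : ℕ) 2 with h | h
    · rcases (show (i : ℕ) = 0 ∨ (i : ℕ) = 1 by omega) with h | h <;> rw [h]
      · exact Or.inr (by show sw 0 1 * sw 0 1 ∈ R; rw [h2]; exact one_mem R)
      · refine Or.inr ?_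
        show sw 1 2 * sw 0 1 ∈ R
        have := inv_mem (hfR 0 (by omega))
        simpa [f, sw] using this
    · obtain ⟨j, hj⟩ : ∃ j, (i : ℕ) = j + 1 := ⟨(i:ℕ) - 1, by omega⟩
      refine Or.inr ?_
      rw [hj]
      show sw (j + 1) (j + 1 + 1) * sw 0 1 ∈ R
      rw [← hdis 0 1 (j + 1) (j + 2) (by omega) (by omega) (by omega) (by omega) (by omega) (by omega) (by omega) (by omega)]
      have := hfR j (by omega)
      rwa [show f j = sw 0 1 * sw (j + 1) (j + 2) from if_neg (by omega)] at this
  have hlarge : (k + 2).factorial ≤ 2 * Nat.card R := by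
    have h := Nat.card_perm (α := Fin (k + 2))
    rw [Nat.card_fin] at h
    rw [← h, two_mul, ← Nat.card_sum]
    refine Nat.card_le_card_of_surjective (Sum.elim (fun r : R => (r : Equiv.Perm (Fin (k + 2)))) (fun r : R => (r : Equiv.Perm (Fin (k + 2))) * s)) fun g => ?_
    rcases (show g ∈ R ∨ g * s ∈ R from (hMtop ▸ Submonoid.mem_top g : g ∈ M)) with h | h
    · exact ⟨Sum.inl ⟨g, h⟩, rfl⟩
    · exact ⟨Sum.inr ⟨g * s, h⟩, by show g * s * s = g; rw [mul_assoc, show s * s = 1 from h2 0 1, mul_one]⟩
  have hA : 2 * Nat.card (alternatingGroup (Fin (k + 2))) = (k + 2).factorial := by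
    rw [Nat.card_eq_fintype_card, two_mul_card_alternatingGroup, Fintype.card_perm, Fintype.card_fin]
  have hRA : R = alternatingGroup (Fin (k + 2)) := Subgroup.eq_of_le_of_card_ge hRalt (by omega)
  let φ : PresentedGroup rels →* alternatingGroup (Fin (k + 2)) := ψ.codRestrict _ fun g => hRA ▸ ⟨g, rfl⟩
  refine ⟨MulEquiv.ofBijective φ ((Nat.bijective_iff_surjective_and_card _).2 ⟨?_, ?_⟩)⟩
  · rintro ⟨g, hg⟩
    rw [← hRA] at hg
    obtain ⟨p, hp⟩ := hg
    exact ⟨p, Subtype.ext hp⟩
  · have h1 : Nat.card R ≤ Nat.card (PresentedGroup rels) :=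
      Nat.card_le_card_of_surjective ψ.rangeRestrict ψ.rangeRestrict_surjective
    rw [hRA] at h1
    omega

end Cfsg.Agent.S3335
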