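import Cfsg.Statements.S3349
import Mathlib

set_option autoImplicit false
open Cfsg

namespace Cfsg.Agent.S3349

/-- Let Q be a finite extraspecial p-group and α an automorphism of Q fixing every element of some maximal abelian subgroup of Q. Then the order of α is a power of p. -/
theorem result {Q : Type*} [Group Q] [Finite Q]
    (p : ℕ) [Fact p.Prime] (hQ : Cfsg.IsExtraspecial p Q) (α : MulAut Q)
    (A : Subgroup Q) (hA : IsMulCommutative A) (hmax : ∀ B : Subgroup Q, A ≤ B → IsMulCommutative B → B = A)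
    (hfix : ∀ a ∈ A, α a = a) :
    ∃ k : ℕ, orderOf α = p ^ k := by
  classical
  obtain ⟨⟨hP, -, hder⟩, hcard⟩ := hQ
  have hcA : ∀ x : Q, (∀ a ∈ A, x * a = a * x) → x ∈ A := by
    intro x hx
    have hcomm : IsMulCommutative (Subgroup.closure (insert x (A : Set Q))) := Subgroup.isMulCommutative_closure (by
      rintro u hu v hv
      rcases hu with rfl | hu <;> rcases hv with rfl | hv
      · rfl
      · exact hx v hv
      · exact (hx u hu).symm
      · exact congrArg Subtype.val (hA.is_comm.comm ⟨u, hu⟩ ⟨v, hv⟩))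
    have := hmax _ (fun a ha => Subgroup.subset_closure (Set.mem_insert_of_mem _ ha)) hcomm
    exact this ▸ Subgroup.subset_closure (Set.mem_insert _ _)
  have hnorm : ∀ q : Q, ∀ a ∈ A, q * a * q⁻¹ ∈ A := by
    intro q a ha
    have hz : q * a * q⁻¹ * a⁻¹ ∈ A := hcA _ fun u _ => by
      have h : q * a * q⁻¹ * a⁻¹ ∈ Subgroup.center Q := hder ▸
        Subgroup.commutator_mem_commutator (Subgroup.mem_top q) (Subgroup.mem_top a)
      exact (Subgroup.mem_center_iff.1 h u).symm
    simpa using mul_mem hz ha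
  have hc : ∀ q : Q, q⁻¹ * α q ∈ A := by
    intro q
    refine hcA _ fun a ha => ?_
    have h := hfix _ (hnorm q a ha)
    rw [map_mul, map_mul, map_inv, hfix a ha, mul_inv_eq_iff_eq_mul] at h
    calc q⁻¹ * α q * a = q⁻¹ * (α q * a) := by group
      _ = q⁻¹ * (q * a * q⁻¹ * α q) := by rw [h]
      _ = a * (q⁻¹ * α q) := by group
  have hpow : ∀ (k : ℕ) (q : Q), (α ^ k) q = q * (q⁻¹ * α q) ^ k := by
    intro k
    induction k with
    | zero => intro q; simp
    | succ k ih =>
      intro q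
      rw [pow_succ', MulAut.mul_apply, ih, map_mul, map_pow, hfix _ (hc q), pow_succ', ← mul_assoc, mul_inv_cancel_left]
  obtain ⟨n, hn⟩ := IsPGroup.iff_card.1 hP
  have h1 : α ^ (p ^ n) = 1 := MulEquiv.ext fun q => by
    rw [hpow, ← hn, pow_card_eq_one', mul_one]
    rfl
  obtain ⟨k, -, hk⟩ := (Nat.dvd_prime_pow (Fact.out : p.Prime)).1 (orderOf_dvd_of_pow_eq_one h1)
  exact ⟨k, hk⟩

end Cfsg.Agent.S3349
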