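import Cfsg.Statements.S3356
import Cfsg.Agent.Lib.Recog.MinNormal

set_option autoImplicit false
open Cfsg

namespace Cfsg.Agent.S3356

/-- Let G be a finite 3/2-transitive permutation group: G acts faithfully and transitively on a finite set, the point stabilizers are non-trivial, and for each point a all orbits of G_a on the remaining points have the same size. Suppose G has a regular normal subgroup N and G is not a Frobenius group (some two-point stabilizer is non-trivial). Then N is an elementary abelian p-group for some prime p, and every non-trivial normal subgroup of G contains N (so N is the unique minimal normal subgroup). -/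
theorem result {G Ω : Type*} [Group G] [Finite G]
    [MulAction G Ω] [FaithfulSMul G Ω] [Finite Ω] (htrans : MulAction.IsPretransitive G Ω)
    (hne : ∀ a : Ω, MulAction.stabilizer G a ≠ ⊥)
    (hhalf : ∀ a b c : Ω, b ≠ a → c ≠ a →
      Nat.card (MulAction.orbit (MulAction.stabilizer G a) b) = Nat.card (MulAction.orbit (MulAction.stabilizer G a) c))
    (N : Subgroup G) [hN : N.Normal] (hNt : MulAction.IsPretransitive N Ω) (hNr : ∀ a : Ω, MulAction.stabilizer N a = ⊥)
    (hnotF : ∃ a b : Ω, a ≠ b ∧ MulAction.stabilizer G a ⊓ MulAction.stabilizer G b ≠ ⊥) :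
    (∃ p : ℕ, p.Prime ∧ IsMulCommutative N ∧ ∀ x ∈ N, x ^ p = 1) ∧
    (∀ M : Subgroup G, M.Normal → M ≠ ⊥ → N ≤ M) := by
  classical
  obtain ⟨a', b', hab', hF⟩ := hnotF
  have := htrans
  set a := a' with ha
  let H := MulAction.stabilizer G a
  have hbij : Function.Bijective fun x : N => (x : G) • a := by
    refine ⟨fun x y h => ?_, fun b => ?_⟩
    · have : y⁻¹ * x ∈ MulAction.stabilizer N a := by
        show ((y : G)⁻¹ * x) • a = a
        rw [mul_smul, inv_smul_eq_iff]; exact h
      rw [hNr a, Subgroup.mem_bot, inv_mul_eq_one] at this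
      exact this.symm
    · obtain ⟨x, hx⟩ := MulAction.exists_smul_eq N a b
      exact ⟨x, hx⟩
  have hne1 : ∀ x : N, x ≠ 1 → (x : G) • a ≠ a := fun x hx h =>
    hx (hbij.1 (h.trans (one_smul G a).symm))
  have hconj : ∀ (h : H) (x : N), (h : G) * x * (h : G)⁻¹ ∈ N := fun h x => hN.conj_mem _ x.2 _
  let act : H → N → N := fun h x => ⟨_, hconj h x⟩
  have hact : ∀ (h : H) (x : N), (act h x : G) • a = (h : G) • ((x : G) • a) := fun h x => by
    show ((h : G) * x * (h : G)⁻¹) • a = _
    rw [mul_smul, mul_smul, inv_smul_eq_iff.2 (h.2 : (h : G) • a = a).symm]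
  let C : N → Subgroup H := fun x => MulAction.stabilizer H ((x : G) • a)
  have hmemC : ∀ (h : H) (x : N), h ∈ C x ↔ (h : G) * x = x * h := fun h x => by
    show (h : G) • ((x : G) • a) = (x : G) • a ↔ _
    rw [← hact]
    constructor
    · intro e
      have := congrArg Subtype.val (hbij.1 e)
      exact mul_inv_eq_iff_eq_mul.1 this
    · intro e
      exact congrArg (fun z : N => (z : G) • a) (Subtype.ext (mul_inv_eq_iff_eq_mul.2 e) : act h x = x)
  -- all the centralisers have the same order
  obtain ⟨x0, hx0⟩ := hbij.2 b'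
  have hx0' : x0 ≠ 1 := fun e => hab' (by rw [← hx0, e]; simp)
  set c := Nat.card (C x0) with hc
  have hCcard : ∀ x : N, x ≠ 1 → Nat.card (C x) = c := by
    intro x hx
    have h := hhalf a _ _ (hne1 x hx) (hne1 x0 hx0')
    have h1 := Subgroup.card_eq_card_quotient_mul_card_subgroup (C x)
    have h2 := Subgroup.card_eq_card_quotient_mul_card_subgroup (C x0)
    rw [← Nat.card_congr (MulAction.orbitEquivQuotientStabilizer H _), h] at h1
    rw [← Nat.card_congr (MulAction.orbitEquivQuotientStabilizer H _)] at h2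
    exact Nat.eq_of_mul_eq_mul_left (Nat.pos_of_ne_zero fun h0 => by rw [h0, zero_mul] at h2; exact Nat.card_pos.ne' h2) (h1.symm.trans h2)
  have hc1 : c ≠ 1 := by
    intro h1
    apply hF
    rw [Subgroup.eq_bot_iff_forall]
    rintro g ⟨hga, hgb⟩
    have : (⟨g, hga⟩ : H) ∈ C x0 := by
      show g • ((x0 : G) • a) = _
      rw [show (x0 : G) • a = b' from hx0]; exact hgb
    rw [Subgroup.card_eq_one.1 (hc ▸ h1 : Nat.card (C x0) = 1), Subgroup.mem_bot] at this
    exact congrArg Subtype.val this
  set m := Nat.card (MulAction.orbit H ((x0 : G) • a)) with hm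
  have hmc : m * c = Nat.card H := by
    rw [hm, Nat.card_congr (MulAction.orbitEquivQuotientStabilizer H _)]
    exact (Subgroup.card_eq_card_quotient_mul_card_subgroup (C x0)).symm
  -- a group acting on a subset
  have horbits : ∀ (K : Subgroup H) (S : Set Ω), (∀ k ∈ K, ∀ s ∈ S, (k : G) • s ∈ S) →
      ∀ e : ℕ, (∀ s ∈ S, Nat.card (MulAction.orbit K s) = e) → e ∣ Nat.card S := by
    intro K S hS e he
    let X : SubMulAction K Ω := ⟨S, fun k s hs => hS k k.2 s hs⟩
    have hcX : ∀ o : MulAction.orbitRel.Quotient K X, Nat.card o.orbit = e := fun o => by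
      obtain ⟨s, rfl⟩ := Quotient.mk''_surjective o
      rw [MulAction.orbitRel.Quotient.orbit_mk, ← he s s.2]
      refine Nat.card_congr ?_
      refine (Equiv.Set.image Subtype.val _ Subtype.val_injective).trans (Equiv.setCongr ?_)
      ext z
      constructor
      · rintro ⟨_, ⟨k, rfl⟩, rfl⟩; exact ⟨k, rfl⟩
      · rintro ⟨k, rfl⟩; exact ⟨k • s, ⟨k, rfl⟩, rfl⟩
    have := Fintype.ofFinite (MulAction.orbitRel.Quotient K X)
    show e ∣ Nat.card X
    rw [Nat.card_congr (MulAction.selfEquivSigmaOrbits' K X), Nat.card_sigma]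
    exact Finset.dvd_sum fun o _ => (hcX o).symm ▸ dvd_rfl
  have hn : Nat.card Ω = Nat.card N := (Nat.card_eq_of_bijective _ hbij).symm
  have hm1 : m ∣ Nat.card N - 1 := by
    have h := horbits ⊤ ({a}ᶜ : Set Ω) (fun k _ s hs hks => hs (by
        have : (k : G) • s = (k : G) • a := (hks : (k : G) • s = a).trans (k.2 : (k : G) • a = a).symm
        exact smul_left_cancel _ this)) m (fun s hs => by
      rw [hm, ← hhalf a s _ hs (hne1 x0 hx0')]
      refine Nat.card_congr (Equiv.setCongr ?_)
      ext z
      constructor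
      · rintro ⟨k, rfl⟩; exact ⟨k.1, rfl⟩
      · rintro ⟨k, rfl⟩; exact ⟨⟨k, trivial⟩, rfl⟩)
    rwa [Nat.card_coe_set_eq, Set.ncard_compl, Set.ncard_singleton, hn] at h
  have hcop : Nat.Coprime m (Nat.card N) := by
    refine Nat.coprime_of_dvd fun p hp h1 h2 => ?_
    have h3 := Nat.dvd_sub h2 (h1.trans hm1)
    rw [Nat.sub_sub_self Nat.card_pos, Nat.dvd_one] at h3
    exact hp.one_lt.ne' h3
  -- constancy on a part
  have key : ∀ S : Set N, (1 : N) ∉ S → Nat.card S ∣ Nat.card N →
      (∀ h : H, ∀ y ∈ S, act h y ∈ S → ∀ z ∈ S, act h z ∈ S) → ∀ y ∈ S, ∀ z ∈ S, C y = C z := by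
    intro S h1S hSd hblock
    let K : Subgroup H :=
      { carrier := {h | (∀ z ∈ S, act h z ∈ S)}
        one_mem' := fun z hz => by
          convert hz; exact Subtype.ext (by simp [act])
        mul_mem' := fun {g h} hg hh z hz => by
          convert hg _ (hh z hz) using 1; exact Subtype.ext (by simp [act, mul_assoc])
        inv_mem' := fun {h} hh z hz => by
          obtain ⟨⟨w, hw⟩, hwz⟩ := (Finite.injective_iff_surjective (f := fun w : S => (⟨act h w, hh w w.2⟩ : S))).1
            (fun u v e => by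
              have := congrArg (fun w : S => ((w : N) : G)) e
              exact Subtype.ext (Subtype.ext (by simpa [act] using this))) ⟨z, hz⟩
          have hwz' : act h w = z := congrArg Subtype.val hwz
          rw [← hwz']
          convert hw using 1
          exact Subtype.ext (by simp [act, mul_assoc]) }
    have hCK : ∀ y ∈ S, C y ≤ K := fun y hy h hh => hblock h y hy (by
      rw [show act h y = y from Subtype.ext (mul_inv_eq_iff_eq_mul.2 ((hmemC h y).1 hh))]; exact hy)
    intro y hy
    suffices hK : C y = K by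
      intro z hz
      have hle : C z ≤ C y := hK ▸ hCK z hz
      refine (Subgroup.eq_of_le_of_card_ge hle (le_of_eq ?_)).symm
      rw [hCcard y (fun e => h1S (e ▸ hy)), hCcard z (fun e => h1S (e ▸ hz))]
    have horb : ∀ z ∈ S, Nat.card (MulAction.orbit K ((z : G) • a)) * c = Nat.card K := by
      intro z hz
      rw [Nat.card_congr (MulAction.orbitEquivQuotientStabilizer K _),
        ← hCcard z (fun e => h1S (e ▸ hz))]
      rw [show MulAction.stabilizer K ((z : G) • a) = (C z).subgroupOf K from rfl,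
        ← Nat.card_congr (Subgroup.subgroupOfEquivOfLe (hCK z hz)).toEquiv]
      exact (Subgroup.card_eq_card_quotient_mul_card_subgroup _).symm
    set e := Nat.card (MulAction.orbit K ((y : G) • a)) with he
    have hed : e ∣ Nat.card S := by
      have h := horbits K ((fun x : N => (x : G) • a) '' S) (by
        rintro k hk _ ⟨z, hz, rfl⟩
        exact ⟨act k z, hk z hz, hact k z⟩) e (by
        rintro _ ⟨z, hz, rfl⟩
        exact Nat.eq_of_mul_eq_mul_right (Nat.card_pos : 0 < c) ((horb z hz).trans (horb y hy).symm))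
      rwa [Nat.card_image_of_injective hbij.1] at h
    have hem : e ∣ m := by
      have hd : e * c ∣ m * c := by
        rw [hmc, horb y hy]; exact Subgroup.card_subgroup_dvd_card K
      exact Nat.dvd_of_mul_dvd_mul_right Nat.card_pos hd
    have he1 : e = 1 := Nat.dvd_one.1 (hcop.gcd_eq_one ▸ Nat.dvd_gcd hem (hed.trans hSd))
    refine Subgroup.eq_of_le_of_card_ge (hCK y hy) (le_of_eq ?_)
    rw [hCcard y (fun e => h1S (e ▸ hy)), ← horb y hy, ← he, he1, one_mul]
  have hfaith : ∀ h : H, (∀ x : N, (h : G) * x = x * h) → h = 1 := fun h hh => by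
    apply Subtype.ext
    refine eq_of_smul_eq_smul (α := Ω) fun b => ?_
    obtain ⟨x, rfl⟩ := hbij.2 b
    show (h : G) • ((x : G) • a) = _
    rw [← mul_smul, hh x, mul_smul, (h.2 : (h : G) • a = a)]
    exact (one_smul G _).symm
  have hCne : ∀ x : N, x ≠ 1 → C x ≠ ⊥ := fun x hx e => hc1 (by
    rw [← hCcard x hx, e, Subgroup.card_bot])
  -- no proper invariant subgroup
  have hirr : ∀ M : Subgroup N, (∀ h : H, ∀ x ∈ M, act h x ∈ M) → M ≠ ⊥ → M = ⊤ := by
    intro M hM hMb
    by_contra hMt
    obtain ⟨s, hs, hs1⟩ := M.bot_or_exists_ne_one.resolve_left hMb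
    obtain ⟨y, hy⟩ : ∃ y, y ∉ M := by
      by_contra hc
      push Not at hc
      exact hMt ((Subgroup.eq_top_iff' M).2 hc)
    have hys : ∀ y : N, y ∉ M → ∀ s ∈ M, C y = C (y * s) := by
      intro y hy s hs
      refine key {z | y⁻¹ * z ∈ M} (fun h => hy (by simpa using h)) ?_ ?_ y (by simp) (y * s) (by simpa using hs)
      · rw [← Nat.card_congr (α := M) (β := {z | y⁻¹ * z ∈ M})
          { toFun := fun w => ⟨y * w, by simp⟩
            invFun := fun w => ⟨y⁻¹ * w.1, w.2⟩
            left_inv := fun w => by ext; simp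
            right_inv := fun w => by ext; simp }]
        exact Subgroup.card_subgroup_dvd_card M
      · intro h u hu hhu z hz
        have e : y⁻¹ * act h z = (y⁻¹ * act h u) * act h ((y⁻¹ * u)⁻¹ * (y⁻¹ * z)) := by
          apply Subtype.ext
          simp [act, mul_assoc]
        show y⁻¹ * act h z ∈ M
        rw [e]
        exact mul_mem hhu (hM h _ (mul_mem (inv_mem hu) hz))
    have hall : ∀ z : N, z ≠ 1 → C y ≤ C z := by
      have hM' : ∀ u ∈ M, u ≠ 1 → ∀ y, y ∉ M → C u = C y := by
        intro u hu hu1 y hy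
        refine (Subgroup.eq_of_le_of_card_ge (fun h hh => ?_) ?_).symm
        · have h2 : h ∈ C (y * u) := hys y hy u hu ▸ hh
          rw [hmemC] at hh h2 ⊢
          rw [Subgroup.coe_mul, ← mul_assoc, hh, mul_assoc, mul_assoc] at h2
          exact mul_left_cancel h2
        · rw [hCcard u hu1, hCcard y (fun e => hy (e ▸ one_mem M))]
      intro z hz
      by_cases hzM : z ∈ M
      · exact (hM' z hzM hz y hy).ge
      · exact ((hM' s hs hs1 y hy).symm.trans (hM' s hs hs1 z hzM)).le
    refine hCne y (fun e => hy (e ▸ one_mem M)) ((Subgroup.eq_bot_iff_forall _).2 fun h hh => hfaith h fun x => ?_)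
    by_cases hx : x = 1
    · subst hx; simp
    · exact (hmemC h x).1 (hall x hx hh)
  -- conjugates have the same centraliser
  have hcls : ∀ x z : N, x ≠ 1 → C x = C (z * x * z⁻¹) := by
    intro x z hx
    refine key (Set.range fun w : N => w * x * w⁻¹) ?_ ?_ ?_ x ⟨1, by simp⟩ _ ⟨z, rfl⟩
    · rintro ⟨w, hw⟩
      exact hx (by simpa using hw)
    · have horb : (Set.range fun w : N => w * x * w⁻¹) = MulAction.orbit (ConjAct N) x := by
        ext u
        constructor
        · rintro ⟨w, rfl⟩; exact ⟨ConjAct.toConjAct w, rfl⟩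
        · rintro ⟨w, rfl⟩; exact ⟨ConjAct.ofConjAct w, rfl⟩
      rw [horb, Nat.card_congr (MulAction.orbitEquivQuotientStabilizer (ConjAct N) x)]
      exact Subgroup.card_quotient_dvd_card _
    · rintro h _ ⟨u, rfl⟩ ⟨v, hv⟩ _ ⟨w, rfl⟩
      refine ⟨act h w * (act h u)⁻¹ * v, ?_⟩
      have hv' := hv
      calc act h w * (act h u)⁻¹ * v * x * (act h w * (act h u)⁻¹ * v)⁻¹
          = act h w * (act h u)⁻¹ * (v * x * v⁻¹) * act h u * (act h w)⁻¹ := by group
        _ = act h w * (act h u)⁻¹ * act h (u * x * u⁻¹) * act h u * (act h w)⁻¹ := by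
          simp only at hv'
          rw [hv']
        _ = act h (w * x * w⁻¹) := Subtype.ext (by simp [act, mul_assoc])
  have hactEq : ∀ h : H, ∀ x, act h x = MulAut.conjNormal (h : G) x := fun h x => Subtype.ext rfl
  -- the subgroup generated by minimal normal subgroups of a kind
  have hab : ∀ u v : N, u * v = v * u := by
    by_contra hnab
    have hNne : Nontrivial N := ⟨⟨x0, 1, hx0'⟩⟩
    have hsSup : ∀ P : Subgroup N → Prop,
        (∀ (f : N ≃* N) (M : Subgroup N), P M → P (M.map f.toMonoidHom)) →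
        (∃ M, M ≠ ⊥ ∧ P M) → sSup {M | P M} = ⊤ := by
      intro P hP hex
      refine hirr _ (fun h x hx => ?_) ?_
      · have hle : (sSup {M | P M}).map (MulAut.conjNormal (h : G) : MulAut N).toMonoidHom ≤ sSup {M | P M} := by
          rw [Subgroup.map_le_iff_le_comap, sSup_le_iff]
          intro M hM
          rw [← Subgroup.map_le_iff_le_comap]
          exact le_sSup (hP _ M hM)
        exact hle ⟨x, hx, (hactEq h x).symm⟩
      · obtain ⟨M, hM, hPM⟩ := hex
        exact fun e => hM (le_bot_iff.1 (e ▸ le_sSup (show M ∈ {M | P M} from hPM)))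
    have hmap : ∀ (f : N ≃* N) (M : Subgroup N), Recog.IsMinNormal M → Recog.IsMinNormal (M.map f.toMonoidHom) := by
      intro f M hM
      have := hM.normal
      refine ⟨Subgroup.Normal.map inferInstance _ f.surjective, fun e => hM.ne_bot
        ((Subgroup.map_eq_bot_iff_of_injective _ f.injective).1 e), fun K hK hKle => ?_⟩
      rcases hM.minimal (K.comap f.toMonoidHom) (hK.comap _) (by
        intro z hz
        obtain ⟨w, hw, he⟩ := hKle hz
        exact (f.injective he) ▸ hw) with h | h
      · left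
        rw [← Subgroup.map_comap_eq_self_of_surjective (f := f.toMonoidHom) f.surjective K, h, Subgroup.map_bot]
      · right
        rw [← h]
        exact (Subgroup.map_comap_eq_self_of_surjective (f := f.toMonoidHom) f.surjective K).symm
    have hdisj : ∀ {L M : Subgroup N}, Recog.IsMinNormal L → Recog.IsMinNormal M → L ≠ M → L ⊓ M = ⊥ := by
      intro L M hL hM hne
      have := hL.normal
      have := hM.normal
      rcases hL.minimal (L ⊓ M) inferInstance inf_le_left with h | h
      · exact h
      · rcases hM.minimal (L ⊓ M) inferInstance inf_le_right with h' | h'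
        · exact h'
        · exact absurd (h.symm.trans h') hne
    obtain ⟨M₀, hM₀⟩ := Recog.exists_isMinNormal (G := N)
    by_cases hA : ∃ M : Subgroup N, Recog.IsMinNormal M ∧ IsMulCommutative M
    · apply hnab
      obtain ⟨M, hM⟩ := hA
      have htop := hsSup (fun M => Recog.IsMinNormal M ∧ IsMulCommutative M) (fun f M hM => ⟨hmap f M hM.1,
        ⟨⟨fun p q => by
          obtain ⟨_, p, hp, rfl⟩ := p
          obtain ⟨_, q, hq, rfl⟩ := q
          apply Subtype.ext
          show f p * f q = f q * f p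
          rw [← map_mul, ← map_mul, show p * q = q * p from congrArg Subtype.val (hM.2.is_comm.comm ⟨p, hp⟩ ⟨q, hq⟩)]⟩⟩⟩)
        ⟨M, hM.1.ne_bot, hM⟩
      have hcen : (⊤ : Subgroup N) ≤ Subgroup.center N := by
        rw [← htop, sSup_le_iff]
        rintro L ⟨hL, hLc⟩
        intro p hp
        rw [Subgroup.mem_center_iff]
        have hle : (⊤ : Subgroup N) ≤ Subgroup.centralizer {p} := by
          rw [← htop, sSup_le_iff]
          rintro L' ⟨hL', -⟩ q hq
          rw [Subgroup.mem_centralizer_singleton_iff]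
          by_cases hLL : L' = L
          · subst hLL
            exact congrArg Subtype.val (hLc.is_comm.comm ⟨q, hq⟩ ⟨p, hp⟩)
          · exact Subgroup.commute_of_normal_of_disjoint _ _ hL'.normal hL.normal
              (disjoint_iff.2 (hdisj hL' hL hLL)) q p hq hp
        exact fun q => Subgroup.mem_centralizer_singleton_iff.1 (hle (Subgroup.mem_top q))
      intro u v
      exact (Subgroup.mem_center_iff.1 (hcen (Subgroup.mem_top u)) v).symm
    · -- all minimal normal subgroups have trivial centre
      have hmove : ∀ (M : Subgroup N), Recog.IsMinNormal M → ∀ x ∈ M, x ≠ 1 → ∃ u ∈ M, u * x * u⁻¹ * x⁻¹ ≠ 1 := by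
        intro M hM x hx hx1
        by_contra hc
        push Not at hc
        have hcM : ¬ IsMulCommutative M := fun h => hA ⟨M, hM, h⟩
        have := hM.inf_centralizer hcM
        have hxc : x ∈ M ⊓ Subgroup.centralizer (M : Set N) := ⟨hx, Subgroup.mem_centralizer_iff.2 fun u hu => by
          have := hc u hu
          rwa [mul_inv_eq_one, mul_inv_eq_iff_eq_mul] at this⟩
        rw [this, Subgroup.mem_bot] at hxc
        exact hx1 hxc
      have hmeet : ∀ (M : Subgroup N), Recog.IsMinNormal M → ∀ x ∈ M, x ≠ 1 → ∀ z : N,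
          (∀ u ∈ M, u * z * u⁻¹ * z⁻¹ = u * x * u⁻¹ * x⁻¹) → z ≠ 1 →
          ∃ w ∈ M, w ≠ 1 ∧ C z ≤ C w := by
        intro M hM x hx hx1 z hz hz1
        obtain ⟨u, hu, hw⟩ := hmove M hM x hx hx1
        refine ⟨u * x * u⁻¹ * x⁻¹, mul_mem (hM.normal.conj_mem x hx u) (inv_mem hx), hw, fun h hh => ?_⟩
        have h2 : h ∈ C (u * z * u⁻¹) := hcls z u hz1 ▸ hh
        rw [← hz u hu, hmemC]
        rw [hmemC] at hh h2
        have hc1 : Commute (h : G) ((u * z * u⁻¹ : N) : G) := h2
        have hc2 : Commute (h : G) ((z : G)⁻¹) := Commute.inv_right hh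
        simpa using (hc1.mul_right hc2).eq
      -- constant on each minimal normal subgroup
      have hconst : ∀ (M : Subgroup N), Recog.IsMinNormal M → ∀ x ∈ M, x ≠ 1 → ∀ y ∈ M, y ≠ 1 → C x = C y := by
        intro M hM x hx hx1 y hy hy1
        refine Subgroup.eq_of_le_of_card_ge ?_ (le_of_eq ((hCcard y hy1).trans (hCcard x hx1).symm))
        have := hM.normal
        let Z : Subgroup N :=
          { carrier := {z | ∀ h ∈ C x, (h : G) * z = z * h}
            one_mem' := fun h _ => by simp
            mul_mem' := fun {p q} hp hq h hh => by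
              rw [Subgroup.coe_mul, ← mul_assoc, hp h hh, mul_assoc, hq h hh, mul_assoc]
            inv_mem' := fun {p} hp h hh => by
              rw [Subgroup.coe_inv]; exact (Commute.inv_right (hp h hh)) }
        have hle : Subgroup.normalClosure {x} ≤ Z := by
          rw [Subgroup.normalClosure, Subgroup.closure_le]
          intro w hw h hh
          obtain ⟨t, ht, htw⟩ := Group.mem_conjugatesOfSet_iff.1 hw
          obtain ⟨g, rfl⟩ := isConj_iff.1 htw
          rw [Set.mem_singleton_iff] at ht
          subst ht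
          exact (hmemC h _).1 (hcls t g hx1 ▸ hh)
        rcases hM.minimal _ Subgroup.normalClosure_normal (Subgroup.normalClosure_le_normal (Set.singleton_subset_iff.2 hx)) with h | h
        · exact absurd (Subgroup.mem_bot.1 (h ▸ Subgroup.subset_normalClosure (Set.mem_singleton x))) hx1
        · intro k hk
          exact (hmemC k y).2 (hle (h ▸ hy) k hk)
      obtain ⟨x, hx, hx1⟩ := M₀.bot_or_exists_ne_one.resolve_left hM₀.ne_bot
      refine hCne x hx1 ((Subgroup.eq_bot_iff_forall _).2 fun h hh => hfaith h fun u => ?_)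
      let Z : Subgroup N :=
        { carrier := {z | (h : G) * z = z * h}
          one_mem' := by simp
          mul_mem' := fun {p q} hp hq => by
            show (h : G) * ((p : G) * q) = (p : G) * q * h
            rw [← mul_assoc, hp, mul_assoc, hq, mul_assoc]
          inv_mem' := fun {p} hp => by
            show (h : G) * (p : G)⁻¹ = (p : G)⁻¹ * h
            exact (Commute.inv_right hp) }
      have htop := hsSup Recog.IsMinNormal hmap ⟨M₀, hM₀.ne_bot, hM₀⟩
      have hle : sSup {M | Recog.IsMinNormal M} ≤ Z := by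
        rw [sSup_le_iff]
        intro L hL y hy
        by_cases hy1 : y = 1
        · subst hy1; exact one_mem Z
        by_cases hLM : L = M₀
        · subst hLM
          exact (hmemC h y).1 (hconst L hL x hx hx1 y hy hy1 ▸ hh)
        have hcom : ∀ p ∈ M₀, ∀ q ∈ L, p * q = q * p := fun p hp q hq =>
          Subgroup.commute_of_normal_of_disjoint _ _ hM₀.normal hL.normal
            (disjoint_iff.2 (hdisj hM₀ hL (Ne.symm hLM))) p q hp hq
        have hz1 : x * y ≠ 1 := fun e => by
          have hxL : x ∈ M₀ ⊓ L := ⟨hx, eq_inv_of_mul_eq_one_left e ▸ L.inv_mem hy⟩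
          rw [hdisj hM₀ hL (Ne.symm hLM), Subgroup.mem_bot] at hxL
          exact hx1 hxL
        obtain ⟨w, hw, hw1, hCw⟩ := hmeet M₀ hM₀ x hx hx1 (x * y) (fun p hp => by
          calc p * (x * y) * p⁻¹ * (x * y)⁻¹ = p * x * (y * p⁻¹) * y⁻¹ * x⁻¹ := by group
            _ = p * x * (p⁻¹ * y) * y⁻¹ * x⁻¹ := by rw [← hcom _ (inv_mem hp) _ hy]
            _ = p * x * p⁻¹ * x⁻¹ := by group) hz1
        obtain ⟨w', hw', hw1', hCw'⟩ := hmeet L hL y hy hy1 (x * y) (fun q hq => by
          calc q * (x * y) * q⁻¹ * (x * y)⁻¹ = (q * x) * y * q⁻¹ * y⁻¹ * x⁻¹ := by group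
            _ = (x * q) * y * q⁻¹ * y⁻¹ * x⁻¹ := by rw [hcom _ hx _ hq]
            _ = x * (q * y * q⁻¹ * y⁻¹) * x⁻¹ := by group
            _ = (q * y * q⁻¹ * y⁻¹) * x * x⁻¹ := by
              rw [hcom _ hx _ (mul_mem (hL.normal.conj_mem y hy q) (inv_mem hy))]
            _ = q * y * q⁻¹ * y⁻¹ := by group) hz1
        have e1 := Subgroup.eq_of_le_of_card_ge hCw (le_of_eq ((hCcard w hw1).trans (hCcard _ hz1).symm))
        have e2 := Subgroup.eq_of_le_of_card_ge hCw' (le_of_eq ((hCcard w' hw1').trans (hCcard _ hz1).symm))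
        apply (hmemC h y).1
        rw [hconst L hL y hy hy1 w' hw' hw1', ← e2, e1, ← hconst M₀ hM₀ x hx hx1 w hw hw1]
        exact hh
      exact hle (htop ▸ Subgroup.mem_top u)
  have hexp : ∃ p : ℕ, p.Prime ∧ ∀ x ∈ N, x ^ p = 1 := by
    obtain ⟨p, hp, hpd⟩ := Nat.exists_prime_and_dvd (fun h : Nat.card N = 1 => hx0' (by
      have := (Nat.card_eq_one_iff_unique.1 h).1
      exact Subsingleton.elim _ _))
    have := Fact.mk hp
    let M : Subgroup N :=
      { carrier := {x | x ^ p = 1}
        one_mem' := one_pow p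
        mul_mem' := fun {u v} hu hv => by
          show (u * v) ^ p = 1
          rw [Commute.mul_pow (hab u v), hu, hv, one_mul]
        inv_mem' := fun {u} hu => by
          show u⁻¹ ^ p = 1
          rw [inv_pow, hu, inv_one] }
    obtain ⟨x, hx⟩ := exists_prime_orderOf_dvd_card' (G := N) p hpd
    have hMt := hirr M (fun h u hu => by
      show act h u ^ p = 1
      rw [hactEq, ← map_pow, show u ^ p = 1 from hu, map_one]) (fun e => by
      have hxM : x ∈ M := by show x ^ p = 1; rw [← hx]; exact pow_orderOf_eq_one x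
      rw [e, Subgroup.mem_bot] at hxM
      rw [hxM, orderOf_one] at hx
      exact hp.one_lt.ne hx)
    exact ⟨p, hp, fun u hu => congrArg Subtype.val (show (⟨u, hu⟩ : N) ^ p = 1 from (hMt ▸ Subgroup.mem_top _ : (⟨u, hu⟩ : N) ∈ M))⟩
  obtain ⟨p, hp, hpow⟩ := hexp
  refine ⟨⟨p, hp, ⟨⟨hab⟩⟩, hpow⟩, fun M hM hM1 => ?_⟩
  by_cases hMN : M.subgroupOf N = ⊥
  · exfalso
    refine hM1 ((Subgroup.eq_bot_iff_forall M).2 fun g hg => ?_)
    have hcent : ∀ x : N, g * x = x * g := fun x => by
      have hmem : (⟨g * x * g⁻¹ * (x : G)⁻¹, mul_mem (hN.conj_mem _ x.2 _) (inv_mem x.2)⟩ : N) ∈ M.subgroupOf N := by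
        show g * x * g⁻¹ * (x : G)⁻¹ ∈ M
        have := mul_mem hg (hM.conj_mem _ (inv_mem hg) (x : G))
        simpa [mul_assoc] using this
      rw [hMN, Subgroup.mem_bot] at hmem
      have := congrArg Subtype.val hmem
      simp only [Subgroup.coe_one] at this
      rwa [mul_inv_eq_one, mul_inv_eq_iff_eq_mul] at this
    obtain ⟨n₁, hn₁⟩ := MulAction.exists_smul_eq N a (g • a)
    have hh : (n₁ : G)⁻¹ * g ∈ MulAction.stabilizer G a := by
      show ((n₁ : G)⁻¹ * g) • a = a
      rw [mul_smul, inv_smul_eq_iff]; exact hn₁.symm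
    have h1 := hfaith ⟨_, hh⟩ fun x => by
      show (n₁ : G)⁻¹ * g * x = x * ((n₁ : G)⁻¹ * g)
      rw [mul_assoc, hcent x, ← mul_assoc, ← mul_assoc]
      have := congrArg Subtype.val (hab n₁⁻¹ x)
      simp only [Subgroup.coe_mul, Subgroup.coe_inv] at this
      rw [this]
    have hgn : g = (n₁ : G) := (inv_mul_eq_one.1 (congrArg Subtype.val h1)).symm
    have hmem : (⟨g, hgn ▸ n₁.2⟩ : N) ∈ M.subgroupOf N := hg
    rw [hMN, Subgroup.mem_bot] at hmem
    exact congrArg Subtype.val hmem
  · have ht := hirr (M.subgroupOf N) (fun h x hx => hM.conj_mem _ hx _) hMN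
    exact Subgroup.subgroupOf_eq_top.1 ht

end Cfsg.Agent.S3356
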