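import Cfsg.Statements.S3357
import Cfsg.Agent.Lib.Zassenhaus.CharZero

set_option autoImplicit false
open Cfsg

namespace Cfsg.Agent.S3357

/-- Let G be a finite group that occurs as a Frobenius complement. Then G has a faithful irreducible representation over an algebraic closure of the rationals in which no non-identity element of G has 1 as an eigenvalue: there are n ≥ 1 and an injective homomorphism ρ from G to GL(n) over that field, with no invariant subspace other than 0 and the whole space, such that for g ≠ 1 the only vector fixed by ρ(g) is 0. -/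
theorem result {G : Type*} [Group G] [Finite G]
    (hFC : ∃ (L : Type) (_ : Group L) (_ : Finite L) (H : Subgroup L), Cfsg.IsFrobeniusComplement H ∧ Nonempty (G ≃* H)) :
    ∃ (n : ℕ) (ρ : G →* GL (Fin n) (AlgebraicClosure ℚ)), 0 < n ∧ Function.Injective ρ ∧
      (∀ W : Submodule (AlgebraicClosure ℚ) (Fin n → AlgebraicClosure ℚ),
        (∀ g : G, ∀ w ∈ W, ((ρ g : GL (Fin n) (AlgebraicClosure ℚ)) : Matrix (Fin n) (Fin n) (AlgebraicClosure ℚ)).mulVec w ∈ W) → W = ⊥ ∨ W = ⊤) ∧
      ∀ g : G, g ≠ 1 → ∀ v : Fin n → AlgebraicClosure ℚ,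
        ((ρ g : GL (Fin n) (AlgebraicClosure ℚ)) : Matrix (Fin n) (Fin n) (AlgebraicClosure ℚ)).mulVec v = v → v = 0 := by
  classical
  have hfc : Zassenhaus.FC G := Zassenhaus.fc_of_exists hFC
  obtain ⟨m, σ, hσ⟩ := hfc.intFpf
  let V := Fin (m + 1) → AlgebraicClosure ℚ
  let i := Int.castRingHom (AlgebraicClosure ℚ)
  let A : G →* Matrix (Fin (m + 1)) (Fin (m + 1)) (AlgebraicClosure ℚ) := i.mapMatrix.toMonoidHom.comp σ
  have hA : ∀ g : G, g ≠ 1 → ∀ v : V, (A g).mulVec v = v → v = 0 := by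
    intro g hg v hv
    have hdet : (A g - 1).det ≠ 0 := by
      have e : A g - 1 = i.mapMatrix (σ g - 1) := by
        rw [map_sub, map_one]; rfl
      rw [e, ← RingHom.map_det]
      show ((σ g - 1).det : AlgebraicClosure ℚ) ≠ 0
      exact Int.cast_ne_zero.2 (hσ g hg)
    refine Matrix.eq_zero_of_mulVec_eq_zero hdet ?_
    rw [Matrix.sub_mulVec, Matrix.one_mulVec, hv, sub_self]
  let S : Set ℕ := {d | ∃ U : Submodule (AlgebraicClosure ℚ) V, U ≠ ⊥ ∧ (∀ g, ∀ u ∈ U, (A g).mulVec u ∈ U) ∧
    Module.finrank (AlgebraicClosure ℚ) U = d}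
  have hS : S.Nonempty := ⟨_, ⊤, top_ne_bot, fun g u _ => trivial, rfl⟩
  obtain ⟨U, hU, hinv, hdim⟩ := Nat.sInf_mem hS
  have hmin : ∀ U' : Submodule (AlgebraicClosure ℚ) V, U' ≠ ⊥ → U' ≤ U → (∀ g, ∀ u ∈ U', (A g).mulVec u ∈ U') → U' = U :=
    fun U' h1 h2 h3 => Submodule.eq_of_le_of_finrank_le h2 (hdim ▸ Nat.sInf_le ⟨U', h1, h3, rfl⟩)
  set d := Module.finrank (AlgebraicClosure ℚ) U
  let b := Module.finBasis (AlgebraicClosure ℚ) U
  let R : G →* Module.End (AlgebraicClosure ℚ) U :=
    { toFun := fun g => (Matrix.toLin' (A g)).restrict (fun u hu => by rw [Matrix.toLin'_apply]; exact hinv g u hu)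
      map_one' := LinearMap.ext fun u => Subtype.ext (by simp [map_one A])
      map_mul' := fun g h => LinearMap.ext fun u => Subtype.ext (by simp [map_mul A, Matrix.mulVec_mulVec]) }
  let M : G →* Matrix (Fin d) (Fin d) (AlgebraicClosure ℚ) :=
    (LinearMap.toMatrixAlgEquiv b).toMulEquiv.toMonoidHom.comp R
  let ρ : G →* GL (Fin d) (AlgebraicClosure ℚ) := M.toHomUnits
  have hρ : ∀ g, ((ρ g : GL (Fin d) (AlgebraicClosure ℚ)) : Matrix (Fin d) (Fin d) (AlgebraicClosure ℚ)) = M g :=
    fun g => MonoidHom.coe_toHomUnits M g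
  have hact : ∀ g (u : U), (M g).mulVec (b.equivFun u) = b.equivFun (R g u) := by
    intro g u
    exact LinearMap.toMatrix_mulVec_repr b b (R g) u
  have hfpf : ∀ g : G, g ≠ 1 → ∀ v : Fin d → AlgebraicClosure ℚ, (M g).mulVec v = v → v = 0 := by
    intro g hg v hv
    obtain ⟨u, rfl⟩ := b.equivFun.surjective v
    rw [hact] at hv
    have h0 := hA g hg u (by
      have := congrArg Subtype.val (b.equivFun.injective hv)
      exact this)
    rw [show u = 0 from Subtype.ext h0, map_zero]
  have hd0 : 0 < d := by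
    rw [Module.finrank_pos_iff]
    exact Submodule.nontrivial_iff_ne_bot.2 hU
  refine ⟨d, ρ, hd0, ?_, fun W hW => ?_, fun g hg v hv => hfpf g hg v (hρ g ▸ hv)⟩
  · rw [injective_iff_map_eq_one]
    intro g hg
    by_contra h
    have h1 : M g = 1 := by rw [← hρ, hg]; rfl
    have := hfpf g h (fun _ => 1) (by rw [h1, Matrix.one_mulVec])
    exact one_ne_zero (congrFun this ⟨0, hd0⟩)
  · by_cases hb : W = ⊥
    · exact Or.inl hb
    right
    let W' : Submodule (AlgebraicClosure ℚ) V := (W.comap b.equivFun.toLinearMap).map U.subtype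
    have e := hmin W' (by
      intro h
      apply hb
      rw [eq_bot_iff]
      intro w hw
      obtain ⟨u, rfl⟩ := b.equivFun.surjective w
      have : (u : V) ∈ W' := ⟨u, hw, rfl⟩
      rw [h, Submodule.mem_bot] at this
      rw [show u = 0 from Subtype.ext this, map_zero]
      exact Submodule.zero_mem _) (Submodule.map_subtype_le U _) (by
      rintro g _ ⟨u, hu, rfl⟩
      refine ⟨R g u, ?_, rfl⟩
      show b.equivFun (R g u) ∈ W
      rw [← hact, ← hρ]
      exact hW g _ hu)
    rw [eq_top_iff]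
    intro w _
    obtain ⟨u, rfl⟩ := b.equivFun.surjective w
    have : (u : V) ∈ W' := e.symm ▸ u.2
    obtain ⟨u', hu', he⟩ := this
    rw [← show u' = u from Subtype.ext he]
    exact hu'

end Cfsg.Agent.S3357
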