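import Cfsg.Statements.S3358
import Cfsg.Agent.Lib.Zassenhaus.SixTypes
import Cfsg.Agent.Lib.Zassenhaus.PrimePairs
import Cfsg.Agent.Lib.Zassenhaus.ZPres

set_option autoImplicit false
open Cfsg

namespace Cfsg.Agent.S3358

/-- the regular embedding of the Klein four group into `Perm (Fin 4)` -/
theorem exists_embed_four : ∃ e : DihedralGroup 2 →* Equiv.Perm (Fin 4), Function.Injective e := by
  let c : DihedralGroup 2 ≃ Fin 4 := Fintype.equivFinOfCardEq (by rw [DihedralGroup.card])
  refine ⟨c.permCongrHom.toMonoidHom.comp (MulAction.toPermHom (DihedralGroup 2) (DihedralGroup 2)),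
    c.permCongrHom.injective.comp ?_⟩
  intro a b h
  simpa using congrArg (fun e : Equiv.Perm (DihedralGroup 2) => e 1) h

open Zassenhaus

/-- Structure of solvable Frobenius complements. Let G be a finite solvable group that occurs as a Frobenius complement. Then G has a normal subgroup G₀ such that G/G₀ is isomorphic to a subgroup of Sym(4) (G₀ is the kernel of a homomorphism to Sym(4)), all Sylow subgroups of G₀ are cyclic, and G₀ has a presentation ⟨x, y | x^n = 1, y^m = 1, x⁻¹ y x = y^r⟩ with n, m ≥ 1, gcd(r − 1, m) = gcd(n, m) = 1 and r^(n/n′) ≡ 1 (mod m), where n′ is the product of the distinct primes dividing n. -/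
theorem result {G : Type*} [Group G] [Finite G] (hsol : Group.IsSolvable G)
    (hFC : ∃ (L : Type) (_ : Group L) (_ : Finite L) (H : Subgroup L), Cfsg.IsFrobeniusComplement H ∧ Nonempty (G ≃* H)) :
    ∃ G₀ : Subgroup G, G₀.Normal ∧
      (∃ f : G →* Equiv.Perm (Fin 4), f.ker = G₀) ∧
      (∀ (p : ℕ) [Fact p.Prime] (P : Sylow p G₀), IsCyclic P) ∧
      ∃ n m r : ℕ, 0 < n ∧ 0 < m ∧ Nat.Coprime (r - 1) m ∧ Nat.Coprime n m ∧ 1 ≤ r ∧
        r ^ (n / ∏ p ∈ n.primeFactors, p) % m = 1 % m ∧
        Nonempty (G₀ ≃* PresentedGroup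
          ({FreeGroup.of (0 : Fin 2) ^ n, FreeGroup.of (1 : Fin 2) ^ m,
            (FreeGroup.of (0 : Fin 2))⁻¹ * FreeGroup.of 1 * FreeGroup.of 0 * (FreeGroup.of (1 : Fin 2) ^ r)⁻¹} :
            Set (FreeGroup (Fin 2)))) := by
  have hF := fc_of_exists hFC
  obtain ⟨N, ⟨hN, hZ, hT⟩, -⟩ := six_types hF
  refine ⟨N, hN, ?_, fun p hp P => isZGroup_iff_sylow.mpr hZ p P, ?_⟩
  · rcases hT with rfl | h | h | h | h | h
    · exact ⟨1, by simp⟩
    · obtain ⟨f, -, rfl⟩ := h
      obtain ⟨e, he⟩ := exists_embed_four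
      exact ⟨e.comp f, (MonoidHom.ker_comp_of_injective f e he)⟩
    · obtain ⟨f, -, rfl⟩ := h
      exact ⟨(alternatingGroup (Fin 4)).subtype.comp f,
        MonoidHom.ker_comp_of_injective f _ (Subgroup.subtype_injective _)⟩
    · obtain ⟨f, -, rfl⟩ := h
      exact ⟨f, rfl⟩
    · obtain ⟨f, hf, -⟩ := h
      haveI := hsol
      have hA : Group.IsSolvable (alternatingGroup (Fin 5)) := solvable_of_surjective hf
      exact absurd hA (by
        intro h5
        have := h5.commutator_lt_top_of_nontrivial (G := alternatingGroup (Fin 5))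
        rw [commutator_alternatingGroup_eq_top (by simp)] at this
        exact this.ne rfl)
    · obtain ⟨f, hf, -⟩ := h
      haveI := hsol
      exact absurd (solvable_of_surjective hf) (Equiv.Perm.fin_5_not_solvable)
  · haveI := hZ
    exact zgroup_presentation fun p q _ _ a b ha hb hn => (hF.subgroup N).prime_commute ha hb hn

end Cfsg.Agent.S3358
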