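import Cfsg.Statements.S3361
import Cfsg.Agent.Lib.Zassenhaus.RegularSolvable
import Cfsg.Agent.Lib.Recog.SemilinearGroups.Main

set_option autoImplicit false
open Cfsg

namespace Cfsg.Agent.S3361

open Zassenhaus Recog.SemiLin

theorem exists_cyclic_nine {G : Type*} [Group G] [Finite G] (hFC : FC G) (hc : Nat.card G = 8) :
    ∃ A : Subgroup G, A.Normal ∧ IsMulCommutative A ∧ Nat.card A = 4 := by
  haveI := Fact.mk Nat.prime_two
  have hp : IsPGroup 2 G := IsPGroup.of_card (n := 3) (by rw [hc]; norm_num)
  obtain ⟨x, hx⟩ : ∃ x : G, orderOf x = 4 := by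
    rcases hFC.two_group hp with h | ⟨n, ⟨e⟩⟩
    · obtain ⟨g, hg⟩ := isCyclic_iff_exists_zpowers_eq_top.mp h
      have ho : orderOf g = 8 := by rw [← Nat.card_zpowers, hg, Subgroup.card_top, hc]
      exact ⟨g ^ 2, by rw [orderOf_pow, ho]; norm_num⟩
    · haveI : NeZero (2 ^ n) := ⟨by positivity⟩
      have h := Nat.card_congr e.toEquiv
      rw [hc, Nat.card_eq_fintype_card, QuaternionGroup.card] at h
      refine ⟨e.symm (QuaternionGroup.a 1), ?_⟩
      rw [MulEquiv.orderOf_eq, QuaternionGroup.orderOf_a_one]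
      omega
  refine ⟨Subgroup.zpowers x, ?_, inferInstance, by rw [Nat.card_zpowers, hx]⟩
  refine Subgroup.normal_of_index_eq_two ?_
  have := (Subgroup.zpowers x).index_mul_card
  rw [Nat.card_zpowers, hx, hc] at this
  omega

theorem exists_normal_five {G : Type*} [Group G] [Finite G] (hFC : FC G) (hc : Nat.card G = 80) :
    ∃ A : Subgroup G, A.Normal ∧ IsMulCommutative A ∧ Nat.card A = 5 := by
  haveI := Fact.mk (by norm_num : Nat.Prime 5)
  haveI := Fact.mk Nat.prime_two
  obtain ⟨P⟩ := (inferInstance : Nonempty (Sylow 5 G))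
  have hP : Nat.card (P : Subgroup G) = 5 := by
    obtain ⟨j, hj⟩ := P.2.exists_card_eq
    have h1 : 5 ^ 1 ∣ Nat.card (P : Subgroup G) := P.pow_dvd_card_of_pow_dvd_card (by rw [hc]; norm_num)
    have h2 : Nat.card (P : Subgroup G) ∣ 80 := hc ▸ Subgroup.card_subgroup_dvd_card _
    rw [hj] at h1 h2 ⊢
    have : j < 2 := by
      by_contra h
      have := (pow_dvd_pow 5 (Nat.le_of_not_lt h)).trans h2
      norm_num at this
    have : 1 ≤ j := (Nat.pow_dvd_pow_iff_le_right (by norm_num)).mp h1
    rw [show j = 1 by omega]; norm_num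
  haveI : IsCyclic (P : Subgroup G) := isCyclic_of_prime_card hP
  haveI hPab : IsMulCommutative (P : Subgroup G) :=
    ⟨⟨fun a b => (IsCyclic.commGroup (α := (P : Subgroup G))).mul_comm a b⟩⟩
  refine ⟨P, ?_, hPab, hP⟩
  by_contra hPn
  have hidx : (P : Subgroup G).index = 16 := by
    have := (P : Subgroup G).index_mul_card
    rw [hP, hc] at this; omega
  have hN : Subgroup.normalizer ((P : Subgroup G) : Set G) = P := by
    have h1 : Nat.card (Sylow 5 G) = (Subgroup.normalizer ((P : Subgroup G) : Set G)).index :=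
      P.card_eq_index_normalizer
    have h2 : Nat.card (Sylow 5 G) ∣ 16 := hidx ▸ P.card_dvd_index
    have h3 := card_sylow_modEq_one 5 G
    have h4 : Nat.card (Sylow 5 G) ≠ 1 := fun h => hPn (by
      haveI := (Nat.card_eq_one_iff_unique.mp h).1
      exact Sylow.normal_of_subsingleton (P := P))
    have h5 : Nat.card (Sylow 5 G) = 16 := by
      have hle := Nat.le_of_dvd (by norm_num) h2
      rw [Nat.ModEq] at h3
      interval_cases h : Nat.card (Sylow 5 G) <;> first | rfl | omega | (exfalso; norm_num at h2)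
    have h6 := (Subgroup.normalizer ((P : Subgroup G) : Set G)).index_mul_card
    rw [← h1, h5, hc] at h6
    exact (Subgroup.eq_of_le_of_card_ge Subgroup.le_normalizer (by omega)).symm
  have hcen : Subgroup.normalizer ((P : Subgroup G) : Set G) ≤ Subgroup.centralizer ((P : Subgroup G) : Set G) := by
    rw [hN]; exact Subgroup.le_centralizer (P : Subgroup G)
  have hK := MonoidHom.ker_transferSylow_isComplement' P hcen
  set K := (MonoidHom.transferSylow P hcen).ker with hKdef
  have hK16 : Nat.card K = 16 := by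
    rw [← hK.index_eq_card, hidx]
  haveI : K.Normal := by rw [hKdef]; infer_instance
  have hKp : IsPGroup 2 K := IsPGroup.of_card (n := 4) (by rw [hK16]; norm_num)
  have hle : K ≤ (P : Subgroup G) := by
    rw [← hN]
    refine le_trans ?_ (Subgroup.centralizer_le_normalizer _)
    intro k hk
    refine Subgroup.mem_centralizer_iff.mpr fun x hx => ?_
    have h5 : x ^ 5 = 1 := by
      have := congrArg Subtype.val (pow_card_eq_one' (x := (⟨x, hx⟩ : (P : Subgroup G))))
      rwa [Subgroup.coe_pow, hP] at this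
    have h1 : MulAut.conjNormal (H := K) x = 1 :=
      mulAut_eq_one hKp ((hFC.subgroup K).two_group hKp) _ (Nat.Coprime.coprime_dvd_left
        (orderOf_dvd_of_pow_eq_one (show MulAut.conjNormal (H := K) x ^ 5 = 1 by rw [← map_pow, h5, map_one]))
        (by norm_num))
    have := congrArg Subtype.val (DFunLike.congr_fun h1 ⟨k, hk⟩)
    rw [MulAut.conjNormal_apply, MulAut.one_apply] at this
    exact mul_inv_eq_iff_eq_mul.mp this
  have := Subgroup.card_le_of_le hle
  omega

/-- Let q be a prime and V a non-trivial finite vector space over the field with q elements, and let G be a finite solvable group acting faithfully and linearly on V and regularly on the non-zero vectors (transitively, with only the identity fixing a non-zero vector). Then either V can be identified with the additive group of a finite field F so that every element of G acts as x ↦ a·σ(x) (a ∈ F, σ a field automorphism), or V has 5^2, 7^2, 11^2 or 23^2 elements. Moreover, if q ≠ 2 then G has a normal subgroup of index 2, except that when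 V has 25 elements G may be isomorphic to SL(2,3) and when V has 121 elements G may be isomorphic to SL(2,3) × C₅. -/
theorem result
    (q : ℕ) [Fact q.Prime] {V : Type*} [AddCommGroup V] [Module (ZMod q) V] [Finite V] [Nontrivial V]
    {G : Type*} [Group G] [Finite G] (hsol : Group.IsSolvable G)
    (ρ : G →* (V ≃ₗ[ZMod q] V)) (hρ : Function.Injective ρ)
    (htrans : ∀ v w : V, v ≠ 0 → w ≠ 0 → ∃ g : G, ρ g v = w)
    (hreg : ∀ v : V, v ≠ 0 → ∀ g : G, ρ g v = v → g = 1) :
    ((∃ (F : Type) (_ : Field F) (_ : Fintype F) (e : V ≃+ F),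
        ∀ g : G, ∃ (a : F) (σ : F ≃+* F), ∀ v : V, e (ρ g v) = a * σ (e v)) ∨
      Nat.card V ∈ ({25, 49, 121, 529} : Set ℕ)) ∧
    (q ≠ 2 → (∃ N : Subgroup G, N.Normal ∧ N.index = 2) ∨
      (Nat.card V = 25 ∧ Nonempty (G ≃* Matrix.SpecialLinearGroup (Fin 2) (ZMod 3))) ∨
      (Nat.card V = 121 ∧ Nonempty (G ≃* Matrix.SpecialLinearGroup (Fin 2) (ZMod 3) × Multiplicative (ZMod 5)))) := by
  have := hsol
  have hFC := regular_fc ρ hreg
  have hcard := regular_card ρ htrans hreg
  refine ⟨?_, fun hq => regular_index_two ρ htrans hreg hq⟩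
  rcases huppert ρ htrans hρ with h | h
  · exact Or.inl h
  have hqp : q.Prime := Fact.out
  have hV : Nat.card V = q ^ Module.finrank (ZMod q) V := by
    rw [Module.natCard_eq_pow_finrank (K := ZMod q), Nat.card_zmod]
  have hq3 : ∀ m, Nat.card V = 3 ^ m → m ≠ 0 → q = 3 ∧ Module.finrank (ZMod q) V = m := by
    intro m hm hm0
    rw [hm] at hV
    have h3 : q = 3 := (Nat.prime_dvd_prime_iff_eq hqp Nat.prime_three).mp (hqp.dvd_of_dvd_pow
      (hV ▸ dvd_pow_self q Module.finrank_pos.ne'))
    exact ⟨h3, (Nat.pow_right_injective (by norm_num : 2 ≤ 3) (by simpa [h3] using hV)).symm⟩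
  have field : ∀ m k : ℕ, Nat.card V = 3 ^ m → m ≠ 0 → (∀ d, d ∣ m → k ∣ 3 ^ d - 1 → d = m) →
      (∃ A : Subgroup G, A.Normal ∧ IsMulCommutative A ∧ Nat.card A = k) →
      ∃ (F : Type) (_ : Field F) (_ : Fintype F) (e : V ≃+ F),
        ∀ g : G, ∃ (a : F) (σ : F ≃+* F), ∀ v : V, e (ρ g v) = a * σ (e v) := by
    rintro m k hm hm0 hd ⟨A, hA, hAc, hAk⟩
    obtain ⟨h3, hn⟩ := hq3 m hm hm0
    have hab : ∀ a ∈ A, ∀ b ∈ A, a * b = b * a := fun a ha b hb =>
      congrArg Subtype.val (mul_comm' (⟨a, ha⟩ : A) ⟨b, hb⟩)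
    refine semilinear ρ htrans hA hab ((hd _ (hn ▸ deg_dvd ρ htrans hA hab) ?_).trans hn.symm)
    have h := card_dvd ρ htrans hρ hA hab
    rw [hAk] at h
    exact h3 ▸ h
  simp only [Set.mem_insert_iff, Set.mem_singleton_iff] at h ⊢
  rcases h with h | h | h | h | h | h
  · refine Or.inl (field 2 4 (by rw [h]; norm_num) two_ne_zero (fun d hd hk => ?_)
      (exists_cyclic_nine hFC (by omega)))
    have := Nat.le_of_dvd two_pos hd
    interval_cases d <;> first | rfl | (norm_num at hd; done) | (norm_num at hk; done)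
  · exact Or.inr (by simp [h])
  · exact Or.inr (by simp [h])
  · exact Or.inr (by simp [h])
  · exact Or.inr (by simp [h])
  · refine Or.inl (field 4 5 (by rw [h]; norm_num) (by norm_num) (fun d hd hk => ?_)
      (exists_normal_five hFC (by omega)))
    have := Nat.le_of_dvd (by norm_num) hd
    interval_cases d <;> first | rfl | (norm_num at hd; done) | (norm_num at hk; done)

end Cfsg.Agent.S3361
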