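import Cfsg.Statements.S3362
import Cfsg.Agent.Lib.Recog.MathieuTwelveChain

set_option autoImplicit false
open Cfsg

namespace Cfsg.Agent.S3362

/-- An explicit construction of the Mathieu groups of degrees 11 and 12. On the points 0, …, 11 let s = (3 4 5)(6 7 8)(9 10 11), t = (3 6 9)(4 7 10)(5 8 11), u = (4 6 5 9)(7 8 11 10), v = (4 7 5 11)(6 10 9 8), w = (4 10 5 8)(6 11 9 7), x₁ = (0 3)(6 7)(8 10)(9 11), x₂ = (0 1)(6 9)(7 10)(8 11), x₃ = (1 2)(6 11)(7 9)(8 10) (each written as a product of transpositions). Then the group M₁₂ generated by all eight permutations is sharply 5-transitive on the 12 points and has order 95040, and the group M₁₁ generated by the first seven has order 7920 and is the stabilizer of the point 2 in M₁₂. -/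
theorem result
    (s t u v w x₁ x₂ x₃ : Equiv.Perm (Fin 12))
    (hs : s = Equiv.swap (3 : Fin 12) 5 * Equiv.swap (3 : Fin 12) 4 * Equiv.swap (6 : Fin 12) 8 * Equiv.swap (6 : Fin 12) 7 * Equiv.swap (9 : Fin 12) 11 * Equiv.swap (9 : Fin 12) 10) (ht : t = Equiv.swap (3 : Fin 12) 9 * Equiv.swap (3 : Fin 12) 6 * Equiv.swap (4 : Fin 12) 10 * Equiv.swap (4 : Fin 12) 7 * Equiv.swap (5 : Fin 12) 11 * Equiv.swap (5 : Fin 12) 8)
    (hu : u = Equiv.swap (4 : Fin 12) 9 * Equiv.swap (4 : Fin 12) 5 * Equiv.swap (4 : Fin 12) 6 * Equiv.swap (7 : Fin 12) 10 * Equiv.swap (7 : Fin 12) 11 * Equiv.swap (7 : Fin 12) 8) (hv : v = Equiv.swap (4 : Fin 12) 11 * Equiv.swap (4 : Fin 12) 5 * Equiv.swap (4 : Fin 12) 7 * Equiv.swap (6 : Fin 12) 8 * Equiv.swap (6 : Fin 12) 9 * Equiv.swap (6 : Fin 12) 10) (hw : w = Equiv.swap (4 : Fin 12) 8 * Equiv.swap (4 : Fin 12) 5 * Equiv.swap (4 : Fin 12) 10 * Equiv.swap (6 : Fin 12) 7 * Equiv.swap (6 : Fin 12)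 9 * Equiv.swap (6 : Fin 12) 11)
    (hx₁ : x₁ = Equiv.swap (0 : Fin 12) 3 * Equiv.swap (6 : Fin 12) 7 * Equiv.swap (8 : Fin 12) 10 * Equiv.swap (9 : Fin 12) 11) (hx₂ : x₂ = Equiv.swap (0 : Fin 12) 1 * Equiv.swap (6 : Fin 12) 9 * Equiv.swap (7 : Fin 12) 10 * Equiv.swap (8 : Fin 12) 11)
    (hx₃ : x₃ = Equiv.swap (1 : Fin 12) 2 * Equiv.swap (6 : Fin 12) 11 * Equiv.swap (7 : Fin 12) 9 * Equiv.swap (8 : Fin 12) 10)
    (M₁₂ M₁₁ : Subgroup (Equiv.Perm (Fin 12))) (hM₁₂ : M₁₂ = Subgroup.closure {s, t, u, v, w, x₁, x₂, x₃})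
    (hM₁₁ : M₁₁ = Subgroup.closure {s, t, u, v, w, x₁, x₂}) :
    MulAction.IsMultiplyPretransitive M₁₂ (Fin 12) 5 ∧ (∀ y : Fin 5 ↪ Fin 12, MulAction.stabilizer M₁₂ y = ⊥) ∧
    Nat.card M₁₂ = 95040 ∧ Nat.card M₁₁ = 7920 ∧
    M₁₁ = M₁₂ ⊓ MulAction.stabilizer (Equiv.Perm (Fin 12)) (2 : Fin 12) := by
  classical
  subst hs ht hu hv hw hx₁ hx₂ hx₃
  set G : ℕ → Equiv.Perm (Fin 12) := fun i =>
    match i with
    | 0 => Equiv.swap (3 : Fin 12) 5 * Equiv.swap (3 : Fin 12) 4 * Equiv.swap (6 : Fin 12) 8 * Equiv.swap (6 : Fin 12) 7 * Equiv.swap (9 : Fin 12) 11 * Equiv.swap (9 : Fin 12) 10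
    | 1 => Equiv.swap (3 : Fin 12) 9 * Equiv.swap (3 : Fin 12) 6 * Equiv.swap (4 : Fin 12) 10 * Equiv.swap (4 : Fin 12) 7 * Equiv.swap (5 : Fin 12) 11 * Equiv.swap (5 : Fin 12) 8
    | 2 => Equiv.swap (4 : Fin 12) 9 * Equiv.swap (4 : Fin 12) 5 * Equiv.swap (4 : Fin 12) 6 * Equiv.swap (7 : Fin 12) 10 * Equiv.swap (7 : Fin 12) 11 * Equiv.swap (7 : Fin 12) 8
    | 3 => Equiv.swap (4 : Fin 12) 11 * Equiv.swap (4 : Fin 12) 5 * Equiv.swap (4 : Fin 12) 7 * Equiv.swap (6 : Fin 12) 8 * Equiv.swap (6 : Fin 12) 9 * Equiv.swap (6 : Fin 12) 10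
    | 4 => Equiv.swap (4 : Fin 12) 8 * Equiv.swap (4 : Fin 12) 5 * Equiv.swap (4 : Fin 12) 10 * Equiv.swap (6 : Fin 12) 7 * Equiv.swap (6 : Fin 12) 9 * Equiv.swap (6 : Fin 12) 11
    | 5 => Equiv.swap (0 : Fin 12) 3 * Equiv.swap (6 : Fin 12) 7 * Equiv.swap (8 : Fin 12) 10 * Equiv.swap (9 : Fin 12) 11
    | 6 => Equiv.swap (0 : Fin 12) 1 * Equiv.swap (6 : Fin 12) 9 * Equiv.swap (7 : Fin 12) 10 * Equiv.swap (8 : Fin 12) 11
    | 7 => Equiv.swap (1 : Fin 12) 2 * Equiv.swap (6 : Fin 12) 11 * Equiv.swap (7 : Fin 12) 9 * Equiv.swap (8 : Fin 12) 10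
    | _ => 1 with hG'
  have hG : ∀ i < 8, Recog.MathieuTwelveChain.code (G i) = Recog.MathieuTwelveChain.gc i := by
    intro i hi
    interval_cases i <;> decide +kernel
  have e12 : M₁₂ = Recog.MathieuTwelveChain.lev G 5 := by
    rw [hM₁₂, Recog.MathieuTwelveChain.lev]
    congr 1
    ext π
    constructor
    · intro h
      simp only [Set.mem_insert_iff, Set.mem_singleton_iff] at h
      rcases h with h | h | h | h | h | h | h | h
      · exact ⟨0, (by decide), h.symm⟩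
      · exact ⟨1, (by decide), h.symm⟩
      · exact ⟨2, (by decide), h.symm⟩
      · exact ⟨3, (by decide), h.symm⟩
      · exact ⟨4, (by decide), h.symm⟩
      · exact ⟨5, (by decide), h.symm⟩
      · exact ⟨6, (by decide), h.symm⟩
      · exact ⟨7, (by decide), h.symm⟩
    · rintro ⟨i, hi, rfl⟩
      simp only [Recog.MathieuTwelveChain.gens, Set.mem_setOf_eq, List.mem_cons, List.not_mem_nil, or_false] at hi
      rcases hi with rfl | rfl | rfl | rfl | rfl | rfl | rfl | rfl <;> simp [hG']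
  have e11 : M₁₁ = Recog.MathieuTwelveChain.lev G 4 := by
    rw [hM₁₁, Recog.MathieuTwelveChain.lev]
    congr 1
    ext π
    constructor
    · intro h
      simp only [Set.mem_insert_iff, Set.mem_singleton_iff] at h
      rcases h with h | h | h | h | h | h | h
      · exact ⟨0, (by decide), h.symm⟩
      · exact ⟨1, (by decide), h.symm⟩
      · exact ⟨2, (by decide), h.symm⟩
      · exact ⟨3, (by decide), h.symm⟩
      · exact ⟨4, (by decide), h.symm⟩
      · exact ⟨5, (by decide), h.symm⟩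
      · exact ⟨6, (by decide), h.symm⟩
    · rintro ⟨i, hi, rfl⟩
      simp only [Recog.MathieuTwelveChain.gens, Set.mem_setOf_eq, List.mem_cons, List.not_mem_nil, or_false] at hi
      rcases hi with rfl | rfl | rfl | rfl | rfl | rfl | rfl <;> simp [hG']
  obtain ⟨c12, c11⟩ := Recog.MathieuTwelveChain.cards G hG
  subst e12 e11
  let y₀ : Fin 5 ↪ Fin 12 := ⟨![2, 1, 0, 3, 4], by decide⟩
  have h0 : MulAction.stabilizer (Recog.MathieuTwelveChain.lev G 5) y₀ = ⊥ := by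
    refine (Subgroup.eq_bot_iff_forall _).2 fun g hg => ?_
    have hp : ∀ i, (g : Equiv.Perm (Fin 12)) (y₀ i) = y₀ i := fun i => DFunLike.congr_fun hg i
    exact Subtype.ext (Recog.MathieuTwelveChain.trivial_stab G hG g.2 (hp 0) (hp 1) (hp 2) (hp 3) (hp 4))
  have horb : MulAction.orbit (Recog.MathieuTwelveChain.lev G 5) y₀ = Set.univ := by
    have hn : (MulAction.orbit (Recog.MathieuTwelveChain.lev G 5) y₀).ncard = 95040 :=
      (MulAction.index_stabilizer (Recog.MathieuTwelveChain.lev G 5) y₀).symm.trans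
        ((congrArg Subgroup.index h0).trans (Subgroup.index_bot.trans c12))
    refine Set.eq_of_subset_of_ncard_le (Set.subset_univ _) ?_
    rw [hn, Set.ncard_univ, Nat.card_eq_fintype_card, Fintype.card_embedding_eq, Fintype.card_fin, Fintype.card_fin]
    decide
  have hpre : MulAction.IsPretransitive (Recog.MathieuTwelveChain.lev G 5) (Fin 5 ↪ Fin 12) := by
    refine ⟨fun a b => ?_⟩
    obtain ⟨g, rfl⟩ : a ∈ MulAction.orbit _ y₀ := horb ▸ Set.mem_univ a
    obtain ⟨h, rfl⟩ : b ∈ MulAction.orbit _ y₀ := horb ▸ Set.mem_univ b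
    exact ⟨h * g⁻¹, (mul_smul h g⁻¹ (g • y₀)).trans (congrArg (h • ·) (inv_smul_smul g y₀))⟩
  refine ⟨hpre, fun y => ?_, c12, c11, ?_⟩
  · refine Subgroup.eq_bot_of_card_eq _ ?_
    have h1 := Subgroup.card_mul_index (MulAction.stabilizer (Recog.MathieuTwelveChain.lev G 5) y)
    have h2 : (MulAction.stabilizer (Recog.MathieuTwelveChain.lev G 5) y).index = Nat.card (Fin 5 ↪ Fin 12) :=
      (MulAction.index_stabilizer (Recog.MathieuTwelveChain.lev G 5) y).trans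
        ((congrArg Set.ncard (Set.eq_univ_of_forall fun z => hpre.exists_smul_eq y z)).trans (Set.ncard_univ _))
    rw [h2, c12, Nat.card_eq_fintype_card (α := Fin 5 ↪ Fin 12),
      Fintype.card_embedding_eq, Fintype.card_fin, Fintype.card_fin, show Nat.descFactorial 12 5 = 95040 from by decide] at h1
    exact Nat.eq_of_mul_eq_mul_right (by norm_num : 0 < 95040) (h1.trans (one_mul _).symm)
  · refine le_antisymm (fun g hg => ⟨Recog.MathieuTwelveChain.lev_mono G hG (by omega) hg,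
      Recog.MathieuTwelveChain.lev_fix G hG (show 4 < 5 by omega) le_rfl hg⟩) ?_
    rintro g ⟨hg, hfix⟩
    exact Recog.MathieuTwelveChain.stab_step G hG (show 4 < 5 by omega) hg hfix

end Cfsg.Agent.S3362
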