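import Cfsg.Statements.S3366
import Cfsg.Agent.Lib.ThreeJacobi.Recognize
import Cfsg.Agent.Lib.ThreeJacobi.Sp
-- import your own Cfsg.Agent.* helpers here

set_option autoImplicit false
open Cfsg

namespace Cfsg.Agent.S3366

/-- Let X be a finite group with O₃(X) extraspecial of order 27 and exponent 3, X/O₃(X) isomorphic to SL(2,3), O₂(X) = 1, and a Sylow 3-subgroup of X containing an elementary abelian subgroup of order 27. Then X is isomorphic to the centralizer in PSp(4,3) of a 3-central element of order 3 (an element of order 3 in the centre of a Sylow 3-subgroup). -/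
theorem result {X : Type*} [Group X] [Finite X]
    (hR : Cfsg.IsExtraspecial 3 (Cfsg.pCore 3 X)) (hRcard : Nat.card (Cfsg.pCore 3 X) = 27)
    (hRexp : ∀ r ∈ Cfsg.pCore 3 X, r ^ 3 = 1)
    (e : X ⧸ Cfsg.pCore 3 X ≃* Matrix.SpecialLinearGroup (Fin 2) (ZMod 3))
    (hO2 : Cfsg.pCore 2 X = ⊥)
    (hE : ∃ E : Subgroup X, IsMulCommutative E ∧ (∀ a ∈ E, a ^ 3 = 1) ∧ Nat.card E = 27)
    (F : Type*) [Field F] [Fintype F] (hF : Fintype.card F = 3) :
    ∃ (c : Cfsg.PSp 2 F) (S : Sylow 3 (Cfsg.PSp 2 F)), orderOf c = 3 ∧ c ∈ (S : Subgroup (Cfsg.PSp 2 F)) ∧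
      c ∈ Subgroup.centralizer ((S : Subgroup (Cfsg.PSp 2 F)) : Set (Cfsg.PSp 2 F)) ∧
      Nonempty (X ≃* Subgroup.centralizer ({c} : Set (Cfsg.PSp 2 F))) := by
  classical
  haveI : Fact (Nat.Prime 3) := ⟨Nat.prime_three⟩
  haveI : CharP F 3 := charP_of_card_eq_prime (by rw [hF])
  haveI hRn : (Cfsg.pCore 3 X).Normal := inferInstance
  obtain ⟨c, S, hc, hcS, hcc, ⟨g⟩⟩ := Cfsg.Agent.ThreeJacobi.exists_centralizer_equiv hF
  obtain ⟨f⟩ := Cfsg.Agent.ThreeJacobi.recognize (Cfsg.pCore 3 X) hR hRcard hRexp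
    (e.toMonoidHom.comp (QuotientGroup.mk' _)) (e.surjective.comp (QuotientGroup.mk'_surjective _))
    (fun x => by
      rw [MonoidHom.comp_apply, MulEquiv.coe_toMonoidHom, map_eq_one_iff e e.injective]
      exact QuotientGroup.eq_one_iff x) (fun t ht htc => by
      have hn : (Subgroup.zpowers t).Normal := ⟨fun n hn x => by
        obtain ⟨i, rfl⟩ := Subgroup.mem_zpowers_iff.1 hn
        have hci : Commute x (t ^ i) := (show Commute x t from htc x).zpow_right i
        rw [hci.eq, mul_inv_cancel_right]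
        exact Subgroup.zpow_mem _ (Subgroup.mem_zpowers t) i⟩
      have hp : IsPGroup 2 (Subgroup.zpowers t) := by
        intro a
        obtain ⟨i, hi⟩ := Subgroup.mem_zpowers_iff.1 a.2
        refine ⟨1, Subtype.ext ?_⟩
        rw [SubmonoidClass.coe_pow, ← hi, pow_one, ← zpow_natCast, ← zpow_mul, mul_comm, zpow_mul,
          zpow_natCast, pow_two, ht, one_zpow]
        rfl
      have : Subgroup.zpowers t ≤ Cfsg.pCore 2 X := le_sSup ⟨hn, hp⟩
      rw [hO2] at this
      exact Subgroup.mem_bot.1 (this (Subgroup.mem_zpowers t))) hE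
  exact ⟨c, S, hc, hcS, hcc, ⟨f.symm.trans g⟩⟩

end Cfsg.Agent.S3366
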