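import Cfsg.Statements.S3370
import Cfsg.Agent.Lib.Recog.GLTwoThree
import Cfsg.Agent.Lib.InvChar.OneSubgroup

set_option autoImplicit false
open Cfsg

namespace Cfsg.Agent.S3370

/-- Let q be a prime, V a non-trivial finite vector space over the field with q elements, and G a non-trivial finite p-group (p prime) acting faithfully and linearly on V and transitively on the non-zero vectors. Then either q = 2 and G has prime order p = |V| − 1; or p = 2, V has q elements with q = 2^m + 1 and G is cyclic of order 2^m; or p = 2, q = 3, V has 9 elements and G is cyclic of order 8, quaternion of order 8, or semidihedral of order 16. -/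
theorem result (q : ℕ) [Fact q.Prime] {V : Type*} [AddCommGroup V] [Module (ZMod q) V] [Finite V] [Nontrivial V]
    {G : Type*} [Group G] [Finite G] [Nontrivial G] (p : ℕ) [Fact p.Prime] (hG : IsPGroup p G)
    (ρ : G →* (V ≃ₗ[ZMod q] V)) (hρ : Function.Injective ρ)
    (htrans : ∀ v w : V, v ≠ 0 → w ≠ 0 → ∃ g : G, ρ g v = w) :
    (q = 2 ∧ p = Nat.card V - 1 ∧ Nat.card G = p) ∨
    (p = 2 ∧ Nat.card V = q ∧ (∃ m : ℕ, q = 2 ^ m + 1 ∧ Nat.card G = 2 ^ m) ∧ IsCyclic G) ∨
    (p = 2 ∧ q = 3 ∧ Nat.card V = 9 ∧
      ((IsCyclic G ∧ Nat.card G = 8) ∨ Nonempty (G ≃* QuaternionGroup 2) ∨ (Cfsg.IsQuasiDihedral G ∧ Nat.card G = 16))) := by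
  classical
  have hq : q.Prime := Fact.out
  have hp : p.Prime := Fact.out
  letI : MulAction G V := MulAction.compHom V ρ
  have hsm : ∀ (g : G) (v : V), g • v = ρ g v := fun _ _ => rfl
  obtain ⟨v, hv⟩ := exists_ne (0 : V)
  set n := Module.finrank (ZMod q) V with hn
  have hcV : Nat.card V = q ^ n := by
    rw [Module.natCard_eq_pow_finrank (K := ZMod q), Nat.card_zmod]
  have hn1 : 0 < n := Module.finrank_pos
  have horb : MulAction.orbit G v = {0}ᶜ := by
    ext w
    refine ⟨?_, fun hw => ?_⟩
    · rintro ⟨g, rfl⟩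
      simpa [hsm] using hv
    · obtain ⟨g, hg⟩ := htrans v w hv hw
      exact ⟨g, hg⟩
  have hoc : Nat.card (MulAction.orbit G v) = q ^ n - 1 := by
    rw [horb, Nat.card_coe_set_eq, Set.ncard_compl, Set.ncard_singleton, hcV]
  have hos : Nat.card (MulAction.orbit G v) * Nat.card (MulAction.stabilizer G v) = Nat.card G := by
    rw [Nat.card_congr (MulAction.orbitEquivQuotientStabilizer G v)]
    exact (Subgroup.card_eq_card_quotient_mul_card_subgroup _).symm
  obtain ⟨k, hk⟩ := hG.card_orbit v
  rw [hoc] at hk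
  have hext : ∀ g : G, (∀ w : V, ρ g w = w) → g = 1 := fun g h => hρ (by rw [map_one]; exact LinearEquiv.ext h)
  have hk0 : k ≠ 0 := by
    intro h0
    rw [h0, pow_zero] at hk
    obtain ⟨g, hg⟩ := exists_ne (1 : G)
    refine hg (hext g fun w => ?_)
    by_cases hw : w = 0
    · rw [hw, map_zero]
    have h2 : ({0}ᶜ : Set V).ncard = 1 := by rw [← Nat.card_coe_set_eq, ← horb, hoc, hk]
    obtain ⟨c, hc⟩ := Set.ncard_eq_one.1 h2
    have hgw : ρ g w ∈ ({0}ᶜ : Set V) := by simpa using hw
    have hw' : w ∈ ({0}ᶜ : Set V) := hw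
    rw [hc] at hgw hw'
    exact hgw.trans hw'.symm
  -- the odd part of a geometric sum
  rcases hq.eq_two_or_odd' with hq2 | hqo
  · -- characteristic two
    left
    subst hq2
    have hn2 : 2 ≤ n := by
      by_contra h
      rw [show n = 1 by omega] at hk
      have := Nat.one_lt_pow hk0 hp.one_lt
      omega
    have hpo : Odd p := by
      rcases hp.eq_two_or_odd' with h | h
      · exfalso
        subst h
        have : 2 ∣ 2 ^ n - 1 := hk ▸ dvd_pow_self 2 hk0
        have h2 : 2 ∣ 2 ^ n := dvd_pow_self 2 (by omega)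
        have := Nat.two_pow_pos n
        omega
      · exact h
    have hk1 : k = 1 := by
      have h4 : (4 : ℕ) ∣ 2 ^ n := pow_dvd_pow 2 hn2
      have hko : Odd k := by
        rcases Nat.even_or_odd k with ⟨j, hj⟩ | h
        · exfalso
          obtain ⟨t, ht⟩ := hpo.pow (n := j)
          rw [hj, pow_add, ht] at hk
          have : (2 * t + 1) * (2 * t + 1) = 4 * (t * t + t) + 1 := by ring
          have := Nat.two_pow_pos n
          omega
        · exact h
      -- `p + 1` divides `p ^ k + 1` with odd cofactor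
      have key : ∀ j : ℕ, ∃ s, Odd s ∧ p ^ (2 * j + 1) + 1 = (p + 1) * s ∧ (0 < j → 1 < s) := by
        intro j
        induction j with
        | zero => exact ⟨1, odd_one, by simp, by simp⟩
        | succ j ih =>
          obtain ⟨s, hs, he, -⟩ := ih
          have hs1 : 1 ≤ s := hs.pos
          have hp2 := hp.two_le
          -- p^(2j+3)+1 = p^2 (p^(2j+1)+1) - (p^2-1)
          obtain ⟨a, ha⟩ : ∃ a, p = a + 1 := ⟨p - 1, by omega⟩
          have hge : a ≤ p ^ 2 * s := by nlinarith
          refine ⟨p ^ 2 * s - a, ?_, ?_, fun _ => ?_⟩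
          · have ho : Odd (p ^ 2 * s) := (hpo.pow).mul hs
            obtain ⟨u, hu⟩ := ho
            obtain ⟨w, hw⟩ := hpo
            exact ⟨u - w, by omega⟩
          · have h1 : p ^ (2 * (j + 1) + 1) + p ^ 2 = p ^ 2 * ((p + 1) * s) := by rw [← he]; ring
            obtain ⟨b, hb⟩ : ∃ b, p ^ 2 * s = a + b := ⟨p ^ 2 * s - a, by omega⟩
            rw [hb, Nat.add_sub_cancel_left]
            have h2 : p ^ 2 * ((p + 1) * s) = (p + 1) * (a + b) := by rw [← hb]; ring
            have h3 : (p + 1) * a + 1 = p ^ 2 := by rw [ha]; ring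
            nlinarith
          · have : 4 * 1 ≤ p ^ 2 * s := Nat.mul_le_mul (Nat.pow_le_pow_left hp2 2) hs1
            have : a + 2 ≤ p ^ 2 * s := by nlinarith
            omega
      obtain ⟨j, rfl⟩ := hko
      obtain ⟨s, hs, he, hs1⟩ := key j
      by_contra hj
      have h2 : s ∣ 2 ^ n := ⟨p + 1, by rw [mul_comm s, ← he]; have := Nat.two_pow_pos n; omega⟩
      obtain ⟨i, -, hi⟩ := (Nat.dvd_prime_pow Nat.prime_two).1 h2
      have := hs1 (by omega)
      rcases Nat.eq_zero_or_pos i with h | h
      · subst h; simp at hi; omega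
      · obtain ⟨w, hw⟩ := hs
        have : 2 ∣ s := hi ▸ dvd_pow_self 2 (by omega)
        omega
    subst hk1
    rw [pow_one] at hk
    refine ⟨rfl, by rw [hcV, hk], ?_⟩
    have hstab : MulAction.stabilizer G v = ⊥ := by
      rw [Subgroup.eq_bot_iff_forall]
      intro g hg
      have hK := (hG.to_subgroup (Subgroup.zpowers g)).card_modEq_card_fixedPoints V
      let W : AddSubgroup V :=
        { carrier := {w | ρ g w = w}
          zero_mem' := map_zero _
          add_mem' := fun {a b} ha hb => by
            show ρ g (a + b) = a + b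
            rw [map_add, ha, hb]
          neg_mem' := fun {a} ha => by
            show ρ g (-a) = -a
            rw [map_neg, ha] }
      have hfix : MulAction.fixedPoints (Subgroup.zpowers g) V = (W : Set V) := by
        ext w
        rw [MulAction.mem_fixedPoints]
        constructor
        · intro h; exact h ⟨g, Subgroup.mem_zpowers g⟩
        · rintro h ⟨u, hu⟩
          have : Subgroup.zpowers g ≤ MulAction.stabilizer G w := Subgroup.zpowers_le.2 h
          exact this hu
      rw [hfix] at hK
      obtain ⟨a, ha, haW⟩ := (Nat.dvd_prime_pow Nat.prime_two).1 (hcV ▸ AddSubgroup.card_addSubgroup_dvd_card W)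
      change Nat.card V ≡ Nat.card W [MOD p] at hK
      rw [haW, hcV] at hK
      have hmod : p ∣ 2 ^ a - 1 := by
        have h1 : 1 ≡ 2 ^ n [MOD p] := (Nat.modEq_iff_dvd' Nat.one_le_two_pow).2 (by rw [hk])
        exact (Nat.modEq_iff_dvd' Nat.one_le_two_pow).1 (h1.trans hK)
      rcases Nat.eq_zero_or_pos a with h | h
      · exfalso
        rw [h, pow_zero] at haW
        exact hv (AddSubgroup.mem_bot.1 (AddSubgroup.card_eq_one.1 haW ▸ (show v ∈ W from hg)))
      · have hle := Nat.le_of_dvd (by have := Nat.one_lt_two_pow (n := a) (by omega); omega) hmod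
        have hW : W = ⊤ := AddSubgroup.eq_top_of_card_eq W (by
          rw [haW, hcV]
          have h1 := Nat.pow_le_pow_right (show 0 < 2 by omega) ha
          have h2 := hp.two_le
          generalize 2 ^ a = A at *
          generalize 2 ^ n = N at *
          omega)
        exact hext g fun w => (hW ▸ AddSubgroup.mem_top w : w ∈ W)
    rw [← hos, hstab, Subgroup.card_bot, mul_one, hoc, hk]
  -- odd characteristic
  have hp2 : p = 2 := by
    have h2 : 2 ∣ p ^ k := by
      rw [← hk]
      have := (hqo.pow (n := n))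
      obtain ⟨w, hw⟩ := this
      omega
    exact ((Nat.prime_dvd_prime_iff_eq Nat.prime_two hp).1 (Nat.prime_two.dvd_of_dvd_pow h2)).symm
  subst hp2
  have hcases : n = 1 ∨ (q = 3 ∧ n = 2) := by
    rcases Nat.even_or_odd n with ⟨m, hm⟩ | hno
    · right
      have hq3 : 3 ≤ q := by
        have := hq.two_le
        obtain ⟨w, hw⟩ := hqo
        omega
      have hm1 : 1 ≤ m := by omega
      set u := q ^ m with hu
      have hu3 : 3 ≤ u := le_trans hq3 (Nat.le_self_pow (by omega) q)
      obtain ⟨w, hw⟩ : Odd u := hqo.pow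
      have hfac : q ^ n - 1 = (u - 1) * (u + 1) := by
        rw [hm, pow_add, ← hu, mul_comm (u - 1), ← Nat.sq_sub_sq, one_pow, sq]
      rw [hfac] at hk
      obtain ⟨i, -, hi⟩ := (Nat.dvd_prime_pow Nat.prime_two).1 (hk ▸ Dvd.intro _ rfl : u - 1 ∣ 2 ^ k)
      obtain ⟨j, -, hj⟩ := (Nat.dvd_prime_pow Nat.prime_two).1 (hk ▸ Dvd.intro_left _ rfl : u + 1 ∣ 2 ^ k)
      have hi1 : i = 1 := by
        by_contra hne
        have h4i : 4 ∣ 2 ^ i := pow_dvd_pow 2 (by
          rcases Nat.eq_zero_or_pos i with h | h
          · subst h; simp at hi; omega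
          · omega : 2 ≤ i)
        have h4j : 4 ∣ 2 ^ j := pow_dvd_pow 2 (by
          by_contra hh
          have := Nat.pow_le_pow_right (show 0 < 2 by omega) (show j ≤ 1 by omega)
          omega : 2 ≤ j)
        omega
      rw [hi1] at hi
      have hu' : u = 3 := by omega
      have : q = 3 := le_antisymm (hu' ▸ Nat.le_self_pow (by omega) q) hq3
      refine ⟨this, ?_⟩
      have : m = 1 := by
        rw [hu, this] at hu'
        exact Nat.pow_right_injective (le_refl 2 |>.trans (by norm_num)) (hu'.trans (pow_one 3).symm)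
      omega
    · left
      by_contra hne
      have hdvd : q - 1 ∣ q ^ n - 1 := Nat.sub_one_dvd_pow_sub_one q n
      obtain ⟨s, hs⟩ := hdvd
      have hgs := Nat.geomSum_eq hq.two_le n
      have hsum : ∑ i ∈ Finset.range n, q ^ i = s := by
        have h1 := geom_sum_mul_of_one_le (x := q) hq.one_le n
        rw [hs, mul_comm (q - 1)] at h1
        exact Nat.eq_of_mul_eq_mul_right (by have := hq.two_le; omega) h1
      have hso : Odd s := by
        rw [← hsum, Finset.odd_sum_iff_odd_card_odd]
        rw [Finset.filter_true_of_mem (fun i _ => hqo.pow), Finset.card_range]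
        exact hno
      have hs2 : s ∣ 2 ^ k := ⟨q - 1, by rw [← hk, hs, mul_comm]⟩
      obtain ⟨i, -, hi⟩ := (Nat.dvd_prime_pow Nat.prime_two).1 hs2
      rcases Nat.eq_zero_or_pos i with h | h
      · rw [h, pow_zero] at hi
        rw [hi, mul_one] at hs
        have : q ^ 1 < q ^ n := Nat.pow_lt_pow_right hq.one_lt (by obtain ⟨w, hw⟩ := hno; omega)
        rw [pow_one] at this
        have := hq.two_le
        omega
      · obtain ⟨w, hw⟩ := hso
        have : 2 ∣ s := hi ▸ dvd_pow_self 2 (by omega)
        omega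
  rcases hcases with h1 | ⟨hq3, hn2⟩
  · -- one dimensional
    right; left
    rw [h1, pow_one] at hcV hk
    rw [h1, pow_one] at hoc
    have hspan : ∀ w : V, ∃ c : ZMod q, c • v = w := (finrank_eq_one_iff_of_nonzero' v hv).1 h1
    have hfree : MulAction.stabilizer G v = ⊥ := by
      rw [Subgroup.eq_bot_iff_forall]
      intro g hg
      refine hext g fun w => ?_
      obtain ⟨c, rfl⟩ := hspan w
      rw [map_smul, show ρ g v = v from hg]
    have hG2 : Nat.card G = 2 ^ k := by rw [← hos, hfree, Subgroup.card_bot, mul_one, hoc, hk]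
    refine ⟨rfl, hcV, ⟨k, by have := hq.one_le; omega, hG2⟩, ?_⟩
    choose c hc using fun g : G => hspan (ρ g v)
    have hcne : ∀ g, c g ≠ 0 := fun g h => hv (by
      have := hc g
      rw [h, zero_smul] at this
      exact (ρ g).map_eq_zero_iff.1 this.symm)
    have hinj : ∀ a b : ZMod q, a • v = b • v → a = b := fun a b h => smul_left_injective _ hv h
    let φ : G →* ZMod q :=
      { toFun := c
        map_one' := hinj _ _ (by rw [hc, map_one, one_smul]; rfl)
        map_mul' := fun g h => hinj _ _ (by
          rw [hc, map_mul]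
          show ρ g (ρ h v) = _
          rw [← hc h, map_smul, ← hc g, smul_smul, mul_comm]) }
    refine isCyclic_of_subgroup_isDomain φ fun g h e => ?_
    have : g⁻¹ * h ∈ MulAction.stabilizer G v := by
      show (g⁻¹ * h) • v = v
      rw [mul_smul, inv_smul_eq_iff, hsm, hsm, ← hc g, ← hc h]
      exact congrArg (· • v) (e.symm)
    rw [hfree, Subgroup.mem_bot, inv_mul_eq_one] at this
    exact this
  · -- the group GL(2,3)
    right; right
    subst hq3
    rw [hn2] at hcV hoc
    refine ⟨rfl, rfl, by rw [hcV]; norm_num, ?_⟩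
    let b : Module.Basis (Fin 2) (ZMod 3) V := Module.finBasisOfFinrankEq _ _ hn2
    let ψ : (V ≃ₗ[ZMod 3] V) ≃* GL (Fin 2) (ZMod 3) :=
      ((LinearMap.GeneralLinearGroup.generalLinearEquiv (ZMod 3) V).symm.trans
        (LinearMap.GeneralLinearGroup.congrLinearEquiv b.equivFun)).trans Matrix.GeneralLinearGroup.toLin.symm
    let f : G →* GL (Fin 2) (ZMod 3) := ψ.toMonoidHom.comp ρ
    have hf : Function.Injective f := ψ.injective.comp hρ
    let eP : G ≃* f.range := MonoidHom.ofInjective hf
    have hdvd : Nat.card G ∣ 48 := by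
      rw [Nat.card_congr eP.toEquiv, ← Recog.GL23.card_M]
      exact Subgroup.card_subgroup_dvd_card _
    obtain ⟨j, hj⟩ := IsPGroup.iff_card.1 hG
    have hj4 : j ≤ 4 := by
      by_contra h
      rw [hj] at hdvd
      have := (pow_dvd_pow 2 (show 5 ≤ j by omega)).trans hdvd
      norm_num at this
    have h8 : 8 * Nat.card (MulAction.stabilizer G v) = Nat.card G := by
      rw [← hos, hoc]; norm_num
    rw [hj] at h8
    have hj34 : j = 3 ∨ j = 4 := by
      by_contra h
      have := Nat.pow_le_pow_right (show 0 < 2 by omega) (show j ≤ 2 by omega)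
      have := Nat.card_pos (α := MulAction.stabilizer G v)
      omega
    rcases hj34 with h3 | h4
    · subst h3
      have hfree : ∀ w : V, w ≠ 0 → ∀ g : G, ρ g w = w → g = 1 := by
        intro w hw g hg
        obtain ⟨u, hu⟩ := htrans v w hv hw
        have hmem : u⁻¹ * g * u ∈ MulAction.stabilizer G v := by
          show (u⁻¹ * g * u) • v = v
          rw [mul_smul, mul_smul, inv_smul_eq_iff, hsm u v, hu, hsm, hg]
        rw [Subgroup.card_eq_one.1 (by omega : Nat.card (MulAction.stabilizer G v) = 1), Subgroup.mem_bot] at hmem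
        have : g = u * (u⁻¹ * g * u) * u⁻¹ := by group
        rw [this, hmem]; group
      have hinv : ∀ g : G, g ≠ 1 → g ^ 2 = 1 → ∀ w, ρ g w = -w := by
        intro g hg h2 w
        have hfix : ρ g (w + ρ g w) = w + ρ g w := by
          rw [map_add, add_comm (ρ g w)]
          congr 1
          rw [← LinearEquiv.mul_apply, ← map_mul, ← sq, h2, map_one]
          rfl
        by_contra hne
        refine hg (hfree _ (fun h0 => hne ?_) g hfix)
        exact (neg_eq_of_add_eq_zero_right h0).symm
      rcases InvChar.cyclic_or_quaternion (p := 2) hG (fun H K hH hK => by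
          obtain ⟨a, ha⟩ : ∃ a : G, H = Subgroup.zpowers a ∧ orderOf a = 2 := by
            obtain ⟨a, ha⟩ := exists_prime_orderOf_dvd_card' (G := H) 2 (hH ▸ dvd_rfl)
            refine ⟨a, ?_, by rw [Subgroup.orderOf_coe, ha]⟩
            exact (Subgroup.eq_of_le_of_card_ge (Subgroup.zpowers_le.2 a.2)
              (by rw [Nat.card_zpowers, Subgroup.orderOf_coe, ha, hH])).symm
          obtain ⟨c, hc⟩ : ∃ c : G, K = Subgroup.zpowers c ∧ orderOf c = 2 := by
            obtain ⟨c, hc⟩ := exists_prime_orderOf_dvd_card' (G := K) 2 (hK ▸ dvd_rfl)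
            refine ⟨c, ?_, by rw [Subgroup.orderOf_coe, hc]⟩
            exact (Subgroup.eq_of_le_of_card_ge (Subgroup.zpowers_le.2 c.2)
              (by rw [Nat.card_zpowers, Subgroup.orderOf_coe, hc, hK])).symm
          have hne : ∀ a : G, orderOf a = 2 → a ≠ 1 := fun a h e => by rw [e, orderOf_one] at h; omega
          have : a = c := hρ (LinearEquiv.ext fun w => by
            rw [hinv a (hne a ha.2) (ha.2 ▸ pow_orderOf_eq_one a) w, hinv c (hne c hc.2) (hc.2 ▸ pow_orderOf_eq_one c) w])
          rw [ha.1, hc.1, this]) with hc | ⟨-, i, ⟨e⟩⟩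
      · exact Or.inl ⟨hc, hj⟩
      · refine Or.inr (Or.inl ?_)
        have hi : i = 1 := by
          have hc := Nat.card_congr e.toEquiv
          have : NeZero (2 ^ i) := ⟨pow_ne_zero _ two_ne_zero⟩
          rw [hj, Nat.card_eq_fintype_card, QuaternionGroup.card] at hc
          have : 2 ^ i = 2 ^ 1 := by omega
          exact Nat.pow_right_injective le_rfl this
        subst hi
        exact ⟨e⟩
    · subst h4
      refine Or.inr (Or.inr ⟨?_, hj⟩)
      obtain ⟨m, hm, hc, a, c, ha, hb, hac⟩ :=
        Recog.GL23.quasiDihedral_of_card_sixteen f.range (by rw [← Nat.card_congr eP.toEquiv, hj]; rfl)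
      refine ⟨m, hm, (Nat.card_congr eP.toEquiv).trans hc, eP.symm a, eP.symm c, ?_, ?_, ?_⟩
      · rw [MulEquiv.orderOf_eq, ha]
      · rw [MulEquiv.orderOf_eq, hb]
      · rw [← map_inv, ← map_mul, ← map_mul, hac, map_pow]

end Cfsg.Agent.S3370
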