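import Cfsg.Statements.S3375
import Mathlib
-- import your own Cfsg.Agent.* helpers here

set_option autoImplicit false
open Cfsg

namespace Cfsg.Agent.S3375

/-- An involutory automorphism inverts each element of an invariant index-two subgroup when it fixes two points. -/
theorem inverts_invariant {H : Type*} [Group H] [Finite H] (γ : MulAut H) (hγ2 : ∀ h, γ (γ h) = h)
    (hfix : Nat.card {h : H // γ h = h} = 2) (M : Subgroup H) (hM : M.index = 2)
    (hinv : ∀ a, a ∈ M ↔ γ a ∈ M) : ∀ a ∈ M, γ a = a⁻¹ := by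
  classical
  let C : Subgroup H :=
    { carrier := {h | γ h = h}
      one_mem' := map_one γ
      mul_mem' := by
        intro a b ha hb
        show γ (a * b) = a * b
        rw [map_mul, ha, hb]
      inv_mem' := by
        intro a ha
        show γ a⁻¹ = a⁻¹
        rw [map_inv, ha] }
  have hC : Nat.card C = 2 := hfix
  -- the map on right cosets
  have hφ : ∀ h, h⁻¹ * γ h ∈ M := fun h =>
    (Subgroup.mul_mem_iff_of_index_two hM).2 (by rw [inv_mem_iff]; exact hinv h)
  let ψ : H ⧸ C → M := fun q => Quotient.liftOn' q (fun h => ⟨h * (γ h)⁻¹, by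
      have := hφ h⁻¹
      simpa using this⟩)
    (fun a b hab => by
      rw [QuotientGroup.leftRel_apply] at hab
      have hab' : γ (a⁻¹ * b) = a⁻¹ * b := hab
      refine Subtype.ext ?_
      show a * (γ a)⁻¹ = b * (γ b)⁻¹
      rw [map_mul, map_inv] at hab'
      have e : γ b = γ a * (a⁻¹ * b) := by rw [← hab']; group
      rw [e]; group)
  have hψ : Function.Injective ψ := by
    intro p q hpq
    induction p using QuotientGroup.induction_on with
    | H a =>
    induction q using QuotientGroup.induction_on with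
    | H b =>
    have h' : a * (γ a)⁻¹ = b * (γ b)⁻¹ := congrArg Subtype.val hpq
    refine QuotientGroup.eq.2 ?_
    show γ (a⁻¹ * b) = a⁻¹ * b
    rw [map_mul, map_inv]
    have e : (γ a)⁻¹ = a⁻¹ * (b * (γ b)⁻¹) := by rw [← h']; group
    rw [e]; group
  have hcard : Nat.card (H ⧸ C) = Nat.card M := by
    have h1 := Subgroup.card_eq_card_quotient_mul_card_subgroup C
    have h2 := Subgroup.card_mul_index M
    rw [hC] at h1
    rw [hM] at h2
    omega
  have hbij := (Nat.bijective_iff_injective_and_card ψ).2 ⟨hψ, hcard⟩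
  intro a ha
  obtain ⟨q, hq⟩ := hbij.2 ⟨a, ha⟩
  induction q using QuotientGroup.induction_on with
  | H h =>
  have hq' : h * (γ h)⁻¹ = a := congrArg Subtype.val hq
  rw [← hq', map_mul, map_inv, hγ2, mul_inv_rev, inv_inv]

/-- Let γ be an automorphism of order 2 of a finite group H. (i) If γ fixes only the identity, then H is abelian and γ inverts every element. (ii) If γ has exactly two fixed points and H has a subgroup of index 2, then H has a γ-invariant abelian subgroup of index 2 on which γ acts by inversion. -/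
theorem result {H : Type*} [Group H] [Finite H] (γ : MulAut H) (hγ : orderOf γ = 2) :
    ((∀ h : H, γ h = h → h = 1) → (∀ a b : H, a * b = b * a) ∧ ∀ h : H, γ h = h⁻¹) ∧
    ((Nat.card {h : H // γ h = h} = 2 ∧ ∃ M : Subgroup H, M.index = 2) →
      ∃ A : Subgroup H, A.index = 2 ∧ IsMulCommutative A ∧ (∀ a ∈ A, γ a ∈ A) ∧ ∀ a ∈ A, γ a = a⁻¹) := by
  have hγ2 : ∀ h, γ (γ h) = h := fun h => by
    have := pow_orderOf_eq_one γ
    rw [hγ, pow_two] at this
    exact congrArg (fun f : MulAut H => f h) this
  refine ⟨fun hfpf => ?_, ?_⟩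
  · have hff : MonoidHom.FixedPointFree (γ.toMonoidHom) := fun g hg => hfpf g hg
    have hinv := hff.coe_eq_inv_of_involutive hγ2
    have hinv' : ∀ h, γ h = h⁻¹ := fun h => congrFun hinv h
    refine ⟨fun a b => ?_, hinv'⟩
    have h := map_mul γ a b
    rw [hinv', hinv', hinv', mul_inv_rev] at h
    have h' := congrArg Inv.inv h
    simpa [mul_inv_rev] using h'
  · rintro ⟨hfix, M, hM⟩
    obtain ⟨A, hA, hAinv⟩ : ∃ A : Subgroup H, A.index = 2 ∧ ∀ a, a ∈ A ↔ γ a ∈ A := by
      by_cases hinv : ∀ a, a ∈ M ↔ γ a ∈ M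
      · exact ⟨M, hM, hinv⟩
      let A : Subgroup H :=
        { carrier := {h | h ∈ M ↔ γ h ∈ M}
          one_mem' := by
            show (1 : H) ∈ M ↔ γ 1 ∈ M
            rw [map_one]
          mul_mem' := by
            intro a b ha hb
            show a * b ∈ M ↔ γ (a * b) ∈ M
            rw [map_mul, Subgroup.mul_mem_iff_of_index_two hM, Subgroup.mul_mem_iff_of_index_two hM]
            exact iff_congr ha hb
          inv_mem' := by
            intro a ha
            show a⁻¹ ∈ M ↔ γ a⁻¹ ∈ M
            rw [map_inv, inv_mem_iff, inv_mem_iff]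
            exact ha }
      have hmem : ∀ h, h ∈ A ↔ (h ∈ M ↔ γ h ∈ M) := fun h => Iff.rfl
      refine ⟨A, ?_, fun a => ?_⟩
      · push Not at hinv
        obtain ⟨c, hc⟩ := hinv
        have hcA : c ∉ A := fun h => by rw [hmem] at h; tauto
        rw [Subgroup.index_eq_two_iff]
        refine ⟨c, fun b => ?_⟩
        by_cases hb : b ∈ A
        · exact Or.inr ⟨hb, fun h => hcA (by simpa using mul_mem (inv_mem hb) h)⟩
        · refine Or.inl ⟨?_, hb⟩
          rw [hmem] at hb hcA ⊢
          rw [map_mul, Subgroup.mul_mem_iff_of_index_two hM, Subgroup.mul_mem_iff_of_index_two hM]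
          tauto
      · rw [hmem, hmem, hγ2]
        exact ⟨Iff.symm, Iff.symm⟩
    have hall := inverts_invariant γ hγ2 hfix A hA hAinv
    refine ⟨A, hA, ⟨⟨fun a b => Subtype.ext ?_⟩⟩, fun a ha => (hAinv a).1 ha, hall⟩
    have h := map_mul γ (a : H) b
    rw [hall _ (mul_mem a.2 b.2), hall _ a.2, hall _ b.2, mul_inv_rev] at h
    have h' := congrArg Inv.inv h
    simpa [mul_inv_rev] using h'

end Cfsg.Agent.S3375
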