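import Cfsg.Statements.S3376


set_option autoImplicit false
open Cfsg

namespace Cfsg.Agent.S3376

/-- Let G be a group of order 162 = 3⁴·2 with Sylow 3-subgroup S and Sylow 2-subgroup T, having an elementary abelian normal subgroup J of order 27, such that Z = Z(S) has order 3, Z centralizes T, and C_S(T) ≠ S. Then G is isomorphic to the centralizer in Sym(9) of a product of three disjoint 3-cycles. -/
theorem result {G : Type*} [Group G] [Finite G] (hG : Nat.card G = 162)
    (S : Sylow 3 G) (T : Sylow 2 G) (J : Subgroup G) [hJn : J.Normal] (hJcomm : IsMulCommutative J)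
    (hJexp : ∀ a ∈ J, a ^ 3 = 1) (hJcard : Nat.card J = 27)
    (Z : Subgroup G) (hZ : Z = (S : Subgroup G) ⊓ Subgroup.centralizer ((S : Subgroup G) : Set G)) (hZcard : Nat.card Z = 3)
    (hZT : Z ≤ Subgroup.centralizer ((T : Subgroup G) : Set G))
    (hST : (S : Subgroup G) ⊓ Subgroup.centralizer ((T : Subgroup G) : Set G) ≠ S) :
    Nonempty (G ≃* Subgroup.centralizer ({Equiv.swap (0 : Fin 9) 1 * Equiv.swap 1 2 * Equiv.swap 3 4 * Equiv.swap 4 5 * Equiv.swap 6 7 * Equiv.swap 7 8} : Set (Equiv.Perm (Fin 9)))) := by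
  classical
  haveI : Fact (Nat.Prime 3) := ⟨Nat.prime_three⟩
  haveI : Fact (Nat.Prime 2) := ⟨Nat.prime_two⟩
  have hS : Nat.card (S : Subgroup G) = 81 := by
    rw [Sylow.card_eq_multiplicity, hG, show (162 : ℕ).factorization 3 = 4 from ?_]
    · norm_num
    rw [show 162 = 3 ^ 4 * 2 by norm_num, Nat.factorization_mul (by norm_num) (by norm_num), Finsupp.add_apply,
      Nat.prime_three.factorization_pow, Finsupp.single_eq_same, Nat.factorization_eq_zero_of_not_dvd (by norm_num)]
  have hT : Nat.card (T : Subgroup G) = 2 := by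
    rw [Sylow.card_eq_multiplicity, hG, show (162 : ℕ).factorization 2 = 1 from ?_]
    · norm_num
    rw [show 162 = 2 ^ 1 * 81 by norm_num, Nat.factorization_mul (by norm_num) (by norm_num), Finsupp.add_apply,
      Nat.prime_two.factorization_pow, Finsupp.single_eq_same, Nat.factorization_eq_zero_of_not_dvd (by norm_num)]
  have hSi : (S : Subgroup G).index = 2 := by
    have := Subgroup.card_mul_index (S : Subgroup G); rw [hS, hG] at this; omega
  haveI hSn : (S : Subgroup G).Normal := Subgroup.normal_of_index_eq_two hSi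
  have central : ∀ N : Subgroup G, N.Normal → N ≤ S → N ≠ ⊥ → ∃ x ∈ N, x ≠ 1 ∧ x ∈ Z := by
    intro N hN hNS hN1
    letI : MulAction (S : Subgroup G) N := MulAction.compHom N
      ((MulAut.conjNormal (H := N)).comp (S : Subgroup G).subtype)
    have hd : 3 ∣ Nat.card N := by
      obtain ⟨k, hk⟩ := ((S.2).to_le hNS).exists_card_eq
      rcases Nat.eq_zero_or_pos k with rfl | hk0
      · exact absurd (Subgroup.eq_bot_of_card_eq N (by rw [hk, pow_zero])) hN1
      · exact hk ▸ dvd_pow_self 3 hk0.ne'
    have h1 : (1 : N) ∈ MulAction.fixedPoints (S : Subgroup G) N := fun s => map_one (MulAut.conjNormal (s : G))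
    obtain ⟨x, hx, hne⟩ := S.2.exists_fixed_point_of_prime_dvd_card_of_fixed_point N hd h1
    refine ⟨x, x.2, fun h => hne (Subtype.ext h.symm), hZ ▸ ⟨hNS x.2, ?_⟩⟩
    refine Subgroup.mem_centralizer_iff.2 fun s hs => ?_
    have h2 := congrArg Subtype.val (hx ⟨s, hs⟩)
    change ((MulAut.conjNormal s x : N) : G) = x at h2
    rw [MulAut.conjNormal_apply, mul_inv_eq_iff_eq_mul] at h2
    exact h2
  have hJp : IsPGroup 3 J := IsPGroup.of_card (n := 3) (by rw [hJcard]; norm_num)
  have hJS : J ≤ (S : Subgroup G) := hJp.le_sylow_of_normal S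
  have hJne : J ≠ ⊥ := fun h => by rw [h, Subgroup.card_bot] at hJcard; omega
  obtain ⟨z, hzJ, hz1, hzZ⟩ := central J hJn hJS hJne
  have hz3 : z ^ 3 = 1 := hJexp z hzJ
  have horder : orderOf z = 3 := orderOf_eq_prime hz3 hz1
  have hZeq : Z = Subgroup.zpowers z := by
    refine (Subgroup.eq_of_le_of_card_ge (by rwa [Subgroup.zpowers_le]) ?_).symm
    rw [Nat.card_zpowers, horder, hZcard]
  have hzc : ∀ g : G, g * z = z * g := by
    intro g
    have hc1 : (S : Subgroup G) ≤ Subgroup.centralizer {z} := fun s hs => Subgroup.mem_centralizer_singleton_iff.2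
      ((Subgroup.mem_centralizer_iff.1 (hZ ▸ hzZ : z ∈ (S : Subgroup G) ⊓ _).2 s hs))
    have hc2 : (T : Subgroup G) ≤ Subgroup.centralizer {z} := fun s hs => Subgroup.mem_centralizer_singleton_iff.2
      ((Subgroup.mem_centralizer_iff.1 (hZT hzZ) s hs))
    have htop : Subgroup.centralizer {z} = ⊤ := by
      refine Subgroup.eq_top_of_card_eq _ ?_
      have h1 := Subgroup.card_dvd_of_le hc1
      have h2 := Subgroup.card_dvd_of_le hc2
      have h3 := Subgroup.card_subgroup_dvd_card (Subgroup.centralizer ({z} : Set G))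
      rw [hS] at h1; rw [hT] at h2; rw [hG] at h3 ⊢
      exact Nat.dvd_antisymm h3 (by simpa using (show Nat.Coprime 81 2 by norm_num).mul_dvd_of_dvd_of_dvd h1 h2)
    exact Subgroup.mem_centralizer_singleton_iff.1 (htop ▸ Subgroup.mem_top g)
  obtain ⟨t, htT, ht1⟩ := ((T : Subgroup G).bot_or_exists_ne_one).resolve_left
    (fun h => by rw [h, Subgroup.card_bot] at hT; omega)
  have ht2 : t * t = 1 := by
    have h := pow_card_eq_one' (x := (⟨t, htT⟩ : (T : Subgroup G)))
    rw [hT] at h
    simpa [pow_two] using congrArg Subtype.val h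
  have hTeq : ∀ u ∈ (T : Subgroup G), u = 1 ∨ u = t := by
    intro u hu
    by_contra h
    push Not at h
    have h3 : ({1, t, u} : Finset G).card ≤ 2 := by
      rw [← hT, ← Nat.card_eq_finsetCard]
      exact Nat.card_le_card_of_injective (fun x => ⟨x.1, by
        rcases Finset.mem_insert.1 x.2 with e | e
        · rw [e]; exact one_mem _
        rcases Finset.mem_insert.1 e with e | e
        · rw [e]; exact htT
        · rw [Finset.mem_singleton.1 e]; exact hu⟩) (fun a b e => Subtype.ext (congrArg (fun w : (T : Subgroup G) => (w : G)) e))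
    rw [Finset.card_insert_of_notMem (by simp [Ne.symm ht1, Ne.symm h.1]), Finset.card_pair (Ne.symm h.2)] at h3
    omega
  have htJ : ∀ x ∈ J, t * x * t ∈ J := fun x hx => by
    have := hJn.conj_mem x hx t
    rwa [inv_eq_of_mul_eq_one_right ht2] at this
  have htJ' : t ∉ J := fun h => ht1 (by
    have h3 := hJexp t h
    rwa [pow_succ, pow_two, ht2, one_mul] at h3)
  have hJc : ∀ a ∈ J, ∀ b ∈ J, a * b = b * a := fun a ha b hb => congrArg Subtype.val (hJcomm.is_comm.comm ⟨a, ha⟩ ⟨b, hb⟩)
  obtain ⟨K, ⟨hKJ, hKz⟩, hKmax⟩ := Set.Finite.exists_maximal (Set.toFinite {K : Subgroup G | K ≤ J ∧ z ∉ K})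
    ⟨⊥, bot_le, fun h => hz1 (Subgroup.mem_bot.1 h)⟩
  have hdec : ∀ x ∈ J, ∃ k ∈ K, ∃ i : Fin 3, x = k * z ^ (i : ℕ) := by
    intro x hx
    let K' : Subgroup G :=
      { carrier := {y | ∃ k ∈ K, ∃ i : ℕ, y = k * x ^ i}
        one_mem' := ⟨1, one_mem K, 0, by simp⟩
        mul_mem' := by
          rintro a b ⟨k, hk, i, rfl⟩ ⟨l, hl, j, rfl⟩
          refine ⟨k * l, mul_mem hk hl, i + j, ?_⟩
          rw [pow_add, mul_assoc, ← mul_assoc (x ^ i), hJc _ (pow_mem hx i) l (hKJ hl)]
          simp only [mul_assoc]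
        inv_mem' := by
          rintro a ⟨k, hk, i, rfl⟩
          refine ⟨k⁻¹, inv_mem hk, 2 * i, ?_⟩
          rw [mul_inv_rev, hJc _ (inv_mem (pow_mem hx i)) _ (inv_mem (hKJ hk))]
          congr 1
          refine inv_eq_of_mul_eq_one_right ?_
          rw [← pow_add, show i + 2 * i = 3 * i by ring, pow_mul, hJexp x hx, one_pow] }
    have hKK' : K ≤ K' := fun k hk => ⟨k, hk, 0, by simp⟩
    by_cases hzK' : z ∈ K'
    · obtain ⟨k, hk, i, hi⟩ := hzK'
      have hi3 : x ^ i = x ^ (i % 3) := pow_eq_pow_mod i (hJexp x hx)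
      rw [hi3] at hi
      have := Nat.mod_lt i (show 0 < 3 by norm_num)
      interval_cases h : i % 3
      · rw [pow_zero, mul_one] at hi; exact absurd (hi ▸ hk) hKz
      · exact ⟨k⁻¹, inv_mem hk, 1, by show x = k⁻¹ * z ^ 1; rw [pow_one, hi, pow_one, inv_mul_cancel_left]⟩
      · refine ⟨(k⁻¹) ^ 2, pow_mem (inv_mem hk) 2, 2, ?_⟩
        show x = k⁻¹ ^ 2 * z ^ 2
        have hcomm : Commute k (x ^ 2) := hJc _ (hKJ hk) _ (pow_mem hx 2)
        rw [hi, hcomm.mul_pow, ← mul_assoc, inv_pow, inv_mul_cancel, one_mul, ← pow_mul]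
        calc x = x ^ 3 * x := by rw [hJexp x hx, one_mul]
          _ = x ^ (2 * 2) := by rw [← pow_succ]
    · have hle : K' ≤ K := hKmax ⟨by
        rintro y ⟨k, hk, i, rfl⟩
        exact mul_mem (hKJ hk) (pow_mem hx i), hzK'⟩ hKK'
      exact ⟨x, hle ⟨1, one_mem K, 1, by simp⟩, 0, by simp⟩
  have hKcard : Nat.card K = 9 := by
    have hb : Function.Bijective (fun p : K × Fin 3 => (⟨p.1 * z ^ (p.2 : ℕ), mul_mem (hKJ p.1.2) (pow_mem hzJ _)⟩ : J)) := by
      constructor
      · rintro ⟨k, i⟩ ⟨l, j⟩ h
        have h' : (k : G) * z ^ (i : ℕ) = l * z ^ (j : ℕ) := congrArg Subtype.val h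
        have hin : z ^ ((i : ℤ) - j) ∈ K := by
          rw [zpow_sub, zpow_natCast, zpow_natCast, show z ^ (i : ℕ) * (z ^ (j : ℕ))⁻¹ = (k : G)⁻¹ * l from ?_]
          · exact mul_mem (inv_mem k.2) l.2
          calc z ^ (i : ℕ) * (z ^ (j : ℕ))⁻¹ = (k : G)⁻¹ * ((k : G) * z ^ (i : ℕ)) * (z ^ (j : ℕ))⁻¹ := by group
            _ = (k : G)⁻¹ * l := by rw [h']; group
        have hij : i = j := by
          by_contra hne
          apply hKz
          have hfin : ∀ a b : Fin 3, a ≠ b → ((a : ℤ) - b) % 3 = 1 ∨ ((a : ℤ) - b) % 3 = 2 := by decide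
          have h3 : z ^ (3 : ℤ) = 1 := by exact_mod_cast hz3
          have e := Int.emod_add_mul_ediv ((i : ℤ) - j) 3
          rw [← e, zpow_add, zpow_mul, h3, one_zpow, mul_one] at hin
          rcases hfin i j hne with e1 | e1 <;> rw [e1] at hin
          · simpa using hin
          · have := pow_mem hin 2
            rw [← zpow_natCast, ← zpow_mul, show (2 : ℤ) * ((2 : ℕ) : ℤ) = 3 + 1 by norm_num, zpow_add, h3, one_mul, zpow_one] at this
            exact this
        subst hij
        exact Prod.ext (Subtype.ext (mul_right_cancel h')) rfl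
      · rintro ⟨x, hx⟩
        obtain ⟨k, hk, i, hi⟩ := hdec x hx
        exact ⟨(⟨k, hk⟩, i), Subtype.ext hi.symm⟩
    have := Nat.card_eq_of_bijective _ hb
    rw [Nat.card_prod, Nat.card_fin, hJcard] at this
    omega
  have hσmul : ∀ a b : G, t * (a * b) * t = t * a * t * (t * b * t) := fun a b => by
    calc t * (a * b) * t = t * a * (t * t) * b * t := by rw [ht2, mul_one]; group
      _ = _ := by group
  let η : J →* J :=
    { toFun := fun x => ⟨x * (t * x * t), mul_mem x.2 (htJ x x.2)⟩
      map_one' := Subtype.ext (by show (1 : G) * (t * 1 * t) = 1; rw [mul_one, ht2, one_mul])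
      map_mul' := fun a b => Subtype.ext (by
        show (a : G) * b * (t * (a * b) * t) = a * (t * a * t) * (b * (t * b * t))
        rw [hσmul, mul_assoc (a : G) b, ← mul_assoc (b : G), hJc b b.2 (t * a * t) (htJ a a.2)]
        simp only [mul_assoc]) }
  let U : Subgroup G := ((K.subgroupOf J).comap η).map J.subtype
  have hU : ∀ x, x ∈ U ↔ x ∈ J ∧ x * (t * x * t) ∈ K := fun x =>
    ⟨fun ⟨y, hy, e⟩ => e ▸ ⟨y.2, hy⟩, fun ⟨h1, h2⟩ => ⟨⟨x, h1⟩, h2, rfl⟩⟩
  have hUz : z ∉ U := fun h => by
    have h2 := ((hU z).1 h).2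
    rw [hzc t, mul_assoc z, ht2, mul_one] at h2
    have := inv_mem h2
    rw [inv_eq_of_mul_eq_one_right (show z * z * z = 1 by rw [← pow_two, ← pow_succ, hz3])] at this
    exact hKz this
  have hUJ : U ≤ J := fun x hx => ((hU x).1 hx).1
  have hUcard : Nat.card U = 9 := by
    have h1 : ((K.subgroupOf J).comap η).index ∣ (K.subgroupOf J).index := by
      rw [Subgroup.index_comap]; exact Subgroup.relIndex_dvd_index_of_normal _ _
    have h2 : (K.subgroupOf J).index = 3 := by
      have := Subgroup.card_mul_index (K.subgroupOf J)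
      rw [Nat.card_congr (Subgroup.subgroupOfEquivOfLe hKJ).toEquiv, hKcard, hJcard] at this
      omega
    have h3 := Subgroup.card_mul_index ((K.subgroupOf J).comap η)
    have h4 : Nat.card U = Nat.card ((K.subgroupOf J).comap η) :=
      Subgroup.card_map_of_injective J.subtype_injective
    rw [h2] at h1
    rw [← h4, hJcard] at h3
    rcases (Nat.dvd_prime Nat.prime_three).1 h1 with e | e <;> rw [e] at h3
    · exfalso
      refine hUz ?_
      rw [Subgroup.eq_of_le_of_card_ge hUJ (by omega)]
      exact hzJ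
    · omega
  have hUt : ∀ x ∈ U, t * x * t ∈ U := fun x hx => by
    obtain ⟨h1, h2⟩ := (hU x).1 hx
    refine (hU _).2 ⟨htJ x h1, ?_⟩
    rwa [show t * (t * x * t) * t = x by rw [← mul_assoc, ← mul_assoc, ht2, one_mul, mul_assoc, ht2, mul_one],
      hJc _ (htJ x h1) x h1]
  let M : Subgroup G :=
    { carrier := {x | x ∈ U ∨ x * t ∈ U}
      one_mem' := Or.inl (one_mem U)
      mul_mem' := by
        rintro a b (ha | ha) (hb | hb)
        · exact Or.inl (mul_mem ha hb)
        · exact Or.inr (by rw [mul_assoc]; exact mul_mem ha hb)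
        · refine Or.inr ?_
          rw [show a * b * t = a * t * (t * b * t) by rw [← mul_assoc (a * t), ← mul_assoc (a * t), mul_assoc a t t, ht2, mul_one]]
          exact mul_mem ha (hUt b hb)
        · refine Or.inl ?_
          rw [show a * b = a * t * (t * (b * t) * t) by
            rw [← mul_assoc (a * t), ← mul_assoc (a * t), mul_assoc a t t, ht2, mul_one, mul_assoc a, mul_assoc b, ht2, mul_one]]
          exact mul_mem ha (hUt _ hb)
      inv_mem' := by
        rintro a (ha | ha)
        · exact Or.inl (inv_mem ha)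
        · refine Or.inr ?_
          rw [show a⁻¹ * t = t * (a * t)⁻¹ * t by rw [mul_inv_rev, ← mul_assoc, mul_inv_cancel, one_mul]]
          exact hUt _ (inv_mem ha) }
  have hMcard : Nat.card M = 18 := by
    have hb : Function.Bijective (fun p : U × Fin 2 => (⟨p.1 * t ^ (p.2 : ℕ), by
        obtain ⟨u, i⟩ := p
        fin_cases i
        · exact Or.inl (by simpa using u.2)
        · exact Or.inr (by simpa [mul_assoc, ht2] using u.2)⟩ : M)) := by
      constructor
      · rintro ⟨u, i⟩ ⟨v, j⟩ h
        have h' : (u : G) * t ^ (i : ℕ) = v * t ^ (j : ℕ) := congrArg Subtype.val h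
        have hij : i = j := by
          by_contra hne
          apply htJ'
          fin_cases i <;> fin_cases j
          · exact absurd rfl hne
          · have h'' : (u : G) = v * t := by simpa using h'
            rw [show t = (v : G)⁻¹ * u by rw [h'', inv_mul_cancel_left]]
            exact mul_mem (inv_mem (hUJ v.2)) (hUJ u.2)
          · have h'' : (u : G) * t = v := by simpa using h'
            rw [show t = (u : G)⁻¹ * v by rw [← h'', inv_mul_cancel_left]]
            exact mul_mem (inv_mem (hUJ u.2)) (hUJ v.2)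
          · exact absurd rfl hne
        subst hij
        exact Prod.ext (Subtype.ext (mul_right_cancel h')) rfl
      · rintro ⟨x, hx | hx⟩
        · exact ⟨(⟨x, hx⟩, 0), Subtype.ext (by simp)⟩
        · exact ⟨(⟨x * t, hx⟩, 1), Subtype.ext (by simp [mul_assoc, ht2])⟩
    have := Nat.card_eq_of_bijective _ hb
    rw [Nat.card_prod, Nat.card_fin, hUcard] at this
    omega
  have hMz : z ∉ M := by
    rintro (h | h)
    · exact hUz h
    · apply htJ'
      rw [show t = z⁻¹ * (z * t) by rw [inv_mul_cancel_left]]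
      exact mul_mem (inv_mem hzJ) (hUJ h)
  have hcore : M.normalCore = ⊥ := by
    by_contra hne
    have hNz : z ∉ M.normalCore := fun h => hMz (M.normalCore_le h)
    by_cases hNS : M.normalCore ⊓ (S : Subgroup G) = ⊥
    · obtain ⟨n, hn, hn1⟩ := M.normalCore.bot_or_exists_ne_one.resolve_left hne
      have hnc : ∀ g : G, g * n = n * g := by
        intro g
        have hd := Subgroup.relIndex_dvd_index_of_normal (S : Subgroup G) M.normalCore
        rw [hSi, ← Subgroup.inf_relIndex_right, inf_comm, hNS, Subgroup.relIndex_bot_left] at hd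
        have hcard : Nat.card M.normalCore ≤ 2 := Nat.le_of_dvd (by norm_num) hd
        have hmem : g * n * g⁻¹ = n := by
          by_contra h
          have h3 : ({1, n, g * n * g⁻¹} : Finset G).card ≤ 2 := by
            refine le_trans ?_ hcard
            rw [← Nat.card_eq_finsetCard]
            exact Nat.card_le_card_of_injective (fun x => ⟨x.1, by
              rcases Finset.mem_insert.1 x.2 with e | e
              · rw [e]; exact one_mem _
              rcases Finset.mem_insert.1 e with e | e
              · rw [e]; exact hn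
              · rw [Finset.mem_singleton.1 e]; exact M.normalCore_normal.conj_mem n hn g⟩)
              (fun a b e => Subtype.ext (congrArg (fun w : M.normalCore => (w : G)) e))
          rw [Finset.card_insert_of_notMem (by
            simp only [Finset.mem_insert, Finset.mem_singleton, not_or]
            exact ⟨Ne.symm hn1, fun e => hn1 (conj_eq_one_iff.1 e.symm)⟩), Finset.card_pair (Ne.symm h)] at h3
          omega
        exact mul_inv_eq_iff_eq_mul.1 hmem
      have hnM : n ∈ M := M.normalCore_le hn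
      have hnt : ∃ u ∈ U, n = u * t := by
        rcases hnM with h | h
        · exfalso
          have : n ∈ M.normalCore ⊓ (S : Subgroup G) := ⟨hn, hJS (hUJ h)⟩
          rw [hNS, Subgroup.mem_bot] at this
          exact hn1 this
        · exact ⟨n * t, h, by rw [mul_assoc, ht2, mul_one]⟩
      obtain ⟨u, hu, hut⟩ := hnt
      have hn2 : n * n = 1 := by
        have hin : n * n ∈ M.normalCore ⊓ (S : Subgroup G) := ⟨mul_mem hn hn, Subgroup.mul_self_mem_of_index_two hSi n⟩
        rwa [hNS, Subgroup.mem_bot] at hin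
      have hu1 : u = 1 := by
        have htu : t * u = u * t := by
          have h1 := hnc t
          rw [hut] at h1
          calc t * u = t * (u * t) * t := by rw [← mul_assoc t u t, mul_assoc, ht2, mul_one]
            _ = u * t * t * t := by rw [h1]
            _ = u * t := by rw [mul_assoc (u * t), ht2, mul_one]
        rw [hut] at hn2
        have huu : u * u = 1 := by
          rw [show u * t * (u * t) = u * (t * u) * t by group, htu] at hn2
          rwa [← mul_assoc u u t, mul_assoc (u * u), ht2, mul_one] at hn2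
        have h3 := hJexp u (hUJ hu)
        rwa [pow_succ, pow_two, huu, one_mul] at h3
      rw [hu1, one_mul] at hut
      apply hST
      refine inf_eq_left.2 fun s hs => Subgroup.mem_centralizer_iff.2 fun w hw => ?_
      rcases hTeq w hw with rfl | rfl
      · rw [one_mul, mul_one]
      · rw [← hut]; exact (hnc s).symm
    · obtain ⟨x, hx, hx1, hxZ⟩ := central _ inferInstance inf_le_right hNS
      rw [hZeq] at hxZ
      have hzp : Subgroup.zpowers x = Subgroup.zpowers z := by
        refine Subgroup.eq_of_le_of_card_ge (by rwa [Subgroup.zpowers_le]) ?_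
        rw [Nat.card_zpowers, horder, Nat.card_zpowers]
        have : orderOf x ∣ 3 := by
          rw [← horder, ← Nat.card_zpowers z]; exact Subgroup.orderOf_dvd_natCard _ hxZ
        rcases (Nat.dvd_prime Nat.prime_three).1 this with e | e
        · exact absurd (orderOf_eq_one_iff.1 e) hx1
        · exact e.ge
      have hxN : Subgroup.zpowers x ≤ M.normalCore := by rw [Subgroup.zpowers_le]; exact hx.1
      exact hNz (hxN (hzp ▸ Subgroup.mem_zpowers z))
  have hidx : Nat.card (G ⧸ M) = 9 := by
    have := Subgroup.card_mul_index M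
    rw [hMcard, hG] at this
    change M.index = 9
    omega
  haveI := Fintype.ofFinite (G ⧸ M)
  let e : G ⧸ M ≃ Fin 9 := Fintype.equivFinOfCardEq (by rw [← Nat.card_eq_fintype_card, hidx])
  let ψ : G →* Equiv.Perm (Fin 9) := e.permCongrHom.toMonoidHom.comp (MulAction.toPermHom G (G ⧸ M))
  have hψinj : Function.Injective ψ := by
    refine e.permCongrHom.injective.comp ?_
    rw [← MonoidHom.ker_eq_bot_iff, ← Subgroup.normalCore_eq_ker, hcore]
  set c : Equiv.Perm (Fin 9) := Equiv.swap (0 : Fin 9) 1 * Equiv.swap 1 2 * Equiv.swap 3 4 * Equiv.swap 4 5 * Equiv.swap 6 7 * Equiv.swap 7 8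
  have hct : ∀ π : Equiv.Perm (Fin 9), orderOf π = 3 → (∀ i, π i ≠ i) → π.cycleType = Multiset.replicate 3 3 := by
    intro π ho hf
    obtain ⟨k, hk⟩ := Equiv.Perm.cycleType_prime_order (ho ▸ Nat.prime_three : (orderOf π).Prime)
    have hs := π.sum_cycleType
    rw [Finset.eq_univ_of_forall (fun i => Equiv.Perm.mem_support.2 (hf i)), Finset.card_univ,
      Fintype.card_fin, hk, Multiset.sum_replicate, smul_eq_mul, ho] at hs
    rw [hk, ho, show k + 1 = 3 by omega]
  have hc : c.cycleType = Multiset.replicate 3 3 := hct c (orderOf_eq_prime (by decide) (by decide)) (by decide)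
  have hψz : (ψ z).cycleType = Multiset.replicate 3 3 := by
    refine hct _ (by rw [orderOf_injective ψ hψinj, horder]) fun i hi => ?_
    obtain ⟨g, hg⟩ := QuotientGroup.mk_surjective (e.symm i)
    have h2 : z • (QuotientGroup.mk g : G ⧸ M) = QuotientGroup.mk g := by
      refine e.injective ?_
      calc e (z • (QuotientGroup.mk g : G ⧸ M)) = ψ z i := by rw [hg]; rfl
        _ = i := hi
        _ = _ := by rw [hg, Equiv.apply_symm_apply]
    rw [MulAction.Quotient.smul_mk, QuotientGroup.eq, smul_eq_mul, ← hzc g, mul_inv_rev, inv_mul_cancel_right] at h2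
    exact hMz (inv_inv z ▸ inv_mem h2)
  obtain ⟨σ, hσ⟩ := isConj_iff.1 (Equiv.Perm.isConj_iff_cycleType_eq.2 (hψz.trans hc.symm))
  let ψ' : G →* Subgroup.centralizer ({c} : Set (Equiv.Perm (Fin 9))) :=
    ((MulAut.conj σ).toMonoidHom.comp ψ).codRestrict _ fun g => Subgroup.mem_centralizer_singleton_iff.2 (by
      show MulAut.conj σ (ψ g) * c = c * MulAut.conj σ (ψ g)
      rw [← hσ, ← MulAut.conj_apply σ (ψ z), ← map_mul (MulAut.conj σ) (ψ g), ← map_mul (MulAut.conj σ) (ψ z),
        ← map_mul ψ, ← map_mul ψ, hzc g])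
  have hψ'inj : Function.Injective ψ' := fun a b h =>
    hψinj ((MulAut.conj σ).injective (congrArg Subtype.val h))
  refine ⟨MulEquiv.ofBijective ψ' ((Nat.bijective_iff_injective_and_card _).2 ⟨hψ'inj, ?_⟩)⟩
  rw [hG, Equiv.Perm.nat_card_centralizer, hc, Fintype.card_fin]
  decide

end Cfsg.Agent.S3376
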