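import Cfsg.Statements.S3377
import Cfsg.Agent.Lib.Recog.TriangleTwoThreeFive

set_option autoImplicit false
open Cfsg

namespace Cfsg.Agent.S3377

/-- The alternating group of degree 5 has the presentation ⟨x, y | x³ = 1, y⁵ = 1, (xy)² = 1⟩: the group so presented is isomorphic to Alt(5). -/
theorem result :
    Nonempty (PresentedGroup ({FreeGroup.of (0 : Fin 2) ^ 3, FreeGroup.of (1 : Fin 2) ^ 5,
        (FreeGroup.of (0 : Fin 2) * FreeGroup.of 1) ^ 2} : Set (FreeGroup (Fin 2))) ≃* alternatingGroup (Fin 5)) := by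
  set rels : Set (FreeGroup (Fin 2)) := {FreeGroup.of (0 : Fin 2) ^ 3, FreeGroup.of (1 : Fin 2) ^ 5,
    (FreeGroup.of (0 : Fin 2) * FreeGroup.of 1) ^ 2} with hrels
  let X : alternatingGroup (Fin 5) := ⟨Equiv.swap 0 2 * Equiv.swap 2 4, Equiv.Perm.mem_alternatingGroup.2 (by decide)⟩
  let Y : alternatingGroup (Fin 5) := ⟨Equiv.swap 0 1 * Equiv.swap 1 4 * Equiv.swap 4 3 * Equiv.swap 3 2, Equiv.Perm.mem_alternatingGroup.2 (by decide)⟩
  let f : Fin 2 → alternatingGroup (Fin 5) := ![X, Y]
  have h : ∀ r ∈ rels, FreeGroup.lift f r = 1 := by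
    intro r hr
    rcases hr with rfl | rfl | rfl <;> simp only [map_pow, map_mul, FreeGroup.lift_apply_of, f] <;> decide
  let φ := PresentedGroup.toGroup h
  set x : PresentedGroup rels := PresentedGroup.of 0
  set y : PresentedGroup rels := PresentedGroup.of 1
  obtain ⟨hfin, hle⟩ := Recog.T235.card_le x y
    (by
      rw [eq_top_iff, ← PresentedGroup.closure_range_of]
      refine Subgroup.closure_mono ?_
      rintro _ ⟨i, rfl⟩
      fin_cases i
      · exact Or.inl rfl
      · exact Or.inr rfl)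
    (by
      have := PresentedGroup.one_of_mem (rels := rels) (x := FreeGroup.of (0 : Fin 2) ^ 3) (Or.inl rfl)
      rwa [map_pow] at this)
    (by
      have := PresentedGroup.one_of_mem (rels := rels) (x := FreeGroup.of (1 : Fin 2) ^ 5) (Or.inr (Or.inl rfl))
      rwa [map_pow] at this)
    (by
      have := PresentedGroup.one_of_mem (rels := rels) (x := (FreeGroup.of (0 : Fin 2) * FreeGroup.of 1) ^ 2) (Or.inr (Or.inr rfl))
      rwa [map_pow, map_mul] at this)
  have h60 : Nat.card (alternatingGroup (Fin 5)) = 60 := by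
    rw [Nat.card_eq_fintype_card]
    decide +kernel
  have hX : X ∈ φ.range := ⟨x, PresentedGroup.toGroup.of h⟩
  have hY : Y ∈ φ.range := ⟨y, PresentedGroup.toGroup.of h⟩
  have hdvd : ∀ g ∈ φ.range, orderOf g ∣ Nat.card φ.range := fun g hg => by
    have h2 := orderOf_dvd_natCard (⟨g, hg⟩ : φ.range)
    rwa [Subgroup.orderOf_mk] at h2
  have h30 : 30 ∣ Nat.card φ.range := by
    have h3 : 3 ∣ Nat.card φ.range := by
      have : Fact (Nat.Prime 3) := ⟨Nat.prime_three⟩
      have h1 := orderOf_eq_prime (p := 3) (show (X) ^ 3 = 1 by decide) (show X ≠ 1 by decide)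
      have h2 := hdvd X hX
      exact (Eq.symm h1).dvd.trans h2
    have h5 : 5 ∣ Nat.card φ.range := by
      have : Fact (Nat.Prime 5) := ⟨by norm_num⟩
      have h1 := orderOf_eq_prime (p := 5) (show (Y) ^ 5 = 1 by decide) (show Y ≠ 1 by decide)
      have h2 := hdvd Y hY
      exact (Eq.symm h1).dvd.trans h2
    have h2 : 2 ∣ Nat.card φ.range := by
      have : Fact (Nat.Prime 2) := ⟨Nat.prime_two⟩
      have h1 := orderOf_eq_prime (p := 2) (show (X * Y) ^ 2 = 1 by decide) (show X * Y ≠ 1 by decide)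
      have h2 := hdvd _ (mul_mem hX hY)
      exact (Eq.symm h1).dvd.trans h2
    omega
  have hsurj : Function.Surjective φ := by
    rw [← MonoidHom.range_eq_top]
    by_contra hne
    have hidx := Subgroup.card_mul_index φ.range
    rw [h60] at hidx
    obtain ⟨k, hk⟩ := h30
    have hk2 : φ.range.index = 2 := by
      have h1 : φ.range.index ≠ 1 := fun e => hne (Subgroup.index_eq_one.1 e)
      rw [hk, mul_assoc] at hidx
      have hle : φ.range.index ∣ 2 := ⟨k, by rw [mul_comm]; omega⟩
      exact ((Nat.dvd_prime Nat.prime_two).1 hle).resolve_left h1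
    have := Subgroup.normal_of_index_eq_two hk2
    rcases alternatingGroup.isSimpleGroup_five.eq_bot_or_eq_top_of_normal φ.range inferInstance with hb | ht
    · rw [hb, Subgroup.mem_bot] at hX
      exact absurd hX (by decide)
    · exact hne ht
  have hcard : Nat.card (PresentedGroup rels) = 60 :=
    le_antisymm hle (h60 ▸ Nat.card_le_card_of_surjective φ hsurj)
  exact ⟨MulEquiv.ofBijective φ ((Nat.bijective_iff_surjective_and_card φ).2 ⟨hsurj, hcard.trans h60.symm⟩)⟩

end Cfsg.Agent.S3377
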