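import Cfsg.Statements.S3378
import Cfsg.Agent.S0493
import Cfsg.Agent.Lib.SmallSimple.Alternating
import Cfsg.Agent.Lib.Recog.MinNormal
import Cfsg.Agent.Lib.Recog.BinaryIcosahedral

set_option autoImplicit false
open Cfsg

namespace Cfsg.Agent.S3378

theorem presented_iso {H : Type*} [Group H] [Finite H] (hH : Nat.card H = 120) (a b c : H)
    (hgen : Subgroup.closure {a, b, c} = ⊤) (ha : a ^ 3 = 1) (hb : b ^ 5 = 1) (hc : c ^ 2 = 1)
    (hca : c * a = a * c) (hcb : c * b = b * c) (hab : (a * b) ^ 2 = c) :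
    Nonempty (PresentedGroup ({FreeGroup.of (0 : Fin 3) ^ 3, FreeGroup.of (1 : Fin 3) ^ 5, FreeGroup.of (2 : Fin 3) ^ 2,
        (FreeGroup.of (2 : Fin 3))⁻¹ * FreeGroup.of 0 * FreeGroup.of 2 * (FreeGroup.of (0 : Fin 3))⁻¹,
        (FreeGroup.of (2 : Fin 3))⁻¹ * FreeGroup.of 1 * FreeGroup.of 2 * (FreeGroup.of (1 : Fin 3))⁻¹,
        (FreeGroup.of (0 : Fin 3) * FreeGroup.of 1) ^ 2 * (FreeGroup.of (2 : Fin 3))⁻¹} : Set (FreeGroup (Fin 3)))
      ≃* H) := by
  set rels : Set (FreeGroup (Fin 3)) := {FreeGroup.of (0 : Fin 3) ^ 3, FreeGroup.of (1 : Fin 3) ^ 5, FreeGroup.of (2 : Fin 3) ^ 2,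
        (FreeGroup.of (2 : Fin 3))⁻¹ * FreeGroup.of 0 * FreeGroup.of 2 * (FreeGroup.of (0 : Fin 3))⁻¹,
        (FreeGroup.of (2 : Fin 3))⁻¹ * FreeGroup.of 1 * FreeGroup.of 2 * (FreeGroup.of (1 : Fin 3))⁻¹,
        (FreeGroup.of (0 : Fin 3) * FreeGroup.of 1) ^ 2 * (FreeGroup.of (2 : Fin 3))⁻¹} with hrels
  set x : PresentedGroup rels := PresentedGroup.of 0 with hxdef
  set y : PresentedGroup rels := PresentedGroup.of 1 with hydef
  set z : PresentedGroup rels := PresentedGroup.of 2 with hzdef
  have hle : Finite (PresentedGroup rels) ∧ Nat.card (PresentedGroup rels) ≤ 120 := by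
    have h1 := fun (r : FreeGroup (Fin 3)) (hr : r ∈ rels) => PresentedGroup.one_of_mem (rels := rels) hr
    refine Recog.BinIco.card_le x y z ?_ ?_ ?_ ?_ ?_ ?_ ?_
    · rw [eq_top_iff, ← PresentedGroup.closure_range_of]
      refine Subgroup.closure_mono ?_
      rintro _ ⟨i, rfl⟩
      fin_cases i
      · exact Or.inl rfl
      · exact Or.inr (Or.inl rfl)
      · exact Or.inr (Or.inr rfl)
    · have := h1 _ (Or.inl rfl)
      rwa [map_pow] at this
    · have := h1 _ (Or.inr (Or.inl rfl))
      rwa [map_pow] at this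
    · have := h1 _ (Or.inr (Or.inr (Or.inl rfl)))
      rwa [map_pow] at this
    · have := h1 _ (Or.inr (Or.inr (Or.inr (Or.inl rfl))))
      rw [map_mul, map_mul, map_mul, map_inv, map_inv] at this
      change z⁻¹ * x * z * x⁻¹ = 1 at this
      rw [mul_inv_eq_one, mul_assoc, inv_mul_eq_iff_eq_mul] at this
      exact this.symm
    · have := h1 _ (Or.inr (Or.inr (Or.inr (Or.inr (Or.inl rfl)))))
      rw [map_mul, map_mul, map_mul, map_inv, map_inv] at this
      change z⁻¹ * y * z * y⁻¹ = 1 at this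
      rw [mul_inv_eq_one, mul_assoc, inv_mul_eq_iff_eq_mul] at this
      exact this.symm
    · have := h1 _ (Or.inr (Or.inr (Or.inr (Or.inr (Or.inr rfl)))))
      rw [map_mul, map_pow, map_mul, map_inv, mul_inv_eq_one] at this
      exact this
  have hfin := hle.1
  -- maps to a group of order 120
  let f : Fin 3 → H := ![a, b, c]
  have h : ∀ r ∈ rels, FreeGroup.lift f r = 1 := by
    intro r hr
    rcases hr with rfl | rfl | rfl | rfl | rfl | rfl <;>
      simp only [map_pow, map_mul, map_inv, FreeGroup.lift_apply_of, f, Matrix.cons_val_zero, Matrix.cons_val_one,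
        Matrix.cons_val]
    · exact ha
    · exact hb
    · exact hc
    · rw [mul_inv_eq_one, mul_assoc, inv_mul_eq_iff_eq_mul, hca]
    · rw [mul_inv_eq_one, mul_assoc, inv_mul_eq_iff_eq_mul, hcb]
    · rw [mul_inv_eq_one, hab]
  let φ := PresentedGroup.toGroup h
  have hsurj : Function.Surjective φ := by
    rw [← MonoidHom.range_eq_top, eq_top_iff, ← hgen, Subgroup.closure_le]
    rintro u (rfl | rfl | hu)
    · exact ⟨x, PresentedGroup.toGroup.of h⟩
    · exact ⟨y, PresentedGroup.toGroup.of h⟩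
    · rw [Set.mem_singleton_iff] at hu; subst hu
      exact ⟨z, PresentedGroup.toGroup.of h⟩
  have hcard : Nat.card (PresentedGroup rels) = Nat.card H :=
    le_antisymm (hle.2.trans hH.ge) (Nat.card_le_card_of_surjective φ hsurj)
  exact ⟨MulEquiv.ofBijective φ ((Nat.bijective_iff_surjective_and_card φ).2 ⟨hsurj, hcard⟩)⟩

/-- Every non-solvable group of order 120 whose Sylow 2-subgroups are quaternion of order 8 is isomorphic to SL(2,5), and SL(2,5) has the presentation ⟨x, y, z | x³ = y⁵ = z² = 1, z⁻¹xz = x, z⁻¹yz = y, (xy)² = z⟩. -/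
theorem result :
    (∀ (G : Type*) [Group G] [Finite G], Nat.card G = 120 → ¬ Group.IsSolvable G →
      (∀ P : Sylow 2 G, Nonempty ((P : Subgroup G) ≃* QuaternionGroup 2)) →
      Nonempty (G ≃* Matrix.SpecialLinearGroup (Fin 2) (ZMod 5))) ∧
    Nonempty (PresentedGroup ({FreeGroup.of (0 : Fin 3) ^ 3, FreeGroup.of (1 : Fin 3) ^ 5, FreeGroup.of (2 : Fin 3) ^ 2,
        (FreeGroup.of (2 : Fin 3))⁻¹ * FreeGroup.of 0 * FreeGroup.of 2 * (FreeGroup.of (0 : Fin 3))⁻¹,
        (FreeGroup.of (2 : Fin 3))⁻¹ * FreeGroup.of 1 * FreeGroup.of 2 * (FreeGroup.of (1 : Fin 3))⁻¹,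
        (FreeGroup.of (0 : Fin 3) * FreeGroup.of 1) ^ 2 * (FreeGroup.of (2 : Fin 3))⁻¹} : Set (FreeGroup (Fin 3)))
      ≃* Matrix.SpecialLinearGroup (Fin 2) (ZMod 5)) := by
  set rels : Set (FreeGroup (Fin 3)) := {FreeGroup.of (0 : Fin 3) ^ 3, FreeGroup.of (1 : Fin 3) ^ 5, FreeGroup.of (2 : Fin 3) ^ 2,
        (FreeGroup.of (2 : Fin 3))⁻¹ * FreeGroup.of 0 * FreeGroup.of 2 * (FreeGroup.of (0 : Fin 3))⁻¹,
        (FreeGroup.of (2 : Fin 3))⁻¹ * FreeGroup.of 1 * FreeGroup.of 2 * (FreeGroup.of (1 : Fin 3))⁻¹,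
        (FreeGroup.of (0 : Fin 3) * FreeGroup.of 1) ^ 2 * (FreeGroup.of (2 : Fin 3))⁻¹} with hrels
  obtain ⟨hgx, hgy, hgxy, -, -, -, -⟩ := Recog.BinIco.gx_gy
  obtain ⟨e⟩ := presented_iso Recog.BinIco.card_SL25 Recog.BinIco.gx Recog.BinIco.gy (-1)
    (eq_top_iff.2 (Recog.BinIco.closure_gen ▸ Subgroup.closure_mono (fun u hu => by
      rcases hu with h | h
      · exact Or.inl h
      · exact Or.inr (Or.inl h))))
    hgx hgy (by rw [pow_two, neg_one_mul, neg_neg]) (by rw [neg_one_mul, mul_neg_one]) (by rw [neg_one_mul, mul_neg_one]) hgxy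
  refine ⟨fun G _ _ hG hns hQ => ?_, ⟨e⟩⟩
  classical
  -- small groups are solvable
  have small : ∀ (n : ℕ) (H : Type u_1) [Group H] [Finite H], Nat.card H = n → n < 60 → Group.IsSolvable H := by
    intro n
    induction n using Nat.strong_induction_on with
    | _ n ih =>
      intro H _ _ hH hn
      rcases subsingleton_or_nontrivial H with hs | hnt
      · exact Group.isSolvable_of_comm fun a b => Subsingleton.elim _ _
      obtain ⟨N, hN⟩ := Recog.exists_isMinNormal (G := H)
      have := hN.normal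
      by_cases htop : N = ⊤
      · have hs : IsSimpleGroup H := ⟨fun K hK => (hN.minimal K hK (htop ▸ le_top)).imp id (fun e => e.trans htop)⟩
        by_cases hc : IsCyclic H
        · have := hc
          exact Group.isSolvable_of_comm fun a b => IsCyclic.commGroup.mul_comm a b
        · have := S0493.result hc (by omega)
          omega
      · have h1 := Subgroup.card_mul_index N
        have hN1 : Nat.card N ≠ 1 := fun e => hN.ne_bot (Subgroup.card_eq_one.1 e)
        have hi1 : N.index ≠ 1 := fun e => htop (Subgroup.index_eq_one.1 e)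
        rw [hH] at h1
        have hn0 : 0 < n := hH ▸ Nat.card_pos
        have hN0 : 0 < Nat.card N := Nat.card_pos
        have hi0 : 0 < N.index := Nat.pos_of_ne_zero Subgroup.index_ne_zero_of_finite
        have s1 : Group.IsSolvable N := ih _ (by rw [← h1]; exact lt_mul_of_one_lt_right hN0 (by omega)) N rfl (by
          have := Nat.le_of_dvd (by omega) (Dvd.intro _ h1 : Nat.card N ∣ n)
          omega)
        have s2 : Group.IsSolvable (H ⧸ N) := ih _ (by
          show Nat.card (H ⧸ N) < n
          rw [← h1]; exact lt_mul_of_one_lt_left hi0 (by omega)) (H ⧸ N) rfl (by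
          show Nat.card (H ⧸ N) < 60
          have := Nat.le_of_dvd (by omega) (Dvd.intro_left _ h1 : N.index ∣ n)
          exact lt_of_le_of_lt this hn)
        exact Group.isSolvable_of_ker_le_range N.subtype (QuotientGroup.mk' N)
          (by rw [QuotientGroup.ker_mk', Subgroup.range_subtype])
  have sixty : ∀ (H : Type u_1) [Group H] [Finite H], Nat.card H = 60 → ¬ Group.IsSolvable H →
      Nonempty (H ≃* alternatingGroup (Fin 5)) := by
    intro H _ _ hH hns
    have hnt : Nontrivial H := Finite.one_lt_card_iff_nontrivial.1 (by omega)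
    have hs : IsSimpleGroup H := ⟨fun N hN => or_iff_not_imp_left.2 fun hb => by_contra fun ht => hns (by
      have h1 := Subgroup.card_mul_index N
      have hN1 : Nat.card N ≠ 1 := fun e => hb (Subgroup.card_eq_one.1 e)
      have hi1 : N.index ≠ 1 := fun e => ht (Subgroup.index_eq_one.1 e)
      rw [hH] at h1
      have hN0 : 0 < Nat.card N := Nat.card_pos
      have hi0 : 0 < N.index := Nat.pos_of_ne_zero Subgroup.index_ne_zero_of_finite
      have h2i : 2 ≤ N.index := by omega
      have h2N : 2 ≤ Nat.card N := by omega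
      have s1 : Group.IsSolvable N := small _ N rfl (by nlinarith)
      have s2 : Group.IsSolvable (H ⧸ N) := small _ (H ⧸ N) rfl (show N.index < 60 by nlinarith)
      exact Group.isSolvable_of_ker_le_range N.subtype (QuotientGroup.mk' N)
        (by rw [QuotientGroup.ker_mk', Subgroup.range_subtype]))⟩
    exact SmallSimple.mulEquiv_alternating_five hH
  -- the unique involution
  have hq : ∀ u : QuaternionGroup 2, u * u = 1 → u = 1 ∨ u = QuaternionGroup.a 2 := by decide
  have huniq : ∀ s t : G, s * s = 1 → t * t = 1 → s ≠ 1 → t ≠ 1 → s * t = t * s → s = t := by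
    intro s t hs ht hs1 ht1 hst
    let K : Subgroup G := Subgroup.closure {s, t}
    have hK : IsPGroup 2 K := by
      intro u
      refine ⟨1, Subtype.ext ?_⟩
      show (u : G) ^ 2 ^ 1 = 1
      have hcomm : IsMulCommutative K := Subgroup.isMulCommutative_closure (by
        rintro a (rfl | rfl) b (rfl | rfl)
        exacts [rfl, hst, hst.symm, rfl])
      let S : Subgroup G :=
        { carrier := {a | a ∈ K ∧ a * a = 1}
          one_mem' := ⟨one_mem K, one_mul 1⟩
          mul_mem' := fun {a b} ha hb => ⟨mul_mem ha.1 hb.1, by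
            have hab : a * b = b * a := congrArg Subtype.val (hcomm.is_comm.comm ⟨a, ha.1⟩ ⟨b, hb.1⟩)
            calc a * b * (a * b) = a * (b * a) * b := by simp only [mul_assoc]
              _ = a * (a * b) * b := by rw [hab]
              _ = (a * a) * (b * b) := by simp only [mul_assoc]
              _ = 1 := by rw [ha.2, hb.2, one_mul]⟩
          inv_mem' := fun {a} ha => ⟨inv_mem ha.1, by rw [← mul_inv_rev, ha.2, inv_one]⟩ }
      have hle : K ≤ S := by
        rw [Subgroup.closure_le]
        rintro a (rfl | rfl)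
        · exact ⟨Subgroup.subset_closure (Or.inl rfl), hs⟩
        · exact ⟨Subgroup.subset_closure (Or.inr rfl), ht⟩
      rw [pow_one, pow_two]
      exact (hle u.2).2
    obtain ⟨P, hP⟩ := hK.exists_le_sylow
    obtain ⟨eP⟩ := hQ P
    have hone : ∀ a : G, a * a = 1 → a ≠ 1 → ∀ ha : a ∈ (P : Subgroup G), eP ⟨a, ha⟩ = QuaternionGroup.a 2 := by
      intro a h2 h1 ha
      refine (hq _ ?_).resolve_left ?_
      · rw [← map_mul, show (⟨a, ha⟩ : (P : Subgroup G)) * ⟨a, ha⟩ = 1 from Subtype.ext h2, map_one]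
      · rw [EmbeddingLike.map_eq_one_iff]
        exact fun e => h1 (congrArg Subtype.val e)
    have h := eP.injective ((hone s hs hs1 (hP (Subgroup.subset_closure (Or.inl rfl)))).trans
      (hone t ht ht1 (hP (Subgroup.subset_closure (Or.inr rfl)))).symm)
    exact congrArg Subtype.val h
  have hnt : Nontrivial G := Finite.one_lt_card_iff_nontrivial.1 (by omega)
  obtain ⟨M, hM⟩ := Recog.exists_isMinNormal (G := G)
  have hMn := hM.normal
  have hmi := Subgroup.card_mul_index M
  rw [hG] at hmi
  have hM1 : Nat.card M ≠ 1 := fun e => hM.ne_bot (Subgroup.card_eq_one.1 e)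
  have hdiv : Nat.card M = 2 ∨ Nat.card M = 60 ∨ Nat.card M = 120 := by
    by_contra h
    push Not at h
    have hlt : Nat.card M < 60 ∧ M.index < 60 := by
      have hd : Nat.card M ∣ 120 := ⟨_, hmi.symm⟩
      have hle := Nat.le_of_dvd (by norm_num) hd
      have h2 : 3 ≤ Nat.card M := by have := Nat.card_pos (α := M); omega
      refine ⟨?_, by nlinarith⟩
      by_contra h60
      obtain ⟨k, hk⟩ := hd
      have : k ≤ 2 := by nlinarith
      interval_cases k <;> omega
    exact hns (by
      have s1 : Group.IsSolvable M := small _ M rfl hlt.1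
      have s2 : Group.IsSolvable (G ⧸ M) := small _ (G ⧸ M) rfl hlt.2
      exact Group.isSolvable_of_ker_le_range M.subtype (QuotientGroup.mk' M)
        (by rw [QuotientGroup.ker_mk', Subgroup.range_subtype]))
  rcases hdiv with h2 | h60 | h120
  swap
  · exfalso
    have hMns : ¬ Group.IsSolvable M := fun hs => hns (by
      have s2 : Group.IsSolvable (G ⧸ M) := small _ (G ⧸ M) rfl (show M.index < 60 by rw [h60] at hmi; omega)
      exact Group.isSolvable_of_ker_le_range M.subtype (QuotientGroup.mk' M)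
        (by rw [QuotientGroup.ker_mk', Subgroup.range_subtype]))
    obtain ⟨e5⟩ := sixty M h60 hMns
    have hA : ∃ a b : alternatingGroup (Fin 5), a * a = 1 ∧ b * b = 1 ∧ a ≠ 1 ∧ b ≠ 1 ∧ a * b = b * a ∧ a ≠ b :=
      ⟨⟨Equiv.swap 0 1 * Equiv.swap 2 3, Equiv.Perm.mem_alternatingGroup.2 (by decide)⟩,
        ⟨Equiv.swap 0 2 * Equiv.swap 1 3, Equiv.Perm.mem_alternatingGroup.2 (by decide)⟩,
        Subtype.ext (by decide), Subtype.ext (by decide),
        fun h => absurd (congrArg Subtype.val h) (by decide), fun h => absurd (congrArg Subtype.val h) (by decide),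
        Subtype.ext (by decide), fun h => absurd (congrArg Subtype.val h) (by decide)⟩
    obtain ⟨a, b, ha, hb, ha1, hb1, hab, hne⟩ := hA
    refine hne (e5.symm.injective (Subtype.ext (huniq _ _ ?_ ?_ ?_ ?_ ?_)))
    · rw [← Subgroup.coe_mul, ← map_mul, ha, map_one]; rfl
    · rw [← Subgroup.coe_mul, ← map_mul, hb, map_one]; rfl
    · simpa using ha1
    · simpa using hb1
    · rw [← Subgroup.coe_mul, ← Subgroup.coe_mul, ← map_mul, ← map_mul, hab]
  swap
  · exfalso
    have hMt : M = ⊤ := Subgroup.eq_top_of_card_eq M (h120.trans hG.symm)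
    have hs : IsSimpleGroup G := ⟨fun K hK => (hM.minimal K hK (hMt ▸ le_top)).imp id (fun e => e.trans hMt)⟩
    have : Fact (Nat.Prime 5) := ⟨by norm_num⟩
    have hna : ¬ IsMulCommutative G := fun h => hns (Group.isSolvable_of_comm fun a b => h.is_comm.comm a b)
    have hn1 := SmallSimple.card_sylow_ne_one hna (p := 5) (by rw [hG]; norm_num)
    obtain ⟨R⟩ : Nonempty (Sylow 5 G) := inferInstance
    have hR : Nat.card R = 5 := by
      rw [SmallSimple.card_sylow_of_eq (k := 1) (m := 24) R (by rw [hG]; norm_num) (by norm_num), pow_one]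
    have hn6 : Nat.card (Sylow 5 G) = 6 := by
      have hd := R.card_dvd_index
      have h3 := Subgroup.card_mul_index (R : Subgroup G)
      rw [hR, hG] at h3
      rw [show (R : Subgroup G).index = 24 by omega] at hd
      have hm := card_sylow_modEq_one 5 G
      rw [Nat.ModEq] at hm
      have hle := Nat.le_of_dvd (by norm_num) hd
      interval_cases hn : Nat.card (Sylow 5 G) <;> omega
    obtain ⟨P⟩ : Nonempty (Sylow 2 G) := inferInstance
    obtain ⟨eP⟩ := hQ P
    set t : (P : Subgroup G) := eP.symm (QuaternionGroup.a 2) with ht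
    have hP8 : Nat.card (P : Subgroup G) = 8 := by
      rw [Nat.card_congr eP.toEquiv, Nat.card_eq_fintype_card, QuaternionGroup.card]
    have hfix : ∀ S : Sylow 5 G, (t : G) • S = S := by
      intro S
      have hst : MulAction.stabilizer (P : Subgroup G) S ≠ ⊥ := by
        intro hb
        have h := MulAction.orbitEquivQuotientStabilizer (P : Subgroup G) S
        have hle := Nat.card_le_card_of_injective (fun o : MulAction.orbit (P : Subgroup G) S => (o : Sylow 5 G))
          Subtype.val_injective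
        rw [Nat.card_congr h, hn6] at hle
        have h2 := Subgroup.card_eq_card_quotient_mul_card_subgroup (MulAction.stabilizer (P : Subgroup G) S)
        rw [hb, Subgroup.card_bot, mul_one, hP8] at h2
        rw [hb] at hle
        omega
      obtain ⟨u, hu, hu1⟩ := (Subgroup.bot_or_exists_ne_one _).resolve_left hst
      have key : ∀ v : QuaternionGroup 2, v ≠ 1 → v = QuaternionGroup.a 2 ∨ v * v = QuaternionGroup.a 2 := by decide
      rcases key (eP u) (by simpa using hu1) with h | h
      · have : t = u := by rw [ht, ← h, MulEquiv.symm_apply_apply]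
        rw [this]; exact hu
      · have : t = u * u := by rw [ht, ← h, ← map_mul, MulEquiv.symm_apply_apply]
        rw [this]; exact mul_mem hu hu
    have hker : (MulAction.toPermHom G (Sylow 5 G)).ker = ⊥ := by
      rcases hs.eq_bot_or_eq_top_of_normal _ (MonoidHom.normal_ker (MulAction.toPermHom G (Sylow 5 G))) with h | h
      · exact h
      · exfalso
        have hsub : Subsingleton (Sylow 5 G) := ⟨fun S T => by
          obtain ⟨g, rfl⟩ := MulAction.exists_smul_eq G S T
          have hg : g ∈ (MulAction.toPermHom G (Sylow 5 G)).ker := h ▸ Subgroup.mem_top g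
          exact (Equiv.congr_fun (MonoidHom.mem_ker.1 hg) S).symm⟩
        have := Finite.card_le_one_iff_subsingleton.2 hsub
        omega
    have htk : (t : G) ∈ (MulAction.toPermHom G (Sylow 5 G)).ker := MonoidHom.mem_ker.2 (Equiv.ext hfix)
    rw [hker, Subgroup.mem_bot] at htk
    have h1 : t = 1 := Subtype.ext htk
    rw [ht, EmbeddingLike.map_eq_one_iff] at h1
    exact absurd h1 (by decide)
  -- the central extension
  have hqc : Nat.card (G ⧸ M) = 60 := by
    show M.index = 60
    rw [h2] at hmi; omega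
  obtain ⟨e5⟩ := sixty (G ⧸ M) hqc fun hs => hns (by
    have s1 : Group.IsSolvable M := small _ M rfl (by omega)
    exact Group.isSolvable_of_ker_le_range M.subtype (QuotientGroup.mk' M)
      (by rw [QuotientGroup.ker_mk', Subgroup.range_subtype]))
  obtain ⟨c, hc, hc1⟩ := (Subgroup.bot_or_exists_ne_one M).resolve_left hM.ne_bot
  have hMel : ∀ u ∈ M, u = 1 ∨ u = c := by
    intro u hu
    by_contra hcon
    push Not at hcon
    have : ({1, c, u} : Finset G).card = 3 := by
      rw [Finset.card_eq_three]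
      exact ⟨1, c, u, Ne.symm hc1, Ne.symm hcon.1, Ne.symm hcon.2, rfl⟩
    have hle : ({1, c, u} : Finset G).card ≤ Nat.card M := by
      rw [← Set.ncard_coe_finset, ← SetLike.coe_sort_coe, Nat.card_coe_set_eq]
      refine Set.ncard_le_ncard ?_
      simp only [Finset.coe_insert, Finset.coe_singleton, Set.insert_subset_iff, Set.singleton_subset_iff]
      exact ⟨one_mem M, hc, hu⟩
    omega
  have hcc : ∀ g : G, c * g = g * c := fun g => by
    rcases hMel _ (hMn.conj_mem c hc g) with h | h
    · exact absurd (conj_eq_one_iff.1 h) hc1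
    · exact (mul_inv_eq_iff_eq_mul.1 h).symm
  have hcsq : c * c = 1 := by
    rcases hMel _ (mul_mem hc hc) with h | h
    · exact h
    · exact absurd (mul_eq_left.1 h) hc1
  let X : alternatingGroup (Fin 5) := ⟨Equiv.swap 0 2 * Equiv.swap 2 4, Equiv.Perm.mem_alternatingGroup.2 (by decide)⟩
  let Y : alternatingGroup (Fin 5) := ⟨Equiv.swap 0 1 * Equiv.swap 1 4 * Equiv.swap 4 3 * Equiv.swap 3 2, Equiv.Perm.mem_alternatingGroup.2 (by decide)⟩
  let π : G →* alternatingGroup (Fin 5) := e5.toMonoidHom.comp (QuotientGroup.mk' M)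
  have hπker : ∀ g, π g = 1 → g ∈ M := fun g h => by
    have : (g : G ⧸ M) = 1 := e5.injective (h.trans (map_one e5).symm)
    exact (QuotientGroup.eq_one_iff g).1 this
  have hπs : Function.Surjective π := e5.surjective.comp (QuotientGroup.mk'_surjective M)
  have hπc : π c = 1 := by
    show e5 (QuotientGroup.mk' M c) = 1
    rw [show (QuotientGroup.mk' M c) = 1 from (QuotientGroup.eq_one_iff c).2 hc, map_one]
  have hpowM : ∀ g : G, ∀ k, π g ^ k = 1 → g ^ (2 * k) = 1 := fun g k h => by
    rw [mul_comm, pow_mul]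
    rcases hMel _ (hπker (g ^ k) (by rw [map_pow, h])) with h' | h' <;> rw [h']
    · exact one_pow 2
    · rw [pow_two, hcsq]
  obtain ⟨a0, ha0⟩ := hπs X
  obtain ⟨b0, hb0⟩ := hπs Y
  set a := a0 ^ 4 with hadef
  set b := b0 ^ 6 with hbdef
  have hX : X ^ 3 = 1 ∧ Y ^ 5 = 1 ∧ (X * Y) ^ 2 = 1 ∧ X * Y ≠ 1 ∧ X ≠ 1 ∧ Y ≠ 1 :=
    ⟨Subtype.ext (by decide), Subtype.ext (by decide), Subtype.ext (by decide),
      fun h => absurd (congrArg Subtype.val h) (by decide), fun h => absurd (congrArg Subtype.val h) (by decide),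
      fun h => absurd (congrArg Subtype.val h) (by decide)⟩
  have hπa : π a = X := by rw [hadef, map_pow, ha0, show 4 = 3 + 1 by rfl, pow_succ, hX.1, one_mul]
  have hπb : π b = Y := by rw [hbdef, map_pow, hb0, show 6 = 5 + 1 by rfl, pow_succ, hX.2.1, one_mul]
  have ha3 : a ^ 3 = 1 := by
    rw [hadef, ← pow_mul, show 4 * 3 = (2 * 3) * 2 by rfl, pow_mul, hpowM a0 3 (by rw [ha0, hX.1]), one_pow]
  have hb5 : b ^ 5 = 1 := by
    rw [hbdef, ← pow_mul, show 6 * 5 = (2 * 5) * 3 by rfl, pow_mul, hpowM b0 5 (by rw [hb0, hX.2.1]), one_pow]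
  have hab : (a * b) ^ 2 = c := by
    rcases hMel _ (hπker ((a * b) ^ 2) (by rw [map_pow, map_mul, hπa, hπb, hX.2.2.1])) with h | h
    · exfalso
      rw [pow_two] at h
      have hne : a * b ≠ 1 := fun e => hX.2.2.2.1 (by rw [← hπa, ← hπb, ← map_mul, e, map_one])
      have := huniq _ c h hcsq hne hc1 (hcc (a * b)).symm
      apply hX.2.2.2.1
      rw [← hπa, ← hπb, ← map_mul, this, hπc]
    · exact h
  have hgen : Subgroup.closure ({a, b, c} : Set G) = ⊤ := by
    set K := Subgroup.closure ({a, b, c} : Set G)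
    have haK : a ∈ K := Subgroup.subset_closure (Or.inl rfl)
    have hbK : b ∈ K := Subgroup.subset_closure (Or.inr (Or.inl rfl))
    have hcK : c ∈ K := Subgroup.subset_closure (Or.inr (Or.inr rfl))
    have hA5 : K.map π = ⊤ := by
      set L := K.map π
      have hXL : X ∈ L := hπa ▸ Subgroup.mem_map_of_mem π haK
      have hYL : Y ∈ L := hπb ▸ Subgroup.mem_map_of_mem π hbK
      have hdvd : ∀ g ∈ L, orderOf g ∣ Nat.card L := fun g hg => by
        have h2 := orderOf_dvd_natCard (⟨g, hg⟩ : L)
        rwa [Subgroup.orderOf_mk] at h2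
      have h30 : 30 ∣ Nat.card L := by
        have h3 : 3 ∣ Nat.card L := by
          have : Fact (Nat.Prime 3) := ⟨Nat.prime_three⟩
          exact (Eq.symm (orderOf_eq_prime hX.1 hX.2.2.2.2.1)).dvd.trans (hdvd _ hXL)
        have h5 : 5 ∣ Nat.card L := by
          have : Fact (Nat.Prime 5) := ⟨by norm_num⟩
          exact (Eq.symm (orderOf_eq_prime hX.2.1 hX.2.2.2.2.2)).dvd.trans (hdvd _ hYL)
        have h2 : 2 ∣ Nat.card L := by
          have : Fact (Nat.Prime 2) := ⟨Nat.prime_two⟩
          exact (Eq.symm (orderOf_eq_prime hX.2.2.1 hX.2.2.2.1)).dvd.trans (hdvd _ (mul_mem hXL hYL))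
        omega
      by_contra hne
      have h60 : Nat.card (alternatingGroup (Fin 5)) = 60 := by
        rw [← Nat.card_congr e5.toEquiv, hqc]
      have hidx := Subgroup.card_mul_index L
      rw [h60] at hidx
      obtain ⟨k, hk⟩ := h30
      have hk2 : L.index = 2 := by
        have h1 : L.index ≠ 1 := fun e => hne (Subgroup.index_eq_one.1 e)
        rw [hk, mul_assoc] at hidx
        have hle : L.index ∣ 2 := ⟨k, by rw [mul_comm]; omega⟩
        exact ((Nat.dvd_prime Nat.prime_two).1 hle).resolve_left h1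
      have := Subgroup.normal_of_index_eq_two hk2
      rcases alternatingGroup.isSimpleGroup_five.eq_bot_or_eq_top_of_normal L inferInstance with hb | ht
      · rw [hb, Subgroup.mem_bot] at hXL
        exact hX.2.2.2.2.1 hXL
      · exact hne ht
    rw [eq_top_iff]
    intro g _
    obtain ⟨k, hk, hkg⟩ : π g ∈ K.map π := hA5 ▸ Subgroup.mem_top _
    have hm : g * k⁻¹ ∈ K := by
      rcases hMel _ (hπker (g * k⁻¹) (by rw [map_mul, map_inv, hkg, mul_inv_cancel])) with h | h <;> rw [h]
      · exact one_mem K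
      · exact hcK
    simpa using mul_mem hm hk
  obtain ⟨e'⟩ := presented_iso hG a b c hgen ha3 hb5 (show c ^ 2 = 1 by rw [pow_two, hcsq]) (hcc a) (hcc b) hab
  exact ⟨e'.symm.trans e⟩

end Cfsg.Agent.S3378
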