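import Cfsg.Statements.S3379
import Mathlib

set_option autoImplicit false
open Cfsg Subgroup

namespace Cfsg.Agent.S3379

/-- Let G be a finite group all of whose Sylow subgroups are cyclic. Then G is generated by two elements x and y of coprime orders n and m with x⁻¹yx = y^r, where gcd(r − 1, m) = 1 and r^n ≡ 1 (mod m). -/
theorem result {G : Type*} [Group G] [Finite G]
    (hZ : ∀ (p : ℕ) [Fact p.Prime] (P : Sylow p G), IsCyclic (P : Subgroup G)) :
    ∃ (x y : G) (n m r : ℕ), Subgroup.closure {x, y} = ⊤ ∧ orderOf x = n ∧ orderOf y = m ∧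
      x⁻¹ * y * x = y ^ r ∧ Nat.Coprime (r - 1) m ∧ Nat.Coprime n m ∧ 1 ≤ r ∧ r ^ n % m = 1 % m := by
  haveI : IsZGroup G := ⟨fun p hp P => @hZ p ⟨hp⟩ P⟩
  classical
  obtain ⟨y0, hy0⟩ := isCyclic_iff_exists_zpowers_eq_top.mp (IsZGroup.isCyclic_commutator G)
  set y : G := (y0 : G) with hydef
  have hy : zpowers y = commutator G := by
    have := congrArg (Subgroup.map (commutator G).subtype) hy0
    rw [MonoidHom.map_zpowers, ← MonoidHom.range_eq_map, Subgroup.range_subtype] at this
    exact this
  set m := orderOf y with hm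
  have hmC : Nat.card (commutator G) = m := by rw [← hy, Nat.card_zpowers]
  set n := (commutator G).index with hn
  have hcop : m.Coprime n := hmC ▸ IsZGroup.coprime_commutator_index G
  obtain ⟨H, hH⟩ := Subgroup.exists_right_complement'_of_coprime (IsZGroup.coprime_commutator_index G)
  let eH : Abelianization G ≃* H := hH.symm.QuotientMulEquiv
  haveI : IsCyclic H := eH.isCyclic.mp inferInstance
  obtain ⟨x0, hx0⟩ := isCyclic_iff_exists_zpowers_eq_top.mp (inferInstance : IsCyclic H)
  set x : G := (x0 : G) with hx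
  have hxo : orderOf x = n := by
    rw [hx, Subgroup.orderOf_coe, ← Nat.card_zpowers, hx0, Subgroup.card_top, hn,
      hH.symm.index_eq_card]
  have hn0 : 0 < n := hxo ▸ orderOf_pos x
  have hm0 : 0 < m := orderOf_pos y
  haveI hYn : (zpowers y).Normal := hy ▸ inferInstance
  obtain ⟨r0, hr0⟩ : ∃ r0 : ℕ, x⁻¹ * y * x = y ^ r0 := by
    have := hYn.conj_mem y (mem_zpowers y) x⁻¹
    rw [inv_inv] at this
    obtain ⟨k, hk⟩ := (isOfFinOrder_of_finite y).mem_powers_iff_mem_zpowers.mpr this
    exact ⟨k, hk.symm⟩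
  set r := r0 + m with hr
  have hr1 : 1 ≤ r := by omega
  have hxr : x⁻¹ * y * x = y ^ r := by rw [hr, pow_add, pow_orderOf_eq_one, mul_one, hr0]
  -- `x` and `y` generate
  have hgen : Subgroup.closure ({x, y} : Set G) = ⊤ := by
    rw [eq_top_iff, ← hH.sup_eq_top, sup_le_iff, ← hy]
    refine ⟨zpowers_le.mpr (subset_closure (Set.mem_insert_of_mem _ rfl)), fun u hu => ?_⟩
    have : (⟨u, hu⟩ : H) ∈ zpowers x0 := hx0 ▸ mem_top _
    obtain ⟨i, hi⟩ := mem_zpowers_iff.mp this
    rw [show u = x ^ i from (congrArg Subtype.val hi).symm.trans (by rw [Subgroup.coe_zpow])]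
    exact zpow_mem (subset_closure (Set.mem_insert _ _)) _
  have hrm : (r - 1).Coprime m := by
    -- the subgroup generated by `y ^ (r - 1)` is normal with commutative quotient
    set D := zpowers (y ^ (r - 1)) with hD
    have hconj : ∀ i : ℕ, x⁻¹ * y ^ i * x = y ^ (r * i) := fun i => by
      have h := conj_pow (a := x⁻¹) (b := y) (i := i)
      rw [inv_inv] at h
      rw [← h, hxr, ← pow_mul]
    have hxD : x⁻¹ * y ^ (r - 1) * x ∈ D := by
      rw [hconj, Nat.mul_comm, pow_mul]; exact pow_mem (mem_zpowers _) _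
    haveI hDn : D.Normal := by
      rw [← normalizer_eq_top_iff, eq_top_iff, ← hgen, closure_le]
      have key : ∀ g : G, g⁻¹ * y ^ (r - 1) * g ∈ D → g ∈ normalizer (D : Set G) := by
        intro g hg
        have hle : D.map (MulAut.conj g⁻¹).toMonoidHom ≤ D := by
          rw [hD, MonoidHom.map_zpowers, zpowers_le]
          simpa using hg
        have heq := Subgroup.eq_of_le_of_card_ge hle
          (Subgroup.card_map_of_injective (MulAut.conj g⁻¹).injective).ge
        rw [← inv_mem_iff]
        refine mem_normalizer_iff.mpr fun u => ?_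
        rw [inv_inv]
        conv_rhs => rw [← heq]
        constructor
        · intro hu; exact ⟨u, hu, by simp⟩
        · rintro ⟨v, hv, e⟩
          simp at e
          rwa [← e]
      rintro g (rfl | rfl)
      · exact key _ hxD
      · refine key _ ?_
        rw [show y⁻¹ * y ^ (r - 1) * y = y ^ (r - 1) by
          rw [mul_assoc, (Commute.pow_self y (r - 1)).eq, inv_mul_cancel_left]]
        exact mem_zpowers _
    have hle : commutator G ≤ D := by
      haveI : IsMulCommutative (Subgroup.closure ((QuotientGroup.mk' D) '' {x, y})) := by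
        refine isMulCommutative_closure ?_
        have hxy : (QuotientGroup.mk' D) y * (QuotientGroup.mk' D) x =
            (QuotientGroup.mk' D) x * (QuotientGroup.mk' D) y := by
          rw [← map_mul, ← map_mul]
          refine (QuotientGroup.eq.mpr ?_).symm
          rw [show (x * y)⁻¹ * (y * x) = y⁻¹ * (x⁻¹ * y * x) by group, hxr,
            show y⁻¹ * y ^ r = y ^ (r - 1) by
              rw [inv_mul_eq_iff_eq_mul, ← pow_succ', Nat.sub_add_cancel hr1]]
          exact mem_zpowers _
        rintro _ ⟨u, (rfl | rfl), rfl⟩ _ ⟨v, (rfl | rfl), rfl⟩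
        exacts [rfl, hxy.symm, hxy, rfl]
      rw [← QuotientGroup.ker_mk' D]
      refine fun c hc => ?_
      rw [MonoidHom.mem_ker]
      have hall : ∀ u : G, QuotientGroup.mk' D u ∈ Subgroup.closure ((QuotientGroup.mk' D) '' {x, y}) := by
        intro u
        rw [← MonoidHom.map_closure, hgen]
        exact mem_map_of_mem _ (mem_top u)
      let Q := Subgroup.closure ((QuotientGroup.mk' D) '' {x, y})
      let f : G →* Q := (QuotientGroup.mk' D).codRestrict Q hall
      letI : CommGroup Q := { (inferInstance : Group Q) with mul_comm := mul_comm' }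
      exact congrArg Subtype.val (MonoidHom.mem_ker.mp (Abelianization.commutator_subset_ker f hc))
    rw [← hy, zpowers_le] at hle
    obtain ⟨k, hk⟩ := (isOfFinOrder_of_finite _).mem_powers_iff_mem_zpowers.mpr hle
    simp only at hk
    rw [← pow_mul] at hk
    nth_rewrite 2 [← pow_one y] at hk
    rw [pow_eq_pow_iff_modEq] at hk
    refine Nat.coprime_of_dvd fun p hp hp1 hp2 => ?_
    have h1 : p ∣ 1 := ((hk.of_dvd hp2).dvd_iff dvd_rfl).mp (hp1.trans (dvd_mul_right _ _))
    exact hp.one_lt.ne' (Nat.dvd_one.mp h1)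
  have hconjx : ∀ i : ℕ, (x ^ i)⁻¹ * y * x ^ i = y ^ (r ^ i) := fun i => by
    induction i with
    | zero => simp
    | succ i ih =>
      rw [pow_succ, mul_inv_rev, show x⁻¹ * (x ^ i)⁻¹ * y * (x ^ i * x) = x⁻¹ * ((x ^ i)⁻¹ * y * x ^ i) * x by
        group, ih]
      have h := conj_pow (a := x⁻¹) (b := y) (i := r ^ i)
      rw [inv_inv] at h
      rw [← h, hxr, ← pow_mul, pow_succ']
  have hrn : r ^ n ≡ 1 [MOD m] := by
    have h := hconjx n
    rw [← hxo, pow_orderOf_eq_one, inv_one, one_mul, mul_one, hxo] at h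
    nth_rewrite 1 [← pow_one y] at h
    exact (pow_eq_pow_iff_modEq.mp h).symm
  exact ⟨x, y, n, m, r, hgen, hxo, hm.symm, hxr, hrm, hcop.symm, hr1, hrn⟩

end Cfsg.Agent.S3379
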