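import Cfsg.Statements.S3381


set_option autoImplicit false
open Cfsg

namespace Cfsg.Agent.S3381

/-- Let G be a finite group acting faithfully and linearly on a non-trivial finite vector space V over the field with q elements (q prime) so that every non-zero vector has a stabilizer of order 2, and suppose G has a central involution. Then V has q^(2r) elements for some r and G contains exactly q^r + 1 non-central involutions. -/
theorem result
    (q : ℕ) [Fact q.Prime] {V : Type*} [AddCommGroup V] [Module (ZMod q) V] [Finite V] [Nontrivial V]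
    {G : Type*} [Group G] [Finite G] (ρ : G →* (V ≃ₗ[ZMod q] V)) (hρ : Function.Injective ρ)
    (hstab : ∀ v : V, v ≠ 0 → Nat.card {g : G // ρ g v = v} = 2)
    (z : G) (hz : orderOf z = 2) (hzc : z ∈ Subgroup.center G) :
    ∃ r : ℕ, Nat.card V = q ^ (2 * r) ∧
      Nat.card {g : G // orderOf g = 2 ∧ g ∉ Subgroup.center G} = q ^ r + 1 := by
  classical
  have hinj : ∀ {a b : G}, (∀ v, ρ a v = ρ b v) → a = b := fun h => hρ (LinearEquiv.ext h)
  have act : ∀ (a b : G) v, ρ (a * b) v = ρ a (ρ b v) := fun a b v => by rw [map_mul]; rfl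
  have act1 : ∀ v, ρ 1 v = v := fun v => by rw [map_one]; rfl
  have huniq : ∀ (v : V), v ≠ 0 → ∀ a b : G, a ≠ 1 → b ≠ 1 → ρ a v = v → ρ b v = v → a = b := by
    intro v hv a b ha hb hav hbv
    by_contra hne
    have h2 := hstab v hv
    have h3 : ({1, a, b} : Finset G).card ≤ 2 := by
      rw [← h2, ← Nat.card_eq_finsetCard]
      refine Nat.card_le_card_of_injective (fun x => ⟨x.1, ?_⟩) (fun x y h => Subtype.ext (congrArg (fun w : {g : G // ρ g v = v} => w.1) h))
      rcases Finset.mem_insert.1 x.2 with h | h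
      · rw [h]; exact act1 v
      rcases Finset.mem_insert.1 h with h | h
      · rw [h]; exact hav
      · rw [Finset.mem_singleton.1 h]; exact hbv
    rw [Finset.card_insert_of_notMem (by simp [Ne.symm ha, Ne.symm hb]), Finset.card_pair hne] at h3
    omega
  have hex : ∀ v : V, v ≠ 0 → ∃ a : G, a ≠ 1 ∧ orderOf a = 2 ∧ ρ a v = v := by
    intro v hv
    have h2 := hstab v hv
    haveI : Nontrivial {g : G // ρ g v = v} := Finite.one_lt_card_iff_nontrivial.1 (by omega)
    obtain ⟨⟨a, ha⟩, ha1⟩ := exists_ne (⟨1, act1 v⟩ : {g : G // ρ g v = v})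
    have ha1' : a ≠ 1 := fun h => ha1 (Subtype.ext h)
    refine ⟨a, ha1', ?_, ha⟩
    refine orderOf_eq_prime ?_ ha1'
    by_contra hne
    have haa : ρ (a ^ 2) v = v := by rw [pow_two, act, ha, ha]
    have := huniq v hv a (a ^ 2) ha1' hne ha haa
    exact ha1' (mul_right_cancel (b := a) (by rw [one_mul, ← pow_two, ← this]))
  have hneg : ∀ c : G, orderOf c = 2 → c ∈ Subgroup.center G → (∀ v, ρ c v = -v) ∧ ∃ v : V, -v ≠ v := by
    intro c hc hcc
    have hc1 : c ≠ 1 := fun h => by rw [h, orderOf_one] at hc; omega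
    have hcc2 : c * c = 1 := by rw [← pow_two, ← hc, pow_orderOf_eq_one]
    have hcomm : ∀ a : G, ∀ v, ρ c (ρ a v) = ρ a (ρ c v) := fun a v => by
      rw [← act, ← act, Subgroup.mem_center_iff.1 hcc a]
    have hfree : ∀ v, ρ c v = v → v = 0 := by
      intro v hv
      by_contra hv0
      obtain ⟨u, hu⟩ : ∃ u, ρ c u ≠ u := by
        by_contra h
        push Not at h
        exact hc1 (hinj fun x => (h x).trans (act1 x).symm)
      set w := ρ c u - u with hw
      have hw0 : w ≠ 0 := sub_ne_zero.2 hu
      have hcw : ρ c w = -w := by rw [hw, map_sub, ← act, hcc2, act1, neg_sub]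
      have hu0 : u ≠ 0 := fun h => hu (by rw [h, map_zero])
      obtain ⟨t, ht1, -, htu⟩ := hex u hu0
      have htw : ρ t w = w := by rw [hw, map_sub, ← hcomm, htu]
      by_cases hww : -w = w
      · have htc := huniq w hw0 t c ht1 hc1 htw (hcw.trans hww)
        rw [htc] at htu
        exact hu htu
      · have hvw : v + w ≠ 0 := fun h => by
          have h1 : ρ c (v + w) = 0 := by rw [h, map_zero]
          rw [map_add, hv, hcw] at h1
          exact hww (add_left_cancel (h1.trans h.symm))
        obtain ⟨s, hs1, -, hs⟩ := hex (v + w) hvw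
        have hs2 : ρ s (v + -w) = v + -w := by
          have h1 : ρ c (v + w) = v + -w := by rw [map_add, hv, hcw]
          rw [← h1, ← hcomm, hs]
        have hvv : ρ s (v + v) = v + v := by
          have : v + v = (v + w) + (v + -w) := by abel
          rw [this, map_add, hs, hs2]
        have hne : v + v ≠ 0 := by
          intro h
          apply hww
          have h2 : (2 : ZMod q) = 0 := by
            by_contra hne2
            have : (2 : ZMod q) • v = 0 := by rw [two_smul, h]
            exact hv0 ((smul_eq_zero.1 this).resolve_left hne2)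
          have : w + w = 0 := by rw [← two_smul (ZMod q) w, h2, zero_smul]
          exact neg_eq_of_add_eq_zero_left this
        have hcv : ρ c (v + v) = v + v := by rw [map_add, hv]
        have hsc := huniq (v + v) hne s c hs1 hc1 hvv hcv
        rw [hsc, map_add, hv, hcw] at hs
        exact hww (add_left_cancel hs)
    have hall : ∀ u, ρ c u = -u := fun u => by
      refine eq_neg_of_add_eq_zero_left (hfree _ ?_)
      rw [map_add, ← act, hcc2, act1, add_comm]
    refine ⟨hall, ?_⟩
    by_contra h
    push Not at h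
    exact hc1 (hinj fun x => ((hall x).trans (h x)).trans (act1 x).symm)
  obtain ⟨hzneg, v₁, hv₁⟩ := hneg z hz hzc
  have hz1 : z ≠ 1 := fun h => by rw [h, orderOf_one] at hz; omega
  have htwo : (2 : ZMod q) ≠ 0 := fun h2 => hv₁ (neg_eq_of_add_eq_zero_left (by rw [← two_smul (ZMod q) v₁, h2, zero_smul]))
  have hnn : ∀ w : V, -w = w → w = 0 := fun w h => by
    have : (2 : ZMod q) • w = 0 := by rw [two_smul]; exact neg_eq_iff_add_eq_zero.1 h
    exact (smul_eq_zero.1 this).resolve_left htwo
  let I := {g : G // orderOf g = 2 ∧ g ∉ Subgroup.center G}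
  have hI : ∀ g : G, (orderOf g = 2 ∧ g ∉ Subgroup.center G) ↔ (g ≠ 1 ∧ g * g = 1 ∧ g ≠ z) := by
    intro g
    constructor
    · rintro ⟨h1, h2⟩
      exact ⟨fun h => by rw [h, orderOf_one] at h1; omega, by rw [← pow_two, ← h1, pow_orderOf_eq_one],
        fun h => h2 (h ▸ hzc)⟩
    · rintro ⟨h1, h2, h3⟩
      have ho : orderOf g = 2 := orderOf_eq_prime (by rw [pow_two, h2]) h1
      exact ⟨ho, fun hc => h3 (hinj fun v => ((hneg g ho hc).1 v).trans (hzneg v).symm)⟩
  let W : G → Submodule (ZMod q) V := fun g => LinearMap.ker ((ρ g : V →ₗ[ZMod q] V) - LinearMap.id)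
  have hW : ∀ g v, v ∈ W g ↔ ρ g v = v := fun g v => by
    show ((ρ g : V →ₗ[ZMod q] V) - LinearMap.id : V →ₗ[ZMod q] V) v = 0 ↔ _
    rw [LinearMap.sub_apply, sub_eq_zero]
    rfl
  haveI : Module.Finite (ZMod q) V := Module.Finite.of_finite
  set n := Module.finrank (ZMod q) V with hn
  have hdisj : ∀ a b : G, a ≠ 1 → b ≠ 1 → a ≠ b → Disjoint (W a) (W b) := fun a b ha hb hab =>
    Submodule.disjoint_def.2 fun v hva hvb => by
      by_contra hv
      exact hab (huniq v hv a b ha hb ((hW a v).1 hva) ((hW b v).1 hvb))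
  have hle : ∀ a b : G, a ≠ 1 → b ≠ 1 → a ≠ b →
      Module.finrank (ZMod q) (W a) + Module.finrank (ZMod q) (W b) ≤ n := fun a b ha hb hab => by
    rw [← Submodule.finrank_sup_add_finrank_inf_eq, (hdisj a b ha hb hab).eq_bot, finrank_bot, add_zero]
    exact Submodule.finrank_le _
  have hmain : ∀ t : G, t ≠ 1 → t * t = 1 → t ≠ z → 2 * Module.finrank (ZMod q) (W t) = n ∧ W t ≠ ⊥ := by
    intro t ht1 htt htz
    have hpt : ∀ v, ρ (t * z) v = -ρ t v := fun v => by rw [act, hzneg, map_neg]
    have hex1 : ∃ a : V, a ≠ 0 ∧ ρ t a = a := by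
      by_contra h
      push Not at h
      refine htz (hinj fun v => ?_)
      rw [hzneg]
      refine eq_neg_of_add_eq_zero_left ?_
      by_contra hne
      exact h _ hne (by rw [map_add, ← act, htt, act1, add_comm])
    have hex2 : ∃ b : V, b ≠ 0 ∧ ρ t b = -b := by
      by_contra h
      push Not at h
      refine ht1 (hinj fun v => ?_)
      rw [act1]
      refine sub_eq_zero.1 ?_
      by_contra hne
      exact h _ hne (by rw [map_sub, ← act, htt, act1, neg_sub])
    obtain ⟨a, ha, hta⟩ := hex1
    obtain ⟨b, hb, htb⟩ := hex2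
    have htz1 : t * z ≠ 1 := fun h => htz (by
      calc t = t * z * z := by rw [mul_assoc, ← pow_two z, ← hz, pow_orderOf_eq_one, mul_one]
        _ = z := by rw [h, one_mul])
    have hsum : W t ⊔ W (t * z) = ⊤ := by
      rw [eq_top_iff]
      intro v _
      have hv : v = (2 : ZMod q)⁻¹ • (v + ρ t v) + (2 : ZMod q)⁻¹ • (v - ρ t v) := by
        rw [← smul_add, show v + ρ t v + (v - ρ t v) = (2 : ZMod q) • v by rw [two_smul]; abel, inv_smul_smul₀ htwo]
      rw [hv]
      refine Submodule.add_mem_sup (Submodule.smul_mem _ _ ((hW _ _).2 ?_)) (Submodule.smul_mem _ _ ((hW _ _).2 ?_))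
      · rw [map_add, ← act, htt, act1, add_comm]
      · rw [hpt, map_sub, ← act, htt, act1, neg_sub]
    have hne' : t ≠ t * z := fun h => hz1 (mul_eq_left.1 h.symm)
    have hsn : Module.finrank (ZMod q) (W t) + Module.finrank (ZMod q) (W (t * z)) = n := by
      rw [← Submodule.finrank_sup_add_finrank_inf_eq, (hdisj _ _ ht1 htz1 hne').eq_bot, finrank_bot, add_zero,
        hsum, finrank_top]
    obtain ⟨s, hs1, -, hs⟩ := hex (a + b) (fun h => by
      have h1 : ρ t (a + b) = 0 := by rw [h, map_zero]
      rw [map_add, hta, htb] at h1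
      exact hb (hnn b (add_left_cancel (h1.trans h.symm))))
    have hst : s ≠ t := fun h => by
      rw [h, map_add, hta, htb] at hs
      exact hb (hnn b (add_left_cancel hs))
    have hstz : s ≠ t * z := fun h => by
      rw [h, map_add, hpt, hpt, hta, htb, neg_neg] at hs
      exact ha (hnn a (add_right_cancel hs))
    have hsz : s ≠ z := fun h => by
      rw [h, hzneg] at hs
      have h0 := hnn _ hs
      have h1 : ρ t (a + b) = 0 := by rw [h0, map_zero]
      rw [map_add, hta, htb] at h1
      exact hb (hnn b (add_left_cancel (h1.trans h0.symm)))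
    have hsz1 : s * z ≠ 1 := fun h => hsz (by
      calc s = s * z * z := by rw [mul_assoc, ← pow_two z, ← hz, pow_orderOf_eq_one, mul_one]
        _ = z := by rw [h, one_mul])
    have h1 := hle t s ht1 hs1 (Ne.symm hst)
    have h2 := hle (t * z) s htz1 hs1 (Ne.symm hstz)
    have hsum' : Module.finrank (ZMod q) (W s) + Module.finrank (ZMod q) (W (s * z)) = n := by
      refine le_antisymm (hle s (s * z) hs1 hsz1 (fun h => hz1 (mul_eq_left.1 h.symm))) ?_
      have hzz : z * z = 1 := by rw [← pow_two, ← hz, pow_orderOf_eq_one]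
      have hss : s * s = 1 := by
        by_contra hne
        have h4 : ρ (s * s) (a + b) = a + b := by rw [act, hs, hs]
        have := huniq (a + b) (fun h => by
          have h5 : ρ t (a + b) = 0 := by rw [h, map_zero]
          rw [map_add, hta, htb] at h5
          exact hb (hnn b (add_left_cancel (h5.trans h.symm)))) s (s * s) hs1 hne hs h4
        exact hs1 (mul_eq_left.1 this.symm)
      rw [hn, ← finrank_top (ZMod q) V]
      refine le_trans (Submodule.finrank_mono (?_ : (⊤ : Submodule (ZMod q) V) ≤ W s ⊔ W (s * z))) ?_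
      · intro v _
        have hv : v = (2 : ZMod q)⁻¹ • (v + ρ s v) + (2 : ZMod q)⁻¹ • (v - ρ s v) := by
          rw [← smul_add, show v + ρ s v + (v - ρ s v) = (2 : ZMod q) • v by rw [two_smul]; abel, inv_smul_smul₀ htwo]
        rw [hv]
        refine Submodule.add_mem_sup (Submodule.smul_mem _ _ ((hW _ _).2 ?_)) (Submodule.smul_mem _ _ ((hW _ _).2 ?_))
        · rw [map_add, ← act, hss, act1, add_comm]
        · rw [act, hzneg, map_neg, map_sub, ← act, hss, act1, neg_sub]
      · exact Submodule.finrank_add_le_finrank_add_finrank _ _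
    have h3 := hle t (s * z) ht1 hsz1 (fun h => hstz (by
      rw [h, mul_assoc, ← pow_two z, ← hz, pow_orderOf_eq_one, mul_one]))
    have h4 := hle (t * z) (s * z) htz1 hsz1 (fun h => hst (mul_right_cancel h).symm)
    exact ⟨by omega, fun h => ha ((Submodule.eq_bot_iff _).1 h a ((hW t a).2 hta))⟩
  obtain ⟨v₀, hv₀⟩ := exists_ne (0 : V)
  obtain ⟨t₀, ht₀1, ht₀o, ht₀v⟩ := hex v₀ hv₀
  have ht₀z : t₀ ≠ z := fun h => by rw [h, hzneg] at ht₀v; exact hv₀ (hnn _ ht₀v)
  obtain ⟨h2r, hWbot⟩ := hmain t₀ ht₀1 (by rw [← pow_two, ← ht₀o, pow_orderOf_eq_one]) ht₀z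
  set r := Module.finrank (ZMod q) (W t₀) with hr
  have hcardV : Nat.card V = q ^ (2 * r) := by
    have h : Nat.card V = Nat.card (ZMod q) ^ Module.finrank (ZMod q) V := Module.natCard_eq_pow_finrank
    rw [h, Nat.card_zmod, h2r, ← hn]
  refine ⟨r, hcardV, ?_⟩
  have := Fintype.ofFinite V
  have := Fintype.ofFinite G
  have hcount : (Finset.univ.filter fun v : V => v ≠ 0).card =
      ∑ t ∈ Finset.univ.filter (fun g : G => orderOf g = 2 ∧ g ∉ Subgroup.center G),
        (Finset.univ.filter fun v : V => v ≠ 0 ∧ ρ t v = v).card := by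
    rw [← Finset.card_biUnion]
    · congr 1
      ext v
      simp only [Finset.mem_filter, Finset.mem_univ, true_and, Finset.mem_biUnion]
      refine ⟨fun hv => ?_, fun ⟨t, _, hv, _⟩ => hv⟩
      obtain ⟨t, ht1, hto, htv⟩ := hex v hv
      exact ⟨t, (hI t).2 ⟨ht1, by rw [← pow_two, ← hto, pow_orderOf_eq_one],
        fun h => by rw [h, hzneg] at htv; exact hv (hnn _ htv)⟩, hv, htv⟩
    · intro a ha b hb hab
      rw [Function.onFun, Finset.disjoint_left]
      intro v hva hvb
      simp only [Finset.mem_filter, Finset.mem_univ, true_and, Finset.coe_filter, Set.mem_setOf_eq] at ha hb hva hvb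
      exact hab (huniq v hva.1 a b ((hI a).1 ha).1 ((hI b).1 hb).1 hva.2 hvb.2)
  have hq1 : 1 ≤ q ^ r := Nat.one_le_pow _ _ (Fact.out : q.Prime).pos
  have hfib : ∀ t ∈ Finset.univ.filter (fun g : G => orderOf g = 2 ∧ g ∉ Subgroup.center G),
      (Finset.univ.filter fun v : V => v ≠ 0 ∧ ρ t v = v).card = q ^ r - 1 := by
    intro t ht
    obtain ⟨ht1, htt, htz⟩ := (hI t).1 (Finset.mem_filter.1 ht).2
    have hd := (hmain t ht1 htt htz).1
    have e : (Finset.univ.filter fun v : V => v ≠ 0 ∧ ρ t v = v) = ((W t : Set V).toFinset).erase 0 := by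
      ext v
      simp only [Finset.mem_filter, Finset.mem_univ, true_and, Finset.mem_erase, Set.mem_toFinset, SetLike.mem_coe, hW]
    rw [e, Finset.card_erase_of_mem (by rw [Set.mem_toFinset]; exact (W t).zero_mem), Set.toFinset_card,
      ← Nat.card_eq_fintype_card]
    have h : Nat.card (W t) = Nat.card (ZMod q) ^ Module.finrank (ZMod q) (W t) := Module.natCard_eq_pow_finrank
    simp only [SetLike.coe_sort_coe, h, Nat.card_zmod]
    rw [show Module.finrank (ZMod q) (W t) = r by omega]
  rw [Finset.sum_congr rfl hfib, Finset.sum_const, smul_eq_mul, Finset.filter_ne', Finset.card_erase_of_mem (Finset.mem_univ _),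
    Finset.card_univ, ← Nat.card_eq_fintype_card, hcardV] at hcount
  rw [Nat.card_eq_fintype_card, Fintype.card_subtype]
  have hrpos : r ≠ 0 := fun h => hWbot (Submodule.finrank_eq_zero.1 (hr ▸ h))
  have hgt : 1 < q ^ r := Nat.one_lt_pow hrpos (Fact.out : q.Prime).one_lt
  have h5 : q ^ (2 * r) - 1 = (q ^ r + 1) * (q ^ r - 1) := by
    rw [two_mul, pow_add, ← Nat.mul_self_sub_mul_self_eq, one_mul]
  rw [h5] at hcount
  exact (Nat.eq_of_mul_eq_mul_right (by omega) hcount).symm

end Cfsg.Agent.S3381
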