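import Cfsg.Statements.S3382


set_option autoImplicit false
set_option maxHeartbeats 2000000
open Cfsg

namespace Cfsg.Agent.S3382

private theorem fin2units : ∀ u : (ZMod (2 ^ 0 + 1))ˣ, u = 1 := by decide

private theorem fin3units : ∀ u : (ZMod (2 ^ 1 + 1))ˣ, u * u = 1 := by decide

private theorem fin3other : ∀ c d : (ZMod (2 ^ 1 + 1))ˣ, c ≠ d → d = -c := by decide

private theorem fin3neg : (-1 : (ZMod (2 ^ 1 + 1))ˣ) ≠ 1 := by decide

/-- Let q = 2^m + 1 be a prime other than 5. Then the automorphism group of the group of linear maps of F_q² of the forms (x, y) ↦ (a x, ± a⁻¹ y) and (x, y) ↦ (± a⁻¹ y, a x) with a ≠ 0 is itself a 2-group. -/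
theorem result (q m : ℕ) [Fact q.Prime] (hq : q = 2 ^ m + 1) (hq5 : q ≠ 5)
    (T : Subgroup ((Fin 2 → ZMod q) ≃ₗ[ZMod q] (Fin 2 → ZMod q)))
    (hT : ∀ f, f ∈ T ↔ ∃ a s : ZMod q, a ≠ 0 ∧ (s = 1 ∨ s = -1) ∧
      ((∀ v, f v = ![a * v 0, s * a⁻¹ * v 1]) ∨ (∀ v, f v = ![s * a⁻¹ * v 1, a * v 0]))) :
    IsPGroup 2 (MulAut T) := by
  classical
  have hq' : q.Prime := Fact.out
  let dl : (ZMod q)ˣ → (ZMod q)ˣ → ((Fin 2 → ZMod q) ≃ₗ[ZMod q] (Fin 2 → ZMod q)) := fun a s =>
    { toFun := fun v => ![(a : ZMod q) * v 0, (s : ZMod q) * ((a⁻¹ : (ZMod q)ˣ) : ZMod q) * v 1]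
      map_add' := fun u v => by
        simp only [Pi.add_apply, mul_add, Matrix.cons_add_cons, Matrix.empty_add_empty]
      map_smul' := fun c v => by
        simp only [Pi.smul_apply, smul_eq_mul, RingHom.id_apply, Matrix.smul_cons, Matrix.smul_empty, mul_left_comm]
      invFun := fun v => ![((a⁻¹ : (ZMod q)ˣ) : ZMod q) * v 0, (a : ZMod q) * ((s⁻¹ : (ZMod q)ˣ) : ZMod q) * v 1]
      left_inv := fun v => by
        funext i; fin_cases i
        · simp only [Fin.zero_eta, Matrix.cons_val_zero, Units.inv_mul_cancel_left]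
        · simp only [Fin.mk_one, Matrix.cons_val_one, Matrix.cons_val_zero, mul_assoc, Units.inv_mul_cancel_left, Units.mul_inv_cancel_left]
      right_inv := fun v => by
        funext i; fin_cases i
        · simp only [Fin.zero_eta, Matrix.cons_val_zero, Units.mul_inv_cancel_left]
        · simp only [Fin.mk_one, Matrix.cons_val_one, Matrix.cons_val_zero, mul_assoc, Units.inv_mul_cancel_left, Units.mul_inv_cancel_left] }
  let el : (ZMod q)ˣ → (ZMod q)ˣ → ((Fin 2 → ZMod q) ≃ₗ[ZMod q] (Fin 2 → ZMod q)) := fun a s =>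
    { toFun := fun v => ![(s : ZMod q) * ((a⁻¹ : (ZMod q)ˣ) : ZMod q) * v 1, (a : ZMod q) * v 0]
      map_add' := fun u v => by
        simp only [Pi.add_apply, mul_add, Matrix.cons_add_cons, Matrix.empty_add_empty]
      map_smul' := fun c v => by
        simp only [Pi.smul_apply, smul_eq_mul, RingHom.id_apply, Matrix.smul_cons, Matrix.smul_empty, mul_left_comm]
      invFun := fun v => ![((a⁻¹ : (ZMod q)ˣ) : ZMod q) * v 1, (a : ZMod q) * ((s⁻¹ : (ZMod q)ˣ) : ZMod q) * v 0]
      left_inv := fun v => by
        funext i; fin_cases i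
        · simp only [Fin.zero_eta, Matrix.cons_val_one, Matrix.cons_val_zero, Units.inv_mul_cancel_left]
        · simp only [Fin.mk_one, Matrix.cons_val_one, Matrix.cons_val_zero, mul_assoc, Units.inv_mul_cancel_left, Units.mul_inv_cancel_left]
      right_inv := fun v => by
        funext i; fin_cases i
        · simp only [Fin.zero_eta, Matrix.cons_val_one, Matrix.cons_val_zero, mul_assoc, Units.inv_mul_cancel_left, Units.mul_inv_cancel_left]
        · simp only [Fin.mk_one, Matrix.cons_val_one, Matrix.cons_val_zero, Units.mul_inv_cancel_left] }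
  let S := {s : (ZMod q)ˣ // s * s = 1}
  have sval : ∀ s : S, ((s.1 : ZMod q) = 1 ∨ (s.1 : ZMod q) = -1) := fun s =>
    mul_self_eq_one_iff.1 (by rw [← Units.val_mul, s.2, Units.val_one])
  let D : (ZMod q)ˣ → S → T := fun a s => ⟨dl a s.1, (hT _).2 ⟨a, s.1, a.ne_zero, sval s, Or.inl fun v => by simp only [← Units.val_inv_eq_inv_val]; rfl⟩⟩
  let E : (ZMod q)ˣ → S → T := fun a s => ⟨el a s.1, (hT _).2 ⟨a, s.1, a.ne_zero, sval s, Or.inr fun v => by simp only [← Units.val_inv_eq_inv_val]; rfl⟩⟩
  have hext : ∀ x y : T, (∀ v, (x : (Fin 2 → ZMod q) ≃ₗ[ZMod q] (Fin 2 → ZMod q)) v = (y : (Fin 2 → ZMod q) ≃ₗ[ZMod q] (Fin 2 → ZMod q)) v) → x = y :=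
    fun x y h => Subtype.ext (LinearEquiv.ext h)
  have hcases : ∀ x : T, ∃ a s, x = D a s ∨ x = E a s := by
    intro x
    obtain ⟨a, s, ha, hs, h⟩ := (hT _).1 x.2
    have hs0 : s ≠ 0 := by rcases hs with rfl | rfl <;> simp
    have hss : Units.mk0 s hs0 * Units.mk0 s hs0 = 1 := Units.ext (by rcases hs with rfl | rfl <;> simp)
    refine ⟨Units.mk0 a ha, ⟨Units.mk0 s hs0, hss⟩, ?_⟩
    rcases h with h | h
    · refine Or.inl (hext _ _ fun v => (h v).trans ?_)
      show _ = dl (Units.mk0 a ha) (Units.mk0 s hs0) v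
      simp only [dl, LinearEquiv.coe_mk, LinearMap.coe_mk, AddHom.coe_mk, Units.val_mk0, Units.val_inv_eq_inv_val]
    · refine Or.inr (hext _ _ fun v => (h v).trans ?_)
      show _ = el (Units.mk0 a ha) (Units.mk0 s hs0) v
      simp only [el, LinearEquiv.coe_mk, LinearMap.coe_mk, AddHom.coe_mk, Units.val_mk0, Units.val_inv_eq_inv_val]
  have hDD : ∀ a b s t, D a s * D b t = D (a * b) ⟨s.1 * t.1, by rw [mul_mul_mul_comm, s.2, t.2, one_mul]⟩ := by
    intro a b s t
    refine hext _ _ fun v => ?_
    show dl a s.1 (dl b t.1 v) = dl (a * b) (s.1 * t.1) v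
    funext i; fin_cases i <;> simp only [dl, LinearEquiv.coe_mk, LinearMap.coe_mk, AddHom.coe_mk, Fin.zero_eta, Fin.mk_one,
      Matrix.cons_val_zero, Matrix.cons_val_one, Units.val_mul, mul_inv_rev] <;> ring
  have hEE : ∀ a b s t, E a s * E b t = D (s.1 * a⁻¹ * b) ⟨s.1 * t.1, by rw [mul_mul_mul_comm, s.2, t.2, one_mul]⟩ := by
    intro a b s t
    refine hext _ _ fun v => ?_
    show el a s.1 (el b t.1 v) = dl (s.1 * a⁻¹ * b) (s.1 * t.1) v
    funext i; fin_cases i <;> simp only [dl, el, LinearEquiv.coe_mk, LinearMap.coe_mk, AddHom.coe_mk, Fin.zero_eta, Fin.mk_one,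
      Matrix.cons_val_zero, Matrix.cons_val_one, Units.val_mul, mul_inv_rev, inv_inv,
      inv_eq_of_mul_eq_one_right s.2] <;> (try ring) <;> rcases sval s with e | e <;> rw [e] <;> ring
  have hDE : ∀ a b s t, D a s * E b t = E (s.1 * a⁻¹ * b) ⟨s.1 * t.1, by rw [mul_mul_mul_comm, s.2, t.2, one_mul]⟩ := by
    intro a b s t
    refine hext _ _ fun v => ?_
    show dl a s.1 (el b t.1 v) = el (s.1 * a⁻¹ * b) (s.1 * t.1) v
    funext i; fin_cases i <;> simp only [dl, el, LinearEquiv.coe_mk, LinearMap.coe_mk, AddHom.coe_mk, Fin.zero_eta, Fin.mk_one,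
      Matrix.cons_val_zero, Matrix.cons_val_one, Units.val_mul, mul_inv_rev, inv_inv,
      inv_eq_of_mul_eq_one_right s.2] <;> (try ring) <;> rcases sval s with e | e <;> rw [e] <;> ring
  let o : S := ⟨1, one_mul 1⟩
  let j : S := ⟨-1, by simp⟩
  have hD1 : D 1 o = 1 := hext _ _ fun v => by
    show dl 1 1 v = v
    funext i; fin_cases i <;> simp only [dl, LinearEquiv.coe_mk, LinearMap.coe_mk, AddHom.coe_mk, Fin.zero_eta, Fin.mk_one,
      Matrix.cons_val_zero, Matrix.cons_val_one, inv_one, Units.val_one, one_mul]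
  have hDinj : ∀ a b s t, D a s = D b t → a = b ∧ s = t := by
    intro a b s t h
    have h1 := congrFun (LinearEquiv.congr_fun (congrArg Subtype.val h) ![1, 1])
    have ha : a = b := Units.ext (by simpa only [D, dl, LinearEquiv.coe_mk, LinearMap.coe_mk, AddHom.coe_mk,
      Matrix.cons_val_zero, mul_one] using h1 0)
    subst ha
    refine ⟨rfl, Subtype.ext (Units.ext (mul_right_cancel₀ (b := ((a⁻¹ : (ZMod q)ˣ) : ZMod q)) (Units.ne_zero _) ?_))⟩
    simpa only [D, dl, LinearEquiv.coe_mk, LinearMap.coe_mk, AddHom.coe_mk, Matrix.cons_val_one, Matrix.cons_val_zero, mul_one] using h1 1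
  have hS : ∀ s : S, s = o ∨ s = j := fun s => by
    rcases sval s with h | h
    · exact Or.inl (Subtype.ext (Units.ext h))
    · exact Or.inr (Subtype.ext (Units.ext (by rw [h]; simp [j])))
  have hDpow : ∀ a s (k : ℕ), ∃ t, D a s ^ k = D (a ^ k) t ∧ (Even k → t = o) := by
    intro a s k
    induction k with
    | zero => exact ⟨o, by rw [pow_zero, pow_zero, hD1], fun _ => rfl⟩
    | succ k ih =>
      obtain ⟨t, ht, hev⟩ := ih
      refine ⟨⟨t.1 * s.1, by rw [mul_mul_mul_comm, t.2, s.2, one_mul]⟩, by rw [pow_succ, ht, hDD, pow_succ], fun hk => ?_⟩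
      rcases Nat.even_or_odd k with hk' | hk'
      · exact absurd hk (Nat.not_even_iff_odd.2 hk'.add_one)
      obtain ⟨l, rfl⟩ := hk'
      clear hev
      obtain ⟨t', ht', hev'⟩ : ∃ t', D a s ^ (2 * l) = D (a ^ (2 * l)) t' ∧ t' = o := by
        clear ht
        induction l with
        | zero => exact ⟨o, by rw [pow_zero, pow_zero, hD1], rfl⟩
        | succ l ih2 =>
          obtain ⟨t', h1, h2⟩ := ih2 (by exact ⟨l + 1, by omega⟩)
          refine ⟨o, ?_, rfl⟩
          rw [show 2 * (l + 1) = 2 * l + 1 + 1 by omega, pow_succ, pow_succ, h1, h2, hDD, hDD, pow_succ, pow_succ]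
          congr 1
          exact Subtype.ext (by show 1 * s.1 * s.1 = 1; rw [one_mul, s.2])
      rw [pow_succ, ht', hDD, ← pow_succ] at ht
      obtain ⟨-, h3⟩ := hDinj _ _ _ _ ht
      refine Subtype.ext ?_
      show t.1 * s.1 = 1
      rw [← h3, hev']
      show 1 * s.1 * s.1 = 1
      rw [one_mul, s.2]
  intro φ
  have hone : ∀ ψ : MulAut T, Odd (orderOf ψ) → ψ = 1 := by
    intro ψ hodd
    have hpow : ∀ (x : T) (k : ℕ), (ψ ^ k) x = x → ∀ n, (ψ ^ (k * n)) x = x := by
      intro x k hk n
      induction n with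
      | zero => rfl
      | succ n ih => rw [Nat.mul_succ, pow_add, MulAut.mul_apply, hk, ih]
    have htwo : ∀ x : T, ψ (ψ x) = x → ψ x = x := by
      intro x h
      obtain ⟨l, hl⟩ := hodd
      have h1 := hpow x 2 (by rw [pow_two, MulAut.mul_apply, h]) l
      have h2 := DFunLike.congr_fun (pow_orderOf_eq_one ψ) x
      rw [hl, pow_succ', MulAut.mul_apply, h1, MulAut.one_apply] at h2
      exact h2
    have h2grp : ∀ e : T, e ^ 2 ^ (m + 2) = 1 := by
      intro e
      have hu : ∀ u : (ZMod q)ˣ, u ^ 2 ^ m = 1 := fun u => by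
        have := ZMod.units_pow_card_sub_one_eq_one q u
        rwa [show q - 1 = 2 ^ m by rw [hq, Nat.add_sub_cancel]] at this
      have hD4 : ∀ a s, D a s ^ 2 ^ (m + 1) = 1 := fun a s => by
        obtain ⟨t, ht, hev⟩ := hDpow a s (2 ^ (m + 1))
        rw [ht, hev ((Nat.even_pow' (by omega)).2 even_two), pow_succ, pow_mul, hu, one_pow, hD1]
      obtain ⟨a, s, h | h⟩ := hcases e
      · rw [h, pow_succ, pow_mul, hD4, one_pow]
      · rw [h, pow_succ', pow_mul, pow_two, hEE, hD4]
    have L1 : ∀ x e : T, ψ x = x * e → ψ e = e → ψ x = x := by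
      intro x e hx he
      have hi : ∀ i : ℕ, (ψ ^ i) x = x * e ^ i := by
        intro i
        induction i with
        | zero => simp
        | succ i ih => rw [pow_succ', MulAut.mul_apply, ih, map_mul, hx, map_pow, he, mul_assoc, ← pow_succ']
      have h1 := hi (orderOf ψ)
      rw [pow_orderOf_eq_one, MulAut.one_apply, left_eq_mul] at h1
      have h2 : orderOf e ∣ Nat.gcd (orderOf ψ) (2 ^ (m + 2)) :=
        Nat.dvd_gcd (orderOf_dvd_of_pow_eq_one h1) (orderOf_dvd_of_pow_eq_one (h2grp e))
      rw [Nat.Coprime.gcd_eq_one (Nat.Coprime.pow_right _ (Nat.coprime_two_right.2 hodd)), Nat.dvd_one, orderOf_eq_one_iff] at h2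
      rw [hx, h2, mul_one]
    have finish : (∀ a s, ψ (D a s) = D a s) → (∃ a s, ψ (E a s) = E a s) → ψ = 1 := by
      rintro h ⟨b, t, hb⟩
      refine MulEquiv.ext fun x => ?_
      obtain ⟨a, s, rfl | rfl⟩ := hcases x
      · exact h a s
      · have e : E a s = E a s * E b t * (E b t)⁻¹ := by rw [mul_inv_cancel_right]
        rw [MulAut.one_apply, e, hEE, map_mul, map_inv, hb, h]
    have hinj := ψ.injective
    have hu2 : ∀ u : (ZMod q)ˣ, u * u = 1 → u = 1 ∨ u = -1 := fun u hu => by
      rcases mul_self_eq_one_iff.1 (show (u : ZMod q) * u = 1 by rw [← Units.val_mul, hu, Units.val_one]) with h | h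
      · exact Or.inl (Units.ext h)
      · exact Or.inr (Units.ext (by rw [h]; simp))
    rcases Nat.lt_or_ge m 3 with hm | hm
    · interval_cases m
      · -- q = 2
        subst hq
        have hU : ∀ u : (ZMod (2 ^ 0 + 1))ˣ, u = 1 := fun u => by revert u; exact fin2units
        have hS1 : ∀ s : S, s = o := fun s => Subtype.ext (hU s.1)
        have hfixD : ∀ a s, ψ (D a s) = D a s := fun a s => by rw [hU a, hS1 s, hD1, map_one]
        refine finish hfixD ⟨1, o, ?_⟩
        obtain ⟨a, s, h | h⟩ := hcases (ψ (E 1 o))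
        · rw [hU a, hS1 s, hD1] at h
          rw [h]
          exact (hinj (h.trans (map_one ψ).symm)).symm
        · rw [h, hU a, hS1 s]
      · -- q = 3
        subst hq
        have hU : ∀ u : (ZMod (2 ^ 1 + 1))ˣ, u * u = 1 := fin3units
        have hsq : ∀ a s, E a s * E a s = D s.1 o := fun a s => by
          rw [hEE, mul_assoc, inv_mul_cancel, mul_one]
          congr 1
          exact Subtype.ext s.2
        have hDsq : ∀ a s, D a s * D a s = 1 := fun a s => by
          rw [hDD, ← hD1, hU a]; congr 1; exact Subtype.ext s.2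
        have hne : D (-1) o ≠ 1 := fun h => by
          rw [← hD1] at h
          have := (hDinj _ _ _ _ h).1
          exact fin3neg this
        have hy : ∀ a, ∃ b, ψ (E a j) = E b j := by
          intro a
          have h4 : E a j * E a j ≠ 1 := by rw [hsq]; exact hne
          obtain ⟨b, s, h | h⟩ := hcases (ψ (E a j))
          · exfalso
            apply h4
            exact hinj (by rw [map_mul, h, hDsq, map_one])
          · rcases hS s with rfl | rfl
            · exfalso
              apply h4
              exact hinj (by rw [map_mul, h, hsq, map_one, ← hD1])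
            · exact ⟨b, h⟩
        have hc : ψ (D (-1) o) = D (-1) o := by
          obtain ⟨b, hb⟩ := hy 1
          have : D (-1) o = E 1 j * E 1 j := by rw [hsq]
          rw [this, map_mul, hb, hsq, hsq]
        have hfixE : ∀ a, ψ (E a j) = E a j := by
          intro a
          obtain ⟨b, hb⟩ := hy a
          obtain ⟨b', hb'⟩ := hy b
          apply htwo
          rw [hb, hb']
          have hba : ∀ c d : (ZMod (2 ^ 1 + 1))ˣ, c ≠ d → d = -c := fin3other
          by_cases h : b = a
          · subst h
            rw [← hb', hb]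
          · by_cases h2 : b' = a
            · rw [h2]
            · exfalso
              have e1 := hba a b (Ne.symm h)
              have e2 := hba a b' (Ne.symm h2)
              have : ψ (E b j) = ψ (E a j) := by rw [hb, hb', e1, e2]
              have h5 := congrArg Subtype.val (hinj this)
              have h6 := congrFun (LinearEquiv.congr_fun h5 ![1, 0]) 1
              exact h (Units.ext (by simpa only [E, el, LinearEquiv.coe_mk, LinearMap.coe_mk, AddHom.coe_mk, Matrix.cons_val_one, Matrix.cons_val_zero, mul_one] using h6))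
        have hfixD : ∀ a s, ψ (D a s) = D a s := by
          intro a s
          rcases hS s with rfl | rfl
          · rcases hu2 a (hU a) with rfl | rfl
            · rw [hD1, map_one]
            · exact hc
          · obtain ⟨b, t, h | h⟩ := hcases (ψ (D a j))
            · rcases hS t with rfl | rfl
              · exfalso
                have h' : ψ (D a j) = D b o := h
                rcases hu2 b (hU b) with rfl | rfl
                · rw [hD1, ← map_one ψ] at h'
                  rw [← hD1] at h'
                  have := congrArg (fun s : S => s.1) (hDinj _ _ _ _ (hinj h')).2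
                  exact fin3neg this
                · rw [← hc] at h'
                  have := congrArg (fun s : S => s.1) (hDinj _ _ _ _ (hinj h')).2
                  exact fin3neg this
              · refine L1 _ (D (a * b) o) ?_ ?_
                · simp only [h, hDD, ← mul_assoc, hU a, one_mul]
                  congr 1
                · rcases hu2 (a * b) (hU _) with e | e <;> rw [e]
                  · rw [hD1, map_one]
                  · exact hc
            · refine L1 _ (D a j * E b t) ?_ ?_
              · rw [h, ← mul_assoc, hDsq, one_mul]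
              · rw [hDE]
                rcases hS t with rfl | rfl
                · convert hfixE (j.1 * a⁻¹ * b) using 2 <;> congr 1 <;> exact Subtype.ext (by show -1 * 1 = -1; rw [mul_one])
                · exfalso
                  have h4 : E b j * E b j ≠ 1 := by rw [hsq]; exact hne
                  apply h4
                  rw [← h, ← map_mul, hDsq, map_one]
        exact finish hfixD ⟨1, j, hfixE 1⟩
      · exact absurd hq hq5
    · obtain ⟨g, hg⟩ := IsCyclic.exists_generator (α := (ZMod q)ˣ)
      have hog : orderOf g = 2 ^ m := by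
        rw [orderOf_eq_card_of_forall_mem_zpowers hg, Nat.card_eq_fintype_card, ZMod.card_units, hq, Nat.add_sub_cancel]
      obtain ⟨m', rfl⟩ : ∃ k, m = k + 1 := ⟨m - 1, by omega⟩
      have hev : Even (2 ^ m') := (Nat.even_pow' (by omega)).2 even_two
      have hhalf : g ^ 2 ^ m' ≠ 1 := fun h => by
        have := Nat.le_of_dvd (by positivity) (orderOf_dvd_of_pow_eq_one h)
        rw [hog, pow_succ] at this
        have := Nat.one_le_pow m' 2 (by norm_num)
        omega
      have hneg : g ^ 2 ^ m' = -1 := by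
        rcases hu2 (g ^ 2 ^ m') (by rw [← pow_add, ← two_mul, ← pow_succ', ← hog, pow_orderOf_eq_one]) with h | h
        · exact absurd h hhalf
        · exact h
      have hgen : ∀ s, ∃ a t, ψ (D g s) = D a t ∧ a ^ 2 ^ m' = -1 := by
        intro s
        have h1 : D g s ^ 2 ^ m' = D (-1) o := by
          obtain ⟨t, ht, he⟩ := hDpow g s (2 ^ m')
          rw [ht, he hev, hneg]
        have hne : D (-1) o ≠ 1 := fun h => hhalf (by
          rw [← hD1] at h
          rw [hneg, (hDinj _ _ _ _ h).1])
        obtain ⟨a, t, h | h⟩ := hcases (ψ (D g s))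
        · refine ⟨a, t, h, ?_⟩
          obtain ⟨t', ht', he⟩ := hDpow a t (2 ^ m')
          rcases hu2 (a ^ 2 ^ m') (by
            rw [← pow_add, ← two_mul, ← pow_succ']
            exact orderOf_dvd_iff_pow_eq_one.1 (hog ▸ (orderOf_eq_card_of_forall_mem_zpowers hg).symm ▸ orderOf_dvd_natCard a)) with e | e
          · exfalso
            apply hne
            rw [← h1]
            refine hinj ?_
            rw [map_pow, h, map_one, ht', he hev, e, hD1]
          · exact e
        · exfalso
          have h4 : (E a t) ^ 4 = 1 := by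
            rw [show 4 = 2 * 2 from rfl, pow_mul, pow_two, pow_two, hEE, mul_assoc, inv_mul_cancel, mul_one, hDD, ← hD1]
            congr 1
            · exact t.2
            · exact Subtype.ext (by show t.1 * t.1 * (t.1 * t.1) = 1; rw [t.2, one_mul])
          have h5 : D g s ^ 4 = 1 := hinj (by rw [map_pow, h, h4, map_one])
          obtain ⟨t', ht', -⟩ := hDpow g s 4
          rw [ht', ← hD1] at h5
          have h6 := Nat.le_of_dvd (by norm_num) (orderOf_dvd_of_pow_eq_one (hDinj _ _ _ _ h5).1)
          rw [hog, pow_succ] at h6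
          have : 2 ^ 2 ≤ 2 ^ m' := Nat.pow_le_pow_right (by norm_num) (by omega)
          omega
      have hc : ψ (D (-1) o) = D (-1) o := by
        obtain ⟨a, t, h, ha⟩ := hgen o
        obtain ⟨t1, h1, he1⟩ := hDpow g o (2 ^ m')
        obtain ⟨t2, h2, he2⟩ := hDpow a t (2 ^ m')
        rw [he1 hev, hneg] at h1
        rw [he2 hev, ha] at h2
        rw [← h1, map_pow, h, h2, h1]
      have hA : ∀ a s, ∃ b t, ψ (D a s) = D b t := by
        intro a s
        obtain ⟨k, hk⟩ : ∃ k : ℕ, g ^ k = a := by
          obtain ⟨k, hk⟩ := (mem_powers_iff_mem_zpowers.2 (hg a) : a ∈ Submonoid.powers g)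
          exact ⟨k, hk⟩
        obtain ⟨b, t, h, -⟩ := hgen o
        obtain ⟨b', t', h', -⟩ := hgen j
        obtain ⟨t1, ht1, -⟩ := hDpow g o k
        obtain ⟨t2, ht2, -⟩ := hDpow b t k
        have hj : D 1 j = D g j * (D g o)⁻¹ := by
          rw [eq_mul_inv_iff_mul_eq, hDD, one_mul]; congr 1; exact Subtype.ext (mul_one _)
        have hdinv : ∀ c u, (D c u)⁻¹ = D c⁻¹ u := fun c u => by
          rw [inv_eq_iff_mul_eq_one, hDD, mul_inv_cancel, ← hD1]; congr 1; exact Subtype.ext u.2
        have hψj : ∃ c u, ψ (D 1 j) = D c u := by rw [hj, map_mul, map_inv, h, h', hdinv, hDD]; exact ⟨_, _, rfl⟩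
        have hψk : ψ (D a t1) = D (b ^ k) t2 := by rw [← hk, ← ht1, map_pow, h, ht2]
        by_cases hs : t1 = s
        · exact ⟨_, _, hs ▸ hψk⟩
        · obtain ⟨c, u, hcu⟩ := hψj
          have e : D a s = D a t1 * D 1 j := by
            rw [hDD, mul_one]; congr 1; refine Subtype.ext ?_
            rcases hS t1 with rfl | rfl <;> rcases hS s with rfl | rfl
            · exact absurd rfl hs
            · exact (one_mul _).symm
            · show (1 : (ZMod q)ˣ) = -1 * -1; simp
            · exact absurd rfl hs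
          rw [e, map_mul, hψk, hcu, hDD]; exact ⟨_, _, rfl⟩
      have hinv2 : ∀ a s, a * a = 1 → ψ (D a s) = D a s := by
        intro a s ha
        have key : ∀ a' : (ZMod q)ˣ, a' * a' = 1 → ∃ b, b * b = 1 ∧ ψ (D a' j) = D b j := by
          intro a' ha'
          obtain ⟨b, t, h⟩ := hA a' j
          have hb : b * b = 1 := by
            have e : D a' j * D a' j = 1 := by rw [hDD, ha', ← hD1]; congr 1; exact Subtype.ext j.2
            have := congrArg ψ e
            rw [map_mul, map_one, h, hDD, ← hD1] at this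
            exact (hDinj _ _ _ _ this).1
          refine ⟨b, hb, ?_⟩
          rcases hS t with rfl | rfl
          · exfalso
            have hjo : (-1 : (ZMod q)ˣ) ≠ 1 := fun e => hhalf (hneg.trans e)
            rcases hu2 b hb with rfl | rfl
            · rw [hD1, ← map_one ψ, ← hD1] at h
              exact hjo (congrArg (fun s : S => s.1) (hDinj _ _ _ _ (hinj h)).2)
            · rw [← hc] at h
              exact hjo (congrArg (fun s : S => s.1) (hDinj _ _ _ _ (hinj h)).2)
          · exact h
        rcases hS s with rfl | rfl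
        · rcases hu2 a ha with rfl | rfl
          · rw [hD1, map_one]
          · exact hc
        · obtain ⟨b, hb, h⟩ := key a ha
          obtain ⟨b', hb', h'⟩ := key b hb
          apply htwo
          rw [h, h']
          by_cases e1 : b = a
          · subst e1; rw [← h', h]
          by_cases e2 : b' = a
          · rw [e2]
          exfalso
          have e3 : b' = b := by
            clear h h'
            rcases hu2 a ha with rfl | rfl <;> rcases hu2 b hb with rfl | rfl <;> rcases hu2 b' hb' with rfl | rfl <;>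
              first | rfl | exact absurd rfl e1 | exact absurd rfl e2
          rw [e3] at h'
          exact e1 (hDinj _ _ _ _ (hinj (h'.trans h.symm))).1
      have hall : ∀ (k : ℕ) a s, a ^ 2 ^ k = 1 → ψ (D a s) = D a s := by
        intro k
        induction k with
        | zero => intro a s h; rw [pow_zero, pow_one] at h; exact hinv2 a s (by rw [h, one_mul])
        | succ k ih =>
          intro a s h
          obtain ⟨b, t, hb⟩ := hA a s
          refine L1 _ ((D a s)⁻¹ * ψ (D a s)) (by rw [mul_inv_cancel_left]) ?_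
          have hdinv : (D a s)⁻¹ = D a⁻¹ s := by
            rw [inv_eq_iff_mul_eq_one, hDD, mul_inv_cancel, ← hD1]; congr 1; exact Subtype.ext s.2
          rw [hdinv, hb, hDD]
          refine hinv2 _ _ ?_
          have h2 : ψ (D a s * D a s) = D a s * D a s := by
            rw [hDD]; exact ih _ _ (by rw [← pow_two, ← pow_mul, ← pow_succ', h])
          rw [map_mul, hb, hDD, hDD] at h2
          rw [mul_mul_mul_comm, (hDinj _ _ _ _ h2).1, ← mul_inv_rev, inv_mul_cancel]
      have hfixD : ∀ a s, ψ (D a s) = D a s := fun a s => hall (m' + 1) a s (by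
        rw [← hog]
        exact orderOf_dvd_iff_pow_eq_one.1 ((orderOf_eq_card_of_forall_mem_zpowers hg).symm ▸ orderOf_dvd_natCard a))
      refine finish hfixD ⟨1, o, ?_⟩
      refine L1 _ ((E 1 o)⁻¹ * ψ (E 1 o)) (by rw [mul_inv_cancel_left]) ?_
      obtain ⟨a, t, h | h⟩ := hcases (ψ (E 1 o))
      · exfalso
        have h3 : E 1 o = D a t := hinj (h.trans (hfixD a t).symm)
        have h4 := congrFun (LinearEquiv.congr_fun (congrArg Subtype.val h3) ![1, 0]) 1
        simp only [E, D, el, dl, LinearEquiv.coe_mk, LinearMap.coe_mk, AddHom.coe_mk, Matrix.cons_val_one, Matrix.cons_val_zero, mul_one, mul_zero, Units.val_one] at h4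
        exact one_ne_zero h4
      · have hEinv : (E 1 o)⁻¹ = E 1 o := by
          rw [inv_eq_iff_mul_eq_one, hEE, ← hD1]; congr 1
          · simp [o]
          · exact Subtype.ext (one_mul 1)
        rw [hEinv, h, hEE, hfixD]
  haveI : Finite T := by
    haveI : Finite ((Fin 2 → ZMod q) ≃ₗ[ZMod q] (Fin 2 → ZMod q)) := Finite.of_injective _ DFunLike.coe_injective
    infer_instance
  haveI : Finite (MulAut T) := Finite.of_injective _ DFunLike.coe_injective
  obtain ⟨k, l, hl, he⟩ := Nat.exists_eq_two_pow_mul_odd (n := orderOf φ) (orderOf_pos φ).ne'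
  refine ⟨k, hone _ ?_⟩
  rw [orderOf_pow' φ (by positivity), he, Nat.gcd_eq_right (dvd_mul_right _ _), Nat.mul_div_cancel_left _ (by positivity)]
  exact hl

end Cfsg.Agent.S3382
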