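import Cfsg.Statements.S3383
import Cfsg.Agent.Lib.Basics.FrobeniusBasic

set_option autoImplicit false
open Cfsg
open scoped Pointwise

namespace Cfsg.Agent.S3383

/-- Let H be a Frobenius complement in a finite group L and K the Frobenius kernel (as a subgroup). Then K is characteristic in L, and every normal subgroup of L either contains K or is contained in K. -/
theorem result {L : Type*} [Group L] [Finite L]
    (H : Subgroup L) (hH : Cfsg.IsFrobeniusComplement H)
    (K : Subgroup L) (hK : (K : Set L) = Cfsg.frobeniusKernel H) :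
    K.Characteristic ∧ ∀ N : Subgroup L, N.Normal → K ≤ N ∨ N ≤ K := by
  classical
  obtain ⟨N₀, hN₀, hNn, hcompl, hcard⟩ := Basics.frobenius_kernel_exists hH
  obtain rfl : K = N₀ := SetLike.coe_injective (hK.trans hN₀.symm)
  have hcop : (Nat.card K).Coprime K.index := by
    rw [hcard, hcompl.symm.index_eq_card]
    exact (Basics.frobenius_coprime hH).symm
  have hmem : ∀ x : L, x ^ Nat.card K = 1 → x ∈ K := by
    intro x hx
    rw [← QuotientGroup.eq_one_iff, ← orderOf_eq_one_iff]
    refine Nat.dvd_one.1 (hcop.gcd_eq_one ▸ Nat.dvd_gcd ?_ (orderOf_dvd_natCard _))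
    exact (orderOf_map_dvd (QuotientGroup.mk' K) x).trans (orderOf_dvd_of_pow_eq_one hx)
  refine ⟨?_, fun N hN => ?_⟩
  · rw [Subgroup.characteristic_iff_map_le]
    rintro φ _ ⟨k, hk, rfl⟩
    refine hmem _ ?_
    show φ k ^ _ = 1
    rw [← map_pow, show k ^ Nat.card K = 1 from congrArg Subtype.val (pow_card_eq_one' (x := (⟨k, hk⟩ : K))), map_one]
  · by_cases hle : N ≤ K
    · exact Or.inr hle
    left
    obtain ⟨n, hn, hnK⟩ := SetLike.not_le_iff_exists.1 hle
    have hnK' : n ∉ Cfsg.frobeniusKernel H := hK ▸ hnK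
    simp only [Cfsg.frobeniusKernel, Set.mem_setOf_eq, not_or, not_forall, not_not] at hnK'
    obtain ⟨hn1, g, hg⟩ := hnK'
    have hgH : g⁻¹ * n * g ∈ H := by
      simpa [Subgroup.mem_pointwise_smul_iff_inv_smul_mem] using hg
    have hcn : ∀ k ∈ K, k * n = n * k → k = 1 := by
      intro k hk hkn
      have hk' : g⁻¹ * k * g ∈ K := by simpa using hNn.conj_mem k hk g⁻¹
      have hin : g⁻¹ * k * g ∈ H := by
        by_contra hout
        have h2 : g⁻¹ * n * g ∈ H ⊓ (MulAut.conj (g⁻¹ * k * g) • H) := by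
          refine Subgroup.mem_inf.2 ⟨hgH, ?_⟩
          rw [Subgroup.mem_pointwise_smul_iff_inv_smul_mem, MulAut.smul_def, ← map_inv, MulAut.conj_apply, inv_inv]
          have e : (g⁻¹ * k * g)⁻¹ * (g⁻¹ * n * g) * (g⁻¹ * k * g) = g⁻¹ * n * g := by
            calc _ = g⁻¹ * (k⁻¹ * (n * k)) * g := by group
              _ = g⁻¹ * (k⁻¹ * (k * n)) * g := by rw [hkn]
              _ = g⁻¹ * n * g := by group
          rw [e]; exact hgH
        rw [hH.2.2 _ hout, Subgroup.mem_bot] at h2
        refine hn1 ?_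
        calc n = g * (g⁻¹ * n * g) * g⁻¹ := by group
          _ = 1 := by rw [h2]; group
      have h3 : g⁻¹ * k * g ∈ K ⊓ H := ⟨hk', hin⟩
      rw [hcompl.disjoint.eq_bot, Subgroup.mem_bot] at h3
      calc k = g * (g⁻¹ * k * g) * g⁻¹ := by group
        _ = 1 := by rw [h3]; group
    let f : K → K := fun k => ⟨(k : L) * n * (k : L)⁻¹ * n⁻¹, by
      have : n * (k : L)⁻¹ * n⁻¹ ∈ K := hNn.conj_mem _ (K.inv_mem k.2) n
      simpa [mul_assoc] using K.mul_mem k.2 this⟩
    have hf : Function.Injective f := by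
      intro a b h
      have h' : (a : L) * n * (a : L)⁻¹ = b * n * (b : L)⁻¹ := mul_right_cancel (congrArg Subtype.val h)
      have h'' := hcn ((b : L)⁻¹ * a) (K.mul_mem (K.inv_mem b.2) a.2) (by
        calc (b : L)⁻¹ * a * n = (b : L)⁻¹ * (a * n * (a : L)⁻¹) * a := by group
          _ = (b : L)⁻¹ * (b * n * (b : L)⁻¹) * a := by rw [h']
          _ = n * ((b : L)⁻¹ * a) := by group)
      exact Subtype.ext (inv_mul_eq_one.1 h'').symm
    intro k hk
    obtain ⟨a, ha⟩ := (Finite.injective_iff_surjective.1 hf) ⟨k, hk⟩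
    have ha' : (a : L) * n * (a : L)⁻¹ * n⁻¹ = k := congrArg Subtype.val ha
    exact ha' ▸ N.mul_mem (hN.conj_mem n hn a) (N.inv_mem hn)

end Cfsg.Agent.S3383
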