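import Cfsg.Statements.S3389
import Mathlib

set_option autoImplicit false
open Cfsg
open scoped Pointwise

namespace Cfsg.Agent.S3389

/-- Let G be a finite group acting faithfully and transitively on a finite set Ω with fixity k ≥ 1: every non-identity element fixes at most k points and some non-identity element fixes exactly k points. Then |Z(G)| divides k; if k = 2 then |G| is even; and for every prime p > k dividing |G| and every point α, either p does not divide |G_α| or G_α contains a Sylow p-subgroup of G. -/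
theorem result {G : Type*} [Group G] [Finite G] {Ω : Type*} [Fintype Ω] [MulAction G Ω] [FaithfulSMul G Ω]
    (htr : MulAction.IsPretransitive G Ω) (k : ℕ) (hk : 1 ≤ k)
    (hfix : ∀ g : G, g ≠ 1 → Nat.card (MulAction.fixedBy Ω g) ≤ k) (hex : ∃ g : G, g ≠ 1 ∧ Nat.card (MulAction.fixedBy Ω g) = k) :
    Nat.card (Subgroup.center G) ∣ k ∧ (k = 2 → 2 ∣ Nat.card G) ∧
      ∀ (p : ℕ), p.Prime → k < p → p ∣ Nat.card G → ∀ α : Ω,
        ¬ p ∣ Nat.card (MulAction.stabilizer G α) ∨ ¬ p ∣ (MulAction.stabilizer G α).index := by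
  classical
  obtain ⟨g, hg1, hgk⟩ := hex
  have hcen : Nat.card (Subgroup.center G) ∣ k := by
    set Z := Subgroup.center G
    let X : SubMulAction Z Ω := ⟨MulAction.fixedBy Ω g, fun z w hw => by
      show g • ((z : G) • w) = (z : G) • w
      rw [← mul_smul, Subgroup.mem_center_iff.1 z.2 g, mul_smul]
      exact congrArg _ hw⟩
    have hsemi : ∀ w : X, MulAction.stabilizer Z w = ⊥ := fun w => by
      rw [Subgroup.eq_bot_iff_forall]
      intro z hz
      have hz' : (z : G) • (w : Ω) = w := congrArg Subtype.val hz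
      refine Subtype.ext (eq_of_smul_eq_smul (α := Ω) fun b => ?_)
      obtain ⟨h, rfl⟩ := MulAction.exists_smul_eq G (w : Ω) b
      rw [← mul_smul, ← Subgroup.mem_center_iff.1 z.2 h, mul_smul, hz']
      exact (one_smul G _).symm
    rw [← hgk]
    show _ ∣ Nat.card X
    have := Fintype.ofFinite (MulAction.orbitRel.Quotient Z X)
    rw [Nat.card_congr (MulAction.selfEquivSigmaOrbitsQuotientStabilizer Z X), Nat.card_sigma]
    refine Finset.dvd_sum fun o _ => ?_
    have h := Subgroup.card_eq_card_quotient_mul_card_subgroup (MulAction.stabilizer Z (Quotient.out o))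
    rw [hsemi, Subgroup.card_bot, mul_one] at h
    rw [hsemi, ← h]
  refine ⟨hcen, fun hk2 => ?_, fun p hp hkp hpG α => ?_⟩
  · subst hk2
    by_contra hodd
    obtain ⟨α, β, hne, hab⟩ := (Nat.card_eq_two_iff).1 hgk
    set T := MulAction.stabilizer G (α : Ω) ⊓ MulAction.stabilizer G (β : Ω) with hT
    have hgT : g ∈ T := ⟨α.2, β.2⟩
    have : Nontrivial T := ⟨⟨⟨g, hgT⟩, 1, fun h => hg1 (congrArg Subtype.val h)⟩⟩
    obtain ⟨q, hq, hqd⟩ := Nat.exists_prime_and_dvd (Finite.one_lt_card (α := T)).ne'
    have := Fact.mk hq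
    obtain ⟨Q₀⟩ : Nonempty (Sylow q T) := inferInstance
    set Q := (Q₀ : Subgroup T).map T.subtype with hQ
    have hQp : IsPGroup q Q := Q₀.2.map _
    have hQne : Q ≠ ⊥ := fun e => Q₀.ne_bot_of_dvd_card hqd
      ((Subgroup.map_eq_bot_iff_of_injective _ T.subtype_injective).1 e)
    obtain ⟨u, hu, hu1⟩ := Q.bot_or_exists_ne_one.resolve_left hQne
    have hfixQ : ∀ w : Ω, (∀ v ∈ Q, v • w = w) → w = α ∨ w = β := by
      intro w hw
      by_contra hcon
      push Not at hcon
      have huT : u ∈ T := (Subgroup.map_subtype_le _) hu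
      have hsub : ({(α : Ω), (β : Ω), w} : Finset Ω) ⊆ (MulAction.fixedBy Ω u).toFinset := by
        intro z hz
        simp only [Finset.mem_insert, Finset.mem_singleton] at hz
        rw [Set.mem_toFinset]
        rcases hz with rfl | rfl | rfl
        · exact huT.1
        · exact huT.2
        · exact hw u hu
      have h3 : ({(α : Ω), (β : Ω), w} : Finset Ω).card = 3 := Finset.card_eq_three.2
        ⟨α, β, w, fun e => hne (Subtype.ext e), Ne.symm hcon.1, Ne.symm hcon.2, rfl⟩
      have := Finset.card_le_card hsub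
      have h2 := hfix u hu1
      rw [Nat.card_eq_fintype_card, ← Set.toFinset_card] at h2
      omega
    -- the normaliser lies in `T`
    have hnorm : Subgroup.normalizer (Q : Set G) ≤ T := by
      have key : ∀ h ∈ Subgroup.normalizer (Q : Set G), ∀ w : Ω, (∀ v ∈ Q, v • w = w) → ∀ v ∈ Q, v • (h • w) = h • w := by
        intro h hh w hw v hv
        have hv' : h⁻¹ * v * h ∈ Q := by
          have := (Subgroup.mem_normalizer_iff.1 ((Subgroup.normalizer (Q : Set G)).inv_mem hh) v).1 hv
          simpa using this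
        have := hw _ hv'
        rwa [mul_smul, mul_smul, inv_smul_eq_iff] at this
      intro h hh
      have hQT : Q ≤ T := Subgroup.map_subtype_le _
      have ha := hfixQ _ (key h hh α fun v hv => (hQT hv).1)
      have hb := hfixQ _ (key h hh β fun v hv => (hQT hv).2)
      have hne' : (α : Ω) ≠ β := fun e => hne (Subtype.ext e)
      rcases ha with ha | ha
      · refine ⟨ha, hb.resolve_left fun e => ?_⟩
        exact hne' (smul_left_cancel h (ha.trans e.symm))
      · exfalso
        have hb' : h • (β : Ω) = α := hb.resolve_right fun e => hne' (smul_left_cancel h (ha.trans e.symm))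
        obtain ⟨j, hj⟩ : Odd (orderOf h) := by
          rw [← Nat.not_even_iff_odd, even_iff_two_dvd]
          exact fun h2 => hodd (h2.trans (orderOf_dvd_natCard h))
        have h2 : h ^ 2 • (α : Ω) = α := by rw [pow_two, mul_smul, ha, hb']
        have h2j : (h ^ 2) ^ j • (α : Ω) = α := (Subgroup.pow_mem (MulAction.stabilizer G (α : Ω)) h2 j)
        have e : h * (h ^ 2) ^ j = 1 := by
          rw [← pow_mul, ← pow_succ', ← hj, pow_orderOf_eq_one]
        have : h • (α : Ω) = α := by
          calc h • (α : Ω) = (h * (h ^ 2) ^ j) • (α : Ω) := by rw [mul_smul, h2j]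
            _ = α := by rw [e, one_smul]
        exact hne' (this.symm.trans ha)
    -- so it is a Sylow subgroup of the whole group
    obtain ⟨R, hR⟩ := hQp.exists_le_sylow
    have hQR : Q = R := by
      by_contra hne2
      have hlt : Q.subgroupOf (R : Subgroup G) < ⊤ := lt_top_iff_ne_top.2 fun e =>
        hne2 (le_antisymm hR (Subgroup.subgroupOf_eq_top.1 e))
      have := Fintype.ofFinite G
      have : Group.IsNilpotent (R : Subgroup G) := R.2.isNilpotent
      have hlt2 := Group.normalizerCondition_of_isNilpotent (G := (R : Subgroup G)) _ hlt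
      obtain ⟨x, hxN, hxQ⟩ := SetLike.exists_of_lt hlt2
      apply hxQ
      have hxT : (x : G) ∈ T := hnorm (Subgroup.mem_normalizer_iff.2 fun v => ⟨fun hv => by
          have := (Subgroup.mem_normalizer_iff.1 hxN ⟨v, hR hv⟩).1 hv
          exact this, fun hv => by
          have hvR : v ∈ (R : Subgroup G) := by
            have := mul_mem (mul_mem (inv_mem x.2) (hR hv)) x.2
            simpa [mul_assoc] using this
          exact (Subgroup.mem_normalizer_iff.1 hxN ⟨v, hvR⟩).2 hv⟩)
      have hle : (Q₀ : Subgroup T) ≤ ((R : Subgroup G).comap T.subtype) := fun y hy => hR ⟨y, hy, rfl⟩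
      have heq := Q₀.3 (R.2.comap_of_injective _ T.subtype_injective) hle
      show (x : G) ∈ Q
      exact ⟨⟨x, hxT⟩, heq ▸ (x.2 : (⟨(x : G), hxT⟩ : T) ∈ (R : Subgroup G).comap T.subtype), rfl⟩
    obtain ⟨h, hh⟩ := MulAction.exists_smul_eq G (α : Ω) (β : Ω)
    have hQα : Q ≤ MulAction.stabilizer G (α : Ω) := (Subgroup.map_subtype_le _).trans inf_le_left
    have hQβ : Q ≤ MulAction.stabilizer G (β : Ω) := (Subgroup.map_subtype_le _).trans inf_le_right
    have hR' : (R : Subgroup G) ≤ MulAction.stabilizer G (β : Ω) := hQR ▸ hQβ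
    have hRh : ((h • R : Sylow q G) : Subgroup G) ≤ MulAction.stabilizer G (β : Ω) := by
      intro y hy
      rw [Sylow.coe_subgroup_smul, Subgroup.mem_pointwise_smul_iff_inv_smul_mem] at hy
      have h1 := hQα (hQR.symm ▸ hy : _ ∈ Q)
      simp only [MulAction.mem_stabilizer_iff] at h1 ⊢
      rw [MulAut.smul_def, ← map_inv, MulAut.conj_apply, inv_inv, mul_smul, mul_smul, inv_smul_eq_iff, hh] at h1
      exact h1
    obtain ⟨s, hs⟩ := MulAction.exists_smul_eq (MulAction.stabilizer G (β : Ω)) ((h • R).subtype hRh) (R.subtype hR')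
    rw [Sylow.smul_subtype hRh s] at hs
    have hs' := Sylow.subtype_injective hs
    have hn : (s : G) * h ∈ Subgroup.normalizer (Q : Set G) := by
      rw [hQR, Sylow.coe_coe, ← Sylow.smul_eq_iff_mem_normalizer, mul_smul]
      exact hs'
    have h4 : ((s : G) * h) • (α : Ω) = α := (hnorm hn).1
    rw [mul_smul, hh, show (s : G) • (β : Ω) = β from s.2] at h4
    exact hne (Subtype.ext h4.symm)
  · by_contra hcon
    push Not at hcon
    obtain ⟨h1, h2⟩ := hcon
    have := Fact.mk hp
    obtain ⟨P⟩ : Nonempty (Sylow p (MulAction.stabilizer G α)) := inferInstance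
    set Q := (P : Subgroup _).map (MulAction.stabilizer G α).subtype
    have hQ : IsPGroup p Q := P.2.map _
    obtain ⟨R, hR⟩ := hQ.exists_le_sylow
    have hne : Q ≠ (R : Subgroup G) := by
      intro e
      have hPc : Nat.card Q = p ^ (Nat.card (MulAction.stabilizer G α)).factorization p := by
        rw [Subgroup.card_map_of_injective (Subgroup.subtype_injective _), P.card_eq_multiplicity]
      rw [e, R.card_eq_multiplicity, ← Subgroup.card_mul_index (MulAction.stabilizer G α),
        Nat.factorization_mul Nat.card_pos.ne' Subgroup.index_ne_zero_of_finite, Finsupp.add_apply] at hPc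
      have h3 := hp.factorization_pos_of_dvd Subgroup.index_ne_zero_of_finite h2
      have := Nat.pow_right_injective hp.two_le hPc
      omega
    have := Fintype.ofFinite G
    have : Group.IsNilpotent (R : Subgroup G) := R.2.isNilpotent
    have hlt : Q.subgroupOf (R : Subgroup G) < ⊤ := lt_top_iff_ne_top.2 fun e =>
      hne (le_antisymm hR (Subgroup.subgroupOf_eq_top.1 e))
    have hlt2 := Group.normalizerCondition_of_isNilpotent (G := (R : Subgroup G)) _ hlt
    obtain ⟨x, hxN, hxQ⟩ := SetLike.exists_of_lt hlt2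
    obtain ⟨u, hu, hu1⟩ : ∃ u ∈ Q, u ≠ 1 := Q.bot_or_exists_ne_one.resolve_left fun e =>
      P.ne_bot_of_dvd_card h1 ((Subgroup.map_eq_bot_iff_of_injective _ (Subgroup.subtype_injective _)).1 e)
    have hQα : Q ≤ MulAction.stabilizer G α := Subgroup.map_subtype_le _
    have hpowfix : ∀ i : ℕ, ∀ v ∈ Q, v • ((x : G) ^ i • α) = (x : G) ^ i • α := by
      intro i
      induction i with
      | zero => intro v hv; simpa using hQα hv
      | succ i ih =>
        intro v hv
        have hv' : (x : G)⁻¹ * v * x ∈ Q := by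
          have h5 := (Subgroup.mem_normalizer_iff.1 (inv_mem hxN) ⟨v, hR hv⟩).1 hv
          simpa [Subgroup.mem_subgroupOf] using h5
        have := ih _ hv'
        rw [mul_smul, mul_smul, inv_smul_eq_iff, ← mul_smul (x : G) ((x : G) ^ i) α, ← pow_succ'] at this
        exact this
    have horb : MulAction.orbit (Subgroup.zpowers (x : G)) α ⊆ MulAction.fixedBy Ω u := by
      rintro _ ⟨⟨y, hy⟩, rfl⟩
      obtain ⟨i, rfl⟩ := (isOfFinOrder_of_finite (x : G)).mem_powers_iff_mem_zpowers.2 hy
      exact hpowfix i u hu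
    have hle : Nat.card (MulAction.orbit (Subgroup.zpowers (x : G)) α) ≤ k :=
      (Nat.card_mono (Set.toFinite _) horb).trans (hfix u hu1)
    obtain ⟨j, hj⟩ := (R.2.to_le (Subgroup.zpowers_le.2 x.2)).card_orbit α
    have hone : Nat.card (MulAction.orbit (Subgroup.zpowers (x : G)) α) = 1 := by
      rcases Nat.eq_zero_or_pos j with h | h
      · rw [hj, h, pow_zero]
      · have : p ∣ p ^ j := dvd_pow_self p h.ne'
        have := Nat.le_of_dvd (pow_pos hp.pos j) this
        omega
    have hxα : (x : G) • α = α := by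
      have hs := (Nat.card_eq_one_iff_unique.1 hone).1
      exact congrArg Subtype.val (hs.elim
        (⟨_, ⟨⟨x, Subgroup.mem_zpowers _⟩, rfl⟩⟩ : MulAction.orbit (Subgroup.zpowers (x : G)) α)
        ⟨α, MulAction.mem_orbit_self α⟩)
    apply hxQ
    have hle2 : (P : Subgroup _) ≤ (R : Subgroup G).comap (MulAction.stabilizer G α).subtype := fun y hy => hR ⟨y, hy, rfl⟩
    have heq := P.3 (R.2.comap_of_injective _ (Subgroup.subtype_injective _)) hle2
    show (x : G) ∈ Q
    exact ⟨⟨x, hxα⟩, heq ▸ (x.2 : (⟨(x : G), hxα⟩ : MulAction.stabilizer G α) ∈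
      (R : Subgroup G).comap (MulAction.stabilizer G α).subtype), rfl⟩

end Cfsg.Agent.S3389
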