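import Cfsg.Statements.S3390
import Cfsg.Agent.S3224
import Cfsg.Agent.Lib.Invol.IndexTwo
import Cfsg.Agent.Lib.Basics.FrobeniusBasic
import Cfsg.Agent.Lib.Basics.FpfAbelian

set_option autoImplicit false
open Cfsg

namespace Cfsg.Agent.S3390

section Aux

open MulAction
open scoped Pointwise

variable {G : Type*} [Group G] [Finite G] {Ω : Type*} [Fintype Ω] [MulAction G Ω] [FaithfulSMul G Ω]
  (hfix : ∀ g : G, g ≠ 1 → Nat.card (MulAction.fixedBy Ω g) ≤ 2)

include hfix

theorem three {g : G} {a b c : Ω} (hab : a ≠ b) (hac : a ≠ c) (hbc : b ≠ c) (ha : g • a = a) (hb : g • b = b)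
    (hc : g • c = c) : g = 1 := by
  classical
  by_contra hg
  have h := hfix g hg
  have hsub : ({a, b, c} : Set Ω) ⊆ MulAction.fixedBy Ω g := by
    intro x hx
    simp only [Set.mem_insert_iff, Set.mem_singleton_iff] at hx
    rcases hx with rfl | rfl | rfl <;> assumption
  have h' := Set.ncard_le_ncard hsub
  rw [Set.ncard_eq_three.2 ⟨a, b, c, hab, hac, hbc, rfl⟩, ← Nat.card_coe_set_eq] at h'
  omega

theorem eq_or_eq {g : G} (hg : g ≠ 1) {a b c : Ω} (hab : a ≠ b) (ha : g • a = a) (hb : g • b = b) (hc : g • c = c) :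
    c = a ∨ c = b := by
  by_contra h
  push Not at h
  exact hg (three hfix hab (Ne.symm h.1) (Ne.symm h.2) ha hb hc)

/-- A point stabiliser in a Sylow 2-subgroup fixes two points and has order 2 or index 2. -/
theorem basic (S : Sylow 2 G) (ω : Ω) (hbot : (S : Subgroup G) ⊓ stabilizer G ω ≠ ⊥)
    (htop : ¬ (S : Subgroup G) ≤ stabilizer G ω) :
    ∃ s ∈ (S : Subgroup G), s • ω ≠ ω ∧
      (∀ t ∈ (S : Subgroup G) ⊓ stabilizer G ω, t • s • ω = s • ω) ∧
      (((stabilizer G ω).subgroupOf (S : Subgroup G)).index = 2 ∨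
        (Nat.card ↥((S : Subgroup G) ⊓ stabilizer G ω) = 2 ∧
          ((∃ n : ℕ, Nonempty (↥(S : Subgroup G) ≃* DihedralGroup n)) ∨ Cfsg.IsQuasiDihedral ↥(S : Subgroup G) ∨
            Nat.card (S : Subgroup G) = 4))) := by
  classical
  haveI : Fact (Nat.Prime 2) := ⟨Nat.prime_two⟩
  haveI : Group.IsNilpotent (S : Subgroup G) := S.2.isNilpotent
  set T := (stabilizer G ω).subgroupOf (S : Subgroup G) with hT
  have hmem : ∀ x : (S : Subgroup G), x ∈ T ↔ (x : G) • ω = ω := fun x => Iff.rfl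
  have hTne : T ≠ ⊥ := by
    intro e
    apply hbot
    rw [Subgroup.eq_bot_iff_forall]
    rintro x ⟨hx, hxω⟩
    have : (⟨x, hx⟩ : (S : Subgroup G)) ∈ T := hxω
    rw [e, Subgroup.mem_bot] at this
    exact congrArg Subtype.val this
  have hTlt : T < ⊤ := lt_top_iff_ne_top.2 fun e => htop fun x hx =>
    (e ▸ Subgroup.mem_top _ : (⟨x, hx⟩ : (S : Subgroup G)) ∈ T)
  set N := Subgroup.normalizer (T : Set (S : Subgroup G)) with hN
  obtain ⟨hTN, hNT⟩ : T ≤ N ∧ ∃ s ∈ N, s ∉ T := by
    have h := normalizerCondition_of_isNilpotent T hTlt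
    exact ⟨h.le, SetLike.exists_of_lt h⟩
  obtain ⟨s, hsN, hsT⟩ := hNT
  set β := (s : G) • ω with hβ
  have hβω : β ≠ ω := fun e => hsT ((hmem s).2 e)
  have hTβ : ∀ t ∈ T, (t : G) • β = β := by
    intro t ht
    have h1 : s⁻¹ * t * s ∈ T := by
      have := (Subgroup.mem_normalizer_iff.1 (N.inv_mem hsN) t).1 ht
      simpa using this
    rw [hmem] at h1
    simp only [Subgroup.coe_mul, InvMemClass.coe_inv, mul_smul, inv_smul_eq_iff] at h1
    exact h1
  obtain ⟨⟨t₀, ht₀⟩, ht₀1⟩ := Subgroup.ne_bot_iff_exists_ne_one.1 hTne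
  have ht₀1' : (t₀ : G) ≠ 1 := fun e => ht₀1 (Subtype.ext (Subtype.ext e))
  have hNmove : ∀ x ∈ N, (x : G) • ω = ω ∨ (x : G) • ω = β := by
    intro x hx
    refine eq_or_eq hfix ht₀1' hβω.symm ((hmem t₀).1 ht₀) (hTβ t₀ ht₀) ?_
    have h1 : x⁻¹ * t₀ * x ∈ T := by
      have := (Subgroup.mem_normalizer_iff.1 (N.inv_mem hx) t₀).1 ht₀
      simpa using this
    rw [hmem] at h1
    simp only [Subgroup.coe_mul, InvMemClass.coe_inv, mul_smul, inv_smul_eq_iff] at h1
    exact h1
  have hNdec : ∀ x ∈ N, x ∈ T ∨ s⁻¹ * x ∈ T := by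
    intro x hx
    rcases hNmove x hx with h | h
    · exact Or.inl ((hmem x).2 h)
    · refine Or.inr ((hmem _).2 ?_)
      simp only [Subgroup.coe_mul, InvMemClass.coe_inv, mul_smul, inv_smul_eq_iff]
      exact h
  have hidx : (T.subgroupOf N).index = 2 := by
    rw [Subgroup.index_eq_two_iff]
    refine ⟨⟨s, hsN⟩⁻¹, fun b => ?_⟩
    simp only [Subgroup.mem_subgroupOf, Subgroup.coe_mul, InvMemClass.coe_inv]
    rcases hNdec b.1 b.2 with h | h
    · refine Or.inr ⟨h, fun hh => hsT ?_⟩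
      have h9 : (b : (S : Subgroup G)) * s⁻¹ ∈ T := hh
      have := T.mul_mem (T.inv_mem h) h9
      simpa using this
    · refine Or.inl ?_
      have hnorm := (Subgroup.mem_normalizer_iff.1 hsN _).1 h
      refine ⟨by simpa using hnorm, fun hb => hsT ?_⟩
      have := T.mul_mem hb (T.inv_mem h)
      simpa using this
  have hcardN : Nat.card N = 2 * Nat.card T := by
    have h := (T.subgroupOf N).index_mul_card
    rw [hidx, Nat.card_congr (Subgroup.subgroupOfEquivOfLe hTN).toEquiv] at h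
    exact h.symm
  have hcardT : Nat.card ↥((S : Subgroup G) ⊓ stabilizer G ω) = Nat.card T := by
    rw [← Nat.card_congr (Subgroup.subgroupOfEquivOfLe
      (inf_le_left : (S : Subgroup G) ⊓ stabilizer G ω ≤ (S : Subgroup G))).toEquiv, Subgroup.inf_subgroupOf_left]
  refine ⟨s, s.2, hβω, ?_, ?_⟩
  · rintro t ⟨ht, htω⟩
    exact hTβ ⟨t, ht⟩ htω
  by_cases hT2 : Nat.card T = 2
  · refine Or.inr ⟨hcardT.trans hT2, ?_⟩
    have ht2 : orderOf t₀ = 2 := by
      refine orderOf_eq_prime ?_ (fun e => ht₀1' (congrArg Subtype.val e))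
      have h9 := pow_card_eq_one' (x := (⟨t₀, ht₀⟩ : T))
      rw [hT2] at h9
      exact congrArg Subtype.val h9
    have hTeq : ∀ t ∈ T, t = 1 ∨ t = t₀ := by
      intro t ht
      by_contra h
      push Not at h
      have hsub : ({1, t₀, t} : Set (S : Subgroup G)) ⊆ (T : Set (S : Subgroup G)) := by
        intro x hx
        simp only [Set.mem_insert_iff, Set.mem_singleton_iff] at hx
        rcases hx with rfl | rfl | rfl
        · exact T.one_mem
        · exact ht₀
        · exact ht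
      have h3 := Set.ncard_le_ncard hsub (Set.toFinite _)
      rw [Set.ncard_eq_three.2 ⟨1, t₀, t, fun e => ht₀1' (congrArg Subtype.val e.symm), Ne.symm h.1, Ne.symm h.2, rfl⟩,
        ← Nat.card_coe_set_eq] at h3
      simp only [SetLike.coe_sort_coe] at h3
      omega
    have hC : Subgroup.centralizer ({t₀} : Set (S : Subgroup G)) = N := by
      ext x
      rw [Subgroup.mem_centralizer_singleton_iff, hN, Subgroup.mem_normalizer_iff]
      constructor
      · intro hx t
        constructor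
        · intro ht
          rcases hTeq t ht with rfl | rfl
          · simp [T.one_mem]
          · rwa [hx, mul_inv_cancel_right]
        · intro ht
          rcases hTeq _ ht with e | e
          · rw [show t = 1 by simpa using e]; exact T.one_mem
          · rw [show t = t₀ from mul_left_cancel ((mul_inv_eq_iff_eq_mul.1 e).trans hx.symm)]; exact ht₀
      · intro hx
        rcases hTeq _ ((hx t₀).1 ht₀) with e | e
        · exact absurd (show t₀ = 1 by simpa using e) (fun e => ht₀1' (congrArg Subtype.val e))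
        · exact mul_inv_eq_iff_eq_mul.1 e
    exact Cfsg.Agent.S3224.result S.2 t₀ ht2 (by rw [hC, hcardN, hT2])
  · left
    have hNtop : N = ⊤ := by
      by_contra hne
      have h := normalizerCondition_of_isNilpotent N (lt_top_iff_ne_top.2 hne)
      obtain ⟨x, hxN', hxN⟩ := SetLike.exists_of_lt h
      set T' := T.map (MulAut.conj x).toMonoidHom with hT'
      have hT'N : T' ≤ N := by
        rintro _ ⟨t, ht, rfl⟩
        exact (Subgroup.mem_normalizer_iff.1 hxN' t).1 (hTN ht)
      have hint : T ⊓ T' = ⊥ := by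
        rw [Subgroup.eq_bot_iff_forall]
        rintro y ⟨hy, t, ht, rfl⟩
        by_contra hy1
        have hy1' : ((MulAut.conj x t : (S : Subgroup G)) : G) ≠ 1 := fun e => hy1 (Subtype.ext e)
        have key : ∀ c : Ω, (t : G) • c = c → ((MulAut.conj x t : (S : Subgroup G)) : G) • (x : G) • c = (x : G) • c := by
          intro c hc
          simp only [MulAut.conj_apply, Subgroup.coe_mul, InvMemClass.coe_inv, mul_smul, inv_smul_smul, hc]
        have h1 := eq_or_eq hfix hy1' hβω.symm ((hmem _).1 hy) (hTβ _ hy) (key ω ((hmem t).1 ht))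
        have h2 := eq_or_eq hfix hy1' hβω.symm ((hmem _).1 hy) (hTβ _ hy) (key β (hTβ t ht))
        apply hxN
        rcases h1 with h1 | h1
        · exact hTN ((hmem x).2 h1)
        · have h3 : s⁻¹ * x ∈ T := by
            rw [hmem]
            simp only [Subgroup.coe_mul, InvMemClass.coe_inv, mul_smul, inv_smul_eq_iff]
            exact h1
          have := N.mul_mem hsN (hTN h3)
          simpa using this
      have hle : Nat.card T' ≤ 2 := by
        have hd := Subgroup.card_dvd_of_injective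
          ((QuotientGroup.mk' (T.subgroupOf N)).comp (Subgroup.inclusion hT'N)) (by
            rw [← MonoidHom.ker_eq_bot_iff, Subgroup.eq_bot_iff_forall]
            intro y hy
            rw [MonoidHom.mem_ker, MonoidHom.comp_apply, QuotientGroup.mk'_apply, QuotientGroup.eq_one_iff,
              Subgroup.mem_subgroupOf] at hy
            have h9 : (y : (S : Subgroup G)) ∈ T ⊓ T' := ⟨hy, y.2⟩
            rw [hint, Subgroup.mem_bot] at h9
            exact Subtype.ext h9)
        rw [← Subgroup.index_eq_card, hidx] at hd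
        exact Nat.le_of_dvd two_pos hd
      rw [hT', Subgroup.card_map_of_injective (MulAut.conj x).injective] at hle
      have := (Subgroup.one_lt_card_iff_ne_bot T).2 hTne
      omega
    have h := T.index_mul_card
    rw [← Nat.card_congr (Subgroup.topEquiv (G := (S : Subgroup G))).toEquiv, ← hNtop, hcardN] at h
    exact Nat.eq_of_mul_eq_mul_right Nat.card_pos h

/-- The index-two subgroup containing the stabiliser is a Frobenius group. -/
theorem frobenius [MulAction.IsPretransitive G Ω] (N : Subgroup G) [N.Normal] (α β : Ω) (hαβ : α ≠ β)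
    (hGN : stabilizer G α ≤ N) (hβN : ∀ n ∈ N, n • α ≠ β)
    (hinv : ∀ g ∈ stabilizer G α, orderOf g = 2 → ∃ h ∈ stabilizer G α, h • β = β ∧ orderOf h = 2)
    (u₀ : G) (hu₀ : u₀ • α = α) (hu₀β : u₀ • β = β) (hu₀2 : orderOf u₀ = 2) :
    ∃ H : Subgroup N, Cfsg.IsFrobeniusComplement H := by
  classical
  have hu1 : u₀ ≠ 1 := fun e => by rw [e, orderOf_one] at hu₀2; omega
  refine ⟨(stabilizer G α).subgroupOf N, ?_, ?_, ?_⟩
  · intro e
    have : (⟨u₀, hGN hu₀⟩ : N) ∈ (stabilizer G α).subgroupOf N := hu₀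
    rw [e, Subgroup.mem_bot] at this
    exact hu1 (congrArg Subtype.val this)
  · intro e
    apply hu1
    refine FaithfulSMul.eq_of_smul_eq_smul (α := Ω) fun c => ?_
    obtain ⟨g, rfl⟩ := exists_smul_eq G α c
    have hm : g⁻¹ * u₀ * g ∈ N := (inferInstance : N.Normal).conj_mem' _ (hGN hu₀) g
    have h9 : (⟨_, hm⟩ : N) ∈ (stabilizer G α).subgroupOf N := e ▸ Subgroup.mem_top _
    have h9' : (g⁻¹ * u₀ * g) • α = α := h9
    rw [mul_smul, mul_smul, inv_smul_eq_iff] at h9'
    rw [one_smul, h9']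
  intro g hg
  rw [Subgroup.eq_bot_iff_forall]
  rintro ⟨x, hxN⟩ ⟨hxα, hx2⟩
  have hxα' : x • α = α := hxα
  replace hx2 : (⟨x, hxN⟩ : N) ∈ MulAut.conj g • (stabilizer G α).subgroupOf N := hx2
  rw [Subgroup.mem_pointwise_smul_iff_inv_smul_mem] at hx2
  have hxγ : x • (g : G) • α = (g : G) • α := by
    have h9 : ((g : G)⁻¹ * x * (g : G)) • α = α := by simpa [Subgroup.mem_subgroupOf] using hx2
    rwa [mul_smul, mul_smul, inv_smul_eq_iff] at h9
  by_contra hx
  have hx1 : x ≠ 1 := fun e => hx (Subtype.ext e)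
  set γ := (g : G) • α with hγ
  have hγα : α ≠ γ := fun e => hg (show (g : G) • α = α from e.symm)
  have hγβ : γ ≠ β := hβN g g.2
  -- the stabiliser of the point is a Frobenius group on the other orbit
  set L := stabilizer G α with hL
  set D := (stabilizer G β).subgroupOf L with hD
  have hxD : x • β ≠ β := fun e => hx1 (three hfix hγα hαβ hγβ hxα' hxγ e)
  have hDF : Cfsg.IsFrobeniusComplement D := by
    refine ⟨fun e => ?_, fun e => ?_, fun l hl => ?_⟩
    · have : (⟨u₀, hu₀⟩ : L) ∈ D := hu₀β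
      rw [e, Subgroup.mem_bot] at this
      exact hu1 (congrArg Subtype.val this)
    · exact hxD (e ▸ Subgroup.mem_top _ : (⟨x, hxα'⟩ : L) ∈ D)
    · rw [Subgroup.eq_bot_iff_forall]
      rintro ⟨y, hy⟩ ⟨hyβ, hy2⟩
      replace hy2 : (⟨y, hy⟩ : L) ∈ MulAut.conj l • D := hy2
      rw [Subgroup.mem_pointwise_smul_iff_inv_smul_mem] at hy2
      have h9 : ((l : G)⁻¹ * y * (l : G)) • β = β := by simpa [hD, Subgroup.mem_subgroupOf] using hy2
      rw [mul_smul, mul_smul, inv_smul_eq_iff] at h9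
      refine Subtype.ext (three hfix hαβ (c := (l : G) • β) ?_ (Ne.symm fun e => hl e) hy hyβ h9)
      intro e
      exact hαβ (smul_left_cancel (l : G) ((l.2 : (l : G) • α = α).trans e))
  obtain ⟨K, hKset, hKn, hKc, -⟩ := Cfsg.Agent.Basics.frobenius_kernel_exists hDF
  have hxK : (⟨x, hxα'⟩ : L) ∈ K := by
    rw [← SetLike.mem_coe, hKset]
    refine Or.inr fun l hl => ?_
    rw [Subgroup.mem_pointwise_smul_iff_inv_smul_mem] at hl
    have h9 : ((l : G)⁻¹ * x * (l : G)) • β = β := by simpa [hD, Subgroup.mem_subgroupOf] using hl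
    rw [mul_smul, mul_smul, inv_smul_eq_iff] at h9
    rcases eq_or_eq hfix hx1 hγα hxα' hxγ h9 with e | e
    · exact hαβ (smul_left_cancel (l : G) ((l.2 : (l : G) • α = α).trans e.symm))
    · refine hβN ((l : G)⁻¹ * g) (N.mul_mem (N.inv_mem (hGN l.2)) g.2) ?_
      rw [mul_smul, inv_smul_eq_iff, e]
  set u : L := ⟨u₀, hu₀⟩
  have hu2 : u * u = 1 := Subtype.ext (by
    show u₀ * u₀ = 1
    rw [← pow_two, ← hu₀2, pow_orderOf_eq_one])
  have hfpf : MonoidHom.FixedPointFree (MulAut.conjNormal u : MulAut K) := by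
    intro k hk
    have hk' : u * (k : L) * u⁻¹ = k := by
      rw [← MulAut.conjNormal_apply]; exact congrArg Subtype.val hk
    have h9 : u₀ • ((k : L) : G) • β = ((k : L) : G) • β := by
      have h8 := congrArg (fun y : L => (y : G) • β) hk'
      simp only [Subgroup.coe_mul, InvMemClass.coe_inv, mul_smul] at h8
      rwa [show (u₀⁻¹) • β = β from inv_smul_eq_iff.2 hu₀β.symm] at h8
    rcases eq_or_eq hfix hu1 hαβ hu₀ hu₀β h9 with e | e
    · exact absurd (smul_left_cancel ((k : L) : G) (e.trans ((k : L).2 : ((k : L) : G) • α = α).symm)) (Ne.symm hαβ)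
    · have h7 : (k : L) ∈ K ⊓ D := ⟨k.2, e⟩
      rw [hKc.disjoint.eq_bot, Subgroup.mem_bot] at h7
      exact Subtype.ext h7
  have hinvol : Function.Involutive (MulAut.conjNormal u : MulAut K) := by
    intro k
    rw [← MulAut.mul_apply, ← map_mul, hu2, map_one, MulAut.one_apply]
  have hKγ : ∀ k : K, ((k : L) : G) • γ = γ := by
    intro k
    have hcomm := hfpf.commute_all_of_involutive hinvol k ⟨_, hxK⟩
    have h9 : ((k : L) : G) * x = x * ((k : L) : G) :=
      congrArg (fun y : K => ((y : L) : G)) hcomm.eq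
    have h8 : x • ((k : L) : G) • γ = ((k : L) : G) • γ := by rw [← mul_smul, ← h9, mul_smul, hxγ]
    rcases eq_or_eq hfix hx1 hγα hxα' hxγ h8 with e | e
    · exact absurd (smul_left_cancel ((k : L) : G) (e.trans ((k : L).2 : ((k : L) : G) • α = α).symm)) (Ne.symm hγα)
    · exact e
  have h9 : x • u₀ • γ = u₀ • γ := by
    have h7 := hKγ ⟨u⁻¹ * ⟨x, hxα'⟩ * u, hKn.conj_mem' _ hxK u⟩
    simp only [Subgroup.coe_mul, InvMemClass.coe_inv, mul_smul, inv_smul_eq_iff] at h7
    exact h7
  rcases eq_or_eq hfix hx1 hγα hxα' hxγ h9 with e | e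
  · exact hγα (smul_left_cancel u₀ (hu₀.trans e.symm))
  · exact hu1 (three hfix hαβ hγα (Ne.symm hγβ) hu₀ hu₀β e)

/-- With all other orbits regular, the sign separates the two points. -/
theorem sign_eq [DecidableEq Ω] (S : Subgroup G) (hS2 : IsPGroup 2 S) (α β : Ω) (hαβ : α ≠ β)
    (hreg : ∀ ω, ω ≠ α → ω ≠ β → ∀ x ∈ S, x • ω = ω → x = 1)
    (hinv : ∀ x ∈ S, (x • α = α ∧ x • β = β) ∨ (x • α = β ∧ x • β = α)) (h4 : 4 ≤ Nat.card S)
    (x : G) (hx : x ∈ S) (hord : orderOf x < Nat.card S) (hx1 : x ≠ 1) :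
    Equiv.Perm.sign (toPermHom G Ω x) = if x • α = α then 1 else -1 := by
  classical
  haveI : Fact (Nat.Prime 2) := ⟨Nat.prime_two⟩
  set σ : Equiv.Perm Ω := toPermHom G Ω x with hσ
  set τ : Equiv.Perm Ω := if x • α = α then 1 else Equiv.swap α β with hτ
  set y := τ * σ with hy
  have hyα : y α = α ∧ y β = β := by
    rw [hy, hτ, hσ]
    split_ifs with h
    · rcases hinv x hx with ⟨h1, h2⟩ | ⟨h1, h2⟩
      · exact ⟨h1, h2⟩
      · exact absurd (h1.symm.trans h).symm hαβ
    · rcases hinv x hx with ⟨h1, h2⟩ | ⟨h1, h2⟩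
      · exact absurd h1 h
      · simp [Equiv.Perm.mul_apply, h1, h2]
  have hout : ∀ ω, ω ≠ α → ω ≠ β → ∀ j : ℕ, (x ^ j) • ω ≠ α ∧ (x ^ j) • ω ≠ β := by
    intro ω hα hβ j
    rcases hinv (x ^ j) (S.pow_mem hx j) with ⟨h1, h2⟩ | ⟨h1, h2⟩
    · exact ⟨fun e => hα (smul_left_cancel _ (e.trans h1.symm)), fun e => hβ (smul_left_cancel _ (e.trans h2.symm))⟩
    · exact ⟨fun e => hβ (smul_left_cancel _ (e.trans h2.symm)), fun e => hα (smul_left_cancel _ (e.trans h1.symm))⟩
  have hpow : ∀ ω, ω ≠ α → ω ≠ β → ∀ j : ℕ, (y ^ j) ω = (x ^ j) • ω := by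
    intro ω hα hβ j
    induction j with
    | zero => simp
    | succ j ih =>
      rw [pow_succ', Equiv.Perm.mul_apply, ih, pow_succ', mul_smul, hy, hτ, Equiv.Perm.mul_apply, hσ,
        toPermHom_apply, toPerm_apply]
      have h9 := hout ω hα hβ (j + 1)
      rw [pow_succ', mul_smul] at h9
      split_ifs
      · rfl
      · exact Equiv.swap_apply_of_ne_of_ne h9.1 h9.2
  have hyo : y ^ orderOf x = 1 := by
    ext ω
    by_cases hα : ω = α
    · subst hα; exact Equiv.Perm.pow_apply_eq_self_of_apply_eq_self hyα.1 _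
    by_cases hβ : ω = β
    · subst hβ; exact Equiv.Perm.pow_apply_eq_self_of_apply_eq_self hyα.2 _
    rw [hpow ω hα hβ, pow_orderOf_eq_one, one_smul]; rfl
  have hct : ∀ n ∈ y.cycleType, n = orderOf x := by
    intro n hn
    obtain ⟨c, ρ, hcρ, hdis, hc, hcn⟩ := Equiv.Perm.mem_cycleType_iff.mp hn
    have hdvd : n ∣ orderOf x := by
      rw [← hcn, ← hc.orderOf]
      refine orderOf_dvd_of_pow_eq_one ?_
      have h9 := hyo
      rw [hcρ, hdis.commute.mul_pow] at h9
      exact (Equiv.Perm.Disjoint.mul_eq_one_iff (hdis.pow_disjoint_pow _ _)).mp h9 |>.1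
    obtain ⟨w, hw⟩ := Finset.card_pos.mp (show 0 < c.support.card by
      exact Finset.card_pos.2 ⟨hc.choose, Equiv.Perm.mem_support.2 hc.choose_spec.1⟩)
    have hρw : ρ w = w := (hdis w).resolve_left (Equiv.Perm.mem_support.mp hw)
    have hyw : y w ≠ w := by
      rw [hcρ, Equiv.Perm.mul_apply, hρw]; exact Equiv.Perm.mem_support.mp hw
    have hwα : w ≠ α := fun e => hyw (e ▸ hyα.1)
    have hwβ : w ≠ β := fun e => hyw (e ▸ hyα.2)
    have h1 : (y ^ n) w = w := by
      rw [hcρ, hdis.commute.mul_pow, ← hcn, ← hc.orderOf, pow_orderOf_eq_one, one_mul]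
      exact Equiv.Perm.pow_apply_eq_self_of_apply_eq_self hρw _
    rw [hpow w hwα hwβ] at h1
    exact Nat.dvd_antisymm hdvd (orderOf_dvd_of_pow_eq_one (hreg w hwα hwβ _ (S.pow_mem hx n) h1))
  have hfixed : Fintype.card (Function.fixedPoints y) = 2 := by
    rw [← Nat.card_eq_fintype_card, Nat.card_coe_set_eq,
      show Function.fixedPoints y = ({α, β} : Set Ω) from ?_, Set.ncard_pair hαβ]
    ext ω
    simp only [Function.mem_fixedPoints, Function.IsFixedPt, Set.mem_insert_iff, Set.mem_singleton_iff]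
    refine ⟨fun h => ?_, ?_⟩
    · by_contra hne
      push Not at hne
      have h1 := hpow ω hne.1 hne.2 1
      rw [pow_one, pow_one, h] at h1
      exact hx1 (hreg ω hne.1 hne.2 x hx h1.symm)
    · rintro (rfl | rfl)
      · exact hyα.1
      · exact hyα.2
  obtain ⟨k, hk⟩ : ∃ k, orderOf x = 2 ^ (k + 1) := by
    obtain ⟨i, hi⟩ := IsPGroup.iff_orderOf.1 hS2 ⟨x, hx⟩
    rw [Subgroup.orderOf_mk] at hi
    rcases i with _ | i
    · exact absurd (orderOf_eq_one_iff.1 (hi.trans (pow_zero _))) hx1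
    · exact ⟨i, hi⟩
  have hdvd : Nat.card S ∣ Fintype.card Ω - 2 := by
    let p : SubMulAction S Ω :=
      { carrier := {ω | ω ≠ α ∧ ω ≠ β}
        smul_mem' := by
          rintro ⟨z, hz⟩ ω ⟨hα, hβ⟩
          rcases hinv z hz with ⟨h1, h2⟩ | ⟨h1, h2⟩
          · exact ⟨fun e => hα (smul_left_cancel z (e.trans h1.symm)), fun e => hβ (smul_left_cancel z (e.trans h2.symm))⟩
          · exact ⟨fun e => hβ (smul_left_cancel z (e.trans h2.symm)), fun e => hα (smul_left_cancel z (e.trans h1.symm))⟩ }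
    have hfree : ∀ ω : p, stabilizer S ω = ⊥ := fun ω => (Subgroup.eq_bot_iff_forall _).2 fun z hz =>
      Subtype.ext (hreg (ω : Ω) ω.2.1 ω.2.2 z z.2 (congrArg Subtype.val hz))
    have hp : Nat.card p = Fintype.card Ω - 2 := by
      have h := Set.ncard_add_ncard_compl ({α, β} : Set Ω)
      rw [Set.ncard_pair hαβ, Nat.card_eq_fintype_card] at h
      have h' : Nat.card p = ({α, β}ᶜ : Set Ω).ncard := by
        rw [← Nat.card_coe_set_eq]
        exact Nat.card_congr (Equiv.subtypeEquivRight fun ω => by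
          show (ω ≠ α ∧ ω ≠ β) ↔ _
          simp)
      omega
    rw [← hp, Nat.card_congr (selfEquivSigmaOrbitsQuotientStabilizer S p)]
    haveI : Fintype (Quotient (orbitRel S p)) := Fintype.ofFinite _
    rw [Nat.card_sigma]
    refine Finset.dvd_sum fun q _ => ?_
    rw [hfree, ← Subgroup.index_eq_card, Subgroup.index_bot]
  have hsy : Equiv.Perm.sign y = 1 := by
    rw [Equiv.Perm.sign_of_cycleType_eq_replicate (n := orderOf x) (orderOf_pos x) (Multiset.eq_replicate_card.2 hct),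
      hfixed, if_neg (by rw [Nat.not_odd_iff_even, hk]; exact Even.pow_of_ne_zero even_two (by omega))]
    obtain ⟨j, hj⟩ := IsPGroup.iff_card.1 hS2
    obtain ⟨R, hR⟩ := hdvd
    have hkj : k + 1 < j := (Nat.pow_lt_pow_iff_right (show 1 < 2 by norm_num)).1 (hk ▸ hj ▸ hord)
    obtain ⟨i, rfl⟩ : ∃ i, j = k + 1 + (i + 1) := ⟨j - (k + 1) - 1, by omega⟩
    rw [hR, hj, hk, pow_add, mul_assoc, Nat.mul_div_cancel_left _ (by positivity), pow_succ', mul_assoc, pow_mul,
      Int.units_sq, one_pow]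
  have hστ : σ = τ * y := by
    rw [hy, ← mul_assoc, hτ]
    split_ifs <;> simp
  rw [hστ, Equiv.Perm.sign_mul, hsy, mul_one, hτ]
  split_ifs
  · exact Equiv.Perm.sign_one
  · exact Equiv.Perm.sign_swap hαβ

theorem false_of_cyclic {S : Subgroup G} (hc : IsCyclic S) (U T : Subgroup S) (hU : Nat.card U = 2) (hT : 2 ≤ Nat.card T)
    (h : U ⊓ T = ⊥) (hS : IsPGroup 2 S := by exact Sylow.isPGroup' _) : False := by
  haveI : Fact (Nat.Prime 2) := ⟨Nat.prime_two⟩
  obtain ⟨z, hz⟩ := exists_prime_orderOf_dvd_card' 2 (show 2 ∣ Nat.card T by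
    obtain ⟨j, hj⟩ := IsPGroup.iff_card.1 (hS.to_subgroup T)
    rcases j with _ | j
    · rw [pow_zero] at hj; omega
    · exact hj ▸ dvd_pow_self 2 (by omega))
  obtain ⟨w, hw⟩ := exists_prime_orderOf_dvd_card' 2 (show 2 ∣ Nat.card U by rw [hU])
  haveI := hc
  have hzw : Subgroup.zpowers (z : S) = Subgroup.zpowers (w : S) :=
    Cfsg.Agent.Basics.cyclic_subgroup_eq_of_card_eq
      (by rw [Nat.card_zpowers, Nat.card_zpowers, Subgroup.orderOf_coe, Subgroup.orderOf_coe, hz, hw])
  have h1 : (z : S) ∈ U ⊓ T := ⟨(Subgroup.zpowers_le.2 w.2) (hzw ▸ Subgroup.mem_zpowers _), z.2⟩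
  rw [h, Subgroup.mem_bot] at h1
  rw [← Subgroup.orderOf_coe, h1, orderOf_one] at hz
  omega

theorem exponent_two_of {S : Subgroup G} (h : Nat.card S = 4) (hnc : ¬ IsCyclic S) : Monoid.exponent S = 2 := by
  have hpow : ∀ g : S, g ^ 2 = 1 := by
    intro g
    have hd : orderOf g ∣ 4 := h ▸ orderOf_dvd_natCard g
    have hle : orderOf g ≤ 4 := Nat.le_of_dvd (by norm_num) hd
    have hne : orderOf g ≠ 4 := fun e => hnc (isCyclic_of_orderOf_eq_card g (e.trans h.symm))
    refine orderOf_dvd_iff_pow_eq_one.1 ?_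
    interval_cases (orderOf g) <;> simp_all
  haveI : Nontrivial S := Finite.one_lt_card_iff_nontrivial.1 (by omega)
  obtain ⟨g, hg⟩ := exists_ne (1 : S)
  refine Nat.dvd_antisymm (Monoid.exponent_dvd_of_forall_pow_eq_one hpow) ?_
  rw [← orderOf_eq_prime (hpow g) hg]
  exact Monoid.order_dvd_exponent g

omit [FaithfulSMul G Ω] in
theorem card_orbit_eq (S : Subgroup G) (ω : Ω) :
    Nat.card (orbit S ω) = (stabilizer S ω).index := by
  rw [index_stabilizer, Nat.card_coe_set_eq]

theorem rest [MulAction.IsPretransitive G Ω] (α : Ω) (S : Sylow 2 G) {s : G} (hsS : s ∈ (S : Subgroup G))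
    (hsα : s • α ≠ α) (hTfix : ∀ t ∈ (S : Subgroup G) ⊓ stabilizer G α, t • s • α = s • α)
    (hidx : ((stabilizer G α).subgroupOf (S : Subgroup G)).index = 2) :
    (((∃ n : ℕ, Nonempty (↥(S : Subgroup G) ≃* DihedralGroup n)) ∨ Cfsg.IsQuasiDihedral ↥(S : Subgroup G)) ∧
       (Nat.card ↥((S : Subgroup G) ⊓ MulAction.stabilizer G α) = 2 ∨
        ((S : Subgroup G) ⊓ MulAction.stabilizer G α).relIndex (S : Subgroup G) = 2)) ∨
    (4 ≤ Nat.card (S : Subgroup G) ∧
       (∃ ω : Ω, Nat.card (MulAction.orbit ↥(S : Subgroup G) ω) = 2 ∧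
          ∀ ω' : Ω, ω' ∉ MulAction.orbit ↥(S : Subgroup G) ω → Nat.card (MulAction.orbit ↥(S : Subgroup G) ω') = Nat.card (S : Subgroup G)) ∧
       ∃ N : Subgroup G, N.Normal ∧ (N.index = 2 ∨ N.index = Nat.card (S : Subgroup G)) ∧ (∃ H : Subgroup ↥N, Cfsg.IsFrobeniusComplement H)) := by
  classical
  haveI : Fact (Nat.Prime 2) := ⟨Nat.prime_two⟩
  set T := (stabilizer G α).subgroupOf (S : Subgroup G) with hT
  have hrel : ((S : Subgroup G) ⊓ stabilizer G α).relIndex (S : Subgroup G) = 2 := by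
    rw [inf_comm, Subgroup.inf_relIndex_right]; exact hidx
  set β := s • α with hβ
  by_cases hDS : (∃ n : ℕ, Nonempty (↥(S : Subgroup G) ≃* DihedralGroup n)) ∨ Cfsg.IsQuasiDihedral ↥(S : Subgroup G)
  · exact Or.inl ⟨hDS, Or.inr hrel⟩
  right
  by_cases hTbot : T = ⊥
  · exfalso
    rw [hTbot, Subgroup.index_bot] at hidx
    apply hDS
    refine Or.inl ⟨1, ?_⟩
    haveI : IsCyclic (S : Subgroup G) := isCyclic_of_prime_card hidx
    haveI : IsCyclic (DihedralGroup 1) := isCyclic_of_prime_card (p := 2) (by rw [DihedralGroup.nat_card])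
    exact ⟨mulEquivOfCyclicCardEq (by rw [hidx, DihedralGroup.nat_card])⟩
  have hmem : ∀ x : (S : Subgroup G), x ∈ T ↔ (x : G) • α = α := fun x => Iff.rfl
  have hinv : ∀ x ∈ (S : Subgroup G), (x • α = α ∧ x • β = β) ∨ (x • α = β ∧ x • β = α) := by
    intro x hx
    have hsT : (⟨s, hsS⟩ : (S : Subgroup G)) ∉ T := hsα
    by_cases hxT : (⟨x, hx⟩ : (S : Subgroup G)) ∈ T
    · exact Or.inl ⟨hxT, hTfix x ⟨hx, hxT⟩⟩
    · have h1 : (⟨x, hx⟩ : (S : Subgroup G)) * ⟨s, hsS⟩ ∈ T :=
        (Subgroup.mul_mem_iff_of_index_two hidx).2 (iff_of_false hxT hsT)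
      have h2 : (⟨s, hsS⟩ : (S : Subgroup G))⁻¹ * ⟨x, hx⟩ ∈ T :=
        (Subgroup.mul_mem_iff_of_index_two hidx).2 (iff_of_false (fun e => hsT (T.inv_mem_iff.1 e)) hxT)
      rw [hmem] at h1 h2
      simp only [Subgroup.coe_mul, InvMemClass.coe_inv, mul_smul, inv_smul_eq_iff] at h1 h2
      exact Or.inr ⟨h2, h1⟩
  have hcardS : Nat.card (S : Subgroup G) = 2 * Nat.card T := by
    have := T.index_mul_card
    rw [hidx] at this
    exact this.symm
  have hT2 : 2 ≤ Nat.card T := (Subgroup.one_lt_card_iff_ne_bot _).2 hTbot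
  have h4 : 4 ≤ Nat.card (S : Subgroup G) := by omega
  have hTfixes : ∀ t : (S : Subgroup G), t ∈ T → (t : G) • β = β := fun t ht => hTfix t ⟨t.2, ht⟩
  have hcyc4 : Nat.card (S : Subgroup G) = 4 → IsCyclic (S : Subgroup G) := by
    intro h
    by_contra hnc
    apply hDS
    haveI : IsKleinFour (S : Subgroup G) := ⟨h, exponent_two_of hfix h hnc⟩
    haveI : Fintype (S : Subgroup G) := Fintype.ofFinite _
    let e₀ := Fintype.equivOfCardEq (show Fintype.card (S : Subgroup G) = Fintype.card (DihedralGroup 2) by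
      rw [← Nat.card_eq_fintype_card, h, DihedralGroup.card])
    exact Or.inl ⟨2, ⟨IsKleinFour.mulEquiv' (e₀.trans (Equiv.swap (e₀ 1) 1)) (by simp) IsKleinFour.exponent_two⟩⟩
  have hreg : ∀ ω, ω ≠ α → ω ≠ β → ∀ x ∈ (S : Subgroup G), x • ω = ω → x = 1 := by
    intro ω hα hβ' x hx hxω
    by_contra hx1
    obtain ⟨⟨t, ht⟩, ht1⟩ := Subgroup.ne_bot_iff_exists_ne_one.1 hTbot
    have hωbot : (S : Subgroup G) ⊓ stabilizer G ω ≠ ⊥ := fun e =>
      hx1 (Subgroup.mem_bot.1 (e ▸ (⟨hx, hxω⟩ : x ∈ (S : Subgroup G) ⊓ stabilizer G ω)))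
    have hnotT : ∀ z : (S : Subgroup G), z ∈ T → (z : G) • ω = ω → z = 1 := fun z hz hzω =>
      Subtype.ext (three hfix hsα.symm (Ne.symm hα) (Ne.symm hβ') ((hmem z).1 hz) (hTfixes z hz) hzω)
    have hωtop : ¬ (S : Subgroup G) ≤ stabilizer G ω := fun h => ht1 (Subtype.ext (hnotT t ht (h t.2)))
    obtain ⟨-, -, -, -, h⟩ := basic hfix S ω hωbot hωtop
    set U := (stabilizer G ω).subgroupOf (S : Subgroup G) with hU
    have hUT : U ⊓ T = ⊥ := (Subgroup.eq_bot_iff_forall _).2 fun z hz => hnotT z hz.2 hz.1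
    rcases h with h | ⟨hU2, h | h | h⟩
    · haveI : T.Normal := Subgroup.normal_of_index_eq_two hidx
      have hd := Subgroup.card_dvd_of_injective ((QuotientGroup.mk' T).comp U.subtype) (by
        rw [← MonoidHom.ker_eq_bot_iff, Subgroup.eq_bot_iff_forall]
        intro z hz
        rw [MonoidHom.mem_ker, MonoidHom.comp_apply, QuotientGroup.mk'_apply, QuotientGroup.eq_one_iff] at hz
        exact Subtype.ext (Subgroup.mem_bot.1 (hUT ▸ (⟨z.2, hz⟩ : (z : (S : Subgroup G)) ∈ U ⊓ T))))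
      rw [← Subgroup.index_eq_card, hidx] at hd
      have e := U.index_mul_card
      rw [h] at e
      have hcard4 : Nat.card (S : Subgroup G) = 4 := by have := Nat.le_of_dvd two_pos hd; omega
      exact false_of_cyclic hfix (hcyc4 hcard4) U T (by omega) (by omega) hUT
    · exact hDS (Or.inl h)
    · exact hDS (Or.inr h)
    · refine false_of_cyclic hfix (hcyc4 h) U T ?_ hT2 hUT
      have h' := hU2
      rw [← Nat.card_congr (Subgroup.subgroupOfEquivOfLe
        (inf_le_left : (S : Subgroup G) ⊓ stabilizer G ω ≤ (S : Subgroup G))).toEquiv, Subgroup.inf_subgroupOf_left] at h'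
      exact h'
  -- orbits
  have horbα : stabilizer (S : Subgroup G) α = T := by ext z; rfl
  refine ⟨h4, ⟨α, by rw [card_orbit_eq hfix, horbα, hidx], fun ω hω => ?_⟩, ?_⟩
  · have h1 : ω ≠ α := fun e => hω (by rw [e]; exact mem_orbit_self α)
    have h2 : ω ≠ β := fun e => hω ⟨⟨s, hsS⟩, e.symm⟩
    have : stabilizer (S : Subgroup G) ω = ⊥ := (Subgroup.eq_bot_iff_forall _).2 fun z hz =>
      Subtype.ext (hreg ω h1 h2 z z.2 hz)
    rw [card_orbit_eq hfix, this, Subgroup.index_bot]
  -- the index two subgroup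
  obtain ⟨N, hN, hTN, hsN⟩ : ∃ N : Subgroup G, N.index = 2 ∧ (∀ t : (S : Subgroup G), t ∈ T → (t : G) ∈ N) ∧ s ∉ N := by
    by_cases hcyc : IsCyclic (S : Subgroup G)
    · obtain ⟨N, hN⟩ := Cfsg.Agent.Invol.exists_index_two_of_cyclic_sylow (G := G)
        (even_iff_two_dvd.2 ((dvd_trans ⟨Nat.card T, hcardS⟩) (Subgroup.card_subgroup_dvd_card _))) S hcyc
      have hSN : ¬ (S : Subgroup G) ≤ N := by
        intro h
        have h1 := Subgroup.index_dvd_of_le h
        rw [hN] at h1
        exact S.not_dvd_index h1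
      obtain ⟨g, hg⟩ := hcyc.exists_generator
      have hgN : (g : G) ∉ N := by
        intro h
        apply hSN
        intro z hz
        obtain ⟨i, hi⟩ := hg ⟨z, hz⟩
        have := congrArg Subtype.val hi
        simp only [SubgroupClass.coe_zpow] at this
        exact this ▸ N.zpow_mem h i
      have hgT : g ∉ T := fun h => by
        have : T = ⊤ := eq_top_iff.2 fun z _ => by
          obtain ⟨i, rfl⟩ := hg z
          exact T.zpow_mem h i
        rw [this, Subgroup.index_top] at hidx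
        omega
      have hg2N : (g : G) * g ∈ N := Subgroup.mul_self_mem_of_index_two hN _
      have hkey : ∀ z : (S : Subgroup G), z ∈ T ↔ (z : G) ∈ N := by
        intro z
        obtain ⟨i, rfl⟩ := hg z
        simp only [SubgroupClass.coe_zpow]
        rcases Int.even_or_odd i with ⟨j, rfl⟩ | ⟨j, rfl⟩
        · refine iff_of_true ?_ ?_
          · rw [← two_mul, zpow_mul, show g ^ (2 : ℤ) = g * g from zpow_two g]
            exact T.zpow_mem (Subgroup.mul_self_mem_of_index_two hidx _) j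
          · rw [← two_mul, zpow_mul, zpow_two]; exact N.zpow_mem hg2N j
        · refine iff_of_false ?_ ?_
          · rw [zpow_add_one, zpow_mul, zpow_two, T.mul_mem_cancel_left
              (T.zpow_mem (Subgroup.mul_self_mem_of_index_two hidx _) j)]
            exact hgT
          · rw [zpow_add_one, zpow_mul, zpow_two, N.mul_mem_cancel_left (N.zpow_mem hg2N j)]
            exact hgN
      exact ⟨N, hN, fun t ht => (hkey t).1 ht, fun h => hsα ((hkey ⟨s, hsS⟩).2 h)⟩
    · have hord : ∀ z : (S : Subgroup G), orderOf (z : G) < Nat.card (S : Subgroup G) := fun z => by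
        rw [Subgroup.orderOf_coe]
        exact lt_of_le_of_ne (Nat.le_of_dvd Nat.card_pos (orderOf_dvd_natCard z))
          fun e => hcyc (isCyclic_of_orderOf_eq_card z e)
      let f : G →* ℤˣ := Equiv.Perm.sign.comp (toPermHom G Ω)
      have hf : ∀ z : (S : Subgroup G), z ≠ 1 → f z = if (z : G) • α = α then 1 else -1 := fun z hz =>
        sign_eq hfix (S : Subgroup G) S.2 α β hsα.symm hreg hinv h4 z z.2 (hord z) (fun e => hz (Subtype.ext e))
      have hfs : f s = -1 := by
        rw [hf ⟨s, hsS⟩ (fun e => hsα (by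
          have h9 : s = 1 := congrArg Subtype.val e
          show s • α = α
          rw [h9, one_smul]))]
        exact if_neg hsα
      have hsurj : Function.Surjective f := fun z => by
        rcases Int.units_eq_one_or z with rfl | rfl
        · exact ⟨1, map_one f⟩
        · exact ⟨s, hfs⟩
      refine ⟨f.ker, ?_, fun t ht => ?_, fun h => by rw [MonoidHom.mem_ker, hfs] at h; exact absurd h (by decide)⟩
      · rw [Subgroup.index_ker, MonoidHom.range_eq_top.2 hsurj, Subgroup.card_top, Nat.card_eq_fintype_card,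
          Fintype.card_units_int]
      · rw [MonoidHom.mem_ker]
        by_cases ht1 : t = 1
        · simp [ht1]
        · rw [hf t ht1, if_pos ((hmem t).1 ht)]
  haveI hNn : N.Normal := Subgroup.normal_of_index_eq_two hN
  refine ⟨N, hNn, Or.inl hN, ?_⟩
  -- the Sylow 2-subgroup of the stabiliser
  have hn2 : ∃ i, Fintype.card Ω = 2 * i ∧ ¬ 2 ∣ i := by
    let p : SubMulAction (S : Subgroup G) Ω :=
      { carrier := {ω | ω ≠ α ∧ ω ≠ β}
        smul_mem' := by
          rintro ⟨z, hz⟩ ω ⟨hα, hβ'⟩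
          rcases hinv z hz with ⟨h1, h2⟩ | ⟨h1, h2⟩
          · exact ⟨fun e => hα (smul_left_cancel z (e.trans h1.symm)), fun e => hβ' (smul_left_cancel z (e.trans h2.symm))⟩
          · exact ⟨fun e => hβ' (smul_left_cancel z (e.trans h2.symm)), fun e => hα (smul_left_cancel z (e.trans h1.symm))⟩ }
    have hd : Nat.card (S : Subgroup G) ∣ Nat.card p := by
      rw [Nat.card_congr (selfEquivSigmaOrbitsQuotientStabilizer (S : Subgroup G) p)]
      haveI : Fintype (Quotient (orbitRel (S : Subgroup G) p)) := Fintype.ofFinite _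
      rw [Nat.card_sigma]
      refine Finset.dvd_sum fun q _ => ?_
      rw [show stabilizer (S : Subgroup G) (Quotient.out q) = ⊥ from (Subgroup.eq_bot_iff_forall _).2 fun z hz =>
        Subtype.ext (hreg _ (Quotient.out q).2.1 (Quotient.out q).2.2 z z.2 (congrArg Subtype.val hz)),
        ← Subgroup.index_eq_card, Subgroup.index_bot]
    have h := Set.ncard_add_ncard_compl ({α, β} : Set Ω)
    rw [Set.ncard_pair hsα.symm, Nat.card_eq_fintype_card] at h
    have h' : Nat.card p = ({α, β}ᶜ : Set Ω).ncard := by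
      rw [← Nat.card_coe_set_eq]
      exact Nat.card_congr (Equiv.subtypeEquivRight fun ω => by
        show (ω ≠ α ∧ ω ≠ β) ↔ _
        simp)
    obtain ⟨j, hj⟩ := IsPGroup.iff_card.1 S.2
    have h2j : 4 ∣ Nat.card (S : Subgroup G) := by
      rcases j with _ | _ | j
      · omega
      · omega
      · rw [hj]; exact ⟨2 ^ j, by ring⟩
    have := dvd_trans h2j hd
    exact ⟨Fintype.card Ω / 2, by omega, by omega⟩
  obtain ⟨i, hi, hiodd⟩ := hn2
  set T' := T.map (S : Subgroup G).subtype with hT'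
  have hT'L : T' ≤ stabilizer G α := by rintro _ ⟨t, ht, rfl⟩; exact ht
  have hT'c : Nat.card T' = Nat.card T := Subgroup.card_map_of_injective Subtype.val_injective
  have hodd : ¬ 2 ∣ (T'.subgroupOf (stabilizer G α)).index := by
    intro h2
    apply S.not_dvd_index
    have e1 := (T'.subgroupOf (stabilizer G α)).index_mul_card
    have e2 := (stabilizer G α).index_mul_card
    have e3 := (S : Subgroup G).index_mul_card
    rw [Nat.card_congr (Subgroup.subgroupOfEquivOfLe hT'L).toEquiv, hT'c] at e1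
    rw [index_stabilizer_of_transitive, Nat.card_eq_fintype_card, hi, ← e1] at e2
    rw [hcardS, ← e2] at e3
    have e4 : (S : Subgroup G).index * (2 * Nat.card T) = i * (T'.subgroupOf (stabilizer G α)).index * (2 * Nat.card T) := by
      rw [e3]; ring
    have := Nat.eq_of_mul_eq_mul_right (by omega) e4
    rw [this]
    exact dvd_mul_of_dvd_right h2 i
  have hLN : stabilizer G α ≤ N := by
    intro g hg
    have hsub : T'.subgroupOf (stabilizer G α) ≤ N.subgroupOf (stabilizer G α) := by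
      rintro x ⟨t, ht, e⟩
      show (x : G) ∈ N
      rw [show (x : G) = t from e.symm]
      exact hTN t ht
    have h1 : (N.subgroupOf (stabilizer G α)).index = 1 := by
      have hd1 := Subgroup.index_dvd_of_le hsub
      have hd2 : (N.subgroupOf (stabilizer G α)).index ∣ 2 := hN ▸ Subgroup.relIndex_dvd_index_of_normal N (stabilizer G α)
      rcases (Nat.dvd_prime Nat.prime_two).1 hd2 with h | h
      · exact h
      · exact absurd (h ▸ hd1) hodd
    exact (Subgroup.index_eq_one.1 h1 ▸ Subgroup.mem_top _ : (⟨g, hg⟩ : stabilizer G α) ∈ N.subgroupOf (stabilizer G α))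
  obtain ⟨z, hz⟩ := exists_prime_orderOf_dvd_card' 2 (show 2 ∣ Nat.card T by
    obtain ⟨j, hj⟩ := IsPGroup.iff_card.1 (S.2.to_subgroup T)
    rcases j with _ | j
    · rw [pow_zero] at hj; omega
    · exact hj ▸ dvd_pow_self 2 (by omega))
  have hzo : orderOf ((z : (S : Subgroup G)) : G) = 2 := by rw [Subgroup.orderOf_coe, Subgroup.orderOf_coe, hz]
  refine frobenius hfix N α β hsα.symm hLN (fun n hn e => hsN ?_) (fun g hg _ => ⟨_, (hmem _).1 z.2, hTfixes _ z.2, hzo⟩)
    ((z : (S : Subgroup G)) : G) ((hmem _).1 z.2) (hTfixes _ z.2) hzo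
  have h1 : s⁻¹ * n ∈ stabilizer G α := by
    rw [mem_stabilizer_iff, mul_smul, inv_smul_eq_iff, e]
  have := N.mul_mem hn (N.inv_mem (hLN h1))
  simpa using this

theorem main [MulAction.IsPretransitive G Ω] (α : Ω) (S : Sylow 2 G)
    (hbot : (S : Subgroup G) ⊓ stabilizer G α ≠ ⊥) (htop : ¬ (S : Subgroup G) ≤ stabilizer G α) :
    (((∃ n : ℕ, Nonempty (↥(S : Subgroup G) ≃* DihedralGroup n)) ∨ Cfsg.IsQuasiDihedral ↥(S : Subgroup G)) ∧
       (Nat.card ↥((S : Subgroup G) ⊓ MulAction.stabilizer G α) = 2 ∨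
        ((S : Subgroup G) ⊓ MulAction.stabilizer G α).relIndex (S : Subgroup G) = 2)) ∨
    (4 ≤ Nat.card (S : Subgroup G) ∧
       (∃ ω : Ω, Nat.card (MulAction.orbit ↥(S : Subgroup G) ω) = 2 ∧
          ∀ ω' : Ω, ω' ∉ MulAction.orbit ↥(S : Subgroup G) ω → Nat.card (MulAction.orbit ↥(S : Subgroup G) ω') = Nat.card (S : Subgroup G)) ∧
       ∃ N : Subgroup G, N.Normal ∧ (N.index = 2 ∨ N.index = Nat.card (S : Subgroup G)) ∧ (∃ H : Subgroup ↥N, Cfsg.IsFrobeniusComplement H)) := by
  classical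
  haveI : Fact (Nat.Prime 2) := ⟨Nat.prime_two⟩
  obtain ⟨s, hsS, hsα, hTfix, hcases⟩ := basic hfix S α hbot htop
  set β := s • α with hβ
  have hrel : ((S : Subgroup G) ⊓ stabilizer G α).relIndex (S : Subgroup G) = ((stabilizer G α).subgroupOf (S : Subgroup G)).index := by
    rw [inf_comm, Subgroup.inf_relIndex_right]; rfl
  have hTne : 2 ≤ Nat.card ↥((S : Subgroup G) ⊓ stabilizer G α) := (Subgroup.one_lt_card_iff_ne_bot _).2 hbot
  have hcardT : Nat.card ↥((S : Subgroup G) ⊓ stabilizer G α) = Nat.card ((stabilizer G α).subgroupOf (S : Subgroup G)) := by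
    rw [← Nat.card_congr (Subgroup.subgroupOfEquivOfLe
      (inf_le_left : (S : Subgroup G) ⊓ stabilizer G α ≤ (S : Subgroup G))).toEquiv, Subgroup.inf_subgroupOf_left]
  have hklein : Nat.card (S : Subgroup G) = 4 → ¬ IsCyclic (S : Subgroup G) →
      ∃ n : ℕ, Nonempty (↥(S : Subgroup G) ≃* DihedralGroup n) := by
    intro h hnc
    haveI : IsKleinFour (S : Subgroup G) := ⟨h, exponent_two_of hfix h hnc⟩
    haveI : Fintype (S : Subgroup G) := Fintype.ofFinite _
    obtain ⟨e, he⟩ : ∃ e : (S : Subgroup G) ≃ DihedralGroup 2, e 1 = 1 := by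
      let e₀ := Fintype.equivOfCardEq (show Fintype.card (S : Subgroup G) = Fintype.card (DihedralGroup 2) by
        rw [← Nat.card_eq_fintype_card, h, DihedralGroup.card])
      exact ⟨e₀.trans (Equiv.swap (e₀ 1) 1), by simp⟩
    exact ⟨2, ⟨IsKleinFour.mulEquiv' e he IsKleinFour.exponent_two⟩⟩
  rcases hcases with hidx | ⟨hT2, hS'⟩
  swap
  · rcases hS' with h | h | h
    · exact Or.inl ⟨Or.inl h, Or.inl hT2⟩
    · exact Or.inl ⟨Or.inr h, Or.inl hT2⟩
    · by_cases hcyc : IsCyclic (S : Subgroup G)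
      swap
      · exact Or.inl ⟨Or.inl (hklein h hcyc), Or.inl hT2⟩
      exact rest hfix α S hsS hsα hTfix (by
        have e := ((stabilizer G α).subgroupOf (S : Subgroup G)).index_mul_card
        rw [← hcardT, hT2, h] at e
        omega)
  by_cases hDS : (∃ n : ℕ, Nonempty (↥(S : Subgroup G) ≃* DihedralGroup n)) ∨ Cfsg.IsQuasiDihedral ↥(S : Subgroup G)
  · exact Or.inl ⟨hDS, Or.inr (hrel.trans hidx)⟩
  exact rest hfix α S hsS hsα hTfix hidx

end Aux

/-- Let G be a finite group acting faithfully and transitively on a finite set Ω with fixity 2 (every non-identity element fixes at most two points, and some fixes exactly two). Let α ∈ Ω and S a Sylow 2-subgroup of G. Then one of the following holds: the stabilizer S_α of α in S is trivial; S is dihedral or semidihedral and either |S_α| = 2 or |S : S_α| = 2; |S| ≥ 4, S has exactly one orbit of size 2 on Ω, every other S-orbit is regular, and G has a normal subgroup of index 2 or of index |S| which is a Frobenius group;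 or S ≤ G_α. -/
theorem result {G : Type*} [Group G] [Finite G] {Ω : Type*} [Fintype Ω] [MulAction G Ω] [FaithfulSMul G Ω] (htr : MulAction.IsPretransitive G Ω)
    (hfix : ∀ g : G, g ≠ 1 → Nat.card (MulAction.fixedBy Ω g) ≤ 2) (hex : ∃ g : G, g ≠ 1 ∧ Nat.card (MulAction.fixedBy Ω g) = 2) (α : Ω) (S : Sylow 2 G) :
    (S : Subgroup G) ⊓ MulAction.stabilizer G α = ⊥ ∨
    (((∃ n : ℕ, Nonempty (↥(S : Subgroup G) ≃* DihedralGroup n)) ∨ Cfsg.IsQuasiDihedral ↥(S : Subgroup G)) ∧
       (Nat.card ↥((S : Subgroup G) ⊓ MulAction.stabilizer G α) = 2 ∨ ((S : Subgroup G) ⊓ MulAction.stabilizer G α).relIndex (S : Subgroup G) = 2)) ∨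
    (4 ≤ Nat.card (S : Subgroup G) ∧
       (∃ ω : Ω, Nat.card (MulAction.orbit ↥(S : Subgroup G) ω) = 2 ∧
          ∀ ω' : Ω, ω' ∉ MulAction.orbit ↥(S : Subgroup G) ω → Nat.card (MulAction.orbit ↥(S : Subgroup G) ω') = Nat.card (S : Subgroup G)) ∧
       ∃ N : Subgroup G, N.Normal ∧ (N.index = 2 ∨ N.index = Nat.card (S : Subgroup G)) ∧ (∃ H : Subgroup ↥N, Cfsg.IsFrobeniusComplement H)) ∨
    (S : Subgroup G) ≤ MulAction.stabilizer G α := by
  classical
  haveI := htr
  by_cases hbot : (S : Subgroup G) ⊓ MulAction.stabilizer G α = ⊥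
  · exact Or.inl hbot
  by_cases htop : (S : Subgroup G) ≤ MulAction.stabilizer G α
  · exact Or.inr (Or.inr (Or.inr htop))
  right
  rcases main hfix α S hbot htop with h | h
  · exact Or.inl h
  · exact Or.inr (Or.inl h)

end Cfsg.Agent.S3390
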