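import Cfsg.Statements.S3391
import Cfsg.Agent.Lib.Suzuki.Fixity
import Cfsg.Agent.Lib.Suzuki.LieIso

set_option autoImplicit false
open Cfsg

namespace Cfsg.Agent.S3391

/-- Let q = 2^{2m+1} ≥ 8 and let G be isomorphic to the Suzuki group Sz(q). If G acts faithfully and transitively on a finite set Ω with fixity 2 (every non-identity element fixes at most two points, and some fixes exactly two), then either |Ω| = q² + 1 and the action is 2-transitive, or |Ω| = q²(q² + 1) and the point stabilizers have order q − 1. -/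
theorem result {G : Type*} [Group G] [Finite G] (F : Type) [Field F] [Fintype F] (m : ℕ) (hm : 1 ≤ m) (hF : Fintype.card F = 2 ^ (2 * m + 1))
    (e : G ≃* ↥(Cfsg.Lie.Sz F (2 ^ (m + 1)))) {Ω : Type*} [Fintype Ω] [MulAction G Ω] [FaithfulSMul G Ω] (htr : MulAction.IsPretransitive G Ω)
    (hfix : ∀ g : G, g ≠ 1 → Nat.card (MulAction.fixedBy Ω g) ≤ 2) (hex : ∃ g : G, g ≠ 1 ∧ Nat.card (MulAction.fixedBy Ω g) = 2) :
    (Fintype.card Ω = Fintype.card F ^ 2 + 1 ∧ MulAction.IsMultiplyPretransitive G Ω 2) ∨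
    (Fintype.card Ω = Fintype.card F ^ 2 * (Fintype.card F ^ 2 + 1) ∧ ∀ α : Ω, Nat.card (MulAction.stabilizer G α) = Fintype.card F - 1) := by
  open Cfsg.Agent.Suzuki in
  classical
  obtain ⟨D⟩ := exists_dat (F := F) hm hF
  let f : Cfsg.Sz F m ≃* G := (lieEquiv D hF).trans e.symm
  letI : MulAction (Cfsg.Sz F m) Ω := MulAction.compHom Ω f.toMonoidHom
  have hsm : ∀ (x : Cfsg.Sz F m) (ω : Ω), x • ω = f x • ω := fun x ω => rfl
  haveI : MulAction.IsPretransitive (Cfsg.Sz F m) Ω := ⟨fun a b => by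
    obtain ⟨g, hg⟩ := htr.exists_smul_eq a b
    exact ⟨f.symm g, by rw [hsm, f.apply_symm_apply, hg]⟩⟩
  have hfix' : ∀ x : Cfsg.Sz F m, x ≠ 1 → Nat.card (MulAction.fixedBy Ω x) ≤ 2 := fun x hx => by
    have h1 := hfix (f x) fun e => hx (f.map_eq_one_iff.1 e)
    exact h1
  obtain ⟨g₀, hg₀, hg₀c⟩ := hex
  obtain ⟨⟨α, hα⟩, ⟨α', hα'⟩, hne'⟩ : ∃ a b : MulAction.fixedBy Ω g₀, a ≠ b := by
    haveI : Nontrivial (MulAction.fixedBy Ω g₀) := Finite.one_lt_card_iff_nontrivial.1 (by rw [hg₀c]; norm_num)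
    exact exists_pair_ne _
  have hbot : MulAction.stabilizer (Cfsg.Sz F m) α ≠ ⊥ := by
    intro h
    have h1 : f.symm g₀ ∈ MulAction.stabilizer (Cfsg.Sz F m) α := by
      rw [MulAction.mem_stabilizer_iff, hsm, f.apply_symm_apply]; exact hα
    rw [h, Subgroup.mem_bot] at h1
    exact hg₀ (f.symm.map_eq_one_iff.1 h1)
  have htop : MulAction.stabilizer (Cfsg.Sz F m) α ≠ ⊤ := by
    intro h
    apply hne'
    apply Subtype.ext
    obtain ⟨x, hx⟩ := MulAction.exists_smul_eq (Cfsg.Sz F m) α α'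
    show α = α'
    exact (MulAction.mem_stabilizer_iff.1 (h ▸ Subgroup.mem_top x)).symm.trans hx
  have hstab : ∀ ω : Ω, Nat.card (MulAction.stabilizer G ω) = Nat.card (MulAction.stabilizer (Cfsg.Sz F m) ω) :=
    fun ω => (Nat.card_congr (f.toEquiv.subtypeEquiv fun x => Iff.rfl)).symm
  have horb : ∀ ω : Ω, Fintype.card Ω * Nat.card (MulAction.stabilizer (Cfsg.Sz F m) ω) =
      Fintype.card F ^ 2 * (Fintype.card F ^ 2 + 1) * (Fintype.card F - 1) := by
    intro ω
    rw [← card_sz D hF, ← Nat.card_eq_fintype_card, ← MulAction.index_stabilizer_of_transitive (Cfsg.Sz F m) ω,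
      Subgroup.index_mul_card]
  have hq : 1 < Fintype.card F := Fintype.one_lt_card
  rcases stab_cases D hF hfix' α htop hbot with ⟨β, hβ⟩ | hc
  · left
    refine ⟨?_, ?_⟩
    · have h1 := horb β
      rw [hβ, card_stab D hF] at h1
      refine Nat.eq_of_mul_eq_mul_right (Nat.mul_pos (by positivity) (by omega : 0 < Fintype.card F - 1)) (h1.trans ?_)
      ring
    · rw [MulAction.is_two_pretransitive_iff]
      have hψ : ∀ ω : Ω, ∃ x : Cfsg.Sz F m, x • β = ω := fun ω => MulAction.exists_smul_eq _ β ω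
      choose r hr using hψ
      intro a b c d hab hcd
      have hne : ∀ a b : Ω, a ≠ b → r a • oI D ≠ r b • oI D := by
        intro a b h h'
        apply h
        have h1 : (r a)⁻¹ * r b ∈ MulAction.stabilizer (Cfsg.Sz F m) (oI D) := by
          rw [MulAction.mem_stabilizer_iff, mul_smul, ← h', inv_smul_smul]
        rw [← hβ, MulAction.mem_stabilizer_iff, mul_smul, hr, inv_smul_eq_iff] at h1
        exact (h1.trans (hr a)).symm
      obtain ⟨x, hxa, hxb⟩ := MulAction.is_two_pretransitive_iff.1 (two_transitive D) (hne a b hab) (hne c d hcd)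
      have hmove : ∀ a c : Ω, x • (r a • oI D) = r c • oI D → f x • a = c := by
        intro a c h
        have h1 : (r c)⁻¹ * (x * r a) ∈ MulAction.stabilizer (Cfsg.Sz F m) (oI D) := by
          rw [MulAction.mem_stabilizer_iff, mul_smul, mul_smul, h, inv_smul_smul]
        rw [← hβ, MulAction.mem_stabilizer_iff, mul_smul, mul_smul, hr, inv_smul_eq_iff, hr] at h1
        exact h1
      exact ⟨f x, hmove a c hxa, hmove b d hxb⟩
  · right
    have hall : ∀ ω : Ω, Nat.card (MulAction.stabilizer (Cfsg.Sz F m) ω) = Fintype.card F - 1 := by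
      intro ω
      refine Nat.eq_of_mul_eq_mul_left (Fintype.card_pos_iff.2 ⟨α⟩) ?_
      rw [horb]
      exact ((horb α).symm.trans (by rw [hc]))
    refine ⟨?_, fun ω => by rw [hstab, hall]⟩
    exact Nat.eq_of_mul_eq_mul_right (by omega : 0 < Fintype.card F - 1) (hall α ▸ horb α)

end Cfsg.Agent.S3391
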