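import Cfsg.Statements.S3401
import Cfsg.Agent.Lib.Recog.TwoModFour

set_option autoImplicit false
open Cfsg

namespace Cfsg.Agent.S3401

/-- Let G be a doubly transitive permutation group on a finite set Ω with |Ω| ≡ 2 mod 4 and |Ω| > 2. Then G has a unique minimal normal subgroup M (a nontrivial normal subgroup contained in every nontrivial normal subgroup); M is simple and doubly transitive on Ω, and its centralizer in G is trivial (so G embeds in Aut(M)). -/
theorem result {G : Type*} [Group G] [Finite G] {Ω : Type*} [Fintype Ω] [MulAction G Ω] [FaithfulSMul G Ω]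
    (h2 : MulAction.IsMultiplyPretransitive G Ω 2) (hn : Fintype.card Ω % 4 = 2) (hn2 : 2 < Fintype.card Ω) :
    ∃ M : Subgroup G, M.Normal ∧ M ≠ ⊥ ∧ (∀ N : Subgroup G, N.Normal → N ≠ ⊥ → M ≤ N) ∧
      IsSimpleGroup ↥M ∧ MulAction.IsMultiplyPretransitive ↥M Ω 2 ∧ Subgroup.centralizer (M : Set G) = ⊥ := by
  classical
  have hn' : Nat.card Ω % 4 = 2 := by rwa [Nat.card_eq_fintype_card]
  have hn2' : 2 < Nat.card Ω := by rwa [Nat.card_eq_fintype_card]
  have hprim : MulAction.IsPreprimitive G Ω := MulAction.isPreprimitive_of_is_two_pretransitive h2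
  have : Nontrivial G := Recog.nontrivial_of_two_le (Ω := Ω) (by omega)
  obtain ⟨M, hM⟩ := Recog.exists_isMinNormal (G := G)
  obtain ⟨hnc, hC, hM2⟩ := Recog.minNormal_of_two_mod_four h2 hn' hn2' hM
  refine ⟨M, hM.normal, hM.ne_bot, ?_, ?_, hM2, hC⟩
  · -- uniqueness
    intro L hL hL1
    obtain ⟨K, hK, hKL⟩ := Recog.exists_isMinNormal_le hL hL1
    by_cases he : K = M
    · exact he ▸ hKL
    · exfalso
      have hdis : Disjoint M K := by
        rw [disjoint_iff]
        have := hM.normal
        have := hK.normal
        rcases hM.minimal (M ⊓ K) inferInstance inf_le_left with h | h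
        · exact h
        · exact absurd ((hK.minimal M hM.normal (inf_eq_left.1 h)).resolve_left hM.ne_bot).symm he
      have hle : K ≤ Subgroup.centralizer (M : Set G) := fun k hk =>
        Subgroup.mem_centralizer_iff.2 fun m hm =>
          (Subgroup.commute_of_normal_of_disjoint M K hM.normal hK.normal hdis m k hm hk).eq
      rw [hC] at hle
      exact hK.ne_bot (eq_bot_iff.2 hle)
  · -- simplicity: apply the same result to the action of `M`
    have : FaithfulSMul M Ω :=
      ⟨fun {x y} h => Subtype.ext (FaithfulSMul.eq_of_smul_eq_smul (α := Ω) h)⟩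
    have : Nontrivial M := (Subgroup.nontrivial_iff_ne_bot M).2 hM.ne_bot
    refine ⟨fun L hL => ?_⟩
    by_cases hLb : L = ⊥
    · exact Or.inl hLb
    right
    obtain ⟨K, hK, hKL⟩ := Recog.exists_isMinNormal_le hL hLb
    obtain ⟨-, hCK, -⟩ := Recog.minNormal_of_two_mod_four hM2 hn' hn2' hK
    -- every minimal normal subgroup of `M` equals `K`
    have huniq : ∀ K' : Subgroup M, Recog.IsMinNormal K' → K' = K := by
      intro K' hK'
      by_contra he
      have hdis : Disjoint K K' := by
        rw [disjoint_iff]
        have := hK.normal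
        have := hK'.normal
        rcases hK.minimal (K ⊓ K') inferInstance inf_le_left with h | h
        · exact h
        · exact absurd ((hK'.minimal K hK.normal (inf_eq_left.1 h)).resolve_left hK.ne_bot).symm he
      have hle : K' ≤ Subgroup.centralizer (K : Set M) := fun k hk =>
        Subgroup.mem_centralizer_iff.2 fun m hm =>
          (Subgroup.commute_of_normal_of_disjoint K K' hK.normal hK'.normal hdis m k hm hk).eq
      rw [hCK] at hle
      exact hK'.ne_bot (eq_bot_iff.2 hle)
    have hMn := hM.normal
    have hchar : ∀ g : G, K.map (MulAut.conjNormal g : MulAut M).toMonoidHom = K := by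
      intro g
      set e : MulAut M := MulAut.conjNormal g
      apply huniq
      refine ⟨hK.normal.map _ e.surjective, ?_, ?_⟩
      · intro h
        exact hK.ne_bot ((Subgroup.map_eq_bot_iff_of_injective _ e.injective).1 h)
      · intro J hJ hJle
        rcases hK.minimal (J.comap e.toMonoidHom) inferInstance (by
          intro x hx
          obtain ⟨y, hy, hyx⟩ := hJle hx
          exact (e.injective hyx) ▸ hy) with h | h
        · left
          exact ((congrArg (Subgroup.map e.toMonoidHom) h).symm.trans
            (Subgroup.map_comap_eq_self_of_surjective e.surjective J)).symm.trans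
            (Subgroup.map_bot _)
        · right
          exact ((congrArg (Subgroup.map e.toMonoidHom) h).symm.trans
            (Subgroup.map_comap_eq_self_of_surjective e.surjective J)).symm
    have hKG : (K.map M.subtype).Normal := by
      refine ⟨?_⟩
      rintro _ ⟨k, hk, rfl⟩ g
      refine ⟨MulAut.conjNormal g k, ?_, by simp [MulAut.conjNormal_apply]⟩
      have := hchar g
      rw [← this]
      exact ⟨k, hk, rfl⟩
    rcases hM.minimal _ hKG (Subgroup.map_subtype_le K) with h | h
    · exact absurd ((Subgroup.map_eq_bot_iff_of_injective _ M.subtype_injective).1 h) hK.ne_bot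
    · rw [eq_top_iff]
      rintro x -
      obtain ⟨y, hy, hyx⟩ := (h.symm.le x.2 : (x : G) ∈ K.map M.subtype)
      exact hKL ((Subtype.ext hyx : y = x) ▸ hy)

end Cfsg.Agent.S3401
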