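import Cfsg.Statements.S3412
import Cfsg.Agent.Lib.FGB.L33Recognize
import Cfsg.Agent.Lib.LinearGroups.PSL

set_option autoImplicit false
open Cfsg

namespace Cfsg.Agent.S3412

/-- Let H be a finite group whose commuting graph (vertices the non-identity elements, two joined when they commute) is isomorphic to that of PSL_3(3): there is a bijection between the non-identity elements of H and of PSL_3(3) under which two elements commute exactly when their images do. Then H ≅ PSL_3(3). -/
theorem result {H : Type*} [Group H] [Finite H]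
    (f : {h : H // h ≠ 1} ≃ {g : Matrix.ProjectiveSpecialLinearGroup (Fin 3) (ZMod 3) // g ≠ 1})
    (hf : ∀ x y : {h : H // h ≠ 1}, (x : H) * y = y * x ↔ ((f x) : Matrix.ProjectiveSpecialLinearGroup (Fin 3) (ZMod 3)) * (f y) = (f y) * (f x)) :
    Nonempty (H ≃* Matrix.ProjectiveSpecialLinearGroup (Fin 3) (ZMod 3)) := by
  classical
  have hp : IsSimpleGroup (Matrix.ProjectiveSpecialLinearGroup (Fin 3) (ZMod 3)) := LinGrp.isSimpleGroup_PSL (by simp)
  have hinj : Function.Injective (QuotientGroup.mk' (Subgroup.center Cfsg.Agent.FGB.L33.SL3)) := by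
    rw [← MonoidHom.ker_eq_bot_iff, QuotientGroup.ker_mk', Cfsg.Agent.FGB.L33.center_eq_bot]
  let E : Cfsg.Agent.FGB.L33.SL3 ≃* Matrix.ProjectiveSpecialLinearGroup (Fin 3) (ZMod 3) :=
    MulEquiv.ofBijective _ ⟨hinj, QuotientGroup.mk'_surjective _⟩
  let g₀ : H ≃ Matrix.ProjectiveSpecialLinearGroup (Fin 3) (ZMod 3) :=
    (Equiv.optionSubtypeNe (1 : H)).symm.trans (f.optionCongr.trans (Equiv.optionSubtypeNe 1))
  have hg1 : g₀ 1 = 1 := by simp [g₀]
  have hgy : ∀ y : {h : H // h ≠ 1}, g₀ (y : H) = (f y : Matrix.ProjectiveSpecialLinearGroup (Fin 3) (ZMod 3)) := fun y => by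
    simp [g₀, Equiv.optionSubtypeNe_symm_of_ne y.2]
  have hgc : ∀ x y : H, Commute (g₀ x) (g₀ y) ↔ Commute x y := by
    intro x y
    by_cases hx : x = 1
    · subst hx; rw [hg1]; exact iff_of_true (Commute.one_left _) (Commute.one_left _)
    by_cases hy : y = 1
    · subst hy; rw [hg1]; exact iff_of_true (Commute.one_right _) (Commute.one_right _)
    rw [hgy ⟨x, hx⟩, hgy ⟨y, hy⟩]
    exact (hf ⟨x, hx⟩ ⟨y, hy⟩).symm
  obtain ⟨e⟩ := Cfsg.Agent.FGB.L33.recognize (Cfsg.Agent.FGB.L33.isSimple hp) (g₀.trans E.symm.toEquiv)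
    (by show E.symm (g₀ 1) = 1; rw [hg1, map_one])
    (fun x y => by
      rw [← hgc x y]
      exact commute_map_iff E.symm.injective)
  exact ⟨e.trans E⟩

end Cfsg.Agent.S3412
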