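import Cfsg.Statements.S3413
import Cfsg.Agent.Lib.FGB.M11Nse
import Cfsg.Agent.S0420
import Cfsg.Agent.Lib.Golay.Conj
import Cfsg.Agent.Lib.Golay.Mathieu

set_option autoImplicit false
open Cfsg

namespace Cfsg.Agent.S3413

/-- Let H be a finite group whose commuting graph (vertices the non-identity elements, two joined when they commute) is isomorphic to that of the Mathieu group M_11: there is a bijection between the non-identity elements of H and of M_11 under which two elements commute exactly when their images do. Then H ≅ M_11. -/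
theorem result {H : Type*} [Group H] [Finite H]
    (f : {h : H // h ≠ 1} ≃ {g : ↥Cfsg.Spor.M11 // g ≠ 1})
    (hf : ∀ x y : {h : H // h ≠ 1}, (x : H) * y = y * x ↔ ((f x) : ↥Cfsg.Spor.M11) * (f y) = (f y) * (f x)) :
    Nonempty (H ≃* ↥Cfsg.Spor.M11) := by
  classical
  haveI : IsSimpleGroup Cfsg.Spor.M11 := Cfsg.Agent.Golay24.M11_simple
  have hM := Cfsg.Agent.Golay24.card_M11
  haveI : Fintype H := Fintype.ofFinite H
  haveI : Fintype Cfsg.Spor.M11 := Fintype.ofFinite _
  have hG : Nat.card H = 7920 := by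
    rw [← hM, Nat.card_congr (Equiv.optionSubtypeNe (1 : H)).symm,
      Nat.card_congr (Equiv.optionSubtypeNe (1 : ↥Cfsg.Spor.M11)).symm]
    exact Nat.card_congr f.optionCongr
  -- the two centralisers of corresponding elements have the same order
  have hC : ∀ x : {h : H // h ≠ 1}, Nat.card (Subgroup.centralizer ({(x : H)} : Set H)) =
      Nat.card (Subgroup.centralizer ({((f x : ↥Cfsg.Spor.M11))} : Set ↥Cfsg.Spor.M11)) := by
    intro x
    have e1 : ∀ y : {h : H // h ≠ 1}, ((y : H) ∈ Subgroup.centralizer ({(x : H)} : Set H) ↔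
        ((f y : ↥Cfsg.Spor.M11)) ∈ Subgroup.centralizer ({((f x : ↥Cfsg.Spor.M11))} : Set ↥Cfsg.Spor.M11)) := fun y => by
      rw [Subgroup.mem_centralizer_singleton_iff, Subgroup.mem_centralizer_singleton_iff]
      exact hf y x
    set g : H ≃ ↥Cfsg.Spor.M11 := (Equiv.optionSubtypeNe (1 : H)).symm.trans
      (f.optionCongr.trans (Equiv.optionSubtypeNe (1 : ↥Cfsg.Spor.M11))) with hg
    have hg1 : g 1 = 1 := by simp [hg]
    have hgy : ∀ y : {h : H // h ≠ 1}, g (y : H) = (f y : ↥Cfsg.Spor.M11) := fun y => by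
      simp [hg, Equiv.optionSubtypeNe_symm_of_ne y.2]
    refine Nat.card_congr (g.subtypeEquiv fun h => ?_)
    by_cases hh : h = 1
    · subst hh
      rw [hg1]
      exact iff_of_true (Subgroup.one_mem _) (Subgroup.one_mem _)
    · rw [hgy ⟨h, hh⟩]
      exact e1 ⟨h, hh⟩
  haveI : IsSimpleGroup H := by
    haveI : Fact (Nat.Prime 11) := ⟨by norm_num⟩
    refine Cfsg.Agent.PermGp.Order7920.simple_of_graph hG (A := {11}) ⟨11, rfl, by norm_num, by rw [hG]; norm_num⟩
      ⟨5, by simp, by norm_num, by rw [hG]; norm_num⟩ (Cfsg.Agent.PermGp.Order7920.sides_of_graph ?_)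
    intro a ha b hb _ hbp _ _
    obtain rfl : a = 11 := ha
    rintro ⟨z, hz⟩
    have hb11 : b ≠ 11 := hb
    have hz1 : z ≠ 1 := fun h => by
      rw [h, orderOf_one] at hz
      have := Nat.eq_one_of_mul_eq_one_right hz.symm
      omega
    have hdiv : 11 * b ∣ Nat.card (Subgroup.centralizer ({z} : Set H)) :=
      hz ▸ Subgroup.orderOf_dvd_natCard _ (Subgroup.mem_centralizer_singleton_iff.2 rfl)
    rw [hC ⟨z, hz1⟩] at hdiv
    set m := (f ⟨z, hz1⟩ : ↥Cfsg.Spor.M11) with hm
    obtain ⟨a, ha⟩ := exists_prime_orderOf_dvd_card' (G := Subgroup.centralizer ({m} : Set ↥Cfsg.Spor.M11)) 11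
      ((dvd_mul_right _ _).trans hdiv)
    obtain ⟨c, hc⟩ := (exists_prime_orderOf_dvd_card' (G := Subgroup.centralizer ({m} : Set ↥Cfsg.Spor.M11)) b
      (hp := ⟨hbp⟩) ((dvd_mul_left _ _).trans hdiv))
    have hao : orderOf (a : ↥Cfsg.Spor.M11) = 11 := by rw [Subgroup.orderOf_coe, ha]
    have hm1 : m ≠ 1 := (f ⟨z, hz1⟩).2
    have ham : Commute (a : ↥Cfsg.Spor.M11) m := Subgroup.mem_centralizer_singleton_iff.1 a.2
    have hmo : orderOf m = 11 := ((Nat.dvd_prime (by norm_num)).1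
      (Cfsg.Agent.FGB.M11.no_eleven hM hao ham)).resolve_left fun h => hm1 (orderOf_eq_one_iff.1 h)
    have hd := Cfsg.Agent.FGB.M11.no_eleven hM hmo (Subgroup.mem_centralizer_singleton_iff.1 c.2 : Commute (c : ↥Cfsg.Spor.M11) m).symm
    rw [Subgroup.orderOf_coe, hc] at hd
    exact hb11 ((Nat.prime_dvd_prime_iff_eq hbp (by norm_num)).1 hd)
  obtain ⟨e⟩ := Cfsg.Agent.S0420.result (G := H) ⟨inferInstance, hG⟩ _ Cfsg.Agent.Golay24.sqDod_mem (some 0) (by decide +kernel)
  obtain ⟨φ⟩ := Cfsg.Agent.Golay24.stab_dodecad_point_equiv _ Cfsg.Agent.Golay24.sqDod_mem (some 0) (by decide +kernel)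
  exact ⟨e.trans φ⟩

end Cfsg.Agent.S3413
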