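import Cfsg.Statements.S3430
import Cfsg.Agent.Lib.Recog.LargePPD

set_option autoImplicit false
open Cfsg

namespace Cfsg.Agent.S3430

/-- Let q, n ≥ 2 be integers. Unless (n = 2 and q + 1 = 2^s·3^t for some s ≥ 0 and t ≤ 1), or (q = 2 and n ∈ {4, 6, 10, 12, 18}), or (q = 3 and n ∈ {4, 6}), or (q, n) = (5, 6), there is a prime p dividing q^n − 1 but no q^i − 1 with 1 ≤ i < n (a primitive prime divisor), such that p > n + 1 or p² divides q^n − 1. -/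
theorem result (q n : ℕ) (hq : 2 ≤ q) (hn : 2 ≤ n)
    (h1 : ¬ (n = 2 ∧ ∃ s t : ℕ, t ≤ 1 ∧ q + 1 = 2 ^ s * 3 ^ t))
    (h2 : ¬ (q = 2 ∧ (n = 4 ∨ n = 6 ∨ n = 10 ∨ n = 12 ∨ n = 18)))
    (h3 : ¬ (q = 3 ∧ (n = 4 ∨ n = 6))) (h4 : ¬ (q = 5 ∧ n = 6)) :
    ∃ p : ℕ, p.Prime ∧ p ∣ q ^ n - 1 ∧ (∀ i : ℕ, 1 ≤ i → i < n → ¬ p ∣ q ^ i - 1) ∧ (n + 1 < p ∨ p ^ 2 ∣ q ^ n - 1) := by
  rcases Nat.lt_or_ge n 3 with hn3 | hn3
  · obtain rfl : n = 2 := by omega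
    by_contra hno
    apply h1
    refine ⟨rfl, ?_⟩
    have key : ∀ r, r.Prime → r ≠ 2 → r ∣ q + 1 → r = 3 ∧ ¬ 9 ∣ q + 1 := by
      intro r hr hr2 hrd
      have hd : q + 1 ∣ q ^ 2 - 1 := ⟨q - 1, by simpa using Nat.sq_sub_sq q 1⟩
      have hprim : ∀ i : ℕ, 1 ≤ i → i < 2 → ¬ r ∣ q ^ i - 1 := by
        intro i hi hi2 h
        obtain rfl : i = 1 := by omega
        rw [pow_one] at h
        have := Nat.dvd_sub hrd h
        rw [show q + 1 - (q - 1) = 2 by omega] at this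
        exact hr2 ((Nat.prime_dvd_prime_iff_eq hr Nat.prime_two).1 this)
      have hle : ¬ 2 + 1 < r := fun h => hno ⟨r, hr, hrd.trans hd, hprim, Or.inl h⟩
      have h3 : r = 3 := by have := hr.two_le; omega
      subst h3
      exact ⟨rfl, fun h9 => hno ⟨3, hr, hrd.trans hd, hprim, Or.inr (by
        rw [show 3 ^ 2 = 9 by norm_num]; exact h9.trans hd)⟩⟩
    obtain ⟨s, m, hm, hsm⟩ := Nat.exists_eq_pow_mul_and_not_dvd (show q + 1 ≠ 0 by omega) 2 (by norm_num)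
    have hmd : ∀ r, r.Prime → r ∣ m → r = 3 ∧ ¬ 9 ∣ q + 1 := fun r hr hrm =>
      key r hr (fun e => hm (e ▸ hrm)) (hsm ▸ dvd_mul_of_dvd_right hrm _)
    by_cases hm1 : m = 1
    · exact ⟨s, 0, by omega, by rw [hsm, hm1]; simp⟩
    obtain ⟨r, hr, hrm⟩ := Nat.exists_prime_and_dvd hm1
    obtain ⟨rfl, h9⟩ := hmd r hr hrm
    obtain ⟨c, rfl⟩ := hrm
    have hc1 : c = 1 := by
      by_contra hc
      obtain ⟨r, hr, hrc⟩ := Nat.exists_prime_and_dvd hc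
      obtain ⟨rfl, -⟩ := hmd r hr (dvd_mul_of_dvd_right hrc 3)
      obtain ⟨d, rfl⟩ := hrc
      exact h9 (hsm ▸ dvd_mul_of_dvd_right ⟨d, by ring⟩ _)
    exact ⟨s, 1, le_rfl, by rw [hsm, hc1]; simp⟩
  · exact Recog.LargePPD.exists_witness hq hn3 h2 h3 h4

end Cfsg.Agent.S3430
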