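import Cfsg.Statements.S3431
import Cfsg.Agent.Lib.SmallSimple.OrderTypeAlt

set_option autoImplicit false
open Cfsg

namespace Cfsg.Agent.S3431

/-- Let n be 4, 5 or 6 and let G be a finite group whose set of sizes of same-order classes (the set of numbers #{g : o(g) = m} over the element orders m of G) equals that of the alternating group of degree n. Then G is isomorphic to that alternating group. -/
theorem result {G : Type*} [Group G] [Finite G] (n : ℕ) (hn : n = 4 ∨ n = 5 ∨ n = 6)
    (h : ((fun m : ℕ => Nat.card {g : G // orderOf g = m}) '' Set.range (orderOf : G → ℕ)) = ((fun m : ℕ => Nat.card {g : ↥(alternatingGroup (Fin n)) // orderOf g = m}) '' Set.range (orderOf : ↥(alternatingGroup (Fin n)) → ℕ))) :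
    Nonempty (G ≃* ↥(alternatingGroup (Fin n))) := by
  haveI : Fact (Nat.Prime 3) := ⟨Nat.prime_three⟩
  haveI : Fact (Nat.Prime 5) := ⟨by norm_num⟩
  have key : ∀ (T : List ℕ), (∀ t ∈ T, t ≠ 0) →
      ((fun m : ℕ => SmallSimple.OrderType.cnt G m) '' Set.range (orderOf : G → ℕ)) = {t | t ∈ T} →
      SmallSimple.OrderType.Counts T (Nat.card G) (SmallSimple.OrderType.cnt G) :=
    fun T hT hh => SmallSimple.OrderType.counts_of_group T hT hh
  rcases hn with rfl | rfl | rfl
  · have hc := key [1, 3, 8] (by decide) (h.trans SmallSimple.OrderType.alt_four)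
    have hb := SmallSimple.OrderType.order_bound hc (M := 48) [(2, 4), (3, 1)] (fun p hp hex => by
        have hle := SmallSimple.OrderType.prime_of_dvd [1, 3, 8] 9 (by decide) hex
        have hmem : p ∈ ([(2, 4), (3, 1)] : List (ℕ × ℕ)).map Prod.fst := by
          revert hp hex
          interval_cases p <;> decide +kernel
        obtain ⟨q, hq, rfl⟩ := List.mem_map.1 hmem
        exact ⟨q.2, hq⟩) (by decide +kernel)
    obtain ⟨hN, hv⟩ := SmallSimple.OrderType.counts_eq hc (by norm_num) ⟨by decide, by decide⟩ hb
      SmallSimple.OrderType.check_four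
    exact SmallSimple.OrderType.eq_alt_four hN (hv 3)
  · have hc := key [1, 15, 20, 24] (by decide) (h.trans SmallSimple.OrderType.alt_five)
    have hb := SmallSimple.OrderType.order_bound hc (M := 3600) [(2, 4), (3, 2), (5, 2)] (fun p hp hex => by
        have hle := SmallSimple.OrderType.prime_of_dvd [1, 15, 20, 24] 25 (by decide) hex
        have hmem : p ∈ ([(2, 4), (3, 2), (5, 2)] : List (ℕ × ℕ)).map Prod.fst := by
          revert hp hex
          interval_cases p <;> decide +kernel
        obtain ⟨q, hq, rfl⟩ := List.mem_map.1 hmem
        exact ⟨q.2, hq⟩) (by decide +kernel)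
    obtain ⟨hN, hv⟩ := SmallSimple.OrderType.counts_eq hc (by norm_num) ⟨by decide, by decide⟩ hb
      SmallSimple.OrderType.check_five
    have hN60 : Nat.card G = 60 := hN
    have hno : ∀ m, 1 < m → SmallSimple.OrderType.cnt G (5 * m) = 0 := fun m hm => by
      rw [hv]
      simp [List.find?, show (5 == 5 * m) = false by simp; omega, show (3 == 5 * m) = false by simp; omega,
        show (2 == 5 * m) = false by simp; omega, show (1 == 5 * m) = false by simp; omega]
    have h5f : (Nat.card G).factorization 5 = 1 :=
      SmallSimple.OrderType.factorization_eq (m := 12) (by norm_num) (by rw [hN60]; rfl) (by norm_num) (by norm_num)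
    have h3f : (Nat.card G).factorization 3 = 1 :=
      SmallSimple.OrderType.factorization_eq (m := 20) (by norm_num) (by rw [hN60]; rfl) (by norm_num) (by norm_num)
    have e5 : SmallSimple.OrderType.cnt G 5 = 24 := hv 5
    have e3 : SmallSimple.OrderType.cnt G 3 = 20 := hv 3
    haveI : IsSimpleGroup G := by
      refine SmallSimple.OrderType.simple_of_five (by rw [hN60]; norm_num) hno (by rw [hN60]; norm_num) (fun N hN hd => ?_)
        (fun N hN hd hbot => ?_)
      · haveI := hN
        have m5 : ∀ g : G, orderOf g = 5 → g ∈ N := fun g hg => SmallSimple.OrderType.mem_of_normal h5f N hd (j := 1)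
          (by rw [pow_one, ← hg, pow_orderOf_eq_one])
        have h1 := SmallSimple.OrderType.counts_le N 5 m5 (by norm_num)
        have hdv := N.card_subgroup_dvd_card
        rw [hN60] at hdv
        refine Subgroup.eq_top_of_card_eq _ ?_
        rw [hN60]
        by_contra hne
        have h30 : Nat.card N = 30 := by
          revert h1 hdv hne; rw [e5]; generalize Nat.card N = k
          intro h1 hdv hne
          have := Nat.le_of_dvd (by norm_num) hdv
          interval_cases k <;> omega
        have m3 : ∀ g : G, orderOf g = 3 → g ∈ N := fun g hg => SmallSimple.OrderType.mem_of_normal h3f N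
          (by rw [h30]; norm_num) (j := 1) (by rw [pow_one, ← hg, pow_orderOf_eq_one])
        have h2 := SmallSimple.OrderType.counts_le_two N 5 3 (by norm_num) m5 m3
        omega
      · haveI := hN
        have hdv := N.card_subgroup_dvd_card
        rw [hN60] at hdv
        have h1 : Nat.card N ≠ 1 := fun e => hbot (Subgroup.eq_bot_of_card_eq _ e)
        have h3 : 3 ∣ Nat.card N → 20 < Nat.card N := fun h3 => e3 ▸ SmallSimple.OrderType.counts_le N 3
          (fun g hg => SmallSimple.OrderType.mem_of_normal h3f N h3 (j := 1) (by rw [pow_one, ← hg, pow_orderOf_eq_one]))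
          (by norm_num)
        revert hdv h1 h3 hd; generalize Nat.card N = k
        intro hd hdv h1 h3
        have := Nat.le_of_dvd (by norm_num) hdv
        interval_cases k <;> omega
    exact SmallSimple.mulEquiv_alternating_five hN60
  · have hc := key [1, 45, 80, 90, 144] (by decide) (h.trans SmallSimple.OrderType.alt_six)
    have hb := SmallSimple.OrderType.order_bound hc (M := 151200) [(2, 5), (3, 3), (5, 2), (7, 1)] (fun p hp hex => by
        have hle := SmallSimple.OrderType.prime_of_dvd [1, 45, 80, 90, 144] 145 (by decide) hex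
        have hmem : p ∈ ([(2, 5), (3, 3), (5, 2), (7, 1)] : List (ℕ × ℕ)).map Prod.fst := by
          revert hp hex
          interval_cases p <;> decide +kernel
        obtain ⟨q, hq, rfl⟩ := List.mem_map.1 hmem
        exact ⟨q.2, hq⟩) (by decide +kernel)
    obtain ⟨hN, hv⟩ := SmallSimple.OrderType.counts_eq hc (by norm_num) ⟨by decide, by decide⟩ hb
      SmallSimple.OrderType.check_six
    have hN360 : Nat.card G = 360 := hN
    have hno : ∀ m, 1 < m → SmallSimple.OrderType.cnt G (5 * m) = 0 := fun m hm => by
      rw [hv]
      simp [List.find?, show (5 == 5 * m) = false by simp; omega, show (4 == 5 * m) = false by simp; omega,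
        show (3 == 5 * m) = false by simp; omega,
        show (2 == 5 * m) = false by simp; omega, show (1 == 5 * m) = false by simp; omega]
    have h5f : (Nat.card G).factorization 5 = 1 :=
      SmallSimple.OrderType.factorization_eq (m := 72) (by norm_num) (by rw [hN360]; rfl) (by norm_num) (by norm_num)
    have h3f : (Nat.card G).factorization 3 = 2 :=
      SmallSimple.OrderType.factorization_eq (m := 40) (by norm_num) (by rw [hN360]; rfl) (by norm_num) (by norm_num)
    have e5 : SmallSimple.OrderType.cnt G 5 = 144 := hv 5
    have e3 : SmallSimple.OrderType.cnt G 3 = 80 := hv 3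
    haveI : IsSimpleGroup G := by
      refine SmallSimple.OrderType.simple_of_five (by rw [hN360]; norm_num) hno (by rw [hN360]; norm_num) (fun N hN hd => ?_)
        (fun N hN hd hbot => ?_)
      · haveI := hN
        have m5 : ∀ g : G, orderOf g = 5 → g ∈ N := fun g hg => SmallSimple.OrderType.mem_of_normal h5f N hd (j := 1)
          (by rw [pow_one, ← hg, pow_orderOf_eq_one])
        have h1 := SmallSimple.OrderType.counts_le N 5 m5 (by norm_num)
        have hdv := N.card_subgroup_dvd_card
        rw [hN360] at hdv
        refine Subgroup.eq_top_of_card_eq _ ?_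
        rw [hN360]
        by_contra hne
        have h180 : Nat.card N = 180 := by
          revert h1 hdv hne; rw [e5]; generalize Nat.card N = k
          intro h1 hdv hne
          have := Nat.le_of_dvd (by norm_num) hdv
          have key : ∀ j ∈ (360 : ℕ).divisors, 144 < j → j ≠ 360 → j = 180 := by decide +kernel
          exact key k (Nat.mem_divisors.2 ⟨hdv, by norm_num⟩) h1 hne
        have m3 : ∀ g : G, orderOf g = 3 → g ∈ N := fun g hg => SmallSimple.OrderType.mem_of_normal h3f N
          (by rw [h180]; norm_num) (j := 1) (by rw [pow_one, ← hg, pow_orderOf_eq_one])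
        have h2 := SmallSimple.OrderType.counts_le_two N 5 3 (by norm_num) m5 m3
        omega
      · haveI := hN
        have hdv := N.card_subgroup_dvd_card
        rw [hN360] at hdv
        have h1 : Nat.card N ≠ 1 := fun e => hbot (Subgroup.eq_bot_of_card_eq _ e)
        have h3 : 3 ^ 2 ∣ Nat.card N → 80 < Nat.card N := fun h3 => e3 ▸ SmallSimple.OrderType.counts_le N 3
          (fun g hg => SmallSimple.OrderType.mem_of_normal h3f N h3 (j := 1) (by rw [pow_one, ← hg, pow_orderOf_eq_one]))
          (by norm_num)
        revert hdv h1 h3 hd; generalize Nat.card N = k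
        intro hd hdv h1 h3
        have key : ∀ j ∈ (360 : ℕ).divisors, ¬ 5 ∣ j → j ≠ 1 → (9 ∣ j → 80 < j) → j ≠ 6 → ¬ 5 ∣ j - 1 := by
          decide +kernel
        exact key k (Nat.mem_divisors.2 ⟨hdv, by norm_num⟩) hd h1 h3
    exact Cfsg.Agent.S0497.result hN360

end Cfsg.Agent.S3431
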