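import Cfsg.Statements.S3437
import Cfsg.Agent.Lib.Recog.OctahedralFrobenius
import Cfsg.Agent.Lib.Recog.PSLThreeThreeSpectrum

set_option autoImplicit false
open Cfsg

namespace Cfsg.Agent.S3437

/-- There is a finite solvable group with exactly the same set of element orders as the simple group PSL(3,3). -/
theorem result {F : Type*} [Field F] [Fintype F] (hF : Fintype.card F = 3) :
    ∃ (H : Type) (_ : Group H) (_ : Fintype H), Group.IsSolvable H ∧
      Set.range (orderOf : H → ℕ) = Set.range (orderOf : Matrix.ProjectiveSpecialLinearGroup (Fin 3) F → ℕ) := by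
  exact ⟨Recog.OctahedralFrobenius.H, inferInstance, Fintype.ofFinite _, Recog.OctahedralFrobenius.H_solvable,
    Recog.OctahedralFrobenius.H_spectrum.trans (Recog.PSLThreeThreeSpectrum.psl_spectrum hF).symm⟩

end Cfsg.Agent.S3437
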