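import Cfsg.Statements.S3444
import Cfsg.Agent.Lib.Recog.Spectrum
import Cfsg.Agent.Lib.Basics.Tools

set_option autoImplicit false
open Cfsg

namespace Cfsg.Agent.S3444

/-- A finite group with a non-trivial solvable normal subgroup is not determined by its set of element orders, not even up to finitely many possibilities: for every bound N there is a finite group of order greater than N with exactly the same set of element orders. -/
theorem result {G : Type*} [Group G] [Finite G] (K : Subgroup G) [K.Normal] (hK : K ≠ ⊥)
    (hs : Group.IsSolvable K) (N : ℕ) :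
    ∃ (H : Type) (_ : Group H) (_ : Fintype H), N < Fintype.card H ∧ Set.range (orderOf : H → ℕ) = Set.range (orderOf : G → ℕ) := by
  obtain ⟨p, E, hp, hEn, -, hEne, hEab, hexp⟩ := Basics.exists_elementary_normal hK hs
  have : Fact p.Prime := ⟨hp⟩
  have : Nontrivial E := (Subgroup.nontrivial_iff_ne_bot E).2 hEne
  have hexp' : ∀ v : E, v ^ p = 1 := fun v => Subtype.ext (hexp v v.2)
  obtain ⟨H, i1, i2, hH, hr⟩ := Recog.exists_large (MulAut.conjNormal (H := E)) hexp' N
  exact ⟨H, i1, i2, hH,
    hr.trans (Recog.range_orderOf_conj_semidirect E hexp' fun x y => hEab.is_comm.comm x y)⟩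

end Cfsg.Agent.S3444
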