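import Cfsg.Statements.S3448
import Cfsg.Agent.Lib.Recog.A5Spectrum

set_option autoImplicit false
open Cfsg

namespace Cfsg.Agent.S3448

/-- The set of element orders of the direct product of two copies of the alternating group of degree 5 is {1, 2, 3, 5, 6, 10, 15}. (It is shared by the direct product of two Frobenius groups of orders 50 and 75, so this direct product is not determined by its element orders.) -/
theorem result : Set.range (orderOf : alternatingGroup (Fin 5) × alternatingGroup (Fin 5) → ℕ) = {1, 2, 3, 5, 6, 10, 15} := by
  ext n
  constructor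
  · rintro ⟨⟨a, b⟩, rfl⟩
    rw [Prod.orderOf]
    rcases Recog.a5_orderOf_cases a with h | h | h | h <;>
      rcases Recog.a5_orderOf_cases b with h' | h' | h' | h' <;>
        simp_all <;> decide
  · intro hn
    have key : ∀ u v : ℕ, u ∈ ({1, 2, 3, 5} : Set ℕ) → v ∈ ({1, 2, 3, 5} : Set ℕ) →
        Nat.lcm u v = n → n ∈ Set.range
          (orderOf : alternatingGroup (Fin 5) × alternatingGroup (Fin 5) → ℕ) := by
      intro u v hu hv huv
      obtain ⟨a, ha⟩ := Recog.a5_exists_orderOf hu
      obtain ⟨b, hb⟩ := Recog.a5_exists_orderOf hv
      exact ⟨(a, b), by rw [Prod.orderOf, ha, hb, huv]⟩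
    rcases hn with rfl | rfl | rfl | rfl | rfl | rfl | rfl
    · exact key 1 1 (by simp) (by simp) (by decide)
    · exact key 1 2 (by simp) (by simp) (by decide)
    · exact key 1 3 (by simp) (by simp) (by decide)
    · exact key 1 5 (by simp) (by simp) (by decide)
    · exact key 2 3 (by simp) (by simp) (by decide)
    · exact key 2 5 (by simp) (by simp) (by decide)
    · exact key 3 5 (by simp) (by simp) (by decide)

end Cfsg.Agent.S3448
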