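import Cfsg.Statements.S3449
import Cfsg.Agent.Lib.Recog.A5Spectrum

set_option autoImplicit false
open Cfsg

namespace Cfsg.Agent.S3449

/-- The direct product of three copies of the alternating group of degree 5 has exactly the same set of element orders as the cyclic group of order 30, namely the divisors of 30; in particular a direct power of a non-abelian simple group need not be determined by its element orders. -/
theorem result : Set.range (orderOf : alternatingGroup (Fin 5) × alternatingGroup (Fin 5) × alternatingGroup (Fin 5) → ℕ) =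
      Set.range (orderOf : Multiplicative (ZMod 30) → ℕ) := by
  ext n
  constructor
  · rintro ⟨⟨a, b, c⟩, rfl⟩
    have hd : orderOf (a, b, c) ∣ 30 := by
      rw [Prod.orderOf, Prod.orderOf]
      have h : ∀ g : alternatingGroup (Fin 5), orderOf g ∣ 30 := fun g => by
        rcases Recog.a5_orderOf_cases g with h | h | h | h <;> rw [h] <;> norm_num
      exact Nat.lcm_dvd (h a) (Nat.lcm_dvd (h b) (h c))
    have h30 : orderOf (Multiplicative.ofAdd (1 : ZMod 30)) = 30 := by
      rw [orderOf_ofAdd_eq_addOrderOf, ZMod.addOrderOf_one]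
    refine ⟨Multiplicative.ofAdd (1 : ZMod 30) ^ (30 / orderOf (a, b, c)), ?_⟩
    rw [orderOf_pow_of_dvd (Nat.div_pos (Nat.le_of_dvd (by norm_num) hd) (orderOf_pos _)).ne'
      (by rw [h30]; exact Nat.div_dvd_of_dvd hd), h30, Nat.div_div_self hd (by norm_num)]
  · rintro ⟨x, rfl⟩
    have hd : orderOf x ∣ 30 := by
      have := orderOf_dvd_natCard x
      rwa [Nat.card_congr Multiplicative.toAdd, Nat.card_zmod] at this
    generalize orderOf x = m at hd
    have key : ∀ u v w : ℕ, u ∈ ({1, 2, 3, 5} : Set ℕ) → v ∈ ({1, 2, 3, 5} : Set ℕ) →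
        w ∈ ({1, 2, 3, 5} : Set ℕ) → Nat.lcm u (Nat.lcm v w) = m → m ∈ Set.range
          (orderOf : alternatingGroup (Fin 5) × alternatingGroup (Fin 5) × alternatingGroup (Fin 5) → ℕ) := by
      intro u v w hu hv hw huvw
      obtain ⟨a, ha⟩ := Recog.a5_exists_orderOf hu
      obtain ⟨b, hb⟩ := Recog.a5_exists_orderOf hv
      obtain ⟨c, hc⟩ := Recog.a5_exists_orderOf hw
      exact ⟨(a, b, c), by rw [Prod.orderOf, Prod.orderOf, ha, hb, hc, huvw]⟩
    have hm : m ∈ ({1, 2, 3, 5, 6, 10, 15, 30} : Finset ℕ) := by
      have : m ∈ Nat.divisors 30 := Nat.mem_divisors.2 ⟨hd, by norm_num⟩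
      rwa [show Nat.divisors 30 = {1, 2, 3, 5, 6, 10, 15, 30} by decide] at this
    simp only [Finset.mem_insert, Finset.mem_singleton] at hm
    rcases hm with rfl | rfl | rfl | rfl | rfl | rfl | rfl | rfl
    · exact key 1 1 1 (by simp) (by simp) (by simp) (by decide)
    · exact key 1 1 2 (by simp) (by simp) (by simp) (by decide)
    · exact key 1 1 3 (by simp) (by simp) (by simp) (by decide)
    · exact key 1 1 5 (by simp) (by simp) (by simp) (by decide)
    · exact key 1 2 3 (by simp) (by simp) (by simp) (by decide)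
    · exact key 1 2 5 (by simp) (by simp) (by simp) (by decide)
    · exact key 1 3 5 (by simp) (by simp) (by simp) (by decide)
    · exact key 2 3 5 (by simp) (by simp) (by simp) (by decide)

end Cfsg.Agent.S3449
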