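import Cfsg.Statements.S3452
import Cfsg.Agent.Lib.Recog.PGLTwoSpectrum
import Cfsg.Agent.Lib.Recog.PGLNineModule
-- import your own Cfsg.Agent.* helpers here

set_option autoImplicit false
open Cfsg

namespace Cfsg.Agent.S3452

open Cfsg.Agent.Recog

/-- Inversion of a group of order `3`. -/
private def invAct : Multiplicative (ZMod 2) →* MulAut (Multiplicative (ZMod 3)) where
  toFun g :=
    { toFun := fun v => if g = 1 then v else v⁻¹
      invFun := fun v => if g = 1 then v else v⁻¹
      left_inv := fun v => by revert v g; decide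
      right_inv := fun v => by revert v g; decide
      map_mul' := fun v w => by revert v w g; decide }
  map_one' := MulEquiv.ext fun v => by revert v; decide
  map_mul' := fun g h => MulEquiv.ext fun v => by revert v g h; decide

/-- Rotation by a right angle of a plane over three elements. -/
private def rot (v : Multiplicative (ZMod 3 × ZMod 3)) : Multiplicative (ZMod 3 × ZMod 3) :=
  Multiplicative.ofAdd (-v.toAdd.2, v.toAdd.1)

/-- The cyclic group of rotations. -/
private def rotAct : Multiplicative (ZMod 4) →* MulAut (Multiplicative (ZMod 3 × ZMod 3)) where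
  toFun g :=
    { toFun := fun v => rot^[g.toAdd.val] v
      invFun := fun v => rot^[4 - g.toAdd.val] v
      left_inv := fun v => by revert v g; decide
      right_inv := fun v => by revert v g; decide
      map_mul' := fun v w => by revert v w g; decide }
  map_one' := MulEquiv.ext fun v => by revert v; decide
  map_mul' := fun g h => MulEquiv.ext fun v => by revert v g h; decide

private theorem range_two : Set.range (orderOf : Multiplicative (ZMod 2) → ℕ) = {1, 2} := by
  apply Set.Subset.antisymm
  · rintro _ ⟨x, rfl⟩
    have h : orderOf x ∣ 2 := orderOf_dvd_of_pow_eq_one (by revert x; decide)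
    exact (Nat.dvd_prime Nat.prime_two).1 h
  · rintro n (rfl | rfl)
    · exact ⟨1, orderOf_one⟩
    · exact ⟨Multiplicative.ofAdd 1, by rw [orderOf_ofAdd_eq_addOrderOf, ZMod.addOrderOf_one]⟩

private theorem range_four : Set.range (orderOf : Multiplicative (ZMod 4) → ℕ) = {1, 2, 4} := by
  apply Set.Subset.antisymm
  · rintro _ ⟨x, rfl⟩
    have h : orderOf x ∣ 2 ^ 2 := orderOf_dvd_of_pow_eq_one (by revert x; decide)
    obtain ⟨k, hk, he⟩ := (Nat.dvd_prime_pow Nat.prime_two).1 h
    rw [he]
    interval_cases k <;> simp
  · rintro n (rfl | rfl | rfl)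
    · exact ⟨1, orderOf_one⟩
    · exact ⟨Multiplicative.ofAdd 2, orderOf_eq_prime (by decide) (by decide)⟩
    · exact ⟨Multiplicative.ofAdd 1, by rw [orderOf_ofAdd_eq_addOrderOf, ZMod.addOrderOf_one]⟩

private theorem exp3 : ∀ v : Multiplicative (ZMod 3), v ^ 3 = 1 := by decide
private theorem comm3 : ∀ u v : Multiplicative (ZMod 3), u * v = v * u := by decide
private theorem fpf3 : ∀ g : Multiplicative (ZMod 2), g ≠ 1 → ∀ v : Multiplicative (ZMod 3),
    invAct g v = v → v = 1 := by decide
private theorem exp33 : ∀ v : Multiplicative (ZMod 3 × ZMod 3), v ^ 3 = 1 := by decide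
private theorem comm33 : ∀ u v : Multiplicative (ZMod 3 × ZMod 3), u * v = v * u := by decide
private theorem fpf33 : ∀ g : Multiplicative (ZMod 4), g ≠ 1 →
    ∀ v : Multiplicative (ZMod 3 × ZMod 3), rotAct g v = v → v = 1 := by decide

/-- For F a finite field whose number of elements is a prime or equals 9, the group PGL(2,F) = GL(2,F)/Z(GL(2,F)) is not determined by its set of element orders: for every bound N there is a finite group of order greater than N with exactly the same set of element orders as PGL(2,F). -/
theorem result {F : Type*} [Field F] [Fintype F] (hF : (Fintype.card F).Prime ∨ Fintype.card F = 9) (N : ℕ) :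
    ∃ (H : Type) (_ : Group H) (_ : Fintype H), N < Fintype.card H ∧
      Set.range (orderOf : H → ℕ) = Set.range (orderOf : Matrix.GeneralLinearGroup (Fin 2) F ⧸ Subgroup.center (Matrix.GeneralLinearGroup (Fin 2) F) → ℕ) := by
  obtain ⟨p, hpc⟩ := CharP.exists F
  have : Fact p.Prime := ⟨CharP.char_is_prime F p⟩
  obtain ⟨n, hpp, hpn⟩ := FiniteField.card F p
  have hrange := PGLTwo.range_pgl (F := F) p
  rcases hF with hF | hF
  · have hp : p = Fintype.card F := by
      rw [hpn] at hF ⊢
      rw [(Nat.Prime.eq_one_of_pow hF), pow_one]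
    subst hp
    set q := Fintype.card F with hq
    have hqF : Fact q.Prime := ⟨hF⟩
    by_cases h5 : 4 < q
    · have hcard : Fintype.card (ZMod q) = q := ZMod.card q
      obtain ⟨V, i1, i2, i3, φ, hexp, hr⟩ := PGLTwo.exists_module (F := ZMod q)
        (by rw [hcard]; exact hF) (by rw [hcard]; exact h5)
      obtain ⟨H, j1, j2, hH, hr'⟩ := exists_large φ (p := 2) hexp N
      refine ⟨H, j1, j2, hH, hr'.trans (hr.trans ?_)⟩
      rw [PGLTwo.range_pgl (F := ZMod q) q, hcard]
      exact hrange.symm
    · have h23 : q = 2 ∨ q = 3 := by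
        have := hF.two_le
        rcases (show q = 2 ∨ q = 3 ∨ q = 4 by omega) with h | h | h
        · exact Or.inl h
        · exact Or.inr h
        · exact absurd (h ▸ hF) (by decide)
      have : Fact (Nat.Prime 3) := ⟨Nat.prime_three⟩
      rcases h23 with h | h
      · obtain ⟨H, j1, j2, hH, hr'⟩ := exists_large invAct (p := 3) exp3 N
        refine ⟨H, j1, j2, hH, hr'.trans ?_⟩
        rw [range_orderOf_fpf invAct (p := 3) exp3 comm3 fpf3, range_two]
        refine Eq.trans ?_ hrange.symm
        rw [h]
        ext m
        simp only [Set.mem_insert_iff, Set.mem_singleton_iff, Set.mem_ofPred_eq]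
        refine ⟨?_, fun hm => ?_⟩
        · rintro (rfl | rfl | rfl) <;> norm_num
        rcases hm with rfl | hm | hm
        · omega
        · have := Nat.le_of_dvd (by norm_num) hm
          interval_cases m <;> revert hm <;> decide
        · rcases (Nat.dvd_prime Nat.prime_three).1 hm with rfl | rfl <;> norm_num
      · obtain ⟨H, j1, j2, hH, hr'⟩ := exists_large rotAct (p := 3) exp33 N
        refine ⟨H, j1, j2, hH, hr'.trans ?_⟩
        rw [range_orderOf_fpf rotAct (p := 3) exp33 comm33 fpf33, range_four]
        refine Eq.trans ?_ hrange.symm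
        rw [h]
        ext m
        simp only [Set.mem_insert_iff, Set.mem_singleton_iff, Set.mem_ofPred_eq]
        refine ⟨?_, fun hm => ?_⟩
        · rintro (rfl | rfl | rfl | rfl) <;> norm_num
        rcases hm with rfl | hm | hm
        · omega
        · have := Nat.le_of_dvd (by norm_num) hm
          interval_cases m <;> revert hm <;> decide
        · have := Nat.le_of_dvd (by norm_num) hm
          interval_cases m <;> revert hm <;> decide
  · have hp3 : p = 3 := by
      have h9 : p ∣ 3 ^ 2 := by
        rw [show (3 : ℕ) ^ 2 = Fintype.card F by rw [hF]; norm_num, hpn]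
        exact dvd_pow_self p n.pos.ne'
      exact (Nat.prime_dvd_prime_iff_eq hpp Nat.prime_three).1 (hpp.dvd_of_dvd_pow h9)
    subst hp3
    have : Finite PGLNine.K := Finite.of_equiv _ SemidirectProduct.equivProd.symm
    obtain ⟨H, j1, j2, hH, hr'⟩ := exists_large PGLNine.phi (p := 3) PGLNine.exp_three N
    refine ⟨H, j1, j2, hH, hr'.trans (PGLNine.range_orders.trans ?_)⟩
    refine Eq.trans ?_ hrange.symm
    rw [hF]
    ext m
    simp only [Set.mem_insert_iff, Set.mem_singleton_iff, Set.mem_ofPred_eq]
    refine ⟨?_, fun hm => ?_⟩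
    · rintro (rfl | rfl | rfl | rfl | rfl | rfl | rfl) <;> norm_num
    rcases hm with rfl | hm | hm
    · omega
    · have := Nat.le_of_dvd (by norm_num) hm
      interval_cases m <;> revert hm <;> decide
    · have := Nat.le_of_dvd (by norm_num) hm
      interval_cases m <;> revert hm <;> decide

end Cfsg.Agent.S3452
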