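import Cfsg.Statements.S3466
import Cfsg.Agent.Lib.PSpFourSpec.Odd
import Cfsg.Agent.Lib.PSpFourSpec.Minus
import Cfsg.Agent.Lib.PSpFourSpec.Three
import Cfsg.Agent.Lib.PSpFourSpec.Even
import Cfsg.Agent.Lib.PSpFourSpec.QThree
import Cfsg.Agent.Lib.Recog.PSpFourThreeSpectrum

set_option autoImplicit false
open Cfsg

namespace Cfsg.Agent.S3466

/-- Let F be a finite field with q ≥ 3 elements such that q is not of the form 3^(2t+1) with t ≥ 1. Then PSp(4,F) is not determined by its set of element orders, not even up to finitely many groups: for every bound N there is a finite group of order greater than N with exactly the same set of element orders as PSp(4,F). -/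
theorem result {F : Type*} [Field F] [Fintype F] (h3 : 3 ≤ Fintype.card F) (hq : ∀ t : ℕ, 1 ≤ t → Fintype.card F ≠ 3 ^ (2 * t + 1)) (N : ℕ) :
    ∃ (H : Type) (_ : Group H) (_ : Fintype H), N < Fintype.card H ∧ Set.range (orderOf : H → ℕ) = Set.range (orderOf : Cfsg.PSp 2 F → ℕ) := by
  classical
  obtain ⟨p, hchar⟩ := CharP.exists F
  obtain ⟨⟨k, hk⟩, hpp, hcard⟩ := FiniteField.card F p
  haveI := Fact.mk hpp
  change Fintype.card F = p ^ k at hcard
  rcases eq_or_ne p 2 with rfl | hp2
  · have hk2 : 2 ≤ k := by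
      by_contra h
      obtain rfl : k = 1 := by omega
      rw [hcard] at h3
      norm_num at h3
    obtain ⟨H, i1, i2, hN, hH⟩ := PSpFour.exists_large_two hk2 N
    exact ⟨H, i1, i2, hN, by rw [hH, PSpFour.psp_range_even, hcard]⟩
  have h2 : (2 : F) ≠ 0 := fun h => hp2 ((Nat.prime_dvd_prime_iff_eq hpp Nat.prime_two).1
    ((CharP.cast_eq_zero_iff F p 2).1 (by exact_mod_cast h)))
  rcases eq_or_ne p 3 with rfl | hp3
  · rcases Nat.lt_or_ge k 2 with h1 | h1
    · obtain rfl : k = 1 := by omega
      obtain ⟨H, i1, i2, hN, hH⟩ := PSpFour.exists_large_q_three N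
      exact ⟨H, i1, i2, hN, by
        rw [hH, Recog.FiveTwoFrobenius.spectrum, Recog.PSpFourThreeSpectrum.psp_spectrum (F := F) (by rw [hcard]; norm_num)]⟩
    · have hev : Even k := by
        by_contra hodd
        obtain ⟨t, rfl⟩ := Nat.not_even_iff_odd.1 hodd
        exact hq t (by omega) hcard
      obtain ⟨H, i1, i2, hN, hH⟩ := PSpFour.exists_large_three hev h1 N
      exact ⟨H, i1, i2, hN, by rw [hH, PSpFour.psp_range 3 h2, hcard]⟩
  have h5 : 5 ≤ p := by
    have := hpp.two_le
    by_contra h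
    obtain rfl : p = 4 := by omega
    norm_num at hpp
  obtain ⟨a, b, hab⟩ := Spinor.exists_aniso F
  obtain ⟨H, i1, i2, hN, hH⟩ := PSpFour.minus_range p h5 hab N
  exact ⟨H, i1, i2, hN, by rw [hH, PSpFour.psp_range p h2]⟩

end Cfsg.Agent.S3466
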