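import Cfsg.Statements.S3487
import Cfsg.Agent.Lib.TrialityTwo.Main
import Cfsg.Agent.Lib.PSpFourSpec.Ext

set_option autoImplicit false
open Cfsg

namespace Cfsg.Agent.S3487

/-- The triality group ³D₄(2) is not determined by its set of element orders, not even up to finitely many groups: for K the field with 8 elements and every bound N there is a finite group of order greater than N with exactly the same set of element orders as ³D₄(2) (realised over K). -/
theorem result {K : Type*} [Field K] [Fintype K] (hK : Fintype.card K = 8) (N : ℕ) : ∃ (H : Type) (_ : Group H) (_ : Fintype H), N < Fintype.card H ∧ Set.range (orderOf : H → ℕ) = Set.range (orderOf : Cfsg.Lie.twistedD4 K 2 → ℕ) := by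
  classical
  open Cfsg.Agent.TrialityTwo Cfsg.Agent.PSpFour in
  (haveI : CharP K 2 := by
    obtain ⟨p, hp⟩ := CharP.exists K
    obtain ⟨n, hp', hn⟩ := FiniteField.card K p
    have : p ∣ 2 ^ 3 := by rw [show (2 : ℕ) ^ 3 = 8 from rfl, ← hK, hn]; exact dvd_pow_self p n.ne_zero
    have := (Nat.prime_dvd_prime_iff_eq hp' Nat.prime_two).1 (hp'.dvd_of_dvd_pow this)
    exact this ▸ hp
   haveI : Fact (Nat.Prime 2) := ⟨Nat.prime_two⟩
   obtain ⟨R⟩ := exists_rep8 (K := K) hK
   obtain ⟨α, hα⟩ := Cfsg.Agent.TrialityTwo.exists_gen K hK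
   let ρ : ↥(Cfsg.Lie.twistedD4 K 2) →* ((Fin 8 → K) ≃ₗ[K] (Fin 8 → K)) :=
     (LinearMap.GeneralLinearGroup.generalLinearEquiv K (Fin 8 → K)).toMonoidHom.comp
       (Matrix.GeneralLinearGroup.toLin.toMonoidHom.comp R.toHom)
   haveI : Finite ↥(Cfsg.Lie.twistedD4 K 2) := inferInstance
   obtain ⟨H, i1, i2, hN, hH⟩ := exists_large (F := K) ρ 2 N
   refine ⟨H, i1, i2, hN, hH.trans ?_⟩
   have hsum : ∀ (g : ↥(Cfsg.Lie.twistedD4 K 2)) (n : ℕ) (v : Fin 8 → K),
       (∑ l ∈ Finset.range n, (Cfsg.Agent.FormTorus.en (ρ g)) ^ l) v =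
         (∑ l ∈ Finset.range n, R.M g ^ l).mulVec v := by
     intro g n v
     rw [LinearMap.sum_apply, Matrix.sum_mulVec]
     refine Finset.sum_congr rfl fun l hl => ?_
     clear hl
     induction l generalizing v with
     | zero => simp
     | succ l ih =>
       rw [pow_succ, pow_succ, Module.End.mul_apply, ← Matrix.mulVec_mulVec, ← ih]
       rfl
   haveI : Finite (Multiplicative (Fin 8 → K) ⋊[act ρ] ↥(Cfsg.Lie.twistedD4 K 2)) :=
     Finite.of_equiv _ SemidirectProduct.equivProd.symm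
   refine Set.Subset.antisymm ?_ ?_
   · rintro _ ⟨x, rfl⟩
     set n := orderOf x.right with hn
     have hdvd : n ∣ orderOf x := orderOf_map_dvd SemidirectProduct.rightHom x
     by_cases h0 : (∑ l ∈ Finset.range n, R.M x.right ^ l) = 0
     · exact ⟨x.right, Nat.dvd_antisymm hdvd (orderOf_dvd_of_pow_eq_one ((pow_one_iff ρ x n).2
         ⟨pow_orderOf_eq_one _, by rw [hsum, h0, Matrix.zero_mulVec]⟩))⟩
     obtain ⟨h, hh⟩ := double_mem R hα hK x.right h0
     have h2 : orderOf x ∣ 2 * n := orderOf_dvd_of_pow_eq_one ((pow_one_iff ρ x _).2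
       ⟨by rw [Nat.mul_comm, pow_mul, pow_orderOf_eq_one, one_pow], by
         rw [hsum, two_mul, Finset.sum_range_add]
         simp only [pow_add, hn, ← map_pow R.M, pow_orderOf_eq_one, map_one, one_mul]
         rw [CharTwo.add_self_eq_zero, Matrix.zero_mulVec]⟩)
     exact ⟨h ^ (orderOf h / orderOf x),
       orderOf_pow_orderOf_div (orderOf_pos h).ne' (by rw [hh]; exact h2)⟩
   · rintro _ ⟨g, rfl⟩
     exact ⟨SemidirectProduct.inr g, orderOf_injective _ SemidirectProduct.inr_injective g⟩)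

end Cfsg.Agent.S3487
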