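import Cfsg.Statements.S3489
import Cfsg.Agent.Lib.Recog.AltTenSpectrum

set_option autoImplicit false
open Cfsg

namespace Cfsg.Agent.S3489

/-- The alternating group of degree 10 is not determined by its set of element orders, not even up to finitely many groups: for every bound N there is a finite group of order greater than N with exactly the same set of element orders as the alternating group of degree 10. -/
theorem result (N : ℕ) : ∃ (H : Type) (_ : Group H) (_ : Fintype H), N < Fintype.card H ∧ Set.range (orderOf : H → ℕ) = Set.range (orderOf : alternatingGroup (Fin 10) → ℕ) := by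
  have : Fact (Nat.Prime 3) := ⟨Nat.prime_three⟩
  have : Nontrivial Recog.AltTen.oddFun :=
    ⟨⟨Recog.AltTen.delta, 1, Recog.AltTen.delta_ne_one⟩⟩
  obtain ⟨H, i1, i2, hN, hr⟩ := Recog.exists_large Recog.AltTen.oddAct Recog.AltTen.oddFun_exp N
  exact ⟨H, i1, i2, hN, by rw [hr, Recog.AltTen.range_orders, Recog.AltSpectrum.range_ten]⟩

end Cfsg.Agent.S3489
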