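import Cfsg.Statements.S3491
import Cfsg.Agent.Lib.Recog.AltSixModel
import Cfsg.Agent.Lib.Recog.AltSpectrum

set_option autoImplicit false
open Cfsg

namespace Cfsg.Agent.S3491

/-- The alternating group of degree 6 is not determined by its set of element orders, not even up to finitely many groups: for every bound N there is a finite group of order greater than N with exactly the same set of element orders as the alternating group of degree 6. -/
theorem result (N : ℕ) : ∃ (H : Type) (_ : Group H) (_ : Fintype H), N < Fintype.card H ∧ Set.range (orderOf : H → ℕ) = Set.range (orderOf : alternatingGroup (Fin 6) → ℕ) := by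
  classical
  have : Fact (Nat.Prime 2) := ⟨Nat.prime_two⟩
  let K := GaloisField 2 2
  have : Fintype K := Fintype.ofFinite K
  have hK : Fintype.card K = 4 := by
    rw [← Nat.card_eq_fintype_card, GaloisField.card 2 2 (by norm_num)]; norm_num
  let V := (Recog.AffineSL.linPart (F := K)).ker
  have hexp : ∀ v : V, v ^ 2 = 1 := fun v => Subtype.ext (Recog.AffineSL.ker_sq v.2)
  have hcomm : ∀ u v : V, u * v = v * u := by
    intro u v
    have h := hexp (u * v)
    have hu := hexp u
    have hv := hexp v
    rw [pow_two] at h hu hv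
    calc u * v = (u * v)⁻¹ := eq_inv_of_mul_eq_one_left h
      _ = v * u := by rw [mul_inv_rev, inv_eq_of_mul_eq_one_right hu, inv_eq_of_mul_eq_one_right hv]
  have : Nontrivial V := by
    let t : Matrix.SpecialLinearGroup (Fin 3) K := ⟨!![1, 0, 1; 0, 1, 0; 0, 0, 1], by
      simp [Matrix.det_fin_three]⟩
    have ht : t ∈ Recog.AffineSL.affine K :=
      Subgroup.subset_closure (by refine ⟨?_, ?_, ?_⟩ <;> simp [t])
    have hk : (⟨t, ht⟩ : Recog.AffineSL.affine K) ∈ V := by
      show Recog.AffineSL.linPart _ = 1
      apply Subtype.ext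
      ext i j
      rw [Recog.AffineSL.linPart_apply, Matrix.SpecialLinearGroup.coe_one]
      fin_cases i <;> fin_cases j <;> simp [t]
    refine ⟨⟨⟨⟨t, ht⟩, hk⟩, 1, fun h => ?_⟩⟩
    have := congrArg (fun z : V => ((z : Recog.AffineSL.affine K) :
      Matrix.SpecialLinearGroup (Fin 3) K).1 0 2) h
    simp [t] at this
  obtain ⟨H, i1, i2, hN, hr⟩ := Recog.exists_large (MulAut.conjNormal (H := V)) hexp N
  exact ⟨H, i1, i2, hN, by rw [hr, Recog.range_orderOf_conj_semidirect V hexp hcomm,
    Recog.AltSpectrum.range_six, Recog.AffineSL.range_affine hK]⟩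

end Cfsg.Agent.S3491
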