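import Cfsg.Statements.S3494
import Cfsg.Agent.Lib.Recog.ExtremelyPrimitive

set_option autoImplicit false
open Cfsg

namespace Cfsg.Agent.S3494

/-- Manning's Theorem on extremely primitive groups. Let a finite group G act faithfully and primitively on a finite set Ω with non-trivial point stabilizers, and suppose every point stabilizer G_α acts primitively on each of its orbits. Then G_α acts faithfully on each of its orbits other than {α}: an element of G_α fixing every point of one such orbit is the identity. -/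
theorem result {G : Type*} [Group G] [Finite G] {Ω : Type*} [Fintype Ω] [MulAction G Ω] [FaithfulSMul G Ω] (hprim : MulAction.IsPreprimitive G Ω) (hH : ∀ α : Ω, MulAction.stabilizer G α ≠ ⊥) (hep : ∀ (α : Ω) (ω : Ω), MulAction.IsPreprimitive (MulAction.stabilizer G α) (MulAction.orbit (MulAction.stabilizer G α) ω))
    (α ω : Ω) (hω : ω ≠ α) (h : MulAction.stabilizer G α) (hfix : ∀ x ∈ MulAction.orbit (MulAction.stabilizer G α) ω, h • x = x) : h = 1 := by
  let K : Subgroup G :=
    { carrier := {g | g ∈ MulAction.stabilizer G α ∧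
        ∀ x ∈ MulAction.orbit (MulAction.stabilizer G α) ω, g • x = x}
      one_mem' := ⟨one_mem _, fun x _ => one_smul _ _⟩
      mul_mem' := fun {a b} ha hb => ⟨mul_mem ha.1 hb.1, fun x hx => by
        rw [mul_smul, hb.2 x hx, ha.2 x hx]⟩
      inv_mem' := fun {a} ha => ⟨inv_mem ha.1, fun x hx => by
        rw [inv_smul_eq_iff, ha.2 x hx]⟩ }
  by_contra hne
  have hK : K ≠ ⊥ := fun hb => hne (Subtype.ext (Subgroup.mem_bot.1
    (hb ▸ (⟨h.2, hfix⟩ : (h : G) ∈ K))))
  have hKn : ∀ g ∈ MulAction.stabilizer G α, ∀ m ∈ K, g * m * g⁻¹ ∈ K := by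
    intro g hg m hm
    refine ⟨mul_mem (mul_mem hg hm.1) (inv_mem hg), fun x hx => ?_⟩
    have hx' : g⁻¹ • x ∈ MulAction.orbit (MulAction.stabilizer G α) ω :=
      (MulAction.mem_orbit_of_mem_orbit (⟨g⁻¹, inv_mem hg⟩ : MulAction.stabilizer G α) hx)
    rw [mul_smul, mul_smul, hm.2 _ hx', smul_inv_smul]
  obtain ⟨m, hm, hmω⟩ :=
    ((Recog.IsExtremelyPrim.orbit_eq hep hK (fun g hg => hg.1) hKn) ω hω).1
  exact hmω (hm.2 ω (MulAction.mem_orbit_self ω))

end Cfsg.Agent.S3494
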