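import Cfsg.Statements.S3495
import Cfsg.Agent.Lib.Recog.ExtremelyPrimitive

set_option autoImplicit false
open Cfsg

namespace Cfsg.Agent.S3495

/-- Let a finite group G act faithfully and primitively on a finite set Ω with non-trivial point stabilizers, each acting primitively on every one of its orbits (an extremely primitive group), and suppose G has an elementary abelian normal p-subgroup N acting regularly on Ω (affine type). Then every non-trivial subgroup M of a point stabilizer G_α that is normal in G_α has the same orbits on Ω as G_α, and normalizes no subgroup of N other than 1 and N. -/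
theorem result {G : Type*} [Group G] [Finite G] {Ω : Type*} [Fintype Ω] [MulAction G Ω] [FaithfulSMul G Ω] (hprim : MulAction.IsPreprimitive G Ω) (hH : ∀ α : Ω, MulAction.stabilizer G α ≠ ⊥) (hep : ∀ (α : Ω) (ω : Ω), MulAction.IsPreprimitive (MulAction.stabilizer G α) (MulAction.orbit (MulAction.stabilizer G α) ω))
    (N : Subgroup G) [N.Normal] (hNc : IsMulCommutative N) (p : ℕ) (hp : p.Prime) (hNp : ∀ n ∈ N, n ^ p = 1)
    (hNtr : MulAction.IsPretransitive N Ω) (hNreg : ∀ ω : Ω, MulAction.stabilizer N ω = ⊥) (α : Ω) (M : Subgroup G) (hM : M ≠ ⊥) (hMle : M ≤ MulAction.stabilizer G α)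
    (hMn : MulAction.stabilizer G α ≤ Subgroup.normalizer (M : Set G)) :
    (∀ ω : Ω, MulAction.orbit M ω = MulAction.orbit (MulAction.stabilizer G α) ω) ∧
    (∀ L : Subgroup G, L ≤ N → M ≤ Subgroup.normalizer (L : Set G) → L = ⊥ ∨ L = N) := by
  have hconj : ∀ g ∈ MulAction.stabilizer G α, ∀ m ∈ M, g * m * g⁻¹ ∈ M := fun g hg m hm =>
    (Subgroup.mem_normalizer_iff.1 (hMn hg) m).1 hm
  have horb := Recog.IsExtremelyPrim.orbit_eq hep hM hMle hconj
  have h1 : ∀ g ∈ MulAction.stabilizer G α, ∀ x : Ω, ∃ m ∈ M, m • x = g • x := by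
    intro g hg x
    by_cases hx : x = α
    · exact ⟨1, one_mem M, by rw [hx, one_smul, MulAction.mem_stabilizer_iff.1 hg]⟩
    · exact (horb x hx).2 g hg
  refine ⟨fun ω => ?_, fun L hL hML => ?_⟩
  · ext y
    constructor
    · rintro ⟨m, rfl⟩
      exact ⟨⟨m, hMle m.2⟩, rfl⟩
    · rintro ⟨g, rfl⟩
      obtain ⟨m, hm, hme⟩ := h1 g g.2 ω
      exact ⟨⟨m, hm⟩, hme⟩
  have hNn : N.Normal := inferInstance
  have hreg : ∀ a ∈ N, ∀ b ∈ N, a • α = b • α → a = b := by
    intro a ha b hb hab
    have : (⟨b⁻¹ * a, mul_mem (inv_mem hb) ha⟩ : N) ∈ MulAction.stabilizer N α := by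
      rw [MulAction.mem_stabilizer_iff]
      show (b⁻¹ * a) • α = α
      rw [mul_smul, hab, inv_smul_smul]
    rw [hNreg α, Subgroup.mem_bot] at this
    exact (inv_mul_eq_one.1 (congrArg Subtype.val this)).symm
  have hpt : ∀ g ∈ MulAction.stabilizer G α, ∀ n : G, (g * n * g⁻¹) • α = g • n • α :=
    fun g hg n => by
      rw [mul_smul, mul_smul, inv_smul_eq_iff.2 (MulAction.mem_stabilizer_iff.1 hg).symm]
  by_cases hLb : L = ⊥
  · exact Or.inl hLb
  right
  have hLn : L.Normal := by
    refine ⟨fun l hl g => ?_⟩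
    obtain ⟨n, hn⟩ := MulAction.exists_smul_eq N α (g • α)
    set k := (n : G)⁻¹ * g with hk
    have hkS : k ∈ MulAction.stabilizer G α := by
      rw [MulAction.mem_stabilizer_iff, hk, mul_smul, inv_smul_eq_iff]
      exact hn.symm
    obtain ⟨m, hm, hme⟩ := h1 k hkS (l • α)
    have he : k * l * k⁻¹ = m * l * m⁻¹ :=
      hreg _ (hNn.conj_mem l (hL hl) k) _ (hNn.conj_mem l (hL hl) m)
        (by rw [hpt k hkS, hpt m (hMle hm), hme])
    have hkl : k * l * k⁻¹ ∈ L := by
      rw [he]; exact (Subgroup.mem_normalizer_iff.1 (hML hm) l).1 hl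
    have hc : (n : G) * (k * l * k⁻¹) = k * l * k⁻¹ * n :=
      congrArg Subtype.val (hNc.is_comm.comm n ⟨_, hL hkl⟩)
    have : g * l * g⁻¹ = k * l * k⁻¹ := by
      calc g * l * g⁻¹ = (n : G) * (k * l * k⁻¹) * (n : G)⁻¹ := by rw [hk]; group
        _ = k * l * k⁻¹ := by rw [hc, mul_inv_cancel_right]
    rw [this]; exact hkl
  refine le_antisymm hL fun n hn => ?_
  have hLtr : ∀ x : Ω, ∃ l ∈ L, l • α = x := by
    intro x
    have hq : MulAction.IsPretransitive L Ω := by
      refine MulAction.IsQuasiPreprimitive.isPretransitive_of_normal fun hfix => hLb ?_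
      rw [eq_bot_iff]
      intro l hl
      rw [Subgroup.mem_bot]
      refine eq_of_smul_eq_smul (α := Ω) fun y => ?_
      rw [one_smul]
      exact (Set.ext_iff.1 hfix y).2 trivial ⟨l, hl⟩
    obtain ⟨l, hl⟩ := MulAction.exists_smul_eq L α x
    exact ⟨l, l.2, hl⟩
  obtain ⟨l, hl, hle⟩ := hLtr (n • α)
  exact hreg l (hL hl) n hn hle ▸ hl

end Cfsg.Agent.S3495
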