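import Cfsg.Statements.S3496
import Cfsg.Agent.Lib.Recog.ExtremelyPrimitiveAbelian
import Cfsg.Agent.Lib.Recog.ExtremelyPrimitiveSolvable
import Cfsg.Agent.Lib.Recog.Derangement
import Cfsg.Agent.Lib.Basics.Tools

set_option autoImplicit false
open Cfsg

open scoped IsMulCommutative

namespace Cfsg.Agent.S3496

/-- The soluble extremely primitive groups. Let a finite solvable group G act faithfully and primitively on a finite set Ω with p ^ d points (p prime), with non-trivial point stabilizers each acting primitively on every one of its orbits. Then there is a prime q such that every orbit of a point stabilizer G_α other than {α} has exactly q points, q divides p ^ d − 1 but no p ^ i − 1 with 0 < i < d, and G_α has a normal subgroup T of order q with G_α generated by T and one further element and the order of G_α dividing q·d (so G_α is cyclic of order q, or an extension of T by a cyclic group of order dividing d). -/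
theorem result {G : Type*} [Group G] [Finite G] {Ω : Type*} [Fintype Ω] [MulAction G Ω] [FaithfulSMul G Ω] [Group.IsSolvable G] (p d : ℕ) (hp : p.Prime) (hcard : Fintype.card Ω = p ^ d)
    (hprim : MulAction.IsPreprimitive G Ω) (hH : ∀ α : Ω, MulAction.stabilizer G α ≠ ⊥) (hep : ∀ (α : Ω) (ω : Ω), MulAction.IsPreprimitive (MulAction.stabilizer G α) (MulAction.orbit (MulAction.stabilizer G α) ω)) (α : Ω) :
    ∃ q : ℕ, q.Prime ∧ (∀ ω : Ω, ω ≠ α → Nat.card (MulAction.orbit (MulAction.stabilizer G α) ω) = q) ∧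
      q ∣ p ^ d - 1 ∧ (∀ i : ℕ, 0 < i → i < d → ¬ q ∣ p ^ i - 1) ∧
      ∃ T : Subgroup G, T ≤ MulAction.stabilizer G α ∧ MulAction.stabilizer G α ≤ Subgroup.normalizer (T : Set G) ∧ Nat.card T = q ∧
        (∃ h : G, MulAction.stabilizer G α = T ⊔ Subgroup.zpowers h) ∧ Nat.card (MulAction.stabilizer G α) ∣ q * d := by
  classical
  have hep' : Recog.IsExtremelyPrim G Ω := hep
  have hpF : Fact p.Prime := ⟨hp⟩
  set S := MulAction.stabilizer G α with hS
  have hS1 : S ≠ ⊥ := hH α
  obtain ⟨⟨g₀, hg₀⟩, hg₀1⟩ := Subgroup.ne_bot_iff_exists_ne_one.1 hS1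
  have hg₀' : g₀ ≠ 1 := fun h => hg₀1 (Subtype.ext h)
  obtain ⟨x₀, hx₀⟩ : ∃ x : Ω, x ≠ α := by
    by_contra hall
    push Not at hall
    exact hg₀' (eq_of_smul_eq_smul (α := Ω) fun x => by rw [hall x, hall (g₀ • α), one_smul])
  -- a regular elementary abelian normal subgroup
  have htopG : (⊤ : Subgroup G) ≠ ⊥ := fun h =>
    hg₀' (Subgroup.mem_bot.1 (h ▸ Subgroup.mem_top g₀))
  obtain ⟨r, N, hr, hNn, -, hNne, hNc, hNexp⟩ :=
    Basics.exists_elementary_normal (N := (⊤ : Subgroup G)) htopG inferInstance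
  have := Recog.isPretransitive_of_normal (Ω := Ω) hNn hNne
  have hbij : Function.Bijective fun n : N => (n : G) • α := by
    constructor
    · intro a b hab
      have hab' : (a : G) • α = (b : G) • α := hab
      have := Recog.eq_one_of_abelian (Ω := Ω) hNc (mul_mem (inv_mem b.2) a.2) (ω := α)
        (by rw [mul_smul, hab', inv_smul_smul])
      exact Subtype.ext (inv_mul_eq_one.1 this).symm
    · exact fun x => MulAction.exists_smul_eq N α x
  have hNcard : Nat.card N = p ^ d := by
    rw [Nat.card_eq_of_bijective _ hbij, Nat.card_eq_fintype_card, hcard]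
  have hd : 0 < d := by
    by_contra hd
    have hd0 : d = 0 := by omega
    rw [hd0, pow_zero] at hNcard
    exact hNne (Subgroup.card_eq_one.1 hNcard)
  have hrp : r = p := by
    have hrF : Fact r.Prime := ⟨hr⟩
    obtain ⟨k, hk⟩ := IsPGroup.iff_card.1
      (show IsPGroup r N from fun x => ⟨1, by rw [pow_one]; exact Subtype.ext (hNexp x x.2)⟩)
    rw [hk] at hNcard
    have hrd : r ∣ p ^ d := hNcard ▸ dvd_pow_self r (by
      rintro rfl
      rw [pow_zero] at hNcard
      have := (Nat.one_lt_pow hd.ne' hp.one_lt)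
      omega)
    exact (Nat.prime_dvd_prime_iff_eq hr hp).1 (hr.dvd_of_dvd_pow hrd)
  subst hrp
  -- an elementary abelian normal subgroup of the stabiliser
  have hSsol : Group.IsSolvable S := inferInstance
  have htopS : (⊤ : Subgroup S) ≠ ⊥ := fun h =>
    hg₀1 (Subgroup.mem_bot.1 (h ▸ Subgroup.mem_top (⟨g₀, hg₀⟩ : S)))
  obtain ⟨q, A, hq, hAn, -, hAne, hAc, hAexp⟩ :=
    Basics.exists_elementary_normal (N := (⊤ : Subgroup S)) htopS inferInstance
  have hqF : Fact q.Prime := ⟨hq⟩
  set T : Subgroup G := A.map S.subtype with hT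
  have hTle : T ≤ S := Subgroup.map_subtype_le A
  have hTne : T ≠ ⊥ := fun h =>
    hAne ((Subgroup.map_eq_bot_iff_of_injective _ S.subtype_injective).1 h)
  have hTn : ∀ g ∈ S, ∀ a ∈ T, g * a * g⁻¹ ∈ T := by
    rintro g hg _ ⟨a, ha, rfl⟩
    exact ⟨⟨g, hg⟩ * a * ⟨g, hg⟩⁻¹, hAn.conj_mem a ha _, rfl⟩
  have hTc : ∀ a ∈ T, ∀ b ∈ T, a * b = b * a := by
    rintro _ ⟨a, ha, rfl⟩ _ ⟨b, hb, rfl⟩
    exact congrArg Subtype.val (congrArg Subtype.val (hAc.is_comm.comm ⟨a, ha⟩ ⟨b, hb⟩))
  have hTexp : ∀ a ∈ T, a ^ q = 1 := by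
    rintro _ ⟨a, ha, rfl⟩
    rw [← map_pow, hAexp a ha, map_one]
  obtain ⟨hfree, hsize, hcent⟩ := hep'.abelian_normal hTne hTle hTn hTc
  have hpt : ∀ g ∈ S, ∀ n : G, (g * n * g⁻¹) • α = g • n • α := fun g hg n => by
    rw [mul_smul, mul_smul, inv_smul_eq_iff.2 (MulAction.mem_stabilizer_iff.1 hg).symm]
  have hTfix : ∀ a ∈ T, a ≠ 1 → ∀ n ∈ N, a * n * a⁻¹ = n → n = 1 := by
    intro a ha ha1 n hn hfix
    by_contra hn1
    refine ha1 (hfree (n • α) (fun h => hn1 ?_) a ha (by rw [← hpt a (hTle ha), hfix]))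
    exact congrArg Subtype.val (hbij.1 (a₁ := ⟨n, hn⟩) (a₂ := 1)
      (show n • α = ((1 : N) : G) • α by rw [Subgroup.coe_one, one_smul, h]))
  have hreg : ∀ a b : N, (a : G) • α = (b : G) • α → a = b := fun a b h => hbij.1 h
  -- `N` as a vector space
  have hcommN : ∀ a b : N, a * b = b * a := fun a b => hNc.is_comm.comm a b
  have := hNc
  have mV : Module (ZMod r) (Additive N) := AddCommGroup.zmodModule fun x => by
    apply Additive.toMul.injective
    exact Subtype.ext (by simpa using hNexp _ (Additive.toMul x).2)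
  let cj : G → Module.End (ZMod r) (Additive N) := fun g =>
    AddMonoidHom.toZModLinearMap r
      (MonoidHom.toAdditive (MulAut.conjNormal g : MulAut N).toMonoidHom)
  have hcj : ∀ (g : G) (v : Additive N),
      ((Additive.toMul (cj g v) : N) : G) = g * (Additive.toMul v : N) * g⁻¹ := fun g v =>
    MulAut.conjNormal_apply g (Additive.toMul v)
  have hext : ∀ {v w : Additive N},
      ((Additive.toMul v : N) : G) = ((Additive.toMul w : N) : G) → v = w := fun h =>
    Additive.toMul.injective (Subtype.ext h)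
  let ψ : G →* Module.End (ZMod r) (Additive N) :=
    { toFun := cj
      map_one' := LinearMap.ext fun v => hext (by
        rw [hcj, Module.End.one_apply]; group)
      map_mul' := fun x y => LinearMap.ext fun v => hext (by
        rw [Module.End.mul_apply, hcj, hcj, hcj]; group) }
  have hψ : ∀ (g : G) (v : Additive N),
      ((Additive.toMul (ψ g v) : N) : G) = g * (Additive.toMul v : N) * g⁻¹ := hcj
  have : Nontrivial (Additive N) := by
    have := (Subgroup.nontrivial_iff_ne_bot N).2 hNne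
    infer_instance
  have hψfix : ∀ a ∈ T, a ≠ 1 → ∀ v : Additive N, ψ a v = v → v = 0 := by
    intro a ha ha1 v hv
    apply hext
    have := congrArg (fun w : Additive N => ((Additive.toMul w : N) : G)) hv
    simp only [hψ] at this
    exact hTfix a ha ha1 _ (Additive.toMul v).2 this
  have hψpow : ∀ a ∈ T, (ψ a) ^ q = 1 := fun a ha => by rw [← map_pow, hTexp a ha, map_one]
  -- `q` divides the number of points moved
  have hfixpts : Nat.card T ∣ r ^ d - 1 := by
    let P : SubMulAction T Ω :=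
      { carrier := {x | x ≠ α}
        smul_mem' := fun f x hx hcon => hx (MulAction.injective (f : G)
          (hcon.trans (MulAction.mem_stabilizer_iff.1 (hTle f.2)).symm)) }
    have h := Recog.card_dvd_of_free (M := T) (X := P) fun m x hmx =>
      Subtype.ext (hfree x x.2 m m.2 (congrArg Subtype.val hmx))
    have hP : Nat.card P = Fintype.card Ω - 1 := by
      show Nat.card {x : Ω // x ≠ α} = _
      rw [Nat.card_eq_fintype_card, Fintype.card_subtype_compl, Fintype.card_subtype_eq]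
    rwa [hP, hcard] at h
  have hqT : q ∣ Nat.card T := by
    obtain ⟨⟨a, ha⟩, ha1⟩ := Subgroup.ne_bot_iff_exists_ne_one.1 hTne
    have hord : orderOf a = q :=
      orderOf_eq_prime (hTexp a ha) fun h => ha1 (Subtype.ext h)
    rw [← hord]
    exact (Subgroup.orderOf_coe (⟨a, ha⟩ : T)) ▸ orderOf_dvd_natCard _
  have hqp : q ≠ r := by
    intro h
    have h1 : q ∣ r ^ d - 1 := hqT.trans hfixpts
    have h2 : q ∣ r ^ d := h ▸ dvd_pow_self r hd.ne'
    have h3 : 0 < r ^ d := pow_pos hp.pos d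
    have h4 := Nat.dvd_sub h2 h1
    rw [Nat.sub_sub_self h3, Nat.dvd_one] at h4
    exact hq.one_lt.ne' h4
  have hTq : Nat.card T = q := by
    obtain ⟨⟨b, hb⟩, hb1⟩ := Subgroup.ne_bot_iff_exists_ne_one.1 hTne
    have hb1' : b ≠ 1 := fun h => hb1 (Subtype.ext h)
    have hbo : orderOf b = q := orderOf_eq_prime (hTexp b hb) hb1'
    suffices hle : T ≤ Subgroup.zpowers b by
      rw [← le_antisymm (Subgroup.zpowers_le.2 hb) hle, Nat.card_zpowers, hbo]
    intro a ha
    by_contra hab
    obtain ⟨v, hv, hfix⟩ := Recog.exists_fixed_of_rank_two (p := r) hqp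
      (A := ψ a) (B := ψ b) (by
        show ψ a * ψ b = ψ b * ψ a
        rw [← map_mul, ← map_mul, hTc a ha b hb]) (hψpow a ha) (hψpow b hb)
    rcases hfix with h | ⟨j, h⟩
    · exact hv (hψfix b hb hb1' v h)
    · refine hv (hψfix (a * b ^ j) (mul_mem ha (pow_mem hb j)) (fun he => hab ?_) v
        (by rwa [map_mul, map_pow]))
      rw [eq_inv_of_mul_eq_one_left he]
      exact inv_mem (Subgroup.npow_mem_zpowers b j)
  refine ⟨q, hq, fun ω hω => (hsize ω hω).trans hTq, hqT.trans hfixpts, ?_⟩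
  obtain ⟨⟨t, ht⟩, ht1⟩ := Subgroup.ne_bot_iff_exists_ne_one.1 hTne
  have ht1' : t ≠ 1 := fun h => ht1 (Subtype.ext h)
  have htgen : ∀ a ∈ T, ∃ k : ℕ, t ^ k = a := by
    intro a ha
    have hto : orderOf t = q := orderOf_eq_prime (hTexp t ht) ht1'
    have : Subgroup.zpowers t = T := Subgroup.eq_of_le_of_card_ge (Subgroup.zpowers_le.2 ht)
      (by rw [Nat.card_zpowers, hto, hTq])
    rw [← this] at ha
    exact mem_powers_iff_mem_zpowers.2 ha
  have horb := hep'.orbit_eq hTne hTle hTn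
  set H₁ : Subgroup G := S ⊓ MulAction.stabilizer G x₀ with hH₁
  -- no proper subgroup of `N` is invariant under `T`
  have hirr : ∀ W : Submodule (ZMod r) (Additive N), (∀ w ∈ W, ψ t w ∈ W) → W = ⊥ ∨ W = ⊤ := by
    intro W hW
    by_cases hWb : W = ⊥
    · exact Or.inl hWb
    right
    let L : Subgroup G :=
      { carrier := {n | ∃ h : n ∈ N, Additive.ofMul (⟨n, h⟩ : N) ∈ W}
        one_mem' := ⟨one_mem N, W.zero_mem⟩
        mul_mem' := fun {a b} ⟨ha, ha'⟩ ⟨hb, hb'⟩ => ⟨mul_mem ha hb, W.add_mem ha' hb'⟩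
        inv_mem' := fun {a} ⟨ha, ha'⟩ => ⟨inv_mem ha, W.neg_mem ha'⟩ }
    have hWk : ∀ k : ℕ, ∀ w ∈ W, ψ (t ^ k) w ∈ W := by
      intro k
      induction k with
      | zero => intro w hw; rwa [pow_zero, map_one, Module.End.one_apply]
      | succ k ih => intro w hw; rw [pow_succ', map_mul, Module.End.mul_apply]; exact hW _ (ih w hw)
    have hLT : ∀ a ∈ T, ∀ n ∈ L, a * n * a⁻¹ ∈ L := by
      rintro a ha n ⟨hn, hn'⟩
      obtain ⟨k, rfl⟩ := htgen a ha
      refine ⟨hNn.conj_mem n hn _, ?_⟩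
      have := hWk k _ hn'
      have he : ψ (t ^ k) (Additive.ofMul (⟨n, hn⟩ : N)) =
          Additive.ofMul (⟨t ^ k * n * (t ^ k)⁻¹, hNn.conj_mem n hn _⟩ : N) := hext (hψ _ _)
      rwa [he] at this
    have hLn : L.Normal := by
      refine ⟨fun l hl g => ?_⟩
      obtain ⟨n, hn⟩ := MulAction.exists_smul_eq N α (g • α)
      set k := (n : G)⁻¹ * g with hk
      have hkS : k ∈ S := by
        rw [hS, MulAction.mem_stabilizer_iff, hk, mul_smul, inv_smul_eq_iff]
        exact hn.symm
      obtain ⟨hlN, hlW⟩ := hl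
      have hkl : k * l * k⁻¹ ∈ L := by
        by_cases hlx : l • α = α
        · have : (⟨l, hlN⟩ : N) = 1 := hreg _ _ (by rw [Subgroup.coe_one, one_smul]; exact hlx)
          have hl1 : l = 1 := congrArg Subtype.val this
          rw [hl1, mul_one, mul_inv_cancel]; exact one_mem L
        obtain ⟨m, hm, hme⟩ := (horb _ hlx).2 k hkS
        have he : (⟨k * l * k⁻¹, hNn.conj_mem l hlN k⟩ : N) = ⟨m * l * m⁻¹, hNn.conj_mem l hlN m⟩ :=
          hreg _ _ (by
            show (k * l * k⁻¹) • α = (m * l * m⁻¹) • α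
            rw [hpt k hkS, hpt m (hTle hm), hme])
        have he' : k * l * k⁻¹ = m * l * m⁻¹ := congrArg Subtype.val he
        rw [he']
        exact hLT m hm l ⟨hlN, hlW⟩
      obtain ⟨hklN, hklW⟩ := hkl
      have hc : (n : G) * (k * l * k⁻¹) = k * l * k⁻¹ * n :=
        congrArg Subtype.val (hcommN n ⟨_, hklN⟩)
      have : g * l * g⁻¹ = k * l * k⁻¹ := by
        calc g * l * g⁻¹ = (n : G) * (k * l * k⁻¹) * (n : G)⁻¹ := by rw [hk]; group
          _ = k * l * k⁻¹ := by rw [hc, mul_inv_cancel_right]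
      rw [this]; exact ⟨hklN, hklW⟩
    have hLne : L ≠ ⊥ := by
      obtain ⟨w, hw, hw0⟩ := Submodule.exists_mem_ne_zero_of_ne_bot hWb
      intro h
      have hmem : ((Additive.toMul w : N) : G) ∈ L := ⟨(Additive.toMul w).2, hw⟩
      rw [h, Subgroup.mem_bot] at hmem
      exact hw0 (hext hmem)
    have := Recog.isPretransitive_of_normal (Ω := Ω) hLn hLne
    rw [Submodule.eq_top_iff']
    intro w
    obtain ⟨⟨l, hlN, hlW⟩, hl⟩ := MulAction.exists_smul_eq L α (((Additive.toMul w : N) : G) • α)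
    have he : (⟨l, hlN⟩ : N) = Additive.toMul w := hreg _ _ hl
    rw [he] at hlW
    exact hlW
  -- the stabiliser of two points
  have hψ1 : ψ t ≠ 1 := by
    intro h
    obtain ⟨v, hv⟩ := exists_ne (0 : Additive N)
    exact hv (hψfix t ht ht1' v (by rw [h, Module.End.one_apply]))
  have hfin : Module.finrank (ZMod r) (Additive N) = d := by
    have h := Module.natCard_eq_pow_finrank (K := ZMod r) (V := Additive N)
    rw [Nat.card_zmod, Nat.card_congr Additive.toMul, hNcard] at h
    exact ((Nat.pow_right_injective hp.two_le) h).symm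
  obtain ⟨hprim', hcyc, hKcard⟩ := Recog.irreducible_cyclic (p := r) (q := q) (A := ψ t)
    (hψpow t ht) hψ1 hirr (ψ.comp H₁.subtype)
    (fun k => by
      obtain ⟨a, ha⟩ := htgen _ (hTn (k : G) k.2.1 t ht)
      refine ⟨a, ?_⟩
      show ψ (k : G) * ψ t = (ψ t) ^ a * ψ (k : G)
      rw [← map_pow, ha, ← map_mul, ← map_mul, inv_mul_cancel_right])
    (fun k hk => by
      have hk' : (k : G) * t = t * k := by
        have h2 : ψ ((k : G) * t * (k : G)⁻¹ * t⁻¹) = 1 := by
          have h3 : ψ (k : G) * ψ t = ψ t * ψ (k : G) := hk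
          rw [map_mul, map_mul, map_mul, h3, mul_assoc (ψ t), ← map_mul ψ (k : G),
            mul_inv_cancel, map_one, mul_one, ← map_mul, mul_inv_cancel, map_one]
        have hin : (k : G) * t * (k : G)⁻¹ * t⁻¹ ∈ T := mul_mem (hTn _ k.2.1 t ht) (inv_mem ht)
        have : (k : G) * t * (k : G)⁻¹ * t⁻¹ = 1 := by
          by_contra hne
          obtain ⟨v, hv⟩ := exists_ne (0 : Additive N)
          exact hv (hψfix _ hin hne v (by rw [h2, Module.End.one_apply]))
        calc (k : G) * t = (k : G) * t * (k : G)⁻¹ * t⁻¹ * (t * k) := by group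
          _ = t * k := by rw [this, one_mul]
      refine Subtype.ext (hfree x₀ hx₀ (k : G) (hcent (k : G) k.2.1 ?_) k.2.2)
      intro a ha
      obtain ⟨j, rfl⟩ := htgen a ha
      exact (Commute.pow_right (show Commute (k : G) t from hk') j).eq)
  rw [hfin] at hprim' hKcard
  refine ⟨hprim', T, hTle, fun g hg => ?_, hTq, ?_, ?_⟩
  · refine Subgroup.mem_normalizer_iff.2 fun a => ⟨fun ha => hTn g hg a ha, fun ha => ?_⟩
    simpa [mul_assoc] using hTn g⁻¹ (inv_mem hg) _ ha
  · obtain ⟨⟨h, hh⟩, hgen⟩ := hcyc.exists_zpow_surjective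
    refine ⟨h, le_antisymm (fun g hg => ?_) (sup_le hTle (Subgroup.zpowers_le.2 hh.1))⟩
    obtain ⟨a, ha, hax⟩ := (horb x₀ hx₀).2 g hg
    have hk : a⁻¹ * g ∈ H₁ := Subgroup.mem_inf.2 ⟨mul_mem (inv_mem (hTle ha)) hg,
      MulAction.mem_stabilizer_iff.2 (by rw [mul_smul, ← hax, inv_smul_smul])⟩
    obtain ⟨j, hj⟩ := hgen ⟨_, hk⟩
    have : h ^ j = a⁻¹ * g := by simpa using congrArg Subtype.val hj
    rw [← mul_inv_cancel_left a g, ← this]
    exact mul_mem (Subgroup.mem_sup_left ha) (Subgroup.mem_sup_right ⟨j, rfl⟩)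
  · have e : Nat.card (MulAction.stabilizer S x₀) = Nat.card H₁ := by
      refine Nat.card_congr
        ⟨fun s => ⟨((s : S) : G), Subgroup.mem_inf.2 ⟨(s : S).2, s.2⟩⟩,
          fun s => ⟨⟨(s : G), (Subgroup.mem_inf.1 s.2).1⟩, (Subgroup.mem_inf.1 s.2).2⟩,
          fun s => rfl, fun s => rfl⟩
    have h1 := Subgroup.index_mul_card (MulAction.stabilizer S x₀)
    rw [MulAction.index_stabilizer, ← Nat.card_coe_set_eq, hsize x₀ hx₀, hTq, e] at h1
    rw [← h1]
    exact Nat.mul_dvd_mul_left q hKcard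

end Cfsg.Agent.S3496
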