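import Cfsg.Statements.S3497
import Cfsg.Agent.Lib.Recog.ExtremelyPrimitiveAbelian
import Cfsg.Agent.Lib.Recog.MinNormal
import Cfsg.Agent.Lib.Basics.Cores

set_option autoImplicit false
open Cfsg

namespace Cfsg.Agent.S3497

/-- Restrictions on the point stabilizer of an extremely primitive group. Let a finite group G act faithfully and primitively on a finite set Ω with point stabilizers H = G_α whose order is neither 1 nor a prime, each acting primitively on every one of its orbits. Then H has trivial center, the Fitting subgroup F(H) is an elementary abelian p-group for some prime p, and if F(H) ≠ 1 has order p ^ e then p ^ e divides the number of points minus one and H / F(H) embeds in GL_e(p) (there is a homomorphism from H to GL_e(p) with kernel exactly F(H)). -/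
theorem result {G : Type*} [Group G] [Finite G] {Ω : Type*} [Fintype Ω] [MulAction G Ω] [FaithfulSMul G Ω] (hprim : MulAction.IsPreprimitive G Ω) (hep : ∀ (α : Ω) (ω : Ω), MulAction.IsPreprimitive (MulAction.stabilizer G α) (MulAction.orbit (MulAction.stabilizer G α) ω)) (α : Ω)
    (hH1 : MulAction.stabilizer G α ≠ ⊥) (hHp : ¬ (Nat.card (MulAction.stabilizer G α)).Prime) :
    Subgroup.center (MulAction.stabilizer G α) = ⊥ ∧
    IsMulCommutative (Cfsg.fittingSubgroup (MulAction.stabilizer G α)) ∧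
    ∃ p e : ℕ, p.Prime ∧ Nat.card (Cfsg.fittingSubgroup (MulAction.stabilizer G α)) = p ^ e ∧
      (∀ x ∈ Cfsg.fittingSubgroup (MulAction.stabilizer G α), x ^ p = 1) ∧
      (Cfsg.fittingSubgroup (MulAction.stabilizer G α) ≠ ⊥ →
        p ^ e ∣ Fintype.card Ω - 1 ∧
        ∃ φ : MulAction.stabilizer G α →* GL (Fin e) (ZMod p), φ.ker = Cfsg.fittingSubgroup (MulAction.stabilizer G α)) := by
  classical
  have hep' : Recog.IsExtremelyPrim G Ω := hep
  set S := MulAction.stabilizer G α with hS
  obtain ⟨x₀, hx₀⟩ : ∃ x : Ω, x ≠ α := by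
    by_contra hall
    push Not at hall
    refine hH1 (eq_bot_iff.2 fun g _ => Subgroup.mem_bot.2 (eq_of_smul_eq_smul (α := Ω) fun x => ?_))
    rw [hall x, hall (g • α), one_smul]
  -- transport subgroups of the stabiliser to `G`
  have hab : ∀ A : Subgroup S, A.Normal → A ≠ ⊥ → (∀ a ∈ A, ∀ b ∈ A, a * b = b * a) →
      (∀ x : Ω, x ≠ α → ∀ a ∈ A, (a : G) • x = x → a = 1) ∧
      (∀ x : Ω, x ≠ α → Nat.card (MulAction.orbit S x) = Nat.card A) ∧
      Subgroup.centralizer (A : Set S) ≤ A := by
    intro A hAn hA1 hAc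
    have hinj : Function.Injective S.subtype := S.subtype_injective
    obtain ⟨h1, h2, h3⟩ := hep'.abelian_normal (α := α) (A := A.map S.subtype)
      (fun h => hA1 ((Subgroup.map_eq_bot_iff_of_injective _ hinj).1 h))
      (Subgroup.map_subtype_le A)
      (by
        rintro g hg _ ⟨a, ha, rfl⟩
        exact ⟨⟨g, hg⟩ * a * ⟨g, hg⟩⁻¹, hAn.conj_mem a ha _, rfl⟩)
      (by
        rintro _ ⟨a, ha, rfl⟩ _ ⟨b, hb, rfl⟩
        exact congrArg Subtype.val (hAc a ha b hb))
    refine ⟨fun x hx a ha hax => Subtype.ext (h1 x hx _ ⟨a, ha, rfl⟩ hax),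
      fun x hx => (h2 x hx).trans (Subgroup.card_map_of_injective hinj), fun c hc => ?_⟩
    obtain ⟨a, ha, hac⟩ := h3 c c.2 (by
      rintro _ ⟨a, ha, rfl⟩
      exact congrArg Subtype.val (Subgroup.mem_centralizer_iff.1 hc a ha).symm)
    exact (Subtype.ext hac : a = c) ▸ ha
  constructor
  · -- the centre is trivial
    by_contra hz
    obtain ⟨hfree, hcard, hC⟩ := hab (Subgroup.center S) inferInstance hz
      (fun a _ b hb => Subgroup.mem_center_iff.1 hb a)
    have htop : Subgroup.center S = ⊤ := eq_top_iff.2 fun s _ =>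
      hC (Subgroup.mem_centralizer_iff.2 fun a ha => (Subgroup.mem_center_iff.1 ha s).symm)
    apply hHp
    have hmax := hep'.isCoatom hH1 hx₀
    have hb : MulAction.stabilizer S x₀ = ⊥ := eq_bot_iff.2 fun s hs =>
      Subgroup.mem_bot.2 (hfree x₀ hx₀ s (htop ▸ Subgroup.mem_top s) hs)
    rw [hb] at hmax
    have : Nontrivial S := (Subgroup.nontrivial_iff_ne_bot S).2 hH1
    obtain ⟨p, hp, hpd⟩ := Nat.exists_prime_and_dvd (Finite.one_lt_card (α := S)).ne'
    have : Fact p.Prime := ⟨hp⟩
    obtain ⟨y, hy⟩ := exists_prime_orderOf_dvd_card' (G := S) p hpd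
    have htop' : Subgroup.zpowers y = ⊤ := hmax.2 _ (bot_lt_iff_ne_bot.2
      (Subgroup.zpowers_ne_bot.2 fun h => hp.one_lt.ne (by rw [← hy, h, orderOf_one])))
    rw [← Subgroup.card_top, ← htop', Nat.card_zpowers, hy]
    exact hp
  set F := Cfsg.fittingSubgroup S with hF
  by_cases hFb : F = ⊥
  · refine ⟨?_, 2, 0, Nat.prime_two, by rw [hFb, Subgroup.card_bot, pow_zero], ?_,
      fun h => absurd hFb h⟩
    · rw [hFb]
      exact ⟨⟨fun a b => Subsingleton.elim _ _⟩⟩
    · intro x hx
      rw [hFb, Subgroup.mem_bot] at hx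
      rw [hx, one_pow]
  have hFn : F.Normal := Basics.fittingSubgroup_normal
  have hFnil : Group.IsNilpotent F := Basics.fittingSubgroup_isNilpotent
  set Z : Subgroup S := (Subgroup.center F).map F.subtype with hZ
  have hZn : Z.Normal := ConjAct.normal_of_characteristic_of_normal
  have hZne : Z ≠ ⊥ := by
    intro h
    rw [hZ, Subgroup.map_eq_bot_iff_of_injective _ F.subtype_injective] at h
    have : Nontrivial F := (Subgroup.nontrivial_iff_ne_bot F).2 hFb
    exact Group.IsNilpotent.center_ne_bot F h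
  have hFeq : F = Z := le_antisymm (by
    obtain ⟨-, -, hC⟩ := hab Z hZn hZne (by
      rintro _ ⟨a, ha, rfl⟩ _ ⟨b, -, rfl⟩
      exact congrArg Subtype.val (Subgroup.mem_center_iff.1 ha b).symm)
    refine fun f hf => hC (Subgroup.mem_centralizer_iff.2 ?_)
    rintro _ ⟨a, ha, rfl⟩
    exact congrArg Subtype.val (Subgroup.mem_center_iff.1 ha ⟨f, hf⟩).symm)
    (Subgroup.map_subtype_le _)
  have hFc : ∀ a ∈ F, ∀ b ∈ F, a * b = b * a := by
    intro a ha b hb
    rw [hFeq] at ha
    obtain ⟨z, hz, rfl⟩ := ha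
    exact congrArg Subtype.val (Subgroup.mem_center_iff.1 hz ⟨b, hb⟩).symm
  obtain ⟨hfree, hcard, hC⟩ := hab F hFn hFb hFc
  have hcomm : IsMulCommutative F := ⟨⟨fun a b => Subtype.ext (hFc a a.2 b b.2)⟩⟩
  have hmin : Recog.IsMinNormal F := by
    refine ⟨hFn, hFb, fun A hA hAF => ?_⟩
    by_cases hA1 : A = ⊥
    · exact Or.inl hA1
    · refine Or.inr (le_antisymm hAF fun f hf => (hab A hA hA1 fun a ha b hb =>
        hFc a (hAF ha) b (hAF hb)).2.2 ?_)
      exact Subgroup.mem_centralizer_iff.2 fun a ha => hFc a (hAF ha) f hf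
  obtain ⟨p, hp, hexp⟩ := hmin.exists_prime_pow_eq_one hcomm
  have : Fact p.Prime := ⟨hp⟩
  have hpg : IsPGroup p F := fun x => ⟨1, by rw [pow_one]; exact Subtype.ext (hexp x x.2)⟩
  obtain ⟨e, he⟩ := IsPGroup.iff_card.1 hpg
  refine ⟨hcomm, p, e, hp, he, hexp, fun _ => ⟨?_, ?_⟩⟩
  · -- `F` is semiregular away from `α`
    let P : SubMulAction F Ω :=
      { carrier := {x | x ≠ α}
        smul_mem' := fun f x hx hcon => hx (MulAction.injective ((f : S) : G)
          (hcon.trans (MulAction.mem_stabilizer_iff.1 (f : S).2).symm)) }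
    have := Recog.card_dvd_of_free (M := F) (X := P) fun m x hmx =>
      Subtype.ext (hfree x x.2 m m.2 (congrArg Subtype.val hmx))
    rw [he] at this
    have hP : Nat.card P = Fintype.card Ω - 1 := by
      show Nat.card {x : Ω // x ≠ α} = _
      rw [Nat.card_eq_fintype_card, Fintype.card_subtype_compl, Fintype.card_subtype_eq]
    rwa [hP] at this
  · obtain ⟨φ, hφ⟩ := Recog.exists_hom_gl F hFc hexp he
    exact ⟨φ, hφ.trans (le_antisymm hC fun f hf =>
      Subgroup.mem_centralizer_iff.2 fun a ha => hFc a ha f hf)⟩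

end Cfsg.Agent.S3497
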