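import Cfsg.Statements.S3498
import Cfsg.Agent.Lib.Recog.CentralizerPartition

set_option autoImplicit false
open Cfsg

open scoped Pointwise

namespace Cfsg.Agent.S3498

/-- A maximal subgroup of a finite almost simple group does not have prime order. Here G is almost simple in the sense that it has a non-abelian simple normal subgroup T with trivial centralizer. -/
theorem result {G : Type*} [Group G] [Finite G] (T : Subgroup G) [T.Normal] (hT : IsSimpleGroup T) (hTc : ¬ IsMulCommutative T)
    (hC : Subgroup.centralizer (T : Set G) = ⊥) (H : Subgroup G) (hmax : IsCoatom H) : ¬ (Nat.card H).Prime := by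
  classical
  intro hp
  set p := Nat.card H with hpdef
  have : Fact p.Prime := ⟨hp⟩
  have hHbot : H ≠ ⊥ := by
    intro h
    rw [hpdef, h, Subgroup.card_bot] at hp
    exact Nat.not_prime_one hp
  have hTbot : T ≠ ⊥ := fun h => hTc (by
    have : Subsingleton T := by rw [h]; infer_instance
    exact ⟨⟨fun a b => Subsingleton.elim _ _⟩⟩)
  have hcases : ∀ K : Subgroup G, K ≤ H → K = ⊥ ∨ K = H := fun K hK => by
    rcases (Nat.dvd_prime hp).1 (Subgroup.card_dvd_of_le hK) with h | h
    · exact Or.inl (Subgroup.card_eq_one.1 h)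
    · exact Or.inr (Subgroup.eq_of_le_of_card_ge hK h.ge)
  have hHcomm : ∀ a ∈ H, ∀ b ∈ H, a * b = b * a := fun a ha b hb => by
    have : IsCyclic H := isCyclic_of_prime_card rfl
    exact congrArg Subtype.val ((IsCyclic.isMulCommutative (α := H)).is_comm.comm ⟨a, ha⟩ ⟨b, hb⟩)
  by_cases hHT : H ≤ T
  · -- then `G = T`
    have hTtop : T = ⊤ := by
      rcases hHT.lt_or_eq with h | h
      · exact hmax.2 T h
      · exfalso
        apply hTc
        rw [← h]
        exact ⟨⟨fun a b => Subtype.ext (hHcomm a a.2 b b.2)⟩⟩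
    subst hTtop
    have hs : IsSimpleGroup G := Subgroup.topEquiv.symm.isSimpleGroup
    have hnc : ¬ IsMulCommutative G := fun h => hTc ⟨⟨fun a b => Subtype.ext (h.is_comm.comm a b)⟩⟩
    have hN : Subgroup.normalizer (H : Set G) = H := by
      rcases (Subgroup.le_normalizer (H := H)).lt_or_eq with h | h
      · exfalso
        have hn : H.Normal := Subgroup.normalizer_eq_top_iff.1 (hmax.2 _ h)
        rcases hs.eq_bot_or_eq_top_of_normal H hn with h | h
        · exact hHbot h
        · exact hmax.1 h
      · exact h.symm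
    have hfac : (Nat.card G).factorization p = 1 := by
      have h1 : 1 ≤ (Nat.card G).factorization p :=
        (hp.pow_dvd_iff_le_factorization Nat.card_pos.ne').1
          (by rw [pow_one]; exact Subgroup.card_subgroup_dvd_card H)
      by_contra hne
      have h2 : p ^ 2 ∣ Nat.card G :=
        (hp.pow_dvd_iff_le_factorization Nat.card_pos.ne').2 (by omega)
      have h3 := Sylow.prime_pow_dvd_card_normalizer (n := 1) h2 (H := H) (by rw [pow_one])
      rw [hN] at h3
      have h4 := Nat.le_of_dvd Nat.card_pos h3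
      rw [← hpdef] at h4
      exact absurd h4 (not_le.2 (lt_self_pow₀ hp.one_lt (by norm_num)))
    let P : Sylow p G := Sylow.ofCard H (by rw [hfac, pow_one])
    refine Recog.false_of_normalizer_le_centralizer hs hnc P hHbot ?_
    intro g hg
    have hgH : g ∈ H := hN.le hg
    exact Subgroup.mem_centralizer_iff.2 fun a ha => hHcomm a ha g hgH
  · have hinf : T ⊓ H = ⊥ := (hcases _ inf_le_right).resolve_right
      fun h => hHT (h.ge.trans inf_le_left)
    have htopTH : T ⊔ H = ⊤ := hmax.2 _ (lt_of_le_of_ne le_sup_right fun h => hTbot (by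
      have hle : T ≤ H := le_trans le_sup_left h.ge
      rw [← inf_eq_left.2 hle, hinf]))
    -- `H` fixes only the identity of `T`
    have hfp : ∀ t ∈ T, (∀ h ∈ H, h * t = t * h) → t = 1 := by
      intro t ht hc
      by_contra ht1
      have hnH : H.Normal := by
        rw [← Subgroup.normalizer_eq_top_iff]
        refine hmax.2 _ (lt_of_le_of_ne Subgroup.le_normalizer fun h => ht1 ?_)
        have htn : t ∈ Subgroup.normalizer (H : Set G) := by
          refine Subgroup.mem_normalizer_iff.2 fun a => ⟨fun ha => ?_, fun ha => ?_⟩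
          · rw [← hc a ha, mul_inv_cancel_right]; exact ha
          · have := hc _ ha
            rw [inv_mul_cancel_right, mul_assoc t] at this
            have h2 : a = t * a * t⁻¹ :=
              (mul_left_cancel this).trans (mul_assoc _ _ _).symm
            rw [h2]; exact ha
        have : t ∈ T ⊓ H := ⟨ht, h.ge htn⟩
        rwa [hinf, Subgroup.mem_bot] at this
      refine hHbot (eq_bot_iff.2 ?_)
      rw [← hC]
      intro a ha
      refine Subgroup.mem_centralizer_iff.2 fun b hb => ?_
      exact (Subgroup.commute_of_normal_of_disjoint T H inferInstance hnH (disjoint_iff.2 hinf)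
        b a hb ha).eq
    let φ : H →* MulAut T := (MulAut.conjNormal (H := T)).comp H.subtype
    let _ : MulAction H T := MulAction.compHom T φ
    have hsmul : ∀ (h : H) (t : T), ((h • t : T) : G) = (h : G) * t * (h : G)⁻¹ := fun h t =>
      MulAut.conjNormal_apply (h : G) t
    have hHp : IsPGroup p H := IsPGroup.of_card (n := 1) (by rw [pow_one])
    have hpT : ¬ p ∣ Nat.card T := by
      intro hd
      obtain ⟨t, ht, ht1⟩ := hHp.exists_fixed_point_of_prime_dvd_card_of_fixed_point T hd
        (a := (1 : T)) (fun h => Subtype.ext (by rw [hsmul]; simp))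
      refine ht1 (Subtype.ext (hfp t t.2 fun h hh => ?_).symm)
      have := congrArg Subtype.val (ht ⟨h, hh⟩)
      rw [hsmul, mul_inv_eq_iff_eq_mul] at this
      exact this
    obtain ⟨q, hq, hqd⟩ := Nat.exists_prime_and_dvd
      (fun h : Nat.card T = 1 => hTbot (Subgroup.card_eq_one.1 h))
    have : Fact q.Prime := ⟨hq⟩
    let _ : MulAction H (Sylow q T) := MulAction.compHom (Sylow q T) φ
    have hfix : (MulAction.fixedPoints H (Sylow q T)).Nonempty := by
      refine hHp.nonempty_fixed_point_of_prime_not_dvd_card (Sylow q T) fun hd => hpT ?_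
      rw [Sylow.card_eq_index_normalizer default] at hd
      exact hd.trans (Subgroup.index_dvd_card _)
    obtain ⟨Q, hQ⟩ := hfix
    set Q' : Subgroup G := (Q : Subgroup T).map T.subtype with hQ'
    have hQne : (Q : Subgroup T) ≠ ⊥ := Q.ne_bot_of_dvd_card hqd
    have hQ'ne : Q' ≠ ⊥ := fun h =>
      hQne ((Subgroup.map_eq_bot_iff_of_injective _ T.subtype_injective).1 h)
    have hHQ : H ≤ Subgroup.normalizer (Q' : Set G) := by
      refine Subgroup.le_normalizer_iff.2 fun h hh x hx => ?_
      obtain ⟨y, hy, rfl⟩ := hx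
      have hQe : φ ⟨h, hh⟩ • Q = Q := hQ ⟨h, hh⟩
      refine ⟨φ ⟨h, hh⟩ y, ?_, MulAut.conjNormal_apply h y⟩
      have : φ ⟨h, hh⟩ y ∈ ((φ ⟨h, hh⟩ • Q : Sylow q T) : Subgroup T) := by
        rw [Sylow.pointwise_smul_def]
        exact Subgroup.smul_mem_pointwise_smul _ _ _ hy
      rwa [hQe] at this
    have hQn : Q'.Normal := by
      rw [← Subgroup.normalizer_eq_top_iff]
      refine hmax.2 _ (lt_of_le_of_ne hHQ fun h => hQ'ne (eq_bot_iff.2 ?_))
      rw [← hinf]
      exact le_inf (Subgroup.map_subtype_le _) (Subgroup.le_normalizer.trans h.ge)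
    have hQTn : (Q : Subgroup T).Normal := by
      refine ⟨fun x hx t => ?_⟩
      obtain ⟨y, hy, hye⟩ := hQn.conj_mem _ (⟨x, hx, rfl⟩ : (x : G) ∈ Q') t
      exact (Subtype.ext hye : y = t * x * t⁻¹) ▸ hy
    have hQtop : (Q : Subgroup T) = ⊤ :=
      (hT.eq_bot_or_eq_top_of_normal _ hQTn).resolve_left hQne
    have hTq : IsPGroup q T := fun t => by
      obtain ⟨k, hk⟩ := Q.2 ⟨t, by rw [hQtop]; trivial⟩
      exact ⟨k, congrArg Subtype.val hk⟩
    have := hT.toNontrivial
    have hz := hTq.center_nontrivial
    rw [Subgroup.nontrivial_iff_ne_bot] at hz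
    exact hz (Recog.center_eq_bot_of_simple hT hTc)

end Cfsg.Agent.S3498
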