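import Cfsg.Statements.S3501
import Cfsg.Agent.Lib.Recog.Affine

set_option autoImplicit false
open Cfsg

namespace Cfsg.Agent.S3501

/-- Let a finite group G act faithfully and primitively on a finite set Ω with at least two points, and suppose G is not almost simple (it has no non-abelian simple normal subgroup with trivial centralizer). Then the derangements of G form a single conjugacy class if and only if G is sharply 2-transitive (2-transitive, and no non-identity element fixes two points). -/
theorem result {G : Type*} [Group G] [Finite G] {Ω : Type*} [Fintype Ω] [MulAction G Ω] [FaithfulSMul G Ω] (hΩ : 2 ≤ Fintype.card Ω) (hprim : MulAction.IsPreprimitive G Ω) (hnas : ¬ ∃ T : Subgroup G, T.Normal ∧ IsSimpleGroup T ∧ ¬ IsMulCommutative T ∧ Subgroup.centralizer (T : Set G) = ⊥) :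
    Nat.card {c : ConjClasses G // ∃ g : G, ConjClasses.mk g = c ∧ ∀ ω : Ω, g • ω ≠ ω} = 1 ↔ (MulAction.IsMultiplyPretransitive G Ω 2 ∧ ∀ g : G, g ≠ 1 → ∀ a b : Ω, a ≠ b → g • a = a → g • b ≠ b) := by
  classical
  have := hprim
  have hΩ' : 2 ≤ Nat.card Ω := by rwa [Nat.card_eq_fintype_card]
  constructor
  · intro h1
    rcases Recog.primitive_cases (G := G) (Ω := Ω) hΩ' with ⟨N, hN, hc, hNt⟩ | h | ⟨⟨d, hd, hinj⟩, -⟩
    · have hone : ∀ u v : G, Recog.IsDerangement Ω u → Recog.IsDerangement Ω v → IsConj u v := by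
        intro u v hu hv
        by_contra hne
        have := Recog.card_derangementClasses_ge (Ω := Ω) ![u, v]
          (by intro i; fin_cases i <;> assumption)
          (by intro i j hij; fin_cases i <;> fin_cases j <;>
              first | rfl | exact absurd hij hne | exact absurd hij.symm hne)
        omega
      have hder : ∀ u ∈ N, u ≠ 1 → Recog.IsDerangement Ω u := fun u hu hu1 ω hω =>
        hu1 (Recog.eq_one_of_abelian hc hu hω)
      obtain ⟨u₀, hu₀, hu₀1⟩ : ∃ u ∈ N, u ≠ (1 : G) := by
        by_contra hne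
        push Not at hne
        exact hN.ne_bot ((Subgroup.eq_bot_iff_forall _).2 hne)
      refine ⟨Recog.two_transitive_of_conj hN.normal hc
        (fun u hu hu1 v hv hv1 => hone u v (hder u hu hu1) (hder v hv hv1)),
        fun g hg a b hab ha hb => hab ?_⟩
      refine Recog.fixedBy_le_one_of_derangements_mem hN.normal hc (fun d hd => ?_) hg ha hb
      obtain ⟨c, hcd⟩ := isConj_iff.1 (hone u₀ d (hder u₀ hu₀ hu₀1) hd)
      rw [← hcd]
      exact hN.normal.conj_mem u₀ hu₀ c
    · exact absurd h hnas
    · have := Recog.card_derangementClasses_ge (Ω := Ω) d hd hinj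
      omega
  · rintro ⟨h2, hs⟩
    have hfix : ∀ g : G, g ≠ 1 → ∀ a b : Ω, g • a = a → g • b = b → a = b :=
      fun g hg a b ha hb => by_contra fun hab => hs g hg a b hab ha hb
    rw [Nat.card_eq_one_iff_unique]
    constructor
    · refine ⟨?_⟩
      rintro ⟨c, g, rfl, hg⟩ ⟨c', g', rfl, hg'⟩
      exact Subtype.ext (ConjClasses.mk_eq_mk_iff_isConj.2
        (Recog.isConj_of_sharply_two_transitive h2 hΩ' hfix hg hg'))
    · obtain ⟨g, hg⟩ := Recog.exists_isDerangement (G := G) (Ω := Ω) (by omega)
      exact ⟨⟨ConjClasses.mk g, g, rfl, hg⟩⟩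

end Cfsg.Agent.S3501
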