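import Cfsg.Statements.S3504


set_option autoImplicit false
open Cfsg

namespace Cfsg.Agent.S3504

/-- For n ≥ 5, the fixed-point-free permutations of prime order in the symmetric group of degree n form a single conjugacy class if and only if n is a prime power. -/
theorem result (n : ℕ) (hn : 5 ≤ n) :
    Nat.card {c : ConjClasses (Equiv.Perm (Fin n)) // ∃ g : Equiv.Perm (Fin n), ConjClasses.mk g = c ∧ (orderOf g).Prime ∧ ∀ i : Fin n, g i ≠ i} = 1 ↔ IsPrimePow n := by
  classical
  let P : ConjClasses (Equiv.Perm (Fin n)) → Prop := fun c => ∃ g : Equiv.Perm (Fin n), ConjClasses.mk g = c ∧ (orderOf g).Prime ∧ ∀ i : Fin n, g i ≠ i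
  have key : ∀ g : Equiv.Perm (Fin n), (orderOf g).Prime → (∀ i, g i ≠ i) →
      g.cycleType = Multiset.replicate (n / orderOf g) (orderOf g) ∧ orderOf g ∈ n.primeFactors := by
    intro g hg hf
    obtain ⟨m, hm⟩ := Equiv.Perm.cycleType_prime_order hg
    have hs := g.sum_cycleType
    rw [Finset.eq_univ_of_forall (fun i => Equiv.Perm.mem_support.2 (hf i)), Finset.card_univ,
      Fintype.card_fin, hm, Multiset.sum_replicate, smul_eq_mul] at hs
    refine ⟨?_, Nat.mem_primeFactors.2 ⟨hg, Dvd.intro_left _ hs, by omega⟩⟩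
    rw [hm, show n / orderOf g = m + 1 from Nat.div_eq_of_eq_mul_left hg.pos hs.symm]
  have hex : ∀ p ∈ n.primeFactors, ∃ g : Equiv.Perm (Fin n), orderOf g = p ∧ ∀ i, g i ≠ i := by
    intro p hp
    obtain ⟨hp, hpn, -⟩ := Nat.mem_primeFactors.1 hp
    obtain ⟨g, hg⟩ := (Equiv.Perm.exists_with_cycleType_iff (Fin n) (m := Multiset.replicate (n / p) p)).2
      ⟨by rw [Multiset.sum_replicate, smul_eq_mul, Nat.div_mul_cancel hpn, Fintype.card_fin],
        fun a ha => by rw [Multiset.eq_of_mem_replicate ha]; exact hp.two_le⟩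
    have hne : n / p ≠ 0 := (Nat.div_pos (Nat.le_of_dvd (by omega) hpn) hp.pos).ne'
    refine ⟨g, ?_, fun i => ?_⟩
    · rw [← Equiv.Perm.lcm_cycleType, hg]
      obtain ⟨m, hm⟩ := Nat.exists_eq_succ_of_ne_zero hne
      rw [hm]
      refine Nat.dvd_antisymm (Multiset.lcm_dvd.2 fun b hb => by rw [Multiset.eq_of_mem_replicate hb]) ?_
      exact Multiset.dvd_lcm (by simp [Multiset.mem_replicate])
    · have hs := g.sum_cycleType
      rw [hg, Multiset.sum_replicate, smul_eq_mul, Nat.div_mul_cancel hpn] at hs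
      have hu : g.support = Finset.univ := Finset.eq_univ_of_card _ (by rw [← hs, Fintype.card_fin])
      exact Equiv.Perm.mem_support.1 (hu ▸ Finset.mem_univ i)
  choose g hg1 hg2 using hex
  let F : n.primeFactors → {c : ConjClasses (Equiv.Perm (Fin n)) // P c} := fun p =>
    ⟨ConjClasses.mk (g p.1 p.2), g p.1 p.2, rfl, by rw [hg1]; exact (Nat.mem_primeFactors.1 p.2).1, hg2 _ _⟩
  have hF : Function.Bijective F := by
    constructor
    · intro p q h
      have h' := ConjClasses.mk_eq_mk_iff_isConj.1 (congrArg Subtype.val h)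
      obtain ⟨c, hc⟩ := isConj_iff.1 h'
      have := congrArg orderOf hc
      rw [← MulAut.conj_apply, MulEquiv.orderOf_eq, hg1, hg1] at this
      exact Subtype.ext this
    · rintro ⟨_, h, rfl, hp, hf⟩
      obtain ⟨h1, h2⟩ := key h hp hf
      refine ⟨⟨orderOf h, h2⟩, Subtype.ext (ConjClasses.mk_eq_mk_iff_isConj.2 ?_)⟩
      rw [Equiv.Perm.isConj_iff_cycleType_eq, h1]
      have := (key (g _ h2) (by rw [hg1]; exact hp) (hg2 _ h2)).1
      rw [hg1] at this
      exact this
  rw [show Nat.card {c : ConjClasses (Equiv.Perm (Fin n)) // P c} = _ from (Nat.card_eq_of_bijective F hF).symm]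
  rw [Nat.card_eq_finsetCard, isPrimePow_iff_card_primeFactors_eq_one]

end Cfsg.Agent.S3504
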