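import Cfsg.Statements.S3508
import Cfsg.Agent.Lib.Recog.UnipotentGeomSum

set_option autoImplicit false
open Cfsg

namespace Cfsg.Agent.S3508

/-- Let a finite group G act faithfully on a set Ω with p ^ m points (p prime) and have an elementary abelian normal p-subgroup N acting regularly on Ω (so G is a group of affine transformations of an m-dimensional space over the field with p elements). If G contains an element of order p ^ r with r ≥ 1, then p ^ (r − 1) ≤ m. In particular an element of order p ^ m forces m ≤ 2, and m ≤ 1 when p is odd. -/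
theorem result {G : Type*} [Group G] [Finite G] {Ω : Type*} [Fintype Ω] [MulAction G Ω] [FaithfulSMul G Ω] (p m : ℕ) (hp : p.Prime) (hcard : Fintype.card Ω = p ^ m)
    (N : Subgroup G) [N.Normal] (hNc : IsMulCommutative N) (hNp : ∀ n ∈ N, n ^ p = 1)
    (hNtr : MulAction.IsPretransitive N Ω) (hNreg : ∀ ω : Ω, MulAction.stabilizer N ω = ⊥)
    (g : G) (r : ℕ) (hr : 1 ≤ r) (hg : orderOf g = p ^ r) :
    p ^ (r - 1) ≤ m ∧ (r = m → m ≤ 2 ∧ (2 < p → m ≤ 1)) := by
  classical
  haveI := Fact.mk hp
  obtain ⟨ω⟩ : Nonempty Ω := Fintype.card_pos_iff.1 (by rw [hcard]; exact pow_pos hp.pos m)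
  have hN : Nat.card N = p ^ m := by
    rw [← hcard, ← Nat.card_eq_fintype_card]
    refine Nat.card_eq_of_bijective (fun n : N => n • ω) ⟨fun a b h => ?_, fun x => MulAction.exists_smul_eq N ω x⟩
    have : b⁻¹ * a ∈ MulAction.stabilizer N ω := by
      show (b⁻¹ * a) • ω = ω
      rw [mul_smul, show a • ω = b • ω from h, inv_smul_smul]
    rw [hNreg ω, Subgroup.mem_bot] at this
    exact (inv_mul_eq_one.1 this).symm
  have hc : ∀ a b : N, a * b = b * a := hNc.is_comm.comm
  letI : CommGroup N := { (inferInstance : Group N) with mul_comm := hc }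
  let f : AddMonoid.End (Additive N) := MonoidHom.toAdditive (MulAut.conjNormal g : MulAut N).toMonoidHom
  have hconj : ∀ (i : ℕ) (n : N), (f ^ i) (Additive.ofMul n) = Additive.ofMul (MulAut.conjNormal (g ^ i) n) := by
    intro i
    induction i with
    | zero => intro n; rw [pow_zero, pow_zero, map_one]; rfl
    | succ i ih =>
      intro n
      rw [pow_succ', pow_succ', map_mul, MulAut.mul_apply]
      show f ((f ^ i) (Additive.ofMul n)) = _
      rw [ih]
      rfl
  have hf : f ^ p ^ r = 1 := by
    refine AddMonoidHom.ext fun v => ?_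
    obtain ⟨n, rfl⟩ := Additive.ofMul.surjective v
    refine (hconj _ n).trans ?_
    rw [← hg, pow_orderOf_eq_one, map_one]
    rfl
  have main : p ^ (r - 1) ≤ m := by
    by_contra hlt
    set q := p ^ (r - 1) with hq
    have hgeom : ∀ x, ∑ i ∈ Finset.range q, (f ^ i) x = 0 := fun x =>
      Recog.UnipotentGeomSum.geom_sum_eq_zero (p := p) (A := Additive N) (fun y => by
        show Additive.toMul y ^ p = 1
        exact Subtype.ext (by rw [Subgroup.coe_pow]; exact hNp _ (Additive.toMul y).2)) hN f r (r - 1) hf (by omega) x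
    obtain ⟨n, hn⟩ := MulAction.exists_smul_eq N ω (g • ω)
    set h := (n : G)⁻¹ * g with hh
    have hhω : h • ω = ω := by
      rw [hh, mul_smul, ← hn]; exact inv_smul_smul (n : G) ω
    have e1 : g = (n : G) * h := by rw [hh, mul_inv_cancel_left]
    have hcn : ∀ i : ℕ, g ^ i = (Additive.toMul (∑ j ∈ Finset.range i, (f ^ j) (Additive.ofMul n)) : N) * h ^ i := by
      intro i
      induction i with
      | zero => simp
      | succ i ih =>
        rw [Finset.sum_range_succ, hconj, toMul_add, toMul_ofMul, hc, Subgroup.coe_mul, MulAut.conjNormal_apply]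
        calc g ^ (i + 1) = g ^ i * ((n : G) * h) := by rw [← e1, pow_succ]
          _ = g ^ i * (n : G) * (g ^ i)⁻¹ * (g ^ i * h) := by group
          _ = g ^ i * (n : G) * (g ^ i)⁻¹ *
              ((Additive.toMul (∑ j ∈ Finset.range i, (f ^ j) (Additive.ofMul n)) : N) * h ^ i * h) := by rw [← ih]
          _ = _ := by rw [pow_succ h i]; simp only [mul_assoc]
    have hq1 := hcn q
    rw [hgeom, toMul_zero, Subgroup.coe_one, one_mul] at hq1
    have hfq : ∀ x, (f ^ q) x = x := by
      intro x
      have h1 := hgeom (f x)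
      have h2 := hgeom x
      have h3 := Finset.sum_range_sub (fun i => (f ^ i) x) q
      rw [Finset.sum_sub_distrib] at h3
      have h4 : ∑ i ∈ Finset.range q, (f ^ (i + 1)) x = 0 := by
        rw [← h1]; exact Finset.sum_congr rfl fun i _ => by rw [pow_succ]; rfl
      rw [h4, h2, sub_zero] at h3
      exact sub_eq_zero.1 h3.symm
    have hgq : g ^ q = 1 := by
      refine FaithfulSMul.eq_of_smul_eq_smul (α := Ω) fun x => ?_
      obtain ⟨v, rfl⟩ := MulAction.exists_smul_eq N ω x
      have hfix : g ^ q • ω = ω := by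
        rw [hq1]
        exact MulAction.mem_stabilizer_iff.1 (pow_mem (MulAction.mem_stabilizer_iff.2 hhω) q)
      have hcent : g ^ q * (v : G) * (g ^ q)⁻¹ = v := by
        have h2 := hconj q v
        rw [hfq] at h2
        have h3 := congrArg Subtype.val (Additive.ofMul.injective h2)
        rw [MulAut.conjNormal_apply] at h3
        exact h3.symm
      rw [one_smul]
      show g ^ q • (v : G) • ω = (v : G) • ω
      rw [smul_smul, mul_inv_eq_iff_eq_mul.1 hcent, mul_smul, hfix]
    have h4 := Nat.le_of_dvd (pow_pos hp.pos _) (orderOf_dvd_of_pow_eq_one hgq)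
    rw [hg] at h4
    have := (Nat.pow_le_pow_iff_right hp.one_lt).1 h4
    omega
  refine ⟨main, fun hrm => ?_⟩
  subst hrm
  have grow : ∀ b : ℕ, 2 ≤ b → ∀ j : ℕ, b * j ≤ b ^ j := by
    intro b hb j
    induction j with
    | zero => simp
    | succ j ih =>
      rcases Nat.eq_zero_or_pos j with rfl | hj
      · simp
      rw [pow_succ']
      calc b * (j + 1) ≤ b * (b * j) := Nat.mul_le_mul_left b (by nlinarith)
        _ ≤ b * b ^ j := Nat.mul_le_mul_left b ih
  have h1 := grow p hp.two_le (r - 1)
  refine ⟨?_, fun hp3 => ?_⟩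
  · have : 2 * (r - 1) ≤ p * (r - 1) := Nat.mul_le_mul_right _ hp.two_le
    omega
  · have : 3 * (r - 1) ≤ p * (r - 1) := Nat.mul_le_mul_right _ hp3
    omega

end Cfsg.Agent.S3508
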