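import Cfsg.Statements.S3511
import Mathlib

set_option autoImplicit false
open Cfsg

namespace Cfsg.Agent.S3511

/-- Let a finite group G act faithfully on a set Ω. If every element of G of square-free order has a regular cycle (an orbit of the cyclic group it generates with trivial stabilizer), then every element of G has a regular cycle. -/
theorem result {G : Type*} [Group G] [Finite G] {Ω : Type*} [MulAction G Ω] [FaithfulSMul G Ω]
    (h : ∀ g : G, Squarefree (orderOf g) → ∃ ω : Ω, MulAction.stabilizer (Subgroup.zpowers g) ω = ⊥) (g : G) :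
    ∃ ω : Ω, MulAction.stabilizer (Subgroup.zpowers g) ω = ⊥ := by
  classical
  by_cases hg1 : g = 1
  · subst hg1
    obtain ⟨ω, hω⟩ := h 1 (by rw [orderOf_one]; exact squarefree_one)
    exact ⟨ω, hω⟩
  set n := orderOf g with hn
  have hn0 : n ≠ 0 := (orderOf_pos g).ne'
  let r := ∏ p ∈ n.primeFactors, p
  have hrd : r ∣ n := Nat.prod_primeFactors_dvd n
  have hr0 : r ≠ 0 := fun e => hn0 (by simpa [e] using hrd)
  set k := g ^ (n / r)
  have hk : orderOf k = r := by
    show orderOf (g ^ (n / r)) = r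
    rw [orderOf_pow' g (Nat.div_pos (Nat.le_of_dvd (Nat.pos_of_ne_zero hn0) hrd) (Nat.pos_of_ne_zero hr0)).ne',
      ← hn, Nat.gcd_eq_right (Nat.div_dvd_of_dvd hrd), Nat.div_div_self hrd hn0]
  obtain ⟨ω, hω⟩ := h k (by
    rw [hk]
    refine Nat.squarefree_iff_prime_squarefree.2 fun q hq hqq => ?_
    have hmem : q ∈ n.primeFactors := by
      obtain ⟨p, hp, hqp⟩ := (hq.prime.dvd_finsetProd_iff _).1 ((dvd_mul_left q q).trans hqq)
      rw [(Nat.prime_dvd_prime_iff_eq hq (Nat.prime_of_mem_primeFactors hp)).1 hqp]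
      exact hp
    have he : r = q * ∏ p ∈ n.primeFactors.erase q, p := (Finset.mul_prod_erase _ _ hmem).symm
    rw [he] at hqq
    obtain ⟨p, hp, hqp⟩ := (hq.prime.dvd_finsetProd_iff _).1 (Nat.dvd_of_mul_dvd_mul_left hq.pos hqq)
    rw [Finset.mem_erase] at hp
    exact hp.1 ((Nat.prime_dvd_prime_iff_eq hq (Nat.prime_of_mem_primeFactors hp.2)).1 hqp).symm)
  refine ⟨ω, ?_⟩
  by_contra hne
  set K := (MulAction.stabilizer (Subgroup.zpowers g) ω).map (Subgroup.zpowers g).subtype with hK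
  have hKne : K ≠ ⊥ := fun e => hne ((Subgroup.map_eq_bot_iff_of_injective _ (Subgroup.subtype_injective _)).1 e)
  have : Nontrivial K := (Subgroup.nontrivial_iff_ne_bot K).2 hKne
  obtain ⟨q, hq, hqd⟩ := Nat.exists_prime_and_dvd (Finite.one_lt_card (α := K)).ne'
  have := Fact.mk hq
  obtain ⟨x, hx⟩ := exists_prime_orderOf_dvd_card' (G := K) q hqd
  obtain ⟨y, hy, hyx⟩ := x.2
  have hxg : (x : G) ∈ Subgroup.zpowers g := hyx ▸ y.2
  have hxfix : (x : G) • ω = ω := hyx ▸ hy
  rw [← Subgroup.orderOf_coe] at hx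
  obtain ⟨j, hj⟩ := ((mem_zpowers_iff_mem_range_orderOf (x := g)).1 hxg |> fun hh => (Finset.mem_image.1 hh).imp fun a ha => ha.2)
  have hxk : (x : G) ∈ Subgroup.zpowers k := by
    have hqn : q ∈ n.primeFactors := Nat.mem_primeFactors.2 ⟨hq, hx ▸ orderOf_dvd_of_mem_zpowers hxg, hn0⟩
    have hqr : q ∣ r := Finset.dvd_prod_of_mem _ hqn
    have hpow : g ^ (j * r) = 1 := by
      rw [pow_mul, hj, ← orderOf_dvd_iff_pow_eq_one, hx]; exact hqr
    rw [← orderOf_dvd_iff_pow_eq_one, ← hn] at hpow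
    have hdj : n / r ∣ j := (Nat.div_dvd_iff_dvd_mul hrd (Nat.pos_of_ne_zero hr0)).2 (by rwa [mul_comm] at hpow)
    obtain ⟨i, hi⟩ := hdj
    rw [← hj, hi, pow_mul]
    exact pow_mem (Subgroup.mem_zpowers k) i
  have hb : (⟨x, hxk⟩ : Subgroup.zpowers k) ∈ MulAction.stabilizer (Subgroup.zpowers k) ω := hxfix
  rw [hω, Subgroup.mem_bot] at hb
  have h1 : (x : G) = 1 := congrArg Subtype.val hb
  rw [h1, orderOf_one] at hx
  exact hq.one_lt.ne hx

end Cfsg.Agent.S3511
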