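import Cfsg.Statements.S3514


set_option autoImplicit false
open Cfsg

namespace Cfsg.Agent.S3514

/-- Let p be a prime, V a finite vector space over the field with p elements, and H a group of linear transformations of V all of whose orbits on V have size coprime to p. (i) Every normal subgroup K of H has all its orbits on V of size coprime to p. (ii) If N is a group of linear transformations of V of order coprime to p that is normalized by H, then the group generated by N and H has all its orbits on V of size coprime to p. -/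
theorem result (p : ℕ) [Fact p.Prime] {V : Type*} [AddCommGroup V] [Module (ZMod p) V] [Finite V]
    (H : Subgroup (V ≃ₗ[ZMod p] V)) (hH : ∀ v : V, ¬ p ∣ Nat.card {u : V | ∃ h ∈ H, h v = u}) :
    (∀ K : Subgroup (V ≃ₗ[ZMod p] V), K ≤ H → H ≤ Subgroup.normalizer (K : Set (V ≃ₗ[ZMod p] V)) →
        ∀ v : V, ¬ p ∣ Nat.card {u : V | ∃ k ∈ K, k v = u}) ∧
    (∀ N : Subgroup (V ≃ₗ[ZMod p] V), ¬ p ∣ Nat.card N → H ≤ Subgroup.normalizer (N : Set (V ≃ₗ[ZMod p] V)) →
        ∀ v : V, ¬ p ∣ Nat.card {u : V | ∃ x ∈ N ⊔ H, x v = u}) := by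
  classical
  have hp : p.Prime := Fact.out
  have key : ∀ {M : Type _} [inst : Group M] [Finite M] (A L : Subgroup M), L ≤ Subgroup.normalizer (A : Set M) →
      L.relIndex (A ⊔ L) = L.relIndex A := by
    intro M inst instf A L hAL
    set T := A ⊔ L
    have hT : T ≤ Subgroup.normalizer (A : Set M) := sup_le Subgroup.le_normalizer hAL
    haveI hn : (A.subgroupOf T).Normal := (Subgroup.normal_subgroupOf_iff_le_normalizer le_sup_left).2 hT
    have e0 : A.subgroupOf T ⊔ L.subgroupOf T = ⊤ := by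
      rw [← Subgroup.subgroupOf_sup le_sup_left le_sup_right, Subgroup.subgroupOf_self]
    have h1 : (A.subgroupOf T).relIndex (A.subgroupOf T ⊔ L.subgroupOf T) = (A.subgroupOf T).relIndex (L.subgroupOf T) :=
      Subgroup.relIndex_sup_left _ _
    rw [e0, Subgroup.relIndex_top_right, Subgroup.relIndex_subgroupOf le_sup_right] at h1
    change A.relIndex T = A.relIndex L at h1
    have h2 := Subgroup.relIndex_mul_relIndex (A ⊓ L) A T inf_le_left le_sup_left
    have h3 := Subgroup.relIndex_mul_relIndex (A ⊓ L) L T inf_le_right le_sup_right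
    rw [Subgroup.inf_relIndex_left, h1] at h2
    rw [Subgroup.inf_relIndex_right, ← h2, mul_comm (L.relIndex A)] at h3
    exact Nat.eq_of_mul_eq_mul_left (Nat.pos_of_ne_zero Subgroup.index_ne_zero_of_finite) h3
  haveI : Finite (V ≃ₗ[ZMod p] V) := Finite.of_injective _ DFunLike.coe_injective
  let st : V → Subgroup (V ≃ₗ[ZMod p] V) := fun v => MulAction.stabilizer (V ≃ₗ[ZMod p] V) v
  have orb : ∀ (K : Subgroup (V ≃ₗ[ZMod p] V)) (v : V), Nat.card {u : V | ∃ k ∈ K, k v = u} = (st v).relIndex K := by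
    intro K v
    have h1 : {u : V | ∃ k ∈ K, k v = u} = MulAction.orbit K v :=
      Set.ext fun u => ⟨fun ⟨k, hk, e⟩ => ⟨⟨k, hk⟩, e⟩, fun ⟨k, e⟩ => ⟨k.1, k.2, e⟩⟩
    rw [h1, Nat.card_congr (MulAction.orbitEquivQuotientStabilizer K v)]
    rfl
  simp only [orb] at hH ⊢
  refine ⟨fun K hKH hnorm v hdvd => ?_, fun N hN hnorm v hdvd => ?_⟩
  · have e1 : (H ⊓ st v).relIndex K = (st v).relIndex K := by
      rw [← Subgroup.inf_relIndex_right (H ⊓ st v) K, inf_right_comm, inf_of_le_right hKH, inf_comm,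
        Subgroup.inf_relIndex_right]
    have e2 := key K (H ⊓ st v) (inf_le_left.trans hnorm)
    have e3 := Subgroup.relIndex_mul_relIndex (H ⊓ st v) (K ⊔ H ⊓ st v) H le_sup_right (sup_le hKH inf_le_left)
    rw [Subgroup.inf_relIndex_left, e2, e1] at e3
    exact hH v (e3 ▸ dvd_mul_of_dvd_left hdvd _)
  · have e2 := key N H hnorm
    have e3 := Subgroup.relIndex_mul_relIndex (H ⊓ st v) H (N ⊔ H) inf_le_left le_sup_right
    rw [Subgroup.inf_relIndex_left, e2] at e3
    have e4 := Subgroup.relIndex_mul_relIndex (H ⊓ st v) ((N ⊔ H) ⊓ st v) (N ⊔ H)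
      (inf_le_inf_right _ le_sup_right) inf_le_left
    rw [Subgroup.inf_relIndex_left] at e4
    have h5 : p ∣ (st v).relIndex H * H.relIndex N := by
      rw [e3, ← e4]; exact dvd_mul_of_dvd_right hdvd _
    rcases hp.dvd_mul.1 h5 with h6 | h6
    · exact hH v h6
    · exact hN (h6.trans (H.relIndex_dvd_card N))

end Cfsg.Agent.S3514
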