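import Cfsg.Statements.S3515


set_option autoImplicit false
open Cfsg

namespace Cfsg.Agent.S3515

/-- Every primitive affine permutation group of degree p² is 3-closed. Let p be a prime and G a group of permutations of the plane V = F_p² consisting of affine maps x ↦ Ax + b, containing all translations, and acting primitively on V. Then any permutation σ of V that agrees on every triple of points with some element of G (σ preserves every G-orbit on ordered triples) already lies in G. -/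
theorem result (p : ℕ) [Fact p.Prime] (G : Subgroup (Equiv.Perm (Fin 2 → ZMod p)))
    (haff : (G : Set (Equiv.Perm (Fin 2 → ZMod p))) ⊆ {τ : Equiv.Perm (Fin 2 → ZMod p) | ∃ (A : (Fin 2 → ZMod p) ≃ₗ[ZMod p] (Fin 2 → ZMod p)) (b : Fin 2 → ZMod p), ∀ x, τ x = A x + b})
    (htrans : ∀ b : Fin 2 → ZMod p, ∃ g ∈ G, ∀ x, g x = x + b) (hprim : MulAction.IsPreprimitive G (Fin 2 → ZMod p))
    (σ : Equiv.Perm (Fin 2 → ZMod p)) (hσ : (∀ t : Fin 3 → (Fin 2 → ZMod p), ∃ g ∈ G, ∀ i, σ (t i) = g (t i))) : σ ∈ G := by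
  obtain ⟨g, hgG, hg⟩ := hσ ![0, ![1, 0], ![0, 1]]
  set τ := g⁻¹ * σ with hτdef
  have hτ : ∀ t : Fin 3 → (Fin 2 → ZMod p), ∃ h ∈ G, ∀ i, τ (t i) = h (t i) := fun t => by
    obtain ⟨h, hh, hht⟩ := hσ t
    exact ⟨g⁻¹ * h, G.mul_mem (G.inv_mem hgG) hh, fun i => by rw [hτdef, Equiv.Perm.mul_apply, Equiv.Perm.mul_apply, hht i]⟩
  have haff' : ∀ h ∈ G, ∃ (A : (Fin 2 → ZMod p) ≃ₗ[ZMod p] (Fin 2 → ZMod p)) (b : Fin 2 → ZMod p), ∀ x, h x = A x + b :=
    fun h hh => haff hh
  have t0 : τ 0 = 0 := by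
    rw [hτdef, Equiv.Perm.mul_apply, show σ 0 = g 0 from hg 0, Equiv.Perm.coe_inv, Equiv.symm_apply_apply]
  have t1 : τ ![1, 0] = ![1, 0] := by
    rw [hτdef, Equiv.Perm.mul_apply, show σ ![1, 0] = g ![1, 0] from hg 1, Equiv.Perm.coe_inv, Equiv.symm_apply_apply]
  have t2 : τ ![0, 1] = ![0, 1] := by
    rw [hτdef, Equiv.Perm.mul_apply, show σ ![0, 1] = g ![0, 1] from hg 2, Equiv.Perm.coe_inv, Equiv.symm_apply_apply]
  have line : ∀ a b : Fin 2 → ZMod p, τ a = a → τ b = b → ∀ c : ZMod p, τ (a + c • (b - a)) = a + c • (b - a) := by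
    intro a b ha hb c
    obtain ⟨h, hh, hht⟩ := hτ ![a, b, a + c • (b - a)]
    obtain ⟨A, z, hA⟩ := haff' h hh
    have h0 : A a + z = a := by rw [← hA, ← (show τ a = h a from hht 0), ha]
    have h1 : A b + z = b := by rw [← hA, ← (show τ b = h b from hht 1), hb]
    rw [show τ (a + c • (b - a)) = h (a + c • (b - a)) from hht 2, hA, map_add, map_smul, map_sub]
    calc A a + c • (A b - A a) + z = (A a + z) + c • ((A b + z) - (A a + z)) := by rw [add_sub_add_right_eq_sub]; abel
      _ = _ := by rw [h0, h1]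
  have ax1 : ∀ c : ZMod p, τ ![c, 0] = ![c, 0] := fun c => by
    have := line 0 ![1, 0] t0 t1 c
    simpa using this
  have ax2 : ∀ c : ZMod p, τ ![0, c] = ![0, c] := fun c => by
    have := line 0 ![0, 1] t0 t2 c
    simpa using this
  have side : ∀ (v a u e : Fin 2 → ZMod p) (i : Fin 2), a i ≠ 0 → e i = 0 → τ a = a → v i = a i →
      (∀ c : ZMod p, τ (c • e) = c • e) → (∀ w : Fin 2 → ZMod p, w i = 0 → ∃ c : ZMod p, w = c • e) →
      τ v i = a i := by
    intro v a u e i hai hei ha hvi hax hspan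
    by_contra hne
    have hd : a i - τ v i ≠ 0 := sub_ne_zero.2 (Ne.symm hne)
    set k : ZMod p := a i / (a i - τ v i) with hk
    have hw : (a + k • (τ v - a)) i = 0 := by
      simp only [Pi.add_apply, Pi.smul_apply, Pi.sub_apply, smul_eq_mul, hk]
      field_simp
      ring
    obtain ⟨c, hc⟩ := hspan _ hw
    have hk0 : k ≠ 0 := div_ne_zero hai hd
    have hline := line a (a + k • (τ v - a)) ha (hc ▸ hax c) k⁻¹
    rw [add_sub_cancel_left, inv_smul_smul₀ hk0, add_sub_cancel] at hline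
    have : τ v = v := τ.injective hline
    exact hne (by rw [this, hvi])
  have main : ∀ v, τ v = v := by
    intro v
    have hv : v = ![v 0, v 1] := by funext i; fin_cases i <;> rfl
    by_cases h0 : v 0 = 0
    · rw [hv, h0]; exact ax2 _
    by_cases h1 : v 1 = 0
    · rw [hv, h1]; exact ax1 _
    have e1 : ∀ c : ZMod p, c • (![1, 0] : Fin 2 → ZMod p) = ![c, 0] := fun c => by simp
    have e2 : ∀ c : ZMod p, c • (![0, 1] : Fin 2 → ZMod p) = ![0, c] := fun c => by simp
    have q1 := side v ![0, v 1] 0 ![1, 0] 1 (by simpa using h1) (by simp) (ax2 _) (by simp) (fun c => by rw [e1]; exact ax1 c)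
      (fun w hw => ⟨w 0, by rw [e1]; funext i; fin_cases i <;> simp [hw]⟩)
    have q0 := side v ![v 0, 0] 0 ![0, 1] 0 (by simpa using h0) (by simp) (ax1 _) (by simp) (fun c => by rw [e2]; exact ax2 c)
      (fun w hw => ⟨w 1, by rw [e2]; funext i; fin_cases i <;> simp [hw]⟩)
    funext i
    fin_cases i
    · simpa using q0
    · simpa using q1
  have : σ = g := by
    ext1 x
    have := congrArg g (main x)
    rwa [hτdef, Equiv.Perm.mul_apply, Equiv.Perm.coe_inv, Equiv.apply_symm_apply] at this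
  exact this ▸ hgG

end Cfsg.Agent.S3515
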