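import Cfsg.Statements.S3516
import Mathlib

set_option autoImplicit false
open Cfsg

namespace Cfsg.Agent.S3516

/-- Let p be an odd prime, d ≥ 3, and G a group of affine permutations x ↦ Ax + b of V = F_p^d containing all translations and all maps x ↦ Ax with A of determinant 1. Then the 3-closure of G is the full affine group: a permutation σ of V agrees on every triple of points with some element of G if and only if σ is an affine map. -/
theorem result (p : ℕ) [Fact p.Prime] (hp : p ≠ 2) (d : ℕ) (hd : 3 ≤ d) (G : Subgroup (Equiv.Perm (Fin d → ZMod p)))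
    (haff : (G : Set (Equiv.Perm (Fin d → ZMod p))) ⊆ {τ : Equiv.Perm (Fin d → ZMod p) | ∃ (A : (Fin d → ZMod p) ≃ₗ[ZMod p] (Fin d → ZMod p)) (b : Fin d → ZMod p), ∀ x, τ x = A x + b})
    (htrans : ∀ b : Fin d → ZMod p, ∃ g ∈ G, ∀ x, g x = x + b)
    (hsl : ∀ A : (Fin d → ZMod p) ≃ₗ[ZMod p] (Fin d → ZMod p), LinearMap.det (A : (Fin d → ZMod p) →ₗ[ZMod p] (Fin d → ZMod p)) = 1 → ∃ g ∈ G, ∀ x, g x = A x)
    (σ : Equiv.Perm (Fin d → ZMod p)) :
    (∀ t : Fin 3 → (Fin d → ZMod p), ∃ g ∈ G, ∀ i, σ (t i) = g (t i)) ↔ σ ∈ {τ : Equiv.Perm (Fin d → ZMod p) | ∃ (A : (Fin d → ZMod p) ≃ₗ[ZMod p] (Fin d → ZMod p)) (b : Fin d → ZMod p), ∀ x, τ x = A x + b} := by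
  classical
  have h2 : (2 : ZMod p) ≠ 0 := by
    intro h
    have h' : ((2 : ℕ) : ZMod p) = 0 := by exact_mod_cast h
    rw [ZMod.natCast_eq_zero_iff] at h'
    exact hp ((Nat.prime_dvd_prime_iff_eq (Fact.out : p.Prime) Nat.prime_two).1 h')
  constructor
  · intro hσ
    set τ : (Fin d → ZMod p) → (Fin d → ZMod p) := fun x => σ x - σ 0 with hτ
    have hmid : ∀ x y, σ ((2 : ZMod p)⁻¹ • (x + y)) = (2 : ZMod p)⁻¹ • (σ x + σ y) := by
      intro x y
      obtain ⟨g, hg, hgt⟩ := hσ ![x, (2 : ZMod p)⁻¹ • (x + y), y]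
      obtain ⟨A, b, hAb⟩ := haff hg
      have e0 : σ x = A x + b := (hgt 0).trans (hAb x)
      have e1 : σ ((2 : ZMod p)⁻¹ • (x + y)) = A ((2 : ZMod p)⁻¹ • (x + y)) + b := (hgt 1).trans (hAb _)
      have e2 : σ y = A y + b := (hgt 2).trans (hAb y)
      rw [e0, e1, e2, map_smul, map_add, show A x + b + (A y + b) = A x + A y + (2 : ZMod p) • b by
        rw [two_smul]; abel, smul_add ((2 : ZMod p)⁻¹) (A x + A y), smul_smul, inv_mul_cancel₀ h2, one_smul]
    have hadd : ∀ x y, τ (x + y) = τ x + τ y := by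
      intro x y
      have hz : ∀ z, σ ((2 : ZMod p)⁻¹ • z) = (2 : ZMod p)⁻¹ • (σ z + σ 0) := fun z => by
        have := hmid z 0
        rwa [add_zero] at this
      have h := (hz (x + y)).symm.trans (hmid x y)
      have := congrArg ((2 : ZMod p) • ·) h
      simp only [smul_smul, mul_inv_cancel₀ h2, one_smul] at this
      show σ (x + y) - σ 0 = (σ x - σ 0) + (σ y - σ 0)
      linear_combination this
    let L := AddMonoidHom.toZModLinearMap p (AddMonoidHom.mk' τ hadd)
    have hLinj : Function.Injective L := fun x y h => σ.injective (sub_left_inj.1 (h : σ x - σ 0 = σ y - σ 0))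
    refine ⟨LinearEquiv.ofBijective L ⟨hLinj, Finite.injective_iff_surjective.1 hLinj⟩, σ 0, fun x => ?_⟩
    show σ x = τ x + σ 0
    simp [hτ]
  · rintro ⟨A, b, hAb⟩ t
    set W := Submodule.span (ZMod p) (Set.range ![t 1 - t 0, t 2 - t 0]) with hW
    have hWne : W ≠ ⊤ := by
      intro h
      have h1 := finrank_range_le_card (R := ZMod p) ![t 1 - t 0, t 2 - t 0]
      rw [Set.finrank, ← hW, h, finrank_top, Module.finrank_fintype_fun_eq_card, Fintype.card_fin, Fintype.card_fin] at h1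
      omega
    obtain ⟨φ, hφ0, hφW⟩ := Submodule.exists_le_ker_of_lt_top W (lt_top_iff_ne_top.2 hWne)
    obtain ⟨w, hw⟩ : ∃ w, φ w ≠ 0 := by
      by_contra h
      push Not at h
      exact hφ0 (LinearMap.ext h)
    set D := LinearMap.det (A : (Fin d → ZMod p) →ₗ[ZMod p] (Fin d → ZMod p)) with hD
    have hD0 : D ≠ 0 := (LinearEquiv.isUnit_det' A).ne_zero
    let a : Fin d → ZMod p := fun i => φ (Pi.single i 1)
    have ha : ∀ v, a ⬝ᵥ v = φ v := fun v => by
      conv_rhs => rw [← Finset.univ_sum_single v]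
      rw [map_sum]
      refine Finset.sum_congr rfl fun i _ => ?_
      rw [show Pi.single i (v i) = v i • (Pi.single i (1 : ZMod p) : Fin d → ZMod p) by rw [← Pi.single_smul]; simp,
        map_smul, smul_eq_mul, mul_comm]
    let w' : Fin d → ZMod p := ((D⁻¹ - 1) / φ w) • w
    let B : Matrix (Fin d) (Fin d) (ZMod p) := 1 + Matrix.replicateCol Unit w' * Matrix.replicateRow Unit a
    have hBdet : B.det = D⁻¹ := by
      rw [Matrix.det_one_add_replicateCol_mul_replicateRow, ha, map_smul, smul_eq_mul, div_mul_cancel₀ _ hw]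
      ring
    have hBfix : ∀ v ∈ W, B.mulVec v = v := fun v hv => by
      have h0 : φ v = 0 := hφW hv
      rw [Matrix.add_mulVec, Matrix.one_mulVec, ← Matrix.mulVec_mulVec]
      have : (Matrix.replicateRow Unit a).mulVec v = 0 := by
        funext i
        show a ⬝ᵥ v = 0
        rw [ha, h0]
      rw [this, Matrix.mulVec_zero, add_zero]
    let L : (Fin d → ZMod p) →ₗ[ZMod p] (Fin d → ZMod p) := (A : _ →ₗ[ZMod p] _).comp (Matrix.toLin' B)
    have hLdet : LinearMap.det L = 1 := by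
      rw [LinearMap.det_comp, LinearMap.det_toLin', hBdet, ← hD, mul_inv_cancel₀ hD0]
    let M := LinearEquiv.ofIsUnitDet (f := L) (v := Pi.basisFun (ZMod p) (Fin d)) (v' := Pi.basisFun (ZMod p) (Fin d))
      (by rw [LinearMap.det_toMatrix, hLdet]; exact isUnit_one)
    have hMcoe : (M : (Fin d → ZMod p) →ₗ[ZMod p] (Fin d → ZMod p)) = L := by ext; rfl
    obtain ⟨g₁, hg₁, hg₁e⟩ := hsl M (by rw [hMcoe, hLdet])
    obtain ⟨g₂, hg₂, hg₂e⟩ := htrans (A (t 0) + b - M (t 0))
    refine ⟨g₂ * g₁, mul_mem hg₂ hg₁, fun i => ?_⟩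
    have hMW : ∀ v ∈ W, M v = A v := fun v hv => by
      show A (Matrix.toLin' B v) = A v
      rw [Matrix.toLin'_apply, hBfix v hv]
    have hd : M (t i - t 0) = A (t i - t 0) := by
      fin_cases i
      · simp
      · exact hMW _ (Submodule.subset_span ⟨0, rfl⟩)
      · exact hMW _ (Submodule.subset_span ⟨1, rfl⟩)
    rw [map_sub, map_sub] at hd
    rw [Equiv.Perm.mul_apply, hg₂e, hg₁e, hAb]
    linear_combination -hd

end Cfsg.Agent.S3516
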