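import Cfsg.Statements.S3517
import Cfsg.Agent.Lib.Recog.AffineTriples

set_option autoImplicit false
open Cfsg

namespace Cfsg.Agent.S3517

/-- For d ≥ 3, the 3-closure of the affine group AGL_d(2) acting on F_2^d is the full symmetric group: every permutation of F_2^d agrees on every ordered triple of points with some affine map (AGL_d(2) is 3-transitive). -/
theorem result (d : ℕ) (hd : 3 ≤ d) (σ : Equiv.Perm (Fin d → ZMod 2)) (t : Fin 3 → (Fin d → ZMod 2)) :
    ∃ (A : (Fin d → ZMod 2) ≃ₗ[ZMod 2] (Fin d → ZMod 2)) (b : Fin d → ZMod 2), ∀ i, σ (t i) = A (t i) + b := by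
  classical
  have hF : ∀ c : ZMod 2, c = 0 ∨ c = 1 := by decide
  have hli2 : ∀ {x y : Fin d → ZMod 2}, x ≠ 0 → y ≠ 0 → x ≠ y → LinearIndependent (ZMod 2) ![x, y] := by
    intro x y hx hy hxy
    rw [LinearIndependent.pair_iff]
    intro a b hab
    rcases hF a with rfl | rfl <;> rcases hF b with rfl | rfl <;> simp_all
    · exact hxy (by
        funext i
        have := congrFun hab i
        simp only [Pi.add_apply, Pi.zero_apply] at this
        exact (by decide : ∀ p q : ZMod 2, p + q = 0 → p = q) _ _ this)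
  have hli1 : ∀ {x : Fin d → ZMod 2}, x ≠ 0 → LinearIndependent (ZMod 2) (fun _ : Fin 1 => x) := fun {x} hx =>
    linearIndependent_unique_iff.2 hx
  set u := t 1 - t 0 with hu
  set v := t 2 - t 0 with hv
  set u' := σ (t 1) - σ (t 0) with hu'
  set v' := σ (t 2) - σ (t 0) with hv'
  have e0 : ∀ i j, t i - t 0 = t j - t 0 ↔ σ (t i) - σ (t 0) = σ (t j) - σ (t 0) := fun i j => by
    rw [sub_left_inj, sub_left_inj, σ.injective.eq_iff]
  have eu : u = 0 ↔ u' = 0 := by rw [sub_eq_zero, sub_eq_zero, σ.injective.eq_iff]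
  have ev : v = 0 ↔ v' = 0 := by rw [sub_eq_zero, sub_eq_zero, σ.injective.eq_iff]
  suffices h : ∃ A : (Fin d → ZMod 2) ≃ₗ[ZMod 2] (Fin d → ZMod 2), A u = u' ∧ A v = v' by
    obtain ⟨A, h1, h2⟩ := h
    refine ⟨A, σ (t 0) - A (t 0), fun i => ?_⟩
    fin_cases i
    · simp
    · have := map_sub A (t 1) (t 0)
      rw [← hu, h1, hu'] at this
      show σ (t 1) = A (t 1) + (σ (t 0) - A (t 0))
      linear_combination this
    · have := map_sub A (t 2) (t 0)
      rw [← hv, h2, hv'] at this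
      show σ (t 2) = A (t 2) + (σ (t 0) - A (t 0))
      linear_combination this
  by_cases h1 : u = 0
  · by_cases h2 : v = 0
    · exact ⟨LinearEquiv.refl _ _, by rw [h1, eu.1 h1]; rfl, by rw [h2, ev.1 h2]; rfl⟩
    · obtain ⟨A, hA⟩ := Recog.AffineTriples.exists_equiv_of_li (hli1 h2) (hli1 (fun h => h2 (ev.2 h)))
      exact ⟨A, by rw [h1, eu.1 h1, map_zero], hA 0⟩
  · have h1' : u' ≠ 0 := fun h => h1 (eu.2 h)
    by_cases h2 : v = 0
    · obtain ⟨A, hA⟩ := Recog.AffineTriples.exists_equiv_of_li (hli1 h1) (hli1 h1')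
      exact ⟨A, hA 0, by rw [h2, ev.1 h2, map_zero]⟩
    · by_cases h3 : u = v
      · obtain ⟨A, hA⟩ := Recog.AffineTriples.exists_equiv_of_li (hli1 h1) (hli1 h1')
        exact ⟨A, hA 0, by rw [← h3, hA 0]; exact (e0 1 2).1 h3⟩
      · obtain ⟨A, hA⟩ := Recog.AffineTriples.exists_equiv_of_li (hli2 h1 h2 h3)
          (hli2 h1' (fun h => h2 (ev.2 h)) (fun h => h3 ((e0 1 2).2 h)))
        exact ⟨A, hA 0, hA 1⟩

end Cfsg.Agent.S3517
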