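import Cfsg.Statements.S3518
import Cfsg.Agent.Lib.PermGp.Burnside
import Cfsg.Agent.Lib.Recog.MinNormal

set_option autoImplicit false
open Cfsg

namespace Cfsg.Agent.S3518

/-- Closures of subgroups of the one-dimensional affine group. Let p be a prime and G a group of permutations of F_p lying in the affine group AGL₁(p) = {x ↦ ax + b, a ≠ 0} and containing all translations. (1) If G is a proper subgroup of AGL₁(p), then G is 2-closed: a permutation of F_p agreeing on every ordered pair of points with some element of G lies in G. (2) Every permutation of F_p agrees on every ordered pair with some element of AGL₁(p) (the 2-closure of AGL₁(p) is the symmetric group). (3) AGL₁(p) is 3-closed: a permutation agreeing on every ordered triple with some affine map is affine. -/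
theorem result (p : ℕ) [Fact p.Prime] (G : Subgroup (Equiv.Perm (ZMod p))) (hG : G ≤ Cfsg.affineGroup (ZMod p))
    (htrans : ∀ b : ZMod p, ∃ g ∈ G, ∀ x, g x = x + b) :
    (G ≠ Cfsg.affineGroup (ZMod p) → ∀ σ : Equiv.Perm (ZMod p), (∀ t : Fin 2 → ZMod p, ∃ g ∈ G, ∀ i, σ (t i) = g (t i)) → σ ∈ G) ∧
    (∀ σ : Equiv.Perm (ZMod p), (∀ t : Fin 2 → ZMod p, ∃ g ∈ Cfsg.affineGroup (ZMod p), ∀ i, σ (t i) = g (t i))) ∧
    (∀ σ : Equiv.Perm (ZMod p), (∀ t : Fin 3 → ZMod p, ∃ g ∈ Cfsg.affineGroup (ZMod p), ∀ i, σ (t i) = g (t i)) → σ ∈ Cfsg.affineGroup (ZMod p)) := by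
  classical
  have hpair : ∀ (x y u v : ZMod p), x ≠ y → u ≠ v →
      ∃ g ∈ Cfsg.affineGroup (ZMod p), g x = u ∧ g y = v := by
    intro x y u v hxy huv
    have hyx : y - x ≠ 0 := sub_ne_zero.2 (Ne.symm hxy)
    have ha : (v - u) / (y - x) ≠ 0 := div_ne_zero (sub_ne_zero.2 (Ne.symm huv)) hyx
    refine ⟨(Equiv.mulLeft₀ _ ha).trans (Equiv.addRight (u - (v - u) / (y - x) * x)),
      ⟨Units.mk0 _ ha, u - (v - u) / (y - x) * x, fun z => rfl⟩, ?_, ?_⟩
    · show (v - u) / (y - x) * x + (u - (v - u) / (y - x) * x) = u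
      ring
    · show (v - u) / (y - x) * y + (u - (v - u) / (y - x) * x) = v
      have h := div_mul_cancel₀ (v - u) hyx
      linear_combination h
  refine ⟨fun hne σ hσ => ?_, fun σ t => ?_, fun σ hσ => ?_⟩
  swap
  · by_cases h : t 0 = t 1
    · obtain ⟨g, hg, hg0, -⟩ := hpair (t 0) (t 0 + 1) (σ (t 0)) (σ (t 0) + 1) (by simp) (by simp)
      refine ⟨g, hg, fun i => ?_⟩
      fin_cases i
      · exact hg0.symm
      · show σ (t 1) = g (t 1)
        rw [← h]; exact hg0.symm
    · obtain ⟨g, hg, hg0, hg1⟩ := hpair (t 0) (t 1) (σ (t 0)) (σ (t 1)) h (σ.injective.ne h)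
      refine ⟨g, hg, fun i => ?_⟩
      fin_cases i
      · exact hg0.symm
      · exact hg1.symm
  swap
  · obtain ⟨g0, hg0, h0⟩ := hσ ![0, 1, 0]
    obtain ⟨a, b, hab⟩ := hg0
    refine ⟨a, b, fun x => ?_⟩
    obtain ⟨g, ⟨c, d, hcd⟩, hg⟩ := hσ ![0, 1, x]
    have e0 : σ 0 = (c : ZMod p) * 0 + d := (hg 0).trans (hcd 0)
    have e1 : σ 1 = (c : ZMod p) * 1 + d := (hg 1).trans (hcd 1)
    have ex : σ x = (c : ZMod p) * x + d := (hg 2).trans (hcd x)
    have f0 : σ 0 = (a : ZMod p) * 0 + b := (h0 0).trans (hab 0)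
    have f1 : σ 1 = (a : ZMod p) * 1 + b := (h0 1).trans (hab 1)
    linear_combination ex + (x - 1) * e0 - (x - 1) * f0 - x * e1 + x * f1
  -- the closure
  have hA : ∀ g ∈ G, ∃ a b : ZMod p, a ≠ 0 ∧ ∀ x, g x = a * x + b := fun g hg => by
    obtain ⟨a, b, h⟩ := hG hg
    exact ⟨a, b, a.ne_zero, h⟩
  let H : Subgroup (Equiv.Perm (ZMod p)) :=
    { carrier := {τ | ∀ x y : ZMod p, ∃ g ∈ G, τ x = g x ∧ τ y = g y}
      one_mem' := fun x y => ⟨1, one_mem _, rfl, rfl⟩
      mul_mem' := by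
        intro u v hu hv x y
        obtain ⟨g, hg, h1, h2⟩ := hv x y
        obtain ⟨k, hk, h3, h4⟩ := hu (v x) (v y)
        exact ⟨k * g, mul_mem hk hg, by rw [Equiv.Perm.mul_apply, Equiv.Perm.mul_apply, h3, h1],
          by rw [Equiv.Perm.mul_apply, Equiv.Perm.mul_apply, h4, h2]⟩
      inv_mem' := by
        intro u hu x y
        obtain ⟨g, hg, h1, h2⟩ := hu (u⁻¹ x) (u⁻¹ y)
        refine ⟨g⁻¹, inv_mem hg, ?_, ?_⟩
        · rw [Equiv.Perm.coe_inv, Equiv.apply_symm_apply] at h1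
          exact ((Equiv.symm_apply_eq g).2 h1).symm
        · rw [Equiv.Perm.coe_inv, Equiv.apply_symm_apply] at h2
          exact ((Equiv.symm_apply_eq g).2 h2).symm }
  have hGH : G ≤ H := fun g hg x y => ⟨g, hg, rfl, rfl⟩
  have hσH : σ ∈ H := fun x y => by
    obtain ⟨g, hg, h⟩ := hσ ![x, y]
    exact ⟨g, hg, h 0, h 1⟩
  obtain ⟨τ, hτG, hτ⟩ := htrans 1
  have htr : ∀ c : ZMod p, ∃ g ∈ G, ∀ x, g x = x + c := htrans
  have hHt : MulAction.IsPretransitive H (ZMod p) := ⟨fun x y => by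
    obtain ⟨g, hg, h⟩ := htr (y - x)
    exact ⟨⟨g, hGH hg⟩, by show g x = y; rw [h]; ring⟩⟩
  obtain ⟨a, ha0, hamiss⟩ : ∃ a : ZMod p, a ≠ 0 ∧ ∀ g ∈ G, g 1 - g 0 ≠ a := by
    by_contra hc
    push Not at hc
    refine hne (le_antisymm hG ?_)
    rintro u ⟨a, b, hu⟩
    obtain ⟨g, hg, hga⟩ := hc a a.ne_zero
    obtain ⟨c, d, -, hgcd⟩ := hA g hg
    obtain ⟨t, htG, ht⟩ := htr (b - d)
    have hu' : u = t * g := by
      refine Equiv.ext fun x => ?_
      rw [hu, Equiv.Perm.mul_apply, ht, hgcd]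
      have : c = a := by rw [hgcd, hgcd] at hga; linear_combination hga
      rw [this]; ring
    rw [hu']; exact mul_mem htG hg
  have hsol : Group.IsSolvable H := by
    by_contra hns
    have h2 := Cfsg.Agent.PermGp.two_transitive_of_not_solvable (α := ZMod p) (ZMod.card p) H hns
    obtain ⟨⟨u, hu⟩, h0, h1⟩ := (MulAction.is_two_pretransitive_iff.1 h2) (zero_ne_one : (0 : ZMod p) ≠ 1) (Ne.symm ha0 : (0 : ZMod p) ≠ a)
    obtain ⟨g, hg, g0, g1⟩ := hu 0 1
    refine hamiss g hg ?_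
    rw [← g0, ← g1, show u 0 = 0 from h0, show u 1 = a from h1, sub_zero]
  have hsq := Cfsg.Agent.PermGp.not_sq_dvd_card (α := ZMod p) (ZMod.card p) H
  obtain ⟨P⟩ : Nonempty (Sylow p H) := inferInstance
  have hPcard := Cfsg.Agent.PermGp.card_sylow (α := ZMod p) (ZMod.card p) H P
  have : Nontrivial H := ⟨⟨⟨τ, hGH hτG⟩, 1, fun h => by
    have := congrArg (fun u : H => (u : Equiv.Perm (ZMod p)) 0) h
    simp [hτ] at this⟩⟩
  obtain ⟨N, hN⟩ := Cfsg.Agent.Recog.exists_isMinNormal (G := H)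
  have hNn : N.Normal := hN.normal
  have hab : ∀ a ∈ N, ∀ b ∈ N, a * b = b * a := by
    have h0 : ⁅N, N⁆ = ⊥ := by
      rcases hN.minimal ⁅N, N⁆ inferInstance (Subgroup.commutator_le_self N) with h | h
      · exact h
      · exfalso
        obtain ⟨n, hn⟩ := hsol.solvable
        refine hN.ne_bot (eq_bot_iff.2 (hn ▸ ?_))
        clear hn
        induction n with
        | zero => exact le_top
        | succ k ih => exact h.symm.le.trans (Subgroup.commutator_mono ih ih)
    intro a ha b hb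
    exact (Subgroup.mem_centralizer_iff.1 ((Subgroup.commutator_eq_bot_iff_le_centralizer.1 h0) hb) a ha)
  have hNt : MulAction.IsPretransitive N (ZMod p) := by
    have : MulAction.IsPreprimitive H (ZMod p) := MulAction.IsPreprimitive.of_prime_card (by
      rw [Nat.card_zmod]; exact Fact.out)
    refine MulAction.IsPreprimitive.isQuasiPreprimitive.isPretransitive_of_normal ?_
    intro h
    refine hN.ne_bot ?_
    rw [Subgroup.eq_bot_iff_forall]
    intro n hn
    apply Subtype.ext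
    refine Equiv.ext fun x => ?_
    have := Set.eq_univ_iff_forall.1 h x
    exact this ⟨n, hn⟩
  have hpN : p ∣ Nat.card N := by
    have h := (MulAction.index_stabilizer_of_transitive N (0 : ZMod p))
    rw [Nat.card_zmod] at h
    have := Subgroup.index_dvd_card (MulAction.stabilizer N (0 : ZMod p))
    rwa [h] at this
  have hτN : (⟨τ, hGH hτG⟩ : H) ∈ N := by
    by_contra hnot
    apply hsq
    have hτp : orderOf (⟨τ, hGH hτG⟩ : H) ∣ p := by
      rw [orderOf_dvd_iff_pow_eq_one]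
      apply Subtype.ext
      refine Equiv.ext fun x => ?_
      have : ∀ (k : ℕ) (x : ZMod p), (τ ^ k) x = x + k := by
        intro k
        induction k with
        | zero => intro x; simp
        | succ k ih => intro x; rw [pow_succ', Equiv.Perm.mul_apply, hτ, ih]; push_cast; ring
      rw [Subgroup.coe_pow, this, ZMod.natCast_self, add_zero]
      rfl
    have hq : orderOf ((⟨τ, hGH hτG⟩ : H) : H ⧸ N) = p := by
      rcases (Nat.dvd_prime (Fact.out : p.Prime)).1 ((orderOf_map_dvd (QuotientGroup.mk' N) _).trans hτp) with h | h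
      · exact absurd ((QuotientGroup.eq_one_iff _).1 (orderOf_eq_one_iff.1 h)) hnot
      · exact h
    have h1 := orderOf_dvd_natCard ((⟨τ, hGH hτG⟩ : H) : H ⧸ N)
    rw [hq] at h1
    rw [Subgroup.card_eq_card_quotient_mul_card_subgroup N, pow_two]
    exact mul_dvd_mul h1 hpN
  have hcomm : ∀ k : H, k ∈ N → (k : Equiv.Perm (ZMod p)) * τ = τ * k := fun k hk =>
    congrArg Subtype.val (hab k hk _ hτN)
  have hconj : (⟨σ, hσH⟩ : H) * ⟨τ, hGH hτG⟩ * (⟨σ, hσH⟩ : H)⁻¹ ∈ N := hNn.conj_mem _ hτN _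
  have hc := hcomm _ hconj
  simp only [Subgroup.coe_mul, Subgroup.coe_inv] at hc
  set m := (σ * τ * σ⁻¹) 0
  have hshift : ∀ y, (σ * τ * σ⁻¹) y = y + m := by
    have hstep : ∀ y, (σ * τ * σ⁻¹) (y + 1) = (σ * τ * σ⁻¹) y + 1 := fun y => by
      rw [← hτ y, ← hτ ((σ * τ * σ⁻¹) y)]
      exact Equiv.congr_fun hc y
    have hnat : ∀ k : ℕ, (σ * τ * σ⁻¹) (k : ZMod p) = (k : ZMod p) + m := by
      intro k
      induction k with
      | zero => simp [m]
      | succ k ih => rw [Nat.cast_succ, hstep, ih]; ring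
    intro y
    rw [← ZMod.natCast_zmod_val y]; exact hnat _
  have hσaff : ∀ x, σ x = σ 0 + x * m := by
    have hstep : ∀ x, σ (x + 1) = σ x + m := fun x => by
      have := hshift (σ x)
      simp only [Equiv.Perm.mul_apply, Equiv.Perm.coe_inv, Equiv.symm_apply_apply, hτ] at this
      exact this
    have hnat : ∀ k : ℕ, σ (k : ZMod p) = σ 0 + (k : ZMod p) * m := by
      intro k
      induction k with
      | zero => simp
      | succ k ih => rw [Nat.cast_succ, hstep, ih]; ring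
    intro x
    rw [← ZMod.natCast_zmod_val x]; exact hnat _
  obtain ⟨g, hg, hg'⟩ := hσ ![0, 1]
  obtain ⟨c, d, -, hcd⟩ := hA g hg
  have e0 : σ 0 = c * 0 + d := (hg' 0).trans (hcd 0)
  have e1 : σ 1 = c * 1 + d := (hg' 1).trans (hcd 1)
  have : σ = g := by
    refine Equiv.ext fun x => ?_
    rw [hσaff x, hcd x]
    have h1 := hσaff 1
    linear_combination (1 - x) * e0 + x * e1 - x * h1
  rw [this]; exact hg

end Cfsg.Agent.S3518
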