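import Cfsg.Statements.S3520
import Cfsg.Agent.Lib.Recog.Affine

set_option autoImplicit false
open Cfsg

namespace Cfsg.Agent.S3520

/-- Let a finite group G act faithfully and primitively on a finite set Ω with at least two points, suppose G is not almost simple (no non-abelian simple normal subgroup with trivial centralizer), and suppose the derangements of G form exactly two conjugacy classes. Then either Ω has 3 points and G has order 3; or G has a non-trivial abelian normal subgroup N acting regularly, every non-identity element of G fixes at most one point (so, when n > 3, G is a Frobenius group with kernel N), the number n of points is odd and a point stabilizer has order (n − 1)/2; or G is 2-transitive with a non-trivial abelian regular normal subgroup and some non-identity element fixes at least two points (a non-Frobenius 2-transitive affine group). -/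
theorem result {G : Type*} [Group G] [Finite G] {Ω : Type*} [Fintype Ω] [MulAction G Ω] [FaithfulSMul G Ω] (hΩ : 2 ≤ Fintype.card Ω) (hprim : MulAction.IsPreprimitive G Ω) (hnas : ¬ ∃ T : Subgroup G, T.Normal ∧ IsSimpleGroup T ∧ ¬ IsMulCommutative T ∧ Subgroup.centralizer (T : Set G) = ⊥)
    (hκ : Nat.card {c : ConjClasses G // ∃ g : G, ConjClasses.mk g = c ∧ ∀ ω : Ω, g • ω ≠ ω} = 2) (α : Ω) :
    (Fintype.card Ω = 3 ∧ Nat.card G = 3) ∨
    ((∃ N : Subgroup G, N.Normal ∧ N ≠ ⊥ ∧ IsMulCommutative N ∧ ∀ ω : Ω, MulAction.stabilizer N ω = ⊥) ∧ (∀ g : G, g ≠ 1 → Nat.card (MulAction.fixedBy Ω g) ≤ 1) ∧ ¬ 2 ∣ Fintype.card Ω ∧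
        2 * Nat.card (MulAction.stabilizer G α) = Fintype.card Ω - 1) ∨
    ((∃ N : Subgroup G, N.Normal ∧ N ≠ ⊥ ∧ IsMulCommutative N ∧ ∀ ω : Ω, MulAction.stabilizer N ω = ⊥) ∧ MulAction.IsMultiplyPretransitive G Ω 2 ∧ ∃ g : G, g ≠ 1 ∧ 2 ≤ Nat.card (MulAction.fixedBy Ω g)) := by
  classical
  have := hprim
  have hΩ' : 2 ≤ Nat.card Ω := by rwa [Nat.card_eq_fintype_card]
  have := Fintype.ofFinite G
  rcases Recog.primitive_cases (G := G) (Ω := Ω) hΩ' with ⟨N, hN, hc, hNt⟩ | h | ⟨⟨d, hd, hinj⟩, -⟩
  swap
  · exact absurd h hnas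
  swap
  · have := Recog.card_derangementClasses_ge (Ω := Ω) d hd hinj
    omega
  have hder : ∀ u ∈ N, u ≠ 1 → Recog.IsDerangement Ω u := fun u hu hu1 ω hω =>
    hu1 (Recog.eq_one_of_abelian hc hu hω)
  have haff : ∃ N : Subgroup G, N.Normal ∧ N ≠ ⊥ ∧ IsMulCommutative N ∧
      ∀ ω : Ω, MulAction.stabilizer N ω = ⊥ :=
    ⟨N, hN.normal, hN.ne_bot, hc, fun ω => Recog.stabilizer_eq_bot_of_abelian hc ω⟩
  -- no three pairwise non-conjugate derangements
  have hno3 : ∀ u v w : G, Recog.IsDerangement Ω u → Recog.IsDerangement Ω v →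
      Recog.IsDerangement Ω w → IsConj u v ∨ IsConj u w ∨ IsConj v w := by
    intro u v w hu hv hw
    by_contra hne
    push Not at hne
    have := Recog.card_derangementClasses_ge (Ω := Ω) ![u, v, w]
      (by intro i; fin_cases i <;> assumption)
      (by intro i j hij; fin_cases i <;> fin_cases j <;>
          first | rfl | exact absurd hij hne.1 | exact absurd hij.symm hne.1
                | exact absurd hij hne.2.1 | exact absurd hij.symm hne.2.1
                | exact absurd hij hne.2.2 | exact absurd hij.symm hne.2.2)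
    omega
  right
  by_cases h2 : MulAction.IsMultiplyPretransitive G Ω 2
  · right
    refine ⟨haff, h2, ?_⟩
    by_contra hne
    push Not at hne
    have hfix : ∀ g : G, g ≠ 1 → ∀ a b : Ω, g • a = a → g • b = b → a = b := by
      intro g hg a b ha hb
      have := hne g hg
      have hs : Subsingleton (MulAction.fixedBy Ω g) :=
        Finite.card_le_one_iff_subsingleton.1 (by omega)
      exact congrArg Subtype.val
        (Subsingleton.elim (α := MulAction.fixedBy Ω g) ⟨a, ha⟩ ⟨b, hb⟩)
    have hs : Subsingleton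
        {c : ConjClasses G // ∃ g : G, ConjClasses.mk g = c ∧ ∀ ω : Ω, g • ω ≠ ω} := by
      refine ⟨?_⟩
      rintro ⟨c, g, rfl, hg⟩ ⟨c', g', rfl, hg'⟩
      exact Subtype.ext (ConjClasses.mk_eq_mk_iff_isConj.2
        (Recog.isConj_of_sharply_two_transitive h2 hΩ' hfix hg hg'))
    have := Finite.card_le_one_iff_subsingleton.2 hs
    omega
  · left
    obtain ⟨u, hu, hu1, v, hv, hv1, huv⟩ :
        ∃ u ∈ N, u ≠ 1 ∧ ∃ v ∈ N, v ≠ 1 ∧ ¬ IsConj u v := by
      by_contra hne
      push Not at hne
      exact h2 (Recog.two_transitive_of_conj hN.normal hc hne)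
    have hD : ∀ g : G, Recog.IsDerangement Ω g → g ∈ N := by
      intro g hg
      rcases hno3 u v g (hder u hu hu1) (hder v hv hv1) hg with h | h | h
      · exact absurd h huv
      · obtain ⟨c, rfl⟩ := isConj_iff.1 h; exact hN.normal.conj_mem u hu c
      · obtain ⟨c, rfl⟩ := isConj_iff.1 h; exact hN.normal.conj_mem v hv c
    have hfix : ∀ g : G, g ≠ 1 → ∀ a b : Ω, g • a = a → g • b = b → a = b :=
      fun g hg a b ha hb => Recog.fixedBy_le_one_of_derangements_mem hN.normal hc hD hg ha hb
    have hfix1 : ∀ g : G, g ≠ 1 → Nat.card (MulAction.fixedBy Ω g) ≤ 1 := fun g hg =>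
      Finite.card_le_one_iff_subsingleton.2 ⟨fun a b => Subtype.ext (hfix g hg a.1 b.1 a.2 b.2)⟩
    -- a conjugacy class in `N` has as many elements as a point stabilizer
    have hclass : ∀ w ∈ N, w ≠ 1 →
        Nat.card {x : G // IsConj w x} = Nat.card (MulAction.stabilizer G α) := by
      intro w hw hw1
      let f : MulAction.stabilizer G α → {x : G // IsConj w x} :=
        fun h => ⟨(h : G) * w * (h : G)⁻¹, isConj_iff.2 ⟨h, rfl⟩⟩
      refine (Nat.card_eq_of_bijective f ⟨?_, ?_⟩).symm
      · intro h h' he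
        have he' : (h : G) * w * (h : G)⁻¹ = (h' : G) * w * (h' : G)⁻¹ := congrArg Subtype.val he
        have hk : (h' : G)⁻¹ * (h : G) * w = w * ((h' : G)⁻¹ * h) := by
          calc (h' : G)⁻¹ * (h : G) * w = (h' : G)⁻¹ * ((h : G) * w * (h : G)⁻¹) * h := by group
            _ = w * ((h' : G)⁻¹ * h) := by rw [he']; group
        have hmem : (h' : G)⁻¹ * (h : G) ∈ MulAction.stabilizer G α := mul_mem (inv_mem h'.2) h.2
        have hα : ((h' : G)⁻¹ * (h : G)) • α = α := MulAction.mem_stabilizer_iff.1 hmem
        apply Subtype.ext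
        by_contra hne
        have hne' : (h' : G)⁻¹ * (h : G) ≠ 1 := fun e => hne (inv_mul_eq_one.1 e).symm
        refine hder w hw hw1 α (hfix _ hne' (w • α) α ?_ hα)
        rw [← mul_smul, hk, mul_smul, hα]
      · rintro ⟨x, hx⟩
        obtain ⟨c, rfl⟩ := isConj_iff.1 hx
        obtain ⟨n, hn⟩ := MulAction.exists_smul_eq N (c • α) α
        refine ⟨⟨(n : G) * c, by rw [MulAction.mem_stabilizer_iff, mul_smul]; exact hn⟩, ?_⟩
        apply Subtype.ext
        show (n : G) * c * w * ((n : G) * c)⁻¹ = c * w * c⁻¹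
        have hcom : (n : G) * (c * w * c⁻¹) = c * w * c⁻¹ * n :=
          congrArg Subtype.val (hc.is_comm.comm n ⟨_, hN.normal.conj_mem w hw c⟩)
        calc (n : G) * c * w * ((n : G) * c)⁻¹ = (n : G) * (c * w * c⁻¹) * (n : G)⁻¹ := by group
          _ = _ := by rw [hcom]; group
    -- all derangements lie in these two classes
    have hcard := Recog.card_derangements_of_fixedBy_le_one (G := G) hΩ' hfix
    have hsplit : Nat.card {g : G // Recog.IsDerangement Ω g} =
        Nat.card {x : G // IsConj u x} + Nat.card {x : G // IsConj v x} := by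
      rw [Nat.card_eq_fintype_card, Nat.card_eq_fintype_card, Nat.card_eq_fintype_card,
        Fintype.card_subtype, Fintype.card_subtype, Fintype.card_subtype,
        ← Finset.card_union_of_disjoint]
      · congr 1
        ext g
        simp only [Finset.mem_filter, Finset.mem_univ, true_and, Finset.mem_union]
        constructor
        · intro hg
          rcases hno3 u v g (hder u hu hu1) (hder v hv hv1) hg with h | h | h
          · exact absurd h huv
          · exact Or.inl h
          · exact Or.inr h
        · rintro (h | h)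
          · obtain ⟨c, rfl⟩ := isConj_iff.1 h; exact (hder u hu hu1).conj c
          · obtain ⟨c, rfl⟩ := isConj_iff.1 h; exact (hder v hv hv1).conj c
      · rw [Finset.disjoint_left]
        intro g hg hg'
        simp only [Finset.mem_filter, Finset.mem_univ, true_and] at hg hg'
        exact huv (hg.trans hg'.symm)
    rw [hclass u hu hu1, hclass v hv hv1, hcard, Nat.card_eq_fintype_card (α := Ω)] at hsplit
    refine ⟨haff, hfix1, ?_, ?_⟩ <;> omega

end Cfsg.Agent.S3520
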