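import Cfsg.Statements.S3532
import Cfsg.Agent.Lib.Recog.PSLTwoSquare

set_option autoImplicit false
open Cfsg

namespace Cfsg.Agent.S3532

/-- Let q ≥ 4 be a prime power and L = PSL(2,q). There is a finite solvable group with the same set of element orders as L × L (so L × L is not determined by its spectrum). -/
theorem result {F : Type*} [Field F] [Fintype F] (hF : 4 ≤ Fintype.card F) :
    ∃ (H : Type) (_ : Group H) (_ : Finite H), Group.IsSolvable H ∧
      Set.range (orderOf : H → ℕ) = Set.range (orderOf : Matrix.ProjectiveSpecialLinearGroup (Fin 2) F × Matrix.ProjectiveSpecialLinearGroup (Fin 2) F → ℕ) := by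
  classical
  obtain ⟨p, k, a, b, hp, hk0, hk, hpa, hpb, hab, had, hbd, hup, hlow⟩ :=
    Recog.PSLSquare.psl_data hF
  have := Fact.mk hp
  let K := GaloisField p (2 * k)
  have : Fintype K := Fintype.ofFinite K
  have hK : Nat.card K = Fintype.card F * Fintype.card F := by
    rw [GaloisField.card p (2 * k) (by omega), hk, two_mul, pow_add]
  have roots : ∀ d : ℕ, d ∣ Nat.card K - 1 → 0 < d →
      ∃ z : rootsOfUnity d K, orderOf z = d ∧ Nat.card (rootsOfUnity d K) = d := by
    intro d hd hd0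
    have : NeZero d := ⟨hd0.ne'⟩
    obtain ⟨g, hg⟩ := IsCyclic.exists_ofOrder_eq_natCard (α := Kˣ)
    rw [Nat.card_units] at hg
    have hz : orderOf (g ^ ((Nat.card K - 1) / d)) = d := by
      have h0 : 0 < Nat.card K - 1 := hg ▸ orderOf_pos g
      rw [orderOf_pow_of_dvd (Nat.div_pos (Nat.le_of_dvd h0 hd) hd0).ne'
        (by rw [hg]; exact Nat.div_dvd_of_dvd hd), hg, Nat.div_div_self hd h0.ne']
    have hmem : g ^ ((Nat.card K - 1) / d) ∈ rootsOfUnity d K :=
      (mem_rootsOfUnity d _).2 (orderOf_dvd_iff_pow_eq_one.1 (dvd_of_eq hz))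
    have hz' : orderOf (⟨_, hmem⟩ : rootsOfUnity d K) = d := by
      rw [← Subgroup.orderOf_coe]; exact hz
    refine ⟨⟨_, hmem⟩, hz', le_antisymm ?_ ?_⟩
    · exact card_rootsOfUnity K d
    · rw [Nat.card_eq_fintype_card]
      conv_lhs => rw [← hz']
      exact orderOf_le_card_univ
  have hq : Nat.card K - 1 = (Fintype.card F - 1) * (Fintype.card F + 1) := by
    rw [hK, mul_comm (Fintype.card F - 1), ← Nat.sq_sub_sq, one_pow, pow_two]
  have ha0 : 0 < a := Nat.pos_of_dvd_of_pos had (by omega)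
  have hb0 : 0 < b := Nat.pos_of_dvd_of_pos hbd (by omega)
  obtain ⟨za, hza, hca⟩ := roots a (hq ▸ dvd_mul_of_dvd_left had _) ha0
  obtain ⟨zb, hzb, hcb⟩ := roots b (hq ▸ dvd_mul_of_dvd_right hbd _) hb0
  have := Recog.PSLSquare.isSolvable (K := K) a b
  have : Finite (Multiplicative (K × K) ⋊[Recog.PSLSquare.act a b] Recog.PSLSquare.A K a b) :=
    Finite.of_equiv _ SemidirectProduct.equivProd.symm
  obtain ⟨H, i1, i2, ⟨e⟩⟩ := Recog.exists_type_zero
    (G := Multiplicative (K × K) ⋊[Recog.PSLSquare.act a b] Recog.PSLSquare.A K a b)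
  refine ⟨H, i1, inferInstance, Group.isSolvable_of_isSolvable_injective
    (f := e.toMonoidHom) e.injective, ?_⟩
  rw [Recog.range_orderOf_congr e, Recog.PSLSquare.range_orders p hpa hpb hza hzb hab hca hcb]
  have cp : ∀ {c}, ¬ p ∣ c → Nat.Coprime p c := fun h => (hp.coprime_iff_not_dvd).2 h
  apply Set.Subset.antisymm
  · intro n hn
    have main : ∀ c d, c ∈ ({p, a, b} : Set ℕ) → d ∈ ({p, a, b} : Set ℕ) → Nat.Coprime c d →
        n ∣ c * d → n ∈ Set.range (orderOf : Matrix.ProjectiveSpecialLinearGroup (Fin 2) F ×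
          Matrix.ProjectiveSpecialLinearGroup (Fin 2) F → ℕ) := by
      intro c d hc hd hcd h
      obtain ⟨x, hx⟩ := hlow c hc
      obtain ⟨y, hy⟩ := hlow d hd
      refine Recog.AltSpectrum.mem_range_of_dvd (z := (x, y)) ?_
      rw [Prod.orderOf, hx, hy, hcd.lcm_eq_mul]
      exact h
    rcases hn with h | h | h
    · exact main p a (by simp) (by simp) (cp hpa) h
    · exact main p b (by simp) (by simp) (cp hpb) h
    · exact main a b (by simp) (by simp) hab h
  · rintro _ ⟨⟨x, y⟩, rfl⟩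
    rw [Prod.orderOf]
    have hpp : p ∣ p * a := dvd_mul_right p a
    rcases hup x with hx | hx | hx <;> rcases hup y with hy | hy | hy
    · exact Or.inl (Nat.lcm_dvd (dvd_mul_of_dvd_left hx a) (dvd_mul_of_dvd_left hy a))
    · exact Or.inl (Nat.lcm_dvd (dvd_mul_of_dvd_left hx a) (dvd_mul_of_dvd_right hy p))
    · exact Or.inr (Or.inl (Nat.lcm_dvd (dvd_mul_of_dvd_left hx b) (dvd_mul_of_dvd_right hy p)))
    · exact Or.inl (Nat.lcm_dvd (dvd_mul_of_dvd_right hx p) (dvd_mul_of_dvd_left hy a))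
    · exact Or.inl (Nat.lcm_dvd (dvd_mul_of_dvd_right hx p) (dvd_mul_of_dvd_right hy p))
    · exact Or.inr (Or.inr (Nat.lcm_dvd (dvd_mul_of_dvd_left hx b) (dvd_mul_of_dvd_right hy a)))
    · exact Or.inr (Or.inl (Nat.lcm_dvd (dvd_mul_of_dvd_right hx p) (dvd_mul_of_dvd_left hy b)))
    · exact Or.inr (Or.inr (Nat.lcm_dvd (dvd_mul_of_dvd_right hx a) (dvd_mul_of_dvd_left hy b)))
    · exact Or.inr (Or.inl (Nat.lcm_dvd (dvd_mul_of_dvd_right hx p) (dvd_mul_of_dvd_right hy p)))

end Cfsg.Agent.S3532
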