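import Cfsg.Statements.S3554
import Mathlib

set_option autoImplicit false
open Cfsg

namespace Cfsg.Agent.S3554

/-- Let G act faithfully and transitively on a finite set and suppose G has a non-trivial cyclic normal subgroup. Then some element of G of prime order fixes no point. -/
theorem result {G Ω : Type*} [Group G] [Finite G] [MulAction G Ω] [FaithfulSMul G Ω] [Finite Ω]
    (htrans : MulAction.IsPretransitive G Ω) (C : Subgroup G) (hC : C.Normal) (hC1 : C ≠ ⊥) (hcyc : IsCyclic ↥C) :
    ∃ g : G, (orderOf g).Prime ∧ ∀ ω : Ω, g • ω ≠ ω := by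
  classical
  have : Nontrivial C := (Subgroup.nontrivial_iff_ne_bot C).2 hC1
  obtain ⟨p, hp, hpd⟩ := Nat.exists_prime_and_dvd (Finite.one_lt_card (α := C)).ne'
  have := Fact.mk hp
  obtain ⟨x, hx⟩ := exists_prime_orderOf_dvd_card' (G := C) p hpd
  refine ⟨x, by rw [Subgroup.orderOf_coe, hx]; exact hp, fun ω hω => ?_⟩
  have hfix : ∀ b : Ω, (x : G) • b = b := by
    intro b
    obtain ⟨g, rfl⟩ := MulAction.exists_smul_eq G ω b
    have hy : g⁻¹ * (x : G) * g ∈ C := by simpa using hC.conj_mem _ x.2 g⁻¹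
    have ho : orderOf (⟨_, hy⟩ : C) = p := by
      rw [← Subgroup.orderOf_coe]
      show orderOf (g⁻¹ * (x : G) * g) = p
      rw [show g⁻¹ * (x : G) * g = MulAut.conj g⁻¹ (x : G) by simp, MulEquiv.orderOf_eq, Subgroup.orderOf_coe, hx]
    have heq : Subgroup.zpowers (⟨_, hy⟩ : C) = Subgroup.zpowers x := by
      have := Fintype.ofFinite C
      have hcyc' := hcyc
      have hS : {z : C | z ^ p = 1}.ncard ≤ p := by
        rw [← Nat.card_coe_set_eq, Nat.card_eq_fintype_card, Fintype.card_subtype]
        exact IsCyclic.card_pow_eq_one_le hp.pos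
      have key : ∀ w : C, orderOf w = p → ((Subgroup.zpowers w : Subgroup C) : Set C) = {z : C | z ^ p = 1} := by
        intro w hw
        refine Set.eq_of_subset_of_ncard_le (fun z hz => ?_) ?_
        · show z ^ p = 1
          rw [← hw, ← orderOf_dvd_iff_pow_eq_one]
          exact orderOf_dvd_of_mem_zpowers hz
        · rw [← Nat.card_coe_set_eq (Subgroup.zpowers w : Set C), SetLike.coe_sort_coe, Nat.card_zpowers, hw]
          exact hS
      exact SetLike.coe_injective ((key _ ho).trans (key _ hx).symm)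
    obtain ⟨k, hk⟩ := Subgroup.mem_zpowers_iff.1 (heq ▸ Subgroup.mem_zpowers (⟨_, hy⟩ : C) : (⟨_, hy⟩ : C) ∈ Subgroup.zpowers x)
    have hk' : (x : G) ^ k = g⁻¹ * (x : G) * g := by
      have := congrArg Subtype.val hk
      simpa using this
    have h1 : (g⁻¹ * (x : G) * g) • ω = ω := by
      rw [← hk']
      exact (Subgroup.zpow_mem (MulAction.stabilizer G ω) hω k)
    rwa [mul_smul, mul_smul, inv_smul_eq_iff] at h1
  have h1 : (x : G) = 1 := eq_of_smul_eq_smul (α := Ω) fun b => by rw [hfix b, one_smul]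
  rw [← Subgroup.orderOf_coe, h1, orderOf_one] at hx
  exact hp.one_lt.ne hx

end Cfsg.Agent.S3554
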