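import Cfsg.Statements.S3555
import Cfsg.Agent.Lib.Basics.FrobeniusBasic

set_option autoImplicit false
open Cfsg
open scoped Pointwise

namespace Cfsg.Agent.S3555

/-- Let G act faithfully and transitively on a finite set and suppose every element of G fixing no point is an involution. Then either G is an elementary abelian 2-group, or G is a Frobenius group whose Frobenius kernel is an elementary abelian 2-group: G has a Frobenius complement H, and the elements lying in no conjugate of H, together with the identity, pairwise commute and square to the identity. -/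
theorem result {G Ω : Type*} [Group G] [Finite G] [MulAction G Ω] [FaithfulSMul G Ω] [Finite Ω]
    (htrans : MulAction.IsPretransitive G Ω) (hinv : ∀ g : G, (∀ ω : Ω, g • ω ≠ ω) → orderOf g = 2) :
    (IsMulCommutative G ∧ ∀ g : G, g ^ 2 = 1) ∨
    (∃ H : Subgroup G, Cfsg.IsFrobeniusComplement H ∧
      (∀ x ∈ Cfsg.frobeniusKernel H, x ^ 2 = 1) ∧
      ∀ x ∈ Cfsg.frobeniusKernel H, ∀ y ∈ Cfsg.frobeniusKernel H, x * y = y * x) := by
  classical
  have := Fintype.ofFinite G
  have := Fintype.ofFinite Ω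
  rcases isEmpty_or_nonempty Ω with hΩ | ⟨⟨ω⟩⟩
  · left
    have : ∀ g : G, g = 1 := fun g => FaithfulSMul.eq_of_smul_eq_smul (fun x : Ω => hΩ.elim x)
    exact ⟨⟨⟨fun a b => by rw [this a, this b]⟩⟩, fun g => by rw [this g, one_pow]⟩
  let π : G → ℕ := fun g => (Finset.univ.filter fun a : Ω => g • a = a).card
  let F : Ω → Ω → ℕ := fun a b => (Finset.univ.filter fun g : G => g • a = a ∧ g • b = b).card
  let D : Finset G := Finset.univ.filter fun g : G => ∀ a : Ω, g • a ≠ a
  set n := Fintype.card Ω with hn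
  set h := (Finset.univ.filter fun g : G => g • ω = ω).card with hh
  have hsum1 : ∑ g, π g = n * h := by
    simp only [π, Finset.card_filter]
    rw [Finset.sum_comm]
    have : ∀ a : Ω, (∑ g : G, if g • a = a then 1 else 0) = h := by
      intro a
      obtain ⟨k, rfl⟩ := MulAction.exists_smul_eq G ω a
      rw [hh, Finset.card_filter]
      symm
      refine Fintype.sum_equiv (MulAut.conj k).toEquiv _ _ fun g => if_congr ?_ rfl rfl
      show g • ω = ω ↔ (k * g * k⁻¹) • k • ω = k • ω
      rw [mul_smul, mul_smul, inv_smul_smul, smul_left_cancel_iff]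
    rw [Finset.sum_congr rfl fun a _ => this a, Finset.sum_const, Finset.card_univ, smul_eq_mul]
  have hsum2 : ∑ g, π g * π g = n * ∑ b, F ω b := by
    have e : ∀ g, π g * π g = ∑ a : Ω, ∑ b : Ω, if g • a = a ∧ g • b = b then 1 else 0 := fun g => by
      simp only [π, Finset.card_filter, Finset.sum_mul, Finset.mul_sum]
      refine Finset.sum_congr rfl fun a _ => Finset.sum_congr rfl fun b _ => ?_
      by_cases ha : g • a = a <;> by_cases hb : g • b = b <;> simp [ha, hb]
    rw [Finset.sum_congr rfl fun g _ => e g, Finset.sum_comm]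
    have e2 : ∀ a : Ω, (∑ g : G, ∑ b : Ω, if g • a = a ∧ g • b = b then 1 else 0) = ∑ b, F ω b := by
      intro a
      obtain ⟨k, rfl⟩ := MulAction.exists_smul_eq G ω a
      rw [Finset.sum_comm]
      refine (Fintype.sum_equiv (MulAction.toPerm k) _ _ fun b => ?_).symm
      simp only [F, Finset.card_filter]
      refine Fintype.sum_equiv (MulAut.conj k).toEquiv _ _ fun g => if_congr ?_ rfl rfl
      show g • ω = ω ∧ g • b = b ↔ (k * g * k⁻¹) • k • ω = k • ω ∧ (k * g * k⁻¹) • k • b = k • b
      simp only [mul_smul, inv_smul_smul, smul_left_cancel_iff]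
    rw [Finset.sum_congr rfl fun a _ => e2 a, Finset.sum_const, Finset.card_univ, smul_eq_mul]
  set S := ∑ b ∈ Finset.univ.erase ω, F ω b with hS
  have hFω : ∑ b, F ω b = h + S := by
    rw [← Finset.add_sum_erase _ _ (Finset.mem_univ ω), hh]
    simp [F]
    rfl
  have hDS : D.card ≤ S := by
    have hinv2 : ∀ g ∈ D, g * g = 1 := fun g hg => by
      rw [← pow_two, ← hinv g (Finset.mem_filter.1 hg).2, pow_orderOf_eq_one]
    let pick : Ω → G := fun a => if hx : ∃ x ∈ D, x • ω = a then hx.choose else 1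
    have hpick : ∀ g ∈ D, pick (g • ω) ∈ D ∧ pick (g • ω) • ω = g • ω := by
      intro g hg
      have hx : ∃ x ∈ D, x • ω = g • ω := ⟨g, hg, rfl⟩
      simp only [pick, dif_pos hx]
      exact hx.choose_spec
    refine le_trans (Finset.card_le_card_of_injOn (fun g => ((⟨g • ω, pick (g • ω) * g⟩ : Σ _ : Ω, G)))
      (t := (Finset.univ.erase ω).sigma fun b => Finset.univ.filter fun g : G => g • ω = ω ∧ g • b = b) ?_ ?_) ?_
    · intro g hg
      obtain ⟨hx, hxω⟩ := hpick g hg
      refine Finset.mem_sigma.2 ⟨Finset.mem_erase.2 ⟨(Finset.mem_filter.1 hg).2 ω, Finset.mem_univ _⟩, ?_⟩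
      simp only [Finset.mem_filter, Finset.mem_univ, true_and]
      refine ⟨?_, ?_⟩
      · calc (pick (g • ω) * g) • ω = pick (g • ω) • pick (g • ω) • ω := by rw [mul_smul, hxω]
          _ = ω := by rw [← mul_smul, hinv2 _ hx, one_smul]
      · rw [mul_smul, ← mul_smul g g, hinv2 g hg, one_smul, hxω]
    · intro a _ b _ hab
      obtain ⟨h1, h2⟩ := Sigma.mk.inj hab
      have h3 := eq_of_heq h2
      rw [h1] at h3
      exact mul_left_cancel h3
    · rw [Finset.card_sigma]
  have hle : ∀ g, π g ≤ n := fun g => (Finset.card_le_univ _)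
  have hD0 : ∀ g, g ∈ D ↔ π g = 0 := fun g => by
    simp [D, π, Finset.filter_eq_empty_iff]
  have key : ∀ g, g ∉ D → g ≠ 1 → π g = 1 := by
    have htot : ∑ g, (((π g : ℤ) - 1) * ((n : ℤ) - π g)) = -(n : ℤ) * S := by
      have h1 : (∑ g, (π g : ℤ)) = n * h := by exact_mod_cast hsum1
      have h2 : (∑ g, (π g : ℤ) * π g) = n * (h + S) := by
        rw [← Nat.cast_add, ← hFω]; exact_mod_cast hsum2
      have hG : (Fintype.card G : ℤ) = n * h := by
        have e : Fintype.card G = ∑ b : Ω, (Finset.univ.filter fun g : G => g • ω = b).card :=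
          Finset.card_eq_sum_card_fiberwise (fun g _ => Finset.mem_univ _)
        rw [e, hn, hh, ← Finset.card_univ (α := Ω), ← Nat.cast_mul, ← smul_eq_mul, ← Finset.sum_const]
        congr 1
        refine Finset.sum_congr rfl fun b _ => ?_
        obtain ⟨k, rfl⟩ := MulAction.exists_smul_eq G ω b
        simp only [Finset.card_filter]
        symm
        refine Fintype.sum_equiv (Equiv.mulLeft k) _ _ fun g => if_congr ?_ rfl rfl
        show g • ω = ω ↔ (k * g) • ω = k • ω
        rw [mul_smul, smul_left_cancel_iff]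
      calc ∑ g, (((π g : ℤ) - 1) * ((n : ℤ) - π g))
          = ∑ g, (((n : ℤ) + 1) * π g - (π g : ℤ) * π g - n) := Finset.sum_congr rfl fun g _ => by ring
        _ = ((n : ℤ) + 1) * (n * h) - n * (h + S) - n * (n * h) := by
            rw [Finset.sum_sub_distrib, Finset.sum_sub_distrib, ← Finset.mul_sum, h1, h2, Finset.sum_const,
              Finset.card_univ, nsmul_eq_mul, hG]
            ring
        _ = _ := by ring
    rw [← Finset.sum_filter_add_sum_filter_not Finset.univ (fun g => g ∈ D)] at htot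
    have hDpart : ∑ g ∈ Finset.univ.filter (fun g => g ∈ D), (((π g : ℤ) - 1) * ((n : ℤ) - π g)) = -(n : ℤ) * D.card := by
      rw [Finset.sum_congr rfl (g := fun _ => -(n : ℤ)) fun g hg => by
        rw [(hD0 g).1 (Finset.mem_filter.1 hg).2]; simp]
      rw [Finset.sum_const, nsmul_eq_mul, mul_comm]
      congr 2
      simp
    have hnn : ∀ g ∈ Finset.univ.filter (fun g => g ∉ D), (0 : ℤ) ≤ (((π g : ℤ) - 1) * ((n : ℤ) - π g)) := by
      intro g hg
      have h1 : π g ≠ 0 := fun e => (Finset.mem_filter.1 hg).2 ((hD0 g).2 e)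
      have h2 := hle g
      exact mul_nonneg (by omega) (by omega)
    have hzero : ∑ g ∈ Finset.univ.filter (fun g => g ∉ D), (((π g : ℤ) - 1) * ((n : ℤ) - π g)) = 0 := by
      refine le_antisymm ?_ (Finset.sum_nonneg hnn)
      have : (n : ℤ) * D.card ≤ n * S := by exact_mod_cast Nat.mul_le_mul_left n hDS
      rw [hDpart] at htot
      linarith
    intro g hgD hg1
    have := (Finset.sum_eq_zero_iff_of_nonneg hnn).1 hzero g (Finset.mem_filter.2 ⟨Finset.mem_univ _, hgD⟩)
    rcases mul_eq_zero.1 this with e | e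
    · omega
    · exfalso
      have he : (Finset.univ.filter fun a : Ω => g • a = a) = Finset.univ :=
        Finset.eq_univ_of_card _ (show π g = n by omega)
      refine hg1 (FaithfulSMul.eq_of_smul_eq_smul (α := Ω) fun a => ?_)
      rw [one_smul]
      exact (Finset.mem_filter.1 (show a ∈ Finset.univ.filter (fun a : Ω => g • a = a) by rw [he]; exact Finset.mem_univ a)).2
  by_cases hbot : MulAction.stabilizer G ω = ⊥
  · left
    have hsq : ∀ g : G, g ^ 2 = 1 := by
      intro g
      by_cases hg : g = 1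
      · rw [hg, one_pow]
      have hf : ∀ a : Ω, g • a ≠ a := by
        intro a ha
        obtain ⟨k, rfl⟩ := MulAction.exists_smul_eq G ω a
        have hm : k⁻¹ * g * k ∈ MulAction.stabilizer G ω := by
          show (k⁻¹ * g * k) • ω = ω
          rw [mul_smul, mul_smul, ha, inv_smul_smul]
        rw [hbot, Subgroup.mem_bot] at hm
        exact hg (by calc g = k * (k⁻¹ * g * k) * k⁻¹ := by group
          _ = 1 := by rw [hm]; group)
      rw [← hinv g hf, pow_orderOf_eq_one]
    refine ⟨⟨⟨fun a b => ?_⟩⟩, hsq⟩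
    have e : ∀ x : G, x⁻¹ = x := fun x => inv_eq_of_mul_eq_one_right (by rw [← pow_two, hsq])
    rw [← e (a * b), mul_inv_rev, e, e]
  right
  set H := MulAction.stabilizer G ω with hH
  have huniq : ∀ g : G, g ≠ 1 → ∀ a b : Ω, g • a = a → g • b = b → a = b := by
    intro g hg a b ha hb
    have h1 := key g (fun hd => (Finset.mem_filter.1 hd).2 a ha) hg
    exact Finset.card_le_one.1 (le_of_eq h1) a (Finset.mem_filter.2 ⟨Finset.mem_univ _, ha⟩) b
      (Finset.mem_filter.2 ⟨Finset.mem_univ _, hb⟩)
  have hmem : ∀ (g x : G), x ∈ MulAut.conj g • H ↔ x • g • ω = g • ω := by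
    intro g x
    rw [Subgroup.mem_pointwise_smul_iff_inv_smul_mem, MulAut.smul_def, ← map_inv, MulAut.conj_apply, inv_inv]
    show (g⁻¹ * x * g) • ω = ω ↔ _
    rw [mul_smul, mul_smul, inv_smul_eq_iff]
  have hFrob : Cfsg.IsFrobeniusComplement H := by
    refine ⟨hbot, fun htop => ?_, fun g hg => ?_⟩
    · refine hbot ((Subgroup.eq_bot_iff_forall _).2 fun x _ => FaithfulSMul.eq_of_smul_eq_smul (α := Ω) fun a => ?_)
      obtain ⟨k, rfl⟩ := MulAction.exists_smul_eq G ω a
      have hk : k • ω = ω := (htop ▸ Subgroup.mem_top k : k ∈ H)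
      have hx : x • ω = ω := (htop ▸ Subgroup.mem_top x : x ∈ H)
      rw [hk, hx, one_smul]
    · refine (Subgroup.eq_bot_iff_forall _).2 fun x hx => ?_
      by_contra hx1
      exact hg (huniq x hx1 (g • ω) ω ((hmem g x).1 hx.2) hx.1)
  obtain ⟨N, hN, -, -, -⟩ := Basics.frobenius_kernel_exists hFrob
  have hsq : ∀ x ∈ Cfsg.frobeniusKernel H, x ^ 2 = 1 := by
    rintro x (rfl | hx)
    · exact one_pow 2
    · have hf : ∀ a : Ω, x • a ≠ a := by
        intro a ha
        obtain ⟨k, rfl⟩ := MulAction.exists_smul_eq G ω a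
        exact hx k ((hmem k x).2 ha)
      rw [← hinv x hf, pow_orderOf_eq_one]
  refine ⟨H, hFrob, hsq, fun x hx y hy => ?_⟩
  have e : ∀ z ∈ Cfsg.frobeniusKernel H, z⁻¹ = z := fun z hz =>
    inv_eq_of_mul_eq_one_right (by rw [← pow_two, hsq z hz])
  have hxy : x * y ∈ Cfsg.frobeniusKernel H := by
    rw [← hN] at hx hy ⊢
    exact N.mul_mem hx hy
  rw [← e _ hxy, mul_inv_rev, e x hx, e y hy]

end Cfsg.Agent.S3555
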