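import Cfsg.Statements.S3557

set_option autoImplicit false
open Cfsg

namespace Cfsg.Agent.S3557

open MulAction Subgroup

theorem exists_glue_normal {P Ω : Type*} [Group P] [Finite P] [MulAction P Ω] {p : ℕ}
    [Fact p.Prime] (hP : IsPGroup p P) {a b : Ω} (hb : (stabilizer P b).index = p ^ 2)
    (hN : (stabilizer P b).Normal) (hab : ¬ stabilizer P a ≤ stabilizer P b) :
    ∃ c : P, (∀ x ∈ orbit P b, c ^ p • x = x ∧ c • x ≠ x) ∧
      ∀ a' ∈ orbit P a, ∀ b' ∈ orbit P b, ∃ g : P, g • a' = a' ∧ g • b' = c • b' := by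
  haveI := hN
  set B := stabilizer P b with hB
  obtain ⟨c₀, hc₀a, hc₀b⟩ := SetLike.not_le_iff_exists.mp hab
  obtain ⟨k, hk⟩ := IsPGroup.iff_orderOf.mp (hP.to_quotient B) (c₀ : P ⧸ B)
  have hk0 : k ≠ 0 := fun h => hc₀b ((QuotientGroup.eq_one_iff c₀).mp
    (orderOf_eq_one_iff.mp (by rw [hk, h, pow_zero])))
  obtain ⟨k, rfl⟩ := Nat.exists_eq_succ_of_ne_zero hk0
  set c := c₀ ^ p ^ k with hc
  have hca : c • a = a := pow_mem (show c₀ ∈ stabilizer P a from hc₀a) _
  have hcB : c ∉ B := fun h => by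
    have h1 : (c₀ : P ⧸ B) ^ p ^ k = 1 := by
      rw [← QuotientGroup.mk_pow]; exact (QuotientGroup.eq_one_iff _).mpr h
    have h2 := orderOf_dvd_of_pow_eq_one h1
    rw [hk, Nat.pow_dvd_pow_iff_le_right (Fact.out : p.Prime).one_lt] at h2
    omega
  have hcp : c ^ p ∈ B := by
    rw [← QuotientGroup.eq_one_iff, hc, ← pow_mul, ← pow_succ, QuotientGroup.mk_pow, ← hk,
      pow_orderOf_eq_one]
  have hfix : ∀ g ∈ B, ∀ x ∈ orbit P b, g • x = x := by
    rintro g hg x ⟨y, rfl⟩
    have h1 : y⁻¹ * g * y ∈ B := by simpa using hN.conj_mem g hg y⁻¹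
    calc g • y • b = y • ((y⁻¹ * g * y) • b) := by simp [mul_smul]
      _ = y • b := by rw [mem_stabilizer_iff.mp h1]
  refine ⟨c, fun x hx => ⟨hfix _ hcp x hx, fun h => hcB ?_⟩, ?_⟩
  · obtain ⟨y, rfl⟩ := hx
    have h1 : y⁻¹ * c * y ∈ B := by
      show (y⁻¹ * c * y) • b = b
      rw [mul_smul, mul_smul, h, inv_smul_smul]
    simpa [mul_assoc] using hN.conj_mem _ h1 y
  · rintro a' ⟨x, rfl⟩ b' hb'
    refine ⟨x * c * x⁻¹, by simp [mul_smul, hca], ?_⟩
    have hcomm : (x : P ⧸ B) * c = c * x := IsPGroup.commutative_of_card_eq_prime_sq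
      (by rw [← Subgroup.index_eq_card, hb]) _ _
    have h1 : c⁻¹ * (x * c * x⁻¹) ∈ B := by
      rw [← QuotientGroup.eq_one_iff]
      simp only [QuotientGroup.mk_mul, QuotientGroup.mk_inv]
      rw [hcomm]
      group
    calc (x * c * x⁻¹) • b' = c • ((c⁻¹ * (x * c * x⁻¹)) • b') := by simp [mul_smul]
      _ = c • b' := by rw [hfix _ h1 _ hb']

theorem exists_glue_not_normal {P Ω : Type*} [Group P] [Finite P] [MulAction P Ω] {p : ℕ}
    [Fact p.Prime] (hP : IsPGroup p P) {a b : Ω} (ha : (stabilizer P a).index = p ^ 2)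
    (hb : (stabilizer P b).index = p ^ 2) (hN : ¬ (stabilizer P b).Normal)
    {z : P} (hza : z ∉ stabilizer P a) (hza' : ∀ a' ∈ orbit P a, z • a' ≠ a')
    (hzb : ∀ x ∈ orbit P b, z • x = x) :
    ∃ c : P, (∀ x ∈ orbit P b, c ^ p • x = x ∧ c • x ≠ x) ∧
      ∀ a' ∈ orbit P a, ∀ b' ∈ orbit P b, ∃ g : P, g • a' = a' ∧ g • b' = c • b' := by
  have hp : p.Prime := Fact.out
  set K := (stabilizer P b).normalCore with hKdef
  have hKfix : ∀ g ∈ K, ∀ x ∈ orbit P b, g • x = x := by
    rintro g hg x ⟨y, rfl⟩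
    have h1 : y⁻¹ * g * y ∈ stabilizer P b :=
      normalCore_le _ (by simpa using (normalCore_normal _).conj_mem g hg y⁻¹)
    calc g • y • b = y • ((y⁻¹ * g * y) • b) := by simp [mul_smul]
      _ = y • b := by rw [mem_stabilizer_iff.mp h1]
  have hKmem : ∀ g : P, (∀ x ∈ orbit P b, g • x = x) → g ∈ K := fun g hg y => by
    show (y * g * y⁻¹) • b = b
    rw [mul_smul, mul_smul, hg _ (mem_orbit b y⁻¹), smul_inv_smul]
  haveI : Nontrivial (P ⧸ K) := by
    rw [← Finite.one_lt_card_iff_nontrivial, ← Subgroup.index_eq_card]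
    refine lt_of_lt_of_le (by rw [hb]; exact Nat.one_lt_pow two_ne_zero hp.one_lt)
      (Nat.le_of_dvd (Nat.pos_of_ne_zero Subgroup.index_ne_zero_of_finite)
        (index_dvd_of_le (normalCore_le _)))
  haveI := (hP.to_quotient K).center_nontrivial
  obtain ⟨cc, hcc⟩ := exists_prime_orderOf_dvd_card' (G := Subgroup.center (P ⧸ K)) p (by
    obtain ⟨n, hn⟩ := IsPGroup.iff_card.mp ((hP.to_quotient K).to_subgroup (Subgroup.center (P ⧸ K)))
    have : n ≠ 0 := fun h => by
      have h1 := (Finite.one_lt_card : 1 < Nat.card (Subgroup.center (P ⧸ K)))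
      rw [hn, h, pow_zero] at h1
      omega
    rw [hn]; exact dvd_pow_self p this)
  obtain ⟨c, hc⟩ := QuotientGroup.mk_surjective (cc : P ⧸ K)
  have hord : orderOf (c : P ⧸ K) = p := by rw [hc, Subgroup.orderOf_coe, hcc]
  have hcp : c ^ p ∈ K := by
    rw [← QuotientGroup.eq_one_iff, QuotientGroup.mk_pow, ← hord, pow_orderOf_eq_one]
  have hcomm : ∀ y : P, ∀ x ∈ orbit P b, y • c • x = c • y • x := by
    intro y x hx
    have h1 : (y * c)⁻¹ * (c * y) ∈ K := by
      rw [← QuotientGroup.eq, QuotientGroup.mk_mul, QuotientGroup.mk_mul, hc]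
      exact mem_center_iff.mp cc.2 _
    have h2 := hKfix _ h1 x hx
    rw [mul_smul, inv_smul_eq_iff, mul_smul, mul_smul] at h2
    exact h2.symm
  have hcne : ∀ x ∈ orbit P b, c • x ≠ x := by
    intro x hx h
    have h1 : c ∈ K := hKmem c fun w hw => by
      have hw' : w ∈ orbit P x := by rw [orbit_eq_iff.mpr hx]; exact hw
      obtain ⟨y, rfl⟩ := hw'
      show c • y • x = y • x
      rw [← hcomm y x hx, h]
    have h2 : orderOf (c : P ⧸ K) = 1 :=
      orderOf_eq_one_iff.mpr ((QuotientGroup.eq_one_iff c).mpr h1)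
    rw [hord] at h2
    exact hp.ne_one h2
  refine ⟨c, fun x hx => ⟨hKfix _ hcp x hx, hcne x hx⟩, fun a' ha' b' hb' => ?_⟩
  by_contra hcon
  push Not at hcon
  -- the block of `b'`
  have hoa : orbit P a' = orbit P a := orbit_eq_iff.mpr ha'
  have hob : orbit P b' = orbit P b := orbit_eq_iff.mpr hb'
  have ha2 : (stabilizer P a').index = p ^ 2 := by rw [index_stabilizer, hoa, ← index_stabilizer, ha]
  have hb2 : (stabilizer P b').index = p ^ 2 := by rw [index_stabilizer, hob, ← index_stabilizer, hb]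
  have hpowb : ∀ i : ℕ, c ^ i • b' ∈ orbit P b := fun i => hob ▸ mem_orbit b' (c ^ i)
  have hcompow : ∀ (y : P) (i : ℕ), y • c ^ i • b' = c ^ i • y • b' := by
    intro y i
    induction i with
    | zero => simp
    | succ i ih =>
      rw [pow_succ', mul_smul, mul_smul, hcomm y _ (hpowb i), ih]
  have hmod : ∀ i : ℕ, c ^ i • b' = c ^ (i % p) • b' := by
    intro i
    conv_lhs => rw [← Nat.mod_add_div i p, pow_add, mul_smul, pow_mul]
    rw [hKfix _ (pow_mem hcp _) b' hb']
  let M : Subgroup P :=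
    { carrier := {g | ∃ i : ℕ, g • b' = c ^ i • b'}
      one_mem' := ⟨0, by simp⟩
      mul_mem' := fun {g h} hg hh => by
        obtain ⟨i, hi⟩ := hg
        obtain ⟨j, hj⟩ := hh
        exact ⟨j + i, by rw [mul_smul, hj, hcompow, hi, pow_add, mul_smul]⟩
      inv_mem' := fun {g} hg => by
        obtain ⟨i, hi⟩ := hg
        refine ⟨i * (p - 1), ?_⟩
        rw [inv_smul_eq_iff, hcompow, hi, ← mul_smul, ← pow_add, hmod,
          show i * (p - 1) + i = p * i by
            obtain ⟨q, rfl⟩ := Nat.exists_eq_succ_of_ne_zero hp.ne_zero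
            rw [Nat.succ_sub_one, Nat.succ_mul]; ring,
          Nat.mul_mod_right, pow_zero, one_smul] }
  have hBM : stabilizer P b' ≤ M := fun g hg => ⟨0, by simpa using hg⟩
  have hcM : c ∈ M := ⟨1, by rw [pow_one]⟩
  have hmul := relIndex_mul_index hBM
  rw [hb2] at hmul
  have hMtop : M ≠ ⊤ := by
    intro h
    have hsub : orbit P b' ⊆ Set.range fun i : Fin p => c ^ (i : ℕ) • b' := by
      rintro w ⟨g, rfl⟩
      obtain ⟨i, hi⟩ : g ∈ M := h ▸ mem_top g
      exact ⟨⟨i % p, Nat.mod_lt _ hp.pos⟩, ((hmod i).symm.trans hi.symm)⟩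
    have h1 := (Set.ncard_le_ncard hsub (Set.finite_range _)).trans (Finite.card_range_le _)
    rw [← index_stabilizer, hb2, Nat.card_fin] at h1
    nlinarith [hp.two_le]
  have hMidx : M.index = p := by
    obtain ⟨j, hj, hj'⟩ := (Nat.dvd_prime_pow hp).mp (Dvd.intro_left _ hmul)
    have hj0 : j ≠ 0 := fun h => hMtop (index_eq_one.mp (by rw [hj', h, pow_zero]))
    have hj2 : j ≠ 2 := fun h => by
      rw [hj', h] at hmul
      have h1 : (stabilizer P b').relIndex M = 1 :=
        Nat.eq_of_mul_eq_mul_right (pow_pos hp.pos 2) (by rw [hmul, one_mul])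
      exact hcne b' hb' (relIndex_eq_one.mp h1 hcM)
    rw [hj', show j = 1 by omega, pow_one]
  haveI hMn : M.Normal := normal_of_index_eq_minFac_card (by
    obtain ⟨n, hn⟩ := IsPGroup.iff_card.mp hP
    have hn0 : n ≠ 0 := fun h => by
      have := M.index_dvd_card
      rw [hMidx, hn, h, pow_zero, Nat.dvd_one] at this
      exact hp.ne_one this
    rw [hMidx, hn, Nat.pow_minFac hn0, hp.minFac_eq])
  set A := stabilizer P a' with hAdef
  have hcardAB : Nat.card A = Nat.card (stabilizer P b') := by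
    have h1 := A.card_mul_index
    rw [← (stabilizer P b').card_mul_index, ha2, hb2] at h1
    exact Nat.eq_of_mul_eq_mul_right (pow_pos hp.pos 2) h1
  have hzA : z ∉ A := hza' a' ha'
  -- elements of `A` in the block stabiliser fix `b'`
  have hD : ∀ d ∈ A ⊓ M, d • b' = b' := by
    rintro d ⟨hdA, i, hi⟩
    have hpow : ∀ j : ℕ, d ^ j • b' = c ^ (i * j) • b' := by
      intro j
      induction j with
      | zero => simp
      | succ j ih =>
        rw [pow_succ', mul_smul, ih, hcompow, hi, ← mul_smul, ← pow_add, Nat.mul_succ]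
    by_cases hpi : p ∣ i
    · rw [hi, hmod, Nat.mod_eq_zero_of_dvd hpi, pow_zero, one_smul]
    · obtain ⟨j, hj⟩ := Nat.exists_mul_mod_eq_one_of_coprime
        ((hp.coprime_iff_not_dvd.mpr hpi).symm) hp.one_lt
      exact absurd (by rw [hpow, hmod, hj.2, pow_one]) (hcon (d ^ j) (pow_mem hdA j))
  have hAM : ¬ A ≤ M := by
    intro h
    have h1 : A ≤ stabilizer P b' := fun d hd => hD d ⟨hd, h hd⟩
    exact hzA ((eq_of_le_of_card_ge h1 hcardAB.ge).symm ▸ hzb b' hb')
  have hsup : A ⊔ M = ⊤ := by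
    rw [← index_eq_one]
    have h1 := index_dvd_of_le (le_sup_right : M ≤ A ⊔ M)
    rw [hMidx] at h1
    refine (hp.eq_one_or_self_of_dvd _ h1).resolve_right fun h => hAM ?_
    have h2 := relIndex_mul_index (le_sup_right : M ≤ A ⊔ M)
    rw [hMidx, h] at h2
    have h3 : M.relIndex (A ⊔ M) = 1 := Nat.eq_of_mul_eq_mul_right hp.pos (by rw [h2, one_mul])
    exact le_sup_left.trans (relIndex_eq_one.mp h3)
  have hDK : A ⊓ M ≤ K := by
    intro d hd
    refine hKmem d fun w hw => ?_
    rw [← hob] at hw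
    obtain ⟨g, rfl⟩ := hw
    show d • g • b' = g • b'
    have hg : g ∈ ((A ⊔ M : Subgroup P) : Set P) := hsup ▸ mem_top g
    rw [mul_normal] at hg
    obtain ⟨x, hx, m, hm, rfl⟩ := Set.mem_mul.mp hg
    obtain ⟨i, hi⟩ := hm
    have h1 : x⁻¹ * d * x ∈ A ⊓ M :=
      ⟨A.mul_mem (A.mul_mem (A.inv_mem hx) hd.1) hx, by simpa using hMn.conj_mem d hd.2 x⁻¹⟩
    have h2 : (x⁻¹ * d * x) • m • b' = m • b' := by rw [hi, hcompow, hD _ h1]
    calc d • (x * m) • b' = x • ((x⁻¹ * d * x) • m • b') := by simp [mul_smul]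
      _ = (x * m) • b' := by rw [h2, mul_smul]
  -- counting
  have hzK : z ∈ K := hKmem z hzb
  have hAD : Nat.card A ≤ Nat.card (A ⊓ M : Subgroup P) * p := by
    have h1 := relIndex_mul_index (inf_le_left : A ⊓ M ≤ A)
    have h2 := (A ⊓ M).card_mul_index
    rw [← A.card_mul_index, ← h1, ← mul_assoc] at h2
    have h3 := Nat.eq_of_mul_eq_mul_right (Nat.pos_of_ne_zero index_ne_zero_of_finite) h2
    rw [← h3, inf_relIndex_left]
    exact Nat.mul_le_mul_left _ (Nat.le_of_dvd hp.pos (hMidx ▸ relIndex_dvd_index_of_normal M A))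
  have hKcard : Nat.card (A ⊓ M : Subgroup P) * p ≤ Nat.card K := by
    obtain ⟨u, hu⟩ := IsPGroup.iff_card.mp (hP.to_subgroup K)
    obtain ⟨v, hv⟩ := IsPGroup.iff_card.mp (hP.to_subgroup (A ⊓ M))
    have huv : v < u := by
      by_contra h
      have h1 : Nat.card K ≤ Nat.card (A ⊓ M : Subgroup P) := by
        rw [hu, hv]; exact Nat.pow_le_pow_right hp.pos (not_lt.mp h)
      exact hzA ((eq_of_le_of_card_ge hDK h1).symm ▸ hzK : z ∈ A ⊓ M).1
    rw [hu, hv, ← pow_succ]
    exact Nat.pow_le_pow_right hp.pos huv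
  refine hN ?_
  have hle : K ≤ stabilizer P b := normalCore_le _
  have hbb : Nat.card (stabilizer P b) = Nat.card (stabilizer P b') := by
    have h1 := (stabilizer P b).card_mul_index
    rw [← (stabilizer P b').card_mul_index, hb, hb2] at h1
    exact Nat.eq_of_mul_eq_mul_right (pow_pos hp.pos 2) h1
  rw [← eq_of_le_of_card_ge hle (by rw [hbb, ← hcardAB]; exact hAD.trans hKcard)]
  exact normalCore_normal _

/-- Let G act faithfully and transitively on a finite set with 2p² points, p a prime, and suppose G is 2-closed: every permutation of the set which, on each ordered pair of points, agrees with some element of G, is itself induced by an element of G. Then some element of G of prime order fixes no point. -/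
theorem result {G Ω : Type*} [Group G] [Finite G] [MulAction G Ω] [FaithfulSMul G Ω] [Finite Ω]
    (htrans : MulAction.IsPretransitive G Ω) (p : ℕ) (hp : p.Prime) (hcard : Nat.card Ω = 2 * p ^ 2)
    (hcl : ∀ σ : Equiv.Perm Ω, (∀ a b : Ω, ∃ g : G, σ a = g • a ∧ σ b = g • b) → ∃ g : G, ∀ a : Ω, σ a = g • a) :
    ∃ g : G, (orderOf g).Prime ∧ ∀ ω : Ω, g • ω ≠ ω := by
  classical
  haveI : Fact p.Prime := ⟨hp⟩
  haveI := htrans
  haveI : Nonempty Ω := Nat.card_pos_iff.mp (by rw [hcard]; exact Nat.mul_pos two_pos (pow_pos hp.pos 2)) |>.1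
  let P : Sylow p G := default
  have hP : IsPGroup p P := P.2
  -- every orbit of `P` has at least `p ^ 2` points
  have horb : ∀ a : Ω, ∃ k, (orbit P a).ncard = p ^ k ∧ 2 ≤ k := by
    intro a
    obtain ⟨k, hk⟩ := hP.index (stabilizer P a)
    refine ⟨k, by rw [← index_stabilizer, hk], ?_⟩
    have h1 : (P : Subgroup G).index * (stabilizer P a).index =
        (stabilizer G a).index * ((stabilizer P a).map (P : Subgroup G).subtype).relIndex (stabilizer G a) := by
      rw [mul_comm (stabilizer G a).index, relIndex_mul_index, index_map_subtype, mul_comm]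
      rintro _ ⟨x, hx, rfl⟩
      exact hx
    have h2 : p ^ 2 ∣ (P : Subgroup G).index * p ^ k := by
      rw [← hk, h1, index_stabilizer_of_transitive, hcard]
      exact Dvd.dvd.mul_right (Dvd.intro_left 2 rfl) _
    exact (Nat.pow_dvd_pow_iff_le_right hp.one_lt).mp
      (((Nat.Coprime.pow_left 2 (hp.coprime_iff_not_dvd.mpr P.not_dvd_index))).dvd_of_dvd_mul_left h2)
  -- a central element of order `p`
  haveI : Nontrivial P := by
    rw [← Finite.one_lt_card_iff_nontrivial]
    obtain ⟨k, hk, hk2⟩ := horb (Classical.arbitrary Ω)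
    rw [← index_stabilizer] at hk
    refine lt_of_lt_of_le ?_ (Nat.le_of_dvd Nat.card_pos
      (index_dvd_card (stabilizer P (Classical.arbitrary Ω))))
    rw [hk]; exact Nat.one_lt_pow (by omega) hp.one_lt
  haveI := hP.center_nontrivial
  obtain ⟨zz, hzz⟩ := exists_prime_orderOf_dvd_card' (G := Subgroup.center P) p (by
    obtain ⟨n, hn⟩ := IsPGroup.iff_card.mp (hP.to_subgroup (Subgroup.center P))
    have : n ≠ 0 := fun h => by
      have h1 := (Finite.one_lt_card : 1 < Nat.card (Subgroup.center P))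
      rw [hn, h, pow_zero] at h1
      omega
    rw [hn]; exact dvd_pow_self p this)
  set z : P := (zz : P) with hzdef
  have hzo : orderOf (z : G) = p := by rw [Subgroup.orderOf_coe, hzdef, Subgroup.orderOf_coe, hzz]
  have hzc : ∀ y : P, y * z = z * y := fun y => mem_center_iff.mp zz.2 y
  by_cases hfpf : ∀ ω : Ω, (z : G) • ω ≠ ω
  · exact ⟨z, by rw [hzo]; exact hp, hfpf⟩
  push Not at hfpf
  obtain ⟨b, hb⟩ := hfpf
  obtain ⟨a, ha⟩ : ∃ a : Ω, (z : G) • a ≠ a := by
    by_contra h
    push Not at h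
    have : (z : G) = 1 := eq_of_smul_eq_smul (α := Ω) fun w => by rw [h w, one_smul]
    rw [this, orderOf_one] at hzo
    exact hp.ne_one hzo.symm
  have hzb : ∀ x ∈ orbit P b, z • x = x := by
    rintro x ⟨y, rfl⟩
    show z • y • b = y • b
    rw [← mul_smul, ← hzc, mul_smul]
    exact congrArg _ hb
  have hza : ∀ x ∈ orbit P a, z • x ≠ x := by
    rintro x ⟨y, rfl⟩ h
    refine ha ?_
    change z • y • a = y • a at h
    rw [← mul_smul, ← hzc, mul_smul] at h
    exact smul_left_cancel y h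
  have hdisj : Disjoint (orbit P a) (orbit P b) :=
    Set.disjoint_left.mpr fun x hxa hxb => hza x hxa (hzb x hxb)
  obtain ⟨ka, hka, hka2⟩ := horb a
  obtain ⟨kb, hkb, hkb2⟩ := horb b
  have hsum : (orbit P a).ncard + (orbit P b).ncard ≤ 2 * p ^ 2 := by
    rw [← Set.ncard_union_eq hdisj, ← hcard]
    exact Set.ncard_le_card _
  have hla : p ^ 2 ≤ (orbit P a).ncard := hka ▸ Nat.pow_le_pow_right hp.pos hka2
  have hlb : p ^ 2 ≤ (orbit P b).ncard := hkb ▸ Nat.pow_le_pow_right hp.pos hkb2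
  have ha2 : (orbit P a).ncard = p ^ 2 := by omega
  have hb2 : (orbit P b).ncard = p ^ 2 := by omega
  have huniv : ∀ x : Ω, x ∈ orbit P a ∨ x ∈ orbit P b := by
    intro x
    have h : orbit P a ∪ orbit P b = Set.univ := by
      refine Set.eq_of_subset_of_ncard_le (Set.subset_univ _) ?_
      rw [Set.ncard_univ, hcard, Set.ncard_union_eq hdisj]
      omega
    exact (Set.ext_iff.mp h x).mpr (Set.mem_univ x)
  obtain ⟨c, hc, hglue⟩ : ∃ c : P, (∀ x ∈ orbit P b, c ^ p • x = x ∧ c • x ≠ x) ∧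
      ∀ a' ∈ orbit P a, ∀ b' ∈ orbit P b, ∃ g : P, g • a' = a' ∧ g • b' = c • b' := by
    by_cases hN : (stabilizer P b).Normal
    · refine exists_glue_normal hP (by rw [index_stabilizer, hb2]) hN fun h => ha ?_
      have h1 := (stabilizer P a).card_mul_index
      rw [← (stabilizer P b).card_mul_index, index_stabilizer, index_stabilizer, ha2, hb2] at h1
      have h2 := eq_of_le_of_card_ge h (Nat.eq_of_mul_eq_mul_right (pow_pos hp.pos 2) h1).ge
      exact (h2.symm ▸ hzb b (mem_orbit_self b) : z ∈ stabilizer P a)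
    · exact exists_glue_not_normal hP (by rw [index_stabilizer, ha2])
        (by rw [index_stabilizer, hb2]) hN (hza a (mem_orbit_self a)) hza hzb
  -- glue
  have hmemb : ∀ x, x ∈ orbit P b → c • x ∈ orbit P b := fun x hx =>
    orbit_eq_iff.mpr hx ▸ mem_orbit x c
  have hinv : ∀ x, x ∈ orbit P b → c⁻¹ • x ∈ orbit P b := fun x hx =>
    orbit_eq_iff.mpr hx ▸ mem_orbit x c⁻¹
  let σ : Equiv.Perm Ω :=
    { toFun := fun x => if x ∈ orbit P b then c • x else x
      invFun := fun x => if x ∈ orbit P b then c⁻¹ • x else x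
      left_inv := fun x => by
        by_cases hx : x ∈ orbit P b
        · simp [hx, hmemb x hx]
        · simp [hx]
      right_inv := fun x => by
        by_cases hx : x ∈ orbit P b
        · simp [hx, hinv x hx]
        · simp [hx] }
  have hσb : ∀ x ∈ orbit P b, σ x = c • x := fun x hx => if_pos hx
  have hσa : ∀ x ∈ orbit P a, σ x = x := fun x hx =>
    if_neg fun h => hza x hx (hzb x h)
  obtain ⟨h, hh⟩ := hcl σ (by
    intro u v
    rcases huniv u with hu | hu <;> rcases huniv v with hv | hv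
    · exact ⟨1, by rw [hσa u hu, one_smul], by rw [hσa v hv, one_smul]⟩
    · obtain ⟨g, hg1, hg2⟩ := hglue u hu v hv
      exact ⟨g, (hσa u hu).trans hg1.symm, (hσb v hv).trans hg2.symm⟩
    · obtain ⟨g, hg1, hg2⟩ := hglue v hv u hu
      exact ⟨g, (hσb u hu).trans hg2.symm, (hσa v hv).trans hg1.symm⟩
    · exact ⟨c, hσb u hu, hσb v hv⟩)
  refine ⟨(z : G) * h, ?_, ?_⟩
  swap
  · intro x
    rw [mul_smul, ← hh]
    rcases huniv x with hx | hx
    · rw [hσa x hx]; exact hza x hx
    · rw [hσb x hx]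
      show z • c • x ≠ x
      rw [hzb _ (hmemb x hx)]
      exact (hc x hx).2
  have hne : (z : G) * h ≠ 1 := by
    intro he
    refine hza a (mem_orbit_self a) ?_
    have h1 : ((z : G) * h) • a = a := by rw [he, one_smul]
    rw [mul_smul, ← hh, hσa a (mem_orbit_self a)] at h1
    exact h1
  have hpow : ∀ n : ℕ, (∀ x ∈ orbit P a, ((z : G) * h) ^ n • x = z ^ n • x) ∧
      ∀ x ∈ orbit P b, ((z : G) * h) ^ n • x = c ^ n • x := by
    intro n
    induction n with
    | zero => simp
    | succ n ih =>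
      refine ⟨fun x hx => ?_, fun x hx => ?_⟩
      · have hx' : z ^ n • x ∈ orbit P a := orbit_eq_iff.mpr hx ▸ mem_orbit x _
        rw [pow_succ', mul_smul, ih.1 x hx, pow_succ', mul_smul, mul_smul, ← hh, hσa _ hx']
        rfl
      · have hx' : c ^ n • x ∈ orbit P b := orbit_eq_iff.mpr hx ▸ mem_orbit x _
        rw [pow_succ', mul_smul, ih.2 x hx, pow_succ', mul_smul, mul_smul, ← hh, hσb _ hx']
        exact hzb _ (hmemb _ hx')
  have hone : ((z : G) * h) ^ p = 1 := eq_of_smul_eq_smul (α := Ω) fun x => by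
    rw [one_smul]
    rcases huniv x with hx | hx
    · rw [(hpow p).1 x hx, show z ^ p = 1 from orderOf_dvd_iff_pow_eq_one.mp (by
        rw [← Subgroup.orderOf_coe, hzo]), one_smul]
    · rw [(hpow p).2 x hx]; exact (hc x hx).1
  rw [orderOf_eq_prime hone hne]
  exact hp

end Cfsg.Agent.S3557
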