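import Cfsg.Statements.S3559
import Cfsg.Agent.Lib.Recog.SchurCyclic

set_option autoImplicit false
open Cfsg

namespace Cfsg.Agent.S3559

/-- Let G act faithfully and transitively on a finite set whose number of points n ≥ 2 is not a prime power, and suppose G has a cyclic subgroup acting regularly (transitively with trivial point stabilizers). Then G is imprimitive or doubly transitive. -/
theorem result {G Ω : Type*} [Group G] [Finite G] [MulAction G Ω] [FaithfulSMul G Ω] [Finite Ω]
    (htrans : MulAction.IsPretransitive G Ω) (hn : 2 ≤ Nat.card Ω) (hnp : ¬ IsPrimePow (Nat.card Ω))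
    (C : Subgroup G) (hcyc : IsCyclic ↥C) (hC : MulAction.IsPretransitive ↥C Ω ∧ ∀ a : Ω, MulAction.stabilizer ↥C a = ⊥) :
    ¬ MulAction.IsPreprimitive G Ω ∨ MulAction.IsMultiplyPretransitive G Ω 2 := by
  classical
  by_contra hcon
  rw [not_or, not_not] at hcon
  obtain ⟨hprim, hnot2⟩ := hcon
  haveI := hprim
  obtain ⟨ω⟩ : Nonempty Ω := (Nat.card_pos_iff.1 (show 0 < Nat.card Ω by omega)).1
  have hbij : Function.Bijective (fun x : C => (x : G) • ω) := by
    refine ⟨fun a b h => ?_, fun y => hC.1.exists_smul_eq ω y⟩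
    have : b⁻¹ * a ∈ MulAction.stabilizer C ω := by
      show (b⁻¹ * a) • ω = ω
      rw [mul_smul, inv_smul_eq_iff]; exact h
    rw [hC.2 ω, Subgroup.mem_bot] at this
    exact (inv_mul_eq_one.1 this).symm
  have hcomm : ∀ a b : C, a * b = b * a := fun a b => by
    letI := IsCyclic.commGroup (α := C); exact mul_comm a b
  haveI := Fintype.ofFinite C
  set n := Nat.card C with hn
  have hnΩ : n = Nat.card Ω := Nat.card_eq_of_bijective _ hbij
  have hpow : ∀ {m : ℕ}, m.Coprime n → Function.Bijective (fun x : C => x ^ m) := fun {m} hm =>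
    (powCoprime (G := C) (n := m) (Nat.coprime_comm.1 hm)).bijective
  have hprimeStep : ∀ p : ℕ, p.Prime → p.Coprime n → ∀ S : Set C, Recog.SchurCyclic.InvS C ω S →
      Recog.SchurCyclic.InvS C ω ((fun x : C => x ^ p) '' S) := by
    intro p hp hcop S hS
    haveI := Fact.mk hp
    have h := Recog.SchurCyclic.frobenius C ω hbij p hcomm hS
    have hcnt : ∀ x, (x ∈ (fun x : C => x ^ p) '' S ↔
        ((Finset.univ.filter fun y => y ∈ S ∧ y ^ p = x).card : ZMod p) = 1) := by
      intro x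
      have h1 : (Finset.univ.filter fun y => y ∈ S ∧ y ^ p = x).card ≤ 1 :=
        Finset.card_le_one.2 fun a ha b hb =>
          (hpow hcop).1 ((Finset.mem_filter.1 ha).2.2.trans (Finset.mem_filter.1 hb).2.2.symm)
      constructor
      · rintro ⟨y, hy, rfl⟩
        simp only at h1
        have h2 : 0 < (Finset.univ.filter fun z => z ∈ S ∧ z ^ p = y ^ p).card :=
          Finset.card_pos.2 ⟨y, Finset.mem_filter.2 ⟨Finset.mem_univ _, hy, rfl⟩⟩
        rw [show (Finset.univ.filter fun z => z ∈ S ∧ z ^ p = y ^ p).card = 1 by omega, Nat.cast_one]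
      · intro he
        obtain ⟨y, hy⟩ := Finset.card_pos.1 (Nat.pos_of_ne_zero fun h0 => by
          rw [h0, Nat.cast_zero] at he; exact zero_ne_one he)
        exact ⟨y, (Finset.mem_filter.1 hy).2.1, (Finset.mem_filter.1 hy).2.2⟩
    intro g hg x y hxy
    exact propext ((hcnt x).trans ((Iff.of_eq (congrArg (· = (1 : ZMod p)) (h g hg x y hxy))).trans (hcnt y).symm))
  have hmult : ∀ m : ℕ, m.Coprime n → ∀ S : Set C, Recog.SchurCyclic.InvS C ω S →
      Recog.SchurCyclic.InvS C ω ((fun x : C => x ^ m) '' S) := by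
    intro m
    induction m using induction_on_primes with
    | zero => intro h; rw [Nat.coprime_zero_left] at h; omega
    | one => intro _ S hS; simpa using hS
    | prime_mul p a hp ih =>
      intro h S hS
      rw [Nat.coprime_mul_iff_left] at h
      have := hprimeStep p hp h.1 _ (ih h.2 S hS)
      rw [Set.image_image] at this
      simp only [← pow_mul] at this
      rwa [mul_comm p a]
  let O : C → Set C := fun x => {y | ∃ g : G, g • ω = ω ∧ g • ((x : G) • ω) = (y : G) • ω}
  have hOinv : ∀ x, Recog.SchurCyclic.InvS C ω (O x) := Recog.SchurCyclic.invS_orbit C ω hbij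
  have hOmin : ∀ x (S : Set C), Recog.SchurCyclic.InvS C ω S → x ∈ S → O x ⊆ S := by
    rintro x S hS hx y ⟨g, hg, hgy⟩
    exact (Iff.of_eq (hS g hg x y hgy)).1 hx
  have hOself : ∀ x, x ∈ O x := fun x => ⟨1, one_smul _ _, one_smul _ _⟩
  have hOeq : ∀ x, ∀ y ∈ O x, O y = O x := by
    intro x y hy
    refine Set.Subset.antisymm (hOmin y _ (hOinv x) hy) (hOmin x _ (hOinv y) ?_)
    obtain ⟨g, hg, hgy⟩ := hy
    exact ⟨g⁻¹, by rw [inv_smul_eq_iff, hg], by rw [← hgy, inv_smul_smul]⟩
  have hone : ∀ x : C, x ≠ 1 → (1 : C) ∉ O x := by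
    rintro x hx ⟨g, hg, h⟩
    rw [Subgroup.coe_one, one_smul] at h
    refine hx (hbij.1 (show (x : G) • ω = ((1 : C) : G) • ω from ?_))
    rw [Subgroup.coe_one, one_smul]
    exact MulAction.injective g (h.trans hg.symm)
  have hinv1 : Recog.SchurCyclic.InvS C ω {x : C | x ≠ 1} := by
    intro g hg x y hxy
    refine propext (not_congr ⟨fun e => ?_, fun e => ?_⟩)
    · refine hbij.1 (show (y : G) • ω = ((1 : C) : G) • ω from ?_)
      rw [← hxy, e, Subgroup.coe_one, one_smul, hg]
    · refine hbij.1 (show (x : G) • ω = ((1 : C) : G) • ω from ?_)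
      rw [e, Subgroup.coe_one, one_smul] at hxy
      rw [Subgroup.coe_one, one_smul]
      exact MulAction.injective g (hxy.trans hg.symm)
  have hmeet : ∀ p : ℕ, p.Prime → p ∣ n → ∀ x : C, x ≠ 1 → ∃ d ∈ O x, d ≠ 1 ∧ d ^ p = 1 := by
    intro p hp hpn x hx
    haveI := Fact.mk hp
    by_contra hno
    push Not at hno
    obtain ⟨d₀, hd₀⟩ := exists_prime_orderOf_dvd_card' (G := C) p hpn
    have hd₀p : d₀ ^ p = 1 := hd₀ ▸ pow_orderOf_eq_one d₀
    have hd₀1 : d₀ ≠ 1 := fun e => by rw [e, orderOf_one] at hd₀; exact hp.ne_one hd₀.symm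
    let U : Set C := {z | z ≠ 1 ∧ ((Finset.univ.filter fun y => y ∈ O x ∧ y ^ p = z).card : ZMod p) ≠ 0}
    have hUinv : Recog.SchurCyclic.InvS C ω U := by
      intro g hg a b hab
      exact propext (and_congr (Iff.of_eq (hinv1 g hg a b hab))
        (not_congr (Iff.of_eq (congrArg (· = (0 : ZMod p))
          (Recog.SchurCyclic.frobenius C ω hbij p hcomm (hOinv x) g hg a b hab)))))
    have hUempty : ∀ z, z ∉ U := by
      intro z hz
      rcases Recog.SchurCyclic.invariant_subgroup C ω hbij (Recog.SchurCyclic.invS_closure C ω hbij hUinv) with h | h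
      · exact hz.1 (Subgroup.mem_bot.1 (h ▸ Subgroup.subset_closure hz))
      · have hsub : Subgroup.closure U ≤
            { carrier := Set.range fun y : C => y ^ p
              one_mem' := ⟨1, one_pow p⟩
              mul_mem' := by rintro _ _ ⟨a, rfl⟩ ⟨b, rfl⟩; exact ⟨a * b, (show Commute a b from hcomm a b).mul_pow p⟩
              inv_mem' := by rintro _ ⟨a, rfl⟩; exact ⟨a⁻¹, inv_pow a p⟩ } := by
          rw [Subgroup.closure_le]
          rintro w ⟨-, hw⟩
          obtain ⟨y, hy⟩ := Finset.card_pos.1 (Nat.pos_of_ne_zero fun h0 => hw (by rw [h0, Nat.cast_zero]))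
          exact ⟨y, (Finset.mem_filter.1 hy).2.2⟩
        have hsurj : Function.Surjective (fun y : C => y ^ p) := fun w => hsub (h ▸ Subgroup.mem_top w)
        exact hd₀1 ((Finite.injective_iff_surjective.2 hsurj) (by simp [hd₀p]))
    have hfib : ∀ y ∈ O x, ∀ z, z ^ p = y ^ p → z ∈ O x := by
      intro y hy z hzy
      have hy1 : y ≠ 1 := fun e => hone x hx (e ▸ hy)
      have hyp : y ^ p ≠ 1 := hno y hy hy1
      have hz0 : ((Finset.univ.filter fun w => w ∈ O x ∧ w ^ p = y ^ p).card : ZMod p) = 0 := by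
        by_contra hne
        exact hUempty _ ⟨hyp, hne⟩
      have hdvd := (ZMod.natCast_eq_zero_iff _ _).1 hz0
      have hpos : 0 < (Finset.univ.filter fun w => w ∈ O x ∧ w ^ p = y ^ p).card :=
        Finset.card_pos.2 ⟨y, Finset.mem_filter.2 ⟨Finset.mem_univ _, hy, rfl⟩⟩
      have hp' := Nat.le_of_dvd hpos hdvd
      have hle : (Finset.univ.filter fun w : C => w ^ p = y ^ p).card ≤ p := by
        refine le_trans ?_ (IsCyclic.card_pow_eq_one_le (α := C) hp.pos)
        refine Finset.card_le_card_of_injOn (fun w => y⁻¹ * w) (fun w hw => ?_) (fun a _ b _ h => mul_left_cancel h)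
        simp only [Finset.coe_filter, Finset.mem_univ, true_and, Set.mem_setOf_eq] at hw ⊢
        rw [(show Commute y⁻¹ w from hcomm _ _).mul_pow, hw, inv_pow, inv_mul_cancel]
      have heq : (Finset.univ.filter fun w => w ∈ O x ∧ w ^ p = y ^ p) = Finset.univ.filter fun w : C => w ^ p = y ^ p :=
        Finset.eq_of_subset_of_card_le (fun w hw => by simp only [Finset.mem_filter] at hw ⊢; exact ⟨hw.1, hw.2.2⟩) (by omega)
      have : z ∈ Finset.univ.filter fun w : C => w ^ p = y ^ p := Finset.mem_filter.2 ⟨Finset.mem_univ _, hzy⟩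
      rw [← heq] at this
      exact (Finset.mem_filter.1 this).2.1
    let T : Subgroup C :=
      { carrier := {a | ∀ z, a * z ∈ O x ↔ z ∈ O x}
        one_mem' := fun z => by rw [one_mul]
        mul_mem' := fun {a b} ha hb z => by rw [mul_assoc, ha, hb]
        inv_mem' := fun {a} ha z => by rw [← ha (a⁻¹ * z), mul_inv_cancel_left] }
    have hd₀T : d₀ ∈ T := fun z => by
      have e : (d₀ * z) ^ p = z ^ p := by rw [(show Commute d₀ z from hcomm _ _).mul_pow, hd₀p, one_mul]
      exact ⟨fun h => hfib _ h z e.symm, fun h => hfib z h _ e⟩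
    rcases Recog.SchurCyclic.invariant_subgroup C ω hbij (K := T)
        (Recog.SchurCyclic.invS_stab C ω hbij (hOinv x)) with h | h
    · exact hd₀1 (Subgroup.mem_bot.1 (h ▸ hd₀T))
    · have hx' : x⁻¹ ∈ T := h ▸ Subgroup.mem_top _
      have := (hx' x).2 (hOself x)
      rw [inv_mul_cancel] at this
      exact hone x hx this
  obtain ⟨p, hp, hpn⟩ := Nat.exists_prime_and_dvd (show n ≠ 1 by omega)
  obtain ⟨q, hq, hqn, hqp⟩ : ∃ q, q.Prime ∧ q ∣ n ∧ q ≠ p := by
    by_contra h
    push Not at h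
    refine hnp (hnΩ ▸ ?_)
    rw [isPrimePow_iff_unique_prime_dvd]
    exact ⟨p, ⟨hp, hpn⟩, fun r hr => h r hr.1 hr.2⟩
  have hfull : ∀ x : C, x ≠ 1 → ∀ d : C, d ≠ 1 → d ^ p = 1 → d ∈ O x := by
    intro x hx d' hd'1 hd'p
    obtain ⟨d, hd, hd1, hdp⟩ := hmeet p hp hpn x hx
    obtain ⟨e, he, -, heq'⟩ := hmeet q hq hqn x hx
    haveI := Fact.mk hp
    have hod : orderOf d = p := orderOf_eq_prime hdp hd1
    have hmem : d' ∈ Subgroup.zpowers d := by
      have hsub : (Finset.univ.filter fun a : C => a ∈ Subgroup.zpowers d) ⊆ Finset.univ.filter fun a : C => a ^ p = 1 := by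
        intro a ha
        simp only [Finset.mem_filter, Finset.mem_univ, true_and] at ha ⊢
        obtain ⟨k, rfl⟩ := ha
        show (d ^ k) ^ p = 1
        rw [← zpow_natCast, ← zpow_mul, mul_comm, zpow_mul, zpow_natCast, hdp, one_zpow]
      have hcz : (Finset.univ.filter fun a : C => a ∈ Subgroup.zpowers d).card = p := by
        have h1 := Nat.card_zpowers d
        rw [hod, Nat.card_eq_fintype_card, Fintype.card_subtype] at h1
        exact h1
      have := Finset.eq_of_subset_of_card_le hsub (by rw [hcz]; exact IsCyclic.card_pow_eq_one_le hp.pos)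
      have h2 : d' ∈ Finset.univ.filter fun a : C => a ^ p = 1 := Finset.mem_filter.2 ⟨Finset.mem_univ _, hd'p⟩
      rw [← this] at h2
      exact (Finset.mem_filter.1 h2).2
    obtain ⟨j, hj⟩ := mem_powers_iff_mem_zpowers.2 hmem
    have hjp : ¬ p ∣ j := fun ⟨c, hc⟩ => hd'1 (by rw [← hj]; show d ^ j = 1; rw [hc, pow_mul, hdp, one_pow])
    have hn0 : n ≠ 0 := by omega
    set n' := n / p ^ n.factorization p with hn'
    have hcop : p.Coprime n' := Nat.coprime_ordCompl hp hn0
    obtain ⟨m, hmp, hmn⟩ := Nat.chineseRemainder hcop j 1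
    have hm : m.Coprime n := by
      rw [← Nat.ordProj_mul_ordCompl_eq_self n p, Nat.coprime_mul_iff_right]
      refine ⟨Nat.Coprime.pow_right _ (Nat.coprime_comm.1 ((Nat.Prime.coprime_iff_not_dvd hp).2 fun h => hjp ?_)), ?_⟩
      · exact (hmp.dvd_iff (dvd_refl p)).1 h
      · exact Nat.Coprime.symm (by rw [Nat.coprime_iff_gcd_eq_one, Nat.gcd_comm, ← hn', hmn.gcd_eq, Nat.gcd_one_left])
    have hqn' : q ∣ n' := by
      have : q ∣ p ^ n.factorization p * n' := by rw [hn', Nat.ordProj_mul_ordCompl_eq_self]; exact hqn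
      exact (hq.dvd_mul.1 this).resolve_left fun h => hqp ((Nat.prime_dvd_prime_iff_eq hq hp).1 (hq.dvd_of_dvd_pow h))
    have hme : e ^ m = e := by
      have h1 : m ≡ 1 [MOD q] := hmn.of_dvd hqn'
      rw [pow_eq_pow_mod m heq', show m % q = 1 % q from h1, Nat.one_mod_eq_one.2 hq.ne_one, pow_one]
    have himg := hmult m hm _ (hOinv x)
    have hsub : O x ⊆ (fun a : C => a ^ m) '' O x := by
      rw [← hOeq x e he]
      exact hOmin e _ (hOeq x e he ▸ himg) ⟨e, hOself e, hme⟩
    have heqS := Set.eq_of_subset_of_ncard_le hsub (by rw [Set.ncard_image_of_injective _ (hpow hm).1])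
    rw [heqS]
    refine ⟨d, hd, ?_⟩
    show d ^ m = d'
    rw [pow_eq_pow_mod m hdp, show m % p = j % p from hmp, ← pow_eq_pow_mod j hdp]
    exact hj
  apply hnot2
  haveI := Fact.mk hp
  obtain ⟨d, hd⟩ := exists_prime_orderOf_dvd_card' (G := C) p hpn
  have hd1 : d ≠ 1 := fun e => by rw [e, orderOf_one] at hd; exact hp.ne_one hd.symm
  have hdp : d ^ p = 1 := hd ▸ pow_orderOf_eq_one d
  rw [MulAction.is_two_pretransitive_iff]
  have key : ∀ a b : Ω, a ≠ b → ∃ g : G, g • ω = a ∧ g • ((d : G) • ω) = b := by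
    intro a b hab
    obtain ⟨h, rfl⟩ := MulAction.exists_smul_eq G ω a
    obtain ⟨y, hy⟩ := hbij.2 (h⁻¹ • b)
    have hy1 : y ≠ 1 := by
      rintro rfl
      exact hab (by rw [← smul_inv_smul h b, ← show ((1 : C) : G) • ω = h⁻¹ • b from hy, Subgroup.coe_one, one_smul])
    have : y ∈ O d := hOeq y d (hfull y hy1 d hd1 hdp) ▸ hOself y
    obtain ⟨g, hg, hgy⟩ := this
    exact ⟨h * g, by rw [mul_smul, hg], by rw [mul_smul, hgy]; exact (congrArg (h • ·) hy).trans (smul_inv_smul h b)⟩
  intro a b c e hab hce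
  obtain ⟨g, hga, hgb⟩ := key a b hab
  obtain ⟨k, hkc, hke⟩ := key c e hce
  exact ⟨k * g⁻¹, by rw [mul_smul, ← hga, inv_smul_smul, hkc], by rw [mul_smul, ← hgb, inv_smul_smul, hke]⟩

end Cfsg.Agent.S3559
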