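import Cfsg.Statements.S3560
import Mathlib

set_option autoImplicit false
open Cfsg

namespace Cfsg.Agent.S3560

/-- Let K be a finite group isomorphic to a direct product of r ≥ 2 groups all of the same order m ≥ 3. Then K is not a B-group: there is a primitive but not doubly transitive permutation group (on some finite set) containing a regular subgroup isomorphic to K. -/
theorem result {K : Type*} [Group K] [Finite K] {ι : Type*} [Fintype ι] (F : ι → Type*) [∀ i, Group (F i)]
    (hr : 2 ≤ Fintype.card ι) (m : ℕ) (hm : 3 ≤ m) (hcard : ∀ i, Nat.card (F i) = m) (e : K ≃* (∀ i, F i)) :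
    ∃ (n : ℕ) (G R : Subgroup (Equiv.Perm (Fin n))), R ≤ G ∧ Nonempty (↥R ≃* K) ∧
      MulAction.IsPretransitive ↥R (Fin n) ∧ (∀ a : Fin n, MulAction.stabilizer ↥R a = ⊥) ∧
      MulAction.IsPreprimitive ↥G (Fin n) ∧ ¬ MulAction.IsMultiplyPretransitive ↥G (Fin n) 2 := by
  classical
  have : NeZero m := ⟨by omega⟩
  have hψ : ∀ i, Nonempty (F i ≃ ZMod m) := fun i => by
    have : Finite (F i) := Nat.finite_of_card_ne_zero (by rw [hcard]; omega)
    exact ⟨(Finite.equivFinOfCardEq ((Nat.card_zmod m).symm ▸ hcard i : Nat.card (F i) = m)).trans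
      (Finite.equivFinOfCardEq (Nat.card_zmod m)).symm⟩
  let ψ : ∀ i, F i ≃ ZMod m := fun i => Classical.choice (hψ i)
  let Ψ : (ι → ZMod m) ≃ Fin (Fintype.card (ι → ZMod m)) := Fintype.equivFin _
  set n := Fintype.card (ι → ZMod m) with hn
  let d : Fin n → Fin n → ℕ := fun a b => hammingDist (Ψ.symm a) (Ψ.symm b)
  let Φ : K ≃ Fin n := e.toEquiv.trans ((Equiv.piCongrRight ψ).trans Ψ)
  let φ : K →* Equiv.Perm (Fin n) :=
    { toFun := fun k => (Φ.symm.trans (Equiv.mulLeft k)).trans Φ
      map_one' := by ext a; simp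
      map_mul' := fun k l => by ext a; simp [mul_assoc] }
  have hφinj : Function.Injective φ := fun k l h => by
    have := Φ.injective (by simpa [φ] using Equiv.congr_fun h (Φ 1) : Φ k = Φ l)
    exact this
  let G : Subgroup (Equiv.Perm (Fin n)) :=
    { carrier := {σ | ∀ a b, d (σ a) (σ b) = d a b}
      one_mem' := fun a b => rfl
      mul_mem' := fun {σ τ} hσ hτ a b => (hσ _ _).trans (hτ a b)
      inv_mem' := fun {σ} hσ a b => by
        have := hσ (σ⁻¹ a) (σ⁻¹ b)
        rw [Equiv.Perm.coe_inv, Equiv.apply_symm_apply, Equiv.apply_symm_apply] at this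
        exact this.symm }
  -- coordinatewise permutations
  let P : (ι → Equiv.Perm (ZMod m)) → Equiv.Perm (Fin n) := fun p =>
    (Ψ.symm.trans (Equiv.piCongrRight p)).trans Ψ
  have hPap : ∀ p v, P p (Ψ v) = Ψ (fun i => p i (v i)) := fun p v => by
    show Ψ (Equiv.piCongrRight p (Ψ.symm (Ψ v))) = _
    rw [Ψ.symm_apply_apply]; rfl
  have hP : ∀ p, P p ∈ G := fun p a b => by
    obtain ⟨u, rfl⟩ := Ψ.surjective a
    obtain ⟨v, rfl⟩ := Ψ.surjective b
    simp only [d, hPap, Ψ.symm_apply_apply]
    exact hammingDist_comp (fun i => p i) fun i => (p i).injective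
  let Q : Equiv.Perm ι → Equiv.Perm (Fin n) := fun π =>
    (Ψ.symm.trans (Equiv.arrowCongr π (Equiv.refl (ZMod m)))).trans Ψ
  have hQap : ∀ π v, Q π (Ψ v) = Ψ (v ∘ π.symm) := fun π v => by
    show Ψ (Equiv.arrowCongr π (Equiv.refl (ZMod m)) (Ψ.symm (Ψ v))) = _
    rw [Ψ.symm_apply_apply]; rfl
  have hQ : ∀ π, Q π ∈ G := fun π a b => by
    obtain ⟨u, rfl⟩ := Ψ.surjective a
    obtain ⟨v, rfl⟩ := Ψ.surjective b
    simp only [d, hQap, Ψ.symm_apply_apply]
    show Finset.card _ = Finset.card _
    refine Finset.card_equiv π.symm fun i => ?_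
    simp
  have hRG : φ.range ≤ G := by
    rintro _ ⟨k, rfl⟩
    convert hP (fun i => (ψ i).symm.trans ((Equiv.mulLeft (e k i)).trans (ψ i))) using 1
    refine Equiv.ext fun a => ?_
    obtain ⟨v, rfl⟩ := Ψ.surjective a
    rw [hPap]
    show Φ (k * Φ.symm (Ψ v)) = _
    simp only [Φ, Equiv.trans_apply, Equiv.symm_trans_apply, Equiv.symm_apply_apply]
    congr 1
    funext i
    show ψ i (e (k * e.symm _) i) = _
    rw [map_mul, e.apply_symm_apply]
    rfl
  refine ⟨n, G, φ.range, hRG, ⟨(MonoidHom.ofInjective hφinj).symm⟩, ⟨fun a b => ?_⟩, fun a => ?_, ?_, ?_⟩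
  · refine ⟨⟨φ (Φ.symm b * (Φ.symm a)⁻¹), _, rfl⟩, ?_⟩
    show Φ (Φ.symm b * (Φ.symm a)⁻¹ * Φ.symm a) = b
    rw [inv_mul_cancel_right, Equiv.apply_symm_apply]
  · rw [eq_bot_iff]
    rintro ⟨_, k, rfl⟩ hk
    have h : Φ (k * Φ.symm a) = a := hk
    rw [Equiv.apply_eq_iff_eq_symm_apply, mul_eq_right] at h
    subst h
    simp
  · have htr : MulAction.IsPretransitive G (Fin n) := ⟨fun a b => by
      obtain ⟨u, rfl⟩ := Ψ.surjective a
      obtain ⟨v, rfl⟩ := Ψ.surjective b
      refine ⟨⟨_, hP (fun i => Equiv.addRight (v i - u i))⟩, ?_⟩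
      show P _ (Ψ u) = Ψ v
      rw [hPap]; congr 1; funext i; simp⟩
    refine MulAction.IsPreprimitive.of_isTrivialBlock_base (Ψ 0) fun {B} h0 hB => ?_
    by_cases hsub : B.Subsingleton
    · exact Or.inl hsub
    right
    -- translations by members
    have hfix : ∀ (g : Equiv.Perm (Fin n)), g ∈ G → ∀ a, a ∈ B → g a ∈ B → ∀ b ∈ B, g b ∈ B := by
      intro g hg a ha hga b hb
      have := hB.smul_eq_of_mem (g := (⟨g, hg⟩ : G)) ha (show (⟨g, hg⟩ : G) • a ∈ B from hga)
      rw [← this]
      exact Set.smul_mem_smul_set hb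
    have hadd : ∀ u v : ι → ZMod m, Ψ u ∈ B → Ψ v ∈ B → Ψ (v + u) ∈ B := by
      intro u v hu hv
      have h := hfix _ (hP fun i => Equiv.addRight (u i)) (Ψ 0) h0 (by rw [hPap]; convert hu using 2; funext i; simp) (Ψ v) hv
      rw [hPap] at h
      exact h
    have hneg : ∀ u : ι → ZMod m, Ψ u ∈ B → Ψ (-u) ∈ B := by
      intro u hu
      have h := hfix _ (hP fun i => Equiv.addRight (-(u i))) (Ψ u) hu (by rw [hPap]; convert h0 using 2; funext i; simp) (Ψ 0) h0
      rw [hPap] at h
      convert h using 2; funext i; simp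
    obtain ⟨x, hx, hx0⟩ : ∃ x, Ψ x ∈ B ∧ x ≠ 0 := by
      by_contra hc
      push Not at hc
      refine hsub (Set.subsingleton_of_forall_eq (Ψ 0) fun a ha => ?_)
      obtain ⟨v, rfl⟩ := Ψ.surjective a
      rw [hc v ha]
    obtain ⟨i₀, hi⟩ := Function.ne_iff.1 hx0
    obtain ⟨c, hc0, hcx⟩ : ∃ c : ZMod m, c ≠ 0 ∧ c ≠ x i₀ := by
      have h2 : ({0, x i₀} : Finset (ZMod m)).card ≤ 2 := Finset.card_le_two
      obtain ⟨c, -, hc⟩ := Finset.exists_mem_notMem_of_card_lt_card (s := {0, x i₀}) (t := Finset.univ)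
        (by rw [Finset.card_univ, ZMod.card]; omega)
      simp at hc
      exact ⟨c, hc.1, hc.2⟩
    have hswap : Ψ (Function.update x i₀ c) ∈ B := by
      have h := hfix _ (hP (Function.update (fun _ => (1 : Equiv.Perm (ZMod m))) i₀ (Equiv.swap (x i₀) c))) (Ψ 0) h0
        (by
          rw [hPap]; convert h0 using 2; funext i
          by_cases hii : i = i₀
          · subst hii; simpa using Equiv.swap_apply_of_ne_of_ne (show (0 : ZMod m) ≠ _ from Ne.symm hi) hc0.symm
          · simp [Function.update_of_ne hii])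
        (Ψ x) hx
      rw [hPap] at h
      convert h using 2; funext i
      by_cases hii : i = i₀
      · subst hii; simp
      · simp [Function.update_of_ne hii]
    have hs0 : Ψ (Pi.single i₀ (c - x i₀)) ∈ B := by
      convert hadd _ _ (hneg x hx) hswap using 2
      funext i
      by_cases hii : i = i₀
      · subst hii; simp [sub_eq_add_neg]
      · simp [Function.update_of_ne hii, hii]
    have hs : ∀ i a, Ψ (Pi.single i a : ι → ZMod m) ∈ B := by
      intro i a
      by_cases ha : a = 0
      · subst ha; rwa [Pi.single_zero]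
      have h1 : Ψ (Pi.single i₀ a : ι → ZMod m) ∈ B := by
        have h := hfix _ (hP (Function.update (fun _ => (1 : Equiv.Perm (ZMod m))) i₀ (Equiv.swap (c - x i₀) a))) (Ψ 0) h0
          (by
            rw [hPap]; convert h0 using 2; funext j
            by_cases hjj : j = i₀
            · subst hjj; simp [Equiv.swap_apply_of_ne_of_ne (sub_ne_zero.2 hcx).symm (Ne.symm ha)]
            · simp [Function.update_of_ne hjj])
          _ hs0
        rw [hPap] at h
        convert h using 2; funext j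
        by_cases hjj : j = i₀
        · subst hjj; simp
        · simp [Function.update_of_ne hjj, hjj]
      have h := hfix _ (hQ (Equiv.swap i₀ i)) (Ψ 0) h0 (by rw [hQap]; exact h0) _ h1
      rw [hQap] at h
      convert h using 2; funext j
      simp only [Function.comp_apply, Equiv.symm_swap, Pi.single_apply]
      by_cases hji : j = i
      · subst hji; simp
      · rw [if_neg hji]
        by_cases hj0 : j = i₀
        · subst hj0; simp [Ne.symm hji]
        · simp [Equiv.swap_apply_of_ne_of_ne hj0 hji, hj0]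
    rw [Set.eq_univ_iff_forall]
    intro a
    obtain ⟨v, rfl⟩ := Ψ.surjective a
    induction v using Pi.single_induction with
    | zero => exact h0
    | add f g hf hg => exact hadd g f hg hf
    | single i a => exact hs i a
  · intro h2
    obtain ⟨i, j, hij⟩ := Fintype.one_lt_card_iff.1 (by omega : 1 < Fintype.card ι)
    have h1m : (1 : ZMod m) ≠ 0 := by
      have : Fact (1 < m) := ⟨by omega⟩
      exact one_ne_zero
    let u : ι → ZMod m := Pi.single i 1
    let v : ι → ZMod m := Pi.single i 1 + Pi.single j 1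
    have hu : (0 : ι → ZMod m) ≠ u := fun h => h1m (by simpa [u] using (congrFun h i).symm)
    have hv : (0 : ι → ZMod m) ≠ v := fun h => h1m (by simpa [v, hij] using (congrFun h i).symm)
    obtain ⟨⟨g, hg⟩, g0, g1⟩ := MulAction.is_two_pretransitive_iff.1 h2 (Ψ.injective.ne hu) (Ψ.injective.ne hv)
    have hd := hg (Ψ 0) (Ψ u)
    rw [show g (Ψ 0) = Ψ 0 from g0, show g (Ψ u) = Ψ v from g1] at hd
    simp only [d, Ψ.symm_apply_apply] at hd
    have hdu : hammingDist (0 : ι → ZMod m) u = 1 := by
      show Finset.card _ = 1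
      rw [Finset.card_eq_one]
      refine ⟨i, Finset.ext fun k => ?_⟩
      by_cases hk : k = i
      · subst hk; simp [u, h1m.symm]
      · simp [u, hk]
    have hdv : 1 < hammingDist (0 : ι → ZMod m) v := by
      show 1 < Finset.card _
      rw [Finset.one_lt_card_iff]
      exact ⟨i, j, by simp [v, hij, h1m.symm], by simp [v, hij.symm, h1m.symm], hij⟩
    omega

end Cfsg.Agent.S3560
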