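import Cfsg.Statements.S3571
import Cfsg.Agent.Lib.Recog.SylvesterSchur
import Cfsg.Agent.Lib.FGS.AutAlt
import Cfsg.Agent.Lib.PermGp.JordanCycle
import Cfsg.Agent.Lib.PermGp.HallSym.Main
import Cfsg.Agent.Lib.PermGp.HallSym.Models

set_option autoImplicit false
open Cfsg

namespace Cfsg.Agent.S3571

open Equiv MulAction
open scoped Pointwise

variable {m : ℕ}

theorem eq_one_of_comm (hm : 5 ≤ m) {σ : Perm (Fin m)}
    (h : ∀ t ∈ alternatingGroup (Fin m), σ * t * σ⁻¹ = t) : σ = 1 := by
  classical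
  refine Perm.ext fun a => ?_
  by_contra hne
  rw [Perm.one_apply] at hne
  obtain ⟨b, hb⟩ : ∃ b, b ∉ ({a, σ a} : Finset (Fin m)) := by
    by_contra hc
    push Not at hc
    have := Finset.card_le_card (show (Finset.univ : Finset (Fin m)) ⊆ {a, σ a} from fun x _ => hc x)
    simp at this
    have := (Finset.card_le_two (a := a) (b := σ a))
    omega
  obtain ⟨c, hc⟩ : ∃ c, c ∉ ({a, σ a, b} : Finset (Fin m)) := by
    by_contra hc
    push Not at hc
    have := Finset.card_le_card (show (Finset.univ : Finset (Fin m)) ⊆ {a, σ a, b} from fun x _ => hc x)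
    simp at this
    have := (Finset.card_le_three (a := a) (b := σ a) (c := b))
    omega
  simp only [Finset.mem_insert, Finset.mem_singleton, not_or] at hb hc
  have h' := h _ (Cfsg.Agent.FGS.AutAlt.c3_three (α := Fin m) (a := a) (b := b) (c := c) (Ne.symm hb.1) (Ne.symm hc.1)
    (Ne.symm hc.2.2)).mem_alternatingGroup
  have := congrArg (fun f : Perm (Fin m) => f (σ a)) h'
  simp only [Perm.mul_apply] at this
  rw [Cfsg.Agent.FGS.AutAlt.c3_other (Ne.intro hne) (Ne.symm hb.2) (Ne.symm hc.2.1)] at this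
  rw [show σ⁻¹ (σ a) = a from σ.symm_apply_apply a, Cfsg.Agent.FGS.AutAlt.c3_a (Ne.symm hb.1) (Ne.symm hc.1)] at this
  exact hb.1 (σ.injective this)

/-- Automorphisms of the alternating group lift to permutations. -/
theorem exists_psi {G : Type*} [Group G] (T : Subgroup G) [T.Normal] (hm : 5 ≤ m) (h6 : m ≠ 6)
    (eT : T ≃* alternatingGroup (Fin m)) :
    ∃ ψ : G →* Perm (Fin m), (∀ t : T, ψ t = eT t) ∧
      ∀ (g : G) (t : T), (eT (MulAut.conjNormal g t) : Perm (Fin m)) = ψ g * eT t * (ψ g)⁻¹ := by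
  have hex : ∀ g : G, ∃ σ : Perm (Fin m), ∀ t : T,
      (eT (MulAut.conjNormal g t) : Perm (Fin m)) = σ * eT t * σ⁻¹ := fun g => by
    obtain ⟨σ, hσ⟩ := Cfsg.Agent.FGS.AutAlt.of_preserves (by omega) ((eT.symm.trans (MulAut.conjNormal g)).trans eT)
      (fun t ht => Cfsg.Agent.FGS.AutAlt.three_to_three (by omega) h6 _ t ht)
    refine ⟨σ, fun t => ?_⟩
    have := congrArg (fun f : MulAut (alternatingGroup (Fin m)) => (f (eT t) : Perm (Fin m))) hσ
    simpa [MulAut.conjNormal_apply] using this.symm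
  choose f hf using hex
  have uniq : ∀ g σ, (∀ t : T, (eT (MulAut.conjNormal g t) : Perm (Fin m)) = σ * eT t * σ⁻¹) → σ = f g := by
    intro g σ hσ
    refine (inv_mul_eq_one.1 (eq_one_of_comm hm fun t ht => ?_)).symm
    obtain ⟨t', ht'⟩ := eT.surjective ⟨t, ht⟩
    have e : f g * t * (f g)⁻¹ = σ * t * σ⁻¹ := by
      have h1 := hf g t'
      have h2 := hσ t'
      rw [ht'] at h1 h2
      exact h1.symm.trans h2
    calc (f g)⁻¹ * σ * t * ((f g)⁻¹ * σ)⁻¹ = (f g)⁻¹ * (σ * t * σ⁻¹) * f g := by group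
      _ = t := by rw [← e]; group
  refine ⟨MonoidHom.mk' f fun g h => (uniq (g * h) _ fun t => ?_).symm, fun t => ?_, hf⟩
  · rw [map_mul, MulAut.mul_apply, hf g, hf h]; group
  · refine (uniq (t : G) _ fun u => ?_).symm
    rw [show MulAut.conjNormal (t : G) u = t * u * t⁻¹ from Subtype.ext (by simp [MulAut.conjNormal_apply]),
      map_mul, map_mul, map_inv]
    rfl

theorem exists_perm_cycleType {j r : ℕ} (hr : 2 ≤ r) (hjr : j * r ≤ m) (heven : r = 2 → Even j) (hr' : r = 2 ∨ Odd r) :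
    ∃ g ∈ alternatingGroup (Fin m), g.cycleType = Multiset.replicate j r := by
  obtain ⟨g, hg⟩ := (Equiv.Perm.exists_with_cycleType_iff (Fin m) (m := Multiset.replicate j r)).2
    ⟨by simpa using hjr, fun a ha => by rw [Multiset.eq_of_mem_replicate ha]; exact hr⟩
  refine ⟨g, ?_, hg⟩
  rw [Perm.mem_alternatingGroup, Perm.sign_of_cycleType, hg, Multiset.sum_replicate, Multiset.card_replicate,
    smul_eq_mul]
  refine Even.neg_one_pow ?_
  rcases hr' with h | h
  · exact Even.add (h ▸ ⟨j, by ring⟩) (heven h)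
  · rw [show j * r + j = j * (r + 1) by ring]
    exact Even.mul_left (h.add_one) j

theorem orderOf_eq_of_cycleType {g : Perm (Fin m)} {j r : ℕ} (hr : r.Prime) (hj : 1 ≤ j)
    (hg : g.cycleType = Multiset.replicate j r) : orderOf g = r := by
  rw [← Perm.lcm_cycleType, hg]
  apply Nat.dvd_antisymm
  · rw [Multiset.lcm_dvd]
    intro b hb
    rw [Multiset.eq_of_mem_replicate hb]
  · exact Multiset.dvd_lcm (Multiset.mem_replicate.2 ⟨by omega, rfl⟩)

theorem isCycle_of_card {g : Perm (Fin m)} {r : ℕ} (hr : r.Prime) (hm : m < 2 * r) (hg : orderOf g = r) :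
    g.IsCycle ∧ g.support.card = r := by
  have hc : g.IsCycle := Perm.isCycle_of_prime_order' (by rwa [hg])
    (by rw [hg, Fintype.card_fin]; exact hm)
  exact ⟨hc, hc.orderOf.symm.trans hg⟩

theorem card_stab_dvd (H : Subgroup (Perm (Fin m))) (Δ : Finset (Fin m)) (h : H ≤ stabilizer (Perm (Fin m)) Δ) :
    Nat.card H * m.choose Δ.card ∣ m.factorial := by
  have h1 := (stabilizer (Perm (Fin m)) Δ).card_mul_index
  rw [Cfsg.Agent.PermGp.HallSym.index_stab_finset, Fintype.card_fin, Nat.card_perm, Nat.card_fin] at h1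
  exact h1 ▸ Nat.mul_dvd_mul_right (Subgroup.card_dvd_of_le h) _

/-- A subgroup of the alternating group with index prime to three contains a 3-cycle. -/
theorem exists_threeCycle {H : Subgroup (Perm (Fin m))} (hm : 3 ≤ m) {n : ℕ}
    (hcard : 2 * (Nat.card H * n) = m.factorial) (h3 : ¬ 3 ∣ n) : ∃ c ∈ H, c.IsThreeCycle := by
  haveI : Fact (Nat.Prime 3) := ⟨Nat.prime_three⟩
  let P : Sylow 3 H := default
  let Q := (P : Subgroup H).map H.subtype
  have hQ : Nat.card Q = 3 ^ (Nat.card (Perm (Fin m))).factorization 3 := by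
    rw [Subgroup.card_map_of_injective H.subtype_injective, P.card_eq_multiplicity]
    congr 1
    rw [Nat.card_perm, Nat.card_fin, ← hcard, ← mul_assoc, Nat.factorization_mul, Nat.factorization_mul,
      Finsupp.add_apply, Finsupp.add_apply, Nat.factorization_eq_zero_of_not_dvd h3,
      Nat.factorization_eq_zero_of_not_dvd (show ¬ 3 ∣ 2 by norm_num)]
    all_goals first
      | omega
      | (intro h0; rw [h0] at hcard; simp at hcard; exact Nat.factorial_ne_zero m hcard.symm)
      | (intro h0; have := Nat.factorial_pos m; rcases Nat.mul_eq_zero.1 h0 with h | h <;> simp [h] at hcard <;> omega)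
  let Q' : Sylow 3 (Perm (Fin m)) := Sylow.ofCard Q hQ
  obtain ⟨c, hc⟩ := (Equiv.Perm.exists_with_cycleType_iff (Fin m) (m := {3})).2
    ⟨by simpa using hm, by simp⟩
  have h3c : c.IsThreeCycle := hc
  have hp : IsPGroup 3 (Subgroup.zpowers c) := by
    refine IsPGroup.of_card (n := 1) ?_
    rw [Nat.card_zpowers, h3c.orderOf, pow_one]
  obtain ⟨R, hR⟩ := hp.exists_le_sylow
  obtain ⟨g, hg⟩ := MulAction.exists_smul_eq (Perm (Fin m)) R Q'
  have hmem : MulAut.conj g c ∈ (Q' : Subgroup (Perm (Fin m))) := by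
    rw [← hg]
    exact Subgroup.smul_mem_pointwise_smul c (MulAut.conj g) _ (hR (Subgroup.mem_zpowers c))
  have hmem' : MulAut.conj g c ∈ Q := hmem
  obtain ⟨y, -, hy⟩ := hmem'
  refine ⟨MulAut.conj g c, hy ▸ y.2, ?_⟩
  show (g * c * g⁻¹).cycleType = {3}
  rw [Perm.cycleType_conj]; exact hc

theorem primitive_of_big_cycle {H : Subgroup (Perm (Fin m))} [IsPretransitive H (Fin m)] {p : ℕ} (hp : p.Prime)
    (hpm : m < 2 * p) {c : Perm (Fin m)} (hc : c ∈ H) (hcc : c.IsCycle) (hcs : c.support.card = p) :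
    IsPreprimitive H (Fin m) := by
  by_contra hnp
  obtain ⟨P, b, hb, hP, hPb, hHP, hcov, hdisj, hcard⟩ := Cfsg.Agent.PermGp.HallSym.exists_blocks hnp
  have hle := Cfsg.Agent.PermGp.HallSym.cycle_le_block hp hb hcc hcs (mem_stabilizer_iff.1 (hHP hc)) hcov hdisj hcard
  rw [Fintype.card_fin] at hPb
  have := Nat.mul_le_mul hP hle
  omega

theorem six_two {H : Subgroup (Perm (Fin 6))} {n : ℕ} (hcard : 2 * (Nat.card H * n) = 720)
    (h3 : ¬ 3 ∣ n) (h5 : 5 ∣ Nat.card H) (hA : ¬ alternatingGroup (Fin 6) ≤ H) : False := by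
  haveI : Fact (Nat.Prime 5) := ⟨Nat.prime_five⟩
  obtain ⟨x, hx⟩ := exists_prime_orderOf_dvd_card' 5 h5
  have hx' : orderOf (x : Perm (Fin 6)) = 5 := by rwa [Subgroup.orderOf_coe]
  obtain ⟨hxc, hxs⟩ := isCycle_of_card Nat.prime_five (by norm_num) hx'
  by_cases htr : IsPretransitive H (Fin 6)
  · obtain ⟨c, hc, h3c⟩ := exists_threeCycle (m := 6) (by norm_num) (by simpa [Nat.factorial] using hcard) h3
    exact hA (Equiv.Perm.alternatingGroup_le_of_isPreprimitive_of_isThreeCycle_mem
      (primitive_of_big_cycle Nat.prime_five (by norm_num) x.2 hxc hxs) h3c hc)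
  · obtain ⟨Δ, h1, h2, hΔ⟩ := Cfsg.Agent.PermGp.HallSym.exists_small_invariant htr
    rw [Fintype.card_fin] at h2
    have h9 : 9 ∣ Nat.card H := by
      have : 9 ∣ Nat.card H * n := ⟨40, by omega⟩
      exact (Nat.Coprime.pow_left 2 ((Nat.prime_three.coprime_iff_not_dvd).2 h3)).dvd_of_dvd_mul_right this
    have hd := (Nat.mul_dvd_mul_right (Nat.Coprime.mul_dvd_of_dvd_of_dvd (by norm_num) h9 h5) _).trans
      (card_stab_dvd H Δ hΔ)
    obtain hk | hk | hk : Δ.card = 1 ∨ Δ.card = 2 ∨ Δ.card = 3 := by omega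
    all_goals rw [hk] at hd; norm_num [Nat.choose, Nat.factorial] at hd

theorem six_three {H : Subgroup (Perm (Fin 6))} {n : ℕ} (hcard : 2 * (Nat.card H * n) = 720) (h3 : 3 ∣ n) :
    ∃ g ∈ alternatingGroup (Fin 6), orderOf g = 3 ∧ ∀ σ : Perm (Fin 6), σ * g * σ⁻¹ ∉ H := by
  classical
  haveI : Fact (Nat.Prime 3) := ⟨Nat.prime_three⟩
  obtain ⟨g1, hg1A, hg1⟩ := exists_perm_cycleType (m := 6) (j := 1) (r := 3) (by norm_num) (by norm_num) (by norm_num)
    (Or.inr ⟨1, rfl⟩)
  obtain ⟨g2, hg2A, hg2⟩ := exists_perm_cycleType (m := 6) (j := 2) (r := 3) (by norm_num) (by norm_num) (by norm_num)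
    (Or.inr ⟨1, rfl⟩)
  have o1 := orderOf_eq_of_cycleType Nat.prime_three le_rfl hg1
  have o2 := orderOf_eq_of_cycleType Nat.prime_three (by norm_num) hg2
  by_cases hH : 3 ∣ Nat.card H
  swap
  · exact ⟨g1, hg1A, o1, fun σ hσ => hH (by
      rw [← o1, show orderOf g1 = orderOf (σ * g1 * σ⁻¹) from (MulEquiv.orderOf_eq (MulAut.conj σ) g1).symm,
        ← Subgroup.orderOf_mk _ hσ]
      exact orderOf_dvd_natCard _)⟩
  have h9 : ¬ 9 ∣ Nat.card H := fun h => by
    obtain ⟨u, hu⟩ := h3
    obtain ⟨v, hv⟩ := h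
    have : 720 = 27 * (2 * u * v) := by rw [← hcard, hu, hv]; ring
    omega
  have hfac : (Nat.card H).factorization 3 = 1 := by
    apply le_antisymm
    · by_contra hc
      exact h9 ((pow_dvd_pow 3 (show 2 ≤ (Nat.card H).factorization 3 by omega)).trans (Nat.ordProj_dvd _ _))
    · exact Nat.prime_three.factorization_pos_of_dvd Nat.card_pos.ne' hH
  obtain ⟨x, hx⟩ := exists_prime_orderOf_dvd_card' 3 hH
  have same : ∀ y : H, orderOf y = 3 → (y : Perm (Fin 6)).cycleType = (x : Perm (Fin 6)).cycleType := by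
    intro y hy
    let P : Sylow 3 H := Sylow.ofCard (Subgroup.zpowers x) (by rw [Nat.card_zpowers, hx, hfac, pow_one])
    let Q : Sylow 3 H := Sylow.ofCard (Subgroup.zpowers y) (by rw [Nat.card_zpowers, hy, hfac, pow_one])
    obtain ⟨u, hu⟩ := MulAction.exists_smul_eq H Q P
    have hmem : MulAut.conj u y ∈ (P : Subgroup H) := by
      rw [← hu]
      exact Subgroup.smul_mem_pointwise_smul y (MulAut.conj u) _ (Subgroup.mem_zpowers y)
    have hmem' : u * y * u⁻¹ ∈ Subgroup.zpowers x := hmem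
    obtain ⟨i, hi⟩ := Subgroup.mem_zpowers_iff.1 hmem'
    have hi' : (x : Perm (Fin 6)) ^ i = (u : Perm (Fin 6)) * y * (u : Perm (Fin 6))⁻¹ := congrArg Subtype.val hi
    rw [show (y : Perm (Fin 6)).cycleType = ((u : Perm (Fin 6)) * y * (u : Perm (Fin 6))⁻¹).cycleType from Perm.cycleType_conj.symm, ← hi']
    have h3x : (x : Perm (Fin 6)) ^ (3 : ℤ) = 1 := by
      rw [← show ((x : Perm (Fin 6)) ^ (orderOf (x : Perm (Fin 6)) : ℤ)) = (x : Perm (Fin 6)) ^ (3 : ℤ) by
        rw [Subgroup.orderOf_coe, hx]; rfl, zpow_natCast, pow_orderOf_eq_one]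
    have hmod : (x : Perm (Fin 6)) ^ i = (x : Perm (Fin 6)) ^ (i % 3) := by
      conv_lhs => rw [← Int.emod_add_mul_ediv i 3, zpow_add, zpow_mul, h3x, one_zpow, mul_one]
    rcases (show i % 3 = 0 ∨ i % 3 = 1 ∨ i % 3 = 2 by omega) with e | e | e <;> rw [e] at hmod <;> rw [hmod]
    · exfalso
      rw [hmod, zpow_zero] at hi'
      have : (y : Perm (Fin 6)) = 1 := by
        have h := congrArg (fun z => (u : Perm (Fin 6))⁻¹ * z * (u : Perm (Fin 6))) hi'
        simpa [mul_assoc] using h.symm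
      rw [← Subgroup.orderOf_coe, this, orderOf_one] at hy
      norm_num at hy
    · rw [zpow_one]
    · rw [show (x : Perm (Fin 6)) ^ (2 : ℤ) = (x : Perm (Fin 6))⁻¹ by
        rw [eq_inv_iff_mul_eq_one, ← zpow_add_one]; exact h3x, Perm.cycleType_inv]
  by_cases hx1 : (x : Perm (Fin 6)).cycleType = g1.cycleType
  · refine ⟨g2, hg2A, o2, fun σ hσ => ?_⟩
    have := same ⟨_, hσ⟩ (by rw [← Subgroup.orderOf_coe]; exact (MulEquiv.orderOf_eq (MulAut.conj σ) g2).trans o2)
    rw [Perm.cycleType_conj, hx1, hg1, hg2] at this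
    simpa using congrArg Multiset.card this
  · refine ⟨g1, hg1A, o1, fun σ hσ => hx1 ?_⟩
    have := same ⟨_, hσ⟩ (by rw [← Subgroup.orderOf_coe]; exact (MulEquiv.orderOf_eq (MulAut.conj σ) g1).trans o1)
    rw [Perm.cycleType_conj] at this
    exact this.symm

theorem not_fix_set {g : Perm (Fin m)} {r : ℕ} (hr : r.Prime) (hg : orderOf g = r) {j : ℕ}
    (hgt : g.cycleType = Multiset.replicate j r) {Δ : Finset (Fin m)} (hk : Δ.card < r) (hk2 : m - j * r < Δ.card) :
    g ∉ stabilizer (Perm (Fin m)) Δ := by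
  classical
  intro hst
  have hstab := Cfsg.Agent.PermGp.HallSym.mem_stab_iff.1 hst
  have hfix : ∀ x ∈ Δ, g x = x := by
    intro x hx
    by_contra hne
    have hsub : (g.cycleOf x).support ⊆ Δ := fun y hy => by
      rw [Perm.mem_support_cycleOf_iff] at hy
      obtain ⟨i, rfl⟩ := hy.1
      have := (stabilizer (Perm (Fin m)) Δ).zpow_mem hst i
      exact (Cfsg.Agent.PermGp.HallSym.mem_stab_iff.1 this x).2 hx
    have hmem : (g.cycleOf x).support.card ∈ g.cycleType := by
      rw [Perm.cycleType_def]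
      exact Multiset.mem_map.2 ⟨g.cycleOf x, Finset.mem_val ▸ Perm.cycleOf_mem_cycleFactorsFinset_iff.2 (Perm.mem_support.2 hne), rfl⟩
    rw [hgt] at hmem
    have := Finset.card_le_card hsub
    rw [Multiset.eq_of_mem_replicate hmem] at this
    omega
  have hsub : Δ ⊆ g.supportᶜ := fun x hx => Finset.mem_compl.2 fun h => Perm.mem_support.1 h (hfix x hx)
  have := Finset.card_le_card hsub
  rw [Finset.card_compl, Fintype.card_fin, ← Perm.sum_cycleType, hgt, Multiset.sum_replicate, smul_eq_mul] at this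
  omega

/-- Let G be an almost simple group whose socle is an alternating group of degree m ≥ 5 (G has a normal subgroup T isomorphic to that alternating group with trivial centralizer), acting faithfully and primitively on a finite set Ω with at least two points, and let r be the largest prime divisor of the number of points. Then G contains an element of order r fixing no point. -/
theorem result {G Ω : Type*} [Group G] [Finite G] [MulAction G Ω] [FaithfulSMul G Ω] [Finite Ω]
    (T : Subgroup G) (hT : T.Normal) (hTc : Subgroup.centralizer (T : Set G) = ⊥) (m : ℕ) (hm : 5 ≤ m)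
    (eT : ↥T ≃* ↥(alternatingGroup (Fin m))) (hprim : MulAction.IsPreprimitive G Ω) (hΩ : 2 ≤ Nat.card Ω)
    (r : ℕ) (hr : r.Prime) (hrd : r ∣ Nat.card Ω) (hmax : ∀ s : ℕ, s.Prime → s ∣ Nat.card Ω → s ≤ r) :
    ∃ g : G, orderOf g = r ∧ ∀ ω : Ω, g • ω ≠ ω := by
  classical
  haveI := hT
  haveI : Fintype Ω := Fintype.ofFinite Ω
  haveI htrG : IsPretransitive G Ω := hprim.toIsPretransitive
  haveI : Nontrivial Ω := Finite.one_lt_card_iff_nontrivial.1 hΩ
  obtain ⟨ω⟩ : Nonempty Ω := inferInstance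
  have hT1 : T ≠ ⊥ := fun h => by
    have h1 := Nat.card_congr eT.toEquiv
    rw [h, Subgroup.card_bot] at h1
    haveI : Nontrivial (Fin m) := Fin.nontrivial_iff_two_le.2 (by omega)
    have h2 := two_mul_card_alternatingGroup (α := Fin m)
    rw [← Nat.card_eq_fintype_card, ← Nat.card_eq_fintype_card, ← h1, Nat.card_perm, Nat.card_fin] at h2
    have := Nat.factorial_le (show 3 ≤ m by omega)
    simp [Nat.factorial] at this
    omega
  haveI htrT : IsPretransitive T Ω := by
    haveI := hprim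
    refine IsQuasiPreprimitive.isPretransitive_of_normal (G := G) ?_
    intro htop
    apply hT1
    rw [Subgroup.eq_bot_iff_forall]
    intro t ht
    refine FaithfulSMul.eq_of_smul_eq_smul fun a : Ω => ?_
    rw [one_smul]
    have : a ∈ MulAction.fixedPoints T Ω := htop ▸ Set.mem_univ a
    exact this ⟨t, ht⟩
  obtain ⟨M, hM⟩ : ∃ M : Subgroup G, M = stabilizer G ω := ⟨_, rfl⟩
  let ι : T →* Perm (Fin m) := (alternatingGroup (Fin m)).subtype.comp eT.toMonoidHom
  have hι : Function.Injective ι := Subtype.coe_injective.comp eT.injective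
  obtain ⟨H, hH⟩ : ∃ H : Subgroup (Perm (Fin m)), H = (stabilizer T ω).map ι := ⟨_, rfl⟩
  have hHA : H ≤ alternatingGroup (Fin m) := by
    rw [hH]; rintro _ ⟨t, -, rfl⟩; exact (eT t).2
  obtain ⟨n, hn⟩ : ∃ n, n = Nat.card Ω := ⟨_, rfl⟩
  have hcard : 2 * (Nat.card H * n) = m.factorial := by
    rw [hH, Subgroup.card_map_of_injective hι, hn, ← index_stabilizer_of_transitive T ω, Subgroup.card_mul_index,
      Nat.card_congr eT.toEquiv]
    haveI : Nontrivial (Fin m) := Fin.nontrivial_iff_two_le.2 (by omega)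
    rw [Nat.card_eq_fintype_card, two_mul_card_alternatingGroup, Fintype.card_perm, Fintype.card_fin]
  have hA : ¬ alternatingGroup (Fin m) ≤ H := fun h => by
    have hle := Subgroup.card_le_of_le h
    haveI : Nontrivial (Fin m) := Fin.nontrivial_iff_two_le.2 (by omega)
    have h2 := two_mul_card_alternatingGroup (α := Fin m)
    rw [← Nat.card_eq_fintype_card, ← Nat.card_eq_fintype_card, Nat.card_perm, Nat.card_fin] at h2
    have := Nat.mul_le_mul (show 2 * Nat.card (alternatingGroup (Fin m)) ≤ 2 * Nat.card H by omega) (hn ▸ hΩ : 2 ≤ n)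
    rw [h2, mul_assoc, hcard] at this
    have := Nat.factorial_pos m
    omega
  -- reduction to a permutation avoiding all conjugates
  have derange : ∀ g ∈ alternatingGroup (Fin m), orderOf g = r → (∀ σ : Perm (Fin m), σ * g * σ⁻¹ ∉ H) →
      ∃ g : G, orderOf g = r ∧ ∀ ω : Ω, g • ω ≠ ω := by
    intro g hg hgr hav
    refine ⟨(eT.symm ⟨g, hg⟩ : T), ?_, fun a ha => ?_⟩
    · rw [Subgroup.orderOf_coe, MulEquiv.orderOf_eq, Subgroup.orderOf_mk]; exact hgr
    · obtain ⟨t, rfl⟩ := exists_smul_eq T ω a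
      apply hav (ι t)⁻¹
      rw [inv_inv, hH]
      refine ⟨t⁻¹ * eT.symm ⟨g, hg⟩ * t, ?_, by simp [ι]⟩
      rw [SetLike.mem_coe, mem_stabilizer_iff, mul_smul, mul_smul, inv_smul_eq_iff]
      exact ha
  have hrn : r ∣ n := hn ▸ hrd
  have hrm : r ≤ m := hr.dvd_factorial.1 ((hrn.trans (Dvd.intro_left _ rfl)).trans (Dvd.intro_left _ hcard))
  -- a prime above half the degree
  have big : m < 2 * r → ∃ g : G, orderOf g = r ∧ ∀ ω : Ω, g • ω ≠ ω := by
    intro hm2
    have hr2 : r ≠ 2 := by omega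
    obtain ⟨g, hgA, hg⟩ := exists_perm_cycleType (m := m) (j := 1) (r := r) hr.two_le (by omega)
      (fun h => absurd h hr2) (Or.inr (hr.odd_of_ne_two hr2))
    have ho := orderOf_eq_of_cycleType hr le_rfl hg
    refine derange g hgA ho fun σ hσ => ?_
    have hdH : r ∣ Nat.card H := by
      rw [← ho, show orderOf g = orderOf (σ * g * σ⁻¹) from (MulEquiv.orderOf_eq (MulAut.conj σ) g).symm,
        ← Subgroup.orderOf_mk _ hσ]
      exact orderOf_dvd_natCard _
    have h1 : r * r ∣ m.factorial := (Nat.mul_dvd_mul hdH hrn).trans (Dvd.intro_left _ hcard)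
    have h2 : (m.factorial).factorization r ≥ 2 := by
      rw [← sq] at h1
      exact (hr.pow_dvd_iff_le_factorization (Nat.factorial_ne_zero m)).1 h1
    have h3 := Nat.sub_one_mul_factorization_factorial hr (n := m)
    have h4 : (Nat.digits r m).sum = m - r + 1 := by
      rw [Nat.digits_def' hr.one_lt (by omega), List.sum_cons,
        show m / r = 1 by apply Nat.div_eq_of_lt_le <;> omega, Nat.digits_of_lt r 1 one_ne_zero hr.one_lt]
      rw [Nat.mod_eq_sub_mod hrm, Nat.mod_eq_of_lt (by omega)]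
      simp
    rw [h4] at h3
    have := Nat.mul_le_mul_left (r - 1) h2
    omega
  -- the largest prime up to m
  obtain ⟨p, hp, hpm, hp2, hpmax⟩ : ∃ p, p.Prime ∧ p ≤ m ∧ m < 2 * p ∧ ∀ q, q.Prime → q ≤ m → q ≤ p := by
    obtain ⟨q, hq, hq1, hq2⟩ := Nat.exists_prime_lt_and_le_two_mul (m / 2) (by omega)
    refine ⟨Nat.findGreatest Nat.Prime m, Nat.findGreatest_spec (show q ≤ m by omega) hq, Nat.findGreatest_le m, ?_,
      fun s hs hsm => Nat.le_findGreatest hsm hs⟩
    have := Nat.le_findGreatest (show q ≤ m by omega) hq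
    omega
  by_cases hpn : p ∣ n
  · have h1 := hmax p hp (hn ▸ hpn)
    exact big (by omega)
  have hpH : p ∣ Nat.card H := by
    have h1 : p ∣ 2 * (Nat.card H * n) := hcard ▸ hp.dvd_factorial.2 hpm
    rcases hp.dvd_mul.1 h1 with h | h
    · have := Nat.le_of_dvd (by norm_num) h; omega
    · exact (hp.dvd_mul.1 h).resolve_right hpn
  by_cases h6 : m = 6
  · subst h6
    have hp5 : p = 5 := le_antisymm (by
      by_contra h
      have : p = 6 := by omega
      subst this; norm_num at hp) (hpmax 5 Nat.prime_five (by norm_num))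
    subst hp5
    have hc720 : 2 * (Nat.card H * n) = 720 := by rw [hcard]; norm_num [Nat.factorial]
    by_cases h3 : 3 ∣ n
    · have h3r : r = 3 := by
        have := hmax 3 Nat.prime_three (hn ▸ h3)
        have h5r : r ≠ 5 := fun h => hpn (h ▸ hrn)
        have : r ≠ 4 := fun h => by subst h; norm_num at hr
        have : r ≠ 6 := fun h => by subst h; norm_num at hr
        omega
      obtain ⟨g, hgA, hg, hav⟩ := six_three hc720 h3
      exact derange g hgA (h3r ▸ hg) hav
    · exact (six_two hc720 h3 hpH hA).elim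
  haveI : Fact p.Prime := ⟨hp⟩
  obtain ⟨x, hx⟩ := exists_prime_orderOf_dvd_card' p hpH
  have hx' : orderOf (x : Perm (Fin m)) = p := by rwa [Subgroup.orderOf_coe]
  obtain ⟨hxc, hxs⟩ := isCycle_of_card hp hp2 hx'
  by_cases htr : IsPretransitive H (Fin m)
  · have hHprim := primitive_of_big_cycle hp hp2 x.2 hxc hxs
    by_cases hm2 : m < 2 * r
    · exact big hm2
    have hr2 : r ≠ 2 := fun h2 => by
      have h3 : ¬ 3 ∣ n := fun h => by
        have := hmax 3 Nat.prime_three (hn ▸ h); omega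
      obtain ⟨c, hc, h3c⟩ := exists_threeCycle (by omega) hcard h3
      exact hA (Equiv.Perm.alternatingGroup_le_of_isPreprimitive_of_isThreeCycle_mem hHprim h3c hc)
    obtain ⟨g, hgA, hg⟩ := exists_perm_cycleType (m := m) (j := 1) (r := r) hr.two_le (by omega)
      (fun h => absurd h hr2) (Or.inr (hr.odd_of_ne_two hr2))
    refine derange g hgA (orderOf_eq_of_cycleType hr le_rfl hg) fun σ hσ => hA ?_
    have hct : (σ * g * σ⁻¹).cycleType = {r} := by rw [Perm.cycleType_conj, hg]; rfl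
    exact Cfsg.Agent.PermGp.alternating_le_of_prime_cycle hHprim hr (by rw [Fintype.card_fin]; omega)
      (Perm.card_cycleType_eq_one.1 (by rw [hct]; rfl))
      (by rw [← Perm.sum_cycleType, hct, Multiset.sum_singleton]) hσ
  -- intransitive
  obtain ⟨Δ, hk1, hk2, hΔ⟩ := Cfsg.Agent.PermGp.HallSym.exists_small_invariant htr
  rw [Fintype.card_fin] at hk2
  -- the orbit of the big cycle
  obtain ⟨a, ha⟩ := Finset.card_pos.1 (show 0 < (x : Perm (Fin m)).support.card by rw [hxs]; exact hp.pos)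
  obtain ⟨O, hO⟩ : ∃ O : Finset (Fin m), O = (MulAction.orbit H a).toFinset := ⟨_, rfl⟩
  have hOp : p ≤ O.card := by
    rw [← hxs]
    refine Finset.card_le_card fun y hy => ?_
    obtain ⟨i, rfl⟩ := hxc.exists_zpow_eq (Perm.mem_support.1 ha) (Perm.mem_support.1 hy)
    rw [hO, Set.mem_toFinset]
    exact ⟨x ^ i, rfl⟩
  have hOH : H ≤ stabilizer (Perm (Fin m)) O := fun σ hσ => Cfsg.Agent.PermGp.HallSym.mem_stab_iff.2 fun y => by
    rw [hO, Set.mem_toFinset, Set.mem_toFinset, show σ y = (⟨σ, hσ⟩ : H) • y from rfl, ← orbit_eq_iff, orbit_smul,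
      orbit_eq_iff]
  have hOm : O.card < m := by
    by_contra hc
    apply htr
    have hu : O = Finset.univ := Finset.eq_univ_of_card O (by
      have := Finset.card_le_univ O
      rw [Fintype.card_fin] at this ⊢; omega)
    have hmem : ∀ y, y ∈ MulAction.orbit H a := fun y => by rw [← Set.mem_toFinset, ← hO, hu]; exact Finset.mem_univ y
    refine ⟨fun y z => ?_⟩
    obtain ⟨u, hu⟩ := hmem y
    obtain ⟨v, hv⟩ := hmem z
    exact ⟨v * u⁻¹, by rw [← hu, ← hv, smul_smul, inv_mul_cancel_right]⟩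
  obtain ⟨ψ, hψT, hψ⟩ := exists_psi T hm h6 eT
  have hψM : ∀ g ∈ M, ψ g ∈ stabilizer (Perm (Fin m)) O := by
    intro g hg
    have hgω : g • ω = ω := by rw [hM] at hg; exact hg
    -- conjugation by `g` preserves the stabiliser in `T`
    have hconj : ∀ h ∈ H, ψ g * h * (ψ g)⁻¹ ∈ H ∧ (ψ g)⁻¹ * h * ψ g ∈ H := by
      intro h hh
      rw [hH] at hh ⊢
      obtain ⟨t, ht, rfl⟩ := hh
      have ht' : (t : G) • ω = ω := ht
      have hg' : g⁻¹ • ω = ω := by rw [inv_smul_eq_iff, hgω]
      refine ⟨⟨MulAut.conjNormal g t, ?_, hψ g t⟩, ⟨MulAut.conjNormal g⁻¹ t, ?_, ?_⟩⟩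
      · show (MulAut.conjNormal g t : G) • ω = ω
        rw [MulAut.conjNormal_apply, mul_smul, mul_smul, hg', ht', hgω]
      · show (MulAut.conjNormal g⁻¹ t : G) • ω = ω
        rw [MulAut.conjNormal_apply, inv_inv, mul_smul, mul_smul, hgω, ht', hg']
      · have := hψ g⁻¹ t
        rw [map_inv ψ g, inv_inv] at this
        exact this
    set σ := ψ g
    have hinv : ∀ h ∈ H, h • (σ • O) = σ • O := fun h hh => by
      conv_rhs => rw [← mem_stabilizer_iff.1 (hOH (hconj h hh).2)]
      rw [smul_smul, smul_smul]; group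
    rw [mem_stabilizer_iff]
    have hdis : ¬ Disjoint O (σ • O) := fun hd => by
      have := Finset.card_le_univ (O ∪ σ • O)
      rw [Finset.card_union_of_disjoint hd, Finset.card_smul_finset, Fintype.card_fin] at this
      omega
    obtain ⟨y, hyO, hyσ⟩ := Finset.not_disjoint_iff.1 hdis
    refine (Finset.eq_of_subset_of_card_le (fun z hz => ?_) (by rw [Finset.card_smul_finset])).symm
    rw [hO, Set.mem_toFinset] at hyO hz
    obtain ⟨u, hu⟩ : z ∈ MulAction.orbit H y := by rwa [orbit_eq_iff.2 hyO]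
    rw [← hu]
    show (u : Perm (Fin m)) • y ∈ σ • O
    rw [← hinv u u.2]
    exact Finset.smul_mem_smul_finset hyσ
  obtain ⟨Δ', hΔ'⟩ : ∃ Δ' : Finset (Fin m), Δ' = Oᶜ := ⟨_, rfl⟩
  have hk' : Δ'.card = m - O.card := by rw [hΔ', Finset.card_compl, Fintype.card_fin]
  have hcomap : M = (stabilizer (Perm (Fin m)) Δ').comap ψ := by
    have hle : M ≤ (stabilizer (Perm (Fin m)) Δ').comap ψ := fun g hg => by
      rw [Subgroup.mem_comap, mem_stabilizer_iff, hΔ', Cfsg.Agent.PermGp.HallSym.smul_compl_finset,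
        mem_stabilizer_iff.1 (hψM g hg)]
    refine (hle.lt_or_eq.resolve_left fun hlt => ?_)
    have hmax' : IsCoatom M := hM ▸ (by haveI := hprim; exact IsPreprimitive.isCoatom_stabilizer_of_isPreprimitive G ω)
    have htop := hmax'.2 _ hlt
    -- then the alternating group fixes the set
    obtain ⟨b, hb⟩ := Finset.card_pos.1 (show 0 < Δ'.card by omega)
    obtain ⟨c, hc⟩ := Finset.card_pos.1 (show 0 < O.card by omega)
    have hbc : b ≠ c := fun e => by rw [hΔ', Finset.mem_compl] at hb; exact hb (e ▸ hc)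
    obtain ⟨d, hd, hdc⟩ := Finset.exists_mem_ne (show 1 < O.card by have := hp.two_le; omega) c
    have hbd : b ≠ d := fun e => by rw [hΔ', Finset.mem_compl] at hb; exact hb (e ▸ hd)
    let t := eT.symm ⟨_, (Cfsg.Agent.FGS.AutAlt.c3_three hbc hbd hdc.symm).mem_alternatingGroup⟩
    have ht : (t : G) ∈ (stabilizer (Perm (Fin m)) Δ').comap ψ := htop ▸ Subgroup.mem_top _
    rw [Subgroup.mem_comap, hψT, MulEquiv.apply_symm_apply, Cfsg.Agent.PermGp.HallSym.mem_stab_iff] at ht
    have := (ht b).2 hb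
    rw [Cfsg.Agent.FGS.AutAlt.c3_a hbc hbd, hΔ', Finset.mem_compl] at this
    exact this hc
  have hHeq : H = stabilizer (Perm (Fin m)) Δ' ⊓ alternatingGroup (Fin m) := by
    ext σ
    rw [hH]
    constructor
    · rintro ⟨t, ht, rfl⟩
      refine ⟨?_, (eT t).2⟩
      have : (t : G) ∈ M := by rw [hM]; exact ht
      rw [hcomap, Subgroup.mem_comap, hψT] at this
      exact this
    · rintro ⟨h1, h2⟩
      refine ⟨eT.symm ⟨σ, h2⟩, ?_, by simp [ι]⟩
      have : ((eT.symm ⟨σ, h2⟩ : T) : G) ∈ M := by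
        rw [hcomap, Subgroup.mem_comap, hψT, MulEquiv.apply_symm_apply]; exact h1
      rw [hM] at this
      exact this
  -- the degree is a binomial coefficient
  have hnchoose : n = m.choose Δ'.card := by
    have hodd : ∃ σ ∈ stabilizer (Perm (Fin m)) Δ', σ ∉ alternatingGroup (Fin m) := by
      obtain ⟨c, hc, d, hd, hcd⟩ := Finset.one_lt_card.1 (show 1 < O.card by have := hp.two_le; omega)
      refine ⟨swap c d, Cfsg.Agent.PermGp.HallSym.mem_stab_iff.2 fun y => ?_, fun h => ?_⟩
      · rw [swap_apply_def]; split_ifs <;> simp_all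
      · rw [Perm.mem_alternatingGroup, Perm.sign_swap hcd] at h
        exact absurd h (by decide)
    obtain ⟨σ₀, hσ₀, hσ₀'⟩ := hodd
    have h2 : Nat.card (stabilizer (Perm (Fin m)) Δ') = 2 * Nat.card H := by
      have hidx : ((alternatingGroup (Fin m)).subgroupOf (stabilizer (Perm (Fin m)) Δ')).index = 2 := by
        rw [Subgroup.index_eq_two_iff]
        refine ⟨⟨σ₀, hσ₀⟩, fun b => ?_⟩
        simp only [Subgroup.mem_subgroupOf, Subgroup.coe_mul, Perm.mem_alternatingGroup, map_mul]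
        have hs : Perm.sign σ₀ = -1 :=
          (Int.units_eq_one_or _).resolve_left (fun h => hσ₀' (Perm.mem_alternatingGroup.2 h))
        rcases Int.units_eq_one_or (Perm.sign (b : Perm (Fin m))) with h | h <;> rw [h, hs] <;> decide
      rw [← ((alternatingGroup (Fin m)).subgroupOf (stabilizer (Perm (Fin m)) Δ')).card_mul_index, hidx, mul_comm,
        hHeq, Subgroup.card_map_of_injective (f := (stabilizer (Perm (Fin m)) Δ').subtype)
          (K := (alternatingGroup (Fin m)).subgroupOf (stabilizer (Perm (Fin m)) Δ'))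
          (Subgroup.subtype_injective _) |>.symm, Subgroup.subgroupOf_map_subtype, inf_comm]
    have h3 := (stabilizer (Perm (Fin m)) Δ').card_mul_index
    rw [Cfsg.Agent.PermGp.HallSym.index_stab_finset, Fintype.card_fin, h2, Nat.card_perm, Nat.card_fin,
      ← hcard, mul_assoc] at h3
    exact (Nat.eq_of_mul_eq_mul_left Nat.card_pos (Nat.eq_of_mul_eq_mul_left two_pos h3)).symm
  obtain ⟨s, hs, hks, hsd⟩ := Cfsg.Agent.Recog.SylvesterSchur.sylvester_schur
    (show 1 ≤ Δ'.card by omega) (show 2 * Δ'.card ≤ m by omega)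
  have hkr : Δ'.card < r := lt_of_lt_of_le hks (hmax s hs (hn ▸ hnchoose ▸ hsd))
  -- reading off the residue
  have hmod : m % r < Δ'.card := by
    have hd : r ∣ m.descFactorial Δ'.card := by
      rw [Nat.descFactorial_eq_factorial_mul_choose, ← hnchoose]; exact hrn.mul_left _
    rw [Nat.descFactorial_eq_prod_range, (Nat.prime_iff.1 hr).dvd_finsetProd_iff] at hd
    obtain ⟨i, hi, hdi⟩ := hd
    rw [Finset.mem_range] at hi
    have : m % r = i := by
      obtain ⟨u, hu⟩ := hdi
      rw [show m = i + r * u by omega, Nat.add_mul_mod_self_left, Nat.mod_eq_of_lt (by omega)]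
    omega
  obtain ⟨g, hgA, hg⟩ := exists_perm_cycleType (m := m) (j := m / r) (r := r) hr.two_le (Nat.div_mul_le_self m r)
    (fun h2 => by
      subst h2
      have hk : Δ'.card = 1 := by omega
      rw [hk, Nat.choose_one_right] at hnchoose
      obtain ⟨e, he⟩ : ∃ e, m = 2 ^ e := ⟨m.primeFactorsList.length, Nat.eq_prime_pow_of_unique_prime_dvd (by omega)
        fun hd hdd => le_antisymm (hmax _ hd (hn ▸ hnchoose ▸ hdd)) hd.two_le⟩
      have he3 : 3 ≤ e := by
        by_contra h
        have := Nat.pow_le_pow_right (show 0 < 2 by norm_num) (show e ≤ 2 by omega)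
        omega
      obtain ⟨f, rfl⟩ : ∃ f, e = f + 2 := ⟨e - 2, by omega⟩
      rw [he, pow_succ, Nat.mul_div_cancel _ two_pos, pow_succ]
      exact ⟨2 ^ f, by ring⟩)
    (hr.eq_two_or_odd'.imp id id)
  have ho := orderOf_eq_of_cycleType hr (Nat.div_pos hrm hr.pos) hg
  refine derange g hgA ho fun σ hσ => ?_
  rw [hHeq] at hσ
  refine not_fix_set hr (g := σ * g * σ⁻¹) ((MulEquiv.orderOf_eq (MulAut.conj σ) g).trans ho) (j := m / r)
    (by rw [Perm.cycleType_conj, hg]) hkr ?_ hσ.1
  have := Nat.mod_add_div m r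
  rw [mul_comm] at this
  omega

end Cfsg.Agent.S3571
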