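import Cfsg.Statements.S3572
import Cfsg.Agent.Lib.PermGp.DihedralRing.OfGroup

set_option autoImplicit false
open Cfsg

namespace Cfsg.Agent.S3572

/-- A finite primitive permutation group containing a dihedral subgroup that acts regularly (transitively with trivial point stabilizers) is doubly transitive. -/
theorem result {G Ω : Type*} [Group G] [Finite G] [MulAction G Ω] [FaithfulSMul G Ω] [Finite Ω]
    (hprim : MulAction.IsPreprimitive G Ω) (D : Subgroup G) (m : ℕ) (hD : Nonempty (↥D ≃* DihedralGroup m))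
    (hDreg : MulAction.IsPretransitive ↥D Ω ∧ ∀ a : Ω, MulAction.stabilizer ↥D a = ⊥) :
    MulAction.IsMultiplyPretransitive G Ω 2 := by
  classical
  obtain ⟨hDt, hDs⟩ := hDreg
  obtain ⟨φ⟩ := hD
  haveI := hprim
  haveI hm : NeZero m := ⟨fun h => by
    subst h
    haveI : Finite (DihedralGroup 0) := Finite.of_equiv _ φ.toEquiv
    exact Infinite.not_finite (α := ZMod 0)
      (Finite.of_injective (fun i => DihedralGroup.r i) fun a b h => DihedralGroup.r.inj h)⟩
  haveI := Fintype.ofFinite ↥D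
  rcases isEmpty_or_nonempty Ω with hΩ | ⟨⟨ω⟩⟩
  · exact ⟨fun x => isEmptyElim (x 0)⟩
  have hbij : Function.Bijective (fun x : D => (x : G) • ω) := by
    refine ⟨fun a b h => ?_, fun y => hDt.exists_smul_eq ω y⟩
    have : b⁻¹ * a ∈ MulAction.stabilizer D ω := by
      show (b⁻¹ * a) • ω = ω
      rw [mul_smul, inv_smul_eq_iff]; exact h
    rw [hDs ω, Subgroup.mem_bot] at this
    exact (inv_mul_eq_one.1 this).symm
  haveI : MulAction.IsPretransitive G Ω := hprim.toIsPretransitive
  refine (MulAction.is_two_pretransitive_iff (G := G) (α := Ω)).2 ?_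
  suffices key : ∀ y z : Ω, y ≠ ω → z ≠ ω → ∃ g : G, g • ω = ω ∧ g • y = z by
    intro a b c d hab hcd
    obtain ⟨g₁, hg₁⟩ := MulAction.exists_smul_eq G a ω
    obtain ⟨g₂, hg₂⟩ := MulAction.exists_smul_eq G c ω
    obtain ⟨g, hg, hgy⟩ := key (g₁ • b) (g₂ • d) (fun h => hab (MulAction.injective g₁ (hg₁.trans h.symm)))
      (fun h => hcd (MulAction.injective g₂ (hg₂.trans h.symm)))
    exact ⟨g₂⁻¹ * g * g₁, by rw [mul_smul, mul_smul, hg₁, hg, inv_smul_eq_iff, hg₂],
      by rw [mul_smul, mul_smul, hgy, inv_smul_smul]⟩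
  intro y z hy hz
  by_cases h1 : m = 1
  · refine ⟨1, one_smul _ _, ?_⟩
    rw [one_smul]
    have hcard : Nat.card Ω = 2 := by
      rw [← Nat.card_eq_of_bijective _ hbij, Nat.card_congr φ.toEquiv, DihedralGroup.nat_card, h1]
    by_contra hne
    have := Fintype.ofFinite Ω
    rw [Nat.card_eq_fintype_card] at hcard
    have : ({ω, y, z} : Finset Ω).card ≤ 2 := hcard ▸ Finset.card_le_univ _
    rw [Finset.card_insert_of_notMem (by simp [Ne.symm hy, Ne.symm hz]), Finset.card_pair hne] at this
    omega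
  haveI : Nontrivial (ZMod m) := ZMod.nontrivial_iff.2 h1
  let ι : Multiplicative (ZMod m) →* D :=
    MonoidHom.mk' (fun i => φ.symm (DihedralGroup.r i.toAdd)) fun a b => by
      rw [← map_mul, DihedralGroup.r_mul_r]; rfl
  obtain ⟨H⟩ : Nonempty (PermGp.DihedralRing.Dih D ω (Multiplicative (ZMod m))) := by
    refine ⟨⟨ι, φ.symm (DihedralGroup.sr 0), hbij, ?_, ?_, ?_⟩⟩
    · constructor
      · intro a b h
        apply_fun φ at h
        rcases a with a | a <;> rcases b with b | b <;> simp [ι] at h ⊢ <;>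
          exact h
      · intro d
        obtain ⟨d', rfl⟩ := φ.symm.surjective d
        cases d' with
        | r i => exact ⟨.inl (Multiplicative.ofAdd i), rfl⟩
        | sr i => exact ⟨.inr (Multiplicative.ofAdd (-i)), by simp [ι, ← map_mul]⟩
    · rw [← map_mul, DihedralGroup.sr_mul_self, map_one]
    · intro c
      simp [ι, ← map_mul]
  obtain ⟨x, rfl⟩ := hbij.2 y
  obtain ⟨w, rfl⟩ := hbij.2 z
  exact H.stab_transitive x w (fun h => hy (by simp [h])) (fun h => hz (by simp [h]))

end Cfsg.Agent.S3572
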