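import Cfsg.Statements.S3573


set_option autoImplicit false
open Cfsg

namespace Cfsg.Agent.S3573

/-- Let 1 ≤ k with 2k < n and consider the symmetric group of degree n acting on the k-subsets of an n-set. Let r be a prime dividing the number C(n,k) of k-subsets. If r is odd, then every permutation of order r fixes some k-subset if and only if r ≤ k and the remainder of k modulo r is at most the remainder of n modulo r. If r = 2, then every involution fixes some k-subset if and only if k is even or n is odd. -/
theorem result (n k : ℕ) (hk : 1 ≤ k) (hkn : 2 * k < n) (r : ℕ) (hr : r.Prime) (hrd : r ∣ Nat.choose n k) :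
    (r ≠ 2 → ((∀ σ : Equiv.Perm (Fin n), orderOf σ = r → ∃ s : Finset (Fin n), s.card = k ∧ s.image σ = s) ↔
      (r ≤ k ∧ k % r ≤ n % r))) ∧
    (r = 2 → ((∀ σ : Equiv.Perm (Fin n), orderOf σ = 2 → ∃ s : Finset (Fin n), s.card = k ∧ s.image σ = s) ↔
      (Even k ∨ Odd n))) := by
  classical
  have hr2 := hr.two_le
  haveI := Fact.mk hr
  have hlucas : k ≤ n % r → k < r → False := by
    intro h1 h2
    have h3 := Choose.choose_modEq_choose_mod_mul_choose_div_nat (p := r) (n := n) (k := k)
    rw [Nat.mod_eq_of_lt h2, Nat.div_eq_of_lt h2, Nat.choose_zero_right, mul_one] at h3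
    have h4 : r ∣ (n % r).choose k := (h3.dvd_iff (dvd_refl r)).1 hrd
    have h5 : (n % r).choose k ∣ (n % r).factorial :=
      ⟨k.factorial * (n % r - k).factorial, by rw [← mul_assoc, Nat.choose_mul_factorial_mul_factorial h1]⟩
    have := hr.dvd_factorial.1 (h4.trans h5)
    have := Nat.mod_lt n hr.pos
    omega
  have main : (∀ σ : Equiv.Perm (Fin n), orderOf σ = r → ∃ s : Finset (Fin n), s.card = k ∧ s.image σ = s) ↔
      (r ≤ k ∧ k % r ≤ n % r) := by
    constructor
    · intro h
      have hrn : r ≤ n := by
        by_contra hlt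
        have := hr.dvd_factorial.1 (hrd.trans (⟨k.factorial * (n - k).factorial, by
          rw [← mul_assoc, Nat.choose_mul_factorial_mul_factorial (by omega)]⟩ : n.choose k ∣ n.factorial))
        omega
      have hm : n / r ≠ 0 := (Nat.div_pos hrn hr.pos).ne'
      obtain ⟨σ, hσ⟩ := (Equiv.Perm.exists_with_cycleType_iff (Fin n) (m := Multiset.replicate (n / r) r)).2
        ⟨by rw [Multiset.sum_replicate, smul_eq_mul, Fintype.card_fin]; exact Nat.div_mul_le_self n r,
          fun a ha => by rw [Multiset.eq_of_mem_replicate ha]; exact hr2⟩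
      have ho : orderOf σ = r := by
        rw [← Equiv.Perm.lcm_cycleType, hσ]
        refine Nat.dvd_antisymm (Multiset.lcm_dvd.2 fun b hb => by rw [Multiset.eq_of_mem_replicate hb]) ?_
        exact Multiset.dvd_lcm (Multiset.mem_replicate.2 ⟨hm, rfl⟩)
      obtain ⟨s, hsk, hsσ⟩ := h σ ho
      have hmem : ∀ x, x ∈ s ↔ σ x ∈ s := fun x => by
        conv_rhs => rw [← hsσ]
        rw [Finset.mem_image]
        exact ⟨fun hx => ⟨x, hx, rfl⟩, fun ⟨y, hy, he⟩ => σ.injective he ▸ hy⟩
      let τ : Equiv.Perm {x // x ∈ s} := σ.subtypePerm fun x => (hmem x).symm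
      have hτ : τ ^ r ^ 1 = 1 := by
        rw [pow_one]
        ext x
        simp only [τ, Equiv.Perm.subtypePerm_pow, Equiv.Perm.subtypePerm_apply, Equiv.Perm.one_apply]
        rw [show (σ ^ r) = 1 from ho ▸ pow_orderOf_eq_one σ]
        rfl
      have hmodeq := Equiv.Perm.card_compl_support_modEq (p := r) hτ
      rw [Fintype.card_coe, hsk] at hmodeq
      have hle : τ.supportᶜ.card ≤ n % r := by
        have h1 : τ.supportᶜ.map (Function.Embedding.subtype _) ⊆ σ.supportᶜ := by
          intro x hx
          obtain ⟨y, hy, rfl⟩ := Finset.mem_map.1 hx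
          rw [Finset.mem_compl, Equiv.Perm.notMem_support] at hy ⊢
          exact congrArg Subtype.val hy
        have h2 := Finset.card_le_card h1
        rw [Finset.card_map, Finset.card_compl σ.support, Fintype.card_fin, ← Equiv.Perm.sum_cycleType, hσ,
          Multiset.sum_replicate, smul_eq_mul] at h2
        have := Nat.div_add_mod' n r
        omega
      have hfix : τ.supportᶜ.card = k % r := by
        have := Nat.mod_lt n hr.pos
        rw [← hmodeq]
        exact (Nat.mod_eq_of_lt (by omega)).symm
      refine ⟨?_, hfix ▸ hle⟩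
      by_contra hlt
      rw [Nat.mod_eq_of_lt (by omega)] at hfix
      exact hlucas (hfix ▸ hle) (by omega)
    · rintro ⟨hk1, hk2⟩ σ hσ
      obtain ⟨m, hm⟩ := Equiv.Perm.cycleType_prime_order (σ := σ) (hσ ▸ hr)
      rw [hσ] at hm
      have hcard : σ.cycleFactorsFinset.card = m + 1 := by
        have := congrArg Multiset.card hm
        rw [Equiv.Perm.cycleType_def, Multiset.card_map, Multiset.card_replicate] at this
        exact this
      have hsum := σ.sum_cycleType
      rw [hm, Multiset.sum_replicate, smul_eq_mul] at hsum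
      have hsup : σ.support.card ≤ n := by simpa using Finset.card_le_univ σ.support
      have hlen : ∀ c ∈ σ.cycleFactorsFinset, c.support.card = r := by
        intro c hc
        have : c.support.card ∈ σ.cycleType := by
          rw [Equiv.Perm.cycleType_def]
          exact Multiset.mem_map.2 ⟨c, hc, rfl⟩
        rw [hm] at this
        exact Multiset.eq_of_mem_replicate this
      set a := min (m + 1) (k / r) with ha
      obtain ⟨C, hC, hCa⟩ := Finset.exists_subset_card_eq (s := σ.cycleFactorsFinset) (n := a) (by omega)
      set U := C.biUnion Equiv.Perm.support with hU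
      have hUcard : U.card = a * r := by
        rw [hU, Finset.card_biUnion, Finset.sum_congr rfl (fun c hc => hlen c (hC hc)), Finset.sum_const,
          smul_eq_mul, hCa]
        intro c hc d hd hcd
        exact (σ.cycleFactorsFinset_pairwise_disjoint (hC hc) (hC hd) hcd).disjoint_support
      have har : a * r ≤ k := (Nat.mul_le_mul_right r (min_le_right _ _)).trans (Nat.div_mul_le_self k r)
      have hrest : k - a * r ≤ σ.supportᶜ.card := by
        rw [Finset.card_compl, Fintype.card_fin, ← hsum]
        rcases le_total (m + 1) (k / r) with h | h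
        · rw [ha, min_eq_left h]; omega
        · rw [ha, min_eq_right h]
          have h1 := Nat.div_add_mod' k r
          have h2 := Nat.div_add_mod' n r
          have h3 : (n - (m + 1) * r) % r = n % r := by
            conv_rhs => rw [← Nat.sub_add_cancel (show (m + 1) * r ≤ n by omega)]
            rw [Nat.add_mul_mod_self_right]
          have h4 := Nat.mod_le (n - (m + 1) * r) r
          omega
      obtain ⟨F, hF, hFc⟩ := Finset.exists_subset_card_eq hrest
      have hdis : Disjoint U F := by
        rw [Finset.disjoint_left]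
        intro x hx hxF
        obtain ⟨c, hc, hxc⟩ := Finset.mem_biUnion.1 hx
        exact Finset.mem_compl.1 (hF hxF) (Equiv.Perm.mem_cycleFactorsFinset_support_le (hC hc) hxc)
      refine ⟨U ∪ F, by rw [Finset.card_union_of_disjoint hdis, hUcard, hFc]; omega, ?_⟩
      refine Finset.eq_of_subset_of_card_le ?_ (by rw [Finset.card_image_of_injective _ σ.injective])
      intro y hy
      obtain ⟨x, hx, rfl⟩ := Finset.mem_image.1 hy
      rcases Finset.mem_union.1 hx with hx | hx
      · obtain ⟨c, hc, hxc⟩ := Finset.mem_biUnion.1 hx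
        refine Finset.mem_union_left _ (Finset.mem_biUnion.2 ⟨c, hc, ?_⟩)
        rw [← ((Equiv.Perm.mem_cycleFactorsFinset_iff.1 (hC hc)).2 x hxc)]
        exact Equiv.Perm.apply_mem_support.2 hxc
      · refine Finset.mem_union_right _ ?_
        rw [Equiv.Perm.notMem_support.1 (Finset.mem_compl.1 (hF hx))]
        exact hx
  refine ⟨fun _ => main, fun h2 => ?_⟩
  subst h2
  rw [main, Nat.even_iff, Nat.odd_iff]
  refine ⟨fun h => by omega, fun h => ?_⟩
  have h' : k = 1 → ¬ (k ≤ n % 2) := fun hk1 hle => hlucas hle (by omega)
  omega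

end Cfsg.Agent.S3573
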