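import Cfsg.Statements.S3575
import Cfsg.Agent.Lib.Recog.PartitionFix
import Mathlib

set_option autoImplicit false
open Cfsg

namespace Cfsg.Agent.S3575

/-- Let a, b ≥ 2 and consider the symmetric group of degree a·b acting on the partitions of an (a·b)-set into b parts of size a (encoded as maps onto a b-element set all of whose fibres have a elements; a permutation fixes such a partition when it permutes the fibres). Let r be a prime dividing the number (ab)!/((a!)^b·b!) of such partitions, and let ℓ and k be the remainders of a and b modulo r. Then every permutation of order r fixes some such partition if and only if r ≤ a and one of the following holds: ℓ = 0; or k = 0 and ℓ = 1; or ℓ and k are non-zero, k·ℓ < r, and either b < r or (k + r)·ℓ ≤ k·a + r. -/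
theorem result (a b : ℕ) (ha : 2 ≤ a) (hb : 2 ≤ b) (r : ℕ) (hr : r.Prime)
    (hrd : r ∣ (a * b).factorial / (a.factorial ^ b * b.factorial)) :
    (∀ σ : Equiv.Perm (Fin (a * b)), orderOf σ = r →
        ∃ f : Fin (a * b) → Fin b, (∀ j : Fin b, Nat.card {x : Fin (a * b) // f x = j} = a) ∧
          ∃ π : Equiv.Perm (Fin b), ∀ x : Fin (a * b), f (σ x) = π (f x)) ↔
      (r ≤ a ∧ (a % r = 0 ∨ (b % r = 0 ∧ a % r = 1) ∨
        (a % r ≠ 0 ∧ b % r ≠ 0 ∧ (b % r) * (a % r) < r ∧ (b < r ∨ (b % r + r) * (a % r) ≤ (b % r) * a + r)))) := by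
  classical
  open Cfsg.Agent.Recog.PartitionFix in
  have hrab : r ≤ a * b := by
    have hd : a.factorial ^ b * b.factorial ∣ (a * b).factorial := by
      refine ⟨Nat.uniformBell b a, ?_⟩
      rw [mul_comm a b, ← Nat.uniformBell_mul_eq b (show a ≠ 0 by omega)]
      ring
    exact (Nat.Prime.dvd_factorial hr).mp (hrd.trans (Nat.div_dvd_of_dvd hd))
  have key : (∀ σ : Equiv.Perm (Fin (a * b)), orderOf σ = r →
        ∃ f : Fin (a * b) → Fin b, (∀ j : Fin b, Nat.card {x : Fin (a * b) // f x = j} = a) ∧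
          ∃ π : Equiv.Perm (Fin b), ∀ x : Fin (a * b), f (σ x) = π (f x)) ↔
      (r ≤ a ∧ b % r * (a % r) < r ∧ (b < r ∨ (b % r + r) * (a % r) ≤ b % r * a + r)) := by
    constructor
    · intro h
      by_contra hc
      obtain ⟨k, hk1, hk2, hk3⟩ := Cfsg.Agent.Recog.PartitionFix.bad ha hr.two_le hrab hc
      obtain ⟨σ, hσ, hfix⟩ := Cfsg.Agent.Recog.PartitionFix.exists_perm (α := Fin (a * b)) hr (k := k)
        (by rw [Fintype.card_fin]; exact hk2)
      rw [Fintype.card_fin] at hfix
      have hne : σ ≠ 1 := by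
        rintro rfl
        rw [Cfsg.Agent.Recog.PartitionFix.nfix_eq] at hfix
        simp at hfix
        rcases hfix with h' | h'
        · omega
        · exact hr.ne_zero h'
      obtain ⟨f, hf, π, hπ⟩ := h σ (haveI := Fact.mk hr; orderOf_eq_prime hσ hne)
      obtain ⟨j, h1, h2, h3, h4⟩ := Cfsg.Agent.Recog.PartitionFix.necessary (a := a) (by omega) hr σ hσ f
        (fun j => by have h9 := hf j; rw [Nat.card_eq_fintype_card, Fintype.card_subtype] at h9; exact h9) π hπ
      have : Cfsg.Agent.Recog.PartitionFix.nfix σ = a * b - k * r := by omega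
      rw [this] at h3 h4
      exact hk3 j h1 h2 h3 h4
    · rintro ⟨-, h0, hg⟩ σ hσ
      have hσr : σ ^ r = 1 := hσ ▸ pow_orderOf_eq_one σ
      haveI : Fact r.Prime := ⟨hr⟩
      have hs := Equiv.Perm.card_compl_support_modEq (σ := σ) (p := r) (n := 1) (by rw [pow_one]; exact hσr)
      rw [Fintype.card_fin] at hs
      obtain ⟨j, h1, h2, h3, h4⟩ := Cfsg.Agent.Recog.PartitionFix.cover hr.pos hs
        ((Finset.card_le_univ _).trans_eq (Fintype.card_fin _)) h0 hg
      exact Cfsg.Agent.Recog.PartitionFix.exists_partition hr σ hσr h1 h2 h3 h4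
  rw [key]
  constructor
  · rintro ⟨h1, h2, h3⟩
    refine ⟨h1, ?_⟩
    by_cases hal : a % r = 0
    · exact Or.inl hal
    by_cases hj0 : b % r = 0
    · refine Or.inr (Or.inl ⟨hj0, ?_⟩)
      rw [hj0] at h3
      rcases h3 with h3 | h3
      · rw [Nat.mod_eq_of_lt h3] at hj0; omega
      · simp only [zero_add, zero_mul] at h3
        have : r * (a % r) ≤ r * 1 := by omega
        have := Nat.le_of_mul_le_mul_left this hr.pos
        omega
    · exact Or.inr (Or.inr ⟨hal, hj0, h2, h3⟩)
  · rintro ⟨h1, h2 | ⟨h2, h3⟩ | ⟨-, -, h2, h3⟩⟩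
    · exact ⟨h1, by rw [h2, mul_zero]; exact hr.pos, Or.inr (by rw [h2, mul_zero]; exact Nat.zero_le _)⟩
    · refine ⟨h1, by rw [h2, zero_mul]; exact hr.pos, Or.inr ?_⟩
      rw [h2, h3]; simp
    · exact ⟨h1, h2, h3⟩

end Cfsg.Agent.S3575
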