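import Cfsg.Statements.S3580
import Cfsg.Agent.Lib.Recog.SylFix.Main

set_option autoImplicit false
open Cfsg

namespace Cfsg.Agent.S3580

/-- Let G act faithfully and transitively on a finite set Ω, let p be an odd prime dividing the order of G and P a Sylow p-subgroup of G. Then the number of orbits of P on Ω is at most (p/(2p − 1))·(number of points). -/
theorem result {G Ω : Type*} [Group G] [Finite G] [MulAction G Ω] [FaithfulSMul G Ω] [Finite Ω]
    (htrans : MulAction.IsPretransitive G Ω) (p : ℕ) [Fact p.Prime] (hp2 : p ≠ 2) (hpG : p ∣ Nat.card G)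
    (P : Sylow p G) :
    (2 * p - 1) * Nat.card (MulAction.orbitRel.Quotient ↥(P : Subgroup G) Ω) ≤ p * Nat.card Ω := by
  classical
  letI : Fintype Ω := Fintype.ofFinite Ω
  haveI := htrans
  have hb := SylFix.fixed_bound (Ω := Ω) hpG P
  haveI : Finite (MulAction.orbitRel.Quotient ↥(P : Subgroup G) Ω) := Quotient.finite _
  letI : Fintype (MulAction.orbitRel.Quotient ↥(P : Subgroup G) Ω) := Fintype.ofFinite _
  set fxd : Finset (MulAction.orbitRel.Quotient ↥(P : Subgroup G) Ω) :=
    Finset.univ.filter fun o => o.orbit.ncard = 1 with hfxd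
  have hsum : Fintype.card Ω = ∑ o : MulAction.orbitRel.Quotient ↥(P : Subgroup G) Ω, o.orbit.ncard := by
    rw [Fintype.card_congr (MulAction.selfEquivSigmaOrbits' (↥(P : Subgroup G)) Ω), Fintype.card_sigma]
    refine Finset.sum_congr rfl fun o _ => ?_
    rw [Set.ncard_eq_toFinset_card', Set.toFinset_card]
  have hge : ∀ o : MulAction.orbitRel.Quotient ↥(P : Subgroup G) Ω, o.orbit.ncard ≠ 1 → p ≤ o.orbit.ncard := by
    intro o
    induction o using Quotient.inductionOn' with
    | _ z =>
      rw [MulAction.orbitRel.Quotient.orbit_mk]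
      intro hne
      obtain ⟨e, he⟩ := P.isPGroup'.card_orbit z
      rw [← Nat.card_coe_set_eq, he] at hne ⊢
      exact Nat.le_self_pow (fun e0 => hne (by rw [e0, pow_zero])) p
  have hcard : fxd.card ≤ (SylFix.fx (Ω := Ω) P).card := by
    refine Finset.card_le_card_of_injOn (fun o => o.out) (fun o ho => ?_) (fun a _ b _ e => Quotient.out_injective e)
    rw [Finset.mem_coe, Finset.mem_filter] at ho
    rw [Finset.mem_coe, SylFix.mem_fx]
    intro q hq
    obtain ⟨z, hz⟩ := Set.ncard_eq_one.1 ho.2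
    rw [MulAction.orbitRel.Quotient.orbit_eq_orbit_out o Quotient.out_eq'] at hz
    have h1 : o.out ∈ MulAction.orbit (↥(P : Subgroup G)) o.out := MulAction.mem_orbit_self _
    have h2 : q • o.out ∈ MulAction.orbit (↥(P : Subgroup G)) o.out := ⟨⟨q, hq⟩, rfl⟩
    rw [hz, Set.mem_singleton_iff] at h1 h2
    exact h2.trans h1.symm
  have key : p * Fintype.card (MulAction.orbitRel.Quotient ↥(P : Subgroup G) Ω) ≤
      Fintype.card Ω + (p - 1) * fxd.card := by
    rw [hsum, ← Finset.card_univ, mul_comm, ← smul_eq_mul, ← Finset.sum_const, mul_comm (p - 1) fxd.card,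
      ← smul_eq_mul, ← Finset.sum_const, hfxd, Finset.sum_filter, ← Finset.sum_add_distrib]
    refine Finset.sum_le_sum fun o _ => ?_
    split_ifs with h
    · omega
    · have := hge o h; omega
  rw [Nat.card_eq_fintype_card, Nat.card_eq_fintype_card]
  have h1 := Nat.mul_le_mul_left (2 * p - 1) key
  have h2 := Nat.mul_le_mul_left (p - 1) ((Nat.mul_le_mul_left (2 * p - 1) hcard).trans hb)
  have hp : 2 ≤ p := (Fact.out : p.Prime).two_le
  obtain ⟨r, rfl⟩ : ∃ r, p = r + 2 := ⟨p - 2, by omega⟩
  simp only [show 2 * (r + 2) - 1 = 2 * r + 3 by omega, show r + 2 - 1 = r + 1 by omega] at h1 h2 ⊢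
  refine Nat.le_of_mul_le_mul_left ?_ (show 0 < r + 2 by omega)
  nlinarith

end Cfsg.Agent.S3580
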