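import Cfsg.Statements.S3589
import Cfsg.Agent.Lib.SpEightEven.PSp
-- import your own Cfsg.Agent.* helpers here

set_option autoImplicit false
open Cfsg

namespace Cfsg.Agent.S3589

/-- Let F be a finite field of characteristic 2 and let a, b ∈ F make the binary form z₁² + a z₁z₂ + b z₂² anisotropic. Then the symplectic group PSp(8,F) (= Sp(8,F)) and the full isometry group of the non-singular quadratic form x₁y₁ + x₂y₂ + x₃y₃ + (z₁² + a z₁z₂ + b z₂²) of minus type in dimension 8 have the same set of element orders. -/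
theorem result {F : Type*} [Field F] [Fintype F]
    [CharP F 2] (a b : F) (han : ∀ z₁ z₂ : F, z₁ ^ 2 + a * z₁ * z₂ + b * z₂ ^ 2 = 0 → z₁ = 0 ∧ z₂ = 0) :
    Set.range (orderOf : Cfsg.PSp 4 F → ℕ) = Set.range (orderOf : ↥(Cfsg.isometryGroup F (Cfsg.quadFormMinus 3 F a b)) → ℕ) := by
  obtain ⟨Q, hQ, hQn⟩ := OrthForms.exists_qMinus (F := F) 3 a b han
  have e : ↥(Cfsg.isometryGroup F ⇑Q) = ↥(Cfsg.isometryGroup F (Cfsg.quadFormMinus 3 F a b)) := by
    rw [hQ]
  rw [← hQ]
  ext N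
  constructor
  · rintro ⟨x, rfl⟩
    obtain ⟨Q', g, hQ', hg⟩ := SpEightEven.mod_all han (SpEightEven.psp_inM8 x)
    obtain ⟨L, hL⟩ := SpEightEven.minus_of_sgn han (by norm_num) hQ'
    let h : Cfsg.isometryGroup F ⇑Q :=
      (FormsLib.oEquiv Q).symm (SpEightEven.oTrans L (fun v => by rw [hQ]; exact hL v) g)
    have hh : orderOf x ∣ orderOf h := by
      show orderOf x ∣ orderOf ((FormsLib.oEquiv Q).symm _)
      rwa [MulEquiv.orderOf_eq, MulEquiv.orderOf_eq]
    have hpos : 0 < orderOf h := orderOf_pos h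
    exact ⟨h ^ (orderOf h / orderOf x), orderOf_pow_orderOf_div hpos.ne' hh⟩
  · rintro ⟨g, rfl⟩
    obtain ⟨x, hx⟩ := SpEightEven.exists_psp_of_oGroup hQn (m := 4) (by simp) (FormsLib.oEquiv Q g)
    exact ⟨x, by rw [hx, MulEquiv.orderOf_eq]⟩

end Cfsg.Agent.S3589
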