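import Cfsg.Statements.S3590
import Cfsg.Agent.Lib.SpEightEven.Extension
-- import your own Cfsg.Agent.* helpers here

set_option autoImplicit false
open Cfsg

namespace Cfsg.Agent.S3590

/-- Codes for the elements of a finite group. -/
def Code (n : ℕ) : Type := Fin n

/-- Let F be a finite field of characteristic 2. Then PSp(8,F) is not determined by its set of element orders, not even up to finitely many groups: for every bound there is a finite group of larger order with exactly the same set of element orders as PSp(8,F). -/
theorem result {F : Type*} [Field F] [Fintype F]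
    [CharP F 2] (M : ℕ) :
    ∃ (H : Type) (_ : Group H) (_ : Fintype H), M < Fintype.card H ∧ Set.range (orderOf : H → ℕ) = Set.range (orderOf : Cfsg.PSp 4 F → ℕ) := by
  obtain ⟨H₀, g₀, f₀, hcard, hspec⟩ := SpEightEven.exists_large (F := F) M
  haveI : Fintype H₀ := Fintype.ofFinite H₀
  let e : Code (Fintype.card H₀) ≃ H₀ := (Fintype.equivFin H₀).symm
  letI : Group (Code (Fintype.card H₀)) := e.group
  letI : Fintype (Code (Fintype.card H₀)) := Fintype.ofEquiv H₀ e.symm
  refine ⟨Code (Fintype.card H₀), e.group, inferInstance,
    by rw [Fintype.card_congr e, ← Nat.card_eq_fintype_card]; exact hcard, ?_⟩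
  rw [← hspec]
  ext N
  constructor
  · rintro ⟨x, rfl⟩
    exact ⟨e.mulEquiv x, e.mulEquiv.orderOf_eq x⟩
  · rintro ⟨y, rfl⟩
    exact ⟨e.mulEquiv.symm y, e.mulEquiv.symm.orderOf_eq y⟩

end Cfsg.Agent.S3590
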