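import Cfsg.Statements.S3592
import Cfsg.Agent.Lib.FGB.M11Nse
import Cfsg.Agent.S0420
import Cfsg.Agent.Lib.Golay.Conj
import Cfsg.Agent.Lib.Golay.Mathieu

set_option autoImplicit false
open Cfsg

namespace Cfsg.Agent.S3592

/-- Let M be the Mathieu group M₁₁ (order 7920). If a finite group G has the same order as M and the same set of values of the function 'number of elements of order n' (taken over the element orders n that occur), then G is isomorphic to M. -/
theorem result {G : Type*} [Group G] [Finite G]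
    (hcard : Nat.card G = Nat.card ↥Cfsg.Spor.M11)
    (hnse : {c : ℕ | 0 < c ∧ ∃ n : ℕ, c = Nat.card {g : G // orderOf g = n}} =
      {c : ℕ | 0 < c ∧ ∃ n : ℕ, c = Nat.card {g : ↥Cfsg.Spor.M11 // orderOf g = n}}) :
    Nonempty (G ≃* ↥Cfsg.Spor.M11) := by
  classical
  haveI : IsSimpleGroup Cfsg.Spor.M11 := Cfsg.Agent.Golay24.M11_simple
  have hM := Cfsg.Agent.Golay24.card_M11
  have hG : Nat.card G = 7920 := by rw [hcard, hM]
  haveI hs : IsSimpleGroup G := Cfsg.Agent.FGB.M11.simple_of_nse hG fun n hn => by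
    obtain ⟨hc, m, hm⟩ : Nat.card {g : G // orderOf g = n} ∈ {c : ℕ | 0 < c ∧ ∃ n : ℕ, c = Nat.card {g : ↥Cfsg.Spor.M11 // orderOf g = n}} :=
      hnse ▸ ⟨hn, n, rfl⟩
    rw [hm]
    by_cases hm1 : m = 1
    · left
      subst hm1
      rw [Nat.card_eq_one_iff_unique]
      exact ⟨⟨fun a b => Subtype.ext ((orderOf_eq_one_iff.1 a.2).trans (orderOf_eq_one_iff.1 b.2).symm)⟩, ⟨⟨1, orderOf_one⟩⟩⟩
    · rcases Cfsg.Agent.FGB.M11.values_simple hM hm1 with ⟨-, h⟩ | h
      · exact Or.inr (Or.inl h)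
      · exact Or.inr (Or.inr h)
  obtain ⟨e⟩ := Cfsg.Agent.S0420.result (G := G) ⟨hs, hG⟩ _ Cfsg.Agent.Golay24.sqDod_mem (some 0) (by decide +kernel)
  obtain ⟨f⟩ := Cfsg.Agent.Golay24.stab_dodecad_point_equiv _ Cfsg.Agent.Golay24.sqDod_mem (some 0) (by decide +kernel)
  exact ⟨e.trans f⟩

end Cfsg.Agent.S3592
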