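import Cfsg.Statements.S3599
import Cfsg.Agent.Lib.Recog.CriticalProduct

set_option autoImplicit false
open Cfsg

namespace Cfsg.Agent.S3599

/-- A finite group is critical with respect to a set Ω of natural numbers when its set of element orders is Ω while no proper section H/N (H a subgroup, N normal in H, (H, N) ≠ (whole group, 1)) has Ω as its set of element orders. Let s ≥ 1 and let p(j,0), p(j,1) (j < s) be 2s pairwise distinct primes, and let Ω be the set of all products c(0)·…·c(s−1) with each c(j) ∈ {1, p(j,0), p(j,1)}. Then there are 2^s pairwise non-isomorphic finite groups critical with respect to Ω. -/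
theorem result (s : ℕ) (hs : 1 ≤ s) (p : Fin s → Fin 2 → ℕ)
    (hp : ∀ j i, (p j i).Prime) (hinj : ∀ j i j' i', p j i = p j' i' → j = j' ∧ i = i') :
    ∃ (G : Fin (2 ^ s) → Type) (_ : ∀ a, Group (G a)) (_ : ∀ a, Fintype (G a)),
      (∀ a b, a ≠ b → ¬ Nonempty (G a ≃* G b)) ∧
      ∀ a, Set.range (orderOf : (G a) → ℕ) = {m : ℕ | ∃ c : Fin s → ℕ, (∀ j, c j = 1 ∨ c j = p j 0 ∨ c j = p j 1) ∧ m = ∏ j, c j} ∧
      ∀ (H : Subgroup (G a)) (N : Subgroup ↥H) [N.Normal], (H ≠ ⊤ ∨ N ≠ ⊥) → Set.range (orderOf : (↥H ⧸ N) → ℕ) ≠ {m : ℕ | ∃ c : Fin s → ℕ, (∀ j, c j = 1 ∨ c j = p j 0 ∨ c j = p j 1) ∧ m = ∏ j, c j} := by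
  classical
  open Cfsg.Agent.Recog.Critical in
  have hrev : ∀ i : Fin 2, i.rev ≠ i := by decide
  have hne : ∀ j i, p j i ≠ p j (Fin.rev i) := fun j i e => hrev i (hinj _ _ _ _ e).2.symm
  choose F iG iF hfac using fun j i =>
    Cfsg.Agent.Recog.Critical.exists_factorGroup (hp j i) (hp j i.rev) (hne j i)
  have : ∀ j i, Finite (F j i) := iF
  have hF : ∀ (f : Fin s → Fin 2) j, Set.range (orderOf : F j (f j) → ℕ) = {1, p j 0, p j 1} := by
    intro f j
    rw [(hfac j (f j)).orders]
    generalize f j = i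
    fin_cases i
    · rfl
    · show ({1, p j 1, p j 0} : Set ℕ) = _
      rw [Set.pair_comm]
  let f : Fin (2 ^ s) → Fin s → Fin 2 := finFunctionFinEquiv.symm
  refine ⟨fun a => ∀ j, F j (f a j), fun a => Pi.group, fun a => Fintype.ofFinite _, ?_, fun a => ⟨?_, ?_⟩⟩
  · rintro a b hab ⟨ψ⟩
    obtain ⟨j, hj⟩ : ∃ j, f a j ≠ f b j := by
      by_contra h
      push_neg at h
      exact hab (finFunctionFinEquiv.symm.injective (funext h))
    have hb : (f b j).rev = f a j := by
      generalize f a j = u at hj ⊢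
      generalize f b j = v at hj ⊢
      revert hj; revert u v; decide
    obtain ⟨x, y, hx, hy, hxy⟩ := (hfac j (f b j)).not_comm_r
    rw [hb] at hx hy
    let x' : ∀ k, F k (f b k) := Pi.mulSingle j x
    let y' : ∀ k, F k (f b k) := Pi.mulSingle j y
    have hx' : orderOf (ψ.symm x') = p j (f a j) := by
      rw [MulEquiv.orderOf_eq, orderOf_piMulSingle, hx]
    have hy' : orderOf (ψ.symm y') = p j (f a j) := by
      rw [MulEquiv.orderOf_eq, orderOf_piMulSingle, hy]
    have hu := Cfsg.Agent.Recog.Critical.eq_mulSingle hp hinj (hF (f a)) _ j _ hx'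
    have hv := Cfsg.Agent.Recog.Critical.eq_mulSingle hp hinj (hF (f a)) _ j _ hy'
    have hcomm : ψ.symm x' * ψ.symm y' = ψ.symm y' * ψ.symm x' := by
      rw [← hu, ← hv, ← Pi.mulSingle_mul, ← Pi.mulSingle_mul]
      congr 1
      refine (hfac j (f a j)).comm_p _ _ ?_ ?_
      · exact (orderOf_piMulSingle j _).symm.trans ((congrArg orderOf hu).trans hx')
      · exact (orderOf_piMulSingle j _).symm.trans ((congrArg orderOf hv).trans hy')
    rw [← map_mul, ← map_mul] at hcomm
    have := congrFun (ψ.symm.injective hcomm) j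
    simp only [x', y', Pi.mul_apply, Pi.mulSingle_eq_same] at this
    exact hxy this
  · exact Cfsg.Agent.Recog.Critical.range_orders hp hinj (hF (f a))
  · intro H N _ hne
    exact Cfsg.Agent.Recog.Critical.critical hp hinj (hF (f a)) (f a) (fun j => hfac j (f a j)) H N hne

end Cfsg.Agent.S3599
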