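import Cfsg.Statements.S3611
import Cfsg.Agent.Lib.Recog.PrimeDegreePairs.Bound

set_option autoImplicit false
open Cfsg

namespace Cfsg.Agent.S3611

/-- Let G be an insoluble group acting faithfully and transitively on a finite set of prime size p, and suppose the normalizer of a Sylow p-subgroup of G has order p(p-1)/2. If p ≡ 3 (mod 4), then G is triply transitive, or for any two distinct points the stabilizer of both has exactly four orbits on the set (the two fixed points and exactly two orbits on the remaining p - 2 points). -/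
theorem result {G Ω : Type*} [Group G] [Finite G] [MulAction G Ω] [FaithfulSMul G Ω] [Finite Ω]
    (p : ℕ) (hp : p.Prime) (hΩ : Nat.card Ω = p) (htrans : MulAction.IsPretransitive G Ω)
    (hins : ¬ Group.IsSolvable G) (P : Sylow p G)
    (hN : 2 * Nat.card ↥(Subgroup.normalizer ((P : Subgroup G) : Set G)) = p * (p - 1))
    (hp3 : p % 4 = 3) :
    MulAction.IsMultiplyPretransitive G Ω 3 ∨
    ∀ α β : Ω, α ≠ β →
      Nat.card (MulAction.orbitRel.Quotient ↥(MulAction.stabilizer G α ⊓ MulAction.stabilizer G β) Ω) = 4 := by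
  classical
  haveI := Fact.mk hp
  haveI := Fintype.ofFinite Ω
  let f : G →* Equiv.Perm Ω := MulAction.toPermHom G Ω
  have hf : Function.Injective f := MulAction.toPerm_injective
  let e : G ≃* f.range := MonoidHom.ofInjective hf
  haveI : MulAction.IsPretransitive f.range Ω := ⟨fun x y => by
    obtain ⟨g, hg⟩ := htrans.exists_smul_eq x y
    exact ⟨⟨f g, ⟨g, rfl⟩⟩, hg⟩⟩
  have hα : Fintype.card Ω = p := by rw [← Nat.card_eq_fintype_card, hΩ]
  have hins' : ¬ Group.IsSolvable f.range := fun h => by
    haveI := h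
    exact hins (Group.isSolvable_of_isSolvable_injective (f := e.toMonoidHom) e.injective)
  have hN' : 2 * Nat.card ↥(Subgroup.normalizer
      ((P.mapSurjective (show Function.Surjective e.toMonoidHom from e.surjective) : Subgroup f.range) : Set f.range)) = p * (p - 1) := by
    rw [Sylow.coe_mapSurjective, ← Subgroup.map_equiv_normalizer_eq (P : Subgroup G) e,
      Subgroup.card_map_of_injective (f := e.toMonoidHom) (show Function.Injective e.toMonoidHom from e.injective), hN]
  have bound : ∀ α β : Ω, α ≠ β → ∀ y : Fin 3 → Ω, (∀ i, y i ≠ α ∧ y i ≠ β) →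
      ∃ i j, i ≠ j ∧ ∃ g : G, g • α = α ∧ g • β = β ∧ g • y i = y j := by
    intro α β hαβ y hy
    by_contra hcon
    refine Cfsg.Agent.PrimeDegreePairs.orbit_bound hα f.range hins' _ hN' hαβ y hy ?_
    rintro i j hij ⟨_, g, rfl⟩ h1 h2 h3
    exact hcon ⟨i, j, hij, g, h1, h2, h3⟩
  by_cases h4 : ∀ α β : Ω, α ≠ β →
      Nat.card (MulAction.orbitRel.Quotient ↥(MulAction.stabilizer G α ⊓ MulAction.stabilizer G β) Ω) = 4
  · exact Or.inr h4
  refine Or.inl ?_
  push Not at h4
  obtain ⟨α, β, hαβ, hne⟩ := h4
  -- a single orbit on the other points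
  have hone : ∀ γ δ : Ω, γ ≠ α → γ ≠ β → δ ≠ α → δ ≠ β →
      ∃ g : G, g • α = α ∧ g • β = β ∧ g • γ = δ := by
    intro γ δ hγa hγb hδa hδb
    by_contra hcon
    apply hne
    set H := MulAction.stabilizer G α ⊓ MulAction.stabilizer G β
    let φ : Fin 4 → MulAction.orbitRel.Quotient ↥H Ω := fun i => Quotient.mk'' (![α, β, γ, δ] i)
    have hrel : ∀ u v : Ω, (Quotient.mk'' u : MulAction.orbitRel.Quotient ↥H Ω) = Quotient.mk'' v →
        ∃ g : G, g • α = α ∧ g • β = β ∧ g • v = u := by
      intro u v h
      rw [Quotient.eq''] at h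
      obtain ⟨g, hg⟩ := MulAction.orbitRel_apply.mp h
      exact ⟨g, g.2.1, g.2.2, hg⟩
    have hbij : Function.Bijective φ := by
      constructor
      · intro i j hij
        obtain ⟨g, g1, g2, g3⟩ := hrel _ _ hij
        have ga : ∀ v, g • v = α → v = α := fun v h => MulAction.injective g (h.trans g1.symm)
        have gb : ∀ v, g • v = β → v = β := fun v h => MulAction.injective g (h.trans g2.symm)
        have gc : g • δ = γ → False := fun h => hcon ⟨g⁻¹, inv_smul_eq_iff.mpr g1.symm,
          inv_smul_eq_iff.mpr g2.symm, inv_smul_eq_iff.mpr h.symm⟩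
        have gd : g • γ = δ → False := fun h => hcon ⟨g, g1, g2, h⟩
        fin_cases i <;> fin_cases j <;> first
          | rfl
          | exact (gc g3).elim
          | exact (gd g3).elim
          | exact (hαβ.symm (ga _ g3)).elim
          | exact (hγa (ga _ g3)).elim
          | exact (hδa (ga _ g3)).elim
          | exact (hαβ (gb _ g3)).elim
          | exact (hγb (gb _ g3)).elim
          | exact (hδb (gb _ g3)).elim
          | exact (hγa (g3.symm.trans g1)).elim
          | exact (hγb (g3.symm.trans g2)).elim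
          | exact (hδa (g3.symm.trans g1)).elim
          | exact (hδb (g3.symm.trans g2)).elim
      · intro q
        induction q using Quotient.inductionOn' with
        | h z =>
          by_cases hza : z = α
          · exact ⟨0, by rw [hza]; rfl⟩
          by_cases hzb : z = β
          · exact ⟨1, by rw [hzb]; rfl⟩
          obtain ⟨i, j, hij, g, g1, g2, g3⟩ := bound α β hαβ ![γ, δ, z] (by
            intro i; fin_cases i <;> simp [*])
          have mk : ∀ (u v : Ω) (k : G), k • α = α → k • β = β → k • u = v →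
              (Quotient.mk'' v : MulAction.orbitRel.Quotient ↥H Ω) = Quotient.mk'' u := fun u v k k1 k2 k3 =>
            Quotient.eq''.mpr (MulAction.orbitRel_apply.mpr ⟨⟨k, k1, k2⟩, k3⟩)
          have e3 := mk _ _ g g1 g2 g3
          fin_cases i <;> fin_cases j
          · exact absurd rfl hij
          · exact absurd ⟨g, g1, g2, g3⟩ hcon
          · exact ⟨2, e3.symm⟩
          · exact absurd ⟨g⁻¹, inv_smul_eq_iff.mpr g1.symm, inv_smul_eq_iff.mpr g2.symm,
              inv_smul_eq_iff.mpr g3.symm⟩ hcon
          · exact absurd rfl hij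
          · exact ⟨3, e3.symm⟩
          · exact ⟨2, e3⟩
          · exact ⟨3, e3⟩
          · exact absurd rfl hij
    rw [← Nat.card_eq_of_bijective φ hbij, Nat.card_fin]
  have h2 : ∀ {u v u' v' : Ω}, u ≠ v → u' ≠ v' → ∃ g : G, g • u = u' ∧ g • v = v' := by
    intro u v u' v' h h'
    obtain ⟨⟨_, g, rfl⟩, g1, g2⟩ := MulAction.is_two_pretransitive_iff.mp
      (Cfsg.Agent.PermGp.two_transitive_of_not_solvable hα f.range hins') h h'
    exact ⟨g, g1, g2⟩
  refine ⟨fun x y => ?_⟩
  have hx : ∀ i j, i ≠ j → x i ≠ x j := fun i j h e => h (x.injective e)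
  have hy : ∀ i j, i ≠ j → y i ≠ y j := fun i j h e => h (y.injective e)
  obtain ⟨g, g1, g2⟩ := h2 (hx 0 1 (by decide)) hαβ
  obtain ⟨k, k1, k2⟩ := h2 hαβ (hy 0 1 (by decide))
  obtain ⟨m, m1, m2, m3⟩ := hone (g • x 2) (k⁻¹ • y 2)
    (fun e => hx 2 0 (by decide) (MulAction.injective g (e.trans g1.symm)))
    (fun e => hx 2 1 (by decide) (MulAction.injective g (e.trans g2.symm)))
    (fun e => hy 2 0 (by decide) (by rw [inv_smul_eq_iff, k1] at e; exact e))
    (fun e => hy 2 1 (by decide) (by rw [inv_smul_eq_iff, k2] at e; exact e))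
  refine ⟨k * m * g, Function.Embedding.ext fun i => ?_⟩
  show (k * m * g) • x i = y i
  fin_cases i
  · simp [mul_smul, g1, m1, k1]
  · simp [mul_smul, g2, m2, k2]
  · simp [mul_smul, m3]

end Cfsg.Agent.S3611
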