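import Cfsg.Statements.S3612
import Cfsg.Agent.Lib.Recog.PrimeDegreePairs.Bound
import Cfsg.Agent.Lib.Recog.PrimeDegreePairs.Design
import Cfsg.Agent.S0676
import Mathlib.GroupTheory.GroupAction.MultipleTransitivity
import Mathlib.GroupTheory.GroupAction.Primitive

set_option autoImplicit false
open Cfsg

namespace Cfsg.Agent.S3612

/-- Let G be an insoluble group acting faithfully and transitively on a finite set of prime size p, and suppose the normalizer of a Sylow p-subgroup of G has order p(p-1)/2. If p > 7, then the stabilizer of a point acts primitively on the remaining p - 1 points. -/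
theorem result {G Ω : Type*} [Group G] [Finite G] [MulAction G Ω] [FaithfulSMul G Ω] [Finite Ω]
    (p : ℕ) (hp : p.Prime) (hΩ : Nat.card Ω = p) (htrans : MulAction.IsPretransitive G Ω)
    (hins : ¬ Group.IsSolvable G) (P : Sylow p G)
    (hN : 2 * Nat.card ↥(Subgroup.normalizer ((P : Subgroup G) : Set G)) = p * (p - 1))
    (hp7 : 7 < p) (α : Ω) :
    MulAction.IsPreprimitive ↥(MulAction.stabilizer G α) ↥(SubMulAction.ofStabilizer G α) := by
  classical
  haveI := Fact.mk hp
  haveI := Fintype.ofFinite Ω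
  let f : G →* Equiv.Perm Ω := MulAction.toPermHom G Ω
  have hf : Function.Injective f := MulAction.toPerm_injective
  let φ : G ≃* f.range := MonoidHom.ofInjective hf
  haveI : MulAction.IsPretransitive f.range Ω := ⟨fun x y => by
    obtain ⟨g, hg⟩ := htrans.exists_smul_eq x y
    exact ⟨⟨f g, ⟨g, rfl⟩⟩, hg⟩⟩
  have hα : Fintype.card Ω = p := by rw [← Nat.card_eq_fintype_card, hΩ]
  have hins' : ¬ Group.IsSolvable f.range := fun h => by
    haveI := h
    exact hins (Group.isSolvable_of_isSolvable_injective (f := φ.toMonoidHom) φ.injective)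
  set Q : Sylow p f.range := P.mapSurjective (show Function.Surjective φ.toMonoidHom from φ.surjective)
  have hN' : 2 * Nat.card ↥(Subgroup.normalizer ((Q : Subgroup f.range) : Set f.range)) = p * (p - 1) := by
    rw [Sylow.coe_mapSurjective, ← Subgroup.map_equiv_normalizer_eq (P : Subgroup G) φ,
      Subgroup.card_map_of_injective (f := φ.toMonoidHom) (show Function.Injective φ.toMonoidHom from φ.injective), hN]
  have hpo : p % 2 = 1 := hp.eq_two_or_odd.resolve_left (by omega)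
  -- double transitivity
  have h2' := Cfsg.Agent.PermGp.two_transitive_of_not_solvable hα f.range hins'
  have h2 : ∀ {u v u' v' : Ω}, u ≠ v → u' ≠ v' → ∃ g : G, g • u = u' ∧ g • v = v' := by
    intro u v u' v' h h'
    obtain ⟨⟨_, g, rfl⟩, g1, g2⟩ := MulAction.is_two_pretransitive_iff.mp h2' h h'
    exact ⟨g, g1, g2⟩
  haveI : MulAction.IsPretransitive G Ω := htrans
  by_cases hp4 : p % 4 = 1
  · -- triply transitive
    have heven : Even (Nat.card ↥(Subgroup.normalizer ((Q : Subgroup f.range) : Set f.range))) := by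
      obtain ⟨k, hk⟩ : ∃ k, p = 4 * k + 1 := ⟨p / 4, by omega⟩
      have h' : p - 1 = 2 * (2 * k) := by omega
      rw [h', mul_left_comm] at hN'
      rw [mul_left_cancel₀ (two_ne_zero) hN']
      exact even_iff_two_dvd.mpr ⟨p * k, by ring⟩
    have h3' := Cfsg.Agent.S0676.result hα f.range hins' Q heven
    haveI h3 : MulAction.IsMultiplyPretransitive G Ω 3 := ⟨fun x y => by
      obtain ⟨⟨_, g, rfl⟩, hg⟩ := h3'.exists_smul_eq x y
      exact ⟨g, Function.Embedding.ext fun i => congrArg (fun z : Fin 3 ↪ Ω => z i) hg⟩⟩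
    haveI : MulAction.IsMultiplyPretransitive ↥(MulAction.stabilizer G α)
        ↥(SubMulAction.ofStabilizer G α) 2 :=
      (SubMulAction.ofStabilizer.isMultiplyPretransitive).mp h3
    exact MulAction.isPreprimitive_of_is_two_pretransitive this
  have hp3 : p % 4 = 3 := by omega
  haveI : MulAction.IsPretransitive ↥(MulAction.stabilizer G α) ↥(SubMulAction.ofStabilizer G α) := by
    refine ⟨fun ⟨u, hu⟩ ⟨v, hv⟩ => ?_⟩
    obtain ⟨g, g1, g2⟩ := h2 (Ne.symm hu : α ≠ u) (Ne.symm hv : α ≠ v)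
    exact ⟨⟨g, g1⟩, Subtype.ext g2⟩
  refine ⟨fun {B} hB => ?_⟩
  by_contra htriv
  simp only [MulAction.IsTrivialBlock, not_or, Set.not_subsingleton_iff] at htriv
  obtain ⟨hBn, hBu⟩ := htriv
  set D : Set Ω := Subtype.val '' B with hD
  set n := Nat.card D with hn
  have hDα : ∀ u ∈ D, u ≠ α := by rintro _ ⟨u, -, rfl⟩; exact u.2
  have hblk : ∀ m : G, m • α = α → ∀ u ∈ D, m • u ∈ D → ∀ v ∈ D, m • v ∈ D := by
    rintro m hm _ ⟨u, hu, rfl⟩ ⟨u', hu', e⟩ _ ⟨v, hv, rfl⟩
    let m' : ↥(MulAction.stabilizer G α) := ⟨m, hm⟩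
    have hmu : m' • u = u' := Subtype.ext e.symm
    rcases MulAction.isBlock_iff_smul_eq_or_disjoint.mp hB m' with h | h
    · exact ⟨m' • v, h ▸ Set.smul_mem_smul_set hv, rfl⟩
    · exact absurd hu' (Set.disjoint_left.mp h (hmu ▸ Set.smul_mem_smul_set hu))
  have hn1 : 1 < n := by
    obtain ⟨u, hu, v, hv, huv⟩ := hBn
    rw [hn, Finite.one_lt_card_iff_nontrivial]
    exact ⟨⟨u.1, u, hu, rfl⟩, ⟨v.1, v, hv, rfl⟩, fun e => huv (Subtype.ext (congrArg (fun z : ↥D => z.1) e))⟩
  have hnp : n < p - 1 := by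
    obtain ⟨u, hu⟩ := (Set.ne_univ_iff_exists_notMem B).mp hBu
    rw [hn, Nat.card_coe_set_eq]
    have hsub : D ⊆ (({α, u.1} : Set Ω))ᶜ := by
      rintro _ ⟨v, hv, rfl⟩ (h | h)
      · exact v.2 h
      · exact hu (Subtype.ext h ▸ hv)
    have := Set.ncard_le_ncard hsub
    rw [Set.ncard_compl, Set.ncard_pair (Ne.symm (u.2 : u.1 ≠ α)), hΩ] at this
    omega
  -- lines
  let R : Ω → Ω → Ω → Prop := fun a b c => a ≠ b ∧ a ≠ c ∧ b ≠ c ∧
    ∃ g : G, g • α = a ∧ g⁻¹ • b ∈ D ∧ g⁻¹ • c ∈ D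
  have Rg : ∀ (k : G) {a b c}, R a b c → R (k • a) (k • b) (k • c) := by
    rintro k a b c ⟨h1, h2, h3, g, g1, g2, g3⟩
    exact ⟨fun e => h1 (MulAction.injective k e), fun e => h2 (MulAction.injective k e),
      fun e => h3 (MulAction.injective k e), k * g, by rw [mul_smul, g1],
      by simpa [mul_smul] using g2, by simpa [mul_smul] using g3⟩
  have R23 : ∀ {a b c}, R a b c → R a c b := fun ⟨h1, h2, h3, g, g1, g2, g3⟩ =>
    ⟨h2, h1, h3.symm, g, g1, g3, g2⟩
  have hmove : ∀ {g g' : G} {a u v : Ω}, g • α = a → g' • α = a → g⁻¹ • u ∈ D → g'⁻¹ • u ∈ D →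
      g'⁻¹ • v ∈ D → g⁻¹ • v ∈ D := by
    intro g g' a u v h h' hu hu' hv
    have := hblk (g⁻¹ * g') (by rw [mul_smul, h', inv_smul_eq_iff, h]) _ hu'
      (by rwa [mul_smul, smul_inv_smul]) _ hv
    rwa [mul_smul, smul_inv_smul] at this
  have Rtr : ∀ {a b c d}, R a b c → R a b d → c ≠ d → R a c d := by
    rintro a b c d ⟨_, h2, _, g, g1, g2, g3⟩ ⟨_, h2', _, g', g1', g2', g3'⟩ hcd
    exact ⟨h2, h2', hcd, g, g1, g3, hmove g1 g1' g2 g2' g3'⟩
  obtain ⟨β, hβ⟩ : ∃ β, β ∈ D := by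
    obtain ⟨u, hu, -⟩ := hBn
    exact ⟨u.1, u, hu, rfl⟩
  have hcard : ∀ a b, a ≠ b → Nat.card {c // R a b c} = n - 1 := by
    intro a b hab
    obtain ⟨g, g1, g2⟩ := h2 (hDα β hβ).symm hab
    have hset : {c | R a b c} = (fun u => g • u) '' (D \ {β}) := by
      ext c
      constructor
      · rintro ⟨-, -, hbc, g', g1', g2', g3'⟩
        have hgb : g⁻¹ • b = β := inv_smul_eq_iff.mpr g2.symm
        refine ⟨g⁻¹ • c, ⟨hmove g1 g1' (hgb ▸ hβ) g2' g3', fun e => hbc ?_⟩, smul_inv_smul g c⟩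
        exact (MulAction.injective g⁻¹ ((Set.mem_singleton_iff.mp e).trans hgb.symm)).symm
      · rintro ⟨u, ⟨hu, hne⟩, rfl⟩
        refine ⟨hab, fun e => hDα u hu (MulAction.injective g (e.symm.trans g1.symm)), fun e =>
          hne (MulAction.injective g (e.symm.trans g2.symm)), g, g1, ?_, by simpa using hu⟩
        rw [← g2, inv_smul_smul]; exact hβ
    show Nat.card ↥{c | R a b c} = _
    rw [hset, Nat.card_coe_set_eq, Set.ncard_image_of_injective _ (MulAction.injective g),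
      Set.ncard_sdiff (Set.singleton_subset_iff.mpr hβ), Set.ncard_singleton, hn, Nat.card_coe_set_eq]
  -- two point stabilisers have at most two orbits on the other points
  have bound : ∀ a b : Ω, a ≠ b → ∀ y : Fin 3 → Ω, (∀ i, y i ≠ a ∧ y i ≠ b) →
      ∃ i j, i ≠ j ∧ ∃ g : G, g • a = a ∧ g • b = b ∧ g • y i = y j := by
    intro a b hab y hy
    by_contra hcon
    refine Cfsg.Agent.PrimeDegreePairs.orbit_bound hα f.range hins' _ hN' hab y hy ?_
    rintro i j hij ⟨_, g, rfl⟩ h1 h2 h3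
    exact hcon ⟨i, j, hij, g, h1, h2, h3⟩
  -- the number of points off a line
  have hoff : ∀ a b, a ≠ b → ({c | c ≠ a ∧ c ≠ b ∧ ¬ R a b c} : Set Ω).ncard = p - 1 - n := by
    intro a b hab
    have : ({c | c ≠ a ∧ c ≠ b ∧ ¬ R a b c} : Set Ω) = ((insert a (insert b {c | R a b c})) : Set Ω)ᶜ := by
      ext c; simp [and_assoc, not_or]
    rw [this, Set.ncard_compl, Set.ncard_insert_of_notMem, Set.ncard_insert_of_notMem,
      ← Nat.card_coe_set_eq]
    · show Nat.card Ω - (Nat.card {c // R a b c} + 1 + 1) = _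
      rw [hcard a b hab, hΩ]; omega
    · exact fun h => h.2.2.1 rfl
    · rintro (h | h)
      · exact hab h
      · exact h.2.1 rfl
  have orb : ∀ {a b c d}, a ≠ b → c ≠ a → c ≠ b → d ≠ a → d ≠ b → (R a b c ↔ R a b d) →
      ∃ g : G, g • a = a ∧ g • b = b ∧ g • c = d := by
    intro a b c d hab hca hcb hda hdb hcd
    by_contra hcon
    obtain ⟨w, hwa, hwb, hw⟩ : ∃ w, w ≠ a ∧ w ≠ b ∧ ¬ (R a b w ↔ R a b c) := by
      by_cases hc : R a b c
      · obtain ⟨w, h1, h2, h3⟩ := Set.nonempty_of_ncard_ne_zero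
          (s := {c | c ≠ a ∧ c ≠ b ∧ ¬ R a b c}) (by rw [hoff a b hab]; omega)
        exact ⟨w, h1, h2, fun h => h3 (h.mpr hc)⟩
      · have : 0 < Nat.card {c // R a b c} := by rw [hcard a b hab]; omega
        obtain ⟨⟨w, hw⟩⟩ := (Nat.card_pos_iff.mp this).1
        exact ⟨w, hw.2.1.symm, hw.2.2.1.symm, fun h => hc (h.mp hw)⟩
    obtain ⟨i, j, hij, g, g1, g2, g3⟩ := bound a b hab ![c, d, w] (by
      intro i; fin_cases i <;> simp [*])
    have inv : ∀ {u v}, g • u = v → (R a b u ↔ R a b v) := by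
      intro u v e
      constructor
      · intro h; have := Rg g h; rwa [g1, g2, e] at this
      · intro h; have := Rg g⁻¹ h
        rwa [inv_smul_eq_iff.mpr g1.symm, inv_smul_eq_iff.mpr g2.symm, inv_smul_eq_iff.mpr e.symm] at this
    fin_cases i <;> fin_cases j
    · exact hij rfl
    · exact hcon ⟨g, g1, g2, g3⟩
    · exact hw (inv g3).symm
    · exact hcon ⟨g⁻¹, inv_smul_eq_iff.mpr g1.symm, inv_smul_eq_iff.mpr g2.symm,
        inv_smul_eq_iff.mpr g3.symm⟩
    · exact hij rfl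
    · exact hw ((inv g3).symm.trans hcd.symm)
    · exact hw (inv g3)
    · exact hw ((inv g3).trans hcd.symm)
    · exact hij rfl
  have R12 : ∀ {a b c}, R a b c → R b a c := by
    intro a b c h
    by_contra hno
    have hab := h.1
    obtain ⟨t, t1, t2⟩ := h2 hab hab.symm
    -- the line through `b, a` misses the line through `a, b`
    have hdisj : ∀ d, R b a d → ¬ R a b d := by
      intro d hd had
      obtain ⟨g, g1, g2, g3⟩ := orb hab had.2.1.symm had.2.2.1.symm h.2.1.symm h.2.2.1.symm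
        (iff_of_true had h)
      have := Rg g hd
      rw [g1, g2, g3] at this
      exact hno this
    have hsub : {d | d ≠ a ∧ d ≠ b ∧ ¬ R a b d} ⊆ {d | R b a d} := by
      rintro d ⟨hda, hdb, hd⟩
      have ht : R b a (t • c) := by have := Rg t h; rwa [t1, t2] at this
      obtain ⟨g, g1, g2, g3⟩ := orb hab ht.2.2.1.symm ht.2.1.symm hda hdb
        (iff_of_false (hdisj _ ht) hd)
      have := Rg g ht
      rwa [g1, g2, g3] at this
    have hsub' : {d | R b a d} ⊆ {d | d ≠ a ∧ d ≠ b ∧ ¬ R a b d} := fun d hd =>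
      ⟨hd.2.2.1.symm, hd.2.1.symm, hdisj d hd⟩
    have e := congrArg Set.ncard (Set.Subset.antisymm hsub hsub')
    rw [hoff a b hab, ← Nat.card_coe_set_eq] at e
    change p - 1 - n = Nat.card {d // R b a d} at e
    rw [hcard b a hab.symm] at e
    omega
  -- coordinates
  obtain ⟨x, e, hP, hx⟩ := Cfsg.Agent.PermGp.exists_frame hα f.range Q
  have hadd : ∀ t : ZMod p, ∃ g : G, ∀ i, g • e i = e (i + t) := by
    intro t
    obtain ⟨g, hg⟩ := φ.surjective (x ^ (t.val : ℤ))
    refine ⟨g, fun i => ?_⟩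
    have h := Cfsg.Agent.PermGp.frame_pow f.range hx (t.val : ℤ) i
    rw [Int.cast_natCast, ZMod.natCast_zmod_val, ← hg] at h
    exact h
  have hmul : ∀ s : ZMod p, s ≠ 0 → IsSquare s → ∃ g : G, ∀ i, g • e i = e (s * i) := by
    rintro s hs ⟨r, rfl⟩
    obtain ⟨⟨_, g, rfl⟩, hg⟩ := Cfsg.Agent.PrimeDegreePairs.squares_induced hα f.range hP hx hN' r
      (fun h => hs (by simp [h]))
    exact ⟨g, fun i => by rw [← pow_two]; exact hg i⟩
  have L : Cfsg.Agent.PrimeDegreePairs.LineSys (fun i j k => R (e i) (e j) (e k)) := by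
    refine ⟨fun h => ⟨fun h' => h.1 (by rw [h']), fun h' => h.2.1 (by rw [h']),
      fun h' => h.2.2.1 (by rw [h'])⟩, R12, R23, fun h h' hne => Rtr h h' (fun q => hne (e.injective q)),
      ?_, ?_, ?_⟩
    · intro a b c t h
      obtain ⟨g, hg⟩ := hadd t
      simpa [hg] using Rg g h
    · intro a b c s hs hs' h
      obtain ⟨g, hg⟩ := hmul s hs hs'
      simpa [hg] using Rg g h
    · intro k m k0 k1 hk m0 m1 hm
      obtain ⟨g, g1, g2, g3⟩ := orb (a := e 0) (b := e 1) (fun q => zero_ne_one (e.injective q))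
        (fun q => k0 (e.injective q)) (fun q => k1 (e.injective q))
        (fun q => m0 (e.injective q)) (fun q => m1 (e.injective q)) (iff_of_false hk hm)
      refine ⟨(e.trans (MulAction.toPerm g)).trans e.symm, fun a b c h => ?_, ?_, ?_, ?_⟩
      · simpa using Rg g h
      · simp [g1]
      · simp [g2]
      · simp [g3]
  refine Cfsg.Agent.PrimeDegreePairs.no_line_system hp3 hp7 L n hn1 hnp fun a b hab => ?_
  rw [← hcard (e a) (e b) (fun q => hab (e.injective q))]
  exact Nat.card_congr (e.subtypeEquiv fun _ => Iff.rfl)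

end Cfsg.Agent.S3612
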