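import Cfsg.Statements.S3613
import Cfsg.Agent.Lib.Recog.PrimeDegreePairs.Twin
import Cfsg.Agent.S3612
import Mathlib.GroupTheory.GroupAction.Blocks
import Mathlib.GroupTheory.GroupAction.MultipleTransitivity

set_option autoImplicit false
open Cfsg
open scoped Pointwise

namespace Cfsg.Agent.S3613

/-- Let G be an insoluble group acting faithfully and transitively on a finite set of prime size p, and suppose the normalizer of a Sylow p-subgroup of G has order p(p-1)/2. If p = q + 2 for a prime q > 5, then G is 5-fold transitive. -/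
theorem result {G Ω : Type*} [Group G] [Finite G] [MulAction G Ω] [FaithfulSMul G Ω] [Finite Ω]
    (p : ℕ) (hp : p.Prime) (hΩ : Nat.card Ω = p) (htrans : MulAction.IsPretransitive G Ω)
    (hins : ¬ Group.IsSolvable G) (P : Sylow p G)
    (hN : 2 * Nat.card ↥(Subgroup.normalizer ((P : Subgroup G) : Set G)) = p * (p - 1))
    (q : ℕ) (hq : q.Prime) (hq5 : 5 < q) (hpq : p = q + 2) :
    MulAction.IsMultiplyPretransitive G Ω 5 := by
  classical
  haveI := Fact.mk hp
  haveI := Fintype.ofFinite Ω
  let f : G →* Equiv.Perm Ω := MulAction.toPermHom G Ω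
  have hf : Function.Injective f := MulAction.toPerm_injective
  let φ : G ≃* f.range := MonoidHom.ofInjective hf
  haveI : MulAction.IsPretransitive f.range Ω := ⟨fun x y => by
    obtain ⟨g, hg⟩ := htrans.exists_smul_eq x y
    exact ⟨⟨f g, ⟨g, rfl⟩⟩, hg⟩⟩
  have hα : Fintype.card Ω = p := by rw [← Nat.card_eq_fintype_card, hΩ]
  have hins' : ¬ Group.IsSolvable f.range := fun h => by
    haveI := h
    exact hins (Group.isSolvable_of_isSolvable_injective (f := φ.toMonoidHom) φ.injective)
  set Q : Sylow p f.range := P.mapSurjective (show Function.Surjective φ.toMonoidHom from φ.surjective)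
  have hN' : 2 * Nat.card ↥(Subgroup.normalizer ((Q : Subgroup f.range) : Set f.range)) = p * (p - 1) := by
    rw [Sylow.coe_mapSurjective, ← Subgroup.map_equiv_normalizer_eq (P : Subgroup G) φ,
      Subgroup.card_map_of_injective (f := φ.toMonoidHom) (show Function.Injective φ.toMonoidHom from φ.injective), hN]
  obtain ⟨x', e, hP', hx'⟩ := Cfsg.Agent.PermGp.exists_frame hα f.range Q
  have hsmul : ∀ (h : f.range) (v : Ω), (φ.symm h) • v = h • v := fun h v => by
    obtain ⟨g, rfl⟩ := φ.surjective h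
    rw [MulEquiv.symm_apply_apply]; rfl
  have heven : ∀ g : G, Equiv.Perm.sign (MulAction.toPerm g : Equiv.Perm Ω) = 1 := by
    refine Cfsg.Agent.PrimeDegreePairs.sign_eq_one hp (by omega) hα P hN (x := φ.symm x') (e := e) ?_ ?_ ?_
    · have h' : ((Q : Subgroup f.range)).comap φ.toMonoidHom = (P : Subgroup G) := by
        rw [Sylow.coe_mapSurjective, Subgroup.comap_map_eq_self_of_injective (f := φ.toMonoidHom) (show Function.Injective φ.toMonoidHom from φ.injective)]
      rw [← h', hP']
      ext g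
      simp only [Subgroup.mem_comap, Subgroup.mem_zpowers_iff, MulEquiv.toMonoidHom_eq_coe, MonoidHom.coe_coe]
      constructor
      · rintro ⟨k, hk⟩; exact ⟨k, by rw [← map_zpow, hk, MulEquiv.symm_apply_apply]⟩
      · rintro ⟨k, rfl⟩; exact ⟨k, by rw [map_zpow, MulEquiv.apply_symm_apply]⟩
    · intro i; rw [hsmul]; exact hx' i
    · intro r hr
      obtain ⟨h, hh⟩ := Cfsg.Agent.PrimeDegreePairs.squares_induced hα f.range hP' hx' hN' r hr
      exact ⟨φ.symm h, fun i => by rw [hsmul]; exact hh i⟩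
  have h2 : ∀ {u v u' v' : Ω}, u ≠ v → u' ≠ v' → ∃ g : G, g • u = u' ∧ g • v = v' := by
    intro u v u' v' h h'
    obtain ⟨⟨_, g, rfl⟩, g1, g2⟩ := MulAction.is_two_pretransitive_iff.mp
      (Cfsg.Agent.PermGp.two_transitive_of_not_solvable hα f.range hins') h h'
    exact ⟨g, g1, g2⟩
  haveI : MulAction.IsPretransitive G Ω := htrans
  have hpo : p % 2 = 1 := hp.eq_two_or_odd.resolve_left (by omega)
  have h3 : ∀ a b c d : Ω, a ≠ b → c ≠ a → c ≠ b → d ≠ a → d ≠ b →
      ∃ g : G, g • a = a ∧ g • b = b ∧ g • c = d := by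
    intro a b c d hab hca hcb hda hdb
    by_cases hp4 : p % 4 = 1
    · have hev : Even (Nat.card ↥(Subgroup.normalizer ((Q : Subgroup f.range) : Set f.range))) := by
        obtain ⟨k, hk⟩ : ∃ k, p = 4 * k + 1 := ⟨p / 4, by omega⟩
        have h' : p - 1 = 2 * (2 * k) := by omega
        rw [h', mul_left_comm] at hN'
        rw [mul_left_cancel₀ (two_ne_zero) hN']
        exact even_iff_two_dvd.mpr ⟨p * k, by ring⟩
      have inj : ∀ {r : Ω}, r ≠ a → r ≠ b → Function.Injective ![a, b, r] := by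
        intro r e0 e1 i j h
        fin_cases i <;> fin_cases j <;> first
          | rfl
          | exact (hab h).elim
          | exact (hab h.symm).elim
          | exact (e0 h).elim
          | exact (e0 h.symm).elim
          | exact (e1 h).elim
          | exact (e1 h.symm).elim
      obtain ⟨⟨_, g, rfl⟩, hg⟩ := (Cfsg.Agent.S0676.result hα f.range hins' Q hev).exists_smul_eq
        ⟨![a, b, c], inj hca hcb⟩ ⟨![a, b, d], inj hda hdb⟩
      have hh : ∀ i, g • (![a, b, c] i) = ![a, b, d] i := fun i => congrArg (fun z : Fin 3 ↪ Ω => z i) hg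
      exact ⟨g, hh 0, hh 1, hh 2⟩
    · have bound : ∀ y : Fin 3 → Ω, (∀ i, y i ≠ a ∧ y i ≠ b) →
          ∃ i j, i ≠ j ∧ ∃ g : G, g • a = a ∧ g • b = b ∧ g • y i = y j := by
        intro y hy
        by_contra hcon
        refine Cfsg.Agent.PrimeDegreePairs.orbit_bound hα f.range hins' _ hN' hab y hy ?_
        rintro i j hij ⟨_, g, rfl⟩ g1 g2 g3
        exact hcon ⟨i, j, hij, g, g1, g2, g3⟩
      refine Cfsg.Agent.PrimeDegreePairs.one_orbit_of_coprime hab (fun u hu => h2 hab (Ne.symm hu))
        ?_ bound (by rw [hα, hpq, Nat.add_sub_cancel]; exact hq) (by omega) c d hca hcb hda hdb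
      intro B haB hB2 hB u hu
      haveI := Cfsg.Agent.S3612.result p hp hΩ htrans hins P hN (by omega) a
      let B' : Set ↥(SubMulAction.ofStabilizer G a) := {z | z.1 ∈ B}
      have hblk : MulAction.IsBlock ↥(MulAction.stabilizer G a) B' := by
        rw [MulAction.isBlock_iff_smul_eq_or_disjoint]
        intro m
        by_cases hd : Disjoint (m • B') B'
        · exact Or.inr hd
        left
        obtain ⟨w, hw, hwB⟩ := Set.not_disjoint_iff.mp hd
        obtain ⟨y, hy, rfl⟩ := hw
        ext z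
        constructor
        · rintro ⟨y', hy', rfl⟩
          exact hB m.1 m.2 _ hy hwB _ hy'
        · intro hz
          refine ⟨m⁻¹ • z, hB (m.1)⁻¹ (inv_smul_eq_iff.mpr (m.2 : m.1 • a = a).symm) _ hwB ?_ _ hz, smul_inv_smul m z⟩
          rw [show ((m • y : ↥(SubMulAction.ofStabilizer G a)) : Ω) = m.1 • (y : Ω) from rfl, inv_smul_smul]
          exact hy
      rcases MulAction.IsPreprimitive.isTrivialBlock_of_isBlock hblk with ht | ht
      · exfalso
        obtain ⟨v, hv, w, hw, hvw⟩ := Set.one_lt_ncard_iff_nontrivial.mp (by omega : 1 < B.ncard)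
        exact hvw (congrArg Subtype.val (@ht ⟨v, fun e => haB ((Set.mem_singleton_iff.mp e) ▸ hv)⟩ hv
          ⟨w, fun e => haB ((Set.mem_singleton_iff.mp e) ▸ hw)⟩ hw))
      · exact (Set.eq_univ_iff_forall.mp ht ⟨u, hu⟩ : _)
  refine ⟨fun x y => ?_⟩
  have hx : ∀ i j, i ≠ j → x i ≠ x j := fun i j h e => h (x.injective e)
  have hy : ∀ i j, i ≠ j → y i ≠ y j := fun i j h e => h (y.injective e)
  obtain ⟨g, g0, g1⟩ := h2 (hx 0 1 (by decide)) (hy 0 1 (by decide))
  let xr : Fin 3 ↪ Ω := ⟨fun i => g • x ((Fin.natAdd 2) i), fun i j h =>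
    Fin.ext (by simpa using congrArg Fin.val (x.injective (MulAction.injective g h)))⟩
  let yr : Fin 3 ↪ Ω := ⟨fun i => y ((Fin.natAdd 2) i), fun i j h =>
    Fin.ext (by simpa using congrArg Fin.val (y.injective h))⟩
  have n0 : ∀ i : Fin 3, Fin.natAdd 2 i ≠ (0 : Fin 5) ∧ Fin.natAdd 2 i ≠ (1 : Fin 5) := by decide
  obtain ⟨k, k0, k1, kr⟩ := Cfsg.Agent.PrimeDegreePairs.five_of_three hp hq hq5 hpq hα heven P hN htrans
    (fun h h' => h2 h h') h3 (y 0) (y 1) (hy 0 1 (by decide)) xr yr
    (fun i => ⟨fun e => hx _ _ (n0 i).1 (MulAction.injective g (e.trans g0.symm)),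
      fun e => hx _ _ (n0 i).2 (MulAction.injective g (e.trans g1.symm))⟩)
    (fun i => ⟨hy _ _ (n0 i).1, hy _ _ (n0 i).2⟩)
  refine ⟨k * g, Function.Embedding.ext fun i => ?_⟩
  show (k * g) • x i = y i
  rw [mul_smul]
  fin_cases i
  · exact (congrArg (fun v => k • v) g0).trans k0
  · exact (congrArg (fun v => k • v) g1).trans k1
  · exact kr 0
  · exact kr 1
  · exact kr 2

end Cfsg.Agent.S3613
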