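import Cfsg.Statements.S3614
import Cfsg.Agent.Lib.Recog.PrimeDegreePairs.Twin
import Cfsg.Agent.Lib.Recog.PrimeDegreePairs.AltCycle
import Cfsg.Agent.S3613
import Mathlib.GroupTheory.SpecificGroups.Alternating

set_option autoImplicit false
open Cfsg

namespace Cfsg.Agent.S3614

/-- Let G be an insoluble group acting faithfully and transitively on a finite set of prime size p, and suppose the normalizer of a Sylow p-subgroup of G has order p(p-1)/2. If p = q + 2 = 2r + 3 > 9 or p = q + 2 = 3r + 4 > 13 with q and r prime, then G is isomorphic to the alternating group of degree p. -/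
theorem result {G Ω : Type*} [Group G] [Finite G] [MulAction G Ω] [FaithfulSMul G Ω] [Finite Ω]
    (p : ℕ) (hp : p.Prime) (hΩ : Nat.card Ω = p) (htrans : MulAction.IsPretransitive G Ω)
    (hins : ¬ Group.IsSolvable G) (P : Sylow p G)
    (hN : 2 * Nat.card ↥(Subgroup.normalizer ((P : Subgroup G) : Set G)) = p * (p - 1))
    (q r : ℕ) (hq : q.Prime) (hr : r.Prime)
    (hcases : (p = q + 2 ∧ p = 2 * r + 3 ∧ 9 < p) ∨ (p = q + 2 ∧ p = 3 * r + 4 ∧ 13 < p)) :
    Nonempty (G ≃* alternatingGroup (Fin p)) := by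
  classical
  haveI := Fact.mk hp
  haveI := Fintype.ofFinite Ω
  let f : G →* Equiv.Perm Ω := MulAction.toPermHom G Ω
  have hf : Function.Injective f := MulAction.toPerm_injective
  let φ : G ≃* f.range := MonoidHom.ofInjective hf
  haveI : MulAction.IsPretransitive f.range Ω := ⟨fun x y => by
    obtain ⟨g, hg⟩ := htrans.exists_smul_eq x y
    exact ⟨⟨f g, ⟨g, rfl⟩⟩, hg⟩⟩
  have hα : Fintype.card Ω = p := by rw [← Nat.card_eq_fintype_card, hΩ]
  have hins' : ¬ Group.IsSolvable f.range := fun h => by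
    haveI := h
    exact hins (Group.isSolvable_of_isSolvable_injective (f := φ.toMonoidHom) φ.injective)
  set Q : Sylow p f.range := P.mapSurjective (show Function.Surjective φ.toMonoidHom from φ.surjective)
  have hN' : 2 * Nat.card ↥(Subgroup.normalizer ((Q : Subgroup f.range) : Set f.range)) = p * (p - 1) := by
    rw [Sylow.coe_mapSurjective, ← Subgroup.map_equiv_normalizer_eq (P : Subgroup G) φ,
      Subgroup.card_map_of_injective (f := φ.toMonoidHom) (show Function.Injective φ.toMonoidHom from φ.injective), hN]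
  obtain ⟨x', e, hP', hx'⟩ := Cfsg.Agent.PermGp.exists_frame hα f.range Q
  have hsmul : ∀ (h : f.range) (v : Ω), (φ.symm h) • v = h • v := fun h v => by
    obtain ⟨g, rfl⟩ := φ.surjective h
    rw [MulEquiv.symm_apply_apply]; rfl
  have heven : ∀ g : G, Equiv.Perm.sign (MulAction.toPerm g : Equiv.Perm Ω) = 1 := by
    refine Cfsg.Agent.PrimeDegreePairs.sign_eq_one hp (by omega) hα P hN (x := φ.symm x') (e := e) ?_ ?_ ?_
    · have h' : ((Q : Subgroup f.range)).comap φ.toMonoidHom = (P : Subgroup G) := by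
        rw [Sylow.coe_mapSurjective, Subgroup.comap_map_eq_self_of_injective (f := φ.toMonoidHom) (show Function.Injective φ.toMonoidHom from φ.injective)]
      rw [← h', hP']
      ext g
      simp only [Subgroup.mem_comap, Subgroup.mem_zpowers_iff, MulEquiv.toMonoidHom_eq_coe, MonoidHom.coe_coe]
      constructor
      · rintro ⟨k, hk⟩; exact ⟨k, by rw [← map_zpow, hk, MulEquiv.symm_apply_apply]⟩
      · rintro ⟨k, rfl⟩; exact ⟨k, by rw [map_zpow, MulEquiv.apply_symm_apply]⟩
    · intro i; rw [hsmul]; exact hx' i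
    · intro r hr
      obtain ⟨h, hh⟩ := Cfsg.Agent.PrimeDegreePairs.squares_induced hα f.range hP' hx' hN' r hr
      exact ⟨φ.symm h, fun i => by rw [hsmul]; exact hh i⟩
  have hp9 : 7 < p := by omega
  haveI h5 : MulAction.IsMultiplyPretransitive G Ω 5 :=
    Cfsg.Agent.S3613.result p hp hΩ htrans hins P hN q hq (by omega) (by omega)
  haveI h5' : MulAction.IsMultiplyPretransitive f.range Ω 5 := ⟨fun x y => by
    obtain ⟨g, hg⟩ := h5.exists_smul_eq x y
    exact ⟨⟨f g, g, rfl⟩, hg⟩⟩
  haveI : MulAction.IsPreprimitive f.range Ω :=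
    MulAction.IsPreprimitive.of_prime_card (by rw [hΩ]; exact hp)
  obtain ⟨c, k, r', hck, hr', hr5, hdeg⟩ : ∃ c k r' : ℕ, ((c = 2 ∧ k = 3) ∨ (c = 3 ∧ k = 4)) ∧
      r'.Prime ∧ 5 ≤ r' ∧ Fintype.card Ω = c * r' + k := by
    rcases hcases with ⟨-, h, h'⟩ | ⟨-, h, h'⟩
    · refine ⟨2, 3, r, Or.inl ⟨rfl, rfl⟩, hr, ?_, by omega⟩
      by_contra hr4
      have : r = 4 := by omega
      rw [this] at hr; norm_num at hr
    · refine ⟨3, 4, r, Or.inr ⟨rfl, rfl⟩, hr, ?_, by omega⟩
      by_contra hr4
      have : r = 4 := by omega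
      rw [this] at hr; norm_num at hr
  have hle := Cfsg.Agent.PrimeDegreePairs.alternating_le_of_degree f.range hck hr' hr5 hdeg
  have heq : f.range = alternatingGroup Ω := le_antisymm (by
    rintro _ ⟨g, rfl⟩
    exact Equiv.Perm.mem_alternatingGroup.mpr (heven g)) hle
  refine ⟨φ.trans ((MulEquiv.subgroupCongr heq).trans
    (Equiv.altCongrHom (Fintype.equivFinOfCardEq hα)))⟩

end Cfsg.Agent.S3614
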