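import Cfsg.Statements.S3616
import Cfsg.Agent.Lib.Recog.PrimeDegreePairs.Bound
import Cfsg.Agent.Lib.Recog.PrimeDegreePairs.Dihedral
import Cfsg.Agent.Lib.Recog.PrimeDegreePairs.Design
import Cfsg.Agent.Lib.Recog.PrimeDegreePairs.Moebius
import Cfsg.Agent.Lib.Recog.SquarePlusOne.Dichotomy
import Cfsg.Agent.S0676
import Mathlib.GroupTheory.GroupAction.MultipleTransitivity
import Mathlib.GroupTheory.Perm.Cycle.Type

set_option autoImplicit false
open Cfsg

namespace Cfsg.Agent.S3616

/-- Let p > 7 be prime and let X be a finite group acting faithfully on a set of p + 1 points by even permutations. Suppose X has a proper subgroup isomorphic to PSL(2, p) that acts doubly transitively on the set (such an action is necessarily the natural one on the projective line). Then X is 4-fold transitive. -/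
theorem result {X Ω : Type*} [Group X] [Finite X] [MulAction X Ω] [FaithfulSMul X Ω] [Fintype Ω] [DecidableEq Ω]
    (p : ℕ) (hp : p.Prime) (hp7 : 7 < p) (hΩ : Fintype.card Ω = p + 1)
    (heven : ∀ x : X, Equiv.Perm.sign (MulAction.toPerm x : Equiv.Perm Ω) = 1)
    (L : Subgroup X) (hL : Nonempty (↥L ≃* Matrix.ProjectiveSpecialLinearGroup (Fin 2) (ZMod p)))
    (hLt : MulAction.IsMultiplyPretransitive ↥L Ω 2) (hLX : L ≠ ⊤) :
    MulAction.IsMultiplyPretransitive X Ω 4 := by
  classical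
  haveI := Fact.mk hp
  obtain ⟨iso⟩ := hL
  let φ : Matrix.SpecialLinearGroup (Fin 2) (ZMod p) →* ↥L :=
    iso.symm.toMonoidHom.comp (QuotientGroup.mk' (Subgroup.center (Matrix.SpecialLinearGroup (Fin 2) (ZMod p))))
  have hker : ∀ x, φ x = 1 ↔ ((x : Matrix (Fin 2) (Fin 2) (ZMod p)) = 1 ∨
      (x : Matrix (Fin 2) (Fin 2) (ZMod p)) = -1) := by
    intro x
    show iso.symm (QuotientGroup.mk' (Subgroup.center (Matrix.SpecialLinearGroup (Fin 2) (ZMod p))) x) = 1 ↔ _
    rw [MulEquiv.map_eq_one_iff, QuotientGroup.mk'_apply, QuotientGroup.eq_one_iff, Matrix.SpecialLinearGroup.mem_center_iff]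
    simp only [Fintype.card_fin]
    constructor
    · rintro ⟨r, hr, hrx⟩
      rcases sq_eq_one_iff.mp hr with rfl | rfl
      · left; rw [← hrx, map_one]
      · right; rw [← hrx, map_neg, map_one]
    · rintro (h | h)
      · exact ⟨1, one_pow _, by rw [map_one, h]⟩
      · exact ⟨-1, neg_one_sq, by rw [map_neg, map_one, h]⟩
  have hLtr : MulAction.IsPretransitive ↥L Ω := MulAction.isPretransitive_of_is_two_pretransitive
  obtain ⟨o, e, hinj, hrange, hadd, hmul, hw⟩ := Cfsg.Agent.PrimeDegreePairs.moebius_frame (by omega)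
    hΩ hLtr φ (iso.symm.surjective.comp (QuotientGroup.mk'_surjective _)) hker
  have heo : ∀ i, e i ≠ o := fun i => (hrange (e i)).mpr ⟨i, rfl⟩
  let eY : ZMod p ≃ {v : Ω // v ≠ o} := Equiv.ofBijective (fun i => ⟨e i, heo i⟩)
    ⟨fun i j h => hinj (congrArg Subtype.val h), fun v => by
      obtain ⟨i, hi⟩ := (hrange v.1).mp v.2
      exact ⟨i, Subtype.ext hi⟩⟩
  have hfixo : ∀ (g : MulAction.stabilizer X o) (v : Ω), (g : X) • v ≠ o ↔ v ≠ o := fun g v =>
    not_congr ⟨fun h => MulAction.injective (g : X) (h.trans (g.2 : (g : X) • o = o).symm), fun h => h ▸ g.2⟩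
  let act : MulAction.stabilizer X o → ZMod p → ZMod p := fun g i =>
    eY.symm ⟨(g : X) • e i, (hfixo g _).mpr (heo i)⟩
  have hact : ∀ g i, e (act g i) = (g : X) • e i := fun g i =>
    congrArg Subtype.val (eY.apply_symm_apply ⟨(g : X) • e i, (hfixo g _).mpr (heo i)⟩)
  let ψ : MulAction.stabilizer X o →* Equiv.Perm (ZMod p) := MonoidHom.mk'
    (fun g => { toFun := act g, invFun := act g⁻¹,
                left_inv := fun i => hinj (by rw [hact, hact, Subgroup.coe_inv, inv_smul_smul]),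
                right_inv := fun i => hinj (by rw [hact, hact, Subgroup.coe_inv, smul_inv_smul]) })
    fun g g' => Equiv.ext fun i => hinj (by
      show e (act (g * g') i) = e (act g (act g' i))
      rw [hact, hact, hact, Subgroup.coe_mul, mul_smul])
  have hψ : ∀ g i, e (ψ g i) = (g : X) • e i := hact
  have hψinj : Function.Injective ψ := fun g g' h => Subtype.ext (eq_of_smul_eq_smul fun v : Ω => by
    by_cases hv : v = o
    · rw [hv, show (g : X) • o = o from g.2, show (g' : X) • o = o from g'.2]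
    · obtain ⟨i, rfl⟩ := (hrange v).mp hv
      rw [← hψ, ← hψ, h])
  set G := ψ.range with hGdef
  -- translations and squares
  have hT : ∀ t : ZMod p, ∃ g : MulAction.stabilizer X o, (g : X) ∈ L ∧ ∀ i, ψ g i = i + t := by
    intro t
    obtain ⟨⟨g, hgL⟩, g0, g1⟩ := hadd t
    exact ⟨⟨g, g0⟩, hgL, fun i => hinj (by rw [hψ]; exact g1 i)⟩
  have hS : ∀ s : ZMod p, s ≠ 0 → IsSquare s →
      ∃ g : MulAction.stabilizer X o, (g : X) ∈ L ∧ ∀ i, ψ g i = s * i := by
    intro s hs hs'
    obtain ⟨⟨g, hgL⟩, g0, g1⟩ := hmul s hs hs'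
    exact ⟨⟨g, g0⟩, hgL, fun i => hinj (by rw [hψ]; exact g1 i)⟩
  haveI hGt : MulAction.IsPretransitive G (ZMod p) := ⟨fun i j => by
    obtain ⟨g, -, hg⟩ := hT (j - i)
    exact ⟨⟨ψ g, g, rfl⟩, (hg i).trans (add_sub_cancel i j)⟩⟩
  have hcard : Fintype.card (ZMod p) = p := ZMod.card p
  obtain ⟨x₀, -, hx₀⟩ := hT 1
  let x : G := ⟨ψ x₀, x₀, rfl⟩
  have hx : ∀ i, x • (Equiv.refl (ZMod p)) i = (Equiv.refl (ZMod p)) (i + 1) := fun i => hx₀ i
  have hxp : x ^ p = 1 := Cfsg.Agent.PermGp.perm_ext fun i => by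
    have h := Cfsg.Agent.PermGp.frame_pow G hx (p : ℤ) i
    rw [zpow_natCast, Int.cast_natCast, ZMod.natCast_self, add_zero] at h
    rw [one_smul]; exact h
  have hx1 : x ≠ 1 := fun h => one_ne_zero (α := ZMod p) (by
    have := hx 0
    rw [h, one_smul] at this
    simpa using this.symm)
  have hox : orderOf x = p := orderOf_eq_prime hxp hx1
  obtain ⟨P, hPx⟩ : ∃ P : Sylow p G, (P : Subgroup G) = Subgroup.zpowers x := by
    obtain ⟨P, hP⟩ := (IsPGroup.of_card (p := p) (n := 1) (G := Subgroup.zpowers x)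
      (by rw [Nat.card_zpowers, hox, pow_one])).exists_le_sylow
    refine ⟨P, (Subgroup.eq_of_le_of_card_ge hP ?_).symm⟩
    rw [Cfsg.Agent.PermGp.card_sylow hcard G P, Nat.card_zpowers, hox]
  have hins : ¬ Group.IsSolvable G := by
    intro hs
    haveI := hs
    have hn := Cfsg.Agent.SquarePlusOne.normal_sylow_of_solvable hcard G P
    have hsub : ∀ g : MulAction.stabilizer X o, (g : X) ∈ L := by
      intro g
      obtain ⟨k, b, hk0, hkb⟩ := Cfsg.Agent.PermGp.normalizer_affine hcard G hPx hx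
        (g := (⟨ψ g, g, rfl⟩ : G)) (by rw [Subgroup.normalizer_eq_top_iff.mpr hn]; trivial)
      have hg : ∀ i, ψ g i = k * i + b := hkb
      obtain ⟨gb, hgbL, hgb⟩ := hT b
      have hk : ∀ i, ψ (gb⁻¹ * g) i = k * i := fun i => by
        rw [map_mul, map_inv, Equiv.Perm.mul_apply, Equiv.Perm.inv_eq_iff_eq, hgb, hg]
      have hksq : IsSquare k := by
        by_contra hns
        obtain ⟨γ, hγ⟩ := IsCyclic.exists_ofOrder_eq_natCard (α := (ZMod p)ˣ)
        rw [Nat.card_units, Nat.card_zmod] at hγ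
        have hμ : ∀ u : (ZMod p)ˣ, ∃ n : ℕ, γ ^ n = u := fun u => by
          have hu : u ∈ Subgroup.zpowers γ := by
            have : Subgroup.zpowers γ = ⊤ := Subgroup.eq_top_of_card_eq _ (by
              rw [Nat.card_zpowers, hγ, Nat.card_units, Nat.card_zmod])
            rw [this]; trivial
          exact mem_powers_iff_mem_zpowers.mpr hu
        let μ : (ZMod p)ˣ →* Equiv.Perm (ZMod p) :=
          MonoidHom.mk' (fun u => Equiv.mulLeft₀ (u : ZMod p) u.ne_zero) fun u u' => Equiv.ext fun i => by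
            simp [mul_assoc]
        have hcyc : (μ γ).IsCycle := by
          refine ⟨1, fun h => ?_, fun y hy => ?_⟩
          · have : γ = 1 := Units.ext (by simpa [μ] using h)
            rw [this, orderOf_one] at hγ; omega
          · have hy0 : y ≠ 0 := fun e => hy (by simp [μ, e])
            obtain ⟨n, hn⟩ := hμ (Units.mk0 y hy0)
            refine ⟨(n : ℤ), ?_⟩
            rw [zpow_natCast, ← map_pow, hn]
            simp [μ]
        have hsupp : (μ γ).support = {0}ᶜ := by
          ext y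
          rw [Equiv.Perm.mem_support, Finset.mem_compl, Finset.mem_singleton]
          constructor
          · intro h e; exact h (by simp [μ, e])
          · intro hy h
            have : γ = 1 := Units.ext (by
              have h' : (γ : ZMod p) * y = 1 * y := by simpa [μ] using h
              simpa using mul_right_cancel₀ hy h')
            rw [this, orderOf_one] at hγ; omega
        have hsγ : Equiv.Perm.sign (μ γ) = -1 := by
          rw [hcyc.sign, hsupp, Finset.card_compl, Finset.card_singleton, ZMod.card]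
          have : Even (p - 1) := hp.even_sub_one (by omega)
          rw [this.neg_one_pow]
        obtain ⟨n, hn⟩ := hμ (Units.mk0 k hk0)
        have hnodd : Odd n := by
          by_contra he
          obtain ⟨m, hm⟩ := Nat.not_odd_iff_even.mp he
          apply hns
          refine ⟨((γ ^ m : (ZMod p)ˣ) : ZMod p), ?_⟩
          rw [← Units.val_mul, ← pow_add, ← hm, hn]; rfl
        have hψk : ψ (gb⁻¹ * g) = μ (γ ^ n) := Equiv.ext fun i => by rw [hk, hn]; simp [μ]
        have hsψ : Equiv.Perm.sign (ψ (gb⁻¹ * g)) = 1 := by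
          rw [← heven ((gb⁻¹ * g : MulAction.stabilizer X o) : X)]
          set y := gb⁻¹ * g
          symm
          refine (Equiv.Perm.sign_subtypePerm (MulAction.toPerm (y : X)) (p := fun v => v ≠ o)
            (fun v => hfixo y v) (fun v hv e => hv ?_)).symm.trans ?_
          · rw [e]; exact y.2
          · rw [← Equiv.Perm.sign_permCongr eY.symm]
            congr 1
        rw [hψk, map_pow, map_pow, hsγ, hnodd.neg_one_pow] at hsψ
        exact absurd hsψ (by decide)
      obtain ⟨gs, hgsL, hgs⟩ := hS k hk0 hksq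
      have : g = gb * gs := hψinj (Equiv.ext fun i => by rw [map_mul, Equiv.Perm.mul_apply, hgs, hgb, hg])
      rw [this]; exact L.mul_mem hgbL hgsL
    apply hLX
    rw [eq_top_iff]
    intro g _
    obtain ⟨l, hl⟩ := hLtr.exists_smul_eq o (g • o)
    have h := hsub ⟨(l : X)⁻¹ * g, by
      show ((l : X)⁻¹ * g) • o = o
      rw [mul_smul, inv_smul_eq_iff]; exact hl.symm⟩
    simpa using L.mul_mem l.2 h
  -- orbits of a three point stabiliser
  have h2G := Cfsg.Agent.PermGp.two_transitive_of_not_solvable hcard G hins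
  have h2 : ∀ {i j i' j' : ZMod p}, i ≠ j → i' ≠ j' →
      ∃ g : MulAction.stabilizer X o, ψ g i = i' ∧ ψ g j = j' := by
    intro i j i' j' h h'
    obtain ⟨⟨_, g, rfl⟩, g1, g2⟩ := MulAction.is_two_pretransitive_iff.mp h2G h h'
    exact ⟨g, g1, g2⟩
  have hXtr : ∀ a : Ω, ∃ g : X, g • o = a := fun a => by
    obtain ⟨l, hl⟩ := hLtr.exists_smul_eq o a; exact ⟨l, hl⟩
  have h3X : ∀ {a b c : Ω}, a ≠ b → a ≠ c → b ≠ c →
      ∃ g : X, g • o = a ∧ g • e 0 = b ∧ g • e 1 = c := by
    intro a b c hab hac hbc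
    obtain ⟨l, hl⟩ := hXtr a
    obtain ⟨i, hi⟩ := (hrange (l⁻¹ • b)).mp fun h => hab (by rw [← hl, ← h, smul_inv_smul])
    obtain ⟨j, hj⟩ := (hrange (l⁻¹ • c)).mp fun h => hac (by rw [← hl, ← h, smul_inv_smul])
    obtain ⟨g, g1, g2⟩ := h2 (zero_ne_one (α := ZMod p)) (i' := i) (j' := j)
      (fun h => hbc (MulAction.injective l⁻¹ (show l⁻¹ • b = l⁻¹ • c by rw [← hi, ← hj, h])))
    refine ⟨l * g, ?_, ?_, ?_⟩
    · rw [mul_smul, show (g : X) • o = o from g.2, hl]
    · rw [mul_smul, ← hψ, g1, hi, smul_inv_smul]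
    · rw [mul_smul, ← hψ, g2, hj, smul_inv_smul]
  let St : ZMod p → ZMod p → Prop := fun i j =>
    ∃ g : MulAction.stabilizer X o, ψ g 0 = 0 ∧ ψ g 1 = 1 ∧ ψ g i = j
  have hone : ∀ i j : ZMod p, i ≠ 0 → i ≠ 1 → j ≠ 0 → j ≠ 1 → St i j := by
    by_cases hp4 : p % 4 = 1
    · intro i j i0 i1 j0 j1
      have hev : Even (Nat.card ↥(Subgroup.normalizer ((P : Subgroup G) : Set G))) := by
        have hm1 : IsSquare (-1 : ZMod p) := ZMod.exists_sq_eq_neg_one_iff.mpr (by omega)
        obtain ⟨g, -, hg⟩ := hS (-1) (neg_ne_zero.mpr one_ne_zero) hm1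
        let y : G := ⟨ψ g, g, rfl⟩
        have hy2 : y ^ 2 = 1 := Cfsg.Agent.PermGp.perm_ext fun i => by
          rw [one_smul, pow_two, mul_smul]
          show ψ g (ψ g i) = i
          rw [hg, hg]; ring
        have hy1 : y ≠ 1 := fun h => by
          have h' : ψ g 1 = 1 := congrArg (fun z : G => (z : Equiv.Perm (ZMod p)) 1) h
          rw [hg] at h'
          have h2' : ((2 : ℕ) : ZMod p) = 0 := by push_cast; linear_combination -h'
          rw [ZMod.natCast_eq_zero_iff] at h2'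
          have := Nat.le_of_dvd (by norm_num) h2'; omega
        have hyN : y ∈ Subgroup.normalizer ((P : Subgroup G) : Set G) := by
          rw [Subgroup.mem_normalizer_iff_map_conj_eq, hPx, MonoidHom.map_zpowers]
          have hc : MulAut.conj y x = x⁻¹ := by
            refine eq_inv_of_mul_eq_one_left (Cfsg.Agent.PermGp.perm_ext fun i => ?_)
            rw [one_smul, MulAut.conj_apply, mul_smul, mul_smul, mul_smul,
              inv_eq_of_mul_eq_one_right (show y * y = 1 by rw [← pow_two, hy2])]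
            show ψ g (ψ x₀ (ψ g (ψ x₀ i))) = i
            rw [hg, hg, hx₀, hx₀]; ring
          show Subgroup.zpowers (MulAut.conj y x) = _
          rw [hc, Subgroup.zpowers_inv]
        have h := orderOf_dvd_natCard (⟨y, hyN⟩ : ↥(Subgroup.normalizer ((P : Subgroup G) : Set G)))
        rw [← Subgroup.orderOf_coe, orderOf_eq_prime hy2 hy1] at h
        exact even_iff_two_dvd.mpr h
      have inj : ∀ {r : ZMod p}, r ≠ 0 → r ≠ 1 → Function.Injective ![0, 1, r] := by
        intro r e0 e1 u v h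
        fin_cases u <;> fin_cases v <;> first
          | rfl
          | exact (zero_ne_one h).elim
          | exact (zero_ne_one h.symm).elim
          | exact (e0 h).elim
          | exact (e0 h.symm).elim
          | exact (e1 h).elim
          | exact (e1 h.symm).elim
      obtain ⟨⟨_, g, rfl⟩, hg⟩ := (Cfsg.Agent.S0676.result hcard G hins P hev).exists_smul_eq
        ⟨![0, 1, i], inj i0 i1⟩ ⟨![0, 1, j], inj j0 j1⟩
      have hh : ∀ k, ψ g (![0, 1, i] k) = ![0, 1, j] k := fun k => congrArg (fun z : Fin 3 ↪ ZMod p => z k) hg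
      exact ⟨g, hh 0, hh 1, hh 2⟩
    have hp3 : p % 4 = 3 := by
      have := hp.eq_two_or_odd
      omega
    by_contra hcon
    push Not at hcon
    obtain ⟨c₀, d₀, c00, c01, d00, d01, hcd⟩ := hcon
    obtain ⟨⟨wX, hwL⟩, hwo, hw0, hwi⟩ := hw hp3
    have bound : ∀ y : Fin 3 → ZMod p, (∀ i, y i ≠ 0 ∧ y i ≠ 1) → ∃ i j, i ≠ j ∧ St (y i) (y j) := by
      intro y hy
      by_contra hc
      refine Cfsg.Agent.PrimeDegreePairs.orbit_bound_of_squares hcard G hins hx ?_ zero_ne_one y hy ?_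
      · intro s hs
        obtain ⟨g, -, hg⟩ := hS (s ^ 2) (pow_ne_zero _ hs) ⟨s, pow_two s⟩
        exact ⟨⟨ψ g, g, rfl⟩, fun i => hg i⟩
      · rintro i j hij ⟨_, g, rfl⟩ g1 g2 g3
        exact hc ⟨i, j, hij, g, g1, g2, g3⟩
    have Ssymm : ∀ {i j}, St i j → St j i := by
      rintro i j ⟨g, g1, g2, g3⟩
      refine ⟨g⁻¹, ?_, ?_, ?_⟩ <;> rw [map_inv, Equiv.Perm.inv_eq_iff_eq]
      · exact g1.symm
      · exact g2.symm
      · exact g3.symm
    have Strans : ∀ {i j k}, St i j → St j k → St i k := by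
      rintro i j k ⟨g, g1, g2, g3⟩ ⟨g', g1', g2', g3'⟩
      exact ⟨g' * g, by rw [map_mul, Equiv.Perm.mul_apply, g1, g1'],
        by rw [map_mul, Equiv.Perm.mul_apply, g2, g2'], by rw [map_mul, Equiv.Perm.mul_apply, g3, g3']⟩
    have Srefl : ∀ i, St i i := fun i => ⟨1, by simp, by simp, by simp⟩
    have Sne : ∀ {i j}, i ≠ 0 → i ≠ 1 → St i j → j ≠ 0 ∧ j ≠ 1 := by
      rintro i j i0 i1 ⟨g, g1, g2, g3⟩
      exact ⟨fun h => i0 ((ψ g).injective (g3.trans (h.trans g1.symm))),
        fun h => i1 ((ψ g).injective (g3.trans (h.trans g2.symm)))⟩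
    have two : ∀ {i j k}, i ≠ 0 → i ≠ 1 → j ≠ 0 → j ≠ 1 → k ≠ 0 → k ≠ 1 →
        ¬ St i j → St i k ∨ St j k := by
      intro i j k i0 i1 j0 j1 k0 k1 hij
      obtain ⟨u, v, huv, hs⟩ := bound ![i, j, k] (by intro u; fin_cases u <;> simp [*])
      fin_cases u <;> fin_cases v
      · exact absurd rfl huv
      · exact absurd hs hij
      · exact Or.inl hs
      · exact absurd (Ssymm hs) hij
      · exact absurd rfl huv
      · exact Or.inr hs
      · exact Or.inl (Ssymm hs)
      · exact Or.inr (Ssymm hs)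
      · exact absurd rfl huv
    -- the quadruples attached to an orbit
    let Q : ZMod p → Ω → Ω → Ω → Ω → Prop := fun c a b u v =>
      ∃ g : X, g • o = a ∧ g • e 0 = b ∧ g • e 1 = u ∧ ∃ k, St c k ∧ g • e k = v
    have Qg : ∀ {c a b u v} (h : X), Q c a b u v → Q c (h • a) (h • b) (h • u) (h • v) := by
      rintro c a b u v h ⟨g, g1, g2, g3, k, hk, g4⟩
      exact ⟨h * g, by rw [mul_smul, g1], by rw [mul_smul, g2], by rw [mul_smul, g3], k, hk, by rw [mul_smul, g4]⟩
    have Qne : ∀ {c a b u v}, c ≠ 0 → c ≠ 1 → Q c a b u v →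
        a ≠ b ∧ a ≠ u ∧ b ≠ u ∧ a ≠ v ∧ b ≠ v ∧ u ≠ v := by
      rintro c a b u v c0 c1 ⟨g, rfl, rfl, rfl, k, hk, rfl⟩
      obtain ⟨k0, k1⟩ := Sne c0 c1 hk
      refine ⟨?_, ?_, ?_, ?_, ?_, ?_⟩ <;> intro h <;> have h' := MulAction.injective g h
      · exact heo 0 h'.symm
      · exact heo 1 h'.symm
      · exact zero_ne_one (hinj h')
      · exact heo k h'.symm
      · exact k0 (hinj h').symm
      · exact k1 (hinj h').symm
    -- independence of the chosen mover
    have Qwd : ∀ {c a b u v} {g : X} {k}, g • o = a → g • e 0 = b → g • e 1 = u → g • e k = v →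
        Q c a b u v → St c k := by
      rintro c a b u v g k g1 g2 g3 g4 ⟨g', g1', g2', g3', k', hk', g4'⟩
      have hst : (g⁻¹ * g') • o = o := by rw [mul_smul, g1', ← g1, inv_smul_smul]
      let y : MulAction.stabilizer X o := ⟨g⁻¹ * g', hst⟩
      refine Strans hk' ⟨y, hinj ?_, hinj ?_, hinj ?_⟩ <;> rw [hψ] <;> show (g⁻¹ * g') • _ = _
      · rw [mul_smul, g2', ← g2, inv_smul_smul]
      · rw [mul_smul, g3', ← g3, inv_smul_smul]
      · rw [mul_smul, g4', ← g4, inv_smul_smul]
    let cl : ZMod p → Finset (ZMod p) := fun c => Finset.univ.filter fun k => St c k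
    have clmem : ∀ {c k}, k ∈ cl c ↔ St c k := fun {c k} => by simp [cl]
    have clsplit : ∀ {i j}, i ≠ 0 → i ≠ 1 → j ≠ 0 → j ≠ 1 → ¬ St i j →
        (cl i).card + (cl j).card = p - 2 := by
      intro i j i0 i1 j0 j1 hij
      rw [← Finset.card_union_of_disjoint (Finset.disjoint_left.mpr fun k hk hk' =>
        hij (Strans (clmem.mp hk) (Ssymm (clmem.mp hk')))),
        show cl i ∪ cl j = Finset.univ \ {0, 1} from ?_, Finset.card_sdiff_of_subset (Finset.subset_univ _),
        Finset.card_univ, hcard, Finset.card_pair (zero_ne_one (α := ZMod p))]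
      ext k
      simp only [Finset.mem_union, clmem, Finset.mem_sdiff, Finset.mem_univ, true_and, Finset.mem_insert,
        Finset.mem_singleton, not_or]
      exact ⟨fun h => h.elim (Sne i0 i1) (Sne j0 j1), fun h => two i0 i1 j0 j1 h.1 h.2 hij⟩
    have other : ∀ {c}, c ≠ 0 → c ≠ 1 → ∃ d, d ≠ 0 ∧ d ≠ 1 ∧ ¬ St c d := by
      intro c c0 c1
      by_cases h : St c c₀
      · exact ⟨d₀, d00, d01, fun h' => hcd (Strans (Ssymm h) h')⟩
      · exact ⟨c₀, c00, c01, h⟩
    have sameclass : ∀ {c k l}, c ≠ 0 → c ≠ 1 → k ≠ 0 → k ≠ 1 → l ≠ 0 → l ≠ 1 →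
        ¬ St c k → ¬ St c l → St k l := by
      intro c k l c0 c1 k0 k1 l0 l1 hk hl
      by_contra h
      rcases two k0 k1 l0 l1 c0 c1 h with h' | h'
      · exact hk (Ssymm h')
      · exact hl (Ssymm h')
    have hodd : ∀ {i j}, i ≠ 0 → i ≠ 1 → j ≠ 0 → j ≠ 1 → (cl i).card = (cl j).card → St i j := by
      intro i j i0 i1 j0 j1 h
      by_contra hn
      have := clsplit i0 i1 j0 j1 hn
      omega
    -- a permutation of the first three points keeps the orbits
    let T : Finset Ω := {o, e 0, e 1}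
    have memT : ∀ {v}, v ∈ T ↔ v = o ∨ v = e 0 ∨ v = e 1 := by simp [T]
    have hTg : ∀ (g : MulAction.stabilizer X o), ψ g 0 = 0 → ψ g 1 = 1 → ∀ v ∈ T, (g : X) • v = v := by
      intro g g1 g2 v hv
      rcases memT.mp hv with rfl | rfl | rfl
      · exact g.2
      · rw [← hψ, g1]
      · rw [← hψ, g2]
    have Qperm : ∀ t : X, (∀ v ∈ T, t • v ∈ T) → ∀ k k', k ≠ 0 → k ≠ 1 → t • e k = e k' → St k k' := by
      intro t ht k k' k0 k1 hk
      have himg : T.image (fun v => t • v) = T := Finset.eq_of_subset_of_card_le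
        (fun v hv => by obtain ⟨w, hw', rfl⟩ := Finset.mem_image.mp hv; exact ht w hw')
        (le_of_eq (Finset.card_image_of_injective _ (MulAction.injective t)).symm)
      have ht' : ∀ v ∈ T, t⁻¹ • v ∈ T := fun v hv => by
        obtain ⟨w, hw', rfl⟩ := Finset.mem_image.mp (himg.symm ▸ hv)
        rwa [inv_smul_smul]
      have hout : ∀ {t : X}, (∀ v ∈ T, t⁻¹ • v ∈ T) → ∀ {i i'}, i ≠ 0 → i ≠ 1 → t • e i = e i' → i' ≠ 0 ∧ i' ≠ 1 := by
        intro t ht i i' i0 i1 h
        have : e i' ∉ T := fun hT' => by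
          have := ht _ hT'
          rw [← h, inv_smul_smul, memT] at this
          rcases this with h' | h' | h'
          · exact heo i h'
          · exact i0 (hinj h')
          · exact i1 (hinj h')
        simp only [memT, not_or, hinj.eq_iff] at this
        exact this.2
      have hle : ∀ {t : X}, (∀ v ∈ T, t • v ∈ T) → (∀ v ∈ T, t⁻¹ • v ∈ T) → ∀ {i i'}, i ≠ 0 → i ≠ 1 →
          t • e i = e i' → (cl i).card ≤ (cl i').card := by
        intro t ht ht' i i' i0 i1 hi
        have hm : ∀ b ∈ cl i, ∃ b', t • e b = e b' ∧ b' ∈ cl i' := by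
          intro b hb
          obtain ⟨g, g1, g2, g3⟩ := clmem.mp hb
          have hfix : ∀ v ∈ T, (t * (g : X) * t⁻¹) • v = v := fun v hv => by
            rw [mul_smul, mul_smul, hTg g g1 g2 _ (ht' v hv), smul_inv_smul]
          let y : MulAction.stabilizer X o := ⟨t * (g : X) * t⁻¹, hfix o (memT.mpr (Or.inl rfl))⟩
          refine ⟨ψ y i', ?_, clmem.mpr ⟨y, hinj ?_, hinj ?_, rfl⟩⟩
          · rw [hψ]
            show t • e b = (t * (g : X) * t⁻¹) • e i'
            rw [← hi, mul_smul, mul_smul, inv_smul_smul, ← hψ, g3]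
          · rw [hψ]; exact hfix _ (memT.mpr (Or.inr (Or.inl rfl)))
          · rw [hψ]; exact hfix _ (memT.mpr (Or.inr (Or.inr rfl)))
        choose f hf1 hf2 using hm
        refine Finset.card_le_card_of_injOn (fun b => if hb : b ∈ cl i then f b hb else 0) ?_ ?_
        · intro b hb
          simp only [Finset.mem_coe] at hb ⊢
          rw [dif_pos hb]; exact hf2 b hb
        · intro b hb b' hb' h
          simp only [Finset.mem_coe] at hb hb'
          simp only [dif_pos hb, dif_pos hb'] at h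
          exact hinj (MulAction.injective t ((hf1 b hb).trans ((congrArg e h).trans (hf1 b' hb').symm)))
      obtain ⟨k'0, k'1⟩ := hout ht' k0 k1 hk
      refine hodd k0 k1 k'0 k'1 (le_antisymm (hle ht ht' k0 k1 hk) ?_)
      exact hle ht' (fun v hv => by rw [inv_inv]; exact ht v hv) k'0 k'1 (inv_smul_eq_iff.mpr hk.symm)
    have s12 : ∀ {c a b u v}, c ≠ 0 → c ≠ 1 → Q c a b u v → Q c b a u v := by
      rintro c a b u v c0 c1 ⟨g, g1, g2, g3, k, hk, g4⟩
      obtain ⟨t, t1, t2, t3⟩ := h3X (a := e 0) (b := o) (c := e 1) (heo 0)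
        (fun h => zero_ne_one (hinj h)) (Ne.symm (heo 1))
      have hT' : ∀ v ∈ T, t • v ∈ T := fun v hv => by
        rcases memT.mp hv with rfl | rfl | rfl
        · rw [t1]; exact memT.mpr (Or.inr (Or.inl rfl))
        · rw [t2]; exact memT.mpr (Or.inl rfl)
        · rw [t3]; exact memT.mpr (Or.inr (Or.inr rfl))
      obtain ⟨k0, k1⟩ := Sne c0 c1 hk
      obtain ⟨m, hm⟩ := (hrange (t⁻¹ • e k)).mp fun h => k0 (hinj (by
        rw [inv_smul_eq_iff, t1] at h; exact h))
      have htm : t • e m = e k := by rw [hm, smul_inv_smul]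
      have m0 : m ≠ 0 := fun h => heo k (by rw [← htm, h, t2])
      have m1 : m ≠ 1 := fun h => k1 (hinj (by rw [← htm, h, t3]))
      refine ⟨g * t, by rw [mul_smul, t1, g2], by rw [mul_smul, t2, g1], by rw [mul_smul, t3, g3], m,
        Strans hk (Ssymm (Qperm t hT' m k m0 m1 htm)), by rw [mul_smul, htm, g4]⟩
    have s23 : ∀ {c a b u v}, c ≠ 0 → c ≠ 1 → Q c a b u v → Q c a u b v := by
      rintro c a b u v c0 c1 ⟨g, g1, g2, g3, k, hk, g4⟩
      obtain ⟨t, t1, t2, t3⟩ := h3X (a := o) (b := e 1) (c := e 0) (Ne.symm (heo 1))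
        (Ne.symm (heo 0)) (fun h => zero_ne_one (hinj h).symm)
      have hT' : ∀ v ∈ T, t • v ∈ T := fun v hv => by
        rcases memT.mp hv with rfl | rfl | rfl
        · rw [t1]; exact memT.mpr (Or.inl rfl)
        · rw [t2]; exact memT.mpr (Or.inr (Or.inr rfl))
        · rw [t3]; exact memT.mpr (Or.inr (Or.inl rfl))
      obtain ⟨k0, k1⟩ := Sne c0 c1 hk
      obtain ⟨m, hm⟩ := (hrange (t⁻¹ • e k)).mp fun h => heo k (by
        rw [inv_smul_eq_iff, t1] at h; exact h)
      have htm : t • e m = e k := by rw [hm, smul_inv_smul]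
      have m0 : m ≠ 0 := fun h => k1 (hinj (by rw [← htm, h, t2]))
      have m1 : m ≠ 1 := fun h => k0 (hinj (by rw [← htm, h, t3]))
      refine ⟨g * t, by rw [mul_smul, t1, g1], by rw [mul_smul, t2, g3], by rw [mul_smul, t3, g2], m,
        Strans hk (Ssymm (Qperm t hT' m k m0 m1 htm)), by rw [mul_smul, htm, g4]⟩
    -- movers fixing `o` and `e 0`
    have hmv : ∀ i : ZMod p, ∃ g : MulAction.stabilizer X o, i ≠ 0 → ψ g 0 = 0 ∧ ψ g 1 = i := fun i => by
      by_cases hi : i = 0
      · exact ⟨1, fun h => absurd hi h⟩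
      · obtain ⟨g, g1, g2⟩ := h2 (zero_ne_one (α := ZMod p)) (Ne.symm hi)
        exact ⟨g, fun _ => ⟨g1, g2⟩⟩
    choose mv hmv using hmv
    have hchar : ∀ {c i j}, i ≠ 0 → (Q c o (e 0) (e i) (e j) ↔ (ψ (mv i))⁻¹ j ∈ cl c) := by
      intro c i j hi
      obtain ⟨g1, g2⟩ := hmv i hi
      have e0' : (mv i : X) • e 0 = e 0 := by rw [← hψ, g1]
      have e1' : (mv i : X) • e 1 = e i := by rw [← hψ, g2]
      have ej : (mv i : X) • e ((ψ (mv i))⁻¹ j) = e j := by
        rw [← hψ, ← Equiv.Perm.mul_apply, mul_inv_cancel, Equiv.Perm.one_apply]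
      rw [clmem]
      exact ⟨Qwd (mv i).2 e0' e1' ej, fun h => ⟨(mv i : X), (mv i).2, e0', e1', _, h, ej⟩⟩
    -- the orbital attached to an orbit is self paired
    have s34 : ∀ {c a b u v}, c ≠ 0 → c ≠ 1 → Q c a b u v → Q c a b v u := by
      intro c a b u v c0 c1 hQ
      let X₀ : Finset (ZMod p) := Finset.univ.filter fun i => i ≠ 0
      let R : ZMod p → ZMod p → Prop := fun i j => Q c o (e 0) (e i) (e j)
      have hout : ∀ i ∈ X₀, (X₀.filter fun j => R i j).card = (cl c).card := by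
        intro i hi
        have hi' : i ≠ 0 := (Finset.mem_filter.mp hi).2
        rw [← Finset.card_image_of_injective (cl c) (ψ (mv i)).injective]
        congr 1
        ext j
        simp only [X₀, Finset.mem_filter, Finset.mem_univ, true_and, Finset.mem_image, R, hchar hi']
        constructor
        · rintro ⟨-, h⟩; exact ⟨_, h, by simp⟩
        · rintro ⟨k, hk, rfl⟩
          refine ⟨fun h => (Sne c0 c1 (clmem.mp hk)).1 ((ψ (mv i)).injective (h.trans (hmv i hi').1.symm)), ?_⟩
          simpa using hk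
      have Rg : ∀ (g : MulAction.stabilizer X o), ψ g 0 = 0 → ∀ {i j}, R i j → R (ψ g i) (ψ g j) := by
        intro g g0 i j h
        have := Qg (g : X) h
        rwa [show (g : X) • o = o from g.2, ← hψ, ← hψ, ← hψ, g0] at this
      let I : Finset (ZMod p) := X₀.filter fun i => R i 1
      have hin : ∀ j ∈ X₀, (X₀.filter fun i => R i j).card = I.card := by
        intro j hj
        have hj' : j ≠ 0 := (Finset.mem_filter.mp hj).2
        obtain ⟨g1, g2⟩ := hmv j hj'
        rw [← Finset.card_image_of_injective I (ψ (mv j)).injective]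
        congr 1
        ext i
        simp only [I, X₀, Finset.mem_filter, Finset.mem_univ, true_and, Finset.mem_image]
        constructor
        · rintro ⟨hi, h⟩
          refine ⟨(ψ (mv j))⁻¹ i, ⟨fun h' => hi ?_, ?_⟩, by simp⟩
          · rw [Equiv.Perm.inv_eq_iff_eq] at h'; rw [h', g1]
          · have := Rg (mv j)⁻¹ (by rw [map_inv, Equiv.Perm.inv_eq_iff_eq]; exact g1.symm) h
            rwa [map_inv, show (ψ (mv j))⁻¹ j = 1 by rw [Equiv.Perm.inv_eq_iff_eq]; exact g2.symm] at this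
        · rintro ⟨i', ⟨hi', h⟩, rfl⟩
          refine ⟨fun h' => hi' ((ψ (mv j)).injective (h'.trans g1.symm)), ?_⟩
          have := Rg (mv j) g1 h
          rwa [g2] at this
      have hX : 0 < X₀.card := Finset.card_pos.mpr ⟨1, Finset.mem_filter.mpr ⟨Finset.mem_univ _, one_ne_zero⟩⟩
      have hIC : I.card = (cl c).card :=
        (Nat.eq_of_mul_eq_mul_left hX (Finset.card_mul_eq_card_mul (fun i j => R i j) hout hin)).symm
      -- so some point of the orbit leads back
      have hback : ∃ i ∈ I, St c i := by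
        by_contra hcon'
        push Not at hcon'
        obtain ⟨d, d0, d1, hcd'⟩ := other c0 c1
        have hsub : I ⊆ cl d := fun i hi => by
          obtain ⟨-, hR⟩ := Finset.mem_filter.mp hi
          have hne := Qne c0 c1 hR
          refine clmem.mpr (sameclass c0 c1 d0 d1 ?_ ?_ hcd' (hcon' i hi))
          · exact fun h => hne.2.2.1 (by rw [h])
          · exact fun h => hne.2.2.2.2.2 (by rw [h])
        have hsub' : cl d ⊆ I := fun i hi => by
          obtain ⟨i', hi'⟩ := Finset.card_pos.mp (show 0 < I.card by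
            rw [hIC]; exact Finset.card_pos.mpr ⟨c, clmem.mpr (Srefl c)⟩)
          obtain ⟨g, g1, g2, g3⟩ := Strans (Ssymm (clmem.mp (hsub hi'))) (clmem.mp hi)
          have := Rg g g1 (Finset.mem_filter.mp hi').2
          rw [g2, g3] at this
          exact Finset.mem_filter.mpr ⟨Finset.mem_filter.mpr ⟨Finset.mem_univ _, (Sne d0 d1 (clmem.mp hi)).1⟩, this⟩
        have := hodd c0 c1 d0 d1 (by rw [← hIC, Finset.Subset.antisymm hsub hsub'])
        exact hcd' this
      obtain ⟨i, hiI, hi⟩ := hback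
      have hR : Q c o (e 0) (e i) (e 1) := (Finset.mem_filter.mp hiI).2
      obtain ⟨g, g1, g2, g3, k, hk, g4⟩ := hQ
      obtain ⟨y, y1, y2, y3⟩ := Strans (Ssymm hi) hk
      have h := Qg (g * (y : X)) hR
      rwa [mul_smul, mul_smul, mul_smul, mul_smul, show (y : X) • o = o from y.2, ← hψ, ← hψ, ← hψ,
        y1, y2, y3, g1, g2, g3, g4] at h
    -- the graphs
    have htrans_pair : ∀ {c c' i j i' j'}, St c c' → Q c o (e 0) (e i) (e j) → Q c' o (e 0) (e i') (e j') →
        ∃ g : MulAction.stabilizer X o, ψ g 0 = 0 ∧ ψ g i = i' ∧ ψ g j = j' := by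
      rintro c c' i j i' j' hcc ⟨g, g1, g2, g3, k, hk, g4⟩ ⟨g', g1', g2', g3', k', hk', g4'⟩
      obtain ⟨y, y1, y2, y3⟩ := Strans (Ssymm hk) (Strans hcc hk')
      have hfix : (g' * (y : X) * g⁻¹) • o = o := by
        rw [mul_smul, mul_smul, inv_smul_eq_iff.mpr g1.symm, show (y : X) • o = o from y.2, g1']
      refine ⟨⟨_, hfix⟩, hinj ?_, hinj ?_, hinj ?_⟩ <;> rw [hψ] <;> show (g' * (y : X) * g⁻¹) • _ = _ <;>
        rw [mul_smul, mul_smul]
      · rw [inv_smul_eq_iff.mpr g2.symm, ← hψ, y1, g2']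
      · rw [inv_smul_eq_iff.mpr g3.symm, ← hψ, y2, g3']
      · rw [inv_smul_eq_iff.mpr g4.symm, ← hψ, y3, g4']
    have hex : ∀ {i j}, i ≠ 0 → j ≠ 0 → i ≠ j → ∃ k, k ≠ 0 ∧ k ≠ 1 ∧ Q k o (e 0) (e i) (e j) := by
      intro i j hi hj hij
      refine ⟨(ψ (mv i))⁻¹ j, ?_, ?_, (hchar hi).mpr (clmem.mpr (Srefl _))⟩ <;> intro h <;>
        rw [Equiv.Perm.inv_eq_iff_eq] at h
      · rw [(hmv i hi).1] at h; exact hj h
      · rw [(hmv i hi).2] at h; exact hij h.symm
    let RR : ZMod p → ZMod p → ZMod p → Prop := fun c i j => Q c o (e 0) (e i) (e j)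
    have Qcl : ∀ {c c' a b u v}, St c c' → Q c' a b u v → Q c a b u v := by
      rintro c c' a b u v h ⟨g, g1, g2, g3, k, hk, g4⟩
      exact ⟨g, g1, g2, g3, k, Strans h hk, g4⟩
    have Qiff : ∀ {c d i j}, c ≠ 0 → c ≠ 1 → d ≠ 0 → d ≠ 1 → ¬ St c d → i ≠ 0 → j ≠ 0 → i ≠ j →
        (RR d i j ↔ ¬ RR c i j) := by
      intro c d i j c0 c1 d0 d1 hcd' hi hj hij
      rw [show RR d i j = Q d o (e 0) (e i) (e j) from rfl, show RR c i j = Q c o (e 0) (e i) (e j) from rfl,
        hchar hi, hchar hi, clmem, clmem]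
      have hk0 : (ψ (mv i))⁻¹ j ≠ 0 := fun h => by
        rw [Equiv.Perm.inv_eq_iff_eq, (hmv i hi).1] at h; exact hj h
      have hk1 : (ψ (mv i))⁻¹ j ≠ 1 := fun h => by
        rw [Equiv.Perm.inv_eq_iff_eq, (hmv i hi).2] at h; exact hij h.symm
      exact ⟨fun h h' => hcd' (Strans h' (Ssymm h)), fun h =>
        (two c0 c1 d0 d1 hk0 hk1 hcd').resolve_left h⟩
    have hgr : ∀ {c}, c ≠ 0 → c ≠ 1 → Cfsg.Agent.PrimeDegreePairs.DGraph (RR c) := by
      intro c c0 c1
      have hcommon : ∀ (g : MulAction.stabilizer X o), ψ g 0 = 0 → ∀ i j,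
          Cfsg.Agent.PrimeDegreePairs.common (RR c) i j =
            Cfsg.Agent.PrimeDegreePairs.common (RR c) (ψ g i) (ψ g j) := by
        intro g g0 i j
        have hiff : ∀ i j, RR c (ψ g i) (ψ g j) ↔ RR c i j := fun i j => by
          constructor
          · intro h
            have := Qg (g : X)⁻¹ h
            rwa [inv_smul_eq_iff.mpr (show (g : X) • o = o from g.2).symm,
              inv_smul_eq_iff.mpr (show (g : X) • e 0 = e 0 by rw [← hψ, g0]).symm, hψ, hψ,
              inv_smul_smul, inv_smul_smul] at this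
          · intro h
            have := Qg (g : X) h
            rwa [show (g : X) • o = o from g.2, ← hψ, ← hψ, ← hψ, g0] at this
        refine Finset.card_bij (fun z _ => ψ g z) ?_ (fun z _ z' _ h => (ψ g).injective h) ?_
        · intro z hz
          simp only [Finset.mem_filter, Finset.mem_univ, true_and] at hz ⊢
          exact ⟨(hiff _ _).mpr hz.1, (hiff _ _).mpr hz.2⟩
        · intro z hz
          simp only [Finset.mem_filter, Finset.mem_univ, true_and] at hz
          refine ⟨(ψ g)⁻¹ z, ?_, by simp⟩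
          simp only [Finset.mem_filter, Finset.mem_univ, true_and]
          refine ⟨?_, ?_⟩
          · rw [← hiff]; simpa using hz.1
          · rw [← hiff]; simpa using hz.2
      have hneR : ∀ {i j}, RR c i j → i ≠ 0 ∧ j ≠ 0 ∧ i ≠ j := fun h => by
        have h' := Qne c0 c1 h
        exact ⟨fun q => h'.2.2.1 (by rw [q]), fun q => h'.2.2.2.2.1 (by rw [q]),
          fun q => h'.2.2.2.2.2 (by rw [q])⟩
      refine ⟨hneR, fun h => s34 c0 c1 h, ?_, ?_, ?_, ?_, ?_, ?_⟩
      · intro i j s hs hs' h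
        obtain ⟨g, -, hg⟩ := hS s hs hs'
        have := Qg (g : X) h
        rwa [show (g : X) • o = o from g.2, ← hψ, ← hψ, ← hψ, hg, hg, hg, mul_zero] at this
      · intro i j h
        obtain ⟨hi, hj, -⟩ := hneR h
        have := s12 c0 c1 (Qg wX h)
        have wi : ∀ i, i ≠ 0 → wX • e i = e (-i⁻¹) := hwi
        have wo : wX • o = e 0 := hwo
        have w0 : wX • e 0 = o := hw0
        rwa [wo, w0, wi i hi, wi j hj] at this
      · intro h hh
        obtain ⟨g, -, hg⟩ := hT (-1)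
        have := Qg (g : X) hh
        rw [show (g : X) • o = o from g.2, ← hψ, ← hψ, ← hψ, hg, hg, hg, zero_add, add_neg_cancel,
          ← sub_eq_add_neg] at this
        exact s23 c0 c1 this
      · intro h hh
        obtain ⟨g, -, hg⟩ := hT (-h)
        have := Qg (g : X) hh
        rw [show (g : X) • o = o from g.2, ← hψ, ← hψ, ← hψ, hg, hg, hg, zero_add, add_neg_cancel,
          ← sub_eq_add_neg] at this
        exact s23 c0 c1 (s34 c0 c1 this)
      · intro i j i' j' h h'
        obtain ⟨g, g0, gi, gj⟩ := htrans_pair (Srefl c) h h'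
        rw [hcommon g g0 i j, gi, gj]
      · intro i j i' j' hi hj hij h hi' hj' hij' h'
        obtain ⟨k, k0, k1, hk⟩ := hex hi hj hij
        obtain ⟨k', k'0, k'1, hk'⟩ := hex hi' hj' hij'
        obtain ⟨g, g0, gi, gj⟩ := htrans_pair (sameclass c0 c1 k0 k1 k'0 k'1
          (fun q => h (Qcl q hk)) (fun q => h' (Qcl q hk'))) hk hk'
        rw [hcommon g g0 i j, gi, gj]
    -- one of the two orbits is a single point
    obtain ⟨c, c0, c1, hsingle⟩ : ∃ c, c ≠ 0 ∧ c ≠ 1 ∧ ∀ k, St c k → k = c := by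
      have hsingle : ∀ {c}, c ≠ 0 → c ≠ 1 → (∀ i j, RR c 1 i → RR c 1 j → i = j) → ∀ k, St c k → k = c := by
        intro c c0 c1 h k hk
        exact h k c ⟨1, one_smul _ _, one_smul _ _, one_smul _ _, k, hk, one_smul _ _⟩
          ⟨1, one_smul _ _, one_smul _ _, one_smul _ _, c, Srefl c, one_smul _ _⟩
      rcases Cfsg.Agent.PrimeDegreePairs.dgraph_small hp3 (hgr c00 c01) (hgr d00 d01) hp7
        (fun hi hj hij => Qiff c00 c01 d00 d01 hcd hi hj hij) with h | h
      · exact ⟨c₀, c00, c01, hsingle c00 c01 h⟩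
      · exact ⟨d₀, d00, d01, hsingle d00 d01 h⟩
    have hcl : cl c = {c} := by
      ext k; rw [clmem, Finset.mem_singleton]; exact ⟨hsingle k, fun h => h ▸ Srefl c⟩
    let R3 : ZMod p → ZMod p → ZMod p → Prop := fun i j k => Q c o (e i) (e j) (e k)
    have hmv2 : ∀ {i j}, i ≠ j → ∃ g : MulAction.stabilizer X o, ψ g 0 = i ∧ ψ g 1 = j := fun hij =>
      h2 (zero_ne_one (α := ZMod p)) hij
    have uniq : ∀ {i j} (g : MulAction.stabilizer X o), ψ g 0 = i → ψ g 1 = j → ∀ k, R3 i j k ↔ k = ψ g c := by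
      intro i j g gi gj k
      have ei : (g : X) • e 0 = e i := by rw [← hψ, gi]
      have ej : (g : X) • e 1 = e j := by rw [← hψ, gj]
      constructor
      · intro h
        have ek : (g : X) • e ((ψ g)⁻¹ k) = e k := by rw [← hψ]; simp
        rw [← hsingle _ (Qwd g.2 ei ej ek h)]
        simp
      · rintro rfl
        exact ⟨g, g.2, ei, ej, c, Srefl c, (hψ g c).symm⟩
    have hne3 : ∀ {i j k}, R3 i j k → i ≠ j ∧ i ≠ k ∧ j ≠ k := fun h => by
      have h' := Qne c0 c1 h
      exact ⟨fun q => h'.2.2.1 (by rw [q]), fun q => h'.2.2.2.2.1 (by rw [q]),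
        fun q => h'.2.2.2.2.2 (by rw [q])⟩
    refine Cfsg.Agent.PrimeDegreePairs.no_line_system hp3 hp7 (R := R3) ?_ 2 one_lt_two (by omega) ?_
    · refine ⟨hne3, fun h => s23 c0 c1 h, fun h => s34 c0 c1 h, ?_, ?_, ?_, ?_⟩
      · intro i j k l h h' hkl
        obtain ⟨g, gi, gj⟩ := hmv2 (hne3 h).1
        exact absurd (((uniq g gi gj k).mp h).trans ((uniq g gi gj l).mp h').symm) hkl
      · intro i j k t h
        obtain ⟨g, -, hg⟩ := hT t
        have := Qg (g : X) h
        rwa [show (g : X) • o = o from g.2, ← hψ, ← hψ, ← hψ, hg, hg, hg] at this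
      · intro i j k s hs hs' h
        obtain ⟨g, -, hg⟩ := hS s hs hs'
        have := Qg (g : X) h
        rwa [show (g : X) • o = o from g.2, ← hψ, ← hψ, ← hψ, hg, hg, hg] at this
      · intro k m k0 k1 hk m0 m1 hm
        have hk' : ¬ St c k := fun h => hk ⟨1, one_smul _ _, one_smul _ _, one_smul _ _, k, h, one_smul _ _⟩
        have hm' : ¬ St c m := fun h => hm ⟨1, one_smul _ _, one_smul _ _, one_smul _ _, m, h, one_smul _ _⟩
        obtain ⟨g, g0, g1, g2⟩ := sameclass c0 c1 k0 k1 m0 m1 hk' hm'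
        refine ⟨ψ g, fun a b u h => ?_, g0, g1, g2⟩
        have := Qg (g : X) h
        rwa [show (g : X) • o = o from g.2, ← hψ, ← hψ, ← hψ] at this
    · intro i j hij
      obtain ⟨g, gi, gj⟩ := hmv2 hij
      exact Nat.card_eq_one_iff_unique.mpr ⟨⟨fun u v => Subtype.ext
        (((uniq g gi gj _).mp u.2).trans ((uniq g gi gj _).mp v.2).symm)⟩, ⟨⟨_, (uniq g gi gj _).mpr rfl⟩⟩⟩
  -- lift to quadruples
  refine ⟨fun x y => ?_⟩
  have key : ∀ x : Fin 4 ↪ Ω, ∃ g : X, g • o = x 0 ∧ g • e 0 = x 1 ∧ g • e 1 = x 2 ∧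
      ∃ k, k ≠ 0 ∧ k ≠ 1 ∧ g • e k = x 3 := by
    intro x
    have hx : ∀ i j, i ≠ j → x i ≠ x j := fun i j h q => h (x.injective q)
    obtain ⟨g, g1, g2, g3⟩ := h3X (hx 0 1 (by decide)) (hx 0 2 (by decide)) (hx 1 2 (by decide))
    obtain ⟨k, hk⟩ := (hrange (g⁻¹ • x 3)).mp fun h => hx 0 3 (by decide) (by
      rw [← g1, ← h, smul_inv_smul])
    refine ⟨g, g1, g2, g3, k, ?_, ?_, by rw [hk, smul_inv_smul]⟩
    · intro q; exact hx 1 3 (by decide) (by rw [← g2, ← q, hk, smul_inv_smul])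
    · intro q; exact hx 2 3 (by decide) (by rw [← g3, ← q, hk, smul_inv_smul])
  obtain ⟨g, g1, g2, g3, k, k0, k1, g4⟩ := key x
  obtain ⟨g', g1', g2', g3', k', k'0, k'1, g4'⟩ := key y
  obtain ⟨z, z1, z2, z3⟩ := hone k k' k0 k1 k'0 k'1
  refine ⟨g' * (z : X) * g⁻¹, Function.Embedding.ext fun i => ?_⟩
  show (g' * (z : X) * g⁻¹) • x i = y i
  rw [mul_smul, mul_smul]
  fin_cases i
  · exact (congrArg (fun v => g' • (z : X) • v) (inv_smul_eq_iff.mpr g1.symm)).trans
      ((congrArg (fun v => g' • v) z.2).trans g1')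
  · exact (congrArg (fun v => g' • (z : X) • v) (inv_smul_eq_iff.mpr g2.symm)).trans
      ((congrArg (fun v => g' • v) (by rw [← hψ, z1])).trans g2')
  · exact (congrArg (fun v => g' • (z : X) • v) (inv_smul_eq_iff.mpr g3.symm)).trans
      ((congrArg (fun v => g' • v) (by rw [← hψ, z2])).trans g3')
  · exact (congrArg (fun v => g' • (z : X) • v) (inv_smul_eq_iff.mpr g4.symm)).trans
      ((congrArg (fun v => g' • v) (by rw [← hψ, z3])).trans g4')

end Cfsg.Agent.S3616
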