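import Cfsg.Statements.S3619
import Cfsg.Agent.Lib.Recog.JordanHalf

set_option autoImplicit false
open Cfsg
open scoped Pointwise

namespace Cfsg.Agent.S3619

/-- Let G act faithfully on a finite set in such a way that every non-trivial normal subgroup of G is transitive (G is quasiprimitive). Let Γ be a subset with more than one point and not the whole set, such that the pointwise stabilizer of the complement of Γ acts transitively on Γ (a Jordan set). If that pointwise stabilizer acts primitively on Γ, then G is k-fold transitive where k is one more than the number of points outside Γ (the Jordan set is a trivial one). -/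
theorem result {G Ω : Type*} [Group G] [Finite G] [MulAction G Ω] [FaithfulSMul G Ω] [Finite Ω]
    (hqp : ∀ N : Subgroup G, N.Normal → N ≠ ⊥ → MulAction.IsPretransitive ↥N Ω)
    (Γ : Set Ω) (hΓ1 : 1 < Γ.ncard) (hΓ2 : Γ.ncard < Nat.card Ω)
    (hJ : MulAction.IsPretransitive ↥(fixingSubgroup G Γᶜ) ↥(SubMulAction.ofFixingSubgroup G Γᶜ))
    (hJp : MulAction.IsPreprimitive ↥(fixingSubgroup G Γᶜ) ↥(SubMulAction.ofFixingSubgroup G Γᶜ)) :
    MulAction.IsMultiplyPretransitive G Ω (Nat.card Ω - Γ.ncard + 1) := by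
  classical
  have hprim : MulAction.IsPreprimitive G Ω := by
    obtain ⟨x, hx, y, hy, hxy⟩ := (Set.one_lt_ncard (s := Γ)).1 hΓ1
    obtain ⟨⟨h₀, hh₀⟩, he⟩ := hJ.exists_smul_eq ⟨x, fun h => h hx⟩ ⟨y, fun h => h hy⟩
    have hh₀x : h₀ • x = y := congrArg Subtype.val he
    have hne : (⊤ : Subgroup G) ≠ ⊥ := fun e => hxy (by
      have := Subgroup.mem_top h₀
      rw [e, Subgroup.mem_bot] at this
      rw [← hh₀x, this, one_smul])
    have htop := hqp ⊤ inferInstance hne
    have htr : MulAction.IsPretransitive G Ω := ⟨fun a b => by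
      obtain ⟨⟨g, hgt⟩, hg⟩ := htop.exists_smul_eq a b
      exact ⟨g, hg⟩⟩
    refine ⟨fun {B} hB => ?_⟩
    by_contra hnt
    have hns : ¬ B.Subsingleton := fun hs => hnt (Or.inl hs)
    obtain ⟨b, hb, c, hc, hbc⟩ := Set.not_subsingleton_iff.1 hns
    -- every element fixing the complement fixes every translate of `B`
    have hfix : ∀ h ∈ fixingSubgroup G Γᶜ, ∀ g : G, h • g • B = g • B := by
      intro h hh g
      have hC : MulAction.IsBlock G (g • B) := hB.translate g
      by_cases hsub : g • B ⊆ Γ
      · have hblk : MulAction.IsBlock (fixingSubgroup G Γᶜ)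
            (Subtype.val ⁻¹' (g • B) : Set (SubMulAction.ofFixingSubgroup G Γᶜ)) := by
          rw [MulAction.isBlock_iff_smul_eq_of_mem]
          rintro ⟨k, hk⟩ z hz hkz
          have hz' : (z : Ω) ∈ g • B := hz
          have hkz' : k • (z : Ω) ∈ g • B := hkz
          have := hC.smul_eq_of_mem hz' hkz'
          ext w
          rw [Set.mem_smul_set_iff_inv_smul_mem, Set.mem_preimage, Set.mem_preimage]
          show k⁻¹ • (w : Ω) ∈ g • B ↔ (w : Ω) ∈ g • B
          rw [← Set.mem_smul_set_iff_inv_smul_mem, this]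
        rcases hJp.isTrivialBlock_of_isBlock hblk with h1 | h1
        · exfalso
          have := h1 (x := ⟨g • b, fun e => e (hsub ⟨b, hb, rfl⟩)⟩) ⟨b, hb, rfl⟩
            (y := ⟨g • c, fun e => e (hsub ⟨c, hc, rfl⟩)⟩) ⟨c, hc, rfl⟩
          exact hbc (smul_left_cancel g (congrArg Subtype.val this))
        · have heq : g • B = Γ := by
            refine Set.Subset.antisymm hsub fun z hz => ?_
            have : (⟨z, fun e => e hz⟩ : SubMulAction.ofFixingSubgroup G Γᶜ) ∈
                (Subtype.val ⁻¹' (g • B) : Set (SubMulAction.ofFixingSubgroup G Γᶜ)) := h1 ▸ Set.mem_univ _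
            exact this
          obtain ⟨z, hz⟩ : (g • B).Nonempty := ⟨_, b, hb, rfl⟩
          refine hC.smul_eq_of_mem hz ?_
          rw [heq] at hz ⊢
          by_contra hn
          have := (mem_fixingSubgroup_iff G).1 hh (h • z) hn
          exact hn ((smul_left_cancel h this).symm ▸ hz)
      · obtain ⟨z, hz, hzΓ⟩ := Set.not_subset.1 hsub
        refine hC.smul_eq_of_mem hz ?_
        rw [(mem_fixingSubgroup_iff G).1 hh z hzΓ]; exact hz
    let K : Subgroup G :=
      { carrier := {k | ∀ g : G, k • g • B = g • B}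
        one_mem' := fun g => one_smul _ _
        mul_mem' := fun {u v} hu hv g => by rw [mul_smul, hv g, hu g]
        inv_mem' := fun {u} hu g => by
          nth_rewrite 1 [← hu g]
          rw [inv_smul_smul] }
    have hKn : K.Normal := ⟨fun k hk u g => by
      rw [mul_smul, mul_smul, ← mul_smul u⁻¹ g B, hk (u⁻¹ * g), ← mul_smul, mul_inv_cancel_left]⟩
    have hKne : K ≠ ⊥ := fun e => hxy (by
      have : h₀ ∈ K := hfix h₀ hh₀
      rw [e, Subgroup.mem_bot] at this
      rw [← hh₀x, this, one_smul])
    have hKt := hqp K hKn hKne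
    refine hnt (Or.inr (Set.eq_univ_of_forall fun z => ?_))
    obtain ⟨⟨k, hk⟩, hkz⟩ := hKt.exists_smul_eq b z
    have h1 := hk 1
    rw [one_smul] at h1
    rw [← h1]
    exact ⟨b, hb, hkz⟩
  have hc := Set.ncard_add_ncard_compl Γ
  have h := hprim.isMultiplyPreprimitive (s := Γᶜ) (n := Γᶜ.ncard - 1) (by omega) (by omega) hJp
  have h' := h.isMultiplyPretransitive
  rwa [show Γᶜ.ncard - 1 + 2 = Nat.card Ω - Γ.ncard + 1 by omega] at h'

end Cfsg.Agent.S3619
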