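import Cfsg.Statements.S3622
import Mathlib

set_option autoImplicit false
open Cfsg

namespace Cfsg.Agent.S3622

/-- Let G be a group of permutations of a finite set, m ≥ 2, and α a point. Say a permutation σ is k-approximated by a set S of permutations if for every k points there is a member of S agreeing with σ at those points. Suppose every permutation that is (m-1)-approximated by the stabilizer of α in G lies in that stabilizer (the stabilizer is (m-1)-closed). Then every permutation that is m-approximated by G lies in G (G is m-closed). -/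
theorem result {Ω : Type*} [Finite Ω] (G : Subgroup (Equiv.Perm Ω)) (m : ℕ) (hm : 2 ≤ m) (α : Ω)
    (hclosed : ∀ σ : Equiv.Perm Ω,
      (∀ t : Fin (m - 1) → Ω, ∃ g ∈ MulAction.stabilizer ↥G α, ∀ i, (g : Equiv.Perm Ω) (t i) = σ (t i)) →
      σ ∈ G ∧ σ α = α) :
    ∀ σ : Equiv.Perm Ω, (∀ t : Fin m → Ω, ∃ g ∈ G, ∀ i, g (t i) = σ (t i)) → σ ∈ G := by
  classical
  intro σ hσ
  obtain ⟨m, rfl⟩ : ∃ j, m = j + 1 := ⟨m - 1, by omega⟩
  obtain ⟨g₁, hg₁, h₁⟩ := hσ fun _ => α
  have h₁' : g₁ α = σ α := h₁ 0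
  suffices h : g₁⁻¹ * σ ∈ G by simpa using mul_mem hg₁ h
  refine (hclosed (g₁⁻¹ * σ) fun t => ?_).1
  have ht : m + 1 - 1 = m := by omega
  obtain ⟨g, hg, hgt⟩ := hσ (Fin.cons α (t ∘ Fin.cast ht.symm))
  refine ⟨⟨g₁⁻¹ * g, mul_mem (inv_mem hg₁) hg⟩, ?_, fun i => ?_⟩
  · show (g₁⁻¹ * g) α = α
    have h0 : g α = σ α := by simpa using hgt 0
    rw [Equiv.Perm.mul_apply, h0, ← h₁', Equiv.Perm.coe_inv, Equiv.symm_apply_apply]
  · have hi := hgt (Fin.succ (Fin.cast ht i))
    simp only [Fin.cons_succ, Function.comp_apply] at hi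
    show (g₁⁻¹ * g) (t i) = (g₁⁻¹ * σ) (t i)
    rw [Equiv.Perm.mul_apply, Equiv.Perm.mul_apply]
    exact congrArg _ hi

end Cfsg.Agent.S3622
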