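import Cfsg.Statements.S3626
import Cfsg.Agent.Lib.Ree.Toral
import Cfsg.Agent.Lib.Spectrum.FiveTypes

set_option autoImplicit false
open Cfsg

namespace Cfsg.Agent.S3626

open Cfsg.Agent Cfsg.Agent.Ree

universe u v

theorem spectrum_ree {K : Type u} [Field K] [Fintype K] {Γ : Type v} [Group Γ] {m : ℕ} (D : Dat K Γ m)
    (R : Reg D) : ∃ a b C E : ℕ, 1 < a ∧ 1 < b ∧ 1 < C ∧ 1 < E ∧ Nat.Coprime a b ∧ Nat.Coprime (a * b) 2 ∧
      Nat.Coprime (a * b * 2) 3 ∧ Nat.Coprime (a * b * 2) C ∧ Nat.Coprime (a * b * 2) E ∧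
      (∀ g : Γ, ∃ i, orderOf g ∣ FiveTypes.mx a b C E i) ∧
      ∀ i, ∃ g : Γ, orderOf g = FiveTypes.mx a b C E i := by
  haveI := D.finite
  obtain ⟨A, B, hA, hB, -, -, -, -, hAB⟩ := D.exists_two_tori R
  obtain ⟨k, hkodd, hk⟩ := D.exists_odd_half
  have hq := D.q_ge R.hm
  have h4 := D.four_kp
  have hkp := D.kp_one_lt R.hm
  have hkpo := Nat.odd_iff.1 D.kp_odd
  have hko := Nat.odd_iff.1 hkodd
  have hphi : ∀ p, p.Prime → p ∣ D.phi → ¬ p ∣ k * D.kp * 2 := by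
    intro p hp hpd h
    obtain ⟨h3, -, hm1, hp1⟩ := D.prime_phi hp hpd
    rcases hp.dvd_mul.1 h with h | h
    · rcases hp.dvd_mul.1 h with h | h
      · exact hm1 (h.trans ⟨2, by omega⟩)
      · exact hp1 (h.trans ⟨4, by omega⟩)
    · have := (Nat.prime_dvd_prime_iff_eq hp Nat.prime_two).1 h
      omega
  have hcop : ∀ X, X ∣ D.phi → Nat.Coprime (k * D.kp * 2) X := fun X hX =>
    Nat.coprime_of_dvd fun p hp h1 h2 => hphi p hp (h2.trans hX) h1
  have hq3 : (3 : ℕ) ∣ Fintype.card K := by rw [D.card_eq]; exact dvd_pow_self 3 (by omega)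
  refine ⟨k, D.kp, Nat.card A, Nat.card B, by omega, hkp, hA.nt, hB.nt, ?_, ?_, ?_,
    hcop _ hA.dvd, hcop _ hB.dvd, ?_, ?_⟩
  · refine Nat.coprime_of_dvd fun p hp h1 h2 => ?_
    have e1 : p ∣ Fintype.card K + 1 := h2.trans ⟨4, by omega⟩
    have e2 : p ∣ Fintype.card K - 1 := h1.trans ⟨2, by omega⟩
    have hd := Nat.dvd_sub e1 e2
    rw [show Fintype.card K + 1 - (Fintype.card K - 1) = 2 by omega] at hd
    have := (Nat.prime_dvd_prime_iff_eq hp Nat.prime_two).1 hd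
    subst this
    omega
  · rw [Nat.coprime_mul_iff_left, Nat.coprime_two_right, Nat.coprime_two_right]
    exact ⟨hkodd, D.kp_odd⟩
  · refine (Nat.coprime_comm.1 ((Nat.Prime.coprime_iff_not_dvd Nat.prime_three).2 fun h => ?_))
    rcases Nat.prime_three.dvd_mul.1 h with h | h
    · rcases Nat.prime_three.dvd_mul.1 h with h | h <;> omega
    · omega
  · -- every order
    intro g
    by_cases hg : g = 1
    · exact ⟨0, by rw [hg, orderOf_one]; exact one_dvd _⟩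
    rcases D.classify R hg with h | h | h | h | ⟨p, hp, hpd, hpg⟩
    · exact ⟨0, by rw [h]; exact ⟨3, rfl⟩⟩
    · obtain ⟨c, -, hc⟩ := D.three_dvd_cases h
      rcases hc with hc | hc | hc <;> rw [hc]
      exacts [⟨0, 2, rfl⟩, ⟨0, 1, rfl⟩, ⟨1, 1, rfl⟩]
    · refine ⟨2, (D.orderOf_dvd_of_XH h).1.trans ?_⟩
      show Fintype.card K - 1 ∣ 2 * k
      exact dvd_of_eq (by omega)
    · refine ⟨3, ?_⟩
      show orderOf g ∣ 2 * D.kp
      have h1 := (D.orderOf_dvd_of_X0 h).1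
      rw [show Fintype.card K + 1 = 2 * (2 * D.kp) by omega] at h1
      exact Nat.dvd_of_mul_dvd_mul_left two_pos h1
    · rw [← hAB] at hpd
      have key : ∀ X : Subgroup Γ, D.PhiTorus X → p ∣ Nat.card X → orderOf g ∣ Nat.card X := by
        intro X hX h
        obtain ⟨c, x, ⟨hx, -⟩, rfl⟩ := hX.mem_conj D R hp h hpg
        rw [← MulAut.conj_apply, MulEquiv.orderOf_eq]
        exact Subgroup.orderOf_dvd_natCard _ hx
      rcases hp.dvd_mul.1 hpd with h | h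
      exacts [⟨4, key A hA h⟩, ⟨5, key B hB h⟩]
  · -- existence
    have cyc : ∀ X : Subgroup Γ, IsCyclic X → ∃ g : Γ, orderOf g = Nat.card X := fun X hX => by
      obtain ⟨x, hx⟩ := IsCyclic.exists_generator (α := X)
      exact ⟨x, by rw [Subgroup.orderOf_coe, orderOf_eq_card_of_forall_mem_zpowers hx]⟩
    intro i
    fin_cases i
    · refine ⟨D.U 0 1 0 * D.jI, ?_⟩
      rw [D.orderOf_UjI, if_neg (by simp)]
      rfl
    · refine ⟨D.U 1 0 0, ?_⟩
      rw [D.orderOf_U]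
      simp [FiveTypes.mx]
    · obtain ⟨g, hg⟩ := cyc _ D.isCyclic_H
      exact ⟨g, by rw [hg, D.card_range_H]; show _ = 2 * k; omega⟩
    · obtain ⟨g, hg⟩ := cyc _ D.isCyclic_TP
      exact ⟨g, by rw [hg, D.card_TP]; rfl⟩
    · exact cyc _ hA.cyclic
    · exact cyc _ hB.cyclic

theorem range_cube {Γ : Type u} [Group Γ] [Finite Γ] {a b C E : ℕ}
    (h1 : ∀ g : Γ, ∃ i, orderOf g ∣ FiveTypes.mx a b C E i)
    (h2 : ∀ i, ∃ g : Γ, orderOf g = FiveTypes.mx a b C E i) :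
    Set.range (orderOf : Γ × Γ × Γ → ℕ) = FiveTypes.allowed a b C E := by
  refine Set.Subset.antisymm ?_ ?_
  · rintro _ ⟨⟨x, y, z⟩, rfl⟩
    obtain ⟨i, hi⟩ := h1 x
    obtain ⟨j, hj⟩ := h1 y
    obtain ⟨l, hl⟩ := h1 z
    refine ⟨i, j, l, ?_⟩
    rw [Prod.orderOf, Prod.orderOf, ← Nat.lcm_assoc]
    exact Nat.lcm_dvd (Nat.lcm_dvd ((hi.trans (Nat.dvd_lcm_left _ _)).trans (Nat.dvd_lcm_left _ _))
      ((hj.trans (Nat.dvd_lcm_right _ _)).trans (Nat.dvd_lcm_left _ _))) (hl.trans (Nat.dvd_lcm_right _ _))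
  · rintro d ⟨i, j, l, hd⟩
    obtain ⟨x, hx⟩ := h2 i
    obtain ⟨y, hy⟩ := h2 j
    obtain ⟨z, hz⟩ := h2 l
    have ho : orderOf (x, y, z) = Nat.lcm (Nat.lcm (FiveTypes.mx a b C E i) (FiveTypes.mx a b C E j))
        (FiveTypes.mx a b C E l) := by
      rw [Prod.orderOf, Prod.orderOf, hx, hy, hz, Nat.lcm_assoc]
    exact ⟨(x, y, z) ^ (orderOf (x, y, z) / d), orderOf_pow_orderOf_div (orderOf_pos _).ne' (ho ▸ hd)⟩

/-- Let R be the small Ree group over the field with q = 3^(2m+1) ≥ 27 elements. Then there are finite groups of arbitrarily large order with exactly the same set of element orders as R × R × R. -/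
theorem result {K : Type*} [Field K] [Fintype K] {m : ℕ} (hm : 1 ≤ m) (hK : Fintype.card K = 3 ^ (2 * m + 1)) (N : ℕ) :
    ∃ (H : Type) (_ : Group H) (_ : Fintype H), N < Fintype.card H ∧
      Set.range (orderOf : H → ℕ) = Set.range (orderOf : ↥(Cfsg.Lie.twistedG2 K (3 ^ m)) × ↥(Cfsg.Lie.twistedG2 K (3 ^ m)) × ↥(Cfsg.Lie.twistedG2 K (3 ^ m)) → ℕ) := by
  classical
  obtain ⟨D, R⟩ := Cfsg.Agent.Ree.exists_reg hm hK
  have := D.finite
  obtain ⟨a, b, C, E, ha, hb, hC, hE, hab, hab2, h3, hkC, hkE, hdvd, hex⟩ := spectrum_ree D R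
  obtain ⟨H, i1, i2, hN, hr⟩ := FiveTypes.exists_group ha hb hC hE hab hab2 h3 hkC hkE N
  exact ⟨H, i1, i2, hN, hr.trans (range_cube hdvd hex).symm⟩

end Cfsg.Agent.S3626
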