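import Cfsg.Statements.S3627
import Cfsg.Agent.Lib.Recog.JankoOneOrders
import Cfsg.Agent.Lib.Recog.ProperDivisorGroup

set_option autoImplicit false
open Cfsg

namespace Cfsg.Agent.S3627

/-- Let J be the first Janko group. Then there are finite groups of arbitrarily large order with exactly the same set of element orders as J × J × J × J. -/
theorem result (N : ℕ) : ∃ (H : Type) (_ : Group H) (_ : Fintype H), N < Fintype.card H ∧
      Set.range (orderOf : H → ℕ) = Set.range (orderOf : ↥Cfsg.Spor.J1 × ↥Cfsg.Spor.J1 × ↥Cfsg.Spor.J1 × ↥Cfsg.Spor.J1 → ℕ) := by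
  classical
  have : Fact (Nat.Prime 7) := ⟨by norm_num⟩
  have : NeZero 6270 := ⟨by norm_num⟩
  have hN := Recog.ProperDivisors.nontrivial 6270 7 (by norm_num)
  obtain ⟨H, i1, i2, hlt, hr⟩ :=
    Recog.exists_large (Recog.ProperDivisors.act 6270 7) (Recog.ProperDivisors.exp_p 6270 7) N
  refine ⟨H, i1, i2, hlt, ?_⟩
  rw [hr, Recog.ProperDivisors.range_orders 6270 7 (by norm_num), show 7 * 6270 = 43890 from rfl]
  have : Finite ↥Spor.J1 := inferInstance
  have hlcm : ∀ a ∈ ({6, 7, 10, 11, 15, 19} : Finset ℕ), ∀ b ∈ ({6, 7, 10, 11, 15, 19} : Finset ℕ),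
      ∀ c ∈ ({6, 7, 10, 11, 15, 19} : Finset ℕ), ∀ e ∈ ({6, 7, 10, 11, 15, 19} : Finset ℕ),
      (Nat.lcm a (Nat.lcm b (Nat.lcm c e))) ∣ 43890 ∧
        Nat.lcm a (Nat.lcm b (Nat.lcm c e)) < 43890 := by
    decide +kernel
  apply Set.Subset.antisymm
  · rintro d ⟨hd, hne⟩
    obtain ⟨a, ha, b, hb, c, hc, e, he, hdl⟩ : ∃ a ∈ ({6, 7, 10, 11, 15, 19} : Finset ℕ),
        ∃ b ∈ ({6, 7, 10, 11, 15, 19} : Finset ℕ), ∃ c ∈ ({6, 7, 10, 11, 15, 19} : Finset ℕ),
        ∃ e ∈ ({6, 7, 10, 11, 15, 19} : Finset ℕ), d ∣ Nat.lcm a (Nat.lcm b (Nat.lcm c e)) := by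
      obtain ⟨r, hr', hdr⟩ : ∃ r, r.Prime ∧ d * r ∣ 43890 := by
        obtain ⟨k, hk⟩ := hd
        have hk1 : k ≠ 1 := fun h => hne (by rw [hk, h, mul_one])
        refine ⟨k.minFac, Nat.minFac_prime hk1, ?_⟩
        rw [hk]; exact mul_dvd_mul_left d (Nat.minFac_dvd k)
      have hr2 : r ∈ ({2, 3, 5, 7, 11, 19} : Finset ℕ) := by
        have h : r ∣ 43890 := (dvd_mul_left r d).trans hdr
        rw [show (43890 : ℕ) = 2 * 3 * 5 * 7 * 11 * 19 from rfl] at h
        simp only [Finset.mem_insert, Finset.mem_singleton]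
        rcases (Nat.Prime.dvd_mul hr').1 h with h | h
        · rcases (Nat.Prime.dvd_mul hr').1 h with h | h
          · rcases (Nat.Prime.dvd_mul hr').1 h with h | h
            · rcases (Nat.Prime.dvd_mul hr').1 h with h | h
              · rcases (Nat.Prime.dvd_mul hr').1 h with h | h
                · have := (Nat.prime_dvd_prime_iff_eq hr' (by norm_num)).1 h; omega
                · have := (Nat.prime_dvd_prime_iff_eq hr' (by norm_num)).1 h; omega
              · have := (Nat.prime_dvd_prime_iff_eq hr' (by norm_num)).1 h; omega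
            · have := (Nat.prime_dvd_prime_iff_eq hr' (by norm_num)).1 h; omega
          · have := (Nat.prime_dvd_prime_iff_eq hr' (by norm_num)).1 h; omega
        · have := (Nat.prime_dvd_prime_iff_eq hr' (by norm_num)).1 h; omega
      have key : ∀ M, M * r = 43890 → d ∣ M := fun M hM =>
        Nat.dvd_of_mul_dvd_mul_right hr'.pos (hM ▸ hdr)
      simp only [Finset.mem_insert, Finset.mem_singleton] at hr2
      rcases hr2 with rfl | rfl | rfl | rfl | rfl | rfl
      · exact ⟨15, by simp, 7, by simp, 11, by simp, 19, by simp, key _ (by decide +kernel)⟩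
      · exact ⟨10, by simp, 7, by simp, 11, by simp, 19, by simp, key _ (by decide +kernel)⟩
      · exact ⟨6, by simp, 7, by simp, 11, by simp, 19, by simp, key _ (by decide +kernel)⟩
      · exact ⟨6, by simp, 10, by simp, 11, by simp, 19, by simp, key _ (by decide +kernel)⟩
      · exact ⟨6, by simp, 10, by simp, 7, by simp, 19, by simp, key _ (by decide +kernel)⟩
      · exact ⟨6, by simp, 10, by simp, 7, by simp, 11, by simp, key _ (by decide +kernel)⟩
    obtain ⟨x, hx⟩ := Recog.JankoOne.exists_orders a ha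
    obtain ⟨y, hy⟩ := Recog.JankoOne.exists_orders b hb
    obtain ⟨z, hz⟩ := Recog.JankoOne.exists_orders c hc
    obtain ⟨w, hw⟩ := Recog.JankoOne.exists_orders e he
    have ho : orderOf (x, y, z, w) = Nat.lcm a (Nat.lcm b (Nat.lcm c e)) := by
      rw [Prod.orderOf, Prod.orderOf, Prod.orderOf, hx, hy, hz, hw]
    rw [← ho] at hdl
    refine ⟨(x, y, z, w) ^ (orderOf (x, y, z, w) / d), ?_⟩
    have hd0 : 0 < d := Nat.pos_of_dvd_of_pos hdl (orderOf_pos _)
    rw [orderOf_pow_of_dvd (Nat.div_pos (Nat.le_of_dvd (orderOf_pos _) hdl) hd0).ne'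
      (Nat.div_dvd_of_dvd hdl), Nat.div_div_self hdl (orderOf_pos _).ne']
  · rintro _ ⟨⟨x, y, z, w⟩, rfl⟩
    obtain ⟨a, ha, hx⟩ := Recog.JankoOne.exists_pow_eq_one x
    obtain ⟨b, hb, hy⟩ := Recog.JankoOne.exists_pow_eq_one y
    obtain ⟨c, hc, hz⟩ := Recog.JankoOne.exists_pow_eq_one z
    obtain ⟨e, he, hw⟩ := Recog.JankoOne.exists_pow_eq_one w
    obtain ⟨h1, h2⟩ := hlcm a ha b hb c hc e he
    have hd : orderOf (x, y, z, w) ∣ Nat.lcm a (Nat.lcm b (Nat.lcm c e)) := by
      rw [Prod.orderOf, Prod.orderOf, Prod.orderOf]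
      have l2 : ∀ {p q r t : ℕ}, p ∣ r → q ∣ t → Nat.lcm p q ∣ Nat.lcm r t := fun h h' =>
        Nat.lcm_dvd (h.trans (Nat.dvd_lcm_left _ _)) (h'.trans (Nat.dvd_lcm_right _ _))
      exact l2 (orderOf_dvd_of_pow_eq_one hx) (l2
        (orderOf_dvd_of_pow_eq_one hy) (l2 (orderOf_dvd_of_pow_eq_one hz)
          (orderOf_dvd_of_pow_eq_one hw)))
    refine ⟨hd.trans h1, fun h => ?_⟩
    have := Nat.le_of_dvd (Nat.pos_of_dvd_of_pos h1 (by norm_num)) hd
    omega

end Cfsg.Agent.S3627
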