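import Cfsg.Statements.S3633
import Cfsg.Agent.Lib.Recog.ThreePrimes

set_option autoImplicit false
open Cfsg

namespace Cfsg.Agent.S3633

/-- Let G be a finite group and ρ a set of at least three prime divisors of the order of G that are pairwise non-adjacent in the prime graph (no element of order rs for distinct r, s ∈ ρ). Then at most one prime of ρ divides the order of any given solvable normal subgroup of G; in particular G is not solvable. -/
theorem result {G : Type*} [Group G] [Finite G] (ρ : Finset ℕ) (hρ : 3 ≤ ρ.card) (hc : ((∀ r ∈ ρ, r.Prime ∧ r ∣ Nat.card G) ∧ (∀ r ∈ ρ, ∀ s ∈ ρ, r ≠ s → ¬ ∃ x : G, orderOf x = r * s)))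
    (K : Subgroup G) [K.Normal] (hK : Group.IsSolvable ↥K) :
    (∀ r ∈ ρ, ∀ s ∈ ρ, r ∣ Nat.card ↥K → s ∣ Nat.card ↥K → r = s) ∧ ¬ Group.IsSolvable G := by
  classical
  have main : ∀ (L : Subgroup G) [L.Normal], Group.IsSolvable L →
      ∀ r ∈ ρ, ∀ s ∈ ρ, r ∣ Nat.card L → s ∣ Nat.card L → r = s := by
    intro L _ hL r hr s hs hrL hsL
    by_contra hne
    obtain ⟨t, ht, htr, hts⟩ : ∃ t ∈ ρ, t ≠ r ∧ t ≠ s := by
      by_contra hall
      push Not at hall
      have hsub : ρ ⊆ {r, s} := fun t ht => by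
        simp only [Finset.mem_insert, Finset.mem_singleton]
        by_cases h : t = r
        · exact Or.inl h
        · exact Or.inr (hall t ht h)
      have := (Finset.card_le_card hsub).trans Finset.card_le_two
      omega
    exact Recog.eq_of_dvd_solvable hL (hc.1 r hr).1 (hc.1 s hs).1 (hc.1 t ht).1 hne htr.symm
      hts.symm hrL hsL (hc.1 t ht).2 (hc.2 r hr s hs hne) (hc.2 r hr t ht htr.symm)
      (hc.2 s hs t ht hts.symm)
  refine ⟨main K hK, fun hG => ?_⟩
  obtain ⟨r, hr, s, hs, hne⟩ := Finset.one_lt_card.1 (show 1 < ρ.card by omega)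
  exact hne (main ⊤ inferInstance r hr s hs (by rw [Subgroup.card_top]; exact (hc.1 r hr).2)
    (by rw [Subgroup.card_top]; exact (hc.1 s hs).2))

end Cfsg.Agent.S3633
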