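import Cfsg.Statements.S3639
import Cfsg.Agent.Lib.Recog.PrimeGraph
import Cfsg.Agent.Lib.Recog.SuzukiOdd
import Cfsg.Agent.Lib.WordLaws.Suzuki

set_option autoImplicit false
open Cfsg

namespace Cfsg.Agent.S3639

/-- Let S be the Suzuki group over the field with q = 2^(2m+1) ≥ 8 elements. Then there are finite groups of arbitrarily large order with the same prime graph as S. -/
theorem result {F : Type*} [Field F] [Fintype F] {m : ℕ} (hm : 1 ≤ m) (hF : Fintype.card F = 2 ^ (2 * m + 1)) (N : ℕ) :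
    ∃ (H : Type) (_ : Group H) (_ : Fintype H), N < Fintype.card H ∧ ((∀ r : ℕ, r.Prime → (r ∣ Nat.card ↥(Cfsg.Lie.Sz F (2 ^ (m + 1))) ↔ r ∣ Nat.card H)) ∧
      (∀ r s : ℕ, r.Prime → s.Prime → r ≠ s → ((∃ x : ↥(Cfsg.Lie.Sz F (2 ^ (m + 1))), orderOf x = r * s) ↔ (∃ y : H, orderOf y = r * s)))) := by
  classical
  have : CharP F 2 := charP_of_card_eq_prime_pow (f := 2 * m + 1) hF
  let θ : F →+* F := iterateFrobenius F 2 (m + 1)
  have hθ : ∀ x, θ x = x ^ (2 ^ (m + 1)) := fun x => iterateFrobenius_def 2 (m + 1) x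
  have ht : (1 : F) ^ (2 ^ (m + 1) * 2 ^ (m + 1)) = 1 ^ 2 := by simp
  have hu := WordLaws.szLow_mem (m + 1) (1 : F) ht
  have hdvd : 2 ∣ Nat.card (Lie.Sz F (2 ^ (m + 1))) := by
    refine (dvd_of_eq (orderOf_eq_prime ?_ ?_).symm).trans
      (orderOf_dvd_natCard (⟨_, hu⟩ : Lie.Sz F (2 ^ (m + 1))))
    · apply Subtype.ext
      show (WordLaws.szLowHom (m + 1) 1 (Multiplicative.ofAdd (1 : F))) ^ 2 = 1
      rw [← map_pow]
      have : (Multiplicative.ofAdd (1 : F)) ^ 2 = 1 := by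
        rw [← ofAdd_nsmul, two_nsmul, CharTwo.add_self_eq_zero]; rfl
      rw [this, map_one]
    · intro h
      have := congrArg (fun z : Lie.Sz F (2 ^ (m + 1)) =>
        ((z : GL (Fin 4) F) : Matrix (Fin 4) (Fin 4) F) 3 1) h
      simp [WordLaws.coe_szLowHom, WordLaws.szLowM] at this
  refine (fun ⟨H, i1, i2, hN, h1, h2⟩ =>
    ⟨H, i1, i2, hN, fun r hr => by simpa using h1 r hr, h2⟩) (Recog.PrimeGraph.exists_primeGraph
    (Recog.PrimeGraph.vecAct (Lie.Sz F (2 ^ (m + 1))).subtype) (p := 2)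
    (Recog.PrimeGraph.vecAct_exp 2) (fun u v => mul_comm u v) hdvd ?_ N)
  intro g hg h2 v hv hfix
  obtain ⟨h0, h3⟩ := Recog.PrimeGraph.vecAct_fix _ hv hfix
  have h4 := Recog.SuzukiOdd.pow_four_eq_one
    (Recog.SuzukiOdd.szRel_of_mem θ hθ g.2) h0 h3
  have h5 : g ^ 4 = 1 := by
    apply Subtype.ext
    apply Units.ext
    simpa using h4
  have h6 : orderOf g ∣ 2 ^ 2 := orderOf_dvd_of_pow_eq_one h5
  exact absurd ((Nat.prime_dvd_prime_iff_eq hg Nat.prime_two).1 (hg.dvd_of_dvd_pow h6)) h2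

end Cfsg.Agent.S3639
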