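import Cfsg.Statements.S3641
import Cfsg.Agent.Lib.Blocks.SylowEighteen.Main

set_option autoImplicit false
open Cfsg

namespace Cfsg.Agent.S3641

open Blocks.Eighteen in
/-- The projective general linear groups over fields of the same order are isomorphic. -/
theorem pgl_congr {A : Type*} [Field A] {B : Type*} [Field B] (e : A ≃+* B) :
    Nonempty (Matrix.ProjGenLinGroup (Fin 2) A ≃* (GL (Fin 2) B ⧸ Subgroup.center (GL (Fin 2) B))) := by
  set φ : GL (Fin 2) A ≃* GL (Fin 2) B := Units.mapEquiv e.mapMatrix.toMulEquiv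
  refine ⟨QuotientGroup.congr _ _ φ ?_⟩
  ext y
  rw [Subgroup.mem_map, Subgroup.mem_center_iff]
  constructor
  · rintro ⟨x, hx, rfl⟩ g
    obtain ⟨g', rfl⟩ := φ.surjective g
    change φ g' * φ x = φ x * φ g'
    rw [← map_mul, ← map_mul, Subgroup.mem_center_iff.mp hx g']
  · intro hy
    refine ⟨φ.symm y, Subgroup.mem_center_iff.mpr fun g => φ.injective ?_, φ.apply_symm_apply y⟩
    rw [map_mul, map_mul, φ.apply_symm_apply]
    exact hy (φ g)

/-- Let G be a finite group with trivial centre whose set of Sylow numbers (numbers of Sylow r-subgroups, r over the prime divisors of its order) is exactly {18, 136, 153}. Then G is isomorphic to PSL(2, 17) or to PGL(2, 17). -/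
theorem result {G : Type*} [Group G] [Finite G] (hZ : Subgroup.center G = ⊥) (hNS : {c : ℕ | ∃ r : ℕ, r.Prime ∧ r ∣ Nat.card G ∧ c = Nat.card (Sylow r G)} = ({18, 136, 153} : Set ℕ))
    {F : Type*} [Field F] [Fintype F] (hF : Fintype.card F = 17) :
    Nonempty (G ≃* Matrix.ProjectiveSpecialLinearGroup (Fin 2) F) ∨ Nonempty (G ≃* (GL (Fin 2) F ⧸ Subgroup.center (GL (Fin 2) F))) := by
  classical
  haveI := Fintype.ofFinite (Sylow 17 G)
  have A := Blocks.Eighteen.act (G := G) hNS
  have e : G ≃* (Blocks.Eighteen.hom G).range :=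
    MonoidHom.ofInjective (Blocks.Eighteen.injective hZ hNS hF)
  obtain ⟨-, -, ⟨-, ⟨i⟩⟩ | h⟩ := A.structure_cases hF
  · exact Or.inl ⟨e.trans i⟩
  · right
    obtain ⟨h3, hsharp⟩ := A.three_transitive h
    obtain ⟨F', i1, i2, hF', ⟨j⟩⟩ := Cfsg.Agent.S0730.result (α := Sylow 17 G) (p := 17) (f := 1)
      (by norm_num) (by norm_num) odd_one
      (by rw [← Nat.card_eq_fintype_card, A.card]; norm_num) (Blocks.Eighteen.hom G).range h3 hsharp
    obtain ⟨k⟩ := pgl_congr (FiniteField.ringEquivOfCardEq (K := F') (K' := F) (by rw [hF', hF]; norm_num))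
    exact ⟨(e.trans j).trans k⟩

end Cfsg.Agent.S3641
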