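import Cfsg.Statements.S3662
import Cfsg.Agent.S1059
import Cfsg.Agent.Lib.G2Six.Model
import Cfsg.Agent.Lib.Chev.SL2
import Cfsg.Agent.Lib.Chev.AllC
import Cfsg.Agent.Lib.Chev.BN
import Cfsg.Agent.Lib.Forms.SpOrder
import Cfsg.Agent.Lib.Forms.SpSimple
import Cfsg.Agent.Lib.Recog.PrimeGraph

set_option autoImplicit false
open Cfsg

namespace Cfsg.Agent.S3662

open Cfsg.Agent
open scoped MatrixGroups

theorem exists_omega {F : Type*} [Field F] [Fintype F] [CharP F 2] (hF : Fintype.card F = 4) :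
    ∃ w : F, w * w + w + 1 = 0 := by
  classical
  obtain ⟨w, hw⟩ : ∃ w : F, w ∉ ({0, 1} : Finset F) := by
    by_contra hc
    push Not at hc
    have := (Finset.card_le_card (s := Finset.univ) fun x _ => hc x).trans Finset.card_le_two
    rw [Finset.card_univ, hF] at this
    norm_num at this
  simp only [Finset.mem_insert, Finset.mem_singleton, not_or] at hw
  have h4 := FiniteField.pow_card w
  rw [hF] at h4
  refine ⟨w, ?_⟩
  have : w * (w - 1) * (w * w + w + 1) = 0 := by linear_combination h4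
  rcases mul_eq_zero.1 this with h | h
  · rcases mul_eq_zero.1 h with h | h
    · exact absurd h hw.1
    · exact absurd (sub_eq_zero.1 h) hw.2
  · exact h

theorem sl2_orders {F : Type*} [Field F] [CharP F 2] {w : F} (hw : w * w + w + 1 = 0) :
    (Chev.sU (1 : F) * Chev.sL 1) ^ 3 = 1 ∧ (Chev.sU (1 : F) * Chev.sL w) ^ 5 = 1 := by
  have two : (2 : F) = 0 := CharTwo.two_eq_zero
  constructor <;> apply Subtype.ext <;> ext i j <;> fin_cases i <;> fin_cases j <;>
    simp [pow_succ, Chev.coe_sU, Chev.coe_sL, Matrix.SpecialLinearGroup.coe_mul, Matrix.mul_apply,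
      Fin.sum_univ_two] <;> grind

theorem witness {F : Type*} [Field F] [Fintype F] [CharP F 2] (hF : Fintype.card F = 4) :
    (∃ x : ↥(Cfsg.Lie.chevG2.group F), orderOf x = 2) ∧
    (∃ x : ↥(Cfsg.Lie.chevG2.group F), orderOf x = 2 * 3) ∧
      ∃ x : ↥(Cfsg.Lie.chevG2.group F), orderOf x = 2 * 5 := by
  obtain ⟨w, hw⟩ := exists_omega hF
  have hw0 : w ≠ 0 := fun h => by simp [h] at hw
  have hp : (7 : ℕ) < Chev.G2.pk.nroots := by decide
  have hp4 : (4 : ℕ) < Chev.G2.pk.nroots := by decide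
  have hp11 : (11 : ℕ) < Chev.G2.pk.nroots := by decide
  obtain ⟨φ, -, hU, hL⟩ := Chev.G2.ok.exists_sl2 (F := F) Chev.ckRefl_G2 hp
  have mem : ∀ (r : ℕ) (t : F), Chev.G2.ok.xG (F := F) r t ∈ Cfsg.Lie.chevG2.group F := fun r t => by
    by_cases hr : r < Chev.G2.pk.nroots
    · refine Subgroup.subset_closure ⟨⟨r, hr⟩, t, ?_⟩
      rw [Chev.G2.ok.coe_xG, Cfsg.Lie.ChevalleyDatum.x, dif_pos (show r < Cfsg.Lie.chevG2.nroots from hr)]
    · rw [Chev.Ok.xG, dif_neg hr]
      exact one_mem _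
  have hng : Chev.G2.pk.ng 7 = 4 := by decide
  rw [hng] at hL
  have hz : orderOf (⟨_, mem 11 (1 : F)⟩ : ↥(Cfsg.Lie.chevG2.group F)) = 2 := by
    refine orderOf_eq_prime (Subtype.ext ?_) fun h => ?_
    · show Chev.G2.ok.xG 11 (1 : F) ^ 2 = 1
      rw [pow_two, Chev.G2.ok.xG_add, CharTwo.add_self_eq_zero, Chev.G2.ok.xG_zero]
    · have := Chev.G2.ok.xG_inj_param hp11 ((congrArg Subtype.val h).trans (Chev.G2.ok.xG_zero 11).symm)
      exact one_ne_zero this
  have comm : ∀ r, r = 7 ∨ r = 4 → ∀ t : F, Commute (Chev.G2.ok.xG 11 (1 : F)) (Chev.G2.ok.xG r t) := by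
    intro r hr t
    have hr' : r < Chev.G2.pk.nroots := by rcases hr with rfl | rfl <;> decide
    have he : Chev.G2.pk.cword 11 r = [] := by rcases hr with rfl | rfl <;> decide +kernel
    refine (Units.ext ?_).symm
    rw [Units.val_mul, Units.val_mul, Chev.G2.ok.coe_xG' hr', Chev.G2.ok.coe_xG' hp11,
      Chev.G2.ok.comm_formula Chev.ckComm_G2 hp11 hr' (by omega) (by rcases hr with rfl | rfl <;> decide),
      he]
    simp [Chev.monWord]
  have build : ∀ (l : ℕ) (s : F), l.Prime → l ≠ 2 → s ≠ 0 → (Chev.sU (1 : F) * Chev.sL s) ^ l = 1 →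
      ∃ x : ↥(Cfsg.Lie.chevG2.group F), orderOf x = 2 * l := by
    intro l s hl hl2 hs he
    have := Fact.mk hl
    let y : ↥(Cfsg.Lie.chevG2.group F) :=
      ⟨_, mul_mem (mem 7 (1 : F)) (mem 4 s)⟩
    have hy : orderOf y = l := by
      refine orderOf_eq_prime (Subtype.ext ?_) fun h => ?_
      · show (Chev.G2.ok.xG 7 (1 : F) * Chev.G2.ok.xG 4 s) ^ l = 1
        rw [← hU, ← hL, ← map_mul, ← map_pow, he, map_one]
      · have e : Chev.G2.ok.xG 7 (1 : F) * Chev.G2.ok.xG 4 s = 1 := congrArg Subtype.val h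
        have e' : Chev.G2.ok.xG 4 s = Chev.G2.ok.xG 7 (1 : F) := by
          rw [mul_eq_one_iff_inv_eq, Chev.G2.ok.xG_inv, CharTwo.neg_eq] at e
          exact e.symm
        exact absurd (Chev.G2.ok.xG_index_inj hp4 hp hs e') (by decide)
    have hc : Commute (⟨_, mem 11 (1 : F)⟩ : ↥(Cfsg.Lie.chevG2.group F)) y :=
      Subtype.ext ((comm 7 (Or.inl rfl) 1).mul_right (comm 4 (Or.inr rfl) s))
    refine ⟨_, (hc.orderOf_mul_eq_mul_orderOf_of_coprime ?_).trans (by rw [hz, hy])⟩
    rw [hz, hy]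
    exact (Nat.coprime_primes Nat.prime_two hl).2 (Ne.symm hl2)
  exact ⟨⟨_, hz⟩, build 3 1 Nat.prime_three (by norm_num) one_ne_zero (sl2_orders hw).1,
    build 5 w (by norm_num) (by norm_num) hw0 (sl2_orders hw).2⟩

theorem stab_bound {F : Type*} [Field F] [Fintype F] (hF : Fintype.card F = 4)
    (s : FormsLib.SpIso 3 F) {v : Fin 3 ⊕ Fin 3 → F} (hv : v ≠ 0) (h : s.1 v = v) :
    orderOf s ∣ 4 ^ 9 * (15 * 255) := by
  classical
  have : Finite (FormsLib.SpIso 3 F) := Finite.of_equiv _ (FormsLib.spEquiv 3 F).toEquiv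
  have horb : MulAction.orbit (FormsLib.SpIso 3 F) v = {u | u ≠ 0} := by
    ext u
    constructor
    · rintro ⟨g, rfl⟩
      exact fun hg => hv (g.1.map_eq_zero_iff.1 hg)
    · intro hu
      obtain ⟨g, hg⟩ := FormsLib.spIso_exists_map_vec hv hu
      exact ⟨g, hg⟩
  have h1 := Nat.card_congr (MulAction.orbitProdStabilizerEquivGroup (FormsLib.SpIso 3 F) v)
  rw [Nat.card_prod, horb, ← Nat.card_congr (FormsLib.spEquiv 3 F).toEquiv,
    FormsLib.card_symplecticGroup, hF] at h1
  have h2 : Nat.card ({u : Fin 3 ⊕ Fin 3 → F | u ≠ 0} : Set _) = 4095 := by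
    show Nat.card {u : Fin 3 ⊕ Fin 3 → F // u ≠ 0} = 4095
    rw [Nat.card_eq_fintype_card, Fintype.card_subtype_compl, Fintype.card_subtype_eq,
      Fintype.card_fun, hF, Fintype.card_sum, Fintype.card_fin]
    norm_num
  rw [h2] at h1
  have h3 : Nat.card (MulAction.stabilizer (FormsLib.SpIso 3 F) v) = 4 ^ 9 * (15 * 255) := by
    refine Nat.eq_of_mul_eq_mul_left (show 0 < 4095 by norm_num) (h1.trans ?_)
    rw [Finset.prod_range_succ, Finset.prod_range_succ, Finset.prod_range_one]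
    norm_num
  rw [← h3, ← Subgroup.orderOf_mk s (show s ∈ MulAction.stabilizer (FormsLib.SpIso 3 F) v from h)]
  exact orderOf_dvd_natCard _

theorem core {F : Type*} [Field F] [Fintype F] [CharP F 2] (hF : Fintype.card F = 4) (N : ℕ) :
    ∃ (H : Type) (_ : Group H) (_ : Fintype H), N < Fintype.card H ∧
      ((∀ r : ℕ, r.Prime → (r ∣ Nat.card ↥(Cfsg.Lie.chevG2.group F) ↔ r ∣ Nat.card H)) ∧
        ∀ r s : ℕ, r.Prime → s.Prime → r ≠ s →
          ((∃ x : ↥(Cfsg.Lie.chevG2.group F), orderOf x = r * s) ↔ ∃ y : H, orderOf y = r * s)) := by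
  classical
  obtain ⟨⟨x2, hx2⟩, h6, h10⟩ := witness hF
  obtain ⟨π, hπ, hsp⟩ := G2Six.exists_rep (F := F)
  let ρ : ↥(Cfsg.Lie.chevG2.group F) →* FormsLib.SpIso 3 F :=
    (FormsLib.spEquiv 3 F).toMonoidHom.comp
      { toFun := fun g => ⟨_, hsp g⟩
        map_one' := Subtype.ext (by simp)
        map_mul' := fun a b => Subtype.ext (by simp) }
  have hρ : Function.Injective ρ := fun a b hab =>
    hπ (Units.ext (congrArg Subtype.val ((FormsLib.spEquiv 3 F).injective hab)))
  refine Recog.PrimeGraph.exists_primeGraph (Recog.PrimeGraph.vecAct π) (p := 2)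
    (Recog.PrimeGraph.vecAct_exp 2) (fun u v => mul_comm u v) (hx2 ▸ orderOf_dvd_natCard x2) ?_ N
  intro g hg h2 v hv hfix
  obtain ⟨h0, h1⟩ := Recog.PrimeGraph.vecAct_fix π hv hfix
  have hd : orderOf g ∣ 4 ^ 9 * (15 * 255) := by
    rw [← orderOf_injective ρ hρ g]
    exact stab_bound hF (ρ g) h0 (by rw [MonoidHom.comp_apply]; exact h1)
  have hG : orderOf g ∣ 4 ^ 6 * (15 * 4095) := by
    have := orderOf_dvd_natCard g
    rw [S1059.result hF] at this
    simpa [mul_assoc] using this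
  have h15 : orderOf g ∣ 15 := by
    have hcop : Nat.Coprime (orderOf g) 4 := (Nat.coprime_primes hg Nat.prime_two).2 h2 |>.pow_right 2
    have a := (hcop.pow_right 9).dvd_of_dvd_mul_left hd
    have b := (hcop.pow_right 6).dvd_of_dvd_mul_left hG
    exact hg.dvd_of_dvd_pow (n := 2) ((Nat.dvd_gcd a b).trans (by norm_num))
  rcases (Nat.Prime.dvd_mul hg).1 (h15.trans (dvd_of_eq (by norm_num : 15 = 3 * 5))) with h | h
  · rw [(Nat.prime_dvd_prime_iff_eq hg Nat.prime_three).1 h]; exact h6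
  · rw [(Nat.prime_dvd_prime_iff_eq hg (by norm_num)).1 h]; exact h10

/-- The prime graph of a finite group has the prime divisors of its order as vertices, two distinct primes p, q being joined when the group has an element of order pq; two groups have the same prime graph when they have the same prime divisors and the same joined pairs. Let F be the field with 4 elements and L the Chevalley group of type G₂ over F. There are finite groups of arbitrarily large order with the same prime graph as L. -/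
theorem result {F : Type*} [Field F] [Fintype F] (hF : Fintype.card F = 4) (N : ℕ) :
    ∃ (H : Type) (_ : Group H) (_ : Finite H), N < Nat.card H ∧
      ((∀ p : ℕ, p.Prime → (p ∣ Nat.card ↥(Cfsg.Lie.chevG2.group F) ↔ p ∣ Nat.card H)) ∧
      (∀ p q : ℕ, p.Prime → q.Prime → p ≠ q → ((∃ g : ↥(Cfsg.Lie.chevG2.group F), orderOf g = p * q) ↔ (∃ g : H, orderOf g = p * q)))) := by
  classical
  have : Fact (Nat.Prime 2) := ⟨Nat.prime_two⟩
  have : CharP F 2 := charP_of_card_eq_prime_pow (p := 2) (f := 2) (hF.trans (by norm_num))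
  obtain ⟨H, i1, i2, hN, hg⟩ := core hF N
  exact ⟨H, i1, inferInstance, by rwa [Nat.card_eq_fintype_card], hg⟩

end Cfsg.Agent.S3662
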