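import Cfsg.Statements.S3664
import Cfsg.Agent.Lib.Recog.SzEightGraph.GroupH
import Cfsg.Agent.Lib.Recog.SzEightGraph.SpFacts

set_option autoImplicit false
open Cfsg

namespace Cfsg.Agent.S3664

open Cfsg.Agent.Recog.SpSixThree Cfsg.Agent.Recog.SzEightGraph

theorem symp_map {R S : Type*} [CommRing R] [CommRing S] (f : R →+* S) {n : ℕ}
    {A : Matrix (Fin n ⊕ Fin n) (Fin n ⊕ Fin n) R} (hA : A ∈ Matrix.symplecticGroup (Fin n) R) :
    f.mapMatrix A ∈ Matrix.symplecticGroup (Fin n) S := by
  rw [SymplecticGroup.mem_iff] at hA ⊢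
  have hJ : f.mapMatrix (Matrix.J (Fin n) R) = Matrix.J (Fin n) S := by
    ext i j
    rcases i with i | i <;> rcases j with j | j <;> simp [Matrix.J, Matrix.one_apply, apply_ite f]
  have hT : f.mapMatrix A.transpose = (f.mapMatrix A).transpose := by
    simp [RingHom.mapMatrix_apply, Matrix.transpose_map]
  rw [← hJ, ← hT, ← map_mul, ← map_mul, hA]

theorem nonempty_equiv {F : Type*} [Field F] [Fintype F] (hF : Fintype.card F = 3) :
    Nonempty (Cfsg.PSp 3 (ZMod 3) ≃* Cfsg.PSp 3 F) := by
  let e : ZMod 3 ≃+* F := FiniteField.ringEquivOfCardEq ((ZMod.card 3).trans hF.symm)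
  let E : Sp63 ≃* Matrix.symplecticGroup (Fin 3) F :=
    { toFun := fun A => ⟨(e : ZMod 3 →+* F).mapMatrix A.1, symp_map _ A.2⟩
      invFun := fun A => ⟨(e.symm : F →+* ZMod 3).mapMatrix A.1, symp_map _ A.2⟩
      left_inv := fun A => Subtype.ext (Matrix.ext fun i j => e.symm_apply_apply _)
      right_inv := fun A => Subtype.ext (Matrix.ext fun i j => e.apply_symm_apply _)
      map_mul' := fun A B => Subtype.ext (map_mul (e : ZMod 3 →+* F).mapMatrix A.1 B.1) }
  refine ⟨QuotientGroup.congr _ _ E ?_⟩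
  ext x
  rw [Subgroup.mem_map]
  constructor
  · rintro ⟨y, hy, rfl⟩
    refine Subgroup.mem_center_iff.2 fun g => ?_
    have := congrArg E (Subgroup.mem_center_iff.1 hy (E.symm g))
    simpa using this
  · intro hx
    refine ⟨E.symm x, Subgroup.mem_center_iff.2 fun g => ?_, E.apply_symm_apply x⟩
    apply E.injective
    simpa using Subgroup.mem_center_iff.1 hx (E g)

theorem dvd_card_iff {p : ℕ} (hp : p.Prime) :
    p ∣ Nat.card (Cfsg.PSp 3 (ZMod 3)) ↔ p ∈ [2, 3, 5, 7, 13] := by
  rw [card_psp, show (4585351680 : ℕ) = 2 ^ 9 * (3 ^ 9 * (5 * (7 * 13))) by norm_num]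
  constructor
  · intro h
    simp only [List.mem_cons, List.not_mem_nil, or_false]
    rcases hp.dvd_mul.1 h with h | h
    · exact Or.inl ((Nat.prime_dvd_prime_iff_eq hp Nat.prime_two).1 (hp.dvd_of_dvd_pow h))
    rcases hp.dvd_mul.1 h with h | h
    · exact Or.inr (Or.inl ((Nat.prime_dvd_prime_iff_eq hp Nat.prime_three).1 (hp.dvd_of_dvd_pow h)))
    rcases hp.dvd_mul.1 h with h | h
    · exact Or.inr (Or.inr (Or.inl ((Nat.prime_dvd_prime_iff_eq hp (by norm_num)).1 h)))
    rcases hp.dvd_mul.1 h with h | h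
    · exact Or.inr (Or.inr (Or.inr (Or.inl ((Nat.prime_dvd_prime_iff_eq hp (by norm_num)).1 h))))
    · exact Or.inr (Or.inr (Or.inr (Or.inr ((Nat.prime_dvd_prime_iff_eq hp (by norm_num)).1 h))))
  · intro h
    simp only [List.mem_cons, List.not_mem_nil, or_false] at h
    rcases h with rfl | rfl | rfl | rfl | rfl <;> norm_num

theorem order_iff {p q : ℕ} (hp : p.Prime) (hq : q.Prime) (hpq : p ≠ q) :
    (∃ g : Cfsg.PSp 3 (ZMod 3), orderOf g = p * q) ↔ p * q ∈ edgeProducts := by
  constructor
  · rintro ⟨g, hg⟩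
    have h1 := psp_order g p q hq hpq hg
    have h2 := psp_order g q p hp hpq.symm (hg.trans (mul_comm p q))
    have hd : ∀ r, r.Prime → r ∣ p * q → r ∈ [2, 3, 5, 7, 13] := fun r hr hrd =>
      (dvd_card_iff hr).1 (hrd.trans (hg ▸ orderOf_dvd_natCard g))
    have a := hd p hp (dvd_mul_right p q)
    have b := hd q hq (dvd_mul_left q p)
    simp only [List.mem_cons, List.not_mem_nil, or_false] at a b
    rcases a with rfl | rfl | rfl | rfl | rfl <;> rcases b with rfl | rfl | rfl | rfl | rfl <;>
      first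
        | exact absurd rfl hpq
        | decide
        | (exfalso; exact h1.1 rfl)
        | (exfalso; exact h2.1 rfl)
        | (exfalso; have := h1.2 rfl; omega)
        | (exfalso; have := h2.2 rfl; omega)
  · intro h
    simp only [edgeProducts, List.mem_cons, List.not_mem_nil, or_false] at h
    rcases h with h | h | h | h <;> rw [h]
    · exact exists_order p6 2 3 Nat.prime_two Nat.prime_three p6_zero p6_succ p6_symp p6_checks
    · exact exists_order p10 2 5 Nat.prime_two (by norm_num) p10_zero p10_succ p10_symp p10_checks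
    · exact exists_order p14 2 7 Nat.prime_two (by norm_num) p14_zero p14_succ p14_symp p14_checks
    · exact exists_order p15 3 5 Nat.prime_three (by norm_num) p15_zero p15_succ p15_symp p15_checks

/-- The prime graph of a finite group has the prime divisors of its order as vertices, two distinct primes p, q being joined when the group has an element of order pq; two groups have the same prime graph when they have the same prime divisors and the same joined pairs. Let F be the field with 3 elements and L = PSp(6,F). There are finite groups of arbitrarily large order with the same prime graph as L (a prime graph shared by the orthogonal groups Ω₇(3) and PΩ⁺₈(3)). -/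
theorem result {F : Type*} [Field F] [Fintype F] (hF : Fintype.card F = 3) (N : ℕ) :
    ∃ (H : Type) (_ : Group H) (_ : Finite H), N < Nat.card H ∧
      ((∀ p : ℕ, p.Prime → (p ∣ Nat.card (Cfsg.PSp 3 F) ↔ p ∣ Nat.card H)) ∧
      (∀ p q : ℕ, p.Prime → q.Prime → p ≠ q → ((∃ g : (Cfsg.PSp 3 F), orderOf g = p * q) ↔ (∃ g : H, orderOf g = p * q)))) := by
  obtain ⟨e⟩ := nonempty_equiv hF
  obtain ⟨H, i1, i2, hN, hp, hpq⟩ := Cfsg.Agent.Recog.SzEightGraph.exists_group N
  refine ⟨H, i1, i2, hN, fun p hpp => ?_, fun p q hpp hqq hne => ?_⟩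
  · rw [← Nat.card_congr e.toEquiv, dvd_card_iff hpp, hp p hpp]
  · rw [hpq p q hpp hqq hne, ← order_iff hpp hqq hne]
    exact ⟨fun ⟨g, hg⟩ => ⟨e.symm g, (orderOf_injective e.symm.toMonoidHom e.symm.injective g).trans hg⟩,
      fun ⟨g, hg⟩ => ⟨e g, (orderOf_injective e.toMonoidHom e.injective g).trans hg⟩⟩

end Cfsg.Agent.S3664
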