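import Cfsg.Statements.S3669
import Cfsg.Agent.S0987
import Cfsg.Agent.Lib.SmallSimple.SylowFive
import Cfsg.Agent.Lib.SmallSimple.Alternating
import Cfsg.Agent.Lib.CT.Degree

set_option autoImplicit false
open Cfsg

namespace Cfsg.Agent.S3669

theorem divisors_sixty : ∀ d : Fin 61, d.val ∣ 60 → d.val ≠ 1 → d.val ≠ 60 →
    (5 ∣ d.val ∧ (d.val = 30 ∨ d.val ∈ ({5, 10, 15, 20} : Finset ℕ))) ∨ d.val ∈ ({2, 3, 4, 6, 12} : Finset ℕ) := by
  decide

/-- The character degree graph of a finite group has as vertices the primes dividing some irreducible complex character degree, two distinct primes being joined when their product divides some irreducible character degree; two groups have the same character degree graph when they have the same vertices and the same joined pairs. A finite group of order 60 with the same character degree graph as the alternating group A₅ (whose character degrees are 1, 3, 4, 5, so the graph has vertices 2, 3, 5 and no edges) is isomorphic to A₅. -/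
theorem result {G : Type*} [Group G] [Finite G] (hcard : Nat.card G = 60)
    (hΓ : Cfsg.degreePrimes G = Cfsg.degreePrimes (alternatingGroup (Fin 5)) ∧ Cfsg.degreeGraph G = Cfsg.degreeGraph (alternatingGroup (Fin 5))) : Nonempty (G ≃* alternatingGroup (Fin 5)) := by
  classical
  by_contra hne
  have h5 : Fact (Nat.Prime 5) := ⟨by norm_num⟩
  -- five is a degree prime of the alternating group
  have hA : 5 ∈ Cfsg.degreePrimes (alternatingGroup (Fin 5)) := by
    let A := alternatingGroup (Fin 5)
    have h60 : Nat.card A = 60 := by
      rw [Nat.card_eq_fintype_card]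
      decide +kernel
    have hpairs : Nat.card { p : A × A // Commute p.1 p.2 } = 300 := by
      have h : ((Finset.univ : Finset (A × A)).filter fun p => p.1 * p.2 = p.2 * p.1).card = 300 := by
        decide +kernel
      rw [Nat.card_eq_fintype_card, Fintype.card_subtype]
      convert h using 3
      exact Iff.rfl
    have hk : Nat.card (IrrCharacter A) = 5 := by
      rw [CT.card_irr_eq_card_conjClasses]
      rw [card_comm_eq_card_conjClasses_mul_card, h60] at hpairs
      omega
    let e : IrrCharacter A := ⟨fun _ => 1, CT.isIrrCharacter_one⟩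
    let σ₀ : Fin 5 ≃ IrrCharacter A := (Finite.equivFinOfCardEq hk).symm
    let σ : Fin 5 ≃ IrrCharacter A := (Equiv.swap 0 (σ₀.symm e)).trans σ₀
    have hσ : σ 0 = e := by simp [σ]
    have hsq := CT.sum_degree_sq (G := A)
    rw [← σ.sum_comp, Fin.sum_univ_five, h60] at hsq
    have hdeg : ∀ χ : IrrCharacter A, (χ : A → ℂ) 1 = (CT.deg (χ : A → ℂ) : ℂ) := fun χ =>
      CT.deg_eq (CT.isCharacter_of_isIrr χ.2)
    simp only [hdeg] at hsq
    rw [hσ] at hsq
    have he : CT.deg (e : A → ℂ) = 1 := by simp [CT.deg, e]
    rw [he] at hsq
    by_contra hno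
    have hrng : ∀ i : Fin 5, i ≠ 0 → CT.deg (σ i : A → ℂ) ∈ ({2, 3, 4, 6, 12} : Finset ℕ) := by
      intro i hi
      have hd : CT.deg (σ i : A → ℂ) ∣ 60 := by
        have h := CT.deg_dvd_index_of_comm (⊥ : Subgroup A) (σ i).2 (fun a b => Subsingleton.elim _ _)
        rwa [Subgroup.index_bot, h60] at h
      have h5 : ¬ 5 ∣ CT.deg (σ i : A → ℂ) := fun h => hno ⟨by norm_num, _, ⟨σ i, rfl⟩, h⟩
      have h1 : CT.deg (σ i : A → ℂ) ≠ 1 := by
        intro h1
        obtain ⟨lam, hlam⟩ := CT.exists_hom_of_degree_one (CT.isCharacter_of_isIrr (σ i).2)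
          (by rw [hdeg, h1, Nat.cast_one])
        rcases alternatingGroup.isSimpleGroup_five.eq_bot_or_eq_top_of_normal lam.ker inferInstance with hb | ht
        · have hinj := (MonoidHom.ker_eq_bot_iff lam).1 hb
          have hnc : ¬ ∀ a b : A, a * b = b * a := by decide +kernel
          exact hnc fun a b => hinj (by rw [map_mul, map_mul, mul_comm])
        · apply hi
          apply σ.injective
          rw [hσ]
          apply Subtype.ext
          rw [hlam]
          funext g
          have : lam g = 1 := MonoidHom.mem_ker.1 (ht ▸ Subgroup.mem_top g)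
          simp [this, e]
      have hle := Nat.le_of_dvd (by norm_num) hd
      rcases eq_or_ne (CT.deg (σ i : A → ℂ)) 60 with h | h
      · exact absurd (h ▸ (by norm_num : 5 ∣ 60)) h5
      rcases divisors_sixty ⟨_, Nat.lt_succ_of_le hle⟩ hd h1 h with ⟨h', -⟩ | h'
      · exact absurd h' h5
      · exact h'
    have hsq' : 1 ^ 2 + CT.deg (σ 1 : A → ℂ) ^ 2 + CT.deg (σ 2 : A → ℂ) ^ 2 +
        CT.deg (σ 3 : A → ℂ) ^ 2 + CT.deg (σ 4 : A → ℂ) ^ 2 = 60 := by exact_mod_cast hsq
    have key : ∀ a ∈ ({2, 3, 4, 6, 12} : Finset ℕ), ∀ b ∈ ({2, 3, 4, 6, 12} : Finset ℕ),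
        ∀ c ∈ ({2, 3, 4, 6, 12} : Finset ℕ), ∀ d ∈ ({2, 3, 4, 6, 12} : Finset ℕ),
        1 ^ 2 + a ^ 2 + b ^ 2 + c ^ 2 + d ^ 2 ≠ 60 := by decide
    exact key _ (hrng 1 (by decide)) _ (hrng 2 (by decide)) _ (hrng 3 (by decide)) _ (hrng 4 (by decide)) hsq'
  rw [← hΓ.1] at hA
  obtain ⟨-, d, ⟨χ, hχ⟩, h5d⟩ := hA
  obtain ⟨P⟩ : Nonempty (Sylow 5 G) := inferInstance
  have hP : Nat.card P = 5 := by
    rw [SmallSimple.card_sylow_of_eq (k := 1) (m := 12) P (by rw [hcard]; norm_num) (by norm_num), pow_one]
  have hn5 : Nat.card (Sylow 5 G) ≠ 1 := by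
    intro h1
    haveI := (Nat.card_eq_one_iff_unique.1 h1).1
    haveI := Sylow.normal_of_subsingleton P
    haveI : IsCyclic (P : Subgroup G) := isCyclic_of_prime_card hP
    haveI := Fintype.ofFinite G
    haveI := Fintype.ofFinite (P : Subgroup G)
    have h := CT.deg_dvd_index_of_comm (P : Subgroup G) χ.2 (fun a b => IsCyclic.commGroup.mul_comm a b)
    have h2 := Subgroup.card_mul_index (P : Subgroup G)
    rw [hP, hcard] at h2
    rw [show (P : Subgroup G).index = 12 by omega] at h
    rw [← hχ] at h5d
    exact absurd (h5d.trans h) (by norm_num)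
  have hn6 : Nat.card (Sylow 5 G) = 6 := by
    have hd := P.card_dvd_index
    have h2 := Subgroup.card_mul_index (P : Subgroup G)
    rw [hP, hcard] at h2
    rw [show (P : Subgroup G).index = 12 by omega] at hd
    have hm := card_sylow_modEq_one 5 G
    rw [Nat.ModEq] at hm
    have hle := Nat.le_of_dvd (by norm_num) hd
    interval_cases hn : Nat.card (Sylow 5 G) <;> omega
  have hN10 : ∀ R : Sylow 5 G, Nat.card (Subgroup.normalizer ((R : Subgroup G) : Set G)) = 10 := by
    intro R
    have := SmallSimple.card_sylow_mul R
    rw [hn6, hcard] at this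
    omega
  -- in a subgroup of small order the Sylow five is normal
  have small : ∀ (M : Subgroup G) (R : Sylow 5 G), (R : Subgroup G) ≤ M →
      Nat.card M ∈ ({5, 10, 15, 20} : Finset ℕ) → M ≤ Subgroup.normalizer ((R : Subgroup G) : Set G) := by
    intro M R hRM hM
    have hR5 : Nat.card (R.subtype hRM : Subgroup M) = 5 := by
      have hR : Nat.card R = 5 := by
        rw [SmallSimple.card_sylow_of_eq (k := 1) (m := 12) R (by rw [hcard]; norm_num) (by norm_num), pow_one]
      exact (Nat.card_congr (Subgroup.subgroupOfEquivOfLe hRM).toEquiv).trans hR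
    have hd := (R.subtype hRM).card_dvd_index
    have h2 := Subgroup.card_mul_index ((R.subtype hRM : Subgroup M))
    rw [hR5] at h2
    have hm := card_sylow_modEq_one 5 M
    rw [Nat.ModEq] at hm
    have h1 : Nat.card (Sylow 5 M) = 1 := by
      have hidx : ((R.subtype hRM : Subgroup M)).index ∈ ({1, 2, 3, 4} : Finset ℕ) := by
        simp only [Finset.mem_insert, Finset.mem_singleton] at hM ⊢
        omega
      simp only [Finset.mem_insert, Finset.mem_singleton] at hidx
      have hle := Nat.le_of_dvd (by omega) hd
      omega
    haveI := (Nat.card_eq_one_iff_unique.1 h1).1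
    haveI hn := Sylow.normal_of_subsingleton (R.subtype hRM)
    exact (Subgroup.normal_subgroupOf_iff_le_normalizer hRM).1 hn
  -- every proper normal subgroup is trivial
  have hsimple : IsSimpleGroup G := by
    haveI : Nontrivial G := Finite.one_lt_card_iff_nontrivial.1 (by omega)
    refine ⟨fun N hN => or_iff_not_imp_left.2 fun hb => by_contra fun ht => ?_⟩
    have hNd : Nat.card N ∣ 60 := hcard ▸ Subgroup.card_subgroup_dvd_card N
    have hN1 : Nat.card N ≠ 1 := fun h => hb (Subgroup.card_eq_one.1 h)
    have hN60 : Nat.card N ≠ 60 := fun h => ht (Subgroup.eq_top_of_card_eq N (h.trans hcard.symm))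
    by_cases h5N : 5 ∣ Nat.card N
    · have hPN : (P : Subgroup G) ≤ N := by
        obtain ⟨x, hx⟩ := exists_prime_orderOf_dvd_card' (G := N) 5 h5N
        have hp : IsPGroup 5 (Subgroup.zpowers (x : G)) := IsPGroup.of_card (n := 1) (by
          rw [Nat.card_zpowers, Subgroup.orderOf_coe, hx, pow_one])
        obtain ⟨R, hR⟩ := hp.exists_le_sylow
        have hRc : Nat.card R = 5 := by
          rw [SmallSimple.card_sylow_of_eq (k := 1) (m := 12) R (by rw [hcard]; norm_num) (by norm_num), pow_one]
        have heq := Subgroup.eq_of_le_of_card_ge hR (by rw [hRc, Nat.card_zpowers, Subgroup.orderOf_coe, hx])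
        have hRN : (R : Subgroup G) ≤ N := heq ▸ Subgroup.zpowers_le.2 x.2
        obtain ⟨g, rfl⟩ := MulAction.exists_smul_eq G R P
        intro y hy
        rw [Sylow.coe_subgroup_smul, Subgroup.mem_pointwise_smul_iff_inv_smul_mem] at hy
        have := hN.conj_mem _ (hRN hy) g
        simpa [mul_assoc] using this
      have hnN : Nat.card (Sylow 5 N) = 6 := (SylowFive.card_sylow_of_normal P N hPN).trans hn6
      by_cases h30 : Nat.card N = 30
      · obtain ⟨R⟩ : Nonempty (Sylow 5 N) := inferInstance
        haveI := S0987.result 2 3 5 Nat.prime_two Nat.prime_three (by norm_num) (by norm_num) h30 R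
        haveI := Sylow.unique_of_normal R inferInstance
        rw [Nat.card_unique] at hnN
        omega
      · have hm : Nat.card N ∈ ({5, 10, 15, 20} : Finset ℕ) := by
          have hle := Nat.le_of_dvd (by norm_num) hNd
          rcases divisors_sixty ⟨_, Nat.lt_succ_of_le hle⟩ hNd hN1 hN60 with ⟨-, h | h⟩ | h
          · exact absurd h h30
          · exact h
          · simp only [Finset.mem_insert, Finset.mem_singleton] at h ⊢
            omega
        have hle := Subgroup.card_le_of_le (small N P hPN hm)
        have h2 := Subgroup.card_mul_index N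
        obtain ⟨R⟩ : Nonempty (Sylow 5 N) := inferInstance
        have hR5 : Nat.card R = 5 := by
          rw [SmallSimple.card_sylow_of_eq (k := 1) (m := Nat.card N / 5) R (by rw [pow_one, Nat.mul_div_cancel' h5N])
            (fun h => by
              simp only [Finset.mem_insert, Finset.mem_singleton] at hm
              omega), pow_one]
        have hd := R.card_dvd_index
        have h3 := Subgroup.card_mul_index (R : Subgroup N)
        rw [hR5] at h3
        have hle2 := Nat.le_of_dvd (Nat.pos_of_ne_zero Subgroup.index_ne_zero_of_finite) hd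
        simp only [Finset.mem_insert, Finset.mem_singleton] at hm
        omega
    · -- orders 2, 3, 4, 6, 12
      have hm : Nat.card N ∈ ({2, 3, 4, 6, 12} : Finset ℕ) := by
        have hle := Nat.le_of_dvd (by norm_num) hNd
        rcases divisors_sixty ⟨_, Nat.lt_succ_of_le hle⟩ hNd hN1 hN60 with ⟨h, -⟩ | h
        · exact absurd h h5N
        · exact h
      -- q-Sylow subgroup of N
      have key : ∀ Q : Subgroup G, Nat.card Q ∈ ({2, 3, 4} : Finset ℕ) →
          5 ∣ Nat.card (Subgroup.normalizer (Q : Set G)) → Nat.card Q = 2 := by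
        intro Q hQ h5
        obtain ⟨x, hx⟩ := exists_prime_orderOf_dvd_card' (G := Subgroup.normalizer (Q : Set G)) 5 h5
        have hp : IsPGroup 5 (Subgroup.zpowers (x : G)) := IsPGroup.of_card (n := 1) (by
          rw [Nat.card_zpowers, Subgroup.orderOf_coe, hx, pow_one])
        obtain ⟨R, hR⟩ := hp.exists_le_sylow
        have hRc : Nat.card R = 5 := by
          rw [SmallSimple.card_sylow_of_eq (k := 1) (m := 12) R (by rw [hcard]; norm_num) (by norm_num), pow_one]
        have heq := Subgroup.eq_of_le_of_card_ge hR (by rw [hRc, Nat.card_zpowers, Subgroup.orderOf_coe, hx])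
        have hRn : (R : Subgroup G) ≤ Subgroup.normalizer (Q : Set G) := heq ▸ Subgroup.zpowers_le.2 x.2
        have hQ' : Nat.Coprime (Nat.card R) (Nat.card Q) := by
          rw [hRc]
          simp only [Finset.mem_insert, Finset.mem_singleton] at hQ
          rcases hQ with h | h | h <;> rw [h] <;> norm_num
        have hdisj : (R : Subgroup G) ⊓ Q = ⊥ := Subgroup.inf_eq_bot_of_coprime hQ'
        have hK : Nat.card ↥((R : Subgroup G) ⊔ Q) = 5 * Nat.card Q := by
          have hcoe := Subgroup.coe_mul_of_left_le_normalizer_right (R : Subgroup G) Q hRn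
          have hinj : Function.Injective fun p : ↥(R : Subgroup G) × ↥Q => (p.1 : G) * p.2 := by
            rintro ⟨a, b⟩ ⟨c, d⟩ h
            have hmem : (c : G)⁻¹ * a ∈ (R : Subgroup G) ⊓ Q :=
              ⟨(R : Subgroup G).mul_mem ((R : Subgroup G).inv_mem c.2) a.2, by
                have : (c : G)⁻¹ * a = (d : G) * (b : G)⁻¹ := by
                  rw [eq_mul_inv_iff_mul_eq, mul_assoc, inv_mul_eq_iff_eq_mul]; exact h
                rw [this]; exact Q.mul_mem d.2 (Q.inv_mem b.2)⟩
            rw [hdisj, Subgroup.mem_bot, inv_mul_eq_one] at hmem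
            have hac : c = a := Subtype.ext hmem
            subst hac
            exact Prod.ext rfl (Subtype.ext (mul_left_cancel h))
          refine Eq.trans ?_ (congrArg (· * Nat.card Q) hRc)
          rw [← Nat.card_prod, ← Nat.card_range_of_injective hinj]
          refine Nat.card_congr (Equiv.setCongr ?_)
          rw [show (((R : Subgroup G) ⊔ Q : Subgroup G) : Set G) = _ from hcoe]
          ext y
          simp only [Set.mem_range, Prod.exists, Subtype.exists, Set.mem_mul, SetLike.mem_coe]
          constructor
          · rintro ⟨a, ha, b, hb, rfl⟩; exact ⟨a, ha, b, hb, rfl⟩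
          · rintro ⟨a, ha, b, hb, rfl⟩; exact ⟨a, ha, b, hb, rfl⟩
        have hle := small _ R le_sup_left (by
          rw [hK]
          simp only [Finset.mem_insert, Finset.mem_singleton] at hQ ⊢
          omega)
        have hd := Subgroup.card_dvd_of_le hle
        rw [hK, hN10] at hd
        simp only [Finset.mem_insert, Finset.mem_singleton] at hQ
        rcases hQ with h | h | h <;> rw [h] at hd ⊢ <;> omega
      haveI : Fact (Nat.Prime 3) := ⟨Nat.prime_three⟩
      by_cases h3 : 3 ∣ Nat.card N
      · obtain ⟨S⟩ : Nonempty (Sylow 3 N) := inferInstance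
        have hS : Nat.card S = 3 := by
          rw [SmallSimple.card_sylow_of_eq (k := 1) (m := Nat.card N / 3) S (by rw [pow_one, Nat.mul_div_cancel' h3])
            (fun h => by
              simp only [Finset.mem_insert, Finset.mem_singleton] at hm
              omega), pow_one]
        have htop := Sylow.normalizer_sup_eq_top S
        set Q := (S : Subgroup N).map N.subtype with hQdef
        have hQc : Nat.card Q = 3 := by
          rw [hQdef, Subgroup.card_map_of_injective N.subtype_injective, hS]
        have h5 : 5 ∣ Nat.card (Subgroup.normalizer (Q : Set G)) := by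
          have h1 : N.relIndex (Subgroup.normalizer (Q : Set G)) = N.index := by
            rw [← Subgroup.relIndex_top_right N, ← htop, Subgroup.relIndex_sup_right]
          have h2 : N.relIndex (Subgroup.normalizer (Q : Set G)) ∣ Nat.card (Subgroup.normalizer (Q : Set G)) :=
            Subgroup.relIndex_dvd_card _ _
          rw [h1] at h2
          refine dvd_trans ?_ h2
          have := Subgroup.card_mul_index N
          rw [hcard] at this
          exact ((Nat.prime_five.dvd_mul).1 (this ▸ (by norm_num : 5 ∣ 60))).resolve_left h5N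
        have := key Q (by rw [hQc]; simp) h5
        omega
      · have hm2 : Nat.card N = 2 ∨ Nat.card N = 4 := by
          simp only [Finset.mem_insert, Finset.mem_singleton] at hm
          omega
        have h5 : 5 ∣ Nat.card (Subgroup.normalizer (N : Set G)) := by
          rw [Subgroup.normalizer_eq_top, Subgroup.card_top, hcard]; norm_num
        rcases hm2 with h2 | h4
        swap
        · have := key N (by rw [h4]; simp) h5
          omega
        · -- the quotient has order thirty
          have hq : Nat.card (G ⧸ N) = 30 := by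
            have := Subgroup.card_eq_card_quotient_mul_card_subgroup N
            rw [hcard, h2] at this
            omega
          let π := QuotientGroup.mk' N
          let Pb := P.mapSurjective (QuotientGroup.mk'_surjective N)
          haveI := S0987.result 2 3 5 Nat.prime_two Nat.prime_three (by norm_num) (by norm_num) hq Pb
          set M := (Pb : Subgroup (G ⧸ N)).comap π with hMdef
          have hPM : (P : Subgroup G) ≤ M := fun y hy =>
            Subgroup.mem_comap.2 (Sylow.coe_mapSurjective (QuotientGroup.mk'_surjective N) P ▸ Subgroup.mem_map_of_mem π hy)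
          have hMc : Nat.card M = 10 := by
            have hPb : Nat.card Pb = 5 := by
              rw [SmallSimple.card_sylow_of_eq (k := 1) (m := 6) Pb (by rw [hq]; norm_num) (by norm_num), pow_one]
            have h1 : M.index = (Pb : Subgroup (G ⧸ N)).index :=
              Subgroup.index_comap_of_surjective _ (QuotientGroup.mk'_surjective N)
            have h3 := Subgroup.card_mul_index (Pb : Subgroup (G ⧸ N))
            rw [hPb, hq] at h3
            have h4 := Subgroup.card_mul_index M
            rw [hcard, h1, show (Pb : Subgroup (G ⧸ N)).index = 6 by omega] at h4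
            omega
          haveI : M.Normal := Subgroup.Normal.comap inferInstance π
          have hnM := (SylowFive.card_sylow_of_normal P M hPM).trans hn6
          obtain ⟨R⟩ : Nonempty (Sylow 5 M) := inferInstance
          have hR5 : Nat.card R = 5 := by
            rw [SmallSimple.card_sylow_of_eq (k := 1) (m := 2) R (by rw [hMc]; norm_num) (by norm_num), pow_one]
          have hd := R.card_dvd_index
          have h3 := Subgroup.card_mul_index (R : Subgroup M)
          rw [hR5, hMc] at h3
          rw [show (R : Subgroup M).index = 2 by omega, hnM] at hd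
          omega
  exact hne (SmallSimple.mulEquiv_alternating_five hcard)

end Cfsg.Agent.S3669
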