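import Cfsg.Statements.S3670
import Cfsg.Agent.S0280
import Cfsg.Agent.S0283
import Cfsg.Agent.Lib.Recog.TriangleDeg.Solvable
import Cfsg.Agent.Lib.Recog.TriangleDeg.Count
import Cfsg.Agent.Lib.Recog.TriangleDeg.Model

set_option autoImplicit false
open Cfsg

namespace Cfsg.Agent.S3670

open Cfsg.Agent.Recog.TriangleDeg Cfsg.Agent.Recog.PSUThreeThreeSpectrum

theorem card_psu (F : Type*) [Field F] [Fintype F] (hF : Fintype.card F = 9) :
    Nat.card (Cfsg.PSU 3 F 3) = 6048 := by
  have h := Cfsg.Agent.S0280.result (F := F) (q := 3) (by rw [hF]; norm_num) 3 (by norm_num)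
  norm_num [Finset.prod_range_succ, Nat.even_iff] at h
  omega

theorem card_SU33 (F : Type*) [Field F] [Fintype F] (hF : Fintype.card F = 9) :
    Subgroup.center (Cfsg.SU 3 F 3) = ⊥ := by
  have h := UnitaryOrder.card_center_SU (q := 3) (F := F) (by rw [hF]; norm_num) 3 (by norm_num)
  rw [show Nat.gcd 3 (3 + 1) = 1 by decide] at h
  exact Subgroup.eq_bot_of_card_eq _ h

theorem mk_bijective (F : Type*) [Field F] [Fintype F] (hF : Fintype.card F = 9) :
    Function.Bijective (QuotientGroup.mk' (Subgroup.center (Cfsg.SU 3 F 3))) := by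
  refine ⟨?_, QuotientGroup.mk'_surjective _⟩
  rw [← MonoidHom.ker_eq_bot_iff, QuotientGroup.ker_mk', card_SU33 F hF]

theorem card_L : Nat.card L = 6048 := by
  rw [Nat.card_eq_of_bijective _ (mk_bijective R9 card_R9)]
  exact card_psu R9 card_R9

theorem nonempty_equiv {F : Type*} [Field F] [Fintype F] (hF : Fintype.card F = 9) :
    Nonempty (L ≃* Cfsg.PSU 3 F 3) := by
  obtain ⟨f, hf⟩ := exists_frob hF
  obtain ⟨f9, hf9⟩ := exists_frob (F := R9) card_R9
  let e : R9 ≃+* F := FiniteField.ringEquivOfCardEq (card_R9.trans hF.symm)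
  let E := Matrix.SpecialLinearGroup.map (n := Fin 3) (e : R9 →+* F)
  have hmem : ∀ g : L, E g.1 ∈ Cfsg.SU 3 F 3 := by
    intro g
    rw [mem_SU_iff f hf]
    have h1 : (E g.1).1.map f = (g.1.1.map f9).map (e : R9 →+* F) := by
      ext i j
      show f (e (g.1.1 i j)) = e (f9 (g.1.1 i j))
      rw [hf, hf9, map_pow]
    rw [h1, show (E g.1).1 = g.1.1.map (e : R9 →+* F) from rfl, ← Matrix.transpose_map, ← Matrix.map_mul,
      (mem_SU_iff f9 hf9 g.1).1 g.2]
    simp
  let φ : L →* Cfsg.SU 3 F 3 := (E.comp (Cfsg.SU 3 R9 3).subtype).codRestrict _ hmem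
  have hinj : Function.Injective φ := fun a b h => Subtype.ext (Subtype.ext
    (Matrix.map_injective e.injective (congrArg (fun x : Cfsg.SU 3 F 3 => x.1.1) h)))
  let ψ := (QuotientGroup.mk' (Subgroup.center (Cfsg.SU 3 F 3))).comp φ
  have hψ : Function.Injective ψ := (mk_bijective F hF).1.comp hinj
  exact ⟨MulEquiv.ofBijective ψ (hψ.bijective_of_nat_card_le (by rw [card_L, card_psu F hF]))⟩

theorem adj_of_six {G : Type*} [Group G] (p q : ℕ) (hpq : p ≠ q)
    (hp : p = 2 ∨ p = 3 ∨ p = 7) (hq : q = 2 ∨ q = 3 ∨ q = 7)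
    (h : ∀ d ∈ ([6, 14, 21] : List ℕ), ∃ k ∈ Cfsg.charDegrees G, d ∣ k) :
    ∃ k ∈ Cfsg.charDegrees G, p * q ∣ k := by
  rcases hp with rfl | rfl | rfl <;> rcases hq with rfl | rfl | rfl <;>
    first | exact absurd rfl hpq | exact h _ (by norm_num)

theorem vertices_subset {G : Type*} [Group G] [Fintype G] (hG : Nat.card G = 6048) {p k : ℕ}
    (hp : p.Prime) (hk : k ∈ Cfsg.charDegrees G) (hd : p ∣ k) : p = 2 ∨ p = 3 ∨ p = 7 := by
  obtain ⟨χ, rfl⟩ := hk
  have h := hd.trans (hG ▸ deg_dvd_card χ.2 : CT.deg (χ : G → ℂ) ∣ 6048)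
  rw [show 6048 = 2 ^ 5 * (3 ^ 3 * 7) by norm_num] at h
  rcases hp.dvd_mul.1 h with h | h
  · exact Or.inl ((Nat.prime_dvd_prime_iff_eq hp Nat.prime_two).1 (hp.dvd_of_dvd_pow h))
  rcases hp.dvd_mul.1 h with h | h
  · exact Or.inr (Or.inl ((Nat.prime_dvd_prime_iff_eq hp Nat.prime_three).1 (hp.dvd_of_dvd_pow h)))
  · exact Or.inr (Or.inr ((Nat.prime_dvd_prime_iff_eq hp (by norm_num)).1 h))

theorem triangle_eq {G : Type} [Group G] [Fintype G] {K : Type*} [Group K] [Fintype K]
    (hG : Nat.card G = 6048) (hg : ∀ d ∈ ([6, 14, 21] : List ℕ), ∃ k ∈ Cfsg.charDegrees G, d ∣ k)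
    (hK : Nat.card K = 6048) (hk : ∀ d ∈ ([6, 14, 21] : List ℕ), ∃ k ∈ Cfsg.charDegrees K, d ∣ k) :
    Cfsg.degreePrimes G = Cfsg.degreePrimes K ∧ Cfsg.degreeGraph G = Cfsg.degreeGraph K := by
  constructor
  · ext p
    constructor <;> rintro ⟨hp, k, hk', hd⟩ <;> refine ⟨hp, ?_⟩
    · rcases vertices_subset hG hp hk' hd with rfl | rfl | rfl
      · obtain ⟨k, a, b⟩ := hk 14 (by norm_num)
        exact ⟨k, a, (show 2 ∣ 14 by norm_num).trans b⟩
      · obtain ⟨k, a, b⟩ := hk 6 (by norm_num)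
        exact ⟨k, a, (show 3 ∣ 6 by norm_num).trans b⟩
      · obtain ⟨k, a, b⟩ := hk 14 (by norm_num)
        exact ⟨k, a, (show 7 ∣ 14 by norm_num).trans b⟩
    · rcases vertices_subset hK hp hk' hd with rfl | rfl | rfl
      · obtain ⟨k, a, b⟩ := hg 14 (by norm_num)
        exact ⟨k, a, (show 2 ∣ 14 by norm_num).trans b⟩
      · obtain ⟨k, a, b⟩ := hg 6 (by norm_num)
        exact ⟨k, a, (show 3 ∣ 6 by norm_num).trans b⟩
      · obtain ⟨k, a, b⟩ := hg 14 (by norm_num)
        exact ⟨k, a, (show 7 ∣ 14 by norm_num).trans b⟩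
  · ext p q
    constructor <;> rintro ⟨hne, hp, hq, k, hk', hd⟩ <;> refine ⟨hne, hp, hq, ?_⟩
    · exact adj_of_six p q hne (vertices_subset hG hp hk' (dvd_of_mul_right_dvd hd))
        (vertices_subset hG hq hk' (dvd_of_mul_left_dvd hd)) hk
    · exact adj_of_six p q hne (vertices_subset hK hp hk' (dvd_of_mul_right_dvd hd))
        (vertices_subset hK hq hk' (dvd_of_mul_left_dvd hd)) hg

theorem psu_triangle {F : Type*} [Field F] [Fintype F] (hF : Fintype.card F = 9)
    [Fintype (Cfsg.PSU 3 F 3)] (e : L ≃* Cfsg.PSU 3 F 3) :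
    Nat.card (Cfsg.PSU 3 F 3) = 6048 ∧
      ∀ d ∈ ([6, 14, 21] : List ℕ), ∃ k ∈ Cfsg.charDegrees (Cfsg.PSU 3 F 3), d ∣ k := by
  classical
  haveI := Fintype.ofFinite L
  haveI := Fintype.ofFinite data.B
  haveI := Cfsg.Agent.S0283.result (F := F) (q := 3) (by rw [hF]; norm_num) 3 (by norm_num) (by norm_num)
  haveI : Nontrivial L := Finite.one_lt_card_iff_nontrivial.1 (by rw [card_L]; norm_num)
  haveI : IsSimpleGroup L := IsSimpleGroup.isSimpleGroup_of_surjective e.symm.toMonoidHom e.symm.surjective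
  have hperf : ∀ lam : L →* ℂˣ, lam = 1 := by
    intro lam
    rcases IsSimpleGroup.eq_bot_or_eq_top_of_normal lam.ker inferInstance with hb | ht
    · have hinj := (MonoidHom.ker_eq_bot_iff lam).1 hb
      have hc : lx * ly = ly * lx := hinj (by rw [map_mul, map_mul, mul_comm])
      have hne : sx * sy ≠ sy * sx := by decide +kernel
      exact absurd (congrArg Subtype.val hc) hne
    · exact MonoidHom.ker_eq_top_iff.1 ht
  have transfer : ∀ χ : IrrCharacter L,
      Borel.dg χ ∈ Cfsg.charDegrees (Cfsg.PSU 3 F 3) := by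
    intro χ
    refine ⟨⟨fun g => (χ : L → ℂ) (e.symm g),
      CT.isIrrCharacter_comp e.symm.toMonoidHom e.symm.surjective χ.2⟩, ?_⟩
    show ⌊((χ : L → ℂ) (e.symm 1)).re⌋₊ = _
    rw [map_one]
    rfl
  refine ⟨card_psu F hF, fun d hd => ?_⟩
  obtain ⟨a, ha⟩ := data.exists_dg_six card_L hperf
  obtain ⟨b, hb⟩ := data.exists_dg_twentyone card_L hperf
  obtain ⟨c, hc⟩ := data.exists_dg_twentyeight card_L
  simp only [List.mem_cons, List.not_mem_nil, or_false] at hd
  rcases hd with rfl | rfl | rfl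
  · exact ⟨_, transfer a, ha⟩
  · exact ⟨_, transfer c, by rw [hc]; norm_num⟩
  · exact ⟨_, transfer b, by rw [hb]⟩

/-- The character degree graph of a finite group has as vertices the primes dividing some irreducible complex character degree, two distinct primes being joined when their product divides some irreducible character degree; two groups have the same character degree graph when they have the same vertices and the same joined pairs. Let F be the field with 9 elements and L = PSU(3,3) realised over F (order 6048). There is a finite solvable group of order 6048 with the same character degree graph as L; so L is not determined by its order together with its character degree graph. -/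
theorem result {F : Type*} [Field F] [Fintype F] (hF : Fintype.card F = 9) :
    ∃ (H : Type) (_ : Group H) (_ : Fintype H), Group.IsSolvable H ∧ Nat.card H = 6048 ∧ Cfsg.degreePrimes H = Cfsg.degreePrimes (Cfsg.PSU 3 F 3) ∧ Cfsg.degreeGraph H = Cfsg.degreeGraph (Cfsg.PSU 3 F 3) := by
  classical
  haveI : Finite (Cfsg.PSU 3 F 3) := inferInstance
  haveI := Fintype.ofFinite (Cfsg.PSU 3 F 3)
  obtain ⟨e⟩ := nonempty_equiv hF
  obtain ⟨χ, hχ, h42⟩ := exists_irr_fortytwo
  refine ⟨H, inferInstance, inferInstance, solvable_H, card_H, ?_⟩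
  have hH : ∀ d ∈ ([6, 14, 21] : List ℕ), ∃ k ∈ Cfsg.charDegrees H, d ∣ k := by
    intro d hd
    refine ⟨42, ⟨⟨χ, hχ⟩, ?_⟩, ?_⟩
    · show ⌊(χ 1).re⌋₊ = 42
      rw [h42]; norm_num
    · simp only [List.mem_cons, List.not_mem_nil, or_false] at hd
      rcases hd with rfl | rfl | rfl <;> norm_num
  exact triangle_eq card_H hH (psu_triangle hF e).1 (psu_triangle hF e).2

end Cfsg.Agent.S3670
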