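import Cfsg.Statements.S3678
import Cfsg.Agent.Lib.Recog.PrimeGraph
import Mathlib

set_option autoImplicit false
open Cfsg

namespace Cfsg.Agent.S3678

/-- The prime graph of a finite group has the prime divisors of its order as vertices, two distinct primes p, q being joined when the group has an element of order pq; two groups have the same prime graph when they have the same prime divisors and the same joined pairs. Let F be the field with 7 elements. There are finite groups of arbitrarily large order with the same prime graph as PSL(2,F) (the graph on {2, 3, 7} with no edges, which is also the prime graph of PSL(2,8)). -/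
theorem result {F : Type*} [Field F] [Fintype F] (hF : Fintype.card F = 7) (N : ℕ) :
    ∃ (H : Type) (_ : Group H) (_ : Finite H), N < Nat.card H ∧
      ((∀ p : ℕ, p.Prime → (p ∣ Nat.card (Matrix.ProjectiveSpecialLinearGroup (Fin 2) F) ↔ p ∣ Nat.card H)) ∧
      (∀ p q : ℕ, p.Prime → q.Prime → p ≠ q → ((∃ g : (Matrix.ProjectiveSpecialLinearGroup (Fin 2) F), orderOf g = p * q) ↔ (∃ g : H, orderOf g = p * q)))) := by
  classical
  have h7 : Fact (Nat.Prime 7) := ⟨by norm_num⟩
  have : CharP F 7 := charP_of_card_eq_prime_pow (f := 1) (by rw [hF]; norm_num)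
  have h2f : Fact (Nat.Prime 2) := ⟨Nat.prime_two⟩
  let K := GaloisField 2 3
  have : Fintype K := Fintype.ofFinite K
  have hK : Fintype.card K = 8 := by
    rw [← Nat.card_eq_fintype_card, GaloisField.card 2 3 (by norm_num)]; norm_num
  let f : Matrix.SpecialLinearGroup (Fin 2) K →* Recog.PGLTwo.PGL K :=
    (QuotientGroup.mk' _).comp Matrix.SpecialLinearGroup.toGL
  have hsurj : Function.Surjective f := by
    intro x
    obtain ⟨g, rfl⟩ := QuotientGroup.mk_surjective x
    obtain ⟨c, hc⟩ := FiniteField.isSquare_of_char_two (ringChar.eq K 2)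
      (g : Matrix (Fin 2) (Fin 2) K).det
    have hd : (g : Matrix (Fin 2) (Fin 2) K).det ≠ 0 :=
      (g.isUnit.map Matrix.detMonoidHom).ne_zero
    have hc0 : c ≠ 0 := fun h => hd (by rw [hc, h, mul_zero])
    have hs : (c⁻¹ • (g : Matrix (Fin 2) (Fin 2) K)).det = 1 := by
      rw [Matrix.det_smul, hc, Fintype.card_fin, pow_two, mul_mul_mul_comm, inv_mul_cancel₀ hc0,
        one_mul]
    let s : Matrix.SpecialLinearGroup (Fin 2) K := ⟨_, hs⟩
    refine ⟨s, ?_⟩
    show (QuotientGroup.mk _ : Recog.PGLTwo.PGL K) = QuotientGroup.mk g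
    rw [QuotientGroup.eq, Matrix.GeneralLinearGroup.mem_center_iff_val_mem_range_scalar]
    refine ⟨c, ?_⟩
    have hg : (g : Matrix (Fin 2) (Fin 2) K) =
        (Matrix.SpecialLinearGroup.toGL s : Matrix (Fin 2) (Fin 2) K) * Matrix.scalar (Fin 2) c := by
      show _ = (c⁻¹ • (g : Matrix (Fin 2) (Fin 2) K)) * _
      rw [Matrix.scalar_apply, ← Matrix.smul_one_eq_diagonal, Matrix.mul_smul, mul_one, smul_smul,
        mul_inv_cancel₀ hc0, one_smul]
    rw [Units.val_mul, hg, ← mul_assoc, Units.inv_mul, one_mul]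
  have hpe : ∀ (n : ℕ) (r s : ℕ), r.Prime → s.Prime → r ≠ s → IsPrimePow n → ¬ r * s ∣ n := by
    intro n r s hr hs hrs ⟨p, k, hp, hk, hn⟩ h
    have hp' := Nat.prime_iff.2 hp
    subst hn
    exact hrs (((Nat.prime_dvd_prime_iff_eq hr hp').1 (hr.dvd_of_dvd_pow (dvd_of_mul_right_dvd h))).trans
      ((Nat.prime_dvd_prime_iff_eq hs hp').1 (hs.dvd_of_dvd_pow (dvd_of_mul_left_dvd h))).symm)
  have hp2 : IsPrimePow 2 := Nat.prime_two.isPrimePow
  have hp3 : IsPrimePow 3 := Nat.prime_three.isPrimePow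
  have hp4 : IsPrimePow 4 := ⟨2, 2, Nat.prime_two.prime, two_pos, rfl⟩
  have hp7 : IsPrimePow 7 := h7.out.isPrimePow
  have hp9 : IsPrimePow 9 := ⟨3, 2, Nat.prime_three.prime, two_pos, rfl⟩
  have hodd : Odd (Fintype.card F) := ⟨3, hF⟩
  have hP : ∀ x : Matrix.ProjectiveSpecialLinearGroup (Fin 2) F,
      orderOf x = 7 ∨ orderOf x ∣ 3 ∨ orderOf x ∣ 4 := fun x => by
    rcases Recog.PGLTwo.psl_orders (p := 7) hodd x with h | h | h
    · exact Or.inl h.1
    · rw [hF] at h; exact Or.inr (Or.inl h)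
    · rw [hF] at h; exact Or.inr (Or.inr h)
  have hS : ∀ x : Matrix.SpecialLinearGroup (Fin 2) K,
      orderOf x = 2 ∨ orderOf x ∣ 7 ∨ orderOf x ∣ 9 := fun x => by
    have := Recog.PrimeGraph.sl2_orders x
    rwa [hK] at this
  obtain ⟨H, i1, i2, hN, h1, h2⟩ := Recog.PrimeGraph.exists_sl2 (F := K) N
  refine ⟨H, i1, inferInstance, by rwa [Nat.card_eq_fintype_card], fun r hr => ?_,
    fun r s hr hs hrs => ?_⟩
  · rw [← h1 r hr]
    have hsl : ∀ d, (∃ x : Recog.PGLTwo.PGL K, orderOf x = d) →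
        d ∣ Nat.card (Matrix.SpecialLinearGroup (Fin 2) K) := by
      rintro d ⟨x, rfl⟩
      obtain ⟨y, rfl⟩ := hsurj x
      exact (orderOf_map_dvd f y).trans (orderOf_dvd_natCard y)
    have hpsl : ∀ d, (∃ x : Matrix.ProjectiveSpecialLinearGroup (Fin 2) F, orderOf x = d) →
        d ∣ Nat.card (Matrix.ProjectiveSpecialLinearGroup (Fin 2) F) := by
      rintro d ⟨x, rfl⟩; exact orderOf_dvd_natCard x
    have hfr := Fact.mk hr
    constructor <;> intro h <;> obtain ⟨x, hx⟩ := exists_prime_orderOf_dvd_card' r h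
    · have : r = 2 ∨ r = 3 ∨ r = 7 := by
        rcases hP x with h | h | h
        · omega
        · exact Or.inr (Or.inl ((Nat.prime_dvd_prime_iff_eq hr Nat.prime_three).1 (hx ▸ h)))
        · exact Or.inl ((Nat.prime_dvd_prime_iff_eq hr Nat.prime_two).1
            (hr.dvd_of_dvd_pow (show r ∣ 2 ^ 2 from hx ▸ h)))
      rcases this with rfl | rfl | rfl
      · exact hsl 2 (Recog.PGLTwo.exists_pgl_order_char (p := 2))
      · refine (show 3 ∣ 9 by norm_num).trans (hsl 9 ?_)
        simpa [hK] using Recog.PGLTwo.exists_pgl_order_add_one (F := K)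
      · refine hsl 7 ?_
        simpa [hK] using Recog.PGLTwo.exists_pgl_order_sub_one (F := K)
    · have : r = 2 ∨ r = 3 ∨ r = 7 := by
        rcases hS x with h | h | h
        · omega
        · exact Or.inr (Or.inr ((Nat.prime_dvd_prime_iff_eq hr h7.out).1 (hx ▸ h)))
        · exact Or.inr (Or.inl ((Nat.prime_dvd_prime_iff_eq hr Nat.prime_three).1
            (hr.dvd_of_dvd_pow (show r ∣ 3 ^ 2 from hx ▸ h))))
      rcases this with rfl | rfl | rfl
      · obtain ⟨s, hs, -⟩ := Recog.PGLTwo.exists_psl_elliptic (F := F) hodd (by omega)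
        refine (show 2 ∣ 4 by norm_num).trans (hpsl 4 ⟨_, by rw [hs, hF]⟩)
      · obtain ⟨s, hs, -⟩ := Recog.PGLTwo.exists_psl_split (F := F) hodd (by omega)
        exact hpsl 3 ⟨_, by rw [hs, hF]⟩
      · exact hpsl 7 (Recog.PGLTwo.exists_psl_order_char (p := 7))
  · rw [← h2 r s hr hs hrs]
    constructor
    · rintro ⟨x, hx⟩
      rcases hP x with h | h | h
      · exact absurd (dvd_of_eq (hx.symm.trans h)) (hpe _ r s hr hs hrs hp7)
      · exact absurd (hx ▸ h) (hpe _ r s hr hs hrs hp3)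
      · exact absurd (hx ▸ h) (hpe _ r s hr hs hrs hp4)
    · rintro ⟨x, hx⟩
      rcases hS x with h | h | h
      · exact absurd (dvd_of_eq (hx.symm.trans h)) (hpe _ r s hr hs hrs hp2)
      · exact absurd (hx ▸ h) (hpe _ r s hr hs hrs hp7)
      · exact absurd (hx ▸ h) (hpe _ r s hr hs hrs hp9)

end Cfsg.Agent.S3678
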