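import Cfsg.Statements.S3680
import Cfsg.Agent.Lib.PermGp.MinNormalPow
import Cfsg.Agent.Lib.Recog.Derangement

set_option autoImplicit false
open Cfsg

namespace Cfsg.Agent.S3680

/-- The socle of a finite primitive permutation group. Let a finite group G act faithfully and primitively on a set Ω, and let N be the subgroup generated by the minimal normal subgroups of G. Then either N is an elementary abelian p-group for some prime p and acts regularly on Ω (transitively with trivial point stabilizers), or N is isomorphic to a direct product of m ≥ 1 copies of a non-abelian simple group. -/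
theorem result {G Ω : Type*} [Group G] [Finite G] [MulAction G Ω] [FaithfulSMul G Ω] [Finite Ω]
    (hprim : MulAction.IsPreprimitive G Ω) (N : Subgroup G)
    (hN : N = sSup {V : Subgroup G | V.Normal ∧ V ≠ ⊥ ∧ ∀ M : Subgroup G, M.Normal → M ≤ V → M = ⊥ ∨ M = V}) :
    (∃ p : ℕ, p.Prime ∧ IsMulCommutative N ∧ (∀ x : N, x ^ p = 1) ∧
      MulAction.IsPretransitive N Ω ∧ ∀ ω : Ω, MulAction.stabilizer N ω = ⊥) ∨
    (∃ (T : Type) (_ : Group T) (m : ℕ), 1 ≤ m ∧ IsSimpleGroup T ∧ ¬ IsMulCommutative T ∧ Nonempty (N ≃* (Fin m → T))) := by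
  classical
  have := hprim
  let S : Set (Subgroup G) := {V | V.Normal ∧ V ≠ ⊥ ∧ ∀ M : Subgroup G, M.Normal → M ≤ V → M = ⊥ ∨ M = V}
  have hS : ∀ V, V ∈ S ↔ Recog.IsMinNormal V := fun V =>
    ⟨fun h => ⟨h.1, h.2.1, h.2.2⟩, fun h => ⟨h.normal, h.ne_bot, h.minimal⟩⟩
  have htr : ∀ V ∈ S, MulAction.IsPretransitive V Ω := fun V hV =>
    Recog.isPretransitive_of_normal hV.1 hV.2.1
  have hcent : ∀ V ∈ S, ∀ W ∈ S, W ≠ V → W ≤ Subgroup.centralizer (V : Set G) := by
    intro V hV W hW hne w hw
    rw [Subgroup.mem_centralizer_iff]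
    intro v hv
    have hb : V ⊓ W = ⊥ := by
      have := hV.1
      have := hW.1
      rcases hV.2.2 (V ⊓ W) inferInstance inf_le_left with h | h
      · exact h
      · rcases hW.2.2 (V ⊓ W) inferInstance inf_le_right with h' | h'
        · exact h'
        · exact absurd (h'.symm.trans h) hne
    exact Subgroup.commute_of_normal_of_disjoint V W hV.1 hW.1 (disjoint_iff.2 hb) v w hv hw
  -- an element centralising a transitive subgroup and fixing a point is trivial
  have hsemi : ∀ V ∈ S, ∀ x ∈ Subgroup.centralizer (V : Set G), ∀ ω : Ω, x • ω = ω → x = 1 := by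
    intro V hV x hx ω hω
    refine eq_of_smul_eq_smul (α := Ω) fun b => ?_
    obtain ⟨v, rfl⟩ := (htr V hV).exists_smul_eq ω b
    show x • ((v : G) • ω) = _
    rw [← mul_smul, ← Subgroup.mem_centralizer_iff.1 hx v v.2, mul_smul, hω, one_smul]
    rfl
  by_cases hA : ∃ A ∈ S, IsMulCommutative A
  · obtain ⟨A, hA, hAc⟩ := hA
    left
    have hAn := hA.1
    have : MulAction.IsPretransitive A Ω := htr A hA
    obtain ⟨p, hp, hexp⟩ := ((hS A).1 hA).exists_prime_pow_eq_one hAc
    have hNA : N = A := by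
      rw [hN]
      refine le_antisymm (sSup_le fun W hW => ?_) (le_sSup hA)
      by_cases hWA : W = A
      · exact hWA.le
      intro w hw
      rcases isEmpty_or_nonempty Ω with he | ⟨⟨ω⟩⟩
      · rw [show w = 1 from eq_of_smul_eq_smul (α := Ω) fun b => (IsEmpty.false b).elim]
        exact one_mem A
      obtain ⟨a, ha⟩ := MulAction.exists_smul_eq A ω (w • ω)
      have hc : (a : G)⁻¹ * w ∈ Subgroup.centralizer (A : Set G) := mul_mem (inv_mem (Subgroup.mem_centralizer_iff.2
        fun u hu => congrArg Subtype.val (hAc.is_comm.comm ⟨u, hu⟩ a))) (hcent A hA W hW hWA hw)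
      have := hsemi A hA _ hc ω (by rw [mul_smul, inv_smul_eq_iff]; exact ha.symm)
      rw [inv_mul_eq_one] at this
      exact this ▸ a.2
    subst hNA
    exact ⟨p, hp, hAc, fun x => Subtype.ext (hexp x x.2), inferInstance,
      fun ω => Recog.stabilizer_eq_bot_of_abelian hAc ω⟩
  by_cases hne : ∃ V, V ∈ S
  swap
  · left
    have hsub : Subsingleton G := by
      rcases subsingleton_or_nontrivial G with h | h
      · exact h
      · obtain ⟨V, hV⟩ := Recog.exists_isMinNormal (G := G)
        exact absurd ⟨V, (hS V).2 hV⟩ hne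
    have hΩ : Subsingleton Ω := ⟨fun a b => by
      obtain ⟨g, rfl⟩ := MulAction.exists_smul_eq G a b
      rw [Subsingleton.elim g 1, one_smul]⟩
    exact ⟨2, Nat.prime_two, ⟨⟨fun a b => Subsingleton.elim _ _⟩⟩, fun x => Subsingleton.elim _ _,
      ⟨fun a b => ⟨1, Subsingleton.elim _ _⟩⟩, fun ω => Subsingleton.elim _ _⟩
  right
  obtain ⟨M, hM⟩ := hne
  have hMn := hM.1
  push Not at hA
  have hna : ∀ V ∈ S, ¬ CompLen.Comm V V := fun V hV h => hA V hV ⟨⟨fun a b => Subtype.ext (h a a.2 b b.2)⟩⟩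
  obtain ⟨T₀, m, hTs, hm, ⟨eM⟩⟩ := PermGp.exists_power_of_not_comm hM.2.1
    (fun A hAn hle hne => (hM.2.2 A hAn hle).resolve_left hne) (hna M hM)
  have hTnc : ¬ IsMulCommutative T₀ := by
    intro h
    refine hna M hM fun a ha b hb => ?_
    have h2 : eM ⟨a, ha⟩ * eM ⟨b, hb⟩ = eM ⟨b, hb⟩ * eM ⟨a, ha⟩ := by
      funext i
      exact h.is_comm.comm _ _
    rw [← map_mul, ← map_mul] at h2
    exact congrArg Subtype.val (eM.injective h2)
  obtain ⟨T, _, ⟨eT⟩⟩ : ∃ (T : Type) (_ : Group T), Nonempty (T ≃* T₀) := by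
    let e := (Finite.equivFin T₀).symm
    exact ⟨Fin (Nat.card T₀), e.group, ⟨e.mulEquiv⟩⟩
  have hTsimple : IsSimpleGroup T := by
    have := hTs
    have : Nontrivial T := eT.toEquiv.nontrivial
    exact IsSimpleGroup.isSimpleGroup_of_surjective eT.symm.toMonoidHom eT.symm.surjective
  have hTn : ¬ IsMulCommutative T := fun h => hTnc ⟨⟨fun a b => by
    have := congrArg eT (h.is_comm.comm (eT.symm a) (eT.symm b))
    simpa using this⟩⟩
  let eMT : M ≃* (Fin m → T) := eM.trans (MulEquiv.piCongrRight fun _ => eT.symm)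
  by_cases huniq : ∀ W ∈ S, W = M
  · have hNM : N = M := by
      rw [hN]
      exact le_antisymm (sSup_le fun W hW => (huniq W hW).le) (le_sSup hM)
    subst hNM
    exact ⟨T, _, m, hm, hTsimple, hTn, ⟨eMT⟩⟩
  push Not at huniq
  obtain ⟨W, hW, hWM⟩ := huniq
  obtain ⟨ω⟩ : Nonempty Ω := by
    by_contra h
    rw [not_nonempty_iff] at h
    refine hM.2.1 ((Subgroup.eq_bot_iff_forall M).2 fun x _ => ?_)
    exact eq_of_smul_eq_smul (α := Ω) fun b => (IsEmpty.false b).elim
  have hWc := hcent M hM W hW hWM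
  have hMc := hcent W hW M hM (Ne.symm hWM)
  have := htr M hM
  have := htr W hW
  have hall : ∀ V ∈ S, V = M ∨ V = W := by
    intro V hV
    by_contra h
    push Not at h
    refine hV.2.1 ((Subgroup.eq_bot_iff_forall V).2 fun v hv => ?_)
    obtain ⟨w, hw⟩ := MulAction.exists_smul_eq W ω (v • ω)
    have hc : (w : G)⁻¹ * v ∈ Subgroup.centralizer (M : Set G) :=
      mul_mem (inv_mem (hWc w.2)) (hcent M hM V hV h.1 hv)
    have h1 := hsemi M hM _ hc ω (by rw [mul_smul, inv_smul_eq_iff]; exact hw.symm)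
    rw [inv_mul_eq_one] at h1
    have hb : V ⊓ W = ⊥ := by
      have := hV.1
      have := hW.1
      rcases hV.2.2 (V ⊓ W) inferInstance inf_le_left with h' | h'
      · exact h'
      · rcases hW.2.2 (V ⊓ W) inferInstance inf_le_right with h'' | h''
        · exact h''
        · exact absurd (h'.symm.trans h'') h.2
    have : v ∈ V ⊓ W := ⟨hv, h1 ▸ w.2⟩
    rwa [hb, Subgroup.mem_bot] at this
  -- the two minimal normal subgroups are isomorphic
  have hex : ∀ w : W, ∃ u : M, (w : G) • ω = (u : G)⁻¹ • ω := fun w => by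
    obtain ⟨u, hu⟩ := MulAction.exists_smul_eq M ω ((w : G) • ω)
    exact ⟨u⁻¹, by rw [Subgroup.coe_inv, inv_inv]; exact hu.symm⟩
  choose f hf using hex
  have hMinj : ∀ u v : M, (u : G)⁻¹ • ω = (v : G)⁻¹ • ω → u = v := fun u v h => by
    have h2 : (v : G) * (u : G)⁻¹ ∈ Subgroup.centralizer (W : Set G) :=
      mul_mem (hMc v.2) (inv_mem (hMc u.2))
    have := hsemi W hW _ h2 ω (by rw [mul_smul, h, smul_inv_smul])
    rw [mul_inv_eq_one] at this
    exact Subtype.ext this.symm
  let F : W →* M := MonoidHom.mk' f fun x y => hMinj _ _ (by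
    rw [← hf (x * y), Subgroup.coe_mul, mul_smul, hf y, ← mul_smul,
      ← Subgroup.mem_centralizer_iff.1 (hWc x.2) ((f y : G)⁻¹) (M.inv_mem (f y).2), mul_smul, hf x, ← mul_smul,
      ← mul_inv_rev, ← Subgroup.coe_mul])
  have hFb : Function.Bijective F := by
    refine ⟨fun x y h => ?_, fun u => ?_⟩
    · have hxy : (x : G) • ω = (y : G) • ω := by rw [hf x, hf y]; exact congrArg (fun z : M => (z : G)⁻¹ • ω) h
      have := hsemi M hM _ (mul_mem (inv_mem (hWc y.2)) (hWc x.2)) ω (by rw [mul_smul, hxy, inv_smul_smul])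
      rw [inv_mul_eq_one] at this
      exact Subtype.ext this.symm
    · obtain ⟨w, hw⟩ := MulAction.exists_smul_eq W ω ((u : G)⁻¹ • ω)
      exact ⟨w, hMinj _ _ ((hf w).symm.trans hw)⟩
  let eWT : W ≃* (Fin m → T) := (MulEquiv.ofBijective F hFb).trans eMT
  let φ : M × W →* G := MonoidHom.noncommCoprod M.subtype W.subtype fun u w =>
    (Subgroup.mem_centralizer_iff.1 (hWc w.2) u u.2)
  have hφ : Function.Injective φ := by
    rw [injective_iff_map_eq_one]
    rintro ⟨u, w⟩ h
    have h' : (u : G) * w = 1 := h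
    have hb : (u : G) ∈ M ⊓ W := ⟨u.2, eq_inv_of_mul_eq_one_left h' ▸ W.inv_mem w.2⟩
    have hbot : M ⊓ W = ⊥ := by
      have := hW.1
      rcases hM.2.2 (M ⊓ W) inferInstance inf_le_left with h' | h'
      · exact h'
      · rcases hW.2.2 (M ⊓ W) inferInstance inf_le_right with h'' | h''
        · exact h''
        · exact absurd (h''.symm.trans h') hWM
    rw [hbot, Subgroup.mem_bot] at hb
    rw [hb, one_mul] at h'
    exact Prod.ext (Subtype.ext hb) (Subtype.ext h')
  have hNMW : φ.range = N := by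
    refine (MonoidHom.noncommCoprod_range _ _ _).trans ?_
    rw [Subgroup.range_subtype, Subgroup.range_subtype, hN]
    refine le_antisymm (sup_le (le_sSup hM) (le_sSup hW)) (sSup_le fun V hV => ?_)
    rcases hall V hV with rfl | rfl
    · exact le_sup_left
    · exact le_sup_right
  let eSum : ((Fin m → T) × (Fin m → T)) ≃* (Fin (m + m) → T) :=
    { toFun := fun p i => Sum.elim p.1 p.2 (finSumFinEquiv.symm i)
      invFun := fun f => (fun j => f (finSumFinEquiv (Sum.inl j)), fun j => f (finSumFinEquiv (Sum.inr j)))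
      left_inv := fun p => by
        apply Prod.ext <;> funext j <;> simp only [Equiv.symm_apply_apply] <;> rfl
      right_inv := fun f => by
        funext i
        obtain ⟨j, rfl⟩ := finSumFinEquiv.surjective i
        rcases j with j | j <;> simp only [Equiv.symm_apply_apply] <;> rfl
      map_mul' := fun a b => by
        funext i
        obtain ⟨j, rfl⟩ := finSumFinEquiv.surjective i
        rcases j with j | j <;> simp only [Pi.mul_apply, Equiv.symm_apply_apply] <;> rfl }
  exact ⟨T, _, m + m, by omega, hTsimple, hTn,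
    ⟨(MulEquiv.subgroupCongr hNMW.symm).trans ((MonoidHom.ofInjective hφ).symm.trans
      ((MulEquiv.prodCongr eMT eWT).trans eSum))⟩⟩

end Cfsg.Agent.S3680
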