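import Cfsg.Statements.S3681
import Mathlib

set_option autoImplicit false
open Cfsg

namespace Cfsg.Agent.S3681

/-- Bochert's bound for primitive groups. Let a finite group G act faithfully and primitively on a finite set Ω with n elements, and suppose the image of G in the symmetric group of Ω does not contain the alternating group of Ω. Then |G| · ⌊(n + 1)/2⌋! ≤ n!, that is, the index of G in the symmetric group is at least ⌊(n + 1)/2⌋!. -/
theorem result {G Ω : Type*} [Group G] [Finite G] [MulAction G Ω] [FaithfulSMul G Ω] [Fintype Ω] [DecidableEq Ω]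
    (hprim : MulAction.IsPreprimitive G Ω) (hA : ¬ alternatingGroup Ω ≤ (MulAction.toPermHom G Ω).range) :
    Nat.card G * Nat.factorial ((Fintype.card Ω + 1) / 2) ≤ Nat.factorial (Fintype.card Ω) := by
  classical
  set n := Fintype.card Ω with hn
  let f := MulAction.toPermHom G Ω
  have hinj : Function.Injective f := MulAction.toPerm_injective
  have hpre : MulAction.IsPreprimitive f.range Ω :=
    have := hprim
    MulAction.IsPreprimitive.of_surjective (f := ({ toFun := id, map_smul' := fun _ _ => rfl } : Ω →ₑ[fun g : G => (⟨f g, g, rfl⟩ : f.range)] Ω)) Function.surjective_id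
  have hfin : ({D : Finset Ω | ∀ g : G, (∀ d ∈ D, g • d = d) → g = 1}).Nonempty :=
    ⟨Finset.univ, fun g hg => eq_of_smul_eq_smul (α := Ω) fun a => by rw [hg a (Finset.mem_univ a), one_smul]⟩
  obtain ⟨D, hD, hmin⟩ := Set.exists_min_image _ (fun D : Finset Ω => D.card) (Set.toFinite _) hfin
  have key : D.card ≤ Dᶜ.card := by
    by_contra hlt
    push Not at hlt
    obtain ⟨y, hy, hy1⟩ : ∃ y : G, (∀ d ∈ Dᶜ, y • d = d) ∧ y ≠ 1 := by
      by_contra hc
      push Not at hc
      have := hmin Dᶜ hc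
      omega
    obtain ⟨δ, hδy⟩ : ∃ δ : Ω, y • δ ≠ δ :=
      not_forall.1 fun hc => hy1 (eq_of_smul_eq_smul (α := Ω) fun a => by rw [hc a, one_smul])
    have hδD : δ ∈ D := by
      by_contra h
      exact hδy (hy δ (Finset.mem_compl.2 h))
    obtain ⟨x, hx, hx1⟩ : ∃ x : G, (∀ d ∈ D.erase δ, x • d = d) ∧ x ≠ 1 := by
      by_contra hc
      push Not at hc
      have := hmin (D.erase δ) hc
      rw [Finset.card_erase_of_mem hδD] at this
      have := Finset.card_pos.2 ⟨δ, hδD⟩
      omega
    have hδx : x • δ ≠ δ := fun h => hx1 (hD x fun d hd => by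
      by_cases hdd : d = δ
      · rw [hdd, h]
      · exact hx d (Finset.mem_erase.2 ⟨hdd, hd⟩))
    set X := f x with hX
    set Y := f y with hY
    have sep : ∀ z, z ≠ δ → X z = z ∨ Y z = z := fun z hz => by
      by_cases h : z ∈ D
      · exact Or.inl (hx z (Finset.mem_erase.2 ⟨hz, h⟩))
      · exact Or.inr (hy z (Finset.mem_compl.2 h))
    have hXm : X δ ≠ δ := hδx
    have hYm : Y δ ≠ δ := hδy
    -- fixed points
    have hXi : ∀ z, X z = z → X⁻¹ z = z := fun z h => by
      rw [Equiv.Perm.coe_inv, Equiv.symm_apply_eq, h]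
    have hYi : ∀ z, Y z = z → Y⁻¹ z = z := fun z h => by
      rw [Equiv.Perm.coe_inv, Equiv.symm_apply_eq, h]
    have hmX : ∀ z, X z ≠ z → X (X z) ≠ X z := fun z h e => h (X.injective e)
    have hmY : ∀ z, Y z ≠ z → Y (Y z) ≠ Y z := fun z h e => h (Y.injective e)
    have hYXd : Y (X δ) = X δ := (sep _ hXm).resolve_left (hmX δ hXm)
    have hXYd : X (Y δ) = Y δ := (sep _ hYm).resolve_right (hmY δ hYm)
    have hab : X δ ≠ Y δ := fun e => hmX δ hXm (by rw [e, hXYd])
    have hg : X * Y * X⁻¹ * Y⁻¹ = Equiv.swap δ (Y δ) * Equiv.swap δ (X δ) := by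
      refine Equiv.ext fun z => ?_
      simp only [Equiv.Perm.mul_apply]
      by_cases h1 : z = δ
      · subst h1
        rw [Equiv.swap_apply_left, Equiv.swap_apply_of_ne_of_ne hXm hab]
        have hm1 : Y⁻¹ z ≠ z := fun e => hYm (by
          nth_rewrite 1 [← e]; rw [Equiv.Perm.coe_inv, Equiv.apply_symm_apply])
        have hX1 : X (Y⁻¹ z) = Y⁻¹ z := (sep _ hm1).resolve_right (fun e => hm1 (by
          rw [Equiv.Perm.coe_inv, Equiv.apply_symm_apply] at e; rw [Equiv.Perm.coe_inv]; exact e.symm))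
        rw [hXi _ hX1, Equiv.Perm.coe_inv, Equiv.apply_symm_apply]
      by_cases h2 : z = X δ
      · subst h2
        rw [Equiv.swap_apply_right, Equiv.swap_apply_left, hYi _ hYXd]
        simp [hXYd]
      by_cases h3 : z = Y δ
      · subst h3
        rw [Equiv.swap_apply_of_ne_of_ne hYm hab.symm, Equiv.swap_apply_right]
        have hm1 : X⁻¹ δ ≠ δ := fun e => hXm (by
          nth_rewrite 1 [← e]; rw [Equiv.Perm.coe_inv, Equiv.apply_symm_apply])
        have hY1 : Y (X⁻¹ δ) = X⁻¹ δ := (sep _ hm1).resolve_left (fun e => hm1 (by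
          rw [Equiv.Perm.coe_inv, Equiv.apply_symm_apply] at e; rw [Equiv.Perm.coe_inv]; exact e.symm))
        simp only [Equiv.Perm.coe_inv, Equiv.symm_apply_apply]
        rw [← Equiv.Perm.coe_inv, hY1, Equiv.Perm.coe_inv, Equiv.apply_symm_apply]
      rw [Equiv.swap_apply_of_ne_of_ne h1 h2, Equiv.swap_apply_of_ne_of_ne h1 h3]
      rcases eq_or_ne (Y z) z with hYz | hYz
      · rw [hYi _ hYz]
        rcases eq_or_ne (X z) z with hXz | hXz
        · rw [hXi _ hXz, hYz, hXz]
        · have hw : X⁻¹ z ≠ δ := fun e => h2 (by rw [← e, Equiv.Perm.coe_inv, Equiv.apply_symm_apply])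
          have hYw : Y (X⁻¹ z) = X⁻¹ z := (sep _ hw).resolve_left (fun e => hXz (by
            rw [Equiv.Perm.coe_inv, Equiv.apply_symm_apply] at e
            conv_lhs => rw [e, Equiv.apply_symm_apply]))
          rw [hYw, Equiv.Perm.coe_inv, Equiv.apply_symm_apply]
      · have hXz : X z = z := (sep _ h1).resolve_right hYz
        have hw : Y⁻¹ z ≠ δ := fun e => h3 (by rw [← e, Equiv.Perm.coe_inv, Equiv.apply_symm_apply])
        have hXw : X (Y⁻¹ z) = Y⁻¹ z := (sep _ hw).resolve_right (fun e => hYz (by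
          rw [Equiv.Perm.coe_inv, Equiv.apply_symm_apply] at e
          conv_lhs => rw [e, Equiv.apply_symm_apply]))
        rw [hXi _ hXw, Equiv.Perm.coe_inv Y, Equiv.apply_symm_apply, hXz]
    refine hA (Equiv.Perm.alternatingGroup_le_of_isPreprimitive_of_isThreeCycle_mem hpre
      (g := X * Y * X⁻¹ * Y⁻¹) ?_ ?_)
    · rw [hg]
      exact Equiv.Perm.isThreeCycle_swap_mul_swap_same hYm.symm hXm.symm hab.symm
    · exact ⟨x * y * x⁻¹ * y⁻¹, by simp only [X, Y, map_mul, map_inv]; rfl⟩
  -- injection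
  have hc := Finset.card_add_card_compl D
  let Ψ : G × Equiv.Perm {a // a ∈ Dᶜ} → Equiv.Perm Ω := fun p => f p.1 * Equiv.Perm.ofSubtype p.2
  have hΨ : Function.Injective Ψ := by
    rintro ⟨g, s⟩ ⟨g', s'⟩ h
    simp only [Ψ] at h
    have h' : f (g'⁻¹ * g) = Equiv.Perm.ofSubtype (s' * s⁻¹) := by
      rw [map_mul, map_inv, map_mul, map_inv, inv_mul_eq_iff_eq_mul, eq_comm, ← mul_assoc,
        mul_inv_eq_iff_eq_mul, h]
    have h1 : g'⁻¹ * g = 1 := hD _ fun d hd => by
      have := Equiv.congr_fun h' d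
      rw [Equiv.Perm.ofSubtype_apply_of_not_mem _ (by simpa using hd)] at this
      exact this
    rw [inv_mul_eq_one] at h1
    subst h1
    exact Prod.ext rfl (Equiv.Perm.ofSubtype_injective (mul_left_cancel h))
  have hcard := Nat.card_le_card_of_injective Ψ hΨ
  rw [Nat.card_prod, Nat.card_perm, Nat.card_perm, Nat.card_eq_fintype_card (α := Ω),
    Nat.card_eq_fintype_card (α := {a // a ∈ Dᶜ}), Fintype.card_coe] at hcard
  refine le_trans (Nat.mul_le_mul_left _ (Nat.factorial_le ?_)) hcard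
  omega

end Cfsg.Agent.S3681
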