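import Cfsg.Statements.S3682
import Cfsg.Agent.Lib.Recog.WielandtDeep

set_option autoImplicit false
open Cfsg

namespace Cfsg.Agent.S3682

/-- Wielandt's bound toward the Sims conjecture. Let a finite group G act faithfully and primitively on a set Ω, let a and b be points, and suppose the orbit of b under the stabilizer of a has length d ≥ 2. Then there are a prime p and a normal p-subgroup P of the stabilizer of a, all of whose elements fix b, such that the index of P in the stabilizer of a divides d! · ((d - 1)!)^d. -/
theorem result {G Ω : Type*} [Group G] [Finite G] [MulAction G Ω] [FaithfulSMul G Ω] [Finite Ω]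
    (hprim : MulAction.IsPreprimitive G Ω) (a b : Ω) (d : ℕ) (hd : Nat.card (MulAction.orbit (MulAction.stabilizer G a) b) = d) (h2 : 2 ≤ d) :
    ∃ p : ℕ, p.Prime ∧ ∃ P : Subgroup (MulAction.stabilizer G a), P.Normal ∧ IsPGroup p P ∧ (∀ g : P, ((g : MulAction.stabilizer G a) : G) • b = b) ∧
      P.index ∣ Nat.factorial d * (Nat.factorial (d - 1)) ^ d := by
  classical
  haveI := hprim
  open Subgroup MulAction Cfsg.Agent.Components Cfsg.Agent.Recog.PointPair Cfsg.Agent.Recog.ArcStabilizer in
  have main : ∃ p : ℕ, p.Prime ∧ ∃ P : Subgroup (stabilizer G a), P.Normal ∧ IsPGroup p P ∧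
      (∀ g : P, ((g : stabilizer G a) : G) • b = b) ∧ P.index ∣ Nat.factorial d * (Nat.factorial (d - 1)) ^ d := by
    set H := stabilizer G a with hH
    have hab : H ≠ stabilizer G b := by
      intro he
      have hsub : Subsingleton (orbit H b) := by
        refine ⟨fun x y => Subtype.ext ?_⟩
        obtain ⟨h, hh⟩ := x.2
        obtain ⟨k, hk⟩ := y.2
        have e1 : (h : G) ∈ stabilizer G b := he.le h.2
        have e2 : (k : G) ∈ stabilizer G b := he.le k.2
        rw [← hh, ← hk]
        exact (show (h : G) • b = b from e1).trans (show (k : G) • b = b from e2).symm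
      have := Finite.card_le_one_iff_subsingleton.mpr hsub
      omega
    by_cases hc : ∃ p : ℕ, p.Prime ∧ core p H ≠ ⊥
    · obtain ⟨p, hp, hR⟩ := hc
      haveI := Fact.mk hp
      have sm : ∀ (g : G) x y, Arc G a b x y → Arc G a b (g • x) (g • y) := by
        rintro g x y ⟨k, rfl, rfl⟩
        exact ⟨g * k, mul_smul _ _ _, mul_smul _ _ _⟩
      obtain ⟨cout, cin⟩ := card_suborbits inferInstance a b d hd
      refine ⟨p, hp, (deep (G := G) (Arc G a b) a).subgroupOf H,
        normal_subgroupOf_of_le_normalizer (deep_normalized sm a),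
        (Cfsg.Agent.Recog.WielandtDeep.deep_isPGroup hprim a b hab hR).of_equiv
          (subgroupOfEquivOfLe (deep_le a)).symm, ?_, deep_index_dvd sm a d (cout a) (fun y _ => cin y)⟩
      intro g
      exact ((g.2 : ((g : H) : G) ∈ deep (G := G) (Arc G a b) a).2 b ⟨1, one_smul _ _, one_smul _ _⟩).1
    · push Not at hc
      refine ⟨2, Nat.prime_two, ⊥, inferInstance, IsPGroup.of_bot, ?_, ?_⟩
      · rintro ⟨g, hg⟩
        rw [mem_bot] at hg
        subst hg
        simp
      rw [index_bot]
      refine card_dvd hprim a b d hd h2 fun q hq he => ?_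
      have h0 : Cfsg.pCore q H = ⊥ :=
        (map_eq_bot_iff_of_injective _ H.subtype_injective).mp (hc q hq)
      have h1 := centralizer_fStar_le (G := H)
      rw [he, h0] at h1
      have htriv : ∀ h : H, h = 1 := fun h => mem_bot.mp (h1 (mem_centralizer_iff.mpr fun y hy => by
        rw [SetLike.mem_coe, mem_bot] at hy
        subst hy
        simp))
      have hsub : Subsingleton (orbit H b) := by
        refine ⟨fun x y => Subtype.ext ?_⟩
        obtain ⟨h, hh⟩ := x.2
        obtain ⟨k, hk⟩ := y.2
        rw [← hh, ← hk, htriv h, htriv k]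
      have := Finite.card_le_one_iff_subsingleton.mpr hsub
      omega
  exact main

end Cfsg.Agent.S3682
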