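import Cfsg.Statements.S3683
import Cfsg.Agent.Lib.Recog.ExtremelyPrimitive

set_option autoImplicit false
open Cfsg

namespace Cfsg.Agent.S3683

/-- Let a finite group G act faithfully and primitively on a set Ω, and suppose the stabilizer of a point a fixes a second point b ≠ a (a suborbit of length 1 other than {a}). Then the stabilizer of a is trivial and G is cyclic of prime order. -/
theorem result {G Ω : Type*} [Group G] [Finite G] [MulAction G Ω] [FaithfulSMul G Ω] [Finite Ω]
    (hprim : MulAction.IsPreprimitive G Ω) (a b : Ω) (hab : a ≠ b) (hfix : ∀ g : G, g • a = a → g • b = b) :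
    MulAction.stabilizer G a = ⊥ ∧ IsCyclic G ∧ (Nat.card G).Prime := by
  have : Nontrivial Ω := ⟨⟨a, b, hab⟩⟩
  have hb : MulAction.stabilizer G a = ⊥ := by
    by_contra hne
    refine Recog.stabilizer_ne_of_ne hne (Ne.symm hab) ?_
    have hle : MulAction.stabilizer G a ≤ MulAction.stabilizer G b := fun g hg => hfix g hg
    rcases hle.lt_or_eq with h | h
    · exact absurd ((MulAction.IsPreprimitive.isCoatom_stabilizer_of_isPreprimitive G a).2 _ h)
        (MulAction.IsPreprimitive.isCoatom_stabilizer_of_isPreprimitive G b).1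
    · exact h
  have hmax : IsCoatom (⊥ : Subgroup G) :=
    hb ▸ MulAction.IsPreprimitive.isCoatom_stabilizer_of_isPreprimitive G a
  obtain ⟨g, hg⟩ : ∃ g : G, g ≠ 1 := by
    by_contra hall
    push Not at hall
    exact hmax.1 (eq_top_iff.2 fun x _ => Subgroup.mem_bot.2 (hall x))
  obtain ⟨p, hp, hpd⟩ := Nat.exists_prime_and_dvd
    (fun h : orderOf g = 1 => hg (orderOf_eq_one_iff.1 h))
  have ho : orderOf (g ^ (orderOf g / p)) = p := orderOf_pow_orderOf_div (orderOf_pos g).ne' hpd
  set x := g ^ (orderOf g / p)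
  have hx : x ≠ 1 := fun h => hp.one_lt.ne (by rw [← ho, h, orderOf_one])
  have htop : Subgroup.zpowers x = ⊤ :=
    hmax.2 _ (bot_lt_iff_ne_bot.2 (Subgroup.zpowers_ne_bot.2 hx))
  refine ⟨hb, ⟨⟨x, fun y => Subgroup.mem_zpowers_iff.1 (htop ▸ Subgroup.mem_top y)⟩⟩, ?_⟩
  rw [← Subgroup.card_top, ← htop, Nat.card_zpowers, ho]
  exact hp

end Cfsg.Agent.S3683
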