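import Cfsg.Statements.S3684
import Cfsg.Agent.Lib.Recog.ExtremelyPrimitive
import Cfsg.Agent.Lib.Invol.Dihedral

set_option autoImplicit false
open Cfsg

open scoped Pointwise

namespace Cfsg.Agent.S3684

/-- Let a finite group G act faithfully and primitively on a set Ω, and suppose the stabilizer of a point a has an orbit of length 2. Then the stabilizer of a has order 2 and G is isomorphic to the dihedral group of order 2p for some prime p. -/
theorem result {G Ω : Type*} [Group G] [Finite G] [MulAction G Ω] [FaithfulSMul G Ω] [Finite Ω]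
    (hprim : MulAction.IsPreprimitive G Ω) (a b : Ω) (h2 : Nat.card (MulAction.orbit (MulAction.stabilizer G a) b) = 2) :
    Nat.card (MulAction.stabilizer G a) = 2 ∧ ∃ p : ℕ, p.Prime ∧ Nonempty (G ≃* DihedralGroup p) := by
  classical
  have hab : a ≠ b := by
    intro h
    subst h
    have : Subsingleton (MulAction.orbit (MulAction.stabilizer G a) a) :=
      ⟨fun x y => by
        obtain ⟨g, hg⟩ := x.2
        obtain ⟨g', hg'⟩ := y.2
        exact Subtype.ext (by rw [← hg, ← hg']; exact g.2.trans g'.2.symm)⟩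
    have := Finite.card_le_one_iff_subsingleton.2 this
    omega
  have : Nontrivial Ω := ⟨⟨a, b, hab⟩⟩
  set A := MulAction.stabilizer G a with hA
  set B := MulAction.stabilizer G b with hB
  have hidxA : (B.subgroupOf A).index = 2 := by
    rw [← h2, Nat.card_coe_set_eq, ← MulAction.index_stabilizer A b]
    congr 1
  have hAne : A ≠ ⊥ := by
    intro h
    rw [Subgroup.subgroupOf_eq_top.2 (show A ≤ B from h ▸ bot_le), Subgroup.index_top] at hidxA
    omega
  have hne : A ≠ B := Recog.stabilizer_ne_of_ne hAne (Ne.symm hab)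
  have hmax := MulAction.IsPreprimitive.isCoatom_stabilizer_of_isPreprimitive G a
  have hmaxB := MulAction.IsPreprimitive.isCoatom_stabilizer_of_isPreprimitive G b
  have htop : A ⊔ B = ⊤ := by
    refine hmax.2 _ (lt_of_le_of_ne le_sup_left fun h => ?_)
    have hle : B ≤ A := le_trans le_sup_right h.ge
    rcases hle.lt_or_eq with hlt | heq
    · exact hmax.1 (hmaxB.2 _ hlt)
    · exact hne heq.symm
  have hcard : Nat.card A = Nat.card B := by
    obtain ⟨g, rfl⟩ := MulAction.exists_smul_eq G a b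
    exact Nat.card_congr (MulAction.stabilizerEquivStabilizer (g := g) rfl).toEquiv
  have hidxB : (A.subgroupOf B).index = 2 := by
    have h1 := Subgroup.index_mul_card (B.subgroupOf A)
    have h3 := Subgroup.index_mul_card (A.subgroupOf B)
    have e1 : Nat.card (B.subgroupOf A) = Nat.card ↥(B ⊓ A) := by
      rw [← Subgroup.inf_subgroupOf_right]
      exact Nat.card_congr (Subgroup.subgroupOfEquivOfLe inf_le_right).toEquiv
    have e2 : Nat.card (A.subgroupOf B) = Nat.card ↥(B ⊓ A) := by
      rw [← Subgroup.inf_subgroupOf_right, inf_comm A B]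
      exact Nat.card_congr (Subgroup.subgroupOfEquivOfLe inf_le_left).toEquiv
    rw [hidxA, e1] at h1
    rw [e2, ← hcard, ← h1] at h3
    exact Nat.eq_of_mul_eq_mul_right Nat.card_pos h3
  have hn1 := Subgroup.normal_of_index_eq_two hidxA
  have hn2 := Subgroup.normal_of_index_eq_two hidxB
  have hKn : (A ⊓ B).Normal := by
    rw [← Subgroup.normalizer_eq_top_iff, eq_top_iff, ← htop, sup_le_iff]
    constructor
    · refine Subgroup.le_normalizer_iff.2 fun g hg n hn => ?_
      have := hn1.conj_mem ⟨n, hn.1⟩ hn.2 ⟨g, hg⟩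
      exact Subgroup.mem_inf.2 ⟨mul_mem (mul_mem hg hn.1) (inv_mem hg), this⟩
    · refine Subgroup.le_normalizer_iff.2 fun g hg n hn => ?_
      have := hn2.conj_mem ⟨n, hn.2⟩ hn.1 ⟨g, hg⟩
      exact Subgroup.mem_inf.2 ⟨this, mul_mem (mul_mem hg hn.2) (inv_mem hg)⟩
  have hKb : A ⊓ B = ⊥ := by
    rw [eq_bot_iff]
    intro n hn
    rw [Subgroup.mem_bot]
    refine eq_of_smul_eq_smul (α := Ω) fun x => ?_
    obtain ⟨g, rfl⟩ := MulAction.exists_smul_eq G a x
    have : (g⁻¹ * n * g⁻¹⁻¹) • a = a := (hKn.conj_mem n hn g⁻¹).1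
    rw [inv_inv, mul_smul, mul_smul, inv_smul_eq_iff] at this
    rw [one_smul, this]
  have hA2 : Nat.card A = 2 := by
    have h1 := Subgroup.index_mul_card (B.subgroupOf A)
    have : B.subgroupOf A = ⊥ := Subgroup.subgroupOf_eq_bot.2
      (disjoint_iff.2 (by rw [inf_comm, hKb]))
    rw [hidxA, this, Subgroup.card_bot, mul_one] at h1
    exact h1.symm
  refine ⟨hA2, ?_⟩
  have : Fact (Nat.Prime 2) := ⟨Nat.prime_two⟩
  obtain ⟨x, hx⟩ := exists_prime_orderOf_dvd_card' (G := A) 2 (by rw [hA2])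
  obtain ⟨y, hy⟩ := exists_prime_orderOf_dvd_card' (G := B) 2 (by rw [← hcard, hA2])
  rw [← Subgroup.orderOf_coe] at hx hy
  have hAx : Subgroup.zpowers (x : G) = A := Subgroup.eq_of_le_of_card_ge
    (Subgroup.zpowers_le.2 x.2) (by rw [Nat.card_zpowers, hx, hA2])
  have hBy : Subgroup.zpowers (y : G) = B := Subgroup.eq_of_le_of_card_ge
    (Subgroup.zpowers_le.2 y.2) (by rw [Nat.card_zpowers, hy, ← hcard, hA2])
  obtain ⟨e⟩ := Invol.nonempty_dihedralEquiv_pair hx hy
  have hclo : Subgroup.closure ({(x : G), (y : G)} : Set G) = ⊤ := by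
    rw [eq_top_iff, ← htop, sup_le_iff]
    exact ⟨hAx.ge.trans (Subgroup.zpowers_le.2 (Subgroup.subset_closure (by simp))),
      hBy.ge.trans (Subgroup.zpowers_le.2 (Subgroup.subset_closure (by simp)))⟩
  let e' : DihedralGroup (orderOf ((x : G) * y)) ≃* G :=
    e.trans ((MulEquiv.subgroupCongr hclo).trans Subgroup.topEquiv)
  set n := orderOf ((x : G) * y) with hn
  refine ⟨n, ?_, ⟨e'.symm⟩⟩
  have hxy : (x : G) * y ≠ 1 := by
    intro h
    apply hne
    rw [← hAx, ← hBy, mul_eq_one_iff_eq_inv.1 h, Subgroup.zpowers_inv]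
  by_contra hnp
  have hn1' : n ≠ 1 := fun h => hxy (orderOf_eq_one_iff.1 h)
  obtain ⟨q, hq, hqn⟩ := Nat.exists_prime_and_dvd hn1'
  have hqlt : q < n := lt_of_le_of_ne (Nat.le_of_dvd (orderOf_pos _) hqn) fun h => hnp (h ▸ hq)
  set d := (x : G) * y with hd
  have hinv : (x : G) * d * (x : G)⁻¹ = d⁻¹ :=
    Invol.conj_mul_eq_inv (Invol.mul_self_of_orderOf_two hx) (Invol.mul_self_of_orderOf_two hy)
  have hdq : orderOf (d ^ q) = n / q := orderOf_pow_of_dvd hq.pos.ne' hqn
  have hnq : 1 < n / q := by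
    have h1 := Nat.div_mul_cancel hqn
    by_contra hle
    interval_cases h : n / q <;> omega
  have hnorm : Subgroup.zpowers (x : G) ≤ Subgroup.normalizer (Subgroup.zpowers (d ^ q) : Set G) := by
    rw [Subgroup.zpowers_le, Subgroup.mem_normalizer_iff]
    have key : ∀ k : ℤ, (x : G) * (d ^ q) ^ k * (x : G)⁻¹ = (d ^ q) ^ (-k) := by
      intro k
      rw [← conj_zpow, ← conj_pow, hinv, inv_pow, inv_zpow, zpow_neg]
    intro z
    constructor
    · rintro ⟨k, rfl⟩
      exact ⟨-k, (key k).symm⟩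
    · rintro ⟨k, hk⟩
      refine ⟨-k, ?_⟩
      have h1 : (d ^ q) ^ k = (x : G) * z * (x : G)⁻¹ := hk
      have hxx : (x : G)⁻¹ = x := inv_eq_of_mul_eq_one_left (Invol.mul_self_of_orderOf_two hx)
      show (d ^ q) ^ (-k) = z
      rw [← key, h1, hxx]
      simp only [mul_assoc]
      rw [Invol.mul_self_of_orderOf_two hx, mul_one, ← mul_assoc,
        Invol.mul_self_of_orderOf_two hx, one_mul]
  have hM := hmax.2 (A ⊔ Subgroup.zpowers (d ^ q)) (lt_of_le_of_ne le_sup_left fun h => by
    have hle : Subgroup.zpowers (d ^ q) ≤ A := le_trans le_sup_right h.ge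
    rw [← hAx, Subgroup.zpowers_le] at hle
    obtain ⟨k, hk⟩ := hle
    have hk' : (x : G) ^ k = d ^ q := hk
    have hc : (x : G) * d ^ q * (x : G)⁻¹ = d ^ q := by
      rw [← hk', mul_inv_eq_iff_eq_mul, ← zpow_one_add, ← zpow_add_one, add_comm]
    rw [← conj_pow, hinv, inv_pow] at hc
    have h2 : orderOf (d ^ q) ∣ 2 := orderOf_dvd_of_pow_eq_one (by
      rw [pow_two]; nth_rewrite 1 [← hc]; exact inv_mul_cancel _)
    rcases (Nat.dvd_prime Nat.prime_two).1 h2 with h3 | h3 <;> rw [hdq] at h3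
    · omega
    · -- `d ^ q` is then an involution of `A`, so it is `x`
      have hxk : d ^ q = x := by
        have hmem : (⟨d ^ q, hAx ▸ ⟨k, hk⟩⟩ : A) = x := by
          have hcard2 := Nat.card_eq_two_iff' (1 : A) |>.1 hA2
          refine hcard2.unique ?_ ?_
          · intro h1
            have : d ^ q = 1 := congrArg Subtype.val h1
            rw [this, orderOf_one] at hdq
            omega
          · intro h1
            rw [h1] at hx
            simp at hx
        exact congrArg Subtype.val hmem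
      have hcomm : (x : G) * d * (x : G)⁻¹ = d := by
        rw [← hxk, mul_inv_eq_iff_eq_mul, ← pow_succ', ← pow_succ]
      rw [hinv] at hcomm
      have hd2 : n ∣ 2 := orderOf_dvd_of_pow_eq_one (by
        rw [pow_two]; show d * d = 1; nth_rewrite 1 [← hcomm]; exact inv_mul_cancel _)
      have := Nat.le_of_dvd two_pos hd2
      have := hq.two_le
      omega)
  have hAcard : Nat.card G = 2 * n := by
    rw [← Nat.card_congr e'.toEquiv, DihedralGroup.nat_card]
  have hle2 : Nat.card ↥(A ⊔ Subgroup.zpowers (d ^ q)) ≤ 2 * (n / q) := by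
    rw [← hdq, ← hA2, ← Nat.card_zpowers]
    have hsup := Subgroup.coe_mul_of_left_le_normalizer_right A (Subgroup.zpowers (d ^ q))
      (hAx ▸ hnorm)
    calc Nat.card ↥(A ⊔ Subgroup.zpowers (d ^ q))
        = Nat.card ((A : Set G) * (Subgroup.zpowers (d ^ q) : Set G) : Set G) := by
          rw [← hsup]; rfl
      _ ≤ _ := Set.natCard_mul_le
  rw [hM, Subgroup.card_top, hAcard] at hle2
  have : n / q < n := Nat.div_lt_self (orderOf_pos _) hq.one_lt
  omega

end Cfsg.Agent.S3684
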