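import Cfsg.Statements.S3685
import Cfsg.Agent.Lib.PermGp.SubThreeAction
import Cfsg.Agent.Lib.PermGp.SubThreeTypes

set_option autoImplicit false
open Cfsg

namespace Cfsg.Agent.S3685

open Cfsg.Agent.SubThree

/-- Let a finite group G act faithfully and primitively on a set Ω, and suppose the stabilizer of a point a has an orbit of length 3. Then the stabilizer of a is isomorphic to one of: the cyclic group of order 3, the symmetric group of degree 3, the dihedral group of order 12, the symmetric group of degree 4, or the direct product of the symmetric group of degree 4 with a group of order 2. -/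
theorem result {G Ω : Type*} [Group G] [Finite G] [MulAction G Ω] [FaithfulSMul G Ω] [Finite Ω]
    (hprim : MulAction.IsPreprimitive G Ω) (a b : Ω) (h3 : Nat.card (MulAction.orbit (MulAction.stabilizer G a) b) = 3) :
    Nonempty (MulAction.stabilizer G a ≃* Multiplicative (ZMod 3)) ∨ Nonempty (MulAction.stabilizer G a ≃* Equiv.Perm (Fin 3)) ∨
      Nonempty (MulAction.stabilizer G a ≃* DihedralGroup 6) ∨ Nonempty (MulAction.stabilizer G a ≃* Equiv.Perm (Fin 4)) ∨
      Nonempty (MulAction.stabilizer G a ≃* Equiv.Perm (Fin 4) × Multiplicative (ZMod 2)) := by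
  haveI : Fact (Nat.Prime 3) := ⟨Nat.prime_three⟩
  rcases setup_of_suborbit hprim a b h3 with h | ⟨h, k, S⟩
  · left
    haveI : IsCyclic (MulAction.stabilizer G a) := isCyclic_of_prime_card h
    exact ⟨mulEquivOfCyclicCardEq (by rw [h, Nat.card_congr Multiplicative.toAdd, Nat.card_zmod])⟩
  · have h1 := S.hk
    have h4 := S.length_le
    obtain rfl | rfl | rfl | rfl : k = 1 ∨ k = 2 ∨ k = 3 ∨ k = 4 := by omega
    · exact Or.inr (Or.inl (type_one S))
    · exact Or.inr (Or.inr (Or.inl (type_two S)))
    · exact Or.inr (Or.inr (Or.inr (Or.inl (type_three S))))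
    · exact Or.inr (Or.inr (Or.inr (Or.inr (type_four S))))

end Cfsg.Agent.S3685
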