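import Cfsg.Statements.S3693
import Cfsg.Agent.Lib.Recog.ArcStabilizer
import Mathlib

set_option autoImplicit false
open Cfsg

namespace Cfsg.Agent.S3693

/-- Let a finite group G act faithfully and primitively on a set Ω, let a and b be points such that the orbit Δ of b under the stabilizer H of a has length d ≥ 2, and consider the permutation group induced on Δ by the elements of H fixing b. If that induced group has trivial Fitting subgroup (no non-trivial nilpotent normal subgroup), then the two-point stabilizer of a and b has trivial Fitting subgroup and the order of H divides d! · ((d - 1)!)^d. -/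
theorem result {G Ω : Type*} [Group G] [Finite G] [MulAction G Ω] [FaithfulSMul G Ω] [Finite Ω]
    (hprim : MulAction.IsPreprimitive G Ω) (a b : Ω) (d : ℕ) (hd : Nat.card (MulAction.orbit (MulAction.stabilizer G a) b) = d) (h2 : 2 ≤ d)
    (hF : Cfsg.fittingSubgroup ↥(((MulAction.stabilizer G b).subgroupOf (MulAction.stabilizer G a)).map (MulAction.toPermHom (MulAction.stabilizer G a) (MulAction.orbit (MulAction.stabilizer G a) b))) = ⊥) :
    Cfsg.fittingSubgroup ↥(MulAction.stabilizer G a ⊓ MulAction.stabilizer G b) = ⊥ ∧
      Nat.card (MulAction.stabilizer G a) ∣ Nat.factorial d * (Nat.factorial (d - 1)) ^ d := by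
  classical
  haveI := hprim
  open Subgroup Cfsg.Agent.Components Cfsg.Agent.Recog.PointPair MulAction in
  have main : Cfsg.fittingSubgroup ↥(stabilizer G a ⊓ stabilizer G b) = ⊥ ∧
      Nat.card (stabilizer G a) ∣ Nat.factorial d * (Nat.factorial (d - 1)) ^ d := by
    set H := stabilizer G a with hHdef
    set K := stabilizer G b with hKdef
    have hab : H ≠ K := by
      intro he
      have hsub : Subsingleton (orbit H b) := by
        refine ⟨fun x y => Subtype.ext ?_⟩
        obtain ⟨h, hh⟩ := x.2
        obtain ⟨k, hk⟩ := y.2
        have e1 : (h : G) ∈ stabilizer G b := he.le h.2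
        have e2 : (k : G) ∈ stabilizer G b := he.le k.2
        rw [← hh, ← hk]
        exact (show (h : G) • b = b from e1).trans (show (k : G) • b = b from e2).symm
      have := Finite.card_le_one_iff_subsingleton.mpr hsub
      omega
    have hp := Cfsg.Agent.Recog.ArcStabilizer.pair_of_ne hprim hab
    set φ := MulAction.toPermHom H (orbit H b) with hφ
    set A := φ.ker.map H.subtype with hA
    have hAH : A ≤ H := map_subtype_le _
    have hAn : H ≤ normalizer (A : Set G) := map_normal_normalized _
    have hAK : A ≤ K := by
      rintro _ ⟨x, hx, rfl⟩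
      have := DFunLike.congr_fun (MonoidHom.mem_ker.mp hx) ⟨b, mem_orbit_self b⟩
      exact congrArg Subtype.val this
    set D := H ⊓ K with hD
    have hAD : A ≤ D := le_inf hAH hAK
    have hT : ∀ q, q.Prime → core q D = ⊥ := by
      intro q hq
      haveI := Fact.mk hq
      set T := core q D with hTdef
      have hTD : T ≤ D := core_le q D
      have hTA : T ≤ A := by
        intro t ht
        refine ⟨⟨t, (hTD ht).1⟩, ?_, rfl⟩
        set I := (K.subgroupOf H).map φ with hI
        set N := ((T.subgroupOf H).map φ).subgroupOf I with hN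
        have hTI : (T.subgroupOf H).map φ ≤ I := map_mono fun x hx => (hTD hx).2
        haveI : N.Normal := by
          refine normal_subgroupOf_of_le_normalizer ?_
          rw [hI, map_le_iff_le_comap]
          intro k hk
          refine (le_normalizer_map (H := T.subgroupOf H) φ) ⟨k, ?_, rfl⟩
          show k ∈ normalizer ((T.subgroupOf H : Subgroup H) : Set H)
          rw [← subgroupOf_normalizer_eq (hTD.trans inf_le_left)]
          exact le_normalizer_core q D ⟨k.2, hk⟩
        have hNp : IsPGroup q N :=
          ((((core_isPGroup hq D).of_equiv (subgroupOfEquivOfLe (hTD.trans inf_le_left)).symm).map φ).of_equiv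
            (subgroupOfEquivOfLe hTI).symm)
        have := le_fitting (inferInstance : N.Normal) hNp.isNilpotent
        rw [hF, le_bot_iff, subgroupOf_eq_bot] at this
        refine MonoidHom.mem_ker.mpr ?_
        exact mem_bot.mp (disjoint_iff.mp this ▸ (⟨⟨⟨t, (hTD ht).1⟩, ht, rfl⟩,
          hTI ⟨⟨t, (hTD ht).1⟩, ht, rfl⟩⟩ : φ ⟨t, (hTD ht).1⟩ ∈ (T.subgroupOf H).map φ ⊓ I))
      have hTeq : T = core q A := by
        refine le_antisymm (pgroup_subnormal_le_core hq (core_isPGroup hq D) hTA
          (subgroupOf_isSubnormal_of_normalized (hAD.trans (le_normalizer_core q D)))) ?_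
        refine pgroup_subnormal_le_core hq (core_isPGroup hq A) ((core_le q A).trans hAD)
          (subgroupOf_isSubnormal_of_normalized ?_)
        exact (inf_le_left.trans hAn).trans (normalizer_le_map_char _)
      have hTn : H ≤ normalizer (T : Set G) := by
        rw [hTeq]
        exact hAn.trans (normalizer_le_map_char _)
      have hTH : T ≤ core q H := pgroup_subnormal_le_core hq (core_isPGroup hq D)
        (hTD.trans inf_le_left) (subgroupOf_isSubnormal_of_normalized hTn)
      by_contra hne
      set Q := core q K with hQ
      have hQD : Q ⊓ H ≤ T := pgroup_subnormal_le_core hq ((core_isPGroup hq K).to_le inf_le_left)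
        (le_inf inf_le_right (inf_le_left.trans (core_le q K)))
        (subgroupOf_isSubnormal_of_normalized
          ((le_inf inf_le_right inf_le_left : D ≤ K ⊓ H).trans core_inf_le_normalizer))
      have hTQ : T ≤ normalizer (Q : Set G) := (hTD.trans inf_le_right).trans (le_normalizer_core q K)
      have hQT : Q ≤ T := by
        set Z := T ⊔ Q with hZ
        have hZp : IsPGroup q Z :=
          ((core_isPGroup hq D).to_sup_of_normal_right' (core_isPGroup hq K) hTQ)
        haveI := hZp.isNilpotent
        by_contra hcon
        have hlt : T.subgroupOf Z < ⊤ :=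
          Ne.lt_top fun e => hcon (le_sup_right.trans (subgroupOf_eq_top.mp e))
        obtain ⟨z, hz, hzT⟩ := SetLike.exists_of_lt
          (Group.normalizerCondition_of_isNilpotent (G := Z) _ hlt)
        rw [← subgroupOf_normalizer_eq (show T ≤ Z from le_sup_left)] at hz
        have hzH : (z : G) ∈ H := (hp.normalizer_eq hne (hTD.trans inf_le_left) hTn).le hz
        have hz' : (z : G) ∈ ((T ⊔ Q : Subgroup G) : Set G) := z.2
        rw [coe_mul_of_left_le_normalizer_right _ _ hTQ] at hz'
        obtain ⟨r, hr, s, hs, hrs⟩ := hz'
        refine hzT ?_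
        show (z : G) ∈ T
        rw [← hrs]
        refine T.mul_mem hr (hQD ⟨hs, ?_⟩)
        have : s = r⁻¹ * (z : G) := by rw [← hrs]; group
        rw [this]
        exact H.mul_mem (H.inv_mem (hTD hr).1) hzH
      have he : Q = core q H :=
        eq_of_le_of_card_ge (hQT.trans hTH) (hp.card_core q).le
      have h0 : core q H = ⊥ :=
        hp.eq_bot_of_both (core_le q H) (le_normalizer_core q H) (he ▸ le_normalizer_core q K)
      exact hne (le_bot_iff.mp (hTH.trans h0.le))
    refine ⟨fitting_eq_bot_of_cores hT, ?_⟩
    by_cases hnc : ∀ p : ℕ, p.Prime → Cfsg.generalizedFittingSubgroup H ≠ Cfsg.pCore p H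
    · exact Cfsg.Agent.Recog.ArcStabilizer.card_dvd hprim a b d hd h2 hnc
    push Not at hnc
    obtain ⟨p, hpp, hfs⟩ := hnc
    haveI := Fact.mk hpp
    have hRK : core p H ⊓ K = ⊥ := by
      refine le_bot_iff.mp (le_trans ?_ (hT p hpp).le)
      exact pgroup_subnormal_le_core hpp ((core_isPGroup hpp H).to_le inf_le_left)
        (le_inf (inf_le_left.trans (core_le p H)) inf_le_right)
        (subgroupOf_isSubnormal_of_normalized core_inf_le_normalizer)
    have hker : φ.ker = ⊥ := by
      have hdis : φ.ker ⊓ Cfsg.pCore p H = ⊥ := by
        rw [eq_bot_iff]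
        intro x hx
        have h3 : (x : G) ∈ core p H ⊓ K := ⟨⟨x, hx.2, rfl⟩, hAK ⟨x, hx.1, rfl⟩⟩
        rw [hRK, mem_bot] at h3
        exact mem_bot.mpr (Subtype.ext h3)
      have hc : φ.ker ≤ centralizer (Cfsg.pCore p H : Set H) := by
        rw [← commutator_eq_bot_iff_le_centralizer, eq_bot_iff, ← hdis]
        exact commutator_le_inf _ _
      rw [← hfs] at hc hdis
      have := hc.trans centralizer_fStar_le
      rwa [inf_eq_left.mpr this] at hdis
    have h3 : Nat.card H ∣ d.factorial := by
      have h4 := card_subgroup_dvd_card φ.range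
      rw [← index_ker, hker, index_bot, Nat.card_perm, hd] at h4
      exact h4
    exact h3.mul_right _
  exact main

end Cfsg.Agent.S3693
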