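import Cfsg.Statements.S3687
import Cfsg.Agent.Lib.Recog.AltSuborbitMain
import Cfsg.Agent.S3693
import Mathlib

set_option autoImplicit false
open Cfsg

namespace Cfsg.Agent.S3687

/-- Let a finite group G act faithfully and primitively on a set Ω, let a and b be points such that the orbit Δ of b under the stabilizer H of a has d ≥ 6 elements, and suppose that the permutation group induced by H on Δ contains the alternating group of Δ (the image of H in the symmetric group of Δ has index at most 2) while H does not act faithfully on Δ. Then either H induces exactly the alternating group of Δ and H is isomorphic to the direct product of the alternating groups of degrees d and d - 1; or H induces the full symmetric group of Δ and H is isomorphic to one of: the direct product of the symmetric groups of degrees d and d - 1, the direct product of the symmetric group of degree d with the alternating group of degree d - 1, or the subgroup of the direct product of the symmetric groups of degrees d and d - 1 consisting of the pairs of permutations with equal signs. -/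
theorem result {G Ω : Type*} [Group G] [Finite G] [MulAction G Ω] [FaithfulSMul G Ω] [Finite Ω]
    (hprim : MulAction.IsPreprimitive G Ω) (a b : Ω) (d : ℕ) (hd : Nat.card (MulAction.orbit (MulAction.stabilizer G a) b) = d) (h6 : 6 ≤ d)
    (halt : (MulAction.toPermHom (MulAction.stabilizer G a) (MulAction.orbit (MulAction.stabilizer G a) b)).range.index ≤ 2)
    (hunf : ¬ Function.Injective (MulAction.toPermHom (MulAction.stabilizer G a) (MulAction.orbit (MulAction.stabilizer G a) b))) :
    ((MulAction.toPermHom (MulAction.stabilizer G a) (MulAction.orbit (MulAction.stabilizer G a) b)).range.index = 2 ∧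
      Nonempty (MulAction.stabilizer G a ≃* alternatingGroup (Fin d) × alternatingGroup (Fin (d - 1)))) ∨
    ((MulAction.toPermHom (MulAction.stabilizer G a) (MulAction.orbit (MulAction.stabilizer G a) b)).range = ⊤ ∧
      (Nonempty (MulAction.stabilizer G a ≃* Equiv.Perm (Fin d) × Equiv.Perm (Fin (d - 1))) ∨
       Nonempty (MulAction.stabilizer G a ≃* Equiv.Perm (Fin d) × alternatingGroup (Fin (d - 1))) ∨
       Nonempty (MulAction.stabilizer G a ≃* ((Equiv.Perm.sign.comp (MonoidHom.fst (Equiv.Perm (Fin d)) (Equiv.Perm (Fin (d - 1))))) *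
         (Equiv.Perm.sign.comp (MonoidHom.snd (Equiv.Perm (Fin d)) (Equiv.Perm (Fin (d - 1)))))).ker))) := by
  classical
  haveI := hprim
  haveI := Fintype.ofFinite Ω
  open Subgroup MulAction Equiv Cfsg.Agent.Recog.PointPair Cfsg.Agent.Recog.ArcStabilizer Cfsg.Agent.Recog.AltSuborbit Cfsg.Agent.Recog.AltLocal in
  have main : ((MulAction.toPermHom (stabilizer G a) (orbit (stabilizer G a) b)).range.index = 2 ∧
      Nonempty (stabilizer G a ≃* alternatingGroup (Fin d) × alternatingGroup (Fin (d - 1)))) ∨
    ((MulAction.toPermHom (stabilizer G a) (orbit (stabilizer G a) b)).range = ⊤ ∧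
      (Nonempty (stabilizer G a ≃* Equiv.Perm (Fin d) × Equiv.Perm (Fin (d - 1))) ∨
       Nonempty (stabilizer G a ≃* ((Equiv.Perm.sign.comp (MonoidHom.fst (Equiv.Perm (Fin d)) (Equiv.Perm (Fin (d - 1))))) *
         (Equiv.Perm.sign.comp (MonoidHom.snd (Equiv.Perm (Fin d)) (Equiv.Perm (Fin (d - 1)))))).ker))) := by
    haveI := Fintype.ofFinite (orbit (stabilizer G a) b)
    set H := stabilizer G a with hH
    set K := stabilizer G b with hK
    set φ0 := MulAction.toPermHom H (orbit H b) with hφ0
    obtain ⟨cout, cin⟩ := card_suborbits inferInstance a b d hd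
    have hR : Inv G (Arc G a b) := by
      rintro g x y ⟨k, rfl, rfl⟩
      exact ⟨g * k, mul_smul _ _ _, mul_smul _ _ _⟩
    have hab : Arc G a b a b := ⟨1, one_smul _ _, one_smul _ _⟩
    have hOc : Fintype.card (orbit H b) = d := by rw [← Nat.card_eq_fintype_card]; exact hd
    have halt0 : alternatingGroup (orbit H b) ≤ φ0.range := Equiv.Perm.alternatingGroup_le_of_index_le_two halt
    have hneab : H ≠ K := by
      intro he
      have hsub : Subsingleton (orbit H b) := by
        refine ⟨fun x y => Subtype.ext ?_⟩
        obtain ⟨h, hh⟩ := x.2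
        obtain ⟨k, hk⟩ := y.2
        have e1 : (h : G) ∈ stabilizer G b := he.le h.2
        have e2 : (k : G) ∈ stabilizer G b := he.le k.2
        rw [← hh, ← hk]
        exact (show (h : G) • b = b from e1).trans (show (k : G) • b = b from e2).symm
      have := Finite.card_le_one_iff_subsingleton.mpr hsub
      omega
    have hpair := pair_of_ne hprim hneab
    -- the two-point stabiliser is Fitting free
    have hFD : Cfsg.fittingSubgroup ↥(H ⊓ K) = ⊥ := by
      refine (Cfsg.Agent.S3693.result hprim a b d hd (by omega) ?_).1
      set bo : orbit H b := ⟨b, mem_orbit_self b⟩ with hbo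
      have fixb : ∀ σ ∈ (K.subgroupOf H).map φ0, σ bo = bo := by
        rintro _ ⟨k, hk, rfl⟩
        exact Subtype.ext (show (k : G) • b = b from hk)
      have iff_b : ∀ σ ∈ (K.subgroupOf H).map φ0, ∀ o : orbit H b, σ o ≠ bo ↔ o ≠ bo := fun σ hσ o => by
        constructor
        · intro h e; exact h (by rw [e, fixb σ hσ])
        · intro h e; exact h (σ.injective (e.trans (fixb σ hσ).symm))
      let f : ↥((K.subgroupOf H).map φ0) →* Equiv.Perm {o : orbit H b // o ≠ bo} :=
        { toFun := fun σ => (σ : Equiv.Perm (orbit H b)).subtypePerm (iff_b σ σ.2)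
          map_one' := by ext o; simp
          map_mul' := fun σ τ => Equiv.ext fun o => Subtype.ext rfl }
      refine fitting_eq_bot (β := {o : orbit H b // o ≠ bo}) ?_ f ?_ ?_
      · rw [Fintype.card_subtype, Finset.filter_ne', Finset.card_erase_of_mem (Finset.mem_univ _), Finset.card_univ, hOc]
        omega
      · intro σ τ hst
        refine Subtype.ext (Equiv.ext fun o => ?_)
        by_cases ho : o = bo
        · rw [ho, fixb _ σ.2, fixb _ τ.2]
        · exact congrArg Subtype.val (DFunLike.congr_fun hst ⟨o, ho⟩)
      · intro σ hσ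
        have h1 : Equiv.Perm.ofSubtype σ ∈ φ0.range := halt0 (by
          rw [Equiv.Perm.mem_alternatingGroup, Equiv.Perm.sign_ofSubtype]
          exact Equiv.Perm.mem_alternatingGroup.mp hσ)
        obtain ⟨h, hh⟩ := h1
        have hb' : h ∈ K.subgroupOf H := by
          have := congrArg Subtype.val (DFunLike.congr_fun hh bo)
          rw [Equiv.Perm.ofSubtype_apply_of_not_mem σ (by simp)] at this
          exact this
        refine ⟨⟨φ0 h, h, hb', rfl⟩, Equiv.ext fun o => Subtype.ext ?_⟩
        show φ0 h (o : orbit H b) = _
        rw [hh]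
        exact Equiv.Perm.ofSubtype_apply_of_mem σ o.2
    -- identification of the suborbit with the out-neighbours
    let eo : orbit H b ≃ {y // Arc G a b a y} := Equiv.subtypeEquivRight fun y => by
      constructor
      · rintro ⟨⟨g, hg⟩, rfl⟩; exact ⟨g, hg, rfl⟩
      · rintro ⟨g, hg, rfl⟩; exact ⟨⟨g, hg⟩, rfl⟩
    have hloc : ∀ h : H, loc hR.flip a h = eo.permCongrHom (φ0 h) := fun h =>
      Equiv.ext fun y => Subtype.ext rfl
    have halt1 : _root_.commutator (Equiv.Perm {y // Arc G a b a y}) ≤ (loc hR.flip a).range := by
      rw [← map_commutator_top eo.permCongrHom, alt_eq_commutator (by omega)]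
      refine (Subgroup.map_mono halt0).trans ?_
      rintro _ ⟨_, ⟨h, rfl⟩, rfl⟩
      exact ⟨h, hloc h⟩
    have hAne : outKer G (Arc G a b) a ≠ ⊥ := by
      intro h0
      refine hunf ((injective_iff_map_eq_one φ0).mpr fun h hh => ?_)
      have h1 : loc hR.flip a h = 1 := by rw [hloc, hh, map_one]
      rw [loc_ker] at h1
      have h2 : (h : G) ∈ outKer G (Arc G a b) a := h1
      rw [h0, mem_bot] at h2
      exact Subtype.ext h2
    -- not of characteristic `p`
    have hnc : ∀ p : ℕ, p.Prime → Cfsg.generalizedFittingSubgroup H ≠ Cfsg.pCore p H := by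
      intro p hp hfs
      haveI := Fact.mk hp
      apply hAne
      set A := outKer G (Arc G a b) a with hA
      have hAH : A ≤ H := inKer_le a
      haveI : (A.subgroupOf H).Normal :=
        normal_subgroupOf_of_le_normalizer (inKer_normalized hR.flip a)
      have hRK : core p H ⊓ K = ⊥ := by
        have h0 : core p (H ⊓ K) = ⊥ := by
          rw [core, map_eq_bot_iff_of_injective _ (Subgroup.subtype_injective _)]
          exact le_bot_iff.mp (Cfsg.Agent.Components.pCore_le_fitting.trans hFD.le)
        refine le_bot_iff.mp (le_trans ?_ h0.le)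
        exact pgroup_subnormal_le_core hp ((core_isPGroup hp H).to_le inf_le_left)
          (le_inf (inf_le_left.trans (core_le p H)) inf_le_right)
          (subgroupOf_isSubnormal_of_normalized core_inf_le_normalizer)
      have hdis : A.subgroupOf H ⊓ Cfsg.pCore p H = ⊥ := by
        rw [eq_bot_iff]
        intro x hx
        have h3 : (x : G) ∈ core p H ⊓ K := ⟨⟨x, hx.2, rfl⟩, hx.1.2 b hab⟩
        rw [hRK, mem_bot] at h3
        exact mem_bot.mpr (Subtype.ext h3)
      have hc : A.subgroupOf H ≤ centralizer (Cfsg.pCore p H : Set H) := by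
        rw [← commutator_eq_bot_iff_le_centralizer, eq_bot_iff, ← hdis]
        exact commutator_le_inf _ _
      rw [← hfs] at hc hdis
      have h4 := hc.trans Cfsg.Agent.Components.centralizer_fStar_le
      rw [inf_eq_left.mpr h4, subgroupOf_eq_bot, disjoint_iff, inf_eq_left.mpr hAH] at hdis
      exact hdis
    have hneR : ∀ {x y}, Arc G a b x y → stabilizer G x ≠ stabilizer G y := by
      rintro x y ⟨g, rfl, rfl⟩ he
      rw [stabilizer_smul_eq_stabilizer_map_conj, stabilizer_smul_eq_stabilizer_map_conj] at he
      exact hneab (Subgroup.map_injective (MulAut.conj g).injective he)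
    -- no section
    have hfree : NoSec (alternatingGroup (Fin d)) ↥(H ⊓ K) := by
      rcases deep_eq_bot_or hprim a b d hd (by omega) hnc with hP | hP
      · exact noSec_two_point hR (by omega) hab (cout a) (fun y _ => cin y) hP
      · obtain ⟨g, hg⟩ := exists_smul_eq G b a
        have hwa : Arc G a b (g • a) a := ⟨g, rfl, hg⟩
        have h1 := noSec_two_point (R := fun x y => Arc G a b y x) hR.flip (by omega) hwa (cin a) (fun y _ => cout y) hP
        refine noSec_injective (((MulAut.conj g).toMonoidHom.comp (H ⊓ K).subtype).codRestrict _ fun x => ?_) ?_ h1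
        · refine ⟨?_, ?_⟩
          · show (g * (x : G) * g⁻¹) • a = a
            rw [mul_smul, mul_smul, inv_smul_eq_iff.mpr hg.symm, show (x : G) • b = b from x.2.2, hg]
          · show (g * (x : G) * g⁻¹) • (g • a) = g • a
            rw [mul_smul, inv_smul_smul, mul_smul, show (x : G) • a = a from x.2.1]
        · intro x y hxy
          exact Subtype.ext ((MulAut.conj g).injective (congrArg Subtype.val hxy))
    obtain ⟨hAo, hAi, hke⟩ := prelims hR (by omega) inferInstance cout cin hab halt1 hfree
    have hker : ∀ x, inKer (G := G) (Arc G a b) x ≠ ⊥ := by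
      intro x h0
      apply hAne
      obtain ⟨g, hg⟩ := exists_smul_eq G x a
      have h5 := inKer_map hR g x
      rw [h0, Subgroup.map_bot, hg] at h5
      rw [show outKer G (Arc G a b) a = inKer (G := G) (Arc G a b) a from (hke a).symm]
      exact h5.symm
    have deep_all : ∀ (S : Ω → Ω → Prop), Inv G S → deep (G := G) S a = ⊥ → ∀ x, deep (G := G) S x = ⊥ := by
      intro S hS h0 x
      obtain ⟨g, rfl⟩ := exists_smul_eq G a x
      rw [eq_bot_iff]
      intro k hk
      have h1 : g⁻¹ * k * g ∈ deep (G := G) S a := by
        refine ⟨by rw [mul_smul, mul_smul, hk.1, inv_smul_smul], fun y hy => ?_⟩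
        have h2 := hk.2 (g • y) (hS g a y hy)
        exact ⟨by rw [mul_smul, mul_smul, h2.1, inv_smul_smul],
          fun w hw => by rw [mul_smul, mul_smul, h2.2 (g • w) (hS g w y hw), inv_smul_smul]⟩
      rw [h0, mem_bot] at h1
      exact mem_bot.mpr (by
        calc k = g * (g⁻¹ * k * g) * g⁻¹ := by group
          _ = 1 := by rw [h1]; group)
    -- the final step, for either orientation
    have finish : ∀ (S : Ω → Ω → Prop) (D : Data G S d) (b' : Ω), S a b' →
        (∀ {x y}, S x y → stabilizer G x ≠ stabilizer G y) → (∀ x, inKer (G := G) S x ≠ ⊥) →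
        outKer G S a = outKer G (Arc G a b) a →
        (φ0.range.index = 2 ∧
          Nonempty (H ≃* alternatingGroup (Fin d) × alternatingGroup (Fin (d - 1)))) ∨
        (φ0.range = ⊤ ∧ (Nonempty (H ≃* Equiv.Perm (Fin d) × Equiv.Perm (Fin (d - 1))) ∨
          Nonempty (H ≃* ((Equiv.Perm.sign.comp (MonoidHom.fst (Equiv.Perm (Fin d)) (Equiv.Perm (Fin (d - 1))))) *
            (Equiv.Perm.sign.comp (MonoidHom.snd (Equiv.Perm (Fin d)) (Equiv.Perm (Fin (d - 1)))))).ker))) := by
      intro S D b' hb' hneS hkerS hsame
      obtain ⟨χ, hinj, h1, h2, hcard⟩ := D.structure_hom hprim hneS hkerS hb'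
      have c1 : Fintype.card {y // S a y} = d := by rw [← Nat.card_eq_fintype_card]; exact D.out a
      have c2 : Fintype.card {w // S w b' ∧ w ≠ a} = d - 1 := by
        have h3 := D.inn b'
        rw [Nat.card_eq_fintype_card, Fintype.card_subtype] at h3
        rw [Fintype.card_subtype, ← Finset.filter_filter, Finset.filter_ne',
          Finset.card_erase_of_mem (by simpa using hb')]
        omega
      let e1 := (Fintype.equivFinOfCardEq c1).permCongrHom
      let e2 := (Fintype.equivFinOfCardEq c2).permCongrHom
      let f := e1.toMonoidHom.comp (loc D.inv.flip a)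
      let g := e2.toMonoidHom.comp χ
      have kf : f.ker = (loc D.inv.flip a).ker := MonoidHom.ker_mulEquiv_comp _ e1
      have kg : g.ker = χ.ker := MonoidHom.ker_mulEquiv_comp _ e2
      haveI : Nontrivial (Fin d) := Fin.nontrivial_iff_two_le.mpr (by omega)
      haveI : Nontrivial (Fin (d - 1)) := Fin.nontrivial_iff_two_le.mpr (by omega)
      have hfg : f.ker ⊓ g.ker = ⊥ := by rw [kf, kg]; exact hinj
      have hfA : alternatingGroup (Fin d) ≤ g.ker.map f := by
        rw [← alt_eq_commutator (by rw [Fintype.card_fin]; omega), ← map_commutator_top e1, kg, ← Subgroup.map_map]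
        exact Subgroup.map_mono h1
      have hgA : alternatingGroup (Fin (d - 1)) ≤ f.ker.map g := by
        rw [← alt_eq_commutator (by rw [Fintype.card_fin]; omega), ← map_commutator_top e2, kf, ← Subgroup.map_map]
        exact Subgroup.map_mono h2
      have kS : (loc D.inv.flip a).ker = φ0.ker := by
        ext h
        rw [MonoidHom.mem_ker, loc_ker, MonoidHom.mem_ker]
        show (h : G) ∈ outKer G S a ↔ _
        rw [hsame]
        rw [← loc_ker hR.flip a h, hloc, ← map_one eo.permCongrHom]
        exact eo.permCongrHom.injective.eq_iff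
      have rf : Nat.card f.range = Nat.card φ0.range := by
        rw [← index_ker, ← index_ker, kf, kS]
      have rg : d * Nat.card g.range = Nat.card f.range := by
        rw [← index_ker, ← index_ker, kf, kg, index_ker, index_ker, hcard]
      have if1 := f.range.index_mul_card
      have ig1 := g.range.index_mul_card
      have i01 := φ0.range.index_mul_card
      rw [Nat.card_perm, Nat.card_fin] at if1 ig1
      rw [Nat.card_perm, hd] at i01
      have hdd : d * (d - 1).factorial = d.factorial := Nat.mul_factorial_pred (by omega)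
      have ef : f.range.index = φ0.range.index := by
        rw [rf] at if1
        exact Nat.eq_of_mul_eq_mul_right Nat.card_pos (if1.trans i01.symm)
      have eg : g.range.index = φ0.range.index := by
        have h4 : g.range.index * Nat.card φ0.range = d.factorial := by
          rw [← rf, ← rg, ← hdd, ← ig1]; ring
        exact Nat.eq_of_mul_eq_mul_right Nat.card_pos (h4.trans i01.symm)
      obtain ⟨k2, k1⟩ := classify f g hfg hfA hgA
      have hpos : φ0.range.index ≠ 0 := index_ne_zero_of_finite
      rcases (show φ0.range.index = 1 ∨ φ0.range.index = 2 by omega) with hi | hi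
      · exact Or.inr ⟨index_eq_one.mp hi, k1 ⟨index_eq_one.mp (ef.trans hi), index_eq_one.mp (eg.trans hi)⟩⟩
      · exact Or.inl ⟨hi, k2 ⟨ef.trans hi, eg.trans hi⟩⟩
    rcases deep_eq_bot_or hprim a b d hd (by omega) hnc with hP | hP
    · exact finish (Arc G a b) ⟨hR, by omega, cout, cin, deep_all _ hR hP, hAo, hAi, hke⟩ b hab hneR hker rfl
    · obtain ⟨g, hg⟩ := exists_smul_eq G b a
      exact finish (fun x y => Arc G a b y x)
        ⟨hR.flip, by omega, cin, cout, deep_all _ hR.flip hP, hAi, hAo, fun x => (hke x).symm⟩
        (g • a) ⟨g, rfl, hg⟩ (fun h => (hneR h).symm) (fun x => hke x ▸ hker x) (hke a)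
  rcases main with h | ⟨h, h1 | h1⟩
  · exact Or.inl h
  · exact Or.inr ⟨h, Or.inl h1⟩
  · exact Or.inr ⟨h, Or.inr (Or.inr h1)⟩

end Cfsg.Agent.S3687
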