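import Cfsg.Statements.S3696
import Cfsg.Agent.Lib.Recog.AbelianPermBound

set_option autoImplicit false
open Cfsg

namespace Cfsg.Agent.S3696

/-- Let p be a prime, Ω a finite set with n ≥ p elements, and A an abelian p-subgroup of the symmetric group on Ω whose elements of order dividing p number p^k (so k is the rank of A). Then |A| · k^k ≤ n^k, that is, |A| ≤ (n/k)^k. -/
theorem result {Ω : Type*} [Fintype Ω] [DecidableEq Ω]
    (p : ℕ) (hp : p.Prime) (hn : p ≤ Fintype.card Ω) (A : Subgroup (Equiv.Perm Ω)) (hA : IsPGroup p A) (hab : IsMulCommutative A)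
    (k : ℕ) (hk : Nat.card {x : A // x ^ p = 1} = p ^ k) :
    Nat.card A * k ^ k ≤ Fintype.card Ω ^ k := by
  classical
  have hab' : ∀ x ∈ A, ∀ y ∈ A, x * y = y * x := fun x hx y hy =>
    congrArg Subtype.val (hab.is_comm.comm ⟨x, hx⟩ ⟨y, hy⟩)
  let E : Subgroup (Equiv.Perm Ω) :=
    { carrier := {x | x ∈ A ∧ x ^ p = 1}
      one_mem' := ⟨A.one_mem, one_pow p⟩
      mul_mem' := fun {a b} ha hb => ⟨A.mul_mem ha.1 hb.1, by
        rw [(show Commute a b from hab' a ha.1 b hb.1).mul_pow, ha.2, hb.2, one_mul]⟩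
      inv_mem' := fun {a} ha => ⟨A.inv_mem ha.1, by rw [inv_pow, ha.2, inv_one]⟩ }
  have hE : Nat.card ↥(A ⊓ E) = p ^ k := by
    rw [← hk]
    exact Nat.card_congr
      { toFun := fun x => ⟨⟨x.1, x.2.1⟩, Subtype.ext x.2.2.2⟩
        invFun := fun x => ⟨x.1.1, x.1.2, x.1.2, congrArg Subtype.val x.2⟩
        left_inv := fun _ => rfl
        right_inv := fun _ => rfl }
  obtain ⟨f, h1, h2, h3⟩ := Recog.AbelianPermBound.exists_bound p hp A hA hab' E
    (fun x hx => ⟨fun h => h.2, fun h => ⟨hx, h⟩⟩) Finset.univ A le_rfl (fun b _ => Finset.subset_univ _) k hE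
  have h4 := Recog.AbelianPermBound.amgm f
  rw [h1] at h4
  rw [Finset.card_univ] at h3
  exact (Nat.mul_le_mul_right _ h2).trans (h4.trans (Nat.pow_le_pow_left h3 k))

end Cfsg.Agent.S3696
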