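import Cfsg.Statements.S3702
import Cfsg.Agent.Lib.Recog.AltNine.Main
import Cfsg.Agent.Lib.Recog.AltNine.Exists
import Cfsg.Agent.Lib.Basics.Cores

set_option autoImplicit false
open Cfsg

namespace Cfsg.Agent.S3702

/-- Let K ≤ Sym(9) be generated by (1 2 3), (1 4 7)(2 5 8)(3 6 9), (1 2)(4 5) and (1 4)(2 5)(3 6)(7 8) (the normalizer in Alt(9) of the elementary abelian group generated by (1 2 3), (4 5 6), (7 8 9)). Let G be a finite group with a subgroup H ≅ K and J = O₃(H). If C_G(j) ≤ H for every j ≠ 1 in J and J is strongly closed in H with respect to G (a G-conjugate of an element of J lying in H lies in J), then G = H. -/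
theorem result {G : Type*} [Group G] [Finite G] (H : Subgroup G)
    (hH : Nonempty (↥H ≃* ↥(Subgroup.closure ({Equiv.swap (0 : Fin 9) 1 * Equiv.swap 1 2,
        Equiv.swap (0 : Fin 9) 3 * Equiv.swap 3 6 * (Equiv.swap (1 : Fin 9) 4 * Equiv.swap 4 7) * (Equiv.swap (2 : Fin 9) 5 * Equiv.swap 5 8),
        Equiv.swap (0 : Fin 9) 1 * Equiv.swap 3 4, Equiv.swap (0 : Fin 9) 3 * Equiv.swap 1 4 * Equiv.swap 2 5 * Equiv.swap 6 7} : Set (Equiv.Perm (Fin 9))))))
    (J : Subgroup G) (hJ : J = (Cfsg.pCore 3 ↥H).map H.subtype)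
    (hC : ∀ j ∈ J, j ≠ 1 → Subgroup.centralizer ({j} : Set G) ≤ H) (hsc : Cfsg.IsStronglyClosed J H) : H = ⊤ := by
  classical
  haveI : Fintype G := Fintype.ofFinite G
  haveI : Fact (Nat.Prime 3) := ⟨Nat.prime_three⟩
  obtain ⟨e0⟩ := hH
  obtain ⟨e⟩ := AltNine.exists_model e0
  haveI : Fintype H := Fintype.ofFinite _
  let T : Subgroup H :=
    { carrier := {h | AltNine.isTr (e h) = true}
      one_mem' := by
        show AltNine.isTr (e 1) = true
        rw [map_one]
        rfl
      mul_mem' := fun {x y} hx hy => by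
        show AltNine.isTr (e (x * y)) = true
        rw [map_mul]
        exact (AltNine.tr_mul _ _ hx hy).1
      inv_mem' := fun {x} hx => by
        show AltNine.isTr (e x⁻¹) = true
        have h := AltNine.tr_cube _ hx
        rw [map_inv, inv_eq_of_mul_eq_one_left h]
        exact (AltNine.tr_mul _ _ hx hx).1 }
  haveI hTn : T.Normal := ⟨fun x hx c => by
    show AltNine.isTr (e (c * x * c⁻¹)) = true
    rw [map_mul, map_mul, map_inv]
    exact AltNine.tr_normal _ _ hx⟩
  have hTp : IsPGroup 3 T := fun x => ⟨1, Subtype.ext (e.injective (by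
    rw [SubgroupClass.coe_pow, map_pow, Subgroup.coe_one, map_one, pow_one, pow_succ, pow_two]
    exact AltNine.tr_cube _ x.2))⟩
  have hcore : ∀ h : H, h ∈ Cfsg.pCore 3 H ↔ AltNine.isTr (e h) = true := by
    refine fun h => ⟨fun hh => ?_, fun hh => Basics.le_pCore (N := T) hTp hh⟩
    by_contra hne
    rw [Bool.not_eq_true] at hne
    have key : ∀ x ∈ Cfsg.pCore 3 H, AltNine.cube (AltNine.cube (e x)) = 1 := by
      intro x hx
      apply AltNine.exp_three
      obtain ⟨k, hk⟩ := Basics.pCore_isPGroup (G := H) 3 ⟨x, hx⟩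
      have hk' : (e x) ^ 3 ^ k = 1 := by
        rw [← map_pow, show x ^ 3 ^ k = 1 from congrArg Subtype.val hk, map_one]
      obtain ⟨j, -, hj⟩ := (Nat.dvd_prime_pow Nat.prime_three).mp (orderOf_dvd_of_pow_eq_one hk')
      have hd : (3 : ℕ) ^ j ∣ 648 := by
        rw [← hj, ← AltNine.card_Mon]
        exact orderOf_dvd_card
      have hd' : (3 : ℕ) ^ j ∣ 81 :=
        ((Nat.Coprime.pow_left j (by norm_num : Nat.Coprime 3 8))).dvd_of_dvd_mul_right
          (show 3 ^ j ∣ 81 * 8 from hd)
      have := orderOf_dvd_iff_pow_eq_one.mp (hj ▸ hd')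
      have cp : ∀ m : AltNine.Mon, AltNine.cube m = m ^ 3 := fun m => by
        simp [AltNine.cube, pow_succ]
      rw [cp, cp, cp, cp, ← pow_mul, ← pow_mul, ← pow_mul]
      exact this
    obtain ⟨c, hc⟩ := AltNine.outside (e h) hne (key h hh)
    obtain ⟨y, hy⟩ := e.surjective ⟨0, c⟩
    haveI := (Subgroup.normal_of_characteristic (Cfsg.pCore 3 H))
    refine hc ?_
    rw [← hy, ← map_inv, ← map_mul, ← map_mul, ← map_mul]
    exact key _ (mul_mem hh (this.conj_mem _ hh y))
  have S : AltNine.Setup H J e := by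
    refine ⟨?_, fun h => ?_, hC, hsc.2⟩
    · rw [hJ]
      exact Subgroup.map_subtype_le _
    · rw [← hcore, hJ]
      exact Subgroup.mem_map_iff_mem H.subtype_injective
  exact S.eq_top

end Cfsg.Agent.S3702
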