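import Cfsg.Statements.S3704
import Cfsg.Agent.Lib.Recog.IndexDegree

set_option autoImplicit false
open Cfsg

namespace Cfsg.Agent.S3704

/-- Let G be a finite group acting faithfully and 2-transitively on a finite set Ω of size n, and let H be a subgroup of index n in G which is not transitive on Ω and fixes no point of Ω. Then H has exactly two orbits on Ω. -/
theorem result {G Ω : Type*} [Group G] [Finite G] [MulAction G Ω] [FaithfulSMul G Ω] [Finite Ω] (h2 : MulAction.IsMultiplyPretransitive G Ω 2) (H : Subgroup G) (hidx : H.index = Nat.card Ω) (hnt : ¬ MulAction.IsPretransitive H Ω) (hfix : ∀ a : Ω, ∃ h : H, h • a ≠ a) : Nat.card (MulAction.orbitRel.Quotient H Ω) = 2 := by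
  classical
  have := Fintype.ofFinite Ω
  have := Fintype.ofFinite (G ⧸ H)
  have : Nonempty Ω := by
    by_contra h
    rw [not_nonempty_iff] at h
    exact Subgroup.index_ne_zero_of_finite (H := H) (by rw [hidx, Nat.card_of_isEmpty])
  have hinv : ∀ a : Ω, ∀ h ∈ H, ∀ x ∈ MulAction.orbit H a, h • x ∈ MulAction.orbit H a := by
    intro a h hh x hx
    exact MulAction.mem_orbit_of_mem_orbit (⟨h, hh⟩ : H) hx
  obtain ⟨a⟩ := ‹Nonempty Ω›
  obtain ⟨b, hb⟩ : ∃ b, b ∉ MulAction.orbit H a := by
    by_contra hc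
    push Not at hc
    refine hnt ⟨fun x y => ?_⟩
    obtain ⟨g, rfl⟩ := hc x
    obtain ⟨k, rfl⟩ := hc y
    exact ⟨k * g⁻¹, by simp [mul_smul]⟩
  rw [Nat.card_eq_two_iff]
  refine ⟨⟦a⟧, ⟦b⟧, fun h => hb ?_, ?_⟩
  · exact MulAction.orbitRel_apply.1 (Quotient.exact h.symm)
  · rw [Set.eq_univ_iff_forall]
    intro o
    induction o using Quotient.inductionOn with
    | h z =>
      by_contra hz
      simp only [Set.mem_insert_iff, Set.mem_singleton_iff, not_or] at hz
      refine Cfsg.Agent.Recog.IndexDegree.two_orbits h2 (H := H) (O := MulAction.orbit H a)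
        (O' := MulAction.orbit H b) (by rw [hidx, Nat.card_eq_fintype_card]) (hinv a) (hinv b)
        (MulAction.mem_orbit_self a) (MulAction.mem_orbit_self b) hb (fun h => hb ?_) (z := z)
        (fun h => hz.1 (Quotient.sound h)) (fun h => hz.2 (Quotient.sound h))
      exact MulAction.mem_orbit_symm.1 h

end Cfsg.Agent.S3704
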