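import Cfsg.Statements.S3713
import Cfsg.Agent.Lib.Recog.SlimSp.Final

set_option autoImplicit false
open Cfsg

namespace Cfsg.Agent.S3713

/-- A presentation of the symplectic group as the universal completion of an amalgam of small subgroups. Let F be a field with more than two elements, n ≥ 2, and Sp the group of 2n × 2n matrices over F preserving the standard alternating form, acting on column vectors; write e_k, f_k for the standard basis vectors of the two halves (a hyperbolic basis). For each k let S_k be the subgroup of Sp fixing e_l and f_l for all l ≠ k (a copy of SL(2, F) on the plane of e_k, f_k), and for each i with i + 1 < n let M_i be the subgroup fixing every e_l and fixing f_l for all l other than i, i+1 (an abelian group isomorphic to the additive group of F³). Then Sp is the universal completion of the amalgam formed by the S_k, the M_i and the subgroups generated by two of them: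 for every group H and homomorphisms σ_k : S_k → H, μ_i : M_i → H such that for each pair of these subgroups some homomorphism on the subgroup they generate restricts to the given ones, there is exactly one homomorphism Sp → H restricting to every σ_k and μ_i. -/
theorem result
    (F : Type*) [Field F] (hF : ∃ a : F, a ≠ 0 ∧ a ≠ 1) (n : ℕ) (hn : 2 ≤ n)
    (S M : Fin n → Subgroup ↥(Matrix.symplecticGroup (Fin n) F))
    (hS : ∀ j : Fin n, S j = Subgroup.closure {A : ↥(Matrix.symplecticGroup (Fin n) F) | ∀ k : Fin n, k ≠ j →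
      ((A : ↥(Matrix.symplecticGroup (Fin n) F)) : Matrix (Fin n ⊕ Fin n) (Fin n ⊕ Fin n) F).mulVec (Pi.single (Sum.inl k) (1 : F)) = (Pi.single (Sum.inl k) (1 : F)) ∧ ((A : ↥(Matrix.symplecticGroup (Fin n) F)) : Matrix (Fin n ⊕ Fin n) (Fin n ⊕ Fin n) F).mulVec (Pi.single (Sum.inr k) (1 : F)) = (Pi.single (Sum.inr k) (1 : F))})
    (hM : ∀ i : Fin n, (i : ℕ) + 1 < n → M i = Subgroup.closure {A : ↥(Matrix.symplecticGroup (Fin n) F) |
      (∀ k : Fin n, ((A : ↥(Matrix.symplecticGroup (Fin n) F)) : Matrix (Fin n ⊕ Fin n) (Fin n ⊕ Fin n) F).mulVec (Pi.single (Sum.inl k) (1 : F)) = (Pi.single (Sum.inl k) (1 : F))) ∧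
        ∀ k : Fin n, (k : ℕ) ≠ i → (k : ℕ) ≠ (i : ℕ) + 1 → ((A : ↥(Matrix.symplecticGroup (Fin n) F)) : Matrix (Fin n ⊕ Fin n) (Fin n ⊕ Fin n) F).mulVec (Pi.single (Sum.inr k) (1 : F)) = (Pi.single (Sum.inr k) (1 : F))})
    {H : Type*} [Group H] (σ : ∀ j : Fin n, ↥(S j) →* H) (μ : ∀ i : Fin n, ↥(M i) →* H)
    (hSS : ∀ j l : Fin n, j ≠ l → ∃ Ψ : ↥(S j ⊔ S l) →* H,
      (∀ (g : ↥(Matrix.symplecticGroup (Fin n) F)) (hg : g ∈ S j), Ψ ⟨g, Subgroup.mem_sup_left hg⟩ = σ j ⟨g, hg⟩) ∧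
        (∀ (g : ↥(Matrix.symplecticGroup (Fin n) F)) (hg : g ∈ S l), Ψ ⟨g, Subgroup.mem_sup_right hg⟩ = σ l ⟨g, hg⟩))
    (hMM : ∀ i i' : Fin n, i ≠ i' → (i : ℕ) + 1 < n → (i' : ℕ) + 1 < n → ∃ Ψ : ↥(M i ⊔ M i') →* H,
      (∀ (g : ↥(Matrix.symplecticGroup (Fin n) F)) (hg : g ∈ M i), Ψ ⟨g, Subgroup.mem_sup_left hg⟩ = μ i ⟨g, hg⟩) ∧
        (∀ (g : ↥(Matrix.symplecticGroup (Fin n) F)) (hg : g ∈ M i'), Ψ ⟨g, Subgroup.mem_sup_right hg⟩ = μ i' ⟨g, hg⟩))
    (hMS : ∀ i j : Fin n, (i : ℕ) + 1 < n → ∃ Ψ : ↥(M i ⊔ S j) →* H,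
      (∀ (g : ↥(Matrix.symplecticGroup (Fin n) F)) (hg : g ∈ M i), Ψ ⟨g, Subgroup.mem_sup_left hg⟩ = μ i ⟨g, hg⟩) ∧
        (∀ (g : ↥(Matrix.symplecticGroup (Fin n) F)) (hg : g ∈ S j), Ψ ⟨g, Subgroup.mem_sup_right hg⟩ = σ j ⟨g, hg⟩)) :
    ∃! Φ : ↥(Matrix.symplecticGroup (Fin n) F) →* H,
      (∀ (j : Fin n) (g : ↥(Matrix.symplecticGroup (Fin n) F)) (hg : g ∈ S j), Φ g = σ j ⟨g, hg⟩) ∧
        (∀ (i : Fin n), (i : ℕ) + 1 < n → ∀ (g : ↥(Matrix.symplecticGroup (Fin n) F)) (hg : g ∈ M i), Φ g = μ i ⟨g, hg⟩) := by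
  classical
  have hSe : ∀ j, S j = SlimSp.Sj j := fun j => by
    rw [hS j]; exact Subgroup.closure_eq (SlimSp.Sj j)
  have hMe : ∀ i : Fin n, (i : ℕ) + 1 < n → M i = SlimSp.Mi i := fun i hi => by
    rw [hM i hi]; exact Subgroup.closure_eq (SlimSp.Mi i)
  set θ := MonoidHom.fst (↥(Matrix.symplecticGroup (Fin n) F)) H
  set GS : Fin n → Subgroup (↥(Matrix.symplecticGroup (Fin n) F) × H) :=
    fun j => ((S j).subtype.prod (σ j)).range with hGS
  set GM : Fin n → Subgroup (↥(Matrix.symplecticGroup (Fin n) F) × H) :=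
    fun i => ((M i).subtype.prod (μ i)).range with hGM
  have graph : ∀ (T : Subgroup ↥(Matrix.symplecticGroup (Fin n) F)) (Ψ : ↥T →* H),
      SlimSp.Inj θ (T.subtype.prod Ψ).range := by
    rintro T Ψ _ ⟨g, rfl⟩ e
    have : g = 1 := Subtype.ext e
    rw [this, map_one]
  have hmap : ∀ (T : Subgroup ↥(Matrix.symplecticGroup (Fin n) F)) (Ψ : ↥T →* H),
      ((T.subtype.prod Ψ).range).map θ = T := by
    intro T Ψ
    rw [MonoidHom.map_range]
    exact T.range_subtype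
  have join : ∀ (T U : Subgroup ↥(Matrix.symplecticGroup (Fin n) F)) (f : ↥T →* H) (f' : ↥U →* H)
      (Ψ : ↥(T ⊔ U) →* H), (∀ g (hg : g ∈ T), Ψ ⟨g, Subgroup.mem_sup_left hg⟩ = f ⟨g, hg⟩) →
      (∀ g (hg : g ∈ U), Ψ ⟨g, Subgroup.mem_sup_right hg⟩ = f' ⟨g, hg⟩) →
      SlimSp.Inj θ ((T.subtype.prod f).range ⊔ (U.subtype.prod f').range) := by
    intro T U f f' Ψ h1 h2
    refine (graph _ Ψ).mono (sup_le ?_ ?_)
    · rintro _ ⟨⟨g, hg⟩, rfl⟩
      exact ⟨⟨g, Subgroup.mem_sup_left hg⟩, Prod.ext rfl (h1 g hg)⟩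
    · rintro _ ⟨⟨g, hg⟩, rfl⟩
      exact ⟨⟨g, Subgroup.mem_sup_right hg⟩, Prod.ext rfl (h2 g hg)⟩
  have A : SlimSp.Amal θ GS GM :=
    { mapS := fun j => (hmap _ _).trans (hSe j)
      mapM := fun i hi => (hmap _ _).trans (hMe i hi)
      injS := fun j => graph _ _
      injSS := fun j l hjl => by
        obtain ⟨Ψ, h1, h2⟩ := hSS j l hjl
        exact join _ _ _ _ Ψ h1 h2
      injMM := fun i i' hne hi hi' => by
        obtain ⟨Ψ, h1, h2⟩ := hMM i i' hne hi hi'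
        exact join _ _ _ _ Ψ h1 h2
      injMS := fun i j hi => by
        obtain ⟨Ψ, h1, h2⟩ := hMS i j hi
        exact join _ _ _ _ Ψ h1 h2 }
  have hinj := A.inj_all hF n 0 (Nat.zero_add n)
  have hsurj : ∀ g, g ∈ (SlimSp.Gam GS GM 0).map θ := fun g => by
    rw [A.map_Gam (Nat.zero_le n)]; exact fun l hl => absurd hl (Nat.not_lt_zero _)
  let Φ : ↥(Matrix.symplecticGroup (Fin n) F) →* H :=
    { toFun := fun g => (SlimSp.lift θ (SlimSp.Gam GS GM 0) g).2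
      map_one' := by rw [SlimSp.lift_one hinj]; rfl
      map_mul' := fun g h => by rw [← SlimSp.lift_mul hinj (hsurj g) (hsurj h)]; rfl }
  have hΦS : ∀ (j : Fin n) (g : ↥(Matrix.symplecticGroup (Fin n) F)) (hg : g ∈ S j), Φ g = σ j ⟨g, hg⟩ := by
    intro j g hg
    have hm : ((g, σ j ⟨g, hg⟩) : ↥(Matrix.symplecticGroup (Fin n) F) × H) ∈ SlimSp.Gam GS GM 0 :=
      SlimSp.GS_le_Gam (Nat.zero_le _) ⟨⟨g, hg⟩, rfl⟩
    show (SlimSp.lift θ (SlimSp.Gam GS GM 0) g).2 = _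
    rw [← SlimSp.lift_eq hinj hm (g := g) rfl]
  have hΦM : ∀ (i : Fin n), (i : ℕ) + 1 < n → ∀ (g : ↥(Matrix.symplecticGroup (Fin n) F)) (hg : g ∈ M i),
      Φ g = μ i ⟨g, hg⟩ := by
    intro i hi g hg
    have hm : ((g, μ i ⟨g, hg⟩) : ↥(Matrix.symplecticGroup (Fin n) F) × H) ∈ SlimSp.Gam GS GM 0 :=
      SlimSp.GM_le_Gam (Nat.zero_le _) hi ⟨⟨g, hg⟩, rfl⟩
    show (SlimSp.lift θ (SlimSp.Gam GS GM 0) g).2 = _
    rw [← SlimSp.lift_eq hinj hm (g := g) rfl]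
  refine ⟨Φ, ⟨hΦS, hΦM⟩, fun Φ' hΦ' => ?_⟩
  refine MonoidHom.eq_of_eqOn_dense (s := SlimSp.genSet 0) ?_ ?_
  · rw [eq_top_iff]
    intro g _
    show g ∈ SlimSp.Gen 0
    rw [SlimSp.Gen_eq (Nat.zero_le n)]
    exact fun l hl => absurd hl (Nat.not_lt_zero _)
  · rintro g (⟨j, -, hg⟩ | ⟨i, -, hi, hg⟩)
    · rw [← hSe j] at hg
      rw [hΦ'.1 j g hg, hΦS j g hg]
    · rw [← hMe i hi] at hg
      rw [hΦ'.2 i hi g hg, hΦM i hi g hg]

end Cfsg.Agent.S3713
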