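import Cfsg.Statements.S3733
import Mathlib

set_option autoImplicit false
open Cfsg

namespace Cfsg.Agent.S3733

/-- Let A and V be subgroups of a finite group with V abelian and nontrivial and A normalizing V. Suppose a nonempty finite family of proper subgroups of A partitions A: every non-identity element of A lies in exactly one member. If the number of members minus one is coprime to the order of V, then some member B of the family has a non-identity fixed point on V, that is V ∩ C(B) ≠ 1. -/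
theorem result {G : Type*} [Group G] [Finite G] (A V : Subgroup G) (hVab : IsMulCommutative V) (hV : V ≠ ⊥) (hAV : A ≤ Subgroup.normalizer (V : Set G)) (𝒜 : Finset (Subgroup G)) (hne : 𝒜.Nonempty) (hprop : ∀ B ∈ 𝒜, B < A) (hpart : ∀ a ∈ A, a ≠ 1 → ∃! B, B ∈ 𝒜 ∧ a ∈ B) (hk : (𝒜.card - 1).Coprime (Nat.card V)) : ∃ B ∈ 𝒜, V ⊓ Subgroup.centralizer (B : Set G) ≠ ⊥ := by
  classical
  haveI := Fintype.ofFinite G
  by_contra hcon
  simp only [not_exists, not_and, ne_eq, not_not] at hcon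
  obtain ⟨x, hxV, hx1⟩ := V.bot_or_exists_ne_one.resolve_left hV
  let inst : CommGroup V :=
    { (inferInstance : Group V) with mul_comm := fun a b => hVab.is_comm.comm a b }
  let f : G → V := fun a => if h : a ∈ A then
    ⟨a * x * a⁻¹, (Subgroup.mem_normalizer_iff.mp (hAV h) _).mp hxV⟩ else 1
  let S : Subgroup G → Finset G := fun B => Finset.univ.filter fun a => a ∈ B
  have hS : ∀ B a, a ∈ S B ↔ a ∈ B := fun B a => by simp [S]
  have hfix : ∀ B : Subgroup G, B ≤ A →
      ((∏ a ∈ S B, f a : V) : G) ∈ Subgroup.centralizer (B : Set G) := by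
    intro B hB
    rw [Subgroup.mem_centralizer_iff]
    intro b hb
    have hbN := hAV (hB hb)
    let σ : V →* V := MonoidHom.mk'
      (fun v => ⟨b * (v : G) * b⁻¹, (Subgroup.mem_normalizer_iff.mp hbN _).mp v.2⟩)
      fun v w => Subtype.ext (by
        show b * ((v : G) * w) * b⁻¹ = b * v * b⁻¹ * (b * w * b⁻¹)
        group)
    have h1 : σ (∏ a ∈ S B, f a) = ∏ a ∈ S B, f a := by
      rw [map_prod]
      refine Finset.prod_equiv (Equiv.mulLeft b) (fun a => ?_) (fun a ha => ?_)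
      · rw [hS, hS, Equiv.coe_mulLeft, Subgroup.mul_mem_cancel_left _ hb]
      · have haA : a ∈ A := hB ((hS B a).mp ha)
        refine Subtype.ext ?_
        show b * ((f a : V) : G) * b⁻¹ = ((f (b * a) : V) : G)
        simp only [f, dif_pos haA, dif_pos (A.mul_mem (hB hb) haA)]
        group
    exact mul_inv_eq_iff_eq_mul.mp (congrArg Subtype.val h1)
  have hf1 : f 1 = ⟨x, hxV⟩ := Subtype.ext (by simp [f, dif_pos A.one_mem])
  have hone : ∀ B : Subgroup G, B ≤ A → (∃ C ∈ 𝒜, C ≤ B) → ∏ a ∈ (S B).erase 1, f a = (f 1)⁻¹ := by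
    rintro B hB ⟨C, hC, hCB⟩
    have h1 : ((∏ a ∈ S B, f a : V) : G) ∈ V ⊓ Subgroup.centralizer (C : Set G) :=
      ⟨(∏ a ∈ S B, f a : V).2, Subgroup.mem_centralizer_iff.mpr fun c hc =>
        Subgroup.mem_centralizer_iff.mp (hfix B hB) c (hCB hc)⟩
    rw [hcon C hC, Subgroup.mem_bot] at h1
    have h2 : ∏ a ∈ S B, f a = 1 := Subtype.ext h1
    rw [← Finset.mul_prod_erase _ _ ((hS B 1).mpr B.one_mem)] at h2
    exact eq_inv_of_mul_eq_one_right h2
  obtain ⟨B₀, hB₀⟩ := hne
  have hU : (S A).erase 1 = 𝒜.biUnion fun B => (S B).erase 1 := by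
    ext a
    simp only [Finset.mem_biUnion, Finset.mem_erase, hS]
    constructor
    · rintro ⟨ha1, ha⟩
      obtain ⟨B, hB, -⟩ := hpart a ha ha1
      exact ⟨B, hB.1, ha1, hB.2⟩
    · rintro ⟨B, hB, ha1, haB⟩
      exact ⟨ha1, (hprop B hB).le haB⟩
  have hA1 := hone A le_rfl ⟨B₀, hB₀, (hprop B₀ hB₀).le⟩
  rw [hU, Finset.prod_biUnion] at hA1
  · rw [Finset.prod_congr rfl fun B hB => hone B (hprop B hB).le ⟨B, hB, le_rfl⟩,
      Finset.prod_const] at hA1
    obtain ⟨k, hk'⟩ : ∃ k, 𝒜.card = k + 1 :=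
      ⟨𝒜.card - 1, (Nat.succ_pred_eq_of_pos (Finset.card_pos.mpr ⟨B₀, hB₀⟩)).symm⟩
    rw [hk', pow_succ, mul_eq_right, inv_pow, inv_eq_one, hf1] at hA1
    rw [hk', Nat.add_sub_cancel] at hk
    have h3 := Nat.eq_one_of_dvd_coprimes hk (orderOf_dvd_of_pow_eq_one hA1)
      (_root_.orderOf_dvd_natCard _)
    exact hx1 (congrArg Subtype.val (orderOf_eq_one_iff.mp h3))
  · intro B hB C hC hBC
    show Disjoint ((S B).erase 1) ((S C).erase 1)
    rw [Finset.disjoint_left]
    intro a haB haC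
    simp only [Finset.mem_erase, hS] at haB haC
    exact hBC ((hpart a ((hprop B hB).le haB.2) haB.1).unique ⟨hB, haB.2⟩ ⟨hC, haC.2⟩)

end Cfsg.Agent.S3733
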