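import Cfsg.Statements.S3734
import Cfsg.Agent.Lib.Basics.CoprimeGen
import Cfsg.Agent.Lib.Basics.CoprimeAction

set_option autoImplicit false
open Cfsg
open scoped commutatorElement

namespace Cfsg.Agent.S3734

/-- Let A and G be subgroups of a finite group with A abelian, A normalizing G and the orders of A and G coprime. Then G is generated by the fixed-point subgroups C_G(B) of those subgroups B of A for which A/B is cyclic (that is, A = ⟨B, a⟩ for some a), and [G, A] is generated by the commutator subgroups [C_G(B), A] over the same subgroups B. -/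
theorem result {X : Type*} [Group X] [Finite X] (A G : Subgroup X) (hAab : IsMulCommutative A) (hAG : A ≤ Subgroup.normalizer (G : Set X)) (hcop : (Nat.card A).Coprime (Nat.card G)) : (⨆ B ∈ {B : Subgroup X | B ≤ A ∧ ∃ a ∈ A, B ⊔ Subgroup.zpowers a = A}, G ⊓ Subgroup.centralizer (B : Set X)) = G ∧ (⨆ B ∈ {B : Subgroup X | B ≤ A ∧ ∃ a ∈ A, B ⊔ Subgroup.zpowers a = A}, ⁅G ⊓ Subgroup.centralizer (B : Set X), A⁆) = ⁅G, A⁆ := by
  haveI := hAab
  set 𝓑 := {B : Subgroup X | B ≤ A ∧ ∃ a ∈ A, B ⊔ Subgroup.zpowers a = A} with h𝓑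
  have hgen : ∀ K : Subgroup X, A ≤ Subgroup.normalizer (K : Set X) →
      (Nat.card A).Coprime (Nat.card K) → (⨆ B ∈ 𝓑, K ⊓ Subgroup.centralizer (B : Set X)) = K :=
    fun K h1 h2 => le_antisymm (iSup₂_le fun B _ => inf_le_left)
      (Basics.le_iSup_inf_centralizer_cyclic A K h1 h2)
  refine ⟨hgen G hAG hcop, le_antisymm
    (iSup₂_le fun B _ => Subgroup.commutator_mono inf_le_left le_rfl) ?_⟩
  have hsolv : Group.IsSolvable A := Group.isSolvable_of_comm fun a b => mul_comm' a b
  set K := ⁅G, A⁆ with hK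
  have hKG : K ≤ G := Subgroup.le_normalizer_iff_commutator_le_left.mp hAG
  have hAK : A ≤ Subgroup.normalizer (K : Set X) := Subgroup.normalizer_commutator_ge_right G A
  have hcopK : (Nat.card A).Coprime (Nat.card K) := hcop.coprime_dvd_right (Subgroup.card_dvd_of_le hKG)
  set D : Subgroup X → Subgroup X := fun B => K ⊓ Subgroup.centralizer (B : Set X) with hD
  have hnA : ∀ B ∈ 𝓑, A ≤ Subgroup.normalizer (D B : Set X) := fun B hB =>
    le_trans (le_inf hAK (le_trans (fun a ha => Subgroup.mem_centralizer_iff.mpr fun b hb =>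
      congrArg Subtype.val (mul_comm' (⟨b, hB.1 hb⟩ : A) ⟨a, ha⟩))
      Subgroup.le_normalizer)) Subgroup.inf_normalizer_le_normalizer_inf
  -- the join of the commutators
  set W := ⨆ B ∈ 𝓑, ⁅D B, A⁆ with hW
  set C := K ⊓ Subgroup.centralizer (A : Set X) with hC
  have hnorm : C ⊔ A ≤ Subgroup.normalizer (W : Set X) := by
    refine le_trans ?_ (Subgroup.iInf_normalizer_le_normalizer_iSup fun B => ⨆ _ : B ∈ 𝓑, ⁅D B, A⁆)
    refine le_iInf fun B => le_trans ?_ (Subgroup.iInf_normalizer_le_normalizer_iSup _)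
    refine le_iInf fun hB => sup_le ?_ (Subgroup.normalizer_commutator_ge_right _ _)
    intro c hc
    have h1 : c ∈ Subgroup.normalizer (D B : Set X) :=
      Subgroup.inf_normalizer_le_normalizer_inf ⟨Subgroup.le_normalizer hc.1,
        Subgroup.le_normalizer (Subgroup.centralizer_le hB.1 hc.2)⟩
    have h2 : c ∈ Subgroup.normalizer (A : Set X) := Subgroup.centralizer_le_normalizer _ hc.2
    rw [Subgroup.mem_normalizer_iff_map_conj_eq] at h1 h2 ⊢
    rw [Subgroup.map_commutator, h1, h2]
  have hKW : K ≤ W ⊔ C := by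
    rw [← hgen K hAK hcopK]
    refine iSup₂_le fun B hB => ?_
    have h := Basics.commutator_sup_inf_centralizer A (D B) (hnA B hB)
      (hcopK.coprime_dvd_right (Subgroup.card_dvd_of_le inf_le_left)) (Or.inl hsolv)
    refine h.ge.trans (sup_le_sup ?_ (inf_le_inf_right _ inf_le_left))
    exact le_iSup₂ (f := fun B _ => ⁅D B, A⁆) B hB
  have hKA : ⁅K, A⁆ ≤ W := by
    refine Subgroup.commutator_le.mpr fun k hk a ha => ?_
    obtain ⟨w, hw, c, hc, rfl⟩ :=
      (Basics.mem_sup_of_le_normalizer (le_sup_left.trans hnorm)).mp (hKW hk)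
    have hca : c * a = a * c := (Subgroup.mem_centralizer_iff.mp hc.2 a ha).symm
    have he : ⁅w * c, a⁆ = ⁅w, a⁆ := by
      rw [commutatorElement_def, commutatorElement_def, mul_assoc w c a, hca]
      group
    rw [he, commutatorElement_def, mul_assoc w a, mul_assoc w]
    exact W.mul_mem hw ((Subgroup.mem_normalizer_iff.mp (hnorm (Subgroup.mem_sup_right ha)) _).mp
      (W.inv_mem hw))
  rw [hK, ← Basics.commutator_commutator_eq A G hAG hcop (Or.inl hsolv)]
  exact hKA.trans (iSup₂_mono fun B _ => Subgroup.commutator_mono (inf_le_inf_right _ hKG) le_rfl)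

end Cfsg.Agent.S3734
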