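import Cfsg.Statements.S3735
import Cfsg.Agent.Lib.Basics.Tools

set_option autoImplicit false
open Cfsg

namespace Cfsg.Agent.S3735

open scoped Pointwise

/-- Minimal nontrivial `A`-invariant subgroups of `V`. -/
def Irr {G : Type*} [Group G] (A V M : Subgroup G) : Prop :=
  M ≤ V ∧ A ≤ Subgroup.normalizer (M : Set G) ∧ M ≠ ⊥ ∧
    ∀ K : Subgroup G, K ≤ M → A ≤ Subgroup.normalizer (K : Set G) → K = ⊥ ∨ K = M

theorem le_normalizer_sSup {G : Type*} [Group G] {A : Subgroup G} {P : Subgroup G → Prop}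
    (hP : ∀ a ∈ A, ∀ M, P M → P (MulAut.conj a • M)) :
    A ≤ Subgroup.normalizer ((sSup {M | P M} : Subgroup G) : Set G) := by
  have hle : ∀ a ∈ A, MulAut.conj a • sSup {M | P M} ≤ sSup {M | P M} := by
    intro a ha
    rw [Subgroup.pointwise_smul_subset_iff]
    refine sSup_le fun M hM => ?_
    rw [← Subgroup.pointwise_smul_subset_iff]
    exact le_sSup (hP a ha M hM)
  intro a ha
  rw [← Cfsg.Agent.Basics.conj_smul_eq_self_iff]
  refine le_antisymm (hle a ha) ?_
  rw [Subgroup.subset_pointwise_smul_iff, ← map_inv]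
  exact hle a⁻¹ (inv_mem ha)

/-- Clifford's Theorem for actions on finite abelian groups, first part. Let H and V be subgroups of a finite group with V abelian and H normalizing V, and let A be a normal subgroup of H. If every H-invariant subgroup of V has an H-invariant complement in V, then every A-invariant subgroup of V has an A-invariant complement in V. -/
theorem result {G : Type*} [Group G] [Finite G] (H A V : Subgroup G) (hVab : IsMulCommutative V) (hHV : H ≤ Subgroup.normalizer (V : Set G)) (hAH : A ≤ H) (hAn : H ≤ Subgroup.normalizer (A : Set G)) (hss : ∀ U : Subgroup G, U ≤ V → H ≤ Subgroup.normalizer (U : Set G) → ∃ W : Subgroup G, W ≤ V ∧ H ≤ Subgroup.normalizer (W : Set G) ∧ U ⊓ W = ⊥ ∧ U ⊔ W = V) (U : Subgroup G) (hUV : U ≤ V) (hAU : A ≤ Subgroup.normalizer (U : Set G)) : ∃ W : Subgroup G, W ≤ V ∧ A ≤ Subgroup.normalizer (W : Set G) ∧ U ⊓ W = ⊥ ∧ U ⊔ W = V := by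
  have hcomm : ∀ x ∈ V, ∀ y ∈ V, x * y = y * x := fun x hx y hy =>
    congrArg Subtype.val (hVab.is_comm.comm (⟨x, hx⟩ : V) ⟨y, hy⟩)
  -- a minimal invariant subgroup below any nontrivial invariant one
  have hminex : ∀ W : Subgroup G, W ≤ V → A ≤ Subgroup.normalizer (W : Set G) → W ≠ ⊥ →
      ∃ M : Subgroup G, M ≤ W ∧ Irr A V M := by
    intro W hWV hWA hW
    obtain ⟨M, ⟨hMW, hMA, hM0⟩, hmin⟩ := WellFounded.has_min (wellFounded_lt (α := Subgroup G))
      {M | M ≤ W ∧ A ≤ Subgroup.normalizer (M : Set G) ∧ M ≠ ⊥} ⟨W, le_rfl, hWA, hW⟩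
    refine ⟨M, hMW, hMW.trans hWV, hMA, hM0, fun K hKM hKA => ?_⟩
    by_contra hc
    push_neg at hc
    exact hmin K ⟨hKM.trans hMW, hKA, hc.1⟩ (lt_of_le_of_ne hKM hc.2)
  set S : Subgroup G := sSup {M | Irr A V M} with hS
  have hSV : S ≤ V := sSup_le fun M hM => hM.1
  have hSA : A ≤ Subgroup.normalizer (S : Set G) := le_normalizer_sSup fun a ha M hM => by
    rw [Cfsg.Agent.Basics.conj_smul_eq_self_iff.mpr (hM.2.1 ha)]
    exact hM
  have hSH : H ≤ Subgroup.normalizer (S : Set G) := le_normalizer_sSup fun h hh M hM => by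
    refine ⟨?_, ?_, ?_, ?_⟩
    · exact (Subgroup.pointwise_smul_le_pointwise_smul_iff.mpr hM.1).trans
        (Cfsg.Agent.Basics.conj_smul_eq_self_iff.mpr (hHV hh)).le
    · intro a ha
      rw [← Cfsg.Agent.Basics.conj_smul_eq_self_iff, Cfsg.Agent.Basics.conj_smul_conj_smul]
      have hconj : h⁻¹ * a * h ∈ A := by
        have := (Subgroup.mem_normalizer_iff.mp (inv_mem (hAn hh)) a).mp ha
        rwa [inv_inv] at this
      have : a * h = h * (h⁻¹ * a * h) := by group
      rw [this, ← Cfsg.Agent.Basics.conj_smul_conj_smul,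
        Cfsg.Agent.Basics.conj_smul_eq_self_iff.mpr (hM.2.1 hconj)]
    · intro hb
      apply hM.2.2.1
      rw [← Cfsg.Agent.Basics.conj_smul_inv_eq hb, Subgroup.smul_bot]
    · intro K hK hKA
      have hK' : MulAut.conj h⁻¹ • K ≤ M := by
        rw [map_inv]
        exact Subgroup.pointwise_smul_subset_iff.mpr (by rwa [inv_inv])
      rcases hM.2.2.2 (MulAut.conj h⁻¹ • K) hK' (by
        intro a ha
        rw [← Cfsg.Agent.Basics.conj_smul_eq_self_iff, Cfsg.Agent.Basics.conj_smul_conj_smul]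
        have hconj : h * a * h⁻¹ ∈ A := (Subgroup.mem_normalizer_iff.mp (hAn hh) a).mp ha
        have : a * h⁻¹ = h⁻¹ * (h * a * h⁻¹) := by group
        rw [this, ← Cfsg.Agent.Basics.conj_smul_conj_smul,
          Cfsg.Agent.Basics.conj_smul_eq_self_iff.mpr (hKA hconj)]) with h1 | h1
      · left
        have := Cfsg.Agent.Basics.conj_smul_inv_eq h1
        rw [inv_inv, Subgroup.smul_bot] at this
        exact this.symm
      · right
        have := Cfsg.Agent.Basics.conj_smul_inv_eq h1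
        rw [inv_inv] at this
        exact this.symm
  have hSeq : S = V := by
    obtain ⟨W, hWV, hWH, hinf, hsup⟩ := hss S hSV hSH
    by_cases hW : W = ⊥
    · rw [hW, sup_bot_eq] at hsup
      exact hsup
    · exfalso
      obtain ⟨M, hMW, hM⟩ := hminex W hWV ((hAH.trans hWH)) hW
      apply hM.2.2.1
      rw [eq_bot_iff, ← hinf]
      exact le_inf (le_sSup hM) hMW
  -- a maximal invariant subgroup meeting `U` trivially
  obtain ⟨W, -, ⟨hWV, hWA, hUW⟩, hmax⟩ := Finite.exists_le_maximal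
    (p := fun W : Subgroup G => W ≤ V ∧ A ≤ Subgroup.normalizer (W : Set G) ∧ U ⊓ W = ⊥)
    (a := ⊥) ⟨bot_le, fun a _ => Cfsg.Agent.Basics.conj_smul_eq_self_iff.mp (Subgroup.smul_bot _), inf_bot_eq U⟩
  refine ⟨W, hWV, hWA, hUW, le_antisymm (sup_le hUV hWV) ?_⟩
  rw [← hSeq]
  refine sSup_le fun M hM => ?_
  by_contra hMle
  have hMinf : M ⊓ (U ⊔ W) = ⊥ := by
    refine (hM.2.2.2 _ inf_le_left ?_).resolve_right fun h => hMle (h ▸ inf_le_right)
    intro a ha
    rw [← Cfsg.Agent.Basics.conj_smul_eq_self_iff, Subgroup.smul_inf, Subgroup.smul_sup,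
      Cfsg.Agent.Basics.conj_smul_eq_self_iff.mpr (hM.2.1 ha),
      Cfsg.Agent.Basics.conj_smul_eq_self_iff.mpr (hAU ha),
      Cfsg.Agent.Basics.conj_smul_eq_self_iff.mpr (hWA ha)]
  have hbig : U ⊓ (W ⊔ M) = ⊥ := by
    rw [eq_bot_iff]
    rintro u ⟨huU, huWM⟩
    have hWM : M ≤ Subgroup.normalizer (W : Set G) := fun m hm => by
      rw [Subgroup.mem_normalizer_iff]
      intro w
      constructor
      · intro hw
        rwa [hcomm m (hM.1 hm) w (hWV hw), mul_inv_cancel_right]
      · intro hw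
        have := hcomm m (hM.1 hm) _ (hWV hw)
        have h2 : w = m * w * m⁻¹ := by
          have h3 : m * (m * w * m⁻¹) * m⁻¹ = m * w * m⁻¹ := by
            rw [this, mul_inv_cancel_right]
          have h4 : m * w * m⁻¹ = w := mul_left_cancel
            (a := m) (mul_right_cancel (b := m⁻¹) h3)
          exact h4.symm
        rwa [← h2] at hw
    obtain ⟨w, hw, m, hm, rfl⟩ := (Cfsg.Agent.Basics.mem_sup_of_le_normalizer hWM).mp huWM
    have hmem : m ∈ M ⊓ (U ⊔ W) := ⟨hm, by
      have := mul_mem (Subgroup.mem_sup_right (S := U) (inv_mem hw))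
        (Subgroup.mem_sup_left (T := W) huU)
      rwa [inv_mul_cancel_left] at this⟩
    rw [hMinf, Subgroup.mem_bot] at hmem
    subst hmem
    rw [mul_one] at huU ⊢
    exact hUW ▸ Subgroup.mem_inf.mpr ⟨huU, hw⟩
  have hMW' : M ≤ W := by
    have h := hmax ⟨sup_le hWV hM.1, fun a ha => by
      rw [← Cfsg.Agent.Basics.conj_smul_eq_self_iff, Subgroup.smul_sup,
        Cfsg.Agent.Basics.conj_smul_eq_self_iff.mpr (hM.2.1 ha),
        Cfsg.Agent.Basics.conj_smul_eq_self_iff.mpr (hWA ha)], hbig⟩ le_sup_left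
    exact le_sup_right.trans h
  exact hMle (hMW'.trans le_sup_right)

end Cfsg.Agent.S3735
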