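import Cfsg.Statements.S3736
import Cfsg.Agent.Lib.Basics.Frattini
import Cfsg.Agent.Lib.Basics.CoprimeAction
import Cfsg.Agent.Lib.Coprime23.Omega

set_option autoImplicit false
open Cfsg
open scoped commutatorElement

namespace Cfsg.Agent.S3736

/-- The Hall–Higman reduction for a minimal non-trivial action. Let B, A and P be subgroups of a finite group with P a p-group, B normalizing P, and A a normal subgroup of B of order prime to p. Suppose A does not centralize P but centralizes every proper B-invariant subgroup of P. Then [P, A] = P; P is elementary abelian or special; B acts irreducibly on P/Φ(P), that is, the only B-invariant subgroups of P containing Φ(P) are Φ(P) and P; and if p is odd then every element of P has order dividing p. -/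
theorem result {X : Type*} [Group X] [Finite X] {p : ℕ} [Fact p.Prime] (B A P : Subgroup X) (hP : IsPGroup p P) (hBP : B ≤ Subgroup.normalizer (P : Set X)) (hAB : A ≤ B) (hAn : B ≤ Subgroup.normalizer (A : Set X)) (hAp : (Nat.card A).Coprime p) (hnt : ⁅P, A⁆ ≠ ⊥) (hmin : ∀ U : Subgroup X, U < P → B ≤ Subgroup.normalizer (U : Set X) → ⁅U, A⁆ = ⊥) : ⁅P, A⁆ = P ∧ (Cfsg.IsElementaryAbelian p P ∨ Cfsg.IsSpecial p ↥P) ∧ (∀ U : Subgroup X, (frattini ↥P).map P.subtype ≤ U → U ≤ P → B ≤ Subgroup.normalizer (U : Set X) → U = (frattini ↥P).map P.subtype ∨ U = P) ∧ (p ≠ 2 → ∀ x ∈ P, x ^ p = 1) := by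
  have hp : p.Prime := Fact.out
  have hAP : A ≤ Subgroup.normalizer (P : Set X) := hAB.trans hBP
  obtain ⟨k, hk⟩ := IsPGroup.iff_card.mp hP
  have hcop : (Nat.card A).Coprime (Nat.card P) := by rw [hk]; exact hAp.pow_right k
  have hsolvP : Group.IsSolvable P := haveI := hP.isNilpotent; inferInstance
  haveI := hP.isNilpotent
  have hPA : ⁅P, A⁆ ≤ P := Subgroup.commutator_le.mpr fun x hx a ha => by
    have h1 : a * x⁻¹ * a⁻¹ ∈ P := (Subgroup.mem_normalizer_iff.mp (hAP ha) _).mp (inv_mem hx)
    have : ⁅x, a⁆ = x * (a * x⁻¹ * a⁻¹) := by group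
    rw [this]
    exact mul_mem hx h1
  have hBC : B ≤ Subgroup.normalizer ((⁅P, A⁆ : Subgroup X) : Set X) := fun b hb => by
    have e1 : P.map (MulAut.conj b).toMonoidHom = P :=
      Cfsg.Agent.Basics.conj_smul_eq_self_iff.mpr (hBP hb)
    have e2 : A.map (MulAut.conj b).toMonoidHom = A :=
      Cfsg.Agent.Basics.conj_smul_eq_self_iff.mpr (hAn hb)
    have e3 : (⁅P, A⁆ : Subgroup X).map (MulAut.conj b).toMonoidHom = ⁅P, A⁆ := by
      rw [Subgroup.map_commutator, e1, e2]
    exact Cfsg.Agent.Basics.conj_smul_eq_self_iff.mp e3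
  have hPeq : ⁅P, A⁆ = P := by
    by_contra hne
    apply hnt
    have h1 := hmin _ (lt_of_le_of_ne hPA hne) hBC
    have h2 := Cfsg.Agent.Basics.le_centralizer_of_commutator_commutator_eq_bot A P hAP hcop
      (Or.inr hsolvP) (by
        first
          | exact h1
          | (rw [Subgroup.commutator_comm A P]; exact h1)
          | (rw [Subgroup.commutator_comm]; exact h1)
          | (rw [Subgroup.commutator_comm A P, Subgroup.commutator_comm A]; exact h1))
    first
      | exact Subgroup.commutator_eq_bot_iff_le_centralizer.mpr h2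
      | (rw [Subgroup.commutator_comm]; exact Subgroup.commutator_eq_bot_iff_le_centralizer.mpr h2)
  -- subgroups centralised by `A`
  have hfix : ∀ U : Subgroup X, ⁅U, A⁆ = ⊥ → ∀ u ∈ U, ∀ a ∈ A, a * u * a⁻¹ = u := by
    intro U hU u hu a ha
    have := Subgroup.mem_centralizer_iff.mp
      (Subgroup.commutator_eq_bot_iff_le_centralizer.mp hU hu) a ha
    rw [this, mul_inv_cancel_right]
  have hgens : ∀ (T : Subgroup P), (∀ (v : P) (a : X) (ha : a ∈ A),
      (⟨⁅(v : X), a⁆, hPA (Subgroup.commutator_mem_commutator v.2 ha)⟩ : P) ∈ T) → T = ⊤ := by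
    intro T hT
    have hle : P ≤ T.map P.subtype := by
      conv_lhs => rw [← hPeq]
      exact Subgroup.commutator_le.mpr fun x hx a ha => ⟨_, hT ⟨x, hx⟩ a ha, rfl⟩
    rw [eq_top_iff]
    rintro ⟨x, hx⟩ -
    obtain ⟨y, hy, hyx⟩ := hle hx
    rwa [show y = ⟨x, hx⟩ from Subtype.ext hyx] at hy
  -- elements fixed by `A` lie in every normal invariant subgroup with abelian quotient
  have key : ∀ (K : Subgroup P) [K.Normal], commutator P ≤ K →
      (∀ a ∈ A, ∀ x y : P, (y : X) = a * x * a⁻¹ → x ∈ K → y ∈ K) →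
      ∀ x : P, (∀ a ∈ A, a * (x : X) * a⁻¹ = x) → x ∈ K := by
    intro K _ hcK hKA x hx
    classical
    haveI : Fintype A := Fintype.ofFinite A
    letI : CommGroup (P ⧸ K) :=
      { (inferInstance : Group (P ⧸ K)) with
        mul_comm := fun u v => by
          obtain ⟨u, rfl⟩ := QuotientGroup.mk_surjective u
          obtain ⟨v, rfl⟩ := QuotientGroup.mk_surjective v
          rw [← QuotientGroup.mk_mul, ← QuotientGroup.mk_mul, QuotientGroup.eq]
          have : (u * v)⁻¹ * (v * u) = ⁅v⁻¹, u⁻¹⁆ := by group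
          rw [this]
          exact hcK (Subgroup.commutator_mem_commutator (Subgroup.mem_top _) (Subgroup.mem_top _)) }
    let α : A → (P →* P) := fun a =>
      { toFun := fun y => ⟨(a : X) * (y : X) * (a : X)⁻¹,
          (Subgroup.mem_normalizer_iff.mp (hAP a.2) _).mp y.2⟩
        map_one' := Subtype.ext (by simp)
        map_mul' := fun y z => Subtype.ext (by simp only [Subgroup.coe_mul]; group) }
    let f : P →* P ⧸ K := ∏ a : A, (QuotientGroup.mk' K).comp (α a)
    have hf : ∀ y : P, f y = ∏ a : A, ((α a y : P) : P ⧸ K) := fun y => by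
      show (∏ a : A, (QuotientGroup.mk' K).comp (α a)) y = _
      rw [MonoidHom.finsetProd_apply]
      rfl
    have hinv : ∀ (b : A) (y : P), f (α b y) = f y := by
      intro b y
      rw [hf, hf]
      refine Fintype.prod_equiv (Equiv.mulRight b) _ _ fun a => ?_
      congr 1
      apply Subtype.ext
      show (a : X) * ((b : X) * (y : X) * (b : X)⁻¹) * (a : X)⁻¹ =
        ((a * b : A) : X) * (y : X) * ((a * b : A) : X)⁻¹
      rw [Subgroup.coe_mul]
      group
    have htriv : f.ker = ⊤ := hgens _ fun v a ha => by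
      have e : (⟨⁅(v : X), a⁆, hPA (Subgroup.commutator_mem_commutator v.2 ha)⟩ : P) =
          v * α ⟨a, ha⟩ v⁻¹ := Subtype.ext (by
        show ⁅(v : X), a⁆ = (v : X) * (a * (v : X)⁻¹ * a⁻¹)
        group)
      rw [MonoidHom.mem_ker, e, map_mul, hinv, ← map_mul, mul_inv_cancel, map_one]
    have h1 : ((x : P ⧸ K)) ^ Nat.card A = 1 := by
      have h2 : f x = 1 := MonoidHom.mem_ker.mp (htriv ▸ Subgroup.mem_top x)
      rw [hf] at h2
      rw [← h2, Nat.card_eq_fintype_card, Fintype.card, ← Finset.prod_const]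
      refine Finset.prod_congr rfl fun a _ => ?_
      congr 1
      exact Subtype.ext (hx a a.2).symm
    have h3 : ((x : P ⧸ K)) ^ Nat.card P = 1 := by
      rw [← QuotientGroup.mk_pow, pow_card_eq_one', QuotientGroup.mk_one]
    rw [← QuotientGroup.eq_one_iff, ← orderOf_eq_one_iff]
    exact Nat.eq_one_of_dvd_coprimes hcop (orderOf_dvd_of_pow_eq_one h1)
      (orderOf_dvd_of_pow_eq_one h3)
  -- `B` acts on `P`
  have hchar : ∀ (K : Subgroup P), K.Characteristic →
      B ≤ Subgroup.normalizer ((K.map P.subtype : Subgroup X) : Set X) := by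
    intro K hK b hb
    refine Subgroup.mem_normalizer_fintype ?_
    rintro _ ⟨y, hy, rfl⟩
    let e : P ≃* P :=
      { toFun := fun z => ⟨b * (z : X) * b⁻¹, (Subgroup.mem_normalizer_iff.mp (hBP hb) _).mp z.2⟩
        invFun := fun z => ⟨b⁻¹ * (z : X) * b, by
          have := (Subgroup.mem_normalizer_iff.mp (inv_mem (hBP hb)) _).mp z.2
          rwa [inv_inv] at this⟩
        left_inv := fun z => Subtype.ext (by group)
        right_inv := fun z => Subtype.ext (by group)
        map_mul' := fun y z => Subtype.ext (by simp only [Subgroup.coe_mul]; group) }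
    refine ⟨e y, ?_, rfl⟩
    have := Subgroup.characteristic_iff_comap_eq.mp hK e
    show y ∈ K.comap e.toMonoidHom
    rw [this]
    exact hy
  have hcharA : ∀ (K : Subgroup P), K.Characteristic → ∀ a ∈ A, ∀ x y : P,
      (y : X) = a * x * a⁻¹ → x ∈ K → y ∈ K := by
    intro K hK a ha x y hy hx
    obtain ⟨z, hz, hzy⟩ := (Subgroup.mem_normalizer_iff.mp (hchar K hK (hAB ha)) _).mp
      ⟨x, hx, rfl⟩
    rwa [show z = y from Subtype.ext (hzy.trans hy.symm)] at hz
  have hproper : ∀ (K : Subgroup P), K.Characteristic → K ≠ ⊤ →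
      ∀ x ∈ K, ∀ a ∈ A, a * (x : X) * a⁻¹ = x := by
    intro K hK hne x hx a ha
    refine hfix (K.map P.subtype) (hmin _ (lt_of_le_of_ne (Subgroup.map_subtype_le _) fun h => ?_)
      (hchar K hK)) _ ⟨x, hx, rfl⟩ a ha
    apply hne
    apply Subgroup.map_injective P.subtype_injective
    rw [h, ← MonoidHom.range_eq_map, Subgroup.range_subtype]
  have hP0 : P ≠ ⊥ := fun h => hnt (by rw [h, Subgroup.commutator_bot_left])
  haveI : Nontrivial P := P.nontrivial_iff_ne_bot.mpr hP0
  have hcomm_le : commutator P ≤ frattini P := Cfsg.Agent.Basics.commutator_le_frattini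
  have hfixD : ∀ x : P, (∀ a ∈ A, a * (x : X) * a⁻¹ = x) → x ∈ commutator P := fun x hx =>
    key (commutator P) le_rfl (hcharA _ inferInstance) x hx
  have hfixP : ∀ x : P, (∀ a ∈ A, a * (x : X) * a⁻¹ = x) → x ∈ frattini P := fun x hx =>
    hcomm_le (hfixD x hx)
  have hΦne : frattini P ≠ ⊤ := by
    intro h
    have := frattini_nongenerating (K := (⊥ : Subgroup P)) (by simp [h])
    exact bot_ne_top this
  have hΦfix := hproper (frattini P) inferInstance hΦne
  -- the Frattini subgroup is central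
  have hΦZ : frattini P ≤ Subgroup.center P := by
    intro z hz
    have hcen : Subgroup.centralizer ({z} : Set P) = ⊤ := hgens _ fun v a ha => by
      rw [Subgroup.mem_centralizer_singleton_iff]
      apply Subtype.ext
      show ⁅(v : X), a⁆ * (z : X) = (z : X) * ⁅(v : X), a⁆
      have h1 : a * ((v⁻¹ * z * v : P) : X) * a⁻¹ = ((v⁻¹ * z * v : P) : X) :=
        hΦfix _ (by
          have := (inferInstance : (frattini P).Normal).conj_mem z hz v⁻¹
          rwa [inv_inv] at this) a ha
      have h2 : a * (z : X) * a⁻¹ = z := hΦfix z hz a ha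
      simp only [Subgroup.coe_mul, Subgroup.coe_inv] at h1
      have h3 : a * ((v : X)⁻¹ * z * v) * a⁻¹ = (v : X)⁻¹ * z * v := h1
      have hza : a * (z : X) = z * a := mul_inv_eq_iff_eq_mul.mp h2
      -- `z` commutes with `a` and `v⁻¹ z v` commutes with `a`
      have hva : a * ((v : X)⁻¹ * z * v) = ((v : X)⁻¹ * z * v) * a :=
        mul_inv_eq_iff_eq_mul.mp h3
      calc ⁅(v : X), a⁆ * z = v * a * (v : X)⁻¹ * (a⁻¹ * z * a) * a⁻¹ := by group
        _ = v * a * (v : X)⁻¹ * z * a⁻¹ := by
          rw [mul_assoc a⁻¹, ← hza, inv_mul_cancel_left]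
        _ = v * (a * ((v : X)⁻¹ * z * v)) * (v : X)⁻¹ * a⁻¹ := by group
        _ = v * (((v : X)⁻¹ * z * v) * a) * (v : X)⁻¹ * a⁻¹ := by rw [hva]
        _ = z * ⁅(v : X), a⁆ := by group
    exact Subgroup.mem_center_iff.mpr fun g =>
      Subgroup.mem_centralizer_singleton_iff.mp (hcen ▸ Subgroup.mem_top g)
  refine ⟨hPeq, ?_, ?_, ?_⟩
  · by_cases hab : IsMulCommutative P
    · left
      refine ⟨hab, fun x hx => ?_⟩
      have hbot : commutator P = ⊥ := by
        rw [commutator_def, Subgroup.commutator_eq_bot_iff_le_centralizer]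
        intro g _
        rw [Subgroup.mem_centralizer_iff]
        exact fun h _ => hab.is_comm.comm h g
      let O : Subgroup P :=
        { carrier := {y | y ^ p = 1}
          one_mem' := one_pow p
          mul_mem' := fun {y z} hy hz => by
            show (y * z) ^ p = 1
            rw [(show Commute y z from hab.is_comm.comm y z).mul_pow, show y ^ p = 1 from hy,
              show z ^ p = 1 from hz, one_mul]
          inv_mem' := fun {y} hy => by
            show y⁻¹ ^ p = 1
            rw [inv_pow, show y ^ p = 1 from hy, inv_one] }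
      have hOc : O.Characteristic := Subgroup.characteristic_iff_comap_eq.mpr fun φ => by
        ext y
        show φ y ^ p = 1 ↔ y ^ p = 1
        rw [← map_pow, EmbeddingLike.map_eq_one_iff]
      have hOtop : O = ⊤ := by
        by_contra hne
        have hd : p ∣ Nat.card P := by
          rw [hk]
          refine dvd_pow_self p fun h0 => hP0 ?_
          rw [← Subgroup.card_eq_one, hk, h0, pow_zero]
        obtain ⟨y, hy⟩ := exists_prime_orderOf_dvd_card' p hd
        have h1 := hfixD y (fun a ha => hproper O hOc hne y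
          (show y ^ p = 1 from hy ▸ pow_orderOf_eq_one y) a ha)
        rw [hbot, Subgroup.mem_bot] at h1
        exact hp.ne_one (by rw [← hy, h1, orderOf_one])
      have h2 : (⟨x, hx⟩ : P) ∈ O := hOtop ▸ Subgroup.mem_top _
      exact congrArg Subtype.val (show (⟨x, hx⟩ : P) ^ p = 1 from h2)
    · right
      have hZ : Subgroup.center P ≠ ⊤ := fun h => hab
        ⟨⟨fun a b => (Subgroup.mem_center_iff.mp (h ▸ Subgroup.mem_top a) b).symm⟩⟩
      have hZD : Subgroup.center P ≤ commutator P := fun z hz =>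
        hfixD z (fun a ha => hproper _ inferInstance hZ z hz a ha)
      refine ⟨hP, le_antisymm hΦZ (hZD.trans hcomm_le), le_antisymm (hcomm_le.trans hΦZ) hZD⟩
  · intro U hΦU hUP hBU
    by_cases hU : U = P
    · exact Or.inr hU
    · left
      refine le_antisymm (fun u hu => ?_) hΦU
      exact ⟨⟨u, hUP hu⟩, hfixP _ (fun a ha =>
        hfix U (hmin U (lt_of_le_of_ne hUP hU) hBU) u hu a ha), rfl⟩
  · intro hp2 x hx
    have hcen : ∀ y z : P, ⁅y, z⁆ ∈ Subgroup.center P := fun y z => hΦZ (hcomm_le
      (Subgroup.commutator_mem_commutator (Subgroup.mem_top y) (Subgroup.mem_top z)))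
    have hpow : ∀ y z : P, (y * z) ^ p = y ^ p * z ^ p := by
      intro y z
      have hc := hcen z⁻¹ y⁻¹
      have e : z * y = y * z * ⁅z⁻¹, y⁻¹⁆ := by group
      have hc1 : Commute ⁅z⁻¹, y⁻¹⁆ z := (Subgroup.mem_center_iff.mp hc z).symm
      have hc2 : Commute ⁅z⁻¹, y⁻¹⁆ y := (Subgroup.mem_center_iff.mp hc y).symm
      rw [Cfsg.Agent.Coprime23.mul_pow_of_central e hc1 hc2 p]
      have hone : ⁅z⁻¹, y⁻¹⁆ ^ p = 1 := by
        have h2 := Cfsg.Agent.Coprime23.pow_mul_eq_of_central e hc1 hc2 p
        have h3 : z ^ p ∈ Subgroup.center P := hΦZ (Cfsg.Agent.Basics.pow_mem_frattini hP z)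
        have h4 := Subgroup.mem_center_iff.mp h3 y
        rw [← h4] at h2
        exact mul_eq_left.mp h2.symm
      obtain ⟨m, hm⟩ := hp.odd_of_ne_two hp2
      have e2 : p * (p - 1) / 2 = p * m := by
        rw [hm, Nat.add_sub_cancel, show (2 * m + 1) * (2 * m) = 2 * ((2 * m + 1) * m) by ring,
          Nat.mul_div_cancel_left _ two_pos]
      rw [e2, pow_mul, hone, one_pow, mul_one]
    let φ : P →* P :=
      { toFun := fun y => y ^ p
        map_one' := one_pow p
        map_mul' := hpow }
    have hker : φ.ker = ⊤ := hgens _ fun v a ha => by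
      let c : P := ⟨a * (v : X)⁻¹ * a⁻¹,
        (Subgroup.mem_normalizer_iff.mp (hAP ha) _).mp (inv_mem v.2)⟩
      have e : (⟨⁅(v : X), a⁆, hPA (Subgroup.commutator_mem_commutator v.2 ha)⟩ : P) = v * c :=
        Subtype.ext (by
          show ⁅(v : X), a⁆ = (v : X) * (a * (v : X)⁻¹ * a⁻¹)
          group)
      rw [MonoidHom.mem_ker, e]
      show (v * c) ^ p = 1
      rw [hpow]
      have h1 : c ^ p = (v⁻¹) ^ p := by
        apply Subtype.ext
        rw [SubmonoidClass.coe_pow, SubmonoidClass.coe_pow, Subgroup.coe_inv, conj_pow]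
        have := hΦfix _ (Cfsg.Agent.Basics.pow_mem_frattini hP v⁻¹) a ha
        rwa [SubmonoidClass.coe_pow, Subgroup.coe_inv] at this
      rw [h1, inv_pow, mul_inv_cancel]
    have h2 : (⟨x, hx⟩ : P) ∈ φ.ker := hker ▸ Subgroup.mem_top _
    exact congrArg Subtype.val (show (⟨x, hx⟩ : P) ^ p = 1 from h2)

end Cfsg.Agent.S3736
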