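import Cfsg.Statements.S3737
import Cfsg.Agent.S3736
import Cfsg.Agent.Lib.Basics.Tools

set_option autoImplicit false
open Cfsg
open scoped commutatorElement

namespace Cfsg.Agent.S3737

/-- Baer's abelian group on a group of class at most `2` and odd prime exponent. -/
@[reducible] def baer {M : Type*} [Group M] (hcen : ∀ a b : M, ⁅a, b⁆ ∈ Subgroup.center M) {p : ℕ}
    (hexp : ∀ x : M, x ^ p = 1) (h : ℕ) (hh : p + 1 = h + h) : AddCommGroup M :=
  have hc : ∀ a b z : M, z * ⁅a, b⁆ = ⁅a, b⁆ * z := fun a b z =>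
    Subgroup.mem_center_iff.mp (hcen a b) z
  have hl : ∀ a b c : M, ⁅a * b, c⁆ = ⁅a, c⁆ * ⁅b, c⁆ := fun a b c => by
    have e : ⁅a * b, c⁆ = a * ⁅b, c⁆ * a⁻¹ * ⁅a, c⁆ := by group
    rw [e, hc b c a, mul_inv_cancel_right, ← hc]
  have hr : ∀ a b c : M, ⁅a, b * c⁆ = ⁅a, b⁆ * ⁅a, c⁆ := fun a b c => by
    have e : ⁅a, b * c⁆ = ⁅a, b⁆ * (b * ⁅a, c⁆ * b⁻¹) := by group
    rw [e, hc a c b, mul_inv_cancel_right]
  have hzc : ∀ (a b : M) (n : ℕ) (z : M), z * ⁅a, b⁆ ^ n = ⁅a, b⁆ ^ n * z := fun a b n z =>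
    Subgroup.mem_center_iff.mp (pow_mem (hcen a b) n) z
  have hz1 : ∀ (a b : M) (n : ℕ) (c : M), ⁅⁅a, b⁆ ^ n, c⁆ = 1 ∧ ⁅c, ⁅a, b⁆ ^ n⁆ = 1 := fun a b n c =>
    ⟨commutatorElement_eq_one_iff_mul_comm.mpr (hzc a b n c).symm,
      commutatorElement_eq_one_iff_mul_comm.mpr (hzc a b n c)⟩
  have hassoc : ∀ a b c : M, (a * b * ⁅b, a⁆ ^ h) * c * ⁅c, a * b * ⁅b, a⁆ ^ h⁆ ^ h =
      a * (b * c * ⁅c, b⁆ ^ h) * ⁅b * c * ⁅c, b⁆ ^ h, a⁆ ^ h := fun a b c => by
    rw [hr, hr, (hz1 b a h c).2, mul_one, hl, hl, (hz1 c b h a).1, mul_one,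
      (show Commute ⁅c, a⁆ ⁅c, b⁆ from hc c b _).mul_pow,
      (show Commute ⁅b, a⁆ ⁅c, a⁆ from hc c a _).mul_pow]
    calc a * b * ⁅b, a⁆ ^ h * c * (⁅c, a⁆ ^ h * ⁅c, b⁆ ^ h)
        = a * b * (⁅b, a⁆ ^ h * c) * (⁅c, a⁆ ^ h * ⁅c, b⁆ ^ h) := by group
      _ = a * b * c * (⁅b, a⁆ ^ h * (⁅c, a⁆ ^ h * ⁅c, b⁆ ^ h)) := by rw [← hzc b a h c]; group
      _ = a * b * c * (⁅c, b⁆ ^ h * (⁅b, a⁆ ^ h * ⁅c, a⁆ ^ h)) := by
        rw [← mul_assoc (⁅b, a⁆ ^ h), hzc c b h (⁅b, a⁆ ^ h * ⁅c, a⁆ ^ h)]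
      _ = _ := by group
  have hcomm : ∀ a b : M, a * b * ⁅b, a⁆ ^ h = b * a * ⁅a, b⁆ ^ h := fun a b => by
    have e : a * b = ⁅a, b⁆ * (b * a) := by group
    have e2 : ⁅b, a⁆ = ⁅a, b⁆⁻¹ := (commutatorElement_inv a b).symm
    rw [e, ← hc a b (b * a), e2, mul_assoc]
    congr 1
    rw [inv_pow, mul_inv_eq_iff_eq_mul, ← pow_add, ← hh, pow_succ, hexp, one_mul]
  { add := fun a b => a * b * ⁅b, a⁆ ^ h
    zero := 1
    neg := fun a => a⁻¹
    add_assoc := hassoc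
    zero_add := fun a => by
      show (1 : M) * a * ⁅a, (1 : M)⁆ ^ h = a
      simp
    add_zero := fun a => by
      show a * 1 * ⁅(1 : M), a⁆ ^ h = a
      simp
    neg_add_cancel := fun a => by
      show a⁻¹ * a * ⁅a, a⁻¹⁆ ^ h = 1
      rw [commutatorElement_eq_one_iff_commute.mpr (Commute.refl a).inv_right, one_pow]
      group
    add_comm := hcomm
    nsmul := @nsmulRec M ⟨1⟩ ⟨fun a b => a * b * ⁅b, a⁆ ^ h⟩
    zsmul := @zsmulRec M ⟨1⟩ ⟨fun a b => a * b * ⁅b, a⁆ ^ h⟩ ⟨fun a => a⁻¹⟩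
      (@nsmulRec M ⟨1⟩ ⟨fun a b => a * b * ⁅b, a⁆ ^ h⟩) }

/-- Thompson's strengthening of the P × Q lemma for odd primes. Let p be an odd prime and let P, Q and G be subgroups of a finite group with P a p-group, Q of order prime to p and normalized by P, and G a p-group normalized by both P and Q. If every element of G centralized by P is centralized by Q, then Q centralizes G. -/
theorem result {X : Type*} [Group X] [Finite X] {p : ℕ} [Fact p.Prime] (hp : p ≠ 2) (P Q G : Subgroup X) (hP : IsPGroup p P) (hQ : (Nat.card Q).Coprime p) (hPQ : P ≤ Subgroup.normalizer (Q : Set X)) (hG : IsPGroup p G) (hPG : P ≤ Subgroup.normalizer (G : Set X)) (hQG : Q ≤ Subgroup.normalizer (G : Set X)) (hC : G ⊓ Subgroup.centralizer (P : Set X) ≤ Subgroup.centralizer (Q : Set X)) : Q ≤ Subgroup.centralizer (G : Set X) := by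
  have hpp : p.Prime := Fact.out
  by_contra hQC
  have hnQ : ¬ G ≤ Subgroup.centralizer (Q : Set X) := fun h =>
    hQC (Subgroup.le_centralizer_iff.mp h)
  set B := P ⊔ Q with hB
  obtain ⟨G₀, ⟨hG₀G, hBG₀, hG₀nt⟩, hmin⟩ := WellFounded.has_min
    (wellFounded_lt (α := Subgroup X))
    {U | U ≤ G ∧ B ≤ Subgroup.normalizer (U : Set X) ∧ ¬ U ≤ Subgroup.centralizer (Q : Set X)}
    ⟨G, le_rfl, sup_le hPG hQG, hnQ⟩
  have hG₀p : IsPGroup p G₀ := hG.to_le hG₀G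
  have hnt : ⁅G₀, Q⁆ ≠ ⊥ := fun h => hG₀nt (Subgroup.commutator_eq_bot_iff_le_centralizer.mp h)
  obtain ⟨-, hstr, -, hexp⟩ := Cfsg.Agent.S3736.result B Q G₀ hG₀p hBG₀ le_sup_right
    (sup_le hPQ Subgroup.le_normalizer) hQ hnt (fun U hU hBU => by
      rw [Subgroup.commutator_eq_bot_iff_le_centralizer]
      by_contra hc
      exact hmin U ⟨hU.le.trans hG₀G, hBU, hc⟩ hU)
  have hexp : ∀ x : G₀, x ^ p = 1 := fun x => Subtype.ext (hexp hp x x.2)
  have hcen : ∀ a b : G₀, ⁅a, b⁆ ∈ Subgroup.center G₀ := by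
    intro a b
    rcases hstr with h | h
    · rw [show ⁅a, b⁆ = 1 from commutatorElement_eq_one_iff_mul_comm.mpr (h.1.is_comm.comm a b)]
      exact one_mem _
    · rw [← h.2.2]
      exact Subgroup.commutator_mem_commutator (Subgroup.mem_top a) (Subgroup.mem_top b)
  obtain ⟨h, hh⟩ : ∃ h : ℕ, p + 1 = h + h := by
    obtain ⟨m, hm⟩ := hpp.odd_of_ne_two hp
    exact ⟨m + 1, by omega⟩
  classical
  letI cg : AddCommGroup G₀ := baer hcen hexp h hh
  have hadd : ∀ a b : G₀, a + b = a * b * ⁅b, a⁆ ^ h := fun _ _ => rfl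
  have hzero : (0 : G₀) = 1 := rfl
  have hneg : ∀ a : G₀, -a = a⁻¹ := fun _ => rfl
  have hnsmul : ∀ (n : ℕ) (w : G₀), n • w = w ^ n := by
    intro n w
    induction n with
    | zero => rw [zero_smul, pow_zero]; rfl
    | succ n ih =>
      rw [succ_nsmul, ih, hadd, pow_succ,
        commutatorElement_eq_one_iff_commute.mpr ((Commute.refl w).pow_right n), one_pow, mul_one]
  -- the conjugation action
  let α : ∀ g : X, g ∈ Subgroup.normalizer (G₀ : Set X) → G₀ →* G₀ := fun g hg =>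
    { toFun := fun y => ⟨g * (y : X) * g⁻¹, (Subgroup.mem_normalizer_iff.mp hg _).mp y.2⟩
      map_one' := Subtype.ext (by simp)
      map_mul' := fun y z => Subtype.ext (by simp only [Subgroup.coe_mul]; group) }
  let β : ∀ g : X, g ∈ Subgroup.normalizer (G₀ : Set X) → G₀ →+ G₀ := fun g hg =>
    { toFun := α g hg
      map_zero' := map_one (α g hg)
      map_add' := fun a b => by simp only [hadd, map_mul, map_pow, map_commutatorElement] }
  have hβ : ∀ g hg (y : G₀), ((β g hg y : G₀) : X) = g * (y : X) * g⁻¹ := fun _ _ _ => rfl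
  have hQn : Q ≤ Subgroup.normalizer (G₀ : Set X) := le_sup_right.trans hBG₀
  have hPn : P ≤ Subgroup.normalizer (G₀ : Set X) := le_sup_left.trans hBG₀
  haveI : Fintype Q := Fintype.ofFinite Q
  let T : G₀ →+ G₀ := ∑ q : Q, β q (hQn q.2)
  have hT : ∀ y, T y = ∑ q : Q, β q (hQn q.2) y := fun y => AddMonoidHom.finsetSum_apply _ _ _
  have key : ∀ w : G₀, T w = 0 → (∀ q : Q, β q (hQn q.2) w = w) → w = 1 := by
    intro w hw hfix
    rw [hT, Finset.sum_congr rfl (fun q _ => hfix q), Finset.sum_const, Finset.card_univ,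
      ← Nat.card_eq_fintype_card, hnsmul, hzero] at hw
    rw [← orderOf_eq_one_iff]
    exact Nat.eq_one_of_dvd_coprimes hQ (orderOf_dvd_of_pow_eq_one hw)
      (orderOf_dvd_of_pow_eq_one (hexp w))
  obtain ⟨q₀, v, hq₀⟩ : ∃ (q₀ : Q) (v : G₀), β q₀ (hQn q₀.2) v ≠ v := by
    by_contra hc
    push_neg at hc
    apply hG₀nt
    intro y hy
    rw [Subgroup.mem_centralizer_iff]
    intro q hq
    exact mul_inv_eq_iff_eq_mul.mp (congrArg Subtype.val (hc ⟨q, hq⟩ ⟨y, hy⟩))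
  have hTq : ∀ (q : Q) (y : G₀), T (β q (hQn q.2) y) = T y := by
    intro q y
    rw [hT, hT]
    refine Fintype.sum_equiv (Equiv.mulRight q) _ _ fun r => ?_
    apply Subtype.ext
    show (r : X) * ((q : X) * (y : X) * (q : X)⁻¹) * (r : X)⁻¹ =
      ((r * q : Q) : X) * (y : X) * ((r * q : Q) : X)⁻¹
    rw [Subgroup.coe_mul]
    group
  have hPW : ∀ (g : P) (y : G₀), T y = 0 → T (β g (hPn g.2) y) = 0 := by
    intro g y hy
    let e : Q ≃ Q :=
      { toFun := fun r => ⟨(g : X)⁻¹ * r * g, by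
          have := (Subgroup.mem_normalizer_iff.mp (inv_mem (hPQ g.2)) _).mp r.2
          rwa [inv_inv] at this⟩
        invFun := fun r => ⟨g * r * (g : X)⁻¹, (Subgroup.mem_normalizer_iff.mp (hPQ g.2) _).mp r.2⟩
        left_inv := fun r => Subtype.ext (by group)
        right_inv := fun r => Subtype.ext (by group) }
    have h1 : T (β g (hPn g.2) y) = β g (hPn g.2) (T y) := by
      rw [hT, hT, map_sum]
      refine Fintype.sum_equiv e _ _ fun r => ?_
      apply Subtype.ext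
      show (r : X) * ((g : X) * (y : X) * (g : X)⁻¹) * (r : X)⁻¹ =
        (g : X) * (((g : X)⁻¹ * r * g) * (y : X) * ((g : X)⁻¹ * r * g)⁻¹) * (g : X)⁻¹
      group
    rw [h1, hy, map_zero]
  letI : MulAction P T.ker :=
    { smul := fun g y => ⟨β g (hPn g.2) y, hPW g y y.2⟩
      one_smul := fun y => Subtype.ext (Subtype.ext (by
        show (1 : X) * ((y : G₀) : X) * (1 : X)⁻¹ = (y : G₀)
        group))
      mul_smul := fun g g' y => Subtype.ext (Subtype.ext (by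
        show ((g * g' : P) : X) * ((y : G₀) : X) * ((g * g' : P) : X)⁻¹ =
          (g : X) * ((g' : X) * ((y : G₀) : X) * (g' : X)⁻¹) * (g : X)⁻¹
        rw [Subgroup.coe_mul]
        group)) }
  have hd : p ∣ Nat.card T.ker := by
    have h1 : Nat.card T.ker ∣ Nat.card G₀ := AddSubgroup.card_addSubgroup_dvd_card _
    obtain ⟨k, hk⟩ := IsPGroup.iff_card.mp hG₀p
    rw [hk] at h1
    obtain ⟨j, -, hj⟩ := (Nat.dvd_prime_pow hpp).mp h1
    rw [hj]
    refine dvd_pow_self p fun h0 => hq₀ ?_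
    rw [h0, pow_zero, AddSubgroup.card_eq_one] at hj
    have : β q₀ (hQn q₀.2) v - v ∈ T.ker := by
      rw [AddMonoidHom.mem_ker, map_sub, hTq, sub_self]
    rwa [hj, AddSubgroup.mem_bot, sub_eq_zero] at this
  obtain ⟨w, hwfix, hwne⟩ := hP.exists_fixed_point_of_prime_dvd_card_of_fixed_point T.ker hd
    (a := 0) (fun g => Subtype.ext (map_zero (β g (hPn g.2))))
  apply hwne
  symm
  apply Subtype.ext
  refine key w w.2 fun q => ?_
  have hwC : (((w : G₀) : X)) ∈ G ⊓ Subgroup.centralizer (P : Set X) := by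
    refine Subgroup.mem_inf.mpr ⟨hG₀G (w : G₀).2, Subgroup.mem_centralizer_iff.mpr fun g hg => ?_⟩
    exact mul_inv_eq_iff_eq_mul.mp (congrArg (fun z : T.ker => ((z : G₀) : X)) (hwfix ⟨g, hg⟩))
  exact Subtype.ext (mul_inv_eq_iff_eq_mul.mpr (Subgroup.mem_centralizer_iff.mp (hC hwC) q q.2))

end Cfsg.Agent.S3737
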