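import Cfsg.Statements.S3738
import Cfsg.Agent.Lib.LocalEvenB.FixedOrder
import Cfsg.Agent.Lib.Basics.Frattini
import Cfsg.Agent.Lib.SL2Dickson.StableQuotient

set_option autoImplicit false
open Cfsg

namespace Cfsg.Agent.S3738

open Subgroup

variable {G : Type*} [Group G] [Finite G]

theorem card_dvd_of_free {M Y : Type*} [Group M] [MulAction M Y] [Finite M] [Finite Y]
    (h : ∀ (g : M) (y : Y), g • y = y → g = 1) : Nat.card M ∣ Nat.card Y := by
  classical
  haveI := Fintype.ofFinite (MulAction.orbitRel.Quotient M Y)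
  have hfree : ∀ y : Y, MulAction.stabilizer M y = ⊥ := fun y =>
    eq_bot_iff.mpr fun g hg => Subgroup.mem_bot.mpr (h g y hg)
  rw [Nat.card_congr (MulAction.selfEquivSigmaOrbitsQuotientStabilizer M Y), Nat.card_sigma]
  refine Finset.dvd_sum fun q _ => ?_
  rw [hfree, ← Subgroup.index_eq_card, Subgroup.index_bot]

theorem two_mul_card_le {H K : Subgroup G} (h : H ≤ K) {g : G} (hg : g ∈ K) (hgH : g ∉ H) :
    2 * Nat.card H ≤ Nat.card K := by
  obtain ⟨k, hk⟩ := Subgroup.card_dvd_of_le h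
  have h2 : 2 ≤ k := by
    by_contra hlt
    have hk1 : k = 1 := by
      have := Nat.card_pos (α := K)
      rcases Nat.eq_zero_or_pos k with h0 | h0
      · rw [h0, mul_zero] at hk; omega
      · omega
    exact hgH ((Subgroup.eq_of_le_of_card_ge h (by rw [hk, hk1, mul_one])).symm ▸ hg)
  rw [hk, mul_comm]
  exact Nat.mul_le_mul_left _ h2

/-- An element of order 9 acting on a `2`-group of rank at most two has cube acting trivially. -/
theorem cube_trivial {P : Subgroup G} (hP : IsPGroup 2 P) {d : G} (hd : orderOf d = 9)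
    (hdP : d ∈ Subgroup.normalizer (P : Set G))
    (hrank : ∀ V : Subgroup G, V ≤ P → IsMulCommutative V → Cfsg.PRankLE 2 2 V) :
    ∀ q ∈ P, Commute (d ^ 3) q := by
  classical
  haveI : Fact (Nat.Prime 2) := ⟨Nat.prime_two⟩
  by_contra hcon
  let bad : Subgroup G → Prop := fun R =>
    R ≤ P ∧ d ∈ Subgroup.normalizer (R : Set G) ∧ ∃ q ∈ R, ¬ Commute (d ^ 3) q
  have hbadP : bad P := ⟨le_rfl, hdP, by
    by_contra h
    exact hcon fun q hq => by
      by_contra h'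
      exact h ⟨q, hq, h'⟩⟩
  obtain ⟨Q, ⟨hQP, hdQ, q₀, hq₀, hq₀e⟩, hQmin⟩ :=
    wellFounded_lt.has_min {R : Subgroup G | bad R} ⟨P, hbadP⟩
  obtain ⟨e, he⟩ : ∃ e, e = d ^ 3 := ⟨_, rfl⟩
  rw [← he] at hq₀e
  have heo : orderOf e = 3 := by
    rw [he, orderOf_pow' _ (by norm_num : 3 ≠ 0), hd]
    norm_num
  have hsmall : ∀ R : Subgroup G, R ≤ Q → R ≠ Q → d ∈ Subgroup.normalizer (R : Set G) →
      ∀ r ∈ R, Commute e r := by
    intro R hR hne hn r hr
    by_contra h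
    exact hQmin R ⟨hR.trans hQP, hn, r, hr, he ▸ h⟩ (lt_of_le_of_ne hR hne)
  have hQp : IsPGroup 2 Q := hP.to_le hQP
  haveI : Group.IsNilpotent Q := hQp.isNilpotent
  haveI : Nontrivial Q := ⟨⟨⟨q₀, hq₀⟩, 1, fun h => hq₀e (by
    rw [show q₀ = 1 from congrArg Subtype.val h]; exact Commute.one_right _)⟩⟩
  obtain ⟨Φ, hΦ⟩ : ∃ Φ, Φ = (frattini ↥Q).map Q.subtype := ⟨_, rfl⟩
  have hΦQ : Φ ≤ Q := hΦ ▸ Subgroup.map_subtype_le _
  have hΦne : Φ ≠ Q := by
    intro h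
    obtain ⟨M, hM, -⟩ := (eq_top_or_exists_le_coatom (⊥ : Subgroup Q)).resolve_left bot_ne_top
    refine hM.1 (eq_top_iff.mpr fun x _ => ?_)
    have hx : (x : G) ∈ Φ := h.symm ▸ x.2
    rw [hΦ] at hx
    obtain ⟨y, hy, hyx⟩ := hx
    exact Subtype.ext hyx ▸ frattini_le_coatom hM hy
  have hdΦ : d ∈ Subgroup.normalizer (Φ : Set G) :=
    hΦ ▸ Cfsg.Agent.SL2Dickson.mem_normalizer_frattini hdQ
  have hcΦ : ∀ a ∈ Q, ∀ b ∈ Q, a * b * a⁻¹ * b⁻¹ ∈ Φ := fun a ha b hb => by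
    rw [hΦ]
    exact ⟨⟨a, ha⟩ * ⟨b, hb⟩ * ⟨a, ha⟩⁻¹ * ⟨b, hb⟩⁻¹, Cfsg.Agent.Basics.commutator_le_frattini
      (Subgroup.commutator_mem_commutator (Subgroup.mem_top _) (Subgroup.mem_top _)), rfl⟩
  have hsq : ∀ a ∈ Q, a * a ∈ Φ := fun a ha => by
    rw [hΦ]
    exact ⟨⟨a, ha⟩ ^ 2, Cfsg.Agent.Basics.pow_mem_frattini hQp _, by simp [sq]⟩
  have heQ : e ∈ Subgroup.normalizer (Q : Set G) := he ▸ Subgroup.pow_mem _ hdQ 3
  have heΦ : ∀ f ∈ Φ, Commute e f := hsmall Φ hΦQ hΦne hdΦ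
  -- the Frattini subgroup is central
  have hΦc : ∀ f ∈ Φ, ∀ q ∈ Q, Commute q f := by
    obtain ⟨S, hS⟩ : ∃ S, S = Q ⊓ Subgroup.centralizer (Φ : Set G) := ⟨_, rfl⟩
    by_cases hSQ : S = Q
    · intro f hf q hq
      have hqS : q ∈ S := hSQ.symm ▸ hq
      rw [hS] at hqS
      exact (Subgroup.mem_centralizer_iff.mp hqS.2 f hf).symm
    exfalso
    have hdS : d ∈ Subgroup.normalizer (S : Set G) := by
      refine Cfsg.Agent.LocalEvenB.mem_normalizer_of_conj_mem fun s hs => ?_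
      rw [hS] at hs ⊢
      refine ⟨(Subgroup.mem_normalizer_iff.mp hdQ s).mp hs.1,
        Subgroup.mem_centralizer_iff.mpr fun f hf => ?_⟩
      have hf' : d⁻¹ * f * d ∈ Φ := by
        simpa using (Subgroup.mem_normalizer_iff.mp (inv_mem hdΦ) f).mp hf
      have h := Subgroup.mem_centralizer_iff.mp hs.2 _ hf'
      calc f * (d * s * d⁻¹) = d * ((d⁻¹ * f * d) * s) * d⁻¹ := by group
        _ = d * (s * (d⁻¹ * f * d)) * d⁻¹ := by rw [h]
        _ = d * s * d⁻¹ * f := by group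
    have heS := hsmall S (hS ▸ inf_le_left) hSQ hdS
    apply hq₀e
    obtain ⟨h, hh⟩ : ∃ h, h = q₀⁻¹ * (e * q₀ * e⁻¹) := ⟨_, rfl⟩
    have hhQ : h ∈ Q := hh ▸ mul_mem (inv_mem hq₀) ((Subgroup.mem_normalizer_iff.mp heQ q₀).mp hq₀)
    have hhS : h ∈ S := by
      rw [hS]
      refine ⟨hhQ, Subgroup.mem_centralizer_iff.mpr fun f hf => ?_⟩
      have hf' : q₀ * f * q₀⁻¹ ∈ Φ := by
        have h1 := mul_mem (hcΦ q₀ hq₀ f (hΦQ hf)) hf
        rwa [inv_mul_cancel_right] at h1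
      have h1 : e * f * e⁻¹ = f := mul_inv_eq_iff_eq_mul.mpr (heΦ f hf).eq
      have h2 : e * (q₀ * f * q₀⁻¹) * e⁻¹ = q₀ * f * q₀⁻¹ :=
        mul_inv_eq_iff_eq_mul.mpr (heΦ _ hf').eq
      have h3 : h * f * h⁻¹ = f := by
        calc h * f * h⁻¹ = q₀⁻¹ * (e * q₀ * e⁻¹ * f * e * q₀⁻¹ * e⁻¹) * q₀ := by rw [hh]; group
          _ = q₀⁻¹ * (e * q₀ * e⁻¹ * (e * f * e⁻¹) * e * q₀⁻¹ * e⁻¹) * q₀ := by rw [h1]
          _ = q₀⁻¹ * (e * (q₀ * f * q₀⁻¹) * e⁻¹) * q₀ := by group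
          _ = f := by rw [h2]; group
      exact (mul_inv_eq_iff_eq_mul.mp h3).symm
    have hk : ∀ k : ℕ, e ^ k * q₀ * (e ^ k)⁻¹ = q₀ * h ^ k := by
      intro k
      induction k with
      | zero => simp
      | succ k ih =>
        have hek : e * h ^ k * e⁻¹ = h ^ k :=
          mul_inv_eq_iff_eq_mul.mpr ((heS h hhS).pow_right k).eq
        calc e ^ (k + 1) * q₀ * (e ^ (k + 1))⁻¹ = e * (e ^ k * q₀ * (e ^ k)⁻¹) * e⁻¹ := by
              rw [pow_succ']; group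
          _ = e * q₀ * e⁻¹ * (e * h ^ k * e⁻¹) := by rw [ih]; group
          _ = q₀ * h ^ (k + 1) := by
            rw [hek, pow_succ', show e * q₀ * e⁻¹ = q₀ * h by rw [hh, mul_inv_cancel_left], mul_assoc]
    have h3 := hk 3
    rw [show e ^ 3 = 1 by rw [← heo, pow_orderOf_eq_one], inv_one, one_mul, mul_one] at h3
    have h31 : h ^ 3 = 1 := mul_left_cancel (h3.symm.trans (mul_one q₀).symm)
    obtain ⟨j, hj⟩ := hQp ⟨h, hhQ⟩
    have hord : orderOf h ∣ Nat.gcd 3 (2 ^ j) := Nat.dvd_gcd (orderOf_dvd_of_pow_eq_one h31)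
      (orderOf_dvd_of_pow_eq_one (congrArg Subtype.val hj))
    rw [show Nat.gcd 3 (2 ^ j) = 1 from Nat.Coprime.pow_right j (by norm_num)] at hord
    have h1 : h = 1 := orderOf_eq_one_iff.mp (Nat.dvd_one.mp hord)
    rw [hh] at h1
    exact (mul_inv_eq_iff_eq_mul.mp (inv_mul_eq_one.mp h1).symm : e * q₀ = q₀ * e)
  -- the commutator pairing
  let c : G → G → G := fun a b => a * b * a⁻¹ * b⁻¹
  have hcr : ∀ a ∈ Q, ∀ b ∈ Q, ∀ b' ∈ Q, c a (b * b') = c a b * c a b' := by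
    intro a ha b hb b' hb'
    calc c a (b * b') = c a b * (b * c a b') * b⁻¹ := by simp only [c]; group
      _ = c a b * c a b' := by rw [(hΦc _ (hcΦ a ha b' hb') b hb).eq, mul_assoc (c a b), mul_inv_cancel_right]
  have hcl : ∀ a ∈ Q, ∀ a' ∈ Q, ∀ b ∈ Q, c (a * a') b = c a b * c a' b := by
    intro a ha a' ha' b hb
    calc c (a * a') b = a * c a' b * a⁻¹ * c a b := by simp only [c]; group
      _ = c a' b * c a b := by rw [(hΦc _ (hcΦ a' ha' b hb) a ha).eq, mul_inv_cancel_right]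
      _ = c a b * c a' b :=
        (hΦc _ (hcΦ a ha b hb) _ (hΦQ (hcΦ a' ha' b hb))).eq
  have hc2 : ∀ a ∈ Q, ∀ b ∈ Q, c a b * c a b = 1 := by
    intro a ha b hb
    rw [← hcr a ha b hb b hb]
    have := (hΦc _ (hsq b hb) a ha).eq
    simp only [c]
    rw [this]
    group
  have hcs : ∀ a ∈ Q, ∀ b ∈ Q, c b a = c a b := by
    intro a ha b hb
    rw [← inv_eq_of_mul_eq_one_right (hc2 a ha b hb)]
    simp only [c]
    group
  obtain ⟨W, hW⟩ : ∃ W : Subgroup G, ∀ w, w ∈ W ↔ w ∈ Φ ∧ w * w = 1 :=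
    ⟨{ carrier := {w | w ∈ Φ ∧ w * w = 1}
       one_mem' := ⟨one_mem Φ, mul_one 1⟩
       mul_mem' := fun {a b} ha hb => ⟨mul_mem ha.1 hb.1, by
         calc a * b * (a * b) = a * (b * a) * b := by group
           _ = (a * a) * (b * b) := by rw [(hΦc a ha.1 b (hΦQ hb.1)).eq]; group
           _ = 1 := by rw [ha.2, hb.2, one_mul]⟩
       inv_mem' := fun {a} ha => ⟨inv_mem ha.1, by rw [← mul_inv_rev, ha.2, inv_one]⟩ },
      fun w => Iff.rfl⟩
  have hab : ∀ A : Subgroup G, A ≤ P → (∀ a ∈ A, ∀ b ∈ A, Commute a b) →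
      (∀ a ∈ A, a * a = 1) → Nat.card A ≤ 4 := by
    intro A hA hcomm h2
    have hm : IsMulCommutative A := ⟨⟨fun a b => Subtype.ext (hcomm a a.2 b b.2).eq⟩⟩
    have h := hrank A hA hm ⊤ ⟨⟨fun a b => Subtype.ext (Subtype.ext (hcomm _ a.1.2 _ b.1.2).eq)⟩⟩
      (fun a _ => Subtype.ext (by rw [Subgroup.coe_pow, sq]; exact h2 a a.2))
    rwa [Subgroup.card_top] at h
  have hWQ : ∀ w ∈ W, w ∈ Q := fun w hw => hΦQ ((hW w).mp hw).1
  have hW4 : Nat.card W ≤ 4 := hab W (fun w hw => hQP (hWQ w hw))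
    (fun a ha b hb => hΦc b ((hW b).mp hb).1 a (hWQ a ha)) (fun a ha => ((hW a).mp ha).2)
  have hcW : ∀ a ∈ Q, ∀ b ∈ Q, c a b ∈ W := fun a ha b hb =>
    (hW _).mpr ⟨hcΦ a ha b hb, hc2 a ha b hb⟩
  have hKex : ∀ a ∈ Q, ∃ K : Subgroup G, (∀ q, q ∈ K ↔ q ∈ Q ∧ c a q = 1) ∧
      Nat.card Q ≤ 4 * Nat.card K := by
    intro a ha
    let f : Q →* G := MonoidHom.mk' (fun q => c a q) (fun x y => hcr a ha x x.2 y y.2)
    refine ⟨f.ker.map Q.subtype, fun q => ⟨?_, ?_⟩, ?_⟩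
    · rintro ⟨x, hx, rfl⟩
      exact ⟨x.2, hx⟩
    · rintro ⟨hq, hq1⟩
      exact ⟨⟨q, hq⟩, hq1, rfl⟩
    · have h1 : Nat.card f.range ≤ 4 := by
        refine le_trans (Subgroup.card_le_of_le ?_) hW4
        rintro _ ⟨x, rfl⟩
        exact hcW a ha x x.2
      rw [Subgroup.card_map_of_injective Q.subtype_injective, ← f.ker.card_mul_index,
        Subgroup.index_ker, mul_comm]
      exact Nat.mul_le_mul_right _ h1
  -- the fixed points of `e` modulo the Frattini subgroup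
  obtain ⟨R, hR⟩ : ∃ R : Subgroup G, ∀ q, q ∈ R ↔ q ∈ Q ∧ e * q * e⁻¹ * q⁻¹ ∈ Φ :=
    ⟨{ carrier := {q | q ∈ Q ∧ e * q * e⁻¹ * q⁻¹ ∈ Φ}
       one_mem' := ⟨one_mem Q, by simp⟩
       mul_mem' := fun {a b} ha hb => ⟨mul_mem ha.1 hb.1, by
         rw [show e * (a * b) * e⁻¹ * (a * b)⁻¹ =
           e * a * e⁻¹ * a⁻¹ * (a * (e * b * e⁻¹ * b⁻¹) * a⁻¹) by group,
           (hΦc _ hb.2 a ha.1).eq, mul_inv_cancel_right]
         exact mul_mem ha.2 hb.2⟩
       inv_mem' := fun {a} ha => ⟨inv_mem ha.1, by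
         rw [show e * a⁻¹ * e⁻¹ * a⁻¹⁻¹ = a⁻¹ * (e * a * e⁻¹ * a⁻¹)⁻¹ * a by group,
           (hΦc _ (inv_mem ha.2) a⁻¹ (inv_mem ha.1)).eq, inv_mul_cancel_right]
         exact inv_mem ha.2⟩ }, fun q => Iff.rfl⟩
  have hRQ : R ≠ Q := by
    intro h
    refine hq₀e (Cfsg.Agent.LocalEvenB.commute_of_frattini hQp heQ ?_ (fun y hy => ?_) q₀ hq₀)
    · rw [heo]; norm_num
    · rw [← hΦ]
      exact ((hR y).mp (h.symm ▸ hy)).2
  -- the quotient has order at least `64`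
  have hbig : 64 * Nat.card Φ ≤ Nat.card Q := by
    let A := Subgroup.zpowers d
    have hAQ : ∀ a : A, (a : G) ∈ Subgroup.normalizer (Q : Set G) := fun a =>
      (Subgroup.zpowers_le.mpr hdQ) a.2
    have hAΦ : ∀ a : A, (a : G) ∈ Subgroup.normalizer (Φ : Set G) := fun a =>
      (Subgroup.zpowers_le.mpr hdΦ) a.2
    let φ : A → (Q →* Q) := fun a => (Q.normalizerMonoidHom ⟨a, hAQ a⟩).toMonoidHom
    have hφ : ∀ a (q : Q), (φ a q : G) = (a : G) * q * (a : G)⁻¹ := fun a q => rfl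
    have hmemF : ∀ x : Q, x ∈ frattini Q ↔ (x : G) ∈ Φ := fun x => by
      rw [hΦ]
      exact ⟨fun h => ⟨x, h, rfl⟩, fun ⟨y, hy, hyx⟩ => Subtype.ext hyx ▸ hy⟩
    have hφF : ∀ a, frattini Q ≤ (frattini Q).comap (φ a) := fun a x hx => by
      rw [Subgroup.mem_comap, hmemF, hφ]
      exact (Subgroup.mem_normalizer_iff.mp (hAΦ a) _).mp ((hmemF x).mp hx)
    let ψ : A → (Q ⧸ frattini Q →* Q ⧸ frattini Q) := fun a =>
      QuotientGroup.map (frattini Q) (frattini Q) (φ a) (hφF a)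
    letI : MulAction A (Q ⧸ frattini Q) :=
      { smul := fun a x => ψ a x
        one_smul := fun x => by
          obtain ⟨q, rfl⟩ := QuotientGroup.mk_surjective x
          show QuotientGroup.mk (φ 1 q) = QuotientGroup.mk q
          congr 1
          refine Subtype.ext ?_
          rw [hφ]
          simp
        mul_smul := fun a b x => by
          obtain ⟨q, rfl⟩ := QuotientGroup.mk_surjective x
          show QuotientGroup.mk (φ (a * b) q) = QuotientGroup.mk (φ a (φ b q))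
          congr 1
          refine Subtype.ext ?_
          rw [hφ, hφ, hφ, Subgroup.coe_mul]
          group }
    let R' := (R.subgroupOf Q).map (QuotientGroup.mk' (frattini Q))
    have hR' : ∀ q : Q, (QuotientGroup.mk q : Q ⧸ frattini Q) ∈ R' ↔ (q : G) ∈ R := by
      intro q
      refine ⟨?_, fun h => ⟨q, h, rfl⟩⟩
      rintro ⟨r, hr, hrq⟩
      have h1 : (r : G)⁻¹ * q ∈ Φ := (hmemF _).mp (QuotientGroup.eq.mp hrq)
      have h2 : (r : G)⁻¹ * q ∈ R :=
        (hR _).mpr ⟨hΦQ h1, by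
          rw [mul_inv_eq_iff_eq_mul.mpr (heΦ _ h1).eq, mul_inv_cancel]
          exact one_mem Φ⟩
      have h3 := mul_mem (show (r : G) ∈ R from hr) h2
      rwa [mul_inv_cancel_left] at h3
    have hRconj : ∀ (a : A) (q : G), a.1 * q * a.1⁻¹ ∈ R → q ∈ R := by
      intro a q hq
      obtain ⟨h1, h2⟩ := (hR _).mp hq
      refine (hR q).mpr ⟨(Subgroup.mem_normalizer_iff.mp (hAQ a) q).mpr h1, ?_⟩
      obtain ⟨i, hi⟩ := Subgroup.mem_zpowers_iff.mp a.2
      have hae : Commute a.1 e := by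
        rw [← hi, he, ← zpow_natCast]
        exact Commute.zpow_zpow_self d i _
      refine (Subgroup.mem_normalizer_iff.mp (hAΦ a) _).mpr ?_
      convert h2 using 1
      calc a.1 * (e * q * e⁻¹ * q⁻¹) * a.1⁻¹ = (a.1 * e) * q * e⁻¹ * q⁻¹ * a.1⁻¹ := by group
        _ = (e * a.1) * q * (a.1⁻¹ * a.1) * e⁻¹ * q⁻¹ * a.1⁻¹ := by rw [hae.eq]; group
        _ = (e * a.1) * q * a.1⁻¹ * (a.1 * e⁻¹) * q⁻¹ * a.1⁻¹ := by group
        _ = (e * a.1) * q * a.1⁻¹ * (e⁻¹ * a.1) * q⁻¹ * a.1⁻¹ := by rw [hae.inv_right.eq]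
        _ = e * (a.1 * q * a.1⁻¹) * e⁻¹ * (a.1 * q * a.1⁻¹)⁻¹ := by group
    let Y := {x : Q ⧸ frattini Q // x ∉ R'}
    letI : MulAction A Y :=
      { smul := fun a y => ⟨a • y.1, fun h => by
          obtain ⟨q, hq⟩ := QuotientGroup.mk_surjective y.1
          rw [← hq] at h
          exact y.2 (hq ▸ (hR' q).mpr (hRconj a q ((hR' (φ a q)).mp h)))⟩
        one_smul := fun y => Subtype.ext (one_smul A y.1)
        mul_smul := fun a b y => Subtype.ext (mul_smul a b y.1) }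
    have hfree : ∀ (a : A) (y : Y), a • y = y → a = 1 := by
      intro a y hay
      by_contra ha
      obtain ⟨q, hq⟩ := QuotientGroup.mk_surjective y.1
      have hfix : a ∈ MulAction.stabilizer A y := hay
      have he9 : (⟨e, he ▸ Subgroup.pow_mem _ (Subgroup.mem_zpowers d) 3⟩ : A) ∈
          Subgroup.zpowers a := by
        obtain ⟨i, hi⟩ := Subgroup.mem_zpowers_iff.mp a.2
        by_cases h3 : (3 : ℤ) ∣ i
        · obtain ⟨j, rfl⟩ := h3
          have hj : ¬ (3 : ℤ) ∣ j := by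
            rintro ⟨k, rfl⟩
            refine ha (Subtype.ext ?_)
            rw [← hi, show (3 : ℤ) * (3 * k) = (9 : ℕ) * k by push_cast; ring, zpow_mul,
              zpow_natCast, ← hd, pow_orderOf_eq_one, one_zpow]
            rfl
          obtain ⟨r, s, hrs⟩ := (Int.prime_three.coprime_iff_not_dvd).mpr hj
          refine Subgroup.mem_zpowers_iff.mpr ⟨s, Subtype.ext ?_⟩
          rw [Subgroup.coe_zpow, ← hi, ← zpow_mul]
          show d ^ (3 * j * s) = e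
          rw [show 3 * j * s = (3 : ℕ) + (9 : ℕ) * (-r) by push_cast; linear_combination (3 : ℤ) * hrs,
            zpow_add, zpow_mul, zpow_natCast, zpow_natCast, ← hd, pow_orderOf_eq_one, one_zpow,
            mul_one, he]
        · obtain ⟨r, s, hrs⟩ := ((Int.prime_three.coprime_iff_not_dvd).mpr h3).pow_left (m := 2)
          refine Subgroup.mem_zpowers_iff.mpr ⟨3 * s, Subtype.ext ?_⟩
          rw [Subgroup.coe_zpow, ← hi, ← zpow_mul]
          show d ^ (i * (3 * s)) = e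
          rw [show i * (3 * s) = (3 : ℕ) + (9 : ℕ) * (-(3 * r)) by
              push_cast; linear_combination (3 : ℤ) * hrs,
            zpow_add, zpow_mul, zpow_natCast, zpow_natCast, ← hd, pow_orderOf_eq_one, one_zpow,
            mul_one, he]
      have h1 : (⟨e, he ▸ Subgroup.pow_mem _ (Subgroup.mem_zpowers d) 3⟩ : A) • y.1 = y.1 :=
        congrArg Subtype.val ((Subgroup.zpowers_le.mpr hfix) he9)
      rw [← hq] at h1
      have h2 : (e * q * e⁻¹)⁻¹ * (q : G) ∈ Φ := (hmemF _).mp (QuotientGroup.eq.mp h1)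
      refine y.2 (hq ▸ (hR' q).mpr ((hR _).mpr ⟨q.2, ?_⟩))
      have h3 := inv_mem h2
      have h4 : (q : G) * ((e * q * e⁻¹)⁻¹ * (q : G))⁻¹ * (q : G)⁻¹ = ((e * q * e⁻¹)⁻¹ * (q : G))⁻¹ :=
        mul_inv_eq_iff_eq_mul.mpr (hΦc _ h3 q q.2).eq
      rw [← h4] at h3
      convert h3 using 1
      group
    have h9 : 9 ∣ Nat.card Y := by
      have h := card_dvd_of_free (M := A) (Y := Y) hfree
      rwa [Nat.card_zpowers, hd] at h
    have hY : Nat.card Y + Nat.card R' = Nat.card (Q ⧸ frattini Q) := by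
      rw [← Nat.card_congr (Equiv.sumCompl fun x => x ∈ R'), Nat.card_sum, add_comm]
    obtain ⟨m, hm⟩ := IsPGroup.iff_card.mp (hQp.to_quotient (frattini Q))
    obtain ⟨r, hr⟩ := IsPGroup.iff_card.mp ((hQp.to_quotient (frattini Q)).to_subgroup R')
    rw [hm, hr] at hY
    have hYpos : 0 < Nat.card Y := by
      obtain ⟨q, hq, hqR⟩ : ∃ q ∈ Q, q ∉ R := by
        by_contra h
        exact hRQ (le_antisymm (fun q hq => ((hR q).mp hq).1) fun q hq => by
          by_contra h'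
          exact h ⟨q, hq, h'⟩)
      haveI : Nonempty Y := ⟨⟨QuotientGroup.mk ⟨q, hq⟩, fun h => hqR ((hR' _).mp h)⟩⟩
      exact Nat.card_pos
    have hm6 : 6 ≤ m := by
      by_contra hlt
      have hrm : r < m := by
        by_contra hge
        have := Nat.pow_le_pow_right (by norm_num : 2 > 0) (not_lt.mp hge)
        omega
      obtain ⟨k, hk⟩ := h9
      interval_cases m <;> interval_cases r <;> omega
    calc 64 * Nat.card Φ ≤ 2 ^ m * Nat.card (frattini Q) := by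
          rw [hΦ, Subgroup.card_map_of_injective Q.subtype_injective]
          exact Nat.mul_le_mul_right _
            (le_trans (by norm_num) (Nat.pow_le_pow_right (by norm_num : 2 > 0) hm6))
      _ = Nat.card Q := by rw [← hm, ← Subgroup.card_eq_card_quotient_mul_card_subgroup]
  -- three commuting elements
  obtain ⟨x, hx, hxR⟩ : ∃ x ∈ Q, x ∉ Φ := by
    by_contra h
    exact hΦne (le_antisymm hΦQ fun q hq => by
      by_contra h'
      exact h ⟨q, hq, h'⟩)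
  obtain ⟨K1, hK1, hK1c⟩ := hKex x hx
  obtain ⟨S1, hS1⟩ : ∃ S1, S1 = Φ ⊔ Subgroup.zpowers x := ⟨_, rfl⟩
  have hnorm : ∀ S : Subgroup G, Φ ≤ S → S ≤ Q → ∀ q ∈ Q, q ∈ Subgroup.normalizer (S : Set G) := by
    intro S hΦS hSQ q hq
    refine Cfsg.Agent.LocalEvenB.mem_normalizer_of_conj_mem fun s hs => ?_
    have h1 := mul_mem (hΦS (hcΦ q hq s (hSQ hs))) hs
    rwa [inv_mul_cancel_right] at h1
  have hS1Q : S1 ≤ Q := hS1 ▸ sup_le hΦQ (Subgroup.zpowers_le.mpr hx)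
  have hS1c : Nat.card S1 ≤ 2 * Nat.card Φ := hS1 ▸
    (Cfsg.Agent.Basics.card_sup_zpowers (p := 2) (hnorm Φ le_rfl hΦQ x hx)
      (by rw [sq]; exact hsq x hx)).1
  have hΦS1 : Φ ≤ S1 := hS1 ▸ le_sup_left
  have hxS1 : x ∈ S1 := hS1 ▸ Subgroup.mem_sup_right (Subgroup.mem_zpowers x)
  have hcS1 : ∀ y ∈ Q, c x y = 1 → ∀ s ∈ S1, c y s = 1 := by
    intro y hy hxy s hs
    obtain ⟨K, hK, -⟩ := hKex y hy
    have hle : S1 ≤ K := by
      rw [hS1]
      refine sup_le (fun f hf => (hK f).mpr ⟨hΦQ hf, ?_⟩)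
        (Subgroup.zpowers_le.mpr ((hK x).mpr ⟨hx, by rw [hcs x hx y hy, hxy]⟩))
      show y * f * y⁻¹ * f⁻¹ = 1
      rw [(hΦc f hf y hy).eq]
      group
    exact ((hK s).mp (hle hs)).2
  obtain ⟨y1, hy1, hy1S⟩ : ∃ y ∈ K1, y ∉ S1 := by
    by_contra h
    have hle : K1 ≤ S1 := fun q hq => by
      by_contra h'
      exact h ⟨q, hq, h'⟩
    have := Subgroup.card_le_of_le hle
    have := Nat.card_pos (α := Φ)
    omega
  obtain ⟨hy1Q, hxy1⟩ := (hK1 y1).mp hy1
  have hpair : ∃ u w : G, u ∈ K1 ∧ w ∈ K1 ∧ c u w = 1 ∧ u ∉ S1 ∧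
      w ∉ S1 ⊔ Subgroup.zpowers u := by
    by_cases hex : ∃ y2 ∈ K1, ∃ y3 ∈ K1, c y1 y2 ≠ 1 ∧ c y1 y3 ≠ 1 ∧ c y1 y2 ≠ c y1 y3
    · obtain ⟨y2, hy2, y3, hy3, ha1, hb1, hab'⟩ := hex
      obtain ⟨hy2Q, hxy2⟩ := (hK1 y2).mp hy2
      obtain ⟨hy3Q, hxy3⟩ := (hK1 y3).mp hy3
      obtain ⟨a, ha⟩ : ∃ a, a = c y1 y2 := ⟨_, rfl⟩
      obtain ⟨b, hb⟩ : ∃ b, b = c y1 y3 := ⟨_, rfl⟩
      rw [← ha] at ha1 hab'
      rw [← hb] at hb1 hab'
      have haW : a ∈ W := ha ▸ hcW y1 hy1Q y2 hy2Q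
      have hbW : b ∈ W := hb ▸ hcW y1 hy1Q y3 hy3Q
      have ha2 : a * a = 1 := ((hW a).mp haW).2
      have hb2 : b * b = 1 := ((hW b).mp hbW).2
      have hy11 : c y1 y1 = 1 := by simp only [c]; group
      have hba : b * a = a * b := (hΦc a ((hW a).mp haW).1 b (hWQ b hbW)).eq
      -- independence criterion
      have ind : ∀ u w : G, u ∈ K1 → w ∈ K1 → c y1 u ≠ 1 → c y1 w ≠ 1 → c y1 w ≠ c y1 u →
          u ∉ S1 ∧ w ∉ S1 ⊔ Subgroup.zpowers u := by
        intro u w hu hw h1 h2 h3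
        obtain ⟨huQ, hxu⟩ := (hK1 u).mp hu
        refine ⟨fun h => h1 (hcS1 y1 hy1Q hxy1 u h), fun h => ?_⟩
        let T : Subgroup G :=
          { carrier := {q | q ∈ Q ∧ (c y1 q = 1 ∨ c y1 q = c y1 u)}
            one_mem' := ⟨one_mem Q, Or.inl (by simp only [c]; group)⟩
            mul_mem' := fun {s t} hs ht => ⟨mul_mem hs.1 ht.1, by
              rw [hcr y1 hy1Q s hs.1 t ht.1]
              rcases hs.2 with e1 | e1 <;> rcases ht.2 with e2 | e2 <;> rw [e1, e2]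
              · exact Or.inl (mul_one 1)
              · exact Or.inr (one_mul _)
              · exact Or.inr (mul_one _)
              · exact Or.inl (hc2 y1 hy1Q u huQ)⟩
            inv_mem' := fun {s} hs => ⟨inv_mem hs.1, by
              have e : c y1 s⁻¹ = c y1 s := by
                have h := hcr y1 hy1Q s hs.1 s⁻¹ (inv_mem hs.1)
                rw [mul_inv_cancel, show c y1 1 = 1 by simp only [c]; group] at h
                exact (inv_eq_of_mul_eq_one_right h.symm).symm.trans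
                  (inv_eq_of_mul_eq_one_right (hc2 y1 hy1Q s hs.1))
              rw [e]
              exact hs.2⟩ }
        have hle : S1 ⊔ Subgroup.zpowers u ≤ T :=
          sup_le (fun s hs => ⟨hS1Q hs, Or.inl (hcS1 y1 hy1Q hxy1 s hs)⟩)
            (Subgroup.zpowers_le.mpr ⟨huQ, Or.inr rfl⟩)
        rcases (hle h).2 with e | e
        · exact h2 e
        · exact h3 e
      have hcases : c y2 y3 = 1 ∨ c y2 y3 = a ∨ c y2 y3 = b ∨ c y2 y3 = a * b := by
        by_contra hne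
        rw [not_or, not_or, not_or] at hne
        have h5 : ({1, a, b, a * b, c y2 y3} : Finset G).card = 5 := by
          have e1 : a * b ≠ 1 := fun e => hab' ((inv_eq_of_mul_eq_one_right ha2).symm.trans
            (inv_eq_of_mul_eq_one_right e))
          have e2 : a * b ≠ a := fun e => hb1 (mul_left_cancel (e.trans (mul_one a).symm))
          have e3 : a * b ≠ b := fun e => ha1 (mul_right_cancel (e.trans (one_mul b).symm))
          simp [Finset.card_insert_of_notMem, Ne.symm ha1, Ne.symm hb1, hab', Ne.symm e1,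
            Ne.symm e2, Ne.symm e3, Ne.symm hne.1, Ne.symm hne.2.1, Ne.symm hne.2.2.1,
            Ne.symm hne.2.2.2]
        have hsub : (({1, a, b, a * b, c y2 y3} : Finset G) : Set G) ⊆ (W : Set G) := by
          intro g hg
          simp only [Finset.coe_insert, Finset.coe_singleton, Set.mem_insert_iff,
            Set.mem_singleton_iff] at hg
          rcases hg with rfl | rfl | rfl | rfl | rfl
          exacts [one_mem W, haW, hbW, mul_mem haW hbW, hcW y2 hy2Q y3 hy3Q]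
        have h6 : ({1, a, b, a * b, c y2 y3} : Finset G).card ≤ Nat.card W := by
          rw [← Set.ncard_coe_finset, ← Nat.card_coe_set_eq]
          exact Nat.card_mono (Set.toFinite _) hsub
        omega
      have hc12 : c y1 (y1 * y2) = a := by rw [hcr y1 hy1Q y1 hy1Q y2 hy2Q, hy11, one_mul, ha]
      have hc13 : c y1 (y1 * y3) = b := by rw [hcr y1 hy1Q y1 hy1Q y3 hy3Q, hy11, one_mul, hb]
      rcases hcases with h | h | h | h
      · exact ⟨y2, y3, hy2, hy3, h, ind y2 y3 hy2 hy3 (ha ▸ ha1) (hb ▸ hb1)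
          (by rw [← ha, ← hb]; exact hab'.symm)⟩
      · refine ⟨y2, y1 * y3, hy2, mul_mem hy1 hy3, ?_, ind _ _ hy2 (mul_mem hy1 hy3) (ha ▸ ha1)
          (hc13 ▸ hb1) (by rw [hc13, ← ha]; exact hab'.symm)⟩
        rw [hcr y2 hy2Q y1 hy1Q y3 hy3Q, hcs y1 hy1Q y2 hy2Q, h, ← ha, ha2]
      · refine ⟨y3, y1 * y2, hy3, mul_mem hy1 hy2, ?_, ind _ _ hy3 (mul_mem hy1 hy2) (hb ▸ hb1)
          (hc12 ▸ ha1) (by rw [hc12, ← hb]; exact hab')⟩
        rw [hcr y3 hy3Q y1 hy1Q y2 hy2Q, hcs y1 hy1Q y3 hy3Q, hcs y2 hy2Q y3 hy3Q, h, ← hb, hb2]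
      · refine ⟨y1 * y2, y1 * y3, mul_mem hy1 hy2, mul_mem hy1 hy3, ?_, ind _ _ (mul_mem hy1 hy2)
          (mul_mem hy1 hy3) (hc12 ▸ ha1) (hc13 ▸ hb1) (by rw [hc12, hc13]; exact hab'.symm)⟩
        rw [hcl y1 hy1Q y2 hy2Q _ (mul_mem hy1Q hy3Q), hc13, hcr y2 hy2Q y1 hy1Q y3 hy3Q,
          hcs y1 hy1Q y2 hy2Q, h, ← ha, ← mul_assoc a, ha2, one_mul, hb2]
    · obtain ⟨K, hK, -⟩ := hKex y1 hy1Q
      have hhalf : Nat.card K1 ≤ 2 * Nat.card (K1 ⊓ K : Subgroup G) := by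
        by_cases hall : ∀ z ∈ K1, c y1 z = 1
        · have : K1 ⊓ K = K1 := inf_eq_left.mpr fun z hz => (hK z).mpr ⟨((hK1 z).mp hz).1, hall z hz⟩
          rw [this]
          omega
        obtain ⟨z₀, hz₀, hz₀1⟩ : ∃ z ∈ K1, c y1 z ≠ 1 := by
          by_contra h
          exact hall fun z hz => by
            by_contra h'
            exact h ⟨z, hz, h'⟩
        have hz₀Q := ((hK1 z₀).mp hz₀).1
        have hsub : ∀ g ∈ K1, g ∈ (K1 ⊓ K : Subgroup G) ∨ z₀ * g ∈ (K1 ⊓ K : Subgroup G) := by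
          intro g hg
          have hgQ := ((hK1 g).mp hg).1
          by_cases hg1 : c y1 g = 1
          · exact Or.inl ⟨hg, (hK g).mpr ⟨hgQ, hg1⟩⟩
          · refine Or.inr ⟨mul_mem hz₀ hg, (hK _).mpr ⟨mul_mem hz₀Q hgQ, ?_⟩⟩
            rw [hcr y1 hy1Q z₀ hz₀Q g hgQ]
            have e : c y1 g = c y1 z₀ := by
              by_contra hne
              exact hex ⟨g, hg, z₀, hz₀, hg1, hz₀1, hne⟩
            rw [e, hc2 y1 hy1Q z₀ hz₀Q]
        have hcov : (K1 : Set G) ⊆ ((K1 ⊓ K : Subgroup G) : Set G) ∪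
            (fun g => z₀⁻¹ * g) '' ((K1 ⊓ K : Subgroup G) : Set G) := fun g hg => by
          rcases hsub g hg with h | h
          · exact Or.inl h
          · exact Or.inr ⟨_, h, inv_mul_cancel_left z₀ g⟩
        have h1 := (Set.ncard_le_ncard hcov (Set.toFinite _)).trans (Set.ncard_union_le _ _)
        rw [Set.ncard_image_of_injective _ (mul_right_injective _), ← Nat.card_coe_set_eq,
          ← Nat.card_coe_set_eq] at h1
        simp only [SetLike.coe_sort_coe] at h1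
        omega
      have hS2 : Nat.card (S1 ⊔ Subgroup.zpowers y1 : Subgroup G) ≤ 2 * Nat.card S1 :=
        (Cfsg.Agent.Basics.card_sup_zpowers (p := 2) (hnorm S1 hΦS1 hS1Q y1 hy1Q)
          (by rw [sq]; exact hΦS1 (hsq y1 hy1Q))).1
      obtain ⟨w, hw, hwS⟩ : ∃ w ∈ K1 ⊓ K, w ∉ S1 ⊔ Subgroup.zpowers y1 := by
        by_contra h
        have hle : K1 ⊓ K ≤ S1 ⊔ Subgroup.zpowers y1 := fun q hq => by
          by_contra h'
          exact h ⟨q, hq, h'⟩
        have := Subgroup.card_le_of_le hle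
        have := Nat.card_pos (α := Φ)
        omega
      exact ⟨y1, w, hy1, hw.1, ((hK w).mp hw.2).2, hy1S, hwS⟩
  obtain ⟨u, w, hu, hw, huw, huS, hwS⟩ := hpair
  obtain ⟨huQ, hxu⟩ := (hK1 u).mp hu
  obtain ⟨hwQ, hxw⟩ := (hK1 w).mp hw
  obtain ⟨A, hA⟩ : ∃ A, A = Subgroup.closure ((Φ : Set G) ∪ {x, u, w}) := ⟨_, rfl⟩
  have hAQ : A ≤ Q := hA ▸ (Subgroup.closure_le _).mpr (by
    rintro g (hg | rfl | rfl | rfl)
    exacts [hΦQ hg, hx, huQ, hwQ])
  have hcomm : ∀ a ∈ A, ∀ b ∈ A, Commute a b := by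
    have hc' : ∀ a b : G, c a b = 1 → Commute a b := fun a b h =>
      mul_inv_eq_iff_eq_mul.mp (mul_inv_eq_one.mp h)
    haveI : IsMulCommutative A := by
      rw [hA]
      refine Subgroup.isMulCommutative_closure ?_
      rintro a (ha | rfl | rfl | rfl) b (hb | rfl | rfl | rfl)
      all_goals first
        | rfl
        | exact (hΦc _ hb a (hΦQ ha)).eq
        | exact (hΦc _ ha _ hx).eq.symm
        | exact (hΦc _ ha _ huQ).eq.symm
        | exact (hΦc _ ha _ hwQ).eq.symm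
        | exact (hΦc _ hb _ hx).eq
        | exact (hΦc _ hb _ huQ).eq
        | exact (hΦc _ hb _ hwQ).eq
        | exact (hc' _ _ hxu).eq
        | exact (hc' _ _ hxu).eq.symm
        | exact (hc' _ _ hxw).eq
        | exact (hc' _ _ hxw).eq.symm
        | exact (hc' _ _ huw).eq
        | exact (hc' _ _ huw).eq.symm
    exact fun a ha b hb => congrArg Subtype.val (mul_comm' (⟨a, ha⟩ : A) ⟨b, hb⟩)
  have h8 : 8 * Nat.card Φ ≤ Nat.card A := by
    have hmem : ∀ g ∈ ({x, u, w} : Set G), g ∈ A := fun g hg =>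
      hA ▸ Subgroup.subset_closure (Or.inr hg)
    have hΦA : Φ ≤ A := fun g hg => hA ▸ Subgroup.subset_closure (Or.inl hg)
    have hS1A : S1 ≤ A := hS1 ▸ sup_le hΦA (Subgroup.zpowers_le.mpr (hmem x (by simp)))
    have h1 := two_mul_card_le hΦS1 hxS1 hxR
    have h2 := two_mul_card_le (le_sup_left : S1 ≤ S1 ⊔ Subgroup.zpowers u)
      (Subgroup.mem_sup_right (Subgroup.mem_zpowers u)) huS
    have h3 := two_mul_card_le
      (sup_le hS1A (Subgroup.zpowers_le.mpr (hmem u (by simp))) : S1 ⊔ Subgroup.zpowers u ≤ A)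
      (hmem w (by simp)) hwS
    omega
  let s : A →* G := MonoidHom.mk' (fun a => (a : G) * a) (fun a b => by
    show ((a : G) * b) * ((a : G) * b) = (a : G) * a * ((b : G) * b)
    calc ((a : G) * b) * ((a : G) * b) = a * (b * a) * b := by group
      _ = a * (a * b) * b := by rw [(hcomm _ a.2 _ b.2).eq]
      _ = _ := by group)
  have hran : Nat.card s.range ≤ Nat.card Φ := Subgroup.card_le_of_le (by
    rintro _ ⟨a, rfl⟩
    exact hsq _ (hAQ a.2))
  have hker : Nat.card s.ker ≤ 4 := by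
    rw [← Subgroup.card_map_of_injective A.subtype_injective (K := s.ker)]
    refine hab _ ((Subgroup.map_subtype_le _).trans (hAQ.trans hQP)) ?_ ?_
    · rintro _ ⟨a, -, rfl⟩ _ ⟨b, -, rfl⟩
      exact hcomm _ a.2 _ b.2
    · rintro _ ⟨a, ha, rfl⟩
      exact ha
  have h4 := s.ker.card_mul_index
  rw [Subgroup.index_ker] at h4
  have := Nat.mul_le_mul hker hran
  have := Nat.card_pos (α := Φ)
  omega

/-- Let d be a non-identity 3-element of a finite group and P a 2-subgroup normalized by d on which ⟨d⟩ acts faithfully (no non-identity power of d centralizes P) and without non-identity fixed points (C_P(d) = 1). If every abelian subgroup of P has 2-rank at most 2, then d has order 3. -/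
theorem result {X : Type*} [Group X] [Finite X] (d : X) (n : ℕ) (hn : 1 ≤ n) (hd : orderOf d = 3 ^ n) (P : Subgroup X) (hP : IsPGroup 2 P) (hdP : d ∈ Subgroup.normalizer (P : Set X)) (hfaith : Subgroup.zpowers d ⊓ Subgroup.centralizer (P : Set X) = ⊥) (hfpf : P ⊓ Subgroup.centralizer {d} = ⊥) (hrank : ∀ V : Subgroup X, V ≤ P → IsMulCommutative V → Cfsg.PRankLE 2 2 V) : orderOf d = 3 := by
  by_contra hne
  have hn2 : 2 ≤ n := by
    by_contra hlt
    exact hne (by rw [hd, show n = 1 by omega, pow_one])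
  set d' := d ^ 3 ^ (n - 2) with hd'
  have hd9 : orderOf d' = 9 := by
    rw [hd', orderOf_pow' _ (pow_ne_zero _ (by norm_num)), hd,
      Nat.gcd_eq_right (pow_dvd_pow 3 (by omega)), Nat.pow_div (by omega) (by norm_num),
      show n - (n - 2) = 2 by omega]
  have hc := cube_trivial hP hd9 (Subgroup.pow_mem _ hdP _) hrank
  have hmem : d' ^ 3 ∈ Subgroup.zpowers d ⊓ Subgroup.centralizer (P : Set X) :=
    ⟨Subgroup.pow_mem _ (Subgroup.pow_mem _ (Subgroup.mem_zpowers d) _) _,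
      Subgroup.mem_centralizer_iff.mpr fun q hq => (hc q hq).eq.symm⟩
  rw [hfaith, Subgroup.mem_bot] at hmem
  have h := orderOf_dvd_of_pow_eq_one hmem
  rw [hd9] at h
  norm_num at h

end Cfsg.Agent.S3738
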