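import Cfsg.Statements.S3739
import Mathlib
import Cfsg.Agent.Lib.Basics.Cores
import Cfsg.Agent.Lib.Basics.Frattini
import Cfsg.Agent.Lib.LocalEvenB.Basic

set_option linter.style.haveILetI false
set_option maxHeartbeats 1000000

set_option autoImplicit false
open Cfsg

namespace Cfsg.Agent.S3739

open Subgroup Cfsg.Agent

theorem two_pow_dvd_of_sq : ∀ (k : ℕ) (n : ℤ), 2 ^ (2 * k + 1) ∣ n ^ 2 → 2 ^ (k + 1) ∣ n
  | 0, n, h => by
    simpa using Int.prime_two.dvd_of_dvd_pow (by simpa using h)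
  | k + 1, n, h => by
    obtain ⟨m, rfl⟩ : (2 : ℤ) ∣ n :=
      Int.prime_two.dvd_of_dvd_pow ((dvd_pow_self 2 (by omega)).trans h)
    rw [show (2 : ℤ) ^ (2 * (k + 1) + 1) = 4 * 2 ^ (2 * k + 1) by ring,
      show (2 * m) ^ 2 = 4 * m ^ 2 by ring] at h
    have := two_pow_dvd_of_sq k m (Int.dvd_of_mul_dvd_mul_left (by norm_num) h)
    rw [pow_succ' (2 : ℤ) (k + 1)]
    exact mul_dvd_mul_left 2 this

/-- The square of the sum of a sign character of the squares. -/
theorem sign_sum_sq {X : Type*} [Group X] [Fintype X] (W : Subgroup X)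
    (hWc : W ≤ center X) (hcard : Nat.card W = 4) (hW2 : ∀ w ∈ W, w ^ 2 = 1)
    (hsq : ∀ x : X, x ^ 2 ∈ W) (χ : X → ℤ) (hpm : ∀ w ∈ W, χ w = 1 ∨ χ w = -1)
    (hmul : ∀ u ∈ W, ∀ v ∈ W, χ (u * v) = χ u * χ v) :
    (4 * (Fintype.card X : ℤ)) ∣ (∑ x : X, χ (x ^ 2)) ^ 2 := by
  classical
  have hc : ∀ w ∈ W, ∀ g : X, g * w = w * g := fun w hw g => mem_center_iff.mp (hWc hw) g
  set k : X → X → X := fun x y => x⁻¹ * y * x * y⁻¹ with hk
  have hkey : ∀ x y : X, (x * y) ^ 2 = x ^ 2 * k x y * y ^ 2 := fun x y => by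
    simp [hk, sq, mul_assoc]
  have hkW : ∀ x y : X, k x y ∈ W := fun x y => by
    have : k x y = (x ^ 2)⁻¹ * (x * y) ^ 2 * (y ^ 2)⁻¹ := by rw [hkey]; simp [mul_assoc]
    rw [this]
    exact W.mul_mem (W.mul_mem (W.inv_mem (hsq _)) (hsq _)) (W.inv_mem (hsq _))
  have hkmul : ∀ a b y : X, k (a * b) y = k a y * k b y := fun a b y => by
    calc k (a * b) y = b⁻¹ * k a y * (y * b * y⁻¹) := by simp [hk, mul_assoc]
      _ = k a y * b⁻¹ * (y * b * y⁻¹) := by rw [hc _ (hkW a y) b⁻¹]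
      _ = k a y * k b y := by simp [hk, mul_assoc]
  set inner : X → ℤ := fun y => if ∀ x : X, χ (k x y) = 1 then 1 else 0 with hinner
  have hin : ∀ y : X, ∑ x : X, χ (k x y) = Fintype.card X * inner y := fun y => by
    by_cases h : ∀ x : X, χ (k x y) = 1
    · simp [hinner, h]
    · have h0 : inner y = 0 := by simp only [hinner, if_neg h]
      push Not at h
      obtain ⟨x₀, hx₀⟩ := h
      have hm : χ (k x₀ y) = -1 := (hpm _ (hkW x₀ y)).resolve_left hx₀
      have : ∑ x : X, χ (k x y) = -∑ x : X, χ (k x y) := by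
        conv_lhs => rw [← Equiv.sum_comp (Equiv.mulLeft x₀)]
        rw [← Finset.sum_neg_distrib]
        refine Finset.sum_congr rfl fun x _ => ?_
        simp only [Equiv.coe_mulLeft]
        rw [hkmul, hmul _ (hkW _ _) _ (hkW _ _), hm, neg_one_mul]
      rw [h0]
      omega
  have hS : (∑ x : X, χ (x ^ 2)) ^ 2 = Fintype.card X * ∑ y : X, χ (y ^ 2) * inner y := by
    calc (∑ x : X, χ (x ^ 2)) ^ 2 = ∑ x : X, ∑ y : X, χ (x ^ 2) * χ (y ^ 2) := by
          rw [sq, Finset.sum_mul_sum]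
      _ = ∑ x : X, ∑ y : X, χ (x ^ 2) * χ ((x * y) ^ 2) :=
          Finset.sum_congr rfl fun x _ => (Equiv.sum_comp (Equiv.mulLeft x) _).symm
      _ = ∑ x : X, ∑ y : X, χ (y ^ 2) * χ (k x y) := by
          refine Finset.sum_congr rfl fun x _ => Finset.sum_congr rfl fun y _ => ?_
          rw [hkey, hmul _ (W.mul_mem (hsq x) (hkW x y)) _ (hsq y), hmul _ (hsq x) _ (hkW x y)]
          rcases hpm _ (hsq x) with h | h <;> rw [h] <;> ring
      _ = Fintype.card X * ∑ y : X, χ (y ^ 2) * inner y := by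
          rw [Finset.sum_comm, Finset.mul_sum]
          refine Finset.sum_congr rfl fun y _ => ?_
          rw [← Finset.mul_sum, hin]
          ring
  have hinv : ∀ x y : X, (QuotientGroup.mk x : X ⧸ W) = QuotientGroup.mk y →
      χ (x ^ 2) * inner x = χ (y ^ 2) * inner y := fun x y hxy => by
    obtain ⟨w, hw, rfl⟩ : ∃ w ∈ W, y = x * w := ⟨x⁻¹ * y, QuotientGroup.eq.mp hxy, by simp⟩
    have h1 : (x * w) ^ 2 = x ^ 2 := by
      rw [(show Commute x w from hc w hw x).mul_pow, hW2 w hw, mul_one]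
    have h2 : ∀ z : X, k z (x * w) = k z x := fun z => by
      calc z⁻¹ * (x * w) * z * (x * w)⁻¹ = z⁻¹ * x * (w * z) * w⁻¹ * x⁻¹ := by simp [mul_assoc]
        _ = z⁻¹ * x * (z * w) * w⁻¹ * x⁻¹ := by rw [hc w hw z]
        _ = z⁻¹ * x * z * x⁻¹ := by simp [mul_assoc]
    simp only [hinner, h1, h2]
  have h4 : (4 : ℤ) ∣ ∑ y : X, χ (y ^ 2) * inner y := by
    let e := Subgroup.groupEquivQuotientProdSubgroup (s := W)
    haveI : Fintype (X ⧸ W) := Fintype.ofFinite _
    haveI : Fintype W := Fintype.ofFinite _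
    rw [← Equiv.sum_comp e.symm, Fintype.sum_prod_type]
    refine Finset.dvd_sum fun q _ => ?_
    have : ∀ w : W, χ ((e.symm (q, w)) ^ 2) * inner (e.symm (q, w)) =
        χ (q.out ^ 2) * inner q.out := fun w => hinv _ _ (by
      have h := congrArg Prod.fst (e.apply_symm_apply (q, w))
      rw [QuotientGroup.out_eq']
      exact h)
    rw [Finset.sum_congr rfl fun w _ => this w, Finset.sum_const, Finset.card_univ,
      ← Nat.card_eq_fintype_card, hcard, nsmul_eq_mul]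
    exact dvd_mul_right _ _
  rw [hS, mul_comm (4 : ℤ)]
  exact mul_dvd_mul_left _ h4

/-- A 2-group with squares in a central four-group containing all involutions is small. -/
theorem card_small {X : Type*} [Group X] [Finite X] (W : Subgroup X) (hWc : W ≤ center X)
    (hcard : Nat.card W = 4) (hinv : ∀ x : X, x ^ 2 = 1 ↔ x ∈ W) (hsq : ∀ x : X, x ^ 2 ∈ W) :
    ¬ 128 ∣ Nat.card X := by
  classical
  intro hN
  haveI : Fintype X := Fintype.ofFinite X
  have h2 : ∀ w ∈ W, w ^ 2 = 1 := fun w hw => (hinv w).mpr hw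
  have hmem : ∀ a : X, a ^ 2 = 1 → ∀ w ∈ zpowers a, w = 1 ∨ w = a := by
    intro a ha w hw
    obtain ⟨i, rfl⟩ := mem_zpowers_iff.mp hw
    rcases Int.even_or_odd' i with ⟨j, rfl | rfl⟩
    · left; rw [zpow_mul, zpow_ofNat, ha, one_zpow]
    · right; rw [zpow_add, zpow_mul, zpow_ofNat, ha, one_zpow, one_mul, zpow_one]
  haveI : Nontrivial W := Finite.one_lt_card_iff_nontrivial.mp (by omega)
  obtain ⟨⟨a, ha⟩, ha1⟩ := exists_ne (1 : W)
  have ha1 : a ≠ 1 := fun h => ha1 (Subtype.ext h)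
  have hoa : ∀ u ∈ W, u ≠ 1 → Nat.card (zpowers u) = 2 := fun u hu hu1 => by
    rw [Nat.card_zpowers, orderOf_eq_prime (h2 u hu) hu1]
  obtain ⟨b, hb, hba⟩ : ∃ b ∈ W, b ∉ zpowers a := by
    by_contra! hh
    have := card_le_of_le (show W ≤ zpowers a from hh)
    rw [hoa a ha ha1, hcard] at this
    omega
  have hb1 : b ≠ 1 := fun h => hba (h ▸ one_mem _)
  have hchar : ∀ u ∈ W, u ≠ 1 → ∀ x ∈ W, ∀ y ∈ W, (x * y ∈ zpowers u ↔ (x ∈ zpowers u ↔ y ∈ zpowers u)) := by
    intro u hu hu1 x hx y hy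
    have hi : ((zpowers u).subgroupOf W).index = 2 := by
      have := relIndex_mul_relIndex ⊥ (zpowers u) W bot_le (zpowers_le.mpr hu)
      rw [relIndex_bot_left, relIndex_bot_left, hoa u hu hu1, hcard] at this
      show (zpowers u).relIndex W = 2
      omega
    exact mul_mem_iff_of_index_two hi (a := ⟨x, hx⟩) (b := ⟨y, hy⟩)
  set ψ : X → X → ℤ := fun u w => if w ∈ zpowers u then 1 else -1 with hψ
  have hψpm : ∀ u w, ψ u w = 1 ∨ ψ u w = -1 := fun u w => by
    simp only [hψ]; split_ifs <;> simp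
  have hψmul : ∀ u ∈ W, u ≠ 1 → ∀ x ∈ W, ∀ y ∈ W, ψ u (x * y) = ψ u x * ψ u y := by
    intro u hu hu1 x hx y hy
    simp only [hψ, hchar u hu hu1 x hx y hy]
    by_cases h1 : x ∈ zpowers u <;> by_cases h2 : y ∈ zpowers u <;> simp [h1, h2]
  have h32 : ∀ χ : X → ℤ, (∀ w ∈ W, χ w = 1 ∨ χ w = -1) →
      (∀ u ∈ W, ∀ v ∈ W, χ (u * v) = χ u * χ v) → (32 : ℤ) ∣ ∑ x : X, χ (x ^ 2) := by
    intro χ h1 h3
    have h512 : (2 : ℤ) ^ (2 * 4 + 1) ∣ 4 * (Fintype.card X : ℤ) := by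
      rw [← Nat.card_eq_fintype_card]
      obtain ⟨m, hm⟩ := hN
      exact ⟨m, by rw [hm]; push_cast; ring⟩
    simpa using two_pow_dvd_of_sq 4 _ (h512.trans (sign_sum_sq W hWc hcard h2 hsq χ h1 h3))
  have hA := h32 (ψ a) (fun w _ => hψpm a w) (hψmul a ha ha1)
  have hB := h32 (ψ b) (fun w _ => hψpm b w) (hψmul b hb hb1)
  have hAB := h32 (fun w => ψ a w * ψ b w)
    (fun w _ => by rcases hψpm a w with h | h <;> rcases hψpm b w with h' | h' <;> simp [h, h'])
    (fun u hu v hv => by rw [hψmul a ha ha1 u hu v hv, hψmul b hb hb1 u hu v hv]; ring)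
  have hpt : ∀ x : X, 1 + ψ a (x ^ 2) + ψ b (x ^ 2) + ψ a (x ^ 2) * ψ b (x ^ 2) =
      if x ^ 2 = 1 then (4 : ℤ) else 0 := by
    intro x
    by_cases hx : x ^ 2 = 1
    · simp [hψ, hx]
    · rw [if_neg hx]
      by_cases h1 : x ^ 2 ∈ zpowers a
      · have h3 : x ^ 2 ∉ zpowers b := fun h3 => by
          have hxa := ((hmem a (h2 a ha) _ h1).resolve_left hx)
          have hxb := ((hmem b (h2 b hb) _ h3).resolve_left hx)
          exact hba ((hxb.symm.trans hxa) ▸ mem_zpowers a)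
        simp [hψ, h1, h3]
      · simp only [hψ, if_neg h1]
        ring
  have hsum : (Fintype.card X : ℤ) + (∑ x : X, ψ a (x ^ 2)) + (∑ x : X, ψ b (x ^ 2)) +
      (∑ x : X, ψ a (x ^ 2) * ψ b (x ^ 2)) = 16 := by
    have hcardW : (Finset.univ.filter fun x : X => x ^ 2 = 1).card = 4 := by
      rw [← hcard, ← Fintype.card_subtype, ← Nat.card_eq_fintype_card]
      exact Nat.card_congr (Equiv.subtypeEquivRight hinv)
    calc _ = ∑ x : X, (1 + ψ a (x ^ 2) + ψ b (x ^ 2) + ψ a (x ^ 2) * ψ b (x ^ 2)) := by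
          simp [Finset.sum_add_distrib]
      _ = 16 := by
          simp only [hpt]
          rw [← Finset.sum_filter, Finset.sum_const, hcardW]
          norm_num
  have h0 : (32 : ℤ) ∣ (Fintype.card X : ℤ) := by
    rw [← Nat.card_eq_fintype_card]
    exact_mod_cast (show 32 ∣ 128 by norm_num).trans hN
  have : (32 : ℤ) ∣ 16 := hsum ▸ dvd_add (dvd_add (dvd_add h0 hA) hB) hAB
  norm_num at this

/-- A `p`-group fixes an element of order `p` in a nontrivial subgroup that it normalizes. -/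
theorem exists_fixed_prime {G : Type*} [Group G] [Finite G] {p : ℕ} [Fact p.Prime]
    (R N : Subgroup G) (hR : IsPGroup p R) (hN : IsPGroup p N) (hN1 : N ≠ ⊥)
    (hRN : ∀ r ∈ R, ∀ n ∈ N, r * n * r⁻¹ ∈ N) :
    ∃ z ∈ N, orderOf z = p ∧ ∀ r ∈ R, r * z = z * r := by
  letI : MulAction R N :=
    { smul := fun g x => ⟨g * x * (g : G)⁻¹, hRN g g.2 x x.2⟩
      one_smul := fun x => Subtype.ext (by
        show ((1 : R) : G) * x * ((1 : R) : G)⁻¹ = x; simp)
      mul_smul := fun a b x => Subtype.ext (by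
        show ((a * b : R) : G) * x * ((a * b : R) : G)⁻¹ = a * (b * x * (b : G)⁻¹) * (a : G)⁻¹
        simp [mul_assoc]) }
  have hd : p ∣ Nat.card N := by
    obtain ⟨n, hn⟩ := IsPGroup.iff_card.1 hN
    rw [hn]
    refine dvd_pow_self p fun h0 => hN1 (card_eq_one.1 ?_)
    rw [hn, h0, pow_zero]
  have h1 : (1 : N) ∈ MulAction.fixedPoints R N := fun g => Subtype.ext (by
    show (g : G) * ((1 : N) : G) * (g : G)⁻¹ = ((1 : N) : G); simp)
  obtain ⟨z, hz, hz1⟩ := hR.exists_fixed_point_of_prime_dvd_card_of_fixed_point N hd h1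
  have hzM : (z : G) ∈ N ⊓ centralizer (R : Set G) := ⟨z.2, fun r hr => by
    have : r * z * r⁻¹ = (z : G) := congrArg Subtype.val (hz ⟨r, hr⟩)
    exact mul_inv_eq_iff_eq_mul.mp this⟩
  have hMp : IsPGroup p ↥(N ⊓ centralizer (R : Set G)) := hN.to_le inf_le_left
  obtain ⟨n, hn⟩ := IsPGroup.iff_card.1 hMp
  have hn0 : n ≠ 0 := fun h0 => hz1 (Subtype.ext (mem_bot.mp
    ((card_eq_one.1 (by rw [hn, h0, pow_zero])) ▸ hzM)).symm)
  obtain ⟨y, hy⟩ := exists_prime_orderOf_dvd_card' p (hn ▸ dvd_pow_self p hn0)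
  exact ⟨y, y.2.1, by rwa [orderOf_coe], fun r hr => y.2.2 r hr⟩

/-- Let G be a finite group with C_G(O₂(G)) ≤ O₂(G) containing an element of order 6, and let d be a non-identity 3-element of G normalizing a nontrivial elementary abelian 2-subgroup W with C_W(d) = 1. Then G has an elementary abelian subgroup of order 8. -/
theorem result {G : Type*} [Group G] [Finite G] (hchar : Subgroup.centralizer (Cfsg.pCore 2 G : Set G) ≤ Cfsg.pCore 2 G) (hsix : ∃ g : G, orderOf g = 6) (d : G) (hd1 : d ≠ 1) (hd : IsPGroup 3 ↥(Subgroup.zpowers d)) (W : Subgroup G) (hW : Cfsg.IsElementaryAbelian 2 W) (hW1 : W ≠ ⊥) (hdW : d ∈ Subgroup.normalizer (W : Set G)) (hfpf : W ⊓ Subgroup.centralizer {d} = ⊥) : ∃ E : Subgroup G, Cfsg.IsElementaryAbelian 2 E ∧ Nat.card E = 8 := by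
  classical
  haveI := Fact.mk Nat.prime_two
  haveI : Fact (Nat.Prime 3) := ⟨Nat.prime_three⟩
  have hW2 : ∀ w ∈ W, w ^ 2 = 1 := hW.2
  haveI := hW.1
  have hWcomm : ∀ u ∈ W, ∀ v ∈ W, u * v = v * u := fun u hu v hv =>
    congrArg Subtype.val (mul_comm' (⟨u, hu⟩ : W) ⟨v, hv⟩)
  by_contra! hno
  -- the rank bound
  have hrank : ∀ E : Subgroup G, Cfsg.IsElementaryAbelian 2 E → Nat.card E ≤ 4 := by
    intro E hE
    have hEp : IsPGroup 2 E := fun x => ⟨1, Subtype.ext (by simpa using hE.2 x x.2)⟩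
    obtain ⟨k, hk⟩ := IsPGroup.iff_card.1 hEp
    by_contra hgt
    have hk3 : 3 ≤ k := by
      by_contra hk3
      have : 2 ^ k ≤ 2 ^ 2 := Nat.pow_le_pow_right (by norm_num) (by omega)
      omega
    obtain ⟨K, hK⟩ := Sylow.exists_subgroup_card_pow_prime (G := E) 2 (n := 3)
      (hk ▸ pow_dvd_pow 2 hk3)
    refine hno (K.map E.subtype) ⟨⟨⟨fun u v => ?_⟩⟩, fun u hu => ?_⟩ ?_
    · haveI := hE.1
      exact Subtype.ext (congrArg (fun t : E => (t : G))
        (mul_comm' (⟨u.1, map_subtype_le _ u.2⟩ : E) ⟨v.1, map_subtype_le _ v.2⟩))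
    · exact hE.2 u (map_subtype_le _ hu)
    · rw [card_map_of_injective E.subtype_injective, hK]; norm_num
  have hdconj : ∀ w ∈ W, d * w * d⁻¹ ∈ W := fun w hw => (mem_normalizer_iff.mp hdW w).mp hw
  have hdfix : ∀ w ∈ W, d * w * d⁻¹ = w → w = 1 := fun w hw h =>
    mem_bot.mp (hfpf ▸ (⟨hw, mem_centralizer_singleton_iff.mpr (mul_inv_eq_iff_eq_mul.mp h).symm⟩ :
      w ∈ W ⊓ centralizer {d}))
  have hWp : IsPGroup 2 W := fun x => ⟨1, Subtype.ext (by simpa using hW2 x x.2)⟩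
  -- enumeration of `W`
  have hW4 : Nat.card W = 4 := by
    obtain ⟨k, hk⟩ := IsPGroup.iff_card.1 hWp
    have h1 := hrank W hW
    have hk2 : k ≤ 2 := by
      by_contra h
      have : 2 ^ 3 ≤ 2 ^ k := Nat.pow_le_pow_right (by norm_num) (by omega)
      omega
    interval_cases k
    · exact absurd (card_eq_one.1 hk) hW1
    · obtain ⟨y, hy1, huniq⟩ := (Nat.card_eq_two_iff' (1 : W)).mp hk
      have hd' : (⟨d * y * d⁻¹, hdconj y y.2⟩ : W) ≠ 1 := fun h => hy1 (Subtype.ext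
        (conj_eq_one_iff.mp (congrArg Subtype.val h)))
      exact absurd (Subtype.ext (hdfix y y.2 (congrArg Subtype.val (huniq _ hd')))) hy1
    · simpa using hk
  have henum : ∀ u ∈ W, ∀ v ∈ W, u ≠ 1 → v ≠ 1 → u ≠ v →
      ∀ w ∈ W, w = 1 ∨ w = u ∨ w = v ∨ w = u * v := by
    intro u hu v hv hu1 hv1 huv w hw
    by_contra! hh
    obtain ⟨h1, h2, h3, h4⟩ := hh
    haveI : Fintype W := Fintype.ofFinite _
    have h5 : ({(1 : W), ⟨u, hu⟩, ⟨v, hv⟩, ⟨u * v, W.mul_mem hu hv⟩, ⟨w, hw⟩} : Finset W).card ≤ 4 := by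
      rw [← hW4, Nat.card_eq_fintype_card]; exact Finset.card_le_univ _
    have huv1 : u * v ≠ 1 := fun h => huv (by
      rw [mul_eq_one_iff_eq_inv.mp h]
      exact inv_eq_of_mul_eq_one_right (by rw [← sq]; exact hW2 v hv))
    rw [Finset.card_insert_of_notMem, Finset.card_insert_of_notMem, Finset.card_insert_of_notMem,
      Finset.card_insert_of_notMem, Finset.card_singleton] at h5
    · omega
    all_goals simp [Subtype.ext_iff, *, Ne.symm hu1, Ne.symm hv1, Ne.symm huv1, Ne.symm h1,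
      Ne.symm h2, Ne.symm h3, Ne.symm h4]
  have hsub : ∀ (M : Subgroup G), ∀ u ∈ W, ∀ v ∈ W, u ≠ 1 → v ≠ 1 → u ≠ v → u ∈ M → v ∈ M →
      W ≤ M := by
    intro M u hu v hv hu1 hv1 huv hum hvm w hw
    rcases henum u hu v hv hu1 hv1 huv w hw with rfl | rfl | rfl | rfl
    exacts [M.one_mem, hum, hvm, M.mul_mem hum hvm]
  -- involutions centralizing `W`
  have hext : ∀ z : G, z ^ 2 = 1 → (∀ w ∈ W, w * z = z * w) → z ∈ W := by
    intro z hz hzc
    haveI hclc : IsMulCommutative (closure ((W : Set G) ∪ {z})) :=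
      Subgroup.isMulCommutative_closure fun a ha b hb => by
        rcases ha with ha | rfl <;> rcases hb with hb | rfl
        · exact hWcomm a ha b hb
        · exact hzc a ha
        · exact (hzc b hb).symm
        · rfl
    have hE : Cfsg.IsElementaryAbelian 2 (closure ((W : Set G) ∪ {z})) := by
      refine ⟨hclc, fun a ha => ?_⟩
      induction ha using closure_induction with
      | mem a ha => rcases ha with ha | rfl
                    · exact hW2 a ha
                    · exact hz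
      | one => exact one_pow 2
      | mul a b ha hb iha ihb =>
        have hab : Commute a b := congrArg Subtype.val
          (mul_comm' (⟨a, ha⟩ : closure ((W : Set G) ∪ {z})) ⟨b, hb⟩)
        rw [hab.mul_pow, iha, ihb, one_mul]
      | inv a ha iha => rw [inv_pow, iha, inv_one]
    have hle : W ≤ closure ((W : Set G) ∪ {z}) := fun w hw => subset_closure (Or.inl hw)
    rw [eq_of_le_of_card_ge hle (by rw [hW4]; exact hrank _ hE)]
    exact subset_closure (Or.inr rfl)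
  -- `W` consists of the elements of order at most two of the core
  set Q := Cfsg.pCore 2 G with hQdef
  haveI hQn : Q.Normal := Basics.pCore_normal 2
  have hQp : IsPGroup 2 Q := Basics.pCore_isPGroup 2
  obtain ⟨g, hg⟩ := hsix
  have hQ1 : Q ≠ ⊥ := by
    intro h
    have h1 : g ∈ centralizer (Q : Set G) := fun q hq => by
      rw [(mem_bot.mp (by rw [← h]; exact hq) : q = 1), one_mul, mul_one]
    have h2 := hchar h1
    rw [h, mem_bot] at h2
    rw [h2, orderOf_one] at hg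
    norm_num at hg
  obtain ⟨z, hzQ, hz2, hzc⟩ := exists_fixed_prime (Q ⊔ W) Q
    (hQp.to_sup_of_normal_left hWp) hQp hQ1 fun r _ n hn => hQn.conj_mem n hn r
  have hzW : z ∈ W := hext z (orderOf_dvd_iff_pow_eq_one.mp hz2.dvd)
    fun w hw => hzc w (mem_sup_right hw)
  have hz1 : z ≠ 1 := fun h => by rw [h, orderOf_one] at hz2; norm_num at hz2
  have hWQ : W ≤ Q ⊓ centralizer (Q : Set G) := by
    have hzM : z ∈ Q ⊓ centralizer (Q : Set G) := ⟨hzQ, fun q hq => hzc q (mem_sup_left hq)⟩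
    have hdz : d * z * d⁻¹ ∈ Q ⊓ centralizer (Q : Set G) :=
      (inferInstance : (Q ⊓ centralizer (Q : Set G)).Normal).conj_mem z hzM d
    exact hsub _ z hzW (d * z * d⁻¹) (hdconj z hzW) hz1 (fun h => hz1 (conj_eq_one_iff.mp h))
      (fun h => hz1 (hdfix z hzW h.symm)) hzM hdz
  have hinvQ : ∀ x ∈ Q, x ^ 2 = 1 ↔ x ∈ W := fun x hx =>
    ⟨fun h => hext x h fun w hw => ((hWQ hw).2 x hx).symm, hW2 x⟩
  haveI hWn : W.Normal := ⟨fun w hw h => (hinvQ _ (hQn.conj_mem w (hWQ hw).1 h)).mp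
    (by rw [conj_pow, hW2 w hw]; simp)⟩
  set C := centralizer (W : Set G) with hC
  haveI hCn : C.Normal := by rw [hC]; infer_instance
  -- an element of order three centralizing `W`
  have he3 : orderOf (g ^ 2) = 3 := by rw [orderOf_pow' g (by norm_num), hg]; norm_num
  have heC : g ^ 2 ∈ C := by
    have hec : ∀ w ∈ W, g ^ 2 * w * (g ^ 2)⁻¹ ∈ W := fun w hw => hWn.conj_mem w hw _
    have hcube : (g ^ 2) ^ 3 = 1 := orderOf_dvd_iff_pow_eq_one.mp he3.dvd
    obtain ⟨z', hz'W, hz'1, hz'e⟩ : ∃ z' ∈ W, z' ≠ 1 ∧ g ^ 2 * z' * (g ^ 2)⁻¹ = z' := by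
      set t := g ^ 3 with ht
      have ht2 : t * t = 1 := by
        rw [ht, ← pow_add]; exact orderOf_dvd_iff_pow_eq_one.mp hg.dvd
      have ht1 : t ≠ 1 := fun h => by
        have := orderOf_dvd_of_pow_eq_one h
        rw [hg] at this; norm_num at this
      have het : Commute (g ^ 2) t := (Commute.refl g).pow_pow 2 3
      by_cases htW : t ∈ W
      · exact ⟨t, htW, ht1, mul_inv_eq_iff_eq_mul.mpr het.eq⟩
      · obtain ⟨a, ha, hat⟩ : ∃ a ∈ W, a * t ≠ t * a := by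
          by_contra! hh
          exact htW (hext t (by rw [sq]; exact ht2) hh)
        have hta : t * a * t⁻¹ ∈ W := hWn.conj_mem a ha t
        have hti : t⁻¹ = t := inv_eq_of_mul_eq_one_right ht2
        have haa : a * a = 1 := by rw [← sq]; exact hW2 a ha
        set z' := a * (t * a * t⁻¹) with hz'
        have hz'W : z' ∈ W := W.mul_mem ha hta
        have hz'1 : z' ≠ 1 := fun h => hat (by
          have h1 : t * a * t⁻¹ = a := by
            rw [← inv_eq_of_mul_eq_one_right h]; exact inv_eq_of_mul_eq_one_right haa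
          exact (mul_inv_eq_iff_eq_mul.mp h1).symm)
        have hz't : t * z' * t⁻¹ = z' := by
          calc t * z' * t⁻¹ = (t * a * t⁻¹) * ((t * t) * a * (t * t)⁻¹) := by
                simp [hz', mul_assoc]
            _ = (t * a * t⁻¹) * a := by rw [ht2]; simp
            _ = z' := hWcomm _ hta _ ha
        refine ⟨z', hz'W, hz'1, by_contra fun hne => hat ?_⟩
        have hM := hsub (centralizer {t}) z' hz'W _ (hec z' hz'W) hz'1
          (fun h => hz'1 (conj_eq_one_iff.mp h)) (Ne.symm hne)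
          (mem_centralizer_singleton_iff.mpr (mul_inv_eq_iff_eq_mul.mp hz't).symm)
          (mem_centralizer_singleton_iff.mpr (Commute.mul_left (Commute.mul_left het
            (mul_inv_eq_iff_eq_mul.mp hz't : Commute t z').symm) het.inv_left).eq)
        exact mem_centralizer_singleton_iff.mp (hM ha)
    intro w hw
    set e := g ^ 2
    by_contra hne
    have hne' : e * w * e⁻¹ ≠ w := fun h => hne (mul_inv_eq_iff_eq_mul.mp h).symm
    have hw1 : w ≠ 1 := fun h => hne' (by simp [h])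
    have hwz : z' ≠ w := fun h => hne' (h ▸ hz'e)
    rcases henum z' hz'W w hw hz'1 hw1 hwz _ (hec w hw) with h | h | h | h
    · exact hw1 (conj_eq_one_iff.mp h)
    · exact hwz ((MulAut.conj e).injective (hz'e.trans h.symm))
    · exact hne' h
    · apply hne'
      have h2 : e * (e * w * e⁻¹) * e⁻¹ = w := by
        calc e * (e * w * e⁻¹) * e⁻¹ = e * (z' * w) * e⁻¹ := by rw [h]
          _ = (e * z' * e⁻¹) * (e * w * e⁻¹) := by simp [mul_assoc]
          _ = z' * (z' * w) := by rw [hz'e, h]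
          _ = w := by rw [← mul_assoc, ← sq, hW2 z' hz'W, one_mul]
      calc e * w * e⁻¹ = e * (e * (e * w * e⁻¹) * e⁻¹) * e⁻¹ := by rw [h2]
        _ = e ^ 3 * w * (e ^ 3)⁻¹ := by simp [pow_succ, mul_assoc]
        _ = w := by rw [hcube]; simp
  -- replace it by one commuting with `d`
  obtain ⟨R, hR⟩ := hd.exists_le_sylow
  obtain ⟨R', hR'⟩ := (IsPGroup.of_card (n := 1) (by rw [Nat.card_zpowers, he3, pow_one]) :
    IsPGroup 3 (zpowers (g ^ 2))).exists_le_sylow
  obtain ⟨h, hh⟩ := MulAction.exists_smul_eq G R' R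
  have hRC : (R : Subgroup G) ⊓ C ≠ ⊥ := fun hb => by
    have h1 : h * g ^ 2 * h⁻¹ ∈ (R : Subgroup G) ⊓ C := ⟨by
      rw [← hh, Sylow.smul_def, Sylow.pointwise_smul_def]
      exact ⟨g ^ 2, hR' (mem_zpowers _), rfl⟩, hCn.conj_mem _ heC h⟩
    rw [hb, mem_bot, conj_eq_one_iff] at h1
    rw [h1, orderOf_one] at he3
    norm_num at he3
  obtain ⟨e, heRC, he, hec⟩ := exists_fixed_prime (R : Subgroup G) ((R : Subgroup G) ⊓ C) R.2
    (R.2.to_le inf_le_left) hRC fun r hr n hn =>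
      ⟨(R : Subgroup G).mul_mem ((R : Subgroup G).mul_mem hr hn.1) ((R : Subgroup G).inv_mem hr),
        hCn.conj_mem n hn.2 r⟩
  have hde : d * e = e * d := hec d (hR (mem_zpowers d))
  have hew : ∀ w ∈ W, e * w * e⁻¹ = w := fun w hw =>
    mul_inv_eq_iff_eq_mul.mpr (heRC.2 w hw).symm
  have he31 : e ^ 3 = 1 := orderOf_dvd_iff_pow_eq_one.mp he.dvd
  -- a minimal invariant subgroup moved by `e`
  haveI : Nonempty {X : Subgroup G // X ≤ Q ∧ (∀ x ∈ X, d * x * d⁻¹ ∈ X) ∧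
      (∀ x ∈ X, e * x * e⁻¹ ∈ X) ∧ ∃ x ∈ X, e * x * e⁻¹ ≠ x} := by
    refine ⟨⟨Q, le_rfl, fun x hx => hQn.conj_mem x hx d, fun x hx => hQn.conj_mem x hx e, ?_⟩⟩
    by_contra! hh
    have heQ : e ∈ Q := hchar fun q hq => (mul_inv_eq_iff_eq_mul.mp (hh q hq)).symm
    obtain ⟨k, hk⟩ := hQp ⟨e, heQ⟩
    have h3 : 3 ∣ 2 ^ k := he ▸ orderOf_dvd_of_pow_eq_one (congrArg Subtype.val hk)
    exact absurd (Nat.prime_three.dvd_of_dvd_pow h3) (by norm_num)
  obtain ⟨⟨X, hXQ, hXd, hXe, x₀, hx₀, hx₀e⟩, hmin⟩ := Finite.exists_min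
    fun X : {X : Subgroup G // X ≤ Q ∧ (∀ x ∈ X, d * x * d⁻¹ ∈ X) ∧
      (∀ x ∈ X, e * x * e⁻¹ ∈ X) ∧ ∃ x ∈ X, e * x * e⁻¹ ≠ x} => Nat.card X.1
  have hfixed : ∀ Y : Subgroup G, Y ≤ X → Y ≠ X → (∀ x ∈ Y, d * x * d⁻¹ ∈ Y) →
      (∀ x ∈ Y, e * x * e⁻¹ ∈ Y) → ∀ y ∈ Y, e * y * e⁻¹ = y := by
    intro Y hY hne h1 h2 y hy
    by_contra h
    exact hne (eq_of_le_of_card_ge hY (hmin ⟨Y, hY.trans hXQ, h1, h2, y, hy, h⟩))
  have hXp : IsPGroup 2 X := hQp.to_le hXQ
  haveI : Group.IsNilpotent X := hXp.isNilpotent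
  haveI : Nontrivial X := ⟨⟨⟨x₀, hx₀⟩, 1, fun h => hx₀e (by
    rw [show x₀ = 1 from congrArg Subtype.val h]; simp)⟩⟩
  set Y := closure {s : G | ∃ x ∈ X, s = x ^ 2} with hY
  have hYle : Y ≤ X := (closure_le _).mpr fun s ⟨x, hx, hs⟩ => hs ▸ pow_mem hx 2
  have hYne : Y ≠ X := by
    intro h
    obtain ⟨M, hM, -⟩ := (eq_top_or_exists_le_coatom (⊥ : Subgroup X)).resolve_left bot_ne_top
    have hle : X ≤ (frattini X).map X.subtype := by
      refine h.ge.trans ((closure_le _).mpr ?_)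
      rintro s ⟨x, hx, rfl⟩
      exact ⟨⟨x, hx⟩ ^ 2, Basics.pow_mem_frattini hXp _, rfl⟩
    refine hM.1 (eq_top_iff.mpr fun x _ => frattini_le_coatom hM ?_)
    obtain ⟨y, hy, hyx⟩ := hle x.2
    rwa [show x = y from Subtype.ext hyx.symm]
  have hYinv : ∀ a : G, (∀ x ∈ X, a * x * a⁻¹ ∈ X) → ∀ c ∈ Y, a * c * a⁻¹ ∈ Y := by
    intro a ha c hc
    have : Y ≤ Y.comap (MulAut.conj a).toMonoidHom :=
      (closure_le _).mpr fun s ⟨x, hx, hs⟩ => subset_closure ⟨a * x * a⁻¹, ha x hx, by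
        show a * s * a⁻¹ = (a * x * a⁻¹) ^ 2
        rw [conj_pow, hs]⟩
    exact this hc
  have hYe : ∀ c ∈ Y, e * c * e⁻¹ = c := hfixed Y hYle hYne (hYinv d hXd) (hYinv e hXe)
  -- `X` is generated by the elements `x⁻¹ * x^e`
  set S : Set G := {s | ∃ x ∈ X, s = x⁻¹ * (e * x * e⁻¹)} with hS
  have hgen : closure S = X := by
    by_contra hne
    have hle : closure S ≤ X := (closure_le _).mpr fun s ⟨x, hx, hs⟩ =>
      hs ▸ X.mul_mem (X.inv_mem hx) (hXe x hx)
    have hinv' : ∀ a : G, a * e = e * a → (∀ x ∈ X, a * x * a⁻¹ ∈ X) →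
        ∀ y ∈ closure S, a * y * a⁻¹ ∈ closure S := by
      intro a hae ha y hy
      have : closure S ≤ (closure S).comap (MulAut.conj a).toMonoidHom :=
        (closure_le _).mpr fun s ⟨x, hx, hs⟩ => subset_closure ⟨a * x * a⁻¹, ha x hx, by
          have h' : a⁻¹ * e = e * a⁻¹ := (show Commute a e from hae).inv_left.eq
          show a * s * a⁻¹ = _
          calc a * s * a⁻¹ = a * x⁻¹ * (e * x) * (e⁻¹ * a⁻¹) := by rw [hs]; simp [mul_assoc]
            _ = a * x⁻¹ * (a⁻¹ * a) * (e * x) * (e⁻¹ * a⁻¹) := by simp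
            _ = a * x⁻¹ * a⁻¹ * ((a * e) * x * (a * e)⁻¹) := by simp [mul_assoc]
            _ = a * x⁻¹ * a⁻¹ * ((e * a) * x * (e * a)⁻¹) := by rw [hae]
            _ = _ := by simp [mul_assoc]⟩
      exact this hy
    have hfix := hfixed _ hle hne (hinv' d hde hXd) (hinv' e rfl hXe)
    apply hx₀e
    set c := x₀⁻¹ * (e * x₀ * e⁻¹) with hc
    have hcS : c ∈ closure S := subset_closure ⟨x₀, hx₀, rfl⟩
    have h1 : e * x₀ * e⁻¹ = x₀ * c := by simp [hc]
    have h3 : ∀ n : ℕ, e ^ n * x₀ * (e ^ n)⁻¹ = x₀ * c ^ n := by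
      intro n
      induction n with
      | zero => simp
      | succ n ih =>
        calc e ^ (n + 1) * x₀ * (e ^ (n + 1))⁻¹ = e * (e ^ n * x₀ * (e ^ n)⁻¹) * e⁻¹ := by
              rw [pow_succ']; simp [mul_assoc]
          _ = (e * x₀ * e⁻¹) * (e * c ^ n * e⁻¹) := by rw [ih]; simp [mul_assoc]
          _ = x₀ * c ^ (n + 1) := by
              rw [h1, hfix _ (pow_mem hcS n), pow_succ', mul_assoc]
    have h4 := h3 3
    rw [he31, one_mul, inv_one, mul_one, left_eq_mul] at h4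
    obtain ⟨k, hk⟩ := hXp ⟨c, hle hcS⟩
    have hk' : orderOf c ∣ 2 ^ k := orderOf_dvd_of_pow_eq_one (congrArg Subtype.val hk)
    have h5 : orderOf c ∣ Nat.gcd 3 (2 ^ k) := Nat.dvd_gcd (orderOf_dvd_of_pow_eq_one h4) hk'
    rw [(Nat.Coprime.pow_right k (by norm_num : Nat.Coprime 3 2)).gcd_eq_one, Nat.dvd_one,
      orderOf_eq_one_iff] at h5
    rw [h1, h5, mul_one]
  -- squares are central
  have hYc : ∀ c ∈ Y, ∀ x ∈ X, x * c = c * x := by
    intro c hc
    suffices X ≤ centralizer ({c} : Set G) from fun x hx => mem_centralizer_singleton_iff.mp (this hx)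
    rw [← hgen, closure_le]
    rintro s ⟨x, hx, rfl⟩
    refine mem_centralizer_singleton_iff.mpr ?_
    set y := x * c * x⁻¹ with hy
    have hyY : y ∈ Y := hYinv x (fun u hu => X.mul_mem (X.mul_mem hx hu) (X.inv_mem hx)) c hc
    have h1 : (e * x * e⁻¹) * c * (e * x * e⁻¹)⁻¹ = y :=
      calc _ = e * (x * (e⁻¹ * c * e) * x⁻¹) * e⁻¹ := by simp [mul_assoc]
        _ = e * y * e⁻¹ := by
          rw [show e⁻¹ * c * e = c by
            conv_lhs => rw [← hYe c hc]
            simp [mul_assoc]]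
        _ = y := hYe y hyY
    calc x⁻¹ * (e * x * e⁻¹) * c = x⁻¹ * ((e * x * e⁻¹) * c * (e * x * e⁻¹)⁻¹) * (e * x * e⁻¹) := by
          simp [mul_assoc]
      _ = c * (x⁻¹ * (e * x * e⁻¹)) := by rw [h1]; simp [hy, mul_assoc]
  -- commutators lie in `W`
  have hsqY : ∀ x ∈ X, x ^ 2 ∈ Y := fun x hx => subset_closure ⟨x, hx, rfl⟩
  have hcW : ∀ a ∈ X, ∀ c ∈ X, a * c * a⁻¹ * c⁻¹ ∈ W := by
    intro a ha c hc
    set k := a * c * a⁻¹ * c⁻¹ with hk
    have hkX : k ∈ X := X.mul_mem (X.mul_mem (X.mul_mem ha hc) (X.inv_mem ha)) (X.inv_mem hc)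
    have hkY : k ∈ Y := by
      have h1 := Y.mul_mem (Y.mul_mem (hsqY a ha) (hsqY (a⁻¹ * c) (X.mul_mem (X.inv_mem ha) hc)))
        (Y.inv_mem (hsqY c hc))
      simpa [hk, sq, mul_assoc] using h1
    refine (hinvQ k (hXQ hkX)).mp ?_
    calc k ^ 2 = k * (a * c * a⁻¹ * c⁻¹) := by rw [sq]
      _ = a * (k * c) * a⁻¹ * c⁻¹ := by
          calc k * (a * c * a⁻¹ * c⁻¹) = (k * a) * c * a⁻¹ * c⁻¹ := by simp [mul_assoc]
            _ = _ := by rw [← hYc k hkY a ha]; simp [mul_assoc]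
      _ = (a ^ 2 * c) * (a ^ 2)⁻¹ * c⁻¹ := by simp [hk, sq, mul_assoc]
      _ = 1 := by rw [← hYc _ (hsqY a ha) c hc]; simp
  set Z := W.subgroupOf X with hZ
  haveI : Z.Normal := normal_subgroupOf
  let π := QuotientGroup.mk' Z
  have hπcomm : ∀ a b : X, Commute (π a) (π b) := fun a b => by
    show π a * π b = π b * π a
    rw [← map_mul, ← map_mul]
    refine QuotientGroup.eq.mpr ?_
    show ((a : G) * b)⁻¹ * (b * a) ∈ W
    simpa [mul_assoc] using hcW _ (X.inv_mem b.2) _ (X.inv_mem a.2)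
  have hπ1 : ∀ a : X, π a = 1 ↔ (a : G) ∈ W := fun a => QuotientGroup.eq_one_iff a
  have hhom : ∀ φ : X →* X ⧸ Z, (∀ u v : X, (v : G) = e * u * e⁻¹ → φ u = φ v) → ∀ x : X, φ x = 1 := by
    intro φ hφ x
    have : X ≤ φ.ker.map X.subtype := by
      conv_lhs => rw [← hgen]
      refine (closure_le _).mpr ?_
      rintro s ⟨y, hy, rfl⟩
      let u : X := ⟨y, hy⟩
      let v : X := ⟨e * y * e⁻¹, hXe y hy⟩
      refine ⟨u⁻¹ * v, ?_, rfl⟩
      rw [SetLike.mem_coe, MonoidHom.mem_ker, map_mul, map_inv, inv_mul_eq_one]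
      exact hφ u v rfl
    obtain ⟨y, hy, hyx⟩ := this x.2
    rw [show x = y from Subtype.ext hyx.symm]
    exact hy
  let sqh : X →* X ⧸ Z := MonoidHom.mk' (fun x => π x ^ 2)
    (fun a c => by rw [map_mul, (hπcomm a c).mul_pow])
  have hsq : ∀ x ∈ X, x ^ 2 ∈ W := fun x hx => by
    have := hhom sqh (fun u v huv => by
      show π u ^ 2 = π v ^ 2
      rw [← map_pow, ← map_pow]
      congr 1
      apply Subtype.ext
      push_cast
      rw [huv, conj_pow, hYe _ (hsqY u u.2)]) ⟨x, hx⟩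
    have h2 : π (⟨x, hx⟩ ^ 2) = 1 := by rw [map_pow]; exact this
    exact (hπ1 _).mp h2
  -- `e` moves every element outside `W`
  let E : X →* X := MonoidHom.mk' (fun x => ⟨e * x * e⁻¹, hXe x x.2⟩)
    (fun a c => Subtype.ext (by simp [mul_assoc]))
  have hE3 : ∀ u, E (E (E u)) = u := fun u => Subtype.ext (by
    show e * (e * (e * u * e⁻¹) * e⁻¹) * e⁻¹ = u
    calc _ = e ^ 3 * u * (e ^ 3)⁻¹ := by simp [pow_succ, mul_assoc]
      _ = u := by rw [he31]; simp)
  let N : X →* X ⧸ Z := MonoidHom.mk' (fun x => π x * π (E x) * π (E (E x))) (fun a c => by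
    simp only [map_mul]
    calc π a * π c * (π (E a) * π (E c)) * (π (E (E a)) * π (E (E c)))
        = π a * (π c * π (E a)) * (π (E c) * π (E (E a))) * π (E (E c)) := by simp [mul_assoc]
      _ = π a * (π (E a) * π c) * (π (E (E a)) * π (E c)) * π (E (E c)) := by
          rw [(hπcomm c (E a)).eq, (hπcomm (E c) (E (E a))).eq]
      _ = π a * π (E a) * (π c * π (E (E a))) * (π (E c) * π (E (E c))) := by simp [mul_assoc]
      _ = π a * π (E a) * (π (E (E a)) * π c) * (π (E c) * π (E (E c))) := by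
          rw [(hπcomm c (E (E a))).eq]
      _ = _ := by simp [mul_assoc])
  have hmove : ∀ x ∈ X, x ∉ W → e * x * e⁻¹ ≠ x := by
    intro x hx hxW hfix
    have hN := hhom N (fun u v huv => by
      have hv : v = E u := Subtype.ext huv
      show π u * π (E u) * π (E (E u)) = π v * π (E v) * π (E (E v))
      rw [hv, hE3, mul_assoc, ← map_mul]
      exact (hπcomm u _).eq
      ) ⟨x, hx⟩
    have hEx : E ⟨x, hx⟩ = ⟨x, hx⟩ := Subtype.ext hfix
    have h3 : π (⟨x, hx⟩ * ⟨x, hx⟩ * ⟨x, hx⟩) = 1 := by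
      rw [map_mul, map_mul]
      have : π ⟨x, hx⟩ * π (E ⟨x, hx⟩) * π (E (E ⟨x, hx⟩)) = 1 := hN
      rwa [hEx, hEx] at this
    have h3' : x * x * x ∈ W := (hπ1 _).mp h3
    apply hxW
    have := W.mul_mem (W.inv_mem (hsq x hx)) h3'
    simpa [sq, mul_assoc] using this
  -- `W` lies in `X`
  have hx₀1 : x₀ ≠ 1 := fun h => hx₀e (by rw [h]; simp)
  have hWX : W ≤ X := by
    obtain ⟨y, hyX, hy, -⟩ := exists_fixed_prime (p := 2) ⊥ X IsPGroup.of_bot hXp
      (fun h => hx₀1 (mem_bot.mp (h ▸ hx₀))) fun r hr n hn => by simp [mem_bot.mp hr, hn]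
    have hy1 : y ≠ 1 := fun h => by rw [h, orderOf_one] at hy; norm_num at hy
    have hyW : y ∈ W := (hinvQ y (hXQ hyX)).mp (orderOf_dvd_iff_pow_eq_one.mp hy.dvd)
    exact hsub X y hyW _ (hdconj y hyW) hy1 (fun h => hy1 (conj_eq_one_iff.mp h))
      (fun h => hy1 (hdfix y hyW h.symm)) hyX (hXd y hyX)
  have hWX4 : Nat.card (W.subgroupOf X) = 4 := by
    rw [← hW4]; exact Nat.card_congr (subgroupOfEquivOfLe hWX).toEquiv
  have hsmall : ¬ 128 ∣ Nat.card X := card_small (W.subgroupOf X)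
    (fun w hw => mem_center_iff.mpr fun u => Subtype.ext ((hWQ hw).2 u (hXQ u.2)))
    hWX4
    (fun u => ⟨fun h => (hinvQ u (hXQ u.2)).mp (by simpa using congrArg Subtype.val h),
      fun h => Subtype.ext (by simpa using hW2 _ h)⟩)
    (fun u => show (((u ^ 2 : X)) : G) ∈ W by push_cast; exact hsq u u.2)
  -- the action of `⟨d, e⟩` on `X` outside `W`
  set P := closure ({d, e} : Set G) with hP
  have hdP : d ∈ P := subset_closure (Set.mem_insert d _)
  have heP : e ∈ P := subset_closure (Set.mem_insert_of_mem d rfl)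
  have hP3 : IsPGroup 3 P := R.2.to_le ((closure_le _).mpr (Set.insert_subset (hR (mem_zpowers d))
    (Set.singleton_subset_iff.mpr heRC.1)))
  have hPX : P ≤ normalizer (X : Set G) := (closure_le _).mpr (Set.insert_subset
    (LocalEvenB.mem_normalizer_of_conj_mem hXd)
    (Set.singleton_subset_iff.mpr (LocalEvenB.mem_normalizer_of_conj_mem hXe)))
  have hT : ∀ g : P, ∀ x : G, x ∈ X ∧ x ∉ W → (g : G) * x * (g : G)⁻¹ ∈ X ∧ (g : G) * x * (g : G)⁻¹ ∉ W :=
    fun g x hx => ⟨(mem_normalizer_iff.mp (hPX g.2) x).mp hx.1, fun h => hx.2 (by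
      simpa [mul_assoc] using hWn.conj_mem _ h (g : G)⁻¹)⟩
  letI : MulAction P {x : G // x ∈ X ∧ x ∉ W} :=
    { smul := fun g x => ⟨(g : G) * x * (g : G)⁻¹, hT g x x.2⟩
      one_smul := fun x => Subtype.ext (by
        show ((1 : P) : G) * x * ((1 : P) : G)⁻¹ = x; simp)
      mul_smul := fun a c x => Subtype.ext (by
        show ((a * c : P) : G) * x * ((a * c : P) : G)⁻¹ = a * (c * x * (c : G)⁻¹) * (a : G)⁻¹
        simp [mul_assoc]) }
  have h9 : ∀ x : {x : G // x ∈ X ∧ x ∉ W}, 9 ∣ Nat.card (MulAction.orbit P x) := by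
    intro x
    obtain ⟨n, hn⟩ := hP3.card_orbit x
    rw [hn]
    refine (show 9 = 3 ^ 2 by norm_num) ▸ pow_dvd_pow 3 ?_
    by_contra hlt
    have hle : Nat.card (MulAction.orbit P x) ≤ 3 := by
      rw [hn]
      calc 3 ^ n ≤ 3 ^ 1 := Nat.pow_le_pow_right (by norm_num) (by omega)
        _ = 3 := pow_one 3
    let ee : P := ⟨e, heP⟩
    let dd : P := ⟨d, hdP⟩
    have h1 : ee • x ≠ x := fun h => hmove x x.2.1 x.2.2 (congrArg Subtype.val h)
    have h2 : ee • (ee • x) ≠ ee • x := fun h => h1 (MulAction.injective ee h)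
    have h3 : ee • (ee • x) ≠ x := fun h => h1 (by
      have h33 : ee • (ee • (ee • x)) = x := Subtype.ext (by
        show e * (e * (e * (x : G) * e⁻¹) * e⁻¹) * e⁻¹ = x
        calc _ = e ^ 3 * (x : G) * (e ^ 3)⁻¹ := by simp [pow_succ, mul_assoc]
          _ = x := by rw [he31]; simp)
      rw [h] at h33; exact h33)
    have hsqe : ∀ y : {x : G // x ∈ X ∧ x ∉ W}, ((ee • y : {x : G // x ∈ X ∧ x ∉ W}) : G) ^ 2 = (y : G) ^ 2 :=
      fun y => by
        show (e * (y : G) * e⁻¹) ^ 2 = _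
        rw [conj_pow, hYe _ (hsqY y y.2.1)]
    have hd2 : ∀ y : {x : G // x ∈ X ∧ x ∉ W}, (y : G) ^ 2 = (x : G) ^ 2 → dd • x ≠ y := by
      intro y hy h
      apply x.2.2
      refine (hinvQ x (hXQ x.2.1)).mp (hdfix _ (hsq x x.2.1) ?_)
      have h4 : d * (x : G) * d⁻¹ = y := congrArg Subtype.val h
      rw [← conj_pow, h4, hy]
    classical
    have hfin : Nat.card ({x, ee • x, ee • (ee • x), dd • x} : Finset _) ≤ 3 := by
      refine le_trans (Nat.card_le_card_of_injective (fun y => (⟨y.1, ?_⟩ : MulAction.orbit P x))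
        fun u v huv => Subtype.ext (by simpa using congrArg Subtype.val huv)) hle
      rcases y with ⟨y, hy⟩
      simp only [Finset.mem_insert, Finset.mem_singleton] at hy
      rcases hy with rfl | rfl | rfl | rfl
      · exact MulAction.mem_orbit_self _
      · exact MulAction.mem_orbit _ _
      · exact ⟨ee * ee, mul_smul ee ee x⟩
      · exact MulAction.mem_orbit _ _
    rw [Nat.card_eq_finsetCard, Finset.card_insert_of_notMem, Finset.card_insert_of_notMem,
      Finset.card_insert_of_notMem, Finset.card_singleton] at hfin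
    · omega
    · simp [(hd2 _ (by rw [hsqe, hsqe])).symm]
    · simp [Ne.symm h2, (hd2 _ (hsqe x)).symm]
    · simp [Ne.symm h1, Ne.symm h3, (hd2 x rfl).symm]
  have hdvd : 9 ∣ Nat.card {x : G // x ∈ X ∧ x ∉ W} := by
    haveI : Fintype (Quotient (MulAction.orbitRel P {x : G // x ∈ X ∧ x ∉ W})) := Fintype.ofFinite _
    rw [Nat.card_congr (MulAction.selfEquivSigmaOrbits P {x : G // x ∈ X ∧ x ∉ W}), Nat.card_sigma]
    exact Finset.dvd_sum fun q _ => h9 _
  have hcardT : Nat.card {x : G // x ∈ X ∧ x ∉ W} + 4 = Nat.card X := by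
    have h := Nat.card_congr (Equiv.sumCompl fun x : X => (x : G) ∈ W)
    rw [Nat.card_sum] at h
    rw [← h, add_comm]
    congr 1
    · exact hWX4.symm
    · exact Nat.card_congr (Equiv.subtypeSubtypeEquivSubtypeInter (fun x => x ∈ X) fun x => x ∉ W).symm
  have hx₀W : x₀ ∉ W := fun h => hx₀e (hew x₀ h)
  have hpos : 0 < Nat.card {x : G // x ∈ X ∧ x ∉ W} := by
    haveI : Nonempty {x : G // x ∈ X ∧ x ∉ W} := ⟨⟨x₀, hx₀, hx₀W⟩⟩
    exact Nat.card_pos
  obtain ⟨k, hk⟩ := IsPGroup.iff_card.1 hXp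
  have hk7 : k < 7 := by
    by_contra h
    exact hsmall (hk ▸ (show 128 = 2 ^ 7 by norm_num) ▸ pow_dvd_pow 2 (by omega))
  interval_cases k <;> omega

end Cfsg.Agent.S3739
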