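import Cfsg.Statements.S3741
import Cfsg.Agent.Lib.Basics.Tools
import Cfsg.Agent.Lib.InvChar.Basics

set_option autoImplicit false
open Cfsg
open scoped commutatorElement

namespace Cfsg.Agent.S3741

/-- Let A and B be subgroups of a finite p-group with [A, B] ≤ A ∩ B and [A, B] of order at most p. Then |A : C_A(B)| = |B : C_B(A)|. -/
theorem result {G : Type*} [Group G] [Finite G] {p : ℕ} [Fact p.Prime] (hG : IsPGroup p G) (A B : Subgroup G) (hAB : ⁅A, B⁆ ≤ A ⊓ B) (hcard : Nat.card ↥⁅A, B⁆ ≤ p) : (A ⊓ Subgroup.centralizer (B : Set G)).relIndex A = (B ⊓ Subgroup.centralizer (A : Set G)).relIndex B := by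
  have key : ∀ A B : Subgroup G, ⁅A, B⁆ ≤ A ⊓ B → Nat.card ↥⁅A, B⁆ ≤ p →
      (B ⊓ Subgroup.centralizer (A : Set G)).relIndex B ≤
        (A ⊓ Subgroup.centralizer (B : Set G)).relIndex A := by
    intro A B hAB hcard
    set Z := ⁅A, B⁆ with hZ
    have hp := (Fact.out : p.Prime)
    -- `Z` is centralised by `A` and `B`
    have hcen : ∀ g ∈ A ⊔ B, ∀ z ∈ Z, g * z = z * g := by
      have hn : A ⊔ B ≤ Subgroup.normalizer (Z : Set G) := sup_le (Subgroup.normalizer_commutator_ge_left A B) (Subgroup.normalizer_commutator_ge_right A B)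
      have hZJ : Z ≤ A ⊔ B := (hAB.trans inf_le_left).trans le_sup_left
      haveI : (Z.subgroupOf (A ⊔ B)).Normal := (Subgroup.normal_subgroupOf_iff_le_normalizer hZJ).mpr hn
      intro g hg z hz
      set J := A ⊔ B
      have hJ : IsPGroup p J := hG.to_subgroup J
      haveI := hJ.isNilpotent
      by_cases hbot : Z.subgroupOf J = ⊥
      · have h1 : (⟨z, hZJ hz⟩ : J) ∈ Z.subgroupOf J := hz
        rw [hbot, Subgroup.mem_bot] at h1
        rw [show z = 1 from congrArg Subtype.val h1, mul_one, one_mul]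
      · obtain ⟨w, hw', hwc, hw1⟩ := InvChar.exists_mem_center_of_normal hJ (Z.subgroupOf J) hbot
        have hw : w ∈ Z.subgroupOf J ⊓ Subgroup.center J := ⟨hw', hwc⟩
        have hle : Z.subgroupOf J ⊓ Subgroup.center J = Z.subgroupOf J := by
          refine Subgroup.eq_of_le_of_card_ge inf_le_left ?_
          obtain ⟨k, hk⟩ := IsPGroup.iff_card.mp (hJ.to_subgroup (Z.subgroupOf J ⊓ Subgroup.center J))
          rw [hk, Nat.card_congr (Subgroup.subgroupOfEquivOfLe hZJ).toEquiv]
          refine hcard.trans (Nat.le_self_pow ?_ p)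
          rintro rfl
          rw [pow_zero, Subgroup.card_eq_one] at hk
          exact hw1 (Subgroup.mem_bot.mp (hk ▸ hw))
        have h2 : (⟨z, hZJ hz⟩ : J) ∈ Z.subgroupOf J := hz
        rw [← hle] at h2
        exact congrArg Subtype.val (Subgroup.mem_center_iff.mp h2.2 ⟨g, hg⟩)
    classical
    let good : Subgroup G → Prop := fun K => A ⊓ Subgroup.centralizer (B : Set G) ≤ K ∧ K ≤ A ∧
      (B ⊓ Subgroup.centralizer (K : Set G)).relIndex B *
        Nat.card ↥(A ⊓ Subgroup.centralizer (B : Set G)) ≤ Nat.card K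
    have hgood : good (A ⊓ Subgroup.centralizer (B : Set G)) := by
      refine ⟨le_rfl, inf_le_left, ?_⟩
      rw [show (B ⊓ Subgroup.centralizer ((A ⊓ Subgroup.centralizer (B : Set G) : Subgroup G) :
        Set G)).relIndex B = 1 from Subgroup.relIndex_eq_one.mpr fun b hb => ⟨hb,
          Subgroup.mem_centralizer_iff.mpr fun a ha =>
            (Subgroup.mem_centralizer_iff.mp ha.2 b hb).symm⟩, one_mul]
    obtain ⟨K, hK, hmax⟩ := (Set.toFinite {K | good K}).exists_maximal ⟨_, hgood⟩
    obtain ⟨hCK, hKA, hKc⟩ := hK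
    rcases eq_or_lt_of_le hKA with rfl | hlt
    · have h0 := ((K ⊓ Subgroup.centralizer (B : Set G)).subgroupOf K).index_mul_card
      rw [Basics.card_subgroupOf inf_le_left] at h0
      rw [← h0] at hKc
      exact Nat.le_of_mul_le_mul_right hKc Nat.card_pos
    exfalso
    obtain ⟨a, ha, haK⟩ := SetLike.exists_of_lt hlt
    set K' := K ⊔ Subgroup.zpowers a with hK'
    have hKK' : K ≤ K' := le_sup_left
    have haK' : a ∈ K' := (le_sup_right : Subgroup.zpowers a ≤ K') (Subgroup.mem_zpowers a)
    refine haK ((hmax (y := K') ⟨hCK.trans hKK', sup_le hKA (Subgroup.zpowers_le.mpr ha), ?_⟩ hKK')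
      haK')
    have hp2 : p * Nat.card K ≤ Nat.card K' := by
      obtain ⟨i, hi⟩ := IsPGroup.iff_card.mp (hG.to_subgroup K)
      obtain ⟨j, hj⟩ := IsPGroup.iff_card.mp (hG.to_subgroup K')
      have h1 := Basics.card_lt_of_lt (lt_of_le_of_ne hKK' fun he => haK (he ▸ haK'))
      rw [hi, hj] at h1 ⊢
      rw [← pow_succ']
      exact Nat.pow_le_pow_right hp.pos ((Nat.pow_lt_pow_iff_right hp.one_lt).mp h1)
    set D := B ⊓ Subgroup.centralizer (K : Set G) with hD
    let f : D →* Z := MonoidHom.mk' (fun d => ⟨⁅a, (d : G)⁆,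
      Subgroup.commutator_mem_commutator ha d.2.1⟩) fun d e => Subtype.ext (by
      show ⁅a, (d : G) * e⁆ = ⁅a, (d : G)⁆ * ⁅a, (e : G)⁆
      calc ⁅a, (d : G) * e⁆ = ⁅a, (d : G)⁆ * ((d : G) * ⁅a, (e : G)⁆ * (d : G)⁻¹) := by
            simp only [commutatorElement_def]; group
        _ = ⁅a, (d : G)⁆ * ⁅a, (e : G)⁆ := by
          rw [hcen d (Subgroup.mem_sup_right d.2.1) _
            (Subgroup.commutator_mem_commutator ha e.2.1), mul_inv_cancel_right])
    have hker : f.ker.map D.subtype ≤ B ⊓ Subgroup.centralizer (K' : Set G) := by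
      rintro _ ⟨d, hd, rfl⟩
      refine ⟨d.2.1, ?_⟩
      have hle : K' ≤ Subgroup.centralizer {(d : G)} := by
        refine sup_le (fun k hk => Subgroup.mem_centralizer_singleton_iff.mpr
          (Subgroup.mem_centralizer_iff.mp d.2.2 k hk)) (Subgroup.zpowers_le.mpr ?_)
        exact Subgroup.mem_centralizer_singleton_iff.mpr
          (commutatorElement_eq_one_iff_mul_comm.mp (congrArg Subtype.val hd))
      exact Subgroup.mem_centralizer_iff.mpr fun k hk =>
        Subgroup.mem_centralizer_singleton_iff.mp (hle hk)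
    have h3 : (B ⊓ Subgroup.centralizer (K' : Set G)).relIndex B ≤ p * D.relIndex B := by
      have h4 : (f.ker.map D.subtype).relIndex B = f.ker.index * D.relIndex B := by
        rw [← Subgroup.relIndex_mul_relIndex _ D B (Subgroup.map_subtype_le _) inf_le_left]
        congr 1
        show ((f.ker.map D.subtype).subgroupOf D).index = _
        rw [Subgroup.subgroupOf, Subgroup.comap_map_eq_self_of_injective D.subtype_injective]
      have h5 : (B ⊓ Subgroup.centralizer (K' : Set G)).relIndex B ≤ (f.ker.map D.subtype).relIndex B :=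
        Nat.le_of_dvd (Nat.pos_of_ne_zero Subgroup.index_ne_zero_of_finite)
          (Subgroup.relIndex_dvd_of_le_left B hker)
      rw [h4, Subgroup.index_ker] at h5
      exact h5.trans (Nat.mul_le_mul_right _ ((Subgroup.card_le_card_group _).trans hcard))
    calc (B ⊓ Subgroup.centralizer (K' : Set G)).relIndex B *
          Nat.card ↥(A ⊓ Subgroup.centralizer (B : Set G))
        ≤ p * D.relIndex B * Nat.card ↥(A ⊓ Subgroup.centralizer (B : Set G)) :=
          Nat.mul_le_mul_right _ h3
      _ ≤ p * Nat.card K := by rw [mul_assoc]; exact Nat.mul_le_mul_left p hKc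
      _ ≤ _ := hp2
  refine le_antisymm ?_ (key A B hAB hcard)
  exact key B A (by rwa [Subgroup.commutator_comm, inf_comm]) (by rwa [Subgroup.commutator_comm])

end Cfsg.Agent.S3741
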