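import Cfsg.Statements.S3742


set_option autoImplicit false
open Cfsg

namespace Cfsg.Agent.S3742

abbrev Q8 := QuaternionGroup 2

/-- Encoding of `Q₈` by `Fin 8`. -/
def enc : Q8 → Fin 8
  | .a i => ⟨i.val % 4, by omega⟩
  | .xa i => ⟨4 + i.val % 4, by omega⟩

def dec : Fin 8 → Q8 := ![.a 0, .a 1, .a 2, .a 3, .xa 0, .xa 1, .xa 2, .xa 3]

def imgA : Fin 24 → Fin 8 := ![1, 1, 1, 1, 3, 3, 3, 3, 4, 4, 4, 4, 5, 5, 5, 5, 6, 6, 6, 6, 7, 7, 7, 7]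
def imgX : Fin 24 → Fin 8 := ![4, 5, 6, 7, 4, 5, 6, 7, 1, 3, 5, 7, 1, 3, 4, 6, 1, 3, 5, 7, 1, 3, 4, 6]
def invIdx : Fin 24 → Fin 24 := ![0, 3, 2, 1, 4, 5, 6, 7, 8, 16, 12, 20, 10, 19, 22, 15, 9, 17, 21, 13, 11, 18, 14, 23]
def tab : Fin 24 → Fin 8 → Fin 8 := ![![0,1,2,3,4,5,6,7], ![0,1,2,3,5,6,7,4], ![0,1,2,3,6,7,4,5], ![0,1,2,3,7,4,5,6], ![0,3,2,1,4,7,6,5], ![0,3,2,1,5,4,7,6], ![0,3,2,1,6,5,4,7], ![0,3,2,1,7,6,5,4], ![0,4,2,6,1,7,3,5], ![0,4,2,6,3,5,1,7], ![0,4,2,6,5,1,7,3], ![0,4,2,6,7,3,5,1], ![0,5,2,7,1,4,3,6], ![0,5,2,7,3,6,1,4], ![0,5,2,7,4,3,6,1], ![0,5,2,7,6,1,4,3], ![0,6,2,4,1,5,3,7], ![0,6,2,4,3,7,1,5], ![0,6,2,4,5,3,7,1], ![0,6,2,4,7,1,5,3], ![0,7,2,5,1,6,3,4], ![0,7,2,5,3,4,1,6], ![0,7,2,5,4,1,6,3], ![0,7,2,5,6,3,4,1]]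
def comp : Fin 24 → Fin 24 → Fin 24 := ![![0,1,2,3,4,5,6,7,8,9,10,11,12,13,14,15,16,17,18,19,20,21,22,23], ![1,2,3,0,5,6,7,4,12,13,15,14,16,17,18,19,20,21,23,22,8,9,10,11], ![2,3,0,1,6,7,4,5,16,17,19,18,20,21,23,22,8,9,11,10,12,13,15,14], ![3,0,1,2,7,4,5,6,20,21,22,23,8,9,11,10,12,13,14,15,16,17,19,18], ![4,7,6,5,0,3,2,1,9,8,11,10,21,20,22,23,17,16,19,18,13,12,14,15], ![5,4,7,6,1,0,3,2,13,12,14,15,9,8,10,11,21,20,22,23,17,16,18,19], ![6,5,4,7,2,1,0,3,17,16,18,19,13,12,15,14,9,8,10,11,21,20,23,22], ![7,6,5,4,3,2,1,0,21,20,23,22,17,16,19,18,13,12,15,14,9,8,11,10], ![8,11,9,10,16,19,17,18,0,2,3,1,22,23,20,21,4,6,7,5,14,15,12,13], ![9,10,8,11,17,18,16,19,4,6,5,7,14,15,13,12,0,2,1,3,22,23,21,20], ![10,8,11,9,18,16,19,17,14,15,12,13,0,2,1,3,22,23,20,21,4,6,5,7], ![11,9,10,8,19,17,18,16,22,23,21,20,4,6,7,5,14,15,13,12,0,2,3,1], ![12,14,13,15,20,22,21,23,1,3,0,2,10,11,8,9,5,7,4,6,18,19,16,17],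 ![13,15,12,14,21,23,20,22,5,7,6,4,18,19,17,16,1,3,2,0,10,11,9,8], ![14,13,15,12,22,21,23,20,10,11,9,8,5,7,4,6,18,19,17,16,1,3,0,2], ![15,12,14,13,23,20,22,21,18,19,16,17,1,3,2,0,10,11,8,9,5,7,6,4], ![16,18,17,19,8,10,9,11,2,0,1,3,15,14,12,13,6,4,5,7,23,22,20,21], ![17,19,16,18,9,11,8,10,6,4,7,5,23,22,21,20,2,0,3,1,15,14,13,12], ![18,17,19,16,10,9,11,8,15,14,13,12,6,4,5,7,23,22,21,20,2,0,1,3], ![19,16,18,17,11,8,10,9,23,22,20,21,2,0,3,1,15,14,12,13,6,4,7,5], ![20,23,21,22,12,15,13,14,3,1,2,0,19,18,16,17,7,5,6,4,11,10,8,9], ![21,22,20,23,13,14,12,15,7,5,4,6,11,10,9,8,3,1,0,2,19,18,17,16], ![22,20,23,21,14,12,15,13,11,10,8,9,3,1,0,2,19,18,16,17,7,5,4,6], ![23,21,22,20,15,13,14,12,19,18,17,16,7,5,6,4,11,10,9,8,3,1,2,0]]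
def pf : Fin 24 → Fin 4 → Fin 4 := ![![0,1,2,3], ![2,0,3,1], ![3,2,1,0], ![1,3,0,2], ![2,3,0,1], ![3,1,2,0], ![1,0,3,2], ![0,2,1,3], ![1,0,2,3], ![3,2,0,1], ![0,3,1,2], ![2,1,3,0], ![0,2,3,1], ![1,3,2,0], ![3,0,1,2], ![2,1,0,3], ![2,3,1,0], ![0,1,3,2], ![1,2,0,3], ![3,0,2,1], ![3,1,0,2], ![2,0,1,3], ![1,2,3,0], ![0,3,2,1]]
def pfi : Fin 24 → Fin 4 → Fin 4 := ![![0,1,2,3], ![1,3,0,2], ![3,2,1,0], ![2,0,3,1], ![2,3,0,1], ![3,1,2,0], ![1,0,3,2], ![0,2,1,3], ![1,0,2,3], ![2,3,1,0], ![0,2,3,1], ![3,1,0,2], ![0,3,1,2], ![3,0,2,1], ![1,2,3,0], ![2,1,0,3], ![3,2,0,1], ![0,1,3,2], ![2,0,1,3], ![1,3,2,0], ![2,1,3,0], ![1,2,0,3], ![3,0,1,2], ![0,3,2,1]]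

theorem dec_enc : ∀ q : Q8, dec (enc q) = q := by decide +kernel
theorem enc_dec : ∀ u : Fin 8, enc (dec u) = u := by decide +kernel

/-- The automorphism with index `k`, as a function. -/
def F (k : Fin 24) (q : Q8) : Q8 := dec (tab k (enc q))

theorem F_mul : ∀ k : Fin 24, ∀ q r : Q8, F k (q * r) = F k q * F k r := by decide +kernel
theorem F_inv : ∀ k : Fin 24, ∀ q : Q8, F (invIdx k) (F k q) = q ∧ F k (F (invIdx k) q) = q := by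
  decide +kernel
theorem F_comp : ∀ k l : Fin 24, ∀ q : Q8, F k (F l q) = F (comp k l) q := by decide +kernel
theorem F_det : ∀ k l : Fin 24, F k (.a 1) = F l (.a 1) → F k (.xa 0) = F l (.xa 0) → k = l := by
  decide +kernel
theorem pairs : ∀ x y : Q8, x ^ 2 ≠ 1 → y ≠ x → y ≠ x⁻¹ → y ^ 2 ≠ 1 →
    ∃ k : Fin 24, x = F k (.a 1) ∧ y = F k (.xa 0) := by decide +kernel
theorem gen_form : ∀ q : Q8, ∃ i : Fin 4, ∃ e : Fin 2,
    q = (.xa 0 : Q8) ^ (e : ℕ) * (.a 1 : Q8) ^ (i : ℕ) := by decide +kernel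
theorem pf_inv : ∀ k : Fin 24, ∀ c : Fin 4, pfi k (pf k c) = c ∧ pf k (pfi k c) = c := by decide +kernel
theorem pf_comp : ∀ k l : Fin 24, ∀ c : Fin 4, pf k (pf l c) = pf (comp k l) c := by decide +kernel
theorem pf_inj : ∀ k l : Fin 24, (∀ c : Fin 4, pf k c = pf l c) → k = l := by decide +kernel
theorem basic : (QuaternionGroup.a 1 : Q8) ^ 2 ≠ 1 ∧ (QuaternionGroup.xa 0 : Q8) ^ 2 ≠ 1 ∧
    (QuaternionGroup.xa 0 : Q8) ≠ .a 1 ∧ (QuaternionGroup.xa 0 : Q8) ≠ (.a 1 : Q8)⁻¹ := by decide +kernel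

/-- The automorphism with index `k`. -/
def autOf (k : Fin 24) : MulAut Q8 where
  toFun := F k
  invFun := F (invIdx k)
  left_inv q := (F_inv k q).1
  right_inv q := (F_inv k q).2
  map_mul' := F_mul k

theorem autOf_bijective : Function.Bijective autOf := by
  refine ⟨fun k l h => F_det k l (DFunLike.congr_fun h _) (DFunLike.congr_fun h _), fun f => ?_⟩
  obtain ⟨b1, b2, b3, b4⟩ := basic
  have hsq : ∀ q : Q8, q ^ 2 ≠ 1 → f q ^ 2 ≠ 1 := fun q hq h => hq (f.injective (by rw [map_pow, h, map_one]))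
  obtain ⟨k, hx, hy⟩ := pairs (f (.a 1)) (f (.xa 0)) (hsq _ b1) (fun h => b3 (f.injective h))
    (fun h => b4 (f.injective (by rw [h, map_inv]))) (hsq _ b2)
  refine ⟨k, MulEquiv.ext fun q => ?_⟩
  obtain ⟨i, e, rfl⟩ := gen_form q
  rw [map_mul, map_mul, map_pow, map_pow, map_pow, map_pow]
  rw [show autOf k (.a 1) = F k (.a 1) from rfl, show autOf k (.xa 0) = F k (.xa 0) from rfl, hx, hy]

/-- The permutation with index `k`. -/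
def permOf (k : Fin 24) : Equiv.Perm (Fin 4) where
  toFun := pf k
  invFun := pfi k
  left_inv c := (pf_inv k c).1
  right_inv c := (pf_inv k c).2

/-- The automorphism group of the quaternion group of order 8 is isomorphic to the symmetric group of degree 4. -/
theorem result : Nonempty (MulAut (QuaternionGroup 2) ≃* Equiv.Perm (Fin 4)) := by
  classical
  let e := Equiv.ofBijective autOf autOf_bijective
  have hp : Function.Bijective permOf := by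
    refine (Fintype.bijective_iff_injective_and_card _).mpr ⟨fun k l h => pf_inj k l fun c => DFunLike.congr_fun h c, ?_⟩
    simp [Fintype.card_perm, Nat.factorial]
  let d := Equiv.ofBijective permOf hp
  refine ⟨{ (e.symm.trans d) with map_mul' := fun f g => ?_ }⟩
  obtain ⟨k, rfl⟩ := e.surjective f
  obtain ⟨l, rfl⟩ := e.surjective g
  have h : e k * e l = e (comp k l) := MulEquiv.ext fun q => F_comp k l q
  show d (e.symm (e k * e l)) = d (e.symm (e k)) * d (e.symm (e l))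
  rw [h, Equiv.symm_apply_apply, Equiv.symm_apply_apply, Equiv.symm_apply_apply]
  exact Equiv.ext fun c => (pf_comp k l c).symm

end Cfsg.Agent.S3742
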