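import Cfsg.Statements.S3746
import Cfsg.Agent.Lib.Components.Layer
import Cfsg.Agent.Lib.Components.Quasisimple
import Cfsg.Agent.Lib.Components.Subnormal

set_option autoImplicit false
open Cfsg
open scoped commutatorElement

namespace Cfsg.Agent.S3746

/-- Let Z ≤ Z(G) be a central subgroup of a finite group G and E a subgroup of G containing Z whose image E/Z is a component of G/Z (subnormal and quasisimple). Then the derived subgroup [E, E] is a component of G. -/
theorem result {G : Type*} [Group G] [Finite G] (Z : Subgroup G) (hZ : Z ≤ Subgroup.center G) [Z.Normal] (E : Subgroup G) (hZE : Z ≤ E) (hE : Cfsg.IsComponent (E.map (QuotientGroup.mk' Z))) : Cfsg.IsComponent ⁅E, E⁆ := by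
  set π := QuotientGroup.mk' Z with hπ
  set E₁ := ⁅E, E⁆ with hE₁
  have hmap : E₁.map π = E.map π := by
    rw [hE₁, Subgroup.map_commutator]
    exact Components.isComponent_commutator_eq_self hE
  have hcent : ∀ z ∈ Z, ∀ g : G, g * z = z * g := fun z hz g => Subgroup.mem_center_iff.mp (hZ hz) g
  -- `E = E₁ Z`
  have hdec : ∀ x ∈ E, ∃ e ∈ E₁, ∃ z ∈ Z, x = e * z := by
    intro x hx
    obtain ⟨e, he, hex⟩ := hmap.ge (Subgroup.mem_map_of_mem π hx)
    exact ⟨e, he, e⁻¹ * x, QuotientGroup.eq.mp hex, (mul_inv_cancel_left e x).symm⟩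
  have hperf : ⁅E₁, E₁⁆ = E₁ := by
    refine le_antisymm (Subgroup.commutator_le_self _) ?_
    conv_lhs => rw [hE₁]
    rw [Subgroup.commutator_le]
    intro a ha b hb
    obtain ⟨e, he, z, hz, rfl⟩ := hdec a ha
    obtain ⟨e', he', z', hz', rfl⟩ := hdec b hb
    have hc : ⁅e * z, e' * z'⁆ = ⁅e, e'⁆ := by
      have e1 := Subgroup.mem_center_iff.mp (hZ hz)
      have e2 := Subgroup.mem_center_iff.mp (hZ hz')
      rw [commutatorElement_def, commutatorElement_def, mul_inv_rev, mul_inv_rev]
      calc e * z * (e' * z') * (z⁻¹ * e⁻¹) * (z'⁻¹ * e'⁻¹)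
          = e * z * e' * (z' * z⁻¹) * e⁻¹ * z'⁻¹ * e'⁻¹ := by group
        _ = e * (z * e') * z⁻¹ * (z' * e⁻¹) * z'⁻¹ * e'⁻¹ := by
            rw [show z' * z⁻¹ = z⁻¹ * z' from (e2 _).symm]; group
        _ = _ := by rw [← e1 e', ← e2 e⁻¹]; group
    rw [hc]
    exact Subgroup.commutator_mem_commutator he he'
  refine ⟨?_, ?_⟩
  · refine Components.isSubnormal_of_normal_in (Subgroup.commutator_le_self E) ?_
      (Subgroup.normalizer_commutator_ge_left E E)
    have := hE.1.comap π
    rwa [Subgroup.comap_map_eq, hπ, QuotientGroup.ker_mk', sup_eq_left.mpr hZE] at this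
  set f := π.comp E₁.subtype with hf
  have hrange : f.range = E.map π := by
    rw [hf, MonoidHom.range_comp, Subgroup.range_subtype, hmap]
  have hqs : Cfsg.IsQuasisimple f.range := by rw [hrange]; exact hE.2
  have hker : ∀ k : E₁, f k = 1 → ∀ g : E₁, g * k = k * g := fun k hk g =>
    Subtype.ext (hcent _ ((QuotientGroup.eq_one_iff (k : G)).mp hk) g)
  haveI := Components.qs_nontrivial hqs
  haveI : Nontrivial E₁ := f.rangeRestrict_surjective.nontrivial
  have hcomm : commutator E₁ = ⊤ := (Subgroup.isPerfect_iff.mpr hperf).commutator_eq_top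
  refine Components.isQuasisimple_of_normal_cases hcomm fun N hN => ?_
  haveI := hN
  haveI : (N.map f.rangeRestrict).Normal :=
    Subgroup.Normal.map hN _ f.rangeRestrict_surjective
  rcases Components.qs_normal_cases hqs (N.map f.rangeRestrict) with h | h
  · left
    rw [eq_top_iff, ← hcomm, commutator_def, Subgroup.commutator_le]
    intro a _ b _
    obtain ⟨n, hn, hna⟩ := h.ge (Subgroup.mem_top (f.rangeRestrict a))
    have hk : f (n⁻¹ * a) = 1 := by
      rw [map_mul, map_inv, show f n = f a from congrArg Subtype.val hna, inv_mul_cancel]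
    rw [← mul_inv_cancel_left n a]
    have hcb : ⁅n * (n⁻¹ * a), b⁆ = ⁅n, b⁆ := by
      rw [commutatorElement_def, commutatorElement_def, mul_inv_rev, mul_assoc n (n⁻¹ * a) b,
        ← hker _ hk b]
      group
    rw [hcb, commutatorElement_def, mul_assoc n b, mul_assoc n]
    exact N.mul_mem hn (hN.conj_mem _ (inv_mem hn) b)
  · right
    have h2 : ⁅⁅N, (⊤ : Subgroup E₁)⁆, (⊤ : Subgroup E₁)⁆ = ⊥ := by
      rw [Subgroup.commutator_eq_bot_iff_le_centralizer, Subgroup.commutator_le]
      intro n hn g _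
      rw [Subgroup.mem_centralizer_iff]
      refine fun x _ => hker _ ?_ x
      rw [map_commutatorElement, commutatorElement_eq_one_iff_mul_comm]
      have := Subgroup.mem_center_iff.mp (h (Subgroup.mem_map_of_mem f.rangeRestrict hn))
        (f.rangeRestrict g)
      exact (congrArg Subtype.val this).symm
    have h3 := Subgroup.commutator_commutator_eq_bot_of_rotate (H₁ := ⊤) (H₂ := ⊤) (H₃ := N)
      (by rwa [Subgroup.commutator_comm (⊤ : Subgroup E₁) N]) h2
    rw [← commutator_def, hcomm, Subgroup.commutator_eq_bot_iff_le_centralizer] at h3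
    exact fun n hn => Subgroup.mem_center_iff.mpr fun g =>
      (Subgroup.mem_centralizer_iff.mp (h3 (Subgroup.mem_top g)) n hn).symm

end Cfsg.Agent.S3746
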