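import Cfsg.Statements.S3747
import Cfsg.Agent.Lib.Components.Layer
import Cfsg.Agent.Lib.Components.FStar
import Cfsg.Agent.Lib.Components.FStar2
import Cfsg.Agent.Lib.Basics.Tools

set_option autoImplicit false
open Cfsg
open scoped commutatorElement

namespace Cfsg.Agent.S3747

theorem nilpotent_of_comm {A : Type*} [Group A] (h : ∀ a b : A, a * b = b * a) : Group.IsNilpotent A := by
  letI : CommGroup A := { ‹Group A› with mul_comm := h }
  infer_instance

theorem centerless_sSup {G : Type*} [Group G] [Finite G] (S : Finset (Subgroup G))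
    (hS : ∀ L ∈ S, Cfsg.IsComponent L ∧ L ⊓ Subgroup.centralizer (L : Set G) = ⊥) :
    sSup (S : Set (Subgroup G)) ⊓ Subgroup.centralizer ((sSup (S : Set (Subgroup G)) : Subgroup G) : Set G) = ⊥ := by
  classical
  induction S using Finset.induction with
  | empty => simp
  | @insert L S hLS ih =>
    obtain ⟨hL, hLc⟩ := hS L (Finset.mem_insert_self _ _)
    have ih' := ih fun M hM => hS M (Finset.mem_insert_of_mem hM)
    rw [Finset.coe_insert, sSup_insert]
    set R := sSup (S : Set (Subgroup G)) with hR
    have hRL : R ≤ Subgroup.centralizer (L : Set G) := sSup_le fun M hM => by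
      rw [← Subgroup.commutator_eq_bot_iff_le_centralizer, Subgroup.commutator_comm]
      exact (Components.component_eq_or_commute hL (hS M (Finset.mem_insert_of_mem hM)).1).resolve_left
        (fun h => hLS (h ▸ hM))
    refine le_bot_iff.mp ?_
    rintro x ⟨hx, hxc⟩
    obtain ⟨k, hk, r, hr, rfl⟩ := (Basics.mem_sup_of_le_normalizer
      ((Subgroup.le_centralizer_iff.mp (Subgroup.le_centralizer_iff.mp hRL)).trans
        (Subgroup.centralizer_le_normalizer _))).mp hx
    have hkc : k ∈ Subgroup.centralizer (L : Set G) := by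
      have := mul_mem (Subgroup.centralizer_le (le_sup_left : L ≤ L ⊔ R) hxc) (inv_mem (hRL hr))
      rwa [mul_inv_cancel_right] at this
    have hk1 : k = 1 := Subgroup.mem_bot.mp (hLc ▸ ⟨hk, hkc⟩)
    subst hk1
    rw [one_mul] at hxc ⊢
    exact ih' ▸ ⟨hr, Subgroup.centralizer_le (le_sup_right : R ≤ L ⊔ R) hxc⟩

/-- Let G be a finite group. (a) If K is a component of G with trivial centre, then the normal closure of K in G is a minimal normal subgroup of G. (b) If the Fitting subgroup of G is trivial, then the layer E(G) is generated by the minimal normal subgroups of G. -/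
theorem result {G : Type*} [Group G] [Finite G] : (∀ K : Subgroup G, Cfsg.IsComponent K → Subgroup.center ↥K = ⊥ → (Subgroup.normalClosure (K : Set G) ≠ ⊥ ∧ ∀ N : Subgroup G, N.Normal → N ≤ Subgroup.normalClosure (K : Set G) → N = ⊥ ∨ N = Subgroup.normalClosure (K : Set G))) ∧ (Cfsg.fittingSubgroup G = ⊥ → sSup {N : Subgroup G | N ≠ ⊥ ∧ N.Normal ∧ ∀ N' : Subgroup G, N'.Normal → N' ≤ N → N' = ⊥ ∨ N' = N} = Cfsg.layer G) := by
  classical
  have hmain : ∀ K : Subgroup G, Cfsg.IsComponent K → Subgroup.center ↥K = ⊥ →
      (Subgroup.normalClosure (K : Set G) ≠ ⊥ ∧ ∀ N : Subgroup G, N.Normal →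
        N ≤ Subgroup.normalClosure (K : Set G) →
          N = ⊥ ∨ N = Subgroup.normalClosure (K : Set G)) := by
    intro K hK hc
    refine ⟨fun h => Components.isComponent_ne_bot hK (le_bot_iff.mp (h ▸ Subgroup.le_normalClosure)),
      fun N hN hle => ?_⟩
    haveI := hN
    rcases Components.component_le_or_commute hK (Components.isSubnormal_of_normal N) with h | h
    · exact Or.inr (le_antisymm hle (Subgroup.normalClosure_le_normal h))
    refine Or.inl (le_bot_iff.mp ?_)
    haveI := Fintype.ofFinite G
    let S : Finset (Subgroup G) := Finset.univ.image fun g : G => K.map (MulAut.conj g).toMonoidHom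
    have hS : ∀ L ∈ S, Cfsg.IsComponent L ∧ L ⊓ Subgroup.centralizer (L : Set G) = ⊥ := by
      intro L hL
      obtain ⟨g, -, rfl⟩ := Finset.mem_image.mp hL
      refine ⟨Components.isComponent_conj g hK, le_bot_iff.mp ?_⟩
      rintro _ ⟨⟨k, hk, rfl⟩, hk2⟩
      have hkc : (⟨k, hk⟩ : ↥K) ∈ Subgroup.center ↥K := Subgroup.mem_center_iff.mpr fun y => Subtype.ext
        ((MulAut.conj g).injective (by
          have := Subgroup.mem_centralizer_iff.mp hk2 _ ⟨(y : G), y.2, rfl⟩
          simpa [map_mul] using this))
      rw [hc, Subgroup.mem_bot] at hkc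
      simp [show k = 1 from congrArg Subtype.val hkc]
    have hNC : N ≤ Subgroup.centralizer ((sSup (S : Set (Subgroup G)) : Subgroup G) : Set G) := by
      rw [Subgroup.le_centralizer_iff, sSup_le_iff]
      intro L hL
      obtain ⟨g, -, rfl⟩ := Finset.mem_image.mp hL
      rw [← Subgroup.commutator_eq_bot_iff_le_centralizer]
      have := congrArg (Subgroup.map (MulAut.conj g).toMonoidHom) h
      rw [Subgroup.map_commutator, Subgroup.map_bot] at this
      rwa [show N.map (MulAut.conj g).toMonoidHom = N from Subgroup.Normal.map_conj_eq (H := N) g] at this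
    have hcl : Subgroup.normalClosure (K : Set G) ≤ sSup (S : Set (Subgroup G)) := by
      refine (Subgroup.closure_le _).mpr ?_
      intro x hx
      obtain ⟨k, hk, hkx⟩ := Group.mem_conjugatesOfSet_iff.mp hx
      obtain ⟨g, rfl⟩ := isConj_iff.mp hkx
      exact le_sSup (α := Subgroup G) (Finset.mem_coe.mpr (Finset.mem_image_of_mem _ (Finset.mem_univ g))) ⟨k, hk, rfl⟩
    exact (le_inf (hle.trans hcl) hNC).trans (centerless_sSup S hS).le
  refine ⟨hmain, fun hF => ?_⟩
  have hcz : ∀ K : Subgroup G, Cfsg.IsComponent K → Subgroup.center ↥K = ⊥ := fun K hK => by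
    have h1 : ((Subgroup.center ↥K).map K.subtype).IsSubnormal :=
      (Components.isSubnormal_of_normal _).trans' hK.1
    have h2 : Group.IsNilpotent ↥((Subgroup.center ↥K).map K.subtype) :=
      Components.map_nilpotent (nilpotent_of_comm fun x y => (Subgroup.mem_center_iff.mp y.2 (x : ↥K)) |> Subtype.ext) K.subtype
    have h3 := Components.nilpotent_subnormal_le_fitting h1 h2
    rw [hF, le_bot_iff, Subgroup.map_eq_bot_iff_of_injective _ K.subtype_injective] at h3
    exact h3
  apply le_antisymm
  · refine sSup_le fun N hN => ?_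
    obtain ⟨hne, hn, hmin⟩ := hN
    rcases eq_or_ne (⁅N, N⁆) N with hperf | hperf
    · obtain ⟨T, hT, hTmin⟩ := Set.Finite.exists_minimal (Set.toFinite {T : Subgroup G | T ≤ N ∧ T ≠ ⊥ ∧ T.IsSubnormal})
        ⟨N, le_rfl, hne, Components.isSubnormal_of_normal N⟩
      obtain ⟨hTN, hT1, hTs⟩ := hT
      have hder : (⁅T, T⁆).IsSubnormal ∧ ⁅T, T⁆ ≤ T := by
        have : ((commutator ↥T).map T.subtype).IsSubnormal := (Components.isSubnormal_of_normal _).trans' hTs
        rw [Subgroup.map_subtype_commutator] at this
        exact ⟨this, Subgroup.commutator_le_self _⟩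
      have hTcomp : Cfsg.IsComponent T := by
        rcases eq_or_ne (⁅T, T⁆) ⊥ with hb | hb
        · exfalso
          have hab : IsMulCommutative ↥T :=
            Subgroup.le_centralizer_iff_isMulCommutative.mp (Subgroup.commutator_eq_bot_iff_le_centralizer.mp hb)
          have := Components.nilpotent_subnormal_le_fitting hTs (nilpotent_of_comm hab.is_comm.comm)
          exact hT1 (le_bot_iff.mp (hF ▸ this))
        · refine Components.isComponent_of_minimal hTs hT1
            (le_antisymm hder.2 (hTmin ⟨hder.2.trans hTN, hb, hder.1⟩ hder.2)) fun U hU hUs hUne => ?_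
          rcases eq_or_ne U ⊥ with rfl | hU1
          · exact bot_le
          · exact absurd (le_antisymm hU (hTmin ⟨hU.trans hTN, hU1, hUs⟩ hU)) hUne
      have hnc : Subgroup.normalClosure (T : Set G) = N := by
        haveI := hn
        exact (hmin _ Subgroup.normalClosure_normal (Subgroup.normalClosure_le_normal hTN)).resolve_left
          (hmain T hTcomp (hcz T hTcomp)).1
      rw [← hnc]
      exact Subgroup.normalClosure_le_normal (Components.component_le_layer hTcomp)
    · exfalso
      haveI := hn
      have hle := Subgroup.commutator_le_self N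
      have hb := (hmin _ inferInstance hle).resolve_right hperf
      have hab : IsMulCommutative ↥N :=
        Subgroup.le_centralizer_iff_isMulCommutative.mp (Subgroup.commutator_eq_bot_iff_le_centralizer.mp hb)
      exact hne (le_bot_iff.mp (hF ▸ Components.le_fitting hn (nilpotent_of_comm hab.is_comm.comm)))
  · rw [Components.layer_le_iff]
    intro K hK
    obtain ⟨h1, h2⟩ := hmain K hK (hcz K hK)
    exact le_trans Subgroup.le_normalClosure
      (le_sSup (⟨h1, Subgroup.normalClosure_normal, fun N' hn hle => h2 N' hn hle⟩ :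
        Subgroup.normalClosure (K : Set G) ∈ {N : Subgroup G | N ≠ ⊥ ∧ N.Normal ∧
          ∀ N' : Subgroup G, N'.Normal → N' ≤ N → N' = ⊥ ∨ N' = N}))

end Cfsg.Agent.S3747
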