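import Cfsg.Statements.S3748
import Mathlib
import Cfsg.Agent.Lib.Components.Layer
import Cfsg.Agent.Lib.Components.FStar
import Cfsg.Agent.Lib.Components.FStar2

set_option autoImplicit false
open Cfsg
open scoped commutatorElement

namespace Cfsg.Agent.S3748

theorem le_normalizer_inf {G : Type*} [Group G] (M F : Subgroup G) [F.Normal] :
    M ≤ Subgroup.normalizer ((M ⊓ F : Subgroup G) : Set G) := by
  intro m hm
  refine Subgroup.mem_normalizer_iff.mpr fun y => ?_
  simp only [Subgroup.mem_inf]
  refine ⟨fun hy => ⟨mul_mem (mul_mem hm hy.1) (inv_mem hm), Subgroup.Normal.conj_mem inferInstance y hy.2 m⟩, fun hy => ⟨?_, ?_⟩⟩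
  · simpa [mul_assoc] using mul_mem (mul_mem (inv_mem hm) hy.1) hm
  · simpa [mul_assoc] using Subgroup.Normal.conj_mem (inferInstance : F.Normal) _ hy.2 m⁻¹

/-- Call a proper subgroup M of G primitive when M = N_G(N) for every non-trivial normal subgroup N of M. If M is a primitive subgroup of the finite group G, then no non-trivial subnormal subgroup of G is contained in M; in particular M ∩ F(G) = 1. -/
theorem result {G : Type*} [Group G] [Finite G] (M : Subgroup G) (hM : M ≠ ⊤) (hprim : ∀ N : Subgroup G, N ≤ M → M ≤ Subgroup.normalizer (N : Set G) → N ≠ ⊥ → Subgroup.normalizer (N : Set G) = M) : (∀ L : Subgroup G, L.IsSubnormal → L ≤ M → L = ⊥) ∧ M ⊓ Cfsg.fittingSubgroup G = ⊥ := by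
  classical
  set F := Cfsg.fittingSubgroup G with hF
  have hfit : M ⊓ F = ⊥ := by
    by_contra hne
    have hnM : M ≤ Subgroup.normalizer ((M ⊓ F : Subgroup G) : Set G) :=
      le_normalizer_inf M F
    have hN := hprim _ inf_le_left hnM hne
    have hFM : F ≤ M := by
      by_contra hle
      haveI := Components.fitting_isNilpotent (G := G)
      have hne' : (M ⊓ F).subgroupOf F ≠ ⊤ := fun h => hle ((Subgroup.subgroupOf_eq_top.mp h).trans inf_le_left)
      obtain ⟨v, hv, hvM⟩ := SetLike.exists_of_lt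
        (Group.normalizerCondition_of_isNilpotent ((M ⊓ F).subgroupOf F) (lt_top_iff_ne_top.mpr hne'))
      rw [← Subgroup.subgroupOf_normalizer_eq inf_le_right, hN] at hv
      exact hvM (Subgroup.mem_subgroupOf.mpr ⟨hv, v.2⟩)
    apply hM
    rw [← hN, inf_eq_right.mpr hFM]
    exact Subgroup.normalizer_eq_top_iff.mpr Components.fitting_normal
  refine ⟨fun L hL hLM => ?_, hfit⟩
  by_contra hL1
  obtain ⟨T, ⟨hTL, hT1, hTs⟩, hTmin⟩ := Set.Finite.exists_minimal
    (Set.toFinite {T : Subgroup G | T ≤ L ∧ T ≠ ⊥ ∧ T.IsSubnormal}) ⟨L, le_rfl, hL1, hL⟩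
  have hder : (⁅T, T⁆).IsSubnormal := by
    have : ((_root_.commutator ↥T).map T.subtype).IsSubnormal :=
      (Components.isSubnormal_of_normal _).trans' hTs
    rwa [Subgroup.map_subtype_commutator] at this
  rcases eq_or_ne (⁅T, T⁆) ⊥ with hb | hb
  · have hab : IsMulCommutative ↥T :=
      Subgroup.le_centralizer_iff_isMulCommutative.mp (Subgroup.commutator_eq_bot_iff_le_centralizer.mp hb)
    have hnil : Group.IsNilpotent ↥T := by
      letI : CommGroup ↥T := { (inferInstance : Group ↥T) with mul_comm := hab.is_comm.comm }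
      infer_instance
    exact hT1 (le_bot_iff.mp (hfit ▸ le_inf (hTL.trans hLM) (Components.nilpotent_subnormal_le_fitting hTs hnil)))
  · have hle : ⁅T, T⁆ ≤ T := Subgroup.commutator_le_self T
    have hT : Cfsg.IsComponent T := Components.isComponent_of_minimal hTs hT1
      (le_antisymm hle (hTmin ⟨hle.trans hTL, hb, hder⟩ hle)) fun U hU hUs hUne => by
        rcases eq_or_ne U ⊥ with rfl | hU1
        · exact bot_le
        · exact absurd (le_antisymm hU (hTmin ⟨hU.trans hTL, hU1, hUs⟩ hU)) hUne
    set S : Set (Subgroup G) := {K | Cfsg.IsComponent K ∧ K ≤ M} with hS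
    have hSM : sSup S ≤ M := sSup_le fun K hK => hK.2
    have hne : sSup S ≠ ⊥ := fun h => hT1 (le_bot_iff.mp (h ▸ le_sSup (⟨hT, hTL.trans hLM⟩ : T ∈ S)))
    have hnorm : M ≤ Subgroup.normalizer ((sSup S : Subgroup G) : Set G) := by
      intro m hm
      have key : ∀ c ∈ M, (sSup S).map (MulAut.conj c).toMonoidHom ≤ sSup S := by
        intro c hc
        rw [sSup_eq_iSup, Subgroup.map_iSup]
        refine iSup_le fun K => ?_
        rw [Subgroup.map_iSup]
        refine iSup_le fun hK => ?_
        refine le_iSup₂_of_le (K.map (MulAut.conj c).toMonoidHom) ⟨Components.isComponent_conj c hK.1, ?_⟩ le_rfl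
        rintro _ ⟨k, hk, rfl⟩
        exact mul_mem (mul_mem hc (hK.2 hk)) (inv_mem hc)
      refine Subgroup.mem_normalizer_iff.mpr fun y => ⟨fun hy => key m hm ⟨y, hy, rfl⟩, fun hy => ?_⟩
      simpa [mul_assoc] using key m⁻¹ (inv_mem hm) ⟨_, hy, rfl⟩
    have hN := hprim _ hSM hnorm hne
    have hEM : Cfsg.layer G ≤ M := by
      rw [← hN]
      intro y hy
      have key : ∀ c ∈ Cfsg.layer G, (sSup S).map (MulAut.conj c).toMonoidHom ≤ sSup S := by
        intro c hc
        rw [sSup_eq_iSup, Subgroup.map_iSup]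
        refine iSup_le fun K => ?_
        rw [Subgroup.map_iSup]
        refine iSup_le fun hK => ?_
        refine le_iSup₂_of_le K hK ?_
        rintro _ ⟨k, hk, rfl⟩
        exact (Subgroup.mem_normalizer_iff.mp (Components.layer_le_normalizer hK.1 hc) k).mp hk
      refine Subgroup.mem_normalizer_iff.mpr fun z => ⟨fun hz => key y hy ⟨z, hz, rfl⟩, fun hz => ?_⟩
      simpa [mul_assoc] using key y⁻¹ (inv_mem hy) ⟨_, hz, rfl⟩
    have hEn : Cfsg.layer G ≠ ⊥ := fun h => hT1 (le_bot_iff.mp (h ▸ Components.component_le_layer hT))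
    have := hprim _ hEM Subgroup.le_normalizer_of_normal hEn
    exact hM (by rw [← this]; exact Subgroup.normalizer_eq_top_iff.mpr inferInstance)

end Cfsg.Agent.S3748
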