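import Cfsg.Statements.S3749
import Cfsg.Agent.Lib.Basics.CoprimeAction
import Cfsg.Agent.Lib.Basics.Cores

set_option autoImplicit false
open Cfsg
open scoped commutatorElement

namespace Cfsg.Agent.S3749

/-- Call a proper subgroup M of G primitive when M = N_G(N) for every non-trivial normal subgroup N of M. Let M be a primitive subgroup of the finite group G, p a prime with O_p(M) ≠ 1, and N a normal subgroup of G with M ∩ N = 1. Then p does not divide the order of N; for every prime q there is exactly one Sylow q-subgroup of N normalized by M; and if the order of N has at least two prime divisors then M is not a maximal subgroup of G. -/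
theorem result {G : Type*} [Group G] [Finite G] (M : Subgroup G) (hM : M ≠ ⊤) (hprim : ∀ N : Subgroup G, N ≤ M → M ≤ Subgroup.normalizer (N : Set G) → N ≠ ⊥ → Subgroup.normalizer (N : Set G) = M) {p : ℕ} [Fact p.Prime] (hOp : Cfsg.pCore p ↥M ≠ ⊥) (N : Subgroup G) [N.Normal] (hMN : M ⊓ N = ⊥) : ¬ p ∣ Nat.card N ∧ (∀ q : ℕ, [Fact q.Prime] → ∃! Q : Sylow q ↥N, M ≤ Subgroup.normalizer ((Q : Subgroup ↥N).map N.subtype : Set G)) ∧ ((∃ q r : ℕ, q.Prime ∧ r.Prime ∧ q ≠ r ∧ q ∣ Nat.card N ∧ r ∣ Nat.card N) → ¬ IsCoatom M) := by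
  have hp : p.Prime := Fact.out
  set R : Subgroup G := (Cfsg.pCore p M).map M.subtype with hR
  have hRM : R ≤ M := Subgroup.map_subtype_le _
  have hMR : M ≤ Subgroup.normalizer (R : Set G) := by
    intro m hm
    refine Subgroup.mem_normalizer_fintype ?_
    rintro _ ⟨y, hy, rfl⟩
    exact ⟨⟨m, hm⟩ * y * ⟨m, hm⟩⁻¹, (Basics.pCore_normal p).conj_mem y hy _, rfl⟩
  have hR0 : R ≠ ⊥ := by
    rw [hR, Ne, Subgroup.map_eq_bot_iff_of_injective _ M.subtype_injective]
    exact hOp
  have hNR : N ⊓ Subgroup.centralizer (R : Set G) = ⊥ := by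
    rw [eq_bot_iff]
    rintro x ⟨hxN, hxC⟩
    have : x ∈ M := hprim R hRM hMR hR0 ▸ Subgroup.centralizer_le_normalizer _ hxC
    exact hMN ▸ Subgroup.mem_inf.mpr ⟨this, hxN⟩
  have hRp : IsPGroup p R := (Basics.pCore_isPGroup p).map M.subtype
  have hpN : ¬ p ∣ Nat.card N := by
    letI : MulAction R N := MulAction.compHom N
      ((MulAut.conjNormal : G →* MulAut N).comp R.subtype)
    have hmod := hRp.card_modEq_card_fixedPoints N
    have h1 : Nat.card (MulAction.fixedPoints R N) = 1 := by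
      rw [Nat.card_eq_one_iff_unique]
      have h : ∀ y : N, y ∈ MulAction.fixedPoints R N → y = 1 := by
        intro y hy
        have : (y : G) ∈ N ⊓ Subgroup.centralizer (R : Set G) := by
          refine Subgroup.mem_inf.mpr ⟨y.2, Subgroup.mem_centralizer_iff.mpr fun r hr => ?_⟩
          have h := congrArg Subtype.val (hy ⟨r, hr⟩)
          change r * (y : G) * r⁻¹ = y at h
          exact mul_inv_eq_iff_eq_mul.mp h
        rw [hNR, Subgroup.mem_bot] at this
        exact Subtype.ext this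
      exact ⟨⟨fun a b => Subtype.ext ((h a a.2).trans (h b b.2).symm)⟩,
        ⟨⟨1, fun g => map_one ((MulAut.conjNormal : G →* MulAut N) (g : G))⟩⟩⟩
    intro hd
    rw [h1] at hmod
    have := hmod.symm.trans (Nat.modEq_zero_iff_dvd.mpr hd)
    exact hp.not_dvd_one (Nat.modEq_zero_iff_dvd.mp this)
  have hnN : ∀ K : Subgroup G, K ≤ Subgroup.normalizer (N : Set G) := fun K => by
    rw [Subgroup.normalizer_eq_top]; exact le_top
  have hcop : (Nat.card R).Coprime (Nat.card N) := by
    obtain ⟨j, hj⟩ := IsPGroup.iff_card.mp hRp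
    rw [hj]
    exact (hp.coprime_iff_not_dvd.mpr hpN).pow_left j
  have hsolv : Group.IsSolvable R := haveI := hRp.isNilpotent; inferInstance
  have huniq : ∀ (q : ℕ) [Fact q.Prime] (S T : Subgroup G), Basics.IsSylowIn q N S →
      Basics.IsSylowIn q N T → R ≤ Subgroup.normalizer (S : Set G) →
      R ≤ Subgroup.normalizer (T : Set G) → S = T := by
    intro q _ S T hS hT hRS hRT
    obtain ⟨c, hc, h⟩ := Basics.invariant_isSylowIn_conj R N (hnN R) hcop (Or.inl hsolv) q hS hT
      hRS hRT
    rw [hNR, Subgroup.mem_bot] at hc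
    rw [← h, hc, Basics.conj_smul_one]
  have hsyl : ∀ (q : ℕ) [Fact q.Prime], ∃ S : Subgroup G, Basics.IsSylowIn q N S ∧
      M ≤ Subgroup.normalizer (S : Set G) := by
    intro q _
    obtain ⟨S, hS, hRS⟩ := Basics.exists_invariant_isSylowIn R N (hnN R) hcop (Or.inl hsolv) q
    refine ⟨S, hS, fun m hm => ?_⟩
    rw [← Basics.conj_smul_eq_self_iff]
    refine huniq q _ S (hS.conj_smul (hnN M hm)) hS (fun r hr => ?_) hRS
    rw [← Basics.conj_smul_eq_self_iff, Basics.conj_smul_conj_smul]
    have hr' : m⁻¹ * r * m ∈ R := by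
      have := (Subgroup.mem_normalizer_iff.mp (inv_mem (hMR hm)) r).mp hr
      rwa [inv_inv] at this
    rw [show r * m = m * (m⁻¹ * r * m) by group, ← Basics.conj_smul_conj_smul,
      Basics.conj_smul_eq_self_iff.mpr (hRS hr')]
  refine ⟨hpN, fun q _ => ?_, ?_⟩
  · obtain ⟨S, hS, hMS⟩ := hsyl q
    obtain ⟨Q, hQ⟩ := hS.exists_sylow
    refine ⟨Q, by show M ≤ _; rw [hQ]; exact hMS, fun Q' hQ' => ?_⟩
    have := huniq q _ _ (Basics.isSylowIn_map Q') hS (hRM.trans hQ') (hRM.trans hMS)
    exact Sylow.ext (Subgroup.map_injective N.subtype_injective (this.trans hQ.symm))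
  · rintro ⟨q, r, hq, hr, hne, hqN, hrN⟩ hmax
    haveI := Fact.mk hq
    obtain ⟨S, hS, hMS⟩ := hsyl q
    have hS0 : S ≠ ⊥ := by
      intro h
      have h1 := hS.2
      rw [h, Subgroup.card_bot] at h1
      have h2 := hq.factorization_pos_of_dvd Nat.card_pos.ne' hqN
      exact (Nat.one_lt_pow h2.ne' hq.one_lt).ne h1
    have hlt : M < S ⊔ M := by
      refine lt_of_le_of_ne le_sup_right fun h => hS0 ?_
      rw [eq_bot_iff, ← hMN]
      exact le_inf (le_sup_left.trans h.ge) hS.1
    have htop := hmax.2 _ hlt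
    have hSM : S ⊓ M = ⊥ := by
      rw [eq_bot_iff, ← hMN]
      exact le_inf inf_le_right (inf_le_left.trans hS.1)
    have h1 := Basics.card_mul_card_eq_card_sup_mul_card_inf (N := S) (H := M) hMS
    rw [htop, hSM, Subgroup.card_bot, mul_one, Subgroup.card_top] at h1
    have h2 := Basics.card_mul_card_eq_card_sup_mul_card_inf (N := N) (H := M) (hnN M)
    rw [show N ⊓ M = ⊥ by rw [inf_comm]; exact hMN, Subgroup.card_bot, mul_one] at h2
    have h3 : Nat.card N * Nat.card M ≤ Nat.card S * Nat.card M := by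
      rw [h1, h2]
      exact Subgroup.card_le_card_group _
    have hSN : S = N := Subgroup.eq_of_le_of_card_ge hS.1 (Nat.le_of_mul_le_mul_right h3 Nat.card_pos)
    have h4 : r ∣ q ^ (Nat.card N).factorization q := by rw [← hS.2, hSN]; exact hrN
    exact hne ((Nat.prime_dvd_prime_iff_eq hr hq).mp (hr.dvd_of_dvd_pow h4)).symm

end Cfsg.Agent.S3749
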