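import Cfsg.Statements.S3750
import Cfsg.Agent.Lib.Components.Layer
import Cfsg.Agent.Lib.Components.FStar
import Cfsg.Agent.Lib.Components.FStar2
import Cfsg.Agent.Lib.Components.Fitting
import Cfsg.Agent.Lib.Basics.Cores
import Cfsg.Agent.Lib.LocalEvenB.FixedOrder

set_option autoImplicit false
open Cfsg

namespace Cfsg.Agent.S3750

/-- Call a proper subgroup M of G primitive when M = N_G(N) for every non-trivial normal subgroup N of M. Let M be a primitive subgroup of the finite group G and N a normal subgroup of G with M ∩ F*(N) ≠ 1. Then F(G) = 1 and F*(N) = F*(G) = E(G); in particular every minimal normal subgroup of G is contained in N. -/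
theorem result {G : Type*} [Group G] [Finite G] (M : Subgroup G) (hM : M ≠ ⊤) (hprim : ∀ N : Subgroup G, N ≤ M → M ≤ Subgroup.normalizer (N : Set G) → N ≠ ⊥ → Subgroup.normalizer (N : Set G) = M) (N : Subgroup G) [N.Normal] (hMF : M ⊓ (Cfsg.generalizedFittingSubgroup ↥N).map N.subtype ≠ ⊥) : Cfsg.fittingSubgroup G = ⊥ ∧ (Cfsg.generalizedFittingSubgroup ↥N).map N.subtype = Cfsg.generalizedFittingSubgroup G ∧ Cfsg.generalizedFittingSubgroup G = Cfsg.layer G ∧ ∀ K : Subgroup G, K.Normal → K ≠ ⊥ → (∀ K' : Subgroup G, K'.Normal → K' ≤ K → K' = ⊥ ∨ K' = K) → K ≤ N := by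
  classical
  obtain ⟨X, hX⟩ : ∃ X, X = (Cfsg.generalizedFittingSubgroup ↥N).map N.subtype := ⟨_, rfl⟩
  rw [← hX] at hMF ⊢
  haveI hchar : (Cfsg.generalizedFittingSubgroup ↥N).Characteristic := by
    refine Subgroup.characteristic_iff_map_eq.mpr fun e => ?_
    rw [Cfsg.generalizedFittingSubgroup, Subgroup.map_sup, Cfsg.Agent.Components.map_layer_equiv,
      Cfsg.Agent.Components.map_fitting_equiv]
  haveI hXn : X.Normal := hX ▸ ConjAct.normal_of_characteristic_of_normal
  have hcore : ∀ K : Subgroup G, K.Normal → K ≤ M → K = ⊥ := by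
    intro K hK hKM
    by_contra hne
    have hnorm : Subgroup.normalizer (K : Set G) = ⊤ := Subgroup.normalizer_eq_top_iff.mpr hK
    exact hM ((hprim K hKM (hnorm ▸ le_top) hne).symm.trans hnorm)
  obtain ⟨A, hA⟩ : ∃ A, A = M ⊓ X := ⟨_, rfl⟩
  have hA1 : A ≠ ⊥ := hA ▸ hMF
  have hnA : Subgroup.normalizer (A : Set G) = M := by
    refine hprim A (hA ▸ inf_le_left) (fun g hg => ?_) hA1
    refine Cfsg.Agent.LocalEvenB.mem_normalizer_of_conj_mem fun a ha => ?_
    rw [hA] at ha ⊢
    exact ⟨M.mul_mem (M.mul_mem hg ha.1) (M.inv_mem hg), hXn.conj_mem a ha.2 g⟩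
  have hCX : Subgroup.centralizer (X : Set G) = ⊥ := by
    refine hcore _ Subgroup.normal_centralizer fun g hg => ?_
    rw [← hnA]
    refine Cfsg.Agent.LocalEvenB.mem_normalizer_of_conj_mem fun a ha => ?_
    have haX : a ∈ X := (hA ▸ ha : a ∈ M ⊓ X).2
    rw [(show g * a = a * g from (Subgroup.mem_centralizer_iff.mp hg a haX).symm), mul_inv_cancel_right]
    exact ha
  -- the Fitting subgroup is trivial
  have hFN : Cfsg.fittingSubgroup ↥N = ⊥ := by
    by_contra hne
    haveI := Cfsg.Agent.Components.fitting_isNilpotent (G := N)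
    obtain ⟨W, hW⟩ : ∃ W, W = ((Subgroup.center ↥(Cfsg.fittingSubgroup ↥N)).map
        (Cfsg.fittingSubgroup ↥N).subtype).map N.subtype := ⟨_, rfl⟩
    haveI : (Cfsg.fittingSubgroup ↥N).Characteristic :=
      Subgroup.characteristic_iff_map_eq.mpr fun e => Cfsg.Agent.Components.map_fitting_equiv e
    haveI hcn : ((Subgroup.center ↥(Cfsg.fittingSubgroup ↥N)).map
        (Cfsg.fittingSubgroup ↥N).subtype).Characteristic := by
      refine Subgroup.characteristic_iff_map_le.mpr fun e => ?_
      rintro _ ⟨_, ⟨z, hz, rfl⟩, rfl⟩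
      have hez : e (z : N) ∈ Cfsg.fittingSubgroup ↥N :=
        (Cfsg.Agent.Components.map_fitting_equiv e).le ⟨(z : N), z.2, rfl⟩
      refine ⟨⟨e (z : N), hez⟩, Subgroup.mem_center_iff.mpr fun y => ?_, rfl⟩
      have hy : e.symm (y : N) ∈ Cfsg.fittingSubgroup ↥N :=
        (Cfsg.Agent.Components.map_fitting_equiv e.symm).le ⟨(y : N), y.2, rfl⟩
      have h := congrArg (fun t : Cfsg.fittingSubgroup ↥N => e (t : N))
        (Subgroup.mem_center_iff.mp hz ⟨_, hy⟩)
      exact Subtype.ext (by simpa using h)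
    haveI hWn : W.Normal := hW ▸ ConjAct.normal_of_characteristic_of_normal
    haveI : Nontrivial ↥(Cfsg.fittingSubgroup ↥N) := (Subgroup.nontrivial_iff_ne_bot _).mpr hne
    have hW1 : W ≠ ⊥ := by
      rw [hW, Ne, Subgroup.map_eq_bot_iff_of_injective _ N.subtype_injective,
        Subgroup.map_eq_bot_iff_of_injective _ (Subgroup.subtype_injective _)]
      exact Group.IsNilpotent.center_ne_bot _
    have hcomm : ∀ w ∈ W, w ∈ Subgroup.centralizer (X : Set G) := by
      intro w hw
      rw [hW] at hw
      obtain ⟨_, ⟨z, hz, rfl⟩, rfl⟩ := hw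
      have hle : Cfsg.generalizedFittingSubgroup ↥N ≤ Subgroup.centralizer ({(z : N)} : Set N) := by
        refine sup_le (fun y hy => ?_) fun y hy => ?_
        · rw [Subgroup.mem_centralizer_singleton_iff]
          haveI : (Cfsg.fittingSubgroup ↥N).Normal := inferInstance
          exact (Subgroup.mem_centralizer_iff.mp (Subgroup.commutator_eq_bot_iff_le_centralizer.mp
            (Cfsg.Agent.Components.layer_commute_normal_solvable (Cfsg.fittingSubgroup ↥N)
              Cfsg.Agent.Components.fitting_isSolvable) hy) _ z.2).symm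
        · rw [Subgroup.mem_centralizer_singleton_iff]
          exact congrArg Subtype.val (Subgroup.mem_center_iff.mp hz ⟨y, hy⟩)
      refine Subgroup.mem_centralizer_iff.mpr fun x hx => ?_
      rw [SetLike.mem_coe, hX] at hx
      obtain ⟨y, hy, rfl⟩ := hx
      exact congrArg Subtype.val (Subgroup.mem_centralizer_singleton_iff.mp (hle hy))
    rw [hCX] at hcomm
    exact hW1 (le_bot_iff.mp hcomm)
  have hF : Cfsg.fittingSubgroup G = ⊥ := by
    haveI := Cfsg.Agent.Components.fitting_isNilpotent (G := G)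
    haveI : (Cfsg.fittingSubgroup G).Normal := Cfsg.Agent.Basics.fittingSubgroup_normal
    haveI hn : ((Cfsg.fittingSubgroup G).subgroupOf N).Normal := inferInstance
    have hle : (Cfsg.fittingSubgroup G).subgroupOf N ≤ Cfsg.fittingSubgroup ↥N :=
      Cfsg.Agent.Components.le_fitting hn
        (Subgroup.isNilpotent_of_ker_le_center
          ((N.subtype.comp ((Cfsg.fittingSubgroup G).subgroupOf N).subtype).codRestrict
            (Cfsg.fittingSubgroup G) fun x => x.2)
          (fun x hx => by
            have : x = 1 := Subtype.ext (Subtype.ext (congrArg Subtype.val hx : _))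
            rw [this]; exact one_mem _))
    rw [hFN, le_bot_iff] at hle
    have hdis : Cfsg.fittingSubgroup G ⊓ N = ⊥ := by
      rw [← Subgroup.subgroupOf_map_subtype, hle, Subgroup.map_bot]
    refine le_bot_iff.mp (hCX ▸ fun f hf => Subgroup.mem_centralizer_iff.mpr fun x hx => ?_)
    have hxN : x ∈ N := by
      rw [SetLike.mem_coe, hX] at hx
      exact Subgroup.map_subtype_le _ hx
    exact (Subgroup.commute_of_normal_of_disjoint (Cfsg.fittingSubgroup G) N inferInstance inferInstance
      (disjoint_iff.mpr hdis) f x hf hxN).symm.eq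
  have hG : Cfsg.generalizedFittingSubgroup G = Cfsg.layer G := by
    rw [Cfsg.generalizedFittingSubgroup, hF, sup_bot_eq]
  refine ⟨hF, le_antisymm ?_ ?_, hG, fun K hK hK1 hmin => ?_⟩
  · rw [hX]
    exact Cfsg.Agent.Components.map_fStar_le_of_subnormal (Subgroup.Normal.isSubnormal inferInstance)
  · rw [hG, Cfsg.Agent.Components.layer_le_iff]
    intro L hL
    rcases Cfsg.Agent.Components.component_le_or_commute hL (Subgroup.Normal.isSubnormal hXn) with h | h
    · exact h
    · exfalso
      rw [Subgroup.commutator_eq_bot_iff_le_centralizer, hCX, le_bot_iff] at h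
      exact Cfsg.Agent.Components.isComponent_ne_bot hL h
  · haveI := hK
    rcases hmin (K ⊓ N) inferInstance inf_le_left with h | h
    · exfalso
      refine hK1 (le_bot_iff.mp (hCX ▸ fun f hf => Subgroup.mem_centralizer_iff.mpr fun x hx => ?_))
      have hxN : x ∈ N := by
        rw [SetLike.mem_coe, hX] at hx
        exact Subgroup.map_subtype_le _ hx
      exact (Subgroup.commute_of_normal_of_disjoint K N inferInstance inferInstance
        (disjoint_iff.mpr h) f x hf hxN).symm.eq
    · exact inf_eq_left.mp h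

end Cfsg.Agent.S3750
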