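import Cfsg.Statements.S3751
import Cfsg.Prelude.Def_Amalgam
import Cfsg.Agent.Lib.LocalEvenA.Core
import Cfsg.Agent.Lib.Basics.Tools
import Cfsg.Agent.Lib.Basics.Cores
import Cfsg.Agent.Lib.LocalEvenB.FixedOrder

set_option autoImplicit false
open Cfsg

namespace Cfsg.Agent.S3751

/-- Two distinct subgroups M₁, M₂ of G form a primitive pair when, for {i, j} = {1, 2}, every non-trivial normal subgroup A of M_i contained in M₁ ∩ M₂ satisfies N_{M_j}(A) = M₁ ∩ M₂; the pair has characteristic p when moreover C_{M_i}(O_p(M_i)) ≤ O_p(M_i) for both i and O_p(M₁)O_p(M₂) ≤ M₁ ∩ M₂. Let G be a finite group, p a prime dividing its order, with O_p(G) = 1 and every p-local subgroup of characteristic p. Then either G has a primitive pair of characteristic p, or every maximal p-local subgroup M of G is strongly p-embedded in G: M is a proper subgroup, p divides its order, and for every g ∉ M the order of M ∩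 gMg⁻¹ is prime to p. -/
theorem result {G : Type*} [Group G] [Finite G] {p : ℕ} [Fact p.Prime] (hloc : Cfsg.IsOfLocalCharacteristic p G) (hOp : Cfsg.pCore p G = ⊥) : (∃ M₁ M₂ : Subgroup G, M₁ ≠ M₂ ∧ (∀ A : Subgroup G, A ≠ ⊥ → A ≤ M₁ ⊓ M₂ → (M₁ ≤ Subgroup.normalizer (A : Set G) → M₂ ⊓ Subgroup.normalizer (A : Set G) = M₁ ⊓ M₂) ∧ (M₂ ≤ Subgroup.normalizer (A : Set G) → M₁ ⊓ Subgroup.normalizer (A : Set G) = M₁ ⊓ M₂)) ∧ Subgroup.centralizer (Cfsg.pCore p ↥M₁ : Set ↥M₁) ≤ Cfsg.pCore p ↥M₁ ∧ Subgroup.centralizer (Cfsg.pCore p ↥M₂ : Set ↥M₂) ≤ Cfsg.pCore p ↥M₂ ∧ (Cfsg.pCore p ↥M₁).map M₁.subtype ⊔ (Cfsg.pCore p ↥M₂).map M₂.subtype ≤ M₁ ⊓ M₂) ∨ (∀ M : Subgroup G, (∃ T : Subgroup G, IsPGroup p T ∧ T ≠ ⊥ ∧ M = Subgroup.normalizer (T : Set G)) → (∀ L : Subgroup G, (∃ T : Subgroup G, IsPGroup p T ∧ T ≠ ⊥ ∧ L = Subgroup.normalizer (T : Set G)) → M ≤ L → L = M) → M ≠ ⊤ ∧ p ∣ Nat.card M ∧ ∀ g : G, g ∉ M → ¬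 p ∣ Nat.card ↥(M ⊓ M.map (MulAut.conj g).toMonoidHom)) := by
  classical
  let Loc : Subgroup G → Prop := fun M =>
    ∃ T : Subgroup G, IsPGroup p T ∧ T ≠ ⊥ ∧ M = Subgroup.normalizer (T : Set G)
  let MaxLoc : Subgroup G → Prop := fun M => Loc M ∧ ∀ L, Loc L → M ≤ L → L = M
  let O : Subgroup G → Subgroup G := fun M => Cfsg.pCoreOf p M
  have hOp' : ∀ M, IsPGroup p (O M) := fun M => Cfsg.Agent.LocalEvenA.pCoreOf_isPGroup' p M
  have hOle : ∀ M, O M ≤ M := fun M => Cfsg.Agent.LocalEvenA.pCoreOf_le' p M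
  have hOn : ∀ M : Subgroup G, M ≤ Subgroup.normalizer ((O M : Subgroup G) : Set G) := fun M =>
    Cfsg.Agent.LocalEvenA.le_normalizer_pCoreOf p M
  have hext : ∀ M, Loc M → ∃ K, MaxLoc K ∧ M ≤ K := by
    intro M hM
    obtain ⟨K, hMK, hK⟩ := (Set.toFinite {L : Subgroup G | Loc L}).exists_le_maximal hM
    exact ⟨K, ⟨hK.prop, fun L hL h => le_antisymm (hK.le_of_ge hL h) h⟩, hMK⟩
  have hO1 : ∀ M, Loc M → O M ≠ ⊥ := by
    rintro M ⟨T, hT, hT1, rfl⟩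
    exact ne_bot_of_le_ne_bot hT1 (Cfsg.Agent.LocalEvenA.le_pCoreOf Subgroup.le_normalizer le_rfl hT)
  have hNO : ∀ M, MaxLoc M → Subgroup.normalizer ((O M : Subgroup G) : Set G) = M := fun M hM =>
    hM.2 _ ⟨O M, hOp' M, hO1 M hM.1, rfl⟩ (hOn M)
  have hC : ∀ M, MaxLoc M → ∀ x ∈ M, (∀ o ∈ O M, o * x = x * o) → x ∈ O M := by
    rintro M ⟨⟨T, hT, hT1, rfl⟩, -⟩ x hx hc
    exact ⟨⟨x, hx⟩, hloc.2 T hT hT1 (Subgroup.mem_centralizer_iff.mpr fun o ho =>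
      Subtype.ext (hc o ⟨o, ho, rfl⟩)), rfl⟩
  have hchar : ∀ M, MaxLoc M →
      Subgroup.centralizer (Cfsg.pCore p ↥M : Set ↥M) ≤ Cfsg.pCore p ↥M := by
    rintro M ⟨⟨T, hT, hT1, rfl⟩, -⟩
    exact hloc.2 T hT hT1
  have hnt : ∀ M, MaxLoc M → M ≠ ⊤ := by
    intro M hM h
    obtain ⟨T, hT, hT1, hMT⟩ := hM.1
    haveI : T.Normal := Subgroup.normalizer_eq_top_iff.mp (hMT.symm.trans h)
    exact hT1 (le_bot_iff.mp (hOp ▸ Cfsg.Agent.Basics.le_pCore hT))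
  -- the primitivity of two maximal locals
  have hprim : ∀ M L, MaxLoc M → ∀ A : Subgroup G, A ≠ ⊥ → A ≤ M ⊓ L →
      M ≤ Subgroup.normalizer (A : Set G) → L ⊓ Subgroup.normalizer (A : Set G) = M ⊓ L := by
    intro M L hM A hA hAD hMA
    have hB : A ⊓ O M ≠ ⊥ := by
      intro hB
      refine hA (le_bot_iff.mp (hB ▸ le_inf le_rfl fun a ha => hC M hM a (hAD ha).1 fun o ho => ?_))
      have h1 : a * o * a⁻¹ * o⁻¹ ∈ A ⊓ O M := by
        refine ⟨?_, (O M).mul_mem ((Subgroup.mem_normalizer_iff.mp (hOn M (hAD ha).1) o).mp ho) ((O M).inv_mem ho)⟩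
        rw [show a * o * a⁻¹ * o⁻¹ = a * (o * a⁻¹ * o⁻¹) by group]
        exact mul_mem ha ((Subgroup.mem_normalizer_iff.mp (hMA (hOle M ho)) _).mp (inv_mem ha))
      rw [hB, Subgroup.mem_bot] at h1
      exact (mul_inv_eq_iff_eq_mul.mp (mul_inv_eq_one.mp h1)).symm
    have hBn : A ≤ Subgroup.normalizer ((A ⊓ O M : Subgroup G) : Set G) := fun a ha =>
      Cfsg.Agent.LocalEvenB.mem_normalizer_of_conj_mem fun o ho =>
        ⟨A.mul_mem (A.mul_mem ha ho.1) (A.inv_mem ha),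
          (Subgroup.mem_normalizer_iff.mp (hOn M (hAD ha).1) o).mp ho.2⟩
    have hA' : O A ≠ ⊥ := ne_bot_of_le_ne_bot hB
      (Cfsg.Agent.LocalEvenA.le_pCoreOf inf_le_left hBn ((hOp' M).to_le inf_le_right))
    have hN : Subgroup.normalizer ((O A : Subgroup G) : Set G) = M :=
      hM.2 _ ⟨O A, hOp' A, hA', rfl⟩ (hMA.trans (Cfsg.Agent.LocalEvenA.pCoreOf_normalizer p A))
    refine le_antisymm (le_inf ?_ inf_le_left) (le_inf inf_le_right (inf_le_left.trans hMA))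
    rw [← hN]
    exact inf_le_right.trans (Cfsg.Agent.LocalEvenA.pCoreOf_normalizer p A)
  -- success for a pair with mutual cores
  have good : ∀ M L, MaxLoc M → MaxLoc L → M ≠ L → O M ≤ L → O L ≤ M →
      ∃ M₁ M₂ : Subgroup G, M₁ ≠ M₂ ∧ (∀ A : Subgroup G, A ≠ ⊥ → A ≤ M₁ ⊓ M₂ →
        (M₁ ≤ Subgroup.normalizer (A : Set G) → M₂ ⊓ Subgroup.normalizer (A : Set G) = M₁ ⊓ M₂) ∧
        (M₂ ≤ Subgroup.normalizer (A : Set G) → M₁ ⊓ Subgroup.normalizer (A : Set G) = M₁ ⊓ M₂)) ∧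
        Subgroup.centralizer (Cfsg.pCore p ↥M₁ : Set ↥M₁) ≤ Cfsg.pCore p ↥M₁ ∧
        Subgroup.centralizer (Cfsg.pCore p ↥M₂ : Set ↥M₂) ≤ Cfsg.pCore p ↥M₂ ∧
        (Cfsg.pCore p ↥M₁).map M₁.subtype ⊔ (Cfsg.pCore p ↥M₂).map M₂.subtype ≤ M₁ ⊓ M₂ :=
    fun M L hM hL hne h1 h2 => ⟨M, L, hne, fun A hA hAD => ⟨hprim M L hM A hA hAD, fun h => by
      rw [inf_comm M L] at hAD ⊢
      exact hprim L M hL A hA hAD h⟩, hchar M hM, hchar L hL,
      sup_le (le_inf (hOle M) h1) (le_inf h2 (hOle L))⟩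
  by_cases hex : ∃ M L R : Subgroup G, MaxLoc M ∧ MaxLoc L ∧ M ≠ L ∧ IsPGroup p R ∧ R ≠ ⊥ ∧
      R ≤ M ∧ R ≤ L
  swap
  · right
    intro M hM hmax
    have hMax : MaxLoc M := ⟨hM, hmax⟩
    refine ⟨hnt M hMax, ?_, fun g hg hdvd => ?_⟩
    · obtain ⟨k, hk⟩ := IsPGroup.iff_card.mp (hOp' M)
      have hk0 : k ≠ 0 := fun h => hO1 M hM (Subgroup.card_eq_one.mp (by rw [hk, h, pow_zero]))
      exact (dvd_pow_self p hk0).trans (hk ▸ Subgroup.card_dvd_of_le (hOle M))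
    · obtain ⟨x, hx⟩ := exists_prime_orderOf_dvd_card' p hdvd
      obtain ⟨T, hT, hT1, hMT⟩ := hM
      obtain ⟨φ, hφ⟩ : ∃ φ, φ = (MulAut.conj g).toMonoidHom := ⟨_, rfl⟩
      have hφi : Function.Injective φ := hφ ▸ (MulAut.conj g).injective
      have hφs : Function.Surjective φ := hφ ▸ (MulAut.conj g).surjective
      rw [← hφ] at hdvd
      have hMg : MaxLoc (M.map φ) := by
        refine ⟨⟨T.map φ, hT.map _, fun h => hT1 ((Subgroup.map_eq_bot_iff_of_injective _ hφi).mp h),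
          ?_⟩, ?_⟩
        · rw [hMT, hφ, Subgroup.map_equiv_normalizer_eq]
        · rintro L ⟨S, hS, hS1, hLS⟩ hle
          obtain ⟨ψ, hψ⟩ : ∃ ψ, ψ = (MulAut.conj g⁻¹).toMonoidHom := ⟨_, rfl⟩
          have hψφ : ∀ x, φ (ψ x) = x := fun x => by rw [hφ, hψ]; simp [mul_assoc]
          have hφψ : ∀ x, ψ (φ x) = x := fun x => by rw [hφ, hψ]; simp [mul_assoc]
          have hψi : Function.Injective ψ := hψ ▸ (MulAut.conj g⁻¹).injective
          have h1 := hmax (L.map ψ) ⟨S.map ψ, hS.map _,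
            fun h => hS1 ((Subgroup.map_eq_bot_iff_of_injective _ hψi).mp h),
            by rw [hLS, hψ, Subgroup.map_equiv_normalizer_eq]⟩
            (fun m hm => ⟨φ m, hle ⟨m, hm, rfl⟩, hφψ m⟩)
          rw [← h1]
          ext y
          exact ⟨fun hy => ⟨ψ y, ⟨y, hy, rfl⟩, hψφ y⟩, by
            rintro ⟨_, ⟨z, hz, rfl⟩, rfl⟩
            rw [hψφ]; exact hz⟩
      refine hex ⟨M, M.map φ, Subgroup.zpowers (x : G), hMax, hMg, fun he => hg ?_,
        IsPGroup.of_card (n := 1) (by rw [Nat.card_zpowers, Subgroup.orderOf_coe, hx, pow_one]),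
        fun h => ?_, Subgroup.zpowers_le.mpr x.2.1, Subgroup.zpowers_le.mpr (hφ ▸ x.2.2)⟩
      · rw [← hNO M hMax]
        refine Cfsg.Agent.LocalEvenB.mem_normalizer_of_conj_mem fun o ho => ?_
        -- the conjugate of the core is a normal `p`-subgroup of `M`
        have hle : (O M).map φ ≤ O M := by
          refine Cfsg.Agent.LocalEvenA.le_pCoreOf ((Subgroup.map_mono (hOle M)).trans he.ge) ?_
            ((hOp' M).map _)
          intro m hm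
          obtain ⟨m', hm', rfl⟩ := he.le hm
          refine Cfsg.Agent.LocalEvenB.mem_normalizer_of_conj_mem ?_
          rintro _ ⟨o, ho, rfl⟩
          exact ⟨m' * o * m'⁻¹, (Subgroup.mem_normalizer_iff.mp (hOn M hm') o).mp ho, by
            rw [map_mul, map_mul, map_inv]⟩
        exact hle ⟨o, ho, by rw [hφ]; rfl⟩
      · rw [Subgroup.zpowers_eq_bot] at h
        have h2 := hx
        rw [← Subgroup.orderOf_coe, h, orderOf_one] at h2
        exact (Fact.out : p.Prime).ne_one h2.symm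
  left
  obtain ⟨M₀, L₀, R₀, h₀⟩ := hex
  obtain ⟨⟨M, L, R⟩, ⟨hM, hL, hne, hR, hR1, hRM, hRL⟩, hmax⟩ :=
    Set.exists_max_image
      {t : Subgroup G × Subgroup G × Subgroup G | MaxLoc t.1 ∧ MaxLoc t.2.1 ∧ t.1 ≠ t.2.1 ∧
        IsPGroup p t.2.2 ∧ t.2.2 ≠ ⊥ ∧ t.2.2 ≤ t.1 ∧ t.2.2 ≤ t.2.1}
      (fun t => Nat.card t.2.2) (Set.toFinite _) ⟨(M₀, L₀, R₀), h₀⟩
  obtain ⟨K, hK, hNK⟩ := hext _ ⟨R, hR, hR1, rfl⟩
  -- growing inside one member forces it to contain the normalizer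
  have grow : ∀ X, MaxLoc X → R ≤ X → (∃ R' : Subgroup G, IsPGroup p R' ∧ R' ≤ X ∧ R < R') →
      K = X ∧ ∃ s ∈ X, s ∈ Subgroup.normalizer (R : Set G) ∧ s ∉ R ∧
        IsPGroup p (R ⊔ Subgroup.zpowers s : Subgroup G) := by
    rintro X hX hRX ⟨R', hR', hR'X, hlt⟩
    haveI : Group.IsNilpotent R' := hR'.isNilpotent
    have hlt' : R.subgroupOf R' < ⊤ := lt_top_iff_ne_top.mpr fun h =>
      hlt.ne (le_antisymm hlt.le (Subgroup.subgroupOf_eq_top.mp h))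
    obtain ⟨⟨s, hs'⟩, hs1, hs2⟩ := SetLike.exists_of_lt
      (Group.normalizerCondition_of_isNilpotent (G := ↥R') _ hlt')
    have hsN : s ∈ Subgroup.normalizer (R : Set G) :=
      Cfsg.Agent.LocalEvenB.mem_normalizer_of_conj_mem fun r hr =>
        (Subgroup.mem_normalizer_iff.mp hs1 ⟨r, hlt.le hr⟩).mp hr
    have hsR : s ∉ R := fun h => hs2 h
    have hp' : IsPGroup p (R ⊔ Subgroup.zpowers s : Subgroup G) :=
      hR'.to_le (sup_le hlt.le (Subgroup.zpowers_le.mpr hs'))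
    refine ⟨?_, s, hR'X hs', hsN, hsR, hp'⟩
    by_contra hKX
    have hle : R ⊔ Subgroup.zpowers s ≤ K :=
      sup_le (Subgroup.le_normalizer.trans hNK) (Subgroup.zpowers_le.mpr (hNK hsN))
    have h := hmax (K, X, R ⊔ Subgroup.zpowers s) ⟨hK, hX, hKX, hp',
      ne_bot_of_le_ne_bot hR1 le_sup_left, hle, sup_le hRX (Subgroup.zpowers_le.mpr (hR'X hs'))⟩
    exact hsR ((Subgroup.eq_of_le_of_card_ge le_sup_left h).ge
      (Subgroup.mem_sup_right (Subgroup.mem_zpowers s)))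
  -- a member in which `R` is maximal has its core inside `R`
  have small : ∀ X, R ≤ X → (¬ ∃ R' : Subgroup G, IsPGroup p R' ∧ R' ≤ X ∧ R < R') → O X ≤ R := by
    intro X hRX hno
    have hp' : IsPGroup p (O X ⊔ R : Subgroup G) :=
      (hOp' X).to_sup_of_normal_left' hR (hRX.trans (hOn X))
    by_contra hle
    exact hno ⟨_, hp', sup_le (hOle X) hRX,
      lt_of_le_of_ne le_sup_right fun e => hle (le_sup_left.trans e.ge)⟩
  have twist : ∀ X Y, MaxLoc X → MaxLoc Y → R ≤ X → R ≤ Y →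
      (∃ R' : Subgroup G, IsPGroup p R' ∧ R' ≤ X ∧ R < R') →
      (¬ ∃ R' : Subgroup G, IsPGroup p R' ∧ R' ≤ Y ∧ R < R') →
      ∃ Y', MaxLoc Y' ∧ Y' ≠ Y ∧ O Y ≤ Y' ∧ O Y' ≤ Y := by
    intro X Y hX hY hRX hRY hg hno
    obtain ⟨-, s, hsX, hsN, hsR, hsp⟩ := grow X hX hRX hg
    have hsY : s ∉ Y := fun h => hno ⟨_, hsp, sup_le hRY (Subgroup.zpowers_le.mpr h),
      lt_of_le_of_ne le_sup_left fun e => hsR (e.ge (Subgroup.mem_sup_right (Subgroup.mem_zpowers s)))⟩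
    obtain ⟨φ, hφ⟩ : ∃ φ, φ = (MulAut.conj s).toMonoidHom := ⟨_, rfl⟩
    have hφi : Function.Injective φ := hφ ▸ (MulAut.conj s).injective
    have hOY := small Y hRY hno
    have hconj : Subgroup.normalizer (((O Y).map φ : Subgroup G) : Set G) = Y.map φ := by
      conv_rhs => rw [← hNO Y hY]
      rw [hφ, Subgroup.map_equiv_normalizer_eq]
    have hloc' : Loc (Subgroup.normalizer (((O Y).map φ : Subgroup G) : Set G)) :=
      ⟨_, (hOp' Y).map _, fun h => hO1 Y hY.1 ((Subgroup.map_eq_bot_iff_of_injective _ hφi).mp h), rfl⟩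
    rw [hconj] at hloc'
    obtain ⟨Y', hY', hYY'⟩ := hext _ hloc'
    have hcard : Y' = Y.map φ := by
      obtain ⟨ψ, hψ⟩ : ∃ ψ, ψ = (MulAut.conj s⁻¹).toMonoidHom := ⟨_, rfl⟩
      have hψφ : ∀ x, φ (ψ x) = x := fun x => by rw [hφ, hψ]; simp [mul_assoc]
      have hφψ : ∀ x, ψ (φ x) = x := fun x => by rw [hφ, hψ]; simp [mul_assoc]
      obtain ⟨S, hS, hS1, hYS⟩ := hY'.1
      have hψi : Function.Injective ψ := hψ ▸ (MulAut.conj s⁻¹).injective
      have h1 := hY.2 (Y'.map ψ) ⟨S.map ψ, hS.map _,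
        fun h => hS1 ((Subgroup.map_eq_bot_iff_of_injective _ hψi).mp h),
        by rw [hYS, hψ, Subgroup.map_equiv_normalizer_eq]⟩
        (fun m hm => ⟨φ m, hYY' ⟨m, hm, rfl⟩, hφψ m⟩)
      rw [← h1]
      ext y
      exact ⟨fun hy => ⟨ψ y, ⟨y, hy, rfl⟩, hψφ y⟩, by
        rintro ⟨_, ⟨z, hz, rfl⟩, rfl⟩
        rw [hψφ]; exact hz⟩
    have hRφ : R.map φ = R := by
      refine Subgroup.eq_of_le_of_card_ge ?_ (Subgroup.card_map_of_injective hφi).ge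
      rintro _ ⟨r, hr, rfl⟩
      rw [hφ]
      exact (Subgroup.mem_normalizer_iff.mp hsN r).mp hr
    refine ⟨Y', hY', fun e => ?_, hOY.trans ?_, ?_⟩
    · apply hsY
      rw [← hNO Y hY]
      refine Cfsg.Agent.LocalEvenB.mem_normalizer_of_conj_mem fun o ho => ?_
      have hYeq : Y.map φ = Y := hcard.symm.trans e
      have hle : (O Y).map φ ≤ O Y := by
        refine Cfsg.Agent.LocalEvenA.le_pCoreOf ((Subgroup.map_mono (hOle Y)).trans hYeq.le) ?_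
          ((hOp' Y).map _)
        rw [hconj, hYeq]
      exact hle ⟨o, ho, by rw [hφ]; rfl⟩
    · rw [hcard, ← hRφ]
      exact Subgroup.map_mono hRY
    · have hle : O Y' ≤ (O Y).map φ := by
        intro y hy
        obtain ⟨z, hz, rfl⟩ := (hcard ▸ hOle Y' hy : y ∈ Y.map φ)
        have hB : (O Y').comap φ ≤ O Y := by
          refine Cfsg.Agent.LocalEvenA.le_pCoreOf (fun w hw => ?_) (fun w hw => ?_)
            ((hOp' Y').comap_of_injective φ hφi)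
          · obtain ⟨z', hz', he⟩ := (hcard ▸ hOle Y' hw : φ w ∈ Y.map φ)
            exact hφi he ▸ hz'
          · refine Cfsg.Agent.LocalEvenB.mem_normalizer_of_conj_mem fun v hv => ?_
            rw [Subgroup.mem_comap] at hv ⊢
            rw [map_mul, map_mul, map_inv]
            exact (Subgroup.mem_normalizer_iff.mp (hOn Y' (hcard.ge ⟨w, hw, rfl⟩)) _).mp hv
        exact ⟨z, hB hy, rfl⟩
      refine hle.trans ?_
      exact (Subgroup.map_mono hOY).trans (hRφ.le.trans hRY)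
  by_cases hgM : ∃ R' : Subgroup G, IsPGroup p R' ∧ R' ≤ M ∧ R < R'
  · by_cases hgL : ∃ R' : Subgroup G, IsPGroup p R' ∧ R' ≤ L ∧ R < R'
    · exact absurd ((grow M hM hRM hgM).1.symm.trans (grow L hL hRL hgL).1) hne
    · obtain ⟨Y', hY', hne', h1, h2⟩ := twist M L hM hL hRM hRL hgM hgL
      exact good L Y' hL hY' (Ne.symm hne') h1 h2
  · by_cases hgL : ∃ R' : Subgroup G, IsPGroup p R' ∧ R' ≤ L ∧ R < R'
    · obtain ⟨Y', hY', hne', h1, h2⟩ := twist L M hL hM hRL hRM hgL hgM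
      exact good M Y' hM hY' (Ne.symm hne') h1 h2
    · exact good M L hM hL hne ((small M hRM hgM).trans hRL) ((small L hRL hgL).trans hRM)

end Cfsg.Agent.S3751
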