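import Cfsg.Statements.S3752
import Cfsg.Agent.Lib.Components.Layer
import Cfsg.Agent.Lib.Components.FStar
import Cfsg.Agent.Lib.Components.FStar2
import Cfsg.Agent.Lib.Components.Subnormal
import Cfsg.Agent.Lib.Basics.Cores
import Cfsg.Agent.Lib.LocalEvenA.Core
import Cfsg.Agent.Lib.LocalEvenB.FixedOrder

set_option autoImplicit false
open Cfsg
open scoped commutatorElement

namespace Cfsg.Agent.S3752

open Subgroup

variable {G : Type*} [Group G] [Finite G]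

theorem layer_le_other {M₁ M₂ : Subgroup G}
    (h₁ : (Cfsg.generalizedFittingSubgroup ↥M₁).map M₁.subtype ≤ M₂)
    (h₂ : (Cfsg.generalizedFittingSubgroup ↥M₂).map M₂.subtype ≤ M₁) :
    (Cfsg.layer ↥M₁).map M₁.subtype ≤ (Cfsg.layer ↥M₂).map M₂.subtype := by
  rw [map_le_iff_le_comap, Cfsg.Agent.Components.layer_le_iff]
  intro L hL
  rw [← map_le_iff_le_comap]
  set L' := L.map M₁.subtype with hL'
  have hLD : L' ≤ M₁ ⊓ M₂ := le_inf (map_subtype_le L) ((Subgroup.map_mono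
    ((Cfsg.Agent.Components.component_le_layer hL).trans le_sup_left)).trans h₁)
  obtain ⟨D, hD⟩ : ∃ D, D = M₁ ⊓ M₂ := ⟨_, rfl⟩
  rw [← hD] at hLD
  have hDM₁ : D ≤ M₁ := hD ▸ inf_le_left
  have hDM₂ : D ≤ M₂ := hD ▸ inf_le_right
  have hLle : L ≤ D.subgroupOf M₁ := fun x hx => hLD ⟨x, hx, rfl⟩
  have hK : Cfsg.IsComponent (L'.subgroupOf D) := by
    have h := Cfsg.Agent.Components.isComponent_map_equiv (subgroupOfEquivOfLe hDM₁)
      (Cfsg.Agent.Components.isComponent_subgroupOf hL hLle)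
    have e : (L.subgroupOf (D.subgroupOf M₁)).map (subgroupOfEquivOfLe hDM₁).toMonoidHom =
        L'.subgroupOf D := by
      ext x
      constructor
      · rintro ⟨y, hy, rfl⟩
        exact ⟨y.1, hy, rfl⟩
      · rintro ⟨y, hy, hyx⟩
        refine ⟨⟨y, mem_subgroupOf.mpr (?_ : (y : G) ∈ D)⟩, hy, Subtype.ext hyx⟩
        exact hLD ⟨y, hy, rfl⟩
    rwa [e] at h
  -- the layer and the Fitting subgroup of `M₂` as normal subgroups of `D`
  have hnormD : ∀ N : Subgroup ↥M₂, N.Normal → N.map M₂.subtype ≤ D →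
      ((N.map M₂.subtype).subgroupOf D).Normal := by
    intro N hN _
    refine ⟨fun x hx g => ?_⟩
    obtain ⟨y, hy, hyx⟩ := hx
    have hyx' : (y : G) = x := hyx
    refine ⟨⟨g, hDM₂ g.2⟩ * y * ⟨g, hDM₂ g.2⟩⁻¹, hN.conj_mem y hy _, ?_⟩
    show (g : G) * y * (g : G)⁻¹ = g * x * g⁻¹
    rw [hyx']
    rfl
  have hFle : (Cfsg.generalizedFittingSubgroup ↥M₂).map M₂.subtype ≤ D :=
    hD ▸ le_inf h₂ (map_subtype_le _)
  set E := (Cfsg.layer ↥M₂).map M₂.subtype with hE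
  have hED : E ≤ D := (Subgroup.map_mono le_sup_left).trans hFle
  haveI hEn : (E.subgroupOf D).Normal := hnormD _ inferInstance hED
  rcases Cfsg.Agent.Components.component_le_or_commute hK
      (Subgroup.Normal.isSubnormal hEn) with h | h
  · intro x hx
    exact h (show (⟨x, hLD hx⟩ : D) ∈ L'.subgroupOf D from hx)
  exfalso
  set F := (Cfsg.fittingSubgroup ↥M₂).map M₂.subtype with hF
  have hFD : F ≤ D := (Subgroup.map_mono le_sup_right).trans hFle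
  haveI hFn : (F.subgroupOf D).Normal :=
    hnormD _ (Cfsg.Agent.Basics.fittingSubgroup_normal) hFD
  have hFs : Group.IsSolvable (F.subgroupOf D) := by
    haveI := Cfsg.Agent.Components.fitting_isSolvable (G := M₂)
    haveI : Group.IsSolvable F := solvable_of_surjective
      (f := M₂.subtype.subgroupMap (Cfsg.fittingSubgroup ↥M₂)) (MonoidHom.subgroupMap_surjective _ _)
    exact solvable_of_solvable_injective (f := (subgroupOfEquivOfLe hFD).toMonoidHom)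
      (subgroupOfEquivOfLe hFD).injective
  have h' := Cfsg.Agent.Components.component_commute_normal_solvable hK hFs
  rw [commutator_eq_bot_iff_le_centralizer] at h h'
  have hcomm : ∀ x ∈ L', ∀ y ∈ Cfsg.generalizedFittingSubgroup ↥M₂, (y : G) * x = x * y := by
    intro x hx
    have key : ∀ N : Subgroup ↥M₂, N.map M₂.subtype ≤ D →
        L'.subgroupOf D ≤ centralizer ((N.map M₂.subtype).subgroupOf D : Set D) →
        N ≤ centralizer ({(⟨x, hDM₂ (hLD hx)⟩ : M₂)} : Set M₂) := by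
      intro N hND hc y hy
      rw [mem_centralizer_singleton_iff]
      refine Subtype.ext ?_
      have h0 := mem_centralizer_iff.mp (hc (show (⟨x, hLD hx⟩ : D) ∈ L'.subgroupOf D from hx))
        ⟨y, hND ⟨y, hy, rfl⟩⟩ ⟨y, hy, rfl⟩
      exact congrArg (fun t : D => (t : G)) h0
    intro y hy
    have hle : Cfsg.generalizedFittingSubgroup ↥M₂ ≤ centralizer ({(⟨x, hDM₂ (hLD hx)⟩ : M₂)} : Set M₂) :=
      sup_le (key _ hED h) (key _ hFD h')
    exact congrArg Subtype.val (mem_centralizer_singleton_iff.mp (hle hy))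
  have hab : ∀ x ∈ L', ∀ z ∈ L', x * z = z * x := by
    intro x hx z hz
    have hxF : (⟨x, hDM₂ (hLD hx)⟩ : M₂) ∈ Cfsg.generalizedFittingSubgroup ↥M₂ :=
      Cfsg.Agent.Components.centralizer_fStar_le (mem_centralizer_iff.mpr fun y hy =>
        Subtype.ext (hcomm x hx y hy))
    exact hcomm z hz _ hxF
  refine Cfsg.Agent.Components.isComponent_ne_bot hL ?_
  rw [← Cfsg.Agent.Components.isComponent_commutator_eq_self hL, eq_bot_iff, commutator_le]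
  intro x hx z hz
  rw [mem_bot, commutatorElement_eq_one_iff_commute]
  exact Subtype.ext (hab x ⟨x, hx, rfl⟩ z ⟨z, hz, rfl⟩)

theorem mem_pCore_of_mem_fitting {M : Type*} [Group M] [Finite M] {q k : ℕ} [Fact q.Prime] {c : M}
    (hc : c ∈ Cfsg.fittingSubgroup M) (hk : c ^ q ^ k = 1) : c ∈ Cfsg.pCore q M := by
  haveI : (Cfsg.fittingSubgroup M).Normal := Cfsg.Agent.Basics.fittingSubgroup_normal
  haveI : Group.IsNilpotent (Cfsg.fittingSubgroup M) := Cfsg.Agent.Components.fitting_isNilpotent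
  have hp : IsPGroup q (zpowers (⟨c, hc⟩ : Cfsg.fittingSubgroup M)) := by
    obtain ⟨j, -, hj⟩ := (Nat.dvd_prime_pow (Fact.out : q.Prime)).mp (orderOf_dvd_of_pow_eq_one hk)
    exact IsPGroup.of_card (n := j) (by rw [Nat.card_zpowers, Subgroup.orderOf_mk, hj])
  obtain ⟨T, hT⟩ := hp.exists_le_sylow
  haveI hTn : (T : Subgroup (Cfsg.fittingSubgroup M)).Normal := inferInstance
  haveI := T.characteristic_of_normal hTn
  haveI : ((T : Subgroup (Cfsg.fittingSubgroup M)).map (Cfsg.fittingSubgroup M).subtype).Normal :=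
    ConjAct.normal_of_characteristic_of_normal
  exact Cfsg.Agent.Basics.le_pCore (T.isPGroup'.map (Cfsg.fittingSubgroup M).subtype) ⟨⟨c, hc⟩, hT (mem_zpowers _), rfl⟩

/-- Bender's step. -/
theorem pCore_le_other {M₁ M₂ : Subgroup G}
    (hP : ∀ A : Subgroup G, A ≠ ⊥ → A ≤ M₁ ⊓ M₂ → M₂ ≤ Subgroup.normalizer (A : Set G) →
      M₁ ⊓ Subgroup.normalizer (A : Set G) = M₁ ⊓ M₂)
    (hF₁ : (Cfsg.fittingSubgroup ↥M₁).map M₁.subtype ≤ M₂)
    (hF₂ : (Cfsg.fittingSubgroup ↥M₂).map M₂.subtype ≤ M₁)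
    (hC₁ : centralizer (Cfsg.fittingSubgroup ↥M₁ : Set ↥M₁) ≤ Cfsg.fittingSubgroup ↥M₁)
    {p q : ℕ} [Fact p.Prime] [Fact q.Prime] (hpq : p ≠ q)
    (hne : Cfsg.pCore p ↥M₂ ≠ ⊥) :
    (Cfsg.pCore q ↥M₂).map M₂.subtype ≤ (Cfsg.pCore q ↥M₁).map M₁.subtype := by
  classical
  obtain ⟨D, hD⟩ : ∃ D, D = M₁ ⊓ M₂ := ⟨_, rfl⟩
  have hDM₁ : D ≤ M₁ := hD ▸ inf_le_left
  have hDM₂ : D ≤ M₂ := hD ▸ inf_le_right
  let O₁ : ℕ → Subgroup G := fun r => (Cfsg.pCore r ↥M₁).map M₁.subtype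
  let O₂ : ℕ → Subgroup G := fun r => (Cfsg.pCore r ↥M₂).map M₂.subtype
  have hO₁n : ∀ r, ∀ g ∈ M₁, ∀ a ∈ O₁ r, g * a * g⁻¹ ∈ O₁ r := by
    rintro r g hg _ ⟨a, ha, rfl⟩
    exact ⟨⟨g, hg⟩ * a * ⟨g, hg⟩⁻¹, (Cfsg.Agent.LocalEvenA.pCore_normal' r ↥M₁).conj_mem a ha _, rfl⟩
  have hO₂n : ∀ r, ∀ g ∈ M₂, ∀ a ∈ O₂ r, g * a * g⁻¹ ∈ O₂ r := by
    rintro r g hg _ ⟨a, ha, rfl⟩
    exact ⟨⟨g, hg⟩ * a * ⟨g, hg⟩⁻¹, (Cfsg.Agent.LocalEvenA.pCore_normal' r ↥M₂).conj_mem a ha _, rfl⟩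
  have hO₁D : ∀ r, r.Prime → O₁ r ≤ D := fun r hr => by
    haveI := Fact.mk hr
    exact hD ▸ le_inf (map_subtype_le _)
      ((Subgroup.map_mono (Cfsg.Agent.Basics.pCore_le_fittingSubgroup r)).trans hF₁)
  have hO₂D : ∀ r, r.Prime → O₂ r ≤ D := fun r hr => by
    haveI := Fact.mk hr
    exact hD ▸ le_inf ((Subgroup.map_mono (Cfsg.Agent.Basics.pCore_le_fittingSubgroup r)).trans hF₂)
      (map_subtype_le _)
  -- different primes commute
  have hcross : ∀ r s, r.Prime → s.Prime → r ≠ s → ∀ a ∈ O₂ r, ∀ b ∈ O₁ s, Commute a b := by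
    intro r s hr hs hrs a ha b hb
    haveI := Fact.mk hr
    haveI := Fact.mk hs
    have h1 : a * b * a⁻¹ * b⁻¹ ∈ O₁ s :=
      mul_mem (hO₁n s a (hDM₁ (hO₂D r hr ha)) b hb) (inv_mem hb)
    have h2 : a * b * a⁻¹ * b⁻¹ ∈ O₂ r := by
      rw [show a * b * a⁻¹ * b⁻¹ = a * (b * a⁻¹ * b⁻¹) by group]
      exact mul_mem ha (hO₂n r b (hDM₂ (hO₁D s hs hb)) _ (inv_mem ha))
    have hdis := IsPGroup.disjoint_of_ne (G := G) r s hrs (H₁ := O₂ r) (H₂ := O₁ s)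
      ((Cfsg.Agent.Basics.pCore_isPGroup r).map _) ((Cfsg.Agent.Basics.pCore_isPGroup s).map _)
    have h3 : a * b * a⁻¹ * b⁻¹ = 1 :=
      mem_bot.mp (hdis.eq_bot ▸ ⟨h2, h1⟩)
    exact mul_inv_eq_iff_eq_mul.mp (mul_inv_eq_one.mp h3)
  -- the subgroup `R`
  obtain ⟨R, hR⟩ : ∃ R : Subgroup G, ∀ g, g ∈ R ↔
      g ∈ M₁ ∧ ∀ s, s.Prime → s ≠ q → ∀ b ∈ O₁ s, Commute g b :=
    ⟨{ carrier := {g | g ∈ M₁ ∧ ∀ s, s.Prime → s ≠ q → ∀ b ∈ O₁ s, Commute g b}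
       one_mem' := ⟨one_mem _, fun _ _ _ b _ => Commute.one_left b⟩
       mul_mem' := fun {a b} ha hb => ⟨mul_mem ha.1 hb.1, fun s hs hsq c hc =>
         (ha.2 s hs hsq c hc).mul_left (hb.2 s hs hsq c hc)⟩
       inv_mem' := fun {a} ha => ⟨inv_mem ha.1, fun s hs hsq c hc =>
         (ha.2 s hs hsq c hc).inv_left⟩ }, fun g => Iff.rfl⟩
  have hpP : p.Prime := Fact.out
  -- `q`-elements of `R` centralize `O_p(M₂)`
  have key : ∀ r ∈ R, ∀ k, r ^ q ^ k = 1 → ∀ u ∈ O₂ p, Commute r u := by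
    intro r hr k hrk u hu
    obtain ⟨hrM, hrc⟩ := (hR r).mp hr
    have huD := hO₂D p hpP hu
    have huM := hDM₁ huD
    obtain ⟨c, hc⟩ : ∃ c, c = r * u * r⁻¹ * u⁻¹ := ⟨_, rfl⟩
    have hcM : c ∈ M₁ := hc ▸ mul_mem (mul_mem (mul_mem hrM huM) (inv_mem hrM)) (inv_mem huM)
    -- `c` centralizes every core of `M₁`
    have hcO : ∀ s, s.Prime → ∀ b ∈ O₁ s, Commute c b := by
      intro s hs b hb
      by_cases hsq : s = q
      · subst hsq
        have h1 : Commute u b := hcross p s hpP hs hpq u hu b hb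
        have h2 : Commute (r * u * r⁻¹) b := by
          have hb' : r⁻¹ * b * r ∈ O₁ s := by simpa using hO₁n s r⁻¹ (inv_mem hrM) b hb
          have h := hcross p s hpP hs hpq u hu _ hb'
          calc r * u * r⁻¹ * b = r * (u * (r⁻¹ * b * r)) * r⁻¹ := by group
            _ = r * ((r⁻¹ * b * r) * u) * r⁻¹ := by rw [h.eq]
            _ = b * (r * u * r⁻¹) := by group
        rw [hc]
        exact h2.mul_left h1.inv_left
      · have hub : u * b * u⁻¹ ∈ O₁ s := hO₁n s u huM b hb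
        have hub' : u⁻¹ * b * u ∈ O₁ s := by simpa using hO₁n s u⁻¹ (inv_mem huM) b hb
        have h1 := (hrc s hs hsq _ hub').eq
        have h2 := (hrc s hs hsq b hb).eq
        rw [hc]
        show r * u * r⁻¹ * u⁻¹ * b = b * (r * u * r⁻¹ * u⁻¹)
        calc r * u * r⁻¹ * u⁻¹ * b = r * u * r⁻¹ * (u⁻¹ * b * u) * u⁻¹ := by group
          _ = r * u * r⁻¹ * ((u⁻¹ * b * u) * r) * r⁻¹ * u⁻¹ := by group
          _ = r * u * r⁻¹ * (r * (u⁻¹ * b * u)) * r⁻¹ * u⁻¹ := by rw [h1]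
          _ = (r * b) * u * r⁻¹ * u⁻¹ := by group
          _ = b * (r * u * r⁻¹ * u⁻¹) := by rw [h2]; group
    have hcF : (⟨c, hcM⟩ : M₁) ∈ Cfsg.fittingSubgroup ↥M₁ := by
      apply hC₁
      have hle : Cfsg.fittingSubgroup ↥M₁ ≤ centralizer ({(⟨c, hcM⟩ : M₁)} : Set M₁) := by
        rw [Cfsg.Agent.Components.fitting_eq_iSup_pCore]
        refine iSup_le fun s b hb => ?_
        rw [mem_centralizer_singleton_iff]
        exact Subtype.ext (hcO s (Nat.prime_of_mem_primeFactors s.2) b ⟨b, hb, rfl⟩).eq.symm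
      exact mem_centralizer_iff.mpr fun b hb => mem_centralizer_singleton_iff.mp (hle hb)
    -- `c` is a `p`-element
    have hcD : c ∈ D := hD ▸ ⟨hcM, hF₁ ⟨_, hcF, rfl⟩⟩
    obtain ⟨Z, hZ⟩ : ∃ Z, Z = (O₂ p).subgroupOf D := ⟨_, rfl⟩
    haveI : Z.Normal := hZ ▸ ⟨fun x hx g => hO₂n p g (hDM₂ g.2) x hx⟩
    obtain ⟨j, hj⟩ := (Cfsg.Agent.Basics.pCore_isPGroup (G := M₂) p).map M₂.subtype ⟨u, hu⟩
    have hj' : u ^ p ^ j = 1 := congrArg Subtype.val hj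
    have hcu : (c * u) ^ p ^ j = 1 := by
      rw [hc, inv_mul_cancel_right, conj_pow, hj']
      group
    have hmem : c ^ p ^ j ∈ O₂ p := by
      have h1 : QuotientGroup.mk' Z ((⟨c, hcD⟩ * ⟨u, huD⟩ : D) ^ p ^ j) = 1 := by
        rw [show (⟨c, hcD⟩ * ⟨u, huD⟩ : D) ^ p ^ j = 1 from Subtype.ext hcu, map_one]
      rw [map_pow, map_mul, show QuotientGroup.mk' Z ⟨u, huD⟩ = 1 from
        (QuotientGroup.eq_one_iff _).mpr (hZ ▸ hu), mul_one, ← map_pow] at h1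
      have h2 : (⟨c, hcD⟩ : D) ^ p ^ j ∈ Z := (QuotientGroup.eq_one_iff _).mp h1
      rw [hZ] at h2
      exact h2
    obtain ⟨i, hi⟩ := (Cfsg.Agent.Basics.pCore_isPGroup (G := M₂) p).map M₂.subtype ⟨_, hmem⟩
    have hcp : c ^ p ^ (j + i) = 1 := by
      rw [pow_add, pow_mul]
      exact congrArg Subtype.val hi
    have hcP : c ∈ O₁ p :=
      ⟨⟨c, hcM⟩, mem_pCore_of_mem_fitting (k := j + i) hcF (Subtype.ext hcp), rfl⟩
    have hrcc : Commute r c := hrc p hpP hpq c hcP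
    have hn : ∀ n : ℕ, r ^ n * u * (r ^ n)⁻¹ = c ^ n * u := by
      intro n
      induction n with
      | zero => simp
      | succ n ihn =>
        calc r ^ (n + 1) * u * (r ^ (n + 1))⁻¹ = r * (r ^ n * u * (r ^ n)⁻¹) * r⁻¹ := by
              rw [pow_succ']; group
          _ = r * c ^ n * r⁻¹ * (r * u * r⁻¹) := by rw [ihn]; group
          _ = c ^ (n + 1) * u := by
            rw [(hrcc.pow_right n).eq, mul_inv_cancel_right, show r * u * r⁻¹ = c * u by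
              rw [hc, inv_mul_cancel_right], ← mul_assoc, ← pow_succ]
    have h1 := hn (q ^ k)
    rw [hrk, inv_one, one_mul, mul_one] at h1
    have hcq : c ^ q ^ k = 1 := mul_right_cancel (h1.symm.trans (one_mul u).symm)
    have hord : orderOf c ∣ Nat.gcd (q ^ k) (p ^ (j + i)) :=
      Nat.dvd_gcd (orderOf_dvd_of_pow_eq_one hcq) (orderOf_dvd_of_pow_eq_one hcp)
    rw [(((Nat.coprime_primes Fact.out hpP).mpr (Ne.symm hpq)).pow k (j + i) : _).gcd_eq_one] at hord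
    rw [hc] at hord
    exact mul_inv_eq_iff_eq_mul.mp (mul_inv_eq_one.mp (orderOf_eq_one_iff.mp (Nat.dvd_one.mp hord)))
  -- the subgroup generated by the `q`-elements of `R`
  obtain ⟨R₀, hR₀⟩ : ∃ R₀, R₀ = Subgroup.closure {r : G | r ∈ R ∧ ∃ k, r ^ q ^ k = 1} := ⟨_, rfl⟩
  have hR₀M : R₀ ≤ M₁ := hR₀ ▸ (closure_le _).mpr fun r hr => ((hR r).mp hr.1).1
  have hR₀D : R₀ ≤ D := by
    rw [hD, ← hP (O₂ p) (by rwa [Ne, map_eq_bot_iff_of_injective _ M₂.subtype_injective])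
      (hD ▸ hO₂D p hpP) (fun g hg => Cfsg.Agent.LocalEvenB.mem_normalizer_of_conj_mem fun a ha =>
        hO₂n p g hg a ha)]
    refine le_inf hR₀M (hR₀ ▸ (closure_le _).mpr ?_)
    rintro r ⟨hr, k, hk⟩
    refine Cfsg.Agent.LocalEvenB.mem_normalizer_of_conj_mem fun a ha => ?_
    rw [(key r hr k hk a ha).eq, mul_inv_cancel_right]
    exact ha
  have hQR : O₂ q ≤ R₀ := by
    intro a ha
    obtain ⟨k, hk⟩ := (Cfsg.Agent.Basics.pCore_isPGroup (G := M₂) q).map M₂.subtype ⟨a, ha⟩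
    rw [hR₀]
    refine subset_closure ⟨(hR a).mpr ⟨hDM₁ (hO₂D q Fact.out ha), fun s hs hsq b hb =>
      hcross q s Fact.out hs (Ne.symm hsq) a ha b hb⟩, k, congrArg Subtype.val hk⟩
  -- subnormality in `M₁`
  haveI hR₀n : (R₀.subgroupOf M₁).Normal := by
    refine ⟨fun x hx g => ?_⟩
    rw [mem_subgroupOf] at hx ⊢
    have h1 : (g : G) * x * (g : G)⁻¹ ∈ R₀.map (MulAut.conj (g : G)).toMonoidHom := ⟨x, hx, rfl⟩
    refine (?_ : R₀.map (MulAut.conj (g : G)).toMonoidHom ≤ R₀) h1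
    rw [hR₀, MonoidHom.map_closure, closure_le]
    rintro _ ⟨r, ⟨hr, k, hk⟩, rfl⟩
    refine subset_closure ⟨(hR _).mpr ⟨mul_mem (mul_mem g.2 ((hR r).mp hr).1) (inv_mem g.2),
      fun s hs hsq b hb => ?_⟩, k, ?_⟩
    · have hb' : (g : G)⁻¹ * b * g ∈ O₁ s := by simpa using hO₁n s _ (inv_mem g.2) b hb
      have h := ((hR r).mp hr).2 s hs hsq _ hb'
      show (g : G) * r * (g : G)⁻¹ * b = b * ((g : G) * r * (g : G)⁻¹)
      calc (g : G) * r * (g : G)⁻¹ * b = g * (r * ((g : G)⁻¹ * b * g)) * (g : G)⁻¹ := by group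
        _ = g * (((g : G)⁻¹ * b * g) * r) * (g : G)⁻¹ := by rw [h.eq]
        _ = b * ((g : G) * r * (g : G)⁻¹) := by group
    · show ((g : G) * r * (g : G)⁻¹) ^ q ^ k = 1
      rw [conj_pow, hk]
      group
  have hQM : O₂ q ≤ M₁ := hQR.trans hR₀M
  haveI hQn : (((O₂ q).subgroupOf M₁).subgroupOf (R₀.subgroupOf M₁)).Normal :=
    ⟨fun x hx g => hO₂n q g.1.1 (hDM₂ (hR₀D g.2)) x.1.1 hx⟩
  have hsn : ((O₂ q).subgroupOf M₁).IsSubnormal := by
    have h := (Cfsg.Agent.Components.isSubnormal_map_subtype_iff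
      (Subgroup.Normal.isSubnormal hR₀n) _).mpr (Subgroup.Normal.isSubnormal hQn)
    rwa [map_subgroupOf_eq_of_le (show (O₂ q).subgroupOf M₁ ≤ R₀.subgroupOf M₁ from
      fun x hx => hQR hx)] at h
  have hle := Cfsg.Agent.LocalEvenA.subnormal_le_pCore hsn
    (((Cfsg.Agent.Basics.pCore_isPGroup (G := M₂) q).map M₂.subtype).comap_subtype)
  intro a ha
  exact ⟨⟨a, hQM ha⟩, hle ha, rfl⟩

/-- Bender's Theorem on primitive pairs. Two distinct subgroups M₁, M₂ of G form a primitive pair when, for {i, j} = {1, 2}, every non-trivial normal subgroup A of M_i contained in M₁ ∩ M₂ satisfies N_{M_j}(A) = M₁ ∩ M₂; the pair has characteristic p when moreover C_{M_i}(O_p(M_i)) ≤ O_p(M_i) for both i and O_p(M₁)O_p(M₂) ≤ M₁ ∩ M₂. If (M₁, M₂) is a primitive pair of the finite group G with F*(M₁) ≤ M₂ and F*(M₂) ≤ M₁, then for some prime p the pair has characteristic p. -/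
theorem result {G : Type*} [Group G] [Finite G] (M₁ M₂ : Subgroup G) (hne : M₁ ≠ M₂) (hP : ∀ A : Subgroup G, A ≠ ⊥ → A ≤ M₁ ⊓ M₂ → (M₁ ≤ Subgroup.normalizer (A : Set G) → M₂ ⊓ Subgroup.normalizer (A : Set G) = M₁ ⊓ M₂) ∧ (M₂ ≤ Subgroup.normalizer (A : Set G) → M₁ ⊓ Subgroup.normalizer (A : Set G) = M₁ ⊓ M₂)) (h₁ : (Cfsg.generalizedFittingSubgroup ↥M₁).map M₁.subtype ≤ M₂) (h₂ : (Cfsg.generalizedFittingSubgroup ↥M₂).map M₂.subtype ≤ M₁) : ∃ p : ℕ, p.Prime ∧ Subgroup.centralizer (Cfsg.pCore p ↥M₁ : Set ↥M₁) ≤ Cfsg.pCore p ↥M₁ ∧ Subgroup.centralizer (Cfsg.pCore p ↥M₂ : Set ↥M₂) ≤ Cfsg.pCore p ↥M₂ ∧ (Cfsg.pCore p ↥M₁).map M₁.subtype ⊔ (Cfsg.pCore p ↥M₂).map M₂.subtype ≤ M₁ ⊓ M₂ := by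
  classical
  have hne' : ¬ (M₁ ≤ M₂ ∧ M₂ ≤ M₁) := fun h => hne (le_antisymm h.1 h.2)
  have hcommon : ∀ A : Subgroup G, A ≠ ⊥ → A ≤ M₁ ⊓ M₂ → M₁ ≤ Subgroup.normalizer (A : Set G) →
      M₂ ≤ Subgroup.normalizer (A : Set G) → False := by
    intro A hA hAD hn₁ hn₂
    have e1 := (hP A hA hAD).1 hn₁
    have e2 := (hP A hA hAD).2 hn₂
    rw [inf_eq_left.mpr hn₂] at e1
    rw [inf_eq_left.mpr hn₁] at e2
    exact hne' ⟨fun x hx => ((e2 ▸ hx : x ∈ M₁ ⊓ M₂)).2, fun x hx => ((e1 ▸ hx : x ∈ M₁ ⊓ M₂)).1⟩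
  have hnorm : ∀ (M : Subgroup G) (N : Subgroup ↥M), N.Normal →
      M ≤ Subgroup.normalizer ((N.map M.subtype : Subgroup G) : Set G) := by
    intro M N hN g hg
    refine Cfsg.Agent.LocalEvenB.mem_normalizer_of_conj_mem ?_
    rintro _ ⟨a, ha, rfl⟩
    exact ⟨⟨g, hg⟩ * a * ⟨g, hg⟩⁻¹, hN.conj_mem a ha _, rfl⟩
  -- no components
  have hEeq : (Cfsg.layer ↥M₁).map M₁.subtype = (Cfsg.layer ↥M₂).map M₂.subtype :=
    le_antisymm (layer_le_other h₁ h₂) (layer_le_other h₂ h₁)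
  have hE : (Cfsg.layer ↥M₁).map M₁.subtype = ⊥ := by
    by_contra hE
    exact hcommon _ hE (le_inf (Subgroup.map_subtype_le _) (hEeq ▸ Subgroup.map_subtype_le _))
      (hnorm M₁ _ inferInstance) (hEeq ▸ hnorm M₂ _ inferInstance)
  have hE₁ : Cfsg.layer ↥M₁ = ⊥ := (Subgroup.map_eq_bot_iff_of_injective _ M₁.subtype_injective).mp hE
  have hE₂ : Cfsg.layer ↥M₂ = ⊥ :=
    (Subgroup.map_eq_bot_iff_of_injective _ M₂.subtype_injective).mp (hEeq.symm.trans hE)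
  have hS₁ : Cfsg.generalizedFittingSubgroup ↥M₁ = Cfsg.fittingSubgroup ↥M₁ := by
    rw [Cfsg.generalizedFittingSubgroup, hE₁, bot_sup_eq]
  have hS₂ : Cfsg.generalizedFittingSubgroup ↥M₂ = Cfsg.fittingSubgroup ↥M₂ := by
    rw [Cfsg.generalizedFittingSubgroup, hE₂, bot_sup_eq]
  rw [hS₁] at h₁
  rw [hS₂] at h₂
  have hC₁ : Subgroup.centralizer (Cfsg.fittingSubgroup ↥M₁ : Set ↥M₁) ≤ Cfsg.fittingSubgroup ↥M₁ := by
    rw [← hS₁]; exact Cfsg.Agent.Components.centralizer_fStar_le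
  have hC₂ : Subgroup.centralizer (Cfsg.fittingSubgroup ↥M₂ : Set ↥M₂) ≤ Cfsg.fittingSubgroup ↥M₂ := by
    rw [← hS₂]; exact Cfsg.Agent.Components.centralizer_fStar_le
  -- the two directions
  have d21 : ∀ p q : ℕ, p.Prime → q.Prime → p ≠ q → Cfsg.pCore p ↥M₂ ≠ ⊥ →
      (Cfsg.pCore q ↥M₂).map M₂.subtype ≤ (Cfsg.pCore q ↥M₁).map M₁.subtype := by
    intro p q hp hq hpq hn
    haveI := Fact.mk hp
    haveI := Fact.mk hq
    exact pCore_le_other (fun A hA hAD h => (hP A hA hAD).2 h) h₁ h₂ hC₁ hpq hn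
  have d12 : ∀ p q : ℕ, p.Prime → q.Prime → p ≠ q → Cfsg.pCore p ↥M₁ ≠ ⊥ →
      (Cfsg.pCore q ↥M₁).map M₁.subtype ≤ (Cfsg.pCore q ↥M₂).map M₂.subtype := by
    intro p q hp hq hpq hn
    haveI := Fact.mk hp
    haveI := Fact.mk hq
    refine pCore_le_other (M₁ := M₂) (M₂ := M₁) (fun A hA hAD h => ?_) h₂ h₁ hC₂ hpq hn
    rw [inf_comm M₂ M₁] at hAD
    rw [(hP A hA hAD).1 h, inf_comm]
  -- each side has exactly one prime
  have honly : ∀ (X Y : Subgroup G),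
      (∀ p q : ℕ, p.Prime → q.Prime → p ≠ q → Cfsg.pCore p ↥X ≠ ⊥ →
        (Cfsg.pCore q ↥X).map X.subtype ≤ (Cfsg.pCore q ↥Y).map Y.subtype) →
      (∀ p q : ℕ, p.Prime → q.Prime → p ≠ q → Cfsg.pCore p ↥Y ≠ ⊥ →
        (Cfsg.pCore q ↥Y).map Y.subtype ≤ (Cfsg.pCore q ↥X).map X.subtype) →
      ∀ s t : ℕ, s.Prime → t.Prime → Cfsg.pCore s ↥X ≠ ⊥ → Cfsg.pCore t ↥X ≠ ⊥ → s ≠ t →
        (Cfsg.pCore s ↥X).map X.subtype = (Cfsg.pCore s ↥Y).map Y.subtype := by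
    intro X Y hXY hYX s t hs ht hs0 ht0 hst
    refine le_antisymm (hXY t s ht hs (Ne.symm hst) ht0) (hYX t s ht hs (Ne.symm hst) ?_)
    intro h
    have := hXY s t hs ht hst hs0
    rw [h, Subgroup.map_bot, le_bot_iff, Subgroup.map_eq_bot_iff_of_injective _ X.subtype_injective] at this
    exact ht0 this
  have hFne : ∀ M : Subgroup G, Subgroup.centralizer (Cfsg.fittingSubgroup ↥M : Set ↥M) ≤
      Cfsg.fittingSubgroup ↥M → M ≠ ⊥ → ∃ p : ℕ, p.Prime ∧ Cfsg.pCore p ↥M ≠ ⊥ := by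
    intro M hC hM
    by_contra hcon
    have hF : Cfsg.fittingSubgroup ↥M = ⊥ := by
      rw [Cfsg.Agent.Components.fitting_eq_iSup_pCore, iSup_eq_bot]
      intro s
      by_contra h
      exact hcon ⟨s, Nat.prime_of_mem_primeFactors s.2, h⟩
    rw [hF] at hC
    refine hM (eq_bot_iff.mpr fun x hx => ?_)
    have : (⟨x, hx⟩ : M) ∈ (⊥ : Subgroup M) := hC (Subgroup.mem_centralizer_iff.mpr fun y hy => by
      rw [Subgroup.mem_bot.mp hy, one_mul, mul_one])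
    exact congrArg Subtype.val (Subgroup.mem_bot.mp this)
  have hM₁0 : M₁ ≠ ⊥ := by
    intro h
    have h2' : (Cfsg.fittingSubgroup ↥M₂).map M₂.subtype ≤ ⊥ := h ▸ h₂
    have hF : Cfsg.fittingSubgroup ↥M₂ = ⊥ :=
      (Subgroup.map_eq_bot_iff_of_injective _ M₂.subtype_injective).mp (le_bot_iff.mp h2')
    refine hne' ⟨h ▸ bot_le, fun x hx => ?_⟩
    rw [hF] at hC₂
    have : (⟨x, hx⟩ : M₂) ∈ (⊥ : Subgroup M₂) := hC₂ (Subgroup.mem_centralizer_iff.mpr fun y hy => by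
      rw [Subgroup.mem_bot.mp hy, one_mul, mul_one])
    rw [show x = 1 from congrArg Subtype.val (Subgroup.mem_bot.mp this)]
    exact one_mem _
  have hM₂0 : M₂ ≠ ⊥ := by
    intro h
    have h1' : (Cfsg.fittingSubgroup ↥M₁).map M₁.subtype ≤ ⊥ := h ▸ h₁
    have hF : Cfsg.fittingSubgroup ↥M₁ = ⊥ :=
      (Subgroup.map_eq_bot_iff_of_injective _ M₁.subtype_injective).mp (le_bot_iff.mp h1')
    refine hne' ⟨fun x hx => ?_, h ▸ bot_le⟩
    rw [hF] at hC₁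
    have : (⟨x, hx⟩ : M₁) ∈ (⊥ : Subgroup M₁) := hC₁ (Subgroup.mem_centralizer_iff.mpr fun y hy => by
      rw [Subgroup.mem_bot.mp hy, one_mul, mul_one])
    rw [show x = 1 from congrArg Subtype.val (Subgroup.mem_bot.mp this)]
    exact one_mem _
  obtain ⟨p, hp, hp1⟩ := hFne M₁ hC₁ hM₁0
  obtain ⟨q, hq, hq2⟩ := hFne M₂ hC₂ hM₂0
  have hsame : ∀ s : ℕ, s.Prime →
      Cfsg.pCore s ↥M₁ ≠ ⊥ → (Cfsg.pCore s ↥M₁).map M₁.subtype = (Cfsg.pCore s ↥M₂).map M₂.subtype →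
      False := by
    intro s hs hs0 he
    exact hcommon _ (by rwa [Ne, Subgroup.map_eq_bot_iff_of_injective _ M₁.subtype_injective])
      (le_inf (Subgroup.map_subtype_le _) (he ▸ Subgroup.map_subtype_le _))
      (hnorm M₁ _ (Cfsg.Agent.LocalEvenA.pCore_normal' s _))
      (he ▸ hnorm M₂ _ (Cfsg.Agent.LocalEvenA.pCore_normal' s _))
  have one₁ : ∀ s : ℕ, s.Prime → Cfsg.pCore s ↥M₁ ≠ ⊥ → s = p := by
    intro s hs hs0
    by_contra hne
    exact hsame s hs hs0 (honly M₁ M₂ d12 d21 s p hs hp hs0 hp1 hne)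
  have one₂ : ∀ s : ℕ, s.Prime → Cfsg.pCore s ↥M₂ ≠ ⊥ → s = q := by
    intro s hs hs0
    by_contra hne
    have e := honly M₂ M₁ d21 d12 s q hs hq hs0 hq2 hne
    refine hsame s hs ?_ e.symm
    intro h
    rw [h, Subgroup.map_bot, Subgroup.map_eq_bot_iff_of_injective _ M₂.subtype_injective] at e
    exact hs0 e
  have hFp : ∀ (M : Subgroup G) (r : ℕ), r.Prime →
      (∀ s : ℕ, s.Prime → Cfsg.pCore s ↥M ≠ ⊥ → s = r) → Cfsg.fittingSubgroup ↥M ≤ Cfsg.pCore r ↥M := by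
    intro M r hr h
    rw [Cfsg.Agent.Components.fitting_eq_iSup_pCore]
    refine iSup_le fun s => ?_
    by_cases hs : Cfsg.pCore (s : ℕ) ↥M = ⊥
    · rw [hs]; exact bot_le
    · rw [h s (Nat.prime_of_mem_primeFactors s.2) hs]
  have hqp : q = p := by
    by_contra hne
    refine hq2 ?_
    have h := d21 q p hq hp hne hq2
    by_cases hp2 : Cfsg.pCore p ↥M₂ = ⊥
    · haveI := Fact.mk hq
      haveI := Fact.mk hp
      -- `O_q(M₂)` centralizes `F(M₁)`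
      have hQM : (Cfsg.pCore q ↥M₂).map M₂.subtype ≤ M₁ :=
        (Subgroup.map_mono (Cfsg.Agent.Basics.pCore_le_fittingSubgroup q)).trans h₂
      have hc : ∀ a ∈ (Cfsg.pCore q ↥M₂).map M₂.subtype, ∀ b ∈ (Cfsg.pCore p ↥M₁).map M₁.subtype,
          Commute a b := by
        intro a ha b hb
        have hbM : b ∈ M₂ := h₁ (Subgroup.map_mono (Cfsg.Agent.Basics.pCore_le_fittingSubgroup p) hb)
        have h1 : a * b * a⁻¹ * b⁻¹ ∈ (Cfsg.pCore p ↥M₁).map M₁.subtype :=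
          mul_mem ((Subgroup.mem_normalizer_iff.mp (hnorm M₁ _ (Cfsg.Agent.LocalEvenA.pCore_normal' p _)
            (hQM ha)) b).mp hb) (inv_mem hb)
        have h2 : a * b * a⁻¹ * b⁻¹ ∈ (Cfsg.pCore q ↥M₂).map M₂.subtype := by
          rw [show a * b * a⁻¹ * b⁻¹ = a * (b * a⁻¹ * b⁻¹) by group]
          exact mul_mem ha ((Subgroup.mem_normalizer_iff.mp
            (hnorm M₂ _ (Cfsg.Agent.LocalEvenA.pCore_normal' q _) hbM) _).mp (inv_mem ha))
        have hdis := IsPGroup.disjoint_of_ne (G := G) q p hne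
          (H₁ := (Cfsg.pCore q ↥M₂).map M₂.subtype) (H₂ := (Cfsg.pCore p ↥M₁).map M₁.subtype)
          ((Cfsg.Agent.Basics.pCore_isPGroup q).map _) ((Cfsg.Agent.Basics.pCore_isPGroup p).map _)
        exact mul_inv_eq_iff_eq_mul.mp (mul_inv_eq_one.mp
          (Subgroup.mem_bot.mp (hdis.eq_bot ▸ ⟨h2, h1⟩)))
      refine (Subgroup.map_eq_bot_iff_of_injective _ M₂.subtype_injective).mp (eq_bot_iff.mpr ?_)
      intro a ha
      have haF : (⟨a, hQM ha⟩ : M₁) ∈ Cfsg.pCore p ↥M₁ :=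
        hFp M₁ p hp one₁ (hC₁ (Subgroup.mem_centralizer_iff.mpr fun b hb =>
          Subtype.ext (hc a ha b ⟨b, hFp M₁ p hp one₁ hb, rfl⟩).eq.symm))
      have hdis := IsPGroup.disjoint_of_ne (G := G) q p hne
        (H₁ := (Cfsg.pCore q ↥M₂).map M₂.subtype) (H₂ := (Cfsg.pCore p ↥M₁).map M₁.subtype)
        ((Cfsg.Agent.Basics.pCore_isPGroup q).map _) ((Cfsg.Agent.Basics.pCore_isPGroup p).map _)
      exact hdis.eq_bot ▸ ⟨ha, ⟨_, haF, rfl⟩⟩
    · exact absurd (one₂ p hp hp2) (Ne.symm hne)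
  rw [hqp] at one₂
  haveI := Fact.mk hp
  refine ⟨p, hp, ?_, ?_, sup_le ?_ ?_⟩
  · exact (Subgroup.centralizer_le fun x hx => hFp M₁ p hp one₁ hx).trans
      (hC₁.trans (hFp M₁ p hp one₁))
  · exact (Subgroup.centralizer_le fun x hx => hFp M₂ p hp one₂ hx).trans
      (hC₂.trans (hFp M₂ p hp one₂))
  · exact le_inf (Subgroup.map_subtype_le _)
      ((Subgroup.map_mono (Cfsg.Agent.Basics.pCore_le_fittingSubgroup p)).trans h₁)
  · exact le_inf ((Subgroup.map_mono (Cfsg.Agent.Basics.pCore_le_fittingSubgroup p)).trans h₂)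
      (Subgroup.map_subtype_le _)

end Cfsg.Agent.S3752
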