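import Cfsg.Statements.S3753
import Cfsg.Agent.Lib.PairStable23.Core
import Cfsg.Agent.Lib.Transfer.QuadStable
import Cfsg.Agent.Lib.Transfer.SL2Props
-- import your own Cfsg.Agent.* helpers here

set_option autoImplicit false
open Cfsg

namespace Cfsg.Agent.S3753

open Subgroup Cfsg Cfsg.Agent Cfsg.Agent.Transfer Cfsg.Agent.PairStable23
open scoped commutatorElement

set_option linter.style.haveILetI false
set_option linter.unusedSectionVars false

variable {G : Type*} [Group G] [Finite G] {p : ℕ} [hp : Fact p.Prime]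

/-- The core of a subgroup, as a subgroup of the whole group. -/
abbrev coreIn (p : ℕ) (M : Subgroup G) : Subgroup G := (pCore p ↥M).map M.subtype

theorem coreIn_le (M : Subgroup G) : coreIn p M ≤ M := map_subtype_le _

theorem conj_mem_coreIn {M : Subgroup G} {g x : G} (hg : g ∈ M) (hx : x ∈ coreIn p M) :
    g * x * g⁻¹ ∈ coreIn p M := by
  obtain ⟨y, hy, rfl⟩ := hx
  exact ⟨⟨g, hg⟩ * y * ⟨g, hg⟩⁻¹, (inferInstance : (pCore p M).Normal).conj_mem y hy _, rfl⟩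

theorem le_normalizer_coreIn (M : Subgroup G) : M ≤ normalizer (coreIn p M : Set G) := fun g hg =>
  mem_normalizer_iff.mpr fun x => ⟨conj_mem_coreIn hg, fun h => by
    simpa [mul_assoc] using conj_mem_coreIn (M.inv_mem hg) h⟩

theorem coreIn_isPGroup (M : Subgroup G) : IsPGroup p (coreIn p M) := (Basics.pCore_isPGroup p).map _

/-- The hypotheses on one member of the pair. -/
structure Side (p : ℕ) (M : Subgroup G) : Prop where
  st : PStableElts p ↥M
  con : centralizer (pCore p ↥M : Set ↥M) ≤ pCore p ↥M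

theorem Side.le_coreIn {M : Subgroup G} (h : Side p M) {A : Subgroup G} (hAM : A ≤ M) (hAp : IsPGroup p A)
    (hA : ∀ a ∈ A, ∀ b ∈ A, a * b = b * a) (hn : coreIn p M ≤ normalizer (A : Set G)) : A ≤ coreIn p M := by
  intro a ha
  refine ⟨⟨a, hAM ha⟩, le_pCore_of_abelian h.st h.con (A := A.subgroupOf M) hAp.comap_subtype
    (fun b hb c hc => Subtype.ext (hA _ hb _ hc)) ?_ ha, rfl⟩
  intro b hb
  exact mem_normalizer_iff.mpr fun c => mem_normalizer_iff.mp (hn ⟨b, hb, rfl⟩) c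

theorem climb : ∀ (n : ℕ) (M N : Subgroup G), Side p M → Side p N → coreIn p M ≤ N → coreIn p N ≤ M → M ≠ N →
    (∀ A : Subgroup G, A ≠ ⊥ → A ≤ M ⊓ N → M ≤ normalizer (A : Set G) → N ⊓ normalizer (A : Set G) = M ⊓ N) →
    (∀ A : Subgroup G, A ≠ ⊥ → A ≤ M ⊓ N → N ≤ normalizer (A : Set G) → M ⊓ normalizer (A : Set G) = M ⊓ N) →
    ∀ Q : Subgroup G, Q ≠ ⊥ → Q ≤ coreIn p M → Q ≤ coreIn p N → (∀ a ∈ Q, ∀ b ∈ Q, a * b = b * a) →
    N ≤ normalizer (Q : Set G) →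
    (∀ x : G, (x ∈ coreIn p M ∨ x ∈ coreIn p N) → Quad Q x → ∀ v ∈ Q, x * v = v * x) →
    Nat.card G - Nat.card Q = n → False := by
  intro n
  induction n using Nat.strong_induction_on with
  | _ n IH =>
  intro M N hM hN hMN hNM hne hPM hPN Q hQ1 hQM hQN hQc hNQ hQq hn
  have hQD : Q ≤ M ⊓ N := le_inf (hQM.trans (coreIn_le M)) (hQN.trans (coreIn_le N))
  set gens : Set G := {v | ∃ g ∈ M, ∃ q ∈ Q, v = g * q * g⁻¹} with hgens
  set V := closure gens with hV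
  have hQV : Q ≤ V := fun q hq => subset_closure ⟨1, M.one_mem, q, hq, by simp⟩
  have hconjV : ∀ g ∈ M, ∀ v ∈ V, g * v * g⁻¹ ∈ V := by
    intro g hg
    have : V ≤ V.comap (MulAut.conj g).toMonoidHom := (closure_le _).mpr (by
      rintro _ ⟨h, hh, q, hq, rfl⟩
      exact subset_closure ⟨g * h, M.mul_mem hg hh, q, hq, by simp [mul_assoc]⟩)
    exact fun v hv => this hv
  have hMV : M ≤ normalizer (V : Set G) := fun g hg => mem_normalizer_iff.mpr fun v =>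
    ⟨hconjV g hg v, fun h => by simpa [mul_assoc] using hconjV g⁻¹ (M.inv_mem hg) _ h⟩
  have hVM : V ≤ coreIn p M := (closure_le _).mpr (by
    rintro _ ⟨g, hg, q, hq, rfl⟩
    exact conj_mem_coreIn hg (hQM hq))
  have hcq : ∀ h ∈ M, ∀ q ∈ Q, ∀ q' ∈ Q, (h * q' * h⁻¹) * q = q * (h * q' * h⁻¹) := by
    intro h hh q hq q' hq'
    refine hQq _ (Or.inl (conj_mem_coreIn hh (hQM hq'))) ?_ q hq
    refine quad_of_abelian (A := Q.map (MulAut.conj h).toMonoidHom) ?_ (fun x hx => ?_) ⟨q', hq', rfl⟩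
    · rintro _ ⟨a, ha, rfl⟩ _ ⟨b, hb, rfl⟩
      rw [← map_mul, ← map_mul, hQc a ha b hb]
    · have hx' : h⁻¹ * x * h ∈ normalizer (Q : Set G) := by
        have := conj_mem_coreIn (M.inv_mem hh) (hQM hx)
        rw [inv_inv] at this
        exact hNQ (hMN this)
      have hm : ∀ y : G, y ∈ Q.map (MulAut.conj h).toMonoidHom ↔ h⁻¹ * y * h ∈ Q := fun y =>
        ⟨by rintro ⟨a, ha, rfl⟩; simpa [mul_assoc] using ha, fun hy => ⟨_, hy, by simp [mul_assoc]⟩⟩
      refine mem_normalizer_iff.mpr fun a => ?_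
      rw [hm, hm, mem_normalizer_iff.mp hx' (h⁻¹ * a * h)]
      simp [mul_assoc]
  have hgc : ∀ a ∈ gens, ∀ b ∈ gens, a * b = b * a := by
    rintro _ ⟨g, hg, q, hq, rfl⟩ _ ⟨g', hg', q', hq', rfl⟩
    have h1 : Commute ((g⁻¹ * g') * q' * (g⁻¹ * g')⁻¹) q := hcq _ (M.mul_mem (M.inv_mem hg) hg') q hq q' hq'
    have h2 := h1.symm.map (MulAut.conj g).toMonoidHom
    simpa [mul_assoc, Commute, SemiconjBy] using h2
  have hVc : ∀ a ∈ V, ∀ b ∈ V, a * b = b * a := by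
    have h1 : V ≤ centralizer gens := (closure_le _).mpr fun a ha =>
      mem_centralizer_iff.mpr fun b hb => hgc b hb a ha
    have h2 : V ≤ centralizer (V : Set G) := (closure_le _).mpr fun a ha =>
      mem_centralizer_iff.mpr fun b hb => (mem_centralizer_iff.mp (h1 hb) a ha).symm
    exact fun a ha b hb => (mem_centralizer_iff.mp (h2 ha) b hb).symm
  have hVp : IsPGroup p V := (coreIn_isPGroup M).to_le hVM
  have hVN : V ≤ coreIn p N := hN.le_coreIn (hVM.trans hMN) hVp hVc (hNM.trans hMV)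
  have hVq : ∀ x : G, (x ∈ coreIn p M ∨ x ∈ coreIn p N) → Quad V x → ∀ v ∈ V, x * v = v * x := by
    intro x hx hq
    have hxM : x ∈ coreIn p M := by
      rcases hx with hx | hx
      · exact hx
      haveI : (V.subgroupOf M).Normal := ⟨fun a ha b => hconjV b b.2 a ha⟩
      refine ⟨⟨x, hNM hx⟩, mem_pCore_of_quad hM.st (V.subgroupOf M) hVp.comap_subtype
        (R := (coreIn p N).subgroupOf M) (coreIn_isPGroup N).comap_subtype ?_ hx
        (hq.subgroupOf (hVM.trans (coreIn_le M)) (hNM hx)), rfl⟩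
      have hle : centralizer ((V.subgroupOf M : Subgroup M) : Set M) ⊔ pCore p M ≤ N.subgroupOf M := by
        refine sup_le (fun c hc => ?_) (fun c hc => hMN ⟨c, hc, rfl⟩)
        have hcQ : (c : G) ∈ M ⊓ normalizer (Q : Set G) := by
          refine ⟨c.2, centralizer_le_normalizer _ (mem_centralizer_iff.mpr fun v hv => ?_)⟩
          exact congrArg Subtype.val (mem_centralizer_iff.mp hc ⟨v, (hQV.trans (hVM.trans (coreIn_le M))) hv⟩
            (hQV hv))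
        rw [hPN Q hQ1 hQD hNQ] at hcQ
        exact hcQ.2
      intro c hc
      exact mem_normalizer_iff.mpr fun a => mem_normalizer_iff.mp (le_normalizer_coreIn N (hle hc)) a
    have hsub : V ≤ centralizer ({x} : Set G) := (closure_le _).mpr (by
      rintro _ ⟨g, hg, q, hq', rfl⟩
      refine mem_centralizer_singleton_iff.mpr ?_
      have hx' : g⁻¹ * x * g ∈ coreIn p M := by simpa using conj_mem_coreIn (M.inv_mem hg) hxM
      have hqd : Quad Q (g⁻¹ * x * g) := by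
        have h1 := hq.map (MulAut.conj g⁻¹).toMonoidHom
        rw [show (MulAut.conj g⁻¹).toMonoidHom x = g⁻¹ * x * g by simp] at h1
        exact h1.mono fun a ha => ⟨g * a * g⁻¹, subset_closure ⟨g, hg, a, ha, rfl⟩, by simp [mul_assoc]⟩
      have h2 := ((show Commute (g⁻¹ * x * g) q from hQq _ (Or.inl hx') hqd q hq').symm).map
        (MulAut.conj g).toMonoidHom
      simpa [mul_assoc, Commute, SemiconjBy] using h2)
    exact fun v hv => (mem_centralizer_singleton_iff.mp (hsub hv)).symm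
  rcases eq_or_lt_of_le hQV with he | hlt
  · have h1 := hPM Q hQ1 hQD (he ▸ hMV)
    have h2 := hPN Q hQ1 hQD hNQ
    rw [inf_eq_left.mpr hNQ] at h1
    rw [inf_eq_left.mpr (show M ≤ normalizer (Q : Set G) from he ▸ hMV)] at h2
    exact hne (h2.trans h1.symm)
  · refine IH (Nat.card G - Nat.card V) ?_ N M hN hM hNM hMN hne.symm
      (fun A h1 h2 h3 => (hPN A h1 (inf_comm N M ▸ h2) h3).trans (inf_comm M N))
      (fun A h1 h2 h3 => (hPM A h1 (inf_comm N M ▸ h2) h3).trans (inf_comm M N))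
      V (fun e => hQ1 (le_bot_iff.mp (e ▸ hQV))) hVN hVM hVc hMV
      (fun x hx => hVq x hx.symm) rfl
    have h1 := Basics.card_lt_of_lt hlt
    have h2 := Nat.le_of_dvd Nat.card_pos (card_subgroup_dvd_card V)
    omega

theorem eq_bot_of_coreIn {M : Subgroup G} (hc : centralizer (pCore p ↥M : Set ↥M) ≤ pCore p ↥M)
    (h : coreIn p M = ⊥) : M = ⊥ := by
  have h1 : pCore p ↥M = ⊥ := (Subgroup.map_eq_bot_iff_of_injective _ M.subtype_injective).mp h
  refine (eq_bot_iff_forall _).mpr fun x hx => ?_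
  have h2 : (⟨x, hx⟩ : M) ∈ pCore p ↥M := hc (by
    rw [h1]
    exact mem_centralizer_iff.mpr fun y hy => by rw [mem_bot.mp hy]; simp)
  rw [h1, mem_bot] at h2
  exact congrArg Subtype.val h2

theorem side_of_abelian (hp2 : p ≠ 2) {M : Subgroup G} (hc : centralizer (pCore p ↥M : Set ↥M) ≤ pCore p ↥M)
    (hab : ∀ S : Sylow 2 ↥M, IsMulCommutative (S : Subgroup ↥M)) : Side p M := by
  refine ⟨pStableElts_of_not_hasNatPair hp2 fun h => ?_, hc⟩
  obtain ⟨K, L, hn, ⟨e⟩⟩ := h.exists_sl2_section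
  haveI := hn
  obtain ⟨f, hf⟩ := exists_surjective_of_section e
  obtain ⟨S⟩ : Nonempty (Sylow 2 ↥M) := inferInstance
  exact not_isMulCommutative_sylow_two hp2 f hf S (hab S)

theorem le_coreIn_two {M : Subgroup G} (hc : centralizer (pCore 2 ↥M : Set ↥M) ≤ pCore 2 ↥M)
    (hab : ∀ S : Sylow 2 ↥M, IsMulCommutative (S : Subgroup ↥M)) {A : Subgroup G} (hA : IsPGroup 2 A)
    (hAM : A ≤ M) : A ≤ coreIn 2 M := by
  intro a ha
  obtain ⟨S, hS⟩ := (hA.comap_subtype (K := M)).exists_le_sylow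
  refine ⟨⟨a, hAM ha⟩, hc (mem_centralizer_iff.mpr fun y hy => ?_), rfl⟩
  exact congrArg Subtype.val ((hab S).is_comm.comm ⟨y, Basics.pCore_le_sylow 2 S hy⟩ ⟨⟨a, hAM ha⟩, hS ha⟩)

section Final

/-- Two distinct subgroups M₁, M₂ of G form a primitive pair when, for {i, j} = {1, 2}, every non-trivial normal subgroup A of M_i contained in M₁ ∩ M₂ satisfies N_{M_j}(A) = M₁ ∩ M₂; the pair has characteristic p when moreover C_{M_i}(O_p(M_i)) ≤ O_p(M_i) for both i and O_p(M₁)O_p(M₂) ≤ M₁ ∩ M₂. If the finite group G has a primitive pair (M₁, M₂) of characteristic p for some prime p, then M₁ or M₂ has non-abelian Sylow 2-subgroups. In particular no group of odd order has a primitive pair of characteristic p. -/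
theorem result {G : Type*} [Group G] [Finite G] {p : ℕ} [Fact p.Prime] (M₁ M₂ : Subgroup G) (hne : M₁ ≠ M₂) (hP : ∀ A : Subgroup G, A ≠ ⊥ → A ≤ M₁ ⊓ M₂ → (M₁ ≤ Subgroup.normalizer (A : Set G) → M₂ ⊓ Subgroup.normalizer (A : Set G) = M₁ ⊓ M₂) ∧ (M₂ ≤ Subgroup.normalizer (A : Set G) → M₁ ⊓ Subgroup.normalizer (A : Set G) = M₁ ⊓ M₂)) (hc₁ : Subgroup.centralizer (Cfsg.pCore p ↥M₁ : Set ↥M₁) ≤ Cfsg.pCore p ↥M₁) (hc₂ : Subgroup.centralizer (Cfsg.pCore p ↥M₂ : Set ↥M₂) ≤ Cfsg.pCore p ↥M₂) (hO : (Cfsg.pCore p ↥M₁).map M₁.subtype ⊔ (Cfsg.pCore p ↥M₂).map M₂.subtype ≤ M₁ ⊓ M₂) : (∃ S : Sylow 2 ↥M₁, ¬ IsMulCommutative (S : Subgroup ↥M₁)) ∨ (∃ S : Sylow 2 ↥M₂, ¬ IsMulCommutative (S : Subgroup ↥M₂)) := by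
  by_contra! hcon
  obtain ⟨hab₁, hab₂⟩ := hcon
  have hO₁ : coreIn p M₁ ≤ M₂ := (le_sup_left.trans hO).trans inf_le_right
  have hO₂ : coreIn p M₂ ≤ M₁ := (le_sup_right.trans hO).trans inf_le_left
  have hPM : ∀ A : Subgroup G, A ≠ ⊥ → A ≤ M₁ ⊓ M₂ → M₁ ≤ normalizer (A : Set G) →
      M₂ ⊓ normalizer (A : Set G) = M₁ ⊓ M₂ := fun A h1 h2 => (hP A h1 h2).1
  have hPN : ∀ A : Subgroup G, A ≠ ⊥ → A ≤ M₁ ⊓ M₂ → M₂ ≤ normalizer (A : Set G) →
      M₁ ⊓ normalizer (A : Set G) = M₁ ⊓ M₂ := fun A h1 h2 => (hP A h1 h2).2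
  by_cases h0 : coreIn p M₂ = ⊥
  · have h2 := eq_bot_of_coreIn hc₂ h0
    have h1 := eq_bot_of_coreIn hc₁ (le_bot_iff.mp (h2 ▸ hO₁))
    exact hne (h1.trans h2.symm)
  by_cases hp2 : p = 2
  · subst hp2
    have he : coreIn 2 M₁ = coreIn 2 M₂ := le_antisymm
      (le_coreIn_two hc₂ hab₂ (coreIn_isPGroup M₁) hO₁) (le_coreIn_two hc₁ hab₁ (coreIn_isPGroup M₂) hO₂)
    have hD : coreIn 2 M₂ ≤ M₁ ⊓ M₂ := le_inf hO₂ (coreIn_le M₂)
    have hn1 : M₁ ≤ normalizer (coreIn 2 M₂ : Set G) := he ▸ le_normalizer_coreIn M₁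
    have e1 := hPM _ h0 hD hn1
    have e2 := hPN _ h0 hD (le_normalizer_coreIn M₂)
    rw [inf_eq_left.mpr (le_normalizer_coreIn M₂)] at e1
    rw [inf_eq_left.mpr hn1] at e2
    exact hne (e2.trans e1.symm)
  have s1 := side_of_abelian hp2 hc₁ hab₁
  have s2 := side_of_abelian hp2 hc₂ hab₂
  obtain ⟨Q, hQn, hQ1, hQle, hQc, -, hQq⟩ := exists_seed s2.st (fun e => h0 (by
    show (pCore p M₂).map M₂.subtype = ⊥; rw [e, Subgroup.map_bot]))
  have hQN : Q.map M₂.subtype ≤ coreIn p M₂ := map_mono hQle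
  have hNQ : M₂ ≤ normalizer ((Q.map M₂.subtype : Subgroup G) : Set G) := fun g hg =>
    mem_normalizer_iff.mpr fun x => by
      constructor
      · rintro ⟨y, hy, rfl⟩
        exact ⟨⟨g, hg⟩ * y * ⟨g, hg⟩⁻¹, hQn.conj_mem y hy _, rfl⟩
      · rintro ⟨y, hy, hye⟩
        refine ⟨⟨g, hg⟩⁻¹ * y * ⟨g, hg⟩, by simpa using hQn.conj_mem y hy ⟨g, hg⟩⁻¹, ?_⟩
        show g⁻¹ * (y : G) * g = x
        rw [show (y : G) = g * x * g⁻¹ from hye]
        simp [mul_assoc]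
  have hcomm : ∀ a ∈ Q.map M₂.subtype, ∀ b ∈ Q.map M₂.subtype, a * b = b * a := by
    rintro _ ⟨a, ha, rfl⟩ _ ⟨b, hb, rfl⟩
    rw [← map_mul, ← map_mul, hQc a ha b hb]
  refine climb _ M₁ M₂ s1 s2 hO₁ hO₂ hne hPM hPN (Q.map M₂.subtype)
    (fun e => hQ1 ((Subgroup.map_eq_bot_iff_of_injective _ M₂.subtype_injective).mp e))
    (s1.le_coreIn (hQN.trans hO₂) ((coreIn_isPGroup M₂).to_le hQN) hcomm (hO₁.trans hNQ))
    hQN hcomm hNQ ?_ rfl
  rintro x hx hq _ ⟨v, hv, rfl⟩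
  have hx2 : x ∈ M₂ := hx.elim (fun h => hO₁ h) (fun h => coreIn_le M₂ h)
  have hxp : ∃ k, x ^ p ^ k = 1 := hx.elim (pow_eq_one_of_mem (coreIn_isPGroup M₁))
    (pow_eq_one_of_mem (coreIn_isPGroup M₂))
  have hq' := hq.subgroupOf (hQN.trans (coreIn_le M₂)) hx2
  rw [Subgroup.subgroupOf, comap_map_eq_self_of_injective M₂.subtype_injective] at hq'
  obtain ⟨k, hk⟩ := hxp
  exact congrArg Subtype.val (hQq ⟨x, hx2⟩ ⟨k, Subtype.ext hk⟩ hq' v hv)

end Final

end Cfsg.Agent.S3753
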