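import Cfsg.Statements.S3754
import Cfsg.Agent.Lib.Basics.MaxPNilpotent
import Cfsg.Agent.Lib.Coprime23.PSolv
import Cfsg.Agent.Lib.Components.SigLemmas
import Cfsg.Agent.Lib.Transfer.Residual
import Cfsg.Agent.Lib.Basics.Frattini

set_option autoImplicit false
set_option linter.style.haveILetI false
open Cfsg

namespace Cfsg.Agent.S3754

open Subgroup Cfsg.Agent
open scoped commutatorElement

universe u

/-- For `p`-solvable groups with trivial `p`-core the `p'`-core contains its centralizer. -/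
theorem centralizer_pPrimeCore_le_aux {G : Type u} [Group G] [Finite G] {p : ℕ} [hp : Fact p.Prime]
    (hG : Cfsg.IsPSolvable p G) (hO : Cfsg.pCore p G = ⊥) :
    centralizer (Cfsg.pPrimeCore p G : Set G) ≤ Cfsg.pPrimeCore p G := by
  set K := Cfsg.pPrimeCore p G with hK
  haveI : K.Normal := Basics.pPrimeCore_normal p
  set C := centralizer (K : Set G) with hC
  haveI : C.Normal := by rw [hC]; infer_instance
  set Z := K ⊓ C
  haveI : Z.Normal := normal_inf_normal K C
  by_contra hle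
  have hlt : Z < C := lt_of_le_not_ge inf_le_right fun h => hle (h.trans inf_le_left)
  haveI : Nonempty {M : Subgroup G // M.Normal ∧ Z < M ∧ M ≤ C} := ⟨⟨C, inferInstance, hlt, le_rfl⟩⟩
  obtain ⟨⟨M, hMn, hZM, hMC⟩, hmin⟩ :=
    Finite.exists_min fun M : {M : Subgroup G // M.Normal ∧ Z < M ∧ M ≤ C} => Nat.card M.1
  haveI := hMn
  have hchief : ∀ L : Subgroup G, L.Normal → Z ≤ L → L ≤ M → L = Z ∨ L = M := by
    intro L hL hZL hLM
    rcases eq_or_lt_of_le hZL with h | h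
    · exact Or.inl h.symm
    · exact Or.inr (eq_of_le_of_card_ge hLM (hmin ⟨L, hL, h, hLM.trans hMC⟩))
  have hcard : Nat.card M = Nat.card Z * Z.relIndex M := by
    rw [relIndex, ← Nat.card_congr (subgroupOfEquivOfLe hZM.le).toEquiv, card_mul_index]
  rcases Basics.MaxPNilpotent.good_of_isPSolvable hG Z M inferInstance hMn hZM hchief with ⟨k, hk⟩ | hk
  · obtain ⟨P⟩ : Nonempty (Sylow p M) := inferInstance
    have htop : Z.subgroupOf M ⊔ (P : Subgroup M) = ⊤ := by
      rw [← index_eq_one]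
      refine Nat.eq_one_of_dvd_coprimes (Nat.Coprime.pow_left k ((hp.out.coprime_iff_not_dvd).mpr P.not_dvd_index))
        ?_ (index_dvd_of_le le_sup_right)
      rw [← hk, relIndex]
      exact index_dvd_of_le le_sup_left
    have hPn : (P : Subgroup M).Normal := by
      constructor
      intro a ha g
      obtain ⟨z, hz, r, hr, rfl⟩ := (mem_sup_of_normal_left (s := Z.subgroupOf M)
        (t := (P : Subgroup M))).mp (htop ▸ mem_top g)
      have hcomm : Commute z (r * a * r⁻¹) := Subtype.ext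
        (hMC (r * a * r⁻¹ : M).2 (z : G) (mem_inf.mp hz).1)
      rw [show z * r * a * (z * r)⁻¹ = z * (r * a * r⁻¹) * z⁻¹ by simp [mul_assoc],
        mul_inv_eq_iff_eq_mul.mpr hcomm.eq]
      exact mul_mem (mul_mem hr ha) (inv_mem hr)
    haveI := P.characteristic_of_normal hPn
    haveI hPG : ((P : Subgroup M).map M.subtype).Normal := ConjAct.normal_of_characteristic_of_normal
    have hbot := Basics.le_pCore (p := p) (P.2.map M.subtype)
    rw [hO, le_bot_iff, Subgroup.map_eq_bot_iff, M.ker_subtype, le_bot_iff] at hbot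
    rw [hbot, sup_bot_eq, subgroupOf_eq_top] at htop
    exact hZM.not_ge htop
  · have hMK : M ≤ K := by
      refine Basics.le_pPrimeCore ?_
      rw [hcard]
      exact Nat.Coprime.mul_left ((Basics.pPrimeCore_coprime p).coprime_dvd_left
        (card_dvd_of_le inf_le_left)) hk
    exact hZM.not_ge (le_inf hMK hMC)

/-- Let M be a finite p-soluble group and A a p-subgroup of M with Φ(A) ≤ O_p(M) but A ≰ O_p(M). Then there is x ∈ O_{p,p'}(M) such that L = ⟨A, xAx⁻¹⟩ satisfies: x ∈ O^p(L) and O^p(L) ≤ O_{p,p'}(M); [O^p(L), A] = O^p(L); A ∩ O_p(L) has index p in A; and [A ∩ O_p(L), L] ≤ O_p(M). Here O^p(L) is the subgroup generated by the p'-elements of L and O_{p,p'}(M) the preimage of O_{p'}(M/O_p(M)). -/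
theorem result {M : Type*} [Group M] [Finite M] {p : ℕ} [Fact p.Prime] (hM : Cfsg.IsPSolvable p M) (A : Subgroup M) (hA : IsPGroup p A) (hΦ : (frattini ↥A).map A.subtype ≤ Cfsg.pCore p M) (hnot : ¬ A ≤ Cfsg.pCore p M) : ∃ x ∈ (Cfsg.pPrimeCore p (M ⧸ Cfsg.pCore p M)).comap (QuotientGroup.mk' (Cfsg.pCore p M)), x ∈ (Cfsg.pResidual p ↥(A ⊔ A.map (MulAut.conj x).toMonoidHom)).map (A ⊔ A.map (MulAut.conj x).toMonoidHom).subtype ∧ (Cfsg.pResidual p ↥(A ⊔ A.map (MulAut.conj x).toMonoidHom)).map (A ⊔ A.map (MulAut.conj x).toMonoidHom).subtype ≤ (Cfsg.pPrimeCore p (M ⧸ Cfsg.pCore p M)).comap (QuotientGroup.mk' (Cfsg.pCore p M)) ∧ ⁅(Cfsg.pResidual p ↥(A ⊔ A.map (MulAut.conj x).toMonoidHom)).map (A ⊔ A.map (MulAut.conj x).toMonoidHom).subtype, A⁆ = (Cfsg.pResidual p ↥(A ⊔ A.map (MulAut.conj x).toMonoidHom)).map (A ⊔ A.map (MulAut.conj x).toMonoidHom).subtype ∧ (A ⊓ (Cfsg.pCore p ↥(A ⊔ A.map (MulAut.conj x).toMonoidHom)).map (A ⊔ A.map (MulAut.conj x).toMonoidHom).subtype).relIndex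 A = p ∧ ⁅A ⊓ (Cfsg.pCore p ↥(A ⊔ A.map (MulAut.conj x).toMonoidHom)).map (A ⊔ A.map (MulAut.conj x).toMonoidHom).subtype, A ⊔ A.map (MulAut.conj x).toMonoidHom⁆ ≤ Cfsg.pCore p M := by
  have hp : p.Prime := Fact.out
  set R := Cfsg.pCore p M with hR
  haveI : R.Normal := Basics.pCore_normal p
  set f := QuotientGroup.mk' R with hf
  have hfs : Function.Surjective f := QuotientGroup.mk'_surjective R
  have hfker : ∀ {g : M}, f g = 1 ↔ g ∈ R := fun {g} => QuotientGroup.eq_one_iff g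
  set K := Cfsg.pPrimeCore p (M ⧸ R) with hK
  haveI : K.Normal := Basics.pPrimeCore_normal p
  have hKcent : centralizer (K : Set (M ⧸ R)) ≤ K :=
    centralizer_pPrimeCore_le_aux (Coprime23.isPSolvable_map f hfs hM) (Basics.pCore_quotient_eq_bot p)
  have hKp : ¬ p ∣ Nat.card K := Basics.not_dvd_card_pPrimeCore p
  have hKel : ∀ w ∈ K, (∃ i, w ^ p ^ i = 1) → w = 1 := by
    rintro w hw ⟨i, hi⟩
    exact orderOf_eq_one_iff.mp (Nat.eq_one_of_dvd_coprimes
      (Nat.Coprime.pow_left i ((hp.coprime_iff_not_dvd).mpr hKp))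
      (orderOf_dvd_of_pow_eq_one hi) (Subgroup.orderOf_dvd_natCard K hw))
  set Ab := A.map f with hAb
  haveI : Group.IsNilpotent A := hA.isNilpotent
  have hΦmem : ∀ g ∈ frattini A, (g : M) ∈ R := fun g hg => hΦ ⟨g, hg, rfl⟩
  have hAbE : Cfsg.IsElementaryAbelian p Ab := by
    have hel := Basics.pow_mem_frattini hA
    have hcm : ∀ a b : A, ⁅a, b⁆ ∈ frattini A := fun a b =>
      Basics.commutator_le_frattini (commutator_mem_commutator (mem_top a) (mem_top b))
    refine ⟨⟨⟨fun u v => Subtype.ext ?_⟩⟩, ?_⟩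
    · obtain ⟨a, ha, hau⟩ := u.2
      obtain ⟨b, hb, hbv⟩ := v.2
      show (u : M ⧸ R) * v = v * u
      rw [← hau, ← hbv]
      refine commutatorElement_eq_one_iff_commute.mp ?_
      rw [← map_commutatorElement, hfker]
      exact hΦmem _ (hcm ⟨a, ha⟩ ⟨b, hb⟩)
    · rintro _ ⟨a, ha, rfl⟩
      rw [← map_pow, hfker]
      exact hΦmem _ (hel ⟨a, ha⟩)
  haveI := hAbE.1
  have hAbK : ∀ u ∈ Ab, u ∈ K → u = 1 := fun u hu huK => hKel u huK ⟨1, by rw [pow_one]; exact hAbE.2 u hu⟩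
  have hAbcomm : ∀ u ∈ Ab, ∀ v ∈ Ab, Commute u v := fun u hu v hv =>
    congrArg Subtype.val (mul_comm' (⟨u, hu⟩ : Ab) ⟨v, hv⟩)
  obtain ⟨u₀, hu₀, hu₀K⟩ : ∃ u ∈ Ab, u ≠ 1 := by
    by_contra! hh
    exact hnot fun a ha => hfker.mp (hh _ ⟨a, ha, rfl⟩)
  -- a hyperplane with a moving fixed point
  obtain ⟨B, hBA, hBi, hBne⟩ : ∃ B : Subgroup (M ⧸ R), B ≤ Ab ∧ B.relIndex Ab = p ∧
      ∃ c ∈ K ⊓ centralizer (B : Set (M ⧸ R)), ∃ v ∈ Ab, ¬ Commute v c := by
    obtain ⟨w, hw, v, hv, hwv⟩ : ∃ w ∈ K, ∃ v ∈ Ab, ¬ Commute v w := by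
      by_contra! hh
      exact hu₀K (hAbK u₀ hu₀ (hKcent fun w hw => (hh w hw u₀ hu₀).eq.symm))
    obtain ⟨m, hm⟩ := IsPGroup.iff_card.mp (hA.map f)
    by_cases h2 : p ^ 2 ≤ Nat.card Ab
    · by_contra! hh
      have hle : K ≤ centralizer (Ab : Set (M ⧸ R)) := by
        refine (Cfsg.Agent.Components.le_iSup_centralizer_index_eq hAbE h2 hKp
          (by rw [normalizer_eq_top_iff.mpr (inferInstance : K.Normal)]; exact le_top)).trans
          (iSup_le fun B => ?_)
        exact fun c hc v hv => (hh B.1 B.2.1 B.2.2 c hc v hv).eq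
      exact hwv (hle hw v hv)
    · have hm1 : m = 1 := by
        rcases lt_trichotomy m 1 with h | h | h
        · exfalso
          have : Ab = ⊥ := card_eq_one.mp (by rw [hm, Nat.lt_one_iff.mp h, pow_zero])
          exact hu₀K (mem_bot.mp (this ▸ hu₀))
        · exact h
        · exact absurd (hm ▸ Nat.pow_le_pow_right hp.pos h) h2
      exact ⟨⊥, bot_le, by rw [relIndex_bot_left, hm, hm1, pow_one],
        w, ⟨hw, fun b hb => by simp_all⟩, v, hv, hwv⟩
  -- a minimal invariant subgroup moved by `A`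
  obtain ⟨c₀, hc₀, v₀, hv₀, hcv₀⟩ := hBne
  have hAbN : ∀ u ∈ Ab, ∀ c ∈ K ⊓ centralizer (B : Set (M ⧸ R)),
      u * c * u⁻¹ ∈ K ⊓ centralizer (B : Set (M ⧸ R)) := by
    intro u hu c hc
    refine ⟨(inferInstance : K.Normal).conj_mem c hc.1 u, fun b hb => ?_⟩
    have h1 : Commute u b := hAbcomm u hu b (hBA hb)
    have h2 : Commute b c := hc.2 b hb
    exact ((h1.symm.mul_right h2).mul_right h1.symm.inv_right).eq
  haveI : Nonempty {S : Subgroup (M ⧸ R) // S ≤ K ⊓ centralizer (B : Set (M ⧸ R)) ∧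
      Ab ≤ normalizer (S : Set (M ⧸ R)) ∧ ∃ c ∈ S, ∃ v ∈ Ab, ¬ Commute v c} := by
    refine ⟨⟨_, le_rfl, fun u hu => ?_, c₀, hc₀, v₀, hv₀, hcv₀⟩⟩
    rw [mem_normalizer_iff]
    intro c
    refine ⟨hAbN u hu c, fun h => ?_⟩
    have := hAbN u⁻¹ (inv_mem hu) _ h
    simpa [mul_assoc] using this
  obtain ⟨⟨X, hXK, hXA, c₁, hc₁, v₁, hv₁, hcv₁⟩, hmin⟩ := Finite.exists_min
    fun S : {S : Subgroup (M ⧸ R) // S ≤ K ⊓ centralizer (B : Set (M ⧸ R)) ∧
      Ab ≤ normalizer (S : Set (M ⧸ R)) ∧ ∃ c ∈ S, ∃ v ∈ Ab, ¬ Commute v c} => Nat.card S.1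
  have hXmin : ∀ S : Subgroup (M ⧸ R), S ≤ X → Ab ≤ normalizer (S : Set (M ⧸ R)) →
      (∃ c ∈ S, ∃ v ∈ Ab, ¬ Commute v c) → S = X := fun S hS hSA hne =>
    eq_of_le_of_card_ge hS (hmin ⟨S, hS.trans hXK, hSA, hne⟩)
  let L : M → Subgroup M := fun x => A ⊔ A.map (MulAut.conj x).toMonoidHom
  -- the image of `L x`
  have himage : ∀ x : M, f x ∈ X → (∃ v ∈ Ab, ¬ Commute v (f x)) → (L x).map f = X ⊔ Ab := by
    rintro x hxX ⟨v, hv, hvx⟩
    have hAL : Ab ≤ (L x).map f := map_mono le_sup_left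
    have hAxL : ∀ u ∈ Ab, f x * u * (f x)⁻¹ ∈ (L x).map f := by
      rintro _ ⟨a, ha, rfl⟩
      refine ⟨x * a * x⁻¹, mem_sup_right ⟨a, ha, rfl⟩, ?_⟩
      simp
    refine le_antisymm ?_ (sup_le ?_ hAL)
    · rw [Subgroup.map_sup]
      refine sup_le le_sup_right ?_
      rintro _ ⟨_, ⟨a, ha, rfl⟩, rfl⟩
      show f (x * a * x⁻¹) ∈ X ⊔ Ab
      rw [map_mul, map_mul, map_inv]
      exact mul_mem (mul_mem (mem_sup_left hxX) (mem_sup_right ⟨a, ha, rfl⟩))
        (inv_mem (mem_sup_left hxX))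
    · set c := f x * v * (f x)⁻¹ * v⁻¹ with hc
      have hcX : c ∈ X := by
        have h1 : v * (f x)⁻¹ * v⁻¹ ∈ X := (mem_normalizer_iff.mp (hXA hv) _).mp (X.inv_mem hxX)
        have := X.mul_mem hxX h1
        simpa [hc, mul_assoc] using this
      have hS : (L x).map f ⊓ X = X := by
        refine hXmin _ inf_le_right (fun u hu => ?_) ⟨c, ⟨?_, hcX⟩, v, hv, fun hvc => ?_⟩
        · rw [mem_normalizer_iff]
          intro w
          have hu' := hAL hu
          constructor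
          · rintro ⟨h1, h2⟩
            exact ⟨((L x).map f).mul_mem (((L x).map f).mul_mem hu' h1) (((L x).map f).inv_mem hu'),
              (mem_normalizer_iff.mp (hXA hu) w).mp h2⟩
          · rintro ⟨h1, h2⟩
            refine ⟨?_, (mem_normalizer_iff.mp (hXA hu) w).mpr h2⟩
            have := ((L x).map f).mul_mem (((L x).map f).mul_mem (((L x).map f).inv_mem hu') h1) hu'
            simpa [mul_assoc] using this
        · exact ((L x).map f).mul_mem (hAxL v hv) (((L x).map f).inv_mem (hAL hv))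
        · have h1 : v * (f x)⁻¹ * v⁻¹ = (f x)⁻¹ * c := by simp [hc, mul_assoc]
          have h2 : ∀ n : ℕ, v ^ n * (f x)⁻¹ * (v ^ n)⁻¹ = (f x)⁻¹ * c ^ n := by
            intro n
            induction n with
            | zero => simp
            | succ n ih =>
              calc v ^ (n + 1) * (f x)⁻¹ * (v ^ (n + 1))⁻¹
                  = v * (v ^ n * (f x)⁻¹ * (v ^ n)⁻¹) * v⁻¹ := by rw [pow_succ']; simp [mul_assoc]
                _ = (v * (f x)⁻¹ * v⁻¹) * (v * c ^ n * v⁻¹) := by rw [ih]; simp [mul_assoc]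
                _ = (f x)⁻¹ * c ^ (n + 1) := by
                    rw [h1, mul_inv_eq_iff_eq_mul.mpr (hvc.pow_right n).eq, pow_succ', mul_assoc]
          have h3 := h2 p
          rw [hAbE.2 v hv, one_mul, inv_one, mul_one, left_eq_mul] at h3
          have hc1 : c = 1 := hKel c (hXK hcX).1 ⟨1, by rw [pow_one]; exact h3⟩
          rw [hc1, mul_one] at h1
          have hc' : Commute v (f x)⁻¹ := mul_inv_eq_iff_eq_mul.mp h1
          exact hvx (by simpa using hc'.inv_right)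
      exact hS.ge.trans inf_le_left
  obtain ⟨x₁, hx₁⟩ := hfs c₁
  haveI : Nonempty {x : M // f x ∈ X ∧ ∃ v ∈ Ab, ¬ Commute v (f x)} :=
    ⟨⟨x₁, hx₁ ▸ hc₁, v₁, hv₁, hx₁ ▸ hcv₁⟩⟩
  obtain ⟨⟨x₂, hx₂X, hx₂v⟩, hLmin⟩ := Finite.exists_min
    fun x : {x : M // f x ∈ X ∧ ∃ v ∈ Ab, ¬ Commute v (f x)} => Nat.card (L x.1)
  -- the residual lies over `X` and covers it
  have hres : ∀ x : M, f x ∈ X → (∃ v ∈ Ab, ¬ Commute v (f x)) →
      ((Cfsg.pResidual p ↥(L x)).map (L x).subtype).map f = X := by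
    intro x hxX hxv
    refine le_antisymm ?_ ?_
    · rw [Subgroup.map_map, Subgroup.map_le_iff_le_comap]
      refine (closure_le _).mpr fun w hw => ?_
      show f w ∈ X
      obtain ⟨u, hu, v, hv, huv⟩ := (Basics.mem_sup_of_le_normalizer hXA).mp
        (himage x hxX hxv ▸ mem_map_of_mem f w.2)
      have hpow : ∀ n : ℕ, ∃ u' ∈ X, (f w) ^ n = u' * v ^ n := by
        intro n
        induction n with
        | zero => exact ⟨1, one_mem _, by simp⟩
        | succ n ih =>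
          obtain ⟨u', hu', he⟩ := ih
          refine ⟨u' * (v ^ n * u * (v ^ n)⁻¹), mul_mem hu'
            ((mem_normalizer_iff.mp (hXA (pow_mem hv n)) u).mp hu), ?_⟩
          rw [pow_succ, he, huv, pow_succ]
          simp [mul_assoc]
      obtain ⟨u', hu', he⟩ := hpow p
      rw [hAbE.2 v hv, mul_one] at he
      have hco : (orderOf (f w)).Coprime p := by
        refine Nat.Coprime.coprime_dvd_left ?_ hw
        rw [← orderOf_coe w]
        exact orderOf_map_dvd f _
      obtain ⟨m, hm⟩ := exists_pow_eq_self_of_coprime (Nat.coprime_comm.mp hco)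
      rw [← hm]
      exact pow_mem (he ▸ hu') m
    · intro u hu
      obtain ⟨l, hl, rfl⟩ : u ∈ (L x).map f := (himage x hxX hxv).ge (mem_sup_left hu)
      obtain ⟨a, b, ha, -, hab, ⟨k, hk⟩, hb⟩ := Cfsg.Agent.Transfer.exists_pPart_mul (p := p) l
      refine ⟨b, ⟨⟨b, ?_⟩, ?_, rfl⟩, ?_⟩
      · have : a⁻¹ * l ∈ L x := mul_mem (inv_mem (zpowers_le.mpr hl ha)) hl
        rw [← hab] at this
        simpa using this
      · exact Cfsg.Agent.Transfer.mem_pResidual_of_coprime (by rw [orderOf_mk]; exact hb)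
      · have h1 : f a = 1 := by
          refine hKel _ ?_ ⟨k, ?_⟩
          · obtain ⟨i, rfl⟩ := ha
            exact (hXK (by simpa using X.zpow_mem hu i)).1
          · rw [← map_pow]
            exact (congrArg f (orderOf_dvd_iff_pow_eq_one.mp hk)).trans (map_one f)
        rw [← hab, map_mul, h1, one_mul]
  obtain ⟨x, hxE, hxe⟩ : f x₂ ∈ ((Cfsg.pResidual p ↥(L x₂)).map (L x₂).subtype).map f := by
    rw [hres x₂ hx₂X hx₂v]; exact hx₂X
  have hxX : f x ∈ X := hxe ▸ hx₂X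
  have hxv : ∃ v ∈ Ab, ¬ Commute v (f x) := hxe ▸ hx₂v
  have hxL : x ∈ L x₂ := map_subtype_le _ hxE
  have hLeq : L x = L x₂ := by
    refine eq_of_le_of_card_ge (sup_le le_sup_left ?_) (hLmin ⟨x, hxX, hxv⟩)
    rintro _ ⟨a, ha, rfl⟩
    exact mul_mem (mul_mem hxL (mem_sup_left ha)) (inv_mem hxL)
  rw [← hLeq] at hxE
  have hEK := hres x hxX hxv
  have him := himage x hxX hxv
  refine ⟨x, (hXK hxX).1, hxE, ?_, ?_, ?_, ?_⟩
  · intro w hw
    exact (hXK (hEK ▸ mem_map_of_mem f hw)).1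
  · -- the commutator with `A`
    set E := (Cfsg.pResidual p ↥(L x)).map (L x).subtype with hE
    haveI : (Cfsg.pResidual p ↥(L x)).Normal := inferInstance
    have hEn : ∀ l ∈ L x, ∀ e ∈ E, l * e * l⁻¹ ∈ E := by
      rintro l hl _ ⟨e, he, rfl⟩
      exact ⟨(⟨l, hl⟩ : L x) * e * (⟨l, hl⟩ : L x)⁻¹,
        (inferInstance : (Cfsg.pResidual p ↥(L x)).Normal).conj_mem e he _, rfl⟩
    have hle : ⁅E, A⁆ ≤ E := by
      rw [commutator_le]
      intro e he a ha
      rw [commutatorElement_def, mul_assoc, mul_assoc, ← mul_assoc a]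
      exact mul_mem he (hEn a (mem_sup_left ha) _ (inv_mem he))
    refine le_antisymm hle ?_
    have hNL : ⁅E, A⁆ ≤ L x := hle.trans (map_subtype_le _)
    have hgen : ∀ g ∈ L x, (∀ e ∈ E, ∀ a ∈ A, g * ⁅e, a⁆ * g⁻¹ ∈ ⁅E, A⁆) →
        ∀ n ∈ ⁅E, A⁆, g * n * g⁻¹ ∈ ⁅E, A⁆ := by
      intro g _ hg n hn
      have : ⁅E, A⁆ ≤ ⁅E, A⁆.comap (MulAut.conj g).toMonoidHom := commutator_le.mpr hg
      exact this hn
    have hA' : ∀ g ∈ A, ∀ n ∈ ⁅E, A⁆, g * n * g⁻¹ ∈ ⁅E, A⁆ := fun g hg =>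
      hgen g (mem_sup_left hg) fun e he a ha => by
        rw [show g * ⁅e, a⁆ * g⁻¹ = ⁅g * e * g⁻¹, g * a * g⁻¹⁆ from
          map_commutatorElement (MulAut.conj g).toMonoidHom e a]
        exact commutator_mem_commutator (hEn g (mem_sup_left hg) e he)
          (mul_mem (mul_mem hg ha) (inv_mem hg))
    have hE' : ∀ g ∈ E, ∀ n ∈ ⁅E, A⁆, g * n * g⁻¹ ∈ ⁅E, A⁆ := fun g hg =>
      hgen g (map_subtype_le _ hg) fun e he a ha => by
        rw [show g * ⁅e, a⁆ * g⁻¹ = ⁅g * e, a⁆ * ⁅g, a⁆⁻¹ by simp [commutatorElement_def, mul_assoc]]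
        exact mul_mem (commutator_mem_commutator (mul_mem hg he) ha)
          (inv_mem (commutator_mem_commutator hg ha))
    haveI hNn : (⁅E, A⁆.subgroupOf (L x)).Normal := by
      constructor
      intro n hn g
      show (g : M) * n * (g : M)⁻¹ ∈ ⁅E, A⁆
      have hg : (g : M) ∈ A ⊔ A.map (MulAut.conj x).toMonoidHom := g.2
      rw [← Subgroup.closure_eq A, MonoidHom.map_closure, ← Subgroup.closure_union] at hg
      suffices ∀ m ∈ ⁅E, A⁆, (g : M) * m * (g : M)⁻¹ ∈ ⁅E, A⁆ ∧ (g : M)⁻¹ * m * (g : M) ∈ ⁅E, A⁆ from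
        (this n hn).1
      refine closure_induction (p := fun g _ => ∀ m ∈ ⁅E, A⁆, g * m * g⁻¹ ∈ ⁅E, A⁆ ∧ g⁻¹ * m * g ∈ ⁅E, A⁆)
        ?_ ?_ ?_ ?_ hg
      · rintro g (hg | ⟨a, ha, rfl⟩) m hm
        · exact ⟨hA' g hg m hm, by simpa using hA' g⁻¹ (inv_mem hg) m hm⟩
        · have key : ∀ b ∈ A, (x * b * x⁻¹) * m * (x * b * x⁻¹)⁻¹ ∈ ⁅E, A⁆ := fun b hb => by
            have h1 := hE' x⁻¹ (inv_mem hxE) m hm
            have h2 := hA' b hb _ h1
            have h3 := hE' x hxE _ h2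
            simpa [mul_assoc] using h3
          refine ⟨key a ha, ?_⟩
          have := key a⁻¹ (inv_mem ha)
          simpa [mul_assoc] using this
      · intro m hm; simpa using hm
      · intro g g' _ _ h h' m hm
        refine ⟨?_, ?_⟩
        · have := (h _ (h' m hm).1).1; simpa [mul_assoc] using this
        · have := (h' _ (h m hm).2).2; simpa [mul_assoc] using this
      · intro g _ h m hm
        exact ⟨by simpa using (h m hm).2, by simpa using (h m hm).1⟩
    have hq : IsPGroup p (↥(L x) ⧸ ⁅E, A⁆.subgroupOf (L x)) := by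
      set π := QuotientGroup.mk' (⁅E, A⁆.subgroupOf (L x)) with hπ
      have htop : (A.subgroupOf (L x)).map π = ⊤ := by
        rw [eq_top_iff]
        rintro q -
        obtain ⟨g, rfl⟩ := QuotientGroup.mk'_surjective _ q
        have hg : (g : M) ∈ A ⊔ A.map (MulAut.conj x).toMonoidHom := g.2
        suffices L x ≤ (((A.subgroupOf (L x)).map π).comap π).map (L x).subtype from by
          obtain ⟨g', hg', he⟩ := this g.2
          rwa [show g' = g from Subtype.ext he] at hg'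
        refine sup_le (fun a ha => ⟨⟨a, mem_sup_left ha⟩, ⟨⟨a, mem_sup_left ha⟩, ha, rfl⟩, rfl⟩) ?_
        rintro _ ⟨a, ha, rfl⟩
        refine ⟨⟨x * a * x⁻¹, mem_sup_right ⟨a, ha, rfl⟩⟩, ⟨⟨a, mem_sup_left ha⟩, ha, ?_⟩, rfl⟩
        refine QuotientGroup.eq.mpr ?_
        show a⁻¹ * (x * a * x⁻¹) ∈ ⁅E, A⁆
        have h1 := hA' a⁻¹ (inv_mem ha) _ (commutator_mem_commutator hxE ha)
        simpa [commutatorElement_def, mul_assoc] using h1
      refine IsPGroup.of_equiv ?_ Subgroup.topEquiv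
      rw [← htop]
      exact (hA.comap_subtype (K := L x)).map π
    rintro _ ⟨e, he, rfl⟩
    exact Cfsg.Agent.Transfer.pResidual_le_of_isPGroup_quotient _ hq he
  · -- the index
    set D := (Cfsg.pCore p ↥(L x)).map (L x).subtype with hD
    have hBcent : ∀ b ∈ B, ∀ l ∈ L x, Commute b (f l) := by
      intro b hb l hl
      have : (L x).map f ≤ centralizer ({b} : Set (M ⧸ R)) := by
        rw [him]
        refine sup_le (fun u hu => mem_centralizer_singleton_iff.mpr ((hXK hu).2 b hb).symm)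
          fun u hu => mem_centralizer_singleton_iff.mpr (hAbcomm u hu b (hBA hb)).eq
      exact (mem_centralizer_singleton_iff.mp (this (mem_map_of_mem f hl))).symm
    have hsub : A ⊓ B.comap f ≤ A ⊓ D := by
      refine le_inf inf_le_left fun a ha => ?_
      haveI : ((B.comap f).subgroupOf (L x)).Normal := ⟨fun b hb g => by
        show f ((g : M) * b * (g : M)⁻¹) ∈ B
        rw [map_mul, map_mul, map_inv, mul_inv_eq_iff_eq_mul.mpr (hBcent (f b) hb g g.2).eq.symm]
        exact hb⟩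
      have hp' : IsPGroup p ((B.comap f).subgroupOf (L x)) := by
        refine IsPGroup.comap_subtype ?_
        exact ((hA.map f).to_le hBA).comap_of_ker_isPGroup f
          (by rw [hf, QuotientGroup.ker_mk']; exact Basics.pCore_isPGroup p)
      exact ⟨⟨a, mem_sup_left ha.1⟩, Basics.le_pCore hp' ha.2, rfl⟩
    have hBidx : (A ⊓ B.comap f).relIndex A = p := by
      rw [inf_relIndex_left, relIndex_comap, hBi]
    have hdvd : (A ⊓ D).relIndex A ∣ p := hBidx ▸ relIndex_dvd_of_le_left A hsub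
    rcases (Nat.dvd_prime hp).mp hdvd with h | h
    · exfalso
      rw [relIndex_eq_one] at h
      obtain ⟨v, ⟨a, ha, rfl⟩, hvx⟩ := hxv
      have haD : a ∈ D := (h ha).2
      obtain ⟨a', ha', hae⟩ := haD
      have haL : (⟨x, map_subtype_le _ hxE⟩ : L x) * a' * (⟨x, map_subtype_le _ hxE⟩ : L x)⁻¹ * a'⁻¹ ∈
          Cfsg.pCore p ↥(L x) :=
        mul_mem ((Basics.pCore_normal p).conj_mem a' ha' _) (inv_mem ha')
      obtain ⟨i, hi⟩ := Basics.pCore_isPGroup p ⟨_, haL⟩
      have hi' : (x * a * x⁻¹ * a⁻¹) ^ p ^ i = 1 := by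
        have := congrArg (fun t => (((t : Cfsg.pCore p ↥(L x)) : L x) : M)) hi
        have e : (a' : M) = a := hae
        simpa [e] using this
      have hcX : f (x * a * x⁻¹ * a⁻¹) ∈ X := by
        have h1 : f a * (f x)⁻¹ * (f a)⁻¹ ∈ X :=
          (mem_normalizer_iff.mp (hXA ⟨a, ha, rfl⟩) _).mp (X.inv_mem hxX)
        have := X.mul_mem hxX h1
        simpa [mul_assoc] using this
      have hone := hKel _ (hXK hcX).1 ⟨i, by rw [← map_pow, hi', map_one]⟩
      apply hvx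
      simp only [map_mul, map_inv, mul_inv_eq_one] at hone
      exact (mul_inv_eq_iff_eq_mul.mp hone : f x * f a = f a * f x).symm
    · exact h
  · set D := (Cfsg.pCore p ↥(L x)).map (L x).subtype with hD
    rw [commutator_le]
    intro a ha l hl
    refine hfker.mp ?_
    rw [map_commutatorElement, commutatorElement_eq_one_iff_commute]
    have hBcent : (L x).map f ≤ centralizer (B : Set (M ⧸ R)) := by
      rw [him]
      exact sup_le (fun u hu => (hXK hu).2) fun u hu b hb => (hAbcomm b (hBA hb) u hu).eq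
    suffices f a ∈ B from hBcent (mem_map_of_mem f hl) (f a) this
    have hD' : IsPGroup p D := (Basics.pCore_isPGroup p).map _
    obtain ⟨v, hv, hvx⟩ := hxv
    by_contra haB
    -- otherwise `A` would be contained in the core
    have hgen : B ⊔ zpowers (f a) = Ab := by
      refine eq_of_le_of_card_ge (sup_le hBA (zpowers_le.mpr ⟨a, ha.1, rfl⟩)) ?_
      have hd : (B ⊔ zpowers (f a)).relIndex Ab ∣ p := hBi ▸ relIndex_dvd_of_le_left Ab le_sup_left
      rcases (Nat.dvd_prime hp).mp hd with h | h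
      · exact card_le_of_le (relIndex_eq_one.mp h)
      · exfalso
        have h2 := relIndex_mul_relIndex B (B ⊔ zpowers (f a)) Ab le_sup_left
          (sup_le hBA (zpowers_le.mpr ⟨a, ha.1, rfl⟩))
        rw [hBi, h] at h2
        have h3 : B.relIndex (B ⊔ zpowers (f a)) = 1 := by nlinarith [hp.pos]
        exact haB (relIndex_eq_one.mp h3 (mem_sup_right (mem_zpowers _)))
    have hcomm : Commute (f a) (f x) := by
      obtain ⟨a', ha', hae⟩ := ha.2
      have haL : (⟨x, map_subtype_le _ hxE⟩ : L x) * a' * (⟨x, map_subtype_le _ hxE⟩ : L x)⁻¹ * a'⁻¹ ∈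
          Cfsg.pCore p ↥(L x) :=
        mul_mem ((Basics.pCore_normal p).conj_mem a' ha' _) (inv_mem ha')
      obtain ⟨i, hi⟩ := Basics.pCore_isPGroup p ⟨_, haL⟩
      have hi' : (x * a * x⁻¹ * a⁻¹) ^ p ^ i = 1 := by
        have := congrArg (fun t => (((t : Cfsg.pCore p ↥(L x)) : L x) : M)) hi
        have e : (a' : M) = a := hae
        simpa [e] using this
      have hcX : f (x * a * x⁻¹ * a⁻¹) ∈ X := by
        have h1 : f a * (f x)⁻¹ * (f a)⁻¹ ∈ X :=
          (mem_normalizer_iff.mp (hXA ⟨a, ha.1, rfl⟩) _).mp (X.inv_mem hxX)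
        have := X.mul_mem hxX h1
        simpa [mul_assoc] using this
      have hone := hKel _ (hXK hcX).1 ⟨i, by rw [← map_pow, hi', map_one]⟩
      simp only [map_mul, map_inv, mul_inv_eq_one] at hone
      exact (mul_inv_eq_iff_eq_mul.mp hone : f x * f a = f a * f x).symm
    apply hvx
    have : Ab ≤ centralizer ({f x} : Set (M ⧸ R)) := by
      rw [← hgen]
      exact sup_le (fun b hb => mem_centralizer_singleton_iff.mpr ((hXK hxX).2 b hb))
        (zpowers_le.mpr (mem_centralizer_singleton_iff.mpr hcomm.eq))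
    exact mem_centralizer_singleton_iff.mp (this hv)

end Cfsg.Agent.S3754
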