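import Cfsg.Statements.S3755
import Cfsg.Agent.Lib.Components.ThompsonDihedral
import Cfsg.Agent.Lib.ClassK.AxB
import Cfsg.Agent.Lib.ClassK.ThreeTranspS3
import Cfsg.Agent.Lib.SL2Dickson.Involve
import Cfsg.Agent.Lib.Basics.Cores
import Cfsg.Agent.Lib.LocalEvenB.FixedOrder

set_option autoImplicit false
open Cfsg

namespace Cfsg.Agent.S3755

open Subgroup

variable {G : Type*} [Group G] [Finite G]

theorem involves_S3 {M : Subgroup G} {a y : G} (ha : a ∈ M) (hy : y ∈ M) (haa : a * a = 1)
    (hy3 : y ^ 3 = 1) (hy1 : y ≠ 1) (hay : a * y * a = y⁻¹) :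
    Cfsg.Involves (Equiv.Perm (Fin 3)) ↥M := by
  let u : M := ⟨a, ha⟩
  let v : M := ⟨a * y, mul_mem ha hy⟩
  have huv : u * v = ⟨y, hy⟩ := Subtype.ext (by
    show a * (a * y) = y
    rw [← mul_assoc, haa, one_mul])
  obtain ⟨φ⟩ := Cfsg.Agent.ClassK.key_pair u v (Subtype.ext haa)
    (Subtype.ext (by
      show a * y * (a * y) = 1
      rw [← mul_assoc, hay, inv_mul_cancel]))
    (fun h => hy1 (by
      have h' : a = a * y := congrArg Subtype.val h
      exact mul_left_cancel (h'.symm.trans (mul_one a).symm)))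
    (by rw [huv]; exact Subtype.ext hy3)
  obtain ⟨ψ⟩ := Cfsg.Agent.ClassK.key_pair (Equiv.swap (0 : Fin 3) 1) (Equiv.swap 1 2)
    (by decide) (by decide) (by decide) (by decide)
  have htop : Subgroup.closure ({Equiv.swap (0 : Fin 3) 1, Equiv.swap 1 2} :
      Set (Equiv.Perm (Fin 3))) = ⊤ := by
    refine Subgroup.eq_top_of_card_eq _ ?_
    rw [Nat.card_congr ψ.toEquiv, DihedralGroup.nat_card, Nat.card_perm, Nat.card_fin]
    rfl
  let e := φ.trans (ψ.symm.trans ((MulEquiv.subgroupCongr htop).trans Subgroup.topEquiv))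
  exact Cfsg.Agent.SL2Dickson.involves_of_hom (Subgroup.closure ({u, v} : Set M)).subtype
    (Subgroup.subtype_injective _) e.toMonoidHom e.surjective

/-- Without `S₃` sections, a fixed-point space of an elementary abelian 2-group is small. -/
theorem bound {M V K A : Subgroup G} (hV : Cfsg.IsElementaryAbelian 2 V)
    (hMV : M ≤ Subgroup.normalizer (V : Set G))
    (hfaith : M ⊓ Subgroup.centralizer (V : Set G) = ⊥) (hAM : A ≤ M)
    (hA : Cfsg.IsElementaryAbelian 2 A) (hKM : K ≤ M) (hK : Odd (Nat.card K))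
    (hAK : A ≤ Subgroup.normalizer (K : Set G))
    (hAKf : A ⊓ Subgroup.centralizer (K : Set G) = ⊥)
    (hno : ¬ Cfsg.Involves (Equiv.Perm (Fin 3)) ↥M) :
    ∀ (m : ℕ) (B : Subgroup G), Nat.card B = m → B ≤ A →
      m ^ 2 ≤ (V ⊓ Subgroup.centralizer (B : Set G)).relIndex V := by
  classical
  haveI : Fact (Nat.Prime 2) := ⟨Nat.prime_two⟩
  intro m
  induction m using Nat.strong_induction_on with
  | _ m ih =>
    intro B hm hBA
    subst hm
    by_cases hB1 : B = ⊥
    · rw [hB1, Subgroup.card_bot, one_pow, Nat.one_le_iff_ne_zero]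
      exact Subgroup.index_ne_zero_of_finite
    obtain ⟨a, haB, ha1⟩ := B.bot_or_exists_ne_one.resolve_left hB1
    have hBel : Cfsg.IsElementaryAbelian 2 B :=
      ⟨⟨⟨fun s t => Subtype.ext (Cfsg.Agent.Components.elementary_comm hA (hBA s.2) (hBA t.2)).eq⟩⟩,
        fun s hs => hA.2 s (hBA hs)⟩
    have haa : a * a = 1 := by rw [← sq]; exact hA.2 a (hBA haB)
    have hane : a ∉ Subgroup.centralizer (K : Set G) := fun h => ha1 (by
      have : a ∈ A ⊓ Subgroup.centralizer (K : Set G) := ⟨hBA haB, h⟩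
      rwa [hAKf, Subgroup.mem_bot] at this)
    obtain ⟨B', hB'B, hidx, haB', x, ⟨hxK, hxB'⟩, hx1, hax⟩ :=
      Cfsg.Agent.Components.exists_inverted hBel hK (hBA.trans hAK) haB hane
    have hcardB : Nat.card B ≤ 2 * Nat.card B' := by
      have e := Subgroup.relIndex_mul_relIndex ⊥ B' B bot_le hB'B
      rw [Subgroup.relIndex_bot_left, Subgroup.relIndex_bot_left] at e
      rw [← e, mul_comm 2]
      exact Nat.mul_le_mul_left _ hidx
    have hlt : Nat.card B' < Nat.card B :=
      Cfsg.Agent.Basics.card_lt_of_lt (lt_of_le_of_ne hB'B fun h => haB' (h ▸ haB))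
    have hih := ih _ hlt B' rfl (hB'B.trans hBA)
    have hxM : x ∈ M := hKM hxK
    have hxo : Odd (orderOf x) :=
      Odd.of_dvd_nat hK (Subgroup.orderOf_dvd_natCard K hxK)
    obtain ⟨U, hU⟩ : ∃ U, U = V ⊓ Subgroup.centralizer (B' : Set G) := ⟨_, rfl⟩
    rw [← hU] at hih
    have hVmul : ∀ v ∈ V, ∀ w ∈ V, Commute v w := fun v hv w hw =>
      Cfsg.Agent.Components.elementary_comm hV hv hw
    -- `x` does not centralize `U`
    have hxU : ∃ u ∈ U, ¬ Commute x u := by
      by_contra hcon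
      have hall : ∀ u ∈ U, Commute x u := fun u hu => by
        by_contra h
        exact hcon ⟨u, hu, h⟩
      have hVp : IsPGroup 2 V := fun v => ⟨1, Subtype.ext (by
        rw [pow_one, Subgroup.coe_pow]; exact hV.2 v v.2)⟩
      have hBp : IsPGroup 2 B' := fun v => ⟨1, Subtype.ext (by
        rw [pow_one, Subgroup.coe_pow]; exact hA.2 v (hBA (hB'B v.2)))⟩
      have hc := Cfsg.Agent.ClassK.axb_lemma (p := 2) hBp hVp
        ((hB'B.trans hBA).trans (hAM.trans hMV)) (hMV hxM) (Nat.coprime_two_right.mpr hxo)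
        (fun u hu v hv => by
          rw [← Subgroup.mem_centralizer_iff.mp hxB' u hu, mul_inv_cancel_right, mul_inv_cancel]
          exact Commute.one_left v)
        (fun v hv h => hall v (hU ▸ ⟨hv, Subgroup.mem_centralizer_iff.mpr fun u hu => (h u hu).eq⟩))
      have hx' : x ∈ M ⊓ Subgroup.centralizer (V : Set G) :=
        ⟨hxM, Subgroup.mem_centralizer_iff.mpr fun v hv => (hc v hv).eq.symm⟩
      rw [hfaith, Subgroup.mem_bot] at hx'
      exact hx1 hx'
    have hconjU : ∀ g ∈ M, (∀ b ∈ B', g * b = b * g) → ∀ u ∈ U, g * u * g⁻¹ ∈ U := by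
      intro g hg hgb u hu
      rw [hU] at hu ⊢
      refine ⟨(Subgroup.mem_normalizer_iff.mp (hMV hg) u).mp hu.1,
        Subgroup.mem_centralizer_iff.mpr fun b hb => ?_⟩
      have h1 := Subgroup.mem_centralizer_iff.mp hu.2 b hb
      have h2 : b * g⁻¹ = g⁻¹ * b := by
        calc b * g⁻¹ = g⁻¹ * (g * b) * g⁻¹ := by group
          _ = g⁻¹ * b := by rw [hgb b hb]; group
      calc b * (g * u * g⁻¹) = (b * g) * u * g⁻¹ := by group
        _ = g * (b * u) * g⁻¹ := by rw [← hgb b hb]; group
        _ = g * u * (b * g⁻¹) := by rw [h1]; group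
        _ = g * u * g⁻¹ * b := by rw [h2]; group
    have hxconj : ∀ u ∈ U, x * u * x⁻¹ ∈ U :=
      hconjU x hxM fun b hb => (Subgroup.mem_centralizer_iff.mp hxB' b hb).symm
    -- the two fixed-point subgroups
    obtain ⟨Ua, hUa⟩ : ∃ Ua, Ua = U ⊓ Subgroup.centralizer ({a} : Set G) := ⟨_, rfl⟩
    have hUaB : Ua = V ⊓ Subgroup.centralizer (B : Set G) := by
      apply le_antisymm
      · intro u hu
        rw [hUa, hU] at hu
        obtain ⟨⟨huV, huB'⟩, hua⟩ := hu
        refine ⟨huV, Subgroup.mem_centralizer_iff.mpr fun b hb => ?_⟩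
        have hau : a * u = u * a := (Subgroup.mem_centralizer_singleton_iff.mp hua).symm
        rcases Cfsg.Agent.Components.mem_or_mul_mem hBel hB'B hidx haB haB' hb with h | h
        · exact Subgroup.mem_centralizer_iff.mp huB' b h
        · have h1 := Subgroup.mem_centralizer_iff.mp huB' _ h
          calc b * u = a * (a * b * u) := by rw [← mul_assoc, ← mul_assoc, haa, one_mul]
            _ = a * u * (a * b) := by rw [h1, mul_assoc]
            _ = u * b := by rw [hau, mul_assoc, ← mul_assoc a, haa, one_mul]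
      · intro u hu
        rw [hUa, hU]
        exact ⟨⟨hu.1, Subgroup.centralizer_le (fun b hb => hB'B hb) hu.2⟩,
          Subgroup.centralizer_le (Set.singleton_subset_iff.mpr haB) hu.2⟩
    suffices h4 : 4 ≤ Ua.relIndex U by
      rw [← hUaB, ← Subgroup.relIndex_mul_relIndex Ua U V (hUa ▸ inf_le_left) (hU ▸ inf_le_left)]
      calc Nat.card B ^ 2 ≤ (2 * Nat.card B') ^ 2 := Nat.pow_le_pow_left hcardB 2
        _ = 4 * Nat.card B' ^ 2 := by ring
        _ ≤ _ := Nat.mul_le_mul h4 hih
    by_contra hlt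
    -- the quotient by the fixed points of `x`
    let cx : U → U := fun u => ⟨x * u * x⁻¹, hxconj u u.2⟩
    obtain ⟨W2, hW2, hW2i⟩ : ∃ W2 : Subgroup U, (∀ u, u ∈ W2 → (cx u : G) = u) ∧ W2.index < 5 := by
      let f : U →* U := MonoidHom.mk' cx (fun s t => Subtype.ext (by
        show x * ((s : G) * t) * x⁻¹ = x * s * x⁻¹ * (x * t * x⁻¹)
        group))
      have h1 : (Ua.subgroupOf U).index ≤ 2 := by
        have hUV : U ≤ V := hU ▸ inf_le_left
        have hUp : IsPGroup 2 U := fun v => ⟨1, Subtype.ext (by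
          rw [pow_one, Subgroup.coe_pow]; exact hV.2 v (hUV v.2))⟩
        obtain ⟨k, hk⟩ := hUp.index (Ua.subgroupOf U)
        have hlt' : (Ua.subgroupOf U).index < 4 := not_le.mp hlt
        rw [hk] at hlt' ⊢
        rcases k with _ | _ | k
        · norm_num
        · norm_num
        · exfalso
          have : 4 ≤ 2 ^ (k + 1 + 1) := by
            calc 4 = 2 ^ 2 := by norm_num
              _ ≤ _ := Nat.pow_le_pow_right (by norm_num) (by omega)
          omega
      refine ⟨Ua.subgroupOf U ⊓ (Ua.subgroupOf U).comap f, fun u hu => ?_, ?_⟩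
      · have hu1 : (u : G) ∈ Ua := hu.1
        have hu2 : x * (u : G) * x⁻¹ ∈ Ua := hu.2
        rw [hUa] at hu1 hu2
        have e1 : a * (u : G) = u * a := (Subgroup.mem_centralizer_singleton_iff.mp hu1.2).symm
        have e2 : a * (x * (u : G) * x⁻¹) = x * u * x⁻¹ * a :=
          (Subgroup.mem_centralizer_singleton_iff.mp hu2.2).symm
        have ea : a⁻¹ = a := inv_eq_of_mul_eq_one_right haa
        have hxx : x * x * (u : G) = u * (x * x) := by
          have hxa : x * a = a * x⁻¹ := by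
            rw [← hax, ← mul_assoc, ← mul_assoc, haa, one_mul]
          have h3 : x⁻¹ * (u : G) * x = x * u * x⁻¹ := by
            calc x⁻¹ * (u : G) * x = (a * x * a) * u * (a * x * a)⁻¹ := by rw [hax, inv_inv]
              _ = a * (x * (a * u) * a⁻¹ * x⁻¹) * a⁻¹ := by group
              _ = a * (x * (u : G) * x⁻¹) * a⁻¹ := by rw [e1]; group
              _ = x * u * x⁻¹ := by rw [e2]; group
          calc x * x * (u : G) = x * (x * u * x⁻¹) * x := by group
            _ = x * (x⁻¹ * (u : G) * x) * x := by rw [h3]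
            _ = u * (x * x) := by group
        obtain ⟨j, hj⟩ := hxo
        have hpow : x = (x * x) ^ (j + 1) := by
          rw [← sq, ← pow_mul, show 2 * (j + 1) = (2 * j + 1) + 1 by omega, pow_succ, ← hj,
            pow_orderOf_eq_one, one_mul]
        show x * (u : G) * x⁻¹ = u
        rw [mul_inv_eq_iff_eq_mul, hpow]
        exact (Commute.pow_left (show Commute (x * x) (u : G) from hxx) (j + 1)).eq
      · refine lt_of_le_of_lt Subgroup.index_inf_le ?_
        have h2 : ((Ua.subgroupOf U).comap f).index ≤ (Ua.subgroupOf U).index := by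
          rw [Subgroup.index_comap]
          haveI : (Ua.subgroupOf U).Normal := ⟨fun n hn g => by
            have hUV : U ≤ V := hU ▸ inf_le_left
            have hgn : g * n = n * g := Subtype.ext (hVmul _ (hUV g.2) _ (hUV n.2)).eq
            rw [hgn, mul_inv_cancel_right]
            exact hn⟩
          exact Nat.le_of_dvd (Nat.pos_of_ne_zero Subgroup.index_ne_zero_of_finite)
            (Subgroup.relIndex_dvd_index_of_normal (H := Ua.subgroupOf U) (K := f.range))
        calc (Ua.subgroupOf U).index * ((Ua.subgroupOf U).comap f).index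
            ≤ 2 * 2 := Nat.mul_le_mul (by omega) (by omega)
          _ < 5 := by norm_num
    have hfin : ∀ u ∈ U, x ^ 24 * u * (x ^ 24)⁻¹ = u := by
      intro u hu
      -- the orbit of `u` under `x` in the quotient
      have key : ∀ n : ℕ, ∀ v ∈ U, x ^ n * v * (x ^ n)⁻¹ ∈ U := fun n => by
        induction n with
        | zero => intro v hv; simpa using hv
        | succ n ihn =>
          intro v hv
          rw [show x ^ (n + 1) * v * (x ^ (n + 1))⁻¹ = x * (x ^ n * v * (x ^ n)⁻¹) * x⁻¹ by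
            rw [pow_succ']; group]
          exact hxconj _ (ihn v hv)
      obtain ⟨i, j, hij, hj, hw⟩ : ∃ i j : ℕ, i < j ∧ j ≤ 4 ∧
          (⟨_, key i u hu⟩ : U)⁻¹ * ⟨_, key j u hu⟩ ∈ W2 := by
        by_contra hcon
        let g : Fin 5 → U ⧸ W2 := fun k => QuotientGroup.mk ⟨_, key k u hu⟩
        have hinj : Function.Injective g := by
          intro k l hkl
          by_contra hne
          rcases lt_or_gt_of_ne hne with h | h
          · exact hcon ⟨k, l, h, by omega, QuotientGroup.eq.mp hkl⟩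
          · exact hcon ⟨l, k, h, by omega, QuotientGroup.eq.mp hkl.symm⟩
        have := Nat.card_le_card_of_injective g hinj
        rw [Nat.card_fin, ← Subgroup.index_eq_card] at this
        omega
      obtain ⟨w, hwdef⟩ : ∃ w, w = (x ^ i * u * (x ^ i)⁻¹)⁻¹ * (x ^ j * u * (x ^ j)⁻¹) := ⟨_, rfl⟩
      have hxw : x * w * x⁻¹ = w := by rw [hwdef]; exact hW2 _ hw
      -- shift back
      obtain ⟨d, hd⟩ : ∃ d, j = i + d := ⟨j - i, by omega⟩
      have hcw : Commute x w := mul_inv_eq_iff_eq_mul.mp hxw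
      have hud : x ^ d * u * (x ^ d)⁻¹ = u * w := by
        have e : x ^ j * u * (x ^ j)⁻¹ = x ^ i * u * (x ^ i)⁻¹ * w := by
          rw [hwdef, mul_inv_cancel_left]
        rw [hd, pow_add] at e
        have e2 : w = (x ^ i) * w * (x ^ i)⁻¹ := by
          rw [(hcw.pow_left i).eq, mul_inv_cancel_right]
        rw [e2] at e
        calc x ^ d * u * (x ^ d)⁻¹
            = (x ^ i)⁻¹ * (x ^ i * x ^ d * u * (x ^ i * x ^ d)⁻¹) * x ^ i := by group
          _ = u * w := by rw [e]; group
      have hn : ∀ n : ℕ, (x ^ d) ^ n * u * ((x ^ d) ^ n)⁻¹ = u * w ^ n := by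
        intro n
        induction n with
        | zero => simp
        | succ n ihn =>
          calc (x ^ d) ^ (n + 1) * u * ((x ^ d) ^ (n + 1))⁻¹
              = x ^ d * ((x ^ d) ^ n * u * ((x ^ d) ^ n)⁻¹) * (x ^ d)⁻¹ := by rw [pow_succ']; group
            _ = x ^ d * u * (x ^ d)⁻¹ * (x ^ d * w ^ n * (x ^ d)⁻¹) := by rw [ihn]; group
            _ = u * w ^ (n + 1) := by
              rw [hud, ((hcw.pow_left d).pow_right n).eq, mul_inv_cancel_right, pow_succ', mul_assoc]
      obtain ⟨r, hr⟩ : 2 * d ∣ 24 := by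
        have hd4 : d ≤ 4 := by omega
        have hd0 : 0 < d := by omega
        interval_cases d <;> decide
      have hwV : w ∈ V := by
        rw [hwdef]
        have hUV : U ≤ V := hU ▸ inf_le_left
        exact mul_mem (inv_mem (hUV (key i u hu))) (hUV (key j u hu))
      rw [show (24 : ℕ) = d * (2 * r) by rw [hr]; ring, pow_mul, hn, pow_mul, hV.2 w hwV, one_pow, mul_one]
    obtain ⟨u, hu, hxu⟩ := hxU
    by_cases h3 : 3 ∣ orderOf x
    · obtain ⟨k, hk⟩ := h3
      refine hno (involves_S3 (hAM (hBA haB)) (M.pow_mem hxM k) haa (y := x ^ k)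
        (by rw [← pow_mul, mul_comm, ← hk, pow_orderOf_eq_one]) (fun h => ?_) ?_)
      · have := Nat.le_of_dvd ?_ (orderOf_dvd_of_pow_eq_one h)
        · have := orderOf_pos x
          omega
        · have := orderOf_pos x
          omega
      · have ea : a⁻¹ = a := inv_eq_of_mul_eq_one_right haa
        have h1 : a * x * a⁻¹ = x⁻¹ := by rw [ea]; exact hax
        calc a * x ^ k * a = a * x ^ k * a⁻¹ := by rw [ea]
          _ = (a * x * a⁻¹) ^ k := conj_pow.symm
          _ = (x ^ k)⁻¹ := by rw [h1, inv_pow]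
    · have hcop : Nat.Coprime 24 (orderOf x) := by
        rw [show (24 : ℕ) = 2 ^ 3 * 3 by norm_num]
        exact Nat.Coprime.mul_left ((Nat.coprime_two_left.mpr hxo).pow_left 3)
          ((Nat.prime_three.coprime_iff_not_dvd).mpr h3)
      obtain ⟨n, hn⟩ := exists_pow_eq_self_of_coprime hcop
      apply hxu
      have hc : Commute (x ^ 24) u := mul_inv_eq_iff_eq_mul.mp (hfin u hu)
      rw [← hn]
      exact hc.pow_left n

/-- Let M and V be subgroups of a finite group with V an elementary abelian 2-group, M normalizing V and acting faithfully on it (M ∩ C(V) = 1), and C_M(O_{2'}(M)) ≤ O_{2'}(M). If some elementary abelian 2-subgroup A of M satisfies |V : C_V(A)| < |A|², then M has a section isomorphic to the symmetric group of degree 3. -/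
theorem result {X : Type*} [Group X] [Finite X] (M V : Subgroup X) (hV : Cfsg.IsElementaryAbelian 2 V) (hMV : M ≤ Subgroup.normalizer (V : Set X)) (hfaith : M ⊓ Subgroup.centralizer (V : Set X) = ⊥) (hcon : Subgroup.centralizer (Cfsg.pPrimeCore 2 ↥M : Set ↥M) ≤ Cfsg.pPrimeCore 2 ↥M) (A : Subgroup X) (hAM : A ≤ M) (hA : Cfsg.IsElementaryAbelian 2 A) (hsmall : (V ⊓ Subgroup.centralizer (A : Set X)).relIndex V < Nat.card A ^ 2) : Cfsg.Involves (Equiv.Perm (Fin 3)) ↥M := by
  by_contra hno
  haveI : Fact (Nat.Prime 2) := ⟨Nat.prime_two⟩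
  haveI : (Cfsg.pPrimeCore 2 ↥M).Normal := Cfsg.Agent.Basics.pPrimeCore_normal 2
  have hK : Odd (Nat.card ((Cfsg.pPrimeCore 2 ↥M).map M.subtype : Subgroup X)) := by
    rw [Subgroup.card_map_of_injective M.subtype_injective]
    exact Nat.coprime_two_right.mp (Cfsg.Agent.Basics.pPrimeCore_coprime 2)
  have hAK : A ≤ Subgroup.normalizer ((((Cfsg.pPrimeCore 2 ↥M).map M.subtype : Subgroup X)) : Set X) := by
    intro g hg
    refine Cfsg.Agent.LocalEvenB.mem_normalizer_of_conj_mem ?_
    rintro _ ⟨k, hk, rfl⟩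
    exact ⟨⟨g, hAM hg⟩ * k * ⟨g, hAM hg⟩⁻¹, Subgroup.Normal.conj_mem inferInstance k hk _, rfl⟩
  have hf : A ⊓ Subgroup.centralizer ((((Cfsg.pPrimeCore 2 ↥M).map M.subtype : Subgroup X)) : Set X) = ⊥ := by
    rw [eq_bot_iff]
    rintro g ⟨hgA, hgc⟩
    have hgK : (⟨g, hAM hgA⟩ : M) ∈ Cfsg.pPrimeCore 2 ↥M := hcon
      (Subgroup.mem_centralizer_iff.mpr fun k hk => Subtype.ext
        (Subgroup.mem_centralizer_iff.mp hgc k ⟨k, hk, rfl⟩))
    have h1 : orderOf g ∣ 2 := orderOf_dvd_of_pow_eq_one (hA.2 g hgA)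
    have h2 : orderOf g ∣ Nat.card (Cfsg.pPrimeCore 2 ↥M) := by
      have := Subgroup.orderOf_dvd_natCard _ hgK
      rwa [Subgroup.orderOf_mk] at this
    exact Subgroup.mem_bot.mpr (orderOf_eq_one_iff.mp (Nat.eq_one_of_dvd_coprimes
      (Cfsg.Agent.Basics.pPrimeCore_coprime 2).symm h1 h2))
  have h := bound hV hMV hfaith hAM hA (Subgroup.map_subtype_le _) hK hAK hf hno _ A rfl le_rfl
  omega

end Cfsg.Agent.S3755
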