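import Cfsg.Statements.S3760
import Mathlib

set_option autoImplicit false
open Cfsg

namespace Cfsg.Agent.S3760

/-- Let the group G act transitively on a set X, let x ∈ X with stabilizer H = G_x, and let K ≤ H. Then N_G(K) acts transitively on the set of fixed points of K if and only if every G-conjugate of K contained in H is already an H-conjugate of K. -/
theorem result {G : Type*} [Group G] {X : Type*} [MulAction G X] (htrans : ∀ a b : X, ∃ g : G, g • a = b) (x : X) (K : Subgroup G) (hK : K ≤ MulAction.stabilizer G x) : (∀ a b : X, (∀ k ∈ K, k • a = a) → (∀ k ∈ K, k • b = b) → ∃ g ∈ Subgroup.normalizer (K : Set G), g • a = b) ↔ ∀ g : G, K.map (MulAut.conj g).toMonoidHom ≤ MulAction.stabilizer G x → ∃ h ∈ MulAction.stabilizer G x, K.map (MulAut.conj g).toMonoidHom = K.map (MulAut.conj h).toMonoidHom := by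
  constructor
  · intro h g hg
    obtain ⟨n, hn, hnx⟩ := h x (g⁻¹ • x) (fun k hk => hK hk) fun k hk => by
      have h1 : (g * k * g⁻¹) • x = x := hg ⟨k, hk, rfl⟩
      rw [mul_smul, mul_smul] at h1
      exact eq_inv_smul_iff.mpr h1
    refine ⟨g * n, by rw [MulAction.mem_stabilizer_iff, mul_smul, hnx, smul_inv_smul], ?_⟩
    ext y
    constructor
    · rintro ⟨k, hk, rfl⟩
      refine ⟨n⁻¹ * k * n, (Subgroup.mem_normalizer_iff''.mp hn k).mp hk, ?_⟩
      show g * n * (n⁻¹ * k * n) * (g * n)⁻¹ = g * k * g⁻¹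
      group
    · rintro ⟨k, hk, rfl⟩
      refine ⟨n * k * n⁻¹, (Subgroup.mem_normalizer_iff.mp hn k).mp hk, ?_⟩
      show g * (n * k * n⁻¹) * g⁻¹ = g * n * k * (g * n)⁻¹
      group
  · intro h a b ha hb
    have key : ∀ a : X, (∀ k ∈ K, k • a = a) → ∃ n ∈ Subgroup.normalizer (K : Set G), n • x = a := by
      intro a ha
      obtain ⟨u, rfl⟩ := htrans x a
      obtain ⟨m, hm, he⟩ := h u⁻¹ (by
        rintro _ ⟨k, hk, rfl⟩
        show u⁻¹ * k * u⁻¹⁻¹ ∈ MulAction.stabilizer G x
        rw [inv_inv, MulAction.mem_stabilizer_iff, mul_smul, mul_smul, ha k hk, inv_smul_smul])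
      refine ⟨u * m, ?_, by rw [mul_smul, MulAction.mem_stabilizer_iff.mp hm]⟩
      rw [Subgroup.mem_normalizer_iff]
      intro k
      constructor
      · intro hk
        obtain ⟨k', hk', he'⟩ : m * k * m⁻¹ ∈ K.map (MulAut.conj u⁻¹).toMonoidHom :=
          he.symm ▸ ⟨k, hk, rfl⟩
        have : u * m * k * (u * m)⁻¹ = k' := by
          rw [mul_inv_rev, show u * m * k * (m⁻¹ * u⁻¹) = u * (m * k * m⁻¹) * u⁻¹ by group, ← he']
          show u * (u⁻¹ * k' * u⁻¹⁻¹) * u⁻¹ = k'
          group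
        rwa [this]
      · intro hk
        obtain ⟨k', hk', he'⟩ : u⁻¹ * (u * m * k * (u * m)⁻¹) * u⁻¹⁻¹ ∈
            K.map (MulAut.conj m).toMonoidHom := he ▸ ⟨_, hk, rfl⟩
        have : k = k' := by
          have h1 : m * k' * m⁻¹ = m * k * m⁻¹ := by
            rw [show m * k * m⁻¹ = u⁻¹ * (u * m * k * (u * m)⁻¹) * u⁻¹⁻¹ by group]
            exact he'
          exact (mul_left_cancel (mul_right_cancel h1)).symm
        rwa [this]
    obtain ⟨m, hm, rfl⟩ := key a ha
    obtain ⟨n, hn, rfl⟩ := key b hb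
    exact ⟨n * m⁻¹, mul_mem hn (inv_mem hm), by rw [mul_smul, inv_smul_smul]⟩

end Cfsg.Agent.S3760
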