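import Cfsg.Statements.S3762
import Cfsg.Agent.Lib.Invol.HallSymplectic
-- import your own Cfsg.Agent.* helpers here

set_option autoImplicit false
open Cfsg

namespace Cfsg.Agent.S3762

open Subgroup Invol.ExtraPairs Invol.HallSymplectic
open scoped commutatorElement

universe u

/-- The exceptional case: the centralizer `R` has order eight, and the whole group is extraspecial. -/
theorem eight_case {G : Type u} [Group G] [Finite G] (E R : Subgroup G) {z : G} (hzE : z ∈ E) (hzR : z ∈ R)
    (hE : Pre 2 E ⟨z, hzE⟩) (hcomm : ∀ e ∈ E, ∀ r ∈ R, Commute e r) (htop : E ⊔ R = ⊤)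
    (hR : Nat.card R = 8) (hz : (center R).map R.subtype = zpowers z) (hzc : z ∈ center G)
    (hG : Nat.card G ≠ 2) : IsExtraspecial 2 G := by
  haveI : Fact (Nat.Prime 2) := ⟨Nat.prime_two⟩
  have hzord : orderOf z = 2 := by have := hE.ordz; rwa [orderOf_mk] at this
  have hzcard : Nat.card (center R) = 2 := by
    rw [Nat.card_congr ((center R).equivMapOfInjective R.subtype R.subtype_injective).toEquiv, hz, Nat.card_zpowers,
      hzord]
  have hq4 : Nat.card (R ⧸ center R) = 4 := by
    have := card_eq_card_quotient_mul_card_subgroup (center R)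
    rw [hR, hzcard] at this
    omega
  haveI := IsPGroup.isMulCommutative_of_card_eq_prime_sq (p := 2) (G := R ⧸ center R) (by rw [hq4]; norm_num)
  have hsq : ∀ q : R ⧸ center R, q * q = 1 := by
    intro q
    by_contra hne
    have h4 : orderOf q ∣ 4 := hq4 ▸ orderOf_dvd_natCard q
    have hq : orderOf q = 4 := by
      have h0 : orderOf q ∣ 2 ^ 2 := h4
      obtain ⟨i, hi, hi'⟩ := (Nat.dvd_prime_pow Nat.prime_two).1 h0
      have : ¬ orderOf q ∣ 2 := fun h => hne (by rw [← pow_two]; exact orderOf_dvd_iff_pow_eq_one.1 h)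
      obtain rfl : i = 2 := by
        by_contra hi2
        exact this (hi' ▸ (pow_dvd_pow 2 (by omega : i ≤ 1)).trans (by norm_num))
      rw [hi']; norm_num
    haveI : IsCyclic (R ⧸ center R) := isCyclic_of_orderOf_eq_card q (hq.trans hq4.symm)
    have hc : center R = ⊤ := eq_top_iff.2 fun u _ => mem_center_iff.2 fun g =>
      Std.Commutative.comm (self := ⟨commutative_of_cyclic_center_quotient (QuotientGroup.mk' (center R))
        (QuotientGroup.ker_mk' _).le⟩) g u
    rw [hc, Subgroup.card_top, hR] at hzcard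
    omega
  have hRz : ∀ w : R, w ∈ center R → (w : G) ∈ zpowers z := fun w hw => by rw [← hz]; exact ⟨w, hw, rfl⟩
  have hEz : ∀ w : E, w ∈ zpowers (⟨z, hzE⟩ : E) → (w : G) ∈ zpowers z := by
    rintro _ ⟨k, rfl⟩; exact ⟨k, by simp⟩
  have hEnorm : R ≤ normalizer (E : Set G) := fun r hr => mem_normalizer_fintype (by
    intro e he; rw [← (hcomm e he r hr).eq, mul_inv_cancel_right]; exact he)
  have hmem : ∀ g : G, ∃ e ∈ E, ∃ r ∈ R, e * r = g := by
    intro g
    have hg : g ∈ ((E ⊔ R : Subgroup G) : Set G) := by rw [htop]; exact mem_top g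
    rw [Subgroup.coe_mul_of_right_le_normalizer_left E R hEnorm] at hg
    exact hg
  have hcen : ∀ w ∈ zpowers z, ∀ g : G, g * w = w * g := fun w hw g =>
    mem_center_iff.1 (zpowers_le.2 hzc hw) g
  have hpre : Pre 2 G z := by
    refine ⟨hzord, le_antisymm ?_ (zpowers_le.2 hzc), ?_, ?_⟩
    · intro c hc
      obtain ⟨e, he, r, hr, rfl⟩ := hmem c
      have he' : (⟨e, he⟩ : E) ∈ center E := mem_center_iff.2 fun x => Subtype.ext (by
        show (x : G) * e = e * x
        have h1 := mem_center_iff.1 hc (x : G)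
        have h2 := (hcomm _ x.2 r hr).eq
        refine mul_right_cancel (b := r) ?_
        calc (x : G) * e * r = e * r * x := by rw [mul_assoc, h1]
          _ = e * x * r := by rw [mul_assoc, ← h2, ← mul_assoc])
      have hr' : (⟨r, hr⟩ : R) ∈ center R := mem_center_iff.2 fun x => Subtype.ext (by
        show (x : G) * r = r * x
        have h1 := mem_center_iff.1 hc (x : G)
        have h2 := (hcomm e he _ x.2).eq
        refine mul_left_cancel (a := e) ?_
        calc e * ((x : G) * r) = (x : G) * (e * r) := by rw [← mul_assoc, h2, mul_assoc]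
          _ = e * (r * x) := by rw [h1, mul_assoc])
      rw [hE.center_eq] at he'
      exact mul_mem (hEz _ he') (hRz _ hr')
    · intro g g'
      obtain ⟨e, he, r, hr, rfl⟩ := hmem g
      obtain ⟨e', he', r', hr', rfl⟩ := hmem g'
      have h1 : ⁅e, e'⁆ ∈ zpowers z := by
        have := hEz _ (hE.comm_mem ⟨e, he⟩ ⟨e', he'⟩)
        simpa [commutatorElement_def] using this
      have h2 : ⁅r, r'⁆ ∈ zpowers z := by
        have hc : ⁅(⟨r, hr⟩ : R), ⟨r', hr'⟩⁆ ∈ center R := by
          rw [← QuotientGroup.eq_one_iff, ← QuotientGroup.mk'_apply, map_commutatorElement,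
            commutatorElement_eq_one_iff_mul_comm]
          exact (inferInstance : IsMulCommutative (R ⧸ center R)).is_comm.comm _ _
        have := hRz _ hc
        simpa [commutatorElement_def] using this
      have : ⁅e * r, e' * r'⁆ = ⁅e, e'⁆ * ⁅r, r'⁆ := by
        have c1 := (hcomm e he r hr).eq
        have c2 := (hcomm e' he' r' hr').eq
        have c3 := (hcomm e he r' hr').eq
        have c4 := (hcomm e' he' r hr).eq
        have k1 : Commute (e * e' * e⁻¹ * e'⁻¹) r := by
          exact ((((hcomm e he r hr)).mul_left (hcomm e' he' r hr)).mul_left (hcomm e he r hr).inv_left).mul_left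
            (hcomm e' he' r hr).inv_left
        simp only [commutatorElement_def]
        calc e * r * (e' * r') * (e * r)⁻¹ * (e' * r')⁻¹
            = e * (r * e') * (r' * r⁻¹) * e⁻¹ * r'⁻¹ * e'⁻¹ := by group
          _ = e * e' * (r * (r' * r⁻¹) * e⁻¹) * r'⁻¹ * e'⁻¹ := by rw [← c4]; group
          _ = e * e' * e⁻¹ * (r * (r' * r⁻¹) * r'⁻¹ * e'⁻¹) := by
              rw [← ((hcomm e he r hr).inv_left.mul_right ((hcomm e he r' hr').inv_left.mul_right
                (hcomm e he r hr).inv_left.inv_right)).eq]; group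
          _ = e * e' * e⁻¹ * (e'⁻¹ * (r * (r' * r⁻¹) * r'⁻¹)) := by
              rw [← (((hcomm e' he' r hr).inv_left.mul_right ((hcomm e' he' r' hr').inv_left.mul_right
                (hcomm e' he' r hr).inv_left.inv_right)).mul_right
                  (hcomm e' he' r' hr').inv_left.inv_right).eq]
          _ = e * e' * e⁻¹ * e'⁻¹ * (r * r' * r⁻¹ * r'⁻¹) := by group
      rw [this]; exact mul_mem h1 h2
    · intro g
      obtain ⟨e, he, r, hr, rfl⟩ := hmem g
      rw [(hcomm e he r hr).mul_pow]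
      refine mul_mem ?_ ?_
      · have := hEz _ (hE.pow_mem ⟨e, he⟩)
        simpa using this
      · have hc : (⟨r, hr⟩ : R) ^ 2 ∈ center R := by
          rw [← QuotientGroup.eq_one_iff, QuotientGroup.mk_pow, pow_two]; exact hsq _
        have := hRz _ hc
        simpa using this
  exact hpre.extraspecial hG

/-- The structure of the group. -/
theorem structure_aux {G : Type u} [Group G] [Finite G] {p : ℕ} [hp : Fact p.Prime] (hG : IsPGroup p G)
    (hsymp : ∀ A : Subgroup G, A.Characteristic → IsMulCommutative A → IsCyclic A) :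
    ∃ E R : Subgroup G, (∀ e ∈ E, ∀ r ∈ R, e * r = r * e) ∧ E ⊔ R = ⊤ ∧ (E = ⊥ ∨ Cfsg.IsExtraspecial p ↥E) ∧
      (IsCyclic R ∨ (p = 2 ∧ 16 ≤ Nat.card R ∧ ((∃ m : ℕ, Nonempty (↥R ≃* DihedralGroup m)) ∨
        (∃ m : ℕ, Nonempty (↥R ≃* QuaternionGroup m)) ∨ Cfsg.IsQuasiDihedral ↥R))) := by
  classical
  have hpp := hp.out
  have hfinish : ∀ R : Subgroup G, R = ⊤ → IsCyclic R → ∃ E R : Subgroup G, (∀ e ∈ E, ∀ r ∈ R, e * r = r * e) ∧
      E ⊔ R = ⊤ ∧ (E = ⊥ ∨ Cfsg.IsExtraspecial p ↥E) ∧
      (IsCyclic R ∨ (p = 2 ∧ 16 ≤ Nat.card R ∧ ((∃ m : ℕ, Nonempty (↥R ≃* DihedralGroup m)) ∨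
        (∃ m : ℕ, Nonempty (↥R ≃* QuaternionGroup m)) ∨ Cfsg.IsQuasiDihedral ↥R))) := fun R hR hc =>
    ⟨⊥, R, fun e he r _ => by rw [mem_bot.1 he, one_mul, mul_one], by rw [bot_sup_eq, hR], Or.inl rfl, Or.inl hc⟩
  obtain ⟨C, hchar, hfr, hcom, hCC⟩ := Invol.CriticalExists.exists_critical hG
  haveI := hchar
  obtain ⟨U, hUdef⟩ : ∃ U, U = C ⊓ centralizer (C : Set G) := ⟨_, rfl⟩
  have hCmap : ∀ φ : MulAut G, C.map φ.toMonoidHom = C := characteristic_iff_map_eq.1 hchar
  haveI hUchar : U.Characteristic := characteristic_iff_map_le.2 (by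
    rintro φ _ ⟨x, hx, rfl⟩
    rw [hUdef] at hx ⊢
    exact ⟨(hCmap φ).le ⟨x, hx.1, rfl⟩, Invol.CriticalExists.map_centralizer_le (hCmap φ) hx.2⟩)
  have hUab : IsMulCommutative U := ⟨⟨fun x y => Subtype.ext (by
    have hx : (x : G) ∈ C := (hUdef ▸ x.2 : (x : G) ∈ C ⊓ centralizer (C : Set G)).1
    have hy : (y : G) ∈ centralizer (C : Set G) := (hUdef ▸ y.2 : (y : G) ∈ C ⊓ centralizer (C : Set G)).2
    exact mem_centralizer_iff.1 hy x hx)⟩⟩
  obtain ⟨a, ha⟩ := Subgroup.isCyclic_iff_exists_zpowers_eq_top U |>.1 (hsymp U hUchar hUab)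
  obtain ⟨n, hn⟩ := IsPGroup.iff_orderOf.1 hG a
  rcases Nat.eq_zero_or_pos n with rfl | hn1
  · -- the group is trivial
    haveI := hG.isNilpotent
    refine hfinish ⊤ rfl ?_
    rw [pow_zero, orderOf_eq_one_iff] at hn
    have hU1 : U = ⊥ := by rw [← ha, hn, zpowers_eq_bot]
    have hZ : center G = ⊥ := eq_bot_iff.2 fun c hc => by
      have h2 : c ∈ centralizer (C : Set G) := mem_centralizer_iff.2 fun x _ => mem_center_iff.1 hc x
      rw [← hU1, hUdef]
      exact ⟨hCC h2, h2⟩
    haveI : Subsingleton G := by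
      by_contra h
      rw [not_subsingleton_iff_nontrivial] at h
      exact Group.IsNilpotent.center_ne_bot (G := G) hZ
    infer_instance
  have hpn : (p : ℤ) ^ n = p * p ^ (n - 1) := by rw [← pow_succ']; congr 1; omega
  have hpz : ∀ j : ℤ, a ^ j = 1 ↔ (p : ℤ) ^ n ∣ j := fun j => by
    rw [← orderOf_dvd_iff_zpow_eq_one, hn]; push_cast; rfl
  obtain ⟨z, hzdef⟩ : ∃ z, z = a ^ ((p : ℤ) ^ (n - 1)) := ⟨_, rfl⟩
  have hzU : z ∈ zpowers a := hzdef ▸ zpow_mem (mem_zpowers a) _
  have hzp : z ^ p = 1 := by rw [hzdef, ← zpow_natCast, ← zpow_mul, hpz, hpn, mul_comm]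
  have hz1 : z ≠ 1 := by
    rw [hzdef, Ne, hpz, hpn]
    intro hd
    obtain ⟨k, hk⟩ := hd
    refine (Nat.prime_iff_prime_int.1 hpp).not_dvd_one
      ⟨k, mul_left_cancel₀ (pow_ne_zero (n - 1) (Int.natCast_ne_zero.2 hpp.ne_zero)) ?_⟩
    rw [mul_one]
    linear_combination hk
  have hzord : orderOf z = p := orderOf_eq_prime hzp hz1
  have htor : ∀ u ∈ zpowers a, u ^ p = 1 → u ∈ zpowers z := by
    rintro _ ⟨i, rfl⟩ hi
    change (a ^ i) ^ p = 1 at hi
    rw [← zpow_natCast, ← zpow_mul, hpz, hpn, mul_comm i] at hi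
    obtain ⟨k, hk⟩ := Int.dvd_of_mul_dvd_mul_left (Int.natCast_ne_zero.2 hpp.ne_zero) hi
    exact ⟨k, by show z ^ k = a ^ i; rw [hzdef, hk, zpow_mul]⟩
  have hUmem : ∀ u, u ∈ zpowers a ↔ u ∈ C ∧ u ∈ centralizer (C : Set G) := fun u => by
    rw [ha, hUdef]; exact Iff.rfl
  have haC : a ∈ C := ((hUmem a).1 (mem_zpowers a)).1
  have hCa : ∀ x ∈ C, Commute x a := fun x hx => mem_centralizer_iff.1 ((hUmem a).1 (mem_zpowers a)).2 x hx
  have hUC : ∀ u ∈ zpowers a, ∀ x ∈ C, Commute x u := fun u hu x hx =>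
    mem_centralizer_iff.1 ((hUmem u).1 hu).2 x hx
  have hcomU : ∀ x ∈ C, ∀ g : G, ⁅x, g⁆ ∈ zpowers a := fun x hx g =>
    (hUmem _).2 (hcom (commutator_mem_commutator hx (mem_top g)))
  have hzc : z ∈ center G := by
    have hmap : ∀ g : G, ∀ w ∈ zpowers z, g * w * g⁻¹ ∈ zpowers z := by
      intro g w hw
      have hwa : w ∈ zpowers a := zpowers_le.2 hzU hw
      have h1 : g * w * g⁻¹ ∈ zpowers a := by
        rw [ha] at hwa ⊢
        exact (characteristic_iff_map_le.1 hUchar (MulAut.conj g)) ⟨w, hwa, rfl⟩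
      refine htor _ h1 ?_
      obtain ⟨k, rfl⟩ := hw
      show (g * z ^ k * g⁻¹) ^ p = 1
      rw [conj_pow, ← zpow_natCast, zpow_comm, zpow_natCast, hzp, one_zpow, mul_one, mul_inv_cancel]
    haveI : (zpowers z).Normal := ⟨fun w hw g => hmap g w hw⟩
    obtain ⟨w, hw, hwc, hw1⟩ := OddLocal.exists_mem_center_ne_one_of_normal hG (zpowers z)
      (fun h => hz1 (zpowers_eq_bot.1 h))
    have hle : zpowers z ≤ center G := by
      have heq : zpowers w = zpowers z := eq_of_le_of_card_ge (zpowers_le.2 hw) (by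
        obtain ⟨k, rfl⟩ := hw
        rw [Nat.card_zpowers, Nat.card_zpowers, hzord]
        exact (orderOf_eq_prime (by
          show (z ^ k) ^ p = 1
          rw [← zpow_natCast, zpow_comm, zpow_natCast, hzp, one_zpow]) hw1).ge)
      rw [← heq, zpowers_le]; exact hwc
    exact hle (mem_zpowers z)
  have hzcomm : ∀ w ∈ zpowers z, ∀ g : G, Commute g w := fun w hw g =>
    mem_center_iff.1 (zpowers_le.2 hzc hw) g
  -- commutators inside `C`
  have hCC' : ∀ x ∈ C, ∀ y ∈ C, ⁅x, y⁆ ∈ zpowers z := by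
    intro x hx y hy
    have hcU := hcomU x hx y
    refine htor _ hcU ?_
    have hyp : y ^ p ∈ centralizer (C : Set G) := by
      have h1 : (⟨y, hy⟩ : C) ^ p ∈ frattini C :=
        Basics.pow_mem_frattini (hG.to_subgroup C) _
      exact hfr ⟨_, h1, by simp⟩
    have h2 : Commute ⁅x, y⁆ y := (hUC _ hcU y hy).symm
    have h3 : (⁅x, y⁆ * y) ^ p = y ^ p := by
      rw [show ⁅x, y⁆ * y = x * y * x⁻¹ by rw [commutatorElement_def]; group, conj_pow,
        mem_centralizer_iff.1 hyp x hx, mul_inv_cancel_right]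
    rw [h2.mul_pow] at h3
    exact mul_eq_right.1 h3
  have hpowC : ∀ x ∈ C, x ^ p ∈ zpowers a := by
    intro x hx
    have h1 : (⟨x, hx⟩ : C) ^ p ∈ frattini C := Basics.pow_mem_frattini (hG.to_subgroup C) _
    exact (hUmem _).2 ⟨pow_mem hx p, hfr ⟨_, h1, by simp⟩⟩
  -- the target for powers
  obtain ⟨T, hTdef⟩ : ∃ T : Subgroup G, T = if p = 2 then zpowers z else ⊥ := ⟨_, rfl⟩
  have hT : T ≤ zpowers z := by rw [hTdef]; split_ifs <;> simp
  have hTc : ∀ x ∈ C, ∀ y ∈ C, ⁅x, y⁆ ^ p.choose 2 ∈ T := by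
    intro x hx y hy
    rw [hTdef]
    split_ifs with h2
    · exact pow_mem (hCC' x hx y hy) _
    · obtain ⟨v, hv⟩ := hpp.dvd_choose_self (k := 2) two_ne_zero (by have := hpp.two_le; omega)
      obtain ⟨k, hk⟩ := hCC' x hx y hy
      have hk' : z ^ k = ⁅x, y⁆ := hk
      rw [mem_bot, hv, pow_mul, ← hk', ← zpow_natCast (z ^ k) p, zpow_comm, zpow_natCast, hzp, one_zpow,
        one_pow]
  -- complements in subgroups with good powers
  let good : G → Prop := fun x => x ^ p ∈ zpowers (a ^ p)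
  have hcorr1 : ∀ x ∈ C, good x → ∃ v ∈ zpowers a, (x * v) ^ p ∈ T := by
    intro x hx hgx
    obtain ⟨k, hk⟩ := hgx
    have hk' : (a ^ p) ^ k = x ^ p := hk
    refine ⟨a ^ (-k), zpow_mem (mem_zpowers a) _, ?_⟩
    rw [(hUC _ (zpow_mem (mem_zpowers a) _) x hx).mul_pow, ← hk', ← zpow_natCast (a ^ (-k)), ← zpow_natCast a p,
      ← zpow_mul, ← zpow_mul, ← _root_.zpow_add]
    rw [show (p : ℤ) * k + -k * (p : ℤ) = 0 by ring, zpow_zero]
    exact one_mem T
  -- every element of `C` has a good power, save for `p = 2`, `n = 1`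
  have hgood : ¬ (p = 2 ∧ n = 1) → ∀ x ∈ C, good x := by
    intro hne
    have hcgood : ∀ x ∈ C, ∀ y ∈ C, ⁅x, y⁆ ^ p.choose 2 ∈ zpowers (a ^ p) := by
      intro x hx y hy
      by_cases h2 : p = 2
      · have hn2 : 2 ≤ n := by
          by_contra hlt; exact hne ⟨h2, by omega⟩
        refine pow_mem (show ⁅x, y⁆ ∈ zpowers (a ^ p) from zpowers_le.2 ?_ (hCC' x hx y hy)) _
        refine ⟨(p : ℤ) ^ (n - 2), ?_⟩
        show (a ^ p) ^ _ = z
        rw [hzdef, ← zpow_natCast, ← zpow_mul, ← pow_succ']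
        congr 2; omega
      · have := hTc x hx y hy
        rw [hTdef, if_neg h2, mem_bot] at this
        rw [this]; exact one_mem _
    have hmulgood : ∀ x ∈ C, ∀ y ∈ C, good x → good y → good (x * y) := by
      intro x hx y hy gx gy
      have hw : ∀ g ∈ C, Commute ⁅y, x⁆ g := fun g hg => (hUC _ (hcomU y hy x) g hg).symm
      show (x * y) ^ p ∈ _
      rw [(Cfsg.Agent.S3761.mul_pow_of_comm (hw x hx) (hw y hy)
        (show y * x = ⁅y, x⁆ * x * y by rw [commutatorElement_def]; group) p).1]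
      exact mul_mem (mul_mem gx (hcgood y hy x hx)) gy
    let C0 : Subgroup G :=
      { carrier := {x | x ∈ C ∧ good x}
        one_mem' := ⟨one_mem C, by show (1 : G) ^ p ∈ _; rw [one_pow]; exact one_mem _⟩
        mul_mem' := fun {x y} hx hy => ⟨mul_mem hx.1 hy.1, hmulgood x hx.1 y hy.1 hx.2 hy.2⟩
        inv_mem' := fun {x} hx => ⟨inv_mem hx.1, by show x⁻¹ ^ p ∈ _; rw [inv_pow]; exact inv_mem hx.2⟩ }
    by_contra hbad
    push Not at hbad
    obtain ⟨x0, hx0, hx0bad⟩ := hbad
    have haC0 : a ∈ C0 := ⟨haC, mem_zpowers _⟩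
    have hgenU : ∀ (φ : MulAut G), ∃ k : ℤ, a ^ k = φ a := fun φ => by
      have : φ a ∈ U := (characteristic_iff_map_le.1 hUchar φ)
        (mem_map_of_mem φ.toMonoidHom (ha ▸ mem_zpowers a : a ∈ U))
      rw [← ha] at this; exact this
    have hC0map : ∀ (φ : MulAut G) (x : G), x ∈ C0 → φ x ∈ C0 := by
      intro φ x hx
      refine ⟨(hCmap φ).le ⟨x, hx.1, rfl⟩, ?_⟩
      show (φ x) ^ p ∈ _
      obtain ⟨i, hi⟩ := hx.2
      obtain ⟨k, hk⟩ := hgenU φ
      have hi' : (a ^ p) ^ i = x ^ p := hi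
      rw [← map_pow, ← hi', map_zpow, map_pow, ← hk]
      refine zpow_mem (show (a ^ k) ^ p ∈ zpowers (a ^ p) from ⟨k, ?_⟩) i
      show (a ^ p) ^ k = (a ^ k) ^ p
      rw [← zpow_natCast, zpow_comm, zpow_natCast]
    have hC0cent : ∀ x ∈ C0, (∀ y ∈ C0, Commute x y) → x ∈ zpowers a := by
      intro x hx hxy
      let A : Subgroup G := C0 ⊓ centralizer (C0 : Set G)
      have hAchar : A.Characteristic := characteristic_iff_map_le.2 (by
        rintro φ _ ⟨w, hw, rfl⟩
        have hmapC0 : C0.map φ.toMonoidHom = C0 := eq_of_le_of_card_ge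
          (by rintro _ ⟨v, hv, rfl⟩; exact hC0map φ v hv) (card_map_of_injective φ.injective).ge
        exact ⟨hC0map φ w hw.1, Invol.CriticalExists.map_centralizer_le hmapC0 hw.2⟩)
      obtain ⟨b, hb⟩ := Subgroup.isCyclic_iff_exists_zpowers_eq_top A |>.1 (hsymp A hAchar
        ⟨⟨fun u v => Subtype.ext (mem_centralizer_iff.1 v.2.2 u u.2.1)⟩⟩)
      have hxA : x ∈ zpowers b := hb ▸ ⟨hx, mem_centralizer_iff.2 fun y hy => (hxy y hy).symm⟩
      have haA : a ∈ zpowers b := hb ▸ ⟨haC0, mem_centralizer_iff.2 fun y hy => hCa y hy.1⟩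
      have hbA : b ∈ A := hb ▸ mem_zpowers b
      obtain ⟨k, hk⟩ := hbA.1.2
      have hk' : (a ^ p) ^ k = b ^ p := hk
      obtain ⟨j, hj⟩ := haA
      have hj' : b ^ j = a := hj
      -- `b ^ p` lies in `⟨a ^ p⟩` forces `b` into `⟨a⟩`
      have hb1 : b ^ ((p : ℤ) * (1 - j * k)) = 1 := by
        rw [mul_sub, mul_one, _root_.zpow_sub, zpow_natCast, ← hk', ← hj', ← zpow_natCast (b ^ j), ← zpow_mul,
          ← zpow_mul, show j * ((p : ℤ) * k) = (p : ℤ) * (j * k) by ring, mul_inv_cancel]
      have hba : b ∈ zpowers a := by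
        by_cases hdj : (p : ℤ) ∣ j
        · exfalso
          obtain ⟨c, rfl⟩ := hdj
          have hbp : b ^ p = 1 := by
            obtain ⟨m, hm⟩ := IsPGroup.iff_orderOf.1 hG b
            have h2 : (orderOf b : ℤ) ∣ (p : ℤ) * (1 - p * c * k) := orderOf_dvd_iff_zpow_eq_one.2 hb1
            rw [hm] at h2
            push_cast at h2
            rw [← zpow_natCast, ← orderOf_dvd_iff_zpow_eq_one, hm]
            push_cast
            exact (IsCoprime.pow_left ⟨c * k, 1, by ring⟩ : IsCoprime ((p : ℤ) ^ m) (1 - p * c * k)).dvd_of_dvd_mul_right h2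
          have : a = 1 := by rw [← hj', zpow_mul, zpow_natCast, hbp, one_zpow]
          rw [this, orderOf_one] at hn
          exact (Nat.one_lt_pow (by omega) hpp.one_lt).ne hn
        · obtain ⟨m, hm⟩ := IsPGroup.iff_orderOf.1 hG b
          obtain ⟨c, d, hcd⟩ : IsCoprime j ((p : ℤ) ^ m) :=
            IsCoprime.pow_right ((Nat.prime_iff_prime_int.1 hpp).coprime_iff_not_dvd.2 hdj).symm
          refine ⟨c, ?_⟩
          show a ^ c = b
          rw [← hj', ← zpow_mul]
          conv_rhs => rw [← zpow_one b]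
          rw [← orderOf_dvd_sub_iff_zpow_eq_zpow, hm]
          push_cast
          exact ⟨-d, by linear_combination hcd⟩
      exact zpowers_le.2 hba hxA
    obtain ⟨E0, hzE0, hE0, hall0, -, hpre0⟩ := exists_complement C0 a z T hzord hzU haC0
      (fun x hx => hCa x hx.1) hC0cent (fun x hx y hy => hCC' x hx.1 y hy.1) hT
      (fun x hx y hy => hTc x hx.1 y hy.1) (fun x hx => hcorr1 x hx.1 hx.2)
    obtain ⟨e, he, hw⟩ := exists_inner hpre0 hzc (g := x0) (fun x hx => hCC' x0 hx0 x (hE0 hx).1)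
    obtain ⟨w, hwdef⟩ : ∃ w, w = e⁻¹ * x0 := ⟨_, rfl⟩
    rw [← hwdef] at hw
    have hwC : w ∈ C := hwdef ▸ mul_mem (inv_mem (hE0 he).1) hx0
    have hwC0 : ∀ y ∈ C0, Commute w y := by
      intro y hy
      obtain ⟨f, hf, v, hv, rfl⟩ := hall0 y hy
      exact (show Commute w f from (mem_centralizer_iff.1 hw f hf).symm).mul_right (hUC v hv w hwC)
    -- `C = C0 ⟨w⟩`, so `w` is central in `C`
    have hwnot : w ∉ C0 := fun h => hx0bad (by
      have : e * w ∈ C0 := mul_mem (hE0 he) h
      rw [hwdef, mul_inv_cancel_left] at this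
      exact this.2)
    have hwcentral : w ∈ centralizer (C : Set G) := by
      rw [mem_centralizer_iff]
      intro y hy
      -- some `y * w ^ l` is good
      obtain ⟨i, hi⟩ := hpowC y hy
      obtain ⟨j, hj⟩ := hpowC w hwC
      have hi' : a ^ i = y ^ p := hi
      have hj' : a ^ j = w ^ p := hj
      have hjp : ¬ (p : ℤ) ∣ j := by
        rintro ⟨c, rfl⟩
        refine hwnot ⟨hwC, c, ?_⟩
        show (a ^ p) ^ c = w ^ p
        rw [← hj', zpow_mul, zpow_natCast]
      obtain ⟨c, d, hcd⟩ : IsCoprime j (p : ℤ) :=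
        ((Nat.prime_iff_prime_int.1 hpp).coprime_iff_not_dvd.2 hjp).symm
      have hv : w ^ (-(i * c)) ∈ C := zpow_mem hwC _
      have hu : y * w ^ (-(i * c)) ∈ C0 := by
        refine ⟨mul_mem hy hv, ?_⟩
        show (y * w ^ (-(i * c))) ^ p ∈ _
        have hcw : ∀ g ∈ C, Commute ⁅w ^ (-(i * c)), y⁆ g := fun g hg => (hUC _ (hcomU _ hv y) g hg).symm
        rw [(Cfsg.Agent.S3761.mul_pow_of_comm (hcw y hy) (hcw _ hv)
          (show w ^ (-(i * c)) * y = ⁅w ^ (-(i * c)), y⁆ * y * w ^ (-(i * c)) by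
            rw [commutatorElement_def]; group) p).1]
        obtain ⟨k, hk⟩ := hcgood _ hv y hy
        have hk' : (a ^ p) ^ k = ⁅w ^ (-(i * c)), y⁆ ^ p.choose 2 := hk
        refine ⟨i * d + k, ?_⟩
        show (a ^ p) ^ (i * d + k) = _
        rw [← hi', ← hk', ← zpow_natCast (w ^ (-(i * c))) p, zpow_comm w, zpow_natCast, ← hj',
          ← zpow_natCast a p, ← zpow_mul, ← zpow_mul, ← zpow_mul, ← _root_.zpow_add, ← _root_.zpow_add]
        congr 1
        linear_combination i * hcd
      have h1 := (hwC0 _ hu).mul_right ((Commute.refl w).zpow_right (i * c))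
      rw [mul_assoc, ← _root_.zpow_add, neg_add_cancel, zpow_zero, mul_one] at h1
      exact h1.symm.eq
    have hwU : w ∈ zpowers a := (hUmem w).2 ⟨hwC, hwcentral⟩
    exact hwnot (zpowers_le.2 haC0 hwU)
  have hcorr : ∀ x ∈ C, ∃ v ∈ zpowers a, (x * v) ^ p ∈ T := by
    intro x hx
    by_cases h : p = 2 ∧ n = 1
    · refine ⟨1, one_mem _, ?_⟩
      rw [mul_one, hTdef, if_pos h.1]
      have h1 := hpowC x hx
      refine htor _ h1 ?_
      obtain ⟨i, hi⟩ := h1
      have hi' : a ^ i = x ^ p := hi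
      rw [← hi', ← zpow_natCast, ← zpow_mul, hpz, h.2, pow_one]
      exact dvd_mul_left _ _
    · exact hcorr1 x hx (hgood h x hx)
  obtain ⟨E, hzE, hEC, hall, hEpow, hpre⟩ := exists_complement C a z T hzord hzU haC hCa
    (fun x hx h => (hUmem x).2 ⟨hx, mem_centralizer_iff.2 fun y hy => (h y hy).symm.eq⟩) hCC' hT hTc hcorr
  -- the centralizer of `E`
  obtain ⟨R, hRdef⟩ : ∃ R, R = centralizer (E : Set G) := ⟨_, rfl⟩
  have hcommER : ∀ e ∈ E, ∀ r ∈ R, e * r = r * e := fun e he r hr => mem_centralizer_iff.1 (hRdef ▸ hr) e he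
  have hgE : ∀ g : G, ∀ x ∈ E, ⁅g, x⁆ ∈ zpowers z := by
    intro g x hx
    have hcU : ⁅g, x⁆ ∈ zpowers a := by
      rw [← commutatorElement_inv]; exact inv_mem (hcomU x (hEC hx) g)
    refine htor _ hcU ?_
    have h2 : Commute ⁅g, x⁆ x := (hUC _ hcU x (hEC hx)).symm
    have h3 : (⁅g, x⁆ * x) ^ p = x ^ p := by
      rw [show ⁅g, x⁆ * x = g * x * g⁻¹ by rw [commutatorElement_def]; group, conj_pow,
        (hzcomm _ (hT (hEpow x hx)) g).eq, mul_inv_cancel_right]
    rw [h2.mul_pow] at h3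
    exact mul_eq_right.1 h3
  have htopER : E ⊔ R = ⊤ := by
    rw [eq_top_iff]
    intro g _
    obtain ⟨e, he, hg⟩ := exists_inner hpre hzc (g := g) (hgE g)
    have := mul_mem (mem_sup_left (T := R) he) (mem_sup_right (S := E) (hRdef ▸ hg : e⁻¹ * g ∈ R))
    rwa [mul_inv_cancel_left] at this
  have hEcases : E = zpowers z ∨ Cfsg.IsExtraspecial p ↥E := by
    by_cases hEp : Nat.card E = p
    · left
      exact (eq_of_le_of_card_ge (zpowers_le.2 hzE) (by rw [hEp, Nat.card_zpowers, hzord])).symm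
    · exact Or.inr (hpre.extraspecial hEp)
  have haR : a ∈ R := by
    rw [hRdef, mem_centralizer_iff]
    exact fun x hx => hCa x (hEC hx)
  have hzR : z ∈ R := zpowers_le.2 haR hzU
  -- reduce to a centralizing pair
  obtain ⟨E', hE'top, hE'comm, hE'ext⟩ : ∃ E' : Subgroup G, E' ⊔ R = ⊤ ∧
      (∀ e ∈ E', ∀ r ∈ R, e * r = r * e) ∧ (E' = ⊥ ∨ Cfsg.IsExtraspecial p ↥E') := by
    rcases hEcases with h | h
    · refine ⟨⊥, ?_, fun e he r _ => by rw [mem_bot.1 he, one_mul, mul_one], Or.inl rfl⟩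
      rw [bot_sup_eq, eq_top_iff, ← htopER, h]
      exact sup_le (zpowers_le.2 hzR) le_rfl
    · exact ⟨E, htopER, hcommER, Or.inr h⟩
  haveI hUn : (zpowers a).Normal := by rw [ha]; infer_instance
  obtain ⟨U', hU'⟩ : ∃ U' : Subgroup R, U' = (zpowers a).subgroupOf R := ⟨_, rfl⟩
  haveI : U'.Normal := by rw [hU']; infer_instance
  have hUR : zpowers a ≤ R := zpowers_le.2 haR
  have hU'card : Nat.card U' = p ^ n := by
    rw [hU', Nat.card_congr (subgroupOfEquivOfLe hUR).toEquiv, Nat.card_zpowers, hn]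
  have hU'cyc : IsCyclic U' := by
    rw [hU']; exact isCyclic_of_injective (subgroupOfEquivOfLe hUR).toMonoidHom (subgroupOfEquivOfLe hUR).injective
  have hself : centralizer (U' : Set R) = U' := by
    refine le_antisymm ?_ ?_
    · intro r hr
      rw [hU', mem_subgroupOf]
      have hra : Commute (r : G) a := by
        have := mem_centralizer_iff.1 hr ⟨a, haR⟩ (by rw [hU']; exact mem_subgroupOf.2 (mem_zpowers a))
        exact (congrArg Subtype.val this).symm
      have hrC : (r : G) ∈ centralizer (C : Set G) := by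
        rw [mem_centralizer_iff]
        intro y hy
        obtain ⟨e, he, v, ⟨i, rfl⟩, rfl⟩ := hall y hy
        exact (show Commute e (r : G) from hcommER e he r r.2).mul_left (hra.symm.zpow_left i)
      exact (hUmem _).2 ⟨hCC hrC, hrC⟩
    · intro r hr
      rw [mem_centralizer_iff]
      intro s hs
      rw [hU'] at hr hs
      obtain ⟨i, hi⟩ := mem_subgroupOf.1 hr
      obtain ⟨j, hj⟩ := mem_subgroupOf.1 hs
      apply Subtype.ext
      show (s : G) * r = r * s
      rw [← show a ^ i = (r : G) from hi, ← show a ^ j = (s : G) from hj]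
      exact ((Commute.refl a).zpow_zpow j i).eq
  by_cases hab : IsMulCommutative R
  · refine ⟨E', R, hE'comm, hE'top, hE'ext, Or.inl ?_⟩
    have hle : R ≤ zpowers a := by
      intro r hr
      have h1 : (⟨r, hr⟩ : R) ∈ centralizer (U' : Set R) := mem_centralizer_iff.2 fun s _ => hab.is_comm.comm s _
      rw [hself, hU'] at h1
      exact mem_subgroupOf.1 h1
    exact isCyclic_of_injective (inclusion hle) (inclusion_injective _)
  by_cases hsmall : p = 2 ∧ n ≤ 2
  · obtain ⟨rfl, hn2⟩ := hsmall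
    have hconjU : ∀ r : G, r * a * r⁻¹ ∈ zpowers a := fun r => hUn.conj_mem a (mem_zpowers a) r
    have hn2' : n = 2 := by
      by_contra hne
      refine hab ⟨⟨fun r s => ?_⟩⟩
      have haz : a = z := by rw [hzdef, show n = 1 by omega]; simp
      have hall' : ∀ t : R, t ∈ U' := fun t => hself ▸ mem_centralizer_iff.2 fun w hw => by
        rw [hU'] at hw
        obtain ⟨i, hi⟩ := mem_subgroupOf.1 hw
        apply Subtype.ext
        show (w : G) * t = t * w
        rw [← show a ^ i = (w : G) from hi, haz]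
        exact (hzcomm _ (zpow_mem (mem_zpowers z) i) (t : G)).symm.eq
      exact mem_centralizer_iff.1 (by rw [hself]; exact hall' s) r (hall' r)
    subst hn2'
    have hcases : ∀ r : G, r * a * r⁻¹ = a ∨ r * a * r⁻¹ = a⁻¹ := by
      intro r
      have h4 : orderOf a = 4 := by rw [hn]; norm_num
      have hm := hconjU r
      rw [← (isOfFinOrder_of_finite a).mem_powers_iff_mem_zpowers] at hm
      obtain ⟨i, hi⟩ := hm
      have hi' : a ^ (i % 4) = r * a * r⁻¹ := by rw [← h4, pow_mod_orderOf]; exact hi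
      have : i % 4 < 4 := Nat.mod_lt _ (by norm_num)
      rcases (show i % 4 = 0 ∨ i % 4 = 1 ∨ i % 4 = 2 ∨ i % 4 = 3 by omega) with e | e | e | e <;> rw [e] at hi'
      · exfalso
        rw [pow_zero] at hi'
        have h1 : a = 1 := conj_eq_one_iff.1 hi'.symm
        rw [h1, orderOf_one] at h4; omega
      · exact Or.inl (by rw [← hi', pow_one])
      · exfalso
        have h1 : (r * a * r⁻¹) ^ 2 = 1 := by
          rw [← hi', ← pow_mul, show 2 * 2 = orderOf a by omega, pow_orderOf_eq_one]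
        rw [conj_pow, conj_eq_one_iff] at h1
        have := orderOf_dvd_of_pow_eq_one h1
        rw [h4] at this; norm_num at this
      · refine Or.inr ?_
        rw [← hi']
        refine eq_inv_of_mul_eq_one_left ?_
        rw [← pow_succ, show 3 + 1 = orderOf a by omega, pow_orderOf_eq_one]
    have hfix : ∀ r : R, (r : G) * a * (r : G)⁻¹ = a → r ∈ U' := by
      intro r hr
      rw [← hself, mem_centralizer_iff]
      intro s hs
      rw [hU'] at hs
      obtain ⟨i, hi⟩ := mem_subgroupOf.1 hs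
      apply Subtype.ext
      show (s : G) * r = r * s
      rw [← show a ^ i = (s : G) from hi]
      exact ((show Commute (r : G) a from mul_inv_eq_iff_eq_mul.1 hr).zpow_right i).symm.eq
    obtain ⟨y, hy⟩ : ∃ y : R, y ∉ U' := by
      by_contra h
      push Not at h
      exact hab ⟨⟨fun r s => mem_centralizer_iff.1 (by rw [hself]; exact h s) r (h r)⟩⟩
    have hidx : U'.index = 2 := by
      rw [index_eq_two_iff]
      refine ⟨y, fun b => ?_⟩
      by_cases hb : b ∈ U'
      · exact Or.inr ⟨hb, fun hby => hy (by simpa using mul_mem (inv_mem hb) hby)⟩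
      · refine Or.inl ⟨hfix _ ?_, hb⟩
        have e1 := (hcases b).resolve_left fun h => hb (hfix b h)
        have e2 := (hcases y).resolve_left fun h => hy (hfix y h)
        show (b : G) * y * a * ((b : G) * y)⁻¹ = a
        rw [show (b : G) * y * a * ((b : G) * y)⁻¹ = b * (y * a * (y : G)⁻¹) * (b : G)⁻¹ by group, e2,
          ← conj_inv, e1, inv_inv]
    have hR8 : Nat.card R = 8 := by
      rw [← card_mul_index U', hU'card, hidx]; norm_num
    have hzR' : (center R).map R.subtype = zpowers z := by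
      refine le_antisymm ?_ (zpowers_le.2 ⟨⟨z, hzR⟩, mem_center_iff.2 fun r => Subtype.ext
        (hzcomm z (mem_zpowers z) (r : G)).eq, rfl⟩)
      rintro _ ⟨c, hc, rfl⟩
      have hcU : c ∈ U' := by
        rw [← hself, mem_centralizer_iff]; exact fun s _ => mem_center_iff.1 hc s
      have hca : (c : G) ∈ zpowers a := mem_subgroupOf.1 (hU' ▸ hcU)
      refine htor _ hca ?_
      obtain ⟨i, hi⟩ := hca
      have hi' : a ^ i = (c : G) := hi
      have e2 := (hcases y).resolve_left fun h => hy (hfix y h)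
      have h1 : (y : G) * c * (y : G)⁻¹ = (c : G)⁻¹ := by
        rw [← hi', ← conj_zpow, e2, inv_zpow]
      have h2 : (y : G) * c = c * y := congrArg Subtype.val (mem_center_iff.1 hc y)
      rw [h2, mul_inv_cancel_right, eq_inv_iff_mul_eq_one] at h1
      show (c : G) ^ 2 = 1
      rw [pow_two]; exact h1
    have hG2 : Nat.card G ≠ 2 := by
      have := card_subgroup_dvd_card R
      intro h
      rw [hR8, h] at this
      norm_num at this
    have hX := eight_case E R hzE hzR hpre hcommER htopER hR8 hzR' hzc hG2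
    refine ⟨⊤, ⊥, fun e _ r hr => by rw [mem_bot.1 hr, one_mul, mul_one], sup_bot_eq ⊤, Or.inr ?_, Or.inl inferInstance⟩
    -- transfer to the top subgroup
    obtain ⟨z', h'⟩ := pre_of_extraspecial hX
    have hc : center (⊤ : Subgroup G) = (center G).subgroupOf ⊤ := by
      ext w
      rw [mem_subgroupOf, mem_center_iff, mem_center_iff]
      exact ⟨fun h g => congrArg Subtype.val (h ⟨g, mem_top g⟩), fun h g => Subtype.ext (h g)⟩
    refine Pre.extraspecial (z := (⟨z', mem_top z'⟩ : (⊤ : Subgroup G))) ⟨by rw [orderOf_mk, h'.ordz], ?_, ?_, ?_⟩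
      (by rw [Subgroup.card_top]; exact hG2)
    · ext w
      rw [hc, mem_subgroupOf, h'.center_eq]
      constructor
      · rintro ⟨k, hk⟩; exact ⟨k, Subtype.ext (by simpa using hk)⟩
      · rintro ⟨k, rfl⟩; exact ⟨k, by simp⟩
    · intro u v
      obtain ⟨k, hk⟩ := h'.comm_mem (u : G) (v : G)
      exact ⟨k, Subtype.ext (by simpa [commutatorElement_def] using hk)⟩
    · intro u
      obtain ⟨k, hk⟩ := h'.pow_mem (u : G)
      exact ⟨k, Subtype.ext (by simpa using hk)⟩
  rcases Cfsg.Agent.S3761.result (hG.to_subgroup R) hab U' hU'cyc n hU'card hself with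
    ⟨hp2, hcardR, htype⟩ | ⟨hrel, hFel, hFcard, -⟩
  · refine ⟨E', R, hE'comm, hE'top, hE'ext, Or.inr ⟨hp2, ?_, htype⟩⟩
    have hn3 : 3 ≤ n := by by_contra h; exact hsmall ⟨hp2, by omega⟩
    rw [hcardR]
    calc 16 = 2 ^ 4 := by norm_num
      _ ≤ _ := Nat.pow_le_pow_right two_pos (by omega)
  · exfalso
    set M := centralizer (Cfsg.powerClosure p 1 U' : Set R) with hMdef
    set F := Cfsg.omegaOne p M with hFdef
    have hMmem : ∀ r : R, r ∈ M → Commute (r : G) (a ^ p) := by
      intro r hr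
      have h1 : (⟨a ^ p, pow_mem haR p⟩ : R) ∈ Cfsg.powerClosure p 1 U' :=
        subset_closure ⟨⟨a, haR⟩, by rw [hU']; exact mem_subgroupOf.2 (mem_zpowers a),
          Subtype.ext (by simp)⟩
      exact (congrArg Subtype.val (mem_centralizer_iff.1 hr _ h1)).symm
    have hMmem' : ∀ r : R, Commute (r : G) (a ^ p) → r ∈ M := by
      intro r hr
      rw [hMdef, Cfsg.powerClosure, centralizer_closure, mem_centralizer_iff]
      rintro _ ⟨u, hu, rfl⟩
      rw [hU'] at hu
      obtain ⟨i, hi⟩ := mem_subgroupOf.1 hu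
      apply Subtype.ext
      show ((u ^ p ^ 1 : R) : G) * r = r * ((u ^ p ^ 1 : R) : G)
      rw [pow_one, SubgroupClass.coe_pow, ← show a ^ i = (u : G) from hi, ← zpow_natCast (a ^ i), zpow_comm,
        zpow_natCast]
      exact (hr.zpow_right i).symm.eq
    have hFM : F ≤ M := by
      rw [hFdef, Cfsg.omegaOne, closure_le]; exact fun w hw => hw.1
    have hFp : ∀ w : R, w ∈ F → w ^ p = 1 := hFel.2
    obtain ⟨f, hfF, hfU⟩ : ∃ f ∈ F, f ∉ U' := by
      by_contra hcon
      push Not at hcon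
      haveI := isCyclic_of_injective (inclusion hcon) (inclusion_injective _)
      obtain ⟨g, hg⟩ := IsCyclic.exists_ofOrder_eq_natCard (α := F)
      have := orderOf_dvd_of_pow_eq_one (show g ^ p = 1 from Subtype.ext (hFp g g.2))
      rw [hg, hFcard] at this
      have := Nat.le_of_dvd hpp.pos this
      nlinarith [hpp.two_le]
    obtain ⟨q, hqdef⟩ : ∃ q, q = if p = 2 then 4 else p := ⟨_, rfl⟩
    have hpq : p ∣ q := by
      rw [hqdef]; split_ifs with h2
      · subst h2; norm_num
      · exact dvd_rfl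
    have hEq : ∀ e ∈ E, e ^ q = 1 := by
      intro e he
      have h1 := hEpow e he
      rw [hqdef]; rw [hTdef] at h1
      split_ifs at h1 ⊢ with h2
      · subst h2
        obtain ⟨k, hk⟩ := h1
        have hk' : z ^ k = e ^ 2 := hk
        rw [show 4 = 2 * 2 from rfl, pow_mul, ← hk', ← zpow_natCast, zpow_comm, zpow_natCast, hzp, one_zpow]
      · exact mem_bot.1 h1
    -- elements of `M` killed by `q` commute with `F`
    have hkey : ∀ m : R, m ∈ M → m ^ q = 1 → ∀ w ∈ F, Commute m w := by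
      intro m hm hmq w hw
      have hFab : ∀ s ∈ F, ∀ t ∈ F, Commute s t := fun s hs t ht =>
        congrArg Subtype.val (hFel.1.is_comm.comm ⟨s, hs⟩ ⟨t, ht⟩)
      rw [hqdef] at hmq
      split_ifs at hmq with h2
      swap
      · exact hFab m (subset_closure ⟨hm, hmq⟩) w hw
      have hn3 : 3 ≤ n := by by_contra h; exact hsmall ⟨h2, by omega⟩
      subst h2
      -- an element of `U'` killed by four commutes with `M`
      have hlow : ∀ u : R, u ∈ U' → u ^ 4 = 1 → ∀ t ∈ M, Commute t u := by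
        intro u hu h4 t ht
        rw [hU'] at hu
        obtain ⟨i, hi⟩ := mem_subgroupOf.1 hu
        have hi' : a ^ i = (u : G) := hi
        have h4' : (a ^ i) ^ 4 = 1 := by rw [hi']; exact congrArg Subtype.val h4
        rw [← zpow_natCast, ← zpow_mul, hpz] at h4'
        have h2i : (2 : ℤ) ∣ i := by
          have h8 : (8 : ℤ) ∣ i * 4 := by
            refine dvd_trans ⟨2 ^ (n - 3), ?_⟩ h4'
            rw [show (8 : ℤ) = 2 ^ 3 by norm_num, ← pow_add]; push_cast; congr 1; omega
          omega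
        obtain ⟨k, rfl⟩ := h2i
        apply Subtype.ext
        show (t : G) * u = u * t
        rw [← hi', zpow_mul, zpow_ofNat]
        exact ((hMmem t ht).zpow_right k).eq
      have hidx : ∀ t : R, t ∈ M → t ∈ U' ∨ t * f ∈ U' := by
        intro t ht
        by_cases htu : t ∈ U'
        · exact Or.inl htu
        · refine Or.inr ?_
          have := mul_mem_iff_of_index_two (H := U'.subgroupOf M) hrel (a := ⟨t, ht⟩) (b := ⟨f, hFM hfF⟩)
          exact this.2 (iff_of_false htu hfU)
      rcases hidx m hm with hmu | hmu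
      · exact (hlow m hmu hmq w (hFM hw)).symm
      obtain ⟨u, hudef⟩ : ∃ u, u = m * f := ⟨_, rfl⟩
      rw [← hudef] at hmu
      have hff : f * f = 1 := by have := hFp f hfF; rwa [pow_two] at this
      have hmuf : m = u * f := by rw [hudef, mul_assoc, hff, mul_one]
      have hu4 : u ^ 4 = 1 := by
        -- `f u f⁻¹ = c u` with `c ^ 2 = 1` in `U'`
        obtain ⟨c, hcdef⟩ : ∃ c, c = f * u * f⁻¹ * u⁻¹ := ⟨_, rfl⟩
        have hfuU : f * u * f⁻¹ ∈ U' := (inferInstance : U'.Normal).conj_mem u hmu f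
        have hUcomm : ∀ s ∈ U', ∀ t ∈ U', Commute s t := fun s hs t ht =>
          mem_centralizer_iff.1 (by rw [hself]; exact ht : t ∈ centralizer (U' : Set R)) s hs
        have hsqfix : f * u ^ 2 * f⁻¹ = u ^ 2 := by
          obtain ⟨i, hi⟩ := mem_subgroupOf.1 (hU' ▸ hmu)
          apply Subtype.ext
          show (f : G) * (u : G) ^ 2 * (f : G)⁻¹ = (u : G) ^ 2
          rw [← show a ^ i = (u : G) from hi, ← zpow_natCast, zpow_comm, zpow_natCast,
            ((hMmem f (hFM hfF)).zpow_right i).eq, mul_inv_cancel_right]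
        have hc2 : c ^ 2 = 1 := by
          rw [hcdef, (hUcomm _ hfuU _ (inv_mem hmu)).mul_pow, conj_pow, hsqfix, inv_pow, mul_inv_cancel]
        have hfinv : f⁻¹ = f := inv_eq_of_mul_eq_one_right hff
        have hm2 : m ^ 2 = c * u ^ 2 := by
          rw [hmuf, pow_two, show u * f * (u * f) = u * (f * u * f⁻¹) * (f * f) by group, hff, mul_one,
            (hUcomm u hmu _ hfuU).eq, show f * u * f⁻¹ * u = (f * u * f⁻¹ * u⁻¹) * u ^ 2 by rw [pow_two]; group,
            ← hcdef]
        have hcU : c ∈ U' := hcdef ▸ mul_mem hfuU (inv_mem hmu)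
        have : m ^ 4 = u ^ 4 := by
          rw [show 4 = 2 * 2 from rfl, pow_mul, hm2, (hUcomm c hcU _ (pow_mem hmu 2)).mul_pow, hc2, one_mul,
            ← pow_mul]
        rw [← this]; exact hmq
      rw [hmuf]
      exact ((hlow u hmu hu4 w (hFM hw)).symm).mul_left (hFab f hfF w hw)
    -- the characteristic abelian subgroup
    let S : Set G := {g | Commute g (a ^ p) ∧ g ^ q = 1}
    let A : Subgroup G := closure S ⊓ centralizer S
    have hS : ∀ (φ : MulAut G) (g : G), g ∈ S → φ g ∈ S := by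
      intro φ g hg
      refine ⟨?_, by rw [← map_pow, hg.2, map_one]⟩
      have h1 : φ.symm a ∈ U := (characteristic_iff_map_le.1 hUchar φ.symm)
        (mem_map_of_mem φ.symm.toMonoidHom (ha ▸ mem_zpowers a : a ∈ U))
      rw [← ha] at h1
      obtain ⟨k, hk⟩ := h1
      have h2 : Commute g (φ.symm (a ^ p)) := by
        rw [map_pow, ← show a ^ k = φ.symm a from hk, ← zpow_natCast, zpow_comm, zpow_natCast]
        exact hg.1.zpow_right k
      have := h2.map φ.toMonoidHom
      simpa using this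
    have hAchar : A.Characteristic := by
      rw [characteristic_iff_map_le]
      intro φ
      have hSS : φ.toMonoidHom '' S ⊆ S := by rintro _ ⟨g, hg, rfl⟩; exact hS φ g hg
      rintro _ ⟨g, hg, rfl⟩
      refine ⟨?_, ?_⟩
      · exact closure_mono hSS (by rw [← MonoidHom.map_closure]; exact ⟨g, hg.1, rfl⟩)
      · show φ g ∈ centralizer S
        rw [mem_centralizer_iff]
        intro s hs
        have h1 := mem_centralizer_iff.1 hg.2 (φ.symm s) (hS φ.symm s hs)
        have h2 := congrArg φ h1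
        simpa using h2
    have hAab : IsMulCommutative A := ⟨⟨fun u v => Subtype.ext (by
      have h1 : (u : G) ∈ centralizer (centralizer S : Set G) := by
        refine (closure_le _).2 ?_ u.2.1
        intro s hs
        exact mem_centralizer_iff.2 fun w hw => (mem_centralizer_iff.1 hw s hs).symm
      exact (mem_centralizer_iff.1 h1 v v.2.2).symm)⟩⟩
    have hFA : F.map R.subtype ≤ A := by
      rintro _ ⟨w, hw, rfl⟩
      obtain ⟨c, hc⟩ := hpq
      refine ⟨subset_closure ⟨hMmem w (hFM hw), ?_⟩, mem_centralizer_iff.2 fun g hg => ?_⟩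
      · have h1 : (w : G) ^ p = 1 := congrArg Subtype.val (hFp w hw)
        show (w : G) ^ q = 1
        rw [hc, pow_mul, h1, one_pow]
      · -- split `g` along `E R`
        obtain ⟨e, he, hge⟩ := exists_inner hpre hzc (g := g) (hgE g)
        rw [← hRdef] at hge
        have hge' : e * (e⁻¹ * g) = g := mul_inv_cancel_left e g
        have hce : Commute e (e⁻¹ * g) := hcommER e he _ hge
        have hq : (e⁻¹ * g) ^ q = 1 := by
          have := hg.2
          rwa [← hge', hce.mul_pow, hEq e he, one_mul] at this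
        have hca : Commute (e⁻¹ * g) (a ^ p) :=
          ((hCa e (hEC he)).pow_right p).inv_left.mul_left hg.1
        have hcw := hkey ⟨_, hge⟩ (hMmem' _ hca) (Subtype.ext hq) w hw
        have hcw' : Commute (e⁻¹ * g) (w : G) := congrArg Subtype.val hcw.eq
        rw [← hge']
        exact ((show Commute e (w : G) from hcommER e he w w.2).mul_left hcw').eq
    haveI := hsymp A hAchar hAab
    haveI : IsCyclic (F.map R.subtype) := isCyclic_of_injective (inclusion hFA) (inclusion_injective _)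
    haveI : IsCyclic F :=
      isCyclic_of_injective (F.equivMapOfInjective R.subtype R.subtype_injective).toMonoidHom
        (F.equivMapOfInjective R.subtype R.subtype_injective).injective
    obtain ⟨g, hg⟩ := IsCyclic.exists_ofOrder_eq_natCard (α := F)
    have := orderOf_dvd_of_pow_eq_one (show g ^ p = 1 from Subtype.ext (hFp g g.2))
    rw [hg, hFcard] at this
    have := Nat.le_of_dvd hpp.pos this
    nlinarith [hpp.two_le]

/-- Let G be a finite p-group of symplectic type: every characteristic abelian subgroup of G is cyclic. Then G = E ∗ R is a central product of subgroups E and R (they commute elementwise and generate G) where E is extraspecial or trivial, and R is cyclic, or p = 2 and R is dihedral, semidihedral or generalized quaternion of order at least 16. -/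
theorem result {G : Type*} [Group G] [Finite G] {p : ℕ} [Fact p.Prime] (hG : IsPGroup p G) (hsymp : ∀ A : Subgroup G, A.Characteristic → IsMulCommutative A → IsCyclic A) : ∃ E R : Subgroup G, (∀ e ∈ E, ∀ r ∈ R, e * r = r * e) ∧ E ⊔ R = ⊤ ∧ (E = ⊥ ∨ Cfsg.IsExtraspecial p ↥E) ∧ (IsCyclic R ∨ (p = 2 ∧ 16 ≤ Nat.card R ∧ ((∃ m : ℕ, Nonempty (↥R ≃* DihedralGroup m)) ∨ (∃ m : ℕ, Nonempty (↥R ≃* QuaternionGroup m)) ∨ Cfsg.IsQuasiDihedral ↥R))) := by
  exact structure_aux hG hsymp

end Cfsg.Agent.S3762
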