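import Cfsg.Statements.S3763
import Cfsg.Agent.Lib.Invol.ExtraspecialClass
-- import your own Cfsg.Agent.* helpers here

set_option autoImplicit false
open Cfsg

namespace Cfsg.Agent.S3763

/-- Let E be an extraspecial 2-group of order 2^(2n+1). Then the largest elementary abelian subgroups of E have order 2^n or 2^(n+1); and two extraspecial 2-groups of the same order whose largest elementary abelian subgroups have the same order are isomorphic. -/
theorem result {E : Type*} [Group E] [Finite E] (hE : Cfsg.IsExtraspecial 2 E) (n : ℕ) (hn : Nat.card E = 2 ^ (2 * n + 1)) : ((Cfsg.PRankLE 2 n E ∧ ¬ Cfsg.PRankLE 2 (n - 1) E) ∨ (Cfsg.PRankLE 2 (n + 1) E ∧ ¬ Cfsg.PRankLE 2 n E)) ∧ ∀ (E' : Type*) [Group E'] [Finite E'], Cfsg.IsExtraspecial 2 E' → Nat.card E' = Nat.card E → (∀ k : ℕ, Cfsg.PRankLE 2 k E ↔ Cfsg.PRankLE 2 k E') → Nonempty (E ≃* E') := by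
  obtain ⟨m, hm1, hm, hr⟩ := Invol.ExtraspecialClass.rank_cases hE
  have hnm : n = m := by
    have := Nat.pow_right_injective le_rfl (hn.symm.trans hm); omega
  subst hnm
  have hnot : ∀ {k l : ℕ} {A : Subgroup E}, Cfsg.IsElementaryAbelian 2 A → Nat.card A = 2 ^ l → k < l →
      ¬ Cfsg.PRankLE 2 k E := by
    intro k l A hA hAl hkl h
    have := h A hA.1 hA.2
    rw [hAl, Nat.pow_le_pow_iff_right (by norm_num)] at this
    omega
  refine ⟨?_, fun E' _ _ hE' hcard hk => ?_⟩
  · rcases hr with ⟨-, hle, A, hA, hAc⟩ | ⟨-, hle, A, hA, hAc⟩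
    · exact Or.inr ⟨hle, hnot hA hAc (by omega)⟩
    · exact Or.inl ⟨hle, hnot hA hAc (by omega)⟩
  · obtain ⟨m', -, hm', hr'⟩ := Invol.ExtraspecialClass.rank_cases hE'
    have hmm : m' = n := by
      have := Nat.pow_right_injective le_rfl (hm'.symm.trans (hcard.trans hm)); omega
    subst hmm
    refine Invol.ExtraspecialClass.iso_two hE hE' hcard.symm ?_
    rcases hr with ⟨a, -, A, hA, hAc⟩ | ⟨a, hle, A, hA, hAc⟩ <;>
      rcases hr' with ⟨a', -, A', hA', hAc'⟩ | ⟨a', hle', A', hA', hAc'⟩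
    · omega
    · exact absurd ((hk _).2 hle') (hnot hA hAc (by omega))
    · exfalso
      have h := (hk _).1 hle A' hA'.1 hA'.2
      rw [hAc', Nat.pow_le_pow_iff_right (by norm_num)] at h
      omega
    · omega

end Cfsg.Agent.S3763
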