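import Cfsg.Statements.S3764
import Cfsg.Agent.Lib.Classes23.ExtraFix

set_option autoImplicit false
open Cfsg

namespace Cfsg.Agent.S3764

open Subgroup Cfsg.Agent.Classes23
open scoped commutatorElement

/-- Let p, q, r be distinct primes and let X, Q, V be subgroups of a finite group with X of order r, Q an extraspecial q-group normalized by X with C_Q(X) = Z(Q), and V an elementary abelian p-group normalized by X and Q on which XQ acts faithfully ((X ⊔ Q) ∩ C(V) = 1). If C_V(X) = 1, then q = 2, r = 2^n + 1 for some n, and Q has order 2^(2n+1). -/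
theorem result {G : Type*} [Group G] [Finite G] {p q r : ℕ} (hp : p.Prime) (hq : q.Prime) (hr : r.Prime) (hpq : p ≠ q) (hpr : p ≠ r) (hqr : q ≠ r) (X Q V : Subgroup G) (hX : Nat.card X = r) (hQ : Cfsg.IsExtraspecial q ↥Q) (hXQ : X ≤ Subgroup.normalizer (Q : Set G)) (hCQ : Q ⊓ Subgroup.centralizer (X : Set G) = (Subgroup.center ↥Q).map Q.subtype) (hV : Cfsg.IsElementaryAbelian p V) (hXV : X ≤ Subgroup.normalizer (V : Set G)) (hQV : Q ≤ Subgroup.normalizer (V : Set G)) (hfaith : (X ⊔ Q) ⊓ Subgroup.centralizer (V : Set G) = ⊥) (hCV : V ⊓ Subgroup.centralizer (X : Set G) = ⊥) : q = 2 ∧ ∃ n : ℕ, r = 2 ^ n + 1 ∧ Nat.card Q = 2 ^ (2 * n + 1) := by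
  haveI := Fact.mk hq
  haveI : Fact r.Prime := ⟨hr⟩
  haveI : IsCyclic X := isCyclic_of_prime_card hX
  obtain ⟨⟨x, hxX⟩, hgen⟩ := exists_prime_orderOf_dvd_card' (G := X) r (hX ▸ dvd_rfl)
  have hxo : orderOf x = r := by rw [← hgen, orderOf_mk]
  have hXz : zpowers x = X := eq_of_le_of_card_ge (zpowers_le.mpr hxX) (by rw [hX, Nat.card_zpowers, hxo])
  have hXcomm : ∀ {v : G}, Commute x v → v ∈ centralizer (X : Set G) := fun {v} hv y hy => by
    obtain ⟨n, rfl⟩ := hXz.symm ▸ hy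
    exact (hv.zpow_left n).eq
  set Z := (center ↥Q).map Q.subtype with hZ
  have hZcard : Nat.card Z = q := by
    rw [hZ, Nat.card_congr (equivMapOfInjective _ _ Q.subtype_injective).toEquiv.symm]
    exact hQ.2
  have hZmem : ∀ v : G, v ∈ Z ↔ v ∈ Q ∧ ∀ b ∈ Q, Commute v b := by
    intro v
    constructor
    · rintro ⟨w, hw, rfl⟩
      exact ⟨w.2, fun b hb => (congrArg Subtype.val (mem_center_iff.mp hw ⟨b, hb⟩)).symm⟩
    · rintro ⟨hv, h⟩
      exact ⟨⟨v, hv⟩, mem_center_iff.mpr fun b => Subtype.ext (h b b.2).eq.symm, rfl⟩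
  have hcx : ∀ c ∈ Z, Commute x c := fun c hc => by
    have : c ∈ Q ⊓ centralizer (X : Set G) := hCQ ▸ hc
    exact this.2 x hxX
  have hcomm : ∀ a ∈ Q, ∀ b ∈ Q, ⁅a, b⁆ ∈ Z := fun a ha b hb => by
    refine ⟨⁅(⟨a, ha⟩ : Q), ⟨b, hb⟩⁆, ?_, rfl⟩
    rw [SetLike.mem_coe, ← hQ.1.2.2]
    exact commutator_mem_commutator (mem_top _) (mem_top _)
  obtain ⟨a, ha, b, hb, hab⟩ : ∃ a ∈ Q, ∃ b ∈ Q, ⁅a, b⁆ ≠ 1 := by
    by_contra! hh
    have h1 : Z = Q := le_antisymm (fun v hv => ((hZmem v).mp hv).1) fun v hv =>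
      (hZmem v).mpr ⟨hv, fun w hw => commutatorElement_eq_one_iff_commute.mp (hh v hv w hw)⟩
    have h2 : _root_.commutator ↥Q = ⊥ := by
      rw [_root_.commutator_eq_closure, closure_eq_bot_iff]
      rintro _ ⟨u, w, rfl⟩
      exact Subtype.ext (hh u u.2 w w.2)
    have h3 := hQ.2
    rw [← hQ.1.2.2, h2, Subgroup.card_bot] at h3
    exact hq.ne_one h3.symm
  suffices hgoal : q = 2 ∧ ∃ n : ℕ, r = 2 ^ n + 1 ∧ Nat.card Q = Nat.card Z * 2 ^ (2 * n) by
    obtain ⟨hq2, n, hrn, hcard⟩ := hgoal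
    exact ⟨hq2, n, hrn, by rw [hcard, hZcard, hq2, pow_succ, mul_comm]⟩
  refine extraspecial_bound hp hq hr hpq hpr x (hxo ▸ pow_orderOf_eq_one x)
    Q V Z hQ.1.1 hV (hXV hxX) hQV (hXQ hxX) (fun v hv => ((hZmem v).mp hv).1)
    (fun c hc v hv => ((hZmem c).mp hc).2 v hv) hcx hcomm ?_ ?_ ?_ ?_
  · intro v hv hc
    set c := v⁻¹ * (x * v * x⁻¹) with hcdef
    have h1 := conj_pow_eq (hcx c hc) (show x * v * x⁻¹ = v * c by simp [hcdef]) r
    rw [← hxo, pow_orderOf_eq_one, one_mul, inv_one, mul_one, left_eq_mul, hxo] at h1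
    have h2 : c ^ q = 1 := by
      rw [← hZcard]
      exact congrArg Subtype.val (pow_card_eq_one' (x := (⟨c, hc⟩ : Z)))
    have hc1 : c = 1 := orderOf_eq_one_iff.mp (Nat.eq_one_of_dvd_coprimes
      ((Nat.coprime_primes hq hr).mpr hqr) (orderOf_dvd_of_pow_eq_one h2) (orderOf_dvd_of_pow_eq_one h1))
    have hcv : Commute x v := mul_inv_eq_iff_eq_mul.mp (inv_mul_eq_one.mp hc1).symm
    rw [← hCQ]
    exact ⟨hv, hXcomm hcv⟩
  · refine ⟨a, ha, b, hb, ?_⟩
    by_contra! hh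
    have h1 : ⁅a, b⁆ ∈ (X ⊔ Q) ⊓ centralizer (V : Set G) :=
      ⟨mem_sup_right ((hZmem _).mp (hcomm a ha b hb)).1, fun v hv => (hh v hv).eq.symm⟩
    rw [hfaith, mem_bot] at h1
    exact hab h1
  · intro K hK ⟨a', ha', b', hb', hK'⟩ v hv hvb
    have hKbot : K = ⊥ := by
      have h1 := card_dvd_of_le hK
      rw [hZcard] at h1
      rcases (Nat.dvd_prime hq).mp h1 with h | h
      · exact card_eq_one.mp h
      · exact absurd (eq_of_le_of_card_ge hK (by rw [hZcard, h]) ▸ hcomm a' ha' b' hb') hK'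
    refine (hZmem v).mpr ⟨hv, fun w hw => commutatorElement_eq_one_iff_commute.mp ?_⟩
    exact mem_bot.mp (hKbot ▸ hvb w hw)
  · intro v hv hxv
    have h1 : v ∈ V ⊓ centralizer (X : Set G) := ⟨hv, hXcomm hxv⟩
    rwa [hCV, mem_bot] at h1

end Cfsg.Agent.S3764
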