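import Cfsg.Statements.S3765
import Cfsg.Agent.Lib.Classes23.ExtraFix

set_option autoImplicit false
open Cfsg

namespace Cfsg.Agent.S3765

open Subgroup Cfsg.Agent.Classes23
open scoped commutatorElement IsMulCommutative

/-- Let p, q, r be distinct primes and let X, Q, V be subgroups of a finite group with X of order r normalizing the q-group Q and acting faithfully on it (X ∩ C(Q) = 1), and V a nontrivial elementary abelian p-group normalized by X and Q on which XQ acts faithfully. If q = 2 and r has the form 2^n + 1, assume in addition that Q is abelian. Then C_V(X) ≠ 1. -/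
theorem result {G : Type*} [Group G] [Finite G] {p q r : ℕ} (hp : p.Prime) (hq : q.Prime) (hr : r.Prime) (hpq : p ≠ q) (hpr : p ≠ r) (hqr : q ≠ r) (X Q V : Subgroup G) (hX : Nat.card X = r) (hQ : IsPGroup q Q) (hXQ : X ≤ Subgroup.normalizer (Q : Set G)) (hXfaith : X ⊓ Subgroup.centralizer (Q : Set G) = ⊥) (hV : Cfsg.IsElementaryAbelian p V) (hV1 : V ≠ ⊥) (hXV : X ≤ Subgroup.normalizer (V : Set G)) (hQV : Q ≤ Subgroup.normalizer (V : Set G)) (hfaith : (X ⊔ Q) ⊓ Subgroup.centralizer (V : Set G) = ⊥) (hexc : q = 2 → (∃ n : ℕ, r = 2 ^ n + 1) → IsMulCommutative Q) : V ⊓ Subgroup.centralizer (X : Set G) ≠ ⊥ := by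
  haveI := Fact.mk hq
  haveI : Fact r.Prime := ⟨hr⟩
  obtain ⟨⟨x, hxX⟩, hgen⟩ := exists_prime_orderOf_dvd_card' (G := X) r (hX ▸ dvd_rfl)
  have hxo : orderOf x = r := by rw [← hgen, orderOf_mk]
  have hXz : zpowers x = X := eq_of_le_of_card_ge (zpowers_le.mpr hxX) (by rw [hX, Nat.card_zpowers, hxo])
  have hXcomm : ∀ {v : G}, Commute x v → v ∈ centralizer (X : Set G) := fun {v} hv y hy => by
    obtain ⟨n, rfl⟩ := hXz.symm ▸ hy
    exact (hv.zpow_left n).eq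
  intro hbot
  have hCV : ∀ v ∈ V, Commute x v → v = 1 := fun v hv hxv => by
    have h1 : v ∈ V ⊓ centralizer (X : Set G) := ⟨hv, hXcomm hxv⟩
    rwa [hbot, mem_bot] at h1
  have hx1 : x ≠ 1 := fun h => hr.ne_one (by rw [← hxo, h, orderOf_one])
  have hxr : x ^ r = 1 := hxo ▸ pow_orderOf_eq_one x
  -- a minimal invariant subgroup which is not centralized
  haveI : Nonempty {S : Subgroup G // S ≤ Q ∧ x ∈ normalizer (S : Set G) ∧ ∃ v ∈ S, ¬ Commute x v} := by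
    refine ⟨⟨Q, le_rfl, hXQ hxX, ?_⟩⟩
    by_contra! hh
    have h1 : x ∈ X ⊓ centralizer (Q : Set G) := ⟨hxX, fun v hv => (hh v hv).eq.symm⟩
    rw [hXfaith, mem_bot] at h1
    exact hx1 h1
  obtain ⟨⟨Q₀, hQ₀Q, hxQ₀, hnc⟩, hmin⟩ := Finite.exists_min
    fun S : {S : Subgroup G // S ≤ Q ∧ x ∈ normalizer (S : Set G) ∧ ∃ v ∈ S, ¬ Commute x v} =>
      Nat.card S.1
  have hQ₀ : IsPGroup q Q₀ := hQ.to_le hQ₀Q
  let C₀ : Subgroup G := Q₀ ⊓ centralizer ({x} : Set G)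
  have hC₀ : ∀ v, v ∈ C₀ ↔ v ∈ Q₀ ∧ Commute x v := fun v => by
    rw [mem_inf, mem_centralizer_singleton_iff]
    exact ⟨fun h => ⟨h.1, h.2.symm⟩, fun h => ⟨h.1, h.2.symm⟩⟩
  have hproper : ∀ S : Subgroup G, S ≤ Q₀ → x ∈ normalizer (S : Set G) →
      ∀ w ∈ Q₀, w ∉ S → S ≤ C₀ := by
    intro S hS hxS w hw hwS v hv
    refine (hC₀ v).mpr ⟨hS hv, ?_⟩
    by_contra hxv
    have h1 := hmin ⟨S, hS.trans hQ₀Q, hxS, v, hv, hxv⟩
    exact hwS (eq_of_le_of_card_ge hS h1 ▸ hw)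
  have hfix : ∀ v ∈ Q₀, ∀ c ∈ C₀, x * v * x⁻¹ = v * c → c = 1 := by
    intro v _ c hc h
    have h1 := conj_pow_eq ((hC₀ c).mp hc).2 h r
    rw [hxr, one_mul, inv_one, mul_one, left_eq_mul] at h1
    obtain ⟨e, he⟩ := hQ₀ ⟨c, ((hC₀ c).mp hc).1⟩
    exact orderOf_eq_one_iff.mp (Nat.eq_one_of_dvd_coprimes
      (Nat.Coprime.pow_left e ((Nat.coprime_primes hq hr).mpr hqr))
      (orderOf_dvd_of_pow_eq_one (congrArg Subtype.val he)) (orderOf_dvd_of_pow_eq_one h1))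
  have hfpf : ∀ v ∈ Q₀, v⁻¹ * (x * v * x⁻¹) ∈ C₀ → v ∈ C₀ := fun v hv hc => by
    have hc1 := hfix v hv _ hc (by simp)
    exact (hC₀ v).mpr ⟨hv, mul_inv_eq_iff_eq_mul.mp (inv_mul_eq_one.mp hc1).symm⟩
  have hconjQ : ∀ v ∈ Q₀, x * v * x⁻¹ ∈ Q₀ := fun v hv => (mem_normalizer_iff.mp hxQ₀ v).mp hv
  -- generation by the elements `v⁻¹ x v x⁻¹`
  let Tgen : Set G := {g | ∃ v ∈ Q₀, g = v⁻¹ * (x * v * x⁻¹)}
  have hTle : closure Tgen ≤ Q₀ := by
    rw [closure_le]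
    rintro _ ⟨v, hv, rfl⟩
    exact Q₀.mul_mem (Q₀.inv_mem hv) (hconjQ v hv)
  have hT : closure Tgen = Q₀ := by
    refine le_antisymm hTle fun w hw => ?_
    by_contra hwT
    have hxT : x ∈ normalizer (closure Tgen : Set G) := by
      refine mem_normalizer_of_map_le ?_
      rw [MonoidHom.map_closure, closure_le]
      rintro _ ⟨_, ⟨v, hv, rfl⟩, rfl⟩
      exact subset_closure ⟨x * v * x⁻¹, hconjQ v hv, by simp [mul_assoc]⟩
    have h1 := hproper _ hTle hxT w hw hwT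
    obtain ⟨v, hv, hxv⟩ := hnc
    exact hxv ((hC₀ v).mp (hfpf v hv (h1 (subset_closure ⟨v, hv, rfl⟩)))).2
  have hD : ∀ a ∈ Q₀, ∀ b ∈ Q₀, ⁅a, b⁆ ∈ C₀ := by
    intro a ha b hb
    let D := (_root_.commutator ↥Q₀).map Q₀.subtype
    have haD : ⁅a, b⁆ ∈ D :=
      ⟨⁅(⟨a, ha⟩ : Q₀), ⟨b, hb⟩⁆, commutator_mem_commutator (mem_top _) (mem_top _), rfl⟩
    haveI : Group.IsNilpotent Q₀ := hQ₀.isNilpotent
    obtain ⟨v, hv, hxv⟩ := hnc
    haveI : Nontrivial Q₀ := ⟨⟨v, hv⟩, 1, fun e => hxv (by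
      rw [show v = 1 from congrArg Subtype.val e]; exact Commute.one_right x)⟩
    obtain ⟨w, hw⟩ : ∃ w : Q₀, w ∉ _root_.commutator ↥Q₀ := by
      by_contra! hh
      exact (Group.IsSolvable.commutator_lt_top_of_nontrivial (G := Q₀)).ne ((eq_top_iff' _).mpr hh)
    refine hproper D (map_subtype_le _) ?_ w w.2 (fun h => hw ?_) haD
    · refine mem_normalizer_of_map_le ?_
      show ((_root_.commutator ↥Q₀).map Q₀.subtype).map _ ≤ _
      rw [_root_.commutator_eq_closure, MonoidHom.map_closure, MonoidHom.map_closure, closure_le]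
      rintro _ ⟨_, ⟨_, ⟨u, w, rfl⟩, rfl⟩, rfl⟩
      let u' : Q₀ := ⟨x * u * x⁻¹, hconjQ u u.2⟩
      let w' : Q₀ := ⟨x * w * x⁻¹, hconjQ w w.2⟩
      exact ⟨⁅u', w'⁆, commutator_mem_commutator (mem_top _) (mem_top _),
        (map_commutatorElement (MulAut.conj x).toMonoidHom (u : G) (w : G)).symm⟩
    · obtain ⟨w', hw', he⟩ := h
      rwa [← show w' = w from Subtype.ext he]
  have hcen : ∀ c ∈ C₀, ∀ v ∈ Q₀, Commute c v := by
    intro c hc v hv
    rw [← hT] at hv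
    refine closure_induction (p := fun v _ => Commute c v) ?_ (Commute.one_right c)
      (fun _ _ _ _ h h' => h.mul_right h') (fun _ _ h => h.inv_right) hv
    rintro _ ⟨u, hu, rfl⟩
    obtain ⟨hcQ, hxc⟩ := (hC₀ c).mp hc
    set d := c * u * c⁻¹ * u⁻¹ with hd
    have hdC : d ∈ C₀ := hD c hcQ u hu
    have hxd : x * d * x⁻¹ = d := mul_inv_eq_iff_eq_mul.mpr ((hC₀ d).mp hdC).2.eq
    have hxc' : x * c * x⁻¹ = c := mul_inv_eq_iff_eq_mul.mpr hxc.eq
    have e1 : c * u * c⁻¹ = d * u := by simp [hd, mul_assoc]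
    have e2 : c * (x * u * x⁻¹) * c⁻¹ = d * (x * u * x⁻¹) := by
      calc c * (x * u * x⁻¹) * c⁻¹ = (x * c * x⁻¹) * (x * u * x⁻¹) * (x * c * x⁻¹)⁻¹ := by rw [hxc']
        _ = x * (c * u * c⁻¹) * x⁻¹ := by simp [mul_assoc]
        _ = (x * d * x⁻¹) * (x * u * x⁻¹) := by rw [e1]; simp [mul_assoc]
        _ = d * (x * u * x⁻¹) := by rw [hxd]
    refine mul_inv_eq_iff_eq_mul.mp ?_
    calc c * (u⁻¹ * (x * u * x⁻¹)) * c⁻¹ = (c * u * c⁻¹)⁻¹ * (c * (x * u * x⁻¹) * c⁻¹) := by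
          simp [mul_assoc]
      _ = u⁻¹ * (x * u * x⁻¹) := by rw [e1, e2]; simp [mul_assoc]
  by_cases hab : ∀ a ∈ Q₀, ∀ b ∈ Q₀, ⁅a, b⁆ = 1
  · -- abelian case: a Frobenius action on `[V, Q₀]`
    haveI : IsMulCommutative Q₀ :=
      ⟨⟨fun a b => Subtype.ext (commutatorElement_eq_one_iff_commute.mp (hab a a.2 b b.2)).eq⟩⟩
    haveI := hV.1
    have hxV : x ∈ normalizer (V : Set G) := hXV hxX
    have hQV₀ : Q₀ ≤ normalizer (V : Set G) := hQ₀Q.trans hQV
    have hnV : ∀ {g : G}, g ∈ normalizer (V : Set G) → ∀ v ∈ V, g * v * g⁻¹ ∈ V := fun hg v hv =>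
      (mem_normalizer_iff.mp hg v).mp hv
    haveI := Fintype.ofFinite Q₀
    -- fixed points of `x` on `Q₀`
    let y : normalizer (Q₀ : Set G) := ⟨x, hxQ₀⟩
    have hQfix : ∀ c ∈ Q₀, Commute x c → c = 1 := by
      intro c hc hxc
      let ν : Q₀ →* Q₀ :=
        { toFun := fun v => ∏ i ∈ Finset.range r, cmap Q₀ (y ^ i) v
          map_one' := Finset.prod_eq_one fun i _ => Subtype.ext (by simp [cmap])
          map_mul' := fun a b => by
            rw [← Finset.prod_mul_distrib]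
            exact Finset.prod_congr rfl fun i _ => Subtype.ext (by simp [cmap, mul_assoc]) }
      have hker : closure Tgen ≤ ν.ker.map Q₀.subtype := by
        rw [closure_le]
        rintro _ ⟨v, hv, rfl⟩
        refine ⟨⟨v, hv⟩⁻¹ * cmap Q₀ y ⟨v, hv⟩, ?_, rfl⟩
        rw [SetLike.mem_coe, MonoidHom.mem_ker, map_mul, map_inv, inv_mul_eq_one]
        show (∏ i ∈ Finset.range r, cmap Q₀ (y ^ i) ⟨v, hv⟩) =
          ∏ i ∈ Finset.range r, cmap Q₀ (y ^ i) (cmap Q₀ y ⟨v, hv⟩)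
        simp only [← cmap_mul, ← pow_succ]
        have h2 := Finset.prod_range_succ' (fun i => cmap Q₀ (y ^ i) ⟨v, hv⟩) r
        rw [Finset.prod_range_succ, show y ^ r = 1 from Subtype.ext hxr, pow_zero, cmap_one] at h2
        exact mul_right_cancel h2
      obtain ⟨c', hc', he⟩ := hker (hT.symm ▸ hc)
      obtain rfl : c' = ⟨c, hc⟩ := Subtype.ext he
      have h1 : ν ⟨c, hc⟩ = ⟨c, hc⟩ ^ r := by
        show (∏ i ∈ Finset.range r, cmap Q₀ (y ^ i) ⟨c, hc⟩) = _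
        rw [← Finset.card_range r, ← Finset.prod_const, Finset.card_range]
        refine Finset.prod_congr rfl fun i _ => ?_
        refine Subtype.ext ?_
        show ((y ^ i : normalizer (Q₀ : Set G)) : G) * c * ((y ^ i : normalizer (Q₀ : Set G)) : G)⁻¹ = c
        exact mul_inv_eq_iff_eq_mul.mpr (hxc.pow_left i).eq
      rw [MonoidHom.mem_ker.mp hc'] at h1
      obtain ⟨e, he'⟩ := hQ₀ ⟨c, hc⟩
      exact congrArg Subtype.val (orderOf_eq_one_iff.mp (Nat.eq_one_of_dvd_coprimes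
        (Nat.Coprime.pow_left e ((Nat.coprime_primes hq hr).mpr hqr))
        (orderOf_dvd_of_pow_eq_one he') (orderOf_dvd_of_pow_eq_one h1.symm)))
    -- the subgroup `[V, Q₀]`
    let Wgen : Set G := {g | ∃ v ∈ V, ∃ u ∈ Q₀, g = v⁻¹ * (u * v * u⁻¹)}
    let W := closure Wgen
    have hWV : W ≤ V := by
      rw [closure_le]
      rintro _ ⟨v, hv, u, hu, rfl⟩
      exact V.mul_mem (V.inv_mem hv) (hnV (hQV₀ hu) v hv)
    haveI : IsMulCommutative W := ⟨⟨fun a b => Subtype.ext (by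
      have e := congrArg Subtype.val (mul_comm' (⟨a, hWV a.2⟩ : V) ⟨b, hWV b.2⟩)
      exact e)⟩⟩
    have hWn : ∀ g, g ∈ normalizer (V : Set G) → g ∈ normalizer (Q₀ : Set G) →
        g ∈ normalizer (W : Set G) := by
      intro g hgV hgQ
      refine mem_normalizer_of_map_le ?_
      rw [MonoidHom.map_closure, closure_le]
      rintro _ ⟨_, ⟨v, hv, u, hu, rfl⟩, rfl⟩
      exact subset_closure ⟨g * v * g⁻¹, hnV hgV v hv, g * u * g⁻¹,
        (mem_normalizer_iff.mp hgQ u).mp hu, by simp [mul_assoc]⟩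
    have hQW : Q₀ ≤ normalizer (W : Set G) := fun u hu => hWn u (hQV₀ hu) (le_normalizer hu)
    obtain ⟨e, he⟩ := IsPGroup.iff_card.mp hQ₀
    have hpQ : ∀ v ∈ V, v ^ Nat.card Q₀ = 1 → v = 1 := fun v hv h =>
      orderOf_eq_one_iff.mp (Nat.eq_one_of_dvd_coprimes
        (Nat.Coprime.pow_right e ((Nat.coprime_primes hp hq).mpr hpq))
        (orderOf_dvd_of_pow_eq_one (hV.2 v hv)) (he ▸ orderOf_dvd_of_pow_eq_one h))
    have hWK : ∀ v ∈ W, (∀ u ∈ Q₀, Commute u v) → v = 1 := by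
      intro w hw hfix'
      let ν : V →* V :=
        { toFun := fun v => ∏ u : Q₀, cmap V ⟨u, hQV₀ u.2⟩ v
          map_one' := Finset.prod_eq_one fun i _ => Subtype.ext (by simp [cmap])
          map_mul' := fun a b => by
            rw [← Finset.prod_mul_distrib]
            exact Finset.prod_congr rfl fun i _ => Subtype.ext (by simp [cmap, mul_assoc]) }
      have hker : W ≤ ν.ker.map V.subtype := by
        rw [closure_le]
        rintro _ ⟨v, hv, u, hu, rfl⟩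
        refine ⟨⟨v, hv⟩⁻¹ * cmap V ⟨u, hQV₀ hu⟩ ⟨v, hv⟩, ?_, rfl⟩
        rw [SetLike.mem_coe, MonoidHom.mem_ker, map_mul, map_inv, inv_mul_eq_one]
        show (∏ k : Q₀, cmap V ⟨k, hQV₀ k.2⟩ ⟨v, hv⟩) =
          ∏ k : Q₀, cmap V ⟨k, hQV₀ k.2⟩ (cmap V ⟨u, hQV₀ hu⟩ ⟨v, hv⟩)
        refine (Fintype.prod_equiv (Equiv.mulRight ⟨u, hu⟩) _ _ fun k => ?_).symm
        rw [← cmap_mul]
        rfl
      obtain ⟨w', hw', hew⟩ := hker hw
      obtain rfl : w' = ⟨w, hWV hw⟩ := Subtype.ext hew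
      refine hpQ w (hWV hw) ?_
      have h1 : ν ⟨w, hWV hw⟩ = ⟨w, hWV hw⟩ ^ Nat.card Q₀ := by
        refine (Finset.prod_congr rfl fun u _ => ?_).trans
          (by rw [Finset.prod_const, Finset.card_univ, Nat.card_eq_fintype_card])
        exact Subtype.ext (mul_inv_eq_iff_eq_mul.mpr (hfix' u u.2).eq)
      rw [MonoidHom.mem_ker.mp hw'] at h1
      exact congrArg Subtype.val h1.symm
    have hWbot : ∀ v ∈ W, v = 1 := by
      intro v hv
      refine hpQ v (hWV hv) (pow_card_eq_one_of_frobenius_norm (p := r) W Q₀ hQW (hWn x hxV hxQ₀)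
        hxQ₀ hxr ?_ hWK ?_ v hv)
      · intro i h0 hi u hu hc
        refine hQfix u hu ?_
        obtain ⟨m, hm⟩ := exists_pow_eq_self_of_coprime (x := x) (n := i) (by
          rw [hxo]
          exact (Nat.coprime_of_lt_prime h0.ne' hi hr).symm)
        rw [← hm]
        exact hc.pow_left m
      · intro w hw k hk
        have hy : k * x * k⁻¹ ∈ normalizer (W : Set G) :=
          mul_mem (mul_mem (hQW hk) (hWn x hxV hxQ₀)) (inv_mem (hQW hk))
        have hyr : (k * x * k⁻¹) ^ r = 1 := by rw [conj_pow, hxr, mul_one, mul_inv_cancel]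
        have hm := mul_pow_eq_prod W (k * x * k⁻¹) hy ⟨w, hw⟩ r
        rw [hyr, mul_one] at hm
        rw [hm]
        set P := ∏ i ∈ Finset.range r, (⟨(k * x * k⁻¹) ^ i * w * ((k * x * k⁻¹) ^ i)⁻¹,
          (mem_normalizer_iff.mp (pow_mem hy i) _).mp hw⟩ : W) with hP
        have h1 : cmap W ⟨k * x * k⁻¹, hy⟩ P = P := by
          rw [hP, cmap_prod]
          have h2 := Finset.prod_range_succ' (fun i => cmap W ((⟨k * x * k⁻¹, hy⟩ :
            normalizer (W : Set G)) ^ i) ⟨w, hw⟩) r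
          rw [Finset.prod_range_succ, show (⟨k * x * k⁻¹, hy⟩ : normalizer (W : Set G)) ^ r = 1 from
            Subtype.ext hyr, pow_zero, cmap_one] at h2
          refine Eq.trans ?_ ((mul_right_cancel h2).symm.trans ?_)
          · refine Finset.prod_congr rfl fun i _ => ?_
            rw [pow_succ', cmap_mul]
            rfl
          · exact Finset.prod_congr rfl fun i _ => rfl
        have h2 : Commute (k * x * k⁻¹) (P : G) := mul_inv_eq_iff_eq_mul.mp (congrArg Subtype.val h1)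
        have hkV : k⁻¹ * (P : G) * k ∈ V := by
          simpa using hnV (inv_mem (hQV₀ hk)) _ (hWV P.2)
        have h3 := hCV _ hkV (by
          show x * (k⁻¹ * (P : G) * k) = k⁻¹ * (P : G) * k * x
          calc x * (k⁻¹ * (P : G) * k) = k⁻¹ * ((k * x * k⁻¹) * P) * k := by simp [mul_assoc]
            _ = k⁻¹ * ((P : G) * (k * x * k⁻¹)) * k := by rw [h2.eq]
            _ = _ := by simp [mul_assoc])
        have := congrArg (fun g => k * g * k⁻¹) h3
        simpa [mul_assoc] using this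
    obtain ⟨u, hu, hxu⟩ := hnc
    have h1 : u ∈ (X ⊔ Q) ⊓ centralizer (V : Set G) :=
      ⟨mem_sup_right (hQ₀Q hu), fun v hv => by
        have h2 := hWbot _ (subset_closure ⟨v, hv, u, hu, rfl⟩)
        exact (mul_inv_eq_iff_eq_mul.mp (inv_mul_eq_one.mp h2).symm).symm⟩
    rw [hfaith, mem_bot] at h1
    exact hxu (h1 ▸ Commute.one_right x)
  · push Not at hab
    obtain ⟨a, ha, b, hb, hne⟩ := hab
    suffices hgoal : q = 2 ∧ ∃ n : ℕ, r = 2 ^ n + 1 ∧ Nat.card Q₀ = Nat.card C₀ * 2 ^ (2 * n) by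
      obtain ⟨hq2, n, hrn, -⟩ := hgoal
      haveI := hexc hq2 ⟨n, hrn⟩
      exact hne (commutatorElement_eq_one_iff_commute.mpr
        (congrArg Subtype.val (mul_comm' (⟨a, hQ₀Q ha⟩ : Q) ⟨b, hQ₀Q hb⟩)))
    refine extraspecial_bound hp hq hr hpq hpr x hxr Q₀ V C₀ hQ₀ hV (hXV hxX)
      (hQ₀Q.trans hQV) hxQ₀ inf_le_left hcen (fun c hc => ((hC₀ c).mp hc).2) hD hfpf ?_ ?_ hCV
    · refine ⟨a, ha, b, hb, ?_⟩
      by_contra! hh
      have h1 : ⁅a, b⁆ ∈ (X ⊔ Q) ⊓ centralizer (V : Set G) :=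
        ⟨mem_sup_right (hQ₀Q ((hC₀ _).mp (hD a ha b hb)).1), fun v hv => (hh v hv).eq.symm⟩
      rw [hfaith, mem_bot] at h1
      exact hne h1
    · intro K hK ⟨a', ha', b', hb', hK'⟩ v hv hvb
      have hKc : ∀ k ∈ K, ∀ w ∈ Q₀, Commute k w := fun k hk => hcen k (hK hk)
      let R : Subgroup G :=
        { carrier := {v | v ∈ Q₀ ∧ ∀ w ∈ Q₀, ⁅v, w⁆ ∈ K}
          one_mem' := ⟨one_mem _, fun w _ => by simp⟩
          mul_mem' := fun {u u'} hu hu' => ⟨mul_mem hu.1 hu'.1, fun w hw => by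
            have e : ⁅u * u', w⁆ = u * ⁅u', w⁆ * u⁻¹ * ⁅u, w⁆ := by
              simp [commutatorElement_def, mul_assoc]
            rw [e, show u * ⁅u', w⁆ * u⁻¹ = ⁅u', w⁆ from
              mul_inv_eq_iff_eq_mul.mpr (hKc _ (hu'.2 w hw) u hu.1).eq.symm]
            exact mul_mem (hu'.2 w hw) (hu.2 w hw)⟩
          inv_mem' := fun {u} hu => ⟨inv_mem hu.1, fun w hw => by
            have e : ⁅u⁻¹, w⁆ = u⁻¹ * ⁅u, w⁆⁻¹ * u := by simp [commutatorElement_def, mul_assoc]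
            rw [e, show u⁻¹ * ⁅u, w⁆⁻¹ * u = ⁅u, w⁆⁻¹ by
              rw [mul_assoc, (hKc _ (inv_mem (hu.2 w hw)) u hu.1).eq, inv_mul_cancel_left]]
            exact inv_mem (hu.2 w hw)⟩ }
      have hxR : x ∈ normalizer (R : Set G) := by
        refine mem_normalizer_of_map_le ?_
        rintro _ ⟨u, ⟨huQ, hu⟩, rfl⟩
        refine ⟨hconjQ u huQ, fun w hw => ?_⟩
        have hw' : x⁻¹ * w * x ∈ Q₀ := (mem_normalizer_iff''.mp hxQ₀ w).mp hw
        have h1 := hu _ hw'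
        have h2 : ⁅x * u * x⁻¹, w⁆ = x * ⁅u, x⁻¹ * w * x⁆ * x⁻¹ := by
          simp [commutatorElement_def, mul_assoc]
        show ⁅x * u * x⁻¹, w⁆ ∈ K
        rw [h2, mul_inv_eq_iff_eq_mul.mpr ((hC₀ _).mp (hK h1)).2.eq]
        exact h1
      exact hproper R (fun u hu => hu.1) hxR a' ha' (fun h => hK' (h.2 b' hb')) ⟨hv, hvb⟩

end Cfsg.Agent.S3765
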