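import Cfsg.Statements.S3766
import Cfsg.Agent.Lib.Basics.Cores
import Cfsg.Agent.Lib.Basics.Tools

set_option autoImplicit false
open Cfsg
open scoped commutatorElement

namespace Cfsg.Agent.S3766

/-- The series `F, [F, M], [F, M, M], …`. -/
def ser {G : Type*} [Group G] (F M : Subgroup G) : ℕ → Subgroup G
  | 0 => F
  | i + 1 => ⁅ser F M i, M⁆

theorem lcs_le {G : Type*} [Group G] (M : Subgroup G) [hM : M.Normal] :
    ∀ k, M.lowerCentralSeries k ≤ M := by
  intro k
  cases k with
  | zero => exact le_rfl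
  | succ k => exact Subgroup.commutator_le_right _ M

/-- A nilpotent normal subgroup centralizes every chief factor. -/
theorem chief_centralized {G : Type*} [Group G] [Finite G] (F U V : Subgroup G) [F.Normal]
    [hF : Group.IsNilpotent F] (h : U.Normal ∧ V.Normal ∧ V < U ∧
      ∀ W : Subgroup G, W.Normal → V ≤ W → W ≤ U → W = V ∨ W = U) :
    ∀ u ∈ U, ∀ g ∈ F, u * g * u⁻¹ * g⁻¹ ∈ V := by
  obtain ⟨hU, hV, hlt, hmin⟩ := h
  haveI := hU
  haveI := hV
  rcases hmin (⁅U, F⁆ ⊔ V) inferInstance le_sup_right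
    (sup_le (Subgroup.commutator_le_left U F) hlt.le) with h1 | h1
  · intro u hu g hg
    exact h1 ▸ Subgroup.mem_sup_left (Subgroup.commutator_mem_commutator hu hg)
  · exfalso
    set π := QuotientGroup.mk' V with hπ
    have hVmap : V.map π = ⊥ := by rw [Subgroup.map_eq_bot_iff, QuotientGroup.ker_mk']
    have heq : U.map π = ⁅U.map π, F.map π⁆ := by
      conv_lhs => rw [← h1]
      rw [Subgroup.map_sup, hVmap, sup_bot_eq, Subgroup.map_commutator]
    have hle : ∀ k, U.map π ≤ (F.lowerCentralSeries k).map π := by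
      intro k
      induction k with
      | zero =>
        calc U.map π = (⁅U, F⁆).map π := by rw [Subgroup.map_commutator, ← heq]
          _ ≤ F.map π := Subgroup.map_mono (Subgroup.commutator_le_right U F)
      | succ k ih =>
        show U.map π ≤ (⁅F.lowerCentralSeries k, F⁆).map π
        rw [Subgroup.map_commutator]
        exact heq.le.trans (Subgroup.commutator_mono ih le_rfl)
    obtain ⟨c, hc⟩ := (Subgroup.isNilpotent_iff_lowerCentralSeries F).mp hF
    have hbot := hle c
    rw [hc, Subgroup.map_bot, le_bot_iff, Subgroup.map_eq_bot_iff, QuotientGroup.ker_mk'] at hbot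
    exact absurd hbot (not_le_of_gt hlt)

/-- Let G be a finite solvable group and N a normal subgroup of G. Call a pair V < U of normal subgroups of G a chief factor of G when no normal subgroup of G lies strictly between them; an element g centralizes the chief factor U/V when u g u⁻¹ g⁻¹ ∈ V for all u ∈ U. Then an element of G lies in the Fitting subgroup F(N) if and only if it lies in N and centralizes every chief factor of G; and also if and only if it lies in N and centralizes every chief factor U/V of G with U ≤ F(N). -/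
theorem result {G : Type*} [Group G] [Finite G] (hG : Group.IsSolvable G) (N : Subgroup G) [N.Normal] (g : G) : (g ∈ (Cfsg.fittingSubgroup ↥N).map N.subtype ↔ g ∈ N ∧ ∀ U V : Subgroup G, (U.Normal ∧ V.Normal ∧ V < U ∧ ∀ W : Subgroup G, W.Normal → V ≤ W → W ≤ U → W = V ∨ W = U) → ∀ u ∈ U, u * g * u⁻¹ * g⁻¹ ∈ V) ∧ (g ∈ (Cfsg.fittingSubgroup ↥N).map N.subtype ↔ g ∈ N ∧ ∀ U V : Subgroup G, (U.Normal ∧ V.Normal ∧ V < U ∧ ∀ W : Subgroup G, W.Normal → V ≤ W → W ≤ U → W = V ∨ W = U) → U ≤ (Cfsg.fittingSubgroup ↥N).map N.subtype → ∀ u ∈ U, u * g * u⁻¹ * g⁻¹ ∈ V) := by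
  haveI := hG
  set F : Subgroup G := (Cfsg.fittingSubgroup ↥N).map N.subtype with hF
  haveI hFn : F.Normal := inferInstance
  have hFnil : Group.IsNilpotent F :=
    Group.nilpotent_of_mulEquiv
      ((Cfsg.fittingSubgroup ↥N).equivMapOfInjective N.subtype N.subtype_injective)
  have hFN : F ≤ N := Subgroup.map_subtype_le _
  have hfwd : g ∈ F → g ∈ N ∧ ∀ U V : Subgroup G, (U.Normal ∧ V.Normal ∧ V < U ∧
      ∀ W : Subgroup G, W.Normal → V ≤ W → W ≤ U → W = V ∨ W = U) →
      ∀ u ∈ U, u * g * u⁻¹ * g⁻¹ ∈ V :=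
    fun hg => ⟨hFN hg, fun U V h u hu => chief_centralized F U V h u hu g hg⟩
  have hback : g ∈ N → (∀ U V : Subgroup G, (U.Normal ∧ V.Normal ∧ V < U ∧
      ∀ W : Subgroup G, W.Normal → V ≤ W → W ≤ U → W = V ∨ W = U) → U ≤ F →
      ∀ u ∈ U, u * g * u⁻¹ * g⁻¹ ∈ V) → g ∈ F := by
    intro hgN hg
    let M : Subgroup G :=
      { carrier := {x | x ∈ N ∧ ∀ U V : Subgroup G, (U.Normal ∧ V.Normal ∧ V < U ∧
          ∀ W : Subgroup G, W.Normal → V ≤ W → W ≤ U → W = V ∨ W = U) → U ≤ F →
          ∀ u ∈ U, u * x * u⁻¹ * x⁻¹ ∈ V}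
        one_mem' := ⟨one_mem N, fun U V h _ u _ => by simp [one_mem]⟩
        mul_mem' := fun {x y} hx hy => ⟨mul_mem hx.1 hy.1, fun U V h hU u hu => by
          have e : u * (x * y) * u⁻¹ * (x * y)⁻¹ =
              (u * x * u⁻¹ * x⁻¹) * (x * (u * y * u⁻¹ * y⁻¹) * x⁻¹) := by group
          rw [e]
          exact mul_mem (hx.2 U V h hU u hu) (h.2.1.conj_mem _ (hy.2 U V h hU u hu) x)⟩
        inv_mem' := fun {x} hx => ⟨inv_mem hx.1, fun U V h hU u hu => by
          have e : u * x⁻¹ * u⁻¹ * x⁻¹⁻¹ = x⁻¹ * (u * x * u⁻¹ * x⁻¹)⁻¹ * x⁻¹⁻¹ := by group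
          rw [e]
          exact h.2.1.conj_mem _ (inv_mem (hx.2 U V h hU u hu)) x⁻¹⟩ }
    have hMn : M.Normal := ⟨fun x hx c => ⟨‹N.Normal›.conj_mem x hx.1 c, fun U V h hU u hu => by
      have h1 := h.2.1.conj_mem _ (hx.2 U V h hU (c⁻¹ * u * c) (by
        simpa using h.1.conj_mem u hu c⁻¹)) c
      have e : u * (c * x * c⁻¹) * u⁻¹ * (c * x * c⁻¹)⁻¹ =
          c * ((c⁻¹ * u * c) * x * (c⁻¹ * u * c)⁻¹ * x⁻¹) * c⁻¹ := by group
      rw [e]
      exact h1⟩⟩
    have hMN : M ≤ N := fun x hx => hx.1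
    have hFM : F ≤ M := fun x hx => ⟨hFN hx, fun U V h _ u hu => chief_centralized F U V h u hu x hx⟩
    -- the descending series of `F`
    let Fs : ℕ → Subgroup G := ser F M
    have hFs : ∀ i, (Fs i).Normal ∧ Fs i ≤ F := by
      intro i
      induction i with
      | zero => exact ⟨hFn, le_rfl⟩
      | succ i ih =>
        obtain ⟨h1, h2⟩ := ih
        haveI := h1
        haveI := hMn
        exact ⟨(inferInstance : (⁅Fs i, M⁆ : Subgroup G).Normal),
          (Subgroup.commutator_le_left (Fs i) M).trans h2⟩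
    have hlt : ∀ i, Fs i ≠ ⊥ → Fs (i + 1) < Fs i := by
      intro i hi
      haveI := (hFs i).1
      obtain ⟨V, ⟨hVn, hVU⟩, hmax⟩ := WellFounded.has_min (wellFounded_gt (α := Subgroup G))
        {V | V.Normal ∧ V < Fs i} ⟨⊥, inferInstance, bot_lt_iff_ne_bot.mpr hi⟩
      refine lt_of_le_of_lt ?_ hVU
      show ⁅Fs i, M⁆ ≤ V
      rw [Subgroup.commutator_le]
      intro u hu x hx
      refine hx.2 (Fs i) V ⟨inferInstance, hVn, hVU, fun W hW h1 h2 => ?_⟩ (hFs i).2 u hu
      by_contra hc
      rw [not_or] at hc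
      exact hmax W ⟨hW, lt_of_le_of_ne h2 hc.2⟩ (lt_of_le_of_ne h1 (Ne.symm hc.1))
    have hbot : Fs (Nat.card F) = ⊥ := by
      have key : ∀ i, Fs i = ⊥ ∨ Nat.card (Fs i) + i ≤ Nat.card F := by
        intro i
        induction i with
        | zero => exact Or.inr le_rfl
        | succ i ih =>
          by_cases h : Fs i = ⊥
          · left
            show ⁅Fs i, M⁆ = ⊥
            rw [h, Subgroup.commutator_bot_left]
          · right
            have := Cfsg.Agent.Basics.card_lt_of_lt (hlt i h)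
            have := ih.resolve_left h
            omega
      rcases key (Nat.card F) with h | h
      · exact h
      · have : 0 < Nat.card (Fs (Nat.card F)) := Nat.card_pos
        omega
    have hgam : ∀ j i, ⁅Fs i, M.lowerCentralSeries j⁆ ≤ Fs (i + j + 1) := by
      intro j
      induction j with
      | zero => exact fun i => le_rfl
      | succ j ih =>
        intro i
        haveI := (hFs (i + (j + 1) + 1)).1
        set π := QuotientGroup.mk' (Fs (i + (j + 1) + 1))
        have hker : ∀ A : Subgroup G, A ≤ Fs (i + (j + 1) + 1) ↔ A.map π = ⊥ := fun A => by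
          rw [Subgroup.map_eq_bot_iff, QuotientGroup.ker_mk']
        rw [Subgroup.commutator_comm, hker]
        show (⁅⁅M.lowerCentralSeries j, M⁆, Fs i⁆).map π = ⊥
        simp only [Subgroup.map_commutator]
        apply Subgroup.commutator_commutator_eq_bot_of_rotate
        · rw [← Subgroup.map_commutator, ← Subgroup.map_commutator, ← hker,
            Subgroup.commutator_comm M (Fs i)]
          exact (ih (i + 1)).trans (le_of_eq (by rw [show i + 1 + j + 1 = i + (j + 1) + 1 by omega]))
        · rw [← Subgroup.map_commutator, ← Subgroup.map_commutator, ← hker]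
          exact (Subgroup.commutator_mono (ih i) le_rfl).trans
            (le_of_eq (show Fs (i + j + 1 + 1) = Fs (i + (j + 1) + 1) by
              rw [show i + j + 1 + 1 = i + (j + 1) + 1 by omega]))
    set n := Nat.card F with hn
    have hgamn : M.lowerCentralSeries n ≤ F := by
      have h1 : ⁅Fs 0, M.lowerCentralSeries n⁆ = ⊥ := by
        refine le_bot_iff.mp ((hgam n 0).trans ?_)
        show ⁅Fs (0 + n), M⁆ ≤ ⊥
        rw [Nat.zero_add, hbot, Subgroup.commutator_bot_left]
      intro x hx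
      have hxN : x ∈ N := hMN (lcs_le M n hx)
      have h2 : (⟨x, hxN⟩ : N) ∈ Subgroup.centralizer (Cfsg.fittingSubgroup ↥N : Set N) := by
        rw [Subgroup.mem_centralizer_iff]
        intro y hy
        apply Subtype.ext
        have h3 := Subgroup.mem_centralizer_iff.mp
          (Subgroup.commutator_eq_bot_iff_le_centralizer.mp h1 ⟨y, hy, rfl⟩) x hx
        exact h3.symm
      exact ⟨⟨x, hxN⟩, Cfsg.Agent.Basics.centralizer_fittingSubgroup_le h2, rfl⟩
    have hdesc : ∀ k, M.lowerCentralSeries (n + k) ≤ Fs k := by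
      intro k
      induction k with
      | zero => exact hgamn
      | succ k ih => exact Subgroup.commutator_mono ih le_rfl
    have hMnil : Group.IsNilpotent M := (Subgroup.isNilpotent_iff_lowerCentralSeries M).mpr
      ⟨n + n, le_bot_iff.mp ((hdesc n).trans hbot.le)⟩
    haveI : Group.IsNilpotent (M.subgroupOf N) :=
      Group.nilpotent_of_mulEquiv (_h := hMnil) (Subgroup.subgroupOfEquivOfLe hMN).symm
    have hle := Cfsg.Agent.Basics.le_fittingSubgroup (N := M.subgroupOf N) inferInstance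
    exact ⟨⟨g, hgN⟩, hle (show (g : G) ∈ M from ⟨hgN, hg⟩), rfl⟩
  exact ⟨⟨hfwd, fun h => hback h.1 fun U V h1 _ => h.2 U V h1⟩,
    ⟨fun h => ⟨(hfwd h).1, fun U V h1 _ => (hfwd h).2 U V h1⟩, fun h => hback h.1 h.2⟩⟩

end Cfsg.Agent.S3766
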