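import Cfsg.Statements.S3767
import Mathlib
import Cfsg.Agent.Lib.Basics.Frattini

set_option linter.style.haveILetI false
set_option maxHeartbeats 1000000

set_option autoImplicit false
open Cfsg

namespace Cfsg.Agent.S3767

open Subgroup Cfsg.Agent Polynomial
open scoped commutatorElement Matrix

theorem rev_roots {k : Type*} [Field k] : ∀ s : Multiset k, (0 : k) ∉ s →
    (s.map fun a => X - C a).prod.reverse ≠ 0 ∧
      (s.map fun a => X - C a).prod.reverse.roots = s.map fun a => a⁻¹ := by
  intro s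
  induction s using Multiset.induction with
  | empty =>
    intro _
    have : reverse (1 : k[X]) = 1 := by rw [← C_1, reverse_C]
    simp [this]
  | cons a s ih =>
    intro h
    obtain ⟨ha, hs⟩ : a ≠ 0 ∧ (0 : k) ∉ s := by
      simpa [eq_comm] using h
    obtain ⟨h1, h2⟩ := ih hs
    have hlin : reverse (X - C a) = C (-a) * X + C 1 := by
      rw [reverse, natDegree_X_sub_C]
      ext i
      rw [coeff_reflect]
      rcases i with _ | _ | i <;>
        simp [revAt_eq_self_of_lt, coeff_X, coeff_C, Polynomial.coeff_one, coeff_sub, coeff_add]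
    have hl0 : C (-a) * X + C (1 : k) ≠ 0 := fun h0 => by
      have := congrArg (fun q : k[X] => q.coeff 0) h0
      simp at this
    rw [Multiset.map_cons, Multiset.prod_cons, reverse_mul_of_domain, hlin]
    refine ⟨mul_ne_zero hl0 h1, ?_⟩
    rw [roots_mul (mul_ne_zero hl0 h1), roots_C_mul_X_add_C _ (neg_ne_zero.mpr ha), h2,
      Multiset.map_cons, ← Multiset.singleton_add]
    congr 2
    field_simp

/-- Counting primitive roots in a multiset stable under `x ↦ x⁻¹` and `x ↦ x ^ p`. -/
theorem dvd_of_multiset {k : Type*} [Field k] [DecidableEq k] {p m n : ℕ} [hm0 : NeZero m] (hm : 2 < m)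
    (hpm : p.Coprime m) {ζ : k} (hζ : IsPrimitiveRoot ζ m) (R : Multiset k)
    (hcard : Multiset.card R = 2 * n) (hprim : ∀ x ∈ R, IsPrimitiveRoot x m)
    (hinv : ∀ x : k, R.count x⁻¹ = R.count x) (hfrob : ∀ x : k, R.count (x ^ p) = R.count x) :
    m ∣ p ^ n + 1 ∨ m ∣ p ^ n - 1 := by
  classical
  let P : (ZMod m)ˣ := ZMod.unitOfCoprime p hpm
  let F : (ZMod m)ˣ → ℕ := fun u => R.count (ζ ^ (u : ZMod m).val)
  have hpoweq : ∀ a b : ℕ, (a : ZMod m) = (b : ZMod m) → ζ ^ a = ζ ^ b := fun a b h => by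
    rw [← pow_mod_orderOf ζ a, ← pow_mod_orderOf ζ b, ← hζ.eq_orderOf,
      (ZMod.natCast_eq_natCast_iff' a b m).mp h]
  have hFP : ∀ u, F (u * P) = F u := fun u => by
    show R.count _ = _
    rw [show ζ ^ ((u * P : (ZMod m)ˣ) : ZMod m).val = (ζ ^ (u : ZMod m).val) ^ p by
      rw [← pow_mul]
      exact hpoweq _ _ (by simp [P, ZMod.coe_unitOfCoprime])]
    exact hfrob _
  have hFN : ∀ u, F (u * -1) = F u := fun u => by
    show R.count _ = _
    rw [show ζ ^ ((u * -1 : (ZMod m)ˣ) : ZMod m).val = (ζ ^ (u : ZMod m).val)⁻¹ by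
      refine eq_inv_of_mul_eq_one_left ?_
      rw [← pow_add, ← pow_zero ζ]
      exact hpoweq _ _ (by simp)]
    exact hinv _
  set S : Subgroup (ZMod m)ˣ := zpowers P ⊔ zpowers (-1) with hS
  have hFS : ∀ s ∈ S, ∀ u, F (u * s) = F u := by
    let St : Subgroup (ZMod m)ˣ :=
      { carrier := {s | ∀ u, F (u * s) = F u}
        one_mem' := fun u => by rw [mul_one]
        mul_mem' := fun {a b} ha hb u => by rw [← mul_assoc, hb, ha]
        inv_mem' := fun {a} ha u => by rw [← ha (u * a⁻¹), inv_mul_cancel_right] }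
    exact fun s hs => (show S ≤ St from sup_le (zpowers_le.mpr hFP) (zpowers_le.mpr hFN)) hs
  -- the sum
  have hsum : ∑ u, F u = 2 * n := by
    rw [← hcard]
    let g : (ZMod m)ˣ → k := fun u => ζ ^ (u : ZMod m).val
    have hg : Function.Injective g := fun u v h => Units.ext (ZMod.val_injective m
      (hζ.pow_inj (ZMod.val_lt _) (ZMod.val_lt _) h))
    show ∑ u, R.count (g u) = _
    rw [← Finset.sum_image (f := fun x => R.count x) (fun u _ v _ h => hg h)]
    refine Multiset.sum_count_eq_card fun x hx => ?_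
    obtain ⟨i, hi, hic, rfl⟩ := hζ.isPrimitiveRoot_iff.mp (hprim x hx)
    refine Finset.mem_image.mpr ⟨ZMod.unitOfCoprime i hic, Finset.mem_univ _, ?_⟩
    exact hpoweq _ _ (by simp [ZMod.coe_unitOfCoprime])
  have hSn : Nat.card S ∣ 2 * n := by
    rw [← hsum]
    let e := Subgroup.groupEquivQuotientProdSubgroup (s := S)
    haveI : Fintype ((ZMod m)ˣ ⧸ S) := Fintype.ofFinite _
    haveI : Fintype S := Fintype.ofFinite _
    rw [← Equiv.sum_comp e.symm, Fintype.sum_prod_type]
    refine Finset.dvd_sum fun q _ => ?_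
    have : ∀ w : S, F (e.symm (q, w)) = F q.out := fun w => by
      have h1 : (QuotientGroup.mk (e.symm (q, w)) : (ZMod m)ˣ ⧸ S) = q :=
        congrArg Prod.fst (e.apply_symm_apply (q, w))
      have h2 : (e.symm (q, w))⁻¹ * q.out ∈ S :=
        QuotientGroup.eq.mp (h1.trans (QuotientGroup.out_eq' q).symm)
      have := hFS _ h2 (e.symm (q, w))
      rw [mul_inv_cancel_left] at this
      exact this.symm
    rw [Finset.sum_congr rfl fun w _ => this w, Finset.sum_const, Finset.card_univ,
      ← Nat.card_eq_fintype_card, smul_eq_mul]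
    exact dvd_mul_right _ _
  have hN1 : (-1 : (ZMod m)ˣ) ≠ 1 := fun h => by
    haveI : Fact (2 < m) := ⟨hm⟩
    exact ZMod.neg_one_ne_one (n := m) (congrArg Units.val h)
  have hPS : zpowers P ≤ S := le_sup_left
  have hcast : ((P ^ n : (ZMod m)ˣ) : ZMod m) = ((p ^ n : ℕ) : ZMod m) := by
    simp [P, ZMod.coe_unitOfCoprime]
  suffices h : P ^ n = 1 ∨ P ^ n = -1 by
    rcases h with h | h
    · right
      rw [h, Units.val_one] at hcast
      have hp0 : p ≠ 0 := fun h0 => by
        rw [h0, Nat.coprime_zero_left] at hpm; omega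
      rw [← ZMod.natCast_eq_zero_iff, Nat.cast_sub (Nat.one_le_pow _ _ (Nat.pos_of_ne_zero hp0)),
        ← hcast, Nat.cast_one, sub_self]
    · left
      rw [h, Units.val_neg, Units.val_one] at hcast
      rw [← ZMod.natCast_eq_zero_iff, Nat.cast_add, ← hcast, Nat.cast_one, neg_add_cancel]
  have h2n : P ^ (2 * n) = 1 := orderOf_dvd_iff_pow_eq_one.mp
    ((Nat.card_zpowers P ▸ card_dvd_of_le hPS).trans hSn)
  by_cases hN : (-1 : (ZMod m)ˣ) ∈ zpowers P
  · by_contra! hne
    have h3 := IsCyclic.card_pow_eq_one_le (α := zpowers P) (n := 2) (by norm_num)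
    have hsq : (P ^ n) ^ 2 = 1 := by rw [← pow_mul, mul_comm]; exact h2n
    have hsub : ({1, ⟨-1, hN⟩, ⟨P ^ n, pow_mem (mem_zpowers P) n⟩} : Finset (zpowers P)) ⊆
        Finset.univ.filter fun a => a ^ 2 = 1 := by
      intro a ha
      simp only [Finset.mem_insert, Finset.mem_singleton] at ha
      rw [Finset.mem_filter]
      refine ⟨Finset.mem_univ _, ?_⟩
      rcases ha with rfl | rfl | rfl
      · exact one_pow 2
      · exact Subtype.ext (neg_one_sq)
      · exact Subtype.ext hsq
    have h4 := (Finset.card_le_card hsub).trans h3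
    rw [Finset.card_insert_of_notMem, Finset.card_insert_of_notMem, Finset.card_singleton] at h4
    · omega
    · simp [Subtype.ext_iff, hne.2.symm]
    · simp [Subtype.ext_iff, hN1.symm, hne.1.symm]
  · left
    have hidx : 2 ∣ ((zpowers P).subgroupOf S).index := by
      let b : S := ⟨-1, mem_sup_right (mem_zpowers _)⟩
      have ho : orderOf (QuotientGroup.mk b : S ⧸ (zpowers P).subgroupOf S) = 2 := by
        refine orderOf_eq_prime ?_ fun h => hN ((QuotientGroup.eq_one_iff b).mp h)
        rw [← QuotientGroup.mk_pow, show b ^ 2 = 1 from Subtype.ext neg_one_sq, QuotientGroup.mk_one]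
      rw [index_eq_card, ← ho]
      exact orderOf_dvd_natCard _
    have h5 : 2 * orderOf P ∣ 2 * n := by
      refine dvd_trans ?_ hSn
      rw [← card_mul_index ((zpowers P).subgroupOf S),
        Nat.card_congr (subgroupOfEquivOfLe hPS).toEquiv, Nat.card_zpowers, mul_comm 2]
      exact mul_dvd_mul_left _ hidx
    exact orderOf_dvd_iff_pow_eq_one.mp (Nat.dvd_of_mul_dvd_mul_left (by norm_num) h5)

/-- A fixed-point-free isometry of order `m` of a nondegenerate form. -/
theorem dvd_of_isometry {p m n : ℕ} [hp : Fact p.Prime] (hm : 2 < m) (hpm : p.Coprime m)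
    {ι : Type*} [Fintype ι] [DecidableEq ι] (hι : Fintype.card ι = 2 * n)
    (M J : Matrix ι ι (ZMod p)) (hJ : J.det ≠ 0) (hMJ : Mᵀ * J * M = J) (hMm : M ^ m = 1)
    (hfix : ∀ j, 0 < j → j < m → (M ^ j - 1).det ≠ 0) :
    m ∣ p ^ n + 1 ∨ m ∣ p ^ n - 1 := by
  classical
  haveI : NeZero m := ⟨by omega⟩
  let k := AlgebraicClosure (ZMod p)
  haveI : CharP k p := charP_of_injective_algebraMap (algebraMap (ZMod p) k).injective p
  haveI : NeZero (m : k) := ⟨fun h => by
    have := (CharP.cast_eq_zero_iff k p m).mp h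
    exact (hp.out.coprime_iff_not_dvd.mp hpm) this⟩
  obtain ⟨ζ, hζ⟩ := HasEnoughRootsOfUnity.exists_primitiveRoot k m
  set f := algebraMap (ZMod p) k with hf
  set q := (M.map f).charpoly with hq
  have hq' : q = M.charpoly.map f := Matrix.charpoly_map M f
  have hsplit : q.Splits := IsAlgClosed.splits q
  have hmonic : q.Monic := Matrix.charpoly_monic _
  have hcard : Multiset.card q.roots = 2 * n := by
    rw [← hsplit.natDegree_eq_card_roots, hq, Matrix.charpoly_natDegree_eq_dim, hι]
  have hprim : ∀ x ∈ q.roots, IsPrimitiveRoot x m := by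
    intro x hx
    have h1 := (mem_roots'.mp hx).2
    rw [IsRoot.def, hq, Matrix.eval_charpoly] at h1
    obtain ⟨v, hv0, hv⟩ := Matrix.exists_mulVec_eq_zero_iff.mpr h1
    rw [Matrix.sub_mulVec, sub_eq_zero, Matrix.scalar_apply, ← Matrix.smul_one_eq_diagonal,
      Matrix.smul_mulVec, Matrix.one_mulVec] at hv
    have hpw : ∀ j : ℕ, (M.map f ^ j) *ᵥ v = x ^ j • v := by
      intro j
      induction j with
      | zero => simp
      | succ j ih =>
        rw [pow_succ, ← Matrix.mulVec_mulVec, ← hv, Matrix.mulVec_smul, ih, smul_smul, ← pow_succ']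
    have hmap : ∀ j : ℕ, M.map f ^ j = (M ^ j).map f := fun j => (Matrix.map_pow M f j).symm
    refine IsPrimitiveRoot.mk_of_lt x (by omega) ?_ fun j hj0 hjm hxj => ?_
    · have h2 := hpw m
      rw [hmap, hMm, Matrix.map_one _ (map_zero f) (map_one f), Matrix.one_mulVec] at h2
      by_contra hne
      apply hv0
      have h3 : (x ^ m - 1) • v = 0 := by rw [sub_smul, one_smul, ← h2, sub_self]
      exact (smul_eq_zero.mp h3).resolve_left (sub_ne_zero.mpr hne)
    · apply hfix j hj0 hjm
      refine f.injective ?_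
      rw [map_zero, RingHom.map_det, map_sub, map_one]
      refine Matrix.exists_mulVec_eq_zero_iff.mp ⟨v, hv0, ?_⟩
      rw [Matrix.sub_mulVec, Matrix.one_mulVec, RingHom.mapMatrix_apply, ← hmap, hpw, hxj, one_smul,
        sub_self]
  have hne0 : (0 : k) ∉ q.roots := fun h => (hprim 0 h).ne_zero (by omega) rfl
  -- stability under inversion
  have hinv : q.roots.map (fun a => a⁻¹) = q.roots := by
    have hJu : IsUnit J := (Matrix.isUnit_iff_isUnit_det J).mpr (isUnit_iff_ne_zero.mpr hJ)
    have hMi : M⁻¹ = J⁻¹ * Mᵀ * J := by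
      refine Matrix.inv_eq_left_inv ?_
      rw [Matrix.mul_assoc, Matrix.mul_assoc, ← Matrix.mul_assoc Mᵀ J M, hMJ]
      exact Matrix.nonsing_inv_mul J ((Matrix.isUnit_iff_isUnit_det J).mp hJu)
    have hMu : IsUnit M := (isUnit_pow_iff (by omega : m ≠ 0)).mp (hMm ▸ isUnit_one)
    have h1 : M.charpoly = (M⁻¹).charpoly := by
      obtain ⟨u, hu⟩ := hJu
      rw [hMi, ← hu, Matrix.charpoly_units_conj', Matrix.charpoly_transpose]
    rw [Matrix.charpoly_inv M hMu, ← Matrix.reverse_charpoly] at h1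
    have hrev : (M.charpoly.reverse).map f = q.reverse := by
      rw [hq', reverse, reverse, natDegree_map_eq_of_injective f.injective, reflect_map]
    have h2 := congrArg (Polynomial.map f) h1
    rw [← hq', Polynomial.map_mul, hrev, Polynomial.map_mul, Polynomial.map_pow, Polynomial.map_neg,
      Polynomial.map_one, map_C] at h2
    have hc : ((-1 : k[X]) ^ Fintype.card ι * C (f (Ring.inverse M.det))) =
        C ((-1 : k) ^ Fintype.card ι * f (Ring.inverse M.det)) := by simp
    rw [hc] at h2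
    have hc0 : (-1 : k) ^ Fintype.card ι * f (Ring.inverse M.det) ≠ 0 := fun h0 => by
      rw [h0, C_0, zero_mul] at h2
      exact hmonic.ne_zero h2
    have h3 := congrArg Polynomial.roots h2
    rw [roots_C_mul _ hc0] at h3
    obtain ⟨-, h4⟩ := rev_roots q.roots hne0
    rw [← hsplit.eq_prod_roots_of_monic hmonic] at h4
    rw [h4] at h3
    exact h3.symm
  -- stability under Frobenius
  have hfrob : q.roots.map (frobenius k p) = q.roots := by
    have hF : (frobenius k p).comp f = f := RingHom.ext fun a => by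
      show (f a) ^ p = f a
      rw [← map_pow, ZMod.pow_card]
    have h1 : q.map (frobenius k p) = q := by rw [hq', Polynomial.map_map, hF]
    conv_rhs => rw [← h1]
    exact roots_map_of_injective_of_card_eq_natDegree (frobenius_inj k p)
      hsplit.natDegree_eq_card_roots.symm
  refine dvd_of_multiset hm hpm hζ q.roots hcard hprim (fun x => ?_) (fun x => ?_)
  · conv_lhs => rw [← hinv]
    exact Multiset.count_map_eq_count' _ _ inv_injective x
  · conv_lhs => rw [← hfrob]
    exact Multiset.count_map_eq_count' _ _ (frobenius_inj k p) x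

/-- The previous theorem for an automorphism of a module with an invariant form. -/
theorem dvd_of_form {p m n : ℕ} [hp : Fact p.Prime] (hm : 2 < m) (hpm : p.Coprime m)
    {V : Type*} [AddCommGroup V] [Module (ZMod p) V] [Finite V] (hcard : Nat.card V = p ^ (2 * n))
    (fh : V →+ V) (bh : V →+ V →+ ZMod p) (hinv : ∀ v w, bh (fh v) (fh w) = bh v w)
    (hsep : ∀ v, (∀ w, bh v w = 0) → v = 0) (hfm : ∀ v, fh^[m] v = v)
    (hfree : ∀ j, 0 < j → j < m → ∀ v, fh^[j] v = v → v = 0) :
    m ∣ p ^ n + 1 ∨ m ∣ p ^ n - 1 := by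
  haveI : Module.Finite (ZMod p) V := Module.Finite.of_finite
  let f : Module.End (ZMod p) V := fh.toZModLinearMap p
  let B : V →ₗ[ZMod p] V →ₗ[ZMod p] ZMod p :=
    LinearMap.mk₂ (ZMod p) (fun v w => bh v w) (fun v v' w => by simp)
      (fun c v w => ZMod.map_smul (bh.flip w) c v) (fun v w w' => by simp)
      (fun c v w => ZMod.map_smul (bh v) c w)
  have hfpow : ∀ (j : ℕ) (v : V), (f ^ j) v = fh^[j] v := fun j v => by
    rw [Module.End.pow_apply]; rfl
  have hBinv : B.compl₁₂ f f = B := LinearMap.ext fun v => LinearMap.ext fun w => hinv v w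
  have hBsep : B.SeparatingLeft := fun v hv => hsep v hv
  let bs := Module.finBasis (ZMod p) V
  have hdim : Module.finrank (ZMod p) V = 2 * n := by
    have h3 := Module.natCard_eq_pow_finrank (K := ZMod p) (V := V)
    rw [hcard, Nat.card_zmod] at h3
    exact (Nat.pow_right_injective hp.out.two_le h3).symm
  refine dvd_of_isometry hm hpm (by rw [Fintype.card_fin, hdim])
    (LinearMap.toMatrixAlgEquiv bs f) (LinearMap.toMatrix₂ bs bs B)
    ((LinearMap.separatingLeft_iff_det_ne_zero bs).mp hBsep) ?_ ?_ ?_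
  · have := LinearMap.toMatrix₂_compl₁₂ bs bs bs bs B f f
    rw [hBinv] at this
    exact this.symm
  · rw [← map_pow, show f ^ m = 1 from LinearMap.ext fun v => by rw [hfpow, hfm]; rfl, map_one]
  · intro j hj0 hjm hd
    rw [← map_pow, ← map_one (LinearMap.toMatrixAlgEquiv bs), ← map_sub] at hd
    have hd' : LinearMap.det (f ^ j - 1) = 0 := by rw [← LinearMap.det_toMatrix bs]; exact hd
    refine (LinearMap.bot_lt_ker_of_det_eq_zero hd').ne' (LinearMap.ker_eq_bot'.mpr fun v hv => ?_)
    refine hfree j hj0 hjm v ?_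
    rw [← hfpow]
    exact sub_eq_zero.mp hv

/-- Let P be an extraspecial p-group of order p^(2n+1) and H a cyclic group of order h prime to p acting on P (inside a common finite group: H normalizes P) so that C_P(x) = Z(P) for every non-identity x ∈ H. Then h divides p^n + 1 or h divides p^n − 1. -/
theorem result {G : Type*} [Group G] [Finite G] {p : ℕ} [Fact p.Prime] (P H : Subgroup G) (hP : Cfsg.IsExtraspecial p ↥P) (n : ℕ) (hn : Nat.card P = p ^ (2 * n + 1)) (hH : IsCyclic H) (hcop : (Nat.card H).Coprime p) (hHP : H ≤ Subgroup.normalizer (P : Set G)) (hfix : ∀ x ∈ H, x ≠ 1 → P ⊓ Subgroup.centralizer {x} = (Subgroup.center ↥P).map P.subtype) : Nat.card H ∣ p ^ n + 1 ∨ Nat.card H ∣ p ^ n - 1 := by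
  classical
  have hp : p.Prime := Fact.out
  obtain ⟨g, hg⟩ := hH.exists_generator
  set m := Nat.card H with hm
  by_cases hm2 : m ≤ 2
  · left
    have hmpos : 0 < m := Nat.card_pos
    rcases (show m = 1 ∨ m = 2 by omega) with h | h
    · rw [h]; exact one_dvd _
    · rw [h] at hcop ⊢
      have hodd : Odd p := hp.odd_of_ne_two fun h2 => by subst h2; simp at hcop
      exact even_iff_two_dvd.mp (hodd.pow.add_one)
  -- the automorphism of `P`
  haveI hPn : Group.IsNilpotent P := hP.1.1.isNilpotent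
  let σ : P ≃* P := P.normalizerMonoidHom ⟨g, hHP g.2⟩
  have hσval : ∀ (j : ℕ) (a : P), (((σ ^ j) a : P) : G) = (g : G) ^ j * a * ((g : G) ^ j)⁻¹ := by
    intro j a
    rw [show σ ^ j = P.normalizerMonoidHom (⟨g, hHP g.2⟩ ^ j) from (map_pow _ _ j).symm]
    rfl
  have hZfix : ∀ z ∈ center P, ∀ j : ℕ, (σ ^ j) z = z := by
    intro z hz j
    apply Subtype.ext
    rw [hσval]
    by_cases h1 : (g : G) ^ j = 1
    · simp [h1]
    · have : (z : G) ∈ P ⊓ centralizer {(g : G) ^ j} := by
        rw [hfix _ (pow_mem g.2 j) h1]; exact ⟨z, hz, rfl⟩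
      exact mul_inv_eq_iff_eq_mul.mpr (mem_centralizer_singleton_iff.mp this.2).symm
  have hgord : orderOf g = m := orderOf_eq_card_of_forall_mem_zpowers hg
  have hσm : σ ^ m = 1 := by
    refine MulEquiv.ext fun a => Subtype.ext ?_
    rw [hσval, show (g : G) ^ m = 1 from congrArg Subtype.val (hgord ▸ pow_orderOf_eq_one g :
      g ^ m = 1)]
    simp
  -- the module `V`
  set Z := center P with hZ
  have hexp : ∀ a : P, a ^ p ∈ Z := fun a => hP.1.2.1.le (Basics.pow_mem_frattini hP.1.1 a)
  have hcm : ∀ a b : P, ⁅a, b⁆ ∈ Z := fun a b =>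
    hP.1.2.2.le (commutator_mem_commutator (mem_top a) (mem_top b))
  letI : CommGroup (P ⧸ Z) :=
    { (inferInstance : Group (P ⧸ Z)) with
      mul_comm := fun x y => by
        obtain ⟨a, rfl⟩ := QuotientGroup.mk_surjective x
        obtain ⟨b, rfl⟩ := QuotientGroup.mk_surjective y
        rw [← QuotientGroup.mk_mul, ← QuotientGroup.mk_mul]
        refine QuotientGroup.eq.mpr ?_
        simpa [commutatorElement_def, mul_assoc] using hcm b⁻¹ a⁻¹ }
  have hV0 : ∀ v : Additive (P ⧸ Z), p • v = 0 := fun v => by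
    obtain ⟨a, ha⟩ := QuotientGroup.mk_surjective v.toMul
    rw [← ofMul_toMul v, ← ofMul_pow, ← ha, ← QuotientGroup.mk_pow,
      (QuotientGroup.eq_one_iff (a ^ p)).mpr (hexp a), ofMul_one]
  letI : Module (ZMod p) (Additive (P ⧸ Z)) := AddCommGroup.zmodModule hV0
  haveI : Finite (Additive (P ⧸ Z)) := inferInstanceAs (Finite (P ⧸ Z))
  haveI : Module.Finite (ZMod p) (Additive (P ⧸ Z)) := Module.Finite.of_finite
  let mk : P → Additive (P ⧸ Z) := fun a => Additive.ofMul (QuotientGroup.mk a)
  have hmksurj : Function.Surjective mk := fun v => by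
    obtain ⟨a, ha⟩ := QuotientGroup.mk_surjective v.toMul
    exact ⟨a, by rw [show mk a = Additive.ofMul v.toMul from congrArg Additive.ofMul ha, ofMul_toMul]⟩
  have hmkeq : ∀ a b : P, mk a = mk b ↔ a⁻¹ * b ∈ Z := fun a b =>
    Additive.ofMul.injective.eq_iff.trans QuotientGroup.eq
  -- the endomorphism
  have hσZ : ∀ a b : P, mk a = mk b → mk (σ a) = mk (σ b) := by
    intro a b h
    rw [hmkeq] at h ⊢
    have h1 := hZfix _ h 1
    rw [pow_one] at h1
    rw [← map_inv, ← map_mul, h1]
    exact h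
  choose out hout using hmksurj
  let fh : Additive (P ⧸ Z) →+ Additive (P ⧸ Z) := AddMonoidHom.mk' (fun v => mk (σ (out v)))
    (fun v w => by
      have : mk (out (v + w)) = mk (out v * out w) := by
        rw [hout]
        exact (congrArg₂ (· + ·) (hout v) (hout w)).symm
      rw [hσZ _ _ this, map_mul]
      rfl)
  have hfmk : ∀ a : P, fh (mk a) = mk (σ a) := fun a => hσZ _ _ (hout _)
  have hfpow : ∀ (j : ℕ) (a : P), fh^[j] (mk a) = mk ((σ ^ j) a) := by
    intro j
    induction j with
    | zero => intro a; simp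
    | succ j ih =>
      intro a
      rw [Function.iterate_succ_apply', ih, hfmk, pow_succ']
      rfl
  -- no fixed points
  have hfree : ∀ j, 0 < j → j < m → ∀ v, fh^[j] v = v → v = 0 := by
    intro j hj0 hjm v hv
    obtain ⟨a, rfl⟩ : ∃ a, mk a = v := ⟨out v, hout v⟩
    rw [hfpow, eq_comm, hmkeq] at hv
    set z := a⁻¹ * (σ ^ j) a with hz
    have hit : ∀ i : ℕ, (σ ^ (j * i)) a = a * z ^ i := by
      intro i
      induction i with
      | zero => simp
      | succ i ih =>
        rw [mul_add, mul_one, add_comm, pow_add, MulAut.mul_apply, ih, map_mul, map_pow,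
          hZfix z hv j, pow_succ', ← mul_assoc, show a * z = (σ ^ j) a by simp [hz]]
    have hzm : z ^ m = 1 := by
      have := hit m
      rw [mul_comm j m, pow_mul, hσm, one_pow, MulAut.one_apply, left_eq_mul] at this
      exact this
    obtain ⟨i, hi⟩ := hP.1.1 z
    have hz1 : z = 1 := by
      have h1 : orderOf z ∣ Nat.gcd m (p ^ i) :=
        Nat.dvd_gcd (orderOf_dvd_of_pow_eq_one hzm) (orderOf_dvd_of_pow_eq_one hi)
      rwa [(Nat.Coprime.pow_right i hcop).gcd_eq_one, Nat.dvd_one, orderOf_eq_one_iff] at h1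
    have hfa : (σ ^ j) a = a := by rwa [hz, inv_mul_eq_one, eq_comm] at hz1
    have hgj : (g : G) ^ j ≠ 1 := fun h => by
      have h2 : orderOf g ∣ j := orderOf_dvd_of_pow_eq_one (Subtype.ext h)
      rw [hgord] at h2
      exact absurd (Nat.le_of_dvd hj0 h2) (by omega)
    have hmem : (a : G) ∈ P ⊓ centralizer {(g : G) ^ j} := by
      refine ⟨a.2, mem_centralizer_singleton_iff.mpr ?_⟩
      have h3 := congrArg Subtype.val hfa
      rw [hσval, mul_inv_eq_iff_eq_mul] at h3
      exact h3.symm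
    rw [hfix _ (pow_mem g.2 j) hgj] at hmem
    obtain ⟨a', ha', hae⟩ := hmem
    rw [show a' = a from Subtype.ext hae] at ha'
    show mk a = mk 1
    rw [hmkeq, mul_one]
    exact inv_mem ha'
  -- the form
  have hZc : Nat.card Z = p := hP.2
  let lg : Z ≃* Multiplicative (ZMod p) := mulEquivOfPrimeCardEq hZc (by simp)
  let c : P → P → ZMod p := fun a b => (lg ⟨⁅a, b⁆, hcm a b⟩).toAdd
  have hcadd : ∀ a a' b : P, c (a * a') b = c a b + c a' b := by
    intro a a' b
    rw [← toAdd_mul, ← map_mul]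
    refine congrArg (fun t => (lg t).toAdd) (Subtype.ext ?_)
    show ⁅a * a', b⁆ = ⁅a, b⁆ * ⁅a', b⁆
    have hc' := mem_center_iff.mp (hcm a' b)
    calc ⁅a * a', b⁆ = a * ⁅a', b⁆ * (b * a⁻¹ * b⁻¹) := by simp [commutatorElement_def, mul_assoc]
      _ = ⁅a', b⁆ * ⁅a, b⁆ := by rw [hc' a]; simp [commutatorElement_def, mul_assoc]
      _ = _ := (hc' _).symm
  have hcswap : ∀ a b : P, c a b = - c b a := by
    intro a b
    rw [← toAdd_inv, ← map_inv]
    exact congrArg (fun t => (lg t).toAdd) (Subtype.ext (commutatorElement_inv b a).symm)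
  have hcadd' : ∀ a b b' : P, c a (b * b') = c a b + c a b' := fun a b b' => by
    rw [hcswap a (b * b'), hcadd, hcswap a b, hcswap a b']; abel
  have hc0 : ∀ (z : P), z ∈ Z → ∀ b, c z b = 0 := fun z hz b => by
    show (lg ⟨⁅z, b⁆, _⟩).toAdd = 0
    rw [show (⟨⁅z, b⁆, hcm z b⟩ : Z) = 1 from Subtype.ext
      (commutatorElement_eq_one_iff_mul_comm.mpr (mem_center_iff.mp hz b).symm), map_one]
    rfl
  have hcl : ∀ a a' b : P, mk a = mk a' → c a b = c a' b := fun a a' b h => by
    rw [show a' = a * (a⁻¹ * a') by simp, hcadd, hc0 _ ((hmkeq _ _).mp h), add_zero]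
  have hcr : ∀ a b b' : P, mk b = mk b' → c a b = c a b' := fun a b b' h => by
    rw [hcswap a b, hcswap a b', hcl b b' a h]
  have houtadd : ∀ v w, mk (out (v + w)) = mk (out v * out w) := fun v w => by
    rw [hout]
    exact (congrArg₂ (· + ·) (hout v) (hout w)).symm
  let bh : Additive (P ⧸ Z) →+ Additive (P ⧸ Z) →+ ZMod p :=
    AddMonoidHom.mk' (fun v => AddMonoidHom.mk' (fun w => c (out v) (out w))
        (fun w w' => by rw [hcr _ _ _ (houtadd w w'), hcadd']))
      (fun v v' => AddMonoidHom.ext fun w => by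
        show c (out (v + v')) (out w) = c (out v) (out w) + c (out v') (out w)
        rw [hcl _ _ _ (houtadd v v'), hcadd])
  have hBmk : ∀ a b : P, bh (mk a) (mk b) = c a b := fun a b => by
    show c (out (mk a)) (out (mk b)) = c a b
    rw [hcl _ _ _ (hout _), hcr _ _ _ (hout _)]
  refine dvd_of_form (by omega) hcop.symm ?_ fh bh (fun v w => ?_) (fun v hv => ?_) (fun v => ?_)
    hfree
  · have h2 := card_mul_index Z
    rw [hZc, hn, pow_succ', index_eq_card] at h2
    exact Nat.mul_left_cancel hp.pos h2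
  · obtain ⟨a, rfl⟩ : ∃ a, mk a = v := ⟨out v, hout v⟩
    obtain ⟨b, rfl⟩ : ∃ b, mk b = w := ⟨out w, hout w⟩
    rw [hfmk, hfmk, hBmk, hBmk]
    refine congrArg (fun t => (lg t).toAdd) (Subtype.ext ?_)
    show ⁅σ a, σ b⁆ = ⁅a, b⁆
    rw [← map_commutatorElement]
    have := hZfix _ (hcm a b) 1
    rwa [pow_one] at this
  · obtain ⟨a, rfl⟩ : ∃ a, mk a = v := ⟨out v, hout v⟩
    show mk a = mk 1
    rw [hmkeq, mul_one]
    refine inv_mem (mem_center_iff.mpr fun b => ?_)
    have h1 := hv (mk b)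
    rw [hBmk] at h1
    have h2 : (⟨⁅a, b⁆, hcm a b⟩ : Z) = 1 := lg.injective (by rw [map_one]; exact toAdd_eq_zero.mp h1)
    exact (commutatorElement_eq_one_iff_mul_comm.mp (congrArg Subtype.val h2)).symm
  · obtain ⟨a, rfl⟩ : ∃ a, mk a = v := ⟨out v, hout v⟩
    rw [hfpow, hσm]
    rfl

end Cfsg.Agent.S3767
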