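import Cfsg.Statements.S3768
import Cfsg.Agent.Lib.Basics.FrobeniusBasic

set_option autoImplicit false
open Cfsg
open scoped Pointwise

namespace Cfsg.Agent.S3768

/-- Let G be a finite Frobenius group with Frobenius complement R and Frobenius kernel K (the identity together with the elements in no conjugate of R), and let N be a normal subgroup of G not containing K. Then G/N is a Frobenius group with Frobenius complement RN/N whose Frobenius kernel is the image of K. -/
theorem result {G : Type*} [Group G] [Finite G] (R : Subgroup G) (hR : Cfsg.IsFrobeniusComplement R) (N : Subgroup G) [N.Normal] (hKN : ¬ Cfsg.frobeniusKernel R ⊆ N) : Cfsg.IsFrobeniusComplement (R.map (QuotientGroup.mk' N)) ∧ Cfsg.frobeniusKernel (R.map (QuotientGroup.mk' N)) = QuotientGroup.mk' N '' Cfsg.frobeniusKernel R := by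
  classical
  obtain ⟨K, hK, hKn, hKc, hKcard⟩ := Basics.frobenius_kernel_exists hR
  rw [← hK] at hKN
  haveI := hKn
  have hfree : ∀ r ∈ R, r ≠ 1 → ∀ x : G, x * r = r * x → x ∈ R := by
    intro r hr hr1 x hx
    by_contra hxR
    have h2 : r ∈ R ⊓ (MulAut.conj x • R) := by
      refine ⟨hr, ?_⟩
      show r ∈ MulAut.conj x • R
      rw [Basics.mem_conj_smul]
      rwa [mul_assoc, ← hx, inv_mul_cancel_left]
    rw [hR.2.2 x hxR, Subgroup.mem_bot] at h2
    exact hr1 h2
  have hinf : ∀ x, x ∈ K → x ∈ R → x = 1 := fun x h1 h2 =>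
    Subgroup.mem_bot.mp (hKc.disjoint.eq_bot ▸ (⟨h1, h2⟩ : x ∈ K ⊓ R))
  have surj : ∀ (L : Subgroup G), L.Normal → L ≤ K → ∀ r ∈ R, r ≠ 1 → ∀ y ∈ L,
      ∃ m ∈ L, y = m * r * m⁻¹ * r⁻¹ := by
    intro L hL hLK r hr hr1 y hy
    let f : ↥L → ↥L := fun m => ⟨(m : G) * r * (m : G)⁻¹ * r⁻¹, by
      have e : (m : G) * r * (m : G)⁻¹ * r⁻¹ = m * (r * (m : G)⁻¹ * r⁻¹) := by group
      rw [e]
      exact mul_mem m.2 (hL.conj_mem _ (inv_mem m.2) r)⟩
    have hf : Function.Injective f := by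
      intro m m' h
      have h' : (m : G) * r * (m : G)⁻¹ * r⁻¹ = (m' : G) * r * (m' : G)⁻¹ * r⁻¹ := congrArg Subtype.val h
      have h3 : (m : G) * r * (m : G)⁻¹ = (m' : G) * r * (m' : G)⁻¹ := mul_right_cancel h'
      have hc : ((m' : G)⁻¹ * m) * r = r * ((m' : G)⁻¹ * m) := by
        calc ((m' : G)⁻¹ * m) * r = (m' : G)⁻¹ * ((m : G) * r * (m : G)⁻¹) * m := by group
          _ = (m' : G)⁻¹ * ((m' : G) * r * (m' : G)⁻¹) * m := by rw [h3]
          _ = r * ((m' : G)⁻¹ * m) := by group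
      exact Subtype.ext (inv_mul_eq_one.mp (hinf _ (hLK (mul_mem (inv_mem m'.2) m.2)) (hfree r hr hr1 _ hc))).symm
    obtain ⟨m, hm⟩ := (Finite.injective_iff_surjective.mp hf) ⟨y, hy⟩
    exact ⟨m, m.2, (congrArg Subtype.val hm).symm⟩
  have hkerout : ∀ x, x ∉ K → ∃ g : G, g⁻¹ * x * g ∈ R ∧ x ≠ 1 := by
    intro x hx
    rw [← SetLike.mem_coe, hK] at hx
    simp only [Cfsg.frobeniusKernel, Set.mem_setOf_eq, not_or, not_forall, not_not] at hx
    obtain ⟨hx1, g, hg⟩ := hx
    exact ⟨g, Basics.mem_conj_smul.mp hg, hx1⟩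
  have hNK : N ≤ K := by
    intro x hx
    by_contra hxK
    obtain ⟨g, hr, hx1⟩ := hkerout x hxK
    refine hKN fun k hk => ?_
    have hrN : g⁻¹ * x * g ∈ N := by simpa using (inferInstance : N.Normal).conj_mem x hx g⁻¹
    have hr1 : g⁻¹ * x * g ≠ 1 := fun e => hx1 (by
      calc x = g * (g⁻¹ * x * g) * g⁻¹ := by group
        _ = 1 := by rw [e]; group)
    obtain ⟨m, -, rfl⟩ := surj K hKn le_rfl _ hr hr1 k hk
    exact mul_mem ((inferInstance : N.Normal).conj_mem _ hrN m) (inv_mem hrN)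
  set π := QuotientGroup.mk' N with hπ
  have hker : ∀ x, π x = 1 ↔ x ∈ N := fun x => QuotientGroup.eq_one_iff x
  -- lifting an element of a coset `rN` to a conjugate of `r`
  have lift : ∀ r ∈ R, r ≠ 1 → ∀ x : G, π x = π r → ∃ m ∈ N, x = m * r * m⁻¹ := by
    intro r hr hr1 x hx
    have hxr : x * r⁻¹ ∈ N := (hker _).mp (by rw [map_mul, map_inv, hx, mul_inv_cancel])
    obtain ⟨m, hm, e⟩ := surj N inferInstance hNK r hr hr1 _ hxr
    exact ⟨m, hm, mul_right_cancel e⟩
  have hfrob : Cfsg.IsFrobeniusComplement (R.map π) := by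
    refine ⟨fun h => ?_, fun h => ?_, fun gb hgb => ?_⟩
    · obtain ⟨r, hr, hr1⟩ := (Subgroup.bot_or_exists_ne_one R).resolve_left hR.1
      exact hr1 (hinf r (hNK ((hker r).mp (Subgroup.mem_bot.mp (h ▸ Subgroup.mem_map_of_mem π hr)))) hr)
    · refine hKN fun k hk => ?_
      obtain ⟨r, hr, e⟩ := (h ▸ Subgroup.mem_top (π k) : π k ∈ R.map π)
      have hn : r⁻¹ * k ∈ N := (hker _).mp (by rw [map_mul, map_inv, e, inv_mul_cancel])
      have hrK : r ∈ K := by
        have := mul_mem hk (inv_mem (hNK hn))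
        simpa using this
      rw [hinf r hrK hr] at hn
      simpa using hn
    · rw [eq_bot_iff]
      rintro y ⟨⟨r, hr, rfl⟩, hy⟩
      obtain ⟨g, rfl⟩ := QuotientGroup.mk'_surjective N gb
      have hy' : (π g)⁻¹ * π r * π g ∈ R.map π := Basics.mem_conj_smul.mp hy
      obtain ⟨r', hr', e⟩ := hy'
      rw [Subgroup.mem_bot]
      by_contra hne
      have hr1 : r ≠ 1 := fun e' => hne (by rw [e', map_one])
      have e2 : π (g * r' * g⁻¹) = π r := by
        rw [map_mul, map_mul, map_inv, e]; group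
      obtain ⟨m, hm, e3⟩ := lift r hr hr1 _ e2
      have hmg : m⁻¹ * g ∈ R := by
        by_contra hout
        have h2 : r ∈ R ⊓ (MulAut.conj (m⁻¹ * g) • R) := by
          refine ⟨hr, ?_⟩
          show r ∈ MulAut.conj (m⁻¹ * g) • R
          rw [Basics.mem_conj_smul]
          have : (m⁻¹ * g)⁻¹ * r * (m⁻¹ * g) = r' := by
            calc (m⁻¹ * g)⁻¹ * r * (m⁻¹ * g) = g⁻¹ * (m * r * m⁻¹) * g := by group
              _ = g⁻¹ * (g * r' * g⁻¹) * g := by rw [← e3]
              _ = r' := by group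
          rwa [this]
        rw [hR.2.2 _ hout, Subgroup.mem_bot] at h2
        exact hr1 h2
      refine hgb ⟨m⁻¹ * g, hmg, ?_⟩
      rw [map_mul, map_inv, (hker m).mpr hm, inv_one, one_mul]
  refine ⟨hfrob, ?_⟩
  rw [← hK]
  ext y
  obtain ⟨x, rfl⟩ := QuotientGroup.mk'_surjective N y
  constructor
  · intro hy
    by_cases hx : x ∈ K
    · exact ⟨x, hx, rfl⟩
    exfalso
    obtain ⟨g, hr, -⟩ := hkerout x hx
    rcases hy with h1 | h1
    · exact hx (hNK ((hker x).mp h1))
    · refine h1 (π g) (Basics.mem_conj_smul.mpr ⟨_, hr, ?_⟩)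
      simp [hπ, mul_assoc]
  · rintro ⟨k, hk, e⟩
    rw [← e]
    refine or_iff_not_imp_left.mpr fun hk1 gb hgb => ?_
    obtain ⟨g, rfl⟩ := QuotientGroup.mk'_surjective N gb
    obtain ⟨r, hr, er⟩ := Basics.mem_conj_smul.mp hgb
    have hn : r⁻¹ * (g⁻¹ * k * g) ∈ N := (hker _).mp (by
      rw [map_mul, map_inv, er, map_mul, map_mul, map_inv, inv_mul_cancel])
    have hkg : g⁻¹ * k * g ∈ K := by simpa using hKn.conj_mem k hk g⁻¹
    have hrK : r ∈ K := by
      have := mul_mem hkg (inv_mem (hNK hn))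
      simpa [mul_assoc] using this
    rw [hinf r hrK hr, map_one] at er
    apply hk1
    calc π k = π g * ((π g)⁻¹ * π k * π g) * (π g)⁻¹ := by group
      _ = 1 := by rw [← er]; group

end Cfsg.Agent.S3768
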