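import Cfsg.Statements.S3769
import Cfsg.Agent.Lib.OddLocal.FixPoint
-- import your own Cfsg.Agent.* helpers here

set_option autoImplicit false
open Cfsg

namespace Cfsg.Agent.S3769

/-- Let G and V be subgroups of a finite group with G solvable of odd order normalizing V, V an elementary abelian ℓ-group for a prime ℓ not dividing the order of G, and suppose G has a normal Hall subgroup K with a complement R of prime order. If C_V(R) = 1, then [R, K] centralizes V. -/
theorem result {X : Type*} [Group X] [Finite X] (G : Subgroup X) (hsolv : Group.IsSolvable G) (hodd : Odd (Nat.card G)) (V : Subgroup X) {ℓ : ℕ} (hℓ : ℓ.Prime) (hV : Cfsg.IsElementaryAbelian ℓ V) (hℓG : ¬ ℓ ∣ Nat.card G) (hGV : G ≤ Subgroup.normalizer (V : Set X)) (K R : Subgroup X) (hKG : K ≤ G) (hKn : G ≤ Subgroup.normalizer (K : Set X)) (hHall : (Nat.card K).Coprime (K.relIndex G)) (hRG : R ≤ G) (hR : (Nat.card R).Prime) (hKR : K ⊓ R = ⊥) (hKRG : K ⊔ R = G) (hCV : V ⊓ Subgroup.centralizer (R : Set X) = ⊥) : ⁅R,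 K⁆ ≤ Subgroup.centralizer (V : Set X) := by
  have : Fact ℓ.Prime := ⟨hℓ⟩
  have : Fact (Nat.card R).Prime := ⟨hR⟩
  have hle : ∀ H : Subgroup X, H ≤ G → ¬ ℓ ∣ Nat.card H := fun H hH h => hℓG (h.trans (Subgroup.card_dvd_of_le hH))
  have hrK : ¬ Nat.card R ∣ Nat.card K := by
    have hdis : (Nat.card R) ∣ K.relIndex G := by
      have h1 : Nat.card K * Nat.card R = Nat.card G := by
        rw [Basics.card_mul_card_eq_card_sup_mul_card_inf (hRG.trans hKn), hKR,
          Subgroup.card_bot, mul_one]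
        first | (rw [sup_comm, hKRG]) | (rw [hKRG])
      have h2 : Nat.card K * K.relIndex G = Nat.card G := by
        rw [← Basics.card_subgroupOf hKG, Subgroup.relIndex, Subgroup.card_mul_index]
      rw [Nat.eq_of_mul_eq_mul_left Nat.card_pos (h2.trans h1.symm)]
    exact fun h => hR.not_dvd_one (hHall ▸ Nat.dvd_gcd h hdis : Nat.card R ∣ 1)
  refine OddLocal.commutator_le_centralizer_of_fpf hV rfl ?_ ?_ (hodd.of_dvd_nat (Subgroup.card_dvd_of_le hKG))
    hrK (hle K hKG) (hRG.trans hKn) (hKG.trans hGV) (hRG.trans hGV) hCV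
  · intro e
    exact (Nat.not_even_iff_odd.mpr hodd) (even_iff_two_dvd.mpr (e ▸ Subgroup.card_dvd_of_le hRG))
  · intro e
    exact hle R hRG (e ▸ dvd_rfl)

end Cfsg.Agent.S3769
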