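import Cfsg.Statements.S3770
import Cfsg.Agent.Lib.Basics.FrobeniusBasic
import Cfsg.Agent.Lib.Basics.ThompsonFpf

set_option autoImplicit false
open Cfsg
open scoped commutatorElement

namespace Cfsg.Agent.S3770

/-- Let G and V be subgroups of a finite group with G a Frobenius group with complement R of prime order and kernel K, G normalizing V, and V an elementary abelian ℓ-group for a prime ℓ not dividing the order of G. If C_V(R) has order ℓ, then the derived subgroup of K centralizes V. -/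
theorem result {X : Type*} [Group X] [Finite X] (G : Subgroup X) (V : Subgroup X) {ℓ : ℕ} (hℓ : ℓ.Prime) (hV : Cfsg.IsElementaryAbelian ℓ V) (hℓG : ¬ ℓ ∣ Nat.card G) (hGV : G ≤ Subgroup.normalizer (V : Set X)) (R : Subgroup ↥G) (hR : Cfsg.IsFrobeniusComplement R) (hRp : (Nat.card R).Prime) (hCV : Nat.card ↥(V ⊓ Subgroup.centralizer ((R.map G.subtype : Subgroup X) : Set X)) = ℓ) : ⁅Subgroup.closure (Subtype.val '' Cfsg.frobeniusKernel R), Subgroup.closure (Subtype.val '' Cfsg.frobeniusKernel R)⁆ ≤ Subgroup.centralizer (V : Set X) := by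
  classical
  haveI := hV.1
  haveI := Fact.mk hRp
  letI : CommGroup V :=
    { (inferInstance : Group V) with mul_comm := fun a b => hV.1.is_comm.comm a b }
  obtain ⟨N, hNset, hNn, hNcompl, -⟩ := Cfsg.Agent.Basics.frobenius_kernel_exists hR
  haveI := hNn
  rw [← hNset]
  rw [show Subgroup.closure (Subtype.val '' (N : Set G)) = N.map G.subtype by
    rw [← Subgroup.closure_eq (N.map G.subtype), Subgroup.coe_map]; rfl]
  let α : G → (V →* V) := fun g =>
    { toFun := fun v => ⟨(g : X) * (v : X) * (g : X)⁻¹,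
        (Subgroup.mem_normalizer_iff.mp (hGV g.2) _).mp v.2⟩
      map_one' := Subtype.ext (by simp)
      map_mul' := fun v w => Subtype.ext (by simp only [Subgroup.coe_mul]; group) }
  have hαmul : ∀ g h v, α (g * h) v = α g (α h v) := fun g h v => Subtype.ext (by
    show ((g * h : G) : X) * (v : X) * ((g * h : G) : X)⁻¹ =
      (g : X) * ((h : X) * (v : X) * (h : X)⁻¹) * (g : X)⁻¹
    rw [Subgroup.coe_mul]
    group)
  have hα1 : ∀ v, α 1 v = v := fun v => Subtype.ext (by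
    show ((1 : G) : X) * (v : X) * ((1 : G) : X)⁻¹ = v
    simp)
  have hfpf : ∀ n ∈ N, ∀ r ∈ R, r ≠ 1 → Commute n r → n = 1 := by
    intro n hn r hr hr1 hc
    by_contra hn1
    have hnR : n ∉ R := fun h => hn1 (Subgroup.mem_bot.mp
      (hNcompl.disjoint.eq_bot ▸ Subgroup.mem_inf.mpr ⟨hn, h⟩))
    apply hr1
    rw [← Subgroup.mem_bot, ← hR.2.2 n hnR]
    refine Subgroup.mem_inf.mpr ⟨hr, ?_⟩
    rw [Cfsg.Agent.Basics.mem_conj_smul, mul_assoc, ← hc.eq, inv_mul_cancel_left]
    exact hr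
  obtain ⟨x₀, hx₀⟩ := exists_prime_orderOf_dvd_card' (Nat.card R) (dvd_refl (Nat.card R))
  haveI hNnil : Group.IsNilpotent N :=
    Cfsg.Agent.Basics.isNilpotent_of_conj_fpf N (x := (x₀ : G)) (p := Nat.card R)
      (by rw [Subgroup.orderOf_coe, hx₀]) fun n hn hc => hfpf n hn x₀ x₀.2 (fun h => hRp.ne_one
        (by rw [← hx₀, show x₀ = 1 from Subtype.ext h, orderOf_one])) hc.symm
  have hcop : ∀ (Z : Subgroup G) (v : V), v ^ Nat.card Z = 1 → v = 1 := by
    intro Z v hv
    rw [← orderOf_eq_one_iff]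
    refine Nat.eq_one_of_dvd_coprimes ((hℓ.coprime_iff_not_dvd.mpr fun hd =>
      hℓG (hd.trans Z.card_subgroup_dvd_card))) ?_ (orderOf_dvd_of_pow_eq_one hv)
    exact orderOf_dvd_of_pow_eq_one (Subtype.ext (hV.2 v v.2))
  suffices key : ∀ (m : ℕ) (U : Subgroup V), Nat.card U = m → (∀ g : G, ∀ u ∈ U, α g u ∈ U) →
      ∀ k ∈ N, ∀ k' ∈ N, ∀ u ∈ U, α (k * k') u = α (k' * k) u by
    rw [Subgroup.commutator_le]
    rintro _ ⟨k, hk, rfl⟩ _ ⟨k', hk', rfl⟩
    rw [Subgroup.mem_centralizer_iff]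
    intro v hv
    have h1 := key _ ⊤ rfl (fun _ _ _ => Subgroup.mem_top _) k hk k' hk'
      (α (k' * k)⁻¹ ⟨v, hv⟩) (Subgroup.mem_top _)
    rw [← hαmul, ← hαmul, mul_inv_cancel, hα1] at h1
    have h2 := congrArg Subtype.val h1
    have h3 : ((k * k' * (k' * k)⁻¹ : G) : X) * v * ((k * k' * (k' * k)⁻¹ : G) : X)⁻¹ = v := h2
    have e : ⁅G.subtype k, G.subtype k'⁆ = ((k * k' * (k' * k)⁻¹ : G) : X) := by
      simp only [Subgroup.coe_mul, Subgroup.coe_inv, Subgroup.coe_subtype]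
      group
    rw [e]
    exact (mul_inv_eq_iff_eq_mul.mp h3).symm
  intro m
  induction m using Nat.strong_induction_on with
  | _ m ih =>
    intro U hm hU k hk k' hk' u hu
    subst hm
    let C : Subgroup G :=
      { carrier := {z | z ∈ N ∧ ∀ u ∈ U, α z u = u}
        one_mem' := ⟨one_mem N, fun u _ => hα1 u⟩
        mul_mem' := fun {a b} ha hb => ⟨mul_mem ha.1 hb.1, fun u hu => by
          rw [hαmul, hb.2 u hu, ha.2 u hu]⟩
        inv_mem' := fun {a} ha => ⟨inv_mem ha.1, fun u hu => by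
          conv_lhs => rw [← ha.2 u hu]
          rw [← hαmul, inv_mul_cancel, hα1]⟩ }
    haveI hCn : C.Normal := ⟨fun z hz g => ⟨hNn.conj_mem z hz.1 g, fun u hu => by
      rw [hαmul, hαmul, hz.2 _ (hU g⁻¹ u hu), ← hαmul, mul_inv_cancel, hα1]⟩⟩
    have hCcomm : ∀ a b : G, ⁅a, b⁆ ∈ C → ∀ u ∈ U, α (a * b) u = α (b * a) u := by
      intro a b hc u hu
      rw [show a * b = ⁅a, b⁆ * (b * a) by group, hαmul, hc.2 _ (hU _ u hu)]
    let Z : Subgroup G :=
      { carrier := {z | z ∈ N ∧ ∀ a ∈ N, ⁅z, a⁆ ∈ C}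
        one_mem' := ⟨one_mem N, fun a _ => by
          rw [commutatorElement_one_left]
          exact one_mem C⟩
        mul_mem' := fun {x y} hx hy => ⟨mul_mem hx.1 hy.1, fun a ha => by
          rw [show ⁅x * y, a⁆ = x * ⁅y, a⁆ * x⁻¹ * ⁅x, a⁆ by group]
          exact mul_mem (hCn.conj_mem _ (hy.2 a ha) x) (hx.2 a ha)⟩
        inv_mem' := fun {x} hx => ⟨inv_mem hx.1, fun a ha => by
          rw [show ⁅x⁻¹, a⁆ = x⁻¹ * ⁅x, a⁆⁻¹ * x⁻¹⁻¹ by group]
          exact hCn.conj_mem _ (inv_mem (hx.2 a ha)) x⁻¹⟩ }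
    haveI hZn : Z.Normal := ⟨fun z hz g => ⟨hNn.conj_mem z hz.1 g, fun a ha => by
      rw [show ⁅g * z * g⁻¹, a⁆ = g * ⁅z, g⁻¹ * a * g⁆ * g⁻¹ by group]
      refine hCn.conj_mem _ (hz.2 _ ?_) g
      have := hNn.conj_mem a ha g⁻¹
      rwa [inv_inv] at this⟩⟩
    by_cases hNC : N ≤ C
    · rw [hαmul, hαmul, (hNC hk).2 _ (hU k' u hu), (hNC hk').2 u hu, (hNC hk).2 u hu,
        (hNC hk').2 u hu]
    -- the centre of `N / C` acts nontrivially
    obtain ⟨z₀, hz₀Z, hz₀C⟩ : ∃ z ∈ Z, z ∉ C := by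
      set C' := C.subgroupOf N
      haveI : Nontrivial (N ⧸ C') := QuotientGroup.nontrivial_iff.mpr fun h =>
        hNC (Subgroup.subgroupOf_eq_top.mp h)
      haveI : Group.IsNilpotent (N ⧸ C') :=
        Group.nilpotent_of_surjective (QuotientGroup.mk' C') (QuotientGroup.mk'_surjective C')
      haveI : Nontrivial (Subgroup.center (N ⧸ C')) :=
        (Subgroup.nontrivial_iff_ne_bot _).mpr (Group.IsNilpotent.center_ne_bot _)
      obtain ⟨⟨y, hy⟩, hy1⟩ := exists_ne (1 : Subgroup.center (N ⧸ C'))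
      obtain ⟨z, rfl⟩ := QuotientGroup.mk_surjective y
      refine ⟨(z : G), ⟨z.2, fun a ha => ?_⟩, fun h => hy1 ?_⟩
      · have h1 : QuotientGroup.mk' C' ⁅z, (⟨a, ha⟩ : N)⁆ = 1 := by
          rw [map_commutatorElement, commutatorElement_eq_one_iff_mul_comm]
          exact (Subgroup.mem_center_iff.mp hy _).symm
        exact (QuotientGroup.eq_one_iff (⁅z, (⟨a, ha⟩ : N)⁆)).mp h1
      · exact Subtype.ext ((QuotientGroup.eq_one_iff z).mpr h)
    haveI : Fintype Z := Fintype.ofFinite Z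
    haveI : Fintype R := Fintype.ofFinite R
    let τ : V →* V := ∏ z : Z, α z
    have hτ : ∀ v, τ v = ∏ z : Z, α z v := fun v => MonoidHom.finsetProd_apply _ _ _
    have hτg : ∀ (g : G) v, τ (α g v) = α g (τ v) := by
      intro g v
      rw [hτ, hτ, map_prod]
      refine Fintype.prod_equiv (MulAut.conjNormal g⁻¹).toEquiv _ _ fun z => ?_
      show α z (α g v) = α g (α (MulAut.conjNormal g⁻¹ z : Z) v)
      rw [← hαmul, ← hαmul, MulAut.conjNormal_apply]
      congr 1
      group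
    have hτz : ∀ (z : Z) v, α z (τ v) = τ v := by
      intro z v
      rw [hτ, map_prod]
      exact Fintype.prod_equiv (Equiv.mulLeft z) _ _ fun y => (hαmul _ _ _).symm
    let W : Subgroup V := U ⊓ τ.ker
    let F : Subgroup V :=
      { carrier := {v | v ∈ U ∧ ∀ z : Z, α z v = v}
        one_mem' := ⟨one_mem U, fun z => map_one (α z)⟩
        mul_mem' := fun {a b} ha hb => ⟨mul_mem ha.1 hb.1, fun z => by rw [map_mul, ha.2, hb.2]⟩
        inv_mem' := fun {a} ha => ⟨inv_mem ha.1, fun z => by rw [map_inv, ha.2]⟩ }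
    have hWinv : ∀ g : G, ∀ v ∈ W, α g v ∈ W := fun g v hv => Subgroup.mem_inf.mpr
      ⟨hU g v hv.1, by rw [MonoidHom.mem_ker, hτg, show τ v = 1 from hv.2, map_one]⟩
    have hFinv : ∀ g : G, ∀ v ∈ F, α g v ∈ F := fun g v hv => ⟨hU g v hv.1, fun z => by
      rw [← hαmul, show (z : G) * g = g * (g⁻¹ * z * g) by group, hαmul]
      have hz' : g⁻¹ * (z : G) * g ∈ Z := by
        have := hZn.conj_mem (z : G) z.2 g⁻¹
        rwa [inv_inv] at this
      rw [hv.2 ⟨_, hz'⟩]⟩
    have hFlt : Nat.card F < Nat.card U := Cfsg.Agent.Basics.card_lt_of_lt (lt_of_le_of_ne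
      (fun v hv => hv.1) fun h => hz₀C ⟨hz₀Z.1, fun u hu => (h.symm ▸ hu : u ∈ F).2 ⟨z₀, hz₀Z⟩⟩)
    by_cases hWU : W = U
    swap
    · have hWlt : Nat.card W < Nat.card U :=
        Cfsg.Agent.Basics.card_lt_of_lt (lt_of_le_of_ne inf_le_left hWU)
      -- decompose `u ^ |Z|`
      set f := τ u with hf
      have hfU : f ∈ U := by rw [hf, hτ]; exact prod_mem fun z _ => hU z u hu
      have hfF : f ∈ F := ⟨hfU, fun z => hτz z u⟩
      have hwW : u ^ Nat.card Z * f⁻¹ ∈ W := by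
        refine Subgroup.mem_inf.mpr ⟨mul_mem (pow_mem hu _) (inv_mem hfU), ?_⟩
        rw [MonoidHom.mem_ker, map_mul, map_pow, map_inv, mul_inv_eq_one]
        conv_rhs => rw [hτ f]
        simp only [hτz, hf, Finset.prod_const, Finset.card_univ, Nat.card_eq_fintype_card]
      have h1 : α (k * k') (u ^ Nat.card Z) = α (k' * k) (u ^ Nat.card Z) := by
        have e1 : u ^ Nat.card Z = u ^ Nat.card Z * f⁻¹ * f := (inv_mul_cancel_right _ f).symm
        rw [e1]
        calc α (k * k') (u ^ Nat.card Z * f⁻¹ * f)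
            = α (k * k') (u ^ Nat.card Z * f⁻¹) * α (k * k') f := map_mul _ _ _
          _ = α (k' * k) (u ^ Nat.card Z * f⁻¹) * α (k' * k) f := by
            rw [ih _ hWlt W rfl hWinv k hk k' hk' _ hwW, ih _ hFlt F rfl hFinv k hk k' hk' _ hfF]
          _ = α (k' * k) (u ^ Nat.card Z * f⁻¹ * f) := (map_mul _ _ _).symm
      rw [map_pow, map_pow] at h1
      apply mul_inv_eq_one.mp
      exact hcop Z _ (by rw [mul_pow, inv_pow, h1, mul_inv_cancel])
    have hτ1 : ∀ v ∈ U, τ v = 1 := fun v hv => (hWU.symm ▸ hv : v ∈ W).2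
    -- fixed points of `R`
    let σ : V →* V := ∏ r : R, α r
    have hσ : ∀ v, σ v = ∏ r : R, α r v := fun v => MonoidHom.finsetProd_apply _ _ _
    have hσfix : ∀ v (r : R), α r (σ v) = σ v := by
      intro v r
      rw [hσ, map_prod]
      exact Fintype.prod_equiv (Equiv.mulLeft r) _ _ fun y => (hαmul _ _ _).symm
    let Φ : Subgroup V :=
      { carrier := {v | v ∈ U ∧ ∀ r : R, α r v = v}
        one_mem' := ⟨one_mem U, fun r => map_one (α r)⟩
        mul_mem' := fun {a b} ha hb => ⟨mul_mem ha.1 hb.1, fun r => by rw [map_mul, ha.2, hb.2]⟩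
        inv_mem' := fun {a} ha => ⟨inv_mem ha.1, fun r => by rw [map_inv, ha.2]⟩ }
    obtain ⟨c, hcU, hc⟩ : ∃ c ∈ U, ∀ v ∈ Φ, v ∈ Subgroup.zpowers c := by
      by_cases hΦ : Φ = ⊥
      · refine ⟨1, one_mem U, fun v hv => ?_⟩
        rw [hΦ, Subgroup.mem_bot] at hv
        rw [hv]
        exact one_mem _
      obtain ⟨c, hcΦ, hc1⟩ := Φ.bot_or_exists_ne_one.resolve_left hΦ
      refine ⟨c, hcΦ.1, ?_⟩
      have hle : Φ.map V.subtype ≤
          V ⊓ Subgroup.centralizer ((R.map G.subtype : Subgroup X) : Set X) := by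
        rintro _ ⟨v, hv, rfl⟩
        refine Subgroup.mem_inf.mpr ⟨v.2, Subgroup.mem_centralizer_iff.mpr ?_⟩
        rintro _ ⟨r, hr, rfl⟩
        exact mul_inv_eq_iff_eq_mul.mp (congrArg Subtype.val (hv.2 ⟨r, hr⟩))
      have hcard : Nat.card Φ ≤ ℓ := by
        rw [← hCV, show Nat.card Φ = Nat.card (Φ.map V.subtype) from
          (Subgroup.card_map_of_injective V.subtype_injective).symm]
        exact Subgroup.card_le_of_le hle
      have hzeq : Subgroup.zpowers c = Φ := by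
        refine Subgroup.eq_of_le_of_card_ge (Subgroup.zpowers_le.mpr hcΦ) (hcard.trans ?_)
        haveI := Fact.mk hℓ
        rw [Nat.card_zpowers, orderOf_eq_prime (Subtype.ext (hV.2 c c.2)) hc1]
      exact fun v hv => hzeq ▸ hv
    have h1key : ∀ v ∈ U, v ^ Nat.card Z = ∏ z : Z, α z (σ (α (z : G)⁻¹ v)) := by
      intro v hv
      symm
      simp only [hσ, map_prod, ← hαmul]
      rw [Finset.prod_comm, Finset.prod_eq_single (1 : R)]
      · simp only [OneMemClass.coe_one, one_mul, mul_one, mul_inv_cancel, hα1, Finset.prod_const,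
          Finset.card_univ, Nat.card_eq_fintype_card]
      · intro r _ hr
        rw [← hτ1 _ (hU r v hv), hτ]
        let e : Z → Z := fun z => ⟨(z : G) * ((r : G) * (z : G)⁻¹ * (r : G)⁻¹),
          mul_mem z.2 (hZn.conj_mem _ (inv_mem z.2) r)⟩
        have heinj : Function.Injective e := by
          intro a b hab
          have hab' : (a : G) * ((r : G) * (a : G)⁻¹ * (r : G)⁻¹) =
              (b : G) * ((r : G) * (b : G)⁻¹ * (r : G)⁻¹) := congrArg Subtype.val hab
          have h2 : Commute ((b : G)⁻¹ * a) r := by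
            show (b : G)⁻¹ * a * r = r * ((b : G)⁻¹ * a)
            calc (b : G)⁻¹ * a * r
                = (b : G)⁻¹ * ((a : G) * ((r : G) * (a : G)⁻¹ * (r : G)⁻¹)) * r * a := by group
              _ = (b : G)⁻¹ * ((b : G) * ((r : G) * (b : G)⁻¹ * (r : G)⁻¹)) * r * a := by rw [hab']
              _ = r * ((b : G)⁻¹ * a) := by group
          exact Subtype.ext (inv_mul_eq_one.mp (hfpf _ (mul_mem (inv_mem b.2.1) a.2.1) r r.2
            (fun h => hr (Subtype.ext h)) h2)).symm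
        refine Fintype.prod_equiv (Equiv.ofBijective e (Finite.injective_iff_bijective.mp heinj)) _ _
          fun z => ?_
        show α ((z : G) * ((r : G) * (z : G)⁻¹)) v = α (e z : G) (α r v)
        rw [← hαmul]
        refine congrArg (fun g => α g v) ?_
        show (z : G) * ((r : G) * (z : G)⁻¹) = (z : G) * ((r : G) * (z : G)⁻¹ * (r : G)⁻¹) * r
        group
      · intro h
        exact absurd (Finset.mem_univ _) h
    have hgen : ∀ (f g : V →* V), (∀ z : Z, f (α z c) = g (α z c)) → ∀ v ∈ U, f v = g v := by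
      intro f g hfg v hv
      have h1 := h1key v hv
      have h2 : f (v ^ Nat.card Z) = g (v ^ Nat.card Z) := by
        rw [h1, map_prod, map_prod]
        refine Finset.prod_congr rfl fun z _ => ?_
        have hmem : σ (α (z : G)⁻¹ v) ∈ Φ := ⟨by
          rw [hσ]
          exact prod_mem fun r _ => hU _ _ (hU _ v hv), fun r => hσfix _ r⟩
        obtain ⟨j, hj⟩ := Subgroup.mem_zpowers_iff.mp (hc _ hmem)
        rw [← hj, map_zpow, map_zpow, map_zpow, hfg]
      rw [map_pow, map_pow] at h2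
      apply mul_inv_eq_one.mp
      exact hcop Z _ (by rw [mul_pow, inv_pow, h2, mul_inv_cancel])
    -- operators commuting with `Z` commute
    let O : Set (V →* V) := {f | (∀ v ∈ U, f v ∈ U) ∧ ∀ z : Z, ∀ v ∈ U, f (α z v) = α z (f v)}
    have hkO : ∀ a ∈ N, α a ∈ O := fun a ha => ⟨fun v hv => hU a v hv, fun z v hv => by
      rw [← hαmul, ← hαmul]
      exact (hCcomm z a (z.2.2 a ha) v hv).symm⟩
    have hrep : ∀ v ∈ U, ∃ φ : V →* V, φ c = v ^ Nat.card Z ∧ φ ∈ O ∧
        ∀ g ∈ O, ∀ w ∈ U, g (φ w) = φ (g w) := by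
      intro v hv
      have hzO : ∀ z : Z, α z ∈ O := fun z => hkO z z.2.1
      have hj : ∀ z : Z, ∃ j : ℤ, σ (α (z : G)⁻¹ v) = c ^ j := fun z => by
        obtain ⟨j, hj⟩ := Subgroup.mem_zpowers_iff.mp (hc (σ (α (z : G)⁻¹ v)) ⟨by
          rw [hσ]
          exact prod_mem fun r _ => hU _ _ (hU _ v hv), fun r => hσfix _ r⟩)
        exact ⟨j, hj.symm⟩
      choose j hj using hj
      refine ⟨∏ z : Z, (α z) ^ (j z), ?_, ⟨fun w hw => ?_, fun y w hw => ?_⟩, fun g hg w hw => ?_⟩
      · rw [MonoidHom.finsetProd_apply]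
        have h1 : v ^ Nat.card Z = ∏ z : Z, α z (σ (α (z : G)⁻¹ v)) := h1key v hv
        rw [h1]
        exact Finset.prod_congr rfl fun z _ => by rw [hj z, map_zpow]; rfl
      · rw [MonoidHom.finsetProd_apply]
        exact prod_mem fun z _ => U.zpow_mem (hU z w hw) _
      · rw [MonoidHom.finsetProd_apply, MonoidHom.finsetProd_apply, map_prod]
        refine Finset.prod_congr rfl fun z _ => ?_
        show (α z (α y w)) ^ (j z) = α y ((α z w) ^ (j z))
        rw [map_zpow, (hzO z).2 y w hw]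
      · rw [MonoidHom.finsetProd_apply, MonoidHom.finsetProd_apply, map_prod]
        refine Finset.prod_congr rfl fun z _ => ?_
        show g ((α z w) ^ (j z)) = (α z (g w)) ^ (j z)
        rw [map_zpow, hg.2 z w hw]
    -- conclude
    obtain ⟨φ, hφc, hφO, hφcomm⟩ := hrep _ (hU k c hcU)
    have h1 : ∀ w ∈ U, (α k w) ^ Nat.card Z = φ w := by
      refine hgen ((powMonoidHom (Nat.card Z)).comp (α k)) φ fun z => ?_
      show (α k (α z c)) ^ Nat.card Z = φ (α z c)
      rw [(hkO k hk).2 z c hcU, ← map_pow, ← hφc, hφO.2 z c hcU]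
    apply mul_inv_eq_one.mp
    refine hcop Z _ ?_
    rw [mul_pow, inv_pow, mul_inv_eq_one, hαmul, hαmul, h1 _ (hU k' u hu), ← map_pow (α k'),
      h1 u hu, hφcomm (α k') (hkO k' hk') u hu]

end Cfsg.Agent.S3770
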