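import Cfsg.Statements.S3771
import Cfsg.Agent.Lib.PGroup23.NormalSq

set_option autoImplicit false
open Cfsg

namespace Cfsg.Agent.S3771

/-- Let p be a prime and R a finite p-group of p-rank at most 2 (no elementary abelian subgroup of order p³) in which every element has order dividing p. Then R has order at most p³. -/
theorem result {R : Type*} [Group R] [Finite R] {p : ℕ} [Fact p.Prime] (hR : IsPGroup p R) (hrank : Cfsg.PRankLE p 2 R) (hexp : ∀ x : R, x ^ p = 1) : Nat.card R ≤ p ^ 3 := by
  rename_i hp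
  have hpp := hp.out
  by_cases hp2 : p = 2
  · subst hp2
    have hc : IsMulCommutative R := ⟨⟨fun a b => by
      have h : ∀ x : R, x⁻¹ = x := fun x =>
        inv_eq_of_mul_eq_one_right (by rw [← pow_two, hexp])
      rw [← h (a * b), mul_inv_rev, h, h]⟩⟩
    have := hrank ⊤ ⟨⟨fun a b => Subtype.ext (mul_comm' (a : R) b)⟩⟩ fun a _ => hexp a
    rw [Subgroup.card_top] at this
    exact this.trans (Nat.pow_le_pow_right two_pos (by norm_num))
  by_cases hnc : IsCyclic R
  · obtain ⟨g, hg⟩ := hnc.exists_generator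
    have : Nat.card R ∣ p := by
      rw [← orderOf_eq_card_of_forall_mem_zpowers hg]
      exact orderOf_dvd_of_pow_eq_one (hexp g)
    exact (Nat.le_of_dvd hpp.pos this).trans (Nat.le_self_pow (by norm_num) p)
  obtain ⟨E, hEn, hEc, hEab, hEp⟩ := PGroup23.exists_normal_elementary_sq hp2 hR hnc
  refine PGroup23.card_le_cube hR E hEc hEab hEp fun c hc => ?_
  -- an element centralising `E` lies in it
  have hle : E ⊔ Subgroup.zpowers c = E := by
    refine (Subgroup.eq_of_le_of_card_ge le_sup_left ?_).symm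
    rw [hEc]
    refine hrank _ ?_ fun a _ => hexp a
    have h1 : E ≤ Subgroup.centralizer (E : Set R) := fun a ha =>
      Subgroup.mem_centralizer_iff.mpr fun b hb =>
        congrArg Subtype.val (mul_comm' (⟨b, hb⟩ : E) ⟨a, ha⟩)
    have h2 : E ⊔ Subgroup.zpowers c ≤
        Subgroup.centralizer ((E ⊔ Subgroup.zpowers c : Subgroup R) : Set R) := by
      refine sup_le (Subgroup.le_centralizer_iff.mp (sup_le h1 (Subgroup.zpowers_le.mpr hc))) ?_
      refine Subgroup.le_centralizer_iff.mp (sup_le
        (Subgroup.le_centralizer_iff.mp (Subgroup.zpowers_le.mpr hc)) (Subgroup.le_centralizer _))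
    exact ⟨⟨fun a b => Subtype.ext (Subgroup.mem_centralizer_iff.mp (h2 b.2) a a.2)⟩⟩
  rw [← hle]
  exact Subgroup.mem_sup_right (Subgroup.mem_zpowers c)

end Cfsg.Agent.S3771
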