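import Cfsg.Statements.S3772
import Cfsg.Agent.Lib.ClassK.Burnside
import Cfsg.Agent.Lib.ClassK.TICommute
-- import your own Cfsg.Agent.* helpers here

set_option autoImplicit false
open Cfsg

namespace Cfsg.Agent.S3772

open Subgroup
open scoped commutatorElement


theorem core {G : Type*} [Group G] [Finite G] (hG : IsPGroup 2 G)
    (hΦ : Nat.card (frattini G) = 2) (d : ℕ) (hd : (frattini G).index = 2 ^ d) :
    ∃ z : G, z ≠ 1 ∧ z ∈ frattini G ∧ z ∈ center G ∧
      (∀ x ∈ frattini G, x = 1 ∨ x = z) ∧
      (Nat.card {x : G // x ^ 2 = 1} = 2 ^ d ∨ ∃ e s : ℕ, Nat.card (center G) = 2 ^ e ∧ 1 ≤ e ∧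
        e + 1 ≤ d ∧ 2 * s + 1 = d + e ∧
        (Nat.card {x : G // x ^ 2 = 1} = 2 ^ d + 2 ^ s ∨
          Nat.card {x : G // x ^ 2 = 1} + 2 ^ s = 2 ^ d)) := by
  classical
  have : Fintype G := Fintype.ofFinite G
  have : (frattini G).Normal := inferInstance
  obtain ⟨⟨z, hzΦ⟩, hz, huniq⟩ := (Nat.card_eq_two_iff' (1 : frattini G)).1 hΦ
  have hz1 : z ≠ 1 := fun h => hz (Subtype.ext h)
  have hor : ∀ x ∈ frattini G, x = 1 ∨ x = z := by
    intro x hx
    by_cases hx1 : x = 1
    · exact Or.inl hx1
    · exact Or.inr (congrArg Subtype.val (huniq ⟨x, hx⟩ (fun h => hx1 (congrArg Subtype.val h))))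
  have hzc : z ∈ center G := by
    rw [mem_center_iff]
    intro g
    rcases hor (g * z * g⁻¹) (Normal.conj_mem inferInstance z hzΦ g) with h | h
    · exact absurd (conj_eq_one_iff.1 h) hz1
    · calc g * z = g * z * g⁻¹ * g := by group
        _ = z * g := by rw [h]
  have hzz : z * z = 1 := by
    rcases hor (z * z) (mul_mem hzΦ hzΦ) with h | h
    · exact h
    · exact absurd (mul_eq_right.1 h) hz1
  have hΦZ : frattini G ≤ center G := fun x hx => by
    rcases hor x hx with h | h
    · rw [h]; exact one_mem _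
    · rw [h]; exact hzc
  refine ⟨z, hz1, hzΦ, hzc, hor, ?_⟩
  let σ : G → ℤ := fun x => if x = 1 then 1 else -1
  have σ1 : σ 1 = 1 := if_pos rfl
  have σz : σ z = -1 := if_neg hz1
  have σmul : ∀ x y, x ∈ frattini G → y ∈ frattini G → σ (x * y) = σ x * σ y := by
    intro x y hx hy
    rcases hor x hx with rfl | rfl <;> rcases hor y hy with rfl | rfl <;>
      simp only [one_mul, mul_one, hzz, σ1, σz] <;> norm_num
  have hsq : ∀ g : G, g * g ∈ frattini G := ClassK.mul_self_mem_frattini hG
  let c : G → G → G := fun g k => g⁻¹ * k * g * k⁻¹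
  have hc : ∀ g k, c g k ∈ frattini G := by
    intro g k
    have h : c g k = (g * g)⁻¹ * (g * k * (g * k)) * (k * k)⁻¹ := by simp only [c]; group
    rw [h]
    exact mul_mem (mul_mem (inv_mem (hsq g)) (hsq _)) (inv_mem (hsq k))
  let ε : G → ℤ := fun g => σ (g * g)
  have hεmul : ∀ g k, ε (g * k) = ε g * σ (c g k) * ε k := by
    intro g k
    have h : g * k * (g * k) = g * g * c g k * (k * k) := by simp only [c]; group
    simp only [ε]
    rw [h, σmul _ _ (mul_mem (hsq g) (hc g k)) (hsq k), σmul _ _ (hsq g) (hc g k)]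
  have hεsq : ∀ g, ε g * ε g = 1 := by
    intro g
    rw [← σmul _ _ (hsq g) (hsq g)]
    rcases hor (g * g) (hsq g) with h | h <;> rw [h] <;> simp [σ1, hzz]
  have hχ : ∀ k, ∑ g : G, σ (c g k) = if k ∈ center G then (Fintype.card G : ℤ) else 0 := by
    intro k
    split_ifs with hk
    · have h1 : ∀ g, c g k = 1 := fun g => by
        simp only [c]
        rw [mul_assoc g⁻¹ k g, ← mem_center_iff.1 hk g, inv_mul_cancel_left, mul_inv_cancel]
      simp [h1, σ1]
    · obtain ⟨a, ha⟩ : ∃ a, c a k ≠ 1 := by
        by_contra hcon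
        push Not at hcon
        refine hk (mem_center_iff.2 fun g => ?_)
        have := hcon g
        simp only [c] at this
        calc g * k = g * (g⁻¹ * k * g * k⁻¹) * k := by rw [this, mul_one]
          _ = k * g := by group
      have haz : c a k = z := (hor _ (hc a k)).resolve_left ha
      have hshift : ∀ g, σ (c (a * g) k) = - σ (c g k) := by
        intro g
        have h : c (a * g) k = z * c g k := by
          calc c (a * g) k = g⁻¹ * c a k * (k * g * k⁻¹) := by simp only [c]; group
            _ = z * c g k := by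
              rw [haz, mem_center_iff.1 hzc g⁻¹]; simp only [c]; group
        rw [h, σmul _ _ hzΦ (hc g k), σz, neg_one_mul]
      have := Equiv.sum_comp (Equiv.mulLeft a) (fun g => σ (c g k))
      simp only [Equiv.coe_mulLeft, hshift, Finset.sum_neg_distrib] at this
      linarith
  let D : ℤ := ∑ g : G, ε g
  have hD2 : D * D = (Fintype.card G : ℤ) * ∑ k : G, if k ∈ center G then ε k else 0 := by
    calc D * D = ∑ g : G, ∑ k : G, ε k * σ (c g k) := by
          simp only [D, Finset.sum_mul]
          refine Finset.sum_congr rfl fun g _ => ?_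
          rw [← Equiv.sum_comp (Equiv.mulLeft g) ε, Finset.mul_sum]
          refine Finset.sum_congr rfl fun k _ => ?_
          rw [Equiv.coe_mulLeft, hεmul g k]
          linear_combination (σ (c g k) * ε k) * hεsq g
      _ = ∑ k : G, ε k * ∑ g : G, σ (c g k) := by
          rw [Finset.sum_comm]
          simp only [Finset.mul_sum]
      _ = _ := by
          rw [Finset.mul_sum]
          refine Finset.sum_congr rfl fun k _ => ?_
          rw [hχ k]
          split_ifs <;> ring
  have hcardG : Fintype.card G = 2 ^ (d + 1) := by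
    rw [Fintype.card_eq_nat_card, ← card_mul_index (frattini G), hΦ, hd, pow_succ, mul_comm]
  have hεiff : ∀ g, g * g = 1 → ε g = 1 := fun g h => by simp only [ε, h, σ1]
  have hεiff' : ∀ g, g * g ≠ 1 → ε g = -1 := fun g h => if_neg h
  have hDj : D = 2 * (Nat.card {x : G // x ^ 2 = 1} : ℤ) - (Fintype.card G : ℤ) := by
    have h1 : Nat.card {x : G // x ^ 2 = 1} = (Finset.univ.filter fun x : G => x * x = 1).card := by
      rw [Nat.card_eq_fintype_card, Fintype.card_subtype]
      simp only [pow_two]
    have h2 : ∀ g, ε g = 2 * (if g * g = 1 then (1 : ℤ) else 0) - 1 := by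
      intro g
      split_ifs with h
      · rw [hεiff g h]; norm_num
      · rw [hεiff' g h]; norm_num
    simp only [D, h2, Finset.sum_sub_distrib, ← Finset.mul_sum, Finset.sum_boole, h1]
    simp
  by_cases hall : ∀ k ∈ center G, ε k = 1
  · have hsum : (∑ k : G, if k ∈ center G then ε k else 0) = (Nat.card (center G) : ℤ) := by
      rw [Finset.sum_congr rfl (fun k _ => show (if k ∈ center G then ε k else 0)
        = if k ∈ center G then (1 : ℤ) else 0 by split_ifs with h <;> simp_all), Finset.sum_boole,
        Nat.card_eq_fintype_card, Fintype.card_subtype]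
    obtain ⟨e, he⟩ := IsPGroup.iff_card.1 (hG.to_subgroup (center G))
    have he1 : 1 ≤ e := by
      by_contra hcon
      have h0 : e = 0 := by omega
      rw [h0, pow_zero, card_eq_one] at he
      exact hz1 (by simpa [he] using hzc)
    have hele : e ≤ d + 1 := by
      have := card_subgroup_dvd_card (center G)
      rw [he, Nat.card_eq_fintype_card, hcardG] at this
      exact (Nat.pow_dvd_pow_iff_le_right (by norm_num)).1 this
    have hD : D * D = 2 ^ (d + 1 + e) := by
      rw [hD2, hsum, he, hcardG]; push_cast; ring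
    have hDn : D.natAbs * D.natAbs = 2 ^ (d + 1 + e) := by
      have := congrArg Int.natAbs hD
      rwa [Int.natAbs_mul, Int.natAbs_pow] at this
    obtain ⟨s, -, hs⟩ := (Nat.dvd_prime_pow Nat.prime_two).1 (Dvd.intro _ hDn)
    have hs2 : 2 * s = d + 1 + e := by
      rw [hs, ← pow_add] at hDn
      have := Nat.pow_right_injective le_rfl hDn
      omega
    have hne : e ≠ d + 1 := by
      intro hed
      have htop : center G = ⊤ := by
        apply eq_top_of_card_eq
        rw [he, hed, Nat.card_eq_fintype_card, hcardG]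
      obtain ⟨r, hr⟩ := ClassK.exists_mul_self_ne_one (R := G) (fun h => hz1 (by simpa [h] using hzΦ))
      have h1 := hall r (by rw [htop]; exact mem_top r)
      rw [hεiff' r hr] at h1
      norm_num at h1
    refine Or.inr ⟨e, s - 1, he, he1, by omega, by omega, ?_⟩
    have hs' : (2 : ℤ) ^ s = 2 * 2 ^ (s - 1) := by
      rw [← pow_succ']; congr 1; omega
    have hnc : ((2 ^ (s - 1) : ℕ) : ℤ) = 2 ^ (s - 1) := by push_cast; rfl
    have hdc : ((2 ^ d : ℕ) : ℤ) = 2 ^ d := by push_cast; rfl
    have hGc : (Fintype.card G : ℤ) = 2 * 2 ^ d := by rw [hcardG]; push_cast; ring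
    rcases Int.natAbs_eq D with h | h <;> rw [hs, hDj, hGc] at h <;> push_cast at h <;>
      rw [hs'] at h
    · left; omega
    · right; omega
  · push Not at hall
    obtain ⟨k0, hk0, hk0'⟩ := hall
    left
    have hm1 : ε k0 = -1 := hεiff' k0 (fun h => hk0' (hεiff k0 h))
    let f : G → ℤ := fun k => if k ∈ center G then ε k else 0
    have hshift : ∀ k, f (k0 * k) = - f k := by
      intro k
      simp only [f, mul_mem_cancel_left hk0]
      split_ifs with hk
      · have h1 : c k0 k = 1 := by
          simp only [c]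
          rw [mul_assoc k0⁻¹ k k0, mem_center_iff.1 hk0 k, inv_mul_cancel_left, mul_inv_cancel]
        rw [hεmul, h1, σ1, hm1]; ring
      · exact neg_zero.symm
    have h0 : ∑ k : G, f k = 0 := by
      have := Equiv.sum_comp (Equiv.mulLeft k0) f
      simp only [Equiv.coe_mulLeft, hshift, Finset.sum_neg_distrib] at this
      linarith
    have hD0 : D = 0 := by
      have : D * D = 0 := by rw [hD2, show (∑ k : G, if k ∈ center G then ε k else 0) = 0 from h0, mul_zero]
      simpa using this
    rw [hDj, hcardG] at hD0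
    push_cast at hD0
    rw [pow_succ (2 : ℤ) d] at hD0
    have hZ : (Nat.card {x : G // x ^ 2 = 1} : ℤ) = (2 : ℤ) ^ d := by linarith
    exact_mod_cast hZ

/-- Let G be a finite 2-group whose Frattini subgroup Φ(G) has order 2, with |G : Φ(G)| = 2^d, and let j be the number of elements x of G with x² = 1. Then j = 2^d, or j = 2^d + 2^(d−r) or j = 2^d − 2^(d−r) for some positive integer r with 2r ≤ d. Moreover if d = 2r and j is 2^d + 2^r or 2^d − 2^r, then G is extraspecial. -/
theorem result {G : Type*} [Group G] [Finite G] (hG : IsPGroup 2 G) (hΦ : Nat.card (frattini G) = 2) (d : ℕ) (hd : (frattini G).index = 2 ^ d) : (Nat.card {x : G // x ^ 2 = 1} = 2 ^ d ∨ ∃ r : ℕ, 1 ≤ r ∧ 2 * r ≤ d ∧ (Nat.card {x : G // x ^ 2 = 1} = 2 ^ d + 2 ^ (d - r) ∨ Nat.card {x : G // x ^ 2 = 1} + 2 ^ (d - r) = 2 ^ d)) ∧ (∀ r : ℕ, d = 2 * r → (Nat.card {x : G // x ^ 2 = 1} = 2 ^ d + 2 ^ r ∨ Nat.card {x : G // x ^ 2 = 1} + 2 ^ r = 2 ^ d) → Cfsg.IsExtraspecial 2 G) := by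
  obtain ⟨z, hz1, hzΦ, hzc, hor, hcase⟩ := core hG hΦ d hd
  constructor
  · rcases hcase with h | ⟨e, s, he, he1, hed, hs, hj⟩
    · exact Or.inl h
    · refine Or.inr ⟨d - s, by omega, by omega, ?_⟩
      rwa [show d - (d - s) = s by omega]
  · intro r hdr hj
    have hpos : 0 < 2 ^ r := by positivity
    rcases hcase with h | ⟨e, s, he, he1, hed, hs, hj'⟩
    · omega
    have hrs : 2 ^ r = 2 ^ s := by
      revert hj hj' hpos
      generalize 2 ^ r = A, 2 ^ s = B, 2 ^ d = C
      omega
    have hrs' : r = s := Nat.pow_right_injective le_rfl hrs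
    have he' : e = 1 := by omega
    rw [he', pow_one] at he
    have hΦZ : frattini G ≤ Subgroup.center G := fun x hx => by
      rcases hor x hx with h | h
      · rw [h]; exact one_mem _
      · rw [h]; exact hzc
    have hΦc : frattini G = Subgroup.center G :=
      Subgroup.eq_of_le_of_card_ge hΦZ (by rw [he, hΦ])
    refine ⟨⟨hG, hΦc, ?_⟩, he⟩
    have hcl : commutator G ≤ frattini G := by
      rw [_root_.commutator_def, Subgroup.commutator_le]
      intro g _ h _
      have hh : ⁅g, h⁆ = g * h * (g * h) * ((h⁻¹ * g⁻¹ * h) * (h⁻¹ * g⁻¹ * h)) * (h⁻¹ * h⁻¹) := by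
        rw [commutatorElement_def]; group
      rw [hh]
      exact mul_mem (mul_mem (ClassK.mul_self_mem_frattini hG _) (ClassK.mul_self_mem_frattini hG _))
        (ClassK.mul_self_mem_frattini hG _)
    rw [← hΦc]
    refine le_antisymm hcl ?_
    by_contra hnot
    have hbot : commutator G = ⊥ := by
      rw [eq_bot_iff]
      intro x hx
      rcases hor x (hcl hx) with h | h
      · exact h
      · refine absurd (fun y hy => ?_) hnot
        rcases hor y hy with h' | h'
        · rw [h']; exact one_mem _
        · rw [h', ← h]; exact hx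
    have hcomm : ∀ a b : G, a * b = b * a := fun a b =>
      commutatorElement_eq_one_iff_mul_comm.1 (by
        have h1 : ⁅a, b⁆ ∈ commutator G :=
          Subgroup.commutator_mem_commutator (Subgroup.mem_top a) (Subgroup.mem_top b)
        rw [hbot] at h1
        simpa using h1)
    have htop : Subgroup.center G = ⊤ := eq_top_iff.2 fun a _ => Subgroup.mem_center_iff.2 fun b => hcomm b a
    rw [htop, Subgroup.card_top] at he
    have := Subgroup.card_mul_index (frattini G)
    rw [hΦ, hd, he] at this
    have h2 : 1 < 2 ^ d := Nat.one_lt_two_pow (by omega)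
    omega

end Cfsg.Agent.S3772
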