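import Cfsg.Statements.S3773
import Cfsg.Agent.Lib.LocalEvenA.FrattiniP
import Cfsg.Agent.Lib.Basics.Frattini
import Cfsg.Agent.Lib.Basics.Tools
import Cfsg.Agent.Lib.Coprime23.Omega

set_option autoImplicit false
open Cfsg
open scoped commutatorElement

namespace Cfsg.Agent.S3773

theorem enough {n : ℕ} (hn : n ∣ 2) : HasEnoughRootsOfUnity ℤ n := by
  refine { prim := ?_, cyc := ?_ }
  · rcases (Nat.dvd_prime Nat.prime_two).mp hn with rfl | rfl
    · exact ⟨1, IsPrimitiveRoot.one⟩
    · exact ⟨-1, IsPrimitiveRoot.neg_one 0 (by norm_num)⟩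
  · haveI : IsCyclic ℤˣ := isCyclic_of_prime_card (p := 2) (by simp)
    infer_instance

/-- Character-sum bound: `|G| · |Z(G)| ≤ (|K| · #{x : x² = 1})²` when all squares lie in the central
elementary subgroup `K`. -/
theorem counting {G : Type*} [Group G] [Finite G] (hG : IsPGroup 2 G) (K : Subgroup G)
    (hKZ : K ≤ Subgroup.center G) (hK2 : ∀ k ∈ K, k ^ 2 = 1) (hsq : ∀ x : G, x ^ 2 ∈ K) :
    Nat.card G * Nat.card (Subgroup.center G) ≤
      (Nat.card K * Nat.card {x : G // x ^ 2 = 1}) ^ 2 := by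
  classical
  haveI : Fintype G := Fintype.ofFinite G
  letI : CommGroup K := { (inferInstance : Group K) with
    mul_comm := fun a b => Subtype.ext (Subgroup.mem_center_iff.mp (hKZ b.2) a) }
  haveI : HasEnoughRootsOfUnity ℤ (Monoid.exponent K) := enough
    (Monoid.exponent_dvd_of_forall_pow_eq_one fun k => Subtype.ext (hK2 k k.2))
  have hcm : ∀ a b : G, ⁅a, b⁆ ∈ K := by
    intro a b
    have e : ⁅a, b⁆ = a ^ 2 * (a⁻¹ * b) ^ 2 * (b⁻¹) ^ 2 := by
      rw [pow_two, pow_two, pow_two]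
      group
    rw [e]
    exact mul_mem (mul_mem (hsq _) (hsq _)) (hsq _)
  let sq : G → K := fun x => ⟨x ^ 2, hsq x⟩
  let cm : G → G → K := fun a b => ⟨⁅a, b⁆, hcm a b⟩
  have hz : ∀ (a b g : G), g * ⁅a, b⁆ = ⁅a, b⁆ * g := fun a b g =>
    Subgroup.mem_center_iff.mp (hKZ (hcm a b)) g
  have hmul : ∀ x u : G, sq (x * u) = sq x * sq u * cm u x := fun x u => by
    apply Subtype.ext
    show (x * u) ^ 2 = x ^ 2 * u ^ 2 * ⁅u, x⁆
    calc (x * u) ^ 2 = x * (⁅u, x⁆ * (x * u)) * u := by rw [pow_two]; group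
      _ = x * ((x * u) * ⁅u, x⁆) * u := by rw [hz u x]
      _ = x * x * u * (⁅u, x⁆ * u) := by group
      _ = x * x * u * (u * ⁅u, x⁆) := by rw [← hz u x u]
      _ = x ^ 2 * u ^ 2 * ⁅u, x⁆ := by rw [pow_two, pow_two]; group
  have hbil : ∀ u x y : G, cm u (x * y) = cm u x * cm u y := fun u x y => by
    apply Subtype.ext
    show ⁅u, x * y⁆ = ⁅u, x⁆ * ⁅u, y⁆
    have e : ⁅u, x * y⁆ = ⁅u, x⁆ * (x * ⁅u, y⁆ * x⁻¹) := by group
    rw [e, hz u y x, mul_inv_cancel_right]
  have hbil' : ∀ u v x : G, cm (u * v) x = cm u x * cm v x := fun u v x => by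
    apply Subtype.ext
    show ⁅u * v, x⁆ = ⁅u, x⁆ * ⁅v, x⁆
    have e : ⁅u * v, x⁆ = u * ⁅v, x⁆ * u⁻¹ * ⁅u, x⁆ := by group
    rw [e, hz v x u, mul_inv_cancel_right, ← hz v x ⁅u, x⁆]
  obtain ⟨g, hg⟩ := IsPGroup.iff_card.mp hG
  obtain ⟨z, hzc⟩ := IsPGroup.iff_card.mp (hG.to_subgroup (Subgroup.center G))
  let S : (K →* ℤˣ) → ℤ := fun χ => ∑ x : G, ((χ (sq x) : ℤˣ) : ℤ)
  -- each squared character sum
  have hS : ∀ χ : K →* ℤˣ, ((2 : ℤ) ^ (g + z)) ∣ S χ * S χ := by
    intro χ
    let ψ : K →* ℤ := (Units.coeHom ℤ).comp χ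
    have hψ1 : ∀ k : K, ψ k * ψ k = 1 := fun k => by
      rw [← map_mul, ← pow_two, show k ^ 2 = 1 from Subtype.ext (hK2 k k.2), map_one]
    let row : G → (G →* ℤ) := fun u =>
      { toFun := fun x => ψ (cm u x)
        map_one' := by
          rw [← map_one ψ]
          congr 1
          exact Subtype.ext (commutatorElement_one_right u)
        map_mul' := fun x y => by rw [hbil, map_mul] }
    have hrw : S χ * S χ = ∑ u : G, ψ (sq u) * ∑ x : G, row u x := by
      show (∑ x : G, ψ (sq x)) * (∑ x : G, ψ (sq x)) = _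
      rw [Finset.sum_mul]
      simp only [Finset.mul_sum]
      rw [Finset.sum_comm (f := fun u x => ψ (sq u) * row u x)]
      refine Finset.sum_congr rfl fun x _ => ?_
      refine (Fintype.sum_equiv (Equiv.mulLeft x) _ _ fun u => ?_).symm
      show ψ (sq u) * ψ (cm u x) = ψ (sq x) * ψ (sq (x * u))
      rw [hmul, map_mul, map_mul, ← mul_assoc, ← mul_assoc, hψ1, one_mul]
    let R : Subgroup G :=
      { carrier := {u | row u = 1}
        one_mem' := MonoidHom.ext fun x => by
          show ψ (cm 1 x) = 1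
          rw [← map_one ψ]
          congr 1
          exact Subtype.ext (commutatorElement_one_left x)
        mul_mem' := fun {u v} hu hv => MonoidHom.ext fun x => by
          show ψ (cm (u * v) x) = 1
          rw [hbil', map_mul, show ψ (cm u x) = 1 from DFunLike.congr_fun hu x,
            show ψ (cm v x) = 1 from DFunLike.congr_fun hv x, one_mul]
        inv_mem' := fun {u} hu => MonoidHom.ext fun x => by
          show ψ (cm u⁻¹ x) = 1
          have h := congrArg ψ (hbil' u⁻¹ u x)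
          rw [map_mul, show ψ (cm u x) = 1 from DFunLike.congr_fun hu x, mul_one,
            inv_mul_cancel] at h
          rw [← h, ← map_one ψ]
          congr 1
          exact Subtype.ext (commutatorElement_one_left x) }
    have hZR : Subgroup.center G ≤ R := fun u hu => MonoidHom.ext fun x => by
      show ψ (cm u x) = 1
      rw [← map_one ψ]
      congr 1
      exact Subtype.ext (commutatorElement_eq_one_iff_mul_comm.mpr
        (Subgroup.mem_center_iff.mp hu x).symm)
    let f : R →* ℤ :=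
      { toFun := fun u => ψ (sq (u : G))
        map_one' := by
          rw [← map_one ψ]
          congr 1
          exact Subtype.ext (by show ((1 : R) : G) ^ 2 = 1; simp)
        map_mul' := fun u v => by
          show ψ (sq ((u : G) * (v : G))) = _
          rw [hmul, map_mul, map_mul, show ψ (cm (v : G) (u : G)) = 1 from
            DFunLike.congr_fun v.2 (u : G), mul_one] }
    have hsum : ∑ u : G, ψ (sq u) * ∑ x : G, row u x = (Fintype.card G : ℤ) * ∑ u : R, f u := by
      rw [Finset.mul_sum, ← Finset.sum_subset (Finset.subset_univ (Finset.univ.filter (· ∈ R)))]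
      · rw [Finset.sum_subtype (p := fun u => u ∈ R) _ (fun u => by simp)]
        refine Finset.sum_congr rfl fun u _ => ?_
        rw [show row (u : G) = 1 from u.2, sum_hom_units, if_pos rfl, mul_comm]
        rfl
      · intro u _ hu
        rw [sum_hom_units_eq_zero (row u) (fun h => hu (by
          rw [Finset.mem_filter]; exact ⟨Finset.mem_univ u, h⟩)), mul_zero]
    rw [hrw, hsum, pow_add]
    refine mul_dvd_mul ?_ ?_
    · rw [← Nat.card_eq_fintype_card, hg]
      push_cast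
      exact dvd_rfl
    · rw [sum_hom_units]
      split_ifs
      · have h := Subgroup.card_dvd_of_le hZR
        rw [hzc, Nat.card_eq_fintype_card] at h
        exact_mod_cast h
      · exact dvd_zero _
  haveI : Finite (K →* ℤˣ) := Finite.of_injective (fun φ => (φ : K → ℤˣ)) DFunLike.coe_injective
  haveI : Fintype (K →* ℤˣ) := Fintype.ofFinite _
  have hX : Fintype.card (K →* ℤˣ) = Nat.card K := by
    rw [← Nat.card_eq_fintype_card]
    exact CommGroup.card_monoidHom_of_hasEnoughRootsOfUnity K ℤ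
  have hN : (∑ χ : K →* ℤˣ, S χ) = (Nat.card K * Nat.card {x : G // x ^ 2 = 1} : ℕ) := by
    rw [Finset.sum_comm]
    have h1 : ∀ x : G, ∑ χ : K →* ℤˣ, ((χ (sq x) : ℤˣ) : ℤ) =
        if x ^ 2 = 1 then (Nat.card K : ℤ) else 0 := by
      intro x
      split_ifs with hx
      · have : sq x = 1 := Subtype.ext hx
        simp only [this, map_one, Units.val_one, Finset.sum_const, Finset.card_univ, hX,
          nsmul_eq_mul, mul_one]
      · let ev : (K →* ℤˣ) →* ℤ :=
          { toFun := fun χ => ((χ (sq x) : ℤˣ) : ℤ)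
            map_one' := rfl
            map_mul' := fun _ _ => rfl }
        refine sum_hom_units_eq_zero ev fun h => hx ?_
        have h' : sq x = 1 := (CommGroup.forall_apply_eq_apply_iff (G := K) (M := ℤ)).mp
          fun φ => by
            rw [map_one]
            exact Units.ext (DFunLike.congr_fun h φ)
        exact congrArg Subtype.val h'
    simp only [h1]
    rw [← Finset.sum_filter, Finset.sum_const, nsmul_eq_mul]
    push_cast
    rw [Nat.card_eq_fintype_card (α := {x : G // x ^ 2 = 1}), Fintype.card_subtype]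
    ring
  have hdiv : ((2 : ℤ) ^ (g + z)) ∣ (∑ χ : K →* ℤˣ, S χ) ^ 2 := by
    rw [pow_two, Finset.sum_mul_sum]
    refine Finset.dvd_sum fun a _ => Finset.dvd_sum fun b _ => ?_
    rw [← Int.pow_dvd_pow_iff two_ne_zero, mul_pow, pow_two, pow_two (S a), pow_two (S b)]
    exact mul_dvd_mul (hS a) (hS b)
  rw [hN, ← Nat.cast_pow] at hdiv
  have hdiv' : 2 ^ (g + z) ∣ (Nat.card K * Nat.card {x : G // x ^ 2 = 1}) ^ 2 := by
    exact_mod_cast hdiv
  rw [hg, hzc, ← pow_add]
  haveI : Nonempty {x : G // x ^ 2 = 1} := ⟨⟨1, one_pow 2⟩⟩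
  exact Nat.le_of_dvd (pow_pos (Nat.mul_pos Nat.card_pos Nat.card_pos) 2) hdiv'

/-- Let G be a finite 2-group of nilpotency class at most 2 and exponent dividing 4 in which the elements x with x² = 1 form a subgroup N. Then |G| ≤ |N|³, and |G| < |N|³ unless G is special. -/
theorem result {G : Type*} [Group G] [Finite G] (hG : IsPGroup 2 G) (hcl : (⊤ : Subgroup G).lowerCentralSeries 2 = ⊥) (hexp : ∀ x : G, x ^ 4 = 1) (hN : ∀ x y : G, x ^ 2 = 1 → y ^ 2 = 1 → (x * y) ^ 2 = 1) : Nat.card G ≤ Nat.card {x : G // x ^ 2 = 1} ^ 3 ∧ (¬ Cfsg.IsSpecial 2 G → Nat.card G < Nat.card {x : G // x ^ 2 = 1} ^ 3) := by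
  classical
  have hc2 : ∀ a b : G, ⁅a, b⁆ ∈ Subgroup.center G := by
    intro a b
    have h1 : ⁅a, b⁆ ∈ (⊤ : Subgroup G).lowerCentralSeries 1 := by
      rw [Subgroup.lowerCentralSeries_one]
      exact Subgroup.commutator_mem_commutator (Subgroup.mem_top a) (Subgroup.mem_top b)
    refine Subgroup.mem_center_iff.mpr fun g => ?_
    have h2 : ⁅⁅a, b⁆, g⁆ ∈ (⊤ : Subgroup G).lowerCentralSeries 2 :=
      Subgroup.commutator_mem_commutator h1 (Subgroup.mem_top g)
    rw [hcl, Subgroup.mem_bot, commutatorElement_eq_one_iff_mul_comm] at h2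
    exact h2.symm
  -- squares are central
  have hsq : ∀ x : G, x ^ 2 ∈ Subgroup.center G := by
    intro x
    refine Subgroup.mem_center_iff.mpr fun g => ?_
    have hc : ∀ z, Commute ⁅x, g⁆ z := fun z =>
      (Subgroup.mem_center_iff.mp (hc2 x g) z).symm
    have e : x * g = g * x * ⁅x⁻¹, g⁻¹⁆ := by group
    have hc' : ∀ z, Commute ⁅x⁻¹, g⁻¹⁆ z := fun z =>
      (Subgroup.mem_center_iff.mp (hc2 _ _) z).symm
    have h2 := Cfsg.Agent.Coprime23.pow_mul_eq_of_central e (hc' x) (hc' g) 2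
    have h6 : ⁅x⁻¹, g⁻¹⁆ ^ 6 = 1 := by
      have h4 := Cfsg.Agent.Coprime23.mul_pow_of_central e (hc' x) (hc' g) 4
      rw [hexp, hexp, hexp, one_mul, one_mul] at h4
      exact h4.symm
    have h4' := hexp ⁅x⁻¹, g⁻¹⁆
    have h22 : ⁅x⁻¹, g⁻¹⁆ ^ 2 = 1 := by
      rw [show 6 = 4 + 2 from rfl, pow_add, h4', one_mul] at h6
      exact h6
    rw [h22, mul_one] at h2
    exact h2.symm
  let N : Subgroup G :=
    { carrier := {x | x ^ 2 = 1}
      one_mem' := one_pow 2
      mul_mem' := fun {a b} ha hb => hN a b ha hb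
      inv_mem' := fun {a} ha => by
        show a⁻¹ ^ 2 = 1
        rw [inv_pow, show a ^ 2 = 1 from ha, inv_one] }
  set K : Subgroup G := Subgroup.closure (Set.range fun x : G => x ^ 2) with hK
  have hKsq : ∀ x : G, x ^ 2 ∈ K := fun x => Subgroup.subset_closure ⟨x, rfl⟩
  have hKZ : K ≤ Subgroup.center G := (Subgroup.closure_le _).mpr (by
    rintro _ ⟨x, rfl⟩
    exact hsq x)
  have hKN : K ≤ N := (Subgroup.closure_le _).mpr (by
    rintro _ ⟨x, rfl⟩
    show (x ^ 2) ^ 2 = 1
    rw [← pow_mul]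
    exact hexp x)
  haveI : IsMulCommutative K := ⟨⟨fun a b => Subtype.ext
    (Subgroup.mem_center_iff.mp (hKZ b.2) a)⟩⟩
  have hNcard : Nat.card {x : G // x ^ 2 = 1} = Nat.card N := rfl
  rw [hNcard]
  have main := counting (G := G) hG K hKZ (fun k hk => hKN hk) hKsq
  rw [hNcard] at main
  have hkn : Nat.card K ≤ Nat.card N := Subgroup.card_le_of_le hKN
  have hkz : Nat.card K ≤ Nat.card (Subgroup.center G) := Subgroup.card_le_of_le hKZ
  have hle : Nat.card G ≤ Nat.card K * Nat.card N ^ 2 := by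
    refine Nat.le_of_mul_le_mul_right ?_ (Nat.card_pos (α := Subgroup.center G))
    refine main.trans ?_
    rw [show (Nat.card K * Nat.card N) ^ 2 = Nat.card K * Nat.card N ^ 2 * Nat.card K by ring]
    exact Nat.mul_le_mul_left _ hkz
  have hn0 : 0 < Nat.card N := Nat.card_pos
  have hk0 : 0 < Nat.card K := Nat.card_pos
  refine ⟨hle.trans ?_, fun hns => ?_⟩
  · rw [pow_succ' (Nat.card N) 2]
    exact Nat.mul_le_mul_right _ hkn
  by_cases hKN' : K = N
  swap
  · have : Nat.card K < Nat.card N := Cfsg.Agent.Basics.card_lt_of_lt (lt_of_le_of_ne hKN hKN')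
    refine lt_of_le_of_lt hle ?_
    rw [pow_succ' (Nat.card N) 2]
    exact Nat.mul_lt_mul_of_pos_right this (pow_pos hn0 2)
  have hkn' : Nat.card K = Nat.card N := by rw [hKN']
  by_cases hZ : Subgroup.center G = K
  swap
  · have hlt : Nat.card K < Nat.card (Subgroup.center G) :=
      Cfsg.Agent.Basics.card_lt_of_lt (lt_of_le_of_ne hKZ (Ne.symm hZ))
    refine Nat.lt_of_mul_lt_mul_right (a := Nat.card (Subgroup.center G)) ?_
    refine lt_of_le_of_lt main ?_
    rw [hkn', show (Nat.card N * Nat.card N) ^ 2 = Nat.card N ^ 3 * Nat.card N by ring]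
    exact Nat.mul_lt_mul_of_pos_left (hkn' ▸ hlt) (pow_pos hn0 3)
  haveI := hG.isNilpotent
  have hcK : commutator G ≤ K := by
    rw [commutator_def, Subgroup.commutator_le]
    intro a _ b _
    have e : ⁅a, b⁆ = a ^ 2 * (a⁻¹ * b) ^ 2 * (b⁻¹) ^ 2 := by
      rw [pow_two, pow_two, pow_two]
      group
    rw [e]
    exact mul_mem (mul_mem (hKsq _) (hKsq _)) (hKsq _)
  have hfr : frattini G = K := by
    refine le_antisymm ?_ ((Subgroup.closure_le _).mpr ?_)
    · exact (Cfsg.Agent.LocalEvenA.frattini_le_commutator_sup_pow (p := 2)).trans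
        (sup_le hcK le_rfl)
    · rintro _ ⟨x, rfl⟩
      exact Cfsg.Agent.Basics.pow_mem_frattini hG x
  have hcne : commutator G ≠ K := fun h =>
    hns ⟨hG, hfr.trans hZ.symm, h.trans hZ.symm⟩
  -- a hyperplane of `K` containing the commutators
  obtain ⟨k₁, hk₁, hk₁c⟩ := SetLike.exists_of_lt (lt_of_le_of_ne hcK hcne)
  letI : CommGroup K := { (inferInstance : Group K) with
    mul_comm := fun a b => Subtype.ext (Subgroup.mem_center_iff.mp (hKZ b.2) a) }
  set C : Subgroup K := (commutator G).subgroupOf K with hC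
  haveI : HasEnoughRootsOfUnity ℤ (Monoid.exponent (K ⧸ C)) := enough (by
    refine Monoid.exponent_dvd_of_forall_pow_eq_one fun y => ?_
    obtain ⟨y, rfl⟩ := QuotientGroup.mk_surjective y
    rw [← QuotientGroup.mk_pow, show y ^ 2 = 1 from Subtype.ext (hKN y.2), QuotientGroup.mk_one])
  obtain ⟨lam, hlam⟩ := CommGroup.exists_apply_ne_one_of_hasEnoughRootsOfUnity (K ⧸ C) ℤ
    (a := QuotientGroup.mk' C ⟨k₁, hk₁⟩) (by
      rw [QuotientGroup.mk'_apply, Ne, QuotientGroup.eq_one_iff]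
      exact hk₁c)
  set μ : K →* ℤˣ := lam.comp (QuotientGroup.mk' C) with hμ
  have hμc : ∀ a b : G, μ ⟨⁅a, b⁆, hcK (Subgroup.commutator_mem_commutator (Subgroup.mem_top a)
      (Subgroup.mem_top b))⟩ = 1 := by
    intro a b
    have h1 : QuotientGroup.mk' C (⟨⁅a, b⁆, hcK (Subgroup.commutator_mem_commutator
        (Subgroup.mem_top a) (Subgroup.mem_top b))⟩ : K) = 1 :=
      (QuotientGroup.eq_one_iff _).mpr
        (Subgroup.commutator_mem_commutator (Subgroup.mem_top a) (Subgroup.mem_top b))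
    rw [hμ, MonoidHom.comp_apply, h1, map_one]
  let ν : G →* ℤˣ :=
    { toFun := fun x => μ ⟨x ^ 2, hKsq x⟩
      map_one' := by
        rw [← map_one μ]
        congr 1
        exact Subtype.ext (one_pow 2)
      map_mul' := fun x y => by
        rw [← map_mul, ← mul_one (μ (⟨x ^ 2, hKsq x⟩ * ⟨y ^ 2, hKsq y⟩)), ← hμc y x, ← map_mul]
        congr 1
        apply Subtype.ext
        show (x * y) ^ 2 = x ^ 2 * y ^ 2 * ⁅y, x⁆
        have h := Subgroup.mem_center_iff.mp (hc2 y x)
        calc (x * y) ^ 2 = x * (⁅y, x⁆ * (x * y)) * y := by rw [pow_two]; group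
          _ = x * ((x * y) * ⁅y, x⁆) * y := by rw [h]
          _ = x * x * y * (⁅y, x⁆ * y) := by group
          _ = x * x * y * (y * ⁅y, x⁆) := by rw [← h y]
          _ = x ^ 2 * y ^ 2 * ⁅y, x⁆ := by rw [pow_two, pow_two]; group }
  set G₀ := ν.ker with hG₀
  have hidx : G₀.index ≤ 2 := by
    rw [hG₀, Subgroup.index_ker]
    exact (Subgroup.card_le_card_group _).trans (by simp)
  have hZG₀ : K ≤ G₀ := fun z hz => by
    show μ ⟨z ^ 2, hKsq z⟩ = 1
    rw [← map_one μ]
    congr 1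
    exact Subtype.ext (hKN hz)
  set K₀ : Subgroup G₀ := (μ.ker.map K.subtype).subgroupOf G₀ with hK₀
  have hμK : μ.ker.map K.subtype ≤ K := Subgroup.map_subtype_le _
  have h₁ := counting (G := G₀) (hG.to_subgroup G₀) K₀ (fun z hz => Subgroup.mem_center_iff.mpr
      fun g => Subtype.ext (Subgroup.mem_center_iff.mp (hKZ (hμK hz)) (g : G)))
    (fun z hz => Subtype.ext (hKN (hμK hz)))
    (fun x => ⟨⟨(x : G) ^ 2, hKsq _⟩, x.2, rfl⟩)
  have hk₀ : 2 * Nat.card K₀ ≤ Nat.card K := by
    rw [hK₀, Cfsg.Agent.Basics.card_subgroupOf (hμK.trans hZG₀),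
      Subgroup.card_map_of_injective K.subtype_injective, ← μ.ker.index_mul_card]
    refine Nat.mul_le_mul_right _ ?_
    rw [Nat.two_le_iff]
    refine ⟨Subgroup.index_ne_zero_of_finite, fun h => hlam ?_⟩
    exact (Subgroup.index_eq_one.mp h ▸ Subgroup.mem_top (⟨k₁, hk₁⟩ : K) : _ ∈ μ.ker)
  have hn₀ : Nat.card {x : G₀ // x ^ 2 = 1} ≤ Nat.card N :=
    Nat.card_le_card_of_injective (fun x => (⟨(x.1 : G), congrArg Subtype.val x.2⟩ : N))
      fun x y h => Subtype.ext (Subtype.ext (congrArg (fun n : N => (n : G)) h))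
  have hz₀ : Nat.card K ≤ Nat.card (Subgroup.center G₀) := by
    rw [← Cfsg.Agent.Basics.card_subgroupOf hZG₀]
    exact Subgroup.card_le_of_le fun z hz => Subgroup.mem_center_iff.mpr
      fun g => Subtype.ext (Subgroup.mem_center_iff.mp (hKZ hz) (g : G))
  have hG₀card : Nat.card G ≤ 2 * Nat.card G₀ := by
    rw [← G₀.index_mul_card]
    exact Nat.mul_le_mul_right _ hidx
  -- arithmetic
  have hb : 4 * (Nat.card G₀ * Nat.card N) ≤ Nat.card N ^ 4 := by
    have h2 : Nat.card G₀ * Nat.card N ≤ (Nat.card K₀ * Nat.card N) ^ 2 := by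
      refine le_trans ?_ (h₁.trans ?_)
      · exact Nat.mul_le_mul_left _ (hkn' ▸ hz₀)
      · exact Nat.pow_le_pow_left (Nat.mul_le_mul_left _ hn₀) 2
    calc 4 * (Nat.card G₀ * Nat.card N) ≤ 4 * (Nat.card K₀ * Nat.card N) ^ 2 :=
          Nat.mul_le_mul_left _ h2
      _ = (2 * Nat.card K₀ * Nat.card N) ^ 2 := by ring
      _ ≤ (Nat.card N * Nat.card N) ^ 2 :=
          Nat.pow_le_pow_left (Nat.mul_le_mul_right _ (hkn' ▸ hk₀)) 2
      _ = Nat.card N ^ 4 := by ring
  have hb' : 4 * Nat.card G₀ ≤ Nat.card N ^ 3 :=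
    Nat.le_of_mul_le_mul_right (c := Nat.card N) (by rw [mul_assoc, ← pow_succ]; exact hb) hn0
  have hG₀pos : 0 < Nat.card G₀ := Nat.card_pos
  omega

end Cfsg.Agent.S3773
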