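import Cfsg.Statements.S3774
-- import your own Cfsg.Agent.* helpers here

set_option autoImplicit false
open Cfsg

namespace Cfsg.Agent.S3774

open Subgroup

/-- Let G be a nontrivial finite 2-group whose automorphism group permutes the involutions of G transitively. Then every involution of G is central, so that the involutions together with 1 form the subgroup Ω₁(Z(G)), and if this subgroup has order q then |G| is a power of q. -/
theorem result {G : Type*} [Group G] [Finite G] [Nontrivial G] (hG : IsPGroup 2 G) (htrans : ∀ x y : G, x ≠ 1 → x ^ 2 = 1 → y ≠ 1 → y ^ 2 = 1 → ∃ a : MulAut G, a x = y) : (∀ x : G, x ^ 2 = 1 → x ∈ Subgroup.center G) ∧ ∃ m : ℕ, Nat.card G = Nat.card {z : G // z ^ 2 = 1} ^ m := by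
  classical
  haveI : Fact (Nat.Prime 2) := ⟨Nat.prime_two⟩
  haveI : Fintype G := Fintype.ofFinite G
  have hcent : ∀ x : G, x ^ 2 = 1 → x ∈ center G := by
    haveI := hG.center_nontrivial
    obtain ⟨k, hk0, hk⟩ := (hG.to_subgroup (center G)).nontrivial_iff_card.1 inferInstance
    obtain ⟨⟨c, hc⟩, hc2⟩ := exists_prime_orderOf_dvd_card' 2 (G := center G)
      (hk ▸ dvd_pow_self 2 (by omega))
    intro x hx
    by_cases hx1 : x = 1
    · rw [hx1]; exact one_mem _
    have hco : orderOf c = 2 := by rw [← hc2]; exact orderOf_mk c hc ▸ rfl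
    have hc1 : c ≠ 1 := fun h => by rw [h, orderOf_one] at hco; omega
    obtain ⟨α, hα⟩ := htrans c x hc1 (hco ▸ pow_orderOf_eq_one c) hx1 hx
    rw [← hα]
    have := (characteristic_iff_map_le.1 (centerCharacteristic (G := G))) α
    exact this ⟨c, hc, rfl⟩
  refine ⟨hcent, ?_⟩
  let Ω : Subgroup G :=
    { carrier := {z | z ^ 2 = 1}
      one_mem' := one_pow 2
      mul_mem' := fun {u v} (hu : u ^ 2 = 1) (hv : v ^ 2 = 1) => show (u * v) ^ 2 = 1 by
        rw [(show Commute u v from (mem_center_iff.1 (hcent u hu) v).symm).mul_pow, hu, hv, one_mul]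
      inv_mem' := fun {u} (hu : u ^ 2 = 1) => show u⁻¹ ^ 2 = 1 by rw [inv_pow, hu, inv_one] }
  have hΩ : Nat.card {z : G // z ^ 2 = 1} = Nat.card Ω := rfl
  obtain ⟨g, hg⟩ := IsPGroup.iff_card.1 hG
  obtain ⟨e, he⟩ := IsPGroup.iff_card.1 (hG.to_subgroup Ω)
  -- the involution of a non-trivial cyclic subgroup
  let π : G → G := fun x => x ^ (orderOf x / 2)
  let S : Finset G := Finset.univ.filter fun x => x ≠ 1
  let T : Finset G := Finset.univ.filter fun z => z ^ 2 = 1 ∧ z ≠ 1
  have hdiv : ∀ x ∈ S, 2 ∣ orderOf x := by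
    intro x hx
    obtain ⟨j, hj⟩ := IsPGroup.iff_orderOf.1 hG x
    rcases j with _ | j
    · rw [pow_zero, orderOf_eq_one_iff] at hj
      exact absurd hj (Finset.mem_filter.1 hx).2
    · rw [hj]; exact dvd_pow_self 2 (by omega)
  have hπ : ∀ x ∈ S, π x ∈ T := by
    intro x hx
    have h1 : orderOf (π x) = 2 := orderOf_pow_orderOf_div (orderOf_pos x).ne' (hdiv x hx)
    exact Finset.mem_filter.2 ⟨Finset.mem_univ _, h1 ▸ pow_orderOf_eq_one _, fun h => by
      rw [h, orderOf_one] at h1; omega⟩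
  have hTne : T.Nonempty := by
    obtain ⟨x, hx⟩ := exists_ne (1 : G)
    exact ⟨_, hπ x (Finset.mem_filter.2 ⟨Finset.mem_univ _, hx⟩)⟩
  obtain ⟨z0, hz0⟩ := hTne
  have hfib : ∀ z ∈ T, (S.filter fun x => π x = z).card = (S.filter fun x => π x = z0).card := by
    intro z hz
    obtain ⟨-, hz2, hz1⟩ := Finset.mem_filter.1 hz
    obtain ⟨-, hw2, hw1⟩ := Finset.mem_filter.1 hz0
    obtain ⟨α, hα⟩ := htrans z z0 hz1 hz2 hw1 hw2
    refine Finset.card_equiv α.toEquiv fun x => ?_
    simp only [Finset.mem_filter, S, Finset.mem_univ, true_and, π, MulEquiv.toEquiv_eq_coe,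
      MulEquiv.coe_toEquiv, ← hα]
    rw [MulEquiv.orderOf_eq, ← map_pow, α.injective.eq_iff, ne_eq, ne_eq, map_eq_one_iff _ α.injective]
  have hsum : S.card = T.card * (S.filter fun x => π x = z0).card := by
    rw [Finset.card_eq_sum_card_fiberwise hπ, Finset.sum_congr rfl hfib, Finset.sum_const, smul_eq_mul]
  have hS : S.card = 2 ^ g - 1 := by
    have : S = Finset.univ.erase 1 := by ext; simp [S]
    rw [this, Finset.card_erase_of_mem (Finset.mem_univ _), Finset.card_univ, Fintype.card_eq_nat_card, hg]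
  have hT : T.card = 2 ^ e - 1 := by
    have : T = (Finset.univ.filter fun z : G => z ^ 2 = 1).erase 1 := by
      ext; simp [T, and_comm]
    rw [this, Finset.card_erase_of_mem (by simp), ← Fintype.card_subtype, Fintype.card_eq_nat_card,
      hΩ, he]
  rw [hS, hT] at hsum
  have hdvd : 2 ^ e - 1 ∣ 2 ^ g - 1 := ⟨_, hsum⟩
  have he1 : 1 ≤ e := by
    rcases Nat.eq_zero_or_pos e with rfl | h
    · obtain ⟨-, hw2, hw1⟩ := Finset.mem_filter.1 hz0
      rw [pow_zero, Subgroup.card_eq_one] at he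
      have hw : z0 ∈ Ω := hw2
      rw [he, mem_bot] at hw
      exact absurd hw hw1
    · exact h
  have heg : e ∣ g := by
    have hgcd := Nat.pow_sub_one_gcd_pow_sub_one 2 e g
    rw [Nat.gcd_eq_left hdvd] at hgcd
    have hpos : 1 ≤ 2 ^ e := Nat.one_le_two_pow
    have hpos' : 1 ≤ 2 ^ Nat.gcd e g := Nat.one_le_two_pow
    have h2 : e = Nat.gcd e g := Nat.pow_right_injective le_rfl (show 2 ^ e = 2 ^ Nat.gcd e g by omega)
    rw [h2]
    exact Nat.gcd_dvd_right e g
  obtain ⟨m, rfl⟩ := heg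
  exact ⟨m, by rw [hg, hΩ, he, ← pow_mul]⟩

end Cfsg.Agent.S3774
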