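import Cfsg.Statements.S3775
import Cfsg.Agent.Lib.Basics.Tools

set_option autoImplicit false
open Cfsg

namespace Cfsg.Agent.S3775

/-- Invariance under a group of automorphisms. -/
def Inv {A : Type*} [CommGroup A] (X : Subgroup (MulAut A)) (B : Subgroup A) : Prop :=
  ∀ x ∈ X, B.map x.toMonoidHom = B

theorem Inv.mem {A : Type*} [CommGroup A] {X : Subgroup (MulAut A)} {B : Subgroup A}
    (h : Inv X B) {x : MulAut A} (hx : x ∈ X) {b : A} (hb : b ∈ B) : x b ∈ B := by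
  rw [← h x hx]
  exact ⟨b, hb, rfl⟩

theorem inv_of_mem {A : Type*} [CommGroup A] {X : Subgroup (MulAut A)} {B : Subgroup A}
    (h : ∀ x ∈ X, ∀ b ∈ B, x b ∈ B) : Inv X B := by
  intro x hx
  refine le_antisymm (Subgroup.map_le_iff_le_comap.mpr fun b hb => h x hx b hb) fun b hb => ?_
  refine ⟨x⁻¹ b, h x⁻¹ (inv_mem hx) b hb, ?_⟩
  show x (x⁻¹ b) = b
  rw [MulAut.apply_inv_self]

theorem Inv.inf {A : Type*} [CommGroup A] {X : Subgroup (MulAut A)} {B C : Subgroup A}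
    (hB : Inv X B) (hC : Inv X C) : Inv X (B ⊓ C) :=
  inv_of_mem fun _ hx _ hb => ⟨hB.mem hx hb.1, hC.mem hx hb.2⟩

theorem Inv.sup {A : Type*} [CommGroup A] {X : Subgroup (MulAut A)} {B C : Subgroup A}
    (hB : Inv X B) (hC : Inv X C) : Inv X (B ⊔ C) := fun x hx => by
  rw [Subgroup.map_sup, hB x hx, hC x hx]

theorem inv_range_pow {A : Type*} [CommGroup A] {X : Subgroup (MulAut A)} {B : Subgroup A}
    (hB : Inv X B) (n : ℕ) : Inv X (B.map (powMonoidHom n)) :=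
  inv_of_mem fun x hx _ hb => by
    obtain ⟨c, hc, rfl⟩ := hb
    exact ⟨x c, hB.mem hx hc, (map_pow x c n).symm⟩

/-- Maschke for elementary abelian sections. -/
theorem exists_inv_complement {A : Type*} [CommGroup A] [Finite A] {p : ℕ} [Fact p.Prime]
    {X : Subgroup (MulAut A)} (hX : (Nat.card X).Coprime p) {E U V : Subgroup A}
    (hE : Inv X E) (hU : Inv X U) (hV : Inv X V) (hEU : E ≤ U) (hUV : U ≤ V)
    (hexp : ∀ v ∈ V, v ^ p ∈ E) :
    ∃ W : Subgroup A, Inv X W ∧ E ≤ W ∧ W ≤ V ∧ W ⊓ U = E ∧ W ⊔ U = V := by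
  classical
  haveI : Fintype X := Fintype.ofFinite X
  have hp : p.Prime := Fact.out
  obtain ⟨W₀, hEW, ⟨hW0V, hW0U⟩, hmax⟩ := Finite.exists_le_maximal
    (p := fun W : Subgroup A => W ≤ V ∧ W ⊓ U = E) (a := E)
    ⟨hEU.trans hUV, inf_eq_left.mpr hEU⟩
  have hsplit : ∀ v ∈ V, ∃ u ∈ U, u⁻¹ * v ∈ W₀ := by
    intro v hv
    by_contra hc
    push_neg at hc
    have h := hmax (y := W₀ ⊔ Subgroup.zpowers v)
      ⟨sup_le hW0V (Subgroup.zpowers_le.mpr hv), le_antisymm ?_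
        (le_inf (hEW.trans le_sup_left) hEU)⟩ le_sup_left
    · exact hc 1 (one_mem U) (by
        rw [inv_one, one_mul]
        exact h (Subgroup.mem_sup_right (Subgroup.mem_zpowers v)))
    · rintro u ⟨hu1, hu2⟩
      obtain ⟨w, hw, z, hz, rfl⟩ := Subgroup.mem_sup.mp hu1
      obtain ⟨k, rfl⟩ := Subgroup.mem_zpowers_iff.mp hz
      by_cases hk : (p : ℤ) ∣ k
      · obtain ⟨j, rfl⟩ := hk
        have hvk : v ^ ((p : ℤ) * j) ∈ E := by
          rw [zpow_mul, zpow_natCast]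
          exact zpow_mem (hexp v hv) j
        rw [← hW0U]
        exact ⟨mul_mem hw (hEW hvk), hu2⟩
      · exfalso
        obtain ⟨a, b, hab⟩ := ((Nat.prime_iff_prime_int.mp hp).coprime_iff_not_dvd.mpr hk)
        apply hc ((w * v ^ k) ^ b) (U.zpow_mem hu2 b)
        have hvp : v ^ (a * (p : ℤ)) ∈ W₀ := by
          rw [mul_comm, zpow_mul, zpow_natCast]
          exact hEW (zpow_mem (hexp v hv) a)
        have hvdec : v = v ^ (a * (p : ℤ)) * (v ^ k) ^ b := by
          rw [← zpow_mul, ← zpow_add, mul_comm k b, hab, zpow_one]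
        have e : ((w * v ^ k) ^ b)⁻¹ * v = v ^ (a * (p : ℤ)) * (w ^ b)⁻¹ :=
          calc ((w * v ^ k) ^ b)⁻¹ * v
              = (w ^ b)⁻¹ * ((v ^ k) ^ b)⁻¹ * (v ^ (a * (p : ℤ)) * (v ^ k) ^ b) := by
                rw [← hvdec, mul_zpow, mul_inv]
            _ = v ^ (a * (p : ℤ)) * (w ^ b)⁻¹ := by
                rw [mul_mul_mul_comm, inv_mul_cancel, mul_one, mul_comm]
        rw [e]
        exact mul_mem hvp (inv_mem (zpow_mem hw b))
  choose! f hfU hfW using hsplit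
  -- `f` is determined modulo `E`
  have huniq : ∀ v ∈ V, ∀ u ∈ U, u⁻¹ * v ∈ W₀ → u⁻¹ * f v ∈ E := by
    intro v hv u hu huv
    rw [← hW0U]
    refine Subgroup.mem_inf.mpr ⟨?_, mul_mem (inv_mem hu) (hfU v hv)⟩
    have h := mul_mem huv (inv_mem (hfW v hv))
    rwa [mul_inv, inv_inv, mul_mul_mul_comm, mul_inv_cancel, mul_one] at h
  let F : A → A := fun v => ∏ x : X, (x : MulAut A) (f ((x : MulAut A)⁻¹ v))
  have hxV : ∀ x : X, ∀ v ∈ V, (x : MulAut A)⁻¹ v ∈ V := fun x v hv => hV.mem (inv_mem x.2) hv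
  have hFU : ∀ v ∈ V, F v ∈ U := fun v hv =>
    prod_mem fun x _ => hU.mem x.2 (hfU _ (hxV x v hv))
  let q := QuotientGroup.mk' E
  have hq : ∀ a b : A, q a = q b ↔ a⁻¹ * b ∈ E := fun a b => QuotientGroup.eq
  have hqf : ∀ v ∈ V, ∀ u ∈ U, u⁻¹ * v ∈ W₀ → ∀ x : X,
      q ((x : MulAut A) (f v)) = q ((x : MulAut A) u) := fun v hv u hu huv x => by
    rw [eq_comm, hq, ← map_inv, ← map_mul]
    exact hE.mem x.2 (huniq v hv u hu huv)
  have hFmul : ∀ v ∈ V, ∀ w ∈ V, q (F (v * w)) = q (F v) * q (F w) := by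
    intro v hv w hw
    simp only [F, map_prod, ← Finset.prod_mul_distrib]
    refine Finset.prod_congr rfl fun x _ => ?_
    rw [← map_mul q, ← map_mul, map_mul ((x : MulAut A)⁻¹)]
    refine hqf _ (mul_mem (hxV x v hv) (hxV x w hw)) _
      (mul_mem (hfU _ (hxV x v hv)) (hfU _ (hxV x w hw))) ?_ x
    rw [mul_inv, mul_mul_mul_comm]
    exact mul_mem (hfW _ (hxV x v hv)) (hfW _ (hxV x w hw))
  have hFfix : ∀ u ∈ U, q (F u) = q (u ^ Nat.card X) := by
    intro u hu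
    simp only [F, map_prod, map_pow]
    rw [Nat.card_eq_fintype_card, Fintype.card, ← Finset.prod_const]
    refine Finset.prod_congr rfl fun x _ => ?_
    rw [hqf _ (hUV (hU.mem (inv_mem x.2) hu)) _ (hU.mem (inv_mem x.2) hu)
      (by rw [inv_mul_cancel]; exact one_mem _) x, MulAut.apply_inv_self]
  have hFeq : ∀ v : A, ∀ y : X, (y : MulAut A) (F v) = F ((y : MulAut A) v) := by
    intro v y
    simp only [F, map_prod]
    refine Fintype.prod_equiv (Equiv.mulLeft y) _ _ fun x => ?_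
    show (y : MulAut A) ((x : MulAut A) (f ((x : MulAut A)⁻¹ v))) =
      ((y * x : X) : MulAut A) (f (((y * x : X) : MulAut A)⁻¹ ((y : MulAut A) v)))
    rw [Subgroup.coe_mul, mul_inv_rev, MulAut.mul_apply, MulAut.mul_apply, MulAut.inv_apply_self]
  let W : Subgroup A :=
    { carrier := {v | v ∈ V ∧ q (F v) = 1}
      one_mem' := ⟨one_mem V, by
        rw [hFfix 1 (one_mem U), one_pow, map_one]⟩
      mul_mem' := fun {v w} hv hw => ⟨mul_mem hv.1 hw.1, by
        rw [hFmul v hv.1 w hw.1, hv.2, hw.2, one_mul]⟩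
      inv_mem' := fun {v} hv => ⟨inv_mem hv.1, by
        have h := hFmul v⁻¹ (inv_mem hv.1) v hv.1
        rw [inv_mul_cancel, hFfix 1 (one_mem U), one_pow, map_one, hv.2, mul_one] at h
        exact h.symm⟩ }
  have hEW' : E ≤ W := fun a ha => ⟨hUV (hEU ha), by
    rw [hFfix a (hEU ha)]
    exact (QuotientGroup.eq_one_iff _).mpr (pow_mem ha _)⟩
  refine ⟨W, inv_of_mem fun y hy v hv => ⟨hV.mem hy hv.1, ?_⟩, hEW', fun v hv => hv.1,
    le_antisymm ?_ (le_inf hEW' hEU), le_antisymm (sup_le (fun v hv => hv.1) hUV) ?_⟩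
  · rw [← hFeq v ⟨y, hy⟩]
    exact (QuotientGroup.eq_one_iff _).mpr (hE.mem hy ((QuotientGroup.eq_one_iff _).mp hv.2))
  · rintro u ⟨hu1, hu2⟩
    have h := hu1.2
    rw [hFfix u hu2] at h
    have h1 : u ^ Nat.card X ∈ E := (QuotientGroup.eq_one_iff _).mp h
    have h2 : (u : A) ^ p ∈ E := hexp u (hUV hu2)
    rw [← QuotientGroup.eq_one_iff, ← orderOf_eq_one_iff]
    exact Nat.eq_one_of_dvd_coprimes hX
      (orderOf_dvd_of_pow_eq_one (by rw [← QuotientGroup.mk_pow, QuotientGroup.eq_one_iff]; exact h1))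
      (orderOf_dvd_of_pow_eq_one (by rw [← QuotientGroup.mk_pow, QuotientGroup.eq_one_iff]; exact h2))
  · intro v hv
    obtain ⟨m, -, hm⟩ := Nat.exists_mul_mod_eq_one_of_coprime hX hp.one_lt
    have hu : F v ^ m ∈ U := pow_mem (hFU v hv) m
    rw [← inv_mul_cancel_right v (F v ^ m), mul_comm (v * (F v ^ m)⁻¹)]
    rw [mul_comm (F v ^ m)]
    refine Subgroup.mul_mem_sup ⟨mul_mem hv (inv_mem (hUV hu)), ?_⟩ hu
    rw [hFmul v hv _ (inv_mem (hUV hu)), hFfix _ (inv_mem hu), inv_pow, map_inv, ← pow_mul]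
    rw [mul_inv_eq_one, eq_comm]
    have hE1 : (q (F v)) ^ p = 1 := by
      rw [← map_pow]
      exact (QuotientGroup.eq_one_iff _).mpr (hexp _ (hUV (hFU v hv)))
    rw [map_pow, mul_comm m, ← Nat.div_add_mod (Nat.card X * m) p, pow_add, pow_mul, hE1,
      one_pow, one_mul, hm, pow_one]

/-- Irreducibility of `Ω₁` forces every invariant subgroup to be some `Ω_i`. -/
theorem all_omega {A : Type*} [CommGroup A] [Finite A] {p : ℕ} [Fact p.Prime] (hA : IsPGroup p A)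
    (X : Subgroup (MulAut A))
    (hirr : ∀ B : Subgroup A, (∀ x ∈ X, B.map x.toMonoidHom = B) → (∀ b ∈ B, b ^ p = 1) →
      B = ⊥ ∨ ∀ a : A, a ∈ B ↔ a ^ p = 1) :
    ∀ B : Subgroup A, (∀ x ∈ X, B.map x.toMonoidHom = B) →
      ∃ i : ℕ, ∀ a : A, a ∈ B ↔ a ^ p ^ i = 1 := by
  have main : ∀ (n : ℕ) (B : Subgroup A), Inv X B → (∀ b ∈ B, b ^ p ^ n = 1) →
      ∃ i : ℕ, ∀ a : A, a ∈ B ↔ a ^ p ^ i = 1 := by
    intro n
    induction n with
    | zero =>
      intro B _ hb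
      refine ⟨0, fun a => ⟨fun ha => hb a ha, fun ha => ?_⟩⟩
      rw [pow_zero, pow_one] at ha
      exact ha ▸ one_mem B
    | succ n ih =>
      intro B hB hb
      by_cases hB0 : B = ⊥
      · refine ⟨0, fun a => ?_⟩
        rw [hB0, Subgroup.mem_bot, pow_zero, pow_one]
      obtain ⟨i, hi⟩ := ih (B.map (powMonoidHom p)) (inv_range_pow hB p) (by
        rintro _ ⟨b, hbB, rfl⟩
        rw [powMonoidHom_apply, ← pow_mul, ← pow_succ']
        exact hb b hbB)
      have hΩ : ∀ a : A, a ^ p = 1 → a ∈ B := by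
        have hO : Inv X (B ⊓ (powMonoidHom p : A →* A).ker) :=
          hB.inf (inv_of_mem fun x _ b hb => by
            rw [MonoidHom.mem_ker, powMonoidHom_apply] at hb ⊢
            rw [← map_pow, hb, map_one])
        rcases hirr _ hO (fun b hb => hb.2) with h | h
        · exfalso
          obtain ⟨b, hbB, hb1⟩ := B.bot_or_exists_ne_one.resolve_left hB0
          obtain ⟨k, hk⟩ := hA b
          have hd : p ∣ Nat.card B := by
            obtain ⟨j, hj⟩ := IsPGroup.iff_card.mp (hA.to_subgroup B)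
            rw [hj]
            refine dvd_pow_self p fun h0 => hB0 ?_
            rw [← Subgroup.card_eq_one, hj, h0, pow_zero]
          obtain ⟨y, hy⟩ := exists_prime_orderOf_dvd_card' p hd
          have : (y : A) ∈ B ⊓ (powMonoidHom p : A →* A).ker := ⟨y.2, by
            show (y : A) ^ p = 1
            rw [← SubgroupClass.coe_pow, ← hy, pow_orderOf_eq_one, OneMemClass.coe_one]⟩
          rw [h, Subgroup.mem_bot] at this
          exact (Fact.out : p.Prime).ne_one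
            (by rw [← hy, show y = 1 from Subtype.ext this, orderOf_one])
        · exact fun a ha => ((h a).mpr ha).1
      refine ⟨i + 1, fun a => ⟨fun ha => ?_, fun ha => ?_⟩⟩
      · rw [pow_succ', pow_mul]
        exact (hi _).mp ⟨a, ha, rfl⟩
      · rw [pow_succ', pow_mul] at ha
        obtain ⟨b, hbB, hba⟩ := (hi _).mpr ha
        have h1 : (a * b⁻¹) ^ p = 1 := by
          rw [mul_pow, inv_pow, show b ^ p = a ^ p from hba, mul_inv_cancel]
        rw [← inv_mul_cancel_right a b]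
        exact mul_mem (hΩ _ h1) hbB
  intro B hB
  obtain ⟨n, hn⟩ := IsPGroup.iff_card.mp hA
  exact main n B hB fun b _ => by rw [← hn]; exact pow_card_eq_one'

/-- An indecomposable coprime action has irreducible `Ω₁`. -/
theorem omega_irr_of_indec {A : Type*} [CommGroup A] [Finite A] {p : ℕ} [Fact p.Prime]
    (hA : IsPGroup p A) (X : Subgroup (MulAut A)) (hX : (Nat.card X).Coprime p)
    (hindec : ¬ ∃ B C : Subgroup A, B ≠ ⊥ ∧ C ≠ ⊥ ∧ (∀ x ∈ X, B.map x.toMonoidHom = B) ∧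
      (∀ x ∈ X, C.map x.toMonoidHom = C) ∧ B ⊓ C = ⊥ ∧ B ⊔ C = ⊤) :
    ∀ B : Subgroup A, (∀ x ∈ X, B.map x.toMonoidHom = B) → (∀ b ∈ B, b ^ p = 1) →
      B = ⊥ ∨ ∀ a : A, a ∈ B ↔ a ^ p = 1 := by
  classical
  intro B hB hBp
  have hp : p.Prime := Fact.out
  refine or_iff_not_imp_left.mpr fun hB0 => ?_
  -- the exponent `p ^ (e + 1)`
  obtain ⟨n, hn⟩ := IsPGroup.iff_card.mp hA
  have hex : ∃ e : ℕ, ∀ a : A, a ^ p ^ e = 1 :=
    ⟨n, fun a => by rw [← hn]; exact pow_card_eq_one'⟩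
  set e₀ := Nat.find hex with he₀
  have he : ∀ a : A, a ^ p ^ e₀ = 1 := Nat.find_spec hex
  obtain ⟨e, hee⟩ : ∃ e, e₀ = e + 1 := by
    refine ⟨e₀ - 1, (Nat.succ_pred_eq_of_ne_zero fun h => hB0 ?_).symm⟩
    rw [eq_bot_iff]
    intro b _
    have := he b
    rw [h, pow_zero, pow_one] at this
    exact this
  obtain ⟨a₀, ha₀⟩ : ∃ a : A, a ^ p ^ e ≠ 1 := by
    by_contra hc
    push_neg at hc
    have := Nat.find_min' hex hc
    omega
  set π : A →* A := powMonoidHom (p ^ e) with hπ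
  have hTinv : Inv X (⊤ : Subgroup A) := inv_of_mem fun _ _ _ _ => Subgroup.mem_top _
  have hbinv : Inv X (⊥ : Subgroup A) := inv_of_mem fun x _ b hb => by
    rw [Subgroup.mem_bot] at hb ⊢
    rw [hb, map_one]
  -- a minimal invariant subgroup `S` of the last layer
  obtain ⟨S, ⟨hSinv, hSM, hS0⟩, hSmin⟩ := WellFounded.has_min (wellFounded_lt (α := Subgroup A))
    {S | Inv X S ∧ S ≤ (⊤ : Subgroup A).map π ∧ S ≠ ⊥}
    ⟨_, inv_range_pow hTinv _, le_rfl, fun h => ha₀ (Subgroup.mem_bot.mp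
      (h ▸ ⟨a₀, Subgroup.mem_top _, rfl⟩ : π a₀ ∈ (⊥ : Subgroup A)))⟩
  have hpre : Inv X (S.comap π) := inv_of_mem fun x hx b hb => by
    show (x b) ^ p ^ e ∈ S
    rw [← map_pow]
    exact hSinv.mem hx hb
  obtain ⟨D, ⟨hDinv, hDS, d₀, hd₀, hd₀'⟩, hDmin⟩ :=
    WellFounded.has_min (wellFounded_lt (α := Subgroup A))
    {D | Inv X D ∧ (∀ d ∈ D, d ^ p ^ e ∈ S) ∧ ∃ d ∈ D, d ^ p ^ e ≠ 1}
    ⟨S.comap π, hpre, fun d hd => hd, by
      obtain ⟨s, hs, hs1⟩ := S.bot_or_exists_ne_one.resolve_left hS0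
      obtain ⟨a, -, rfl⟩ := hSM hs
      exact ⟨a, hs, hs1⟩⟩
  set K := D ⊓ π.ker with hK
  have hKinv : Inv X K := hDinv.inf (inv_of_mem fun x _ b hb => by
    rw [MonoidHom.mem_ker] at hb ⊢
    show (x b) ^ p ^ e = 1
    rw [← map_pow, show b ^ p ^ e = 1 from hb, map_one])
  set Dp := D.map (powMonoidHom p) with hDp
  have hDpK : Dp ≤ K := by
    rintro _ ⟨d, hd, rfl⟩
    refine ⟨pow_mem hd p, ?_⟩
    show (d ^ p) ^ p ^ e = 1
    rw [← pow_mul, ← pow_succ', ← hee]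
    exact he d
  obtain ⟨W, hWinv, -, hWD, hWK, hWsup⟩ := exists_inv_complement hX (inv_range_pow hDinv p)
    hKinv hDinv hDpK inf_le_left (fun d hd => ⟨d, hd, rfl⟩)
  have hWeq : W = D := by
    have hWne : ∃ d ∈ W, d ^ p ^ e ≠ 1 := by
      by_contra hc
      push_neg at hc
      have : D ≤ K := by
        rw [← hWsup]
        exact sup_le (le_inf hWD fun w hw => hc w hw) le_rfl
      exact hd₀' (this hd₀).2
    by_contra hne
    exact hDmin W ⟨hWinv, fun d hd => hDS d (hWD hd), hWne⟩ (lt_of_le_of_ne hWD hne)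
  have hKDp : K = Dp := by
    rw [hWeq, inf_eq_right.mpr (inf_le_left : K ≤ D)] at hWK
    exact hWK
  -- every element of order `p` of `D` lies in `S`
  have hlayer : ∀ i : ℕ, i ≤ e → ∀ d ∈ D, d ^ p = 1 → ∃ d' ∈ D, d = d' ^ p ^ i := by
    intro i
    induction i with
    | zero => exact fun _ d hd _ => ⟨d, hd, by rw [pow_zero, pow_one]⟩
    | succ i ih =>
      intro hi d hd hdp
      obtain ⟨d', hd', rfl⟩ := ih (by omega) d hd hdp
      have h1 : d' ^ p ^ e = 1 := by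
        obtain ⟨j, hj⟩ := Nat.exists_eq_add_of_le hi
        rw [hj, pow_add, pow_mul, pow_succ, pow_mul, hdp, one_pow]
      have h2 : d' ∈ Dp := hKDp ▸ ⟨hd', h1⟩
      obtain ⟨d'', hd'', rfl⟩ := h2
      exact ⟨d'', hd'', by rw [powMonoidHom_apply, ← pow_mul, ← pow_succ']⟩
  have hDsoc : ∀ d ∈ D, d ^ p = 1 → d ∈ S := by
    intro d hd hdp
    obtain ⟨d', hd', rfl⟩ := hlayer e le_rfl d hd hdp
    exact hDS d' hd'
  -- an invariant complement of `D`
  obtain ⟨E, -, ⟨hEinv, hED⟩, hEmax⟩ := Finite.exists_le_maximal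
    (p := fun E : Subgroup A => Inv X E ∧ E ⊓ D = ⊥) (a := ⊥) ⟨hbinv, bot_inf_eq D⟩
  have htop : E ⊔ D = ⊤ := by
    rw [eq_top_iff]
    intro a _
    by_contra ha
    have hexj : ∃ j : ℕ, a ^ p ^ j ∈ E ⊔ D := ⟨e₀, by rw [he a]; exact one_mem _⟩
    obtain ⟨j, hj⟩ : ∃ j, Nat.find hexj = j + 1 := by
      refine ⟨Nat.find hexj - 1, (Nat.succ_pred_eq_of_ne_zero fun h => ha ?_).symm⟩
      have := Nat.find_spec hexj
      rwa [h, pow_zero, pow_one] at this
    have hb' : a ^ p ^ j ∉ E ⊔ D := Nat.find_min hexj (by omega)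
    have hbp : (a ^ p ^ j) ^ p ∈ E ⊔ D := by
      rw [← pow_mul, ← pow_succ, ← hj]
      exact Nat.find_spec hexj
    obtain ⟨c, hcE, d, hdD, hcd⟩ := Subgroup.mem_sup.mp hbp
    have hprod : c ^ p ^ e * d ^ p ^ e = 1 := by
      rw [← mul_pow, hcd, ← pow_mul, ← pow_succ', ← hee]
      exact he _
    have hd1 : d ^ p ^ e = 1 := by
      have hm : d ^ p ^ e ∈ E ⊓ D := Subgroup.mem_inf.mpr ⟨by
        rw [eq_inv_of_mul_eq_one_right hprod]
        exact inv_mem (pow_mem hcE _), pow_mem hdD _⟩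
      rwa [hED, Subgroup.mem_bot] at hm
    have hdDp : d ∈ Dp := hKDp ▸ ⟨hdD, hd1⟩
    obtain ⟨d₁, hd₁, rfl⟩ := hdDp
    set a' := a ^ p ^ j * d₁⁻¹ with ha'
    have ha'E : a' ^ p ∈ E := by
      rw [ha', mul_pow, ← hcd, powMonoidHom_apply, inv_pow, mul_inv_cancel_right]
      exact hcE
    have ha'n : a' ∉ E ⊔ D := fun h => hb' (by
      rw [show a ^ p ^ j = a' * d₁ by rw [ha', inv_mul_cancel_right]]
      exact mul_mem h (Subgroup.mem_sup_right hd₁))
    set V := E.comap (powMonoidHom p) with hV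
    have hVinv : Inv X V := inv_of_mem fun x hx b hb => by
      show (x b) ^ p ∈ E
      rw [← map_pow]
      exact hEinv.mem hx hb
    have hEV : E ≤ V := fun c hc => pow_mem hc p
    obtain ⟨W', hW'inv, hEW', hW'V, hW'U, hW'sup⟩ := exists_inv_complement hX hEinv
      (hVinv.inf (hEinv.sup hDinv)) hVinv (le_inf hEV le_sup_left) inf_le_left
      (fun v hv => hv)
    have hW'D : W' ⊓ D = ⊥ := by
      rw [eq_bot_iff]
      rintro v ⟨hv1, hv2⟩
      have : v ∈ E ⊓ D := ⟨hW'U ▸ ⟨hv1, hW'V hv1, Subgroup.mem_sup_right hv2⟩, hv2⟩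
      rwa [hED] at this
    apply ha'n
    have hWE : W' ≤ E := hEmax ⟨hW'inv, hW'D⟩ hEW'
    have hmem : a' ∈ W' ⊔ V ⊓ (E ⊔ D) := by
      rw [hW'sup]
      exact ha'E
    exact (sup_le (hWE.trans le_sup_left) inf_le_right) hmem
  have hD0 : D ≠ ⊥ := fun h => hd₀' (by
    rw [h, Subgroup.mem_bot] at hd₀
    rw [hd₀, one_pow])
  have hE0 : E = ⊥ := by
    by_contra hE0
    exact hindec ⟨E, D, hE0, hD0, hEinv, hDinv, hED, htop⟩
  rw [hE0, bot_sup_eq] at htop
  intro a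
  refine ⟨fun ha => hBp a ha, fun ha => ?_⟩
  have hBS : B ≤ S := fun b hb => hDsoc b (htop ▸ Subgroup.mem_top b) (hBp b hb)
  have hBeq : B = S := by
    by_contra hne
    exact hSmin B ⟨hB, hBS.trans hSM, hB0⟩ (lt_of_le_of_ne hBS hne)
  rw [hBeq]
  exact hDsoc a (htop ▸ Subgroup.mem_top a) ha

/-- Let A be a finite abelian p-group and X a group of automorphisms of A of order prime to p. Call a subgroup of A invariant when every element of X maps it onto itself. Then the following are equivalent: (i) A is not the direct product of two nontrivial invariant subgroups; (ii) every invariant subgroup of A is one of the subgroups Ω_i(A) = {a : a^(p^i) = 1}; (iii) the subgroup Ω₁(A) of elements of order dividing p has no invariant subgroups other than 1 and itself. -/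
theorem result {A : Type*} [CommGroup A] [Finite A] {p : ℕ} [Fact p.Prime] (hA : IsPGroup p A) (X : Subgroup (MulAut A)) (hX : (Nat.card X).Coprime p) : ((¬ ∃ B C : Subgroup A, B ≠ ⊥ ∧ C ≠ ⊥ ∧ (∀ x ∈ X, B.map x.toMonoidHom = B) ∧ (∀ x ∈ X, C.map x.toMonoidHom = C) ∧ B ⊓ C = ⊥ ∧ B ⊔ C = ⊤) ↔ (∀ B : Subgroup A, (∀ x ∈ X, B.map x.toMonoidHom = B) → ∃ i : ℕ, ∀ a : A, a ∈ B ↔ a ^ p ^ i = 1)) ∧ ((∀ B : Subgroup A, (∀ x ∈ X, B.map x.toMonoidHom = B) → ∃ i : ℕ, ∀ a : A, a ∈ B ↔ a ^ p ^ i = 1) ↔ (∀ B : Subgroup A, (∀ x ∈ X, B.map x.toMonoidHom = B) → (∀ b ∈ B, b ^ p = 1) → B = ⊥ ∨ ∀ a : A, a ∈ B ↔ a ^ p = 1)) := by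
  have hp : p.Prime := Fact.out
  refine ⟨⟨fun hindec => ?_, fun hall => ?_⟩, fun hall B hB hBp => ?_, fun hirr => ?_⟩
  · exact all_omega hA X (omega_irr_of_indec hA X hX hindec)
  · rintro ⟨B, C, hB0, hC0, hBinv, hCinv, hinf, -⟩
    obtain ⟨i, hi⟩ := hall B hBinv
    obtain ⟨j, hj⟩ := hall C hCinv
    rcases le_total i j with h | h
    · apply hB0
      rw [← hinf, eq_comm, inf_eq_left]
      intro b hb
      obtain ⟨d, rfl⟩ := Nat.exists_eq_add_of_le h
      rw [hj, pow_add, pow_mul, (hi b).mp hb, one_pow]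
    · apply hC0
      rw [← hinf, eq_comm, inf_eq_right]
      intro c hc
      obtain ⟨d, rfl⟩ := Nat.exists_eq_add_of_le h
      rw [hi, pow_add, pow_mul, (hj c).mp hc, one_pow]
  · obtain ⟨i, hi⟩ := hall B hB
    rcases i with _ | i
    · left
      rw [eq_bot_iff]
      intro b hb
      have := (hi b).mp hb
      rw [pow_zero, pow_one] at this
      exact this
    · right
      refine fun a => ⟨fun ha => hBp a ha, fun ha => ?_⟩
      rw [hi, pow_succ', pow_mul, ha, one_pow]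
  · exact all_omega hA X hirr

end Cfsg.Agent.S3775
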