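import Cfsg.Statements.S3778
import Cfsg.Agent.Lib.Basics.Tools

set_option autoImplicit false
open Cfsg
open scoped commutatorElement

namespace Cfsg.Agent.S3778

/-- If G is a finite p-group in which every conjugacy class has at most p^b elements (every element has centralizer of index at most p^b), then G is abelian when b = 0, and when b ≥ 1 its nilpotency class c satisfies (c − 1)(p − 1) < bp, that is c < bp/(p − 1) + 1, and hence c ≤ 2b. -/
theorem result {G : Type*} [Group G] [Finite G] {p : ℕ} [Fact p.Prime] (hG : IsPGroup p G) (b : ℕ) (hb : ∀ x : G, (Subgroup.centralizer ({x} : Set G)).index ≤ p ^ b) : ∃ c : ℕ, (⊤ : Subgroup G).lowerCentralSeries c = ⊥ ∧ (b ≠ 0 → (c - 1) * (p - 1) < b * p ∧ c ≤ 2 * b) ∧ (b = 0 → c ≤ 1) := by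
  classical
  have hp : p.Prime := Fact.out
  haveI : Group.IsNilpotent G := hG.isNilpotent
  obtain ⟨L, hL⟩ : ∃ L : ℕ → Subgroup G, ∀ i, L i = (⊤ : Subgroup G).lowerCentralSeries i :=
    ⟨fun i => (⊤ : Subgroup G).lowerCentralSeries i, fun i => rfl⟩
  have hex : ∃ c, L c = ⊥ := by
    obtain ⟨c, hc⟩ := (Subgroup.nilpotent_iff_lowerCentralSeries (G := G)).mp inferInstance
    exact ⟨c, (hL c).trans hc⟩
  obtain ⟨c, hcd⟩ : ∃ c, c = Nat.find hex := ⟨_, rfl⟩
  have hc : L c = ⊥ := hcd ▸ Nat.find_spec hex
  have hmin : ∀ j < c, L j ≠ ⊥ := fun j hj => Nat.find_min hex (hcd ▸ hj)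
  have hsucc : ∀ i, L (i + 1) = ⁅L i, (⊤ : Subgroup G)⁆ := fun i => by
    rw [hL, hL, Subgroup.lowerCentralSeries_succ]
  have hnorm : ∀ i, (L i).Normal := fun i => by rw [hL]; infer_instance
  have hant : ∀ i, L (i + 1) ≤ L i := fun i => by
    rw [hsucc]
    haveI := hnorm i
    exact Subgroup.commutator_le_left _ _
  have hanti : ∀ i j, i ≤ j → L j ≤ L i := fun i j h => antitone_nat_of_succ_le hant h
  -- the breadth bound
  have hmain : ∀ x : G, ∀ I : Finset ℕ, (∀ i ∈ I, i + 1 < c ∧
      ∃ y ∈ L i, ⁅y, x⁆ ∉ L (i + 2)) → p ^ I.card ≤ (Subgroup.centralizer ({x} : Set G)).index := by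
    intro x I hI
    obtain ⟨C, hC⟩ : ∃ C, C = Subgroup.centralizer ({x} : Set G) := ⟨_, rfl⟩
    rw [← hC]
    have key : ∀ j k : ℕ, j + k = c →
        p ^ (I.filter fun i => j ≤ i).card ≤ C.relIndex (L j) := by
      intro j k
      induction k generalizing j with
      | zero =>
        intro hjc
        have : (I.filter fun i => j ≤ i) = ∅ := Finset.filter_eq_empty_iff.mpr fun {i} hi h => by
          have := (hI i hi).1
          omega
        rw [this, Finset.card_empty, pow_zero]
        exact Nat.one_le_iff_ne_zero.mpr Subgroup.index_ne_zero_of_finite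
      | succ k ih =>
        intro hjc
        have h1 := ih (j + 1) (by omega)
        have hmono : C.relIndex (L (j + 1)) ≤ C.relIndex (L j) :=
          Subgroup.relIndex_le_of_le_right (hant j) Subgroup.index_ne_zero_of_finite
        by_cases hj : j ∈ I
        swap
        · have : (I.filter fun i => j ≤ i) = I.filter fun i => j + 1 ≤ i :=
            Finset.filter_congr fun i hi => by
              constructor
              · intro h
                have : i ≠ j := fun e => hj (e ▸ hi)
                omega
              · omega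
          rw [this]
          exact h1.trans hmono
        have hins : (I.filter fun i => j ≤ i) = insert j (I.filter fun i => j + 1 ≤ i) := by
          ext i
          simp only [Finset.mem_filter, Finset.mem_insert]
          constructor
          · rintro ⟨h, h'⟩
            by_cases e : i = j
            · exact Or.inl e
            · exact Or.inr ⟨h, by omega⟩
          · rintro (rfl | ⟨h, h'⟩)
            · exact ⟨hj, le_rfl⟩
            · exact ⟨h, by omega⟩
        rw [hins, Finset.card_insert_of_notMem (by simp), pow_succ']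
        obtain ⟨hjc', y, hy, hyx⟩ := hI j hj
        -- the intermediate subgroup
        haveI := hnorm (j + 2)
        obtain ⟨T, hT⟩ : ∃ T : Subgroup G, ∀ t, t ∈ T ↔ t ∈ L j ∧ ⁅t, x⁆ ∈ L (j + 2) :=
          ⟨{ carrier := {t | t ∈ L j ∧ ⁅t, x⁆ ∈ L (j + 2)}
             one_mem' := ⟨one_mem _, by rw [commutatorElement_one_left]; exact one_mem _⟩
             mul_mem' := fun {a b} ha hb => ⟨mul_mem ha.1 hb.1, by
               rw [show ⁅a * b, x⁆ = a * ⁅b, x⁆ * a⁻¹ * ⁅a, x⁆ by group]
               exact mul_mem ((hnorm (j + 2)).conj_mem _ hb.2 a) ha.2⟩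
             inv_mem' := fun {a} ha => ⟨inv_mem ha.1, by
               rw [show ⁅a⁻¹, x⁆ = a⁻¹ * ⁅a, x⁆⁻¹ * a⁻¹⁻¹ by group]
               exact (hnorm (j + 2)).conj_mem _ (inv_mem ha.2) _⟩ }, fun t => Iff.rfl⟩
        have hTL : T ≤ L j := fun t ht => ((hT t).mp ht).1
        have hLT : L (j + 1) ≤ T := fun t ht => (hT t).mpr ⟨hant j ht, by
          rw [show j + 2 = j + 1 + 1 from rfl, hsucc (j + 1)]
          exact Subgroup.commutator_mem_commutator ht (Subgroup.mem_top x)⟩
        have hCT : C ⊓ L j ≤ T := fun t ht => (hT t).mpr ⟨ht.2, by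
          have h : t * x = x * t := Subgroup.mem_centralizer_singleton_iff.mp (hC ▸ ht.1)
          rw [commutatorElement_eq_one_iff_commute.mpr h]
          exact one_mem _⟩
        have hyT : y ∉ T := fun h => hyx ((hT y).mp h).2
        have hp2 : p ≤ T.relIndex (L j) := by
          obtain ⟨a, ha⟩ := (hG.to_subgroup (L j)).index (T.subgroupOf (L j))
          rcases Nat.eq_zero_or_pos a with rfl | hpos
          · exact absurd ((Subgroup.relIndex_eq_one.mp (by rw [Subgroup.relIndex, ha, pow_zero])) hy) hyT
          · rw [Subgroup.relIndex, ha]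
            exact Nat.le_self_pow (by omega) p
        calc p * p ^ (I.filter fun i => j + 1 ≤ i).card ≤ T.relIndex (L j) * C.relIndex (L (j + 1)) :=
              Nat.mul_le_mul hp2 h1
          _ ≤ T.relIndex (L j) * C.relIndex T :=
              Nat.mul_le_mul_left _ (Subgroup.relIndex_le_of_le_right hLT Subgroup.index_ne_zero_of_finite)
          _ = C.relIndex (L j) := by
              have e := Subgroup.relIndex_mul_relIndex (C ⊓ L j) T (L j) hCT hTL
              rw [Subgroup.inf_relIndex_right] at e
              have e2 : (C ⊓ L j).relIndex T = C.relIndex T := by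
                rw [← Subgroup.inf_relIndex_right (C ⊓ L j) T, ← Subgroup.inf_relIndex_right C T,
                  inf_assoc, inf_eq_right.mpr hTL]
              rw [← e, e2, mul_comm]
    have h0 := key 0 c (Nat.zero_add c)
    rw [show (I.filter fun i => 0 ≤ i) = I from Finset.filter_true_of_mem fun i _ => Nat.zero_le i,
      hL, Subgroup.lowerCentralSeries_zero, Subgroup.relIndex_top_right] at h0
    exact h0
  haveI := Fintype.ofFinite G
  refine ⟨c, (hL c).symm.trans hc, fun hb0 => ?_, fun hb0 => ?_⟩
  · have hmain2 : (c - 1) * (p - 1) < b * p := by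
      by_cases hc1 : c ≤ 1
      · rw [show c - 1 = 0 by omega, Nat.zero_mul]
        exact Nat.mul_pos (Nat.pos_of_ne_zero hb0) hp.pos
      let J : G → Finset ℕ := fun x =>
        (Finset.range (c - 1)).filter fun i => ∃ y ∈ L i, ⁅y, x⁆ ∉ L (i + 2)
      have hJ : ∀ x, (J x).card ≤ b := fun x => by
        refine (Nat.pow_le_pow_iff_right hp.one_lt).mp ((hmain x (J x) fun i hi => ?_).trans (hb x))
        obtain ⟨h1, h2⟩ := Finset.mem_filter.mp hi
        exact ⟨by have := Finset.mem_range.mp h1; omega, h2⟩
      have hJ1 : J 1 = ∅ := Finset.filter_eq_empty_iff.mpr fun {i} _ ⟨y, _, h⟩ =>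
        h (by rw [commutatorElement_one_right]; exact one_mem _)
      -- double count
      have hlow : (c - 1) * (p - 1) * Fintype.card G ≤ (∑ x : G, (J x).card) * p := by
        have hswap : ∑ x : G, (J x).card = ∑ i ∈ Finset.range (c - 1),
            (Finset.univ.filter fun x : G => ∃ y ∈ L i, ⁅y, x⁆ ∉ L (i + 2)).card := by
          simp only [J, Finset.card_filter]
          exact Finset.sum_comm
        rw [hswap, Finset.sum_mul]
        calc (c - 1) * (p - 1) * Fintype.card G
            = ∑ _i ∈ Finset.range (c - 1), (p - 1) * Fintype.card G := by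
              rw [Finset.sum_const, Finset.card_range, smul_eq_mul, Nat.mul_assoc]
          _ ≤ _ := Finset.sum_le_sum fun i hi => ?_
        haveI := hnorm (i + 2)
        haveI := hnorm i
        obtain ⟨K, hK⟩ : ∃ K : Subgroup G, ∀ x, x ∈ K ↔ ∀ y ∈ L i, ⁅y, x⁆ ∈ L (i + 2) :=
          ⟨{ carrier := {x | ∀ y ∈ L i, ⁅y, x⁆ ∈ L (i + 2)}
             one_mem' := fun y _ => by rw [commutatorElement_one_right]; exact one_mem _
             mul_mem' := fun {u v} hu hv y hy => by
               rw [show ⁅y, u * v⁆ = ⁅y, u⁆ * (u * ⁅y, v⁆ * u⁻¹) by group]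
               exact mul_mem (hu y hy) ((hnorm (i + 2)).conj_mem _ (hv y hy) u)
             inv_mem' := fun {u} hu y hy => by
               rw [show ⁅y, u⁻¹⁆ = u⁻¹ * ⁅y, u⁆⁻¹ * u⁻¹⁻¹ by group]
               exact (hnorm (i + 2)).conj_mem _ (inv_mem (hu y hy)) _ }, fun x => Iff.rfl⟩
        have hKtop : K ≠ ⊤ := by
          intro h
          have hi' : i + 1 < c := by have := Finset.mem_range.mp hi; omega
          have hle : L (i + 1) ≤ L (i + 2) := by
            rw [hsucc i, Subgroup.commutator_le]
            exact fun y hy x _ => (hK x).mp (h ▸ Subgroup.mem_top x) y hy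
          have hstab : ∀ k, L (i + 1) ≤ L (i + 1 + k) := by
            intro k
            induction k with
            | zero => exact le_rfl
            | succ k ihk =>
              refine hle.trans ?_
              rw [show i + 2 = i + 1 + 1 from rfl, hsucc (i + 1),
                show i + 1 + (k + 1) = i + 1 + k + 1 from rfl, hsucc (i + 1 + k)]
              exact Subgroup.commutator_mono ihk le_rfl
          refine hmin (i + 1) hi' (le_bot_iff.mp ?_)
          calc L (i + 1) ≤ L (i + 1 + c) := hstab c
            _ ≤ L c := hanti _ _ (by omega)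
            _ = ⊥ := hc
        have hidx : p ≤ K.index := by
          obtain ⟨a, ha⟩ := hG.index K
          rcases Nat.eq_zero_or_pos a with rfl | hpos
          · exact absurd (Subgroup.index_eq_one.mp (by rw [ha, pow_zero])) hKtop
          · rw [ha]; exact Nat.le_self_pow (by omega) p
        have hKc : K.index * Nat.card K = Fintype.card G := by
          rw [Subgroup.index_mul_card, Nat.card_eq_fintype_card]
        have hcount : (Finset.univ.filter fun x : G => ∃ y ∈ L i, ⁅y, x⁆ ∉ L (i + 2)).card +
            Nat.card K = Fintype.card G := by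
          have e : (Finset.univ.filter fun x : G => ¬ ∃ y ∈ L i, ⁅y, x⁆ ∉ L (i + 2)).card =
              Nat.card K := by
            rw [← Fintype.card_subtype, ← Nat.card_eq_fintype_card]
            exact Nat.card_congr (Equiv.subtypeEquivRight fun x => by rw [hK]; simp)
          rw [← e]
          exact Finset.card_filter_add_card_filter_not _
        rw [← hcount]
        have hKp : p * Nat.card K ≤ (Finset.univ.filter fun x : G => ∃ y ∈ L i, ⁅y, x⁆ ∉ L (i + 2)).card +
            Nat.card K := by
          rw [hcount, ← hKc]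
          exact Nat.mul_le_mul_right _ hidx
        obtain ⟨r, hr⟩ : ∃ r, p = r + 1 := ⟨p - 1, by have := hp.pos; omega⟩
        rw [hr, Nat.add_sub_cancel]
        rw [hr] at hKp
        nlinarith
      have hup : (∑ x : G, (J x).card) + b ≤ b * Fintype.card G := by
        rw [← Finset.add_sum_erase _ _ (Finset.mem_univ (1 : G)), hJ1, Finset.card_empty, zero_add]
        calc (∑ x ∈ Finset.univ.erase (1 : G), (J x).card) + b
            ≤ (∑ _x ∈ Finset.univ.erase (1 : G), b) + b := by gcongr with x; exact hJ x
          _ = b * Fintype.card G := by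
              rw [Finset.sum_const, smul_eq_mul, Finset.card_erase_of_mem (Finset.mem_univ _),
                Finset.card_univ]
              obtain ⟨q, hq⟩ : ∃ q, Fintype.card G = q + 1 :=
                ⟨Fintype.card G - 1, by have := Fintype.card_pos (α := G); omega⟩
              rw [hq, Nat.add_sub_cancel]
              ring
      have h3 : (c - 1) * (p - 1) * Fintype.card G < b * p * Fintype.card G := by
        have hbp : 0 < b * p := Nat.mul_pos (Nat.pos_of_ne_zero hb0) hp.pos
        nlinarith
      exact Nat.lt_of_mul_lt_mul_right h3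
    refine ⟨hmain2, ?_⟩
    obtain ⟨r, hr⟩ : ∃ r, p = r + 1 := ⟨p - 1, by have := hp.pos; omega⟩
    have hr1 : 1 ≤ r := by have := hp.two_le; omega
    rw [hr, Nat.add_sub_cancel] at hmain2
    by_contra hlt
    have : 2 * b ≤ c - 1 := by omega
    have := Nat.mul_le_mul_right r this
    nlinarith
  · subst hb0
    by_contra hc1
    have hcen : ∀ x : G, Subgroup.centralizer ({x} : Set G) = ⊤ := fun x => Subgroup.index_eq_one.mp (by
      have h := hb x
      rw [pow_zero] at h
      exact le_antisymm h (Nat.one_le_iff_ne_zero.mpr Subgroup.index_ne_zero_of_finite))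
    refine hmin 1 (by omega) ?_
    rw [hsucc 0, eq_bot_iff, Subgroup.commutator_le]
    intro x _ y _
    rw [Subgroup.mem_bot, commutatorElement_eq_one_iff_commute]
    have : x ∈ Subgroup.centralizer ({y} : Set G) := hcen y ▸ Subgroup.mem_top x
    exact Subgroup.mem_centralizer_singleton_iff.mp this

end Cfsg.Agent.S3778
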