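import Cfsg.Statements.S3779
import Cfsg.Agent.Lib.LieFpf.Assoc
import Cfsg.Agent.Lib.Basics.ThompsonFpf

set_option autoImplicit false
open Cfsg

namespace Cfsg.Agent.S3779

/-- Let G be a finite group with an automorphism of prime order p fixing only the identity. Then G is nilpotent; if p = 2 then G is abelian, if p = 3 then G has class at most 2, and in general the class of G is at most ξ = 1 + (p−1) + (p−1)² + ⋯ + (p−1)^(n−1) with n = 2^(p−1) − 1 (the Higman–Kreknin–Kostrikin bound). -/
theorem result {G : Type*} [Group G] [Finite G] {p : ℕ} (hp : p.Prime) (α : MulAut G) (hα : orderOf α = p) (hfpf : ∀ g : G, α g = g → g = 1) : (p = 2 → (⊤ : Subgroup G).lowerCentralSeries 1 = ⊥) ∧ (p = 3 → (⊤ : Subgroup G).lowerCentralSeries 2 = ⊥) ∧ (⊤ : Subgroup G).lowerCentralSeries (Finset.sum (Finset.range (2 ^ (p - 1) - 1)) (fun i => (p - 1) ^ i)) = ⊥ := by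
  classical
  haveI := Fact.mk hp
  set A := Subgroup.zpowers α with hA
  have hAcard : Nat.card ↥A = p := by rw [hA, Nat.card_zpowers, hα]
  have hfree : Fpf.Free A.subtype := fun g hg => hfpf g (hg ⟨α, Subgroup.mem_zpowers α⟩)
  haveI : Group.IsNilpotent G := Basics.isNilpotent_of_fpf_prime hAcard A.subtype hfree
  have hpow : α ^ p = 1 := by rw [← hα]; exact pow_orderOf_eq_one α
  have hcop : (Nat.card G).Coprime p := by
    have hA' : IsPGroup p ↥A := IsPGroup.of_card (n := 1) (by rw [hAcard, pow_one])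
    have h := hA'.card_modEq_card_fixedPoints G
    have h1 : Nat.card ↑(MulAction.fixedPoints ↥A G) = 1 := by
      refine Nat.card_eq_one_iff_unique.mpr ⟨⟨fun a b => Subtype.ext ?_⟩, ⟨1, fun m => map_one (m : MulAut G)⟩⟩
      have key : ∀ x : ↑(MulAction.fixedPoints ↥A G), (x : G) = 1 := fun x =>
        hfpf _ (x.2 ⟨α, Subgroup.mem_zpowers α⟩)
      rw [key a, key b]
    rw [h1] at h
    refine Nat.Coprime.symm (hp.coprime_iff_not_dvd.mpr fun hd => hp.one_lt.ne' ?_)
    have h0 := (Nat.modEq_zero_iff_dvd.mpr hd).symm.trans h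
    exact Nat.dvd_one.mp (Nat.modEq_zero_iff_dvd.mp h0.symm)
  have main : (⊤ : Subgroup G).lowerCentralSeries
      (Finset.sum (Finset.range (2 ^ (p - 1) - 1)) (fun i => (p - 1) ^ i)) = ⊥ :=
    LieFpf.class_bound α hcop hpow hfpf _ fun L hL a => LieFpf.graded_nilpotent hL a
  refine ⟨fun h2 => ?_, fun h3 => LieFpf.class_bound α hcop hpow hfpf 2 fun L hL a => LieFpf.graded_three h3 hL a, main⟩
  subst h2
  simpa using main

end Cfsg.Agent.S3779
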