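import Cfsg.Statements.S3780
import Cfsg.Agent.Lib.Basics.Frattini

set_option autoImplicit false
open Cfsg

namespace Cfsg.Agent.S3780

open Finset in
theorem iterate_expand {W : Type*} [AddCommGroup W] (a : AddMonoid.End W) (m : ℕ) (w : W) :
    ((a + 1) ^ m) w = ∑ k ∈ range (m + 1), m.choose k • (a ^ k) w := by
  rw [(Commute.one_right a).add_pow]
  simp only [one_pow, mul_one]
  let ev : AddMonoid.End W →+ W := AddMonoidHom.mk' (fun f => f w) fun _ _ => rfl
  show ev (∑ k ∈ range (m + 1), a ^ k * (m.choose k : AddMonoid.End W)) = _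
  rw [map_sum]
  refine Finset.sum_congr rfl fun k _ => ?_
  rw [← nsmul_eq_mul', map_nsmul]
  rfl

variable {V : Type*} [CommGroup V] [Finite V] {p : ℕ} [Fact p.Prime]

/-- The map `v ↦ α v / v`. -/
def delta (α : MulAut V) : V →* V := MonoidHom.mk' (fun v => α v / v) fun a b => by
  rw [map_mul, mul_div_mul_comm]

theorem delta_iterate_ker_card (α : MulAut V) (k : ℕ) :
    Nat.card {v : V // (delta α)^[k] v = 1} ≤ Nat.card {v : V // α v = v} ^ k := by
  have hhom : ∀ m : ℕ, ∀ x y : V, (delta α)^[m] (x * y) = (delta α)^[m] x * (delta α)^[m] y :=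
    fun m => iterate_map_mul (delta α) m
  induction k with
  | zero =>
    rw [pow_zero]
    haveI : Subsingleton {v : V // (delta α)^[0] v = 1} := ⟨fun a b => Subtype.ext (a.2.trans b.2.symm)⟩
    exact Finite.card_le_one_iff_subsingleton.mpr this
  | succ k ih =>
    let K : Subgroup V := (MonoidHom.mk' _ (hhom (k + 1))).ker
    let f : ↥K →* V := (delta α).comp K.subtype
    have hsplit := f.ker.card_mul_index
    rw [Subgroup.index_ker] at hsplit
    have h1 : Nat.card ↥f.ker ≤ Nat.card {v : V // α v = v} :=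
      Nat.card_le_card_of_injective (fun x => (⟨((x : ↥K) : V), div_eq_one.mp x.2⟩ : {v : V // α v = v}))
        fun x y h => Subtype.ext (Subtype.ext (congrArg Subtype.val h :))
    have h2 : Nat.card ↥f.range ≤ Nat.card {v : V // (delta α)^[k] v = 1} :=
      Nat.card_le_card_of_injective (fun x => (⟨(x : V), by
          obtain ⟨y, hy⟩ := x.2
          rw [← hy]
          exact y.2⟩ : {v : V // (delta α)^[k] v = 1}))
        fun x y h => Subtype.ext (congrArg Subtype.val h :)
    calc Nat.card {v : V // (delta α)^[k + 1] v = 1} = Nat.card ↥K := rfl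
      _ = Nat.card ↥f.ker * Nat.card ↥f.range := hsplit.symm
      _ ≤ _ := by rw [pow_succ']; exact Nat.mul_le_mul h1 (h2.trans ih)

theorem omega_card_le (α : MulAut V) (hα : α ^ p = 1) :
    Nat.card {v : V // v ^ p = 1} ≤ Nat.card {v : V // α v = v} ^ p := by
  refine le_trans ?_ (delta_iterate_ker_card α p)
  refine Nat.card_le_card_of_injective (fun x => (⟨x.1, ?_⟩ : {v : V // (delta α)^[p] v = 1}))
    fun x y h => Subtype.ext (congrArg Subtype.val h :)
  obtain ⟨v, hv⟩ := x
  let a : AddMonoid.End (Additive V) := MonoidHom.toAdditive (delta α)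
  have hpw : ∀ (m : ℕ) (w : Additive V), (a ^ m) w = Additive.ofMul ((delta α)^[m] (Additive.toMul w)) := by
    intro m
    induction m with
    | zero => intro w; rfl
    | succ m ih => intro w; rw [pow_succ']; show a ((a ^ m) w) = _; rw [ih, Function.iterate_succ_apply']; rfl
  have ha1 : ∀ (m : ℕ) (w : Additive V), ((a + 1) ^ m) w = Additive.ofMul ((α ^ m) (Additive.toMul w)) := by
    intro m
    induction m with
    | zero => intro w; rfl
    | succ m ih =>
      intro w
      rw [pow_succ', pow_succ']
      show a (((a + 1) ^ m) w) + ((a + 1) ^ m) w = _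
      rw [ih]
      exact congrArg Additive.ofMul (div_mul_cancel (α ((α ^ m) (Additive.toMul w))) _)
  have key := iterate_expand a p (Additive.ofMul v)
  rw [ha1, hα, Finset.sum_range_succ, Finset.sum_eq_single 0] at key
  · simp [hpw] at key
    exact key
  · intro k hk hk0
    obtain ⟨c, hc⟩ := (Fact.out : p.Prime).dvd_choose_self hk0 (Finset.mem_range.mp hk)
    rw [hc, mul_comm, mul_nsmul', hpw]
    have : ((delta α)^[k] v) ^ p = 1 := by
      rw [← iterate_map_pow (delta α) k v p, hv, iterate_map_one]
    show c • (p • Additive.ofMul ((delta α)^[k] v)) = 0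
    rw [← ofMul_pow, this, ofMul_one, nsmul_zero]
  · intro h; exact absurd (Finset.mem_range.mpr (Fact.out : p.Prime).pos) h

theorem exists_gen (hV : IsPGroup p V) :
    ∃ S : Finset V, p ^ S.card ≤ Nat.card {v : V // v ^ p = 1} ∧ Subgroup.closure (S : Set V) = ⊤ := by
  classical
  haveI := hV.isNilpotent
  let f : V →* V := powMonoidHom p
  have hidx : Nat.card {v : V // v ^ p = 1} * Nat.card ↥f.range = Nat.card V := by
    rw [← f.ker.card_mul_index, Subgroup.index_ker]; rfl
  obtain ⟨S, hS, hmax⟩ := Set.Finite.exists_maximal (Set.toFinite {S : Finset V |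
      p ^ S.card * Nat.card ↥f.range ≤ Nat.card ↥(f.range ⊔ Subgroup.closure (S : Set V))})
    ⟨∅, by simp⟩
  have htop : f.range ⊔ Subgroup.closure (S : Set V) = ⊤ := by
    by_contra hne
    obtain ⟨v, -, hv⟩ := SetLike.exists_of_lt (lt_top_iff_ne_top.mpr hne)
    have hvS : v ∉ S := fun h => hv (Subgroup.mem_sup_right (Subgroup.subset_closure h))
    have hle : f.range ⊔ Subgroup.closure (S : Set V) ≤ f.range ⊔ Subgroup.closure ((insert v S : Finset V) : Set V) :=
      sup_le_sup_left (Subgroup.closure_mono (by simp)) _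
    have hd : p * Nat.card ↥(f.range ⊔ Subgroup.closure (S : Set V)) ≤
        Nat.card ↥(f.range ⊔ Subgroup.closure ((insert v S : Finset V) : Set V)) := by
      obtain ⟨c, hc⟩ := Subgroup.card_dvd_of_le hle
      have hc1 : c ≠ 1 := fun e => hv ((Subgroup.eq_of_le_of_card_ge hle (by rw [hc, e, mul_one])) ▸
        Subgroup.mem_sup_right (Subgroup.subset_closure (by simp)))
      obtain ⟨k, hk⟩ := IsPGroup.iff_card.mp (hV.to_subgroup (f.range ⊔ Subgroup.closure ((insert v S : Finset V) : Set V)))
      obtain ⟨j, -, hj⟩ := (Nat.dvd_prime_pow (Fact.out : p.Prime)).mp (hk ▸ Dvd.intro_left _ hc.symm : c ∣ p ^ k)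
      have : p ≤ c := by
        rw [hj]; exact Nat.le_self_pow (fun e => hc1 (by rw [hj, e, pow_zero])) p
      rw [hc, mul_comm]
      exact Nat.mul_le_mul_left _ this
    have hmem : p ^ (insert v S).card * Nat.card ↥f.range ≤
        Nat.card ↥(f.range ⊔ Subgroup.closure ((insert v S : Finset V) : Set V)) := by
      rw [Finset.card_insert_of_notMem hvS, pow_succ', mul_assoc]
      exact (Nat.mul_le_mul_left _ hS).trans hd
    exact hvS (hmax hmem (Finset.subset_insert _ _) (Finset.mem_insert_self _ _))
  refine ⟨S, Nat.le_of_mul_le_mul_right ?_ (Nat.card_pos (α := ↥f.range)), ?_⟩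
  · rw [hidx]
    exact hS.trans (by rw [htop, Subgroup.card_top])
  · have hfr : f.range ≤ frattini V := by
      rintro _ ⟨x, rfl⟩; exact Basics.pow_mem_frattini hV x
    exact frattini_nongenerating (top_le_iff.mp (htop.ge.trans (by rw [sup_comm]; exact sup_le_sup_left hfr _)))

/-- Let V be a finite abelian p-group and α an automorphism of V of order p whose fixed-point subgroup has order p^n. Then V can be generated by pn elements: some subset of V with at most pn elements generates V. -/
theorem result {V : Type*} [CommGroup V] [Finite V] {p : ℕ} [Fact p.Prime] (hV : IsPGroup p V) (α : MulAut V) (hα : orderOf α = p) (n : ℕ) (hfix : Nat.card {v : V // α v = v} = p ^ n) : ∃ S : Finset V, S.card ≤ p * n ∧ Subgroup.closure (S : Set V) = ⊤ := by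
  classical
  obtain ⟨S, hS, hgen⟩ := exists_gen hV
  refine ⟨S, ?_, hgen⟩
  have h1 := omega_card_le (p := p) α (by rw [← hα]; exact pow_orderOf_eq_one α)
  rw [hfix, ← pow_mul] at h1
  have h2 := Nat.pow_le_pow_iff_right (Fact.out : p.Prime).one_lt |>.mp ((hS.trans h1))
  rwa [mul_comm] at h2

end Cfsg.Agent.S3780
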