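import Cfsg.Statements.S3781
import Cfsg.Agent.Lib.Basics.Tools

set_option autoImplicit false
open Cfsg
open scoped commutatorElement

namespace Cfsg.Agent.S3781

/-- The series `U, [U, G] W, [U, G, G] W, …`. -/
def ser {G : Type*} [Group G] (U W : Subgroup G) : ℕ → Subgroup G
  | 0 => U
  | j + 1 => ⁅ser U W j, (⊤ : Subgroup G)⁆ ⊔ W

/-- In a nilpotent group `X ≤ [X, G] V` forces `X ≤ V`. -/
theorem le_of_le_commutator_sup {G : Type*} [Group G] [Group.IsNilpotent G] (X V : Subgroup G)
    [X.Normal] [V.Normal] (h : X ≤ ⁅X, (⊤ : Subgroup G)⁆ ⊔ V) : X ≤ V := by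
  set π := QuotientGroup.mk' V with hπ
  have hVmap : V.map π = ⊥ := by rw [Subgroup.map_eq_bot_iff, QuotientGroup.ker_mk']
  have h1 : X.map π ≤ ⁅X.map π, (⊤ : Subgroup G).map π⁆ := by
    refine (Subgroup.map_mono h).trans ?_
    rw [Subgroup.map_sup, hVmap, sup_bot_eq, Subgroup.map_commutator]
  have hle : ∀ k, X.map π ≤ ((⊤ : Subgroup G).lowerCentralSeries k).map π := by
    intro k
    induction k with
    | zero => exact Subgroup.map_mono le_top
    | succ k ih =>
      show X.map π ≤ (⁅(⊤ : Subgroup G).lowerCentralSeries k, (⊤ : Subgroup G)⁆).map π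
      rw [Subgroup.map_commutator]
      exact h1.trans (Subgroup.commutator_mono ih le_rfl)
  obtain ⟨c, hc⟩ := Subgroup.nilpotent_iff_lowerCentralSeries.mp (inferInstance : Group.IsNilpotent G)
  have hbot := hle c
  rwa [hc, Subgroup.map_bot, le_bot_iff, Subgroup.map_eq_bot_iff, QuotientGroup.ker_mk'] at hbot

/-- Let G be a finite p-group and n ≥ 1, and write γ_1(G) = G, γ_{k+1}(G) = [γ_k(G), G], and likewise γ_k(N) for a subgroup N. Let N be a normal subgroup of G contained in γ_n(G). If i > 1 and γ_{i+1}(N) ≠ 1, then |γ_i(N) : γ_{i+1}(N)| ≥ p^n. -/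
theorem result {G : Type*} [Group G] [Finite G] {p : ℕ} [Fact p.Prime] (hG : IsPGroup p G) (n : ℕ) (hn : 1 ≤ n) (N : Subgroup G) [N.Normal] (hN : N ≤ (⊤ : Subgroup G).lowerCentralSeries (n - 1)) (i : ℕ) (hi : 1 < i) (hne : N.lowerCentralSeries i ≠ ⊥) : p ^ n ≤ (N.lowerCentralSeries i).relIndex (N.lowerCentralSeries (i - 1)) := by
  haveI := hG.isNilpotent
  obtain ⟨i', rfl⟩ : ∃ i', i = i' + 1 := ⟨i - 1, by omega⟩
  rw [Nat.add_sub_cancel]
  set U := N.lowerCentralSeries i' with hUdef
  set V := N.lowerCentralSeries (i' + 1) with hVdef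
  set W := N.lowerCentralSeries (i' + 2) with hWdef
  have hnk : ∀ k, (N.lowerCentralSeries k).Normal := by
    intro k
    induction k with
    | zero => exact ‹N.Normal›
    | succ k ih =>
      haveI := ih
      exact (inferInstance : (⁅N.lowerCentralSeries k, N⁆ : Subgroup G).Normal)
  haveI hUn : U.Normal := hnk _
  haveI hVn : V.Normal := hnk _
  haveI hWn : W.Normal := hnk _
  have hVU : V ≤ U := Subgroup.commutator_le_left U N
  have hWV : W ≤ V := Subgroup.commutator_le_left V N
  by_contra hcon
  push_neg at hcon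
  -- the series between `U` and `V`
  have hser : ∀ j, (ser U W j).Normal ∧ ser U W j ≤ U := by
    intro j
    induction j with
    | zero => exact ⟨hUn, le_rfl⟩
    | succ j ih =>
      obtain ⟨h1, h2⟩ := ih
      haveI := h1
      exact ⟨(inferInstance : (⁅ser U W j, (⊤ : Subgroup G)⁆ ⊔ W).Normal),
        sup_le ((Subgroup.commutator_le_left _ _).trans h2) (hWV.trans hVU)⟩
  have hdec : ∀ j, ser U W (j + 1) ≤ ser U W j ⊔ W := fun j => by
    haveI := (hser j).1
    exact sup_le ((Subgroup.commutator_le_left _ _).trans le_sup_left) le_sup_right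
  have hp : p.Prime := Fact.out
  have hpow : ∀ A B : Subgroup G, ∃ a : ℕ, A.relIndex B = p ^ a := fun A B => by
    obtain ⟨k, hk⟩ := IsPGroup.iff_card.mp (hG.to_subgroup B)
    obtain ⟨a, -, ha⟩ := (Nat.dvd_prime_pow hp).mp
      (hk ▸ (A.subgroupOf B).index_dvd_card : A.relIndex B ∣ p ^ k)
    exact ⟨a, ha⟩
  have hdrop : ∀ j, ser U W j ≤ V ∨ V.relIndex (ser U W j ⊔ V) * p ^ j ≤ V.relIndex U := by
    intro j
    induction j with
    | zero =>
      right
      show V.relIndex (U ⊔ V) * p ^ 0 ≤ V.relIndex U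
      rw [sup_eq_left.mpr hVU, pow_zero, mul_one]
    | succ j ih =>
      haveI := (hser j).1
      haveI := (hser (j + 1)).1
      rcases ih with h | h
      · exact Or.inl ((hdec j).trans (sup_le h hWV))
      · by_cases hle : ser U W (j + 1) ≤ V
        · exact Or.inl hle
        right
        set X := ser U W j ⊔ V with hX
        set Y := ser U W (j + 1) ⊔ V with hY
        have hYX : Y ≤ X :=
          sup_le ((hdec j).trans (sup_le le_sup_left (hWV.trans le_sup_right))) le_sup_right
        have hne : Y ≠ X := by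
          intro hYX'
          refine hle (le_trans le_sup_left ((hYX'.le.trans ?_)))
          refine le_of_le_commutator_sup X V ?_
          calc X = Y := hYX'.symm
            _ ≤ ⁅X, (⊤ : Subgroup G)⁆ ⊔ V :=
              sup_le (sup_le ((Subgroup.commutator_mono le_sup_left le_rfl).trans le_sup_left)
                (hWV.trans le_sup_right)) le_sup_right
        have hmul := Subgroup.relIndex_mul_relIndex V Y X le_sup_right hYX
        obtain ⟨a, ha⟩ := hpow Y X
        have ha1 : p ≤ Y.relIndex X := by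
          rw [ha]
          rcases Nat.eq_zero_or_pos a with rfl | h0
          · exfalso
            rw [pow_zero, Subgroup.relIndex_eq_one] at ha
            exact hne (le_antisymm hYX ha)
          · exact Nat.le_self_pow h0.ne' p
        refine le_trans ?_ h
        rw [← hmul, pow_succ', mul_assoc (V.relIndex Y) (Y.relIndex X)]
        exact Nat.mul_le_mul_left _ (Nat.mul_le_mul_right _ ha1)
  have hlast : ser U W (n - 1) ≤ V := by
    rcases hdrop (n - 1) with h | h
    · exact h
    · obtain ⟨a, ha⟩ := hpow V (ser U W (n - 1) ⊔ V)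
      obtain ⟨b, hb⟩ := hpow V U
      rw [ha, hb, ← pow_add, Nat.pow_le_pow_iff_right hp.one_lt] at h
      rw [hb, Nat.pow_lt_pow_iff_right hp.one_lt] at hcon
      have : a = 0 := by omega
      rw [this, pow_zero, Subgroup.relIndex_eq_one] at ha
      exact le_sup_left.trans ha
  have hgam : ∀ k j, ⁅ser U W j, (⊤ : Subgroup G).lowerCentralSeries k⁆ ≤ ser U W (j + k + 1) := by
    intro k
    induction k with
    | zero => exact fun j => le_sup_left
    | succ k ih =>
      intro j
      haveI := (hser (j + (k + 1) + 1)).1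
      set π := QuotientGroup.mk' (ser U W (j + (k + 1) + 1))
      have hker : ∀ A : Subgroup G, A ≤ ser U W (j + (k + 1) + 1) ↔ A.map π = ⊥ := fun A => by
        rw [Subgroup.map_eq_bot_iff, QuotientGroup.ker_mk']
      rw [Subgroup.commutator_comm, hker]
      show (⁅⁅(⊤ : Subgroup G).lowerCentralSeries k, (⊤ : Subgroup G)⁆, ser U W j⁆).map π = ⊥
      simp only [Subgroup.map_commutator]
      apply Subgroup.commutator_commutator_eq_bot_of_rotate
      · rw [← Subgroup.map_commutator, ← Subgroup.map_commutator, ← hker,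
          Subgroup.commutator_comm (⊤ : Subgroup G) (ser U W j)]
        refine (Subgroup.commutator_mono (le_sup_left : _ ≤ ser U W (j + 1)) le_rfl).trans
          ((ih (j + 1)).trans (le_of_eq ?_))
        rw [show j + 1 + k + 1 = j + (k + 1) + 1 by omega]
      · rw [← Subgroup.map_commutator, ← Subgroup.map_commutator, ← hker]
        refine (Subgroup.commutator_mono (ih j) le_rfl).trans ((le_sup_left (b := W)).trans (le_of_eq ?_))
        show ser U W (j + k + 1 + 1) = ser U W (j + (k + 1) + 1)
        rw [show j + k + 1 + 1 = j + (k + 1) + 1 by omega]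
  have hV1 : V ≤ ⁅V, (⊤ : Subgroup G)⁆ ⊔ W := by
    calc V = ⁅U, N⁆ := rfl
      _ ≤ ⁅ser U W 0, (⊤ : Subgroup G).lowerCentralSeries (n - 1)⁆ :=
        Subgroup.commutator_mono le_rfl hN
      _ ≤ ser U W (0 + (n - 1) + 1) := hgam (n - 1) 0
      _ ≤ ⁅V, (⊤ : Subgroup G)⁆ ⊔ W := by
        rw [Nat.zero_add]
        exact sup_le ((Subgroup.commutator_mono hlast le_rfl).trans le_sup_left) le_sup_right
  have hVW : V ≤ ⁅V, N⁆ := le_of_le_commutator_sup V W hV1
  have hconst : ∀ k, V ≤ N.lowerCentralSeries (i' + 1 + k) := by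
    intro k
    induction k with
    | zero => exact le_rfl
    | succ k ih => exact hVW.trans (Subgroup.commutator_mono ih le_rfl)
  have hNnil : Group.IsNilpotent N := (hG.to_subgroup N).isNilpotent
  obtain ⟨c, hc⟩ := (Subgroup.isNilpotent_iff_lowerCentralSeries N).mp hNnil
  apply hne
  rw [eq_bot_iff, ← hc]
  refine (hconst c).trans ?_
  have hanti : ∀ k, N.lowerCentralSeries (c + k) ≤ N.lowerCentralSeries c := by
    intro k
    induction k with
    | zero => exact le_rfl
    | succ k ih =>
      haveI := hnk (c + k)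
      exact (Subgroup.commutator_le_left (N.lowerCentralSeries (c + k)) N).trans ih
  rw [show i' + 1 + c = c + (i' + 1) by omega]
  exact hanti _

end Cfsg.Agent.S3781
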