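import Cfsg.Statements.S3782
import Cfsg.Agent.Lib.Alperin23.Two
import Cfsg.Agent.Lib.Basics.ThompsonFpf
import Cfsg.Agent.Lib.Basics.Cores
import Cfsg.Agent.Lib.Fusion.FrattiniAction

set_option autoImplicit false
set_option linter.style.haveILetI false
open Cfsg

namespace Cfsg.Agent.S3782

open Cfsg.Agent.Alperin23

universe u

/-- The bound for `p`-groups. -/
noncomputable def pBound (p n : ℕ) : ℕ :=
  if p = 2 then 2 * (2 ^ n) ^ 2 + ((2 * (2 ^ n) ^ 2) ^ 2 ^ (n * 2) + 1)
  else Nat.card (Equiv.Perm (Fin (p ^ (n * p)))) + segBound p n * p ^ (n * p)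

theorem pGroup_bound {P : Type u} [Group P] [Finite P] {p : ℕ} [Fact p.Prime] (hP : IsPGroup p P) (α : MulAut P)
    (hα : α ^ p = 1) {n : ℕ} (hfix : Nat.card {g : P // α g = g} ≤ p ^ n) :
    derivedSeries P (pBound p n) = ⊥ := by
  rw [pBound]
  split_ifs with h
  · subst h; exact two_bound hP α hα hfix
  · exact odd_bound hP h α hα hfix

/-- The automorphism induced on an invariant subgroup. -/
def restr {G : Type u} [Group G] (H : Subgroup G) (α : MulAut G) (hH : H.map α.toMonoidHom = H) : MulAut H :=
  (α.subgroupMap H).trans (MulEquiv.subgroupCongr hH)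

theorem restr_coe {G : Type u} [Group G] (H : Subgroup G) (α : MulAut G) (hH : H.map α.toMonoidHom = H) (x : H) :
    ((restr H α hH x : H) : G) = α (x : G) := rfl

theorem restr_pow {G : Type u} [Group G] (H : Subgroup G) (α : MulAut G) (hH : H.map α.toMonoidHom = H) {p : ℕ}
    (hα : α ^ p = 1) : restr H α hH ^ p = 1 := by
  have key : ∀ k (x : H), (((restr H α hH ^ k) x : H) : G) = (α ^ k) (x : G) := by
    intro k
    induction k with
    | zero => intro x; rfl
    | succ k ih => intro x; rw [pow_succ', MulAut.mul_apply, restr_coe, ih, pow_succ', MulAut.mul_apply]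
  exact MulEquiv.ext fun x => Subtype.ext (by rw [key, hα]; rfl)

theorem card_fixed_restr {G : Type u} [Group G] [Finite G] (H : Subgroup G) (α : MulAut G)
    (hH : H.map α.toMonoidHom = H) :
    Nat.card {x : H // restr H α hH x = x} ≤ Nat.card {g : G // α g = g} :=
  Nat.card_le_card_of_injective (fun x => ⟨(x.1 : G), congrArg Subtype.val x.2⟩)
    fun a b h => Subtype.ext (Subtype.ext (Subtype.mk.inj h))

/-- A solvable group with trivial `p'`-core. -/
theorem core_free_bound {Q : Type u} [Group Q] [Finite Q] [Group.IsSolvable Q] {p : ℕ} [Fact p.Prime]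
    (hQ : Cfsg.pPrimeCore p Q = ⊥) (α : MulAut Q) (hα : α ^ p = 1) {n : ℕ}
    (hfix : Nat.card {g : Q // α g = g} ≤ p ^ n) :
    derivedSeries Q ((p ^ (n * p)).factorial + pBound p n) = ⊥ := by
  set P := Cfsg.pCore p Q with hPdef
  have hPp : IsPGroup p P := Basics.pCore_isPGroup p
  haveI : P.Normal := Basics.pCore_normal p
  have hPle : P.map α.toMonoidHom ≤ P :=
    haveI : (P.map α.toMonoidHom).Normal := Subgroup.Normal.map inferInstance _ α.surjective
    Basics.le_pCore (hPp.map _)
  have hPinv : P.map α.toMonoidHom = P := Subgroup.eq_of_le_of_card_ge hPle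
    (by rw [Subgroup.card_map_of_injective α.injective])
  set β := restr P α hPinv
  have hβ : β ^ p = 1 := restr_pow P α hPinv hα
  have hβfix : Nat.card {x : P // β x = x} ≤ p ^ n := (card_fixed_restr P α hPinv).trans hfix
  let ψ : Q →* MulAut (P ⧸ frattini P) := (Fusion.fratRep P).comp (MulAut.conjNormal (H := P))
  have hker : ψ.ker ≤ P := by
    refine Basics.le_pCore fun r => ?_
    obtain ⟨a, ha⟩ := Fusion.isPGroup_ker_fratRep hPp ⟨MulAut.conjNormal (H := P) (r : Q), r.2⟩
    have h1 : MulAut.conjNormal (H := P) ((r : Q) ^ p ^ a) = 1 := by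
      rw [map_pow]; exact congrArg Subtype.val ha
    have h2 : (r : Q) ^ p ^ a ∈ P := by
      refine Basics.centralizer_pCore_le hQ (Subgroup.mem_centralizer_iff.mpr fun x hx => ?_)
      have h := congrArg Subtype.val (DFunLike.congr_fun h1 (⟨x, hx⟩ : P))
      rw [MulAut.conjNormal_apply] at h
      exact (mul_inv_eq_iff_eq_mul.mp h).symm
    obtain ⟨b, hb⟩ := hPp ⟨_, h2⟩
    refine ⟨a + b, Subtype.ext ?_⟩
    have hb' := congrArg Subtype.val hb
    simp only [SubgroupClass.coe_pow] at hb' ⊢
    rw [pow_add, pow_mul]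
    exact hb'
  haveI := hPp.isNilpotent
  have hfi : ∀ θ : MulAut P, ∀ x ∈ frattini P, θ x ∈ frattini P := fun θ x hx =>
    Fusion.mem_of_char (frattini P) θ hx
  have hidx : Nat.card (P ⧸ frattini P) ≤ p ^ (n * p) := by
    have h := card_section_le β hβ hβfix (⊤ : Subgroup P) (frattini P) (map_eq_of_invariant _ hfi β)
      (fun x _ => Subgroup.mem_top _)
      (fun x _ y _ => Basics.commutator_le_frattini
        (Subgroup.commutator_mem_commutator (Subgroup.mem_top x) (Subgroup.mem_top y)))
      (fun x _ => Basics.pow_mem_frattini hPp x)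
    rwa [Subgroup.map_top_of_surjective _ (QuotientGroup.mk'_surjective _), Subgroup.card_top] at h
  haveI : Finite (MulAut (P ⧸ frattini P)) :=
    Finite.of_injective MulEquiv.toEquiv fun a b h => MulEquiv.ext (Equiv.ext_iff.mp h)
  have hcard : Nat.card (MulAut (P ⧸ frattini P)) ≤ (p ^ (n * p)).factorial := by
    refine (Nat.card_le_card_of_injective MulEquiv.toEquiv fun a b h => MulEquiv.ext (Equiv.ext_iff.mp h)).trans ?_
    rw [Nat.card_perm]
    exact Nat.factorial_le hidx
  have h0 : derivedSeries Q (p ^ (n * p)).factorial ≤ P :=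
    (derivedSeries_antitone Q hcard).trans ((derived_le_ker ψ).trans hker)
  rw [← dS_top, dS_add, dS_top]
  refine le_bot_iff.mp ((dS_mono h0 _).trans ?_)
  rw [← map_subtype_derivedSeries, pGroup_bound hPp β hβ hβfix, Subgroup.map_bot]

/-- Alperin's Theorem: for each prime p and each n ≥ 0 there is an integer l such that every finite solvable group admitting an automorphism of order p with exactly p^n fixed points has derived length at most l. -/
theorem result (p : ℕ) (hp : p.Prime) (n : ℕ) : ∃ l : ℕ, ∀ (G : Type) [Group G] [Finite G], Group.IsSolvable G → ∀ α : MulAut G, orderOf α = p → Nat.card {g : G // α g = g} = p ^ n → derivedSeries G l = ⊥ := by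
  haveI := Fact.mk hp
  refine ⟨((p ^ (n * p)).factorial + pBound p n) +
    Finset.sum (Finset.range (2 ^ (p - 1) - 1)) (fun i => (p - 1) ^ i), ?_⟩
  intro G _ _ hsol α hord hfix
  haveI := hsol
  have hα : α ^ p = 1 := by rw [← hord]; exact pow_orderOf_eq_one α
  set O := Cfsg.pPrimeCore p G with hO
  haveI : O.Normal := Basics.pPrimeCore_normal p
  have hcop : (Nat.card O).Coprime p := Basics.pPrimeCore_coprime p
  have hOle : O.map α.toMonoidHom ≤ O := by
    haveI : (O.map α.toMonoidHom).Normal := Subgroup.Normal.map inferInstance _ α.surjective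
    exact Basics.le_pPrimeCore (by rw [Subgroup.card_map_of_injective α.injective]; exact hcop)
  have hOinv : O.map α.toMonoidHom = O := Subgroup.eq_of_le_of_card_ge hOle
    (by rw [Subgroup.card_map_of_injective α.injective])
  -- the p'-core is nilpotent of bounded class
  set γ := restr O α hOinv with hγ
  have hfpf : ∀ x : O, γ x = x → x = 1 := by
    intro x hx
    set F := α.toMonoidHom.eqLocus (MonoidHom.id G)
    have hxF : (x : G) ∈ F := congrArg Subtype.val hx
    have hFcard : Nat.card F = p ^ n := hfix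
    have h1 : orderOf (x : G) ∣ p ^ n := hFcard ▸ F.orderOf_dvd_natCard hxF
    have h2 : orderOf (x : G) ∣ Nat.card O := O.orderOf_dvd_natCard x.2
    have h3 : orderOf (x : G) = 1 := Nat.eq_one_of_dvd_coprimes (hcop.symm.pow_left n) h1 h2
    exact Subtype.ext (orderOf_eq_one_iff.mp h3)
  have hγp : γ ^ p = 1 := restr_pow O α hOinv hα
  haveI : Group.IsNilpotent O := by
    by_cases h1 : γ = 1
    · haveI : Subsingleton O := ⟨fun a b => by rw [hfpf a (by rw [h1]; rfl), hfpf b (by rw [h1]; rfl)]⟩
      infer_instance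
    · have hA : Nat.card (Subgroup.zpowers γ) = p := by rw [Nat.card_zpowers, orderOf_eq_prime hγp h1]
      exact Basics.isNilpotent_of_fpf_prime hA (Subgroup.zpowers γ).subtype
        fun g hg => hfpf g (hg ⟨γ, Subgroup.mem_zpowers γ⟩)
  have hclass : derivedSeries O (Finset.sum (Finset.range (2 ^ (p - 1) - 1)) (fun i => (p - 1) ^ i)) = ⊥ := by
    have h : LieFpf.gam O (Finset.sum (Finset.range (2 ^ (p - 1) - 1)) (fun i => (p - 1) ^ i)) = ⊥ :=
      LieFpf.class_bound γ hcop hγp hfpf _ fun L hL a => LieFpf.graded_nilpotent hL a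
    refine le_bot_iff.mp (le_trans ?_ h.le)
    generalize Finset.sum (Finset.range (2 ^ (p - 1) - 1)) (fun i => (p - 1) ^ i) = c
    induction c with
    | zero => exact le_top
    | succ c ih =>
      rw [derivedSeries_succ]
      exact Subgroup.commutator_mono ih le_top
  -- the quotient
  haveI : Group.IsSolvable (G ⧸ O) := Group.isSolvable_of_surjective (QuotientGroup.mk'_surjective O)
  have hQ := core_free_bound (Basics.pPrimeCore_quotient_eq_bot p) (quotAut O α hOinv) (quotAut_pow O α hOinv hα)
    ((card_fixed_quot O α hOinv).trans hfix.le)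
  have h0 : derivedSeries G ((p ^ (n * p)).factorial + pBound p n) ≤ O := by
    intro x hx
    have := map_derivedSeries_le_derivedSeries (QuotientGroup.mk' O) _ ⟨x, hx, rfl⟩
    rw [hQ, Subgroup.mem_bot] at this
    exact (QuotientGroup.eq_one_iff x).mp this
  rw [← dS_top, dS_add, dS_top]
  refine le_bot_iff.mp ((dS_mono h0 _).trans ?_)
  rw [← map_subtype_derivedSeries, hclass, Subgroup.map_bot]

end Cfsg.Agent.S3782
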