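import Cfsg.Statements.S3785
import Cfsg.Agent.Lib.Basics.Cores
import Cfsg.Agent.Lib.Coprime23.Omega
import Cfsg.Agent.Lib.OddLocal.RankTwo
import Cfsg.Agent.Lib.Basics.Schmidt

set_option autoImplicit false
open Cfsg
open scoped Pointwise

namespace Cfsg.Agent.S3785

/-- Let G be a finite solvable group whose Fitting subgroup F(G) has odd order. If an element g of G commutes with every element of prime order of F(G), then g ∈ F(G). -/
theorem result {G : Type*} [Group G] [Finite G] (hG : Group.IsSolvable G) (hodd : Odd (Nat.card (Cfsg.fittingSubgroup G))) (g : G) (hg : ∀ x ∈ Cfsg.fittingSubgroup G, (orderOf x).Prime → g * x = x * g) : g ∈ Cfsg.fittingSubgroup G := by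
  classical
  haveI := hG
  set F := Cfsg.fittingSubgroup G with hF
  set S : Set G := {x | x ∈ F ∧ (orderOf x).Prime} with hS
  set C := Subgroup.centralizer S with hC
  have hgC : g ∈ C := Subgroup.mem_centralizer_iff.mpr fun x hx => (hg x hx.1 hx.2).symm
  have hFn : F.Normal := inferInstance
  haveI hCn : C.Normal := by
    refine ⟨fun c hc a => Subgroup.mem_centralizer_iff.mpr fun x hx => ?_⟩
    have hx' : a⁻¹ * x * a ∈ S := by
      refine ⟨by simpa using hFn.conj_mem x hx.1 a⁻¹, ?_⟩
      have e : orderOf ((MulAut.conj a⁻¹).toMonoidHom x) = orderOf x :=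
        orderOf_injective _ (MulAut.conj a⁻¹).injective x
      have h2 : Nat.Prime (orderOf ((MulAut.conj a⁻¹).toMonoidHom x)) := by rw [e]; exact hx.2
      simpa using h2
    have := Subgroup.mem_centralizer_iff.mp hc _ hx'
    calc x * (a * c * a⁻¹) = a * ((a⁻¹ * x * a) * c) * a⁻¹ := by group
      _ = a * (c * (a⁻¹ * x * a)) * a⁻¹ := by rw [this]
      _ = (a * c * a⁻¹) * x := by group
  -- coprime elements centralize the p-cores
  have hcp : ∀ p : ℕ, p.Prime → ∀ c ∈ C, (orderOf c).Coprime p → ∀ x ∈ Cfsg.pCore p G, Commute c x := by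
    intro p hp c hc hco x hx
    haveI := Fact.mk hp
    set P := Cfsg.pCore p G
    by_cases hP : P = ⊥
    · rw [hP, Subgroup.mem_bot] at hx; subst hx; exact Commute.one_right _
    have hpd : p ∣ Nat.card ↥F := ((Basics.pCore_isPGroup (G := G) p).card_eq_or_dvd.resolve_left
      (fun h => hP (Subgroup.card_eq_one.mp h))).trans (Subgroup.card_dvd_of_le (Basics.pCore_le_fittingSubgroup p))
    have hp2 : p ≠ 2 := fun h => by
      subst h
      exact (Nat.not_even_iff_odd.mpr hodd) (even_iff_two_dvd.mpr hpd)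
    have hcN : c ∈ Subgroup.normalizer (P : Set G) := Subgroup.le_normalizer_of_normal (Subgroup.mem_top c)
    let α : MulAut ↥P := P.normalizerMonoidHom ⟨c, hcN⟩
    have hα : (orderOf α).Coprime p := by
      refine Nat.Coprime.coprime_dvd_left ?_ hco
      rw [← Subgroup.orderOf_mk c hcN]
      exact orderOf_map_dvd _ _
    have hfix : ∀ y : ↥P, y ^ p = 1 → α y = y := by
      intro y hy
      rcases eq_or_ne y 1 with rfl | hy1
      · exact map_one α
      have hyo : orderOf (y : G) = p := by rw [Subgroup.orderOf_coe]; exact orderOf_eq_prime hy hy1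
      have := Subgroup.mem_centralizer_iff.mp hc (y : G)
        ⟨Basics.pCore_le_fittingSubgroup p y.2, hyo ▸ hp⟩
      exact Subtype.ext (show c * (y : G) * c⁻¹ = y by rw [← this, mul_inv_cancel_right])
    have := congrArg Subtype.val (Coprime23.fix_of_fix_omega (Basics.pCore_isPGroup p) hp2 α hα hfix ⟨x, hx⟩)
    have h' : c * x * c⁻¹ = x := this
    exact mul_inv_eq_iff_eq_mul.mp h'
  have hCF : C ≤ F := by
    refine le_sSup ⟨hCn, ((Group.isNilpotent_of_finite_tfae (G := ↥C)).out 0 3).mpr ?_⟩
    intro q hq Q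
    haveI := hq
    set M := (C ⊓ Subgroup.centralizer (F : Set G)).subgroupOf C with hM
    have hMF : ∀ m ∈ M, (m : G) ∈ F := fun m hm =>
      Basics.centralizer_fittingSubgroup_le (Subgroup.mem_inf.mp (Subgroup.mem_subgroupOf.mp hm)).2
    have hMabel : ∀ a ∈ M, ∀ b ∈ M, Commute a b := fun a ha b hb => Subtype.ext
      (Subgroup.mem_centralizer_iff.mp (Subgroup.mem_inf.mp (Subgroup.mem_subgroupOf.mp hb)).2 _ (hMF a ha))
    let D : Subgroup ↥C :=
      { carrier := {c | ∀ p : ℕ, p.Prime → p ≠ q → ∀ x ∈ Cfsg.pCore p G, Commute (c : G) x}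
        one_mem' := fun p _ _ x _ => Commute.one_left x
        mul_mem' := fun ha hb p hp hne x hx => (ha p hp hne x hx).mul_left (hb p hp hne x hx)
        inv_mem' := fun ha p hp hne x hx => (ha p hp hne x hx).inv_left }
    haveI hDn : D.Normal := ⟨fun c hc a p hp hne x hx => by
      have h1 := hc p hp hne _ (((inferInstance : (Cfsg.pCore p G).Normal)).conj_mem x hx (a : G)⁻¹)
      have h2 := h1.map (MulAut.conj (a : G)).toMonoidHom
      simpa [mul_assoc] using h2⟩
    have hQD : (Q : Subgroup ↥C) ≤ D := by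
      intro c hc p hp hne x hx
      obtain ⟨j, hj⟩ := Q.isPGroup' ⟨c, hc⟩
      have hj' : (c : G) ^ q ^ j = 1 := by
        have := congrArg (fun z : ↥(Q : Subgroup ↥C) => ((z : ↥C) : G)) hj
        simpa using this
      exact hcp p hp c c.2 (Nat.Coprime.coprime_dvd_left (orderOf_dvd_of_pow_eq_one hj')
        (((Nat.coprime_primes hq.out hp).mpr (Ne.symm hne)).pow_left j)) x hx
    have hMQ : M ≤ Subgroup.normalizer ((Q : Subgroup ↥C) : Set ↥C) := by
      suffices (Subgroup.normalizer ((Q : Subgroup ↥C) : Set ↥C)).subgroupOf M = ⊤ from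
        Subgroup.subgroupOf_eq_top.mp this
      refine Basics.eq_top_of_sylow_le _ fun r hr _ => ?_
      haveI := hr
      obtain ⟨R⟩ : Nonempty (Sylow r ↥M) := inferInstance
      refine ⟨R, fun m hm => ?_⟩
      rw [Subgroup.mem_subgroupOf]
      obtain ⟨j, hj⟩ := R.isPGroup' ⟨m, hm⟩
      have hjm : ((m : ↥C) : G) ^ r ^ j = 1 := by
        have := congrArg (fun z : ↥(R : Subgroup ↥M) => (((z : ↥M) : ↥C) : G)) hj
        simpa using this
      have hm1 : ((m : ↥C) : G) ∈ Cfsg.pCore r G :=
        OddLocal.mem_pCore_of_mem_fitting (hMF _ m.2) ⟨j, hjm⟩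
      by_cases hrq : r = q
      · subst hrq
        refine Subgroup.le_normalizer ?_
        have hn : IsPGroup r ↥((Cfsg.pCore r G).subgroupOf C) :=
          (Basics.pCore_isPGroup r).comap_subtype
        obtain ⟨Q', hQ'⟩ := hn.exists_le_sylow
        obtain ⟨a, rfl⟩ := MulAction.exists_smul_eq ↥C Q' Q
        rw [Sylow.coe_subgroup_smul]
        have := Subgroup.smul_mem_pointwise_smul _ (MulAut.conj a) _ (hQ' (show
          (MulAut.conj a)⁻¹ • (m : ↥C) ∈ (Cfsg.pCore r G).subgroupOf C by
            rw [Subgroup.mem_subgroupOf]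
            simpa [MulAut.smul_def, MulAut.conj_symm_apply] using
              ((inferInstance : (Cfsg.pCore r G).Normal)).conj_mem _ hm1 ((a : G)⁻¹)))
        simpa [MulAut.smul_def, mul_assoc] using this
      · refine Subgroup.centralizer_le_normalizer _ (Subgroup.mem_centralizer_iff.mpr fun c hc => Subtype.ext ?_)
        exact hQD hc r hr.out hrq _ hm1
    have hDQM : D ≤ (Q : Subgroup ↥C) ⊔ M := by
      suffices ((Q : Subgroup ↥C) ⊔ M).subgroupOf D = ⊤ from Subgroup.subgroupOf_eq_top.mp this
      refine Basics.eq_top_of_sylow_le _ fun r hr _ => ?_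
      haveI := hr
      by_cases hrq : r = q
      · subst hrq
        refine ⟨Q.subtype hQD, fun c hc => ?_⟩
        exact Subgroup.mem_sup_left (show (c : ↥C) ∈ (Q : Subgroup ↥C) from hc)
      · obtain ⟨R⟩ : Nonempty (Sylow r ↥D) := inferInstance
        refine ⟨R, fun c hc => Subgroup.mem_sup_right (Subgroup.mem_subgroupOf.mpr
          (Subgroup.mem_inf.mpr ⟨(c : ↥C).2, ?_⟩))⟩
        obtain ⟨j, hj⟩ := R.isPGroup' ⟨c, hc⟩
        have hjc : ((c : ↥C) : G) ^ r ^ j = 1 := by
          have := congrArg (fun z : ↥(R : Subgroup ↥D) => (((z : ↥D) : ↥C) : G)) hj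
          simpa using this
        rw [Subgroup.mem_centralizer_iff]
        intro x hx
        have hle : F ≤ Subgroup.centralizer ({((c : ↥C) : G)} : Set G) := by
          rw [hF, Basics.fittingSubgroup_eq_iSup_pCore]
          refine iSup_le fun p y hy => Subgroup.mem_centralizer_singleton_iff.mpr ?_
          by_cases hpq : (p : ℕ) = q
          · exact (hcp p p.2 _ (c : ↥C).2 (Nat.Coprime.coprime_dvd_left (orderOf_dvd_of_pow_eq_one hjc)
              (((Nat.coprime_primes hr.out p.2).mpr (by rw [hpq]; exact hrq)).pow_left j)) y hy).eq.symm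
          · exact (c.2 p p.2 hpq y hy).eq.symm
        exact Subgroup.mem_centralizer_singleton_iff.mp (hle hx)
    have hQn : D ≤ Subgroup.normalizer ((Q : Subgroup ↥C) : Set ↥C) :=
      hDQM.trans (sup_le Subgroup.le_normalizer hMQ)
    haveI : ((Q.subtype hQD : Sylow q ↥D) : Subgroup ↥D).Normal := Subgroup.normal_subgroupOf_iff_le_normalizer hQD |>.mpr hQn
    have hch := (Q.subtype hQD).characteristic_of_normal inferInstance
    have := ConjAct.normal_of_characteristic_of_normal (H := D) (K := ((Q.subtype hQD : Sylow q ↥D) : Subgroup ↥D))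
    rwa [Sylow.coe_subtype, Subgroup.map_subgroupOf_eq_of_le hQD] at this
  exact hCF hgC

end Cfsg.Agent.S3785
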