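import Cfsg.Statements.S3786
import Cfsg.Agent.Lib.HallHigman.ExponentTwo
-- import your own Cfsg.Agent.* helpers here

set_option autoImplicit false
open Cfsg

namespace Cfsg.Agent.S3786

/-- The Hall–Higman bound on p-length. Let p be an odd prime and G a finite p-soluble group whose Sylow p-subgroups have exponent dividing p^e. (a) If p is not of the form 2^k + 1, or if the Sylow 2-subgroups of G are abelian, then G has p-length at most e. (b) In every case G has p-length at most 2e. -/
theorem result {G : Type*} [Group G] [Finite G] {p : ℕ} [Fact p.Prime] (hp : p ≠ 2) (hG : Cfsg.IsPSolvable p G) (e : ℕ) (hexp : ∀ (P : Sylow p G), ∀ x ∈ (P : Subgroup G), x ^ p ^ e = 1) : (((¬ ∃ k : ℕ, p = 2 ^ k + 1) ∨ ∀ S : Sylow 2 G, IsMulCommutative (S : Subgroup G)) → Cfsg.PLengthLE p e G) ∧ Cfsg.PLengthLE p (2 * e) G := by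
  classical
  obtain ⟨S⟩ : Nonempty (Sylow p G) := inferInstance
  refine ⟨fun hc => ?_, Agent.HallHigman.pLengthLE_two_exponent hp _ rfl hG S e (hexp S)⟩
  refine Agent.HallHigman.pLengthLE_exponent _ rfl hG S e (hexp S) fun n₀ q m h1 h3 _h4 h5 Q => ?_
  have hq2 : q = 2 := by
    have hev : Even (p ^ n₀ - 1) :=
      Nat.Odd.sub_odd (((Fact.out : p.Prime).odd_of_ne_two hp).pow) odd_one
    rw [h5] at hev
    exact ((Nat.prime_dvd_prime_iff_eq Nat.prime_two h3).mp
      (Nat.prime_two.dvd_of_dvd_pow (even_iff_two_dvd.mp hev))).symm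
  subst hq2
  rcases hc with hnf | hab
  · exfalso
    have hd : p - 1 ∣ 2 ^ m := by
      rw [← h5]
      simpa using Nat.sub_dvd_pow_sub_pow p 1 n₀
    obtain ⟨k, -, hk⟩ := (Nat.dvd_prime_pow Nat.prime_two).mp hd
    exact hnf ⟨k, by have := (Fact.out : p.Prime).two_le; omega⟩
  · exact hab Q

end Cfsg.Agent.S3786
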