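import Cfsg.Statements.S3787
import Cfsg.Agent.Lib.HallHigman.Wreath
import Cfsg.Agent.Lib.Coprime23.UpperSeries
import Cfsg.Agent.Lib.SL2Dickson.Involve

set_option autoImplicit false
open Cfsg Subgroup
open scoped IsMulCommutative

namespace Cfsg.Agent.S3787

/-- A carrier without algebraic instances of its own. -/
def Carrier (n : ℕ) : Type := Fin n

instance (n : ℕ) : Finite (Carrier n) := inferInstanceAs (Finite (Fin n))

/-- Let G be a finite p-soluble group, p an odd prime not of the form 2^k + 1, and suppose the wreath product C_p ≀ C_p (of order p^(p+1)) is not involved in a Sylow p-subgroup of G: no section of a Sylow p-subgroup is isomorphic to it. Then G has p-length at most 1. -/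
theorem result {G : Type*} [Group G] [Finite G] {p : ℕ} [Fact p.Prime] (hp2 : p ≠ 2) (hnf : (¬ ∃ k : ℕ, p = 2 ^ k + 1)) (hG : Cfsg.IsPSolvable p G) (P : Sylow p G) (hwr : ∀ (W : Type) [Group W] [Finite W], (∃ (B : Subgroup W) (t : W), B.Normal ∧ IsMulCommutative B ∧ (∀ b ∈ B, b ^ p = 1) ∧ Nat.card B = p ^ p ∧ orderOf t = p ∧ t ∉ B ∧ Nat.card W = p ^ (p + 1) ∧ Nat.card ↥(B ⊓ Subgroup.centralizer ({t} : Set W)) = p) → ¬ Cfsg.Involves W ↥(P : Subgroup G)) : Cfsg.PLengthLE p 1 G := by
  classical
  have hp : p.Prime := Fact.out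
  haveI : (pPrimeCore p G).Normal := Agent.Basics.pPrimeCore_normal p
  refine Agent.Coprime23.pLengthLE_of_quotient_coprime (Agent.Basics.pPrimeCore_coprime p) ?_
  set f := QuotientGroup.mk' (pPrimeCore p G)
  have hfs := QuotientGroup.mk'_surjective (pPrimeCore p G)
  set G1 := G ⧸ pPrimeCore p G
  have hsol : IsPSolvable p G1 := Agent.Coprime23.isPSolvable_map f hfs hG
  have hO : pPrimeCore p G1 = ⊥ := Agent.Basics.pPrimeCore_quotient_eq_bot p
  set S := P.mapSurjective hfs
  haveI : (pCore p G1).Normal := Agent.Basics.pCore_normal p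
  refine Agent.Coprime23.pLengthLE_succ_of_quotient_pCore (k := 0) hO ?_
  -- the quotient by `O_p` has order prime to `p`
  suffices hSX : (S : Subgroup G1) ≤ pCore p G1 by
    have hcop : (Nat.card (G1 ⧸ pCore p G1)).Coprime p := by
      refine (hp.coprime_iff_not_dvd.mpr fun hd => S.not_dvd_index (hd.trans ?_)).symm
      rw [← Subgroup.index_eq_card]
      exact Subgroup.index_dvd_of_le hSX
    show (upperPSeries p _ 1).1 = ⊤
    rw [Agent.Coprime23.upperPSeries_one]
    exact eq_top_iff.mpr (Agent.Basics.le_pPrimeCore (N := ⊤) (by rw [card_top]; exact hcop))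
  by_contra hnot
  obtain ⟨y, hyS, hy⟩ := SetLike.not_le_iff_exists.mp hnot
  obtain ⟨m, hm⟩ := S.isPGroup' ⟨y, hyS⟩
  have hex : ∃ m, y ^ p ^ m ∈ pCore p G1 := ⟨m, by
    rw [show y ^ p ^ m = 1 from congrArg Subtype.val hm]; exact one_mem _⟩
  have hj : 1 ≤ Nat.find hex := by
    by_contra h0
    have h := Nat.find_spec hex
    rw [show Nat.find hex = 0 by omega, pow_zero, pow_one] at h
    exact hy h
  set x := y ^ p ^ (Nat.find hex - 1) with hxdef
  have hx : x ∉ pCore p G1 := Nat.find_min hex (by omega)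
  have hxp : x ^ p ∈ pCore p G1 := by
    rw [hxdef, ← pow_mul, ← pow_succ, Nat.sub_add_cancel hj]
    exact Nat.find_spec hex
  have hxS : x ∈ (S : Subgroup G1) := pow_mem hyS _
  have hcX := Agent.Transfer.centralizer_pCore_le_of_pSolvable hO
    (Agent.Transfer.isPSolvable_subgroup' hsol _)
  -- full degree
  have hdeg : (Agent.HallHigman.coreRep p G1 x - 1) ^ (p - 1) ≠ 0 := by
    let ρ : G1 ⧸ pCore p G1 →* Module.End (ZMod p) (Additive ↥(Agent.HallHigman.coreModule p G1)) :=
      QuotientGroup.lift (pCore p G1) (Agent.HallHigman.coreRep p G1) fun g hg =>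
        MonoidHom.mem_ker.mpr ((Agent.HallHigman.coreRep_eq_one_iff hcX g).mpr hg)
    have hρ : Function.Injective ρ := by
      refine (injective_iff_map_eq_one ρ).mpr fun g hg => ?_
      induction g using QuotientGroup.induction_on with
      | H g =>
        exact (QuotientGroup.eq_one_iff g).mpr
          ((Agent.HallHigman.coreRep_eq_one_iff hcX g).mp hg)
    have hord : orderOf (QuotientGroup.mk x : G1 ⧸ pCore p G1) = p ^ 1 := by
      rw [pow_one]
      refine orderOf_eq_prime ?_ (fun h => hx ((QuotientGroup.eq_one_iff x).mp h))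
      rw [← QuotientGroup.mk_pow]
      exact (QuotientGroup.eq_one_iff _).mpr hxp
    haveI : FiniteDimensional (ZMod p) (Additive ↥(Agent.HallHigman.coreModule p G1)) :=
      Module.Finite.of_finite
    rcases Agent.HallHigman.hall_higman_B_field ρ hρ
        (Agent.Coprime23.isPSolvable_map (QuotientGroup.mk' _) (QuotientGroup.mk'_surjective _) hsol)
        (Agent.Basics.pCore_quotient_eq_bot p) _ hord le_rfl with
      h | ⟨n₀, q, r, h1, h2, h3, h4, h5, -⟩
    · rw [pow_one] at h
      exact h
    · exfalso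
      obtain rfl : n₀ = 1 := by omega
      rw [pow_one] at h5
      have hq2 : q = 2 := by
        have hev : Even (p - 1) := by
          obtain ⟨k, hk⟩ := hp.odd_of_ne_two hp2
          exact ⟨k, by omega⟩
        rw [h5] at hev
        exact ((Nat.prime_dvd_prime_iff_eq Nat.prime_two h3).mp
          (Nat.prime_two.dvd_of_dvd_pow (even_iff_two_dvd.mp hev))).symm
      exact hnf ⟨r, by rw [← hq2, ← h5]; have := hp.two_le; omega⟩
  obtain ⟨U, hU, B, t, hBn, hBc, hBp, hBcard, hto, htB, hW, hC⟩ :=
    Agent.HallHigman.exists_wreath_section hxp hx hdeg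
  -- transport to a type in the lowest universe
  let K := Agent.HallHigman.coreModule p G1 ⊔
    zpowers (QuotientGroup.mk' (Agent.HallHigman.phiCore p G1) x)
  let eW : Carrier (Nat.card (↥K ⧸ U)) ≃ (↥K ⧸ U) := (Finite.equivFin _).symm
  letI gW : Group (Carrier (Nat.card (↥K ⧸ U))) := eW.group
  let e : Carrier (Nat.card (↥K ⧸ U)) ≃* (↥K ⧸ U) := eW.mulEquiv
  refine hwr (Carrier (Nat.card (↥K ⧸ U))) ⟨B.map e.symm.toMonoidHom, e.symm t,
    hBn.map _ e.symm.surjective, ?_, ?_, ?_, ?_, ?_, ?_, ?_⟩ ?_
  · exact ⟨⟨by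
      rintro ⟨_, a, ha, rfl⟩ ⟨_, b, hb, rfl⟩
      refine Subtype.ext ?_
      show e.symm a * e.symm b = e.symm b * e.symm a
      rw [← map_mul, ← map_mul]
      exact congrArg e.symm (congrArg Subtype.val (hBc.is_comm.comm ⟨a, ha⟩ ⟨b, hb⟩))⟩⟩
  · rintro _ ⟨b, hb, rfl⟩
    rw [← map_pow, hBp b hb, map_one]
  · rw [card_map_of_injective e.symm.injective, hBcard]
  · exact (orderOf_injective e.symm.toMonoidHom e.symm.injective t).trans hto
  · rintro ⟨b, hb, hbt⟩
    exact htB (e.symm.injective hbt ▸ hb)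
  · rw [Nat.card_congr eW, hW]
  · refine Eq.trans ?_ hC
    refine Eq.trans ?_ (card_map_of_injective (K := B ⊓ centralizer {t}) (f := e.symm.toMonoidHom)
      e.symm.injective)
    refine congrArg (fun H : Subgroup _ => Nat.card ↥H) ?_
    rw [Subgroup.map_inf _ _ _ e.symm.injective]
    refine congrArg (map e.symm.toMonoidHom B ⊓ ·) ?_
    ext z
    rw [mem_centralizer_singleton_iff]
    constructor
    · intro hz
      refine ⟨e z, mem_centralizer_singleton_iff.mpr (e.symm.injective ?_), e.symm_apply_apply z⟩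
      rw [map_mul, map_mul, e.symm_apply_apply]
      exact hz
    · rintro ⟨b, hb, rfl⟩
      show e.symm b * e.symm t = e.symm t * e.symm b
      rw [← map_mul, ← map_mul, mem_centralizer_singleton_iff.mp hb]
  -- the section
  · let g : ↥(P : Subgroup G) →* G1 ⧸ Agent.HallHigman.phiCore p G1 :=
      ((QuotientGroup.mk' (Agent.HallHigman.phiCore p G1)).comp f).comp (P : Subgroup G).subtype
    have hKle : K ≤ g.range := by
      have hr : g.range = (S : Subgroup G1).map (QuotientGroup.mk' _) := by
        rw [show g = ((QuotientGroup.mk' (Agent.HallHigman.phiCore p G1)).comp f).comp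
          (P : Subgroup G).subtype from rfl, MonoidHom.range_comp, Subgroup.range_subtype,
          ← Subgroup.map_map]
        rfl
      rw [hr]
      exact sup_le (map_mono (Agent.Basics.pCore_le_sylow p S))
        (zpowers_le.mpr (mem_map_of_mem _ hxS))
    let M : Subgroup ↥(P : Subgroup G) := K.comap g
    let gM : ↥M →* ↥K := (g.comp M.subtype).codRestrict K fun a => a.2
    refine Agent.SL2Dickson.involves_of_hom M.subtype M.subtype_injective
      ((e.symm.toMonoidHom.comp (QuotientGroup.mk' U)).comp gM) ?_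
    intro w
    obtain ⟨k, hk⟩ := QuotientGroup.mk'_surjective U (e w)
    obtain ⟨a, ha⟩ := hKle k.2
    have haK : a ∈ M := show g a ∈ K by rw [ha]; exact k.2
    refine ⟨⟨a, haK⟩, ?_⟩
    have hgk : gM ⟨a, haK⟩ = k := Subtype.ext ha
    show e.symm (QuotientGroup.mk' U (gM ⟨a, haK⟩)) = w
    rw [hgk, hk, e.symm_apply_apply]

end Cfsg.Agent.S3787
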