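import Cfsg.Statements.S3788
import Cfsg.Agent.Lib.Basics.Cores
import Cfsg.Agent.Lib.Basics.Frattini
import Cfsg.Agent.Lib.Transfer.FourPlane
import Cfsg.Agent.Lib.Transfer.StableCore
import Cfsg.Agent.Lib.Transfer.Constrained
import Cfsg.Agent.Lib.Transfer.SL2Props
import Cfsg.Agent.Lib.SL2Dickson.Stability

set_option autoImplicit false
open Cfsg

namespace Cfsg.Agent.S3788

open Subgroup
open scoped commutatorElement

variable {G : Type*} [Group G]

theorem conj_mul_left (g h v : G) : g * h * v * (g * h)⁻¹ = g * (h * v * h⁻¹) * g⁻¹ := by group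

theorem conj_mul_right (g v w : G) : g * (v * w) * g⁻¹ = g * v * g⁻¹ * (g * w * g⁻¹) := by group

/-- Powers of an element adding a multiple of a fixed vector. -/
theorem pow_conj_eq {x z v : G} {a : ℤ} (hxz : x * z * x⁻¹ = z) (hv : x * v * x⁻¹ = z ^ a * v)
    (n : ℕ) : x ^ n * v * (x ^ n)⁻¹ = z ^ (a * n) * v := by
  induction n with
  | zero => simp
  | succ n ih =>
    rw [pow_succ', conj_mul_left, ih, conj_mul_right, ← conj_zpow, hxz, hv, ← mul_assoc,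
      ← zpow_add]
    congr 1
    push_cast
    ring_nf

theorem conj_mem_of_forall {P Z : Subgroup G} (hZP : Z ≤ P) {g w : G}
    (hg : ∀ w ∈ P, g * w * g⁻¹ * w⁻¹ ∈ Z) (hw : w ∈ P) : g * w * g⁻¹ ∈ P := by
  have h := mul_mem (hZP (hg w hw)) hw
  rwa [inv_mul_cancel_right] at h

/-- Two transvections, one fixing the centre of the other, generate a `p`-group. -/
theorem isPGroup_pair [Finite G] {p : ℕ} [hp : Fact p.Prime] (hp2 : p ≠ 2) (V : Subgroup G)
    [V.Normal] (hab : ∀ v ∈ V, ∀ w ∈ V, Commute v w) (hexp : ∀ v ∈ V, v ^ p = 1)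
    {c c' z z' : G} (hz : z ∈ V) (hz' : z' ∈ V)
    (hcz : c * z * c⁻¹ = z) (hcz' : c * z' * c⁻¹ = z') (hc'z' : c' * z' * c'⁻¹ = z')
    (hc : ∀ v ∈ V, ∃ a : ℤ, c * v * c⁻¹ = z ^ a * v)
    (hc' : ∀ v ∈ V, ∃ a : ℤ, c' * v * c'⁻¹ = z' ^ a * v) :
    IsPGroup p ↥(closure ({(c : G ⧸ centralizer (V : Set G)), (c' : G ⧸ centralizer (V : Set G))} :
      Set (G ⧸ centralizer (V : Set G)))) := by
  set C := centralizer (V : Set G)
  set P := closure ({z, z'} : Set G) with hP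
  set Z := zpowers z' with hZ
  have hzP : z ∈ P := subset_closure (Set.mem_insert _ _)
  have hz'P : z' ∈ P := subset_closure (Set.mem_insert_of_mem _ rfl)
  have hZP : Z ≤ P := zpowers_le.mpr hz'P
  have hPV : P ≤ V := (closure_le _).mpr (by rintro _ (rfl | rfl) <;> assumption)
  let M : Submonoid G :=
    { carrier := {g | (∀ v ∈ V, g * v * g⁻¹ * v⁻¹ ∈ P) ∧ (∀ w ∈ P, g * w * g⁻¹ * w⁻¹ ∈ Z) ∧
        ∀ w ∈ Z, g * w * g⁻¹ = w}
      one_mem' := ⟨fun v _ => by simp, fun w _ => by simp, fun w _ => by simp⟩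
      mul_mem' := by
        rintro g h ⟨g1, g2, g3⟩ ⟨h1, h2, h3⟩
        refine ⟨fun v hv => ?_, fun w hw => ?_, fun w hw => ?_⟩
        · rw [show g * h * v * (g * h)⁻¹ * v⁻¹ =
            g * (h * v * h⁻¹ * v⁻¹) * g⁻¹ * (g * v * g⁻¹ * v⁻¹) by group]
          exact mul_mem (conj_mem_of_forall hZP g2 (h1 v hv)) (g1 v hv)
        · rw [show g * h * w * (g * h)⁻¹ * w⁻¹ =
            g * (h * w * h⁻¹ * w⁻¹) * g⁻¹ * (g * w * g⁻¹ * w⁻¹) by group, g3 _ (h2 w hw)]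
          exact mul_mem (h2 w hw) (g2 w hw)
        · rw [conj_mul_left, h3 w hw, g3 w hw] }
  let St : Subgroup G :=
    { M with
      inv_mem' := fun {g} hg => by
        have h : g⁻¹ ∈ Submonoid.powers g :=
          ((isOfFinOrder_of_finite g).mem_powers_iff_mem_zpowers).mpr (inv_mem (mem_zpowers g))
        exact (Submonoid.powers_le (P := M)).mpr hg h }
  have hcP : ∀ w ∈ P, c * w * c⁻¹ = w := by
    intro w hw
    have hle : P ≤ centralizer ({c} : Set G) := by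
      rw [hP, closure_le]
      rintro u hu
      rw [SetLike.mem_coe, mem_centralizer_singleton_iff]
      rcases hu with rfl | rfl
      · exact (mul_inv_eq_iff_eq_mul.mp hcz).symm
      · exact (mul_inv_eq_iff_eq_mul.mp hcz').symm
    exact mul_inv_eq_iff_eq_mul.mpr (mem_centralizer_singleton_iff.mp (hle hw)).symm
  have hgen : ({c, c'} : Set G) ⊆ St := by
    rintro g (rfl | rfl)
    · refine ⟨fun v hv => ?_, fun w hw => ?_, fun w hw => hcP w (hZP hw)⟩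
      · obtain ⟨a, ha⟩ := hc v hv
        rw [ha, mul_inv_cancel_right]
        exact zpow_mem hzP a
      · rw [hcP w hw, mul_inv_cancel]
        exact one_mem Z
    · refine ⟨fun v hv => ?_, fun w hw => ?_, fun w hw => ?_⟩
      · obtain ⟨a, ha⟩ := hc' v hv
        rw [ha, mul_inv_cancel_right]
        exact zpow_mem hz'P a
      · obtain ⟨a, ha⟩ := hc' w (hPV hw)
        rw [ha, mul_inv_cancel_right]
        exact zpow_mem (mem_zpowers z') a
      · obtain ⟨r, rfl⟩ := mem_zpowers_iff.mp hw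
        rw [← conj_zpow, hc'z']
  have hpow : ∀ g ∈ St, g ^ p ∈ C := by
    intro g hg
    refine mem_centralizer_iff.mpr fun v hv => ?_
    obtain ⟨g1, g2, g3⟩ := hg
    obtain ⟨e, he, hge⟩ : ∃ e ∈ P, g * v * g⁻¹ = e * v :=
      ⟨_, g1 v hv, (inv_mul_cancel_right _ v).symm⟩
    obtain ⟨f, hf, hgf⟩ : ∃ f ∈ Z, g * e * g⁻¹ = f * e :=
      ⟨_, g2 e he, (inv_mul_cancel_right _ e).symm⟩
    have key : ∀ n : ℕ, g ^ n * v * (g ^ n)⁻¹ = f ^ n.choose 2 * e ^ n * v := by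
      intro n
      induction n with
      | zero => simp
      | succ n ih =>
        rw [pow_succ', conj_mul_left, ih, conj_mul_right, conj_mul_right, hge, ← conj_pow,
          ← conj_pow, g3 f hf, hgf,
          (hab f (hPV (hZP hf)) e (hPV he)).mul_pow, Nat.choose_succ_succ, Nat.choose_one_right,
          pow_add, pow_succ, pow_mul_comm f n (n.choose 2)]
        simp only [mul_assoc]
    have h := key p
    obtain ⟨m, hm⟩ := hp.out.dvd_choose_self (k := 2) (by norm_num)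
      (lt_of_le_of_ne hp.out.two_le (Ne.symm hp2))
    rw [hm, pow_mul, hexp f (hPV (hZP hf)), one_pow, hexp e (hPV he), one_mul, one_mul] at h
    exact (mul_inv_eq_iff_eq_mul.mp h).symm
  rw [show ({(c : G ⧸ C), (c' : G ⧸ C)} : Set (G ⧸ C)) = QuotientGroup.mk' C '' {c, c'} by
    rw [Set.image_pair]; rfl, ← MonoidHom.map_closure]
  rintro ⟨_, g, hg, rfl⟩
  refine ⟨1, Subtype.ext ?_⟩
  rw [pow_one, Subgroup.coe_pow, Subgroup.coe_one, ← map_pow]
  exact (QuotientGroup.eq_one_iff _).mpr (hpow g ((closure_le St).mpr hgen hg))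

theorem exists_mul_eq {p : ℕ} [Fact p.Prime] {z : G} (hz : z ^ p = 1) {c : ℤ}
    (hc : z ^ c ≠ 1) (a : ℤ) : ∃ j : ℕ, z ^ (c * j) = z ^ a := by
  have hc0 : (c : ZMod p) ≠ 0 := by
    intro h
    obtain ⟨k, hk⟩ := (ZMod.intCast_zmod_eq_zero_iff_dvd c p).mp h
    apply hc
    rw [hk, zpow_mul, zpow_natCast, hz, one_zpow]
  refine ⟨((a : ZMod p) / c).val, ?_⟩
  have h : ((c * (((a : ZMod p) / c).val : ℤ) : ℤ) : ZMod p) = (a : ZMod p) := by
    push_cast
    rw [ZMod.natCast_zmod_val, mul_div_cancel₀ _ hc0]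
  obtain ⟨k, hk⟩ := (ZMod.intCast_eq_intCast_iff_dvd_sub _ _ p).mp h
  conv_rhs => rw [show a = c * (((a : ZMod p) / c).val : ℤ) + (p : ℤ) * k by omega, zpow_add,
    zpow_mul z (p : ℤ) k, zpow_natCast, hz, one_zpow, mul_one]

open scoped Pointwise in
/-- A transvection which is a `p`-th root of its centre lies in `O_p`. -/
theorem mem_pCore_of_root {G : Type*} [Group G] [Finite G] {p : ℕ} [hp : Fact p.Prime] (hp2 : p ≠ 2)
    (V : Subgroup G) [V.Normal] (hab : ∀ v ∈ V, ∀ w ∈ V, Commute v w) (hexp : ∀ v ∈ V, v ^ p = 1)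
    (hCV : centralizer (V : Set G) = V) {x : G} (hyV : x ^ p ∈ V)
    (hx : ∀ v ∈ V, ∃ a : ℤ, x * v * x⁻¹ = (x ^ p) ^ a * v) :
    (QuotientGroup.mk x : G ⧸ centralizer (V : Set G)) ∈
      Cfsg.pCore p (G ⧸ centralizer (V : Set G)) := by
  set C := centralizer (V : Set G) with hC
  obtain ⟨y, hy⟩ : ∃ y, y = x ^ p := ⟨_, rfl⟩
  rw [← hy] at hyV hx
  by_cases hy1 : y = 1
  · have : x ∈ C := mem_centralizer_iff.mpr fun v hv => by
      obtain ⟨a, ha⟩ := hx v hv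
      rw [hy1, one_zpow, one_mul] at ha
      exact (mul_inv_eq_iff_eq_mul.mp ha).symm
    rw [(QuotientGroup.eq_one_iff x).mpr this]
    exact one_mem _
  have hxy : x * y * x⁻¹ = y := by rw [hy, ← pow_succ', pow_succ, mul_inv_cancel_right]
  suffices h : ∀ g : G ⧸ C, IsPGroup p ↥(closure ({(x : G ⧸ C), g * (x : G ⧸ C) * g⁻¹} :
      Set (G ⧸ C))) by
    obtain ⟨M, hMn, hMp, hxM⟩ := Cfsg.Agent.Invol.baerSuzuki_element h
    exact Cfsg.Agent.Basics.le_pCore (hN := hMn) hMp hxM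
  intro g
  induction g using QuotientGroup.induction_on with
  | H g =>
  obtain ⟨x', hx'def⟩ : ∃ x', x' = g * x * g⁻¹ := ⟨_, rfl⟩
  obtain ⟨y', hy'def⟩ : ∃ y', y' = g * y * g⁻¹ := ⟨_, rfl⟩
  have hy'V : y' ∈ V := hy'def ▸ (inferInstance : V.Normal).conj_mem y hyV g
  have hx'y' : x' * y' * x'⁻¹ = y' := by
    calc x' * y' * x'⁻¹ = g * (x * y * x⁻¹) * g⁻¹ := by rw [hx'def, hy'def]; group
      _ = y' := by rw [hxy, hy'def]
  have hx' : ∀ v ∈ V, ∃ a : ℤ, x' * v * x'⁻¹ = y' ^ a * v := by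
    intro v hv
    have hv' : g⁻¹ * v * g ∈ V := by simpa using (inferInstance : V.Normal).conj_mem v hv g⁻¹
    obtain ⟨a, ha⟩ := hx _ hv'
    refine ⟨a, ?_⟩
    calc x' * v * x'⁻¹ = g * (x * (g⁻¹ * v * g) * x⁻¹) * g⁻¹ := by rw [hx'def]; group
      _ = y' ^ a * v := by rw [ha, hy'def, conj_zpow]; group
  obtain ⟨c, hc⟩ := hx y' hy'V
  obtain ⟨d, hd⟩ := hx' y hyV
  rw [show (g : G ⧸ C) * (x : G ⧸ C) * (g : G ⧸ C)⁻¹ = ((x' : G) : G ⧸ C) by rw [hx'def]; rfl]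
  by_cases hc1 : y ^ c = 1
  · exact isPGroup_pair hp2 V hab hexp hyV hy'V hxy (by rw [hc, hc1, one_mul]) hx'y' hx hx'
  by_cases hd1 : y' ^ d = 1
  · rw [Set.pair_comm]
    exact isPGroup_pair hp2 V hab hexp hy'V hyV hx'y' (by rw [hd, hd1, one_mul]) hxy hx' hx
  exfalso
  have hyp : y ^ p = 1 := hexp y hyV
  have hy'p : y' ^ p = 1 := hexp y' hy'V
  have hzc : ∀ i j : ℤ, Commute (y ^ i) (y' ^ j) := fun i j =>
    (hab y hyV y' hy'V).zpow_zpow i j
  have transfer : ∀ i j : ℤ, y ^ i = y ^ j → y' ^ i = y' ^ j := fun i j h => by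
    rw [hy'def, conj_zpow, conj_zpow, h]
  -- an exponent `m` with `c * m ≡ -1`
  obtain ⟨k₁, hk₁⟩ := exists_mul_eq hyp hc1 (-1)
  obtain ⟨k, hk⟩ := exists_mul_eq hy'p hd1 k₁
  set b := x' ^ k with hb
  set m : ℤ := (k₁ : ℤ) with hm
  have hby' : b * y' * b⁻¹ = y' := by
    have h := pow_conj_eq (a := 0) hx'y' (by rw [zpow_zero, one_mul, hx'y']) k
    rwa [zero_mul, zpow_zero, one_mul] at h
  have hby : b * y * b⁻¹ = y' ^ m * y := by
    rw [hb, pow_conj_eq hx'y' hd k, hk]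
  have hcm : y ^ (c * m) = y⁻¹ := by rw [hk₁, zpow_neg_one]
  have hcm' : y' ^ (c * m) = y'⁻¹ := by rw [transfer _ (-1) hk₁, zpow_neg_one]
  set w₀ := x * b * x with hw₀
  have hw1 : w₀ * y * w₀⁻¹ = y' ^ m := by
    rw [hw₀, conj_mul_left, hxy, conj_mul_left, hby, conj_mul_right, ← conj_zpow, hc, hxy,
      ((hab y hyV y' hy'V).zpow_left c).mul_zpow, ← zpow_mul, hcm, mul_assoc,
      ((hab y' hy'V y hyV).zpow_left m).eq, inv_mul_cancel_left]
  have hw2 : w₀ * y' * w₀⁻¹ = y ^ c := by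
    rw [hw₀, conj_mul_left, hc, conj_mul_left, conj_mul_right b, ← conj_zpow, hby, hby',
      ((hab y' hy'V y hyV).zpow_left m).mul_zpow, ← zpow_mul, mul_comm m c, hcm', mul_assoc y'⁻¹,
      (show y ^ c * y' = y' * y ^ c from ((hab y hyV y' hy'V).zpow_left c).eq), inv_mul_cancel_left,
      ← conj_zpow, hxy]
  obtain ⟨t₀, ht₀⟩ : ∃ t₀, t₀ = w₀ * w₀ := ⟨_, rfl⟩
  have ht1 : t₀ * y * t₀⁻¹ = y⁻¹ := by
    rw [ht₀, conj_mul_left, hw1, ← conj_zpow, hw2, ← zpow_mul, hcm]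
  have ht2 : t₀ * y' * t₀⁻¹ = y'⁻¹ := by
    rw [ht₀, conj_mul_left, hw2, ← conj_zpow, hw1, ← zpow_mul, mul_comm m c, hcm']
  have hfix : ∀ u, x * u * x⁻¹ = u → x' * u * x'⁻¹ = u → t₀ * u * t₀⁻¹ = u := by
    intro u h1 h2
    have hb' : b * u * b⁻¹ = u := by
      have h := pow_conj_eq (x := x') (v := u) (a := 0) (z := (1 : G)) (by group) (by rw [zpow_zero, one_mul, h2]) k
      rwa [one_zpow, one_mul] at h
    have hw : w₀ * u * w₀⁻¹ = u := by
      rw [hw₀, conj_mul_left, h1, conj_mul_left, hb', h1]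
    rw [ht₀, conj_mul_left, hw, hw]
  have agree : ∀ g₁ g₂ : G, g₁ * y * g₁⁻¹ = g₂ * y * g₂⁻¹ → g₁ * y' * g₁⁻¹ = g₂ * y' * g₂⁻¹ →
      (∀ u ∈ V, x * u * x⁻¹ = u → x' * u * x'⁻¹ = u → g₁ * u * g₁⁻¹ = g₂ * u * g₂⁻¹) →
      g₂⁻¹ * g₁ ∈ V := by
    intro g₁ g₂ h1 h2 h3
    rw [← hCV]
    refine mem_centralizer_iff.mpr fun v hv => ?_
    obtain ⟨a, ha⟩ := hx v hv
    obtain ⟨e, he⟩ := hx' v hv
    obtain ⟨j, hj⟩ := exists_mul_eq hyp hc1 a
    obtain ⟨i, hi⟩ := exists_mul_eq hy'p hd1 e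
    obtain ⟨u, hu⟩ : ∃ u, u = (y ^ (i : ℤ) * y' ^ (j : ℤ))⁻¹ * v := ⟨_, rfl⟩
    have hwV : y ^ (i : ℤ) * y' ^ (j : ℤ) ∈ V := mul_mem (zpow_mem hyV _) (zpow_mem hy'V _)
    have huV : u ∈ V := hu ▸ mul_mem (inv_mem hwV) hv
    have hv' : v = y ^ (i : ℤ) * y' ^ (j : ℤ) * u := by rw [hu, mul_inv_cancel_left]
    have hu1 : x * u * x⁻¹ = u := by
      have h : x * v * x⁻¹ = y ^ a * v := ha
      rw [hv', conj_mul_right, conj_mul_right, ← conj_zpow, ← conj_zpow, hxy, hc,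
        ((hab y hyV y' hy'V).zpow_left c).mul_zpow, ← zpow_mul, hj] at h
      have h' : y ^ a * (y ^ (i : ℤ) * y' ^ (j : ℤ)) * (x * u * x⁻¹) =
          y ^ a * (y ^ (i : ℤ) * y' ^ (j : ℤ)) * u := by
        calc y ^ a * (y ^ (i : ℤ) * y' ^ (j : ℤ)) * (x * u * x⁻¹)
            = y ^ (i : ℤ) * (y ^ a * y' ^ (j : ℤ)) * (x * u * x⁻¹) := by
              rw [← mul_assoc (y ^ a), Commute.zpow_zpow_self y a i, mul_assoc (y ^ (i : ℤ))]
          _ = _ := by rw [h]; simp only [mul_assoc]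
      exact mul_left_cancel h'
    have hu2 : x' * u * x'⁻¹ = u := by
      have h : x' * v * x'⁻¹ = y' ^ e * v := he
      rw [hv', conj_mul_right, conj_mul_right, ← conj_zpow, ← conj_zpow, hx'y', hd,
        ((hab y' hy'V y hyV).zpow_left d).mul_zpow, ← zpow_mul, hi] at h
      exact mul_left_cancel (h.trans (by simp only [mul_assoc]))
    have key : g₁ * v * g₁⁻¹ = g₂ * v * g₂⁻¹ := by
      rw [hv', conj_mul_right, conj_mul_right, conj_mul_right g₂, conj_mul_right g₂, ← conj_zpow,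
        ← conj_zpow, ← conj_zpow, ← conj_zpow, h1, h2, h3 u huV hu1 hu2]
    calc v * (g₂⁻¹ * g₁) = g₂⁻¹ * (g₂ * v * g₂⁻¹) * g₁ := by group
      _ = g₂⁻¹ * (g₁ * v * g₁⁻¹) * g₁ := by rw [key]
      _ = g₂⁻¹ * g₁ * v := by group
  have ht02 : t₀ * t₀ ∈ V := by
    have h := agree (t₀ * t₀) 1
      (by rw [conj_mul_left, ht1, ← conj_inv, ht1]; group)
      (by rw [conj_mul_left, ht2, ← conj_inv, ht2]; group)
      (fun u _ h1 h2 => by rw [conj_mul_left, hfix u h1 h2, hfix u h1 h2]; group)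
    simpa using h
  have htx : (x * t₀)⁻¹ * (t₀ * x) ∈ V := agree (t₀ * x) (x * t₀)
    (by rw [conj_mul_left, hxy, ht1, conj_mul_left, ht1, ← conj_inv, hxy])
    (by rw [conj_mul_left, hc, conj_mul_right, ← conj_zpow, ht1, ht2, conj_mul_left, ht2,
          ← conj_inv, hc, mul_inv_rev, inv_zpow, ((hab y' hy'V y hyV).zpow_right c).inv_inv.eq])
    (fun u _ h1 h2 => by rw [conj_mul_left, h1, hfix u h1 h2, conj_mul_left, hfix u h1 h2, h1])
  obtain ⟨h, hh⟩ := hp.out.odd_of_ne_two hp2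
  obtain ⟨t, ht⟩ : ∃ t, t = t₀ ^ p := ⟨_, rfl⟩
  obtain ⟨s, hsV, hts⟩ : ∃ s ∈ V, t = t₀ * s := by
    refine ⟨(t₀ * t₀) ^ h, pow_mem ht02 _, ?_⟩
    rw [ht, hh, pow_succ', pow_mul, sq]
  have htt : t * t = 1 := by
    rw [ht, ← pow_add, ← two_mul, pow_mul, sq, hexp _ ht02]
  have hti : t⁻¹ = t := inv_eq_of_mul_eq_one_right htt
  have hty : t * y * t⁻¹ = y⁻¹ := by
    rw [hts, conj_mul_left, (hab s hsV y hyV).eq, mul_inv_cancel_right, ht1]
  obtain ⟨w, hwV, hw⟩ : ∃ w ∈ V, t * x * t = w * x := by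
    refine ⟨t * x * t * x⁻¹, ?_, (inv_mul_cancel_right _ x).symm⟩
    have e : t * x * t * x⁻¹ = t₀ * (s * (x * s⁻¹ * x⁻¹)) * t₀⁻¹ *
        ((x * t₀) * ((x * t₀)⁻¹ * (t₀ * x)) * (x * t₀)⁻¹) := by
      calc t * x * t * x⁻¹ = t * x * t⁻¹ * x⁻¹ := by rw [hti]
        _ = _ := by rw [hts]; group
    rw [e]
    exact mul_mem ((inferInstance : V.Normal).conj_mem _
        (mul_mem hsV ((inferInstance : V.Normal).conj_mem _ (inv_mem hsV) x)) t₀)
      ((inferInstance : V.Normal).conj_mem _ htx _)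
  have hwt : t * w * t⁻¹ = w⁻¹ := by
    refine eq_inv_of_mul_eq_one_left ?_
    calc t * w * t⁻¹ * w = t * (w * x) * (x⁻¹ * t⁻¹ * (w * x)) * x⁻¹ := by group
      _ = t * (t * x * t) * (x⁻¹ * t⁻¹ * (t * x * t)) * x⁻¹ := by rw [hw]
      _ = (t * t) * x * (t * t) * x⁻¹ := by group
      _ = 1 := by rw [htt]; group
  obtain ⟨q, hq⟩ : ∃ q, q = w ^ (h + 1) := ⟨_, rfl⟩
  have hqV : q ∈ V := hq ▸ pow_mem hwV _
  have hqw : q⁻¹ * w = q := by
    rw [inv_mul_eq_iff_eq_mul, hq, ← pow_add, show h + 1 + (h + 1) = p + 1 by omega, pow_succ,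
      hexp w hwV, one_mul]
  have htu : t * (q * x) * t⁻¹ = q * x := by
    calc t * (q * x) * t⁻¹ = t * q * t⁻¹ * (t * x * t) := by
            rw [hti, show t * q * t * (t * x * t) = t * q * (t * t) * x * t by simp only [mul_assoc],
              htt, mul_one]
            simp only [mul_assoc]
      _ = q⁻¹ * (w * x) := by
        rw [hw, hq, ← conj_pow, hwt, inv_pow]
      _ = q * x := by rw [← mul_assoc, hqw]
  obtain ⟨a, ha⟩ := hx q hqV
  have hup : ∀ n : ℕ, (q * x) ^ n = q ^ n * y ^ (a * (n.choose 2 : ℕ)) * x ^ n := by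
    intro n
    induction n with
    | zero => simp
    | succ n ih =>
      calc (q * x) ^ (n + 1) = q * (x * (q ^ n * y ^ (a * (n.choose 2 : ℕ))) * x⁻¹) * (x * x ^ n) := by
            rw [pow_succ', ih]; group
        _ = q * ((y ^ a * q) ^ n * y ^ (a * (n.choose 2 : ℕ))) * x ^ (n + 1) := by
            rw [conj_mul_right, ← conj_pow, ← conj_zpow, ha, hxy, ← pow_succ']
        _ = q ^ (n + 1) * y ^ (a * ((n + 1).choose 2 : ℕ)) * x ^ (n + 1) := by
            rw [((hab y hyV q hqV).zpow_left a).mul_pow, Nat.choose_succ_succ, Nat.choose_one_right,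
              ← zpow_natCast (y ^ a) n, ← zpow_mul,
              (((hab y hyV q hqV).zpow_left (a * n)).pow_right n).eq]
            push_cast
            rw [mul_add, zpow_add, pow_succ' q n]
            simp only [mul_assoc]
  have hu : (q * x) ^ p = y := by
    obtain ⟨r, hr⟩ := hp.out.dvd_choose_self (k := 2) (by norm_num)
      (lt_of_le_of_ne hp.out.two_le (Ne.symm hp2))
    rw [hup p, hexp q hqV, one_mul, hr, Nat.cast_mul, mul_left_comm, zpow_mul y (p : ℤ),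
      zpow_natCast, hyp, one_zpow, one_mul, hy]
  have h1 : t * y * t⁻¹ = y := by rw [← hu, ← conj_pow, htu]
  rw [hty] at h1
  have h2 : y ^ 2 = 1 := by
    rw [sq]
    nth_rewrite 1 [← h1]
    exact inv_mul_cancel y
  have h3 : orderOf y ∣ Nat.gcd 2 p :=
    Nat.dvd_gcd (orderOf_dvd_of_pow_eq_one h2) (orderOf_dvd_of_pow_eq_one hyp)
  rw [show Nat.gcd 2 p = 1 from (Nat.coprime_primes Nat.prime_two hp.out).mpr (Ne.symm hp2)] at h3
  exact hy1 (orderOf_eq_one_iff.mp (Nat.dvd_one.mp h3))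

/-- The case of trivial `O_{p'}`. -/
theorem mem_pCore_of_cyclic {G : Type*} [Group G] [Finite G] {p : ℕ} [hp : Fact p.Prime]
    (hG : Cfsg.IsPSolvable p G) (hO : Cfsg.pPrimeCore p G = ⊥) (P : Sylow p G) {a : G}
    (haP : a ∈ (P : Subgroup G)) (hn : ∀ g ∈ (P : Subgroup G), g * a * g⁻¹ ∈ zpowers a)
    (h : p ≠ 2 ∨ ¬ Cfsg.Involves (Equiv.Perm (Fin 4)) G) : a ∈ Cfsg.pCore p G := by
  by_contra haQ
  have hcQ : centralizer (Cfsg.pCore p G : Set G) ≤ Cfsg.pCore p G :=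
    Cfsg.Agent.Transfer.centralizer_pCore_le_of_pSolvable hO
      (Cfsg.Agent.Transfer.isPSolvable_subgroup' hG _)
  have hker := Cfsg.Agent.Transfer.sectionKernel_frattini_eq hcQ
  set Q := Cfsg.pCore p G with hQ
  haveI : Q.Normal := Cfsg.Agent.Basics.pCore_normal p
  have hQp : IsPGroup p Q := Cfsg.Agent.Basics.pCore_isPGroup p
  have hQP : Q ≤ (P : Subgroup G) := Cfsg.Agent.Basics.pCore_le_sylow p P
  classical
  obtain ⟨j₀, hj₀⟩ : ∃ j, a ^ p ^ j ∈ Q := by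
    obtain ⟨k, hk⟩ := P.isPGroup' ⟨a, haP⟩
    exact ⟨k, by rw [show a ^ p ^ k = 1 from congrArg Subtype.val hk]; exact one_mem _⟩
  have hex : ∃ j, a ^ p ^ j ∈ Q := ⟨j₀, hj₀⟩
  have hj1 : Nat.find hex ≠ 0 := fun h0 => haQ (by
    have := Nat.find_spec hex
    rwa [h0, pow_zero, pow_one] at this)
  obtain ⟨j, hj⟩ := Nat.exists_eq_succ_of_ne_zero hj1
  set b := a ^ p ^ j with hb
  have hbQ : b ∉ Q := Nat.find_min hex (by omega)
  have hbp : b ^ p ∈ Q := by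
    have := Nat.find_spec hex
    rwa [hj, pow_succ, pow_mul] at this
  have hbn : ∀ v ∈ Q, ∃ l : ℤ, b * v * b⁻¹ = (b ^ p) ^ l * v := by
    intro v hv
    obtain ⟨i, hi⟩ := mem_zpowers_iff.mp (hn v (hQP hv))
    have h1 : v * b * v⁻¹ = b ^ i := by
      rw [hb, ← conj_pow, ← hi, ← zpow_natCast, ← zpow_mul, ← zpow_natCast, ← zpow_mul,
        mul_comm]
    have h2 : b * v * b⁻¹ = b ^ (1 - i) * v := by
      calc b * v * b⁻¹ = b * (v * b * v⁻¹)⁻¹ * v := by group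
        _ = b ^ (1 - i) * v := by rw [h1, zpow_sub, zpow_one]
    have h3 : b ^ (1 - i) ∈ Q := by
      rw [show b ^ (1 - i) = b * v * b⁻¹ * v⁻¹ by rw [h2, mul_inv_cancel_right]]
      exact mul_mem ((inferInstance : Q.Normal).conj_mem v hv b) (inv_mem hv)
    by_cases hd : (p : ℤ) ∣ (1 - i)
    · obtain ⟨l, hl⟩ := hd
      exact ⟨l, by rw [h2, hl, zpow_mul, zpow_natCast]⟩
    · exfalso
      obtain ⟨r, s, hrs⟩ := ((Nat.prime_iff_prime_int.mp hp.out).coprime_iff_not_dvd).mpr hd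
      apply hbQ
      have : b = (b ^ p) ^ r * (b ^ (1 - i)) ^ s := by
        rw [← zpow_natCast, ← zpow_mul, ← zpow_mul, ← zpow_add, mul_comm (p : ℤ), mul_comm (1 - i),
          hrs, zpow_one]
      rw [this]
      exact mul_mem (zpow_mem hbp _) (zpow_mem h3 _)
  set N := (frattini ↥Q).map Q.subtype with hN
  haveI : N.Normal := inferInstance
  set V := Q.map (QuotientGroup.mk' N) with hV
  haveI : V.Normal := Subgroup.Normal.map inferInstance _ (QuotientGroup.mk'_surjective N)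
  haveI : Group.IsNilpotent Q := hQp.isNilpotent
  have hab : ∀ v ∈ V, ∀ w ∈ V, Commute v w := by
    rintro _ ⟨u, hu, rfl⟩ _ ⟨w, hw, rfl⟩
    rw [← commutatorElement_eq_one_iff_commute, ← map_commutatorElement]
    exact (QuotientGroup.eq_one_iff _).mpr ⟨⁅(⟨u, hu⟩ : Q), ⟨w, hw⟩⁆,
      Cfsg.Agent.Basics.commutator_le_frattini (commutator_mem_commutator (mem_top _) (mem_top _)),
      rfl⟩
  have hexp : ∀ v ∈ V, v ^ p = 1 := by
    rintro _ ⟨u, hu, rfl⟩
    rw [← map_pow]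
    exact (QuotientGroup.eq_one_iff _).mpr
      ⟨⟨u, hu⟩ ^ p, Cfsg.Agent.Basics.pow_mem_frattini hQp _, rfl⟩
  have hCV : centralizer (V : Set (G ⧸ N)) = V := by
    rw [← map_comap_eq_self_of_surjective (QuotientGroup.mk'_surjective N)
      (centralizer (V : Set (G ⧸ N)))]
    exact congrArg (Subgroup.map (QuotientGroup.mk' N)) hker
  set x : G ⧸ N := QuotientGroup.mk' N b with hx
  have hyV : x ^ p ∈ V := by rw [hx, ← map_pow]; exact mem_map_of_mem _ hbp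
  have hxv : ∀ v ∈ V, ∃ l : ℤ, x * v * x⁻¹ = (x ^ p) ^ l * v := by
    rintro _ ⟨u, hu, rfl⟩
    obtain ⟨l, hl⟩ := hbn u hu
    exact ⟨l, by rw [hx, ← map_inv, ← map_mul, ← map_mul, hl, map_mul, map_zpow, map_pow]⟩
  have hmem : (QuotientGroup.mk x : (G ⧸ N) ⧸ centralizer (V : Set (G ⧸ N))) ∈
      Cfsg.pCore p ((G ⧸ N) ⧸ centralizer (V : Set (G ⧸ N))) := by
    by_cases hp2 : p = 2
    · subst hp2
      have hf : ¬ Cfsg.Involves (Equiv.Perm (Fin 4)) (G ⧸ N) := fun hI =>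
        h.resolve_left (by simp) (Cfsg.Agent.SL2Dickson.involves_of_quotient N hI)
      refine Cfsg.Agent.Transfer.mk_mem_pCore_of_transvection hf V hab
        (fun v hv => by rw [← sq]; exact hexp v hv) x (x ^ 2) hyV
        (by rw [← pow_succ', pow_succ, mul_inv_cancel_right]) fun v hv => ?_
      obtain ⟨l, hl⟩ := hxv v hv
      rcases Int.even_or_odd l with ⟨r, rfl⟩ | ⟨r, rfl⟩
      · left
        rw [hl, ← two_mul, zpow_mul, zpow_ofNat, hexp _ hyV, one_zpow, one_mul]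
      · right
        rw [hl, zpow_add_one, zpow_mul, zpow_ofNat, hexp _ hyV, one_zpow, one_mul]
    · exact mem_pCore_of_root hp2 V hab hexp hCV hyV hxv
  set M := ((Cfsg.pCore p ((G ⧸ N) ⧸ centralizer (V : Set (G ⧸ N)))).comap
    (QuotientGroup.mk' _)).comap (QuotientGroup.mk' N) with hM
  haveI : (Cfsg.pCore p ((G ⧸ N) ⧸ centralizer (V : Set (G ⧸ N)))).Normal :=
    Cfsg.Agent.Basics.pCore_normal p
  haveI : M.Normal := by rw [hM]; infer_instance
  have hMp : IsPGroup p M := by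
    refine ((Cfsg.Agent.Basics.pCore_isPGroup p).comap_of_ker_isPGroup _ ?_).comap_of_ker_isPGroup _ ?_
    · rw [QuotientGroup.ker_mk', hCV, hV]
      exact hQp.map _
    · rw [QuotientGroup.ker_mk', hN]
      exact hQp.to_le (map_subtype_le _)
  exact hbQ (Cfsg.Agent.Basics.le_pCore hMp hmem)

/-- Let G be a finite p-soluble group, P a Sylow p-subgroup of G and A a cyclic normal subgroup of P. If p is odd, or if no section of G is isomorphic to the symmetric group of degree 4, then A ≤ O_{p',p}(G). -/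
theorem result {G : Type*} [Group G] [Finite G] {p : ℕ} [Fact p.Prime] (hG : Cfsg.IsPSolvable p G) (P : Sylow p G) (A : Subgroup G) (hAP : A ≤ (P : Subgroup G)) (hAn : (P : Subgroup G) ≤ Subgroup.normalizer (A : Set G)) (hA : IsCyclic A) (h : p ≠ 2 ∨ ¬ Cfsg.Involves (Equiv.Perm (Fin 4)) G) : A ≤ Cfsg.pPrimePCore p G := by
  haveI := hA
  haveI : (Cfsg.pPrimeCore p G).Normal := Cfsg.Agent.Basics.pPrimeCore_normal p
  obtain ⟨a₀, ha₀⟩ := IsCyclic.exists_generator (α := A)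
  set π := QuotientGroup.mk' (Cfsg.pPrimeCore p G) with hπ
  have hgen : ∀ g ∈ A, g ∈ Subgroup.zpowers (a₀ : G) := by
    intro g hg
    obtain ⟨i, hi⟩ := ha₀ ⟨g, hg⟩
    exact ⟨i, congrArg Subtype.val hi⟩
  have key : π (a₀ : G) ∈ Cfsg.pCore p (G ⧸ Cfsg.pPrimeCore p G) := by
    refine mem_pCore_of_cyclic (Cfsg.Agent.Coprime23.isPSolvable_map π (QuotientGroup.mk'_surjective _) hG)
      (Cfsg.Agent.Basics.pPrimeCore_quotient_eq_bot p)
      (P.mapSurjective (QuotientGroup.mk'_surjective _))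
      (Subgroup.mem_map_of_mem π (hAP a₀.2)) ?_
      (h.imp id fun hI hI' => hI (Cfsg.Agent.SL2Dickson.involves_of_quotient _ hI'))
    rintro _ ⟨g, hg, rfl⟩
    obtain ⟨i, hi⟩ := hgen _ ((Subgroup.mem_normalizer_iff.mp (hAn hg) _).mp a₀.2)
    exact ⟨i, by show (π (a₀ : G)) ^ i = _; rw [← map_zpow, ← map_inv, ← map_mul, ← map_mul]; exact congrArg π hi⟩
  intro x hx
  obtain ⟨i, rfl⟩ := hgen x hx
  exact Subgroup.zpow_mem (Cfsg.pPrimePCore p G) (Subgroup.mem_comap.mpr key) i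

end Cfsg.Agent.S3788
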