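import Cfsg.Statements.S3790
import Cfsg.Agent.Lib.Coprime23.UpperSeries

set_option autoImplicit false
open Cfsg

namespace Cfsg.Agent.S3790

theorem exists_pCore_ne_bot' {H : Type*} [Group H] [Finite H] [Group.IsSolvable H] [Nontrivial H] :
    ∃ s : ℕ, s.Prime ∧ s ∣ Nat.card H ∧ Cfsg.pCore s H ≠ ⊥ := by
  have h := Cfsg.Agent.Basics.fittingSubgroup_ne_bot (G := H)
  rw [Cfsg.Agent.Basics.fittingSubgroup_eq_iSup_pCore] at h
  by_contra hcon
  refine h (iSup_eq_bot.mpr fun s => ?_)
  by_contra hs
  haveI : Fact (s : ℕ).Prime := ⟨s.2⟩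
  rcases (Cfsg.Agent.Basics.pCore_isPGroup (G := H) s).card_eq_or_dvd with h1 | h1
  · exact hs (Subgroup.card_eq_one.mp h1)
  · exact hcon ⟨s, s.2, h1.trans (Subgroup.card_subgroup_dvd_card _), hs⟩

theorem card_quotient_lt' {H : Type*} [Group H] [Finite H] {N : Subgroup H} (hN : N ≠ ⊥) :
    Nat.card (H ⧸ N) < Nat.card H := by
  rw [Subgroup.card_eq_card_quotient_mul_card_subgroup N]
  exact lt_mul_of_one_lt_right Nat.card_pos (Subgroup.one_lt_card_iff_ne_bot _ |>.mpr hN)

universe u

theorem key {r : ℕ} (q : Fin r → ℕ) (p : ℕ) [Fact p.Prime] (hq : ∀ i, (q i).Prime ∧ q i ≠ p) :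
    ∀ (m : ℕ) (H : Type u) [Group H] [Finite H] [Group.IsSolvable H], Nat.card H = m →
      (∀ s : ℕ, s.Prime → s ∣ Nat.card H → s ≠ p → ∃ i, q i = s) →
      ∀ l : Fin r → ℕ, (∀ i, Cfsg.PLengthLE (q i) (l i) H) →
        Cfsg.PLengthLE p (∏ i, (1 + l i)) H := by
  intro m
  induction m using Nat.strong_induction_on with
  | _ m ih =>
    have inter : ∀ (H : Type u) [Group H] [Finite H] [Group.IsSolvable H], Nat.card H ≤ m →
        (∀ s : ℕ, s.Prime → s ∣ Nat.card H → s ≠ p → ∃ i, q i = s) → Cfsg.pCore p H = ⊥ →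
        ∀ l : Fin r → ℕ, (∀ i, Cfsg.PLengthLE (q i) (l i) H) →
          Cfsg.PLengthLE p ((∏ i, (1 + l i)) - 1) H := by
      intro H _ _ _ hm hcover hcore l hl
      let N : Fin r → Subgroup H := fun i => Cfsg.pPrimeCore (q i) H
      haveI : ∀ i, (N i).Normal := fun i => Cfsg.Agent.Basics.pPrimeCore_normal _
      refine Cfsg.Agent.Coprime23.pLengthLE_of_subdirect N ?_ fun i => ?_
      · set X := ⨅ i, N i with hX
        haveI : X.Normal := Subgroup.normal_iInf_normal fun i => inferInstance
        have hpg : IsPGroup p X := by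
          refine IsPGroup.of_card (n := (Nat.card X).primeFactorsList.length)
            (Nat.eq_prime_pow_of_unique_prime_dvd Nat.card_pos.ne' fun {s} hs hsd => ?_)
          by_contra hsne
          obtain ⟨i, rfl⟩ := hcover s hs (hsd.trans (Subgroup.card_subgroup_dvd_card _)) hsne
          haveI := Fact.mk hs
          exact Cfsg.Agent.Basics.not_dvd_card_pPrimeCore (G := H) (q i)
            (hsd.trans (Subgroup.card_dvd_of_le (iInf_le N i)))
        exact le_bot_iff.mp (le_of_le_of_eq (Cfsg.Agent.Basics.le_pCore hpg) hcore)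
      haveI := Fact.mk (hq i).1
      have hl' : ∀ j, Cfsg.PLengthLE (q j) (l j) (H ⧸ N i) := fun j => by
        haveI := Fact.mk (hq j).1
        exact Cfsg.Agent.Coprime23.pLengthLE_map (QuotientGroup.mk' (N i))
          (QuotientGroup.mk'_surjective _) (hl j)
      have hO : Cfsg.pPrimeCore (q i) (H ⧸ N i) = ⊥ :=
        Cfsg.Agent.Basics.pPrimeCore_quotient_eq_bot _
      rcases subsingleton_or_nontrivial (H ⧸ N i) with hs | hs
      · exact Subsingleton.elim _ _
      haveI : (Cfsg.pCore (q i) (H ⧸ N i)).Normal := Cfsg.Agent.Basics.pCore_normal _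
      have hne : Cfsg.pCore (q i) (H ⧸ N i) ≠ ⊥ := by
        obtain ⟨s, hsp, -, hsne⟩ := exists_pCore_ne_bot' (H := H ⧸ N i)
        haveI := Fact.mk hsp
        by_cases hsq : s = q i
        · exact hsq ▸ hsne
        · exfalso
          refine hsne (le_bot_iff.mp (le_of_le_of_eq ?_ hO))
          haveI : (Cfsg.pCore s (H ⧸ N i)).Normal := Cfsg.Agent.Basics.pCore_normal _
          refine Cfsg.Agent.Basics.le_pPrimeCore ?_
          obtain ⟨k, hk⟩ := IsPGroup.iff_card.mp
            (Cfsg.Agent.Basics.pCore_isPGroup (G := H ⧸ N i) s)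
          rw [hk]
          exact ((Nat.coprime_primes hsp (hq i).1).mpr hsq).pow_left k
      have hli : 1 ≤ l i := by
        by_contra hli
        have h1 := hl' i
        rw [show l i = 0 by omega] at h1
        exact bot_ne_top (Cfsg.Agent.Coprime23.eq_bot_of_pLengthLE_zero hO h1).symm
      set l' : Fin r → ℕ := Function.update l i (l i - 1) with hl'def
      set Q := (H ⧸ N i) ⧸ Cfsg.pCore (q i) (H ⧸ N i)
      have hlt : Nat.card Q < Nat.card H :=
        lt_of_lt_of_le (card_quotient_lt' hne)
          (Nat.le_of_dvd Nat.card_pos (Subgroup.card_quotient_dvd_card _))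
      have h1 : Cfsg.PLengthLE p (∏ j, (1 + l' j)) Q := by
        refine ih _ (lt_of_lt_of_le hlt hm) Q rfl (fun s hs hsd => hcover s hs ((hsd.trans
          (Subgroup.card_quotient_dvd_card _)).trans (Subgroup.card_quotient_dvd_card _))) l'
          fun j => ?_
        by_cases hj : j = i
        · subst hj
          rw [hl'def, Function.update_self]
          exact Cfsg.Agent.Coprime23.pLengthLE_quotient_pCore hO
            (by rw [show l j - 1 + 1 = l j by omega]; exact hl' j)
        · haveI := Fact.mk (hq j).1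
          rw [hl'def, Function.update_of_ne hj]
          exact Cfsg.Agent.Coprime23.pLengthLE_map (QuotientGroup.mk' _)
            (QuotientGroup.mk'_surjective _) (hl' j)
      have hprod : (∏ j, (1 + l' j)) ≤ (∏ j, (1 + l j)) - 1 := by
        have h : (∏ j, (1 + l' j)) < ∏ j, (1 + l j) := by
          refine Finset.prod_lt_prod (fun j _ => by omega) (fun j _ => ?_)
            ⟨i, Finset.mem_univ i, ?_⟩
          · rw [hl'def]
            by_cases hj : j = i
            · subst hj; rw [Function.update_self]; omega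
            · rw [Function.update_of_ne hj]
          · rw [hl'def, Function.update_self]; omega
        omega
      refine Cfsg.Agent.Coprime23.pLengthLE_mono hprod
        (Cfsg.Agent.Coprime23.pLengthLE_of_quotient_coprime (N := Cfsg.pCore (q i) (H ⧸ N i)) ?_ h1)
      obtain ⟨k, hk⟩ := IsPGroup.iff_card.mp
        (Cfsg.Agent.Basics.pCore_isPGroup (G := H ⧸ N i) (q i))
      rw [hk]
      exact ((Nat.coprime_primes (hq i).1 Fact.out).mpr (hq i).2).pow_left k
    intro H _ _ _ hm hcover l hl
    subst hm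
    haveI : (Cfsg.pPrimeCore p H).Normal := Cfsg.Agent.Basics.pPrimeCore_normal _
    haveI : (Cfsg.pCore p H).Normal := Cfsg.Agent.Basics.pCore_normal _
    have hquot : ∀ (N : Subgroup H) [N.Normal] (j : Fin r), Cfsg.PLengthLE (q j) (l j) (H ⧸ N) := by
      intro N _ j
      haveI := Fact.mk (hq j).1
      exact Cfsg.Agent.Coprime23.pLengthLE_map (QuotientGroup.mk' N)
        (QuotientGroup.mk'_surjective N) (hl j)
    by_cases hO : Cfsg.pPrimeCore p H = ⊥
    swap
    · exact Cfsg.Agent.Coprime23.pLengthLE_of_quotient_coprime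
        (Cfsg.Agent.Basics.pPrimeCore_coprime p) (ih _ (card_quotient_lt' hO) _ rfl
          (fun s hs hsd => hcover s hs (hsd.trans (Subgroup.card_quotient_dvd_card _))) l (hquot _))
    have h1 := inter (H ⧸ Cfsg.pCore p H)
      (Nat.le_of_dvd Nat.card_pos (Subgroup.card_quotient_dvd_card _))
      (fun s hs hsd => hcover s hs (hsd.trans (Subgroup.card_quotient_dvd_card _)))
      (Cfsg.Agent.Basics.pCore_quotient_eq_bot p) l (hquot _)
    have hpos : 1 ≤ ∏ i, (1 + l i) := Finset.one_le_prod fun i _ => by omega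
    have h2 := Cfsg.Agent.Coprime23.pLengthLE_succ_of_quotient_pCore hO h1
    rwa [Nat.sub_add_cancel hpos] at h2

/-- Let G be a finite solvable group and p a prime. Suppose p₁, …, p_r are distinct primes, all different from p, that include every prime dividing the order of G other than p, and that G has p_i-length at most l_i for each i. Then G has p-length at most the product of the numbers 1 + l_i. -/
theorem result {G : Type*} [Group G] [Finite G] (hG : Group.IsSolvable G) (p : ℕ) [Fact p.Prime] (r : ℕ) (q : Fin r → ℕ) (hq : ∀ i, (q i).Prime ∧ q i ≠ p) (hinj : Function.Injective q) (hcover : ∀ s : ℕ, s.Prime → s ∣ Nat.card G → s ≠ p → ∃ i, q i = s) (l : Fin r → ℕ) (hl : ∀ i, Cfsg.PLengthLE (q i) (l i) G) : Cfsg.PLengthLE p (Finset.univ.prod fun i => 1 + l i) G := by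
  haveI := hG
  exact key q p hq _ G rfl hcover l hl

end Cfsg.Agent.S3790
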