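import Cfsg.Statements.S3791
import Cfsg.Agent.Lib.Coprime23.UpperSeries

set_option autoImplicit false
open Cfsg

namespace Cfsg.Agent.S3791

theorem exists_pCore_ne_bot' {H : Type*} [Group H] [Finite H] [Group.IsSolvable H] [Nontrivial H] :
    ∃ s : ℕ, s.Prime ∧ s ∣ Nat.card H ∧ Cfsg.pCore s H ≠ ⊥ := by
  have h := Cfsg.Agent.Basics.fittingSubgroup_ne_bot (G := H)
  rw [Cfsg.Agent.Basics.fittingSubgroup_eq_iSup_pCore] at h
  by_contra hcon
  refine h (iSup_eq_bot.mpr fun s => ?_)
  by_contra hs
  haveI : Fact (s : ℕ).Prime := ⟨s.2⟩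
  rcases (Cfsg.Agent.Basics.pCore_isPGroup (G := H) s).card_eq_or_dvd with h1 | h1
  · exact hs (Subgroup.card_eq_one.mp h1)
  · exact hcon ⟨s, s.2, h1.trans (Subgroup.card_subgroup_dvd_card _), hs⟩

theorem card_quotient_lt' {H : Type*} [Group H] [Finite H] {N : Subgroup H} (hN : N ≠ ⊥) :
    Nat.card (H ⧸ N) < Nat.card H := by
  rw [Subgroup.card_eq_card_quotient_mul_card_subgroup N]
  exact lt_mul_of_one_lt_right Nat.card_pos (Subgroup.one_lt_card_iff_ne_bot _ |>.mpr hN)

universe u

theorem derivedSeries_add_le {H : Type*} [Group H] {N : Subgroup H} {a : ℕ}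
    (h : derivedSeries H a ≤ N) (b : ℕ) :
    derivedSeries H (a + b) ≤ (derivedSeries N b).map N.subtype := by
  induction b with
  | zero => rwa [derivedSeries_zero, ← MonoidHom.range_eq_map, Subgroup.range_subtype, Nat.add_zero]
  | succ b ih =>
    rw [← Nat.add_assoc, derivedSeries_succ, derivedSeries_succ, Subgroup.map_commutator]
    exact Subgroup.commutator_mono ih ih

theorem key {r : ℕ} (q : Fin r → ℕ) (hq : ∀ i, (q i).Prime) (d : Fin r → ℕ) :
    ∀ (m : ℕ) (H : Type u) [Group H] [Finite H] [Group.IsSolvable H], Nat.card H = m →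
      (∀ s : ℕ, s.Prime → s ∣ Nat.card H → ∃ i, q i = s) →
      (∀ i, ∀ P : Sylow (q i) H, derivedSeries ↥(P : Subgroup H) (d i) = ⊥) →
      ∀ l : Fin r → ℕ, (∀ i, Cfsg.PLengthLE (q i) (l i) H) →
        derivedSeries H (∑ i, d i * l i) = ⊥ := by
  intro m
  induction m using Nat.strong_induction_on with
  | _ m ih =>
    intro H _ _ _ hm hcover hd l hl
    subst hm
    rcases subsingleton_or_nontrivial H with hs | hs
    · exact Subsingleton.elim _ _
    obtain ⟨s, hsp, hsd, hsne⟩ := exists_pCore_ne_bot' (H := H)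
    obtain ⟨i, rfl⟩ := hcover s hsp hsd
    haveI := Fact.mk (hq i)
    haveI : (Cfsg.pCore (q i) H).Normal := Cfsg.Agent.Basics.pCore_normal _
    haveI : (Cfsg.pPrimeCore (q i) H).Normal := Cfsg.Agent.Basics.pPrimeCore_normal _
    have step : ∀ (N : Subgroup H) [N.Normal], N ≠ ⊥ → ∀ l' : Fin r → ℕ,
        (∀ j, Cfsg.PLengthLE (q j) (l' j) (H ⧸ N)) →
          derivedSeries H (∑ j, d j * l' j) ≤ N := by
      intro N _ hN l' hl'
      have h1 := ih _ (card_quotient_lt' hN) (H ⧸ N) rfl
        (fun s hs hsd => hcover s hs (hsd.trans (Subgroup.card_quotient_dvd_card _)))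
        (fun j => by
          haveI := Fact.mk (hq j)
          exact Cfsg.Agent.Coprime23.derivedSeries_sylow_map (QuotientGroup.mk' N)
            (QuotientGroup.mk'_surjective N) (hd j)) l' hl'
      rw [← map_derivedSeries_eq (f := QuotientGroup.mk' N) (QuotientGroup.mk'_surjective N),
        Subgroup.map_eq_bot_iff, QuotientGroup.ker_mk'] at h1
      exact h1
    have hquot : ∀ (N : Subgroup H) [N.Normal] (j : Fin r), Cfsg.PLengthLE (q j) (l j) (H ⧸ N) := by
      intro N _ j
      haveI := Fact.mk (hq j)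
      exact Cfsg.Agent.Coprime23.pLengthLE_map (QuotientGroup.mk' N)
        (QuotientGroup.mk'_surjective N) (hl j)
    by_cases hO : Cfsg.pPrimeCore (q i) H = ⊥
    swap
    · have h1 := step _ hO l (hquot _)
      have h2 := step _ hsne l (hquot _)
      refine le_bot_iff.mp (le_of_le_of_eq (le_inf h2 h1) (Subgroup.inf_eq_bot_of_coprime ?_))
      obtain ⟨k, hk⟩ := IsPGroup.iff_card.mp (Cfsg.Agent.Basics.pCore_isPGroup (G := H) (q i))
      rw [hk]
      exact (Cfsg.Agent.Basics.pPrimeCore_coprime (q i)).symm.pow_left k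
    have hli : 1 ≤ l i := by
      by_contra hli
      have h1 := hl i
      rw [show l i = 0 by omega] at h1
      exact bot_ne_top (Cfsg.Agent.Coprime23.eq_bot_of_pLengthLE_zero hO h1).symm
    set l' : Fin r → ℕ := Function.update l i (l i - 1) with hl'def
    have h1 := step _ hsne l' (fun j => by
      by_cases hj : j = i
      · subst hj
        rw [hl'def, Function.update_self]
        exact Cfsg.Agent.Coprime23.pLengthLE_quotient_pCore hO
          (by rw [show l j - 1 + 1 = l j by omega]; exact hl j)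
      · rw [hl'def, Function.update_of_ne hj]
        exact hquot _ j)
    have hsum : ∑ j, d j * l j = (∑ j, d j * l' j) + d i := by
      rw [← Finset.add_sum_erase _ _ (Finset.mem_univ i),
        ← Finset.add_sum_erase _ (fun j => d j * l' j) (Finset.mem_univ i),
        Finset.sum_congr rfl (fun j hj => by
          rw [hl'def, Function.update_of_ne (Finset.ne_of_mem_erase hj)]
          : ∀ j ∈ Finset.univ.erase i, d j * l' j = d j * l j)]
      simp only [hl'def, Function.update_self]
      obtain ⟨c, hc⟩ := Nat.exists_eq_add_of_le hli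
      rw [hc, Nat.add_sub_cancel_left]
      ring
    rw [hsum]
    refine le_bot_iff.mp ((derivedSeries_add_le h1 (d i)).trans ?_)
    let S : Sylow (q i) H := default
    have hle : Cfsg.pCore (q i) H ≤ (S : Subgroup H) := Cfsg.Agent.Basics.pCore_le_sylow _ S
    have h2 : (derivedSeries ↥(Cfsg.pCore (q i) H) (d i)).map (Subgroup.inclusion hle) ≤ ⊥ :=
      le_of_le_of_eq (map_derivedSeries_le_derivedSeries _ _) (hd i S)
    rw [le_bot_iff, Subgroup.map_eq_bot_iff_of_injective _ (Subgroup.inclusion_injective hle)] at h2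
    rw [h2, Subgroup.map_bot]

/-- The Hall–Higman bound on derived length: let G be a finite solvable group, let p₁, …, p_r be distinct primes that include every prime dividing the order of G, and suppose that for each i the Sylow p_i-subgroups of G have derived length at most d_i and G has p_i-length at most l_i. Then G has derived length at most Σ d_i l_i. -/
theorem result {G : Type*} [Group G] [Finite G] (hG : Group.IsSolvable G) (r : ℕ) (q : Fin r → ℕ) (hq : ∀ i, (q i).Prime) (hinj : Function.Injective q) (hcover : ∀ s : ℕ, s.Prime → s ∣ Nat.card G → ∃ i, q i = s) (d l : Fin r → ℕ) (hd : ∀ i, ∀ P : Subgroup G, (haveI := Fact.mk (hq i); ∃ S : Sylow (q i) G, (S : Subgroup G) = P) → derivedSeries ↥P (d i) = ⊥) (hl : ∀ i, Cfsg.PLengthLE (q i) (l i) G) : derivedSeries G (Finset.univ.sum fun i => d i * l i) = ⊥ := by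
  haveI := hG
  exact key q hq d _ G rfl hcover
    (fun i P => hd i (P : Subgroup G) (by haveI := Fact.mk (hq i); exact ⟨P, rfl⟩)) l hl

end Cfsg.Agent.S3791
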