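import Cfsg.Statements.S3794
import Cfsg.Agent.Lib.Fpf.Four

set_option autoImplicit false
open Cfsg

namespace Cfsg.Agent.S3794

/-- Let G be a finite solvable group with an automorphism σ satisfying σ⁴ = 1 and fixing only the identity. Then the derived subgroup G' is nilpotent. -/
theorem result {G : Type*} [Group G] [Finite G] (hG : Group.IsSolvable G) (σ : MulAut G) (hσ : σ ^ 4 = 1) (hfpf : ∀ g : G, σ g = g → g = 1) : Group.IsNilpotent (commutator G) := by
  let A := Subgroup.zpowers σ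
  haveI : Finite A := Finite.of_injective (fun a : A => ((a : MulAut G) : G → G))
    fun a b h => Subtype.ext (MulEquiv.ext fun x => congrFun h x)
  let s : A := ⟨σ, Subgroup.mem_zpowers σ⟩
  have hs : ∀ a : A, a ∈ Subgroup.zpowers s := by
    rintro ⟨a, ha⟩
    obtain ⟨k, rfl⟩ := Subgroup.mem_zpowers_iff.mp ha
    exact ⟨k, Subtype.ext (by simp [s])⟩
  have hs4 : s ^ 4 = 1 := Subtype.ext hσ
  let φ : A →* MulAut G := A.subtype
  have hf : Fpf.Free φ := fun g h => hfpf g (h s)
  have hA : IsPGroup 2 A := fun a => ⟨2, by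
    obtain ⟨k, rfl⟩ := Subgroup.mem_zpowers_iff.mp (hs a)
    rw [← zpow_natCast, ← zpow_mul, mul_comm, zpow_mul, zpow_natCast]
    norm_num [hs4]⟩
  haveI := hG
  set F := Cfsg.fittingSubgroup G with hF
  have hτ := Fpf.mem_fitting_of_four hs hs4 φ hf
  set ψ := Fpf.quot F (Fpf.inv_char φ F)
  have hψf := hf.quot hA F (Fpf.inv_char φ F)
  have hinv : ∀ x : G ⧸ F, ψ (s ^ 2) x = x := by
    intro x
    obtain ⟨g, rfl⟩ := QuotientGroup.mk_surjective x
    exact (QuotientGroup.eq.mpr (hτ g)).symm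
  have hsurj : Function.Surjective fun h : G ⧸ F => h⁻¹ * ψ s h := by
    refine (Finite.injective_iff_surjective).mp fun a b hab => ?_
    have h1 : ψ s (b * a⁻¹) = b * a⁻¹ := by
      rw [map_mul, map_inv, mul_inv_eq_iff_eq_mul, mul_assoc]
      rw [show a⁻¹ * ψ s a = b⁻¹ * ψ s b from hab, mul_inv_cancel_left]
    exact (mul_inv_eq_one.mp (Fpf.free_of_gen hs hψf h1)).symm
  have hneg : ∀ x : G ⧸ F, ψ s x = x⁻¹ := by
    intro x
    obtain ⟨h, rfl⟩ := hsurj x
    show ψ s (h⁻¹ * ψ s h) = (h⁻¹ * ψ s h)⁻¹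
    rw [map_mul, map_inv, ← MulAut.mul_apply, ← map_mul, ← pow_two, hinv, mul_inv_rev, inv_inv]
  have hle : commutator G ≤ F := by
    rw [commutator_def, Subgroup.commutator_le]
    intro a _ b _
    rw [← QuotientGroup.eq_one_iff]
    show QuotientGroup.mk' F _ = 1
    rw [map_commutatorElement, commutatorElement_eq_one_iff_mul_comm]
    have h := map_mul (ψ s) (QuotientGroup.mk' F a) (QuotientGroup.mk' F b)
    rw [hneg, hneg, hneg, ← mul_inv_rev, inv_inj] at h
    exact h
  exact Group.nilpotent_of_mulEquiv (Subgroup.subgroupOfEquivOfLe hle)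

end Cfsg.Agent.S3794
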