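import Cfsg.Statements.S3796
import Cfsg.Agent.Lib.Fpf.Square

set_option autoImplicit false
open Cfsg

namespace Cfsg.Agent.S3796

/-- Ward's Theorem: let G be a finite solvable group and A an elementary abelian group of automorphisms of G of order p² (p a prime) with no non-identity common fixed point. Then G has Fitting height at most 2: G has Fitting height at most m when there is a chain of normal subgroups 1 = F₀ ≤ F₁ ≤ ⋯ ≤ F_m = G with each F_{i+1}/F_i nilpotent. -/
theorem result {G : Type*} [Group G] [Finite G] (hG : Group.IsSolvable G) {p : ℕ} (hp : p.Prime) (A : Subgroup (MulAut G)) (hA : Cfsg.IsElementaryAbelian p A) (hcard : Nat.card A = p ^ 2) (hfpf : ∀ g : G, (∀ a ∈ A, a g = g) → g = 1) : ∃ F : Fin (2 + 1) → Subgroup G, F 0 = ⊥ ∧ F (Fin.last 2) = ⊤ ∧ Monotone F ∧ (∀ i, (F i).Normal) ∧ ∀ i : Fin 2, ∃ k : ℕ, (F i.succ).lowerCentralSeries k ≤ F i.castSucc := by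
  haveI := hG
  haveI := Fact.mk hp
  haveI : Finite (MulAut G) := Finite.of_injective (fun f : MulAut G => (f : G → G))
    fun a b h => MulEquiv.ext fun x => congrFun h x
  let inst : CommGroup A :=
    { (inferInstance : Group A) with mul_comm := fun a b => hA.1.is_comm.comm a b }
  have hf : Fpf.Free A.subtype := fun g h => hfpf g fun a ha => h ⟨a, ha⟩
  have hq : Group.IsNilpotent (G ⧸ Cfsg.fittingSubgroup G) :=
    Fpf.isNilpotent_quotient_fitting hcard (fun a => Subtype.ext (hA.2 a a.2)) A.subtype hf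
  refine ⟨![⊥, Cfsg.fittingSubgroup G, ⊤], rfl, rfl, ?_, ?_, ?_⟩
  · refine Fin.monotone_iff_le_succ.mpr fun i => ?_
    fin_cases i <;> simp
  · intro i
    fin_cases i <;> simp <;> infer_instance
  · intro i
    fin_cases i
    · obtain ⟨k, hk⟩ := (Subgroup.isNilpotent_iff_lowerCentralSeries _).mp
        (inferInstance : Group.IsNilpotent (Cfsg.fittingSubgroup G))
      exact ⟨k, hk.le⟩
    · obtain ⟨k, hk⟩ := Subgroup.nilpotent_iff_lowerCentralSeries.mp hq
      refine ⟨k, ?_⟩
      show (⊤ : Subgroup G).lowerCentralSeries k ≤ Cfsg.fittingSubgroup G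
      have h := Subgroup.map_lowerCentralSeries (⊤ : Subgroup G)
        (QuotientGroup.mk' (Cfsg.fittingSubgroup G)) k
      rw [Subgroup.map_top_of_surjective _ (QuotientGroup.mk'_surjective _), hk,
        Subgroup.map_eq_bot_iff, QuotientGroup.ker_mk'] at h
      exact h

end Cfsg.Agent.S3796
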