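import Cfsg.Statements.S3798
import Cfsg.Agent.Lib.Coprime23.Conjugacy
import Cfsg.Agent.Lib.Coprime23.Omega
import Cfsg.Agent.Lib.Coprime23.PLength
import Cfsg.Agent.Lib.Coprime23.PSolv
import Cfsg.Agent.Lib.Components.PPrimeCore
import Cfsg.Agent.Lib.Components.Fitting

set_option autoImplicit false
open Cfsg

namespace Cfsg.Agent.S3798


universe u

open Subgroup

lemma core {K : Type u} [Group K] [Finite K] {p : ℕ} [Fact p.Prime] (hp : p ≠ 2)
    (hdvd : p ∣ Nat.card K) (hK : Cfsg.IsPSolvable p K) (hO : Cfsg.pPrimeCore p K = ⊥)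
    (htrans : ∀ U V : Subgroup K, Nat.card U = p → Nat.card V = p →
      ∃ a : MulAut K, U.map a.toMonoidHom = V) :
    ¬ p ∣ (Cfsg.pCore p K).index := by
  intro hidx
  haveI : Nontrivial K := Finite.one_lt_card_iff_nontrivial.mp
    ((Fact.out : p.Prime).one_lt.trans_le (Nat.le_of_dvd Nat.card_pos hdvd))
  set Q := Cfsg.pCore p K with hQdef
  have hQp : IsPGroup p Q := Components.sSup_isPGroup_of_normal
  have hQ1 : Q ≠ ⊥ := (Coprime23.exists_core_ne_bot hK).resolve_right (not_not.mpr hO)
  haveI : Nontrivial Q := Q.nontrivial_iff_ne_bot.mpr hQ1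
  -- transitivity on elements of order `p`
  have htr : ∀ x y : K, orderOf x = p → orderOf y = p →
      ∃ (a : MulAut K) (i : ℕ), a (x ^ i) = y := by
    intro x y hx hy
    obtain ⟨a, ha⟩ := htrans (zpowers x) (zpowers y) (by rw [Nat.card_zpowers, hx])
      (by rw [Nat.card_zpowers, hy])
    obtain ⟨z, hz, hzy⟩ := ha.symm.le (mem_zpowers y)
    obtain ⟨i, rfl⟩ :=
      Submonoid.mem_powers_iff _ _ |>.mp (mem_powers_iff_mem_zpowers.mpr hz)
    exact ⟨a, i, hzy⟩
  have hchar : ∀ (H : Subgroup K) (a : MulAut K), H.Characteristic → ∀ z ∈ H, a z ∈ H := by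
    intro H a hH z hz
    have := Subgroup.characteristic_iff_map_eq.mp hH a
    exact this.le (Subgroup.mem_map_of_mem _ hz)
  -- all elements of order `p` are central in `Q`
  have hZ : ∀ y : K, y ^ p = 1 → y ∈ (center Q).map Q.subtype := by
    intro y hy
    by_cases h1 : y = 1
    · rw [h1]; exact one_mem _
    have hyp : orderOf y = p := orderOf_eq_prime hy h1
    haveI : Nontrivial (center Q) := IsPGroup.center_nontrivial hQp
    obtain ⟨m, hm0, hm⟩ := (hQp.to_subgroup (center Q)).nontrivial_iff_card.mp inferInstance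
    obtain ⟨z, hz⟩ := exists_prime_orderOf_dvd_card' (G := center Q) p (hm ▸ dvd_pow_self p hm0.ne')
    obtain ⟨a, i, rfl⟩ := htr ((z : Q) : K) y (by rw [orderOf_coe, orderOf_coe, hz]) hyp
    have hc : ((center Q).map Q.subtype).Characteristic := inferInstance
    exact hchar _ a hc _ (pow_mem (mem_map_of_mem _ z.2) i)
  -- `M` is the preimage of the `p'`-core of `K / Q`
  set π := QuotientGroup.mk' Q with hπ
  have hπs : Function.Surjective π := QuotientGroup.mk'_surjective Q
  set Mb := Cfsg.pPrimeCore p (K ⧸ Q) with hMb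
  set M := Mb.comap π with hM
  have hQM : Q ≤ M := fun x hx => by
    rw [hM, mem_comap, hπ, QuotientGroup.mk'_apply, (QuotientGroup.eq_one_iff x).mpr hx]
    exact one_mem _
  have hMinv : ∀ (a : MulAut K), ∀ z ∈ M, a z ∈ M := by
    intro a z hz
    have he : Q.map a.toMonoidHom = Q := Components.map_pCore_equiv a
    let b := QuotientGroup.congr Q Q a he
    have hb : b (π z) = π (a z) := rfl
    rw [hM, mem_comap, ← hb]
    exact (Components.map_pPrimeCore_equiv (p := p) b).le (mem_map_of_mem _ hz)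
  have hMb1 : Mb ≠ ⊥ := by
    haveI : Nontrivial (K ⧸ Q) := Finite.one_lt_card_iff_nontrivial.mp
      ((Fact.out : p.Prime).one_lt.trans_le (Nat.le_of_dvd Nat.card_pos hidx))
    refine (Coprime23.exists_core_ne_bot (Coprime23.isPSolvable_map π hπs hK)).resolve_left ?_
    rw [not_not]
    have hle : (Cfsg.pCore p (K ⧸ Q)).comap π ≤ Q :=
      Components.le_pCore inferInstance
        (Components.sSup_isPGroup_of_normal.comap_of_ker_isPGroup π
          (by rw [hπ, QuotientGroup.ker_mk']; exact hQp))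
    rw [eq_bot_iff]
    intro x hx
    obtain ⟨y, rfl⟩ := hπs x
    rw [mem_bot, hπ, QuotientGroup.mk'_apply, QuotientGroup.eq_one_iff]
    exact hle hx
  have hMbc : (Nat.card Mb).Coprime p := Components.pPrimeCore_coprime
  have hQMidx : (Q.subgroupOf M).index = Nat.card Mb := by
    show Q.relIndex M = _
    conv_lhs => rw [← QuotientGroup.ker_mk' Q]
    rw [Subgroup.relIndex_ker, hM, map_comap_eq_self_of_surjective hπs]
  have hQc : Nat.card (Q.subgroupOf M) = Nat.card Q :=
    Nat.card_congr (subgroupOfEquivOfLe hQM).toEquiv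
  obtain ⟨kq, hkq⟩ := IsPGroup.iff_card.mp hQp
  have hcop : (Nat.card (Q.subgroupOf M)).Coprime (Q.subgroupOf M).index := by
    rw [hQc, hQMidx, hkq]
    exact (hMbc.symm).pow_left kq
  haveI : Group.IsSolvable (Q.subgroupOf M) := by
    haveI := (hQp.of_equiv (subgroupOfEquivOfLe hQM).symm).isNilpotent
    infer_instance
  obtain ⟨R₀, hR₀⟩ := exists_right_complement'_of_coprime hcop
  set R := R₀.map M.subtype with hR
  have hRM : R ≤ M := map_subtype_le _
  have hRc : Nat.card R = Nat.card Mb := by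
    rw [hR, card_map_of_injective M.subtype_injective, ← hQMidx, hR₀.symm.index_eq_card]
  have hQR : Q ⊓ R = ⊥ := by
    refine inf_eq_bot_of_coprime ?_
    rw [hRc, hkq]; exact hMbc.symm.pow_left kq
  have hQRM : Q ⊔ R = M := by
    refine le_antisymm (sup_le hQM hRM) fun m hm => ?_
    obtain ⟨⟨q, r⟩, hqr⟩ := hR₀.2 ⟨m, hm⟩
    rw [show m = ((q : M) : K) * ((r : M) : K) from (congrArg Subtype.val hqr).symm]
    exact mul_mem_sup q.2 (mem_map_of_mem _ r.2)
  -- every conjugate of `R` is conjugate to it by an element of `Q`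
  have hconj : ∀ g : K, ∃ n ∈ Q,
      R.map (MulAut.conj g).toMonoidHom = R.map (MulAut.conj n).toMonoidHom := by
    intro g
    set R' := R.map (MulAut.conj g).toMonoidHom with hR'
    have hR'M : R' ≤ M := by
      rintro _ ⟨x, hx, rfl⟩
      exact (show (Mb.comap π).Normal from inferInstance).conj_mem x (hRM hx) g
    have hcompl : (Q.subgroupOf M).IsComplement' (R'.subgroupOf M) := by
      have hc' : Nat.card (R'.subgroupOf M) = Nat.card Mb := by
        rw [Nat.card_congr (subgroupOfEquivOfLe hR'M).toEquiv, hR',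
          card_map_of_injective (MulAut.conj g).injective, hRc]
      refine isComplement'_of_coprime ?_ ?_
      · rw [hc', ← hQMidx, card_mul_index]
      · rw [hc', ← hQMidx]; exact hcop
    obtain ⟨n, hn, hn'⟩ := Coprime23.exists_conj_complement (Q.subgroupOf M) hcop R₀
      (R'.subgroupOf M) hR₀ hcompl
    refine ⟨n, hn, ?_⟩
    have h3 := congrArg (Subgroup.map M.subtype) hn'
    rw [map_subgroupOf_eq_of_le hR'M, Subgroup.map_map] at h3
    rw [h3, hR, Subgroup.map_map]
    rfl
  -- an element of order `p` normalising `R`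
  have hN : (normalizer (R : Set K)).map π = ⊤ := by
    rw [eq_top_iff]
    intro x _
    obtain ⟨g, rfl⟩ := hπs x
    obtain ⟨n, hn, hn'⟩ := hconj g
    refine ⟨n⁻¹ * g, ?_, ?_⟩
    · refine Components.mem_normalizer_of_map_conj_eq ?_
      have e : ∀ a b : K, (R.map (MulAut.conj b).toMonoidHom).map (MulAut.conj a).toMonoidHom =
          R.map (MulAut.conj (a * b)).toMonoidHom := by
        intro a b
        rw [Subgroup.map_map]
        congr 1
        ext y
        simp [mul_assoc]
      have h4 := congrArg (Subgroup.map (MulAut.conj n⁻¹).toMonoidHom) hn'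
      rw [e, e, inv_mul_cancel] at h4
      rw [h4]
      ext y
      simp
    · rw [map_mul, map_inv, hπ, QuotientGroup.mk'_apply, (QuotientGroup.eq_one_iff n).mpr hn,
        inv_one, one_mul]
  have hpN : p ∣ Nat.card (normalizer (R : Set K)) := by
    refine hidx.trans (dvd_trans ?_ (card_map_dvd (normalizer (R : Set K)) π))
    rw [hN, card_top]
    rfl
  obtain ⟨xN, hxN⟩ := exists_prime_orderOf_dvd_card' p hpN
  set x : K := xN.1 with hx
  have hxp : orderOf x = p := by rw [hx, orderOf_coe, hxN]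
  obtain ⟨xq, hxq, hxeq⟩ := hZ x (hxp ▸ pow_orderOf_eq_one x)
  have hxQ : x ∈ Q := hxeq ▸ xq.2
  have hxR : ∀ r ∈ R, Commute x r := by
    intro r hr
    have h1 : x * r * x⁻¹ * r⁻¹ ∈ Q ⊓ R := by
      refine ⟨?_, R.mul_mem ((mem_normalizer_iff.mp xN.2 r).mp hr) (R.inv_mem hr)⟩
      rw [mul_assoc, mul_assoc, ← mul_assoc r]
      exact Q.mul_mem hxQ ((show Q.Normal from inferInstance).conj_mem _ (Q.inv_mem hxQ) r)
    rw [hQR, mem_bot] at h1
    exact mul_inv_eq_iff_eq_mul.mp (mul_inv_eq_one.mp h1)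
  have hxM : M ≤ centralizer ({x} : Set K) := by
    rw [← hQRM, sup_le_iff]
    refine ⟨fun q hq => ?_, fun r hr => ?_⟩
    · rw [mem_centralizer_singleton_iff, ← hxeq]
      exact congrArg Subtype.val (mem_center_iff.mp hxq ⟨q, hq⟩)
    · rw [mem_centralizer_singleton_iff]
      exact (hxR r hr).eq.symm
  -- so `M` fixes all elements of order `p`
  have hfix : ∀ y : K, y ^ p = 1 → ∀ m ∈ M, m * y = y * m := by
    intro y hy m hm
    by_cases h1 : y = 1
    · simp [h1]
    obtain ⟨a, i, rfl⟩ := htr x y hxp (orderOf_eq_prime hy h1)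
    have h2 := mem_centralizer_singleton_iff.mp (hxM (hMinv a⁻¹ m hm))
    have h3 : Commute (a⁻¹ m) (x ^ i) := Commute.pow_right h2 i
    have h4 := h3.map a.toMonoidHom
    simpa [Commute, SemiconjBy] using h4
  have hRQ : ∀ r ∈ R, ∀ q ∈ Q, r * q * r⁻¹ = q := by
    intro r hr q hq
    set α : MulAut Q := MulAut.conjNormal r
    have hord : (orderOf α).Coprime p := by
      refine Nat.Coprime.coprime_dvd_left ?_ (hRc ▸ hMbc)
      have h1 : orderOf r ∣ Nat.card R := Subgroup.orderOf_dvd_natCard R hr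
      exact (orderOf_map_dvd _ r).trans h1
    have h2 := Coprime23.fix_of_fix_omega hQp hp α hord (fun z hz => by
      apply Subtype.ext
      rw [MulAut.conjNormal_apply]
      have := hfix (z : K) (by rw [← Subgroup.coe_pow, hz, Subgroup.coe_one]) r (hRM hr)
      rw [this, mul_inv_cancel_right]) ⟨q, hq⟩
    simpa [α] using congrArg Subtype.val h2
  -- hence `R` is normal, so trivial
  have hRn : R.Normal := by
    constructor
    intro r hr g
    obtain ⟨n, hn, hn'⟩ := hconj g
    have : g * r * g⁻¹ ∈ R.map (MulAut.conj n).toMonoidHom :=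
      hn' ▸ ⟨r, hr, rfl⟩
    obtain ⟨s, hs, hs'⟩ := this
    have h4 : n * s * n⁻¹ = s := by
      have h5 := hRQ s hs n hn
      rw [mul_inv_eq_iff_eq_mul] at h5 ⊢
      exact h5.symm
    rw [← hs']
    simpa [h4] using hs
  have hRbot : R = ⊥ :=
    eq_bot_iff.mpr (hO ▸ Components.le_pPrimeCore hRn (hRc ▸ hMbc))
  rw [hRbot, card_bot] at hRc
  exact hMb1 (eq_bot_of_card_eq _ hRc.symm)

/-- The Gaschütz–Yen Theorem: let G be a finite p-soluble group, p an odd prime dividing its order, such that the automorphism group of G permutes the subgroups of G of order p transitively. Then G has p-length at most 1. -/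
theorem result {G : Type*} [Group G] [Finite G] {p : ℕ} [Fact p.Prime] (hp : p ≠ 2) (hdvd : p ∣ Nat.card G) (hG : Cfsg.IsPSolvable p G) (htrans : ∀ U V : Subgroup G, Nat.card U = p → Nat.card V = p → ∃ a : MulAut G, U.map a.toMonoidHom = V) : Cfsg.PLengthLE p 1 G := by
  haveI : Fact p.Prime := inferInstance
  have hO := Components.pPrimeCore_coprime (p := p) (G := G)
  set A := Cfsg.pPrimeCore p G with hA
  set π := QuotientGroup.mk' A with hπ
  have hπs : Function.Surjective π := QuotientGroup.mk'_surjective A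
  have hlift : ∀ Ū : Subgroup (G ⧸ A), Nat.card Ū = p →
      ∃ U : Subgroup G, Nat.card U = p ∧ U.map π = Ū := by
    intro Ub hU
    haveI : IsCyclic Ub := isCyclic_of_prime_card hU
    obtain ⟨x, hx⟩ := IsCyclic.exists_ofOrder_eq_natCard (α := Ub)
    rw [hU] at hx
    have hx' : orderOf (x : G ⧸ A) = p := by rw [Subgroup.orderOf_coe, hx]
    obtain ⟨y, k, hy1, hy2⟩ : ∃ (y : G) (k : ℕ), y ^ p ^ k = 1 ∧ π y = x := by
      obtain ⟨y₀, hy₀⟩ := hπs (x : G ⧸ A)
      obtain ⟨k, m, hm, hk⟩ := Nat.exists_eq_pow_mul_and_not_dvd (orderOf_pos y₀).ne' p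
        (Fact.out : p.Prime).ne_one
      obtain ⟨e, he⟩ := Nat.exists_mul_mod_eq_one_of_coprime
        (((Fact.out : p.Prime).coprime_iff_not_dvd.mpr hm).symm) (Fact.out : p.Prime).one_lt
      refine ⟨y₀ ^ (m * e), k, ?_, ?_⟩
      · rw [← pow_mul, ← orderOf_dvd_iff_pow_eq_one, hk]
        exact ⟨e, by ring⟩
      · rw [map_pow, hy₀, ← pow_mod_orderOf, hx', he.2, pow_one]
    have hyp : y ^ p = 1 := by
      have h1 : y ^ p ∈ A := by
        rw [← QuotientGroup.eq_one_iff, QuotientGroup.mk_pow]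
        show π y ^ p = 1
        rw [hy2]
        have h2 := pow_orderOf_eq_one (x : G ⧸ A)
        rwa [hx'] at h2
      exact Components.eq_one_of_pow_prime_pow_of_coprime
        (hO.coprime_dvd_left (Subgroup.orderOf_dvd_natCard A h1)) (x := y ^ p) (k := k)
        (by rw [← pow_mul, ← orderOf_dvd_iff_pow_eq_one]
            exact (orderOf_dvd_iff_pow_eq_one.mpr hy1).trans (dvd_mul_left _ _))
        (pow_orderOf_eq_one _)
    have hyo : orderOf y = p := orderOf_eq_prime hyp (by
      rintro rfl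
      rw [map_one] at hy2
      exact (Fact.out : p.Prime).ne_one (by rw [← hx', ← hy2, orderOf_one]))
    refine ⟨Subgroup.zpowers y, by rw [Nat.card_zpowers, hyo], ?_⟩
    rw [MonoidHom.map_zpowers, hy2]
    refine Subgroup.eq_of_le_of_card_ge (Subgroup.zpowers_le.mpr x.2) ?_
    rw [hU, Nat.card_zpowers, hx']
  have hidx : ¬ p ∣ (Cfsg.pCore p (G ⧸ A)).index := by
    refine core hp ?_ (Coprime23.isPSolvable_map π hπs hG) Components.pPrimeCore_quotient_eq_bot
      (fun U V hU hV => ?_)
    · have h1 : p ∣ Nat.card (G ⧸ A) * Nat.card A :=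
        A.card_eq_card_quotient_mul_card_subgroup ▸ hdvd
      exact (Nat.Coprime.dvd_of_dvd_mul_right hO.symm h1)
    · obtain ⟨U', hU', rfl⟩ := hlift U hU
      obtain ⟨V', hV', rfl⟩ := hlift V hV
      obtain ⟨a, rfl⟩ := htrans U' V' hU' hV'
      have he : A.map a.toMonoidHom = A := Components.map_pPrimeCore_equiv a
      refine ⟨QuotientGroup.congr A A a he, ?_⟩
      rw [Subgroup.map_map, Subgroup.map_map]
      rfl
  refine Coprime23.pLengthLE_one_of_series A ((Cfsg.pCore p (G ⧸ A)).comap π) hO ?_ ?_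
  · have h1 := Subgroup.relIndex_ker (f := π) (K := (Cfsg.pCore p (G ⧸ A)).comap π)
    rw [hπ, QuotientGroup.ker_mk', ← hπ, Subgroup.map_comap_eq_self_of_surjective hπs] at h1
    rw [h1]
    exact IsPGroup.iff_card.mp Components.sSup_isPGroup_of_normal
  · rw [Subgroup.index_comap_of_surjective _ hπs]
    exact ((Fact.out : p.Prime).coprime_iff_not_dvd.mpr hidx).symm

end Cfsg.Agent.S3798
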