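import Cfsg.Statements.S3799
import Cfsg.Agent.Lib.LocalEvenA.FrattiniP
import Cfsg.Agent.Lib.Basics.Frattini

set_option autoImplicit false
open Cfsg
open scoped commutatorElement

namespace Cfsg.Agent.S3799

open Matrix

variable (p : ℕ) [Fact p.Prime] (n : ℕ)

/-- Put a vector in the middle coordinates. -/
def mid (a : Fin n → ZMod p) : Fin (n + 2) → ZMod p := Fin.cons 0 (Fin.snoc a 0)

abbrev e0 : Fin (n + 2) → ZMod p := Pi.single 0 1
abbrev eL : Fin (n + 2) → ZMod p := Pi.single (Fin.last (n + 1)) 1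

/-- The Heisenberg matrix. -/
def T (t : (Fin n → ZMod p) × (Fin n → ZMod p) × ZMod p) : Matrix (Fin (n + 2)) (Fin (n + 2)) (ZMod p) :=
  1 + vecMulVec (e0 p n) (mid p n t.1 + t.2.2 • eL p n) + vecMulVec (mid p n t.2.1) (eL p n)

theorem mid_zero (a : Fin n → ZMod p) : mid p n a 0 = 0 := by simp [mid]

theorem mid_last (a : Fin n → ZMod p) : mid p n a (Fin.last (n + 1)) = 0 := by
  rw [← Fin.succ_last]; simp [mid]

theorem mid_mid (a : Fin n → ZMod p) (k : Fin n) : mid p n a k.castSucc.succ = a k := by simp [mid]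

theorem mid_add (a b : Fin n → ZMod p) : mid p n (a + b) = mid p n a + mid p n b := by
  funext i
  refine Fin.cases ?_ (fun j => ?_) i
  · simp [mid]
  · refine Fin.lastCases ?_ (fun k => ?_) j <;> simp [mid]

theorem mid_dot (a b : Fin n → ZMod p) : mid p n a ⬝ᵥ mid p n b = a ⬝ᵥ b := by
  simp [dotProduct, mid, Fin.sum_univ_succ (n := n + 1), Fin.sum_univ_castSucc (n := n)]

theorem T_mul (s t : (Fin n → ZMod p) × (Fin n → ZMod p) × ZMod p) :
    T p n s * T p n t = T p n (s.1 + t.1, s.2.1 + t.2.1, s.2.2 + t.2.2 + s.1 ⬝ᵥ t.2.1) := by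
  have h1 : (mid p n s.1 + s.2.2 • eL p n) ⬝ᵥ e0 p n = 0 := by
    simp [dotProduct_single, mid_zero, Fin.last_pos.ne]
  have h2 : (mid p n s.1 + s.2.2 • eL p n) ⬝ᵥ mid p n t.2.1 = s.1 ⬝ᵥ t.2.1 := by
    simp [add_dotProduct, mid_dot, single_dotProduct, mid_last]
  have h3 : eL p n ⬝ᵥ e0 p n = 0 := by simp [single_dotProduct, Fin.last_pos.ne']
  have h4 : eL p n ⬝ᵥ mid p n t.2.1 = 0 := by simp [single_dotProduct, mid_last]
  simp only [T, add_mul, mul_add, one_mul, mul_one, vecMulVec_mul_vecMulVec, h1, h2, h3, h4, zero_smul,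
    vecMulVec_zero]
  simp only [mid_add, vecMulVec_add, add_vecMulVec, add_smul, vecMulVec_smul]
  abel

theorem T_zero : T p n 0 = 1 := by
  have : mid p n (0 : Fin n → ZMod p) = 0 := by
    funext i; refine Fin.cases ?_ (fun j => ?_) i
    · simp [mid]
    · refine Fin.lastCases ?_ (fun k => ?_) j <;> simp [mid]
  simp [T, this]

/-- The Heisenberg matrix as a unit. -/
def U (t : (Fin n → ZMod p) × (Fin n → ZMod p) × ZMod p) : Matrix.GeneralLinearGroup (Fin (n + 2)) (ZMod p) where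
  val := T p n t
  inv := T p n (-t.1, -t.2.1, -t.2.2 + t.1 ⬝ᵥ t.2.1)
  val_inv := by
    rw [T_mul, ← T_zero p n]; congr 1
    simp [Prod.ext_iff, dotProduct_neg]
  inv_val := by
    rw [T_mul, ← T_zero p n]; congr 1
    simp [Prod.ext_iff, neg_dotProduct]

theorem U_mul (s t : (Fin n → ZMod p) × (Fin n → ZMod p) × ZMod p) :
    U p n s * U p n t = U p n (s.1 + t.1, s.2.1 + t.2.1, s.2.2 + t.2.2 + s.1 ⬝ᵥ t.2.1) :=
  Units.ext (T_mul p n s t)

theorem U_zero : U p n 0 = 1 := Units.ext (T_zero p n)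

theorem U_injective : Function.Injective (U p n) := by
  intro s t h
  have h' : T p n s = T p n t := congrArg Units.val h
  have e : ∀ i j, T p n s i j = T p n t i j := fun i j => by rw [h']
  have hne : ∀ k : Fin n, k.castSucc.succ ≠ (0 : Fin (n + 2)) ∧ k.castSucc.succ ≠ Fin.last (n + 1) :=
    fun k => ⟨Fin.succ_ne_zero _, by simp [← Fin.succ_last, Fin.castSucc_ne_last]⟩
  refine Prod.ext (funext fun k => ?_) (Prod.ext (funext fun k => ?_) ?_)
  · have := e 0 k.castSucc.succ
    simpa [T, vecMulVec_apply, mid_mid, mid_zero, (hne k).1, (hne k).2, Matrix.one_apply, (hne k).1.symm] using this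
  · have := e k.castSucc.succ (Fin.last (n + 1))
    simpa [T, vecMulVec_apply, mid_mid, mid_last, (hne k).1, (hne k).2, Matrix.one_apply] using this
  · have := e 0 (Fin.last (n + 1))
    simpa [T, vecMulVec_apply, mid_last, mid_zero, Matrix.one_apply, Fin.last_pos.ne] using this

/-- The Heisenberg subgroup. -/
def heis : Subgroup (Matrix.GeneralLinearGroup (Fin (n + 2)) (ZMod p)) where
  carrier := Set.range (U p n)
  mul_mem' := by rintro _ _ ⟨s, rfl⟩ ⟨t, rfl⟩; exact ⟨_, (U_mul p n s t).symm⟩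
  one_mem' := ⟨0, U_zero p n⟩
  inv_mem' := by
    rintro _ ⟨t, rfl⟩
    exact ⟨(-t.1, -t.2.1, -t.2.2 + t.1 ⬝ᵥ t.2.1), Units.ext rfl⟩

/-- Elements of the Heisenberg subgroup. -/
def el (t : (Fin n → ZMod p) × (Fin n → ZMod p) × ZMod p) : ↥(heis p n) := ⟨U p n t, t, rfl⟩

theorem el_bijective : Function.Bijective (el p n) :=
  ⟨fun s t h => U_injective p n (congrArg Subtype.val h), fun x => by
    obtain ⟨t, ht⟩ := x.2; exact ⟨t, Subtype.ext ht⟩⟩

theorem el_mul (s t : (Fin n → ZMod p) × (Fin n → ZMod p) × ZMod p) :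
    el p n s * el p n t = el p n (s.1 + t.1, s.2.1 + t.2.1, s.2.2 + t.2.2 + s.1 ⬝ᵥ t.2.1) :=
  Subtype.ext (U_mul p n s t)

theorem card_heis : Nat.card ↥(heis p n) = p ^ (1 + 2 * n) := by
  rw [← Nat.card_eq_of_bijective _ (el_bijective p n)]
  simp only [Nat.card_prod, Nat.card_fun, Nat.card_zmod, Nat.card_eq_fintype_card (α := Fin n), Fintype.card_fin]
  ring

theorem el_pow (t : (Fin n → ZMod p) × (Fin n → ZMod p) × ZMod p) (k : ℕ) :
    el p n t ^ k = el p n ((k : ZMod p) • t.1, (k : ZMod p) • t.2.1,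
      (k : ZMod p) * t.2.2 + (k.choose 2 : ℕ) * (t.1 ⬝ᵥ t.2.1)) := by
  induction k with
  | zero => simp [el]; exact Subtype.ext (U_zero p n).symm
  | succ k ih =>
    rw [pow_succ, ih, el_mul]
    congr 1
    refine Prod.ext ?_ (Prod.ext ?_ ?_)
    · simp [add_smul]
    · simp [add_smul]
    · simp [Nat.choose_succ_succ, smul_dotProduct]; ring

theorem exp_heis (hp : p ≠ 2) (x : Matrix.GeneralLinearGroup (Fin (n + 2)) (ZMod p)) (hx : x ∈ heis p n) :
    x ^ p = 1 := by
  obtain ⟨t, rfl⟩ := hx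
  have h2 : ((p.choose 2 : ℕ) : ZMod p) = 0 := by
    rw [ZMod.natCast_eq_zero_iff]
    exact (Fact.out : p.Prime).dvd_choose_self (by norm_num)
      (lt_of_le_of_ne (Fact.out : p.Prime).two_le (Ne.symm hp))
  have := congrArg Subtype.val (el_pow p n t p)
  rw [ZMod.natCast_self, h2] at this
  simp only [zero_smul, zero_mul, add_zero] at this
  exact this.trans (U_zero p n)

/-- The central subgroup. -/
def centre' : Subgroup ↥(heis p n) where
  carrier := Set.range fun c : ZMod p => el p n (0, 0, c)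
  mul_mem' := by rintro _ _ ⟨c, rfl⟩ ⟨d, rfl⟩; exact ⟨c + d, by simp [el_mul]⟩
  one_mem' := ⟨0, Subtype.ext (U_zero p n)⟩
  inv_mem' := by
    rintro _ ⟨c, rfl⟩
    refine ⟨-c, eq_inv_of_mul_eq_one_left ?_⟩
    rw [el_mul]; exact Subtype.ext (by simp [el]; exact U_zero p n)

theorem card_centre' : Nat.card ↥(centre' p n) = p := by
  have : Function.Bijective fun c : ZMod p => (⟨el p n (0, 0, c), c, rfl⟩ : ↥(centre' p n)) :=
    ⟨fun c d h => by simpa [Prod.ext_iff] using (el_bijective p n).1 (congrArg Subtype.val h),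
      fun x => by obtain ⟨c, hc⟩ := x.2; exact ⟨c, Subtype.ext hc⟩⟩
  rw [← Nat.card_eq_of_bijective _ this, Nat.card_zmod]

theorem center_heis (hn : 1 ≤ n) : Subgroup.center ↥(heis p n) = centre' p n := by
  apply le_antisymm
  · intro x hx
    obtain ⟨t, rfl⟩ := (el_bijective p n).2 x
    have h : ∀ s : (Fin n → ZMod p) × (Fin n → ZMod p) × ZMod p, s.1 ⬝ᵥ t.2.1 = t.1 ⬝ᵥ s.2.1 := fun s => by
      have := Subgroup.mem_center_iff.mp hx (el p n s)
      rw [el_mul, el_mul] at this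
      have h3 := congrArg (fun u => u.2.2) ((el_bijective p n).1 this)
      simp only at h3
      linear_combination h3
    refine ⟨t.2.2, congrArg (el p n) (Prod.ext (funext fun k => ?_) (Prod.ext (funext fun k => ?_) rfl))⟩
    · simpa using h (0, Pi.single k 1, 0)
    · simpa using (h (Pi.single k 1, 0, 0)).symm
  · rintro _ ⟨c, rfl⟩
    rw [Subgroup.mem_center_iff]
    intro y
    obtain ⟨s, rfl⟩ := (el_bijective p n).2 y
    simp [el_mul, add_comm]

theorem commutator_eq (s t : (Fin n → ZMod p) × (Fin n → ZMod p) × ZMod p) :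
    ⁅el p n s, el p n t⁆ = el p n (0, 0, s.1 ⬝ᵥ t.2.1 - t.1 ⬝ᵥ s.2.1) := by
  rw [commutatorElement_def, mul_inv_eq_iff_eq_mul, mul_inv_eq_iff_eq_mul, el_mul, el_mul, el_mul]
  refine congrArg (el p n) (Prod.ext ?_ (Prod.ext ?_ ?_))
  · simp [add_comm]
  · simp [add_comm]
  · simp; ring

theorem commutator_heis (hn : 1 ≤ n) : commutator ↥(heis p n) = centre' p n := by
  apply le_antisymm
  · rw [commutator_def, Subgroup.commutator_le]
    intro x _ y _
    obtain ⟨s, rfl⟩ := (el_bijective p n).2 x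
    obtain ⟨t, rfl⟩ := (el_bijective p n).2 y
    exact ⟨_, (commutator_eq p n s t).symm⟩
  · rintro _ ⟨c, rfl⟩
    show el p n (0, 0, c) ∈ _
    have := commutator_eq p n (Pi.single ⟨0, hn⟩ c, 0, 0) (0, Pi.single ⟨0, hn⟩ 1, 0)
    simp at this
    rw [← this]
    exact Subgroup.commutator_mem_commutator (Subgroup.mem_top _) (Subgroup.mem_top _)

/-- For every odd prime p and every n ≥ 1 there is an extraspecial p-group of order p^(1+2n) and exponent p; concretely, the general linear group of degree n + 2 over the field with p elements contains such a subgroup. -/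
theorem result (p : ℕ) [Fact p.Prime] (hp : p ≠ 2) (n : ℕ) (hn : 1 ≤ n) : ∃ E : Subgroup (Matrix.GeneralLinearGroup (Fin (n + 2)) (ZMod p)), Cfsg.IsExtraspecial p ↥E ∧ Nat.card E = p ^ (1 + 2 * n) ∧ ∀ x ∈ E, x ^ p = 1 := by
  classical
  haveI : NeZero p := ⟨(Fact.out : p.Prime).ne_zero⟩
  refine ⟨heis p n, ?_, ?_, fun x hx => ?_⟩
  · have hcard : Nat.card ↥(heis p n) = p ^ (1 + 2 * n) := card_heis p n
    have hP : IsPGroup p ↥(heis p n) := IsPGroup.of_card hcard
    haveI := hP.isNilpotent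
    have hZ : Subgroup.center ↥(heis p n) = centre' p n := center_heis p n hn
    have hC : commutator ↥(heis p n) = centre' p n := commutator_heis p n hn
    refine ⟨⟨hP, ?_, hC.trans hZ.symm⟩, ?_⟩
    · refine le_antisymm ?_ (hZ ▸ hC ▸ Basics.commutator_le_frattini)
      refine (LocalEvenA.frattini_le_commutator_sup_pow (p := p)).trans ?_
      rw [hC, hZ, sup_le_iff]
      refine ⟨le_rfl, (Subgroup.closure_le _).mpr ?_⟩
      rintro _ ⟨x, rfl⟩
      have : x ^ p = 1 := Subtype.ext (by simpa using exp_heis p n hp _ x.2)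
      simp [this]
    · rw [hZ, card_centre']
  · exact card_heis p n
  · exact exp_heis p n hp x hx

end Cfsg.Agent.S3799
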