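import Cfsg.Statements.S3804
import Cfsg.Agent.Lib.Basics.Tools

set_option autoImplicit false
open Cfsg
open scoped Pointwise

namespace Cfsg.Agent.S3804

theorem card_set_mul {X : Type*} [Group X] [Finite X] (A B : Subgroup X) :
    Nat.card ↥((A : Set X) * (B : Set X)) * Nat.card ↥(A ⊓ B) = Nat.card A * Nat.card B := by
  rw [Subgroup.card_mul_eq_card_subgroup_mul_card_quotient B (A : Set X)]
  have h2 : Nat.card ↥((A : Set X).image (QuotientGroup.mk : X → X ⧸ B)) = Nat.card (↥A ⧸ B.subgroupOf A) := by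
    let f : ↥A ⧸ B.subgroupOf A → X ⧸ B :=
      Quotient.lift (fun a : ↥A => (QuotientGroup.mk (a : X) : X ⧸ B)) fun a b hab => by
        have hab := QuotientGroup.leftRel_apply.mp hab
        rw [Subgroup.mem_subgroupOf] at hab
        exact QuotientGroup.eq.mpr (by simpa using hab)
    have hf : Function.Injective f := by
      intro u v
      induction u using QuotientGroup.induction_on with
      | H a => induction v using QuotientGroup.induction_on with
        | H b =>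
          intro h
          refine QuotientGroup.eq.mpr ?_
          rw [Subgroup.mem_subgroupOf]
          have := QuotientGroup.eq.mp (show (QuotientGroup.mk (a : X) : X ⧸ B) = QuotientGroup.mk (b : X) from h)
          simpa using this
    rw [← Nat.card_range_of_injective hf]
    congr 2
    ext y
    constructor
    · rintro ⟨a, ha, rfl⟩; exact ⟨QuotientGroup.mk ⟨a, ha⟩, rfl⟩
    · rintro ⟨u, rfl⟩
      induction u using QuotientGroup.induction_on with
      | H a => exact ⟨a, a.2, rfl⟩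
  have h3 : Nat.card ↥(B.subgroupOf A) = Nat.card ↥(A ⊓ B) := by
    rw [show B.subgroupOf A = (A ⊓ B).subgroupOf A by ext; simp [Subgroup.mem_subgroupOf]]
    exact Nat.card_congr (Subgroup.subgroupOfEquivOfLe inf_le_left).toEquiv
  rw [h2, Subgroup.card_eq_card_quotient_mul_card_subgroup (B.subgroupOf A), h3]
  ring

/-- Let G and H be subgroups of a finite group with G normalizing H, fix a real number α > 0, and for a subgroup A of G put m(A) = |A|^α · |C_H(A)|. Let A and B be nontrivial subgroups of G at which m attains its maximum over all nontrivial subgroups of G, and assume that A ∩ B ≠ 1 or that this maximum is at least |H|. Then AB = BA is a subgroup at which m is again maximal, C_H(A ∩ B) = C_H(A) C_H(B), and if A ∩ B ≠ 1 then m is maximal at A ∩ B as well. -/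
theorem result {X : Type*} [Group X] [Finite X] (G H : Subgroup X) (hGH : G ≤ Subgroup.normalizer (H : Set X)) (α : ℝ) (hα : 0 < α)
    (A B : Subgroup X) (hA : A ≤ G) (hB : B ≤ G) (hA1 : A ≠ ⊥) (hB1 : B ≠ ⊥)
    (hAmax : ∀ A' : Subgroup X, A' ≤ G → A' ≠ ⊥ → (fun A : Subgroup X => ((Nat.card A : ℝ) ^ α) * (Nat.card ↥(H ⊓ Subgroup.centralizer (A : Set X)) : ℝ)) A' ≤ (fun A : Subgroup X => ((Nat.card A : ℝ) ^ α) * (Nat.card ↥(H ⊓ Subgroup.centralizer (A : Set X)) : ℝ)) A)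
    (hBmax : ∀ A' : Subgroup X, A' ≤ G → A' ≠ ⊥ → (fun A : Subgroup X => ((Nat.card A : ℝ) ^ α) * (Nat.card ↥(H ⊓ Subgroup.centralizer (A : Set X)) : ℝ)) A' ≤ (fun A : Subgroup X => ((Nat.card A : ℝ) ^ α) * (Nat.card ↥(H ⊓ Subgroup.centralizer (A : Set X)) : ℝ)) B)
    (hcase : A ⊓ B ≠ ⊥ ∨ (Nat.card H : ℝ) ≤ (fun A : Subgroup X => ((Nat.card A : ℝ) ^ α) * (Nat.card ↥(H ⊓ Subgroup.centralizer (A : Set X)) : ℝ)) A) :
    (∀ a ∈ A, ∀ b ∈ B, ∃ b' ∈ B, ∃ a' ∈ A, a * b = b' * a') ∧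
    (∀ A' : Subgroup X, A' ≤ G → A' ≠ ⊥ → (fun A : Subgroup X => ((Nat.card A : ℝ) ^ α) * (Nat.card ↥(H ⊓ Subgroup.centralizer (A : Set X)) : ℝ)) A' ≤ (fun A : Subgroup X => ((Nat.card A : ℝ) ^ α) * (Nat.card ↥(H ⊓ Subgroup.centralizer (A : Set X)) : ℝ)) (A ⊔ B)) ∧
    (∀ h ∈ H ⊓ Subgroup.centralizer ((A ⊓ B : Subgroup X) : Set X), ∃ u ∈ H ⊓ Subgroup.centralizer (A : Set X), ∃ v ∈ H ⊓ Subgroup.centralizer (B : Set X), h = u * v) ∧
    (A ⊓ B ≠ ⊥ → ∀ A' : Subgroup X, A' ≤ G → A' ≠ ⊥ → (fun A : Subgroup X => ((Nat.card A : ℝ) ^ α) * (Nat.card ↥(H ⊓ Subgroup.centralizer (A : Set X)) : ℝ)) A' ≤ (fun A : Subgroup X => ((Nat.card A : ℝ) ^ α) * (Nat.card ↥(H ⊓ Subgroup.centralizer (A : Set X)) : ℝ)) (A ⊓ B)) := by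
  classical
  simp only at hAmax hBmax hcase ⊢
  set m : ℝ := ((Nat.card A : ℝ) ^ α) * (Nat.card ↥(H ⊓ Subgroup.centralizer (A : Set X)) : ℝ) with hm
  have hBm : ((Nat.card B : ℝ) ^ α) * (Nat.card ↥(H ⊓ Subgroup.centralizer (B : Set X)) : ℝ) = m :=
    le_antisymm (hAmax B hB hB1) (hBmax A hA hA1)
  set CA := H ⊓ Subgroup.centralizer (A : Set X) with hCA
  set CB := H ⊓ Subgroup.centralizer (B : Set X) with hCB
  set CI := H ⊓ Subgroup.centralizer ((A ⊓ B : Subgroup X) : Set X) with hCI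
  set CJ := H ⊓ Subgroup.centralizer ((A ⊔ B : Subgroup X) : Set X) with hCJ
  have hJG : A ⊔ B ≤ G := sup_le hA hB
  have hJ1 : A ⊔ B ≠ ⊥ := fun h => hA1 (le_bot_iff.mp (h ▸ le_sup_left))
  have hK : CA ⊓ CB = CJ := by
    rw [hCJ, Subgroup.sup_eq_closure, Subgroup.centralizer_closure]
    ext x
    simp only [hCA, hCB, Subgroup.mem_inf, Subgroup.mem_centralizer_iff, Set.mem_union]
    exact ⟨fun h => ⟨h.1.1, fun y hy => hy.elim (h.1.2 y) (h.2.2 y)⟩,
      fun h => ⟨⟨h.1, fun y hy => h.2 y (Or.inl hy)⟩, h.1, fun y hy => h.2 y (Or.inr hy)⟩⟩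
  have hsub1 : (A : Set X) * (B : Set X) ⊆ ((A ⊔ B : Subgroup X) : Set X) := by
    rintro _ ⟨a, ha, b, hb, rfl⟩
    exact mul_mem (Subgroup.mem_sup_left ha) (Subgroup.mem_sup_right hb)
  have hsub2 : (CA : Set X) * (CB : Set X) ⊆ (CI : Set X) := by
    rintro _ ⟨u, hu, v, hv, rfl⟩
    refine mul_mem (⟨hu.1, ?_⟩ : u ∈ CI) (⟨hv.1, ?_⟩ : v ∈ CI)
    · exact Subgroup.centralizer_le (fun y hy => hy.1) hu.2
    · exact Subgroup.centralizer_le (fun y hy => hy.2) hv.2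
  have e1 := card_set_mul A B
  have e2 := card_set_mul CA CB
  rw [hK] at e2
  have l1 : Nat.card ↥((A : Set X) * (B : Set X)) ≤ Nat.card ↥(A ⊔ B) :=
    Nat.card_mono (Set.toFinite _) hsub1
  have l2 : Nat.card ↥((CA : Set X) * (CB : Set X)) ≤ Nat.card ↥CI :=
    Nat.card_mono (Set.toFinite _) hsub2
  set a := Nat.card ↥((A : Set X) * (B : Set X)) with ha
  set c := Nat.card ↥((CA : Set X) * (CB : Set X)) with hc
  have hapos : 0 < a := by
    have h := congrArg (fun z => 0 < z) e1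
    simp only [Nat.mul_pos_iff_of_pos_left, Nat.mul_pos_iff_of_pos_right, Nat.card_pos] at h
    rcases Nat.eq_zero_or_pos a with h' | h'
    · rw [h', zero_mul] at e1
      exact absurd e1.symm (Nat.mul_pos Nat.card_pos Nat.card_pos).ne'
    · exact h'
  have hmI : ((Nat.card ↥(A ⊓ B) : ℝ) ^ α) * (Nat.card ↥CI : ℝ) ≤ m := by
    rcases eq_or_ne (A ⊓ B) ⊥ with h | h
    · have hle : (Nat.card H : ℝ) ≤ m := hcase.resolve_left (fun h' => h' h)
      rw [h, Subgroup.card_bot, Nat.cast_one, Real.one_rpow, one_mul]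
      refine le_trans ?_ hle
      exact_mod_cast Subgroup.card_le_of_le (hCI ▸ inf_le_left : CI ≤ H)
    · exact hAmax _ (inf_le_left.trans hA) h
  have hmJ : ((Nat.card ↥(A ⊔ B) : ℝ) ^ α) * (Nat.card ↥CJ : ℝ) ≤ m := hAmax _ hJG hJ1
  set D := ((Nat.card ↥(A ⊓ B) : ℝ) ^ α) with hD
  set J := ((Nat.card ↥(A ⊔ B) : ℝ) ^ α) with hJ
  set a' := ((a : ℝ) ^ α) with ha'
  have hDpos : 0 < D := Real.rpow_pos_of_pos (by exact_mod_cast Nat.card_pos) _
  have ha'pos : 0 < a' := Real.rpow_pos_of_pos (by exact_mod_cast hapos) _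
  have haJ : a' ≤ J := Real.rpow_le_rpow (by positivity) (by exact_mod_cast l1) hα.le
  have hJpos : 0 < J := lt_of_lt_of_le ha'pos haJ
  have hKpos : (0 : ℝ) < (Nat.card ↥CJ : ℝ) := by exact_mod_cast Nat.card_pos
  have hIpos : (0 : ℝ) < (Nat.card ↥CI : ℝ) := by exact_mod_cast Nat.card_pos
  have hcI : (c : ℝ) ≤ (Nat.card ↥CI : ℝ) := by exact_mod_cast l2
  have hmm : m * m = (a' * (Nat.card ↥CJ : ℝ)) * (D * (c : ℝ)) := by
    have r1 : ((Nat.card A : ℝ) ^ α) * ((Nat.card B : ℝ) ^ α) = a' * D := by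
      rw [ha', hD, ← Real.mul_rpow (by positivity) (by positivity),
        ← Real.mul_rpow (by positivity) (by positivity)]
      congr 1
      exact_mod_cast e1.symm
    have r2 : (Nat.card ↥CA : ℝ) * (Nat.card ↥CB : ℝ) = (c : ℝ) * (Nat.card ↥CJ : ℝ) := by
      exact_mod_cast e2.symm
    calc m * m = (((Nat.card A : ℝ) ^ α) * (Nat.card ↥CA : ℝ)) * (((Nat.card B : ℝ) ^ α) * (Nat.card ↥CB : ℝ)) := by
          rw [hBm]
      _ = (((Nat.card A : ℝ) ^ α) * ((Nat.card B : ℝ) ^ α)) * ((Nat.card ↥CA : ℝ) * (Nat.card ↥CB : ℝ)) := by ring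
      _ = _ := by rw [r1, r2]; ring
  have hmpos : 0 < m := by
    refine mul_pos (Real.rpow_pos_of_pos ?_ _) ?_ <;> exact_mod_cast Nat.card_pos
  have hb1 : a' * (Nat.card ↥CJ : ℝ) ≤ J * (Nat.card ↥CJ : ℝ) := mul_le_mul_of_nonneg_right haJ hKpos.le
  have hb2 : D * (c : ℝ) ≤ D * (Nat.card ↥CI : ℝ) := mul_le_mul_of_nonneg_left hcI hDpos.le
  have hq1 : a' * (Nat.card ↥CJ : ℝ) = m := by
    refine le_antisymm (hb1.trans hmJ) ?_
    by_contra hlt
    push_neg at hlt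
    have : (a' * (Nat.card ↥CJ : ℝ)) * (D * (c : ℝ)) < m * m :=
      lt_of_le_of_lt (mul_le_mul_of_nonneg_left (hb2.trans hmI) (by positivity))
        (mul_lt_mul_of_pos_right hlt hmpos)
    linarith
  have hq2 : D * (c : ℝ) = m := by
    rw [hq1] at hmm
    exact (mul_left_cancel₀ hmpos.ne' hmm).symm
  have hJm : J * (Nat.card ↥CJ : ℝ) = m := le_antisymm hmJ (hq1 ▸ hb1)
  have hIm : D * (Nat.card ↥CI : ℝ) = m := le_antisymm hmI (hq2 ▸ hb2)
  have haeq : a = Nat.card ↥(A ⊔ B) := by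
    have : a' = J := mul_right_cancel₀ hKpos.ne' (hq1.trans hJm.symm)
    rw [ha', hJ] at this
    exact_mod_cast (Real.rpow_left_injOn hα.ne' (Set.mem_setOf.mpr (by positivity))
      (Set.mem_setOf.mpr (by positivity)) this)
  have hceq : c = Nat.card ↥CI := by
    exact_mod_cast mul_left_cancel₀ hDpos.ne' (hq2.trans hIm.symm)
  have hset : (A : Set X) * (B : Set X) = ((A ⊔ B : Subgroup X) : Set X) :=
    Set.eq_of_subset_of_ncard_le hsub1 (by
      rw [← Nat.card_coe_set_eq, ← Nat.card_coe_set_eq, ← ha, haeq]; rfl) (Set.toFinite _)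
  have hsetC : (CA : Set X) * (CB : Set X) = (CI : Set X) :=
    Set.eq_of_subset_of_ncard_le hsub2 (by
      rw [← Nat.card_coe_set_eq, ← Nat.card_coe_set_eq, ← hc, hceq]; rfl) (Set.toFinite _)
  refine ⟨fun x hx y hy => ?_, fun A' h1 h2 => (hAmax A' h1 h2).trans hJm.symm.le, fun h hh => ?_,
    fun hne A' h1 h2 => (hAmax A' h1 h2).trans hIm.symm.le⟩
  · have hmem : (x * y)⁻¹ ∈ (A : Set X) * (B : Set X) := by
      rw [hset]; exact inv_mem (mul_mem (Subgroup.mem_sup_left hx) (Subgroup.mem_sup_right hy))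
    obtain ⟨u, hu, v, hv, huv⟩ := hmem
    exact ⟨v⁻¹, inv_mem hv, u⁻¹, inv_mem hu, by rw [← mul_inv_rev, show u * v = (x * y)⁻¹ from huv, inv_inv]⟩
  · have hmem : h ∈ (CA : Set X) * (CB : Set X) := by rw [hsetC]; exact hh
    obtain ⟨u, hu, v, hv, huv⟩ := hmem
    exact ⟨u, hu, v, hv, huv.symm⟩

end Cfsg.Agent.S3804
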