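import Cfsg.Statements.S3806
import Cfsg.Agent.Lib.FGB.MaxClassRank

set_option autoImplicit false
open Cfsg

namespace Cfsg.Agent.S3806

open Subgroup in
theorem section_le {S : Type*} [Group S] {p k : ℕ} (h : Cfsg.SectionalPRankLE p k S) (N : Subgroup S) [N.Normal]
    (A : Subgroup (S ⧸ N)) (hA : IsMulCommutative A) (hA1 : ∀ a ∈ A, a ^ p = 1) :
    Nat.card A ≤ p ^ k := by
  let f : S ⧸ N ≃* (⊤ : Subgroup S) ⧸ N.subgroupOf ⊤ :=
    QuotientGroup.congr N (N.subgroupOf ⊤) Subgroup.topEquiv.symm (by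
      ext x
      simp only [Subgroup.mem_map, Subgroup.mem_subgroupOf]
      exact ⟨fun ⟨y, hy, e⟩ => by rw [← e]; exact hy, fun hx => ⟨_, hx, Subtype.ext rfl⟩⟩)
  have h1 := h ⊤ (N.subgroupOf ⊤) (A.map f.toMonoidHom) inferInstance (fun a ha => by
    obtain ⟨b, hb, rfl⟩ := Subgroup.mem_map.1 ha
    rw [← map_pow, hA1 b hb, map_one])
  exact (Subgroup.card_map_of_injective (f := f.toMonoidHom) f.injective).symm.trans_le h1

open Subgroup in
open scoped commutatorElement in
theorem elementary_quot {S : Type*} [Group S] [Finite S] {p n : ℕ} [Fact p.Prime] (hM : FGB.MaxClass.IsMax p n S)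
    (hn : 3 ≤ n) : ∃ A : Subgroup (S ⧸ (⊤ : Subgroup S).lowerCentralSeries 1), IsMulCommutative A ∧
      (∀ a ∈ A, a ^ p = 1) ∧ Nat.card A = p ^ 2 := by
  refine ⟨⊤, ⟨⟨fun a b => Subtype.ext ?_⟩⟩, fun a _ => ?_, by
    rw [Subgroup.card_top, (hM.quot (j := 1) le_rfl (by omega)).card]⟩
  · obtain ⟨x, hx⟩ := QuotientGroup.mk_surjective (a : S ⧸ (⊤ : Subgroup S).lowerCentralSeries 1)
    obtain ⟨y, hy⟩ := QuotientGroup.mk_surjective (b : S ⧸ (⊤ : Subgroup S).lowerCentralSeries 1)
    show (a : S ⧸ (⊤ : Subgroup S).lowerCentralSeries 1) * b = b * a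
    rw [← hx, ← hy, ← QuotientGroup.mk_mul, ← QuotientGroup.mk_mul, QuotientGroup.eq,
      Subgroup.top_lowerCentralSeries_one, show (x * y)⁻¹ * (y * x) = ⁅y⁻¹, x⁻¹⁆ by
        rw [commutatorElement_def]; group]
    exact commutator_mem_commutator (mem_top _) (mem_top _)
  · obtain ⟨x, rfl⟩ := QuotientGroup.mk_surjective a
    rw [← QuotientGroup.mk_pow, QuotientGroup.eq_one_iff, Subgroup.top_lowerCentralSeries_one]
    exact hM.pow_mem_commutator hn x

/-- Let p be a prime and S a finite p-group of order pⁿ (n ≥ 2) of maximal nilpotency class n − 1 whose sectional p-rank is exactly k (every section has p-rank at most k, and some section has p-rank k). If p ≥ k + 2 then the order of S is at most p^(2k). -/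
theorem result {S : Type*} [Group S] [Finite S] (p : ℕ) [Fact p.Prime] (hS : IsPGroup p S) [Group.IsNilpotent S]
    (n : ℕ) (hn : 2 ≤ n) (hcard : Nat.card S = p ^ n) (hmax : Group.nilpotencyClass S = n - 1)
    (k : ℕ) (hk : 1 ≤ k) (hsr : Cfsg.SectionalPRankLE p k S ∧ ¬ Cfsg.SectionalPRankLE p (k - 1) S)
    (hpk : k + 2 ≤ p) : Nat.card S ≤ p ^ (2 * k) := by
  by_contra hgt
  rw [not_le, hcard, Nat.pow_lt_pow_iff_right (Fact.out : p.Prime).one_lt] at hgt
  obtain rfl | hk2 : k = 1 ∨ 2 ≤ k := by omega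
  · have hM := FGB.MaxClass.isMax_of_class hn hcard hmax
    obtain ⟨A, hA, hA1, hA2⟩ := elementary_quot hM (by omega)
    have := section_le hsr.1 _ A hA hA1
    rw [hA2] at this
    exact absurd this (by
      rw [not_le]; exact Nat.pow_lt_pow_right (Fact.out : p.Prime).one_lt (by norm_num))
  have hM := (FGB.MaxClass.isMax_of_class hn hcard hmax).quot (j := 2 * k) (by omega) (by omega)
  obtain ⟨A, hA, hA1, hA2⟩ := hM.exists_elementary hk2 hpk
  have := section_le hsr.1 _ A hA hA1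
  rw [hA2] at this
  exact absurd this (by
    rw [not_le]; exact Nat.pow_lt_pow_right (Fact.out : p.Prime).one_lt (by omega))

end Cfsg.Agent.S3806
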