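import Cfsg.Statements.S3807
import Cfsg.Agent.Lib.PGroup23.AbelianIndex

set_option autoImplicit false
open Cfsg

namespace Cfsg.Agent.S3807

/-- Let S be a non-abelian finite p-group with an abelian subgroup A of index p. Then [S : Z(S)] = p·#[S,S], and either [S,S] has order p, S/Z(S) is elementary abelian of order p², and S has exactly p + 1 abelian subgroups of index p; or [S,S] has order at least p² and A is the only abelian subgroup of index p in S. -/
theorem result {S : Type*} [Group S] [Finite S] (p : ℕ) [Fact p.Prime] (hS : IsPGroup p S) (hna : ¬ IsMulCommutative S)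
    (A : Subgroup S) (hA : IsMulCommutative ↥A) (hAi : A.index = p) :
    (Subgroup.center S).index = p * Nat.card (commutator S) ∧
      ((Nat.card (commutator S) = p ∧ Cfsg.IsElementaryAbelian p (⊤ : Subgroup (S ⧸ Subgroup.center S)) ∧
          Nat.card (S ⧸ Subgroup.center S) = p ^ 2 ∧
          Nat.card {B : Subgroup S // IsMulCommutative ↥B ∧ B.index = p} = p + 1) ∨
        (p ^ 2 ≤ Nat.card (commutator S) ∧ ∀ B : Subgroup S, IsMulCommutative ↥B → B.index = p → B = A)) := by
  have hp := (Fact.out : p.Prime)
  have hidx := PGroup23.mul_card_eq hS hna hA hAi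
  refine ⟨hidx, ?_⟩
  have hZA := PGroup23.center_le_abelian_index hna hA hAi
  obtain ⟨k, hk⟩ := IsPGroup.iff_card.mp (hS.to_subgroup (commutator S))
  have hple := PGroup23.two_le_card_commutator hS hna
  have hk1 : 1 ≤ k := by
    rcases k with _ | k
    · rw [hk, pow_zero] at hple
      exact absurd hple hp.one_lt.not_ge
    · omega
  by_cases hk2 : 2 ≤ k
  · right
    refine ⟨hk ▸ Nat.pow_le_pow_right hp.pos hk2, fun B hB hBi => ?_⟩
    by_contra hne
    obtain ⟨x, hx, hxA⟩ : ∃ x ∈ B, x ∉ A := by
      by_contra hcon
      simp only [not_exists, not_and, not_not] at hcon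
      have h1 := Subgroup.relIndex_mul_index (H := B) (K := A) hcon
      rw [hAi, hBi] at h1
      exact hne (le_antisymm hcon (Subgroup.relIndex_eq_one.mp
        (Nat.eq_of_mul_eq_mul_right hp.pos (h1.trans (one_mul p).symm))))
    have hc : A ⊓ B ≤ Subgroup.center S := by
      intro z hz
      rw [Subgroup.mem_center_iff]
      intro g
      have : (⊤ : Subgroup S) ≤ Subgroup.centralizer {z} := by
        rw [← PGroup23.sup_zpowers_eq_top hAi hxA]
        exact sup_le (fun a ha => Subgroup.mem_centralizer_singleton_iff.mpr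
          (congrArg Subtype.val (hA.is_comm.comm (⟨a, ha⟩ : A) ⟨z, hz.1⟩)))
          (Subgroup.zpowers_le.mpr (Subgroup.mem_centralizer_singleton_iff.mpr
            (congrArg Subtype.val (hB.is_comm.comm (⟨x, hx⟩ : B) ⟨z, hz.2⟩))))
      exact Subgroup.mem_centralizer_singleton_iff.mp (this (Subgroup.mem_top g))
    have h1 : (Subgroup.center S).index ≤ p * p :=
      (Nat.le_of_dvd (Nat.pos_of_ne_zero (Subgroup.index_ne_zero_of_finite))
        (Subgroup.index_dvd_of_le hc)).trans ((Subgroup.index_inf_le (H := A) (K := B)).trans_eq (by rw [hAi, hBi]))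
    rw [hidx, hk] at h1
    have h2 := Nat.le_of_mul_le_mul_left h1 hp.pos
    exact absurd h2 (lt_of_lt_of_le (by nlinarith [hp.two_le]) (Nat.pow_le_pow_right hp.pos hk2) :
      p < p ^ k).not_ge
  · left
    obtain rfl : k = 1 := by omega
    rw [pow_one] at hk
    have hcard : Nat.card (S ⧸ Subgroup.center S) = p ^ 2 := by
      rw [← Subgroup.index_eq_card, hidx, hk, pow_two]
    have hab : ∀ a b : S ⧸ Subgroup.center S, a * b = b * a :=
      (IsPGroup.commGroupOfCardEqPrimeSq hcard).mul_comm
    have hexp : ∀ a : S ⧸ Subgroup.center S, a ^ p = 1 := by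
      intro a
      rw [← orderOf_dvd_iff_pow_eq_one]
      have hd : orderOf a ∣ p ^ 2 := hcard ▸ _root_.orderOf_dvd_natCard a
      obtain ⟨i, hi, he⟩ := (Nat.dvd_prime_pow hp).mp hd
      rw [he]
      rcases (show i ≤ 1 ∨ i = 2 by omega) with h | rfl
      · exact (pow_dvd_pow p h).trans (pow_one p).dvd
      · exfalso
        apply hna
        haveI : IsCyclic (S ⧸ Subgroup.center S) := isCyclic_of_orderOf_eq_card a (he.trans hcard.symm)
        exact ⟨⟨(commGroupOfCyclicCenterQuotient (QuotientGroup.mk' (Subgroup.center S))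
          (by rw [QuotientGroup.ker_mk'])).mul_comm⟩⟩
    have hexp' : ∀ a : S, a ^ p ∈ Subgroup.center S := fun a => by
      rw [← QuotientGroup.eq_one_iff, QuotientGroup.mk_pow, hexp]
    refine ⟨hk, ⟨⟨⟨fun a b => Subtype.ext (hab _ _)⟩⟩, fun a _ => hexp a⟩, hcard, ?_⟩
    -- abelian maximal subgroups correspond to subgroups of order `p` of the central quotient
    set π := QuotientGroup.mk' (Subgroup.center S) with hπ
    have hπs : Function.Surjective π := QuotientGroup.mk'_surjective _
    have e1 : {B : Subgroup S // IsMulCommutative ↥B ∧ B.index = p} ≃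
        {L : Subgroup (S ⧸ Subgroup.center S) // Nat.card L = p} :=
      { toFun := fun B => ⟨B.1.map π, by
          have h1 := PGroup23.center_le_abelian_index hna B.2.1 B.2.2
          have h2 := (B.1.map π).index_mul_card
          rw [Subgroup.index_map_eq _ hπs (by rwa [QuotientGroup.ker_mk']), B.2.2, hcard,
            pow_two] at h2
          exact Nat.eq_of_mul_eq_mul_left hp.pos h2⟩
        invFun := fun L => ⟨L.1.comap π, by
          haveI : IsCyclic L.1 := isCyclic_of_prime_card L.2
          let f : L.1.comap π →* L.1 := (π.comp (Subgroup.subtype _)).codRestrict L.1 fun x => x.2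
          refine ⟨⟨⟨(commGroupOfCyclicCenterQuotient f ?_).mul_comm⟩⟩, ?_⟩
          · intro x hx
            rw [Subgroup.mem_center_iff]
            intro y
            have h3 : (x : S) ∈ Subgroup.center S :=
              (QuotientGroup.eq_one_iff _).mp (congrArg Subtype.val hx)
            exact Subtype.ext (Subgroup.mem_center_iff.mp h3 y)
          · rw [Subgroup.index_comap_of_surjective _ hπs]
            have h2 := L.1.index_mul_card
            rw [L.2, hcard, pow_two] at h2
            exact Nat.eq_of_mul_eq_mul_right hp.pos h2⟩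
        left_inv := fun B => Subtype.ext (by
          show (B.1.map π).comap π = B.1
          rw [Subgroup.comap_map_eq, QuotientGroup.ker_mk',
            sup_eq_left.mpr (PGroup23.center_le_abelian_index hna B.2.1 B.2.2)])
        right_inv := fun L => Subtype.ext (Subgroup.map_comap_eq_self_of_surjective hπs L.1) }
    rw [Nat.card_congr e1]
    -- the non-trivial elements fibre over the lines
    have e2 : {a : S ⧸ Subgroup.center S // a ≠ 1} ≃
        Σ L : {L : Subgroup (S ⧸ Subgroup.center S) // Nat.card L = p}, {a : L.1 // a ≠ 1} :=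
      { toFun := fun a => ⟨⟨Subgroup.zpowers a.1, by
            rw [Nat.card_zpowers, orderOf_eq_prime (hexp a.1) a.2]⟩,
          ⟨⟨a.1, Subgroup.mem_zpowers _⟩, fun h => a.2 (congrArg Subtype.val h)⟩⟩
        invFun := fun a => ⟨a.2.1, fun h => a.2.2 (Subtype.ext h)⟩
        left_inv := fun a => rfl
        right_inv := by
          rintro ⟨⟨L, hL⟩, ⟨⟨a, ha⟩, ha1⟩⟩
          have : Subgroup.zpowers a = L := by
            refine Subgroup.eq_of_le_of_card_ge (Subgroup.zpowers_le.mpr ha) ?_
            rw [hL, Nat.card_zpowers, orderOf_eq_prime (hexp a) fun h => ha1 (Subtype.ext h)]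
          subst this
          rfl }
    have h3 := Nat.card_congr e2
    classical
    haveI := Fintype.ofFinite {L : Subgroup (S ⧸ Subgroup.center S) // Nat.card L = p}
    rw [Nat.card_sigma] at h3
    have hne1 : ∀ (X : Type _) [Group X] [Finite X], Nat.card {a : X // a ≠ 1} = Nat.card X - 1 := by
      intro X _ _
      haveI := Fintype.ofFinite X
      rw [Nat.card_eq_fintype_card, Nat.card_eq_fintype_card]
      simp [Fintype.card_subtype_compl]
    rw [hne1, hcard, Finset.sum_congr rfl (fun L _ => (hne1 L.1).trans (by rw [L.2])),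
      Finset.sum_const, Finset.card_univ, ← Nat.card_eq_fintype_card, smul_eq_mul] at h3
    refine Nat.eq_of_mul_eq_mul_right (Nat.sub_pos_of_lt hp.one_lt) ?_
    rw [← h3, ← Nat.sq_sub_sq p 1, one_pow]

end Cfsg.Agent.S3807
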