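import Cfsg.Statements.S3808
import Cfsg.Agent.Lib.PGroup23.AbelianIndex
import Cfsg.Agent.Lib.InvChar.Basics

set_option autoImplicit false
open Cfsg

namespace Cfsg.Agent.S3808

/-- Let S be a finite p-group with an extraspecial subgroup Q of index p. Then either Z(S) = Z(Q), or S = Q·Z(S) and Z(S) has order p². -/
theorem result {S : Type*} [Group S] [Finite S] (p : ℕ) [Fact p.Prime] (hS : IsPGroup p S) (Q : Subgroup S) (hQ : Cfsg.IsExtraspecial p ↥Q) (hQi : Q.index = p) :
    Subgroup.center S = (Subgroup.center ↥Q).map Q.subtype ∨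
      (Q ⊔ Subgroup.center S = ⊤ ∧ Nat.card (Subgroup.center S) = p ^ 2) := by
  haveI := PGroup23.normal_of_index_eq hS hQi
  set Z := (Subgroup.center ↥Q).map Q.subtype with hZ
  have hZcard : Nat.card Z = p := by
    rw [hZ, Subgroup.card_map_of_injective Q.subtype_injective]; exact hQ.2
  have hZc : Z ≤ Subgroup.center S := by
    haveI : Z.Normal := by rw [hZ]; infer_instance
    haveI := hS.isNilpotent
    have hne : Z ≠ ⊥ := fun h => (Fact.out : p.Prime).ne_one
      (by rw [← hZcard, h, Subgroup.card_bot])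
    have h1 : Z ⊓ Subgroup.center S ≠ ⊥ := by
      obtain ⟨c, hc, hcc, hc1⟩ := InvChar.exists_mem_center_of_normal hS Z hne
      intro h
      exact hc1 (Subgroup.mem_bot.mp (h ▸ (⟨hc, hcc⟩ : c ∈ Z ⊓ Subgroup.center S)))
    have h2 : Z ⊓ Subgroup.center S = Z := by
      refine Subgroup.eq_of_le_of_card_ge inf_le_left ?_
      rcases (Fact.out : p.Prime).eq_one_or_self_of_dvd _
        (hZcard ▸ Subgroup.card_dvd_of_le (inf_le_left : Z ⊓ Subgroup.center S ≤ Z)) with h | h
      · exact absurd (Subgroup.card_eq_one.mp h) h1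
      · rw [h, hZcard]
    exact inf_eq_left.mp h2
  have hinf : Subgroup.center S ⊓ Q ≤ Z := fun z hz =>
    ⟨⟨z, hz.2⟩, Subgroup.mem_center_iff.mpr fun y => Subtype.ext (Subgroup.mem_center_iff.mp hz.1 y), rfl⟩
  by_cases hle : Subgroup.center S ≤ Q
  · exact Or.inl (le_antisymm (fun z hz => hinf ⟨hz, hle hz⟩) hZc)
  obtain ⟨z, hz, hzQ⟩ := SetLike.not_le_iff_exists.mp hle
  have htop : Q ⊔ Subgroup.center S = ⊤ := top_le_iff.mp (by
    rw [← PGroup23.sup_zpowers_eq_top hQi hzQ]
    exact sup_le_sup_left (Subgroup.zpowers_le.mpr hz) Q)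
  refine Or.inr ⟨htop, ?_⟩
  have h := Basics.card_mul_card_eq_card_sup_mul_card_inf (N := Q) (H := Subgroup.center S)
    (by rw [Subgroup.normalizer_eq_top]; exact le_top)
  rw [htop, Subgroup.card_top, ← Q.index_mul_card, hQi,
    show Q ⊓ Subgroup.center S = Z from le_antisymm (inf_comm Q (Subgroup.center S) ▸ hinf)
      (le_inf (Subgroup.map_subtype_le _) hZc), hZcard] at h
  have hpos : 0 < Nat.card Q := Nat.card_pos
  refine Nat.eq_of_mul_eq_mul_left hpos ?_
  rw [h, pow_two]
  ring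

end Cfsg.Agent.S3808
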