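import Cfsg.Statements.S3809
import Cfsg.Agent.Lib.PGroup23.Extraspecial

set_option autoImplicit false
open Cfsg
open scoped commutatorElement

namespace Cfsg.Agent.S3809

/-- Let S be a finite p-group with an extraspecial subgroup of index p. Then S has order p^(2+2n) for some n ≥ 1, derived length at most 3, and exponent dividing p³. -/
theorem result {S : Type*} [Group S] [Finite S] (p : ℕ) [Fact p.Prime] (hS : IsPGroup p S) (Q : Subgroup S) (hQ : Cfsg.IsExtraspecial p ↥Q) (hQi : Q.index = p) :
    (∃ n : ℕ, 1 ≤ n ∧ Nat.card S = p ^ (2 + 2 * n)) ∧ derivedSeries S 3 = ⊥ ∧ ∀ x : S, x ^ (p ^ 3) = 1 := by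
  haveI := PGroup23.normal_of_index_eq hS hQi
  obtain ⟨n, hn, hQn⟩ := PGroup23.exists_card_eq hQ
  have hq : ∀ g : S, g ^ p ∈ Q := fun g => by
    rw [← QuotientGroup.eq_one_iff, QuotientGroup.mk_pow]
    have h : Nat.card (S ⧸ Q) = p := by rw [← Subgroup.index_eq_card]; exact hQi
    conv_lhs => rw [← h]
    exact pow_card_eq_one'
  refine ⟨⟨n, hn, by rw [← Q.index_mul_card, hQi, hQn, ← pow_succ']; ring_nf⟩, ?_, fun g => ?_⟩
  · have h1 : derivedSeries S 1 ≤ Q := by
      rw [derivedSeries_one, commutator_def, Subgroup.commutator_le]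
      intro a _ b _
      rw [← QuotientGroup.eq_one_iff]
      show QuotientGroup.mk' Q _ = 1
      rw [map_commutatorElement, commutatorElement_eq_one_iff_mul_comm]
      haveI : IsCyclic (S ⧸ Q) := isCyclic_of_prime_card (p := p)
        (by rw [← Subgroup.index_eq_card]; exact hQi)
      exact IsCyclic.commGroup.mul_comm _ _
    have h2 : derivedSeries S 2 ≤ (Subgroup.center ↥Q).map Q.subtype := by
      rw [← hQ.1.2.2, commutator_def, Subgroup.map_commutator, ← MonoidHom.range_eq_map,
        Subgroup.range_subtype, derivedSeries_succ]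
      exact Subgroup.commutator_mono h1 h1
    rw [eq_bot_iff, derivedSeries_succ]
    refine le_trans (Subgroup.commutator_mono h2 h2) (le_of_eq ?_)
    rw [← Subgroup.map_commutator, Subgroup.map_eq_bot_iff_of_injective _ Q.subtype_injective,
      Subgroup.commutator_eq_bot_iff_le_centralizer]
    intro a ha
    exact Subgroup.mem_centralizer_iff.mpr fun b _ => Subgroup.mem_center_iff.mp ha b
  · have h1 : (⟨g ^ p, hq g⟩ : Q) ^ p ∈ Subgroup.center ↥Q := by
      rw [← hQ.1.2.1, frattini, Order.radical]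
      simp only [Subgroup.mem_iInf]
      intro M hM
      haveI : Group.IsNilpotent Q := hQ.1.1.isNilpotent
      haveI : M.Normal := Subgroup.NormalizerCondition.normal_of_coatom M
        Group.normalizerCondition_of_isNilpotent hM
      obtain ⟨k, hk⟩ := IsPGroup.iff_card.mp (hQ.1.1.to_quotient M)
      have hM1 : M ≠ ⊤ := hM.1
      rw [← QuotientGroup.eq_one_iff, QuotientGroup.mk_pow]
      haveI : Nontrivial (Q ⧸ M) := QuotientGroup.nontrivial_iff.mpr hM1
      obtain ⟨w, hw⟩ := exists_prime_orderOf_dvd_card' (G := Q ⧸ M) p (by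
        rw [hk]
        refine dvd_pow_self p ?_
        rintro rfl
        exact absurd (Finite.one_lt_card (α := Q ⧸ M)) (by rw [hk]; simp))
      have htop : (Subgroup.zpowers w).comap (QuotientGroup.mk' M) = ⊤ := by
        refine hM.2 _ (lt_of_le_of_ne ?_ ?_)
        · intro x hx
          rw [Subgroup.mem_comap, QuotientGroup.mk'_apply, (QuotientGroup.eq_one_iff x).mpr hx]
          exact one_mem _
        · intro he
          obtain ⟨u, rfl⟩ := QuotientGroup.mk_surjective w
          have : u ∈ M := he.symm ▸ (show (u : Q ⧸ M) ∈ Subgroup.zpowers (u : Q ⧸ M) from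
            Subgroup.mem_zpowers _)
          rw [(QuotientGroup.eq_one_iff u).mpr this, orderOf_one] at hw
          exact (Fact.out : p.Prime).ne_one hw.symm
      obtain ⟨i, hi⟩ := Subgroup.mem_zpowers_iff.mp
        (htop.symm ▸ Subgroup.mem_top (⟨g ^ p, hq g⟩ : Q) :
          (⟨g ^ p, hq g⟩ : Q) ∈ (Subgroup.zpowers w).comap (QuotientGroup.mk' M))
      rw [show ((⟨g ^ p, hq g⟩ : Q) : Q ⧸ M) = w ^ i from hi.symm, ← zpow_natCast, ← zpow_mul,
        mul_comm, zpow_mul, zpow_natCast, ← hw, pow_orderOf_eq_one, one_zpow]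
    have h2 := pow_card_eq_one' (x := (⟨_, h1⟩ : Subgroup.center ↥Q))
    rw [hQ.2] at h2
    have h3 : ((g ^ p) ^ p) ^ p = 1 := congrArg (fun z : Subgroup.center ↥Q => ((z : Q) : S)) h2
    rw [← pow_mul, ← pow_mul] at h3
    rwa [pow_succ, pow_two, mul_assoc]

end Cfsg.Agent.S3809
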