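import Cfsg.Statements.S3810
import Cfsg.Agent.Lib.PGroup23.Extraspecial
import Cfsg.Agent.Lib.Basics.Cores

set_option autoImplicit false
open Cfsg
open scoped commutatorElement

namespace Cfsg.Agent.S3810

/-- Let S be a finite p-group with an extraspecial subgroup of index p. Then S has an abelian subgroup of index p if and only if S has order p⁴. -/
theorem result {S : Type*} [Group S] [Finite S] (p : ℕ) [Fact p.Prime] (hS : IsPGroup p S) (Q : Subgroup S) (hQ : Cfsg.IsExtraspecial p ↥Q) (hQi : Q.index = p) :
    (∃ A : Subgroup S, IsMulCommutative ↥A ∧ A.index = p) ↔ Nat.card S = p ^ 4 := by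
  have hp := (Fact.out : p.Prime)
  haveI := PGroup23.normal_of_index_eq hS hQi
  obtain ⟨n, hn, hQn⟩ := PGroup23.exists_card_eq hQ
  have hScard : Nat.card S = p * p ^ (1 + 2 * n) := by rw [← Q.index_mul_card, hQi, hQn]
  have hQna : ¬ IsMulCommutative ↥Q := fun h => by
    have h1 : commutator ↥Q = ⊥ := by
      rw [commutator_def, Subgroup.commutator_eq_bot_iff_le_centralizer]
      exact fun a _ => Subgroup.mem_centralizer_iff.mpr fun b _ => h.is_comm.comm b a
    rw [hQ.1.2.2] at h1
    exact hp.ne_one (by rw [← hQ.2, h1, Subgroup.card_bot])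
  constructor
  · rintro ⟨A, hA, hAi⟩
    haveI := PGroup23.normal_of_index_eq hS hAi
    have hB : IsMulCommutative ↥(A.subgroupOf Q) :=
      ⟨⟨fun a b => Subtype.ext (Subtype.ext (by
        show ((a : Q) : S) * (b : Q) = (b : Q) * (a : Q)
        exact congrArg Subtype.val (hA.is_comm.comm (⟨_, a.2⟩ : A) ⟨_, b.2⟩)))⟩⟩
    have hd : A.relIndex Q ∣ p := hAi ▸ Subgroup.relIndex_dvd_index_of_normal A Q
    rcases hp.eq_one_or_self_of_dvd _ hd with h | h
    · exact absurd (show IsMulCommutative ↥Q from ⟨⟨fun a b => Subtype.ext (by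
        show (a : S) * b = b * a
        exact congrArg Subtype.val (hA.is_comm.comm (⟨_, Subgroup.relIndex_eq_one.mp h a.2⟩ : A)
          ⟨_, Subgroup.relIndex_eq_one.mp h b.2⟩))⟩⟩) hQna
    · have h2 := PGroup23.mul_card_eq (S := Q) hQ.1.1 hQna hB h
      rw [hQ.1.2.2, hQ.2] at h2
      have h3 := (Subgroup.center ↥Q).index_mul_card
      rw [h2, hQ.2, hQn] at h3
      have h4 : p ^ 3 = p ^ (1 + 2 * n) := by rw [← h3]; ring
      have h5 : 3 = 1 + 2 * n := Nat.pow_right_injective hp.two_le h4
      rw [hScard, ← h5]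
      ring
  · intro h4
    have hindex : ∀ A : Subgroup S, Nat.card A = p ^ 3 → A.index = p := fun A hA => by
      have := A.index_mul_card
      rw [hA, h4] at this
      exact Nat.eq_of_mul_eq_mul_right (pow_pos hp.pos 3) (this.trans (by ring))
    haveI := hS.isNilpotent
    haveI : Nontrivial S := Finite.one_lt_card_iff_nontrivial.mp
      (h4 ▸ Nat.one_lt_pow (by norm_num) hp.one_lt)
    obtain ⟨k, hk⟩ := IsPGroup.iff_card.mp (hS.to_subgroup (Subgroup.center S))
    have hk0 : k ≠ 0 := by
      rintro rfl
      rw [pow_zero, Subgroup.card_eq_one] at hk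
      exact Group.IsNilpotent.center_ne_bot S hk
    -- an element outside a given subgroup, added to a central-enough subgroup
    have hgrow : ∀ U : Subgroup S, IsMulCommutative ↥U → Nat.card U = p ^ 2 →
        ∀ x : S, x ∉ U → (∀ u ∈ U, Commute x u) → ∃ A : Subgroup S, IsMulCommutative ↥A ∧ A.index = p := by
      intro U hU hUc x hx hxu
      set A := U ⊔ Subgroup.zpowers x with hA
      have hle : U < A := lt_of_le_of_ne le_sup_left fun he =>
        hx (he ▸ (le_sup_right : Subgroup.zpowers x ≤ A) (Subgroup.mem_zpowers x))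
      have hAab : IsMulCommutative ↥A := by
        rw [hA, Subgroup.zpowers_eq_closure, ← Subgroup.closure_eq U, ← Subgroup.closure_union]
        refine Subgroup.isMulCommutative_closure fun a ha b hb => ?_
        rcases ha with ha | ha <;> rcases hb with hb | hb
        · exact congrArg Subtype.val (hU.is_comm.comm (⟨a, ha⟩ : U) ⟨b, hb⟩)
        · rw [Set.mem_singleton_iff.mp hb]; exact (hxu a ha).symm.eq
        · rw [Set.mem_singleton_iff.mp ha]; exact (hxu b hb).eq
        · rw [Set.mem_singleton_iff.mp ha, Set.mem_singleton_iff.mp hb]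
      obtain ⟨j, hj⟩ := IsPGroup.iff_card.mp (hS.to_subgroup A)
      have hj3 : 2 < j := by
        have := Basics.card_lt_of_lt hle
        rw [hUc, hj] at this
        exact (Nat.pow_lt_pow_iff_right hp.one_lt).mp this
      have hj4 : j ≤ 4 := (Nat.pow_dvd_pow_iff_le_right hp.one_lt).mp
        (hj ▸ h4 ▸ A.card_subgroup_dvd_card)
      rcases (show j = 3 ∨ j = 4 by omega) with rfl | rfl
      · exact ⟨A, hAab, hindex A hj⟩
      · exfalso
        have htop : A = ⊤ := A.eq_top_of_card_eq (hj.trans h4.symm)
        refine hQna ⟨⟨fun a b => Subtype.ext ?_⟩⟩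
        show (a : S) * b = b * a
        exact congrArg Subtype.val (hAab.is_comm.comm (⟨(a : S), htop.symm ▸ Subgroup.mem_top _⟩ : A)
          ⟨(b : S), htop.symm ▸ Subgroup.mem_top _⟩)
    by_cases hk2 : 2 ≤ k
    · obtain ⟨U, hU⟩ := Sylow.exists_subgroup_card_pow_prime (G := Subgroup.center S) p (n := 2)
        (hk ▸ pow_dvd_pow p hk2)
      obtain ⟨x, hx⟩ : ∃ x, x ∉ U.map (Subgroup.center S).subtype := by
        by_contra hcon
        simp only [not_exists, not_not] at hcon
        have h1 := Subgroup.card_le_of_le (H := ⊤) (K := U.map (Subgroup.center S).subtype)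
          fun g _ => hcon g
        rw [Subgroup.card_top, Subgroup.card_map_of_injective (Subgroup.subtype_injective _), hU,
          h4] at h1
        exact absurd h1 (Nat.pow_lt_pow_right hp.one_lt (by norm_num)).not_ge
      refine hgrow _ ⟨⟨fun a b => Subtype.ext ?_⟩⟩
        (by rw [Subgroup.card_map_of_injective (Subgroup.subtype_injective _), hU]) x hx ?_
      · obtain ⟨u, -, hu⟩ := a.2
        show (a : S) * b = b * a
        rw [← hu]
        exact (Subgroup.mem_center_iff.mp u.2 _).symm
      · rintro _ ⟨u, -, rfl⟩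
        exact Subgroup.mem_center_iff.mp u.2 x
    · obtain rfl : k = 1 := by omega
      rw [pow_one] at hk
      -- the quotient by the centre has a central element of order `p`
      haveI : Nontrivial (S ⧸ Subgroup.center S) := QuotientGroup.nontrivial_iff.mpr fun h => by
        rw [h, Subgroup.card_top, h4] at hk
        have := Nat.pow_right_injective hp.two_le (hk.trans (pow_one p).symm)
        omega
      obtain ⟨e, he⟩ := IsPGroup.iff_card.mp ((hS.to_quotient (Subgroup.center S)).to_subgroup
        (Subgroup.center (S ⧸ Subgroup.center S)))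
      have hd : p ∣ Nat.card (Subgroup.center (S ⧸ Subgroup.center S)) := by
        rw [he]
        refine dvd_pow_self p fun h => ?_
        rw [h, pow_zero, Subgroup.card_eq_one] at he
        exact Group.IsNilpotent.center_ne_bot _ he
      obtain ⟨w, hw⟩ := exists_prime_orderOf_dvd_card' p hd
      set U := (Subgroup.zpowers (w : S ⧸ Subgroup.center S)).comap
        (QuotientGroup.mk' (Subgroup.center S)) with hUdef
      have hUc : Nat.card U = p ^ 2 := by
        rw [hUdef, show Nat.card ((Subgroup.zpowers (w : S ⧸ Subgroup.center S)).comap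
          (QuotientGroup.mk' (Subgroup.center S))) = Nat.card (Subgroup.center S) *
          Nat.card (Subgroup.zpowers (w : S ⧸ Subgroup.center S)) from
          Basics.card_comap_mk' _, hk, Nat.card_zpowers, Subgroup.orderOf_coe, hw, pow_two]
      obtain ⟨u, hu⟩ := QuotientGroup.mk_surjective (w : S ⧸ Subgroup.center S)
      have hcomm : ∀ g : S, ⁅g, u⁆ ∈ Subgroup.center S := fun g => by
        rw [← QuotientGroup.eq_one_iff]
        show QuotientGroup.mk' (Subgroup.center S) _ = 1
        rw [map_commutatorElement, commutatorElement_eq_one_iff_mul_comm, QuotientGroup.mk'_apply,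
          QuotientGroup.mk'_apply, hu]
        exact Subgroup.mem_center_iff.mp w.2 _
      let f : S →* Subgroup.center S := MonoidHom.mk' (fun g => ⟨⁅g, u⁆, hcomm g⟩) fun a b =>
        Subtype.ext (by
          show ⁅a * b, u⁆ = ⁅a, u⁆ * ⁅b, u⁆
          calc ⁅a * b, u⁆ = a * ⁅b, u⁆ * a⁻¹ * ⁅a, u⁆ := by simp only [commutatorElement_def]; group
            _ = ⁅b, u⁆ * ⁅a, u⁆ := by
              rw [Subgroup.mem_center_iff.mp (hcomm b) a, mul_inv_cancel_right]
            _ = ⁅a, u⁆ * ⁅b, u⁆ := (Subgroup.mem_center_iff.mp (hcomm b) _).symm)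
      have hUab : ∀ a ∈ U, ∃ z ∈ Subgroup.center S, ∃ i : ℤ, a = z * u ^ i := by
        intro a ha
        obtain ⟨i, hi⟩ := Subgroup.mem_zpowers_iff.mp ha
        refine ⟨a * (u ^ i)⁻¹, ?_, i, by group⟩
        rw [← QuotientGroup.eq_one_iff]
        show QuotientGroup.mk' (Subgroup.center S) _ = 1
        rw [map_mul, map_inv, map_zpow, QuotientGroup.mk'_apply _ u, hu, hi, mul_inv_cancel]
      have hker : Nat.card U < Nat.card f.ker := by
        have h1 := f.ker.card_eq_card_quotient_mul_card_subgroup
        rw [Nat.card_congr (QuotientGroup.quotientKerEquivRange f).toEquiv, h4] at h1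
        have h2 : Nat.card f.range ≤ p := hk ▸ Subgroup.card_le_card_group f.range
        rw [hUc]
        by_contra hle
        have h6 := Nat.mul_le_mul h2 (Nat.not_lt.mp hle)
        rw [← h1, ← pow_succ'] at h6
        exact absurd h6 (Nat.pow_lt_pow_right hp.one_lt (by norm_num)).not_ge
      obtain ⟨x, hxk, hxU⟩ : ∃ x ∈ f.ker, x ∉ U := by
        by_contra hcon
        simp only [not_exists, not_and, not_not] at hcon
        exact hker.not_ge (Subgroup.card_le_of_le hcon)
      refine hgrow U ⟨⟨fun a b => Subtype.ext ?_⟩⟩ hUc x hxU ?_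
      · obtain ⟨z, hz, i, hi⟩ := hUab a a.2
        obtain ⟨z', hz', i', hi'⟩ := hUab b b.2
        show (a : S) * b = b * a
        rw [hi, hi']
        exact (Commute.mul_left (Subgroup.mem_center_iff.mp hz _).symm
          (Commute.mul_right (Subgroup.mem_center_iff.mp hz' _) (Commute.zpow_zpow_self u i i'))).eq
      · intro a ha
        obtain ⟨z, hz, i, rfl⟩ := hUab a ha
        exact Commute.mul_right (Subgroup.mem_center_iff.mp hz x)
          ((show Commute x u from commutatorElement_eq_one_iff_mul_comm.mp
            (congrArg Subtype.val hxk)).zpow_right i)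

end Cfsg.Agent.S3810
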