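import Cfsg.Statements.S3811
import Mathlib
import Cfsg.Agent.Lib.Basics.Frattini
import Cfsg.Agent.Lib.LocalEvenB.Basic

set_option linter.style.haveILetI false

set_option autoImplicit false
open Cfsg

namespace Cfsg.Agent.S3811

open Subgroup Cfsg.Agent
open scoped commutatorElement

universe u

section

variable {G : Type u} [Group G]

local notation "L" => Subgroup.lowerCentralSeries (⊤ : Subgroup G)

theorem lcs_succ (j : ℕ) : L (j + 1) = ⁅L j, (⊤ : Subgroup G)⁆ := rfl

theorem lcs_le (j : ℕ) : L (j + 1) ≤ L j := Subgroup.lowerCentralSeries_antitone _ (Nat.le_succ j)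

theorem map_bot_iff (S : Subgroup G) [S.Normal] (H : Subgroup G) :
    H.map (QuotientGroup.mk' S) = ⊥ ↔ H ≤ S := by
  rw [Subgroup.map_eq_bot_iff, QuotientGroup.ker_mk']

theorem three_mod {S : Subgroup G} [S.Normal] {A B C : Subgroup G} (h1 : ⁅⁅B, C⁆, A⁆ ≤ S)
    (h2 : ⁅⁅C, A⁆, B⁆ ≤ S) : ⁅⁅A, B⁆, C⁆ ≤ S := by
  rw [← map_bot_iff S, map_commutator, map_commutator] at h1 h2 ⊢
  exact commutator_commutator_eq_bot_of_rotate h1 h2

theorem comm_sup_right {S : Subgroup G} [S.Normal] {A B C : Subgroup G} (h1 : ⁅A, B⁆ ≤ S)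
    (h2 : ⁅A, C⁆ ≤ S) : ⁅A, B ⊔ C⁆ ≤ S := by
  rw [commutator_comm, ← map_bot_iff S, map_commutator, commutator_eq_bot_iff_le_centralizer] at h1 h2 ⊢
  rw [Subgroup.map_sup]
  exact sup_le h1 h2

theorem comm_sup_left {S : Subgroup G} [S.Normal] {A B C : Subgroup G} (h1 : ⁅B, A⁆ ≤ S)
    (h2 : ⁅C, A⁆ ≤ S) : ⁅B ⊔ C, A⁆ ≤ S := by
  rw [commutator_comm] at h1 h2 ⊢
  exact comm_sup_right h1 h2

theorem normal_of_between {j : ℕ} {S : Subgroup G} (h1 : L (j + 1) ≤ S) (h2 : S ≤ L j) : S.Normal :=
  ⟨fun s hs g => by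
    have : ⁅s, g⁆ ∈ S := h1 (commutator_mem_commutator (h2 hs) (mem_top g))
    have := S.mul_mem (S.inv_mem this) hs
    simpa [commutatorElement_def, mul_assoc] using this⟩

theorem eq_bot_of_le_commutator [Group.IsNilpotent G] {H : Subgroup G}
    (h : H ≤ ⁅H, (⊤ : Subgroup G)⁆) : H = ⊥ := by
  have : ∀ n, H ≤ L n := by
    intro n
    induction n with
    | zero => exact le_top
    | succ n ih => exact h.trans (commutator_mono ih le_rfl)
  rw [eq_bot_iff, ← Subgroup.lowerCentralSeries_nilpotencyClass (G := G)]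
  exact this _

/-- A stationary step of `E γ_j` for two abelian subgroups generating the group. -/
theorem eq_bot_of_sup_eq [Group.IsNilpotent G] {E E' : Subgroup G} (hE : IsMulCommutative E)
    (hE' : IsMulCommutative E') (hgen : E ⊔ E' = ⊤) {j : ℕ} (h : E ⊔ L j = E ⊔ L (j + 1))
    (h' : E' ⊔ L j = E' ⊔ L (j + 1)) : L (j + 1) = ⊥ := by
  have key : ∀ F : Subgroup G, IsMulCommutative F → F ⊔ L j = F ⊔ L (j + 1) →
      ⁅L j, F⁆ ≤ L (j + 2) := by
    intro F hF hh
    rw [commutator_le]
    intro a ha e he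
    have ha' : a ∈ L (j + 1) ⊔ F := by
      rw [sup_comm, ← hh]
      exact mem_sup_right ha
    obtain ⟨l, hl, e₁, he₁, rfl⟩ := mem_sup_of_normal_left.mp ha'
    have hc : e₁ * e = e * e₁ := congrArg Subtype.val (hF.is_comm.comm (⟨e₁, he₁⟩ : F) ⟨e, he⟩)
    have e1 : ⁅l * e₁, e⁆ = ⁅l, e⁆ := by
      calc ⁅l * e₁, e⁆ = l * (e₁ * e) * e₁⁻¹ * l⁻¹ * e⁻¹ := by simp [commutatorElement_def, mul_assoc]
        _ = ⁅l, e⁆ := by rw [hc]; simp [commutatorElement_def, mul_assoc]
    rw [e1]
    exact commutator_mem_commutator hl (mem_top e)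
  refine eq_bot_of_le_commutator ?_
  have := comm_sup_right (key E hE h) (key E' hE' h')
  rw [hgen] at this
  exact this

theorem lcs_comm_one (j : ℕ) : ⁅L j, L 1⁆ ≤ L (j + 2) := by
  rw [commutator_comm]
  exact three_mod (A := (⊤ : Subgroup G)) (B := ⊤)
    (by rw [commutator_comm (⊤ : Subgroup G) (L j)]; exact le_rfl) le_rfl

theorem lcs_comm_two (j : ℕ) : ⁅L 2, L j⁆ ≤ L (j + 3) := by
  refine three_mod (A := L 1) (B := (⊤ : Subgroup G)) ?_ ?_
  · rw [commutator_comm (⊤ : Subgroup G) (L j)]
    exact lcs_comm_one (j + 1)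
  · exact commutator_mono (lcs_comm_one j) le_rfl

/-- If `G' ≤ H' γ₂` then the lower central series is reached from `H`. -/
theorem lcs_le_of_gen (H : Subgroup G) (h : L 1 ≤ H.lowerCentralSeries 1 ⊔ L 2) :
    ∀ j, L (j + 1) ≤ H.lowerCentralSeries (j + 1) ⊔ L (j + 2) := by
  have hle : ∀ k, H.lowerCentralSeries k ≤ L k := fun k => Subgroup.lowerCentralSeries_mono k le_top
  intro j
  induction j with
  | zero => exact h
  | succ j ih =>
    set S := H.lowerCentralSeries (j + 2) ⊔ L (j + 3)
    haveI : S.Normal := normal_of_between (j := j + 2) le_sup_right (sup_le (hle _) (lcs_le _))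
    have hT : ⁅H.lowerCentralSeries (j + 1), (⊤ : Subgroup G)⁆ ≤ S := by
      refine three_mod (A := H.lowerCentralSeries j) (B := H) ?_ ?_
      · have h1 : ⁅H, (⊤ : Subgroup G)⁆ ≤ H.lowerCentralSeries 1 ⊔ L 2 :=
          (commutator_mono le_top le_rfl).trans h
        refine (commutator_mono h1 le_rfl).trans (comm_sup_left ?_ ?_)
        · refine three_mod (A := H) (B := H) ?_ le_sup_left
          rw [commutator_comm H]
          exact le_sup_left
        · exact ((commutator_mono le_rfl (hle j)).trans (lcs_comm_two j)).trans le_sup_right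
      · have h1 : ⁅(⊤ : Subgroup G), H.lowerCentralSeries j⁆ ≤
            H.lowerCentralSeries (j + 1) ⊔ L (j + 2) := by
          rw [commutator_comm]
          exact (commutator_mono (hle j) le_rfl).trans ih
        refine (commutator_mono h1 le_rfl).trans (comm_sup_left le_sup_left ?_)
        exact (commutator_mono le_rfl le_top).trans le_sup_right
    exact (commutator_mono ih le_rfl).trans (comm_sup_left hT le_sup_right)

/-- The two-element obstruction. -/
theorem lcs_eq_bot_of_pair [Group.IsNilpotent G] {E E' : Subgroup G} (hE' : IsMulCommutative E')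
    (a b : G) (hgen : E ⊔ zpowers b = ⊤) (hgen' : E' ⊔ zpowers a = ⊤)
    (haE : ∀ e ∈ E, e * a = a * e) {i : ℕ}
    (ha : ∀ t ∈ L i, t * a = a * t) (hb : ∀ t ∈ L i, t * b = b * t) : L (i + 1) = ⊥ := by
  set H := zpowers a ⊔ zpowers b with hH
  have hbase : L 1 ≤ H.lowerCentralSeries 1 ⊔ L 2 := by
    set S := H.lowerCentralSeries 1 ⊔ L 2
    haveI : S.Normal := normal_of_between (j := 1) le_sup_right
      (sup_le (Subgroup.lowerCentralSeries_mono 1 le_top) (lcs_le 1))
    have haS : ⁅zpowers a, (⊤ : Subgroup G)⁆ ≤ S := by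
      rw [← hgen]
      refine comm_sup_right ?_ ?_
      · rw [commutator_eq_bot_iff_le_centralizer.mpr (zpowers_le.mpr fun e he => haE e he)]
        exact bot_le
      · exact le_sup_of_le_left (commutator_mono le_sup_left le_sup_right)
    have hEE : ⁅E', E'⁆ ≤ S := by
      rw [commutator_eq_bot_iff_le_centralizer.mpr fun e he f hf =>
        congrArg Subtype.val (hE'.is_comm.comm (⟨f, hf⟩ : E') ⟨e, he⟩)]
      exact bot_le
    have haE' : ⁅zpowers a, E'⁆ ≤ S := (commutator_mono le_rfl le_top).trans haS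
    have h2 : ⁅(⊤ : Subgroup G), ⊤⁆ ≤ S := by
      conv_lhs => arg 1; rw [← hgen']
      refine comm_sup_left ?_ haS
      rw [← hgen']
      exact comm_sup_right hEE (by rwa [commutator_comm])
    exact h2
  have hT : H.lowerCentralSeries (i + 1) = ⊥ := by
    rw [Subgroup.lowerCentralSeries_succ, commutator_comm, commutator_eq_bot_iff_le_centralizer]
    refine sup_le (zpowers_le.mpr fun t ht => ?_) (zpowers_le.mpr fun t ht => ?_)
    · exact ha t (Subgroup.lowerCentralSeries_mono i le_top ht)
    · exact hb t (Subgroup.lowerCentralSeries_mono i le_top ht)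
  have := lcs_le_of_gen H hbase i
  rw [hT, bot_sup_eq] at this
  exact eq_bot_of_le_commutator this

theorem card_mul_le_of_lt [Finite G] {p : ℕ} [hp : Fact p.Prime] (hG : IsPGroup p G)
    {X Y : Subgroup G} (h : X < Y) : p * Nat.card X ≤ Nat.card Y := by
  obtain ⟨a, ha⟩ := IsPGroup.iff_card.1 (hG.to_subgroup X)
  obtain ⟨b, hb⟩ := IsPGroup.iff_card.1 (hG.to_subgroup Y)
  have hab : a < b := by
    by_contra hba
    exact h.ne (eq_of_le_of_card_ge h.le (by
      rw [ha, hb]; exact Nat.pow_le_pow_right hp.out.pos (by omega)))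
  rw [ha, hb, ← pow_succ']
  exact Nat.pow_le_pow_right hp.out.pos hab

/-- The structure of a proper overgroup of a soft subgroup. -/
theorem soft_structure [Finite G] {p : ℕ} [hp : Fact p.Prime] [Group.IsNilpotent G]
    (hG : IsPGroup p G) (E A : Subgroup G)
    (hE : IsMulCommutative E) (hcent : centralizer (E : Set G) ≤ E)
    (hstep : ∀ H : Subgroup G, E ≤ H → H ≠ ⊤ →
      Nat.card (normalizer (H : Set G)) ≤ p * Nat.card H)
    (hAE : A ≤ E) (hA : Nat.card E ≤ p * Nat.card A)
    (hAN : A ≤ centralizer (normalizer (E : Set G) : Set G))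
    (M : Subgroup G) (hEM : E ≤ M) (hMt : M ≠ ⊤) (hMn : M.Normal)
    (hMmax : ∀ H : Subgroup G, E ≤ H → H ≠ ⊤ → H ≤ M)
    (i : ℕ) (hi : Nat.card G = p ^ (i + 1) * Nat.card E)
    (θ₀ : MulAut G) (hθ₀ : M.map θ₀.toMonoidHom ≠ M) :
    Group.nilpotencyClass G = i + 2 ∧
      ∃ D : Subgroup G, Nat.card G ≤ p ^ 2 * Nat.card D ∧
        ∀ θ : MulAut G, D ≤ M.map θ.toMonoidHom := by
  have hmapL : ∀ (θ : MulAut G) (j : ℕ), (L j).map θ.toMonoidHom = L j := fun θ j =>
    characteristic_iff_map_eq.mp inferInstance θ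
  have hcard : ∀ (θ : MulAut G) (X : Subgroup G), Nat.card (X.map θ.toMonoidHom) = Nat.card X :=
    fun θ X => card_map_of_injective (MulEquiv.injective θ)
  set E₀ := E.map θ₀.toMonoidHom with hE₀
  have hE₀M : ¬ E₀ ≤ M := by
    intro h
    have h1 : E ≤ M.comap θ₀.toMonoidHom := map_le_iff_le_comap.mp h
    have h2 : M.comap θ₀.toMonoidHom ≠ ⊤ := fun h2 => hMt (by
      rw [← map_comap_eq_self_of_surjective (f := θ₀.toMonoidHom) θ₀.surjective M, h2,
        map_top_of_surjective _ θ₀.surjective])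
    have h3 := map_mono (f := θ₀.toMonoidHom) (hMmax _ h1 h2)
    rw [map_comap_eq_self_of_surjective θ₀.surjective] at h3
    exact hθ₀ (eq_of_le_of_card_ge h3 (hcard θ₀ M).le).symm
  have hgen : E ⊔ E₀ = ⊤ := by
    by_contra h
    exact hE₀M (le_sup_right.trans (hMmax _ le_sup_left h))
  have hstrict : ∀ j, L (j + 1) ≠ ⊥ → p * Nat.card ↥(E ⊔ L (j + 1)) ≤ Nat.card ↥(E ⊔ L j) := by
    intro j hj
    refine card_mul_le_of_lt hG (lt_of_le_of_ne (sup_le_sup_left (lcs_le j) E) fun h => hj ?_)
    haveI := hE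
    refine eq_bot_of_sup_eq hE (E' := E₀) (Subgroup.map_isMulCommutative E θ₀.toMonoidHom) hgen h.symm ?_
    rw [hE₀, ← hmapL θ₀ j, ← hmapL θ₀ (j + 1), ← Subgroup.map_sup, ← Subgroup.map_sup, h]
  have hupper : L (i + 2) = ⊥ := by
    by_contra hne
    have : ∀ j ≤ i + 2, p ^ j * Nat.card ↥(E ⊔ L j) ≤ Nat.card G := by
      intro j hj
      induction j with
      | zero => simpa using card_le_card_group (E ⊔ L 0)
      | succ j ih =>
        have hj' : L (j + 1) ≠ ⊥ := fun h => hne (le_bot_iff.mp
          ((Subgroup.lowerCentralSeries_antitone _ hj).trans h.le))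
        calc p ^ (j + 1) * Nat.card ↥(E ⊔ L (j + 1))
            = p ^ j * (p * Nat.card ↥(E ⊔ L (j + 1))) := by ring
          _ ≤ p ^ j * Nat.card ↥(E ⊔ L j) := Nat.mul_le_mul_left _ (hstrict j hj')
          _ ≤ Nat.card G := ih (by omega)
    have h1 := this (i + 2) le_rfl
    have h2 : Nat.card E ≤ Nat.card ↥(E ⊔ L (i + 2)) := card_le_of_le le_sup_left
    rw [hi] at h1
    have h3 : p ^ (i + 2) * Nat.card E ≤ p ^ (i + 1) * Nat.card E :=
      (Nat.mul_le_mul_left _ h2).trans h1
    have h4 := Nat.le_of_mul_le_mul_right h3 Nat.card_pos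
    exact absurd ((Nat.pow_le_pow_iff_right hp.out.one_lt).mp h4) (by omega)
  have hnorm : ∀ j, L j ≤ normalizer ((E ⊔ L (j + 1) : Subgroup G) : Set G) := by
    intro j
    rw [le_normalizer_iff_commutator_le_left, commutator_comm]
    exact (commutator_mono le_rfl le_top).trans le_sup_right
  have hlow : ∀ j, Nat.card ↥(E ⊔ L j) ≤ p * Nat.card ↥(E ⊔ L (j + 1)) := by
    intro j
    rcases eq_or_ne (E ⊔ L (j + 1)) ⊤ with h | h
    · rw [h, card_top]
      exact (card_le_card_group _).trans (Nat.le_mul_of_pos_left _ hp.out.pos)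
    · exact (card_le_of_le (sup_le (le_sup_left.trans le_normalizer) (hnorm j))).trans
        (hstep _ le_sup_left h)
  have hcentral : L (i + 1) ≤ E := fun t ht => hcent fun e _ => by
    have : ⁅t, e⁆ ∈ L (i + 2) := commutator_mem_commutator ht (mem_top e)
    rw [hupper, mem_bot, commutatorElement_eq_one_iff_mul_comm] at this
    exact this.symm
  have hlower : L (i + 1) ≠ ⊥ := by
    intro hb
    have hcen : L i ≤ E := fun t ht => hcent fun e _ => by
      have : ⁅t, e⁆ ∈ L (i + 1) := commutator_mem_commutator ht (mem_top e)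
      rw [hb, mem_bot, commutatorElement_eq_one_iff_mul_comm] at this
      exact this.symm
    have : ∀ k ≤ i, Nat.card ↥(E ⊔ L (i - k)) ≤ p ^ k * Nat.card E := by
      intro k hk
      induction k with
      | zero => rw [Nat.sub_zero, sup_eq_left.mpr hcen, pow_zero, one_mul]
      | succ k ih =>
        calc Nat.card ↥(E ⊔ L (i - (k + 1))) ≤ p * Nat.card ↥(E ⊔ L (i - (k + 1) + 1)) := hlow _
          _ ≤ p * (p ^ k * Nat.card E) := by
              rw [show i - (k + 1) + 1 = i - k by omega]
              exact Nat.mul_le_mul_left _ (ih (by omega))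
          _ = p ^ (k + 1) * Nat.card E := by ring
    have h1 := this i le_rfl
    rw [Nat.sub_self, Subgroup.lowerCentralSeries_zero, sup_top_eq, card_top, hi] at h1
    exact absurd ((Nat.pow_le_pow_iff_right hp.out.one_lt).mp
      (Nat.le_of_mul_le_mul_right h1 Nat.card_pos)) (by omega)
  have hclass : Group.nilpotencyClass G = i + 2 := by
    refine le_antisymm (Subgroup.lowerCentralSeries_eq_bot_iff_nilpotencyClass_le.mp hupper) ?_
    by_contra h
    exact hlower (Subgroup.lowerCentralSeries_eq_bot_iff_nilpotencyClass_le.mpr (by omega))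
  -- the conjugates of `A`
  have hAL : ∀ a ∈ A, ∀ t ∈ L i, t * a = a * t := by
    have hN : L i ≤ normalizer (E : Set G) := by
      have h := hnorm i
      rwa [sup_eq_left.mpr hcentral] at h
    exact fun a ha t ht => hAN ha t (hN ht)
  have hAM : ∀ θ : MulAut G, A.map θ.toMonoidHom ≤ M := by
    rintro θ b ⟨a, ha, rfl⟩
    by_contra hb
    have hgb : E ⊔ zpowers (θ.toMonoidHom a) = ⊤ := by
      by_contra h
      exact hb (hMmax _ le_sup_left h (mem_sup_right (mem_zpowers _)))
    have hga : E.map θ.symm.toMonoidHom ⊔ zpowers a = ⊤ := by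
      have := congrArg (Subgroup.map θ.symm.toMonoidHom) hgb
      rw [Subgroup.map_sup, MonoidHom.map_zpowers, map_top_of_surjective _ θ.symm.surjective] at this
      simpa using this
    haveI := hE
    refine hlower (lcs_eq_bot_of_pair (Subgroup.map_isMulCommutative E θ.symm.toMonoidHom) a
      (θ.toMonoidHom a) hgb hga
      (fun e he => congrArg Subtype.val (hE.is_comm.comm (⟨e, he⟩ : E) ⟨a, hAE ha⟩)) (hAL a ha) ?_)
    intro t ht
    obtain ⟨t', ht', rfl⟩ := (hmapL θ i).ge ht
    rw [← map_mul, ← map_mul, hAL a ha t' ht']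
  refine ⟨hclass, A ⊔ L 1, ?_, fun θ => sup_le ?_ ?_⟩
  · -- the index of `D`
    have hne : L 1 ≠ ⊥ := fun h => hlower (le_bot_iff.mp
      ((Subgroup.lowerCentralSeries_antitone _ (by omega)).trans h.le))
    have h1 : Nat.card G ≤ p * Nat.card ↥(E ⊔ L 1) := by
      have := hlow 0
      rwa [Subgroup.lowerCentralSeries_zero, sup_top_eq, card_top] at this
    have hsup : ∀ X : Subgroup G, Nat.card ↥(X ⊔ L 1) = Nat.card (L 1) * (L 1).relIndex X := by
      intro X
      rw [← relIndex_bot_left (X ⊔ L 1), ← relIndex_bot_left (L 1),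
        ← relIndex_sup_right (H := X) (K := L 1)]
      exact (relIndex_mul_relIndex ⊥ (L 1) (X ⊔ L 1) bot_le le_sup_right).symm
    have hprod : ∀ X : Subgroup G, Nat.card X = Nat.card ↥(L 1 ⊓ X) * (L 1).relIndex X := by
      intro X
      rw [← inf_relIndex_right (L 1) X, ← relIndex_bot_left X, ← relIndex_bot_left (L 1 ⊓ X)]
      exact (relIndex_mul_relIndex ⊥ (L 1 ⊓ X) X bot_le inf_le_right).symm
    have h2 : (L 1).relIndex E ≤ p * (L 1).relIndex A := by
      refine Nat.le_of_mul_le_mul_left ?_ (Nat.card_pos (α := ↥(L 1 ⊓ E)))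
      calc Nat.card ↥(L 1 ⊓ E) * (L 1).relIndex E = Nat.card E := (hprod E).symm
        _ ≤ p * Nat.card A := hA
        _ = p * (Nat.card ↥(L 1 ⊓ A) * (L 1).relIndex A) := by rw [← hprod A]
        _ ≤ p * (Nat.card ↥(L 1 ⊓ E) * (L 1).relIndex A) :=
            Nat.mul_le_mul_left _ (Nat.mul_le_mul_right _ (card_le_of_le (inf_le_inf_left _ hAE)))
        _ = _ := by ring
    calc Nat.card G ≤ p * (Nat.card (L 1) * (L 1).relIndex E) := hsup E ▸ h1
      _ ≤ p * (Nat.card (L 1) * (p * (L 1).relIndex A)) :=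
          Nat.mul_le_mul_left _ (Nat.mul_le_mul_left _ h2)
      _ = p ^ 2 * (Nat.card (L 1) * (L 1).relIndex A) := by ring
      _ = p ^ 2 * Nat.card ↥(A ⊔ L 1) := by rw [← hsup A]
  · intro a ha
    exact ⟨θ.symm a, hAM θ.symm ⟨a, ha, rfl⟩, θ.apply_symm_apply a⟩
  · rw [← hmapL θ 1]
    refine map_mono ?_
    have hlt : E ⊔ L 1 ≠ ⊤ := fun h => by
      have h0 : E ⊔ L 0 = E ⊔ L 1 := by rw [h, Subgroup.lowerCentralSeries_zero, sup_top_eq]
      have h1' := hstrict 0 (fun h' => hlower (le_bot_iff.mp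
        ((Subgroup.lowerCentralSeries_antitone _ (by omega)).trans h'.le)))
      rw [h0] at h1'
      exact absurd (Nat.le_of_mul_le_mul_right (h1'.trans (one_mul _).ge) Nat.card_pos)
        (Nat.not_le.mpr hp.out.one_lt)
    exact le_sup_right.trans (hMmax _ le_sup_left hlt)

/-- Few subgroups of index `p` contain a given subgroup of index at most `p²`. -/
theorem count_le [Finite G] {p : ℕ} [hp : Fact p.Prime] (hG : IsPGroup p G) {ι : Type*} [Finite ι]
    (F : ι → Subgroup G) (hF : Function.Injective F) (D : Subgroup G) (hD : ∀ q, D ≤ F q)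
    (hFc : ∀ q, p * Nat.card (F q) = Nat.card G) (hDc : Nat.card G ≤ p ^ 2 * Nat.card D) :
    Nat.card ι ≤ p + 1 := by
  classical
  haveI : Fintype ι := Fintype.ofFinite ι
  by_cases hsmall : ∃ q, F q = D
  · obtain ⟨q, hq⟩ := hsmall
    have : Subsingleton ι := ⟨fun a b => by
      have : ∀ r, F r = D := fun r => (eq_of_le_of_card_ge (hD r) (by
        rw [← hq]
        exact (Nat.mul_left_cancel hp.out.pos ((hFc r).trans (hFc q).symm)).le)).symm
      exact hF ((this a).trans (this b).symm)⟩
    have := Finite.card_le_one_iff_subsingleton.mpr this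
    omega
  push Not at hsmall
  have hcard : ∀ q, Nat.card (F q) = p * Nat.card D := by
    intro q
    refine le_antisymm ?_ (card_mul_le_of_lt hG (lt_of_le_of_ne (hD q) (hsmall q).symm))
    refine Nat.le_of_mul_le_mul_left ?_ hp.out.pos
    rw [hFc q, ← mul_assoc, ← sq]
    exact hDc
  have hinter : ∀ q r, q ≠ r → F q ⊓ F r = D := by
    intro q r hqr
    refine (eq_of_le_of_card_ge (le_inf (hD q) (hD r)) ?_).symm
    have hlt : F q ⊓ F r < F q := lt_of_le_of_ne inf_le_left fun h => hqr (hF
      (eq_of_le_of_card_ge (inf_eq_left.mp h) (by rw [hcard, hcard])))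
    have := card_mul_le_of_lt hG hlt
    rw [hcard q] at this
    exact Nat.le_of_mul_le_mul_left this hp.out.pos
  have hdiff : ∀ X : Subgroup G, D ≤ X → Nat.card {x : G // x ∈ X ∧ x ∉ D} + Nat.card D = Nat.card X := by
    intro X hX
    have h := Nat.card_congr (Equiv.sumCompl fun x : X => (x : G) ∈ D)
    rw [Nat.card_sum] at h
    rw [← h, add_comm]
    congr 1
    · exact (Nat.card_congr (subgroupOfEquivOfLe hX).toEquiv).symm
    · exact Nat.card_congr (Equiv.subtypeSubtypeEquivSubtypeInter (fun x => x ∈ X) fun x => x ∉ D).symm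
  have hinj : Function.Injective (fun s : Σ q : ι, {x : G // x ∈ F q ∧ x ∉ D} =>
      (⟨s.2.1, mem_top _, s.2.2.2⟩ : {x : G // x ∈ (⊤ : Subgroup G) ∧ x ∉ D})) := by
    rintro ⟨q, x, hx⟩ ⟨r, y, hy⟩ h
    have hxy : x = y := congrArg Subtype.val h
    subst hxy
    obtain rfl : q = r := by
      by_contra hqr
      exact hx.2 ((hinter q r hqr).le ⟨hx.1, hy.1⟩)
    rfl
  have h1 := Nat.card_le_card_of_injective _ hinj
  rw [Nat.card_sigma] at h1
  have h2 : ∀ q, Nat.card {x : G // x ∈ F q ∧ x ∉ D} = (p - 1) * Nat.card D := fun q => by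
    have := hdiff (F q) (hD q)
    rw [hcard] at this
    rw [Nat.sub_mul, one_mul]
    omega
  simp only [h2, Finset.sum_const, Finset.card_univ, smul_eq_mul] at h1
  have h3 := hdiff ⊤ le_top
  rw [card_top] at h3
  have hpos : 0 < Nat.card D := Nat.card_pos
  have h4 : Fintype.card ι * ((p - 1) * Nat.card D) + Nat.card D ≤ p ^ 2 * Nat.card D := by omega
  obtain ⟨p', rfl⟩ : ∃ p', p = p' + 1 := ⟨p - 1, by have := hp.out.pos; omega⟩
  have hp' : 0 < p' := by have := hp.out.two_le; omega
  rw [Nat.card_eq_fintype_card]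
  rw [Nat.add_sub_cancel] at h4
  have h5 : Fintype.card ι * (p' * Nat.card D) ≤ (p' + 2) * (p' * Nat.card D) := by nlinarith
  have := Nat.le_of_mul_le_mul_right h5 (Nat.mul_pos hp' hpos)
  omega

end

/-- Normalizers of overgroups of a soft subgroup, and their class. -/
theorem soft_step {P : Type u} [Group P] [Finite P] {p : ℕ} [hp : Fact p.Prime] (hP : IsPGroup p P)
    (E : Subgroup P) (hEab : IsMulCommutative ↥E) (hC : centralizer (E : Set P) ≤ E)
    (hN : (E.subgroupOf (normalizer (E : Set P))).index = p) (hidx : p ^ 2 ≤ E.index) :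
    ∀ K : Subgroup P, E ≤ K → K ≠ ⊤ →
      Nat.card (normalizer (K : Set P)) = p * Nat.card K ∧
      ∀ (i : ℕ) [Group.IsNilpotent ↥K], Nat.card K = p ^ i * Nat.card E →
        Group.nilpotencyClass ↥K = i + 1 := by
  haveI : Group.IsNilpotent P := hP.isNilpotent
  have hEnt : Nat.card (normalizer (E : Set P)) = p * Nat.card E := by
    have h1 := card_mul_index (E.subgroupOf (normalizer (E : Set P)))
    rw [hN, Nat.card_congr (subgroupOfEquivOfLe le_normalizer).toEquiv] at h1
    rw [← h1, mul_comm]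
  -- the subgroup `A`
  obtain ⟨A, hAE, hA, hAN⟩ : ∃ A ≤ E, Nat.card E ≤ p * Nat.card A ∧
      A ≤ centralizer (normalizer (E : Set P) : Set P) := by
    set N := normalizer (E : Set P) with hNdef
    have hNt : N ≠ ⊤ := by
      intro h
      have h1 := card_mul_index E
      rw [h, card_top] at hEnt
      rw [hEnt, mul_comm p] at h1
      have := Nat.mul_left_cancel Nat.card_pos h1
      rw [this] at hidx
      nlinarith [hp.out.two_le]
    obtain ⟨g, hgN, hg⟩ : ∃ g ∈ normalizer (N : Set P), g ∉ N := by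
      by_contra! hh
      exact (normalizerCondition_of_isNilpotent N (lt_top_iff_ne_top.mpr hNt)).ne (le_antisymm le_normalizer hh)
    set E' := E.map (MulAut.conj g).toMonoidHom with hE'
    have hE'N : E' ≤ N := by
      rintro _ ⟨e, he, rfl⟩
      exact (mem_normalizer_iff.mp hgN e).mp (le_normalizer he)
    have hne : ¬ E' ≤ E := fun h => hg (LocalEvenB.mem_normalizer_of_conjMap_le h)
    have htop : E ⊔ E' = N := by
      refine eq_of_le_of_card_ge (sup_le le_normalizer hE'N) ?_
      rw [hEnt]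
      exact card_mul_le_of_lt hP (lt_of_le_of_ne le_sup_left fun h => hne (h ▸ le_sup_right))
    refine ⟨E ⊓ E', inf_le_left, ?_, ?_⟩
    · have hcE : Nat.card E' = Nat.card E := card_map_of_injective (MulAut.conj g).injective
      have hd : E.relIndex E' ≤ p := by
        have hr : E.relIndex N = p := hN
        have hd' : E.relIndex E' ∣ E.relIndex N := by
          haveI : (E.subgroupOf N).Normal := normal_in_normalizer
          have := relIndex_dvd_index_of_normal (E.subgroupOf N) (E'.subgroupOf N)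
          rwa [relIndex_subgroupOf hE'N, show (E.subgroupOf N).index = E.relIndex N from rfl] at this
        exact Nat.le_of_dvd hp.out.pos (hr ▸ hd')
      calc Nat.card E = Nat.card E' := hcE.symm
        _ = Nat.card ↥(E ⊓ E') * E.relIndex E' := by
            rw [← inf_relIndex_right E E', ← relIndex_bot_left E', ← relIndex_bot_left (E ⊓ E')]
            exact (relIndex_mul_relIndex ⊥ (E ⊓ E') E' bot_le inf_le_right).symm
        _ ≤ Nat.card ↥(E ⊓ E') * p := Nat.mul_le_mul_left _ hd
        _ = p * Nat.card ↥(E ⊓ E') := mul_comm _ _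
    · intro a ha n hn
      have h1 : N ≤ centralizer ({a} : Set P) := by
        rw [← htop]
        refine sup_le (fun e he => mem_centralizer_singleton_iff.mpr ?_) ?_
        · exact congrArg Subtype.val (hEab.is_comm.comm (⟨e, he⟩ : E) ⟨a, ha.1⟩)
        · rintro _ ⟨e, he, rfl⟩
          obtain ⟨a', ha', haa⟩ := ha.2
          rw [← haa]
          refine mem_centralizer_singleton_iff.mpr ?_
          rw [← map_mul, ← map_mul]
          exact congrArg _ (congrArg Subtype.val (hEab.is_comm.comm (⟨e, he⟩ : E) ⟨a', ha'⟩))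
      exact mem_centralizer_singleton_iff.mp (h1 hn)
  intro K
  induction hn : Nat.card K using Nat.strong_induction_on generalizing K with
  | _ n IH =>
  intro hEK hKt
  subst hn
  rcases eq_or_ne K E with rfl | hKE
  · refine ⟨hEnt, fun i _ hi => ?_⟩
    obtain rfl : i = 0 := by
      rcases Nat.eq_zero_or_pos i with h | h
      · exact h
      · have : 1 < p ^ i := Nat.one_lt_pow (by omega) hp.out.one_lt
        nlinarith [Nat.card_pos (α := K)]
    haveI : Nontrivial K := by
      rw [nontrivial_iff_ne_bot]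
      intro h
      apply hKt
      refine eq_top_iff.mpr fun x _ => hC fun e he => ?_
      rw [mem_bot.mp (show e ∈ (⊥ : Subgroup P) from h ▸ he), one_mul, mul_one]
    refine le_antisymm (Group.IsNilpotent.nilpotencyClass_le_one_iff.mpr hEab) ?_
    by_contra h
    exact not_subsingleton K (nilpotencyClass_zero_iff_subsingleton.mp (by omega))
  -- the hypothesis inside `K`
  set E₁ := E.subgroupOf K with hE₁
  have hcard₁ : Nat.card E₁ = Nat.card E := Nat.card_congr (subgroupOfEquivOfLe hEK).toEquiv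
  have hKp : IsPGroup p K := hP.to_subgroup K
  haveI : Group.IsNilpotent K := hKp.isNilpotent
  have hlift : ∀ H : Subgroup K, E₁ ≤ H → E ≤ H.map K.subtype := fun H hH => by
    have := map_mono (f := K.subtype) hH
    rwa [hE₁, subgroupOf_map_subtype, inf_eq_left.mpr hEK] at this
  have hnt : ∀ H : Subgroup K, H ≠ ⊤ → H.map K.subtype ≠ ⊤ ∧ Nat.card (H.map K.subtype) < Nat.card K := by
    intro H hH
    have hlt : Nat.card H < Nat.card K := lt_of_le_of_ne (card_le_card_group H) fun h =>
      hH (eq_top_of_card_eq H h)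
    refine ⟨fun h => hKt (eq_top_iff.mpr (h ▸ map_subtype_le H)), ?_⟩
    rwa [card_map_of_injective K.subtype_injective]
  have hstep : ∀ H : Subgroup K, E₁ ≤ H → H ≠ ⊤ →
      Nat.card (normalizer (H : Set K)) ≤ p * Nat.card H := by
    intro H hH hHt
    have h1 := (IH _ (hnt H hHt).2 (H.map K.subtype) rfl (hlift H hH) (hnt H hHt).1).1
    rw [card_map_of_injective K.subtype_injective] at h1
    rw [← h1]
    calc Nat.card (normalizer (H : Set K)) = Nat.card ↥((normalizer (H : Set K)).map K.subtype) :=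
          (card_map_of_injective K.subtype_injective).symm
      _ ≤ _ := card_le_of_le (le_normalizer_map _)
  have hcent₁ : centralizer (E₁ : Set K) ≤ E₁ := fun k hk => hC fun e he =>
    congrArg Subtype.val (hk ⟨e, hEK he⟩ he)
  have hab₁ : IsMulCommutative E₁ := ⟨⟨fun a b => Subtype.ext (Subtype.ext
    (congrArg (fun t : E => (t : P)) (hEab.is_comm.comm (⟨(a : K), a.2⟩ : E) ⟨(b : K), b.2⟩)))⟩⟩
  have hE₁t : E₁ ≠ ⊤ := fun h => hKE (le_antisymm (subgroupOf_eq_top.mp h) hEK)
  obtain ⟨M, hM, hEM⟩ := (eq_top_or_exists_le_coatom E₁).resolve_left hE₁t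
  obtain ⟨hMn, hMp⟩ := Basics.coatom_normal_prime hM
  haveI := hMn
  have hMi : M.index = p := by
    obtain ⟨k, hk⟩ := hKp.index M
    have h1 : (p ^ k).Prime := hk ▸ hMp
    rw [hk, Nat.Prime.eq_one_of_pow h1, pow_one]
  have hMc : p * Nat.card M = Nat.card K := by
    rw [← hMi, mul_comm]; exact card_mul_index M
  have hMmax : ∀ H : Subgroup K, E₁ ≤ H → H ≠ ⊤ → H ≤ M := by
    intro H hH hHt
    obtain ⟨M', hM', hHM'⟩ := (eq_top_or_exists_le_coatom H).resolve_left hHt
    suffices M' = M from this ▸ hHM'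
    by_contra hne
    haveI := (Basics.coatom_normal_prime hM').1
    have hX := hstep (M' ⊓ M) (le_inf (hH.trans hHM') hEM) fun h => hM.1 (eq_top_iff.mpr (h ▸ inf_le_right))
    rw [normalizer_eq_top_iff.mpr (inferInstance : (M' ⊓ M).Normal), card_top] at hX
    have hlt : M' ⊓ M < M := lt_of_le_of_ne inf_le_right fun h =>
      hne (hM.le_iff_eq hM'.1 |>.mp (inf_eq_right.mp h))
    have h2 := card_mul_le_of_lt hKp hlt
    have h3 : 0 < Nat.card M := Nat.card_pos
    nlinarith [hp.out.two_le]
  -- the normalizer of `M`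
  set M' := M.map K.subtype with hM'
  have hNM : normalizer (M' : Set P) = K := by
    have h1 := (IH _ (hnt M hM.1).2 M' rfl (hlift M hEM) (hnt M hM.1).1).1
    rw [hM', card_map_of_injective K.subtype_injective, hMc] at h1
    have h2 : K ≤ normalizer (M' : Set P) := by
      have := le_normalizer_map (H := M) K.subtype
      rwa [normalizer_eq_top_iff.mpr hMn, ← MonoidHom.range_eq_map, range_subtype] at this
    exact (eq_of_le_of_card_ge h2 h1.le).symm
  let θ : normalizer (K : Set P) → MulAut K := fun n => K.normalizerMonoidHom n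
  have hθval : ∀ (n : normalizer (K : Set P)) (x : K), ((θ n x : K) : P) = n * x * (n : P)⁻¹ :=
    fun n x => rfl
  have hfix : ∀ n m : normalizer (K : Set P),
      M.map (θ n).toMonoidHom = M.map (θ m).toMonoidHom → (n : P)⁻¹ * m ∈ K := by
    intro n m h
    suffices h' : (n : P)⁻¹ * m ∈ normalizer (M' : Set P) from hNM.le h'
    refine LocalEvenB.mem_normalizer_of_conj_mem ?_
    rintro _ ⟨y, hy, rfl⟩
    obtain ⟨z, hz, hzy⟩ : θ m y ∈ M.map (θ n).toMonoidHom := h ▸ ⟨y, hy, rfl⟩
    refine ⟨z, hz, ?_⟩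
    have h2 := congrArg (fun t : K => (t : P)) (show θ n z = θ m y from hzy)
    simp only [hθval] at h2
    show (z : P) = (n : P)⁻¹ * m * y * ((n : P)⁻¹ * m)⁻¹
    calc (z : P) = (n : P)⁻¹ * ((n : P) * z * (n : P)⁻¹) * n := by simp [mul_assoc]
      _ = _ := by rw [h2]; simp [mul_assoc]
  obtain ⟨g, hgN, hgK⟩ : ∃ g ∈ normalizer (K : Set P), g ∉ K := by
    by_contra! hh
    exact (normalizerCondition_of_isNilpotent K (lt_top_iff_ne_top.mpr hKt)).ne (le_antisymm le_normalizer hh)
  have hθ₀ : M.map (θ ⟨g, hgN⟩).toMonoidHom ≠ M := by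
    intro h
    refine hgK ?_
    have h1 : M.map (θ 1).toMonoidHom = M := by
      have : θ 1 = 1 := map_one K.normalizerMonoidHom
      rw [this]
      exact Subgroup.map_id M
    have := hfix 1 ⟨g, hgN⟩ (h1.trans h.symm)
    simpa using this
  obtain ⟨j, hj⟩ : ∃ j, Nat.card K = p ^ (j + 1) * Nat.card E₁ := by
    obtain ⟨k, hk⟩ := hKp.index E₁
    have h1 := card_mul_index E₁
    rw [hk] at h1
    rcases k with _ | k
    · exact absurd (index_eq_one.mp (by rw [hk, pow_zero])) hE₁t
    · exact ⟨k, by rw [← h1, mul_comm]⟩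
  have hA₁ : Nat.card E₁ ≤ p * Nat.card (A.subgroupOf K) := by
    rw [hcard₁, Nat.card_congr (subgroupOfEquivOfLe (hAE.trans hEK)).toEquiv]
    exact hA
  have hAN₁ : A.subgroupOf K ≤ centralizer (normalizer (E₁ : Set K) : Set K) := fun a ha n hn =>
    Subtype.ext (hAN ha n (by
      have := le_normalizer_map (H := E₁) K.subtype (mem_map_of_mem K.subtype hn)
      rwa [hE₁, subgroupOf_map_subtype, inf_eq_left.mpr hEK] at this))
  obtain ⟨hcl, D, hD, hDle⟩ := soft_structure hKp E₁ (A.subgroupOf K) hab₁ hcent₁ hstep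
    (fun a ha => hAE ha) hA₁ hAN₁ M hEM hM.1 hMn hMmax j hj (θ ⟨g, hgN⟩) hθ₀
  refine ⟨?_, fun i _ hi => ?_⟩
  · -- counting the conjugates of `M`
    set K₁ := K.subgroupOf (normalizer (K : Set P)) with hK₁
    have hcount := count_le hKp (fun q : normalizer (K : Set P) ⧸ K₁ => M.map (θ q.out).toMonoidHom) (fun q r h => by
      rw [← QuotientGroup.out_eq' q, ← QuotientGroup.out_eq' r]
      exact QuotientGroup.eq.mpr (hfix _ _ h)) D (fun q => hDle _)
      (fun q => ((congrArg (p * ·) (card_map_of_injective (f := (θ q.out).toMonoidHom)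
        (θ q.out).injective)).trans hMc)) hD
    rw [← index_eq_card] at hcount
    have h1 := card_mul_index K₁
    rw [Nat.card_congr (subgroupOfEquivOfLe le_normalizer).toEquiv] at h1
    obtain ⟨k, hk⟩ := (hP.to_subgroup (normalizer (K : Set P))).index K₁
    rw [hk] at hcount h1
    rcases k with _ | _ | k
    · exfalso
      rw [pow_zero, mul_one] at h1
      exact hgK (eq_of_le_of_card_ge le_normalizer h1.ge ▸ hgN)
    · rw [← h1]; ring
    · exfalso
      have : p ^ 2 ≤ p ^ (k + 2) := Nat.pow_le_pow_right hp.out.pos (by omega)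
      nlinarith [hp.out.two_le]
  · rw [hcard₁, hi] at hj
    have := Nat.pow_right_injective hp.out.two_le (Nat.mul_right_cancel Nat.card_pos hj)
    rw [hcl]
    omega

/-- Let P be a finite p-group and E an abelian subgroup of P that contains its centralizer, has index p in its normalizer, and has index at least p² in P. Then the subgroups of P containing E are totally ordered by inclusion, each proper one has index p in its normalizer (so they form the normalizer tower of E, with all steps of index p), and the i-th member of the tower above E has nilpotency class i + 1 whenever it is a proper subgroup of P. -/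
theorem result {P : Type*} [Group P] [Finite P] (p : ℕ) [Fact p.Prime] (hP : IsPGroup p P)
    (E : Subgroup P) (hEab : IsMulCommutative ↥E) (hC : Subgroup.centralizer (E : Set P) ≤ E)
    (hN : (E.subgroupOf (Subgroup.normalizer (E : Set P))).index = p) (hidx : p ^ 2 ≤ E.index) :
    (∀ K L : Subgroup P, E ≤ K → E ≤ L → K ≤ L ∨ L ≤ K) ∧
      (∀ K : Subgroup P, E ≤ K → K ≠ ⊤ → (K.subgroupOf (Subgroup.normalizer (K : Set P))).index = p) ∧
      ∀ (i : ℕ) (K : Subgroup P) [Group.IsNilpotent ↥K], E ≤ K → K ≠ ⊤ → K.index * p ^ i = E.index →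
        Group.nilpotencyClass ↥K = i + 1 := by
  have hp : p.Prime := Fact.out
  have key := soft_step hP E hEab hC hN hidx
  haveI : Group.IsNilpotent P := hP.isNilpotent
  refine ⟨?_, fun K hEK hKt => ?_, fun i K _ hEK hKt hi => (key K hEK hKt).2 i ?_⟩
  · have hchain : ∀ K L : Subgroup P, E ≤ K → E ≤ L → Nat.card K ≤ Nat.card L → K ≤ L := by
      intro K L
      induction hn : Nat.card L using Nat.strong_induction_on generalizing K L with
      | _ n IH =>
      intro hEK hEL hle
      subst hn
      rcases eq_or_ne L E with rfl | hLE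
      · exact (eq_of_le_of_card_ge hEK hle).ge
      rcases eq_or_ne K E with rfl | hKE
      · exact hEL
      have hmax : ∀ X : Subgroup P, E ≤ X → X ≠ E → ∃ M : Subgroup P, E ≤ M ∧ M ≤ X ∧
          p * Nat.card M = Nat.card X ∧ X ≤ normalizer (M : Set P) ∧ M ≠ ⊤ := by
        intro X hEX hXE
        haveI : Group.IsNilpotent X := (hP.to_subgroup X).isNilpotent
        have hne : E.subgroupOf X ≠ ⊤ := fun h => hXE (le_antisymm (subgroupOf_eq_top.mp h) hEX)
        obtain ⟨M, hM, hEM⟩ := (eq_top_or_exists_le_coatom _).resolve_left hne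
        obtain ⟨hMn, hMp⟩ := Basics.coatom_normal_prime hM
        obtain ⟨k, hk⟩ := (hP.to_subgroup X).index M
        have h1 : (p ^ k).Prime := hk ▸ hMp
        have hc : p * Nat.card M = Nat.card X := by
          rw [← card_mul_index M, hk, Nat.Prime.eq_one_of_pow h1, pow_one, mul_comm]
        refine ⟨M.map X.subtype, ?_, map_subtype_le M,
          by rw [card_map_of_injective X.subtype_injective]; exact hc, ?_, ?_⟩
        · have := map_mono (f := X.subtype) hEM
          rwa [subgroupOf_map_subtype, inf_eq_left.mpr hEX] at this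
        · have := le_normalizer_map (H := M) X.subtype
          rwa [normalizer_eq_top_iff.mpr hMn, ← MonoidHom.range_eq_map, range_subtype] at this
        · intro h
          have h2 := card_le_card_group X
          rw [← card_top (G := P), ← h, card_map_of_injective X.subtype_injective] at h2
          have : 0 < Nat.card M := Nat.card_pos
          nlinarith [hp.two_le]
      obtain ⟨ML, hEML, hMLle, hMLc, hMLn, hMLt⟩ := hmax L hEL hLE
      obtain ⟨MK, hEMK, hMKle, hMKc, hMKn, -⟩ := hmax K hEK hKE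
      have hlt : Nat.card ML < Nat.card L := by
        have : 0 < Nat.card ML := Nat.card_pos
        nlinarith [hp.two_le]
      rcases lt_or_eq_of_le hle with h | h
      · refine (IH _ hlt K ML rfl hEK hEML ?_).trans hMLle
        obtain ⟨a, ha⟩ := IsPGroup.iff_card.1 (hP.to_subgroup K)
        obtain ⟨b, hb⟩ := IsPGroup.iff_card.1 (hP.to_subgroup ML)
        rw [← hMLc, hb, ha, ← pow_succ', Nat.pow_lt_pow_iff_right hp.one_lt] at h
        rw [ha, hb]
        exact Nat.pow_le_pow_right hp.pos (by omega)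
      · have hMM : MK = ML := eq_of_le_of_card_ge (IH _ hlt MK ML rfl hEMK hEML
          (Nat.le_of_mul_le_mul_left (by rw [hMKc, hMLc]; exact hle) hp.pos))
          (Nat.le_of_mul_le_mul_left (by rw [hMKc, hMLc, h]) hp.pos)
        rw [hMM] at hMKn
        have hN' := (key ML hEML hMLt).1
        rw [hMLc] at hN'
        exact hMKn.trans (eq_of_le_of_card_ge hMLn hN'.le).ge
    intro K L hK hL
    exact (le_total (Nat.card K) (Nat.card L)).imp (hchain K L hK hL) (hchain L K hL hK)
  · have h1 := card_mul_index (K.subgroupOf (normalizer (K : Set P)))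
    rw [Nat.card_congr (subgroupOfEquivOfLe le_normalizer).toEquiv, (key K hEK hKt).1, mul_comm p] at h1
    exact Nat.mul_left_cancel Nat.card_pos h1
  · have h1 := card_mul_index K
    have h2 := card_mul_index E
    have hpos : 0 < K.index := Nat.pos_of_ne_zero index_ne_zero_of_finite
    rw [← h1, ← hi] at h2
    refine Nat.mul_right_cancel hpos ?_
    rw [← h2]; ring

end Cfsg.Agent.S3811
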