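import Cfsg.Statements.S3814
import Cfsg.Agent.Lib.OrderTriples.Final

set_option autoImplicit false
open Cfsg

namespace Cfsg.Agent.S3814

open Subgroup OrderTriples in
theorem aux {G : Type*} [Group G] [Finite G] (hs : Group.IsSolvable G) (σ : Finset ℕ)
    (hσ : σ.card = 4) (hprime : ∀ p ∈ σ, p.Prime) (hN : NoTriple (↑σ : Set ℕ) G)
    (hpairs : ∀ a ∈ σ, ∀ b ∈ σ, a ≠ b →
      ∃ x y : G, orderOf x = a ∧ orderOf y = b ∧ Commute x y) : False := by
  obtain ⟨H, -, hHs, hHp, -, hconj⟩ :=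
    exists_hall_in (L := (⊤ : Subgroup G)) (haveI := hs; inferInstance) (↑σ : Set ℕ)
  refine Crit.false_aux (G := H) ⟨hHs, hσ, hprime, ?_, ?_, hHp⟩
  · intro p q r x y z hp hq hr hpq hqr hpr hx hy hz hxy hxz hyz
    exact hN p q r x y z hp hq hr hpq hqr hpr (by rw [orderOf_coe, hx]) (by rw [orderOf_coe, hy])
      (by rw [orderOf_coe, hz]) (congrArg Subtype.val hxy.eq) (congrArg Subtype.val hxz.eq)
      (congrArg Subtype.val hyz.eq)
  · intro a ha b hb hab
    obtain ⟨x, y, hx, hy, hxy⟩ := hpairs a ha b hb hab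
    have hn : zpowers y ≤ normalizer ((zpowers x : Subgroup G) : Set G) :=
      zpowers_le.2 (mem_normalizer_zpowers hxy.symm)
    obtain ⟨g, -, hg⟩ := hconj (zpowers x ⊔ zpowers y) le_top (fun t ht hd => by
      have h := Basics.card_mul_card_eq_card_sup_mul_card_inf hn
      have hd' : t ∣ Nat.card (zpowers x) * Nat.card (zpowers y) :=
        h ▸ hd.trans (dvd_mul_right _ _)
      rw [Nat.card_zpowers, Nat.card_zpowers, hx, hy] at hd'
      rcases ht.dvd_mul.1 hd' with h' | h'
      · exact ((Nat.prime_dvd_prime_iff_eq ht (hprime a ha)).1 h').symm ▸ ha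
      · exact ((Nat.prime_dvd_prime_iff_eq ht (hprime b hb)).1 h').symm ▸ hb)
    exact ⟨⟨_, hg x (mem_sup_left (mem_zpowers x))⟩, ⟨_, hg y (mem_sup_right (mem_zpowers y))⟩,
      by rw [← orderOf_coe]; exact conj_order.trans hx,
      by rw [← orderOf_coe]; exact conj_order.trans hy, Subtype.ext (conj_commute hxy).eq⟩

/-- A criterion for nonsolvability from element orders: let G be a finite group and σ a set of at least four primes such that for all distinct p, q ∈ σ the product pq is the order of some element of G, while for all pairwise distinct p, q, r ∈ σ no element of G has order pqr. Then G is not solvable. -/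
theorem result {G : Type*} [Group G] [Finite G]
    (σ : Finset ℕ) (hσ : 4 ≤ σ.card) (hprime : ∀ p ∈ σ, p.Prime)
    (h2 : ∀ p ∈ σ, ∀ q ∈ σ, p ≠ q → ∃ g : G, orderOf g = p * q)
    (h3 : ∀ p ∈ σ, ∀ q ∈ σ, ∀ r ∈ σ, p ≠ q → q ≠ r → p ≠ r → ∀ g : G, orderOf g ≠ p * q * r) :
    ¬ Group.IsSolvable G := by
    intro hs
    obtain ⟨τ, hτσ, hτ⟩ := Finset.exists_subset_card_eq hσ
    refine aux hs τ hτ (fun p hp => hprime p (hτσ hp)) ?_ ?_
    · intro p q r x y z hp hq hr hpq hqr hpr hx hy hz hxy hxz hyz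
      have hp' := hprime p (hτσ hp)
      have hq' := hprime q (hτσ hq)
      have hr' := hprime r (hτσ hr)
      refine h3 p (hτσ hp) q (hτσ hq) r (hτσ hr) hpq hqr hpr (x * y * z) ?_
      have hxyo : orderOf (x * y) = p * q := by
        rw [hxy.orderOf_mul_eq_mul_orderOf_of_coprime
          (by rw [hx, hy]; exact (Nat.coprime_primes hp' hq').2 hpq), hx, hy]
      rw [(hxz.mul_left hyz).orderOf_mul_eq_mul_orderOf_of_coprime (by
        rw [hxyo, hz]
        exact Nat.Coprime.mul_left ((Nat.coprime_primes hp' hr').2 hpr)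
          ((Nat.coprime_primes hq' hr').2 hqr)), hxyo, hz]
    · intro a ha b hb hab
      obtain ⟨g, hg⟩ := h2 a (hτσ ha) b (hτσ hb) hab
      refine ⟨g ^ b, g ^ a, ?_, ?_, Commute.pow_pow_self g b a⟩
      · rw [orderOf_pow_of_dvd (hprime b (hτσ hb)).ne_zero (hg ▸ dvd_mul_left b a), hg,
          Nat.mul_div_cancel _ (hprime b (hτσ hb)).pos]
      · rw [orderOf_pow_of_dvd (hprime a (hτσ ha)).ne_zero (hg ▸ dvd_mul_right a b), hg,
          Nat.mul_div_cancel_left _ (hprime a (hτσ ha)).pos]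

end Cfsg.Agent.S3814
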