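import Cfsg.Statements.S3815
import Cfsg.Agent.Lib.Basics.Cores

set_option autoImplicit false
open Cfsg

namespace Cfsg.Agent.S3815

/-- Let G be a finite group, p a prime and d ∈ G an element of order prime to p. If dg has order prime to p for every element g ∈ G of order prime to p, then d ∈ O_{p'}(G). -/
theorem result {G : Type*} [Group G] [Finite G] {p : ℕ} [Fact p.Prime]
    (d : G) (hd : (orderOf d).Coprime p)
    (h : ∀ g : G, (orderOf g).Coprime p → (orderOf (d * g)).Coprime p) :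
    d ∈ Cfsg.pPrimeCore p G := by
  let M : Submonoid G :=
    { carrier := {d | (orderOf d).Coprime p ∧
        ∀ g : G, (orderOf g).Coprime p → (orderOf (d * g)).Coprime p}
      one_mem' := ⟨by simp, fun g hg => by rwa [one_mul]⟩
      mul_mem' := fun {a b} ha hb =>
        ⟨ha.2 b hb.1, fun g hg => by rw [mul_assoc]; exact ha.2 _ (hb.2 g hg)⟩ }
  let D : Subgroup G :=
    { M with
      inv_mem' := fun {a} ha => by
        obtain ⟨k, hk⟩ : ∃ k : ℕ, a⁻¹ = a ^ k := ⟨orderOf a - 1, inv_eq_of_mul_eq_one_right (by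
          rw [← pow_succ', Nat.sub_add_cancel (orderOf_pos a), pow_orderOf_eq_one])⟩
        show a⁻¹ ∈ M
        rw [hk]
        exact M.pow_mem ha k }
  have hD : ∀ a : G, a ∈ D ↔ (orderOf a).Coprime p ∧
      ∀ g : G, (orderOf g).Coprime p → (orderOf (a * g)).Coprime p := fun a => Iff.rfl
  haveI : D.Normal := ⟨fun a ha c => by
    rw [hD] at ha ⊢
    refine ⟨by rw [← MulAut.conj_apply, MulEquiv.orderOf_eq]; exact ha.1, fun g hg => ?_⟩
    have h1 := ha.2 (c⁻¹ * g * c) (by
      have : orderOf (c⁻¹ * g * c) = orderOf g := by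
        rw [show c⁻¹ * g * c = MulAut.conj c⁻¹ g by simp [MulAut.conj_apply], MulEquiv.orderOf_eq]
      rwa [this])
    have h2 : c * a * c⁻¹ * g = MulAut.conj c (a * (c⁻¹ * g * c)) := by simp [mul_assoc]
    rwa [h2, MulEquiv.orderOf_eq]⟩
  refine Basics.le_pPrimeCore (N := D) ?_ ((hD d).mpr ⟨hd, h⟩)
  refine ((Fact.out : p.Prime).coprime_iff_not_dvd.mpr fun hdvd => ?_).symm
  obtain ⟨z, hz⟩ := exists_prime_orderOf_dvd_card' (G := D) p hdvd
  have h3 := ((hD (z : G)).mp z.2).1
  rw [Subgroup.orderOf_coe, hz, Nat.coprime_self] at h3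
  exact (Fact.out : p.Prime).ne_one h3

end Cfsg.Agent.S3815
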