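import Cfsg.Statements.S3816
import Cfsg.Agent.Lib.FGS.CommFixedGen

set_option autoImplicit false
open Cfsg
open scoped commutatorElement

namespace Cfsg.Agent.S3816

/-- Let p be an odd prime, H a finite solvable group of order prime to p, and x an automorphism of H of order p (so P = ⟨x⟩ has prime order p > 2 and acts coprimely on H). For h ∈ H let [h, P] be the subgroup generated by the commutators h⁻¹·xⁱ(h), and let [H, P] be the subgroup generated by all of these. Then the fixed points of x in [H, P] are generated by the fixed points of x in the subgroups [h, P], h ∈ H. -/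
theorem result {H : Type*} [Group H] [Finite H]
    [Group.IsSolvable H] {p : ℕ} [Fact p.Prime] (hp : p ≠ 2) (hcop : (Nat.card H).Coprime p)
    (x : MulAut H) (hx : orderOf x = p) :
    Subgroup.closure {c : H | ∃ h : H, ∃ i : ℕ, c = h⁻¹ * (x ^ i) h} ⊓ (x : H →* H).eqLocus (MonoidHom.id H) =
      ⨆ h : H, Subgroup.closure {c : H | ∃ i : ℕ, c = h⁻¹ * (x ^ i) h} ⊓ (x : H →* H).eqLocus (MonoidHom.id H) := by
  have hp2 : p ≠ 2 := hp
  haveI : Finite (MulAut H) := Finite.of_injective (fun f : MulAut H => (f : H → H))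
    (fun f g h => MulEquiv.ext fun a => congrFun h a)
  let φ : Subgroup.zpowers x →* MulAut H := (Subgroup.zpowers x).subtype
  let Γ := H ⋊[φ] Subgroup.zpowers x
  haveI : Finite Γ := Finite.of_equiv _ (SemidirectProduct.equivProd (φ := φ)).symm
  haveI : Group.IsSolvable Γ :=
    solvable_of_ker_le_range (SemidirectProduct.inl : H →* Γ) (SemidirectProduct.rightHom : Γ →* _)
      SemidirectProduct.range_inl_eq_ker_rightHom.ge
  let t : Γ := SemidirectProduct.inr ⟨x, Subgroup.mem_zpowers x⟩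
  let ι : H →* Γ := SemidirectProduct.inl
  have hιinj : Function.Injective ι := SemidirectProduct.inl_injective
  have htp : ∀ i : ℕ, t ^ i = SemidirectProduct.inr (⟨x, Subgroup.mem_zpowers x⟩ ^ i) :=
    fun i => (map_pow _ _ _).symm
  have hconj : ∀ (i : ℕ) (h : H), t ^ i * ι h * (t ^ i)⁻¹ = ι ((x ^ i) h) := by
    intro i h
    rw [htp, ← map_inv, show ι h = SemidirectProduct.inl h from rfl, ← SemidirectProduct.inl_aut]
    rfl
  have hgen : ∀ (i : ℕ) (h : H), ⁅(ι h)⁻¹, t ^ i⁆ = ι (h⁻¹ * (x ^ i) h) := by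
    intro i h
    rw [map_mul, ← hconj, map_inv, commutatorElement_def, inv_inv]
    simp only [mul_assoc]
  have hz : ∀ q ∈ Subgroup.zpowers t, ∃ i : ℕ, q = t ^ i := fun q hq => by
    obtain ⟨i, hi⟩ := (Submonoid.mem_powers_iff _ _).mp (mem_powers_iff_mem_zpowers.mpr hq)
    exact ⟨i, hi.symm⟩
  have hfix : ∀ h : H, ι h ∈ Subgroup.centralizer (Subgroup.zpowers t : Set Γ) ↔ x h = h := by
    intro h
    constructor
    · intro hc
      have h1 := hconj 1 h
      rw [pow_one, pow_one, Subgroup.mem_centralizer_iff.mp hc t (Subgroup.mem_zpowers t),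
        mul_inv_cancel_right] at h1
      exact (hιinj h1).symm
    · intro hx'
      rw [Subgroup.mem_centralizer_iff]
      intro q hq
      obtain ⟨i, rfl⟩ := hz q hq
      have hi : (x ^ i) h = h := by
        induction i with
        | zero => rfl
        | succ n ih => rw [pow_succ, MulAut.mul_apply, hx', ih (Subgroup.npow_mem_zpowers t n)]
      have h1 := hconj i h
      rw [hi] at h1
      exact mul_inv_eq_iff_eq_mul.mp h1
  have hR : ∀ h : H, CommFixedGen.R t (ι h) =
      (Subgroup.closure {c : H | ∃ i : ℕ, c = h⁻¹ * (x ^ i) h}).map ι := by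
    intro h
    rw [CommFixedGen.R, MonoidHom.map_closure]
    congr 1
    ext c
    constructor
    · rintro ⟨q, hq, rfl⟩
      obtain ⟨i, rfl⟩ := hz q hq
      exact ⟨_, ⟨i, rfl⟩, (hgen i h).symm⟩
    · rintro ⟨_, ⟨i, rfl⟩, rfl⟩
      exact ⟨t ^ i, Subgroup.npow_mem_zpowers t i, hgen i h⟩
  refine le_antisymm ?_ (iSup_le fun h => inf_le_inf_right _ (Subgroup.closure_mono fun c hc => ?_))
  swap
  · obtain ⟨i, hi⟩ := hc
    exact ⟨h, i, hi⟩
  haveI hn : (ι.range).Normal := by
    rw [show ι.range = (SemidirectProduct.rightHom : Γ →* _).ker from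
      SemidirectProduct.range_inl_eq_ker_rightHom]
    infer_instance
  have htop : ι.range ⊔ Subgroup.zpowers t = ⊤ := by
    rw [eq_top_iff]
    intro g _
    rw [← SemidirectProduct.inl_left_mul_inr_right g]
    refine Subgroup.mul_mem_sup ⟨g.left, rfl⟩ ?_
    obtain ⟨j, hj⟩ := g.right.2
    exact ⟨j, (map_zpow (SemidirectProduct.inr : _ →* Γ) ⟨x, Subgroup.mem_zpowers x⟩ j).symm.trans
      (congrArg _ (Subtype.ext hj))⟩
  have hpow : t ^ p = 1 := by
    rw [htp, show (⟨x, Subgroup.mem_zpowers x⟩ : Subgroup.zpowers x) ^ p = 1 from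
      Subtype.ext (hx ▸ pow_orderOf_eq_one x), map_one]
  have hcard : Nat.card ι.range = Nat.card H :=
    (Nat.card_congr (MonoidHom.ofInjective hιinj).toEquiv).symm
  have key := CommFixedGen.main p hp2 (Nat.card Γ + 1) ι.range t (Nat.lt_succ_self _) inferInstance
    hn htop hpow (hcard ▸ hcop)
  rintro c ⟨hc, hcx⟩
  have h1 : ι c ∈ ⁅ι.range, Subgroup.zpowers t⁆ := by
    suffices Subgroup.closure {c : H | ∃ h : H, ∃ i : ℕ, c = h⁻¹ * (x ^ i) h} ≤
        (⁅ι.range, Subgroup.zpowers t⁆).comap ι from this hc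
    rw [Subgroup.closure_le]
    rintro _ ⟨h, i, rfl⟩
    show ι (h⁻¹ * (x ^ i) h) ∈ ⁅ι.range, Subgroup.zpowers t⁆
    rw [← hgen]
    exact Subgroup.commutator_mem_commutator (Subgroup.inv_mem ι.range ⟨h, rfl⟩)
      (Subgroup.npow_mem_zpowers t i)
  have h2 := key ⟨h1, (hfix c).mpr hcx⟩
  suffices CommFixedGen.X t ι.range ≤ (⨆ h : H,
      Subgroup.closure {c : H | ∃ i : ℕ, c = h⁻¹ * (x ^ i) h} ⊓
        (x : H →* H).eqLocus (MonoidHom.id H)).map ι by
    obtain ⟨d, hd, hdc⟩ := this h2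
    exact hιinj hdc ▸ hd
  refine iSup₂_le ?_
  rintro _ ⟨h, rfl⟩ y ⟨hy1, hy2⟩
  rw [hR] at hy1
  obtain ⟨d, hd, rfl⟩ := hy1
  exact Subgroup.mem_map_of_mem ι (le_iSup (fun h : H =>
    Subgroup.closure {c : H | ∃ i : ℕ, c = h⁻¹ * (x ^ i) h} ⊓
      (x : H →* H).eqLocus (MonoidHom.id H)) h ⟨hd, (hfix d).mp hy2⟩)

end Cfsg.Agent.S3816
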