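import Cfsg.Statements.S3818
import Cfsg.Agent.Lib.LocalEvenA.FixedHalf

set_option autoImplicit false
open Cfsg

namespace Cfsg.Agent.S3818

/-- Let G be a finite solvable group and P a subgroup of G of prime order p > 3 whose conjugates generate G. Let V be a faithful irreducible representation of G over a field of positive characteristic, finite-dimensional. Then the subspace of V fixed by P has dimension less than half the dimension of V. -/
theorem result {G : Type*} [Group G] [Finite G] [Group.IsSolvable G]
    {p : ℕ} [Fact p.Prime] (hp : 3 < p) (P : Subgroup G) (hP : Nat.card P = p) (hgen : Subgroup.normalClosure (P : Set G) = ⊤)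
    {k : Type*} [Field k] (ℓ : ℕ) [Fact ℓ.Prime] [CharP k ℓ]
    {V : Type*} [AddCommGroup V] [Module k V] [FiniteDimensional k V]
    (ρ : Representation k G V) [ρ.IsIrreducible] (hfaith : Function.Injective ρ) :
    2 * Module.finrank k ↥(⨅ g : ↥P, LinearMap.ker (ρ (g : G) - LinearMap.id)) < Module.finrank k V := by
  have hpp : p.Prime := Fact.out
  obtain ⟨x, hx⟩ : ∃ x : ↥P, x ≠ 1 := by
    haveI : Nontrivial ↥P := Finite.one_lt_card_iff_nontrivial.1 (by rw [hP]; exact hpp.one_lt)
    exact exists_ne 1
  have hxp : (x : G) ^ p = 1 := by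
    rw [← hP, ← SubgroupClass.coe_pow, pow_card_eq_one']; rfl
  have hx1 : (x : G) ≠ 1 := fun h => hx (Subtype.ext h)
  have hPx : P = Subgroup.zpowers (x : G) := by
    refine (Subgroup.eq_of_le_of_card_ge (Subgroup.zpowers_le.2 x.2) ?_).symm
    rw [Nat.card_zpowers, orderOf_eq_prime hxp hx1, hP]
  have hgen' : Subgroup.normalClosure ({(x : G)} : Set G) = ⊤ := by
    rw [eq_top_iff, ← hgen]
    refine Subgroup.normalClosure_le_normal (fun g hg => ?_)
    have hg' : g ∈ Subgroup.zpowers (x : G) := hPx.le hg
    exact Subgroup.zpowers_le.2 (Subgroup.subset_normalClosure (Set.mem_singleton (x : G))) hg'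
  have hirr : FixedHalf.Irr ρ := fun U hU => by
    rcases eq_bot_or_eq_top (⟨U, fun g v hv => hU g v hv⟩ : Subrepresentation ρ) with h | h
    · exact Or.inl (congrArg Subrepresentation.toSubmodule h)
    · exact Or.inr (congrArg Subrepresentation.toSubmodule h)
  haveI : Nontrivial V := by
    obtain ⟨a, b, hab⟩ := exists_pair_ne (Subrepresentation ρ)
    by_contra h
    rw [not_nontrivial_iff_subsingleton] at h
    haveI := h
    exact hab (SetLike.ext fun v => ⟨fun _ => Subsingleton.elim (0 : V) v ▸ b.toSubmodule.zero_mem, fun _ => Subsingleton.elim (0 : V) v ▸ a.toSubmodule.zero_mem⟩)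
  refine lt_of_le_of_lt ?_ (FixedHalf.fixed_lt_half hpp hp ρ hirr hfaith (x : G) hxp hx1 hgen')
  refine Nat.mul_le_mul_left 2 (Submodule.finrank_mono ((iInf_le _ x).trans ?_))
  exact le_rfl

end Cfsg.Agent.S3818
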