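import Cfsg.Statements.S3819
import Cfsg.Agent.Lib.Basics.CoprimeAction
import Cfsg.Agent.Lib.Basics.Cores
import Cfsg.Agent.Lib.Transfer.Quadratic
import Cfsg.Agent.Lib.ConjFunctor.Basic
-- import your own Cfsg.Agent.* helpers here

set_option autoImplicit false
open Cfsg

namespace Cfsg.Agent.S3819

open Subgroup Cfsg Cfsg.Agent
open scoped commutatorElement

set_option linter.style.haveILetI false
set_option linter.unusedSectionVars false

variable {G : Type*} [Group G] [Finite G]

theorem centralizer_zpowers (z : G) :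
    centralizer ((zpowers z : Subgroup G) : Set G) = centralizer ({z} : Set G) := by
  refine le_antisymm (centralizer_le (Set.singleton_subset_iff.mpr (mem_zpowers z))) fun x hx =>
    mem_centralizer_iff.mpr ?_
  rintro _ ⟨i, rfl⟩
  exact ((show Commute x z from mem_centralizer_singleton_iff.mp hx).zpow_right i).eq.symm

/-- The statement when `O_{q'}(H) = 1`. -/
theorem core_lemma {p q : ℕ} [hp : Fact p.Prime] [hq : Fact q.Prime] (P H : Subgroup G) [H.Normal]
    [⁅H, P⁆.Normal] (hPp : IsPGroup p P) (hsol : Group.IsSolvable ↥⁅H, P⁆) (hcop : (Nat.card P).Coprime (Nat.card H))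
    (hO : ∀ N : Subgroup G, N ≤ H → H ≤ normalizer (N : Set G) → (Nat.card N).Coprime q → N = ⊥)
    {z : G} (hzH : z ∈ H) (hzP : ∀ x ∈ P, Commute x z) (hz : ∃ k, orderOf z = q ^ k)
    (Y W : Subgroup G) (hY : Y ≤ H ⊓ centralizer ({z} : Set G))
    (hYn : H ⊓ centralizer ({z} : Set G) ≤ normalizer (Y : Set G)) (hPY : P ≤ normalizer (Y : Set G))
    (hYq : (Nat.card Y).Coprime q)
    (hW : W ≤ H ⊓ centralizer (P : Set G)) (hWn : H ⊓ centralizer (P : Set G) ≤ normalizer (W : Set G))
    (hWq : (Nat.card W).Coprime q) : ⁅Y, P⁆ = ⊥ ∧ Y ⊓ W = ⊥ := by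
  haveI := hsol
  set K := ⁅H, P⁆
  have hKH : K ≤ H := le_normalizer_iff_commutator_le_left.mp (by rw [normalizer_eq_top_iff.mpr inferInstance]; exact le_top)
  have hOK : pPrimeCore q ↥K = ⊥ := by
    haveI : ((pPrimeCore q ↥K).map K.subtype).Normal := ConjAct.normal_of_characteristic_of_normal
    exact (Subgroup.map_eq_bot_iff_of_injective _ K.subtype_injective).mp
      (hO _ ((map_subtype_le _).trans hKH) (by rw [normalizer_eq_top_iff.mpr inferInstance]; exact le_top)
        (by rw [card_map_of_injective K.subtype_injective]; exact Basics.pPrimeCore_coprime q))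
  set R := (pCore q ↥K).map K.subtype
  haveI : R.Normal := ConjAct.normal_of_characteristic_of_normal
  have hRq : IsPGroup q R := (Basics.pCore_isPGroup q).map _
  have hRK : R ≤ K := map_subtype_le _
  have hRC : ∀ k ∈ K, (∀ r ∈ R, r * k = k * r) → k ∈ R := by
    intro k hk hc
    refine ⟨⟨k, hk⟩, ?_, rfl⟩
    rw [← Basics.fittingSubgroup_eq_pCore hOK]
    refine Basics.centralizer_fittingSubgroup_le (G := ↥K) (mem_centralizer_iff.mpr fun f hf => Subtype.ext ?_)
    rw [SetLike.mem_coe, Basics.fittingSubgroup_eq_pCore hOK] at hf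
    exact hc _ ⟨f, hf, rfl⟩
  have hYR : ∀ y ∈ Y, ∀ r ∈ R, Commute y r := by
    intro y hy
    obtain ⟨k, hk⟩ := hz
    have hyz : Commute y z := mem_centralizer_singleton_iff.mp (hY hy).2
    have hoy : (orderOf y).Coprime q := hYq.coprime_dvd_left (orderOf_dvd_natCard Y hy)
    refine Transfer.commute_of_commute_fixed (P := zpowers z) (IsPGroup.of_card (n := k) (by rw [Nat.card_zpowers, hk]))
      hRq (by rw [normalizer_eq_top_iff.mpr inferInstance]; exact le_top) hoy
      (by rw [normalizer_eq_top_iff.mpr inferInstance]; exact mem_top y) ?_ fun r hr hrz => ?_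
    · rintro _ ⟨i, rfl⟩
      exact hyz.zpow_right i
    · have hr' : r ∈ H ⊓ centralizer ({z} : Set G) :=
        ⟨hKH (hRK hr), mem_centralizer_singleton_iff.mpr (hrz z (mem_zpowers z)).symm.eq⟩
      have h1 : y * r * y⁻¹ * r⁻¹ ∈ Y ⊓ R := by
        refine ⟨?_, R.mul_mem ((inferInstance : R.Normal).conj_mem r hr y) (R.inv_mem hr)⟩
        rw [mul_assoc y r, mul_assoc y]
        exact Y.mul_mem hy ((mem_normalizer_iff.mp (hYn hr') y⁻¹).mp (Y.inv_mem hy))
      have h2 : Y ⊓ R = ⊥ := by
        obtain ⟨i, hi⟩ := hRq.exists_card_eq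
        exact (disjoint_of_coprime_natCard (hi ▸ hYq.pow_right i)).eq_bot
      rw [h2, mem_bot, mul_inv_eq_one, mul_inv_eq_iff_eq_mul] at h1
      exact h1
  haveI : (centralizer (R : Set G)).Normal := normal_centralizer
  set C := H ⊓ centralizer (R : Set G) with hC
  have hYC : Y ≤ C := le_inf (hY.trans inf_le_left) fun y hy => mem_centralizer_iff.mpr fun r hr => (hYR y hy r hr).eq.symm
  have hCK : ∀ c ∈ C, ∀ x ∈ P, ⁅c, x⁆ ∈ R := by
    intro c hc x hx
    have h1 : ⁅c, x⁆ ∈ C := by
      rw [commutatorElement_def, mul_assoc c, mul_assoc c]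
      exact C.mul_mem hc ((inferInstance : C.Normal).conj_mem _ (C.inv_mem hc) x)
    exact hRC _ (commutator_mem_commutator hc.1 hx) (mem_centralizer_iff.mp h1.2)
  refine ⟨eq_bot_iff.mpr (commutator_le.mpr fun y hy x hx => ?_), ?_⟩
  · have h1 : ⁅y, x⁆ ∈ Y := by
      rw [commutatorElement_def, mul_assoc y, mul_assoc y]
      exact Y.mul_mem hy ((mem_normalizer_iff.mp (hPY hx) y⁻¹).mp (Y.inv_mem hy))
    obtain ⟨i, hi⟩ := hRq.exists_card_eq
    exact (disjoint_of_coprime_natCard (hi ▸ hYq.pow_right i)).le_bot ⟨h1, hCK y (hYC hy) x hx⟩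
  · set W' := W ⊓ C
    have hW'P : W' ≤ H ⊓ centralizer (P : Set G) := inf_le_left.trans hW
    have hCn : C ≤ normalizer (W' : Set G) := by
      have hPC : P ≤ normalizer (C : Set G) := by rw [normalizer_eq_top_iff.mpr inferInstance]; exact le_top
      rw [← Basics.commutator_sup_inf_centralizer P C hPC (hcop.coprime_dvd_right (card_dvd_of_le inf_le_left))
        (Or.inl (by
          haveI := hPp.isNilpotent
          infer_instance))]
      refine sup_le ?_ ?_
      · refine (commutator_le.mpr fun c hc x hx => hCK c hc x hx).trans fun r hr =>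
          centralizer_le_normalizer _ (mem_centralizer_iff.mpr fun w hw => ?_)
        exact (mem_centralizer_iff.mp hw.2.2 r hr).symm
      · refine fun c hc => mem_normalizer_iff.mpr fun w => ?_
        have h1 := mem_normalizer_iff.mp (hWn ⟨hc.1.1, hc.2⟩) w
        have h2 := mem_normalizer_iff.mp (show c ∈ normalizer (C : Set G) from le_normalizer hc.1) w
        exact ⟨fun h => ⟨h1.mp h.1, h2.mp h.2⟩, fun h => ⟨h1.mpr h.1, h2.mpr h.2⟩⟩
    haveI : (W'.subgroupOf C).Normal := normal_subgroupOf_of_le_normalizer hCn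
    haveI : ((pPrimeCore q ↥C).map C.subtype).Normal := ConjAct.normal_of_characteristic_of_normal
    have hb : (pPrimeCore q ↥C).map C.subtype = ⊥ :=
      hO _ ((map_subtype_le _).trans inf_le_left) (by rw [normalizer_eq_top_iff.mpr inferInstance]; exact le_top)
        (by rw [card_map_of_injective C.subtype_injective]; exact Basics.pPrimeCore_coprime q)
    refine eq_bot_iff.mpr fun y hy => hb.le ⟨⟨y, hYC hy.1⟩, Basics.le_pPrimeCore (N := W'.subgroupOf C) ?_
      ⟨hy.2, hYC hy.1⟩, rfl⟩
    rw [Basics.card_subgroupOf inf_le_right]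
    exact hWq.coprime_dvd_left (card_dvd_of_le inf_le_left)

/-- The normalizer of `D` normalizes the `q'`-core of `D`. -/
theorem normalizer_le_core (q : ℕ) (D : Subgroup G) :
    normalizer (D : Set G) ≤ normalizer (((pPrimeCore q ↥D).map D.subtype : Subgroup G) : Set G) := by
  intro g hg
  rw [← ConjFunctor.cj_eq_iff] at hg ⊢
  let e : D ≃* D := (D.equivMapOfInjective (MulAut.conj g).toMonoidHom (MulAut.conj g).injective).trans
    (MulEquiv.subgroupCongr hg)
  have he : (pPrimeCore q ↥D).map e.toMonoidHom = pPrimeCore q ↥D :=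
    characteristic_iff_map_eq.mp inferInstance e
  show ((pPrimeCore q ↥D).map D.subtype).map (MulAut.conj g).toMonoidHom = _
  conv_rhs => rw [← he]
  rw [map_map, map_map]
  rfl

section Final

/-- Let G be a finite group with Sylow p-subgroup P and H = O_{p'}(G), and suppose G = PH and the commutator subgroup [H, P] is solvable. Let q be a prime and z an element of q-power order of C_H(P). Then (O_{q'}(C_H(z)) ∩ O_{q'}(C_H(P))) · [O_{q'}(C_H(z)), P] ≤ O_{q'}(H). -/
theorem result {G : Type*} [Group G] [Finite G] {p : ℕ} [Fact p.Prime]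
    (P : Sylow p G) (hPH : Cfsg.pPrimeCore p G ⊔ (P : Subgroup G) = ⊤)
    (hsol : Group.IsSolvable ↥⁅Cfsg.pPrimeCore p G, (P : Subgroup G)⁆)
    {q : ℕ} [Fact q.Prime] (z : G) (hzH : z ∈ Cfsg.pPrimeCore p G) (hzP : z ∈ Subgroup.centralizer ((P : Subgroup G) : Set G))
    (hz : ∃ k : ℕ, orderOf z = q ^ k) :
    ((Cfsg.pPrimeCore q ↥(Cfsg.pPrimeCore p G ⊓ Subgroup.centralizer ({z} : Set G))).map
        (Cfsg.pPrimeCore p G ⊓ Subgroup.centralizer ({z} : Set G)).subtype ⊓
      (Cfsg.pPrimeCore q ↥(Cfsg.pPrimeCore p G ⊓ Subgroup.centralizer ((P : Subgroup G) : Set G))).map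
        (Cfsg.pPrimeCore p G ⊓ Subgroup.centralizer ((P : Subgroup G) : Set G)).subtype) ⊔
    ⁅(Cfsg.pPrimeCore q ↥(Cfsg.pPrimeCore p G ⊓ Subgroup.centralizer ({z} : Set G))).map
        (Cfsg.pPrimeCore p G ⊓ Subgroup.centralizer ({z} : Set G)).subtype, (P : Subgroup G)⁆ ≤
    (Cfsg.pPrimeCore q ↥(Cfsg.pPrimeCore p G)).map (Cfsg.pPrimeCore p G).subtype := by
  set H := pPrimeCore p G
  haveI := hsol
  have hcop : (Nat.card ↥(P : Subgroup G)).Coprime (Nat.card H) := by
    obtain ⟨i, hi⟩ := P.2.exists_card_eq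
    rw [hi]; exact (Basics.pPrimeCore_coprime p).symm.pow_left i
  haveI hKn : ⁅H, (P : Subgroup G)⁆.Normal := by
    refine normalizer_eq_top_iff.mp (top_unique ?_)
    rw [← hPH]
    have hH : H ≤ normalizer ((⁅H, (P : Subgroup G)⁆ : Subgroup G) : Set G) := by
      have key : ∀ h ∈ H, ⁅H, (P : Subgroup G)⁆ ≤
          ⁅H, (P : Subgroup G)⁆.comap (MulAut.conj h).toMonoidHom := fun h hh => commutator_le.mpr fun h' hh' x hx => by
        show h * ⁅h', x⁆ * h⁻¹ ∈ ⁅H, (P : Subgroup G)⁆
        rw [show h * ⁅h', x⁆ * h⁻¹ = ⁅h * h', x⁆ * ⁅h, x⁆⁻¹ by simp [commutatorElement_def, mul_assoc]]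
        exact mul_mem (commutator_mem_commutator (H.mul_mem hh hh') hx) (inv_mem (commutator_mem_commutator hh hx))
      exact fun h hh => mem_normalizer_iff.mpr fun c => ⟨fun hc => key h hh hc, fun hc => by
        have := key h⁻¹ (H.inv_mem hh) hc
        simpa [mul_assoc] using this⟩
    refine sup_le hH ?_
    have key : ∀ g ∈ (P : Subgroup G), ⁅H, (P : Subgroup G)⁆ ≤
        ⁅H, (P : Subgroup G)⁆.comap (MulAut.conj g).toMonoidHom := fun g hg => commutator_le.mpr fun h' hh' x hx => by
      show g * ⁅h', x⁆ * g⁻¹ ∈ ⁅H, (P : Subgroup G)⁆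
      rw [show g * ⁅h', x⁆ * g⁻¹ = ⁅g * h' * g⁻¹, g * x * g⁻¹⁆ by simp [commutatorElement_def, mul_assoc]]
      exact commutator_mem_commutator ((inferInstance : H.Normal).conj_mem h' hh' g) (mul_mem (mul_mem hg hx) (inv_mem hg))
    exact fun g hg => mem_normalizer_iff.mpr fun c => ⟨fun hc => key g hg hc, fun hc => by
      have := key g⁻¹ (inv_mem hg) hc
      simpa [mul_assoc] using this⟩
  set N := (pPrimeCore q ↥H).map H.subtype
  haveI : N.Normal := ConjAct.normal_of_characteristic_of_normal
  have hNH : N ≤ H := map_subtype_le _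
  have hNq : (Nat.card N).Coprime q := by
    rw [card_map_of_injective H.subtype_injective]; exact Basics.pPrimeCore_coprime q
  set π := QuotientGroup.mk' N
  haveI : (H.map π).Normal := Normal.map inferInstance π (QuotientGroup.mk'_surjective N)
  haveI : ⁅H.map π, (P : Subgroup G).map π⁆.Normal := by
    rw [← map_commutator]; exact Normal.map inferInstance π (QuotientGroup.mk'_surjective N)
  have hsol' : Group.IsSolvable ↥⁅H.map π, (P : Subgroup G).map π⁆ := by
    rw [← map_commutator]
    exact solvable_of_surjective (π.subgroupMap_surjective ⁅H, (P : Subgroup G)⁆)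
  have hO : ∀ M : Subgroup (G ⧸ N), M ≤ H.map π → H.map π ≤ normalizer (M : Set (G ⧸ N)) →
      (Nat.card M).Coprime q → M = ⊥ := by
    intro M hM hn hMq
    have hMH : M.comap π ≤ H := by
      refine (comap_mono hM).trans ?_
      rw [comap_map_eq, QuotientGroup.ker_mk', sup_eq_left.mpr hNH]
    haveI : ((M.comap π).subgroupOf H).Normal := ⟨fun a ha b => by
      show π ((b : G) * a * (b : G)⁻¹) ∈ M
      rw [map_mul, map_mul, map_inv]
      exact (mem_normalizer_iff.mp (hn (mem_map_of_mem π b.2)) _).mp ha⟩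
    have hc : (Nat.card ↥((M.comap π).subgroupOf H)).Coprime q := by
      rw [Basics.card_subgroupOf hMH]
      have h1 : Nat.card ↥(M.comap π) ∣ Nat.card M * Nat.card N := by
        have h1 := relIndex_ker (K := M.comap π) π
        rw [QuotientGroup.ker_mk', map_comap_eq_self_of_surjective (QuotientGroup.mk'_surjective N)] at h1
        have h2 := card_mul_index (N.subgroupOf (M.comap π))
        have hle : N ≤ M.comap π := fun n hn => by
          show π n ∈ M
          rw [show π n = 1 from (QuotientGroup.eq_one_iff n).mpr hn]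
          exact M.one_mem
        rw [Basics.card_subgroupOf hle, show (N.subgroupOf (M.comap π)).index = Nat.card M from h1] at h2
        exact ⟨1, by rw [mul_one, ← h2, mul_comm]⟩
      exact (hMq.mul_left hNq).coprime_dvd_left h1
    refine (eq_bot_iff_forall _).mpr fun m hm => ?_
    obtain ⟨g, rfl⟩ := QuotientGroup.mk'_surjective N m
    exact (QuotientGroup.eq_one_iff g).mpr ⟨⟨g, hMH hm⟩, Basics.le_pPrimeCore hc hm, rfl⟩
  have hzc : ∀ x ∈ (P : Subgroup G), Commute x z := fun x hx => mem_centralizer_iff.mp hzP x hx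
  set D := H ⊓ centralizer ({z} : Set G)
  set E := H ⊓ centralizer ((P : Subgroup G) : Set G)
  set Y := (pPrimeCore q ↥D).map D.subtype
  set W := (pPrimeCore q ↥E).map E.subtype
  obtain ⟨k, hk⟩ := hz
  have hzN : (Nat.card (zpowers z)).Coprime (Nat.card N) := by
    rw [Nat.card_zpowers, hk]; exact (hNq.symm).pow_left k
  have hDimg : D.map π = H.map π ⊓ centralizer ({π z} : Set (G ⧸ N)) := by
    have h1 := Basics.map_inf_centralizer (zpowers z) H N hNH hzN (Or.inl inferInstance)
    rwa [centralizer_zpowers, MonoidHom.map_zpowers, centralizer_zpowers] at h1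
  have hEimg : E.map π = H.map π ⊓ centralizer (((P : Subgroup G).map π : Subgroup (G ⧸ N)) : Set (G ⧸ N)) :=
    Basics.map_inf_centralizer (P : Subgroup G) H N hNH (hcop.coprime_dvd_right (card_dvd_of_le hNH))
      (Or.inl (by haveI := P.2.isNilpotent; infer_instance))
  have hPD : (P : Subgroup G) ≤ normalizer (D : Set G) := fun g hg => mem_normalizer_iff.mpr fun x => by
    have hgz : Commute g z := hzc g hg
    constructor
    · intro hx
      refine ⟨(inferInstance : H.Normal).conj_mem x hx.1 g, mem_centralizer_singleton_iff.mpr ?_⟩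
      exact ((hgz.mul_left (show Commute x z from mem_centralizer_singleton_iff.mp hx.2)).mul_left hgz.inv_left).eq
    · intro hx
      refine ⟨by simpa [mul_assoc] using (inferInstance : H.Normal).conj_mem _ hx.1 g⁻¹,
        mem_centralizer_singleton_iff.mpr ?_⟩
      have := ((hgz.inv_left.mul_left
        (show Commute (g * x * g⁻¹) z from mem_centralizer_singleton_iff.mp hx.2)).mul_left hgz)
      simpa [mul_assoc] using this.eq
  have hnorm : ∀ {U V : Subgroup G}, U ≤ normalizer (V : Set G) →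
      U.map π ≤ normalizer ((V.map π : Subgroup (G ⧸ N)) : Set (G ⧸ N)) := fun h =>
    (map_mono h).trans (le_normalizer_map π)
  obtain ⟨h1, h2⟩ := core_lemma (p := p) (q := q) ((P : Subgroup G).map π) (H.map π) (P.2.map π) hsol'
    ((hcop.coprime_dvd_left (card_map_dvd _ _)).coprime_dvd_right (card_map_dvd _ _)) hO
    (z := π z) (mem_map_of_mem π hzH) (by
      rintro _ ⟨x, hx, rfl⟩
      exact (hzc x hx).map π)
    (by
      obtain ⟨i, -, hi⟩ := (Nat.dvd_prime_pow (Fact.out : q.Prime)).mp
        (show orderOf (π z) ∣ q ^ k from hk ▸ orderOf_map_dvd π z)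
      exact ⟨i, hi⟩)
    (Y.map π) (W.map π)
    (hDimg ▸ map_mono (map_subtype_le _))
    (hDimg ▸ hnorm (le_normalizer.trans (normalizer_le_core q D)))
    (hnorm (hPD.trans (normalizer_le_core q D)))
    ((Basics.pPrimeCore_coprime q).coprime_dvd_left
      ((card_map_dvd _ _).trans (card_map_dvd _ _)))
    (hEimg ▸ map_mono (map_subtype_le _))
    (hEimg ▸ hnorm (le_normalizer.trans (normalizer_le_core q E)))
    ((Basics.pPrimeCore_coprime q).coprime_dvd_left
      ((card_map_dvd _ _).trans (card_map_dvd _ _)))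
  refine sup_le ?_ ?_
  · intro x hx
    have := h2.le ⟨mem_map_of_mem π hx.1, mem_map_of_mem π hx.2⟩
    exact (QuotientGroup.eq_one_iff x).mp (mem_bot.mp this)
  · rw [← map_commutator] at h1
    intro x hx
    have := h1.le (mem_map_of_mem π hx)
    exact (QuotientGroup.eq_one_iff x).mp (mem_bot.mp this)

end Final

end Cfsg.Agent.S3819
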