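import Cfsg.Statements.S3820
import Mathlib

set_option autoImplicit false
open Cfsg

namespace Cfsg.Agent.S3820

/-- Call a subgroup H of G pronormal if H and gHg⁻¹ are conjugate inside ⟨H, gHg⁻¹⟩ for every g ∈ G. Let S ≤ H ≤ G be subgroups of a finite group with S pronormal in G (for instance S a Sylow subgroup). Then H is pronormal in G if and only if H and gHg⁻¹ are conjugate inside ⟨H, gHg⁻¹⟩ for every g ∈ N_G(S). In particular H is pronormal whenever N_G(S) ≤ H. -/
theorem result {G : Type*} [Group G] [Finite G] (S H : Subgroup G) (hSH : S ≤ H)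
    (hS : Cfsg.IsPronormal S) :
    Cfsg.IsPronormal H ↔
      ∀ g ∈ Subgroup.normalizer (S : Set G), ∃ w ∈ H ⊔ H.map (MulAut.conj g).toMonoidHom,
        H.map (MulAut.conj g).toMonoidHom = H.map (MulAut.conj w).toMonoidHom := by
  refine ⟨fun h g _ => h g, fun h g => ?_⟩
  obtain ⟨x, hx, hxS⟩ := hS g
  set K := H ⊔ H.map (MulAut.conj g).toMonoidHom with hK
  have hxK : x ∈ K := (sup_le_sup hSH (Subgroup.map_mono hSH) :
    S ⊔ S.map (MulAut.conj g).toMonoidHom ≤ K) hx
  have hcomp : ∀ (u v : G) (L : Subgroup G), (L.map (MulAut.conj v).toMonoidHom).map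
      (MulAut.conj u).toMonoidHom = L.map (MulAut.conj (u * v)).toMonoidHom := by
    intro u v L
    rw [Subgroup.map_map]
    congr 1
    ext y
    simp [mul_assoc]
  have hn : x⁻¹ * g ∈ Subgroup.normalizer (S : Set G) := by
    have h1 : S.map (MulAut.conj (x⁻¹ * g)).toMonoidHom = S := by
      rw [← hcomp, hxS, hcomp, inv_mul_cancel, map_one]
      exact Subgroup.map_id S
    rw [Subgroup.mem_normalizer_iff]
    intro y
    constructor
    · intro hy
      have h2 : (MulAut.conj (x⁻¹ * g)).toMonoidHom y ∈ S.map (MulAut.conj (x⁻¹ * g)).toMonoidHom :=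
        Subgroup.mem_map_of_mem _ hy
      rw [h1] at h2
      exact h2
    · intro hy
      rw [← h1] at hy
      obtain ⟨z, hz, hze⟩ := hy
      rwa [← (MulAut.conj (x⁻¹ * g)).injective hze]
  obtain ⟨w, hw, hwH⟩ := h _ hn
  refine ⟨x * w, K.mul_mem hxK ((sup_le le_sup_left ?_ :
    H ⊔ H.map (MulAut.conj (x⁻¹ * g)).toMonoidHom ≤ K) hw), ?_⟩
  · rintro _ ⟨y, hy, rfl⟩
    have h3 : g * y * g⁻¹ ∈ K :=
      (le_sup_right : H.map (MulAut.conj g).toMonoidHom ≤ K) ⟨y, hy, rfl⟩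
    show x⁻¹ * g * y * (x⁻¹ * g)⁻¹ ∈ K
    rw [show x⁻¹ * g * y * (x⁻¹ * g)⁻¹ = x⁻¹ * (g * y * g⁻¹) * x by group]
    exact K.mul_mem (K.mul_mem (K.inv_mem hxK) h3) hxK
  · rw [← hcomp, ← hwH, hcomp, mul_inv_cancel_left]

end Cfsg.Agent.S3820
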