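import Cfsg.Statements.S3821
import Cfsg.Agent.Lib.Components.Subnormal

set_option autoImplicit false
open Cfsg

namespace Cfsg.Agent.S3821

/-- Let A be a normal subgroup of the finite group G and H a subgroup of A. Then H is pronormal in G (H and gHg⁻¹ conjugate inside ⟨H, gHg⁻¹⟩ for every g ∈ G) if and only if H is pronormal in A and G = A · N_G(H). -/
theorem result {G : Type*} [Group G] [Finite G] (A H : Subgroup G) [A.Normal] (hHA : H ≤ A) :
    Cfsg.IsPronormal H ↔ (Cfsg.IsPronormal (H.subgroupOf A) ∧ A ⊔ Subgroup.normalizer (H : Set G) = ⊤) := by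
  have hcomp : ∀ (u v : G) (L : Subgroup G), (L.map (MulAut.conj v).toMonoidHom).map
      (MulAut.conj u).toMonoidHom = L.map (MulAut.conj (u * v)).toMonoidHom := by
    intro u v L
    rw [Subgroup.map_map]
    congr 1
    ext y
    simp [mul_assoc]
  have hconj : ∀ g : G, H.map (MulAut.conj g).toMonoidHom ≤ A := by
    rintro g _ ⟨y, hy, rfl⟩
    exact (inferInstance : A.Normal).conj_mem y (hHA hy) g
  have hsub : ∀ a : A, ((H.subgroupOf A).map (MulAut.conj a).toMonoidHom).map A.subtype =
      H.map (MulAut.conj (a : G)).toMonoidHom := by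
    intro a
    conv_rhs => rw [← Subgroup.map_subgroupOf_eq_of_le hHA]
    rw [Subgroup.map_map, Subgroup.map_map]
    rfl
  constructor
  · intro h
    refine ⟨fun a => ?_, ?_⟩
    · obtain ⟨x, hx, hxe⟩ := h (a : G)
      have hxA : x ∈ A := (sup_le hHA (hconj _)) hx
      refine ⟨⟨x, hxA⟩, ?_, ?_⟩
      · rw [← Subgroup.mem_map_iff_mem A.subtype_injective, Subgroup.map_sup, hsub,
          Subgroup.map_subgroupOf_eq_of_le hHA]
        exact hx
      · apply Subgroup.map_injective A.subtype_injective
        rw [hsub, hsub]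
        exact hxe
    · rw [eq_top_iff]
      intro g _
      obtain ⟨x, hx, hxe⟩ := h g
      have hxA : x ∈ A := (sup_le hHA (hconj g)) hx
      have hn : x⁻¹ * g ∈ Subgroup.normalizer (H : Set G) :=
        Components.mem_normalizer_of_map_conj_eq (by
          rw [← hcomp, hxe, hcomp, inv_mul_cancel, map_one]
          exact Subgroup.map_id H)
      rw [← mul_inv_cancel_left x g]
      exact Subgroup.mul_mem_sup hxA hn
  · rintro ⟨h, htop⟩ g
    have hg : g ∈ ((A ⊔ Subgroup.normalizer (H : Set G) : Subgroup G) : Set G) := by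
      rw [htop]; exact Subgroup.mem_top g
    rw [Subgroup.normal_mul] at hg
    obtain ⟨a, ha, n, hn, rfl⟩ := hg
    obtain ⟨x, hx, hxe⟩ := h ⟨a, ha⟩
    have h1 := congrArg (Subgroup.map A.subtype) hxe
    rw [hsub, hsub] at h1
    have h2 : H.map (MulAut.conj (a * n)).toMonoidHom = H.map (MulAut.conj a).toMonoidHom := by
      rw [← hcomp, Components.map_conj_eq_of_mem_normalizer hn]
    refine ⟨(x : G), ?_, by rw [h2]; exact h1⟩
    rw [h2]
    have h3 : (x : G) ∈ (H.subgroupOf A ⊔
        (H.subgroupOf A).map (MulAut.conj (⟨a, ha⟩ : A)).toMonoidHom).map A.subtype := ⟨x, hx, rfl⟩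
    rwa [Subgroup.map_sup, hsub, Subgroup.map_subgroupOf_eq_of_le hHA] at h3

end Cfsg.Agent.S3821
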